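import Cfsg.Statements.S1459
import Cfsg.Agent.Lib.OddLocal.Coprime
import Cfsg.Agent.Lib.Coprime.Basic
import Cfsg.Agent.Lib.Coprime.SchurZassenhaus

set_option autoImplicit false
open Cfsg

namespace Cfsg.Agent.S1459

open scoped commutatorElement

theorem part_a {G : Type*} [Group G] [Finite G] [Group.IsSolvable G] (H K : Subgroup G)
    (hHn : H.Normal) (hcop : (Nat.card H).Coprime H.index) (hc : Subgroup.IsComplement' H K)
    (hH : H ≤ commutator G) :
    H = ⁅H, K⁆ ∧ H ⊓ Subgroup.centralizer (K : Set G) ≤ ⁅H, H⁆ := by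
  haveI := hHn
  have hKn : K ≤ Subgroup.normalizer (H : Set G) := Subgroup.le_normalizer_of_normal
  have hcop' : (Nat.card H).Coprime (Nat.card K) := by
    rwa [← hc.symm.index_eq_card]
  have hLH : ⁅H, K⁆ ≤ H := Subgroup.commutator_le_left H K
  let L := ⁅H, K⁆
  have hLn : L.Normal := by
    rw [← Subgroup.normalizer_eq_top_iff, ← top_le_iff, ← hc.sup_eq_top]
    exact sup_le (Subgroup.normalizer_commutator_ge_left H K)
      (Subgroup.normalizer_commutator_ge_right H K)
  haveI := hLn
  let M := ⁅H, H⁆ ⊔ L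
  have hMH : M ≤ H := sup_le (Subgroup.commutator_le_self H) hLH
  let π := QuotientGroup.mk' M
  have hHc : ∀ h ∈ H, ∀ y, π h * π y = π y * π h := by
    intro h hh y
    rw [← commutatorElement_eq_one_iff_mul_comm, ← map_commutatorElement, QuotientGroup.mk'_apply,
      QuotientGroup.eq_one_iff]
    obtain ⟨a, ha, k, hk, rfl⟩ := Cfsg.Agent.Lib.Coprime.exists_mul_of_mem_sup hKn
      (hc.sup_eq_top ▸ Subgroup.mem_top y : y ∈ H ⊔ K)
    rw [commutatorElement_mul_right_eq_mul_conj]
    have h1 : ⁅h, a⁆ ∈ M := Subgroup.mem_sup_left (Subgroup.commutator_mem_commutator hh ha)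
    have h2 : ⁅h, k⁆ ∈ M := Subgroup.mem_sup_right (Subgroup.commutator_mem_commutator hh hk)
    have h3 : a * ⁅h, k⁆ * a⁻¹ ∈ M := (inferInstance : M.Normal).conj_mem _ h2 a
    simpa [mul_assoc] using mul_mem h1 h3
  have hG : commutator G ≤ M ⊔ ⁅K, K⁆ := by
    have h1 : (commutator G).map π ≤ (⁅K, K⁆).map π := by
      rw [commutator_def, Subgroup.map_commutator, Subgroup.map_commutator, Subgroup.commutator_le]
      rintro _ ⟨x, -, rfl⟩ _ ⟨y, -, rfl⟩
      obtain ⟨a, ha, k, hk, rfl⟩ := Cfsg.Agent.Lib.Coprime.exists_mul_of_mem_sup hKn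
        (hc.sup_eq_top ▸ Subgroup.mem_top x : x ∈ H ⊔ K)
      obtain ⟨b, hb, l, hl, rfl⟩ := Cfsg.Agent.Lib.Coprime.exists_mul_of_mem_sup hKn
        (hc.sup_eq_top ▸ Subgroup.mem_top y : y ∈ H ⊔ K)
      have ca : ∀ y, Commute (π a) (π y) := hHc a ha
      have cb : ∀ y, Commute (π b) (π y) := hHc b hb
      have e : ⁅π (a * k), π (b * l)⁆ = ⁅π k, π l⁆ := by
        rw [map_mul, map_mul, commutatorElement_def, commutatorElement_def]
        calc π a * π k * (π b * π l) * (π a * π k)⁻¹ * (π b * π l)⁻¹
            = π a * (π k * π b) * π l * (π k)⁻¹ * (π a)⁻¹ * (π l)⁻¹ * (π b)⁻¹ := by group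
          _ = π a * (π b * π (k * l * k⁻¹)) * (π a)⁻¹ * (π l)⁻¹ * (π b)⁻¹ := by
              rw [← (cb k).eq, map_mul, map_mul, map_inv]; group
          _ = π b * π (k * l * k⁻¹) * ((π l)⁻¹ * (π b)⁻¹) := by
              rw [← map_mul, (ca (b * (k * l * k⁻¹))).eq, map_mul]; group
          _ = π (k * l * k⁻¹) * (π l)⁻¹ := by
              rw [← map_inv π l, ← (cb l⁻¹).inv_left.eq, (cb (k * l * k⁻¹)).eq]; group
          _ = _ := by simp only [map_mul, map_inv]
      rw [e]
      exact Subgroup.commutator_mem_commutator (Subgroup.mem_map_of_mem _ hk) (Subgroup.mem_map_of_mem _ hl)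
    rw [Subgroup.map_le_iff_le_comap, Subgroup.comap_map_eq, QuotientGroup.ker_mk', sup_comm] at h1
    exact h1
  have hHM : H = M := by
    refine le_antisymm (fun h hh => ?_) hMH
    obtain ⟨m, hm, k, hk, rfl⟩ := Cfsg.Agent.Lib.Coprime.exists_mul_of_mem_sup (N := M)
      Subgroup.le_normalizer_of_normal (hG (hH hh))
    have : k ∈ H ⊓ K := ⟨by simpa using mul_mem (inv_mem (hMH hm)) hh, Subgroup.commutator_le_self K hk⟩
    rw [disjoint_iff.mp hc.disjoint, Subgroup.mem_bot] at this
    rwa [this, mul_one]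
  have hHL : H = L := by
    refine le_antisymm ?_ hLH
    let L' := L.subgroupOf H
    haveI : L'.Normal := hLn.subgroupOf H
    by_contra hne
    haveI : Nontrivial (H ⧸ L') := by
      rw [← not_subsingleton_iff_nontrivial]
      intro hs
      refine hne fun h hh => ?_
      exact Subgroup.mem_subgroupOf.mp ((QuotientGroup.eq_one_iff (N := L') ⟨h, hh⟩).mp
        (Subsingleton.elim _ _))
    haveI : Group.IsSolvable (H ⧸ L') := Group.isSolvable_of_surjective (QuotientGroup.mk'_surjective L')
    refine (Group.IsSolvable.commutator_lt_top_of_nontrivial (G := H ⧸ L')).ne (top_le_iff.mp ?_)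
    intro q _
    obtain ⟨h, rfl⟩ := QuotientGroup.mk'_surjective L' q
    obtain ⟨d, hd, l, hl, he⟩ := Cfsg.Agent.Lib.Coprime.exists_mul_of_mem_sup
      (N := ⁅H, H⁆) (H := L) Subgroup.le_normalizer_of_normal (hHM.le h.2)
    have hdH : d ∈ H := Subgroup.commutator_le_self H hd
    have h1 : QuotientGroup.mk' L' h = QuotientGroup.mk' L' ⟨d, hdH⟩ := by
      symm
      rw [QuotientGroup.mk'_apply, QuotientGroup.mk'_apply, QuotientGroup.eq]
      show d⁻¹ * (h : G) ∈ L
      rw [he]; simpa using hl
    have h2 : (⟨d, hdH⟩ : H) ∈ commutator H := by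
      have : d ∈ (commutator H).map H.subtype := by rw [Subgroup.map_subtype_commutator]; exact hd
      obtain ⟨d', hd', rfl⟩ := this
      exact hd'
    rw [h1]
    have h3 := Subgroup.mem_map_of_mem (QuotientGroup.mk' L') h2
    rw [commutator_def, Subgroup.map_commutator] at h3
    exact Subgroup.commutator_mono le_top le_top h3
  refine ⟨hHL, ?_⟩
  -- averaging over `K` on the abelian group `H / H'`
  intro c hcc
  let D := (⁅H, H⁆).subgroupOf H
  haveI : D.Normal := Subgroup.normal_subgroupOf_of_le_normalizer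
    (Subgroup.normalizer_commutator_ge_left H H)
  have hA : ∀ a b : H ⧸ D, a * b = b * a := by
    intro a b
    obtain ⟨x, rfl⟩ := QuotientGroup.mk'_surjective D a
    obtain ⟨y, rfl⟩ := QuotientGroup.mk'_surjective D b
    rw [← commutatorElement_eq_one_iff_mul_comm, ← map_commutatorElement, QuotientGroup.mk'_apply,
      QuotientGroup.eq_one_iff]
    exact Subgroup.commutator_mem_commutator x.2 y.2
  letI : CommGroup (H ⧸ D) := { (inferInstance : Group (H ⧸ D)) with mul_comm := hA }
  haveI := Fintype.ofFinite K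
  let τ : H →* H ⧸ D :=
    { toFun := fun h => ∏ k : K, QuotientGroup.mk' D
        ⟨(k : G) * h * (k : G)⁻¹, hHn.conj_mem _ h.2 _⟩
      map_one' := by
        refine Finset.prod_eq_one fun k _ => ?_
        rw [show (⟨(k : G) * ((1 : H) : G) * (k : G)⁻¹, hHn.conj_mem _ (1 : H).2 _⟩ : H) = 1 from
          Subtype.ext (by simp), map_one]
      map_mul' := fun a b => by
        rw [← Finset.prod_mul_distrib]
        refine Finset.prod_congr rfl fun k _ => ?_
        rw [← map_mul]
        congr 1
        ext; push_cast; group }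
  have hker : H ≤ τ.ker.map H.subtype := by
    conv_lhs => rw [show H = ⁅H, K⁆ from hHL]
    rw [Subgroup.commutator_le]
    intro h hh k hk
    have hm : ⁅h, k⁆ ∈ H := hLH (Subgroup.commutator_mem_commutator hh hk)
    refine ⟨⟨_, hm⟩, ?_, rfl⟩
    rw [SetLike.mem_coe, MonoidHom.mem_ker]
    have he : (⟨⁅h, k⁆, hm⟩ : H) = ⟨h, hh⟩ * ⟨k * h⁻¹ * k⁻¹, hHn.conj_mem _ (inv_mem hh) _⟩ := by
      ext; simp [commutatorElement_def, mul_assoc]
    rw [he, map_mul]
    have : τ ⟨k * h⁻¹ * k⁻¹, hHn.conj_mem _ (inv_mem hh) _⟩ = τ ⟨h⁻¹, inv_mem hh⟩ := by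
      refine Fintype.prod_equiv (Equiv.mulRight ⟨k, hk⟩) _ _ fun x => ?_
      congr 1
      ext; simp [mul_assoc]
    rw [this, ← map_mul, show (⟨h, hh⟩ : H) * ⟨h⁻¹, inv_mem hh⟩ = 1 from Subtype.ext (by simp), map_one]
  obtain ⟨c', hc', hcc'⟩ := hker hcc.1
  have h1 : τ ⟨c, hcc.1⟩ = (QuotientGroup.mk' D ⟨c, hcc.1⟩) ^ Nat.card K := by
    rw [Nat.card_eq_fintype_card, ← Finset.card_univ, ← Finset.prod_const]
    refine Finset.prod_congr rfl fun k _ => ?_
    congr 1
    ext
    show (k : G) * c * (k : G)⁻¹ = c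
    rw [Subgroup.mem_centralizer_iff.mp hcc.2 k k.2, mul_inv_cancel_right]
  rw [show (⟨c, hcc.1⟩ : H) = c' from Subtype.ext hcc'.symm, MonoidHom.mem_ker.mp hc', ← show
    (⟨c, hcc.1⟩ : H) = c' from Subtype.ext hcc'.symm] at h1
  have h2 := Nat.eq_one_of_dvd_coprimes hcop' ((orderOf_map_dvd _ _).trans (orderOf_dvd_natCard _))
    (orderOf_dvd_of_pow_eq_one h1.symm)
  rw [orderOf_eq_one_iff, QuotientGroup.mk'_apply, QuotientGroup.eq_one_iff] at h2
  exact h2

theorem commute_of_coprime_orderOf {N : Type*} [Group N] [Finite N] [Group.IsNilpotent N] :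
    ∀ x y : N, (orderOf x).Coprime (orderOf y) → x * y = y * x := by
  refine Group.nilpotent_center_quotient_ind
    (P := fun M _ _ => ∀ [Finite M], ∀ x y : M, (orderOf x).Coprime (orderOf y) → x * y = y * x)
    N ?_ ?_
  · intro M _ _ _ x y _; exact Subsingleton.elim _ _
  · intro M _ _ ih _ x y hxy
    haveI : Finite (M ⧸ Subgroup.center M) := inferInstance
    have hq := ih (QuotientGroup.mk' _ x) (QuotientGroup.mk' _ y)
      ((hxy.coprime_dvd_left (orderOf_map_dvd _ _)).coprime_dvd_right (orderOf_map_dvd _ _))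
    rw [← commutatorElement_eq_one_iff_mul_comm, ← map_commutatorElement, QuotientGroup.mk'_apply,
      QuotientGroup.eq_one_iff, Subgroup.mem_center_iff] at hq
    set z := ⁅x, y⁆ with hz
    have h1 := Cfsg.Agent.Lib.OddLocal.conj_pow_eq (a := x) (h := y) (z := z)
      (by rw [hz, commutatorElement_def]; group) (by rw [hq x, mul_inv_cancel_right]) (orderOf x)
    rw [pow_orderOf_eq_one, one_mul, inv_one, mul_one, eq_comm, mul_eq_right] at h1
    have h2 := Cfsg.Agent.Lib.OddLocal.conj_pow_eq (a := y) (h := x) (z := z⁻¹)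
      (by rw [hz, commutatorElement_def]; group)
      (by rw [(Commute.inv_right (hq y : Commute y z)).eq, mul_inv_cancel_right]) (orderOf y)
    rw [pow_orderOf_eq_one, one_mul, inv_one, mul_one, eq_comm, mul_eq_right, inv_pow,
      inv_eq_one] at h2
    rw [← commutatorElement_eq_one_iff_mul_comm]
    exact orderOf_eq_one_iff.mp (Nat.eq_one_of_dvd_coprimes hxy (orderOf_dvd_of_pow_eq_one h1)
      (orderOf_dvd_of_pow_eq_one h2))


/-- Let G be a finite solvable group. (a) If H is a normal subgroup of order coprime to its index, K is a complement to H, and H ≤ G', then H = [H, K] and H ∩ C_G(K) ≤ [H, H]. (b) If G' is nilpotent and has prime index in G, then the order of G' is coprime to its index and G' = [G, K] (the subgroup generated by commutators of elements of G with elements of K) for every complement K of G'. -/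
theorem result {G : Type*} [Group G] [Finite G] [Group.IsSolvable G] :
    (∀ (H K : Subgroup G), H.Normal → (Nat.card H).Coprime H.index → Subgroup.IsComplement' H K → H ≤ commutator G →
        H = ⁅H, K⁆ ∧ H ⊓ Subgroup.centralizer (K : Set G) ≤ ⁅H, H⁆) ∧
      (Group.IsNilpotent ↥(commutator G) → (commutator G).index.Prime →
        (Nat.card ↥(commutator G)).Coprime (commutator G).index ∧
        ∀ K : Subgroup G, Subgroup.IsComplement' (commutator G) K → commutator G = ⁅(⊤ : Subgroup G), K⁆) := by
  refine ⟨part_a, fun hnil hr => ?_⟩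
  set N := commutator G with hNdef
  set r := N.index with hrdef
  haveI := Fact.mk hr
  have hcop : (Nat.card N).Coprime r := by
    obtain ⟨R⟩ : Nonempty (Sylow r N) := inferInstance
    haveI : Group.IsNilpotent N := hnil
    haveI hRn : (R : Subgroup N).Normal :=
      R.normal_of_normalizerCondition Group.normalizerCondition_of_isNilpotent
    obtain ⟨C, hC⟩ := Subgroup.exists_left_complement'_of_coprime R.card_coprime_index
    have hcard : Nat.card C = (R : Subgroup N).index := (hC.index_eq_card).symm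
    have hRc : ∀ a ∈ (R : Subgroup N), ∀ c ∈ C, a * c = c * a := fun a ha c hc =>
      commute_of_coprime_orderOf a c ((R.card_coprime_index.coprime_dvd_left
        (Subgroup.orderOf_dvd_natCard _ ha)).coprime_dvd_right
        (hcard ▸ Subgroup.orderOf_dvd_natCard _ hc))
    have hCiff : ∀ x : N, (orderOf x).Coprime r ↔ x ∈ C := by
      intro x
      refine ⟨fun hx => ?_, fun hx => ?_⟩
      · obtain ⟨c, hc, a, ha, rfl⟩ := Cfsg.Agent.Lib.Coprime.exists_mul_of_mem_sup (N := C)
          (H := (R : Subgroup N)) (fun a ha => Subgroup.centralizer_le_normalizer _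
            (Subgroup.mem_centralizer_iff.mpr fun c hc => (hRc a ha c hc).symm))
          (hC.sup_eq_top ▸ Subgroup.mem_top x : x ∈ C ⊔ (R : Subgroup N))
        have hd : orderOf a ∣ orderOf (c * a) := by
          rw [Commute.orderOf_mul_eq_mul_orderOf_of_coprime (hRc a ha c hc).symm
            ((R.card_coprime_index.symm.coprime_dvd_left (hcard ▸ Subgroup.orderOf_dvd_natCard _ hc)).coprime_dvd_right
              (Subgroup.orderOf_dvd_natCard _ ha))]
          exact dvd_mul_left _ _
        obtain ⟨j, hj⟩ := R.2 ⟨a, ha⟩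
        have hj' : orderOf a ∣ r ^ j := orderOf_dvd_of_pow_eq_one (congrArg Subtype.val hj)
        rw [orderOf_eq_one_iff.mp (Nat.eq_one_of_dvd_coprimes (hx.pow_right j) hd hj'), mul_one]
        exact hc
      · refine Nat.Coprime.coprime_dvd_left (hcard ▸ Subgroup.orderOf_dvd_natCard _ hx) ?_
        exact ((hr.coprime_iff_not_dvd).mpr R.not_dvd_index).symm
    let C' := C.map N.subtype
    have hC'n : C'.Normal := by
      refine ⟨?_⟩
      rintro _ ⟨c, hc, rfl⟩ g
      refine ⟨⟨g * c * g⁻¹, (inferInstance : N.Normal).conj_mem _ c.2 g⟩, ?_, rfl⟩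
      refine (hCiff _).mp ?_
      rw [← Subgroup.orderOf_coe]
      have : orderOf (g * (c : G) * g⁻¹) = orderOf (c : G) :=
        orderOf_injective (MulAut.conj g).toMonoidHom (MulAut.conj g).injective (c : G)
      show (orderOf (g * (c : G) * g⁻¹)).Coprime r
      rw [this, Subgroup.orderOf_coe]
      exact (hCiff c).mpr hc
    have hC'N : C' ≤ N := Subgroup.map_subtype_le C
    have hC'r : (Nat.card C').Coprime r := by
      rw [← Nat.card_congr (C.equivMapOfInjective N.subtype N.subtype_injective).toEquiv, hcard]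
      exact ((hr.coprime_iff_not_dvd).mpr R.not_dvd_index).symm
    suffices h : N ≤ C' by
      rwa [le_antisymm h hC'N]
    haveI := hC'n
    -- `G ⧸ C'` is an `r`-group with cyclic commutator quotient, hence abelian
    have hQp : IsPGroup r (G ⧸ C') := by
      obtain ⟨j, hj⟩ := R.2.exists_card_eq
      refine IsPGroup.of_card (n := j + 1) ?_
      have h1 := C'.card_mul_index
      have h2 := N.card_mul_index
      have h3 := hC.card_mul
      rw [← Nat.card_congr (C.equivMapOfInjective N.subtype N.subtype_injective).toEquiv] at h1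
      rw [← h3, hj, ← hrdef, ← h1, mul_assoc, ← pow_succ] at h2
      exact Nat.eq_of_mul_eq_mul_left Nat.card_pos h2.symm
    haveI : Group.IsNilpotent (G ⧸ C') := hQp.isNilpotent
    obtain ⟨x, hx⟩ : ∃ x : G, x ∉ N := by
      by_contra! h
      exact hr.ne_one (Subgroup.index_eq_one.mpr ((Subgroup.eq_top_iff' N).mpr h))
    have hgen : Subgroup.zpowers (QuotientGroup.mk' C' x) = ⊤ := by
      by_contra hne
      obtain ⟨Q, hQ, hle⟩ := (eq_top_or_exists_le_coatom _).resolve_left hne
      haveI hQn : Q.Normal := Subgroup.NormalizerCondition.normal_of_coatom Q (Group.normalizerCondition_of_isNilpotent) hQ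
      let Q' := Q.comap (QuotientGroup.mk' C')
      obtain ⟨j, hj⟩ := hQp.index Q
      have hQ'i : Q'.index = r ^ j := (Q.index_comap_of_surjective (QuotientGroup.mk'_surjective C')).trans hj
      have hNQ : N ≤ Q' := by
        haveI : Group.IsSolvable (G ⧸ C') := Group.isSolvable_of_surjective (QuotientGroup.mk'_surjective C')
        rw [hNdef, commutator_def, Subgroup.commutator_le]
        intro a _ b _
        rw [Subgroup.mem_comap, map_commutatorElement, ← QuotientGroup.eq_one_iff (N := Q),
          ← QuotientGroup.mk'_apply, map_commutatorElement, commutatorElement_eq_one_iff_mul_comm]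
        have hc : commutator ((G ⧸ C') ⧸ Q) = ⊥ := by
          by_contra hb
          have h1 : Q < (commutator ((G ⧸ C') ⧸ Q)).comap (QuotientGroup.mk' Q) := by
            refine lt_of_le_of_ne (fun y hy => ?_) fun he => hb ?_
            · rw [Subgroup.mem_comap, QuotientGroup.mk'_apply, (QuotientGroup.eq_one_iff y).mpr hy]
              exact one_mem _
            · rw [← Subgroup.map_comap_eq_self_of_surjective (QuotientGroup.mk'_surjective Q)
                (commutator _), ← he, QuotientGroup.map_mk'_self]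
          have h2 := hQ.2 _ h1
          rw [← Subgroup.comap_top (QuotientGroup.mk' Q)] at h2
          haveI : Nontrivial ((G ⧸ C') ⧸ Q) := by
            rw [← not_subsingleton_iff_nontrivial]
            intro hs
            exact hb (Subsingleton.elim _ _)
          exact (Group.IsSolvable.commutator_lt_top_of_nontrivial (G := (G ⧸ C') ⧸ Q)).ne
            (Subgroup.comap_injective (QuotientGroup.mk'_surjective Q) h2)
        rw [commutator_def, Subgroup.commutator_eq_bot_iff_le_centralizer] at hc
        exact (Subgroup.mem_centralizer_iff.mp (hc (Subgroup.mem_top _)) _ (Subgroup.mem_top _)).symm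
      have h1 : N ⊔ Subgroup.zpowers x ≤ Q' := sup_le hNQ (by
        rw [Subgroup.zpowers_le, Subgroup.mem_comap]; exact hle (Subgroup.mem_zpowers _))
      have h2 : N ⊔ Subgroup.zpowers x = ⊤ := by
        refine Subgroup.index_eq_one.mp ?_
        rcases (Nat.dvd_prime hr).mp (Subgroup.index_dvd_of_le (le_sup_left : N ≤ N ⊔ Subgroup.zpowers x)) with h | h
        · exact h
        · exact absurd ((Subgroup.eq_of_le_of_card_ge (le_sup_left : N ≤ _) (le_of_eq (by
            have a := N.card_mul_index
            have b := (N ⊔ Subgroup.zpowers x).card_mul_index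
            rw [h, ← hrdef] at *
            exact Nat.eq_of_mul_eq_mul_right hr.pos (b.trans a.symm)))) ▸
              (Subgroup.mem_sup_right (Subgroup.mem_zpowers x) : x ∈ N ⊔ Subgroup.zpowers x)) hx
      rw [h2, top_le_iff] at h1
      exact hQ.1 (Subgroup.comap_injective (QuotientGroup.mk'_surjective C') (by rw [Subgroup.comap_top]; exact h1))
    rw [hNdef, commutator_def, Subgroup.commutator_le]
    intro a _ b _
    rw [← QuotientGroup.eq_one_iff, ← QuotientGroup.mk'_apply, map_commutatorElement,
      commutatorElement_eq_one_iff_mul_comm]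
    obtain ⟨i, hi⟩ := Subgroup.mem_zpowers_iff.mp (hgen ▸ Subgroup.mem_top (QuotientGroup.mk' C' a))
    obtain ⟨j, hj⟩ := Subgroup.mem_zpowers_iff.mp (hgen ▸ Subgroup.mem_top (QuotientGroup.mk' C' b))
    rw [← hi, ← hj, ← zpow_add, ← zpow_add, add_comm]
  refine ⟨hcop, fun K hK => ?_⟩
  refine le_antisymm ?_ (Subgroup.commutator_mono le_rfl le_top)
  exact (part_a N K inferInstance hcop hK le_rfl).1.le.trans (Subgroup.commutator_mono le_top le_rfl)

end Cfsg.Agent.S1459
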