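import Cfsg.Statements.S0494
import Cfsg.Agent.Lib.SylowCounting.Intersection
import Cfsg.Agent.Lib.SylowCounting.Embedding

set_option autoImplicit false
open Cfsg

namespace Cfsg.Agent.S0494

open Cfsg.Agent.Lib.SylowCounting

theorem exists_index_five {G : Type*} [Group G] [Finite G] [IsSimpleGroup G]
    (h : Nat.card G = 60) : ∃ H : Subgroup G, H ≠ ⊤ ∧ H.index = 5 := by
  haveI : Fact (Nat.Prime 2) := ⟨Nat.prime_two⟩
  have hn : ¬ IsMulCommutative G := not_comm_of_not_prime (by rw [h]; norm_num)
  have hG : Nat.card G = 2 ^ 2 * 15 := by rw [h]; norm_num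
  have hc : Nat.card (Sylow 2 G) ∈ candidates 2 15 :=
    sylow_count_candidates hG (by norm_num) (by norm_num) (by norm_num)
  rw [show candidates 2 15 = {3, 5, 15} by decide, Finset.mem_insert, Finset.mem_insert,
    Finset.mem_singleton] at hc
  obtain ⟨P⟩ : Nonempty (Sylow 2 G) := inferInstance
  rcases hc with hc | hc | hc
  · exfalso
    have hd := two_card_dvd_sylow_factorial hn (p := 2)
      (sylow_count_ne_one hG (by norm_num) (by norm_num) (by norm_num))
    rw [hc, h] at hd
    revert hd; decide
  · refine ⟨Subgroup.normalizer ((P : Subgroup G) : Set G), fun e => ?_, ?_⟩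
    · have := P.card_eq_index_normalizer
      rw [P.coe_coe] at e
      rw [e, Subgroup.index_top, hc] at this
      norm_num at this
    · rw [← hc, P.card_eq_index_normalizer, P.coe_coe]
  · obtain ⟨H, hH, hi⟩ := exists_index_of_intersection hG (by norm_num) le_rfl (by rw [hc]; norm_num)
    refine ⟨H, hH, ?_⟩
    rw [show interIndices 2 15 = {3, 5} by decide, Finset.mem_insert, Finset.mem_singleton] at hi
    rcases hi with hi | hi
    · exfalso
      have hd := two_card_dvd_factorial hn H hH
      rw [hi, h] at hd
      revert hd; decide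
    · exact hi

/-- A simple group of order 60 is isomorphic to the alternating group of degree 5. -/
theorem result {G : Type*} [Group G] [Finite G] [IsSimpleGroup G]
    (h : Nat.card G = 60) : Nonempty (G ≃* alternatingGroup (Fin 5)) := by
  obtain ⟨H, hH, hi⟩ := exists_index_five h
  obtain ⟨f, hf⟩ : ∃ f : G →* alternatingGroup (Fin 5), Function.Injective f :=
    hi ▸ exists_embedding_alternating (not_comm_of_not_prime (by rw [h]; norm_num)) H hH
  have hcard : Nat.card (alternatingGroup (Fin 5)) = 60 := by
    rw [Nat.card_eq_fintype_card]; decide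
  exact ⟨MulEquiv.ofBijective f ((Nat.bijective_iff_injective_and_card f).mpr ⟨hf, by rw [hcard, h]⟩)⟩

end Cfsg.Agent.S0494
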