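import Cfsg.Statements.S0945
import Cfsg.Agent.Lib.Blocks.ThreePerm

set_option autoImplicit false
open Cfsg
open Cfsg.Agent.Lib.Blocks
open scoped ComplexConjugate

namespace Cfsg.Agent.S0945


section
variable {G : Type*} [Group G] [Finite G]

theorem zmod_two_mul {m : ℕ} (hm : 1 ≤ m) (x : ZMod (2 ^ m)) (hx : x + x = 0) :
    x = 0 ∨ x = (2 ^ (m - 1) : ℕ) := by
  have h : ((2 * x.val : ℕ) : ZMod (2 ^ m)) = 0 := by
    push_cast
    rw [ZMod.natCast_zmod_val, two_mul, hx]
  rw [ZMod.natCast_eq_zero_iff] at h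
  have hv := x.val_lt
  have e : 2 ^ m = 2 * 2 ^ (m - 1) := by rw [← pow_succ', Nat.sub_add_cancel hm]
  replace h : 2 * 2 ^ (m - 1) ∣ 2 * x.val := e ▸ h
  have h' := Nat.dvd_of_mul_dvd_mul_left two_pos h
  obtain ⟨c, hc⟩ := h'
  have hc2 : c < 2 := by nlinarith [Nat.two_pow_pos (m - 1)]
  interval_cases c
  · left; exact (ZMod.val_eq_zero x).1 (by simpa using hc)
  · right; rw [← ZMod.natCast_zmod_val x, hc, mul_one]

theorem zmod_half_ne {m : ℕ} (hm : 1 ≤ m) : ((2 ^ (m - 1) : ℕ) : ZMod (2 ^ m)) ≠ 0 := by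
  rw [Ne, ZMod.natCast_eq_zero_iff]
  intro h
  have h1 := Nat.le_of_dvd (Nat.two_pow_pos _) h
  have h2 : 2 ^ (m - 1) < 2 ^ m := Nat.pow_lt_pow_right one_lt_two (by omega)
  omega

/-- The involutions of the Sylow subgroup. -/
def Invol (P : Subgroup G) : Type _ := {x : P // x ≠ 1 ∧ x ^ 2 = 1}

@[reducible] noncomputable def invAct (P : Subgroup G) :
    MulAction (Subgroup.normalizer (P : Set G)) (Invol P) where
  smul n x := ⟨⟨(n : G) * x.1 * (n : G)⁻¹, (Subgroup.mem_normalizer_iff.1 n.2 _).1 x.1.2⟩,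
    fun h => x.2.1 (Subtype.ext (by
      have h' := congrArg Subtype.val h
      simpa using h')),
    Subtype.ext (by
      have h' : ((x.1 : G)) ^ 2 = 1 := congrArg Subtype.val x.2.2
      show ((n : G) * x.1 * (n : G)⁻¹) ^ 2 = 1
      rw [conj_pow, h', mul_one, mul_inv_cancel])⟩
  one_smul x := Subtype.ext (Subtype.ext (by
    show ((1 : G)) * x.1 * (1 : G)⁻¹ = x.1
    simp))
  mul_smul a b x := Subtype.ext (Subtype.ext (by
    show ((a : G) * b) * x.1 * ((a : G) * b)⁻¹ = a * (b * x.1 * (b : G)⁻¹) * (a : G)⁻¹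
    group))

/-- Common analysis of the automiser of a homocyclic Sylow 2-subgroup of rank 2. -/
theorem automiser (P : Sylow 2 G) (m : ℕ) (hm : 1 ≤ m)
    (e : (P : Subgroup G) ≃* Multiplicative (ZMod (2 ^ m) × ZMod (2 ^ m))) :
    ∃ ψ : Subgroup.normalizer ((P : Subgroup G) : Set G) →* Equiv.Perm (Invol (P : Subgroup G)),
      ψ.ker = (Subgroup.centralizer ((P : Subgroup G) : Set G)).subgroupOf
        (Subgroup.normalizer ((P : Subgroup G) : Set G)) ∧
      (∀ n x, (((ψ n x).1 : (P : Subgroup G)) : G) = (n : G) * x.1 * (n : G)⁻¹) ∧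
      Odd ((Subgroup.centralizer ((P : Subgroup G) : Set G)).relIndex
        (Subgroup.normalizer ((P : Subgroup G) : Set G))) ∧
      Nonempty (Invol (P : Subgroup G) ≃ Fin 3) := by
  classical
  letI := invAct (P : Subgroup G)
  have hcomm : ∀ x y : (P : Subgroup G), x * y = y * x := fun x y =>
    e.injective (by rw [map_mul, map_mul, mul_comm])
  have hPC : (P : Subgroup G) ≤ Subgroup.centralizer ((P : Subgroup G) : Set G) :=
    fun x hx y hy => congrArg Subtype.val (hcomm ⟨y, hy⟩ ⟨x, hx⟩)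
  have hodd : Odd ((Subgroup.centralizer ((P : Subgroup G) : Set G)).relIndex
      (Subgroup.normalizer ((P : Subgroup G) : Set G))) := by
    rw [← Nat.not_even_iff_odd, even_iff_two_dvd]
    intro h
    refine P.not_dvd_index (h.trans ?_)
    refine (Dvd.intro_left _ (Subgroup.relIndex_mul_relIndex _ _ _ hPC ?_)).trans
      (Dvd.intro _ (Subgroup.relIndex_mul_index Subgroup.le_normalizer))
    exact Subgroup.centralizer_le_normalizer _
  refine ⟨MulAction.toPermHom _ _, ?_, fun n x => rfl, hodd, ?_⟩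
  · ext n
    rw [MonoidHom.mem_ker, Subgroup.mem_subgroupOf]
    constructor
    · intro hn
      have hfix : ∀ x : (P : Subgroup G), x ^ 2 = 1 → (n : G) * x * (n : G)⁻¹ = x := by
        intro x hx
        by_cases h1 : x = 1
        · simp [h1]
        · exact congrArg (fun y : Invol (P : Subgroup G) => (y.1 : G))
            (DFunLike.congr_fun hn ⟨x, h1, hx⟩ :)
      let σ : (P : Subgroup G) →* (P : Subgroup G) :=
        { toFun := fun x => ⟨(n : G) * x * (n : G)⁻¹, (Subgroup.mem_normalizer_iff.1 n.2 _).1 x.2⟩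
          map_one' := Subtype.ext (by simp)
          map_mul' := fun x y => Subtype.ext (by simp [mul_assoc]) }
      haveI : ((Subgroup.centralizer ((P : Subgroup G) : Set G)).subgroupOf
          (Subgroup.normalizer ((P : Subgroup G) : Set G))).Normal :=
        Subgroup.normal_subgroupOf_centralizer_normalizer _
      have hr := Subgroup.pow_index_mem ((Subgroup.centralizer ((P : Subgroup G) : Set G)).subgroupOf
        (Subgroup.normalizer ((P : Subgroup G) : Set G))) n
      rw [Subgroup.mem_subgroupOf] at hr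
      have hit : ∀ (i : ℕ) (x : (P : Subgroup G)),
          ((σ^[i] x : (P : Subgroup G)) : G) = (n : G) ^ i * x * ((n : G) ^ i)⁻¹ := by
        intro i x
        induction i with
        | zero => simp
        | succ i ih =>
          rw [Function.iterate_succ_apply']
          show (n : G) * _ * (n : G)⁻¹ = _
          rw [ih, pow_succ']
          group
      refine fun y hy => ?_
      have h := eq_self_of_fix_involutions hcomm P.2 σ hodd (fun x => Subtype.ext (by
        rw [hit]
        exact mul_inv_eq_of_eq_mul (hr x.1 x.2).symm))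
        (fun x hx => Subtype.ext (hfix x hx)) ⟨y, hy⟩
      exact (mul_inv_eq_iff_eq_mul.1 (congrArg Subtype.val h)).symm
    · intro hn
      refine Equiv.ext fun x => Subtype.ext (Subtype.ext ?_)
      exact mul_inv_eq_of_eq_mul (hn x.1.1 x.1.2).symm
  · let h : ZMod (2 ^ m) := (2 ^ (m - 1) : ℕ)
    have hh : h + h = 0 := by
      show ((2 ^ (m - 1) : ℕ) : ZMod (2 ^ m)) + (2 ^ (m - 1) : ℕ) = 0
      rw [← Nat.cast_add, ← two_mul, ← pow_succ', Nat.sub_add_cancel hm, ZMod.natCast_self]
    have hh0 : h ≠ 0 := zmod_half_ne hm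
    let v : Fin 3 → ZMod (2 ^ m) × ZMod (2 ^ m) := ![(h, 0), (0, h), (h, h)]
    have hv0 : ∀ i, v i ≠ 0 := by
      intro i; fin_cases i <;> simp [v, hh0, Prod.ext_iff]
    have hv2 : ∀ i, v i + v i = 0 := by
      intro i; fin_cases i <;> simp [v, hh, Prod.ext_iff]
    refine ⟨(Equiv.ofBijective (fun i => (⟨e.symm (Multiplicative.ofAdd (v i)), fun h1 => hv0 i (by
      have := congrArg e h1
      rw [MulEquiv.apply_symm_apply, map_one] at this
      exact this), by
      rw [← map_pow, pow_two, ← ofAdd_add, hv2]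
      exact map_one e.symm⟩ : Invol (P : Subgroup G))) ⟨?_, ?_⟩).symm⟩
    · intro i j hij
      have h' := congrArg Multiplicative.toAdd
        (e.symm.injective (congrArg Subtype.val hij))
      simp only [toAdd_ofAdd] at h'
      fin_cases i <;> fin_cases j <;> simp_all [v, Prod.ext_iff, Ne.symm hh0]
    · intro x
      obtain ⟨⟨a, b⟩, hab⟩ : ∃ ab : ZMod (2 ^ m) × ZMod (2 ^ m), e x.1 = Multiplicative.ofAdd ab :=
        ⟨Multiplicative.toAdd (e x.1), rfl⟩
      have h2 : (a + a, b + b) = (0 : ZMod (2 ^ m) × ZMod (2 ^ m)) := by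
        have h3 : e x.1 ^ 2 = 1 := by rw [← map_pow, x.2.2, map_one]
        rw [hab, pow_two, ← ofAdd_add] at h3
        exact h3
      have hne : ¬ (a = 0 ∧ b = 0) := fun h3 => x.2.1 (e.injective (by
        rw [hab, h3.1, h3.2, map_one]; rfl))
      rcases zmod_two_mul hm a (congrArg Prod.fst h2) with ha | ha <;>
        rcases zmod_two_mul hm b (congrArg Prod.snd h2) with hb | hb
      · exact absurd ⟨ha, hb⟩ hne
      · exact ⟨1, Subtype.ext (by
          rw [← e.symm_apply_apply x.1, hab, ha, hb]; rfl)⟩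
      · exact ⟨0, Subtype.ext (by
          rw [← e.symm_apply_apply x.1, hab, ha, hb]; rfl)⟩
      · exact ⟨2, Subtype.ext (by
          rw [← e.symm_apply_apply x.1, hab, ha, hb]; rfl)⟩

/-- The image of the automiser consists of three-cycles. -/
theorem automiser_dichotomy (P : Sylow 2 G) (m : ℕ) (hm : 1 ≤ m)
    (e : (P : Subgroup G) ≃* Multiplicative (ZMod (2 ^ m) × ZMod (2 ^ m)))
    (n : Subgroup.normalizer ((P : Subgroup G) : Set G)) :
    (n : G) ∈ Subgroup.centralizer ((P : Subgroup G) : Set G) ∨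
      ∀ x y : G, x ∈ (P : Subgroup G) → y ∈ (P : Subgroup G) → x ≠ 1 → y ≠ 1 → x ^ 2 = 1 →
        y ^ 2 = 1 → (n : G) * x * (n : G)⁻¹ ≠ x ∧ IsConj x y := by
  obtain ⟨ψ, hker, hψ, hodd, ⟨f⟩⟩ := automiser P m hm e
  have hpow : ψ n ^ (Subgroup.centralizer ((P : Subgroup G) : Set G)).relIndex
      (Subgroup.normalizer ((P : Subgroup G) : Set G)) = 1 := by
    rw [← map_pow, ← MonoidHom.mem_ker, hker]
    haveI : ((Subgroup.centralizer ((P : Subgroup G) : Set G)).subgroupOf
        (Subgroup.normalizer ((P : Subgroup G) : Set G))).Normal :=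
      Subgroup.normal_subgroupOf_centralizer_normalizer _
    exact Subgroup.pow_index_mem _ n
  rcases perm_three_odd f (ψ n) hodd hpow with h | h
  · left
    rw [← Subgroup.mem_subgroupOf, ← hker]
    exact h
  · right
    intro x y hx hy hx1 hy1 hx2 hy2
    let X : Invol (P : Subgroup G) := ⟨⟨x, hx⟩, fun h => hx1 (congrArg Subtype.val h), Subtype.ext hx2⟩
    let Y : Invol (P : Subgroup G) := ⟨⟨y, hy⟩, fun h => hy1 (congrArg Subtype.val h), Subtype.ext hy2⟩
    obtain ⟨hne, hc⟩ := h X Y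
    refine ⟨fun he => hne (Subtype.ext (Subtype.ext ((hψ n X).trans he))), ?_⟩
    rcases hc with hc | hc | hc
    · exact isConj_iff.2 ⟨n, (hψ n X).symm.trans (congrArg (fun z : Invol (P : Subgroup G) => (z.1 : G)) hc)⟩
    · refine isConj_iff.2 ⟨n * n, ?_⟩
      have h2 := (hψ n (ψ n X)).symm.trans (congrArg (fun z : Invol (P : Subgroup G) => (z.1 : G)) hc)
      rw [hψ n X] at h2
      refine Eq.trans ?_ h2
      show _ = (n : G) * ((n : G) * x * (n : G)⁻¹) * (n : G)⁻¹
      group
    · have : x = y := congrArg (fun z : Invol (P : Subgroup G) => (z.1 : G)) hc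
      rw [this]

end

/-- Let P be a Sylow 2-subgroup of the finite group G isomorphic to Z/2^m × Z/2^m with m ≥ 1. Then (i) the index of C_G(P) in N_G(P) is 1 or 3, and (ii) if it is not 1, then for every z ≠ 1 in P, C_G(z) ∩ N_G(P) = C_G(P). -/
theorem result {G : Type*} [Group G] [Finite G] (P : Sylow 2 G) (m : ℕ) (hm : 1 ≤ m) (e : (P : Subgroup G) ≃* Multiplicative (ZMod (2 ^ m) × ZMod (2 ^ m))) : ((Subgroup.centralizer (P : Set G)).relIndex (Subgroup.normalizer (P : Set G)) = 1 ∨ (Subgroup.centralizer (P : Set G)).relIndex (Subgroup.normalizer (P : Set G)) = 3) ∧ ((Subgroup.centralizer (P : Set G)).relIndex (Subgroup.normalizer (P : Set G)) ≠ 1 → ∀ z ∈ (P : Subgroup G), z ≠ 1 → Subgroup.centralizer ({z} : Set G) ⊓ Subgroup.normalizer (P : Set G) = Subgroup.centralizer (P : Set G)) := by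
  classical
  obtain ⟨ψ, hker, hψ, hodd, ⟨f⟩⟩ := automiser P m hm e
  have h6 : (Subgroup.centralizer ((P : Subgroup G) : Set G)).relIndex
      (Subgroup.normalizer ((P : Subgroup G) : Set G)) ∣ 6 := by
    rw [Subgroup.relIndex, ← hker, Subgroup.index_ker]
    refine (Subgroup.card_subgroup_dvd_card _).trans ?_
    rw [Nat.card_congr f.permCongr]
    simp [Nat.card_eq_fintype_card, Fintype.card_perm, Nat.factorial]
  refine ⟨?_, fun _ z hz hz1 => le_antisymm ?_ (le_inf ?_ (Subgroup.centralizer_le_normalizer _))⟩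
  · have hle := Nat.le_of_dvd (by norm_num) h6
    revert h6 hodd hle
    generalize (Subgroup.centralizer ((P : Subgroup G) : Set G)).relIndex
      (Subgroup.normalizer ((P : Subgroup G) : Set G)) = k
    intro hodd h6 hle
    interval_cases k <;> revert hodd h6 <;> decide
  · rintro n ⟨hnz, hnN⟩
    rcases automiser_dichotomy P m hm e ⟨n, hnN⟩ with h | h
    · exact h
    exfalso
    obtain ⟨k, hk⟩ := P.2 ⟨z, hz⟩
    have hk' : z ^ (2 ^ k) = 1 := congrArg Subtype.val hk
    obtain ⟨j, -, hj⟩ := (Nat.dvd_prime_pow Nat.prime_two).1 (orderOf_dvd_of_pow_eq_one hk')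
    have hj0 : j ≠ 0 := fun hj0 => hz1 (orderOf_eq_one_iff.1 (by rw [hj, hj0, pow_zero]))
    have ht2 : (z ^ (2 ^ (j - 1))) ^ 2 = 1 := by
      rw [← pow_mul, ← pow_succ, Nat.sub_add_cancel (Nat.pos_of_ne_zero hj0), ← hj, pow_orderOf_eq_one]
    have ht1 : z ^ (2 ^ (j - 1)) ≠ 1 := by
      refine pow_ne_one_of_lt_orderOf (Nat.two_pow_pos _).ne' ?_
      rw [hj]
      exact Nat.pow_lt_pow_right one_lt_two (by omega)
    have hc : Commute n z := (hnz z rfl).symm
    exact (h _ _ (pow_mem hz _) (pow_mem hz _) ht1 ht1 ht2 ht2).1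
      (by show n * _ * n⁻¹ = _; rw [(hc.pow_right _).eq, mul_inv_cancel_right])
  · intro x hx w hw
    rw [Set.mem_singleton_iff] at hw
    subst hw
    exact hx w hz

end Cfsg.Agent.S0945
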