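import Cfsg.Statements.S4436
import Cfsg.Agent.Lib.Blocks.Reynolds
import Cfsg.Agent.Lib.BlockHeights.Heights

set_option autoImplicit false
open Cfsg
open Cfsg.Agent.Lib Cfsg.Agent.Lib.Blocks Cfsg.Agent.Lib.Characters
open scoped ComplexConjugate

namespace Cfsg.Agent.S4436

theorem hTiff {G : Type*} [Group G] {N : Subgroup G} [hN : N.Normal] {b : Set (IrrCharacter N)} (g : G) :
    (∀ θ ∈ b, ∀ θ' : IrrCharacter N, (∀ n : N, (θ' : N → ℂ) n =
      (θ : N → ℂ) ⟨g * n * g⁻¹, hN.conj_mem n n.2 g⟩) → θ' ∈ b) ↔ ∀ θ ∈ b, conjIrrN N g θ ∈ b :=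
  ⟨fun h θ hθ => h θ hθ _ fun _ => rfl, fun h θ hθ θ' he => by
    rw [show θ' = conjIrrN N g θ from Subtype.ext (funext he)]; exact h θ hθ⟩

/-- Let N be a normal subgroup of the finite group G, b a block of N (relative to a maximal ideal M of the algebraic integers containing p), T the stabilizer of b in G, N ≤ T, and B′ a block of T covering b (some member of B′ has a constituent in b on restriction to N) that induces the block B of G. Then every defect group of B′ is a defect group of B, and for every ψ ∈ B′ the induced character ψ^G is an irreducible character of G lying in B with the same height as ψ. -/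
theorem result {G : Type*} [Group G] [Fintype G] (p : ℕ) [Fact p.Prime] (M : Ideal Cfsg.AlgInt) (hM : Cfsg.IsPModular p M) (N : Subgroup G) [hN : N.Normal] [Fintype N] (b : Set (Cfsg.IrrCharacter N)) (hb : Cfsg.IsPBlock M b) (T : Subgroup G) [Fintype T] (hT : ∀ g : G, g ∈ T ↔ ∀ θ ∈ b, ∀ θ' : Cfsg.IrrCharacter N, (∀ n : N, (θ' : N → ℂ) n = (θ : N → ℂ) ⟨g * n * g⁻¹, hN.conj_mem n n.2 g⟩) → θ' ∈ b) (hNT : N ≤ T) (B' : Set (Cfsg.IrrCharacter T)) (hB' : Cfsg.IsPBlock M B') (hcov : (∃ ψ ∈ B', ∃ θ ∈ b, Cfsg.classInner (fun n : N => (ψ : T → ℂ) ⟨(n : G), hNT n.2⟩) (θ : N → ℂ) ≠ 0)) (B : Set (Cfsg.IrrCharacter G)) (hind : Cfsg.IsInducedBlock M T B' B) : (∀ D : Subgroup T, Cfsg.IsDefectGroup p M B' D → Cfsg.IsDefectGroup p M B (D.map T.subtype)) ∧ ∀ ψ ∈ B', ∃ χ ∈ B, (χ : G → ℂ) = Cfsg.indFun T (ψ : T → ℂ) ∧ Cfsg.blockHeight p B (χ : G → ℂ) = Cfsg.blockHeight p B' (ψ : T → ℂ) := by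
  haveI := isPrime_of_isPModular hM
  classical
  have hT' := fun g => (hT g).trans (hTiff g)
  have hind' := isInducedBlock_indImage hNT hb hT' hM hB' hcov
  have hBeq : B = indImage B' := IsInducedBlock.unique hind hind'
  subst hBeq
  have hp := hM.1
  have hidx0 : T.index ≠ 0 := Subgroup.index_ne_zero_of_finite
  have hmem : ∀ ψ ∈ B', ∃ χ ∈ indImage B', (χ : G → ℂ) = indFun T (ψ : T → ℂ) := by
    intro ψ hψ
    obtain ⟨θ, hθb, hθ⟩ := forall_over hNT hb hT' hM hB' hcov ψ hψ
    obtain ⟨χ, hχ, -⟩ := isIrrCharacter_indFun hNT hb hT' hθb hθ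
    exact ⟨χ, ⟨ψ, hψ, hχ⟩, hχ⟩
  have hnu : ∀ (χ : IrrCharacter G) (ψ : IrrCharacter T), (χ : G → ℂ) = indFun T (ψ : T → ℂ) →
      (charDegree (χ : G → ℂ)).factorization p =
        T.index.factorization p + (charDegree (ψ : T → ℂ)).factorization p := by
    intro χ ψ h
    have hd : charDegree (χ : G → ℂ) = T.index * charDegree (ψ : T → ℂ) := by
      have h1 := congrFun h 1
      rw [indFun_one, ← charDegree_eq, ← charDegree_eq] at h1
      exact_mod_cast h1
    rw [hd, Nat.factorization_mul hidx0 (charDegree_pos ψ).ne', Finsupp.add_apply]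
  have hmin : BlockHeights.minExp p (indImage B') =
      T.index.factorization p + BlockHeights.minExp p B' := by
    obtain ⟨χ, hχ, heχ⟩ := BlockHeights.exists_nu_eq_minExp (p := p) (IsPBlock.nonempty hind.2.1)
    obtain ⟨ψ, hψ, heψ⟩ := BlockHeights.exists_nu_eq_minExp (p := p) (IsPBlock.nonempty hB')
    obtain ⟨χ', hχ', hχ'e⟩ := hmem ψ hψ
    obtain ⟨ψ', hψ', hψ'e⟩ := id hχ
    have h1 := BlockHeights.minExp_le (p := p) hχ'
    have h2 := BlockHeights.minExp_le (p := p) hψ'
    have h3 := hnu χ' ψ hχ'e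
    have h4 := hnu χ ψ' hψ'e
    simp only [BlockHeights.nu] at h1 h2 heχ heψ
    omega
  have hdef : blockDefect p (indImage B') = blockDefect p B' := by
    have h1 := BlockHeights.blockDefect_add_minExp (p := p) hind.2.1
    have h2 := BlockHeights.blockDefect_add_minExp (p := p) hB'
    have h3 : (Nat.card G).factorization p =
        T.index.factorization p + (Nat.card T).factorization p := by
      rw [← T.index_mul_card, Nat.factorization_mul hidx0 Nat.card_pos.ne', Finsupp.add_apply]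
    omega
  refine ⟨fun D hD => ?_, fun ψ hψ => ?_⟩
  · obtain ⟨E, hE, hle⟩ := exists_le_defectGroup hM hind hD
    have heq : D.map T.subtype = E := by
      refine Subgroup.eq_of_le_of_card_ge hle ?_
      rw [Subgroup.card_map_of_injective T.subtype_injective, IsDefectGroup.card_eq hM hB' hD,
        IsDefectGroup.card_eq hM hind.2.1 hE, hdef]
    rwa [heq]
  · obtain ⟨χ, hχ, he⟩ := hmem ψ hψ
    refine ⟨χ, hχ, he, ?_⟩
    have h1 := BlockHeights.minExp_add_blockHeight (p := p) hχ
    have h2 := BlockHeights.minExp_add_blockHeight (p := p) hψ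
    have h3 := hnu χ ψ he
    simp only [BlockHeights.nu] at h1 h2
    omega

end Cfsg.Agent.S4436
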