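import Cfsg.Statements.S0942
import Cfsg.Agent.Lib.Blocks.Principal
import Cfsg.Agent.Lib.Blocks.Covering
import Cfsg.Agent.Lib.Cores.PCore

set_option autoImplicit false
open Cfsg
open Cfsg.Agent.Lib.Blocks Cfsg.Agent.Lib.Characters Cfsg.Agent.Lib.Cores
open scoped ComplexConjugate

namespace Cfsg.Agent.S0942

/-- Let u be a p-element of the finite group G, let v lie in the largest normal subgroup of C_G(u) of order prime to p, and let χ belong to the principal block (relative to a maximal ideal M of the algebraic integers containing p). Then χ (u * v) = χ u. -/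
theorem result {G : Type*} [Group G] [Finite G] (p : ℕ) [Fact p.Prime] (M : Ideal Cfsg.AlgInt) (hM : Cfsg.IsPModular p M) (u : G) (hu : ∃ k : ℕ, orderOf u = p ^ k) (v : G) (hv : v ∈ Cfsg.centralizerPPrimeCore p u) (χ : Cfsg.IrrCharacter G) (hχ : χ ∈ Cfsg.principalBlock M G) : (χ : G → ℂ) (u * v) = (χ : G → ℂ) u := by
  classical
  haveI := Fintype.ofFinite G
  haveI := isPrime_of_isPModular hM
  haveI := Fintype.ofFinite (Subgroup.centralizer ({u} : Set G))
  obtain ⟨c, hc, rfl⟩ := hv
  haveI : (pPrimeCore p (Subgroup.centralizer ({u} : Set G))).Normal :=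
    (pPrimeCore_mem p (Subgroup.centralizer ({u} : Set G))).1
  haveI := Fintype.ofFinite (pPrimeCore p (Subgroup.centralizer ({u} : Set G)))
  have hcreg : ¬ p ∣ orderOf c := fun h => not_dvd_card_pPrimeCore (p := p)
    (G := Subgroup.centralizer ({u} : Set G))
    (h.trans ((Subgroup.orderOf_mk c hc) ▸ orderOf_dvd_natCard (⟨c, hc⟩ :
      pPrimeCore p (Subgroup.centralizer ({u} : Set G)))))
  have h1 := blockPart_principal_eq hM hu hχ hcreg
  have h2 := blockPart_principal_eq hM hu hχ (y := (1 : Subgroup.centralizer ({u} : Set G)))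
    (by rw [orderOf_one, Nat.dvd_one]; exact hM.1.ne_one)
  simp only [OneMemClass.coe_one, mul_one] at h2
  rw [← h2]
  show (χ : G → ℂ) (u * (c : G)) = _
  rw [← h1, blockPart, blockPart]
  refine finsum_mem_congr rfl fun η hη => ?_
  rw [trivial_on_of_sameBlock (pPrimeCore p (Subgroup.centralizer ({u} : Set G))) hM
    not_dvd_card_pPrimeCore (χ := trivIrr _) hη (fun n _ => rfl) c hc]

end Cfsg.Agent.S0942
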