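import Cfsg.Statements.S0901
import Cfsg.Agent.Lib.Blocks.LocalRing
import Mathlib.FieldTheory.Finite.Basic
import Mathlib.FieldTheory.KummerExtension
import Mathlib.RingTheory.RootsOfUnity.Complex

set_option autoImplicit false
open Cfsg
open Cfsg.Agent.Lib.Blocks

namespace Cfsg.Agent.S0901

/-- Let M be a maximal ideal of the ring of algebraic integers containing the prime p, and let U be the set of complex roots of unity of order prime to p. Then reduction modulo M is injective on U, and every algebraic integer not in M is congruent modulo M to an element of U (so U maps bijectively onto the nonzero residues). -/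
theorem result (p : ℕ) [Fact p.Prime] (M : Ideal Cfsg.AlgInt) (hM : Cfsg.IsPModular p M) : (∀ ε₁ ε₂ : Cfsg.AlgInt, (∃ m : ℕ, ¬ p ∣ m ∧ (ε₁ : ℂ) ^ m = 1) → (∃ m : ℕ, ¬ p ∣ m ∧ (ε₂ : ℂ) ^ m = 1) → ε₁ - ε₂ ∈ M → ε₁ = ε₂) ∧ (∀ a : Cfsg.AlgInt, a ∉ M → ∃ ε : Cfsg.AlgInt, (∃ m : ℕ, ¬ p ∣ m ∧ (ε : ℂ) ^ m = 1) ∧ a - ε ∈ M) := by
  classical
  haveI := isPrime_of_isPModular hM
  haveI := hM.2.1
  constructor
  · rintro ε₁ ε₂ ⟨m₁, hm₁, h₁⟩ ⟨m₂, hm₂, h₂⟩ hd
    by_contra hne
    have hpm : ¬ p ∣ m₁ * m₂ := fun h => (hM.1.dvd_mul.1 h).elim hm₁ hm₂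
    have hm0 : m₁ * m₂ ≠ 0 := fun h => hpm (h ▸ dvd_zero p)
    have e₁ : ε₁ ^ m₁ = 1 := Subtype.ext (by simpa using h₁)
    have e₂ : ε₂ ^ m₂ = 1 := Subtype.ext (by simpa using h₂)
    have hn₁ : ε₁ ^ (m₁ * m₂) = 1 := by rw [pow_mul, e₁, one_pow]
    have hn₂ : ε₂ ^ (m₁ * m₂) = 1 := by rw [mul_comm, pow_mul, e₂, one_pow]
    set w := ε₁ * ε₂ ^ (m₁ * m₂ - 1) with hw
    have hwm : w ^ (m₁ * m₂) = 1 := by
      rw [hw, mul_pow, hn₁, ← pow_mul, mul_comm, mul_one, mul_comm, pow_mul, hn₂, one_pow]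
    have hinv : ε₂ * ε₂ ^ (m₁ * m₂ - 1) = 1 := by
      rw [← pow_succ', Nat.sub_add_cancel (Nat.pos_of_ne_zero hm0), hn₂]
    have hw1 : w - 1 ≠ 0 := by
      intro h
      rw [sub_eq_zero] at h
      apply hne
      calc ε₁ = ε₁ * (ε₂ * ε₂ ^ (m₁ * m₂ - 1)) := by rw [hinv, mul_one]
        _ = w * ε₂ := by rw [hw]; ring
        _ = ε₂ := by rw [h, one_mul]
    have hsum : ∑ i ∈ Finset.range (m₁ * m₂), w ^ i = 0 := by
      have := mul_geom_sum w (m₁ * m₂)
      rw [hwm, sub_self] at this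
      exact (mul_eq_zero.1 this).resolve_left hw1
    have hwM : Ideal.Quotient.mk M w = 1 := by
      rw [← map_one (Ideal.Quotient.mk M), Ideal.Quotient.eq]
      have : w - 1 = (ε₁ - ε₂) * ε₂ ^ (m₁ * m₂ - 1) := by rw [hw, sub_mul, hinv]
      rw [this]; exact M.mul_mem_right _ hd
    have := congrArg (Ideal.Quotient.mk M) hsum
    rw [map_sum, map_zero] at this
    simp only [map_pow, hwM, one_pow, Finset.sum_const, Finset.card_range, nsmul_eq_mul, mul_one] at this
    rw [← map_natCast (Ideal.Quotient.mk M), Ideal.Quotient.eq_zero_iff_mem, natCast_mem_iff hM] at this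
    exact hpm this
  · intro a ha
    letI : Field (Cfsg.AlgInt ⧸ M) := Ideal.Quotient.field M
    haveI : CharP (Cfsg.AlgInt ⧸ M) p := CharP.charP_iff_prime_eq_zero hM.1 |>.2 (by
      rw [← map_natCast (Ideal.Quotient.mk M), Ideal.Quotient.eq_zero_iff_mem]; exact hM.2.2)
    letI : Algebra (ZMod p) (Cfsg.AlgInt ⧸ M) := ZMod.algebra _ p
    set x := Ideal.Quotient.mk M a with hx
    have hint : IsIntegral (ZMod p) x := by
      obtain ⟨f, hf, hfa⟩ := a.2
      refine ⟨f.map (Int.castRingHom (ZMod p)), hf.map _, ?_⟩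
      rw [Polynomial.eval₂_map]
      have h0 : Polynomial.eval₂ (Int.castRingHom Cfsg.AlgInt) a f = 0 := by
        refine Subtype.ext ?_
        show Cfsg.AlgInt.val.toRingHom _ = 0
        rw [Polynomial.hom_eval₂]
        exact (congrArg (fun φ : ℤ →+* ℂ => Polynomial.eval₂ φ (a : ℂ) f) (RingHom.ext_int _ _)).trans hfa
      have := congrArg (Ideal.Quotient.mk M) h0
      rw [Polynomial.hom_eval₂, map_zero] at this
      exact (congrArg (fun φ : ℤ →+* (Cfsg.AlgInt ⧸ M) => Polynomial.eval₂ φ x f) (RingHom.ext_int _ _)).trans this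
    haveI := IntermediateField.adjoin.finiteDimensional hint
    haveI : Finite (IntermediateField.adjoin (ZMod p) {x}) := Module.finite_of_finite (ZMod p)
    haveI := Fintype.ofFinite (IntermediateField.adjoin (ZMod p) {x})
    set m := Fintype.card (IntermediateField.adjoin (ZMod p) {x}) - 1 with hm
    have hx0 : x ≠ 0 := fun h => ha (Ideal.Quotient.eq_zero_iff_mem.1 h)
    have hxm : x ^ m = 1 := by
      have := FiniteField.pow_card_sub_one_eq_one
        (⟨x, IntermediateField.mem_adjoin_simple_self _ x⟩ : IntermediateField.adjoin (ZMod p) {x})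
        (fun h => hx0 (congrArg Subtype.val h))
      exact congrArg Subtype.val this
    have hcard : 1 < Fintype.card (IntermediateField.adjoin (ZMod p) {x}) := Fintype.one_lt_card
    have hpm : ¬ p ∣ m := by
      intro h
      have hc : p ∣ Fintype.card (IntermediateField.adjoin (ZMod p) {x}) := by
        rw [Module.card_eq_pow_finrank (K := ZMod p), ZMod.card]
        exact dvd_pow_self p Module.finrank_pos.ne'
      have h1 := Nat.dvd_sub hc h
      rw [hm, show ∀ n, 1 < n → n - (n - 1) = 1 by omega] at h1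
      · exact hM.1.not_dvd_one h1
      · exact hcard
    have hm0 : m ≠ 0 := by omega
    haveI : NeZero m := ⟨hm0⟩
    have hζ := Complex.isPrimitiveRoot_exp m hm0
    let ζ : Cfsg.AlgInt := ⟨_, hζ.isIntegral (Nat.pos_of_ne_zero hm0)⟩
    have hζ' : IsPrimitiveRoot ζ m :=
      IsPrimitiveRoot.of_map_of_injective (f := Cfsg.AlgInt.val) hζ Subtype.val_injective
    have hev := congrArg (fun P : Polynomial Cfsg.AlgInt => Polynomial.eval x (P.map (Ideal.Quotient.mk M)))
      (X_pow_sub_C_eq_prod hζ' (Nat.pos_of_ne_zero hm0) (one_pow m))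
    simp only [Polynomial.map_sub, Polynomial.map_pow, Polynomial.map_X, Polynomial.map_C, map_one, Polynomial.map_one,
      Polynomial.eval_sub, Polynomial.eval_pow, Polynomial.eval_X, Polynomial.eval_one, hxm, sub_self,
      Polynomial.map_prod, Polynomial.eval_prod, Polynomial.eval_C, mul_one] at hev
    obtain ⟨i, -, hi⟩ := Finset.prod_eq_zero_iff.1 hev.symm
    refine ⟨ζ ^ i, ⟨m, hpm, ?_⟩, ?_⟩
    · rw [← SubmonoidClass.coe_pow, ← pow_mul, mul_comm, pow_mul, hζ'.pow_eq_one, one_pow]; rfl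
    · rw [← Ideal.Quotient.eq, ← sub_eq_zero]
      exact hi

end Cfsg.Agent.S0901
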