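import Cfsg.Statements.S2421
import Cfsg.Agent.Lib.Flag.Degree
import Cfsg.Agent.Lib.Flag.Inner

set_option autoImplicit false
open scoped MatrixGroups
open Cfsg

namespace Cfsg.Agent.S2421

open Cfsg.Agent.Lib.Flag Cfsg.Agent.Lib.Characters

/-- Irreducible characters of `GL_n(q)` indexed by partitions: for `ν` a partition of `n` written with `n` non-decreasing parts `ν_0 ≤ ⋯ ≤ ν_{n−1}` (zeros allowed; positions counted from 0) and `λ_i = ν_i + i`, the alternating sum over permutations `κ` of `{0, …, n−1}` of `sign κ` times the permutation character on partial flags of type `λ − κ` (terms with a negative entry omitted) is an irreducible complex character of `GL_n(q)`. For `ν = (1, …, 1)` this is the Steinberg character. -/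
theorem result {F : Type*} [Field F] [Fintype F] {n : ℕ} (ν : Fin n → ℕ) (hmono : Monotone ν) (hsum : ∑ i, ν i = n) :
    Cfsg.IsIrrCharacter (GL (Fin n) F) (Cfsg.unipotentCharacterGL n F ν) := by
  classical

  have hnorm : Cfsg.classInner (Cfsg.unipotentCharacterGL n F ν) (Cfsg.unipotentCharacterGL n F ν) = 1 := by
    rw [classInner_unipotent ν ν hmono hsum hmono hsum, if_pos rfl]

  obtain ⟨χ, hχ | hχ⟩ := IsGeneralizedCharacter.eq_pm_irr (isGeneralized_unipotent (F := F) ν) hnorm
  · rw [hχ]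
    exact χ.2
  · exfalso
    obtain ⟨d, hd, hd'⟩ := Cfsg.Agent.Lib.Characters.IsIrrCharacter.exists_apply_one χ.2
    have h := Cfsg.Agent.Lib.Flag.unipotent_degree (F := F) hsum
    rw [hχ, Pi.neg_apply, hd'] at h
    set q := Fintype.card F with hq
    have hq2 : 2 ≤ q := Fintype.one_lt_card
    have hlt : ∀ i j : Fin n, i < j → Cfsg.Agent.Lib.Flag.qint q (ν i + i.val) < Cfsg.Agent.Lib.Flag.qint q (ν j + j.val) := by
      intro i j hij
      have h1 : ν i + i.val + 1 ≤ ν j + j.val := by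
        have := hmono hij.le
        have : i.val < j.val := hij
        omega
      refine lt_of_lt_of_le ?_ (Finset.sum_le_sum_of_subset (Finset.range_mono h1))
      rw [Finset.sum_range_succ]
      exact Nat.lt_add_of_pos_right (pow_pos (by omega) _)
    have hR : ∏ i : Fin n, ∏ j ∈ Finset.Ioi i,
        ((Cfsg.Agent.Lib.Flag.qint q (ν j + j.val) : ℂ) - (Cfsg.Agent.Lib.Flag.qint q (ν i + i.val) : ℂ)) =
        ((∏ i : Fin n, ∏ j ∈ Finset.Ioi i,
          (Cfsg.Agent.Lib.Flag.qint q (ν j + j.val) - Cfsg.Agent.Lib.Flag.qint q (ν i + i.val)) : ℕ) : ℂ) := by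
      rw [Nat.cast_prod]
      refine Finset.prod_congr rfl fun i _ => ?_
      rw [Nat.cast_prod]
      exact Finset.prod_congr rfl fun j hj => (Nat.cast_sub (hlt i j (Finset.mem_Ioi.1 hj)).le).symm
    rw [hR] at h
    have h' : ((d * q ^ (n * (n - 1) * (n - 2) / 6) * ∏ i : Fin n, Cfsg.Agent.Lib.Flag.qfac q (ν i + i.val) +
        Cfsg.Agent.Lib.Flag.qfac q n * ∏ i : Fin n, ∏ j ∈ Finset.Ioi i,
          (Cfsg.Agent.Lib.Flag.qint q (ν j + j.val) - Cfsg.Agent.Lib.Flag.qint q (ν i + i.val)) : ℕ) : ℂ) = 0 := by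
      rw [Nat.cast_add, Nat.cast_mul, Nat.cast_mul, Nat.cast_mul, Nat.cast_pow, Nat.cast_prod, ← h]
      ring
    rw [Nat.cast_eq_zero] at h'
    have hpos : 0 < d * q ^ (n * (n - 1) * (n - 2) / 6) * ∏ i : Fin n, Cfsg.Agent.Lib.Flag.qfac q (ν i + i.val) :=
      Nat.mul_pos (Nat.mul_pos hd (pow_pos (by omega) _))
        (Finset.prod_pos fun i _ => Cfsg.Agent.Lib.Flag.qfac_pos _)
    omega

end Cfsg.Agent.S2421
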