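import Cfsg.Statements.S0973
import Cfsg.Agent.Lib.Blocks.Transport
import Cfsg.Agent.Lib.Blocks.MainTheorems

set_option autoImplicit false
open Cfsg
open Cfsg.Agent.Lib.Blocks Cfsg.Agent.Lib.Characters
open scoped ComplexConjugate

namespace Cfsg.Agent.S0973

/-- Let B be a block of the finite group G with defect group P (relative to a maximal ideal M of the algebraic integers containing p), and let L = P ⊔ C_G(P). Then (i) some block b of L with defect group P (viewed in L) induces B, and (ii) if b and b' are blocks of L both inducing B, there is n ∈ N_G(P) carrying b to b': for every θ ∈ b there is θ' ∈ b' with θ' x = θ (n x n⁻¹) for all x ∈ L. -/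
theorem result {G : Type*} [Group G] [Finite G] (p : ℕ) [Fact p.Prime] (M : Ideal Cfsg.AlgInt) (hM : Cfsg.IsPModular p M) (B : Set (Cfsg.IrrCharacter G)) (hB : Cfsg.IsPBlock M B) (P : Subgroup G) (hP : Cfsg.IsDefectGroup p M B P) : (∃ b : Set (Cfsg.IrrCharacter ↥(P ⊔ Subgroup.centralizer (P : Set G))), Cfsg.IsDefectGroup p M b (P.subgroupOf (P ⊔ Subgroup.centralizer (P : Set G))) ∧ Cfsg.IsInducedBlock M (P ⊔ Subgroup.centralizer (P : Set G)) b B) ∧ ∀ b b' : Set (Cfsg.IrrCharacter ↥(P ⊔ Subgroup.centralizer (P : Set G))), Cfsg.IsInducedBlock M (P ⊔ Subgroup.centralizer (P : Set G)) b B → Cfsg.IsInducedBlock M (P ⊔ Subgroup.centralizer (P : Set G)) b' B → ∃ n ∈ Subgroup.normalizer (P : Set G), ∀ θ ∈ b, ∃ θ' ∈ b', ∀ x : ↥(P ⊔ Subgroup.centralizer (P : Set G)), ∀ hx : n * (x : G) * n⁻¹ ∈ P ⊔ Subgroup.centralizer (P : Set G), (θ' : ↥(P ⊔ Subgroup.centralizer (P : Set G)) → ℂ) x = (θ : ↥(P ⊔ Subgroup.centralizer (P : Set G)) → ℂ) ⟨n * (x : G) * n⁻¹, hx⟩ := by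
  classical
  haveI := Fintype.ofFinite G
  haveI := isPrime_of_isPModular hM
  have hPp := IsDefectGroup.isPGroup hP
  have hPH : P ≤ P ⊔ Subgroup.centralizer (P : Set G) := le_sup_left
  have hCH : Subgroup.centralizer (P : Set G) ≤ P ⊔ Subgroup.centralizer (P : Set G) := le_sup_right
  have hPN : P ≤ Subgroup.normalizer (P : Set G) := Subgroup.le_normalizer
  have hHN : P ⊔ Subgroup.centralizer (P : Set G) ≤ Subgroup.normalizer (P : Set G) :=
    sup_le hPN (Subgroup.centralizer_le_normalizer _)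
  haveI := Fintype.ofFinite ↥(P ⊔ Subgroup.centralizer (P : Set G))
  constructor
  · obtain ⟨b, hb⟩ := exists_isInducedBlock hM hPp hPH hCH hHN hB hP (x := 1)
      (by rintro _ ⟨a, ha, rfl⟩; simpa using ha)
    exact ⟨b, isDefectGroup_of_isInducedBlock hM hPH hHN hb hP, hb⟩
  intro b b' hb hb'
  haveI := Fintype.ofFinite (Subgroup.normalizer (P : Set G))
  let H' : Subgroup (Subgroup.normalizer (P : Set G)) :=
    (P ⊔ Subgroup.centralizer (P : Set G)).subgroupOf (Subgroup.normalizer (P : Set G))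
  haveI := Fintype.ofFinite H'
  haveI hH'n : H'.Normal := by
    haveI := subgroupOf_normal_of_le_normalizer (P := P) (H := Subgroup.normalizer (P : Set G)) le_rfl
    have heq : H' = P.subgroupOf (Subgroup.normalizer (P : Set G)) ⊔ Subgroup.centralizer
        ((P.subgroupOf (Subgroup.normalizer (P : Set G))) : Set (Subgroup.normalizer (P : Set G))) := by
      show (P ⊔ Subgroup.centralizer (P : Set G)).subgroupOf _ = _
      rw [Subgroup.subgroupOf_sup hPN (Subgroup.centralizer_le_normalizer _)]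
      congr 1
      ext y
      exact (mem_centralizer_subgroupOf hPN y).symm
    rw [heq]
    infer_instance
  let e : H' ≃* ↥(P ⊔ Subgroup.centralizer (P : Set G)) := Subgroup.subgroupOfEquivOfLe hHN
  have hnP : P.subgroupOf (Subgroup.normalizer (P : Set G)) ≤ H' := fun y hy =>
    Subgroup.mem_subgroupOf.2 (hPH (Subgroup.mem_subgroupOf.1 hy))
  have hnC : Subgroup.centralizer ((P.subgroupOf (Subgroup.normalizer (P : Set G))) :
      Set (Subgroup.normalizer (P : Set G))) ≤ H' := fun y hy =>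
    Subgroup.mem_subgroupOf.2 (hCH ((mem_centralizer_subgroupOf hPN y).1 hy))
  haveI := subgroupOf_normal_of_le_normalizer (P := P) (H := Subgroup.normalizer (P : Set G)) le_rfl
  have hnN : H' ≤ Subgroup.normalizer
      ((P.subgroupOf (Subgroup.normalizer (P : Set G))) : Set (Subgroup.normalizer (P : Set G))) :=
    (Subgroup.normalizer_eq_top (H := P.subgroupOf (Subgroup.normalizer (P : Set G)))) ▸ le_top
  have hPp' : IsPGroup p (P.subgroupOf (Subgroup.normalizer (P : Set G))) :=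
    hPp.of_equiv (Subgroup.subgroupOfEquivOfLe hPN).symm
  have key : ∀ {b₀ : Set (Cfsg.IrrCharacter ↥(P ⊔ Subgroup.centralizer (P : Set G)))},
      IsInducedBlock M _ b₀ B → ∀ ξ ∈ b₀, ∃ ψ : Cfsg.IrrCharacter (Subgroup.normalizer (P : Set G)),
      (∀ F, IsRCentral M F → MemLocalIdeal M
        (omega (compEquivIrr e ξ : H' → ℂ) (resFun H' F) - omega (ψ : _ → ℂ) F)) ∧
      IsInducedBlock M (Subgroup.normalizer (P : Set G))
        (blockOf M (ψ : Subgroup.normalizer (P : Set G) → ℂ)) B := by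
    intro b₀ hb₀ ξ hξ
    obtain ⟨ψ, hψ⟩ := exists_induced_char hM hPp' hnP hnC hnN (compEquivIrr e ξ)
    refine ⟨ψ, hψ, ?_⟩
    obtain ⟨χ, hχ⟩ := IsPBlock.nonempty hB
    refine isInducedBlock_of_pair (isPBlock_blockOf ψ) hB (self_mem_blockOf ψ) hχ fun g => ?_
    have h1 := hψ _ (isRCentral_resFun (Subgroup.normalizer (P : Set G))
      (isRCentral_classIndicator (M := M) g))
    rw [show (compEquivIrr e ξ : H' → ℂ) = (ξ : _ → ℂ) ∘ e from rfl, omega_comp_equiv,
      show resFun H' (resFun (Subgroup.normalizer (P : Set G)) (classIndicator g)) ∘ e.symm =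
        resFun (P ⊔ Subgroup.centralizer (P : Set G)) (classIndicator g) from rfl] at h1
    have h2 := IsInducedBlock.omega_congr hb₀ hξ hχ (isRCentral_classIndicator (M := M) g)
    rw [omega_classIndicator (irr_isClassFunction χ)] at h2
    simpa using memLocalIdeal_sub h2 h1
  obtain ⟨ξ, hξ⟩ := IsPBlock.nonempty hb.1
  obtain ⟨ξ', hξ'⟩ := IsPBlock.nonempty hb'.1
  obtain ⟨ψ, hψ, hψB⟩ := key hb ξ hξ
  obtain ⟨ψ', hψ', hψB'⟩ := key hb' ξ' hξ'
  have heqb := eq_of_isInducedBlock hM hψB hψB'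
    (isDefectGroup_of_isInducedBlock hM hPN le_rfl hψB hP)
  have hsame : SameBlock M (ψ : Subgroup.normalizer (P : Set G) → ℂ)
      (ψ' : Subgroup.normalizer (P : Set G) → ℂ) := by
    have : ψ' ∈ blockOf M (ψ : Subgroup.normalizer (P : Set G) → ℂ) := heqb ▸ self_mem_blockOf ψ'
    exact this
  have hF : IsRCentral M (orbitIdem H' (blockOf M (compEquivIrr e ξ : H' → ℂ))) :=
    isRCentral_orbitIdem H' hM fun φ hφ => (blockOf_eq_of_sameBlock hφ).ge
  have hmem : compEquivIrr e ξ' ∈ conjClosure H' (blockOf M (compEquivIrr e ξ : H' → ℂ)) := by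
    by_contra hne
    have h1 := hψ _ hF
    have h2 := hψ' _ hF
    rw [resFun_orbitIdem, omega_blockCoeff,
      if_pos (subset_conjClosure H' _ (self_mem_blockOf _))] at h1
    rw [resFun_orbitIdem, omega_blockCoeff, if_neg hne] at h2
    have h3 := omega_congr_of_sameBlock hsame hF
    exact not_memLocalIdeal_one (by
      simpa using memLocalIdeal_sub (memLocalIdeal_add h1 h3) h2)
  obtain ⟨n, η, hη, he⟩ := hmem
  refine ⟨(n : G), n.2, fun θ hθ => ?_⟩
  have hs1 : SameBlock M (compEquivIrr e θ : H' → ℂ) (η : H' → ℂ) :=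
    sameBlock_trans (sameBlock_compEquivIrr e (IsPBlock.sameBlock hb.1 hθ hξ)) hη
  have hs2 : SameBlock M (conjIrrN H' n (compEquivIrr e θ) : H' → ℂ)
      (compEquivIrr e ξ' : H' → ℂ) := he ▸ sameBlock_conjFun H' hs1 n
  have hs3 := sameBlock_compEquivIrr e.symm hs2
  rw [compEquivIrr_symm] at hs3
  refine ⟨compEquivIrr e.symm (conjIrrN H' n (compEquivIrr e θ)),
    (IsPBlock.mem_iff hb'.1 hξ').2 (sameBlock_symm hs3), fun x hx => ?_⟩
  exact congrArg (θ : ↥(P ⊔ Subgroup.centralizer (P : Set G)) → ℂ) (Subtype.ext rfl)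

end Cfsg.Agent.S0973
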