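import Cfsg.Statements.S0938
import Cfsg.Agent.Lib.Blocks.Covering
import Cfsg.Agent.Lib.Cores.PCore

set_option autoImplicit false
open Cfsg
open Cfsg.Agent.Lib.Blocks Cfsg.Agent.Lib.Characters Cfsg.Agent.Lib.Cores
open scoped ComplexConjugate

namespace Cfsg.Agent.S0938

/-- Let B be a block of the finite group G relative to a maximal ideal M of the algebraic integers containing the prime p, and let χ ∈ B. Then the kernel of B (the set of g with ψ g = ψ 1 for all ψ ∈ B) is a normal subgroup of order prime to p contained in the kernel of χ, and it contains every normal subgroup of order prime to p on which χ takes the value χ(1); that is, it is O_p' of the kernel of χ. -/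
theorem result {G : Type*} [Group G] [Finite G] (p : ℕ) [Fact p.Prime] (M : Ideal Cfsg.AlgInt) (hM : Cfsg.IsPModular p M) (B : Set (Cfsg.IrrCharacter G)) (hB : Cfsg.IsPBlock M B) (χ : Cfsg.IrrCharacter G) (hχ : χ ∈ B) : ∃ K : Subgroup G, K.Normal ∧ (K : Set G) = Cfsg.blockKer B ∧ ¬ p ∣ Nat.card K ∧ (∀ g ∈ K, (χ : G → ℂ) g = (χ : G → ℂ) 1) ∧ ∀ N : Subgroup G, N.Normal → ¬ p ∣ Nat.card N → (∀ g ∈ N, (χ : G → ℂ) g = (χ : G → ℂ) 1) → N ≤ K := by
  classical
  haveI := Fintype.ofFinite G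
  haveI := Fintype.ofFinite (Cfsg.IrrCharacter G)
  haveI := isPrime_of_isPModular hM
  let K : Subgroup G := ⨅ ψ : B, charKernel (irr_isCharacter (ψ : Cfsg.IrrCharacter G))
  have hK : ∀ g, g ∈ K ↔ ∀ ψ ∈ B, (ψ : G → ℂ) g = (ψ : G → ℂ) 1 := by
    intro g
    simp [K, Subgroup.mem_iInf, mem_charKernel]
  refine ⟨K, ⟨fun n hn g => ?_⟩, Set.ext fun g => hK g, fun hd => ?_,
    fun g hg => (hK g).1 hg χ hχ, ?_⟩
  · rw [hK] at hn ⊢
    intro ψ hψ
    rw [irr_isClassFunction ψ n g]
    exact hn ψ hψ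
  · obtain ⟨x, hx⟩ := exists_prime_orderOf_dvd_card' (G := K) p hd
    have hx' : orderOf (x : G) = p := by rw [Subgroup.orderOf_coe, hx]
    have h := finsum_regular_singular_eq_zero hM hB (g := (1 : G)) (h := (x : G))
      (by rw [orderOf_one, Nat.dvd_one]; exact hM.1.ne_one) hx'.symm.dvd
    rw [finsum_irr_eq_sum_ite] at h
    have hre : (∑ ψ : Cfsg.IrrCharacter G, if ψ ∈ B then ‖(ψ : G → ℂ) 1‖ ^ 2 else 0 : ℝ) = 0 := by
      have hc : ((∑ ψ : Cfsg.IrrCharacter G, if ψ ∈ B then ‖(ψ : G → ℂ) 1‖ ^ 2 else 0 : ℝ) : ℂ) =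
          0 := by
        rw [← h]
        push_cast
        refine Finset.sum_congr rfl fun ψ _ => ?_
        split_ifs with hψ
        · rw [(hK _).1 x.2 ψ hψ, Complex.mul_conj, Complex.normSq_eq_norm_sq]
        · rfl
      exact_mod_cast hc
    have := (Finset.sum_eq_zero_iff_of_nonneg fun ψ _ => by split_ifs <;> positivity).1 hre χ
      (Finset.mem_univ _)
    rw [if_pos hχ] at this
    exact IsIrrCharacter.apply_one_ne_zero χ.2 (by simpa using this)
  · intro N hN hNp hker g hg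
    haveI := hN
    haveI := Fintype.ofFinite N
    exact (hK g).2 fun ψ hψ =>
      trivial_on_of_sameBlock N hM hNp (IsPBlock.sameBlock hB hχ hψ) hker g hg

end Cfsg.Agent.S0938
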