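import Cfsg.Statements.S0741
import Mathlib.GroupTheory.GroupAction.MultipleTransitivity
import Mathlib.GroupTheory.Perm.Cycle.Type

set_option autoImplicit false
open Cfsg

namespace Cfsg.Agent.S0741

/-- If the two-point stabilisers of a finite Zassenhaus group of degree `n + 1` have even order `d`, then `2d ≥ n - 1`. -/
theorem result {G Ω : Type*} [Group G] [Finite G] [MulAction G Ω] [Fintype Ω] (hZ : Cfsg.IsZassenhausGroup G Ω) {a b : Ω} (hab : a ≠ b) (heven : Even (Nat.card ↥(MulAction.stabilizer G a ⊓ MulAction.stabilizer G b))) : Fintype.card Ω - 2 ≤ 2 * Nat.card ↥(MulAction.stabilizer G a ⊓ MulAction.stabilizer G b) := by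
  classical
  obtain ⟨hfaith, h2, h3, -, -⟩ := hZ
  haveI := hfaith
  haveI := h2
  haveI : Fintype G := Fintype.ofFinite G
  haveI : Fact (Nat.Prime 2) := ⟨Nat.prime_two⟩
  obtain ⟨t, ht⟩ := exists_prime_orderOf_dvd_card'
    (G := ↥(MulAction.stabilizer G a ⊓ MulAction.stabilizer G b)) 2 heven.two_dvd
  rw [← Subgroup.orderOf_coe] at ht
  -- an involution fixing exactly two given points
  have hex : ∀ u v : Ω, u ≠ v → ∃ s : G, s * s = 1 ∧ s • u = u ∧ s • v = v ∧
      ∀ z, s • z = z → z = u ∨ z = v := by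
    intro u v huv
    obtain ⟨h, hh⟩ := MulAction.exists_smul_eq G
      (⟨![a, b], by intro i j; fin_cases i <;> fin_cases j <;> simp [hab, hab.symm]⟩ : Fin 2 ↪ Ω)
      (⟨![u, v], by intro i j; fin_cases i <;> fin_cases j <;> simp [huv, huv.symm]⟩ : Fin 2 ↪ Ω)
    have e0 : h • a = u := DFunLike.congr_fun hh 0
    have e1 : h • b = v := DFunLike.congr_fun hh 1
    have hu : (h * (t : G) * h⁻¹) • u = u := by
      rw [← e0, mul_smul, mul_smul, inv_smul_smul, MulAction.mem_stabilizer_iff.1 t.2.1]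
    have hv : (h * (t : G) * h⁻¹) • v = v := by
      rw [← e1, mul_smul, mul_smul, inv_smul_smul, MulAction.mem_stabilizer_iff.1 t.2.2]
    have htt : (t : G) * t = 1 := by rw [← sq, ← ht, pow_orderOf_eq_one]
    refine ⟨h * t * h⁻¹, ?_, hu, hv, fun z hz => ?_⟩
    · rw [show h * (t : G) * h⁻¹ * (h * t * h⁻¹) = h * ((t : G) * t) * h⁻¹ by group, htt]
      group
    · by_contra hne
      rw [not_or] at hne
      have := h3 _ u v z huv (Ne.symm hne.2) (Ne.symm hne.1) hu hv hz
      rw [conj_eq_one_iff] at this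
      rw [this, orderOf_one] at ht
      omega
  choose s hs hsu hsv hsf using hex
  set d := Nat.card ↥(MulAction.stabilizer G a ⊓ MulAction.stabilizer G b)
  set n := Fintype.card Ω
  -- the triples, and the swaps they give
  let T : Finset ((Ω × Ω) × Ω) := Finset.univ.filter fun q => q.1.1 ≠ q.1.2 ∧ q.2 ≠ q.1.1 ∧ q.2 ≠ q.1.2
  let B : Finset ((Ω × Ω) × G) := Finset.univ.filter fun q => q.1.1 ≠ q.1.2 ∧ q.2 • q.1.1 = q.1.2 ∧ q.2 • q.1.2 = q.1.1
  let φ : (Ω × Ω) × Ω → (Ω × Ω) × G := fun q =>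
    if h : q.1.1 ≠ q.1.2 then ((q.2, s _ _ h • q.2), s _ _ h) else ((q.2, q.2), 1)
  have hmaps : Set.MapsTo φ T B := by
    intro q hq
    simp only [T, Finset.coe_filter, Finset.mem_univ, true_and, Set.mem_setOf_eq] at hq
    simp only [B, φ, dif_pos hq.1, Finset.coe_filter, Finset.mem_univ, true_and, Set.mem_setOf_eq]
    refine ⟨fun e => ?_, ?_⟩
    · rcases hsf _ _ hq.1 q.2 e.symm with h | h
      · exact hq.2.1 h
      · exact hq.2.2 h
    · rw [← mul_smul, hs, one_smul]
  have hfib : ∀ y ∈ B, (T.filter fun q => φ q = y).card ≤ 2 := by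
    intro y _
    by_cases hne : (T.filter fun q => φ q = y).Nonempty
    swap
    · rw [Finset.not_nonempty_iff_eq_empty.1 hne]; simp
    obtain ⟨q, hq⟩ := hne
    refine (Finset.card_le_card (t := {q, ((q.1.2, q.1.1), q.2)}) fun r hr => ?_).trans Finset.card_le_two
    simp only [T, Finset.mem_filter, Finset.mem_univ, true_and] at hq hr
    have hqy := hq.2
    have hry := hr.2
    simp only [φ, dif_pos hq.1.1, dif_pos hr.1.1] at hqy hry
    replace hry := hry.trans hqy.symm
    rw [Prod.ext_iff, Prod.ext_iff] at hry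
    obtain ⟨⟨h1, -⟩, h2'⟩ := hry
    simp only at h1 h2'
    have a1 := hsf _ _ hq.1.1 r.1.1 (h2' ▸ hsu _ _ hr.1.1)
    have a2 := hsf _ _ hq.1.1 r.1.2 (h2' ▸ hsv _ _ hr.1.1)
    simp only [Finset.mem_insert, Finset.mem_singleton, Prod.ext_iff]
    rcases a1 with a1 | a1 <;> rcases a2 with a2 | a2
    · exact absurd (a1.trans a2.symm) hr.1.1
    · exact Or.inl ⟨⟨a1, a2⟩, h1⟩
    · exact Or.inr ⟨⟨a1, a2⟩, h1⟩
    · exact absurd (a1.trans a2.symm) hr.1.1
  have h1 := Finset.card_le_mul_card_image T 2 (fun y hy => hfib y (by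
    obtain ⟨q, hq, rfl⟩ := Finset.mem_image.1 hy
    exact hmaps hq))
  have h2c : (T.image φ).card ≤ B.card :=
    Finset.card_le_card fun y hy => by obtain ⟨q, hq, rfl⟩ := Finset.mem_image.1 hy; exact hmaps hq
  -- count the triples
  let P : Finset (Ω × Ω) := Finset.univ.filter fun q => q.1 ≠ q.2
  have hT : T.card = P.card * (n - 2) := by
    rw [mul_comm, Finset.card_eq_sum_card_fiberwise (f := Prod.fst) (t := P) (fun q hq => by
      simp only [T, Finset.coe_filter, Finset.mem_univ, true_and, Set.mem_setOf_eq] at hq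
      simpa [P] using hq.1)]
    rw [Finset.sum_const_nat (m := n - 2), mul_comm]
    intro p hp
    simp only [P, Finset.mem_filter, Finset.mem_univ, true_and] at hp
    rw [show (n - 2) = (Finset.univ \ ({p.1, p.2} : Finset Ω)).card by
      rw [Finset.card_univ_diff, Finset.card_pair hp]]
    refine Finset.card_bij (fun q _ => q.2) ?_ ?_ ?_
    · intro q hq
      simp only [T, Finset.mem_filter, Finset.mem_univ, true_and] at hq
      simp [← hq.2, hq.1.2.1, hq.1.2.2]
    · intro q hq r hr h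
      simp only [Finset.mem_filter] at hq hr
      exact Prod.ext (hq.2.trans hr.2.symm) h
    · intro z hz
      simp at hz
      exact ⟨(p, z), by simp [T, hp, hz.1, hz.2], rfl⟩
  have hB : B.card ≤ P.card * d := by
    rw [mul_comm]
    refine (Finset.card_le_mul_card_image_of_maps_to (f := Prod.fst) (fun q hq => ?_) d ?_)
    · simp only [B, Finset.mem_filter, Finset.mem_univ, true_and] at hq
      simpa [P] using hq.1
    intro p hp
    simp only [P, Finset.mem_filter, Finset.mem_univ, true_and] at hp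
    obtain ⟨h, hh⟩ := MulAction.exists_smul_eq G
      (⟨![a, b], by intro i j; fin_cases i <;> fin_cases j <;> simp [hab, hab.symm]⟩ : Fin 2 ↪ Ω)
      (⟨![p.1, p.2], by intro i j; fin_cases i <;> fin_cases j <;> simp [hp, hp.symm]⟩ : Fin 2 ↪ Ω)
    have e0 : h • a = p.1 := DFunLike.congr_fun hh 0
    have e1 : h • b = p.2 := DFunLike.congr_fun hh 1
    by_cases hne : (B.filter fun q => q.1 = p).Nonempty
    swap
    · rw [Finset.not_nonempty_iff_eq_empty.1 hne]; simp
    obtain ⟨q₀, hq₀⟩ := hne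
    simp only [B, Finset.mem_filter, Finset.mem_univ, true_and] at hq₀
    obtain ⟨⟨-, k1, k2⟩, k3⟩ := hq₀
    rw [k3] at k1 k2
    calc (B.filter fun q => q.1 = p).card
        ≤ ((Finset.univ : Finset ↥(MulAction.stabilizer G a ⊓ MulAction.stabilizer G b)).image
            fun g : ↥(MulAction.stabilizer G a ⊓ MulAction.stabilizer G b) => (p, q₀.2 * (h * (g : G) * h⁻¹))).card := by
          refine Finset.card_le_card fun q hq => ?_
          simp only [B, Finset.mem_filter, Finset.mem_univ, true_and] at hq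
          obtain ⟨⟨-, l1, l2⟩, l3⟩ := hq
          rw [l3] at l1 l2
          refine Finset.mem_image.2 ⟨⟨h⁻¹ * (q₀.2⁻¹ * q.2) * h, ?_, ?_⟩, Finset.mem_univ _, ?_⟩
          · show h⁻¹ * (q₀.2⁻¹ * q.2) * h ∈ MulAction.stabilizer G a
            rw [MulAction.mem_stabilizer_iff, mul_smul, mul_smul, e0, mul_smul, l1,
              show q₀.2⁻¹ • p.2 = p.1 by rw [inv_smul_eq_iff, k1], inv_smul_eq_iff, e0]
          · show h⁻¹ * (q₀.2⁻¹ * q.2) * h ∈ MulAction.stabilizer G b
            rw [MulAction.mem_stabilizer_iff, mul_smul, mul_smul, e1, mul_smul, l2,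
              show q₀.2⁻¹ • p.1 = p.2 by rw [inv_smul_eq_iff, k2], inv_smul_eq_iff, e1]
          · refine Prod.ext l3.symm ?_
            show q₀.2 * (h * (h⁻¹ * (q₀.2⁻¹ * q.2) * h) * h⁻¹) = q.2
            group
      _ ≤ _ := Finset.card_image_le
      _ = d := by rw [Finset.card_univ, ← Nat.card_eq_fintype_card]
  have hP : 0 < P.card := Finset.card_pos.2 ⟨(a, b), by simp [P, hab]⟩
  rw [hT] at h1
  have := h1.trans (Nat.mul_le_mul_left 2 (h2c.trans hB))
  exact Nat.le_of_mul_le_mul_left (by linarith) hP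

end Cfsg.Agent.S0741
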