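import Cfsg.Statements.S0731
import Cfsg.Agent.Lib.OddLocal.ZassenhausDerive
import Cfsg.Agent.Lib.OddLocal.ZassenhausHalf

set_option autoImplicit false
open Cfsg

namespace Cfsg.Agent.S0731

/-- A finite Zassenhaus group whose point stabiliser has an abelian regular normal subgroup on the remaining points is sharply triply transitive or isomorphic to `PSL(2, F)` for a finite field `F` of odd characteristic. -/
theorem result {G Ω : Type*} [Group G] [Finite G] [MulAction G Ω] [Finite Ω] (hZ : Cfsg.IsZassenhausGroup G Ω) (x : Ω) (F : Subgroup G) (hFle : F ≤ MulAction.stabilizer G x) (hFn : (F.subgroupOf (MulAction.stabilizer G x)).Normal) (hFab : IsMulCommutative F) (hreg : ∀ y z : Ω, y ≠ x → z ≠ x → ∃! u : F, (u : G) • y = z) : (MulAction.IsMultiplyPretransitive G Ω 3 ∧ ∀ t : Fin 3 ↪ Ω, MulAction.stabilizer G t = ⊥) ∨ ∃ (K : Type) (_ : Field K) (_ : Fintype K), ringChar K ≠ 2 ∧ Nonempty (G ≃* Matrix.ProjectiveSpecialLinearGroup (Fin 2)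 K) := by
  classical
  haveI := Fintype.ofFinite Ω
  obtain ⟨b, hxb⟩ : ∃ b, b ≠ x := by
    obtain ⟨g, -, a₀, b₀, hne, -, -⟩ := hZ.2.2.2.1
    by_cases h : a₀ = x
    · exact ⟨b₀, fun e => hne (h.trans e.symm)⟩
    · exact ⟨a₀, h⟩
  have K := Lib.OddLocal.ZassPSL.ker_of_reg hZ (Ne.symm hxb) hFle hreg
  set e := Nat.card ↥(MulAction.stabilizer G x ⊓ MulAction.stabilizer G b : Subgroup G)
  have hle := Lib.OddLocal.ZassPSL.le_two_mul K hFab
  obtain ⟨⟨k, hk⟩, hge⟩ := Lib.OddLocal.ZassPSL.card_dvd K.toZData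
  have he2 := K.two_le_e
  rcases k with _ | _ | _ | k
  · omega
  · exact Or.inl (Lib.OddLocal.ZassPSL.sharp K.toZData (by omega))
  · obtain ⟨w, hw⟩ := Lib.OddLocal.ZassPSL.halfZass K hFab (by omega)
    obtain ⟨L, i1, i2, h2, -, hiso⟩ := hw.iso_PSL2
    exact Or.inr ⟨L, i1, i2, h2, hiso⟩
  · have : e * 3 ≤ e * (k + 1 + 1 + 1) := Nat.mul_le_mul_left _ (by omega)
    omega

end Cfsg.Agent.S0731
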