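import Cfsg.Statements.S0111

set_option autoImplicit false
open Cfsg

namespace Cfsg.Agent.S0111

open scoped commutatorElement in

/-- The Thompson transfer lemma states that an involution of a Sylow 2-subgroup P lying outside a subgroup Q of index 2 in P either lies outside some normal subgroup of index 2 in G or is conjugate to an element of Q. -/
theorem result {G : Type*} [Group G] [Finite G] (P : Sylow 2 G) (Q : Subgroup G) (hQP : Q ≤ (P : Subgroup G)) (hQi : Q.relIndex (P : Subgroup G) = 2) (u : G) (hu : orderOf u = 2) (huP : u ∈ (P : Subgroup G)) (huQ : u ∉ Q) : (∃ M : Subgroup G, M.Normal ∧ M.index = 2 ∧ u ∉ M) ∨ ∃ g : G, g * u * g⁻¹ ∈ Q := by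
  classical
  by_cases hfix : ∃ g : G, g * u * g⁻¹ ∈ Q
  · exact Or.inr hfix
  left
  haveI : Fintype (G ⧸ Q) := Fintype.ofFinite _
  let π : G →* ℤˣ := Equiv.Perm.sign.comp (MulAction.toPermHom G (G ⧸ Q))
  set σ := MulAction.toPermHom G (G ⧸ Q) u with hσ
  have hne : ∀ q : G ⧸ Q, σ q ≠ q := by
    intro q
    induction q using QuotientGroup.induction_on with
    | H g =>
      intro h
      apply hfix
      refine ⟨g⁻¹, ?_⟩
      have h' : (QuotientGroup.mk (u * g) : G ⧸ Q) = QuotientGroup.mk g := h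
      rw [QuotientGroup.eq] at h'
      simpa [mul_assoc] using inv_mem h'
  have hu2 : u ^ 2 = 1 := hu ▸ pow_orderOf_eq_one u
  have hσ2 : σ ^ 2 = 1 := by rw [hσ, ← map_pow, hu2, map_one]
  have hcard : ∃ m, Fintype.card (G ⧸ Q) = 2 * m ∧ Odd m := by
    refine ⟨(P : Subgroup G).index, ?_, Nat.odd_iff.mpr ?_⟩
    · rw [← Nat.card_eq_fintype_card, ← Subgroup.index_eq_card,
        ← Subgroup.relIndex_mul_index hQP, hQi]
    · exact Nat.two_dvd_ne_zero.mp P.not_dvd_index
  obtain ⟨m, hm, hmodd⟩ := hcard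
  have hsupp : σ.support = Finset.univ := by
    ext q; simpa using hne q
  have hsign : Equiv.Perm.sign σ = -1 := by
    have hne1 : σ ≠ 1 := fun h => hne (QuotientGroup.mk 1) (by rw [h]; rfl)
    haveI : Fact (Nat.Prime 2) := ⟨Nat.prime_two⟩
    obtain ⟨n, hn⟩ := Equiv.Perm.cycleType_prime_order (σ := σ)
      (by rw [orderOf_eq_prime hσ2 hne1]; exact Nat.prime_two)
    have hsum : σ.cycleType.sum = 2 * m := by
      rw [Equiv.Perm.sum_cycleType, hsupp, Finset.card_univ, hm]
    rw [Equiv.Perm.sign_of_cycleType, hn, orderOf_eq_prime hσ2 hne1] at *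
    simp only [Multiset.sum_replicate, smul_eq_mul, Multiset.card_replicate] at hsum ⊢
    have : n + 1 = m := by omega
    rw [show (n + 1) * 2 + (n + 1) = 2 * (n + 1) + m by omega, pow_add, pow_mul]
    simp [hmodd.neg_one_pow]
  refine ⟨π.ker, inferInstance, ?_, fun h => ?_⟩
  · rw [Subgroup.index_ker]
    have htop : π.range = ⊤ := by
      rw [eq_top_iff]
      intro x _
      rcases Int.units_eq_one_or x with rfl | rfl
      · exact one_mem _
      · exact ⟨u, hsign⟩
    rw [htop, Subgroup.card_top, Nat.card_eq_fintype_card, Fintype.card_units_int]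
  · have h1 : Equiv.Perm.sign σ = 1 := h
    rw [hsign] at h1
    exact absurd h1 (by decide)

end Cfsg.Agent.S0111
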