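import Cfsg.Statements.S0514
import Cfsg.Agent.Lib.Transfer.Frobenius
import Cfsg.Agent.Lib.Components.Basic

set_option autoImplicit false
open Cfsg

namespace Cfsg.Agent.S0514

/-- An odd-order automorphism fixing a subgroup of index at most 2 pointwise is trivial, for a
2-group. -/
theorem aut_trivial_of_index_two {Q : Type*} [Group Q] [Finite Q] (hQ : IsPGroup 2 Q)
    (σ : MulAut Q) (hσ : Odd (orderOf σ)) (R : Subgroup Q) (hR : R.index ≤ 2)
    (hfix : ∀ r ∈ R, σ r = r) : σ = 1 := by
  refine MulEquiv.ext fun q => ?_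
  by_cases hq : q ∈ R
  · exact hfix q hq
  have h2 : R.index = 2 := by
    have h0 := Subgroup.index_ne_zero_of_finite (H := R)
    have h1 : R.index ≠ 1 := fun e => hq (Subgroup.index_eq_one.mp e ▸ Subgroup.mem_top q)
    omega
  have hσq : σ q ∉ R := fun h => hq (by
    have : σ (σ q) = σ q := hfix _ h
    rw [σ.injective this] at h
    exact h)
  have hr : q⁻¹ * σ q ∈ R := by
    rw [Subgroup.mul_mem_iff_of_index_two h2, inv_mem_iff]
    exact ⟨fun h => absurd h hq, fun h => absurd h hσq⟩
  set r := q⁻¹ * σ q with hrdef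
  have hpow : ∀ i : ℕ, (σ ^ i) q = q * r ^ i := by
    intro i
    induction i with
    | zero => simp
    | succ i ih =>
      have hσ' : σ q = q * r := by rw [hrdef]; group
      rw [pow_succ', MulAut.mul_apply, ih, map_mul, hfix _ (R.pow_mem hr i), pow_succ', hσ', mul_assoc]
  have h1 : r ^ orderOf σ = 1 := by
    have h := hpow (orderOf σ)
    rw [pow_orderOf_eq_one, MulAut.one_apply] at h
    exact (mul_eq_left.mp h.symm)
  obtain ⟨j, hj⟩ := hQ r
  have hcop : Nat.gcd (orderOf σ) (2 ^ j) = 1 :=
    (Nat.Coprime.pow_right j (Nat.coprime_two_right.mpr hσ))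
  have : r = 1 := by
    have := pow_gcd_eq_one.mpr ⟨h1, hj⟩
    rwa [hcop, pow_one] at this
  show σ q = q
  calc σ q = q * r := by rw [hrdef]; group
    _ = q := by rw [this, mul_one]

/-- An odd-order automorphism of a cyclic 2-group is trivial. -/
theorem cyclic_fixed {Q : Type*} [Group Q] [Finite Q] (hQ : IsPGroup 2 Q) (σ : MulAut Q)
    (hσ : Odd (orderOf σ)) (R : Subgroup Q) [hR : IsCyclic R] (hmap : ∀ r ∈ R, σ r ∈ R) :
    ∀ r ∈ R, σ r = r := by
  obtain ⟨a, ha⟩ := hR.exists_generator
  have hgen : ∀ r ∈ R, ∃ k : ℤ, (a : Q) ^ k = r := fun r hr => by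
    obtain ⟨k, hk⟩ := Subgroup.mem_zpowers_iff.mp (ha ⟨r, hr⟩)
    exact ⟨k, by rw [← Subgroup.coe_zpow, hk]⟩
  suffices h : σ (a : Q) = a by
    intro r hr
    obtain ⟨k, rfl⟩ := hgen r hr
    rw [map_zpow, h]
  obtain ⟨J, hJ⟩ := hQ (a : Q)
  have key : ∀ i, i ≤ J → σ ((a : Q) ^ 2 ^ (J - i)) = (a : Q) ^ 2 ^ (J - i) := by
    intro i
    induction i with
    | zero => intro _; simp [hJ]
    | succ i ih =>
      intro hi
      have h2 := ih (by omega)
      set b := (a : Q) ^ 2 ^ (J - (i + 1)) with hb
      have hbb : (a : Q) ^ 2 ^ (J - i) = b ^ 2 := by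
        rw [hb, ← pow_mul, ← pow_succ]
        congr 2
        omega
      rw [hbb, map_pow] at h2
      have hbR : b ∈ R := R.pow_mem a.2 _
      obtain ⟨k, hk⟩ := hgen _ hbR
      obtain ⟨l, hl⟩ := hgen _ (hmap b hbR)
      have hc : Commute b (σ b) := by
        rw [← hk, map_zpow]
        have : Commute (a : Q) (σ a) := by
          obtain ⟨m, hm⟩ := hgen _ (hmap a a.2)
          rw [← hm]
          exact Commute.zpow_right rfl m
        exact (this.zpow_left k).zpow_right k
      set c := b⁻¹ * σ b with hc'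
      have hc2 : c ^ 2 = 1 := by rw [hc', hc.inv_left.mul_pow, inv_pow, h2, inv_mul_cancel]
      by_cases hc1 : c = 1
      · rw [hc'] at hc1; exact (inv_mul_eq_one.mp hc1).symm
      exfalso
      -- the unique involution is fixed
      have hσc : σ c = c := by
        have hcR : c ∈ R := R.mul_mem (R.inv_mem hbR) (hmap b hbR)
        have huniq : ∀ x : R, x ^ 2 = 1 → x = 1 ∨ x = ⟨c, hcR⟩ := by
          intro x hx
          by_contra hcon
          push Not at hcon
          have hsub : ({1, x, ⟨c, hcR⟩} : Set R) ⊆ {y : R | y ^ 2 = 1} := by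
            rintro y (rfl | rfl | rfl)
            · exact one_pow 2
            · exact hx
            · exact Subtype.ext hc2
          have h3 := Set.ncard_le_ncard hsub (Set.toFinite _)
          have hc1' : (1 : R) ≠ ⟨c, hcR⟩ := fun e => hc1 (congrArg Subtype.val e).symm
          rw [Set.ncard_insert_of_notMem (by simp [hcon.1.symm, hc1']) (Set.toFinite _),
            Set.ncard_insert_of_notMem (by simp [hcon.2]) (Set.toFinite _), Set.ncard_singleton] at h3
          classical
          letI : Fintype R := Fintype.ofFinite R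
          have h4 := IsCyclic.card_pow_eq_one_le (α := R) (n := 2) (by norm_num)
          rw [Set.ncard_eq_toFinset_card' {y : R | y ^ 2 = 1}] at h3
          simp only [Set.toFinset_ofPred] at h3
          omega
        rcases huniq ⟨σ c, hmap c hcR⟩ (Subtype.ext (by simp [← map_pow, hc2])) with e | e
        · exact absurd (σ.injective ((congrArg Subtype.val e).trans (map_one σ).symm)) hc1
        · exact congrArg Subtype.val e
      have hpow : ∀ m : ℕ, (σ ^ m) b = b * c ^ m := by
        intro m
        induction m with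
        | zero => simp
        | succ m ihm =>
          have hσb : σ b = b * c := by rw [hc']; group
          rw [pow_succ', MulAut.mul_apply, ihm, map_mul, map_pow σ c, hσc, pow_succ', hσb, mul_assoc]
      have h1 : c ^ orderOf σ = 1 := by
        have h := hpow (orderOf σ)
        rw [pow_orderOf_eq_one, MulAut.one_apply] at h
        exact (mul_eq_left.mp h.symm)
      obtain ⟨w, hw⟩ := hσ
      rw [hw, pow_succ, pow_mul, hc2, one_pow, one_mul] at h1
      exact hc1 h1
  simpa using key J le_rfl

/-- An odd-order automorphism of a subgroup of a dihedral 2-group fixing an involution is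
trivial. -/
theorem aut_trivial_dihedral {Q : Type*} [Group Q] [Finite Q] (hQ : IsPGroup 2 Q) {n : ℕ}
    (ι : Q →* DihedralGroup n) (hι : Function.Injective ι) (σ : MulAut Q)
    (hσ : Odd (orderOf σ)) (t : Q) (ht : t ^ 2 = 1) (ht1 : t ≠ 1) (hfix : σ t = t) : σ = 1 := by
  let Rot : Subgroup (DihedralGroup n) := Subgroup.zpowers (DihedralGroup.r 1)
  have hrot : ∀ y : DihedralGroup n, y ^ 2 ≠ 1 → y ∈ Rot := by
    intro y hy
    cases y with
    | r i => exact ⟨i.cast, by simp [DihedralGroup.r_one_zpow]⟩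
    | sr i => exact absurd (by rw [pow_two, DihedralGroup.sr_mul_self]) hy
  have hidx : ∀ y z : DihedralGroup n, y ∉ Rot → z ∉ Rot → y * z ∈ Rot := by
    intro y z hy hz
    have hr : ∀ i : ZMod n, DihedralGroup.r i ∈ Rot := fun i => ⟨i.cast, by simp [DihedralGroup.r_one_zpow]⟩
    cases y with
    | r i => exact absurd (hr i) hy
    | sr i => cases z with
      | r j => exact absurd (hr j) hz
      | sr j => rw [DihedralGroup.sr_mul_sr]; exact hr _
  set R := Rot.comap ι with hR
  have hRidx : R.index ≤ 2 := by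
    by_cases h : R = ⊤
    · rw [h, Subgroup.index_top]; norm_num
    obtain ⟨w, hw⟩ : ∃ w, w ∉ R := not_forall.mp fun hall => h ((Subgroup.eq_top_iff' R).mpr hall)
    refine le_of_eq (Subgroup.index_eq_two_iff.mpr ⟨w, fun b => ?_⟩)
    by_cases hb : b ∈ R
    · exact Or.inr ⟨hb, fun h' => hw (by simpa using R.mul_mem (R.inv_mem hb) h')⟩
    · refine Or.inl ⟨?_, hb⟩
      show ι (b * w) ∈ Rot
      rw [map_mul]
      exact hidx _ _ hb hw
  haveI : IsCyclic R := by
    refine isCyclic_of_injective ((ι.comp R.subtype).codRestrict Rot fun r => r.2) fun a b h => ?_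
    exact Subtype.ext (hι (congrArg Subtype.val h))
  by_cases hbig : ∃ a ∈ R, a ^ 2 ≠ 1
  · obtain ⟨a, haR, ha⟩ := hbig
    have himg : ∀ x : Q, x ^ 2 ≠ 1 → σ x ∈ R := fun x hx => hrot _ fun e => hx (by
      apply σ.injective
      apply hι
      rw [map_pow, map_pow, e, map_one, map_one])
    have hmap : ∀ r ∈ R, σ r ∈ R := by
      intro r hr
      by_cases h : r ^ 2 = 1
      · have hc : Commute r a := congrArg Subtype.val
          (IsMulCommutative.is_comm.comm (⟨r, hr⟩ : R) ⟨a, haR⟩)
        have hra : (r * a) ^ 2 ≠ 1 := by rwa [hc.mul_pow, h, one_mul]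
        have h' := R.mul_mem (himg _ hra) (R.inv_mem (himg a ha))
        rwa [map_mul, mul_inv_cancel_right] at h'
      · exact himg r h
    exact aut_trivial_of_index_two hQ σ hσ R hRidx (cyclic_fixed hQ σ hσ R hmap)
  push Not at hbig
  have hR2 : Nat.card R ≤ 2 := by
    classical
    letI : Fintype R := Fintype.ofFinite R
    have h := IsCyclic.card_pow_eq_one_le (α := R) (n := 2) (by norm_num)
    have hall : (Finset.univ.filter fun x : R => x ^ 2 = 1) = Finset.univ :=
      Finset.filter_true_of_mem fun x _ => Subtype.ext (hbig x x.2)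
    rw [hall, Finset.card_univ] at h
    rwa [Nat.card_eq_fintype_card]
  refine aut_trivial_of_index_two hQ σ hσ (Subgroup.zpowers t) ?_ fun r hr => ?_
  · have h1 := Subgroup.card_mul_index R
    have h2 := Subgroup.card_mul_index (Subgroup.zpowers t)
    rw [Nat.card_zpowers, orderOf_eq_prime ht ht1] at h2
    have := Nat.mul_le_mul hR2 hRidx
    omega
  · obtain ⟨k, rfl⟩ := Subgroup.mem_zpowers_iff.mp hr
    rw [map_zpow, hfix]

/-- In a finite group whose Sylow 2-subgroups are dihedral of order at least 4, the centralizer of any involution has a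
normal subgroup of odd order whose index in the centralizer is a power of 2. -/
theorem result {X : Type*} [Group X] [Finite X]
    (S : Sylow 2 X) (n : ℕ) (hn : 2 ≤ n) (hS : Nonempty ((S : Subgroup X) ≃* DihedralGroup n)) (t : X)
    (ht : orderOf t = 2) :
    ∃ N : Subgroup (Subgroup.centralizer ({t} : Set X)), N.Normal ∧ Odd (Nat.card N) ∧ ∃ k : ℕ, N.index = 2 ^ k := by
  haveI : Fact (Nat.Prime 2) := ⟨Nat.prime_two⟩
  obtain ⟨e⟩ := hS
  set C := Subgroup.centralizer ({t} : Set X) with hC
  obtain ⟨P⟩ : Nonempty (Sylow 2 C) := inferInstance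
  suffices hnpc : Cfsg.HasNormalPComplement 2 C by
    obtain ⟨P', N, hN, hc⟩ := hnpc
    refine ⟨N, hN, ?_, ?_⟩
    · rw [← Nat.coprime_two_right]
      exact Cfsg.Agent.Lib.Transfer.coprime_card_of_isComplement' hc
    · exact Cfsg.Agent.Lib.Transfer.exists_index_of_isComplement' hc
  refine Cfsg.Agent.Lib.Transfer.hasNormalPComplement_of_frobenius P fun Q hQ g hg hgo => ?_
  set tc : C := ⟨t, Subgroup.mem_centralizer_singleton_iff.mpr rfl⟩ with htc
  have htcen : ∀ c : C, c * tc = tc * c := fun c =>
    Subtype.ext (Subgroup.mem_centralizer_singleton_iff.mp c.2)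
  have htc2 : tc ^ 2 = 1 := Subtype.ext (by simp [htc, ← ht, pow_orderOf_eq_one])
  set Q' := Q ⊔ Subgroup.zpowers tc with hQ'
  have hT : IsPGroup 2 ↥(Subgroup.zpowers tc) := by
    refine IsPGroup.of_card (n := 1) ?_
    rw [Nat.card_zpowers, pow_one, htc, Subgroup.orderOf_mk, ht]
  haveI : (Subgroup.zpowers tc).Normal := ⟨fun w hw c => by
    obtain ⟨k, rfl⟩ := Subgroup.mem_zpowers_iff.mp hw
    rw [(Commute.zpow_right (htcen c) k).eq, mul_inv_cancel_right]
    exact Subgroup.zpow_mem _ (Subgroup.mem_zpowers _) k⟩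
  have hQ'p : IsPGroup 2 Q' := (P.2.to_le hQ).to_sup_of_normal_right hT
  have hgN : g ∈ Subgroup.normalizer (Q' : Set C) := by
    rw [Cfsg.Agent.Lib.Components.mem_normalizer_iff_map_conj, hQ', Subgroup.map_sup]
    congr 1
    · exact Cfsg.Agent.Lib.Components.mem_normalizer_iff_map_conj.mp hg
    · rw [MonoidHom.map_zpowers]
      congr 1
      show g * tc * g⁻¹ = tc
      rw [htcen g, mul_inv_cancel_right]
  let σ : MulAut Q' := Subgroup.normalizerMonoidHom Q' ⟨g, hgN⟩
  have hσ : Odd (orderOf σ) := by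
    have h := (orderOf_map_dvd (Subgroup.normalizerMonoidHom Q') ⟨g, hgN⟩)
    rw [Subgroup.orderOf_mk] at h
    rw [← Nat.coprime_two_right]
    exact Nat.Coprime.coprime_dvd_left h hgo
  have hQX : IsPGroup 2 ↥(Q'.map C.subtype) := hQ'p.map _
  obtain ⟨T, hT'⟩ := hQX.exists_le_sylow
  let ι : Q' →* DihedralGroup n :=
    ((T.equiv S).trans e).toMonoidHom.comp ((Subgroup.inclusion hT').comp
      (Q'.equivMapOfInjective C.subtype C.subtype_injective).toMonoidHom)
  have hι : Function.Injective ι :=
    ((T.equiv S).trans e).injective.comp ((Subgroup.inclusion_injective hT').comp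
      (Q'.equivMapOfInjective C.subtype C.subtype_injective).injective)
  have htQ : tc ∈ Q' := Subgroup.mem_sup_right (Subgroup.mem_zpowers _)
  have h1 : σ = 1 := aut_trivial_dihedral hQ'p ι hι σ hσ ⟨tc, htQ⟩ (Subtype.ext htc2)
    (fun h => by
      have : (t : X) = 1 := congrArg (fun w : Q' => ((w : C) : X)) h
      rw [this, orderOf_one] at ht
      omega)
    (Subtype.ext (show g * tc * g⁻¹ = tc by rw [htcen g, mul_inv_cancel_right]))
  rw [Subgroup.mem_centralizer_iff]
  intro x hx
  have h0 : σ ⟨x, Subgroup.mem_sup_left hx⟩ = (1 : MulAut Q') ⟨x, Subgroup.mem_sup_left hx⟩ := by rw [h1]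
  have h' : g * x * g⁻¹ = x := congrArg Subtype.val h0
  calc x * g = g * x * g⁻¹ * g := by rw [h']
    _ = g * x := by group

end Cfsg.Agent.S0514
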