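import Cfsg.Statements.S0229
import Cfsg.Agent.Lib.Involutions.Isolated
-- Template for statement S0229 (row 229; see /opt/grader/pristine/manifest.json for weights).
-- Copy to Cfsg/Agent/S0229.lean and replace the sorry. The statement below is byte-identical to the frozen
-- statement Cfsg.CfsgFrozen.S0229 (Cfsg/Statements/S0229.lean; the theorem Cfsg.isolated_involution_product_with_nonconjugate_involution);
-- the grader kernel-checks Cfsg.Agent.S0229.result against that frozen type. Keep the theorem IN THIS FILE
-- (a `result` declared elsewhere and merely imported here is not credited); helpers may live anywhere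
-- under Cfsg/Agent/.
-- import your own Cfsg.Agent.* helpers here

set_option autoImplicit false
open Cfsg

namespace Cfsg.Agent.S0229

open Cfsg.Agent.Lib.Involutions

/-- Let t be an involution of a Sylow 2-subgroup S of a finite group G, conjugate in G to no other element of S, and let s be an involution of G not conjugate to t. Then the order of st is twice an odd number. -/
theorem result {G : Type*} [Group G] [Finite G] (S : Sylow 2 G) (t : G) (ht : orderOf t = 2) (htS : t ∈ S) (hiso : ∀ g : G, g * t * g⁻¹ ∈ S → g * t * g⁻¹ = t) (s : G) (hs : orderOf s = 2) (hns : ¬ IsConj s t) : orderOf (s * t) % 4 = 2 := by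
  have hz := isIsolated_of_unique_in_sylow S ht htS hiso
  have hord : orderOf (s * t) = orderOf (t * s) := by
    rw [← orderOf_inv, mul_inv_rev, invol_inv hs, invol_inv ht]
  rw [hord]
  set a := t * s with ha
  have heven : Even (orderOf a) :=
    Nat.not_odd_iff_even.1 fun ho => hns (isConj_of_odd ht hs ho).symm
  obtain ⟨m, hm⟩ := heven
  by_contra hne
  obtain ⟨c, hc⟩ : 2 ∣ m := by omega
  have hcomm : Commute (a ^ m) t := by
    have := (central_invol ht hs ⟨m, hm⟩).2.1
    rwa [← ha, show orderOf a / 2 = m by omega] at this
  have hd : a ^ (c : ℤ) * t * (a ^ (c : ℤ))⁻¹ = a ^ m * t := by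
    rw [← zpow_neg, mul_assoc, ha, invol_mul_zpow ht hs, neg_neg, ← mul_assoc, ← zpow_add,
      ← zpow_natCast, show ((c : ℤ) + c) = (m : ℕ) by omega]
  have h1 := hz.2 (a ^ (c : ℤ)) (by rw [hd]; exact hcomm.symm.mul_right (Commute.refl t))
  rw [hd, mul_eq_right] at h1
  have hpos : 0 < orderOf a := orderOf_pos a
  have := Nat.le_of_dvd (by omega) (orderOf_dvd_of_pow_eq_one h1)
  omega

end Cfsg.Agent.S0229
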