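import Cfsg.Statements.S0144
import Cfsg.Agent.Lib.Characters.Kernel
-- import your own Cfsg.Agent.* helpers here

set_option autoImplicit false
open Cfsg

namespace Cfsg.Agent.S0144

/-- The Burnside two-prime Theorem: a finite group of order p ^ a * q ^ b, for primes p and q, is solvable. -/
theorem result {G : Type*} [Group G] [Finite G] (p q a b : ℕ) (hp : p.Prime) (hq : q.Prime) (hcard : Nat.card G = p ^ a * q ^ b) : Group.IsSolvable G := by
  suffices H : ∀ N : ℕ, ∀ {K : Type _} [Group K] [Finite K] (a b : ℕ),
      Nat.card K = N → Nat.card K = p ^ a * q ^ b → Group.IsSolvable K from H _ a b rfl hcard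
  intro N
  induction N using Nat.strong_induction_on with
  | _ N ih =>
    intro K _ _ a b hN hK
    rcases subsingleton_or_nontrivial K with hs | hs
    · exact isSolvable_of_comm fun x y => Subsingleton.elim _ _
    by_cases hsimp : IsSimpleGroup K
    · suffices hp' : (Nat.card K).Prime by
        haveI : Fact (Nat.card K).Prime := ⟨hp'⟩
        haveI := isCyclic_of_prime_card (α := K) rfl
        haveI := IsCyclic.isMulCommutative (α := K)
        exact isSolvable_of_comm mul_comm'
      have hpos : 1 < Nat.card K := Finite.one_lt_card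
      -- choose a prime divisor with a central element of its Sylow subgroup
      have main : ∀ (p q a b : ℕ), p.Prime → q.Prime → p ≠ q → 0 < a →
          Nat.card K = p ^ a * q ^ b → (Nat.card K).Prime := by
        intro p q a b hp hq hpq ha hK
        haveI : Fact p.Prime := ⟨hp⟩
        obtain ⟨P⟩ := (inferInstance : Nonempty (Sylow p K))
        have hPcard : Nat.card (P : Subgroup K) = p ^ a := by
          rw [Sylow.card_eq_multiplicity, hK, Nat.factorization_mul (pow_ne_zero _ hp.ne_zero)
            (pow_ne_zero _ hq.ne_zero), hp.factorization_pow, hq.factorization_pow]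
          simp [Finsupp.single_eq_of_ne hpq]
        haveI : Nontrivial (P : Subgroup K) := Finite.one_lt_card_iff_nontrivial.mp (by
          rw [hPcard]; exact Nat.one_lt_pow ha.ne' hp.one_lt)
        haveI := IsPGroup.center_nontrivial P.2
        obtain ⟨⟨z, hz⟩, hz1⟩ := exists_ne (1 : Subgroup.center (P : Subgroup K))
        have hz1' : (z : K) ≠ 1 := fun h => hz1 (Subtype.ext (Subtype.ext h))
        have hle : (P : Subgroup K) ≤ Subgroup.centralizer ({(z : K)} : Set K) := fun x hx =>
          Subgroup.mem_centralizer_singleton_iff.mpr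
            (congrArg Subtype.val (Subgroup.mem_center_iff.mp hz ⟨x, hx⟩))
        have hdvd := Subgroup.index_dvd_of_le hle
        have hidx : (P : Subgroup K).index = q ^ b := by
          have h1 := (P : Subgroup K).index_mul_card
          rw [hPcard, hK, mul_comm] at h1
          exact Nat.eq_of_mul_eq_mul_left (pow_pos hp.pos a) h1
        rw [hidx] at hdvd
        obtain ⟨k, -, hk⟩ := (Nat.dvd_prime_pow hq).mp hdvd
        exact Lib.Characters.card_prime_of_class_primePow hq hz1' hk
      by_cases hpq : p = q
      · subst hpq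
        haveI : Fact p.Prime := ⟨hp⟩
        have hP : IsPGroup p K := IsPGroup.of_card (n := a + b) (by rw [hK, pow_add])
        haveI := hP.center_nontrivial
        rcases IsSimpleGroup.eq_bot_or_eq_top_of_normal (Subgroup.center K) inferInstance with h | h
        · exact absurd h ((Subgroup.nontrivial_iff_ne_bot _).mp inferInstance)
        · letI : CommGroup K :=
            { (inferInstance : Group K) with
              mul_comm := fun x y => Subgroup.mem_center_iff.mp (h ▸ Subgroup.mem_top y) x }
          exact IsSimpleGroup.prime_card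
      · rcases Nat.eq_zero_or_pos a with ha | ha
        · rcases Nat.eq_zero_or_pos b with hb | hb
          · rw [hK, ha, hb] at hpos
            simp at hpos
          · exact main q p b a hq hp (Ne.symm hpq) hb (by rw [hK, mul_comm])
        · exact main p q a b hp hq hpq ha hK
    · obtain ⟨M, hMn, hMb, hMt⟩ : ∃ M : Subgroup K, M.Normal ∧ M ≠ ⊥ ∧ M ≠ ⊤ := by
        by_contra h
        push Not at h
        exact hsimp ⟨fun M hM => or_iff_not_imp_left.mpr (h M hM)⟩
      haveI := hMn
      have hmul : Nat.card (K ⧸ M) * Nat.card M = p ^ a * q ^ b := by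
        rw [← Subgroup.card_eq_card_quotient_mul_card_subgroup, hK]
      have hexp : ∀ d, d ∣ p ^ a * q ^ b → ∃ a' b', d = p ^ a' * q ^ b' := fun d hd => by
        obtain ⟨x, y, hx, hy, rfl⟩ := exists_dvd_and_dvd_of_dvd_mul hd
        obtain ⟨i, -, rfl⟩ := (Nat.dvd_prime_pow hp).mp hx
        obtain ⟨j, -, rfl⟩ := (Nat.dvd_prime_pow hq).mp hy
        exact ⟨i, j, rfl⟩
      have h1 : 1 < Nat.card M := (Subgroup.one_lt_card_iff_ne_bot M).mpr hMb
      have h2 : 1 < Nat.card (K ⧸ M) := by
        rw [← Subgroup.index_eq_card]
        exact M.one_lt_index_of_ne_top hMt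
      obtain ⟨a1, b1, e1⟩ := hexp _ ⟨_, hmul.symm.trans (mul_comm _ _)⟩
      obtain ⟨a2, b2, e2⟩ := hexp _ ⟨_, hmul.symm⟩
      have hNK : Nat.card (K ⧸ M) * Nat.card M = N := by rw [hmul, ← hK, hN]
      have i1 : Group.IsSolvable M := ih _ (by nlinarith) a1 b1 rfl e1
      have i2 : Group.IsSolvable (K ⧸ M) := ih _ (by nlinarith) a2 b2 rfl e2
      exact solvable_of_ker_le_range M.subtype (QuotientGroup.mk' M)
        (by rw [QuotientGroup.ker_mk', Subgroup.range_subtype])

end Cfsg.Agent.S0144
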