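import Cfsg.Statements.S3277
import Mathlib
import Cfsg.Agent.S0144
import Cfsg.Agent.S0111
import Cfsg.Agent.Lib.InvChar.KleinCentral
import Cfsg.Agent.Lib.Cores
-- import your own Cfsg.Agent.* helpers here

set_option autoImplicit false
open Cfsg

namespace Cfsg.Agent.S3277

open Subgroup in
/-- The number of commuting pairs. -/
noncomputable def pairs (H : Type*) [Group H] : ℕ := Nat.card {p : H × H // p.1 * p.2 = p.2 * p.1}

theorem pairs_eq_sum (H : Type*) [Group H] [Fintype H] :
    pairs H = ∑ h : H, Nat.card (Subgroup.centralizer ({h} : Set H)) := by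
  rw [pairs, Nat.card_congr (Equiv.subtypeProdEquivSigmaSubtype fun a b : H => a * b = b * a),
    Nat.card_sigma]
  exact Finset.sum_congr rfl fun h _ => Nat.card_congr (Equiv.subtypeEquivRight fun b => by
    rw [Subgroup.mem_centralizer_singleton_iff]; exact eq_comm)

theorem pairs_le_quotient {H : Type*} [Group H] [Finite H] (N : Subgroup H) [N.Normal] :
    pairs H ≤ Nat.card N ^ 2 * pairs (H ⧸ N) := by
  classical
  let mk := QuotientGroup.mk' N
  have hs := fun q : H ⧸ N => QuotientGroup.mk'_surjective N q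
  choose sec hsec using hs
  have hmem : ∀ h : H, (sec (mk h))⁻¹ * h ∈ N := fun h => by
    have h1 : mk ((sec (mk h))⁻¹ * h) = 1 := by rw [map_mul, map_inv, hsec, inv_mul_cancel]
    exact (QuotientGroup.eq_one_iff _).1 h1
  let f : {p : H × H // p.1 * p.2 = p.2 * p.1} →
      (N × N) × {p : (H ⧸ N) × (H ⧸ N) // p.1 * p.2 = p.2 * p.1} := fun p =>
    ((⟨_, hmem p.1.1⟩, ⟨_, hmem p.1.2⟩), ⟨(mk p.1.1, mk p.1.2), by
      simp only; rw [← map_mul, p.2, map_mul]⟩)
  have hf : Function.Injective f := by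
    intro p q hpq
    have h1 := congrArg (fun t => (t.1.1 : H)) hpq
    have h2 := congrArg (fun t => (t.1.2 : H)) hpq
    have h3 := congrArg (fun t => t.2.1.1) hpq
    have h4 := congrArg (fun t => t.2.1.2) hpq
    simp only [f] at h1 h2 h3 h4
    rw [h3] at h1; rw [h4] at h2
    exact Subtype.ext (Prod.ext (mul_left_cancel h1) (mul_left_cancel h2))
  have := Nat.card_le_card_of_injective f hf
  rwa [Nat.card_prod, Nat.card_prod, ← sq] at this

theorem card_centralizer_le {H : Type*} [Group H] [Finite H] (K : Subgroup H) (h : H) :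
    Nat.card (Subgroup.centralizer ({h} : Set H)) ≤
      K.index * Nat.card {k : K // h * k = k * h} := by
  set C := Subgroup.centralizer ({h} : Set H)
  have h1 : Nat.card {k : K // h * k = k * h} = Nat.card (K.subgroupOf C) :=
    Nat.card_congr
      { toFun := fun k => ⟨⟨k.1, Subgroup.mem_centralizer_singleton_iff.2 k.2.symm⟩, k.1.2⟩
        invFun := fun c => ⟨⟨c.1.1, c.2⟩, (Subgroup.mem_centralizer_singleton_iff.1 c.1.2).symm⟩
        left_inv := fun k => rfl
        right_inv := fun c => rfl }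
  rw [h1, ← (K.subgroupOf C).index_mul_card]
  refine Nat.mul_le_mul_right _ ?_
  have hrel : (K.relIndex ⊤) ≠ 0 := by
    rw [Subgroup.relIndex_top_right]; exact Subgroup.index_ne_zero_of_finite
  have := Subgroup.relIndex_le_of_le_right (le_top (a := C)) hrel
  rwa [Subgroup.relIndex_top_right] at this

theorem pairs_le_subgroup {H : Type*} [Group H] [Finite H] (K : Subgroup H) :
    pairs H ≤ K.index ^ 2 * pairs K := by
  have := Fintype.ofFinite H
  have := Fintype.ofFinite K
  rw [pairs_eq_sum H]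
  refine (Finset.sum_le_sum fun h _ => card_centralizer_le K h).trans ?_
  rw [← Finset.mul_sum, sq, mul_assoc]
  refine Nat.mul_le_mul_left _ ?_
  have hswap : ∑ h : H, Nat.card {k : K // h * k = k * h} =
      ∑ k : K, Nat.card (Subgroup.centralizer ({(k : H)} : Set H)) := by
    rw [← Nat.card_sigma, ← Nat.card_sigma]
    exact Nat.card_congr
      { toFun := fun p => ⟨p.2.1, ⟨p.1, Subgroup.mem_centralizer_singleton_iff.2 p.2.2⟩⟩
        invFun := fun p => ⟨p.2.1, p.1, Subgroup.mem_centralizer_singleton_iff.1 p.2.2⟩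
        left_inv := fun p => rfl
        right_inv := fun p => rfl }
  rw [hswap]
  have hb : ∑ k : K, Nat.card (Subgroup.centralizer ({(k : H)} : Set H)) ≤
      ∑ k : K, K.index * Nat.card {b : K // (k : H) * b = b * k} :=
    Finset.sum_le_sum fun k _ => card_centralizer_le K (k : H)
  refine hb.trans ?_
  rw [← Finset.mul_sum, pairs, Nat.card_congr
    (Equiv.subtypeProdEquivSigmaSubtype fun a b : K => a * b = b * a), Nat.card_sigma]
  refine Nat.mul_le_mul_left _ (le_of_eq (Finset.sum_congr rfl fun k _ => ?_))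
  exact Nat.card_congr (Equiv.subtypeEquivRight fun b => by
    rw [Subtype.ext_iff]; rfl)

theorem five_le_index {H : Type*} [Group H] [Finite H] [IsSimpleGroup H]
    (hns : ¬ Group.IsSolvable H) {K : Subgroup H} (hK : K ≠ ⊤) : 5 ≤ K.index := by
  by_contra hlt
  apply hns
  let φ := MulAction.toPermHom H (H ⧸ K)
  have hk : φ.ker = ⊥ := by
    rcases IsSimpleGroup.eq_bot_or_eq_top_of_normal φ.ker inferInstance with h | h
    · exact h
    · refine absurd (Subgroup.eq_top_iff' K |>.2 fun g => ?_) hK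
      have h0 : g ∈ φ.ker := by rw [h]; trivial
      have := congrArg (fun e : Equiv.Perm (H ⧸ K) => e ((1 : H) : H ⧸ K)) (MonoidHom.mem_ker.1 h0)
      simp only [φ, MulAction.toPermHom_apply, MulAction.toPerm_apply, Equiv.Perm.coe_one, id_eq,
        MulAction.Quotient.smul_coe, smul_eq_mul, mul_one] at this
      simpa using QuotientGroup.eq.1 this.symm
  have hinj : Function.Injective φ := (MonoidHom.ker_eq_bot_iff φ).1 hk
  have hd := Subgroup.card_dvd_of_injective φ hinj
  rw [Nat.card_perm, ← Subgroup.index] at hd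
  have h4 : K.index.factorial ∣ 24 := Nat.factorial_dvd_factorial (show K.index ≤ 4 by omega)
  have hd' := Nat.le_of_dvd (by norm_num) (hd.trans h4)
  have hd24 := hd.trans h4
  have : ∃ a b, Nat.card H = 2 ^ a * 3 ^ b := by
    generalize Nat.card H = n at hd24 hd'
    interval_cases n <;> first
      | (norm_num at hd24; done)
      | omega
      | exact ⟨0, 0, rfl⟩ | exact ⟨1, 0, rfl⟩ | exact ⟨0, 1, rfl⟩ | exact ⟨2, 0, rfl⟩
      | exact ⟨1, 1, rfl⟩ | exact ⟨3, 0, rfl⟩ | exact ⟨2, 1, rfl⟩ | exact ⟨3, 1, rfl⟩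
  obtain ⟨a, b, hab⟩ := this
  exact S0144.result 2 3 a b Nat.prime_two Nat.prime_three hab

/-- At least a quarter of all pairs commute only in solvable groups. -/
theorem solvable_of_pairs : ∀ (n : ℕ) (H : Type*) [Group H] [Finite H], Nat.card H = n →
    Nat.card H ^ 2 ≤ 4 * pairs H → Group.IsSolvable H := by
  intro n
  induction n using Nat.strong_induction_on with
  | _ n ih =>
    intro H _ _ hn hp
    by_contra hns
    have : Nontrivial H := by
      rw [← not_subsingleton_iff_nontrivial]
      intro h; exact hns inferInstance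
    by_cases hs : IsSimpleGroup H
    · have := Fintype.ofFinite H
      classical
      have hz : ∀ h : H, h ≠ 1 → 5 * Nat.card (Subgroup.centralizer ({h} : Set H)) ≤ Nat.card H := by
        intro h hh
        have hne : Subgroup.centralizer ({h} : Set H) ≠ ⊤ := fun e => by
          have hc : h ∈ Subgroup.center H := Subgroup.mem_center_iff.2 fun g =>
            Subgroup.mem_centralizer_singleton_iff.1 (e ▸ Subgroup.mem_top g)
          rcases IsSimpleGroup.eq_bot_or_eq_top_of_normal (Subgroup.center H) inferInstance with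
            h' | h'
          · exact hh (Subgroup.mem_bot.1 (h' ▸ hc))
          · exact hns (Group.isSolvable_of_comm fun a b =>
              (Subgroup.mem_center_iff.1 (h' ▸ Subgroup.mem_top a : a ∈ Subgroup.center H) b).symm)
        calc 5 * Nat.card (Subgroup.centralizer ({h} : Set H))
            ≤ (Subgroup.centralizer ({h} : Set H)).index *
              Nat.card (Subgroup.centralizer ({h} : Set H)) :=
              Nat.mul_le_mul_right _ (five_le_index hns hne)
          _ = _ := Subgroup.index_mul_card _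
      have hsum : 5 * pairs H + Nat.card H ≤ Nat.card H * Nat.card H + 5 * Nat.card H := by
        rw [pairs_eq_sum, Finset.mul_sum, ← Finset.add_sum_erase _ _ (Finset.mem_univ (1 : H))]
        have h1 : Nat.card (Subgroup.centralizer ({(1 : H)} : Set H)) ≤ Nat.card H :=
          Subgroup.card_le_card_group _
        have h2 := Finset.sum_le_card_nsmul (Finset.univ.erase (1 : H))
          (fun h => 5 * Nat.card (Subgroup.centralizer ({h} : Set H))) (Nat.card H)
          fun h hh => hz h (Finset.ne_of_mem_erase hh)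
        rw [Finset.card_erase_of_mem (Finset.mem_univ _), Finset.card_univ, ← Nat.card_eq_fintype_card,
          smul_eq_mul, Nat.sub_one_mul] at h2
        have h3 : Nat.card H ≤ Nat.card H * Nat.card H := Nat.le_mul_self _
        omega
      have h16 : Nat.card H ≤ 16 := by
        by_contra h17
        have h17' : 17 * Nat.card H ≤ Nat.card H * Nat.card H :=
          Nat.mul_le_mul_right _ (not_le.1 h17)
        rw [sq] at hp
        omega
      have h0 : 0 < Nat.card H := Nat.card_pos
      have : ∃ p q a b, Nat.Prime p ∧ Nat.Prime q ∧ Nat.card H = p ^ a * q ^ b := by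
        generalize Nat.card H = m at h16 h0
        interval_cases m
        · exact ⟨2, 3, 0, 0, by norm_num, by norm_num, rfl⟩
        · exact ⟨2, 3, 1, 0, by norm_num, by norm_num, rfl⟩
        · exact ⟨2, 3, 0, 1, by norm_num, by norm_num, rfl⟩
        · exact ⟨2, 3, 2, 0, by norm_num, by norm_num, rfl⟩
        · exact ⟨2, 5, 0, 1, by norm_num, by norm_num, rfl⟩
        · exact ⟨2, 3, 1, 1, by norm_num, by norm_num, rfl⟩
        · exact ⟨2, 7, 0, 1, by norm_num, by norm_num, rfl⟩
        · exact ⟨2, 3, 3, 0, by norm_num, by norm_num, rfl⟩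
        · exact ⟨2, 3, 0, 2, by norm_num, by norm_num, rfl⟩
        · exact ⟨2, 5, 1, 1, by norm_num, by norm_num, rfl⟩
        · exact ⟨2, 11, 0, 1, by norm_num, by norm_num, rfl⟩
        · exact ⟨2, 3, 2, 1, by norm_num, by norm_num, rfl⟩
        · exact ⟨2, 13, 0, 1, by norm_num, by norm_num, rfl⟩
        · exact ⟨2, 7, 1, 1, by norm_num, by norm_num, rfl⟩
        · exact ⟨3, 5, 1, 1, by norm_num, by norm_num, rfl⟩
        · exact ⟨2, 3, 4, 0, by norm_num, by norm_num, rfl⟩
      obtain ⟨p, q, a, b, hp', hq', hab⟩ := this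
      exact hns (S0144.result p q a b hp' hq' hab)
    · obtain ⟨N, hN, hNb, hNt⟩ : ∃ N : Subgroup H, N.Normal ∧ N ≠ ⊥ ∧ N ≠ ⊤ := by
        by_contra h
        push Not at h
        exact hs ⟨fun N hN => or_iff_not_imp_left.2 (h N hN)⟩
      have hc : Nat.card H = N.index * Nat.card N := (N.index_mul_card).symm
      have hN1 : 1 < Nat.card N := (Subgroup.one_lt_card_iff_ne_bot N).2 hNb
      have hi1 : 1 < N.index := Subgroup.one_lt_index_of_ne_top hNt
      have h1 : Group.IsSolvable N := by
        refine ih (Nat.card N) (by rw [← hn, hc]; nlinarith) N rfl ?_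
        refine Nat.le_of_mul_le_mul_left ?_ (pow_pos (zero_lt_one.trans hi1) 2)
        rw [← mul_pow, ← hc]
        exact hp.trans (by rw [mul_left_comm]; exact Nat.mul_le_mul_left 4 (pairs_le_subgroup N))
      have h2 : Group.IsSolvable (H ⧸ N) := by
        refine ih (Nat.card (H ⧸ N)) (by
          rw [← hn, hc, ← Subgroup.index_eq_card]; nlinarith) _ rfl ?_
        refine Nat.le_of_mul_le_mul_left ?_ (pow_pos (zero_lt_one.trans hN1) 2)
        rw [← mul_pow, mul_comm (Nat.card N), ← Subgroup.card_eq_card_quotient_mul_card_subgroup]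
        exact hp.trans (by rw [mul_left_comm]; exact Nat.mul_le_mul_left 4 (pairs_le_quotient N))
      exact hns ((Group.isSolvable_iff_subgroup_quotient N).2 ⟨h1, h2⟩)

/-- A finite group all of whose nontrivial elements are moved by an automorphism `x` of order 2:
inside a group, `x` inverts such a subgroup. -/
theorem inverts_of_fpf {G : Type*} [Group G] [Finite G] {x : G} (hx : x * x = 1) (F : Subgroup G)
    (hxF : ∀ f ∈ F, x * f * x ∈ F) (hfix : ∀ f ∈ F, x * f = f * x → f = 1) :
    ∀ f ∈ F, x * f * x = f⁻¹ := by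
  have hxi : x⁻¹ = x := inv_eq_of_mul_eq_one_right hx
  let φ : F → F := fun f => ⟨(f : G)⁻¹ * (x * f * x), mul_mem (inv_mem f.2) (hxF f f.2)⟩
  have hinj : Function.Injective φ := by
    intro a b hab
    have h0 : (a : G)⁻¹ * (x * a * x) = (b : G)⁻¹ * (x * b * x) := congrArg Subtype.val hab
    have h1 := hfix ((b : G) * (a : G)⁻¹) (mul_mem b.2 (inv_mem a.2)) ?_
    · exact Subtype.ext (mul_inv_eq_one.1 h1).symm
    have e : (b : G) * (a : G)⁻¹ = x * ((b : G) * (a : G)⁻¹) * x⁻¹ :=
      calc (b : G) * (a : G)⁻¹ = b * ((a : G)⁻¹ * (x * a * x)) * (x * a * x)⁻¹ := by group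
        _ = b * ((b : G)⁻¹ * (x * b * x)) * (x * a * x)⁻¹ := by rw [h0]
        _ = _ := by
          rw [show (b : G) * ((b : G)⁻¹ * (x * b * x)) * (x * a * x)⁻¹ =
            x * (b : G) * (x * x⁻¹) * (a : G)⁻¹ * x⁻¹ by group, mul_inv_cancel, mul_one]; group
    calc x * ((b : G) * (a : G)⁻¹) = x * ((b : G) * (a : G)⁻¹) * x⁻¹ * x := by group
      _ = _ := by rw [← e]
  intro f hf
  obtain ⟨a, ha⟩ := (Finite.injective_iff_surjective.1 hinj) ⟨f, hf⟩
  have ha' : (a : G)⁻¹ * (x * a * x) = f := congrArg Subtype.val ha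
  rw [← ha', mul_inv_rev, inv_inv, mul_inv_rev, mul_inv_rev, hxi]
  rw [show x * ((a : G)⁻¹ * (x * a * x)) * x = x * (a : G)⁻¹ * x * a * (x * x) by group, hx, mul_one]
  group

theorem four_cases {G : Type*} [Group G] [Finite G] {C : Subgroup G} (hC : Nat.card C = 4)
    {a b c : G} (ha : a ∈ C) (hb : b ∈ C) (hc : c ∈ C) (ha1 : a ≠ 1) (hb1 : b ≠ 1) (hc1 : c ≠ 1)
    (hab : a ≠ b) (hac : a ≠ c) (hbc : b ≠ c) : ∀ e ∈ C, e = 1 ∨ e = a ∨ e = b ∨ e = c := by
  classical
  have := Fintype.ofFinite G
  intro e he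
  have hset : ({1, a, b, c} : Finset G) = Finset.univ.filter (· ∈ C) := by
    refine Finset.eq_of_subset_of_card_le (fun y hy => ?_) ?_
    · simp only [Finset.mem_insert, Finset.mem_singleton] at hy
      rcases hy with rfl | rfl | rfl | rfl <;> simp [*, C.one_mem]
    · have h1 : (Finset.univ.filter (· ∈ C)).card = 4 := by
        rw [← hC, ← Fintype.card_subtype, Nat.card_eq_fintype_card]
      rw [h1]
      simp [Finset.card_insert_of_notMem, ha1.symm, hb1.symm, hc1.symm, hab, hac, hbc]
  have : e ∈ ({1, a, b, c} : Finset G) := by rw [hset]; simp [he]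
  simpa using this

set_option maxHeartbeats 1000000 in
/-- If the involution `x` has a four-group as centraliser in the 2-group `S`, some subgroup of
index two omits `x` and all the elements which look like `x`. -/
theorem exists_index_two {S : Type*} [Group S] [Finite S] (hS : IsPGroup 2 S) (Q : S → Prop)
    (x z : S) (hQx : Q x) (hQz : ¬ Q z) (hz2 : z * z = 1) (hz1 : z ≠ 1)
    (hzc : ∀ s : S, s * z = z * s) (hQ2 : ∀ u, Q u → u * u = 1 ∧ u ≠ 1)
    (hQC : ∀ u, Q u → Nat.card (Subgroup.centralizer ({u} : Set S)) ≤ 4)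
    (hx4 : ∀ s : S, s * x = x * s → s = 1 ∨ s = x ∨ s = z ∨ s = x * z)
    (h8 : 4 < Nat.card S) :
    ∃ T : Subgroup S, T.index = 2 ∧ x ∉ T ∧ ∀ u, Q u → u ∉ T := by
  classical
  obtain ⟨n, hn⟩ := hS.exists_card_eq
  have hn0 : 0 < n := Nat.pos_of_ne_zero fun h => by rw [h] at hn; omega
  have idx2 : ∀ M : Subgroup S, Nat.card M = 2 ^ (n - 1) → M.index = 2 := by
    intro M hM
    have := M.index_mul_card
    rw [hM, hn, show 2 ^ n = 2 * 2 ^ (n - 1) by
      rw [← pow_succ', Nat.sub_add_cancel hn0]] at this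
    exact Nat.eq_of_mul_eq_mul_right (pow_pos two_pos _) this
  have hxz : x ≠ z := fun h => hQz (h ▸ hQx)
  have hxnc : ¬ ∀ s : S, s * x = x * s := by
    intro h
    have hsub : Function.Surjective
        (fun i : Fin 4 => ![1, x, z, x * z] i) := fun s => by
      rcases hx4 s (h s) with e | e | e | e
      · exact ⟨0, e.symm⟩
      · exact ⟨1, e.symm⟩
      · exact ⟨2, e.symm⟩
      · exact ⟨3, e.symm⟩
    have := Nat.card_le_card_of_surjective _ hsub
    rw [Nat.card_fin] at this
    omega
  haveI : Fact (Nat.Prime 2) := ⟨Nat.prime_two⟩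
  obtain ⟨M₁, hM₁⟩ := Sylow.exists_subgroup_card_pow_prime (G := S) 2
    (n := n - 1) (by rw [hn]; exact pow_dvd_pow 2 (Nat.sub_le n 1))
  have hi₁ := idx2 M₁ hM₁
  obtain ⟨s₀, hs₀⟩ : ∃ s, s ∉ M₁ := by
    by_contra h
    push Not at h
    rw [(Subgroup.eq_top_iff' M₁).2 h, Subgroup.index_top] at hi₁
    omega
  obtain ⟨M₂, hs₂, hi₂⟩ : ∃ M₂ : Subgroup S, s₀ ∈ M₂ ∧ M₂.index = 2 := by
    obtain ⟨k, hk⟩ := IsPGroup.iff_card.1 (hS.to_subgroup (Subgroup.zpowers s₀))
    have hkn : k ≤ n - 1 := by
      by_contra hlt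
      have hd := Subgroup.card_subgroup_dvd_card (Subgroup.zpowers s₀)
      rw [hk, hn, Nat.pow_dvd_pow_iff_le_right (by norm_num)] at hd
      have htop : Subgroup.zpowers s₀ = ⊤ := Subgroup.eq_top_of_card_eq _ (by
        rw [hk, hn, show k = n by omega])
      refine hxnc fun s => ?_
      obtain ⟨i, rfl⟩ := Subgroup.mem_zpowers_iff.1 (htop ▸ Subgroup.mem_top s)
      obtain ⟨j, rfl⟩ := Subgroup.mem_zpowers_iff.1 (htop ▸ Subgroup.mem_top x)
      exact (Commute.refl s₀).zpow_zpow i j
    obtain ⟨M₂, hM₂, hle⟩ := Sylow.exists_subgroup_card_pow_prime_le (G := S) 2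
      (n := k) (m := n - 1) (by rw [hn]; exact pow_dvd_pow 2 (Nat.sub_le n 1))
      (Subgroup.zpowers s₀) hk hkn
    exact ⟨M₂, hle (Subgroup.mem_zpowers s₀), idx2 M₂ hM₂⟩
  have p1 : ∀ a b : S, a * b ∈ M₁ ↔ (a ∈ M₁ ↔ b ∈ M₁) := fun a b =>
    Subgroup.mul_mem_iff_of_index_two hi₁
  have p2 : ∀ a b : S, a * b ∈ M₂ ↔ (a ∈ M₂ ↔ b ∈ M₂) := fun a b =>
    Subgroup.mul_mem_iff_of_index_two hi₂
  set Φ := M₁ ⊓ M₂ with hΦ
  haveI := Subgroup.normal_of_index_eq_two hi₁
  haveI := Subgroup.normal_of_index_eq_two hi₂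
  have hΦc : 4 * Nat.card Φ ≤ Nat.card S := by
    have hne : Φ.index ≠ 1 := fun h => hs₀ ((Subgroup.index_eq_one.1 h ▸ Subgroup.mem_top s₀ :
      s₀ ∈ Φ).1)
    have hlt : Φ < M₂ := lt_of_le_of_ne inf_le_right fun h => hs₀ (h.ge hs₂).1
    have hdiv : 4 ≤ Φ.index := by
      have h1 := Subgroup.relIndex_mul_index hlt.le
      rw [hi₂] at h1
      have h2 : Φ.relIndex M₂ ≠ 1 := fun h => hlt.not_ge (Subgroup.relIndex_eq_one.1 h)
      have h3 : Φ.relIndex M₂ ≠ 0 := Subgroup.index_ne_zero_of_finite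
      omega
    calc 4 * Nat.card Φ ≤ Φ.index * Nat.card Φ := Nat.mul_le_mul_right _ hdiv
      _ = _ := Φ.index_mul_card
  -- elements like `x` invert `Φ`
  have key : ∀ u, Q u → u ∉ Φ ∧ ∀ d ∈ Φ, u * d * u = d⁻¹ := by
    intro u hu
    obtain ⟨hu2, hu1⟩ := hQ2 u hu
    have hui : u⁻¹ = u := inv_eq_of_mul_eq_one_right hu2
    set C := Subgroup.centralizer ({u} : Set S)
    have hC : ∀ a b : S, a⁻¹ * b ∈ C ↔ a * u * a⁻¹ = b * u * b⁻¹ := by
      intro a b
      rw [Subgroup.mem_centralizer_singleton_iff]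
      constructor
      · intro h
        calc a * u * a⁻¹ = a * (u * (a⁻¹ * b)) * b⁻¹ := by group
          _ = a * (a⁻¹ * b * u) * b⁻¹ := by rw [h]
          _ = _ := by group
      · intro h
        calc a⁻¹ * b * u = a⁻¹ * (b * u * b⁻¹) * b := by group
          _ = a⁻¹ * (a * u * a⁻¹) * b := by rw [h]
          _ = _ := by group
    have hmem : ∀ s : S, s * u * s⁻¹ * u ∈ Φ := fun s => by
      refine Subgroup.mem_inf.2 ⟨?_, ?_⟩
      · rw [p1, p1, p1, inv_mem_iff]; tauto
      · rw [p2, p2, p2, inv_mem_iff]; tauto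
    let f : S ⧸ C → Φ := Quotient.lift (fun s => (⟨s * u * s⁻¹ * u, hmem s⟩ : Φ))
      fun a b hab => Subtype.ext (by
        have hab' : a⁻¹ * b ∈ C := QuotientGroup.leftRel_apply.1 hab
        show a * u * a⁻¹ * u = b * u * b⁻¹ * u
        rw [(hC a b).1 hab'])
    have hf : Function.Injective f := by
      intro a b
      induction a using QuotientGroup.induction_on with | H a =>
      induction b using QuotientGroup.induction_on with | H b =>
      intro hab
      refine QuotientGroup.eq.2 ((hC a b).2 ?_)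
      exact mul_right_cancel (congrArg Subtype.val hab : a * u * a⁻¹ * u = b * u * b⁻¹ * u)
    have hbij : Function.Bijective f := hf.bijective_of_nat_card_le (by
      have h1 := C.index_mul_card
      have h2 : C.index * Nat.card C ≤ C.index * 4 := Nat.mul_le_mul_left _ (hQC u hu)
      rw [← Subgroup.index]
      omega)
    refine ⟨fun hmemu => ?_, fun d hd => ?_⟩
    · obtain ⟨q, hq⟩ := hbij.2 ⟨u, hmemu⟩
      induction q using QuotientGroup.induction_on with | H s =>
      have h0 : s * u * s⁻¹ * u = u := congrArg Subtype.val hq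
      exact hu1 (conj_eq_one_iff.1 (mul_eq_right.1 h0))
    · obtain ⟨q, hq⟩ := hbij.2 ⟨d, hd⟩
      induction q using QuotientGroup.induction_on with | H s =>
      have h0 : s * u * s⁻¹ * u = d := congrArg Subtype.val hq
      rw [← h0, mul_inv_rev, mul_inv_rev, mul_inv_rev, inv_inv, hui,
        show u * (s * u * s⁻¹ * u) * u = u * (s * u * s⁻¹) * (u * u) by group, hu2, mul_one]
      group
  obtain ⟨hxΦ, hxinv⟩ := key x hQx
  have hx2 := (hQ2 x hQx).1
  have hfix : ∀ d ∈ Φ, d * d = 1 → d = 1 ∨ d = z ∨ d = x * z := by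
    intro d hd hd2
    have h1 := hxinv d hd
    rw [inv_eq_of_mul_eq_one_right hd2] at h1
    have hc : d * x = x * d := by
      calc d * x = x * d * x * x := by rw [h1]
        _ = x * d := by rw [mul_assoc, hx2, mul_one]
    rcases hx4 d hc with e | e | e | e
    · exact Or.inl e
    · exact absurd (e ▸ hd) hxΦ
    · exact Or.inr (Or.inl e)
    · exact Or.inr (Or.inr e)
  have hΦne : ∃ d ∈ Φ, d * d = 1 ∧ d ≠ 1 := by
    have h1 : 2 ∣ Nat.card Φ := by
      obtain ⟨k, hk⟩ := IsPGroup.iff_card.1 (hS.to_subgroup Φ)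
      rcases Nat.eq_zero_or_pos k with hk0 | hk0
      · exfalso
        rw [hk0, pow_zero] at hk
        have hle : Φ.index ≤ 4 := by
          have := Subgroup.index_inf_le (H := M₁) (K := M₂)
          rw [hi₁, hi₂] at this
          exact this
        have := Φ.index_mul_card
        rw [hk] at this
        omega
      · exact hk ▸ dvd_pow_self 2 hk0.ne'
    obtain ⟨d, hd⟩ := exists_prime_orderOf_dvd_card' (G := Φ) 2 h1
    refine ⟨d, d.2, ?_, ?_⟩
    · have := pow_orderOf_eq_one d
      rw [hd, sq] at this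
      exact congrArg Subtype.val this
    · intro h
      rw [Subtype.ext (a1 := d) (a2 := 1) h, orderOf_one] at hd
      omega
  have hzΦ : z ∈ Φ := by
    by_contra hzn
    obtain ⟨d, hd, hd2, hd1⟩ := hΦne
    have huniq : ∀ e ∈ Φ, e * e = 1 → e ≠ 1 → e = x * z := fun e he he2 he1 => by
      rcases hfix e he he2 with h | h | h
      · exact absurd h he1
      · exact absurd (h ▸ he) hzn
      · exact h
    refine hxnc fun s => ?_
    have h1 : s * d * s⁻¹ = d := by
      rw [huniq d hd hd2 hd1]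
      refine huniq _ (Subgroup.Normal.conj_mem inferInstance _ (huniq d hd hd2 hd1 ▸ hd) s) ?_ ?_
      · rw [show s * (x * z) * s⁻¹ * (s * (x * z) * s⁻¹) = s * ((x * z) * (x * z)) * s⁻¹ by group,
          ← huniq d hd hd2 hd1, hd2, mul_one, mul_inv_cancel]
      · intro h
        exact hd1 ((huniq d hd hd2 hd1).trans (conj_eq_one_iff.1 h))
    have h2 : s * (x * z) = x * z * s := by
      rw [← huniq d hd hd2 hd1]; exact mul_inv_eq_iff_eq_mul.1 h1
    have h3 : s * x * z = x * s * z := by
      rw [mul_assoc, h2, mul_assoc, ← hzc s, mul_assoc]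
    exact mul_right_cancel h3
  -- choose the coset
  have hxpar : ¬ (x ∈ M₁ ∧ x ∈ M₂) := fun h => hxΦ h
  let M₃ : Subgroup S :=
    { carrier := {g | g ∈ M₁ ↔ g ∈ M₂}
      one_mem' := iff_of_true (one_mem _) (one_mem _)
      mul_mem' := fun {a b} ha hb => by
        simp only [Set.mem_setOf_eq] at ha hb ⊢
        rw [p1, p2, ha, hb]
      inv_mem' := fun {a} ha => by simpa using ha }
  have hm3 : ∀ g, g ∈ M₃ ↔ (g ∈ M₁ ↔ g ∈ M₂) := fun _ => Iff.rfl
  have hi₃ : M₃.index = 2 := by
    refine Subgroup.index_eq_two_iff.2 ⟨s₀, fun b => ?_⟩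
    rw [hm3, hm3, p1, p2, Xor]
    tauto
  by_contra hno
  push Not at hno
  have hbad : ∀ u w, Q u → Q w → u ∉ Φ → w ∉ Φ → ¬ (u ∈ M₁ ↔ x ∈ M₁) ∨ ¬ (u ∈ M₂ ↔ x ∈ M₂) →
      (u * w ∈ M₁ ↔ x ∈ M₁) → (u * w ∈ M₂ ↔ x ∈ M₂) → False := by
    intro u w hu hw huΦ _ hpar h1 h2
    have hd0 : (u * w)⁻¹ * x ∈ Φ := Subgroup.mem_inf.2 ⟨by rw [p1, inv_mem_iff]; exact h1,
      by rw [p2, inv_mem_iff]; exact h2⟩
    have hcomm : ∀ a ∈ Φ, ∀ b ∈ Φ, a * b = b * a := by
      intro a ha b hb
      have h3 := hxinv (a * b) (mul_mem ha hb)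
      rw [show x * (a * b) * x = (x * a * x) * (x * b * x) by
        rw [show (x * a * x) * (x * b * x) = x * a * (x * x) * b * x by group, hx2, mul_one]; group,
        hxinv a ha, hxinv b hb, ← mul_inv_rev] at h3
      exact (inv_injective h3).symm
    have hui : u⁻¹ = u := inv_eq_of_mul_eq_one_right (hQ2 u hu).1
    have hwi : w⁻¹ = w := inv_eq_of_mul_eq_one_right (hQ2 w hw).1
    have hsq : ∀ d ∈ Φ, d * d = 1 := by
      intro d hd
      have e1 : x * d * x = d := by
        rw [show x = u * w * ((u * w)⁻¹ * x) from (mul_inv_cancel_left _ _).symm]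
        set d₀ := (u * w)⁻¹ * x
        have e2 : u * w * d * (u * w)⁻¹ = d := by
          rw [mul_inv_rev, hui, hwi, show u * w * d * (w * u) = u * (w * d * w) * u by group,
            (key w hw).2 d hd, (key u hu).2 _ (inv_mem hd), inv_inv]
        have hx' : (u * w * d₀)⁻¹ = u * w * d₀ := by
          have : x = u * w * d₀ := (mul_inv_cancel_left _ _).symm
          rw [← this]; exact inv_eq_of_mul_eq_one_right hx2
        calc u * w * d₀ * d * (u * w * d₀) = u * w * d₀ * d * (u * w * d₀)⁻¹ := by rw [hx']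
          _ = u * w * (d₀ * d * d₀⁻¹) * (u * w)⁻¹ := by group
          _ = d := by rw [hcomm d₀ hd0 d hd, mul_inv_cancel_right, e2]
      rw [hxinv d hd] at e1
      nth_rewrite 1 [← e1]
      rw [inv_mul_cancel]
    have hd0' : x * z ∉ Φ := fun h => hxΦ (by simpa [mul_assoc, hz2] using mul_mem h hzΦ)
    have huw : (u * w) * (u * w) = 1 := by
      rcases hfix _ hd0 (hsq _ hd0) with e | e | e
      · rw [inv_mul_eq_one.1 e, hx2]
      · have : u * w = x * z := by
          rw [inv_mul_eq_iff_eq_mul] at e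
          rw [e, mul_assoc, hz2, mul_one]
        rw [this, mul_assoc, ← mul_assoc z x z, ← hzc x, mul_assoc x z z, hz2, mul_one, hx2]
      · exact absurd (e ▸ hd0) hd0'
    have hcuw : u * w = w * u := by
      have := inv_eq_of_mul_eq_one_right huw
      rw [mul_inv_rev, hui, hwi] at this
      exact this.symm
    have hux : u * x = x * u := by
      have hc : Commute u (u * w) := by
        show u * (u * w) = u * w * u
        rw [mul_assoc u w u, ← hcuw]
      have hxeq : x = u * w ∨ x = u * w * z := by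
        rcases hfix _ hd0 (hsq _ hd0) with e | e | e
        · exact Or.inl (inv_mul_eq_one.1 e).symm
        · exact Or.inr (inv_mul_eq_iff_eq_mul.1 e)
        · exact absurd (e ▸ hd0) hd0'
      rcases hxeq with e | e
      · rw [e]; exact hc
      · rw [e]; exact hc.mul_right (hzc u)
    rcases hx4 u hux with e | e | e | e
    · exact (hQ2 u hu).2 e
    · subst e; simp at hpar
    · exact huΦ (e ▸ hzΦ)
    · subst e
      have hz₁ : z ∈ M₁ := hzΦ.1
      have hz₂ : z ∈ M₂ := hzΦ.2
      rw [p1, p2] at hpar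
      tauto
  -- the two cosets
  by_cases hx₁ : x ∈ M₁
  · have hx₂ : x ∉ M₂ := fun h => hxpar ⟨hx₁, h⟩
    obtain ⟨u, hu, huT⟩ := hno M₂ hi₂ hx₂
    obtain ⟨w, hw, hwT⟩ := hno M₃ hi₃ (by rw [hm3]; tauto)
    have huΦ := (key u hu).1
    have hwΦ := (key w hw).1
    rw [hΦ, Subgroup.mem_inf] at huΦ hwΦ
    rw [hm3] at hwT
    refine hbad u w hu hw (key u hu).1 (key w hw).1 (by tauto) ?_ ?_ <;>
      simp only [p1, p2] <;> tauto
  · obtain ⟨u, hu, huT⟩ := hno M₁ hi₁ hx₁
    have huΦ := (key u hu).1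
    rw [hΦ, Subgroup.mem_inf] at huΦ
    by_cases hx₂ : x ∈ M₂
    · obtain ⟨w, hw, hwT⟩ := hno M₃ hi₃ (by rw [hm3]; tauto)
      have hwΦ := (key w hw).1
      rw [hΦ, Subgroup.mem_inf] at hwΦ
      rw [hm3] at hwT
      refine hbad u w hu hw (key u hu).1 (key w hw).1 (by tauto) ?_ ?_ <;>
        simp only [p1, p2] <;> tauto
    · obtain ⟨w, hw, hwT⟩ := hno M₂ hi₂ hx₂
      have hwΦ := (key w hw).1
      rw [hΦ, Subgroup.mem_inf] at hwΦ
      refine hbad u w hu hw (key u hu).1 (key w hw).1 (by tauto) ?_ ?_ <;>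
        simp only [p1, p2] <;> tauto

set_option maxHeartbeats 3200000


/-- Let G be a finite group containing an involution whose centralizer is elementary abelian of order 4. If G has no normal 2-complement and no normal elementary abelian 2-subgroup of order 2 or 4, then G is isomorphic to the alternating group of degree 5 (that is, to PSL(2, 5)). -/
theorem result {G : Type*} [Group G] [Finite G] (x : G) (hx : orderOf x = 2)
    (hC4 : Nat.card ↥(Subgroup.centralizer ({x} : Set G)) = 4) (hCe : ∀ c ∈ Subgroup.centralizer ({x} : Set G), c ^ 2 = 1)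
    (hnc : ¬ Cfsg.HasNormalPComplement 2 G)
    (hne : ∀ E : Subgroup G, E.Normal → Cfsg.IsElementaryAbelian 2 E → Nat.card ↥E ≠ 2 ∧ Nat.card ↥E ≠ 4) :
    Nonempty (G ≃* ↥(alternatingGroup (Fin 5))) := by
  classical
  haveI : Fact (Nat.Prime 2) := ⟨Nat.prime_two⟩
  set C := Subgroup.centralizer ({x} : Set G) with hCdef
  have hx2 : x * x = 1 := by rw [← sq, ← hx]; exact pow_orderOf_eq_one x
  have hx1 : x ≠ 1 := fun h => by rw [h, orderOf_one] at hx; omega
  have hxi : x⁻¹ = x := inv_eq_of_mul_eq_one_right hx2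
  have hCp : IsPGroup 2 C := IsPGroup.of_card (n := 2) (by rw [hC4]; rfl)
  have hxC : x ∈ C := Subgroup.mem_centralizer_singleton_iff.2 rfl
  obtain ⟨S, hS⟩ := hCp.exists_le_sylow
  have hconjC : ∀ g : G, Nat.card (Subgroup.centralizer ({g * x * g⁻¹} : Set G)) = 4 := fun g => by
    rw [← hC4]
    refine Nat.card_congr
      { toFun := fun c => ⟨g⁻¹ * c * g, Subgroup.mem_centralizer_singleton_iff.2 ?_⟩
        invFun := fun c => ⟨g * c * g⁻¹, Subgroup.mem_centralizer_singleton_iff.2 ?_⟩
        left_inv := fun c => Subtype.ext (by simp [mul_assoc])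
        right_inv := fun c => Subtype.ext (by simp [mul_assoc]) }
    · have h := Subgroup.mem_centralizer_singleton_iff.1 c.2
      calc g⁻¹ * (c : G) * g * x = g⁻¹ * ((c : G) * (g * x * g⁻¹)) * g := by group
        _ = g⁻¹ * (g * x * g⁻¹ * (c : G)) * g := by rw [h]
        _ = _ := by group
    · have h := Subgroup.mem_centralizer_singleton_iff.1 c.2
      calc g * (c : G) * g⁻¹ * (g * x * g⁻¹) = g * ((c : G) * x) * g⁻¹ := by group
        _ = g * (x * (c : G)) * g⁻¹ := by rw [h]
        _ = _ := by group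
  have hCab : ∀ a ∈ C, ∀ b ∈ C, a * b = b * a := by
    intro a ha b hb
    have h1 := hCe _ (mul_mem ha hb)
    have h2 := hCe a ha
    have h3 := hCe b hb
    rw [sq] at h1 h2 h3
    have := inv_eq_of_mul_eq_one_right h1
    rw [mul_inv_rev, inv_eq_of_mul_eq_one_right h2, inv_eq_of_mul_eq_one_right h3] at this
    exact this.symm
  -- there is no nontrivial normal 2-subgroup
  have hO : ∀ N : Subgroup G, N.Normal → IsPGroup 2 N → N = ⊥ := by
    intro N hN hN2
    by_contra hb
    have : Nontrivial N := (Subgroup.nontrivial_iff_ne_bot N).2 hb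
    let E : Subgroup G :=
      { carrier := {e | e ∈ N ∧ e * e = 1 ∧ ∀ n ∈ N, n * e = e * n}
        one_mem' := ⟨one_mem _, one_mul _, fun n _ => by simp⟩
        mul_mem' := fun {a b} ha hb => ⟨mul_mem ha.1 hb.1, by
          rw [show a * b * (a * b) = a * (b * a) * b by group, ha.2.2 b hb.1,
            show a * (a * b) * b = (a * a) * (b * b) by group, ha.2.1, hb.2.1, one_mul], fun n hn => by
          rw [← mul_assoc, ha.2.2 n hn, mul_assoc, hb.2.2 n hn, mul_assoc]⟩
        inv_mem' := fun {a} ha => by rwa [inv_eq_of_mul_eq_one_right ha.2.1] }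
    have hEn : E.Normal := ⟨fun e he g => ⟨hN.conj_mem e he.1 g, by
      rw [show g * e * g⁻¹ * (g * e * g⁻¹) = g * (e * e) * g⁻¹ by group, he.2.1, mul_one,
        mul_inv_cancel], fun n hn => by
      have h := he.2.2 (g⁻¹ * n * g) (by simpa using hN.conj_mem n hn g⁻¹)
      calc n * (g * e * g⁻¹) = g * ((g⁻¹ * n * g) * e) * g⁻¹ := by group
        _ = g * (e * (g⁻¹ * n * g)) * g⁻¹ := by rw [h]
        _ = _ := by group⟩⟩
    have hEe : Cfsg.IsElementaryAbelian 2 E :=
      ⟨⟨⟨fun a b => Subtype.ext (b.2.2.2 a a.2.1)⟩⟩, fun a ha => by rw [sq]; exact ha.2.1⟩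
    have hEp : IsPGroup 2 E := hN2.to_le fun e he => he.1
    have h2E : 2 ∣ Nat.card E := by
      haveI : Nontrivial (Subgroup.center N) := hN2.center_nontrivial
      have hcp : IsPGroup 2 (Subgroup.center N) := hN2.to_subgroup _
      obtain ⟨k, hk⟩ := IsPGroup.iff_card.1 hcp
      have hk0 : k ≠ 0 := fun h => by
        rw [h, pow_zero] at hk
        exact Nat.lt_irrefl 1 (hk ▸ Finite.one_lt_card (α := Subgroup.center N))
      obtain ⟨d, hd⟩ := exists_prime_orderOf_dvd_card' (G := Subgroup.center N) 2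
        (hk ▸ dvd_pow_self 2 hk0)
      rw [← hd, ← Subgroup.orderOf_coe, ← Subgroup.orderOf_coe]
      refine Subgroup.orderOf_dvd_natCard E ⟨(d : N).2, ?_, fun n hn =>
        congrArg Subtype.val (Subgroup.mem_center_iff.1 d.2 ⟨n, hn⟩)⟩
      have h := pow_orderOf_eq_one d
      rw [hd, sq] at h
      exact congrArg (fun t : Subgroup.center N => ((t : N) : G)) h
    have hsmall : Nat.card E ≤ 4 := by
      by_cases hxE : x ∈ E
      · rw [← hC4]
        exact Subgroup.card_le_of_le fun e he =>
          Subgroup.mem_centralizer_singleton_iff.2 (hxE.2.2 e he.1)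
      · have hlt : Nat.card ↥(E ⊓ C) ≤ 2 := by
          have hd : Nat.card ↥(E ⊓ C) ∣ 4 := hC4 ▸ Subgroup.card_dvd_of_le inf_le_right
          have hne : Nat.card ↥(E ⊓ C) ≠ 4 := fun h => hxE
            ((Subgroup.eq_of_le_of_card_ge inf_le_right (by rw [h, hC4])).ge hxC).1
          have := Nat.le_of_dvd (by norm_num) hd
          interval_cases hh : Nat.card ↥(E ⊓ C) <;> simp_all
        let f : E →* ↥(E ⊓ C) :=
          { toFun := fun e => ⟨x * e * x⁻¹ * e, mul_mem (hEn.conj_mem _ e.2 x) e.2,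
              Subgroup.mem_centralizer_singleton_iff.2 (by
                have hc : (x * e * x⁻¹) * e = e * (x * e * x⁻¹) := e.2.2.2 _ (hN.conj_mem _ e.2.1 x)
                calc x * e * x⁻¹ * e * x = x * e * x⁻¹ * (e * x * 1) := by group
                  _ = x * (e * x⁻¹ * e) * x := by group
                  _ = x * (x * e * x⁻¹ * e) := ?_
                rw [hc, hxi]
                simp only [mul_assoc])⟩
            map_one' := Subtype.ext (by simp [hx2])
            map_mul' := fun a b => Subtype.ext (by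
              show x * (a * b : G) * x⁻¹ * (a * b) = (x * a * x⁻¹ * a) * (x * b * x⁻¹ * b)
              have hc : (a : G) * (x * b * x⁻¹) = (x * b * x⁻¹) * a :=
                (hEn.conj_mem _ b.2 x).2.2 _ a.2.1
              calc x * (a * b : G) * x⁻¹ * (a * b)
                  = (x * a * x⁻¹) * ((x * b * x⁻¹) * a) * b := by group
                _ = (x * a * x⁻¹) * (a * (x * b * x⁻¹)) * b := by rw [hc]
                _ = _ := by group) }
        have hker : Nat.card f.ker ≤ Nat.card ↥(E ⊓ C) := by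
          refine Nat.card_le_card_of_injective
            (fun e => (⟨((e : E) : G), (e : E).2, Subgroup.mem_centralizer_singleton_iff.2 ?_⟩ :
              ↥(E ⊓ C))) fun a b h => Subtype.ext (Subtype.ext (congrArg Subtype.val h :))
          have h : x * ((e : E) : G) * x⁻¹ * (e : E) = 1 := congrArg Subtype.val e.2
          rw [mul_eq_one_iff_eq_inv, inv_eq_of_mul_eq_one_right (e : E).2.2.1,
            mul_inv_eq_iff_eq_mul] at h
          exact h.symm
        have h1 : Nat.card E = f.ker.index * Nat.card f.ker := (f.ker.index_mul_card).symm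
        rw [Subgroup.index_ker] at h1
        have h2 : Nat.card f.range ≤ 2 := (Subgroup.card_le_card_group _).trans hlt
        rw [h1]
        exact (Nat.mul_le_mul h2 (hker.trans hlt))
    obtain ⟨k, hk⟩ := IsPGroup.iff_card.1 hEp
    obtain ⟨hn2, hn4⟩ := hne E hEn hEe
    rw [hk] at hn2 hn4 h2E hsmall
    have hk3 : k < 3 := (Nat.pow_lt_pow_iff_right (by norm_num : 1 < 2)).1
      (hsmall.trans_lt (by norm_num))
    interval_cases k <;> simp_all
  -- G is not solvable
  have hnsol : ¬ Group.IsSolvable G := by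
    intro hs
    apply hnc
    set F := Cfsg.pPrimeCore 2 G with hFdef
    have hFodd : (Nat.card F).Coprime 2 := Cfsg.Agent.Lib.Cores.pPrimeCore_coprime 2 G
    have hCF : Subgroup.centralizer (F : Set G) ≤ F := by
      have hfit : Cfsg.fittingSubgroup G ≤ F := by
        refine (Cfsg.Agent.Lib.Cores.fittingSubgroup_le_pCore_sup_pPrimeCore 2).trans ?_
        rw [Cfsg.Agent.Lib.Cores.pCore_eq_bot_iff.2 hO, bot_sup_eq]
      exact ((Subgroup.centralizer_le hfit).trans
        (Cfsg.Agent.Lib.Cores.centralizer_fittingSubgroup_le hs)).trans hfit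
    haveI hFn : F.Normal := (Cfsg.Agent.Lib.Cores.pPrimeCore_mem 2 G).1
    have hoddF : ∀ f ∈ F, f * f = 1 → f = 1 := fun f hf h => by
      have h1 : orderOf f ∣ 2 := orderOf_dvd_of_pow_eq_one (by rw [sq, h])
      have h2 := Subgroup.orderOf_dvd_natCard F hf
      exact orderOf_eq_one_iff.1 (Nat.eq_one_of_dvd_coprimes hFodd h2 h1)
    have hfix : ∀ f ∈ F, x * f = f * x → f = 1 := fun f hf h => hoddF f hf (by
      rw [← sq]; exact hCe f (Subgroup.mem_centralizer_singleton_iff.2 h.symm))
    have hinv : ∀ f ∈ F, x * f * x = f⁻¹ := inverts_of_fpf hx2 F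
      (fun f hf => by have := hFn.conj_mem f hf x; rwa [hxi] at this) hfix
    have hgen : ∀ g : G, g ∈ F ⊔ C := by
      intro g
      have hc : g * x * g⁻¹ * x ∈ F := hCF (Subgroup.mem_centralizer_iff.2 fun f hf => by
        have h1 := hinv f hf
        have h2 : g⁻¹ * f * g ∈ F := by simpa using hFn.conj_mem f hf g⁻¹
        have h3 := hinv _ h2
        have h4 : g * x * g⁻¹ * f * (g * x * g⁻¹) = f⁻¹ := by
          calc g * x * g⁻¹ * f * (g * x * g⁻¹) = g * (x * (g⁻¹ * f * g) * x) * g⁻¹ := by group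
            _ = _ := by rw [h3]; group
        have hgg : (g * x * g⁻¹)⁻¹ = g * x * g⁻¹ := by rw [mul_inv_rev, mul_inv_rev, inv_inv, hxi, mul_assoc]
        have h5 : g * x * g⁻¹ * x * f * (g * x * g⁻¹ * x)⁻¹ = f := by
          calc g * x * g⁻¹ * x * f * (g * x * g⁻¹ * x)⁻¹
              = g * x * g⁻¹ * (x * f * x⁻¹) * (g * x * g⁻¹)⁻¹ := by group
            _ = g * x * g⁻¹ * f⁻¹ * (g * x * g⁻¹) := by rw [hxi, h1, hgg]
            _ = (g * x * g⁻¹ * f⁻¹ * (g * x * g⁻¹)⁻¹) := by rw [hgg]
            _ = (g * x * g⁻¹ * f * (g * x * g⁻¹)⁻¹)⁻¹ := by group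
            _ = f := by rw [hgg, h4, inv_inv]
        exact (mul_inv_eq_iff_eq_mul.1 h5).symm)
      set c := g * x * g⁻¹ * x
      have hodd : ¬ 2 ∣ orderOf c := fun h => by
        have := Nat.eq_one_of_dvd_coprimes hFodd (h.trans (Subgroup.orderOf_dvd_natCard F hc))
          (dvd_refl 2)
        omega
      set h := c ^ ((orderOf c + 1) / 2)
      have hh : h * h = c := by
        rw [← pow_add, show (orderOf c + 1) / 2 + (orderOf c + 1) / 2 = orderOf c + 1 by omega,
          pow_succ, pow_orderOf_eq_one, one_mul]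
      have hhF : h ∈ F := pow_mem hc _
      have hgx : h * x * h⁻¹ * x = c := by
        rw [show h * x * h⁻¹ * x = h * (x * h⁻¹ * x) by group, hinv _ (inv_mem hhF), inv_inv, hh]
      have he : h * x * h⁻¹ = g * x * g⁻¹ := mul_right_cancel hgx
      have hm : h⁻¹ * g ∈ C := Subgroup.mem_centralizer_singleton_iff.2 (by
        calc h⁻¹ * g * x = h⁻¹ * (g * x * g⁻¹) * g := by group
          _ = h⁻¹ * (h * x * h⁻¹) * g := by rw [he]
          _ = _ := by group)
      have := Subgroup.mul_mem_sup hhF hm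
      rwa [mul_inv_cancel_left] at this
    have hdisj : F ⊓ C = ⊥ := eq_bot_iff.2 fun f hf => Subgroup.mem_bot.2
      (hoddF f hf.1 (by rw [← sq]; exact hCe f hf.2))
    have hcompl : F.IsComplement' C :=
      Subgroup.isComplement'_of_disjoint_and_mul_eq_univ (disjoint_iff.2 hdisj) (by
        rw [← Subgroup.normal_mul F C, (Subgroup.eq_top_iff' _).2 hgen, Subgroup.coe_top])
    have hidx : C.index = Nat.card F := hcompl.index_eq_card
    refine ⟨hCp.toSylow (by
      rw [hidx]; intro h
      exact absurd (Nat.eq_one_of_dvd_coprimes hFodd h (dvd_refl 2)) (by norm_num)), F, hFn, ?_⟩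
    exact hcompl
  -- the centraliser is a Sylow 2-subgroup
  have hSC : (S : Subgroup G) = C := by
    by_contra hne'
    apply hnsol
    have hS8 : 4 < Nat.card (S : Subgroup G) := by
      rw [← hC4]
      by_contra h
      exact hne' (Subgroup.eq_of_le_of_card_ge hS (not_lt.1 h)).symm
    have hxS : x ∈ (S : Subgroup G) := hS hxC
    haveI : Nontrivial (S : Subgroup G) := Finite.one_lt_card_iff_nontrivial.1 (by omega)
    haveI : Nontrivial (Subgroup.center (S : Subgroup G)) := S.2.center_nontrivial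
    obtain ⟨k, hk⟩ := IsPGroup.iff_card.1 (S.2.to_subgroup (Subgroup.center (S : Subgroup G)))
    have hk0 : k ≠ 0 := fun h => by
      rw [h, pow_zero] at hk
      exact Nat.lt_irrefl 1 (hk ▸ Finite.one_lt_card (α := Subgroup.center (S : Subgroup G)))
    obtain ⟨⟨⟨z, hzS⟩, hzc⟩, hz⟩ := exists_prime_orderOf_dvd_card'
      (G := Subgroup.center (S : Subgroup G)) 2 (hk ▸ dvd_pow_self 2 hk0)
    rw [← Subgroup.orderOf_coe, ← Subgroup.orderOf_coe] at hz
    change orderOf z = 2 at hz
    have hz2 : z * z = 1 := by rw [← sq, ← hz]; exact pow_orderOf_eq_one z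
    have hz1 : z ≠ 1 := fun h => by rw [h, orderOf_one] at hz; omega
    have hzcS : ∀ s ∈ (S : Subgroup G), s * z = z * s := fun s hs =>
      congrArg Subtype.val (Subgroup.mem_center_iff.1 hzc ⟨s, hs⟩)
    have hzx : ∀ g : G, g * x * g⁻¹ ≠ z := fun g h => by
      have h1 := hconjC g
      rw [h] at h1
      have h2 : Nat.card (S : Subgroup G) ≤ 4 := h1 ▸ Subgroup.card_le_of_le fun s hs =>
        Subgroup.mem_centralizer_singleton_iff.2 (hzcS s hs)
      omega
    have hzC : z ∈ C := Subgroup.mem_centralizer_singleton_iff.2 (hzcS x hxS).symm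
    have hxz : x ≠ z := fun h => hzx 1 (by simpa using h)
    have hC4' : ∀ c ∈ C, c = 1 ∨ c = x ∨ c = z ∨ c = x * z := by
      have hxz1 : x * z ≠ 1 := fun h => hxz (by
        rw [mul_eq_one_iff_eq_inv, inv_eq_of_mul_eq_one_right hz2] at h; exact h)
      exact four_cases hC4 hxC hzC (mul_mem hxC hzC) hx1 hz1 hxz1 hxz
        (fun h => hz1 (left_eq_mul.1 h)) (fun h => hx1 (right_eq_mul.1 h))
    let Q : ↥(S : Subgroup G) → Prop := fun u => ∃ g : G, g * x * g⁻¹ = (u : G)
    obtain ⟨T, hTi, hxT, hTQ⟩ := exists_index_two S.2 Q ⟨x, hxS⟩ ⟨z, hzS⟩ ⟨1, by simp⟩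
      (fun ⟨g, hg⟩ => hzx g hg) (Subtype.ext hz2) (fun h => hz1 (congrArg Subtype.val h))
      (fun s => Subtype.ext (hzcS s s.2))
      (by
        rintro u ⟨g, hg⟩
        refine ⟨Subtype.ext ?_, fun h => hx1 ?_⟩
        · show (u : G) * u = 1
          rw [← hg, show g * x * g⁻¹ * (g * x * g⁻¹) = g * (x * x) * g⁻¹ by group, hx2]; group
        · rw [h, Subgroup.coe_one] at hg
          exact conj_eq_one_iff.1 hg)
      (by
        rintro u ⟨g, hg⟩
        rw [← hconjC g, hg]
        exact Nat.card_le_card_of_injective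
          (fun c => (⟨((c : (S : Subgroup G)) : G), Subgroup.mem_centralizer_singleton_iff.2
            (congrArg Subtype.val (Subgroup.mem_centralizer_singleton_iff.1 c.2))⟩ :
            Subgroup.centralizer ({(u : G)} : Set G)))
          fun a b h => Subtype.ext (Subtype.ext (congrArg Subtype.val h :)))
      (fun s hs => by
        rcases hC4' s (Subgroup.mem_centralizer_singleton_iff.2 (congrArg Subtype.val hs)) with
          e | e | e | e <;> simp [Subtype.ext_iff, e])
      hS8
    have hTrel : (T.map (S : Subgroup G).subtype).relIndex (S : Subgroup G) = 2 := by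
      rw [Subgroup.relIndex, Subgroup.subgroupOf,
        Subgroup.comap_map_eq_self_of_injective (S : Subgroup G).subtype_injective, hTi]
    rcases S0111.result S (T.map (S : Subgroup G).subtype) (Subgroup.map_subtype_le T) hTrel x hx hxS
      (fun h => by
        obtain ⟨t, ht, htx⟩ := h
        exact hxT (by rwa [show t = ⟨x, hxS⟩ from Subtype.ext htx] at ht)) with
      ⟨N, hN, hNi, hxN⟩ | ⟨g, t, ht, htx⟩
    · -- the commuting probability of N
      haveI := Fintype.ofFinite G
      let A := {u : G // ∃ g : G, g * x * g⁻¹ = u}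
      have hA : Nat.card A * 4 = Nat.card G := by
        rw [← hC4, ← C.index_mul_card]
        congr 1
        refine (Nat.card_eq_of_bijective (fun q : G ⧸ C => Quotient.liftOn' q
          (fun g => (⟨g * x * g⁻¹, g, rfl⟩ : A)) fun a b hab => Subtype.ext ?_) ⟨?_, ?_⟩).symm
        · have h := Subgroup.mem_centralizer_singleton_iff.1 (QuotientGroup.leftRel_apply.1 hab)
          calc a * x * a⁻¹ = a * (x * (a⁻¹ * b)) * b⁻¹ := by group
            _ = a * (a⁻¹ * b * x) * b⁻¹ := by rw [h]
            _ = _ := by group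
        · intro a b
          induction a using QuotientGroup.induction_on with | H a =>
          induction b using QuotientGroup.induction_on with | H b =>
          intro hab
          have h : a * x * a⁻¹ = b * x * b⁻¹ := congrArg Subtype.val hab
          refine QuotientGroup.eq.2 (Subgroup.mem_centralizer_singleton_iff.2 ?_)
          calc a⁻¹ * b * x = a⁻¹ * (b * x * b⁻¹) * b := by group
            _ = a⁻¹ * (a * x * a⁻¹) * b := by rw [h]
            _ = _ := by group
        · rintro ⟨u, g, rfl⟩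
          exact ⟨(g : G ⧸ C), rfl⟩
      have hAout : ∀ u : A, u.1 ∉ N ∧ u.1 * u.1 = 1 := by
        rintro ⟨u, g, rfl⟩
        refine ⟨fun h => hxN ?_, ?_⟩
        · simpa [mul_assoc] using hN.conj_mem _ h g⁻¹
        · show g * x * g⁻¹ * (g * x * g⁻¹) = 1
          rw [show g * x * g⁻¹ * (g * x * g⁻¹) = g * (x * x) * g⁻¹ by group, hx2]; group
      have hprod : ∀ u v : A, u.1 * v.1 ∈ N := fun u v =>
        (Subgroup.mul_mem_iff_of_index_two hNi).2 (iff_of_false (hAout u).1 (hAout v).1)
      let inv : G → A := fun c =>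
        if h : ∃ u v : A, u.1 * v.1 = c then h.choose else ⟨x, 1, by simp⟩
      have hinv : ∀ u v : A, (inv (u.1 * v.1)).1 * (u.1 * v.1) * (inv (u.1 * v.1)).1 =
          (u.1 * v.1)⁻¹ := by
        intro u v
        have h : ∃ u' v' : A, u'.1 * v'.1 = u.1 * v.1 := ⟨u, v, rfl⟩
        simp only [inv, dif_pos h]
        have hs := h.choose_spec
        generalize h.choose = a at hs ⊢
        obtain ⟨v', hv'⟩ := hs
        rw [← hv']
        rw [mul_inv_rev, inv_eq_of_mul_eq_one_right (hAout a).2,
          inv_eq_of_mul_eq_one_right (hAout v').2,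
          show a.1 * (a.1 * v'.1) * a.1 = (a.1 * a.1) * v'.1 * a.1 by group, (hAout a).2, one_mul]
      have hk : ∀ u v : A, (inv (u.1 * v.1)).1 * u.1 * (u.1 * v.1) =
          u.1 * v.1 * ((inv (u.1 * v.1)).1 * u.1) := by
        intro u v
        set a := (inv (u.1 * v.1)).1
        set c := u.1 * v.1 with hc
        have h1 : a * c * a = c⁻¹ := hinv u v
        have h2 : u.1 * c * u.1 = c⁻¹ := by
          rw [hc, mul_inv_rev, inv_eq_of_mul_eq_one_right (hAout u).2,
            inv_eq_of_mul_eq_one_right (hAout v).2,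
            show u.1 * (u.1 * v.1) * u.1 = (u.1 * u.1) * v.1 * u.1 by group, (hAout u).2, one_mul]
        have ha : a * a = 1 := (hAout _).2
        calc a * u.1 * c = a * (u.1 * c * u.1) * u.1 := by
              rw [show a * (u.1 * c * u.1) * u.1 = a * u.1 * c * (u.1 * u.1) by group, (hAout u).2,
                mul_one]
          _ = a * (a * c * a) * u.1 := by rw [h2, h1]
          _ = (a * a) * c * (a * u.1) := by group
          _ = _ := by rw [ha, one_mul]
      let F : A × A → {p : N × N // p.1 * p.2 = p.2 * p.1} := fun p =>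
        ⟨(⟨(inv (p.1.1 * p.2.1)).1 * p.1.1, hprod _ _⟩, ⟨p.1.1 * p.2.1, hprod _ _⟩),
          Subtype.ext (hk p.1 p.2)⟩
      have hF : Function.Injective F := by
        rintro ⟨u, v⟩ ⟨u', v'⟩ h
        have h2 : u.1 * v.1 = u'.1 * v'.1 := congrArg (fun t => (t.1.2 : G)) h
        have h1 : (inv (u.1 * v.1)).1 * u.1 = (inv (u'.1 * v'.1)).1 * u'.1 :=
          congrArg (fun t => (t.1.1 : G)) h
        rw [h2] at h1
        have e : u = u' := Subtype.ext (mul_left_cancel h1)
        subst e
        rw [Subtype.ext (mul_left_cancel h2) (a1 := v) (a2 := v')]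
      have hcnt := Nat.card_le_card_of_injective F hF
      rw [Nat.card_prod] at hcnt
      have hNc := N.index_mul_card
      rw [hNi, ← hA] at hNc
      have hNs : Group.IsSolvable N := solvable_of_pairs (Nat.card N) N rfl (by
        have hN' : Nat.card N = 2 * Nat.card A := by omega
        rw [hN', pairs]
        calc (2 * Nat.card A) ^ 2 = 4 * (Nat.card A * Nat.card A) := by ring
          _ ≤ _ := Nat.mul_le_mul_left 4 hcnt)
      haveI := hN
      refine (Group.isSolvable_iff_subgroup_quotient N).2 ⟨hNs, ?_⟩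
      haveI : IsCyclic (G ⧸ N) := isCyclic_of_prime_card (p := 2) hNi
      exact Group.isSolvable_of_comm (IsCyclic.commutative (α := G ⧸ N)).is_comm.comm
    · exact absurd ht (hTQ t ⟨g, htx.symm⟩)
  -- recognition
  obtain ⟨S, hSC'⟩ : ∃ S' : Sylow 2 G, (S' : Subgroup G) = C := ⟨S, hSC⟩
  clear hSC
  have hkl : IsKleinFour (S : Subgroup G) := by
    rw [hSC']
    refine ⟨hC4, ?_⟩
    refine Nat.dvd_antisymm (Monoid.exponent_dvd_of_forall_pow_eq_one fun c =>
      Subtype.ext (hCe c c.2)) ?_
    rw [show (2 : ℕ) = orderOf (⟨x, hxC⟩ : C) by rw [Subgroup.orderOf_mk, hx]]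
    exact Monoid.order_dvd_exponent _
  have hnormal : ¬ (S : Subgroup G).Normal := fun hn => by
    have hcard : Nat.card (S : Subgroup G) = 4 := by rw [hSC', hC4]
    exact (hne (S : Subgroup G) hn (by
      rw [hSC']
      exact ⟨⟨⟨fun a b => Subtype.ext (hCab a a.2 b b.2)⟩⟩, hCe⟩)).2 hcard
  have hfus : ∀ u ∈ S, u ≠ 1 → IsConj x u := by
    obtain ⟨n, hn, hnC⟩ : ∃ n ∈ Subgroup.normalizer ((S : Subgroup G) : Set G), n ∉ C := by
      by_contra h
      push Not at h
      have hle : Subgroup.normalizer ((S : Subgroup G) : Set G) ≤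
          Subgroup.centralizer ((S : Subgroup G) : Set G) := fun n hn =>
        Subgroup.mem_centralizer_iff.2 fun s hs => hCab s (hSC' ▸ hs) n (h n hn)
      exact hnc ⟨S, _, MonoidHom.normal_ker _,
        MonoidHom.ker_transferSylow_isComplement' S hle⟩
    have hperm : ∀ u ∈ C, n * u * n⁻¹ ∈ C := fun u hu =>
      hSC' ▸ (Subgroup.mem_set_normalizer_iff.1 hn u).1 (by rw [SetLike.mem_coe, hSC']; exact hu)
    have hnfix : ∀ u ∈ C, u ≠ 1 → n * u * n⁻¹ ≠ u := by
      intro u hu hu1 hfix
      have hcomm : ∀ v ∈ C, n * (n * v * n⁻¹) * n⁻¹ = v := by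
        intro v hv
        have hset : ∀ w ∈ C, w ≠ 1 → w ≠ u → ∀ w' ∈ C, w' ≠ 1 → w' ≠ u →
            w' = w ∨ w' = u * w := by
          intro w hw hw1 hwu w' hw' hw'1 hw'u
          have h2 : u * u = 1 := by rw [← sq]; exact hCe u hu
          have huw : u * w ≠ 1 := fun h => hwu (by
            rw [mul_eq_one_iff_inv_eq, inv_eq_of_mul_eq_one_right h2] at h; exact h.symm)
          rcases four_cases hC4 hu hw (mul_mem hu hw) hu1 hw1 huw (Ne.symm hwu)
            (fun h => hw1 (left_eq_mul.1 h)) (fun h => hu1 (right_eq_mul.1 h)) w' hw' with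
            e | e | e | e
          · exact absurd e hw'1
          · exact absurd e hw'u
          · exact Or.inl e
          · exact Or.inr e
        by_cases hv1 : v = 1
        · subst hv1; simp
        by_cases hvu : v = u
        · subst hvu; rw [hfix, hfix]
        have hu2 : u * u = 1 := by rw [← sq]; exact hCe u hu
        rcases hset v hv hv1 hvu (n * v * n⁻¹) (hperm v hv) (fun e => hv1 (conj_eq_one_iff.1 e))
          (fun e => hvu (by rw [← hfix] at e; exact mul_left_cancel (mul_right_cancel e))) with e | e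
        · rw [e, e]
        · rw [e, show n * (u * v) * n⁻¹ = (n * u * n⁻¹) * (n * v * n⁻¹) by group, hfix, e,
            ← mul_assoc, hu2, one_mul]
      have hn2 : n * n ∈ C := Subgroup.mem_centralizer_singleton_iff.2 (by
        have := hcomm x hxC
        calc n * n * x = n * (n * x * n⁻¹) * n⁻¹ * (n * n) := by group
          _ = _ := by rw [this])
      have hpn : IsPGroup 2 (Subgroup.zpowers n) := by
        refine IsPGroup.iff_card.2 ?_
        have h4 : n ^ 4 = 1 := by
          rw [show (4 : ℕ) = 2 * 2 from rfl, pow_mul, sq n]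
          exact hCe _ hn2
        obtain ⟨j, -, hj⟩ := (Nat.dvd_prime_pow Nat.prime_two).1
          (orderOf_dvd_of_pow_eq_one h4 : orderOf n ∣ 2 ^ 2)
        exact ⟨j, by rw [Nat.card_zpowers, hj]⟩
      have h2 : Subgroup.zpowers n ⊓ Subgroup.normalizer ((S : Subgroup G) : Set G) =
          Subgroup.zpowers n ⊓ (S : Subgroup G) := hpn.inf_normalizer_sylow S
      exact hnC (hSC' ▸ (h2 ▸ (⟨Subgroup.mem_zpowers n, hn⟩ : n ∈ Subgroup.zpowers n ⊓ _) :
        n ∈ Subgroup.zpowers n ⊓ (S : Subgroup G)).2)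
    intro u hu hu1
    replace hu : u ∈ C := hSC' ▸ (show u ∈ (S : Subgroup G) from hu)
    by_cases hux : u = x
    · subst hux; exact IsConj.refl _
    set a := n * x * n⁻¹ with ha
    have haC : a ∈ C := hperm x hxC
    have hax : a ≠ x := hnfix x hxC hx1
    have ha1 : a ≠ 1 := fun e => hx1 (conj_eq_one_iff.1 e)
    set b := n * a * n⁻¹ with hb
    have hbC : b ∈ C := hperm a haC
    have hb1 : b ≠ 1 := fun e => ha1 (conj_eq_one_iff.1 e)
    have hba : b ≠ a := hnfix a haC ha1
    have hbx : b ≠ x := fun e => by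
      have ha2 : a * a = 1 := by rw [← sq]; exact hCe a haC
      have hxa1 : x * a ≠ 1 := fun h => hax (by
        rw [mul_eq_one_iff_inv_eq, hxi] at h; exact h.symm)
      refine hnfix (x * a) (mul_mem hxC haC) hxa1 ?_
      calc n * (x * a) * n⁻¹ = a * b := by rw [hb, ha]; group
        _ = x * a := by rw [e]; exact hCab a haC x hxC
    rcases four_cases hC4 hxC haC hbC hx1 ha1 hb1 (Ne.symm hax) (Ne.symm hbx) (Ne.symm hba) u hu
      with e | e | e | e
    · exact absurd e hu1
    · exact absurd e hux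
    · exact e ▸ isConj_iff.2 ⟨n, rfl⟩
    · exact e ▸ isConj_iff.2 ⟨n * n, by rw [hb, ha]; group⟩
  have hdata : Cfsg.Agent.Lib.InvChar.KleinData S x :=
    { klein := hkl
      hv := hx
      hvV := show x ∈ (S : Subgroup G) from hSC' ▸ hxC
      fus := hfus
      cent := fun c hc u hu => hCab c (Subgroup.mem_centralizer_singleton_iff.2 hc) u (hSC' ▸ hu) }
  refine hdata.nonempty_mulEquiv hnormal fun K _ hKodd hKc => eq_bot_iff.2 fun k hk => ?_
  have h1 : orderOf k ∣ 2 := orderOf_dvd_of_pow_eq_one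
    (hCe k (Subgroup.mem_centralizer_singleton_iff.2 (hKc k hk)))
  have h2 := Subgroup.orderOf_dvd_natCard K hk
  exact Subgroup.mem_bot.2 (orderOf_eq_one_iff.1 (Nat.eq_one_of_dvd_coprimes
    (Nat.coprime_two_right.2 hKodd) h2 h1))

end Cfsg.Agent.S3277
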