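import Cfsg.Statements.S0344
import Cfsg.Agent.Lib.OddLocal.ZassenhausDerive
import Cfsg.Agent.Lib.OddLocal.ZassenhausSharp
import Cfsg.Agent.Lib.OddLocal.ZassenhausHalf

set_option autoImplicit false
open Cfsg

namespace Cfsg.Agent.S0344

/-- A finite simple Zassenhaus group with a two-point stabiliser of even order is isomorphic to `PSL₂(F)` for a finite
field `F` with more than three elements. -/
theorem result {G Ω : Type*} [Group G] [Finite G] [MulAction G Ω] [Finite Ω]
    (hZ : Cfsg.IsZassenhausGroup G Ω) [IsSimpleGroup G]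
    {a b : Ω} (hab : a ≠ b) (heven : Even (Nat.card ↥(MulAction.stabilizer G a ⊓ MulAction.stabilizer G b))) :
    ∃ (F : Type) (_ : Field F) (_ : Fintype F), 3 < Fintype.card F ∧ Nonempty (G ≃* Matrix.ProjectiveSpecialLinearGroup (Fin 2) F) := by
  classical
  haveI := Fintype.ofFinite Ω
  haveI := Fintype.ofFinite G
  obtain ⟨H, K⟩ := Lib.OddLocal.ZassPSL.exists_ker hZ hab
  set e := Nat.card ↥(MulAction.stabilizer G a ⊓ MulAction.stabilizer G b : Subgroup G)
  have hge := Cfsg.Agent.S0741.result hZ hab heven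
  have he2 := K.two_le_e
  have hh := K.hh
  obtain ⟨hab', -⟩ := Lib.OddLocal.ZassPSL.comm_of_large K (by omega)
  obtain ⟨⟨k, hk⟩, hle⟩ := Lib.OddLocal.ZassPSL.card_dvd K.toZData
  rcases k with _ | _ | _ | k
  · omega
  · exact (Lib.OddLocal.ZassPSL.not_simple_sharp K (by omega) heven).elim
  · obtain ⟨w, hw⟩ := Lib.OddLocal.ZassPSL.halfZass K hab' (by omega)
    obtain ⟨L, i1, i2, -, hL, hiso⟩ := hw.iso_PSL2
    exact ⟨L, i1, i2, by omega, hiso⟩
  · have : e * 3 ≤ e * (k + 1 + 1 + 1) := Nat.mul_le_mul_left _ (by omega)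
    omega

end Cfsg.Agent.S0344
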