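import Cfsg.Statements.S0340
import Cfsg.Agent.Lib.OddLocal.SuzukiMain
import Cfsg.Agent.Lib.OddLocal.SharpEven
import Cfsg.Agent.S0344

set_option autoImplicit false
open Cfsg

namespace Cfsg.Agent.S0340

/-- Classification of Zassenhaus groups, simple case, order-level form: a finite simple Zassenhaus group is
isomorphic to `PSL₂(F)` for some finite field `F` or is simple of Suzuki order. -/
theorem result {G Ω : Type*} [Group G] [Finite G] [MulAction G Ω]
    [Finite Ω] (hZ : Cfsg.IsZassenhausGroup G Ω) [IsSimpleGroup G] :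
    (∃ (F : Type) (_ : Field F) (_ : Fintype F), Nonempty (G ≃* Matrix.ProjectiveSpecialLinearGroup (Fin 2) F)) ∨ Cfsg.IsSuzuki G := by
  classical
  haveI := Fintype.ofFinite Ω
  haveI := Fintype.ofFinite G
  obtain ⟨-, -, -, ⟨g, -, a, b, hab, -, -⟩, -⟩ := id hZ
  obtain ⟨H, K⟩ := Lib.OddLocal.ZassPSL.exists_ker hZ hab
  rcases Nat.even_or_odd (Nat.card ↥(MulAction.stabilizer G a ⊓ MulAction.stabilizer G b : Subgroup G))
    with hev | hodd
  · obtain ⟨F, i1, i2, -, hiso⟩ := Cfsg.Agent.S0344.result hZ hab hev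
    exact Or.inl ⟨F, i1, i2, hiso⟩
  set e := Nat.card ↥(MulAction.stabilizer G a ⊓ MulAction.stabilizer G b : Subgroup G)
  have K' : Lib.Characters.ZOdd.ZKer G a b (Fintype.card Ω - 1) e H :=
    { zass := K.zass, hab := K.hab, hh := K.hh, he := K.he, hodd := hodd,
      hHa := K.hHa, hHcard := K.hHcard, hHfix := K.hHfix }
  rcases K'.feit_inequality with hle | ⟨h2, ⟨u, v, huv⟩, -⟩
  · left
    have he3 := K'.three_le_e
    obtain ⟨⟨k, hk⟩, hlo⟩ := Lib.OddLocal.ZassPSL.card_dvd K.toZData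
    rcases k with _ | _ | _ | k
    · omega
    · -- sharply triply transitive of odd degree
      obtain ⟨h3, -⟩ := Lib.OddLocal.ZassPSL.sharp K.toZData (by omega)
      haveI := hZ.1
      have hh := K.hh
      obtain ⟨c, hc⟩ := hodd
      obtain ⟨f, F, i1, i2, hf, -, hF, ⟨ε⟩⟩ := Lib.OddLocal.sharp_odd_degree (G := G) (Ω := Ω) h3
        (fun g x y z h1 h2 h3 => K.three h1 h2 h3) (by omega) ⟨c + 1, by omega⟩
      have hev : Even (Fintype.card F) := by
        rw [hF]; exact (Nat.even_pow' (by omega)).mpr even_two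
      haveI : CharP F 2 :=
        (FiniteField.even_card_iff_char_two.mpr (Nat.even_iff.mp hev)) ▸ ringChar.charP F
      have hcen : Subgroup.center (Matrix.SpecialLinearGroup (Fin 2) F) = ⊥ := by
        refine (Subgroup.eq_bot_iff_forall _).mpr fun x hx => ?_
        obtain ⟨r, hr, hrx⟩ := Matrix.SpecialLinearGroup.mem_center_iff.mp hx
        rw [Fintype.card_fin] at hr
        have h1 : (r - 1) ^ 2 = 0 := by rw [sub_pow_char, hr, one_pow, sub_self]
        have hr1 : r = 1 := sub_eq_zero.mp (pow_eq_zero_iff two_ne_zero |>.mp h1)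
        apply Subtype.ext
        rw [← hrx, hr1]
        simp
      exact ⟨F, i1, i2, ⟨(ε.trans (Lib.OddLocal.sl2_equiv_pgl2 hev).symm).trans
        ((QuotientGroup.quotientMulEquivOfEq hcen).trans QuotientGroup.quotientBot).symm⟩⟩
    · obtain ⟨hab', -⟩ := Lib.OddLocal.ZassPSL.comm_of_large K hle
      obtain ⟨w, hw⟩ := Lib.OddLocal.ZassPSL.halfZass K hab' (by omega)
      obtain ⟨L, i1, i2, -, -, hiso⟩ := hw.iso_PSL2
      exact ⟨L, i1, i2, hiso⟩
    · have : e * 3 ≤ e * (k + 1 + 1 + 1) := Nat.mul_le_mul_left _ (by omega)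
      omega
  · exact Or.inr (Lib.OddLocal.SuzukiMain.isSuzuki_of_regular hZ hab K.hHa
      (Lib.OddLocal.ZassPSL.hreg_of_ker K) h2 ⟨u, v, huv⟩)

end Cfsg.Agent.S0340
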