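import Cfsg.Statements.S0185
import Cfsg.Agent.Lib.Characters.Kernel
-- import your own Cfsg.Agent.* helpers here

set_option autoImplicit false
open Cfsg

namespace Cfsg.Agent.S0185

/-- If a finite group has a faithful complex representation of degree less than the smallest prime dividing its order, the group is abelian. -/
theorem result {G : Type*} [Group G] [Finite G] {V : Type*} [AddCommGroup V] [Module ℂ V] [FiniteDimensional ℂ V] (ρ : Representation ℂ G V) (hfaithful : Function.Injective ρ) (hdeg : ∀ p : ℕ, p.Prime → p ∣ Nat.card G → Module.finrank ℂ V < p) (a b : G) : a * b = b * a := by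
  classical
  haveI := Fintype.ofFinite G
  haveI := Fintype.ofFinite (Cfsg.IrrCharacter G)
  obtain ⟨m, hm, hm'⟩ := Lib.Characters.IsCharacter.exists_nat_decomp
    (Lib.Characters.isCharacter_of_rep ρ)
  have hlin : ∀ χ : Cfsg.IrrCharacter G, m χ ≠ 0 → (χ : G → ℂ) 1 = 1 := by
    intro χ hχ
    obtain ⟨d, hd, hd1, hd2⟩ := Lib.Characters.IsIrrCharacter.exists_degree_dvd χ.2
    have h1 := congrFun hm 1
    simp only [Finset.sum_apply, Pi.smul_apply, smul_eq_mul, Representation.char_one] at h1
    have hle : d ≤ Module.finrank ℂ V := by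
      choose D hD using fun ψ : Cfsg.IrrCharacter G =>
        Lib.Characters.IsCharacter.exists_apply_one (Lib.Characters.irr_isCharacter ψ)
      have h2 : (Module.finrank ℂ V : ℂ) = ((∑ ψ, m ψ * D ψ : ℕ) : ℂ) := by
        rw [h1]; push_cast; simp only [hD]
      have h3 : Module.finrank ℂ V = ∑ ψ, m ψ * D ψ := by exact_mod_cast h2
      have hdD : d = D χ := by
        have : (d : ℂ) = (D χ : ℂ) := by rw [← hd1, hD]
        exact_mod_cast this
      rw [h3, hdD]
      exact le_trans (Nat.le_mul_of_pos_left _ (Nat.pos_of_ne_zero hχ))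
        (Finset.single_le_sum (f := fun ψ => m ψ * D ψ) (fun _ _ => Nat.zero_le _)
          (Finset.mem_univ χ))
    have : d = 1 := by
      by_contra hne
      obtain ⟨p, hp, hpd⟩ := Nat.exists_prime_and_dvd hne
      have := hdeg p hp (hpd.trans hd2)
      have := Nat.le_of_dvd hd hpd
      omega
    rw [hd1, this, Nat.cast_one]
  have hker : ρ.character (a * b * a⁻¹ * b⁻¹) = ρ.character 1 := by
    rw [hm]
    simp only [Finset.sum_apply, Pi.smul_apply, smul_eq_mul]
    refine Finset.sum_congr rfl fun χ _ => ?_
    by_cases hχ : m χ = 0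
    · simp [hχ]
    · rw [Lib.Characters.IsCharacter.apply_of_mem_commutator (g := a * b * a⁻¹ * b⁻¹)
        (Lib.Characters.irr_isCharacter χ)
        (hlin χ hχ) (Subgroup.commutator_mem_commutator (Subgroup.mem_top a) (Subgroup.mem_top b)),
        hlin χ hχ]
  rw [ρ.char_one, Lib.Characters.char_eq_finrank_iff] at hker
  have h4 := hfaithful (hker.trans (map_one ρ).symm)
  rwa [mul_inv_eq_one, mul_inv_eq_iff_eq_mul] at h4

end Cfsg.Agent.S0185
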