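import Cfsg.Statements.S1479
import Cfsg.Agent.Lib.OddLocal.CNMinimal2

set_option autoImplicit false
open Cfsg

namespace Cfsg.Agent.S1479

/-- Let G be a minimal simple group of odd order in which every non-identity element has nilpotent centralizer, and H a nilpotent subgroup contained in no larger nilpotent subgroup. Then the order of H is coprime to its index, H ∩ gHg⁻¹ = 1 whenever gHg⁻¹ ≠ H, N_G(H) is a maximal subgroup, and N_G(H) has a complement E to H acting on H without non-identity fixed points. Conversely, every maximal subgroup M of G has a normal nilpotent subgroup H, maximal among nilpotent subgroups of G, with a complement in M acting on H without non-identity fixed points. -/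
theorem result {G : Type*} [Group G] [Finite G] (hG : Cfsg.IsMinSimpleOddOrder G) (hCN : Cfsg.IsCNGroup G)  :
    (∀ H : Subgroup G, Group.IsNilpotent H → (∀ L : Subgroup G, Group.IsNilpotent L → H ≤ L → L = H) →
        (Nat.card H).Coprime H.index ∧ (∀ g : G, H.map (MulAut.conj g).toMonoidHom ≠ H → H ⊓ H.map (MulAut.conj g).toMonoidHom = ⊥) ∧
        IsCoatom (Subgroup.normalizer (H : Set G)) ∧
        ∃ E : Subgroup G, Cfsg.IsComplIn H E (Subgroup.normalizer (H : Set G)) ∧ E ≠ ⊥ ∧
          ∀ e ∈ E, e ≠ 1 → H ⊓ Subgroup.centralizer ({e} : Set G) = ⊥) ∧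
      ∀ M : Subgroup G, IsCoatom M → ∃ H E : Subgroup G, Group.IsNilpotent H ∧ (∀ L : Subgroup G, Group.IsNilpotent L → H ≤ L → L = H) ∧
        M ≤ Subgroup.normalizer (H : Set G) ∧ Cfsg.IsComplIn H E M ∧ H ≠ ⊥ ∧ E ≠ ⊥ ∧
        ∀ e ∈ E, e ≠ 1 → H ⊓ Subgroup.centralizer ({e} : Set G) = ⊥ := by
  constructor
  · intro H hH hmax
    obtain ⟨hne, hall⟩ := Lib.OddLocal.maxNilpotent_eq hG hCN hH hmax
    obtain ⟨p, hp, hpd⟩ := Nat.exists_prime_and_dvd (mt Subgroup.card_eq_one.mp hne)
    have := Fact.mk hp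
    obtain ⟨S, hpG, -, hHeq⟩ := hall p hpd
    have hN := Lib.OddLocal.normalizer_maxNilpotent hG hCN hH hmax S hpG hHeq
    refine ⟨Lib.OddLocal.coprime_index_of_maxNilpotent hCN hH hmax,
      Lib.OddLocal.maxNilpotent_ti hG hCN hH hmax,
      hN ▸ Lib.OddLocal.isCoatom_normalizer_sylow hG hCN S hpG, ?_⟩
    obtain ⟨-, -, -, E, hE, hC, hfix⟩ := Lib.OddLocal.normalizer_structure hG hCN S hpG
    rw [hN, hHeq]
    exact ⟨E, hC, hE, hfix⟩
  · intro M hM
    obtain ⟨p, hp, S, hpG, rfl⟩ :=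
      Lib.OddLocal.exists_eq_normalizer_of_coatom hG hCN hM (Lib.OddLocal.ne_bot_of_coatom hG hM)
    obtain ⟨-, -, -, E, hE, hC, hfix⟩ := Lib.OddLocal.normalizer_structure hG hCN S hpG
    obtain ⟨hH, hmax⟩ := Lib.OddLocal.fittingHallOf_maxNilpotent hG hCN S hpG
    exact ⟨_, E, hH, hmax, Lib.OddLocal.le_normalizer_fittingHallOf _, hC,
      (Lib.OddLocal.maxNilpotent_eq hG hCN hH hmax).1, hE, hfix⟩

end Cfsg.Agent.S1479
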