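import Cfsg.Statements.S1484
import Cfsg.Agent.Lib.OddLocal.CNMinimal2

set_option autoImplicit false
open Cfsg

namespace Cfsg.Agent.S1484

universe v

theorem rep_spec {G : Type v} [Group G] [Finite G] (hG : Cfsg.IsMinSimpleOddOrder G)
    (hCN : Cfsg.IsCNGroup G) {M : Subgroup G} (hM : IsCoatom M) :
    Group.IsNilpotent (Cfsg.fittingHallOf M) ∧
      (∀ L : Subgroup G, Group.IsNilpotent L → Cfsg.fittingHallOf M ≤ L →
        L = Cfsg.fittingHallOf M) ∧
      Subgroup.normalizer (Cfsg.fittingHallOf M : Set G) = M := by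
  obtain ⟨p, hp, S, hpG, rfl⟩ :=
    Lib.OddLocal.exists_eq_normalizer_of_coatom hG hCN hM (Lib.OddLocal.ne_bot_of_coatom hG hM)
  obtain ⟨hH, hmax⟩ := Lib.OddLocal.fittingHallOf_maxNilpotent hG hCN S hpG
  exact ⟨hH, hmax, Lib.OddLocal.normalizer_maxNilpotent hG hCN hH hmax S hpG rfl⟩

theorem exists_rep {G : Type v} [Group G] [Finite G] (hG : Cfsg.IsMinSimpleOddOrder G)
    (hCN : Cfsg.IsCNGroup G) {k : ℕ} (Mrep : Fin k → Subgroup G) (hmax : ∀ i, IsCoatom (Mrep i))
    (hall : ∀ M : Subgroup G, IsCoatom M → ∃ i, ∃ g : G, M = (Mrep i).map (MulAut.conj g).toMonoidHom)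
    {H : Subgroup G} (hH : Group.IsNilpotent H ∧ ∀ L : Subgroup G, Group.IsNilpotent L → H ≤ L → L = H) :
    ∃ i, ∃ g : G, H.map (MulAut.conj g).toMonoidHom = Cfsg.fittingHallOf (Mrep i) := by
  obtain ⟨hne, hallp⟩ := Lib.OddLocal.maxNilpotent_eq hG hCN hH.1 hH.2
  obtain ⟨p, hp, hpd⟩ := Nat.exists_prime_and_dvd (mt Subgroup.card_eq_one.mp hne)
  have := Fact.mk hp
  obtain ⟨S, hpG, -, hHeq⟩ := hallp p hpd
  have hN := Lib.OddLocal.normalizer_maxNilpotent hG hCN hH.1 hH.2 S hpG hHeq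
  obtain ⟨i, g, hg⟩ := hall _ (hN ▸ Lib.OddLocal.isCoatom_normalizer_sylow hG hCN S hpG)
  refine ⟨i, g⁻¹, ?_⟩
  have h2 : Subgroup.normalizer (H.map (MulAut.conj g⁻¹).toMonoidHom : Set G) = Mrep i := by
    refine (Subgroup.map_equiv_normalizer_eq _ (MulAut.conj g⁻¹)).symm.trans ?_
    rw [hg]
    ext w
    simp [Subgroup.mem_map, mul_assoc]
  have h3 : Group.IsNilpotent (H.map (MulAut.conj g⁻¹).toMonoidHom) :=
    (have := hH.1; Cfsg.Agent.Lib.Cores.isNilpotent_map _ _)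
  have h4 : ∀ L : Subgroup G, Group.IsNilpotent L → H.map (MulAut.conj g⁻¹).toMonoidHom ≤ L →
      L = H.map (MulAut.conj g⁻¹).toMonoidHom := by
    intro L hL hle
    have h5 : Group.IsNilpotent (L.map (MulAut.conj g).toMonoidHom) :=
      (have := hL; Cfsg.Agent.Lib.Cores.isNilpotent_map _ _)
    have h6 := hH.2 _ h5 fun w hw => ⟨g⁻¹ * w * g, hle ⟨w, hw, by simp⟩, by simp [mul_assoc]⟩
    rw [← h6]
    ext w
    simp [Subgroup.mem_map, mul_assoc]
  obtain ⟨hne', hallp'⟩ := Lib.OddLocal.maxNilpotent_eq hG hCN h3 h4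
  obtain ⟨q, hq, hqd⟩ := Nat.exists_prime_and_dvd (mt Subgroup.card_eq_one.mp hne')
  have := Fact.mk hq
  obtain ⟨T, hqG, -, hTeq⟩ := hallp' q hqd
  have hN' := Lib.OddLocal.normalizer_maxNilpotent hG hCN h3 h4 T hqG hTeq
  rw [← h2, hN']
  exact hTeq


/-- Let G be a minimal simple group of odd order in which every non-identity element has nilpotent centralizer, and M₁, …, M_k maximal subgroups, pairwise non-conjugate, such that every maximal subgroup is conjugate to some M_i. Let H_i be the largest normal nilpotent Hall subgroup of M_i. Then the orders of the H_i are pairwise coprime, their product is the order of G, and every element of G is conjugate to an element of some H_i. -/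
theorem result {G : Type*} [Group G] [Finite G] (hG : Cfsg.IsMinSimpleOddOrder G) (hCN : Cfsg.IsCNGroup G) (k : ℕ) (Mrep : Fin k → Subgroup G) (hmax : ∀ i, IsCoatom (Mrep i))
    (hnc : ∀ i j, i ≠ j → ∀ g : G, Mrep j ≠ (Mrep i).map (MulAut.conj g).toMonoidHom) (hall : ∀ M : Subgroup G, IsCoatom M → ∃ i, ∃ g : G, M = (Mrep i).map (MulAut.conj g).toMonoidHom) :
    (∀ i j, i ≠ j → (Nat.card (Cfsg.fittingHallOf (Mrep i))).Coprime (Nat.card (Cfsg.fittingHallOf (Mrep j)))) ∧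
      ∏ i, Nat.card (Cfsg.fittingHallOf (Mrep i)) = Nat.card G ∧
      ∀ x : G, ∃ i, ∃ g : G, g * x * g⁻¹ ∈ Cfsg.fittingHallOf (Mrep i) := by
  obtain ⟨hMN, hex⟩ : (∀ i, Group.IsNilpotent (Cfsg.fittingHallOf (Mrep i)) ∧
      (∀ L : Subgroup G, Group.IsNilpotent L → Cfsg.fittingHallOf (Mrep i) ≤ L →
        L = Cfsg.fittingHallOf (Mrep i)) ∧
      Subgroup.normalizer (Cfsg.fittingHallOf (Mrep i) : Set G) = Mrep i) ∧ True :=
    ⟨fun i => rep_spec hG hCN (hmax i), trivial⟩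
  refine ⟨fun i j hij => ?_, ?_, fun x => ?_⟩
  · by_contra hc
    obtain ⟨p, hp, d₁, d₂⟩ := Nat.Prime.not_coprime_iff_dvd.mp hc
    have := Fact.mk hp
    obtain ⟨g, hg⟩ := Lib.OddLocal.maxNilpotent_conj_of_dvd hG hCN
      ⟨(hMN i).1, (hMN i).2.1⟩ ⟨(hMN j).1, (hMN j).2.1⟩ d₁ d₂
    refine hnc i j hij g ?_
    conv_lhs => rw [← (hMN j).2.2, hg]
    conv_rhs => rw [← (hMN i).2.2]
    exact (Subgroup.map_equiv_normalizer_eq _ (MulAut.conj g)).symm
  · refine Nat.dvd_antisymm (Fintype.prod_dvd_of_isRelPrime ?_ fun i => Subgroup.card_subgroup_dvd_card _) ?_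
    · intro i j hij
      refine Nat.coprime_iff_isRelPrime.mp ?_
      by_contra hc
      obtain ⟨p, hp, d₁, d₂⟩ := Nat.Prime.not_coprime_iff_dvd.mp hc
      have := Fact.mk hp
      obtain ⟨g, hg⟩ := Lib.OddLocal.maxNilpotent_conj_of_dvd hG hCN
        ⟨(hMN i).1, (hMN i).2.1⟩ ⟨(hMN j).1, (hMN j).2.1⟩ d₁ d₂
      refine hnc i j hij g ?_
      conv_lhs => rw [← (hMN j).2.2, hg]
      conv_rhs => rw [← (hMN i).2.2]
      exact (Subgroup.map_equiv_normalizer_eq _ (MulAut.conj g)).symm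
    · refine (Nat.factorization_le_iff_dvd Nat.card_pos.ne'
        (Finset.prod_ne_zero_iff.mpr fun i _ => Nat.card_pos.ne')).mp fun p => ?_
      by_cases hpG : p.Prime ∧ p ∣ Nat.card G
      · have := Fact.mk hpG.1
        obtain ⟨S⟩ : Nonempty (Sylow p G) := inferInstance
        obtain ⟨i, g, hi⟩ := exists_rep hG hCN Mrep hmax hall
          (Lib.OddLocal.fittingHallOf_maxNilpotent hG hCN S hpG.2)
        have hS := (Lib.OddLocal.normalizer_structure hG hCN S hpG.2).2.1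
        refine (hpG.1.pow_dvd_iff_le_factorization
          (Finset.prod_ne_zero_iff.mpr fun i _ => Nat.card_pos.ne')).mp ?_
        rw [← S.card_eq_multiplicity]
        refine ((Subgroup.card_dvd_of_le hS).trans (dvd_of_eq ?_)).trans
          (Finset.dvd_prod_of_mem _ (Finset.mem_univ i))
        rw [← hi]
        exact Nat.card_congr (Subgroup.equivMapOfInjective _ _ (MulAut.conj g).injective).toEquiv
      · rw [not_and] at hpG
        by_cases hp : p.Prime
        · rw [Nat.factorization_eq_zero_of_not_dvd (hpG hp)]; exact Nat.zero_le _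
        · rw [Nat.factorization_eq_zero_of_not_prime _ hp]; exact Nat.zero_le _
  · obtain ⟨H, hle, hH⟩ := Lib.OddLocal.exists_maxNilpotent_ge hG hCN
      (Cfsg.Agent.Lib.Cores.isNilpotent_of_isMulCommutative (Subgroup.zpowers x))
    obtain ⟨i, g, hi⟩ := exists_rep hG hCN Mrep hmax hall hH
    exact ⟨i, g, hi ▸ ⟨x, hle (Subgroup.mem_zpowers x), rfl⟩⟩

end Cfsg.Agent.S1484
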