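import Cfsg.Statements.S0188
import Cfsg.Agent.Lib.Characters.Kernel
-- import your own Cfsg.Agent.* helpers here

set_option autoImplicit false
open Cfsg
open scoped ComplexConjugate

namespace Cfsg.Agent.S0188

/-- The irreducible complex characters of G × H are precisely the functions (g, h) ↦ φ g * ψ h with φ, ψ irreducible characters of G and H. -/
theorem result {G : Type*} [Group G] [Finite G] {H : Type*} [Group H] [Finite H] (θ : G × H → ℂ) : Cfsg.IsIrrCharacter (G × H) θ ↔ ∃ (φ : G → ℂ) (ψ : H → ℂ), Cfsg.IsIrrCharacter G φ ∧ Cfsg.IsIrrCharacter H ψ ∧ θ = fun x => φ x.1 * ψ x.2 := by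
  classical
  haveI := Fintype.ofFinite G
  haveI := Fintype.ofFinite H
  have hprod : ∀ {φ φ' : G → ℂ} {ψ ψ' : H → ℂ},
      Cfsg.classInner (fun x : G × H => φ x.1 * ψ x.2) (fun x : G × H => φ' x.1 * ψ' x.2) =
        Cfsg.classInner φ φ' * Cfsg.classInner ψ ψ' := by
    intro φ φ' ψ ψ'
    simp only [Cfsg.classInner, Fintype.sum_prod_type, Nat.card_prod, map_mul, Nat.cast_mul,
      mul_inv, Finset.mul_sum, Finset.sum_mul]
    conv_rhs => rw [Finset.sum_comm]
    exact Finset.sum_congr rfl fun a _ => Finset.sum_congr rfl fun b _ => by ring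
  have hirr : ∀ (φ : Cfsg.IrrCharacter G) (ψ : Cfsg.IrrCharacter H),
      Cfsg.IsIrrCharacter (G × H) (fun x => (φ : G → ℂ) x.1 * (ψ : H → ℂ) x.2) := by
    intro φ ψ
    have hc : Cfsg.IsCharacter (G × H) (fun x => (φ : G → ℂ) x.1 * (ψ : H → ℂ) x.2) :=
      Lib.Characters.IsCharacter.mul
        (Lib.Characters.IsCharacter.comp (Lib.Characters.irr_isCharacter φ) (MonoidHom.fst G H))
        (Lib.Characters.IsCharacter.comp (Lib.Characters.irr_isCharacter ψ) (MonoidHom.snd G H))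
    rw [Lib.Characters.IsCharacter.isIrr_iff hc, hprod, Lib.Characters.classInner_irr,
      Lib.Characters.classInner_irr, if_pos rfl, if_pos rfl, mul_one]
  let f : Cfsg.IrrCharacter G × Cfsg.IrrCharacter H → Cfsg.IrrCharacter (G × H) :=
    fun q => ⟨_, hirr q.1 q.2⟩
  have hinj : Function.Injective f := by
    rintro ⟨a, b⟩ ⟨c, d⟩ h
    have h1 := congrArg (fun χ : Cfsg.IrrCharacter (G × H) =>
      Cfsg.classInner (χ : G × H → ℂ) (fun x => (c : G → ℂ) x.1 * (d : H → ℂ) x.2)) h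
    simp only [f, hprod, Lib.Characters.classInner_irr, if_pos] at h1
    by_cases hac : a = c <;> by_cases hbd : b = d <;> simp_all
  have hcard : Nat.card (Cfsg.IrrCharacter (G × H)) =
      Nat.card (Cfsg.IrrCharacter G × Cfsg.IrrCharacter H) := by
    rw [Nat.card_prod, Lib.Characters.card_irrCharacter, Lib.Characters.card_irrCharacter,
      Lib.Characters.card_irrCharacter, ← Nat.card_prod]
    have hconj : ∀ p q : G × H, IsConj p q ↔ IsConj p.1 q.1 ∧ IsConj p.2 q.2 := by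
      intro p q
      simp only [isConj_iff]
      exact ⟨fun ⟨c, hc⟩ => ⟨⟨c.1, congrArg Prod.fst hc⟩, ⟨c.2, congrArg Prod.snd hc⟩⟩,
        fun ⟨⟨c, hc⟩, ⟨d, hd⟩⟩ => ⟨(c, d), Prod.ext hc hd⟩⟩
    let g : ConjClasses (G × H) → ConjClasses G × ConjClasses H := fun C =>
      (C.map (MonoidHom.fst G H), C.map (MonoidHom.snd G H))
    refine Nat.card_eq_of_bijective g ⟨?_, ?_⟩
    · intro C D h
      obtain ⟨p, rfl⟩ := ConjClasses.mk_surjective C
      obtain ⟨q, rfl⟩ := ConjClasses.mk_surjective D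
      exact ConjClasses.mk_eq_mk_iff_isConj.mpr ((hconj p q).mpr
        ⟨ConjClasses.mk_eq_mk_iff_isConj.mp (congrArg Prod.fst h),
          ConjClasses.mk_eq_mk_iff_isConj.mp (congrArg Prod.snd h)⟩)
    · rintro ⟨C, D⟩
      obtain ⟨a, rfl⟩ := ConjClasses.mk_surjective C
      obtain ⟨b, rfl⟩ := ConjClasses.mk_surjective D
      exact ⟨ConjClasses.mk (a, b), rfl⟩
  have hbij : Function.Bijective f := (Nat.bijective_iff_injective_and_card f).mpr ⟨hinj, hcard.symm⟩
  constructor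
  · intro hθ
    obtain ⟨⟨φ, ψ⟩, hq⟩ := hbij.2 ⟨θ, hθ⟩
    exact ⟨φ, ψ, φ.2, ψ.2, (congrArg Subtype.val hq).symm⟩
  · rintro ⟨φ, ψ, hφ, hψ, rfl⟩
    exact hirr ⟨φ, hφ⟩ ⟨ψ, hψ⟩

end Cfsg.Agent.S0188
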