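import Cfsg.Statements.S0497
import Cfsg.Agent.Lib.Classification.A6Recognition

set_option autoImplicit false
open Cfsg

namespace Cfsg.Agent.S0497

/-- A simple group of order 360 is isomorphic to the alternating group of degree 6. -/
theorem result {G : Type*} [Group G] [Finite G] [IsSimpleGroup G]
    (h : Nat.card G = 360) : Nonempty (G ≃* alternatingGroup (Fin 6)) := by
  obtain ⟨f, hf, hfr⟩ := Cfsg.Agent.Lib.Classification.A6.exists_embedding h
  haveI : IsSimpleGroup (alternatingGroup (Fin 6)) := alternatingGroup.isSimpleGroup (by simp)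
  have hA : Nat.card (alternatingGroup (Fin 6)) = 360 := by
    have := two_mul_card_alternatingGroup (α := Fin 6)
    rw [Fintype.card_perm, Fintype.card_fin] at this
    rw [← Nat.card_eq_fintype_card] at this
    rw [show Nat.factorial 6 = 720 from rfl] at this
    omega
  obtain ⟨f', hf', hfr'⟩ := Cfsg.Agent.Lib.Classification.A6.exists_embedding hA
  exact ⟨(MonoidHom.ofInjective hf).trans
    ((MulEquiv.subgroupCongr (hfr.trans hfr'.symm)).trans (MonoidHom.ofInjective hf').symm)⟩

end Cfsg.Agent.S0497
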