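import Cfsg.Statements.S3341
import Cfsg.Agent.Lib.ThreeNine.FpfMain
import Cfsg.Agent.S0497

set_option autoImplicit false
open Cfsg

namespace Cfsg.Agent.S3341

open Cfsg.Agent.Lib.ThreeNine

theorem not_normal {G : Type*} [Group G] [Finite G] [IsSimpleGroup G] {T : Sylow 3 G} (h : Fpf T)
    {a b : G} (ha : orderOf a = 3) (hab : ∀ g : G, g * a * g⁻¹ ≠ b) :
    ¬ (T : Subgroup G).Normal := by
  intro hn
  rcases hn.eq_bot_or_eq_top with e | e
  · have := h.card
    rw [show Nat.card ↥(T : Subgroup G) = 1 by rw [e]; exact Subgroup.card_bot] at this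
    omega
  · have hab' : ∀ u v : G, u * v = v * u := fun u v =>
      h.comm u (e ▸ Subgroup.mem_top u) v (e ▸ Subgroup.mem_top v)
    have hz : (Subgroup.zpowers a).Normal :=
      ⟨fun n hn' g => by rw [hab' g n, mul_inv_cancel_right]; exact hn'⟩
    rcases hz.eq_bot_or_eq_top with e' | e'
    · rw [Subgroup.zpowers_eq_bot.mp e', orderOf_one] at ha
      omega
    · have := congrArg (fun H : Subgroup G => Nat.card H) (e'.trans e.symm)
      simp only [Nat.card_zpowers, ha] at this
      rw [show Nat.card ↥(T : Subgroup G) = 9 from h.card] at this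
      omega

theorem card_eq {G : Type*} [Group G] [Finite G] [IsSimpleGroup G] {T : Sylow 3 G} (h : Fpf T)
    {a b : G} (ha : orderOf a = 3) (hb : orderOf b = 3) (hab : ∀ g : G, g * a * g⁻¹ ≠ b) :
    Nat.card G = 360 := by
  classical
  have hne := not_normal h ha hab
  set N := Subgroup.normalizer ((T : Subgroup G) : Set G)
  set m := ((T : Subgroup G).subgroupOf N).index with hm
  have hg : Nat.card G = 9 * m * N.index := by
    rw [hm, ← h.card_normalizer, Subgroup.card_mul_index]
  have hn9 : N.index % 9 = 1 := h.toLoc.index_mod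
  -- at most four elements per class
  have hm4 : m ≤ 4 := by
    have hconj : ∀ u : G, orderOf u = 3 → ∃ u' ∈ (T : Subgroup G), IsConj u u' ∧ u' ≠ 1 := by
      intro u hu
      obtain ⟨g, hg'⟩ := h.toLoc.exists_conj_le (P := Subgroup.zpowers u)
        (IsPGroup.of_card_dvd_pow (n := 1) (by rw [Nat.card_zpowers, hu, pow_one]))
      refine ⟨_, hg' u (Subgroup.mem_zpowers u), isConj_iff.mpr ⟨g, rfl⟩, fun e => ?_⟩
      rw [conj_eq_one_iff.mp e, orderOf_one] at hu
      omega
    obtain ⟨u, hu, hau, hu1⟩ := hconj a ha
    obtain ⟨w, hw, hbw, hw1⟩ := hconj b hb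
    have hnot : ¬ IsConj u w := fun e => by
      obtain ⟨g, hg'⟩ := isConj_iff.mp (hau.trans (e.trans hbw.symm))
      exact hab g hg'
    haveI := Fintype.ofFinite ↥(T : Subgroup G)
    have h1 := h.card_class hu hu1
    have h2 := h.card_class hw hw1
    rw [Nat.card_eq_fintype_card, Fintype.card_subtype] at h1 h2
    set A := Finset.univ.filter fun v : ↥(T : Subgroup G) => IsConj u (v : G)
    set B := Finset.univ.filter fun v : ↥(T : Subgroup G) => IsConj w (v : G)
    have hd : Disjoint A B := Finset.disjoint_left.mpr fun v hv hv' =>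
      hnot ((Finset.mem_filter.mp hv).2.trans (Finset.mem_filter.mp hv').2.symm)
    have hsub : A ∪ B ⊆ Finset.univ.erase 1 := fun v hv => by
      refine Finset.mem_erase.mpr ⟨fun e => ?_, Finset.mem_univ _⟩
      rcases Finset.mem_union.mp hv with hv | hv <;>
        have h3 := (Finset.mem_filter.mp hv).2 <;> rw [e, OneMemClass.coe_one] at h3
      · exact hu1 (isConj_one_left.mp h3)
      · exact hw1 (isConj_one_left.mp h3)
    have h3 := Finset.card_le_card hsub
    rw [Finset.card_union_of_disjoint hd, Finset.card_erase_of_mem (Finset.mem_univ _),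
      Finset.card_univ, ← Nat.card_eq_fintype_card, show Nat.card ↥(T : Subgroup G) = 9 from h.card,
      h1, h2, ← hm] at h3
    omega
  have hm3 : ¬ 3 ∣ m := by
    haveI : Fact (Nat.Prime 3) := ⟨Nat.prime_three⟩
    intro h3
    have h27 : 3 ^ 3 ∣ Nat.card G := by
      obtain ⟨k, hk⟩ := h3
      exact ⟨k * N.index, by rw [hg, hk]; ring⟩
    have h4 := T.pow_dvd_card_of_pow_dvd_card h27
    rw [show Nat.card ↥(T : Subgroup G) = 9 from h.card] at h4
    norm_num at h4
  have hm0 : m ≠ 0 := Subgroup.index_ne_zero_of_finite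
  have hm1 : m ≠ 1 := by
    intro e
    have hNT : N ≤ (T : Subgroup G) := fun n hn => by
      have := Subgroup.index_eq_one.mp (hm.symm.trans e)
      exact Subgroup.mem_subgroupOf.mp (this.symm ▸ Subgroup.mem_top (⟨n, hn⟩ : ↥N))
    have hP : N ≤ Subgroup.centralizer ((T : Subgroup G) : Set G) := fun n hn u hu =>
      h.comm u hu n (hNT hn)
    haveI : Fact (Nat.Prime 3) := ⟨Nat.prime_three⟩
    have hc := MonoidHom.ker_transferSylow_isComplement' T hP
    have hK : (MonoidHom.transferSylow T hP).ker.Normal := MonoidHom.normal_ker _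
    rcases hK.eq_bot_or_eq_top with e' | e'
    · rw [e'] at hc
      exact hne ((Subgroup.isComplement'_bot_left.mp hc).symm ▸ inferInstance)
    · have := hc.card_mul
      rw [e', Subgroup.card_top, show Nat.card ↥(T : Subgroup G) = 9 from h.card] at this
      have h0 : 0 < Nat.card G := Nat.card_pos
      omega
  have hn1 : N.index ≠ 1 := fun e => hne (Subgroup.normalizer_eq_top_iff.mp (Subgroup.index_eq_one.mp e))
  have hcases : m = 2 ∨ m = 4 := by
    interval_cases m <;> omega
  rcases hcases with e | e
  · have := h.card_le_of_two e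
    rw [hg, e] at this
    omega
  · have := h.card_le_of_four e
    rw [hg, e] at this
    rw [hg, e]
    have h19 : N.index ≠ 19 := by
      intro e19
      haveI : Fact (Nat.Prime 19) := ⟨by norm_num⟩
      obtain ⟨Q⟩ : Nonempty (Sylow 19 G) := inferInstance
      have hG : Nat.card G = 684 := by rw [hg, e, e19]
      have hQ : Nat.card (Q : Subgroup G) = 19 := by
        rw [Q.card_eq_multiplicity, hG]
        have : Nat.factorization 684 19 = 1 := by
          rw [show (684 : ℕ) = 36 * 19 from rfl, Nat.factorization_mul (by norm_num) (by norm_num)]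
          simp [Nat.factorization_eq_zero_of_not_dvd (show ¬ 19 ∣ 36 by decide),
            Nat.Prime.factorization_self (show Nat.Prime 19 by norm_num)]
        rw [this, pow_one]
      have hidx : (Q : Subgroup G).index = 36 := by
        have := Subgroup.card_mul_index (Q : Subgroup G)
        rw [hQ, hG] at this
        omega
      have hd := hidx ▸ Sylow.card_dvd_index Q
      have hmod : Nat.card (Sylow 19 G) % 19 = 1 := by
        have := card_sylow_modEq_one 19 G
        exact this
      have hle := Nat.le_of_dvd (by norm_num) hd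
      have h1 : Nat.card (Sylow 19 G) = 1 := by
        rcases (show Nat.card (Sylow 19 G) = 1 ∨ Nat.card (Sylow 19 G) = 20 by omega) with h1 | h1
        · exact h1
        · rw [h1] at hd
          norm_num at hd
      haveI : Subsingleton (Sylow 19 G) := (Nat.card_eq_one_iff_unique.mp h1).1
      haveI hQn : (Q : Subgroup G).Normal := Q.normal_of_subsingleton
      rcases hQn.eq_bot_or_eq_top with e' | e'
      · rw [e', Subgroup.card_bot] at hQ
        omega
      · rw [e', Subgroup.card_top, hG] at hQ
        omega
    omega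

/-- Let G be a finite simple group whose Sylow 3-subgroup S is elementary abelian of order 9, such that G has more than one conjugacy class of elements of order 3 and C_G(s) = S for every non-identity s in S. Then G is isomorphic to the alternating group of degree 6. -/
theorem result {G : Type*} [Group G] [Finite G] [IsSimpleGroup G]
    (P : Sylow 3 G) (S : Subgroup G) (hSP : S = P) (hcomm : IsMulCommutative S) (hexp : ∀ a ∈ S, a ^ 3 = 1)
    (hcard : Nat.card S = 9)
    (hclasses : ∃ a b : G, orderOf a = 3 ∧ orderOf b = 3 ∧ ∀ g : G, g * a * g⁻¹ ≠ b)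
    (hcent : ∀ s ∈ S, s ≠ 1 → Subgroup.centralizer ({s} : Set G) = S) :
    Nonempty (G ≃* alternatingGroup (Fin 6)) := by
  subst hSP
  obtain ⟨a, b, ha, hb, hab⟩ := hclasses
  have hT : Fpf P := ⟨⟨fun u hu v hv => congrArg Subtype.val
      (mul_comm' (⟨u, hu⟩ : ↥(P : Subgroup G)) ⟨v, hv⟩), hexp, hcard,
      fun t ht ht1 => (hcent t ht ht1).le.trans Subgroup.le_normalizer⟩, hcent⟩
  exact Cfsg.Agent.S0497.result (card_eq hT ha hb hab)

end Cfsg.Agent.S3341
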