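import Cfsg.Statements.S3805
import Cfsg.Agent.Lib.ThreeNine.Values
import Cfsg.Agent.Lib.ThreeNine.Numeric
-- import your own Cfsg.Agent.* helpers here

set_option autoImplicit false
open Cfsg

namespace Cfsg.Agent.S3805

open Cfsg.Agent.Lib.ThreeNine Cfsg.Agent.Lib.Characters

/-- The number of pairs in coordinates. -/
def cnt (a b w : ZMod 3 × ZMod 3) : ℕ :=
  (Finset.univ.filter (fun z => ty z = ty a ∧ ty (w - z) = ty b)).card

theorem main {G : Type*} [Group G] [Finite G] {T : Sylow 3 G} (h : Hyp T) :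
    Subgroup.normalizer ((T : Subgroup G) : Set G) = ⊤ := by
  classical
  haveI := Fintype.ofFinite G
  haveI := Fintype.ofFinite (IrrCharacter G)
  obtain ⟨x, y, c⟩ := h.exists_coords
  set n := (Subgroup.normalizer ((T : Subgroup G) : Set G)).index with hn
  have hN : Nat.card (Subgroup.normalizer ((T : Subgroup G) : Set G)) = 36 := by
    rw [← Subgroup.card_mul_index
      ((T : Subgroup G).subgroupOf (Subgroup.normalizer ((T : Subgroup G) : Set G))), h.index,
      Nat.card_congr (Subgroup.subgroupOfEquivOfLe (Subgroup.le_normalizer)).toEquiv,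
      show Nat.card ↥(T : Subgroup G) = 9 from h.card]
  have hg : Nat.card G = 36 * n := by rw [hn, ← hN, Subgroup.card_mul_index]
  have hn9 := h.index_mod
  rw [← hn] at hn9
  obtain ⟨hcX, hcY, hcZ⟩ := c.card_centralizer h
  obtain ⟨vX, hX⟩ : ∃ v, v = ((1, 0) : ZMod 3 × ZMod 3) := ⟨_, rfl⟩
  obtain ⟨vY, hY⟩ : ∃ v, v = ((0, 1) : ZMod 3 × ZMod 3) := ⟨_, rfl⟩
  obtain ⟨vZ, hZ⟩ : ∃ v, v = ((1, 1) : ZMod 3 × ZMod 3) := ⟨_, rfl⟩
  rw [← hX] at hcX
  rw [← hY] at hcY
  rw [← hZ] at hcZ
  have hreal : ∀ z, IsConj (el x y z) (el x y z)⁻¹ := fun z => by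
    rw [c.el_inv h]
    exact (c.isConj_iff_ty h _ _).mpr
      ((by decide : ∀ z : ZMod 3 × ZMod 3, ty z = ty (-z)) z)
  choose d hd0 hd _ using fun χ : IrrCharacter G => IsIrrCharacter.exists_degree_dvd χ.2
  choose v hv hvd using fun (χ : IrrCharacter G) (z : ZMod 3 × ZMod 3) =>
    exists_int_value (irr_isCharacter χ) (h.cube _ (c.el_mem z)) (hreal z) (hd χ)
  have hconjv : ∀ (χ : IrrCharacter G) z, (starRingEnd ℂ) ((χ : G → ℂ) (el x y z)) = (v χ z : ℂ) := fun χ z => by
    rw [hv, map_intCast]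
  have horth : ∀ z z', ∑ χ : IrrCharacter G, v χ z * v χ z' =
      if ty z = ty z' then (Nat.card (Subgroup.centralizer ({el x y z} : Set G)) : ℤ) else 0 := by
    intro z z'
    have h1 := sum_irr_mul_conj (el x y z) (el x y z')
    have h2 : ∀ χ : IrrCharacter G, (χ : G → ℂ) (el x y z) * (starRingEnd ℂ) ((χ : G → ℂ) (el x y z')) =
        ((v χ z * v χ z' : ℤ) : ℂ) := fun χ => by
      rw [hconjv, hv]; push_cast; rfl
    rw [Finset.sum_congr rfl fun χ _ => h2 χ] at h1
    by_cases he : ty z = ty z'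
    · rw [if_pos ((c.isConj_iff_ty h z z').mpr he)] at h1
      rw [if_pos he]
      exact_mod_cast h1
    · rw [if_neg (fun hc => he ((c.isConj_iff_ty h z z').mp hc))] at h1
      rw [if_neg he]
      exact_mod_cast h1
  have hgq : (Nat.card G : ℚ) ≠ 0 := by exact_mod_cast Nat.card_pos.ne'
  have hconst : ∀ a b w, w ≠ 0 → ¬ (ty a = ty b ∧ ty a = ty w) →
      ∑ χ : IrrCharacter G, ((v χ a * v χ b * v χ w : ℤ) : ℚ) / (d χ : ℚ) =
        ((cnt a b w * Nat.card (Subgroup.centralizer ({el x y a} : Set G)) *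
          Nat.card (Subgroup.centralizer ({el x y b} : Set G)) : ℕ) : ℚ) / (Nat.card G : ℚ) := by
    intro a b w hw hne
    have h1 := card_class_mul (el x y a) (el x y b) (el x y w)
    rw [c.card_pairs h a b w hw hne] at h1
    have h2 : ∀ χ : IrrCharacter G, (χ : G → ℂ) (el x y a) * (χ : G → ℂ) (el x y b) *
        (starRingEnd ℂ) ((χ : G → ℂ) (el x y w)) / (χ : G → ℂ) 1 =
        ((((v χ a * v χ b * v χ w : ℤ) : ℚ) / (d χ : ℚ) : ℚ) : ℂ) := fun χ => by
      rw [hconjv, hv, hv, hd]; push_cast; rfl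
    rw [Finset.sum_congr rfl fun χ _ => h2 χ] at h1
    have ha := card_conj_mul_card_centralizer (el x y a)
    have hb := card_conj_mul_card_centralizer (el x y b)
    have h3 : (cnt a b w : ℚ) = (Nat.card {u : G // IsConj (el x y a) u} : ℚ) *
        (Nat.card {u : G // IsConj (el x y b) u} : ℚ) / (Nat.card G : ℚ) *
        ∑ χ : IrrCharacter G, ((v χ a * v χ b * v χ w : ℤ) : ℚ) / (d χ : ℚ) := by
      have : ((cnt a b w : ℚ) : ℂ) = (((Nat.card {u : G // IsConj (el x y a) u} : ℚ) *
        (Nat.card {u : G // IsConj (el x y b) u} : ℚ) / (Nat.card G : ℚ) *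
        ∑ χ : IrrCharacter G, ((v χ a * v χ b * v χ w : ℤ) : ℚ) / (d χ : ℚ) : ℚ) : ℂ) := by
        push_cast
        push_cast at h1
        exact h1
      exact_mod_cast this
    set Sg := ∑ χ : IrrCharacter G, ((v χ a * v χ b * v χ w : ℤ) : ℚ) / (d χ : ℚ)
    have ha' : (Nat.card {u : G // IsConj (el x y a) u} : ℚ) *
        Nat.card (Subgroup.centralizer ({el x y a} : Set G)) = Nat.card G := by exact_mod_cast ha
    have hb' : (Nat.card {u : G // IsConj (el x y b) u} : ℚ) *
        Nat.card (Subgroup.centralizer ({el x y b} : Set G)) = Nat.card G := by exact_mod_cast hb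
    rw [eq_div_iff hgq]
    push_cast
    rw [h3]
    field_simp
    linear_combination (-(Sg * (Nat.card G : ℚ))) * ha' -
      Sg * (Nat.card {u : G // IsConj (el x y a) u} : ℚ) *
        (Nat.card (Subgroup.centralizer ({el x y a} : Set G)) : ℚ) * hb'
  have k1 := hconst vX vX vZ (by subst hZ; decide) (by subst hX hZ; decide)
  have k2 := hconst vY vY vZ (by subst hZ; decide) (by subst hY hZ; decide)
  have k3 := hconst vZ vZ vX (by subst hX; decide) (by subst hX hZ; decide)
  have k4 := hconst vZ vZ vY (by subst hY; decide) (by subst hY hZ; decide)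
  have k5 := hconst vX vX vY (by subst hY; decide) (by subst hX hY; decide)
  have k6 := hconst vY vY vX (by subst hX; decide) (by subst hX hY; decide)
  have k7 := hconst vX vY vZ (by subst hZ; decide) (by subst hX hY hZ; decide)
  rw [show cnt vX vX vZ = 0 by subst hX hZ; decide] at k1
  rw [show cnt vY vY vZ = 0 by subst hY hZ; decide] at k2
  rw [show cnt vZ vZ vX = 2 by subst hX hZ; decide, hcZ] at k3
  rw [show cnt vZ vZ vY = 2 by subst hY hZ; decide, hcZ] at k4
  rw [show cnt vX vX vY = 0 by subst hX hY; decide] at k5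
  rw [show cnt vY vY vX = 0 by subst hX hY; decide] at k6
  rw [show cnt vX vY vZ = 1 by subst hX hY hZ; decide, hcX, hcY] at k7
  norm_num at k1 k2 k3 k4 k5 k6 k7
  have hone : ∀ z, v (trivIrr G) z = 1 := fun z => by
    have := hv (trivIrr G) z
    rw [trivIrr_apply] at this
    exact_mod_cast this.symm
  have hsq : ∀ χ : IrrCharacter G, (d χ : ℤ) * d χ ≤ (Nat.card G : ℤ) := by
    intro χ
    have h1 := sum_degree_sq (G := G)
    have h2 : ∑ χ : IrrCharacter G, d χ ^ 2 = Nat.card G := by
      have h3 : ((∑ χ : IrrCharacter G, d χ ^ 2 : ℕ) : ℂ) = (Nat.card G : ℂ) := by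
        push_cast
        rw [← h1]
        exact Finset.sum_congr rfl fun χ _ => by rw [hd]
      exact_mod_cast h3
    have h4 := Finset.single_le_sum (f := fun χ : IrrCharacter G => d χ ^ 2)
      (fun _ _ => Nat.zero_le _) (Finset.mem_univ χ)
    rw [h2, sq] at h4
    exact_mod_cast h4
  have hres := index_eq_one (trivIrr G) (fun χ => v χ vX) (fun χ => v χ vY) (fun χ => v χ vZ)
    (fun χ => (d χ : ℤ)) (Nat.card G : ℤ) (n : ℤ) (by exact_mod_cast hg)
    (by
      have : 0 < n := by omega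
      exact_mod_cast this)
    (by omega) (fun χ => by exact_mod_cast hd0 χ) hsq (hone _) (hone _) (hone _)
    (by rw [horth, if_pos rfl, hcX]; rfl) (by rw [horth, if_pos rfl, hcY]; rfl)
    (by rw [horth, if_pos rfl, hcZ]; rfl)
    (by rw [horth, if_neg (by subst hX hY; decide)])
    (by rw [horth, if_neg (by subst hX hZ; decide)])
    (by rw [horth, if_neg (by subst hY hZ; decide)])
    (fun χ => by have := dvd_sub (hvd χ vX) (hvd χ vZ); simpa using this)
    (fun χ => by have := dvd_sub (hvd χ vY) (hvd χ vZ); simpa using this)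
    (by
      have e : ∀ χ : IrrCharacter G, (comb1 (v χ vX) (v χ vY) (v χ vZ) : ℚ) / ((d χ : ℤ) : ℚ) =
          (v χ vX : ℚ) * v χ vX * v χ vZ / d χ + (v χ vY : ℚ) * v χ vY * v χ vZ / d χ
          - (v χ vZ : ℚ) * v χ vZ * v χ vX / d χ - (v χ vZ : ℚ) * v χ vZ * v χ vY / d χ
          + 2 * ((v χ vX : ℚ) * v χ vY * v χ vZ / d χ)
          - (v χ vX : ℚ) * v χ vX * v χ vY / d χ - (v χ vY : ℚ) * v χ vY * v χ vX / d χ := by
        intro χ; simp only [comb1]; push_cast; ring
      rw [Finset.sum_congr rfl fun χ _ => e χ]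
      simp only [Finset.sum_add_distrib, Finset.sum_sub_distrib, ← Finset.mul_sum, k1, k2, k3, k4,
        k5, k6, k7]
      simp only [Nat.card_eq_fintype_card]
      push_cast
      ring)
    (by
      have e : ∀ χ : IrrCharacter G, (comb2 (v χ vX) (v χ vY) (v χ vZ) : ℚ) / ((d χ : ℤ) : ℚ) =
          (v χ vX : ℚ) * v χ vX * v χ vZ / d χ + (v χ vY : ℚ) * v χ vY * v χ vZ / d χ
          + (v χ vZ : ℚ) * v χ vZ * v χ vX / d χ + (v χ vZ : ℚ) * v χ vZ * v χ vY / d χ
          - 2 * ((v χ vX : ℚ) * v χ vX * v χ vY / d χ)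
          - 2 * ((v χ vY : ℚ) * v χ vY * v χ vX / d χ) := by
        intro χ; simp only [comb2]; push_cast; ring
      rw [Finset.sum_congr rfl fun χ _ => e χ]
      simp only [Finset.sum_add_distrib, Finset.sum_sub_distrib, ← Finset.mul_sum, k1, k2, k3, k4,
        k5, k6]
      simp only [Nat.card_eq_fintype_card]
      push_cast
      ring)
  exact Subgroup.index_eq_one.mp (by rw [← hn]; exact_mod_cast hres)

/-- Let G be a finite group whose Sylow 3-subgroup T is elementary abelian of order 9 and self-centralizing, with N_G(T)/T a Klein four-group, and suppose that the centralizer of every nonidentity element of T lies in N_G(T). Then T is normal in G. -/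
theorem result {G : Type*} [Group G] [Finite G]
    (T : Sylow 3 G) (hT : Cfsg.IsElementaryAbelian 3 (T : Subgroup G)) (hcard : Nat.card T = 9)
    (hC : Subgroup.centralizer ((T : Subgroup G) : Set G) = T)
    [hn : ((T : Subgroup G).subgroupOf (Subgroup.normalizer ((T : Subgroup G) : Set G))).Normal]
    (hK : IsKleinFour (↥(Subgroup.normalizer ((T : Subgroup G) : Set G)) ⧸
      (T : Subgroup G).subgroupOf (Subgroup.normalizer ((T : Subgroup G) : Set G))))
    (hloc : ∀ t ∈ (T : Subgroup G), t ≠ 1 →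
      Subgroup.centralizer ({t} : Set G) ≤ Subgroup.normalizer ((T : Subgroup G) : Set G)) :
    Subgroup.normalizer ((T : Subgroup G) : Set G) = ⊤ := by
  haveI := hT.1
  refine main ⟨⟨fun a ha b hb => congrArg Subtype.val
      (mul_comm' (⟨a, ha⟩ : ↥(T : Subgroup G)) ⟨b, hb⟩), hT.2, hcard, hloc⟩, hC, fun n hn' => ?_, ?_⟩
  · have h1 := Monoid.pow_exponent_eq_one
      ((⟨n, hn'⟩ : ↥(Subgroup.normalizer ((T : Subgroup G) : Set G))) :
        ↥(Subgroup.normalizer ((T : Subgroup G) : Set G)) ⧸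
          (T : Subgroup G).subgroupOf (Subgroup.normalizer ((T : Subgroup G) : Set G)))
    rw [hK.exponent_two, ← QuotientGroup.mk_pow, QuotientGroup.eq_one_iff, Subgroup.mem_subgroupOf,
      sq] at h1
    simpa using h1
  · rw [Subgroup.index_eq_card]
    exact hK.card_four

end Cfsg.Agent.S3805
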