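import Cfsg.Statements.S4176
import Mathlib.RepresentationTheory.Invariants
import Mathlib.GroupTheory.Sylow
import Mathlib.Tactic

set_option autoImplicit false
open Cfsg

namespace Cfsg.Agent.S4176

variable {B : Type*} [Group B] [Finite B] {k V : Type*} [Field k] [AddCommGroup V] [Module k V]

/-- Subgroups of `p`-soluble groups are `p`-soluble. -/
theorem isPSolvable_subgroup {p : ℕ} [hp : Fact p.Prime] (h : Cfsg.IsPSolvable p B) (K : Subgroup B) :
    Cfsg.IsPSolvable p K := by
  obtain ⟨n, M, h0, hl, hmono, hn, hf⟩ := h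
  refine ⟨n, fun i => (M i).subgroupOf K, by simp [h0], by simp [hl],
    fun i j hij => Subgroup.comap_mono (hmono hij), fun i => (hn i).subgroupOf K, fun i => ?_⟩
  haveI := hn i.castSucc
  have hd : ((M i.castSucc).subgroupOf K).relIndex ((M i.succ).subgroupOf K) ∣
      (M i.castSucc).relIndex (M i.succ) := by
    rw [Subgroup.subgroupOf, Subgroup.subgroupOf, Subgroup.relIndex_comap, Subgroup.map_comap_eq,
      ← Subgroup.relIndex_subgroupOf (inf_le_right : K.subtype.range ⊓ M i.succ ≤ M i.succ)]
    exact Subgroup.relIndex_dvd_index_of_normal _ _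
  rcases hf i with ⟨m, hm⟩ | hc
  · rw [hm] at hd
    obtain ⟨j, -, hj⟩ := (Nat.dvd_prime_pow hp.out).mp hd
    exact Or.inl ⟨j, hj⟩
  · exact Or.inr (hc.coprime_dvd_left hd)

/-- Sum of the translates of `a` over the cosets of `P ⊓ M` in `M`. -/
noncomputable def cosetSum (ρ : Representation k B V) (P : Subgroup B) (a : V) (M : Subgroup B) : V :=
  ∑ᶠ q : M ⧸ P.subgroupOf M, ρ (q.out : B) a

variable {ρ : Representation k B V} {P : Subgroup B} {a : V}

theorem rep_eq_of_mk_eq (hfix : ∀ x ∈ P, ρ x a = a) {M : Subgroup B} {x y : M}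
    (h : (QuotientGroup.mk x : M ⧸ P.subgroupOf M) = QuotientGroup.mk y) : ρ (x : B) a = ρ (y : B) a := by
  have h1 := Subgroup.mem_subgroupOf.mp (QuotientGroup.eq.mp h)
  rw [show (y : B) = x * ((x⁻¹ * y : M) : B) by simp, map_mul, Module.End.mul_apply, hfix _ h1]

theorem rep_out (hfix : ∀ x ∈ P, ρ x a = a) {M : Subgroup B} (x : M) :
    ρ (((QuotientGroup.mk x : M ⧸ P.subgroupOf M).out : M) : B) a = ρ (x : B) a :=
  rep_eq_of_mk_eq hfix (QuotientGroup.out_eq' _)

theorem cosetSum_fixed (hfix : ∀ x ∈ P, ρ x a = a) (M : Subgroup B) {m : B} (hm : m ∈ M) :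
    ρ m (cosetSum ρ P a M) = cosetSum ρ P a M := by
  rw [cosetSum, map_finsum (ρ m) (Set.toFinite _)]
  refine finsum_eq_of_bijective (fun q : M ⧸ P.subgroupOf M => (⟨m, hm⟩ : M) • q)
    (MulAction.bijective _) fun q => ?_
  conv_rhs => rw [← QuotientGroup.out_eq' q]
  rw [MulAction.Quotient.smul_mk, rep_out hfix, ← Module.End.mul_apply, ← map_mul]
  rfl

theorem cosetSum_eq_of_inf_eq (hfix : ∀ x ∈ P, ρ x a = a) {M M' : Subgroup B} (hle : M ≤ M')
    (hidx : P.relIndex M = P.relIndex M') : cosetSum ρ P a M' = cosetSum ρ P a M := by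
  let e : M ⧸ P.subgroupOf M → M' ⧸ P.subgroupOf M' := fun q => QuotientGroup.mk (Subgroup.inclusion hle q.out)
  have hinj : Function.Injective e := fun q r h => by
    have h1 := Subgroup.mem_subgroupOf.mp (QuotientGroup.eq.mp h)
    refine (QuotientGroup.out_eq' q).symm.trans (Eq.trans ?_ (QuotientGroup.out_eq' r))
    exact QuotientGroup.eq.mpr (Subgroup.mem_subgroupOf.mpr h1)
  refine (finsum_eq_of_bijective e ((Nat.bijective_iff_injective_and_card e).mpr ⟨hinj, hidx⟩) fun q => ?_).symm
  rw [rep_out hfix]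
  rfl

theorem cosetSum_top (hfix : ∀ x ∈ P, ρ x a = a) {A : Subgroup B} (hle : P ≤ A)
    (hA : ∀ x ∈ A, ρ x a = a) [Fintype (B ⧸ A)] :
    cosetSum ρ P a ⊤ = P.relIndex A • ∑ q : B ⧸ A, ρ q.out a := by
  haveI : Fintype (B ⧸ P) := Fintype.ofFinite _
  haveI : Fintype (A ⧸ P.subgroupOf A) := Fintype.ofFinite _
  haveI : Fintype ((⊤ : Subgroup B) ⧸ P.subgroupOf ⊤) := Fintype.ofFinite _
  have hwd : ∀ (L : Subgroup B), (∀ x ∈ L, ρ x a = a) → ∀ x y : B,
      (QuotientGroup.mk x : B ⧸ L) = QuotientGroup.mk y → ρ x a = ρ y a := fun L hL x y e => by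
    rw [show y = x * (x⁻¹ * y) by simp, map_mul, Module.End.mul_apply, hL _ (QuotientGroup.eq.mp e)]
  let g : (⊤ : Subgroup B) ⧸ P.subgroupOf ⊤ → B ⧸ P := fun q => QuotientGroup.mk (q.out : B)
  have hg : Function.Bijective g := (Nat.bijective_iff_injective_and_card g).mpr ⟨fun q r e =>
    (QuotientGroup.out_eq' q).symm.trans
      ((QuotientGroup.eq.mpr (Subgroup.mem_subgroupOf.mpr (QuotientGroup.eq.mp e))).trans (QuotientGroup.out_eq' r)),
      Subgroup.relIndex_top_right P⟩
  rw [cosetSum, finsum_eq_sum_of_fintype,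
    Fintype.sum_bijective g hg _ (fun q : B ⧸ P => ρ q.out a) fun q => hwd P hfix _ _ (QuotientGroup.out_eq' (g q)).symm]
  let ε := Subgroup.quotientEquivProdOfLE hle
  calc ∑ q : B ⧸ P, ρ q.out a = ∑ q : B ⧸ P, (fun z : (B ⧸ A) × (A ⧸ P.subgroupOf A) => ρ z.1.out a) (ε q) := by
        refine Finset.sum_congr rfl fun q _ => hwd A hA _ _ ?_
        rw [QuotientGroup.out_eq']
        conv_rhs => rw [← QuotientGroup.out_eq' q]
        rfl
    _ = ∑ z : (B ⧸ A) × (A ⧸ P.subgroupOf A), ρ z.1.out a :=
        Equiv.sum_comp ε fun z : (B ⧸ A) × (A ⧸ P.subgroupOf A) => ρ z.1.out a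
    _ = _ := by
        rw [Fintype.sum_prod_type]
        simp only [Finset.sum_const, Finset.card_univ, ← Nat.card_eq_fintype_card, ← Finset.smul_sum]
        rfl

/-- Invariants of the span of a fixed vector of a Sylow subgroup are multiples of the coset sum. -/
theorem invariant_eq_smul {p : ℕ} [hp : Fact p.Prime] [CharP k p] (hsol : Cfsg.IsPSolvable p B)
    (Q : Sylow p B) (hQ : ∀ x ∈ (Q : Subgroup B), ρ x a = a)
    (hspan : Submodule.span k (Set.range fun h : B => ρ h a) = ⊤) {v : V} (hv : ∀ x, ρ x v = v) :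
    ∃ c : k, v = c • cosetSum ρ (Q : Subgroup B) a ⊤ := by
  classical
  obtain ⟨n, M, h0, hl, hmono, hn, hf⟩ := hsol
  set P := (Q : Subgroup B) with hP
  have key : ∀ i, ∀ w : V, (∀ m ∈ M i, ρ m w = w) →
      w ∈ Submodule.span k (Set.range fun h : B => ρ h (cosetSum ρ P a (M i))) := by
    intro i
    induction i using Fin.induction with
    | zero =>
      intro w _
      have he : cosetSum ρ P a (M 0) = a := by
        rw [h0, cosetSum, finsum_eq_single _ (QuotientGroup.mk 1) (fun q hq => absurd ?_ hq), rep_out hQ]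
        · simp
        · obtain ⟨x, rfl⟩ := QuotientGroup.mk_surjective q
          rw [show x = 1 from Subtype.ext (Subgroup.mem_bot.mp x.2)]
      rw [he, hspan]; exact Submodule.mem_top
    | succ i ih =>
      intro w hw
      haveI := hn i.castSucc
      haveI := hn i.succ
      set N := M i.castSucc
      set N' := M i.succ
      have hle : N ≤ N' := hmono (Fin.castSucc_le_succ i)
      have hwN := ih w fun m hm => hw m (hle hm)
      have hPN : ∀ L : Subgroup B, L.Normal → ¬ p ∣ P.relIndex L := by
        intro L hL h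
        haveI := hL
        refine Q.not_dvd_index (h.trans ⟨(P ⊔ L).index, ?_⟩)
        rw [← Subgroup.relIndex_mul_index (le_sup_left : P ≤ P ⊔ L)]
        congr 1
        have h1 := Subgroup.relIndex_mul_relIndex (P ⊓ L) P (P ⊔ L) inf_le_left le_sup_left
        have h2 := Subgroup.relIndex_mul_relIndex (P ⊓ L) L (P ⊔ L) inf_le_right le_sup_right
        rw [Subgroup.inf_relIndex_left] at h1
        rw [Subgroup.inf_relIndex_right, Subgroup.relIndex_sup_right, ← h1, mul_comm] at h2
        exact (Nat.eq_of_mul_eq_mul_left (Nat.pos_of_ne_zero Subgroup.index_ne_zero_of_finite) h2).symm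
      have hmul : P.relIndex N * N.relIndex N' = N.relIndex (P ⊓ N') * P.relIndex N' := by
        have e1 : N.relIndex (P ⊓ N') = (P ⊓ N).relIndex (P ⊓ N') := by
          rw [← Subgroup.inf_relIndex_right N (P ⊓ N')]
          congr 1
          rw [inf_comm P N', ← inf_assoc, inf_eq_left.mpr hle, inf_comm]
        rw [e1, ← Subgroup.inf_relIndex_right P N, ← Subgroup.inf_relIndex_right P N',
          Subgroup.relIndex_mul_relIndex _ _ _ inf_le_right hle,
          Subgroup.relIndex_mul_relIndex _ _ _ (inf_le_inf le_rfl hle) inf_le_right]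
      have hY : N.relIndex (P ⊓ N') ∣ N.relIndex N' := by
        rw [← Subgroup.relIndex_subgroupOf (inf_le_right : P ⊓ N' ≤ N')]
        exact Subgroup.relIndex_dvd_index_of_normal _ _
      obtain ⟨t, ht⟩ : ∃ t, N.relIndex (P ⊓ N') = p ^ t := by
        obtain ⟨t, ht⟩ := IsPGroup.iff_card.mp (Q.isPGroup'.to_le (inf_le_left : P ⊓ N' ≤ P))
        obtain ⟨t', -, ht'⟩ := (Nat.dvd_prime_pow hp.out).mp (ht ▸ Subgroup.relIndex_dvd_card N (P ⊓ N'))
        exact ⟨t', ht'⟩
      rcases hf i with ⟨j, hj⟩ | hc
      · -- a `p`-factor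
        have hidx : P.relIndex N = P.relIndex N' := by
          rw [hj, ht] at hmul
          refine Nat.dvd_antisymm ?_ ?_
          · exact (((hp.out.coprime_iff_not_dvd.mpr (hPN N (hn _))).symm).pow_right t).dvd_of_dvd_mul_left
              (hmul ▸ dvd_mul_right _ _)
          · exact (((hp.out.coprime_iff_not_dvd.mpr (hPN N' (hn _))).symm).pow_right j).dvd_of_dvd_mul_right
              (hmul ▸ dvd_mul_left _ _)
        rw [cosetSum_eq_of_inf_eq hQ hle hidx]
        exact hwN
      · -- a `p'`-factor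
        have hone : N.relIndex (P ⊓ N') = 1 :=
          Nat.eq_one_of_dvd_coprimes (hc.pow_right t) hY (ht ▸ dvd_rfl)
        have hPN' : P ⊓ N' ≤ N := Subgroup.relIndex_eq_one.mp hone
        haveI : Fintype (N' ⧸ N.subgroupOf N') := Fintype.ofFinite _
        let E : V →ₗ[k] V := ∑ q : N' ⧸ N.subgroupOf N', ρ (q.out : B)
        set F := cosetSum ρ P a N with hF
        have hFfix : ∀ x y : N', (QuotientGroup.mk x : N' ⧸ N.subgroupOf N') = QuotientGroup.mk y →
            ρ (x : B) F = ρ (y : B) F := by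
          intro x y h
          have h1 := Subgroup.mem_subgroupOf.mp (QuotientGroup.eq.mp h)
          rw [show (y : B) = x * ((x⁻¹ * y : N') : B) by simp, map_mul, Module.End.mul_apply,
            cosetSum_fixed hQ N h1]
        have hEw : E w = (N.relIndex N' : k) • w := by
          simp only [E, LinearMap.coe_sum, Finset.sum_apply, hw _ (Subtype.prop _), Finset.sum_const,
            Finset.card_univ, Nat.cast_smul_eq_nsmul, ← Nat.card_eq_fintype_card]
          rfl
        have hnz : (N.relIndex N' : k) ≠ 0 := fun h =>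
          (hp.out.coprime_iff_not_dvd.mp hc.symm) ((CharP.cast_eq_zero_iff k p _).mp h)
        have hEF : E F = cosetSum ρ P a N' := by
          haveI : Fintype (N ⧸ P.subgroupOf N) := Fintype.ofFinite _
          haveI : Fintype (N' ⧸ P.subgroupOf N') := Fintype.ofFinite _
          rw [cosetSum, finsum_eq_sum_of_fintype]
          simp only [E, LinearMap.coe_sum, Finset.sum_apply, hF, cosetSum, finsum_eq_sum_of_fintype, map_sum]
          rw [Finset.sum_comm, ← Fintype.sum_prod_type']
          let e : (N' ⧸ N.subgroupOf N') × (N ⧸ P.subgroupOf N) → N' ⧸ P.subgroupOf N' :=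
            fun z => QuotientGroup.mk (z.1.out * Subgroup.inclusion hle z.2.out)
          have hinj : Function.Injective e := by
            rintro ⟨q, r⟩ ⟨q', r'⟩ h
            have h1 : ((q.out : B) * (r.out : B))⁻¹ * ((q'.out : B) * (r'.out : B)) ∈ P :=
              Subgroup.mem_subgroupOf.mp (QuotientGroup.eq.mp h)
            have h2 : ((q.out : B) * (r.out : B))⁻¹ * ((q'.out : B) * (r'.out : B)) ∈ N :=
              hPN' ⟨h1, N'.mul_mem (N'.inv_mem (N'.mul_mem q.out.2 (hle r.out.2))) (N'.mul_mem q'.out.2 (hle r'.out.2))⟩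
            have h3 : (q.out : B)⁻¹ * (q'.out : B) ∈ N := by
              have := N.mul_mem (N.mul_mem r.out.2 h2) (N.inv_mem r'.out.2)
              simpa [mul_assoc] using this
            have hq : q = q' := (QuotientGroup.out_eq' q).symm.trans
              ((QuotientGroup.eq.mpr (Subgroup.mem_subgroupOf.mpr h3)).trans (QuotientGroup.out_eq' q'))
            subst hq
            refine Prod.ext rfl ((QuotientGroup.out_eq' r).symm.trans (Eq.trans ?_ (QuotientGroup.out_eq' r')))
            refine QuotientGroup.eq.mpr (Subgroup.mem_subgroupOf.mpr ?_)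
            simpa [mul_assoc] using h1
          refine Fintype.sum_bijective e ((Nat.bijective_iff_injective_and_card e).mpr ⟨hinj, ?_⟩) _ _ fun z => ?_
          · rw [Nat.card_prod]
            show N.relIndex N' * P.relIndex N = P.relIndex N'
            rw [mul_comm, hmul, hone, one_mul]
          · rw [rep_out hQ]
            show _ = ρ ((z.1.out : B) * (z.2.out : B)) a
            rw [map_mul, Module.End.mul_apply]
        have hEh : ∀ h : B, E (ρ h F) = ρ h (E F) := by
          intro h
          simp only [E, LinearMap.coe_sum, Finset.sum_apply, map_sum]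
          let c : N' → N' := fun x => ⟨h⁻¹ * x * h, by simpa using (hn i.succ).conj_mem _ x.2 h⁻¹⟩
          let e : N' ⧸ N.subgroupOf N' → N' ⧸ N.subgroupOf N' := fun q => QuotientGroup.mk (c q.out)
          have hinj : Function.Injective e := fun q r hqr => by
            have h1 : (h⁻¹ * (q.out : B) * h)⁻¹ * (h⁻¹ * (r.out : B) * h) ∈ N :=
              Subgroup.mem_subgroupOf.mp (QuotientGroup.eq.mp hqr)
            have h2 := (hn i.castSucc).conj_mem _ h1 h
            refine (QuotientGroup.out_eq' q).symm.trans (Eq.trans ?_ (QuotientGroup.out_eq' r))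
            refine QuotientGroup.eq.mpr (Subgroup.mem_subgroupOf.mpr ?_)
            simpa [mul_assoc] using h2
          refine Fintype.sum_bijective e (Finite.injective_iff_bijective.mp hinj) _ _ fun q => ?_
          rw [← Module.End.mul_apply, ← map_mul,
            hFfix _ _ (show (QuotientGroup.mk (e q).out : N' ⧸ N.subgroupOf N') = QuotientGroup.mk (c q.out) from
              QuotientGroup.out_eq' _)]
          show _ = ρ h (ρ (h⁻¹ * (q.out : B) * h) F)
          rw [← Module.End.mul_apply, ← map_mul, ← mul_assoc, ← mul_assoc, mul_inv_cancel, one_mul]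
        have h1 := Submodule.mem_map_of_mem (f := E) hwN
        rw [Submodule.map_span, ← Set.range_comp, hEw] at h1
        have h2 : (E ∘ fun h : B => ρ h F) = fun h : B => ρ h (cosetSum ρ P a N') :=
          funext fun h => by show E (ρ h F) = _; rw [hEh, hEF]
        rw [h2] at h1
        exact (Submodule.smul_mem_iff _ hnz).mp h1
  have h1 := key (Fin.last n) v fun m _ => hv m
  rw [hl] at h1
  have h2 : (Set.range fun h : B => ρ h (cosetSum ρ P a ⊤)) = {cosetSum ρ P a ⊤} := by
    ext u
    simp only [Set.mem_range, Set.mem_singleton_iff, cosetSum_fixed hQ ⊤ (Subgroup.mem_top _), exists_const, eq_comm]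
  rw [h2, Submodule.mem_span_singleton] at h1
  obtain ⟨c, hc⟩ := h1
  exact ⟨c, hc.symm⟩

/-- Let k be a field of prime characteristic p, H a finite p-soluble group and ρ a k-linear representation of H on V. Let a be a vector that is fixed by some Sylow p-subgroup of H and whose H-orbit spans V. Then the space of H-fixed vectors has dimension at most 1, and every vector b whose H-orbit has size coprime to the size of the orbit of a is fixed by H. -/
theorem result {k V H : Type*} [Field k] (p : ℕ) [Fact p.Prime] [CharP k p] [AddCommGroup V] [Module k V]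
    [Group H] [Finite H] (hsol : Cfsg.IsPSolvable p H) (ρ : Representation k H V) (a : V)
    (hfix : ∃ P : Sylow p H, ∀ x : H, x ∈ (P : Subgroup H) → ρ x a = a)
    (hspan : Submodule.span k {u : V | ∃ h : H, ρ h a = u} = ⊤) :
    Module.finrank k ρ.invariants ≤ 1 ∧
    ∀ b : V, (Nat.card {u : V | ∃ h : H, ρ h a = u}).Coprime (Nat.card {u : V | ∃ h : H, ρ h b = u}) → ∀ h : H, ρ h b = b := by
  classical
  obtain ⟨P, hP⟩ := hfix
  have hspan' : Submodule.span k (Set.range fun h : H => ρ h a) = ⊤ := hspan
  refine ⟨?_, fun b hb h => ?_⟩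
  · refine le_trans (Submodule.finrank_mono (t := Submodule.span k {cosetSum ρ (P : Subgroup H) a ⊤}) fun v hv => ?_)
      ((finrank_span_le_card _).trans (by simp))
    obtain ⟨c, hc⟩ := invariant_eq_smul hsol P hP hspan' hv
    exact Submodule.mem_span_singleton.mpr ⟨c, hc.symm⟩
  -- the orbit of `a` under the stabiliser of `b` is the whole orbit
  let stab : V → Subgroup H := fun v =>
    { carrier := {x | ρ x v = v}
      one_mem' := by simp
      mul_mem' := fun {x y} hx hy => by
        show ρ (x * y) v = v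
        rw [map_mul, Module.End.mul_apply, hy, hx]
      inv_mem' := fun {x} hx => by
        show ρ x⁻¹ v = v
        nth_rw 1 [← hx]
        rw [← Module.End.mul_apply, ← map_mul, inv_mul_cancel, map_one, Module.End.one_apply] }
  have hcard : ∀ v, Nat.card {u : V | ∃ h : H, ρ h v = u} = (stab v).index := by
    intro v
    let f : H ⧸ stab v → {u : V | ∃ h : H, ρ h v = u} := fun q => ⟨ρ q.out v, q.out, rfl⟩
    refine (Nat.card_eq_of_bijective f ⟨fun q r e => ?_, ?_⟩).symm
    · refine (QuotientGroup.out_eq' q).symm.trans (Eq.trans ?_ (QuotientGroup.out_eq' r))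
      refine QuotientGroup.eq.mpr ?_
      show ρ (q.out⁻¹ * r.out) v = v
      have e' : ρ q.out v = ρ r.out v := congrArg Subtype.val e
      rw [map_mul, Module.End.mul_apply, ← e', ← Module.End.mul_apply, ← map_mul, inv_mul_cancel,
        map_one, Module.End.one_apply]
    · rintro ⟨_, x, rfl⟩
      refine ⟨QuotientGroup.mk x, Subtype.ext ?_⟩
      obtain ⟨w, hw⟩ := QuotientGroup.mk_out_eq_mul (stab v) x
      show ρ _ v = ρ x v
      rw [hw, map_mul, Module.End.mul_apply]
      exact congrArg (ρ x) w.2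
  rw [hcard, hcard] at hb
  set A := stab a with hA
  set K := stab b with hK
  set A' := A.subgroupOf K with hA'
  let ι : K ⧸ A' → H ⧸ A := fun q => QuotientGroup.mk (q.out : H)
  have hιinj : Function.Injective ι := fun q r e =>
    (QuotientGroup.out_eq' q).symm.trans
      ((QuotientGroup.eq.mpr (Subgroup.mem_subgroupOf.mpr (QuotientGroup.eq.mp e))).trans (QuotientGroup.out_eq' r))
  have hPA : (P : Subgroup H) ≤ A := fun x hx => hP x hx
  have hrel : A.relIndex K = A.index := by
    have h1 : (A ⊓ K).index = A.relIndex K * K.index := by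
      rw [← Subgroup.inf_relIndex_right A K, Subgroup.relIndex_mul_index inf_le_right]
    have h2 : A.index * K.index ∣ (A ⊓ K).index :=
      hb.mul_dvd_of_dvd_of_dvd (Subgroup.index_dvd_of_le inf_le_left) (Subgroup.index_dvd_of_le inf_le_right)
    rw [h1] at h2
    refine le_antisymm ?_ (Nat.le_of_dvd (Nat.pos_of_ne_zero Subgroup.index_ne_zero_of_finite)
      (Nat.dvd_of_mul_dvd_mul_right (Nat.pos_of_ne_zero Subgroup.index_ne_zero_of_finite) h2))
    exact Nat.card_le_card_of_injective ι hιinj
  have hι : Function.Bijective ι := (Nat.bijective_iff_injective_and_card ι).mpr ⟨hιinj, hrel⟩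
  have horb : ∀ x : H, ∃ y : K, ρ x a = ρ (y : H) a := by
    intro x
    obtain ⟨q, hq⟩ := hι.2 (QuotientGroup.mk x)
    refine ⟨q.out, ?_⟩
    have h1 : (q.out : H)⁻¹ * x ∈ A := QuotientGroup.eq.mp hq
    calc ρ x a = ρ (q.out : H) (ρ ((q.out : H)⁻¹ * x) a) := by
          rw [← Module.End.mul_apply, ← map_mul, mul_inv_cancel_left]
      _ = _ := by rw [h1]
  -- a Sylow subgroup of the stabiliser of `b` fixes `a`
  obtain ⟨R⟩ : Nonempty (Sylow p A') := inferInstance
  have hRi : ¬ p ∣ ((R : Subgroup A').map A'.subtype).index := by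
    rw [Subgroup.index_map_of_injective _ A'.subtype_injective, Subgroup.range_subtype]
    intro hd
    rcases (Fact.out : p.Prime).dvd_mul.mp hd with h' | h'
    · exact R.not_dvd_index h'
    · refine P.not_dvd_index ?_
      exact ((hrel ▸ h' : p ∣ A.index)).trans (Subgroup.index_dvd_of_le hPA)
  let R' : Sylow p K := (R.isPGroup'.map A'.subtype).toSylow hRi
  have hR' : ∀ x ∈ (R' : Subgroup K), (ρ.comp K.subtype) x a = a := by
    rintro _ ⟨x, -, rfl⟩
    exact x.2
  have hspanK : Submodule.span k (Set.range fun y : K => (ρ.comp K.subtype) y a) = ⊤ := by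
    rw [← hspan']
    refine congrArg _ (Set.ext fun u => ⟨?_, ?_⟩)
    · rintro ⟨y, rfl⟩; exact ⟨y, rfl⟩
    · rintro ⟨x, rfl⟩
      obtain ⟨y, hy⟩ := horb x
      exact ⟨y, hy.symm⟩
  obtain ⟨c, hc⟩ := invariant_eq_smul (ρ := ρ.comp K.subtype) (isPSolvable_subgroup hsol K) R' hR' hspanK
    (v := b) fun x => x.2
  -- the coset sum is a multiple of the orbit sum
  haveI : Fintype (H ⧸ A) := Fintype.ofFinite _
  set S := ∑ q : H ⧸ A, ρ q.out a with hS
  have hwd : ∀ x y : H, (QuotientGroup.mk x : H ⧸ A) = QuotientGroup.mk y → ρ x a = ρ y a := by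
    intro x y e
    have h1 : ρ (x⁻¹ * y) a = a := QuotientGroup.eq.mp e
    calc ρ x a = ρ x (ρ (x⁻¹ * y) a) := by rw [h1]
      _ = ρ y a := by rw [← Module.End.mul_apply, ← map_mul, mul_inv_cancel_left]
  have hSfix : ρ h S = S := by
    rw [hS, map_sum]
    refine Fintype.sum_bijective (fun q : H ⧸ A => h • q) (MulAction.bijective h) _ _ fun q => ?_
    rw [← Module.End.mul_apply, ← map_mul]
    refine (hwd _ _ ?_)
    rw [QuotientGroup.out_eq']
    conv_rhs => rw [← QuotientGroup.out_eq' q]
    rfl
  obtain ⟨t, ht⟩ : ∃ t : ℕ, cosetSum (ρ.comp K.subtype) (R' : Subgroup K) a ⊤ = t • S := by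
    haveI : Fintype (K ⧸ A') := Fintype.ofFinite _
    refine ⟨_, (cosetSum_top (ρ := ρ.comp K.subtype) hR' (A := A') ?_ fun x hx => hx).trans (congrArg _ ?_)⟩
    · rintro _ ⟨x, -, rfl⟩; exact x.2
    · exact Fintype.sum_bijective ι hι _ (fun z : H ⧸ A => ρ z.out a) fun q => hwd _ _ (QuotientGroup.out_eq' (ι q)).symm
  rw [hc, ht, map_smul, map_nsmul, hSfix]

end Cfsg.Agent.S4176
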