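import Cfsg.Statements.S4492
import Cfsg.Agent.Lib.BlockHeights.PConstrainedCores
-- import your own Cfsg.Agent.* helpers here

set_option autoImplicit false
open Cfsg

namespace Cfsg.Agent.S4492

/-- Let G be a finite p-solvable group, N = O_{p'}(G) its largest normal subgroup of order prime to p, and θ an irreducible character of N invariant under conjugation by G; fix a maximal ideal M of the algebraic integers containing p. Then the irreducible characters of G lying over θ (those whose restriction to N contains θ) form a single p-block of G, and the defect groups of that block are exactly the Sylow p-subgroups of G. -/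
theorem result {G : Type*} [Group G] [Fintype G] (p : ℕ) [Fact p.Prime] (M : Ideal Cfsg.AlgInt) (hM : Cfsg.IsPModular p M) (hsolv : Cfsg.IsPSolvable p G) (N : Subgroup G) [hN : N.Normal] [Fintype N] (hNdef : N = Cfsg.pPrimeCore p G) (θ : Cfsg.IrrCharacter N) (hinv : ∀ (g : G) (n : N), (θ : N → ℂ) ⟨g * n * g⁻¹, hN.conj_mem n n.2 g⟩ = (θ : N → ℂ) n) : ∃ B : Set (Cfsg.IrrCharacter G), Cfsg.IsPBlock M B ∧ (∀ χ : Cfsg.IrrCharacter G, χ ∈ B ↔ Cfsg.classInner (fun n : N => (χ : G → ℂ) n) (θ : N → ℂ) ≠ 0) ∧ (∀ P : Sylow p G, Cfsg.IsDefectGroup p M B (P : Subgroup G)) ∧ ∀ D : Subgroup G, Cfsg.IsDefectGroup p M B D → ∃ P : Sylow p G, D = (P : Subgroup G) := by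
  classical
  haveI : M.IsPrime := hM.2.1.isPrime
  subst hNdef
  obtain ⟨S⟩ : Nonempty (Sylow p (Cfsg.pPrimePCore p G)) := inferInstance
  have hQL : (S : Subgroup (Cfsg.pPrimePCore p G)).map (Cfsg.pPrimePCore p G).subtype ≤
      Cfsg.pPrimePCore p G := Subgroup.map_subtype_le _
  have hQS : ¬ p ∣ ((S : Subgroup (Cfsg.pPrimePCore p G)).map
      (Cfsg.pPrimePCore p G).subtype).relIndex (Cfsg.pPrimePCore p G) := by
    rw [Subgroup.relIndex, Subgroup.subgroupOf, Subgroup.comap_map_eq_self_of_injective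
      (Subgroup.subtype_injective _)]
    exact S.not_dvd_index
  have h := Cfsg.Agent.Lib.BlockHeights.constrained_pPrimePCore hQL (S.isPGroup'.map _) hQS
    (Cfsg.Agent.Lib.BlockHeights.centralizer_le_pPrimePCore hsolv hQL (S.isPGroup'.map _) hQS)
  have key := Cfsg.Agent.Lib.BlockHeights.block_over_spec hM h (θ := θ)
    (fun g => Subtype.ext (funext fun n => hinv g n))
    (B := {χ : Cfsg.IrrCharacter G | Cfsg.classInner
      (fun n : Cfsg.pPrimeCore p G => (χ : G → ℂ) n) (θ : Cfsg.pPrimeCore p G → ℂ) ≠ 0})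
    (fun χ => Iff.rfl)
  refine ⟨_, key.1, fun χ => Iff.rfl, key.2.1, fun D hD => ?_⟩
  obtain ⟨P⟩ : Nonempty (Sylow p G) := inferInstance
  obtain ⟨a, ha⟩ :=
    Cfsg.Agent.Lib.Blocks.IsDefectGroup.exists_map_conj_eq hM key.1 (key.2.1 P) hD
  exact ⟨a • P, by rw [← ha, Sylow.coe_subgroup_smul]; rfl⟩

end Cfsg.Agent.S4492
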