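import Mathlib
import Cfsg.Statements.S4475
import Cfsg.Agent.Lib.Characters

set_option autoImplicit false
open Cfsg

namespace Cfsg.Agent.S4475

open Matrix

/-- Let ρ be an irreducible representation of the finite group G on the coordinate space Fin n → ℂ whose character χ is real-valued, and let ν be the Frobenius–Schur indicator of χ (the average of χ(s²)). Writing X(g) for the matrix of ρ(g), there is a nonzero matrix M with X(g)ᵀ M X(g) = M for all g ∈ G; and every such M (zero or not) satisfies Mᵀ = ν·M. -/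
theorem result {G : Type*} [Group G] [Fintype G] (n : ℕ) (ρ : Representation ℂ G (Fin n → ℂ)) (hirr : ρ.IsIrreducible) (hreal : ∀ g : G, (ρ.character g).im = 0) : (∃ M : Matrix (Fin n) (Fin n) ℂ, M ≠ 0 ∧ ∀ g : G, (LinearMap.toMatrix' (ρ g)).transpose * M * LinearMap.toMatrix' (ρ g) = M) ∧ ∀ M : Matrix (Fin n) (Fin n) ℂ, (∀ g : G, (LinearMap.toMatrix' (ρ g)).transpose * M * LinearMap.toMatrix' (ρ g) = M) → M.transpose = ((Nat.card G : ℂ)⁻¹ * ∑ s : G, ρ.character (s * s)) • M := by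
  classical
  haveI := hirr
  let A : G →* Matrix (Fin n) (Fin n) ℂ :=
    { toFun := fun g => LinearMap.toMatrix' (ρ g)
      map_one' := by rw [map_one]; exact LinearMap.toMatrix'_id
      map_mul' := fun g h => by rw [map_mul]; exact LinearMap.toMatrix'_comp _ _ }
  have hA : ∀ g, ρ.character g = (A g).trace := fun g =>
    LinearMap.trace_eq_matrix_trace ℂ (Pi.basisFun ℂ (Fin n)) (ρ g)
  let π := Cfsg.Agent.Lib.Characters.formRep A
  haveI : Invertible (Nat.card G : ℂ) :=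
    invertibleOfNonzero Cfsg.Agent.Lib.Characters.natCard_ne_zero_complex
  let τ : Module.End ℂ (Matrix (Fin n) (Fin n) ℂ) :=
    (Matrix.transposeLinearEquiv (Fin n) (Fin n) ℂ ℂ).toLinearMap
  have h1 : ∀ g, LinearMap.trace ℂ _ (π g) = ρ.character g⁻¹ * ρ.character g⁻¹ := by
    intro g
    rw [Cfsg.Agent.Lib.Characters.trace_matrix_endo, hA, Matrix.trace, Finset.sum_mul_sum]
    refine Finset.sum_congr rfl fun i _ => Finset.sum_congr rfl fun j _ => ?_
    show ((A g⁻¹)ᵀ * Matrix.single i j (1 : ℂ) * A g⁻¹ : Matrix (Fin n) (Fin n) ℂ) i j = _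
    simp [Matrix.mul_apply, Matrix.single, Matrix.diag, Finset.sum_ite_eq, ite_and]
  have h2 : ∀ g, LinearMap.trace ℂ _ (τ * π g) = ρ.character (g⁻¹ * g⁻¹) := by
    intro g
    rw [Cfsg.Agent.Lib.Characters.trace_matrix_endo, hA, map_mul, Matrix.trace]
    refine Finset.sum_congr rfl fun i _ => ?_
    rw [Matrix.diag_apply, Matrix.mul_apply]
    refine Finset.sum_congr rfl fun j _ => ?_
    show ((A g⁻¹)ᵀ * Matrix.single i j (1 : ℂ) * A g⁻¹ : Matrix (Fin n) (Fin n) ℂ)ᵀ i j = _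
    simp [Matrix.mul_apply, Matrix.single, Finset.sum_ite_eq, ite_and]
  let P : Module.End ℂ (Matrix (Fin n) (Fin n) ℂ) := (Nat.card G : ℂ)⁻¹ • ∑ g, π g
  have hν : LinearMap.trace ℂ _ (τ * P) = (Nat.card G : ℂ)⁻¹ * ∑ s : G, ρ.character (s * s) := by
    simp only [P, mul_smul_comm, Finset.mul_sum, map_smul, map_sum, smul_eq_mul, h2]
    exact Fintype.sum_equiv (Equiv.inv G) _ _ fun g => rfl
  have hPinv : ∀ X, P X ∈ π.invariants := by
    intro X h
    simp only [P, LinearMap.smul_apply, map_smul, LinearMap.sum_apply, map_sum]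
    congr 1
    refine Fintype.sum_equiv (Equiv.mulLeft h) _ _ fun g => ?_
    simp [Equiv.coe_mulLeft, map_mul]
  have heq : (fun g => (starRingEnd ℂ) (ρ.character g)) = ρ.character :=
    funext fun g => Complex.conj_eq_iff_im.mpr (hreal g)
  have hdim : ((Module.finrank ℂ π.invariants : ℕ) : ℂ) = 1 := by
    rw [← Cfsg.Agent.Lib.Characters.IsIrrCharacter.classInner_self
      (Cfsg.Agent.Lib.Characters.isIrrCharacter_of_rep ρ),
      ← Representation.card_inv_mul_sum_char_eq_finrank π, Cfsg.classInner]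
    congr 1
    refine Fintype.sum_equiv (Equiv.inv G) _ _ fun g => ?_
    show LinearMap.trace ℂ _ (π g) = _
    rw [h1]
    show _ = ρ.character g⁻¹ * (starRingEnd ℂ) (ρ.character g⁻¹)
    rw [show (starRingEnd ℂ) (ρ.character g⁻¹) = ρ.character g⁻¹ from congrFun heq g⁻¹]
  have htrP : LinearMap.trace ℂ _ P = 1 := by
    rw [← hdim, ← Representation.card_inv_mul_sum_char_eq_finrank π]
    simp only [P, map_smul, map_sum, smul_eq_mul]
    rfl
  obtain ⟨⟨B, hB⟩, hB0, hspan⟩ := finrank_eq_one_iff'.mp (Nat.cast_eq_one.1 hdim)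
  have hBne : B ≠ 0 := fun h => hB0 (Subtype.ext h)
  have hmem : ∀ M : Matrix (Fin n) (Fin n) ℂ,
      (∀ g : G, (A g)ᵀ * M * A g = M) ↔ M ∈ π.invariants := fun M =>
    ⟨fun h g => h g⁻¹, fun h g => by simpa [π, Cfsg.Agent.Lib.Characters.formRep] using h g⁻¹⟩
  have hτB : Bᵀ ∈ π.invariants := fun g => by
    have h := congrArg Matrix.transpose (hB g)
    show (A g⁻¹)ᵀ * Bᵀ * A g⁻¹ = Bᵀ
    conv_rhs => rw [← h]
    simp [π, Cfsg.Agent.Lib.Characters.formRep, Matrix.transpose_mul, Matrix.mul_assoc]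
  obtain ⟨ε, hε⟩ := hspan ⟨Bᵀ, hτB⟩
  have hε' : Bᵀ = ε • B := (congrArg Subtype.val hε).symm
  have hT : τ * P = ε • P := LinearMap.ext fun X => by
    obtain ⟨c, hc⟩ := hspan ⟨P X, hPinv X⟩
    have hc' : P X = c • B := (congrArg Subtype.val hc).symm
    show (P X)ᵀ = ε • P X
    rw [hc', Matrix.transpose_smul, hε', smul_comm]
  have hεν : ε = (Nat.card G : ℂ)⁻¹ * ∑ s : G, ρ.character (s * s) := by
    rw [← hν, hT, map_smul, htrP, smul_eq_mul, mul_one]
  refine ⟨⟨B, hBne, (hmem B).2 hB⟩, fun M hM => ?_⟩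
  obtain ⟨c, hc⟩ := hspan ⟨M, (hmem M).1 hM⟩
  have hc' : M = c • B := (congrArg Subtype.val hc).symm
  rw [← hεν, hc', Matrix.transpose_smul, hε', smul_comm]

end Cfsg.Agent.S4475
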