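import Cfsg.Statements.S0947
import Cfsg.Agent.Lib.Blocks.Principal
import Cfsg.Agent.Lib.Blocks.Covering
import Cfsg.Agent.Lib.Cores.PCore

set_option autoImplicit false
open Cfsg
open Cfsg.Agent.Lib.Blocks Cfsg.Agent.Lib.Characters Cfsg.Agent.Lib.Cores
open scoped ComplexConjugate

namespace Cfsg.Agent.S0947

/-- Let z ≠ 1 be a p-element of the finite group G with centralizer H, and fix a maximal ideal M of the algebraic integers containing p. (i) For every y ∈ H of order prime to p, the sum over ζ in the principal block of G of |ζ (z * y)|² equals the sum over χ in the principal block of H of |χ y|². (ii) If moreover H has a normal p-complement (its largest normal subgroup of order prime to p has p-power index), that common value is the largest power of p dividing the order of H. -/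
theorem result {G : Type*} [Group G] [Finite G] (p : ℕ) [Fact p.Prime] (M : Ideal Cfsg.AlgInt) (hM : Cfsg.IsPModular p M) (z : G) (hz : ∃ k : ℕ, orderOf z = p ^ k) (hz1 : z ≠ 1) (y : Subgroup.centralizer ({z} : Set G)) (hy : ¬ p ∣ orderOf y) : (∑ᶠ ζ ∈ Cfsg.principalBlock M G, ‖(ζ : G → ℂ) (z * (y : G))‖ ^ 2 = ∑ᶠ χ ∈ Cfsg.principalBlock M (Subgroup.centralizer ({z} : Set G)), ‖(χ : Subgroup.centralizer ({z} : Set G) → ℂ) y‖ ^ 2) ∧ ((∃ k : ℕ, (Cfsg.pPrimeCore p (Subgroup.centralizer ({z} : Set G))).index = p ^ k) → ∑ᶠ ζ ∈ Cfsg.principalBlock M G, ‖(ζ : G → ℂ) (z * (y : G))‖ ^ 2 = ((p ^ (Nat.card (Subgroup.centralizer ({z} : Set G))).factorization p : ℕ) : ℝ)) := by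
  classical
  haveI := Fintype.ofFinite G
  haveI := isPrime_of_isPModular hM
  haveI := Fintype.ofFinite (Subgroup.centralizer ({z} : Set G))
  haveI := Fintype.ofFinite (Cfsg.IrrCharacter G)
  haveI := Fintype.ofFinite (Cfsg.IrrCharacter (Subgroup.centralizer ({z} : Set G)))
  have hmain : ∑ᶠ ζ ∈ Cfsg.principalBlock M G, ‖(ζ : G → ℂ) (z * (y : G))‖ ^ 2 =
      ∑ᶠ χ ∈ Cfsg.principalBlock M (Subgroup.centralizer ({z} : Set G)),
        ‖(χ : Subgroup.centralizer ({z} : Set G) → ℂ) y‖ ^ 2 := by
    have h := sum_principal_section hM hz hy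
    rw [finsum_mem_def, finsum_eq_sum_of_fintype, finsum_mem_def, finsum_eq_sum_of_fintype]
    apply Complex.ofReal_injective
    push_cast
    refine Eq.trans ?_ (h.trans ?_)
    · refine Finset.sum_congr rfl fun ζ _ => ?_
      rw [Set.indicator_apply]
      split_ifs
      · rw [Complex.conj_mul']; push_cast; rfl
      · simp
    · refine Finset.sum_congr rfl fun η _ => ?_
      rw [Set.indicator_apply]
      split_ifs
      · rw [Complex.conj_mul']; push_cast; rfl
      · simp
  refine ⟨hmain, fun hidx => ?_⟩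
  obtain ⟨k, hk⟩ := hidx
  haveI : (pPrimeCore p (Subgroup.centralizer ({z} : Set G))).Normal :=
    (pPrimeCore_mem p (Subgroup.centralizer ({z} : Set G))).1
  haveI := Fintype.ofFinite (pPrimeCore p (Subgroup.centralizer ({z} : Set G)))
  have hyN : y ∈ pPrimeCore p (Subgroup.centralizer ({z} : Set G)) :=
    mem_of_index_eq_pow hM.1 _ hk hy
  have hb : ∀ η, η ∈ Cfsg.principalBlock M (Subgroup.centralizer ({z} : Set G)) ↔
      ∀ n ∈ pPrimeCore p (Subgroup.centralizer ({z} : Set G)),
        (η : Subgroup.centralizer ({z} : Set G) → ℂ) n =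
          (η : Subgroup.centralizer ({z} : Set G) → ℂ) 1 := fun η =>
    ⟨fun h => trivial_on_of_sameBlock _ hM not_dvd_card_pPrimeCore (χ := trivIrr _) h
        fun n _ => rfl,
      fun h => sameBlock_of_constituents _ hM hk (χ := trivIrr _) (sameBlock_refl _)
        ((classInner_trivIrr_ne_zero_iff _ _).2 fun n _ => rfl)
        ((classInner_trivIrr_ne_zero_iff _ _).2 h)⟩
  rw [hmain]
  apply Complex.ofReal_injective
  have hcoef := congrFun (blockCoeff_trivial_on
    (pPrimeCore p (Subgroup.centralizer ({z} : Set G))) _ hb) 1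
  rw [extendByZero_of_mem _ _ (one_mem _), blockCoeff, finsum_irr_eq_sum_ite,
    inv_mul_eq_iff_eq_mul₀ natCard_ne_zero_complex,
    ← Subgroup.index_mul_card (pPrimeCore p (Subgroup.centralizer ({z} : Set G))), Nat.cast_mul,
    mul_assoc, mul_inv_cancel₀ natCard_ne_zero_complex, mul_one, hk] at hcoef
  have hkv : k = (Nat.card (Subgroup.centralizer ({z} : Set G))).factorization p := by
    rw [← Subgroup.index_mul_card (pPrimeCore p (Subgroup.centralizer ({z} : Set G))), hk,
      Nat.factorization_mul (pow_ne_zero _ hM.1.ne_zero) Nat.card_pos.ne', Finsupp.add_apply,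
      hM.1.factorization_pow, Finsupp.single_eq_same,
      Nat.factorization_eq_zero_of_not_dvd not_dvd_card_pPrimeCore, add_zero]
  rw [← hkv, Complex.ofReal_natCast, ← hcoef, finsum_mem_def, finsum_eq_sum_of_fintype]
  push_cast
  refine Finset.sum_congr rfl fun η _ => ?_
  rw [Set.indicator_apply]
  split_ifs with hη
  · rw [(hb η).1 hη y hyN, Complex.mul_conj']; push_cast; rfl
  · simp

end Cfsg.Agent.S0947
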