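import Cfsg.Statements.S0948
import Cfsg.Agent.Lib.Blocks.KleinFour
import Cfsg.Agent.S0942
import Cfsg.Agent.S0947

set_option autoImplicit false
open Cfsg
open Cfsg.Agent.Lib.Blocks Cfsg.Agent.Lib.Characters Cfsg.Agent.Lib.Cores
open scoped ComplexConjugate

namespace Cfsg.Agent.S0948

/-- Let the finite group G have a Sylow 2-subgroup P that is a Klein four-group, suppose all involutions of G are conjugate, and fix a maximal ideal M of the algebraic integers containing 2. Then the principal block consists of exactly four irreducible characters, the principal character and ζ₂, ζ₃, ζ₄, and there is a sign ε such that for every involution z: ζ₂ z = 1, ζ₃ z = ε, ζ₄ z = -1; moreover ζ₂ 1 ≡ 1, ζ₃ 1 ≡ ε, ζ₄ 1 ≡ -1 (mod 4), and 1 + ζ₂ y + ε ζ₃ y - ζ₄ y = 0 for every y of odd order. -/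
theorem result {G : Type*} [Group G] [Finite G] (M : Ideal Cfsg.AlgInt) (hM : Cfsg.IsPModular 2 M) (P : Sylow 2 G) (hP : IsKleinFour (P : Subgroup G)) (hone : ∀ s t : G, orderOf s = 2 → orderOf t = 2 → IsConj s t) : ∃ ζ₂ ζ₃ ζ₄ : Cfsg.IrrCharacter G, ∃ ε : ℤ, (ε = 1 ∨ ε = -1) ∧ (ζ₂ : G → ℂ) ≠ (fun _ => 1) ∧ (ζ₃ : G → ℂ) ≠ (fun _ => 1) ∧ ζ₂ ≠ ζ₃ ∧ ζ₂ ≠ ζ₄ ∧ ζ₃ ≠ ζ₄ ∧ Cfsg.principalBlock M G = {χ : Cfsg.IrrCharacter G | (χ : G → ℂ) = (fun _ => 1) ∨ χ = ζ₂ ∨ χ = ζ₃ ∨ χ = ζ₄} ∧ (∀ z : G, orderOf z = 2 → (ζ₂ : G → ℂ) z = 1 ∧ (ζ₃ : G → ℂ) z = (ε : ℂ) ∧ (ζ₄ : G → ℂ) z = -1) ∧ (4 : ℤ) ∣ (Cfsg.charDegree (ζ₂ : G → ℂ) : ℤ) - 1 ∧ (4 : ℤ) ∣ (Cfsg.charDegree (ζ₃ : G → ℂ) : ℤ) - ε ∧ (4 : ℤ) ∣ (Cfsg.charDegree (ζ₄ : G → ℂ) : ℤ) + 1 ∧ ∀ y : G, Odd (orderOf y) → 1 + (ζ₂ : G → ℂ) y + (ε : ℂ) * (ζ₃ : G → ℂ) y - (ζ₄ : G → ℂ) y = 0 := by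
  classical
  haveI : Fact (Nat.Prime 2) := ⟨Nat.prime_two⟩
  haveI := Fintype.ofFinite G
  haveI := isPrime_of_isPModular hM
  haveI := Fintype.ofFinite (Cfsg.IrrCharacter G)
  haveI := hP
  -- an involution in `P`
  obtain ⟨w, hw⟩ := exists_prime_orderOf_dvd_card' (G := (P : Subgroup G)) 2
    (by rw [IsKleinFour.card_four]; norm_num)
  set z : G := (w : G) with hzdef
  have hz2 : orderOf z = 2 := by rw [hzdef, Subgroup.orderOf_coe, hw]
  have hz1 : z ≠ 1 := fun h => by rw [h, orderOf_one] at hz2; norm_num at hz2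
  haveI := Fintype.ofFinite (Subgroup.centralizer ({z} : Set G))
  have hPC : (P : Subgroup G) ≤ Subgroup.centralizer ({z} : Set G) := fun a ha =>
    Subgroup.mem_centralizer_singleton_iff.2
      (congrArg Subtype.val (IsKleinFour.isMulCommutative.is_comm.comm ⟨a, ha⟩ w))
  have hidx : ∃ k : ℕ, (pPrimeCore 2 (Subgroup.centralizer ({z} : Set G))).index = 2 ^ k := by
    let e := Subgroup.subgroupOfEquivOfLe hPC
    refine exists_pow_index_pPrimeCore_of_klein (P.subtype hPC)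
      (z := ⟨z, Subgroup.mem_centralizer_singleton_iff.2 rfl⟩)
      (show IsKleinFour ((P : Subgroup G).subgroupOf (Subgroup.centralizer ({z} : Set G))) from
        ⟨by rw [Nat.card_congr e.toEquiv, IsKleinFour.card_four],
         by rw [Monoid.exponent_eq_of_mulEquiv e, IsKleinFour.exponent_two]⟩)
      (show (⟨z, _⟩ : Subgroup.centralizer ({z} : Set G)) ∈
        (P : Subgroup G).subgroupOf (Subgroup.centralizer ({z} : Set G)) from w.2)
      (fun h => hz1 (congrArg Subtype.val h)) fun g => Subtype.ext ?_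
    exact Subgroup.mem_centralizer_singleton_iff.1 g.2
  have hint : ∀ ζ : Cfsg.IrrCharacter G, ∃ n : ℤ, (ζ : G → ℂ) z = (n : ℂ) := by
    intro ζ
    obtain ⟨d, ρ, hρ⟩ := irr_isCharacter ζ
    obtain ⟨ι, _, b, μ, hb, hμ⟩ := exists_eigenbasis (ρ z) (orderOf_pos z).ne'
      (by rw [← map_pow, pow_orderOf_eq_one, map_one])
    refine ⟨∑ i, (if μ i = 1 then (1 : ℤ) else -1), ?_⟩
    rw [← hρ]
    show LinearMap.trace ℂ _ (ρ z) = _
    rw [trace_eq_sum_eigen b (ρ z) μ hb]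
    push_cast
    refine Finset.sum_congr rfl fun i _ => ?_
    have h := hμ i
    rw [hz2] at h
    split_ifs with hi
    · exact hi
    · exact (sq_eq_one_iff.1 h).resolve_left hi
  choose n hn using hint
  have hinv : ∀ (ζ : Cfsg.IrrCharacter G) (t : G), orderOf t = 2 → (ζ : G → ℂ) t = (n ζ : ℂ) :=
    fun ζ t ht => (IsClassFunction.eq_of_isConj (irr_isClassFunction ζ) (hone z t hz2 ht)).symm.trans
      (hn ζ)
  have hzk : ∃ k : ℕ, orderOf z = 2 ^ k := ⟨1, by rw [hz2, pow_one]⟩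
  have h1reg : ¬ 2 ∣ orderOf (1 : Subgroup.centralizer ({z} : Set G)) := by simp
  -- the norm equation
  have hsq : ∑ ζ : Cfsg.IrrCharacter G,
      (if ζ ∈ Cfsg.principalBlock M G then n ζ ^ 2 else 0) = 4 := by
    have h := (Cfsg.Agent.S0947.result 2 M hM z hzk hz1 1 h1reg).2 hidx
    have hfac : (Nat.card (Subgroup.centralizer ({z} : Set G))).factorization 2 = 2 := by
      have h1 := Sylow.card_eq_multiplicity (P.subtype hPC)
      have h2 : Nat.card (P.subtype hPC) = 4 := by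
        show Nat.card ((P : Subgroup G).subgroupOf (Subgroup.centralizer ({z} : Set G))) = 4
        rw [Nat.card_congr (Subgroup.subgroupOfEquivOfLe hPC).toEquiv, IsKleinFour.card_four]
      rw [h2] at h1
      exact Nat.pow_right_injective le_rfl (h1.symm.trans (by norm_num : (4 : ℕ) = 2 ^ 2))
    rw [hfac, finsum_mem_def, finsum_eq_sum_of_fintype] at h
    have h' : ((∑ ζ : Cfsg.IrrCharacter G,
        if ζ ∈ Cfsg.principalBlock M G then n ζ ^ 2 else 0 : ℤ) : ℝ) = ((4 : ℤ) : ℝ) := by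
      push_cast
      refine Eq.trans ?_ (h.trans (by norm_num))
      refine Finset.sum_congr rfl fun ζ _ => ?_
      rw [Set.indicator_apply]
      split_ifs
      · rw [OneMemClass.coe_one, mul_one, hn, Complex.norm_intCast, sq_abs]
      · rfl
    exact_mod_cast h'
  -- no zero values
  have hne0 : ∀ ζ ∈ Cfsg.principalBlock M G, n ζ ≠ 0 := by
    intro ζ hζ h0
    have hvan : ∀ x : G, 2 ∣ orderOf x → (ζ : G → ℂ) x = 0 := by
      intro x hx
      obtain ⟨u, hu⟩ := exists_isPPart Nat.prime_two x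
      have hu1 := isPPart_ne_one hu hx
      obtain ⟨y, hxy, hc, huk, hy⟩ := hu
      have hu2 : orderOf u = 2 := by
        obtain ⟨Q, hQ⟩ := (isPGroup_zpowers_of_orderOf huk).exists_le_sylow
        obtain ⟨g, hg⟩ := MulAction.exists_smul_eq G Q P
        have hmem : g * u * g⁻¹ ∈ (P : Subgroup G) := by
          rw [← hg]
          exact ⟨u, hQ (Subgroup.mem_zpowers u), rfl⟩
        have hsq' : (g * u * g⁻¹) ^ 2 = 1 := by
          have := congrArg Subtype.val (IsKleinFour.mul_self (⟨_, hmem⟩ : (P : Subgroup G)))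
          rw [pow_two]
          simpa using this
        rw [conj_pow, conj_eq_one_iff] at hsq'
        exact orderOf_eq_prime hsq' hu1
      obtain ⟨g, hg⟩ := isConj_iff.1 (hone u z hu2 hz2)
      have hyC : g * y * g⁻¹ ∈ Subgroup.centralizer ({z} : Set G) := by
        rw [Subgroup.mem_centralizer_singleton_iff, ← hg]
        simp only [mul_assoc, inv_mul_cancel_left]
        rw [← mul_assoc y u, ← hc.eq, mul_assoc]
      haveI : (pPrimeCore 2 (Subgroup.centralizer ({z} : Set G))).Normal :=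
        (pPrimeCore_mem 2 (Subgroup.centralizer ({z} : Set G))).1
      obtain ⟨k, hk⟩ := hidx
      have hord : orderOf (g * y * g⁻¹) = orderOf y :=
        orderOf_injective (MulAut.conj g).toMonoidHom (MulAut.conj g).injective y
      have hmem : (⟨_, hyC⟩ : Subgroup.centralizer ({z} : Set G)) ∈
          pPrimeCore 2 (Subgroup.centralizer ({z} : Set G)) :=
        mem_of_index_eq_pow Nat.prime_two _ hk (by rwa [Subgroup.orderOf_mk, hord])
      have h := Cfsg.Agent.S0942.result 2 M hM z hzk (g * y * g⁻¹) ⟨⟨_, hyC⟩, hmem, rfl⟩ ζ hζ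
      rw [hn, h0, Int.cast_zero] at h
      rw [← hxy, ← irr_isClassFunction ζ (u * y) g, ← h, ← hg]
      congr 1
      group
    have hsingle := blockOf_eq_singleton hM ζ (not_dvd_card_div_of_vanish ζ hvan)
    have htriv : trivIrr G ∈ blockOf M (ζ : G → ℂ) := sameBlock_symm hζ
    rw [hsingle, Set.mem_singleton_iff] at htriv
    have h1 := hn ζ
    rw [← htriv, trivIrr_apply, htriv, h0] at h1
    norm_num at h1
  have hn1 : n (trivIrr G) = 1 := by
    have := hn (trivIrr G)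
    rw [trivIrr_apply] at this
    exact_mod_cast this.symm
  set B := Finset.univ.filter (fun ζ : Cfsg.IrrCharacter G => ζ ∈ Cfsg.principalBlock M G)
  have htB : trivIrr G ∈ B :=
    Finset.mem_filter.2 ⟨Finset.mem_univ _, self_mem_blockOf (trivIrr G)⟩
  set S := B.erase (trivIrr G)
  rw [← Finset.sum_filter, ← Finset.add_sum_erase _ _ htB, hn1] at hsq
  have hS : ∀ ζ ∈ S, ζ ∈ Cfsg.principalBlock M G := fun ζ h =>
    (Finset.mem_filter.1 (Finset.mem_of_mem_erase h)).2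
  have hge : ∀ ζ ∈ S, 1 ≤ n ζ ^ 2 := fun ζ h => by
    have := hne0 ζ (hS ζ h)
    rcases lt_or_gt_of_ne this with h' | h' <;> nlinarith
  have hpm : ∀ ζ ∈ S, n ζ = 1 ∨ n ζ = -1 := fun ζ h => by
    have h1 := Finset.single_le_sum (fun ξ hξ => (le_trans zero_le_one (hge ξ hξ))) h
    have hb : n ζ ^ 2 ≤ 3 := by linarith
    have : -2 < n ζ ∧ n ζ < 2 := ⟨by nlinarith, by nlinarith⟩
    have := hne0 ζ (hS ζ h)
    omega
  have hcard : S.card = 3 := by
    have h1 : ∑ ζ ∈ S, n ζ ^ 2 = (S.card : ℤ) := by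
      rw [Finset.card_eq_sum_ones]
      push_cast
      refine Finset.sum_congr rfl fun ζ h => ?_
      rcases hpm ζ h with h' | h' <;> simp [h']
    linarith
  have hdeg : ∀ ζ : Cfsg.IrrCharacter G,
      (4 : ℤ) ∣ (charDegree (ζ : G → ℂ) : ℤ) + 3 * n ζ := fun ζ =>
    four_dvd_degree_add ζ (P : Subgroup G) hP
      (by rw [← charDegree_eq ζ]; push_cast; rfl) (hinv ζ)
  have hort : ∀ y : G, ¬ 2 ∣ orderOf y → (1 : ℂ) + ∑ ζ ∈ S, (ζ : G → ℂ) y * (n ζ : ℂ) = 0 := by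
    intro y hy
    have h := finsum_regular_singular_eq_zero hM (isPBlock_principalBlock (G := G) (M := M))
      (g := y) (h := z) hy (by rw [hz2])
    rw [finsum_irr_eq_sum_ite, ← Finset.sum_filter, ← Finset.add_sum_erase _ _ htB] at h
    simpa [hn, hn1] using h
  -- choose the signs
  obtain ⟨ζ₄, h4, h4n⟩ : ∃ ζ ∈ S, n ζ = -1 := by
    by_contra hcon
    have h := hort 1 (by simp)
    have hS1 : ∀ ζ ∈ S, (ζ : G → ℂ) 1 * (n ζ : ℂ) = ((charDegree (ζ : G → ℂ) : ℕ) : ℂ) :=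
      fun ζ hζ => by
        rw [(hpm ζ hζ).resolve_right fun h' => hcon ⟨ζ, hζ, h'⟩, charDegree_eq]
        simp
    rw [Finset.sum_congr rfl hS1] at h
    have : (1 : ℕ) + ∑ ζ ∈ S, charDegree (ζ : G → ℂ) = 0 := by exact_mod_cast h
    omega
  obtain ⟨ζ₂, h2, h2n⟩ : ∃ ζ ∈ S, n ζ = 1 := by
    by_contra hcon
    have h := hort 1 (by simp)
    have hS1 : ∀ ζ ∈ S, (ζ : G → ℂ) 1 * (n ζ : ℂ) = -((charDegree (ζ : G → ℂ) : ℕ) : ℂ) :=
      fun ζ hζ => by
        rw [(hpm ζ hζ).resolve_left fun h' => hcon ⟨ζ, hζ, h'⟩, charDegree_eq]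
        simp
    rw [Finset.sum_congr rfl hS1, Finset.sum_neg_distrib, add_neg_eq_zero] at h
    have h' : ∑ ζ ∈ S, charDegree (ζ : G → ℂ) = 1 := by exact_mod_cast h.symm
    have hle := Finset.card_nsmul_le_sum S (fun ζ => charDegree (ζ : G → ℂ)) 1
      (fun ζ _ => charDegree_pos ζ)
    rw [smul_eq_mul, mul_one, h', hcard] at hle
    omega
  have h24 : ζ₂ ≠ ζ₄ := fun h => by rw [h, h4n] at h2n; norm_num at h2n
  obtain ⟨ζ₃, h3⟩ : ∃ ζ₃, ζ₃ ∈ (S.erase ζ₂).erase ζ₄ := by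
    apply Finset.card_pos.1
    rw [Finset.card_erase_of_mem (Finset.mem_erase.2 ⟨h24.symm, h4⟩), Finset.card_erase_of_mem h2,
      hcard]
    norm_num
  have h34 : ζ₃ ≠ ζ₄ := Finset.ne_of_mem_erase h3
  have h32 : ζ₃ ≠ ζ₂ := Finset.ne_of_mem_erase (Finset.mem_of_mem_erase h3)
  have h3S : ζ₃ ∈ S := Finset.mem_of_mem_erase (Finset.mem_of_mem_erase h3)
  have hSeq : S = {ζ₂, ζ₃, ζ₄} := by
    refine (Finset.eq_of_subset_of_card_le (fun ζ hζ => ?_) ?_).symm
    · simp only [Finset.mem_insert, Finset.mem_singleton] at hζ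
      rcases hζ with rfl | rfl | rfl <;> assumption
    · rw [hcard, Finset.card_insert_of_notMem (by simp [h32.symm, h24]),
        Finset.card_insert_of_notMem (by simp [h34]), Finset.card_singleton]
  have hnt : ∀ ζ ∈ S, (ζ : G → ℂ) ≠ fun _ => 1 := fun ζ h h' =>
    Finset.ne_of_mem_erase h (Subtype.ext h')
  refine ⟨ζ₂, ζ₃, ζ₄, n ζ₃, hpm ζ₃ h3S, hnt _ h2, hnt _ h3S, h32.symm, h24, h34, ?_,
    fun t ht => ⟨by rw [hinv _ t ht, h2n, Int.cast_one], hinv _ t ht,
      by rw [hinv _ t ht, h4n]; norm_num⟩, ?_, ?_, ?_, ?_⟩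
  · ext χ
    constructor
    · intro h
      by_cases hχ : χ = trivIrr G
      · exact Or.inl (hχ ▸ rfl)
      · have : χ ∈ S := Finset.mem_erase.2 ⟨hχ, Finset.mem_filter.2 ⟨Finset.mem_univ _, h⟩⟩
        rw [hSeq] at this
        exact Or.inr (by simpa using this)
    · rintro (h | h | h | h)
      · rw [show χ = trivIrr G from Subtype.ext h]; exact self_mem_blockOf (trivIrr G)
      · exact h ▸ hS _ h2
      · exact h ▸ hS _ h3S
      · exact h ▸ hS _ h4
  · have := hdeg ζ₂; omega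
  · have := hdeg ζ₃; omega
  · have := hdeg ζ₄; omega
  · intro y hy
    have h := hort y (fun hd => (Nat.not_even_iff_odd.2 hy) (even_iff_two_dvd.2 hd))
    rw [hSeq, Finset.sum_insert (by simp [h32.symm, h24]), Finset.sum_insert (by simp [h34]),
      Finset.sum_singleton, h2n, h4n] at h
    push_cast at h
    linear_combination h

end Cfsg.Agent.S0948
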