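import Cfsg.Statements.S0950
import Cfsg.Agent.Lib.Blocks.ThreePerm
import Cfsg.Agent.Lib.Transfer.Frobenius

set_option autoImplicit false
open Cfsg
open Cfsg.Agent.Lib.Blocks
open scoped ComplexConjugate

namespace Cfsg.Agent.S0950


lemma q8_facts : (∀ x y : QuaternionGroup 2, x ^ 2 = 1 → y ^ 2 = 1 → x ≠ 1 → y ≠ 1 → x = y) ∧
    (∀ x : QuaternionGroup 2, x ^ 2 ≠ 1 → x ^ 4 = 1 ∧
      (x = QuaternionGroup.a 1 ∨ x = (QuaternionGroup.a 1)⁻¹ ∨ x = QuaternionGroup.xa 0 ∨
        x = (QuaternionGroup.xa 0)⁻¹ ∨ x = QuaternionGroup.xa 1 ∨ x = (QuaternionGroup.xa 1)⁻¹)) := by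
  decide

/-- Generators of the three subgroups of order four. -/
def gens : Fin 3 → QuaternionGroup 2 :=
  ![QuaternionGroup.a 1, QuaternionGroup.xa 0, QuaternionGroup.xa 1]

lemma gens_spec : ∀ i : Fin 3, gens i ^ 2 ≠ 1 ∧ ∀ j : Fin 3, ∀ k : Fin 4, gens i = gens j ^ k.1 → i = j := by
  decide

/-- Let S be a Sylow 2-subgroup of the finite group G that is isomorphic to the quaternion group of order 8, and suppose S has no normal complement in G. Then any two subgroups of order 4 of S are conjugate by an element of the normalizer of S. -/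
theorem result {G : Type*} [Group G] [Finite G] (S : Sylow 2 G) (e : (S : Subgroup G) ≃* QuaternionGroup 2) (hnc : ∀ N : Subgroup G, N.Normal → ¬ Subgroup.IsComplement' N (S : Subgroup G)) (A B : Subgroup G) (hA : A ≤ S) (hB : B ≤ S) (hA4 : Nat.card A = 4) (hB4 : Nat.card B = 4) : ∃ n ∈ Subgroup.normalizer ((S : Subgroup G) : Set G), B = A.map (MulAut.conj n).toMonoidHom := by
  classical
  obtain ⟨hu, h4⟩ := q8_facts
  have hSC : ∀ (x : (S : Subgroup G)), (x : G) ^ 2 ≠ 1 → orderOf (x : G) = 4 := by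
    intro x hx
    have hx' : (e x) ^ 2 ≠ 1 := by
      rw [← map_pow, ne_eq, MulEquiv.map_eq_one_iff]
      exact fun h => hx (congrArg Subtype.val h)
    have h : (x : G) ^ 4 = 1 := by
      have := (h4 _ hx').1
      rw [← map_pow, MulEquiv.map_eq_one_iff] at this
      exact congrArg Subtype.val this
    exact orderOf_eq_prime_pow (p := 2) (n := 1) (by simpa using hx) (by simpa using h)
  have huS : ∀ x y : G, x ∈ (S : Subgroup G) → y ∈ (S : Subgroup G) → x ^ 2 = 1 → y ^ 2 = 1 →
      x ≠ 1 → y ≠ 1 → x = y := by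
    intro x y hx hy hx2 hy2 hx1 hy1
    refine congrArg Subtype.val (e.injective (hu (e ⟨x, hx⟩) (e ⟨y, hy⟩) ?_ ?_ ?_ ?_))
    · rw [← map_pow, MulEquiv.map_eq_one_iff]; exact Subtype.ext hx2
    · rw [← map_pow, MulEquiv.map_eq_one_iff]; exact Subtype.ext hy2
    · rw [ne_eq, MulEquiv.map_eq_one_iff]; exact fun h => hx1 (congrArg Subtype.val h)
    · rw [ne_eq, MulEquiv.map_eq_one_iff]; exact fun h => hy1 (congrArg Subtype.val h)
  have hcard8 : Nat.card (S : Subgroup G) = 8 := by
    rw [Nat.card_congr e.toEquiv, Nat.card_eq_fintype_card, QuaternionGroup.card]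
  have hcyc : ∀ Q : Subgroup G, Q ≤ (S : Subgroup G) → Q ≠ (S : Subgroup G) → ∃ x ∈ Q, Q = Subgroup.zpowers x ∧ orderOf x ≤ 4 := by
    intro Q hQ hne
    have hd := Subgroup.card_dvd_of_le hQ
    have hlt : Nat.card Q ≠ 8 := fun h => hne (Subgroup.eq_of_le_of_card_ge hQ (by rw [hcard8, h]))
    rw [hcard8] at hd
    have hle := Nat.le_of_dvd (by norm_num) hd
    by_cases hx : ∃ x ∈ Q, x ^ 2 ≠ 1
    · obtain ⟨x, hxQ, hx2⟩ := hx
      have ho := hSC ⟨x, hQ hxQ⟩ hx2
      refine ⟨x, hxQ, (Subgroup.eq_of_le_of_card_ge (Subgroup.zpowers_le.2 hxQ) ?_).symm, ho.le⟩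
      rw [Nat.card_zpowers]
      change orderOf x = 4 at ho
      interval_cases h : Nat.card Q <;> omega
    · push Not at hx
      by_cases h1 : ∃ x ∈ Q, x ≠ 1
      · obtain ⟨x, hxQ, hx1⟩ := h1
        refine ⟨x, hxQ, le_antisymm (fun y hy => ?_) (Subgroup.zpowers_le.2 hxQ), ?_⟩
        · by_cases hy1 : y = 1
          · rw [hy1]; exact one_mem _
          · rw [huS y x (hQ hy) (hQ hxQ) (hx y hy) (hx x hxQ) hy1 hx1]; exact Subgroup.mem_zpowers x
        · exact le_trans (Nat.le_of_dvd two_pos (orderOf_dvd_of_pow_eq_one (hx x hxQ))) (by norm_num)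
      · push Not at h1
        exact ⟨1, one_mem _, le_antisymm (fun y hy => by rw [h1 y hy]; exact one_mem _)
          (Subgroup.zpowers_le.2 (one_mem _)), by simp⟩
  -- an element of odd order fixing a cyclic subgroup of order at most four centralises it
  have hfix : ∀ (x g : G) (r : ℕ), Odd r → g ^ r = 1 → orderOf x ≤ 4 → orderOf x ∣ 8 →
      g ∈ Subgroup.normalizer (Subgroup.zpowers x : Set G) → g * x * g⁻¹ = x := by
    intro x g r hr hg hx4 hx8 hgN
    have hmem := (Subgroup.mem_normalizer_iff.1 hgN x).1 (Subgroup.mem_zpowers x)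
    obtain ⟨k, hk⟩ := (mem_powers_iff_mem_zpowers.2 hmem)
    simp only at hk
    have hsq : x ^ (k * k) = x ∧ g * (g * x * g⁻¹) * g⁻¹ = x ∨ g * x * g⁻¹ = x := by
      have hox : orderOf (g * x * g⁻¹) = orderOf x :=
        orderOf_injective (MulAut.conj g).toMonoidHom (MulAut.conj g).injective x
      by_cases h0 : k = 0
      · right
        rw [h0, pow_zero] at hk
        rw [conj_eq_one_iff.1 hk.symm]
        simp
      · rw [← hk, (orderOf_pow' x h0)] at hox
        rw [← hk]
        have hpos := orderOf_pos x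
        have key : ∀ o : ℕ, o ≤ 4 → o ∣ 8 → ∀ k : Fin 4, k.1 < o → o / Nat.gcd o k.1 = o →
            k.1 * k.1 % o = 1 % o := by decide
        have hk' : x ^ k = x ^ (k % orderOf x) := (pow_mod_orderOf x k).symm
        left
        refine ⟨?_, ?_⟩
        · conv_rhs => rw [← pow_one x]
          rw [pow_eq_pow_iff_modEq]
          show k * k % _ = 1 % _
          have h' := key (orderOf x) hx4 hx8 ⟨k % orderOf x, lt_of_lt_of_le (Nat.mod_lt _ hpos) hx4⟩
            (Nat.mod_lt _ hpos) (by rw [Nat.gcd_comm, ← Nat.gcd_rec, hox])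
          rwa [Nat.mul_mod]
        · rw [← conj_pow, ← hk, ← pow_mul]
          conv_rhs => rw [← pow_one x]
          rw [pow_eq_pow_iff_modEq]
          show k * k % _ = 1 % _
          have h' := key (orderOf x) hx4 hx8 ⟨k % orderOf x, lt_of_lt_of_le (Nat.mod_lt _ hpos) hx4⟩
            (Nat.mod_lt _ hpos) (by rw [Nat.gcd_comm, ← Nat.gcd_rec, hox])
          rwa [Nat.mul_mod]
    rcases hsq with ⟨-, h2⟩ | h2
    · obtain ⟨j, rfl⟩ := hr
      have hc2 : Commute (g ^ 2) x := mul_inv_eq_iff_eq_mul.1 (by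
        refine Eq.trans ?_ h2
        rw [pow_two]; group)
      have hg1 : g = (g ^ 2) ^ (j + 1) := by
        rw [← pow_mul, show 2 * (j + 1) = 2 * j + 1 + 1 by ring, pow_succ, hg, one_mul]
      rw [hg1, (hc2.pow_left _).eq, mul_inv_cancel_right]
    · exact h2
  -- some element of odd order normalises, but does not centralise, S
  obtain ⟨g, hgN, hgo, hgC⟩ : ∃ g ∈ Subgroup.normalizer ((S : Subgroup G) : Set G),
      Nat.Coprime (orderOf g) 2 ∧ g ∉ Subgroup.centralizer ((S : Subgroup G) : Set G) := by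
    by_contra hcon
    push Not at hcon
    obtain ⟨P', N, hN, hc⟩ := Cfsg.Agent.Lib.Transfer.hasNormalPComplement_of_frobenius S
      (fun Q hQ g hg hgo => by
        by_cases hQS : Q = (S : Subgroup G)
        · subst hQS; exact hcon g hg hgo
        obtain ⟨x, hxQ, rfl, hx4⟩ := hcyc Q hQ hQS
        have hx8 : orderOf x ∣ 8 := by
          rw [← hcard8, ← Nat.card_zpowers]
          exact Subgroup.card_dvd_of_le hQ
        have hc := hfix x g (orderOf g) (Nat.coprime_two_right.1 hgo) (pow_orderOf_eq_one g) hx4 hx8 hg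
        intro y hy
        obtain ⟨i, rfl⟩ := Subgroup.mem_zpowers_iff.1 hy
        exact ((show Commute g x from mul_inv_eq_iff_eq_mul.1 hc).zpow_right i).eq.symm)
    refine hnc N hN ?_
    obtain ⟨c, hc'⟩ := MulAction.exists_smul_eq G P' S
    rw [← hc']
    have hdisj : N ⊓ ((c • P' : Sylow 2 G) : Subgroup G) = ⊥ := by
      rw [eq_bot_iff]
      rintro y ⟨hyN, hyP⟩
      obtain ⟨w, hw, rfl⟩ := hyP
      have hwN : w ∈ N := by
        have := hN.conj_mem _ hyN c⁻¹
        simpa [mul_assoc] using this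
      have := Subgroup.disjoint_def.1 hc.disjoint hwN hw
      simp [this]
    refine Subgroup.isComplement'_of_card_mul_and_disjoint ?_ (disjoint_iff.2 hdisj)
    have h := hc.card_mul_card
    rwa [show Nat.card ((c • P' : Sylow 2 G) : Subgroup G) = Nat.card (P' : Subgroup G) from
      Subgroup.card_map_of_injective (MulAut.conj c).injective]
  have hodd : Odd (orderOf g) := Nat.coprime_two_right.1 hgo
  let T := {Q : Subgroup G // Q ≤ (S : Subgroup G) ∧ Nat.card Q = 4}
  let mk : Fin 3 → T := fun i => ⟨Subgroup.zpowers ((e.symm (gens i) : (S : Subgroup G)) : G),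
    Subgroup.zpowers_le.2 (SetLike.coe_mem _), by
      rw [Nat.card_zpowers]
      refine hSC _ (fun h => (gens_spec i).1 ?_)
      have h' : (e.symm (gens i)) ^ 2 = 1 := Subtype.ext h
      rwa [← map_pow, MulEquiv.map_eq_one_iff] at h'⟩
  have hmk : Function.Bijective mk := by
    constructor
    · intro i j hij
      have hm : ((e.symm (gens i) : (S : Subgroup G)) : G) ∈
          Subgroup.zpowers ((e.symm (gens j) : (S : Subgroup G)) : G) :=
        by
        have h' : Subgroup.zpowers ((e.symm (gens i) : (S : Subgroup G)) : G) =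
            Subgroup.zpowers ((e.symm (gens j) : (S : Subgroup G)) : G) := congrArg Subtype.val hij
        rw [← h']; exact Subgroup.mem_zpowers _
      obtain ⟨k, hk⟩ := mem_powers_iff_mem_zpowers.2 hm
      simp only at hk
      have ho : orderOf ((e.symm (gens j) : (S : Subgroup G)) : G) = 4 := by
        rw [← Nat.card_zpowers]; exact (mk j).2.2
      rw [← pow_mod_orderOf, ho] at hk
      have h' : e.symm (gens j) ^ (k % 4) = e.symm (gens i) := Subtype.ext hk
      rw [← map_pow] at h'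
      exact (gens_spec i).2 j ⟨k % 4, Nat.mod_lt _ (by norm_num)⟩ (e.symm.injective h').symm
    · rintro ⟨Q, hQ, hQ4⟩
      obtain ⟨x, hxQ, rfl, -⟩ := hcyc Q hQ (fun h => by rw [h, hcard8] at hQ4; norm_num at hQ4)
      have hx2 : (e ⟨x, hQ hxQ⟩) ^ 2 ≠ 1 := by
        rw [← map_pow, ne_eq, MulEquiv.map_eq_one_iff]
        intro h
        have := Nat.le_of_dvd two_pos (orderOf_dvd_of_pow_eq_one (congrArg Subtype.val h :))
        change orderOf x ≤ 2 at this
        rw [Nat.card_zpowers] at hQ4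
        omega
      have hz : ∀ w : QuaternionGroup 2, e ⟨x, hQ hxQ⟩ = w ∨ e ⟨x, hQ hxQ⟩ = w⁻¹ →
          Subgroup.zpowers ((e.symm w : (S : Subgroup G)) : G) = Subgroup.zpowers x := by
        rintro w (hw | hw)
        · rw [← hw, e.symm_apply_apply]
        · rw [← inv_inv w, ← hw, map_inv, e.symm_apply_apply, Subgroup.coe_inv, Subgroup.zpowers_inv]
      rcases (h4 _ hx2).2 with h | h | h | h | h | h
      · exact ⟨0, Subtype.ext (hz _ (Or.inl h))⟩
      · exact ⟨0, Subtype.ext (hz _ (Or.inr h))⟩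
      · exact ⟨1, Subtype.ext (hz _ (Or.inl h))⟩
      · exact ⟨1, Subtype.ext (hz _ (Or.inr h))⟩
      · exact ⟨2, Subtype.ext (hz _ (Or.inl h))⟩
      · exact ⟨2, Subtype.ext (hz _ (Or.inr h))⟩
  haveI : Finite T := Finite.of_surjective _ hmk.2
  let φf : T → T := fun Q => ⟨Q.1.map (MulAut.conj g).toMonoidHom, by
      intro y hy
      obtain ⟨w, hw, rfl⟩ := hy
      exact (Subgroup.mem_normalizer_iff.1 hgN w).1 (Q.2.1 hw),
    (Subgroup.card_map_of_injective (MulAut.conj g).injective).trans Q.2.2⟩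
  have hφi : Function.Injective φf := fun Q R h =>
    Subtype.ext (Subgroup.map_injective (MulAut.conj g).injective (congrArg Subtype.val h))
  let φ : Equiv.Perm T := Equiv.ofBijective φf ((Finite.injective_iff_bijective).1 hφi)
  have hit : ∀ (i : ℕ) (Q : T), ((φ ^ i) Q).1 = Q.1.map (MulAut.conj (g ^ i)).toMonoidHom := by
    intro i Q
    induction i with
    | zero => ext y; simp
    | succ i ih =>
      rw [pow_succ', Equiv.Perm.mul_apply]
      show ((φ ^ i) Q).1.map _ = _
      rw [ih, Subgroup.map_map]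
      congr 1
      ext y
      simp [pow_succ', mul_assoc]
  have hpow : φ ^ orderOf g = 1 := Equiv.ext fun Q => Subtype.ext (by
    rw [hit, pow_orderOf_eq_one]
    ext y; simp)
  rcases perm_three_odd (Equiv.ofBijective mk hmk).symm φ hodd hpow with h | h
  · exfalso
    refine hgC fun y hy => ?_
    by_cases hy2 : y ^ 2 = 1
    · by_cases hy1 : y = 1
      · simp [hy1]
      have hy' : (g * y * g⁻¹) ^ 2 = 1 := by rw [conj_pow, hy2, mul_one, mul_inv_cancel]
      have := huS _ y ((Subgroup.mem_normalizer_iff.1 hgN y).1 hy) hy hy' hy2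
        (by rwa [ne_eq, conj_eq_one_iff]) hy1
      exact (mul_inv_eq_iff_eq_mul.1 this).symm
    · have ho := hSC ⟨y, hy⟩ hy2
      change orderOf y = 4 at ho
      let Q : T := ⟨Subgroup.zpowers y, Subgroup.zpowers_le.2 hy, by rw [Nat.card_zpowers, ho]⟩
      have hQ : (Subgroup.zpowers y).map (MulAut.conj g).toMonoidHom = Subgroup.zpowers y :=
        congrArg Subtype.val (show φ Q = Q by rw [h]; rfl)
      exact (mul_inv_eq_iff_eq_mul.1 (hfix y g (orderOf g) hodd (pow_orderOf_eq_one g) ho.le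
        (by rw [ho]; norm_num) (Subgroup.mem_normalizer_iff_map_conj_eq.2 hQ))).symm
  · obtain ⟨-, hc⟩ := h ⟨A, hA, hA4⟩ ⟨B, hB, hB4⟩
    rcases hc with hc | hc | hc
    · exact ⟨g, hgN, (congrArg Subtype.val hc).symm⟩
    · refine ⟨g ^ 2, pow_mem hgN 2, ?_⟩
      exact (congrArg Subtype.val hc).symm.trans (hit 2 ⟨A, hA, hA4⟩)
    · refine ⟨1, one_mem _, ?_⟩
      refine (congrArg Subtype.val hc).symm.trans ?_
      ext y; simp

end Cfsg.Agent.S0950
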