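import Cfsg.Statements.S1181
import Cfsg.Agent.Lib.Involutions.Isolated
-- Template for statement S1181 (row 1181; see /opt/grader/pristine/manifest.json for weights).
-- Copy to Cfsg/Agent/S1181.lean and replace the sorry. The statement below is byte-identical to the frozen
-- statement Cfsg.CfsgFrozen.S1181 (Cfsg/Statements/S1181.lean; the theorem Cfsg.isolated_involution_quotient);
-- the grader kernel-checks Cfsg.Agent.S1181.result against that frozen type. Keep the theorem IN THIS FILE
-- (a `result` declared elsewhere and merely imported here is not credited); helpers may live anywhere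
-- under Cfsg/Agent/.
-- import your own Cfsg.Agent.* helpers here

set_option autoImplicit false
open Cfsg

namespace Cfsg.Agent.S1181

open Cfsg.Agent.Lib.Involutions

/-- Let z be an isolated involution of the finite group G and N a normal subgroup with z ∉ N. Then the centralizer of zN in G/N is the image of C_G(z), and zN is an isolated involution of G/N. -/
theorem result {G : Type*} [Group G] [Finite G] (z : G) (hz : Cfsg.IsIsolatedInvolution z) (N : Subgroup G) [N.Normal] (hzN : z ∉ N) : Subgroup.centralizer ({(QuotientGroup.mk z : G ⧸ N)} : Set (G ⧸ N)) = (Subgroup.centralizer ({z} : Set G)).map (QuotientGroup.mk' N) ∧ Cfsg.IsIsolatedInvolution (QuotientGroup.mk z : G ⧸ N) := by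
  have hz2 : orderOf (QuotientGroup.mk z : G ⧸ N) = 2 := by
    refine orderOf_eq_two_of_mul_self ?_ fun h => hzN ((QuotientGroup.eq_one_iff z).1 h)
    rw [← QuotientGroup.mk_mul, invol_mul_self hz.1, QuotientGroup.mk_one]
  have key : ∀ g : G, Commute (QuotientGroup.mk z : G ⧸ N) (QuotientGroup.mk (g * z * g⁻¹)) →
      z * (g * z * g⁻¹) ∈ N := fun g hc => by
    have hodd : Odd (orderOf (QuotientGroup.mk (z * (g * z * g⁻¹)) : G ⧸ N)) :=
      (odd_mul_conj hz g).of_dvd_nat (orderOf_map_dvd (QuotientGroup.mk' N) _)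
    have ht : (QuotientGroup.mk (g * z * g⁻¹) : G ⧸ N) * QuotientGroup.mk (g * z * g⁻¹) = 1 := by
      rw [← QuotientGroup.mk_mul, invol_mul_self (by rw [orderOf_conj_eq, hz.1]),
        QuotientGroup.mk_one]
    have h2 : (QuotientGroup.mk (z * (g * z * g⁻¹)) : G ⧸ N) ^ 2 = 1 := by
      rw [QuotientGroup.mk_mul, hc.mul_pow, sq, sq, invol_mul_self hz2, ht, one_mul]
    have h1 : orderOf (QuotientGroup.mk (z * (g * z * g⁻¹)) : G ⧸ N) = 1 := by
      rcases (Nat.dvd_prime Nat.prime_two).1 (orderOf_dvd_of_pow_eq_one h2) with h | h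
      · exact h
      · rw [h] at hodd; exact absurd hodd (by decide)
    rwa [orderOf_eq_one_iff, QuotientGroup.eq_one_iff] at h1
  refine ⟨le_antisymm ?_ ?_, hz2, ?_⟩
  · intro x hx
    obtain ⟨g, rfl⟩ := QuotientGroup.mk_surjective x
    rw [Subgroup.mem_centralizer_singleton_iff] at hx
    have hzg : (QuotientGroup.mk (g * z * g⁻¹) : G ⧸ N) = QuotientGroup.mk z := by
      rw [QuotientGroup.mk_mul, QuotientGroup.mk_mul, hx, QuotientGroup.mk_inv, mul_inv_cancel_right]
    have hN := key g (by rw [hzg])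
    obtain ⟨m, hm⟩ := odd_mul_conj hz g
    set d := (z * (g * z * g⁻¹)) ^ (m : ℤ) with hd
    have hdc := conj_of_orderOf_mul_odd hz.1 (by rw [orderOf_conj_eq, hz.1]) hm
    rw [← hd] at hdc
    refine ⟨d⁻¹ * g, ?_, ?_⟩
    · rw [SetLike.mem_coe, Subgroup.mem_centralizer_singleton_iff]
      rw [mul_inv_eq_iff_eq_mul] at hdc
      calc d⁻¹ * g * z = d⁻¹ * (g * z * g⁻¹ * d) * d⁻¹ * g := by group
        _ = z * (d⁻¹ * g) := by rw [← hdc]; group
    · rw [QuotientGroup.mk'_apply, QuotientGroup.mk_mul, (QuotientGroup.eq_one_iff _).2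
        (inv_mem (hd ▸ zpow_mem hN _)), one_mul]
  · rintro _ ⟨g, hg, rfl⟩
    rw [SetLike.mem_coe, Subgroup.mem_centralizer_singleton_iff] at hg
    rw [Subgroup.mem_centralizer_singleton_iff, QuotientGroup.mk'_apply, ← QuotientGroup.mk_mul,
      hg, QuotientGroup.mk_mul]
  · intro x hx
    obtain ⟨g, rfl⟩ := QuotientGroup.mk_surjective x
    rw [← QuotientGroup.mk_inv, ← QuotientGroup.mk_mul, ← QuotientGroup.mk_mul] at hx ⊢
    have h1 := (QuotientGroup.eq_one_iff _).2 (key g hx)
    rw [QuotientGroup.mk_mul, mul_eq_one_iff_eq_inv'] at h1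
    rw [h1, invol_inv hz2]

end Cfsg.Agent.S1181
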