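import Cfsg.Statements.S0985
import Mathlib.GroupTheory.Sylow
import Mathlib.Tactic

set_option autoImplicit false
open Cfsg

namespace Cfsg.Agent.S0985

/-- If the number of Sylow p-subgroups of a finite group is not congruent to 1 modulo p^k, then there are two distinct Sylow p-subgroups P and R such that the index of P ∩ R in P is at most p^(k-1). -/
theorem result {G : Type*} [Group G] [Finite G] (p k : ℕ) [Fact p.Prime] (h : ¬ Nat.card (Sylow p G) ≡ 1 [MOD p ^ k]) : ∃ P R : Sylow p G, P ≠ R ∧ ((R : Subgroup G).subgroupOf (P : Subgroup G)).index ≤ p ^ (k - 1) := by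
  classical
  have hp := Fact.out (p := p.Prime)
  by_contra hcon
  push_neg at hcon
  apply h
  rcases Nat.eq_zero_or_pos k with rfl | hk
  · rw [pow_zero]; exact Nat.modEq_one
  obtain ⟨P⟩ : Nonempty (Sylow p G) := inferInstance
  haveI : Fintype (MulAction.orbitRel.Quotient (P : Subgroup G) (Sylow p G)) := Fintype.ofFinite _
  have key : ∀ R : Sylow p G, R ≠ P → p ^ k ∣ Nat.card (MulAction.orbit (P : Subgroup G) R) := by
    intro R hR
    have hidx : Nat.card (MulAction.orbit (P : Subgroup G) R) = ((R : Subgroup G).subgroupOf P).index := by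
      rw [Nat.card_congr (MulAction.orbitEquivQuotientStabilizer _ R), ← Subgroup.index]
      congr 1
      ext ⟨x, hx⟩
      rw [MulAction.mem_stabilizer_iff, Subgroup.mem_subgroupOf]
      show x • R = R ↔ x ∈ (R : Subgroup G)
      rw [Sylow.smul_eq_iff_mem_normalizer]
      refine ⟨fun h => ?_, fun h => Subgroup.le_normalizer h⟩
      have : x ∈ (P : Subgroup G) ⊓ Subgroup.normalizer ((R : Subgroup G) : Set G) := ⟨hx, h⟩
      rw [Sylow.coe_coe, P.isPGroup'.inf_normalizer_sylow R] at this
      exact this.2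
    rw [hidx]
    obtain ⟨j, hj⟩ := P.isPGroup'.index ((R : Subgroup G).subgroupOf P)
    have := hcon P R hR.symm
    rw [hj] at this ⊢
    have := (Nat.pow_lt_pow_iff_right hp.one_lt).1 this
    exact pow_dvd_pow p (by omega)
  haveI : Fintype (Sylow p G) := Fintype.ofFinite _
  rw [Nat.card_congr (MulAction.selfEquivSigmaOrbits (P : Subgroup G) (Sylow p G)), Nat.card_sigma]
  have h1 : MulAction.orbit (P : Subgroup G) P = {P} := by
    ext R
    constructor
    · rintro ⟨x, rfl⟩
      exact Sylow.smul_eq_iff_mem_normalizer.2 (Subgroup.le_normalizer x.2)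
    · rintro rfl; exact MulAction.mem_orbit_self _
  let ω₀ : MulAction.orbitRel.Quotient (P : Subgroup G) (Sylow p G) := Quotient.mk'' P
  rw [← Finset.sum_erase_add _ _ (Finset.mem_univ ω₀)]
  have h2 : Nat.card (MulAction.orbit (P : Subgroup G) ω₀.out) = 1 := by
    have : MulAction.orbit (P : Subgroup G) ω₀.out = MulAction.orbit (P : Subgroup G) P := by
      rw [MulAction.orbit_eq_iff]
      exact MulAction.orbitRel_apply.1 (Quotient.exact (Quotient.out_eq ω₀))
    rw [this, h1]
    simp
  rw [h2]
  have h3 : p ^ k ∣ ∑ ω ∈ Finset.univ.erase ω₀, Nat.card (MulAction.orbit (P : Subgroup G) ω.out) := by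
    refine Finset.dvd_sum fun ω hω => key _ (fun h => ?_)
    apply (Finset.mem_erase.1 hω).1
    rw [← Quotient.out_eq ω, h]
  exact (Nat.modEq_zero_iff_dvd.2 h3).add_right 1

end Cfsg.Agent.S0985
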