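import Cfsg.Statements.S1951
import Cfsg.Agent.Lib.Characters.PairCount.Local
import Cfsg.Agent.Lib.Characters.RealVector.Algebra
import Cfsg.Agent.Lib.Components.Transport

/-!
Two elements of order `p` generate a group which is abelian modulo a `p'`-group, so for fixed `u`
at most one generator of each subgroup of order `p` gives a `p`-regular product with `u`.  The
principal block makes the number of `p`-singular products too small for odd `p`.
-/

set_option autoImplicit false
set_option linter.unusedSectionVars false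
open Cfsg

namespace Cfsg.Agent.S1951

open Cfsg.Agent.Lib.Characters Cfsg.Agent.Lib.Blocks Cfsg.Agent.Lib.Cores
open Cfsg.Agent.Lib.Characters.PairCount
open Cfsg.Agent.Lib.BlockHeights (irr_apply_one charDegree_irr_pos charDegree_trivIrr)
open scoped ComplexConjugate

universe u

section

variable {G : Type u} [Group G] [Finite G] {p : ℕ} [Fact p.Prime]

theorem map_centralizer (g x : G) :
    (Subgroup.centralizer ({x} : Set G)).map (MulAut.conj g).toMonoidHom =
      Subgroup.centralizer ({g * x * g⁻¹} : Set G) := by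
  ext y
  rw [Subgroup.mem_centralizer_singleton_iff]
  constructor
  · rintro ⟨c, hc, rfl⟩
    have h : c * x = x * c := Subgroup.mem_centralizer_singleton_iff.1 hc
    show g * c * g⁻¹ * (g * x * g⁻¹) = g * x * g⁻¹ * (g * c * g⁻¹)
    rw [show g * c * g⁻¹ * (g * x * g⁻¹) = g * (c * x) * g⁻¹ by group, h]; group
  · intro h
    refine ⟨g⁻¹ * y * g, Subgroup.mem_centralizer_singleton_iff.2 ?_, by simp [mul_assoc]⟩
    calc g⁻¹ * y * g * x = g⁻¹ * (y * (g * x * g⁻¹)) * g := by group
      _ = g⁻¹ * ((g * x * g⁻¹) * y) * g := by rw [h]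
      _ = x * (g⁻¹ * y * g) := by group

theorem core_equiv {A B : Type u} [Group A] [Group B] [Finite A] [Finite B] (e : A ≃* B) :
    (pPrimeCore p B).index = (pPrimeCore p A).index ∧
      Nat.card (pPrimeCore p B) = Nat.card (pPrimeCore p A) := by
  rw [← Cfsg.Agent.Lib.Components.map_pPrimeCore_mulEquiv p e]
  exact ⟨Subgroup.index_map_equiv _ e, Subgroup.card_map_of_injective e.injective⟩

theorem transport (g x : G) :
    (pPrimeCore p (Subgroup.centralizer ({g * x * g⁻¹} : Set G))).index =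
      (pPrimeCore p (Subgroup.centralizer ({x} : Set G))).index ∧
    Nat.card (pPrimeCore p (Subgroup.centralizer ({g * x * g⁻¹} : Set G))) =
      Nat.card (pPrimeCore p (Subgroup.centralizer ({x} : Set G))) :=
  core_equiv (((MulAut.conj g).subgroupMap (Subgroup.centralizer ({x} : Set G))).trans
    (MulEquiv.subgroupCongr (map_centralizer g x)))

end

theorem eq_two {G : Type u} [Group G] [Finite G] [IsSimpleGroup G] {p : ℕ} [Fact p.Prime] (P : Sylow p G)
    (hP1 : (P : Subgroup G) ≠ ⊥) (hPe : Cfsg.IsElementaryAbelian p (P : Subgroup G))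
    (hconj : ∀ x ∈ (P : Subgroup G), ∀ y ∈ (P : Subgroup G), x ≠ 1 → y ≠ 1 → ∃ g : G, g * x * g⁻¹ = y)
    (hb : ∀ x ∈ (P : Subgroup G), orderOf x = p → Cfsg.HasNormalPComplement p ↥(Subgroup.centralizer ({x} : Set G)))
    (hc : ∀ x y : G, orderOf x = p → orderOf y = p → Cfsg.IsPSolvable p ↥(Subgroup.closure ({x, y} : Set G))) :
    p = 2 := by
  classical
  haveI := Fintype.ofFinite G
  haveI := Fintype.ofFinite (IrrCharacter G)
  by_contra hp2
  have hp : p.Prime := Fact.out
  have hp3 : 3 ≤ p := by have := hp.two_le; omega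
  obtain ⟨x, hx, hx1⟩ := (Subgroup.bot_or_exists_ne_one _).resolve_left hP1
  have hxo : orderOf x = p := orderOf_eq_prime (hPe.2 x hx) hx1
  -- one class
  have toP : ∀ z : G, orderOf z = p → ∃ g : G, g * x * g⁻¹ = z := by
    intro z hz
    obtain ⟨Q, hQ⟩ := (IsPGroup.of_card (G := Subgroup.zpowers z) (n := 1)
      (by rw [Nat.card_zpowers, hz, pow_one])).exists_le_sylow
    obtain ⟨a, ha⟩ := MulAction.exists_smul_eq G P Q
    have hz' : z ∈ ((a • P : Sylow p G) : Subgroup G) := ha ▸ hQ (Subgroup.mem_zpowers z)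
    rw [Sylow.smul_def, Sylow.pointwise_smul_def] at hz'
    obtain ⟨w, hw, hwz⟩ := hz'
    replace hwz : a * w * a⁻¹ = z := hwz
    have hw1 : w ≠ 1 := by
      rintro rfl
      rw [mul_one, mul_inv_cancel] at hwz
      rw [← hwz, orderOf_one] at hz
      exact hp.ne_one hz.symm
    obtain ⟨b, hb'⟩ := hconj x hx w hw hx1 hw1
    exact ⟨a * b, by rw [← hwz, ← hb']; group⟩
  obtain ⟨S, hS⟩ := index_of_complement (hb x hx hxo)
  set k := (pPrimeCore p (Subgroup.centralizer ({x} : Set G))).index with hk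
  have hab : IsMulCommutative ↥(P : Subgroup G) := hPe.1
  have hPC : (P : Subgroup G) ≤ Subgroup.centralizer ({x} : Set G) := fun y hy =>
    Subgroup.mem_centralizer_singleton_iff.2
      (congrArg Subtype.val (mul_comm' (⟨y, hy⟩ : (P : Subgroup G)) ⟨x, hx⟩))
  have hkP : k = Nat.card (P : Subgroup G) := by
    rw [hS, S.card_eq_multiplicity, P.card_eq_multiplicity]
    congr 1
    have h1 := Subgroup.card_subgroup_dvd_card (Subgroup.centralizer ({x} : Set G))
    have h2 := (hp.pow_dvd_iff_le_factorization Nat.card_pos.ne').1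
      ((P.card_eq_multiplicity ▸ Subgroup.card_dvd_of_le hPC :
        p ^ (Nat.card G).factorization p ∣ Nat.card (Subgroup.centralizer ({x} : Set G))))
    exact le_antisymm ((hp.pow_dvd_iff_le_factorization Nat.card_pos.ne').1
      ((Nat.ordProj_dvd _ p).trans h1)) h2
  obtain ⟨a, hka⟩ : ∃ a, k = p ^ a := ⟨_, hS.trans S.2.exists_card_eq.choose_spec⟩
  set q := Nat.card (P : Subgroup G) with hq
  have hqp : p ≤ q := Nat.le_of_dvd Nat.card_pos
    (hxo ▸ (by rw [← Nat.card_zpowers]; exact Subgroup.card_dvd_of_le (Subgroup.zpowers_le.2 hx)))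
  have hidx : ∀ z : G, orderOf z = p →
      ∃ m, (pPrimeCore p (Subgroup.centralizer ({z} : Set G))).index = p ^ m := by
    intro z hz
    obtain ⟨g, rfl⟩ := toP z hz
    exact ⟨a, by rw [(transport g x).1, ← hk, hka]⟩
  have hκ : ∀ z : G, orderOf z = p → Nat.card (core p z) =
      Nat.card (pPrimeCore p (Subgroup.centralizer ({x} : Set G))) := by
    intro z hz
    obtain ⟨g, rfl⟩ := toP z hz
    rw [card_core, (transport g x).2]
  obtain ⟨M, hM⟩ := exists_isPModular hp
  haveI := isPrime_of_isPModular hM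
  have hne : (ordP G p).Nonempty := ⟨x, mem_ordP.2 hxo⟩
  obtain ⟨hf, hsq, hdeg, hineq⟩ :=
    inequality hM (pairOK_of_isPSolvable P hab hc) hidx hκ hne
  set f := frac G p (Nat.card (pPrimeCore p (Subgroup.centralizer ({x} : Set G)))) with hfdef
  set B := Finset.univ.filter fun χ : IrrCharacter G => χ ∈ principalBlock M G with hB
  have hmean : ∀ χ : IrrCharacter G, mean p χ = (χ : G → ℂ) x := by
    intro χ
    rw [mean, Finset.sum_congr rfl (g := fun _ => (χ : G → ℂ) x) fun z hz => ?_, Finset.sum_const,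
      nsmul_eq_mul, ← mul_assoc, inv_mul_cancel₀ (Nat.cast_ne_zero.2 (Finset.card_pos.2 hne).ne'), one_mul]
    obtain ⟨g, rfl⟩ := toP z (mem_ordP.1 hz)
    exact irr_isClassFunction χ x g
  -- values are integers `d`, congruent to the degree modulo `q`
  have hint : ∀ χ : IrrCharacter G, ∃ d : ℤ, (χ : G → ℂ) x = d ∧
      ((q : ℤ) ∣ (charDegree (χ : G → ℂ) : ℤ) - d) := by
    intro χ
    haveI := Fintype.ofFinite (P : Subgroup G)
    obtain ⟨a0, ha0⟩ := IsCharacter.exists_classInner_nat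
      (IsCharacter.comp (irr_isCharacter χ) (P : Subgroup G).subtype)
      (irr_isCharacter (trivIrr (P : Subgroup G)))
    rw [classInner, ← hq] at ha0
    have hsum : ∑ y : (P : Subgroup G), (χ : G → ℂ) (y : G) * conj ((trivIrr (P : Subgroup G) : ↥(P : Subgroup G) → ℂ) y) =
        (charDegree (χ : G → ℂ) : ℂ) + ((q : ℂ) - 1) * (χ : G → ℂ) x := by
      rw [← Finset.add_sum_erase _ _ (Finset.mem_univ 1)]
      rw [Finset.sum_congr rfl (g := fun _ => (χ : G → ℂ) x) fun y hy => ?_, Finset.sum_const,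
        Finset.card_erase_of_mem (Finset.mem_univ 1), Finset.card_univ, ← Nat.card_eq_fintype_card,
        nsmul_eq_mul, ← hq, Nat.cast_sub (by omega : 1 ≤ q), Nat.cast_one]
      · simp [irr_apply_one]
      · obtain ⟨g, hg⟩ := hconj x hx y y.2 hx1 (fun h => (Finset.mem_erase.1 hy).1 (Subtype.ext h))
        rw [trivIrr_apply, map_one, mul_one, ← hg]
        exact irr_isClassFunction χ x g
    have hq0 : (q : ℂ) ≠ 0 := Nat.cast_ne_zero.2 (by omega)
    have hq1 : (q : ℂ) - 1 ≠ 0 := by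
      rw [sub_ne_zero]; exact_mod_cast (show q ≠ 1 by omega)
    have e : (q : ℂ) * (a0 : ℂ) = (charDegree (χ : G → ℂ) : ℂ) + ((q : ℂ) - 1) * (χ : G → ℂ) x := by
      rw [← hsum, ← ha0, ← mul_assoc, mul_inv_cancel₀ hq0, one_mul]
      rfl
    have hrat : (χ : G → ℂ) x = (((((q : ℤ) * a0 - (charDegree (χ : G → ℂ) : ℤ) : ℤ) : ℚ) / ((q : ℚ) - 1) : ℚ) : ℂ) := by
      push_cast
      rw [eq_div_iff hq1]
      linear_combination -e
    obtain ⟨d, hd⟩ := RealVector.exists_int_of_isIntegral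
      (hrat ▸ IsCharacter.isIntegral (irr_isCharacter χ) x)
    have hd' : (χ : G → ℂ) x = (d : ℂ) := by rw [hrat, hd]; simp
    refine ⟨d, hd', ?_⟩
    rw [hd'] at e
    have e' : (q : ℤ) * a0 = (charDegree (χ : G → ℂ) : ℤ) + ((q : ℤ) - 1) * d := by exact_mod_cast e
    exact ⟨(a0 : ℤ) - d, by linarith⟩
  choose d hd hdvd using hint
  have hre : ∀ χ : IrrCharacter G, (mean p χ).re = (d χ : ℝ) := fun χ => by rw [hmean, hd]; simp
  simp only [hre] at hsq hdeg hineq
  -- `f = 1 / q`
  have hcol := sum_principal_mul_conj hM (x := x) (x' := x) ⟨1, by rw [hxo, pow_one]⟩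
    ⟨1, by rw [hxo, pow_one]⟩ (show _ = p ^ a from hka)
  rw [if_pos (IsConj.refl x), ← Finset.sum_filter, ← hB] at hcol
  simp only [hd, map_intCast, ← hka, hkP] at hcol
  have hcol' : ∑ χ ∈ B, (d χ : ℝ) ^ 2 = q := by
    have h : ∑ χ ∈ B, (d χ * d χ : ℤ) = (q : ℤ) := by exact_mod_cast hcol
    simp only [sq]
    exact_mod_cast h
  rw [hcol'] at hsq
  -- the trivial character
  set t : IrrCharacter G := trivIrr G
  have htB : t ∈ B := Finset.mem_filter.2 ⟨Finset.mem_univ _, self_mem_blockOf t⟩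
  have hdt : d t = 1 := by
    have := hd t; rw [trivIrr_apply] at this; exact_mod_cast this.symm
  have hXt : charDegree (t : G → ℂ) = 1 := charDegree_trivIrr
  have hsplit : ∑ χ ∈ B.erase t, (d χ : ℝ) ^ 2 = (q : ℝ) - 1 := by
    rw [Finset.sum_erase_eq_sub htB, hcol', hdt]; norm_num
  -- some value is negative
  obtain ⟨ψ, hψ, hψneg⟩ : ∃ ψ ∈ B.erase t, d ψ < 0 := by
    by_contra hc'
    push_neg at hc'
    have h0 : 0 ≤ ∑ χ ∈ B.erase t, (d χ : ℝ) * (charDegree (χ : G → ℂ) : ℝ) :=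
      Finset.sum_nonneg fun χ hχ => mul_nonneg (by exact_mod_cast hc' χ hχ) (Nat.cast_nonneg _)
    rw [Finset.sum_erase_eq_sub htB, hdeg, hdt, hXt] at h0
    norm_num at h0
  have hψ2 : (1 : ℝ) ≤ (d ψ : ℝ) ^ 2 := by
    have h : (d ψ : ℝ) ≤ -1 := by exact_mod_cast (show d ψ ≤ -1 by omega)
    nlinarith
  have hrest : ∑ χ ∈ (B.erase t).erase ψ, (d χ : ℝ) ^ 2 ≤ (q : ℝ) - 2 := by
    rw [Finset.sum_erase_eq_sub hψ, hsplit]; linarith
  -- positive values are at most a quarter of the degree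
  have hbound : ∀ χ ∈ B.erase t, 0 < d χ → 4 * (d χ : ℝ) ≤ charDegree (χ : G → ℂ) := by
    intro χ hχ hpos
    have hdq : d χ * d χ + 2 ≤ q := by
      have hχψ : χ ∈ (B.erase t).erase ψ := Finset.mem_erase.2 ⟨by rintro rfl; omega, hχ⟩
      have h1 := (Finset.single_le_sum (f := fun χ => (d χ : ℝ) ^ 2) (fun _ _ => sq_nonneg _) hχψ).trans hrest
      have h2 : ((d χ * d χ + 2 : ℤ) : ℝ) ≤ ((q : ℤ) : ℝ) := by push_cast; nlinarith
      exact_mod_cast h2
    have hne' : (χ : G → ℂ) x ≠ (χ : G → ℂ) 1 := by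
      intro h
      have hχt : (χ : G → ℂ) ≠ fun _ => 1 := fun e => (Finset.mem_erase.1 hχ).1 (Subtype.ext e)
      exact hx1 (IsCharacter.eq_one_of_isSimpleGroup (irr_isCharacter χ)
        (IsIrrCharacter.exists_ne_apply_one χ.2 hχt) h)
    have hle : d χ ≤ (charDegree (χ : G → ℂ) : ℤ) := by
      have h := IsCharacter.norm_le (irr_isCharacter χ) x
      rw [hd, irr_apply_one, Complex.norm_intCast, Complex.norm_natCast] at h
      have : ((d χ : ℤ) : ℝ) ≤ ((charDegree (χ : G → ℂ) : ℤ) : ℝ) := by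
        push_cast; exact (le_abs_self _).trans h
      exact_mod_cast this
    obtain ⟨m, hm⟩ := hdvd χ
    have hm1 : 1 ≤ m := by
      by_contra hcon
      push_neg at hcon
      have hq0 : (0 : ℤ) ≤ q := Int.natCast_nonneg _
      have : (charDegree (χ : G → ℂ) : ℤ) = d χ := by nlinarith
      exact hne' (by rw [hd, irr_apply_one, ← this]; simp)
    have h3 : 3 * d χ ≤ q := by
      rcases le_or_gt (d χ) 2 with h | h
      · rcases (show d χ = 1 ∨ d χ = 2 by omega) with h' | h'
        · rw [h']; omega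
        · rw [h'] at hdq ⊢; omega
      · nlinarith
    have h4 : 4 * d χ ≤ (charDegree (χ : G → ℂ) : ℤ) := by nlinarith
    exact_mod_cast h4
  have hterm : ∀ χ ∈ (B.erase t).erase ψ,
      (d χ : ℝ) ^ 3 / (charDegree (χ : G → ℂ) : ℝ) ≤ (d χ : ℝ) ^ 2 / 4 := by
    intro χ hχ
    have hX : (0 : ℝ) < charDegree (χ : G → ℂ) := Nat.cast_pos.2 (charDegree_irr_pos χ)
    rw [div_le_div_iff₀ hX (by norm_num)]
    rcases le_or_gt (d χ) 0 with h | h
    · have : (d χ : ℝ) ≤ 0 := by exact_mod_cast h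
      nlinarith [mul_nonneg (sq_nonneg (d χ : ℝ)) hX.le, mul_nonpos_of_nonneg_of_nonpos (sq_nonneg (d χ : ℝ)) this]
    · nlinarith [mul_le_mul_of_nonneg_left (hbound χ (Finset.mem_of_mem_erase hχ) h) (sq_nonneg (d χ : ℝ))]
  have hψle : (d ψ : ℝ) ^ 3 / (charDegree (ψ : G → ℂ) : ℝ) ≤ 0 := by
    apply div_nonpos_of_nonpos_of_nonneg _ (Nat.cast_nonneg _)
    have h : (d ψ : ℝ) ≤ 0 := by exact_mod_cast hψneg.le
    nlinarith [mul_nonpos_of_nonneg_of_nonpos (sq_nonneg (d ψ : ℝ)) h]
  have hT : ∑ χ ∈ B, (d χ : ℝ) ^ 3 / (charDegree (χ : G → ℂ) : ℝ) ≤ 1 + ((q : ℝ) - 2) / 4 := by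
    rw [← Finset.add_sum_erase _ _ htB, ← Finset.add_sum_erase _ _ hψ, hdt, hXt]
    have h := (Finset.sum_le_sum hterm)
    rw [← Finset.sum_div] at h
    have h' : ∑ χ ∈ (B.erase t).erase ψ, (d χ : ℝ) ^ 2 / 4 ≤ ((q : ℝ) - 2) / 4 := by
      rw [← Finset.sum_div]; gcongr
    norm_num
    linarith
  have hp3' : (3 : ℝ) ≤ p := by exact_mod_cast hp3
  have hqp' : (p : ℝ) ≤ q := by exact_mod_cast hqp
  have h512 : f * ∑ χ ∈ B, (d χ : ℝ) ^ 3 / (charDegree (χ : G → ℂ) : ℝ) ≤ 5 / 12 := by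
    calc f * _ ≤ f * (1 + ((q : ℝ) - 2) / 4) := mul_le_mul_of_nonneg_left hT hf.le
      _ ≤ 5 / 12 := by nlinarith
  nlinarith [mul_le_mul_of_nonneg_left h512 (show (0 : ℝ) ≤ (p : ℝ) - 1 by linarith)]

/-- Let p be a prime and P a nontrivial elementary abelian Sylow p-subgroup of a finite nonabelian simple group G whose nonidentity elements are all conjugate in G. Suppose that two elements of P are conjugate in G only if they are conjugate in N_G(P), that the centralizer of every element of order p of P has a normal p-complement, and that every two elements of order p of G generate a p-solvable subgroup. Then p = 2. -/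
theorem result {G : Type*} [Group G] [Finite G] [IsSimpleGroup G] (hG : ¬ IsMulCommutative G) {p : ℕ} [Fact p.Prime] (P : Sylow p G)
    (hP1 : (P : Subgroup G) ≠ ⊥) (hPe : Cfsg.IsElementaryAbelian p (P : Subgroup G))
    (hconj : ∀ x ∈ (P : Subgroup G), ∀ y ∈ (P : Subgroup G), x ≠ 1 → y ≠ 1 → ∃ g : G, g * x * g⁻¹ = y)
    (ha : ∀ x ∈ (P : Subgroup G), ∀ y ∈ (P : Subgroup G), (∃ g : G, g * x * g⁻¹ = y) →
      ∃ n ∈ Subgroup.normalizer ((P : Subgroup G) : Set G), n * x * n⁻¹ = y)
    (hb : ∀ x ∈ (P : Subgroup G), orderOf x = p → Cfsg.HasNormalPComplement p ↥(Subgroup.centralizer ({x} : Set G)))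
    (hc : ∀ x y : G, orderOf x = p → orderOf y = p → Cfsg.IsPSolvable p ↥(Subgroup.closure ({x, y} : Set G))) :
    p = 2 :=
  eq_two P hP1 hPe hconj hb hc

end Cfsg.Agent.S1951
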