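import Cfsg.Statements.S0870
import Cfsg.Agent.Lib.Characters.Perm
import Cfsg.Agent.Lib.Characters.InducedMore
-- import your own Cfsg.Agent.* helpers here

set_option autoImplicit false
open Cfsg

namespace Cfsg.Agent.S0870

/-- For subgroups H and K of a finite group G, the pointwise product of the functions induced from the constant function 1 on H and on K is a sum, over subgroups U of H with natural-number coefficients, of the functions induced from the constant function 1 on U. -/
theorem result {G : Type*} [Group G] [Fintype G] (H K : Subgroup G) : ∃ a : Subgroup G → ℕ, (∀ U, a U ≠ 0 → U ≤ H) ∧ Cfsg.indFun H (fun _ => 1) * Cfsg.indFun K (fun _ => 1) = ∑ U : Subgroup G, (a U : ℂ) • Cfsg.indFun U (fun _ => 1) := by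
  classical
  haveI := Fintype.ofFinite H
  haveI := Fintype.ofFinite (MulAction.orbitRel.Quotient H (G ⧸ K))
  haveI := Fintype.ofFinite (G ⧸ K)
  let f : MulAction.orbitRel.Quotient H (G ⧸ K) → Subgroup G := fun ω =>
    (MulAction.stabilizer H ω.out).map H.subtype
  refine ⟨fun U => (Finset.univ.filter fun ω => f ω = U).card, fun U hU => ?_, ?_⟩
  · obtain ⟨ω, hω⟩ := Finset.card_pos.mp (Nat.pos_of_ne_zero hU)
    rw [← (Finset.mem_filter.mp hω).2]
    exact Subgroup.map_subtype_le _
  have hperm := Lib.Characters.permChar_eq_indFun (G ⧸ K) ((1 : G) : G ⧸ K) (G := G)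
  rw [MulAction.stabilizer_quotient] at hperm
  have hres : (fun h : H => indFun K (fun _ => (1 : ℂ)) (h : G)) =
      ∑ ω : MulAction.orbitRel.Quotient H (G ⧸ K),
        indFun (MulAction.stabilizer H ω.out) (fun _ => (1 : ℂ)) := by
    funext h
    rw [Finset.sum_apply, ← congrFun hperm (h : G)]
    have hterm : ∀ ω : MulAction.orbitRel.Quotient H (G ⧸ K),
        indFun (MulAction.stabilizer H ω.out) (fun _ => (1 : ℂ)) h =
          (Nat.card {y : G ⧸ K // Quotient.mk'' y = ω ∧ h • y = y} : ℂ) := by
      intro ω
      let x₀ : MulAction.orbit H ω.out := ⟨ω.out, MulAction.mem_orbit_self _⟩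
      have hst : MulAction.stabilizer H x₀ = MulAction.stabilizer H ω.out := by
        ext g
        simp only [MulAction.mem_stabilizer_iff]
        exact Subtype.ext_iff
      rw [← hst, ← congrFun (Lib.Characters.permChar_eq_indFun (MulAction.orbit H ω.out) x₀) h]
      congr 1
      refine Nat.card_congr
        { toFun := fun y => ⟨y.1.1, (Quotient.sound y.1.2).trans ω.out_eq, congrArg Subtype.val y.2⟩
          invFun := fun y => ⟨⟨y.1, Quotient.exact (y.2.1.trans ω.out_eq.symm)⟩,
            Subtype.ext y.2.2⟩
          left_inv := fun y => rfl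
          right_inv := fun y => rfl }
    rw [Finset.sum_congr rfl fun ω _ => hterm ω, ← Nat.cast_sum, Nat.cast_inj, ← Nat.card_sigma]
    exact Nat.card_congr
      { toFun := fun y => ⟨Quotient.mk'' y.1, y.1, rfl, y.2⟩
        invFun := fun y => ⟨y.2.1, y.2.2.2⟩
        left_inv := fun y => rfl
        right_inv := by rintro ⟨ω, y, rfl, hy⟩; rfl }
  rw [← Lib.Characters.indFun_mul_restrict H _
    (Lib.Characters.isClassFunction_indFun K _), show ((fun _ => 1) * fun h : H =>
      indFun K (fun _ => (1 : ℂ)) (h : G)) = fun h : H => indFun K (fun _ => (1 : ℂ)) (h : G)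
      from one_mul _, hres, Lib.Characters.indFun_sum]
  have hω : ∀ ω : MulAction.orbitRel.Quotient H (G ⧸ K),
      indFun H (indFun (MulAction.stabilizer H ω.out) (fun _ => (1 : ℂ))) =
        indFun (f ω) (fun _ => (1 : ℂ)) := fun ω => by
    rw [Lib.Characters.indFun_indFun]
    rfl
  rw [Finset.sum_congr rfl fun ω _ => hω ω, ← Finset.sum_fiberwise Finset.univ f]
  refine Finset.sum_congr rfl fun U _ => ?_
  rw [Finset.sum_congr rfl fun ω hω => by rw [(Finset.mem_filter.mp hω).2], Finset.sum_const,
    Nat.cast_smul_eq_nsmul]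

end Cfsg.Agent.S0870
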