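import Cfsg.Statements.S0781
import Cfsg.Agent.Lib.Geometry.UnitarySiegel
-- import your own Cfsg.Agent.* helpers here

set_option autoImplicit false
open Cfsg

namespace Cfsg.Agent.S0781

/-- In SU_n(q) with n ≥ 4, or n = 3 and q > 2, every element whose matrix is a unitary transvection x ↦ x + c h(x, v) v (v isotropic) is a commutator ⁅B, C⁆ of two elements of SU_n(q). -/
theorem result {F : Type*} [Field F] [Fintype F] {q : ℕ} (hF : Fintype.card F = q ^ 2) (n : ℕ) (hn : 4 ≤ n ∨ (n = 3 ∧ 3 ≤ q)) (A : ↥(Cfsg.SU n F q)) (v : Fin n → F) (c : F) (hv0 : Cfsg.hermForm n F q v v = 0) (hA : ((A : Matrix.SpecialLinearGroup (Fin n) F) : Matrix (Fin n) (Fin n) F) = Cfsg.unitaryTransvection n q v c) : A ∈ commutatorSet ↥(Cfsg.SU n F q) := by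
  classical
  have hS := Lib.Geometry.hermBilin_isSymm (n := n) hF
  have hB := Lib.Geometry.hermBilin_nondegenerate (n := n) hF
  have hσ := Lib.Geometry.frobQ_ne_id hF
  have hσ2 := Lib.Geometry.frobQ_frobQ hF
  have hfin : Module.finrank F (Fin n → F) = n := by
    rw [Module.finrank_fintype_fun_eq_card, Fintype.card_fin]
  have hAx : ∀ x, ((Lib.Geometry.suToIsometries n hF A : Lib.Geometry.sesqIsometries _) :
      (Fin n → F) ≃ₗ[F] (Fin n → F)) x = x + (c * Lib.Geometry.hermBilin n hF v x) • v := fun x => by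
    rw [Lib.Geometry.suToIsometries_apply, hA, Lib.Geometry.unitaryTransvection_mulVec,
      Lib.Geometry.hermBilin_apply]
  by_cases hv : v = 0
  · have hA1 : A = 1 := by
      refine Lib.Geometry.suToIsometries_injective hF (Subtype.ext (LinearEquiv.ext fun x => ?_))
      rw [hAx, hv, smul_zero, add_zero, map_one]
      rfl
    exact ⟨1, 1, by rw [hA1, commutatorElement_self]⟩
  have hw : Lib.Geometry.hermBilin n hF v v = 0 := hv0
  obtain ⟨φ, hφ, -⟩ := Lib.Geometry.exists_functional_one_of_notMem (⊥ : Submodule F (Fin n → F))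
    (x := v) (by simpa using hv)
  obtain ⟨u, hu⟩ := Lib.Geometry.exists_sesq_eq_functional _ hσ2 hS hB φ
  have hc : Lib.Geometry.frobQ hF c + c = 0 := by
    have h := (Lib.Geometry.suToIsometries n hF A).2 u u
    rw [hAx] at h
    simp only [map_add, map_smul, map_smulₛₗ, LinearMap.add_apply, LinearMap.smul_apply,
      smul_eq_mul, hw, map_mul, hS.eq v u, hu v, hφ] at h
    rw [show Lib.Geometry.hermBilin n hF v u = 1 by rw [← hS.eq u v, hu v, hφ, map_one]] at h
    simp only [map_one, mul_one, mul_zero, add_zero] at h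
    linear_combination h
  obtain ⟨g₁, g₂, hd₁, hd₂, hcomm⟩ := Lib.Geometry.exists_commutator_transvection _ hσ hσ2 hS hB
    (by omega) v hw hv c hc
  have lift : ∀ g : Lib.Geometry.sesqIsometries (Lib.Geometry.hermBilin n hF),
      LinearMap.det ((g : (Fin n → F) ≃ₗ[F] (Fin n → F)) : (Fin n → F) →ₗ[F] (Fin n → F)) = 1 →
      ∃ G : ↥(Cfsg.SU n F q), Lib.Geometry.suToIsometries n hF G = g := by
    intro g hg
    have hx : ∀ x, (LinearMap.toMatrix' ((g : (Fin n → F) ≃ₗ[F] (Fin n → F)) :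
        (Fin n → F) →ₗ[F] (Fin n → F))).mulVec x = (g : (Fin n → F) ≃ₗ[F] (Fin n → F)) x := fun x => by
      rw [← Matrix.toLin'_apply, Matrix.toLin'_toMatrix']
      rfl
    refine ⟨⟨⟨LinearMap.toMatrix' ((g : (Fin n → F) ≃ₗ[F] (Fin n → F)) :
      (Fin n → F) →ₗ[F] (Fin n → F)), by rw [LinearMap.det_toMatrix', hg]⟩, fun x y => ?_⟩, ?_⟩
    · show Cfsg.hermForm n F q
        ((LinearMap.toMatrix' ((g : (Fin n → F) ≃ₗ[F] (Fin n → F)) :
          (Fin n → F) →ₗ[F] (Fin n → F))).mulVec x)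
        ((LinearMap.toMatrix' ((g : (Fin n → F) ≃ₗ[F] (Fin n → F)) :
          (Fin n → F) →ₗ[F] (Fin n → F))).mulVec y) = _
      rw [hx, hx]
      exact g.2 y x
    · refine Subtype.ext (LinearEquiv.ext fun x => ?_)
      rw [Lib.Geometry.suToIsometries_apply]
      exact hx x
  obtain ⟨G₁, hG₁⟩ := lift g₁ hd₁
  obtain ⟨G₂, hG₂⟩ := lift g₂ hd₂
  refine ⟨G₁, G₂, ?_⟩
  have key : G₁ * G₂ = A * (G₂ * G₁) := by
    refine Lib.Geometry.suToIsometries_injective hF (Subtype.ext (LinearEquiv.ext fun x => ?_))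
    rw [map_mul, map_mul, map_mul, hG₁, hG₂, Lib.Geometry.sesq_mul_apply,
      Lib.Geometry.sesq_mul_apply, Lib.Geometry.sesq_mul_apply, hAx, hcomm]
  rw [commutatorElement_def, key]
  group

end Cfsg.Agent.S0781
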