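import Cfsg.Statements.S2566
import Cfsg.Agent.Lib.Classical.OrthCard

set_option autoImplicit false
open Cfsg

namespace Cfsg.Agent.S2566

open Matrix

/-- The three nonzero vectors of the plane over the field with two elements. -/
def pt : Fin 3 → Fin 2 → ZMod 2 := ![![1, 0], ![0, 1], ![1, 1]]

/-- A permutation of the three nonzero vectors, as a matrix. -/
def mTwo (s : Equiv.Perm (Fin 3)) : Matrix (Fin 2) (Fin 2) (ZMod 2) :=
  Matrix.of fun r c => pt (s (Fin.castSucc c)) r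

/-- The position of a coordinate in the square of size two. -/
def pos : Fin 2 ⊕ Fin 2 → Fin 2 × Fin 2 := Sum.elim ![(0, 0), (0, 1)] ![(1, 1), (1, 0)]

/-- Left multiplication on square matrices. -/
def lMat (s : Equiv.Perm (Fin 3)) : Matrix (Fin 2 ⊕ Fin 2) (Fin 2 ⊕ Fin 2) (ZMod 2) :=
  Matrix.of fun i j => if (pos i).2 = (pos j).2 then mTwo s (pos i).1 (pos j).1 else 0

/-- Right multiplication by transposes on square matrices. -/
def rMat (s : Equiv.Perm (Fin 3)) : Matrix (Fin 2 ⊕ Fin 2) (Fin 2 ⊕ Fin 2) (ZMod 2) :=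
  Matrix.of fun i j => if (pos i).1 = (pos j).1 then mTwo s (pos i).2 (pos j).2 else 0

/-- Transposition of square matrices. -/
def tMat : Matrix (Fin 2 ⊕ Fin 2) (Fin 2 ⊕ Fin 2) (ZMod 2) :=
  Matrix.of fun i j => if pos i = (pos j).swap then 1 else 0

theorem lMat_one : lMat 1 = 1 := by decide +kernel
theorem rMat_one : rMat 1 = 1 := by decide +kernel
theorem lMat_mul : ∀ s t, lMat (s * t) = lMat s * lMat t := by decide +kernel
theorem rMat_mul : ∀ s t, rMat (s * t) = rMat s * rMat t := by decide +kernel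
theorem tMat_sq : tMat * tMat = 1 := by decide +kernel
theorem lMat_rMat_comm : ∀ s t, lMat s * rMat t = rMat t * lMat s := by decide +kernel
theorem conj_tMat : ∀ s, tMat * lMat s * tMat = rMat s := by decide +kernel
theorem lMat_eq_rMat : ∀ s t, lMat s = rMat t → s = 1 ∧ t = 1 := by decide +kernel
theorem lMat_rMat_inj : ∀ s t, lMat s * rMat t = 1 → s = 1 ∧ t = 1 := by decide +kernel
theorem pres_l : ∀ s v, Cfsg.quadFormPlus 2 (ZMod 2) (lMat s *ᵥ v) = Cfsg.quadFormPlus 2 (ZMod 2) v := by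
  unfold Cfsg.quadFormPlus; decide +kernel
theorem pres_r : ∀ s v, Cfsg.quadFormPlus 2 (ZMod 2) (rMat s *ᵥ v) = Cfsg.quadFormPlus 2 (ZMod 2) v := by
  unfold Cfsg.quadFormPlus; decide +kernel
theorem pres_t : ∀ v, Cfsg.quadFormPlus 2 (ZMod 2) (tMat *ᵥ v) = Cfsg.quadFormPlus 2 (ZMod 2) v := by
  unfold Cfsg.quadFormPlus; decide +kernel

/-- A multiplicative family of isometries gives a homomorphism. -/
def mkHom (m : Equiv.Perm (Fin 3) → Matrix (Fin 2 ⊕ Fin 2) (Fin 2 ⊕ Fin 2) (ZMod 2))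
    (h1 : m 1 = 1) (hm : ∀ s t, m (s * t) = m s * m t)
    (hp : ∀ s v, Cfsg.quadFormPlus 2 (ZMod 2) (m s *ᵥ v) = Cfsg.quadFormPlus 2 (ZMod 2) v) :
    Equiv.Perm (Fin 3) →* ↥(Cfsg.isometryGroup (ZMod 2) (Cfsg.quadFormPlus 2 (ZMod 2))) where
  toFun s := ⟨⟨m s, m s⁻¹, by rw [← hm, mul_inv_cancel, h1], by rw [← hm, inv_mul_cancel, h1]⟩, fun u _ => hp s u⟩
  map_one' := Subtype.ext (Units.ext h1)
  map_mul' s t := Subtype.ext (Units.ext (hm s t))

/-- The full orthogonal group of the plus-type form x₁y₁ + x₂y₂ in dimension 4 over the field of two elements has order 72 and is isomorphic to the wreath product of the symmetric group of degree 3 by a group of order 2: it has a normal subgroup isomorphic to the direct product of two symmetric groups of degree 3, of index 2, whose two direct factors are interchanged by conjugation by some element. -/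
theorem result :
    Nat.card ↥(Cfsg.isometryGroup (ZMod 2) (Cfsg.quadFormPlus 2 (ZMod 2))) = 72 ∧
    ∃ (A B : Subgroup ↥(Cfsg.isometryGroup (ZMod 2) (Cfsg.quadFormPlus 2 (ZMod 2)))),
      Nonempty (↥A ≃* Equiv.Perm (Fin 3)) ∧ Nonempty (↥B ≃* Equiv.Perm (Fin 3)) ∧ A ⊓ B = ⊥ ∧ (∀ a ∈ A, ∀ b ∈ B, a * b = b * a) ∧
      (A ⊔ B).index = 2 ∧ ∃ g : ↥(Cfsg.isometryGroup (ZMod 2) (Cfsg.quadFormPlus 2 (ZMod 2))), A.map (MulAut.conj g).toMonoidHom = B := by
  classical
  have h72 : Nat.card ↥(Cfsg.isometryGroup (ZMod 2) (Cfsg.quadFormPlus 2 (ZMod 2))) = 72 := by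
    rw [Cfsg.Agent.Lib.Classical.card_orth_plus (ZMod.card 2) 2 (by norm_num)]
    decide
  refine ⟨h72, ?_⟩
  obtain ⟨L, hL⟩ : ∃ L, L = mkHom lMat lMat_one lMat_mul pres_l := ⟨_, rfl⟩
  obtain ⟨R, hR⟩ : ∃ R, R = mkHom rMat rMat_one rMat_mul pres_r := ⟨_, rfl⟩
  have hLv : ∀ s, (((L s).1 : GL _ _) : Matrix _ _ (ZMod 2)) = lMat s := fun s => by rw [hL]; rfl
  have hRv : ∀ s, (((R s).1 : GL _ _) : Matrix _ _ (ZMod 2)) = rMat s := fun s => by rw [hR]; rfl
  have hcomm : ∀ s t, L s * R t = R t * L s := fun s t =>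
    Subtype.ext (Units.ext (by simp only [Subgroup.coe_mul, Units.val_mul, hLv, hRv]; exact lMat_rMat_comm s t))
  let φ : Equiv.Perm (Fin 3) × Equiv.Perm (Fin 3) →* ↥(Cfsg.isometryGroup (ZMod 2) (Cfsg.quadFormPlus 2 (ZMod 2))) :=
    L.noncommCoprod R hcomm
  have hφ : Function.Injective φ := by
    rw [← MonoidHom.ker_eq_bot_iff, eq_bot_iff]
    rintro ⟨s, t⟩ hst
    have h := congrArg (fun x => x.1.val) (MonoidHom.mem_ker.mp hst)
    change (L s).1.val * (R t).1.val = 1 at h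
    rw [hLv, hRv] at h
    obtain ⟨rfl, rfl⟩ := lMat_rMat_inj s t h
    exact rfl
  have hrange : φ.range = L.range ⊔ R.range := by
    exact MonoidHom.noncommCoprod_range L R hcomm
  have hLi : Function.Injective L := fun x y h => congrArg Prod.fst (hφ (a₁ := (x, 1)) (a₂ := (y, 1))
    (by show L x * R 1 = L y * R 1; rw [h]))
  have hRi : Function.Injective R := fun x y h => congrArg Prod.snd (hφ (a₁ := (1, x)) (a₂ := (1, y))
    (by show L 1 * R x = L 1 * R y; rw [h]))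
  refine ⟨L.range, R.range, ⟨(MonoidHom.ofInjective hLi).symm⟩, ⟨(MonoidHom.ofInjective hRi).symm⟩, ?_, ?_, ?_,
    ⟨⟨⟨tMat, tMat, tMat_sq, tMat_sq⟩, fun u _ => pres_t u⟩, ?_⟩⟩
  · rw [eq_bot_iff]
    rintro _ ⟨⟨s, rfl⟩, ⟨t, ht⟩⟩
    have h := congrArg (fun x => x.1.val) ht
    simp only [hLv, hRv] at h
    rw [(lMat_eq_rMat s t h.symm).1, map_one]
    exact Subgroup.one_mem _
  · rintro _ ⟨s, rfl⟩ _ ⟨t, rfl⟩
    exact hcomm s t
  · rw [← hrange]
    have := φ.range.index_mul_card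
    rw [h72, ← Nat.card_congr (MonoidHom.ofInjective hφ).toEquiv, Nat.card_prod, Nat.card_perm, Nat.card_fin] at this
    norm_num [Nat.factorial] at this
    omega
  · rw [MonoidHom.map_range]
    refine congrArg MonoidHom.range (MonoidHom.ext fun s => Subtype.ext (Units.ext ?_))
    simp only [MonoidHom.comp_apply, MulEquiv.coe_toMonoidHom, MulAut.conj_apply, Subgroup.coe_mul,
      Units.val_mul, hLv, hRv]
    exact conj_tMat s

end Cfsg.Agent.S2566
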