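import Cfsg.Statements.S0636
import Cfsg.Agent.Lib.PLocal.PGroupBasic

set_option autoImplicit false
open Cfsg

namespace Cfsg.Agent.S0636

set_option linter.style.haveILetI false

/-- For odd p, every non-cyclic normal subgroup of a p-group contains a normal elementary abelian subgroup of the whole group of order p². -/
theorem result {R : Type*} [Group R] [Finite R] {p : ℕ} [Fact p.Prime] (hp : p ≠ 2) (hR : IsPGroup p R) (S : Subgroup R) [S.Normal] (hS : ¬ IsCyclic S) : ∃ A : Subgroup R, A ≤ S ∧ A.Normal ∧ Cfsg.IsElementaryAbelian p A ∧ Nat.card A = p ^ 2 := by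
  classical
  obtain ⟨N, hN⟩ := Set.Finite.exists_minimal
    (s := {N : Subgroup R | N.Normal ∧ N ≤ S ∧ ¬ IsCyclic N})
    (Set.toFinite _) ⟨S, inferInstance, le_rfl, hS⟩
  obtain ⟨hNn, hNS, hNc⟩ := hN.prop
  haveI := hNn
  have hNne : N ≠ ⊥ := by
    rintro rfl
    exact hNc inferInstance
  obtain ⟨M, hMn, hMN, hcard⟩ := Cfsg.Agent.Lib.PLocal.exists_normal_index_prime hR hNne
  haveI := hMn
  have hMc : IsCyclic M := by
    by_contra h
    exact hMN.not_ge (hN.le_of_le ⟨hMn, hMN.le.trans hNS, h⟩ hMN.le)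
  have hMc' : IsCyclic (M.subgroupOf N) :=
    (Subgroup.subgroupOfEquivOfLe hMN.le).isCyclic.mpr hMc
  have hidx : (M.subgroupOf N).index = p := by
    have h1 := Subgroup.card_mul_index (M.subgroupOf N)
    rw [Nat.card_congr (Subgroup.subgroupOfEquivOfLe hMN.le).toEquiv, hcard, mul_comm p] at h1
    exact Nat.eq_of_mul_eq_mul_left Nat.card_pos h1
  obtain ⟨hel, hc⟩ := Cfsg.Agent.Lib.PLocal.cyclic_index_prime hp (hR.to_subgroup N) hNc _ hMc' hidx
  set A := (Subgroup.closure {x : N | x ^ p = 1}).map N.subtype with hA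
  have hAeq : A = Subgroup.closure {x : R | x ∈ N ∧ x ^ p = 1} := by
    rw [hA, MonoidHom.map_closure]
    congr 1
    ext x
    constructor
    · rintro ⟨y, hy, rfl⟩
      exact ⟨y.2, by simpa using congrArg Subtype.val hy⟩
    · rintro ⟨h1, h2⟩
      exact ⟨⟨x, h1⟩, Subtype.ext (by simpa using h2), rfl⟩
  refine ⟨A, (Subgroup.map_subtype_le _).trans hNS, ?_, ?_, ?_⟩
  · rw [hAeq, ← Subgroup.normalizer_eq_top_iff, eq_top_iff]
    intro g _
    rw [Subgroup.mem_normalizer_iff]
    have key : ∀ h x : R, x ∈ Subgroup.closure {x : R | x ∈ N ∧ x ^ p = 1} →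
        h * x * h⁻¹ ∈ Subgroup.closure {x : R | x ∈ N ∧ x ^ p = 1} := by
      intro h x hx
      induction hx using Subgroup.closure_induction with
      | mem x hx => exact Subgroup.subset_closure ⟨hNn.conj_mem x hx.1 h, by rw [conj_pow, hx.2]; group⟩
      | one => simp
      | mul x y _ _ hx hy =>
        rw [show h * (x * y) * h⁻¹ = (h * x * h⁻¹) * (h * y * h⁻¹) by group]
        exact mul_mem hx hy
      | inv x _ hx =>
        rw [show h * x⁻¹ * h⁻¹ = (h * x * h⁻¹)⁻¹ by group]
        exact inv_mem hx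
    intro x
    refine ⟨key g x, fun hx => ?_⟩
    have := key g⁻¹ _ hx
    rwa [show g⁻¹ * (g * x * g⁻¹) * g⁻¹⁻¹ = x by group] at this
  · refine ⟨?_, ?_⟩
    · haveI := hel.1
      exact Subgroup.map_isMulCommutative _ _
    · rintro _ ⟨y, hy, rfl⟩
      simpa using congrArg Subtype.val (hel.2 y hy)
  · rw [hA, Subgroup.card_map_of_injective (Subgroup.subtype_injective N), hc]

end Cfsg.Agent.S0636
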