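import Cfsg.Statements.S1152
import Cfsg.Agent.Lib.RankOne.ReeCentralizer

set_option autoImplicit false
open Cfsg

namespace Cfsg.Agent.S1152

open Cfsg.Lie Cfsg.Agent.Lib.Chev Cfsg.Agent.Lib.Chev.Tw Cfsg.Agent.Lib.Chev.Tw.G2 Cfsg.Agent.Lib.RankOne.Ree

local instance : Fact (Nat.Prime 2) := ⟨Nat.prime_two⟩

theorem center_offdiag {F : Type*} [Field F] {g : Matrix.SpecialLinearGroup (Fin 2) F}
    (hg : g ∈ Subgroup.center (Matrix.SpecialLinearGroup (Fin 2) F)) :
    (g : Matrix (Fin 2) (Fin 2) F) 0 1 = 0 := by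
  obtain ⟨r, -, hr⟩ := Matrix.SpecialLinearGroup.mem_center_iff.1 hg
  rw [← hr]
  simp

variable {K : Type*} [Field K] [Fintype K] {m : ℕ}

/-- the second element of order four -/
def wK (A : Par K m) : Matrix.SpecialLinearGroup (Fin 2) K :=
  ⟨!![1, 1; 1, -1], by rw [Matrix.det_fin_two_of]; linear_combination -A.h3⟩

theorem wK_val (A : Par K m) : ((wK A : Matrix.SpecialLinearGroup (Fin 2) K) : Matrix (Fin 2) (Fin 2) K) = !![1, 1; 1, -1] := rfl

theorem mk_eq {g g' : Matrix.SpecialLinearGroup (Fin 2) K} (A : Par K m) (h : g = g' * sd (-1 : K)) :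
    (g : Matrix.ProjectiveSpecialLinearGroup (Fin 2) K) = g' := by
  have hc := sd_sign_center A (c := (-1 : Kˣ)) (Units.ext (by simp))
  rw [Units.val_neg, Units.val_one] at hc
  rw [eq_comm, QuotientGroup.eq, h, inv_mul_cancel_left]
  exact hc

theorem four (A : Par K m) :
    (sn : Matrix.SpecialLinearGroup (Fin 2) K) * sn = 1 * sd (-1) ∧ wK A * wK A = 1 * sd (-1) ∧
      sn * wK A = wK A * sn * sd (-1) := by
  have h3 := A.h3
  have e := sd_val (F := K) (neg_ne_zero.2 one_ne_zero)
  refine ⟨?_, ?_, ?_⟩ <;> refine Subtype.ext ?_ <;>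
    simp [e, sn_val, wK_val, Matrix.mul_fin_two, inv_neg]
  all_goals linear_combination h3

theorem not_center (A : Par K m) {g : Matrix.SpecialLinearGroup (Fin 2) K}
    (h : (g : Matrix (Fin 2) (Fin 2) K) 0 1 ≠ 0) :
    (g : Matrix.ProjectiveSpecialLinearGroup (Fin 2) K) ≠ 1 :=
  fun e => h (center_offdiag ((QuotientGroup.eq_one_iff g).1 e))

/-- the elementary abelian subgroup of order eight -/
theorem exists_eight (A : Par K m) : ∃ ι : Multiplicative (ZMod 2) × (Multiplicative (ZMod 2) × Multiplicative (ZMod 2)) →*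
    GL chevG2.Idx K, Function.Injective ι ∧ ∀ x, ι x ∈ twistedG2 K (3 ^ m) := by
  obtain ⟨e1, e2, e3⟩ := four A
  let s : Matrix.ProjectiveSpecialLinearGroup (Fin 2) K := ((sn : Matrix.SpecialLinearGroup (Fin 2) K) : _)
  let w : Matrix.ProjectiveSpecialLinearGroup (Fin 2) K := ((wK A : Matrix.SpecialLinearGroup (Fin 2) K) : _)
  have hs : s * s = 1 := mk_eq A e1
  have hw : w * w = 1 := mk_eq A e2
  have hc : ∀ a b, Commute (z2Hom s hs a) (z2Hom w hw b) := by
    intro a b
    rcases z2_cases a with rfl | rfl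
    · rw [map_one (z2Hom s hs)]; exact Commute.one_left _
    · rcases z2_cases b with rfl | rfl
      · rw [map_one (z2Hom w hw)]; exact Commute.one_right _
      · rw [z2Hom_one, z2Hom_one]; exact mk_eq A e3
  let κ := MonoidHom.noncommCoprod (z2Hom s hs) (z2Hom w hw) hc
  have hκ : Function.Injective κ := by
    rw [injective_iff_map_eq_one]
    rintro ⟨a, b⟩ h
    have h' : z2Hom s hs a * z2Hom w hw b = 1 := h
    rcases z2_cases a with rfl | rfl <;> rcases z2_cases b with rfl | rfl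
    · rfl
    · rw [map_one (z2Hom s hs), one_mul, z2Hom_one] at h'
      exact absurd h' (not_center A (by simp [wK_val]))
    · rw [map_one (z2Hom w hw), mul_one, z2Hom_one] at h'
      exact absurd h' (not_center A (by simp [sn_val]))
    · rw [z2Hom_one, z2Hom_one] at h'
      exact absurd h' (not_center A (g := sn * wK A) (by simp [sn_val, wK_val, Matrix.mul_fin_two]))
  refine ⟨(theta A).comp ((MonoidHom.id _).prodMap κ),
    (theta_inj A).comp (Prod.map_injective.2 ⟨fun _ _ e => e, hκ⟩), fun x => ?_⟩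
  exact ((mem_CA A).1 ((theta_range A).le ⟨_, rfl⟩)).1


/-- In the small Ree group ²G₂(q), q = 3^(2m+1), realised as G¹ inside the Chevalley group G₂ over the field with q elements (θ the 3^m-th power map), with H¹ = G¹ ∩ H and U¹ = G¹ ∩ U the intersections with the ambient diagonal and positive unipotent subgroups: for an involution `a ∈ H¹`, the centraliser of `a` in `G¹` is isomorphic to `Z₂ × PSL₂(q)`; and the Sylow 2-subgroups of `G¹` are elementary abelian of order 8. -/
theorem result {K : Type*} [Field K] [Fintype K] {m : ℕ} (hK : Fintype.card K = 3 ^ (2 * m + 1))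
    (a : ↥(Cfsg.Lie.twistedG2 K (3 ^ m))) (haH : (a : GL Cfsg.Lie.chevG2.Idx K) ∈ Cfsg.Lie.chevG2.diagonalSubgroup K) (ha1 : a ≠ 1) (ha2 : a * a = 1) :
    Nonempty (↥(Subgroup.centralizer {a}) ≃* Multiplicative (ZMod 2) × Matrix.ProjectiveSpecialLinearGroup (Fin 2) K) ∧
      ∀ S : Sylow 2 ↥(Cfsg.Lie.twistedG2 K (3 ^ m)), Nat.card S = 8 ∧ ∀ x ∈ S, x * x = 1 := by
  obtain ⟨A⟩ := Lib.Chev.Tw.G2.exists_par (K := K) hK
  constructor
  · obtain ⟨t, ht⟩ := (torT_range A).ge (show (a : GL chevG2.Idx K) ∈ chevG2.diagonalSubgroup K ⊓ G1 K m from ⟨haH, a.2⟩)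
    have ht2 : torT A t * torT A t = 1 := by rw [ht]; exact congrArg Subtype.val ha2
    have ht1 : torT A t ≠ 1 := fun e => ha1 (Subtype.ext (ht ▸ e))
    rw [eq_neg_one A ht2 ht1] at ht
    have hmap : (Subgroup.centralizer {a}).map (twistedG2 K (3 ^ m)).subtype = CA A := by
      ext g
      rw [mem_CA A, Subgroup.mem_map]
      constructor
      · rintro ⟨x, hx, rfl⟩
        refine ⟨x.2, ?_⟩
        rw [ht]
        exact (congrArg Subtype.val (Subgroup.mem_centralizer_singleton_iff.1 hx)).symm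
      · rintro ⟨hg, hc⟩
        refine ⟨⟨g, hg⟩, Subgroup.mem_centralizer_singleton_iff.2 (Subtype.ext ?_), rfl⟩
        show g * (a : GL chevG2.Idx K) = (a : GL chevG2.Idx K) * g
        rw [← ht]
        exact hc.symm
    obtain ⟨e⟩ := nonempty_equiv A
    exact ⟨((Subgroup.equivMapOfInjective _ _ (Subgroup.subtype_injective _)).trans
      (MulEquiv.subgroupCongr hmap)).trans e⟩
  · obtain ⟨ι, hι, hmem⟩ := exists_eight A
    set ι' := ι.codRestrict (twistedG2 K (3 ^ m)) hmem
    have hinj : Function.Injective ι' := fun x y e => hι (congrArg Subtype.val e)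
    have hcard : Nat.card ↥ι'.range = 8 := by
      rw [← Nat.card_congr (MonoidHom.ofInjective hinj).toEquiv]
      simp [Nat.card_prod]
    have hidx : ¬ 2 ∣ ι'.range.index := by
      have h := ι'.range.card_mul_index
      rw [hcard, card_group A] at h
      set q := 3 ^ (2 * m + 1) with hq
      have h8 : q % 8 = 3 := by rw [hq, pow_succ, pow_mul, Nat.mul_mod, Nat.pow_mod]; norm_num
      obtain ⟨a', ha'⟩ : ∃ a', q - 1 = 2 * a' ∧ a' % 2 = 1 := ⟨(q - 1) / 2, by omega, by omega⟩
      have h3 : q ^ 3 % 8 = 3 := by rw [Nat.pow_mod, h8]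
      obtain ⟨b, hb⟩ : ∃ b, q ^ 3 + 1 = 4 * b ∧ b % 2 = 1 := ⟨(q ^ 3 + 1) / 4, by omega, by omega⟩
      rw [ha'.1, hb.1] at h
      rw [show ι'.range.index = q ^ 3 * a' * b by linarith]
      intro hd
      rcases (Nat.prime_two.dvd_mul).1 hd with hd | hd
      · rcases (Nat.prime_two.dvd_mul).1 hd with hd | hd <;> omega
      · omega
    let T : Sylow 2 ↥(twistedG2 K (3 ^ m)) := (IsPGroup.of_card (n := 3) (by rw [hcard]; norm_num)).toSylow hidx
    have hsq : ∀ y ∈ ι'.range, y * y = 1 := by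
      rintro y ⟨x, rfl⟩
      have : ∀ x : Multiplicative (ZMod 2) × (Multiplicative (ZMod 2) × Multiplicative (ZMod 2)), x * x = 1 := by decide
      rw [← map_mul, this, map_one]
    intro S
    refine ⟨(Nat.card_congr (Sylow.equiv S T).toEquiv).trans hcard, fun x hx => ?_⟩
    have h := hsq _ (Sylow.equiv S T ⟨x, hx⟩).2
    have h2 : Sylow.equiv S T (⟨x, hx⟩ * ⟨x, hx⟩) = 1 := by rw [map_mul]; exact Subtype.ext h
    rw [EmbeddingLike.map_eq_one_iff] at h2
    exact congrArg Subtype.val h2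

end Cfsg.Agent.S1152
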