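import Cfsg.Statements.S1156
import Cfsg.Agent.Lib.RankOne.ReeSeven
import Cfsg.Agent.Lib.RankOne.ReeCentralizer
import Cfsg.Agent.Lib.RankOne.CyclicSylow
import Cfsg.Agent.Lib.Classical.LinearCard
import Cfsg.Agent.S1073

set_option autoImplicit false
open Cfsg

namespace Cfsg.Agent.S1156

open Cfsg.Lie Cfsg.Agent.Lib.Chev Cfsg.Agent.Lib.Chev.Tw Cfsg.Agent.Lib.Chev.Tw.G2 Cfsg.Agent.Lib.RankOne.Ree
open Cfsg.Agent.Lib.RankOne

/-- The natural representation. -/
noncomputable def nat2 (K : Type*) [Field K] : Matrix.SpecialLinearGroup (Fin 2) K →* Module.End K (Fin 2 → K) where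
  toFun g := Matrix.toLinAlgEquiv' (g : Matrix (Fin 2) (Fin 2) K)
  map_one' := by rw [Matrix.SpecialLinearGroup.coe_one, map_one]
  map_mul' g h := by rw [Matrix.SpecialLinearGroup.coe_mul, map_mul]

theorem nat2_injective (K : Type*) [Field K] : Function.Injective (nat2 K) := fun _ _ h =>
  Subtype.ext (Matrix.toLinAlgEquiv'.injective h)


/-- In the small Ree group ²G₂(q), q = 3^(2m+1) with m ≥ 1, realised as G¹ inside the Chevalley group G₂ over the field with q elements (θ the 3^m-th power map): for every prime `p > 3` the Sylow `p`-subgroups of `G¹` are cyclic. -/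
theorem result {K : Type*} [Field K] [Fintype K] {m : ℕ} (hm : 1 ≤ m) (hK : Fintype.card K = 3 ^ (2 * m + 1))
    {p : ℕ} [Fact p.Prime] (hp : 3 < p) (P : Sylow p ↥(Cfsg.Lie.twistedG2 K (3 ^ m))) : IsCyclic (P : Subgroup ↥(Cfsg.Lie.twistedG2 K (3 ^ m))) := by
  obtain ⟨A⟩ := Lib.Chev.Tw.G2.exists_par (K := K) hK
  set q := 3 ^ (2 * m + 1) with hq
  have hpP : p.Prime := Fact.out
  have hp3 : ¬ p ∣ 3 := fun h => by
    rcases (Nat.dvd_prime Nat.prime_three).1 h with h | h <;> omega
  have hpq : ¬ p ∣ q := fun h => hp3 (hpP.dvd_of_dvd_pow h)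
  have hpK : (p : K) ≠ 0 := by
    intro h0
    have hco : Nat.Coprime p 3 := (hpP.coprime_iff_not_dvd).2 hp3
    have h1 := congrArg (fun z : ℤ => (z : K)) (Nat.gcd_eq_gcd_ab p 3)
    simp only [hco.gcd_eq_one, Int.cast_add, Int.cast_mul, Int.cast_natCast, h0, Nat.cast_one,
      Int.cast_one, zero_mul, zero_add] at h1
    rw [show ((3 : ℕ) : K) = 0 by simpa using A.h3, zero_mul] at h1
    exact one_ne_zero h1
  have hqK : ¬ p ∣ Fintype.card K := hK ▸ hpq
  have h1q : 1 ≤ q := Nat.one_le_pow _ _ (by norm_num)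
  have hcard : Nat.card ↥(twistedG2 K (3 ^ m)) = q ^ 3 * (q - 1) * (q ^ 3 + 1) := card_group A
  set c := q * q - q + 1 with hc
  have hcq : (c : ℤ) = (q : ℤ) * q - q + 1 := by
    have : q ≤ q * q := Nat.le_mul_self q
    rw [hc]; push_cast [Nat.cast_sub this]; ring
  have hfac : q ^ 3 + 1 = (q + 1) * c := by
    zify; rw [hcq]; ring
  set x : ZMod p := (q : ZMod p) with hx
  have hdm : p ∣ q - 1 ↔ x = 1 := by
    rw [← ZMod.natCast_eq_zero_iff, Nat.cast_sub h1q, Nat.cast_one, sub_eq_zero]
  have hdp : p ∣ q + 1 ↔ x = -1 := by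
    rw [← ZMod.natCast_eq_zero_iff, Nat.cast_add, Nat.cast_one, add_eq_zero_iff_eq_neg]
  have hdc : p ∣ c ↔ x * x - x + 1 = 0 := by
    rw [← Int.natCast_dvd_natCast, hcq, ← ZMod.intCast_zmod_eq_zero_iff_dvd, hx]
    push_cast
    rfl
  have hnum : ∀ k : ℕ, 0 < k → k ≤ 3 → (k : ZMod p) ≠ 0 := fun k hk hk3 e => by
    have := Nat.le_of_dvd hk ((ZMod.natCast_eq_zero_iff k p).1 e)
    omega
  have h2z : (2 : ZMod p) ≠ 0 := by simpa using hnum 2 (by norm_num) (by norm_num)
  have h3z : (3 : ZMod p) ≠ 0 := by simpa using hnum 3 (by norm_num) (by norm_num)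
  have hv : (Nat.card ↥(twistedG2 K (3 ^ m))).factorization p =
      (q - 1).factorization p + (q + 1).factorization p + c.factorization p := by
    have hq1 : q - 1 ≠ 0 := by
      have : 3 ≤ q := Nat.le_self_pow (by omega) 3
      omega
    have hc0 : c ≠ 0 := by omega
    rw [hcard, hfac, Nat.factorization_mul (mul_ne_zero (pow_ne_zero _ (by omega)) hq1) (mul_ne_zero (by omega) hc0),
      Nat.factorization_mul (pow_ne_zero _ (by omega)) hq1, Nat.factorization_mul (by omega) hc0,
      Finsupp.add_apply, Finsupp.add_apply, Finsupp.add_apply,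
      Nat.factorization_eq_zero_of_not_dvd (fun h => hpq (hpP.dvd_of_dvd_pow h)), zero_add, add_assoc]
  by_cases hm1 : p ∣ q - 1
  · have hx1 := hdm.1 hm1
    have n1 : ¬ p ∣ q + 1 := fun h => h2z (by linear_combination (hdp.1 h) - hx1)
    have n2 : ¬ p ∣ c := fun h => one_ne_zero (α := ZMod p) (by linear_combination (hdc.1 h) - x * hx1)
    rw [Nat.factorization_eq_zero_of_not_dvd n1, Nat.factorization_eq_zero_of_not_dvd n2, add_zero, add_zero] at hv
    let f : Kˣ →* ↥(twistedG2 K (3 ^ m)) := (torT A).codRestrict _ fun t => (torT_mem A t).2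
    refine isCyclic_of_hom f (default : Sylow p Kˣ) inferInstance
      (fun t _ ht => torT_injective A ((congrArg Subtype.val ht).trans (map_one (torT A)).symm)) ?_ P
    rw [hv, Nat.card_units, Nat.card_eq_fintype_card, hK]
  by_cases hp1 : p ∣ q + 1
  · have hx1 := hdp.1 hp1
    have n2 : ¬ p ∣ c := fun h => h3z (by linear_combination (hdc.1 h) - (x - 2) * hx1)
    rw [Nat.factorization_eq_zero_of_not_dvd hm1, Nat.factorization_eq_zero_of_not_dvd n2, zero_add, add_zero] at hv
    let f : Matrix.SpecialLinearGroup (Fin 2) K →* ↥(twistedG2 K (3 ^ m)) :=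
      (psi A).codRestrict _ fun g => ((mem_CA A).1 (psi_mem A g)).1
    let S : Sylow p (Matrix.SpecialLinearGroup (Fin 2) K) := default
    refine isCyclic_of_hom f S ?_ ?_ ?_ P
    · refine isCyclic_of_faithful (K := K) (d := 2) S.2 (by omega) ((nat2 K).comp (S : Subgroup (Matrix.SpecialLinearGroup (Fin 2) K)).subtype)
        ((nat2_injective K).comp (Subgroup.subtype_injective _)) hpK hqK ?_ (by rw [Module.finrank_fin_fun]; norm_num)
      intro i hi hi2 hd
      obtain rfl : i = 1 := by omega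
      exact hm1 (by rwa [pow_one, hK] at hd)
    · intro g hg hg1
      obtain ⟨k, rfl, hk⟩ := psi_tor A ((congrArg Subtype.val hg1).trans (map_one (torT A)).symm)
      have hkk := (fK_sign A (u := k) (by rw [hk, one_mul])).1
      have hsq : sd (k : K) * sd (k : K) = 1 := by
        refine Subtype.ext ?_
        have hk2 : (k : K) * k = 1 := by simpa using congrArg Units.val hkk
        rw [Matrix.SpecialLinearGroup.coe_mul, sd_val k.ne_zero,
          show ((k : K))⁻¹ = (k : K) from inv_eq_of_mul_eq_one_right hk2]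
        simp [Matrix.mul_fin_two, hk2, Matrix.one_fin_two]
      obtain ⟨j, hj⟩ := S.2 ⟨_, hg⟩
      have h1 : orderOf (sd (k : K)) ∣ Nat.gcd 2 (p ^ j) :=
        Nat.dvd_gcd (orderOf_dvd_of_pow_eq_one (by rw [pow_two, hsq]))
          (orderOf_dvd_of_pow_eq_one (congrArg Subtype.val hj))
      have hco : Nat.Coprime 2 (p ^ j) := ((Nat.coprime_primes Nat.prime_two hpP).2 (by omega)).pow_right j
      rw [hco.gcd_eq_one, Nat.dvd_one, orderOf_eq_one_iff] at h1
      exact h1
    · rw [hv, Cfsg.Agent.Lib.Classical.card_SL2, hK,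
        show q ^ 2 - 1 = (q + 1) * (q - 1) by rw [← Nat.sq_sub_sq, one_pow],
        Nat.factorization_mul (by omega) (mul_ne_zero (by omega) (by
          have : 3 ≤ q := Nat.le_self_pow (by omega) 3
          omega)),
        Nat.factorization_mul (by omega) (by
          have : 3 ≤ q := Nat.le_self_pow (by omega) 3
          omega), Finsupp.add_apply, Finsupp.add_apply,
        Nat.factorization_eq_zero_of_not_dvd hm1, Nat.factorization_eq_zero_of_not_dvd hpq, zero_add, add_zero]
  by_cases hcd : p ∣ c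
  · have hxc := hdc.1 hcd
    have hx0 : x ≠ 0 := fun e => hpq ((ZMod.natCast_eq_zero_iff q p).1 e)
    have hxm : x ≠ 1 := fun e => hm1 (hdm.2 e)
    have hxp : x ≠ -1 := fun e => hp1 (hdp.2 e)
    refine isCyclic_of_faithful (K := K) (d := 6) P.2 (by omega) ((rho7 A).comp (P : Subgroup ↥(twistedG2 K (3 ^ m))).subtype)
      ?_ hpK hqK ?_ (by rw [Module.finrank_fintype_fun_eq_card, card_ShT]; norm_num)
    · refine Function.Injective.comp (g := ⇑(rho7 A)) ?_ (Subgroup.subtype_injective _)
      rw [injective_iff_map_eq_one]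
      intro g hg
      have := (Cfsg.Agent.S1073.result hm hK).1
      rcases (MonoidHom.normal_ker (rho7 A)).eq_bot_or_eq_top with h | h
      · exact Subgroup.mem_bot.1 (h ▸ (MonoidHom.mem_ker.2 hg))
      · exact absurd (MonoidHom.mem_ker.1 (h ▸ Subgroup.mem_top _)) (rho7_ne_one A)
    · intro i hi hi6 hd
      rw [hK] at hd
      have e : x ^ i = 1 := by
        rw [← ZMod.natCast_eq_zero_iff, Nat.cast_sub (Nat.one_le_pow _ _ (by omega)), Nat.cast_pow,
          Nat.cast_one, sub_eq_zero] at hd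
        exact hd
      have h3 : x ^ 3 = -1 := by linear_combination (x + 1) * hxc
      interval_cases i
      · exact hxm (by simpa using e)
      · exact (sq_eq_one_iff.1 e).elim hxm hxp
      · exact h2z (by linear_combination h3 - e)
      · exact hxp (by linear_combination x * h3 - e)
      · have e2 : x * x = -1 := by linear_combination x ^ 2 * h3 - e
        exact hx0 (by linear_combination -hxc + e2)
  · rw [Nat.factorization_eq_zero_of_not_dvd hm1, Nat.factorization_eq_zero_of_not_dvd hp1,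
      Nat.factorization_eq_zero_of_not_dvd hcd] at hv
    have : Nat.card ↥(P : Subgroup ↥(twistedG2 K (3 ^ m))) = 1 := by
      rw [P.card_eq_multiplicity, hv]; rfl
    have : Subsingleton ↥(P : Subgroup ↥(twistedG2 K (3 ^ m))) := (Nat.card_eq_one_iff_unique.1 this).1
    infer_instance

end Cfsg.Agent.S1156
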