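import Cfsg.Statements.S0292
import Cfsg.Agent.Lib.Classical.POmegaCard

set_option autoImplicit false
open Cfsg

namespace Cfsg.Agent.S0292

/-- 2 |PΩ_{2m+1}(q)| = q^(m^2) prod_{i=1}^{m} (q^(2i) - 1), for q odd and m at least 3 (type B_m). -/
theorem result {F : Type*} [Field F] [Fintype F] {q : ℕ} (hF : Fintype.card F = q) (hodd : Odd q) (m : ℕ) (hm : 3 ≤ m) : 2 * Nat.card (Cfsg.POmega F (Cfsg.quadFormOdd m F)) = q ^ (m ^ 2) * ∏ i ∈ Finset.range m, (q ^ (2 * (i + 1)) - 1) := by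
  have h2 : (2 : F) ≠ 0 := fun h => Nat.not_even_iff_odd.mpr hodd ((Cfsg.Agent.Lib.Classical.two_eq_zero_iff_even hF).mp h)
  have hneg : ¬ ∃ g : Cfsg.isometryGroup F (Cfsg.quadFormOdd m F), g ∈ Cfsg.Omega F (Cfsg.quadFormOdd m F) ∧
      ((g : Matrix.GeneralLinearGroup (Unit ⊕ (Fin m ⊕ Fin m)) F) : Matrix (Unit ⊕ (Fin m ⊕ Fin m)) (Unit ⊕ (Fin m ⊕ Fin m)) F) = -1 := by
    rintro ⟨g, hg, hgm⟩
    have h1 := Abelianization.commutator_subset_ker ((Matrix.GeneralLinearGroup.det :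
      GL (Unit ⊕ (Fin m ⊕ Fin m)) F →* Fˣ).comp (Cfsg.isometryGroup F (Cfsg.quadFormOdd m F)).subtype) hg
    have h1' := congrArg Units.val (MonoidHom.mem_ker.mp h1)
    simp [hgm, Matrix.det_neg, show Fintype.card (Unit ⊕ (Fin m ⊕ Fin m)) = 1 + 2 * m by simp; omega,
      pow_add, pow_mul] at h1'
    exact h2 (by linear_combination -h1')
  have h := (Cfsg.Agent.Lib.Classical.card_POmega_mul _ (Cfsg.Agent.Lib.Classical.sq_nondegenerate h2) m hm (Cfsg.Agent.Lib.Classical.oddEquiv m F) _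
    (Cfsg.Agent.Lib.Classical.quadFormOdd_eq_hyper m)).2.2 h2 hneg
  rw [Cfsg.Agent.Lib.Classical.card_orth_odd hF hodd m, mul_assoc] at h
  omega

end Cfsg.Agent.S0292
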