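import Cfsg.Statements.S0790
import Cfsg.Agent.Lib.Geometry.OrthNegOne
-- import your own Cfsg.Agent.* helpers here

set_option autoImplicit false
open Cfsg

namespace Cfsg.Agent.S0790

/-- −1 ∈ Ω⁺_2m(q) iff q^m ≡ 1 (mod 4), for q odd and m ≥ 1 (so that in the other case SO⁺_2m(q) = 2 × Ω⁺_2m(q)). -/
theorem result {F : Type*} [Field F] [Fintype F] {q : ℕ} (hF : Fintype.card F = q) (hodd : Odd q) (m : ℕ) (hm : 1 ≤ m) : (∃ g : ↥(Cfsg.isometryGroup F (Cfsg.quadFormPlus m F)), g ∈ Cfsg.Omega F (Cfsg.quadFormPlus m F) ∧ ((g : Matrix.GeneralLinearGroup (Fin m ⊕ Fin m) F) : Matrix (Fin m ⊕ Fin m) (Fin m ⊕ Fin m) F) = -1) ↔ q ^ m % 4 = 1 := by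
  have hodd' : Odd (Fintype.card F) := hF ▸ hodd
  have h2 := Lib.Geometry.two_ne_zero_of_odd_card hodd'
  rw [Lib.Geometry.quadFormPlus_eq, Lib.Geometry.neg_one_mem_Omega_iff _
    (Lib.Geometry.polarBilin_matQuad_nondegenerate (by
      rw [Lib.Geometry.det_plusGram]; exact pow_ne_zero _ (neg_ne_zero.mpr one_ne_zero))) h2
    (by rw [Fintype.card_sum, Fintype.card_fin]; omega)]
  have hG : (Matrix.of fun i j => QuadraticMap.polarBilin (Lib.Geometry.matQuad (Lib.Geometry.plusMatrix m F))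
      (Pi.single i 1) (Pi.single j 1)) =
      Lib.Geometry.plusMatrix m F + (Lib.Geometry.plusMatrix m F).transpose := by
    ext i j
    exact Lib.Geometry.polarBilin_matQuad_single _ i j
  rw [hG, Lib.Geometry.det_plusGram, Fintype.card_sum, Fintype.card_fin, pow_add, pow_add (2 : F),
    Lib.Geometry.sqClass_sq_mul _ (pow_ne_zero _ h2), ← mul_pow, Int.units_mul_self, one_pow,
    Lib.Geometry.sqClass_neg_one_pow hodd', hF, eq_self_iff_true, true_and]

end Cfsg.Agent.S0790
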