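import Cfsg.Statements.S0791
import Cfsg.Agent.Lib.Geometry.OrthNegOne
-- import your own Cfsg.Agent.* helpers here

set_option autoImplicit false
open Cfsg

namespace Cfsg.Agent.S0791

/-- −1 ∈ Ω⁻_2m(q) iff q^m ≡ −1 (mod 4), for q odd and m ≥ 1; for the minus-type form quadFormMinus (m−1) with anisotropic binary part. -/
theorem result {F : Type*} [Field F] [Fintype F] {q : ℕ} (hF : Fintype.card F = q) (hodd : Odd q) (m : ℕ) (hm : 1 ≤ m) (a b : F) (hab : ∀ z₁ z₂ : F, z₁ ^ 2 + a * z₁ * z₂ + b * z₂ ^ 2 = 0 → z₁ = 0 ∧ z₂ = 0) : (∃ g : ↥(Cfsg.isometryGroup F (Cfsg.quadFormMinus (m - 1) F a b)), g ∈ Cfsg.Omega F (Cfsg.quadFormMinus (m - 1) F a b) ∧ ((g : Matrix.GeneralLinearGroup ((Fin (m - 1) ⊕ Fin (m - 1)) ⊕ Fin 2) F) : Matrix ((Fin (m - 1) ⊕ Fin (m - 1)) ⊕ Fin 2) ((Fin (m - 1) ⊕ Fin (m - 1)) ⊕ Fin 2) F) = -1) ↔ q ^ m % 4 = 3 := by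
  have hodd' : Odd (Fintype.card F) := hF ▸ hodd
  have h2 := Lib.Geometry.two_ne_zero_of_odd_card hodd'
  have hd := Lib.Geometry.discr_not_isSquare h2 hab
  have hd0 : a ^ 2 - 4 * b ≠ 0 := fun h => hd (h ▸ IsSquare.zero)
  rw [Lib.Geometry.quadFormMinus_eq, Lib.Geometry.neg_one_mem_Omega_iff _
    (Lib.Geometry.polarBilin_matQuad_nondegenerate (by
      rw [Lib.Geometry.det_minusGram]
      exact mul_ne_zero (pow_ne_zero _ (neg_ne_zero.mpr one_ne_zero))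
        (fun h => hd0 (by linear_combination -h)))) h2
    (by simp only [Fintype.card_sum, Fintype.card_fin]; omega)]
  have hG : (Matrix.of fun i j => QuadraticMap.polarBilin
      (Lib.Geometry.matQuad (Lib.Geometry.minusMatrix (m - 1) a b)) (Pi.single i 1) (Pi.single j 1)) =
      Lib.Geometry.minusMatrix (m - 1) a b + (Lib.Geometry.minusMatrix (m - 1) a b).transpose := by
    ext i j
    exact Lib.Geometry.polarBilin_matQuad_single _ i j
  obtain ⟨k, rfl⟩ : ∃ k, m = k + 1 := ⟨m - 1, by omega⟩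
  have e1 : (-1 : F) ^ (k + 1 - 1) * (4 * b - a ^ 2) = (-1 : F) ^ (k + 1) * (a ^ 2 - 4 * b) := by
    rw [show k + 1 - 1 = k by omega]; ring
  have e2 : Fintype.card ((Fin (k + 1 - 1) ⊕ Fin (k + 1 - 1)) ⊕ Fin 2) = (k + 1) + (k + 1) := by
    simp only [Fintype.card_sum, Fintype.card_fin]; omega
  rw [hG, Lib.Geometry.det_minusGram, e2, pow_add, pow_add (2 : F), Lib.Geometry.sqClass_sq_mul _ (pow_ne_zero _ h2),
    ← mul_pow, Int.units_mul_self, one_pow, e1,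
    Lib.Geometry.sqClass_mul (pow_ne_zero _ (neg_ne_zero.mpr one_ne_zero)) hd0,
    Lib.Geometry.sqClass_eq_neg_one_iff.mpr hd, mul_neg_one, neg_eq_iff_eq_neg]
  have h := Lib.Geometry.sqClass_neg_one_pow hodd' (k + 1)
  rw [hF] at h
  have hodd2 : q ^ (k + 1) % 2 = 1 := Nat.odd_iff.mp hodd.pow
  constructor
  · rintro ⟨-, hs⟩
    have : ¬ q ^ (k + 1) % 4 = 1 := fun h1 => by
      rw [h.mpr h1] at hs
      exact absurd hs (by decide)
    omega
  · intro h3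
    refine ⟨rfl, (Int.units_eq_one_or _).resolve_left fun h1 => ?_⟩
    have := h.mp h1
    omega

end Cfsg.Agent.S0791
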