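import Cfsg.Statements.S0294
import Cfsg.Agent.Lib.Classical.POmegaCard
import Cfsg.Agent.S0791

set_option autoImplicit false
open Cfsg

namespace Cfsg.Agent.S0294

/-- gcd(4, q^m + 1) |PΩ^-_{2m}(q)| = q^(m(m-1)) (q^m + 1) prod_{i=1}^{m-1} (q^(2i) - 1), m at least 4 (type ²D_m). -/
theorem result {F : Type*} [Field F] [Fintype F] {q : ℕ} (hF : Fintype.card F = q) (m : ℕ) (hm : 4 ≤ m) (a b : F) (hab : ∀ z₁ z₂ : F, z₁ ^ 2 + a * z₁ * z₂ + b * z₂ ^ 2 = 0 → z₁ = 0 ∧ z₂ = 0) : Nat.gcd 4 (q ^ m + 1) * Nat.card (Cfsg.POmega F (Cfsg.quadFormMinus (m - 1) F a b)) = q ^ (m * (m - 1)) * (q ^ m + 1) * ∏ i ∈ Finset.range (m - 1), (q ^ (2 * (i + 1)) - 1) := by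
  obtain ⟨he, hpos, hneg⟩ := Cfsg.Agent.Lib.Classical.card_POmega_mul _ (Cfsg.Agent.Lib.Classical.binaryForm_nondegenerate a b hab) (m - 1) (by omega) (Cfsg.Agent.Lib.Classical.minusEquiv (m - 1) F) _ (Cfsg.Agent.Lib.Classical.quadFormMinus_eq_hyper (m - 1) a b)
  rw [Cfsg.Agent.Lib.Classical.card_orth_minus hF m (by omega) a b hab, mul_assoc, mul_assoc] at he hpos hneg
  rw [mul_assoc (q ^ (m * (m - 1)))]
  have h1 : 1 ≤ q ^ m := Nat.one_le_pow _ _ (by rw [← hF]; exact Fintype.card_pos)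
  rcases Nat.even_or_odd q with hq | hq
  · have h := he ((Cfsg.Agent.Lib.Classical.two_eq_zero_iff_even hF).mpr hq)
    have hqm : q ^ m % 2 = 0 := Nat.even_iff.mp (hq.pow_of_ne_zero (by omega))
    have hg : Nat.gcd 4 (q ^ m + 1) = 1 := by
      rw [Nat.gcd_rec]
      have : (q ^ m + 1) % 4 = 1 ∨ (q ^ m + 1) % 4 = 3 := by omega
      rcases this with h | h <;> rw [h] <;> rfl
    rw [hg]
    omega
  · have h2 : (2 : F) ≠ 0 := fun h =>
      Nat.not_even_iff_odd.mpr hq ((Cfsg.Agent.Lib.Classical.two_eq_zero_iff_even hF).mp h)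
    have hqm : q ^ m % 2 = 1 := Nat.odd_iff.mp hq.pow
    have hiff := Cfsg.Agent.S0791.result hF hq m (by omega) a b hab
    rw [Nat.gcd_rec]
    by_cases hc : q ^ m % 4 = 3
    · have h := hpos h2 (hiff.mpr hc)
      rw [show (q ^ m + 1) % 4 = 0 by omega, Nat.gcd_zero_left]
      omega
    · have h := hneg h2 (fun hh => hc (hiff.mp hh))
      rw [show (q ^ m + 1) % 4 = 2 by omega, show Nat.gcd 2 4 = 2 by rfl]
      omega

end Cfsg.Agent.S0294
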