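import Cfsg.Statements.S1163
import Cfsg.Agent.Lib.KnownA.SuzukiModel
open Cfsg.Agent.Lib.KnownA Cfsg.Agent.Lib.KnownA.Suz

set_option autoImplicit false
open Cfsg

namespace Cfsg.Agent.S1163

/-- For the Suzuki group Sz(q), q = 2^(2m+1) ≥ 8, realised as the elements g of Sp₄(F) with g* = g^θ (θ the 2^(m+1)-th power map, so that θ² is squaring): `|Sz(q)| = q² (q - 1) (q² + 1)`, and there is a Sylow 2-subgroup `S` whose normaliser `H` has order `q²(q-1)` and index `q² + 1`, the action of `Sz(q)` on the cosets of `H` is doubly transitive, and `S` acts regularly on the cosets other than `H` itself. -/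
theorem result {F : Type*} [Field F] [Fintype F] {m : ℕ} (hm : 1 ≤ m) (hF : Fintype.card F = 2 ^ (2 * m + 1)) :
    Nat.card ↥(Cfsg.Lie.Sz F (2 ^ (m + 1))) = (2 ^ (2 * m + 1)) ^ 2 * (2 ^ (2 * m + 1) - 1) * ((2 ^ (2 * m + 1)) ^ 2 + 1) ∧
    ∃ S : Sylow 2 ↥(Cfsg.Lie.Sz F (2 ^ (m + 1))),
      Nat.card (Subgroup.normalizer ((S : Subgroup ↥(Cfsg.Lie.Sz F (2 ^ (m + 1)))) : Set ↥(Cfsg.Lie.Sz F (2 ^ (m + 1))))) = (2 ^ (2 * m + 1)) ^ 2 * (2 ^ (2 * m + 1) - 1) ∧
      (Subgroup.normalizer ((S : Subgroup ↥(Cfsg.Lie.Sz F (2 ^ (m + 1)))) : Set ↥(Cfsg.Lie.Sz F (2 ^ (m + 1))))).index = (2 ^ (2 * m + 1)) ^ 2 + 1 ∧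
      MulAction.IsMultiplyPretransitive ↥(Cfsg.Lie.Sz F (2 ^ (m + 1))) (↥(Cfsg.Lie.Sz F (2 ^ (m + 1))) ⧸ Subgroup.normalizer ((S : Subgroup ↥(Cfsg.Lie.Sz F (2 ^ (m + 1)))) : Set ↥(Cfsg.Lie.Sz F (2 ^ (m + 1))))) 2 ∧
      ∀ x y : ↥(Cfsg.Lie.Sz F (2 ^ (m + 1))) ⧸ Subgroup.normalizer ((S : Subgroup ↥(Cfsg.Lie.Sz F (2 ^ (m + 1)))) : Set ↥(Cfsg.Lie.Sz F (2 ^ (m + 1)))),
        x ≠ (QuotientGroup.mk 1) → y ≠ (QuotientGroup.mk 1) → ∃! s : ↥(S : Subgroup ↥(Cfsg.Lie.Sz F (2 ^ (m + 1)))), (s : ↥(Cfsg.Lie.Sz F (2 ^ (m + 1)))) • x = y := by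
  haveI := charP_two hF
  have hθ : ∀ x : F, szTh m (szTh m x) = x * x := th_sq hF
  refine ⟨by rw [card_sz hθ, ← hF]; ring, sylow hθ hF, ?_, ?_, ?_, ?_⟩ <;> rw [sylow_coe hθ hF, normalizer_U hθ]
  · rw [card_B hθ, ← hF, sq]
  · refine Nat.eq_of_mul_eq_mul_right (Nat.card_pos (α := ↥(B hθ))) ?_
    rw [Subgroup.index_mul_card, card_sz hθ, card_B hθ, ← hF]
    ring
  · rw [MulAction.is_two_pretransitive_iff]
    intro a b c d
    induction a using QuotientGroup.induction_on with | H a => ?_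
    induction b using QuotientGroup.induction_on with | H b => ?_
    induction c using QuotientGroup.induction_on with | H c => ?_
    induction d using QuotientGroup.induction_on with | H d => ?_
    intro hab hcd
    have hiff : ∀ x y : ↥(G F m), (x : ↥(G F m) ⧸ B hθ) = y ↔ Suz.act hθ x none = Suz.act hθ y none := fun x y => by
      rw [QuotientGroup.eq, mem_B, Suz.act_mul]
      constructor
      · intro h; rw [← (Suz.act_injective hθ x⁻¹).eq_iff, Suz.act_inv_act, h]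
      · intro h; rw [← h, Suz.act_inv_act]
    obtain ⟨g1, h1, h2⟩ := two_transitive hθ (fun h => hab ((hiff a b).mpr h))
    obtain ⟨g2, h3, h4⟩ := two_transitive hθ (fun h => hcd ((hiff c d).mpr h))
    have k1 : Suz.act hθ g1⁻¹ (Suz.act hθ a none) = none := by rw [← h1, Suz.act_inv_act]
    have k2 : Suz.act hθ g1⁻¹ (Suz.act hθ b none) = some (0, 0) := by rw [← h2, Suz.act_inv_act]
    refine ⟨g2 * g1⁻¹, ?_, ?_⟩ <;> rw [MulAction.Quotient.smul_coe, smul_eq_mul, hiff, Suz.act_mul, Suz.act_mul]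
    · rw [k1, h3]
    · rw [k2, h4]
  · intro x y
    induction x using QuotientGroup.induction_on with | H x => ?_
    induction y using QuotientGroup.induction_on with | H y => ?_
    intro hx hy
    have hiff : ∀ x y : ↥(G F m), (x : ↥(G F m) ⧸ B hθ) = y ↔ Suz.act hθ x none = Suz.act hθ y none := fun x y => by
      rw [QuotientGroup.eq, mem_B, Suz.act_mul]
      constructor
      · intro h; rw [← (Suz.act_injective hθ x⁻¹).eq_iff, Suz.act_inv_act, h]
      · intro h; rw [← h, Suz.act_inv_act]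
    rw [ne_eq, hiff, Suz.act_one] at hx hy
    obtain ⟨⟨a, b⟩, hxa⟩ := Option.ne_none_iff_exists.mp hx
    obtain ⟨⟨a1, b1⟩, hya⟩ := Option.ne_none_iff_exists.mp hy
    refine ⟨⟨u hθ (a1 + a) (b1 + b + szTh m (a1 + a) * a), u_mem hθ _ _⟩, ?_, ?_⟩
    · show (u hθ _ _ • (x : ↥(G F m) ⧸ B hθ)) = y
      rw [MulAction.Quotient.smul_coe, smul_eq_mul, hiff, Suz.act_mul, ← hxa, ← hya, act_u_some]
      congr 2
      · linear_combination a * (CharTwo.two_eq_zero : (2 : F) = 0)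
      · linear_combination (b + szTh m (a1 + a) * a) * (CharTwo.two_eq_zero : (2 : F) = 0)
    · rintro ⟨_, a2, b2, rfl⟩ hs
      change (u hθ a2 b2 • (x : ↥(G F m) ⧸ B hθ)) = y at hs
      rw [MulAction.Quotient.smul_coe, smul_eq_mul, hiff, Suz.act_mul, ← hxa, ← hya, act_u_some] at hs
      simp only [Option.some.injEq, Prod.mk.injEq] at hs
      obtain ⟨e1, e2⟩ := hs
      apply Subtype.ext
      show u hθ a2 b2 = u hθ (a1 + a) (b1 + b + szTh m (a1 + a) * a)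
      have ha2 : a2 = a1 + a := by linear_combination e1 - a * (CharTwo.two_eq_zero : (2 : F) = 0)
      rw [ha2] at e2
      rw [ha2]
      congr 1
      linear_combination e2 - (b + szTh m (a1 + a) * a) * (CharTwo.two_eq_zero : (2 : F) = 0)

end Cfsg.Agent.S1163
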