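import Cfsg.Statements.S2363
import Cfsg.Statements.S2363
import Cfsg.Agent.Lib.Classical.SympCard
import Cfsg.Agent.S0243
import Cfsg.Agent.S0280
import Cfsg.Agent.S0292
import Cfsg.Agent.S0293
import Cfsg.Agent.S0294
import Cfsg.Agent.S1059
import Cfsg.Agent.S1062
import Cfsg.Agent.S1063
import Cfsg.Agent.S1064
import Cfsg.Agent.S1065
import Cfsg.Agent.S1066
import Cfsg.Agent.S1067
import Cfsg.Agent.S1068
import Cfsg.Agent.S1069
import Cfsg.Agent.S1163

set_option autoImplicit false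
open Cfsg

namespace Cfsg.Agent.S2363

section Helpers
variable {G : Type*} [Group G]

/-- the two numerical conclusions -/
theorem finish [Finite G] {p f q : ℕ} (hp : p.Prime) (hq : q = p ^ f) (N A : ℕ)
    (hdvd : q ^ N ∣ Nat.card G) (hlt : Nat.card G < q ^ A) (h1 : A ≤ 3 * N) (h2 : 3 * A ≤ 8 * N) :
    Nat.card G < p ^ (3 * (Nat.card G).factorization p) ∧
      Nat.card G ^ 3 < p ^ (8 * (Nat.card G).factorization p) := by
  subst hq
  rw [← pow_mul] at hdvd hlt
  have hk : f * N ≤ (Nat.card G).factorization p :=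
    (hp.pow_dvd_iff_le_factorization Nat.card_pos.ne').mp hdvd
  refine ⟨hlt.trans_le (Nat.pow_le_pow_right hp.pos ?_), ?_⟩
  · exact le_trans (by nlinarith) (Nat.mul_le_mul_left 3 hk)
  · refine lt_of_lt_of_le (Nat.pow_lt_pow_left hlt (by norm_num)) ?_
    rw [← pow_mul]
    exact Nat.pow_le_pow_right hp.pos (le_trans (by nlinarith) (Nat.mul_le_mul_left 8 hk))

theorem dvd_of_scaled {p f q d N c M : ℕ} (hp : p.Prime) (hq : q = p ^ f) (hd : ¬ p ∣ d)
    (h : q ^ N ∣ d * c) (_hM : M = M := rfl) : q ^ N ∣ c :=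
  Nat.Coprime.dvd_of_dvd_mul_left
    (Nat.Coprime.pow_left _ (hq ▸ Nat.Coprime.pow_left _ (hp.coprime_iff_not_dvd.mpr hd))) h

theorem not_dvd_sub_one {p f q : ℕ} (hp : p.Prime) (hf : 0 < f) (hq : q = p ^ f) :
    ¬ p ∣ q - 1 := by
  intro h
  have h1 : p ∣ q := hq ▸ dvd_pow_self p hf.ne'
  have hq1 : 1 ≤ q := hq ▸ Nat.one_le_pow _ _ hp.pos
  have := Nat.dvd_sub h1 h
  rw [show q - (q - 1) = 1 by omega] at this
  exact hp.one_lt.ne' (Nat.dvd_one.mp this)

theorem not_dvd_add_one {p f q : ℕ} (hp : p.Prime) (hf : 0 < f) (hq : q = p ^ f) :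
    ¬ p ∣ q + 1 := by
  intro h
  have h1 : p ∣ q := hq ▸ dvd_pow_self p hf.ne'
  exact hp.one_lt.ne' (Nat.dvd_one.mp ((Nat.dvd_add_right h1).mp h))

theorem not_dvd_gcd {p a b : ℕ} (h : ¬ p ∣ b) : ¬ p ∣ Nat.gcd a b :=
  fun h' => h (h'.trans (Nat.gcd_dvd_right a b))

theorem le_of_scaled {d c X : ℕ} (hd : d ≠ 0) (h : d * c = X) : c ≤ X :=
  h ▸ Nat.le_mul_of_pos_left c (Nat.pos_of_ne_zero hd)

theorem pow_pred_mul {q : ℕ} (hq : 2 ≤ q) {a : ℕ} (ha : 1 ≤ a) : 1 ≤ q ^ a - 1 := by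
  have : q ^ 1 ≤ q ^ a := Nat.pow_le_pow_right (by omega) ha
  rw [pow_one] at this
  omega

theorem mixed_lt {q a b : ℕ} (hq : 1 ≤ q) (hab : b ≤ a) :
    (q ^ a + 1) * (q ^ b - 1) < q ^ (a + b) := by
  have h1 : q ^ b ≤ q ^ a := Nat.pow_le_pow_right hq hab
  have h2 : 1 ≤ q ^ b := Nat.one_le_pow _ _ hq
  rw [pow_add]
  obtain ⟨e, he⟩ : ∃ e, q ^ b = e + 1 := ⟨q ^ b - 1, by omega⟩
  rw [he] at h1 ⊢
  rw [Nat.add_sub_cancel]
  nlinarith

theorem sub_one_lt {q a : ℕ} (hq : 1 ≤ q) : q ^ a - 1 < q ^ a := by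
  have : 1 ≤ q ^ a := Nat.one_le_pow _ _ hq
  omega

theorem prod_pred_le (q : ℕ) (e : ℕ → ℕ) (s : Finset ℕ) :
    ∏ i ∈ s, (q ^ e i - 1) ≤ q ^ ∑ i ∈ s, e i := by
  rw [← Finset.prod_pow_eq_pow_sum]
  exact Finset.prod_le_prod' fun i _ => Nat.sub_le _ _

theorem sum_two_mul_succ (m : ℕ) : ∑ i ∈ Finset.range m, 2 * (i + 1) = m * (m + 1) := by
  induction m with
  | zero => simp
  | succ m ih => rw [Finset.sum_range_succ, ih]; ring

/-- the product occurring in the order of `GU_n(q)` -/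
theorem unitary_prod_le {q : ℕ} (hq : 2 ≤ q) (n : ℕ) :
    (∏ i ∈ Finset.range (2 * n + 1), (if Even i then q ^ (i + 1) + 1 else q ^ (i + 1) - 1) : ℕ)
        ≤ (q + 1) * q ^ (2 * n * n + 3 * n) ∧
      (∏ i ∈ Finset.range (2 * n + 2), (if Even i then q ^ (i + 1) + 1 else q ^ (i + 1) - 1) : ℕ)
        < (q + 1) * q ^ (2 * n * n + 5 * n + 2) := by
  induction n with
  | zero =>
    constructor
    · simp
    · simp only [Finset.prod_range_succ, Finset.prod_range_zero]
      norm_num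
      have : 1 ≤ q ^ 2 := Nat.one_le_pow _ _ (by omega)
      omega
  | succ n ih =>
    have key : (∏ i ∈ Finset.range (2 * (n + 1) + 1),
        (if Even i then q ^ (i + 1) + 1 else q ^ (i + 1) - 1) : ℕ)
          ≤ (q + 1) * q ^ (2 * (n + 1) * (n + 1) + 3 * (n + 1)) := by
      rw [show 2 * (n + 1) + 1 = (2 * n + 1) + 1 + 1 by ring, Finset.prod_range_succ,
        Finset.prod_range_succ, if_neg (by simp [parity_simps]), if_pos (by simp [parity_simps]),
        mul_assoc]
      calc _ ≤ (q + 1) * q ^ (2 * n * n + 3 * n) *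
            q ^ ((2 * n + 1 + 1 + 1) + (2 * n + 1 + 1)) := by
            refine Nat.mul_le_mul ih.1 ?_
            rw [mul_comm]
            exact (mixed_lt (by omega) (by omega)).le
        _ = _ := by rw [mul_assoc, ← pow_add]; ring_nf
    refine ⟨key, ?_⟩
    rw [show 2 * (n + 1) + 2 = (2 * (n + 1) + 1) + 1 by ring, Finset.prod_range_succ,
      if_neg (by simp [parity_simps])]
    refine lt_of_lt_of_le (Nat.mul_lt_mul_of_le_of_lt key (sub_one_lt (by omega)) (by positivity)) ?_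
    rw [mul_assoc, ← pow_add]
    exact Nat.mul_le_mul_left _ (Nat.pow_le_pow_right (by omega) (by ring_nf; omega))

theorem unitary_prod_lt {q : ℕ} (hq : 2 ≤ q) (n : ℕ) (hn : 2 ≤ n) :
    (∏ i ∈ Finset.range n, (if Even i then q ^ (i + 1) + 1 else q ^ (i + 1) - 1) : ℕ)
        < (q + 1) * q ^ (n * (n + 1) / 2 - 1) := by
  rcases Nat.even_or_odd' n with ⟨k, rfl | rfl⟩
  · obtain ⟨k, rfl⟩ : ∃ j, k = j + 1 := ⟨k - 1, by omega⟩
    have h := (unitary_prod_le hq k).2
    convert h using 3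
    · ring_nf
    · have : 2 * (k + 1) * (2 * (k + 1) + 1) / 2 = (k + 1) * (2 * (k + 1) + 1) := by
        rw [mul_assoc, Nat.mul_div_cancel_left _ (by norm_num)]
      rw [this]
      have : (k + 1) * (2 * (k + 1) + 1) = 2 * k * k + 5 * k + 3 := by ring
      omega
  · obtain ⟨k, rfl⟩ : ∃ j, k = j + 1 := ⟨k - 1, by omega⟩
    rw [show 2 * (k + 1) + 1 = (2 * k + 1) + 1 + 1 by ring, Finset.prod_range_succ,
        Finset.prod_range_succ, if_neg (by simp [parity_simps]), if_pos (by simp [parity_simps]),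
        mul_assoc]
    refine lt_of_lt_of_le (Nat.mul_lt_mul_of_le_of_lt (unitary_prod_le hq k).1
      (by rw [mul_comm]; exact mixed_lt (by omega) (by omega)) (by positivity)) ?_
    rw [mul_assoc, ← pow_add]
    refine Nat.mul_le_mul_left _ (Nat.pow_le_pow_right (by omega) ?_)
    have : (2 * k + 1 + 1 + 1) * (2 * k + 1 + 1 + 1 + 1) / 2 = (2 * k + 3) * (k + 2) := by
      rw [show (2 * k + 1 + 1 + 1) * (2 * k + 1 + 1 + 1 + 1) = 2 * ((2 * k + 3) * (k + 2)) by ring,
        Nat.mul_div_cancel_left _ (by norm_num)]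
    rw [this]
    have : (2 * k + 3) * (k + 2) = 2 * k * k + 7 * k + 6 := by ring
    omega

theorem unitary_exponents (n : ℕ) (hn : 3 ≤ n) :
    n * (n - 1) / 2 + (n * (n + 1) / 2 - 1) ≤ 3 * (n * (n - 1) / 2) ∧
      3 * (n * (n - 1) / 2 + (n * (n + 1) / 2 - 1)) ≤ 8 * (n * (n - 1) / 2) := by
  obtain ⟨a, ha⟩ : 2 ∣ n * (n - 1) := by
    exact (Nat.even_mul_pred_self n).two_dvd
  have h2 : n * (n + 1) = n * (n - 1) + 2 * n := by
    obtain ⟨k, rfl⟩ : ∃ k, n = k + 1 := ⟨n - 1, by omega⟩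
    rw [Nat.add_sub_cancel]; ring
  have h3 : 3 * (n - 1) ≤ n * (n - 1) := Nat.mul_le_mul_right _ hn
  omega

theorem classical_psl {p f q : ℕ} (hp : p.Prime) (hf : 0 < f) (hq : q = p ^ f) [Finite G] {n : ℕ}
    (hn : 2 ≤ n) (h : Nat.gcd n (q - 1) * ((q - 1) * Nat.card G) = ∏ i : Fin n, (q ^ n - q ^ (i : ℕ))) :
    q ^ (n * (n - 1) / 2) ∣ Nat.card G ∧ Nat.card G < q ^ (n * (n - 1) + (n - 1)) := by
  have hq2 : 2 ≤ q := hq ▸ le_trans hp.two_le (Nat.le_self_pow hf.ne' p)
  rw [Fin.prod_univ_eq_prod_range (fun i => q ^ n - q ^ i) n] at h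
  constructor
  · refine dvd_of_scaled (M := 0) hp hq (d := Nat.gcd n (q - 1) * (q - 1)) ?_ ?_
    · intro hd
      rcases hp.dvd_mul.mp hd with hd | hd
      · exact not_dvd_gcd (not_dvd_sub_one hp hf hq) hd
      · exact not_dvd_sub_one hp hf hq hd
    · rw [mul_assoc, h, ← Finset.sum_range_id, ← Finset.prod_pow_eq_pow_sum]
      refine Finset.prod_dvd_prod_of_dvd _ _ fun i hi => ?_
      exact Nat.dvd_sub (Nat.pow_dvd_pow q (Finset.mem_range.mp hi).le) dvd_rfl
  · obtain ⟨m, rfl⟩ : ∃ m, n = m + 1 := ⟨n - 1, by omega⟩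
    rw [Finset.prod_range_succ, ← mul_assoc, mul_comm _ (q - 1), mul_assoc] at h
    have hlast : q ^ (m + 1) - q ^ m = (q - 1) * q ^ m := by
      rw [pow_succ, Nat.sub_mul, one_mul, mul_comm]
    rw [hlast, mul_left_comm (∏ i ∈ Finset.range m, (q ^ (m + 1) - q ^ i))] at h
    have h' := Nat.eq_of_mul_eq_mul_left (by omega) h
    refine lt_of_le_of_lt (le_of_scaled (Nat.gcd_ne_zero_left (by omega)) h') ?_
    rw [Nat.add_sub_cancel]
    conv_rhs => rw [pow_add]
    refine Nat.mul_lt_mul_of_pos_right ?_ (Nat.pow_pos (by omega))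
    rw [mul_comm (m + 1) m, ← Finset.card_range m, Finset.card_range m]
    calc _ < ∏ _i ∈ Finset.range m, q ^ (m + 1) := by
          refine Finset.prod_lt_prod_of_nonempty (fun i hi => ?_) (fun i hi => ?_) ⟨0, by simp; omega⟩
          · exact Nat.sub_pos_of_lt (Nat.pow_lt_pow_right (by omega) (by simp at hi; omega))
          · exact Nat.sub_lt (Nat.pow_pos (by omega)) (Nat.pow_pos (by omega))
      _ = _ := by rw [Finset.prod_const, Finset.card_range, ← pow_mul, mul_comm]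


end Helpers

/-- Let G be a finite simple group of Lie type in characteristic p and let p^k be the exact power of p dividing the order of G. Then the order of G is less than p^(3k); and unless G is isomorphic to PSL(2, F) for the field F with p^k elements, the cube of the order of G is less than p^(8k) (that is, the order is below p^(8k/3)). -/
theorem result {G : Type*} [Group G] [Finite G] (p : ℕ) (hp : p.Prime) (hG : Cfsg.IsLieTypeChar p G) :
    Nat.card G < p ^ (3 * (Nat.card G).factorization p) ∧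
      ((¬ ∃ (F : Type) (_ : Field F) (_ : Fintype F), Fintype.card F = p ^ (Nat.card G).factorization p ∧
          Nonempty (G ≃* Matrix.ProjectiveSpecialLinearGroup (Fin 2) F)) →
        Nat.card G ^ 3 < p ^ (8 * (Nat.card G).factorization p)) := by
  haveI : Fact p.Prime := ⟨hp⟩
  have main : (∃ f N : ℕ, 0 < f ∧ ∃ A, (p ^ f) ^ N ∣ Nat.card G ∧ Nat.card G < (p ^ f) ^ A ∧
      A ≤ 3 * N ∧ 3 * A ≤ 8 * N) ∨
      ∃ (F : Type) (_ : Field F) (_ : Fintype F),
        Fintype.card F = p ^ (Nat.card G).factorization p ∧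
        Nat.card G < p ^ (3 * (Nat.card G).factorization p) ∧
        Nonempty (G ≃* Matrix.ProjectiveSpecialLinearGroup (Fin 2) F) := by
    rcases hG with h | h | h | h | h | h | h | h | h | h | h
    · obtain ⟨F, _, _, _, n, hn, -, ⟨e⟩⟩ := h
      obtain ⟨⟨f, hf0⟩, -, hF⟩ := FiniteField.card F p
      simp only [PNat.mk_coe] at hF
      have hc := S0243.result hF n hn
      rw [← Nat.card_congr e.toEquiv] at hc
      obtain ⟨hd, hl⟩ := classical_psl hp hf0 rfl hn hc
      rcases Nat.lt_or_ge n 3 with h3 | h3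
      · obtain rfl : n = 2 := by omega
        right
        norm_num at hd hl
        have hk : (Nat.card G).factorization p = f := by
          rw [Fin.prod_univ_two] at hc
          simp only [Fin.val_zero, Fin.val_one, pow_zero, pow_one] at hc
          have h2 : (p ^ f) ^ 2 - p ^ f = (p ^ f - 1) * p ^ f := by
            rw [Nat.sub_mul, one_mul, sq]
          rw [h2, mul_left_comm ((p ^ f) ^ 2 - 1), mul_left_comm (Nat.gcd 2 _)] at hc
          have hc' := Nat.eq_of_mul_eq_mul_left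
            (by have := Nat.one_lt_pow hf0.ne' hp.one_lt; omega) hc
          have hnd : ¬ p ∣ (p ^ f) ^ 2 - 1 := by
            rw [← pow_mul]; exact not_dvd_sub_one hp (by omega) rfl
          refine le_antisymm ?_ ((hp.pow_dvd_iff_le_factorization Nat.card_pos.ne').mp hd)
          have h3 : p ^ (Nat.card G).factorization p ∣ p ^ f :=
            Nat.Coprime.dvd_of_dvd_mul_left
              (Nat.Coprime.pow_left _ (hp.coprime_iff_not_dvd.mpr hnd))
              ((Nat.ordProj_dvd _ p).trans (hc' ▸ dvd_mul_left _ _))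
          exact (Nat.pow_dvd_pow_iff_le_right hp.one_lt).mp h3
        refine ⟨F, _, _, by rw [hk]; exact hF, ?_, ⟨e⟩⟩
        rw [hk, mul_comm 3, pow_mul]
        exact hl
      · left
        refine ⟨f, n * (n - 1) / 2, hf0, _, hd, hl, ?_⟩
        obtain ⟨a, ha⟩ : 2 ∣ n * (n - 1) := (Nat.even_mul_pred_self n).two_dvd
        have h3' : 3 * (n - 1) ≤ n * (n - 1) := Nat.mul_le_mul_right _ h3
        constructor <;> omega
    · obtain ⟨F, _, _, _, m, hm, -, ⟨e⟩⟩ := h
      obtain ⟨⟨f, hf0⟩, -, hF⟩ := FiniteField.card F p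
      simp only [PNat.mk_coe] at hF
      have hc := Lib.Classical.card_psp_mul (F := F) (show 1 ≤ m by omega)
      rw [← Nat.card_congr e.toEquiv, hF] at hc
      have hm2 : 2 * m ≤ m ^ 2 := by nlinarith
      refine Or.inl ⟨f, m ^ 2, hf0, m ^ 2 + m * (m + 1), dvd_of_scaled (M := 0) hp rfl
        (not_dvd_gcd (not_dvd_sub_one hp hf0 rfl)) (by rw [hc]; exact dvd_mul_right _ _), ?_, ?_, ?_⟩
      · refine lt_of_le_of_lt (le_of_scaled (Nat.gcd_ne_zero_left (by omega)) hc) ?_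
        rw [pow_add]
        refine Nat.mul_lt_mul_of_pos_left ?_ (by positivity [hp.pos])
        rw [← sum_two_mul_succ, ← Finset.prod_pow_eq_pow_sum]
        refine Finset.prod_lt_prod_of_nonempty (fun i _ => ?_) (fun i _ => ?_) ⟨0, by simp; omega⟩
        · exact pow_pred_mul (le_trans hp.two_le (Nat.le_self_pow hf0.ne' p)) (by omega)
        · exact sub_one_lt (Nat.one_le_pow _ _ hp.pos)
      · nlinarith
      · nlinarith
    · obtain ⟨F, _, _, _, n, q, hF2, hn, -, ⟨e⟩⟩ := h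
      obtain ⟨⟨g, hg0⟩, -, hF⟩ := FiniteField.card F p
      simp only [PNat.mk_coe] at hF
      obtain ⟨f, -, rfl⟩ : ∃ f ≤ g, q = p ^ f :=
        (Nat.dvd_prime_pow hp).mp (hF ▸ hF2 ▸ dvd_pow_self q two_ne_zero)
      have hf0 : 0 < f := by
        rcases Nat.eq_zero_or_pos f with rfl | h0
        · exact absurd (hF2 ▸ Fintype.one_lt_card (α := F)) (by simp)
        · exact h0
      have hc := S0280.result hF2 n (by omega)
      rw [← Nat.card_congr e.toEquiv] at hc
      have hq2 : 2 ≤ p ^ f := le_trans hp.two_le (Nat.le_self_pow hf0.ne' p)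
      refine Or.inl ⟨f, n * (n - 1) / 2, hf0, n * (n - 1) / 2 + (n * (n + 1) / 2 - 1),
        dvd_of_scaled (M := 0) hp rfl (d := Nat.gcd n (p ^ f + 1) * (p ^ f + 1)) ?_
          (by rw [mul_assoc, hc]; exact dvd_mul_right _ _), ?_, unitary_exponents n hn⟩
      · intro hd
        rcases hp.dvd_mul.mp hd with hd | hd
        · exact not_dvd_gcd (not_dvd_add_one hp hf0 rfl) hd
        · exact not_dvd_add_one hp hf0 rfl hd
      · have := le_of_scaled (Nat.gcd_ne_zero_left (by omega)) hc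
        have h4 : (p ^ f + 1) * Nat.card G < (p ^ f + 1) *
            (p ^ f) ^ (n * (n - 1) / 2 + (n * (n + 1) / 2 - 1)) := by
          refine lt_of_le_of_lt this ?_
          rw [pow_add, mul_left_comm]
          exact Nat.mul_lt_mul_of_pos_left (unitary_prod_lt hq2 n (by omega)) (by positivity)
        exact Nat.lt_of_mul_lt_mul_left h4
    · obtain ⟨F, _, _, _, m, hm, hodd, ⟨e⟩⟩ := h
      obtain ⟨⟨f, hf0⟩, -, hF⟩ := FiniteField.card F p
      simp only [PNat.mk_coe] at hF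
      have hc := S0292.result hF (hF ▸ hodd) m hm
      rw [← Nat.card_congr e.toEquiv] at hc
      have hp2 : ¬ p ∣ 2 := by
        intro h2
        obtain rfl := (Nat.prime_dvd_prime_iff_eq hp Nat.prime_two).mp h2
        rw [hF] at hodd
        exact Nat.not_even_iff_odd.mpr hodd ((even_two).pow_of_ne_zero hf0.ne')
      refine Or.inl ⟨f, m ^ 2, hf0, m ^ 2 + m * (m + 1), dvd_of_scaled (M := 0) hp rfl
        hp2 (by rw [hc]; exact dvd_mul_right _ _), ?_, ?_, ?_⟩
      · refine lt_of_le_of_lt (le_of_scaled two_ne_zero hc) ?_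
        rw [pow_add]
        refine Nat.mul_lt_mul_of_pos_left ?_ (by positivity [hp.pos])
        rw [← sum_two_mul_succ, ← Finset.prod_pow_eq_pow_sum]
        refine Finset.prod_lt_prod_of_nonempty (fun i _ => ?_) (fun i _ => ?_) ⟨0, by simp; omega⟩
        · exact pow_pred_mul (le_trans hp.two_le (Nat.le_self_pow hf0.ne' p)) (by omega)
        · exact sub_one_lt (Nat.one_le_pow _ _ hp.pos)
      · nlinarith
      · nlinarith
    · obtain ⟨F, _, _, _, m, hm, ⟨e⟩⟩ := h
      obtain ⟨⟨f, hf0⟩, -, hF⟩ := FiniteField.card F p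
      simp only [PNat.mk_coe] at hF
      have hc := S0293.result hF m hm
      rw [← Nat.card_congr e.toEquiv] at hc
      have hq1 : 1 ≤ p ^ f := Nat.one_le_pow _ _ hp.pos
      refine Or.inl ⟨f, m * (m - 1), hf0, m * (m - 1) + m + (m - 1) * m, dvd_of_scaled (M := 0) hp rfl
        (not_dvd_gcd (a := 4) ?_) (by rw [hc]; exact (dvd_mul_right _ _).trans (dvd_mul_right _ _)), ?_, ?_, ?_⟩
      · rw [← pow_mul]; exact not_dvd_sub_one hp (Nat.mul_pos hf0 (by omega)) rfl
      · refine lt_of_le_of_lt (le_of_scaled (Nat.gcd_ne_zero_left (by omega)) hc) ?_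
        rw [pow_add, pow_add]
        refine Nat.mul_lt_mul_of_lt_of_le (Nat.mul_lt_mul_of_pos_left (sub_one_lt hq1)
          (by positivity)) ?_ (by positivity)
        refine (prod_pred_le _ _ _).trans (le_of_eq ?_)
        rw [sum_two_mul_succ, Nat.sub_add_cancel (by omega)]
      · have h4 : 4 * (m - 1) ≤ m * (m - 1) := Nat.mul_le_mul_right _ hm
        rw [mul_comm (m - 1) m]; omega
      · have h4 : 4 * (m - 1) ≤ m * (m - 1) := Nat.mul_le_mul_right _ hm
        rw [mul_comm (m - 1) m]; omega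
    · obtain ⟨F, _, _, _, m, a, b, hm, hab, ⟨e⟩⟩ := h
      obtain ⟨⟨f, hf0⟩, -, hF⟩ := FiniteField.card F p
      simp only [PNat.mk_coe] at hF
      have hc := S0294.result hF m hm a b hab
      rw [← Nat.card_congr e.toEquiv] at hc
      have hq1 : 1 ≤ p ^ f := Nat.one_le_pow _ _ hp.pos
      refine Or.inl ⟨f, m * (m - 1), hf0, m * (m - 1) + m + (m - 1) * m, dvd_of_scaled (M := 0) hp rfl
        (not_dvd_gcd (a := 4) ?_) (by rw [hc]; exact (dvd_mul_right _ _).trans (dvd_mul_right _ _)), ?_, ?_, ?_⟩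
      · rw [← pow_mul]; exact not_dvd_add_one hp (Nat.mul_pos hf0 (by omega)) rfl
      · refine lt_of_le_of_lt (le_of_scaled (Nat.gcd_ne_zero_left (by omega)) hc) ?_
        obtain ⟨j, rfl⟩ : ∃ j, m = j + 2 := ⟨m - 2, by omega⟩
        rw [show j + 2 - 1 = j + 1 by omega, Finset.prod_range_succ', mul_assoc,
          add_assoc ((j + 2) * (j + 1))]
        conv_rhs => rw [pow_add]
        refine Nat.mul_lt_mul_of_pos_left ?_ (by positivity)
        rw [mul_left_comm]
        calc _ < (p ^ f) ^ (∑ i ∈ Finset.range j, 2 * (i + 1 + 1)) * (p ^ f) ^ (j + 2 + 2) :=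
              Nat.mul_lt_mul_of_le_of_lt (prod_pred_le _ _ _) (mixed_lt hq1 (by omega))
                (by positivity)
          _ = _ := by
            rw [← pow_add]
            congr 1
            have h5 : ∀ k, ∑ i ∈ Finset.range k, 2 * (i + 1 + 1) = k * (k + 3) := fun k => by
              induction k with
              | zero => simp
              | succ k ih => rw [Finset.sum_range_succ, ih]; ring
            rw [h5]; ring
      · have h4 : 4 * (m - 1) ≤ m * (m - 1) := Nat.mul_le_mul_right _ hm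
        rw [mul_comm (m - 1) m]; omega
      · have h4 : 4 * (m - 1) ≤ m * (m - 1) := Nat.mul_le_mul_right _ hm
        rw [mul_comm (m - 1) m]; omega
    · obtain ⟨F, _, _, _, h⟩ := h
      obtain ⟨⟨f, hf0⟩, -, hF⟩ := FiniteField.card F p
      simp only [PNat.mk_coe] at hF
      have hq1 : 1 ≤ p ^ f := Nat.one_le_pow _ _ hp.pos
      have hm := not_dvd_sub_one hp hf0 rfl
      left
      rcases h with ⟨-, ⟨e⟩⟩ | ⟨⟨e⟩⟩ | ⟨⟨e⟩⟩ | ⟨⟨e⟩⟩ | ⟨⟨e⟩⟩
      · have hc := S1059.result hF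
        rw [← Nat.card_congr e.toEquiv] at hc
        refine ⟨f, 6, hf0, 14, hc ▸ dvd_mul_of_dvd_left (dvd_mul_right _ _) _, hc ▸ ?_, by norm_num⟩
        calc _ < (p ^ f) ^ 6 * (p ^ f) ^ 2 * (p ^ f) ^ 6 :=
              Nat.mul_lt_mul_of_le_of_lt (Nat.mul_le_mul_left _ (Nat.sub_le _ _))
                (sub_one_lt hq1) (by positivity)
          _ = _ := by ring
      · have hc := S1062.result hF
        rw [← Nat.card_congr e.toEquiv] at hc
        refine ⟨f, 24, hf0, 52, hc ▸ dvd_mul_of_dvd_left (dvd_mul_of_dvd_left (dvd_mul_of_dvd_left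
          (dvd_mul_right _ _) _) _) _, hc ▸ ?_, by norm_num⟩
        calc _ < (p ^ f) ^ 24 * (p ^ f) ^ 2 * (p ^ f) ^ 6 * (p ^ f) ^ 8 * (p ^ f) ^ 12 := by
              refine Nat.mul_lt_mul_of_le_of_lt ?_ (sub_one_lt hq1) (by positivity)
              gcongr <;> exact Nat.sub_le _ _
          _ = _ := by ring
      · have hc := S1063.result hF
        rw [← Nat.card_congr e.toEquiv] at hc
        refine ⟨f, 36, hf0, 78, dvd_of_scaled (M := 0) hp rfl (not_dvd_gcd hm)
          (by rw [hc]; exact dvd_mul_of_dvd_left (dvd_mul_of_dvd_left (dvd_mul_of_dvd_left (dvd_mul_of_dvd_left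
          (dvd_mul_of_dvd_left (dvd_mul_right _ _) _) _) _) _) _),
          lt_of_le_of_lt (le_of_scaled (Nat.gcd_ne_zero_left (by norm_num)) hc) ?_, by norm_num⟩
        calc _ < (p ^ f) ^ 36 * (p ^ f) ^ 2 * (p ^ f) ^ 5 * (p ^ f) ^ 6 * (p ^ f) ^ 8 *
              (p ^ f) ^ 9 * (p ^ f) ^ 12 := by
              refine Nat.mul_lt_mul_of_le_of_lt ?_ (sub_one_lt hq1) (by positivity)
              gcongr <;> exact Nat.sub_le _ _
          _ = _ := by ring
      · have hc := S1064.result hF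
        rw [← Nat.card_congr e.toEquiv] at hc
        refine ⟨f, 63, hf0, 133, dvd_of_scaled (M := 0) hp rfl (not_dvd_gcd hm)
          (by rw [hc]; exact dvd_mul_of_dvd_left (dvd_mul_of_dvd_left (dvd_mul_of_dvd_left (dvd_mul_of_dvd_left
          (dvd_mul_of_dvd_left (dvd_mul_of_dvd_left (dvd_mul_right _ _) _) _) _) _) _) _),
          lt_of_le_of_lt (le_of_scaled (Nat.gcd_ne_zero_left (by norm_num)) hc) ?_, by norm_num⟩
        calc _ < (p ^ f) ^ 63 * (p ^ f) ^ 2 * (p ^ f) ^ 6 * (p ^ f) ^ 8 * (p ^ f) ^ 10 *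
              (p ^ f) ^ 12 * (p ^ f) ^ 14 * (p ^ f) ^ 18 := by
              refine Nat.mul_lt_mul_of_le_of_lt ?_ (sub_one_lt hq1) (by positivity)
              gcongr <;> exact Nat.sub_le _ _
          _ = _ := by ring
      · have hc := S1065.result hF
        rw [← Nat.card_congr e.toEquiv] at hc
        refine ⟨f, 120, hf0, 248, hc ▸ dvd_mul_of_dvd_left (dvd_mul_of_dvd_left (dvd_mul_of_dvd_left
          (dvd_mul_of_dvd_left (dvd_mul_of_dvd_left (dvd_mul_of_dvd_left (dvd_mul_of_dvd_left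
          (dvd_mul_right _ _) _) _) _) _) _) _) _, hc ▸ ?_, by norm_num⟩
        calc _ < (p ^ f) ^ 120 * (p ^ f) ^ 2 * (p ^ f) ^ 8 * (p ^ f) ^ 12 * (p ^ f) ^ 14 *
              (p ^ f) ^ 18 * (p ^ f) ^ 20 * (p ^ f) ^ 24 * (p ^ f) ^ 30 := by
              refine Nat.mul_lt_mul_of_le_of_lt ?_ (sub_one_lt hq1) (by positivity)
              gcongr <;> exact Nat.sub_le _ _
          _ = _ := by ring
    · obtain ⟨K, _, _, _, q, hqp, h⟩ := h
      obtain ⟨⟨g, hg0⟩, -, hF⟩ := FiniteField.card K p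
      simp only [PNat.mk_coe] at hF
      obtain ⟨f, -, rfl⟩ : ∃ f ≤ g, q = p ^ f := by
        rcases h with ⟨h2, -⟩ | ⟨h2, -⟩
        · exact (Nat.dvd_prime_pow hp).mp (hF ▸ h2 ▸ dvd_pow_self q two_ne_zero)
        · exact (Nat.dvd_prime_pow hp).mp (hF ▸ h2 ▸ dvd_pow_self q three_ne_zero)
      have hf0 : 0 < f := by
        rcases Nat.eq_zero_or_pos f with rfl | h0
        · exact absurd hqp (by simpa using not_isPrimePow_one)
        · exact h0
      have hq1 : 1 ≤ p ^ f := Nat.one_le_pow _ _ hp.pos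
      have hq2 : 2 ≤ p ^ f := le_trans hp.two_le (Nat.le_self_pow hf0.ne' p)
      left
      rcases h with ⟨h2, ⟨e⟩⟩ | ⟨h2, ⟨e⟩⟩
      · have hc := S1066.result hqp h2
        rw [← Nat.card_congr e.toEquiv] at hc
        refine ⟨f, 36, hf0, 78, dvd_of_scaled (M := 0) hp rfl
          (not_dvd_gcd (not_dvd_add_one hp hf0 rfl))
          (by rw [hc]; exact dvd_mul_of_dvd_left (dvd_mul_of_dvd_left (dvd_mul_of_dvd_left (dvd_mul_of_dvd_left
          (dvd_mul_of_dvd_left (dvd_mul_right _ _) _) _) _) _) _),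
          lt_of_le_of_lt (le_of_scaled (Nat.gcd_ne_zero_left (by norm_num)) hc) ?_, by norm_num⟩
        calc _ = (p ^ f) ^ 36 * (((p ^ f) ^ 5 + 1) * ((p ^ f) ^ 2 - 1)) *
              (((p ^ f) ^ 9 + 1) * ((p ^ f) ^ 8 - 1)) * ((p ^ f) ^ 6 - 1) * ((p ^ f) ^ 12 - 1) := by
              ring
          _ < (p ^ f) ^ 36 * (p ^ f) ^ (5 + 2) * (p ^ f) ^ (9 + 8) * (p ^ f) ^ 6 * (p ^ f) ^ 12 := by
              refine Nat.mul_lt_mul_of_le_of_lt ?_ (sub_one_lt hq1) (by positivity)
              gcongr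
              · exact (mixed_lt hq1 (by norm_num)).le
              · exact (mixed_lt hq1 (by norm_num)).le
              · exact Nat.sub_le _ _
          _ = _ := by ring
      · have hc := S1067.result hqp h2
        rw [← Nat.card_congr e.toEquiv] at hc
        refine ⟨f, 12, hf0, 29, hc ▸ dvd_mul_of_dvd_left (dvd_mul_of_dvd_left
          (dvd_mul_right _ _) _) _, hc ▸ ?_, by norm_num⟩
        calc _ < (p ^ f) ^ 12 * (p ^ f) ^ 2 * (p ^ f) ^ 6 * (p ^ f) ^ 9 := by
              refine Nat.mul_lt_mul_of_le_of_lt ?_ ?_ (by positivity)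
              · gcongr <;> exact Nat.sub_le _ _
              · have h8 : 16 ≤ (p ^ f) ^ 4 := by
                  calc 16 = 2 ^ 4 := by norm_num
                    _ ≤ _ := Nat.pow_le_pow_left hq2 _
                have h89 : (p ^ f) ^ 8 = (p ^ f) ^ 4 * (p ^ f) ^ 4 := by ring
                have h98 : (p ^ f) ^ 9 = (p ^ f) ^ 8 * (p ^ f) := by ring
                nlinarith [Nat.mul_le_mul h8 h8, Nat.mul_le_mul_left ((p ^ f) ^ 8) hq2]
          _ = _ := by ring
    · obtain ⟨rfl, F, _, _, m, hm, hF, ⟨e⟩⟩ := h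
      have hc := (S1163.result hm hF).1
      rw [← Nat.card_congr e.toEquiv] at hc
      refine Or.inl ⟨2 * m + 1, 2, by omega, 5, hc ▸ dvd_mul_of_dvd_left (dvd_mul_right _ _) _,
        hc ▸ ?_, by norm_num⟩
      have hQ : 2 ≤ 2 ^ (2 * m + 1) := Nat.le_self_pow (by omega) 2
      obtain ⟨a, ha⟩ : ∃ a, 2 ^ (2 * m + 1) = a + 1 := ⟨2 ^ (2 * m + 1) - 1, by omega⟩
      rw [ha, Nat.add_sub_cancel, mul_assoc, show (a + 1) ^ 5 = (a + 1) ^ 2 * (a + 1) ^ 3 by ring]
      exact Nat.mul_lt_mul_of_pos_left (by ring_nf; omega) (by positivity)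
    · obtain ⟨rfl, K, _, _, m, hm, hF, ⟨e⟩⟩ := h
      have hc := S1068.result hF
      rw [← Nat.card_congr e.toEquiv] at hc
      refine Or.inl ⟨2 * m + 1, 12, by omega, 28, hc ▸ dvd_mul_of_dvd_left (dvd_mul_of_dvd_left
        (dvd_mul_of_dvd_left (dvd_mul_right _ _) _) _) _, hc ▸ ?_, by norm_num⟩
      have hQ : 2 ≤ 2 ^ (2 * m + 1) := Nat.le_self_pow (by omega) 2
      generalize 2 ^ (2 * m + 1) = Q at hQ ⊢
      have h3 : Q ^ 3 + 1 ≤ Q ^ 4 := by
        have := Nat.pow_lt_pow_right (by omega : 1 < Q) (by norm_num : 3 < 4); omega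
      have h6 : Q ^ 6 + 1 ≤ Q ^ 7 := by
        have := Nat.pow_lt_pow_right (by omega : 1 < Q) (by norm_num : 6 < 7); omega
      calc _ < Q ^ 12 * Q * Q ^ 4 * Q ^ 4 * Q ^ 7 := by
            refine Nat.mul_lt_mul_of_lt_of_le ?_ h6 (by positivity)
            refine Nat.mul_lt_mul_of_le_of_lt ?_ (sub_one_lt (by omega)) (by positivity)
            gcongr
            exact Nat.sub_le _ _
        _ = _ := by ring
    · obtain ⟨rfl, K, _, _, m, hm, hF, ⟨e⟩⟩ := h
      have hc := S1069.result hF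
      rw [← Nat.card_congr e.toEquiv] at hc
      refine Or.inl ⟨2 * m + 1, 3, by omega, 8, hc ▸ dvd_mul_of_dvd_left (dvd_mul_right _ _) _,
        hc ▸ ?_, by norm_num⟩
      have hQ : 3 ≤ 3 ^ (2 * m + 1) := Nat.le_self_pow (by omega) 3
      generalize 3 ^ (2 * m + 1) = Q at hQ ⊢
      have h3 : Q ^ 3 + 1 ≤ Q ^ 4 := by
        have := Nat.pow_lt_pow_right (by omega : 1 < Q) (by norm_num : 3 < 4); omega
      calc _ < Q ^ 3 * Q * Q ^ 4 := by
            refine Nat.mul_lt_mul_of_lt_of_le ?_ h3 (by positivity)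
            exact Nat.mul_lt_mul_of_pos_left (by omega) (by positivity)
        _ = _ := by ring
  rcases main with ⟨f, N, hf, A, hd, hl, h1, h2⟩ | ⟨F, iF, iFF, hF, hlt, he⟩
  · exact ⟨(finish hp rfl N A hd hl h1 h2).1, fun _ => (finish hp rfl N A hd hl h1 h2).2⟩
  · exact ⟨hlt, fun hne => absurd ⟨F, iF, iFF, hF, he⟩ hne⟩

end Cfsg.Agent.S2363
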