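import Cfsg.Statements.S3020
import Cfsg.Agent.Lib.LocalEven2.Basic
import Cfsg.Agent.Lib.Components.Fitting

set_option autoImplicit false
open Cfsg

namespace Cfsg.Agent.S3020

/-- Let G be a finite group, p a prime and H an abelian p-subgroup of G that is extremely closed (for every g, the subgroup generated by H and g H g⁻¹ meets N_G(H) exactly in H). Then for every g ∈ G, the subgroup T generated by H and g H g⁻¹ is the product of H with O_{p'}(T), and H meets O_{p'}(T) trivially; that is, O_{p'}(T) is a normal p-complement of H in T. -/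
theorem result {G : Type*} [Group G] [Finite G] {p : ℕ} [Fact p.Prime] (H : Subgroup G) (hHp : IsPGroup p H) (hHab : IsMulCommutative H) (hcl : Cfsg.IsExtremelyClosed H) (g : G) (T : Subgroup G) (hT : T = H ⊔ H.map (MulAut.conj g).toMonoidHom) : H ⊔ (Cfsg.pPrimeCore p ↥T).map T.subtype = T ∧ H ⊓ (Cfsg.pPrimeCore p ↥T).map T.subtype = ⊥ := by
  subst hT
  set T := H ⊔ H.map (MulAut.conj g).toMonoidHom with hT
  have hHT : H ≤ T := le_sup_left
  have hnorm : ∀ w ∈ T, w ∈ Subgroup.normalizer (H : Set G) → w ∈ H := fun w hw hn =>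
    (hcl g).le ⟨hw, hn⟩
  have hmax : ∀ {Q : Subgroup ↥T}, IsPGroup p Q → H.subgroupOf T ≤ Q → Q = H.subgroupOf T := by
    intro Q hQ hle
    by_contra hne
    have hlt : H < Q.map T.subtype := by
      have h1 := Subgroup.map_mono (f := T.subtype) hle
      rw [Subgroup.map_subgroupOf_eq_of_le hHT] at h1
      refine lt_of_le_of_ne h1 fun h => hne ?_
      rw [h, Subgroup.subgroupOf, Subgroup.comap_map_eq_self_of_injective T.subtype_injective]
    obtain ⟨w, hw, hwH, hwn⟩ := Lib.LocalEven2.exists_normalizer_not_mem (hQ.map _) hlt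
    exact hwH (hnorm w (Subgroup.map_subtype_le Q hw) hwn)
  let P : Sylow p ↥T := ⟨H.subgroupOf T, hHp.comap_subtype, hmax⟩
  have hle : Subgroup.normalizer ((P : Subgroup ↥T) : Set ↥T) ≤
      Subgroup.centralizer ((P : Subgroup ↥T) : Set ↥T) := by
    intro w hw
    rw [Subgroup.mem_centralizer_iff]
    intro h hh
    have hwH : (w : G) ∈ H := by
      refine hnorm w w.2 ?_
      rw [Subgroup.mem_normalizer_iff]
      intro z
      constructor
      · intro hz; exact (Subgroup.mem_normalizer_iff.mp hw ⟨z, hHT hz⟩).mp hz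
      · intro hz
        have hzT : z ∈ T := by
          have := T.mul_mem (T.mul_mem (inv_mem w.2) (hHT hz)) w.2
          simpa [mul_assoc] using this
        exact (Subgroup.mem_normalizer_iff.mp hw ⟨z, hzT⟩).mpr hz
    exact Subtype.ext (Subgroup.mem_centralizer_iff.mp
      (Subgroup.le_centralizer_iff_isMulCommutative.mpr hHab hwH) (h : G) hh)
  set N := (MonoidHom.transferSylow P hle).ker with hN
  have hcomp := MonoidHom.ker_transferSylow_isComplement' P hle
  have hNle : N ≤ Cfsg.pPrimeCore p ↥T :=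
    le_sSup ⟨inferInstance, ((Fact.out : p.Prime).coprime_iff_not_dvd.mpr
      (MonoidHom.not_dvd_card_ker_transferSylow P hle)).symm⟩
  constructor
  · apply le_antisymm (sup_le hHT (Subgroup.map_subtype_le _))
    intro w hw
    have h2 : (⟨w, hw⟩ : ↥T) ∈ (⊤ : Subgroup ↥T) := trivial
    rw [← hcomp.sup_eq_top] at h2
    have h3 := Subgroup.mem_map_of_mem T.subtype ((sup_le_sup_right hNle _) h2)
    rw [Subgroup.map_sup, show ((P : Subgroup ↥T)).map T.subtype = H from
      Subgroup.map_subgroupOf_eq_of_le hHT, sup_comm] at h3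
    exact h3
  · rw [eq_bot_iff]
    rintro w ⟨hwH, z, hz, rfl⟩
    rw [Subgroup.mem_bot]
    show (z : G) = 1
    refine Lib.LocalEven2.eq_one_of_isPGroup hHp hwH ?_
    rw [Subgroup.orderOf_coe]
    refine Nat.Coprime.coprime_dvd_left ?_ (Lib.Components.pPrimeCore_coprime (G := ↥T) p)
    simpa using orderOf_dvd_natCard (⟨z, hz⟩ : ↥(Cfsg.pPrimeCore p ↥T))

end Cfsg.Agent.S3020
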