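import Cfsg.Statements.S3021
import Cfsg.Agent.Lib.LocalEven2.Sylow

set_option autoImplicit false
open Cfsg

namespace Cfsg.Agent.S3021

/-- Let G be a finite group, p a prime and H a p-subgroup of G that is extremely closed (for every g, the subgroup generated by H and g H g⁻¹ meets N_G(H) exactly in H). Then every p-subgroup Q of G containing H has N_G(Q) ≤ N_G(H); in particular every Sylow p-subgroup P of G containing H normalizes H, and H is strongly closed in P with respect to G. -/
theorem result {G : Type*} [Group G] [Finite G] {p : ℕ} [Fact p.Prime] (H : Subgroup G) (hHp : IsPGroup p H) (hcl : Cfsg.IsExtremelyClosed H) : (∀ Q : Subgroup G, IsPGroup p Q → H ≤ Q → Subgroup.normalizer (Q : Set G) ≤ Subgroup.normalizer (H : Set G)) ∧ ∀ P : Sylow p G, H ≤ (P : Subgroup G) → (P : Subgroup G) ≤ Subgroup.normalizer (H : Set G) ∧ Cfsg.IsStronglyClosed H (P : Subgroup G) := by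
  have hmain : ∀ Q : Subgroup G, IsPGroup p Q → H ≤ Q → ∀ q : G,
      H.map (MulAut.conj q).toMonoidHom ≤ Q → H.map (MulAut.conj q).toMonoidHom ≤ H := by
    intro Q hQ hHQ q hq
    by_contra hne
    have hlt : H < H ⊔ H.map (MulAut.conj q).toMonoidHom :=
      lt_of_le_of_ne le_sup_left fun h => hne (le_sup_right.trans h.ge)
    obtain ⟨w, hw, hwH, hwn⟩ :=
      Lib.LocalEven2.exists_normalizer_not_mem (hQ.to_le (sup_le hHQ hq)) hlt
    exact hwH ((hcl q).le ⟨hw, hwn⟩)
  have hnorm : ∀ Q : Subgroup G, IsPGroup p Q → H ≤ Q →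
      Subgroup.normalizer (Q : Set G) ≤ Subgroup.normalizer (H : Set G) := by
    intro Q hQ hHQ n hn
    have h1 : H.map (MulAut.conj n).toMonoidHom ≤ Q := by
      rintro _ ⟨h, hh, rfl⟩
      exact (Subgroup.mem_normalizer_iff.mp hn h).mp (hHQ hh)
    have h2 := Subgroup.eq_of_le_of_card_ge (hmain Q hQ hHQ n h1)
      (Nat.card_congr (Subgroup.equivMapOfInjective _ _ (MulAut.conj n).injective).toEquiv).le
    rw [Subgroup.mem_normalizer_iff]
    intro z
    conv_rhs => rw [← h2]
    rw [Lib.LocalEven2.mem_map_conj]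
    simp [mul_assoc]
  refine ⟨hnorm, fun P hP => ?_⟩
  have hPH := Subgroup.le_normalizer.trans (hnorm _ P.2 hP)
  exact ⟨hPH, hP, fun x hx g hgx => (hcl g).le
    ⟨Subgroup.mem_sup_right ⟨x, hx, rfl⟩, hPH hgx⟩⟩

end Cfsg.Agent.S3021
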