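import Cfsg.Statements.S0867
import Cfsg.Agent.Lib.Characters.ExtensionCoprime
-- import your own Cfsg.Agent.* helpers here

set_option autoImplicit false
open Cfsg

namespace Cfsg.Agent.S0867

/-- Let N be a normal subgroup of the finite group G and ϑ an irreducible character of N of degree d, invariant under conjugation by G, such that the index of N is coprime to the product of d and the determinantal order of ϑ. Then there is an irreducible character χ of G restricting to ϑ whose determinantal order equals that of ϑ, and χ is the only irreducible character of G restricting to ϑ whose determinantal order is coprime to the index of N. -/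
theorem result {G : Type*} [Group G] [Finite G] (N : Subgroup G) [hN : N.Normal] (ϑ : N → ℂ) (hϑ : Cfsg.IsIrrCharacter N ϑ) (hinv : ∀ (g : G) (n : N), ϑ ⟨g * n * g⁻¹, hN.conj_mem (n : G) n.2 g⟩ = ϑ n) (d : ℕ) (hd : ϑ 1 = d) (hcop : Nat.Coprime N.index (Cfsg.detOrder ϑ * d)) : ∃ χ : G → ℂ, (Cfsg.IsIrrCharacter G χ ∧ (∀ n : N, χ n = ϑ n) ∧ Cfsg.detOrder χ = Cfsg.detOrder ϑ) ∧ ∀ χ' : G → ℂ, Cfsg.IsIrrCharacter G χ' → (∀ n : N, χ' n = ϑ n) → Nat.Coprime N.index (Cfsg.detOrder χ') → χ' = χ := by
  have hθc := Lib.Characters.IsIrrCharacter.isCharacter hϑ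
  have hdet := Lib.Characters.isCharacter_detChar hθc
  have hinv' : ∀ (g : G) (n : N),
      detChar ϑ ⟨g * n * g⁻¹, hN.conj_mem (n : G) n.2 g⟩ = detChar ϑ n := by
    intro g n
    have h := congrFun
      (Lib.Characters.detChar_comp (MulAut.conjNormal g : MulAut N).toMonoidHom hθc) n
    rw [show ϑ ∘ (MulAut.conjNormal g : MulAut N).toMonoidHom = ϑ from
      funext (Lib.Characters.conjNormal_invariant hinv g)] at h
    rw [h]
    exact congrArg _ (Subtype.ext (MulAut.conjNormal_apply g n).symm)
  have hcd : Nat.Coprime N.index d := hcop.coprime_dvd_right (dvd_mul_left d _)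
  have hco : Nat.Coprime N.index (orderOf (detChar ϑ)) := hcop.coprime_dvd_right (dvd_mul_right _ d)
  obtain ⟨μ, ⟨hμ, hμ1, hμN, hord⟩, huniq⟩ :=
    Lib.Characters.exists_linear_extension_coprime hdet.1 hdet.2 hinv' hco
  obtain ⟨χ, ⟨hχ, hres, hχdet⟩, hχu⟩ := Lib.Characters.existsUnique_extension_det hϑ hd hcd
    (Lib.Characters.exists_irr_extension_of_det hϑ hinv hd hcd hμ hμ1 hμN) ⟨hμ, hμ1⟩ hμN
  refine ⟨χ, ⟨hχ, hres, ?_⟩, fun χ' hχ' hres' hcop' => hχu χ' ⟨hχ', hres', ?_⟩⟩
  · show orderOf (detChar χ) = orderOf (detChar ϑ)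
    rw [hχdet, hord]
  · have hc := Lib.Characters.IsIrrCharacter.isCharacter hχ'
    refine huniq _ (Lib.Characters.isCharacter_detChar hc) (fun n => ?_) hcop'
    have h := congrFun (Lib.Characters.detChar_comp N.subtype hc) n
    rw [show χ' ∘ N.subtype = ϑ from funext hres'] at h
    exact h.symm

end Cfsg.Agent.S0867
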