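import Cfsg.Statements.S0055
import Cfsg.Agent.Lib.Coprime.Action

set_option autoImplicit false
open Cfsg
open scoped commutatorElement

namespace Cfsg.Agent.S0055

/-- If A normalises an abelian subgroup V of coprime order, then V is the internal direct product of its A-fixed points and its commutator with A: the two meet trivially and generate V. -/
theorem result {G : Type*} [Group G] [Finite G] (A V : Subgroup G) [IsMulCommutative V]
    (hAV : A ≤ Subgroup.normalizer (V : Set G)) (hcop : (Nat.card A).Coprime (Nat.card V)) :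
    (V ⊓ Subgroup.centralizer (A : Set G)) ⊓ ⁅V, A⁆ = ⊥ ∧ (V ⊓ Subgroup.centralizer (A : Set G)) ⊔ ⁅V, A⁆ = V := by
  classical
  have hsV : Group.IsSolvable V :=
    Group.isSolvable_of_comm fun a b => IsMulCommutative.is_comm.comm a b
  refine ⟨?_, (sup_comm _ _).trans (Lib.Coprime.commutator_sup_centralizer_eq hAV hcop (Or.inr hsV))⟩
  have : Fintype A := Fintype.ofFinite A
  let _ : CommGroup V := { mul_comm := fun a b => IsMulCommutative.is_comm.comm a b }
  let cj : A → V → V := fun a v =>
    ⟨a * v * (a : G)⁻¹, (Subgroup.mem_normalizer_iff.mp (hAV a.2) _).mp v.2⟩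
  let θ : V →* V :=
    { toFun := fun v => ∏ a : A, cj a v
      map_one' := Finset.prod_eq_one fun a _ => Subtype.ext (by simp [cj])
      map_mul' := fun v w => by
        rw [← Finset.prod_mul_distrib]
        exact Finset.prod_congr rfl fun a _ => Subtype.ext (by simp [cj, mul_assoc]) }
  rw [eq_bot_iff]
  intro x hx
  obtain ⟨hxC, hxD⟩ := Subgroup.mem_inf.mp hx
  have hle : ⁅V, A⁆ ≤ θ.ker.map V.subtype := by
    refine Subgroup.commutator_le.mpr fun v hv a ha => ?_
    refine ⟨⟨v, hv⟩ * (cj ⟨a, ha⟩ ⟨v, hv⟩)⁻¹, ?_, ?_⟩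
    · show θ _ = 1
      rw [map_mul, map_inv, mul_inv_eq_one]
      show ∏ b : A, cj b ⟨v, hv⟩ = ∏ b : A, cj b (cj ⟨a, ha⟩ ⟨v, hv⟩)
      exact (Fintype.prod_equiv (Equiv.mulRight (⟨a, ha⟩ : A)) _ _
        fun b => Subtype.ext (by simp [cj, mul_assoc])).symm
    · simp [cj, commutatorElement_def, mul_assoc]
  obtain ⟨y, hy, rfl⟩ := hle hxD
  have h1 : θ y = y ^ Nat.card A := by
    show ∏ a : A, cj a y = _
    rw [Finset.prod_congr rfl (g := fun _ => y) fun a _ => Subtype.ext ?_, Finset.prod_const,
      Finset.card_univ, Nat.card_eq_fintype_card]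
    show (a : G) * y * (a : G)⁻¹ = y
    have hya : (a : G) * y = y * a := Subgroup.mem_centralizer_iff.mp (Subgroup.mem_inf.mp hxC).2 a a.2
    rw [hya]
    simp
  rw [show θ y = 1 from hy] at h1
  have h2 : y = 1 := (powCoprime hcop.symm).injective (by simpa [powCoprime_apply] using h1.symm)
  simp [h2]

end Cfsg.Agent.S0055
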