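import Cfsg.Statements.S0056
import Cfsg.Agent.Lib.Coprime.Action
import Cfsg.Agent.S0055

set_option autoImplicit false
open Cfsg

namespace Cfsg.Agent.S0056

/-- A coprime action on an abelian group that fixes all elements of prime order is trivial. -/
theorem result {G : Type*} [Group G] [Finite G] (A V : Subgroup G) [IsMulCommutative V]
    (hAV : A ≤ Subgroup.normalizer (V : Set G)) (hcop : (Nat.card A).Coprime (Nat.card V))
    (hΩ : ∀ v ∈ V, (orderOf v).Prime → ∀ a ∈ A, a * v = v * a) : A ≤ Subgroup.centralizer (V : Set G) := by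
  have h := Cfsg.Agent.S0055.result A V hAV hcop
  have hD : ⁅V, A⁆ = ⊥ := by
    by_contra hne
    have hle := Lib.Coprime.commutator_le_of_le_normalizer hAV
    obtain ⟨q, hq, hqd⟩ := Nat.exists_prime_and_dvd (n := Nat.card (⁅V, A⁆ : Subgroup G))
      (fun h1 => hne (Subgroup.card_eq_one.mp h1))
    have := Fact.mk hq
    obtain ⟨z, hz⟩ := exists_prime_orderOf_dvd_card' (G := (⁅V, A⁆ : Subgroup G)) q hqd
    have hz' : orderOf (z : G) = q := by rw [Subgroup.orderOf_coe, hz]
    have hzC : (z : G) ∈ V ⊓ Subgroup.centralizer (A : Set G) := by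
      refine Subgroup.mem_inf.mpr ⟨hle z.2, Subgroup.mem_centralizer_iff.mpr fun a ha => ?_⟩
      exact hΩ _ (hle z.2) (hz'.symm ▸ hq) a ha
    have hz1 : (z : G) = 1 := by
      rw [← Subgroup.mem_bot, ← h.1]
      exact ⟨hzC, z.2⟩
    rw [hz1, orderOf_one] at hz'
    exact hq.one_lt.ne hz'
  exact Subgroup.le_centralizer_iff.mp (Subgroup.commutator_eq_bot_iff_le_centralizer.mp hD)

end Cfsg.Agent.S0056
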