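import Cfsg.Statements.S4649
import Cfsg.Agent.Lib.CyclicCorner.Degrees
import Cfsg.Agent.Lib.Blocks.CyclicDefect
open Cfsg Cfsg.Agent.Lib.Blocks Cfsg.Agent.Lib.Characters Cfsg.Agent.Lib.BrauerPairs Cfsg.Agent.Lib.BlockHeights

set_option autoImplicit false
open Cfsg

namespace Cfsg.Agent.S4649

/-- A block with cyclic defect group, of a finite group relative to a maximal ideal M of the algebraic integers containing the prime p, is nilpotent if and only if its p-regular rank is 1 (it has a unique irreducible Brauer character). -/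
theorem result {G : Type*} [Group G] [Finite G] (p : ℕ) [Fact p.Prime] (M : Ideal Cfsg.AlgInt) (hM : Cfsg.IsPModular p M) (B : Set (Cfsg.IrrCharacter G)) (hB : Cfsg.IsPBlock M B) (P : Subgroup G) (hPD : Cfsg.IsDefectGroup p M B P) (hcyc : IsCyclic P) : Cfsg.IsNilpotentBlock p M B ↔ Cfsg.blockRank p B = 1 := by
  classical
  haveI := Fintype.ofFinite G
  haveI : M.IsPrime := hM.2.1.isPrime
  haveI := hcyc
  obtain ⟨c, hmax⟩ := exists_maximal_defect hM hB hPD
  have hab := comm_of_isCyclic P
  rw [isNilpotentBlock_iff_of_abelian hM hmax hab]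
  constructor
  · intro h
    exact blockRank_eq_one_of_cyclic hM hmax fun g hg =>
      h g (mem_pairStab_iff.1 hg).1 (mem_pairStab_iff.1 hg).2
  · intro hl x hxN hxS
    have hx : x ∈ pairStab P c := mem_pairStab_iff.2 ⟨hxN, hxS⟩
    by_cases hP1 : P = ⊥
    · subst hP1
      refine Subgroup.mem_centralizer_iff.2 fun a ha => ?_
      rw [SetLike.mem_coe, Subgroup.mem_bot] at ha
      simp [ha]
    have hk := Cfsg.Agent.Lib.CyclicCorner.card_eq_of_rank_one hM hB hPD hl
    have hlocal : ∀ v ∈ P, v ≠ 1 → ∀ f : Set (Cfsg.IrrCharacter (Subgroup.centralizer (Subgroup.zpowers v : Set G))),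
        SubpairLE p M (Subgroup.zpowers v) f P c → blockRank p f = 1 := by
      intro v hv hv1 f hle
      haveI := Fintype.ofFinite (Subgroup.centralizer (Subgroup.zpowers v : Set G))
      have hQP : Subgroup.zpowers v ≤ P := Subgroup.zpowers_le.2 hv
      obtain ⟨f₀, hf₀⟩ := exists_inducedIn hM hmax.1.1.1 (le_normalizer_of_comm hab hQP) hab
        (Subgroup.centralizer_le hQP) hmax.1.1.2
      obtain ⟨hle₀, c', hmax'⟩ := inducedIn_local hM hmax hab hQP hf₀
      obtain rfl : f = f₀ := subpairLE_unique hM hmax.1.1 hle hle₀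
      have hfix : ∀ g ∈ Subgroup.centralizer (Subgroup.zpowers v : Set G), g ∈ pairStab P c →
          g ∈ Subgroup.centralizer (P : Set G) := fun g hgQ hg =>
        mem_centralizer_of_fix hM hmax hg hv hv1
          (by rw [← Subgroup.mem_centralizer_iff.1 hgQ v (Subgroup.mem_zpowers v), mul_inv_cancel_right])
      have hnil := (isNilpotent_inducedIn_iff hM hmax hab hQP hf₀).2 hfix
      haveI : IsCyclic (P.subgroupOf (Subgroup.centralizer (Subgroup.zpowers v : Set G))) :=
        isCyclic_of_surjective (Subgroup.subgroupOfEquivOfLe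
          (le_normalizer_of_comm hab hQP)).symm.toMonoidHom
          (Subgroup.subgroupOfEquivOfLe (le_normalizer_of_comm hab hQP)).symm.surjective
      refine blockRank_eq_one_of_cyclic hM hmax' fun g hg => ?_
      exact (isNilpotentBlock_iff_of_abelian hM hmax' (comm_of_isCyclic _)).1 hnil g
        (mem_pairStab_iff.1 hg).1 (mem_pairStab_iff.1 hg).2
    have h := (free_section_count hM hmax hab (free_of_isCyclic hM hmax)).2 hlocal
    rw [hk, hl, Nat.cast_one, mul_assoc] at h
    have hq : 2 ≤ Nat.card P := by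
      by_contra hq
      exact hP1 (Subgroup.eq_bot_of_card_eq P (by have := Nat.card_pos (α := P); omega))
    have h1 : (Nat.card G : ℤ) ≠ 0 := by exact_mod_cast Nat.card_pos.ne'
    have h2 := mul_left_cancel₀ h1 h
    have h3 : ((Nat.card P : ℤ) - 1) ≠ 0 := by omega
    have h4 : ((Subgroup.centralizer (P : Set G)).relIndex (pairStab P c) : ℤ) = 1 :=
      mul_left_cancel₀ h3 (by rw [mul_one]; exact h2)
    exact Subgroup.relIndex_eq_one.1 (by exact_mod_cast h4) hx

end Cfsg.Agent.S4649
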