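import Cfsg.Statements.S4127
import Cfsg.Agent.Lib.Coprime.PxQ
import Cfsg.Agent.Lib.Transfer.Frobenius
import Mathlib.Tactic

set_option autoImplicit false
open Cfsg

namespace Cfsg.Agent.S4127

open Cfsg.Agent.Lib
open scoped Pointwise

/-- Jordan: the conjugates of a proper subgroup do not cover the group. -/
theorem eq_top_of_forall_conj {G : Type*} [Group G] [Finite G] (H : Subgroup G)
    (h : ∀ g : G, ∃ c : G, c⁻¹ * g * c ∈ H) : H = ⊤ := by
  classical
  haveI := Fintype.ofFinite G
  haveI := Fintype.ofFinite (G ⧸ H)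
  let f : (G ⧸ H) × {x : H // x ≠ 1} → {g : G // g ≠ 1} := fun z =>
    ⟨z.1.out * ((z.2 : H) : G) * z.1.out⁻¹, fun e => z.2.2 (Subtype.ext (conj_eq_one_iff.mp e))⟩
  have hf : Function.Surjective f := by
    rintro ⟨g, hg⟩
    obtain ⟨c, hc⟩ := h g
    obtain ⟨w, hw⟩ := QuotientGroup.mk_out_eq_mul H c
    refine ⟨(QuotientGroup.mk c, ⟨⟨(w : G)⁻¹ * (c⁻¹ * g * c) * w, H.mul_mem (H.mul_mem (H.inv_mem w.2) hc) w.2⟩,
      fun e => hg ?_⟩), Subtype.ext ?_⟩
    · have e' : ((c * w)⁻¹ * g * ((c * w)⁻¹)⁻¹ : G) = 1 := by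
        rw [← show (w : G)⁻¹ * (c⁻¹ * g * c) * w = (c * w)⁻¹ * g * ((c * w)⁻¹)⁻¹ by group]
        exact congrArg Subtype.val e
      exact conj_eq_one_iff.mp e'
    · show (QuotientGroup.mk c : G ⧸ H).out * ((w : G)⁻¹ * (c⁻¹ * g * c) * w) * _⁻¹ = g
      rw [hw]; group
  have h1 := Nat.card_le_card_of_surjective f hf
  haveI := Fintype.ofFinite H
  rw [Nat.card_prod, Nat.card_eq_fintype_card (α := {x : H // x ≠ 1}), Nat.card_eq_fintype_card (α := {g : G // g ≠ 1}),
    Fintype.card_subtype_compl, Fintype.card_subtype_compl, Fintype.card_subtype_eq, Fintype.card_subtype_eq,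
    ← Nat.card_eq_fintype_card, ← Nat.card_eq_fintype_card, ← H.index_mul_card] at h1
  rw [show Nat.card (G ⧸ H) = H.index from rfl, Nat.mul_sub_one] at h1
  have h2 : H.index ≤ H.index * Nat.card H := Nat.le_mul_of_pos_right _ Nat.card_pos
  exact Subgroup.index_eq_one.mp (le_antisymm (by omega) (Nat.one_le_iff_ne_zero.mpr Subgroup.index_ne_zero_of_finite))

/-- If every `p'`-element centralises a Sylow `p`-subgroup, every `p'`-element centralises every `p`-element. -/
theorem commute_of_forall {G : Type*} [Group G] [Finite G] {p : ℕ} [Fact p.Prime]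
    (h : ∀ y : G, (orderOf y).Coprime p → ∃ R : Sylow p G, ∀ r ∈ (R : Subgroup G), r * y = y * r)
    (Q : Sylow p G) : ∀ (y : G), (orderOf y).Coprime p → ∀ r ∈ (Q : Subgroup G), r * y = y * r := by
  set H := (Q : Subgroup G) ⊔ Subgroup.centralizer ((Q : Subgroup G) : Set G) with hH
  have htop : H = ⊤ := by
    refine eq_top_of_forall_conj H fun g => ?_
    obtain ⟨s, u, hsg, hug, hs, ⟨j, hj⟩, rfl⟩ := Transfer.exists_pPart_decomp (p := p) g
    obtain ⟨R, hR⟩ := h s hs
    set D := Subgroup.centralizer ({s} : Set G)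
    have hRD : (R : Subgroup G) ≤ D := fun r hr => Subgroup.mem_centralizer_singleton_iff.mpr (hR r hr)
    have hsu : u * s = s * u := by
      obtain ⟨i, hi⟩ := Subgroup.mem_zpowers_iff.mp hug
      obtain ⟨i', hi'⟩ := Subgroup.mem_zpowers_iff.mp hsg
      have := ((Commute.refl (s * u)).zpow_zpow i i').eq
      rwa [hi, hi'] at this
    have hu : IsPGroup p (Subgroup.zpowers (⟨u, Subgroup.mem_centralizer_singleton_iff.mpr hsu⟩ : D)) :=
      IsPGroup.of_card (n := j) (by rw [Nat.card_zpowers, Subgroup.orderOf_mk, hj])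
    obtain ⟨S, hS⟩ := hu.exists_le_sylow
    obtain ⟨d, hd⟩ := MulAction.exists_smul_eq D S (R.subtype hRD)
    obtain ⟨c, hc⟩ := MulAction.exists_smul_eq G R Q
    have hdd : (d : G) * u * (d : G)⁻¹ ∈ (R : Subgroup G) := by
      have h1 : d * ⟨u, Subgroup.mem_centralizer_singleton_iff.mpr hsu⟩ * d⁻¹ ∈ ((d • S : Sylow p D) : Subgroup D) :=
        ⟨_, hS (Subgroup.mem_zpowers _), rfl⟩
      rw [hd] at h1
      exact h1
    have hds : (d : G) * s * (d : G)⁻¹ = s := by
      rw [Subgroup.mem_centralizer_singleton_iff.mp d.2, mul_inv_cancel_right]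
    refine ⟨(d : G)⁻¹ * c⁻¹, ?_⟩
    rw [show ((d : G)⁻¹ * c⁻¹)⁻¹ * (s * u) * ((d : G)⁻¹ * c⁻¹) =
      (c * ((d : G) * s * (d : G)⁻¹) * c⁻¹) * (c * ((d : G) * u * (d : G)⁻¹) * c⁻¹) by group, hds]
    refine H.mul_mem (Subgroup.mem_sup_right ?_) (Subgroup.mem_sup_left ?_)
    · rw [Subgroup.mem_centralizer_iff]
      intro r hr
      rw [← hc] at hr
      obtain ⟨r', hr', rfl⟩ := hr
      show c * r' * c⁻¹ * (c * s * c⁻¹) = c * s * c⁻¹ * (c * r' * c⁻¹)
      rw [show c * r' * c⁻¹ * (c * s * c⁻¹) = c * (r' * s) * c⁻¹ by group, hR r' hr']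
      group
    · rw [← hc]
      exact ⟨_, hdd, rfl⟩
  have hnorm : (Q : Subgroup G).Normal := by
    rw [← Subgroup.normalizer_eq_top_iff, eq_top_iff, ← htop]
    exact sup_le Subgroup.le_normalizer (Subgroup.centralizer_le_normalizer _)
  intro y hy r hr
  obtain ⟨R, hR⟩ := h y hy
  haveI := Sylow.unique_of_normal Q hnorm
  exact hR r (Subsingleton.elim Q R ▸ hr)

/-- Let G be a finite group, p a prime and p^a the largest power of p dividing the size of any conjugacy class of G. If some element of p-power order has a conjugacy class of size exactly p^a, then G has a normal p-complement. -/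
theorem result {G : Type*} [Group G] [Finite G] (p : ℕ) [Fact p.Prime]
    (a : ℕ) (hmax : ∀ y : G, ¬ p ^ (a + 1) ∣ (Subgroup.centralizer ({y} : Set G)).index)
    (hx : ∃ x : G, (∃ k : ℕ, orderOf x = p ^ k) ∧ (Subgroup.centralizer ({x} : Set G)).index = p ^ a) :
    Cfsg.HasNormalPComplement p G := by
  classical
  have hp := (Fact.out : p.Prime)
  obtain ⟨x, ⟨j, hxj⟩, hxa⟩ := hx
  set C := Subgroup.centralizer ({x} : Set G) with hC
  -- every `p'`-element of `C` centralises a Sylow subgroup of `C`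
  have hcen : ∀ y : C, (orderOf y).Coprime p → ∃ R : Sylow p C, ∀ r ∈ (R : Subgroup C), r * y = y * r := by
    intro y hy
    have hxy : (y : G) * x = x * y := Subgroup.mem_centralizer_singleton_iff.mp y.2
    set D := Subgroup.centralizer ({(y : G)} : Set G)
    set D' := Subgroup.centralizer ({x * (y : G)} : Set G)
    have hle : D' ≤ C ⊓ D := by
      intro g hg
      have hg' : Commute g (x * y) := Subgroup.mem_centralizer_singleton_iff.mp hg
      have hcop : (p ^ j).Coprime (orderOf (y : G)) := by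
        rw [Subgroup.orderOf_coe]; exact (hy.pow_right j).symm
      obtain ⟨u, v, huv⟩ : IsCoprime ((p ^ j : ℕ) : ℤ) (orderOf (y : G) : ℤ) := Nat.isCoprime_iff_coprime.mpr hcop
      have hx1 : x ^ ((p ^ j : ℕ) : ℤ) = 1 := by rw [zpow_natCast, ← hxj, pow_orderOf_eq_one]
      have hy1 : (y : G) ^ (orderOf (y : G) : ℤ) = 1 := by rw [zpow_natCast, pow_orderOf_eq_one]
      have ex : (x * y) ^ (v * (orderOf (y : G) : ℤ)) = x := by
        rw [(Commute.symm (hxy : Commute (y : G) x)).mul_zpow, mul_comm v, zpow_mul (y : G), hy1, one_zpow, mul_one,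
          show (orderOf (y : G) : ℤ) * v = 1 + ((p ^ j : ℕ) : ℤ) * (-u) by linear_combination huv,
          zpow_add, zpow_one, zpow_mul, hx1, one_zpow, mul_one]
      have ey : (x * y) ^ (u * ((p ^ j : ℕ) : ℤ)) = y := by
        rw [(Commute.symm (hxy : Commute (y : G) x)).mul_zpow, mul_comm u, zpow_mul x, hx1, one_zpow, one_mul,
          show ((p ^ j : ℕ) : ℤ) * u = 1 + (orderOf (y : G) : ℤ) * (-v) by linear_combination huv,
          zpow_add, zpow_one, zpow_mul, hy1, one_zpow, mul_one]
      refine ⟨Subgroup.mem_centralizer_singleton_iff.mpr ?_, Subgroup.mem_centralizer_singleton_iff.mpr ?_⟩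
      · have := hg'.zpow_right (v * (orderOf (y : G) : ℤ))
        rwa [ex] at this
      · have := hg'.zpow_right (u * ((p ^ j : ℕ) : ℤ))
        rwa [ey] at this
    set K := D.subgroupOf C
    obtain ⟨R⟩ : Nonempty (Sylow p K) := inferInstance
    have hKi : ¬ p ∣ K.index := by
      intro hd
      refine hmax (x * y) ?_
      have h1 : (C ⊓ D).index = K.index * C.index := by
        show (C ⊓ D).index = D.relIndex C * C.index
        rw [inf_comm, ← Subgroup.inf_relIndex_right D C, Subgroup.relIndex_mul_index inf_le_right]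
      refine dvd_trans ?_ (Subgroup.index_dvd_of_le hle)
      rw [h1, hxa, pow_succ']
      exact Nat.mul_dvd_mul hd dvd_rfl
    have hRi : ¬ p ∣ ((R : Subgroup K).map K.subtype).index := by
      rw [Subgroup.index_map_of_injective _ K.subtype_injective, Subgroup.range_subtype]
      exact fun hd => (hp.dvd_mul.mp hd).elim R.not_dvd_index hKi
    refine ⟨(R.isPGroup'.map K.subtype).toSylow hRi, ?_⟩
    rintro _ ⟨r, -, rfl⟩
    exact Subtype.ext (Subgroup.mem_centralizer_singleton_iff.mp r.2)
  obtain ⟨QC⟩ : Nonempty (Sylow p C) := inferInstance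
  have hcom := commute_of_forall hcen
  have hCn : Cfsg.HasNormalPComplement p C := by
    refine Transfer.hasNormalPComplement_of_frobenius QC fun U hU g _ hg => ?_
    exact Subgroup.mem_centralizer_iff.mpr fun u hu => hcom QC g hg u (hU hu)
  obtain ⟨Q, N, hN, hc⟩ := hCn
  haveI := hN
  -- the normal closure of `x` is a `p`-group
  have hxp : IsPGroup p (Subgroup.zpowers x) := IsPGroup.of_card (n := j) (by rw [Nat.card_zpowers, hxj])
  obtain ⟨P, hP⟩ := hxp.exists_le_sylow
  have hxP : x ∈ (P : Subgroup G) := hP (Subgroup.mem_zpowers x)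
  let ι : (P : Subgroup G) ⧸ C.subgroupOf (P : Subgroup G) → G ⧸ C := fun q => QuotientGroup.mk (q.out : G)
  have hιinj : Function.Injective ι := fun q r e =>
    (QuotientGroup.out_eq' q).symm.trans
      ((QuotientGroup.eq.mpr (Subgroup.mem_subgroupOf.mpr (QuotientGroup.eq.mp e))).trans (QuotientGroup.out_eq' r))
  have hN' : Nat.card N * p ^ (Nat.card C).factorization p = Nat.card C := by
    rw [← Q.card_eq_multiplicity]; exact hc.card_mul_card
  have hfac : (Nat.card G).factorization p = (Nat.card C).factorization p + a := by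
    rw [← C.card_mul_index, hxa, Nat.factorization_mul Nat.card_pos.ne' (pow_pos hp.pos a).ne', Finsupp.add_apply,
      hp.factorization_pow, Finsupp.single_eq_same]
  have hιcard : Nat.card (G ⧸ C) ≤ Nat.card ((P : Subgroup G) ⧸ C.subgroupOf (P : Subgroup G)) := by
    show C.index ≤ C.relIndex (P : Subgroup G)
    have h1 := Subgroup.card_mul_index (C.subgroupOf (P : Subgroup G))
    rw [P.card_eq_multiplicity, hfac, pow_add] at h1
    have h2 : IsPGroup p (((P : Subgroup G)).subgroupOf C) := by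
      refine IsPGroup.of_injective P.isPGroup' (MonoidHom.mk' (fun w : ((P : Subgroup G)).subgroupOf C => (⟨(w : C), Subgroup.mem_subgroupOf.mp w.2⟩ : (P : Subgroup G))) fun _ _ => rfl) ?_
      exact fun w w' e => Subtype.ext (Subtype.ext (congrArg (fun t : (P : Subgroup G) => (t : G)) e))
    obtain ⟨S, hS⟩ := h2.exists_le_sylow
    have h3 : Nat.card (C.subgroupOf (P : Subgroup G)) ≤ p ^ (Nat.card C).factorization p := by
      rw [← S.card_eq_multiplicity]
      refine le_trans (le_of_eq ?_) (Subgroup.card_le_of_le hS)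
      rw [← Subgroup.inf_subgroupOf_right C (P : Subgroup G), ← Subgroup.inf_subgroupOf_right (P : Subgroup G) C,
        Nat.card_congr (Subgroup.subgroupOfEquivOfLe (inf_le_right : C ⊓ (P : Subgroup G) ≤ P)).toEquiv,
        Nat.card_congr (Subgroup.subgroupOfEquivOfLe (inf_le_right : (P : Subgroup G) ⊓ C ≤ C)).toEquiv, inf_comm]
    rw [hxa]
    refine Nat.le_of_mul_le_mul_left ?_ (pow_pos hp.pos ((Nat.card C).factorization p))
    calc p ^ (Nat.card C).factorization p * p ^ a
        = Nat.card (C.subgroupOf (P : Subgroup G)) * (C.subgroupOf (P : Subgroup G)).index := h1.symm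
      _ ≤ _ := Nat.mul_le_mul_right _ h3
  have hι : Function.Surjective ι := ((Nat.bijective_iff_injective_and_card ι).mpr
    ⟨hιinj, le_antisymm (Nat.card_le_card_of_injective ι hιinj) hιcard⟩).2
  set M := Subgroup.normalClosure ({x} : Set G) with hM
  have hMP : M ≤ (P : Subgroup G) := by
    rw [hM, Subgroup.normalClosure, Subgroup.closure_le]
    intro z hz
    obtain ⟨y, hy, hyz⟩ := Group.mem_conjugatesOfSet_iff.mp hz
    rw [Set.mem_singleton_iff] at hy
    subst hy
    obtain ⟨g, rfl⟩ := isConj_iff.mp hyz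
    obtain ⟨q, hq⟩ := hι (QuotientGroup.mk g)
    have h1 : (q.out : G)⁻¹ * g ∈ C := QuotientGroup.eq.mp hq
    have h2 := Subgroup.mem_centralizer_singleton_iff.mp h1
    rw [show g * y * g⁻¹ = (q.out : G) * (((q.out : G)⁻¹ * g) * y) * ((q.out : G)⁻¹ * g)⁻¹ * (q.out : G)⁻¹ by group, h2,
      ← mul_assoc, mul_inv_cancel_right]
    exact Subgroup.mul_mem _ (Subgroup.mul_mem _ q.out.2 hxP) (Subgroup.inv_mem _ q.out.2)
  have hMp : IsPGroup p M := P.isPGroup'.to_le hMP
  set K := N.map C.subtype with hK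
  have hNcop : ∀ y : C, y ∈ N → (orderOf y).Coprime p := by
    intro y hy
    refine Nat.Coprime.coprime_dvd_left (Subgroup.orderOf_dvd_natCard _ hy) ?_
    exact (hp.coprime_iff_not_dvd.mpr fun hd => by
      have h1 : p ^ ((Nat.card C).factorization p + 1) ∣ Nat.card C := by
        rw [pow_succ']
        exact (Nat.mul_dvd_mul hd dvd_rfl).trans (dvd_of_eq hN')
      have := (hp.pow_dvd_iff_le_factorization Nat.card_pos.ne').mp h1
      omega).symm
  have hKM : K ≤ Subgroup.centralizer (M : Set G) := by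
    refine Coprime.le_centralizer_of_PxQ hxp ?_ hMp ?_ ?_ ?_ ?_
    · rw [hK, Nat.card_congr (N.equivMapOfInjective C.subtype C.subtype_injective).toEquiv.symm]
      exact (hp.coprime_iff_not_dvd.mpr fun hd => by
        obtain ⟨y, hy⟩ := exists_prime_orderOf_dvd_card' p hd
        have := hNcop y y.2
        rw [Subgroup.orderOf_coe, hy, Nat.coprime_self] at this
        exact hp.one_lt.ne' this).symm
    · rw [Subgroup.zpowers_le, Subgroup.mem_centralizer_iff]
      rintro _ ⟨y, -, rfl⟩
      exact Subgroup.mem_centralizer_singleton_iff.mp y.2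
    · rw [Subgroup.normalizer_eq_top_iff.mpr Subgroup.normalClosure_normal]; exact le_top
    · rw [Subgroup.normalizer_eq_top_iff.mpr Subgroup.normalClosure_normal]; exact le_top
    · rintro m ⟨hm1, hm2⟩
      have hmC : m ∈ C := Subgroup.mem_centralizer_singleton_iff.mpr
        (Subgroup.mem_centralizer_iff.mp hm2 x (Subgroup.mem_zpowers x)).symm
      rw [Subgroup.mem_centralizer_iff]
      rintro _ ⟨y, hy, rfl⟩
      have hpm : IsPGroup p (Subgroup.zpowers (⟨m, hmC⟩ : C)) := by
        obtain ⟨t, ht⟩ := IsPGroup.iff_orderOf.mp hMp ⟨m, hm1⟩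
        exact IsPGroup.of_card (n := t) (by rw [Nat.card_zpowers, Subgroup.orderOf_mk, ← ht, Subgroup.orderOf_mk])
      obtain ⟨S, hS⟩ := hpm.exists_le_sylow
      exact (congrArg Subtype.val (hcom S y (hNcop y hy) ⟨m, hmC⟩ (hS (Subgroup.mem_zpowers _)))).symm
  haveI : M.Normal := Subgroup.normalClosure_normal
  have hKn : K.Normal := by
    refine ⟨fun y hy g => ?_⟩
    have h1 : g * y * g⁻¹ ∈ C := by
      have h2 := (inferInstance : (Subgroup.centralizer (M : Set G)).Normal).conj_mem _ (hKM hy) g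
      exact Subgroup.mem_centralizer_singleton_iff.mpr
        (Subgroup.mem_centralizer_iff.mp h2 x (Subgroup.subset_normalClosure rfl)).symm
    obtain ⟨y', hy', rfl⟩ := hy
    refine ⟨⟨_, h1⟩, ?_, rfl⟩
    set w : C := ⟨_, h1⟩
    have hwc : (orderOf w).Coprime p := by
      rw [← Subgroup.orderOf_coe, show (w : G) = (MulAut.conj g).toMonoidHom (C.subtype y') from rfl,
        orderOf_injective _ (MulAut.conj g).injective, orderOf_injective _ C.subtype_injective]
      exact hNcop y' hy'
    refine (QuotientGroup.eq_one_iff w).mp (orderOf_eq_one_iff.mp ?_)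
    have h3 : orderOf (w : C ⧸ N) ∣ p ^ (Nat.card C).factorization p := by
      refine (orderOf_dvd_natCard _).trans (dvd_of_eq ?_)
      rw [← Subgroup.index_eq_card, hc.symm.index_eq_card, Q.card_eq_multiplicity]
    exact Nat.eq_one_of_dvd_coprimes (hwc.pow_right _) (orderOf_map_dvd (QuotientGroup.mk' N) w) h3
  have hKc : Nat.card K = Nat.card N := (Nat.card_congr (N.equivMapOfInjective C.subtype C.subtype_injective).toEquiv).symm
  refine ⟨P, K, hKn, Subgroup.isComplement'_of_coprime ?_ ?_⟩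
  · rw [hKc, P.card_eq_multiplicity, hfac, pow_add, ← mul_assoc, hN', ← hxa, C.card_mul_index]
  · rw [hKc, P.card_eq_multiplicity]
    refine Nat.Coprime.pow_right _ (hp.coprime_iff_not_dvd.mpr fun hd => ?_).symm
    have h1 : p ^ ((Nat.card C).factorization p + 1) ∣ Nat.card C := by
      rw [pow_succ']
      exact (Nat.mul_dvd_mul hd dvd_rfl).trans (dvd_of_eq hN')
    have := (hp.pow_dvd_iff_le_factorization Nat.card_pos.ne').mp h1
    omega

end Cfsg.Agent.S4127
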