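import Cfsg.Statements.S2119
import Cfsg.Agent.Lib.Perm.ThreeBlocks

set_option autoImplicit false
set_option linter.unusedSimpArgs false
open Cfsg

namespace Cfsg.Agent.S2119


open Equiv Equiv.Perm Cfsg.Agent.Lib.Perm.ThreeBlocks

variable {α : Type*} [Fintype α] [DecidableEq α]

theorem pair_base {c d e q r : α} (hcd : c ≠ d) (hde : d ≠ e) (hce : c ≠ e) (hcq : c ≠ q) (hqr : q ≠ r)
    (hcr : c ≠ r) (h : (cyc c d e * cyc c q r) ^ 2 = 1) (h1 : cyc c d e * cyc c q r ≠ 1) :
    (q = d ∧ r ≠ e) ∨ (r = e ∧ q ≠ d) := by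
  have h' : ∀ x, cyc c d e (cyc c q r (cyc c d e (cyc c q r x))) = x := fun x => by
    have := DFunLike.congr_fun h x
    simpa [sq, mul_apply] using this
  by_cases hqd : q = d
  · refine Or.inl ⟨hqd, fun hre => ?_⟩
    subst hqd hre
    have := h' c
    rw [cyc_left hcd hce, cyc_mid hce.symm hde.symm, cyc_right, cyc_left hcd hce] at this
    exact hcd this.symm
  by_cases hre : r = e
  · exact Or.inr ⟨hre, hqd⟩
  exfalso
  have := h' c
  rw [cyc_left hcq hcr] at this
  by_cases hqe : q = e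
  · subst hqe
    rw [cyc_right, cyc_left hcq hcr, cyc_right] at this
    by_cases hrd : r = d
    · subst hrd
      exact h1 (by rw [cyc_rot hcq hqr hcr, ← cyc_inv, inv_mul_cancel])
    · have := h' q
      rw [cyc_mid hcr.symm hqr.symm, cyc_other hcr.symm hrd hre, cyc_right,
        cyc_left hcd hce] at this
      exact hde this
  · rw [cyc_other hcq.symm hqd hqe, cyc_mid hcr.symm hqr.symm] at this
    by_cases hrd : r = d
    · subst hrd
      rw [cyc_mid hce.symm hde.symm] at this
      exact hce this.symm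
    · rw [cyc_other hcr.symm hrd hre] at this
      exact hcr this.symm

/-- Two 3-cycles with product of order two share an oriented pair. -/
theorem pair {c d e : α} {z : Perm α} (hcd : c ≠ d) (hde : d ≠ e) (hce : c ≠ e) (hz : z.IsThreeCycle)
    (h : (cyc c d e * z) ^ 2 = 1) (h1 : cyc c d e * z ≠ 1) :
    ∃ f, f ≠ c ∧ f ≠ d ∧ f ≠ e ∧ (z = cyc c d f ∨ z = cyc d e f ∨ z = cyc e c f) := by
  obtain ⟨p, q, r, hpq, hqr, hpr, rfl⟩ := exists_cyc hz
  have base : ∀ {c d e p q r : α}, c ≠ d → d ≠ e → c ≠ e → p ≠ q → q ≠ r → p ≠ r → c = p →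
      (cyc c d e * cyc p q r) ^ 2 = 1 → cyc c d e * cyc p q r ≠ 1 →
      ∃ f, f ≠ c ∧ f ≠ d ∧ f ≠ e ∧
        (cyc p q r = cyc c d f ∨ cyc p q r = cyc e c f) := by
    intro c d e p q r hcd hde hce hpq hqr hpr hcp h h1
    subst hcp
    rcases pair_base hcd hde hce hpq hqr hpr h h1 with ⟨rfl, hre⟩ | ⟨rfl, hqd⟩
    · exact ⟨r, hpr.symm, hqr.symm, hre, Or.inl rfl⟩
    · exact ⟨q, hpq.symm, hqd, hqr, Or.inr (by rw [cyc_rot hpq hqr hpr, cyc_rot hqr hpr.symm hpq.symm])⟩
  by_cases hc : c = p ∨ c = q ∨ c = r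
  · obtain ⟨p', q', r', h₁, h₂, h₃, hcp, he⟩ : ∃ p' q' r', p' ≠ q' ∧ q' ≠ r' ∧ p' ≠ r' ∧ c = p' ∧
        cyc p q r = cyc p' q' r' := by
      rcases hc with h | h | h
      · exact ⟨p, q, r, hpq, hqr, hpr, h, rfl⟩
      · exact ⟨q, r, p, hqr, hpr.symm, hpq.symm, h, cyc_rot hpq hqr hpr⟩
      · exact ⟨r, p, q, hpr.symm, hpq, hqr.symm, h,
          by rw [cyc_rot hpq hqr hpr, cyc_rot hqr hpr.symm hpq.symm]⟩
    obtain ⟨f, a1, a2, a3, a4⟩ := base hcd hde hce h₁ h₂ h₃ hcp (he ▸ h) (he ▸ h1)
    exact ⟨f, a1, a2, a3, he ▸ a4.imp id Or.inr⟩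
  by_cases hd : d = p ∨ d = q ∨ d = r
  · obtain ⟨p', q', r', h₁, h₂, h₃, hcp, he⟩ : ∃ p' q' r', p' ≠ q' ∧ q' ≠ r' ∧ p' ≠ r' ∧ d = p' ∧
        cyc p q r = cyc p' q' r' := by
      rcases hd with h | h | h
      · exact ⟨p, q, r, hpq, hqr, hpr, h, rfl⟩
      · exact ⟨q, r, p, hqr, hpr.symm, hpq.symm, h, cyc_rot hpq hqr hpr⟩
      · exact ⟨r, p, q, hpr.symm, hpq, hqr.symm, h,
          by rw [cyc_rot hpq hqr hpr, cyc_rot hqr hpr.symm hpq.symm]⟩
    have hy := cyc_rot hcd hde hce
    rw [he, hy] at h h1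
    obtain ⟨f, a1, a2, a3, a4⟩ := base hde hce.symm hcd.symm h₁ h₂ h₃ hcp h h1
    refine ⟨f, a3, a1, a2, ?_⟩
    rw [he]
    rcases a4 with a4 | a4
    · exact Or.inr (Or.inl a4)
    · exact Or.inl a4
  exfalso
  simp only [not_or] at hc hd
  have := DFunLike.congr_fun h c
  simp only [sq, mul_apply, one_apply] at this
  rw [cyc_other hc.1 hc.2.1 hc.2.2, cyc_left hcd hce, cyc_other hd.1 hd.2.1 hd.2.2,
    cyc_mid hce.symm hde.symm] at this
  exact hce this.symm

/-- A third 3-cycle pairing with two shares their common pair. -/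
theorem third {c d e f : α} {z : Perm α} (hcd : c ≠ d) (hde : d ≠ e) (hce : c ≠ e) (hfc : f ≠ c) (hfd : f ≠ d)
    (hef : e ≠ f) (hz : z.IsThreeCycle)
    (h : (cyc c d e * z) ^ 2 = 1) (h1 : cyc c d e * z ≠ 1)
    (h' : (cyc c d f * z) ^ 2 = 1) (h1' : cyc c d f * z ≠ 1) : ∃ g, g ≠ c ∧ g ≠ d ∧ z = cyc c d g := by
  obtain ⟨g, gc, gd, ge, hg⟩ := pair hcd hde hce hz h h1
  obtain ⟨g', gc', gd', gf, hg'⟩ := pair hcd hfd.symm hfc.symm hz h' h1'
  rcases hg with hg | hg | hg
  · exact ⟨g, gc, gd, hg⟩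
  · rcases hg' with hg' | hg' | hg'
    · exact ⟨g', gc', gd', hg'⟩
    · have := congrArg (fun w : Perm α => w d) (hg.symm.trans hg')
      rw [cyc_left hde gd.symm, cyc_left hfd.symm gd'.symm] at this
      exact absurd this hef
    · have := congrArg (fun w : Perm α => w c) (hg.symm.trans hg')
      rw [cyc_other hcd hce gc.symm, cyc_mid gf gc'] at this
      exact absurd this gc'.symm
  · rcases hg' with hg' | hg' | hg'
    · exact ⟨g', gc', gd', hg'⟩
    · have := congrArg (fun w : Perm α => w c) (hg.symm.trans hg')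
      rw [cyc_mid ge gc, cyc_other hcd hfc.symm gc'.symm] at this
      exact absurd this gc
    · have := congrArg (fun w : Perm α => w e) (hg.symm.trans hg')
      rw [cyc_left hce.symm ge.symm] at this
      by_cases he : e = g'
      · subst he
        rw [cyc_right] at this
        exact absurd this hfc.symm
      · rw [cyc_other hef hce.symm he] at this
        exact absurd this hce

theorem key_ineq : ∀ k : ℕ, 3 ≤ k → 2 * 3 ^ k * k.factorial < 3 * (3 * k - 3).factorial := by
  intro k hk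
  induction k, hk using Nat.le_induction with
  | base => decide
  | succ k hk ih =>
    obtain ⟨j, rfl⟩ : ∃ j, k = j + 1 := ⟨k - 1, by omega⟩
    have e1 : 3 * (j + 1 + 1) - 3 = 3 * j + 3 := by omega
    have e2 : 3 * (j + 1) - 3 = 3 * j := by omega
    rw [e2] at ih
    rw [e1, pow_succ, Nat.factorial_succ (j + 1), Nat.factorial_succ (3 * j + 2),
      Nat.factorial_succ (3 * j + 1), Nat.factorial_succ (3 * j)]
    have hm : 3 * (j + 1 + 1) ≤ (3 * j + 3) * ((3 * j + 2) * (3 * j + 1)) :=
      le_trans (by omega : 3 * (j + 1 + 1) ≤ (3 * j + 3) * 2) (Nat.mul_le_mul_left _ (le_trans (by omega : 2 ≤ 3 * j + 2) (Nat.le_mul_of_pos_right _ (by omega))))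
    calc 2 * (3 ^ (j + 1) * 3) * ((j + 1 + 1) * (j + 1).factorial)
        = (2 * 3 ^ (j + 1) * (j + 1).factorial) * (3 * (j + 1 + 1)) := by ring
      _ < (3 * (3 * j).factorial) * (3 * (j + 1 + 1)) := Nat.mul_lt_mul_of_pos_right ih (by omega)
      _ ≤ (3 * (3 * j).factorial) * ((3 * j + 3) * ((3 * j + 2) * (3 * j + 1))) := Nat.mul_le_mul_left _ hm
      _ = _ := by ring

theorem centralizer_ineq {n k : ℕ} (hk : 2 ≤ k) (hn : 3 * k ≤ n) (h6 : n ≠ 6) :
    2 * ((n - 3 * k).factorial * 3 ^ k * k.factorial) < (n - 3).factorial * 3 := by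
  rcases hk.eq_or_lt with rfl | hk3
  · obtain ⟨j, rfl⟩ : ∃ j, n = j + 6 + 1 := ⟨n - 7, by omega⟩
    rw [show j + 6 + 1 - 3 * 2 = j + 1 by omega, show j + 6 + 1 - 3 = j + 1 + 1 + 1 + 1 by omega,
      Nat.factorial_succ (j + 1 + 1 + 1), Nat.factorial_succ (j + 1 + 1), Nat.factorial_succ (j + 1)]
    have := Nat.factorial_pos (j + 1)
    have h24 : 24 ≤ (j + 1 + 1 + 1 + 1) * ((j + 1 + 1 + 1) * (j + 1 + 1)) :=
      Nat.mul_le_mul (by omega : 4 ≤ j + 1 + 1 + 1 + 1) (Nat.mul_le_mul (by omega : 3 ≤ j + 1 + 1 + 1) (by omega : 2 ≤ j + 1 + 1))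
    calc 2 * ((j + 1).factorial * 3 ^ 2 * Nat.factorial 2)
        < (j + 1).factorial * 24 * 3 := by rw [show Nat.factorial 2 = 2 from rfl, show (3 : ℕ) ^ 2 = 9 from rfl]; omega
      _ ≤ (j + 1).factorial * ((j + 1 + 1 + 1 + 1) * ((j + 1 + 1 + 1) * (j + 1 + 1))) * 3 :=
          Nat.mul_le_mul_right 3 (Nat.mul_le_mul_left _ h24)
      _ = _ := by ring
  · have h := Nat.le_of_dvd (Nat.factorial_pos _)
      (Nat.factorial_mul_factorial_dvd_factorial_add (n - 3 * k) (3 * k - 3))
    rw [show n - 3 * k + (3 * k - 3) = n - 3 by omega] at h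
    have h2 := Nat.mul_lt_mul_of_pos_left (key_ineq k hk3) (Nat.factorial_pos (n - 3 * k))
    nlinarith

theorem centralizer_bounds (x : alternatingGroup α) :
    Nat.card (Subgroup.centralizer ({x} : Set (alternatingGroup α))) ≤
      Nat.card (Subgroup.centralizer ({(x : Perm α)} : Set (Perm α))) ∧
    Nat.card (Subgroup.centralizer ({(x : Perm α)} : Set (Perm α))) ≤
      2 * Nat.card (Subgroup.centralizer ({x} : Set (alternatingGroup α))) := by
  set C := Subgroup.centralizer ({(x : Perm α)} : Set (Perm α))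
  let f : Subgroup.centralizer ({x} : Set (alternatingGroup α)) → ((Equiv.Perm.sign.comp C.subtype).ker) :=
    fun y => ⟨⟨(y : alternatingGroup α), Subgroup.mem_centralizer_singleton_iff.2
      (congrArg Subtype.val (Subgroup.mem_centralizer_singleton_iff.1 y.2))⟩,
      (y : alternatingGroup α).2⟩
  have hf : Function.Bijective f := by
    refine ⟨fun a b h => Subtype.ext (Subtype.ext (congrArg (fun z : (Equiv.Perm.sign.comp C.subtype).ker => ((z : C) : Perm α)) h)), fun z => ?_⟩
    exact ⟨⟨⟨(z : C), z.2⟩, Subgroup.mem_centralizer_singleton_iff.2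
      (Subtype.ext (Subgroup.mem_centralizer_singleton_iff.1 (z : C).2))⟩, rfl⟩
  have hk := (Equiv.Perm.sign.comp C.subtype).ker.card_mul_index
  rw [← Nat.card_congr (Equiv.ofBijective f hf), Subgroup.index_ker] at hk
  have hr : Nat.card (Equiv.Perm.sign.comp C.subtype).range ≤ 2 :=
    (Nat.card_le_card_of_injective Subtype.val Subtype.val_injective).trans (by simp)
  have hpos : 0 < Nat.card (Equiv.Perm.sign.comp C.subtype).range := Nat.card_pos
  constructor <;> nlinarith

/-- Automorphisms of the alternating group keep 3-cycles, outside degree six. -/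
theorem isThreeCycle_map (h6 : Fintype.card α ≠ 6) (φ : MulAut (alternatingGroup α)) {x : alternatingGroup α}
    (hx : (x : Perm α).IsThreeCycle) : ((φ x : alternatingGroup α) : Perm α).IsThreeCycle := by
  have ho : orderOf ((φ x : alternatingGroup α) : Perm α) = 3 := by
    rw [Subgroup.orderOf_coe, MulEquiv.orderOf_eq, ← Subgroup.orderOf_coe, hx.orderOf]
  obtain ⟨k, hk⟩ := cycleType_prime_order (by rw [ho]; norm_num : (orderOf ((φ x : alternatingGroup α) : Perm α)).Prime)
  rw [ho] at hk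
  by_cases hk0 : k = 0
  · subst hk0
    rwa [Equiv.Perm.IsThreeCycle]
  exfalso
  have hsum := sum_cycleType_le ((φ x : alternatingGroup α) : Perm α)
  rw [hk, Multiset.sum_replicate, smul_eq_mul] at hsum
  have e1 := nat_card_centralizer ((φ x : alternatingGroup α) : Perm α)
  rw [hk, Multiset.sum_replicate, Multiset.prod_replicate, smul_eq_mul,
    Multiset.toFinset_replicate, if_neg (by omega), Finset.prod_singleton, Multiset.count_replicate_self] at e1
  have e2 := nat_card_centralizer (x : Perm α)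
  rw [hx.cycleType] at e2
  simp only [Multiset.sum_singleton, Multiset.prod_singleton, Multiset.toFinset_singleton,
    Finset.prod_singleton, Multiset.count_singleton_self, Nat.factorial_one, mul_one] at e2
  have e3 : Nat.card (Subgroup.centralizer ({φ x} : Set (alternatingGroup α))) =
      Nat.card (Subgroup.centralizer ({x} : Set (alternatingGroup α))) := by
    refine (Nat.card_congr (φ.toEquiv.subtypeEquiv fun y => ?_)).symm
    simp only [Subgroup.mem_centralizer_singleton_iff]
    exact ⟨fun h => by simpa using congrArg φ h, fun h => φ.injective (by simpa using h)⟩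
  have b1 := (centralizer_bounds (φ x)).2
  have b2 := (centralizer_bounds x).2
  have b3 := (centralizer_bounds (φ x)).1
  have hlt := centralizer_ineq (n := Fintype.card α) (k := k + 1) (by omega) (by linarith) h6
  rw [show 3 * (k + 1) = (k + 1) * 3 by ring] at hlt
  omega

/-- Automorphisms of the alternating groups: for n ≥ 4 with n ≠ 6, every automorphism of the alternating group of degree n is conjugation by a unique permutation, i.e. conjugation induces an isomorphism from the symmetric group of degree n onto the automorphism group of the alternating group (so the outer automorphism group has order 2). -/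
theorem result (n : ℕ) (hn : 4 ≤ n) (h6 : n ≠ 6) : Function.Bijective (MulAut.conjNormal : Equiv.Perm (Fin n) →* MulAut ↥(alternatingGroup (Fin n))) := by
  classical
  have hA : ∀ {u v w : Fin n}, u ≠ v → v ≠ w → u ≠ w → cyc u v w ∈ alternatingGroup (Fin n) :=
    fun h₁ h₂ h₃ => (cyc_isThreeCycle h₁ h₂ h₃).mem_alternatingGroup
  constructor
  · intro σ τ h
    by_contra hne
    obtain ⟨x, hx⟩ : ∃ x, (τ⁻¹ * σ) x ≠ x := by
      by_contra hh
      simp only [not_exists, ne_eq, not_not] at hh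
      exact hne (inv_mul_eq_one.1 (Equiv.ext hh)).symm
    set ρ := τ⁻¹ * σ with hρ
    have h1 : ∀ y ∈ alternatingGroup (Fin n), ρ * y * ρ⁻¹ = y := by
      intro y hy
      have := congrArg (fun f : MulAut (alternatingGroup (Fin n)) => ((f ⟨y, hy⟩ : alternatingGroup (Fin n)) : Perm (Fin n))) h
      simp only [MulAut.conjNormal_apply] at this
      rw [hρ, show τ⁻¹ * σ * y * (τ⁻¹ * σ)⁻¹ = τ⁻¹ * (σ * y * σ⁻¹) * τ by group, this]
      group
    have hex : ∀ S : Finset (Fin n), S.card ≤ 3 → ∃ b, b ∉ S := fun S hS => by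
      by_contra hh
      simp only [not_exists, not_not] at hh
      rw [Finset.eq_univ_iff_forall.2 hh, Finset.card_univ, Fintype.card_fin] at hS
      omega
    obtain ⟨b, hb⟩ := hex {x, ρ x} (Finset.card_le_two.trans (by norm_num))
    obtain ⟨c, hc⟩ := hex {x, ρ x, b} Finset.card_le_three
    simp only [Finset.mem_insert, Finset.mem_singleton, not_or] at hb hc
    have h2 := h1 _ (hA (u := x) (v := b) (w := c) (Ne.symm hb.1) (Ne.symm hc.2.2) (Ne.symm hc.1))
    rw [cyc_conj] at h2
    have h3 := DFunLike.congr_fun h2 (ρ x)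
    rw [cyc_left (ρ.injective.ne (Ne.symm hb.1)) (ρ.injective.ne (Ne.symm hc.1)),
      cyc_other hx (Ne.symm hb.2) (Ne.symm hc.2.1)] at h3
    exact hb.1 (ρ.injective h3)
  · intro φ
    let a : Fin n := ⟨0, by omega⟩
    let b : Fin n := ⟨1, by omega⟩
    have hab : a ≠ b := by simp [a, b, Fin.ext_iff]
    let I := {i : Fin n // i ≠ a ∧ i ≠ b}
    let x : I → alternatingGroup (Fin n) := fun i => ⟨cyc a b i, hA hab i.2.2.symm i.2.1.symm⟩
    let y : I → Perm (Fin n) := fun i => ((φ (x i) : alternatingGroup (Fin n)) : Perm (Fin n))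
    have hy : ∀ i, (y i).IsThreeCycle := fun i =>
      isThreeCycle_map (by simpa using h6) φ (cyc_isThreeCycle hab i.2.2.symm i.2.1.symm)
    have hinj : Function.Injective y := by
      intro i j hij
      have h := congrArg (fun w : alternatingGroup (Fin n) => (w : Perm (Fin n)) b) (φ.injective (Subtype.ext hij))
      simp only [x] at h
      rw [cyc_mid i.2.1 i.2.2, cyc_mid j.2.1 j.2.2] at h
      exact Subtype.ext h
    have hprod : ∀ i j, i ≠ j → (y i * y j) ^ 2 = 1 ∧ y i * y j ≠ 1 := by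
      intro i j hij
      have hij' : (i : Fin n) ≠ j := fun e => hij (Subtype.ext e)
      have e1 : (cyc a b (i : Fin n) * cyc a b j) ^ 2 = 1 := by
        ext u
        by_cases ha : u = a
        · subst ha
          simp [sq, mul_apply, cyc_left hab j.2.1.symm, cyc_left hab i.2.1.symm, cyc_mid i.2.1 i.2.2,
            cyc_mid j.2.1 j.2.2, cyc_other j.2.1 j.2.2 hij'.symm, cyc_other i.2.1 i.2.2 hij', cyc_right]
        by_cases hb : u = b
        · subst hb
          simp [sq, mul_apply, cyc_left hab j.2.1.symm, cyc_left hab i.2.1.symm, cyc_mid i.2.1 i.2.2,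
            cyc_mid j.2.1 j.2.2, cyc_other j.2.1 j.2.2 hij'.symm, cyc_other i.2.1 i.2.2 hij', cyc_right]
        by_cases hi : u = i
        · subst hi
          simp [sq, mul_apply, cyc_left hab j.2.1.symm, cyc_left hab i.2.1.symm, cyc_mid i.2.1 i.2.2,
            cyc_mid j.2.1 j.2.2, cyc_other j.2.1 j.2.2 hij'.symm, cyc_other i.2.1 i.2.2 hij', cyc_right]
        by_cases hj : u = j
        · subst hj
          simp [sq, mul_apply, cyc_left hab j.2.1.symm, cyc_left hab i.2.1.symm, cyc_mid i.2.1 i.2.2,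
            cyc_mid j.2.1 j.2.2, cyc_other j.2.1 j.2.2 hij'.symm, cyc_other i.2.1 i.2.2 hij', cyc_right]
        simp [sq, mul_apply, cyc_other ha hb hi, cyc_other ha hb hj]
      refine ⟨?_, fun h => ?_⟩
      · have : (x i * x j) ^ 2 = 1 := Subtype.ext e1
        have := congrArg φ this
        rw [map_pow, map_mul, map_one] at this
        exact congrArg Subtype.val this
      · have h' : φ (x i * x j) = φ 1 := by rw [map_mul, map_one]; exact Subtype.ext h
        have h'' := congrArg (fun w : alternatingGroup (Fin n) => (w : Perm (Fin n)) a) (φ.injective h')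
        simp [x, mul_apply, cyc_left hab j.2.1.symm, cyc_mid i.2.1 i.2.2] at h''
        exact i.2.1 h''
    let i₀ : I := ⟨⟨2, by omega⟩, by simp [a, b, Fin.ext_iff]⟩
    let i₁ : I := ⟨⟨3, by omega⟩, by simp [a, b, Fin.ext_iff]⟩
    have h01 : i₀ ≠ i₁ := fun h => absurd (congrArg (fun t : I => ((t : Fin n) : ℕ)) h) (show (2 : ℕ) ≠ 3 by omega)
    obtain ⟨c₀, d₀, e₀, q1, q2, q3, h0⟩ := exists_cyc (hy i₀)
    obtain ⟨f₀, f1, f2, f3, hf⟩ := pair q1 q2 q3 (hy i₁) (h0 ▸ (hprod _ _ h01).1) (h0 ▸ (hprod _ _ h01).2)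
    obtain ⟨c, d, e, f, hcd, hde, hce, hfc, hfd, hfe, hye, hyf⟩ : ∃ c d e f, c ≠ d ∧ d ≠ e ∧ c ≠ e ∧
        f ≠ c ∧ f ≠ d ∧ f ≠ e ∧ y i₀ = cyc c d e ∧ y i₁ = cyc c d f := by
      rcases hf with hf | hf | hf
      · exact ⟨c₀, d₀, e₀, f₀, q1, q2, q3, f1, f2, f3, h0, hf⟩
      · exact ⟨d₀, e₀, c₀, f₀, q2, q3.symm, q1.symm, f2, f3, f1, h0.trans (cyc_rot q1 q2 q3), hf⟩
      · exact ⟨e₀, c₀, d₀, f₀, q3.symm, q1, q2.symm, f3, f1, f2,
          h0.trans (by rw [cyc_rot q1 q2 q3, cyc_rot q2 q3.symm q1.symm]), hf⟩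
    have hshape : ∀ i, ∃ g, g ≠ c ∧ g ≠ d ∧ y i = cyc c d g := by
      intro i
      by_cases hi0 : i = i₀
      · exact ⟨e, hce.symm, hde.symm, hi0 ▸ hye⟩
      by_cases hi1 : i = i₁
      · exact ⟨f, hfc, hfd, hi1 ▸ hyf⟩
      exact third hcd hde hce hfc hfd hfe.symm (hy i) (hye ▸ (hprod _ _ (Ne.symm hi0)).1)
        (hye ▸ (hprod _ _ (Ne.symm hi0)).2) (hyf ▸ (hprod _ _ (Ne.symm hi1)).1)
        (hyf ▸ (hprod _ _ (Ne.symm hi1)).2)
    choose g hgc hgd hg using hshape
    let s : Fin n → Fin n := fun u => if ha : u = a then c else if hb : u = b then d else g ⟨u, ha, hb⟩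
    have hs : Function.Injective s := by
      intro u v huv
      simp only [s] at huv
      split_ifs at huv with ha hb hb' hb''
      all_goals first
        | exact (‹u = _›).trans (‹v = _›).symm
        | exact absurd huv hcd
        | exact absurd huv.symm hcd
        | exact absurd huv (hgc _)
        | exact absurd huv.symm (hgc _)
        | exact absurd huv (hgd _)
        | exact absurd huv.symm (hgd _)
        | exact congrArg Subtype.val (hinj ((hg _).trans ((congrArg (cyc c d) huv).trans (hg _).symm)) :)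
    let σ : Perm (Fin n) := Equiv.ofBijective s (Finite.injective_iff_bijective.1 hs)
    refine ⟨σ, ?_⟩
    let H : Subgroup (Perm (Fin n)) :=
      ((φ : alternatingGroup (Fin n) →* alternatingGroup (Fin n)).eqLocus
        (MulAut.conjNormal σ : MulAut (alternatingGroup (Fin n))).toMonoidHom).map (alternatingGroup (Fin n)).subtype
    have hH : ∀ i : I, cyc a b (i : Fin n) ∈ H := by
      intro i
      refine ⟨x i, Subtype.ext ?_, rfl⟩
      show y i = σ * cyc a b i * σ⁻¹
      rw [cyc_conj, hg]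
      congr 1 <;> simp [σ, s, hab.symm, i.2.1, i.2.2]
    have hfull : ∀ B : Finset (Fin n), Full H ({a, b, (i₀ : Fin n)} ∪ B) := by
      intro B
      induction B using Finset.induction with
      | empty =>
        intro u hu v hv w hw h₁ h₂ h₃
        have k0 := hH i₀
        have k1 := inv_mem k0
        rw [cyc_inv] at k1
        have r0 := cyc_rot hab i₀.2.2.symm i₀.2.1.symm
        have r1 := cyc_rot i₀.2.2.symm i₀.2.1 hab.symm
        have r2 := cyc_rot i₀.2.2 hab.symm i₀.2.1
        have r3 := cyc_rot hab.symm i₀.2.1.symm i₀.2.2.symm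
        simp only [Finset.union_empty, Finset.mem_insert, Finset.mem_singleton] at hu hv hw
        rcases hu with rfl | rfl | rfl <;> rcases hv with rfl | rfl | rfl <;> rcases hw with rfl | rfl | rfl
        all_goals first
          | exact absurd rfl h₁
          | exact absurd rfl h₂
          | exact absurd rfl h₃
          | exact k0
          | exact k1
          | exact r0 ▸ k0
          | exact r1 ▸ r0 ▸ k0
          | exact r2 ▸ k1
          | exact r3 ▸ r2 ▸ k1
      | insert u B hu ih =>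
        rw [Finset.union_insert]
        by_cases hmem : u ∈ ({a, b, (i₀ : Fin n)} ∪ B)
        · rwa [Finset.insert_eq_self.2 hmem]
        · have ha : u ≠ a := fun e => hmem (by simp [e])
          have hb : u ≠ b := fun e => hmem (by simp [e])
          exact full_insert ih (a := a) (b := b) (by simp) (by simp) hab hmem (hH ⟨u, ha, hb⟩)
    have hle : alternatingGroup (Fin n) ≤ H := by
      rw [← closure_three_cycles_eq_alternating, Subgroup.closure_le]
      intro t ht
      obtain ⟨u, v, w, h₁, h₂, h₃, rfl⟩ := exists_cyc ht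
      exact hfull Finset.univ u (by simp) v (by simp) w (by simp) h₁ h₂ h₃
    apply MulEquiv.ext
    intro z
    obtain ⟨z', hz', hzz⟩ := hle z.2
    obtain rfl : z' = z := Subtype.ext hzz
    exact hz'.symm

end Cfsg.Agent.S2119
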