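import Cfsg.Statements.S3573
import Mathlib

set_option autoImplicit false
set_option linter.style.haveILetI false
open Cfsg

namespace Cfsg.Agent.S3573

/-- Let 1 ≤ k with 2k < n and consider the symmetric group of degree n acting on the k-subsets of an n-set. Let r be a prime dividing the number C(n,k) of k-subsets. If r is odd, then every permutation of order r fixes some k-subset if and only if r ≤ k and the remainder of k modulo r is at most the remainder of n modulo r. If r = 2, then every involution fixes some k-subset if and only if k is even or n is odd. -/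
theorem result (n k : ℕ) (hk : 1 ≤ k) (hkn : 2 * k < n) (r : ℕ) (hr : r.Prime) (hrd : r ∣ Nat.choose n k) :
    (r ≠ 2 → ((∀ σ : Equiv.Perm (Fin n), orderOf σ = r → ∃ s : Finset (Fin n), s.card = k ∧ s.image σ = s) ↔
      (r ≤ k ∧ k % r ≤ n % r))) ∧
    (r = 2 → ((∀ σ : Equiv.Perm (Fin n), orderOf σ = 2 → ∃ s : Finset (Fin n), s.card = k ∧ s.image σ = s) ↔
      (Even k ∨ Odd n))) := by
  classical
  haveI := Fact.mk hr
  -- an invariant set from a good number of fixed points
  have build : ∀ σ : Equiv.Perm (Fin n), orderOf σ = r → k % r ≤ n - σ.support.card → ∃ s : Finset (Fin n), s.card = k ∧ s.image σ = s := by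
    intro σ hσ hmod
    obtain ⟨j₀, hj⟩ := Equiv.Perm.cycleType_prime_order (hσ.symm ▸ hr : (orderOf σ).Prime)
    rw [hσ] at hj
    have hsupp : σ.support.card = (j₀ + 1) * r := by
      rw [← Equiv.Perm.sum_cycleType, hj, Multiset.sum_replicate, smul_eq_mul]
    have hblocks : ∀ a, a ≤ j₀ + 1 → ∃ s : Finset (Fin n), s ⊆ σ.support ∧ s.card = a * r ∧ ∀ x ∈ s, σ x ∈ s := by
      intro a
      induction a with
      | zero => intro _; exact ⟨∅, Finset.empty_subset _, by simp, by simp⟩
      | succ a ih =>
        intro ha
        obtain ⟨s, hs, hsc, hsi⟩ := ih (by omega)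
        obtain ⟨x, hx, hxs⟩ : ∃ x ∈ σ.support, x ∉ s := by
          by_contra h
          push_neg at h
          have h2 := Finset.card_le_card h
          rw [hsc, hsupp] at h2
          have h3 : (a + 1) * r ≤ (j₀ + 1) * r := Nat.mul_le_mul_right r ha
          have := hr.pos
          nlinarith
        set c := (σ.cycleOf x).support with hc
        have hcc : c.card = r := by
          have h1 : σ.cycleOf x ∈ σ.cycleFactorsFinset := Equiv.Perm.cycleOf_mem_cycleFactorsFinset_iff.2 hx
          have h2 : c.card ∈ σ.cycleType := by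
            rw [Equiv.Perm.cycleType_def]
            exact Multiset.mem_map.2 ⟨_, h1, rfl⟩
          rw [hj] at h2
          exact Multiset.eq_of_mem_replicate h2
        have hsic : ∀ i : ℕ, ∀ y ∈ s, (σ ^ i) y ∈ s := by
          intro i
          induction i with
          | zero => intro y hy; simpa using hy
          | succ i ih' => intro y hy; rw [pow_succ', Equiv.Perm.mul_apply]; exact hsi _ (ih' y hy)
        have hdis : Disjoint s c := by
          rw [Finset.disjoint_left]
          intro y hy hyc
          apply hxs
          obtain ⟨i, hi⟩ := ((Equiv.Perm.mem_support_cycleOf_iff.1 hyc).1).symm.exists_nat_pow_eq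
          exact hi ▸ hsic i y hy
        refine ⟨s ∪ c, Finset.union_subset hs ?_, ?_, ?_⟩
        · exact fun y hy => Equiv.Perm.support_cycleOf_le σ x hy
        · rw [Finset.card_union_of_disjoint hdis, hsc, hcc]; ring
        · intro y hy
          rcases Finset.mem_union.1 hy with h | h
          · exact Finset.mem_union_left _ (hsi y h)
          · refine Finset.mem_union_right _ ?_
            obtain ⟨h1, h2⟩ := Equiv.Perm.mem_support_cycleOf_iff.1 h
            exact Equiv.Perm.mem_support_cycleOf_iff.2 ⟨Equiv.Perm.sameCycle_apply_right.2 h1, h2⟩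
    set a := min (j₀ + 1) (k / r) with ha
    obtain ⟨s, hs, hsc, hsi⟩ := hblocks a (min_le_left _ _)
    have hdiv := Nat.div_add_mod k r
    have hle : a * r ≤ k := (Nat.mul_le_mul_right r (min_le_right _ _)).trans (Nat.div_mul_le_self k r)
    have hsn : σ.support.card ≤ n := (Finset.card_le_univ _).trans (Fintype.card_fin n).le
    have hfix : k - a * r ≤ σ.supportᶜ.card := by
      rw [Finset.card_compl, Fintype.card_fin]
      rcases min_cases (j₀ + 1) (k / r) with ⟨h1, h2⟩ | ⟨h1, h2⟩
      · rw [ha, h1, ← hsupp]; omega
      · rw [ha, h1, mul_comm]; omega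
    obtain ⟨t, ht, htc⟩ := Finset.exists_subset_card_eq hfix
    have hdis : Disjoint s t := Finset.disjoint_left.2 fun y hy hyt => Finset.mem_compl.1 (ht hyt) (hs hy)
    refine ⟨s ∪ t, by rw [Finset.card_union_of_disjoint hdis, hsc, htc]; omega, ?_⟩
    refine Finset.eq_of_subset_of_card_le ?_ (Finset.card_image_of_injective _ σ.injective).ge
    intro y hy
    obtain ⟨z, hz, rfl⟩ := Finset.mem_image.1 hy
    rcases Finset.mem_union.1 hz with h | h
    · exact Finset.mem_union_left _ (hsi z h)
    · rw [Equiv.Perm.notMem_support.1 (Finset.mem_compl.1 (ht h))]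
      exact Finset.mem_union_right _ h
  have hrn : r ≤ n := by
    have h1 : r ∣ n.factorial := by
      rw [← Nat.choose_mul_factorial_mul_factorial (show k ≤ n by omega), mul_assoc]
      exact hrd.mul_right _
    exact (Nat.Prime.dvd_factorial hr).1 h1
  have hiff : (∀ σ : Equiv.Perm (Fin n), orderOf σ = r → ∃ s : Finset (Fin n), s.card = k ∧ s.image σ = s) ↔ k % r ≤ n % r := by
    constructor
    · intro h
      obtain ⟨σ, hσ⟩ := (Equiv.Perm.exists_with_cycleType_iff (Fin n) (m := Multiset.replicate (n / r) r)).2
        ⟨by rw [Multiset.sum_replicate, smul_eq_mul, Fintype.card_fin]; exact Nat.div_mul_le_self n r,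
          fun a ha => by rw [Multiset.eq_of_mem_replicate ha]; exact hr.two_le⟩
      have hn1 : n / r ≠ 0 := by
        have := Nat.div_pos hrn hr.pos
        omega
      have hσr : orderOf σ = r := by
        rw [← Equiv.Perm.lcm_cycleType, hσ]
        obtain ⟨e, he⟩ := Nat.exists_eq_succ_of_ne_zero hn1
        rw [he]
        have : ∀ e : ℕ, (Multiset.replicate (e + 1) r).lcm = r := by
          intro e
          induction e with
          | zero => simp
          | succ e ih => rw [Multiset.replicate_succ, Multiset.lcm_cons, ih]; exact Nat.lcm_self r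
        exact this e
      obtain ⟨s, hsc, hsi⟩ := h σ hσr
      have hsupp : σ.support.card = n / r * r := by
        rw [← Equiv.Perm.sum_cycleType, hσ, Multiset.sum_replicate, smul_eq_mul]
      -- points of `s` moved by `σ` come in blocks of `r`
      let T : Set (Fin n) := {x | x ∈ s}
      letI : MulAction (Subgroup.zpowers σ) s :=
        { smul := fun g x => ⟨(g : Equiv.Perm (Fin n)) x, by
            obtain ⟨i, hi⟩ := mem_powers_iff_mem_zpowers.2 g.2
            have hp : ∀ i : ℕ, ∀ y ∈ s, (σ ^ i) y ∈ s := by
              intro i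
              induction i with
              | zero => intro y hy; simpa using hy
              | succ i ih =>
                intro y hy
                rw [pow_succ', Equiv.Perm.mul_apply, ← hsi]
                exact Finset.mem_image_of_mem _ (ih y hy)
            change σ ^ i = (g : Equiv.Perm (Fin n)) at hi
            rw [← hi]
            exact hp i _ x.2⟩
          one_smul := fun x => Subtype.ext rfl
          mul_smul := fun a b x => Subtype.ext rfl }
      have hp : IsPGroup r (Subgroup.zpowers σ) := IsPGroup.of_card (n := 1) (by rw [pow_one, Nat.card_zpowers, hσr])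
      have hmod := hp.card_modEq_card_fixedPoints s
      have hfle : Nat.card (MulAction.fixedPoints (Subgroup.zpowers σ) s) ≤ n % r := by
        have hc : σ.supportᶜ.card = n % r := by
          rw [Finset.card_compl, Fintype.card_fin, hsupp]
          have := Nat.div_add_mod n r
          rw [mul_comm] at this
          omega
        rw [← hc, ← Nat.card_eq_finsetCard]
        refine Nat.card_le_card_of_injective (fun x => ⟨(x.1 : Fin n), Finset.mem_compl.2 (Equiv.Perm.notMem_support.2 (congrArg Subtype.val (x.2 ⟨σ, Subgroup.mem_zpowers σ⟩)))⟩) ?_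
        intro x y hxy
        exact Subtype.ext (Subtype.ext (congrArg (fun z : ↥(σ.supportᶜ) => (z : Fin n)) hxy))
      rw [Nat.card_eq_finsetCard, hsc] at hmod
      rw [Nat.ModEq] at hmod
      rw [hmod]
      exact (Nat.mod_le _ _).trans hfle
    · intro hmod σ hσ
      refine build σ hσ (hmod.trans ?_)
      obtain ⟨j₀, hj⟩ := Equiv.Perm.cycleType_prime_order (hσ.symm ▸ hr : (orderOf σ).Prime)
      rw [← Equiv.Perm.sum_cycleType, hj, Multiset.sum_replicate, smul_eq_mul, hσ]
      have hsn : (j₀ + 1) * r ≤ n := by
        have := (Finset.card_le_univ σ.support).trans (Fintype.card_fin n).le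
        rwa [← Equiv.Perm.sum_cycleType, hj, Multiset.sum_replicate, smul_eq_mul, hσ] at this
      obtain ⟨d, hd⟩ := Nat.exists_eq_add_of_le hsn
      rw [hd, Nat.mul_comm, Nat.mul_add_mod, Nat.add_sub_cancel_left]
      exact Nat.mod_le _ _
  refine ⟨fun _ => hiff.trans ⟨fun h => ⟨?_, h⟩, fun h => h.2⟩, ?_⟩
  · by_contra hlt
    rw [Nat.mod_eq_of_lt (not_le.1 hlt)] at h
    have hmod := Choose.choose_modEq_choose_mod_mul_choose_div_nat (p := r) (n := n) (k := k)
    rw [Nat.mod_eq_of_lt (not_le.1 hlt), Nat.div_eq_of_lt (not_le.1 hlt), Nat.choose_zero_right, mul_one] at hmod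
    have h1 : r ∣ Nat.choose (n % r) k := (Nat.modEq_zero_iff_dvd).1 (hmod.symm.trans (Nat.modEq_zero_iff_dvd.2 hrd))
    have h2 : r ∣ (n % r).factorial := by
      rw [← Nat.choose_mul_factorial_mul_factorial h, mul_assoc]
      exact h1.mul_right _
    have := (Nat.Prime.dvd_factorial hr).1 h2
    have := Nat.mod_lt n hr.pos
    omega
  · rintro rfl
    rw [hiff, Nat.even_iff, Nat.odd_iff]
    omega


end Cfsg.Agent.S3573
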