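import Cfsg.Statements.S0649

set_option autoImplicit false
open Cfsg

namespace Cfsg.Agent.S0649

/-- In the Glauberman replacement situation, if B does not normalize A then some element of B normalizes N_S(A) without normalizing A. -/
theorem result {S : Type*} [Group S] [Finite S] {p : ℕ} [Fact p.Prime] (hS : IsPGroup p S) (B : Subgroup S) [B.Normal] (hB2 : p = 2 → IsMulCommutative B) (A : Subgroup S) (hA : IsMulCommutative A) (hBA : ⁅B, B⁆ ≤ A) (hnot : ¬ B ≤ Subgroup.normalizer (A : Set S)) : ∃ b ∈ B, b ∈ Subgroup.normalizer ((Subgroup.normalizer (A : Set S)) : Set S) ∧ b ∉ Subgroup.normalizer (A : Set S) := by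
  haveI := hS.isNilpotent
  set N := Subgroup.normalizer (A : Set S) with hN
  have hlt : N.subgroupOf (B ⊔ N) < ⊤ := by
    rw [lt_top_iff_ne_top, Ne, Subgroup.subgroupOf_eq_top]
    exact fun h => hnot (le_sup_left.trans h)
  haveI : Group.IsNilpotent ↥(B ⊔ N) := (hS.to_subgroup _).isNilpotent
  have hne := Group.normalizerCondition_of_isNilpotent (G := ↥(B ⊔ N)) _ hlt
  rw [← Subgroup.subgroupOf_normalizer_eq (le_sup_right : N ≤ B ⊔ N)] at hne
  obtain ⟨x, hx1, hx2⟩ := SetLike.exists_of_lt hne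
  rw [Subgroup.mem_subgroupOf] at hx1 hx2
  obtain ⟨b, hb, n, hn, hbn⟩ := Subgroup.mem_sup_of_normal_left.mp x.2
  have hbe : b = (x : S) * n⁻¹ := by rw [← hbn]; group
  refine ⟨b, hb, ?_, fun hbN => hx2 (hbn ▸ mul_mem hbN hn)⟩
  rw [hbe]
  exact mul_mem hx1 (inv_mem (Subgroup.le_normalizer hn))

end Cfsg.Agent.S0649
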