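import Cfsg.Statements.S0650
import Cfsg.Agent.Lib.PLocal.GReplace
import Mathlib

set_option autoImplicit false
open Cfsg

namespace Cfsg.Agent.S0650

set_option linter.style.haveILetI false
open Cfsg.Agent.Lib.PLocal

/-- The Glauberman replacement Theorem: from an abelian A ⊇ [B, B] not normalized by the normal subgroup B and a suitable b ∈ B one gets the abelian subgroup A* = (A ∩ b⁻¹Ab)[A, b] of the same order, containing [B, B], meeting B strictly more than A does but not containing B, mutually normalizing with A, with strictly larger normalizer containing b, and (p odd) of no larger exponent. -/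
theorem result {S : Type*} [Group S] [Finite S] {p : ℕ} [Fact p.Prime] (hS : IsPGroup p S) (B : Subgroup S) [B.Normal] (hB2 : p = 2 → IsMulCommutative B) (A : Subgroup S) (hA : IsMulCommutative A) (hBA : ⁅B, B⁆ ≤ A) (hnot : ¬ B ≤ Subgroup.normalizer (A : Set S)) (b : S) (hb : b ∈ B) (hbN : b ∈ Subgroup.normalizer ((Subgroup.normalizer (A : Set S)) : Set S)) (hbA : b ∉ Subgroup.normalizer (A : Set S)) : Nat.card ↥((A ⊓ A.map (MulAut.conj (b⁻¹)).toMonoidHom) ⊔ Subgroup.closure {g : S | ∃ a ∈ A, g = a * b⁻¹ * a⁻¹ * b}) = Nat.card A ∧ IsMulCommutative ↥((A ⊓ A.map (MulAut.conj (b⁻¹)).toMonoidHom) ⊔ Subgroup.closure {g : S | ∃ a ∈ A, g = a * b⁻¹ * a⁻¹ * b}) ∧ ⁅B, B⁆ ≤ ((A ⊓ A.map (MulAut.conj (b⁻¹)).toMonoidHom) ⊔ Subgroup.closure {g : S | ∃ a ∈ A, g = a * b⁻¹ * a⁻¹ * b}) ∧ A ⊓ B < ((A ⊓ A.map (MulAut.conj (b⁻¹)).toMonoidHom) ⊔ Subgroup.closure {g : S | ∃ a ∈ A, g = a * b⁻¹ * a⁻¹ * b}) ⊓ B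 ∧ ((A ⊓ A.map (MulAut.conj (b⁻¹)).toMonoidHom) ⊔ Subgroup.closure {g : S | ∃ a ∈ A, g = a * b⁻¹ * a⁻¹ * b}) ⊓ B < B ∧ A ≤ Subgroup.normalizer (((A ⊓ A.map (MulAut.conj (b⁻¹)).toMonoidHom) ⊔ Subgroup.closure {g : S | ∃ a ∈ A, g = a * b⁻¹ * a⁻¹ * b} : Subgroup S) : Set S) ∧ ((A ⊓ A.map (MulAut.conj (b⁻¹)).toMonoidHom) ⊔ Subgroup.closure {g : S | ∃ a ∈ A, g = a * b⁻¹ * a⁻¹ * b}) ≤ Subgroup.normalizer (A : Set S) ∧ b ∈ Subgroup.normalizer (((A ⊓ A.map (MulAut.conj (b⁻¹)).toMonoidHom) ⊔ Subgroup.closure {g : S | ∃ a ∈ A, g = a * b⁻¹ * a⁻¹ * b} : Subgroup S) : Set S) ∧ Subgroup.normalizer (A : Set S) < Subgroup.normalizer (((A ⊓ A.map (MulAut.conj (b⁻¹)).toMonoidHom) ⊔ Subgroup.closure {g : S | ∃ a ∈ A, g = a * b⁻¹ * a⁻¹ * b} : Subgroup S) : Set S) ∧ (p ≠ 2 → Monoid.exponent ↥((A ⊓ A.map (MulAut.conj (b⁻¹)).toMonoidHom) ⊔ Subgroup.closure {g : S | ∃ a ∈ A, g = a * b⁻¹ * a⁻¹ * b}) ∣ Monoid.exponent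 A) := by
  have hset : GSetting A B b := by
    refine ⟨inferInstance, hA, hBA, hb, hbN, hbA, fun u hu hu2 => ?_⟩
    by_cases hp : p = 2
    · haveI := hB2 hp
      have h0 : ⁅B, B⁆ = ⊥ := Subgroup.commutator_eq_bot_iff_le_centralizer.mpr fun x hx y hy =>
        congrArg Subtype.val ((hB2 hp).is_comm.comm (⟨y, hy⟩ : B) ⟨x, hx⟩)
      rwa [h0, Subgroup.mem_bot] at hu
    · obtain ⟨k, hk⟩ := IsPGroup.iff_orderOf.mp hS u
      refine orderOf_eq_one_iff.mp (Nat.eq_one_of_dvd_coprimes (a := p ^ k) (b := 2) ?_ ?_ ?_)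
      · exact Nat.Coprime.pow_left k ((Nat.coprime_primes Fact.out Nat.prime_two).mpr hp)
      · rw [hk]
      · exact orderOf_dvd_of_pow_eq_one hu2
  refine ⟨hset.card_gRepl, hset.gRepl_comm, hset.commutator_le.trans hset.inf_le_gRepl,
    hset.inf_lt_gRepl_inf, hset.gRepl_inf_lt, hset.le_normalizer_gRepl, hset.gRepl_le_normalizer,
    hset.mem_normalizer_gRepl, hset.normalizer_lt_normalizer_gRepl, fun hp => ?_⟩
  refine Monoid.exponent_dvd_of_forall_pow_eq_one fun x => Subtype.ext ?_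
  rw [SubgroupClass.coe_pow, OneMemClass.coe_one]
  refine hset.gRepl_pow (Or.inl ?_) (fun a ha => ?_) x x.2
  · obtain ⟨k, hk⟩ := IsPGroup.iff_card.mp (hS.to_subgroup A)
    have hd : Monoid.exponent A ∣ p ^ k := hk ▸ Group.exponent_dvd_nat_card
    obtain ⟨j, -, hj⟩ := (Nat.dvd_prime_pow Fact.out).mp hd
    rw [hj]
    exact ((Fact.out : p.Prime).odd_of_ne_two hp).pow
  · have h1 := Monoid.pow_exponent_eq_one (⟨a, ha⟩ : A)
    exact congrArg Subtype.val h1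

end Cfsg.Agent.S0650
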