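import Cfsg.Statements.S5120
import Cfsg.Agent.Lib.Fusion.PPowerIndex
import Cfsg.Agent.Lib.Fusion.Hyperfocal
import Cfsg.Agent.Lib.Fusion.ConstrainedSub

set_option autoImplicit false
open Cfsg Cfsg.FusionSystem Cfsg.Agent.Lib.Fusion

namespace Cfsg.Agent.S5120

variable {Ω : Type*} [Group Ω] {S : Subgroup Ω}

omit S in
theorem mem_eq {a b : Ω} {K : Subgroup Ω} (e : a = b) (h : b ∈ K) : a ∈ K := e ▸ h

/-- The automorphism of `T` as a homomorphism into the ambient group. -/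
abbrev amb {T : Subgroup Ω} (α : MulAut T) : T →* Ω := T.subtype.comp α.toMonoidHom

omit S in
theorem amb_img_le {T : Subgroup Ω} (α : MulAut T) (P : Subgroup Ω) : img (amb α) P ≤ T := by
  rintro _ ⟨x, -, rfl⟩
  exact SetLike.coe_mem _

/-- `φ` transported by `α` lies in `E`. -/
def Transported {T : Subgroup Ω} (E : FusionSystem T) (α : MulAut T) (P : Subgroup Ω)
    (φ : P →* Ω) : Prop :=
  ∃ χ ∈ E.Hom (img (amb α) P), ∀ (x : P) (hx : (x : Ω) ∈ T) (hφ : φ x ∈ T)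
    (h : amb α ⟨x, hx⟩ ∈ img (amb α) P), χ ⟨amb α ⟨x, hx⟩, h⟩ = amb α ⟨φ x, hφ⟩

/-- The maps whose transport by `α` lies in `E`. -/
def transportSystem {T : Subgroup Ω} (E : FusionSystem T) (α : MulAut T) : FusionSystem T where
  Hom P := {φ | P ≤ T ∧ (∀ x, φ x ∈ T) ∧ Function.Injective φ ∧ Transported E α P φ}
  le_of_mem h := ⟨h.1, h.2.1⟩
  injective_of_mem h := h.2.2.1
  conj_mem {P g} hP hg := by
    refine ⟨hP, fun x => T.mul_mem (T.mul_mem hg (hP x.2)) (T.inv_mem hg),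
      fun a b h => Subtype.ext (mul_left_cancel (mul_right_cancel h)),
      conjHom (img (amb α) P) (amb α ⟨g, hg⟩), E.conj_mem (amb_img_le α P) (SetLike.coe_mem _), ?_⟩
    intro x hx hφ h
    show amb α ⟨g, hg⟩ * amb α ⟨x, hx⟩ * (amb α ⟨g, hg⟩)⁻¹ = amb α ⟨g * x * g⁻¹, hφ⟩
    rw [← map_inv, ← map_mul, ← map_mul]
    rfl
  comp_mem {P Q φ ψ} hφ hψ h := by
    obtain ⟨hP, hφT, hφi, χ, hχ, hχe⟩ := hφ
    obtain ⟨hQ, hψT, hψi, ξ, hξ, hξe⟩ := hψ
    have hm : ∀ y, χ y ∈ img (amb α) Q := by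
      rintro ⟨_, x, hx, rfl⟩
      exact mem_eq (hχe ⟨x, hx⟩ x.2 (hφT _) _) (apply_mem_img _ _ (h ⟨x, hx⟩))
    refine ⟨hP, fun x => hψT _, hψi.comp (fun a b e => hφi (congrArg Subtype.val e)),
      compose χ ξ hm, compose_mem E hχ hξ hm, fun x hx hφ h' => ?_⟩
    rw [compose_apply]
    simp only [hχe x hx (hφT x) h']
    exact hξe ⟨φ x, h x⟩ (hφT x) hφ _
  inv_mem {P φ} hφ := by
    obtain ⟨hP, hφT, hφi, χ, hχ, hχe⟩ := hφ
    let e := (MonoidHom.ofInjective hφi).symm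
    have he : ∀ x, e ⟨φ x, ⟨x, rfl⟩⟩ = x := fun x => (MonoidHom.ofInjective hφi).symm_apply_apply x
    have hr : χ.range = img (amb α) φ.range := by
      ext y
      constructor
      · rintro ⟨⟨_, x, hx, rfl⟩, rfl⟩
        exact mem_eq (hχe ⟨x, hx⟩ x.2 (hφT _) _) (apply_mem_img _ _ ⟨⟨x, hx⟩, rfl⟩)
      · rintro ⟨⟨_, hxT⟩, ⟨z, rfl⟩, rfl⟩
        exact ⟨⟨amb α ⟨z, hP z.2⟩, apply_mem_img _ _ z.2⟩, hχe z (hP z.2) hxT _⟩
    obtain ⟨ξ, hξ, -, hξl, -⟩ := exists_inv E hχ hr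
    refine ⟨P.subtype.comp e.toMonoidHom, ⟨?_, fun y => hP (e y).2,
      P.subtype_injective.comp e.injective, ξ, hξ, ?_⟩, fun x => congrArg Subtype.val (he x)⟩
    · rintro _ ⟨x, rfl⟩
      exact hφT x
    · rintro ⟨_, x, rfl⟩ hx hψx h'
      have e1 : χ ⟨amb α ⟨x, hP x.2⟩, apply_mem_img _ _ x.2⟩ = amb α ⟨φ x, hx⟩ := hχe x (hP x.2) hx _
      have e2 := hξl ⟨amb α ⟨x, hP x.2⟩, apply_mem_img _ _ x.2⟩ (e1.symm ▸ h')
      simp only [e1] at e2
      rw [e2]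
      show amb α ⟨x, _⟩ = amb α ⟨(e ⟨φ x, _⟩ : P), hψx⟩
      simp only [he]

/-- The factorization through `Aut_F(T)` and `E`. -/
def Split (F : FusionSystem S) {T : Subgroup Ω} (E : FusionSystem T) (P : Subgroup Ω)
    (φ : P →* Ω) : Prop :=
  (∀ x : P, (x : Ω) ∈ T ↔ φ x ∈ T) ∧ ∃ α ∈ F.autGroup T, ∀ (Q : Subgroup Ω) (hQP : Q ≤ P),
    Q ≤ T → ∃ φ₀ ∈ E.Hom Q, ∀ (x : Q) (h : φ₀ x ∈ T),
      φ (Subgroup.inclusion hQP x) = amb α ⟨φ₀ x, h⟩

/-- The split maps. -/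
def splitSystem (F : FusionSystem S) {T : Subgroup Ω} (E : FusionSystem T)
    (hA : ∀ g (hg : g ∈ S), ∃ hn : g ∈ Subgroup.normalizer (T : Set Ω), conjAut hn ∈ F.autGroup T)
    (hinv : ∀ α ∈ F.autGroup T, ∀ (P : Subgroup Ω), P ≤ T → ∀ (φ : P →* Ω), φ ∈ E.Hom P →
      Transported E α P φ) : FusionSystem S where
  Hom P := {φ | φ ∈ F.Hom P ∧ Split F E P φ}
  le_of_mem h := F.le_of_mem h.1
  injective_of_mem h := F.injective_of_mem h.1
  conj_mem {P g} hP hg := by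
    obtain ⟨hn, hgA⟩ := hA g hg
    refine ⟨F.conj_mem hP hg, fun x => ?_, conjAut hn, hgA, fun Q hQP hQT => ?_⟩
    · exact hn (x : Ω)
    · exact ⟨Q.subtype, subtype_mem E hQT, fun x h => rfl⟩
  comp_mem {P Q φ ψ} hφ hψ h := by
    obtain ⟨hφF, hφT, α, hα, hφa⟩ := hφ
    obtain ⟨hψF, hψT, β, hβ, hψb⟩ := hψ
    refine ⟨F.comp_mem hφF hψF h, fun x => (hφT x).trans (hψT ⟨φ x, h x⟩), β * α,
      mul_mem hβ hα, fun R hRP hRT => ?_⟩
    obtain ⟨φ₀, hφ₀, hφe⟩ := hφa R hRP hRT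
    set R₂ := (restr hRP φ).range with hR₂
    have hR₂Q : R₂ ≤ Q := by rintro _ ⟨x, rfl⟩; exact h _
    have hR₂T : R₂ ≤ T := by
      rintro _ ⟨x, rfl⟩
      exact (hφT _).1 (hRT x.2)
    obtain ⟨ψ₀, hψ₀, hψe⟩ := hψb R₂ hR₂Q hR₂T
    obtain ⟨χ, hχ, hχe⟩ := hinv α⁻¹ (inv_mem hα) R₂ hR₂T ψ₀ hψ₀
    have hm : ∀ x, φ₀ x ∈ img (amb α⁻¹) R₂ := fun x => by
      refine mem_img.2 ⟨φ (Subgroup.inclusion hRP x), (hφT _).1 (hRT x.2), ⟨x, rfl⟩, ?_⟩
      have h0 := hφe x (apply_mem hφ₀ x)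
      show ((α⁻¹ ⟨φ (Subgroup.inclusion hRP x), _⟩ : T) : Ω) = φ₀ x
      simp only [h0]
      exact congrArg Subtype.val (α.symm_apply_apply ⟨φ₀ x, apply_mem hφ₀ x⟩)
    refine ⟨compose φ₀ χ hm, compose_mem E hφ₀ hχ hm, fun x hx => ?_⟩
    have hy : φ (Subgroup.inclusion hRP x) ∈ R₂ := ⟨x, rfl⟩
    have h0 := hφe x (apply_mem hφ₀ x)
    have e : amb α⁻¹ ⟨φ (Subgroup.inclusion hRP x), hR₂T hy⟩ = φ₀ x := by
      show ((α⁻¹ ⟨φ (Subgroup.inclusion hRP x), _⟩ : T) : Ω) = φ₀ x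
      simp only [h0]
      exact congrArg Subtype.val (α.symm_apply_apply ⟨φ₀ x, apply_mem hφ₀ x⟩)
    have e2 := hχe ⟨_, hy⟩ (hR₂T hy) (apply_mem hψ₀ _) (e ▸ hm x)
    simp only [e] at e2
    show ψ ⟨φ (Subgroup.inclusion hRP x), _⟩ = amb (β * α) ⟨compose φ₀ χ hm x, hx⟩
    simp only [compose_apply, e2]
    have e3 := hψe ⟨_, hy⟩ (apply_mem hψ₀ _)
    refine (show _ = _ from ?_).trans (e3.trans ?_)
    · rfl
    · show ((β _ : T) : Ω) = ((β (α (α⁻¹ _)) : T) : Ω)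
      rw [MulAut.inv_apply, MulEquiv.apply_symm_apply]
  inv_mem {P φ} hφ := by
    obtain ⟨hφF, hφT, α, hα, hφa⟩ := hφ
    obtain ⟨ψ, hψ, hl⟩ := F.inv_mem hφF
    refine ⟨ψ, ⟨hψ, ?_, α⁻¹, inv_mem hα, fun R hRr hRT => ?_⟩, hl⟩
    · rintro ⟨_, x, rfl⟩
      rw [show ψ ⟨φ x, ⟨x, rfl⟩⟩ = x from hl x]
      exact (hφT x).symm
    set Q := (restr hRr ψ).range with hQ
    have hQP : Q ≤ P := by
      rintro _ ⟨⟨y, hy⟩, rfl⟩
      obtain ⟨z, hz⟩ := hRr hy
      subst hz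
      exact mem_eq (hl z) z.2
    have hQT : Q ≤ T := by
      rintro _ ⟨⟨y, hy⟩, rfl⟩
      obtain ⟨z, hz⟩ := hRr hy
      subst hz
      exact mem_eq (hl z) ((hφT z).2 (hRT hy))
    obtain ⟨φ₀, hφ₀, hφe⟩ := hφa Q hQP hQT
    obtain ⟨φ₁, hφ₁, hr₁, hl₁, -⟩ := exists_inv E hφ₀ rfl
    obtain ⟨χ, hχ, hχe⟩ := hinv α hα φ₀.range (source_le hφ₁) φ₁ hφ₁
    have himg : img (amb α) φ₀.range = R := by
      ext y
      constructor
      · rintro ⟨⟨_, hwT⟩, ⟨q, rfl⟩, rfl⟩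
        rw [← hφe q hwT]
        obtain ⟨⟨y', hy'⟩, hq⟩ := q.2
        obtain ⟨z, hz⟩ := hRr hy'
        subst hz
        have hq' : (q : Ω) = (z : Ω) := hq.symm.trans (hl z)
        rw [show Subgroup.inclusion hQP q = z from Subtype.ext hq']
        exact hy'
      · intro hy
        obtain ⟨z, hz⟩ := hRr hy
        have hzQ : (z : Ω) ∈ Q := ⟨⟨y, hy⟩, by
          subst hz
          exact hl z⟩
        have h0 := hφe ⟨z, hzQ⟩ (apply_mem hφ₀ _)
        rw [← hz]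
        exact mem_eq h0 (apply_mem_img (amb α) ⟨φ₀ ⟨z, hzQ⟩, apply_mem hφ₀ _⟩ ⟨_, rfl⟩)
    revert χ
    rw [himg]
    intro χ hχ hχe
    refine ⟨χ, hχ, fun x hx => ?_⟩
    obtain ⟨z, hz⟩ := hRr x.2
    have hzQ : (z : Ω) ∈ Q := ⟨x, by
      have : Subgroup.inclusion hRr x = ⟨φ z, ⟨z, rfl⟩⟩ := Subtype.ext hz.symm
      exact (congrArg ψ this).trans (hl z)⟩
    have h0 := hφe ⟨z, hzQ⟩ (apply_mem hφ₀ _)
    have hxe : amb α ⟨φ₀ ⟨z, hzQ⟩, apply_mem hφ₀ _⟩ = (x : Ω) := h0.symm.trans hz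
    have h1 := hχe ⟨φ₀ ⟨z, hzQ⟩, ⟨_, rfl⟩⟩ (apply_mem hφ₀ _) (apply_mem hφ₁ _) (hxe.symm ▸ x.2)
    have h2 : φ₁ ⟨φ₀ ⟨z, hzQ⟩, ⟨_, rfl⟩⟩ = z := hl₁ ⟨z, hzQ⟩ ⟨_, rfl⟩
    simp only [hxe, h2] at h1
    simp only [h1]
    show ψ (Subgroup.inclusion hRr x) = _
    rw [show Subgroup.inclusion hRr x = ⟨φ z, ⟨z, rfl⟩⟩ from Subtype.ext hz.symm,
      show ψ ⟨φ z, ⟨z, rfl⟩⟩ = z from hl z]
    exact (congrArg Subtype.val (α.symm_apply_apply ⟨(z : Ω), hQT hzQ⟩)).symm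

/-- Let F be a saturated fusion system over a finite p-group S and T a subgroup of S containing the hyperfocal subgroup of F and normal in S. Then every saturated subsystem of F over T of p-power index is a normal subsystem of F. -/
theorem result {Ω : Type*} [Group Ω] {S : Subgroup Ω} [Finite S] (p : ℕ) [Fact p.Prime] (hS : IsPGroup p S) (F : Cfsg.FusionSystem S) (hF : F.IsSaturated p) (T : Subgroup Ω) (hTS : T ≤ S) (hTn : (T.subgroupOf S).Normal) (hT : F.hyperfocalSubgroup p ≤ T) (E : Cfsg.FusionSystem T) (hEs : E.IsSaturated p) (hEi : E.HasPPowerIndexIn F p) : E.IsNormalIn F p := by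
  classical
  have hn : S ≤ Subgroup.normalizer (T : Set Ω) := (Subgroup.normal_subgroupOf_iff_le_normalizer hTS).1 hTn
  haveI := finite_of_le hTS
  have hTp := hS.to_le hTS
  have hsubE : ∀ P, E.autGroup P ≤ F.autGroup P := autGroup_le_of_isSubsystemOf hEi.1
  have hcopE : ∀ P ≤ T, ∀ β ∈ F.autGroup P, (orderOf β).Coprime p → β ∈ E.autGroup P :=
    fun P hP β hβ hc => hEi.2.2 P hP (mem_map_pResidual_of_coprime _ hβ hc)
  -- invariance
  have hinv : ∀ α ∈ F.autGroup T, ∀ (P : Subgroup Ω), P ≤ T → ∀ (φ : P →* Ω), φ ∈ E.Hom P →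
      Transported E α P φ := by
    intro α hα
    suffices h : E.IsSubsystemOf (transportSystem E α) from fun P _ φ hφ => (h P hφ).2.2.2
    refine isSubsystemOf_of_coprime hTp hEs le_rfl fun P hP β hβ hc => ?_
    refine mem_autGroup_of_hom _ ⟨hP, fun x => hP (β x).2,
      P.subtype_injective.comp β.injective, ?_⟩
    -- the transported automorphism
    let θ : P →* Ω := (amb α).comp (Subgroup.inclusion hP)
    have hαh : amb α ∈ F.Hom T := autHom_mem F hTS hα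
    have hθ : θ ∈ F.Hom P := restr_mem F hαh hP
    have hθr : θ.range = img (amb α) P := range_restr hP (amb α)
    set e := isoOf θ (F.injective_of_mem hθ) hθr with he
    set β' : MulAut (img (amb α) P) := MulAut.congr e β with hβ'
    have hβ'F : β' ∈ F.autGroup (img (amb α) P) := exists_mulAut_congr F hθ hθr (hsubE P hβ)
    have hβ'E : β' ∈ E.autGroup (img (amb α) P) := hcopE _ (amb_img_le α P) β' hβ'F (by
      rw [hβ', MulEquiv.orderOf_eq]; exact hc)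
    refine ⟨autHom β', autHom_mem E (amb_img_le α P) hβ'E, fun x hx hφ h => ?_⟩
    have hex : (⟨amb α ⟨x, hx⟩, h⟩ : img (amb α) P) = e x := Subtype.ext rfl
    rw [hex, autHom_apply, hβ']
    show ((e (β (e.symm (e x))) : img (amb α) P) : Ω) = _
    rw [e.symm_apply_apply, he, isoOf_coe]
    rfl
  have hA : ∀ g (hg : g ∈ S), ∃ hn' : g ∈ Subgroup.normalizer (T : Set Ω),
      conjAut hn' ∈ F.autGroup T := fun g hg => ⟨hn hg, conjAut_mem_autGroup F hTS hg _⟩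
  let G := splitSystem F E hA hinv
  have hGmem : ∀ {P : Subgroup Ω} {φ : P →* Ω}, φ ∈ G.Hom P ↔ φ ∈ F.Hom P ∧ Split F E P φ :=
    Iff.rfl
  have hFG : F ≤ G := by
    refine alperin hS hF G fun P hP => ?_
    have hPn : F.IsFullyNormalized P := by
      rcases hP with rfl | hP
      · exact isFullyNormalized_top F
      · exact hP.2.1
    have hPS := hPn.1
    refine autGroup_le_of_generators hS hF hPn _ (autInducedBy_le_autGroup G hPS) ?_
    intro β hβ hc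
    refine mem_autGroup_of_hom G (hGmem.2 ⟨autHom_mem F hPS hβ, ?_⟩)
    have hd : ∀ x : P, (x : Ω)⁻¹ * ((β x : P) : Ω) ∈ T := fun x => hT (hyperfocal_mem hPS
      (α := ⟨β, hβ⟩) (Cfsg.Agent.Lib.Cores.mem_pResidual_of_coprime (by rwa [Subgroup.orderOf_mk])) x)
    refine ⟨fun x => ?_, 1, one_mem _, fun Q hQP hQT => ?_⟩
    · show (x : Ω) ∈ T ↔ ((β x : P) : Ω) ∈ T
      constructor
      · intro hx
        have := T.mul_mem hx (hd x)
        rwa [mul_inv_cancel_left] at this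
      · intro hx
        have := T.mul_mem hx (T.inv_mem (hd x))
        rwa [mul_inv_rev, inv_inv, mul_inv_cancel_left] at this
    -- `β` on `P ⊓ T`
    have := finite_of_le hPS
    set M : Subgroup Ω := P ⊓ T with hM
    have := finite_of_le (inf_le_right.trans hTS : M ≤ S)
    let θ := restr (inf_le_left : M ≤ P) (autHom β)
    have hθ : θ ∈ F.Hom M := restr_mem F (autHom_mem F hPS hβ) _
    have hθm : ∀ w : M, θ w ∈ M := fun w => ⟨(β _).2, by
      have := T.mul_mem w.2.2 (hd ⟨w, w.2.1⟩)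
      rwa [mul_inv_cancel_left] at this⟩
    have hr : θ.range = M := Subgroup.eq_of_le_of_card_ge (by rintro _ ⟨w, rfl⟩; exact hθm w)
      (card_range_eq (F.injective_of_mem hθ)).ge
    set γ := isoOf θ (F.injective_of_mem hθ) hr with hγ
    have hγn : ∀ (n : ℕ) (w : M), (((γ ^ n) w : M) : Ω) = (((β ^ n) ⟨w, w.2.1⟩ : P) : Ω) := by
      intro n
      induction n with
      | zero => intro w; rfl
      | succ n ih =>
        intro w
        rw [pow_succ', pow_succ', MulAut.mul_apply, MulAut.mul_apply, hγ, isoOf_coe]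
        show ((β ⟨((γ ^ n) w : M), _⟩ : P) : Ω) = _
        congr 2
        exact Subtype.ext (ih w)
    have hγ1 : γ ^ orderOf β = 1 := MulEquiv.ext fun w => Subtype.ext (by
      rw [hγn, pow_orderOf_eq_one]; rfl)
    have hγE : γ ∈ E.autGroup M := hcopE M inf_le_right γ (mem_autGroup_of_hom F (α := γ) hθ)
      (Nat.Coprime.coprime_dvd_left (orderOf_dvd_of_pow_eq_one hγ1) hc)
    refine ⟨restr (le_inf hQP hQT) (autHom γ), restr_mem E (autHom_mem E inf_le_right hγE) _,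
      fun x h => ?_⟩
    show ((β _ : P) : Ω) = ((γ _ : M) : Ω)
    rw [hγ, isoOf_coe]
    rfl
  have hsc : F.StronglyClosed T := ⟨hTS, fun R hR φ hφ x => ((hGmem.1 (hFG R hφ)).2.1 x).1 (hR x.2)⟩
  refine ⟨⟨hEs, hF, hEi.1, hsc, fun P hPT φ hφ α hα => ?_, fun P hPT φ hφ => ?_⟩, ?_⟩
  · obtain ⟨χ, hχ, he⟩ := hinv α hα P hPT φ hφ
    exact ⟨χ, hχ, fun x hφx hαx => he x (hPT x.2) hφx hαx⟩
  · obtain ⟨-, α, hα, h⟩ := (hGmem.1 (hFG P hφ)).2
    obtain ⟨φ₀, hφ₀, he⟩ := h P le_rfl hPT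
    exact ⟨α, hα, φ₀, hφ₀, fun x hx => he x hx⟩
  -- extension to `T C_S(T)`
  set C := centralizerIn S T with hC
  set X := T ⊔ C with hX
  have hXS : X ≤ S := sup_le hTS (centralizerIn_le S T)
  haveI := finite_of_le hXS
  have hfinA := finite_mulAut hTS
  have hfinX := finite_mulAut hXS
  -- the automorphisms of `T` that extend as required
  let Good : MulAut T → MulAut X → Prop := fun α β => β ∈ F.autGroup X ∧
    (∀ x : T, ((β (Subgroup.inclusion le_sup_left x) : X) : Ω) = ((α x : T) : Ω)) ∧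
    ∀ c : X, (c : Ω) ∈ C → (c : Ω)⁻¹ * ((β c : X) : Ω) ∈ T ⊓ Subgroup.centralizer (T : Set Ω)
  have hmul : ∀ a b, (∃ β, Good a β) → (∃ β, Good b β) → ∃ β, Good (a * b) β := by
    rintro a b ⟨u, hu, hua, huc⟩ ⟨v, hv, hvb, hvc⟩
    refine ⟨u * v, mul_mem hu hv, fun x => ?_, fun c hc => ?_⟩
    · show ((u (v (Subgroup.inclusion le_sup_left x)) : X) : Ω) = ((a (b x) : T) : Ω)
      rw [show v (Subgroup.inclusion le_sup_left x) = Subgroup.inclusion le_sup_left (b x) from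
        Subtype.ext (hvb x), hua]
    · obtain ⟨hzT, hzc⟩ := hvc c hc
      set z : Ω := (c : Ω)⁻¹ * ((v c : X) : Ω) with hz
      have hvC : ((v c : X) : Ω) ∈ C := by
        have : ((v c : X) : Ω) = (c : Ω) * z := by rw [hz, mul_inv_cancel_left]
        rw [this]
        exact C.mul_mem hc ⟨hTS hzT, hzc⟩
      have h1 := huc (v c) hvC
      show (c : Ω)⁻¹ * ((u (v c) : X) : Ω) ∈ _
      have e : (c : Ω)⁻¹ * ((u (v c) : X) : Ω) = z * (((v c : X) : Ω)⁻¹ * ((u (v c) : X) : Ω)) := by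
        rw [hz]; group
      rw [e]
      exact Subgroup.mul_mem _ ⟨hzT, hzc⟩ h1
  have hone : ∃ β, Good 1 β := ⟨1, one_mem _, fun x => rfl, fun c _ => by
    show (c : Ω)⁻¹ * (c : Ω) ∈ _
    rw [inv_mul_cancel]; exact one_mem _⟩
  let K : Subgroup (MulAut T) :=
    { carrier := {α | ∃ β, Good α β}
      one_mem' := hone
      mul_mem' := fun {a b} ha hb => hmul a b ha hb
      inv_mem' := fun {a} ha => by
        have hpow : ∀ n : ℕ, ∃ β, Good (a ^ n) β := fun n => by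
          induction n with
          | zero => rw [pow_zero]; exact hone
          | succ n ih => rw [pow_succ]; exact hmul _ _ ih ha
        have e : a⁻¹ = a ^ (orderOf a - 1) := by
          refine inv_eq_of_mul_eq_one_right ?_
          rw [← pow_succ', Nat.sub_add_cancel (orderOf_pos a), pow_orderOf_eq_one]
        show ∃ β, Good a⁻¹ β
        rw [e]
        exact hpow _ }
  suffices h : E.autGroup T ≤ K by
    intro α hα
    obtain ⟨β, hβ, h1, h2⟩ := h hα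
    exact ⟨β, hβ, h1, fun c hc => h2 c hc⟩
  refine autGroup_le_of_generators hTp hEs (isFullyNormalized_top E) K ?_ ?_
  · rintro γ hγ
    obtain ⟨t, htN, htT, rfl⟩ := mem_autInducedBy_iff_conjAut.1 hγ
    have htX : t ∈ Subgroup.normalizer (X : Set Ω) :=
      Subgroup.le_normalizer (Subgroup.mem_sup_left htT)
    refine ⟨conjAut htX, conjAut_mem_autGroup F hXS (hTS htT) htX, fun x => rfl, fun c hc => ?_⟩
    show (c : Ω)⁻¹ * (t * (c : Ω) * t⁻¹) ∈ _
    rw [(Subgroup.mem_centralizer_iff.1 hc.2 t htT), mul_inv_cancel_right, inv_mul_cancel]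
    exact one_mem _
  intro α hα hc
  have hαF := hsubE T hα
  have hTn' : F.IsFullyNormalized T := isFullyNormalized_of_le_normalizer' F hTS hn
  obtain ⟨-, hrec⟩ := IsSaturated.automized_receptive hS hF hTn'
  have hαh := autHom_mem F hTS hαF
  obtain ⟨ψ, hψ, hext, -⟩ := IsReceptive.extend hrec hαh (range_autHom α)
  have hXN : X ≤ extender S T (autHom α) :=
    sup_le (le_extender hTS (apply_mem hαh)) (centralizerIn_le_extender _)
  let ψX := restr hXN ψ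
  have hψX : ψX ∈ F.Hom X := restr_mem F hψ _
  have hψr : ψX.range = X := by
    refine Subgroup.eq_of_le_of_card_ge ?_ (card_range_eq (F.injective_of_mem hψX)).ge
    rw [MonoidHom.range_eq_map]
    refine Subgroup.map_le_iff_le_comap.2 ?_
    have hT' : T.subgroupOf X ≤ X.comap ψX := fun x hx => by
      show ψ _ ∈ X
      exact mem_eq (hext (x : Ω) hx (hXN x.2)) (Subgroup.mem_sup_left (α _).2)
    have hC' : C.subgroupOf X ≤ X.comap ψX := fun x hx => by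
      show ψ _ ∈ X
      exact Subgroup.mem_sup_right (apply_mem_centralizerIn (range_autHom α) hψ hext
        (le_extender hTS (apply_mem hαh)) (hXN x.2) hx)
    have hsup : (T.subgroupOf X) ⊔ (C.subgroupOf X) = ⊤ := by
      rw [← Subgroup.subgroupOf_sup le_sup_left le_sup_right, Subgroup.subgroupOf_eq_top]
    rw [← hsup]
    exact sup_le hT' hC'
  set b := isoOf ψX (F.injective_of_mem hψX) hψr with hb
  have hbF : b ∈ F.autGroup X := mem_autGroup_of_hom F (α := b) hψX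
  have hbres : ∀ (n : ℕ) (x : T), (((b ^ n) (Subgroup.inclusion le_sup_left x) : X) : Ω) =
      (((α ^ n) x : T) : Ω) := by
    intro n
    induction n with
    | zero => intro x; rfl
    | succ n ih =>
      intro x
      rw [pow_succ', pow_succ', MulAut.mul_apply, MulAut.mul_apply,
        show (b ^ n) (Subgroup.inclusion le_sup_left x) = Subgroup.inclusion le_sup_left ((α ^ n) x)
          from Subtype.ext (ih x), hb, isoOf_coe]
      exact hext _ ((α ^ n) x).2 _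
  have hp : p.Prime := Fact.out
  obtain ⟨a, m, hm, hbm⟩ := Nat.exists_eq_pow_mul_and_not_dvd (orderOf_pos b).ne' p hp.ne_one
  have hco : Nat.Coprime (orderOf α) (p ^ a) := Nat.Coprime.pow_right a hc
  obtain ⟨N, hN1, hN0⟩ := Nat.chineseRemainder hco 1 0
  set β := b ^ N with hβ
  have hβF : β ∈ F.autGroup X := pow_mem hbF N
  have hαN : α ^ N = α := by
    rw [← pow_one α, ← pow_mul, one_mul]
    exact pow_eq_pow_iff_modEq.2 hN1
  have hβT : ∀ x : T, ((β (Subgroup.inclusion le_sup_left x) : X) : Ω) = ((α x : T) : Ω) :=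
    fun x => by rw [hβ, hbres, hαN]
  have hβm : β ^ m = 1 := by
    rw [hβ, ← pow_mul]
    refine orderOf_dvd_iff_pow_eq_one.1 ?_
    rw [hbm]
    exact mul_dvd_mul_right (Nat.modEq_zero_iff_dvd.1 hN0) m
  have hβc : (orderOf β).Coprime p := Nat.Coprime.coprime_dvd_left (orderOf_dvd_of_pow_eq_one hβm)
    ((Nat.Prime.coprime_iff_not_dvd hp).2 hm).symm
  refine ⟨β, hβF, hβT, fun c hcC => ?_⟩
  have hzT : (c : Ω)⁻¹ * ((β c : X) : Ω) ∈ T := hT (hyperfocal_mem hXS (α := ⟨β, hβF⟩)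
    (Cfsg.Agent.Lib.Cores.mem_pResidual_of_coprime (by rwa [Subgroup.orderOf_mk])) c)
  refine ⟨hzT, ?_⟩
  refine Subgroup.mul_mem _ (Subgroup.inv_mem _ hcC.2) (Subgroup.mem_centralizer_iff.2 fun t ht => ?_)
  have hβx : β (Subgroup.inclusion le_sup_left (α.symm ⟨t, ht⟩)) =
      (⟨t, Subgroup.mem_sup_left ht⟩ : X) := Subtype.ext (by rw [hβT, MulEquiv.apply_symm_apply])
  have h1 : Subgroup.inclusion le_sup_left (α.symm ⟨t, ht⟩) * c =
      c * Subgroup.inclusion le_sup_left (α.symm ⟨t, ht⟩) :=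
    Subtype.ext (Subgroup.mem_centralizer_iff.1 hcC.2 _ (α.symm ⟨t, ht⟩).2)
  have h2 := congrArg β h1
  rw [map_mul, map_mul, hβx] at h2
  exact congrArg Subtype.val h2

end Cfsg.Agent.S5120
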