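import Cfsg.Statements.S5140
import Cfsg.Agent.Lib.Fusion.PrimeIndex.Saturated

set_option autoImplicit false
open Cfsg Cfsg.FusionSystem Cfsg.Agent.Lib.Fusion Cfsg.Agent.Lib.Fusion.PrimeIndex

namespace Cfsg.Agent.S5140

/-- Let F be a saturated fusion system over a finite p-group S. Then F has a p'-residual subsystem: a saturated subsystem over S of index prime to p contained in every saturated subsystem over S of index prime to p. -/
theorem result {Ω : Type*} [Group Ω] {S : Subgroup Ω} [Finite S] (p : ℕ) [Fact p.Prime] (hS : IsPGroup p S) (F : Cfsg.FusionSystem S) (hF : F.IsSaturated p) : ∃ E : Cfsg.FusionSystem S, F.IsPPrimeResidual p E := by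
  refine ⟨subSystem hS F (baseAut F p), isSaturated_subSystem hS hF le_rfl,
    hasPrimeToPIndexIn_of_gen_le hS hF (fun P φ hφ => hφ.1) (gen_le_subSystem hS _),
    fun D hD hDF P φ hφ => ?_⟩
  exact subSystem_le_of hS le_rfl (baseAut_le_of_index hS hF hD hDF)
    (gen_le_of (genProp_of_closure_le fun R hR => hDF.2 R hR.1)) P hφ

end Cfsg.Agent.S5140
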