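import Cfsg.Statements.S5141
import Cfsg.Agent.Lib.Fusion.PrimeIndex.WeaklyNormal

set_option autoImplicit false
open Cfsg Cfsg.FusionSystem Cfsg.Agent.Lib.Fusion Cfsg.Agent.Lib.Fusion.PrimeIndex

namespace Cfsg.Agent.S5141

/-- Let F be a saturated fusion system over a finite p-group S and E a weakly normal subsystem of F over T. Then the p'-residual subsystem of E (the least saturated subsystem of E over T of index prime to p) is normal in F. -/
theorem result {Ω : Type*} [Group Ω] {S : Subgroup Ω} [Finite S] (p : ℕ) [Fact p.Prime] (hS : IsPGroup p S) (F : Cfsg.FusionSystem S) (hF : F.IsSaturated p) {T : Subgroup Ω} (E : Cfsg.FusionSystem T) (hE : E.IsWeaklyNormalIn F p) (D : Cfsg.FusionSystem T) (hD : E.IsPPrimeResidual p D) : D.IsNormalIn F p := by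
  have d : WNData p F E := ⟨hS, hF, hE.1, hE.2.2⟩
  have : Finite ↥T := d.finite
  have hTp := d.pgroupT
  obtain ⟨hDs, hDi, hDl⟩ := hD
  have h1 : D = subSystem hTp E (baseAut E p) := by
    refine le_antisymm_hom (fun P φ hφ => hDl _ (isSaturated_subSystem hTp hE.1 le_rfl)
      (hasPrimeToPIndexIn_of_gen_le hTp hE.1 (fun P φ hφ => hφ.1) (gen_le_subSystem hTp _)) P hφ) ?_
    exact subSystem_le_of hTp le_rfl (baseAut_le_of_index hTp hE.1 hDs hDi)
      (gen_le_of (genProp_of_closure_le fun R hR => hDi.2 R hR.1))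
  rw [h1]
  exact residual_isNormalIn d

end Cfsg.Agent.S5141
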