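import Cfsg.Statements.S5203
import Cfsg.Agent.Lib.Fusion.PPowerIndex
import Cfsg.Agent.Lib.Fusion.Hyperfocal

set_option autoImplicit false
open Cfsg Cfsg.FusionSystem Cfsg.Agent.Lib.Fusion

namespace Cfsg.Agent.S5203

/-- Let F be a saturated fusion system over a finite p-group S and E a normal subsystem of F over T that has p-power index in F. Then every residual limit of E has the same maps as every residual limit of F (the residual limit is reached by alternately passing to the p-residual and the p'-residual subsystem until nothing changes). -/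
theorem result {Ω : Type*} [Group Ω] {S : Subgroup Ω} [Finite S] (p : ℕ) [Fact p.Prime] (hS : IsPGroup p S) (F : Cfsg.FusionSystem S) (hF : F.IsSaturated p) {T : Subgroup Ω} (E : Cfsg.FusionSystem T) (hE : E.IsNormalIn F p) (hidx : E.HasPPowerIndexIn F p) {U V : Subgroup Ω} (Finf : Cfsg.FusionSystem U) (hFinf : Finf.IsResidualLimitOf F p) (Einf : Cfsg.FusionSystem V) (hEinf : Einf.IsResidualLimitOf E p) : ∀ P : Subgroup Ω, Finf.Hom P = Einf.Hom P := by
  classical
  obtain ⟨⟨hEsat, -, hEsub, hTsc, -⟩, -⟩ := hE
  have hTS := hTsc.1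
  haveI := finite_of_le hTS
  have hTp : IsPGroup p T := hS.to_le hTS
  have hsubE : ∀ P, E.autGroup P ≤ F.autGroup P := autGroup_le_of_isSubsystemOf hEsub
  -- equal hyperfocal subgroups
  have hhyp : E.hyperfocalSubgroup p = F.hyperfocalSubgroup p := by
    refine le_antisymm ((Subgroup.closure_le _).2 ?_) ((Subgroup.closure_le _).2 ?_)
    · rintro _ ⟨P, α, x, hP, hα, rfl⟩
      exact hyperfocal_mem (F := F) (hP.trans hTS)
        (α := Subgroup.inclusion (hsubE P) α)
        (Cfsg.Agent.Lib.Cores.map_pResidual_le _ ⟨α, hα, rfl⟩) x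
    · rintro _ ⟨P, α, x, hP, hα, rfl⟩
      let B : Subgroup (F.autGroup P) :=
        { carrier := {β | ∀ z : P, (z : Ω)⁻¹ * (((β : MulAut P) z : P) : Ω) ∈ E.hyperfocalSubgroup p}
          one_mem' := fun z => by simp
          mul_mem' := fun {a b} ha hb z => by
            have h := mul_mem (hb z) (ha ((b : MulAut P) z))
            convert h using 1
            simp only [Subgroup.coe_mul, MulAut.mul_apply]
            group
          inv_mem' := fun {a} ha z => by
            have h := inv_mem (ha (((a⁻¹ : F.autGroup P) : MulAut P) z))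
            have e : ((a : MulAut P) (((a⁻¹ : F.autGroup P) : MulAut P) z)) = z :=
              (a : MulAut P).apply_symm_apply z
            rw [e, mul_inv_rev, inv_inv] at h
            exact h }
      suffices hB : pResidual p (F.autGroup P) ≤ B from hB hα x
      unfold Cfsg.pResidual
      refine (Subgroup.closure_le B).2 fun β hβ => ?_
      replace hβ : (orderOf β).Coprime p := hβ
      intro z
      have := finite_of_le hP
      set M : Subgroup Ω := P ⊓ T with hM
      have := finite_of_le (inf_le_right.trans hTS : M ≤ S)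
      let θ := restr (inf_le_left : M ≤ P) (autHom (β : MulAut P))
      have hθ : θ ∈ F.Hom M := restr_mem F (autHom_mem F hP β.2) _
      have hr : θ.range = M := by
        refine Subgroup.eq_of_le_of_card_ge ?_ (card_range_eq (F.injective_of_mem hθ)).ge
        rintro _ ⟨w, rfl⟩
        exact ⟨((β : MulAut P) ⟨w, w.2.1⟩).2, hTsc.2 M inf_le_right θ hθ w⟩
      set γ := isoOf θ (F.injective_of_mem hθ) hr with hγ
      have hγn : ∀ (n : ℕ) (w : M), (((γ ^ n) w : M) : Ω) =
          ((((β : MulAut P) ^ n) ⟨w, w.2.1⟩ : P) : Ω) := by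
        intro n
        induction n with
        | zero => intro w; rfl
        | succ n ih =>
          intro w
          rw [pow_succ', pow_succ', MulAut.mul_apply, MulAut.mul_apply, hγ, isoOf_coe]
          show (((β : MulAut P) ⟨((γ ^ n) w : M), _⟩ : P) : Ω) = _
          congr 2
          exact Subtype.ext (ih w)
      have hγ1 : γ ^ orderOf β = 1 := MulEquiv.ext fun w => Subtype.ext (by
        rw [hγn, ← SubmonoidClass.coe_pow, pow_orderOf_eq_one]; rfl)
      have hγc : (orderOf γ).Coprime p := Nat.Coprime.coprime_dvd_left (orderOf_dvd_of_pow_eq_one hγ1) hβ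
      have hγE : γ ∈ E.autGroup M := hidx.2.2 M inf_le_right
        (mem_map_pResidual_of_coprime _ (mem_autGroup_of_hom F (α := γ) hθ) hγc)
      have hgen : ∀ w : M, (w : Ω)⁻¹ * ((γ w : M) : Ω) ∈ E.hyperfocalSubgroup p := fun w =>
        hyperfocal_mem (F := E) inf_le_right (α := ⟨γ, hγE⟩)
          (Cfsg.Agent.Lib.Cores.mem_pResidual_of_coprime (by rwa [Subgroup.orderOf_mk])) w
      set K := E.hyperfocalSubgroup p with hK
      set d : Ω := (z : Ω)⁻¹ * (((β : MulAut P) z : P) : Ω) with hd
      have hdP : d ∈ P := P.mul_mem (P.inv_mem z.2) (SetLike.coe_mem _)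
      have hdT : d ∈ T := hidx.2.1 (hyperfocal_mem hP
        (Cfsg.Agent.Lib.Cores.mem_pResidual_of_coprime hβ) z)
      have hconj : ∀ g ∈ T, ∀ k ∈ K, g * k * g⁻¹ ∈ K := fun g hg k hk =>
        conj_mem_hyperfocal E p hg hk
      let C : Subgroup Ω := Subgroup.zpowers d
      -- `β^j z ∈ z d^j K`
      have key : ∀ j : ℕ, ∃ k ∈ K, ((((β : MulAut P) ^ j) z : P) : Ω) = (z : Ω) * d ^ j * k := by
        intro j
        induction j with
        | zero => exact ⟨1, one_mem _, by simp⟩
        | succ j ih =>
          obtain ⟨k, hk, he⟩ := ih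
          have hkP : k ∈ P := by
            have : k = ((z : Ω) * d ^ j)⁻¹ * ((((β : MulAut P) ^ j) z : P) : Ω) := by rw [he]; group
            rw [this]
            exact P.mul_mem (P.inv_mem (P.mul_mem z.2 (P.pow_mem hdP j))) (SetLike.coe_mem _)
          have hkT : k ∈ T := hyperfocal_le E p hk
          have hfix : ∀ (v : Ω) (hv : v ∈ P) (hv' : v ∈ T), ∃ k' ∈ K,
              (((β : MulAut P) ⟨v, hv⟩ : P) : Ω) = v * k' := fun v hv hv' =>
            ⟨_, hgen ⟨v, hv, hv'⟩, by
              rw [mul_inv_cancel_left, hγ, isoOf_coe]; rfl⟩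
          obtain ⟨k₁, hk₁, he₁⟩ := hfix (d ^ j) (P.pow_mem hdP j) (T.pow_mem hdT j)
          obtain ⟨k₂, hk₂, he₂⟩ := hfix k hkP hkT
          refine ⟨k₁ * (k * k₂), mul_mem hk₁ (mul_mem hk hk₂), ?_⟩
          have e : ((β : MulAut P) ^ j) z = z * ⟨d ^ j, P.pow_mem hdP j⟩ * ⟨k, hkP⟩ :=
            Subtype.ext he
          rw [pow_succ', MulAut.mul_apply, e, map_mul, map_mul, Subgroup.coe_mul, Subgroup.coe_mul,
            he₁, he₂, show (((β : MulAut P) z : P) : Ω) = (z : Ω) * d by rw [hd, mul_inv_cancel_left],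
            pow_succ']
          simp only [mul_assoc]
      obtain ⟨k, hk, he⟩ := key (orderOf β)
      have hdm : d ^ orderOf β ∈ K := by
        rw [← SubmonoidClass.coe_pow, pow_orderOf_eq_one] at he
        simp only [OneMemClass.coe_one, MulAut.one_apply] at he
        rw [mul_assoc, left_eq_mul] at he
        rw [eq_inv_of_mul_eq_one_left he]
        exact inv_mem hk
      obtain ⟨i, hi⟩ := hTp ⟨d, hdT⟩
      have hi' : d ^ p ^ i = 1 := congrArg Subtype.val hi
      have hg : Nat.gcd (orderOf β) (p ^ i) = 1 := Nat.Coprime.pow_right i hβ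
      have e : d ^ ((Nat.gcd (orderOf β) (p ^ i) : ℕ) : ℤ) =
          (d ^ orderOf β) ^ Nat.gcdA (orderOf β) (p ^ i) * (d ^ p ^ i) ^ Nat.gcdB (orderOf β) (p ^ i) := by
        rw [Nat.gcd_eq_gcd_ab, zpow_add, zpow_mul, zpow_mul, zpow_natCast, zpow_natCast]
      rw [hg, Nat.cast_one, zpow_one, hi', one_zpow, mul_one] at e
      show d ∈ K
      rw [e]
      exact zpow_mem hdm _
  -- comparison of the residual systems
  have hle := hyperfocalSubgroup_le (p := p) F
  haveI : Finite (F.hyperfocalSubgroup p) := finite_of_le hle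
  have hcmp : ∀ (D : FusionSystem (F.hyperfocalSubgroup p)), F.IsPResidual p D →
      ∀ (DE : FusionSystem (E.hyperfocalSubgroup p)), E.IsPResidual p DE →
        ∀ P, D.Hom P = DE.Hom P := by
    intro D hD DE hDE
    haveI : Finite (E.hyperfocalSubgroup p) := finite_of_le (hhyp.le.trans hle)
    refine hom_eq_of_coprime (hS.to_le hle) hhyp.symm hD.1 hDE.1 ?_ ?_
    · intro P hP α hα hc
      have hαE : α ∈ E.autGroup P := hidx.2.2 P (hP.trans (hidx.2.1))
        (mem_map_pResidual_of_coprime _ (autGroup_le_of_isSubsystemOf hD.2.1 P hα) hc)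
      exact hDE.2.2.2 P (hP.trans hhyp.ge) (mem_map_pResidual_of_coprime _ hαE hc)
    · intro P hP α hα hc
      exact hD.2.2.2 P hP (mem_map_pResidual_of_coprime _
        (hsubE P (autGroup_le_of_isSubsystemOf hDE.2.1 P hα)) hc)
  cases hFinf with
  | stable _ _ hh hres =>
    obtain rfl : T = S := le_antisymm hTS (hh ▸ hidx.2.1)
    have hEF : E = F := ext_hom (hom_eq_of_coprime hS rfl hEsat hF (fun P _ α hα _ => hsubE P hα)
      fun P hP α hα hc => hidx.2.2 P hP (mem_map_pResidual_of_coprime _ hα hc))
    subst hEF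
    exact residualLimit_unique (IsResidualLimitOf.stable E p hh hres) hS hEinf
  | step _ _ D D' hD hD' hlim =>
    cases hEinf with
    | stable _ _ hh hres =>
      obtain rfl : F.hyperfocalSubgroup p = T := hhyp.symm.trans hh
      have hDE : D = E := by
        refine ext_hom (hom_eq_of_coprime (hS.to_le hle) rfl hD.1 hEsat ?_ ?_)
        · exact fun P hP α hα hc => hidx.2.2 P hP
            (mem_map_pResidual_of_coprime _ (autGroup_le_of_isSubsystemOf hD.2.1 P hα) hc)
        · exact fun P hP α hα hc => hD.2.2.2 P hP (mem_map_pResidual_of_coprime _ (hsubE P hα) hc)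
      subst hDE
      obtain rfl := isPPrimeResidual_unique hD' hres
      exact residualLimit_stable hlim (hS.to_le hle) hres hh
    | step _ _ DE DE' hDE hDE' hlimE =>
      have hc := hcmp D hD DE hDE
      clear hcmp hD hDE
      revert DE DE'
      rw [hhyp]
      intro DE DE' hDE' hlimE hc
      obtain rfl : D = DE := ext_hom hc
      obtain rfl := isPPrimeResidual_unique hD' hDE'
      exact residualLimit_unique hlim (hS.to_le hle) hlimE

end Cfsg.Agent.S5203
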