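import Cfsg.Statements.S1190
import Cfsg.Agent.Lib.Involutions.QuasiDihedral
import Cfsg.Agent.Lib.Involutions.Fusion
import Cfsg.Agent.Lib.Involutions.BaerSuzuki
-- Template for statement S1190 (row 1190; see /opt/grader/pristine/manifest.json for weights).
-- Copy to Cfsg/Agent/S1190.lean and replace the sorry. The statement below is byte-identical to the frozen
-- statement Cfsg.CfsgFrozen.S1190 (Cfsg/Statements/S1190.lean; the theorem Cfsg.quasidihedral_four_subgroups);
-- the grader kernel-checks Cfsg.Agent.S1190.result against that frozen type. Keep the theorem IN THIS FILE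
-- (a `result` declared elsewhere and merely imported here is not credited); helpers may live anywhere
-- under Cfsg/Agent/.
-- import your own Cfsg.Agent.* helpers here

set_option autoImplicit false
open Cfsg

namespace Cfsg.Agent.S1190

open Cfsg.Agent.Lib.Involutions

/-- In a quasi-dihedral 2-group S, any two Klein four-subgroups are conjugate, and every Klein four-subgroup T satisfies C_S(T) = T and |N_S(T) : T| = 2. -/
theorem result {S : Type*} [Group S] [Finite S] (hS : Cfsg.IsQuasiDihedral S) : (∀ T₁ T₂ : Subgroup S, IsKleinFour T₁ → IsKleinFour T₂ → ∃ s : S, T₁.map (MulAut.conj s).toMonoidHom = T₂) ∧ (∀ T : Subgroup S, IsKleinFour T → Subgroup.centralizer (T : Set S) = T ∧ T.relIndex (Subgroup.normalizer (T : Set S)) = 2) := by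
  obtain ⟨x, y, n, h⟩ := exists_qdGen hS
  -- every four-subgroup is `⟨z, t⟩`, the centralizer of a non-central involution `t`
  have key : ∀ T : Subgroup S, IsKleinFour T → ∃ i : ℤ, Even i ∧
      T = Subgroup.centralizer ({x ^ i * y} : Set S) ∧ x ^ i * y ∈ T := by
    intro T hT
    have hcomm : ∀ u ∈ T, ∀ v ∈ T, u * v = v * u := fun u hu v hv =>
      congrArg Subtype.val (mul_comm_of_exponent_two IsKleinFour.exponent_two (⟨u, hu⟩ : T) ⟨v, hv⟩)
    have hsq : ∀ u ∈ T, u * u = 1 := fun u hu =>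
      congrArg Subtype.val (IsKleinFour.mul_self (⟨u, hu⟩ : T))
    obtain ⟨i, hi, hiT⟩ : ∃ i : ℤ, Even i ∧ x ^ i * y ∈ T := by
      by_contra hcon
      push Not at hcon
      have hsub : (T : Set S) ⊆ {1, x ^ ((2 : ℤ) ^ (n - 1))} := by
        intro u hu
        obtain ⟨i, rfl | rfl⟩ := h.normal_form u
        · by_cases h1 : x ^ i = 1
          · exact Or.inl h1
          · exact Or.inr (h.orderOf_zpow_two (orderOf_eq_two_of_mul_self (hsq _ hu) h1))
        · exfalso
          rcases Int.even_or_odd i with hi | hi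
          · exact hcon i hi hu
          · exact h.z_ne_one (by rw [← h.sq_y_odd hi]; exact hsq _ hu)
      have h2 := Set.ncard_le_ncard hsub
      rw [← Nat.card_coe_set_eq] at h2
      have h4 : Nat.card T = 4 := IsKleinFour.card_four
      rw [show Nat.card ↥(T : Set S) = Nat.card T from rfl, h4] at h2
      have := (h2.trans (Set.ncard_insert_le _ _))
      simp at this
    refine ⟨i, hi, Subgroup.eq_of_le_of_card_ge
      (fun u hu => Subgroup.mem_centralizer_singleton_iff.2 (hcomm u hu _ hiT)) ?_, hiT⟩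
    rw [show Nat.card T = 4 from IsKleinFour.card_four]
    have hsub : (Subgroup.centralizer ({x ^ i * y} : Set S) : Set S) ⊆
        {1, x ^ ((2 : ℤ) ^ (n - 1)), x ^ i * y, x ^ ((2 : ℤ) ^ (n - 1)) * (x ^ i * y)} := by
      intro u hu
      have hu' : Commute u (x ^ i * y) := Subgroup.mem_centralizer_singleton_iff.1 hu
      obtain ⟨j, rfl | rfl⟩ := h.normal_form u
      · obtain ⟨k, rfl⟩ := (h.commute_zpow_iff i j).1 hu'
        rw [h.zpow_half_mul]
        split_ifs <;> simp
      · have h2 : x ^ j * y = x ^ (j - i) * (x ^ i * y) := by rw [h.mul_xy, sub_add_cancel]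
        have h3 : Commute (x ^ (j - i)) (x ^ i * y) := by
          have := hu'.mul_left (Commute.inv_left (Commute.refl (x ^ i * y)))
          rwa [h2, mul_inv_cancel_right] at this
        obtain ⟨k, hk⟩ := (h.commute_zpow_iff i _).1 h3
        rw [h2, hk, h.zpow_half_mul]
        split_ifs <;> simp
    have h2 := Set.ncard_le_ncard hsub
    rw [← Nat.card_coe_set_eq] at h2
    refine h2.trans ?_
    refine (Set.ncard_insert_le _ _).trans (Nat.succ_le_succ ?_)
    refine (Set.ncard_insert_le _ _).trans (Nat.succ_le_succ ?_)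
    refine (Set.ncard_insert_le _ _).trans (Nat.succ_le_succ ?_)
    simp
  constructor
  · intro T₁ T₂ h1 h2
    obtain ⟨i, hi, rfl, -⟩ := key T₁ h1
    obtain ⟨i', hi', rfl, -⟩ := key T₂ h2
    obtain ⟨j, hj⟩ := h.exists_conj_zpow_y (i := i) (i' := i') (hi'.sub hi)
    refine ⟨x ^ j, ?_⟩
    ext u
    rw [Subgroup.mem_map_equiv, MulAut.conj_symm_apply, Subgroup.mem_centralizer_singleton_iff,
      Subgroup.mem_centralizer_singleton_iff, ← hj]
    constructor
    · intro hu
      calc u * (x ^ j * (x ^ i * y) * (x ^ j)⁻¹)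
          = x ^ j * ((x ^ j)⁻¹ * u * x ^ j * (x ^ i * y)) * (x ^ j)⁻¹ := by group
        _ = x ^ j * (x ^ i * y) * (x ^ j)⁻¹ * u := by rw [hu]; group
    · intro hu
      calc (x ^ j)⁻¹ * u * x ^ j * (x ^ i * y)
          = (x ^ j)⁻¹ * (u * (x ^ j * (x ^ i * y) * (x ^ j)⁻¹)) * x ^ j := by group
        _ = x ^ i * y * ((x ^ j)⁻¹ * u * x ^ j) := by rw [hu]; group
  · intro T hT
    obtain ⟨i, hi, hTe, hiT⟩ := key T hT
    have hcomm : ∀ u ∈ T, ∀ v ∈ T, u * v = v * u := fun u hu v hv =>
      congrArg Subtype.val (mul_comm_of_exponent_two IsKleinFour.exponent_two (⟨u, hu⟩ : T) ⟨v, hv⟩)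
    refine ⟨le_antisymm ?_ (fun u hu => Subgroup.mem_centralizer_iff.2 fun v hv => hcomm v hv u hu), ?_⟩
    · intro u hu
      rw [hTe, Subgroup.mem_centralizer_singleton_iff]
      exact (Subgroup.mem_centralizer_iff.1 hu _ hiT).symm
    have hzT : ∀ k : ℤ, x ^ (2 ^ (n - 1) * k) ∈ T := fun k => by
      rw [hTe, Subgroup.mem_centralizer_singleton_iff]
      exact (h.commute_zpow_iff i _).2 (dvd_mul_right _ _)
    -- a power of `x` in `T`, and one normalizing `T`
    have hmemT : ∀ j : ℤ, x ^ j ∈ T ↔ (2 : ℤ) ^ (n - 1) ∣ j := fun j => by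
      rw [hTe, Subgroup.mem_centralizer_singleton_iff]
      exact h.commute_zpow_iff i j
    have hNT : ∀ j : ℤ, x ^ j ∈ Subgroup.normalizer (T : Set S) ↔ (2 : ℤ) ^ (n - 2) ∣ j := by
      intro j
      constructor
      · intro hj
        have h1 : x ^ j * (x ^ i * y) * (x ^ j)⁻¹ ∈ T :=
          ((Subgroup.mem_set_normalizer_iff.1 hj) _).1 hiT
        rw [h.conj_zpow_y] at h1
        have h2 := mul_mem h1 hiT
        rw [h.mul_yy, hmemT, h.two_pow_eq.2] at h2
        obtain ⟨k, hk⟩ := hi
        rw [show i + j * (2 * (1 - 2 ^ (n - 2))) + qdExp n * i =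
          2 * (2 ^ (n - 2) * i - j * (2 ^ (n - 2) - 1)) by rw [qdExp, h.two_pow_eq.2]; ring,
          mul_dvd_mul_iff_left two_ne_zero, dvd_sub_right (dvd_mul_right _ _)] at h2
        exact h.dvd_mul_c.1 h2
      · rintro ⟨k, rfl⟩
        rw [mem_normalizer_iff_map_conj]
        refine Subgroup.eq_of_le_of_card_ge ?_
          (Subgroup.card_map_of_injective (MulAut.conj _).injective).ge
        rintro _ ⟨u, hu, rfl⟩
        simp only [MulEquiv.coe_toMonoidHom, MulAut.conj_apply]
        obtain ⟨l, rfl | rfl⟩ := h.normal_form u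
        · rw [← zpow_add, ← zpow_neg, ← zpow_add, add_neg_cancel_comm]
          exact hu
        · rw [h.conj_zpow_y, show l + 2 ^ (n - 2) * k * (2 * (1 - 2 ^ (n - 2))) =
            2 ^ (n - 1) * (k * (1 - 2 ^ (n - 2))) + l by rw [h.two_pow_eq.2]; ring, zpow_add,
            mul_assoc]
          exact mul_mem (hzT _) hu
    refine relIndex_eq_two_of_cover ((hNT _).2 dvd_rfl) (fun hb => ?_) ?_ ?_
    · rw [hmemT, h.two_pow_eq.2] at hb
      have := Int.le_of_dvd (by positivity) hb
      have : (0 : ℤ) < 2 ^ (n - 2) := by positivity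
      omega
    · rw [← zpow_add, hmemT, h.two_pow_eq.2]
      exact ⟨1, by ring⟩
    · intro g hg
      obtain ⟨j, hj⟩ : ∃ j : ℤ, g = x ^ j ∨ g = x ^ j * (x ^ i * y) := by
        obtain ⟨l, rfl | rfl⟩ := h.normal_form g
        · exact ⟨l, Or.inl rfl⟩
        · exact ⟨l - i, Or.inr (by rw [h.mul_xy, sub_add_cancel])⟩
      have hle : T ≤ Subgroup.normalizer (T : Set S) := Subgroup.le_normalizer
      rcases hj with rfl | rfl
      · obtain ⟨k, rfl⟩ := (hNT j).1 hg
        rcases Int.even_or_odd k with ⟨m, rfl⟩ | ⟨m, rfl⟩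
        · left; rw [hmemT, h.two_pow_eq.2]; exact ⟨m, by ring⟩
        · right; rw [← zpow_add, hmemT, h.two_pow_eq.2]; exact ⟨m + 1, by ring⟩
      · obtain ⟨k, rfl⟩ := (hNT j).1 ((Subgroup.mul_mem_cancel_right _ (hle hiT)).1 hg)
        rcases Int.even_or_odd k with ⟨m, rfl⟩ | ⟨m, rfl⟩
        · left
          exact mul_mem (by rw [hmemT, h.two_pow_eq.2]; exact ⟨m, by ring⟩) hiT
        · right
          rw [mul_assoc, show x ^ i * y * x ^ ((2 : ℤ) ^ (n - 2)) =
            x ^ (-(2 : ℤ) ^ (n - 2)) * (x ^ i * y) from ?_, ← mul_assoc, ← zpow_add]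
          · exact mul_mem (by rw [hmemT, h.two_pow_eq.2]; exact ⟨m, by ring⟩) hiT
          · have := h.conj_a i
            rw [mul_inv_eq_iff_eq_mul] at this
            rw [this, zpow_neg]

end Cfsg.Agent.S1190
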