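import Cfsg.Statements.S1191
import Cfsg.Agent.Lib.Involutions.QuasiDihedral
import Cfsg.Agent.Lib.Involutions.Fusion
import Cfsg.Agent.Lib.Involutions.BaerSuzuki
-- Template for statement S1191 (row 1191; see /opt/grader/pristine/manifest.json for weights).
-- Copy to Cfsg/Agent/S1191.lean and replace the sorry. The statement below is byte-identical to the frozen
-- statement Cfsg.CfsgFrozen.S1191 (Cfsg/Statements/S1191.lean; the theorem Cfsg.quasidihedral_quaternion_subgroups);
-- the grader kernel-checks Cfsg.Agent.S1191.result against that frozen type. Keep the theorem IN THIS FILE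
-- (a `result` declared elsewhere and merely imported here is not credited); helpers may live anywhere
-- under Cfsg/Agent/.
-- import your own Cfsg.Agent.* helpers here

set_option autoImplicit false
open Cfsg

namespace Cfsg.Agent.S1191

open Cfsg.Agent.Lib.Involutions

/-- In a quasi-dihedral 2-group S, any two subgroups isomorphic to the quaternion group of order 8 are conjugate, and each such subgroup Q satisfies C_S(Q) = Z(Q) and |N_S(Q) : Q| = 2. -/
theorem result {S : Type*} [Group S] [Finite S] (hS : Cfsg.IsQuasiDihedral S) : (∀ Q₁ Q₂ : Subgroup S, Nonempty (Q₁ ≃* QuaternionGroup 2) → Nonempty (Q₂ ≃* QuaternionGroup 2) → ∃ s : S, Q₁.map (MulAut.conj s).toMonoidHom = Q₂) ∧ (∀ Q : Subgroup S, Nonempty (Q ≃* QuaternionGroup 2) → Subgroup.centralizer (Q : Set S) = (Subgroup.center Q).map Q.subtype ∧ Q.relIndex (Subgroup.normalizer (Q : Set S)) = 2) := by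
  obtain ⟨x, y, n, h⟩ := exists_qdGen hS
  have := h.finite
  set a := x ^ ((2 : ℤ) ^ (n - 2)) with ha
  -- every quaternion subgroup is generated by `a` and some `x ^ i * y` with `i` odd
  have key : ∀ Q : Subgroup S, Nonempty (Q ≃* QuaternionGroup 2) → ∃ i : ℤ, Odd i ∧
      Q = Subgroup.closure {a, x ^ i * y} := by
    rintro Q ⟨e⟩
    have hcard : Nat.card Q = 8 := by
      rw [Nat.card_congr e.toEquiv, Nat.card_eq_fintype_card, QuaternionGroup.card]
    -- three elements of order four generating three different cyclic groups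
    have e4 : ∀ u : QuaternionGroup 2, orderOf u = 4 → orderOf ((e.symm u : Q) : S) = 4 :=
      fun u hu => by rw [Subgroup.orderOf_coe, MulEquiv.orderOf_eq, hu]
    have hu1 := e4 (.a 1) (by rw [QuaternionGroup.orderOf_a_one])
    have hu2 := e4 (.xa 0) (QuaternionGroup.orderOf_xa 0)
    have hu3 := e4 (.xa 1) (QuaternionGroup.orderOf_xa 1)
    have hin : ∀ u : QuaternionGroup 2, ((e.symm u : Q) : S) ∈ Q := fun u => (e.symm u).2
    have hne : ∀ u v : QuaternionGroup 2, u ≠ v →
        ((e.symm u : Q) : S) ≠ ((e.symm v : Q) : S) := fun u v huv hh =>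
      huv (e.symm.injective (Subtype.ext hh))
    obtain ⟨i, hi, hiQ⟩ : ∃ i : ℤ, Odd i ∧ x ^ i * y ∈ Q := by
      by_contra hcon
      push Not at hcon
      have hsub : ∀ u ∈ Q, orderOf u = 4 → u = a ∨ u = x ^ (-(2 : ℤ) ^ (n - 2)) := by
        intro u hu ho
        obtain ⟨i, rfl | rfl⟩ := h.normal_form u
        · exact h.orderOf_zpow_four ho
        · exfalso
          rcases Int.even_or_odd i with hi | hi
          · rw [h.orderOf_y_even hi] at ho; norm_num at ho
          · exact hcon i hi hu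
      have n12 := hne (.a 1) (.xa 0) (by decide)
      have n13 := hne (.a 1) (.xa 1) (by decide)
      have n23 := hne (.xa 0) (.xa 1) (by decide)
      rcases hsub _ (hin _) hu1 with h1 | h1 <;> rcases hsub _ (hin _) hu2 with h2 | h2 <;>
        rcases hsub _ (hin _) hu3 with h3 | h3 <;>
        first | exact n12 (h1.trans h2.symm) | exact n13 (h1.trans h3.symm) | exact n23 (h2.trans h3.symm)
    have haQ : a ∈ Q := by
      by_contra hna
      have hna' : x ^ (-(2 : ℤ) ^ (n - 2)) ∉ Q := fun hh => hna (by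
        rw [zpow_neg] at hh; simpa using inv_mem hh)
      have hxz : ∀ j : ℤ, x ^ j ∈ Q → x ^ j = 1 ∨ x ^ j = x ^ ((2 : ℤ) ^ (n - 1)) := by
        intro j hj
        have hdvd : orderOf (x ^ j) ∣ 4 := by
          have h1 : ∀ u : QuaternionGroup 2, u ^ 4 = 1 := by decide
          refine orderOf_dvd_of_pow_eq_one ?_
          have h2 : (⟨x ^ j, hj⟩ : Q) ^ 4 = 1 := e.injective (by rw [map_pow, h1, map_one])
          exact congrArg Subtype.val h2
        rcases (Nat.dvd_prime_pow (m := 2) Nat.prime_two).1 (by simpa using hdvd) with ⟨k, hk, ho⟩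
        interval_cases k
        · exact Or.inl (orderOf_eq_one_iff.1 (by simpa using ho))
        · exact Or.inr (h.orderOf_zpow_two (by simpa using ho))
        · exfalso
          rcases h.orderOf_zpow_four (by simpa using ho) with he | he <;> rw [he] at hj
          · exact hna hj
          · exact hna' hj
      have hz : x ^ ((2 : ℤ) ^ (n - 1)) ∈ Q := by rw [← h.sq_y_odd hi]; exact mul_mem hiQ hiQ
      have hsub : (Q : Set S) ⊆
          {1, x ^ ((2 : ℤ) ^ (n - 1)), x ^ i * y, x ^ ((2 : ℤ) ^ (n - 1)) * (x ^ i * y)} := by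
        intro u hu
        obtain ⟨j, rfl | rfl⟩ := h.normal_form u
        · rcases hxz j hu with hh | hh <;> simp [hh]
        · have h2 : x ^ j * y = x ^ (j - i) * (x ^ i * y) := by rw [h.mul_xy, sub_add_cancel]
          rw [h2] at hu
          rw [h2]
          rcases hxz _ ((Subgroup.mul_mem_cancel_right _ hiQ).1 hu) with hh | hh <;> simp [hh]
      have h2 := Set.ncard_le_ncard hsub
      rw [← Nat.card_coe_set_eq, show Nat.card ↥(Q : Set S) = Nat.card Q from rfl, hcard] at h2
      have h5 : ({1, x ^ ((2 : ℤ) ^ (n - 1)), x ^ i * y,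
          x ^ ((2 : ℤ) ^ (n - 1)) * (x ^ i * y)} : Set S).ncard ≤ 4 := by
        refine (Set.ncard_insert_le _ _).trans (Nat.succ_le_succ ?_)
        refine (Set.ncard_insert_le _ _).trans (Nat.succ_le_succ ?_)
        refine (Set.ncard_insert_le _ _).trans (Nat.succ_le_succ ?_)
        simp
      omega
    refine ⟨i, hi, (Subgroup.eq_of_le_of_card_ge
      ((Subgroup.closure_le _).2 (Set.insert_subset haQ (Set.singleton_subset_iff.2 hiQ))) ?_).symm⟩
    rw [hcard]
    set R := Subgroup.closure {a, x ^ i * y} with hR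
    have haR : a ∈ R := Subgroup.subset_closure (Or.inl rfl)
    have hiR : x ^ i * y ∈ R := Subgroup.subset_closure (Or.inr rfl)
    have hRQ : R ≤ Q :=
      (Subgroup.closure_le _).2 (Set.insert_subset haQ (Set.singleton_subset_iff.2 hiQ))
    have hdvd : Nat.card R ∣ 2 ^ 3 := by
      have := Subgroup.card_dvd_of_le hRQ; rwa [hcard] at this
    obtain ⟨k, hk, hkc⟩ := (Nat.dvd_prime_pow Nat.prime_two).1 hdvd
    by_contra hlt
    have hk2 : k ≤ 2 := by
      by_contra hh
      rw [show k = 3 by omega] at hkc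
      omega
    have hle : Subgroup.zpowers a ≤ R := Subgroup.zpowers_le.2 haR
    have heq : Subgroup.zpowers a = R := Subgroup.eq_of_le_of_card_ge hle (by
      rw [Nat.card_zpowers, h.orderOf_a, hkc]; exact Nat.pow_le_pow_right two_pos hk2)
    obtain ⟨l, hl⟩ := heq.ge hiR
    exact h.zpow_y_ne_zpow i (2 ^ (n - 2) * l) (by rw [zpow_mul]; exact hl.symm)
  constructor
  · intro Q₁ Q₂ h1 h2
    obtain ⟨i, hi, rfl⟩ := key Q₁ h1
    obtain ⟨i', hi', rfl⟩ := key Q₂ h2
    obtain ⟨j, hj⟩ := h.exists_conj_zpow_y (i := i) (i' := i') (hi'.sub_odd hi)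
    refine ⟨x ^ j, ?_⟩
    rw [MonoidHom.map_closure, Set.image_insert_eq, Set.image_singleton]
    simp only [MulEquiv.coe_toMonoidHom, MulAut.conj_apply, hj]
    rw [show x ^ j * a * (x ^ j)⁻¹ = a by
      rw [ha, ← zpow_add, ← zpow_neg, ← zpow_add, add_neg_cancel_comm]]
  · intro Q hQ
    obtain ⟨i, hi, hQe⟩ := key Q hQ
    have haQ : a ∈ Q := hQe ▸ Subgroup.subset_closure (Or.inl rfl)
    have hiQ : x ^ i * y ∈ Q := hQe ▸ Subgroup.subset_closure (Or.inr rfl)
    constructor
    · apply le_antisymm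
      · intro u hu
        rw [Subgroup.mem_centralizer_iff] at hu
        have huQ : u ∈ Q := by
          obtain ⟨j, rfl | rfl⟩ := h.normal_form u
          · have hc : Commute (x ^ j) (x ^ i * y) := (hu _ hiQ).symm
            obtain ⟨k, rfl⟩ := (h.commute_zpow_iff i j).1 hc
            rw [h.two_pow_eq.2, show (2 : ℤ) * 2 ^ (n - 2) * k = 2 ^ (n - 2) * (2 * k) by ring,
              zpow_mul]
            exact zpow_mem haQ _
          · exfalso
            have hc : Commute (x ^ ((2 : ℤ) ^ (n - 2))) (x ^ j * y) := hu _ haQ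
            rw [h.commute_zpow_iff, h.two_pow_eq.2] at hc
            have := Int.le_of_dvd (by positivity) hc
            have : (0 : ℤ) < 2 ^ (n - 2) := by positivity
            omega
        exact ⟨⟨u, huQ⟩, Subgroup.mem_center_iff.2 fun w => Subtype.ext (hu w w.2), rfl⟩
      · rintro _ ⟨u, hu, rfl⟩
        exact Subgroup.mem_centralizer_iff.2 fun v hv =>
          congrArg Subtype.val (Subgroup.mem_center_iff.1 hu ⟨v, hv⟩)
    have hQmem : ∀ j : ℤ, x ^ j ∈ Q ↔ (2 : ℤ) ^ (n - 2) ∣ j := by
      intro j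
      refine ⟨fun hj => ?_, fun ⟨k, hk⟩ => by rw [hk, zpow_mul]; exact zpow_mem haQ _⟩
      obtain ⟨e⟩ := hQ
      have h1 : ∀ u : QuaternionGroup 2, u ^ 4 = 1 := by decide
      have h2 : (⟨x ^ j, hj⟩ : Q) ^ 4 = 1 := e.injective (by rw [map_pow, h1, map_one])
      have h3 : (x ^ j) ^ 4 = 1 := congrArg Subtype.val h2
      rw [← zpow_natCast, ← zpow_mul, h.pow_eq_one_iff, h.two_pow_eq.1, h.two_pow_eq.2,
        ← mul_assoc, show (2 : ℤ) * 2 = ((4 : ℕ) : ℤ) by rfl, mul_comm j,
        mul_dvd_mul_iff_left (by norm_num)] at h3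
      exact h3
    have hnorm : ∀ j : ℤ, x ^ j ∈ Subgroup.normalizer (Q : Set S) ↔ (2 : ℤ) ^ (n - 3) ∣ j := by
      have h23 : (2 : ℤ) ^ (n - 2) = 2 * 2 ^ (n - 3) := by
        rw [← pow_succ']; congr 1; have := h.hn; omega
      intro j
      constructor
      · intro hj
        have h1 : x ^ j * (x ^ i * y) * (x ^ j)⁻¹ ∈ Q :=
          ((Subgroup.mem_set_normalizer_iff.1 hj) _).1 hiQ
        rw [h.conj_zpow_y, show i + j * (2 * (1 - 2 ^ (n - 2))) =
          2 * (-(j * (2 ^ (n - 2) - 1))) + i by ring, zpow_add, mul_assoc] at h1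
        have h2 := (hQmem _).1 ((Subgroup.mul_mem_cancel_right _ hiQ).1 h1)
        rw [h23, mul_dvd_mul_iff_left two_ne_zero, dvd_neg, ← h23, h.dvd_mul_c] at h2
        exact h2
      · rintro ⟨k, rfl⟩
        rw [mem_normalizer_iff_map_conj]
        refine Subgroup.eq_of_le_of_card_ge ?_
          (Subgroup.card_map_of_injective (MulAut.conj _).injective).ge
        conv_lhs => rw [hQe]
        rw [MonoidHom.map_closure, Subgroup.closure_le]
        rintro _ ⟨u, rfl | rfl, rfl⟩ <;>
          simp only [MulEquiv.coe_toMonoidHom, MulAut.conj_apply, SetLike.mem_coe]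
        · rw [ha, ← zpow_add, ← zpow_neg, ← zpow_add, add_neg_cancel_comm]
          exact haQ
        · rw [h.conj_zpow_y, show i + 2 ^ (n - 3) * k * (2 * (1 - 2 ^ (n - 2))) =
            2 * 2 ^ (n - 3) * (k * (1 - 2 ^ (n - 2))) + i by ring, ← h23, zpow_add, mul_assoc]
          exact mul_mem ((hQmem _).2 (dvd_mul_right _ _)) hiQ
    have h23 : (2 : ℤ) ^ (n - 2) = 2 * 2 ^ (n - 3) := by
      rw [← pow_succ']; congr 1; have := h.hn; omega
    refine relIndex_eq_two_of_cover (b := x ^ ((2 : ℤ) ^ (n - 3))) ((hnorm _).2 dvd_rfl) ?_ ?_ ?_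
    · intro hb
      rw [hQmem, h23] at hb
      have := Int.le_of_dvd (by positivity) hb
      have : (0 : ℤ) < 2 ^ (n - 3) := by positivity
      omega
    · rw [← zpow_add, hQmem, h23]
      exact ⟨1, by ring⟩
    · intro g hg
      obtain ⟨j, hj⟩ : ∃ j : ℤ, g = x ^ j ∨ g = x ^ i * y * x ^ j := by
        obtain ⟨l, rfl | rfl⟩ := h.normal_form g
        · exact ⟨l, Or.inl rfl⟩
        · obtain ⟨m, hm | hm⟩ := h.normal_form ((x ^ i * y)⁻¹ * (x ^ l * y))
          · exact ⟨m, Or.inr (by rw [← hm, mul_inv_cancel_left])⟩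
          · exfalso
            rw [inv_mul_eq_iff_eq_mul, h.mul_yy] at hm
            exact h.zpow_y_ne_zpow _ _ hm
      have hcase : ∀ l : ℤ, x ^ l ∈ Subgroup.normalizer (Q : Set S) →
          x ^ l ∈ Q ∨ x ^ l * x ^ ((2 : ℤ) ^ (n - 3)) ∈ Q := fun l hl => by
        obtain ⟨k, rfl⟩ := (hnorm l).1 hl
        rcases Int.even_or_odd k with ⟨m, rfl⟩ | ⟨m, rfl⟩
        · left; rw [hQmem, h23]; exact ⟨m, by ring⟩
        · right; rw [← zpow_add, hQmem, h23]; exact ⟨m + 1, by ring⟩
      rcases hj with rfl | rfl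
      · exact hcase j hg
      · rcases hcase j ((Subgroup.mul_mem_cancel_left _ (Subgroup.le_normalizer hiQ)).1 hg) with hh | hh
        · exact Or.inl (mul_mem hiQ hh)
        · right
          rw [mul_assoc]
          exact mul_mem hiQ hh

end Cfsg.Agent.S1191
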