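import Cfsg.Statements.S1196
import Cfsg.Agent.Lib.Involutions.Wreathed
-- Template for statement S1196 (row 1196; see /opt/grader/pristine/manifest.json for weights).
-- Copy to Cfsg/Agent/S1196.lean and replace the sorry. The statement below is byte-identical to the frozen
-- statement Cfsg.CfsgFrozen.S1196 (Cfsg/Statements/S1196.lean; the theorem Cfsg.wreathed_unique_abelian_maximal_subgroup);
-- the grader kernel-checks Cfsg.Agent.S1196.result against that frozen type. Keep the theorem IN THIS FILE
-- (a `result` declared elsewhere and merely imported here is not credited); helpers may live anywhere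
-- under Cfsg/Agent/.
-- import your own Cfsg.Agent.* helpers here

set_option autoImplicit false
open Cfsg

namespace Cfsg.Agent.S1196

open Cfsg.Agent.Lib.Involutions

/-- A wreathed 2-group S of order 2^(2n+1) has a unique commutative subgroup of order 2^(2n), and this subgroup is isomorphic to the direct product of two cyclic groups of order 2^n. -/
theorem result {S : Type*} [Group S] [Finite S] (hS : Cfsg.IsWreathed S) (n : ℕ) (hn : Nat.card S = 2 ^ (2 * n + 1)) : (∃! U : Subgroup S, IsMulCommutative U ∧ Nat.card U = 2 ^ (2 * n)) ∧ ∀ U : Subgroup S, IsMulCommutative U → Nat.card U = 2 ^ (2 * n) → Nonempty (U ≃* Multiplicative (ZMod (2 ^ n) × ZMod (2 ^ n))) := by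
  obtain ⟨x, y, z, m, h⟩ := exists_wrGen hS
  obtain rfl : m = n := by
    have := Nat.pow_right_injective le_rfl (h.card.symm.trans hn)
    omega
  have := h.finite
  have huniq : ∀ A : Subgroup S, IsMulCommutative A → Nat.card A = 2 ^ (2 * m) → A = h.base := by
    intro A hA hcard
    by_contra hne
    obtain ⟨g, hg, hgb⟩ : ∃ g ∈ A, g ∉ h.base := by
      by_contra hall
      push Not at hall
      exact hne (Subgroup.eq_of_le_of_card_ge hall (by rw [h.card_base, hcard]))
    obtain ⟨i, j, rfl | rfl⟩ := h.normal_form g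
    · exact hgb (h.el_mem_base i j)
    have hsub : A ⊓ h.base ≤ Subgroup.zpowers (el x y 1 1) := by
      intro u hu
      obtain ⟨huA, a, b, rfl⟩ := Subgroup.mem_inf.1 hu
      have hc : Commute (el x y a b) (el x y i j * z) :=
        congrArg Subtype.val (hA.is_comm.comm (⟨_, huA⟩ : A) ⟨_, hg⟩)
      rw [h.commute_el_z_iff] at hc
      rw [show el x y a b = el x y a a from h.el_eq_iff.2
        ⟨by simp, by rw [← dvd_neg, neg_sub]; exact hc⟩]
      exact ⟨a, h.el_diag_zpow a⟩
    have h1 : Nat.card (A ⊓ h.base : Subgroup S) ≤ 2 ^ m := by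
      have := Subgroup.card_le_of_le hsub
      rwa [Nat.card_zpowers, h.orderOf_el_one] at this
    have h2 : (A ⊓ h.base).relIndex A ≤ 2 := by
      have := Subgroup.normal_of_index_eq_two h.index_base
      rw [Subgroup.inf_relIndex_left]
      exact Nat.le_of_dvd two_pos (h.index_base ▸ Subgroup.relIndex_dvd_index_of_normal h.base A)
    have h3 : Nat.card (A ⊓ h.base : Subgroup S) * (A ⊓ h.base).relIndex A = Nat.card A := by
      rw [← Subgroup.relIndex_bot_left, ← Subgroup.relIndex_bot_left,
        Subgroup.relIndex_mul_relIndex _ _ _ bot_le inf_le_left]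
    have h4 := Nat.mul_le_mul h1 h2
    rw [h3, hcard, ← pow_succ] at h4
    have := (Nat.pow_le_pow_iff_right (by norm_num)).1 h4
    have := h.hn
    omega
  refine ⟨⟨h.base, ⟨⟨⟨fun a b => ?_⟩⟩, h.card_base⟩, fun A hA => huniq A hA.1 hA.2⟩, fun U hU hc => ?_⟩
  · obtain ⟨a, i, j, rfl⟩ := a
    obtain ⟨b, k, l, rfl⟩ := b
    exact Subtype.ext (by simp [h.el_mul, add_comm i, add_comm j])
  obtain rfl := huniq U hU hc
  let f : Multiplicative (ZMod (2 ^ m) × ZMod (2 ^ m)) →* h.base :=
    MonoidHom.mk' (fun p => ⟨el x y (p.toAdd.1.cast : ℤ) (p.toAdd.2.cast : ℤ), h.el_mem_base _ _⟩)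
      (fun p q => Subtype.ext (by
        rw [Subgroup.coe_mul, h.el_mul, h.el_eq_iff]
        constructor <;>
          (rw [show ((2 : ℤ) ^ m) = ((2 ^ m : ℕ) : ℤ) by norm_num,
            ← ZMod.intCast_zmod_eq_zero_iff_dvd]
           simp)))
  refine ⟨(MulEquiv.ofBijective f ((Nat.bijective_iff_injective_and_card _).2 ⟨?_, ?_⟩)).symm⟩
  · rw [injective_iff_map_eq_one]
    intro p hp
    have h1 := h.el_eq_one_iff.1 (congrArg Subtype.val hp)
    rw [show ((2 : ℤ) ^ m) = ((2 ^ m : ℕ) : ℤ) by norm_num, ← ZMod.intCast_zmod_eq_zero_iff_dvd,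
      ← ZMod.intCast_zmod_eq_zero_iff_dvd, ZMod.intCast_zmod_cast, ZMod.intCast_zmod_cast] at h1
    exact Multiplicative.toAdd.injective (Prod.ext h1.1 h1.2)
  · rw [h.card_base, Nat.card_congr Multiplicative.toAdd, Nat.card_prod, Nat.card_zmod, ← pow_add,
      two_mul]

end Cfsg.Agent.S1196
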