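import Cfsg.Statements.S1197
import Cfsg.Agent.Lib.Involutions.Wreathed
-- Template for statement S1197 (row 1197; see /opt/grader/pristine/manifest.json for weights).
-- Copy to Cfsg/Agent/S1197.lean and replace the sorry. The statement below is byte-identical to the frozen
-- statement Cfsg.CfsgFrozen.S1197 (Cfsg/Statements/S1197.lean; the theorem Cfsg.wreathed_center_and_derived_subgroup);
-- the grader kernel-checks Cfsg.Agent.S1197.result against that frozen type. Keep the theorem IN THIS FILE
-- (a `result` declared elsewhere and merely imported here is not credited); helpers may live anywhere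
-- under Cfsg/Agent/.
-- import your own Cfsg.Agent.* helpers here

set_option autoImplicit false
open Cfsg

namespace Cfsg.Agent.S1197

open Cfsg.Agent.Lib.Involutions

open scoped commutatorElement

/-- Let S be a wreathed 2-group of order 2^(2n+1). Then Z(S) is cyclic of order 2^n, the derived subgroup S' is cyclic of order 2^n, and S/Z(S) is isomorphic to the dihedral group of order 2^(n+1). -/
theorem result {S : Type*} [Group S] [Finite S] (hS : Cfsg.IsWreathed S) (n : ℕ) (hn : Nat.card S = 2 ^ (2 * n + 1)) : IsCyclic (Subgroup.center S) ∧ Nat.card (Subgroup.center S) = 2 ^ n ∧ IsCyclic (commutator S) ∧ Nat.card (commutator S) = 2 ^ n ∧ Nonempty (S ⧸ Subgroup.center S ≃* DihedralGroup (2 ^ n)) := by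
  obtain ⟨x, y, z, m, h⟩ := exists_wrGen hS
  obtain rfl : m = n := by
    have := Nat.pow_right_injective le_rfl (h.card.symm.trans hn)
    omega
  have := h.finite
  have hcen : Subgroup.center S = Subgroup.zpowers (el x y 1 1) := by
    ext g
    rw [h.center_iff, Subgroup.mem_zpowers_iff]
    exact ⟨fun ⟨k, hk⟩ => ⟨k, by rw [h.el_diag_zpow, hk]⟩,
      fun ⟨k, hk⟩ => ⟨k, by rw [← hk, h.el_diag_zpow]⟩⟩
  have hcom : commutator S = Subgroup.zpowers (el x y 1 (-1)) := by
    apply le_antisymm
    · obtain ⟨ψ, hψ⟩ := h.exists_sumHom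
      have hn' := Subgroup.normal_of_index_eq_two h.index_base
      have hcyc : IsCyclic (S ⧸ h.base) :=
        isCyclic_of_prime_card (p := 2) (hp := ⟨Nat.prime_two⟩)
          (by rw [← Subgroup.index_eq_card]; exact h.index_base)
      intro g hg
      obtain ⟨i, j, rfl⟩ := (Subgroup.Normal.quotient_commutative_iff_commutator_le.1
        (IsCyclic.isMulCommutative (α := S ⧸ h.base))) hg
      have h1 : ψ (el x y i j) = 1 := Abelianization.commutator_subset_ker ψ hg
      rw [(hψ i j).1, ofAdd_eq_one, ZMod.intCast_zmod_eq_zero_iff_dvd] at h1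
      refine ⟨i, (h.el_anti_zpow i).trans (h.el_eq_iff.2 ⟨by simp, ?_⟩)⟩
      rw [show -i - j = -(i + j) by ring, dvd_neg]
      exact_mod_cast h1
    · rw [Subgroup.zpowers_le]
      have h1 : ⁅el x y 1 0, el x y 0 0 * z⁆ = el x y 1 (-1) := by
        rw [commutatorElement_def, h.inv_z, h.el_inv, h.mul_ez, h.mul_ze, h.mul_zz]
        norm_num
      rw [← h1]
      exact Subgroup.commutator_mem_commutator (Subgroup.mem_top _) (Subgroup.mem_top _)
  have hcard : Nat.card (Subgroup.center S) = 2 ^ m := by rw [hcen, Nat.card_zpowers, h.orderOf_el_one]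
  refine ⟨hcen ▸ Subgroup.isCyclic_zpowers _, hcard, hcom ▸ Subgroup.isCyclic_zpowers _,
    by rw [hcom, Nat.card_zpowers, h.orderOf_el_one], ?_⟩
  have hq : Nat.card (S ⧸ Subgroup.center S) = 2 * 2 ^ m := by
    have h2 := (Subgroup.center S).card_mul_index
    rw [hcard, h.card, Subgroup.index_eq_card, show 2 * m + 1 = m + (m + 1) by ring, pow_add,
      pow_succ'] at h2
    exact Nat.eq_of_mul_eq_mul_left (by positivity) h2
  set X : S ⧸ Subgroup.center S := QuotientGroup.mk (el x y 1 0) with hX
  set Y : S ⧸ Subgroup.center S := QuotientGroup.mk (el x y 0 0 * z) with hY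
  have hXk : ∀ k : ℤ, X ^ k = QuotientGroup.mk (el x y k 0) := fun k => by
    rw [hX, ← QuotientGroup.mk_zpow]
    congr 1
    simp [el]
  have hXord : orderOf X = 2 ^ m := by
    refine Nat.dvd_antisymm ?_ ?_
    · refine orderOf_dvd_of_pow_eq_one ?_
      rw [← zpow_natCast, hXk, QuotientGroup.eq_one_iff, h.center_iff]
      exact ⟨0, h.el_eq_iff.2 ⟨by simp, by simp⟩⟩
    · have h1 : X ^ ((orderOf X : ℕ) : ℤ) = 1 := by rw [zpow_natCast, pow_orderOf_eq_one]
      rw [hXk, QuotientGroup.eq_one_iff, h.center_iff] at h1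
      obtain ⟨k, hk⟩ := h1
      have h2 := h.el_eq_iff.1 hk
      have h3 := dvd_sub h2.1 h2.2
      rw [show ((orderOf X : ℤ) - k) - (0 - k) = orderOf X by ring] at h3
      exact_mod_cast h3
  obtain ⟨e⟩ := nonempty_mulEquiv_dihedral (H := (⊤ : Subgroup (S ⧸ Subgroup.center S)))
    (x := X) (y := Y) (by rw [Subgroup.card_top, hq]) trivial trivial hXord
    (by rw [hY, ← QuotientGroup.mk_mul, h.mul_zz, add_zero, h.el_zero, QuotientGroup.mk_one])
    (by
      rintro ⟨k, hk⟩
      change X ^ k = Y at hk
      rw [hXk, hY, QuotientGroup.eq, h.center_iff] at hk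
      obtain ⟨l, hl⟩ := hk
      rw [h.el_inv, h.mul_ez] at hl
      exact h.el_z_ne_el _ _ _ _ hl)
    (by
      rw [hX, hY, ← QuotientGroup.mk_inv, ← QuotientGroup.mk_inv, ← QuotientGroup.mk_mul,
        ← QuotientGroup.mk_mul, h.conj_z_el, h.el_inv, QuotientGroup.eq, h.el_inv, h.el_mul,
        h.center_iff]
      exact ⟨-1, by norm_num⟩)
  exact ⟨Subgroup.topEquiv.symm.trans e⟩

end Cfsg.Agent.S1197
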