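import Cfsg.Statements.S1217
import Mathlib
import Cfsg.Agent.Lib.Involutions.SylowShapes
import Cfsg.Agent.Lib.Embed.QuadExt
import Cfsg.Agent.Lib.Classical.LinearCard
-- import your own Cfsg.Agent.* helpers here

set_option autoImplicit false
open scoped MatrixGroups
open Cfsg

namespace Cfsg.Agent.S1217

open Cfsg.Agent.Lib.Involutions
open Cfsg.Agent.Lib

section

open Matrix

variable {F : Type*} [Field F]

theorem diag_mul (a b c d : F) : (!![a, 0; 0, b] : Matrix (Fin 2) (Fin 2) F) * !![c, 0; 0, d] =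
    !![a * c, 0; 0, b * d] := by
  simp [Matrix.mul_fin_two]

/-- The diagonal torus. -/
def diagHom : Fˣ × Fˣ →* GL (Fin 2) F where
  toFun p := ⟨!![(p.1 : F), 0; 0, (p.2 : F)], !![((p.1⁻¹ : Fˣ) : F), 0; 0, ((p.2⁻¹ : Fˣ) : F)],
    by rw [diag_mul, Units.mul_inv, Units.mul_inv, one_fin_two],
    by rw [diag_mul, Units.inv_mul, Units.inv_mul, one_fin_two]⟩
  map_one' := Units.ext (by simp [one_fin_two])
  map_mul' p p' := Units.ext (by simp [diag_mul])

theorem diagHom_injective : Function.Injective (diagHom (F := F)) := by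
  intro p p' h
  have h0 := Matrix.ext_iff.2 (congrArg Units.val h) 0 0
  have h1 := Matrix.ext_iff.2 (congrArg Units.val h) 1 1
  exact Prod.ext (Units.ext (by simpa [diagHom] using h0)) (Units.ext (by simpa [diagHom] using h1))

def swapGL : GL (Fin 2) F :=
  ⟨!![0, 1; 1, 0], !![0, 1; 1, 0], by simp [Matrix.mul_fin_two, one_fin_two],
    by simp [Matrix.mul_fin_two, one_fin_two]⟩

theorem wreathed_case [Fintype F] (h4 : Fintype.card F % 4 = 1) (P : Sylow 2 (GL (Fin 2) F)) :
    Cfsg.IsWreathed (P : Subgroup (GL (Fin 2) F)) := by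
  classical
  set q := Fintype.card F with hq
  have hq1 : 1 < q := Fintype.one_lt_card
  obtain ⟨a, u, hu, hau⟩ := Nat.exists_eq_two_pow_mul_odd (n := q - 1) (by omega)
  have ha : 2 ≤ a := by
    by_contra h
    interval_cases a <;> (obtain ⟨k, hk⟩ := hu; omega)
  obtain ⟨v, hv⟩ : ∃ v, q + 1 = 2 * v := ⟨(q + 1) / 2, by omega⟩
  obtain ⟨ε, hε⟩ := exists_unit_orderOf (F := F) (d := 2 ^ a) ⟨u, hau⟩
  have hx : orderOf (diagHom (F := F) (ε, 1)) = 2 ^ a := by
    rw [orderOf_injective _ diagHom_injective, Prod.orderOf, orderOf_one, Nat.lcm_one_right, hε]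
  have hz : orderOf (swapGL : GL (Fin 2) F) = 2 := orderOf_eq_two_of_mul_self
    (Units.ext (by simp [swapGL, Matrix.mul_fin_two, one_fin_two]))
    (fun h => by
      have h0 := Matrix.ext_iff.2 (congrArg Units.val h) 0 0
      simp [swapGL] at h0)
  refine wreathed_of_gens ha hx (y := diagHom (1, ε)) ?_ ?_ hz ?_ (m := q * u ^ 2 * v) ?_ ?_ P
  · rw [← map_mul, ← map_mul, mul_comm]
  · rw [eq_bot_iff]
    intro w hw
    obtain ⟨i, rfl⟩ := Subgroup.mem_zpowers_iff.1 hw.1
    obtain ⟨j, hj⟩ := Subgroup.mem_zpowers_iff.1 hw.2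
    rw [← map_zpow, ← map_zpow] at hj
    have h1 : (ε : Fˣ) ^ i = 1 := by
      have := congrArg Prod.fst (diagHom_injective hj)
      simpa using this.symm
    rw [Subgroup.mem_bot, ← map_zpow, Prod.pow_def, h1, _root_.one_zpow]
    exact map_one _
  · apply Units.ext
    rw [invol_inv hz]
    simp [swapGL, diagHom, Matrix.mul_fin_two]
  · rw [Classical.card_GL2, ← hq, show q ^ 2 - 1 = (q - 1) * (q + 1) by
      rw [mul_comm, ← Nat.sq_sub_sq, one_pow], hau, hv]
    ring
  · have hvo : Odd v := Nat.odd_iff.2 (by omega)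
    exact ((Nat.odd_iff.2 (by omega : q % 2 = 1)).mul hu.pow).mul hvo

theorem qd_case [Fintype F] (h4 : Fintype.card F % 4 = 3) (P : Sylow 2 (GL (Fin 2) F)) :
    Cfsg.IsQuasiDihedral (P : Subgroup (GL (Fin 2) F)) := by
  classical
  set q := Fintype.card F with hq
  have hq1 : 1 < q := Fintype.one_lt_card
  obtain ⟨s, v, hv, hsv⟩ := Nat.exists_eq_two_pow_mul_odd (n := q + 1) (by omega)
  have hs : 2 ≤ s := by
    by_contra h
    interval_cases s <;> (obtain ⟨k, hk⟩ := hv; omega)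
  obtain ⟨u, hu'⟩ : ∃ u, q - 1 = 2 * u := ⟨(q - 1) / 2, by omega⟩
  have hu : Odd u := Nat.odd_iff.2 (by omega)
  have hsq : q ^ 2 - 1 = 2 ^ (s + 1) * (u * v) := by
    rw [← one_pow 2, Nat.sq_sub_sq, hsv, hu', pow_succ]; ring
  -- the quadratic extension
  obtain ⟨p, hp⟩ := CharP.exists F
  obtain ⟨f, hpp, hf⟩ := FiniteField.card F p
  have : Fact p.Prime := ⟨hpp⟩
  let K := GaloisField p (2 * f)
  have : Fintype K := Fintype.ofFinite K
  have hK : Fintype.card K = q ^ 2 := by
    rw [← Nat.card_eq_fintype_card, GaloisField.card p (2 * f) (by have := f.pos; omega), hq, hf,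
      ← pow_mul, mul_comm]
  obtain ⟨D⟩ := Embed.nonempty_quadData (F := F) (K := K) hK hq.symm
  obtain ⟨ζ, hζ⟩ := exists_unit_orderOf (F := K) (d := 2 ^ (s + 1)) ⟨u * v, by rw [hK, hsq]⟩
  have hζhalf := pow_half_eq_neg_one hζ
  have hnorm : (ζ : K) * D.bar ζ = -1 := by
    rw [D.bar_eq, ← pow_succ', hsv, pow_mul, hζhalf, hv.neg_one_pow]
  obtain ⟨t, ht⟩ := D.fixed ((ζ : K) + D.bar ζ) (by rw [map_add, D.bar_bar, add_comm])
  have hζ2 : (ζ : K) * ζ = D.j t * ζ + 1 := by
    rw [ht, add_mul, mul_comm (D.bar (ζ : K)), hnorm]; ring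
  have hmove : ∀ a : F, (ζ : K) ≠ D.j a := by
    intro a ha
    have h1 : D.bar (ζ : K) = ζ := by rw [ha, D.bar_j]
    rw [h1] at hnorm
    have h2 : (ζ : K) ^ 4 = 1 := by linear_combination ((ζ : K) * ζ - 1) * hnorm
    have h3 : orderOf ζ ∣ 4 := orderOf_dvd_of_pow_eq_one (Units.ext (by
      rw [Units.val_pow_eq_pow_val, h2, Units.val_one]))
    rw [hζ] at h3
    have := Nat.le_of_dvd (by norm_num) h3
    have h8 : 2 ^ 3 ≤ 2 ^ (s + 1) := Nat.pow_le_pow_right two_pos (by omega)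
    omega
  let x : GL (Fin 2) F := ⟨!![0, 1; 1, t], !![-t, 1; 1, 0],
    by simp [Matrix.mul_fin_two, one_fin_two], by simp [Matrix.mul_fin_two, one_fin_two]⟩
  let y : GL (Fin 2) F := ⟨!![1, 0; t, -1], !![1, 0; t, -1],
    by simp [Matrix.mul_fin_two, one_fin_two], by simp [Matrix.mul_fin_two, one_fin_two]⟩
  have hpow : ∀ k : ℕ, ∃ a b : F, ((x : Matrix (Fin 2) (Fin 2) F)) ^ k =
      !![a, b; b, a + b * t] ∧ (ζ : K) ^ k = D.j a + D.j b * ζ := by
    intro k
    induction k with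
    | zero => exact ⟨1, 0, by simp [one_fin_two], by simp⟩
    | succ k ih =>
      obtain ⟨a, b, h1, h2⟩ := ih
      refine ⟨b, a + b * t, ?_, ?_⟩
      · rw [pow_succ, h1]
        ext i j
        fin_cases i <;> fin_cases j <;> simp [x, Matrix.mul_apply, Fin.sum_univ_two]
      · rw [pow_succ, h2, add_mul, mul_assoc, hζ2, map_add, map_mul]; ring
  have hhalf : x ^ 2 ^ s = -1 := by
    obtain ⟨a, b, h1, h2⟩ := hpow (2 ^ s)
    rw [hζhalf] at h2
    have hb : b = 0 := by
      by_contra hb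
      refine hmove ((-1 - a) / b) ?_
      rw [map_div₀, map_sub, map_neg, map_one, eq_div_iff (D.j.injective.ne_iff' (map_zero _) |>.2 hb)]
      linear_combination -h2
    subst hb
    have ha : a = -1 := D.j.injective (by
      rw [map_zero, zero_mul, add_zero] at h2
      rw [← h2, map_neg, map_one])
    apply Units.ext
    rw [Units.val_pow_eq_pow_val, h1, ha]
    ext i j
    fin_cases i <;> fin_cases j <;> simp
  have hne : (-1 : GL (Fin 2) F) ≠ 1 := fun h => by
    have h0 := Matrix.ext_iff.2 (congrArg Units.val h) 0 0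
    simp at h0
    have h2 : (2 : F) = 0 := by linear_combination -h0
    refine Ring.two_ne_zero (fun hc => ?_) h2
    have := FiniteField.even_card_iff_char_two.1 hc
    omega
  have hx : orderOf x = 2 ^ (s + 1) := by
    have : Fact (Nat.Prime 2) := ⟨Nat.prime_two⟩
    refine orderOf_eq_prime_pow ?_ ?_
    · rw [hhalf]; exact hne
    · rw [pow_succ, pow_mul, hhalf, neg_one_sq]
  have hy : orderOf y = 2 := orderOf_eq_two_of_mul_self
    (Units.ext (by simp [y, Matrix.mul_fin_two, one_fin_two]))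
    (fun h => hne (by
      have h1 := Matrix.ext_iff.2 (congrArg Units.val h) 1 1
      simp [y] at h1
      apply Units.ext
      rw [Units.val_neg, Units.val_one]
      ext i j
      fin_cases i <;> fin_cases j <;> simp [h1]))
  refine quasiDihedral_of_gens (n := s + 1) (m := q * u ^ 2 * v) (by omega) hx hy ?_ ?_ ?_ P
  · have hx1 : x * x ^ (2 ^ (s + 1 - 1) - 1) = -1 := by
      rw [← pow_succ', Nat.add_sub_cancel, Nat.sub_add_cancel Nat.one_le_two_pow, hhalf]
    rw [eq_inv_mul_of_mul_eq hx1, invol_inv hy]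
    apply Units.ext
    show (y : Matrix (Fin 2) (Fin 2) F) * x * y = !![-t, 1; 1, 0] * -1
    simp [x, y, Matrix.mul_fin_two]
  · rw [Classical.card_GL2, ← hq, hsq, hu', pow_succ 2 (s + 1)]
    ring
  · exact ((Nat.odd_iff.2 (by omega : q % 2 = 1)).mul hu.pow).mul hv

end

/-- Let F be a finite field with q elements, q odd, and P a Sylow 2-subgroup of GL(2,F). If q ≡ 3 (mod 4) then P is quasi-dihedral; if q ≡ 1 (mod 4) then P is wreathed. -/
theorem result {F : Type*} [Field F] [Fintype F] (P : Sylow 2 (GL (Fin 2) F)) : (Fintype.card F % 4 = 3 → Cfsg.IsQuasiDihedral (P : Subgroup (GL (Fin 2) F))) ∧ (Fintype.card F % 4 = 1 → Cfsg.IsWreathed (P : Subgroup (GL (Fin 2) F))) := by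
  exact ⟨fun h => qd_case h P, fun h => wreathed_case h P⟩

end Cfsg.Agent.S1217
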