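import Cfsg.Statements.S1218
import Mathlib
import Cfsg.Agent.Lib.Involutions.SylowShapes
import Cfsg.Agent.Lib.Classical.HermCard
import Cfsg.Agent.S1217
-- import your own Cfsg.Agent.* helpers here

set_option autoImplicit false
open scoped MatrixGroups
open Cfsg

namespace Cfsg.Agent.S1218

open Cfsg.Agent.Lib.Involutions
open Cfsg.Agent.Lib
open Cfsg.Agent.S1217 (diagHom diagHom_injective swapGL diag_mul)

section

open Matrix

variable {F : Type*} [Field F] [Fintype F] {q : ℕ}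

theorem card_GU_two (hF : Fintype.card F = q ^ 2) :
    Nat.card (Cfsg.GU 2 F q) = q * ((q + 1) * (q ^ 2 - 1)) := by
  rw [Classical.card_GU hF]
  simp [Finset.prod_range_succ]

theorem diag_mem (hF : Fintype.card F = q ^ 2) {a b : Fˣ} (ha : (a : F) ^ (q + 1) = 1)
    (hb : (b : F) ^ (q + 1) = 1) : diagHom (a, b) ∈ Cfsg.GU 2 F q := by
  rw [Classical.mem_GU_iff hF]
  ext i j
  fin_cases i <;> fin_cases j <;>
    simp [diagHom, Matrix.mul_apply, Classical.conjHom_apply hF, ← pow_succ', ha, hb,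
      Classical.zero_pow_q hF]

theorem swap_mem (hF : Fintype.card F = q ^ 2) : (swapGL : GL (Fin 2) F) ∈ Cfsg.GU 2 F q := by
  rw [Classical.mem_GU_iff hF]
  ext i j
  fin_cases i <;> fin_cases j <;>
    simp [swapGL, Matrix.mul_apply, Classical.conjHom_apply hF, Classical.zero_pow_q hF]

theorem wreathed_case (hF : Fintype.card F = q ^ 2) (h4 : q % 4 = 3)
    (P : Sylow 2 ↥(Cfsg.GU 2 F q)) : Cfsg.IsWreathed (P : Subgroup ↥(Cfsg.GU 2 F q)) := by
  classical
  have hq1 := Classical.two_le_q hF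
  obtain ⟨a, u, hu, hau⟩ := Nat.exists_eq_two_pow_mul_odd (n := q + 1) (by omega)
  have ha : 2 ≤ a := by
    by_contra h
    interval_cases a <;> (obtain ⟨k, hk⟩ := hu; omega)
  obtain ⟨v, hv⟩ : ∃ v, q - 1 = 2 * v := ⟨(q - 1) / 2, by omega⟩
  have hq2 : q ^ 2 - 1 = (q + 1) * (q - 1) := by rw [← Nat.sq_sub_sq, one_pow]
  obtain ⟨ε, hε⟩ := exists_unit_orderOf (F := F) (d := 2 ^ a)
    ⟨u * (q - 1), by rw [hF, hq2, hau]; ring⟩
  have hεq : (ε : F) ^ (q + 1) = 1 := by
    rw [hau, pow_mul, ← Units.val_pow_eq_pow_val, ← hε, pow_orderOf_eq_one, Units.val_one, one_pow]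
  let x : Cfsg.GU 2 F q := ⟨diagHom (ε, 1), diag_mem hF hεq (by simp)⟩
  let y : Cfsg.GU 2 F q := ⟨diagHom (1, ε), diag_mem hF (by simp) hεq⟩
  let z : Cfsg.GU 2 F q := ⟨swapGL, swap_mem hF⟩
  have hx : orderOf x = 2 ^ a := by
    rw [Subgroup.orderOf_mk, orderOf_injective _ diagHom_injective, Prod.orderOf, orderOf_one,
      Nat.lcm_one_right, hε]
  have hz : orderOf z = 2 := by
    rw [Subgroup.orderOf_mk]
    exact orderOf_eq_two_of_mul_self
      (Units.ext (by simp [swapGL, Matrix.mul_fin_two, one_fin_two]))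
      (fun h => by
        have h0 := Matrix.ext_iff.2 (congrArg Units.val h) 0 0
        simp [swapGL] at h0)
  refine wreathed_of_gens ha hx (y := y) ?_ ?_ hz ?_ (m := q * u ^ 2 * v) ?_ ?_ P
  · apply Subtype.ext
    show diagHom (ε, (1 : Fˣ)) * diagHom ((1 : Fˣ), ε) = _ * _
    rw [← map_mul, mul_comm, map_mul]
  · rw [eq_bot_iff]
    intro w hw
    obtain ⟨i, rfl⟩ := Subgroup.mem_zpowers_iff.1 hw.1
    obtain ⟨j, hj⟩ := Subgroup.mem_zpowers_iff.1 hw.2
    have hj' := congrArg Subtype.val hj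
    simp only [Subgroup.coe_zpow, x, y] at hj'
    rw [← map_zpow, ← map_zpow] at hj'
    have h1 : ε ^ i = 1 := by
      have := congrArg Prod.fst (diagHom_injective hj')
      simpa using this.symm
    rw [Subgroup.mem_bot]
    apply Subtype.ext
    simp only [Subgroup.coe_zpow, x]
    rw [← map_zpow, Prod.pow_def, h1, _root_.one_zpow]
    exact map_one _
  · apply Subtype.ext
    rw [invol_inv hz]
    apply Units.ext
    simp [x, y, z, swapGL, diagHom, Matrix.mul_fin_two]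
  · rw [card_GU_two hF, hq2, hau, hv]
    ring
  · exact ((Nat.odd_iff.2 (by omega : q % 2 = 1)).mul hu.pow).mul (Nat.odd_iff.2 (by omega))

theorem qd_case (hF : Fintype.card F = q ^ 2) (h4 : q % 4 = 1)
    (P : Sylow 2 ↥(Cfsg.GU 2 F q)) : Cfsg.IsQuasiDihedral (P : Subgroup ↥(Cfsg.GU 2 F q)) := by
  classical
  have hq1 := Classical.two_le_q hF
  obtain ⟨a, u, hu, hau⟩ := Nat.exists_eq_two_pow_mul_odd (n := q - 1) (by omega)
  have ha : 2 ≤ a := by
    by_contra h
    interval_cases a <;> (obtain ⟨k, hk⟩ := hu; omega)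
  obtain ⟨v, hv⟩ : ∃ v, q + 1 = 2 * v := ⟨(q + 1) / 2, by omega⟩
  have hvo : Odd v := Nat.odd_iff.2 (by omega)
  have hq2 : q ^ 2 - 1 = (q + 1) * (q - 1) := by rw [← Nat.sq_sub_sq, one_pow]
  obtain ⟨ε, hε⟩ := exists_unit_orderOf (F := F) (d := 2 ^ (a + 1))
    ⟨u * v, by rw [hF, hq2, hau, hv]; ring⟩
  -- `-q` is `2 ^ a - 1` modulo the order of `ε`
  have hmod : ε ^ (q + (2 ^ a - 1)) = 1 := by
    obtain ⟨k, hk⟩ := hu
    refine orderOf_dvd_iff_pow_eq_one.1 ?_
    rw [hε]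
    refine ⟨k + 1, ?_⟩
    have : q = 2 ^ a * u + 1 := by omega
    rw [this, hk, show 2 ^ a * (2 * k + 1) + 1 + (2 ^ a - 1) = 2 ^ a * (2 * k + 1) + 2 ^ a by
      have := Nat.two_pow_pos a
      omega]
    ring
  set δ : Fˣ := ε ^ (2 ^ a - 1) with hδ
  have hεδ : ε ^ q * δ = 1 := by rw [hδ, ← pow_add, hmod]
  have hδε : δ ^ (2 ^ a - 1) = ε := by
    rw [hδ, ← pow_mul, ← pow_mod_orderOf, hε]
    have h2 : (2 ^ a - 1) * (2 ^ a - 1) % 2 ^ (a + 1) = 1 := by
      obtain ⟨w, hw⟩ : ∃ w, 2 ^ a = w + 2 :=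
        ⟨2 ^ a - 2, by have := Nat.one_lt_two_pow (n := a) (by omega); omega⟩
      obtain ⟨b, rfl⟩ : ∃ b, a = b + 1 := ⟨a - 1, by omega⟩
      have h3 : (2 ^ (b + 1) - 1) * (2 ^ (b + 1) - 1) + 2 ^ (b + 1 + 1) =
          2 ^ (b + 1 + 1) * 2 ^ b + 1 := by
        rw [hw, show w + 2 - 1 = w + 1 by omega, pow_succ 2 (b + 1), hw]
        have h4 : 2 ^ b * 2 = w + 2 := by rw [← pow_succ]; exact hw
        nlinarith
      calc (2 ^ (b + 1) - 1) * (2 ^ (b + 1) - 1) % 2 ^ (b + 1 + 1)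
          = ((2 ^ (b + 1) - 1) * (2 ^ (b + 1) - 1) + 2 ^ (b + 1 + 1)) % 2 ^ (b + 1 + 1) := by
            rw [Nat.add_mod_right]
        _ = 1 := by
            rw [h3, Nat.mul_add_mod]
            exact Nat.one_mod_eq_one.2 (by have := Nat.one_lt_two_pow (n := b + 1 + 1) (by omega); omega)
    rw [h2, pow_one]
  -- an element of norm `-1`
  obtain ⟨c, hc⟩ : ∃ c : F, c ^ (q + 1) = -1 := by
    have hcard := Classical.card_norm_eq hF (-1 : F) (Classical.neg_one_pow_q hF)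
    rw [if_neg (neg_ne_zero.2 one_ne_zero)] at hcard
    obtain ⟨⟨c, hc⟩⟩ : Nonempty {x : F // x ^ (q + 1) = -1} :=
      (Nat.card_pos_iff.1 (by omega)).1
    exact ⟨c, hc⟩
  have hc0 : c ≠ 0 := by
    rintro rfl
    simp at hc
  have h2ne : (2 : F) ≠ 0 := Ring.two_ne_zero fun h => by
    have := FiniteField.even_card_iff_char_two.1 h
    rw [hF, Nat.pow_mod] at this
    have : q % 2 = 1 := by omega
    simp [this] at *
  set M : Matrix (Fin 2) (Fin 2) F := !![1, 1; c, -c] with hM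
  have hdet : M.det ≠ 0 := by
    rw [hM, Matrix.det_fin_two_of, show 1 * -c - 1 * c = -(2 * c) by ring]
    exact neg_ne_zero.2 (mul_ne_zero h2ne hc0)
  set g : GL (Fin 2) F := GeneralLinearGroup.mkOfDetNeZero M hdet with hg
  set σ := Classical.conjHom hF with hσ
  set J : Matrix (Fin 2) (Fin 2) F := !![0, 2; 2, 0] with hJ
  have hσ2 : σ 2 = 2 := map_ofNat σ 2
  have hMJ : Mᵀ * M.map σ = J := by
    have hcc : c * σ c = -1 := by rw [hσ, Classical.conjHom_apply hF, ← pow_succ', hc]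
    ext i j
    fin_cases i <;> fin_cases j <;> simp [hM, hJ, Matrix.mul_apply, hcc] <;> ring
  have hgval : (g : Matrix (Fin 2) (Fin 2) F) = M := rfl
  have hmem : MulAut.conj g (diagHom (ε, δ)) ∈ Cfsg.GU 2 F q := by
    rw [Classical.mem_GU_iff hF]
    set D : Matrix (Fin 2) (Fin 2) F := ((diagHom (ε, δ) : GL (Fin 2) F) : Matrix (Fin 2) (Fin 2) F) with hD
    set N : Matrix (Fin 2) (Fin 2) F := ((g⁻¹ : GL (Fin 2) F) : Matrix (Fin 2) (Fin 2) F) with hN
    have hMN : M * N = 1 := by rw [hN, ← hgval, ← Units.val_mul, mul_inv_cancel, Units.val_one]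
    have e1 : (ε : F) ^ q * δ = 1 := by rw [← Units.val_pow_eq_pow_val, ← Units.val_mul, hεδ, Units.val_one]
    have e2 : (δ : F) ^ q * ε = 1 := by
      rw [← Units.val_pow_eq_pow_val, ← Units.val_mul]
      have : δ ^ q * ε = 1 := by
        rw [show δ ^ q * ε = (ε ^ q * δ) ^ (2 ^ a - 1) by rw [mul_pow, hδε, hδ]; rw [← pow_mul, ← pow_mul, mul_comm q], hεδ, one_pow]
      rw [this, Units.val_one]
    have hDJ : Dᵀ * J * D.map σ = J := by
      ext i j
      fin_cases i <;> fin_cases j <;>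
        simp [hD, hJ, diagHom, Matrix.mul_apply, hσ, Classical.conjHom_apply hF] <;>
        first
          | omega
          | exact Or.inr (by omega)
          | (rw [mul_comm (ε : F), mul_assoc, mul_comm (ε : F), e2, mul_one])
          | (rw [mul_comm (δ : F), mul_assoc, mul_comm (δ : F), e1, mul_one])
    show (M * D * N)ᵀ * (M * D * N).map σ = 1
    rw [Matrix.map_mul, Matrix.map_mul, Matrix.transpose_mul, Matrix.transpose_mul]
    calc Nᵀ * (Dᵀ * Mᵀ) * (M.map σ * D.map σ * N.map σ)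
        = Nᵀ * (Dᵀ * (Mᵀ * M.map σ) * D.map σ) * N.map σ := by simp only [Matrix.mul_assoc]
      _ = Nᵀ * (Mᵀ * M.map σ) * N.map σ := by rw [hMJ, hDJ]
      _ = (M * N)ᵀ * (M * N).map σ := by
          rw [Matrix.map_mul, Matrix.transpose_mul]; simp only [Matrix.mul_assoc]
      _ = 1 := by rw [hMN]; simp
  have hymem : diagHom ((1 : Fˣ), (-1 : Fˣ)) ∈ Cfsg.GU 2 F q :=
    diag_mem hF (by simp) (by
      rw [Units.val_neg, Units.val_one, (Nat.even_iff.2 (by omega) : Even (q + 1)).neg_one_pow])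
  let x : Cfsg.GU 2 F q := ⟨_, hmem⟩
  let y : Cfsg.GU 2 F q := ⟨_, hymem⟩
  have hx : orderOf x = 2 ^ (a + 1) := by
    rw [Subgroup.orderOf_mk, MulEquiv.orderOf_eq, orderOf_injective _ diagHom_injective,
      Prod.orderOf, hε]
    exact Nat.lcm_eq_left (hδ ▸ (orderOf_pow_dvd _).trans hε.dvd)
  have hy : orderOf y = 2 := by
    rw [Subgroup.orderOf_mk]
    refine orderOf_eq_two_of_mul_self (by rw [← map_mul]; simp [Prod.mk_one_one]) fun h => ?_
    rw [← map_one (diagHom (F := F))] at h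
    have h1 := congrArg (fun w : Fˣ => (w : F)) (congrArg Prod.snd (diagHom_injective h))
    simp at h1
    exact h2ne (by linear_combination -h1)
  refine quasiDihedral_of_gens (n := a + 1) (m := q * v ^ 2 * u) (by omega) hx hy ?_ ?_ ?_ P
  · apply Subtype.ext
    simp only [Subgroup.coe_mul, Subgroup.coe_inv, Subgroup.coe_pow, x, y, Nat.add_sub_cancel]
    rw [← map_pow, ← map_pow, Prod.pow_def, ← hδ, hδε, MulAut.conj_apply, MulAut.conj_apply]
    set d1 : GL (Fin 2) F := diagHom ((1 : Fˣ), (-1 : Fˣ))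
    have h1 : d1 * g = g * swapGL := Units.ext (by
      simp [d1, hg, hM, diagHom, swapGL, Matrix.mul_fin_two, GeneralLinearGroup.mkOfDetNeZero])
    have h2 : (swapGL : GL (Fin 2) F) * diagHom (ε, δ) * swapGL⁻¹ = diagHom (δ, ε) := Units.ext (by
      show _ * _ * !![0, 1; 1, 0] = _
      simp [swapGL, diagHom, Matrix.mul_fin_two])
    calc d1 * (g * diagHom (ε, δ) * g⁻¹) * d1⁻¹
        = (d1 * g) * diagHom (ε, δ) * (d1 * g)⁻¹ := by group
      _ = g * (swapGL * diagHom (ε, δ) * swapGL⁻¹) * g⁻¹ := by rw [h1]; group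
      _ = g * diagHom (δ, ε) * g⁻¹ := by rw [h2]
  · rw [card_GU_two hF, hq2, hau, hv]
    ring
  · exact ((Nat.odd_iff.2 (by omega : q % 2 = 1)).mul hvo.pow).mul hu

end

/-- Let F be a finite field with q² elements, q odd, let GU be the subgroup of GL(2,F) preserving the Hermitian form u₁v₁^q + u₂v₂^q, and P a Sylow 2-subgroup of GU. If q ≡ 1 (mod 4) then P is quasi-dihedral; if q ≡ 3 (mod 4) then P is wreathed. -/
theorem result {F : Type*} [Field F] [Fintype F] (q : ℕ) (hF : Fintype.card F = q ^ 2) (hq : Odd q) (P : Sylow 2 ↥(Cfsg.preserving (Units.coeHom (Matrix (Fin 2) (Fin 2) F)) (Cfsg.hermForm 2 F q))) : (q % 4 = 1 → Cfsg.IsQuasiDihedral (P : Subgroup ↥(Cfsg.preserving (Units.coeHom (Matrix (Fin 2) (Fin 2) F)) (Cfsg.hermForm 2 F q)))) ∧ (q % 4 = 3 → Cfsg.IsWreathed (P : Subgroup ↥(Cfsg.preserving (Units.coeHom (Matrix (Fin 2) (Fin 2) F)) (Cfsg.hermForm 2 F q)))) := by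
  exact ⟨fun h => qd_case hF h P, fun h => wreathed_case hF h P⟩

end Cfsg.Agent.S1218
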