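import Cfsg.Statements.S1219
import Mathlib
import Cfsg.Agent.Lib.Classical.LinearCard
-- import your own Cfsg.Agent.* helpers here

set_option autoImplicit false
open scoped MatrixGroups
open Cfsg

namespace Cfsg.Agent.S1219

section

open Matrix

variable {F : Type*} [Field F]

/-- The diagonal involution `diag(1, -1, -1)`. -/
def dInvol : SpecialLinearGroup (Fin 3) F := ⟨diagonal ![1, -1, -1], by simp [Fin.prod_univ_succ]⟩

/-- `A ↦ diag((det A)⁻¹, A)`. -/
def blockMat (A : Matrix (Fin 2) (Fin 2) F) : Matrix (Fin 3) (Fin 3) F :=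
  !![(A.det)⁻¹, 0, 0; 0, A 0 0, A 0 1; 0, A 1 0, A 1 1]

def blockHom : GL (Fin 2) F →* SpecialLinearGroup (Fin 3) F where
  toFun A := ⟨blockMat (A : Matrix (Fin 2) (Fin 2) F), by
    have h : (A : Matrix (Fin 2) (Fin 2) F).det ≠ 0 := Matrix.GeneralLinearGroup.det_ne_zero A
    rw [blockMat, det_fin_three]
    simp only [of_apply, cons_val', cons_val_zero, cons_val_one, cons_val, empty_val', cons_val_fin_one]
    rw [det_fin_two] at h ⊢
    field_simp
    ring⟩
  map_one' := Subtype.ext (by
    ext i j
    fin_cases i <;> fin_cases j <;> simp [blockMat])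
  map_mul' A B := Subtype.ext (by
    show blockMat ((A : Matrix (Fin 2) (Fin 2) F) * (B : Matrix (Fin 2) (Fin 2) F)) =
      blockMat (A : Matrix (Fin 2) (Fin 2) F) * blockMat (B : Matrix (Fin 2) (Fin 2) F)
    ext i j
    fin_cases i <;> fin_cases j <;>
      simp [blockMat, Matrix.mul_apply, Fin.sum_univ_succ, det_mul, mul_comm])

theorem two_ne_zero_of_odd [Fintype F] (hF : Odd (Fintype.card F)) : (2 : F) ≠ 0 :=
  Ring.two_ne_zero fun h => by
    have h1 := FiniteField.even_card_iff_char_two.1 h
    rw [Nat.odd_iff] at hF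
    omega

/-- An involution of `SL₃` is conjugate to `diag(1, -1, -1)`. -/
theorem exists_conj_dInvol (h2 : (2 : F) ≠ 0) (s : SpecialLinearGroup (Fin 3) F)
    (hs : s * s = 1) (hs1 : s ≠ 1) :
    ∃ g : SpecialLinearGroup (Fin 3) F, s = g * dInvol * g⁻¹ := by
  classical
  set T : (Fin 3 → F) →ₗ[F] (Fin 3 → F) := Matrix.toLin' (s : Matrix (Fin 3) (Fin 3) F) with hT
  have hTT : ∀ v, T (T v) = v := fun v => by
    have hss : (s : Matrix (Fin 3) (Fin 3) F) * (s : Matrix (Fin 3) (Fin 3) F) = 1 :=
      congrArg Subtype.val hs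
    rw [hT, Matrix.toLin'_apply, Matrix.toLin'_apply, mulVec_mulVec, hss, one_mulVec]
  set Ep := LinearMap.ker (T - 1) with hEp
  set Em := LinearMap.ker (T + 1) with hEm
  have hp : ∀ v, v ∈ Ep ↔ T v = v := fun v => by simp [hEp, sub_eq_zero]
  have hm : ∀ v, v ∈ Em ↔ T v = -v := fun v => by simp [hEm, add_eq_zero_iff_eq_neg]
  have hcompl : IsCompl Ep Em := by
    refine ⟨disjoint_iff_inf_le.2 fun v hv => ?_, codisjoint_iff_le_sup.2 fun v _ => ?_⟩
    · have h1 := (hp v).1 hv.1
      rw [(hm v).1 hv.2] at h1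
      have : (2 : F) • v = 0 := by rw [two_smul]; nth_rewrite 2 [← h1]; exact add_neg_cancel v
      exact (smul_eq_zero.1 this).resolve_left h2
    · refine Submodule.mem_sup.2 ⟨(2 : F)⁻¹ • (v + T v), ?_, (2 : F)⁻¹ • (v - T v), ?_, ?_⟩
      · rw [hp, map_smul, map_add, hTT, add_comm]
      · rw [hm, map_smul, map_sub, hTT, ← smul_neg, neg_sub]
      · rw [← smul_add, add_add_sub_cancel, ← two_smul F, smul_smul, inv_mul_cancel₀ h2, one_smul]
  set a := Module.finrank F Ep
  set b := Module.finrank F Em
  have hab : a + b = 3 := by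
    rw [Submodule.finrank_add_eq_of_isCompl hcompl, Module.finrank_fin_fun]
  let B : Module.Basis (Fin a ⊕ Fin b) F (Fin 3 → F) :=
    ((Module.finBasis F Ep).prod (Module.finBasis F Em)).map (Submodule.prodEquivOfIsCompl Ep Em hcompl)
  let e : Fin a ⊕ Fin b ≃ Fin 3 := finSumFinEquiv.trans (finCongr hab)
  let C := B.reindex e
  let f : Fin 3 → F := fun i => Sum.elim (fun _ => 1) (fun _ => -1) (e.symm i)
  have hC : ∀ i, T (C i) = f i • C i := by
    intro i
    simp only [C, f, Module.Basis.reindex_apply]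
    rcases e.symm i with k | k
    · have h1 : B (Sum.inl k) ∈ Ep := by simp [B]
      simp [(hp _).1 h1]
    · have h1 : B (Sum.inr k) ∈ Em := by simp [B]
      simp [(hm _).1 h1]
  set g : Matrix (Fin 3) (Fin 3) F := Matrix.of fun r i => C i r with hg
  have hgu : g.det ≠ 0 := by
    have hli : LinearIndependent F g.col := C.linearIndependent
    exact ((Matrix.isUnit_iff_isUnit_det g).1
      (Matrix.linearIndependent_cols_iff_isUnit.1 hli)).ne_zero
  have hsg : (s : Matrix (Fin 3) (Fin 3) F) * g = g * diagonal f := by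
    ext r i
    have h1 := congrFun (hC i) r
    rw [hT, Matrix.toLin'_apply] at h1
    rw [mul_diagonal]
    rw [Pi.smul_apply, smul_eq_mul, mulVec, dotProduct] at h1
    rw [Matrix.mul_apply]
    simp only [hg, of_apply]
    rw [h1, mul_comm]
  have hdetf : ∏ i, f i = 1 := by
    have h1 := congrArg Matrix.det hsg
    rw [det_mul, det_mul, s.det_coe, one_mul, det_diagonal] at h1
    exact (mul_eq_left₀ hgu).1 h1.symm
  have hpm : ∏ i, f i = (-1 : F) ^ b := by
    rw [← Equiv.prod_comp e, Fintype.prod_sum_type]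
    simp [f]
  have hb : b = 2 := by
    rw [hdetf] at hpm
    have hne : (-1 : F) ≠ 1 := fun h => h2 (by linear_combination -h)
    have : b = 0 ∨ b = 1 ∨ b = 2 ∨ b = 3 := by omega
    rcases this with h | h | h | h
    · exfalso
      apply hs1
      have hEm0 : Em = ⊥ := Submodule.finrank_eq_zero.1 h
      have hall : ∀ v, T v = v := fun v => (hp v).1 (by
        have := hcompl.sup_eq_top
        rw [hEm0, sup_bot_eq] at this
        rw [this]; trivial)
      refine Subtype.ext (Matrix.toLin'.injective (LinearMap.ext fun v => ?_))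
      show Matrix.toLin' (s : Matrix (Fin 3) (Fin 3) F) v = Matrix.toLin' (1 : Matrix (Fin 3) (Fin 3) F) v
      rw [Matrix.toLin'_one]
      exact hall v
    · rw [h, pow_one] at hpm; exact absurd hpm.symm hne
    · exact h
    · rw [h] at hpm; exact absurd (by linear_combination -hpm) hne
  have ha : a = 1 := by omega
  have hf : f = ![1, -1, -1] := by
    funext i
    have hsymm : e.symm i = finSumFinEquiv.symm ((finCongr hab).symm i) := rfl
    show Sum.elim _ _ (e.symm i) = _
    fin_cases i
    · rw [hsymm, show (finCongr hab).symm ⟨0, by norm_num⟩ = Fin.castAdd b ⟨0, by omega⟩ from rfl,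
        finSumFinEquiv_symm_apply_castAdd]
      rfl
    · rw [hsymm, show (finCongr hab).symm ⟨1, by norm_num⟩ = Fin.natAdd a ⟨0, by omega⟩ from
        Fin.ext (by simp [ha]), finSumFinEquiv_symm_apply_natAdd]
      rfl
    · rw [hsymm, show (finCongr hab).symm ⟨2, by norm_num⟩ = Fin.natAdd a ⟨1, by omega⟩ from
        Fin.ext (by simp [ha]), finSumFinEquiv_symm_apply_natAdd]
      rfl
  -- normalise the determinant
  set c : Matrix (Fin 3) (Fin 3) F := diagonal ![(g.det)⁻¹, 1, 1] with hc
  have hdet1 : (g * c).det = 1 := by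
    simp [hc, Fin.prod_univ_succ, mul_inv_cancel₀ hgu]
  refine ⟨⟨g * c, hdet1⟩, eq_mul_inv_of_mul_eq (Subtype.ext ?_)⟩
  show (s : Matrix (Fin 3) (Fin 3) F) * (g * c) = g * c * diagonal ![1, -1, -1]
  rw [← Matrix.mul_assoc, hsg, hf, Matrix.mul_assoc, Matrix.mul_assoc, hc, diagonal_mul_diagonal,
    diagonal_mul_diagonal]
  congr 2
  funext i
  exact mul_comm _ _

theorem mem_center_scalar {k : SpecialLinearGroup (Fin 3) F}
    (hk : k ∈ Subgroup.center (SpecialLinearGroup (Fin 3) F)) :
    ∃ r : F, r ^ 3 = 1 ∧ (k : Matrix (Fin 3) (Fin 3) F) = scalar (Fin 3) r := by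
  obtain ⟨r, h1, h2⟩ := Matrix.SpecialLinearGroup.mem_center_iff.1 hk
  exact ⟨r, by simpa using h1, h2.symm⟩

end

/-- Let F be a finite field of odd order q and t an involution of PSL(3,F). Then C(t) is isomorphic to the quotient of GL(2,F) by a central subgroup of order gcd(q−1, 3). -/
theorem result {F : Type*} [Field F] [Fintype F] (hF : Odd (Fintype.card F)) (t : Matrix.ProjectiveSpecialLinearGroup (Fin 3) F) (ht : orderOf t = 2) : ∃ (Z : Subgroup (GL (Fin 2) F)) (_ : Z.Normal), Z ≤ Subgroup.center (GL (Fin 2) F) ∧ Nat.card Z = Nat.gcd (Fintype.card F - 1) 3 ∧ Nonempty (↥(Subgroup.centralizer ({t} : Set (Matrix.ProjectiveSpecialLinearGroup (Fin 3) F))) ≃* GL (Fin 2) F ⧸ Z) := by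
  classical
  have h2 := two_ne_zero_of_odd hF
  set π := QuotientGroup.mk' (Subgroup.center (Matrix.SpecialLinearGroup (Fin 3) F)) with hπ
  obtain ⟨s, rfl⟩ := QuotientGroup.mk_surjective t
  -- a lift which is an involution
  obtain ⟨s', hs', hs'1, hs'eq⟩ : ∃ s' : Matrix.SpecialLinearGroup (Fin 3) F,
      s' * s' = 1 ∧ s' ≠ 1 ∧ π s' = π s := by
    have hsq : s * s ∈ Subgroup.center (Matrix.SpecialLinearGroup (Fin 3) F) := by
      rw [← QuotientGroup.eq_one_iff]
      have := pow_orderOf_eq_one (π s)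
      rw [show orderOf (π s) = 2 from ht, pow_two, ← map_mul] at this
      exact this
    refine ⟨s * (s * s), ?_, ?_, ?_⟩
    · obtain ⟨r, hr, hsr⟩ := mem_center_scalar hsq
      have hc : s * (s * s) * (s * (s * s)) = (s * s) * (s * s) * (s * s) := by group
      rw [hc]
      apply Subtype.ext
      rw [Matrix.SpecialLinearGroup.coe_mul, Matrix.SpecialLinearGroup.coe_mul, hsr, ← map_mul,
        ← map_mul, show r * r * r = r ^ 3 by ring, hr, map_one, Matrix.SpecialLinearGroup.coe_one]
    · intro h
      have h1 : π s = 1 := by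
        have h3 := congrArg π h
        rw [map_mul, map_one, show π (s * s) = 1 from (QuotientGroup.eq_one_iff _).2 hsq, mul_one] at h3
        exact h3
      rw [show ((s : Matrix.SpecialLinearGroup (Fin 3) F) : Matrix.ProjectiveSpecialLinearGroup (Fin 3) F) = π s from rfl,
        h1, orderOf_one] at ht
      exact absurd ht (by norm_num)
    · rw [map_mul, show π (s * s) = 1 from (QuotientGroup.eq_one_iff _).2 hsq, mul_one]
  obtain ⟨g, hg⟩ := exists_conj_dInvol h2 s' hs' hs'1
  let φ : GL (Fin 2) F →* Matrix.ProjectiveSpecialLinearGroup (Fin 3) F := π.comp blockHom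
  set D := π dInvol with hD
  -- the centralizer of the standard involution
  have hrange : φ.range = Subgroup.centralizer {D} := by
    refine le_antisymm ?_ fun k hk => ?_
    · rintro _ ⟨A, rfl⟩
      rw [Subgroup.mem_centralizer_singleton_iff, hD]
      show π (blockHom A) * π dInvol = π dInvol * π (blockHom A)
      rw [← map_mul, ← map_mul]
      refine congrArg π (Subtype.ext ?_)
      show blockMat _ * Matrix.diagonal _ = Matrix.diagonal _ * blockMat _
      ext i j
      fin_cases i <;> fin_cases j <;> simp [blockMat]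
    · obtain ⟨k, rfl⟩ := QuotientGroup.mk'_surjective _ k
      rw [Subgroup.mem_centralizer_singleton_iff, hD, ← map_mul, ← map_mul] at hk
      have hcen : (dInvol * k)⁻¹ * (k * dInvol) ∈
          Subgroup.center (Matrix.SpecialLinearGroup (Fin 3) F) := QuotientGroup.eq.1 hk.symm
      obtain ⟨r, -, hr⟩ := mem_center_scalar hcen
      have e1 : (k : Matrix (Fin 3) (Fin 3) F) * Matrix.diagonal ![1, -1, -1] =
          r • (Matrix.diagonal ![1, -1, -1] * (k : Matrix (Fin 3) (Fin 3) F)) := by
        have h3 : k * dInvol = (dInvol * k) * ((dInvol * k)⁻¹ * (k * dInvol)) := by group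
        have h4 := congrArg (fun w : Matrix.SpecialLinearGroup (Fin 3) F =>
          (w : Matrix (Fin 3) (Fin 3) F)) h3
        simp only [Matrix.SpecialLinearGroup.coe_mul, hr] at h4
        rw [Matrix.scalar_apply, ← Matrix.smul_one_eq_diagonal, Matrix.mul_smul, mul_one] at h4
        exact h4
      have hr1 : r = 1 := by
        set d : Matrix (Fin 3) (Fin 3) F := Matrix.diagonal ![1, -1, -1]
        set K : Matrix (Fin 3) (Fin 3) F := (k : Matrix (Fin 3) (Fin 3) F)
        set K' : Matrix (Fin 3) (Fin 3) F :=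
          ((k⁻¹ : Matrix.SpecialLinearGroup (Fin 3) F) : Matrix (Fin 3) (Fin 3) F)
        have hKK : K * K' = 1 := by
          rw [← Matrix.SpecialLinearGroup.coe_mul, mul_inv_cancel, Matrix.SpecialLinearGroup.coe_one]
        have h3 : (K * d * K').trace = (r • (d * K) * K').trace := by rw [e1]
        rw [Matrix.smul_mul, Matrix.trace_smul, Matrix.mul_assoc d K K', hKK, mul_one,
          Matrix.trace_mul_comm, ← Matrix.mul_assoc,
          mul_eq_one_comm.1 hKK, one_mul] at h3
        simp [d, Matrix.trace, Fin.sum_univ_succ, smul_eq_mul] at h3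
        exact h3.symm
      rw [hr1, one_smul] at e1
      have key : ∀ i j, ![(1 : F), -1, -1] i ≠ ![(1 : F), -1, -1] j →
          (k : Matrix (Fin 3) (Fin 3) F) i j = 0 := by
        intro i j hij
        have h3 := Matrix.ext_iff.2 e1 i j
        rw [Matrix.mul_diagonal, Matrix.diagonal_mul] at h3
        by_contra hne
        exact hij (mul_left_cancel₀ hne (by rw [h3, mul_comm]))
      have hne : (1 : F) ≠ -1 := fun h => h2 (by linear_combination h)
      have k01 := key 0 1 (by simpa using hne)
      have k02 := key 0 2 (by simpa using hne)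
      have k10 := key 1 0 (by simpa using hne.symm)
      have k20 := key 2 0 (by simpa using hne.symm)
      set A : Matrix (Fin 2) (Fin 2) F := !![(k : Matrix (Fin 3) (Fin 3) F) 1 1,
        (k : Matrix (Fin 3) (Fin 3) F) 1 2; (k : Matrix (Fin 3) (Fin 3) F) 2 1,
        (k : Matrix (Fin 3) (Fin 3) F) 2 2] with hA
      have hdet : (k : Matrix (Fin 3) (Fin 3) F) 0 0 * A.det = 1 := by
        have hdk := k.det_coe
        rw [Matrix.det_fin_three, k01, k02, k10, k20] at hdk
        rw [hA, Matrix.det_fin_two]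
        simp only [Matrix.of_apply, Matrix.cons_val', Matrix.cons_val_zero, Matrix.cons_val_one,
          Matrix.empty_val', Matrix.cons_val_fin_one]
        linear_combination hdk
      refine ⟨Matrix.GeneralLinearGroup.mkOfDetNeZero A (right_ne_zero_of_mul_eq_one hdet), ?_⟩
      refine congrArg π (Subtype.ext ?_)
      show blockMat A = _
      ext i j
      fin_cases i <;> fin_cases j <;>
        simp [blockMat, hA, k01, k02, k10, k20]
      rw [← Matrix.det_fin_two_of]
      exact (eq_inv_of_mul_eq_one_left hdet).symm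
  -- the kernel consists of the scalars `μ` with `μ ^ 3 = 1`
  have hkmem : ∀ A : GL (Fin 2) F, A ∈ φ.ker ↔ ∃ μ : F, μ ^ 3 = 1 ∧
      (A : Matrix (Fin 2) (Fin 2) F) = Matrix.scalar (Fin 2) μ := by
    intro A
    constructor
    · intro hA
      obtain ⟨r, hr, he⟩ := mem_center_scalar ((QuotientGroup.eq_one_iff _).1
        (show π (blockHom A) = 1 from hA))
      have he' : blockMat (A : Matrix (Fin 2) (Fin 2) F) = Matrix.scalar (Fin 3) r := he
      refine ⟨r, hr, ?_⟩
      ext i j
      have h := fun a b => congrFun (congrFun he' a) b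
      have h11 := h 1 1
      have h12 := h 1 2
      have h21 := h 2 1
      have h22 := h 2 2
      simp [blockMat] at h11 h12 h21 h22
      fin_cases i <;> fin_cases j <;> simp [h11, h12, h21, h22]
    · rintro ⟨μ, hμ, he⟩
      show π (blockHom A) = 1
      refine (QuotientGroup.eq_one_iff _).2 (Matrix.SpecialLinearGroup.mem_center_iff.2 ⟨μ, ?_, ?_⟩)
      · simpa using hμ
      · show _ = blockMat (A : Matrix (Fin 2) (Fin 2) F)
        rw [he]
        ext i j
        fin_cases i <;> fin_cases j <;> simp [blockMat]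
        exact eq_inv_of_mul_eq_one_left (by linear_combination hμ)
  have hker : Nat.card φ.ker = Nat.gcd (Fintype.card F - 1) 3 := by
    rw [← Cfsg.Agent.Lib.Classical.natCard_units (F := F), ← IsCyclic.card_powMonoidHom_ker]
    symm
    refine Nat.card_congr (Equiv.ofBijective (fun μ =>
      ⟨Matrix.GeneralLinearGroup.mkOfDetNeZero (Matrix.scalar (Fin 2) ((μ : Fˣ) : F))
        (by simp), (hkmem _).2 ⟨((μ : Fˣ) : F), ?_, rfl⟩⟩) ⟨?_, ?_⟩)
    · have := congrArg Units.val (show (μ : Fˣ) ^ 3 = 1 from μ.2)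
      simpa using this
    · intro μ ν h
      have h1 := congrArg (fun A : φ.ker => ((A : GL (Fin 2) F) : Matrix (Fin 2) (Fin 2) F) 0 0) h
      refine Subtype.ext (Units.ext ?_)
      simpa using h1
    · rintro ⟨A, hA⟩
      obtain ⟨μ, hμ, he⟩ := (hkmem A).1 hA
      refine ⟨⟨Units.mk0 μ (by rintro rfl; norm_num at hμ), Units.ext (by simpa using hμ)⟩, ?_⟩
      exact Subtype.ext (Units.ext he.symm)
  refine ⟨φ.ker, inferInstance, fun A hA => ?_, hker, ⟨?_⟩⟩
  · obtain ⟨μ, -, he⟩ := (hkmem A).1 hA
    refine Subgroup.mem_center_iff.2 fun B => Units.ext ?_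
    rw [Units.val_mul, Units.val_mul, he]
    exact (Matrix.scalar_commute μ (fun r => Commute.all μ r) (B : Matrix (Fin 2) (Fin 2) F)).eq.symm
  · refine (MulEquiv.trans ?_ (QuotientGroup.quotientKerEquivRange φ).symm)
    refine ((Subgroup.equivMapOfInjective _ ((MulAut.conj (π g)⁻¹).toMonoidHom)
      (MulEquiv.injective _)).trans ?_)
    refine MulEquiv.subgroupCongr ?_
    rw [hrange]
    ext x
    rw [Subgroup.mem_map_equiv, Subgroup.mem_centralizer_singleton_iff,
      Subgroup.mem_centralizer_singleton_iff]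
    have hsD : π s = π g * D * (π g)⁻¹ := by rw [← hs'eq, hg, hD, map_mul, map_mul, map_inv]
    show _ * π s = π s * _ ↔ _
    rw [MulAut.conj_symm_apply, inv_inv, hsD]
    constructor
    · intro h
      calc x * D = (π g)⁻¹ * ((π g * x * (π g)⁻¹) * (π g * D * (π g)⁻¹)) * π g := by group
        _ = (π g)⁻¹ * ((π g * D * (π g)⁻¹) * (π g * x * (π g)⁻¹)) * π g := by rw [h]
        _ = D * x := by group
    · intro h
      calc π g * x * (π g)⁻¹ * (π g * D * (π g)⁻¹) = π g * (x * D) * (π g)⁻¹ := by group
        _ = π g * (D * x) * (π g)⁻¹ := by rw [h]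
        _ = _ := by group

end Cfsg.Agent.S1219
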