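import Cfsg.Statements.S0129
import Cfsg.Agent.Lib.PLocal.PGroupBasic

set_option autoImplicit false
open Cfsg

namespace Cfsg.Agent.S0129

/-- The order of a p-group is bounded by p^(a(a+1)/2) when it has a maximal normal abelian subgroup of order p^a. -/
theorem result {G : Type*} [Group G] [Finite G] {p : ℕ} [Fact p.Prime] (hG : IsPGroup p G) (A : Subgroup G) [A.Normal] (hA : IsMulCommutative A) (hmax : ∀ B : Subgroup G, B.Normal → IsMulCommutative B → A ≤ B → B = A) (a : ℕ) (ha : Nat.card A = p ^ a) : Nat.card G ≤ p ^ (a * (a + 1) / 2) := by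
  have hC : Subgroup.centralizer (A : Set G) = A := le_antisymm
    (Cfsg.Agent.Lib.PLocal.centralizer_le_of_max hG A hA hmax)
    (fun x hx y hy => congrArg Subtype.val (hA.is_comm.comm ⟨y, hy⟩ ⟨x, hx⟩))
  have h := Cfsg.Agent.Lib.PLocal.index_centralizer_le a hG A ha
  rw [hC] at h
  calc Nat.card G = Nat.card A * A.index := (Subgroup.card_mul_index A).symm
    _ ≤ p ^ a * p ^ (a * (a - 1) / 2) := Nat.mul_le_mul ha.le h
    _ = p ^ (a * (a + 1) / 2) := by
        rw [← pow_add]; congr 1
        cases a with
        | zero => rfl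
        | succ b =>
          rw [Nat.add_sub_cancel, show (b + 1) * (b + 1 + 1) = (b + 1) * b + (b + 1) * 2 by ring,
            Nat.add_mul_div_right _ _ (by norm_num : 0 < 2), add_comm]

end Cfsg.Agent.S0129
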