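import Cfsg.Statements.S0118
import Cfsg.Agent.Lib.PLocal.Dickson
import Cfsg.Agent.Lib.PLocal.ZJFusion
import Cfsg.Agent.Lib.PLocal.QdNotStable

set_option autoImplicit false
open Cfsg

namespace Cfsg.Agent.S0118

/-- Glauberman's ZJ-Theorem, in the case of groups with no section isomorphic to SL(2,p), p odd: conjugation of subsets of a Sylow p-subgroup P inside P is always induced from the normalizer of Z(J(P)). -/
theorem result {G : Type*} [Group G] [Finite G] {p : ℕ} [Fact p.Prime] (hp : p ≠ 2) (hfree : ¬ ∃ (H K : Subgroup G) (hK : (K.subgroupOf H).Normal), Nonempty ((H ⧸ K.subgroupOf H) ≃* Matrix.SpecialLinearGroup (Fin 2) (ZMod p))) (P : Sylow p G) (A : Set G) (hA : A ⊆ (P : Set G)) (g : G) (hAg : (fun a => g⁻¹ * a * g) '' A ⊆ (P : Set G)) : ∃ n ∈ Subgroup.normalizer (Cfsg.centerThompsonOf p (P : Subgroup G) : Set G), ∀ a ∈ A, n⁻¹ * a * n = g⁻¹ * a * g := by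
  have hqd : ¬ Cfsg.Involves ↥(Cfsg.qd p) G := by
    rintro ⟨K, R, hR, ⟨e⟩⟩
    let f : K →* Matrix.SpecialLinearGroup (Fin 2) (ZMod p) :=
      ((Lib.LocalEven.Qd.proj (F := ZMod p)).comp e.toMonoidHom).comp (QuotientGroup.mk' (R.subgroupOf K))
    obtain ⟨K', R', hR', he⟩ := Lib.PLocal.involves_of_surjective f
      ((Lib.LocalEven.Qd.proj_surjective.comp e.surjective).comp (QuotientGroup.mk'_surjective _))
    exact hfree ⟨K', R', hR', he⟩
  have h := Lib.PLocal.controls_of_family Lib.PLocal.isCharPFunctor_zjE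
    (Lib.PLocal.family_zjE (G := G) hp (fun Y _ _ hY =>
      Lib.PLocal.isNormalizerPStable_of_involved Lib.PLocal.dicksonTwo hp hqd hY) G
      Lib.FusionControl.involves_self) P A hA
  rw [Lib.PLocal.inducedFunctor_zjE] at h
  obtain ⟨x, hx, hxe⟩ := h.2 g⁻¹ (by simpa using hAg)
  exact ⟨x⁻¹, inv_mem hx, fun a ha => by simpa using (hxe a ha).symm⟩

end Cfsg.Agent.S0118
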