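import Cfsg.Statements.S2761
import Cfsg.Agent.Lib.LocalEven.Qd
import Cfsg.Agent.Lib.Classical.LinearCard

set_option autoImplicit false
open Cfsg Cfsg.Agent Cfsg.Agent.Lib Cfsg.Agent.Lib.LocalEven

namespace Cfsg.Agent.S2761

/-- The group Qd(2), the natural semidirect product of an elementary abelian group of order 4 by SL₂(2) (realised as the affine subgroup of SL₃(2)), is isomorphic to the symmetric group of degree 4. -/
theorem result : Nonempty (↥(Cfsg.qd 2) ≃* Equiv.Perm (Fin 4)) := by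
  classical
  show Nonempty (↥(Cfsg.qdOver (ZMod 2)) ≃* Equiv.Perm (Fin 4))
  let toFun : ↥(Cfsg.qdOver (ZMod 2)) → (Fin 2 → ZMod 2) → (Fin 2 → ZMod 2) :=
    fun M x => (Qd.proj M).1.mulVec x + ![M.1.1 0 2, M.1.1 1 2]
  have hel : ∀ g v x, toFun (Qd.el g v) x = g.1.mulVec x + v := fun g v x => by
    show (Qd.proj (Qd.el g v)).1.mulVec x + _ = _
    rw [Qd.proj_el]
    congr 1
    funext i; fin_cases i <;> simp [Qd.el, Qd.aff]
  letI : MulAction ↥(Cfsg.qdOver (ZMod 2)) (Fin 2 → ZMod 2) :=
    { smul := toFun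
      one_smul := fun x => by
        show toFun 1 x = x
        rw [← Qd.el_one, hel]; simp
      mul_smul := fun M N x => by
        obtain ⟨g, v, rfl⟩ := Qd.el_surj M
        obtain ⟨h, w, rfl⟩ := Qd.el_surj N
        show toFun _ x = toFun _ (toFun _ x)
        rw [Qd.el_mul, hel, hel, hel, Matrix.mulVec_add, Matrix.mulVec_mulVec,
          Matrix.SpecialLinearGroup.coe_mul]
        abel }
  let φ := MulAction.toPermHom ↥(Cfsg.qdOver (ZMod 2)) (Fin 2 → ZMod 2)
  have hinj : Function.Injective φ := by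
    rw [injective_iff_map_eq_one]
    intro M hM
    obtain ⟨g, v, rfl⟩ := Qd.el_surj M
    have h : ∀ x, g.1.mulVec x + v = x := fun x => (hel g v x).symm.trans (Equiv.ext_iff.1 hM x)
    have hv : v = 0 := by simpa using h 0
    subst hv
    have hg : g = 1 := Subtype.ext (Matrix.ext_of_mulVec_single fun j => by
      rw [Matrix.SpecialLinearGroup.coe_one, Matrix.one_mulVec]; simpa using h (Pi.single j 1))
    rw [hg, Qd.el_one]
  have hcard : Nat.card ↥(Cfsg.qdOver (ZMod 2)) = Nat.card (Equiv.Perm (Fin 2 → ZMod 2)) := by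
    rw [Subgroup.card_eq_card_quotient_mul_card_subgroup (Qd.proj (F := ZMod 2)).ker,
      Nat.card_congr (QuotientGroup.quotientKerEquivOfSurjective _ Qd.proj_surjective).toEquiv,
      Qd.card_ker, Classical.card_SL2, Nat.card_perm, Nat.card_fun, Nat.card_fin, Nat.card_zmod, ZMod.card]
    decide
  haveI : Finite ↥(Cfsg.qdOver (ZMod 2)) := inferInstance
  refine ⟨(MulEquiv.ofBijective φ ((Nat.bijective_iff_injective_and_card φ).2 ⟨hinj, hcard⟩)).trans
    (Equiv.permCongrHom (Fintype.equivFinOfCardEq ?_))⟩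
  simp [ZMod.card]

end Cfsg.Agent.S2761
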