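import Cfsg.Statements.S2759
import Cfsg.Agent.Lib.LocalEven.Qd
import Cfsg.Agent.Lib.LocalEven.Kieler
import Cfsg.Agent.Lib.Coprime.Action
import Cfsg.Agent.Lib.Cores.Frattini
import Cfsg.Agent.Lib.Classical.SLTwo
import Cfsg.Agent.Lib.Fusion.Involves
import Cfsg.Agent.S2761

set_option autoImplicit false
open Cfsg Cfsg.Agent Cfsg.Agent.Lib Cfsg.Agent.Lib.LocalEven

namespace Cfsg.Agent.S2759

open scoped commutatorElement

universe u

theorem le_normalizer_map_char {G : Type u} [Group G] {U A : Subgroup G} (hA : A ≤ Subgroup.normalizer (U : Set G))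
    (T : Subgroup ↥U) [T.Characteristic] : A ≤ Subgroup.normalizer ((T.map U.subtype : Subgroup G) : Set G) := by
  rw [le_normalizer_iff_forall]
  have key : ∀ g ∈ A, conjS g (T.map U.subtype) ≤ T.map U.subtype := by
    intro g hg y hy
    rw [mem_conjS] at hy
    let φ : ↥U ≃* ↥U :=
      (Subgroup.equivMapOfInjective _ (MulAut.conj g).toMonoidHom (MulAut.conj g).injective).trans
        (MulEquiv.subgroupCongr (conjS_eq_self_iff.2 (hA hg)))
    obtain ⟨w, hw, hwe⟩ := hy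
    have h1 : φ w ∈ T := by
      rw [SetLike.mem_coe, ← (inferInstance : T.Characteristic).fixed φ, Subgroup.mem_comap] at hw
      exact hw
    refine ⟨φ w, h1, ?_⟩
    show g * (w : G) * g⁻¹ = y
    rw [show (w : G) = g⁻¹ * y * g from hwe]
    group
  intro g hg
  refine le_antisymm (key g hg) ?_
  have := conjS_mono g (key g⁻¹ (inv_mem hg))
  rwa [conjS_cancel_inv] at this

/-- The affine plane over `𝔽₂`: `z` of order three inverted by `t`. -/
theorem four_to_S4 {G : Type u} [Group G] [Finite G] (z t v : G) (hzt : t * z * t⁻¹ = z⁻¹)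
    (hv : v * v = 1) (hne : z * v * z⁻¹ ≠ v) (hcom : Commute v (z * v * z⁻¹))
    (hz2 : z * (z * v * z⁻¹) * z⁻¹ = v * (z * v * z⁻¹)) (htv : t * v = v * t) :
    Cfsg.Involves (Equiv.Perm (Fin 4)) G := by
  classical
  set w := z * v * z⁻¹ with hw
  have hw2 : w * w = 1 := by
    rw [hw, show z * v * z⁻¹ * (z * v * z⁻¹) = z * (v * v) * z⁻¹ by group, hv]; group
  have hv1 : v ≠ 1 := fun h => hne (by rw [hw, h]; group)
  have hzvw : z * (v * w) * z⁻¹ = v := by
    rw [show z * (v * w) * z⁻¹ = (z * v * z⁻¹) * (z * w * z⁻¹) by group, hz2, ← hw, ← mul_assoc, ← hcom.eq,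
      mul_assoc, hw2, mul_one]
  have htw : t * w * t⁻¹ = v * w := by
    have h1 : z⁻¹ * v * z = v * w := by
      conv_lhs => rw [← hzvw]
      group
    calc t * w * t⁻¹ = (t * z * t⁻¹) * (t * v * t⁻¹) * (t * z * t⁻¹)⁻¹ := by rw [hw]; group
      _ = z⁻¹ * v * z := by rw [hzt, htv, mul_inv_cancel_right, inv_inv]
      _ = v * w := h1
  have cwv : w * v = v * w := hcom.eq.symm
  have hvv : ∀ x, v * (v * x) = x := fun x => by rw [← mul_assoc, hv, one_mul]
  have hww : ∀ x, w * (w * x) = x := fun x => by rw [← mul_assoc, hw2, one_mul]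
  have hwvx : ∀ x, w * (v * x) = v * (w * x) := fun x => by rw [← mul_assoc, cwv, mul_assoc]
  have hvi : v⁻¹ = v := inv_eq_of_mul_eq_one_right hv
  have hwi : w⁻¹ = w := inv_eq_of_mul_eq_one_right hw2
  let V : Subgroup G :=
    { carrier := {1, v, w, v * w}
      one_mem' := Or.inl rfl
      mul_mem' := by
        rintro a b (ha | ha | ha | ha) (hb | hb | hb | hb) <;> rw [ha, hb] <;>
          simp [hv, hw2, hvv, hww, hwvx, cwv, mul_assoc]
      inv_mem' := by
        rintro a (ha | ha | ha | ha) <;> rw [ha] <;> simp [hvi, hwi, mul_inv_rev, cwv] }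
  have hV : ∀ a, a ∈ V ↔ a = 1 ∨ a = v ∨ a = w ∨ a = v * w := fun a => Iff.rfl
  set A := Subgroup.closure ({z, t} : Set G) with hA
  have hzA : z ∈ A := Subgroup.subset_closure (Or.inl rfl)
  have htA : t ∈ A := Subgroup.subset_closure (Or.inr rfl)
  have hzN : z ∈ Subgroup.normalizer (V : Set G) := by
    rw [← conjS_eq_self_iff]
    refine Subgroup.eq_of_le_of_card_ge (fun x hx => ?_) (card_conjS z V).ge
    rw [mem_conjS, hV] at hx
    rw [hV]
    rcases hx with h | h | h | h <;> replace h := congrArg (fun s => z * s * z⁻¹) h <;>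
      rw [show z * (z⁻¹ * x * z) * z⁻¹ = x by group] at h
    · left; rw [h]; group
    · exact Or.inr (Or.inr (Or.inl h))
    · exact Or.inr (Or.inr (Or.inr (h.trans hz2)))
    · exact Or.inr (Or.inl (h.trans hzvw))
  have htN : t ∈ Subgroup.normalizer (V : Set G) := by
    rw [← conjS_eq_self_iff]
    refine Subgroup.eq_of_le_of_card_ge (fun x hx => ?_) (card_conjS t V).ge
    rw [mem_conjS, hV] at hx
    rw [hV]
    rcases hx with h | h | h | h <;> replace h := congrArg (fun s => t * s * t⁻¹) h <;>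
      rw [show t * (t⁻¹ * x * t) * t⁻¹ = x by group] at h
    · left; rw [h]; group
    · exact Or.inr (Or.inl (h.trans (by rw [htv, mul_inv_cancel_right])))
    · exact Or.inr (Or.inr (Or.inr (h.trans htw)))
    · refine Or.inr (Or.inr (Or.inl (h.trans ?_)))
      rw [show t * (v * w) * t⁻¹ = (t * v * t⁻¹) * (t * w * t⁻¹) by group, htw, htv, mul_inv_cancel_right,
        hvv]
  have hAV : A ≤ Subgroup.normalizer (V : Set G) := (Subgroup.closure_le _).2 (by
    rintro x (h | h) <;> rw [h] <;> assumption)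
  -- an element of `A` centralizing `v` and `w` inverts or centralizes `z`
  let S : Subgroup G :=
    { carrier := {a | a * z * a⁻¹ = z ∨ a * z * a⁻¹ = z⁻¹}
      one_mem' := Or.inl (by group)
      mul_mem' := fun {a b} ha hb => by
        simp only [Set.mem_ofPred_eq] at ha hb ⊢
        rw [show a * b * z * (a * b)⁻¹ = a * (b * z * b⁻¹) * a⁻¹ by group]
        rcases hb with hb | hb <;> rw [hb]
        · exact ha
        · rw [← conj_inv]; rcases ha with ha | ha <;> rw [ha]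
          · exact Or.inr rfl
          · exact Or.inl (inv_inv z)
      inv_mem' := fun {a} ha => by
        simp only [Set.mem_ofPred_eq] at ha ⊢
        rcases ha with ha | ha
        · left; conv_lhs => rw [← ha]
          group
        · right
          have h' : a⁻¹ * z⁻¹ * a = z := by rw [← ha]; group
          rw [show a⁻¹ * z * a⁻¹⁻¹ = (a⁻¹ * z⁻¹ * a)⁻¹ by group, h'] }
  have hAS : A ≤ S := (Subgroup.closure_le _).2 (by
    rintro x (h | h) <;> rw [h]
    · exact Or.inl (by group)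
    · exact Or.inr hzt)
  have hvwne : v * w ≠ v ∧ v * w ≠ w ∧ v * w ≠ 1 := by
    refine ⟨fun h => hv1 ?_, fun h => hv1 (mul_eq_right.1 h), fun h => hne ?_⟩
    · have : w = 1 := mul_eq_left.1 h
      have h2 := congrArg (fun s => z⁻¹ * s * z) this
      simp only [hw] at h2
      simpa [mul_assoc] using h2
    · rw [← inv_eq_of_mul_eq_one_right h, hvi]
  have hAVbot : ∀ a ∈ A, a ∈ V → a = 1 := by
    intro a ha haV
    have hav : Commute a v := by
      rcases (hV a).1 haV with h | h | h | h <;> rw [h]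
      · exact Commute.one_left v
      · exact hcom.symm
      · exact (Commute.refl v).mul_left hcom.symm
    have haw : Commute a w := by
      rcases (hV a).1 haV with h | h | h | h <;> rw [h]
      · exact Commute.one_left w
      · exact hcom
      · exact hcom.mul_left (Commute.refl w)
    rcases hAS ha with h | h
    · -- `z` fixes `a`
      have hfix : z * a * z⁻¹ = a := by rw [← (mul_inv_eq_iff_eq_mul.1 h), mul_inv_cancel_right]
      rcases (hV a).1 haV with e | e | e | e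
      · exact e
      · rw [e] at hfix; exact absurd hfix hne
      · rw [e] at hfix; exact absurd (mul_eq_right.1 (hfix.symm.trans hz2).symm) hv1
      · rw [e] at hfix; exact absurd (hfix.symm.trans hzvw) hvwne.1
    · exfalso
      have h1 : z⁻¹ * v * z = w := by
        calc z⁻¹ * v * z = (a * z * a⁻¹) * (a * v * a⁻¹) * (a * z * a⁻¹)⁻¹ := by
              rw [h, hav.eq, mul_inv_cancel_right, inv_inv]
          _ = a * w * a⁻¹ := by rw [hw]; group
          _ = w := by rw [haw.eq, mul_inv_cancel_right]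
      apply hvwne.2.1
      rw [← h1]
      conv_rhs => rw [← hzvw]
      rw [show z⁻¹ * (z * (v * w) * z⁻¹) * z = v * w by group, h1]
  set H := V ⊔ A with hH
  set M := A.subgroupOf H with hM
  let f : ↥V → ↥H ⧸ M := fun x => QuotientGroup.mk ⟨x.1, Subgroup.mem_sup_left x.2⟩
  have hf : Function.Bijective f := by
    refine ⟨fun x y h => ?_, fun q => ?_⟩
    · have h1 : (x : G)⁻¹ * y ∈ A := by
        have h2 := QuotientGroup.eq.1 (show (QuotientGroup.mk (⟨x.1, Subgroup.mem_sup_left x.2⟩ : ↥H) : ↥H ⧸ M) =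
          QuotientGroup.mk ⟨y.1, Subgroup.mem_sup_left y.2⟩ from h)
        exact h2
      exact Subtype.ext (inv_mul_eq_one.1 (hAVbot _ h1 (mul_mem (inv_mem x.2) y.2)))
    · induction q using QuotientGroup.induction_on with
      | _ k =>
        have hk : (k : G) ∈ ((V ⊔ A : Subgroup G) : Set G) := k.2
        rw [Subgroup.coe_mul_of_right_le_normalizer_left _ _ hAV] at hk
        obtain ⟨x, hx, a, ha, hxa⟩ := hk
        refine ⟨⟨x, hx⟩, QuotientGroup.eq.2 ?_⟩
        rw [hM, Subgroup.mem_subgroupOf]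
        show x⁻¹ * (k : G) ∈ A
        rw [← hxa]
        simpa [mul_assoc] using ha
  have h4 : Nat.card (↥H ⧸ M) = 4 := by
    rw [← Nat.card_congr (Equiv.ofBijective f hf)]
    show Nat.card ↥({1, v, w, v * w} : Set G) = 4
    have hw1 : (1 : G) ≠ w := fun h => hv1 (by
      have h2 := congrArg (fun s => z⁻¹ * s * z) h.symm
      simp only [hw] at h2
      simpa [mul_assoc] using h2)
    rw [Nat.card_coe_set_eq, Set.ncard_insert_of_notMem (fun h => ?_), Set.ncard_insert_of_notMem (fun h => ?_),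
      Set.ncard_pair hvwne.2.1.symm]
    · rcases h with h | h
      · exact hne h.symm
      · exact hvwne.1 (Eq.symm h)
    · rcases h with h | h | h
      · exact hv1.symm h
      · exact hw1 h
      · exact hvwne.2.2 (Eq.symm h)
  let φ := MulAction.toPermHom ↥H (↥H ⧸ M)
  haveI := Fintype.ofFinite (↥H ⧸ M)
  let p0 : ↥H ⧸ M := QuotientGroup.mk 1
  let zH : ↥H := ⟨z, Subgroup.mem_sup_right hzA⟩
  let tH : ↥H := ⟨t, Subgroup.mem_sup_right htA⟩
  set R := φ.range with hR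
  set S' := MulAction.stabilizer ↥R p0 with hS'
  let a : ↥R := φ.rangeRestrict zH
  let b : ↥R := φ.rangeRestrict tH
  have hfix : ∀ k : ↥H, (k : G) ∈ A → φ.rangeRestrict k ∈ S' := by
    intro k hk
    rw [hS', MulAction.mem_stabilizer_iff]
    show k • p0 = p0
    exact QuotientGroup.eq.2 (by
      rw [hM, Subgroup.mem_subgroupOf]; simpa using inv_mem hk)
  have hz3 : ∀ x ∈ V, z * z * z * x = x * (z * z * z) := by
    intro x hx
    have e1 : z * (z * (z * v * z⁻¹) * z⁻¹) * z⁻¹ = v := by rw [← hw, hz2, hzvw]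
    have hcv : Commute (z * z * z) v := by
      rw [← mul_inv_eq_iff_eq_mul] at *
      show z * z * z * v = v * (z * z * z)
      rw [← mul_inv_eq_iff_eq_mul]
      conv_rhs => rw [← e1]
      group
    have hcw : Commute (z * z * z) w := by
      show z * z * z * w = w * (z * z * z)
      rw [← mul_inv_eq_iff_eq_mul]
      calc z * z * z * w * (z * z * z)⁻¹ = z * (z * z * z * v * (z * z * z)⁻¹) * z⁻¹ := by rw [hw]; group
        _ = w := by rw [hcv.eq, mul_inv_cancel_right, ← hw]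
    rcases (hV x).1 hx with h | h | h | h <;> rw [h]
    · rw [one_mul, mul_one]
    · exact hcv.eq
    · exact hcw.eq
    · exact (hcv.mul_right hcw).eq
  have ha3 : a ^ 3 = 1 := by
    rw [show a ^ 3 = φ.rangeRestrict (zH ^ 3) from (map_pow _ _ _).symm]
    refine Subtype.ext (Equiv.ext fun q => ?_)
    obtain ⟨x, rfl⟩ := hf.2 q
    show zH ^ 3 • f x = f x
    refine QuotientGroup.eq.2 ?_
    rw [hM, Subgroup.mem_subgroupOf]
    show (z ^ 3 * (x : G))⁻¹ * x ∈ A
    rw [pow_three, ← mul_assoc z, hz3 _ x.2, mul_inv_rev, inv_mul_cancel_right]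
    exact inv_mem (mul_mem (mul_mem hzA hzA) hzA)
  have ha1 : a ≠ 1 := by
    intro h
    have h0 : φ zH = 1 := congrArg Subtype.val h
    have h1 : zH • f ⟨v, Or.inr (Or.inl rfl)⟩ = f ⟨v, Or.inr (Or.inl rfl)⟩ := by
      have := Equiv.ext_iff.1 h0 (f ⟨v, Or.inr (Or.inl rfl)⟩)
      exact this
    have h2 : (z * v)⁻¹ * v ∈ A := by
      have h2' := QuotientGroup.eq.1 (show (QuotientGroup.mk (zH * ⟨v, Subgroup.mem_sup_left (Or.inr (Or.inl rfl) : v ∈ V)⟩) : ↥H ⧸ M) =
        QuotientGroup.mk ⟨v, Subgroup.mem_sup_left (Or.inr (Or.inl rfl) : v ∈ V)⟩ from h1)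
      exact h2'
    have h3 : v * w ∈ A := by
      have e : v * w = v⁻¹ * z * v * z⁻¹ := by rw [hvi, hw]; group
      rw [e]
      refine mul_mem ?_ (inv_mem hzA)
      have := inv_mem h2
      simpa [mul_assoc] using this
    exact hvwne.2.2 (hAVbot _ h3 (Or.inr (Or.inr (Or.inr rfl))))
  have hab : b * a * b⁻¹ = a⁻¹ := by
    show φ.rangeRestrict tH * φ.rangeRestrict zH * (φ.rangeRestrict tH)⁻¹ = (φ.rangeRestrict zH)⁻¹
    rw [← map_inv, ← map_inv, ← map_mul, ← map_mul]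
    exact congrArg _ (Subtype.ext hzt)
  have hao : orderOf a = 3 := orderOf_eq_prime ha3 ha1
  have h3S : 3 ∣ Nat.card ↥S' := by
    rw [← hao, ← Subgroup.orderOf_mk a (hfix zH hzA)]
    exact orderOf_dvd_natCard _
  have h2S : 2 ∣ Nat.card ↥S' := by
    by_contra hodd
    have h1 : orderOf b ∣ Nat.card ↥S' := by
      rw [← Subgroup.orderOf_mk b (hfix tH htA)]; exact orderOf_dvd_natCard _
    have h2 : Odd (orderOf b) := Nat.not_even_iff_odd.1 fun he => hodd (he.two_dvd.trans h1)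
    obtain ⟨k, hk⟩ := h2
    have hsq : Commute (b ^ 2) a := by
      show b ^ 2 * a = a * b ^ 2
      rw [← mul_inv_eq_iff_eq_mul, pow_two, show b * b * a * (b * b)⁻¹ = b * (b * a * b⁻¹) * b⁻¹ by group,
        hab, ← conj_inv, hab, inv_inv]
    have hb : Commute b a := by
      have h3 : b = (b ^ 2) ^ (k + 1) := by
        rw [← pow_mul, show 2 * (k + 1) = orderOf b + 1 by omega, pow_succ, pow_orderOf_eq_one, one_mul]
      rw [h3]; exact hsq.pow_left _
    rw [hb.eq, mul_inv_cancel_right] at hab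
    have : a ^ 2 = 1 := by rw [pow_two]; nth_rw 2 [hab]; rw [mul_inv_cancel]
    exact ha1 (by rw [pow_succ, this, one_mul] at ha3; exact ha3)
  have h6 : 6 ∣ Nat.card ↥S' := Nat.Coprime.mul_dvd_of_dvd_of_dvd (by decide : Nat.Coprime 2 3) h2S h3S
  have horb : MulAction.orbit ↥R p0 = Set.univ := by
    refine Set.eq_univ_of_forall fun q => ?_
    induction q using QuotientGroup.induction_on with
    | _ k => exact ⟨φ.rangeRestrict k, QuotientGroup.eq.2 (by simp [hM, Subgroup.mem_subgroupOf])⟩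
  have h24 : 24 ≤ Nat.card ↥R := by
    have h1 := Nat.card_congr (MulAction.orbitProdStabilizerEquivGroup ↥R p0)
    rw [Nat.card_prod, horb, Nat.card_univ, h4, ← hS'] at h1
    rw [← h1]
    exact Nat.le_trans (by norm_num) (Nat.mul_le_mul_left 4 (Nat.le_of_dvd Nat.card_pos h6))
  have hperm : Nat.card (Equiv.Perm (↥H ⧸ M)) = 24 := by rw [Nat.card_perm, h4]; rfl
  have hsurj : Function.Surjective φ :=
    MonoidHom.range_eq_top.1 (Subgroup.eq_top_of_le_card _ (hperm.le.trans h24))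
  exact Fusion.involves_of_surjective H
    ((Equiv.permCongrHom (Fintype.equivFinOfCardEq (by rw [← Nat.card_eq_fintype_card]; exact h4))).toMonoidHom.comp φ)
    ((Equiv.permCongrHom (Fintype.equivFinOfCardEq (by rw [← Nat.card_eq_fintype_card]; exact h4))).surjective.comp hsurj)

/-- Two-group version. -/
theorem to_four {G : Type u} [Group G] [Finite G] {T : Subgroup G} (hT : IsPGroup 2 T) {z t : G}
    (hzN : z ∈ Subgroup.normalizer (T : Set G)) (htN : t ∈ Subgroup.normalizer (T : Set G))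
    (hzt : t * z * t⁻¹ = z⁻¹) (hz3 : ∃ k, orderOf z = 3 ^ k) (ht2 : ∃ k, orderOf t = 2 ^ k)
    (hzc : z ^ 3 ∈ Subgroup.centralizer (T : Set G)) (hnc : z ∉ Subgroup.centralizer (T : Set G)) :
    Cfsg.Involves (Equiv.Perm (Fin 4)) G := by
  classical
  set A := Subgroup.closure ({z, t} : Set G) with hA
  set Z := Subgroup.zpowers z with hZ
  have hzA : z ∈ A := Subgroup.subset_closure (Or.inl rfl)
  have htA : t ∈ A := Subgroup.subset_closure (Or.inr rfl)
  have hAT : A ≤ Subgroup.normalizer (T : Set G) := (Subgroup.closure_le _).2 (by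
    rintro x (h | h) <;> rw [h] <;> assumption)
  have hAZ : A ≤ Subgroup.normalizer (Z : Set G) := (Subgroup.closure_le _).2 (by
    rintro x (h | h) <;> rw [h]
    · exact Subgroup.le_normalizer (Subgroup.mem_zpowers z)
    · rw [SetLike.mem_coe, ← conjS_eq_self_iff, conjS, MonoidHom.map_zpowers]
      show Subgroup.zpowers (t * z * t⁻¹) = _
      rw [hzt, Subgroup.zpowers_inv])
  have hPex : ∃ n, ∃ U : Subgroup G, Nat.card U = n ∧ U ≤ T ∧ A ≤ Subgroup.normalizer (U : Set G) ∧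
      ¬ U ≤ Subgroup.centralizer (Z : Set G) := by
    refine ⟨_, T, rfl, le_rfl, hAT, fun h => hnc (Subgroup.mem_centralizer_iff.2 fun x hx => ?_)⟩
    exact (Subgroup.mem_centralizer_iff.1 (h hx) z (Subgroup.mem_zpowers z)).symm
  obtain ⟨U, hUcard, hUT, hAU, hUnc⟩ := Nat.find_spec hPex
  have hmin : ∀ X : Subgroup G, X ≤ U → A ≤ Subgroup.normalizer (X : Set G) →
      ¬ X ≤ Subgroup.centralizer (Z : Set G) → X = U := fun X hXU hAX hXnc =>
    Subgroup.eq_of_le_of_card_ge hXU (hUcard.le.trans (Nat.find_min' hPex ⟨X, rfl, hXU.trans hUT, hAX, hXnc⟩))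
  have hU2 : IsPGroup 2 U := hT.to_le hUT
  obtain ⟨k3, hk3⟩ := hz3
  have hcopUZ : (Nat.card Z).Coprime (Nat.card U) := by
    obtain ⟨n, hn⟩ := IsPGroup.iff_card.1 hU2
    rw [hn, hZ, Nat.card_zpowers, hk3]
    exact Nat.Coprime.pow _ _ (by decide)
  have hZU : Z ≤ Subgroup.normalizer (U : Set G) := (Subgroup.zpowers_le.2 hzA).trans hAU
  haveI := hU2.isNilpotent
  have hUZ : ⁅U, Z⁆ = U := by
    refine hmin _ (LocalEven.commutator_le_of_le_normalizer hZU) (le_normalizer_commutator hAU hAZ) fun h => ?_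
    have h1 := Coprime.commutator_commutator_eq hZU hcopUZ (Or.inr inferInstance)
    rw [le_centralizer_iff_commutator.1 h] at h1
    exact hUnc (le_centralizer_iff_commutator.2 h1.symm)
  have hUne : U ≠ ⊥ := fun h => hUnc (by rw [h]; exact bot_le)
  haveI : Nontrivial ↥U := (Subgroup.nontrivial_iff_ne_bot _).2 hUne
  haveI : (frattini ↥U).Characteristic := frattini_characteristic
  set D := (frattini ↥U).map U.subtype with hD
  have hDU : D ≤ U := Subgroup.map_subtype_le _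
  have hDne : D ≠ U := fun h => Cores.frattini_ne_top (G := ↥U) (by
    refine Subgroup.map_injective U.subtype_injective ?_
    rw [← hD, h, ← MonoidHom.range_eq_map, Subgroup.range_subtype])
  have hAD : A ≤ Subgroup.normalizer (D : Set G) := le_normalizer_map_char hAU _
  have hUD : U ≤ Subgroup.normalizer (D : Set G) := le_normalizer_map_char Subgroup.le_normalizer _
  set N := Subgroup.normalizer (D : Set G) with hN
  haveI : (D.subgroupOf N).Normal := subgroupOf_normal_of_le le_rfl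
  let q := QuotientGroup.mk' (D.subgroupOf N)
  set Ub := (U.subgroupOf N).map q with hUb
  set zb := q ⟨z, hAD hzA⟩ with hzb
  set tb := q ⟨t, hAD htA⟩ with htb
  have hexp : ∀ x ∈ Ub, x * x = 1 := by
    rintro _ ⟨x, hx, rfl⟩
    rw [← map_mul]
    refine (QuotientGroup.eq_one_iff _).2 ?_
    rw [Subgroup.mem_subgroupOf]
    refine ⟨(⟨x.1, hx⟩ : ↥U) ^ 2, Cores.pow_mem_frattini hU2 _, ?_⟩
    show (x : G) ^ 2 = _
    rw [pow_two]; rfl
  have hab : ∀ x ∈ Ub, ∀ y ∈ Ub, x * y = y * x := fun x hx y hy => by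
    have h := hexp _ (mul_mem hx hy)
    have hi : ∀ s ∈ Ub, s⁻¹ = s := fun s hs => inv_eq_of_mul_eq_one_right (hexp s hs)
    rw [← hi (x * y) (mul_mem hx hy), mul_inv_rev, hi x hx, hi y hy]
  have hnormUb : ∀ (n : G) (hn : n ∈ N), n ∈ Subgroup.normalizer (U : Set G) → ∀ x ∈ Ub,
      q ⟨n, hn⟩ * x * (q ⟨n, hn⟩)⁻¹ ∈ Ub := by
    rintro n hn hnU _ ⟨x, hx, rfl⟩
    exact ⟨⟨n, hn⟩ * x * ⟨n, hn⟩⁻¹, (Subgroup.mem_normalizer_iff.1 hnU _).1 hx, by rw [map_mul, map_mul, map_inv]⟩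
  have hzx : ∀ x ∈ Ub, zb * x * zb⁻¹ ∈ Ub := hnormUb z _ (hAU hzA)
  have hz3x : ∀ x ∈ Ub, zb * (zb * (zb * x * zb⁻¹) * zb⁻¹) * zb⁻¹ = x := by
    rintro _ ⟨x, hx, rfl⟩
    rw [hzb, ← map_inv, ← map_mul, ← map_mul, ← map_mul, ← map_mul, ← map_mul, ← map_mul]
    refine congrArg q (Subtype.ext ?_)
    show z * (z * (z * (x : G) * z⁻¹) * z⁻¹) * z⁻¹ = x
    have h1 : (x : G) * z ^ 3 = z ^ 3 * x := Subgroup.mem_centralizer_iff.1 hzc _ (hUT hx)
    calc z * (z * (z * (x : G) * z⁻¹) * z⁻¹) * z⁻¹ = z ^ 3 * x * (z ^ 3)⁻¹ := by rw [pow_three]; group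
      _ = x := by rw [← h1, mul_inv_cancel_right]
  let nf : _ → _ := fun x => x * (zb * x * zb⁻¹) * (zb * (zb * x * zb⁻¹) * zb⁻¹)
  have hnfmul : ∀ x ∈ Ub, ∀ y ∈ Ub, nf (x * y) = nf x * nf y := by
    intro x hx y hy
    simp only [nf]
    set x1 := zb * x * zb⁻¹ with hx1d
    set y1 := zb * y * zb⁻¹ with hy1d
    set x2 := zb * x1 * zb⁻¹ with hx2d
    set y2 := zb * y1 * zb⁻¹ with hy2d
    have hx1 := hzx x hx; have hy1 := hzx y hy
    have hx2 := hzx x1 hx1; have hy2 := hzx y1 hy1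
    have e1 : zb * (x * y) * zb⁻¹ = x1 * y1 := by rw [hx1d, hy1d]; group
    have e2 : zb * (x1 * y1) * zb⁻¹ = x2 * y2 := by rw [hx2d, hy2d]; group
    rw [e1, e2]
    calc x * y * (x1 * y1) * (x2 * y2) = x * (y * x1) * (y1 * x2) * y2 := by group
      _ = x * (x1 * y) * (x2 * y1) * y2 := by rw [hab y hy x1 hx1, hab y1 hy1 x2 hx2]
      _ = x * x1 * (y * x2) * y1 * y2 := by group
      _ = x * x1 * (x2 * y) * y1 * y2 := by rw [hab y hy x2 hx2]
      _ = x * x1 * x2 * (y * y1 * y2) := by group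
  have hnfz : ∀ x ∈ Ub, nf (zb * x * zb⁻¹) = nf x := by
    intro x hx
    simp only [nf]
    rw [hz3x x hx, ← hab x hx _ (mul_mem (hzx x hx) (hzx _ (hzx x hx)))]
    group
  let S : Subgroup ↥U :=
    { carrier := {x | nf (q ⟨x.1, hUD x.2⟩) = 1}
      one_mem' := by
        show nf (q ⟨1, _⟩) = 1
        rw [show (⟨(1 : G), hUD (one_mem U)⟩ : ↥N) = 1 from rfl, map_one]; simp [nf]
      mul_mem' := fun {x y} hx hy => by
        show nf (q ⟨(x : G) * y, _⟩) = 1
        rw [show (⟨(x : G) * y, hUD (x * y).2⟩ : ↥N) = ⟨x.1, hUD x.2⟩ * ⟨y.1, hUD y.2⟩ from rfl, map_mul,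
          hnfmul _ (Subgroup.mem_map_of_mem _ x.2) _ (Subgroup.mem_map_of_mem _ y.2)]
        exact (congrArg₂ (· * ·) hx hy).trans (one_mul 1)
      inv_mem' := fun {x} hx => by
        show nf (q ⟨(x : G)⁻¹, _⟩) = 1
        rw [show (⟨(x : G)⁻¹, hUD (x⁻¹).2⟩ : ↥N) = (⟨x.1, hUD x.2⟩ : ↥N)⁻¹ from rfl, map_inv,
          inv_eq_of_mul_eq_one_right (hexp _ (Subgroup.mem_map_of_mem _ x.2))]
        exact hx }
  have hS : ∀ x ∈ Ub, nf x = 1 := by
    rintro _ ⟨x, hx, rfl⟩
    have hle : U ≤ S.map U.subtype := by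
      conv_lhs => rw [← hUZ]
      rw [Subgroup.commutator_le]
      intro u hu c hc
      have hmem : ⁅u, c⁆ ∈ U := LocalEven.commutator_le_of_le_normalizer hZU (Subgroup.commutator_mem_commutator hu hc)
      refine ⟨⟨_, hmem⟩, ?_, rfl⟩
      show nf (q ⟨⁅u, c⁆, _⟩) = 1
      set ub := q ⟨u, hUD hu⟩ with hub
      have hubU : ub ∈ Ub := ⟨⟨u, hUD hu⟩, hu, rfl⟩
      obtain ⟨i, hi⟩ := Subgroup.mem_zpowers_iff.1 hc
      have hconj : ∀ i : ℤ, ∀ y ∈ Ub, zb ^ i * y * (zb ^ i)⁻¹ ∈ Ub ∧ nf (zb ^ i * y * (zb ^ i)⁻¹) = nf y := by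
        intro i
        induction i using Int.induction_on with
        | zero => intro y hy; rw [zpow_zero, one_mul, inv_one, mul_one]; exact ⟨hy, rfl⟩
        | succ n ih =>
          intro y hy
          obtain ⟨h1, h2⟩ := ih _ (hzx y hy)
          rw [show zb ^ ((n : ℤ) + 1) * y * (zb ^ ((n : ℤ) + 1))⁻¹ =
            zb ^ (n : ℤ) * (zb * y * zb⁻¹) * (zb ^ (n : ℤ))⁻¹ by group]
          exact ⟨h1, h2.trans (hnfz y hy)⟩
        | pred n ih =>
          intro y hy
          set y' := zb * (zb * y * zb⁻¹) * zb⁻¹ with hy'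
          have hy'U : y' ∈ Ub := hzx _ (hzx y hy)
          obtain ⟨h1, h2⟩ := ih _ hy'U
          rw [show zb ^ (-(n : ℤ) - 1) * y * (zb ^ (-(n : ℤ) - 1))⁻¹ =
            zb ^ (-(n : ℤ)) * y' * (zb ^ (-(n : ℤ)))⁻¹ by
              conv_lhs => rw [← hz3x y hy, ← hy']
              group]
          exact ⟨h1, h2.trans (by rw [hy', hnfz _ (hzx y hy), hnfz y hy])⟩
      obtain ⟨h1, h2⟩ := hconj i ub⁻¹ (inv_mem hubU)
      have he : q ⟨⁅u, c⁆, hUD hmem⟩ = ub * (zb ^ i * ub⁻¹ * (zb ^ i)⁻¹) := by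
        rw [hub, hzb, ← map_inv, ← map_zpow, ← map_inv, ← map_mul, ← map_mul, ← map_mul]
        refine congrArg q (Subtype.ext ?_)
        show ⁅u, c⁆ = u * ((((⟨z, hAD hzA⟩ : ↥N) ^ i : ↥N) : G) * u⁻¹ *
          (((⟨z, hAD hzA⟩ : ↥N) ^ i : ↥N) : G)⁻¹)
        rw [Subgroup.coe_zpow, hi, commutatorElement_def]
        simp [mul_assoc]
      rw [he, hnfmul _ hubU _ h1, h2, ← hnfmul _ hubU _ (inv_mem hubU), mul_inv_cancel]
      simp [nf]
    obtain ⟨w, hw, hwe⟩ := hle hx
    have : (⟨w.1, hUD w.2⟩ : ↥N) = x := Subtype.ext hwe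
    rw [← this]; exact hw
  have hUbne : Ub ≠ ⊥ := by
    intro h
    refine hDne (le_antisymm hDU fun x hx => ?_)
    have h1 : q ⟨x, hUD hx⟩ ∈ Ub := ⟨⟨x, hUD hx⟩, hx, rfl⟩
    rw [h, Subgroup.mem_bot] at h1
    exact Subgroup.mem_subgroupOf.1 ((QuotientGroup.eq_one_iff (N := D.subgroupOf N) (⟨x, hUD hx⟩ : ↥N)).1 h1)
  obtain ⟨l, hl⟩ := ht2
  have htp : IsPGroup 2 ↥(Subgroup.zpowers tb) := by
    obtain ⟨m, -, hm⟩ := (Nat.dvd_prime_pow Nat.prime_two).1 (show orderOf tb ∣ 2 ^ l from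
      hl ▸ (orderOf_map_dvd q _).trans (Subgroup.orderOf_mk t (hAD htA)).dvd)
    exact IsPGroup.of_card (n := m) (by rw [Nat.card_zpowers, hm])
  have htbU : tb ∈ Subgroup.normalizer (Ub : Set _) := by
    rw [← conjS_eq_self_iff]
    refine Subgroup.eq_of_le_of_card_ge ?_ (card_conjS tb Ub).ge
    rw [conjS, Subgroup.map_le_iff_le_comap]
    exact fun x hx => hnormUb t (hAD htA) (hAU htA) x hx
  obtain ⟨vb, hvU, hv1, hvt⟩ := exists_ne_one_mem_centralizer htp ((hU2.comap_subtype).map q)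
    (Subgroup.zpowers_le.2 htbU) hUbne
  have hv2 := hexp vb hvU
  have hw2U := hzx vb hvU
  have hnv := hS vb hvU
  have hinv4 : Cfsg.Involves (Equiv.Perm (Fin 4)) (↥N ⧸ D.subgroupOf N) := by
    refine four_to_S4 zb tb vb ?_ hv2 ?_ (hab _ hvU _ hw2U) ?_ (Subgroup.mem_centralizer_iff.1 hvt tb (Subgroup.mem_zpowers _))
    · rw [hzb, htb, ← map_inv, ← map_inv, ← map_mul, ← map_mul]
      exact congrArg q (Subtype.ext hzt)
    · intro h
      simp only [nf, h] at hnv
      rw [hv2, one_mul] at hnv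
      exact hv1 hnv
    · set z2 := zb * (zb * vb * zb⁻¹) * zb⁻¹
      simp only [nf] at hnv
      rw [show z2 = (vb * (zb * vb * zb⁻¹))⁻¹ from eq_inv_of_mul_eq_one_right hnv, inv_eq_of_mul_eq_one_right (hexp _ (mul_mem hvU hw2U))]
  obtain ⟨K, f, hf⟩ := Fusion.exists_surjective_of_involves hinv4
  refine Fusion.involves_of_injective (N.subtype.comp (K.comap q).subtype)
    (Subtype.val_injective.comp Subtype.val_injective) (f.comp (q.subgroupComap K)) ?_
  intro s
  obtain ⟨k, rfl⟩ := hf s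
  obtain ⟨n, hn⟩ := QuotientGroup.mk'_surjective (D.subgroupOf N) k.1
  exact ⟨⟨n, show q n ∈ K by rw [show q n = k.1 from hn]; exact k.2⟩, congrArg f (Subtype.ext hn)⟩

theorem perm3_aux : ∀ s c : Equiv.Perm (Fin 3), Equiv.Perm.sign s = -1 → Equiv.Perm.sign c = 1 →
    (s * s = 1) ∧ (c ≠ 1 → c⁻¹ * (s * c * s⁻¹) ≠ 1) := by decide

theorem backward {G : Type u} [Group G] [Finite G] {T : Subgroup G} (hT : IsPGroup 2 T) {K : Subgroup G}
    (hKT : K ≤ Subgroup.normalizer (T : Set G)) (f : ↥K →* Equiv.Perm (Fin 3)) (hf : Function.Surjective f)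
    (hker : ∀ k : ↥K, (k : G) ∈ Subgroup.centralizer (T : Set G) → f k = 1) :
    Cfsg.Involves (Equiv.Perm (Fin 4)) G := by
  classical
  haveI : Fact (Nat.Prime 3) := ⟨Nat.prime_three⟩
  set M : Subgroup ↥K := (Equiv.Perm.sign.comp f).ker with hM
  have hMmem : ∀ k, k ∈ M ↔ Equiv.Perm.sign (f k) = 1 := fun k => Iff.rfl
  let Q : Sylow 3 ↥M := default
  set P₀ := (Q : Subgroup ↥M).map M.subtype with hP₀
  obtain ⟨g, hg⟩ := hf (Equiv.swap 0 1)
  obtain ⟨n, hnn, m, hm, hnm⟩ : ∃ n ∈ Subgroup.normalizer (P₀ : Set ↥K), ∃ m ∈ M, g = n * m := by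
    have : g ∈ ((Subgroup.normalizer (P₀ : Set ↥K) ⊔ M : Subgroup ↥K) : Set ↥K) := by
      rw [hP₀, Sylow.normalizer_sup_eq_top Q]; trivial
    rw [Subgroup.mul_normal] at this
    obtain ⟨n, hn, m, hm, h⟩ := this
    exact ⟨n, hn, m, hm, h.symm⟩
  have hsn : Equiv.Perm.sign (f n) = -1 := by
    have h := congrArg (fun k => Equiv.Perm.sign (f k)) hnm
    simp only [map_mul, hg, (hMmem m).1 hm, mul_one] at h
    rw [← h, Equiv.Perm.sign_swap (by decide)]
  have hs2 : f n * f n = 1 := (perm3_aux _ 1 hsn (map_one _)).1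
  set x := n ^ (orderOf n / 2 ^ (orderOf n).factorization 2) with hx
  have hfx : f x = f n := by
    obtain ⟨t, ht⟩ : Odd (orderOf n / 2 ^ (orderOf n).factorization 2) := Nat.not_even_iff_odd.1 fun h =>
      Nat.not_dvd_ordCompl Nat.prime_two (orderOf_pos n).ne' h.two_dvd
    rw [hx, map_pow, ht, pow_succ, pow_mul, pow_two, hs2, one_pow, one_mul]
  have hxN : x ∈ Subgroup.normalizer (P₀ : Set ↥K) := pow_mem hnn _
  have hxo : ∃ k, orderOf x = 2 ^ k := by
    obtain ⟨k, -, hk⟩ := (Nat.dvd_prime_pow Nat.prime_two).1 (show orderOf x ∣ 2 ^ (orderOf n).factorization 2 from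
      orderOf_dvd_of_pow_eq_one (by
        rw [hx, ← pow_mul, mul_comm, Nat.ordProj_mul_ordCompl_eq_self, pow_orderOf_eq_one]))
    exact ⟨k, hk⟩
  -- an element of `P₀` with nontrivial image
  obtain ⟨w, hwP, hfw⟩ : ∃ w ∈ P₀, f w ≠ 1 := by
    by_contra hcon
    push Not at hcon
    obtain ⟨g0, hg0⟩ := hf (finRotate 3)
    set o := orderOf g0 / 3 ^ (orderOf g0).factorization 3 with ho
    have hno : ¬ 3 ∣ o := Nat.not_dvd_ordCompl Nat.prime_three (orderOf_pos g0).ne'
    have hg0M : g0 ∈ M := (hMmem g0).2 (by rw [hg0]; decide)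
    have h3 : orderOf (⟨g0, hg0M⟩ ^ o : ↥M) ∣ 3 ^ (orderOf g0).factorization 3 :=
      orderOf_dvd_of_pow_eq_one (Subtype.ext (by
        show (g0 ^ o) ^ _ = 1
        rw [← pow_mul, mul_comm, ho, Nat.ordProj_mul_ordCompl_eq_self, pow_orderOf_eq_one]))
    obtain ⟨j, -, hj⟩ := (Nat.dvd_prime_pow Nat.prime_three).1 h3
    obtain ⟨Q', hQ'⟩ := (IsPGroup.of_card (n := j)
      (show Nat.card ↥(Subgroup.zpowers (⟨g0, hg0M⟩ ^ o : ↥M)) = 3 ^ j by rw [Nat.card_zpowers, hj])).exists_le_sylow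
    obtain ⟨c, hc⟩ := MulAction.exists_smul_eq ↥M Q' Q
    have h4 : c * (⟨g0, hg0M⟩ ^ o) * c⁻¹ ∈ (Q : Subgroup ↥M) := by
      rw [← hc]
      exact Subgroup.smul_mem_pointwise_smul _ (MulAut.conj c) _ (hQ' (Subgroup.mem_zpowers _))
    have h5 := hcon _ (Subgroup.mem_map_of_mem M.subtype h4)
    simp only [Subgroup.coe_subtype, Subgroup.coe_mul, Subgroup.coe_inv, SubgroupClass.coe_pow, map_mul, map_inv,
      map_pow, hg0, conj_eq_one_iff] at h5
    have h6 : orderOf (finRotate 3) ∣ o := orderOf_dvd_of_pow_eq_one h5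
    rw [orderOf_eq_prime (p := 3) (by decide) (by decide)] at h6
    exact hno h6
  have hwM : w ∈ M := by
    obtain ⟨v, -, rfl⟩ := hwP; exact v.2
  set N₀ := P₀ ⊓ f.ker with hN₀
  have hxxN : x * x ∈ Subgroup.normalizer (N₀ : Set ↥K) := by
    rw [← conjS_eq_self_iff, hN₀, conjS_inf, conjS_eq_self_iff.2 (mul_mem hxN hxN), conjS_normal]
  have hP3 : IsPGroup 3 P₀ := Q.isPGroup'.map _
  have hcop : (Nat.card ↥(Subgroup.zpowers (x * x))).Coprime (Nat.card N₀) := by
    obtain ⟨a, ha⟩ := IsPGroup.iff_card.1 (hP3.to_le (inf_le_left : N₀ ≤ P₀))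
    obtain ⟨b, hb⟩ := hxo
    rw [ha, Nat.card_zpowers]
    refine Nat.Coprime.coprime_dvd_left (?_ : orderOf (x * x) ∣ 2 ^ b) (Nat.Coprime.pow _ _ (by decide))
    rw [← pow_two, ← hb]; exact orderOf_pow_dvd 2
  have hwN : w ∈ Subgroup.normalizer (N₀ : Set ↥K) := by
    rw [← conjS_eq_self_iff, hN₀, conjS_inf, conjS_mem_eq_self hwP, conjS_normal]
  have hfix : ∀ a ∈ Subgroup.zpowers (x * x), a * w * a⁻¹ * w⁻¹ ∈ N₀ := by
    intro a ha
    have h1 : a ∈ Subgroup.normalizer (P₀ : Set ↥K) := Subgroup.zpowers_le.2 (mul_mem hxN hxN) ha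
    refine Subgroup.mem_inf.2 ⟨mul_mem ((Subgroup.mem_normalizer_iff.1 h1 w).1 hwP) (inv_mem hwP), ?_⟩
    have h2 : f a = 1 := by
      have : Subgroup.zpowers (x * x) ≤ f.ker := Subgroup.zpowers_le.2 (by
        rw [MonoidHom.mem_ker, map_mul, hfx, hs2])
      exact this ha
    rw [MonoidHom.mem_ker, map_mul, map_mul, map_mul, h2, map_inv, map_inv, h2]
    group
  obtain ⟨r, hr, hrc⟩ := Coprime.exists_mem_centralizer_of_fixed_coset (Subgroup.zpowers_le.2 hxxN) hcop
    (Or.inr (by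
      haveI := (hP3.to_le (inf_le_left : N₀ ≤ P₀)).isNilpotent
      infer_instance)) hwN hfix
  set v := w * r with hv
  have hvP : v ∈ P₀ := mul_mem hwP hr.1
  have hfv : f v = f w := by rw [hv, map_mul, show f r = 1 from hr.2, mul_one]
  set y := v⁻¹ * (x * v * x⁻¹) with hy
  have hyP : y ∈ P₀ := mul_mem (inv_mem hvP) ((Subgroup.mem_normalizer_iff.1 hxN v).1 hvP)
  have hxy : x * y * x⁻¹ = y⁻¹ := by
    have hc : x * x * v = v * (x * x) := Subgroup.mem_centralizer_iff.1 hrc (x * x) (Subgroup.mem_zpowers _)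
    calc x * y * x⁻¹ = x * v⁻¹ * x⁻¹ * ((x * x * v) * (x * x)⁻¹) := by rw [hy]; group
      _ = x * v⁻¹ * x⁻¹ * v := by rw [hc, mul_inv_cancel_right]
      _ = y⁻¹ := by rw [hy]; group
  have hfy : f y ≠ 1 := by
    rw [hy, map_mul, map_mul, map_mul, map_inv, map_inv, hfv, hfx]
    exact (perm3_aux _ _ hsn ((hMmem w).1 hwM)).2 hfw
  have hyc : (y : G) ∉ Subgroup.centralizer (T : Set G) := fun h => hfy (hker y h)
  obtain ⟨e, he⟩ := hP3 ⟨y, hyP⟩
  have he' : (y : G) ^ 3 ^ e = 1 := congrArg (fun s : ↥P₀ => ((s : ↥K) : G)) he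
  have hex : ∃ j, (y : G) ^ 3 ^ j ∈ Subgroup.centralizer (T : Set G) := ⟨e, by rw [he']; exact one_mem _⟩
  have hj0 : Nat.find hex ≠ 0 := fun h => hyc (by
    have := Nat.find_spec hex; rwa [h, pow_zero, pow_one] at this)
  obtain ⟨j, hj⟩ := Nat.exists_eq_succ_of_ne_zero hj0
  refine to_four hT (z := (y : G) ^ 3 ^ j) (t := (x : G)) (pow_mem (hKT y.2) _) (hKT x.2) ?_ ?_ ?_ ?_
    (Nat.find_min hex (by omega))
  · rw [← conj_pow, ← inv_pow]
    exact congrArg (· ^ 3 ^ j) (congrArg Subtype.val hxy)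
  · obtain ⟨k, -, hk⟩ := (Nat.dvd_prime_pow Nat.prime_three).1
      ((orderOf_pow_dvd (3 ^ j)).trans (orderOf_dvd_of_pow_eq_one he'))
    exact ⟨k, hk⟩
  · rw [Subgroup.orderOf_coe]; exact hxo
  · have := Nat.find_spec hex
    rwa [hj, pow_succ, pow_mul] at this

theorem forward {G : Type u} [Group G] [Finite G] (h : Cfsg.Involves (Equiv.Perm (Fin 4)) G) :
    ∃ T : Subgroup G, IsPGroup 2 ↥T ∧ Cfsg.Involves (Equiv.Perm (Fin 3))
      (↥(Subgroup.normalizer (T : Set G)) ⧸ (Subgroup.centralizer (T : Set G)).subgroupOf (Subgroup.normalizer (T : Set G))) := by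
  classical
  haveI : Fact (Nat.Prime 2) := ⟨Nat.prime_two⟩
  obtain ⟨K, f0, hf0⟩ := Fusion.exists_surjective_of_involves h
  let e4 : ↥(Cfsg.qdOver (ZMod 2)) ≃* Equiv.Perm (Fin 4) := (S2761.result).some
  set f : ↥K →* ↥(Cfsg.qdOver (ZMod 2)) := e4.symm.toMonoidHom.comp f0 with hf
  have hfs : Function.Surjective f := e4.symm.surjective.comp hf0
  set W := (LocalEven.Qd.proj (F := ZMod 2)).ker with hW
  set M := W.comap f with hM
  let Q : Sylow 2 ↥M := default
  set P₀ := (Q : Subgroup ↥M).map M.subtype with hP₀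
  let fM : ↥M →* ↥W := f.subgroupComap W
  have hfMs : Function.Surjective fM := by
    rintro ⟨a, ha⟩
    obtain ⟨k, rfl⟩ := hfs a
    exact ⟨⟨k, ha⟩, rfl⟩
  have hQW : ∀ a ∈ W, ∃ w ∈ P₀, f w = a := by
    intro a ha
    have h1 : ((Q.mapSurjective hfMs : Sylow 2 ↥W) : Subgroup ↥W) = ⊤ := by
      exact ((Q.mapSurjective hfMs).3 ((LocalEven.Qd.isPGroup_ker (F := ZMod 2) (p := 2)).to_subgroup ⊤) le_top).symm
    have h2 : (⟨a, ha⟩ : ↥W) ∈ ((Q.mapSurjective hfMs : Sylow 2 ↥W) : Subgroup ↥W) := by rw [h1]; trivial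
    rw [Sylow.coe_mapSurjective] at h2
    obtain ⟨w, hw, hwe⟩ := h2
    exact ⟨w, Subgroup.mem_map_of_mem _ hw, congrArg Subtype.val hwe⟩
  set L := Subgroup.normalizer (P₀ : Set ↥K) with hL
  let χ : ↥L →* Matrix.SpecialLinearGroup (Fin 2) (ZMod 2) := (LocalEven.Qd.proj.comp f).comp L.subtype
  have hχ : Function.Surjective χ := by
    intro g
    obtain ⟨k, hk⟩ := hfs (LocalEven.Qd.el g 0)
    have : k ∈ ((L ⊔ M : Subgroup ↥K) : Set ↥K) := by
      rw [hL, hP₀, Sylow.normalizer_sup_eq_top Q]; trivial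
    rw [Subgroup.mul_normal] at this
    obtain ⟨n, hn, m, hm, rfl⟩ := this
    refine ⟨⟨n, hn⟩, ?_⟩
    show LocalEven.Qd.proj (f n) = g
    have h1 : LocalEven.Qd.proj (f m) = 1 := hm
    have h2 := congrArg LocalEven.Qd.proj hk
    rwa [map_mul, map_mul, h1, mul_one, LocalEven.Qd.proj_el] at h2
  set T := P₀.map K.subtype with hT
  refine ⟨T, (Q.isPGroup'.map _).map _, ?_⟩
  have hLT : ∀ l : ↥L, ((l : ↥K) : G) ∈ Subgroup.normalizer (T : Set G) := fun l =>
    Subgroup.le_normalizer_map K.subtype ⟨l, l.2, rfl⟩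
  set C := (Subgroup.centralizer (T : Set G)).subgroupOf (Subgroup.normalizer (T : Set G)) with hC
  let ι : ↥L →* ↥(Subgroup.normalizer (T : Set G)) :=
    MonoidHom.codRestrict (K.subtype.comp L.subtype) _ hLT
  let ψ := ((QuotientGroup.mk' C).comp ι).rangeRestrict
  have hle : ψ.ker ≤ χ.ker := by
    intro l hl
    rw [MonoidHom.ker_rangeRestrict, MonoidHom.mem_ker] at hl
    have h1 : ((l : ↥K) : G) ∈ Subgroup.centralizer (T : Set G) := Subgroup.mem_subgroupOf.1 ((QuotientGroup.eq_one_iff (N := C) (ι l)).1 hl)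
    rw [MonoidHom.mem_ker]
    show LocalEven.Qd.proj (f l) = 1
    obtain ⟨g, v, hgv⟩ := LocalEven.Qd.el_surj (f l)
    rw [hgv, LocalEven.Qd.proj_el]
    refine Subtype.ext (Matrix.ext_of_mulVec_single fun j => ?_)
    rw [Matrix.SpecialLinearGroup.coe_one, Matrix.one_mulVec]
    obtain ⟨w, hw, hwe⟩ := hQW (LocalEven.Qd.el 1 (Pi.single j 1)) (LocalEven.Qd.mem_ker_proj_iff.2 ⟨_, rfl⟩)
    have h2 : w * (l : ↥K) = (l : ↥K) * w :=
      Subtype.ext (Subgroup.mem_centralizer_iff.1 h1 _ (Subgroup.mem_map_of_mem _ hw))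
    have h3 := congrArg f h2
    rw [map_mul, map_mul, hwe, hgv] at h3
    have h4 := LocalEven.Qd.conj_trans g (Pi.single j 1) v
    rw [← h3, mul_inv_cancel_right] at h4
    exact (LocalEven.Qd.aff_injective (congrArg Subtype.val h4)).2.symm
  let e3 : Matrix.SpecialLinearGroup (Fin 2) (ZMod 2) ≃* Equiv.Perm (Fin 3) :=
    (Classical.nonempty_SL2_two (F := ZMod 2) (ZMod.card 2)).some
  have hψ : Function.Surjective ψ := MonoidHom.rangeRestrict_surjective _
  let χ' := MonoidHom.liftOfSurjective ψ hψ ⟨χ, hle⟩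
  refine Fusion.involves_of_surjective _ (e3.toMonoidHom.comp χ') (e3.surjective.comp fun g => ?_)
  obtain ⟨l, rfl⟩ := hχ g
  exact ⟨ψ l, MonoidHom.liftOfRightInverse_comp_apply _ _ _ _ l⟩

theorem main {G : Type u} [Group G] [Finite G] : Cfsg.Involves (Equiv.Perm (Fin 4)) G ↔ ∃ T : Subgroup G, IsPGroup 2 ↥T ∧ Cfsg.Involves (Equiv.Perm (Fin 3)) (↥(Subgroup.normalizer (T : Set G)) ⧸ (Subgroup.centralizer (T : Set G)).subgroupOf (Subgroup.normalizer (T : Set G))) := by
  refine ⟨forward, fun ⟨T, hT, h⟩ => ?_⟩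
  obtain ⟨K, f, hf⟩ := Fusion.exists_surjective_of_involves h
  set N := Subgroup.normalizer (T : Set G)
  let q := QuotientGroup.mk' ((Subgroup.centralizer (T : Set G)).subgroupOf N)
  let e := (K.comap q).equivMapOfInjective N.subtype N.subtype_injective
  refine backward hT (K := (K.comap q).map N.subtype) (Subgroup.map_subtype_le _)
    ((f.comp (q.subgroupComap K)).comp e.symm.toMonoidHom) ?_ ?_
  · refine (hf.comp ?_).comp e.symm.surjective
    rintro ⟨a, ha⟩
    obtain ⟨n, rfl⟩ := QuotientGroup.mk'_surjective _ a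
    exact ⟨⟨n, ha⟩, rfl⟩
  · intro k hk
    have h1 : ((e.symm k : ↥N) : G) = (k : G) := congrArg Subtype.val (e.apply_symm_apply k)
    have h2 : q.subgroupComap K (e.symm k) = 1 := by
      refine Subtype.ext ((QuotientGroup.eq_one_iff _).2 ?_)
      rw [Subgroup.mem_subgroupOf, h1]
      exact hk
    show f (q.subgroupComap K (e.symm k)) = 1
    rw [h2, map_one]

/-- For a finite group G, the symmetric group of degree 4 is involved in G if and only if there is a 2-subgroup T of G such that the symmetric group of degree 3 is involved in N(T)/C(T). -/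
theorem result {G : Type*} [Group G] [Finite G] : Cfsg.Involves (Equiv.Perm (Fin 4)) G ↔ ∃ T : Subgroup G, IsPGroup 2 ↥T ∧ Cfsg.Involves (Equiv.Perm (Fin 3)) (↥(Subgroup.normalizer (T : Set G)) ⧸ (Subgroup.centralizer (T : Set G)).subgroupOf (Subgroup.normalizer (T : Set G))) := by
  exact main

end Cfsg.Agent.S2759
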