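import Cfsg.Statements.S3058
import Cfsg.Agent.Lib.LocalEven2.Embedded
import Cfsg.Agent.Lib.Coprime.Generation

set_option autoImplicit false
open Cfsg

namespace Cfsg.Agent.S3058

/-- Let p be a prime and G a finite group whose Sylow p-subgroups are not chain-connected through nontrivial intersections (so G has a strongly p-embedded subgroup). If N and M are normal subgroups of G whose orders are both divisible by p, then the order of N ∩ M is divisible by p. Consequently, among the normal subgroups of G whose order is divisible by p there is a smallest one (the intersection of all of them). -/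
theorem result {G : Type*} [Group G] [Finite G]
    (p : ℕ) [Fact p.Prime] (hG : ¬ Cfsg.IsSylowChainConnected p G)
    (N M : Subgroup G) [N.Normal] [M.Normal] (hN : p ∣ Nat.card N) (hM : p ∣ Nat.card M) :
    p ∣ Nat.card ↥(N ⊓ M) := by
  by_contra hK
  obtain ⟨H, hne, hpH, hH⟩ := Lib.LocalEven2.exists_meetsOddly hG
  obtain ⟨P, hP⟩ := Lib.LocalEven2.MeetsOddly.exists_sylow_le hH hpH
  set K := N ⊓ M with hKdef
  have hp : p.Prime := Fact.out
  have hel : ∀ (X : Subgroup G) [X.Normal], p ∣ Nat.card X →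
      ∃ x, x ∈ (P : Subgroup G) ∧ x ∈ X ∧ orderOf x = p := by
    intro X _ hX
    obtain ⟨⟨x, hx⟩, ho⟩ := exists_prime_orderOf_dvd_card'
      (G := ↥((P : Subgroup G) ⊓ X)) p (Lib.LocalEven2.dvd_card_of_pgroup_ne_bot P.2.to_inf_left
        fun h => by
          have := Lib.LocalEven2.not_dvd_relIndex_inf_subnormal P (H := X)
            (Subgroup.Normal.isSubnormal inferInstance)
          rw [h, Subgroup.relIndex_bot_left] at this
          exact this hX)
    exact ⟨x, hx.1, hx.2, by simpa using ho⟩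
  obtain ⟨x, hxP, hxN, hox⟩ := hel N hN
  obtain ⟨y, hyP, hyM, hoy⟩ := hel M hM
  have hK1 : ∀ z ∈ (P : Subgroup G), z ∈ K → z = 1 := fun z hz hzK => by
    by_contra hz1
    obtain ⟨k, hk⟩ := Lib.LocalEven2.orderOf_of_mem_pgroup P.2 hz
    have : p ∣ orderOf z := by
      rw [hk]
      refine dvd_pow_self p fun h => hz1 ?_
      rw [← orderOf_eq_one_iff, hk, h, pow_zero]
    exact hK (this.trans (K.orderOf_dvd_natCard hzK))
  have hxy : Commute x y := by
    have h1 : x * y * x⁻¹ * y⁻¹ ∈ K := by
      refine ⟨?_, ?_⟩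
      · have := N.mul_mem hxN ((inferInstance : N.Normal).conj_mem _ (inv_mem hxN) y)
        simpa [mul_assoc] using this
      · exact M.mul_mem ((inferInstance : M.Normal).conj_mem _ hyM x) (inv_mem hyM)
    have h2 := hK1 _ (mul_mem (mul_mem (mul_mem hxP hyP) (inv_mem hxP)) (inv_mem hyP)) h1
    exact Lib.LocalEven2.commute_of_commutator_eq_one h2
  set B := Subgroup.closure ({x, y} : Set G) with hB
  haveI : IsMulCommutative ↥B := Subgroup.isMulCommutative_closure fun a ha b hb => by
    rcases ha with rfl | rfl <;> rcases hb with rfl | rfl <;>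
      first | rfl | exact hxy.eq | exact hxy.eq.symm
  have hBP : B ≤ (P : Subgroup G) := (Subgroup.closure_le _).mpr fun a ha => by
    rcases ha with rfl | rfl <;> assumption
  have hxB : x ∈ B := Subgroup.subset_closure (Set.mem_insert x {y})
  have hyB : y ∈ B := Subgroup.subset_closure (Set.mem_insert_of_mem x rfl)
  have hBnc : ¬ IsCyclic ↥B := by
    intro hc
    have hx1 : x ≠ 1 := fun h => hp.ne_one (by rw [← hox, h, orderOf_one])
    -- in a cyclic group the subgroup of order `p` is unique
    have h3 : Subgroup.zpowers (⟨x, hxB⟩ : ↥B) = Subgroup.zpowers ⟨y, hyB⟩ := by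
      apply Lib.LocalEven2.zpowers_eq_of_isCyclic
      rw [Subgroup.orderOf_mk, Subgroup.orderOf_mk, hox, hoy]
    have h4 : (⟨x, hxB⟩ : ↥B) ∈ Subgroup.zpowers ⟨y, hyB⟩ := h3 ▸ Subgroup.mem_zpowers _
    obtain ⟨k, hk⟩ := h4
    refine hx1 (hK1 x hxP ⟨hxN, ?_⟩)
    rw [show x = y ^ k from by simpa using (congrArg Subtype.val hk).symm]
    exact zpow_mem hyM k
  have hcopK : ∀ {X : Subgroup G}, IsPGroup p ↥X → (Nat.card X).Coprime (Nat.card K) := by
    intro X hX
    obtain ⟨k, hk⟩ := IsPGroup.iff_card.mp hX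
    rw [hk]
    exact Nat.Coprime.pow_left k (hp.coprime_iff_not_dvd.mpr hK)
  have hnorm : ∀ X : Subgroup G, X ≤ Subgroup.normalizer (K : Set G) := fun X => by
    rw [Subgroup.normalizer_eq_top_iff.mpr inferInstance]; exact le_top
  have hKH : K ≤ H := by
    rw [← Lib.Coprime.iSup_centralizer_eq hBnc (hnorm B) (hcopK (P.2.to_le hBP))]
    refine iSup₂_le fun b hb => inf_le_right.trans ?_
    exact Lib.LocalEven2.MeetsOddly.centralizer_le hH (hP (hBP hb.1))
      (Lib.LocalEven2.orderOf_of_mem_pgroup P.2 (hBP hb.1)) hb.2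
  have hy1 : y ≠ 1 := fun h => hp.ne_one (by rw [← hoy, h, orderOf_one])
  have hNH : N ≤ H := by
    intro n hn
    have hyp : ∀ a ∈ Subgroup.zpowers y, a * n * a⁻¹ * n⁻¹ ∈ K := by
      intro a ha
      have haM : a ∈ M := Subgroup.zpowers_le.mpr hyM ha
      refine ⟨N.mul_mem ((inferInstance : N.Normal).conj_mem _ hn a) (inv_mem hn), ?_⟩
      have := M.mul_mem haM ((inferInstance : M.Normal).conj_mem _ (inv_mem haM) n)
      simpa [mul_assoc] using this
    obtain ⟨m, hm, hmc⟩ := Lib.Coprime.exists_mem_centralizer_of_fixed_coset (hnorm _)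
      (hcopK (Lib.LocalEven2.isPGroup_zpowers ⟨1, by simpa using hoy⟩))
      (Or.inl (Lib.Coprime.isSolvable_zpowers y)) (hnorm ⊤ (Subgroup.mem_top n)) hyp
    have h5 : n * m ∈ H := by
      refine Lib.LocalEven2.MeetsOddly.centralizer_le hH (hP hyP) ⟨1, by simpa using hoy⟩ hy1 ?_
      rw [Subgroup.mem_centralizer_singleton_iff]
      exact (Subgroup.mem_centralizer_iff.mp hmc y (Subgroup.mem_zpowers y)).symm
    simpa using H.mul_mem h5 (inv_mem (hKH hm))
  obtain ⟨g, hg⟩ : ∃ g, g ∉ H := by
    by_contra hc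
    push Not at hc
    exact hne (eq_top_iff.mpr fun g _ => hc g)
  refine hH g hg (hN.trans (Subgroup.card_dvd_of_le (le_inf hNH fun n hn => ?_)))
  rw [Lib.LocalEven2.mem_map_conj]
  apply hNH
  have := (inferInstance : N.Normal).conj_mem n hn g⁻¹
  simpa using this

end Cfsg.Agent.S3058
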