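import Cfsg.Statements.S0803
import Cfsg.Agent.Lib.Geometry.Dickson.Golden
-- import your own Cfsg.Agent.* helpers here

set_option autoImplicit false
open Cfsg
open scoped Matrix
open Cfsg.Agent.Lib.Geometry.Dickson
open Cfsg.Agent.Lib.SL2Trace (toPSL toPSL_eq toPSL_surjective)

namespace Cfsg.Agent.S0803

/-- PSL_2(q) has a subgroup isomorphic to S_4 iff q² ≡ 1 (mod 16). -/
theorem result {F : Type*} [Field F] [Fintype F] {q : ℕ} (hF : Fintype.card F = q) : (∃ H : Subgroup (Matrix.ProjectiveSpecialLinearGroup (Fin 2) F), Nonempty (H ≃* Equiv.Perm (Fin 4))) ↔ q ^ 2 % 16 = 1 := by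
  subst hF
  obtain ⟨p, hp⟩ := CharP.exists F
  haveI : Fact p.Prime := ⟨CharP.char_is_prime F p⟩
  rw [q_mod_eight_iff]
  constructor
  · rintro ⟨H, ⟨e⟩⟩
    have hσ : orderOf (finRotate 4) = 4 :=
      orderOf_eq_prime_pow (p := 2) (n := 1) (by decide) (by decide)
    have ho : orderOf ((e.symm (finRotate 4) : H) : Matrix.ProjectiveSpecialLinearGroup (Fin 2) F) = 4 := by
      rw [Subgroup.orderOf_coe, e.symm.orderOf_eq, hσ]
    have hd : Nat.gcd 2 (Fintype.card F - 1) = 1 ∨ Nat.gcd 2 (Fintype.card F - 1) = 2 :=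
      (Nat.dvd_prime Nat.prime_two).mp (Nat.gcd_dvd_left _ _)
    have hodd := Nat.gcd_dvd_right 2 (Fintype.card F - 1)
    have hpar : Fintype.card F % 2 = 1 → Nat.gcd 2 (Fintype.card F - 1) = 2 := fun h =>
      Nat.gcd_eq_left (Nat.dvd_iff_mod_eq_zero.mpr (by omega))
    have hq2 := Fintype.one_lt_card (α := F)
    rcases orderOf_cases p ((e.symm (finRotate 4) : H) : Matrix.ProjectiveSpecialLinearGroup (Fin 2) F) with h | h | h <;>
      rw [ho] at h
    · exfalso
      have := ((Fact.out : p.Prime).eq_one_or_self_of_dvd 4 h).resolve_left (by norm_num)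
      exact absurd (this ▸ (Fact.out : p.Prime)) (by norm_num)
    all_goals
      obtain ⟨c, hc⟩ := h
      rcases hd with hd | hd <;> rw [hd] at hodd hc hpar <;> omega
  · intro h
    refine exists_symFour ?_ (FiniteField.isSquare_two_iff.mpr (by omega))
    intro h2
    have hp2 : p = 2 := (Nat.prime_dvd_prime_iff_eq Fact.out Nat.prime_two).mp
      ((CharP.cast_eq_zero_iff F p 2).mp (by exact_mod_cast h2))
    subst hp2
    obtain ⟨n, -, hn⟩ := FiniteField.card F 2
    have : 2 ∣ Fintype.card F := hn ▸ dvd_pow_self 2 n.ne_zero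
    omega

end Cfsg.Agent.S0803
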