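import Cfsg.Statements.S4282
import Mathlib
import Cfsg.Agent.Lib.PLocal.QDim

set_option autoImplicit false
open Cfsg

namespace Cfsg.Agent.S4282

section

open Matrix

variable {K : Type*} [Field K] [IsAlgClosed K]

/-- The averaged expansion of a matrix along an irreducible action. -/
theorem expansion {H : Type*} [Group H] [Fintype H] {ι : Type*} [Fintype ι] [DecidableEq ι]
    [Nonempty ι] (R : H →* Matrix ι ι K)
    (hirr : ∀ U : Submodule K (ι → K), (∀ g, ∀ v ∈ U, (R g).mulVecLin v ∈ U) → U = ⊥ ∨ U = ⊤)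
    (hd : (Fintype.card ι : K) ≠ 0) (hcard : (Fintype.card H : K) ≠ 0) (B : Matrix ι ι K) :
    B = ∑ g : H, ((Fintype.card ι : K) / Fintype.card H * (B * R g⁻¹).trace) • R g := by
  classical
  have havg : ∀ i j a b, ∑ g : H, R g a i * R g⁻¹ j b =
      (if a = b then (Fintype.card H : K) / Fintype.card ι * (if i = j then 1 else 0) else 0) := by
    intro i j a b
    set C : Matrix ι ι K := ∑ g : H, R g * single i j 1 * R g⁻¹ with hC
    have hcomm : ∀ h, (R h).mulVecLin * C.mulVecLin = C.mulVecLin * (R h).mulVecLin := by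
      intro h
      rw [Module.End.mul_eq_comp, Module.End.mul_eq_comp, ← Matrix.mulVecLin_mul,
        ← Matrix.mulVecLin_mul]
      congr 1
      rw [hC, Finset.mul_sum, Finset.sum_mul]
      refine Fintype.sum_equiv (Equiv.mulLeft h) _ _ fun g => ?_
      simp only [Equiv.coe_mulLeft, _root_.mul_inv_rev, map_mul, mul_assoc]
      rw [← map_mul R h⁻¹ h, inv_mul_cancel, map_one, mul_one]
    obtain ⟨r, hr⟩ := Cfsg.Agent.Lib.PLocal.QDim.schur (fun g => (R g).mulVecLin) hirr _ hcomm
    have hC2 : C = r • 1 := by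
      apply Matrix.ext
      intro x y
      have := congrFun (LinearMap.congr_fun hr (Pi.single y 1)) x
      simpa [Matrix.mulVecLin_apply, Matrix.one_apply, Pi.single_apply] using this
    have htr : (Fintype.card H : K) * (if i = j then 1 else 0) = Fintype.card ι * r := by
      have h1 : C.trace = (Fintype.card H : K) * (if i = j then 1 else 0) := by
        rw [hC, Matrix.trace_sum]
        rw [Finset.sum_congr rfl fun g _ => by
          rw [Matrix.trace_mul_comm, ← mul_assoc, ← map_mul, inv_mul_cancel, map_one, one_mul]]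
        rw [Finset.sum_const, Finset.card_univ, nsmul_eq_mul]
        congr 1
        split_ifs with h
        · subst h; simp [Matrix.trace, Matrix.diag, single_apply]
        · exact Matrix.trace_single_eq_of_ne _ _ _ h
      rw [← h1, hC2, Matrix.trace_smul, Matrix.trace_one, smul_eq_mul, mul_comm]
    have hentry : C a b = ∑ g : H, R g a i * R g⁻¹ j b := by
      rw [hC, Matrix.sum_apply]
      refine Finset.sum_congr rfl fun g _ => ?_
      simp [Matrix.mul_apply, single_apply, ite_and, Finset.sum_ite_eq, Finset.mul_sum]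
    rw [← hentry, hC2, Matrix.smul_apply, Matrix.one_apply, smul_eq_mul, mul_ite, mul_one, mul_zero]
    refine if_congr Iff.rfl ?_ rfl
    rw [div_mul_eq_mul_div, htr, mul_div_cancel_left₀ _ hd]
  ext a i
  rw [Matrix.sum_apply]
  simp only [Matrix.smul_apply, smul_eq_mul]
  calc B a i = (Fintype.card ι : K) / Fintype.card H *
        ∑ b, ∑ j, B b j * (if a = b then (Fintype.card H : K) / Fintype.card ι *
          (if i = j then 1 else 0) else 0) := by
        simp [Finset.sum_ite_eq]
        field_simp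
    _ = (Fintype.card ι : K) / Fintype.card H *
        ∑ b, ∑ j, B b j * ∑ g : H, R g a i * R g⁻¹ j b := by
        simp only [havg]
    _ = _ := by
        simp only [Matrix.trace, Matrix.diag, Matrix.mul_apply, Finset.mul_sum, Finset.sum_mul]
        rw [Finset.sum_comm_cycle]
        refine Finset.sum_congr rfl fun g _ => Finset.sum_congr rfl fun b _ =>
          Finset.sum_congr rfl fun j _ => ?_
        ring

end

section

variable {K : Type*} [Field K] {V : Type*} [AddCommGroup V] [Module K V]

open Polynomial in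
theorem geom_eq_pow (p e : ℕ) [Fact p.Prime] [CharP K p] :
    (∑ k ∈ Finset.range (p ^ e), (X : K[X]) ^ k) = (X - 1) ^ (p ^ e - 1) := by
  have h1 : (∑ k ∈ Finset.range (p ^ e), (X : K[X]) ^ k) * (X - 1) = (X - 1) ^ (p ^ e) := by
    rw [geom_sum_mul, sub_pow_char_pow, one_pow]
  conv at h1 => rhs; rw [← Nat.sub_add_cancel (Nat.one_le_pow e p (Fact.out : p.Prime).pos),
    pow_succ]
  exact mul_right_cancel₀ (by simpa using (X_sub_C_ne_zero (1 : K))) h1

/-- The norm of conjugation lands in a power of the nilpotent part. -/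
theorem norm_range (p e s : ℕ) [Fact p.Prime] [CharP K p] (A A' : Module.End K V)
    (hA : A * A' = 1) (hA' : A' * A = 1) (hs : (A - 1) ^ s = 0) (hsn : s ≤ p ^ e)
    (B : Module.End K V) :
    LinearMap.range (∑ k ∈ Finset.range (p ^ e), A ^ k * B * A' ^ k) ≤
      LinearMap.range ((A - 1) ^ (p ^ e - s)) := by
  let L : Module.End K (Module.End K V) := LinearMap.mulLeft K A
  let R : Module.End K (Module.End K V) := LinearMap.mulRight K A'
  let LN : Module.End K (Module.End K V) := LinearMap.mulLeft K (A - 1)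
  let RN : Module.End K (Module.End K V) := LinearMap.mulRight K (A' - 1)
  have hLR : Commute L R := LinearMap.ext fun C => mul_assoc A C A' |>.symm
  have hT : (L * R) ^ 1 - 1 = LN * R + RN := LinearMap.ext fun C => by
    simp [L, R, LN, RN, mul_assoc, sub_mul, mul_sub]
  have hsum : ∑ k ∈ Finset.range (p ^ e), A ^ k * B * A' ^ k =
      ((LN * R + RN) ^ (p ^ e - 1)) B := by
    have h := congrArg (fun f : Polynomial K => (Polynomial.aeval (L * R) f) B)
      (geom_eq_pow (K := K) p e)
    simp only [map_sum, map_pow, Polynomial.aeval_X, map_sub, map_one, LinearMap.sum_apply] at h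
    rw [← hT, pow_one, ← h]
    refine Finset.sum_congr rfl fun k _ => ?_
    rw [hLR.mul_pow, Module.End.mul_apply]
    simp [L, R, LinearMap.pow_mulLeft, LinearMap.pow_mulRight, mul_assoc]
  have hcomm : Commute (LN * R) RN := by
    refine LinearMap.ext fun C => ?_
    simp [R, LN, RN, mul_assoc, mul_sub, sub_mul]
  have hNA : Commute (A - 1) A' := by
    show (A - 1) * A' = A' * (A - 1)
    rw [sub_mul, mul_sub, hA, hA', one_mul, mul_one]
  have hz : ∀ i, s ≤ i → (A' - 1) ^ i = 0 := by
    intro i hi
    have e1 : A' - 1 = -1 * A' * (A - 1) := by rw [mul_assoc, mul_sub, hA', mul_one]; simp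
    have hc : Commute (-1 * A') (A - 1) := (Commute.neg_one_left _).mul_left hNA.symm
    rw [e1, hc.mul_pow, pow_eq_zero_of_le hi hs, mul_zero]
  rw [hsum, hcomm.add_pow, LinearMap.sum_apply]
  rintro _ ⟨v, rfl⟩
  rw [LinearMap.sum_apply]
  refine Submodule.sum_mem _ fun j hj => ?_
  by_cases hjs : s ≤ p ^ e - 1 - j
  · have : RN ^ (p ^ e - 1 - j) = 0 := by
      rw [show RN = LinearMap.mulRight K (A' - 1) from rfl, LinearMap.pow_mulRight, hz _ hjs]
      exact LinearMap.ext fun C => by simp
    simp [this]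
  · have hj' : p ^ e - s ≤ j := by omega
    have hLN : Commute LN R := LinearMap.ext fun C => mul_assoc (A - 1) C A' |>.symm
    rw [hLN.mul_pow, mul_assoc, mul_assoc, Module.End.mul_apply, show LN = LinearMap.mulLeft K (A - 1)
      from rfl, LinearMap.pow_mulLeft, LinearMap.mulLeft_apply, Module.End.mul_apply,
      ← Nat.add_sub_cancel' hj', pow_add, Module.End.mul_apply]
    exact LinearMap.mem_range_self _ _

theorem scalar_zero_of_range {N T : Module.End K V} [FiniteDimensional K V] [Nontrivial V] {s : ℕ}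
    (hN : N ^ s = 0) {c : K} (h : N = c • 1 + T) (hT : LinearMap.range T ≤ LinearMap.range N) :
    c = 0 := by
  by_contra hc
  have hsurj : LinearMap.range N = ⊤ := by
    have hunit : IsUnit (N - c • (1 : Module.End K V)) := by
      have h1 : IsNilpotent ((-c⁻¹) • N) := ⟨s, by rw [smul_pow, hN, smul_zero]⟩
      have h2 := h1.isUnit_one_add
      have h3 : N - c • (1 : Module.End K V) = (-c) • (1 + (-c⁻¹) • N) := by
        rw [smul_add, smul_smul, neg_mul_neg, mul_inv_cancel₀ hc, one_smul, neg_smul]; abel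
      rw [h3, Algebra.smul_def]
      exact ((isUnit_iff_ne_zero.2 (neg_ne_zero.2 hc)).map _).mul h2
    have hT' : T = N - c • 1 := by rw [h]; abel
    rw [← hT'] at hunit
    exact top_le_iff.1 ((LinearMap.range_eq_top.2 ((Module.End.isUnit_iff _).1 hunit).2).ge.trans hT)
  have hs : ∀ k, LinearMap.range (N ^ k) = ⊤ := by
    intro k
    induction k with
    | zero => rw [pow_zero]; exact LinearMap.range_id
    | succ k ih =>
      rw [pow_succ', Module.End.mul_eq_comp, LinearMap.range_comp, ih, Submodule.map_top, hsurj]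
  have := hs s
  rw [hN, LinearMap.range_zero] at this
  exact bot_ne_top this

end

theorem main {G : Type*} [Group G] [Finite G] (p q : ℕ) [Fact p.Prime] [Fact q.Prime] (hpq : p ≠ q)
    (Q : Subgroup G) [Q.Normal] (hQ : IsPGroup q Q) (x : G) (e : ℕ) (he : orderOf x = p ^ e)
    (hgen : Q ⊔ Subgroup.zpowers x = ⊤)
    (hC : ∀ y ∈ Subgroup.zpowers x, y ≠ 1 →
      Subgroup.centralizer ({y} : Set G) = Subgroup.zpowers x ⊔ Subgroup.center G)
    {K : Type*} [Field K] [IsAlgClosed K] [CharP K p] {V : Type*} [AddCommGroup V] [Module K V]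
    [FiniteDimensional K V] [Nontrivial V] (ρ : G →* Module.End K V) (hfaith : Function.Injective ρ)
    (hirr : ∀ W : Submodule K V, (∀ g ∈ Q, Submodule.map (ρ g) W ≤ W) → W = ⊥ ∨ W = ⊤)
    (s : ℕ) (hs : (ρ x - 1) ^ s = 0) (hmin : ∀ k < s, (ρ x - 1) ^ k ≠ 0) :
    p ^ e - 1 ≤ s ∧ s ≤ p ^ e ∧
      (s = p ^ e - 1 → (∃ b : ℕ, p ^ e - 1 = q ^ b) ∧ ¬ IsMulCommutative Q) := by
  classical
  have hp : p.Prime := Fact.out
  haveI : CharP (Module.End K V) p :=
    charP_of_injective_algebraMap' K p
  have hAn : (ρ x) ^ (p ^ e) = 1 := by rw [← map_pow, ← he, pow_orderOf_eq_one, map_one]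
  have hnil : (ρ x - 1) ^ (p ^ e) = 0 := by
    rw [sub_pow_char_pow_of_commute (p := p) e (Commute.one_right _), hAn, one_pow, sub_self]
  have hsn : s ≤ p ^ e := Nat.le_of_not_lt fun h => hmin _ h hnil
  have hs1 : 1 ≤ s := Nat.one_le_iff_ne_zero.2 fun h => by
    rw [h, pow_zero] at hs; exact one_ne_zero hs
  rcases Nat.lt_or_ge (p ^ e) 2 with he1 | he2
  · exact ⟨by omega, hsn, by omega⟩
  have hAne : ρ x - 1 ≠ 0 := fun h => by
    rw [sub_eq_zero, ← map_one ρ] at h
    rw [hfaith h, orderOf_one] at he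
    omega
  have hθirr : ∀ U : Submodule K V, (∀ g : Q, ∀ v ∈ U, ρ (g : G) v ∈ U) → U = ⊥ ∨ U = ⊤ :=
    fun U hU => hirr U fun g hg => by rintro _ ⟨v, hv, rfl⟩; exact hU ⟨g, hg⟩ v hv
  -- the dimension
  obtain ⟨b, hb⟩ := Cfsg.Agent.Lib.PLocal.QDim.finrank_eq_pow (Module.finrank K V) Q hQ V
    (ρ.comp Q.subtype) hθirr rfl
  have hqK : ∀ k : ℕ, ((q ^ k : ℕ) : K) ≠ 0 := by
    intro k h
    rw [CharP.cast_eq_zero_iff K p] at h
    exact hpq ((Nat.prime_dvd_prime_iff_eq hp Fact.out).1 (hp.dvd_of_dvd_pow h))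
  -- the expansion of commuting operators
  have hcent : ∀ B : Module.End K V, ρ x * B = B * ρ x → ∃ (c : K) (B' : Module.End K V),
      B = c • 1 + ∑ k ∈ Finset.range (p ^ e), (ρ x) ^ k * B' * (ρ x⁻¹) ^ k := by
    intro B hB
    let bV := Module.finBasis K V
    haveI := Fintype.ofFinite Q
    let φ := LinearMap.toMatrixAlgEquiv bV
    let R : Q →* Matrix (Fin (Module.finrank K V)) (Fin (Module.finrank K V)) K :=
      (φ : Module.End K V →* _).comp (ρ.comp Q.subtype)
    haveI : Nonempty (Fin (Module.finrank K V)) := ⟨⟨0, Module.finrank_pos⟩⟩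
    have hRirr : ∀ U : Submodule K (Fin (Module.finrank K V) → K),
        (∀ g, ∀ v ∈ U, (R g).mulVecLin v ∈ U) → U = ⊥ ∨ U = ⊤ := by
      intro U hU
      have hrepr : ∀ (g : Q) (v : V), (R g).mulVecLin (bV.equivFun v) = bV.equivFun (ρ (g : G) v) := by
        intro g v
        exact LinearMap.toMatrix_mulVec_repr bV bV (ρ (g : G)) v
      have h1 := hθirr (U.comap bV.equivFun.toLinearMap) fun g v hv => by
        show bV.equivFun (ρ (g : G) v) ∈ U
        rw [← hrepr]; exact hU g _ hv
      refine h1.imp (fun h => ?_) (fun h => ?_)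
      · rw [eq_bot_iff]
        intro w hw
        have : bV.equivFun.symm w ∈ U.comap bV.equivFun.toLinearMap := by
          show bV.equivFun (bV.equivFun.symm w) ∈ U
          rwa [LinearEquiv.apply_symm_apply]
        rw [h, Submodule.mem_bot, LinearEquiv.map_eq_zero_iff] at this
        exact (Submodule.mem_bot K).2 this
      · rw [eq_top_iff]
        intro w _
        have : bV.equivFun.symm w ∈ U.comap bV.equivFun.toLinearMap := h ▸ Submodule.mem_top
        change bV.equivFun (bV.equivFun.symm w) ∈ U at this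
        rwa [LinearEquiv.apply_symm_apply] at this
    obtain ⟨cQ, hcQ⟩ := IsPGroup.iff_card.1 hQ
    set a : Q → K := fun g => (Fintype.card (Fin (Module.finrank K V)) : K) / Fintype.card Q *
      (φ B * R g⁻¹).trace with ha
    have hBeq : B = ∑ g : Q, a g • ρ (g : G) := by
      apply φ.injective
      rw [map_sum]
      simp only [map_smul]
      exact expansion R hRirr (by rw [Fintype.card_fin, hb]; exact hqK b)
        (by rw [← Nat.card_eq_fintype_card, hcQ]; exact hqK cQ) (φ B)
    let cj : Q → Q := fun g => ⟨x * g * x⁻¹, Subgroup.Normal.conj_mem ‹_› _ g.2 x⟩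
    have hcja : ∀ g, a (cj g) = a g := by
      intro g
      simp only [ha]
      congr 1
      have e1 : R (cj g)⁻¹ = φ (ρ x) * R g⁻¹ * φ (ρ x⁻¹) := by
        show φ (ρ ((cj g : G))⁻¹) = φ (ρ x) * φ (ρ ((g : G))⁻¹) * φ (ρ x⁻¹)
        rw [← map_mul φ, ← map_mul φ, ← map_mul ρ, ← map_mul ρ]
        congr 2
        simp [cj, mul_assoc]
      rw [e1, ← mul_assoc, ← mul_assoc, ← map_mul φ B, ← hB, map_mul, Matrix.trace_mul_comm,
        ← mul_assoc, ← mul_assoc, ← map_mul φ (ρ x⁻¹), ← map_mul ρ, inv_mul_cancel, map_one, map_one,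
        one_mul]
    -- the central part
    have hcen : ∀ g : Q, (g : G) ∈ Subgroup.center G → ∃ r : K, ρ (g : G) = r • 1 := fun g hg =>
      Cfsg.Agent.Lib.PLocal.QDim.schur (fun h : Q => ρ (h : G)) hθirr _ fun h => by
        rw [← map_mul, ← map_mul, Subgroup.mem_center_iff.1 hg]
    have hfree : ∀ g : Q, (g : G) ∉ Subgroup.center G → ∀ k, k < p ^ e → 0 < k →
        x ^ k * g * (x ^ k)⁻¹ ≠ g := by
      intro g hg k hk hk0 hfix
      apply hg
      have hy1 : x ^ k ≠ 1 := pow_ne_one_of_lt_orderOf hk0.ne' (he.symm ▸ hk)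
      have hmem : (g : G) ∈ Subgroup.zpowers x ⊔ Subgroup.center G := by
        rw [← hC _ (pow_mem (Subgroup.mem_zpowers x) k) hy1, Subgroup.mem_centralizer_singleton_iff]
        exact (mul_inv_eq_iff_eq_mul.1 hfix).symm
      obtain ⟨u, hu, z, hz, huz⟩ := Subgroup.mem_sup_of_normal_right.1 hmem
      obtain ⟨i, rfl⟩ := Subgroup.mem_zpowers_iff.1 hu
      have h1 : (g : G) ^ (p ^ e) ∈ Subgroup.center G := by
        rw [← huz, (show Commute (x ^ i) z from (Subgroup.mem_center_iff.1 hz _)).mul_pow,
          ← zpow_natCast, ← zpow_mul, mul_comm, zpow_mul, zpow_natCast, ← he, pow_orderOf_eq_one,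
          one_zpow, one_mul]
        exact pow_mem hz _
      obtain ⟨j, hj⟩ := hQ g
      have h2 : (g : G) ^ (q ^ j) = 1 := congrArg Subtype.val hj
      have hcop : Nat.Coprime (p ^ e) (q ^ j) :=
        Nat.Coprime.pow _ _ ((Nat.coprime_primes hp Fact.out).2 hpq)
      have h3 : ((g : G) : G ⧸ Subgroup.center G) = 1 := by
        refine orderOf_eq_one_iff.1 (Nat.eq_one_of_dvd_coprimes hcop ?_ ?_) <;>
          refine orderOf_dvd_of_pow_eq_one ?_ <;> rw [← QuotientGroup.mk_pow, QuotientGroup.eq_one_iff]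
        · exact h1
        · rw [h2]; exact one_mem _
      exact (QuotientGroup.eq_one_iff _).1 h3
    set S := Finset.univ.filter fun g : Q => (g : G) ∉ Subgroup.center G
    let cp : ℕ → Q → Q := fun k g =>
      ⟨x ^ k * g * (x ^ k)⁻¹, Subgroup.Normal.conj_mem ‹_› _ g.2 _⟩
    have hcpa : ∀ k g, a (cp k g) = a g := by
      intro k g
      induction k with
      | zero => exact congrArg a (Subtype.ext (by simp [cp]))
      | succ k ih =>
        rw [← ih, ← hcja (cp k g)]
        exact congrArg a (Subtype.ext (by simp [cp, cj, pow_succ', mul_assoc]))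
    have hcpS : ∀ k g, g ∈ S → cp k g ∈ S := by
      intro k g hg
      simp only [S, Finset.mem_filter, Finset.mem_univ, true_and] at hg ⊢
      intro h
      apply hg
      have := Subgroup.Normal.conj_mem (Subgroup.instNormalCenter (G := G)) _ h (x ^ k)⁻¹
      simpa [cp, mul_assoc] using this
    have hcpmod : ∀ k g, cp (k % p ^ e) g = cp k g := fun k g => Subtype.ext (by
      simp only [cp]
      rw [← he, pow_mod_orderOf])
    have hcpcp : ∀ k l g, cp k (cp l g) = cp (k + l) g := fun k l g => Subtype.ext (by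
      simp [cp, pow_add, mul_assoc])
    let st : Setoid Q := ⟨fun g h => ∃ k, cp k g = h,
      fun g => ⟨0, Subtype.ext (by simp [cp])⟩, fun {g h} ⟨k, hk⟩ => ⟨(p ^ e - k % p ^ e), by
        rw [← hk, ← hcpmod k, hcpcp, Nat.sub_add_cancel (Nat.mod_lt _ (by omega)).le, ← hcpmod,
          Nat.mod_self]
        exact Subtype.ext (by simp [cp])⟩,
      fun {g h i} ⟨k, hk⟩ ⟨l, hl⟩ => ⟨l + k, by rw [← hcpcp, hk, hl]⟩⟩
    let rep : Q → Q := fun g => (Quotient.mk st g).out
    have hrep : ∀ g, ∃ k, cp k g = rep g := fun g =>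
      Quotient.exact (Quotient.out_eq (Quotient.mk st g)).symm
    have hrep' : ∀ g, ∃ k, k < p ^ e ∧ cp k (rep g) = g := fun g => by
      obtain ⟨k, hk⟩ := @Setoid.symm _ st _ _ (show st.r g (rep g) from hrep g)
      exact ⟨k % p ^ e, Nat.mod_lt _ (by omega), by rw [hcpmod, hk]⟩
    have hrepcp : ∀ k g, rep (cp k g) = rep g := fun k g =>
      congrArg Quotient.out (Quotient.sound (s := st) (@Setoid.symm _ st _ _ ⟨k, rfl⟩))
    set T := S.filter fun g => rep g = g
    refine ⟨∑ g ∈ Sᶜ, a g * (if h : (g : G) ∈ Subgroup.center G then (hcen g h).choose else 0),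
      ∑ g ∈ T, a g • ρ (g : G), ?_⟩
    rw [hBeq, ← Finset.sum_add_sum_compl S, add_comm]
    congr 1
    · rw [Finset.sum_smul]
      refine Finset.sum_congr rfl fun g hg => ?_
      have hgz : (g : G) ∈ Subgroup.center G := by simpa [S] using hg
      rw [dif_pos hgz]
      simp only [ha, mul_smul]
      rw [← (hcen g hgz).choose_spec]
    · simp only [Finset.mul_sum, Finset.sum_mul]
      rw [← Finset.sum_product']
      symm
      refine Finset.sum_bij (fun z _ => cp z.1 z.2) ?_ ?_ ?_ ?_
      · intro z hz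
        exact hcpS _ _ (Finset.mem_filter.1 (Finset.mem_product.1 hz).2).1
      · rintro ⟨k, g⟩ hz ⟨k', g'⟩ hz' h
        simp only [Finset.mem_product, Finset.mem_range, T, Finset.mem_filter] at hz hz'
        simp only at h
        have hgg : g = g' := by rw [← hz.2.2, ← hrepcp k g, h, hrepcp, hz'.2.2]
        subst hgg
        have hgS : (g : G) ∉ Subgroup.center G := by simpa [S] using hz.2.1
        have key : ∀ k k', k' < p ^ e → k ≤ k' → cp k g = cp k' g → k = k' := by
          intro k k' hk' hle h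
          by_contra hne
          refine hfree g hgS (k' - k) (by omega) (by omega) ?_
          have := congrArg Subtype.val h
          simp only [cp] at this
          have e1 : x ^ k' = x ^ k * x ^ (k' - k) := by rw [← pow_add, Nat.add_sub_cancel' hle]
          rw [e1] at this
          calc x ^ (k' - k) * g * (x ^ (k' - k))⁻¹
              = (x ^ k)⁻¹ * (x ^ k * x ^ (k' - k) * g * (x ^ k * x ^ (k' - k))⁻¹) * x ^ k := by group
            _ = g := by rw [← this]; group
        rcases le_total k k' with h1 | h1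
        · rw [key k k' hz'.1 h1 h]
        · rw [key k' k hz.1 h1 h.symm]
      · intro g hg
        obtain ⟨k, hk, hkg⟩ := hrep' g
        refine ⟨(k, rep g), Finset.mem_product.2 ⟨Finset.mem_range.2 hk, Finset.mem_filter.2 ⟨?_, ?_⟩⟩, hkg⟩
        · obtain ⟨l, hl⟩ := hrep g
          exact hl ▸ hcpS l g hg
        · exact congrArg Quotient.out (Quotient.out_eq (Quotient.mk st g))
      · intro z hz
        rw [hcpa, mul_smul_comm, smul_mul_assoc, ← map_pow, ← map_pow, inv_pow, ← map_mul, ← map_mul]
  have hA : ρ x * ρ x⁻¹ = 1 := by rw [← map_mul, mul_inv_cancel, map_one]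
  have hA' : ρ x⁻¹ * ρ x = 1 := by rw [← map_mul, inv_mul_cancel, map_one]
  set N := ρ x - 1 with hN
  have hNA : ρ x * N = N * ρ x := by rw [hN, mul_sub, sub_mul, mul_one, one_mul]
  have hlow : p ^ e - 1 ≤ s := by
    by_contra hlt
    obtain ⟨c, B', hB'⟩ := hcent N hNA
    set T := ∑ k ∈ Finset.range (p ^ e), (ρ x) ^ k * B' * (ρ x⁻¹) ^ k
    have hT : LinearMap.range T ≤ LinearMap.range (N * N) := by
      refine (norm_range p e s _ _ hA hA' hs hsn B').trans ?_
      rw [← hN, show p ^ e - s = 2 + (p ^ e - s - 2) by omega, pow_add, pow_two,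
        Module.End.mul_eq_comp (N * N)]
      exact LinearMap.range_comp_le_range _ _
    have hc : c = 0 := scalar_zero_of_range hs hB' (hT.trans (LinearMap.range_comp_le_range N N))
    rw [hc, zero_smul, zero_add] at hB'
    have h2 : LinearMap.range N ≤ LinearMap.range (N * N) := by
      conv_lhs => rw [hB']
      exact hT
    have hk : ∀ k, LinearMap.range N ≤ LinearMap.range (N ^ (k + 1)) := by
      intro k
      induction k with
      | zero => rw [zero_add, pow_one]
      | succ k ih =>
        refine h2.trans ?_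
        rw [pow_succ' N (k + 1), Module.End.mul_eq_comp, Module.End.mul_eq_comp, LinearMap.range_comp,
          LinearMap.range_comp]
        exact Submodule.map_mono ih
    have := hk (s - 1)
    rw [Nat.sub_add_cancel hs1, hs, LinearMap.range_zero, le_bot_iff] at this
    exact hAne (LinearMap.range_eq_bot.1 this)
  refine ⟨hlow, hsn, fun hse => ?_⟩
  have hd : Module.finrank K V = s := by
    obtain ⟨v, hv⟩ : ∃ v, (N ^ (s - 1)) v ≠ 0 := by
      by_contra h
      push Not at h
      exact hmin (s - 1) (by omega) (LinearMap.ext fun v => by simpa using h v)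
    have hpow : ∀ i j w, (N ^ i) ((N ^ j) w) = (N ^ (i + j)) w := fun i j w => by
      rw [pow_add, Module.End.mul_apply]
    have hz : ∀ i, s ≤ i → ∀ w, (N ^ i) w = 0 := fun i hi w => by
      rw [← Nat.add_sub_cancel' hi, pow_add, hs, zero_mul, LinearMap.zero_apply]
    obtain ⟨φ, hφ⟩ : ∃ φ : V →ₗ[K] K, φ ((N ^ (s - 1)) v) = 1 := by
      obtain ⟨φ, hφ⟩ := Module.Projective.exists_dual_ne_zero K hv
      exact ⟨(φ ((N ^ (s - 1)) v))⁻¹ • φ, by simp [hφ]⟩
    let E : Module.End K V :=
      ∑ i ∈ Finset.range s, (φ.comp (N ^ (s - 1 - i))).smulRight ((N ^ i) v)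
    have hEapp : ∀ w, E w = ∑ i ∈ Finset.range s, φ ((N ^ (s - 1 - i)) w) • (N ^ i) v := fun w => by
      simp [E]
    have hEN : ρ x * E = E * ρ x := by
      suffices h : N * E = E * N by
        rw [hN, sub_mul, mul_sub, one_mul, mul_one, sub_left_inj] at h
        exact h
      refine LinearMap.ext fun w => ?_
      rw [Module.End.mul_apply, Module.End.mul_apply, hEapp, hEapp, map_sum]
      obtain ⟨r, hr⟩ : ∃ r, s = r + 1 := ⟨s - 1, by omega⟩
      subst hr
      rw [Finset.sum_range_succ, Finset.sum_range_succ']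
      congr 1
      · refine Finset.sum_congr rfl fun i hi => ?_
        rw [map_smul, ← Module.End.mul_apply, ← pow_succ' N, ← Module.End.mul_apply (N ^ _) N,
          ← pow_succ N]
        congr 3
        have := Finset.mem_range.1 hi
        exact congrArg (N ^ ·) (by omega)
      · rw [map_smul, ← Module.End.mul_apply, ← pow_succ' N, hz (r + 1) le_rfl, smul_zero,
          ← Module.End.mul_apply (N ^ _) N, ← pow_succ N, hz _ (by omega), map_zero, zero_smul]
    obtain ⟨c, B', hB'⟩ := hcent E hEN
    set T := ∑ k ∈ Finset.range (p ^ e), (ρ x) ^ k * B' * (ρ x⁻¹) ^ k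
    have hT : LinearMap.range T ≤ LinearMap.range N := by
      refine (norm_range p e s _ _ hA hA' hs hsn B').trans ?_
      rw [← hN, show p ^ e - s = 1 by omega, pow_one]
    have hv' : v ∉ LinearMap.range N := by
      rintro ⟨w, rfl⟩
      rw [← Module.End.mul_apply, ← pow_succ, hz _ (by omega)] at hv
      exact hv rfl
    have hc1 : c = 1 := by
      by_contra hc
      apply hv'
      have h1 : E v = c • v + T v := by
        conv_lhs => rw [hB']
        rfl
      obtain ⟨r, hr⟩ : ∃ r, s = r + 1 := ⟨s - 1, by omega⟩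
      rw [hEapp, hr, Finset.sum_range_succ'] at h1
      have hr' : s - 1 = r := by omega
      rw [hr'] at hφ
      simp only [Nat.add_sub_cancel, Nat.sub_zero, hφ, pow_zero, Module.End.one_apply, one_smul] at h1
      have h3 : ∀ i, (N ^ (i + 1)) v ∈ LinearMap.range N := fun i => by
        rw [pow_succ' N, Module.End.mul_apply]; exact LinearMap.mem_range_self _ _
      have h2 : (1 - c) • v ∈ LinearMap.range N := by
        rw [sub_smul, one_smul]
        have : v - c • v = T v - ∑ i ∈ Finset.range r, φ ((N ^ (r - (i + 1))) v) • (N ^ (i + 1)) v := by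
          rw [eq_sub_iff_add_eq, sub_add_eq_add_sub, sub_eq_iff_eq_add, add_comm v, h1]
          abel
        rw [this]
        exact sub_mem (hT (LinearMap.mem_range_self _ _))
          (Submodule.sum_mem _ fun i _ => Submodule.smul_mem _ _ (h3 i))
      exact (Submodule.smul_mem_iff _ (sub_ne_zero.2 (Ne.symm hc))).1 h2
    set W := Submodule.span K (Set.range fun i : Fin s => (N ^ (i : ℕ)) v)
    have hWN : ∀ w ∈ W, N w ∈ W := by
      intro w hw
      have : W ≤ W.comap N := by
        refine Submodule.span_le.2 ?_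
        rintro _ ⟨i, rfl⟩
        show N ((N ^ (i : ℕ)) v) ∈ W
        rw [← Module.End.mul_apply, ← pow_succ']
        by_cases hi : (i : ℕ) + 1 < s
        · exact Submodule.subset_span ⟨⟨_, hi⟩, rfl⟩
        · rw [hz _ (by omega)]; exact zero_mem _
      exact this hw
    have hdec : ∀ w, ∃ u ∈ W, ∃ y, w = u + N y := by
      intro w
      obtain ⟨y, hy⟩ := hT (LinearMap.mem_range_self T w)
      refine ⟨E w, ?_, -y, ?_⟩
      · rw [hEapp]
        exact Submodule.sum_mem _ fun i hi => Submodule.smul_mem _ _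
          (Submodule.subset_span ⟨⟨i, Finset.mem_range.1 hi⟩, rfl⟩)
      · have h1 : E w = c • w + T w := by
          conv_lhs => rw [hB']
          rfl
        rw [h1, hc1, one_smul, map_neg, hy]
        abel
    have hk : ∀ k w, ∃ u ∈ W, ∃ y, w = u + (N ^ k) y := by
      intro k
      induction k with
      | zero => exact fun w => ⟨0, zero_mem _, w, by simp⟩
      | succ k ih =>
        intro w
        obtain ⟨u, hu, y, rfl⟩ := ih w
        obtain ⟨u', hu', y', rfl⟩ := hdec y
        refine ⟨u + (N ^ k) u', add_mem hu ?_, y', by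
          rw [map_add, pow_succ, Module.End.mul_apply]; abel⟩
        clear * - hu' hWN
        induction k with
        | zero => simpa using hu'
        | succ k ih => rw [pow_succ', Module.End.mul_apply]; exact hWN _ ih
    have hWtop : W = ⊤ := eq_top_iff.2 fun w _ => by
      obtain ⟨u, hu, y, rfl⟩ := hk s w
      rw [hz s le_rfl, add_zero]
      exact hu
    refine le_antisymm ?_ ?_
    · rw [← finrank_top K V, ← hWtop]
      exact (finrank_range_le_card _).trans_eq (Fintype.card_fin s)
    · by_contra hlt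
      push Not at hlt
      -- powers of a nilpotent operator stop at the dimension
      have : N ^ Module.finrank K V = 0 := LinearMap.ker_eq_top.1 (top_le_iff.1 (by
        have h := Module.End.ker_pow_le_ker_pow_finrank N s
        rwa [hs, LinearMap.ker_zero] at h))
      exact hmin _ hlt this
  refine ⟨⟨b, by omega⟩, fun hab => ?_⟩
  have h1 : Module.finrank K V = 1 :=
    Cfsg.Agent.Lib.PLocal.QDim.finrank_eq_one (fun g : Q => ρ (g : G)) hθirr fun g h => by
      rw [← map_mul, ← map_mul]
      exact congrArg ρ (congrArg Subtype.val (hab.1.1 g h))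
  rw [hd] at h1
  rw [h1, pow_one] at hs
  exact hAne hs


/-- A critical case behind the Hall–Higman theorem. Let p ≠ q be primes and G a finite group generated by a normal q-subgroup Q and a cyclic p-subgroup generated by x, such that the centralizer of every non-identity element of that cyclic subgroup is its product with the centre of G. Let K be an algebraically closed field of characteristic p and ρ a faithful representation of G on a nonzero finite-dimensional K-space whose restriction to Q is irreducible. If s is the least exponent with (ρ(x) − 1)^s = 0, then |⟨x⟩| − 1 ≤ s ≤ |⟨x⟩|; and if s = |⟨x⟩| − 1 then |⟨x⟩| − 1 is a power of q and Q is non-abelian. -/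
theorem result {G : Type*} [Group G] [Finite G] (p q : ℕ) [Fact p.Prime] [Fact q.Prime] (hpq : p ≠ q) (Q : Subgroup G) [Q.Normal] (hQ : IsPGroup q Q) (x : G) (hx : IsPGroup p (Subgroup.zpowers x)) (hgen : Q ⊔ Subgroup.zpowers x = ⊤) (hC : ∀ y ∈ Subgroup.zpowers x, y ≠ 1 → Subgroup.centralizer ({y} : Set G) = Subgroup.zpowers x ⊔ Subgroup.center G) {K : Type*} [Field K] [IsAlgClosed K] [CharP K p] {V : Type*} [AddCommGroup V] [Module K V] [FiniteDimensional K V] [Nontrivial V] (ρ : Representation K G V) (hfaith : Function.Injective ρ) (hirr : ∀ W : Submodule K V, (∀ g ∈ Q, Submodule.map (ρ g) W ≤ W) → W = ⊥ ∨ W = ⊤) (s : ℕ) (hs : (ρ x - 1) ^ s = 0) (hmin : ∀ k < s, (ρ x - 1) ^ k ≠ 0) : Nat.card (Subgroup.zpowers x) - 1 ≤ s ∧ s ≤ Nat.card (Subgroup.zpowers x) ∧ (s = Nat.card (Subgroup.zpowers x) - 1 → (∃ b : ℕ, Nat.card (Subgroup.zpowers x) - 1 = q ^ b) ∧ ¬ IsMulCommutative Q) := by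
  obtain ⟨e, he⟩ := IsPGroup.iff_card.1 hx
  rw [Nat.card_zpowers] at he ⊢
  rw [he]
  exact main p q hpq Q hQ x e he hgen hC ρ hfaith hirr s hs hmin

end Cfsg.Agent.S4282
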