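import Cfsg.Statements.S1457
import Cfsg.Agent.Lib.OddLocal.PStable

set_option autoImplicit false
open Cfsg

namespace Cfsg.Agent.S1457

/-- Let G be a solvable group of odd order, p a prime, S a Sylow p-subgroup of G and A an abelian subgroup of S normal in S. Then A ≤ O_{p',p}(G). -/
theorem result {G : Type*} [Group G] [Finite G] [Group.IsSolvable G] (hodd : Odd (Nat.card G)) (p : ℕ) [Fact p.Prime] (S : Sylow p G) (A : Subgroup G) (hA : A ≤ (S : Subgroup G)) (hAc : IsMulCommutative A)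
    (hAn : (S : Subgroup G) ≤ Subgroup.normalizer (A : Set G)) :
    A ≤ Cfsg.pPrimePCore p G := by
  open Cfsg.Agent.Lib.OddLocal in
  intro a ha
  show QuotientGroup.mk' (Cfsg.pPrimeCore p G) a ∈ Cfsg.pCore p (G ⧸ Cfsg.pPrimeCore p G)
  by_cases hp : p = 2
  · obtain ⟨k, hk⟩ := S.2 ⟨a, hA ha⟩
    have hk' : a ^ 2 ^ k = 1 := by rw [← hp]; exact congrArg Subtype.val hk
    have : orderOf a = 1 := Nat.eq_one_of_dvd_coprimes
      ((Nat.coprime_two_right.mpr hodd).pow_right k) (orderOf_dvd_natCard a) (orderOf_dvd_of_pow_eq_one hk')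
    rw [orderOf_eq_one_iff.mp this, map_one]
    exact one_mem _
  set π := QuotientGroup.mk' (Cfsg.pPrimeCore p G)
  haveI : Group.IsSolvable (G ⧸ Cfsg.pPrimeCore p G) :=
    Group.isSolvable_of_surjective (QuotientGroup.mk'_surjective _)
  refine mem_pCore_of_quadratic_pCore hp
    (hodd.of_dvd_nat (Subgroup.card_quotient_dvd_card _))
    (Cfsg.Agent.Lib.Cores.pPrimeCore_quotient_pPrimeCore p G) ?_ ?_
  · obtain ⟨k, hk⟩ := S.2 ⟨a, hA ha⟩
    exact ⟨k, by rw [← map_pow, show a ^ p ^ k = 1 from congrArg Subtype.val hk, map_one]⟩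
  · intro x hx
    open scoped commutatorElement in
    obtain ⟨s, hs, rfl⟩ : x ∈ (S : Subgroup G).map π :=
      Cfsg.Agent.Lib.Cores.pCore_le_sylow (S.mapSurjective (QuotientGroup.mk'_surjective _)) hx
    rw [← map_commutatorElement]
    open scoped commutatorElement in
    have hc : ⁅s, a⁆ ∈ A :=
      (Subgroup.le_normalizer_iff_commutator_le_right.mp hAn) (Subgroup.commutator_mem_commutator hs ha)
    refine Commute.map ?_ π
    exact congrArg Subtype.val (mul_comm' (⟨a, ha⟩ : A) ⟨_, hc⟩)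

end Cfsg.Agent.S1457
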