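import Cfsg.Statements.S1458
import Cfsg.Agent.Lib.OddLocal.CenterThompson
import Cfsg.Agent.Lib.PLocal.GZJDefs
import Cfsg.Agent.Lib.Components.Constrained

set_option autoImplicit false
open Cfsg

namespace Cfsg.Agent.S1458

/-- Let G be a solvable group of odd order, p a prime and S a Sylow p-subgroup of G. Then the subgroup generated by the centre of the Thompson subgroup of S and O_{p'}(G) is normal in G. -/
theorem result {G : Type*} [Group G] [Finite G] [Group.IsSolvable G] (hodd : Odd (Nat.card G)) (p : ℕ) [Fact p.Prime] (S : Sylow p G) :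
    (Cfsg.centerThompsonOf p (S : Subgroup G) ⊔ Cfsg.pPrimeCore p G).Normal := by
  by_cases hp2 : p = 2
  · have hS : (S : Subgroup G) = ⊥ := by
      obtain ⟨n, hn⟩ := IsPGroup.iff_card.mp S.isPGroup'
      rcases Nat.eq_zero_or_pos n with rfl | hn0
      · exact Subgroup.card_eq_one.mp (by rw [hn, pow_zero])
      · exfalso
        have h := (hn ▸ dvd_pow_self p hn0.ne' : p ∣ Nat.card (S : Subgroup G)).trans
          (Subgroup.card_subgroup_dvd_card _)
        subst hp2
        exact Nat.not_even_iff_odd.mpr hodd (even_iff_two_dvd.mpr h)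
    have hZ : Cfsg.centerThompsonOf p (S : Subgroup G) = ⊥ :=
      eq_bot_iff.mpr (inf_le_left.trans ((Subgroup.map_subtype_le _).trans hS.le))
    rw [hZ, bot_sup_eq]
    infer_instance
  set N := Cfsg.pPrimeCore p G with hN
  set f := QuotientGroup.mk' N with hf
  have hsur : Function.Surjective f := QuotientGroup.mk'_surjective N
  have hpp : Cfsg.pPrimeCore p (G ⧸ N) = ⊥ := Lib.Cores.pPrimeCore_quotient_pPrimeCore p G
  have hs : Group.IsSolvable (G ⧸ N) := Group.isSolvable_of_surjective (f := f) hsur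
  have hoddQ : Odd (Nat.card (G ⧸ N)) := hodd.of_dvd_nat (Subgroup.card_quotient_dvd_card N)
  have hn := Lib.OddLocal.jZ_normal hp2 (Lib.OddLocal.centralizer_pCore_le hpp)
    (fun P _ hP => Lib.OddLocal.isPStableOn_of_odd hp2 hoddQ P hP) (S.mapSurjective hsur)
  have hJ : Lib.OddLocal.jIn p (S : Subgroup G) = Cfsg.thompsonSubgroupOf p (S : Subgroup G) := by
    apply le_antisymm
    · refine sSup_le fun A hA => ?_
      obtain ⟨X, hX, rfl⟩ := Lib.PLocal.maxIn_prime_iff.mp hA
      exact Subgroup.map_mono (le_sSup hX)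
    · refine Subgroup.map_le_iff_le_comap.mpr (sSup_le fun X hX => ?_)
      exact Subgroup.map_le_iff_le_comap.mp (le_sSup (Lib.PLocal.maxIn_prime_iff.mpr ⟨X, hX, rfl⟩))
  have hZ : Cfsg.centerThompsonOf p (S : Subgroup G) = Lib.OddLocal.jZ p (S : Subgroup G) := by
    rw [Cfsg.centerThompsonOf, Lib.OddLocal.jZ, hJ]
  have hinj : Function.Injective (f.comp (S : Subgroup G).subtype) := by
    rw [← MonoidHom.ker_eq_bot_iff, eq_bot_iff]
    intro x hx
    have h1 : (x : G) ∈ (S : Subgroup G) ⊓ N := ⟨x.2, (QuotientGroup.eq_one_iff _).mp hx⟩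
    rw [Lib.Components.isPGroup_inf_pPrimeCore_eq_bot S.isPGroup', Subgroup.mem_bot] at h1
    exact Subgroup.mem_bot.mpr (Subtype.ext h1)
  have htop : (⊤ : Subgroup (S : Subgroup G)).map (S : Subgroup G).subtype = S := by
    rw [← MonoidHom.range_eq_map, Subgroup.range_subtype]
  have himg : (Lib.OddLocal.jZ p (S : Subgroup G)).map f =
      Lib.OddLocal.jZ p ((S.mapSurjective hsur : Sylow p (G ⧸ N)) : Subgroup (G ⧸ N)) := by
    conv_lhs => rw [← htop, ← Lib.OddLocal.map_jZ _ (Subgroup.subtype_injective _), Subgroup.map_map]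
    rw [Lib.OddLocal.map_jZ _ hinj, ← Subgroup.map_map, htop]
    rfl
  rw [hZ]
  have heq : Lib.OddLocal.jZ p (S : Subgroup G) ⊔ N = ((Lib.OddLocal.jZ p (S : Subgroup G)).map f).comap f := by
    rw [Subgroup.comap_map_eq, hf, QuotientGroup.ker_mk']
  rw [heq, himg]
  exact hn.comap f

end Cfsg.Agent.S1458
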