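import Cfsg.Statements.S0225
import Mathlib
import Cfsg.Agent.Lib.Involutions.ZStar
import Cfsg.Agent.Lib.Involutions.Dihedral
-- import your own Cfsg.Agent.* helpers here

set_option autoImplicit false
open Cfsg

namespace Cfsg.Agent.S0225

open Cfsg.Agent.Lib.Involutions

/-- If a finite group G has even order but contains no Klein four-subgroup (2-rank 1), then some involution z of G is central modulo a normal subgroup of odd order: there is a normal subgroup N of odd order containing every commutator z g z⁻¹ g⁻¹. -/
theorem result {G : Type*} [Group G] [Finite G] (heven : Even (Nat.card G)) (hrank : ∀ E : Subgroup G, ¬ IsKleinFour E) : ∃ z : G, orderOf z = 2 ∧ ∃ N : Subgroup G, N.Normal ∧ Odd (Nat.card N) ∧ ∀ g : G, z * g * z⁻¹ * g⁻¹ ∈ N := by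
  have : Fact (Nat.Prime 2) := ⟨Nat.prime_two⟩
  obtain ⟨P⟩ : Nonempty (Sylow 2 G) := inferInstance
  have hPne : Nontrivial (P : Subgroup G) := by
    rw [← Finite.one_lt_card_iff_nontrivial]
    exact lt_of_lt_of_le (by norm_num : 1 < 2) (Nat.le_of_dvd Nat.card_pos
      (by simpa using P.pow_dvd_card_of_pow_dvd_card (n := 1) (by rw [pow_one]; exact even_iff_two_dvd.1 heven)))
  have := P.2.center_nontrivial
  obtain ⟨⟨⟨z, hzP⟩, hzc⟩, hz2⟩ := exists_prime_orderOf_dvd_card' 2
    ((P.2.to_subgroup (Subgroup.center (P : Subgroup G))).card_eq_or_dvd.resolve_left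
      (Finite.one_lt_card_iff_nontrivial.2 this).ne')
  rw [← Subgroup.orderOf_coe, ← Subgroup.orderOf_coe] at hz2
  change orderOf z = 2 at hz2
  have huniq : ∀ t ∈ (P : Subgroup G), orderOf t = 2 → t = z := by
    intro t ht ht2
    by_contra hne
    have hc : Commute t z := congrArg Subtype.val (Subgroup.mem_center_iff.1 hzc ⟨t, ht⟩)
    have hz1 := invol_mul_self hz2
    have ht1 := invol_mul_self ht2
    have hzt : z * t = t * z := hc.symm.eq
    have ht' : ∀ x, t * (t * x) = x := fun x => by rw [← mul_assoc, ht1, one_mul]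
    have hz' : ∀ x, z * (z * x) = x := fun x => by rw [← mul_assoc, hz1, one_mul]
    have hzt' : ∀ x, z * (t * x) = t * (z * x) := fun x => by
      rw [← mul_assoc, hzt, mul_assoc]
    have hcl : ∀ g ∈ Subgroup.closure ({t, z} : Set G), g = 1 ∨ g = t ∨ g = z ∨ g = t * z := by
      intro g hg
      induction hg using Subgroup.closure_induction with
      | mem a ha =>
        rcases ha with rfl | ha
        · exact Or.inr (Or.inl rfl)
        · exact Or.inr (Or.inr (Or.inl ha))
      | one => exact Or.inl rfl
      | mul a b _ _ iha ihb =>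
        rcases iha with e | e | e | e <;> rcases ihb with f | f | f | f <;>
          simp [e, f, ht1, hz1, hzt, ht', hz', hzt', mul_assoc]
      | inv a _ iha =>
        rcases iha with e | e | e | e <;>
          simp [e, invol_inv ht2, invol_inv hz2, hzt]
    refine hrank (Subgroup.closure ({t, z} : Set G)) (isKleinFour_of_sq ?_ fun g hg => ?_)
    · have e : (Subgroup.closure ({t, z} : Set G) : Set G) = {1, t, z, t * z} := by
        ext g
        refine ⟨fun hg => by simpa using hcl g hg, fun hg => ?_⟩
        rcases hg with rfl | rfl | rfl | rfl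
        · exact one_mem _
        · exact Subgroup.subset_closure (Or.inl rfl)
        · exact Subgroup.subset_closure (Or.inr rfl)
        · exact mul_mem (Subgroup.subset_closure (Or.inl rfl)) (Subgroup.subset_closure (Or.inr rfl))
      rw [← SetLike.coe_sort_coe, e, Nat.card_coe_set_eq]
      have h1 : t ≠ 1 := invol_ne_one ht2
      have h2 : z ≠ 1 := invol_ne_one hz2
      have h3 : t * z ≠ 1 := fun h => hne (mul_left_cancel (h.trans ht1.symm)).symm
      have h4 : t * z ≠ t := fun h => h2 (mul_eq_left.1 h)
      have h5 : t * z ≠ z := fun h => h1 (mul_eq_right.1 h)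
      rw [Set.ncard_insert_of_notMem (by simp [h1.symm, h2.symm, h3.symm]),
        Set.ncard_insert_of_notMem (by simp [hne, h4.symm]), Set.ncard_pair h5.symm]
    · rcases hcl g hg with e | e | e | e <;> simp [e, ht1, hz1, hzt', mul_assoc]
  have hiso := isIsolated_of_unique_in_sylow P hz2 hzP fun g hg =>
    huniq _ hg (by rw [orderOf_conj_eq, hz2])
  refine ⟨z, hz2, Cfsg.oddCore G, inferInstance, Cfsg.Agent.Lib.Cores.odd_card_oddCore G,
    fun g => ?_⟩
  rw [show z * g * z⁻¹ * g⁻¹ = (g * z * g⁻¹ * z⁻¹)⁻¹ by group]
  exact inv_mem (commutator_mem_oddCore hiso g)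

end Cfsg.Agent.S0225
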