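import Cfsg.Statements.S0495
import Cfsg.Agent.Lib.Classification.PSLRecognition
import Cfsg.Agent.Lib.SylowCounting.Order168
import Cfsg.Agent.Lib.Classical.LinearCard
import Cfsg.Agent.Lib.Classical.LinearSimple

set_option autoImplicit false
open Cfsg

namespace Cfsg.Agent.S0495

open Cfsg.Agent.Lib.Classification

private theorem psl2_seven {F : Type*} [Field F] [Fintype F] (hF : Fintype.card F = 7) :
    IsSimpleGroup (Matrix.ProjectiveSpecialLinearGroup (Fin 2) F) ∧
      Nat.card (Matrix.ProjectiveSpecialLinearGroup (Fin 2) F) = 168 := by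
  refine ⟨Cfsg.Agent.Lib.Classical.isSimpleGroup_PSL_fin le_rfl fun _ => by
    rw [Nat.card_eq_fintype_card, hF]; norm_num, ?_⟩
  have h := Cfsg.Agent.Lib.Classical.card_PSL2_mul (F := F)
  rw [hF, show Nat.gcd 2 (7 - 1) = 2 from rfl] at h
  omega

private theorem ne_one_of_168 {G : Type*} [Group G] [Finite G] [IsSimpleGroup G]
    (h : Nat.card G = 168) (f : G →* Equiv.Perm (Option (ZMod 7))) (y t : G) (k : ℕ)
    (fi : Function.Injective f) (fy : ∀ o, f y o = o.map (fun i => 2 * i))
    (t0 : f t none = some 0) (t1 : f t (some 0) = none) (hty : t * y * t⁻¹ = y ^ k) : k ≠ 1 := by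
  rintro rfl
  haveI : Fact (Nat.Prime 3) := ⟨Nat.prime_three⟩
  have h8 : ∀ i : ZMod 7, 2 * (2 * (2 * i)) = i := by decide
  have hy3 : y ^ 3 = 1 := fi (by
    rw [map_pow, map_one]
    refine Equiv.ext fun o => ?_
    simp only [pow_succ, pow_zero, one_mul, Equiv.Perm.mul_apply, Equiv.Perm.one_apply, fy,
      Option.map_map]
    cases o <;> simp [mul_assoc, h8])
  have hy1 : y ≠ 1 := fun e => by
    have := fy (some 1)
    rw [e, map_one, Equiv.Perm.one_apply, Option.map_some, Option.some.injEq] at this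
    exact absurd this (by decide)
  have hy : orderOf y = 3 := orderOf_eq_prime hy3 hy1
  have hc : t ∈ Subgroup.centralizer ({y} : Set G) := by
    rw [Subgroup.mem_centralizer_singleton_iff]
    rw [pow_one] at hty
    exact mul_inv_eq_iff_eq_mul.mp hty
  have ht : t ^ 3 = 1 := by
    have := pow_card_eq_one' (x := (⟨t, hc⟩ : Subgroup.centralizer ({y} : Set G)))
    rw [Cfsg.Agent.Lib.SylowCounting.Order168.centralizer3 h hy] at this
    exact congrArg Subtype.val this
  have := congrArg (fun g => f g none) ht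
  simp [pow_succ, t0, t1] at this

set_option maxRecDepth 100000 in
private theorem uniq_seven : ∀ k ∈ List.range 3, (2 : ZMod 7) ^ (k * k) = 2 → k ≠ 1 →
    ∀ a ∈ [(1 : ZMod 7), 3], ∀ b : ZMod 7,
      goodT 3 k a b 5 = true → k = 2 ∧ a = 3 ∧ b = 1 := by
  decide +kernel

private theorem data_seven : (2 : ZMod 7) ^ 3 = 1 ∧ (3 : ZMod 7) * 5 = 1 ∧
    (∀ i : ZMod 7, i ^ 3 = 1 → ∃ j < 3, i = 2 ^ j) ∧
    ∀ i : ZMod 7, i ≠ 0 → i ^ 3 = 1 ∨ (i * 5) ^ 3 = 1 := by
  decide +kernel

/-- A simple group of order 168 is isomorphic to the projective special linear group of dimension 2 over the field with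
7 elements. -/
theorem result {G : Type*} [Group G] [Finite G] [IsSimpleGroup G]
    (h : Nat.card G = 168) {F : Type*} [Field F] [Fintype F] (hF : Fintype.card F = 7) :
    Nonempty (G ≃* Matrix.ProjectiveSpecialLinearGroup (Fin 2) F) := by
  haveI : Fact (Nat.Prime 7) := ⟨by norm_num⟩
  obtain ⟨hS, hc⟩ := psl2_seven hF
  haveI := hS
  have e1 : Nat.card G = 7 * ((7 + 1) * 3) := h
  have e2 : Nat.card (Matrix.ProjectiveSpecialLinearGroup (Fin 2) F) = 7 * ((7 + 1) * 3) := hc
  exact mulEquiv_of_goodT (m := 3) e1 e2 (by norm_num) (card_sylow_eq_succ e1 (by norm_num) (by decide))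
    (card_sylow_eq_succ e2 (by norm_num) (by decide)) (2 : ZMod 7) 3 5 data_seven.1
    data_seven.2.1 data_seven.2.2.1 data_seven.2.2.2 (fun k => k ≠ 1) (ne_one_of_168 h)
    (ne_one_of_168 hc) 2 3 1
    fun k hk hkk hk1 a b ha hg => uniq_seven k (List.mem_range.mpr hk) hkk hk1 a (by simpa using ha) b hg

end Cfsg.Agent.S0495
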