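import Cfsg.Statements.S3331
import Cfsg.Agent.Lib.InvChar.SelfThree.Main
import Cfsg.Agent.S0495

set_option autoImplicit false
open Cfsg

namespace Cfsg.Agent.S3331

open Cfsg.Agent.Lib.InvChar.SelfThree Subgroup

theorem mulEquiv_perm {Q : Type*} [Group Q] [Finite Q] {g : Q} (hg : SelfThree g)
    (h6 : Nat.card Q = 6) : Nonempty (Q ≃* Equiv.Perm (Fin 3)) := by
  obtain ⟨K, hKn, hKc, hKi⟩ | ⟨t, ht, -⟩ := hg.complement_or_inverter
  · exfalso
    have h1 := Subgroup.card_mul_index K
    rw [hKi, h6] at h1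
    have h2 := (⟨fun x hx => hKn.conj_mem x hx g, hKc⟩ : Inv g K).card_mod_three hg
    omega
  set H := zpowers t
  have hH2 : Nat.card H = 2 := by rw [Nat.card_zpowers, ht]
  have hHi : H.index = 3 := by
    have h1 := Subgroup.card_mul_index H
    rw [hH2, h6] at h1
    omega
  have hker : (MulAction.toPermHom Q (Q ⧸ H)).ker = ⊥ := by
    rw [← Subgroup.normalCore_eq_ker]
    have hd := Subgroup.card_dvd_of_le (Subgroup.normalCore_le H)
    rw [hH2] at hd
    have hc : ¬ 3 ∣ Nat.card H.normalCore := fun h => by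
      have := h.trans hd
      norm_num at this
    have h2 := (⟨fun x hx => (Subgroup.normalCore_normal H).conj_mem x hx g, hc⟩ :
      Inv g H.normalCore).card_mod_three hg
    have := Nat.le_of_dvd (by norm_num) hd
    exact Subgroup.card_eq_one.mp (by omega)
  have h3 : Nat.card (Q ⧸ H) = 3 := by rw [← Subgroup.index_eq_card, hHi]
  have e1 := MulEquiv.ofBijective (MulAction.toPermHom Q (Q ⧸ H))
    ((Nat.bijective_iff_injective_and_card _).mpr
      ⟨(MonoidHom.ker_eq_bot_iff _).mp hker, by rw [Nat.card_perm, h3, h6]; rfl⟩)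
  exact ⟨e1.trans (Finite.equivFinOfCardEq h3).permCongrHom⟩

/-- Let G be a finite group containing a subgroup X of order 3 with C_G(X) = X. Then one of the following holds: G has a nilpotent normal subgroup N of order prime to 3 with G/N of order 3 or isomorphic to Sym(3); or G has an elementary abelian normal 2-subgroup N with G/N isomorphic to the alternating group of degree 5; or G is isomorphic to PSL(2,7). -/
theorem result {G : Type*} [Group G] [Finite G]
    (X : Subgroup G) (hX : Nat.card X = 3) (hC : Subgroup.centralizer (X : Set G) = X) :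
    (∃ (N : Subgroup G) (hN : N.Normal), Group.IsNilpotent N ∧ (Nat.card N).Coprime 3 ∧
        (Nat.card (G ⧸ N) = 3 ∨ Nonempty (G ⧸ N ≃* Equiv.Perm (Fin 3)))) ∨
    (∃ (N : Subgroup G) (hN : N.Normal), IsMulCommutative N ∧ (∀ n ∈ N, n ^ 2 = 1) ∧
        Nonempty (G ⧸ N ≃* alternatingGroup (Fin 5))) ∨
    Nonempty (G ≃* Matrix.ProjectiveSpecialLinearGroup (Fin 2) (ZMod 7)) := by
  have : Fact (Nat.Prime 3) := ⟨Nat.prime_three⟩
  obtain ⟨g, hgX⟩ := exists_prime_orderOf_dvd_card' (G := X) 3 (dvd_of_eq hX.symm)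
  have ho : orderOf (g : G) = 3 := by rw [Subgroup.orderOf_coe, hgX]
  have hz : zpowers (g : G) = X :=
    Subgroup.eq_of_le_of_card_ge (zpowers_le.mpr g.2) (by rw [Nat.card_zpowers, ho, hX])
  have hg : SelfThree (g : G) := ⟨ho, fun x hx => by
    rw [hz, ← hC, mem_centralizer_iff]
    intro y hy
    obtain ⟨i, rfl⟩ := mem_zpowers_iff.mp (show y ∈ zpowers (g : G) by rw [hz]; exact hy)
    exact ((show Commute (g : G) x from hx.symm).zpow_left i).eq⟩
  rcases types_of_selfThree _ G le_rfl (g : G) hg with ⟨K, hKn, hKc, hKi⟩ | ⟨φ, hφ, hφc⟩ | ⟨hs, hc⟩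
  · left
    refine ⟨K, hKn, (⟨fun x hx => hKn.conj_mem x hx _, hKc⟩ : Inv (g : G) K).isNilpotent hg,
      (Nat.prime_three.coprime_iff_not_dvd.mpr hKc).symm, ?_⟩
    rcases hKi with e | e
    · exact Or.inl ((Subgroup.index_eq_card K).symm.trans e)
    · exact Or.inr (mulEquiv_perm (hg.map (QuotientGroup.mk' K) (QuotientGroup.mk'_surjective K)
        (by rw [QuotientGroup.ker_mk']; exact hKc)) ((Subgroup.index_eq_card K).symm.trans e))
  · right; left
    obtain ⟨d, hd⟩ := fiveData_of_hom hg φ hφ hφc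
    obtain ⟨h1, h2, -⟩ := d.elem hg
    rw [hd] at h1 h2
    exact ⟨φ.ker, MonoidHom.normal_ker φ, ⟨⟨fun a b => Subtype.ext (h1 a a.2 b b.2)⟩⟩,
      fun n hn => by rw [pow_two]; exact h2 n hn,
      ⟨QuotientGroup.quotientKerEquivOfSurjective φ hφ⟩⟩
  · right; right
    have : Fact (Nat.Prime 7) := ⟨by norm_num⟩
    have h := Cfsg.Agent.S0495.result (G := G) hc (F := ZMod 7) (ZMod.card 7)
    exact h

end Cfsg.Agent.S3331
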