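import Cfsg.Statements.S3035
import Cfsg.Agent.S0848
import Cfsg.Agent.S0495
import Cfsg.Agent.S0497
import Cfsg.Agent.S0111
import Cfsg.Agent.Lib.InvChar.ZStarTheorem
import Cfsg.Agent.Lib.InvChar.KleinCentral
import Cfsg.Agent.Lib.SylowCounting.Order24
import Cfsg.Agent.Lib.Classical.SLTwoSeven
import Cfsg.Agent.Lib.Classical.LinearSimple
import Cfsg.Agent.Lib.Classical.LinearCard
import Cfsg.Agent.Lib.Components.PComponent

set_option autoImplicit false
open Cfsg

namespace Cfsg.Agent.S3035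

open Subgroup DihedralGroup Cfsg.Agent.Lib.Characters.DihedralEight
open scoped commutatorElement

theorem model_decomp : ∀ q : DihedralGroup 4, ∃ a b, a * a = 1 ∧ b * b = 1 ∧ q = a * b := by
  decide +kernel

theorem model_inv : ∀ i : ZMod 4, ∀ q : DihedralGroup 4, q * q = 1 → q ≠ 1 →
    q = r 2 ∨ (∃ p, q = p * sr i * p⁻¹) ∨ (∃ p, q = p * sr (i + 1) * p⁻¹) := by
  decide +kernel

theorem model_noncentral : ∀ q : DihedralGroup 4, q * q = 1 → q ≠ 1 → q = r 2 ∨ ∃ i, q = sr i := by
  decide +kernel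

theorem model_centralizer : ∀ i : ZMod 4, ∀ q : DihedralGroup 4,
    q * sr i = sr i * q → (q * q = 1 ∧ (q = 1 ∨ q = r 2 ∨ q = sr i ∨ q = r 2 * sr i)) := by
  decide +kernel

theorem model_fix : ∀ i : ZMod 4, ∀ q : DihedralGroup 4,
    q * sr i = sr i * q → sr (i + 1) * q = q * sr (i + 1) → q = 1 ∨ q = r 2 := by
  decide +kernel

theorem model_coset : ∀ i : ZMod 4, ∀ q : DihedralGroup 4,
    q * sr i = sr i * q ∨ (q * sr (i + 1)) * sr i = sr i * (q * sr (i + 1)) := by
  decide +kernel

theorem model_misc : ∀ i : ZMod 4, sr (i + 1) * sr i * (sr (i + 1) : DihedralGroup 4)⁻¹ = r 2 * sr i ∧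
    sr (i + 1) * sr i ≠ sr i * (sr (i + 1) : DihedralGroup 4) ∧
    (r 2 : DihedralGroup 4) * sr i = sr i * r 2 ∧ (r 1 : DihedralGroup 4) * r 1 = r 2 ∧
    (∀ q : DihedralGroup 4, q * r 2 = r 2 * q) ∧ (sr i : DihedralGroup 4) ≠ r 2 ∧
    (sr (i + 1) : DihedralGroup 4) * sr (i + 1) = 1 ∧ (sr i : DihedralGroup 4) * sr i = 1 ∧
    (sr (i + 1) : DihedralGroup 4) ≠ 1 := by
  decide +kernel

theorem klein_comm {W : Type*} [Group W] (hW : IsKleinFour W) (a b : W) : a * b = b * a := by
  haveI := hW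
  have e1 : ∀ x : W, x⁻¹ = x := fun x => inv_eq_of_mul_eq_one_right (IsKleinFour.mul_self x)
  calc a * b = (a * b)⁻¹ := (e1 _).symm
    _ = b * a := by rw [mul_inv_rev, e1, e1]

variable {G : Type*} [Group G] [Finite G] {z : G}
  (e : ↥(centralizer ({z} : Set G)) ≃* DihedralGroup 4)

/-- The element of the centralizer corresponding to a model element. -/
def el (q : DihedralGroup 4) : G := ((e.symm q : ↥(centralizer ({z} : Set G))) : G)

omit [Finite G] in
theorem el_mul (p q : DihedralGroup 4) : el e (p * q) = el e p * el e q := by simp [el]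

omit [Finite G] in
theorem el_inv (p : DihedralGroup 4) : el e p⁻¹ = (el e p)⁻¹ := by simp [el]

omit [Finite G] in
theorem el_one : el e 1 = 1 := by simp [el]

omit [Finite G] in
theorem el_inj : Function.Injective (el e) := Subtype.val_injective.comp e.symm.injective

omit [Finite G] in
theorem el_mem (q : DihedralGroup 4) : el e q ∈ centralizer ({z} : Set G) := (e.symm q).2

omit [Finite G] in
theorem el_surj {x : G} (hx : x ∈ centralizer ({z} : Set G)) : ∃ q, el e q = x :=
  ⟨e ⟨x, hx⟩, by simp [el]⟩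

theorem el_z (hz : orderOf z = 2) : el e (r 2) = z := by
  obtain ⟨hz2, hz1⟩ := orderOf_two_iff.mp hz
  obtain ⟨q, hq⟩ := el_surj e (mem_centralizer_singleton_iff.mpr (rfl : z * z = z * z))
  have h : q = r 2 := by
    refine center_unique q (el_inj e ?_) (fun h => hz1 ?_) (fun p => el_inj e ?_)
    · rw [el_mul, el_one, hq, hz2]
    · rw [← hq, h, el_one]
    · rw [el_mul, el_mul, hq]
      exact mem_centralizer_singleton_iff.mp (el_mem e p)
  rw [← h, hq]

include e in
theorem card_centralizer : Nat.card ↥(centralizer ({z} : Set G)) = 8 := by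
  rw [Nat.card_congr e.toEquiv, DihedralGroup.nat_card]

include e in
theorem exists_sylow (hz : orderOf z = 2) :
    ∃ P : Sylow 2 G, (P : Subgroup G) = centralizer ({z} : Set G) := by
  haveI : Fact (Nat.Prime 2) := ⟨Nat.prime_two⟩
  have hp : IsPGroup 2 ↥(centralizer ({z} : Set G)) :=
    IsPGroup.of_card (n := 3) (by rw [card_centralizer e]; rfl)
  obtain ⟨P, hP⟩ := hp.exists_le_sylow
  refine ⟨P, le_antisymm ?_ hP⟩
  have hzC : z ∈ centralizer ({z} : Set G) := mem_centralizer_singleton_iff.mpr rfl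
  haveI : Nontrivial ↥(P : Subgroup G) := ⟨⟨⟨z, hP hzC⟩, 1, fun h => by
    have := congrArg Subtype.val h
    rw [show z = 1 from this, orderOf_one] at hz
    norm_num at hz⟩⟩
  haveI := P.2.center_nontrivial
  obtain ⟨k, hk, hcard⟩ := (P.2.to_subgroup (center ↥(P : Subgroup G))).nontrivial_iff_card.mp inferInstance
  obtain ⟨⟨⟨u, huP⟩, huc⟩, huo⟩ := exists_prime_orderOf_dvd_card' (G := ↥(center ↥(P : Subgroup G))) 2
    (hcard ▸ dvd_pow_self 2 hk.ne')
  rw [Subgroup.orderOf_mk, Subgroup.orderOf_mk] at huo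
  obtain ⟨hu2, hu1⟩ := orderOf_two_iff.mp huo
  have hall : ∀ y ∈ (P : Subgroup G), y * u = u * y := fun y hy =>
    congrArg Subtype.val (mem_center_iff.mp huc ⟨y, hy⟩)
  obtain ⟨q, hq⟩ := el_surj e (mem_centralizer_singleton_iff.mpr ((hall z (hP hzC)).symm))
  have h : q = r 2 := by
    refine center_unique q (el_inj e ?_) (fun h => hu1 ?_) (fun p => el_inj e ?_)
    · rw [el_mul, el_one, hq, hu2]
    · rw [← hq, h, el_one]
    · rw [el_mul, el_mul, hq]
      exact hall _ (hP (el_mem e p))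
  rw [h, el_z e hz] at hq
  intro y hy
  exact mem_centralizer_singleton_iff.mpr (hq ▸ hall y hy)

/-- An odd normal subgroup is trivial as soon as two commuting conjugates of `z` have a product conjugate to `z`. -/
theorem odd_normal_eq_bot (hz : orderOf z = 2) (hC8 : Nat.card ↥(centralizer ({z} : Set G)) = 8) {a : G}
    (ha : IsConj z a) (haz : IsConj z (z * a)) (K : Subgroup G) [hKn : K.Normal] (hK : Odd (Nat.card K)) :
    K = ⊥ := by
  have hfree : ∀ v : G, IsConj z v → ∀ k ∈ K, v * k = k * v → k = 1 := by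
    intro v hv k hk hc
    obtain ⟨g, rfl⟩ := isConj_iff.mp hv
    have hm : g⁻¹ * k * g ∈ centralizer ({z} : Set G) := by
      rw [mem_centralizer_singleton_iff]
      calc g⁻¹ * k * g * z = g⁻¹ * (k * (g * z * g⁻¹)) * g := by group
        _ = g⁻¹ * (g * z * g⁻¹ * k) * g := by rw [hc]
        _ = z * (g⁻¹ * k * g) := by group
    have h8 : orderOf (g⁻¹ * k * g) ∣ 8 := hC8 ▸ Subgroup.orderOf_dvd_natCard _ hm
    have hodd : orderOf (g⁻¹ * k * g) ∣ Nat.card K :=
      Subgroup.orderOf_dvd_natCard _ (by simpa using hKn.conj_mem k hk g⁻¹)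
    have h1 : orderOf (g⁻¹ * k * g) = 1 := Nat.eq_one_of_dvd_coprimes
      (Nat.Coprime.pow_left 3 (Nat.coprime_two_left.mpr hK)) (show _ ∣ 2 ^ 3 from h8) hodd
    rw [orderOf_eq_one_iff] at h1
    calc k = g * (g⁻¹ * k * g) * g⁻¹ := by group
      _ = 1 := by rw [h1]; group
  have hinv : ∀ v : G, IsConj z v → ∀ k ∈ K, v * k * v⁻¹ = k⁻¹ := by
    intro v hv
    have hvv : v * v = 1 := by
      obtain ⟨g, rfl⟩ := isConj_iff.mp hv
      rw [show g * z * g⁻¹ * (g * z * g⁻¹) = g * (z * z) * g⁻¹ by group, (orderOf_two_iff.mp hz).1,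
        mul_one, mul_inv_cancel]
    let f : K → K := fun k => ⟨(k : G)⁻¹ * (v * k * v⁻¹),
      mul_mem (inv_mem k.2) (hKn.conj_mem _ k.2 v)⟩
    have hf : Function.Injective f := by
      intro k l h
      have h' : (k : G)⁻¹ * (v * k * v⁻¹) = (l : G)⁻¹ * (v * l * v⁻¹) := congrArg Subtype.val h
      have hc : v * ((l : G) * (k : G)⁻¹) = (l : G) * (k : G)⁻¹ * v := by
        calc v * ((l : G) * (k : G)⁻¹) = (l : G) * ((l : G)⁻¹ * (v * l * v⁻¹)) * (v * (k : G)⁻¹) := by group
          _ = (l : G) * ((k : G)⁻¹ * (v * k * v⁻¹)) * (v * (k : G)⁻¹) := by rw [h']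
          _ = _ := by group
      exact Subtype.ext (mul_inv_eq_one.mp (hfree v hv _ (mul_mem l.2 (inv_mem k.2)) hc)).symm
    intro k hk
    obtain ⟨m, hm⟩ := Finite.injective_iff_surjective.mp hf ⟨k, hk⟩
    have hm' : (m : G)⁻¹ * (v * m * v⁻¹) = k := congrArg Subtype.val hm
    rw [← hm', inv_eq_of_mul_eq_one_right hvv]
    simp only [mul_inv_rev, inv_inv, inv_eq_of_mul_eq_one_right hvv, mul_assoc, hvv, mul_one]
  rw [eq_bot_iff]
  intro k hk
  refine Subgroup.mem_bot.mpr (hfree (z * a) haz k hk ?_)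
  have h1 := hinv z (IsConj.refl z) k⁻¹ (inv_mem hk)
  have h2 := hinv a ha k hk
  rw [inv_inv] at h1
  calc z * a * k = z * (a * k * a⁻¹) * z⁻¹ * (z * a) := by group
    _ = k * (z * a) := by rw [h2, h1]

include e in
/-- All involutions conjugate. -/
theorem one_class (hz : orderOf z = 2) (h : ∀ u ∈ centralizer ({z} : Set G), orderOf u = 2 → IsConj z u) :
    Nonempty (G ≃* Matrix.SpecialLinearGroup (Fin 3) (ZMod 2)) ∨ Nonempty (G ≃* ↥(alternatingGroup (Fin 6))) := by
  haveI : Fact (Nat.Prime 2) := ⟨Nat.prime_two⟩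
  obtain ⟨hz2, hz1⟩ := orderOf_two_iff.mp hz
  obtain ⟨P, hP⟩ := exists_sylow e hz
  have hall : ∀ u : G, orderOf u = 2 → IsConj z u := by
    intro u hu
    have hp : IsPGroup 2 ↥(zpowers u) := IsPGroup.of_card (n := 1) (by rw [Nat.card_zpowers, hu, pow_one])
    obtain ⟨Q, hQ⟩ := hp.exists_le_sylow
    obtain ⟨g, rfl⟩ := MulAction.exists_smul_eq G P Q
    have huQ := hQ (mem_zpowers u)
    rw [Sylow.coe_subgroup_smul, Subgroup.mem_pointwise_smul_iff_inv_smul_mem, ← map_inv,
      MulAut.smul_def, MulAut.conj_apply, inv_inv, hP] at huQ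
    refine (h _ huQ ?_).trans (isConj_iff.mpr ⟨g, by group⟩)
    have := orderOf_conj' g⁻¹ u
    rw [inv_inv] at this
    rw [this, hu]
  have hbot : ∀ K : Subgroup G, K.Normal → Odd (Nat.card K) → K = ⊥ := by
    intro K hKn hK
    refine odd_normal_eq_bot hz (card_centralizer e) (a := el e (sr 0)) ?_ ?_ K hK
    · refine h _ (el_mem e _) (orderOf_two_iff.mpr ⟨?_, fun h1 => ?_⟩)
      · rw [← el_mul, (model_misc 0).2.2.2.2.2.2.2.1, el_one]
      · rw [← el_one e] at h1
        exact absurd (el_inj e h1) (by decide)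
    · rw [show z * el e (sr 0) = el e (r 2 * sr 0) by rw [el_mul, el_z e hz]]
      refine h _ (el_mem e _) (orderOf_two_iff.mpr ⟨?_, fun h1 => ?_⟩)
      · rw [← el_mul, show (r 2 * sr 0 : DihedralGroup 4) * (r 2 * sr 0) = 1 by decide, el_one]
      · rw [← el_one e] at h1
        exact absurd (el_inj e h1) (by decide)
  haveI : Nontrivial G := ⟨⟨z, 1, hz1⟩⟩
  haveI hsimple : IsSimpleGroup G := by
    refine ⟨fun N hN => or_iff_not_imp_left.mpr fun hne => ?_⟩
    have heven : 2 ∣ Nat.card N := by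
      by_contra hodd
      exact hne (hbot N hN (Nat.odd_iff.mpr (Nat.two_dvd_ne_zero.mp hodd)))
    obtain ⟨⟨u, huN⟩, hu⟩ := exists_prime_orderOf_dvd_card' (G := N) 2 heven
    rw [Subgroup.orderOf_mk] at hu
    have hinv : ∀ w : G, w * w = 1 → w ∈ N := by
      intro w hw
      by_cases hw1 : w = 1
      · exact hw1 ▸ one_mem N
      · obtain ⟨g, rfl⟩ := isConj_iff.mp ((hall u hu).symm.trans (hall w (orderOf_two_iff.mpr ⟨hw, hw1⟩)))
        exact hN.conj_mem u huN g
    have hCN : centralizer ({z} : Set G) ≤ N := by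
      intro x hx
      obtain ⟨q, rfl⟩ := el_surj e hx
      obtain ⟨a, b, ha, hb, rfl⟩ := model_decomp q
      rw [el_mul]
      exact mul_mem (hinv _ (by rw [← el_mul, ha, el_one])) (hinv _ (by rw [← el_mul, hb, el_one]))
    -- Frattini argument
    rw [eq_top_iff]
    intro g _
    have hPN : (P : Subgroup G) ≤ N := hP ▸ hCN
    haveI := hN
    obtain ⟨n, hn, m, hm, rfl⟩ : ∃ n ∈ normalizer ((P : Subgroup G) : Set G), ∃ m ∈ N, n * m = g := by
      have htop := Sylow.normalizer_sup_eq_top' P hPN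
      have := htop.ge (mem_top g)
      rw [← SetLike.mem_coe, Subgroup.mul_normal] at this
      exact this
    refine mul_mem (hCN ?_) hm
    obtain ⟨q, hq⟩ := el_surj e (hP ▸ (Subgroup.mem_normalizer_iff.mp hn z).mp
      (hP ▸ mem_centralizer_singleton_iff.mpr rfl) : n * z * n⁻¹ ∈ centralizer ({z} : Set G))
    have hqz : q = r 2 := by
      refine center_unique q (el_inj e ?_) (fun h => hz1 ?_) (fun p => el_inj e ?_)
      · rw [el_mul, el_one, hq, show n * z * n⁻¹ * (n * z * n⁻¹) = n * (z * z) * n⁻¹ by group, hz2, mul_one,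
          mul_inv_cancel]
      · rw [h, el_one] at hq
        calc z = n⁻¹ * (n * z * n⁻¹) * n := by group
          _ = 1 := by rw [← hq]; group
      · have hp' : n⁻¹ * el e p * n ∈ centralizer ({z} : Set G) := by
          have hm1 : el e p ∈ (P : Subgroup G) := hP.symm ▸ el_mem e p
          exact hP ▸ (Subgroup.mem_normalizer_iff''.mp hn _).mp hm1
        have hc := mem_centralizer_singleton_iff.mp hp'
        rw [el_mul, el_mul, hq]
        calc el e p * (n * z * n⁻¹) = n * ((n⁻¹ * el e p * n) * z) * n⁻¹ := by group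
          _ = n * (z * (n⁻¹ * el e p * n)) * n⁻¹ := by rw [hc]
          _ = _ := by group
    rw [hqz, el_z e hz] at hq
    rw [mem_centralizer_singleton_iff]
    calc n * z = n * z * n⁻¹ * n := by group
      _ = z * n := by rw [← hq]
  have hnc : ¬ IsMulCommutative G := by
    intro hc
    have := congrArg e (Subtype.ext (hc.is_comm.comm (el e (sr 1)) (el e (sr 0))) :
      e.symm (sr 1) * e.symm (sr 0) = e.symm (sr 0) * e.symm (sr 1))
    simp only [map_mul, MulEquiv.apply_symm_apply] at this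
    exact absurd this (by decide)
  have hperf : commutator G = ⊤ := by
    rcases Subgroup.Normal.eq_bot_or_eq_top (inferInstance : (commutator G).Normal) with h' | h'
    · exfalso
      refine hnc ⟨⟨fun a b => ?_⟩⟩
      have : ⁅a, b⁆ ∈ commutator G := Subgroup.commutator_mem_commutator (mem_top a) (mem_top b)
      rw [h', mem_bot] at this
      exact commutatorElement_eq_one_iff_mul_comm.mp this
    · exact h'
  rcases Cfsg.Agent.S0848.result hperf z hz e with h168 | h360
  · left
    haveI : Fact (Nat.Prime 7) := ⟨by norm_num⟩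
    obtain ⟨e1⟩ := Cfsg.Agent.S0495.result h168 (F := ZMod 7) (ZMod.card 7)
    obtain ⟨e2⟩ := Cfsg.Agent.Lib.Classical.nonempty_PSL2_seven (F := ZMod 7) (K := ZMod 2) (ZMod.card 7) (ZMod.card 2)
    have hcen : center (Matrix.SpecialLinearGroup (Fin 3) (ZMod 2)) = ⊥ := by
      rw [eq_bot_iff_card]
      exact (Nat.card_eq_fintype_card).trans (by decide +kernel)
    exact ⟨(e1.trans e2).trans ((QuotientGroup.quotientMulEquivOfEq hcen).trans QuotientGroup.quotientBot)⟩
  · exact Or.inr (Cfsg.Agent.S0497.result h360)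

include e in
/-- Two classes of involutions. -/
theorem two_classes (hz : orderOf z = 2) (i : ZMod 4) (hs : IsConj z (el e (sr i)))
    (ht : ¬ IsConj z (el e (sr (i + 1)))) :
    Nonempty (G ≃* Equiv.Perm (Fin 4)) ∨ Nonempty (G ≃* Equiv.Perm (Fin 5)) := by
  haveI : Fact (Nat.Prime 2) := ⟨Nat.prime_two⟩
  obtain ⟨hz2, hz1⟩ := orderOf_two_iff.mp hz
  obtain ⟨P, hP⟩ := exists_sylow e hz
  obtain ⟨m1, m2, m3, m4, m5, m6, m7, m8, m9⟩ := model_misc i
  set s := el e (sr i) with hsd
  set t := el e (sr (i + 1)) with htd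
  have hzs : IsConj z (z * s) := by
    have : t * s * t⁻¹ = z * s := by
      rw [hsd, htd, ← el_inv, ← el_mul, ← el_mul, m1, el_mul, el_z e hz]
    exact hs.trans (isConj_iff.mpr ⟨t, this⟩)
  set V : Subgroup G := centralizer ({z} : Set G) ⊓ centralizer ({s} : Set G) with hV
  have hVmem : ∀ q, el e q ∈ V ↔ q * sr i = sr i * q := by
    intro q
    refine ⟨fun h => el_inj e ?_, fun h => ⟨el_mem e q, mem_centralizer_singleton_iff.mpr ?_⟩⟩
    · rw [el_mul, el_mul]
      exact mem_centralizer_singleton_iff.mp h.2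
    · rw [hsd, ← el_mul, ← el_mul, h]
  have hVcases : ∀ x ∈ V, x = 1 ∨ x = z ∨ x = s ∨ x = z * s := by
    intro x hx
    obtain ⟨q, rfl⟩ := el_surj e hx.1
    rcases (model_centralizer i q ((hVmem q).mp hx)).2 with rfl | rfl | rfl | rfl
    · exact Or.inl (el_one e)
    · exact Or.inr (Or.inl (el_z e hz))
    · exact Or.inr (Or.inr (Or.inl rfl))
    · exact Or.inr (Or.inr (Or.inr (by rw [el_mul, el_z e hz, hsd])))
  have hVconj : ∀ x ∈ V, x ≠ 1 → IsConj z x := by
    intro x hx hx1
    rcases hVcases x hx with rfl | rfl | rfl | rfl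
    · exact absurd rfl hx1
    · exact IsConj.refl _
    · exact hs
    · exact hzs
  have htC : t ∈ centralizer ({z} : Set G) := el_mem e _
  have htV : t ∉ V := fun h => m2 ((hVmem _).mp h)
  have hto : orderOf t = 2 := orderOf_two_iff.mpr
    ⟨by rw [htd, ← el_mul, m7, el_one], fun h => m9 (el_inj e (h.trans (el_one e).symm))⟩
  have hcoset : ∀ x ∈ centralizer ({z} : Set G), x ∈ V ∨ x * t ∈ V := by
    intro x hx
    obtain ⟨q, rfl⟩ := el_surj e hx
    rcases model_coset i q with h | h
    · exact Or.inl ((hVmem q).mpr h)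
    · right
      rw [htd, ← el_mul]
      exact (hVmem _).mpr h
  have hV4 : Nat.card ↥V = 4 := by
    have hidx : (V.subgroupOf (centralizer ({z} : Set G))).index = 2 := by
      rw [Subgroup.index_eq_two_iff]
      refine ⟨⟨t, htC⟩, fun b => ?_⟩
      rcases hcoset b b.2 with h | h
      · refine Or.inr ⟨h, fun h' => htV ?_⟩
        change (b : G) * t ∈ V at h'
        have := mul_mem (inv_mem h) h'
        rwa [inv_mul_cancel_left] at this
      · refine Or.inl ⟨h, fun h' => htV ?_⟩
        change (b : G) ∈ V at h'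
        have := mul_mem (inv_mem h') h
        rwa [inv_mul_cancel_left] at this
    have h := (V.subgroupOf (centralizer ({z} : Set G))).index_mul_card
    rw [hidx, card_centralizer e] at h
    rw [← Nat.card_congr (subgroupOfEquivOfLe (inf_le_left : V ≤ centralizer ({z} : Set G))).toEquiv]
    exact Nat.eq_of_mul_eq_mul_left (show 0 < 2 by norm_num) (h.trans (by norm_num))
  obtain ⟨M, hMn, hMi, htM⟩ : ∃ M : Subgroup G, M.Normal ∧ M.index = 2 ∧ t ∉ M := by
    refine (Cfsg.Agent.S0111.result P V (hP ▸ inf_le_left) ?_ t hto (hP ▸ htC) htV).resolve_right ?_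
    · have h := (V.subgroupOf (P : Subgroup G)).index_mul_card
      rw [Nat.card_congr (subgroupOfEquivOfLe (hP ▸ inf_le_left)).toEquiv, hV4] at h
      rw [Subgroup.relIndex]
      have h8 : Nat.card ↥(P : Subgroup G) = 8 := by rw [hP]; exact card_centralizer e
      omega
    · rintro ⟨g, hg⟩
      refine ht ((hVconj _ hg fun h => ?_).trans (isConj_iff.mpr ⟨g, rfl⟩).symm)
      rw [conj_eq_one_iff] at h
      rw [h, orderOf_one] at hto
      norm_num at hto
  have hsqM : ∀ a : G, a * a ∈ M := fun a => by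
    rw [Subgroup.mul_mem_iff_of_index_two hMi]
  have hzM : z ∈ M := by
    rw [← el_z e hz, ← m4, el_mul]
    exact hsqM _
  have hconjM : ∀ x, IsConj z x → x ∈ M := fun x hx => by
    obtain ⟨g, rfl⟩ := isConj_iff.mp hx
    exact hMn.conj_mem z hzM g
  have hVM : V ≤ M := fun x hx => by
    by_cases h : x = 1
    · exact h ▸ one_mem M
    · exact hconjM x (hVconj x hx h)
  have hCM : ∀ x ∈ M, x * z = z * x → x ∈ V := by
    intro x hx hc
    refine (hcoset x (mem_centralizer_singleton_iff.mpr hc)).resolve_right fun h => htM ?_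
    have := mul_mem (inv_mem hx) (hVM h)
    rwa [inv_mul_cancel_left] at this
  -- the four-group Sylow subgroup of `M`
  set V' : Subgroup ↥M := V.subgroupOf M with hV'
  have hV'4 : Nat.card ↥V' = 4 := by rw [hV', Nat.card_congr (subgroupOfEquivOfLe hVM).toEquiv, hV4]
  have hM8 : ¬ 8 ∣ Nat.card ↥M := by
    intro h8
    have h := M.index_mul_card
    rw [hMi] at h
    have hsyl := P.card_eq_multiplicity
    rw [show Nat.card ↥(P : Subgroup G) = Nat.card ↥P from rfl] at *
    have h16 : 2 ^ 4 ∣ Nat.card G := by rw [← h]; exact Nat.mul_dvd_mul_left 2 h8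
    have : Nat.card ↥(P : Subgroup G) = 8 := by rw [hP]; exact card_centralizer e
    have := (Nat.Prime.pow_dvd_iff_le_factorization Nat.prime_two Nat.card_pos.ne').mp h16
    have h3 : 2 ^ (Nat.card G).factorization 2 = 8 := by rw [← hsyl]; assumption
    have := Nat.pow_le_pow_right (show 2 > 0 by norm_num) this
    omega
  have hV'p : IsPGroup 2 ↥V' := IsPGroup.of_card (n := 2) (by rw [hV'4]; rfl)
  obtain ⟨W, hW⟩ := hV'p.exists_le_sylow
  have hWV : (W : Subgroup ↥M) = V' := by
    refine (Subgroup.eq_of_le_of_card_ge hW ?_).symm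
    obtain ⟨k, hk⟩ := W.2.exists_card_eq
    have hdvd : 2 ^ k ∣ Nat.card ↥M := hk ▸ Subgroup.card_subgroup_dvd_card _
    have : k ≤ 2 := by
      by_contra hk3
      exact hM8 ((show 8 = 2 ^ 3 from rfl) ▸ (Nat.pow_dvd_pow 2 (by omega : 3 ≤ k)).trans hdvd)
    rw [hV'4, hk]
    exact (Nat.pow_le_pow_right (by norm_num) this).trans_eq rfl
  set v : ↥M := ⟨z, hzM⟩ with hvd
  have hklein : IsKleinFour ↥(W : Subgroup ↥M) := by
    have hsq : ∀ x : ↥(W : Subgroup ↥M), x * x = 1 := by
      intro x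
      have hx : ((x : ↥M) : G) ∈ V := (hWV ▸ x.2 : (x : ↥M) ∈ V')
      obtain ⟨q, hq⟩ := el_surj e hx.1
      rw [← hq] at hx
      apply Subtype.ext; apply Subtype.ext
      show ((x : ↥M) : G) * ((x : ↥M) : G) = 1
      rw [← hq, ← el_mul, (model_centralizer i q ((hVmem q).mp hx)).1, el_one]
    have hc4 : Nat.card ↥(W : Subgroup ↥M) = 4 := by rw [hWV, hV'4]
    refine ⟨hc4, ?_⟩
    haveI : Nontrivial ↥(W : Subgroup ↥M) := Finite.one_lt_card_iff_nontrivial.mp (by omega)
    refine Monoid.exponent_eq_prime_iff Nat.prime_two |>.mpr fun g hg => ?_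
    exact orderOf_eq_prime (by rw [pow_two]; exact hsq g) hg
  have hfusM : ∀ x ∈ V, x ≠ 1 → ∃ m ∈ M, m * z * m⁻¹ = x := by
    intro x hx hx1
    obtain ⟨g, rfl⟩ := isConj_iff.mp (hVconj x hx hx1)
    by_cases hg : g ∈ M
    · exact ⟨g, hg, rfl⟩
    · refine ⟨g * t, ?_, ?_⟩
      · rw [Subgroup.mul_mem_iff_of_index_two hMi]
        exact iff_of_false hg htM
      · rw [mul_inv_rev, show g * t * z * (t⁻¹ * g⁻¹) = g * (t * z) * t⁻¹ * g⁻¹ by group,
          mem_centralizer_singleton_iff.mp htC]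
        group
  have hdata : Cfsg.Agent.Lib.InvChar.KleinData W v := by
    refine ⟨⟨hklein, by rw [hvd, Subgroup.orderOf_mk, hz], ?_, ?_⟩, ?_⟩
    · show v ∈ (W : Subgroup ↥M)
      rw [hWV]
      show z ∈ V
      exact ⟨mem_centralizer_singleton_iff.mpr rfl, mem_centralizer_singleton_iff.mpr
        (by rw [← el_z e hz, hsd, ← el_mul, ← el_mul, m3])⟩
    · intro u hu hu1
      have hu' : (u : G) ∈ V := (hWV ▸ hu : u ∈ V')
      obtain ⟨m, hm, hme⟩ := hfusM _ hu' (fun h => hu1 (Subtype.ext h))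
      exact isConj_iff.mpr ⟨⟨m, hm⟩, Subtype.ext hme⟩
    · intro c hc u hu
      have hc' : (c : G) ∈ V := hCM _ c.2 (congrArg Subtype.val hc)
      have hu' : (u : G) ∈ V := (hWV ▸ hu : u ∈ V')
      haveI := hklein
      have hcW : c ∈ (W : Subgroup ↥M) := by rw [hWV]; exact hc'
      exact congrArg Subtype.val (klein_comm hklein ⟨c, hcW⟩ ⟨u, hu⟩)
  have hker : ∀ K : Subgroup ↥M, K.Normal → Odd (Nat.card K) → (∀ k ∈ K, k * v = v * k) → K = ⊥ := by
    intro K _ hK hKv
    rw [eq_bot_iff]
    intro k hk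
    have hkW : k ∈ (W : Subgroup ↥M) := by
      rw [hWV]
      exact hCM _ k.2 (congrArg Subtype.val (hKv k hk))
    have h1 : orderOf k ∣ 4 := hV'4 ▸ hWV ▸ Subgroup.orderOf_dvd_natCard _ hkW
    have h2 : orderOf k ∣ Nat.card K := Subgroup.orderOf_dvd_natCard _ hk
    exact Subgroup.mem_bot.mpr (orderOf_eq_one_iff.mp (Nat.eq_one_of_dvd_coprimes
      (Nat.Coprime.pow_left 2 (Nat.coprime_two_left.mpr hK)) (show _ ∣ 2 ^ 2 from h1) h2))
  by_cases hWn : (W : Subgroup ↥M).Normal
  · left
    -- `M` has order twelve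
    have hcard : Nat.card G = 24 := by
      have h := hdata.card_normalizer
      have hcore : centralizerPPrimeCore 2 v = ⊥ := by
        rw [eq_bot_iff]
        intro k hk
        obtain ⟨k', hk', rfl⟩ := hk
        have hodd : Odd (Nat.card ↥(centralizerPPrimeCore 2 v)) := hdata.card_core.2
        have h1 : orderOf (k' : ↥M) ∣ Nat.card ↥(centralizerPPrimeCore 2 v) :=
          Subgroup.orderOf_dvd_natCard _ ⟨k', hk', rfl⟩
        have h2 : orderOf (k' : ↥M) ∣ 2 ^ 2 := by
          rw [show 2 ^ 2 = 4 from rfl, ← hV'4]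
          exact Subgroup.orderOf_dvd_natCard _ (hCM _ (k' : ↥M).2
            (congrArg Subtype.val (mem_centralizer_singleton_iff.mp k'.2)))
        exact Subgroup.mem_bot.mpr (orderOf_eq_one_iff.mp (Nat.eq_one_of_dvd_coprimes
          (Nat.Coprime.pow_left 2 (Nat.coprime_two_left.mpr hodd)) h2 h1))
      rw [hcore, Subgroup.card_bot, mul_one, (normalizer_eq_top_iff).mpr hWn, Subgroup.card_top] at h
      have h' := M.index_mul_card
      rw [hMi, h] at h'
      omega
    refine Cfsg.Agent.Lib.SylowCounting.nonempty_mulEquiv_S4 hcard fun g hg => ?_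
    set x := g ^ 2 with hx
    set u := g ^ 3 with hu
    have hxo : orderOf x = 3 := by rw [hx, orderOf_pow, hg]; rfl
    have huo : orderOf u = 2 := by rw [hu, orderOf_pow, hg]; rfl
    have hxu : x * u = u * x := by rw [hx, hu, ← pow_add, ← pow_add]
    have hxM : x ∈ M := by rw [hx, pow_two]; exact hsqM g
    have hnz : ∀ y : G, orderOf y = 3 → y * z ≠ z * y := by
      intro y hy hc
      have := Subgroup.orderOf_dvd_natCard _ (mem_centralizer_singleton_iff.mpr hc : y ∈ centralizer ({z} : Set G))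
      rw [hy, card_centralizer e] at this
      omega
    -- `u` is conjugate into the centralizer
    have hp : IsPGroup 2 ↥(zpowers u) := IsPGroup.of_card (n := 1) (by rw [Nat.card_zpowers, huo, pow_one])
    obtain ⟨Q, hQ⟩ := hp.exists_le_sylow
    obtain ⟨a, rfl⟩ := MulAction.exists_smul_eq G P Q
    have huQ := hQ (mem_zpowers u)
    rw [Sylow.coe_subgroup_smul, Subgroup.mem_pointwise_smul_iff_inv_smul_mem, ← map_inv,
      MulAut.smul_def, MulAut.conj_apply, inv_inv, hP] at huQ
    obtain ⟨q, hq⟩ := el_surj e huQ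
    obtain ⟨hu2, hu1⟩ := orderOf_two_iff.mp huo
    have hq2 : q * q = 1 := el_inj e (by
      rw [el_mul, el_one, hq, show a⁻¹ * u * a * (a⁻¹ * u * a) = a⁻¹ * (u * u) * a by group, hu2, mul_one,
        inv_mul_cancel])
    have hq1 : q ≠ 1 := fun h => hu1 (by
      rw [h, el_one] at hq
      calc u = a * (a⁻¹ * u * a) * a⁻¹ := by group
        _ = 1 := by rw [← hq]; group)
    -- reduce to an element of order three commuting with `z` or `t`
    obtain ⟨b, hb⟩ : ∃ b : G, b * u * b⁻¹ = z ∨ b * u * b⁻¹ = t := by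
      rcases model_inv i q hq2 hq1 with rfl | ⟨p, rfl⟩ | ⟨p, rfl⟩
      · exact ⟨a⁻¹, Or.inl (by rw [inv_inv, ← hq, el_z e hz])⟩
      · rw [el_mul, el_mul, el_inv, ← hsd] at hq
        obtain ⟨c, hc⟩ := isConj_iff.mp hs
        refine ⟨c⁻¹ * (el e p)⁻¹ * a⁻¹, Or.inl ?_⟩
        calc c⁻¹ * (el e p)⁻¹ * a⁻¹ * u * (c⁻¹ * (el e p)⁻¹ * a⁻¹)⁻¹
            = c⁻¹ * ((el e p)⁻¹ * (a⁻¹ * u * a) * el e p) * c := by group
          _ = z := by rw [← hq, ← hc]; group
      · rw [el_mul, el_mul, el_inv, ← htd] at hq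
        refine ⟨(el e p)⁻¹ * a⁻¹, Or.inr ?_⟩
        calc (el e p)⁻¹ * a⁻¹ * u * ((el e p)⁻¹ * a⁻¹)⁻¹
            = (el e p)⁻¹ * (a⁻¹ * u * a) * el e p := by group
          _ = t := by rw [← hq]; group
    have hyo : orderOf (b * x * b⁻¹) = 3 := by rw [orderOf_conj', hxo]
    have hyc : b * x * b⁻¹ * (b * u * b⁻¹) = b * u * b⁻¹ * (b * x * b⁻¹) := by
      rw [show b * x * b⁻¹ * (b * u * b⁻¹) = b * (x * u) * b⁻¹ by group, hxu]; group
    rcases hb with hb | hb <;> rw [hb] at hyc
    · exact hnz _ hyo hyc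
    · set y := b * x * b⁻¹ with hy
      have hyM : y ∈ M := hMn.conj_mem x hxM b
      -- `y` moves `z` to a fixed point of `t` on `V`
      have hyz : y * z * y⁻¹ ∈ V := by
        have hzW : v ∈ (W : Subgroup ↥M) := hdata.hvV
        have := hWn.conj_mem v hzW ⟨y, hyM⟩
        rw [hWV] at this
        exact this
      obtain ⟨p, hp⟩ := el_surj e hyz.1
      have htfix : t * (y * z * y⁻¹) = y * z * y⁻¹ * t := by
        have htz := mem_centralizer_singleton_iff.mp htC
        calc t * (y * z * y⁻¹) = (t * y) * z * y⁻¹ := by group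
          _ = y * (t * z) * y⁻¹ := by rw [← hyc]; group
          _ = y * z * (t * y⁻¹) := by rw [htz]; group
          _ = y * z * (y⁻¹ * (y * t) * y⁻¹) := by group
          _ = y * z * y⁻¹ * t := by rw [hyc]; group
      rw [← hp] at hyz htfix
      rcases model_fix i p ((hVmem p).mp hyz) (el_inj e (by rw [el_mul, el_mul, ← htd]; exact htfix)) with rfl | rfl
      · rw [el_one, eq_comm, conj_eq_one_iff] at hp
        exact hz1 hp
      · rw [el_z e hz] at hp
        refine hnz y hyo ?_
        calc y * z = y * z * y⁻¹ * y := by group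
          _ = z * y := by rw [← hp]
  · right
    obtain ⟨e5⟩ := hdata.nonempty_mulEquiv hWn hker
    haveI : IsSimpleGroup ↥M := by
      haveI := alternatingGroup.isSimpleGroup (α := Fin 5) (by simp)
      haveI : Nontrivial ↥M := e5.toEquiv.nontrivial
      exact IsSimpleGroup.isSimpleGroup_of_surjective e5.symm.toMonoidHom e5.symm.surjective
    have hM60 : Nat.card ↥M = 60 := by
      rw [Nat.card_congr e5.toEquiv]
      have := two_mul_card_alternatingGroup (α := Fin 5)
      rw [Fintype.card_perm, Fintype.card_fin, ← Nat.card_eq_fintype_card] at this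
      rw [show Nat.factorial 5 = 120 from rfl] at this
      omega
    set N := normalizer ((V : Subgroup G) : Set G) with hN
    -- the normalizer of `V` has index five
    have hNM : Nat.card ↥(N.subgroupOf M) = 12 := by
      have heq : N.subgroupOf M = normalizer ((W : Subgroup ↥M) : Set ↥M) := by
        rw [hWV, hV', hN]
        exact Subgroup.subgroupOf_normalizer_eq hVM
      obtain ⟨φ, -, -, hcard⟩ := hdata.exists_hom_perm_five hWn
      rw [heq, hdata.card_normalizer]
      omega
    have hidx : N.index = 5 := by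
      have h1 : (N ⊓ M).index = 10 := by
        have := (N ⊓ M).index_mul_card
        have h2 : Nat.card ↥(N ⊓ M) = 12 := by
          rw [← Nat.card_congr (subgroupOfEquivOfLe (inf_le_right : N ⊓ M ≤ M)).toEquiv,
            Subgroup.inf_subgroupOf_right]
          exact hNM
        have h3 := M.index_mul_card
        rw [hMi, hM60] at h3
        rw [h2] at this
        omega
      have h2 : M.relIndex N = 2 := by
        haveI := hMn
        have := Subgroup.relIndex_dvd_index_of_normal M N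
        rw [hMi] at this
        refine ((Nat.dvd_prime Nat.prime_two).mp this).resolve_left fun h => htM ?_
        refine (Subgroup.relIndex_eq_one.mp h) ?_
        rw [hN, Subgroup.mem_normalizer_iff]
        intro x
        constructor
        · intro hx
          refine ⟨(centralizer ({z} : Set G)).mul_mem ((centralizer ({z} : Set G)).mul_mem htC hx.1) ((centralizer ({z} : Set G)).inv_mem htC), ?_⟩
          have hxt : t * x * t⁻¹ ∈ M := hMn.conj_mem x (hVM hx) t
          exact (hCM _ hxt (mem_centralizer_singleton_iff.mp (mul_mem (mul_mem htC hx.1) (inv_mem htC) : t * x * t⁻¹ ∈ centralizer ({z} : Set G)))).2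
        · intro hx
          have hxC : x ∈ centralizer ({z} : Set G) := by
            have := mul_mem (mul_mem (inv_mem htC) hx.1) htC
            simpa [mul_assoc] using this
          have hxM : x ∈ M := by simpa [mul_assoc] using hMn.conj_mem _ (hVM hx) t⁻¹
          exact hCM _ hxM (mem_centralizer_singleton_iff.mp hxC)
      have h3 := Subgroup.relIndex_mul_index (inf_le_left : N ⊓ M ≤ N)
      rw [inf_comm, Subgroup.inf_relIndex_right, h2, inf_comm, h1] at h3
      omega
    haveI := Fintype.ofFinite (G ⧸ N)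
    let eqv : G ⧸ N ≃ Fin 5 := (Fintype.equivFin _).trans
      (finCongr (by rw [← Nat.card_eq_fintype_card, ← Subgroup.index, hidx]))
    set φ : G →* Equiv.Perm (Fin 5) := eqv.permCongrHom.toMonoidHom.comp (MulAction.toPermHom G (G ⧸ N))
    have hkerN : φ.ker ≤ N := by
      intro k hk
      have hk' : MulAction.toPermHom G (G ⧸ N) k = 1 := eqv.permCongrHom.injective
        ((MonoidHom.mem_ker.mp hk).trans (map_one _).symm)
      have := congrArg (fun p : Equiv.Perm (G ⧸ N) => p ((1 : G) : G ⧸ N)) hk'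
      simp only [MulAction.toPermHom_apply, MulAction.toPerm_apply, Equiv.Perm.coe_one, id_eq] at this
      rw [MulAction.Quotient.smul_coe, QuotientGroup.eq, smul_eq_mul, mul_one, mul_one] at this
      simpa using inv_mem this
    have hKM : φ.ker.subgroupOf M = ⊥ := by
      rcases Subgroup.Normal.eq_bot_or_eq_top (inferInstance : (φ.ker.subgroupOf M).Normal) with h | h
      · exact h
      · exfalso
        have h12 : N.subgroupOf M = ⊤ := eq_top_iff.mpr fun x _ => hkerN (show x ∈ φ.ker.subgroupOf M by rw [h]; trivial)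
        rw [h12, Subgroup.card_top, hM60] at hNM
        omega
    have hinj : Function.Injective φ := by
      rw [← MonoidHom.ker_eq_bot_iff, eq_bot_iff]
      intro k hk
      have hcomm : ∀ m ∈ M, k * m = m * k := by
        intro m hm
        have hmem : (⟨k * m * k⁻¹ * m⁻¹, mul_mem (hMn.conj_mem m hm k) (inv_mem hm)⟩ : ↥M) ∈ φ.ker.subgroupOf M := by
          show k * m * k⁻¹ * m⁻¹ ∈ φ.ker
          rw [show k * m * k⁻¹ * m⁻¹ = k * (m * k⁻¹ * m⁻¹) by group]
          exact mul_mem hk ((inferInstance : φ.ker.Normal).conj_mem _ (inv_mem hk) m)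
        rw [hKM, Subgroup.mem_bot] at hmem
        exact mul_inv_eq_iff_eq_mul.mp (mul_inv_eq_one.mp (congrArg Subtype.val hmem))
      have hkV : k ∈ V := ⟨mem_centralizer_singleton_iff.mpr (hcomm z hzM),
        mem_centralizer_singleton_iff.mpr (hcomm s (hconjM s hs))⟩
      have hmem : (⟨k, hVM hkV⟩ : ↥M) ∈ φ.ker.subgroupOf M := hk
      rw [hKM, Subgroup.mem_bot] at hmem
      exact Subgroup.mem_bot.mpr (congrArg Subtype.val hmem)
    refine ⟨MulEquiv.ofBijective φ ((Nat.bijective_iff_injective_and_card φ).mpr ⟨hinj, ?_⟩)⟩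
    have h3 := M.index_mul_card
    rw [hMi, hM60] at h3
    rw [← h3, Nat.card_perm, Nat.card_fin]
    rfl

/-- Let G be a finite group with an involution z whose centralizer is dihedral of order 8. Then G = C_G(z) O(G) with O(G) the largest normal subgroup of odd order, or G is isomorphic to the symmetric group of degree 4, the symmetric group of degree 5, the group SL₃(2), or the alternating group of degree 6. -/
theorem result {G : Type*} [Group G] [Finite G] (z : G) (hz : orderOf z = 2)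
    (hC : Nonempty (↥(Subgroup.centralizer ({z} : Set G)) ≃* DihedralGroup 4)) :
    Subgroup.centralizer ({z} : Set G) ⊔ Cfsg.oddCore G = ⊤ ∨ Nonempty (G ≃* Equiv.Perm (Fin 4)) ∨ Nonempty (G ≃* Equiv.Perm (Fin 5)) ∨
      Nonempty (G ≃* Matrix.SpecialLinearGroup (Fin 3) (ZMod 2)) ∨ Nonempty (G ≃* ↥(alternatingGroup (Fin 6))) := by
  obtain ⟨e⟩ := hC
  obtain ⟨hz2, hz1⟩ := orderOf_two_iff.mp hz
  by_cases hiso : IsIsolated z
  · left
    have hZ := Cfsg.Agent.Lib.InvChar.inZStar_of_isIsolated hz hiso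
    rw [eq_top_iff]
    intro g _
    set O := pPrimeCore 2 G with hO
    have ho : g * z * g⁻¹ * z⁻¹ ∈ O := hZ g
    set o := g * z * g⁻¹ * z⁻¹ with hod
    have hzi : z⁻¹ = z := inv_eq_of_mul_eq_one_right hz2
    have hzo : z * o * z⁻¹ = o⁻¹ := by
      rw [hod]
      simp only [mul_inv_rev, inv_inv, hzi, mul_assoc, hz2, mul_one]
    have hodd : Odd (orderOf o) := by
      have h := (Cfsg.Agent.Lib.Components.pPrimeCore_coprime (G := G) 2).coprime_dvd_left
        (Subgroup.orderOf_dvd_natCard _ ho)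
      exact Nat.coprime_two_right.mp h
    obtain ⟨k, hk⟩ := hodd
    set w := o ^ (k + 1) with hw
    have hw2 : w * w = o := by
      rw [hw, ← pow_add, show k + 1 + (k + 1) = orderOf o + 1 by omega, pow_succ, pow_orderOf_eq_one, one_mul]
    have hwz : z * w * z⁻¹ = w⁻¹ := by
      rw [hw, ← MulAut.conj_apply, map_pow, MulAut.conj_apply, hzo, inv_pow]
    have hwC : w⁻¹ * g ∈ Subgroup.centralizer ({z} : Set G) := by
      rw [Subgroup.mem_centralizer_singleton_iff]
      calc w⁻¹ * g * z = w⁻¹ * (g * z * g⁻¹ * z⁻¹) * z * g := by group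
        _ = w⁻¹ * (w * w) * z * g := by rw [← hod, hw2]
        _ = (w⁻¹)⁻¹ * z * g := by group
        _ = (z * w * z⁻¹)⁻¹ * z * g := by rw [hwz]
        _ = z * (w⁻¹ * g) := by group
    have hwO : w ∈ Cfsg.oddCore G := pow_mem ho _
    have := mul_mem (Subgroup.mem_sup_right (S := Subgroup.centralizer ({z} : Set G)) hwO) (Subgroup.mem_sup_left hwC)
    rwa [mul_inv_cancel_left] at this
  right
  simp only [IsIsolated, not_forall] at hiso
  obtain ⟨g, hg, hgne⟩ := hiso
  obtain ⟨q, hq⟩ := el_surj e (mem_centralizer_singleton_iff.mpr hg.eq.symm :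
    g * z * g⁻¹ ∈ Subgroup.centralizer ({z} : Set G))
  have hq2 : q * q = 1 := el_inj e (by
    rw [el_mul, el_one, hq, show g * z * g⁻¹ * (g * z * g⁻¹) = g * (z * z) * g⁻¹ by group, hz2, mul_one,
      mul_inv_cancel])
  obtain rfl | ⟨i, rfl⟩ := model_noncentral q hq2 (fun h => hz1 (by
      rw [h, el_one, eq_comm, conj_eq_one_iff] at hq
      exact hq))
  · exact absurd (hq.symm.trans (el_z e hz)) hgne
  have hs : IsConj z (el e (sr i)) := isConj_iff.mpr ⟨g, hq.symm⟩
  by_cases ht : IsConj z (el e (sr (i + 1)))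
  · have h := one_class e hz (fun u hu huo => by
      obtain ⟨hu2, hu1⟩ := orderOf_two_iff.mp huo
      obtain ⟨p, rfl⟩ := el_surj e hu
      rcases model_inv i p (el_inj e (by rw [el_mul, el_one]; exact hu2))
        (fun h => hu1 (by rw [h, el_one])) with rfl | ⟨c, rfl⟩ | ⟨c, rfl⟩
      · rw [el_z e hz]
      · exact hs.trans (isConj_iff.mpr ⟨el e c, by rw [el_mul, el_mul, el_inv]⟩)
      · exact ht.trans (isConj_iff.mpr ⟨el e c, by rw [el_mul, el_mul, el_inv]⟩))
    rcases h with h | h
    · exact Or.inr (Or.inr (Or.inl h))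
    · exact Or.inr (Or.inr (Or.inr h))
  · rcases two_classes e hz i hs ht with h | h
    · exact Or.inl h
    · exact Or.inr (Or.inl h)

end Cfsg.Agent.S3035
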