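import Cfsg.Statements.S3261
import Cfsg.Agent.S3035
import Cfsg.Agent.Lib.Classical.SLTwoSeven
import Cfsg.Agent.Lib.InvChar.CentralQuaternion

set_option autoImplicit false
open Cfsg

namespace Cfsg.Agent.S3261

open Equiv

/-- Base involution. -/
def base : Perm (Fin 6) := swap 0 1 * swap 2 3

/-- Rotation. -/
def rot : Perm (Fin 6) := swap 0 3 * swap 0 1 * swap 0 2 * swap 4 5

/-- Reflection. -/
def refl : Perm (Fin 6) := swap 0 1 * swap 4 5

/-- The eight elements. -/
def dih : DihedralGroup 4 → Perm (Fin 6)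
  | .r i => rot ^ i.val
  | .sr i => refl * rot ^ i.val

theorem dih_facts : (∀ x y : DihedralGroup 4, dih (x * y) = dih x * dih y) ∧
    (∀ x : DihedralGroup 4, dih x * base = base * dih x ∧ Perm.sign (dih x) = 1) ∧
    (∀ x : DihedralGroup 4, dih x = 1 → x = 1) := by
  decide +kernel

theorem nonempty_centralizer_iso (a : ↥(alternatingGroup (Fin 6))) (ha : orderOf a = 2)
    (hs : (a : Perm (Fin 6)).support.card = 4) :
    Nonempty (↥(Subgroup.centralizer ({a} : Set ↥(alternatingGroup (Fin 6)))) ≃* DihedralGroup 4) := by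
  have : Fact (Nat.Prime 2) := ⟨Nat.prime_two⟩
  have hsq : (a : Perm (Fin 6)) ^ 2 = 1 := by
    rw [← ha, ← Subgroup.coe_pow, pow_orderOf_eq_one, Subgroup.coe_one]
  have hty : (a : Perm (Fin 6)).cycleType = {2, 2} := by
    have h2 : ∀ n ∈ (a : Perm (Fin 6)).cycleType, n = 2 := fun n hn => by
      have h1 := Perm.two_le_of_mem_cycleType hn
      have h3 := (Perm.dvd_of_mem_cycleType hn).trans (orderOf_dvd_of_pow_eq_one hsq)
      exact le_antisymm (Nat.le_of_dvd two_pos h3) h1
    rw [Multiset.eq_replicate_of_mem h2]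
    have hsum := Perm.sum_cycleType (a : Perm (Fin 6))
    rw [hs, Multiset.eq_replicate_of_mem h2, Multiset.sum_replicate, smul_eq_mul] at hsum
    rw [show Multiset.card (a : Perm (Fin 6)).cycleType = 2 by omega]
    rfl
  have hb : base.cycleType = {2, 2} := by
    have h : Perm.Disjoint (swap (0 : Fin 6) 1) (swap 2 3) := by
      rw [Perm.disjoint_iff_disjoint_support, Perm.support_swap (by decide), Perm.support_swap (by decide)]
      decide
    rw [base, h.cycleType_mul,
      Perm.IsCycle.cycleType (Perm.isCycle_swap (by decide : (0 : Fin 6) ≠ 1)),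
      Perm.IsCycle.cycleType (Perm.isCycle_swap (by decide : (2 : Fin 6) ≠ 3)),
      Perm.support_swap (by decide), Perm.support_swap (by decide)]
    rfl
  obtain ⟨g, hg⟩ := isConj_iff.1 (Perm.isConj_iff_cycleType_eq.2 (hb.trans hty.symm))
  have hmem : ∀ x, (⟨g * dih x * g⁻¹, Perm.mem_alternatingGroup.2 (by
      rw [map_mul, map_mul, (dih_facts.2.1 x).2, map_inv, mul_one, mul_inv_cancel])⟩ : ↥(alternatingGroup (Fin 6))) ∈
      Subgroup.centralizer ({a} : Set ↥(alternatingGroup (Fin 6))) := by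
    intro x
    rw [Subgroup.mem_centralizer_singleton_iff]
    apply Subtype.ext
    show g * dih x * g⁻¹ * (a : Perm (Fin 6)) = a * (g * dih x * g⁻¹)
    rw [← hg]
    calc g * dih x * g⁻¹ * (g * base * g⁻¹) = g * (dih x * base) * g⁻¹ := by group
      _ = g * (base * dih x) * g⁻¹ := by rw [(dih_facts.2.1 x).1]
      _ = _ := by group
  let f : DihedralGroup 4 →* ↥(Subgroup.centralizer ({a} : Set ↥(alternatingGroup (Fin 6)))) :=
    MonoidHom.mk' (fun x => ⟨_, hmem x⟩) (fun x y => by
      apply Subtype.ext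
      apply Subtype.ext
      show g * dih (x * y) * g⁻¹ = g * dih x * g⁻¹ * (g * dih y * g⁻¹)
      rw [dih_facts.1]
      group)
  have hinj : Function.Injective f := by
    rw [injective_iff_map_eq_one]
    intro x hx
    have h : g * dih x * g⁻¹ = 1 := congrArg (fun u : ↥(Subgroup.centralizer ({a} : Set ↥(alternatingGroup (Fin 6)))) =>
      ((u : ↥(alternatingGroup (Fin 6))) : Perm (Fin 6))) hx
    exact dih_facts.2.2 x (conj_eq_one_iff.1 h)
  have hcard : Nat.card ↥(Subgroup.centralizer ({a} : Set ↥(alternatingGroup (Fin 6)))) ≤ 8 := by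
    set C := Subgroup.centralizer ({(a : Perm (Fin 6))} : Set (Perm (Fin 6))) with hC
    have h16 : Nat.card C = 16 := by
      rw [hC, Equiv.Perm.nat_card_centralizer, hty]
      decide +kernel
    have hlt : (Subgroup.centralizer ({a} : Set ↥(alternatingGroup (Fin 6)))).map (alternatingGroup (Fin 6)).subtype ≤
        C ⊓ alternatingGroup (Fin 6) := by
      rintro _ ⟨x, hx, rfl⟩
      exact ⟨Subgroup.mem_centralizer_singleton_iff.2
        (congrArg Subtype.val (Subgroup.mem_centralizer_singleton_iff.1 hx)), x.2⟩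
    have hne : C ⊓ alternatingGroup (Fin 6) ≠ C := by
      intro h
      obtain ⟨h2, h3⟩ : (g * swap 0 1 * g⁻¹) ∈ C ∧ (g * swap 0 1 * g⁻¹) ∉ alternatingGroup (Fin 6) := by
        refine ⟨Subgroup.mem_centralizer_singleton_iff.2 ?_, ?_⟩
        · have hc : swap (0 : Fin 6) 1 * base = base * swap 0 1 := by decide
          rw [← hg]
          calc g * swap 0 1 * g⁻¹ * (g * base * g⁻¹) = g * (swap 0 1 * base) * g⁻¹ := by group
            _ = g * (base * swap 0 1) * g⁻¹ := by rw [hc]
            _ = _ := by group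
        · rw [Perm.mem_alternatingGroup, map_mul, map_mul, map_inv, Perm.sign_swap (by decide : (0 : Fin 6) ≠ 1)]
          simp [mul_comm]
      exact h3 (h ▸ h2 : _).2
    have hlt2 : C ⊓ alternatingGroup (Fin 6) < C := lt_of_le_of_ne inf_le_left hne
    obtain ⟨k, hk⟩ := Subgroup.card_dvd_of_le hlt2.le
    have hlt3 : Nat.card ↥(C ⊓ alternatingGroup (Fin 6)) < Nat.card C := by
      by_contra hh
      exact hne (Subgroup.eq_of_le_of_card_ge hlt2.le (le_of_not_gt hh))
    rw [h16] at hk hlt3
    calc _ = Nat.card ↥((Subgroup.centralizer ({a} : Set ↥(alternatingGroup (Fin 6)))).map (alternatingGroup (Fin 6)).subtype) :=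
          (Subgroup.card_map_of_injective Subtype.val_injective).symm
      _ ≤ _ := Subgroup.card_le_of_le hlt
      _ ≤ 8 := by
        have : Nat.card ↥(C ⊓ alternatingGroup (Fin 6)) ∣ 16 := ⟨k, hk⟩
        obtain ⟨j, hj, he⟩ := (Nat.dvd_prime_pow Nat.prime_two (m := 4)).1 this
        rw [he] at hlt3 ⊢
        interval_cases j <;> simp_all
  refine ⟨(MulEquiv.ofBijective f ((Nat.bijective_iff_injective_and_card f).2
    ⟨hinj, le_antisymm (Nat.card_le_card_of_injective f hinj) (by rw [DihedralGroup.nat_card]; exact hcard)⟩)).symm⟩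

theorem zmod_two_unit : ∀ u : ZMod 2, u ≠ 0 → u = 1 := by decide

theorem no_two_quotient {G : Type*} [Group G] [Finite G] {X : Type*} [Group X] (φ : G →* X)
    (hG : ∀ H : Subgroup G, H.index ≠ 2) (ψ : X →* ℤˣ) (x : X) (hx : ψ x = -1) :
    ¬ Function.Surjective φ := by
  intro hs
  obtain ⟨g, rfl⟩ := hs x
  refine hG (ψ.comp φ).ker ?_
  have hsur : Function.Surjective (ψ.comp φ) := fun u => by
    rcases Int.units_eq_one_or u with rfl | rfl
    · exact ⟨1, map_one _⟩
    · exact ⟨g, hx⟩
  rw [Subgroup.index_ker, MonoidHom.range_eq_top.2 hsur, Subgroup.card_top, Nat.card_eq_fintype_card]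
  rfl

/-- Let α̃ be an involution of the alternating group A₆ that is a product of two disjoint transpositions (it lies in the centre of a Sylow 2-subgroup of A₆; its centralizer is dihedral of order 8). Let G be a finite group that has no subgroup of index 2 and contains an involution α, central in some Sylow 2-subgroup of G, with C_G(α) ≅ C_{A₆}(α̃). Then G is isomorphic to A₆ or to PSL₂(7). -/
theorem result {G : Type*} [Group G] [Finite G]
    (hG : ∀ H : Subgroup G, H.index ≠ 2)
    (αt : ↥(alternatingGroup (Fin 6))) (hαt : orderOf αt = 2) (hsupp : (αt : Equiv.Perm (Fin 6)).support.card = 4)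
    (α : G) (hα : orderOf α = 2) (S : Sylow 2 G) (hαS : α ∈ (S : Subgroup G)) (hαc : ∀ s ∈ (S : Subgroup G), s * α = α * s)
    (e : ↥(Subgroup.centralizer ({α} : Set G)) ≃* ↥(Subgroup.centralizer ({αt} : Set ↥(alternatingGroup (Fin 6))))) :
    Nonempty (G ≃* ↥(alternatingGroup (Fin 6))) ∨
      (∃ (F : Type) (_ : Field F) (_ : Fintype F), Fintype.card F = 7 ∧ Nonempty (G ≃* Matrix.ProjectiveSpecialLinearGroup (Fin 2) F)) := by
  have : Fact (Nat.Prime 7) := ⟨by norm_num⟩
  have : Fact (Nat.Prime 2) := ⟨Nat.prime_two⟩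
  obtain ⟨d⟩ := nonempty_centralizer_iso αt hαt hsupp
  rcases Cfsg.Agent.S3035.result α hα ⟨e.trans d⟩ with h | hf | hf | hf | h
  · exfalso
    have hN : (Cfsg.oddCore G).Normal := inferInstance
    set O := Cfsg.oddCore G
    let C := Subgroup.centralizer ({α} : Set G)
    have hs : Function.Surjective ((QuotientGroup.mk' O).comp C.subtype) := by
      intro q
      obtain ⟨g, rfl⟩ := QuotientGroup.mk'_surjective O q
      obtain ⟨c, hc, o, ho, rfl⟩ : ∃ c ∈ C, ∃ o ∈ O, c * o = g := by
        have : g ∈ C ⊔ O := h.symm ▸ Subgroup.mem_top g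
        exact Subgroup.mem_sup_of_normal_right.1 this
      refine ⟨⟨c, hc⟩, ?_⟩
      show QuotientGroup.mk' O c = _
      rw [map_mul, QuotientGroup.mk'_apply, QuotientGroup.mk'_apply, (QuotientGroup.eq_one_iff o).2 ho, mul_one]
    have hp : IsPGroup 2 C := IsPGroup.of_card (n := 3) (by
      rw [Nat.card_congr (e.trans d).toEquiv, DihedralGroup.nat_card]; norm_num)
    have hq : IsPGroup 2 (G ⧸ O) := hp.of_surjective _ hs
    have hαO : α ∉ O := fun hm => by
      have h1 := Subgroup.orderOf_dvd_natCard O hm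
      have h2 := Cfsg.Agent.Lib.Components.pPrimeCore_coprime (G := G) 2
      rw [hα] at h1
      exact (Nat.prime_two.coprime_iff_not_dvd.1 h2.symm) h1
    have hnt : Nontrivial (G ⧸ O) := ⟨⟨QuotientGroup.mk α, 1, fun hh => hαO ((QuotientGroup.eq_one_iff α).1 hh)⟩⟩
    obtain ⟨M, hM, -⟩ := (eq_top_or_exists_le_coatom (⊥ : Subgroup (G ⧸ O))).resolve_left bot_ne_top
    refine hG (M.comap (QuotientGroup.mk' O)) ?_
    rw [Subgroup.index_comap_of_surjective _ (QuotientGroup.mk'_surjective O)]
    exact Cfsg.Agent.Lib.InvChar.index_coatom hq hM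
  · obtain ⟨f⟩ := hf
    exact absurd f.surjective (no_two_quotient f.toMonoidHom hG Perm.sign (swap 0 1) (Perm.sign_swap (by decide)))
  · obtain ⟨f⟩ := hf
    exact absurd f.surjective (no_two_quotient f.toMonoidHom hG Perm.sign (swap 0 1) (Perm.sign_swap (by decide)))
  · obtain ⟨f⟩ := hf
    right
    refine ⟨ZMod 7, inferInstance, inferInstance, ZMod.card 7, ?_⟩
    obtain ⟨p⟩ := Cfsg.Agent.Lib.Classical.nonempty_PSL2_seven (F := ZMod 7) (K := ZMod 2) (ZMod.card 7) (ZMod.card 2)
    have hz : Subgroup.center (Matrix.SpecialLinearGroup (Fin 3) (ZMod 2)) = ⊥ := by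
      rw [← Subgroup.card_eq_one, Nat.card_congr Matrix.SpecialLinearGroup.center_equiv_rootsOfUnity.toEquiv]
      have hu : ∀ u : ZMod 2, u ≠ 0 → u = 1 := zmod_two_unit
      exact Nat.card_eq_one_iff_unique.2 ⟨⟨fun x y => Subtype.ext (Units.ext (by
        rw [hu _ x.1.ne_zero, hu _ y.1.ne_zero]))⟩, ⟨1⟩⟩
    exact ⟨f.trans (((QuotientGroup.quotientMulEquivOfEq hz).trans QuotientGroup.quotientBot).symm.trans p.symm)⟩
  · exact Or.inl h

end Cfsg.Agent.S3261
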