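import Cfsg.Statements.S0518
import Cfsg.Agent.Lib.LocalEven2.JSymFour

set_option autoImplicit false
open Cfsg Cfsg.Agent.Lib.LocalEven2

namespace Cfsg.Agent.S0518

/-- Let G be a finite group of characteristic 2 type with trivial 2-core in which every 2-local subgroup is solvable
and, for every Sylow 2-subgroup S, the centralizer of the set of central involutions of S lies in the normalizer of S.
Then either G has a strongly embedded subgroup, or the subgroup generated by the elements of odd order has two distinct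
maximal 2-local subgroups, each isomorphic to the symmetric group of degree 4, whose intersection has order 8. -/
theorem result {G : Type*} [Group G] [Finite G]
    (hL : Cfsg.IsCharacteristicTwoType G) (hO : Cfsg.pCore 2 G = ⊥)
    (hN : ∀ N : Subgroup G, Cfsg.IsTwoLocal N → Group.IsSolvable N)
    (hZ : ∀ S : Sylow 2 G,
      Subgroup.centralizer {z : G | z ∈ (S : Subgroup G) ∧ z ^ 2 = 1 ∧ ∀ s ∈ (S : Subgroup G), s * z = z * s} ≤
        Subgroup.normalizer ((S : Subgroup G) : Set G))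
    (H : Subgroup G) (hH : H = Subgroup.closure {g : G | Odd (orderOf g)}) :
    (∃ K : Subgroup G, Cfsg.IsStronglyEmbedded K) ∨
      ∃ M₁ M₂ : Subgroup H, M₁ ≠ M₂ ∧ Cfsg.IsMaximalTwoLocal M₁ ∧ Cfsg.IsMaximalTwoLocal M₂ ∧
        Nonempty (M₁ ≃* Equiv.Perm (Fin 4)) ∧ Nonempty (M₂ ≃* Equiv.Perm (Fin 4)) ∧ Nat.card ↥(M₁ ⊓ M₂) = 8 := by
  haveI : Fact (Nat.Prime 2) := ⟨Nat.prime_two⟩
  obtain ⟨S⟩ : Nonempty (Sylow 2 G) := inferInstance
  have hZ' : ∀ S : Sylow 2 G, Subgroup.centralizer (Cfsg.omegaCenterOf (S : Subgroup G) : Set G) ≤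
      Subgroup.normalizer ((S : Subgroup G) : Set G) := fun S => by
    refine le_trans (Subgroup.centralizer_le fun z hz => ?_) (hZ S)
    obtain ⟨h1, h2, h3⟩ := hz
    exact mem_omegaCenterOf_iff.mpr ⟨h1, h3, by rw [← pow_two]; exact h2⟩
  have zn : ZN G := ⟨hL, hN, hZ', hO⟩
  have hS1 : (S : Subgroup G) ≠ ⊥ := fun h => by
    have h2 := S.dvd_card_of_dvd_card hL.1.two_dvd
    rw [h, Subgroup.card_bot] at h2
    norm_num at h2
  set M := Subgroup.normalizer (Cfsg.thompsonSubgroupOf 2 (S : Subgroup G) : Set G) with hMdef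
  have hM : Cfsg.IsTwoLocal M :=
    ⟨_, S.isPGroup'.to_le (thompsonSubgroupOf_le 2 _), thompson_ne_bot S.isPGroup' hS1, rfl⟩
  rcases Set.eq_empty_or_nonempty (Cfsg.straddlingTwoSubgroups M) with hemp | hne
  · exact Or.inl ⟨M, (Cfsg.Agent.S2947.result hL hN hZ' hO S M hM le_rfl).mpr hemp⟩
  obtain ⟨T, hT⟩ := exists_maxStraddling hne
  obtain ⟨K, L, o⟩ := exists_out (M := M) zn hM ⟨S, le_rfl⟩ hT
  obtain ⟨M', K', L', o', hne'⟩ := o.companion
  exact Or.inr (o.sym_four_pair o' hne' hH)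

end Cfsg.Agent.S0518
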