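import Cfsg.Statements.S2507
import Cfsg.Agent.Lib.PSLSpec.Index

set_option autoImplicit false
open Cfsg

namespace Cfsg.Agent.S2507

/-- Let F be a finite field with q = 2^f ≥ 4 elements. The conjugacy class sizes of PSL(2,F) are exactly 1, q(q − 1), q² − 1 and q(q + 1). -/
theorem result {F : Type*} [Field F] [Fintype F]
    (h2 : 2 ∣ Fintype.card F) (h4 : 4 ≤ Fintype.card F) :
    Set.range (fun g : (Matrix.ProjectiveSpecialLinearGroup (Fin 2) F) => (Subgroup.centralizer ({g} : Set (Matrix.ProjectiveSpecialLinearGroup (Fin 2) F))).index) =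
      {1, Fintype.card F * (Fintype.card F - 1), Fintype.card F ^ 2 - 1, Fintype.card F * (Fintype.card F + 1)} := by
  classical
  haveI : CharP F 2 := ringChar.of_eq ((FiniteField.even_card_iff_char_two).mpr (Nat.mod_eq_zero_of_dvd h2))
  have h20 : (2 : F) = 0 := CharTwo.two_eq_zero
  obtain ⟨j, hj⟩ : ∃ j, Fintype.card F = j + 1 := ⟨Fintype.card F - 1, by omega⟩
  have hsq : Fintype.card F ^ 2 - 1 = j * (j + 2) := by
    rw [hj, show (j + 1) ^ 2 = j * (j + 2) + 1 by ring, Nat.add_sub_cancel]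
  have e1 : Fintype.card F - 1 = j := by omega
  have key : ∀ (X : Matrix.SpecialLinearGroup (Fin 2) F) (c n : ℕ), Nat.card (Lib.Geometry.Dickson.cell ⊤ X) = c → 0 < c →
      c * n = Fintype.card F * (Fintype.card F ^ 2 - 1) →
      (Subgroup.centralizer ({Lib.SL2Trace.toPSL X} : Set (Matrix.ProjectiveSpecialLinearGroup (Fin 2) F))).index = n := by
    intro X c n hc hpos hn
    rw [Lib.PSLSpec.index_centralizer_of_tr (Or.inr h20)]
    exact Nat.eq_of_mul_eq_mul_left hpos (by rw [← hc, Lib.PSLSpec.card_mul_index_cell, hc, hn])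
  have ku : ∀ X : Matrix.SpecialLinearGroup (Fin 2) F, X ∉ Subgroup.center _ → Lib.SL2Trace.tr X ^ 2 = 4 →
      (Subgroup.centralizer ({Lib.SL2Trace.toPSL X} : Set (Matrix.ProjectiveSpecialLinearGroup (Fin 2) F))).index =
        Fintype.card F ^ 2 - 1 := fun X hX ht =>
    key X (Fintype.card F) _ (by rw [Lib.PSLSpec.card_cell_unipotent hX ht, Lib.PSLSpec.card_sqrt_one_two h20, one_mul])
      (by omega) rfl
  have ks : ∀ X : Matrix.SpecialLinearGroup (Fin 2) F, Nat.card (Lib.Geometry.Dickson.cell ⊤ X) = Fintype.card F - 1 →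
      (Subgroup.centralizer ({Lib.SL2Trace.toPSL X} : Set (Matrix.ProjectiveSpecialLinearGroup (Fin 2) F))).index =
        Fintype.card F * (Fintype.card F + 1) := fun X hc =>
    key X _ _ hc (by omega) (by rw [e1, hsq, hj]; ring)
  have kn : ∀ X : Matrix.SpecialLinearGroup (Fin 2) F, Nat.card (Lib.Geometry.Dickson.cell ⊤ X) = Fintype.card F + 1 →
      (Subgroup.centralizer ({Lib.SL2Trace.toPSL X} : Set (Matrix.ProjectiveSpecialLinearGroup (Fin 2) F))).index =
        Fintype.card F * (Fintype.card F - 1) := fun X hc =>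
    key X _ _ hc (by omega) (by rw [e1, hsq, hj]; ring)
  ext n
  simp only [Set.mem_range, Set.mem_insert_iff, Set.mem_singleton_iff]
  constructor
  · rintro ⟨g, rfl⟩
    obtain ⟨X, rfl⟩ := Lib.SL2Trace.toPSL_surjective g
    by_cases hX : X ∈ Subgroup.center (Matrix.SpecialLinearGroup (Fin 2) F)
    · left
      rw [Lib.SL2Trace.toPSL_eq_one.mpr (Lib.SL2Trace.mem_center_iff.mp hX), Subgroup.index_eq_one]
      exact Subgroup.eq_top_iff' _ |>.mpr fun h => Subgroup.mem_centralizer_singleton_iff.mpr (by simp)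
    by_cases ht : Lib.SL2Trace.tr X ^ 2 = 4
    · exact Or.inr (Or.inr (Or.inl (ku X hX ht)))
    rcases Lib.PSLSpec.card_cell_regular ht with ⟨-, hc⟩ | ⟨-, hc⟩
    · exact Or.inr (Or.inr (Or.inr (ks X hc)))
    · exact Or.inr (Or.inl (kn X hc))
  · rintro (rfl | rfl | rfl | rfl)
    · exact ⟨1, Subgroup.index_eq_one.mpr (Subgroup.eq_top_iff' _ |>.mpr fun h =>
        Subgroup.mem_centralizer_singleton_iff.mpr (by simp))⟩
    · obtain ⟨y, hs, ht, hy⟩ := Lib.Geometry.Dickson.exists_nonsplit (F := F)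
      exact ⟨_, kn y (Lib.Geometry.Dickson.card_cell_nonsplit hy ht hs)⟩
    · exact ⟨_, ku _ (Lib.Geometry.Dickson.upper_notMem_center one_ne_zero) (by
        rw [Lib.Geometry.Dickson.tr_upper]; norm_num)⟩
    · obtain ⟨y, hs, ht, hy⟩ := Lib.Geometry.Dickson.exists_split (F := F) h4
      exact ⟨_, ks y (Lib.Geometry.Dickson.card_cell_split hy ht hs)⟩

end Cfsg.Agent.S2507
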