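import Cfsg.Statements.S2478
import Mathlib
import Cfsg.Agent.Lib.Similar.Classes

set_option autoImplicit false
open Cfsg

namespace Cfsg.Agent.S2478

open Polynomial

variable {F : Type*} [Field F] [Fintype F]

/-- Monic polynomials of degree `d` with nonzero constant term. -/
def Mon (F : Type*) [Field F] (d : ℕ) : Set F[X] := {g | g.Monic ∧ g.natDegree = d ∧ g.coeff 0 ≠ 0}

theorem finite_mon (d : ℕ) : Finite (Mon F d) := by
  refine Finite.of_injective (fun g : Mon F d => fun i : Fin (d + 1) => g.1.coeff i) fun g h e => Subtype.ext ?_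
  refine Polynomial.ext fun i => ?_
  by_cases hi : i < d + 1
  · exact congrFun e ⟨i, hi⟩
  · rw [coeff_eq_zero_of_natDegree_lt (by rw [g.2.2.1]; omega), coeff_eq_zero_of_natDegree_lt (by rw [h.2.2.1]; omega)]

theorem card_mon_zero : Nat.card (Mon F 0) = 1 := by
  refine Nat.card_eq_one_iff_exists.mpr ⟨⟨1, monic_one, natDegree_one, by simp⟩, fun g => Subtype.ext ?_⟩
  exact g.2.1.natDegree_eq_zero.mp g.2.2.1

theorem card_mon_succ (e : ℕ) : Nat.card (Mon F (e + 1)) = (Fintype.card F - 1) * Fintype.card F ^ e := by
  classical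
  let E : Mon F (e + 1) ≃ {w : Fin (e + 1) → F // w 0 ≠ 0} :=
    { toFun := fun g => ⟨fun i => g.1.coeff i, g.2.2.2⟩
      invFun := fun w => ⟨X ^ (e + 1) + ∑ i : Fin (e + 1), C (w.1 i) * X ^ (i : ℕ),
        monic_X_pow_add (degree_sum_fin_lt w.1),
        by
          rw [natDegree_add_eq_left_of_degree_lt, natDegree_X_pow]
          rw [degree_X_pow]; exact degree_sum_fin_lt w.1,
        by
          have h := w.2
          rw [coeff_add, coeff_X_pow, if_neg (by omega), zero_add, finsetSum_coeff, Finset.sum_eq_single (0 : Fin (e + 1))]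
          · simpa using h
          · intro b _ hb
            rw [coeff_C_mul, coeff_X_pow, if_neg (fun hh => hb (Fin.ext (by simpa using hh.symm))), mul_zero]
          · simp⟩
      left_inv := fun g => Subtype.ext (by
        conv_rhs => rw [g.2.1.as_sum, g.2.2.1, ← Fin.sum_univ_eq_sum_range (fun i => C (g.1.coeff i) * X ^ i)])
      right_inv := fun w => Subtype.ext (funext fun i => by
        have := i.2
        simp [finsetSum_coeff, coeff_C_mul, coeff_X_pow, Fin.val_inj, ne_of_lt this]) }
  rw [Nat.card_congr E, Nat.card_congr ((Fin.consEquiv (fun _ => F)).symm.subtypeEquiv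
    (p := fun w => w 0 ≠ 0) (q := fun y : F × (Fin e → F) => y.1 ≠ 0) (fun w => Iff.rfl)),
    Nat.card_congr (Equiv.prodSubtypeFstEquivSubtypeProd (p := fun a : F => a ≠ 0)), Nat.card_prod,
    Nat.card_eq_fintype_card, Nat.card_eq_fintype_card, Fintype.card_subtype_compl, Fintype.card_subtype_eq]
  simp

/-- The bound on the number of families of elementary divisors with exponents at most `k`. -/
noncomputable def num (F : Type*) [Field F] : ℕ → ℕ → ℕ
  | 0, n => if n = 0 then 1 else 0
  | k + 1, n => num F k n + ∑ d ∈ Finset.range n,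
      if (k + 1) * (d + 1) ≤ n then Nat.card (Mon F (d + 1)) * num F k (n - (k + 1) * (d + 1)) else 0

theorem num_zero (k : ℕ) : num F k 0 = 1 := by
  induction k with
  | zero => rfl
  | succ k ih => simp [num, ih]

theorem num_le (k n : ℕ) (hn : 1 ≤ n) :
    num F k n * Fintype.card F ^ k + Fintype.card F ^ n ≤ Fintype.card F ^ (n + k) := by
  induction k generalizing n with
  | zero => simp [num, show n ≠ 0 by omega]
  | succ k ih =>
    obtain ⟨r, hr⟩ : ∃ r, Fintype.card F = r + 1 := ⟨Fintype.card F - 1, by have := Fintype.one_lt_card (α := F); omega⟩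
    have hc : ∀ e, Nat.card (Mon F (e + 1)) = r * (r + 1) ^ e := fun e => by rw [card_mon_succ, hr, Nat.add_sub_cancel]
    let B : ℕ → ℕ := fun m => ∑ d ∈ Finset.range m,
      if (k + 1) * (d + 1) ≤ m then Nat.card (Mon F (d + 1)) * num F k (m - (k + 1) * (d + 1)) else 0
    have hext : ∀ m N, m ≤ N → B m = ∑ d ∈ Finset.range N,
        if (k + 1) * (d + 1) ≤ m then Nat.card (Mon F (d + 1)) * num F k (m - (k + 1) * (d + 1)) else 0 := by
      intro m N hN
      refine Finset.sum_subset (Finset.range_mono hN) fun d _ hd => if_neg fun h => ?_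
      rw [Finset.mem_range] at hd
      have := Nat.le_mul_of_pos_left (d + 1) (show 0 < k + 1 by omega)
      omega
    have hB : ∀ m, B m * (r + 1) ^ (k + 1) ≤ r * (r + 1) ^ m := by
      intro m
      induction m using Nat.strong_induction_on with
      | _ m ihm =>
      by_cases hm : m < k + 1
      · have : B m = 0 := Finset.sum_eq_zero fun d _ => if_neg fun h => by
          have := Nat.le_mul_of_pos_right (k + 1) (show 0 < d + 1 by omega)
          omega
        simp [this]
      obtain ⟨l, rfl⟩ : ∃ l, m = l + (k + 1) := ⟨m - (k + 1), by omega⟩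
      have hrec : B (l + (k + 1)) = r * num F k l + (r + 1) * B l := by
        show ∑ d ∈ Finset.range (l + k + 1), _ = _
        rw [Finset.sum_range_succ', hext l (l + k) (by omega), Finset.mul_sum, add_comm (r * _)]
        congr 1
        · refine Finset.sum_congr rfl fun d _ => ?_
          have e : (k + 1) * (d + 1 + 1) = (k + 1) * (d + 1) + (k + 1) := by ring
          rw [e, hc, hc, pow_succ]
          by_cases h : (k + 1) * (d + 1) ≤ l
          · rw [if_pos h, if_pos (by omega), show l + (k + 1) - ((k + 1) * (d + 1) + (k + 1)) = l - (k + 1) * (d + 1) by omega]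
            ring
          · rw [if_neg h, if_neg (by omega), mul_zero]
        · rw [zero_add, mul_one, if_pos (by omega), hc, pow_zero, mul_one, Nat.add_sub_cancel]
      rcases Nat.eq_zero_or_pos l with rfl | hl
      · have : B 0 = 0 := rfl
        rw [hrec, this, num_zero, mul_zero, add_zero, mul_one, zero_add]
      · have h1 := ih l hl
        have h2 := ihm l (by omega)
        rw [hr] at h1
        have h3 := Nat.mul_le_mul_left (r * (r + 1)) h1
        have h4 := Nat.mul_le_mul_left (r + 1) h2
        rw [hrec]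
        simp only [pow_add, pow_one] at h3 h4 ⊢
        nlinarith [h3, h4]
    have h1 := ih n hn
    have h2 := hB n
    show (num F k n + B n) * _ + _ ≤ _
    rw [hr] at h1 ⊢
    have h3 := Nat.mul_le_mul_left (r + 1) h1
    simp only [pow_add, pow_one] at h2 h3 ⊢
    nlinarith [h2, h3]

/-- Families of elementary divisors of total degree `n` with exponents at most `k`. -/
def Fam (F : Type*) [Field F] (k n : ℕ) : Set (Multiset (F[X] × ℕ)) :=
  {m | (∀ y ∈ m, y.1.Monic ∧ Irreducible y.1 ∧ y.1.coeff 0 ≠ 0 ∧ 1 ≤ y.2 ∧ y.2 ≤ k) ∧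
    (m.map fun y => y.2 * y.1.natDegree).sum = n}

theorem finite_fam (k : ℕ) : ∀ n, Finite (Fam F k n) ∧ Nat.card (Fam F k n) ≤ num F k n := by
  classical
  induction k with
  | zero =>
    intro n
    have h0 : ∀ m : Fam F 0 n, m.1 = 0 ∧ n = 0 := fun m => by
      have : m.1 = 0 := Multiset.eq_zero_of_forall_notMem fun y hy => by
        have := m.2.1 y hy; omega
      have h2 := m.2.2
      rw [this] at h2
      exact ⟨this, by simpa using h2.symm⟩
    have : Subsingleton (Fam F 0 n) := ⟨fun a b => Subtype.ext (by rw [(h0 a).1, (h0 b).1])⟩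
    refine ⟨inferInstance, ?_⟩
    by_cases hn : n = 0
    · simp only [num, if_pos hn]; exact Finite.card_le_one_iff_subsingleton.mpr this
    · have : IsEmpty (Fam F 0 n) := ⟨fun m => hn (h0 m).2⟩
      simp
  | succ k ih =>
    intro n
    let ι := {d : Fin n // (k + 1) * ((d : ℕ) + 1) ≤ n}
    have := fun d : ℕ => finite_mon (F := F) d
    have := fun m => (ih m).1
    let T := Fam F k n ⊕ (Σ d : ι, Mon F (d.1.1 + 1) × Fam F k (n - (k + 1) * (d.1.1 + 1)))
    have hsplit : ∀ m : Fam F (k + 1) n, (Multiset.filter (fun y => y.2 = k + 1) m.1) =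
        ((Multiset.filter (fun y => y.2 = k + 1) m.1).map Prod.fst).map (fun f => (f, k + 1)) := fun m => by
      rw [Multiset.map_map]
      conv_lhs => rw [← Multiset.map_id (Multiset.filter _ m.1)]
      exact Multiset.map_congr rfl fun y hy => Prod.ext rfl (Multiset.mem_filter.mp hy).2
    have key : ∀ m : Fam F (k + 1) n, ∃ d : ℕ, (k + 1) * d ≤ n ∧
        ((Multiset.filter (fun y => y.2 = k + 1) m.1).map Prod.fst).prod ∈ Mon F d ∧
        Multiset.filter (fun y => ¬ y.2 = k + 1) m.1 ∈ Fam F k (n - (k + 1) * d) := by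
      intro m
      obtain ⟨s, hs⟩ : ∃ s, s = (Multiset.filter (fun y => y.2 = k + 1) m.1).map Prod.fst := ⟨_, rfl⟩
      have hmon : ∀ f ∈ s, f.Monic ∧ f.coeff 0 ≠ 0 := by
        intro f hf
        rw [hs, Multiset.mem_map] at hf
        obtain ⟨y, hy, rfl⟩ := hf
        have := m.2.1 y (Multiset.mem_filter.mp hy).1
        exact ⟨this.1, this.2.2.1⟩
      have hsum : (k + 1) * (s.map natDegree).sum +
          ((Multiset.filter (fun y => ¬ y.2 = k + 1) m.1).map fun y => y.2 * y.1.natDegree).sum = n := by
        conv_rhs => rw [← m.2.2, ← Multiset.filter_add_not (fun y => y.2 = k + 1) m.1, Multiset.map_add, Multiset.sum_add]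
        rw [← Multiset.sum_map_mul_left, hs, Multiset.map_map, Multiset.map_congr rfl]
        intro y hy
        simp [(Multiset.mem_filter.mp hy).2]
      rw [← hs]
      refine ⟨(s.map natDegree).sum, by omega, ⟨by simpa using monic_multiset_prod_of_monic s id fun f hf => (hmon f hf).1,
        natDegree_multiset_prod_of_monic _ fun f hf => (hmon f hf).1, ?_⟩, ⟨fun y hy => ?_, by omega⟩⟩
      · rw [coeff_zero_multiset_prod]
        refine Multiset.prod_ne_zero fun h => ?_
        obtain ⟨f, hf, hf0⟩ := Multiset.mem_map.mp h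
        exact (hmon f hf).2 hf0
      · obtain ⟨hy1, hy2⟩ := Multiset.mem_filter.mp hy
        have := m.2.1 y hy1
        exact ⟨this.1, this.2.1, this.2.2.1, this.2.2.2.1, by omega⟩
    choose D hD hg hrest using key
    let f : Fam F (k + 1) n → T := fun m => if h : D m = 0 then .inl ⟨_, by simpa [h] using hrest m⟩
      else .inr ⟨⟨⟨D m - 1, by have := hD m; have := Nat.le_mul_of_pos_left (D m) (show 0 < k + 1 by omega); omega⟩,
        by simpa [show D m - 1 + 1 = D m by omega] using hD m⟩,
        ⟨_, by simpa [show D m - 1 + 1 = D m by omega] using hg m⟩,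
        ⟨_, by simpa [show D m - 1 + 1 = D m by omega] using hrest m⟩⟩
    let back : T → F[X] × Multiset (F[X] × ℕ) := fun t => match t with
      | .inl r => (1, r.1)
      | .inr ⟨_, g, r⟩ => (g.1, r.1)
    have hback : ∀ m, back (f m) = (((Multiset.filter (fun y => y.2 = k + 1) m.1).map Prod.fst).prod,
        Multiset.filter (fun y => ¬ y.2 = k + 1) m.1) := by
      intro m
      simp only [f]
      split_ifs with h
      · exact Prod.ext ((hg m).1.natDegree_eq_zero.mp ((hg m).2.1.trans h)).symm rfl
      · rfl
    have hinj : Function.Injective f := by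
      intro a b hab
      have h := congrArg back hab
      rw [hback, hback, Prod.ext_iff] at h
      have hnorm : ∀ m : Fam F (k + 1) n, UniqueFactorizationMonoid.normalizedFactors
          ((Multiset.filter (fun y => y.2 = k + 1) m.1).map Prod.fst).prod =
          (Multiset.filter (fun y => y.2 = k + 1) m.1).map Prod.fst := fun m => by
        rw [UniqueFactorizationMonoid.normalizedFactors_prod_eq]
        · conv_rhs => rw [← Multiset.map_id (Multiset.map Prod.fst _)]
          refine Multiset.map_congr rfl fun p hp => ?_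
          obtain ⟨y, hy, rfl⟩ := Multiset.mem_map.mp hp
          exact (m.2.1 y (Multiset.mem_filter.mp hy).1).1.normalize_eq_self
        · intro p hp
          obtain ⟨y, hy, rfl⟩ := Multiset.mem_map.mp hp
          exact (m.2.1 y (Multiset.mem_filter.mp hy).1).2.1
      apply Subtype.ext
      simp only at h
      rw [← Multiset.filter_add_not (fun y => y.2 = k + 1) a.1, ← Multiset.filter_add_not (fun y => y.2 = k + 1) b.1,
        hsplit a, hsplit b, ← hnorm a, ← hnorm b, h.1, h.2]
    refine ⟨Finite.of_injective f hinj, (Nat.card_le_card_of_injective f hinj).trans ?_⟩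
    rw [Nat.card_sum, Nat.card_sigma]
    refine add_le_add (ih n).2 ?_
    simp only [Nat.card_prod]
    rw [← Fin.sum_univ_eq_sum_range (fun d => if (k + 1) * (d + 1) ≤ n then
      Nat.card (Mon F (d + 1)) * num F k (n - (k + 1) * (d + 1)) else 0), ← Finset.sum_filter,
      ← Finset.sum_subtype_eq_sum_filter (p := fun d : Fin n => (k + 1) * ((d : ℕ) + 1) ≤ n), Finset.subtype_univ]
    exact Finset.sum_le_sum fun d _ => Nat.mul_le_mul_left _ (ih _).2

/-- The number of conjugacy classes of GL(n,q): for F a finite field with q elements and n ≥ 1, the number k of conjugacy classes of GL(n,F) satisfies q^n − q^(n−1) ≤ k ≤ q^n. -/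
theorem result {F : Type*} [Field F] [Fintype F] (n : ℕ) (hn : 1 ≤ n) :
    Fintype.card F ^ n - Fintype.card F ^ (n - 1) ≤ Nat.card (ConjClasses (Matrix.GeneralLinearGroup (Fin n) F)) ∧ Nat.card (ConjClasses (Matrix.GeneralLinearGroup (Fin n) F)) ≤ Fintype.card F ^ n := by
  classical
  open Cfsg.Agent.Lib.Similar Polynomial in
  have hfin := finite_fam (F := F) n n
  open Cfsg.Agent.Lib.Similar Polynomial in
  have hmem : ∀ x : GL (Fin n) F, matInv (x : Matrix (Fin n) (Fin n) F) ∈ Fam F n n := by
    intro x
    obtain ⟨h1, h2⟩ := matInv_spec x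
    rw [Fintype.card_fin] at h2
    refine ⟨fun y hy => ⟨(h1 y hy).1, (h1 y hy).2.1, (h1 y hy).2.2.1, (h1 y hy).2.2.2, ?_⟩, h2⟩
    have h3 := Multiset.single_le_sum (by simp) _ (Multiset.mem_map_of_mem (fun y : F[X] × ℕ => y.2 * y.1.natDegree) hy)
    have h4 := Nat.le_mul_of_pos_right y.2 (h1 y hy).2.1.natDegree_pos
    omega
  open Cfsg.Agent.Lib.Similar Polynomial in
  constructor
  · obtain ⟨e, rfl⟩ : ∃ e, n = e + 1 := ⟨n - 1, by omega⟩
    have h : ∀ g : Mon F (e + 1), ∃ c : ConjClasses (GL (Fin (e + 1)) F), classCharpoly c = g.1 := by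
      rintro ⟨g, hg, hd, h0⟩
      obtain ⟨m, hm⟩ : ∃ m, m = (UniqueFactorizationMonoid.normalizedFactors g).map (fun f => (f, 1)) := ⟨_, rfl⟩
      have hp : (UniqueFactorizationMonoid.normalizedFactors g).prod = g := by
        rw [UniqueFactorizationMonoid.prod_normalizedFactors_eq hg.ne_zero, hg.normalize_eq_self]
      have hf : ∀ f ∈ UniqueFactorizationMonoid.normalizedFactors g, f.Monic ∧ Irreducible f ∧ f.coeff 0 ≠ 0 := by
        intro f hf
        refine ⟨?_, UniqueFactorizationMonoid.irreducible_of_normalized_factor f hf, fun h => h0 ?_⟩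
        · rw [← UniqueFactorizationMonoid.normalize_normalized_factor f hf]
          exact monic_normalize (UniqueFactorizationMonoid.irreducible_of_normalized_factor f hf).ne_zero
        · obtain ⟨c, hc⟩ := UniqueFactorizationMonoid.dvd_of_mem_normalizedFactors hf
          rw [hc, mul_coeff_zero, h, zero_mul]
      obtain ⟨x, hx⟩ := exists_gl_matInv (n := Fin (e + 1)) m (by
        intro y hy
        obtain ⟨f, hfm, rfl⟩ := Multiset.mem_map.mp (hm ▸ hy)
        exact ⟨(hf f hfm).1, (hf f hfm).2.1, (hf f hfm).2.2, le_rfl⟩) (by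
        rw [Fintype.card_fin, ← hd, hm, Multiset.map_map]
        conv_rhs => rw [← hp, natDegree_multiset_prod_of_monic _ (fun f h => (hf f h).1)]
        simp)
      refine ⟨ConjClasses.mk x, ?_⟩
      rw [classCharpoly_mk, charpoly_eq_matInv, hx, hm, Multiset.map_map]
      simp only [Function.comp_def, pow_one, Multiset.map_id', hp]
    choose c hc using h
    have := Nat.card_le_card_of_injective c fun a b hab => Subtype.ext (by rw [← hc a, ← hc b, hab])
    rw [card_mon_succ] at this
    rw [Nat.add_sub_cancel, pow_succ]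
    rw [tsub_mul, one_mul, mul_comm] at this
    exact this
  · have := hfin.1
    have h : ∀ c : ConjClasses (GL (Fin n) F), classInv c ∈ Fam F n n := fun c => by
      obtain ⟨x, rfl⟩ := ConjClasses.mk_surjective c
      exact hmem x
    have h1 := Nat.card_le_card_of_injective (fun c => (⟨_, h c⟩ : Fam F n n))
      fun a b hab => classInv_injective (congrArg Subtype.val hab)
    have h2 := num_le (F := F) n n hn
    have h3 : num F n n * Fintype.card F ^ n ≤ Fintype.card F ^ n * Fintype.card F ^ n := by
      rw [← pow_add]; omega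
    exact h1.trans (hfin.2.trans (Nat.le_of_mul_le_mul_right h3 (pow_pos Fintype.card_pos n)))

end Cfsg.Agent.S2478
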