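import Cfsg.Statements.S4503
import Cfsg.Agent.Lib.Blocks.SmallDegree


set_option autoImplicit false
open Cfsg Cfsg.Agent.Lib.Characters Cfsg.Agent.Lib.Blocks

namespace Cfsg.Agent.S4503

/-- Let G be a finite group whose order is divisible by the prime p exactly once and which has no normal subgroup of order p. Then every faithful character χ of G has degree at least (p − 1)/2: 2·χ(1) + 1 ≥ p. -/
theorem result {G : Type*} [Group G] [Finite G] (p : ℕ) (hp : p.Prime) (hdiv : p ∣ Nat.card G) (hsq : ¬ p ^ 2 ∣ Nat.card G) (hnn : ∀ H : Subgroup G, H.Normal → Nat.card H ≠ p) (χ : G → ℂ) (hχ : Cfsg.IsCharacter G χ) (hfaith : ∀ g : G, χ g = χ 1 → g = 1) : p ≤ 2 * Cfsg.charDegree χ + 1 := by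
  classical
  by_contra hlt
  push Not at hlt
  haveI := Fintype.ofFinite G
  haveI : Fact p.Prime := ⟨hp⟩
  obtain ⟨M, hM⟩ := exists_isPModular hp
  haveI : M.IsPrime := hM.2.1.isPrime
  obtain ⟨v, hv⟩ := exists_prime_orderOf_dvd_card' p hdiv
  set P₀ := Subgroup.zpowers v with hP₀
  have hP₀c : Nat.card P₀ = p := by rw [Nat.card_zpowers, hv]
  set K := Subgroup.normalClosure (P₀ : Set G) with hK
  have hP₀K : P₀ ≤ K := Subgroup.le_normalClosure
  haveI := Fintype.ofFinite K
  set P := P₀.subgroupOf K with hP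
  have hPc : Nat.card P = p := by
    rw [Nat.card_congr (Subgroup.subgroupOfEquivOfLe hP₀K).toEquiv, hP₀c]
  have hsqK : ¬ p ^ 2 ∣ Nat.card K := fun h => hsq (h.trans (Subgroup.card_subgroup_dvd_card K))
  obtain ⟨u, O, S⟩ := exists_primeSplit P hPc hsqK
  haveI := Fintype.ofFinite O
  haveI := Fintype.ofFinite (Subgroup.centralizer (P : Set K))
  have hfacK : p ^ (Nat.card K).factorization p = p := by
    have hd : p ∣ Nat.card K := hPc ▸ Subgroup.card_subgroup_dvd_card P
    have h1 : (Nat.card K).factorization p = 1 := by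
      refine le_antisymm ?_ (hp.factorization_pos_of_dvd Nat.card_pos.ne' hd)
      by_contra hgt
      exact hsqK ((pow_dvd_pow p (by omega : 2 ≤ (Nat.card K).factorization p)).trans (Nat.ordProj_dvd _ _))
    rw [h1, pow_one]
  let Ps : Sylow p K := Sylow.ofCard P (by rw [hPc, hfacK])
  have hconj : ∀ a : K, a ^ p = 1 → ∃ (c : K) (x : K), x ∈ P ∧ a = c * x * c⁻¹ := by
    intro a ha
    obtain ⟨k, -, hk⟩ := (Nat.dvd_prime_pow hp).1 (show orderOf a ∣ p ^ 1 by rw [pow_one]; exact orderOf_dvd_of_pow_eq_one ha)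
    obtain ⟨Q, hQ⟩ := (IsPGroup.of_card (G := Subgroup.zpowers a) (n := k) (by rw [Nat.card_zpowers, hk])).exists_le_sylow
    obtain ⟨c, hc⟩ := MulAction.exists_smul_eq K Ps Q
    have haQ : a ∈ ((c • Ps : Sylow p K) : Subgroup K) := by rw [hc]; exact hQ (Subgroup.mem_zpowers a)
    rw [Sylow.coe_subgroup_smul, Subgroup.mem_pointwise_smul_iff_inv_smul_mem] at haQ
    have hx : c⁻¹ * a * c ∈ P := by
      have h2 : (MulAut.conj c)⁻¹ • a ∈ (Ps : Subgroup K) := haQ
      simpa using (show (MulAut.conj c)⁻¹ a ∈ P from h2)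
    exact ⟨c, c⁻¹ * a * c, hx, by group⟩
  have hgenP : ∀ x ∈ P, ∃ i : ℕ, x = u ^ i := fun x hx => by
    obtain ⟨i, rfl⟩ := exists_upow_eq S.card_P S.mem S.ne_one hx
    exact ⟨i.val, rfl⟩
  have hgen : ∀ l : K →* ℂˣ, l u = 1 → l = 1 := by
    intro l hl
    have hsub : ∀ a : K, a ^ p = 1 → l a = 1 := by
      intro a ha
      obtain ⟨c, x, hx, rfl⟩ := hconj a ha
      obtain ⟨i, rfl⟩ := hgenP x hx
      simp [hl]
    have hle : K ≤ l.ker.map K.subtype := by
      refine (Subgroup.closure_le _).2 fun g hg => ?_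
      obtain ⟨z, hz, hzg⟩ := Group.mem_conjugatesOfSet_iff.1 hg
      obtain ⟨c, hc⟩ := isConj_iff.1 hzg
      have hgK : g ∈ K := Subgroup.subset_closure hg
      refine ⟨⟨g, hgK⟩, hsub _ (Subtype.ext ?_), rfl⟩
      show g ^ p = 1
      rw [← hc, conj_pow]
      have hzp : z ^ p = 1 := by
        rw [← orderOf_dvd_iff_pow_eq_one, ← hP₀c]
        exact Subgroup.orderOf_dvd_natCard _ hz
      rw [hzp, mul_one, mul_inv_cancel]
    refine MonoidHom.ext fun a => ?_
    obtain ⟨b, hb, hba⟩ := hle a.2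
    rw [← Subtype.ext (show (b : G) = (a : G) from hba)]
    exact hb
  have hd1 : χ 1 = (charDegree χ : ℂ) := Cfsg.Agent.Lib.BlockHeights.apply_one_eq_charDegree hχ
  -- the generator is central
  have hcent : ∀ g : K, u * g * u⁻¹ * g⁻¹ = 1 := by
    intro g
    haveI := Fintype.ofFinite (IrrCharacter K)
    have hr : IsCharacter K (fun k : K => χ k) := IsCharacter.restrict hχ K
    obtain ⟨m, hm, -⟩ := IsCharacter.exists_nat_decomp hr
    have hdeg : charDegree χ = ∑ ψ : IrrCharacter K, m ψ * charDegree (ψ : K → ℂ) := by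
      refine Nat.cast_injective (R := ℂ) ?_
      have h1 := congrFun hm 1
      rw [OneMemClass.coe_one, hd1, Finset.sum_apply] at h1
      rw [h1, Nat.cast_sum]
      exact Finset.sum_congr rfl fun ψ _ => by rw [Pi.smul_apply, smul_eq_mul, Nat.cast_mul, Cfsg.Agent.Lib.Blocks.charDegree_eq]
    have heq : χ ((u * g * u⁻¹ * g⁻¹ : K) : G) = χ 1 := by
      have h1 := congrFun hm (u * g * u⁻¹ * g⁻¹)
      have h2 := congrFun hm 1
      rw [OneMemClass.coe_one] at h2
      rw [h1, h2, Finset.sum_apply, Finset.sum_apply]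
      refine Finset.sum_congr rfl fun ψ _ => ?_
      rw [Pi.smul_apply, Pi.smul_apply]
      by_cases hmψ : m ψ = 0
      · simp [hmψ]
      have hle : charDegree (ψ : K → ℂ) ≤ charDegree χ := by
        rw [hdeg]
        exact (Nat.le_mul_of_pos_left _ (Nat.pos_of_ne_zero hmψ)).trans
          (Finset.single_le_sum (f := fun ψ : IrrCharacter K => m ψ * charDegree (ψ : K → ℂ))
            (fun _ _ => Nat.zero_le _) (Finset.mem_univ ψ))
      rw [S.comm_eq_of_small hM hgen ψ (by omega) g]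
    exact Subtype.ext (hfaith _ heq)
  -- hence `P` is normal
  refine hnn P₀ ⟨fun x hx g => ?_⟩ hP₀c
  have hgK : g * x * g⁻¹ ∈ K := Subgroup.normalClosure_normal.conj_mem x (hP₀K hx) g
  have hxp : x ^ p = 1 := by
    rw [← orderOf_dvd_iff_pow_eq_one, ← hP₀c]
    exact Subgroup.orderOf_dvd_natCard _ hx
  obtain ⟨c, y, hy, hcy⟩ := hconj ⟨g * x * g⁻¹, hgK⟩ (Subtype.ext (by
    show (g * x * g⁻¹) ^ p = 1
    rw [conj_pow, hxp, mul_one, mul_inv_cancel]))
  obtain ⟨i, rfl⟩ := hgenP y hy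
  have hcomm : Commute u c := by
    have h1 := hcent c
    rw [mul_inv_eq_one, mul_inv_eq_iff_eq_mul] at h1
    exact h1
  have hfix : c * u ^ i * c⁻¹ = u ^ i := by
    rw [← (hcomm.pow_left i).eq, mul_inv_cancel_right]
  rw [hfix] at hcy
  have h3 : ((u ^ i : K) : G) ∈ P₀ := Subgroup.mem_subgroupOf.1 hy
  rw [← hcy] at h3
  exact h3

end Cfsg.Agent.S4503
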