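import Cfsg.Statements.S0402
import Cfsg.Agent.Lib.Leech.CrossSub
import Cfsg.Agent.Lib.M24Geom.Pattern
-- import your own Cfsg.Agent.* helpers here

set_option autoImplicit false
open Cfsg

namespace Cfsg.Agent.S0402

open Cfsg.Agent.Lib.Compute Cfsg.Agent.Lib.Leech Equiv
open scoped Pointwise

/-- A minimal vector with no zero coordinate. -/
def oddFour : List ℤ :=
  [1, 1, 1, 1, 1, 1, 1, 1, 1, 1, 1, 1, 1, 1, 1, 1, 1, 1, 1, 1, 1, 1, 1, -3]

theorem four_facts : sqNorm (vecOf oddFour) = 32 ∧ sqNorm (vecOf baseFour) = 32 ∧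
    (∀ i : Fin 24, i ≠ 23 → oddFour.getD i 0 = 1) ∧ oddFour.getD 23 0 = -3 ∧
    (∀ i : Fin 24, i ≠ 0 → i ≠ 1 → baseFour.getD i 0 = 0) ∧ baseFour.getD 0 0 = 4 ∧ baseFour.getD 1 0 = -4 ∧
    Cfsg.Agent.Lib.SelfCentral.sylowOrdersOk 23 [(3, 6), (5, 3), (7, 1), (11, 1)] = true ∧
    (List.range 18).all (fun i => Nat.beq i 10 || !(2 ^ (i + 1) % 23 == 1)) = true := by
  decide +kernel

theorem avoid_facts : (codeList.countP fun m => !m.testBit 0 && !m.testBit 1) = 1024 ∧
    (∀ i q : Fin 24, i ≠ 0 → i ≠ 1 → q ≠ i → codeList.any (fun m => !m.testBit 0 && !m.testBit 1 &&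
      (m.testBit i != m.testBit q)) = true) ∧
    Cfsg.Agent.Lib.M24Geom.patternCount 24 ((List.range 22).map fun i => (i + 2, i + 2)) [] m24Cert id = 1 := by
  decide +kernel

theorem oddFour_mem : vecOf oddFour ∈ leechLattice :=
  lattice_of_form (p := 1) (m := 0) (by norm_num) (mem_codeList_of_inCode (by decide +kernel))
    (by decide +kernel) (by decide +kernel)

/-- The two distinguished points. -/
abbrev pA : GolayPt := enc.symm 0

/-- The two distinguished points. -/
abbrev pB : GolayPt := enc.symm 1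

/-- The supports avoiding both points. -/
abbrev AvoidSet : Type :=
  {c : Finset GolayPt // c ∈ supports (golayCode : Set (GolayPt → ZMod 2)) ∧ pA ∉ c ∧ pB ∉ c}

theorem card_avoid : Nat.card AvoidSet = 1024 := by
  have h := Cfsg.Agent.Lib.GolayOrbit.ncard_mask_image (nodup_of_incr codeList_incr)
    (fun m hm => lt_of_mem_codeList hm) (fun c => pA ∉ c ∧ pB ∉ c)
    (fun m => !m.testBit 0 && !m.testBit 1) (fun m _ => by simp [mem_setOf24, pA, pB])
  rw [avoid_facts.1] at h
  rw [← h, ← Nat.card_coe_set_eq]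
  refine Nat.card_congr (Equiv.subtypeEquivRight fun c => ?_)
  rw [supports_golayCode]
  exact Iff.rfl

/-- The base vector of the monomial model. -/
noncomputable abbrev vF : ↥leechLattice := ⟨vecOf baseFour, baseFour_mem⟩

theorem vF_val (q : GolayPt) :
    (vF : GolayPt → ℤ) q = if q = pA then 4 else if q = pB then -4 else 0 := by
  obtain ⟨i, rfl⟩ := enc.symm.surjective q
  show baseFour.getD (enc (enc.symm i) : Fin 24) 0 = _
  rw [Equiv.apply_symm_apply]
  obtain ⟨-, -, -, -, h0, ha, hb, -⟩ := four_facts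
  by_cases e0 : i = 0
  · subst e0; rw [if_pos rfl]; exact ha
  rw [if_neg (fun e => e0 (enc.symm.injective e))]
  by_cases e1 : i = 1
  · subst e1; rw [if_pos rfl]; exact hb
  rw [if_neg (fun e => e1 (enc.symm.injective e))]
  exact h0 i e0 e1

/-- A monomial element fixing `vF` and `8` at the first point. -/
theorem frame_fix_data {π : ↥M24} {c : Finset GolayPt} {g : ↥Co0}
    (happ : ∀ v : ↥leechLattice, ((g • v : ↥leechLattice) : GolayPt → ℤ) = signedPerm (π : Perm GolayPt) c (v : GolayPt → ℤ))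
    (hv : g • vF = vF) (hπ : (π : Perm GolayPt) pA = pA) (hab : (π : Perm GolayPt) pB ≠ pA) :
    (π : Perm GolayPt) pB = pB ∧ pA ∉ c ∧ pB ∉ c := by
  have key : ∀ q, (vF : GolayPt → ℤ) ((π : Perm GolayPt) q) =
      if (π : Perm GolayPt) q ∈ c then -(vF : GolayPt → ℤ) q else (vF : GolayPt → ℤ) q := fun q => by
    conv_lhs => rw [← hv]
    rw [happ]
    simp [signedPerm]
  have ha := key pA
  have hb := key pB
  have hne : pB ≠ pA := fun e => by simpa using enc.symm.injective e
  rw [hπ, vF_val pA, if_pos rfl] at ha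
  rw [vF_val, vF_val pB, if_neg hab, if_neg hne, if_pos rfl] at hb
  have hbb : (π : Perm GolayPt) pB = pB := by
    by_contra h
    rw [if_neg h] at hb
    split_ifs at hb <;> omega
  rw [hbb, if_pos rfl] at hb
  refine ⟨hbb, fun h => ?_, fun h => ?_⟩
  · rw [if_pos h] at ha; omega
  · rw [if_pos h] at hb; omega

/-- The stabiliser of a minimal vector of shape `4^2`. -/
noncomputable abbrev GF : Subgroup ↥Co0 := MulAction.stabilizer ↥Co0 vF

/-- Its monomial part fixing a frame vector. -/
noncomputable abbrev HF : Subgroup ↥GF := (MulAction.stabilizer ↥Co0 (eightAt pA)).subgroupOf GF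

theorem HF_le (h : ↥HF) : (((h : ↥GF) : ↥Co0)) ∈ crossGrp := by
  obtain ⟨π, hπ, c, -, happ⟩ := exists_frame_of_eight ((h : ↥GF) : ↥Co0) pA ⟨pA, Or.inl h.2⟩
  exact mem_crossGrp.2 fun i => ⟨π i, if π i ∈ c then -8 else 8, by split_ifs <;> omega,
    (happ _).trans (signedPerm_single π c i 8)⟩

/-- The permutation part. -/
noncomputable def permPart : ↥HF →* ↥M24 :=
  crossHom.comp (MonoidHom.mk' (fun h : ↥HF => (⟨_, HF_le h⟩ : ↥crossGrp)) fun _ _ => rfl)

theorem permPart_spec (h : ↥HF) : ∃ c ∈ supports (golayCode : Set (GolayPt → ZMod 2)), pA ∉ c ∧ pB ∉ c ∧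
    (permPart h : Perm GolayPt) pA = pA ∧ (permPart h : Perm GolayPt) pB = pB ∧
    ∀ v : ↥leechLattice, ((((h : ↥GF) : ↥Co0) • v : ↥leechLattice) : GolayPt → ℤ)
      = signedPerm (permPart h : Perm GolayPt) c (v : GolayPt → ℤ) := by
  obtain ⟨c, hc, happ⟩ := crossPerm_spec ⟨_, HF_le h⟩
  have ha : (crossPerm ⟨_, HF_le h⟩ : Perm GolayPt) pA = pA := crossPerm_eq ⟨_, HF_le h⟩ pA pA (by
    show ((((h : ↥GF) : ↥Co0) • eightAt pA : ↥leechLattice) : GolayPt → ℤ) pA ≠ 0
    rw [show ((h : ↥GF) : ↥Co0) • eightAt pA = eightAt pA from h.2]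
    simp [eightAt])
  have hne : (crossPerm ⟨_, HF_le h⟩ : Perm GolayPt) pB ≠ pA := fun e => by
    rw [← ha] at e
    simpa using enc.symm.injective (Equiv.injective _ e)
  obtain ⟨hb, hca, hcb⟩ := frame_fix_data happ (h : ↥GF).2 ha hne
  exact ⟨c, hc, hca, hcb, ha, hb, happ⟩

theorem range_permPart :
    permPart.range = MulAction.stabilizer ↥M24 pA ⊓ MulAction.stabilizer ↥M24 pB := by
  refine le_antisymm ?_ fun π hπ => ?_
  · rintro _ ⟨h, rfl⟩
    obtain ⟨c, -, -, -, ha, hb, -⟩ := permPart_spec h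
    exact ⟨ha, hb⟩
  · obtain ⟨ha, hb⟩ := hπ
    have hg : permHom π ∈ GF := by
      refine Subtype.ext (funext fun q => ?_)
      rw [permHom_apply, vF_val, vF_val]
      simp only [Equiv.symm_apply_eq, show (π : Perm GolayPt) pA = pA from ha,
        show (π : Perm GolayPt) pB = pB from hb]
    have hh : (⟨permHom π, hg⟩ : ↥GF) ∈ HF := by
      show permHom π • eightAt pA = eightAt pA
      rw [permHom_eightAt, show (π : Perm GolayPt) pA = pA from ha]
    refine ⟨⟨_, hh⟩, Subtype.ext (Equiv.ext fun i => crossPerm_eq ⟨_, HF_le ⟨_, hh⟩⟩ i _ ?_)⟩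
    show ((permHom π • eightAt i : ↥leechLattice) : GolayPt → ℤ) _ ≠ 0
    rw [permHom_eightAt]
    simp [eightAt]

theorem card_ker_permPart : Nat.card permPart.ker = 2 ^ 10 := by
  rw [show (2 : ℕ) ^ 10 = 1024 from rfl, ← card_avoid]
  symm
  have hmk : ∀ c : AvoidSet, ∃ h : ↥permPart.ker, ∀ v : ↥leechLattice,
      (((((h : ↥HF) : ↥GF) : ↥Co0) • v : ↥leechLattice) : GolayPt → ℤ) = signedPerm 1 c.1 (v : GolayPt → ℤ) := by
    rintro ⟨c, hc, hca, hcb⟩
    obtain ⟨s, hs⟩ := exists_mono 1 (one_mem _) c hc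
    have hg : s ∈ GF := by
      refine Subtype.ext (funext fun q => ?_)
      rw [hs]
      simp only [signedPerm, Equiv.Perm.one_symm, Equiv.Perm.coe_one, id_eq]
      by_cases hq : q ∈ c
      · rw [if_pos hq]
        show -(vF : GolayPt → ℤ) q = (vF : GolayPt → ℤ) q
        rw [vF_val, if_neg (fun e : q = pA => hca (e ▸ hq)), if_neg (fun e : q = pB => hcb (e ▸ hq))]
        rfl
      · rw [if_neg hq]
    have hh : (⟨s, hg⟩ : ↥GF) ∈ HF := by
      refine Subtype.ext ?_
      show ((s • eightAt pA : ↥leechLattice) : GolayPt → ℤ) = _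
      rw [hs]
      show signedPerm 1 c (Pi.single pA 8) = _
      rw [signedPerm_single, if_neg (by simpa using hca)]
      rfl
    refine ⟨⟨⟨_, hh⟩, Subtype.ext (Equiv.ext fun i => crossPerm_eq ⟨_, HF_le ⟨_, hh⟩⟩ i _ ?_)⟩, hs⟩
    show ((s • eightAt i : ↥leechLattice) : GolayPt → ℤ) i ≠ 0
    rw [hs, show ((eightAt i : ↥leechLattice) : GolayPt → ℤ) = Pi.single i 8 from rfl, signedPerm_single,
      Equiv.Perm.one_apply, Pi.single_eq_same]
    split_ifs <;> norm_num
  choose mkS hmkS using hmk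
  refine Nat.card_eq_of_bijective mkS ⟨fun a b e => Subtype.ext ?_, fun h => ?_⟩
  · exact (signedPerm_inj (π := 1) (π' := 1) fun i => by
      have h1 := hmkS a (eightAt i)
      rw [e, hmkS b (eightAt i)] at h1
      exact h1.symm).2
  · obtain ⟨c, hc, hca, hcb, -, -, happ⟩ := permPart_spec h.1
    rw [show permPart h.1 = 1 from h.2] at happ
    refine ⟨⟨c, hc, hca, hcb⟩, Subtype.ext (Subtype.ext (Subtype.ext (co0_ext fun v => ?_)))⟩
    exact (hmkS _ v).trans (happ v).symm

theorem no_normal_two (K : Subgroup ↥GF) (hKn : K.Normal) (hK : Nat.card K = 2 ^ 11)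
    (hcomm : ∀ a ∈ K, ∀ b ∈ K, a * b = b * a) (hcard : Nat.card GF = 42305421312000) : False := by
  haveI := finite_co0
  haveI := hKn
  obtain ⟨e⟩ := stabilizer_two_equiv (p := pA) (q := pB) (by decide)
  haveI := isSimpleGroup_cert2
  haveI : IsSimpleGroup ↥permPart.range :=
    ((MulEquiv.subgroupCongr range_permPart).trans e.symm).isSimpleGroup
  have hcr : Nat.card permPart.range = 443520 := by
    rw [range_permPart, ← Nat.card_congr e.toEquiv, card_cert2]
  have hH : Nat.card HF = 1024 * 443520 := by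
    rw [← Subgroup.card_mul_index permPart.ker, Subgroup.index_ker, card_ker_permPart, hcr]
    norm_num
  have hidx : K.index = 20656944000 := by
    have h := K.card_mul_index
    rw [hK, hcard] at h
    norm_num at h
    omega
  have heq := ker_le_of_two_group K HF permPart hK (by rw [hcr]; norm_num) card_ker_permPart
    (fun j hj => by
      by_contra hlt
      rw [hH, hidx] at hj
      interval_cases j <;> norm_num at hj)
  have hle : K ≤ HF := by
    intro k hk
    have hcom : ∀ i : Fin 24, i ≠ 0 → i ≠ 1 → ∀ q, q ≠ enc.symm i →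
        (((k : ↥Co0) • eightAt (enc.symm i) : ↥leechLattice) : GolayPt → ℤ) q = 0 := by
      intro i hi0 hi1 q hq
      obtain ⟨m, hm, hmm⟩ := List.any_eq_true.1 (avoid_facts.2.1 i (enc q) hi0 hi1
        fun e => hq (by rw [← e, Equiv.symm_apply_apply]))
      simp only [Bool.and_eq_true, Bool.not_eq_true', bne_iff_ne] at hmm
      obtain ⟨s, hs⟩ := exists_diag (c := setOf24 m) (by rw [supports_golayCode]; exact ⟨m, hm, rfl⟩)
      have hca : pA ∉ setOf24 m := by simp [mem_setOf24, pA, hmm.1.1]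
      have hcb : pB ∉ setOf24 m := by simp [mem_setOf24, pB, hmm.1.2]
      have hg : s ∈ GF := by
        refine Subtype.ext (funext fun p => ?_)
        rw [hs]
        by_cases hp : p ∈ setOf24 m
        · rw [if_pos hp]
          show -(vF : GolayPt → ℤ) p = (vF : GolayPt → ℤ) p
          rw [vF_val, if_neg (fun e : p = pA => hca (e ▸ hp)), if_neg (fun e : p = pB => hcb (e ▸ hp))]
          rfl
        · rw [if_neg hp]
      have hh : (⟨s, hg⟩ : ↥GF) ∈ HF := by
        refine Subtype.ext (funext fun p => ?_)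
        show ((s • eightAt pA : ↥leechLattice) : GolayPt → ℤ) p = _
        rw [hs]
        by_cases hp : p ∈ setOf24 m
        · rw [if_pos hp]
          simp [eightAt, Pi.single_eq_of_ne (fun e : p = pA => hca (e ▸ hp))]
        · rw [if_neg hp]
      obtain ⟨hsc, hs1⟩ := diag_mem_crossGrp hs
      have hsK : (⟨s, hg⟩ : ↥GF) ∈ K := by
        have : (⟨_, hh⟩ : ↥HF) ∈ K.subgroupOf HF := heq ▸ (show permPart ⟨_, hh⟩ = 1 from hs1)
        exact this
      have hc := congrArg (fun g : ↥GF => ((g : ↥Co0) • eightAt (enc.symm i) : ↥leechLattice))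
        (hcomm _ hsK k hk)
      simp only [Subgroup.coe_mul, mul_smul] at hc
      by_cases hiq : m.testBit i = true
      · have e1 : s • eightAt (enc.symm i) = -eightAt (enc.symm i) := Subtype.ext (funext fun p => by
          rw [hs, AddSubgroup.coe_neg, Pi.neg_apply]
          by_cases hp : p = enc.symm i
          · subst hp; rw [if_pos (by simp [mem_setOf24, hiq])]
          · simp [eightAt, Pi.single_eq_of_ne hp])
        rw [e1, co0_neg] at hc
        have h5 := congrFun (congrArg Subtype.val hc) q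
        rw [hs, if_neg (fun h => hmm.2 (by rw [hiq, mem_setOf24.1 h])), AddSubgroup.coe_neg,
          Pi.neg_apply] at h5
        omega
      · have hif : m.testBit i = false := by simpa using hiq
        have e1 : s • eightAt (enc.symm i) = eightAt (enc.symm i) := Subtype.ext (funext fun p => by
          rw [hs]
          by_cases hp : p = enc.symm i
          · subst hp; rw [if_neg (by simp [mem_setOf24, hif])]
          · simp [eightAt, Pi.single_eq_of_ne hp])
        rw [e1] at hc
        have h5 := congrFun (congrArg Subtype.val hc) q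
        rw [hs, if_pos (mem_setOf24.2 (by
          cases hb : m.testBit (enc q) with
          | true => rfl
          | false => exact absurd (hif.trans hb.symm) hmm.2))] at h5
        omega
    have h2 : ∀ i : Fin 24, i ≠ 0 → i ≠ 1 → ∃ s, (s = 8 ∨ s = -8) ∧
        (((k : ↥Co0) • eightAt (enc.symm i) : ↥leechLattice) : GolayPt → ℤ) = Pi.single (enc.symm i) s :=
      fun i hi0 hi1 => single_of_support (by rw [co0_sqNorm]; exact sqNorm_eightAt _) _ fun q hq => by
        by_contra h
        exact hq (hcom i hi0 hi1 q h)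
    obtain ⟨s2, hs2, e2⟩ := h2 2 (by decide) (by decide)
    obtain ⟨π, hπ, c, -, happ⟩ := exists_frame_of_eight (k : ↥Co0) (enc.symm 2) ⟨enc.symm 2, by
      rcases hs2 with rfl | rfl
      · exact Or.inl (Subtype.ext e2)
      · exact Or.inr (Subtype.ext (e2.trans (Pi.single_neg _ _)))⟩
    have hfix : ∀ i : Fin 24, i ≠ 0 → i ≠ 1 → π (enc.symm i) = enc.symm i := by
      intro i hi0 hi1
      obtain ⟨s, hs, e⟩ := h2 i hi0 hi1
      by_contra hne
      have h3 : (Pi.single (π (enc.symm i)) (if π (enc.symm i) ∈ c then (-8 : ℤ) else 8) : GolayPt → ℤ)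
          = Pi.single (enc.symm i) s :=
        (signedPerm_single π c (enc.symm i) 8).symm.trans ((happ _).symm.trans e)
      have := congrFun h3 (enc.symm i)
      rw [Pi.single_eq_of_ne (Ne.symm hne), Pi.single_eq_same] at this
      omega
    have hπ1 : π = 1 := by
      have h1 := Cfsg.Agent.Lib.M24Geom.card_pointFits ((List.range 22).map fun i => (i + 2, i + 2)) []
      rw [avoid_facts.2.2] at h1
      obtain ⟨hsub, -⟩ := Nat.card_eq_one_iff_unique.1 h1
      have hpf : ∀ σ : Perm GolayPt, (∀ i : Fin 24, i ≠ 0 → i ≠ 1 → σ (enc.symm i) = enc.symm i) →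
          Cfsg.Agent.Lib.M24Geom.PointFits ((List.range 22).map fun i => (i + 2, i + 2)) [] σ := by
        intro σ hσ
        refine ⟨fun e he p hp => ?_, by simp⟩
        obtain ⟨n, hn, rfl⟩ := List.mem_map.1 he
        rw [List.mem_range] at hn
        have h0 := hσ (enc p) (by intro h; rw [h] at hp; simp at hp) (by intro h; rw [h] at hp; simp at hp)
        rw [Equiv.symm_apply_apply] at h0
        rw [h0]; exact hp
      have := @Subsingleton.elim _ hsub ⟨π, hπ, hpf π hfix⟩ ⟨1, one_mem _, hpf 1 (fun _ _ _ => rfl)⟩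
      exact congrArg Subtype.val this
    obtain ⟨-, hca, -⟩ := frame_fix_data (π := ⟨π, hπ⟩) happ k.2 (show π pA = pA by rw [hπ1]; rfl)
      (show π pB ≠ pA by rw [hπ1]; decide)
    refine Subtype.ext ?_
    show (((k : ↥Co0) • eightAt pA : ↥leechLattice) : GolayPt → ℤ) = _
    rw [happ, show ((eightAt pA : ↥leechLattice) : GolayPt → ℤ) = Pi.single pA 8 from rfl, signedPerm_single,
      hπ1, Equiv.Perm.one_apply, if_neg hca]
  have hcK : Nat.card ↥(K.subgroupOf HF) = Nat.card K := Nat.card_congr (Subgroup.subgroupOfEquivOfLe hle).toEquiv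
  rw [heq, card_ker_permPart, hK] at hcK
  norm_num at hcK

theorem isCo2_base : IsCo2 ↥(MulAction.stabilizer ↥Co0 (⟨vecOf oddFour, oddFour_mem⟩ : ↥leechLattice)) := by
  obtain ⟨hn1, hn2, hone, hthree, -, -, -, hsyl, htwo⟩ := four_facts
  haveI := finite_co0
  haveI : Fact (Nat.Prime 23) := ⟨by norm_num⟩
  haveI : Fact (Nat.Prime 2) := ⟨Nat.prime_two⟩
  set v : ↥leechLattice := ⟨vecOf oddFour, oddFour_mem⟩ with hvdef
  have hcard : ∀ w : ↥leechLattice, sqNorm (w : GolayPt → ℤ) = 32 →
      Nat.card (MulAction.stabilizer ↥Co0 w) = 42305421312000 := fun w hw => by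
    have h := card_stabilizer_layer (n := 32) w hw ncard_min exists_co0_min
    omega
  have hv : ∀ q, q ≠ enc.symm 23 → (v : GolayPt → ℤ) q = 1 := fun q hq =>
    hone (enc q) fun e => hq (by rw [← e, Equiv.symm_apply_apply])
  have hne : (v : GolayPt → ℤ) (enc.symm 23) ≠ 0 := by
    show oddFour.getD (enc (enc.symm 23) : Fin 24) 0 ≠ 0
    rw [Equiv.apply_symm_apply, show ((23 : Fin 24) : ℕ) = 23 from rfl, hthree]
    norm_num
  haveI := isSimpleGroup_stab_point (enc.symm 23)
  refine ⟨isSimpleGroup_of_perm _ shiftE orderOf_shiftE shiftE_comm (enc.symm 23) shiftE_fix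
    (MulAction.stabilizer ↥M24 (enc.symm 23)) shiftE_fix
    (fun π hπ => permHom_fix v hv hπ) (fun g hg h => shift_uniq hg hne h)
    (fun g hg ha => mem_map_of_fix g _ v (by norm_num : (1 : ℤ) ≠ 0) hv ha hg)
    (by rw [hcard v hn1]; norm_num) fun K hKn hK hne' hK1 => ?_, hcard v hn1⟩
  obtain ⟨i, hi, hik, hmod, hKc⟩ := Cfsg.Agent.Lib.SelfCentral.card_eq_of_sylowOrders (r := 2) (k := 18)
    (n := 42305421312000) (L := [(3, 6), (5, 3), (7, 1), (11, 1)]) (by norm_num : Nat.Prime 23)
    (fun h => hne' (Subgroup.card_eq_one.mp h)) (hcard v hn1 ▸ Subgroup.card_subgroup_dvd_card K) (by norm_num)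
    hK (by simp only [List.mem_cons, List.not_mem_nil, or_false, forall_eq_or_imp, forall_eq]; norm_num)
    (by simp) Nat.prime_two (by norm_num) (by simp) (by simp) hsyl hK1
  have hten := List.all_eq_true.1 htwo (i - 1) (List.mem_range.2 (by omega))
  rw [Nat.sub_add_cancel hi, hmod] at hten
  obtain rfl : i = 11 := by
    simp at hten
    omega
  obtain ⟨g, hg⟩ := exists_co0_min v vF hn1 hn2
  obtain ⟨e⟩ := stabilizer_equiv_of_smul g hg
  have hcomm : ∀ a ∈ K, ∀ b ∈ K, a * b = b * a := by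
    haveI := hKn
    let x : ↥(MulAction.stabilizer ↥Co0 v) := ⟨permHom shiftE, permHom_fix v hv shiftE_fix⟩
    refine Cfsg.Agent.Lib.SelfCentral.le_centralizer_of_card (x := x) (p := 23) ?_ ?_ K hKc (by norm_num)
      (by norm_num) ?_
    · rw [← orderOf_injective (MulAction.stabilizer ↥Co0 v).subtype Subtype.val_injective]
      exact (orderOf_injective permHom permHom_injective shiftE).trans orderOf_shiftE
    · intro a ha
      have hxa : permHom shiftE * (a : ↥Co0) = (a : ↥Co0) * permHom shiftE := (congrArg Subtype.val ha).symm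
      have hu : permHom shiftE • ((a : ↥Co0) • eightAt (enc.symm 23)) = (a : ↥Co0) • eightAt (enc.symm 23) := by
        rw [← mul_smul, hxa, mul_smul, permHom_eightAt, shiftE_fix]
      obtain ⟨π, -, hπ⟩ := Subgroup.mem_map.1 (mem_map_of_fix (a : ↥Co0) _ v (by norm_num : (1 : ℤ) ≠ 0) hv
        (shift_uniq a.2 hne hu) a.2)
      obtain ⟨k, hk⟩ := Subgroup.mem_zpowers_iff.1 (shiftE_comm π (permHom_injective (by
        rw [map_mul, map_mul, hπ]; exact hxa.symm)))
      exact Subgroup.mem_zpowers_iff.2 ⟨k, Subtype.ext (by rw [Subgroup.coe_zpow, ← hπ, ← hk, map_zpow])⟩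
    · intro j hj hj0
      interval_cases j <;> norm_num
  refine no_normal_two (K.map e.toMonoidHom) (hKn.map _ e.surjective) ?_ ?_ (hcard vF hn2)
  · rw [Subgroup.card_map_of_injective e.injective, hKc]
  · rintro _ ⟨a, ha, rfl⟩ _ ⟨b, hb, rfl⟩
    rw [← map_mul, ← map_mul, hcomm a ha b hb]

/-- Stabiliser of a minimal vector is simple of order 42305421312000. -/
theorem result (v : Cfsg.leechLattice) (hv : Cfsg.sqNorm (v : Cfsg.GolayPt → ℤ) = 32) : Cfsg.IsCo2 (MulAction.stabilizer Cfsg.Co0 v) := by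
  obtain ⟨g, hg⟩ := exists_co0_min (⟨vecOf oddFour, oddFour_mem⟩ : ↥leechLattice) v four_facts.1 hv
  obtain ⟨e⟩ := stabilizer_equiv_of_smul g hg
  obtain ⟨hs, hc⟩ := isCo2_base
  haveI := hs
  exact ⟨e.symm.isSimpleGroup, (Nat.card_congr e.toEquiv).symm.trans hc⟩

end Cfsg.Agent.S0402
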