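import Cfsg.Statements.S0403
import Cfsg.Agent.Lib.Leech.StabBase
-- import your own Cfsg.Agent.* helpers here

set_option autoImplicit false
open Cfsg

namespace Cfsg.Agent.S0403

open Cfsg.Agent.Lib.Compute Cfsg.Agent.Lib.Leech Equiv

theorem five_facts : listOf (vecOf baseFive) = baseFive ∧ sqNorm (vecOf baseFive) = 48 ∧
    (∀ i : Fin 24, i ≠ 23 → baseFive.getD i 0 = -1) ∧ baseFive.getD 23 0 = -5 ∧
    Cfsg.Agent.Lib.SelfCentral.sylowOrdersOk 23 [(3, 7), (5, 3), (7, 1), (11, 1)] = true ∧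
    (List.range 10).all (fun i => !(2 ^ (i + 1) % 23 == 1)) = true := by
  decide +kernel

theorem five_mem : vecOf baseFive ∈ leechLattice :=
  lattice_of_form (p := 1) (m := 16777215) (by norm_num) (mem_codeList_of_inCode (by decide +kernel))
    (by decide +kernel) (by decide +kernel)

theorem isCo3_base : IsCo3 ↥(MulAction.stabilizer ↥Co0 (⟨vecOf baseFive, five_mem⟩ : ↥leechLattice)) := by
  obtain ⟨-, hnorm, hone, hfive, hsyl, htwo⟩ := five_facts
  haveI : Fact (Nat.Prime 23) := ⟨by norm_num⟩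
  set v : ↥leechLattice := ⟨vecOf baseFive, five_mem⟩ with hvdef
  have hcard : Nat.card (MulAction.stabilizer ↥Co0 v) = 495766656000 := by
    have h := card_stabilizer_layer (n := 48) v hnorm ncard_three exists_co0_three
    omega
  have hv : ∀ q, q ≠ enc.symm 23 → (v : GolayPt → ℤ) q = -1 := fun q hq =>
    hone (enc q) fun e => hq (by rw [← e, Equiv.symm_apply_apply])
  have hne : (v : GolayPt → ℤ) (enc.symm 23) ≠ 0 := by
    show baseFive.getD (enc (enc.symm 23) : Fin 24) 0 ≠ 0
    rw [Equiv.apply_symm_apply, show ((23 : Fin 24) : ℕ) = 23 from rfl, hfive]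
    norm_num
  haveI := isSimpleGroup_stab_point (enc.symm 23)
  refine ⟨isSimpleGroup_of_perm _ shiftE orderOf_shiftE shiftE_comm (enc.symm 23) shiftE_fix
    (MulAction.stabilizer ↥M24 (enc.symm 23)) shiftE_fix
    (fun π hπ => permHom_fix v hv hπ) (fun g hg h => shift_uniq hg hne h)
    (fun g hg ha => mem_map_of_fix g _ v (by norm_num : (-1 : ℤ) ≠ 0) hv ha hg)
    (by rw [hcard]; norm_num) fun K _ hK hne' hK1 => ?_, hcard⟩
  obtain ⟨i, hi, hik, hmod, -⟩ := Cfsg.Agent.Lib.SelfCentral.card_eq_of_sylowOrders (r := 2) (k := 10)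
    (n := 495766656000) (L := [(3, 7), (5, 3), (7, 1), (11, 1)]) (by norm_num : Nat.Prime 23)
    (fun h => hne' (Subgroup.card_eq_one.mp h)) (hcard ▸ Subgroup.card_subgroup_dvd_card K) (by norm_num)
    hK (by simp only [List.mem_cons, List.not_mem_nil, or_false, forall_eq_or_imp, forall_eq]; norm_num)
    (by simp) Nat.prime_two (by norm_num) (by simp) (by simp) hsyl hK1
  have := List.all_eq_true.1 htwo (i - 1) (List.mem_range.2 (by omega))
  rw [Nat.sub_add_cancel hi, hmod] at this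
  simp at this

/-- Stabiliser of a vector of sum of squares 48 is simple of order 495766656000. -/
theorem result (v : Cfsg.leechLattice) (hv : Cfsg.sqNorm (v : Cfsg.GolayPt → ℤ) = 48) : Cfsg.IsCo3 (MulAction.stabilizer Cfsg.Co0 v) := by
  obtain ⟨g, hg⟩ := exists_co0_three (⟨vecOf baseFive, five_mem⟩ : ↥leechLattice) v five_facts.2.1 hv
  obtain ⟨e⟩ := stabilizer_equiv_of_smul g hg
  obtain ⟨hs, hc⟩ := isCo3_base
  haveI := hs
  exact ⟨e.symm.isSimpleGroup, (Nat.card_congr e.toEquiv).symm.trans hc⟩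

end Cfsg.Agent.S0403
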