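import Cfsg.Statements.S0399
import Cfsg.Agent.Lib.Leech.CrossSub
-- import your own Cfsg.Agent.* helpers here

set_option autoImplicit false
open Cfsg

namespace Cfsg.Agent.S0399

open Cfsg.Agent.Lib.Compute Cfsg.Agent.Lib.Leech Equiv
open scoped Pointwise

theorem code_facts : codeList.all (fun m => !(m == 8388607)) = true ∧
    Cfsg.Agent.Lib.SelfCentral.sylowOrdersOk 23 [(3, 9), (5, 4), (7, 2), (11, 1), (13, 1)] = true ∧
    (List.range 21).all (fun i => Nat.beq i 10 || !(2 ^ (i + 1) % 23 == 1)) = true := by
  decide +kernel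

theorem exists_neg : ∃ n : ↥Co0, n ∈ Subgroup.center ↥Co0 ∧ (∀ v : ↥leechLattice, n • v = -v) ∧
    ∀ z ∈ Subgroup.center ↥Co0, z = 1 ∨ z = n := by
  classical
  obtain ⟨n, hn⟩ := exists_mono 1 (one_mem _) Finset.univ Cfsg.Spor.univ_mem_supports_golayCode
  have hneg : ∀ v : ↥leechLattice, n • v = -v := fun v => Subtype.ext (by
    rw [hn, AddSubgroup.coe_neg]
    funext q
    simp [signedPerm, Equiv.Perm.one_symm])
  have hmem : n ∈ Subgroup.center ↥Co0 := Subgroup.mem_center_iff.mpr fun g => co0_ext fun v => by
    rw [mul_smul, mul_smul, hneg, hneg, co0_neg]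
  have hne : n ≠ 1 := fun e => by
    have := congrFun (congrArg Subtype.val (hneg (eightAt none))) none
    rw [e, one_smul, AddSubgroup.coe_neg] at this
    simp [eightAt] at this
  refine ⟨n, hmem, hneg, fun z hz => ?_⟩
  have hset : ({1, n} : Set ↥Co0) = (Subgroup.center ↥Co0 : Set ↥Co0) := by
    haveI := finite_co0
    refine Set.eq_of_subset_of_ncard_le (by
      rintro w (rfl | rfl)
      · exact one_mem _
      · exact hmem) ?_ (Set.toFinite _)
    rw [← Nat.card_coe_set_eq, SetLike.coe_sort_coe, card_center, Set.ncard_pair (Ne.symm hne)]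
  have : z ∈ ({1, n} : Set ↥Co0) := hset ▸ hz
  exact this

/-- A frame element fixing the last frame vector and normalising the translation is a permutation. -/
theorem perm_of_norm (g : ↥Co0) (j : ℤ) (he : permHom shiftE * g = g * permHom (shiftE ^ j))
    (ha : g • eightAt (enc.symm 23) = eightAt (enc.symm 23)) :
    g ∈ (MulAction.stabilizer ↥M24 (enc.symm 23 : GolayPt)).map permHom := by
  classical
  obtain ⟨π, hπ, c, hc, happ⟩ := exists_frame_of_eight g _ ⟨_, Or.inl ha⟩
  have hsingle : ∀ i, ((g • eightAt i : ↥leechLattice) : GolayPt → ℤ) =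
      Pi.single (π i) (if π i ∈ c then -8 else 8) := fun i => (happ _).trans (signedPerm_single π c i 8)
  have h23 := congrArg (fun u : ↥leechLattice => (u : GolayPt → ℤ)) ha
  simp only [hsingle] at h23
  have hπa : π (enc.symm 23) = enc.symm 23 := by
    by_contra hne
    have := congrFun h23 (enc.symm 23)
    simp [eightAt, Pi.single_eq_of_ne (Ne.symm hne)] at this
  have hac : enc.symm 23 ∉ c := fun hh => by
    rw [hπa, if_pos hh] at h23
    have := congrFun h23 (enc.symm 23)
    simp [eightAt] at this
  have hinv : ∀ q, (shiftE : Perm GolayPt) q ∈ c ↔ q ∈ c := by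
    intro q
    obtain ⟨i, rfl⟩ := π.surjective q
    have h1 := congrArg (fun u : ↥leechLattice => (u : GolayPt → ℤ))
      (congrArg (fun k : ↥Co0 => k • eightAt i) he)
    simp only [mul_smul, permHom_eightAt, hsingle] at h1
    have h2 := congrFun h1 ((shiftE : Perm GolayPt) (π i))
    rw [permHom_apply, hsingle, Equiv.symm_apply_apply, Pi.single_eq_same] at h2
    by_cases hp : (shiftE : Perm GolayPt) (π i) = π (((shiftE ^ j : ↥M24) : Perm GolayPt) i)
    · rw [← hp, Pi.single_eq_same] at h2
      by_cases h : π i ∈ c <;> by_cases h' : (shiftE : Perm GolayPt) (π i) ∈ c <;> simp_all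
    · rw [Pi.single_eq_of_ne hp] at h2
      split_ifs at h2 <;> omega
  have hc0 : ∀ q, q ∉ c := by
    intro q hq
    obtain ⟨m, hm, hmc⟩ : c ∈ setOf24 '' {m | m ∈ codeList} := by rwa [← supports_golayCode]
    have hall : ∀ i : Fin 24, i ≠ 23 → enc.symm i ∈ c := by
      obtain ⟨-, -, -, -, hch⟩ := shift_ok
      simp only [List.all_eq_true, List.mem_range, beq_iff_eq] at hch
      let u : GolayPt → ℤ := fun p => if p ∈ c then 1 else 0
      have hu : ∀ p, u (Cfsg.Agent.Lib.M24Geom.gperm shiftP p) = u p := fun p => by
        simp only [u]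
        exact if_congr (hinv p) rfl rfl
      have hcst : ∀ i : Fin 24, i ≠ 23 → u (enc.symm i) = u (enc.symm 0) := fun i hi =>
        const_chain (Cfsg.Agent.Lib.M24Geom.elemOk_spec (by norm_num) shift_ok.1).1 u hu i 0 i
          (hch i (by
            rcases Nat.lt_or_ge (i : ℕ) 23 with h | h
            · exact h
            · exact absurd (Fin.ext (show (i : ℕ) = ((23 : Fin 24) : ℕ) by
                show (i : ℕ) = 23
                omega)) hi))
      intro i hi
      have hq23 : enc q ≠ 23 := fun e => hac (by rw [← e, Equiv.symm_apply_apply]; exact hq)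
      have h1 := hcst (enc q) hq23
      have h2 := hcst i hi
      rw [← h1, Equiv.symm_apply_apply] at h2
      simp only [u, hq, if_true] at h2
      by_contra hni
      simp [hni] at h2
    have hc' : c = setOf24 8388607 := by
      ext p
      obtain ⟨i, rfl⟩ := enc.symm.surjective p
      rw [mem_setOf24, Equiv.apply_symm_apply]
      by_cases hi : i = 23
      · subst hi
        exact iff_of_false hac (by decide)
      · refine iff_of_true (hall i hi) ?_
        revert hi; revert i; decide
    have hm' : m = 8388607 := setOf24_injOn (lt_of_mem_codeList hm) (by norm_num) (hmc.trans hc')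
    have := List.all_eq_true.1 code_facts.1 m hm
    rw [hm'] at this
    simp at this
  refine Subgroup.mem_map.2 ⟨⟨π, hπ⟩, hπa, co0_ext fun v => funext fun q => ?_⟩
  rw [permHom_apply, happ]
  simp [signedPerm, hc0 q]

/-- Automorphism group of the lattice modulo its centre is simple of order 4157776806543360000. -/
theorem result : Cfsg.IsCo1 (Cfsg.Co0 ⧸ Subgroup.center Cfsg.Co0) := by
  classical
  haveI := finite_co0
  haveI : Fact (Nat.Prime 23) := ⟨by norm_num⟩
  obtain ⟨n, hnZ, hneg, hZ⟩ := exists_neg
  obtain ⟨-, hsyl, htwo⟩ := code_facts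
  let mk := QuotientGroup.mk' (Subgroup.center ↥Co0)
  have hcard : Nat.card (↥Co0 ⧸ Subgroup.center ↥Co0) = 4157776806543360000 := by
    have h := (Subgroup.center ↥Co0).card_mul_index
    rw [card_center, card_co0, Subgroup.index] at h
    omega
  have hperm : ∀ π : ↥M24, mk (permHom π) = 1 → π = 1 := by
    intro π h
    rcases hZ _ ((QuotientGroup.eq_one_iff _).1 h) with e | e
    · exact permHom_injective (e.trans (map_one _).symm)
    · exfalso
      have := congrFun (congrArg Subtype.val (congrArg (fun k : ↥Co0 => k • eightAt none) e)) none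
      rw [hneg, permHom_eightAt, AddSubgroup.coe_neg] at this
      simp [eightAt, Pi.single_apply] at this
      split_ifs at this <;> omega
  let φ : ↥M24 →* ↥Co0 ⧸ Subgroup.center ↥Co0 := mk.comp permHom
  have hφ : Function.Injective φ := (injective_iff_map_eq_one φ).2 hperm
  set x := φ shiftE with hx
  have hord : orderOf x = 23 := by rw [hx, orderOf_injective φ hφ, orderOf_shiftE]
  haveI := isSimpleGroup_stab_point (enc.symm 23)
  let Ms := MulAction.stabilizer ↥M24 (enc.symm 23 : GolayPt)
  haveI : IsSimpleGroup ↥(Ms.map φ) := (Ms.equivMapOfInjective φ hφ).symm.isSimpleGroup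
  have hnorm : ∀ q : ↥Co0 ⧸ Subgroup.center ↥Co0, q⁻¹ * x * q ∈ Subgroup.zpowers x → q ∈ Ms.map φ := by
    intro q hq
    obtain ⟨g, rfl⟩ := QuotientGroup.mk'_surjective (Subgroup.center ↥Co0) q
    obtain ⟨j, hj⟩ := Subgroup.mem_zpowers_iff.1 hq
    have hrel : g⁻¹ * permHom shiftE * g = permHom (shiftE ^ j) := by
      have hz : (permHom (shiftE ^ j))⁻¹ * (g⁻¹ * permHom shiftE * g) ∈ Subgroup.center ↥Co0 := by
        rw [← QuotientGroup.eq_one_iff]
        show mk ((permHom (shiftE ^ j))⁻¹ * (g⁻¹ * permHom shiftE * g)) = 1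
        rw [map_mul, map_inv, map_mul, map_mul, map_inv, map_zpow, map_zpow, inv_mul_eq_one]
        exact hj
      set z := (permHom (shiftE ^ j))⁻¹ * (g⁻¹ * permHom shiftE * g) with hzdef
      have e : g⁻¹ * permHom shiftE * g = permHom (shiftE ^ j) * z := by rw [hzdef]; group
      have hzc := Subgroup.mem_center_iff.1 hz (permHom (shiftE ^ j))
      have h23 : shiftE ^ 23 = 1 := by rw [← orderOf_shiftE, pow_orderOf_eq_one]
      have hL : (g⁻¹ * permHom shiftE * g) ^ 23 = 1 := by
        have := conj_pow (i := 23) (a := g⁻¹) (b := permHom shiftE)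
        rw [inv_inv] at this
        rw [this, ← map_pow, h23, map_one]; group
      rw [e, Commute.mul_pow hzc, ← map_pow, ← zpow_natCast, ← zpow_mul, mul_comm j, zpow_mul,
        zpow_natCast, h23, one_zpow, map_one, one_mul] at hL
      have hz1 : z = 1 := by
        rcases hZ z hz with h | h
        · exact h
        · have h2 : z * z = 1 := by
            rw [h]; refine co0_ext fun v => ?_
            rw [mul_smul, hneg, hneg, neg_neg, one_smul]
          calc z = (z * z) ^ 11 * z := by rw [h2, one_pow, one_mul]
            _ = z ^ 23 := by rw [← pow_two, ← pow_mul, ← pow_succ]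
            _ = 1 := hL
      rw [e, hz1, mul_one]
    have hu : permHom shiftE • (g • eightAt (enc.symm 23)) = g • eightAt (enc.symm 23) := by
      have e : permHom shiftE * g = g * permHom (shiftE ^ j) := by rw [← hrel]; group
      rw [← mul_smul, e, mul_smul, permHom_eightAt]
      congr 2
      exact Subgroup.zpow_mem (MulAction.stabilizer ↥M24 (enc.symm 23 : GolayPt)) shiftE_fix j
    have e : permHom shiftE * g = g * permHom (shiftE ^ j) := by rw [← hrel]; group
    rcases shift_fixed hu (by rw [co0_sqNorm]; exact sqNorm_eightAt _) with h | h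
    · obtain ⟨π, hπ, hg⟩ := Subgroup.mem_map.1 (perm_of_norm g j e h)
      exact Subgroup.mem_map.2 ⟨π, hπ, by rw [← hg]; rfl⟩
    · have hcn := Subgroup.mem_center_iff.1 hnZ
      have h' : (g * n) • eightAt (enc.symm 23) = eightAt (enc.symm 23) := by
        rw [mul_smul, hneg, co0_neg, h, neg_neg]
      obtain ⟨π, hπ, hg⟩ := Subgroup.mem_map.1 (perm_of_norm (g * n) j (by
        rw [← mul_assoc, e, mul_assoc, hcn, ← mul_assoc]) h')
      refine Subgroup.mem_map.2 ⟨π, hπ, ?_⟩
      show mk (permHom π) = mk g
      rw [hg, map_mul, show mk n = 1 from (QuotientGroup.eq_one_iff _).2 hnZ, mul_one]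
  haveI : Nontrivial (↥Co0 ⧸ Subgroup.center ↥Co0) :=
    Finite.one_lt_card_iff_nontrivial.1 (by rw [hcard]; norm_num)
  refine ⟨Cfsg.Agent.Lib.SelfCentral.isSimpleGroup hord (by rw [hcard]; norm_num) (Ms.map φ) hnorm
    (fun q hq => ?_) (fun K hKn hK hne hK1 => ?_), hcard⟩
  · have hqM := hnorm q (by
      rw [show q⁻¹ * x * q = q⁻¹ * (x * q) by group, ← hq, inv_mul_cancel_left]
      exact Subgroup.mem_zpowers x)
    obtain ⟨π, -, rfl⟩ := Subgroup.mem_map.1 hqM
    obtain ⟨k, hk⟩ := Subgroup.mem_zpowers_iff.1 (shiftE_comm π (hφ (by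
      rw [map_mul, map_mul]; exact hq)))
    exact Subgroup.mem_zpowers_iff.2 ⟨k, by rw [hx, ← map_zpow, hk]⟩
  · obtain ⟨i, hi, hik, hmod, hKc⟩ := Cfsg.Agent.Lib.SelfCentral.card_eq_of_sylowOrders (r := 2) (k := 21)
      (n := 4157776806543360000) (L := [(3, 9), (5, 4), (7, 2), (11, 1), (13, 1)])
      (by norm_num : Nat.Prime 23) (fun h => hne (Subgroup.card_eq_one.mp h))
      (hcard ▸ Subgroup.card_subgroup_dvd_card K) (by norm_num) hK
      (by simp only [List.mem_cons, List.not_mem_nil, or_false, forall_eq_or_imp, forall_eq]; norm_num)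
      (by simp) Nat.prime_two (by norm_num) (by simp) (by simp) hsyl hK1
    have hten := List.all_eq_true.1 htwo (i - 1) (List.mem_range.2 (by omega))
    rw [Nat.sub_add_cancel hi, hmod] at hten
    obtain rfl : i = 11 := by
      simp at hten
      omega
    let K0 : Subgroup ↥Co0 := K.comap mk
    haveI : K.Normal := hKn
    haveI : K0.Normal := Subgroup.Normal.comap hKn mk
    have hidx : K0.index = K.index :=
      Subgroup.index_comap_of_surjective K (QuotientGroup.mk'_surjective _)
    have hKidx : K.index = 2030164456320000 := by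
      have h := K.card_mul_index
      rw [hKc, hcard] at h
      norm_num at h
      omega
    have hK0 : Nat.card K0 = 2 ^ 12 := by
      have h := K0.card_mul_index
      rw [hidx, hKidx, card_co0] at h
      norm_num
      omega
    have hrange : crossHom.range = ⊤ := MonoidHom.range_eq_top.2 crossHom_surjective
    have hM24 : IsSimpleGroup ↥M24 := isSimpleGroup_M24
    haveI : IsSimpleGroup ↥crossHom.range :=
      ((MulEquiv.subgroupCongr hrange).trans Subgroup.topEquiv).isSimpleGroup
    have hcardR : Nat.card crossHom.range = 244823040 := by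
      rw [hrange, Subgroup.card_top, card_M24]
    have hkerc : Nat.card crossHom.ker = 2 ^ 12 := by
      have h := crossHom.ker.card_mul_index
      rw [Subgroup.index_ker, hcardR, card_crossGrp] at h
      exact Nat.eq_of_mul_eq_mul_right (by norm_num : 0 < 244823040) (h.trans (by norm_num))
    have heq := ker_le_of_two_group K0 crossGrp crossHom hK0 (by
        rw [hcardR]; norm_num) hkerc (fun j hj => by
      by_contra hlt
      rw [card_crossGrp, hidx, hKidx] at hj
      interval_cases j <;> norm_num at hj)
    have hsub : K0 ≤ crossGrp := by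
      have hc : Nat.card ↥(K0.subgroupOf crossGrp) = Nat.card K0 := by rw [heq, hkerc, hK0]
      intro k hk
      have h2 : K0 ⊓ crossGrp = K0 := Subgroup.eq_of_le_of_card_ge inf_le_left (by
        rw [← hc, ← Subgroup.card_map_of_injective crossGrp.subtype_injective, Subgroup.subgroupOf_map_subtype])
      exact (h2.symm ▸ hk : k ∈ K0 ⊓ crossGrp).2
    have hall : ∀ g : ↥Co0, g ∈ crossGrp := by
      intro g
      set u := g • eightAt none with hu
      obtain ⟨b, hb⟩ : ∃ b, (u : GolayPt → ℤ) b ≠ 0 := by
        by_contra hc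
        push Not at hc
        have h64 : sqNorm (u : GolayPt → ℤ) = 64 := by rw [hu, co0_sqNorm]; exact sqNorm_eightAt none
        simp [sqNorm, hc] at h64
      have hsupp : ∀ q, (u : GolayPt → ℤ) q ≠ 0 → q = b := by
        intro q hq
        by_contra hqb
        obtain ⟨m, hm, hmb⟩ := List.any_eq_true.1 (sep_all (enc q) (enc b) fun e => hqb (enc.injective e))
        simp only [Bool.and_eq_true, Bool.not_eq_true'] at hmb
        obtain ⟨s, hs⟩ := exists_diag (c := setOf24 m) (by rw [supports_golayCode]; exact ⟨m, hm, rfl⟩)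
        obtain ⟨hsc, hs1⟩ := diag_mem_crossGrp hs
        have hsK : s ∈ K0 := by
          have : (⟨s, hsc⟩ : ↥crossGrp) ∈ K0.subgroupOf crossGrp := heq ▸ hs1
          exact this
        have hconj : g⁻¹ * s * g ∈ K0 := by
          simpa using Subgroup.Normal.conj_mem (inferInstance : K0.Normal) s hsK g⁻¹
        have hcs := hsub hconj
        have h1 : crossHom ⟨_, hcs⟩ = 1 := by
          have : (⟨_, hcs⟩ : ↥crossGrp) ∈ crossHom.ker := heq ▸ hconj
          exact this
        obtain ⟨c, -, hc⟩ := crossPerm_spec ⟨_, hcs⟩
        rw [show crossPerm ⟨_, hcs⟩ = 1 from h1] at hc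
        have h2 : s • u = u ∨ s • u = -u := by
          have h3 := hc (eightAt none)
          rw [show ((eightAt none : ↥leechLattice) : GolayPt → ℤ) = Pi.single none 8 from rfl,
            signedPerm_single] at h3
          have h4 : (g⁻¹ * s * g) • eightAt none = eightAt none ∨
              (g⁻¹ * s * g) • eightAt none = -eightAt none := by
            by_cases hn' : ((1 : ↥M24) : Perm GolayPt) none ∈ c
            · right
              refine Subtype.ext ?_
              rw [h3, if_pos hn', AddSubgroup.coe_neg]
              exact Pi.single_neg _ _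
            · left
              refine Subtype.ext ?_
              rw [h3, if_neg hn']
              rfl
          rcases h4 with h | h
          · left; rw [mul_smul, mul_smul, inv_smul_eq_iff, ← hu] at h; exact h
          · right; rw [mul_smul, mul_smul, inv_smul_eq_iff, ← hu, co0_neg, ← hu] at h; exact h
        rcases h2 with h | h
        · have h5 := congrFun (congrArg Subtype.val h) q
          rw [hs, if_pos (by simpa [mem_setOf24] using hmb.1)] at h5
          exact hq (by omega)
        · have h5 := congrFun (congrArg Subtype.val h) b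
          rw [hs, if_neg (by simp [mem_setOf24, hmb.2]), AddSubgroup.coe_neg, Pi.neg_apply] at h5
          exact hb (by omega)
      obtain ⟨s, hs, e⟩ := single_of_support (by rw [hu, co0_sqNorm]; exact sqNorm_eightAt none) b hsupp
      show g • crossSet (cls (eightAt none)) = _
      rw [smul_crossSet]
      congr 1
      rcases hs with rfl | rfl
      · rw [show g • eightAt none = eightAt b from Subtype.ext e]; exact eightAt_congr b none
      · rw [show g • eightAt none = -eightAt b from Subtype.ext (by
          rw [AddSubgroup.coe_neg]; exact e.trans (Pi.single_neg _ _)), cls_neg]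
        exact eightAt_congr b none
    have h := card_crossGrp
    rw [show crossGrp = ⊤ from eq_top_iff.2 fun g _ => hall g, Subgroup.card_top, card_co0] at h
    norm_num at h

end Cfsg.Agent.S0399
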