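import Cfsg.Statements.S0370
import Cfsg.Agent.Lib.Compute.GolayFacts

set_option autoImplicit false
open Cfsg

namespace Cfsg.Agent.S0370
open Cfsg.Agent.Lib.Compute

theorem addOne_app : ∀ p : Cfsg.GolayPt,
    ((enc (Equiv.optionCongr (Equiv.addRight (1 : ZMod 23)) p) : Fin 24) : ℕ) = app 0x1700000016001500140013001200110010000f000e000d000c000b000a000900080007000600050004000300020001 (enc p) := by
  decide +kernel


/-- The permutation x ↦ x + 1 of the residues modulo 23, fixing the extra point, lies in the group of the length-24 code. -/
theorem result : Equiv.optionCongr (Equiv.addRight (1 : ZMod 23)) ∈ Cfsg.M24 := by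
  exact mem_M24_of_app (P := 0x1700000016001500140013001200110010000f000e000d000c000b000a000900080007000600050004000300020001) (by decide +kernel) addOne_app

end Cfsg.Agent.S0370
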