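import Cfsg.Statements.S0373
import Cfsg.Agent.Lib.Compute.GolayFacts

set_option autoImplicit false
open Cfsg

namespace Cfsg.Agent.S0373
open Cfsg.Agent.Lib.Compute

theorem cubeTwist_app : ∀ p : Cfsg.GolayPt,
    ((enc (Cfsg.cubeTwist p) : Fin 24) : ℕ) = app 0x17000e0014000a00160004000b000d000f00110009000800130007000c001000050001001500020003000600120000 (enc p) := by
  have h : ∀ p : Cfsg.GolayPt, ((enc (Cfsg.cubeTwistFun p) : Fin 24) : ℕ) = app 0x17000e0014000a00160004000b000d000f00110009000800130007000c001000050001001500020003000600120000 (enc p) := by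
    decide +kernel
  exact h


/-- The cube-twist permutation (squares t ↦ t^3/9, non-squares t ↦ 9t^3, extra point fixed) lies in the group of the length-24 code. -/
theorem result : Cfsg.cubeTwist ∈ Cfsg.M24 := by
  exact mem_M24_of_app (P := 0x17000e0014000a00160004000b000d000f00110009000800130007000c001000050001001500020003000600120000) (by decide +kernel) cubeTwist_app

end Cfsg.Agent.S0373
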