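import Cfsg.Statements.S0374
import Cfsg.Agent.Lib.Compute.GolayFacts
import Cfsg.Agent.S0370
import Cfsg.Agent.S0372
import Cfsg.Agent.S0373

set_option autoImplicit false
open Cfsg

namespace Cfsg.Agent.S0374
open Cfsg.Agent.Lib.Compute

theorem repr_of_app {σ : Equiv.Perm Cfsg.GolayPt} {P : ℕ}
    (h : ∀ p, ((enc (σ p) : Fin 24) : ℕ) = app P (enc p)) : Repr (toGP.symm σ) (app P) := fun i => by
  have := h (enc.symm i)
  rw [Equiv.apply_symm_apply] at this
  exact this

theorem projInv_app : ∀ p : Cfsg.GolayPt,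
    ((enc (Cfsg.projInv p) : Fin 24) : ℕ) = app 0x1000c00080006000e0004000a00030012000700150002001000050014000d001300090011000f000b00160017 (enc p) := by decide +kernel


/-- The group of the length-24 code is generated by x ↦ x+1, x ↦ -1/x and the cube-twist permutation. -/
theorem result : Subgroup.closure {Equiv.optionCongr (Equiv.addRight (1 : ZMod 23)), Cfsg.projInv, Cfsg.cubeTwist} = Cfsg.M24 := by
  apply le_antisymm
  · refine (Subgroup.closure_le _).mpr ?_
    rintro x (rfl | rfl | rfl)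
    · exact Cfsg.Agent.S0370.result
    · exact Cfsg.Agent.S0372.result
    · exact Cfsg.Agent.S0373.result
  · intro σ hσ
    have hv : ∀ b ∈ m24ThreeGensBase, Valid 24 b := by
      simp only [m24ThreeGensBase, List.forall_mem_cons]
      exact ⟨⟨_, repr_of_app Cfsg.Agent.S0370.addOne_app⟩, ⟨_, repr_of_app projInv_app⟩,
        ⟨_, repr_of_app Cfsg.Agent.S0373.cubeTwist_app⟩, fun x hx => by simp at hx⟩
    obtain ⟨ρ, rfl⟩ := toGP.surjective σ
    have hρ : ρ ∈ grp 24 m24Cert := by rw [← K24_eq]; exact hσ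
    have h1 := grp_le_closure hv (by decide +kernel : slpOk 24 m24ThreeGensBase m24ThreeGensSteps = true)
      (by decide +kernel : slpCovers m24ThreeGensBase m24ThreeGensSteps m24Cert = true) hρ
    have h2 : toGP ρ ∈ (Subgroup.closure (toPerm 24 '' {b | b ∈ m24ThreeGensBase})).map toGP.toMonoidHom :=
      ⟨ρ, h1, rfl⟩
    rw [MonoidHom.map_closure] at h2
    refine Subgroup.closure_mono ?_ h2
    rintro _ ⟨_, ⟨b, hb, rfl⟩, rfl⟩
    simp only [m24ThreeGensBase, Set.mem_ofPred_eq, List.mem_cons, List.not_mem_nil, or_false] at hb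
    rcases hb with rfl | rfl | rfl
    · exact Or.inl (toGP_toPerm_eq Cfsg.Agent.S0370.addOne_app)
    · exact Or.inr (Or.inl (toGP_toPerm_eq projInv_app))
    · exact Or.inr (Or.inr (toGP_toPerm_eq Cfsg.Agent.S0373.cubeTwist_app))

end Cfsg.Agent.S0374
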