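import Cfsg.Statements.S0295
import Cfsg.Agent.Lib.Classical.POmegaSimple

set_option autoImplicit false
open Cfsg

namespace Cfsg.Agent.S0295

/-- PΩ_{2m+1}(q) is simple for q odd and m at least 3. -/
theorem result {F : Type*} [Field F] [Fintype F] (hodd : Odd (Fintype.card F)) (m : ℕ) (hm : 3 ≤ m) : IsSimpleGroup (Cfsg.POmega F (Cfsg.quadFormOdd m F)) := by
  have h2 : (2 : F) ≠ 0 := fun h => Nat.not_even_iff_odd.mpr hodd ((Cfsg.Agent.Lib.Classical.two_eq_zero_iff_even rfl).mp h)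
  exact Cfsg.Agent.Lib.Classical.isSimpleGroup_POmega _ (Cfsg.Agent.Lib.Classical.sq_nondegenerate h2) m hm (Cfsg.Agent.Lib.Classical.oddEquiv m F) _ (Cfsg.Agent.Lib.Classical.quadFormOdd_eq_hyper m)

end Cfsg.Agent.S0295
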