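import Cfsg.Statements.S1057
import Cfsg.Agent.Lib.FusionControl.G2TwoModel
import Cfsg.Agent.Lib.FusionControl.U33Model

set_option autoImplicit false
open Cfsg

namespace Cfsg.Agent.S1057

open Cfsg.Lie Cfsg.Agent.G2TwoU33
open scoped Matrix

theorem xMat_map {E F : Type*} [Field E] [Field F] (f : E →+* F) (r : Fin chevG2.nroots) (t : E) :
    chevG2.xMat F r (f t) = (chevG2.xMat E r t).map f := by
  ext x y
  simp only [ChevalleyDatum.xMat, Matrix.of_apply, Matrix.map_apply]
  rcases y with i | s <;> rcases x with i' | u <;>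
    simp [apply_ite f, map_list_sum, List.map_map, Function.comp_def]

theorem xMat_sq : ∀ r : Fin 12, ∀ t : ZMod 2,
    chevG2.xMat (ZMod 2) r t * chevG2.xMat (ZMod 2) r t = 1 := by
  intro r t
  rcases (show ∀ x : ZMod 2, x = 0 ∨ x = 1 by decide) t with rfl | rfl
  · rw [show chevG2.xMat (ZMod 2) r 0 = 1 from xMat_zero r, one_mul]
  · rw [show chevG2.xMat (ZMod 2) r 1 = xTab r from xTab_eq r]
    exact xTab_sq r

theorem su_map {A B : Type*} [Field A] [Fintype A] [Field B] [Fintype B] {q : ℕ}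
    (hA : Fintype.card A = q ^ 2) (hB : Fintype.card B = q ^ 2) (f : A →+* B)
    (M : Matrix.SpecialLinearGroup (Fin 3) A) (hM : M ∈ Cfsg.SU 3 A q) :
    Matrix.SpecialLinearGroup.map f M ∈ Cfsg.SU 3 B q := by
  rw [Cfsg.Agent.Lib.Classical.mem_SU_iff hA] at hM
  rw [Cfsg.Agent.Lib.Classical.mem_SU_iff hB]
  have h := congrArg f.mapMatrix hM
  rw [map_mul, map_one] at h
  refine Eq.trans ?_ h
  congr 1
  ext i j
  simp [Matrix.SpecialLinearGroup.map_apply_coe, Cfsg.Agent.Lib.Classical.conjHom_apply]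

theorem su_equiv {F K : Type*} [Field F] [Fintype F] [Field K] [Fintype K] {q : ℕ}
    (hF : Fintype.card F = q ^ 2) (hK : Fintype.card K = q ^ 2) (e : F ≃+* K) :
    Nonempty (↥(Cfsg.SU 3 F q) ≃* ↥(Cfsg.SU 3 K q)) := by
  exact ⟨{
    toFun := fun M => ⟨_, su_map hF hK e.toRingHom M.1 M.2⟩
    invFun := fun M => ⟨_, su_map hK hF e.symm.toRingHom M.1 M.2⟩
    left_inv := fun M => Subtype.ext (Subtype.ext (by ext i j; simp [Matrix.SpecialLinearGroup.map_apply_coe]))
    right_inv := fun M => Subtype.ext (Subtype.ext (by ext i j; simp [Matrix.SpecialLinearGroup.map_apply_coe]))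
    map_mul' := fun M N => Subtype.ext (map_mul _ _ _) }⟩

/-- G₂(2)′ ≅ PSU₃(3). -/
theorem result {F K : Type*} [Field F] [Fintype F] [Field K] [Fintype K] (hF : Fintype.card F = 2) (hK : Fintype.card K = 9) :
    Nonempty (↥(commutator ↥(Cfsg.Lie.chevG2.group F)) ≃* Cfsg.PSU 3 K 3) := by
  haveI : Fact (Nat.Prime 2) := ⟨Nat.prime_two⟩
  haveI : CharP F 2 := charP_of_card_eq_prime hF
  let f : ZMod 2 →+* F := ZMod.castHom (dvd_refl 2) F
  have hf : Function.Bijective f :=
    (Fintype.bijective_iff_injective_and_card _).2 ⟨f.injective, by rw [ZMod.card, hF]⟩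
  let m : GL I (ZMod 2) →* GL I F := Matrix.GeneralLinearGroup.map f
  have hm : Function.Injective m := fun a b h => Units.ext (Matrix.map_injective hf.1 (congrArg Units.val h))
  have himg : (chevG2.group (ZMod 2)).map m = chevG2.group F := by
    rw [ChevalleyDatum.group, MonoidHom.map_closure, ChevalleyDatum.group]
    congr 1
    ext g
    constructor
    · rintro ⟨u, ⟨r, t, hu⟩, rfl⟩
      refine ⟨r, f t, ?_⟩
      rw [xMat_map f r t, ← hu]
      rfl
    · rintro ⟨r, t, hg⟩
      obtain ⟨t', rfl⟩ := hf.2 t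
      have hinv := xMat_sq r t'
      refine ⟨⟨_, _, hinv, hinv⟩, ⟨r, t', rfl⟩, Units.ext ?_⟩
      rw [hg, xMat_map f r t']
      rfl
  let e₀ : chevG2.group (ZMod 2) ≃* chevG2.group F :=
    (Subgroup.equivMapOfInjective _ m hm).trans (MulEquiv.subgroupCongr himg)
  have hc : (commutator (chevG2.group (ZMod 2))).map e₀.toMonoidHom = commutator (chevG2.group F) := by
    rw [commutator_def, Subgroup.map_commutator, Subgroup.map_top_of_surjective _ e₀.surjective]
    rfl
  let e₁ : commutator (chevG2.group F) ≃* commutator (chevG2.group (ZMod 2)) :=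
    ((Subgroup.equivMapOfInjective _ e₀.toMonoidHom e₀.injective).trans (MulEquiv.subgroupCongr hc)).symm
  let e₂ : commutator (chevG2.group (ZMod 2)) ≃* N :=
    (Subgroup.equivMapOfInjective _ toPerm toPerm_injective).trans (MulEquiv.subgroupCongr commutator_map)
  obtain ⟨e₃⟩ := su_iso
  have hK' : Fintype.card K = 3 ^ 2 := by rw [hK]; norm_num
  obtain ⟨e₄⟩ := su_equiv hK' card_K9
    (FiniteField.ringEquivOfCardEq (K := K) (K' := K9) (by rw [hK', card_K9]))
  have hbot : Subgroup.center ↥(Cfsg.SU 3 K 3) = ⊥ := by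
    haveI : Finite ↥(Cfsg.SU 3 K 3) := Finite.of_equiv _ (e₄.trans e₃).symm.toEquiv
    apply Subgroup.eq_bot_of_card_le
    rw [Cfsg.Agent.Lib.Classical.card_center_SU hK' (by norm_num)]
    norm_num
  exact ⟨(e₁.trans e₂).trans ((e₃.symm.trans e₄.symm).trans
    ((QuotientGroup.quotientBot.symm).trans (QuotientGroup.quotientMulEquivOfEq hbot.symm)))⟩

end Cfsg.Agent.S1057
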