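import Cfsg.Statements.S2904
import Mathlib.RingTheory.Polynomial.Cyclotomic.Eval
import Mathlib.RingTheory.Polynomial.Cyclotomic.Expand
import Mathlib.NumberTheory.Multiplicity

set_option autoImplicit false
open Cfsg

namespace Cfsg.Agent.S2904

open Polynomial

theorem primitive_part {r a m k : ℕ} [Fact r.Prime] (hm : ¬ r ∣ m)
    (h : (r : ℤ) ∣ (cyclotomic (r ^ k * m) ℤ).eval (a : ℤ)) : IsPrimitiveRoot (a : ZMod r) m := by
  haveI : NeZero (m : ZMod r) := ⟨by rwa [Ne, ZMod.natCast_eq_zero_iff]⟩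
  refine (isRoot_cyclotomic_prime_pow_mul_iff_of_charP (p := r) (k := k)).1 ?_
  rw [IsRoot, ← map_cyclotomic_int, eval_map, show (a : ZMod r) = Int.castRingHom (ZMod r) (a : ℤ) by simp,
    eval₂_at_apply]
  exact (ZMod.intCast_zmod_eq_zero_iff_dvd _ r).2 h

theorem eval_gt {n a : ℕ} (hn : 2 ≤ n) (ha : 1 < a) :
    ((a : ℤ) - 1) ^ n.totient < (cyclotomic n ℤ).eval (a : ℤ) := by
  have h := sub_one_pow_totient_lt_cyclotomic_eval (n := n) (q := (a : ℝ)) hn (by exact_mod_cast ha)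
  have e : (cyclotomic n ℝ).eval (a : ℝ) = (((cyclotomic n ℤ).eval (a : ℤ) : ℤ) : ℝ) := by
    rw [← map_cyclotomic_int, eval_map, show (a : ℝ) = Int.castRingHom ℝ (a : ℤ) by simp, eval₂_at_apply]
    simp
  rw [e] at h
  exact_mod_cast h

theorem eval_lt {n a : ℕ} (hn : 3 ≤ n) (ha : 1 < a) :
    (cyclotomic n ℤ).eval (a : ℤ) < ((a : ℤ) + 1) ^ n.totient := by
  have h := cyclotomic_eval_lt_add_one_pow_totient (n := n) (q := (a : ℝ)) hn (by exact_mod_cast ha)
  have e : (cyclotomic n ℝ).eval (a : ℝ) = (((cyclotomic n ℤ).eval (a : ℤ) : ℤ) : ℝ) := by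
    rw [← map_cyclotomic_int, eval_map, show (a : ℝ) = Int.castRingHom ℝ (a : ℤ) by simp, eval₂_at_apply]
    simp
  rw [e] at h
  exact_mod_cast h

theorem two_pow_gt (k : ℕ) : k < 2 ^ k := Nat.lt_two_pow_self

theorem zsig {a n : ℕ} (ha : 1 < a) (hn : 2 < n) (h6 : ¬ (a = 2 ∧ n = 6)) :
    ∃ r : ℕ, r.Prime ∧ r ∣ a ^ n - 1 ∧ ∀ k : ℕ, 0 < k → k < n → ¬ r ∣ a ^ k - 1 := by
  classical
  set Φ := (cyclotomic n ℤ).eval (a : ℤ) with hΦ
  have hgt := eval_gt (show 2 ≤ n by omega) ha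
  rw [← hΦ] at hgt
  have hpow1 : (1 : ℤ) ≤ ((a : ℤ) - 1) ^ n.totient := one_le_pow₀ (by omega)
  by_contra hcon
  push Not at hcon
  have hdiv : ∀ r : ℕ, r.Prime → (r : ℤ) ∣ Φ → r ∣ n := by
    intro r hr hrΦ
    by_contra hrn
    haveI : Fact r.Prime := ⟨hr⟩
    have h := primitive_part (k := 0) hrn (by rwa [pow_zero, one_mul])
    have hz : ∀ k : ℕ, r ∣ a ^ k - 1 ↔ (a : ZMod r) ^ k = 1 := fun k => by
      have h1 : 1 ≤ a ^ k := Nat.one_le_pow _ _ (by omega)
      rw [← ZMod.natCast_eq_zero_iff, Nat.cast_sub h1, Nat.cast_pow, Nat.cast_one, sub_eq_zero]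
    obtain ⟨k, hk0, hkn, hk⟩ := hcon r hr ((hz n).2 h.pow_eq_one)
    exact absurd (Nat.le_of_dvd hk0 (h.dvd_of_pow_eq_one k ((hz k).1 hk))) (by omega)
  -- the largest prime of `n` is the only prime of `Φ`
  have hΦ1 : 1 < Φ := lt_of_le_of_lt hpow1 hgt
  obtain ⟨r, hr, hrΦ⟩ : ∃ r : ℕ, r.Prime ∧ (r : ℤ) ∣ Φ := by
    obtain ⟨r, hr, hrd⟩ := Nat.exists_prime_and_dvd (show Φ.natAbs ≠ 1 by omega)
    exact ⟨r, hr, Int.natCast_dvd.2 hrd⟩
  haveI : Fact r.Prime := ⟨hr⟩
  have hsplit : ∀ s : ℕ, s.Prime → (s : ℤ) ∣ Φ → n / s ^ n.factorization s ∣ s - 1 ∧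
      IsPrimitiveRoot (a : ZMod s) (n / s ^ n.factorization s) := by
    intro s hs hsΦ
    haveI : Fact s.Prime := ⟨hs⟩
    have hm : ¬ s ∣ n / s ^ n.factorization s := Nat.not_dvd_ordCompl hs (by omega)
    have h := primitive_part (a := a) (k := n.factorization s) hm (by rwa [Nat.ordProj_mul_ordCompl_eq_self])
    refine ⟨h.eq_orderOf ▸ ZMod.orderOf_dvd_card_sub_one fun h0 => hm ?_, h⟩
    have h1 := h.pow_eq_one
    rw [h0] at h1
    rcases Nat.eq_zero_or_pos (n / s ^ n.factorization s) with hz | hz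
    · exfalso; exact hm (hz ▸ dvd_zero s)
    · rw [zero_pow hz.ne'] at h1; exact absurd h1 zero_ne_one
  have huniq : ∀ s : ℕ, s.Prime → (s : ℤ) ∣ Φ → s = r := by
    have key : ∀ s t : ℕ, s.Prime → (s : ℤ) ∣ Φ → t.Prime → (t : ℤ) ∣ Φ → s ≠ t → t < s := by
      intro s t hs hsΦ ht htΦ hne
      have h1 : t ∣ n / s ^ n.factorization s := by
        have h2 : t ∣ s ^ n.factorization s * (n / s ^ n.factorization s) := by
          rw [Nat.ordProj_mul_ordCompl_eq_self]; exact hdiv t ht htΦ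
        rcases ht.dvd_mul.1 h2 with h3 | h3
        · exact absurd ((Nat.prime_dvd_prime_iff_eq ht hs).1 (ht.dvd_of_dvd_pow h3)) hne.symm
        · exact h3
      have := Nat.le_of_dvd (by have := hs.two_le; omega) (h1.trans (hsplit s hs hsΦ).1)
      have := hs.two_le
      omega
    intro s hs hsΦ
    by_contra hne
    have h1 := key s r hs hsΦ hr hrΦ hne
    have h2 := key r s hr hrΦ hs hsΦ (Ne.symm hne)
    omega
  obtain ⟨hmr, hprim⟩ := hsplit r hr hrΦ
  set e := n.factorization r with he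
  set m := n / r ^ e with hmdef
  have hnem : r ^ e * m = n := Nat.ordProj_mul_ordCompl_eq_self n r
  have hrn := hdiv r hr hrΦ
  have he1 : 1 ≤ e := (hr.factorization_pos_of_dvd (by omega) hrn)
  have hmnd : ¬ r ∣ m := Nat.not_dvd_ordCompl hr (by omega)
  -- `r ^ 2` does not divide `Φ`
  have hsq : ¬ (r : ℤ) ^ 2 ∣ Φ := by
    intro hsq
    set d := n / r with hd
    have hdn : d * r = n := Nat.div_mul_cancel hrn
    have hdlt : d ∈ n.properDivisors := Nat.mem_properDivisors.2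
      ⟨Dvd.intro r hdn, by rw [hd]; exact Nat.div_lt_self (by omega) hr.one_lt⟩
    have hd0 : 0 < d := Nat.div_pos (Nat.le_of_dvd (by omega) hrn) hr.pos
    set x : ℤ := (a : ℤ) ^ d with hx
    have hx1 : x - 1 ≠ 0 := by
      have : (1 : ℤ) < x := one_lt_pow₀ (by exact_mod_cast ha) hd0.ne'
      omega
    have hsum : Φ ∣ ∑ i ∈ Finset.range r, x ^ i := by
      have h1 := eval_dvd (X_pow_sub_one_mul_cyclotomic_dvd_X_pow_sub_one_of_dvd ℤ hdlt) (x := (a : ℤ))
      simp only [eval_mul, eval_sub, eval_pow, eval_X, eval_one] at h1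
      rw [← hΦ, ← hdn, pow_mul, ← hx, ← geom_sum_mul x r, mul_comm _ (x - 1)] at h1
      exact (mul_dvd_mul_iff_left hx1).1 h1
    have hmd : m ∣ d := by
      have h1 : m ∣ d * r := hdn.symm ▸ Dvd.intro_left _ hnem
      exact (Nat.Coprime.dvd_of_dvd_mul_right ((hr.coprime_iff_not_dvd.2 hmnd).symm) h1)
    have hxr : (r : ℤ) ∣ x - 1 := by
      rw [← ZMod.intCast_zmod_eq_zero_iff_dvd]
      push_cast [hx]
      rw [sub_eq_zero]
      obtain ⟨c, hc⟩ := hmd
      rw [hc, pow_mul, hprim.pow_eq_one, one_pow]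
    rcases hr.eq_two_or_odd' with hr2 | hodd
    · subst hr2
      have hd2 : Even d := by
        have hm1 : m = 1 := Nat.dvd_one.1 (by simpa using hmr)
        rw [hm1, mul_one] at hnem
        have : e ≠ 1 := fun h => by rw [h] at hnem; omega
        obtain ⟨e', he2⟩ : ∃ e', e = e' + 2 := ⟨e - 2, by omega⟩
        exact ⟨2 ^ e', by rw [hd, ← hnem, he2]; simp [pow_succ]; omega⟩
      obtain ⟨c, hc⟩ := hd2
      have h4 : (4 : ℤ) ∣ 1 + x := by
        have h5 := hsq.trans hsum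
        simpa [Finset.sum_range_succ] using h5
      have hy : Odd ((a : ℤ) ^ c) := by
        have h6 : Odd x := by
          rw [Int.odd_iff]
          obtain ⟨q, hq⟩ := hxr
          push_cast at hq
          omega
        rw [hx, hc, pow_add, Int.odd_mul] at h6
        exact h6.1
      obtain ⟨q, hq⟩ := hy
      rw [hx, hc, pow_add, hq] at h4
      have h7 : (4 : ℤ) ∣ 2 := by
        obtain ⟨w, hw⟩ := h4
        exact ⟨w - q * q - q, by linear_combination hw⟩
      exact absurd h7 (by decide)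
    · obtain ⟨b, hb⟩ := hxr
      have h5 := hsq.trans hsum
      have h6 := odd_sq_dvd_geom_sum₂_sub (R := ℤ) (a := 1) (b := b) hodd
      simp only [one_pow, mul_one, show (1 : ℤ) + (r : ℤ) * b = x by linarith] at h6
      have h7 := dvd_sub h5 h6
      rw [sub_sub_cancel, pow_two] at h7
      have h8 : r * r ∣ r * 1 := by rw [mul_one]; exact_mod_cast h7
      exact hr.not_dvd_one (Nat.dvd_of_mul_dvd_mul_left hr.pos h8)
  -- hence `Φ = r`
  have hΦr : Φ = r := by
    have h1 : Φ.natAbs = r ^ Φ.natAbs.factorization r := by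
      refine Nat.eq_pow_of_factorization_eq_single (by omega) (Finsupp.ext fun s => ?_)
      rcases eq_or_ne s r with rfl | hne
      · simp
      · rw [Finsupp.single_eq_of_ne hne]
        by_contra h0
        have hs : s ∈ Φ.natAbs.primeFactors := by
          rw [← Nat.support_factorization]; exact Finsupp.mem_support_iff.2 h0
        exact hne (huniq s (Nat.prime_of_mem_primeFactors hs) (Int.natCast_dvd.2 (Nat.dvd_of_mem_primeFactors hs)))
    have h2 : Φ.natAbs.factorization r = 1 := by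
      have hlt : Φ.natAbs.factorization r < 2 := by
        by_contra h
        refine hsq ?_
        rw [← Int.natAbs_of_nonneg (show 0 ≤ Φ by omega), h1]
        exact_mod_cast pow_dvd_pow r (not_lt.1 h)
      have : Φ.natAbs.factorization r ≠ 0 := fun h => by rw [h, pow_zero] at h1; omega
      omega
    rw [h2, pow_one] at h1
    omega
  rw [hΦr] at hgt
  have hphi : r - 1 ≤ n.totient := by
    rw [← hnem, Nat.totient_mul ((hr.coprime_iff_not_dvd.2 hmnd).pow_left e), Nat.totient_prime_pow hr he1]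
    have hm0 : 1 ≤ m.totient := Nat.totient_pos.2 (Nat.pos_of_ne_zero fun h => hmnd (h ▸ dvd_zero r))
    calc r - 1 = 1 * (r - 1) * 1 := by simp
      _ ≤ r ^ (e - 1) * (r - 1) * m.totient := by gcongr; exact Nat.one_le_pow _ _ hr.pos
  rcases Nat.lt_or_ge a 3 with ha3 | ha3
  swap
  · have h1 : (2 : ℤ) ^ (r - 1) ≤ ((a : ℤ) - 1) ^ n.totient :=
      (pow_le_pow_right₀ (by norm_num) hphi).trans (pow_le_pow_left₀ (by norm_num) (by omega) _)
    have h2 : r ≤ 2 ^ (r - 1) := by have := two_pow_gt (r - 1); omega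
    have h3 : (r : ℤ) ≤ (2 : ℤ) ^ (r - 1) := by exact_mod_cast h2
    omega
  have ha2 : a = 2 := by omega
  subst ha2
  have hbig : ∀ k : ℕ, 2 ≤ k → ((2 : ℤ) ^ r - 1) ^ k.totient < (cyclotomic k ℤ).eval ((2 : ℤ) ^ r) := fun k hk => by
    have := eval_gt hk (a := 2 ^ r) (Nat.one_lt_pow hr.ne_zero one_lt_two)
    push_cast at this
    exact this
  have hrlt : (r : ℤ) + 1 ≤ (2 : ℤ) ^ r := by exact_mod_cast two_pow_gt r
  rcases Nat.lt_or_ge e 2 with he2 | he2
  swap
  · set n' := r ^ (e - 1) * m with hn'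
    have hn'r : n' * r = n := by
      rw [hn', mul_right_comm, ← pow_succ, Nat.sub_add_cancel he1, hnem]
    have h1 : r ∣ n' := Dvd.dvd.mul_right (dvd_pow_self r (by omega)) m
    have h2 := congrArg (eval (2 : ℤ)) (cyclotomic_expand_eq_cyclotomic hr h1 ℤ)
    have hn'0 : 0 < n' := Nat.pos_of_ne_zero fun h => by rw [h] at hn'r; omega
    rw [expand_eval, hn'r, show ((cyclotomic n ℤ).eval (2 : ℤ)) = (r : ℤ) from hΦr] at h2
    have h4 := hbig n' (le_trans hr.two_le (Nat.le_of_dvd hn'0 h1))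
    rw [h2] at h4
    have h5 : (2 : ℤ) ^ r - 1 ≤ ((2 : ℤ) ^ r - 1) ^ n'.totient :=
      le_self_pow₀ (by linarith [show (0 : ℤ) ≤ r from by positivity, show (1:ℤ) ≤ r by exact_mod_cast hr.pos])
        (Nat.totient_pos.2 hn'0).ne'
    omega
  have he' : e = 1 := by omega
  rw [he', pow_one] at hnem
  have h2 := congrArg (eval (2 : ℤ)) (cyclotomic_expand_eq_cyclotomic_mul hr hmnd ℤ)
  rw [expand_eval, eval_mul, show m * r = n by rw [mul_comm, hnem],
    show ((cyclotomic n ℤ).eval (2 : ℤ)) = (r : ℤ) from hΦr] at h2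
  have hrm : m ≠ 0 := fun h => hmnd (h ▸ dvd_zero r)
  rcases Nat.lt_or_ge m 3 with hm3 | hm3
  · interval_cases m
    · simp at hrm
    · simp at h2
      have h7 : r + 1 < 2 ^ r := Nat.le_induction (by norm_num)
        (fun k hk ih => by rw [pow_succ]; omega) r hr.two_le
      have h8 : (r : ℤ) + 1 < (2 : ℤ) ^ r := by exact_mod_cast h7
      omega
    · simp at h2
      have h3 : r = 3 := by
        by_contra hne
        have hr4 : 5 ≤ r := by
          have h4 : r ≠ 2 := fun h => by rw [h] at hmnd; exact hmnd dvd_rfl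
          have h5 : r ≠ 4 := fun h => by rw [h] at hr; exact absurd hr (by decide)
          have := hr.two_le
          omega
        have h7 : 3 * r < 2 ^ r := Nat.le_induction (by norm_num)
          (fun k hk ih => by rw [pow_succ]; omega) r hr4
        have h8 : (3 : ℤ) * r < (2 : ℤ) ^ r := by exact_mod_cast h7
        omega
      exact h6 ⟨rfl, by omega⟩
  · have h3 := hbig m (by omega)
    have h4 := eval_lt hm3 (a := 2) one_lt_two
    rw [h2] at h3
    have h5 : 2 < m.totient ∨ m.totient ≤ 2 := by omega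
    have hr5 : 5 ≤ r := by
      have := Nat.le_of_dvd (by have := hr.two_le; omega) hmr
      have h4 : r ≠ 4 := fun h => by rw [h] at hr; exact absurd hr (by decide)
      omega
    have h7 : 3 * r + 1 < 2 ^ r := Nat.le_induction (by norm_num)
      (fun k hk ih => by rw [pow_succ]; omega) r hr5
    have h8 : (3 : ℤ) * r + 1 < (2 : ℤ) ^ r := by exact_mod_cast h7
    have ht : m.totient ≠ 0 := (Nat.totient_pos.2 (by omega)).ne'
    have h9 : ((3 : ℤ) * r) ^ m.totient ≤ ((2 : ℤ) ^ r - 1) ^ m.totient :=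
      pow_le_pow_left₀ (by positivity) (by omega) _
    rw [mul_pow] at h9
    push_cast at h4
    have hr0 : (0 : ℤ) < r := by exact_mod_cast hr.pos
    have h10 : (r : ℤ) ≤ (r : ℤ) ^ m.totient := le_self_pow₀ (by omega) ht
    nlinarith [mul_lt_mul_of_pos_left (show (cyclotomic m ℤ).eval (2 : ℤ) < 3 ^ m.totient by norm_num at h4; exact h4) hr0,
      mul_le_mul_of_nonneg_left h10 (show (0 : ℤ) ≤ 3 ^ m.totient by positivity)]

/-- Zsigmondy's Theorem: for natural numbers a > 1 and n > 1 there is a prime dividing aⁿ − 1 that divides aᵏ − 1 for no natural number 0 < k < n, unless a = 2 and n = 6, or n = 2 and a + 1 is a power of two. -/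
theorem result (a n : ℕ) (ha : 1 < a) (hn : 1 < n) (h6 : ¬ (a = 2 ∧ n = 6)) (h2 : ¬ (n = 2 ∧ ∃ m : ℕ, a + 1 = 2 ^ m)) : ∃ r : ℕ, r.Prime ∧ r ∣ a ^ n - 1 ∧ ∀ k : ℕ, 0 < k → k < n → ¬ r ∣ a ^ k - 1 := by
  rcases Nat.lt_or_ge 2 n with h | h
  · exact zsig ha h h6
  · have hn2 : n = 2 := by omega
    subst hn2
    have h1 : ∃ r : ℕ, r.Prime ∧ r ≠ 2 ∧ r ∣ a + 1 := by
      by_contra hcon
      push Not at hcon
      refine h2 ⟨rfl, (a + 1).factorization 2, ?_⟩
      refine Nat.eq_pow_of_factorization_eq_single (by omega) (Finsupp.ext fun s => ?_)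
      rcases eq_or_ne s 2 with rfl | hne
      · simp
      · rw [Finsupp.single_eq_of_ne hne]
        by_contra h0
        have hs : s ∈ (a + 1).primeFactors := by
          rw [← Nat.support_factorization]; exact Finsupp.mem_support_iff.2 h0
        exact hcon s (Nat.prime_of_mem_primeFactors hs) hne (Nat.dvd_of_mem_primeFactors hs)
    obtain ⟨r, hr, hr2, hrd⟩ := h1
    refine ⟨r, hr, ?_, fun k hk0 hk2 hd => ?_⟩
    · have : a ^ 2 - 1 = (a + 1) * (a - 1) := by rw [← Nat.sq_sub_sq, one_pow]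
      rw [this]; exact Dvd.dvd.mul_right hrd _
    · have : k = 1 := by omega
      subst this
      rw [pow_one] at hd
      have h3 : r ∣ a + 1 - (a - 1) := Nat.dvd_sub hrd hd
      rw [show a + 1 - (a - 1) = 2 by omega] at h3
      exact hr2 ((Nat.prime_dvd_prime_iff_eq hr Nat.prime_two).1 h3)

end Cfsg.Agent.S2904
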