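import Cfsg.Statements.S2947
import Cfsg.Agent.Lib.LocalEven2.Thompson
import Cfsg.Agent.Lib.LocalEven2.Embedded

set_option autoImplicit false
open Cfsg

namespace Cfsg.Agent.S2947

/-- Let G be a finite group of characteristic 2 type in which every 2-local subgroup is solvable and the centralizer of Ω₁(Z(S)) lies in N_G(S) for every Sylow 2-subgroup S; suppose O₂(G) = 1, fix a Sylow 2-subgroup S and a 2-local subgroup M containing N_G(J(S)) (J the Thompson subgroup generated by the elementary abelian 2-subgroups of largest order). Then M is strongly embedded in G (a proper subgroup of even order whose intersection with each conjugate by an element outside M has odd order) if and only if no nontrivial 2-subgroup of M lies in a 2-local subgroup of G not contained in M. -/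
theorem result {G : Type*} [Group G] [Finite G] (hL : Cfsg.IsCharacteristicTwoType G) (hN : ∀ N : Subgroup G, Cfsg.IsTwoLocal N → Group.IsSolvable ↥N)
    (hZ : ∀ S : Sylow 2 G, Subgroup.centralizer (Cfsg.omegaCenterOf (S : Subgroup G) : Set G) ≤ Subgroup.normalizer ((S : Subgroup G) : Set G)) (hO : Cfsg.pCore 2 G = ⊥) (S : Sylow 2 G) (M : Subgroup G) (hM : Cfsg.IsTwoLocal M)
    (hMJ : Subgroup.normalizer (Cfsg.thompsonSubgroupOf 2 (S : Subgroup G) : Set G) ≤ M) :
    Cfsg.IsStronglyEmbedded M ↔ Cfsg.straddlingTwoSubgroups M = ∅ := by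
  obtain ⟨Q₀, hQ₀, hQ₀1, hMQ⟩ := hM
  haveI : Fact (Nat.Prime 2) := ⟨Nat.prime_two⟩
  have hSM : (S : Subgroup G) ≤ M :=
    (Subgroup.le_normalizer.trans (Lib.LocalEven2.normalizer_le_normalizer_thompson 2 _)).trans hMJ
  have hQ₀M : Q₀ ≤ M := hMQ ▸ Subgroup.le_normalizer
  constructor
  · rintro ⟨-, -, hodd⟩
    have hH : Lib.LocalEven2.MeetsOddly 2 M := fun g hg => by
      have := hodd g hg
      rwa [Nat.odd_iff, ← Nat.two_dvd_ne_zero] at this
    rw [Set.eq_empty_iff_forall_notMem]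
    rintro T ⟨hT, hT1, hTM, L, ⟨Q, hQ, hQ1, rfl⟩, hTL, hLM⟩
    apply hLM
    refine hH.normalizer_le hQ hQ1 ?_
    -- a 2-group `P` with `P ∩ M ≠ 1` lies in `M`
    set P := Q ⊔ T with hP
    have hPp : IsPGroup 2 ↥P := IsPGroup.to_sup_of_normal_left' hQ hT hTL
    rcases eq_or_lt_of_le (inf_le_left : P ⊓ M ≤ P) with h | h
    · exact le_sup_left.trans (h ▸ inf_le_right)
    obtain ⟨w, hwP, hwM, hwn⟩ := Lib.LocalEven2.exists_normalizer_not_mem hPp h
    refine absurd ⟨hwP, ?_⟩ hwM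
    refine hH.normalizer_le hPp.to_inf_left (fun hbot => hT1 ?_) inf_le_right hwn
    exact le_bot_iff.mp (hbot ▸ le_inf le_sup_right hTM)
  · intro hempty
    have hN : ∀ T : Subgroup G, IsPGroup 2 ↥T → T ≠ ⊥ → T ≤ M →
        Subgroup.normalizer (T : Set G) ≤ M := by
      intro T hT hT1 hTM
      by_contra hc
      have hmem : T ∈ Cfsg.straddlingTwoSubgroups M :=
        ⟨hT, hT1, hTM, _, ⟨T, hT, hT1, rfl⟩, Subgroup.le_normalizer, hc⟩
      rw [hempty] at hmem
      exact hmem
    have h2M : 2 ∣ Nat.card M :=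
      (Lib.LocalEven2.dvd_card_of_pgroup_ne_bot hQ₀ hQ₀1).trans (Subgroup.card_dvd_of_le hQ₀M)
    refine ⟨fun htop => hQ₀1 ?_, even_iff_two_dvd.mpr h2M, fun g hg => ?_⟩
    · have hn : Q₀.Normal := Subgroup.normalizer_eq_top_iff.mp (hMQ ▸ htop)
      exact le_bot_iff.mp (hO ▸ Lib.LocalEven2.le_pCore hn hQ₀)
    rw [Nat.odd_iff, ← Nat.two_dvd_ne_zero]
    intro h2
    apply hg
    set I := M ⊓ M.map (MulAut.conj g).toMonoidHom with hI
    set R₀ : Sylow 2 ↥I := default
    set R := (R₀ : Subgroup ↥I).map I.subtype with hR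
    have hR1 : R ≠ ⊥ := by
      rw [Ne, hR, Subgroup.map_eq_bot_iff_of_injective _ I.subtype_injective]
      exact R₀.ne_bot_of_dvd_card h2
    have hRI : R ≤ I := Subgroup.map_subtype_le _
    obtain ⟨P, hRP⟩ := (R₀.2.map I.subtype).exists_le_sylow
    have hNR : Subgroup.normalizer (R : Set G) ≤ I := by
      refine le_inf (hN R (R₀.2.map _) hR1 (hRI.trans inf_le_left)) fun n hn => ?_
      have hR'M : R.map (MulAut.conj g⁻¹).toMonoidHom ≤ M := by
        intro z hz
        rw [Lib.LocalEven2.mem_map_conj] at hz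
        have h3 := (hRI hz).2
        replace h3 := Lib.LocalEven2.mem_map_conj.mp h3
        simpa [mul_assoc] using h3
      have hR'1 : R.map (MulAut.conj g⁻¹).toMonoidHom ≠ ⊥ := by
        rw [Ne, Subgroup.map_eq_bot_iff_of_injective _ (MulAut.conj g⁻¹).injective]; exact hR1
      rw [Lib.LocalEven2.mem_map_conj]
      refine hN _ ((R₀.2.map _).map _) hR'1 hR'M ?_
      rw [Subgroup.mem_normalizer_iff'']
      intro z
      simp only [Lib.LocalEven2.mem_map_conj]
      rw [Subgroup.mem_normalizer_iff''.mp hn (g⁻¹⁻¹ * z * g⁻¹)]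
      simp only [inv_inv, mul_inv_rev, mul_assoc, mul_inv_cancel_left, mul_inv_cancel, mul_one, ← hR]
    have hPeq : (P : Subgroup G) = R := by
      rcases eq_or_lt_of_le hRP with h | h
      · exact h.symm
      obtain ⟨w, hwP, hwR, hwn⟩ := Lib.LocalEven2.exists_normalizer_not_mem P.2 h
      exfalso
      apply hwR
      have h1 : ((P : Subgroup G) ⊓ I).subgroupOf I = (R₀ : Subgroup ↥I) :=
        R₀.3 P.2.to_inf_left.comap_subtype fun y hy => ⟨hRP ⟨y, hy, rfl⟩, y.2⟩
      exact ⟨⟨w, hNR hwn⟩, h1 ▸ (show w ∈ (P : Subgroup G) ⊓ I from ⟨hwP, hNR hwn⟩), rfl⟩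
    have hPM : (P : Subgroup G) ≤ M := hPeq ▸ hRI.trans inf_le_left
    have hgP : ((g⁻¹ • P : Sylow 2 G) : Subgroup G) ≤ M := by
      intro z hz
      rw [Lib.LocalEven2.mem_smul_sylow, inv_inv, hPeq] at hz
      have h3 := (hRI hz).2
      replace h3 := Lib.LocalEven2.mem_map_conj.mp h3
      simpa [mul_assoc] using h3
    obtain ⟨m, hm, hle⟩ := Lib.LocalEven2.exists_conj_le P hPM (g⁻¹ • P).2 hgP
    have heq : g⁻¹ • P = m • P := (Sylow.ext ((g⁻¹ • P).3 (m • P).2 hle)).symm
    have hgm : g * m ∈ M := by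
      refine hN (P : Subgroup G) P.2 (hPeq ▸ hR1) hPM (Sylow.smul_eq_iff_mem_normalizer.mp ?_)
      rw [mul_smul, ← heq, smul_inv_smul]
    simpa using M.mul_mem hgm (inv_mem hm)

end Cfsg.Agent.S2947
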