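import Cfsg.Statements.S2948
import Cfsg.Agent.Lib.LocalEven2.Straddle
import Cfsg.Agent.Lib.LocalEven2.JMember

set_option autoImplicit false
open Cfsg

namespace Cfsg.Agent.S2948

open Cfsg.Agent.Lib Cfsg.Agent.Lib.LocalEven2

/-- Let G be a finite group of characteristic 2 type in which every 2-local subgroup is solvable and the centralizer of Ω₁(Z(S)) lies in N_G(S) for every Sylow 2-subgroup S; suppose O₂(G) = 1, fix a Sylow 2-subgroup S and a 2-local subgroup M containing N_G(J(S)) (J the Thompson subgroup generated by the elementary abelian 2-subgroups of largest order). Let T be maximal (as in the family 𝒯*(M): lexicographically for the order of a largest elementary abelian subgroup, the order of J(T), the order of T) among the nontrivial 2-subgroups of M lying in a 2-local subgroup not inside M, and let L be a 2-local subgroup not contained in M with a Sylow 2-subgroup T₀ containing J(T). Then J(T) = J(T₀), T₀ again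 lies in a 2-local subgroup not inside M (and is a nontrivial 2-subgroup of M), and L belongs to the family ℒ(T₀): T₀ is Sylow in L, J(T₀) is not inside O₂(L) and C_G(O₂(L)) ≤ O₂(L). In particular if T ≤ L then T itself is a Sylow 2-subgroup of L, L ∈ ℒ(T), and L contains a J(T)-component. -/
theorem result {G : Type*} [Group G] [Finite G] (hL : Cfsg.IsCharacteristicTwoType G) (hN : ∀ N : Subgroup G, Cfsg.IsTwoLocal N → Group.IsSolvable ↥N)
    (hZ : ∀ S : Sylow 2 G, Subgroup.centralizer (Cfsg.omegaCenterOf (S : Subgroup G) : Set G) ≤ Subgroup.normalizer ((S : Subgroup G) : Set G)) (hO : Cfsg.pCore 2 G = ⊥) (S : Sylow 2 G) (M : Subgroup G) (hM : Cfsg.IsTwoLocal M)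
    (hMJ : Subgroup.normalizer (Cfsg.thompsonSubgroupOf 2 (S : Subgroup G) : Set G) ≤ M) (T : Subgroup G) (hT : T ∈ Cfsg.maxStraddlingTwoSubgroups M)
    (L : Subgroup G) (hL2 : Cfsg.IsTwoLocal L) (hLM : ¬ L ≤ M) (T₀ : Subgroup G) (hT₀ : Cfsg.IsSylowTwoIn T₀ L)
    (hJT₀ : Cfsg.thompsonSubgroupOf 2 T ≤ T₀) :
    Cfsg.thompsonSubgroupOf 2 T = Cfsg.thompsonSubgroupOf 2 T₀ ∧ T₀ ∈ Cfsg.straddlingTwoSubgroups M ∧ L ∈ Cfsg.jOvergroups T₀ ∧
      (T ≤ L → L ∈ Cfsg.jOvergroups T ∧ ∃ K : Subgroup G, Cfsg.IsJComponent T K ∧ K ≤ L) := by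
  haveI : Fact (Nat.Prime 2) := ⟨Nat.prime_two⟩
  obtain ⟨hT2, hT1, hTM, -⟩ := hT.1
  have hov := fun (R : Subgroup G) (hR : IsPGroup 2 ↥R) (hJR : Cfsg.thompsonSubgroupOf 2 T ≤ R)
    (hRL : R ≤ L) => straddle_over S hMJ hT hR hJR hRL hL2 hLM
  obtain ⟨hstr, hJeq, -⟩ := hov T₀ hT₀.2.1 hJT₀ hT₀.1
  have hN' := straddle_normalizer_le S hMJ hT
  have hnotO : ∀ R : Subgroup G, Cfsg.IsSylowTwoIn R L →
      Cfsg.thompsonSubgroupOf 2 R = Cfsg.thompsonSubgroupOf 2 T →
      ¬ Cfsg.thompsonSubgroupOf 2 R ≤ Cfsg.pCoreOf 2 L := by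
    intro R hR hJ hle
    have heq := thompsonSubgroupOf_eq_of_between hle (isSylowOf_of_sylowTwo hR).pCoreOf_le
    refine hLM fun l hl => hN' ?_
    have h := normalizer_le_normalizer_thompson 2 (Cfsg.pCoreOf 2 L)
      (LocalEven.le_normalizer_pCoreOf L hl)
    rwa [heq, hJ] at h
  refine ⟨hJeq.symm, hstr, ⟨hT₀, hnotO T₀ hT₀ hJeq, twoLocal_charp hL hL2⟩, fun hTL => ?_⟩
  have hsyl : Cfsg.IsSylowTwoIn T L := by
    obtain ⟨R, hR, hTR⟩ := LocalEven.exists_isSylowOf_le (p := 2) hTL hT2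
    obtain ⟨-, -, hcard⟩ := hov R hR.isPGroup ((thompsonSubgroupOf_le 2 T).trans hTR) hR.le
    rw [Subgroup.eq_of_le_of_card_ge hTR hcard]
    exact sylowTwo_of_isSylowOf hR
  have hjo : L ∈ Cfsg.jOvergroups T := ⟨hsyl, hnotO T hsyl rfl, twoLocal_charp hL hL2⟩
  refine ⟨hjo, ?_⟩
  have c := jOver_ctx hL hN hZ hT1 hjo
  obtain ⟨W, hW, hJW⟩ := c.exists_moved hjo.2.1
  obtain ⟨a, -, ha2, ha⟩ := c.j_moves hW hJW
  obtain ⟨k, hk⟩ := c.exists_gen ha2 ha
  refine ⟨JCtx.kOf L (k : G), (c.kOf_component hk hJW fun R hR hJR => ?_).1, c.kOf_le k⟩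
  obtain ⟨R', hR', hRR'⟩ :=
    LocalEven.exists_isSylowOf_le (p := 2) (hR.1.trans (sup_le (c.kOf_le k) c.j_le_l)) hR.2.1
  obtain ⟨-, hJ', -⟩ := hov R' hR'.isPGroup (hJR.trans hRR') hR'.le
  rw [thompsonSubgroupOf_eq_of_between (by rw [hJ']; exact hJR) hRR', hJ']

end Cfsg.Agent.S2948
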