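import Cfsg.Statements.S2949
import Cfsg.Agent.S2948
import Cfsg.Agent.Lib.LocalEven2.JOutside

set_option autoImplicit false
open Cfsg

namespace Cfsg.Agent.S2949

open Cfsg.Agent.Lib Cfsg.Agent.Lib.LocalEven2

/-- Let G be a finite group of characteristic 2 type in which every 2-local subgroup is solvable and the centralizer of Ω₁(Z(S)) lies in N_G(S) for every Sylow 2-subgroup S; suppose O₂(G) = 1, fix a Sylow 2-subgroup S and a 2-local subgroup M containing N_G(J(S)) (J the Thompson subgroup generated by the elementary abelian 2-subgroups of largest order). For every T maximal (for the order of a largest elementary abelian subgroup, then the order of J(T), then the order of T) among the nontrivial 2-subgroups of M lying in a 2-local subgroup not inside M, there is a J(T)-component K not contained in M with J(T) the Thompson subgroup of every Sylow 2-subgroup of N_G(W_K) containing J(T), and O₂(⟨K, T⟩) ≠ 1. -/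
theorem result {G : Type*} [Group G] [Finite G] (hL : Cfsg.IsCharacteristicTwoType G) (hN : ∀ N : Subgroup G, Cfsg.IsTwoLocal N → Group.IsSolvable ↥N)
    (hZ : ∀ S : Sylow 2 G, Subgroup.centralizer (Cfsg.omegaCenterOf (S : Subgroup G) : Set G) ≤ Subgroup.normalizer ((S : Subgroup G) : Set G)) (hO : Cfsg.pCore 2 G = ⊥) (S : Sylow 2 G) (M : Subgroup G) (hM : Cfsg.IsTwoLocal M)
    (hMJ : Subgroup.normalizer (Cfsg.thompsonSubgroupOf 2 (S : Subgroup G) : Set G) ≤ M) (T : Subgroup G) (hT : T ∈ Cfsg.maxStraddlingTwoSubgroups M) :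
    (Cfsg.jComponentsOutside M T).Nonempty := by
  haveI : Fact (Nat.Prime 2) := ⟨Nat.prime_two⟩
  obtain ⟨hT2, hT1, hTM, L, hL2, hTL, hLM⟩ := hT.1
  obtain ⟨R, hR, hTR⟩ := LocalEven.exists_isSylowOf_le (p := 2) hTL hT2
  obtain ⟨-, -, -, hd⟩ := Cfsg.Agent.S2948.result hL hN hZ hO S M hM hMJ T hT L hL2 hLM R
    (sylowTwo_of_isSylowOf hR) ((thompsonSubgroupOf_le 2 T).trans hTR)
  obtain ⟨hjo, -⟩ := hd hTL
  have c := jOver_ctx hL hN hZ hT1 hjo
  have hstr : ∀ L' : Subgroup G, Cfsg.IsTwoLocal L' → ¬ L' ≤ M → ∀ R : Subgroup G,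
      IsPGroup 2 ↥R → Cfsg.thompsonSubgroupOf 2 T ≤ R → R ≤ L' →
      R ≤ M ∧ Cfsg.thompsonSubgroupOf 2 R = Cfsg.thompsonSubgroupOf 2 T :=
    fun L' hL' hLM' R hR hJR hRL => by
      obtain ⟨h1, h2, -⟩ := straddle_over S hMJ hT hR hJR hRL hL' hLM'
      exact ⟨h1.2.2.1, h2⟩
  obtain ⟨W, k, hk, hJW, hKM⟩ :=
    c.exists_outside hLM (straddle_normalizer_le S hMJ hT) (hstr L hL2 hLM)
  obtain ⟨hKc, hKW⟩ := c.kOf_component hk hJW fun R hR hJR => by
    obtain ⟨R', hR', hRR'⟩ :=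
      LocalEven.exists_isSylowOf_le (p := 2) (hR.1.trans (sup_le (c.kOf_le k) c.j_le_l)) hR.2.1
    obtain ⟨-, hJ'⟩ := hstr L hL2 hLM R' hR'.isPGroup (hJR.trans hRR') hR'.le
    rw [thompsonSubgroupOf_eq_of_between (by rw [hJ']; exact hJR) hRR', hJ']
  set K := JCtx.kOf L (k : G) with hK
  have hKN : K ≤ Subgroup.normalizer (Cfsg.wOf K : Set G) :=
    Subgroup.le_normalizer.trans jc_normalizer_le_normalizer_w
  have hNW : Cfsg.IsTwoLocal (Subgroup.normalizer (Cfsg.wOf K : Set G)) :=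
    ⟨Cfsg.wOf K, (pCoreOf_isPGroup K).to_le jc_w_le_q, fun h => by
      have h4 := hKc.2.2.2.2.1
      rw [h, Subgroup.card_bot] at h4
      norm_num at h4, rfl⟩
  refine ⟨K, ⟨hKc, fun S' hJS hS' => ?_⟩, hKM, fun hbot => ?_⟩
  · exact (hstr _ hNW (fun h => hKM (hKN.trans h)) S' hS'.2.1 hJS hS'.1).2
  · have hOne : Cfsg.pCoreOf 2 L ≤ Cfsg.pCoreOf 2 (K ⊔ T) :=
      le_pCoreOf (c.o_le_t.trans le_sup_right) (pCoreOf_isPGroup L) fun g hg x hx =>
        c.o_conj ((sup_le (c.kOf_le k) c.syl.1) hg) hx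
    rw [hbot, le_bot_iff] at hOne
    refine hT1 (le_bot_iff.mp (hOne ▸ (?_ : T ≤ Cfsg.pCoreOf 2 L)))
    intro x _
    refine c.charp (Subgroup.mem_centralizer_iff.mpr fun y hy => ?_)
    rw [hOne] at hy
    rw [Subgroup.mem_bot.mp hy]; simp

end Cfsg.Agent.S2949
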