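import Cfsg.Statements.S2941
import Cfsg.Agent.Lib.LocalEven2.Basic
import Cfsg.Agent.Lib.LocalEven2.Sylow
import Cfsg.Agent.Lib.Coprime.Basic

set_option autoImplicit false
open Cfsg

namespace Cfsg.Agent.S2941

/-- Let G be a finite group of characteristic 2 type in which every 2-local subgroup is solvable and the centralizer of Ω₁(Z(S)) lies in N_G(S) for every Sylow 2-subgroup S, and let T be a nontrivial 2-subgroup and K a J(T)-component (J the Thompson subgroup generated by the elementary abelian 2-subgroups of largest order). If a subgroup Q is normalized by ⟨K, J(T)⟩ and normalizes J(T), then Q normalizes K. -/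
theorem result {G : Type*} [Group G] [Finite G] (hL : Cfsg.IsCharacteristicTwoType G) (hN : ∀ N : Subgroup G, Cfsg.IsTwoLocal N → Group.IsSolvable ↥N)
    (hZ : ∀ S : Sylow 2 G, Subgroup.centralizer (Cfsg.omegaCenterOf (S : Subgroup G) : Set G) ≤ Subgroup.normalizer ((S : Subgroup G) : Set G)) (T : Subgroup G) (hT : IsPGroup 2 ↥T) (hT1 : T ≠ ⊥) (K : Subgroup G) (hK : Cfsg.IsJComponent T K)
    (Q : Subgroup G) (hQ1 : K ⊔ Cfsg.thompsonSubgroupOf 2 T ≤ Subgroup.normalizer (Q : Set G)) (hQ2 : Q ≤ Subgroup.normalizer (Cfsg.thompsonSubgroupOf 2 T : Set G)) :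
    Q ≤ Subgroup.normalizer (K : Set G) := by
  obtain ⟨hKodd, hKJ, -⟩ := hK
  set J := Cfsg.thompsonSubgroupOf 2 T with hJ
  set W := K ⊔ J with hW
  set D := Q ⊓ W with hD
  have hWD : ∀ w ∈ W, ∀ d ∈ D, w * d * w⁻¹ ∈ D := fun w hw d hd =>
    ⟨(Subgroup.mem_normalizer_iff.mp (hQ1 hw) d).mp hd.1,
      W.mul_mem (W.mul_mem hw hd.2) (inv_mem hw)⟩
  -- elements of `W` acting trivially on `Q` modulo `D`
  let C : Subgroup G :=
    { carrier := {w | w ∈ W ∧ ∀ q ∈ Q, w * q * w⁻¹ * q⁻¹ ∈ D}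
      one_mem' := ⟨W.one_mem, fun q _ => by simp⟩
      mul_mem' := by
        rintro u v ⟨hu, hu'⟩ ⟨hv, hv'⟩
        refine ⟨W.mul_mem hu hv, fun q hq => ?_⟩
        have := D.mul_mem (hWD u hu _ (hv' q hq)) (hu' q hq)
        simpa [mul_assoc] using this
      inv_mem' := by
        rintro u ⟨hu, hu'⟩
        refine ⟨inv_mem hu, fun q hq => ?_⟩
        have := hWD u⁻¹ (inv_mem hu) _ (inv_mem (hu' q hq))
        simpa [mul_assoc] using this }
  have hCn : ∀ w ∈ W, ∀ c ∈ C, w * c * w⁻¹ ∈ C := by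
    rintro w hw c ⟨hc, hc'⟩
    refine ⟨W.mul_mem (W.mul_mem hw hc) (inv_mem hw), fun q hq => ?_⟩
    have := hWD w hw _ (hc' _ ((Subgroup.mem_normalizer_iff.mp (hQ1 (inv_mem hw)) q).mp hq))
    simpa [mul_assoc] using this
  have hJC : J ≤ C := by
    refine fun j hj => ⟨Subgroup.mem_sup_right hj, fun q hq => ⟨?_, ?_⟩⟩
    · exact Q.mul_mem ((Subgroup.mem_normalizer_iff.mp (hQ1 (Subgroup.mem_sup_right hj)) q).mp hq)
        (inv_mem hq)
    · have h1 := (Subgroup.mem_normalizer_iff.mp (hQ2 hq) j⁻¹).mp (inv_mem hj)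
      have := W.mul_mem (Subgroup.mem_sup_right hj) (Subgroup.mem_sup_right h1)
      simpa [mul_assoc] using this
  have hKC : K ≤ C := by
    rw [← hKJ, Subgroup.commutator_le]
    intro k hk j hj
    rw [commutatorElement_def]
    exact C.mul_mem (hCn k (Subgroup.mem_sup_left hk) j (hJC hj)) (inv_mem (hJC hj))
  have hqW : ∀ q ∈ Q, ∀ w ∈ W, q * w * q⁻¹ ∈ W := by
    intro q hq w hw
    have h1 : w ∈ C := (sup_le hKC hJC) hw
    have h2 := W.mul_mem (W.mul_mem (inv_mem (h1.2 q hq).2) hw) (W.one_mem)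
    simpa [mul_assoc] using h2
  -- `J` normalizes `K`
  have hJK : J ≤ Subgroup.normalizer (K : Set G) := by
    have key : ∀ j ∈ J, ∀ k ∈ K, j * k * j⁻¹ ∈ K := by
      intro j hj k hk
      have h1 : j * k * j⁻¹ * k⁻¹ ∈ ⁅K, J⁆ := by
        rw [Subgroup.commutator_comm]
        exact Subgroup.commutator_mem_commutator hj hk
      rw [hKJ] at h1
      simpa [mul_assoc] using K.mul_mem h1 hk
    intro j hj
    rw [Subgroup.mem_normalizer_iff]
    refine fun k => ⟨key j hj k, fun h => ?_⟩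
    simpa [mul_assoc] using key j⁻¹ (inv_mem hj) _ h
  -- elements of odd order of `W` lie in `K`
  have hodd : ∀ w ∈ W, Odd (orderOf w) → w ∈ K := by
    intro w hw hwo
    obtain ⟨k, hk, j, hj, rfl⟩ := Lib.Coprime.exists_mul_of_mem_sup hJK hw
    have hpow : ∀ n : ℕ, (k * j) ^ n * (j ^ n)⁻¹ ∈ K := by
      intro n
      induction n with
      | zero => simp
      | succ n ih =>
        have h1 : (k * j) ^ n * k * ((k * j) ^ n)⁻¹ ∈ K :=
          (Subgroup.mem_normalizer_iff.mp
            (pow_mem (mul_mem (Subgroup.le_normalizer hk) (hJK hj)) n) k).mp hk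
        have := K.mul_mem h1 ih
        simpa [pow_succ, mul_assoc] using this
    have hJ2 : IsPGroup 2 ↥J := (hT.to_subgroup _).map _
    obtain ⟨a, ha⟩ := Lib.LocalEven2.orderOf_of_mem_pgroup hJ2 hj
    have h1 := hpow (2 ^ a)
    rw [← ha, pow_orderOf_eq_one, inv_one, mul_one, ha] at h1
    obtain ⟨m, hm⟩ := exists_pow_eq_self_of_coprime (x := k * j) (n := 2 ^ a)
      (Nat.Coprime.pow_left a (Nat.coprime_two_left.mpr hwo))
    rw [← hm]
    exact pow_mem h1 m
  intro q hq
  have key : ∀ q' ∈ Q, ∀ k ∈ K, q' * k * q'⁻¹ ∈ K := by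
    intro q' hq' k hk
    rw [← hKodd] at hk
    induction hk using Subgroup.closure_induction with
    | mem x hx =>
      refine hodd _ (hqW q' hq' x (Subgroup.mem_sup_left hx.1)) ?_
      rw [show orderOf (q' * x * q'⁻¹) = orderOf x from (MulAut.conj q').orderOf_eq x]
      exact hx.2
    | one => simp
    | mul x y _ _ hx hy => simpa [mul_assoc] using K.mul_mem hx hy
    | inv x _ hx => simpa [mul_assoc] using inv_mem hx
  rw [Subgroup.mem_normalizer_iff]
  refine fun k => ⟨key q hq k, fun h => ?_⟩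
  simpa [mul_assoc] using key q⁻¹ (inv_mem hq) _ h

end Cfsg.Agent.S2941
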