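import Cfsg.Statements.S2950
import Cfsg.Agent.Lib.LocalEven2.JUnique

set_option autoImplicit false
open Cfsg

namespace Cfsg.Agent.S2950

open Cfsg.Agent.Lib Cfsg.Agent.Lib.LocalEven2

/-- Uniqueness of the maximal 2-local overgroup. Let G be a finite group of characteristic 2 type in which every 2-local subgroup is solvable and the centralizer of Ω₁(Z(S)) lies in N_G(S) for every Sylow 2-subgroup S; suppose O₂(G) = 1, fix a Sylow 2-subgroup S and a 2-local subgroup M containing N_G(J(S)) (J the Thompson subgroup generated by the elementary abelian 2-subgroups of largest order). Let T be maximal (for the order of a largest elementary abelian subgroup, then the order of J(T), then the order of T) among the nontrivial 2-subgroups of M lying in a 2-local subgroup not inside M, and let K be a J(T)-component not contained in M with J(T) the Thompson subgroup of every Sylow 2-subgroup of N_G(W_K) containing J(T), and O₂(⟨K, T⟩) ≠ 1. Then there is exactly one maximal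 2-local subgroup L of G containing ⟨K, J(T)⟩; moreover K is subnormal in L and T is a Sylow 2-subgroup of L. -/
theorem result {G : Type*} [Group G] [Finite G] (hL : Cfsg.IsCharacteristicTwoType G) (hN : ∀ N : Subgroup G, Cfsg.IsTwoLocal N → Group.IsSolvable ↥N)
    (hZ : ∀ S : Sylow 2 G, Subgroup.centralizer (Cfsg.omegaCenterOf (S : Subgroup G) : Set G) ≤ Subgroup.normalizer ((S : Subgroup G) : Set G)) (hO : Cfsg.pCore 2 G = ⊥) (S : Sylow 2 G) (M : Subgroup G) (hM : Cfsg.IsTwoLocal M)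
    (hMJ : Subgroup.normalizer (Cfsg.thompsonSubgroupOf 2 (S : Subgroup G) : Set G) ≤ M) (T : Subgroup G) (hT : T ∈ Cfsg.maxStraddlingTwoSubgroups M)
    (K : Subgroup G) (hK : K ∈ Cfsg.jComponentsOutside M T) :
    ∃ L : Subgroup G, Cfsg.IsMaximalTwoLocal L ∧ K ⊔ Cfsg.thompsonSubgroupOf 2 T ≤ L ∧
      (∀ L' : Subgroup G, Cfsg.IsMaximalTwoLocal L' → K ⊔ Cfsg.thompsonSubgroupOf 2 T ≤ L' → L' = L) ∧
      (K.subgroupOf L).IsSubnormal ∧ Cfsg.IsSylowTwoIn T L := by
  haveI : Fact (Nat.Prime 2) := ⟨Nat.prime_two⟩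
  obtain ⟨⟨hKc, -⟩, hKM, hO2⟩ := hK
  set U := K ⊔ T with hU
  obtain ⟨L, hLmax, hUL⟩ := exists_maximalTwoLocal
    (⟨_, pCoreOf_isPGroup U, hO2, rfl⟩ :
      Cfsg.IsTwoLocal (Subgroup.normalizer (Cfsg.pCoreOf 2 U : Set G)))
  have hUL' : U ≤ L := (LocalEven.le_normalizer_pCoreOf U).trans hUL
  have hKL : K ≤ L := le_sup_left.trans hUL'
  have hTL : T ≤ L := le_sup_right.trans hUL'
  have hLM : ¬ L ≤ M := fun h => hKM (hKL.trans h)
  have hJL := (thompsonSubgroupOf_le 2 T).trans hTL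
  obtain ⟨R, hR, hTR⟩ := LocalEven.exists_isSylowOf_le (p := 2) hTL hT.1.1
  obtain ⟨-, -, -, hd⟩ := Cfsg.Agent.S2948.result hL hN hZ hO S M hM hMJ T hT L hLmax.1 hLM R
    (sylowTwo_of_isSylowOf hR) ((thompsonSubgroupOf_le 2 T).trans hTR)
  obtain ⟨hjo, -⟩ := hd hTL
  have c := jOver_ctx hL hN hZ hT.1.2.1 hjo
  obtain ⟨k, hk, -, hKeq⟩ := member_component hL hN hZ hT.1.2.1 c hKc hKL
  refine ⟨L, hLmax, sup_le hKL hJL, fun L' hL' hKL' =>
    maximal_unique hL hN hZ hO S hM hMJ hT hLmax hL' hKc hKM (sup_le hKL hJL) hKL', ?_, hjo.1⟩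
  rw [hKeq]
  exact c.kOf_subnormal hk

end Cfsg.Agent.S2950
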