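import Cfsg.Statements.S2946
import Cfsg.Agent.Lib.LocalEven2.JComp

set_option autoImplicit false
open Cfsg

namespace Cfsg.Agent.S2946

open Cfsg.Agent.Lib Cfsg.Agent.Lib.LocalEven2

/-- Let G be a finite group of characteristic 2 type in which every 2-local subgroup is solvable and the centralizer of Ω₁(Z(S)) lies in N_G(S) for every Sylow 2-subgroup S, and let T be a nontrivial 2-subgroup (below, J is the Thompson subgroup generated by the elementary abelian 2-subgroups of largest order), K a J(T)-component and Z₀ = Ω₁(Z(J(T))). Then Z₀ meets W_K = [Ω₁(Z(O₂(K))), K] in a subgroup of order 2, and Z₀ is the product of Z₀ ∩ Z(⟨K, J(T)⟩) and Z₀ ∩ W_K. -/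
theorem result {G : Type*} [Group G] [Finite G] (hL : Cfsg.IsCharacteristicTwoType G) (hN : ∀ N : Subgroup G, Cfsg.IsTwoLocal N → Group.IsSolvable ↥N)
    (hZ : ∀ S : Sylow 2 G, Subgroup.centralizer (Cfsg.omegaCenterOf (S : Subgroup G) : Set G) ≤ Subgroup.normalizer ((S : Subgroup G) : Set G)) (T : Subgroup G) (hT : IsPGroup 2 ↥T) (hT1 : T ≠ ⊥) (K : Subgroup G) (hK : Cfsg.IsJComponent T K)
    (Z₀ : Subgroup G) (hZ₀ : Z₀ = Cfsg.omegaCenterOf (Cfsg.thompsonSubgroupOf 2 T)) :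
    Nat.card ↥(Z₀ ⊓ Cfsg.wOf K) = 2 ∧
      (Z₀ ⊓ ((K ⊔ Cfsg.thompsonSubgroupOf 2 T) ⊓ Subgroup.centralizer ((K ⊔ Cfsg.thompsonSubgroupOf 2 T) : Set G))) ⊔ (Z₀ ⊓ Cfsg.wOf K) = Z₀ := by
  haveI : Fact (Nat.Prime 2) := ⟨Nat.prime_two⟩
  subst hZ₀
  set J := Cfsg.thompsonSubgroupOf 2 T with hJdef
  set Q := Cfsg.pCoreOf 2 K with hQdef
  set W := Cfsg.wOf K with hWdef
  have h4 : Nat.card ↥W = 4 := hK.2.2.2.2.1
  have hexp : ∀ w ∈ W, w * w = 1 := hK.2.2.2.2.2
  have hJ2 : IsPGroup 2 ↥J := hT.to_le (thompsonSubgroupOf_le 2 T)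
  have hQ2 : IsPGroup 2 ↥Q := pCoreOf_isPGroup K
  have hJK : J ≤ Subgroup.normalizer (K : Set G) := jc_j_le_normalizer hK
  have hKJK : K ⊔ J ≤ Subgroup.normalizer (K : Set G) := jc_sup_le_normalizer hK
  have hKJW : K ⊔ J ≤ Subgroup.normalizer (W : Set G) :=
    hKJK.trans jc_normalizer_le_normalizer_w
  have hQK : Q ≤ K := LocalEven.pCoreOf_le K
  have hWQ : W ≤ Q := jc_w_le_q
  -- a Sylow subgroup of `KJ` above `QJ`
  obtain ⟨S, hS, hQJS⟩ := LocalEven.exists_isSylowOf_le (p := 2)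
    (sup_le (hQK.trans le_sup_left) le_sup_right : Q ⊔ J ≤ K ⊔ J)
    (hQ2.to_sup_of_normal_left' hJ2 (hJK.trans (normalizer_le_normalizer_pCoreOf 2 K)))
  obtain ⟨hQS, hJS⟩ := sup_le_iff.mp hQJS
  have hSodd : IsSylowTwoIn S (K ⊔ J) := by
    refine ⟨hS.le, hS.isPGroup, ?_⟩
    obtain ⟨R, hR⟩ := hS.exists_sylow
    rw [← hR, Subgroup.relIndex, Subgroup.subgroupOf,
      Subgroup.comap_map_eq_self_of_injective (Subgroup.subtype_injective _)]
    exact Nat.odd_iff.mpr (Nat.two_dvd_ne_zero.mp R.not_dvd_index)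
  have hJSeq : Cfsg.thompsonSubgroupOf 2 S = J := hK.2.2.2.1 S hSodd hJS
  -- a largest elementary abelian subgroup moving `W`
  obtain ⟨A, hA, hAW⟩ : ∃ A, IsMaxEA 2 T A ∧ ¬ A ≤ Subgroup.centralizer (W : Set G) := by
    by_contra hcon
    push Not at hcon
    exact jc_j_not_centralizes_w hK (thompsonSubgroupOf_le_of hcon)
  obtain ⟨a, haA, haW⟩ := SetLike.not_le_iff_exists.mp hAW
  obtain ⟨u, huW, hau⟩ : ∃ u ∈ W, a * u * a⁻¹ ≠ u := by
    by_contra hcon
    push Not at hcon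
    refine haW (Subgroup.mem_centralizer_iff.mpr fun w hw => ?_)
    calc w * a = (a * w * a⁻¹) * a := by rw [hcon w hw]
      _ = a * w := by group
  have hAJ : A ≤ J := le_thompsonSubgroupOf hA
  have hAS : IsMaxEA 2 S A := by
    refine ⟨hAJ.trans hJS, hA.2.1, fun B hB hBe => ?_⟩
    obtain ⟨B₀, hB₀⟩ := exists_isMaxEA 2 S
    refine (hB₀.2.2 B hB hBe).trans (hA.2.2 B₀ ?_ hB₀.2.1)
    exact (le_thompsonSubgroupOf hB₀).trans (hJSeq.le.trans (thompsonSubgroupOf_le 2 T))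
  obtain ⟨hAcomm, hAexp⟩ := isElementaryAbelian_iff.mp hA.2.1
  have haJ : a ∈ J := hAJ haA
  have haa : a * a = 1 := by rw [← pow_two]; exact hAexp a haA
  have hainv : a⁻¹ = a := inv_eq_of_mul_eq_one_right haa
  have hanW : a ∈ Subgroup.normalizer (W : Set G) := hKJW (Subgroup.mem_sup_right haJ)
  set v := a * u * a⁻¹ with hvdef
  have hvW : v ∈ W := conj_mem_of_normalizer hanW huW
  have hu1 : u ≠ 1 := fun h => hau (by rw [hvdef, h]; group)
  have hv1 : v ≠ 1 := fun h => hu1 (conj_eq_one_iff.mp h)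
  have hfour := four_cases h4 hexp huW hvW hu1 hv1 (Ne.symm hau)
  set w₀ := u * v with hw₀def
  have hw₀W : w₀ ∈ W := mul_mem huW hvW
  have hw₀1 : w₀ ≠ 1 := fun h => hau (by
    rw [eq_inv_of_mul_eq_one_right h, inv_eq_of_mul_eq_one_right (hexp u huW)])
  have hav : a * v * a⁻¹ = u := by
    rw [hvdef, show a * (a * u * a⁻¹) * a⁻¹ = (a * a) * u * (a * a)⁻¹ by group, haa]; group
  have haw₀ : a * w₀ * a⁻¹ = w₀ := by
    rw [hw₀def, show a * (u * v) * a⁻¹ = (a * u * a⁻¹) * (a * v * a⁻¹) by group, hav, ← hvdef]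
    exact comm_of_exp_two hexp hvW huW
  have hCWa : ∀ w ∈ W, a * w * a⁻¹ = w → w = 1 ∨ w = w₀ := by
    intro w hw h
    rcases hfour w hw with rfl | rfl | rfl | rfl
    · exact Or.inl rfl
    · exact absurd h hau
    · exact absurd (hav.symm.trans h) (Ne.symm hau)
    · exact Or.inr rfl
  -- `C_A(W) W` is a largest elementary abelian subgroup
  set CA := A ⊓ Subgroup.centralizer (W : Set G) with hCA
  have hmove : ∀ b ∈ A, b ∈ CA ∨ a * b ∈ CA := by
    intro b hb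
    have hbn : b ∈ Subgroup.normalizer (W : Set G) := hKJW (Subgroup.mem_sup_right (hAJ hb))
    have hbw : b * w₀ * b⁻¹ = w₀ := by
      refine (hCWa _ (conj_mem_of_normalizer hbn hw₀W) ?_).resolve_left
        fun h => hw₀1 (conj_eq_one_iff.mp h)
      calc a * (b * w₀ * b⁻¹) * a⁻¹ = (a * b) * w₀ * (a * b)⁻¹ := by group
        _ = (b * a) * w₀ * (b * a)⁻¹ := by rw [hAcomm a haA b hb]
        _ = b * (a * w₀ * a⁻¹) * b⁻¹ := by group
        _ = b * w₀ * b⁻¹ := by rw [haw₀]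
    have key : ∀ c ∈ A, c * u * c⁻¹ = u → c * w₀ * c⁻¹ = w₀ → c ∈ CA := by
      intro c hc hcu hcw
      refine ⟨hc, Subgroup.mem_centralizer_iff.mpr fun w hw => ?_⟩
      have hcv : c * v * c⁻¹ = v := by
        have hvu : v = u⁻¹ * w₀ := by rw [hw₀def]; group
        calc c * v * c⁻¹ = (c * u * c⁻¹)⁻¹ * (c * w₀ * c⁻¹) := by rw [hvu]; group
          _ = v := by rw [hcu, hcw, ← hvu]
      suffices h : c * w * c⁻¹ = w by
        calc w * c = (c * w * c⁻¹) * c := by rw [h]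
          _ = c * w := by group
      rcases hfour w hw with rfl | rfl | rfl | rfl
      · group
      · exact hcu
      · exact hcv
      · exact hcw
    rcases hfour _ (conj_mem_of_normalizer hbn huW) with h | h | h | h
    · exact absurd (conj_eq_one_iff.mp h) hu1
    · exact Or.inl (key b hb h hbw)
    · refine Or.inr (key _ (mul_mem haA hb) ?_ ?_)
      · rw [show a * b * u * (a * b)⁻¹ = a * (b * u * b⁻¹) * a⁻¹ by group, h, hav]
      · rw [show a * b * w₀ * (a * b)⁻¹ = a * (b * w₀ * b⁻¹) * a⁻¹ by group, hbw, haw₀]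
    · rw [← hbw] at h
      exact absurd (mul_left_cancel (mul_right_cancel h)) fun h' => hv1 (mul_eq_left.mp h'.symm)
  have hAcard : Nat.card ↥A ≤ 2 * Nat.card ↥CA := by
    have hsub : (A : Set G) ⊆ (CA : Set G) ∪ (fun c => a * c) '' (CA : Set G) := by
      intro b hb
      rcases hmove b hb with h | h
      · exact Or.inl h
      · exact Or.inr ⟨_, h, by simp only [← mul_assoc, haa, one_mul]⟩
    have h1 := (Set.ncard_le_ncard hsub).trans (Set.ncard_union_le _ _)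
    have h2 := Set.ncard_image_le (f := fun c => a * c) (s := (CA : Set G)) (Set.toFinite _)
    rw [← Nat.card_coe_set_eq, ← Nat.card_coe_set_eq (s := (CA : Set G))] at h1
    rw [← Nat.card_coe_set_eq, ← Nat.card_coe_set_eq] at h2
    have h1' : Nat.card ↥A ≤ Nat.card ↥CA + Nat.card ↥((fun c => a * c) '' (CA : Set G)) := by
      rw [Nat.card_coe_set_eq ((fun c => a * c) '' (CA : Set G))]; exact h1
    have h2' : Nat.card ↥((fun c => a * c) '' (CA : Set G)) ≤ Nat.card ↥CA := h2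
    omega
  have hWea : Cfsg.IsElementaryAbelian 2 W := isElementaryAbelian_iff.mpr
    ⟨fun x hx y hy => comm_of_exp_two hexp hx hy, fun x hx => by rw [pow_two]; exact hexp x hx⟩
  have hA' : IsMaxEA 2 S (CA ⊔ W) := by
    refine ⟨sup_le (inf_le_left.trans hAS.1) (hWQ.trans hQS), ?_, fun B hB hBe => ?_⟩
    · rw [Subgroup.sup_eq_closure]
      refine Cfsg.Agent.Lib.PLocal.elemAb_closure ?_ ?_
      · rintro x (hx | hx) y (hy | hy)
        · exact hAcomm x hx.1 y hy.1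
        · exact (Subgroup.mem_centralizer_iff.mp hx.2 y hy).symm
        · exact Subgroup.mem_centralizer_iff.mp hy.2 x hx
        · exact comm_of_exp_two hexp hx hy
      · rintro x (hx | hx)
        · exact hAexp x hx.1
        · rw [pow_two]; exact hexp x hx
    · refine (hAS.2.2 B hB hBe).trans (hAcard.trans ?_)
      have hne : CA ≠ CA ⊔ W := fun h => by
        have huA : u ∈ CA := h.ge (Subgroup.mem_sup_right huW)
        apply hau
        rw [hvdef, hAcomm a haA u huA.1]; group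
      obtain ⟨d, hd⟩ := Subgroup.card_dvd_of_le (le_sup_left : CA ≤ CA ⊔ W)
      rcases d with _ | _ | d
      · rw [mul_zero] at hd
        exact absurd hd Nat.card_pos.ne'
      · exact absurd (Subgroup.eq_of_le_of_card_ge le_sup_left (by simp [hd])) hne
      · rw [hd, mul_comm 2]; exact Nat.mul_le_mul_left _ (by omega)
  have hA'J : CA ⊔ W ≤ J := (le_thompsonSubgroupOf hA').trans hJSeq.le
  have hWJ : W ≤ J := le_sup_right.trans hA'J
  have hZW : ∀ z ∈ Cfsg.omegaCenterOf J, ∀ w ∈ W, w * z = z * w := fun z hz w hw =>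
    (mem_omegaCenterOf_iff.mp hz).2.1 w (hWJ hw)
  -- `w₀` is central in `J`
  have hw₀Z : w₀ ∈ Cfsg.omegaCenterOf J := by
    haveI : Group.IsNilpotent ↥J := hJ2.isNilpotent
    haveI : (W.subgroupOf J).Normal :=
      ⟨fun x hx g => show (g : G) * x * (g : G)⁻¹ ∈ W from
        conj_mem_of_normalizer (hKJW (Subgroup.mem_sup_right g.2)) hx⟩
    have hne : W.subgroupOf J ≠ ⊥ := fun h =>
      hu1 (congrArg Subtype.val (Subgroup.mem_bot.mp (h.le
        (show (⟨u, hWJ huW⟩ : ↥J) ∈ W.subgroupOf J from huW))))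
    obtain ⟨x, ⟨hxW, hxc⟩, hx1⟩ :=
      (Subgroup.ne_bot_iff_exists_ne_one.mp (Solvable.inf_center_ne_bot hne)).elim
        fun x hx => (⟨x.1, x.2, fun h => hx (Subtype.ext h)⟩ :
          ∃ x : ↥J, x ∈ W.subgroupOf J ⊓ Subgroup.center ↥J ∧ x ≠ 1)
    have hxc' : ∀ y ∈ J, y * (x : G) = x * y := fun y hy =>
      congrArg Subtype.val (Subgroup.mem_center_iff.mp hxc ⟨y, hy⟩)
    have : (x : G) = w₀ := (hCWa x hxW (by rw [hxc' a haJ]; group)).resolve_left
      fun h => hx1 (Subtype.ext h)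
    exact this ▸ mem_omegaCenterOf_iff.mpr ⟨x.2, hxc', hexp _ hxW⟩
  have hfixa : ∀ z ∈ Cfsg.omegaCenterOf J, a * z * a⁻¹ = z := fun z hz => by
    rw [(mem_omegaCenterOf_iff.mp hz).2.1 a haJ]; group
  have hZWset : ∀ w, w ∈ Cfsg.omegaCenterOf J ⊓ W ↔ w = 1 ∨ w = w₀ := by
    intro w
    constructor
    · rintro ⟨h1, h2⟩
      exact hCWa w h2 (hfixa w h1)
    · rintro (rfl | rfl)
      · exact one_mem _
      · exact ⟨hw₀Z, hw₀W⟩
  constructor
  · have hset : ((Cfsg.omegaCenterOf J ⊓ W : Subgroup G) : Set G) = {1, w₀} := by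
      ext w; exact hZWset w
    rw [show Nat.card ↥(Cfsg.omegaCenterOf J ⊓ W) =
      ((Cfsg.omegaCenterOf J ⊓ W : Subgroup G) : Set G).ncard from Nat.card_coe_set_eq _, hset,
      Set.ncard_pair (Ne.symm hw₀1)]
  -- the normal subgroup `Z₁`
  set P := Subgroup.centralizer (W : Set G) ⊓ (K ⊔ J) with hP
  have hKJP : K ⊔ J ≤ Subgroup.normalizer (P : Set G) := fun g hg => by
    refine mem_normalizer_of_map_le fun x hx => ⟨?_,
      (mul_mem (mul_mem hg (show x ∈ K ⊔ J from hx.2)) (inv_mem hg) : g * x * g⁻¹ ∈ K ⊔ J)⟩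
    refine Subgroup.mem_centralizer_iff.mpr fun w hw => ?_
    have := Subgroup.mem_centralizer_iff.mp hx.1 _
      (conj_mem_of_normalizer (inv_mem (hKJW hg)) hw)
    calc w * (g * x * g⁻¹) = g * ((g⁻¹ * w * g⁻¹⁻¹) * x) * g⁻¹ := by group
      _ = g * x * g⁻¹ * w := by rw [this]; group
  have hP2 : IsPGroup 2 ↥P := isPGroup_of_coprime_trivial fun x hx ho => by
    have ho' : Odd (orderOf x) := Nat.coprime_two_right.mp ho
    have hxK : x ∈ K := mem_of_odd_of_mem_sup hJK hJ2 hx.2 ho'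
    exact eq_one_of_isPGroup hQ2 (jc_centralizer_w hK hxK hx.1) ho
  have hPS : P ≤ S := by
    have h2 : IsPGroup 2 ↥(P ⊔ S) := hP2.to_sup_of_normal_left' hS.isPGroup (hS.le.trans hKJP)
    have := hS.eq_of_le (sup_le inf_le_right hS.le) h2 le_sup_right
    exact le_sup_left.trans this.le
  have hWP : W ≤ P := le_inf (fun x hx => Subgroup.mem_centralizer_iff.mpr fun w hw =>
    comm_of_exp_two hexp hw hx) ((hWQ.trans hQK).trans le_sup_left)
  have hA'P : CA ⊔ W ≤ P := sup_le (le_inf inf_le_right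
    ((inf_le_left.trans hAJ).trans le_sup_right)) hWP
  have hmax : ∀ B, PLocal.MaxIn 2 P B → B ≤ J := fun B hB => by
    refine (le_thompsonSubgroupOf (⟨hB.1.trans hPS, hB.2.1, fun C hC hCe => ?_⟩ :
      IsMaxEA 2 S B)).trans hJSeq.le
    exact (hA'.2.2 C hC hCe).trans (hB.2.2 _ hA'P hA'.2.1)
  set Z₁ := PLocal.zIn 2 P with hZ₁
  have hZ₁n : K ⊔ J ≤ Subgroup.normalizer (Z₁ : Set G) :=
    hKJP.trans (PLocal.normalizer_le_normalizer_zIn 2 P)
  have hA'max : PLocal.MaxIn 2 P (CA ⊔ W) :=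
    ⟨hA'P, hA'.2.1, fun C hC hCe => hA'.2.2 C (hC.trans hPS) hCe⟩
  have hZ₀₁ : Cfsg.omegaCenterOf J ≤ Z₁ := fun z hz => by
    refine PLocal.mem_zIn ⟨Subgroup.mem_centralizer_iff.mpr (hZW z hz),
      Subgroup.mem_sup_right (omegaCenterOf_le _ hz)⟩
      (by rw [pow_two]; exact (mem_omegaCenterOf_iff.mp hz).2.2) fun B hB b hb => ?_
    exact ((mem_omegaCenterOf_iff.mp hz).2.1 b (hmax B hB hb)).symm
  -- the kernel of the action on `Z₁ / W`
  let Ψ : Subgroup G :=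
    { carrier := {g | g ∈ Subgroup.normalizer (Z₁ : Set G) ∧ g ∈ Subgroup.normalizer (W : Set G) ∧
        ∀ z ∈ Z₁, g * z * g⁻¹ * z⁻¹ ∈ W}
      one_mem' := ⟨one_mem _, one_mem _, fun z _ => by simp⟩
      mul_mem' := fun {g h} hg hh => ⟨mul_mem hg.1 hh.1, mul_mem hg.2.1 hh.2.1, fun z hz => by
        rw [show g * h * z * (g * h)⁻¹ * z⁻¹ =
          g * (h * z * h⁻¹ * z⁻¹) * g⁻¹ * (g * z * g⁻¹ * z⁻¹) by group]
        exact mul_mem (conj_mem_of_normalizer hg.2.1 (hh.2.2 z hz)) (hg.2.2 z hz)⟩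
      inv_mem' := fun {g} hg => ⟨inv_mem hg.1, inv_mem hg.2.1, fun z hz => by
        have := inv_mem (hg.2.2 _ (conj_mem_of_normalizer (inv_mem hg.1) hz))
        convert this using 1
        group⟩ }
  have hΨn : K ⊔ J ≤ Subgroup.normalizer (Ψ : Set G) := fun x hx => by
    refine mem_normalizer_of_map_le fun g hg => ⟨mul_mem (mul_mem (hZ₁n hx) hg.1)
      (inv_mem (hZ₁n hx)), mul_mem (mul_mem (hKJW hx) hg.2.1) (inv_mem (hKJW hx)),
      fun z hz => ?_⟩
    rw [show x * g * x⁻¹ * z * (x * g * x⁻¹)⁻¹ * z⁻¹ =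
      x * (g * (x⁻¹ * z * x⁻¹⁻¹) * g⁻¹ * (x⁻¹ * z * x⁻¹⁻¹)⁻¹) * x⁻¹ by group]
    exact conj_mem_of_normalizer (hKJW hx)
      (hg.2.2 _ (conj_mem_of_normalizer (inv_mem (hZ₁n hx)) hz))
  have haΨ : a ∈ Ψ := ⟨hZ₁n (Subgroup.mem_sup_right haJ), hanW, fun z hz => by
    have hzA := PLocal.zIn_le hA'max hz
    rw [← SetLike.mem_coe, Subgroup.coe_mul_of_left_le_normalizer_right CA W
      (inf_le_left.trans (hAJ.trans (le_sup_right.trans hKJW)))] at hzA
    obtain ⟨c, hc, w, hw, rfl⟩ := hzA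
    have e : a * (c * w) * a⁻¹ * (c * w)⁻¹ = c * (a * w * a⁻¹ * w⁻¹) * c⁻¹ := by
      calc a * (c * w) * a⁻¹ * (c * w)⁻¹ = (a * c) * w * a⁻¹ * w⁻¹ * c⁻¹ := by group
        _ = (c * a) * w * a⁻¹ * w⁻¹ * c⁻¹ := by rw [hAcomm a haA c hc.1]
        _ = c * (a * w * a⁻¹ * w⁻¹) * c⁻¹ := by group
    simp only
    rw [e]
    exact conj_mem_of_normalizer (hKJW (Subgroup.mem_sup_right (hAJ hc.1)))
      (mul_mem (conj_mem_of_normalizer hanW hw) (inv_mem hw))⟩
  -- an element `k` of order `3` inverted by `a`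
  have hanK : a ∈ Subgroup.normalizer (K : Set G) := hJK haJ
  have hyK : ∀ x ∈ K, a * x * a⁻¹ * x⁻¹ ∈ K := fun x hx =>
    mul_mem (conj_mem_of_normalizer hanK hx) (inv_mem hx)
  obtain ⟨x, hxK, hxQ⟩ : ∃ x ∈ K, a * x * a⁻¹ * x⁻¹ ∉ Q := by
    by_contra hcon
    push Not at hcon
    refine jc_k_not_centralizes_w hK ?_
    conv_lhs => rw [← hK.1]
    rw [Subgroup.closure_le]
    rintro g ⟨hgK, hgo⟩
    have hgn : g ∈ Subgroup.normalizer (W : Set G) := hKJW (Subgroup.mem_sup_left hgK)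
    refine four_odd_fix h4 hexp hgo hgn hw₀W hw₀1 ?_
    refine (hCWa _ (conj_mem_of_normalizer hgn hw₀W) ?_).resolve_left
      fun h => hw₀1 (conj_eq_one_iff.mp h)
    have hc := Subgroup.mem_centralizer_iff.mp (jc_q_le_centralizer_w (hcon g hgK)) _
      (conj_mem_of_normalizer hgn hw₀W)
    calc a * (g * w₀ * g⁻¹) * a⁻¹
        = (a * g * a⁻¹ * g⁻¹) * (g * (a * w₀ * a⁻¹) * g⁻¹) * (a * g * a⁻¹ * g⁻¹)⁻¹ := by group
      _ = g * w₀ * g⁻¹ := by rw [haw₀, ← hc]; group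
  set y := a * x * a⁻¹ * x⁻¹ with hy
  have hyK' : y ∈ K := hyK x hxK
  have hyΨ : y ∈ Ψ := by
    rw [hy, show a * x * a⁻¹ * x⁻¹ = a * (x * a⁻¹ * x⁻¹) by group]
    exact mul_mem haΨ (conj_mem_of_normalizer (hΨn (Subgroup.mem_sup_left hxK)) (inv_mem haΨ))
  have hy3 : y ^ 3 ∈ Q := by
    haveI : (Q.subgroupOf K).Normal :=
      ⟨fun m hm g => show (g : G) * m * (g : G)⁻¹ ∈ Q from
        conj_mem_of_normalizer (jc_k_le_normalizer_q g.2) hm⟩
    have h := Subgroup.pow_index_mem (Q.subgroupOf K) (⟨y, hyK'⟩ : ↥K)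
    rwa [show (Q.subgroupOf K).index = 3 from hK.2.2.1] at h
  obtain ⟨m, hm⟩ := hQ2 ⟨_, hy3⟩
  have hm' : (y ^ 3) ^ 2 ^ m = 1 := congrArg Subtype.val hm
  set k := y ^ 2 ^ m with hk
  have hk3 : k ^ 3 = 1 := by rw [hk, ← pow_mul, mul_comm, pow_mul, hm']
  have hko : Odd (orderOf k) := Odd.of_dvd_nat (by decide) (orderOf_dvd_of_pow_eq_one hk3)
  have hkK : k ∈ K := pow_mem hyK' _
  have hkΨ : k ∈ Ψ := pow_mem hyΨ _
  have hkQ : k ∉ Q := fun h => by
    have hk1 : k = 1 := eq_one_of_isPGroup hQ2 h (Nat.coprime_two_right.mpr hko)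
    obtain ⟨n, hn⟩ := IsPGroup.iff_orderOf.mp hQ2 (1 : ↥Q)
    apply hxQ
    have hc : Nat.Coprime 3 (orderOf y) :=
      Nat.Coprime.coprime_dvd_right (orderOf_dvd_of_pow_eq_one (hk.symm.trans hk1))
        (Nat.Coprime.pow_right m (by decide))
    obtain ⟨r, hr⟩ := exists_pow_eq_self_of_coprime hc
    exact hr ▸ pow_mem hy3 r
  have hak : a * k * a⁻¹ = k⁻¹ := by
    have hy' : a * y * a⁻¹ = y⁻¹ := by
      rw [hy, show a * (a * x * a⁻¹ * x⁻¹) * a⁻¹ = (a * a) * x * a⁻¹ * x⁻¹ * a⁻¹ by group, haa,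
        hainv]
      rw [show (a * x * a * x⁻¹)⁻¹ = x * a⁻¹ * x⁻¹ * a⁻¹ by group, hainv, one_mul]
    rw [hk, ← conj_pow, hy', inv_pow]
  have hkW : k ∈ Subgroup.normalizer (W : Set G) := hkΨ.2.1
  have hfpf : ∀ w ∈ W, k * w * k⁻¹ = w → w = 1 := fun w hw h => by
    by_contra hw1
    exact hkQ (jc_centralizer_w hK hkK (four_odd_fix h4 hexp hko hkW hw hw1 h))
  -- the decomposition
  refine le_antisymm (sup_le inf_le_left inf_le_left) fun z hz => ?_
  obtain ⟨w, hwW, hwd⟩ : ∃ w ∈ W, k * w * k⁻¹ * w⁻¹ = k * z * k⁻¹ * z⁻¹ := by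
    let f : ↥W → ↥W := fun w => ⟨k * w * k⁻¹ * (w : G)⁻¹,
      mul_mem (conj_mem_of_normalizer hkW w.2) (inv_mem w.2)⟩
    have hf : Function.Injective f := fun w w' h => by
      have h' : k * (w : G) * k⁻¹ * (w : G)⁻¹ = k * w' * k⁻¹ * (w' : G)⁻¹ := congrArg Subtype.val h
      refine Subtype.ext (inv_mul_eq_one.mp
        (hfpf _ (mul_mem (inv_mem w'.2) w.2) ?_ : (w' : G)⁻¹ * w = 1)).symm
      calc k * ((w' : G)⁻¹ * w) * k⁻¹
          = (k * (w' : G)⁻¹ * k⁻¹) * (k * w * k⁻¹ * (w : G)⁻¹) * w := by group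
        _ = (k * (w' : G)⁻¹ * k⁻¹) * (k * w' * k⁻¹ * (w' : G)⁻¹) * w := by rw [h']
        _ = (w' : G)⁻¹ * w := by group
    obtain ⟨w, hw⟩ := (Finite.injective_iff_surjective.mp hf)
      ⟨_, hkΨ.2.2 z (hZ₀₁ hz)⟩
    exact ⟨w, w.2, congrArg Subtype.val hw⟩
  set c := w⁻¹ * z with hc
  have hkc : k * c * k⁻¹ = c := by
    calc k * c * k⁻¹ = ((k * w * k⁻¹ * w⁻¹) * w)⁻¹ * ((k * z * k⁻¹ * z⁻¹) * z) := by
          rw [hc]; group
      _ = w⁻¹ * z := by
          rw [← hwd]; group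
  have hwfix : a * w * a⁻¹ = w := by
    have he : a * c * a⁻¹ * c⁻¹ = (a * w⁻¹ * a⁻¹) * w := by
      rw [hc, show a * (w⁻¹ * z) * a⁻¹ * (w⁻¹ * z)⁻¹ =
        (a * w⁻¹ * a⁻¹) * (a * z * a⁻¹) * z⁻¹ * w by group, hfixa z hz]
      group
    have hkc' : k * (a * c * a⁻¹) * k⁻¹ = a * c * a⁻¹ := by
      have hka : k * a = a * k⁻¹ := by
        rw [← hak, show a * (a * k * a⁻¹) = (a * a) * k * a⁻¹ by group, haa, hainv, one_mul]
      have hkc2 : k⁻¹ * c * k = c := by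
        conv_lhs => rw [← hkc]
        group
      calc k * (a * c * a⁻¹) * k⁻¹ = (k * a) * c * (k * a)⁻¹ := by group
        _ = a * (k⁻¹ * c * k) * a⁻¹ := by rw [hka]; group
        _ = a * c * a⁻¹ := by rw [hkc2]
    have h1 : a * w⁻¹ * a⁻¹ * w = 1 := by
      refine hfpf _ (mul_mem (conj_mem_of_normalizer hanW (inv_mem hwW)) hwW) ?_
      rw [← he, show k * (a * c * a⁻¹ * c⁻¹) * k⁻¹ =
        (k * (a * c * a⁻¹) * k⁻¹) * (k * c * k⁻¹)⁻¹ by group, hkc', hkc]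
    calc a * w * a⁻¹ = (a * w * a⁻¹) * (a * w⁻¹ * a⁻¹ * w) := by rw [h1, mul_one]
      _ = w := by group
  have hwZ : w ∈ Cfsg.omegaCenterOf J ⊓ W := (hZWset w).mpr (hCWa w hwW hwfix)
  have hcZ : c ∈ Cfsg.omegaCenterOf J := mul_mem (inv_mem hwZ.1) hz
  have hcJ := (mem_omegaCenterOf_iff.mp hcZ).2.1
  have hcQ : Q ≤ Subgroup.centralizer ({c} : Set G) := by
    have heW : ∀ q ∈ Q, q * c * q⁻¹ * c⁻¹ = 1 ∨ q * c * q⁻¹ * c⁻¹ = w₀ := fun q hq => by
      refine (hZWset _).mp ⟨(mul_mem (conj_mem_of_normalizer ?_ hcZ) (inv_mem hcZ) :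
        q * c * q⁻¹ * c⁻¹ ∈ Cfsg.omegaCenterOf J), ?_⟩
      · refine normalizer_le_normalizer_omegaCenterOf _ ?_
        rw [← hJSeq]
        exact normalizer_le_normalizer_thompson 2 S (Subgroup.le_normalizer (hQS hq))
      · exact (jc_le_of_normalized hK (le_sup_left.trans hΨn) hkΨ hkK hkQ (hQK hq)).2.2 c
          (hZ₀₁ hcZ)
    intro q hq
    rcases heW q hq with h | h
    · exact Subgroup.mem_centralizer_singleton_iff.mpr (commute_of_commutator_eq_one h)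
    · rcases heW _ (conj_mem_of_normalizer (jc_k_le_normalizer_q hkK) hq) with h' | h'
      all_goals
        have hkey : k * q * k⁻¹ * c * (k * q * k⁻¹)⁻¹ * c⁻¹ =
            k * (q * c * q⁻¹ * c⁻¹) * k⁻¹ := by
          have hkc2 : k⁻¹ * c * k = c := by
            conv_lhs => rw [← hkc]
            group
          calc k * q * k⁻¹ * c * (k * q * k⁻¹)⁻¹ * c⁻¹
              = k * (q * (k⁻¹ * c * k) * q⁻¹) * k⁻¹ * c⁻¹ := by group
            _ = k * (q * c * q⁻¹) * k⁻¹ * (k * c * k⁻¹)⁻¹ := by rw [hkc2, hkc]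
            _ = k * (q * c * q⁻¹ * c⁻¹) * k⁻¹ := by group
        rw [hkey, h] at h'
      · exact absurd (conj_eq_one_iff.mp h') hw₀1
      · exact absurd (hfpf _ hw₀W h') hw₀1
  have hcK : K ≤ Subgroup.centralizer ({c} : Set G) :=
    jc_le_of_mem hK hcQ (Subgroup.mem_centralizer_singleton_iff.mpr (by
      calc k * c = (k * c * k⁻¹) * k := by group
        _ = c * k := by rw [hkc])) hkK hkQ
  have hzwc : z = w * c := by rw [hc]; group
  rw [hzwc]
  refine mul_mem (Subgroup.mem_sup_right hwZ) (Subgroup.mem_sup_left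
    ⟨hcZ, Subgroup.mem_sup_right (omegaCenterOf_le _ hcZ), ?_⟩)
  have hall : K ⊔ J ≤ Subgroup.centralizer ({c} : Set G) := sup_le hcK fun j hj =>
    Subgroup.mem_centralizer_singleton_iff.mpr (hcJ j hj)
  intro g hg
  rcases hg with hg | hg
  · exact Subgroup.mem_centralizer_singleton_iff.mp (hall (Subgroup.mem_sup_left hg))
  · exact Subgroup.mem_centralizer_singleton_iff.mp (hall (Subgroup.mem_sup_right hg))

end Cfsg.Agent.S2946
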