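import Cfsg.Statements.S1496
import Mathlib.GroupTheory.OrderOfElement
import Mathlib.Data.Nat.ChineseRemainder
import Mathlib.Tactic
import Mathlib.Algebra.Order.BigOperators.Group.Finset

set_option autoImplicit false
open Cfsg

namespace Cfsg.Agent.S1496

/-- Let H be a subgroup of the finite group G and g an element normalising H whose order is coprime to the order of H. Then for every h ∈ H there are x ∈ H and c ∈ H commuting with g such that x * (h * g) * x⁻¹ = c * g. -/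
theorem result {G : Type*} [Group G] [Finite G] (H : Subgroup G) (g : G) (hg : g ∈ Subgroup.normalizer (H : Set G)) (hcop : Nat.Coprime (orderOf g) (Nat.card H)) (h : G) (hh : h ∈ H) : ∃ x ∈ H, ∃ c ∈ H, c * g = g * c ∧ x * (h * g) * x⁻¹ = c * g := by
  classical
  haveI := Fintype.ofFinite G
  have hn : ∀ x ∈ H, g * x * g⁻¹ ∈ H := fun x hx => (Subgroup.mem_set_normalizer_iff.mp hg x).mp hx
  set C : Subgroup G := H ⊓ Subgroup.centralizer ({g} : Set G) with hC
  have memC : ∀ c, c ∈ C ↔ c ∈ H ∧ c * g = g * c := fun c => by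
    rw [hC, Subgroup.mem_inf, Subgroup.mem_centralizer_singleton_iff]
  let f : H × C → H := fun xc => ⟨(xc.1 : G) * xc.2 * (g * (xc.1 : G)⁻¹ * g⁻¹),
    H.mul_mem (H.mul_mem xc.1.2 ((memC _).mp xc.2.2).1) (hn _ (H.inv_mem xc.1.2))⟩
  have hf : ∀ x : H, ∀ c : C, (f (x, c) : G) * g = x * (c * g) * (x : G)⁻¹ := fun x c => by
    simp only [f]; group
  have hfib : ∀ b ∈ Finset.univ.image f, (Finset.univ.filter fun a => f a = b).card ≤ Nat.card C := by
    intro b hb
    obtain ⟨⟨x₀, c₀⟩, -, rfl⟩ := Finset.mem_image.mp hb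
    have key : ∀ a : H × C, f a = f (x₀, c₀) →
        ((x₀ : G)⁻¹ * a.1) * g = g * ((x₀ : G)⁻¹ * a.1) ∧
        (c₀ : G) * ((x₀ : G)⁻¹ * a.1) = ((x₀ : G)⁻¹ * a.1) * a.2 := by
      rintro ⟨x, c⟩ he
      set u := (x₀ : G)⁻¹ * x with hu
      have he' : (x : G) * (c * g) * (x : G)⁻¹ = x₀ * (c₀ * g) * (x₀ : G)⁻¹ := by
        rw [← hf, ← hf, he]
      have h1 : u * (c * g) * u⁻¹ = c₀ * g := by
        calc u * (c * g) * u⁻¹ = (x₀ : G)⁻¹ * ((x : G) * (c * g) * (x : G)⁻¹) * x₀ := by rw [hu]; group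
          _ = _ := by rw [he']; group
      obtain ⟨n, hn1, hn2⟩ := Nat.chineseRemainder hcop 1 0
      have hpow : ∀ d : C, ((d : G) * g) ^ n = g := fun d => by
        rw [(show Commute (d : G) g from ((memC _).mp d.2).2).mul_pow]
        have e1 : (d : G) ^ n = 1 := by
          rw [← orderOf_dvd_iff_pow_eq_one]
          exact (H.orderOf_dvd_natCard ((memC _).mp d.2).1).trans (Nat.modEq_zero_iff_dvd.mp hn2)
        have e2 : g ^ n = g := by
          conv_rhs => rw [← pow_one g]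
          exact pow_eq_pow_iff_modEq.mpr hn1
        rw [e1, e2, one_mul]
      have h2 : u * g * u⁻¹ = g := by
        calc u * g * u⁻¹ = (u * (c * g) * u⁻¹) ^ n := by rw [conj_pow, hpow]
          _ = g := by rw [h1, hpow]
      have h3 : u * g = g * u := mul_inv_eq_iff_eq_mul.mp h2
      refine ⟨h3, ?_⟩
      have h4 : u * (c * g) = c₀ * g * u := mul_inv_eq_iff_eq_mul.mp h1
      have h5 : u * c * g = c₀ * u * g := by rw [mul_assoc, h4, mul_assoc, ← h3, ← mul_assoc]
      exact (mul_right_cancel h5).symm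
    have hm : ∀ a : H × C, f a = f (x₀, c₀) → (x₀ : G)⁻¹ * a.1 ∈ C := fun a ha =>
      (memC _).mpr ⟨H.mul_mem (H.inv_mem x₀.2) a.1.2, (key a ha).1⟩
    rw [← Fintype.card_subtype, Nat.card_eq_fintype_card]
    refine Fintype.card_le_of_injective
      (fun a : {a : H × C // f a = f (x₀, c₀)} => (⟨_, hm a.1 a.2⟩ : C)) ?_
    rintro ⟨⟨x, c⟩, ha⟩ ⟨⟨y, d⟩, hb'⟩ e
    have e' : (x₀ : G)⁻¹ * x = (x₀ : G)⁻¹ * y := congrArg Subtype.val e
    have ex : x = y := Subtype.ext (mul_left_cancel e')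
    subst ex
    have : (c : G) = d := mul_left_cancel ((key _ ha).2.symm.trans (key _ hb').2)
    exact Subtype.ext (Prod.ext rfl (Subtype.ext this))
  have hle := Finset.card_le_mul_card_image Finset.univ (Nat.card C) hfib
  rw [Finset.card_univ, Fintype.card_prod, Nat.card_eq_fintype_card, mul_comm] at hle
  have hsurj : Finset.univ.image f = Finset.univ :=
    Finset.eq_univ_of_card _ (le_antisymm (Finset.card_le_univ _)
      (Nat.le_of_mul_le_mul_left hle Fintype.card_pos))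
  obtain ⟨⟨x, c⟩, -, hxc⟩ := Finset.mem_image.mp (hsurj.symm ▸ Finset.mem_univ (⟨h, hh⟩ : H))
  refine ⟨(x : G)⁻¹, H.inv_mem x.2, c, ((memC _).mp c.2).1, ((memC _).mp c.2).2, ?_⟩
  have he := hf x c
  rw [hxc] at he
  calc (x : G)⁻¹ * (h * g) * ((x : G)⁻¹)⁻¹ = (x : G)⁻¹ * (h * g) * x := by rw [inv_inv]
    _ = _ := by rw [he]; group

end Cfsg.Agent.S1496
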