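import Cfsg.Statements.S1516
import Cfsg.Agent.Lib.OddChar.CohSys

set_option autoImplicit false
open Cfsg

namespace Cfsg.Agent.S1516

open Cfsg.Agent.Lib.Characters Cfsg.Agent.Lib.OddChar

/-- Let (S, τ, R) be a coherence system from L to G with degrees φ 1 = d φ and squared norms ⟨φ, φ⟩ = n φ for φ ∈ S. Let S₁ ⊆ S be a finite subset closed under complex conjugation such that (S₁, L minus 1, τ) is coherent, let χ ∈ S with χ ∉ S₁ and conj χ ∉ S₁, and let χ₁ ∈ S₁ with d χ₁ dividing d χ and 2 d χ d χ₁ < Σ_{φ ∈ S₁} (d φ)² / n φ. Then S₁ together with χ and conj χ is coherent. -/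
theorem result {L : Type*} [Group L] [Fintype L] {G : Type*} [Group G] [Fintype G] (S : Set (L → ℂ)) (τ : (L → ℂ) → (G → ℂ)) (R : (L → ℂ) → Finset (G → ℂ)) (hS : Cfsg.IsCoherenceSystem S τ R) (d n : (L → ℂ) → ℕ) (hd : ∀ φ ∈ S, φ 1 = (d φ : ℂ)) (hn : ∀ φ ∈ S, Cfsg.classInner φ φ = (n φ : ℂ)) (S₁ : Finset (L → ℂ)) (hS₁ : ↑S₁ ⊆ S) (hS₁c : ∀ φ ∈ S₁, Cfsg.conjFun φ ∈ S₁) (hcoh : Cfsg.IsCoherent (↑S₁ : Set (L → ℂ)) {1}ᶜ τ) (χ : L → ℂ) (hχ : χ ∈ S) (hχ₁ : χ ∉ S₁) (hχ₂ : Cfsg.conjFun χ ∉ S₁) (χ₁ : L → ℂ) (hχ₁S : χ₁ ∈ S₁) (hdvd : d χ₁ ∣ d χ) (hineq : (2 * d χ * d χ₁ : ℝ) < ∑ φ ∈ S₁, ((d φ : ℝ) ^ 2 / (n φ : ℝ))) : Cfsg.IsCoherent (↑S₁ ∪ {χ, Cfsg.conjFun χ} : Set (L → ℂ)) {1}ᶜ τ := by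
  classical
  obtain ⟨-, τ₁, hτ₁, hagree⟩ := hcoh
  obtain ⟨n₀, hn₀, hχn, hχn'⟩ := sys_norm hS hχ
  have hmem : ∀ φ ∈ S₁, φ ∈ Cfsg.zspan (↑S₁ : Set (L → ℂ)) := fun φ hφ => Submodule.subset_span hφ
  have hnpos : ∀ φ ∈ S₁, 0 < n φ := by
    intro φ hφ
    refine Nat.pos_of_ne_zero fun h => sys_ne_zero hS (hS₁ hφ) (classInner_self_eq_zero ?_)
    rw [hn φ (hS₁ hφ), h, Nat.cast_zero]
  have hdpos : ∀ φ ∈ S, 0 < d φ := by
    intro φ hφ
    refine Nat.pos_of_ne_zero fun h => sys_ne_zero hS hφ ?_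
    funext x
    have := IsCharacter.norm_le (hS.isCharacter φ hφ) x
    simpa [hd φ hφ, h] using this
  have hne₁ : ∀ φ ∈ S₁, φ ≠ χ ∧ φ ≠ Cfsg.conjFun χ := fun φ hφ =>
    ⟨fun e => hχ₁ (e ▸ hφ), fun e => hχ₂ (e ▸ hφ)⟩
  -- images of the coherent set avoid the block of χ
  have havoid : ∀ φ ∈ S₁, ∀ β ∈ R χ, Cfsg.classInner (τ₁ φ) β = 0 := by
    intro φ hφ β hβ
    have hφS := hS₁ hφ
    have hc := hS₁c φ hφ
    have hdiff : φ - Cfsg.conjFun φ ∈ Cfsg.zspanOn (↑S₁ : Set (L → ℂ)) {1}ᶜ :=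
      mem_zspanOn_one.mpr ⟨Submodule.sub_mem _ (hmem φ hφ) (hmem _ hc),
        by simp [Cfsg.conjFun, hd φ hφS]⟩
    have hsum : Cfsg.classInner (τ₁ φ) (∑ α ∈ R φ, α) = (n φ : ℂ) := by
      rw [← hS.sum_eq φ hφS, ← hagree _ hdiff, hτ₁.2.2.1 _ (hmem φ hφ) _ hdiff.1, classInner_sub_right,
        hn φ hφS, (sys_orth_conj hS hφS).1, sub_zero]
    obtain ⟨a, ha, -, ha2⟩ := half_coef (hS.virtual φ hφS) (hτ₁.2.2.2 _ (hmem φ hφ)) hsum
    have heq := bessel_eq (fun α : R φ => (α : G → ℂ)) (fun _ => (1 : ℝ)) (fun _ => one_ne_zero)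
      (fun i j => by simp only [hS.orthonormal φ hφS i i.2 j j.2, Subtype.coe_inj, Complex.ofReal_one])
      (τ₁ φ) (n φ : ℝ) (by rw [hτ₁.2.2.1 _ (hmem φ hφ) _ (hmem φ hφ), hn φ hφS]; simp)
      (fun α => (a α : ℝ)) (fun α => by rw [ha]; simp) (by
        simp only [div_one]
        exact_mod_cast ha2)
    rw [heq, classInner_sum_left]
    refine Finset.sum_eq_zero fun α _ => ?_
    rw [classInner_smul_left, sys_R_disjoint hS hχ hφS (hne₁ φ hφ).1 (hne₁ φ hφ).2 α.2 hβ, mul_zero]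
  obtain ⟨m, hm⟩ := hdvd
  have hχ₁' := hS₁ hχ₁S
  have hd₁ := hdpos χ₁ hχ₁'
  have hm0 : 0 < m := by
    rcases Nat.eq_zero_or_pos m with h | h
    · rw [h, mul_zero] at hm; exact absurd hm (hdpos χ hχ).ne'
    · exact h
  have hΘmem : χ - (m : ℂ) • χ₁ ∈ Cfsg.zspanOn S {1}ᶜ := by
    refine mem_zspanOn_one.mpr ⟨Submodule.sub_mem _ (Submodule.subset_span hχ) ?_, ?_⟩
    · have := Submodule.smul_mem (Submodule.span ℤ S) (m : ℤ) (Submodule.subset_span hχ₁')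
      simpa [← Int.cast_smul_eq_zsmul ℂ] using this
    · simp [hd χ hχ, hd χ₁ hχ₁', hm, mul_comm]
  set Θ := τ (χ - (m : ℂ) • χ₁) with hΘ
  have hΘgen : Cfsg.IsGeneralizedCharacter G Θ := hS.isometry.2.2.2 _ hΘmem
  have ho : ∀ φ ∈ S₁, Cfsg.classInner χ φ = 0 ∧ Cfsg.classInner φ χ = 0 ∧
      Cfsg.classInner (Cfsg.conjFun χ) φ = 0 ∧ Cfsg.classInner φ (Cfsg.conjFun χ) = 0 := fun φ hφ =>
    ⟨hS.orthogonal _ hχ _ (hS₁ hφ) (Ne.symm (hne₁ φ hφ).1), hS.orthogonal _ (hS₁ hφ) _ hχ (hne₁ φ hφ).1,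
      hS.orthogonal _ (hS.conj_mem χ hχ) _ (hS₁ hφ) (Ne.symm (hne₁ φ hφ).2),
      hS.orthogonal _ (hS₁ hφ) _ (hS.conj_mem χ hχ) (hne₁ φ hφ).2⟩
  have hR : Cfsg.classInner Θ (∑ α ∈ R χ, α) = (n₀ : ℂ) := by
    rw [hΘ, ← hS.sum_eq χ hχ, hS.isometry.2.2.1 _ hΘmem _ (sys_diff_mem hS hχ), classInner_sub_left,
      classInner_sub_right, classInner_sub_right, classInner_smul_left, classInner_smul_left, hχn,
      (sys_orth_conj hS hχ).1, (ho χ₁ hχ₁S).2.1, (ho χ₁ hχ₁S).2.2.2]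
    ring
  have hΘΘ : Cfsg.classInner Θ Θ = (((n₀ : ℝ) + (m : ℝ) ^ 2 * n χ₁ : ℝ) : ℂ) := by
    rw [hΘ, hS.isometry.2.2.1 _ hΘmem _ hΘmem, classInner_sub_left, classInner_sub_right,
      classInner_sub_right, classInner_smul_left, classInner_smul_left, classInner_smul_right,
      classInner_smul_right, hχn, (ho χ₁ hχ₁S).1, (ho χ₁ hχ₁S).2.1, hn χ₁ hχ₁', map_natCast]
    push_cast
    ring
  obtain ⟨c₁, hc₁⟩ := IsGeneralizedCharacter.exists_classInner_int hΘgen (hτ₁.2.2.2 _ (hmem χ₁ hχ₁S))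
  set a : ℤ := c₁ + (m : ℤ) * n χ₁ with ha
  set cc : (L → ℂ) → ℝ := fun φ =>
    (a : ℝ) * d φ / d χ₁ - (if φ = χ₁ then (m : ℝ) * n χ₁ else 0) with hcc
  have hd₁R : (d χ₁ : ℝ) ≠ 0 := by exact_mod_cast hd₁.ne'
  have hc : ∀ φ ∈ S₁, Cfsg.classInner Θ (τ₁ φ) = (cc φ : ℂ) := by
    intro φ hφ
    by_cases he : φ = χ₁
    · subst he
      rw [hc₁, hcc, ha]
      simp only [if_pos rfl]
      rw [mul_div_assoc, div_self hd₁R]
      push_cast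
      ring
    have hαmem : (d χ₁ : ℂ) • φ - (d φ : ℂ) • χ₁ ∈ Cfsg.zspanOn (↑S₁ : Set (L → ℂ)) {1}ᶜ := by
      refine mem_zspanOn_one.mpr ⟨?_, by simp [hd φ (hS₁ hφ), hd χ₁ hχ₁', mul_comm]⟩
      have := Submodule.sub_mem _ (Submodule.smul_mem _ (d χ₁ : ℤ) (hmem φ hφ))
        (Submodule.smul_mem _ (d φ : ℤ) (hmem χ₁ hχ₁S))
      simpa [← Int.cast_smul_eq_zsmul ℂ, Cfsg.zspan] using this
    have hz1 : (d χ₁ : ℂ) • φ ∈ Cfsg.zspan (↑S₁ : Set (L → ℂ)) := by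
      simpa [← Int.cast_smul_eq_zsmul ℂ, Cfsg.zspan] using Submodule.smul_mem _ (d χ₁ : ℤ) (hmem φ hφ)
    have hz2 : (d φ : ℂ) • χ₁ ∈ Cfsg.zspan (↑S₁ : Set (L → ℂ)) := by
      simpa [← Int.cast_smul_eq_zsmul ℂ, Cfsg.zspan] using Submodule.smul_mem _ (d φ : ℤ) (hmem χ₁ hχ₁S)
    have h := hagree _ hαmem
    have h2 := hS.isometry.2.2.1 _ hΘmem _ (zspanOn_mono hS₁ hαmem)
    rw [← h, iso_sub hτ₁ hz1 hz2 (Submodule.neg_mem _ hz2), iso_smul_nat hτ₁ (hmem φ hφ),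
      iso_smul_nat hτ₁ (hmem χ₁ hχ₁S), ← hΘ] at h2
    simp only [classInner_sub_left, classInner_sub_right, classInner_smul_left, classInner_smul_right,
      map_natCast, (ho φ hφ).1, (ho χ₁ hχ₁S).1, hn χ₁ hχ₁',
      hS.orthogonal _ hχ₁' _ (hS₁ hφ) (Ne.symm he), hc₁] at h2
    rw [hcc, ha]
    simp only [if_neg he]
    have hd₁C : (d χ₁ : ℂ) ≠ 0 := by exact_mod_cast hd₁.ne'
    push_cast
    field_simp
    linear_combination h2
  obtain ⟨b, hb, -, hb2⟩ := half_coef (hS.virtual χ hχ) hΘgen hR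
  -- Bessel against the two blocks
  have ha0 : a = 0 := by
    let e : R χ ⊕ S₁ → (G → ℂ) := Sum.elim (fun α => (α : G → ℂ)) (fun φ => τ₁ φ)
    let N : R χ ⊕ S₁ → ℝ := Sum.elim (fun _ => 1) (fun φ => n φ)
    have hO : ∀ i j, Cfsg.classInner (e i) (e j) = if i = j then (N i : ℂ) else 0 := by
      rintro (i | i) (j | j)
      · simp only [e, N, Sum.elim_inl, hS.orthonormal χ hχ i i.2 j j.2, Sum.inl.injEq,
          Subtype.coe_inj, Complex.ofReal_one]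
      · simp only [e, Sum.elim_inl, Sum.elim_inr, reduceCtorEq, if_false]
        rw [← classInner_conj_symm, havoid _ j.2 _ i.2, map_zero]
      · simp only [e, Sum.elim_inl, Sum.elim_inr, reduceCtorEq, if_false]
        exact havoid _ i.2 _ j.2
      · simp only [e, N, Sum.elim_inr, Sum.inr.injEq]
        rw [hτ₁.2.2.1 _ (hmem _ i.2) _ (hmem _ j.2)]
        split_ifs with h
        · subst h; rw [hn _ (hS₁ i.2)]; simp
        · exact hS.orthogonal _ (hS₁ i.2) _ (hS₁ j.2) fun e => h (Subtype.ext e)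
    have hN : ∀ i, N i ≠ 0 := by
      rintro (i | i)
      · simp [N]
      · simp only [N, Sum.elim_inr]; exact_mod_cast (hnpos _ i.2).ne'
    have hle := bessel_le e N hN hO Θ _ hΘΘ (Sum.elim (fun α => (b α : ℝ)) (fun φ => cc φ)) (by
      rintro (i | i)
      · simp [e, hb]
      · simp [e, hc _ i.2])
    rw [Fintype.sum_sum_type] at hle
    simp only [N, Sum.elim_inl, Sum.elim_inr, div_one] at hle
    rw [Finset.sum_coe_sort S₁ (fun φ => cc φ ^ 2 / (n φ : ℝ))] at hle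
    set T := ∑ φ ∈ S₁, ((d φ : ℝ) ^ 2 / (n φ : ℝ)) with hT
    have hsum : ∑ φ ∈ S₁, cc φ ^ 2 / (n φ : ℝ) =
        (a : ℝ) ^ 2 / (d χ₁ : ℝ) ^ 2 * T - 2 * a * m + (m : ℝ) ^ 2 * n χ₁ := by
      have hpt : ∀ φ ∈ S₁, cc φ ^ 2 / (n φ : ℝ) = (a : ℝ) ^ 2 / (d χ₁ : ℝ) ^ 2 * ((d φ : ℝ) ^ 2 / (n φ : ℝ)) +
          (if φ = χ₁ then -2 * (a : ℝ) * m + (m : ℝ) ^ 2 * n χ₁ else 0) := by
        intro φ hφ
        have : (n φ : ℝ) ≠ 0 := by exact_mod_cast (hnpos φ hφ).ne'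
        simp only [cc]
        split_ifs with h
        · subst h; field_simp; ring
        · field_simp; ring
      rw [Finset.sum_congr rfl hpt, Finset.sum_add_distrib, ← Finset.mul_sum, ← hT, Finset.sum_ite_eq',
        if_pos hχ₁S]
      ring
    rw [hsum] at hle
    have hb2' : (n₀ : ℝ) ≤ ∑ α, (b α : ℝ) ^ 2 := by exact_mod_cast hb2
    have h1 : (a : ℝ) ^ 2 / (d χ₁ : ℝ) ^ 2 * T ≤ 2 * a * m := by linarith
    rw [div_mul_eq_mul_div, div_le_iff₀ (by positivity)] at h1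
    by_contra hne
    have hdχ : (d χ : ℝ) = d χ₁ * m := by exact_mod_cast hm
    rw [hdχ] at hineq
    have hpos : (0 : ℝ) < (d χ₁ : ℝ) ^ 2 * m := by positivity
    have habs : (a : ℝ) ≤ (a : ℝ) ^ 2 := by exact_mod_cast Int.le_self_sq a
    have ha2 : (0 : ℝ) < (a : ℝ) ^ 2 := by
      have : (a : ℝ) ≠ 0 := by exact_mod_cast hne
      positivity
    nlinarith [mul_lt_mul_of_pos_left hineq ha2, mul_le_mul_of_nonneg_left habs hpos.le]
  have hc0 : ∀ φ ∈ S₁, Cfsg.classInner Θ (τ₁ φ) = if φ = χ₁ then -((m : ℂ) * n χ₁) else 0 := by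
    intro φ hφ
    rw [hc φ hφ, hcc, ha0]
    split_ifs with h <;> simp [h]
  set X := Θ + (m : ℂ) • τ₁ χ₁ with hX
  have hXφ : ∀ φ ∈ S₁, Cfsg.classInner X (τ₁ φ) = 0 := by
    intro φ hφ
    rw [hX, classInner_add_left, classInner_smul_left, hc0 φ hφ,
      hτ₁.2.2.1 _ (hmem χ₁ hχ₁S) _ (hmem φ hφ)]
    split_ifs with h
    · subst h; rw [hn _ hχ₁']; ring
    · rw [hS.orthogonal _ hχ₁' _ (hS₁ hφ) (Ne.symm h)]; ring
  have hτ₁R : ∀ φ ∈ S₁, Cfsg.classInner (τ₁ φ) (∑ α ∈ R χ, α) = 0 := fun φ hφ => by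
    rw [classInner_sum_right]; exact Finset.sum_eq_zero fun β hβ => havoid φ hφ β hβ
  have hXR : Cfsg.classInner X (∑ α ∈ R χ, α) = (n₀ : ℂ) := by
    rw [hX, classInner_add_left, classInner_smul_left, hR, hτ₁R _ hχ₁S, mul_zero, add_zero]
  have hXX : Cfsg.classInner X X = (n₀ : ℂ) := by
    have h1 := hXφ χ₁ hχ₁S
    have h2 : Cfsg.classInner X Θ = (n₀ : ℂ) := by
      rw [hX, classInner_add_left, classInner_smul_left, hΘΘ, ← classInner_conj_symm Θ (τ₁ χ₁),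
        hc0 χ₁ hχ₁S, if_pos rfl]
      simp only [map_neg, map_mul, map_natCast]
      push_cast
      ring
    conv_lhs => arg 2; rw [hX]
    rw [classInner_add_right, classInner_smul_right, h1, h2, mul_zero, add_zero]
  have hXgen : Cfsg.IsGeneralizedCharacter G X := by
    refine IsGeneralizedCharacter.add hΘgen ?_
    simpa using IsGeneralizedCharacter.intCast_smul (hτ₁.2.2.2 _ (hmem χ₁ hχ₁S)) (m : ℤ)
  set P := ∑ α ∈ R χ, α with hP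
  have hPgen : Cfsg.IsGeneralizedCharacter G P := IsGeneralizedCharacter.sum _ (hS.virtual χ hχ)
  set S' : Set (L → ℂ) := ↑S₁ ∪ {χ, Cfsg.conjFun χ} with hS'
  have hsub : S' ⊆ S := Set.union_subset hS₁ (Set.insert_subset hχ (Set.singleton_subset_iff.mpr (hS.conj_mem χ hχ)))
  have hcases : ∀ φ ∈ S', φ ∈ S₁ ∨ φ = χ ∨ φ = Cfsg.conjFun χ := fun φ hφ => by
    rcases hφ with h | h | h
    exacts [Or.inl h, Or.inr (Or.inl h), Or.inr (Or.inr h)]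
  have hχS' : χ ∈ S' := Or.inr (Or.inl rfl)
  have hχS'' : Cfsg.conjFun χ ∈ S' := Or.inr (Or.inr rfl)
  obtain ⟨T, hT⟩ := exists_linear_ext (fun φ hφ ψ hψ => hS.orthogonal φ (hsub hφ) ψ (hsub hψ))
    (fun φ hφ => sys_ne_zero hS (hsub hφ))
    (fun φ => if φ = χ then X else if φ = Cfsg.conjFun χ then X - P else τ₁ φ)
  have hTχ : T χ = X := by rw [hT χ hχS', if_pos rfl]
  have hTχ' : T (Cfsg.conjFun χ) = X - P := by
    rw [hT _ hχS'', if_neg (hS.conj_ne χ hχ), if_pos rfl]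
  have hTφ : ∀ φ ∈ S₁, T φ = τ₁ φ := fun φ hφ => by
    rw [hT φ (Or.inl hφ), if_neg (hne₁ φ hφ).1, if_neg (hne₁ φ hφ).2]
  have hPX : Cfsg.classInner P X = (n₀ : ℂ) := by rw [← classInner_conj_symm, hXR, map_natCast]
  have hPP : Cfsg.classInner P P = ((2 * n₀ : ℕ) : ℂ) := sys_sum_norm hS hχ hχn
  have hφX : ∀ φ ∈ S₁, Cfsg.classInner (τ₁ φ) X = 0 := fun φ hφ => by
    rw [← classInner_conj_symm, hXφ φ hφ, map_zero]
  have hPφ : ∀ φ ∈ S₁, Cfsg.classInner P (τ₁ φ) = 0 := fun φ hφ => by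
    rw [← classInner_conj_symm, hτ₁R φ hφ, map_zero]
  refine ⟨⟨χ - Cfsg.conjFun χ, mem_zspanOn_one.mpr ⟨Submodule.sub_mem _ (Submodule.subset_span hχS')
    (Submodule.subset_span hχS''), by simp [Cfsg.conjFun, hd χ hχ]⟩,
    sub_ne_zero.mpr (hS.conj_ne χ hχ).symm⟩, T, isometry_of_gens T ?_ ?_, ?_⟩
  · intro φ hφ ψ hψ
    rcases hcases φ hφ with hp | rfl | rfl <;> rcases hcases ψ hψ with hq | rfl | rfl
    · rw [hTφ _ hp, hTφ _ hq, hτ₁.2.2.1 _ (hmem _ hp) _ (hmem _ hq)]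
    · rw [hTφ _ hp, hTχ, hφX _ hp, (ho _ hp).2.1]
    · rw [hTφ _ hp, hTχ', classInner_sub_right, hφX _ hp, hτ₁R _ hp, (ho _ hp).2.2.2, sub_zero]
    · rw [hTχ, hTφ _ hq, hXφ _ hq, (ho _ hq).1]
    · rw [hTχ, hXX, hχn]
    · rw [hTχ, hTχ', classInner_sub_right, hXX, hXR, (sys_orth_conj hS hχ).1, sub_self]
    · rw [hTχ', hTφ _ hq, classInner_sub_left, hXφ _ hq, hPφ _ hq, (ho _ hq).2.2.1, sub_zero]
    · rw [hTχ', hTχ, classInner_sub_left, hXX, hPX, (sys_orth_conj hS hχ).2, sub_self]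
    · rw [hTχ', classInner_sub_left, classInner_sub_right, classInner_sub_right, hXX, hXR, hPX, hPP,
        hχn']
      push_cast
      ring
  · intro φ hφ
    rcases hcases φ hφ with hp | rfl | rfl
    · rw [hTφ _ hp]; exact hτ₁.2.2.2 _ (hmem _ hp)
    · rw [hTχ]; exact hXgen
    · rw [hTχ']; exact IsGeneralizedCharacter.sub hXgen hPgen
  · intro α hα
    have key : ∀ β ∈ Cfsg.zspan (↑S₁ : Set (L → ℂ)), T β = τ₁ β := by
      intro β hβ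
      induction hβ using Submodule.span_induction with
      | mem x hx => exact hTφ x hx
      | zero =>
        rw [map_zero]
        have := hτ₁.2.1 _ (hmem χ₁ hχ₁S) 0
        simpa using this.symm
      | add y z hy' hz' hy hz => rw [map_add, hy, hz, hτ₁.1 _ hy' _ hz']
      | smul k y hy' hy => rw [map_zsmul, hy, hτ₁.2.1 _ hy']
    obtain ⟨hαz, hα1⟩ := mem_zspanOn_one.mp hα
    rw [hS', Cfsg.zspan, Submodule.span_union, SetLike.mem_coe, Submodule.mem_sup] at hαz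
    obtain ⟨r, hr, s, hs, rfl⟩ := hαz
    obtain ⟨i, j, rfl⟩ := Submodule.mem_span_pair.mp hs
    set D1 := χ - (m : ℂ) • χ₁ with hD1
    set D2 := D1 - (χ - Cfsg.conjFun χ) with hD2
    have hD2mem : D2 ∈ Cfsg.zspanOn S {1}ᶜ := zspanOn_sub hΘmem (sys_diff_mem hS hχ)
    set r' := r + ((i + j) * (m : ℤ)) • χ₁ with hr'
    have hdec : r + (i • χ + j • Cfsg.conjFun χ) = r' + (i • D1 + j • D2) := by
      funext x
      simp only [hr', hD2, hD1, Pi.add_apply, Pi.sub_apply, Pi.smul_apply, zsmul_eq_mul, smul_eq_mul,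
        Pi.mul_apply, Pi.intCast_apply]
      push_cast
      ring
    have hij : i • D1 + j • D2 ∈ Cfsg.zspanOn S {1}ᶜ :=
      zspanOn_add (zspanOn_smul i hΘmem) (zspanOn_smul j hD2mem)
    have hr'mem : r' ∈ Cfsg.zspanOn (↑S₁ : Set (L → ℂ)) {1}ᶜ := by
      refine mem_zspanOn_one.mpr ⟨Submodule.add_mem _ hr (Submodule.smul_mem _ _ (hmem χ₁ hχ₁S)), ?_⟩
      have h1 := hα1
      rw [hdec, Pi.add_apply, (mem_zspanOn_one.mp hij).2, add_zero] at h1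
      exact h1
    have hTD1 : T D1 = τ D1 := by
      rw [hD1, map_sub, map_smul, hTχ, hTφ _ hχ₁S, hX, ← hΘ]
      abel
    have hTD2 : T D2 = τ D2 := by
      rw [hD2, map_sub, hTD1, map_sub, hTχ, hTχ', iso_sub hS.isometry hΘmem (sys_diff_mem hS hχ)
        (by simpa using zspanOn_smul (-1) (sys_diff_mem hS hχ)), hS.sum_eq χ hχ]
      abel
    show T (r + (i • χ + j • Cfsg.conjFun χ)) = τ (r + (i • χ + j • Cfsg.conjFun χ))
    rw [hdec, map_add, key r' hr'mem.1, hagree r' hr'mem, hS.isometry.1 _ (zspanOn_mono hS₁ hr'mem) _ hij,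
      hS.isometry.1 _ (zspanOn_smul i hΘmem) _ (zspanOn_smul j hD2mem),
      hS.isometry.2.1 _ hΘmem, hS.isometry.2.1 _ hD2mem, map_add, map_zsmul, map_zsmul, hTD1, hTD2]

end Cfsg.Agent.S1516
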