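import Cfsg.Statements.S1517
import Cfsg.Agent.Lib.OddChar.CohSys

set_option autoImplicit false
open Cfsg

namespace Cfsg.Agent.S1517

open Cfsg.Agent.Lib.Characters Cfsg.Agent.Lib.OddChar

/-- Let (S, τ, R) be a coherence system from L to G such that φ 1 = ψ 1 for all φ, ψ ∈ S. Then (S, L minus 1, τ) is coherent. -/
theorem result {L : Type*} [Group L] [Fintype L] {G : Type*} [Group G] [Fintype G] (S : Set (L → ℂ)) (τ : (L → ℂ) → (G → ℂ)) (R : (L → ℂ) → Finset (G → ℂ)) (hS : Cfsg.IsCoherenceSystem S τ R) (hdeg : ∀ φ ∈ S, ∀ ψ ∈ S, φ 1 = ψ 1) : Cfsg.IsCoherent S {1}ᶜ τ := by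
  classical
  obtain ⟨χ, hχ⟩ := hS.nonempty
  refine ⟨⟨χ - Cfsg.conjFun χ, sys_diff_mem hS hχ, sub_ne_zero.mpr (hS.conj_ne χ hχ).symm⟩, ?_⟩
  obtain ⟨n, hn0, hn, hn'⟩ := sys_norm hS hχ
  have hθmem : ∀ ψ ∈ S, χ - ψ ∈ Cfsg.zspanOn S {1}ᶜ := fun ψ hψ =>
    mem_zspanOn_one.mpr ⟨Submodule.sub_mem _ (Submodule.subset_span hχ) (Submodule.subset_span hψ),
      by simp [hdeg χ hχ ψ hψ]⟩
  have hθgen : ∀ ψ ∈ S, Cfsg.IsGeneralizedCharacter G (τ (χ - ψ)) :=
    fun ψ hψ => hS.isometry.2.2.2 _ (hθmem ψ hψ)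
  have hθθ : ∀ φ ∈ S, ∀ ψ ∈ S, Cfsg.classInner (τ (χ - φ)) (τ (χ - ψ)) =
      (n : ℂ) - Cfsg.classInner χ ψ - Cfsg.classInner φ χ + Cfsg.classInner φ ψ := fun φ hφ ψ hψ => by
    rw [hS.isometry.2.2.1 _ (hθmem φ hφ) _ (hθmem ψ hψ), classInner_sub_left, classInner_sub_right,
      classInner_sub_right, hn]
    ring
  have hsum : ∀ ψ ∈ S, ψ ≠ χ → ψ ≠ Cfsg.conjFun χ →
      Cfsg.classInner (τ (χ - ψ)) (∑ α ∈ R χ, α) = (n : ℂ) := by
    intro ψ hψ h1 h2
    rw [← hS.sum_eq χ hχ, hS.isometry.2.2.1 _ (hθmem ψ hψ) _ (sys_diff_mem hS hχ), classInner_sub_left,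
      classInner_sub_right, classInner_sub_right, hn, (sys_orth_conj hS hχ).1,
      hS.orthogonal _ hψ _ hχ h1, hS.orthogonal _ hψ _ (hS.conj_mem χ hχ) h2]
    ring
  -- the common part
  obtain ⟨X, hXgen, hXX, hXsum, hXθ⟩ : ∃ X : G → ℂ, Cfsg.IsGeneralizedCharacter G X ∧
      Cfsg.classInner X X = (n : ℂ) ∧ Cfsg.classInner X (∑ α ∈ R χ, α) = (n : ℂ) ∧
      ∀ ψ ∈ S, ψ ≠ χ → ψ ≠ Cfsg.conjFun χ → Cfsg.classInner X (τ (χ - ψ)) = (n : ℂ) := by
    have hlin : ∀ a : R χ → ℤ, Cfsg.IsGeneralizedCharacter G (∑ α : R χ, (a α : ℂ) • (α : G → ℂ)) :=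
      fun a => IsGeneralizedCharacter.sum _ fun α _ =>
        IsGeneralizedCharacter.intCast_smul (hS.virtual χ hχ α α.2) (a α)
    have hpair : ∀ (a : R χ → ℤ) (v : G → ℂ) (b : R χ → ℤ), (∀ α : R χ, Cfsg.classInner v α = (b α : ℂ)) →
        Cfsg.classInner (∑ α : R χ, (a α : ℂ) • (α : G → ℂ)) v = ((∑ α, a α * b α : ℤ) : ℂ) := by
      intro a v b hb
      rw [classInner_sum_left, Int.cast_sum]
      refine Finset.sum_congr rfl fun α _ => ?_
      rw [classInner_smul_left, ← classInner_conj_symm, hb, map_intCast]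
      push_cast; ring
    have hself : ∀ (a : R χ → ℤ) (β : R χ),
        Cfsg.classInner (∑ α : R χ, (a α : ℂ) • (α : G → ℂ)) β = (a β : ℂ) := by
      intro a β
      rw [classInner_sum_left, Finset.sum_eq_single β]
      · rw [classInner_smul_left, hS.orthonormal χ hχ β β.2 β β.2, if_pos rfl, mul_one]
      · intro α _ hα
        rw [classInner_smul_left, hS.orthonormal χ hχ α α.2 β β.2, if_neg (fun e => hα (Subtype.ext e)), mul_zero]
      · exact fun h => absurd (Finset.mem_univ _) h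
    by_cases hex : ∃ φ ∈ S, φ ≠ χ ∧ φ ≠ Cfsg.conjFun χ
    · choose a ha ha1 ha2 using fun (ψ : {ψ // ψ ∈ S ∧ ψ ≠ χ ∧ ψ ≠ Cfsg.conjFun χ}) =>
        half_coef (hS.virtual χ hχ) (hθgen ψ.1 ψ.2.1) (hsum ψ.1 ψ.2.1 ψ.2.2.1 ψ.2.2.2)
      -- each difference lies in the span of two blocks
      have hdec : ∀ ψ : {ψ // ψ ∈ S ∧ ψ ≠ χ ∧ ψ ≠ Cfsg.conjFun χ}, (∑ α, a ψ α ^ 2 = (n : ℤ)) ∧
          ∃ b : R ψ.1 → ℂ, τ (χ - ψ.1) =
            (∑ α : R χ, (a ψ α : ℂ) • (α : G → ℂ)) + ∑ β : R ψ.1, b β • (β : G → ℂ) := by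
        intro ψ
        obtain ⟨k, -, hk, hk'⟩ := sys_norm hS ψ.2.1
        have hneg : Cfsg.classInner (-τ (χ - ψ.1)) (∑ β ∈ R ψ.1, β) = (k : ℂ) := by
          rw [classInner_neg_left, ← hS.sum_eq ψ.1 ψ.2.1,
            hS.isometry.2.2.1 _ (hθmem _ ψ.2.1) _ (sys_diff_mem hS ψ.2.1), classInner_sub_left,
            classInner_sub_right, classInner_sub_right, hk, (sys_orth_conj hS ψ.2.1).1,
            hS.orthogonal _ hχ _ ψ.2.1 (Ne.symm ψ.2.2.1),
            hS.orthogonal _ hχ _ (hS.conj_mem _ ψ.2.1) (fun e => ψ.2.2.2 ((conjFun_conjFun ψ.1).symm.trans (congrArg Cfsg.conjFun e.symm)))]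
          ring
        obtain ⟨b, hb, hb1, hb2⟩ := half_coef (hS.virtual _ ψ.2.1)
          (IsGeneralizedCharacter.neg (hθgen _ ψ.2.1)) hneg
        let e : R χ ⊕ R ψ.1 → (G → ℂ) := Sum.elim (fun α => (α : G → ℂ)) (fun β => (β : G → ℂ))
        let c : R χ ⊕ R ψ.1 → ℝ := Sum.elim (fun α => (a ψ α : ℝ)) (fun β => -(b β : ℝ))
        have hO : ∀ i j, Cfsg.classInner (e i) (e j) = if i = j then (((fun _ => (1 : ℝ)) i : ℝ) : ℂ) else 0 := by
          rintro (i | i) (j | j)
          · simp only [e, Sum.elim_inl, hS.orthonormal χ hχ i i.2 j j.2, Sum.inl.injEq,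
              Subtype.coe_inj, Complex.ofReal_one]
          · simp only [e, Sum.elim_inl, Sum.elim_inr, reduceCtorEq, if_false]
            rw [← classInner_conj_symm, sys_R_disjoint hS hχ ψ.2.1 ψ.2.2.1 ψ.2.2.2 j.2 i.2, map_zero]
          · simp only [e, Sum.elim_inl, Sum.elim_inr, reduceCtorEq, if_false]
            exact sys_R_disjoint hS hχ ψ.2.1 ψ.2.2.1 ψ.2.2.2 i.2 j.2
          · simp only [e, Sum.elim_inr, hS.orthonormal _ ψ.2.1 i i.2 j j.2, Sum.inr.injEq,
              Subtype.coe_inj, Complex.ofReal_one]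
        have hc : ∀ i, Cfsg.classInner (τ (χ - ψ.1)) (e i) = (c i : ℂ) := by
          rintro (i | i)
          · simp [e, c, ha]
          · have := hb i
            rw [classInner_neg_left, neg_eq_iff_eq_neg] at this
            simp [e, c, this]
        have hV : Cfsg.classInner (τ (χ - ψ.1)) (τ (χ - ψ.1)) = (((n + k : ℕ) : ℝ) : ℂ) := by
          rw [hθθ _ ψ.2.1 _ ψ.2.1, hk, hS.orthogonal _ hχ _ ψ.2.1 (Ne.symm ψ.2.2.1),
            hS.orthogonal _ ψ.2.1 _ hχ ψ.2.2.1]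
          push_cast; ring
        have hsq : ∑ i, c i ^ 2 / (fun _ => (1 : ℝ)) i =
            ((∑ α, a ψ α ^ 2 : ℤ) : ℝ) + ((∑ β, b β ^ 2 : ℤ) : ℝ) := by
          simp [c, Fintype.sum_sum_type]
        have hle := bessel_le e (fun _ => (1 : ℝ)) (fun _ => one_ne_zero) hO _ _ hV c hc
        rw [hsq] at hle
        have h1 : (∑ α, a ψ α ^ 2) + ∑ β, b β ^ 2 ≤ (n + k : ℤ) := by
          exact_mod_cast hle
        have h2 := ha2 ψ
        refine ⟨by linarith, fun β => -(b β : ℂ), ?_⟩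
        have heq := bessel_eq e (fun _ => (1 : ℝ)) (fun _ => one_ne_zero) hO _ _ hV c hc (by
          rw [hsq]; exact_mod_cast (by linarith : (n + k : ℤ) ≤ (∑ α, a ψ α ^ 2) + ∑ β, b β ^ 2))
        rw [heq, Fintype.sum_sum_type]
        simp [e, c]
      choose hsq b hb using hdec
      have hsame : ∀ φ ψ : {ψ // ψ ∈ S ∧ ψ ≠ χ ∧ ψ ≠ Cfsg.conjFun χ}, a φ = a ψ := by
        intro φ ψ
        by_cases hc : ψ.1 = φ.1 ∨ ψ.1 = Cfsg.conjFun φ.1
        · rcases hc with hc | hc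
          · rw [Subtype.ext hc]
          · funext α
            have hd := iso_sub hS.isometry (hθmem _ φ.2.1) (hθmem _ ψ.2.1)
              (by simpa using zspanOn_smul (-1) (hθmem _ ψ.2.1))
            rw [show χ - φ.1 - (χ - ψ.1) = ψ.1 - φ.1 by abel] at hd
            have h0 : Cfsg.classInner (τ (ψ.1 - φ.1)) α = 0 := by
              have e : φ.1 = Cfsg.conjFun ψ.1 := by rw [hc, conjFun_conjFun]
              rw [e, hS.sum_eq _ ψ.2.1, classInner_sum_left]
              exact Finset.sum_eq_zero fun β hβ =>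
                sys_R_disjoint hS hχ ψ.2.1 ψ.2.2.1 ψ.2.2.2 hβ α.2
            rw [hd, classInner_sub_left, ha, ha, sub_eq_zero] at h0
            exact_mod_cast h0
        · push Not at hc
          have hφψ : Cfsg.classInner φ.1 ψ.1 = 0 := hS.orthogonal _ φ.2.1 _ ψ.2.1 (Ne.symm hc.1)
          have h := hθθ _ φ.2.1 _ ψ.2.1
          rw [hS.orthogonal _ hχ _ ψ.2.1 (Ne.symm ψ.2.2.1), hS.orthogonal _ φ.2.1 _ hχ φ.2.2.1, hφψ] at h
          conv_lhs at h => rw [hb φ, classInner_add_left]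
          rw [hpair (a φ) _ (a ψ) (ha ψ)] at h
          have h0 : Cfsg.classInner (∑ β : R φ.1, b φ β • (β : G → ℂ)) (τ (χ - ψ.1)) = 0 := by
            rw [classInner_sum_left]
            refine Finset.sum_eq_zero fun β _ => ?_
            rw [classInner_smul_left, hb ψ, classInner_add_right, classInner_sum_right, classInner_sum_right,
              Finset.sum_eq_zero (fun γ _ => by
                rw [classInner_smul_right, sys_R_disjoint hS hχ φ.2.1 φ.2.2.1 φ.2.2.2 β.2 γ.2, mul_zero]),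
              Finset.sum_eq_zero (fun γ _ => by
                rw [classInner_smul_right, sys_R_disjoint hS ψ.2.1 φ.2.1 (Ne.symm hc.1)
                  (fun e => hc.2 ((conjFun_conjFun ψ.1).symm.trans (congrArg Cfsg.conjFun e.symm))) β.2 γ.2,
                  mul_zero]),
              add_zero, mul_zero]
          rw [h0, add_zero] at h
          have h' : ∑ α, a φ α * a ψ α = (n : ℤ) := by
            first
              | exact_mod_cast h
              | (simp only [sub_zero, add_zero] at h; exact_mod_cast h)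
          have hd : ∑ α, (a φ α - a ψ α) ^ 2 = 0 := by
            simp only [sub_sq, Finset.sum_add_distrib, Finset.sum_sub_distrib, mul_assoc,
              ← Finset.mul_sum, h', hsq]
            ring
          funext α
          have := (Finset.sum_eq_zero_iff_of_nonneg fun α _ => sq_nonneg (a φ α - a ψ α)).mp hd α (Finset.mem_univ _)
          exact sub_eq_zero.mp (pow_eq_zero_iff two_ne_zero |>.mp this)
      obtain ⟨φ, hφ, h1, h2⟩ := hex
      refine ⟨_, hlin (a ⟨φ, hφ, h1, h2⟩), ?_, ?_, ?_⟩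
      · rw [hpair _ _ _ (hself _)]
        exact_mod_cast (by simpa [sq] using hsq ⟨φ, hφ, h1, h2⟩)
      · rw [show (∑ α ∈ R χ, α) = ∑ α : R χ, (α : G → ℂ) from (Finset.sum_coe_sort _ _).symm,
          classInner_sum_right, Finset.sum_congr rfl fun α _ => hself _ α]
        exact_mod_cast ha1 ⟨φ, hφ, h1, h2⟩
      · intro ψ hψ h3 h4
        rw [hpair _ _ _ (ha ⟨ψ, hψ, h3, h4⟩), hsame ⟨φ, hφ, h1, h2⟩ ⟨ψ, hψ, h3, h4⟩]
        exact_mod_cast (by simpa [sq] using hsq ⟨ψ, hψ, h3, h4⟩)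
    · push Not at hex
      have hcard : (R χ).card = 2 * n := by
        have h := sys_sum_norm hS hχ hn
        rw [classInner_sum_left, Finset.sum_congr rfl fun α hα => ?_, Finset.sum_const, nsmul_one] at h
        · exact_mod_cast h
        · rw [classInner_sum_right, Finset.sum_congr rfl fun β hβ => hS.orthonormal χ hχ α hα β hβ,
            Finset.sum_ite_eq, if_pos hα]
      obtain ⟨T, hT, hTc⟩ := Finset.exists_subset_card_eq (s := R χ) (n := n) (by omega)
      have h1 : ∀ U : Finset (G → ℂ), U ⊆ R χ → T ⊆ U →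
          Cfsg.classInner (∑ α ∈ T, α) (∑ α ∈ U, α) = (n : ℂ) := by
        intro U hU hTU
        rw [classInner_sum_left, Finset.sum_congr rfl fun α hα => ?_, Finset.sum_const, nsmul_one, hTc]
        rw [classInner_sum_right, Finset.sum_congr rfl fun β hβ =>
            hS.orthonormal χ hχ α (hT hα) β (hU hβ), Finset.sum_ite_eq, if_pos (hTU hα)]
      exact ⟨_, IsGeneralizedCharacter.sum _ fun α hα => hS.virtual χ hχ α (hT hα), h1 T hT subset_rfl,
        h1 _ subset_rfl hT, fun ψ hψ h2 h3 => absurd (hex ψ hψ h2) h3⟩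
  have hXall : ∀ ψ ∈ S, Cfsg.classInner X (τ (χ - ψ)) = (n : ℂ) - Cfsg.classInner χ ψ := by
    intro ψ hψ
    by_cases h1 : ψ = χ
    · subst h1
      have h0 : τ (ψ - ψ) = 0 := by
        simpa using hS.isometry.2.1 (ψ - ψ) (hθmem ψ hψ) 0
      rw [h0, hn, classInner_zero_right, sub_self]
    by_cases h2 : ψ = Cfsg.conjFun χ
    · subst h2
      rw [hS.sum_eq χ hχ, hXsum, (sys_orth_conj hS hχ).1, sub_zero]
    · rw [hXθ ψ hψ h1 h2, hS.orthogonal _ hχ _ hψ (Ne.symm h1), sub_zero]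
  obtain ⟨T, hT⟩ := exists_linear_ext hS.orthogonal (fun φ => sys_ne_zero hS) (fun ψ => X - τ (χ - ψ))
  refine ⟨T, isometry_of_gens T (fun φ hφ ψ hψ => ?_) (fun φ hφ => ?_), fun α hα => ?_⟩
  · have hsymm : ∀ a b : L → ℂ, a ∈ S → b ∈ S → (starRingEnd ℂ) (Cfsg.classInner a b) = Cfsg.classInner a b := by
      intro a b ha hb
      by_cases e : a = b
      · subst e; exact classInner_conj_symm _ _
      · rw [hS.orthogonal _ ha _ hb e, map_zero]
    have h2 : Cfsg.classInner (τ (χ - φ)) X = (n : ℂ) - Cfsg.classInner φ χ := by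
      rw [← classInner_conj_symm, hXall φ hφ, map_sub, map_natCast, classInner_conj_symm]
    rw [hT φ hφ, hT ψ hψ, classInner_sub_left, classInner_sub_right, classInner_sub_right, hXX,
      hXall ψ hψ, h2, hθθ φ hφ ψ hψ]
    ring
  · rw [hT φ hφ]
    exact IsGeneralizedCharacter.sub hXgen (hθgen φ hφ)
  · obtain ⟨d, hd, -⟩ := sys_apply_one hS hχ
    have key : ∀ β ∈ Cfsg.zspan S, ∃ k : ℤ, β - k • χ ∈ Cfsg.zspanOn S {1}ᶜ ∧
        τ (β - k • χ) = T β - k • X := by
      intro β hβ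
      induction hβ using Submodule.span_induction with
      | mem x hx =>
        refine ⟨1, ?_, ?_⟩
        · have := zspanOn_smul (-1) (hθmem x hx)
          simpa [sub_eq_add_neg, add_comm] using this
        · have := hS.isometry.2.1 _ (hθmem x hx) (-1)
          rw [show x - (1 : ℤ) • χ = (-1 : ℤ) • (χ - x) by simp, this, hT x hx]
          simp
      | zero =>
        refine ⟨0, mem_zspanOn_one.mpr ⟨by simp [Cfsg.zspan], by simp⟩, ?_⟩
        have h0 : τ (χ - χ) = 0 := by simpa using hS.isometry.2.1 (χ - χ) (hθmem χ hχ) 0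
        simpa using h0
      | add y z _ _ hy hz =>
        obtain ⟨i, hi1, hi2⟩ := hy
        obtain ⟨j, hj1, hj2⟩ := hz
        have e : y + z - (i + j) • χ = (y - i • χ) + (z - j • χ) := by rw [add_smul]; abel
        refine ⟨i + j, e ▸ zspanOn_add hi1 hj1, ?_⟩
        rw [e, hS.isometry.1 _ hi1 _ hj1, hi2, hj2, map_add, add_smul]
        abel
      | smul m y _ hy =>
        obtain ⟨i, hi1, hi2⟩ := hy
        have e : m • y - (m * i) • χ = m • (y - i • χ) := by rw [smul_sub, mul_smul]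
        refine ⟨m * i, e ▸ zspanOn_smul m hi1, ?_⟩
        rw [e, hS.isometry.2.1 _ hi1, hi2, map_zsmul, smul_sub, mul_smul]
    obtain ⟨hαz, hα1⟩ := mem_zspanOn_one.mp hα
    obtain ⟨k, hk1, hk2⟩ := key α hαz
    have hk0 : k = 0 := by
      have h1 := (mem_zspanOn_one.mp hk1).2
      have hd0 : d ≠ 0 := by
        rintro rfl
        exact sys_ne_zero hS hχ (by
          funext x
          have := IsCharacter.norm_le (hS.isCharacter χ hχ) x
          simpa [hd] using this)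
      simp [hα1, hd, hd0] at h1
      exact_mod_cast h1
    subst hk0
    simpa using hk2.symm

end Cfsg.Agent.S1517
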