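import Cfsg.Statements.S1498
import Mathlib.GroupTheory.OrderOfElement
import Mathlib.Tactic

set_option autoImplicit false
open Cfsg

namespace Cfsg.Agent.S1498

/-- An element of order prime to the complement lies in the normal subgroup. -/
theorem mem_of_coprime_complement {G : Type*} [Group G] [Finite G] (C K D : Subgroup G)
    (hnorm : ∀ c ∈ C, ∀ u ∈ K, c * u * c⁻¹ ∈ K) (hinf : K ⊓ D = ⊥) (hsup : K ⊔ D = C)
    {u : G} (hu : u ∈ C) (hcop : Nat.Coprime (orderOf u) (Nat.card D)) : u ∈ K := by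
  have hDn : D ≤ Subgroup.normalizer (K : Set G) := by
    intro d hd
    have hdC : d ∈ C := hsup ▸ Subgroup.mem_sup_right hd
    rw [Subgroup.mem_set_normalizer_iff]
    intro y
    refine ⟨hnorm d hdC y, fun hy => ?_⟩
    simpa [mul_assoc] using hnorm d⁻¹ (C.inv_mem hdC) _ hy
  rw [← hsup, ← SetLike.mem_coe, Subgroup.coe_mul_of_right_le_normalizer_left K D hDn] at hu
  obtain ⟨k, hk, d, hd, rfl⟩ := Set.mem_mul.mp hu
  have hdC : d ∈ C := hsup ▸ Subgroup.mem_sup_right hd
  have hp : ∀ n : ℕ, ∃ k' ∈ K, (k * d) ^ n = k' * d ^ n := by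
    intro n
    induction n with
    | zero => exact ⟨1, K.one_mem, by simp⟩
    | succ n ih =>
      obtain ⟨k', hk', e⟩ := ih
      exact ⟨k' * (d ^ n * k * (d ^ n)⁻¹), K.mul_mem hk' (hnorm _ (C.pow_mem hdC n) k hk),
        by rw [pow_succ, e, pow_succ]; group⟩
  obtain ⟨k', hk', e⟩ := hp (orderOf (k * d))
  rw [pow_orderOf_eq_one] at e
  have hd1 : d ^ orderOf (k * d) = 1 := by
    have : d ^ orderOf (k * d) ∈ K ⊓ D :=
      ⟨eq_inv_of_mul_eq_one_right e.symm ▸ K.inv_mem hk', D.pow_mem hd _⟩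
    rwa [hinf, Subgroup.mem_bot] at this
  have h2 := Nat.dvd_gcd (orderOf_dvd_of_pow_eq_one hd1) (D.orderOf_dvd_natCard hd)
  rw [hcop, Nat.dvd_one, orderOf_eq_one_iff] at h2
  simpa [h2] using hk

/-- Under the Dade hypothesis for (A, L, H): for a ∈ A and x ∈ L, the subgroup attached to x * a * x⁻¹ is the conjugate of H a by x. -/
theorem result {G : Type*} [Group G] [Finite G] (A : Set G) (L : Subgroup G) (H : G → Subgroup G) (hD : Cfsg.DadeHypothesis A L H) (a : G) (ha : a ∈ A) (x : G) (hx : x ∈ L) : H (x * a * x⁻¹) = (H a).map (MulAut.conj x).toMonoidHom := by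
  have key : ∀ a ∈ A, ∀ x ∈ L, H (x * a * x⁻¹) ≤ (H a).map (MulAut.conj x).toMonoidHom := by
    intro a ha x hx u hu
    have hb := hD.conj_mem x hx a ha
    have hc := hD.le_centralizer _ hb hu
    have hu' : x⁻¹ * u * x ∈ H a := by
      refine mem_of_coprime_complement _ _ _ (hD.conj_mem_H a ha) (hD.inf_eq_bot a ha)
        (hD.sup_eq a ha) ?_ ?_
      · rw [Subgroup.mem_centralizer_singleton_iff] at hc ⊢
        calc x⁻¹ * u * x * a = x⁻¹ * (u * (x * a * x⁻¹)) * x := by group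
          _ = x⁻¹ * ((x * a * x⁻¹) * u) * x := by rw [hc]
          _ = a * (x⁻¹ * u * x) := by group
      · have e : orderOf (x⁻¹ * u * x) = orderOf u := by
          simpa using (MulAut.conj x⁻¹).orderOf_eq u
        rw [e]
        exact (hD.coprime _ hb a ha).coprime_dvd_left ((H _).orderOf_dvd_natCard hu)
    exact Subgroup.mem_map.mpr ⟨_, hu', by simp [mul_assoc]⟩
  refine le_antisymm (key a ha x hx) ?_
  rintro _ ⟨v, hv, rfl⟩
  have hb := hD.conj_mem x hx a ha
  have := key _ hb x⁻¹ (L.inv_mem hx)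
  rw [show x⁻¹ * (x * a * x⁻¹) * x⁻¹⁻¹ = a by group] at this
  obtain ⟨w, hw, e⟩ := Subgroup.mem_map.mp (this hv)
  rw [show (MulAut.conj x).toMonoidHom v = w by rw [← e]; simp [mul_assoc]]
  exact hw

end Cfsg.Agent.S1498
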