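import Cfsg.Statements.S2431
import Cfsg.Agent.Lib.PSLSpec.TorusNorm
import Cfsg.Agent.Lib.KnownA.GL2Classes
import Cfsg.Agent.Lib.Classical.SLTwoSylow
import Cfsg.Agent.Lib.Geometry.Dickson.Exist

set_option autoImplicit false
open Cfsg

namespace Cfsg.Agent.S2431

open Matrix
open scoped Pointwise
open Cfsg.Agent.Lib.SL2Trace (tr toPSL toPSL_surjective toPSL_eq_one mem_center_iff)
open Cfsg.Agent.Lib.Geometry.Dickson Cfsg.Agent.Lib.PSLSpec

variable {F : Type*} [Field F] [Fintype F]

local notation "SL2" => Matrix.SpecialLinearGroup (Fin 2) F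
local notation "PSL2" => Matrix.ProjectiveSpecialLinearGroup (Fin 2) F

theorem tr_sq_ne_of_two_power {x : SL2} (h2 : (2 : F) ≠ 0) (j : ℕ) (hx : orderOf x = 2 ^ j) (hj : 2 ≤ j) :
    x ∉ Subgroup.center SL2 ∧ tr x ^ 2 ≠ 4 := by
  have h4 : 4 ∣ orderOf x := hx ▸ (pow_dvd_pow 2 hj)
  constructor
  · intro hz
    have : orderOf x ∣ 2 := orderOf_dvd_of_pow_eq_one (by
      rcases mem_center_iff.mp hz with e | e <;> rw [e]
      · exact one_pow 2
      · exact Subtype.ext (by simp [sq]))
    have := h4.trans this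
    omega
  · intro h
    obtain ⟨p, hp⟩ := CharP.exists F
    haveI : Fact p.Prime := ⟨CharP.char_is_prime F p⟩
    have hp2 : p ≠ 2 := fun e => h2 (by subst e; exact CharP.cast_eq_zero F 2)
    have hdv : orderOf x ∣ p * 2 := orderOf_dvd_of_pow_eq_one (by
      rw [pow_mul]
      rcases Cfsg.Agent.Lib.SL2Trace.pow_char_of_tr p h with e | e <;> rw [e]
      · exact one_pow 2
      · exact Subtype.ext (by simp [sq]))
    have h22 : 2 ∣ p := by
      have := h4.trans hdv
      rw [show (4 : ℕ) = 2 * 2 from rfl] at this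
      exact Nat.dvd_of_mul_dvd_mul_right (by norm_num) this
    exact hp2 ((Nat.prime_dvd_prime_iff_eq Nat.prime_two (Fact.out : p.Prime)).mp h22).symm

theorem centralizer_eq_center {S : Subgroup SL2} (hna : ∃ a ∈ S, ∃ b ∈ S, a * b ≠ b * a) :
    Subgroup.centralizer ((S : Subgroup SL2) : Set SL2) = Subgroup.center SL2 := by
  refine le_antisymm (fun c hc => ?_) (Subgroup.center_le_centralizer _)
  by_contra hcZ
  obtain ⟨a, ha, b, hb, hab⟩ := hna
  have h : ∀ x ∈ S, x ∈ Subgroup.centralizer ({c} : Set SL2) := fun x hx =>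
    Subgroup.mem_centralizer_singleton_iff.mpr (Subgroup.mem_centralizer_iff.mp hc x hx)
  exact hab (centralizer_comm hcZ (h a ha) (h b hb))

/-- Large quaternion Sylow subgroups are self-normalising. -/
theorem normalizer_eq_self_of_large (h2 : (2 : F) ≠ 0) (S : Sylow 2 SL2) {k : ℕ} (hk : 2 ≤ k)
    (e : (S : Subgroup SL2) ≃* QuaternionGroup (2 ^ k))
    (hna : ∃ a ∈ (S : Subgroup SL2), ∃ b ∈ (S : Subgroup SL2), a * b ≠ b * a) :
    Subgroup.normalizer ((S : Subgroup SL2) : Set SL2) = (S : Subgroup SL2) := by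
  classical
  set x : SL2 := ((e.symm (QuaternionGroup.a 1) : (S : Subgroup SL2)) : SL2) with hxdef
  have hxS : x ∈ (S : Subgroup SL2) := (e.symm (QuaternionGroup.a 1)).2
  have hox : orderOf x = 2 ^ (k + 1) := by
    rw [hxdef, Subgroup.orderOf_coe, MulEquiv.orderOf_eq, QuaternionGroup.orderOf_a_one, pow_succ, mul_comm]
  obtain ⟨hxZ, ht⟩ := tr_sq_ne_of_two_power h2 (k + 1) hox (by omega)
  have hcardS : Nat.card (S : Subgroup SL2) = 2 * orderOf x := by
    rw [Nat.card_congr e.toEquiv, Nat.card_eq_fintype_card, QuaternionGroup.card, hox, pow_succ]; ring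
  set C := Subgroup.zpowers x with hC
  have hCS : C ≤ (S : Subgroup SL2) := Subgroup.zpowers_le.mpr hxS
  have hidx : (C.subgroupOf (S : Subgroup SL2)).index = 2 := by
    have h := (C.subgroupOf (S : Subgroup SL2)).index_mul_card
    rw [Nat.card_congr (Subgroup.subgroupOfEquivOfLe hCS).toEquiv, hC, Nat.card_zpowers, hcardS] at h
    exact Nat.eq_of_mul_eq_mul_right (orderOf_pos x) h
  have hSN : ∀ s ∈ (S : Subgroup SL2), s ∈ cellNorm ⊤ x := by
    intro s hs
    have hn := (Subgroup.normal_of_index_eq_two hidx).conj_mem ⟨x, hxS⟩ (Subgroup.mem_zpowers x) ⟨s, hs⟩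
    have hsx : s * x * s⁻¹ ∈ cell ⊤ x :=
      (Subgroup.zpowers_le.mpr (mem_cell_self ⊤ (Subgroup.mem_top x)) : C ≤ cell ⊤ x) hn
    refine (mem_cellNorm_iff ⊤).mpr ⟨Subgroup.mem_top s, ?_⟩
    rw [cell_conj ⊤ (Subgroup.mem_top s), cell_eq ⊤ hxZ (conj_notMem_center hxZ s) hsx]
  have houter : ∃ g ∈ (S : Subgroup SL2), g ∉ cell ⊤ x := by
    by_contra hcon
    push Not at hcon
    obtain ⟨a, ha, b, hb, hab⟩ := hna
    exact hab (centralizer_comm hxZ (hcon a ha).1 (hcon b hb).1)
  obtain ⟨g, hgS, hgc⟩ := houter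
  refine le_antisymm (fun h hh => ?_) Subgroup.le_normalizer
  have hhN : h ∈ cellNorm ⊤ x := by
    refine (mem_cellNorm_iff ⊤).mpr ⟨Subgroup.mem_top h, ?_⟩
    have hhx : h * x * h⁻¹ ∈ (S : Subgroup SL2) := (Subgroup.mem_normalizer_iff.mp hh x).mp hxS
    have hcell : h * x * h⁻¹ ∈ cell ⊤ x := by
      by_contra hnc
      have hs := sq_eq_neg_one h2 hxZ ht (hSN _ hhx) hnc
      have h4 : (h * x * h⁻¹) ^ 4 = 1 := by
        rw [show (4 : ℕ) = 2 * 2 from rfl, pow_mul, sq (h * x * h⁻¹), hs]
        exact Subtype.ext (by simp [sq])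
      rw [conj_pow, mul_inv_eq_one, mul_eq_left] at h4
      have := Nat.le_of_dvd (by norm_num) (orderOf_dvd_of_pow_eq_one h4)
      have : 2 ^ 3 ≤ orderOf x := hox ▸ Nat.pow_le_pow_right (by norm_num) (by omega)
      omega
    rw [cell_conj ⊤ (Subgroup.mem_top h), cell_eq ⊤ hxZ (conj_notMem_center hxZ h) hcell]
  have key : ∀ c ∈ cell ⊤ x, c ∈ Subgroup.normalizer ((S : Subgroup SL2) : Set SL2) → c ∈ (S : Subgroup SL2) := by
    intro c hc hcn
    have hgc' : g * c * g⁻¹ = c⁻¹ := torus_inverts ⊤ (Subgroup.mem_top x) hxZ ht (hSN g hgS) hgc hc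
    have hc2 : c * c ∈ (S : Subgroup SL2) := by
      have h1 : c * g * c⁻¹ * g⁻¹ ∈ (S : Subgroup SL2) :=
        mul_mem ((Subgroup.mem_normalizer_iff.mp hcn g).mp hgS) (inv_mem hgS)
      rwa [show c * g * c⁻¹ * g⁻¹ = c * (g * c * g⁻¹)⁻¹ by group, hgc', inv_inv] at h1
    obtain ⟨j, hj⟩ := S.2 ⟨c * c, hc2⟩
    have hj' : (c * c) ^ 2 ^ j = 1 := congrArg Subtype.val hj
    have hcp : IsPGroup 2 (Subgroup.zpowers c) := by
      refine IsPGroup.iff_orderOf.mpr fun z => ?_
      have hd : orderOf (z : SL2) ∣ 2 ^ (j + 1) := by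
        obtain ⟨i, hi⟩ := Subgroup.mem_zpowers_iff.mp z.2
        refine orderOf_dvd_of_pow_eq_one ?_
        rw [← hi, ← zpow_natCast, ← _root_.zpow_mul, mul_comm, _root_.zpow_mul, zpow_natCast, pow_succ', pow_mul, sq, hj', _root_.one_zpow]
      rw [← Subgroup.orderOf_coe]
      obtain ⟨i, -, hi⟩ := (Nat.dvd_prime_pow Nat.prime_two).mp hd
      exact ⟨i, hi⟩
    have hsup := IsPGroup.to_sup_of_normal_right' hcp S.2 (Subgroup.zpowers_le.mpr hcn)
    exact (S.3 hsup le_sup_right) ▸ (le_sup_left (a := Subgroup.zpowers c) (b := (S : Subgroup SL2)))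
      (Subgroup.mem_zpowers c)
  by_cases hc : h ∈ cell ⊤ x
  · exact key h hc hh
  · have hgn : g ∈ Subgroup.normalizer ((S : Subgroup SL2) : Set SL2) := Subgroup.le_normalizer hgS
    have hidx2 : ((cell ⊤ x).subgroupOf (cellNorm ⊤ x)).index = 2 := by
      have h := ((cell ⊤ x).subgroupOf (cellNorm ⊤ x)).index_mul_card
      rw [Nat.card_congr (Subgroup.subgroupOfEquivOfLe (cell_le_cellNorm ⊤ x)).toEquiv, card_cellNorm hxZ ht] at h
      exact Nat.eq_of_mul_eq_mul_right Nat.card_pos h
    have hm := (Subgroup.mul_mem_iff_of_index_two hidx2 (a := ⟨h, hhN⟩) (b := ⟨g, hSN g hgS⟩)).mpr (by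
      simp only [Subgroup.mem_subgroupOf]; exact iff_of_false hc hgc)
    simp only [Subgroup.mem_subgroupOf, Subgroup.coe_mul] at hm
    have := key _ hm (mul_mem hh hgn)
    exact (Subgroup.mul_mem_cancel_right _ hgS).mp this

/-- A quaternion Sylow subgroup of order eight has normaliser of order 24. -/
theorem card_normalizer_of_eight (h2 : (2 : F) ≠ 0) (S : Sylow 2 SL2) (hS : Nat.card (S : Subgroup SL2) = 8)
    (h16 : ¬ 16 ∣ Nat.card SL2)
    (hna : ∃ a ∈ (S : Subgroup SL2), ∃ b ∈ (S : Subgroup SL2), a * b ≠ b * a) :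
    Nat.card (Subgroup.normalizer ((S : Subgroup SL2) : Set SL2)) = 24 := by
  classical
  set N := Subgroup.normalizer ((S : Subgroup SL2) : Set SL2) with hN
  have hZc : Nat.card (Subgroup.center SL2) = 2 := by
    rw [Nat.card_eq_two_iff]
    have hneg : (-1 : SL2) ≠ 1 := fun h => by
      have := congrArg (fun e : SL2 => (e : Matrix (Fin 2) (Fin 2) F) 0 0) h
      simp at this
      exact h2 (by linear_combination -this)
    refine ⟨1, ⟨-1, mem_center_iff.mpr (Or.inr rfl)⟩, fun h => hneg (congrArg Subtype.val h).symm, ?_⟩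
    ext ⟨z, hz⟩
    rcases mem_center_iff.mp hz with rfl | rfl <;> simp
  -- three divides the order
  have h24 : 3 ∣ Nat.card N := by
    obtain ⟨H, ⟨eH⟩⟩ := exists_altFour (F := F) h2
    let V : Subgroup (alternatingGroup (Fin 4)) :=
      { carrier := {x | x * x = 1}
        one_mem' := mul_one 1
        mul_mem' := by
          have : ∀ x y : alternatingGroup (Fin 4), x * x = 1 → y * y = 1 → x * y * (x * y) = 1 := by decide +kernel
          exact fun {x y} hx hy => this x y hx hy
        inv_mem' := fun {x} (hx : x * x = 1) => by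
          show x⁻¹ * x⁻¹ = 1
          rw [← _root_.mul_inv_rev, hx, inv_one] }
    have hV : Nat.card V = 4 := by
      show Nat.card {x : alternatingGroup (Fin 4) // x * x = 1} = 4
      rw [Nat.card_eq_fintype_card]
      decide +kernel
    let f : alternatingGroup (Fin 4) →* PSL2 := H.subtype.comp eH.symm.toMonoidHom
    have hf : Function.Injective f := Subtype.val_injective.comp eH.symm.injective
    set K := f.range.comap (toPSL (F := F)) with hK
    set W := (V.map f).comap (toPSL (F := F)) with hW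
    have hcomap : ∀ A : Subgroup PSL2, Nat.card (A.comap (toPSL (F := F))) = 2 * Nat.card A := by
      intro A
      have h := card_map_toPSL (⊤ : Subgroup SL2) le_top (A.comap toPSL) (fun z hz => by
        rw [Subgroup.mem_comap, toPSL_eq_one.mpr (mem_center_iff.mp hz)]; exact one_mem _) le_top
      rwa [hZc, Subgroup.map_comap_eq_self_of_surjective toPSL_surjective] at h
    have hWc : Nat.card W = 2 ^ (Nat.card SL2).factorization 2 := by
      rw [hW, hcomap, Subgroup.card_map_of_injective hf, hV, ← S.card_eq_multiplicity, hS]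
    have hWn : K ≤ Subgroup.normalizer ((W : Subgroup SL2) : Set SL2) := by
      intro c hc
      obtain ⟨a, ha⟩ := hc
      refine Subgroup.mem_normalizer_iff.mpr fun z => ?_
      simp only [hW, Subgroup.mem_comap, map_mul, map_inv, Subgroup.mem_map]
      rw [← ha]
      constructor
      · rintro ⟨v, hv, e⟩
        refine ⟨a * v * a⁻¹, show a * v * a⁻¹ * (a * v * a⁻¹) = 1 from ?_, by rw [map_mul, map_mul, map_inv, e]⟩
        rw [show a * v * a⁻¹ * (a * v * a⁻¹) = a * (v * v) * a⁻¹ by group, hv, mul_one, mul_inv_cancel]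
      · rintro ⟨v, hv, e⟩
        refine ⟨a⁻¹ * v * a, show a⁻¹ * v * a * (a⁻¹ * v * a) = 1 from ?_, ?_⟩
        · rw [show a⁻¹ * v * a * (a⁻¹ * v * a) = a⁻¹ * (v * v) * a by group, hv, mul_one, inv_mul_cancel]
        · rw [map_mul, map_mul, map_inv, e]; group
    have h12 : 3 ∣ Nat.card K := by
      rw [hK, hcomap, ← Nat.card_congr (MonoidHom.ofInjective hf).toEquiv, Nat.card_eq_fintype_card,
        show Fintype.card (alternatingGroup (Fin 4)) = 12 by decide +kernel]
      norm_num
    obtain ⟨g, hg⟩ := MulAction.exists_smul_eq SL2 (Sylow.ofCard W hWc) S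
    have e1 : Nat.card N = Nat.card (Subgroup.normalizer ((W : Subgroup SL2) : Set SL2)) := by
      rw [hN, show (S : Subgroup SL2) = MulAut.conj g • (W : Subgroup SL2) by rw [← hg]; rfl]
      have e3 : MulAut.conj g • Subgroup.normalizer ((W : Subgroup SL2) : Set SL2) =
          Subgroup.normalizer ((MulAut.conj g • (W : Subgroup SL2) : Subgroup SL2) : Set SL2) := by
        ext z
        rw [Subgroup.mem_pointwise_smul_iff_inv_smul_mem, Subgroup.mem_normalizer_iff, Subgroup.mem_normalizer_iff]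
        simp only [Subgroup.mem_pointwise_smul_iff_inv_smul_mem, MulAut.smul_def, MulAut.conj_inv_apply]
        constructor
        · intro hz w
          rw [hz (g⁻¹ * w * g)]; group
        · intro hz w
          have := hz (g * w * g⁻¹)
          simpa [mul_assoc] using this
      rw [← e3]
      exact Nat.card_congr (Subgroup.equivSMul (MulAut.conj g) _).toEquiv.symm
    rw [e1]
    exact h12.trans (Subgroup.card_dvd_of_le hWn)
  have h8 : 8 ∣ Nat.card N := hS ▸ Subgroup.card_dvd_of_le Subgroup.le_normalizer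
  have h16N : ¬ 16 ∣ Nat.card N := fun h => h16 (h.trans (Subgroup.card_subgroup_dvd_card N))
  -- upper bound
  obtain ⟨a, ha, b, hb, hab⟩ := hna
  haveI := Fintype.ofFinite (S : Subgroup SL2)
  let T : Finset (↥(S : Subgroup SL2) × ↥(S : Subgroup SL2)) := Finset.univ.filter fun u =>
    ¬ ((u.1 : SL2) ∈ Subgroup.center SL2) ∧ ¬ ((u.2 : SL2) ∈ Subgroup.center SL2) ∧ u.1 ≠ u.2
  have hT : T.card ≤ 30 := by
    let A : Finset (S : Subgroup SL2) := Finset.univ.filter fun s => ¬ ((s : SL2) ∈ Subgroup.center SL2)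
    have hZS : Subgroup.center SL2 ≤ (S : Subgroup SL2) := fun z hz =>
      have hzn : z ∈ Subgroup.normalizer ((S : Subgroup SL2) : Set SL2) :=
        Subgroup.mem_normalizer_iff.mpr fun w => by rw [← Subgroup.mem_center_iff.mp hz w, mul_inv_cancel_right]
      have hsup := IsPGroup.to_sup_of_normal_right'
        (IsPGroup.of_card (n := 1) (p := 2) (G := Subgroup.center SL2) (by rw [hZc]; rfl)) S.2
        (fun w hw => Subgroup.mem_normalizer_iff.mpr fun v => by
          rw [← Subgroup.mem_center_iff.mp hw v, mul_inv_cancel_right])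
      (S.3 hsup le_sup_right) ▸ (le_sup_left (a := Subgroup.center SL2) (b := (S : Subgroup SL2))) hz
    have hA : A.card = 6 := by
      have h := Finset.card_filter_add_card_filter_not (s := (Finset.univ : Finset (S : Subgroup SL2)))
        (fun s => (s : SL2) ∈ Subgroup.center SL2)
      have e2 : Nat.card {x : (S : Subgroup SL2) // (x : SL2) ∈ Subgroup.center SL2} = 2 :=
        (Nat.card_congr (Subgroup.subgroupOfEquivOfLe hZS).toEquiv).trans hZc
      rw [Finset.card_univ, ← Nat.card_eq_fintype_card, hS, ← Fintype.card_subtype, ← Nat.card_eq_fintype_card,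
        e2] at h
      show (Finset.univ.filter _).card = 6
      omega
    refine le_of_le_of_eq (Finset.card_le_card (t := A.offDiag) fun u hu => ?_) (by rw [Finset.offDiag_card, hA])
    simp only [T, Finset.mem_filter, Finset.mem_univ, true_and] at hu
    simp only [A, Finset.mem_offDiag, Finset.mem_filter, Finset.mem_univ, true_and]
    exact hu
  have haZ : a ∉ Subgroup.center SL2 := fun hz => hab (Subgroup.mem_center_iff.mp hz b).symm
  have hbZ : b ∉ Subgroup.center SL2 := fun hz => hab (Subgroup.mem_center_iff.mp hz a)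
  have hconjc : ∀ (n z : SL2), n * z * n⁻¹ ∈ Subgroup.center SL2 → z ∈ Subgroup.center SL2 := fun n z h => by
    have h' := (inferInstance : (Subgroup.center SL2).Normal).conj_mem _ h n⁻¹
    simpa [mul_assoc] using h'
  have hinjN : Nat.card N ≤ 2 * T.card := by
    let φ : N → ↥(S : Subgroup SL2) × ↥(S : Subgroup SL2) := fun n =>
      (⟨n * a * n⁻¹, (Subgroup.mem_normalizer_iff.mp n.2 a).mp ha⟩, ⟨n * b * n⁻¹, (Subgroup.mem_normalizer_iff.mp n.2 b).mp hb⟩)
    haveI := Fintype.ofFinite N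
    rw [Nat.card_eq_fintype_card, mul_comm, ← Finset.card_univ]
    have hsub : Finset.univ.image φ ⊆ T := by
      intro u hu
      obtain ⟨n, -, rfl⟩ := Finset.mem_image.mp hu
      simp only [T, Finset.mem_filter, Finset.mem_univ, true_and]
      refine ⟨fun h => haZ (hconjc _ _ h), fun h => hbZ (hconjc _ _ h), fun h => hab ?_⟩
      have := congrArg Subtype.val h
      simp [φ] at this
      rw [this]
    refine le_trans (Finset.card_le_mul_card_image (f := φ) _ 2 fun u _ => ?_) (by
      rw [mul_comm]; exact Nat.mul_le_mul_right _ (Finset.card_le_card hsub))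
    rcases (Finset.univ.filter fun n => φ n = u).eq_empty_or_nonempty with h | ⟨n₀, hn₀⟩
    · rw [h]; simp
    haveI := Fintype.ofFinite (Subgroup.center SL2)
    refine le_of_le_of_eq ?_ hZc
    rw [Nat.card_eq_fintype_card, ← Finset.card_univ (α := Subgroup.center SL2)]
    refine Finset.card_le_card_of_injOn (fun n => if h : (n₀ : SL2)⁻¹ * n ∈ Subgroup.center SL2 then ⟨_, h⟩ else 1)
      (fun _ _ => Finset.mem_univ _) ?_
    have hmemc : ∀ n : N, φ n = u → (n₀ : SL2)⁻¹ * n ∈ Subgroup.center SL2 := by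
      intro n hn
      have e := hn.trans (Finset.mem_filter.mp hn₀).2.symm
      have ea : (n : SL2) * a * (n : SL2)⁻¹ = n₀ * a * (n₀ : SL2)⁻¹ := congrArg (fun u => (u.1 : SL2)) e
      have eb : (n : SL2) * b * (n : SL2)⁻¹ = n₀ * b * (n₀ : SL2)⁻¹ := congrArg (fun u => (u.2 : SL2)) e
      have key : ∀ z, (n : SL2) * z * (n : SL2)⁻¹ = n₀ * z * (n₀ : SL2)⁻¹ → z ∈ Subgroup.centralizer ({(n₀ : SL2)⁻¹ * n} : Set SL2) := by
        intro z hz
        refine Subgroup.mem_centralizer_singleton_iff.mpr ?_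
        calc z * ((n₀ : SL2)⁻¹ * n) = (n₀ : SL2)⁻¹ * (n₀ * z * (n₀ : SL2)⁻¹) * n := by group
          _ = (n₀ : SL2)⁻¹ * (n * z * (n : SL2)⁻¹) * n := by rw [hz]
          _ = (n₀ : SL2)⁻¹ * n * z := by group
      by_contra hZ'
      exact hab (centralizer_comm hZ' (key a ea) (key b eb))
    intro n hn n' hn' h
    simp only [Finset.coe_filter, Set.mem_ofPred_eq, Finset.mem_univ, true_and] at hn hn'
    simp only [dif_pos (hmemc n hn), dif_pos (hmemc n' hn')] at h
    exact Subtype.ext (mul_left_cancel (congrArg Subtype.val h))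
  obtain ⟨c, hc⟩ : 24 ∣ Nat.card N := Nat.Coprime.mul_dvd_of_dvd_of_dvd (by norm_num : Nat.Coprime 8 3) h8 h24
  have hc0 : 0 < Nat.card N := Nat.card_pos
  have : c = 1 := by
    by_contra hne
    have : c = 2 := by omega
    exact h16N ⟨3, by omega⟩
  omega

/-- Let F be a finite field with q elements, q odd, and S a Sylow 2-subgroup of SL₂ over F. The centraliser of S is the centre of SL₂ (of order 2); S is its own normaliser when q ≡ ±1 mod 8, and has index 3 in its normaliser when q ≡ ±3 mod 8. -/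
theorem result {F : Type*} [Field F] [Fintype F] (hodd : Odd (Fintype.card F)) (S : Sylow 2 (Matrix.SpecialLinearGroup (Fin 2) F)) :
    Subgroup.centralizer ((S : Subgroup (Matrix.SpecialLinearGroup (Fin 2) F)) : Set (Matrix.SpecialLinearGroup (Fin 2) F)) = Subgroup.center (Matrix.SpecialLinearGroup (Fin 2) F) ∧
    ((Fintype.card F % 8 = 1 ∨ Fintype.card F % 8 = 7) →
      Subgroup.normalizer ((S : Subgroup (Matrix.SpecialLinearGroup (Fin 2) F)) : Set (Matrix.SpecialLinearGroup (Fin 2) F)) = (S : Subgroup (Matrix.SpecialLinearGroup (Fin 2) F))) ∧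
    ((Fintype.card F % 8 = 3 ∨ Fintype.card F % 8 = 5) →
      Nat.card (Subgroup.normalizer ((S : Subgroup (Matrix.SpecialLinearGroup (Fin 2) F)) : Set (Matrix.SpecialLinearGroup (Fin 2) F))) = 3 * Nat.card S) := by
  classical
  have h2 : (2 : F) ≠ 0 := Cfsg.Agent.Lib.KnownA.two_ne_zero_of_odd hodd
  have hna := Cfsg.Agent.Lib.Classical.exists_two_sylow_nonabelian h2 S
  obtain ⟨k, hk, ⟨e⟩⟩ := Cfsg.Agent.Lib.Classical.sylow_two_SL2_quaternion h2 S
  have hcS : Nat.card (S : Subgroup (Matrix.SpecialLinearGroup (Fin 2) F)) = 2 ^ (k + 2) := by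
    rw [Nat.card_congr e.toEquiv, Nat.card_eq_fintype_card, QuaternionGroup.card, pow_succ, pow_succ]; ring
  obtain ⟨m, hm⟩ : ∃ m, Fintype.card F = 2 * m + 1 := hodd
  have hG : Nat.card (Matrix.SpecialLinearGroup (Fin 2) F) = 4 * ((2 * m + 1) * (m * (m + 1))) := by
    rw [Cfsg.Agent.Lib.KnownA.card_SL2, hm, show (2 * m + 1) ^ 2 = 4 * (m * (m + 1)) + 1 by ring, Nat.add_sub_cancel]
    ring
  refine ⟨centralizer_eq_center hna, fun h17 => normalizer_eq_self_of_large h2 S ?_ e hna, fun h35 => ?_⟩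
  · have h16 : 2 ^ 4 ∣ Nat.card (Matrix.SpecialLinearGroup (Fin 2) F) := by
      rw [hG, show 2 ^ 4 = 4 * 4 from rfl]
      refine Nat.mul_dvd_mul_left 4 (Dvd.dvd.mul_left ?_ _)
      rw [hm] at h17
      rcases h17 with h | h
      · exact (show 4 ∣ m by omega).mul_right _
      · exact (show 4 ∣ m + 1 by omega).mul_left _
    have := S.pow_dvd_card_of_pow_dvd_card h16
    rw [hcS, Nat.pow_dvd_pow_iff_le_right (by norm_num)] at this
    omega
  · have h16 : ¬ 16 ∣ Nat.card (Matrix.SpecialLinearGroup (Fin 2) F) := by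
      rw [hG, show 16 = 4 * 4 from rfl]
      intro h
      have h4 : 4 ∣ (2 * m + 1) * (m * (m + 1)) := Nat.dvd_of_mul_dvd_mul_left (by norm_num) h
      have h4' : 4 ∣ m * (m + 1) := (Nat.Coprime.dvd_mul_left (show Nat.Coprime 4 (2 * m + 1) from
        Nat.Coprime.pow_left 2 (by rw [Nat.coprime_two_left]; exact odd_two_mul_add_one m))).mp h4
      rw [hm] at h35
      have hh : m % 4 = 1 ∨ m % 4 = 2 := by omega
      have := Nat.mod_eq_zero_of_dvd h4'
      rw [Nat.mul_mod, Nat.add_mod] at this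
      rcases hh with e | e <;> rw [e] at this <;> norm_num at this
    have hk1 : k = 1 := by
      by_contra hk'
      exact h16 ((pow_dvd_pow 2 (show 4 ≤ k + 2 by omega)).trans
        (hcS.symm ▸ Subgroup.card_subgroup_dvd_card (S : Subgroup (Matrix.SpecialLinearGroup (Fin 2) F))))
    rw [card_normalizer_of_eight h2 S (by rw [hcS, hk1]; rfl) h16 hna, hcS, hk1]; rfl

end Cfsg.Agent.S2431
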