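import Cfsg.Statements.S2437
import Cfsg.Agent.Lib.KnownA.GL2Count
import Cfsg.Agent.Lib.KnownA.GL2Classes

set_option autoImplicit false
open Cfsg

namespace Cfsg.Agent.S2437

open Cfsg.Agent.Lib.KnownA

section
variable {F : Type*} [Field F]

private theorem sl_eq_iff {x y : Matrix.SpecialLinearGroup (Fin 2) F} :
    x = y ↔ (x : Matrix (Fin 2) (Fin 2) F) = (y : Matrix (Fin 2) (Fin 2) F) :=
  ⟨congrArg _, fun h => Subtype.ext h⟩


private abbrev bor (F : Type*) [Field F] : Subgroup (Matrix.SpecialLinearGroup (Fin 2) F) :=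
  (Cfsg.upperTriangularGL 2 F).comap Matrix.SpecialLinearGroup.toGL

private theorem mem_bor (k : Matrix.SpecialLinearGroup (Fin 2) F) :
    k ∈ bor F ↔ (k : Matrix (Fin 2) (Fin 2) F) 1 0 = 0 := by
  rw [Subgroup.mem_comap, mem_upper_iff]
  rfl

private def mat (x : Fˣ × F) : Matrix.SpecialLinearGroup (Fin 2) F :=
  ⟨!![(x.1 : F), x.2; 0, ((x.1⁻¹ : Fˣ) : F)], by simp [Matrix.det_fin_two]⟩

private noncomputable def borEquiv : Fˣ × F ≃ bor F :=
  Equiv.ofBijective (fun x => ⟨mat x, (mem_bor _).mpr (by simp [mat])⟩) (by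
    constructor
    · rintro ⟨a, c⟩ ⟨a', c'⟩ h
      have h' : (mat (a, c) : Matrix (Fin 2) (Fin 2) F) = (mat (a', c') : Matrix (Fin 2) (Fin 2) F) :=
        congrArg (fun k : bor F => ((k : Matrix.SpecialLinearGroup (Fin 2) F) : Matrix (Fin 2) (Fin 2) F)) h
      have e00 := congrFun (congrFun h' 0) 0
      have e01 := congrFun (congrFun h' 0) 1
      simp [mat] at e00 e01
      exact Prod.ext (Units.ext e00) e01
    · intro b
      obtain ⟨b, hb⟩ := b
      rw [mem_bor] at hb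
      have hdet : (b : Matrix (Fin 2) (Fin 2) F) 0 0 * (b : Matrix (Fin 2) (Fin 2) F) 1 1 = 1 := by
        have h := b.2
        rw [Matrix.det_fin_two, hb, mul_zero, sub_zero] at h
        exact h
      refine ⟨(Units.mk0 _ (left_ne_zero_of_mul_eq_one hdet), (b : Matrix (Fin 2) (Fin 2) F) 0 1), Subtype.ext (Subtype.ext ?_)⟩
      ext i j
      fin_cases i <;> fin_cases j <;> simp [mat, hb, inv_eq_of_mul_eq_one_right hdet])

private theorem commute_iff (x y : Fˣ × F) :
    Commute (borEquiv x) (borEquiv y) ↔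
      y.2 * ((x.1 : F) - ((x.1⁻¹ : Fˣ) : F)) = x.2 * ((y.1 : F) - ((y.1⁻¹ : Fˣ) : F)) := by
  show borEquiv x * borEquiv y = borEquiv y * borEquiv x ↔ _
  rw [Subtype.ext_iff, Subgroup.coe_mul, Subgroup.coe_mul]
  show mat x * mat y = mat y * mat x ↔ _
  rw [sl_eq_iff, Matrix.SpecialLinearGroup.coe_mul, Matrix.SpecialLinearGroup.coe_mul]
  constructor
  · intro h
    have e01 := congrFun (congrFun h 0) 1
    simp [mat, Matrix.mul_apply, Fin.sum_univ_two] at e01
    simp only [Units.val_inv_eq_inv_val]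
    linear_combination e01
  · intro h
    simp only [Units.val_inv_eq_inv_val] at h
    ext i j
    fin_cases i <;> fin_cases j <;> simp [mat, Matrix.mul_apply, Fin.sum_univ_two]
    all_goals first | ring1 | linear_combination h

variable [Fintype F]

open Classical in
private theorem card_line (u w : F) :
    Nat.card {z : F × F // z.2 * u = z.1 * w} =
      if u = 0 ∧ w = 0 then Fintype.card F * Fintype.card F else Fintype.card F := by
  split_ifs with h
  · rw [← Nat.card_eq_fintype_card, ← Nat.card_prod]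
    exact Nat.card_congr (Equiv.subtypeUnivEquiv (fun z => by simp [h.1, h.2]))
  · rw [← Nat.card_eq_fintype_card]
    rcases eq_or_ne u 0 with hu | hu
    · have hw : w ≠ 0 := fun hw => h ⟨hu, hw⟩
      refine Nat.card_eq_of_bijective (fun z : {z : F × F // z.2 * u = z.1 * w} => z.1.2) ⟨?_, fun t => ⟨⟨(0, t), by simp [hu]⟩, rfl⟩⟩
      rintro ⟨⟨c, t⟩, hc⟩ ⟨⟨c', t'⟩, hc'⟩ (rfl : t = t')
      refine Subtype.ext (Prod.ext ?_ rfl)
      exact mul_right_cancel₀ hw (hc.symm.trans hc')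
    · refine Nat.card_eq_of_bijective (fun z : {z : F × F // z.2 * u = z.1 * w} => z.1.1) ⟨?_, fun c => ⟨⟨(c, c * w / u), by field_simp⟩, rfl⟩⟩
      rintro ⟨⟨c, t⟩, hc⟩ ⟨⟨c', t'⟩, hc'⟩ (rfl : c = c')
      exact Subtype.ext (Prod.ext rfl (mul_right_cancel₀ hu (hc.trans hc'.symm)))

open Classical in
private theorem card_pairs :
    Nat.card {p : (Fˣ × F) × (Fˣ × F) //
      p.2.2 * ((p.1.1 : F) - ((p.1.1⁻¹ : Fˣ) : F)) = p.1.2 * ((p.2.1 : F) - ((p.2.1⁻¹ : Fˣ) : F))} =
    ∑ w : Fˣ × Fˣ, if ((w.1 : F) - ((w.1⁻¹ : Fˣ) : F)) = 0 ∧ ((w.2 : F) - ((w.2⁻¹ : Fˣ) : F)) = 0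
      then Fintype.card F * Fintype.card F else Fintype.card F := by
  rw [← Finset.sum_congr rfl (fun w _ => card_line ((w.1 : F) - ((w.1⁻¹ : Fˣ) : F)) ((w.2 : F) - ((w.2⁻¹ : Fˣ) : F))), ← Nat.card_sigma]
  exact Nat.card_congr
    { toFun := fun p => ⟨(p.1.1.1, p.1.2.1), ⟨(p.1.1.2, p.1.2.2), p.2⟩⟩
      invFun := fun z => ⟨((z.1.1, z.2.1.1), (z.1.2, z.2.1.2)), z.2.2⟩
      left_inv := fun p => rfl
      right_inv := fun z => rfl }

end


/-- Over a finite field F with q elements, q odd, the upper triangular subgroup of SL₂ (a Borel subgroup, of order q(q − 1)) has exactly q + 3 conjugacy classes. -/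
theorem result {F : Type*} [Field F] [Fintype F] (hodd : Odd (Fintype.card F)) :
    Nat.card (ConjClasses ((Cfsg.upperTriangularGL 2 F).comap Matrix.SpecialLinearGroup.toGL)) = Fintype.card F + 3 := by
  classical
  have h2 : (2 : F) ≠ 0 := two_ne_zero_of_odd hodd
  have hq : 1 < Fintype.card F := Fintype.one_lt_card
  have hS : (Finset.univ.filter fun a : Fˣ => (a : F) - ((a⁻¹ : Fˣ) : F) = 0) = {1, -1} := by
    ext a
    simp only [Finset.mem_filter, Finset.mem_univ, true_and, Finset.mem_insert, Finset.mem_singleton, sub_eq_zero]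
    constructor
    · intro h
      have : (a : F) * a = 1 := by
        nth_rewrite 2 [h]
        simp
      rcases mul_self_eq_one_iff.mp this with h | h
      · exact Or.inl (Units.ext h)
      · exact Or.inr (Units.ext (by simpa using h))
    · rintro (rfl | rfl) <;> simp
  have hcard2 : ({1, -1} : Finset Fˣ).card = 2 := by
    rw [Finset.card_pair]
    intro h
    refine h2 ?_
    have := congrArg (fun a : Fˣ => (a : F)) h
    simp only [Units.val_one, Units.val_neg] at this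
    linear_combination this
  have hB : Nat.card (bor F) = (Fintype.card F - 1) * Fintype.card F := by
    rw [← Nat.card_congr borEquiv, Nat.card_prod, Nat.card_units, Nat.card_eq_fintype_card]
  have hE : {p : (Fˣ × F) × (Fˣ × F) //
      p.2.2 * ((p.1.1 : F) - ((p.1.1⁻¹ : Fˣ) : F)) = p.1.2 * ((p.2.1 : F) - ((p.2.1⁻¹ : Fˣ) : F))} ≃
      {p : bor F × bor F // Commute p.1 p.2} :=
    Equiv.subtypeEquiv (Equiv.prodCongr borEquiv borEquiv) fun p => (commute_iff p.1 p.2).symm
  have hcount := card_comm_eq_card_conjClasses_mul_card (bor F)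
  rw [← Nat.card_congr hE, card_pairs, hB, Finset.sum_ite, Finset.sum_const, Finset.sum_const] at hcount
  have hf : (Finset.univ.filter fun w : Fˣ × Fˣ => ((w.1 : F) - ((w.1⁻¹ : Fˣ) : F)) = 0 ∧
      ((w.2 : F) - ((w.2⁻¹ : Fˣ) : F)) = 0).card = 4 := by
    rw [← Finset.univ_product_univ, Finset.filter_product (fun a : Fˣ => (a : F) - ((a⁻¹ : Fˣ) : F) = 0)
      (fun a : Fˣ => (a : F) - ((a⁻¹ : Fˣ) : F) = 0), Finset.card_product, hS, hcard2]
  have hsum := Finset.card_filter_add_card_filter_not (s := (Finset.univ : Finset (Fˣ × Fˣ)))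
    (fun w : Fˣ × Fˣ => ((w.1 : F) - ((w.1⁻¹ : Fˣ) : F)) = 0 ∧ ((w.2 : F) - ((w.2⁻¹ : Fˣ) : F)) = 0)
  rw [Finset.card_univ, Fintype.card_prod, Fintype.card_units, hf] at hsum
  rw [hf, smul_eq_mul, smul_eq_mul] at hcount
  obtain ⟨r, hr⟩ : ∃ r, Fintype.card F = r + 1 := ⟨Fintype.card F - 1, by omega⟩
  rw [hr, Nat.add_sub_cancel] at hcount hsum
  rw [hr]
  have h' : Nat.card (ConjClasses (bor F)) * (r * (r + 1)) = (r + 4) * (r * (r + 1)) := by
    rw [← hcount]
    nlinarith [hsum]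
  exact Nat.eq_of_mul_eq_mul_right (Nat.mul_pos (by omega) (by omega)) h'

end Cfsg.Agent.S2437
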