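import Cfsg.Statements.S1523
import Cfsg.Agent.Lib.BlockHeights.CharTools
import Cfsg.Agent.Lib.Characters

set_option autoImplicit false
open Cfsg

namespace Cfsg.Agent.S1523

open Cfsg.Agent.Lib.Characters Cfsg.Agent.Lib.BlockHeights

/-- A sum of an invariant function over a set on which a group acts freely is divisible by the
order of the group. -/
theorem sum_free {H X : Type*} [Group H] [Fintype H] [DecidableEq X] (σ : H → X → X)
    (hone : ∀ x, σ 1 x = x) (hmul : ∀ a b x, σ (a * b) x = σ a (σ b x)) (f : X → ℂ)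
    (hf : ∀ a x, f (σ a x) = f x) (hint : ∀ x, IsIntegral ℤ (f x)) (T : Finset X)
    (hT : ∀ a, ∀ x ∈ T, σ a x ∈ T) (hfree : ∀ a, ∀ x ∈ T, σ a x = x → a = 1) :
    ∃ α : ℂ, IsIntegral ℤ α ∧ ∑ x ∈ T, f x = (Fintype.card H : ℂ) * α := by
  induction T using Finset.strongInduction with
  | _ T ih =>
    rcases T.eq_empty_or_nonempty with rfl | ⟨t, ht⟩
    · exact ⟨0, isIntegral_zero, by simp⟩
    · set O := Finset.univ.image fun a : H => σ a t with hO
      have hsub : O ⊆ T := fun x hx => by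
        obtain ⟨a, -, rfl⟩ := Finset.mem_image.mp hx
        exact hT a t ht
      have hinj : Function.Injective fun a : H => σ a t := by
        intro a b h
        have h' : σ (b⁻¹ * a) t = t := by
          simp only at h
          rw [hmul, h, ← hmul, inv_mul_cancel, hone]
        exact (inv_mul_eq_one.mp (hfree _ t ht h')).symm
      have hlt : T \ O ⊂ T := Finset.sdiff_ssubset hsub ⟨t, Finset.mem_image.mpr ⟨1, Finset.mem_univ _, hone t⟩⟩
      have hT' : ∀ a, ∀ x ∈ T \ O, σ a x ∈ T \ O := by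
        intro a x hx
        rw [Finset.mem_sdiff] at hx ⊢
        refine ⟨hT a x hx.1, fun hmem => hx.2 ?_⟩
        obtain ⟨b, -, hb⟩ := Finset.mem_image.mp hmem
        refine Finset.mem_image.mpr ⟨a⁻¹ * b, Finset.mem_univ _, ?_⟩
        rw [hmul, hb, ← hmul, inv_mul_cancel, hone]
      obtain ⟨α, hα, hsum⟩ := ih _ hlt hT' fun a x hx => hfree a x (Finset.mem_sdiff.mp hx).1
      refine ⟨α + f t, hα.add (hint t), ?_⟩
      rw [← Finset.sum_sdiff hsub, hsum, hO, Finset.sum_image fun a _ b _ h => hinj h]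
      simp [hf, mul_add]

/-- Let G be a finite group, p a prime, P a Sylow p-subgroup whose underlying set is a TI-subset of G, with L the set normaliser of P of odd order. Let Z ≠ ⊥ be a subgroup of P, normal in L and central in P, such that the centralisers in L of any two non-identity elements of Z have the same order. If ψ is an irreducible character of G taking the same value at all non-identity elements of Z, then for z ∈ Z, z ≠ 1, the value ψ z is an integer n with Nat.card P dividing ψ(1) − n (as integers, ψ 1 being the degree). -/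
theorem result {G : Type*} [Group G] [Finite G] (p : ℕ) [Fact p.Prime] (P : Sylow p G) (hTI : Cfsg.IsTISubset ((P : Subgroup G) : Set G)) (hodd : Odd (Nat.card (Subgroup.normalizer ((P : Subgroup G) : Set G)))) (Z : Subgroup G) (hZ1 : Z ≠ ⊥) (hZP : Z ≤ P) (hZn : ∀ x ∈ Subgroup.normalizer ((P : Subgroup G) : Set G), ∀ z ∈ Z, x * z * x⁻¹ ∈ Z) (hZc : ∀ z ∈ Z, ∀ y ∈ (P : Subgroup G), z * y = y * z) (hCL : ∀ z ∈ Z, ∀ z' ∈ Z, z ≠ 1 → z' ≠ 1 → Nat.card ↥(Subgroup.normalizer ((P : Subgroup G) : Set G) ⊓ Subgroup.centralizer ({z} : Set G)) = Nat.card ↥(Subgroup.normalizer ((P : Subgroup G) : Set G) ⊓ Subgroup.centralizer ({z'} : Set G))) (ψ : G → ℂ) (hψ : Cfsg.IsIrrCharacter G ψ) (hconst : ∀ z ∈ Z, ∀ z' ∈ Z, z ≠ 1 → z' ≠ 1 → ψ z = ψ z') (z : G) (hz : z ∈ Z) (hz1 : z ≠ 1) : ∃ n d : ℤ, ψ z = n ∧ ψ 1 = d ∧ (Nat.card (P : Subgroup G) : ℤ) ∣ d - n := by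
  classical
  haveI := Fintype.ofFinite G
  set N := Subgroup.normalizer ((P : Subgroup G) : Set G) with hN
  have hψc := IsIrrCharacter.isCharacter hψ
  have hψcl := IsCharacter.isClassFunction hψc
  have hzinv : z⁻¹ ∈ Z := Z.inv_mem hz
  have hzinv1 : z⁻¹ ≠ 1 := inv_ne_one.mpr hz1
  have hn' : ψ z⁻¹ = ψ z := hconst _ hzinv _ hz hzinv1 hz1
  -- TI
  have hti : ∀ g x : G, x ∈ (P : Subgroup G) → g * x * g⁻¹ ∈ (P : Subgroup G) → x ≠ 1 → g ∈ N :=
    fun g x hx hgx hx1 => not_not.mp fun h => hx1 (hTI g h x hx hgx)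
  have hzz : ∀ g : G, g * z * g⁻¹ ≠ z⁻¹ := by
    intro g hg
    have hgN : g ∈ N := hti g z (hZP hz) (hg ▸ hZP hzinv) hz1
    have hsq : Commute (g ^ 2) z := by
      have h2 : g * z⁻¹ * g⁻¹ = z := by
        rw [← inv_inv z] at hg ⊢
        simpa [mul_assoc] using congrArg (·⁻¹) hg
      calc g ^ 2 * z = g * (g * z * g⁻¹) * g := by rw [pow_two]; group
        _ = g * z⁻¹ * g := by rw [hg]
        _ = g * z⁻¹ * g⁻¹ * g ^ 2 := by group
        _ = z * g ^ 2 := by rw [h2]
    have hodd' : Odd (orderOf g) := by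
      refine Odd.of_dvd_nat hodd ?_
      rw [← Subgroup.orderOf_mk g hgN]
      exact orderOf_dvd_natCard _
    obtain ⟨k, hk⟩ := hodd'
    have hgk : g = (g ^ 2) ^ (k + 1) := by
      rw [← pow_mul, show 2 * (k + 1) = orderOf g + 1 by omega, pow_succ, pow_orderOf_eq_one, one_mul]
    have hcomm : Commute g z := by
      rw [hgk]
      exact hsq.pow_left _
    rw [hcomm.eq, mul_inv_cancel_right] at hg
    have h2 : z ^ 2 = 1 := by
      rw [pow_two]
      nth_rewrite 2 [hg]
      exact mul_inv_cancel z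
    have hoz : Odd (orderOf z) := by
      refine Odd.of_dvd_nat hodd ?_
      rw [← Subgroup.orderOf_mk z ((Subgroup.le_normalizer) (hZP hz))]
      exact orderOf_dvd_natCard _
    have := orderOf_dvd_of_pow_eq_one h2
    rcases (Nat.dvd_prime Nat.prime_two).mp this with h | h
    · exact hz1 (orderOf_eq_one_iff.mp h)
    · rw [h] at hoz
      exact absurd hoz (by decide)
  -- integrality
  obtain ⟨d, hd⟩ := IsCharacter.exists_apply_one hψc
  haveI : Fintype Z := Fintype.ofFinite Z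
  obtain ⟨n, hn⟩ : ∃ n : ℤ, ψ z = n := by
    obtain ⟨m, hm⟩ := IsCharacter.exists_classInner_nat (IsCharacter.restrict hψc Z)
      (isCharacter_one (G := Z))
    have hZcard : 2 ≤ Fintype.card Z := by
      have := Fintype.one_lt_card_iff.mpr ⟨(⟨z, hz⟩ : Z), 1, by simp [Subtype.ext_iff, hz1]⟩
      omega
    have hsum : ∑ x : Z, ψ x = (Fintype.card Z : ℂ) * m := by
      rw [← hm, Cfsg.classInner, Nat.card_eq_fintype_card, mul_inv_cancel_left₀ (by simp)]
      simp
    have hsplit : ∑ x : Z, ψ x = (d : ℂ) + ((Fintype.card Z : ℂ) - 1) * ψ z := by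
      rw [← Finset.add_sum_erase Finset.univ _ (Finset.mem_univ (1 : Z)),
        Finset.sum_congr rfl (g := fun _ => ψ z) fun x hx => hconst _ x.2 _ hz (by
          simpa using (Finset.mem_erase.mp hx).1) hz1]
      simp [hd, Finset.card_erase_of_mem, Nat.cast_sub (show 1 ≤ Fintype.card Z by omega)]
    have hne : ((Fintype.card Z : ℂ) - 1) ≠ 0 := by
      rw [sub_ne_zero]
      exact_mod_cast (show Fintype.card Z ≠ 1 by omega)
    set q : ℚ := ((Fintype.card Z : ℚ) * m - d) / ((Fintype.card Z : ℚ) - 1) with hq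
    have hqv : ψ z = (q : ℂ) := by
      rw [hq]
      push_cast
      rw [eq_div_iff hne, ← hsum, hsplit]
      ring
    obtain ⟨n, hn⟩ := exists_int_of_isIntegral_rat (q := q) (hqv ▸ IsCharacter.isIntegral hψc z)
    exact ⟨n, by rw [hqv, hn]; simp⟩
  refine ⟨n, d, hn, by simp [hd], ?_⟩
  -- the class of z and of its inverse
  set C := Finset.univ.filter fun x : G => ∃ g : G, g * z * g⁻¹ = x with hC
  set C' := C.image (·⁻¹) with hC'
  have hCconj : ∀ (a : G), ∀ x ∈ C, a * x * a⁻¹ ∈ C := by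
    intro a x hx
    simp only [hC, Finset.mem_filter, Finset.mem_univ, true_and] at hx ⊢
    obtain ⟨g, rfl⟩ := hx
    exact ⟨a * g, by group⟩
  have hC'mem : ∀ x, x ∈ C' ↔ x⁻¹ ∈ C := fun x => by
    simp [hC', inv_eq_iff_eq_inv]
  have hC'conj : ∀ (a : G), ∀ x ∈ C', a * x * a⁻¹ ∈ C' := by
    intro a x hx
    rw [hC'mem] at hx ⊢
    simpa [mul_assoc] using hCconj a _ hx
  have hcard' : C'.card = C.card := Finset.card_image_of_injective _ inv_injective
  have hvalC : ∀ x ∈ C, ψ x = n := by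
    intro x hx
    obtain ⟨g, rfl⟩ := (Finset.mem_filter.mp hx).2
    rw [hψcl, hn]
  have hvalC' : ∀ x ∈ C', ψ x = n := by
    intro x hx
    obtain ⟨g, hg⟩ := (Finset.mem_filter.mp ((hC'mem x).mp hx)).2
    rw [← inv_inv x, ← hg, show (g * z * g⁻¹)⁻¹ = g * z⁻¹ * g⁻¹ by group, hψcl, hn', hn]
  have hf : IsClassFunction G fun x => if x ∈ C then (1 : ℂ) else 0 := by
    intro x a
    refine if_congr ⟨fun h => ?_, hCconj a x⟩ rfl rfl
    simpa [mul_assoc] using hCconj a⁻¹ _ h
  have hid : ∀ A : Finset G, (∀ x ∈ A, ψ x = n) → A.card = C.card →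
      ∑ q ∈ A ×ˢ C, ψ (q.1 * q.2) = (C.card : ℂ) * n / d * ((C.card : ℂ) * n) := by
    intro A hA hAc
    rw [Finset.sum_product, Finset.sum_congr rfl (g := fun _ => (C.card : ℂ) * n / d * n) fun w hw => ?_,
      Finset.sum_const, hAc, nsmul_eq_mul]
    · ring
    · have := sum_classFun_mul_char ⟨ψ, hψ⟩ hf w
      simp only [ite_mul, one_mul, zero_mul, Finset.sum_ite_mem, Finset.univ_inter] at this
      rw [this, Finset.sum_congr rfl hvalC, Finset.sum_const, nsmul_eq_mul, hd, hA w hw]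
  -- the exceptional products
  let U : G → Prop := fun u => u ≠ 1 ∧ ∃ g : G, g * u * g⁻¹ ∈ Z
  have hUval : ∀ u, U u → ψ u = n := by
    rintro u ⟨hu1, g, hg⟩
    rw [← hψcl u g, hconst _ hg _ hz ?_ hz1, hn]
    intro h
    exact hu1 (conj_eq_one_iff.mp h)
  have hconjmem : ∀ (g : G), ∀ w, (w = g * z * g⁻¹ ∨ w = g * z⁻¹ * g⁻¹) → w ∈ N → w ∈ Z := by
    intro g w hw hwN
    obtain ⟨v, hv, hv1, rfl⟩ : ∃ v ∈ Z, v ≠ 1 ∧ w = g * v * g⁻¹ := by
      rcases hw with h | h
      exacts [⟨z, hz, hz1, h⟩, ⟨z⁻¹, hzinv, hzinv1, h⟩]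
    have hp : IsPGroup p (Subgroup.zpowers (g * v * g⁻¹)) := by
      rintro ⟨x, hx⟩
      obtain ⟨i, rfl⟩ := Subgroup.mem_zpowers_iff.mp hx
      obtain ⟨k, hk⟩ := P.2 ⟨v ^ i, Subgroup.zpow_mem _ (hZP hv) i⟩
      refine ⟨k, Subtype.ext ?_⟩
      have hk' := congrArg (Subtype.val) hk
      simp only [SubgroupClass.coe_pow, OneMemClass.coe_one] at hk' ⊢
      rw [conj_zpow, conj_pow, hk', mul_one, mul_inv_cancel]
    have hwP : g * v * g⁻¹ ∈ (P : Subgroup G) := by
      have h := hp.inf_normalizer_sylow P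
      exact (h.le (Subgroup.mem_inf.mpr ⟨Subgroup.mem_zpowers _, hwN⟩)).2
    exact hZn g (hti g v (hZP hv) hwP hv1) v hv
  let σ : ↥(P : Subgroup G) → G × G → G × G := fun a q => ((a : G) * q.1 * (a : G)⁻¹, (a : G) * q.2 * (a : G)⁻¹)
  have hkey : ∀ A : Finset G, (∀ a : G, ∀ x ∈ A, a * x * a⁻¹ ∈ A) → A.card = C.card →
      (∀ x ∈ A, ψ x = n) → (∀ x ∈ A, ∃ g, x = g * z * g⁻¹ ∨ x = g * z⁻¹ * g⁻¹) →
      ∃ α : ℂ, IsIntegral ℤ α ∧ ∑ q ∈ A ×ˢ C, ψ (q.1 * q.2) =
        (C.card : ℂ) * C.card * n + ((A ×ˢ C).filter fun q => q.1 * q.2 = 1).card * ((d : ℂ) - n) +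
        (Fintype.card (P : Subgroup G) : ℂ) * α := by
    intro A hAconj hAcard hA hAform
    set T := (A ×ˢ C).filter fun q => q.1 * q.2 ≠ 1 ∧ ¬ U (q.1 * q.2) with hT
    obtain ⟨α, hα, hsum⟩ := sum_free σ (fun q => by simp [σ]) (fun a b q => by
        simp only [σ, Subgroup.coe_mul]
        ext <;> group)
      (fun q => ψ (q.1 * q.2) - n) (fun a q => by
        have := hψcl (q.1 * q.2) (a : G)
        simp only [σ]
        rw [← this]
        congr 2
        group)
      (fun q => (IsCharacter.isIntegral hψc _).sub (by exact_mod_cast isIntegral_algebraMap (x := n))) T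
      (fun a q hq => by
        simp only [hT, Finset.mem_filter, Finset.mem_product, σ] at hq ⊢
        have he : (a : G) * q.1 * (a : G)⁻¹ * ((a : G) * q.2 * (a : G)⁻¹) =
            (a : G) * (q.1 * q.2) * (a : G)⁻¹ := by group
        rw [he]
        refine ⟨⟨hAconj _ _ hq.1.1, hCconj _ _ hq.1.2⟩, fun h => hq.2.1 (conj_eq_one_iff.mp h), ?_⟩
        rintro ⟨h1, g, hg⟩
        exact hq.2.2 ⟨hq.2.1, g * a, by simpa [mul_assoc] using hg⟩)
      (fun a q hq hfix => by
        simp only [hT, Finset.mem_filter, Finset.mem_product, σ, Prod.ext_iff] at hq hfix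
        by_contra ha
        have ha1 : (a : G) ≠ 1 := fun h => ha (Subtype.ext h)
        have hinN : ∀ w : G, (a : G) * w * (a : G)⁻¹ = w → w ∈ N := by
          intro w hw
          refine hti w a a.2 ?_ ha1
          rw [show w * (a : G) = (a : G) * w from (mul_inv_eq_iff_eq_mul.mp hw).symm,
            mul_inv_cancel_right]
          exact a.2
        obtain ⟨g₁, hg₁⟩ := hAform _ hq.1.1
        obtain ⟨g₂, hg₂⟩ := (Finset.mem_filter.mp hq.1.2).2
        have hZmem : q.1 * q.2 ∈ Z := Z.mul_mem (hconjmem g₁ _ hg₁ (hinN _ hfix.1))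
          (hconjmem g₂ _ (Or.inl hg₂.symm) (hinN _ hfix.2))
        exact hq.2.2 ⟨hq.2.1, 1, by simpa using hZmem⟩)
    refine ⟨α, hα, ?_⟩
    have hone' : (((A ×ˢ C).filter fun q => q.1 * q.2 = 1).card : ℂ) * ((d : ℂ) - n) =
        ∑ q ∈ A ×ˢ C, if q.1 * q.2 = 1 then (d : ℂ) - n else 0 := by
      rw [← Finset.sum_filter, Finset.sum_const, nsmul_eq_mul]
    rw [← hsum, hT, Finset.sum_filter, hone']
    have hc : (C.card : ℂ) * C.card * n = ∑ q ∈ A ×ˢ C, (n : ℂ) := by
      rw [Finset.sum_const, Finset.card_product, hAcard]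
      simp
    rw [hc, ← Finset.sum_add_distrib, ← Finset.sum_add_distrib]
    refine Finset.sum_congr rfl fun q _ => ?_
    by_cases h1 : q.1 * q.2 = 1
    · simp [h1, hd]
    · by_cases h2 : U (q.1 * q.2)
      · simp [h1, h2, hUval _ h2]
      · simp [h1, h2]
  obtain ⟨α, hα, hα'⟩ := hkey C hCconj rfl hvalC fun x hx => by
    obtain ⟨g, hg⟩ := (Finset.mem_filter.mp hx).2
    exact ⟨g, Or.inl hg.symm⟩
  obtain ⟨β, hβ, hβ'⟩ := hkey C' hC'conj hcard' hvalC' fun x hx => by
    obtain ⟨g, hg⟩ := (Finset.mem_filter.mp ((hC'mem x).mp hx)).2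
    exact ⟨g, Or.inr (by rw [← inv_inv x, ← hg]; group)⟩
  have hnone : ((C ×ˢ C).filter fun q => q.1 * q.2 = 1).card = 0 := by
    rw [Finset.card_eq_zero, Finset.filter_eq_empty_iff]
    intro q hq h
    rw [Finset.mem_product] at hq
    obtain ⟨g, hg⟩ := (Finset.mem_filter.mp hq.1).2
    obtain ⟨k, hk⟩ := (Finset.mem_filter.mp hq.2).2
    rw [mul_eq_one_iff_eq_inv, ← hg, ← hk] at h
    exact hzz (k⁻¹ * g) (by
      calc k⁻¹ * g * z * (k⁻¹ * g)⁻¹ = k⁻¹ * (g * z * g⁻¹) * k := by group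
        _ = z⁻¹ := by rw [h]; group)
  have hsome : ((C' ×ˢ C).filter fun q => q.1 * q.2 = 1).card = C.card := by
    refine Finset.card_bij' (fun q _ => q.2) (fun x _ => (x⁻¹, x)) ?_ ?_ ?_ ?_
    · intro q hq; exact (Finset.mem_product.mp (Finset.mem_filter.mp hq).1).2
    · intro x hx; simp [hC'mem, hx]
    · intro q hq
      have := mul_eq_one_iff_eq_inv.mp (Finset.mem_filter.mp hq).2
      ext <;> simp [this]
    · intro x _; rfl
  have heq : ((C.card : ℤ) * ((d : ℤ) - n) : ℂ) = (Fintype.card (P : Subgroup G) : ℂ) * (α - β) := by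
    have h1 := (hid C hvalC rfl).symm.trans hα'
    have h2 := (hid C' hvalC' hcard').symm.trans hβ'
    rw [hnone] at h1
    rw [hsome] at h2
    rw [h1] at h2
    push_cast at h2 ⊢
    linear_combination -h2
  have hP0 : (Fintype.card (P : Subgroup G) : ℂ) ≠ 0 := by simp
  have hint := hα.sub hβ
  rw [show α - β = ((((C.card : ℤ) * ((d : ℤ) - n) : ℤ) : ℚ) / (Fintype.card (P : Subgroup G) : ℚ) : ℚ) by
    push_cast at heq ⊢; rw [heq]; field_simp] at hint
  obtain ⟨m, hm⟩ := exists_int_of_isIntegral_rat hint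
  have hdvd : (Nat.card (P : Subgroup G) : ℤ) ∣ (C.card : ℤ) * ((d : ℤ) - n) := by
    refine ⟨m, ?_⟩
    rw [Nat.card_eq_fintype_card]
    rw [div_eq_iff (by simp)] at hm
    have := hm.trans (mul_comm _ _)
    exact_mod_cast this
  have hcop : Int.gcd (Nat.card (P : Subgroup G)) C.card = 1 := by
    rw [Int.gcd_natCast_natCast]
    have hmul : C.card * Nat.card (Subgroup.centralizer ({z} : Set G)) = Nat.card G := by
      rw [Nat.card_eq_fintype_card (α := G), ← Finset.card_univ,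
        Finset.card_eq_sum_card_fiberwise (s := (Finset.univ : Finset G)) (f := fun g : G => g * z * g⁻¹) (t := C)
          (fun g _ => by simp [hC])]
      rw [Finset.sum_const_nat (m := Nat.card (Subgroup.centralizer ({z} : Set G)))]
      intro x hx
      obtain ⟨g₀, hg₀⟩ := (Finset.mem_filter.mp hx).2
      rw [Nat.card_eq_fintype_card, ← Finset.card_univ]
      refine Finset.card_bij' (fun g hg => ⟨g₀⁻¹ * g, ?_⟩) (fun c _ => g₀ * (c : G)) ?_ ?_ ?_ ?_
      · have hg' : g * z * g⁻¹ = g₀ * z * g₀⁻¹ := by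
          rw [(Finset.mem_filter.mp hg).2, hg₀]
        rw [Subgroup.mem_centralizer_singleton_iff]
        calc g₀⁻¹ * g * z = g₀⁻¹ * (g * z * g⁻¹) * g := by group
          _ = z * (g₀⁻¹ * g) := by rw [hg']; group
      · intro g _; simp
      · intro c _
        have hc := Subgroup.mem_centralizer_singleton_iff.mp c.2
        simp only [Finset.mem_filter, Finset.mem_univ, true_and]
        rw [← hg₀]
        calc g₀ * (c : G) * z * (g₀ * (c : G))⁻¹ = g₀ * ((c : G) * z) * (c : G)⁻¹ * g₀⁻¹ := by group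
          _ = g₀ * z * g₀⁻¹ := by rw [hc]; group
      · intro g _; simp
      · intro c _; ext; simp
    have hPc : (P : Subgroup G) ≤ Subgroup.centralizer ({z} : Set G) := fun y hy =>
      Subgroup.mem_centralizer_singleton_iff.mpr (hZc z hz y hy).symm
    obtain ⟨t, ht⟩ := Subgroup.card_dvd_of_le hPc
    have hidx : C.card * t = (P : Subgroup G).index := by
      refine Nat.eq_of_mul_eq_mul_left (Nat.card_pos (α := (P : Subgroup G))) ?_
      rw [Subgroup.card_mul_index, ← hmul, ht]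
      ring
    obtain ⟨k, hk⟩ := (IsPGroup.iff_card.mp P.2)
    rw [hk]
    refine Nat.Coprime.pow_left _ ((Fact.out : p.Prime).coprime_iff_not_dvd.mpr fun h => ?_)
    exact P.not_dvd_index (hidx ▸ h.mul_right t)
  exact Int.dvd_of_dvd_mul_right_of_gcd_one hdvd hcop

end Cfsg.Agent.S1523
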