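import Cfsg.Statements.S1530
import Cfsg.Agent.Lib.OddChar.CohExt

set_option autoImplicit false
open Cfsg

namespace Cfsg.Agent.S1530

open Cfsg.Agent.Lib.Characters Cfsg.Agent.Lib.OddChar

/-- Let N be a subgroup of the finite group G and S₀ a finite set of irreducible characters of N, χ an irreducible character of N not in S₀, with degrees ξ 1 = d ξ. Let τ be a linear isometry on the integer combinations of S₀ ∪ {χ} vanishing at 1, with values virtual characters of G vanishing at 1, such that (S₀, N minus 1, τ) is coherent. If some ψ ∈ S₀ has d ψ dividing d χ and 2 · d ψ · d χ < Σ_{ξ ∈ S₀} (d ξ)², then (S₀ ∪ {χ}, N minus 1, τ) is coherent. -/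
theorem result {G : Type*} [Group G] [Fintype G] (N : Subgroup G) [Fintype N] (S₀ : Finset (N → ℂ)) (χ : N → ℂ) (hirr : ∀ ξ ∈ S₀, Cfsg.IsIrrCharacter N ξ) (hχ : Cfsg.IsIrrCharacter N χ) (hχS : χ ∉ S₀) (d : (N → ℂ) → ℕ) (hd : ∀ ξ ∈ insert χ S₀, ξ 1 = (d ξ : ℂ)) (τ : (N → ℂ) → (G → ℂ)) (hτ : Cfsg.IsLinearIsometryOn (Cfsg.zspanOn (↑(insert χ S₀) : Set (N → ℂ)) {1}ᶜ) τ) (hτ1 : ∀ α ∈ Cfsg.zspanOn (↑(insert χ S₀) : Set (N → ℂ)) {1}ᶜ, τ α 1 = 0) (hcoh : Cfsg.IsCoherent (↑S₀ : Set (N → ℂ)) {1}ᶜ τ) (ψ : N → ℂ) (hψ : ψ ∈ S₀) (hdvd : d ψ ∣ d χ) (hlt : 2 * d ψ * d χ < ∑ ξ ∈ S₀, d ξ ^ 2) : Cfsg.IsCoherent (↑(insert χ S₀) : Set (N → ℂ)) {1}ᶜ τ := by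
  classical
  obtain ⟨-, τ₁, hτ₁, hagree⟩ := hcoh
  have hS : ∀ ξ ∈ insert χ S₀, Cfsg.IsIrrCharacter N ξ := fun ξ hξ => by
    rcases Finset.mem_insert.mp hξ with rfl | h
    exacts [hχ, hirr ξ h]
  have hdpos : ∀ ξ ∈ insert χ S₀, 0 < d ξ := by
    intro ξ hξ
    refine Nat.pos_of_ne_zero fun h => IsIrrCharacter.apply_one_ne_zero (hS ξ hξ) ?_
    rw [hd ξ hξ, h, Nat.cast_zero]
  have hi : ∀ ξ ∈ S₀, ξ ∈ insert χ S₀ := fun ξ hξ => Finset.mem_insert_of_mem hξ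
  have hχi : χ ∈ insert χ S₀ := Finset.mem_insert_self _ _
  have horth : ∀ ξ ∈ insert χ S₀, ∀ η ∈ insert χ S₀,
      Cfsg.classInner ξ η = if ξ = η then 1 else 0 := by
    intro ξ hξ η hη
    split_ifs with h
    · subst h; exact IsIrrCharacter.classInner_self (hS ξ hξ)
    · exact IsIrrCharacter.classInner_ne (hS ξ hξ) (hS η hη) h
  have hmem : ∀ ξ ∈ S₀, ξ ∈ Cfsg.zspan (↑S₀ : Set (N → ℂ)) := fun ξ hξ => Submodule.subset_span hξ
  have hsub : (↑S₀ : Set (N → ℂ)) ⊆ ↑(insert χ S₀) := by simp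
  obtain ⟨m, hm⟩ := hdvd
  have hdψ := hdpos ψ (hi ψ hψ)
  have hm0 : 0 < m := by
    rcases Nat.eq_zero_or_pos m with h | h
    · rw [h, mul_zero] at hm; exact absurd hm (hdpos χ hχi).ne'
    · exact h
  have hχS₀ : ∀ ξ ∈ S₀, χ ≠ ξ := fun ξ hξ e => hχS (e ▸ hξ)
  have hΘmem : χ - (m : ℂ) • ψ ∈ Cfsg.zspanOn (↑(insert χ S₀) : Set (N → ℂ)) {1}ᶜ := by
    refine mem_zspanOn_one.mpr ⟨Submodule.sub_mem _ (Submodule.subset_span (by simp)) ?_, ?_⟩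
    · have := Submodule.smul_mem (Submodule.span ℤ (↑(insert χ S₀) : Set (N → ℂ))) (m : ℤ)
        (Submodule.subset_span (hi ψ hψ : ψ ∈ (↑(insert χ S₀) : Set (N → ℂ))))
      simpa [← Int.cast_smul_eq_zsmul ℂ] using this
    · simp [hd χ hχi, hd ψ (hi ψ hψ), hm, mul_comm]
  set Θ := τ (χ - (m : ℂ) • ψ) with hΘ
  have hΘgen : Cfsg.IsGeneralizedCharacter G Θ := hτ.2.2.2 _ hΘmem
  have hΘΘ : Cfsg.classInner Θ Θ = ((1 + (m : ℝ) ^ 2 : ℝ) : ℂ) := by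
    rw [hΘ, hτ.2.2.1 _ hΘmem _ hΘmem, classInner_sub_left, classInner_sub_right, classInner_sub_right,
      classInner_smul_left, classInner_smul_left, classInner_smul_right, classInner_smul_right,
      horth _ hχi _ hχi, horth _ hχi _ (hi ψ hψ), horth _ (hi ψ hψ) _ hχi, horth _ (hi ψ hψ) _ (hi ψ hψ),
      if_pos rfl, if_neg (hχS₀ ψ hψ), if_neg (Ne.symm (hχS₀ ψ hψ)), if_pos rfl, map_natCast]
    push_cast
    ring
  choose c hc using fun ξ : S₀ =>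
    IsGeneralizedCharacter.exists_classInner_int hΘgen (hτ₁.2.2.2 _ (hmem ξ ξ.2))
  set a : ℤ := c ⟨ψ, hψ⟩ + m with ha
  have hscale : ∀ ξ ∈ S₀, ((d ψ : ℂ) • ξ - (d ξ : ℂ) • ψ ∈ Cfsg.zspanOn (↑S₀ : Set (N → ℂ)) {1}ᶜ) ∧
      τ ((d ψ : ℂ) • ξ - (d ξ : ℂ) • ψ) = (d ψ : ℂ) • τ₁ ξ - (d ξ : ℂ) • τ₁ ψ := by
    intro ξ hξ
    have hz1 : (d ψ : ℂ) • ξ ∈ Cfsg.zspan (↑S₀ : Set (N → ℂ)) := by
      simpa [← Int.cast_smul_eq_zsmul ℂ, Cfsg.zspan] using Submodule.smul_mem _ (d ψ : ℤ) (hmem ξ hξ)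
    have hz2 : (d ξ : ℂ) • ψ ∈ Cfsg.zspan (↑S₀ : Set (N → ℂ)) := by
      simpa [← Int.cast_smul_eq_zsmul ℂ, Cfsg.zspan] using Submodule.smul_mem _ (d ξ : ℤ) (hmem ψ hψ)
    have hz : (d ψ : ℂ) • ξ - (d ξ : ℂ) • ψ ∈ Cfsg.zspanOn (↑S₀ : Set (N → ℂ)) {1}ᶜ :=
      mem_zspanOn_one.mpr ⟨Submodule.sub_mem _ hz1 hz2,
        by simp [hd ξ (hi ξ hξ), hd ψ (hi ψ hψ), mul_comm]⟩
    refine ⟨hz, ?_⟩
    rw [← hagree _ hz, iso_sub hτ₁ hz1 hz2 (Submodule.neg_mem _ hz2), iso_smul_nat hτ₁ (hmem ξ hξ),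
      iso_smul_nat hτ₁ (hmem ψ hψ)]
  have hck : ∀ ξ : S₀, (c ξ : ℤ) * d ψ = a * d ξ - if (ξ : N → ℂ) = ψ then (m : ℤ) * d ψ else 0 := by
    rintro ⟨ξ, hξ⟩
    by_cases he : ξ = ψ
    · subst he; rw [if_pos rfl, ha]; ring
    obtain ⟨hz, hz'⟩ := hscale ξ hξ
    have h2 := hτ.2.2.1 _ hΘmem _ (zspanOn_mono hsub hz)
    rw [hz', ← hΘ] at h2
    simp only [classInner_sub_left, classInner_sub_right, classInner_smul_left, classInner_smul_right,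
      map_natCast, horth _ hχi _ (hi ξ hξ), horth _ hχi _ (hi ψ hψ), horth _ (hi ψ hψ) _ (hi ξ hξ),
      horth _ (hi ψ hψ) _ (hi ψ hψ), if_neg (hχS₀ ξ hξ), if_neg (hχS₀ ψ hψ), if_neg (Ne.symm he),
      if_true, hc ⟨ξ, hξ⟩, hc ⟨ψ, hψ⟩] at h2
    rw [if_neg he, sub_zero, ha]
    refine Int.cast_injective (α := ℂ) ?_
    push_cast
    linear_combination h2
  have hO : ∀ i j : S₀, Cfsg.classInner (τ₁ i) (τ₁ j) = if i = j then (((fun _ => (1 : ℝ)) i : ℝ) : ℂ) else 0 := by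
    intro i j
    rw [hτ₁.2.2.1 _ (hmem _ i.2) _ (hmem _ j.2), horth _ (hi _ i.2) _ (hi _ j.2)]
    simp [Subtype.coe_inj]
  have hle := bessel_le (fun i : S₀ => τ₁ i) (fun _ => (1 : ℝ)) (fun _ => one_ne_zero) hO Θ _ hΘΘ
    (fun i => (c i : ℝ)) (fun i => by simp [hc])
  simp only [div_one] at hle
  set K : ℤ := ∑ i : S₀, c i ^ 2 with hK
  have hKle : K ≤ 1 + (m : ℤ) ^ 2 := by rw [hK]; exact_mod_cast hle
  set T : ℤ := ∑ ξ ∈ S₀, (d ξ : ℤ) ^ 2 with hT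
  have hKT : K * (d ψ : ℤ) ^ 2 = a ^ 2 * T - 2 * a * m * (d ψ : ℤ) ^ 2 + (m : ℤ) ^ 2 * (d ψ : ℤ) ^ 2 := by
    rw [hK, hT, ← Finset.sum_coe_sort S₀, Finset.sum_mul, Finset.mul_sum]
    have hpt : ∀ ξ : S₀, c ξ ^ 2 * (d ψ : ℤ) ^ 2 = a ^ 2 * (d (ξ : N → ℂ) : ℤ) ^ 2 +
        if ξ = ⟨ψ, hψ⟩ then -2 * a * m * (d ψ : ℤ) ^ 2 + (m : ℤ) ^ 2 * (d ψ : ℤ) ^ 2 else 0 := by
      intro ξ
      rw [← mul_pow, hck ξ]
      by_cases he : ξ = ⟨ψ, hψ⟩
      · subst he; simp; ring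
      · rw [if_neg he, if_neg fun e => he (Subtype.ext e)]; ring
    rw [Finset.sum_congr rfl fun ξ _ => hpt ξ, Finset.sum_add_distrib, Finset.sum_ite_eq',
      if_pos (Finset.mem_univ _)]
    ring
  have hTlt : 2 * (m : ℤ) * (d ψ : ℤ) ^ 2 < T := by
    have : ((2 * d ψ * d χ : ℕ) : ℤ) < ((∑ ξ ∈ S₀, d ξ ^ 2 : ℕ) : ℤ) := by exact_mod_cast hlt
    rw [hm] at this
    push_cast at this
    rw [hT]
    linarith
  have hd2 : (0 : ℤ) < (d ψ : ℤ) ^ 2 := by positivity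
  have hmz : (1 : ℤ) ≤ m := by exact_mod_cast hm0
  have ha0 : a = 0 := by
    by_contra hne
    have hmul := mul_le_mul_of_nonneg_right hKle hd2.le
    have hkey : a ^ 2 * T ≤ (2 * a * m + 1) * (d ψ : ℤ) ^ 2 := by linarith
    have ha2 : 0 < a ^ 2 := by positivity
    have hlt' : a ^ 2 * (2 * (m : ℤ) * (d ψ : ℤ) ^ 2) < a ^ 2 * T := mul_lt_mul_of_pos_left hTlt ha2
    rcases (show a ≤ -1 ∨ a = 1 ∨ 2 ≤ a by omega) with h1 | h1 | h1
    · have h3 : 2 * (m : ℤ) * a ^ 2 < 2 * a * m + 1 :=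
        lt_of_mul_lt_mul_right (a := (d ψ : ℤ) ^ 2) (by linarith) hd2.le
      have h4 : 2 ≤ a ^ 2 - a := by nlinarith
      nlinarith [mul_le_mul hmz h4 (by norm_num) (by linarith)]
    · rw [h1] at hKT hkey
      have hK' : K = (m : ℤ) ^ 2 + 1 := by
        refine le_antisymm (by linarith) ?_
        nlinarith
      have hT' : T = (2 * (m : ℤ) + 1) * (d ψ : ℤ) ^ 2 := by rw [hK'] at hKT; linarith
      have heq := bessel_eq (fun i : S₀ => τ₁ i) (fun _ => (1 : ℝ)) (fun _ => one_ne_zero) hO Θ _ hΘΘ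
        (fun i => (c i : ℝ)) (fun i => by simp [hc]) (by
          simp only [div_one]
          exact_mod_cast (by rw [← hK, hK']; linarith : (1 + (m : ℤ) ^ 2) ≤ ∑ i : S₀, c i ^ 2))
      have ht : τ₁ ψ 1 ≠ 0 := by
        obtain ⟨μ, hμ⟩ := IsGeneralizedCharacter.eq_pm_irr (hτ₁.2.2.2 _ (hmem ψ hψ)) (by
          rw [hτ₁.2.2.1 _ (hmem ψ hψ) _ (hmem ψ hψ), horth _ (hi ψ hψ) _ (hi ψ hψ), if_pos rfl])
        rcases hμ with e | e <;> rw [e] <;> simp [IsIrrCharacter.apply_one_ne_zero μ.2]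
      have hval : ∀ i : S₀, (d ψ : ℂ) * τ₁ i 1 = (d (i : N → ℂ) : ℂ) * τ₁ ψ 1 := by
        intro i
        obtain ⟨hz, hz'⟩ := hscale i i.2
        have := hτ1 _ (zspanOn_mono hsub hz)
        rw [hz'] at this
        simp only [Pi.sub_apply, Pi.smul_apply, smul_eq_mul] at this
        exact sub_eq_zero.mp this
      have h0 := congrFun heq 1
      rw [show Θ 1 = 0 from hτ1 _ hΘmem] at h0
      simp only [div_one, Finset.sum_apply, Pi.smul_apply, smul_eq_mul, Complex.ofReal_intCast] at h0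
      have h1' : (d ψ : ℂ) * ((d ψ : ℂ) * (0 : ℂ)) =
          (((T - (m : ℤ) * (d ψ : ℤ) ^ 2 : ℤ)) : ℂ) * τ₁ ψ 1 := by
        rw [h0, Finset.mul_sum, Finset.mul_sum]
        have hpt : ∀ i : S₀, (d ψ : ℂ) * ((d ψ : ℂ) * ((c i : ℂ) * τ₁ i 1)) =
            (((d (i : N → ℂ) : ℤ) ^ 2 - if i = ⟨ψ, hψ⟩ then (m : ℤ) * (d ψ : ℤ) ^ 2 else 0 : ℤ) : ℂ) * τ₁ ψ 1 := by
          intro i
          have e := hck i
          rw [h1, one_mul] at e
          have e' : (c i : ℂ) * (d ψ : ℂ) = ((d (i : N → ℂ) : ℤ) : ℂ) -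
              ((if (i : N → ℂ) = ψ then (m : ℤ) * d ψ else 0 : ℤ) : ℂ) := by exact_mod_cast e
          calc (d ψ : ℂ) * ((d ψ : ℂ) * ((c i : ℂ) * τ₁ i 1))
              = ((c i : ℂ) * (d ψ : ℂ)) * ((d ψ : ℂ) * τ₁ i 1) := by ring
            _ = _ := by
              rw [hval i, e']
              by_cases he : i = ⟨ψ, hψ⟩
              · subst he; simp; ring
              · rw [if_neg he, if_neg fun e => he (Subtype.ext e)]; push_cast; ring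
        rw [Finset.sum_congr rfl fun i _ => hpt i, ← Finset.sum_mul, ← Int.cast_sum,
          Finset.sum_sub_distrib, Finset.sum_ite_eq', if_pos (Finset.mem_univ _),
          Finset.sum_coe_sort S₀ (fun ξ => (d ξ : ℤ) ^ 2)]
      rw [mul_zero, mul_zero, eq_comm, mul_eq_zero, Int.cast_eq_zero] at h1'
      rcases h1' with h2 | h2
      · nlinarith
      · exact ht h2
    · have h3 : 2 * (m : ℤ) * a ^ 2 < 2 * a * m + 1 :=
        lt_of_mul_lt_mul_right (a := (d ψ : ℤ) ^ 2) (by linarith) hd2.le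
      have h4 : 2 ≤ a ^ 2 - a := by nlinarith
      nlinarith [mul_le_mul hmz h4 (by norm_num) (by linarith)]
  set X := Θ + (m : ℂ) • τ₁ ψ with hX
  have hXgen : Cfsg.IsGeneralizedCharacter G X := by
    refine IsGeneralizedCharacter.add hΘgen ?_
    simpa using IsGeneralizedCharacter.intCast_smul (hτ₁.2.2.2 _ (hmem ψ hψ)) (m : ℤ)
  have hXξ : ∀ ξ ∈ S₀, Cfsg.classInner X (τ₁ ξ) = 0 := by
    intro ξ hξ
    rw [hX, classInner_add_left, classInner_smul_left, hc ⟨ξ, hξ⟩, hτ₁.2.2.1 _ (hmem ψ hψ) _ (hmem ξ hξ),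
      horth _ (hi ψ hψ) _ (hi ξ hξ)]
    have e := hck ⟨ξ, hξ⟩
    rw [ha0, zero_mul, zero_sub] at e
    by_cases he : ξ = ψ
    · subst he
      rw [if_pos rfl] at e
      have : c ⟨ξ, hξ⟩ = -(m : ℤ) := by
        have h' : (c ⟨ξ, hξ⟩ + m) * (d ξ : ℤ) = 0 := by linarith
        rcases mul_eq_zero.mp h' with h | h
        · linarith
        · exact absurd h (by exact_mod_cast hdψ.ne')
      rw [this, if_pos rfl]; push_cast; ring
    · rw [if_neg he, neg_zero] at e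
      rcases mul_eq_zero.mp e with h | h
      · rw [h, if_neg (Ne.symm he)]; simp
      · exact absurd h (by exact_mod_cast hdψ.ne')
  have hXX : Cfsg.classInner X X = 1 := by
    have h1 := hXξ ψ hψ
    have h2 : Cfsg.classInner X Θ = 1 := by
      have e : Cfsg.classInner (τ₁ ψ) Θ = -(m : ℂ) := by
        rw [← classInner_conj_symm, hc ⟨ψ, hψ⟩, map_intCast]
        have : c ⟨ψ, hψ⟩ = -(m : ℤ) := by linarith
        rw [this]; push_cast; rfl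
      rw [hX, classInner_add_left, classInner_smul_left, hΘΘ, e]
      push_cast
      ring
    conv_lhs => arg 2; rw [hX]
    rw [classInner_add_right, classInner_smul_right, h1, h2, mul_zero, add_zero]
  obtain ⟨T', hT'⟩ := exists_linear_ext (S := (↑(insert χ S₀) : Set (N → ℂ)))
    (fun φ hφ η hη h => by rw [horth φ hφ η hη, if_neg h])
    (fun φ hφ => IsIrrCharacter.ne_zero (hS φ hφ))
    (fun φ => if φ = χ then X else τ₁ φ)
  have hTχ : T' χ = X := by rw [hT' χ hχi, if_pos rfl]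
  have hTξ : ∀ ξ ∈ S₀, T' ξ = τ₁ ξ := fun ξ hξ => by
    rw [hT' ξ (hi ξ hξ), if_neg (Ne.symm (hχS₀ ξ hξ))]
  refine ⟨⟨χ - (m : ℂ) • ψ, hΘmem, fun e => ?_⟩, T', isometry_of_gens T' ?_ ?_, ?_⟩
  · have h := congrArg (fun f => Cfsg.classInner f χ) e
    simp only [classInner_sub_left, classInner_smul_left, classInner_zero_left, horth _ hχi _ hχi,
      horth _ (hi ψ hψ) _ hχi, if_pos rfl, if_neg (Ne.symm (hχS₀ ψ hψ))] at h
    simp at h
  · intro φ hφ η hη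
    rcases Finset.mem_insert.mp hφ with rfl | hp <;> rcases Finset.mem_insert.mp hη with rfl | hq
    · rw [hTχ, hXX, horth _ hφ _ hη, if_pos rfl]
    · rw [hTχ, hTξ _ hq, hXξ _ hq, horth _ hφ _ hη, if_neg (hχS₀ _ hq)]
    · rw [hTξ _ hp, hTχ, ← classInner_conj_symm, hXξ _ hp, map_zero, horth _ hφ _ hη,
        if_neg (Ne.symm (hχS₀ _ hp))]
    · rw [hTξ _ hp, hTξ _ hq, hτ₁.2.2.1 _ (hmem _ hp) _ (hmem _ hq)]
  · intro φ hφ
    rcases Finset.mem_insert.mp hφ with rfl | hp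
    · rw [hTχ]; exact hXgen
    · rw [hTξ _ hp]; exact hτ₁.2.2.2 _ (hmem _ hp)
  · intro α hα
    have key : ∀ β ∈ Cfsg.zspan (↑S₀ : Set (N → ℂ)), T' β = τ₁ β := by
      intro β hβ
      induction hβ using Submodule.span_induction with
      | mem x hx => exact hTξ x hx
      | zero =>
        rw [map_zero]
        simpa using (hτ₁.2.1 _ (hmem ψ hψ) 0).symm
      | add y z hy' hz' hy hz => rw [map_add, hy, hz, hτ₁.1 _ hy' _ hz']
      | smul k y hy' hy => rw [map_zsmul, hy, hτ₁.2.1 _ hy']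
    obtain ⟨hαz, hα1⟩ := mem_zspanOn_one.mp hα
    rw [Cfsg.zspan, Finset.coe_insert, SetLike.mem_coe, Submodule.mem_span_insert] at hαz
    obtain ⟨i, r, hr, rfl⟩ := hαz
    set D1 := χ - (m : ℂ) • ψ with hD1
    set r' := r + (i * (m : ℤ)) • ψ with hr'
    have hdec : i • χ + r = r' + i • D1 := by
      funext x
      simp only [hr', hD1, Pi.add_apply, Pi.sub_apply, Pi.smul_apply, zsmul_eq_mul, smul_eq_mul,
        Pi.mul_apply, Pi.intCast_apply]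
      push_cast
      ring
    have hij := zspanOn_smul i hΘmem
    have hr'mem : r' ∈ Cfsg.zspanOn (↑S₀ : Set (N → ℂ)) {1}ᶜ := by
      refine mem_zspanOn_one.mpr ⟨Submodule.add_mem _ hr (Submodule.smul_mem _ _ (hmem ψ hψ)), ?_⟩
      have h1 := hα1
      rw [hdec, Pi.add_apply, (mem_zspanOn_one.mp hij).2, add_zero] at h1
      exact h1
    have hTD1 : T' D1 = τ D1 := by
      rw [hD1, map_sub, map_smul, hTχ, hTξ _ hψ, hX, ← hΘ]
      abel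
    show T' (i • χ + r) = τ (i • χ + r)
    rw [hdec, map_add, key r' hr'mem.1, hagree r' hr'mem, hτ.1 _ (zspanOn_mono hsub hr'mem) _ hij,
      hτ.2.1 _ hΘmem, map_zsmul, hTD1]

end Cfsg.Agent.S1530
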