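import Cfsg.Statements.S3360
import Cfsg.Agent.Lib.SolvTransLinear.Main

set_option autoImplicit false
open Cfsg

namespace Cfsg.Agent.S3360

/-- Let q be a prime and V a non-trivial finite vector space over the field with q elements, and let G be a finite solvable group acting faithfully and linearly on V and transitively on the non-zero vectors. Then either V can be identified with the additive group of a finite field F in such a way that every element of G acts as x ↦ a·σ(x) for some a ∈ F and some field automorphism σ, or the number of elements of V is one of 3^2, 5^2, 7^2, 11^2, 23^2, 3^4. -/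
theorem result
    (q : ℕ) [Fact q.Prime] {V : Type*} [AddCommGroup V] [Module (ZMod q) V] [Finite V] [Nontrivial V]
    {G : Type*} [Group G] [Finite G] (hsol : Group.IsSolvable G)
    (ρ : G →* (V ≃ₗ[ZMod q] V)) (hρ : Function.Injective ρ)
    (htrans : ∀ v w : V, v ≠ 0 → w ≠ 0 → ∃ g : G, ρ g v = w) :
    (∃ (F : Type) (_ : Field F) (_ : Fintype F) (e : V ≃+ F),
        ∀ g : G, ∃ (a : F) (σ : F ≃+* F), ∀ v : V, e (ρ g v) = a * σ (e v)) ∨
    Nat.card V ∈ ({9, 25, 49, 121, 529, 81} : Set ℕ) := by
  obtain ⟨A, hA⟩ := Cfsg.Agent.Lib.SolvTransLinear.exists_isMaxAb G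
  have h : Cfsg.Agent.Lib.SolvTransLinear.Setup ρ A := ⟨hρ, htrans, hA⟩
  rcases h.dichotomy hsol with heq | ⟨M, s, hS, ⟨hn, hq24, -⟩ | ⟨hq, hn, -⟩⟩
  · exact Or.inl (h.semilinear heq)
  · right
    rw [Module.natCard_eq_pow_finrank (K := ZMod q), Nat.card_zmod, hn]
    have hq2 : q.Prime := Fact.out
    have hle : q + 1 ≤ 24 := Nat.le_of_dvd (by norm_num) hq24
    have h2 : q ≠ 2 := fun hq' =>
      h.s_ne hS h.finrank_pos ((h.dim_two hS hn).1.trans hq'.symm)
    have hle2 : q ≤ 23 := by omega
    interval_cases q <;> first | omega | (norm_num at hq2; done) | (norm_num at hq24; done) | norm_num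
  · right
    rw [Module.natCard_eq_pow_finrank (K := ZMod q), Nat.card_zmod, hn, hq]
    norm_num

end Cfsg.Agent.S3360
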