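import Cfsg.Statements.S1407
import Cfsg.Agent.Lib.OddLocal.AlphaCentralizer

set_option autoImplicit false
open Cfsg

namespace Cfsg.Agent.S1407

/-- Let G be a minimal simple group of odd order, M a maximal subgroup with M_α ≠ 1, p a prime dividing the order of M but not in σ(M), and P a Sylow p-subgroup of M. Then there is an element x of order p in the centre of P such that M_α ∩ C_G(x) has all Sylow subgroups cyclic and M is not the unique maximal subgroup of G containing C_G(x). -/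
theorem result {G : Type*} [Group G] [Finite G] (hG : Cfsg.IsMinSimpleOddOrder G)
    (M : Subgroup G) (hM : IsCoatom M) (hMα : Cfsg.alphaCore M ≠ ⊥) (p : ℕ) [Fact p.Prime] (hpM : p ∣ Nat.card M) (hp : p ∉ Cfsg.sigma M) (P : Sylow p M) :
    ∃ x : G, x ∈ ((Subgroup.center ↥(P : Subgroup M)).map (P : Subgroup M).subtype).map M.subtype ∧ orderOf x = p ∧
        IsZGroup ↥(Cfsg.alphaCore M ⊓ Subgroup.centralizer ({x} : Set G)) ∧
        ¬ (Subgroup.centralizer ({x} : Set G) ≤ M ∧ ∀ L : Subgroup G, IsCoatom L → Subgroup.centralizer ({x} : Set G) ≤ L → L = M) := by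
  set P₀ := (P : Subgroup M).map M.subtype with hP₀
  set Z := ((Subgroup.center ↥(P : Subgroup M)).map (P : Subgroup M).subtype).map M.subtype with hZ
  have hP0 : (P : Subgroup M) ≠ ⊥ := fun h => by
    have h1 := P.dvd_card_of_dvd_card hpM
    rw [h, Subgroup.card_bot, Nat.dvd_one] at h1
    exact (Fact.out : p.Prime).one_lt.ne' h1
  obtain ⟨z, -, hzo, hzc⟩ := Lib.PLocal.exists_central_prime_mem P.isPGroup'
    (N := (⊤ : Subgroup ↥(P : Subgroup M))) (by
      have := (Subgroup.nontrivial_iff_ne_bot _).mpr hP0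
      exact top_ne_bot)
  have hz₀ : ((z : M) : G) ∈ Z := Subgroup.mem_map_of_mem _ (Subgroup.mem_map_of_mem _ hzc)
  have hz₀o : orderOf ((z : M) : G) = p := by rw [Subgroup.orderOf_coe, Subgroup.orderOf_coe, hzo]
  have hpα : p ∉ Cfsg.alpha M := fun h => hp (Lib.OddLocal.alpha_subset_sigma hG hM h)
  have hZM : Z ≤ M := Subgroup.map_subtype_le _
  suffices h : ∃ x ∈ Z, orderOf x = p ∧ ¬ (Subgroup.centralizer ({x} : Set G) ≤ M ∧
      ∀ L : Subgroup G, IsCoatom L → Subgroup.centralizer ({x} : Set G) ≤ L → L = M) by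
    obtain ⟨x, hx, hxo, hxU⟩ := h
    set C := Cfsg.alphaCore M ⊓ Subgroup.centralizer ({x} : Set G) with hC
    refine ⟨x, hx, hxo, ⟨fun q hq T => ?_⟩, hxU⟩
    by_contra hcyc
    have := Fact.mk hq
    have hTp : IsPGroup q ((T : Subgroup C).map C.subtype) := T.isPGroup'.map _
    have hnc : ¬ IsCyclic ↥((T : Subgroup C).map C.subtype) := fun hc =>
      hcyc (((T : Subgroup C).equivMapOfInjective _ C.subtype_injective).isCyclic.mpr hc)
    have hq2 : q ≠ 2 := by
      obtain ⟨k, hk⟩ := IsPGroup.iff_card.mp hTp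
      rcases k with _ | k
      · exact absurd (by have := (Nat.card_eq_one_iff_unique.mp (hk.trans (pow_zero q))).1; infer_instance) hnc
      · exact Lib.OddLocal.prime_ne_two_of_dvd hG ((dvd_pow_self q k.succ_ne_zero).trans
          (hk ▸ Subgroup.card_subgroup_dvd_card _))
    obtain ⟨B, hBT, hBe, hB2⟩ := Lib.OddLocal.exists_elementary_sq_of_not_cyclic hq2 _ hTp hnc
    have hU := Lib.OddLocal.inUniqueMaximal_centralizer (X := Subgroup.zpowers x) hG hM
      (Subgroup.zpowers_le.mpr (hZM hx)) (fun r hr hd => by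
        rw [Nat.card_zpowers, hxo] at hd
        rwa [(Nat.prime_dvd_prime_iff_eq hr Fact.out).mp hd])
      ((hBT.trans (Subgroup.map_subtype_le _)).trans (by
        rw [hC, ← Subgroup.centralizer_closure ({x} : Set G), ← Subgroup.zpowers_eq_closure]))
      hBe (hB2 ▸ lt_self_pow₀ hq.one_lt (by norm_num))
    have hle : M ⊓ Subgroup.centralizer (Subgroup.zpowers x : Set G) ≤ Subgroup.centralizer ({x} : Set G) :=
      inf_le_right.trans (Subgroup.centralizer_le (Set.singleton_subset_iff.mpr (Subgroup.mem_zpowers x)))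
    have hx1 : x ≠ 1 := fun e => by
      rw [e, orderOf_one] at hxo
      exact (Fact.out : p.Prime).one_lt.ne hxo
    obtain ⟨K, hK, hCK⟩ := Lib.OddLocal.exists_coatom_ge hG (Lib.OddLocal.centralizer_singleton_ne_top hG hx1)
    have hKM : K = M := ExistsUnique.unique hU ⟨hK, hle.trans hCK⟩ ⟨hM, inf_le_left⟩
    exact hxU ⟨hKM ▸ hCK, fun L hL hCL => ExistsUnique.unique hU ⟨hL, hle.trans hCL⟩ ⟨hM, inf_le_left⟩⟩
  by_contra hcon
  push Not at hcon
  obtain ⟨hC, huniq⟩ := hcon _ hz₀ hz₀o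
  refine hp ⟨Fact.out, hpM, P, fun n hn => ?_⟩
  have hZn : MulAut.conj n ((z : M) : G) ∈ Z := by
    have hn' : ∀ y ∈ P₀, n⁻¹ * y * n ∈ P₀ := fun y hy => (Subgroup.mem_normalizer_iff''.mp hn y).mp hy
    have hmem : MulAut.conj n ((z : M) : G) ∈ P₀ :=
      (Subgroup.mem_normalizer_iff.mp hn _).mp (Subgroup.mem_map_of_mem _ z.2)
    obtain ⟨w, hw, hwe⟩ := hmem
    refine ⟨w, ⟨⟨w, hw⟩, Subgroup.mem_center_iff.mpr fun y => Subtype.ext (Subtype.ext ?_), rfl⟩, hwe⟩
    obtain ⟨v, hv, hve⟩ := hn' _ (Subgroup.mem_map_of_mem M.subtype y.2)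
    have hve' : (v : G) = n⁻¹ * ((y : M) : G) * n := hve
    have hcom : (v : G) * ((z : M) : G) = ((z : M) : G) * (v : G) :=
      congrArg (fun t : ↥(P : Subgroup M) => ((t : M) : G)) (Subgroup.mem_center_iff.mp hzc ⟨v, hv⟩)
    have hwe' : (w : G) = n * ((z : M) : G) * n⁻¹ := hwe
    show ((y : M) : G) * (w : G) = (w : G) * ((y : M) : G)
    rw [hwe', show ((y : M) : G) = n * (v : G) * n⁻¹ by rw [hve']; group]
    calc n * (v : G) * n⁻¹ * (n * ((z : M) : G) * n⁻¹) = n * ((v : G) * ((z : M) : G)) * n⁻¹ := by group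
      _ = n * (((z : M) : G) * (v : G)) * n⁻¹ := by rw [hcom]
      _ = _ := by group
  obtain ⟨hC', huniq'⟩ := hcon _ hZn (by rw [MulEquiv.orderOf_eq, hz₀o])
  refine Lib.OddLocal.mem_of_map_conj_coatom hG hM (huniq' _ ((MulAut.conj n).mapSubgroup.isCoatom_iff M |>.mpr hM) ?_)
  intro y hy
  refine ⟨n⁻¹ * y * n, hC ?_, ?_⟩
  · rw [Subgroup.mem_centralizer_singleton_iff] at hy ⊢
    have hy' : y * (n * ((z : M) : G) * n⁻¹) = (n * ((z : M) : G) * n⁻¹) * y := hy
    calc n⁻¹ * y * n * ((z : M) : G) = n⁻¹ * (y * (n * ((z : M) : G) * n⁻¹)) * n := by group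
      _ = n⁻¹ * ((n * ((z : M) : G) * n⁻¹) * y) * n := by rw [hy']
      _ = _ := by group
  · show n * (n⁻¹ * y * n) * n⁻¹ = y
    group

end Cfsg.Agent.S1407
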