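import Cfsg.Statements.S0223
import Cfsg.Agent.Lib.Involutions.StronglyEmbedded
-- Template for statement S0223 (row 223; see /opt/grader/pristine/manifest.json for weights).
-- Copy to Cfsg/Agent/S0223.lean and replace the sorry. The statement below is byte-identical to the frozen
-- statement Cfsg.CfsgFrozen.S0223 (Cfsg/Statements/S0223.lean; the theorem Cfsg.strongly_embedded_iff_centralizers_and_involution_fusion);
-- the grader kernel-checks Cfsg.Agent.S0223.result against that frozen type. Keep the theorem IN THIS FILE
-- (a `result` declared elsewhere and merely imported here is not credited); helpers may live anywhere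
-- under Cfsg/Agent/.
-- import your own Cfsg.Agent.* helpers here

set_option autoImplicit false
open Cfsg

namespace Cfsg.Agent.S0223

open Cfsg.Agent.Lib.Involutions

/-- Let H be a proper subgroup of even order of the finite group G. Then H is strongly embedded if and only if (i) C_G(t) ≤ H for every involution t of H and (ii) H controls fusion of its involutions: involutions of H conjugate in G are conjugate in H. -/
theorem result {G : Type*} [Group G] [Finite G] (H : Subgroup G) (hH : H ≠ ⊤) (heven : Even (Nat.card H)) : Cfsg.IsStronglyEmbedded H ↔ ((∀ t ∈ H, orderOf t = 2 → Subgroup.centralizer ({t} : Set G) ≤ H) ∧ (∀ t ∈ H, ∀ s ∈ H, orderOf t = 2 → orderOf s = 2 → IsConj t s → ∃ h ∈ H, h * t * h⁻¹ = s)) := by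
  constructor
  · intro hse
    refine ⟨fun t htH ht => centralizer_le_of_se hse ht htH, fun t htH s hsH ht _ hc => ?_⟩
    obtain ⟨g, hg⟩ := isConj_iff.1 hc
    exact ⟨g, mem_of_conj_mem hse ht htH (hg ▸ hsH), hg⟩
  · rintro ⟨h1, h2⟩
    refine isStronglyEmbedded_of_conj_mem hH heven fun t htH ht g hg => ?_
    obtain ⟨h, hh, hhc⟩ :=
      h2 t htH _ hg ht (by rw [orderOf_conj_eq, ht]) (isConj_iff.2 ⟨g, rfl⟩)
    have hmem : h⁻¹ * g ∈ Subgroup.centralizer ({t} : Set G) := by
      rw [Subgroup.mem_centralizer_singleton_iff]
      calc h⁻¹ * g * t = h⁻¹ * (g * t * g⁻¹) * g := by group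
        _ = t * (h⁻¹ * g) := by rw [← hhc]; group
    have := mul_mem hh (h1 t htH ht hmem)
    simpa using this

end Cfsg.Agent.S0223
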