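import Cfsg.Statements.S1225
import Cfsg.Agent.Lib.Involutions.SEAction
-- Template for statement S1225 (row 1225; see /opt/grader/pristine/manifest.json for weights).
-- Copy to Cfsg/Agent/S1225.lean and replace the sorry. The statement below is byte-identical to the frozen
-- statement Cfsg.CfsgFrozen.S1225 (Cfsg/Statements/S1225.lean; the theorem Cfsg.strongly_embedded_intersection_transitive_on_involutions);
-- the grader kernel-checks Cfsg.Agent.S1225.result against that frozen type. Keep the theorem IN THIS FILE
-- (a `result` declared elsewhere and merely imported here is not credited); helpers may live anywhere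
-- under Cfsg/Agent/.
-- import your own Cfsg.Agent.* helpers here

set_option autoImplicit false
open Cfsg

namespace Cfsg.Agent.S1225

open Cfsg.Agent.Lib.Involutions

/-- Let H be a strongly embedded subgroup of the finite group G, u an involution outside H and D = H ∩ uHu⁻¹. Then any two involutions of H are conjugate by an element of D, and any two involutions of G are conjugate in G. -/
theorem result {G : Type*} [Group G] [Finite G] (H : Subgroup G) (hH : Cfsg.IsStronglyEmbedded H) (u : G) (hu : orderOf u = 2) (huH : u ∉ H) (s t : G) (hs : orderOf s = 2) (hsH : s ∈ H) (ht : orderOf t = 2) (htH : t ∈ H) : (∃ d ∈ (H ⊓ H.map (MulAut.conj u).toMonoidHom), d * s * d⁻¹ = t) ∧ ∀ a b : G, orderOf a = 2 → orderOf b = 2 → IsConj a b := by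
  refine ⟨?_, fun a b ha hb => se_all_conj hH ha hb⟩
  have hne : (QuotientGroup.mk 1 : G ⧸ H) ≠ QuotientGroup.mk u := by
    rw [Ne, QuotientGroup.eq, inv_one, one_mul]
    exact huH
  obtain ⟨d, hd1, hd2, hd⟩ := se_exists_conj_two_point hH hne hs (smul_one_eq_iff.2 hsH) ht
    (smul_one_eq_iff.2 htH)
  exact ⟨d, mem_inf_conj_iff.2 ⟨hd1, hd2⟩, hd⟩

end Cfsg.Agent.S1225
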