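import Cfsg.Statements.S5748
import Cfsg.Agent.Lib.OddLocal.CASimple
import Cfsg.Agent.S0183
import Cfsg.Agent.S1230

set_option autoImplicit false
open Cfsg

namespace Cfsg.Agent.S5748

section SL

open Matrix

variable {F : Type*} [Field F]

/-- The non-scalar part of a two by two matrix. -/
def part (g : Matrix (Fin 2) (Fin 2) F) : Fin 3 → F := ![g 0 1, g 1 0, g 1 1 - g 0 0]

theorem cross_of_commute {g h : Matrix (Fin 2) (Fin 2) F} (H : g * h = h * g) (i j : Fin 3) :
    part g i * part h j = part g j * part h i := by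
  have e00 : (g * h) 0 0 = (h * g) 0 0 := by rw [H]
  have e01 : (g * h) 0 1 = (h * g) 0 1 := by rw [H]
  have e10 : (g * h) 1 0 = (h * g) 1 0 := by rw [H]
  simp only [Matrix.mul_apply, Fin.sum_univ_two] at e00 e01 e10
  have k01 : g 0 1 * h 1 0 = g 1 0 * h 0 1 := by linear_combination e00
  have k02 : g 0 1 * (h 1 1 - h 0 0) = (g 1 1 - g 0 0) * h 0 1 := by linear_combination e01
  have k12 : g 1 0 * (h 1 1 - h 0 0) = (g 1 1 - g 0 0) * h 1 0 := by linear_combination -e10
  fin_cases i <;> fin_cases j <;> simp [part] <;>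
    first
      | linear_combination k01
      | linear_combination k02
      | linear_combination k12
      | linear_combination -k01
      | linear_combination -k02
      | linear_combination -k12

theorem commute_of_cross {g h : Matrix (Fin 2) (Fin 2) F}
    (H : ∀ i j : Fin 3, part g i * part h j = part g j * part h i) : g * h = h * g := by
  have k01 : g 0 1 * h 1 0 = g 1 0 * h 0 1 := by simpa [part] using H 0 1
  have k02 : g 0 1 * (h 1 1 - h 0 0) = (g 1 1 - g 0 0) * h 0 1 := by simpa [part] using H 0 2
  have k12 : g 1 0 * (h 1 1 - h 0 0) = (g 1 1 - g 0 0) * h 1 0 := by simpa [part] using H 1 2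
  ext i j
  fin_cases i <;> fin_cases j <;> simp [Matrix.mul_apply, Fin.sum_univ_two] <;>
    first
      | linear_combination k01
      | linear_combination k02
      | linear_combination k12
      | linear_combination -k01
      | linear_combination -k02
      | linear_combination -k12

theorem sl_ct (hcen : Subgroup.center (SpecialLinearGroup (Fin 2) F) = ⊥)
    (a b c : SpecialLinearGroup (Fin 2) F) (hb : b ≠ 1) (hab : Commute a b) (hbc : Commute b c) :
    Commute a c := by
  have h1 := cross_of_commute (congrArg Subtype.val hab.eq :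
    (a : Matrix (Fin 2) (Fin 2) F) * b = b * a)
  have h2 := cross_of_commute (congrArg Subtype.val hbc.eq :
    (b : Matrix (Fin 2) (Fin 2) F) * c = c * b)
  obtain ⟨k, hk⟩ : ∃ k : Fin 3, part (b : Matrix (Fin 2) (Fin 2) F) k ≠ 0 := by
    by_contra h
    push Not at h
    have : b ∈ Subgroup.center (SpecialLinearGroup (Fin 2) F) := by
      refine Subgroup.mem_center_iff.2 fun g => ?_
      refine Subtype.ext (commute_of_cross fun i j => ?_)
      rw [h i, h j, mul_zero, mul_zero]
    rw [hcen, Subgroup.mem_bot] at this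
    exact hb this
  refine Subtype.ext (commute_of_cross fun i j => mul_left_cancel₀ hk ?_)
  linear_combination part (c : Matrix (Fin 2) (Fin 2) F) j * h1 i k -
    part (c : Matrix (Fin 2) (Fin 2) F) i * h1 j k + part (a : Matrix (Fin 2) (Fin 2) F) k * h2 i j

theorem center_eq_bot [Fintype F] [CharP F 2] :
    Subgroup.center (SpecialLinearGroup (Fin 2) F) = ⊥ := by
  refine (Subgroup.eq_bot_iff_forall _).mpr fun x hx => ?_
  obtain ⟨r, hr, hrx⟩ := Matrix.SpecialLinearGroup.mem_center_iff.mp hx
  rw [Fintype.card_fin] at hr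
  have h1 : (r - 1) ^ 2 = 0 := by rw [sub_pow_char, hr, one_pow, sub_self]
  have hr1 : r = 1 := sub_eq_zero.mp (pow_eq_zero_iff two_ne_zero |>.mp h1)
  apply Subtype.ext
  rw [← hrx, hr1]
  simp

end SL

open Cfsg.Agent.Lib.CASimple in
/-- A finite non-abelian simple group in which commuting is a transitive relation on the non-identity elements (equivalently, every non-identity element has abelian centraliser) is isomorphic to PSL₂ over a field with 2^f elements for some f ≥ 2; conversely these groups have that property. -/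
theorem result {G : Type*} [Group G] [Finite G] [IsSimpleGroup G] (hG : ¬ IsMulCommutative G) :
    (∀ a b c : G, a ≠ 1 → b ≠ 1 → c ≠ 1 → Commute a b → Commute b c → Commute a c) ↔
    ∃ (F : Type) (_ : Field F) (_ : Fintype F) (f : ℕ), 2 ≤ f ∧ Fintype.card F = 2 ^ f ∧ Nonempty (G ≃* Matrix.ProjectiveSpecialLinearGroup (Fin 2) F) := by
  constructor
  · intro hct
    rcases Nat.even_or_odd (Nat.card G) with hev | hodd
    swap
    · have hCN : Cfsg.IsCNGroup G := by
        intro a ha
        letI : CommGroup (Subgroup.centralizer ({a} : Set G)) :=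
          { mul_comm := fun x y => Subtype.ext (CT.comm_cent hct ha x.2 y.2) }
        exact CommGroup.isNilpotent
      exfalso
      haveI := Cfsg.Agent.S0183.result hodd hCN
      exact hG ⟨⟨fun x y => IsSimpleGroup.comm_iff_isSolvable.2 inferInstance x y⟩⟩
    obtain ⟨d⟩ := exists_data hct inferInstance hG hev
    haveI : Fact (Nat.Prime 2) := ⟨Nat.prime_two⟩
    obtain ⟨S, hS⟩ := d.hS
    have hA : IsPGroup 2 d.A := by
      intro a
      exact ⟨1, by rw [pow_one, sq]; exact Subtype.ext (d.sq_A a.2)⟩
    obtain ⟨R, hR⟩ := hA.exists_le_sylow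
    obtain ⟨k, hk⟩ := IsPGroup.iff_card.1 S.2
    have hle : Nat.card d.A ≤ 2 ^ k := by
      refine le_trans (Subgroup.card_le_of_le hR) ?_
      rw [← hk]
      exact le_of_eq (Sylow.card_eq_multiplicity R |>.trans (Sylow.card_eq_multiplicity S).symm)
    have h3 : 2 < Nat.card d.A := by
      have hq := d.one_lt_q
      rw [← d.card_invol_A] at hq
      refine lt_of_lt_of_le ?_ (Nat.card_le_card_of_injective
        (fun o : Option {u : G // orderOf u = 2 ∧ u ∈ d.A} =>
          o.elim (1 : d.A) (fun u => ⟨u.1, u.2.2⟩)) ?_)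
      · rw [Finite.card_option]; omega
      · rintro (_ | u) (_ | v) h
        · rfl
        · exact absurd (congrArg Subtype.val h).symm (Lib.Involutions.invol_ne_one v.2.1)
        · exact absurd (congrArg Subtype.val h) (Lib.Involutions.invol_ne_one u.2.1)
        · exact congrArg some (Subtype.ext (congrArg (fun z : d.A => (z : G)) h))
    have hk2 : 2 ≤ k := by
      rcases k with _ | _ | k <;> omega
    have hnc : ¬ IsCyclic (S : Subgroup G) := by
      intro hc
      obtain ⟨g, hg⟩ := hc.exists_ofOrder_eq_natCard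
      have h2 : orderOf g ≤ 2 := orderOf_le_of_pow_eq_one two_pos
        (by rw [sq]; exact Subtype.ext (d.sq_A (hS g.2)))
      have h4 : 2 ^ 2 ≤ 2 ^ k := Nat.pow_le_pow_right two_pos hk2
      rw [hg, hk] at h2
      omega
    have hnn : ¬ (S : Subgroup G).Normal := by
      intro hn
      rcases hn.eq_bot_or_eq_top with e | e
      · rw [e, Subgroup.card_bot] at hk
        have h4 : 2 ^ 2 ≤ 2 ^ k := Nat.pow_le_pow_right two_pos hk2
        omega
      · exact hG ⟨⟨fun x y => d.comm_A (hS (e ▸ Subgroup.mem_top x)) (hS (e ▸ Subgroup.mem_top y))⟩⟩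
    obtain ⟨F, i1, i2, hF, hiso⟩ := Cfsg.Agent.S1230.result S hnc hnn (fun t ht => d.cent_elementary ht)
    exact ⟨F, i1, i2, k, hk2, hF.trans hk, hiso⟩
  · rintro ⟨F, i1, i2, f, hf, hF, ⟨ε⟩⟩ a b c ha hb hc hab hbc
    haveI : CharP F 2 := by
      have hev : Even (Fintype.card F) := by
        rw [hF]; exact (Nat.even_pow' (by omega)).mpr even_two
      exact (FiniteField.even_card_iff_char_two.mpr (Nat.even_iff.mp hev)) ▸ ringChar.charP F
    let e' : G ≃* Matrix.SpecialLinearGroup (Fin 2) F := ε.trans
      ((QuotientGroup.quotientMulEquivOfEq center_eq_bot).trans QuotientGroup.quotientBot)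
    have h := sl_ct center_eq_bot (e' a) (e' b) (e' c) (by simpa using hb)
      (hab.map e'.toMonoidHom) (hbc.map e'.toMonoidHom)
    simpa using h.map e'.symm.toMonoidHom

end Cfsg.Agent.S5748
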