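import Cfsg.Statements.S1465
import Cfsg.Agent.Lib.OddLocal.PStable

set_option autoImplicit false
open Cfsg

namespace Cfsg.Agent.S1465

/-- Let p be an odd prime, G a solvable group of odd order, P a normal p-subgroup of G, and X the subgroup generated by a family of abelian p-subgroups of G each normalized by P. Then the image of X in G/C_G(P) lies in O_p(G/C_G(P)); and if O_{p'}(G) = 1 and O_p(G) ∩ C_G(P) ≤ P then X ≤ O_p(G). -/
theorem result {G : Type*} [Group G] [Finite G] [Group.IsSolvable G] (hodd : Odd (Nat.card G)) (p : ℕ) [Fact p.Prime] (hp : p ≠ 2) (P : Subgroup G) [P.Normal] (hP : IsPGroup p P)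
    (S : Set (Subgroup G)) (hS : ∀ B ∈ S, IsMulCommutative B ∧ IsPGroup p B ∧ P ≤ Subgroup.normalizer (B : Set G)) :
    (sSup S).map (QuotientGroup.mk' (Subgroup.centralizer (P : Set G))) ≤ Cfsg.pCore p (G ⧸ Subgroup.centralizer (P : Set G)) ∧
      (Cfsg.pPrimeCore p G = ⊥ → Cfsg.pCore p G ⊓ Subgroup.centralizer (P : Set G) ≤ P → sSup S ≤ Cfsg.pCore p G) := by
  open Cfsg.Agent.Lib.OddLocal in
  set C := Subgroup.centralizer (P : Set G)
  have h1 : (sSup S).map (QuotientGroup.mk' C) ≤ Cfsg.pCore p (G ⧸ C) := by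
    rw [Subgroup.map_le_iff_le_comap]
    refine sSup_le fun B hB b hb => ?_
    obtain ⟨hBc, hBp, hPB⟩ := hS B hB
    refine mem_pCore_of_quadratic hp hodd hP C le_rfl ?_ ?_
    · obtain ⟨k, hk⟩ := hBp ⟨b, hb⟩
      exact ⟨k, congrArg Subtype.val hk⟩
    · intro x hx
      open scoped commutatorElement in
      have hc : ⁅x, b⁆ ∈ B :=
        (Subgroup.le_normalizer_iff_commutator_le_right.mp hPB) (Subgroup.commutator_mem_commutator hx hb)
      exact (congrArg Subtype.val (mul_comm' (⟨b, hb⟩ : B) ⟨_, hc⟩) : _)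
  refine ⟨h1, fun hO hCP => ?_⟩
  have hT := Cfsg.Agent.Lib.Cores.pCore_isPGroup p G
  have hPT : P ≤ Cfsg.pCore p G := Cfsg.Agent.Lib.Cores.le_pCore inferInstance hP
  have hCp : IsPGroup p C := by
    rintro ⟨x, hx⟩
    obtain ⟨k, hk⟩ := exists_orderOf_pow_coprime p x
    refine ⟨k, Subtype.ext ?_⟩
    show x ^ p ^ k = 1
    have hyC : x ^ p ^ k ∈ C := C.pow_mem hx _
    have hle : Subgroup.zpowers (x ^ p ^ k) ≤ Subgroup.centralizer (Cfsg.pCore p G : Set G) := by
      refine le_centralizer_of_centralizer_fixed_le hT.isNilpotent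
        (by rw [Subgroup.normalizer_eq_top]; exact le_top) ?_ ?_
      · obtain ⟨j, hj⟩ := hT.exists_card_eq
        rw [Nat.card_zpowers, hj]; exact hk.pow_right j
      · have hPf : P ≤ Cfsg.pCore p G ⊓ Subgroup.centralizer (Subgroup.zpowers (x ^ p ^ k) : Set G) :=
          le_inf hPT (Subgroup.le_centralizer_iff.mp (Subgroup.zpowers_le.mpr hyC))
        intro z hz
        exact hPf (hCP ⟨hz.1, Subgroup.centralizer_le hPf hz.2⟩)
    have hyT : x ^ p ^ k ∈ Cfsg.pCore p G := centralizer_pCore_le hO (hle (Subgroup.mem_zpowers _))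
    obtain ⟨j, hj⟩ := hT ⟨_, hyT⟩
    exact orderOf_eq_one_iff.mp (Nat.eq_one_of_dvd_coprimes (hk.pow_right j) dvd_rfl
      (orderOf_dvd_of_pow_eq_one (congrArg Subtype.val hj)))
  rw [← Cfsg.Agent.Lib.Cores.comap_pCore_quotient hCp]
  exact Subgroup.map_le_iff_le_comap.mp h1

end Cfsg.Agent.S1465
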