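import Cfsg.Statements.S1474
import Cfsg.Agent.Lib.OddLocal.FrobeniusCN
import Cfsg.Agent.Lib.Frobenius.Complement

set_option autoImplicit false
open Cfsg

namespace Cfsg.Agent.S1474

open Cfsg.Agent.Lib.OddLocal in
theorem fpf {G : Type*} [Group G] [Finite G] (hCN : Cfsg.IsCNGroup G) {E : Subgroup G}
    (hEc : (Nat.card E).Coprime (Nat.card (Cfsg.fittingHall G))) :
    ∀ e ∈ E, e ≠ 1 → ∀ h ∈ Cfsg.fittingHall G, e * h = h * e → h = 1 := by
  intro e₀ he₀ he₁ h₀ hh₀ hcomm
  by_contra hh₁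
  set H := Cfsg.fittingHall G
  obtain ⟨r, hr, hrd⟩ := Nat.exists_prime_and_dvd (mt orderOf_eq_one_iff.mp he₁)
  obtain ⟨q, hq, hqd⟩ := Nat.exists_prime_and_dvd (mt orderOf_eq_one_iff.mp hh₁)
  have := Fact.mk hr
  have := Fact.mk hq
  set e := e₀ ^ (orderOf e₀ / r) with hedef
  set h := h₀ ^ (orderOf h₀ / q) with hhdef
  have heo : orderOf e = r := orderOf_pow_orderOf_div (orderOf_pos e₀).ne' hrd
  have hho : orderOf h = q := orderOf_pow_orderOf_div (orderOf_pos h₀).ne' hqd
  have hhH : h ∈ H := pow_mem hh₀ _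
  have hh1 : h ≠ 1 := fun x => hq.ne_one (hho.symm.trans (by rw [x, orderOf_one]))
  have heh : e * h = h * e := (Commute.pow_pow hcomm _ _).eq
  have hrE : r ∣ Nat.card E := hrd.trans (by
    rw [show orderOf e₀ = orderOf (⟨e₀, he₀⟩ : E) from Subgroup.orderOf_coe ⟨e₀, he₀⟩]
    exact orderOf_dvd_natCard _)
  have hrH : ¬ r ∣ Nat.card H := fun x => hr.not_dvd_one (hEc ▸ Nat.dvd_gcd hrE x)
  have hHn : Group.IsNilpotent H := fittingHall_spec.1
  have hqH : q ∣ Nat.card H := hho ▸ (by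
    rw [show orderOf h = orderOf (⟨h, hhH⟩ : H) from Subgroup.orderOf_coe ⟨h, hhH⟩]
    exact orderOf_dvd_natCard _)
  have hrq : r ≠ q := fun x => hrH (x ▸ hqH)
  obtain ⟨Q₀, hQ₀⟩ := (IsPGroup.of_card (n := 1) (show Nat.card (Subgroup.zpowers (⟨h, hhH⟩ : H)) = q ^ 1 by
    rw [Nat.card_zpowers, ← Subgroup.orderOf_coe, pow_one]; exact hho) : IsPGroup q _).exists_le_sylow
  set Q' := (Q₀ : Subgroup H).map H.subtype
  have hQp : IsPGroup q Q' := Q₀.isPGroup'.map H.subtype
  have hhQ : h ∈ Q' := ⟨⟨h, hhH⟩, hQ₀ (Subgroup.mem_zpowers _), rfl⟩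
  obtain ⟨z, hzQ, hz1, hzc⟩ := exists_center_ne_one hQp.isNilpotent
    (fun x => hh1 (by rwa [x, Subgroup.mem_bot] at hhQ))
  have hzH := mem_center_of_sylow hHn q Q₀ hzQ hzc
  obtain ⟨k, hk⟩ : ∃ k, orderOf z = q ^ k := by
    obtain ⟨k, hk⟩ := (IsPGroup.iff_orderOf.mp hQp) ⟨z, hzQ⟩
    exact ⟨k, by rw [← hk]; exact Subgroup.orderOf_coe ⟨z, hzQ⟩⟩
  have hez : e * z = z * e := commute_of_mem_nilpotent (hCN h hh1)
    (Subgroup.mem_centralizer_singleton_iff.mpr heh)
    (Subgroup.mem_centralizer_singleton_iff.mpr (hzH h hhH).symm)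
    (by rw [heo, hk]; exact Nat.Coprime.pow_right k ((Nat.coprime_primes hr hq).mpr hrq))
  have hcopH : ∀ y ∈ H, (orderOf y).Coprime r := fun y hy => by
    refine (hr.coprime_iff_not_dvd.mpr fun x => hrH (x.trans ?_)).symm
    rw [show orderOf y = orderOf (⟨y, hy⟩ : H) from Subgroup.orderOf_coe ⟨y, hy⟩]
    exact orderOf_dvd_natCard _
  set K := Subgroup.centralizer (H : Set G)
  have heK : e ∈ K := Subgroup.mem_centralizer_iff.mpr fun y hy =>
    commute_of_mem_nilpotent (hCN z hz1)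
      (Subgroup.mem_centralizer_singleton_iff.mpr (hzH y hy))
      (Subgroup.mem_centralizer_singleton_iff.mpr hez) (heo ▸ hcopH y hy)
  have hKn : Group.IsNilpotent K := isNilpotent_of_le (fun x hx =>
    Subgroup.mem_centralizer_singleton_iff.mpr (Subgroup.mem_centralizer_iff.mp hx h hhH).symm) (hCN h hh1)
  have : K.Normal := Subgroup.normal_centralizer
  have hsyl : ∀ x ∈ K, (∃ j, orderOf x = r ^ j) → x ∈ Cfsg.pCore r G := by
    intro x hx hj
    obtain ⟨T⟩ : Nonempty (Sylow r K) := inferInstance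
    have hTn : (T : Subgroup K).Normal :=
      Sylow.normal_of_normalizerCondition (Group.normalizerCondition_of_isNilpotent) T
    obtain ⟨j, hj⟩ := hj
    obtain ⟨T', hT'⟩ := (IsPGroup.of_card (n := j) (show Nat.card (Subgroup.zpowers (⟨x, hx⟩ : K)) = r ^ j by
      rw [Nat.card_zpowers, ← Subgroup.orderOf_coe]; exact hj)).exists_le_sylow
    have : Subsingleton (Sylow r K) := (Sylow.unique_of_normal T hTn).instSubsingleton
    exact Cfsg.Agent.Lib.Cores.map_subtype_pCore_le K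
      ⟨⟨x, hx⟩, Cfsg.Agent.Lib.Cores.le_pCore hTn T.isPGroup'
        (Subsingleton.elim T' T ▸ hT' (Subgroup.mem_zpowers _)), rfl⟩
  set R := Cfsg.pCore r G ⊓ K with hR
  have heR : e ∈ R := ⟨hsyl e heK ⟨1, by rw [pow_one, heo]⟩, heK⟩
  have hRp : IsPGroup r R := (Cfsg.Agent.Lib.Cores.pCore_isPGroup r G).to_le inf_le_left
  obtain ⟨S, hS⟩ := hRp.exists_le_sylow
  have := S.isPGroup'.isNilpotent
  have hRne : R.subgroupOf (S : Subgroup G) ≠ ⊥ := by
    intro x
    have : (⟨e, hS heR⟩ : (S : Subgroup G)) ∈ R.subgroupOf (S : Subgroup G) := heR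
    rw [x, Subgroup.mem_bot] at this
    have h' : e = 1 := congrArg Subtype.val this
    exact hr.ne_one (heo.symm.trans (by rw [h', orderOf_one]))
  have hRn : R.Normal := by
    have : (Cfsg.pCore r G).Normal := inferInstance
    exact Subgroup.normal_inf_normal _ _
  obtain ⟨w, hw, hw1⟩ := exists_center_ne_one.exists_ne_one_of_ne_bot
    (Cfsg.Agent.Lib.Solvable.inf_center_ne_bot hRne)
  have hw1' : (w : G) ≠ 1 := fun x => hw1 (Subtype.ext x)
  have hSK : (S : Subgroup G) ≤ K := by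
    intro s hs
    refine Subgroup.mem_centralizer_iff.mpr fun y hy => commute_of_mem_nilpotent (hCN w hw1')
      (Subgroup.mem_centralizer_singleton_iff.mpr (Subgroup.mem_centralizer_iff.mp hw.1.2 y hy))
      (Subgroup.mem_centralizer_singleton_iff.mpr (congrArg Subtype.val
        (Subgroup.mem_center_iff.mp hw.2 ⟨s, hs⟩))) ?_
    obtain ⟨j, hj⟩ := (IsPGroup.iff_orderOf.mp S.isPGroup') ⟨s, hs⟩
    rw [show orderOf s = r ^ j by rw [← hj]; exact Subgroup.orderOf_coe ⟨s, hs⟩]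
    exact (hcopH y hy).pow_right j
  have hSc : (S : Subgroup G) ≤ Cfsg.pCore r G := fun s hs => by
    obtain ⟨j, hj⟩ := (IsPGroup.iff_orderOf.mp S.isPGroup') ⟨s, hs⟩
    exact hsyl s (hSK hs) ⟨j, by rw [← hj]; exact Subgroup.orderOf_coe ⟨s, hs⟩⟩
  have hSeq : Cfsg.pCore r G = (S : Subgroup G) :=
    S.is_maximal' (Cfsg.Agent.Lib.Cores.pCore_isPGroup r G) hSc
  have hle : (S : Subgroup G) ≤ H := by
    refine le_fittingHall (hSeq ▸ inferInstance) inferInstance ?_
    obtain ⟨j, hj⟩ := IsPGroup.iff_card.mp S.isPGroup'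
    rw [hj]
    exact Nat.Coprime.pow_left j (hr.coprime_iff_not_dvd.mpr S.not_dvd_index)
  apply hrH
  refine (show r ∣ Nat.card (S : Subgroup G) from ?_).trans (Subgroup.card_dvd_of_le hle)
  refine heo.symm.dvd.trans ?_
  rw [show orderOf e = orderOf (⟨e, hS heR⟩ : (S : Subgroup G)) from Subgroup.orderOf_coe ⟨e, hS heR⟩]
  exact orderOf_dvd_natCard _

/-- Let G be a finite group in which every non-identity element has nilpotent centralizer, not itself nilpotent, and having a nontrivial normal Sylow p-subgroup for some prime p. Let H be the largest normal nilpotent Hall subgroup of G. Then H is a nontrivial proper normal subgroup with a complement E that is a Frobenius complement in G (no non-identity element of E centralizes a non-identity element of H), and G/H is nilpotent. -/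
theorem result {G : Type*} [Group G] [Finite G] (hCN : Cfsg.IsCNGroup G) (hnn : ¬ Group.IsNilpotent G) (p : ℕ) [Fact p.Prime] (P : Sylow p G)
    (hP1 : (P : Subgroup G) ≠ ⊥) (hPn : (P : Subgroup G).Normal) :
    Cfsg.fittingHall G ≠ ⊥ ∧ Cfsg.fittingHall G ≠ ⊤ ∧
      (∃ E : Subgroup G, Subgroup.IsComplement' (Cfsg.fittingHall G) E ∧ Cfsg.IsFrobeniusComplement E ∧
        ∀ e ∈ E, e ≠ 1 → Cfsg.fittingHall G ⊓ Subgroup.centralizer ({e} : Set G) = ⊥) ∧
      Group.IsNilpotent (G ⧸ Cfsg.fittingHall G) := by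
  set H := Cfsg.fittingHall G
  obtain ⟨hHn, hHc⟩ := Cfsg.Agent.Lib.OddLocal.fittingHall_spec (G := G)
  have hPH : (P : Subgroup G) ≤ H := by
    refine Cfsg.Agent.Lib.OddLocal.le_fittingHall hPn P.isPGroup'.isNilpotent ?_
    obtain ⟨j, hj⟩ := IsPGroup.iff_card.mp P.isPGroup'
    rw [hj]
    exact Nat.Coprime.pow_left j ((Fact.out : p.Prime).coprime_iff_not_dvd.mpr P.not_dvd_index)
  have hbot : H ≠ ⊥ := fun h => hP1 (le_bot_iff.mp (h ▸ hPH))
  have htop : H ≠ ⊤ := fun h => hnn (Group.nilpotent_of_mulEquiv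
    ((MulEquiv.subgroupCongr h).trans Subgroup.topEquiv))
  obtain ⟨E, hE⟩ := Subgroup.exists_right_complement'_of_coprime (N := H) hHc
  have hidx : H.index = Nat.card E := hE.symm.index_eq_card
  have hEc : (Nat.card E).Coprime (Nat.card H) := hidx ▸ hHc.symm
  have hf := fpf hCN hEc
  have hE1 : E ≠ ⊥ := fun h => htop (Subgroup.index_eq_one.mp (by rw [hidx, h, Subgroup.card_bot]))
  refine ⟨hbot, htop, ⟨E, hE, Cfsg.Agent.Lib.Frobenius.isFrobeniusComplement_of_fixedPointFree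
    hE.disjoint.eq_bot hE.sup_eq_top hbot hE1 hf, fun e he he1 => ?_⟩, ?_⟩
  · refine (Subgroup.eq_bot_iff_forall _).mpr fun x hx => hf e he he1 x hx.1 ?_
    exact (Subgroup.mem_centralizer_singleton_iff.mp hx.2).symm
  · obtain ⟨z, hz, hz1, hzc⟩ := Cfsg.Agent.Lib.OddLocal.exists_center_ne_one hHn hbot
    let V := (Subgroup.center H).map H.subtype
    have hVn : V.Normal := Cfsg.Agent.Lib.Cores.normal_map_subtype_of_char H (Subgroup.center H)
    have hVc : ∀ a b : V, a * b = b * a := by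
      rintro ⟨_, a, ha, rfl⟩ ⟨_, b, hb, rfl⟩
      exact Subtype.ext (show (a : G) * b = b * a from
        congrArg Subtype.val (Subgroup.mem_center_iff.mp hb a))
    let _ : CommGroup V := { (inferInstance : Group V) with mul_comm := hVc }
    have : Nontrivial V := by
      refine nontrivial_of_ne ⟨z, ⟨z, hz⟩, Subgroup.mem_center_iff.mpr fun h => Subtype.ext (hzc h h.2), rfl⟩ 1
        fun h => hz1 (congrArg Subtype.val h)
    let φ : E →* MulAut V := (MulAut.conjNormal (H := V)).comp E.subtype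
    have hφ : ∀ a : E, a ≠ 1 → ∀ v : V, φ a v = v → v = 1 := by
      intro a ha v hv
      obtain ⟨w, hw, hwv⟩ := v.2
      have hvH : (v : G) ∈ H := hwv ▸ w.2
      refine Subtype.ext (hf a a.2 (fun h => ha (Subtype.ext h)) v hvH ?_)
      exact mul_inv_eq_iff_eq_mul.mp (congrArg Subtype.val hv)
    have hEn := Cfsg.Agent.Lib.OddLocal.isNilpotent_of_fixedPointFree_CN φ hφ
      (Cfsg.Agent.Lib.OddLocal.isCNGroup_subgroup hCN E)
    exact Group.nilpotent_of_mulEquiv (hE.symm.QuotientMulEquiv).symm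

end Cfsg.Agent.S1474
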