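import Cfsg.Statements.S1481
import Cfsg.Agent.Lib.OddLocal.BenderLocal

set_option autoImplicit false
open Cfsg

namespace Cfsg.Agent.S1481

/-- Let G be a finite group and H a local subgroup (the normalizer of a nontrivial subgroup of prime-power order) not properly contained in any local subgroup; let F = F(H), suppose at least two primes divide #F, put X = H ∩ C_G(F), let M ≤ F with F ∩ C_G(M) ≤ M, and let R be a solvable subgroup normalized by M and by X. Then for every prime q not dividing #F there is exactly one maximal M-invariant q-subgroup of R, and it is a Sylow q-subgroup of the largest normal subgroup of R of order coprime to #F. -/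
theorem result {G : Type*} [Group G] [Finite G] (H : Subgroup G) (hH : Cfsg.IsLocalSubgroup H) (hHmax : ∀ L : Subgroup G, Cfsg.IsLocalSubgroup L → H ≤ L → L = H)
    (hF2 : 2 ≤ (Nat.card (Cfsg.fittingOf H)).primeFactors.card)
    (M : Subgroup G) (hM : M ≤ Cfsg.fittingOf H) (hCM : Cfsg.fittingOf H ⊓ Subgroup.centralizer (M : Set G) ≤ M)
    (R : Subgroup G) (hR : Group.IsSolvable R) (hMR : M ≤ Subgroup.normalizer (R : Set G))
    (hXR : H ⊓ Subgroup.centralizer (Cfsg.fittingOf H : Set G) ≤ Subgroup.normalizer (R : Set G))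
    (q : ℕ) [Fact q.Prime] (hq : ¬ q ∣ Nat.card (Cfsg.fittingOf H)) :
    ∃! Q : Subgroup G, Q ∈ Cfsg.maxInvSubgroups R M {q} ∧
      (∀ Q' : Subgroup G, Q' ∈ Cfsg.maxInvSubgroups R M {q} →
        Q' ≤ Cfsg.piCoreOf (Cfsg.primesNotDvd (Nat.card (Cfsg.fittingOf H))) R ∧
        ¬ q ∣ Q'.relIndex (Cfsg.piCoreOf (Cfsg.primesNotDvd (Nat.card (Cfsg.fittingOf H))) R)) := by
  set F := Cfsg.fittingOf H with hF
  set π := Cfsg.primesNotDvd (Nat.card F) with hπ
  set O := Cfsg.piCoreOf π R with hO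
  have hOF : (Nat.card O).Coprime (Nat.card F) :=
    Lib.OddLocal.coprime_card_fitting fun t ht h => Lib.OddLocal.mem_of_prime_dvd_card_piCoreOf ht h
  have hOR : O ≤ R := Lib.OddLocal.piCoreOf_le _ _
  have hMO : M ≤ Subgroup.normalizer (O : Set G) :=
    hMR.trans (Lib.Cores.normalizer_le_normalizer_map_subtype R _)
  have hcop : (Nat.card M).Coprime (Nat.card O) := (hOF.coprime_dvd_right (Subgroup.card_dvd_of_le hM)).symm
  have hsolv : Group.IsSolvable M := by
    have := Lib.OddLocal.isNilpotent_of_le hM (Lib.OddLocal.isNilpotent_fittingOf H)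
    infer_instance
  obtain ⟨S, hS⟩ := Lib.Coprime.exists_invariant_sylow hMO hcop (Or.inl hsolv) q
  set Q := (S : Subgroup O).map O.subtype with hQ
  have hOC : O ⊓ Subgroup.centralizer (M : Set G) = ⊥ :=
    Lib.OddLocal.eq_bot_of_centralizing hHmax hM hCM hF2 hR hXR (inf_le_left.trans hOR) inf_le_right
      (hOF.coprime_dvd_left (Subgroup.card_dvd_of_le inf_le_left))
  have hle : ∀ V ∈ Cfsg.invSubgroups R M {q}, V ≤ Q := by
    intro V hV
    have hVq : IsPGroup q V := Lib.OddLocal.isPGroup_of_mem_inv hV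
    obtain ⟨S', hVS', hS'⟩ := Lib.Coprime.exists_invariant_sylow_ge hMO hcop (Or.inl hsolv) q V
      (Lib.OddLocal.le_piCoreOf_bender hHmax hM hCM hF2 hR hMR hXR hq hV.1 hVq hV.2.2) hVq hV.2.2
    obtain ⟨c, hc, hcS⟩ := Lib.Coprime.exists_centralizer_conj_sylow hMO hcop (Or.inl hsolv) S' S hS' hS
    have hc1 : c = 1 := by
      have h1 : (c : G) ∈ O ⊓ Subgroup.centralizer (M : Set G) := ⟨c.2, hc⟩
      rw [hOC, Subgroup.mem_bot] at h1
      exact Subtype.ext h1
    rw [hc1, map_one, one_smul] at hcS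
    rwa [hQ, ← hcS]
  have hQmem : Q ∈ Cfsg.invSubgroups R M {q} :=
    ⟨(Subgroup.map_subtype_le _).trans hOR,
      (Lib.OddLocal.mem_invSubgroups_singleton_of_isPGroup (S.isPGroup'.map _) hS).2.1, hS⟩
  refine ⟨Q, ⟨⟨hQmem, fun V hV hQV => le_antisymm (hle V hV) hQV⟩, fun Q' hQ' => ?_⟩, ?_⟩
  · have h1 : Q' = Q := (hQ'.2 Q hQmem (hle Q' hQ'.1)).symm
    subst h1
    refine ⟨Subgroup.map_subtype_le _, ?_⟩
    show ¬ q ∣ (Q.subgroupOf O).index
    rw [hQ, Subgroup.subgroupOf, Subgroup.comap_map_eq_self_of_injective O.subtype_injective]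
    exact S.not_dvd_index
  · intro V hV
    exact (hV.1.2 Q hQmem (hle V hV.1.1)).symm

end Cfsg.Agent.S1481
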