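import Cfsg.Statements.S1460
import Cfsg.Agent.Lib.Coprime.Action
import Cfsg.Agent.Lib.OddLocal.Coprime

set_option autoImplicit false
open Cfsg
open scoped Pointwise

namespace Cfsg.Agent.S1460

theorem exists_factor {G : Type*} [Group G] [Finite G] {K U H : Subgroup G} [K.Normal]
    (hsol : Group.IsSolvable K) (hKU : K ⊔ U = ⊤) (hH : H ≤ U)
    (hcop : (Nat.card H).Coprime (Nat.card K)) {g : G}
    (hg : H.map (MulAut.conj g).toMonoidHom ≤ U) :
    ∃ u ∈ U, ∃ c ∈ K ⊓ Subgroup.centralizer (H : Set G), g = u * c := by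
  open Cfsg.Agent.Lib.Coprime in
  obtain ⟨u₀, hu₀, k, hk, rfl⟩ : ∃ u ∈ U, ∃ k ∈ K, g = u * k := by
    obtain ⟨k, hk, u, hu, h⟩ := exists_mul_of_mem_sup (N := K) (H := U)
        Subgroup.le_normalizer_of_normal (hKU ▸ Subgroup.mem_top g : g ∈ K ⊔ U)
    exact ⟨u, hu, u⁻¹ * k * u, by simpa using ‹K.Normal›.conj_mem k hk u⁻¹, by rw [h]; group⟩
  let H' := MulAut.conj k • H
  have hmem : ∀ x ∈ H', x ∈ U ∧ x ∈ (K ⊓ U) ⊔ H := by
    intro x hx
    rw [mem_conj_smul] at hx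
    have h1 : u₀ * x * u₀⁻¹ ∈ U :=
      hg ⟨k⁻¹ * x * k, hx, by simp [mul_assoc]⟩
    have hxU : x ∈ U := by simpa [mul_assoc] using mul_mem (mul_mem (inv_mem hu₀) h1) hu₀
    refine ⟨hxU, ?_⟩
    have h2 : x * (k⁻¹ * x * k)⁻¹ ∈ K := by
      have := mul_mem (‹K.Normal›.conj_mem _ (inv_mem hk) x) hk
      simpa [mul_assoc] using this
    have h3 : x * (k⁻¹ * x * k)⁻¹ ∈ U := mul_mem hxU (inv_mem (hH hx))
    rw [show x = (x * (k⁻¹ * x * k)⁻¹) * (k⁻¹ * x * k) by group]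
    exact mul_mem (Subgroup.mem_sup_left ⟨h2, h3⟩) (Subgroup.mem_sup_right hx)
  have hn : H ≤ Subgroup.normalizer ((K ⊓ U : Subgroup G) : Set G) :=
    le_trans (le_inf Subgroup.le_normalizer_of_normal (hH.trans Subgroup.le_normalizer))
      Subgroup.inf_normalizer_le_normalizer_inf
  obtain ⟨w, hw, hwH⟩ := exists_conj_eq_of_le_sup hn
    (hcop.symm.coprime_dvd_left (Subgroup.card_dvd_of_le inf_le_left))
    (Or.inl (isSolvable_of_le inf_le_left hsol)) (card_conj_smul k H) (fun x hx => (hmem x hx).2)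
  have hc : MulAut.conj (w⁻¹ * k) • H = H := by
    rw [conj_mul_smul, ← hwH, ← conj_mul_smul, inv_mul_cancel, conj_one_smul]
  have hck : w⁻¹ * k ∈ K := mul_mem (inv_mem hw.1) hk
  refine ⟨u₀ * w, mul_mem hu₀ hw.2, w⁻¹ * k, ⟨hck, ?_⟩, by group⟩
  refine mem_centralizer_of_conj hcop hc fun a _ => ?_
  exact mul_mem (‹K.Normal›.conj_mem _ hck a) (inv_mem hck)

theorem inf_commutator_eq {G : Type*} [Group G] [Finite G] {K U H : Subgroup G} [K.Normal]
    (hKU : K ⊔ U = ⊤) (hH : H ≤ U) (hcop : (Nat.card H).Coprime (Nat.card K)) :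
    H ⊓ commutator G = H ⊓ ⁅U, U⁆ := by
  open scoped commutatorElement in
  refine le_antisymm (fun x hx => ⟨hx.1, ?_⟩)
    (inf_le_inf_left _ (Subgroup.commutator_mono le_top le_top))
  have hUn : ⁅U, U⁆ ≤ U := Subgroup.commutator_le_self U
  have hx' : QuotientGroup.mk' K x ∈ (⁅U, U⁆).map (QuotientGroup.mk' K) := by
    have : (⊤ : Subgroup G).map (QuotientGroup.mk' K) = U.map (QuotientGroup.mk' K) := by
      rw [← hKU, Subgroup.map_sup, (Subgroup.map_eq_bot_iff K).mpr (by rw [QuotientGroup.ker_mk']),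
        bot_sup_eq]
    rw [Subgroup.map_commutator, ← this, ← Subgroup.map_commutator]
    exact Subgroup.mem_map_of_mem _ hx.2
  obtain ⟨d, hd, hdx⟩ := hx'
  have hk : x⁻¹ * d ∈ K := (QuotientGroup.eq (s := K)).mp hdx.symm
  let D := (⁅U, U⁆).subgroupOf U
  have hDn : D.Normal := Subgroup.normal_subgroupOf_of_le_normalizer
    (Subgroup.normalizer_commutator_ge_left U U)
  let a : U := ⟨x, hH hx.1⟩
  let b : U := ⟨x⁻¹ * d, mul_mem (inv_mem (hH hx.1)) (hUn hd)⟩
  have hab : QuotientGroup.mk' D (a * b) = 1 := by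
    rw [QuotientGroup.mk'_apply, QuotientGroup.eq_one_iff]
    show x * (x⁻¹ * d) ∈ ⁅U, U⁆
    simpa using hd
  have h1 : orderOf (QuotientGroup.mk' D a) ∣ Nat.card H :=
    (orderOf_map_dvd _ _).trans (by
      rw [← Subgroup.orderOf_coe]; exact Subgroup.orderOf_dvd_natCard _ hx.1)
  have h2 : orderOf (QuotientGroup.mk' D a) ∣ Nat.card K := by
    rw [map_mul, ← eq_inv_iff_mul_eq_one] at hab
    rw [hab, orderOf_inv]
    exact (orderOf_map_dvd _ _).trans (by
      rw [← Subgroup.orderOf_coe]; exact Subgroup.orderOf_dvd_natCard _ hk)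
  have h3 := orderOf_eq_one_iff.mp (Nat.eq_one_of_dvd_coprimes hcop h1 h2)
  rwa [QuotientGroup.mk'_apply, QuotientGroup.eq_one_iff] at h3


/-- Let G be a finite solvable group, K a normal subgroup and U a subgroup with G = KU, and H ≤ U a subgroup whose order is coprime to that of K. Then H ∩ G' = H ∩ U'; N_G(H) is generated by K ∩ C_G(H) and U ∩ N_G(H); and if gHg⁻¹ ≤ U for some g ∈ G then g = u c with u ∈ U and c ∈ K ∩ C_G(H). -/
theorem result {G : Type*} [Group G] [Finite G] [Group.IsSolvable G] (K U H : Subgroup G) [K.Normal] (hKU : K ⊔ U = ⊤) (hH : H ≤ U) (hcop : (Nat.card H).Coprime (Nat.card K)) :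
    H ⊓ commutator G = H ⊓ ⁅U, U⁆ ∧
      Subgroup.normalizer (H : Set G) = (K ⊓ Subgroup.centralizer (H : Set G)) ⊔ (U ⊓ Subgroup.normalizer (H : Set G)) ∧
      ∀ g : G, H.map (MulAut.conj g).toMonoidHom ≤ U → ∃ u ∈ U, ∃ c ∈ K ⊓ Subgroup.centralizer (H : Set G), g = u * c := by
  refine ⟨inf_commutator_eq hKU hH hcop, le_antisymm ?_ ?_, fun g hg =>
    exists_factor inferInstance hKU hH hcop hg⟩
  · intro g hg
    obtain ⟨u, hu, c, hc, rfl⟩ := exists_factor (K := K) inferInstance hKU hH hcop (g := g) (by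
      rintro _ ⟨x, hx, rfl⟩
      exact hH ((Subgroup.mem_normalizer_iff.mp hg x).mp hx))
    have hcn : c ∈ Subgroup.normalizer (H : Set G) := Subgroup.centralizer_le_normalizer _ hc.2
    have hun : u ∈ Subgroup.normalizer (H : Set G) := by simpa using mul_mem hg (inv_mem hcn)
    exact mul_mem (Subgroup.mem_sup_right ⟨hu, hun⟩) (Subgroup.mem_sup_left hc)
  · exact sup_le (inf_le_right.trans (Subgroup.centralizer_le_normalizer _)) inf_le_right

end Cfsg.Agent.S1460
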