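import Cfsg.Statements.S1461
import Cfsg.Agent.Lib.OddLocal.PCore
import Cfsg.Agent.S1460

set_option autoImplicit false
open Cfsg

namespace Cfsg.Agent.S1461

/-- Let G be a finite solvable group, p a prime with G = O_{p',p,p'}(G), and S a Sylow p-subgroup. Then: if S ≤ G' then S ≤ [N_G(S), N_G(S)]; if Y ⊆ S and xYx⁻¹ ⊆ S then x = g c for some g ∈ N_G(S) and c centralizing Y; and for every p-subgroup Q there is x ∈ C_G(Q ∩ S) with xQx⁻¹ ≤ S. -/
theorem result {G : Type*} [Group G] [Finite G] [Group.IsSolvable G] (p : ℕ) [Fact p.Prime] (hpl : Cfsg.PLengthLE p 1 G) (S : Sylow p G) :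
    ((S : Subgroup G) ≤ commutator G → (S : Subgroup G) ≤ ⁅Subgroup.normalizer ((S : Subgroup G) : Set G), Subgroup.normalizer ((S : Subgroup G) : Set G)⁆) ∧
      (∀ (Y : Set G) (x : G), Y ⊆ (S : Subgroup G) → (fun y => x * y * x⁻¹) '' Y ⊆ (S : Subgroup G) →
        ∃ g ∈ Subgroup.normalizer ((S : Subgroup G) : Set G), ∃ c ∈ Subgroup.centralizer Y, g * c = x) ∧
      ∀ Q : Subgroup G, IsPGroup p Q → ∃ x ∈ Subgroup.centralizer ((Q ⊓ (S : Subgroup G) : Subgroup G) : Set G), Q.map (MulAut.conj x).toMonoidHom ≤ (S : Subgroup G) := by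
  open Cfsg.Agent.Lib.OddLocal Cfsg.Agent.S1460 in
  obtain ⟨K, hKn, hKp, hKS, hKU, -⟩ := exists_of_pLengthLE_one hpl S
  haveI := hKn
  have hcop : ∀ H : Subgroup G, H ≤ (S : Subgroup G) → (Nat.card H).Coprime (Nat.card K) := by
    intro H hH
    obtain ⟨j, hj⟩ := (S.2.to_le hH).exists_card_eq
    rw [hj]; exact hKp.symm.pow_left j
  have hSU : (S : Subgroup G) ≤ Subgroup.normalizer ((S : Subgroup G) : Set G) :=
    Subgroup.le_normalizer
  refine ⟨fun hS => ?_, fun Y x hY hxY => ?_, fun Q hQ => ?_⟩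
  · rw [← inf_eq_left, ← inf_commutator_eq hKU hSU (hcop _ le_rfl), inf_eq_left]
    exact hS
  · have hH : Subgroup.closure Y ≤ (S : Subgroup G) := (Subgroup.closure_le _).mpr hY
    have hg : (Subgroup.closure Y).map (MulAut.conj x).toMonoidHom ≤
        Subgroup.normalizer ((S : Subgroup G) : Set G) := by
      rw [MonoidHom.map_closure, Subgroup.closure_le]
      rintro _ ⟨y, hy, rfl⟩
      exact hSU (hxY ⟨y, hy, by simp⟩)
    obtain ⟨u, hu, c, hc, rfl⟩ := exists_factor inferInstance hKU (hH.trans hSU) (hcop _ hH) hg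
    exact ⟨u, hu, c, by rw [← Subgroup.centralizer_closure]; exact hc.2, rfl⟩
  · obtain ⟨T, hT⟩ := hQ.exists_le_sylow
    obtain ⟨g, hg⟩ := MulAction.exists_smul_eq G T S
    obtain ⟨k, hk, u, hu, rfl⟩ := Cfsg.Agent.Lib.Coprime.exists_mul_of_mem_sup (N := K)
      (H := Subgroup.normalizer ((S : Subgroup G) : Set G)) Subgroup.le_normalizer_of_normal
      (hKU ▸ Subgroup.mem_top g : g ∈ _)
    have hk' : u⁻¹ * k * u ∈ K := by simpa using hKn.conj_mem k hk u⁻¹
    have hmem : ∀ y ∈ (T : Subgroup G), u⁻¹ * k * u * y * (u⁻¹ * k * u)⁻¹ ∈ (S : Subgroup G) := by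
      intro y hy
      have h1 : (k * u) * y * (k * u)⁻¹ ∈ (S : Subgroup G) := by
        rw [← hg, Sylow.coe_subgroup_smul, Cfsg.Agent.Lib.Coprime.mem_conj_smul]
        simpa [mul_assoc] using hy
      have h2 := (Subgroup.mem_normalizer_iff.mp (inv_mem hu) _).mp h1
      simpa [mul_assoc] using h2
    refine ⟨u⁻¹ * k * u, mem_centralizer_of_conj_eq fun r hr => ?_, ?_⟩
    · have h1 := hmem r (hT hr.1)
      have h3 : u⁻¹ * k * u * r * (u⁻¹ * k * u)⁻¹ * r⁻¹ ∈ K := by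
        have := mul_mem hk' (hKn.conj_mem _ (inv_mem hk') r)
        simpa [mul_assoc] using this
      exact mul_inv_eq_one.mp (Cfsg.Agent.Lib.Coprime.eq_one_of_mem_of_mem (hcop _ le_rfl).symm h3
        (mul_mem h1 (inv_mem hr.2)))
    · rintro _ ⟨y, hy, rfl⟩
      exact hmem y (hT hy)

end Cfsg.Agent.S1461
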