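import Cfsg.Statements.S2581
import Mathlib

set_option autoImplicit false
open Cfsg

namespace Cfsg.Agent.S2581

open Matrix

variable {F : Type*} [Field F] [Fintype F] {t : ℕ} (d : Fin t → ℕ)

/-- Coordinates of the commutant: the first column of each block. -/
abbrev Coord : Type := {p : (k : Fin t) × Fin t × Fin (d k) // d p.1 ≤ (p.2.2 : ℕ) + d p.2.1}

/-- The coordinates of the leading coefficients between blocks of equal size. -/
def IsLead (p : Coord d) : Prop := (p.1.2.2 : ℕ) = 0 ∧ d p.1.1 = d p.1.2.1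

variable {d}

/-- The block matrix with prescribed first columns. -/
def toMat (f : Coord d → F) : Matrix ((k : Fin t) × Fin (d k)) ((k : Fin t) × Fin (d k)) F :=
  Matrix.of fun x y => if h : (y.2 : ℕ) ≤ x.2 ∧ d x.1 ≤ (x.2 : ℕ) - y.2 + d y.1 then
    f ⟨⟨x.1, y.1, ⟨(x.2 : ℕ) - y.2, lt_of_le_of_lt (Nat.sub_le _ _) x.2.2⟩⟩, h.2⟩ else 0

theorem jordan_eq : Cfsg.jordanTypeMatrix d F = 1 + Matrix.of fun x y : (k : Fin t) × Fin (d k) =>
    if x.1 = y.1 ∧ (x.2 : ℕ) = y.2 + 1 then (1 : F) else 0 := by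
  ext ⟨k, i⟩ ⟨l, j⟩
  rw [Cfsg.jordanTypeMatrix, Matrix.add_apply, blockDiagonal'_apply, of_apply, one_apply]
  by_cases hkl : k = l
  · subst hkl
    rw [dif_pos rfl]
    simp only [Cfsg.jordanBlock, of_apply, cast_eq, Sigma.mk.injEq, heq_eq_eq, true_and]
    by_cases h : (i : ℕ) = j
    · rw [if_pos h, if_pos (Fin.ext h), if_neg (by omega), add_zero]
    · rw [if_neg h, if_neg (fun e => h (congrArg Fin.val e)), zero_add]
  · rw [dif_neg hkl, if_neg (by simp [hkl]), if_neg (by simp [hkl]), add_zero]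

/-- The nilpotent part. -/
def nil (F : Type*) [Field F] (d : Fin t → ℕ) : Matrix ((k : Fin t) × Fin (d k)) ((k : Fin t) × Fin (d k)) F :=
  Matrix.of fun x y => if x.1 = y.1 ∧ (x.2 : ℕ) = y.2 + 1 then 1 else 0

theorem nil_mul_zero (A : Matrix ((k : Fin t) × Fin (d k)) ((k : Fin t) × Fin (d k)) F) {x y} (h : (x.2 : ℕ) = 0) :
    (nil F d * A) x y = 0 := by
  rw [mul_apply]
  exact Finset.sum_eq_zero fun z _ => by rw [nil, of_apply, if_neg (fun e => by omega), zero_mul]

theorem nil_mul_succ (A : Matrix ((k : Fin t) × Fin (d k)) ((k : Fin t) × Fin (d k)) F) {k : Fin t} {i : ℕ} (hi : i + 1 < d k) (y) :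
    (nil F d * A) ⟨k, ⟨i + 1, hi⟩⟩ y = A ⟨k, ⟨i, by omega⟩⟩ y := by
  rw [mul_apply, Finset.sum_eq_single ⟨k, ⟨i, by omega⟩⟩]
  · rw [nil, of_apply, if_pos ⟨rfl, rfl⟩, one_mul]
  · rintro ⟨k', i'⟩ _ hne
    rw [nil, of_apply, if_neg ?_, zero_mul]
    rintro ⟨h1, h2⟩
    simp only at h1 h2
    subst h1
    exact hne (by congr 1; exact Fin.ext (by simp; omega))
  · simp

theorem mul_nil_last (A : Matrix ((k : Fin t) × Fin (d k)) ((k : Fin t) × Fin (d k)) F) {x y} (h : (y.2 : ℕ) + 1 = d y.1) :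
    (A * nil F d) x y = 0 := by
  rw [mul_apply]
  refine Finset.sum_eq_zero fun z _ => ?_
  rw [nil, of_apply, if_neg ?_, mul_zero]
  rintro ⟨h1, h2⟩
  have h3 : (z.2 : ℕ) < d y.1 := h1 ▸ z.2.2
  omega

theorem mul_nil_succ (A : Matrix ((k : Fin t) × Fin (d k)) ((k : Fin t) × Fin (d k)) F) (x) {l : Fin t} {j : ℕ} (hj : j + 1 < d l) :
    (A * nil F d) x ⟨l, ⟨j, by omega⟩⟩ = A x ⟨l, ⟨j + 1, hj⟩⟩ := by
  rw [mul_apply, Finset.sum_eq_single ⟨l, ⟨j + 1, hj⟩⟩]
  · rw [nil, of_apply, if_pos ⟨rfl, rfl⟩, mul_one]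
  · rintro ⟨k', i'⟩ _ hne
    rw [nil, of_apply, if_neg ?_, mul_zero]
    rintro ⟨h1, h2⟩
    simp only at h1 h2
    subst h1
    exact hne (by congr 1; exact Fin.ext (by simp; omega))
  · simp

theorem toMat_comm (f : Coord d → F) : nil F d * toMat f = toMat f * nil F d := by
  ext ⟨k, i⟩ ⟨l, j⟩
  obtain ⟨i, hi⟩ := i
  obtain ⟨j, hj⟩ := j
  by_cases hj1 : j + 1 < d l
  · rw [mul_nil_succ (toMat f) _ hj1]
    rcases i with _ | i
    · rw [nil_mul_zero _ rfl, toMat, of_apply, dif_neg]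
      rintro ⟨h, -⟩
      simp at h
    · rw [nil_mul_succ (toMat f) hi]
      simp only [toMat, of_apply, Nat.succ_sub_succ_eq_sub, Nat.add_le_add_iff_right]
  · rw [mul_nil_last _ (by simp; omega)]
    rcases i with _ | i
    · rw [nil_mul_zero _ rfl]
    · rw [nil_mul_succ (toMat f) hi, toMat, of_apply, dif_neg]
      rintro ⟨h1, h2⟩
      simp at h1 h2
      omega

theorem toMat_injective (hd : ∀ k, 1 ≤ d k) : Function.Injective (toMat (F := F) (d := d)) := by
  intro f g h
  funext ⟨⟨k, l, s⟩, hp⟩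
  simp only at hp
  have h1 := congrFun (congrFun h ⟨k, s⟩) ⟨l, ⟨0, hd l⟩⟩
  simp only [toMat, of_apply, Nat.sub_zero, Nat.zero_le, true_and, dif_pos hp, Fin.eta] at h1
  exact h1

theorem exists_toMat (hd : ∀ k, 1 ≤ d k) {A : Matrix ((k : Fin t) × Fin (d k)) ((k : Fin t) × Fin (d k)) F}
    (h : nil F d * A = A * nil F d) : ∃ f, toMat f = A := by
  refine ⟨fun p => A ⟨p.1.1, p.1.2.2⟩ ⟨p.1.2.1, ⟨0, hd _⟩⟩, ?_⟩
  have main : ∀ (k l : Fin t) (j i : ℕ) (hi : i < d k) (hj : j < d l),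
      A ⟨k, ⟨i, hi⟩⟩ ⟨l, ⟨j, hj⟩⟩ = if j ≤ i then A ⟨k, ⟨i - j, by omega⟩⟩ ⟨l, ⟨0, hd l⟩⟩ else 0 := by
    intro k l j
    induction j with
    | zero => intro i hi hj; simp
    | succ j ih =>
      intro i hi hj
      have e := congrFun (congrFun h ⟨k, ⟨i, hi⟩⟩) ⟨l, ⟨j, by omega⟩⟩
      rw [mul_nil_succ A _ hj] at e
      rw [← e]
      rcases i with _ | i
      · rw [nil_mul_zero _ rfl, if_neg (by omega)]
      · rw [nil_mul_succ A hi, ih i (by omega) (by omega)]
        simp only [Nat.succ_sub_succ_eq_sub, Nat.add_le_add_iff_right]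
  ext ⟨k, i⟩ ⟨l, j⟩
  obtain ⟨i, hi⟩ := i
  obtain ⟨j, hj⟩ := j
  rw [main k l j i hi hj, toMat, of_apply]
  dsimp only
  by_cases hji : j ≤ i
  · rw [if_pos hji]
    by_cases hs : d k ≤ i - j + d l
    · rw [dif_pos ⟨hji, hs⟩]
    · rw [dif_neg (fun e => hs e.2)]
      obtain ⟨l', hl'⟩ : ∃ l', d l = l' + 1 := ⟨d l - 1, by have := hd l; omega⟩
      have e := congrFun (congrFun h ⟨k, ⟨i - j + l' + 1, by omega⟩⟩) ⟨l, ⟨l', by omega⟩⟩
      rw [nil_mul_succ A, mul_nil_last _ (by simp; omega), main k l l' _ _ (by omega), if_pos (by omega)] at e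
      simp only [Nat.add_sub_cancel] at e
      exact e.symm
  · rw [if_neg hji, dif_neg (fun e => hji e.1)]

/-- The leading coefficient matrix for blocks of size `D`. -/
def lead (f : Coord d → F) (D : ℕ) (hD : 1 ≤ D) : Matrix {k // d k = D} {k // d k = D} F :=
  Matrix.of fun k l => f ⟨⟨k.1, l.1, ⟨0, by have := k.2; omega⟩⟩, by have := k.2; have := l.2; simp; omega⟩

theorem det_toMat_ne_zero_iff (hd : ∀ k, 1 ≤ d k) (f : Coord d → F) :
    (toMat f).det ≠ 0 ↔ ∀ D (hD : 1 ≤ D), (lead f D hD).det ≠ 0 := by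
  classical
  obtain ⟨M, hM⟩ : ∃ M, ∀ k, d k ≤ M := ⟨Finset.univ.sup d, fun k => Finset.le_sup (Finset.mem_univ k)⟩
  let b : ((k : Fin t) × Fin (d k)) → ℕ := fun x => (x.2 : ℕ) * (M + 1) + (M - d x.1)
  have hb : ∀ x y, b x = b y → (x.2 : ℕ) = y.2 ∧ d x.1 = d y.1 := by
    intro x y e
    have h1 := congrArg (· % (M + 1)) e
    have h2 := hM x.1; have h3 := hM y.1
    simp only [b, Nat.mul_add_mod_self_right] at h1
    rw [Nat.mod_eq_of_lt (by omega), Nat.mod_eq_of_lt (by omega)] at h1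
    refine ⟨Nat.eq_of_mul_eq_mul_right (show 0 < M + 1 by omega) ?_, by omega⟩
    simp only [b, h1] at e
    omega
  have htri : BlockTriangular (toMat f)ᵀ b := by
    intro y x hxy
    rw [transpose_apply, toMat, of_apply, dif_neg]
    rintro ⟨h1, h2⟩
    rcases Nat.lt_or_ge (y.2 : ℕ) x.2 with hlt | hge
    · have := Nat.mul_le_mul_right (M + 1) hlt
      rw [Nat.succ_mul] at this
      simp only [b] at hxy
      omega
    · have he : (x.2 : ℕ) = y.2 := by omega
      simp only [b, he] at hxy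
      omega
  have hblock : ∀ (z : (k : Fin t) × Fin (d k)) (D : ℕ) (hD : 1 ≤ D), d z.1 = D →
      ((toMat f)ᵀ.toSquareBlock b (b z)).det = (lead f D hD).det := by
    intro z D hD hz
    let e : {k // d k = D} ≃ {x // b x = b z} :=
      { toFun := fun k => ⟨⟨k.1, ⟨z.2, by rw [k.2, ← hz]; exact z.2.2⟩⟩, by simp [b, k.2, hz]⟩
        invFun := fun x => ⟨x.1.1, (hb _ _ x.2).2.trans hz⟩
        left_inv := fun k => rfl
        right_inv := fun x => Subtype.ext (by
          obtain ⟨⟨k, i⟩, hx⟩ := x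
          exact congrArg (Sigma.mk k) (Fin.ext (hb _ _ hx).1.symm)) }
    rw [← det_submatrix_equiv_self e, ← det_transpose (lead f D hD)]
    congr 1
    ext k l
    show toMat f ⟨l.1, ⟨z.2, _⟩⟩ ⟨k.1, ⟨z.2, _⟩⟩ = lead f D hD l k
    rw [toMat, of_apply, dif_pos ⟨le_rfl, by simp [k.2, l.2]⟩]
    simp [lead]
  rw [← det_transpose, htri.det, Finset.prod_ne_zero_iff]
  constructor
  · intro h D hD
    by_cases hne : ∃ k, d k = D
    · obtain ⟨k, hk⟩ := hne
      rw [← hblock ⟨k, ⟨0, hd k⟩⟩ D hD hk]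
      exact h _ (Finset.mem_image_of_mem _ (Finset.mem_univ _))
    · haveI : IsEmpty {k // d k = D} := ⟨fun k => hne ⟨k.1, k.2⟩⟩
      rw [det_isEmpty]; exact one_ne_zero
  · intro h a ha
    obtain ⟨z, -, rfl⟩ := Finset.mem_image.mp ha
    rw [hblock z (d z.1) (hd _) rfl]
    exact h _ _

theorem card_gl_type (ι : Type*) [Fintype ι] [DecidableEq ι] :
    Nat.card {A : Matrix ι ι F // A.det ≠ 0} = ∏ i : Fin (Fintype.card ι), (Fintype.card F ^ Fintype.card ι - Fintype.card F ^ (i : ℕ)) := by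
  classical
  rw [← Matrix.card_GL_field (𝔽 := F) (Fintype.card ι)]
  refine Nat.card_congr ?_
  exact
    { toFun := fun A => Matrix.GeneralLinearGroup.mkOfDetNeZero (reindex (Fintype.equivFin ι) (Fintype.equivFin ι) A.1)
        (by rw [det_reindex_self]; exact A.2)
      invFun := fun g => ⟨reindex (Fintype.equivFin ι).symm (Fintype.equivFin ι).symm g.1,
        by rw [det_reindex_self]; exact (Matrix.GeneralLinearGroup.det g).ne_zero⟩
      left_inv := fun A => Subtype.ext (by ext; simp [Matrix.GeneralLinearGroup.mkOfDetNeZero])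
      right_inv := fun g => Units.ext (by ext; simp [Matrix.GeneralLinearGroup.mkOfDetNeZero]) }

theorem sum_types (g : ℕ → ℕ) :
    ∑ k : Fin t, g (d k) = ∑ D ∈ Finset.range (Finset.univ.sup d + 1), (Finset.univ.filter fun k : Fin t => d k = D).card * g D := by
  rw [← Finset.sum_fiberwise_of_maps_to (g := d) (t := Finset.range (Finset.univ.sup d + 1))
    (fun k _ => Finset.mem_range.mpr (Nat.lt_succ_of_le (Finset.le_sup (Finset.mem_univ k))))]
  refine Finset.sum_congr rfl fun D _ => ?_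
  rw [Finset.sum_congr rfl (fun k hk => by rw [(Finset.mem_filter.mp hk).2]), Finset.sum_const, smul_eq_mul]

/-- Order of the centraliser in GL of a unipotent matrix of given Jordan type over the field with q elements: if the type has a_i blocks of size i (all block sizes at least 1), the invertible matrices commuting with it number q^γ · Π_i |GL_(a_i)(q)| with γ = 2 Σ_(i<j) i a_i a_j + Σ_i (i − 1) a_i² (a group of order q^γ extended by Π GL_(a_i)(q)). -/
theorem result {F : Type*} [Field F] [Fintype F] {q : ℕ} (hF : Fintype.card F = q) {t : ℕ} (d : Fin t → ℕ) (hd : ∀ k, 1 ≤ d k) : Nat.card {g : GL ((k : Fin t) × Fin (d k)) F // (g : Matrix ((k : Fin t) × Fin (d k)) ((k : Fin t) × Fin (d k)) F) * Cfsg.jordanTypeMatrix d F = Cfsg.jordanTypeMatrix d F * (g : Matrix ((k : Fin t) × Fin (d k)) ((k : Fin t) × Fin (d k)) F)} = q ^ (2 * (∑ i ∈ Finset.range (Finset.univ.sup d + 1), ∑ j ∈ Finset.range (Finset.univ.sup d + 1), if i < j then i * (Finset.univ.filter (fun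 k : Fin t => d k = i)).card * (Finset.univ.filter (fun k : Fin t => d k = j)).card else 0) + ∑ i ∈ Finset.range (Finset.univ.sup d + 1), (i - 1) * (Finset.univ.filter (fun k : Fin t => d k = i)).card ^ 2) * ∏ i ∈ Finset.range (Finset.univ.sup d + 1), ∏ j : Fin ((Finset.univ.filter (fun k : Fin t => d k = i)).card), (q ^ (Finset.univ.filter (fun k : Fin t => d k = i)).card - q ^ (j : ℕ)) := by
  classical
  subst hF
  obtain ⟨R, hR⟩ : ∃ R, R = Finset.range (Finset.univ.sup d + 1) := ⟨_, rfl⟩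
  have hJ : Cfsg.jordanTypeMatrix d F = 1 + nil F d := jordan_eq
  have hcomm : ∀ A : Matrix ((k : Fin t) × Fin (d k)) ((k : Fin t) × Fin (d k)) F,
      A * Cfsg.jordanTypeMatrix d F = Cfsg.jordanTypeMatrix d F * A ↔ nil F d * A = A * nil F d := by
    intro A
    rw [hJ, mul_add, add_mul, mul_one, one_mul, add_right_inj, eq_comm]
  let Φ : {f : Coord d → F // (toMat f).det ≠ 0} → {g : GL ((k : Fin t) × Fin (d k)) F //
      (g : Matrix ((k : Fin t) × Fin (d k)) ((k : Fin t) × Fin (d k)) F) * Cfsg.jordanTypeMatrix d F =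
        Cfsg.jordanTypeMatrix d F * (g : Matrix ((k : Fin t) × Fin (d k)) ((k : Fin t) × Fin (d k)) F)} :=
    fun f => ⟨Matrix.GeneralLinearGroup.mkOfDetNeZero (toMat f.1) f.2, (hcomm _).mpr (toMat_comm f.1)⟩
  have hΦ : Function.Bijective Φ := by
    refine ⟨fun f g h => Subtype.ext (toMat_injective hd (congrArg (fun x => ((x.1 : GL ((k : Fin t) × Fin (d k)) F) : Matrix ((k : Fin t) × Fin (d k)) ((k : Fin t) × Fin (d k)) F)) h)), fun g => ?_⟩
    obtain ⟨f, hf⟩ := exists_toMat hd ((hcomm _).mp g.2)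
    exact ⟨⟨f, by rw [hf]; exact (Matrix.GeneralLinearGroup.det g.1).ne_zero⟩, Subtype.ext (Units.ext hf)⟩
  rw [← Nat.card_eq_of_bijective Φ hΦ, ← hR]
  -- split off the leading coefficients
  let G : R → Type _ := fun D => {A : Matrix {k // d k = D.1} {k // d k = D.1} F // A.det ≠ 0}
  have hpos : ∀ (D : R) (k : {k // d k = D.1}), 1 ≤ D.1 := fun D k => k.2 ▸ hd k.1
  have hmemR : ∀ k, d k ∈ R := fun k => hR ▸ Finset.mem_range.mpr (Nat.lt_succ_of_le (Finset.le_sup (Finset.mem_univ k)))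
  let T := ({p : Coord d // ¬ IsLead d p} → F) × ((D : R) → G D)
  let Ψ : T → (Coord d → F) := fun x p => if h : IsLead d p then
      (x.2 ⟨d p.1.1, hmemR _⟩).1 ⟨p.1.1, rfl⟩ ⟨p.1.2.1, h.2.symm⟩ else x.1 ⟨p, h⟩
  have hlead : ∀ x (D : ℕ) (hD : 1 ≤ D) (hDR : D ∈ R), lead (Ψ x) D hD = (x.2 ⟨D, hDR⟩).1 := by
    intro x D hD hDR
    ext ⟨k, hk⟩ ⟨l, hl⟩
    subst hk
    show dite _ _ _ = _
    rw [dif_pos ⟨rfl, hl.symm⟩]
  have hΨ : ∀ x, (toMat (Ψ x)).det ≠ 0 := by
    intro x
    rw [det_toMat_ne_zero_iff hd]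
    intro D hD
    by_cases hne : ∃ k, d k = D
    · obtain ⟨k, rfl⟩ := hne
      rw [hlead x _ hD (hmemR k)]
      exact (x.2 _).2
    · haveI : IsEmpty {k // d k = D} := ⟨fun k => hne ⟨k.1, k.2⟩⟩
      rw [Matrix.det_isEmpty]; exact one_ne_zero
  let Ω : T → {f : Coord d → F // (toMat f).det ≠ 0} := fun x => ⟨Ψ x, hΨ x⟩
  have hΩ : Function.Bijective Ω := by
    constructor
    · intro x y h
      have h' : Ψ x = Ψ y := congrArg Subtype.val h
      refine Prod.ext (funext fun p => ?_) (funext fun D => Subtype.ext (Matrix.ext fun k l => ?_))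
      · simpa only [Ψ, dif_neg p.2, Subtype.coe_eta] using congrFun h' p.1
      · have := congrFun (congrFun (congrArg (fun f => lead f D.1 (hpos D k)) h') k) l
        rw [hlead x _ _ D.2, hlead y _ _ D.2] at this
        exact this
    · rintro ⟨f, hf⟩
      rw [det_toMat_ne_zero_iff hd] at hf
      let g : (D : R) → G D := fun D => if h : 1 ≤ D.1 then ⟨lead f D.1 h, hf _ h⟩ else
        ⟨1, by rw [Matrix.det_one]; exact one_ne_zero⟩
      refine ⟨(fun p => f p.1, g), Subtype.ext (funext fun p => ?_)⟩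
      show dite _ _ _ = f p
      by_cases h : IsLead d p
      · rw [dif_pos h]
        simp only [g, dif_pos (show 1 ≤ d p.1.1 from hd _), lead, Matrix.of_apply]
        congr 1
        obtain ⟨⟨k, l, s⟩, hp⟩ := p
        have hs : (s : ℕ) = 0 := h.1
        obtain rfl : s = ⟨0, hd k⟩ := Fin.ext hs
        rfl
      · rw [dif_neg h]
  rw [← Nat.card_eq_of_bijective Ω hΩ, Nat.card_prod, Nat.card_fun, Nat.card_eq_fintype_card (α := F), Nat.card_pi]
  congr 1
  · congr 1
    have hcount : Nat.card {p : Coord d // ¬ IsLead d p} =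
        ∑ k : Fin t, ∑ l : Fin t, (if d k < d l then d k else if d l < d k then d l else d k - 1) := by
      let e : {p : Coord d // ¬ IsLead d p} ≃
          (k : Fin t) × (l : Fin t) × {s : Fin (d k) // d k ≤ (s : ℕ) + d l ∧ ¬ ((s : ℕ) = 0 ∧ d k = d l)} :=
        { toFun := fun p => ⟨p.1.1.1, p.1.1.2.1, p.1.1.2.2, p.1.2, p.2⟩
          invFun := fun x => ⟨⟨⟨x.1, x.2.1, x.2.2.1⟩, x.2.2.2.1⟩, x.2.2.2.2⟩
          left_inv := fun p => rfl
          right_inv := fun x => rfl }
      rw [Nat.card_congr e, Nat.card_sigma]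
      refine Finset.sum_congr rfl fun k _ => ?_
      rw [Nat.card_sigma]
      refine Finset.sum_congr rfl fun l _ => ?_
      rw [Nat.card_eq_fintype_card, Fintype.card_subtype]
      split_ifs with h1 h2
      · rw [Finset.filter_true_of_mem fun s _ => ⟨by omega, fun e => by omega⟩, Finset.card_univ, Fintype.card_fin]
      · have : (Finset.univ.filter fun s : Fin (d k) => (s : ℕ) < d k - d l).card = d k - d l := by
          rw [Fin.card_filter_val_lt]; omega
        have e : (Finset.univ.filter fun s : Fin (d k) => d k ≤ (s : ℕ) + d l ∧ ¬ ((s : ℕ) = 0 ∧ d k = d l)) =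
            (Finset.univ.filter fun s : Fin (d k) => (s : ℕ) < d k - d l)ᶜ := by
          rw [Finset.compl_filter]
          exact Finset.filter_congr fun s _ => by omega
        rw [e, Finset.card_compl, this, Fintype.card_fin]
        omega
      · have e : (Finset.univ.filter fun s : Fin (d k) => d k ≤ (s : ℕ) + d l ∧ ¬ ((s : ℕ) = 0 ∧ d k = d l)) =
            ({⟨0, hd k⟩} : Finset (Fin (d k)))ᶜ := by
          ext s; simp [Fin.ext_iff]; omega
        rw [e, Finset.card_compl, Finset.card_singleton, Fintype.card_fin]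
    rw [hcount]
    rw [sum_types (d := d) (g := fun i => ∑ l : Fin t, if i < d l then i else if d l < i then d l else i - 1), ← hR]
    rw [Finset.sum_congr rfl fun i _ => congrArg (_ * ·) (sum_types (d := d) (g := fun j => if i < j then i else if j < i then j else i - 1)), ← hR]
    simp only [Finset.mul_sum, ← Finset.sum_add_distrib]
    have h1 : ∀ i j : ℕ, ∀ a b : ℕ, a * (b * if i < j then i else if j < i then j else i - 1) =
        (if i < j then i * a * b else 0) + (if j < i then j * b * a else 0) + (if i = j then (i - 1) * a * b else 0) := by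
      intro i j a b
      rcases lt_trichotomy i j with h | rfl | h
      · simp [h, h.ne, not_lt.mpr h.le]; ring
      · simp; ring
      · simp [h, h.ne', not_lt.mpr h.le]; ring
    simp only [h1, Finset.sum_add_distrib]
    rw [Finset.sum_comm (f := fun i j => if j < i then _ else 0)]
    rw [Finset.sum_congr rfl (g := fun i => (i - 1) * (Finset.univ.filter fun k : Fin t => d k = i).card ^ 2)
      (f := fun i => ∑ j ∈ R, if i = j then (i - 1) * (Finset.univ.filter fun k : Fin t => d k = i).card * (Finset.univ.filter fun k : Fin t => d k = j).card else 0)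
      (fun i hi => by rw [Finset.sum_ite_eq, if_pos hi]; ring)]
    congr 1
    simp only [← Finset.sum_add_distrib]
    exact Finset.sum_congr rfl fun i _ => Finset.sum_congr rfl fun j _ => (two_mul _).symm
  · rw [← Finset.prod_coe_sort R]
    refine Finset.prod_congr rfl fun D _ => ?_
    rw [card_gl_type, Fintype.card_subtype]

end Cfsg.Agent.S2581
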