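import Cfsg.Statements.S4035
import Cfsg.Agent.Lib.Transfer.Basic
import Mathlib.GroupTheory.SchurZassenhaus

set_option autoImplicit false
open Cfsg

namespace Cfsg.Agent.S4035

theorem eq_top_of_conj_cover {G : Type*} [Group G] [Finite G] (K : Subgroup G)
    (h : ∀ y : G, ∃ g : G, g⁻¹ * y * g ∈ K) : K = ⊤ := by
  classical
  by_contra hK
  have hc : ∀ y : {y : G // y ≠ 1}, ∃ c : G ⧸ K, c.out⁻¹ * y.1 * c.out ∈ K := by
    intro y
    obtain ⟨g, hg⟩ := h y.1
    obtain ⟨k, hk⟩ := QuotientGroup.mk_out_eq_mul K g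
    refine ⟨(g : G ⧸ K), ?_⟩
    rw [hk, mul_inv_rev]
    simpa [mul_assoc] using K.mul_mem (K.mul_mem (K.inv_mem k.2) hg) k.2
  choose c hc using hc
  let f : {y : G // y ≠ 1} → (G ⧸ K) × {k : K // k ≠ 1} := fun y =>
    (c y, ⟨⟨_, hc y⟩, fun e => y.2 (by
      have e' : (c y).out⁻¹ * y.1 * (c y).out = 1 := congrArg Subtype.val e
      calc y.1 = (c y).out * ((c y).out⁻¹ * y.1 * (c y).out) * (c y).out⁻¹ := by group
        _ = 1 := by rw [e']; group)⟩)
  have hf : Function.Injective f := by
    intro a b hab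
    have h1 : c a = c b := congrArg Prod.fst hab
    have h2 : (c a).out⁻¹ * a.1 * (c a).out = (c b).out⁻¹ * b.1 * (c b).out :=
      congrArg (fun q : (G ⧸ K) × {k : K // k ≠ 1} => ((q.2.1 : K) : G)) hab
    rw [h1] at h2
    exact Subtype.ext (mul_left_cancel (mul_right_cancel h2))
  have := Fintype.ofFinite G
  have := Fintype.ofFinite K
  have := Nat.card_le_card_of_injective f hf
  rw [Nat.card_prod, ← Subgroup.index] at this
  have e1 : Nat.card {y : G // y ≠ 1} + 1 = Nat.card G := by
    rw [Nat.card_eq_fintype_card, Nat.card_eq_fintype_card, Fintype.card_subtype_compl,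
      Fintype.card_subtype_eq]
    have : 0 < Fintype.card G := Fintype.card_pos
    omega
  have e2 : Nat.card {k : K // k ≠ 1} + 1 = Nat.card K := by
    rw [Nat.card_eq_fintype_card, Nat.card_eq_fintype_card, Fintype.card_subtype_compl,
      Fintype.card_subtype_eq]
    have : 0 < Fintype.card K := Fintype.card_pos
    omega
  have e3 := K.index_mul_card
  rw [← e2, mul_add, mul_one] at e3
  have : 1 < K.index := Nat.lt_of_le_of_ne (Nat.one_le_iff_ne_zero.mpr Subgroup.index_ne_zero_of_finite)
    (fun h => hK (Subgroup.index_eq_one.mp h.symm))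
  omega

/-- Let G be a finite group and p a prime such that p divides the size of no conjugacy class of p-regular elements (elements of order prime to p). Then G is the internal direct product of a Sylow p-subgroup P and a normal subgroup H of order prime to p: P is normal, P ⊓ H = 1 and PH = G. -/
theorem result {G : Type*} [Group G] [Finite G] {p : ℕ} [Fact p.Prime]
    (h : ∀ x : G, (orderOf x).Coprime p → ¬ p ∣ (ConjClasses.mk x).carrier.ncard) (P : Sylow p G) :
    (P : Subgroup G).Normal ∧ ∃ H : Subgroup G, H.Normal ∧ ¬ p ∣ Nat.card H ∧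
      (P : Subgroup G) ⊓ H = ⊥ ∧ (P : Subgroup G) ⊔ H = ⊤ := by
  have hp : p.Prime := Fact.out
  set K : Subgroup G := (P : Subgroup G) ⊔ Subgroup.centralizer ((P : Subgroup G) : Set G) with hK
  have hPK : (P : Subgroup G) ≤ K := le_sup_left
  have hnormK : K ≤ Subgroup.normalizer ((P : Subgroup G) : Set G) := by
    refine sup_le Subgroup.le_normalizer fun x hx => ?_
    rw [Subgroup.mem_normalizer_iff]
    intro y
    have hy : ∀ z ∈ (P : Subgroup G), x * z = z * x := fun z hz =>
      ((Subgroup.mem_centralizer_iff.mp hx) z hz).symm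
    constructor
    · intro h; rwa [hy y h, mul_inv_cancel_right]
    · intro h
      have h2 := hy _ h
      have : y = x * y * x⁻¹ := by
        calc y = x⁻¹ * (x * y * x⁻¹ * x) := by group
          _ = x⁻¹ * (x * (x * y * x⁻¹)) := by rw [h2]
          _ = x * y * x⁻¹ := by group
      rw [this]; exact h
  have htop : K = ⊤ := by
    refine eq_top_of_conj_cover K fun y => ?_
    obtain ⟨s, u, hsy, huy, hs, ⟨a, hu⟩, hyeq⟩ :=
      Cfsg.Agent.Lib.Transfer.exists_pPart_decomp (p := p) y
    have hcomm : Commute u s := by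
      obtain ⟨i, hi⟩ := Subgroup.mem_zpowers_iff.mp huy
      obtain ⟨j, hj⟩ := Subgroup.mem_zpowers_iff.mp hsy
      rw [← hi, ← hj]
      exact (Commute.refl y).zpow_zpow i j
    have hmul : u * s = y := by rw [hcomm.eq]; exact hyeq.symm
    set C := Subgroup.centralizer ({s} : Set G)
    have huC : u ∈ C := Subgroup.mem_centralizer_singleton_iff.mpr hcomm.eq
    have hup : IsPGroup p (Subgroup.zpowers (⟨u, huC⟩ : C)) := by
      refine IsPGroup.of_card (n := a) ?_
      rw [Nat.card_zpowers, Subgroup.orderOf_mk, hu]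
    obtain ⟨R, hR⟩ := hup.exists_le_sylow
    have hind : ¬ p ∣ C.index := by
      have := h s hs
      rwa [show (ConjClasses.mk s).carrier.ncard = C.index from ?_] at this
      rw [← ConjAct.orbit_eq_carrier_conjClasses, ← Nat.card_coe_set_eq,
        Nat.card_congr (MulAction.orbitEquivQuotientStabilizer (ConjAct G) s)]
      show (MulAction.stabilizer (ConjAct G) s).index = _
      rw [ConjAct.stabilizer_eq_centralizer]
      rfl
    have hcard : Nat.card ((R : Subgroup C).map C.subtype) = p ^ (Nat.card G).factorization p := by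
      rw [Nat.card_congr ((R : Subgroup C).equivMapOfInjective _ C.subtype_injective).symm.toEquiv,
        Sylow.card_eq_multiplicity]
      congr 1
      rw [← C.card_mul_index, Nat.factorization_mul Nat.card_pos.ne' Subgroup.index_ne_zero_of_finite,
        Finsupp.add_apply, Nat.factorization_eq_zero_of_not_dvd hind, add_zero]
    obtain ⟨g, hg⟩ := MulAction.exists_smul_eq G P (Sylow.ofCard _ hcard)
    have hmem : ∀ z, z ∈ (R : Subgroup C).map C.subtype ↔ g⁻¹ * z * g ∈ (P : Subgroup G) := by
      intro z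
      rw [← Sylow.coe_ofCard _ hcard, ← hg, Sylow.coe_subgroup_smul,
        Subgroup.mem_pointwise_smul_iff_inv_smul_mem]
      simp [MulAut.smul_def]
    refine ⟨g, ?_⟩
    rw [← hmul, show g⁻¹ * (u * s) * g = (g⁻¹ * u * g) * (g⁻¹ * s * g) by group]
    refine mul_mem (hPK ((hmem u).mp ⟨⟨u, huC⟩, hR (Subgroup.mem_zpowers _), rfl⟩))
      (le_sup_right (a := (P : Subgroup G)) ?_)
    rw [Subgroup.mem_centralizer_iff]
    intro z hz
    have hzR : g * z * g⁻¹ ∈ (R : Subgroup C).map C.subtype :=
      (hmem _).mpr (by rw [show g⁻¹ * (g * z * g⁻¹) * g = z by group]; exact hz)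
    have h2 : g * z * g⁻¹ * s = s * (g * z * g⁻¹) :=
      Subgroup.mem_centralizer_singleton_iff.mp (Subgroup.map_subtype_le _ hzR)
    calc z * (g⁻¹ * s * g) = g⁻¹ * (g * z * g⁻¹ * s) * g := by group
      _ = g⁻¹ * (s * (g * z * g⁻¹)) * g := by rw [h2]
      _ = g⁻¹ * s * g * z := by group
  have hPn : (P : Subgroup G).Normal := by
    rw [← Subgroup.normalizer_eq_top_iff, eq_top_iff, ← htop]; exact hnormK
  refine ⟨hPn, ?_⟩
  obtain ⟨H, hH⟩ := Subgroup.exists_right_complement'_of_coprime (N := (P : Subgroup G))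
    P.card_coprime_index
  have hHp : ¬ p ∣ Nat.card H := by
    intro hd
    rw [← hH.symm.index_eq_card] at hd
    exact P.not_dvd_index hd
  have hcomm : ∀ x ∈ H, ∀ z ∈ (P : Subgroup G), x * z = z * x := by
    intro x hx z hz
    have hx' : x ∈ K := htop ▸ Subgroup.mem_top x
    rw [hK, ← SetLike.mem_coe, Subgroup.normal_mul] at hx'
    obtain ⟨u, hu, c, hc, rfl⟩ := Set.mem_mul.mp hx'
    have hcz : ∀ w ∈ (P : Subgroup G), c * w = w * c := fun w hw =>
      ((Subgroup.mem_centralizer_iff.mp hc) w hw).symm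
    -- the `p'`-part of the order
    set m := orderOf (u * c)
    have hm : Commute (u ^ m) z := by
      have hcu : Commute u c := (hcz u hu).symm
      have h1 : u ^ m * c ^ m = 1 := by rw [← hcu.mul_pow, pow_orderOf_eq_one]
      have h2 : Commute (c ^ m) z := Commute.pow_left (hcz z hz) m
      rw [eq_inv_of_mul_eq_one_left h1]
      exact h2.inv_left
    obtain ⟨k, hk⟩ := P.isPGroup' ⟨u, hu⟩
    have hk' : u ^ p ^ k = 1 := by simpa using congrArg Subtype.val hk
    have hco : m.Coprime (p ^ k) := by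
      refine Nat.Coprime.pow_right k ((hp.coprime_iff_not_dvd.mpr fun hd => hHp (hd.trans ?_)).symm)
      have := orderOf_dvd_natCard (⟨u * c, hx⟩ : H)
      rwa [Subgroup.orderOf_mk] at this
    have hgcd : Commute u z := by
      have : u = u ^ ((m : ℤ) * Nat.gcdA m (p ^ k) + ((p ^ k : ℕ) : ℤ) * Nat.gcdB m (p ^ k)) := by
        rw [← Nat.gcd_eq_gcd_ab, hco.gcd_eq_one]; simp
      rw [this, zpow_add, zpow_mul, zpow_mul, zpow_natCast, zpow_natCast, hk', one_zpow, mul_one]
      exact hm.zpow_left _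
    exact (hgcd.mul_left (hcz z hz)).eq
  refine ⟨H, ⟨fun x hx g => ?_⟩, hHp, disjoint_iff.mp hH.disjoint, hH.sup_eq_top⟩
  have hg : g ∈ (P : Subgroup G) ⊔ H := by rw [hH.sup_eq_top]; trivial
  rw [← SetLike.mem_coe, Subgroup.normal_mul] at hg
  obtain ⟨u, hu, k, hk, rfl⟩ := Set.mem_mul.mp hg
  have hkx : k * x * k⁻¹ ∈ H := H.mul_mem (H.mul_mem hk hx) (H.inv_mem hk)
  have := hcomm _ hkx u hu
  have e : u * k * x * (u * k)⁻¹ = u * (k * x * k⁻¹) * u⁻¹ := by group
  rw [e, ← this, mul_inv_cancel_right]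
  exact hkx

end Cfsg.Agent.S4035
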