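import Mathlib
import Cfsg.Statements.S4479
import Cfsg.Agent.Lib.InvChar.KleinBlock

set_option autoImplicit false
open Cfsg

namespace Cfsg.Agent.S4479

/-- An order formula from the principal 2-block. Let G be a finite group of order 4·g₀ with g₀ odd having no normal 2-complement (no normal subgroup of order g₀); let P be a Sylow 2-subgroup, J an involution of P, and fix a maximal ideal M of the algebraic integers containing 2. Suppose the principal 2-block consists of the principal character and three further distinct characters χ₁, χ₂, χ₃ of degrees x₁, x₂, x₃, with χ_i(J) = ε_i = ±1. Then, writing c(J) and c(P) for the orders of the centralizers of J and of P, the order of G equals 8·α·c(J)³/c(P)² with α = x₁x₂x₃ / ((x₁ + ε₁)(x₂ + ε₂)(x₃ + ε₃)). -/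
theorem result {G : Type*} [Group G] [Finite G] (M : Ideal Cfsg.AlgInt) (hM : Cfsg.IsPModular 2 M) (g₀ : ℕ) (hg₀ : Odd g₀) (hG : Nat.card G = 4 * g₀) (hnc : ¬ ∃ N : Subgroup G, N.Normal ∧ Nat.card N = g₀) (P : Sylow 2 G) (J : G) (hJ : J ∈ (P : Subgroup G)) (hJ2 : orderOf J = 2) (χ₁ χ₂ χ₃ : Cfsg.IrrCharacter G) (ε₁ ε₂ ε₃ : ℤ) (hB : Cfsg.principalBlock M G = {χ : Cfsg.IrrCharacter G | (χ : G → ℂ) = (fun _ => 1) ∨ χ = χ₁ ∨ χ = χ₂ ∨ χ = χ₃}) (hdist : (χ₁ : G → ℂ) ≠ (fun _ => 1) ∧ (χ₂ : G → ℂ) ≠ (fun _ => 1) ∧ (χ₃ : G → ℂ) ≠ (fun _ => 1) ∧ χ₁ ≠ χ₂ ∧ χ₁ ≠ χ₃ ∧ χ₂ ≠ χ₃) (hε : (ε₁ = 1 ∨ ε₁ = -1) ∧ (ε₂ = 1 ∨ ε₂ = -1) ∧ (ε₃ = 1 ∨ ε₃ = -1)) (hval : (χ₁ : G → ℂ) J = ε₁ ∧ (χ₂ : G → ℂ) J = ε₂ ∧ (χ₃ : G → ℂ) J = ε₃) : (Nat.card G : ℚ) = 8 * (((Cfsg.charDegree (χ₁ : G → ℂ) : ℚ) * Cfsg.charDegree (χ₂ : G → ℂ) * Cfsg.charDegree (χ₃ : G → ℂ)) / ((Cfsg.charDegree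 (χ₁ : G → ℂ) + ε₁) * (Cfsg.charDegree (χ₂ : G → ℂ) + ε₂) * (Cfsg.charDegree (χ₃ : G → ℂ) + ε₃))) * (Nat.card (Subgroup.centralizer ({J} : Set G)) : ℚ) ^ 3 / (Nat.card (Subgroup.centralizer ((P : Subgroup G) : Set G)) : ℚ) ^ 2 := by
  classical
  haveI := Fintype.ofFinite G
  obtain ⟨hd1, hd2, hd3, h12, h13, h23⟩ := hdist
  obtain ⟨he1, he2, he3⟩ := hε
  obtain ⟨hv1, hv2, hv3⟩ := hval
  have base := Cfsg.Agent.Lib.InvChar.kleinBase_of_no_complement g₀ hg₀ hG hnc P hJ hJ2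
  obtain ⟨x₁, c₁, hx01, hx1, hc1, h41⟩ := base.exists_value χ₁.2
  obtain ⟨x₂, c₂, hx02, hx2, hc2, h42⟩ := base.exists_value χ₂.2
  obtain ⟨x₃, c₃, hx03, hx3, hc3, h43⟩ := base.exists_value χ₃.2
  obtain rfl : c₁ = ε₁ := by exact_mod_cast hc1.symm.trans hv1
  obtain rfl : c₂ = ε₂ := by exact_mod_cast hc2.symm.trans hv2
  obtain rfl : c₃ = ε₃ := by exact_mod_cast hc3.symm.trans hv3
  have hdeg : ∀ (χ : Cfsg.IrrCharacter G) (x : ℕ), (χ : G → ℂ) 1 = x →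
      Cfsg.charDegree (χ : G → ℂ) = x := fun χ x hx => by simp [Cfsg.charDegree, hx]
  simp only [hdeg _ _ hx1, hdeg _ _ hx2, hdeg _ _ hx3]
  obtain ⟨hsum, hord⟩ :=
    base.order_formula M hM hB hd1 hd2 hd3 h12 h13 h23 he1 he2 he3 hv1 hv2 hv3 x₁ x₂ x₃ hx1 hx2 hx3
  set C := Nat.card (Subgroup.centralizer ({J} : Set G)) with hC
  set Q := Nat.card (Subgroup.centralizer ((P : Subgroup G) : Set G)) with hQ
  have hQ0 : (Q : ℚ) ≠ 0 := Nat.cast_ne_zero.2 Nat.card_pos.ne'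
  have n1 : (x₁ : ℤ) + c₁ ≠ 0 := by rcases he1 with rfl | rfl <;> omega
  have n2 : (x₂ : ℤ) + c₂ ≠ 0 := by rcases he2 with rfl | rfl <;> omega
  have n3 : (x₃ : ℤ) + c₃ ≠ 0 := by rcases he3 with rfl | rfl <;> omega
  have m1 : (x₁ : ℚ) + (c₁ : ℚ) ≠ 0 := by exact_mod_cast n1
  have m2 : (x₂ : ℚ) + (c₂ : ℚ) ≠ 0 := by exact_mod_cast n2
  have m3 : (x₃ : ℚ) + (c₃ : ℚ) ≠ 0 := by exact_mod_cast n3
  have p1 : (x₁ : ℚ) ≠ 0 := Nat.cast_ne_zero.2 hx01.ne'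
  have p2 : (x₂ : ℚ) ≠ 0 := Nat.cast_ne_zero.2 hx02.ne'
  have p3 : (x₃ : ℚ) ≠ 0 := Nat.cast_ne_zero.2 hx03.ne'
  have hs : (1 : ℚ) + c₁ * x₁ + c₂ * x₂ + c₃ * x₃ = 0 := by exact_mod_cast hsum
  have key : ((x₁ : ℚ) + c₁) * (x₂ + c₂) * (x₃ + c₃)
      = (x₁ : ℚ) * x₂ * x₃ * (1 + (c₁ : ℚ) / x₁ + (c₂ : ℚ) / x₂ + (c₃ : ℚ) / x₃) := by
    field_simp
    rcases he1 with rfl | rfl <;> rcases he2 with rfl | rfl <;> rcases he3 with rfl | rfl <;>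
      push_cast at hs ⊢ <;>
      first | linear_combination hs | linear_combination -hs
  rw [eq_div_iff (pow_ne_zero 2 hQ0), mul_div_assoc', div_mul_eq_mul_div, eq_div_iff (mul_ne_zero (mul_ne_zero m1 m2) m3), key]
  linear_combination (x₁ : ℚ) * x₂ * x₃ * hord

end Cfsg.Agent.S4479
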