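import Cfsg.Statements.S4209
import Cfsg.Agent.Lib.PGroups.Polynomial
import Cfsg.Agent.Lib.PGroups.Commutator

set_option autoImplicit false
open Cfsg

namespace Cfsg.Agent.S4209

theorem choose_dvd {p n j : ℕ} (hp : p.Prime) (hj : 0 < j) (hjp : j < p) :
    p ^ n ∣ (p ^ n).choose j := by
  rcases Nat.eq_zero_or_pos n with rfl | hn
  · simp
  obtain ⟨i, rfl⟩ := Nat.exists_eq_succ_of_ne_zero hj.ne'
  obtain ⟨m, hm⟩ := Nat.exists_eq_succ_of_ne_zero (pow_pos hp.pos n).ne'
  have h := Nat.add_one_mul_choose_eq m i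
  rw [show m + 1 = p ^ n from hm.symm] at h
  refine (Nat.Coprime.pow_left n ?_).dvd_of_dvd_mul_right ⟨_, h.symm⟩
  rw [hp.coprime_iff_not_dvd]
  exact fun hd => absurd (Nat.le_of_dvd hj hd) (by omega)

open Cfsg.Agent.Lib.PGroups in
theorem lcs_filtration {H : Type*} [Group H] (N : ℕ)
    (hN : (⊤ : Subgroup H).lowerCentralSeries (N - 1) = ⊥) :
    IsFiltration (fun i => (⊤ : Subgroup H).lowerCentralSeries (i - 1)) N := by
  have hA := Subgroup.lowerCentralSeries_antitone (S := (⊤ : Subgroup H))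
  have key : ∀ j i, ⁅(⊤ : Subgroup H).lowerCentralSeries i, (⊤ : Subgroup H).lowerCentralSeries j⁆ ≤
      (⊤ : Subgroup H).lowerCentralSeries (i + j + 1) := by
    intro j
    induction j with
    | zero => intro i; exact le_of_eq rfl
    | succ j ih =>
      intro i
      rw [Subgroup.lowerCentralSeries_succ (n := j), Subgroup.commutator_comm]
      apply three_subgroup_normal
      · rw [Subgroup.commutator_comm ⊤ ((⊤ : Subgroup H).lowerCentralSeries i)]
        refine le_trans (Subgroup.commutator_mono (le_of_eq rfl : _ ≤ (⊤ : Subgroup H).lowerCentralSeries (i + 1)) le_rfl) ?_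
        exact (ih (i + 1)).trans (le_of_eq (by congr 1; omega))
      · refine le_trans (Subgroup.commutator_mono (ih i) le_rfl) ?_
        exact le_of_eq (by rw [← Subgroup.lowerCentralSeries_succ]; congr 1)
  refine ⟨fun i => hA (by omega), fun i j => ?_, fun i hi => ?_⟩
  · exact (key (j - 1) (i - 1)).trans (hA (by omega))
  · exact le_bot_iff.mp (hN ▸ hA (show N - 1 ≤ i - 1 by omega))

/-- A finite `p`-group of nilpotency class less than `p` (the term of index `p - 1` of the lower central series of the whole group, indexed from `0`, is trivial) is a regular `p`-group. -/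
theorem result {G : Type*} [Group G] [Finite G] {p : ℕ} [Fact p.Prime] (hG : IsPGroup p G) (hcl : (⊤ : Subgroup G).lowerCentralSeries (p - 1) = ⊥) : Cfsg.IsRegularPGroup p G := by
  refine ⟨hG, fun a b n => ?_⟩
  set H := Subgroup.closure ({a, b} : Set G) with hH
  have ha : a ∈ H := Subgroup.subset_closure (by simp)
  have hb : b ∈ H := Subgroup.subset_closure (by simp)
  have hp : p.Prime := Fact.out
  have hbot : (⊤ : Subgroup H).lowerCentralSeries (p - 1) = ⊥ := by
    apply Subgroup.map_injective H.subtype_injective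
    rw [Subgroup.top_subtype_lowerCentralSeries, Subgroup.map_bot, eq_bot_iff, ← hcl]
    clear hcl
    generalize p - 1 = m
    induction m with
    | zero => exact le_top
    | succ m ih => exact Subgroup.commutator_mono ih le_top
  open Cfsg.Agent.Lib.PGroups in
  have hF := lcs_filtration p hbot
  let F : ℕ → Subgroup H := fun i => (⊤ : Subgroup H).lowerCentralSeries (i - 1)
  have hgeo : ∀ x : H, Cfsg.Agent.Lib.PGroups.IsPolySeq F 0 (fun m => x ^ m) := by
    intro x
    have h1 := Cfsg.Agent.Lib.PGroups.isPolySeq_choose (F := F) hF (k := 1) (x := x)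
      (Subgroup.mem_top x) 1 le_rfl
    simpa using h1
  let A : H := ⟨a, ha⟩
  let B : H := ⟨b, hb⟩
  have hg : Cfsg.Agent.Lib.PGroups.IsPolySeq F 0 (fun m => B⁻¹ ^ m * A⁻¹ ^ m * (A * B) ^ m) :=
    ((hgeo B⁻¹).mul hF (hgeo A⁻¹)).mul hF (hgeo (A * B))
  let T : Subgroup H := Subgroup.closure {y | ∃ x ∈ (⊤ : Subgroup H).lowerCentralSeries 1, y = x ^ p ^ n}
  have hT := hg.apply_mem hF (k := 2) (fun j hj => by
    interval_cases j
    · simp
    · simp [mul_assoc]) (p ^ n) T (fun j hj hjp x hx => by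
    obtain ⟨c, hc⟩ := choose_dvd (n := n) hp (show 0 < j by omega) hjp
    rw [hc, pow_mul]
    exact pow_mem (Subgroup.subset_closure (show x ^ p ^ n ∈ {y | ∃ x ∈ (⊤ : Subgroup H).lowerCentralSeries 1, y = x ^ p ^ n} from
      ⟨x, (⊤ : Subgroup H).lowerCentralSeries_antitone (show 1 ≤ j - 1 by omega) hx, rfl⟩)) c)
  refine ⟨((B⁻¹ ^ (p ^ n) * A⁻¹ ^ (p ^ n) * (A * B) ^ (p ^ n) : H) : G), ?_, ?_⟩
  · have hle : T.map H.subtype ≤ Cfsg.powerClosure p n ⁅H, H⁆ := by
      rw [MonoidHom.map_closure, Cfsg.powerClosure]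
      apply Subgroup.closure_mono
      rintro _ ⟨y, ⟨x, hx, rfl⟩, rfl⟩
      refine ⟨(x : G), ?_, by simp⟩
      have h1 : (x : G) ∈ ((⊤ : Subgroup H).lowerCentralSeries 1).map H.subtype := ⟨x, hx, rfl⟩
      rwa [Subgroup.top_subtype_lowerCentralSeries] at h1
    exact hle ⟨_, hT, rfl⟩
  · simp only [Subgroup.coe_mul, SubmonoidClass.coe_pow, Subgroup.coe_inv, A, B]
    rw [inv_pow, inv_pow]
    group

end Cfsg.Agent.S4209
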