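import Cfsg.Statements.S0638
import Cfsg.Agent.Lib.PLocal.PGroupBasic
import Cfsg.Agent.S0636
import Cfsg.Agent.Lib.PLocal.Thompson

set_option autoImplicit false
open Cfsg

namespace Cfsg.Agent.S0638

set_option linter.style.haveILetI false
open scoped commutatorElement

/-- For odd p, in a non-cyclic metacyclic p-group the elements of order dividing p generate an elementary abelian subgroup of order p². -/
theorem result {R : Type*} [Group R] [Finite R] {p : ℕ} [Fact p.Prime] (hp : p ≠ 2) (hR : IsPGroup p R) (hm : Cfsg.IsMetacyclic R) (hnc : ¬ IsCyclic R) : Cfsg.IsElementaryAbelian p (Cfsg.omegaOne p (⊤ : Subgroup R)) ∧ Nat.card ↥(Cfsg.omegaOne p (⊤ : Subgroup R)) = p ^ 2 := by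
  classical
  have hncS : ¬ IsCyclic (⊤ : Subgroup R) := fun h => hnc (Subgroup.topEquiv.isCyclic.mp h)
  obtain ⟨E, -, hEn, hEel, hEc⟩ := Cfsg.Agent.S0636.result hp hR ⊤ hncS
  haveI := hEn
  have key : ∀ x : R, x ^ p = 1 → x ∈ E := by
    intro x hx
    by_contra hxE
    obtain ⟨N, hNn, hNc, hQc⟩ := hm
    haveI := hNn
    set H := E ⊔ Subgroup.zpowers x with hH
    have hEH : E ≤ H := le_sup_left
    -- `H` has order `p ^ 3`
    have hxp : orderOf x = p := orderOf_eq_prime hx (fun h => hxE (h ▸ one_mem E))
    have hidx : E.relIndex H = p := by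
      rw [hH, sup_comm, Subgroup.relIndex_sup_right]
      have hd : E.relIndex (Subgroup.zpowers x) ∣ p := by
        have h1 := Subgroup.relIndex_dvd_card (H := E) (K := Subgroup.zpowers x)
        rwa [Nat.card_zpowers, hxp] at h1
      rcases (Nat.dvd_prime (Fact.out (p := p.Prime))).mp hd with h | h
      · exact absurd (Subgroup.relIndex_eq_one.mp h (Subgroup.mem_zpowers x)) hxE
      · exact h
    have hHcard : Nat.card H = p ^ 3 := by
      rw [← Subgroup.card_mul_index (E.subgroupOf H),
        Nat.card_congr (Subgroup.subgroupOfEquivOfLe hEH).toEquiv, hEc]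
      show p ^ 2 * E.relIndex H = p ^ 3
      rw [hidx, ← pow_succ]
    -- `H` has class at most two
    have hH2 : ⁅commutator H, (⊤ : Subgroup H)⁆ = ⊥ := by
      rw [Subgroup.commutator_eq_bot_iff_le_centralizer]
      have hHp : IsPGroup p H := hR.to_subgroup H
      haveI : Nontrivial H := Finite.one_lt_card_iff_nontrivial.mp (by
        rw [hHcard]; exact Nat.one_lt_pow (by norm_num) (Fact.out (p := p.Prime)).one_lt)
      have hZnt := hHp.center_nontrivial
      obtain ⟨i, hi, hZi⟩ := (Nat.dvd_prime_pow (Fact.out (p := p.Prime))).mp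
        (hHcard ▸ Subgroup.card_subgroup_dvd_card (Subgroup.center H))
      have hi0 : 1 ≤ i := by
        by_contra h0
        have : Nat.card (Subgroup.center H) = 1 := by rw [hZi, show i = 0 by omega, pow_zero]
        exact (Finite.one_lt_card_iff_nontrivial.mpr hZnt).ne' this
      have hq : ∀ a b : H ⧸ Subgroup.center H, a * b = b * a := by
        have hqc : Nat.card (H ⧸ Subgroup.center H) = p ^ (3 - i) := by
          have h1 := Subgroup.card_mul_index (Subgroup.center H)
          rw [hHcard, hZi, Subgroup.index_eq_card] at h1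
          exact Nat.eq_of_mul_eq_mul_left (pow_pos (Fact.out (p := p.Prime)).pos i)
            (h1.trans (by rw [← pow_add]; congr 1; omega))
        rcases (show 3 - i = 2 ∨ 3 - i = 1 ∨ 3 - i = 0 by omega) with h2 | h2 | h2
        · exact IsPGroup.commutative_of_card_eq_prime_sq (p := p) (hqc.trans (by rw [h2]))
        · haveI : IsCyclic (H ⧸ Subgroup.center H) :=
            isCyclic_of_prime_card (p := p) (hqc.trans (by rw [h2, pow_one]))
          intro a b
          obtain ⟨g, hg⟩ := IsCyclic.exists_generator (α := H ⧸ Subgroup.center H)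
          obtain ⟨j, rfl⟩ := Subgroup.mem_zpowers_iff.mp (hg a)
          obtain ⟨l, rfl⟩ := Subgroup.mem_zpowers_iff.mp (hg b)
          rw [← zpow_add, ← zpow_add, add_comm]
        · haveI : Subsingleton (H ⧸ Subgroup.center H) :=
            (Nat.card_eq_one_iff_unique.mp (hqc.trans (by rw [h2, pow_zero]))).1
          exact fun a b => Subsingleton.elim _ _
      refine le_trans ?_ (Subgroup.center_le_centralizer _)
      rw [commutator_def, Subgroup.commutator_le]
      intro a _ b _
      refine (QuotientGroup.eq_one_iff _).mp ?_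
      rw [show ((⁅a, b⁆ : H) : H ⧸ Subgroup.center H) = QuotientGroup.mk' _ ⁅a, b⁆ from rfl,
        map_commutatorElement]
      exact commutatorElement_eq_one_iff_mul_comm.mpr (hq _ _)
    have hexp : ∀ y ∈ H, y ^ p = 1 := by
      intro y hy
      have hs : Cfsg.Agent.Lib.PLocal.SmallClass p H := Or.inl ⟨hp, hH2⟩
      have htop : (⊤ : Subgroup H) ≤ Subgroup.closure {u : H | u ^ p = 1} := by
        rw [← Subgroup.subgroupOf_self (H := H), hH, Subgroup.subgroupOf_sup le_sup_left le_sup_right]
        refine sup_le ?_ ?_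
        · intro u hu
          exact Subgroup.subset_closure (Subtype.ext (by simpa using hEel.2 _ hu))
        · intro u hu
          rw [Subgroup.mem_subgroupOf] at hu
          obtain ⟨j, hj⟩ := Subgroup.mem_zpowers_iff.mp hu
          refine Subgroup.subset_closure (Subtype.ext ?_)
          show (u : R) ^ p = 1
          rw [← hj, ← zpow_natCast, ← zpow_mul, mul_comm, zpow_mul, zpow_natCast, hx, one_zpow]
      simpa using congrArg Subtype.val
        (Cfsg.Agent.Lib.PLocal.smallClass_closure_pow hs (htop (Subgroup.mem_top ⟨y, hy⟩)))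
    -- but a cyclic group of exponent `p` has order at most `p`
    have hsmall : ∀ {K : Type _} [Group K] [Finite K], IsCyclic K → (∀ k : K, k ^ p = 1) →
        Nat.card K ≤ p := by
      intro K _ _ hK hexpK
      obtain ⟨g, hg⟩ := hK.exists_generator
      rw [← orderOf_eq_card_of_forall_mem_zpowers hg]
      exact Nat.le_of_dvd (Fact.out (p := p.Prime)).pos (orderOf_dvd_of_pow_eq_one (hexpK g))
    have h1 : Nat.card (N.subgroupOf H) ≤ p := by
      refine hsmall ?_ fun k => Subtype.ext (Subtype.ext (by simpa using hexp _ k.1.2))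
      exact isCyclic_of_injective ((H.subtype.comp (N.subgroupOf H).subtype).codRestrict N
        (fun k => k.2)) (fun a b hab => by
          have h0 := Subtype.ext_iff.mp hab
          exact Subtype.ext (Subtype.ext h0))
    have h2 : (N.subgroupOf H).index ≤ p := by
      have hker : N.subgroupOf H = ((QuotientGroup.mk' N).comp H.subtype).ker := by
        ext u; simp [Subgroup.mem_subgroupOf]
      rw [hker, Subgroup.index_ker]
      refine hsmall inferInstance ?_
      rintro ⟨_, u, rfl⟩
      refine Subtype.ext ?_
      show ((QuotientGroup.mk' N) (u : R)) ^ p = 1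
      rw [← map_pow, hexp _ u.2, map_one]
    have h3 := Subgroup.card_mul_index (N.subgroupOf H)
    rw [hHcard] at h3
    have h4 : p ^ 3 ≤ p * p := h3 ▸ Nat.mul_le_mul h1 h2
    rw [← sq] at h4
    exact absurd h4 (not_le.mpr (Nat.pow_lt_pow_right (Fact.out (p := p.Prime)).one_lt (by norm_num)))
  have hΩ : Cfsg.omegaOne p (⊤ : Subgroup R) = E := by
    refine le_antisymm ((Subgroup.closure_le _).mpr fun x hx => key x hx.2) fun e he => ?_
    exact Subgroup.subset_closure ⟨Subgroup.mem_top e, hEel.2 e he⟩
  rw [hΩ]
  exact ⟨hEel, hEc⟩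

end Cfsg.Agent.S0638
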