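import Cfsg.Statements.S4112
import Mathlib.GroupTheory.SchurZassenhaus
import Mathlib.GroupTheory.Sylow
import Cfsg.Agent.Lib.Frobenius.Complement

set_option autoImplicit false
open Cfsg

namespace Cfsg.Agent.S4112

open scoped Pointwise
variable {G : Type*} [Group G] [Finite G] (N M : Subgroup G) [N.Normal] [M.Normal]

theorem exists_mem_center_of_normal {P : Type*} [Group P] [Finite P] {q : ℕ} [Fact q.Prime]
    (hP : IsPGroup q P) (K : Subgroup P) [K.Normal] (hK : K ≠ ⊥) :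
    ∃ w ∈ K, w ∈ Subgroup.center P ∧ w ≠ 1 := by
  haveI : Nontrivial K := (Subgroup.nontrivial_iff_ne_bot K).mpr hK
  obtain ⟨n, hn, hn'⟩ := (hP.to_subgroup K).nontrivial_iff_card.mp ‹_›
  have hP' : IsPGroup q (ConjAct P) := hP
  obtain ⟨w, hw, hw1⟩ := hP'.exists_fixed_point_of_prime_dvd_card_of_fixed_point K (hn' ▸ dvd_pow_self q hn.ne')
    (a := 1) (fun g => smul_one g)
  refine ⟨w, w.2, Subgroup.mem_center_iff.mpr fun g => ?_, fun h => hw1 (Subtype.ext h.symm)⟩
  have h1 := congrArg Subtype.val (hw (ConjAct.toConjAct g))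
  exact mul_inv_eq_iff_eq_mul.mp h1

theorem camina_coprime_of_fpf (hMN : M ≤ N)
    (h : ∀ x ∈ M, x ≠ 1 → Subgroup.centralizer ({x} : Set G) ≤ N) : N.index.Coprime (Nat.card M) := by
  rw [Nat.coprime_iff_gcd_eq_one]
  by_contra hne
  obtain ⟨q, hq, hdvd⟩ := Nat.exists_prime_and_dvd hne
  haveI : Fact q.Prime := ⟨hq⟩
  obtain ⟨z, hz⟩ := exists_prime_orderOf_dvd_card' (G := M) q (hdvd.trans (Nat.gcd_dvd_right _ _))
  have hzp : IsPGroup q (Subgroup.zpowers (z : G)) :=
    IsPGroup.of_card (n := 1) (by rw [Nat.card_zpowers, Subgroup.orderOf_coe, hz, pow_one])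
  obtain ⟨Q, hQ⟩ := hzp.exists_le_sylow
  have hzQ : (z : G) ∈ (Q : Subgroup G) := hQ (Subgroup.mem_zpowers _)
  -- the normal subgroup `Q ⊓ M` of `Q` meets the centre of `Q`
  let K : Subgroup (Q : Subgroup G) := M.subgroupOf Q
  have hK : K ≠ ⊥ := fun h0 => by
    have h1 : (⟨z, hzQ⟩ : (Q : Subgroup G)) ∈ K := z.2
    rw [h0, Subgroup.mem_bot] at h1
    have h2 : orderOf (z : G) = 1 := by rw [show (z : G) = 1 from congrArg Subtype.val h1, orderOf_one]
    rw [Subgroup.orderOf_coe, hz] at h2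
    exact hq.one_lt.ne' h2
  haveI : Nontrivial K := (Subgroup.nontrivial_iff_ne_bot K).mpr hK
  obtain ⟨x, hxK, hxc, hx1⟩ : ∃ x : (Q : Subgroup G), x ∈ K ∧ x ∈ Subgroup.center (Q : Subgroup G) ∧ x ≠ 1 := by
    exact exists_mem_center_of_normal Q.isPGroup' K hK
  have hQN : (Q : Subgroup G) ≤ N := fun w hw =>
    h x hxK (fun he => hx1 (Subtype.ext he)) (Subgroup.mem_centralizer_singleton_iff.mpr
      (congrArg Subtype.val (Subgroup.mem_center_iff.mp hxc ⟨w, hw⟩)))
  exact Q.not_dvd_index ((hdvd.trans (Nat.gcd_dvd_left _ _)).trans (Subgroup.index_dvd_of_le hQN))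

theorem camina_fpf_of_coprime
    (hcam : ∀ g : G, g ∉ N → ∀ m ∈ M, ∃ x : G, x * g * x⁻¹ = g * m)
    (hcop : N.index.Coprime (Nat.card M)) :
    ∀ x ∈ M, x ≠ 1 → Subgroup.centralizer ({x} : Set G) ≤ N := by
  intro x hx hx1 g hg
  by_contra hgN
  -- replace `g` by a power of order coprime to `M` outside `N`
  obtain ⟨q, hq, hqd⟩ := Nat.exists_prime_and_dvd (n := orderOf (QuotientGroup.mk' N g))
    (fun h => hgN ((QuotientGroup.eq_one_iff g).mp (orderOf_eq_one_iff.mp h)))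
  set m := orderOf g / q ^ (orderOf g).factorization q
  have hm : q ^ (orderOf g).factorization q * m = orderOf g := Nat.ordProj_mul_ordCompl_eq_self _ _
  have hqm : ¬ q ∣ m := Nat.not_dvd_ordCompl hq (orderOf_pos g).ne'
  have huN : g ^ m ∉ N := fun h => hqm (hqd.trans (orderOf_dvd_of_pow_eq_one
    (by rw [← map_pow]; exact (QuotientGroup.eq_one_iff _).mpr h)))
  have hu : Commute (g ^ m) x := (Commute.pow_left (Subgroup.mem_centralizer_singleton_iff.mp hg) m)
  have hqM : ¬ q ∣ Nat.card M := fun hd => hq.ne_one (Nat.dvd_one.mp (hcop ▸ Nat.dvd_gcd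
    (hqd.trans ((orderOf_dvd_natCard _).trans (by rw [← Subgroup.index_eq_card]))) hd))
  have hco : (orderOf (g ^ m)).Coprime (orderOf x) := by
    have h1 : orderOf (g ^ m) ∣ q ^ (orderOf g).factorization q := orderOf_dvd_of_pow_eq_one (by
      rw [← pow_mul, mul_comm, hm, pow_orderOf_eq_one])
    refine Nat.Coprime.coprime_dvd_left h1 (Nat.Coprime.pow_left _ ?_)
    exact (hq.coprime_iff_not_dvd.mpr hqM).coprime_dvd_right (Subgroup.orderOf_dvd_natCard M hx)
  obtain ⟨c, hc⟩ := hcam (g ^ m) huN x hx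
  have h2 : orderOf (g ^ m * x) = orderOf (g ^ m) := by
    rw [← hc, ← MulAut.conj_apply, MulEquiv.orderOf_eq]
  rw [hu.orderOf_mul_eq_mul_orderOf_of_coprime hco] at h2
  exact hx1 (orderOf_eq_one_iff.mp ((Nat.mul_eq_left (orderOf_pos _).ne').mp h2))

theorem exists_supplement_inf_eq_bot (hMN : M ≤ N) (hcop : N.index.Coprime (Nat.card M)) :
    ∃ H : Subgroup G, H ⊔ N = ⊤ ∧ H ⊓ M = ⊥ := by
  obtain ⟨H, hH, hmin⟩ := Set.exists_min_image {H : Subgroup G | H ⊔ N = ⊤} (fun H => Nat.card H)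
    (Set.toFinite _) ⟨⊤, top_sup_eq N⟩
  refine ⟨H, hH, Subgroup.eq_bot_of_card_eq _ ?_⟩
  by_contra hne
  obtain ⟨q, hq, hdvd⟩ := Nat.exists_prime_and_dvd hne
  haveI : Fact q.Prime := ⟨hq⟩
  have hqi : ¬ q ∣ N.index := fun hd => hq.ne_one (Nat.dvd_one.mp
    (hcop ▸ Nat.dvd_gcd hd (hdvd.trans (Subgroup.card_dvd_of_le inf_le_right))))
  obtain ⟨Q⟩ : Nonempty (Sylow q H) := inferInstance
  set QG := (Q : Subgroup H).map H.subtype with hQG
  have hQH : QG ≤ H := Subgroup.map_subtype_le _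
  have hQN : QG ≤ N := by
    rintro w ⟨⟨w, hw⟩, hwQ, rfl⟩
    obtain ⟨i, hi⟩ := IsPGroup.iff_orderOf.mp Q.isPGroup' ⟨⟨w, hw⟩, hwQ⟩
    rw [Subgroup.orderOf_mk, Subgroup.orderOf_mk] at hi
    rw [Subgroup.coe_subtype, ← QuotientGroup.eq_one_iff, ← orderOf_eq_one_iff]
    have h1 : orderOf (QuotientGroup.mk w : G ⧸ N) ∣ q ^ i := hi ▸ orderOf_map_dvd (QuotientGroup.mk' N) w
    have h2 : orderOf (QuotientGroup.mk w : G ⧸ N) ∣ N.index := by
      rw [Subgroup.index_eq_card]; exact orderOf_dvd_natCard _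
    exact Nat.eq_one_of_dvd_coprimes ((hq.coprime_iff_not_dvd.mpr hqi).pow_left i) h1 h2
  -- Frattini argument: `Q` is normal in `H`
  have hfr : (Subgroup.normalizer ((Q : Subgroup H) : Set H)).map H.subtype ⊔ N = ⊤ := by
    haveI : (N.subgroupOf H).Normal := Subgroup.normal_subgroupOf
    have h1 := Sylow.normalizer_sup_eq_top' Q (N := N.subgroupOf H)
      (fun w hw => hQN (Subgroup.mem_map_of_mem _ hw))
    rw [eq_top_iff, ← hH, sup_le_iff]
    refine ⟨fun w hw => ?_, le_sup_right⟩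
    obtain ⟨a, ha, b, hb, hab⟩ := Subgroup.mem_sup_of_normal_right.mp
      (h1 ▸ Subgroup.mem_top (⟨w, hw⟩ : H))
    rw [show w = (a : G) * b from (congrArg Subtype.val hab).symm]
    exact mul_mem (Subgroup.mem_sup_left (Subgroup.mem_map_of_mem _ ha)) (Subgroup.mem_sup_right hb)
  have hnorm : (Q : Subgroup H).Normal := by
    rw [← Subgroup.normalizer_eq_top_iff]
    refine Subgroup.eq_top_of_card_eq _ (le_antisymm (Subgroup.card_le_card_group _) ?_)
    have h2 := hmin _ hfr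
    rw [Subgroup.card_subtype] at h2
    exact h2
  obtain ⟨K, hK⟩ := Subgroup.exists_right_complement'_of_coprime Q.card_coprime_index
  have hsup : K.map H.subtype ⊔ N = ⊤ := by
    rw [eq_top_iff, ← hH, sup_le_iff]
    refine ⟨?_, le_sup_right⟩
    have h3 := congrArg (Subgroup.map H.subtype) hK.sup_eq_top
    rw [Subgroup.map_sup, ← MonoidHom.range_eq_map, Subgroup.range_subtype] at h3
    refine h3.symm.le.trans ?_
    rw [sup_le_iff]
    exact ⟨hQN.trans le_sup_right, le_sup_left⟩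
  have h4 := hmin _ hsup
  rw [Subgroup.card_subtype] at h4
  have h5 := hK.card_mul
  have h6 : q ∣ Nat.card H := hdvd.trans (Subgroup.card_dvd_of_le inf_le_left)
  have h7 : q ≤ Nat.card (Q : Subgroup H) := Nat.le_of_dvd Nat.card_pos (Q.dvd_card_of_dvd_card h6)
  have h8 : 0 < Nat.card K := Nat.card_pos
  have := hq.two_le
  nlinarith

/-- Let G be a finite group and M ≤ N non-trivial proper normal subgroups such that for every g outside N the conjugacy class of g is a union of cosets of M (equivalently gm is conjugate to g for every m ∈ M). Then (1) and (2) below are equivalent, and they imply (3): (1) every g outside N acts fixed-point-freely on M, that is C_G(x) ≤ N for every x ∈ M, x ≠ 1; (2) the index of N in G is coprime to the order of M; (3) there is a subgroup H of G with HN = G and H ∩ M = 1. -/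
theorem result {G : Type*} [Group G] [Finite G] (N M : Subgroup G) [N.Normal] [M.Normal] (hMN : M ≤ N) (hM1 : M ≠ ⊥) (hN2 : N ≠ ⊤)
    (hcam : ∀ g : G, g ∉ N → ∀ m ∈ M, ∃ x : G, x * g * x⁻¹ = g * m) :
    ((∀ x ∈ M, x ≠ 1 → Subgroup.centralizer ({x} : Set G) ≤ N) ↔ N.index.Coprime (Nat.card M)) ∧
    ((∀ x ∈ M, x ≠ 1 → Subgroup.centralizer ({x} : Set G) ≤ N) → ∃ H : Subgroup G, H ⊔ N = ⊤ ∧ H ⊓ M = ⊥) := by
  refine ⟨⟨camina_coprime_of_fpf N M hMN, camina_fpf_of_coprime N M hcam⟩, fun h => ?_⟩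
  exact exists_supplement_inf_eq_bot N M hMN (camina_coprime_of_fpf N M hMN h)

end Cfsg.Agent.S4112
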