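import Cfsg.Statements.S0801
import Cfsg.Agent.Lib.Geometry.Dickson.Nine
-- import your own Cfsg.Agent.* helpers here

set_option autoImplicit false
open Cfsg
open Cfsg.Agent.Lib.Geometry.Dickson

namespace Cfsg.Agent.S0801

/-- Let F be a finite field of odd characteristic and λ ≠ 0 an element generating F as a field. Then the lower and upper unitriangular matrices with off-diagonal entries 1 and λ generate SL_2(F), unless |F| = 9 and λ² = −1, in which case they generate a subgroup of order 120. -/
theorem result {F : Type*} [Field F] [Fintype F] (h2 : (2 : F) ≠ 0) (lam : F) (hlam : lam ≠ 0) (hgen : Subfield.closure ({lam} : Set F) = ⊤) : (Subgroup.closure {g : Matrix.SpecialLinearGroup (Fin 2) F | (g : Matrix (Fin 2) (Fin 2) F) = !![1, 0; 1, 1] ∨ (g : Matrix (Fin 2) (Fin 2) F) = !![1, lam; 0, 1]} = ⊤ ∧ ¬ (Fintype.card F = 9 ∧ lam ^ 2 = -1)) ∨ (Fintype.card F = 9 ∧ lam ^ 2 = -1 ∧ Nat.card ↥(Subgroup.closure {g : Matrix.SpecialLinearGroup (Fin 2) F | (g : Matrix (Fin 2) (Fin 2) F) = !![1, 0; 1, 1] ∨ (g : Matrix (Fin 2) (Fin 2) F) = !![1,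 lam; 0, 1]}) = 120) := by
  classical
  obtain ⟨p, hp⟩ := CharP.exists F
  haveI : Fact p.Prime := ⟨CharP.char_is_prime F p⟩
  have hp2 : p ≠ 2 := by
    rintro rfl
    exact h2 (by exact_mod_cast CharP.cast_eq_zero F 2)
  set H := Subgroup.closure {g : Matrix.SpecialLinearGroup (Fin 2) F | (g : Matrix (Fin 2) (Fin 2) F) = !![1, 0; 1, 1] ∨
    (g : Matrix (Fin 2) (Fin 2) F) = !![1, lam; 0, 1]} with hH
  have hset : H = Subgroup.closure ({lower 1, upper lam} : Set (Matrix.SpecialLinearGroup (Fin 2) F)) := by
    rw [hH]
    congr 1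
    ext g
    simp only [Set.mem_setOf_eq, Set.mem_insert_iff, Set.mem_singleton_iff]
    exact or_congr ⟨fun h => Subtype.ext h, fun h => congrArg Subtype.val h⟩
      ⟨fun h => Subtype.ext h, fun h => congrArg Subtype.val h⟩
  have hlo : lower 1 ∈ H := Subgroup.subset_closure (Or.inl rfl)
  have hup : upper lam ∈ H := Subgroup.subset_closure (Or.inr rfl)
  let G := H ⊔ Subgroup.center (Matrix.SpecialLinearGroup (Fin 2) F)
  have hnine : Fintype.card F = 9 → lam ^ 2 = -1 → Nat.card H = 120 := by
    intro hc hl
    haveI : CharP F 3 := by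
      obtain ⟨n, -, hn⟩ := FiniteField.card F p
      have h39 : p ∣ 3 ^ 2 := by
        rw [show (3 : ℕ) ^ 2 = Fintype.card F by rw [hc]; norm_num, hn]; exact dvd_pow_self p n.ne_zero
      have : p = 3 := (Nat.prime_dvd_prime_iff_eq Fact.out Nat.prime_three).mp ((Fact.out : p.Prime).dvd_of_dvd_pow h39)
      exact this ▸ hp
    rw [hset]
    exact card_closure_nine lam (by rw [← hl, sq])
  rcases shape_two_transvections G p hp2 le_sup_right hlam ((le_sup_left : H ≤ G) hup) ((le_sup_left : H ≤ G) hlo) with
    ⟨r, hr, hn⟩ | ⟨hp3, hcard, hcells⟩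
  · left
    obtain ⟨K, -, hlK, hu, hl, -⟩ := subfield_normal G p le_sup_right hlam ((le_sup_left : H ≤ G) hup)
      ((le_sup_left : H ≤ G) hlo) hr hn
    have hK : ∀ x : F, x ∈ K := fun x => by
      have h : Subfield.closure ({lam} : Set F) ≤ K := Subfield.closure_le.mpr (by simpa using hlK)
      rw [hgen] at h
      exact h (Subfield.mem_top x)
    have hoddp : Odd p := (Fact.out : p.Prime).odd_of_ne_two hp2
    have hsign : ∀ g : Matrix.SpecialLinearGroup (Fin 2) F, g ^ p = 1 → g ∈ G → g ∈ H := by
      intro g hgp hg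
      obtain ⟨a, ha, z, hz, rfl⟩ := Subgroup.mem_sup_of_normal_right.mp hg
      rcases Cfsg.Agent.Lib.SL2Trace.mem_center_iff.mp hz with rfl | rfl
      · rwa [mul_one]
      · rw [mul_neg, mul_one] at hgp ⊢
        have : a ^ p = -1 := by rw [hoddp.neg_pow] at hgp; rw [← neg_neg (a ^ p), hgp]
        have hneg : (-1 : Matrix.SpecialLinearGroup (Fin 2) F) ∈ H := this ▸ H.pow_mem ha p
        have h := H.mul_mem hneg ha
        rwa [neg_one_mul] at h
    have hpow : ∀ x : F, ∀ n : ℕ, upper x ^ n = upper ((n : F) * x) ∧ lower x ^ n = lower ((n : F) * x) := by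
      intro x n
      induction n with
      | zero => simp [upper_zero, lower_zero]
      | succ n ih =>
        rw [pow_succ, pow_succ, ih.1, ih.2, upper_mul, lower_mul]
        constructor <;> congr 1 <;> push_cast <;> ring
    have hall : ∀ x : F, upper x ∈ H ∧ lower x ∈ H := fun x =>
      ⟨hsign _ (by rw [(hpow x p).1, CharP.cast_eq_zero, zero_mul, upper_zero]) ((hu x).mpr (hK x)),
        hsign _ (by rw [(hpow x p).2, CharP.cast_eq_zero, zero_mul, lower_zero]) ((hl x).mpr (hK x))⟩
    refine ⟨eq_top_of_upper_lower (fun x => (hall x).1) (fun x => (hall x).2), fun ⟨hc, hl9⟩ => ?_⟩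
    let f : Multiplicative F →* H := MonoidHom.mk' (fun x => ⟨upper x.toAdd, (hall _).1⟩)
      (fun x y => Subtype.ext (upper_mul _ _).symm)
    have hf : Function.Injective f := fun x y h => by
      have := congrArg (fun e : H => ((e : Matrix.SpecialLinearGroup (Fin 2) F) : Matrix (Fin 2) (Fin 2) F) 0 1) h
      exact this
    have h := Subgroup.card_dvd_of_injective f hf
    rw [hnine hc hl9, Nat.card_congr Multiplicative.toAdd, Nat.card_eq_fintype_card, hc] at h
    omega
  · right
    subst hp3
    have h3 : (3 : F) = 0 := by exact_mod_cast CharP.cast_eq_zero F 3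
    have hpoly : ∀ μ : F, upper μ ∈ G → 2 + μ = 0 ∨ (2 + μ) ^ 2 = 1 ∨ (μ - 1) ^ 4 = -1 := by
      intro μ hμ
      set w := upper μ * lower 1 with hw
      have hwG : w ∈ G := G.mul_mem hμ ((le_sup_left : H ≤ G) hlo)
      have hwe : (w : Matrix (Fin 2) (Fin 2) F) = !![1 + μ, μ; 1, 1] := by
        show (upper μ : Matrix (Fin 2) (Fin 2) F) * (lower (1 : F) : Matrix (Fin 2) (Fin 2) F) = _
        rw [coe_upper, coe_lower]
        ext i j; fin_cases i <;> fin_cases j <;> simp [Matrix.mul_apply, Fin.sum_univ_two]
      have hwZ : w ∉ Subgroup.center (Matrix.SpecialLinearGroup (Fin 2) F) := fun h => by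
        rcases Cfsg.Agent.Lib.SL2Trace.mem_center_iff.mp h with h | h <;>
        · have := congrArg (fun g : Matrix.SpecialLinearGroup (Fin 2) F => (g : Matrix (Fin 2) (Fin 2) F) 1 0) h
          simp [hwe] at this
      obtain ⟨a, ha, hca⟩ := hcells w hwG hwZ
      have hm := card_map_toPSL G le_sup_right (cell G w) (center_le_cell G le_sup_right w) inf_le_right
      rw [hca] at hm
      have hpw : Cfsg.Agent.Lib.SL2Trace.toPSL w ^ a = 1 := by
        have h := pow_card_eq_one' (x := (⟨Cfsg.Agent.Lib.SL2Trace.toPSL w, w, mem_cell_self G hwG, rfl⟩ :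
          (cell G w).map (Cfsg.Agent.Lib.SL2Trace.toPSL : Matrix.SpecialLinearGroup (Fin 2) F →* _)))
        rw [← Nat.eq_of_mul_eq_mul_left Nat.card_pos hm] at h
        exact congrArg Subtype.val h
      rw [← map_pow, Cfsg.Agent.Lib.SL2Trace.toPSL_eq_one] at hpw
      have h10 : ((w : Matrix (Fin 2) (Fin 2) F) ^ a) 1 0 = 0 := by
        rw [← Matrix.SpecialLinearGroup.coe_pow]
        rcases hpw with h | h <;> simp [h]
      rw [hwe] at h10
      simp only [Finset.mem_insert, Finset.mem_singleton] at ha
      rcases ha with rfl | rfl | rfl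
      · left
        simp [pow_succ, Matrix.mul_apply, Fin.sum_univ_two] at h10
        linear_combination h10
      · right; left
        simp [pow_succ, Matrix.mul_apply, Fin.sum_univ_two] at h10
        linear_combination h10
      · right; right
        simp [pow_succ, Matrix.mul_apply, Fin.sum_univ_two] at h10
        linear_combination h10 + (2 + 5 * μ + 2 * μ ^ 2) * 0 - (μ ^ 3 * 4 + 5 * μ ^ 2 + 8 * μ + 1) * h3 * 0 + (-4 * μ ^ 3 - 5 * μ ^ 2 - 8 * μ - 1) * h3
    have hl1 : lam ^ 2 = 1 ∨ lam ^ 2 = -1 := by
      have hlG : upper lam ∈ G := (le_sup_left : H ≤ G) hup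
      have hnG : upper (-lam) ∈ G := by rw [← upper_inv]; exact G.inv_mem hlG
      rcases hpoly lam hlG with h | h | h
      · left; linear_combination (lam - 2) * h + h3
      · rcases mul_eq_zero.mp (show ((2 + lam) - 1) * ((2 + lam) + 1) = 0 by linear_combination h) with h' | h'
        · left; linear_combination (lam - 1) * h'
        · exact absurd (show lam = 0 by linear_combination h' - h3) hlam
      rcases hpoly (-lam) hnG with h' | h' | h'
      · left; linear_combination (-lam - 2) * h' + h3
      · rcases mul_eq_zero.mp (show ((2 + -lam) - 1) * ((2 + -lam) + 1) = 0 by linear_combination h') with h'' | h''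
        · left; linear_combination (-lam - 1) * h''
        · exact absurd (show lam = 0 by linear_combination -h'' + h3) hlam
      · right
        have h8 : lam * (lam ^ 2 + 1) = 0 := by
          linear_combination h - h' + (3 * lam ^ 3 + 3 * lam) * h3
        linear_combination (mul_eq_zero.mp h8).resolve_left hlam
    let φ : ZMod 3 →+* F := ZMod.castHom (dvd_refl 3) F
    rcases hl1 with hl1 | hl1
    · exfalso
      have hlb : lam ∈ φ.fieldRange := by
        rcases sq_eq_one_iff.mp hl1 with rfl | rfl
        · exact one_mem _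
        · exact neg_mem (one_mem _)
      have hsurj : Function.Surjective φ := fun x => by
        have h : Subfield.closure ({lam} : Set F) ≤ φ.fieldRange := Subfield.closure_le.mpr (by simpa using hlb)
        rw [hgen] at h
        exact RingHom.mem_fieldRange.mp (h (Subfield.mem_top x))
      have hF : Fintype.card F = 3 := by
        rw [← Fintype.card_congr (Equiv.ofBijective φ ⟨φ.injective, hsurj⟩), ZMod.card]
      have h1 : Nat.card G ≤ Nat.card (Matrix (Fin 2) (Fin 2) F) :=
        Nat.card_le_card_of_injective (fun g : G => ((g : Matrix.SpecialLinearGroup (Fin 2) F) : Matrix (Fin 2) (Fin 2) F))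
          fun a b h => Subtype.ext (Subtype.ext h)
      rw [hcard, show Nat.card (Matrix (Fin 2) (Fin 2) F) = Nat.card (Fin 2 → Fin 2 → F) from rfl,
        Nat.card_fun, Nat.card_fun, Nat.card_eq_fintype_card (α := F), hF, Nat.card_fin] at h1
      have hz : 2 ≤ Nat.card (Subgroup.center (Matrix.SpecialLinearGroup (Fin 2) F)) := by
        have hne : (1 : Matrix.SpecialLinearGroup (Fin 2) F) ≠ -1 := fun h => by
          have := congrArg (fun g : Matrix.SpecialLinearGroup (Fin 2) F => (g : Matrix (Fin 2) (Fin 2) F) 0 0) h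
          simp at this
          exact h2 (by linear_combination this)
        haveI : Nontrivial (Subgroup.center (Matrix.SpecialLinearGroup (Fin 2) F)) :=
          ⟨⟨1, ⟨-1, Cfsg.Agent.Lib.SL2Trace.mem_center_iff.mpr (Or.inr rfl)⟩, fun h => hne (congrArg Subtype.val h)⟩⟩
        exact Finite.one_lt_card
      nlinarith
    · have hi : lam * lam = -1 := by rw [← hl1, sq]
      have hinj := nineVal_injective lam hi
      let S : Subring F :=
        { carrier := Set.range (nineVal lam)
          mul_mem' := by
            rintro _ _ ⟨a, rfl⟩ ⟨b, rfl⟩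
            refine ⟨(a.1 * b.1 - a.2 * b.2, a.1 * b.2 + a.2 * b.1), ?_⟩
            simp only [nineVal, map_sub, map_add, map_mul]
            linear_combination -(ZMod.castHom (dvd_refl 3) F a.2 * ZMod.castHom (dvd_refl 3) F b.2) * hi
          one_mem' := ⟨(1, 0), by simp [nineVal]⟩
          add_mem' := by
            rintro _ _ ⟨a, rfl⟩ ⟨b, rfl⟩
            exact ⟨a + b, nineVal_add lam a b⟩
          zero_mem' := ⟨0, by simp [nineVal]⟩
          neg_mem' := by
            rintro _ ⟨a, rfl⟩
            exact ⟨-a, by simp [nineVal]; ring⟩ }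
      let S' : Subfield F :=
        { S with
          inv_mem' := fun x hx => by
            rcases eq_or_ne x 0 with rfl | hx0
            · rw [inv_zero]; exact hx
            · have e : x⁻¹ = x ^ (Fintype.card F - 2) := inv_eq_of_mul_eq_one_right (by
                rw [← pow_succ', show Fintype.card F - 2 + 1 = Fintype.card F - 1 by
                  have := Fintype.one_lt_card (α := F); omega]
                exact FiniteField.pow_card_sub_one_eq_one x hx0)
              rw [e]; exact S.pow_mem hx _ }
      have hsurj : Function.Surjective (nineVal lam) := fun x => by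
        have h : Subfield.closure ({lam} : Set F) ≤ S' := Subfield.closure_le.mpr (by
          intro y hy
          rw [Set.mem_singleton_iff] at hy
          exact ⟨(0, 1), by simp [nineVal, hy]⟩)
        rw [hgen] at h
        exact h (Subfield.mem_top x)
      have hF : Fintype.card F = 9 := by
        rw [← Fintype.card_congr (Equiv.ofBijective _ ⟨hinj, hsurj⟩)]
        simp
      exact ⟨hF, hl1, hnine hF hl1⟩

end Cfsg.Agent.S0801
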