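import Cfsg.Statements.S1124
import Cfsg.Agent.Lib.RankOne.Fixed

set_option autoImplicit false
open scoped Pointwise
open Cfsg

namespace Cfsg.Agent.S1124

open Cfsg.Agent.Lib.RankOne


/-- Let `t` be an element of order 2 of a finite group normalising a subgroup `X` of odd order, `Y = C_X(t)` and `Z` the set of elements of `X` inverted by `t`. Then `(y, z) ↦ y z` is a bijection `Y × Z → X`, so `|X| = |Y| |Z|`, and the subgroup generated by `Z` is normal in `X`. -/
theorem result {M : Type*} [Group M] [Finite M]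
    (t : M) (ht : orderOf t = 2) (X : Subgroup M) (hodd : Odd (Nat.card X))
    (hnorm : ∀ x ∈ X, t * x * t⁻¹ ∈ X) :
    (∀ x ∈ X, ∃! p : M × M, p.1 ∈ X ⊓ Subgroup.centralizer {t} ∧ p.2 ∈ Cfsg.invertedBy X t ∧ x = p.1 * p.2) ∧
      Nat.card X = Nat.card ↥(X ⊓ Subgroup.centralizer {t}) * Nat.card (Cfsg.invertedBy X t) ∧
      ∀ x ∈ X, MulAut.conj x • Subgroup.closure (Cfsg.invertedBy X t) = Subgroup.closure (Cfsg.invertedBy X t) := by
  have ht2 : t * t = 1 := by rw [← sq, ← ht, pow_orderOf_eq_one]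
  have hex : ∀ x ∈ X, ∃! p : M × M, p.1 ∈ X ⊓ Subgroup.centralizer {t} ∧
      p.2 ∈ Cfsg.invertedBy X t ∧ x = p.1 * p.2 :=
    fun x hx => existsUnique_factor ht2 hodd hnorm hx
  refine ⟨hex, ?_, ?_⟩
  · rw [← Nat.card_prod]
    refine (Nat.card_congr (Equiv.ofBijective
      (fun p : ↥(X ⊓ Subgroup.centralizer {t}) × Cfsg.invertedBy X t =>
        (⟨(p.1 : M) * p.2, X.mul_mem p.1.2.1 p.2.2.1⟩ : ↥X)) ⟨?_, ?_⟩)).symm
    · rintro ⟨y, z⟩ ⟨y', z'⟩ h
      have h' : (y : M) * z = y' * z' := congrArg Subtype.val h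
      have := (hex _ (X.mul_mem y.2.1 z.2.1)).unique (y₁ := ((y : M), (z : M))) ⟨y.2, z.2, rfl⟩
        (y₂ := ((y' : M), (z' : M))) ⟨y'.2, z'.2, h'⟩
      exact Prod.ext (Subtype.ext (congrArg Prod.fst this)) (Subtype.ext (congrArg Prod.snd this))
    · rintro ⟨x, hx⟩
      obtain ⟨⟨y, z⟩, ⟨hy, hz, he⟩, -⟩ := hex x hx
      exact ⟨(⟨y, hy⟩, ⟨z, hz⟩), Subtype.ext he.symm⟩
  · have hle : X ≤ Subgroup.normalizer
        (Subgroup.closure (Cfsg.invertedBy X t) : Set M) := by
      intro x hx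
      obtain ⟨⟨y, z⟩, ⟨hy, hz, rfl⟩, -⟩ := hex x hx
      refine mul_mem ?_ (Subgroup.le_normalizer (Subgroup.subset_closure hz))
      intro n
      have key : ∀ w ∈ X ⊓ Subgroup.centralizer {t}, ∀ n ∈ Subgroup.closure (Cfsg.invertedBy X t),
          w * n * w⁻¹ ∈ Subgroup.closure (Cfsg.invertedBy X t) := by
        intro w hw n hn
        refine (Subgroup.closure_le (K := (Subgroup.closure (Cfsg.invertedBy X t)).comap
          (MulAut.conj w).toMonoidHom)).mpr (fun m hm => ?_) hn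
        exact Subgroup.subset_closure (conj_mem_invertedBy hm hw.1
          (Subgroup.mem_centralizer_singleton_iff.mp hw.2).symm)
      exact ⟨key y hy n, fun hn => by
        simpa [mul_assoc] using key y⁻¹ (inv_mem hy) _ hn⟩
    intro x hx
    ext n
    rw [Subgroup.mem_pointwise_smul_iff_inv_smul_mem, ← map_inv, MulAut.smul_def,
      MulAut.conj_apply, inv_inv]
    simpa using (hle (inv_mem hx) n).symm

end Cfsg.Agent.S1124
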