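import Cfsg.Statements.S1127
import Cfsg.Agent.Lib.RankOne.Fixed

set_option autoImplicit false
open Cfsg

namespace Cfsg.Agent.S1127

open Cfsg.Agent.Lib.RankOne


/-- In the rank-one set-up (`G` finite and doubly transitive on `Ω`, `t` an involution moving `a`, `Q` normal in `G_a` with `G_a = Q D`, `Q ⊓ D = 1` for the two-point stabiliser `D = G_a ⊓ G_{t • a}`, `|Q|` even, `|D|` odd): if `s` is an involution of `G_a` and `r ∈ Q` satisfy `t s t = r⁻¹ t r`, then `C_D(t) = C_D(s)`; moreover `C_D(t) ⊓ C_D(K) = C_D(I ∩ G_a)`, where `K` is the set of elements of `D` inverted by `t` and `I ∩ G_a` the set of involutions of `G_a`. -/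
theorem result {G Ω : Type*} [Group G] [Finite G] [MulAction G Ω] {a : Ω} {t : G} {Q : Subgroup G}
    (hS : Cfsg.IsRankOneSetup G Ω a t Q) :
    (∀ s r : G, s ∈ Cfsg.involutionsIn (MulAction.stabilizer G a : Set G) → r ∈ Q → t * s * t = r⁻¹ * t * r →
        (MulAction.stabilizer G a ⊓ MulAction.stabilizer G (t • a)) ⊓ Subgroup.centralizer {t} = (MulAction.stabilizer G a ⊓ MulAction.stabilizer G (t • a)) ⊓ Subgroup.centralizer {s}) ∧
      (MulAction.stabilizer G a ⊓ MulAction.stabilizer G (t • a)) ⊓ Subgroup.centralizer {t} ⊓ Subgroup.centralizer (Cfsg.invertedBy (MulAction.stabilizer G a ⊓ MulAction.stabilizer G (t • a)) t) =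
        (MulAction.stabilizer G a ⊓ MulAction.stabilizer G (t • a)) ⊓ Subgroup.centralizer (Cfsg.involutionsIn (MulAction.stabilizer G a : Set G)) := by
  refine ⟨fun s r hs hr h => Setup.centralizer_eq hS hs hr h, ?_⟩
  obtain ⟨s, hs, r, hr, h⟩ := Setup.exists_structure hS
  refine le_antisymm ?_ ?_
  · rintro d ⟨hdt, hdK⟩
    rw [Setup.centralizer_eq hS hs hr h] at hdt
    refine ⟨hdt.1, Subgroup.mem_centralizer_iff.mpr fun s' hs' => ?_⟩
    obtain ⟨k, hk, rfl⟩ := Setup.exists_conj_involution hS hs hs'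
    have h1 : Commute k d := Subgroup.mem_centralizer_iff.mp hdK k hk
    have h2 : Commute s d := (Subgroup.mem_centralizer_singleton_iff.mp hdt.2).symm
    exact ((h1.inv_left.mul_left h2).mul_left h1).eq
  · rintro d ⟨hd, hdI⟩
    have hds : d * s = s * d := (Subgroup.mem_centralizer_iff.mp hdI s hs).symm
    have hdt : d * t = t * d := Setup.centralizer_s_le hS hr h hd hds
    refine ⟨⟨hd, Subgroup.mem_centralizer_singleton_iff.mpr hdt⟩,
      Subgroup.mem_centralizer_iff.mpr fun k hk => ?_⟩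
    have hI : k⁻¹ * s * k ∈ Cfsg.involutionsIn (MulAction.stabilizer G a : Set G) := by
      simpa using Setup.conj_mem_involutions hS hs (inv_mem hk.1.1)
    have h1 : k⁻¹ * s * k * d = d * (k⁻¹ * s * k) := Subgroup.mem_centralizer_iff.mp hdI _ hI
    have hc : k * d * k⁻¹ * s = s * (k * d * k⁻¹) := by
      calc k * d * k⁻¹ * s = k * (d * (k⁻¹ * s * k)) * k⁻¹ := by group
        _ = k * (k⁻¹ * s * k * d) * k⁻¹ := by rw [h1]
        _ = s * (k * d * k⁻¹) := by group
    have h3 : k * d * k⁻¹ * t = t * (k * d * k⁻¹) :=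
      Setup.centralizer_s_le hS hr h (mul_mem (mul_mem hk.1 hd) (inv_mem hk.1)) hc
    have h4 : k⁻¹ * d * k = k * d * k⁻¹ := by
      have h5 : t * d * t⁻¹ = d := by rw [← hdt, mul_inv_cancel_right]
      calc k⁻¹ * d * k = (t * k * t⁻¹) * (t * d * t⁻¹) * (t * k * t⁻¹)⁻¹ := by
            rw [hk.2, h5, inv_inv]
        _ = t * (k * d * k⁻¹) * t⁻¹ := by group
        _ = k * d * k⁻¹ := by rw [← h3, mul_inv_cancel_right]
    have h6 : Commute (k ^ 2) d := by
      show k ^ 2 * d = d * k ^ 2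
      calc k ^ 2 * d = k * (k * d * k⁻¹) * k := by rw [sq]; group
        _ = k * (k⁻¹ * d * k) * k := by rw [h4]
        _ = d * k ^ 2 := by rw [sq]; group
    have h7 := h6.pow_left ((orderOf k + 1) / 2)
    rwa [sq, (Commute.refl k).mul_pow, pow_half_mul_self
      (odd_orderOf_of_mem hS.odd_card hk.1)] at h7

end Cfsg.Agent.S1127
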