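import Cfsg.Statements.S1129
import Cfsg.Agent.Lib.RankOne.Fixed
import Cfsg.Agent.S0033

set_option autoImplicit false
open Cfsg

namespace Cfsg.Agent.S1129

open Cfsg.Agent.Lib.RankOne

variable {G Ω : Type*} [Group G] [MulAction G Ω] {a : Ω} {t : G} {Q : Subgroup G}

theorem exists_involution_pair [Finite G] (hS : Cfsg.IsRankOneSetup G Ω a t Q)
    (h2 : ∃ x y : G, x ≠ 1 ∧ y ≠ 1 ∧ x ≠ y ∧ x * x = 1 ∧ y * y = 1 ∧ x * y = y * x) :
    ∃ s ∈ Cfsg.involutionsIn (MulAction.stabilizer G a : Set G),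
      ∃ s' ∈ Cfsg.involutionsIn (MulAction.stabilizer G a : Set G), s ≠ s' := by
  obtain ⟨x, y, hx1, hy1, hne, hx2, hy2, hxy⟩ := h2
  obtain ⟨s, hsQ, hs1, hs2⟩ := Setup.exists_involution hS
  obtain ⟨g, hg⟩ := Setup.conj_involutions hS hx1 hx2 hs1 hs2
  refine ⟨s, ⟨hS.le hsQ, hs1, hs2⟩, g * y * g⁻¹, ⟨?_, fun h => hy1 (conj_eq_one_iff.mp h), ?_⟩, ?_⟩
  · refine Setup.mem_of_commute hS hsQ hs1 ?_
    calc g * y * g⁻¹ * s = g * (y * x) * g⁻¹ := by rw [← hg]; group
      _ = g * (x * y) * g⁻¹ := by rw [hxy]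
      _ = s * (g * y * g⁻¹) := by rw [← hg]; group
  · calc g * y * g⁻¹ * (g * y * g⁻¹) = g * (y * y) * g⁻¹ := by group
      _ = 1 := by rw [hy2, mul_one, mul_inv_cancel]
  · rw [← hg]
    exact fun h => hne (mul_left_cancel (mul_right_cancel h))

theorem isNilpotent_of_setup [Finite G] (hS : Cfsg.IsRankOneSetup G Ω a t Q)
    (h2 : ∃ x y : G, x ≠ 1 ∧ y ≠ 1 ∧ x ≠ y ∧ x * x = 1 ∧ y * y = 1 ∧ x * y = y * x) :
    Group.IsNilpotent ↥Q := by
  obtain ⟨s, hs, s', hs', hne⟩ := exists_involution_pair hS h2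
  obtain ⟨k, hk, hke⟩ := Setup.exists_conj_involution hS hs hs'
  have hk1 : k ≠ 1 := fun e => hne (by rw [← hke, e]; simp)
  obtain ⟨p, hp, hpd⟩ := Nat.exists_prime_and_dvd (n := orderOf k)
    (fun h => hk1 (orderOf_eq_one_iff.mp h))
  set x := k ^ (orderOf k / p) with hx
  have hxK := pow_mem_invertedBy hk (orderOf k / p)
  have hxo : orderOf x = p := orderOf_pow_orderOf_div (orderOf_pos k).ne' hpd
  have hx1 : x ≠ 1 := fun h => hp.ne_one (by rw [← hxo, h, orderOf_one])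
  have hn : x ∈ Subgroup.normalizer (Q : Set G) := fun n =>
    ⟨fun h => hS.conj_mem x hxK.1.1 n h, fun h => by
      simpa [mul_assoc] using hS.conj_mem x⁻¹ (inv_mem hxK.1.1) _ h⟩
  set φ : ↥Q ≃* ↥Q := Q.normalizerMonoidHom ⟨x, hn⟩ with hφ
  have hbot := Setup.inf_centralizer_eq_bot hS hxK hx1
  have hfree : ∀ q : ↥Q, φ q = q → q = 1 := by
    intro q hq
    have h1 : x * (q : G) * x⁻¹ = q := congrArg Subtype.val hq
    have : (q : G) ∈ Q ⊓ Subgroup.centralizer {x} :=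
      ⟨q.2, Subgroup.mem_centralizer_singleton_iff.mpr (mul_inv_eq_iff_eq_mul.mp h1).symm⟩
    rw [hbot, Subgroup.mem_bot] at this
    exact Subtype.ext this
  refine S0033.result φ (fun q hq => hfree q hq) p hp ?_
  haveI := Fact.mk hp
  have hpow : ∀ n : ℕ, ∀ q : ↥Q, (((φ : MulAut ↥Q) ^ n) q : G) = x ^ n * q * (x ^ n)⁻¹ := by
    intro n
    induction n with
    | zero => intro q; simp
    | succ n ih =>
      intro q
      rw [pow_succ', MulAut.mul_apply]
      show x * _ * x⁻¹ = _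
      rw [ih q, pow_succ']
      group
  refine orderOf_eq_prime ?_ ?_
  · ext q
    rw [hpow p q, MulAut.one_apply, ← hxo, pow_orderOf_eq_one]
    simp
  · intro h1
    apply hs.2.1
    have hsQ : s ∈ Q := Setup.mem_Q_of_involution hS hs
    exact congrArg Subtype.val (hfree ⟨s, hsQ⟩ (by rw [h1]; rfl))


/-- In the rank-one set-up (`G` finite and doubly transitive on `Ω`, `t` an involution moving `a`, `Q` normal in `G_a` with `G_a = Q D`, `Q ⊓ D = 1` for the two-point stabiliser `D = G_a ⊓ G_{t • a}`, `|Q|` even, `|D|` odd), with the action faithful and `G` containing two distinct commuting involutions: `Q` is nilpotent. -/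
theorem result {G Ω : Type*} [Group G] [Finite G] [MulAction G Ω] [FaithfulSMul G Ω] {a : Ω} {t : G} {Q : Subgroup G}
    (hS : Cfsg.IsRankOneSetup G Ω a t Q)
    (h2 : ∃ x y : G, x ≠ 1 ∧ y ≠ 1 ∧ x ≠ y ∧ x * x = 1 ∧ y * y = 1 ∧ x * y = y * x) :
    Group.IsNilpotent Q := by
  exact isNilpotent_of_setup hS h2

end Cfsg.Agent.S1129
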