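import Cfsg.Statements.S1130
import Cfsg.Agent.S1129

set_option autoImplicit false
open Cfsg

namespace Cfsg.Agent.S1130

open Cfsg.Agent.Lib.RankOne

variable {G Ω : Type*} [Group G] [MulAction G Ω] {a : Ω} {t : G} {Q : Subgroup G}

theorem central_of_setup [Finite G] (hS : Cfsg.IsRankOneSetup G Ω a t Q)
    (h2 : ∃ x y : G, x ≠ 1 ∧ y ≠ 1 ∧ x ≠ y ∧ x * x = 1 ∧ y * y = 1 ∧ x * y = y * x)
    {s : G} (hs : s ∈ Cfsg.involutionsIn (MulAction.stabilizer G a : Set G)) :
    ∀ x ∈ Q, s * x = x * s := by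
  have hnil := S1129.isNilpotent_of_setup hS h2
  haveI : Fact (Nat.Prime 2) := ⟨Nat.prime_two⟩
  obtain ⟨u, hu⟩ := exists_prime_orderOf_dvd_card' (G := ↥Q) 2 hS.even_card.two_dvd
  obtain ⟨P, hP⟩ := (IsPGroup.of_card (p := 2) (n := 1)
    (by rw [Nat.card_zpowers, hu, pow_one]) : IsPGroup 2 ↥(Subgroup.zpowers u)).exists_le_sylow
  haveI : (P : Subgroup ↥Q).Normal := Sylow.normal_of_normalizerCondition (Group.normalizerCondition_of_isNilpotent (h := hnil)) P
  obtain ⟨n, hn⟩ := (Subgroup.isNilpotent_iff_lowerCentralSeries (⊤ : Subgroup ↥Q)).mp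
    (Group.isNilpotent_congr Subgroup.topEquiv |>.mpr hnil)
  obtain ⟨z, hzP, hz1, hzc⟩ : ∃ z ∈ (P : Subgroup ↥Q), z ≠ 1 ∧ ∀ w : ↥Q, z * w = w * z := by
    by_contra hno
    have key : ∀ n, ∃ y ∈ (⊤ : Subgroup ↥Q).lowerCentralSeries n, y ∈ (P : Subgroup ↥Q) ∧ y ≠ 1 := by
      intro n
      induction n with
      | zero => exact ⟨u, Subgroup.mem_top u, hP (Subgroup.mem_zpowers u), fun h => by
          rw [h, orderOf_one] at hu; exact absurd hu (by decide)⟩
      | succ n ih =>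
        obtain ⟨y, hy, hyP, hy1⟩ := ih
        obtain ⟨w, hw⟩ : ∃ w, y * w ≠ w * y := by
          by_contra! hall
          exact hno ⟨y, hyP, hy1, hall⟩
        refine ⟨y * w * y⁻¹ * w⁻¹, ?_, ?_, fun h => hw ?_⟩
        · rw [Subgroup.lowerCentralSeries_succ]
          exact Subgroup.commutator_mem_commutator hy (Subgroup.mem_top w)
        · rw [mul_assoc y w, mul_assoc y (w * y⁻¹)]
          exact Subgroup.mul_mem _ hyP
            ((inferInstance : (P : Subgroup ↥Q).Normal).conj_mem _ (Subgroup.inv_mem _ hyP) w)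
        · exact mul_inv_eq_iff_eq_mul.mp (mul_inv_eq_one.mp h)
    obtain ⟨y, hy, -, hy1⟩ := key n
    rw [hn, Subgroup.mem_bot] at hy
    exact hy1 hy
  obtain ⟨k, hk⟩ := P.2 ⟨z, hzP⟩
  have hdvd : 2 ∣ orderOf z := by
    have h1 : orderOf z ∣ 2 ^ k := orderOf_dvd_of_pow_eq_one (congrArg Subtype.val hk)
    obtain ⟨j, -, hj⟩ := (Nat.dvd_prime_pow Nat.prime_two).mp h1
    rcases j with _ | j
    · rw [pow_zero, orderOf_eq_one_iff] at hj; exact absurd hj hz1
    · rw [hj]; exact dvd_pow_self 2 (Nat.succ_ne_zero j)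
  set w := z ^ (orderOf z / 2) with hw
  have hwo : orderOf w = 2 := orderOf_pow_orderOf_div (orderOf_pos z).ne' hdvd
  have hwI : (w : G) ∈ Cfsg.involutionsIn (MulAction.stabilizer G a : Set G) := by
    refine ⟨hS.le w.2, fun h => ?_, ?_⟩
    · rw [show w = 1 from Subtype.ext h, orderOf_one] at hwo
      exact absurd hwo (by decide)
    · rw [← sq, ← hwo, ← Subgroup.orderOf_coe, pow_orderOf_eq_one]
  have hwc : ∀ v : ↥Q, (w : G) * v = v * w := fun v => by
    exact congrArg Subtype.val ((show Commute z v from hzc v).pow_left (orderOf z / 2)).eq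
  obtain ⟨j, hj, rfl⟩ := Setup.exists_conj_involution hS hwI hs
  intro x hx
  have h1 := hwc ⟨j * x * j⁻¹, hS.conj_mem j hj.1.1 x hx⟩
  calc j⁻¹ * w * j * x = j⁻¹ * ((w : G) * (j * x * j⁻¹)) * j := by group
    _ = j⁻¹ * ((j * x * j⁻¹) * w) * j := by rw [h1]
    _ = x * (j⁻¹ * w * j) := by group

theorem closed_of_setup [Finite G] (hS : Cfsg.IsRankOneSetup G Ω a t Q)
    (h2 : ∃ x y : G, x ≠ 1 ∧ y ≠ 1 ∧ x ≠ y ∧ x * x = 1 ∧ y * y = 1 ∧ x * y = y * x)
    {s s' : G} (hs : s ∈ Cfsg.involutionsIn (MulAction.stabilizer G a : Set G))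
    (hs' : s' ∈ Cfsg.involutionsIn (MulAction.stabilizer G a : Set G)) :
    s * s' = 1 ∨ s * s' ∈ Cfsg.involutionsIn (MulAction.stabilizer G a : Set G) := by
  refine (em (s * s' = 1)).imp id fun h => ⟨Subgroup.mul_mem _ hs.1 hs'.1, h, ?_⟩
  have hc := central_of_setup hS h2 hs s' (Setup.mem_Q_of_involution hS hs')
  calc s * s' * (s * s') = s * (s' * s) * s' := by group
    _ = (s * s) * (s' * s') := by rw [← hc]; group
    _ = 1 := by rw [hs.2.2, hs'.2.2, one_mul]


/-- In the rank-one set-up (`G` finite and doubly transitive on `Ω`, `t` an involution moving `a`, `Q` normal in `G_a` with `G_a = Q D`, `Q ⊓ D = 1` for the two-point stabiliser `D = G_a ⊓ G_{t • a}`, `|Q|` even, `|D|` odd), with the action faithful and `G` containing two distinct commuting involutions: the involutions of `G_a` lie in `Z(Q)`, and together with `1` they are closed under multiplication (so form an elementary abelian 2-subgroup). -/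
theorem result {G Ω : Type*} [Group G] [Finite G] [MulAction G Ω] [FaithfulSMul G Ω] {a : Ω} {t : G} {Q : Subgroup G}
    (hS : Cfsg.IsRankOneSetup G Ω a t Q)
    (h2 : ∃ x y : G, x ≠ 1 ∧ y ≠ 1 ∧ x ≠ y ∧ x * x = 1 ∧ y * y = 1 ∧ x * y = y * x) :
    (∀ s ∈ Cfsg.involutionsIn (MulAction.stabilizer G a : Set G), s ∈ Q ∧ ∀ x ∈ Q, s * x = x * s) ∧
      ∀ s ∈ Cfsg.involutionsIn (MulAction.stabilizer G a : Set G), ∀ s' ∈ Cfsg.involutionsIn (MulAction.stabilizer G a : Set G),
        s * s' = 1 ∨ s * s' ∈ Cfsg.involutionsIn (MulAction.stabilizer G a : Set G) := by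
  exact ⟨fun s hs => ⟨Setup.mem_Q_of_involution hS hs, central_of_setup hS h2 hs⟩,
    fun s hs s' hs' => closed_of_setup hS h2 hs hs'⟩

end Cfsg.Agent.S1130
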