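import Cfsg.Statements.S5187
import Cfsg.Agent.Lib.Fusion.EssentialSeries
import Cfsg.Agent.Lib.Cores.Frattini
import Cfsg.Agent.Lib.LocalEven.Subnormal
import Cfsg.Agent.Lib.Fusion.SmallClass

set_option autoImplicit false
universe u
open Cfsg Cfsg.FusionSystem Cfsg.Agent.Lib.Fusion

namespace Cfsg.Agent.S5187

variable {A : Type*} [CommGroup A]

/-- The displacement of an automorphism of an abelian group. -/
def disp (g : MulAut A) : A →* A where
  toFun a := g a / a
  map_one' := by simp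
  map_mul' a b := by rw [map_mul, mul_div_mul_comm]

theorem fix_of_disp (g : MulAut A) (R : Subgroup A) (hR : ∀ x ∈ R, disp g x ∈ R)
    (L : Subgroup A) (hL : ∀ x, disp g x ∈ L) (hLR : ∀ x ∈ L, disp g x ∈ R)
    {p : ℕ} (hpR : ∀ x : A, x ^ p ∈ R) (x : A) : disp (g ^ p) x ∈ R := by
  have key : ∀ j : ℕ, ∃ r ∈ R, (g ^ j) x = x * disp g x ^ j * r := by
    intro j
    induction j with
    | zero => exact ⟨1, R.one_mem, by simp⟩
    | succ j ih =>
      obtain ⟨r, hr, he⟩ := ih
      refine ⟨disp g (disp g x) ^ j * g r, ?_, ?_⟩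
      · refine R.mul_mem (R.pow_mem (hLR _ (hL x)) _) ?_
        have e : g r = disp g r * r := (div_mul_cancel (g r) r).symm
        rw [e]
        exact R.mul_mem (hR r hr) hr
      · have e1 : g x = x * disp g x := by simp [disp, mul_comm]
        have e2 : g (disp g x) = disp g x * disp g (disp g x) := by simp [disp, mul_comm]
        rw [pow_succ', MulAut.mul_apply, he, map_mul, map_mul, map_pow, e2, e1, mul_pow, pow_succ']
        simp only [mul_assoc, mul_comm, mul_left_comm]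
  obtain ⟨r, hr, he⟩ := key p
  show (g ^ p) x / x ∈ R
  rw [he, mul_assoc, mul_div_cancel_left]
  exact R.mul_mem (hpR _) hr

theorem iterate_disp (g : MulAut A) (R : Subgroup A) (g' : MulAut (A ⧸ R))
    (hg : ∀ a : A, g' (a : A ⧸ R) = ((g a : A) : A ⧸ R)) (m : ℕ) (a : A) :
    (fun b => g' b / b)^[m] (a : A ⧸ R) = (((disp g)^[m] a : A) : A ⧸ R) := by
  induction m with
  | zero => rfl
  | succ m ih =>
    rw [Function.iterate_succ_apply', Function.iterate_succ_apply', ih, hg]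
    exact (QuotientGroup.mk_div _ _ _).symm

/-- Let F be a saturated fusion system over a finite p-group S and H an abelian essential subgroup that can be generated by two elements (its Frattini quotient has order at most p²). Then H is elementary abelian of order p², or p ≤ 3 and H is homocyclic of rank two, that is isomorphic to C_{pᵏ} × C_{pᵏ} for some k. -/
theorem result {Ω : Type u} [Group Ω] {S : Subgroup Ω} [Finite S] (p : ℕ) [Fact p.Prime] (hS : IsPGroup p S)
    (F : Cfsg.FusionSystem S) (hF : F.IsSaturated p) (H : Subgroup Ω) (hH : F.IsEssential p H) (hab : IsMulCommutative ↥H) (hrk : (frattini ↥H).index ≤ p ^ 2) :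
    (Cfsg.IsElementaryAbelian p H ∧ Nat.card H = p ^ 2) ∨
      (p ≤ 3 ∧ ∃ k : ℕ, Nonempty (↥H ≃* Multiplicative (ZMod (p ^ k) × ZMod (p ^ k)))) := by
  classical
  have hp : p.Prime := Fact.out
  have hHS := hH.1.1
  have := finite_of_le hHS
  have hHp : IsPGroup p H := hS.to_le hHS
  letI : CommGroup H := { (inferInstance : Group H) with mul_comm := hab.is_comm.comm }
  obtain ⟨c, hc⟩ := IsPGroup.iff_card.1 hHp
  -- exponent
  have hex : ∃ a, ∀ x : H, x ^ p ^ a = 1 := ⟨c, fun x => by rw [← hc, pow_card_eq_one']⟩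
  set a := Nat.find hex with hadef
  have hkill : ∀ x : H, x ^ p ^ a = 1 := Nat.find_spec hex
  rcases Nat.eq_zero_or_pos a with ha0 | hapos
  · exfalso
    refine IsEssential.not_series hS hF hH (fun _ => ⊥) 0 rfl ?_ ?_ (fun i hi => absurd hi (Nat.not_lt_zero i))
    · refine ((Subgroup.eq_top_iff' _).2 fun x => ?_)
      have := hkill x
      rw [ha0, pow_zero, pow_one] at this
      exact Subgroup.mem_bot.2 this
    · intro α _ i x hx
      rw [Subgroup.mem_bot] at hx ⊢
      rw [hx, map_one]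
  obtain ⟨a', ha'⟩ : ∃ a', a = a' + 1 := ⟨a - 1, by omega⟩
  obtain ⟨z, hz⟩ : ∃ z : H, z ^ p ^ a' ≠ 1 := by
    have := Nat.find_min hex (show a' < a by omega)
    push_neg at this
    exact this
  let R : ℕ → Subgroup H := fun i => (powMonoidHom (p ^ i)).range
  have hR1 : ∀ x : H, x ^ p ∈ R 1 := fun x => ⟨x, by simp⟩
  have hΦ : frattini H = R 1 := by
    refine le_antisymm (Cfsg.Agent.Lib.LocalEven.frattini_le_of_quotient_elementary ?_ hR1) ?_
    · rw [commutator_def, Subgroup.commutator_le]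
      intro u _ v _
      rw [commutatorElement_eq_one_iff_mul_comm.2 (mul_comm u v)]
      exact Subgroup.one_mem _
    · rintro _ ⟨x, rfl⟩
      simpa using Cfsg.Agent.Lib.Cores.pow_mem_frattini hHp x
  rw [hΦ] at hrk
  have hR1' : Subgroup.closure (Set.range fun x : H => x ^ p) = R 1 := by
    refine le_antisymm ((Subgroup.closure_le _).2 ?_) ?_
    · rintro _ ⟨x, rfl⟩; exact hR1 x
    · rintro _ ⟨x, rfl⟩; exact Subgroup.subset_closure ⟨x, by simp⟩
  obtain ⟨k, -, hk⟩ := (Nat.dvd_prime_pow hp).1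
    ((hc ▸ Subgroup.index_dvd_card (R 1) : (R 1).index ∣ p ^ c))
  have hk2 : k ≤ 2 := (Nat.pow_le_pow_iff_right hp.one_lt).1 (hk ▸ hrk)
  set L : Subgroup H := (powMonoidHom (p ^ a')).ker with hLdef
  have hLpow : ∀ x : H, x ^ p ∈ L := fun x => by
    show (x ^ p) ^ p ^ a' = 1
    rw [← pow_mul, ← pow_succ', ← ha']; exact hkill x
  have hRL : R 1 ≤ L := by rw [← hR1']; exact (Subgroup.closure_le _).2 (by rintro _ ⟨x, rfl⟩; exact hLpow x)
  have hLne : L ≠ ⊤ := fun h => hz (h.ge (Subgroup.mem_top z))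
  have hLinv : ∀ α ∈ F.autGroup H, ∀ x ∈ L, α x ∈ L := fun α _ x hx => by
    show (α x) ^ p ^ a' = 1
    rw [← map_pow, show x ^ p ^ a' = 1 from hx, map_one]
  obtain ⟨l, hl2, hl⟩ := (Nat.dvd_prime_pow hp).1 ((hk ▸ Subgroup.index_dvd_of_le hRL) : L.index ∣ p ^ k)
  have hmul : (R 1).relIndex L * L.index = p ^ k := by rw [Subgroup.relIndex_mul_index hRL, hk]
  have hl0 : l ≠ 0 := fun h => hLne (Subgroup.index_eq_one.1 (by rw [hl, h, pow_zero]))
  have hl' : l = 2 := by
    by_contra hne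
    have hl1 : l = 1 := by omega
    refine IsEssential.not_abelian_split hS hF hH hab L hLinv hLpow (by rw [hl, hl1, pow_one]) ?_
    rw [hR1']
    rw [hl, hl1, pow_one] at hmul
    have hk1 : p ^ k = p ^ (k - 1) * p := by rw [← pow_succ]; congr 1; omega
    rw [hk1] at hmul
    rw [Nat.eq_of_mul_eq_mul_right hp.pos hmul]
    refine (pow_dvd_pow p (show k - 1 ≤ 1 by omega)).trans ?_
    rw [pow_one]
  have hk' : k = 2 := by omega
  subst hk'
  have hLR : L = R 1 := by
    refine le_antisymm (Subgroup.relIndex_eq_one.1 ?_) hRL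
    rw [hl, hl'] at hmul
    exact (Nat.eq_of_mul_eq_mul_right (pow_pos hp.pos 2) (hmul.trans (one_mul _).symm))
  have HC : ∀ x : H, x ^ p ^ a' = 1 → x ∈ R 1 := fun x hx => hLR.le hx
  -- a basis
  obtain ⟨x, hx⟩ : ∃ x : H, x ∉ R 1 := by
    by_contra! h
    exact hLne (hLR.trans ((Subgroup.eq_top_iff' _).2 h))
  set U : Subgroup H := R 1 ⊔ Subgroup.zpowers x with hUdef
  have hUidx : U.index ∣ p ^ 2 := hk ▸ Subgroup.index_dvd_of_le le_sup_left
  have hxU : x ∈ U := Subgroup.mem_sup_right (Subgroup.mem_zpowers x)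
  obtain ⟨y, hy⟩ : ∃ y : H, y ∉ U := by
    by_contra! h
    have hUt : U = ⊤ := (Subgroup.eq_top_iff' _).2 h
    have htop : Subgroup.zpowers x = ⊤ := frattini_nongenerating (by rw [hΦ, sup_comm]; exact hUt)
    have hsub : ∀ w : H, ∃ i < p, (x ^ i)⁻¹ * w ∈ R 1 := by
      intro w
      obtain ⟨m, hm⟩ := mem_powers_iff_mem_zpowers.2 (htop.ge (Subgroup.mem_top w))
      change x ^ m = w at hm
      refine ⟨m % p, Nat.mod_lt _ hp.pos, ?_⟩
      rw [← hm, show x ^ m = x ^ (m % p) * (x ^ p) ^ (m / p) by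
        rw [← pow_mul, ← pow_add, Nat.mod_add_div]]
      rw [inv_mul_cancel_left]
      exact (R 1).pow_mem (hR1 x) _
    have hsur : Function.Surjective fun i : Fin p => ((x ^ (i : ℕ) : H) : H ⧸ R 1) := by
      intro w
      induction w using QuotientGroup.induction_on with
      | _ w =>
        obtain ⟨i, hi, hiw⟩ := hsub w
        exact ⟨⟨i, hi⟩, QuotientGroup.eq.2 hiw⟩
    have hle := Nat.card_le_card_of_surjective _ hsur
    rw [← Subgroup.index_eq_card, hk, Nat.card_fin] at hle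
    nlinarith [hp.two_le]
  have hpd : ∀ i j : ℕ, x ^ i * y ^ j ∈ R 1 → p ∣ i ∧ p ∣ j := by
    have hdvd : ∀ (w : H) (W : Subgroup H), R 1 ≤ W → ∀ n : ℕ, ¬ p ∣ n → w ^ n ∈ W → w ∈ W := by
      intro w W hW n hn hwn
      have h1 : w ^ p ∈ W := hW (hR1 w)
      have hg : Nat.gcd n p = 1 :=
        Nat.Coprime.gcd_eq_one ((Nat.Prime.coprime_iff_not_dvd hp).2 hn).symm
      have e : w ^ ((n.gcd p : ℕ) : ℤ) = (w ^ n) ^ n.gcdA p * (w ^ p) ^ n.gcdB p := by
        rw [Nat.gcd_eq_gcd_ab, zpow_add, zpow_mul, zpow_mul, zpow_natCast, zpow_natCast]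
      rw [hg, Nat.cast_one, zpow_one] at e
      rw [e]
      exact W.mul_mem (W.zpow_mem hwn _) (W.zpow_mem h1 _)
    intro i j hij
    have hj : p ∣ j := by
      by_contra hj
      refine hy (hdvd y U le_sup_left j hj ?_)
      exact (U.mul_mem_cancel_left (U.pow_mem hxU i)).1 (Subgroup.mem_sup_left hij)
    refine ⟨?_, hj⟩
    by_contra hi
    obtain ⟨t, rfl⟩ := hj
    refine hx (hdvd x (R 1) le_rfl i hi ?_)
    exact ((R 1).mul_mem_cancel_right (by rw [pow_mul]; exact (R 1).pow_mem (hR1 y) t)).1 hij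
  -- the isomorphism
  have hval : ∀ (e : H) (u v : ZMod (p ^ a)), e ^ (u + v).val = e ^ u.val * e ^ v.val := fun e u v => by
    haveI : NeZero (p ^ a) := ⟨(pow_pos hp.pos a).ne'⟩
    rw [← pow_add, ZMod.val_add, ← pow_eq_pow_mod _ (hkill e)]
  let f : Multiplicative (ZMod (p ^ a) × ZMod (p ^ a)) →* H :=
    MonoidHom.mk' (fun v => x ^ v.toAdd.1.val * y ^ v.toAdd.2.val) fun v w => by
      show x ^ (v.toAdd.1 + w.toAdd.1).val * y ^ (v.toAdd.2 + w.toAdd.2).val = _
      rw [hval, hval, mul_mul_mul_comm]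
  haveI : NeZero (p ^ a) := ⟨(pow_pos hp.pos a).ne'⟩
  have hfi : Function.Injective f := by
    rw [injective_iff_map_eq_one]
    intro v hv
    have key : ∀ m ≤ a, p ^ m ∣ v.toAdd.1.val ∧ p ^ m ∣ v.toAdd.2.val := by
      intro m
      induction m with
      | zero => simp
      | succ m ih =>
        intro hm
        obtain ⟨⟨i, hi⟩, ⟨j, hj⟩⟩ := ih (by omega)
        have h1 : (x ^ i * y ^ j) ^ p ^ m = 1 := by
          rw [mul_pow, ← pow_mul, ← pow_mul, mul_comm i, mul_comm j, ← hi, ← hj]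
          exact hv
        have h2 : (x ^ i * y ^ j) ^ p ^ a' = 1 := by
          rw [show a' = m + (a' - m) by omega, pow_add, pow_mul, h1, one_pow]
        obtain ⟨h3, h4⟩ := hpd i j (HC _ h2)
        exact ⟨by rw [pow_succ, hi]; exact mul_dvd_mul_left _ h3,
          by rw [pow_succ, hj]; exact mul_dvd_mul_left _ h4⟩
    obtain ⟨h1, h2⟩ := key a le_rfl
    have e1 := Nat.eq_zero_of_dvd_of_lt h1 (ZMod.val_lt _)
    have e2 := Nat.eq_zero_of_dvd_of_lt h2 (ZMod.val_lt _)
    exact Multiplicative.toAdd.injective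
      (Prod.ext ((ZMod.val_eq_zero _).1 e1) ((ZMod.val_eq_zero _).1 e2))
  have hfs : Function.Surjective f := by
    rw [← MonoidHom.range_eq_top]
    refine frattini_nongenerating ?_
    rw [hΦ]
    have hxr : x ∈ f.range ⊔ R 1 := by
      refine Subgroup.mem_sup_left ⟨Multiplicative.ofAdd (1, 0), ?_⟩
      show x ^ (1 : ZMod (p ^ a)).val * y ^ (0 : ZMod (p ^ a)).val = x
      rw [ZMod.val_one'' (by rw [ha']; exact (Nat.one_lt_pow (Nat.succ_ne_zero _) hp.one_lt).ne'),
        ZMod.val_zero, pow_one, pow_zero, mul_one]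
    have hyr : y ∈ f.range ⊔ R 1 := by
      refine Subgroup.mem_sup_left ⟨Multiplicative.ofAdd (0, 1), ?_⟩
      show x ^ (0 : ZMod (p ^ a)).val * y ^ (1 : ZMod (p ^ a)).val = y
      rw [ZMod.val_one'' (by rw [ha']; exact (Nat.one_lt_pow (Nat.succ_ne_zero _) hp.one_lt).ne'),
        ZMod.val_zero, pow_one, pow_zero, one_mul]
    have hUV : U < f.range ⊔ R 1 := lt_of_le_of_ne
      (sup_le le_sup_right (Subgroup.zpowers_le.2 hxr)) fun e => hy (e ▸ hyr)
    have hRU : R 1 < U := lt_of_le_of_ne le_sup_left fun e => hx (e ▸ hxU)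
    obtain ⟨u, hu2, hu⟩ := (Nat.dvd_prime_pow hp).1 hUidx
    have h1 := Subgroup.index_strictAnti hRU
    have h2 := Subgroup.index_strictAnti hUV
    rw [hk, hu] at h1
    rw [hu] at h2
    have hu' : u ≤ 1 := by
      by_contra hh
      rw [show u = 2 by omega] at h1
      exact lt_irrefl _ h1
    obtain ⟨w, hw2, hw⟩ := (Nat.dvd_prime_pow hp).1
      (hu ▸ Subgroup.index_dvd_of_le hUV.le : (f.range ⊔ R 1).index ∣ p ^ u)
    rw [hw] at h2
    have hwu := (Nat.pow_lt_pow_iff_right hp.one_lt).1 h2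
    exact Subgroup.index_eq_one.1 (by rw [hw, show w = 0 by omega, pow_zero])
  let E : H ≃* Multiplicative (ZMod (p ^ a) × ZMod (p ^ a)) := (MulEquiv.ofBijective f ⟨hfi, hfs⟩).symm
  by_cases ha1 : a = 1
  · left
    refine ⟨⟨hab, fun u hu => congrArg Subtype.val (show (⟨u, hu⟩ : H) ^ p = 1 by
      have := hkill ⟨u, hu⟩; rwa [ha1, pow_one] at this)⟩, ?_⟩
    rw [Nat.card_congr E.toEquiv, ha1]
    simp [pow_two]
  right
  refine ⟨?_, a, ⟨E⟩⟩
  by_contra hp3
  push_neg at hp3
  obtain ⟨g, hg, hgH⟩ := SetLike.exists_of_lt (lt_normalizerIn hS (IsEssential.lt hF hS hH))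
  set α : MulAut H := conjAut hg.2 with hαdef
  have hαA : α ∈ F.autGroup H := conjAut_mem_autGroup F hHS hg.1 hg.2
  obtain ⟨kα, hkα⟩ := isPGroup_autInducedBy hS H ⟨α, conjAut_mem_autInducedBy hg.1 hg.2⟩
  have hkα' : α ^ p ^ kα = 1 := congrArg Subtype.val hkα
  have hinn : ∀ β ∈ Inn H, β = (1 : MulAut H) := by
    rintro _ ⟨w, rfl⟩
    ext v
    simp [mul_comm]
  have hRd : ∀ (β : MulAut H) i, ∀ w ∈ R i, β w ∈ R i := by
    rintro β i _ ⟨v, rfl⟩
    exact ⟨β v, (map_pow β v _).symm⟩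
  have htriv : ∀ β ∈ F.autGroup H, (∀ w, disp β w ∈ R 1) → β = 1 := by
    intro β hβ h
    refine hinn β ?_
    rw [← (IsEssential.radical hS hF hH).2]
    refine stab_mem_pCore hHp _ (fun i => R (a - i)) a ?_ ?_ (fun δ _ i => hRd δ _) hβ ?_
    · rw [eq_bot_iff]; rintro _ ⟨v, rfl⟩; rw [Subgroup.mem_bot]; exact hkill v
    · exact MonoidHom.range_eq_top.2 fun v => ⟨v, by simp⟩
    · intro i hi w hw
      obtain ⟨v, rfl⟩ := hw
      obtain ⟨r, hr⟩ := h v
      refine ⟨r, ?_⟩
      have hr' : r ^ p = β v / v := by simpa [disp] using hr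
      show r ^ p ^ (a - i) = (v ^ p ^ (a - (i + 1)))⁻¹ * β (v ^ p ^ (a - (i + 1)))
      rw [show a - i = (a - (i + 1)) + 1 by omega, pow_succ', pow_mul, hr', map_pow, div_pow,
        div_eq_mul_inv, mul_comm]
  haveI : (R 1).Normal := inferInstance
  let Q := H ⧸ R 1
  have hQcard : Nat.card Q = p ^ 2 := by rw [← Subgroup.index_eq_card, hk]
  let αQ : MulAut Q := QuotientGroup.congr (R 1) (R 1) α (by
    refine le_antisymm ?_ ?_
    · rintro _ ⟨w, hw, rfl⟩; exact hRd α 1 w hw
    · intro w hw; exact ⟨α.symm w, hRd α.symm 1 w hw, α.apply_symm_apply w⟩)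
  have hαQ : ∀ w : H, αQ (w : Q) = ((α w : H) : Q) := fun w => rfl
  have hαQpow : ∀ (n : ℕ) (w : H), (αQ ^ n) (w : Q) = (((α ^ n) w : H) : Q) := by
    intro n
    induction n with
    | zero => intro w; rfl
    | succ n ih => intro w; rw [pow_succ', pow_succ', MulAut.mul_apply, ih, hαQ, MulAut.mul_apply]
  have hαQp : IsPGroup p (Subgroup.zpowers αQ) := by
    refine IsPGroup.iff_card.2 ?_
    have h1 : αQ ^ p ^ kα = 1 := MulEquiv.ext fun v => by
      induction v using QuotientGroup.induction_on with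
      | _ w => rw [hαQpow, hkα']; rfl
    rw [Nat.card_zpowers]
    obtain ⟨i, -, hi⟩ := (Nat.dvd_prime_pow hp).1 (orderOf_dvd_of_pow_eq_one h1)
    exact ⟨i, hi⟩
  obtain ⟨q, hq, hq1⟩ := hαQp.exists_fixed_point_of_prime_dvd_card_of_fixed_point Q
    (by rw [hQcard]; exact dvd_pow_self p two_ne_zero) (a := 1) (fun b => map_one (b : MulAut Q))
  have hqfix : αQ q = q := hq ⟨αQ, Subgroup.mem_zpowers _⟩
  set L' : Subgroup H := (Subgroup.zpowers q).comap (QuotientGroup.mk' (R 1)) with hL'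
  have hqo : orderOf q = p := by
    refine ((Nat.dvd_prime hp).1 (orderOf_dvd_of_pow_eq_one ?_)).resolve_left
      fun h => hq1 (orderOf_eq_one_iff.1 h).symm
    induction q using QuotientGroup.induction_on with
    | _ w => rw [← QuotientGroup.mk_pow, QuotientGroup.eq_one_iff]; exact hR1 w
  have hL'α : ∀ w ∈ L', α w ∈ L' := by
    intro w hw
    obtain ⟨n, hn⟩ := Subgroup.mem_zpowers_iff.1 hw
    show ((α w : H) : Q) ∈ Subgroup.zpowers q
    rw [← hαQ, show (w : Q) = q ^ n from hn.symm, map_zpow, hqfix]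
    exact zpow_mem (Subgroup.mem_zpowers _) _
  have hL'i : L'.index = p := by
    rw [hL', Subgroup.index_comap_of_surjective _ (QuotientGroup.mk'_surjective _)]
    have h := Subgroup.card_mul_index (Subgroup.zpowers q)
    rw [Nat.card_zpowers, hqo, hQcard, pow_two] at h
    exact Nat.eq_of_mul_eq_mul_left hp.pos h
  have hRL' : R 1 ≤ L' := fun w hw => by
    rw [hL', Subgroup.mem_comap, QuotientGroup.mk'_apply, (QuotientGroup.eq_one_iff w).2 hw]
    exact Subgroup.one_mem _
  have hrel : (R 1).relIndex L' = p := by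
    have h := Subgroup.relIndex_mul_index hRL'
    rw [hL'i, hk, pow_two] at h
    exact Nat.eq_of_mul_eq_mul_right hp.pos h
  have hd1 : ∀ w, disp α w ∈ L' := fun w => by
    have h := mulAut_fix_of_prime_factor α hkα' L' ⊤ hL'α (fun _ _ => trivial)
      (by rw [Subgroup.relIndex_top_right, hL'i]) (Subgroup.mem_top w)
    show α w / w ∈ L'
    rwa [div_eq_inv_mul]
  have hd2 : ∀ w ∈ L', disp α w ∈ R 1 := fun w hw => by
    have h := mulAut_fix_of_prime_factor α hkα' (R 1) L' (hRd α 1) hL'α (by rw [hrel]) hw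
    show α w / w ∈ R 1
    rwa [div_eq_inv_mul]
  have hdR : ∀ i, ∀ w ∈ R i, disp α w ∈ R i := fun i w hw =>
    (R i).div_mem (hRd α i w hw) hw
  have hαp : α ^ p = 1 := htriv _ (pow_mem hαA p) fun w => fix_of_disp α (R 1) (hdR 1) L' hd1 hd2 hR1 w
  have hd4 : ∀ w, (disp α)^[p] w ∈ R 2 := by
    have h2 : ∀ w, disp α (disp α w) ∈ R 1 := fun w => hd2 _ (hd1 w)
    have h4 : ∀ w, (disp α)^[4] w ∈ R 2 := by
      intro w
      obtain ⟨v, hv⟩ := h2 w
      obtain ⟨u, hu⟩ := h2 v
      show disp α (disp α (disp α (disp α w))) ∈ R 2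
      rw [← hv]
      refine ⟨u, ?_⟩
      simp only [powMonoidHom_apply, pow_one] at hu ⊢
      rw [map_pow, map_pow, ← hu, ← pow_mul, ← pow_two]
    intro w
    obtain ⟨m, hm⟩ : ∃ m, p = 4 + m := ⟨p - 4, by omega⟩
    rw [hm, Function.iterate_add_apply]
    exact h4 _
  let α2 : MulAut (H ⧸ R 2) := QuotientGroup.congr (R 2) (R 2) α (by
    refine le_antisymm ?_ ?_
    · rintro _ ⟨w, hw, rfl⟩; exact hRd α 2 w hw
    · intro w hw; exact ⟨α.symm w, hRd α.symm 2 w hw, α.apply_symm_apply w⟩)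
  have hα2 : ∀ w : H, α2 (w : H ⧸ R 2) = ((α w : H) : H ⧸ R 2) := fun w => rfl
  have hα2pow : ∀ (n : ℕ) (w : H), (α2 ^ n) (w : H ⧸ R 2) = (((α ^ n) w : H) : H ⧸ R 2) := by
    intro n
    induction n with
    | zero => intro w; rfl
    | succ n ih => intro w; rw [pow_succ', pow_succ', MulAut.mul_apply, ih, hα2, MulAut.mul_apply]
  have hfix : ∀ w : H, (α w / w) ^ p ∈ R 2 := by
    intro w
    have h := fix_pow_of_unipotent hp α2 (n := 1)
      (MulEquiv.ext fun v => by
        induction v using QuotientGroup.induction_on with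
        | _ w => rw [hα2pow, hαp]; rfl)
      (fun v => by
        induction v using QuotientGroup.induction_on with
        | _ w =>
          rw [iterate_disp α (R 2) α2 hα2, one_mul, Nat.sub_add_cancel hp.one_lt.le,
            QuotientGroup.eq_one_iff]
          exact hd4 w) (w : H ⧸ R 2)
    rw [pow_one, ← QuotientGroup.mk_pow, hα2, map_pow] at h
    rw [← QuotientGroup.eq_one_iff, div_pow, QuotientGroup.mk_div, h, div_self']
  have hα1 : α = 1 := htriv α hαA fun w => by
    obtain ⟨v, hv⟩ := hfix w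
    simp only [powMonoidHom_apply] at hv
    have h1 : (disp α w / v ^ p) ^ p ^ a' = 1 := by
      have e : (disp α w / v ^ p) ^ p = 1 := by
        rw [div_pow, ← pow_mul, ← pow_two, hv]
        exact div_self' _
      rw [show a' = 1 + (a' - 1) by omega, pow_add, pow_one, pow_mul, e, one_pow]
    have h2 := (R 1).mul_mem (HC _ h1) (hR1 v)
    rwa [div_mul_cancel] at h2
  exact hgH (mem_of_conjAut_inn hH.1 hg (by rw [← hαdef, hα1]; exact one_mem _))

end Cfsg.Agent.S5187
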