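import Cfsg.Statements.S0054
import Cfsg.Agent.Lib.Coprime.Basic

set_option autoImplicit false
open Cfsg

namespace Cfsg.Agent.S0054

/-- A regular normal subgroup of a finite 2-transitive group is elementary abelian: it is commutative and all its elements have order dividing one prime. -/
theorem result {G : Type*} [Group G] [Finite G]
    {X : Type*} [Nonempty X] [MulAction G X] (h2 : MulAction.IsMultiplyPretransitive G X 2)
    (N : Subgroup G) [N.Normal] (htrans : MulAction.IsPretransitive N X) (hreg : ∀ x : X, MulAction.stabilizer N x = ⊥) :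
    IsMulCommutative N ∧ ∃ p : ℕ, p.Prime ∧ ∀ n ∈ N, n ^ p = 1 := by
  obtain ⟨x₀⟩ := ‹Nonempty X›
  by_cases htriv : Subsingleton N
  · exact ⟨⟨⟨fun a b => htriv.elim _ _⟩⟩, 2, Nat.prime_two, fun n hn => by
      have : (⟨n, hn⟩ : N) = 1 := htriv.elim _ _
      rw [show n = 1 from congrArg Subtype.val this, one_pow]⟩
  rw [not_subsingleton_iff_nontrivial] at htriv
  have hinj : ∀ a b : N, a • x₀ = b • x₀ → a = b := by
    intro a b h
    have : b⁻¹ * a ∈ MulAction.stabilizer N x₀ := by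
      rw [MulAction.mem_stabilizer_iff, mul_smul, h, inv_smul_smul]
    rw [hreg, Subgroup.mem_bot, inv_mul_eq_one] at this
    exact this.symm
  -- nonidentity elements are conjugate
  have hconj : ∀ a b : N, a ≠ 1 → b ≠ 1 → ∃ g : G, g * a * g⁻¹ = (b : G) := by
    intro a b ha hb
    have ha' : x₀ ≠ a • x₀ := fun h => ha (hinj a 1 (by rw [one_smul]; exact h.symm))
    have hb' : x₀ ≠ b • x₀ := fun h => hb (hinj b 1 (by rw [one_smul]; exact h.symm))
    obtain ⟨g, hg1, hg2⟩ := MulAction.is_two_pretransitive_iff.mp h2 ha' hb'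
    refine ⟨g, ?_⟩
    have hc : g * (a : G) * g⁻¹ ∈ N := Subgroup.Normal.conj_mem ‹N.Normal› _ a.2 g
    have h3 : (⟨_, hc⟩ : N) = b := by
      apply hinj
      show (g * (a : G) * g⁻¹) • x₀ = b • x₀
      conv_lhs => rw [← hg1]
      rw [← mul_smul, inv_mul_cancel_right, mul_smul]
      exact hg2
    exact congrArg Subtype.val h3
  have : Finite N := inferInstance
  obtain ⟨p, hp, hdvd⟩ := Nat.exists_prime_and_dvd (n := Nat.card N) Finite.one_lt_card.ne'
  have := Fact.mk hp
  obtain ⟨z, hz⟩ := exists_prime_orderOf_dvd_card' (G := N) p hdvd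
  have hz1 : z ≠ 1 := fun h => by rw [h, orderOf_one] at hz; exact hp.one_lt.ne hz
  have hpow : ∀ n : N, n ^ p = 1 := by
    intro n
    by_cases hn : n = 1
    · rw [hn, one_pow]
    obtain ⟨g, hg⟩ := hconj z n hz1 hn
    apply Subtype.ext
    rw [Subgroup.coe_pow, ← hg, ← MulAut.conj_apply, ← map_pow, ← Subgroup.coe_pow, ← hz,
      pow_orderOf_eq_one]
    simp
  have hP : IsPGroup p N := fun n => ⟨1, by rw [pow_one]; exact hpow n⟩
  obtain ⟨c, hc1⟩ : ∃ c : Subgroup.center N, c ≠ 1 := by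
    have := (Subgroup.nontrivial_iff_ne_bot _).mpr hP.bot_lt_center.ne'
    exact exists_ne 1
  refine ⟨⟨⟨fun a b => ?_⟩⟩, p, hp, fun n hn => congrArg Subtype.val (hpow ⟨n, hn⟩)⟩
  by_cases hb1 : b = 1
  · rw [hb1, mul_one, one_mul]
  obtain ⟨g, hg⟩ := hconj c b (fun h => hc1 (Subtype.ext h)) hb1
  have ha : g⁻¹ * (a : G) * g ∈ N := by
    simpa using Subgroup.Normal.conj_mem ‹N.Normal› _ a.2 g⁻¹
  have := congrArg Subtype.val (Subgroup.mem_center_iff.mp c.2 ⟨_, ha⟩)
  apply Subtype.ext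
  show (a : G) * b = b * a
  rw [← hg]
  simp only [Subgroup.coe_mul] at this
  calc (a : G) * (g * ((c : N) : G) * g⁻¹)
      = g * ((g⁻¹ * (a : G) * g) * ((c : N) : G)) * g⁻¹ := by group
    _ = _ := by rw [this]; group

end Cfsg.Agent.S0054
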