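import Cfsg.Statements.S1553
import Cfsg.Agent.Lib.M24Geom.SymSix
import Cfsg.Agent.Lib.Golay.Pointed
-- import your own Cfsg.Agent.* helpers here

set_option autoImplicit false
open scoped Pointwise
open Cfsg

namespace Cfsg.Agent.S1553

open Cfsg.Agent.Lib.Compute Cfsg.Agent.Lib.GolayOrbit Cfsg.Agent.Lib.M24Geom

theorem oct_tables : patternCount 24 (fixPts oct0) [] m24Cert id = 16 ∧
    patternCount 24 (fixPts 5311) [] m24Cert id = 1 ∧
    setOf24 5311 = insert (pointCoding.dec octOut0) (setOf24 oct0) ∧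
    certOrder octCert = 322560 ∧ certOrder octOutCert = 20160 := by decide +kernel

variable {o : Finset GolayPt}

/-- The stabiliser of an octad. -/
def octStab (o : Finset GolayPt) : Subgroup (Equiv.Perm GolayPt) :=
  M24 ⊓ MulAction.stabilizer (Equiv.Perm GolayPt) o

theorem mem_iff_of_mem (σ : ↥(octStab o)) (x : GolayPt) : (σ : Equiv.Perm GolayPt) x ∈ o ↔ x ∈ o := by
  have h : (σ : Equiv.Perm GolayPt) • o = o := σ.2.2
  have h2 := Finset.smul_mem_smul_finset_iff (s := o) (σ : Equiv.Perm GolayPt) (b := x)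
  rw [h] at h2
  exact h2

/-- Restriction to the octad. -/
noncomputable def restr (o : Finset GolayPt) : ↥(octStab o) →* Equiv.Perm ↥o :=
  MonoidHom.mk' (fun σ => (σ : Equiv.Perm GolayPt).subtypePerm (mem_iff_of_mem σ)) fun σ τ => by
    ext x
    rfl

theorem restr_eq_one {σ : ↥(octStab o)} : restr o σ = 1 ↔ ∀ p ∈ o, (σ : Equiv.Perm GolayPt) p = p := by
  constructor
  · intro h p hp
    have := congrArg (fun e : Equiv.Perm ↥o => (e ⟨p, hp⟩).1) h
    exact this
  · intro h
    exact Equiv.ext fun x => Subtype.ext (h x.1 x.2)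

theorem card_octStab (ho : o ∈ octads) : Nat.card (octStab o) = 322560 := by
  obtain ⟨g, hg, he⟩ := exists_to_baseOctad ho
  rw [← oct_tables.2.2.2.1, ← card_gpGrp octCert_chk]
  refine Nat.card_congr (Equiv.subtypeEquiv (MulAut.conj g).toEquiv fun σ => ?_)
  show _ ↔ g * σ * g⁻¹ ∈ gpGrp octCert
  rw [mem_octCert, ← he, mul_smul, inv_smul_smul, mul_smul, smul_left_cancel_iff]
  exact and_congr ⟨fun h => mul_mem (mul_mem hg h) (inv_mem hg), fun h => by
    simpa [mul_assoc] using mul_mem (mul_mem (inv_mem hg) h) hg⟩ Iff.rfl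

/-- Elements of the code's group fixing a set pointwise, counted at a base set. -/
theorem card_fix {g : Equiv.Perm GolayPt} (hg : g ∈ M24) {s : Finset GolayPt} {S : ℕ}
    (hs : g • s = setOf24 S) :
    Nat.card {σ : Equiv.Perm GolayPt // σ ∈ M24 ∧ ∀ p ∈ s, σ p = p} =
      patternCount 24 (fixPts S) [] m24Cert id := by
  rw [← card_pointFits]
  refine Nat.card_congr (Equiv.subtypeEquiv (MulAut.conj g).toEquiv fun σ => ?_)
  show _ ↔ g * σ * g⁻¹ ∈ M24 ∧ PointFits (fixPts S) (([] : List ℕ).map fun m => (m, m)) (g * σ * g⁻¹)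
  rw [pointFits_fix]
  simp only [List.not_mem_nil, false_implies, implies_true, and_true, ← hs]
  refine and_congr ⟨fun h => mul_mem (mul_mem hg h) (inv_mem hg), fun h => by
    simpa [mul_assoc] using mul_mem (mul_mem (inv_mem hg) h) hg⟩ ?_
  constructor
  · intro h p hp
    obtain ⟨q, hq, rfl⟩ := Finset.mem_smul_finset.1 hp
    simp [Equiv.Perm.smul_def, h q hq]
  · intro h p hp
    have := h (g • p) (Finset.smul_mem_smul_finset hp)
    simpa [Equiv.Perm.smul_def] using this

theorem card_ker (ho : o ∈ octads) : Nat.card (restr o).ker = 16 := by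
  obtain ⟨g, hg, he⟩ := exists_to_baseOctad ho
  rw [← oct_tables.1, ← card_fix (S := oct0) hg he]
  exact Nat.card_congr
    { toFun := fun σ => ⟨σ.1.1, σ.1.2.1, restr_eq_one.1 σ.2⟩
      invFun := fun σ => ⟨⟨σ.1, σ.2.1, by
          show σ.1 • o = o
          refine (smul_eq_iff_forall _ _ _).2 fun q => ⟨fun h => by rwa [σ.2.2 q h], fun h => ?_⟩
          have := σ.2.2 _ h
          rwa [σ.1.injective this] at h⟩, restr_eq_one.2 σ.2.2⟩
      left_inv := fun _ => rfl
      right_inv := fun _ => rfl }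

theorem range_restr (ho : o ∈ octads) : (restr o).range = alternatingGroup ↥o := by
  have h8 : o.card = 8 := by
    obtain ⟨g, -, he⟩ := exists_to_baseOctad ho
    rw [← Finset.card_smul_finset g, he]
    decide +kernel
  have hr : Nat.card (restr o).range = 20160 := by
    rw [← Nat.card_congr (QuotientGroup.quotientKerEquivRange (restr o)).toEquiv]
    have h := Subgroup.card_eq_card_quotient_mul_card_subgroup (restr o).ker
    rw [card_octStab ho, card_ker ho] at h
    omega
  have hidx : (restr o).range.index = 2 := by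
    have h := (restr o).range.card_mul_index
    rw [hr, Nat.card_perm, Nat.card_eq_fintype_card, Fintype.card_coe, h8, show Nat.factorial 8 = 40320 from rfl] at h
    omega
  exact Equiv.Perm.eq_alternatingGroup_of_index_eq_two hidx


/-- The stabiliser of an octad in the group of the length-24 code induces on the octad exactly its alternating group. -/
theorem result (o : Finset Cfsg.GolayPt) (ho : o ∈ Cfsg.octads) : {e : Equiv.Perm ↥o | ∃ g : Equiv.Perm Cfsg.GolayPt, g ∈ Cfsg.M24 ∧ ∃ h : (∀ x, g x ∈ o ↔ x ∈ o), g.subtypePerm h = e} = (alternatingGroup ↥o : Set (Equiv.Perm ↥o)) := by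
  ext e
  rw [SetLike.mem_coe, ← range_restr ho, MonoidHom.mem_range]
  constructor
  · rintro ⟨g, hg, h, rfl⟩
    have hgo : g • o = o := (smul_eq_iff_forall _ _ _).2 fun q => (h q).symm
    exact ⟨⟨g, hg, hgo⟩, rfl⟩
  · rintro ⟨σ, rfl⟩
    exact ⟨(σ : Equiv.Perm Cfsg.GolayPt), σ.2.1, mem_iff_of_mem σ, rfl⟩

end Cfsg.Agent.S1553
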