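import Cfsg.Statements.S1554
import Cfsg.Agent.Lib.M24Geom.SymSix
import Cfsg.Agent.Lib.Golay.Pointed
import Cfsg.Agent.S1553
-- import your own Cfsg.Agent.* helpers here

set_option autoImplicit false
open scoped Pointwise
open Cfsg

namespace Cfsg.Agent.S1554

open Cfsg.Agent.Lib.Compute Cfsg.Agent.Lib.GolayOrbit Cfsg.Agent.Lib.M24Geom

open Cfsg.Agent.S1553


/-- An octad stabiliser is a split extension: the joint stabiliser of the octad and a point outside it is a complement to the pointwise stabiliser of the octad, and is isomorphic to the alternating group of degree 8. -/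
theorem result (o : Finset Cfsg.GolayPt) (ho : o ∈ Cfsg.octads) (p : Cfsg.GolayPt) (hp : p ∉ o) : (Cfsg.M24 ⊓ fixingSubgroup (Equiv.Perm Cfsg.GolayPt) (o : Set Cfsg.GolayPt)) ⊓ (Cfsg.M24 ⊓ MulAction.stabilizer (Equiv.Perm Cfsg.GolayPt) o ⊓ MulAction.stabilizer (Equiv.Perm Cfsg.GolayPt) p) = ⊥ ∧ (Cfsg.M24 ⊓ fixingSubgroup (Equiv.Perm Cfsg.GolayPt) (o : Set Cfsg.GolayPt)) ⊔ (Cfsg.M24 ⊓ MulAction.stabilizer (Equiv.Perm Cfsg.GolayPt) o ⊓ MulAction.stabilizer (Equiv.Perm Cfsg.GolayPt) p) = (Cfsg.M24 ⊓ MulAction.stabilizer (Equiv.Perm Cfsg.GolayPt) o) ∧ Nonempty (↥(Cfsg.M24 ⊓ MulAction.stabilizer (Equiv.Perm Cfsg.GolayPt) o ⊓ MulAction.stabilizer (Equiv.Perm Cfsg.GolayPt) p) ≃* alternatingGroup (Fin 8)) := by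
  obtain ⟨g, hg, hgo, hgp⟩ := exists_to_octOut ho hp
  set K := Cfsg.M24 ⊓ MulAction.stabilizer (Equiv.Perm Cfsg.GolayPt) o ⊓
    MulAction.stabilizer (Equiv.Perm Cfsg.GolayPt) p with hK
  set F := Cfsg.M24 ⊓ fixingSubgroup (Equiv.Perm Cfsg.GolayPt) (o : Set Cfsg.GolayPt) with hF
  have hconj : ∀ σ : Equiv.Perm Cfsg.GolayPt, σ ∈ Cfsg.M24 ↔ g * σ * g⁻¹ ∈ Cfsg.M24 := fun σ =>
    ⟨fun h => mul_mem (mul_mem hg h) (inv_mem hg), fun h => by
      simpa [mul_assoc] using mul_mem (mul_mem (inv_mem hg) h) hg⟩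
  have hKc : Nat.card K = 20160 := by
    rw [← oct_tables.2.2.2.2, ← card_gpGrp octOutCert_chk]
    refine Nat.card_congr (Equiv.subtypeEquiv (MulAut.conj g).toEquiv fun σ => ?_)
    show _ ↔ g * σ * g⁻¹ ∈ gpGrp octOutCert
    rw [mem_octOutCert, ← hgo, mul_smul, inv_smul_smul, mul_smul, smul_left_cancel_iff, ← hgp,
      Equiv.Perm.mul_apply, Equiv.Perm.mul_apply, Equiv.Perm.coe_inv, Equiv.symm_apply_apply,
      g.injective.eq_iff, ← hconj σ, hK]
    exact and_assoc
  have hFo : F ≤ Cfsg.M24 ⊓ MulAction.stabilizer (Equiv.Perm Cfsg.GolayPt) o := fun σ hσ => by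
    refine ⟨hσ.1, (smul_eq_iff_forall _ _ _).2 fun q => ?_⟩
    have h2 := (mem_fixingSubgroup_iff _).1 hσ.2
    refine ⟨fun h => by rw [show σ q = q from h2 q h]; exact h, fun h => ?_⟩
    have := h2 _ h
    rwa [σ.injective this] at h
  have hbot : F ⊓ K = ⊥ := by
    rw [eq_bot_iff]
    intro σ hσ
    have h1 := Nat.card_eq_one_iff_unique.1 ((card_fix (S := 5311) (s := insert p o) hg (by
      rw [Finset.smul_finset_insert, oct_tables.2.2.1, hgo, Equiv.Perm.smul_def, hgp]; rfl)).trans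
      oct_tables.2.1)
    obtain ⟨hsub, -⟩ := h1
    have := hsub.elim ⟨σ, hσ.1.1, fun q hq => by
      rcases Finset.mem_insert.1 hq with rfl | hq
      · exact hσ.2.2
      · exact (mem_fixingSubgroup_iff _).1 hσ.1.2 q hq⟩ ⟨1, one_mem _, fun _ _ => rfl⟩
    exact Subgroup.mem_bot.2 (congrArg Subtype.val this)
  let ι : ↥K →* ↥(octStab o) := Subgroup.inclusion inf_le_left
  have hinj : Function.Injective ((restr o).comp ι) := by
    rw [injective_iff_map_eq_one]
    intro σ hσ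
    have h : (σ : Equiv.Perm Cfsg.GolayPt) ∈ F ⊓ K :=
      ⟨⟨σ.2.1.1, (mem_fixingSubgroup_iff _).2 (restr_eq_one.1 hσ)⟩, σ.2⟩
    rw [hbot] at h
    exact Subtype.ext (Subgroup.mem_bot.1 h)
  have hrange : ((restr o).comp ι).range = alternatingGroup ↥o := by
    refine Subgroup.eq_of_le_of_card_ge (fun x hx => ?_) ?_
    · obtain ⟨σ, rfl⟩ := hx
      rw [← range_restr ho]
      exact ⟨ι σ, rfl⟩
    · rw [← Nat.card_congr (MonoidHom.ofInjective hinj).toEquiv, hKc, ← range_restr ho,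
        ← Nat.card_congr (QuotientGroup.quotientKerEquivRange (restr o)).toEquiv]
      have h := Subgroup.card_eq_card_quotient_mul_card_subgroup (restr o).ker
      rw [card_octStab ho, card_ker ho] at h
      omega
  refine ⟨hbot, ?_, ?_⟩
  · refine le_antisymm (sup_le hFo inf_le_left) fun σ hσ => ?_
    have : restr o ⟨σ, hσ⟩ ∈ ((restr o).comp ι).range := by
      rw [hrange, ← range_restr ho]
      exact ⟨_, rfl⟩
    obtain ⟨k, hk⟩ := this
    have hker : restr o (⟨σ, hσ⟩ * (ι k)⁻¹) = 1 := by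
      rw [map_mul, map_inv, ← hk, MonoidHom.comp_apply, mul_inv_cancel]
    have hmem : σ * (k : Equiv.Perm Cfsg.GolayPt)⁻¹ ∈ F :=
      ⟨Subgroup.mul_mem Cfsg.M24 hσ.1 (Subgroup.inv_mem Cfsg.M24 k.2.1.1), (mem_fixingSubgroup_iff _).2 (restr_eq_one.1 hker)⟩
    have := mul_mem (Subgroup.mem_sup_left (T := K) hmem) (Subgroup.mem_sup_right k.2)
    simpa [mul_assoc] using this
  · have h8 : Fintype.card ↥o = 8 := by
      rw [Fintype.card_coe]
      obtain ⟨g', -, he⟩ := exists_to_baseOctad ho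
      rw [← Finset.card_smul_finset g', he]
      decide +kernel
    let e := (Fintype.equivFinOfCardEq h8).permCongrHom
    let e1 : ↥K ≃* ↥(alternatingGroup ↥o) :=
      (MonoidHom.ofInjective hinj).trans (MulEquiv.subgroupCongr hrange)
    exact ⟨e1.trans ((e.subgroupMap (alternatingGroup ↥o)).trans (MulEquiv.subgroupCongr (by
      ext x
      rw [Subgroup.mem_map]
      constructor
      · rintro ⟨y, hy, rfl⟩
        rw [Equiv.Perm.mem_alternatingGroup] at hy ⊢
        simpa [e] using hy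
      · intro hx
        refine ⟨e.symm x, ?_, e.apply_symm_apply x⟩
        rw [Equiv.Perm.mem_alternatingGroup] at hx ⊢
        simpa [e] using hx)))⟩

end Cfsg.Agent.S1554
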