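import Cfsg.Statements.S5394
import Cfsg.Agent.Lib.ThreeTransp.M24Involutions

set_option autoImplicit false
open Cfsg

namespace Cfsg.Agent.S5394

open Cfsg.Agent.Lib.Compute Cfsg.Agent.Lib.ThreeTransp
open scoped Pointwise

theorem sq_of_order {g : Equiv.Perm GolayPt} (h : orderOf g = 2) : g * g = 1 ∧ g ≠ 1 := by
  refine ⟨by rw [← pow_two, ← h, pow_orderOf_eq_one], fun e => ?_⟩
  rw [e, orderOf_one] at h
  exact absurd h (by norm_num)

theorem order_of_sq {g : Equiv.Perm GolayPt} (h : g * g = 1) (hne : g ≠ 1) : orderOf g = 2 :=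
  orderOf_eq_prime (by rw [pow_two, h]) hne

theorem filter_conj {g r k : Equiv.Perm GolayPt} (h : k * g * k⁻¹ = r) :
    (Finset.univ.filter fun p => g p = p) = k⁻¹ • (Finset.univ.filter fun p => r p = p) := by
  ext p
  rw [mem_smul_finset_iff]
  simp only [Finset.mem_filter, Finset.mem_univ, true_and, ← h, Equiv.Perm.mul_apply]
  simp [Equiv.Perm.inv_def]

theorem rep8_filter : (Finset.univ.filter fun p => rep8 p = p) = setOf24 fixMask8 := by
  ext p; simp [rep8_fixed p]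

/-- The automorphism group of the length-24 code built from the squares modulo 23 has exactly two conjugacy classes of involutions: an involution either fixes exactly the eight points of an octad or has no fixed points, both kinds occur, and any two involutions of the same kind are conjugate in the group. -/
theorem result : (∀ g ∈ Cfsg.M24, orderOf g = 2 → (Finset.univ.filter fun p => g p = p) ∈ Cfsg.octads ∨ ∀ p, g p ≠ p) ∧ (∃ g ∈ Cfsg.M24, orderOf g = 2 ∧ (Finset.univ.filter fun p => g p = p) ∈ Cfsg.octads) ∧ (∃ g ∈ Cfsg.M24, orderOf g = 2 ∧ ∀ p, g p ≠ p) ∧ ∀ g ∈ Cfsg.M24, ∀ h ∈ Cfsg.M24, orderOf g = 2 → orderOf h = 2 → ((∀ p, g p ≠ p) ↔ (∀ p, h p ≠ p)) → ∃ k ∈ Cfsg.M24, k * g * k⁻¹ = h := by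
  classical
  have hclass : ∀ g ∈ M24, orderOf g = 2 →
      (∃ k ∈ M24, k * g * k⁻¹ = rep8 ∧ (Finset.univ.filter fun p => g p = p) ∈ octads ∧
          ¬ ∀ p, g p ≠ p) ∨
      (∃ k ∈ M24, k * g * k⁻¹ = rep0 ∧ ∀ p, g p ≠ p) := by
    intro g hg hord
    obtain ⟨h2, hne⟩ := sq_of_order hord
    obtain ⟨k, hk, h | h⟩ := involution_conj hg h2 hne
    · have hf := filter_conj h
      rw [rep8_filter] at hf
      have hoct : (Finset.univ.filter fun p => g p = p) ∈ octads :=
        hf ▸ smul_mem_octads (inv_mem hk) fixMask8_octad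
      refine Or.inl ⟨k, hk, h, hoct, fun hall => ?_⟩
      have h8 := card_of_mem_octads hoct
      rw [Finset.filter_false_of_mem fun p _ => hall p] at h8
      simp at h8
    · refine Or.inr ⟨k, hk, h, fun p hp => rep0_fixed (k p) ?_⟩
      rw [← h, Equiv.Perm.mul_apply, Equiv.Perm.mul_apply]
      simp [Equiv.Perm.inv_def, hp]
  refine ⟨fun g hg hord => ?_, ?_, ?_, fun g hg h hh hgo hho hiff => ?_⟩
  · rcases hclass g hg hord with ⟨k, -, -, ho, -⟩ | ⟨k, -, -, hf⟩
    exacts [Or.inl ho, Or.inr hf]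
  · refine ⟨rep8, rep8_mem.1, order_of_sq rep8_mem.2 fun e => ?_, ?_⟩
    · have h8 := card_of_mem_octads fixMask8_octad
      rw [← rep8_filter, e] at h8
      simp at h8
    · rw [rep8_filter]; exact fixMask8_octad
  · refine ⟨rep0, rep0_mem.1, order_of_sq rep0_mem.2 fun e => ?_, rep0_fixed⟩
    exact rep0_fixed none (by rw [e]; rfl)
  · have fin : ∀ {r a b : Equiv.Perm GolayPt}, a * g * a⁻¹ = r → b * h * b⁻¹ = r → a ∈ M24 →
        b ∈ M24 → ∃ k ∈ M24, k * g * k⁻¹ = h := by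
      intro r a b e1 e2 ha hb
      refine ⟨b⁻¹ * a, mul_mem (inv_mem hb) ha, ?_⟩
      rw [show b⁻¹ * a * g * (b⁻¹ * a)⁻¹ = b⁻¹ * (a * g * a⁻¹) * b by group, e1, ← e2]
      group
    rcases hclass g hg hgo with ⟨a, ha, e1, -, n1⟩ | ⟨a, ha, e1, f1⟩
    · rcases hclass h hh hho with ⟨b, hb, e2, -, -⟩ | ⟨b, hb, e2, f2⟩
      · exact fin e1 e2 ha hb
      · exact absurd (hiff.mpr f2) n1
    · rcases hclass h hh hho with ⟨b, hb, e2, -, n2⟩ | ⟨b, hb, e2, -⟩
      · exact absurd (hiff.mp f1) n2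
      · exact fin e1 e2 ha hb

end Cfsg.Agent.S5394
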