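import Cfsg.Statements.S5615
import Cfsg.Agent.Lib.M24Geom.TrioKernel
import Cfsg.Agent.Lib.M24Geom.Conj
import Cfsg.Agent.Lib.M24Geom.SymSix
import Cfsg.Agent.Lib.Golay.Trios
-- import your own Cfsg.Agent.* helpers here

set_option autoImplicit false
open scoped Pointwise
open Cfsg

namespace Cfsg.Agent.S5615

open Cfsg.Agent.Lib.Compute Cfsg.Agent.Lib.GolayOrbit Cfsg.Agent.Lib.M24Geom

theorem trio15_table : (trioTree.keys.countP fun k => (unpack 3 k).contains oct0) = 15 ∧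
    trioStep1Tree.keys.length = 15 ∧
    trioStep1Tree.allNodes (fun k _ _ _ => (unpack 3 k).contains oct0 && trioTree.mem k) = true ∧
    trioTree.allNodes (fun k _ _ _ => !((unpack 3 k).contains oct0) || trioStep1Tree.mem k) = true ∧
    trioStep1Tree.allNodes (fun k _ _ _ => Nat.beq k trioStep1Key || trioSecond.mem k) = true ∧
    [trioStep1Key, trioStep2Key, trioStep3Key, trioStep4Key].all (fun k => trioStep1Tree.mem k) = true ∧
    (trioStep4Gens.all fun G => trioStep1Tree.allNodes fun k _ _ _ => (familyCoding 3).img G k == k) = true ∧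
    (trioStep4Gens.all fun G => (List.range 24).all fun i => !(oct0.testBit i) || app G.1 i == i) = true ∧
    certOrder trioStep4Cert = 16 ∧ patternCount 24 (fixPts oct0) [] m24Cert id = 16 := by
  decide +kernel

/-- The trios containing an octad, carried to the base octad. -/
theorem mem_trios_oct {o : Finset GolayPt} {g : Equiv.Perm GolayPt} (hg : g ∈ M24)
    (he : g • o = setOf24 oct0) (T : Finset (Finset GolayPt)) :
    (T ∈ trios ∧ o ∈ T) ↔ ∃ k ∈ trioStep1Tree.keys, g • T = (familyCoding 3).dec k := by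
  obtain ⟨-, -, hsub, hcov, -⟩ := trio15_table
  constructor
  · rintro ⟨hT, ho⟩
    obtain ⟨k, hk, hke⟩ := exists_trio_key (smul_mem_trios hg hT)
    have hok : setOf24 oct0 ∈ (familyCoding 3).dec k := by
      rw [hke, ← he]; exact Finset.smul_mem_smul_finset ho
    obtain ⟨m, hm, hme⟩ := mem_family.1 hok
    have hmo : m = oct0 := setOf24_injOn (lt_of_mem_unpack hm)
      (lt_of_mem_octadList oct0_mem) hme
    obtain ⟨p, q, d, hn⟩ := OTree.mem_keys_iff.1 hk
    have := OTree.of_allNodes hcov hn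
    simp only [Bool.or_eq_true, Bool.not_eq_true', ← hmo] at this
    exact ⟨k, OTree.mem_keys_of_mem (this.resolve_left fun h => by
      rw [List.contains_iff_mem.2 hm] at h; exact Bool.noConfusion h), hke.symm⟩
  · rintro ⟨k, hk, hke⟩
    obtain ⟨p, q, d, hn⟩ := OTree.mem_keys_iff.1 hk
    have := OTree.of_allNodes hsub hn
    simp only [Bool.and_eq_true, List.contains_iff_mem] at this
    have hk' : g • T ∈ trios := by
      rw [hke, trios_eq_dec]; exact ⟨k, OTree.mem_keys_of_mem this.2, rfl⟩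
    refine ⟨by simpa using smul_mem_trios (inv_mem hg) hk', ?_⟩
    rw [← Finset.smul_mem_smul_finset_iff g, he, hke]
    exact mem_family.2 ⟨oct0, this.1, rfl⟩

theorem fixed_keys {σ : Equiv.Perm GolayPt} :
    (σ ∈ M24 ∧ σ • setOf24 oct0 = setOf24 oct0 ∧
      ∀ k ∈ trioStep1Tree.keys, σ • (familyCoding 3).dec k = (familyCoding 3).dec k) ↔
      (σ ∈ M24 ∧ ∀ p ∈ setOf24 oct0, σ p = p) := by
  obtain ⟨-, -, -, -, -, hkeys, hfixT, hfix8, h16, hpat⟩ := trio15_table
  have hle : gpGrp trioStep4Cert ≤ gpGrp octCert :=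
    ((trioStep4_stab.le.trans trioStep3_stab.le).trans trioStep2_stab.le).trans trioStep1_stab.le
  have hgood : ∀ k ∈ trioStep1Tree.keys, (familyCoding 3).good k = true :=
    fun k hk => good_keys _ octCert_gensFor trioStep1_stab.orb hk
  have hfixp : ∀ τ ∈ gpGrp trioStep4Cert, ∀ p ∈ setOf24 oct0, τ p = p := by
    intro τ hτ
    have h : gpGrp trioStep4Cert ≤ fixingSubgroup (Equiv.Perm GolayPt) (setOf24 oct0 : Set GolayPt) := by
      refine gpGrp_le_of_gensFor trioStep4_gensFor fun G hG => ?_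
      rw [mem_fixingSubgroup_iff]
      intro p hp
      show genPerm G p = p
      simp only [List.all_eq_true, List.mem_range, Bool.or_eq_true, Bool.not_eq_true', beq_iff_eq] at hfix8
      apply enc.injective
      apply Fin.ext
      rw [genPerm, enc_toGP, (trioStep4_gensFor.valid G hG).1.repr]
      exact (hfix8 G hG (enc p) (enc p).isLt).resolve_left
        (by simpa [mem_setOf24] using mem_setOf24.1 (Finset.mem_coe.1 hp))
    exact (mem_fixingSubgroup_iff _).1 (h hτ)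
  have hfixK : ∀ τ ∈ gpGrp trioStep4Cert, ∀ k ∈ trioStep1Tree.keys,
      τ • (familyCoding 3).dec k = (familyCoding 3).dec k := by
    intro τ hτ k hk
    refine (gpGrp_le_of_gensFor trioStep4_gensFor
      (K := MulAction.stabilizer (Equiv.Perm GolayPt) ((familyCoding 3).dec k)) fun G hG => ?_) hτ
    simp only [List.all_eq_true] at hfixT
    obtain ⟨p, q, d, hn⟩ := OTree.mem_keys_iff.1 hk
    show genPerm G • _ = _
    rw [← (familyCoding 3).spec G k (trioStep4_gensFor.valid G hG) (hgood k hk),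
      beq_iff_eq.1 (OTree.of_allNodes (hfixT G hG) hn)]
  constructor
  · rintro ⟨hσ, ho, hall⟩
    refine ⟨hσ, hfixp σ ?_⟩
    simp only [List.all_eq_true] at hkeys
    have hk : ∀ {k}, k ∈ [trioStep1Key, trioStep2Key, trioStep3Key, trioStep4Key] →
        σ • (familyCoding 3).dec k = (familyCoding 3).dec k :=
      fun hk => hall _ (OTree.mem_keys_of_mem (hkeys _ hk))
    rw [trioStep4_stab.stab_iff, trioStep3_stab.stab_iff, trioStep2_stab.stab_iff,
      trioStep1_stab.stab_iff, mem_octCert]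
    exact ⟨⟨⟨⟨⟨hσ, ho⟩, hk (by simp)⟩, hk (by simp)⟩, hk (by simp)⟩, hk (by simp)⟩
  · rintro ⟨hσ, hp⟩
    have hsub : gpGrp trioStep4Cert ≤
        M24 ⊓ fixingSubgroup (Equiv.Perm GolayPt) (setOf24 oct0 : Set GolayPt) := fun τ hτ =>
      ⟨(mem_octCert.1 (hle hτ)).1, (mem_fixingSubgroup_iff _).2 (hfixp τ hτ)⟩
    have heq := Subgroup.eq_of_le_of_card_ge hsub (by
      rw [card_gpGrp trioStep4Cert_chk, h16, ← hpat, ← card_pointFits]
      refine le_of_eq (Nat.card_congr (Equiv.subtypeEquivRight fun τ => ?_))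
      show _ ∧ _ ↔ _ ∧ PointFits (fixPts oct0) ([].map fun m => (m, m)) τ
      rw [pointFits_fix]
      simp [mem_fixingSubgroup_iff])
    have hmem : σ ∈ gpGrp trioStep4Cert := by
      rw [heq]; exact ⟨hσ, (mem_fixingSubgroup_iff _).2 hp⟩
    exact ⟨hσ, (mem_octCert.1 (hle hmem)).2, hfixK σ hmem⟩

theorem two_transitive {o : Finset GolayPt} {g : Equiv.Perm GolayPt} (hg : g ∈ M24)
    (he : g • o = setOf24 oct0) {T₁ T₂ : Finset (Finset GolayPt)} (h1 : T₁ ∈ trios ∧ o ∈ T₁)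
    (h2 : T₂ ∈ trios ∧ o ∈ T₂) (hne : T₁ ≠ T₂) :
    ∃ h ∈ M24, h • o = setOf24 oct0 ∧ h • T₁ = (familyCoding 3).dec trioStep1Key ∧
      h • T₂ = (familyCoding 3).dec trioSecondRep := by
  obtain ⟨-, -, -, -, hcov, -⟩ := trio15_table
  obtain ⟨a, ha, hae⟩ := (mem_trios_oct hg he T₁).1 h1
  obtain ⟨σ, hσ, hσe⟩ := trioStep1_stab.exists_to_base ha
  obtain ⟨hσM, hσo⟩ := mem_octCert.1 hσ
  have hg' : σ * g ∈ M24 := mul_mem hσM hg
  have he' : (σ * g) • o = setOf24 oct0 := by rw [mul_smul, he]; exact hσo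
  have hT1 : (σ * g) • T₁ = (familyCoding 3).dec trioStep1Key := by rw [mul_smul, hae, hσe]
  obtain ⟨b, hb, hbe⟩ := (mem_trios_oct hg' he' T₂).1 h2
  have hb0 : b ≠ trioStep1Key := fun e => hne (smul_left_cancel (σ * g) (by rw [hT1, hbe, e]))
  obtain ⟨p, q, d, hn⟩ := OTree.mem_keys_iff.1 hb
  have hb2 := OTree.of_allNodes hcov hn
  simp only [Bool.or_eq_true] at hb2
  obtain ⟨τ, hτ, hτe⟩ := (orbit_iff (familyCoding 3) trioStep1_gensFor trioSecond_ok _).2
    ⟨b, OTree.mem_keys_of_mem (hb2.resolve_left fun h => hb0 (Nat.eq_of_beq_eq_true h)), rfl⟩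
  obtain ⟨hτc, hτ1⟩ := (trioStep1_stab.stab_iff _).1 (inv_mem hτ)
  obtain ⟨hτM, hτo⟩ := mem_octCert.1 hτc
  refine ⟨τ⁻¹ * (σ * g), mul_mem hτM hg', by rw [mul_smul, he']; exact hτo,
    by rw [mul_smul, hT1, hτ1], ?_⟩
  rw [mul_smul, hbe, inv_smul_eq_iff]
  exact hτe.symm


/-- An octad of the length-24 code lies in exactly 15 trios; the stabiliser of the octad in the code's group acts doubly transitively on these 15 trios, and the kernel of this action is the pointwise stabiliser of the octad. -/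
theorem result (o : Finset Cfsg.GolayPt) (ho : o ∈ Cfsg.octads) : {T : Finset (Finset Cfsg.GolayPt) | T ∈ Cfsg.trios ∧ o ∈ T}.ncard = 15 ∧ (∀ T₁ T₂ T₁' T₂' : Finset (Finset Cfsg.GolayPt), T₁ ∈ Cfsg.trios → T₂ ∈ Cfsg.trios → T₁' ∈ Cfsg.trios → T₂' ∈ Cfsg.trios → o ∈ T₁ → o ∈ T₂ → o ∈ T₁' → o ∈ T₂' → T₁ ≠ T₂ → T₁' ≠ T₂' → ∃ g ∈ Cfsg.M24, g • o = o ∧ g • T₁ = T₁' ∧ g • T₂ = T₂') ∧ ∀ g ∈ Cfsg.M24, g • o = o → ((∀ T ∈ Cfsg.trios, o ∈ T → g • T = T) ↔ ∀ p ∈ o, g p = p) := by
  obtain ⟨g, hg, he⟩ := exists_to_baseOctad ho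
  have he : g • o = setOf24 oct0 := he
  refine ⟨?_, fun T₁ T₂ T₁' T₂' h1 h2 h1' h2' ho1 ho2 ho1' ho2' hne hne' => ?_, fun σ hσ hσo => ?_⟩
  · have hset : {T : Finset (Finset Cfsg.GolayPt) | T ∈ Cfsg.trios ∧ o ∈ T} =
        g⁻¹ • ((familyCoding 3).dec '' {k | k ∈ trioStep1Tree.keys}) := by
      ext T
      rw [Set.mem_smul_set_iff_inv_smul_mem, inv_inv]
      exact (mem_trios_oct hg he T).trans
        ⟨fun ⟨k, hk, e⟩ => ⟨k, hk, e.symm⟩, fun ⟨k, hk, e⟩ => ⟨k, hk, e.symm⟩⟩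
    rw [hset, Set.ncard_smul_set, Set.InjOn.ncard_image, ← List.coe_toFinset, Set.ncard_coe_finset,
      List.toFinset_card_of_nodup (nodup_of_incr trioStep1_stab.keys_incr), trio15_table.2.1]
    intro a ha b hb e
    exact (familyCoding 3).inj a b (good_keys _ octCert_gensFor trioStep1_stab.orb ha)
      (good_keys _ octCert_gensFor trioStep1_stab.orb hb) e
  · obtain ⟨a, ha, hao, ha1, ha2⟩ := two_transitive hg he ⟨h1, ho1⟩ ⟨h2, ho2⟩ hne
    obtain ⟨b, hb, hbo, hb1, hb2⟩ := two_transitive hg he ⟨h1', ho1'⟩ ⟨h2', ho2'⟩ hne'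
    refine ⟨b⁻¹ * a, mul_mem (inv_mem hb) ha, ?_, ?_, ?_⟩ <;> rw [mul_smul, inv_smul_eq_iff]
    · rw [hao, hbo]
    · rw [ha1, hb1]
    · rw [ha2, hb2]
  · have h := fixed_keys (σ := g * σ * g⁻¹)
    have hM : g * σ * g⁻¹ ∈ Cfsg.M24 := mul_mem (mul_mem hg hσ) (inv_mem hg)
    simp only [hM, true_and] at h
    have hco : (g * σ * g⁻¹) • setOf24 oct0 = setOf24 oct0 := by
      rw [← he, mul_smul, inv_smul_smul, mul_smul, hσo]
    simp only [hco, true_and] at h
    constructor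
    · intro hall p hp
      have := h.1 (fun k hk => by
        have hT := (mem_trios_oct hg he (g⁻¹ • (familyCoding 3).dec k)).2 ⟨k, hk, smul_inv_smul _ _⟩
        rw [mul_smul, mul_smul, hall _ hT.1 hT.2, smul_inv_smul]) (g p)
        (he ▸ Finset.smul_mem_smul_finset hp)
      simpa using this
    · intro hp T hT hoT
      obtain ⟨k, hk, hke⟩ := (mem_trios_oct hg he T).1 ⟨hT, hoT⟩
      have := h.2 (fun q hq => by
        rw [← he, ← Finset.inv_smul_mem_iff] at hq
        rw [Equiv.Perm.mul_apply, Equiv.Perm.mul_apply, show σ (g⁻¹ q) = g⁻¹ q from hp _ hq,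
          ← Equiv.Perm.mul_apply, mul_inv_cancel, Equiv.Perm.one_apply]) k hk
      rw [← hke, mul_smul, inv_smul_smul, mul_smul] at this
      exact smul_left_cancel g this

end Cfsg.Agent.S5615
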