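import Cfsg.Statements.S1996
import Cfsg.Agent.Lib.FusionControl.SectionHyp

set_option autoImplicit false
universe u
open Cfsg

namespace Cfsg.Agent.S1996

/-- Let p be a prime, G a finite group and W₁, W₂ two isomorphism-invariant p-group functors (W assigns to every group Q a subgroup W(Q), nontrivial whenever Q is a nontrivial finite p-group, and every isomorphism from a finite p-group Q onto a group R carries W(Q) onto W(R)). Suppose that G* = N_{G*}(W₁(S*)) N_{G*}(W₂(S*)) whenever G* = K/R is a section of G with C_{G*}(O_p(G*)) ≤ O_p(G*) and S* is a Sylow p-subgroup of G*. Then the pair {W₁, W₂} controls strong fusion in G. -/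
theorem result {G : Type u} [Group G] [Finite G] {p : ℕ} [Fact p.Prime] (W₁ W₂ : ∀ (Q : Type u) [Group Q], Subgroup Q) (hW₁ : Cfsg.IsCharPFunctor.{u} p W₁) (hW₂ : Cfsg.IsCharPFunctor.{u} p W₂) (hfac : ∀ (K R : Subgroup G) [hR : (R.subgroupOf K).Normal], Subgroup.centralizer ((Cfsg.pCore p (↥K ⧸ R.subgroupOf K) : Subgroup (↥K ⧸ R.subgroupOf K)) : Set (↥K ⧸ R.subgroupOf K)) ≤ Cfsg.pCore p (↥K ⧸ R.subgroupOf K) → ∀ T : Sylow p (↥K ⧸ R.subgroupOf K), ∀ x : (↥K ⧸ R.subgroupOf K), ∃ a ∈ Subgroup.normalizer ((Cfsg.inducedFunctor (G := (↥K ⧸ R.subgroupOf K)) W₁ (T : Subgroup (↥K ⧸ R.subgroupOf K)) : Subgroup (↥K ⧸ R.subgroupOf K)) : Set (↥K ⧸ R.subgroupOf K)), ∃ b ∈ Subgroup.normalizer ((Cfsg.inducedFunctor (G := (↥K ⧸ R.subgroupOf K)) W₂ (T : Subgroup (↥K ⧸ R.subgroupOf K)) : Subgroup (↥K ⧸ R.subgroupOf K)) : Set (↥K ⧸ R.subgroupOf K)), x = a * b) : Cfsg.FamilyControlsStrongFusionIn p {Cfsg.inducedFunctor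 (G := G) W₁, Cfsg.inducedFunctor (G := G) W₂} ⊤ := by
  open Cfsg.Agent.Lib.FusionControl in
  let 𝓦 : Set (∀ (Q : Type u) [Group Q], Subgroup Q) := {W₁, W₂}
  have h𝓦 : ∀ W ∈ 𝓦, Cfsg.IsCharPFunctor.{u} p W := by
    rintro W (rfl | rfl)
    · exact hW₁
    · exact hW₂
  have hmain := strongFusion_of_hloc (G := G) (𝓦 := 𝓦) h𝓦 (fun K R _ h => ?_) G involves_self
  · have e : indSet G 𝓦 = {Cfsg.inducedFunctor (G := G) W₁, Cfsg.inducedFunctor (G := G) W₂} := Set.image_pair _ _ _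
    rwa [← e]
  obtain ⟨T⟩ : Nonempty (Sylow p (↥K ⧸ R.subgroupOf K)) := inferInstance
  set Y := ↥K ⧸ R.subgroupOf K
  set N1 := Subgroup.normalizer ((Cfsg.inducedFunctor W₁ (T : Subgroup Y) : Subgroup Y) : Set Y) with hN1
  set N2 := Subgroup.normalizer ((Cfsg.inducedFunctor W₂ (T : Subgroup Y) : Subgroup Y) : Set Y) with hN2
  have hT : (T : Subgroup Y) ≤ N1 ⊓ N2 :=
    le_inf (le_normalizer_inducedFunctor hW₁ T.2) (le_normalizer_inducedFunctor hW₂ T.2)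
  rw [family_iff]
  refine ⟨T, le_top, T.2, sylow_relIndex_top T, fun A g _ hA hgA => ?_⟩
  obtain ⟨a, ha, b, hb, rfl⟩ := hfac K R h T g
  have hR : cj b (Subgroup.closure A) ≤ N1 ⊓ N2 := by
    rw [cj, MonoidHom.map_closure, Subgroup.closure_le]
    rintro _ ⟨x, hx, rfl⟩
    show b * x * b⁻¹ ∈ N1 ⊓ N2
    refine Subgroup.mem_inf.2 ⟨?_, mul_mem (mul_mem hb ((hT (hA hx)).2)) (inv_mem hb)⟩
    have hy : a * b * x * (a * b)⁻¹ ∈ N1 := (hT (hgA ⟨x, hx, rfl⟩)).1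
    rw [show b * x * b⁻¹ = a⁻¹ * (a * b * x * (a * b)⁻¹) * a by group]
    exact mul_mem (mul_mem (inv_mem ha) hy) ha
  obtain ⟨d, hd, hle⟩ := exists_cj_le_of_not_dvd hT T.2 (not_dvd_relIndex_of_le T hT) hR
    (isPGroup_cj (T.2.to_le ((Subgroup.closure_le _).2 hA)))
  have hmid : cs (d * b) A ⊆ ((T : Subgroup Y) : Set Y) := by
    rintro _ ⟨x, hx, rfl⟩
    rw [cj_cj] at hle
    exact hle (conj_mem_cj (Subgroup.subset_closure hx))
  have hd1 : d ∈ N1 := (Subgroup.mem_inf.1 hd).1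
  have hd2 : d ∈ N2 := (Subgroup.mem_inf.1 hd).2
  have hdb : d * b ∈ N2 := mul_mem hd2 hb
  have had : a * d⁻¹ ∈ N1 := mul_mem ha (inv_mem hd1)
  have h1 : Reach (T : Subgroup Y) (stepSet (indSet Y 𝓦) ⊤ (T : Subgroup Y)) A (d * b) :=
    .step (Or.inr ⟨_, ⟨W₂, Or.inr rfl, rfl⟩, Subgroup.mem_top _, hdb⟩) hA hmid (fun a _ => rfl)
  have h2 : Reach (T : Subgroup Y) (stepSet (indSet Y 𝓦) ⊤ (T : Subgroup Y)) (cs (d * b) A) (a * d⁻¹) :=
    .step (Or.inr ⟨_, ⟨W₁, Or.inl rfl, rfl⟩, Subgroup.mem_top _, had⟩) hmid (by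
      rw [cs_cs, show a * d⁻¹ * (d * b) = a * b by group]; exact hgA) (fun a _ => rfl)
  have := Reach.comp h1 h2
  rwa [show a * d⁻¹ * (d * b) = a * b by group] at this

end Cfsg.Agent.S1996
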