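import Cfsg.Statements.S2590
import Mathlib
import Cfsg.Agent.Lib.Similar.OrthConj
import Cfsg.Agent.Lib.Similar.GL

set_option autoImplicit false
open Cfsg

namespace Cfsg.Agent.S2590

open Cfsg.Agent.Lib.Similar
open QuadraticMap (polarBilin)

variable {F : Type*} [Field F] {ι : Type} [Fintype ι] [DecidableEq ι]

/-- Similar isometries of odd order prime to the characteristic are conjugate. -/
theorem isConj_isometryGroup [Finite F] (Q : QuadraticForm F (ι → F)) (hQ : (polarBilin Q).Nondegenerate)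
    (A B : ↥(Cfsg.isometryGroup F ⇑Q)) {n : ℕ} (hn : Odd n) (hnF : (n : F) ≠ 0) (hAn : A ^ n = 1)
    {G : Matrix ι ι F} (hG : IsUnit G)
    (h : G * ((A : Matrix.GeneralLinearGroup ι F) : Matrix ι ι F) = ((B : Matrix.GeneralLinearGroup ι F) : Matrix ι ι F) * G) :
    IsConj A B := by
  obtain ⟨c, rfl⟩ := hG
  obtain ⟨a, ha⟩ : ∃ a : Module.End F (ι → F), a = Matrix.toLinAlgEquiv' ((A : Matrix.GeneralLinearGroup ι F) : Matrix ι ι F) := ⟨_, rfl⟩
  obtain ⟨b, hb⟩ : ∃ b : Module.End F (ι → F), b = Matrix.toLinAlgEquiv' ((B : Matrix.GeneralLinearGroup ι F) : Matrix ι ι F) := ⟨_, rfl⟩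
  have hav : ∀ v, a v = ((A : Matrix.GeneralLinearGroup ι F) : Matrix ι ι F).mulVec v := fun v => by rw [ha, Matrix.toLinAlgEquiv'_apply]
  have hbv : ∀ v, b v = ((B : Matrix.GeneralLinearGroup ι F) : Matrix ι ι F).mulVec v := fun v => by rw [hb, Matrix.toLinAlgEquiv'_apply]
  obtain ⟨u, hu, hua⟩ := Orth.exists_conj hQ hn hnF (a := a) (b := b) (G := Matrix.toLinAlgEquiv' (c : Matrix ι ι F))
    (fun v => by rw [hav]; exact A.2 v v) (fun v => by rw [hbv]; exact B.2 v v)
    (by rw [ha, ← map_pow, ← Units.val_pow_eq_pow_val, ← SubmonoidClass.coe_pow, hAn]; simp)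
    (fun v w hvw => by
      have h' := congrArg (((c⁻¹ : Matrix.GeneralLinearGroup ι F) : Matrix ι ι F).mulVec) hvw
      simp only [Matrix.toLinAlgEquiv'_apply, Matrix.mulVec_mulVec, Units.inv_mul, Matrix.one_mulVec] at h'
      exact h')
    (by rw [ha, hb, ← map_mul, ← map_mul, h])
  have hM : ∀ f : (ι → F) ≃ₗ[F] (ι → F), ∀ v, (Cfsg.Agent.Lib.Similar.toGL f : Matrix ι ι F).mulVec v = f v := fun f v => by
    have e := LinearMap.congr_fun (toEnd_toGL f) v
    simpa [toEnd, Matrix.toLinAlgEquiv'_apply] using e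
  refine isConj_iff.2 ⟨⟨toGL u, fun v _ => by show Q ((toGL u : Matrix ι ι F).mulVec v) = Q v; rw [hM]; exact hu v⟩, mul_inv_eq_iff_eq_mul.2 (Subtype.ext (Units.ext ?_))⟩
  refine Matrix.ext_of_mulVec_single fun i => ?_
  show ((toGL u : Matrix ι ι F) * ((A : Matrix.GeneralLinearGroup ι F) : Matrix ι ι F)).mulVec _ =
    (((B : Matrix.GeneralLinearGroup ι F) : Matrix ι ι F) * (toGL u : Matrix ι ι F)).mulVec _
  rw [← Matrix.mulVec_mulVec, ← Matrix.mulVec_mulVec, hM, hM, ← hav, ← hbv, hua]

/-- Two semisimple elements of odd order of a finite orthogonal group (isometry group of a quadratic form on F^n with non-degenerate polar form, F finite of characteristic p; the elements have odd order prime to p) are conjugate in the orthogonal group if and only if they are conjugate in GL_n(F). -/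
theorem result {F : Type*} [Field F] [Fintype F] {p : ℕ} [Fact p.Prime] [CharP F p] {n : ℕ} (Q : QuadraticForm F (Fin n → F)) (hQ : (QuadraticMap.polarBilin Q).Nondegenerate) (A B : ↥(Cfsg.isometryGroup F ⇑Q)) (hodd : Odd (orderOf A)) (hA : (orderOf A).Coprime p) : IsConj A B ↔ IsConj ((A : Matrix.GeneralLinearGroup (Fin n) F) : Matrix (Fin n) (Fin n) F) ((B : Matrix.GeneralLinearGroup (Fin n) F) : Matrix (Fin n) (Fin n) F) := by
  classical
  constructor
  · intro h
    exact ((Units.coeHom _).comp (Cfsg.isometryGroup F ⇑Q).subtype).map_isConj h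
  · rintro ⟨c, hc⟩
    refine isConj_isometryGroup Q hQ A B hodd ?_ (pow_orderOf_eq_one A) c.isUnit hc
    intro h
    rw [CharP.cast_eq_zero_iff F p] at h
    have := Nat.Coprime.coprime_dvd_left h hA
    exact (Fact.out : p.Prime).ne_one (by simpa using this)

end Cfsg.Agent.S2590
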