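import Cfsg.Statements.S2389
import Mathlib
import Cfsg.Agent.Lib.Similar.SympConj
import Cfsg.Agent.Lib.Similar.GL

set_option autoImplicit false
open Cfsg

namespace Cfsg.Agent.S2389

open Polynomial Cfsg.Agent.Lib.Similar

theorem toMat_isUnit {F : Type*} [Field F] {m : ℕ} (A : Matrix.symplecticGroup (Fin m) F) :
    IsUnit (A : Matrix (Fin m ⊕ Fin m) (Fin m ⊕ Fin m) F) :=
  IsUnit.of_mul_eq_one _ (mul_eq_one_comm.1 (Symp.mem_iff.1 A.2))

theorem isConj_of_gl {F : Type*} [Field F] [Fintype F] {p : ℕ} [Fact p.Prime] [CharP F p] {m : ℕ}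
    (A B : Matrix.symplecticGroup (Fin m) F) (hA : (orderOf A).Coprime p) {G : Matrix (Fin m ⊕ Fin m) (Fin m ⊕ Fin m) F} (hG : IsUnit G)
    (h : G * (A : Matrix (Fin m ⊕ Fin m) (Fin m ⊕ Fin m) F) = (B : Matrix (Fin m ⊕ Fin m) (Fin m ⊕ Fin m) F) * G) : IsConj A B := by
  classical
  have hPa : aeval (A : Matrix (Fin m ⊕ Fin m) (Fin m ⊕ Fin m) F) (X ^ orderOf A - 1 : F[X]) = 0 := by
    rw [map_sub, map_pow, map_one, aeval_X, ← SubmonoidClass.coe_pow, pow_orderOf_eq_one, OneMemClass.coe_one, sub_self]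
  obtain ⟨g, hg, hgA⟩ := Symp.exists_symp_conj (Symp.mem_iff.1 A.2) (Symp.mem_iff.1 B.2) (squarefree_X_pow_sub_one hA) hPa hG h
  refine isConj_iff.2 ⟨⟨g, hg⟩, mul_inv_eq_iff_eq_mul.2 (Subtype.ext ?_)⟩
  exact hgA

/-- In the symplectic group `Sp_{2n}(q)`, `q` a power of the prime `p`, two elements of order prime to `p` with the same characteristic polynomial are conjugate in `Sp_{2n}(q)`. -/
theorem result {F : Type*} [Field F] [Fintype F] (p : ℕ) [Fact p.Prime] [CharP F p] (n : ℕ)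
    (g h : ↥(Matrix.symplecticGroup (Fin n) F)) (hg : (orderOf g).Coprime p) (hh : (orderOf h).Coprime p)
    (hc : (g : Matrix (Fin n ⊕ Fin n) (Fin n ⊕ Fin n) F).charpoly = (h : Matrix (Fin n ⊕ Fin n) (Fin n ⊕ Fin n) F).charpoly) :
    IsConj g h := by
  classical
  have hu : ∀ x : Matrix.symplecticGroup (Fin n) F, ∃ u : GL (Fin n ⊕ Fin n) F,
      (u : Matrix (Fin n ⊕ Fin n) (Fin n ⊕ Fin n) F) = (x : Matrix (Fin n ⊕ Fin n) (Fin n ⊕ Fin n) F) ∧ orderOf u = orderOf x := by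
    intro x
    obtain ⟨u, hu⟩ := toMat_isUnit x
    refine ⟨u, hu, ?_⟩
    rw [← orderOf_units, hu]
    exact orderOf_injective (Matrix.symplecticGroup (Fin n) F).subtype Subtype.val_injective x
  obtain ⟨x, hx, hxo⟩ := hu g
  obtain ⟨y, hy, hyo⟩ := hu h
  obtain ⟨c, hcxy⟩ := isConj_iff.1 (isConj_of_charpoly_eq (p := p) (x := x) (y := y) (by rw [hxo]; exact hg) (by rw [hyo]; exact hh)
    (by rw [hx, hy]; exact hc))
  refine isConj_of_gl g h hg c.isUnit ?_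
  rw [← hx, ← hy, ← Units.val_mul, ← Units.val_mul, ← hcxy, inv_mul_cancel_right]

end Cfsg.Agent.S2389
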