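import Cfsg.Statements.S2645
import Mathlib
import Cfsg.Agent.Lib.Similar.OrbitPoly
import Cfsg.Agent.Lib.Similar.SympBlocks
import Cfsg.Agent.S2389

set_option autoImplicit false
open Cfsg

namespace Cfsg.Agent.S2645

open Polynomial Cfsg.Agent.Lib.Similar
open Cfsg.Agent.Lib.SpSpec (Isom)

universe u

variable {F : Type u} [Field F] {r : ℕ}

theorem starP_X_pow_sub_one (hr : 1 ≤ r) : starP (RingHom.id F) (X ^ r - 1 : F[X]) = X ^ r - 1 := by
  have hd : (X ^ r - 1 : F[X]).natDegree = r := by rw [← C_1, natDegree_X_pow_sub_C]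
  have h0 : (X ^ r - 1 : F[X]).coeff 0 = -1 := by simp [coeff_X_pow, show ¬ 0 = r by omega]
  ext i
  rcases Nat.lt_or_ge r i with h | h
  · rw [coeff_eq_zero_of_natDegree_lt (by rw [natDegree_starP (by rw [h0]; exact neg_ne_zero.2 one_ne_zero), hd]; exact h),
      coeff_eq_zero_of_natDegree_lt (by rw [hd]; exact h)]
  rw [coeff_starP (by rw [hd]; exact h), h0, hd, RingHom.id_apply, RingHom.id_apply, inv_neg, inv_one, coeff_sub, coeff_sub,
    coeff_X_pow, coeff_X_pow, coeff_one, coeff_one]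
  by_cases h1 : i = 0
  · simp [h1, show ¬ r = 0 by omega, show ¬ 0 = r by omega]
  by_cases h2 : i = r
  · simp [h2, show ¬ r = 0 by omega, show ¬ 0 = r by omega]
  simp [h1, h2, show ¬ r - i = 0 by omega, show ¬ r - i = r by omega]

theorem starP_eq_self_iff [Fintype F] (hr : r.Prime) (hr2 : r ≠ 2) {q : ℕ} (hF : Fintype.card F = q) (hrq : (q : ZMod r) ≠ 0) {g : F[X]}
    (hg : Irreducible g) (hm : g.Monic) (hd : g ∣ X ^ r - 1) (h0 : g.coeff 0 ≠ 0) (hne : g ≠ X - C 1) :
    starP (RingHom.id F) g = g ↔ ¬ Odd (orderOf (q : ZMod r)) := by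
  classical
  have : Fact r.Prime := ⟨hr⟩
  have : Fact (Irreducible g) := ⟨hg⟩
  have : Module.Finite F (AdjoinRoot g) := (AdjoinRoot.powerBasis hg.ne_zero).finite
  have : Finite (AdjoinRoot g) := Module.finite_of_finite F
  obtain ⟨α, hα⟩ : ∃ α, α = AdjoinRoot.root g := ⟨_, rfl⟩
  have hgα : aeval α g = 0 := by rw [hα, AdjoinRoot.aeval_eq, AdjoinRoot.mk_self]
  have hαr : α ^ r = 1 := by
    have := aeval_eq_zero_of_dvd_aeval_eq_zero hd hgα
    simpa [sub_eq_zero] using this
  have hα1 : α ≠ 1 := fun h => by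
    rw [h, show (1 : AdjoinRoot g) = algebraMap F _ 1 from (map_one _).symm, aeval_algebraMap_apply, map_eq_zero, coe_aeval_eq_eval, ← IsRoot.def] at hgα
    exact hne (eq_of_monic_of_associated hm (monic_X_sub_C _) ((irreducible_X_sub_C _).associated_of_dvd hg (dvd_iff_isRoot.2 hgα)).symm)
  have hord : orderOf α = r := orderOf_eq_prime hαr hα1
  have hα0 : α ≠ 0 := fun h => by rw [h, zero_pow hr.ne_zero] at hαr; exact zero_ne_one hαr
  have frob : ∀ (k : ℕ) (z : AdjoinRoot g), (FiniteField.frobeniusAlgHom F (AdjoinRoot g) ^ k) z = z ^ q ^ k := fun k z => by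
    rw [AlgHom.coe_pow, FiniteField.coe_frobeniusAlgHom, pow_iterate, hF]
  have crit : starP (RingHom.id F) g = g ↔ aeval α⁻¹ g = 0 := by
    rw [← SympBlocks.aeval_starP_iff h0 (mul_inv_cancel₀ hα0)]
    refine ⟨fun h => by rw [h]; exact hgα, fun h => ?_⟩
    rw [hα, AdjoinRoot.aeval_eq, AdjoinRoot.mk_eq_zero] at h
    exact eq_of_monic_of_dvd_of_natDegree_le hm (monic_starP h0) h (natDegree_starP h0).le
  rw [crit]
  constructor
  · intro h hodd
    obtain ⟨φ, hφ⟩ : ∃ φ : AdjoinRoot g →ₐ[F] AdjoinRoot g, φ α = α⁻¹ :=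
      ⟨AdjoinRoot.liftAlgHom g (Algebra.ofId F _) _ h, (congrArg _ hα).trans (AdjoinRoot.liftAlgHom_root g (Algebra.ofId F _) _ h)⟩
    obtain ⟨⟨j, hj⟩, hjφ⟩ := (FiniteField.bijective_frobeniusAlgHom_pow F (AdjoinRoot g)).2 φ
    have hjα : α ^ q ^ j = α⁻¹ := by rw [← hφ, ← hjφ]; exact (frob j α).symm
    have h3 : r ∣ q ^ j + 1 := by rw [← hord, orderOf_dvd_iff_pow_eq_one, pow_succ, hjα, inv_mul_cancel₀ hα0]
    have h4 : (q : ZMod r) ^ j = -1 := by
      rw [eq_neg_iff_add_eq_zero, ← Nat.cast_pow, ← Nat.cast_one, ← Nat.cast_add, ZMod.natCast_eq_zero_iff]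
      exact h3
    have h5 := congrArg (fun z => z ^ orderOf (q : ZMod r)) h4
    simp only [← pow_mul, hodd.neg_pow, one_pow] at h5
    rw [mul_comm, pow_mul, pow_orderOf_eq_one, one_pow] at h5
    have h6 : ((2 : ℕ) : ZMod r) = 0 := by rw [Nat.cast_two]; linear_combination h5
    rw [ZMod.natCast_eq_zero_iff] at h6
    exact hr2 ((Nat.prime_dvd_prime_iff_eq hr Nat.prime_two).1 h6)
  · intro hev
    obtain ⟨b, hb⟩ := Nat.not_odd_iff_even.1 hev
    have hpos : 0 < orderOf (q : ZMod r) := by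
      rw [← Units.val_mk0 hrq, orderOf_units]; exact orderOf_pos _
    have h1 : (q : ZMod r) ^ b = -1 := by
      refine (mul_self_eq_one_iff.1 ?_).resolve_left fun h => ?_
      · rw [← pow_add, ← hb, pow_orderOf_eq_one]
      · have := Nat.le_of_dvd (by omega) (orderOf_dvd_of_pow_eq_one h)
        omega
    have h2 : α ^ q ^ b = α⁻¹ := by
      refine eq_inv_of_mul_eq_one_left ?_
      rw [← pow_succ, ← orderOf_dvd_iff_pow_eq_one, hord, ← ZMod.natCast_eq_zero_iff]
      push_cast
      rw [h1, neg_add_cancel]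
    rw [← h2, ← frob, Polynomial.aeval_algHom_apply, hgα, map_zero]

/-- Existence of an isometry for a self-reciprocal family. -/
theorem exists_isometry (hr : r.Prime) (hr2 : r ≠ 2) (hsq : Squarefree (X ^ r - 1 : F[X])) (J : Finset F[X])
    (hJ : ∀ g ∈ J, g.Monic ∧ Irreducible g ∧ g ∣ X ^ r - 1 ∧ g.coeff 0 ≠ 0 ∧ g ≠ X - C 1)
    (hJev : ∀ g ∈ J, starP (RingHom.id F) g = g → Even g.natDegree) :
    ∀ (k : ℕ) (s : Multiset F[X]), s.card ≤ k → (∀ g ∈ s, g = X - C 1 ∨ g ∈ J) → s.map (starP (RingHom.id F)) = s →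
      Even (s.map natDegree).sum →
      ∃ (V : Type u) (_ : AddCommGroup V) (_ : Module F V) (_ : Module.Finite F V)
        (B : LinearMap.BilinForm F V) (T : Module.End F V), B.IsAlt ∧ B.Nondegenerate ∧ Isom B T ∧ T ^ r = 1 ∧ T.charpoly = s.prod := by
  classical
  intro k
  induction k with
  | zero =>
    intro s hs _ _ _
    rw [Nat.le_zero, Multiset.card_eq_zero] at hs
    subst hs
    refine ⟨PUnit, inferInstance, inferInstance, inferInstance, 0, 1, fun u => rfl,
      ⟨fun u _ => Subsingleton.elim _ _, fun u _ => Subsingleton.elim _ _⟩, fun u v => rfl, one_pow r, ?_⟩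
    refine ((LinearMap.charpoly_monic _).natDegree_eq_zero.1 ?_).trans Multiset.prod_zero.symm
    rw [LinearMap.charpoly_natDegree, Module.finrank_zero_of_subsingleton]
  | succ k ih =>
    intro s hs hmem hfix hev
    by_cases hJs : ∃ g ∈ s, g ∈ J
    · obtain ⟨g, hgs, hgJ⟩ := hJs
      obtain ⟨g1, g2, g3, g4, g5⟩ := hJ g hgJ
      obtain ⟨gs, hgd⟩ : ∃ gs, gs = starP (RingHom.id F) g := ⟨_, rfl⟩
      have hgss : gs ∈ s := by rw [hgd, ← hfix]; exact Multiset.mem_map_of_mem _ hgs
      obtain ⟨P, hP1, hPe, hPfix, hPh⟩ : ∃ P : Multiset F[X], P ≤ s ∧ 1 ≤ P.card ∧ P.map (starP (RingHom.id F)) = P ∧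
          ((P.prod = g ∧ gs = g) ∨ (P.prod = g * gs ∧ gs ≠ g)) := by
        by_cases h : gs = g
        · refine ⟨{g}, Multiset.singleton_le.2 hgs, le_rfl, ?_, .inl ⟨Multiset.prod_singleton g, h⟩⟩
          rw [Multiset.map_singleton, ← hgd, h]
        · refine ⟨{g, gs}, (Multiset.le_iff_subset (by simp [Ne.symm h])).2 fun z hz => ?_, by simp, ?_, .inr ⟨by simp, h⟩⟩
          · rcases Multiset.mem_cons.1 hz with rfl | hz
            · exact hgs
            · rw [Multiset.mem_singleton.1 hz]; exact hgss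
          · rw [Multiset.insert_eq_cons, Multiset.map_cons, Multiset.map_singleton, hgd, starP_starP (fun _ => rfl) g1 g4]
            exact Multiset.pair_comm _ _
      obtain ⟨R, hR⟩ : ∃ R, R = s - P := ⟨_, rfl⟩
      have hPR : P + R = s := by rw [hR, add_comm, tsub_add_cancel_of_le hP1]
      have hRfix : R.map (starP (RingHom.id F)) = R := by
        have e := congrArg (Multiset.map (starP (RingHom.id F))) hPR
        rw [hfix, Multiset.map_add, hPfix] at e
        rw [← hPR] at e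
        exact add_left_cancel e
      have hhd : P.prod ∣ X ^ r - 1 := by
        rcases hPh with ⟨e, -⟩ | ⟨e, e'⟩ <;> rw [e]
        · exact g3
        · have hsi : Irreducible gs := hgd ▸ irreducible_starP (fun _ => rfl) g2 g1 g4
          have hsd : gs ∣ X ^ r - 1 := by
            obtain ⟨w, hw⟩ := g3
            rw [hgd, ← starP_X_pow_sub_one hr.one_le, hw, starP_mul]
            exact Dvd.intro _ rfl
          exact IsCoprime.mul_dvd (g2.coprime_iff_not_dvd.2 fun hd' => e'
            (eq_of_monic_of_associated g1 (hgd ▸ monic_starP g4) (g2.associated_of_dvd hsi hd')).symm) g3 hsd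
      obtain ⟨V, iV1, iV2, iV3, B, T, hA, hN, hI, hp, hc⟩ := SympBlocks.exists_block hr hr2 g1 g2 g3 g4 g5 (h := P.prod)
        (hgd ▸ hPh) hhd
      have hPev : Even (P.map natDegree).sum := by
        have hmon : ∀ f ∈ P, f.Monic := fun f hf => (hmem f (Multiset.mem_of_le hP1 hf)).elim
          (fun e => e ▸ monic_X_sub_C _) fun e => (hJ f e).1
        rw [← natDegree_multiset_prod_of_monic _ hmon]
        rcases hPh with ⟨e, e'⟩ | ⟨e, -⟩ <;> rw [e]
        · exact hJev g hgJ (hgd.symm.trans e')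
        · rw [g1.natDegree_mul (hgd ▸ monic_starP g4), hgd, natDegree_starP g4]
          exact ⟨_, rfl⟩
      obtain ⟨W, iW1, iW2, iW3, B', T', hA', hN', hI', hp', hc'⟩ := ih R (by
          have := congrArg Multiset.card hPR
          rw [Multiset.card_add] at this
          omega) (fun f hf => hmem f (hPR ▸ Multiset.mem_add.2 (.inr hf))) hRfix (by
        rw [← hPR, Multiset.map_add, Multiset.sum_add, Nat.even_add] at hev
        exact hev.1 hPev)
      obtain ⟨B'', T'', a1, a2, a3, a4, a5⟩ := SympBlocks.exists_prod ⟨hA, hN, hI, hp⟩ ⟨hA', hN', hI', hp'⟩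
      exact ⟨V × W, inferInstance, inferInstance, inferInstance, B'', T'', a1, a2, a3, a4,
        by rw [a5, hc, hc', ← Multiset.prod_add, hPR]⟩
    · push Not at hJs
      have e : s = Multiset.replicate s.card (X - C 1) :=
        Multiset.eq_replicate_card.2 fun f hf => (hmem f hf).resolve_right (hJs f hf)
      rw [e, Multiset.map_replicate, Multiset.sum_replicate, natDegree_X_sub_C, smul_eq_mul, mul_one] at hev
      obtain ⟨M, hM⟩ := hev
      refine ⟨(Fin M → F) × (Fin M → F), inferInstance, inferInstance, inferInstance,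
        ((dotProductBilin F F).compl₁₂ (LinearMap.fst F _ _) (LinearMap.snd F _ _) -
          (dotProductBilin F F).compl₁₂ (LinearMap.snd F _ _) (LinearMap.fst F _ _)), 1, fun u => ?_, ⟨fun u hu => ?_, fun u hu => ?_⟩,
        fun u v => rfl, one_pow r, ?_⟩
      · show u.1 ⬝ᵥ u.2 - u.2 ⬝ᵥ u.1 = 0
        rw [dotProduct_comm, sub_self]
      · refine Prod.ext (funext fun i => ?_) (funext fun i => ?_)
        · have h' : u.1 ⬝ᵥ (Pi.single i 1) - u.2 ⬝ᵥ (0 : Fin M → F) = 0 := hu (0, Pi.single i 1)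
          simpa using h'
        · have h' : u.1 ⬝ᵥ (0 : Fin M → F) - u.2 ⬝ᵥ (Pi.single i 1) = 0 := hu (Pi.single i 1, 0)
          simpa using h'
      · refine Prod.ext (funext fun i => ?_) (funext fun i => ?_)
        · have h' : (0 : Fin M → F) ⬝ᵥ u.2 - (Pi.single i 1) ⬝ᵥ u.1 = 0 := hu (0, Pi.single i 1)
          simpa using h'
        · have h' : (Pi.single i 1) ⬝ᵥ u.2 - (0 : Fin M → F) ⬝ᵥ u.1 = 0 := hu (Pi.single i 1, 0)
          simpa using h'
      · rw [e, Multiset.prod_replicate, hM, LinearMap.charpoly_one, Module.finrank_prod, Module.finrank_fintype_fun_eq_card, Fintype.card_fin, C_1]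

/-- Number of conjugacy classes of elements of odd prime order r, r different from the characteristic, in the symplectic group Sp_2m(q): let i be the multiplicative order of q modulo r and t = (r − 1)/i. If i is odd the eigenvalue orbits pair off (Λ ≠ Λ⁻¹) and the classes correspond to the non-zero (t/2)-tuples (a_j) with 2i Σ a_j ≤ 2m, giving C(⌊m/i⌋ + t/2, t/2) − 1 classes; if i is even (Λ = Λ⁻¹) they correspond to the non-zero t-tuples with i Σ a_j ≤ 2m, giving C(⌊2m/i⌋ + t, t) − 1 classes. -/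
theorem result {F : Type*} [Field F] [Fintype F] {p q : ℕ} [Fact p.Prime] [CharP F p] (hF : Fintype.card F = q) (m r i t : ℕ) (hr : r.Prime) (hr2 : r ≠ 2) (hrp : r ≠ p) (hi : i = orderOf (q : ZMod r)) (ht : t * i = r - 1) : Nat.card {C : ConjClasses ↥(Matrix.symplecticGroup (Fin m) F) // ∃ g : Matrix.symplecticGroup (Fin m) F, ConjClasses.mk g = C ∧ orderOf g = r} = if Odd i then Nat.choose (m / i + t / 2) (t / 2) - 1 else Nat.choose (2 * m / i + t) t - 1 := by
  classical
  have : Fact r.Prime := ⟨hr⟩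
  obtain ⟨⟨f, hf⟩, -, hcard⟩ := FiniteField.card F p
  simp only [PNat.mk_coe] at hcard
  have hp : p.Prime := Fact.out
  have hrr : r.Coprime p := (Nat.coprime_primes hr hp).2 hrp
  have hsq : Squarefree (X ^ r - 1 : F[X]) := squarefree_X_pow_sub_one hrr
  have hrq : (q : ZMod r) ≠ 0 := by
    rw [Ne, ZMod.natCast_eq_zero_iff]
    intro h
    have h2 : r ∣ p ^ f := hcard ▸ hF ▸ h
    exact hrp ((Nat.prime_dvd_prime_iff_eq hr hp).1 (hr.dvd_of_dvd_pow h2))
  let J : Finset F[X] := (UniqueFactorizationMonoid.normalizedFactors (cyclotomic r F)).toFinset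
  have hJ1 : ∀ g ∈ J, g.Monic ∧ Irreducible g ∧ g ∣ cyclotomic r F := fun g hg => by
    rw [Multiset.mem_toFinset] at hg
    have h := UniqueFactorizationMonoid.irreducible_of_normalized_factor g hg
    refine ⟨?_, h, UniqueFactorizationMonoid.dvd_of_mem_normalizedFactors hg⟩
    rw [← UniqueFactorizationMonoid.normalize_normalized_factor g hg]
    exact monic_normalize h.ne_zero
  have hipos : 0 < i := by
    rw [hi, ← Units.val_mk0 hrq, orderOf_units]
    exact orderOf_pos _
  have hJdeg : ∀ g ∈ J, g.natDegree = i := fun g hg => by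
    rw [natDegree_of_dvd_cyclotomic_of_irreducible (n := r) hcard hrr.symm (hJ1 g hg).2.2 (hJ1 g hg).2.1,
      ← orderOf_units, ZMod.coe_unitOfCoprime, hi, ← hcard, hF]
  have hcsq : Squarefree (cyclotomic r F) := hsq.squarefree_of_dvd (cyclotomic.dvd_X_pow_sub_one r F)
  have hprodJ : ∏ g ∈ J, g = cyclotomic r F := by
    have hnd := (UniqueFactorizationMonoid.squarefree_iff_nodup_normalizedFactors
      (cyclotomic_ne_zero r F)).1 hcsq
    rw [Finset.prod_eq_multiset_prod, Multiset.map_id', Multiset.toFinset_val,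
      Multiset.dedup_eq_self.2 hnd, UniqueFactorizationMonoid.prod_normalizedFactors_eq,
      (cyclotomic.monic r F).normalize_eq_self]
    exact cyclotomic_ne_zero r F
  have hJcard : J.card = t := by
    have h := natDegree_prod_of_monic J (fun g => g) (fun g hg => (hJ1 g hg).1)
    rw [hprodJ, natDegree_cyclotomic, Nat.totient_prime hr, Finset.sum_const_nat hJdeg] at h
    rw [← ht] at h
    exact Nat.eq_of_mul_eq_mul_right hipos h.symm
  have hX1 : ∀ g ∈ J, g ≠ X - C 1 := by
    intro g hg h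
    have hdvd := (hJ1 g hg).2.2
    rw [h, dvd_iff_isRoot] at hdvd
    rw [IsRoot, eval_one_cyclotomic_prime] at hdvd
    exact hrp ((Nat.prime_dvd_prime_iff_eq hp hr).1 ((CharP.cast_eq_zero_iff F p r).1 hdvd)).symm
  have hJ : ∀ g ∈ J, g.Monic ∧ Irreducible g ∧ g ∣ X ^ r - 1 ∧ g.coeff 0 ≠ 0 ∧ g ≠ X - C 1 := by
    intro g hg
    have h1 : g ∣ X ^ r - 1 := (hJ1 g hg).2.2.trans (cyclotomic.dvd_X_pow_sub_one r F)
    refine ⟨(hJ1 g hg).1, (hJ1 g hg).2.1, h1, ?_, hX1 g hg⟩
    intro h0
    obtain ⟨w, hw⟩ := h1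
    have := congrArg (fun P : F[X] => P.coeff 0) hw
    simp [mul_coeff_zero, h0, hr.ne_zero.symm, coeff_X_pow, coeff_one] at this
  have hall : ∀ g : F[X], g.Monic → Irreducible g → g ∣ X ^ r - 1 → g = X - C 1 ∨ g ∈ J := by
    intro g hgm hgi hgd
    rw [← cyclotomic_prime_mul_X_sub_one F r] at hgd
    rcases hgi.prime.dvd_or_dvd hgd with h | h
    · right
      obtain ⟨w, hw, hw'⟩ := UniqueFactorizationMonoid.exists_mem_normalizedFactors_of_dvd
        (cyclotomic_ne_zero r F) hgi h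
      rw [eq_of_monic_of_associated hgm (hJ1 w (Multiset.mem_toFinset.2 hw)).1 hw']
      exact Multiset.mem_toFinset.2 hw
    · left
      rw [← C_1] at h
      exact eq_of_monic_of_associated hgm (monic_X_sub_C 1) (hgi.associated_of_dvd (irreducible_X_sub_C 1) h)
  have hst : ∀ g ∈ J, starP (RingHom.id F) g ∈ J := by
    intro g hg
    obtain ⟨g1, g2, ⟨w, hw⟩, g4, g6⟩ := hJ g hg
    refine (hall _ (monic_starP g4) (irreducible_starP (fun _ => rfl) g2 g1 g4) ?_).resolve_left fun h => g6 ?_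
    · rw [← starP_X_pow_sub_one hr.one_le, hw, starP_mul]
      exact Dvd.intro _ rfl
    · rw [← starP_starP (σ := RingHom.id F) (fun _ => rfl) g1 g4, h, starP_X_sub_C_one]
  have hfixiff : ∀ g ∈ J, starP (RingHom.id F) g = g ↔ ¬ Odd i := fun g hg => by
    obtain ⟨g1, g2, g3, g4, g6⟩ := hJ g hg
    rw [hi]
    exact starP_eq_self_iff hr hr2 hF hrq g2 g1 g3 g4 g6
  have hsmem : ∀ s : SelfFam (RingHom.id F) J (2 * m), ∀ g ∈ s.1, g.Monic ∧ Irreducible g := fun s g hg => (s.2.1 g hg).elim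
    (fun e => e ▸ ⟨monic_X_sub_C _, irreducible_X_sub_C _⟩) fun e => ⟨(hJ g e).1, (hJ g e).2.1⟩
  have hnf : ∀ s : SelfFam (RingHom.id F) J (2 * m), UniqueFactorizationMonoid.normalizedFactors s.1.prod = s.1 := fun s => by
    rw [UniqueFactorizationMonoid.normalizedFactors_prod_eq _ fun g hg => (hsmem s g hg).2]
    conv_rhs => rw [← Multiset.map_id s.1]
    exact Multiset.map_congr rfl fun g hg => (hsmem s g hg).1.normalize_eq_self
  let A := {C : ConjClasses ↥(Matrix.symplecticGroup (Fin m) F) // ∃ g : Matrix.symplecticGroup (Fin m) F, ConjClasses.mk g = C ∧ g ^ r = 1}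
  have hex : ∀ s : SelfFam (RingHom.id F) J (2 * m), ∃ x : Matrix.symplecticGroup (Fin m) F, x ^ r = 1 ∧
      (x : Matrix (Fin m ⊕ Fin m) (Fin m ⊕ Fin m) F).charpoly = s.1.prod := by
    intro s
    obtain ⟨V, iV1, iV2, iV3, B, T, hA, hN, hI, hp', hc⟩ := exists_isometry hr hr2 hsq J hJ
      (fun g hg h => by rw [hJdeg g hg]; exact Nat.not_odd_iff_even.1 ((hfixiff g hg).1 h)) _ s.1 le_rfl s.2.1 s.2.2.1
      (by rw [s.2.2.2]; exact even_two_mul m)
    rw [← hc]
    refine SympBlocks.realize B hA hN ?_ hI hp'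
    rw [← LinearMap.charpoly_natDegree T, hc, natDegree_multiset_prod_of_monic _ fun g hg => (hsmem s g hg).1, s.2.2.2]
  choose x hx1 hx2 using hex
  have hb : Function.Bijective (fun s => (⟨ConjClasses.mk (x s), x s, rfl, hx1 s⟩ : A)) := by
    constructor
    · intro s t h
      obtain ⟨c, hc⟩ := isConj_iff.1 (ConjClasses.mk_eq_mk_iff_isConj.1 (congrArg Subtype.val h))
      refine Subtype.ext ?_
      rw [← hnf s, ← hnf t, ← hx2 s, ← hx2 t, ← hc]
      simp only [Submonoid.coe_mul]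
      rw [Matrix.charpoly_mul_comm, ← mul_assoc, ← Submonoid.coe_mul, inv_mul_cancel, OneMemClass.coe_one, one_mul]
    · rintro ⟨C, g, rfl, hg⟩
      obtain ⟨M, hM⟩ : ∃ M, M = (g : Matrix (Fin m ⊕ Fin m) (Fin m ⊕ Fin m) F) := ⟨_, rfl⟩
      have hMr : M ^ r = 1 := by rw [hM, ← SubmonoidClass.coe_pow, hg]; rfl
      obtain ⟨P, hP⟩ : ∃ P, P = M.charpoly := ⟨_, rfl⟩
      have hPm : P.Monic := hP ▸ Matrix.charpoly_monic M
      have hdet : IsUnit M.det := by
        refine IsUnit.of_mul_eq_one (M.det ^ (r - 1)) ?_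
        rw [← pow_succ', show r - 1 + 1 = r by have := hr.pos; omega, ← Matrix.det_pow, hMr, Matrix.det_one]
      have hP0 : P.coeff 0 ≠ 0 := by
        intro h0
        refine hdet.ne_zero ?_
        rw [Matrix.det_eq_sign_charpoly_coeff, ← hP, h0, mul_zero]
      have hdiv : ∀ y ∈ matInv M, y.1 = X - C 1 ∨ y.1 ∈ J := by
        intro y hy
        obtain ⟨G, hG⟩ := (Matrix.isUnit_iff_isUnit_det M).2 hdet
        rw [← hG] at hy hMr
        have h0 : aeval (toEnd (G : Matrix (Fin m ⊕ Fin m) (Fin m ⊕ Fin m) F)) (X ^ r - 1 : F[X]) = 0 := by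
          rw [map_sub, map_one, map_pow, aeval_X, ← map_pow, hMr]
          simp
        obtain ⟨h1, h2, -, h4⟩ := (matInv_spec G).1 y hy
        exact hall _ h1 h2 ((dvd_pow_self _ (by omega)).trans ((aeval_eq_zero_iff_matInv _ _).1 h0 y hy))
      have hPstar : starP (RingHom.id F) P = P := by
        have hsadj : Symp.sadj M * M = 1 := hM ▸ Symp.mem_iff.1 g.2
        have e : M⁻¹ = Symp.sadj M := Matrix.inv_eq_left_inv hsadj
        have e2 : (Symp.sadj M).charpoly = P := by
          rw [Symp.sadj, ← mul_neg, Matrix.charpoly_mul_comm, neg_mul, ← mul_assoc, Matrix.J_squared, neg_one_mul, neg_neg, Matrix.charpoly_transpose, hP]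
        have h := Matrix.charpoly_inv M ((Matrix.isUnit_iff_isUnit_det M).2 hdet)
        rw [e, e2, ← Matrix.reverse_charpoly, ← hP, ← C_1, ← C_neg, ← C_pow, ← C_mul] at h
        obtain ⟨a, ha⟩ : ∃ a, P = C a * starP (RingHom.id F) P := by
          refine ⟨(-1) ^ Fintype.card (Fin m ⊕ Fin m) * Ring.inverse M.det * P.coeff 0, ?_⟩
          rw [starP, Polynomial.map_id, RingHom.id_apply, ← mul_assoc, ← C_mul, mul_assoc _ (P.coeff 0), mul_inv_cancel₀ hP0, mul_one]
          exact h
        have h1 := congrArg leadingCoeff ha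
        rw [hPm.leadingCoeff, leadingCoeff_mul, leadingCoeff_C, (monic_starP hP0).leadingCoeff, mul_one] at h1
        rw [← h1, C_1, one_mul] at ha
        exact ha.symm
      obtain ⟨s, hs⟩ : ∃ s, s = UniqueFactorizationMonoid.normalizedFactors P := ⟨_, rfl⟩
      have hsi : ∀ f ∈ s, f.Monic ∧ Irreducible f ∧ f.coeff 0 ≠ 0 := fun f hf => Cfsg.Agent.Lib.FamCount.mem_factors hP0 (hs ▸ hf)
      have hs1 : ∀ f ∈ s, f = X - C 1 ∨ f ∈ J := by
        intro f hf
        obtain ⟨f1, f2, -⟩ := hsi f hf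
        have hd : f ∣ P := UniqueFactorizationMonoid.dvd_of_mem_normalizedFactors (hs ▸ hf)
        rw [hP, charpoly_eq_matInv] at hd
        obtain ⟨z, hz, hfz⟩ := f2.prime.exists_mem_multiset_map_dvd hd
        rcases hdiv z hz with h | h
        · refine .inl (eq_of_monic_of_associated f1 (monic_X_sub_C 1) (f2.associated_of_dvd (irreducible_X_sub_C 1) ?_))
          rw [← h]; exact f2.prime.dvd_of_dvd_pow hfz
        · obtain ⟨h1, h2, -⟩ := hJ z.1 h
          rw [eq_of_monic_of_associated f1 h1 (f2.associated_of_dvd h2 (f2.prime.dvd_of_dvd_pow hfz))]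
          exact .inr h
      have hs2 : s.map (starP (RingHom.id F)) = s := by
        rw [hs]
        conv_rhs => rw [← hPstar, ← Cfsg.Agent.Lib.FamCount.prod_factors hPm, starP_multiset_prod]
        rw [UniqueFactorizationMonoid.normalizedFactors_prod_eq]
        · rw [Multiset.map_map]
          refine Multiset.map_congr rfl fun f hf => ?_
          exact ((monic_starP (hsi f (hs ▸ hf)).2.2).normalize_eq_self).symm
        · intro a ha
          obtain ⟨f, hf, rfl⟩ := Multiset.mem_map.1 ha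
          obtain ⟨k1, k2, k3⟩ := hsi f (hs ▸ hf)
          exact irreducible_starP (fun _ => rfl) k2 k1 k3
      have hs3 : (s.map natDegree).sum = 2 * m := by
        rw [← natDegree_multiset_prod_of_monic _ (fun f hf => (hsi f hf).1), hs, Cfsg.Agent.Lib.FamCount.prod_factors hPm, hP,
          Matrix.charpoly_natDegree_eq_dim, Fintype.card_sum, Fintype.card_fin, two_mul]
      refine ⟨⟨s, hs1, hs2, hs3⟩, Subtype.ext (ConjClasses.mk_eq_mk_iff_isConj.2 ?_)⟩
      refine Cfsg.Agent.S2389.result p m _ g ?_ ?_ ?_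
      · exact Nat.Coprime.coprime_dvd_left (orderOf_dvd_of_pow_eq_one (hx1 _)) hrr
      · exact Nat.Coprime.coprime_dvd_left (orderOf_dvd_of_pow_eq_one hg) hrr
      · rw [hx2, ← hM, ← hP]
        show s.prod = P
        rw [hs, Cfsg.Agent.Lib.FamCount.prod_factors hPm]
  have hAcard : Nat.card A = Nat.card (SelfFam (RingHom.id F) J (2 * m)) := (Nat.card_eq_of_bijective _ hb).symm
  have hsub : Nat.card {C : ConjClasses ↥(Matrix.symplecticGroup (Fin m) F) // ∃ g : Matrix.symplecticGroup (Fin m) F, ConjClasses.mk g = C ∧ orderOf g = r} =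
      Nat.card {C : A // C ≠ ⟨ConjClasses.mk 1, 1, rfl, one_pow r⟩} := by
    refine Nat.card_congr
      { toFun := fun C => ⟨⟨C.1, by
          obtain ⟨g, hg, ho⟩ := C.2
          exact ⟨g, hg, by rw [← ho]; exact pow_orderOf_eq_one g⟩⟩, by
          intro h
          obtain ⟨g, hg, ho⟩ := C.2
          have h' : ConjClasses.mk g = ConjClasses.mk 1 := by rw [hg]; exact congrArg Subtype.val h
          rw [ConjClasses.mk_eq_mk_iff_isConj, isConj_one_left] at h'
          rw [h', orderOf_one] at ho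
          exact hr.one_lt.ne ho⟩
        invFun := fun C => ⟨C.1.1, by
          obtain ⟨g, hg, ho⟩ := C.1.2
          refine ⟨g, hg, orderOf_eq_prime ho ?_⟩
          rintro rfl
          exact C.2 (Subtype.ext hg.symm)⟩
        left_inv := fun C => rfl
        right_inv := fun C => rfl }
  let _ : Fintype A := Fintype.ofFinite A
  rw [hsub, Nat.card_eq_fintype_card, Fintype.card_subtype_compl, Fintype.card_subtype_eq, ← Nat.card_eq_fintype_card, hAcard]
  have hJ4 : ∀ g ∈ J, g.Monic ∧ g.coeff 0 ≠ 0 ∧ g.natDegree = i ∧ g ≠ X - C 1 :=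
    fun g hg => ⟨(hJ g hg).1, (hJ g hg).2.2.2.1, hJdeg g hg, hX1 g hg⟩
  split_ifs with ho
  · obtain ⟨u, hu, hN⟩ := card_selfFam (RingHom.id F) (fun _ => rfl) J (2 * m) hJ4 hst (c := 2)
      (fun g hg => Finset.card_pair fun h => (hfixiff g hg).1 h.symm ho) hipos (by omega)
    rw [hN, Nat.mul_div_mul_left _ _ two_pos, show t / 2 = u by omega]
  · obtain ⟨u, hu, hN⟩ := card_selfFam (RingHom.id F) (fun _ => rfl) J (2 * m) hJ4 hst (c := 1)
      (fun g hg => by rw [(hfixiff g hg).2 ho]; simp) hipos le_rfl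
    rw [hN, one_mul, show t = u by omega]

end Cfsg.Agent.S2645
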