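import Cfsg.Statements.S0572
import Cfsg.Agent.Lib.Coprime.Basic

set_option autoImplicit false
open Cfsg
open scoped commutatorElement

namespace Cfsg.Agent.S0572

/-- Itô's Theorem: if a group G is the product AB of two abelian subgroups, then the commutator subgroup of G is abelian, i.e. the second term of the derived series is trivial. -/
theorem result {G : Type*} [Group G] (A B : Subgroup G) [IsMulCommutative A] [IsMulCommutative B] (hAB : ∀ g : G, ∃ a ∈ A, ∃ b ∈ B, g = a * b) : derivedSeries G 2 = ⊥ := by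
  set S : Set G := {x | ∃ a ∈ A, ∃ b ∈ B, ⁅a, b⁆ = x} with hS
  have hA : ∀ a ∈ A, ∀ a' ∈ A, a * a' = a' * a := fun a ha a' ha' =>
    congrArg Subtype.val (IsMulCommutative.is_comm.comm (⟨a, ha⟩ : A) ⟨a', ha'⟩)
  have hB : ∀ b ∈ B, ∀ b' ∈ B, b * b' = b' * b := fun b hb b' hb' =>
    congrArg Subtype.val (IsMulCommutative.is_comm.comm (⟨b, hb⟩ : B) ⟨b', hb'⟩)
  have hBA : ∀ g : G, ∃ b ∈ B, ∃ a ∈ A, g = b * a := by
    intro g
    obtain ⟨a, ha, b, hb, h⟩ := hAB g⁻¹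
    exact ⟨b⁻¹, inv_mem hb, a⁻¹, inv_mem ha, by rw [← mul_inv_rev, ← h, inv_inv]⟩
  -- conjugating by `A` changes only the `B`-entry
  have hcA : ∀ a' ∈ A, ∀ b ∈ B, ∃ b₁ ∈ B, ∀ a ∈ A, a' * ⁅a, b⁆ * a'⁻¹ = ⁅a, b₁⁆ := by
    intro a' ha' b hb
    obtain ⟨b₁, hb₁, a₁, ha₁, h⟩ := hBA (a' * b * a'⁻¹)
    refine ⟨b₁, hb₁, fun a ha => ?_⟩
    simp only [commutatorElement_def]
    calc a' * (a * b * a⁻¹ * b⁻¹) * a'⁻¹
        = (a' * a) * b * (a⁻¹ * a'⁻¹) * (a' * b * a'⁻¹)⁻¹ := by group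
      _ = (a * a') * b * (a'⁻¹ * a⁻¹) * (a' * b * a'⁻¹)⁻¹ := by
          rw [hA a' ha' a ha, hA a⁻¹ (inv_mem ha) a'⁻¹ (inv_mem ha')]
      _ = a * (a' * b * a'⁻¹) * a⁻¹ * (a' * b * a'⁻¹)⁻¹ := by group
      _ = a * b₁ * (a₁ * a⁻¹) * a₁⁻¹ * b₁⁻¹ := by rw [h]; group
      _ = _ := by rw [hA a₁ ha₁ a⁻¹ (inv_mem ha)]; group
  have hcB : ∀ b' ∈ B, ∀ a ∈ A, ∃ a₂ ∈ A, ∀ b ∈ B, b' * ⁅a, b⁆ * b'⁻¹ = ⁅a₂, b⁆ := by
    intro b' hb' a ha
    obtain ⟨a₂, ha₂, b₂, hb₂, h⟩ := hAB (b' * a * b'⁻¹)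
    refine ⟨a₂, ha₂, fun b hb => ?_⟩
    simp only [commutatorElement_def]
    calc b' * (a * b * a⁻¹ * b⁻¹) * b'⁻¹
        = (b' * a * b'⁻¹) * (b' * b) * a⁻¹ * (b⁻¹ * b'⁻¹) := by group
      _ = (b' * a * b'⁻¹) * (b * b') * a⁻¹ * (b'⁻¹ * b⁻¹) := by
          rw [hB b' hb' b hb, hB b⁻¹ (inv_mem hb) b'⁻¹ (inv_mem hb')]
      _ = (b' * a * b'⁻¹) * b * (b' * a * b'⁻¹)⁻¹ * b⁻¹ := by group
      _ = a₂ * (b₂ * b) * b₂⁻¹ * a₂⁻¹ * b⁻¹ := by rw [h]; group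
      _ = _ := by rw [hB b₂ hb₂ b hb]; group
  have hcomm : ∀ x ∈ S, ∀ y ∈ S, x * y = y * x := by
    rintro _ ⟨a, ha, b, hb, rfl⟩ _ ⟨a₀, ha₀, b₀, hb₀, rfl⟩
    set a' := a₀⁻¹ with ha'd
    set b' := b₀⁻¹ with hb'd
    obtain ⟨b₁, hb₁, h1⟩ := hcA a' (inv_mem ha₀) b hb
    obtain ⟨a₂, ha₂, h2⟩ := hcB b' (inv_mem hb₀) a ha
    have e1 : b' * (a' * ⁅a, b⁆ * a'⁻¹) * b'⁻¹ = a' * (b' * ⁅a, b⁆ * b'⁻¹) * a'⁻¹ := by
      rw [h1 a ha, h2 b₁ hb₁, h2 b hb, h1 a₂ ha₂]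
    calc ⁅a, b⁆ * ⁅a₀, b₀⁆
        = (b' * a')⁻¹ * (b' * (a' * ⁅a, b⁆ * a'⁻¹) * b'⁻¹) * (a' * b') := by
          rw [ha'd, hb'd, commutatorElement_def a₀ b₀]; group
      _ = (b' * a')⁻¹ * (a' * (b' * ⁅a, b⁆ * b'⁻¹) * a'⁻¹) * (a' * b') := by rw [e1]
      _ = ⁅a₀, b₀⁆ * ⁅a, b⁆ := by rw [ha'd, hb'd, commutatorElement_def a₀ b₀]; group
  set D := Subgroup.closure S with hD
  have hSn : ∀ g : G, ∀ x ∈ S, g * x * g⁻¹ ∈ S := by
    rintro g _ ⟨a, ha, b, hb, rfl⟩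
    obtain ⟨a', ha', b', hb', rfl⟩ := hAB g
    obtain ⟨a₂, ha₂, h2⟩ := hcB b' hb' a ha
    obtain ⟨b₁, hb₁, h1⟩ := hcA a' ha' b hb
    refine ⟨a₂, ha₂, b₁, hb₁, ?_⟩
    rw [← h1 a₂ ha₂, ← h2 b hb]
    group
  have hDn : D.Normal := ⟨fun x hx g => by
    induction hx using Subgroup.closure_induction with
    | mem y hy => exact Subgroup.subset_closure (hSn g y hy)
    | one => simp
    | mul y z _ _ hy hz => simpa [mul_assoc] using mul_mem hy hz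
    | inv y _ hy => simpa [mul_assoc] using inv_mem hy⟩
  have hDc : ⁅D, D⁆ = ⊥ := by
    refine Subgroup.commutator_eq_bot_iff_le_centralizer.mpr ?_
    rw [hD, Subgroup.closure_le]
    intro x hx
    rw [SetLike.mem_coe, Subgroup.mem_centralizer_iff]
    intro y hy
    induction hy using Subgroup.closure_induction with
    | mem y hy => exact hcomm y hy x hx
    | one => simp
    | mul y z _ _ hy hz => exact (Commute.mul_left hy hz).eq
    | inv y _ hy => exact (Commute.inv_left hy).eq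
  have hle : commutator G ≤ D := by
    rw [← Subgroup.Normal.quotient_commutative_iff_commutator_le]
    refine ⟨⟨fun u v => ?_⟩⟩
    induction u using QuotientGroup.induction_on with
    | _ u =>
    induction v using QuotientGroup.induction_on with
    | _ v =>
    obtain ⟨a, ha, b, hb, rfl⟩ := hAB u
    obtain ⟨a', ha', b', hb', rfl⟩ := hAB v
    let π : G →* G ⧸ D := QuotientGroup.mk' D
    show π (a * b) * π (a' * b') = π (a' * b') * π (a * b)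
    have hAB' : ∀ x ∈ A, ∀ y ∈ B, Commute (π x) (π y) := fun x hx y hy => by
      rw [← commutatorElement_eq_one_iff_commute, ← map_commutatorElement]
      exact (QuotientGroup.eq_one_iff _).mpr (Subgroup.subset_closure ⟨x, hx, y, hy, rfl⟩)
    have hAA : ∀ x ∈ A, ∀ y ∈ A, Commute (π x) (π y) := fun x hx y hy =>
      (show Commute x y from hA x hx y hy).map π
    have hBB : ∀ x ∈ B, ∀ y ∈ B, Commute (π x) (π y) := fun x hx y hy =>
      (show Commute x y from hB x hx y hy).map π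
    rw [map_mul, map_mul]
    exact (((hAA a ha a' ha').mul_right (hAB' a ha b' hb')).mul_left
      (((hAB' a' ha' b hb).symm).mul_right (hBB b hb b' hb'))).eq
  rw [derivedSeries_succ, derivedSeries_one, eq_bot_iff, ← hDc]
  exact Subgroup.commutator_mono hle hle

end Cfsg.Agent.S0572
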