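import Cfsg.Statements.S3742
import Mathlib

set_option autoImplicit false
open Cfsg

namespace Cfsg.Agent.S3742

open QuaternionGroup

abbrev Q := QuaternionGroup 2
abbrev S4 := Equiv.Perm (Fin 4)

def ci : S4 := Equiv.swap 0 1 * Equiv.swap 1 2 * Equiv.swap 2 3
def cj : S4 := Equiv.swap 0 1 * Equiv.swap 1 3 * Equiv.swap 3 2
def ck : S4 := Equiv.swap 0 2 * Equiv.swap 2 1 * Equiv.swap 1 3

/-- the six elements of order four as the six 4-cycles -/
def cyc : Q → S4
  | .a i => if i = 1 then ci else if i = 3 then ci⁻¹ else 1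
  | .xa i => if i = 0 then cj else if i = 2 then cj⁻¹ else if i = 1 then ck else ck⁻¹

def elts : List Q := [.a 1, .a 3, .xa 0, .xa 1, .xa 2, .xa 3]

def f (s : S4) (q : Q) : Q :=
  if cyc q = 1 then q else (elts.find? fun r => decide (cyc r = s * cyc q * s⁻¹)).getD q

theorem f_one : ∀ q, f 1 q = q := by decide +kernel

theorem f_inv : ∀ s q, f s (f s⁻¹ q) = q := by decide +kernel

theorem f_mul : ∀ s q r, f s (q * r) = f s q * f s r := by decide +kernel

theorem f_comp : ∀ s t q, f (s * t) q = f s (f t q) := by decide +kernel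

theorem f_inj : ∀ s, (∀ q, f s q = q) → s = 1 := by decide +kernel

def F : S4 →* MulAut Q where
  toFun s :=
    { toFun := f s
      invFun := f s⁻¹
      left_inv := fun q => by have := f_inv s⁻¹ q; rwa [inv_inv] at this
      right_inv := f_inv s
      map_mul' := f_mul s }
  map_one' := MulEquiv.ext f_one
  map_mul' s t := MulEquiv.ext (f_comp s t)

theorem gen : ∀ q : Q, ∃ i j : Fin 4, q = (QuaternionGroup.a 1) ^ i.val * (QuaternionGroup.xa 0) ^ j.val := by decide +kernel

def pairs : Finset (Q × Q) :=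
  Finset.univ.filter fun u => u.1 ^ 2 ≠ 1 ∧ u.2 ^ 2 ≠ 1 ∧ u.1 * u.2 ≠ u.2 * u.1

theorem pairs_card : pairs.card = 24 := by decide +kernel

theorem gen_props : ((QuaternionGroup.a 1 : Q) ^ 2 ≠ 1) ∧ ((QuaternionGroup.xa 0 : Q) ^ 2 ≠ 1) ∧
    (QuaternionGroup.a 1 : Q) * QuaternionGroup.xa 0 ≠ QuaternionGroup.xa 0 * QuaternionGroup.a 1 := by decide +kernel

theorem card_le : Nat.card (MulAut Q) ≤ 24 := by
  rw [← pairs_card, ← Nat.card_eq_finsetCard]
  obtain ⟨h1, h2, h3⟩ := gen_props
  refine Nat.card_le_card_of_injective (fun φ => (⟨(φ (QuaternionGroup.a 1), φ (QuaternionGroup.xa 0)), ?_⟩ : pairs)) ?_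
  · simp only [pairs, Finset.mem_filter, Finset.mem_univ, true_and]
    refine ⟨fun e => h1 (φ.injective ?_), fun e => h2 (φ.injective ?_), fun e => h3 (φ.injective ?_)⟩
    · rw [map_pow, e, map_one]
    · rw [map_pow, e, map_one]
    · rw [map_mul, map_mul, e]
  · intro φ ψ h
    simp only [Subtype.mk.injEq, Prod.mk.injEq] at h
    refine MulEquiv.ext fun q => ?_
    obtain ⟨i, j, rfl⟩ := gen q
    rw [map_mul, map_mul, map_pow, map_pow, map_pow, map_pow, h.1, h.2]

/-- The automorphism group of the quaternion group of order 8 is isomorphic to the symmetric group of degree 4. -/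
theorem result : Nonempty (MulAut (QuaternionGroup 2) ≃* Equiv.Perm (Fin 4)) := by
  have hinj : Function.Injective F := by
    rw [injective_iff_map_eq_one]
    exact fun s hs => f_inj s fun q => DFunLike.congr_fun hs q
  have hcard : Nat.card (Equiv.Perm (Fin 4)) = 24 := by
    rw [Nat.card_perm, Nat.card_fin]; rfl
  haveI : Finite (MulAut (QuaternionGroup 2)) := Finite.of_injective _ DFunLike.coe_injective
  have hbij : Function.Bijective F :=
    (Nat.bijective_iff_injective_and_card F).mpr ⟨hinj,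
      le_antisymm (Nat.card_le_card_of_injective _ hinj) (card_le.trans hcard.ge)⟩
  exact ⟨(MulEquiv.ofBijective F hbij).symm⟩

end Cfsg.Agent.S3742
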