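import Cfsg.Statements.S3993
import Cfsg.Agent.Lib.SylowCounting.ConjClass
import Mathlib.Data.Nat.Totient
import Mathlib.GroupTheory.SpecificGroups.Cyclic

set_option autoImplicit false
open Cfsg

namespace Cfsg.Agent.S3993

universe u

theorem totient_dvd_card_orderOf {G : Type*} [Group G] [Finite G] (d : ℕ) :
    Nat.totient d ∣ Nat.card {x : G // orderOf x = d} := by
  classical
  haveI := Fintype.ofFinite G
  rw [Nat.card_eq_fintype_card, Fintype.card_subtype,
    Finset.card_eq_sum_card_image (fun x : G => Subgroup.zpowers x)]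
  refine Finset.dvd_sum fun H hH => ?_
  obtain ⟨x, hx, rfl⟩ := Finset.mem_image.mp hH
  rw [Finset.mem_filter] at hx
  haveI : IsCyclic (Subgroup.zpowers x) := Subgroup.isCyclic_zpowers x
  have hc : d ∣ Fintype.card (Subgroup.zpowers x) := by
    rw [← Nat.card_eq_fintype_card, Nat.card_zpowers, hx.2]
  rw [← IsCyclic.card_orderOf_eq_totient hc]
  refine dvd_of_eq (Finset.card_bij (fun (y : Subgroup.zpowers x) _ => (y : G)) (fun y hy => ?_)
    (fun a _ b _ h => Subtype.ext h) fun y hy => ?_)
  · simp only [Finset.mem_filter, Finset.mem_univ, true_and] at hy ⊢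
    refine ⟨by rw [Subgroup.orderOf_coe, hy], ?_⟩
    refine Subgroup.eq_of_le_of_card_ge (Subgroup.zpowers_le.mpr y.2) ?_
    rw [Nat.card_zpowers, Nat.card_zpowers, Subgroup.orderOf_coe, hy, hx.2]
  · simp only [Finset.mem_filter, Finset.mem_univ, true_and] at hy
    refine ⟨⟨y, hy.2 ▸ Subgroup.mem_zpowers y⟩, ?_, rfl⟩
    simp [hy.1]

theorem pow_gcd_card_iff {G : Type*} [Group G] (m : ℕ) (x : G) :
    x ^ m = 1 ↔ x ^ Nat.gcd m (Nat.card G) = 1 := by
  rw [← orderOf_dvd_iff_pow_eq_one, ← orderOf_dvd_iff_pow_eq_one, Nat.dvd_gcd_iff]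
  exact ⟨fun h => ⟨h, orderOf_dvd_natCard x⟩, fun h => h.1⟩

theorem card_centralizer_roots_eq {G : Type*} [Group G] [Finite G] (u : G) {k : ℕ}
    (hk : (orderOf u).Coprime k) :
    ∀ _ : ((Subgroup.zpowers u).subgroupOf (Subgroup.centralizer ({u} : Set G))).Normal,
    Nat.card {v : Subgroup.centralizer ({u} : Set G) // v ^ k = 1} =
      Nat.card {w : Subgroup.centralizer ({u} : Set G) ⧸
        (Subgroup.zpowers u).subgroupOf (Subgroup.centralizer ({u} : Set G)) // w ^ k = 1} := by
  intro hn
  set C := Subgroup.centralizer ({u} : Set G)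
  set Z := (Subgroup.zpowers u).subgroupOf C
  obtain ⟨e, he⟩ := exists_pow_eq_self_of_coprime (x := u) (n := k) hk.symm
  refine Nat.card_eq_of_bijective
    (fun v => ⟨(QuotientGroup.mk v.1 : C ⧸ Z), by rw [← QuotientGroup.mk_pow, v.2]; rfl⟩) ⟨?_, ?_⟩
  · intro a b hab
    have h1 : a.1⁻¹ * b.1 ∈ Z := QuotientGroup.eq.mp (congrArg Subtype.val hab :)
    obtain ⟨i, hi⟩ := Subgroup.mem_zpowers_iff.mp (Subgroup.mem_subgroupOf.mp h1)
    have hb : (b.1 : G) = (a.1 : G) * u ^ i := by
      rw [hi]; simp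
    have hc : Commute (a.1 : G) (u ^ i) :=
      (show Commute (a.1 : G) u from Subgroup.mem_centralizer_singleton_iff.mp a.1.2).zpow_right i
    have h2 : (u ^ i) ^ k = 1 := by
      have e1 : ((b.1 : G)) ^ k = 1 := congrArg Subtype.val b.2
      have e2 : ((a.1 : G)) ^ k = 1 := congrArg Subtype.val a.2
      rwa [hb, hc.mul_pow, e2, one_mul] at e1
    have h3 : u ^ i = 1 := by
      have : ((u ^ i) ^ k) ^ e = u ^ i := by
        rw [← pow_mul, ← zpow_natCast (u ^ i), ← zpow_mul, mul_comm, zpow_mul, zpow_natCast,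
          pow_mul, he]
      rw [← this, h2, one_pow]
    rw [h3, mul_one] at hb
    exact Subtype.ext (Subtype.ext hb.symm)
  · rintro ⟨w, hw⟩
    obtain ⟨c, rfl⟩ := QuotientGroup.mk_surjective w
    rw [← QuotientGroup.mk_pow, QuotientGroup.eq_one_iff, Subgroup.mem_subgroupOf,
      Subgroup.mem_zpowers_iff] at hw
    obtain ⟨j, hj⟩ := hw
    have hu : u ∈ C := Subgroup.mem_centralizer_singleton_iff.mpr rfl
    set z : C := ⟨(u ^ e) ^ (-j), zpow_mem (pow_mem hu e) _⟩
    have hz : z ∈ Z := Subgroup.mem_subgroupOf.mpr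
      (zpow_mem (pow_mem (Subgroup.mem_zpowers u) e) _)
    refine ⟨⟨c * z, Subtype.ext ?_⟩, Subtype.ext ?_⟩
    · show ((c : G) * (u ^ e) ^ (-j)) ^ k = 1
      have hc : Commute (c : G) ((u ^ e) ^ (-j)) :=
        ((show Commute (c : G) u from Subgroup.mem_centralizer_singleton_iff.mp c.2).pow_right e).zpow_right _
      rw [hc.mul_pow, show (c : G) ^ k = u ^ j from hj.symm]
      have : ((u ^ e) ^ (-j)) ^ k = u ^ (-j) := by
        rw [← zpow_natCast ((u ^ e) ^ (-j)), ← zpow_mul, mul_comm, zpow_mul, zpow_natCast,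
          ← pow_mul, mul_comm e, pow_mul, he]
      rw [this, ← zpow_add, add_neg_cancel, zpow_zero]
    · show (QuotientGroup.mk (c * z) : C ⧸ Z) = QuotientGroup.mk c
      rw [QuotientGroup.mk_mul, (QuotientGroup.eq_one_iff z).mpr hz, mul_one]

/-- One step of the descending induction on `m`. -/
theorem step {G : Type u} [Group G] [Finite G]
    (ih : ∀ (H : Type u) [Group H] [Finite H], Nat.card H < Nat.card G →
      ∀ k : ℕ, Nat.gcd k (Nat.card H) ∣ Nat.card {x : H // x ^ k = 1})
    {m p : ℕ} (hp : p.Prime) (hm0 : m ≠ 0) (hmp : m * p ∣ Nat.card G) :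
    m ∣ Nat.card {x : G // x ^ (m * p) = 1 ∧ ¬ x ^ m = 1} := by
  classical
  haveI := Fintype.ofFinite G
  haveI := Fact.mk hp
  set a := m.factorization p with ha
  set m' := m / p ^ a with hm'
  have hmm : p ^ a * m' = m := Nat.ordProj_mul_ordCompl_eq_self m p
  have hpm' : p.Coprime m' := Nat.coprime_ordCompl hp hm0
  rw [Nat.card_eq_fintype_card, Fintype.card_subtype]
  set A := (Finset.univ : Finset G).filter (fun x => x ^ (m * p) = 1 ∧ ¬ x ^ m = 1) with hA
  have hord : ∀ x ∈ A, p ^ (a + 1) ∣ orderOf x := by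
    intro x hx
    simp only [hA, Finset.mem_filter, Finset.mem_univ, true_and] at hx
    rw [← orderOf_dvd_iff_pow_eq_one, ← orderOf_dvd_iff_pow_eq_one] at hx
    rw [Nat.Prime.pow_dvd_iff_le_factorization hp (orderOf_pos x).ne']
    by_contra hlt
    push Not at hlt
    refine hx.2 ((Nat.factorization_le_iff_dvd (orderOf_pos x).ne' hm0).mp fun q => ?_)
    have h1 := (Nat.factorization_le_iff_dvd (orderOf_pos x).ne'
      (Nat.mul_ne_zero hm0 hp.ne_zero)).mpr hx.1 q
    rw [Nat.factorization_mul hm0 hp.ne_zero, Finsupp.add_apply, hp.factorization,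
      Finsupp.single_apply] at h1
    by_cases hq : p = q
    · subst hq; omega
    · simpa [hq] using h1
  rw [← hmm]
  refine Nat.Coprime.mul_dvd_of_dvd_of_dvd (hpm'.pow_left a) ?_ ?_
  · rw [Finset.card_eq_sum_card_image (fun x : G => orderOf x)]
    refine Finset.dvd_sum fun d hd => ?_
    obtain ⟨x, hx, rfl⟩ := Finset.mem_image.mp hd
    have h1 : A.filter (fun y => orderOf y = orderOf x) =
        Finset.univ.filter (fun y => orderOf y = orderOf x) := by
      ext y
      simp only [hA, Finset.mem_filter, Finset.mem_univ, true_and, and_iff_right_iff_imp] at hx ⊢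
      intro hy
      rwa [← orderOf_dvd_iff_pow_eq_one, ← orderOf_dvd_iff_pow_eq_one, hy,
        orderOf_dvd_iff_pow_eq_one, orderOf_dvd_iff_pow_eq_one]
    rw [h1]
    have h2 := totient_dvd_card_orderOf (G := G) (orderOf x)
    rw [Nat.card_eq_fintype_card, Fintype.card_subtype] at h2
    refine Dvd.dvd.trans ?_ h2
    refine Dvd.dvd.trans ?_ (Nat.totient_dvd_of_dvd (hord x hx))
    rw [Nat.totient_prime_pow_succ hp]
    exact dvd_mul_right _ _
  · by_cases hm'1 : m' = 1
    · rw [hm'1]; exact one_dvd _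
    set Q := p ^ (a + 1) with hQ
    have hQm : m * p = Q * m' := by rw [hQ, pow_succ, ← hmm]; ring
    obtain ⟨k, -, hk⟩ := Nat.exists_mul_mod_eq_one_of_coprime (hpm'.symm.pow_right (a + 1))
      (Nat.one_lt_pow a.succ_ne_zero hp.one_lt)
    change m' * k % Q = 1 at hk
    let T := {u : G // orderOf u = Q}
    let f : (Σ u : T, {v : Subgroup.centralizer ({(u : G)} : Set G) // v ^ m' = 1}) →
        {x : G // x ∈ A} := fun s => ⟨(s.1 : G) * (s.2.1 : G), by
      obtain ⟨⟨u, hu⟩, ⟨v, hv⟩⟩ := s
      simp only [hA, Finset.mem_filter, Finset.mem_univ, true_and]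
      have hc : Commute u (v : G) :=
        (Subgroup.mem_centralizer_singleton_iff.mp v.2).symm
      have hv' : (v : G) ^ m' = 1 := congrArg Subtype.val hv
      refine ⟨?_, fun h => ?_⟩
      · have huQ' : u ^ Q = 1 := hu ▸ pow_orderOf_eq_one u
        rw [hQm, hc.mul_pow, pow_mul, huQ', one_pow, one_mul, mul_comm, pow_mul, hv', one_pow]
      · have h2 : u ^ m = 1 := by
          rwa [hc.mul_pow, show (v : G) ^ m = 1 by rw [← hmm, mul_comm, pow_mul, hv', one_pow],
            mul_one] at h
        rw [← orderOf_dvd_iff_pow_eq_one, hu, hQ,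
          Nat.Prime.pow_dvd_iff_le_factorization hp hm0] at h2
        omega⟩
    have hkey : ∀ u v : G, orderOf u = Q → Commute u v → v ^ m' = 1 →
        (u * v) ^ (m' * k) = u := by
      intro u v hu hc hv
      rw [hc.mul_pow, pow_mul v, hv, one_pow, mul_one, ← pow_mod_orderOf, hu, hk, pow_one]
    have hbij : Function.Bijective f := by
      constructor
      · rintro ⟨⟨u, hu⟩, ⟨v, hv⟩⟩ ⟨⟨u', hu'⟩, ⟨v', hv'⟩⟩ h
        have h1 : u * (v : G) = u' * (v' : G) := congrArg Subtype.val h
        have e1 := hkey u v hu (Subgroup.mem_centralizer_singleton_iff.mp v.2).symm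
          (congrArg Subtype.val hv)
        have e2 := hkey u' v' hu' (Subgroup.mem_centralizer_singleton_iff.mp v'.2).symm
          (congrArg Subtype.val hv')
        rw [h1, e2] at e1
        subst e1
        have h3 : v = v' := Subtype.ext (mul_left_cancel h1)
        subst h3
        rfl
      · rintro ⟨x, hx⟩
        have hx' := hx
        simp only [hA, Finset.mem_filter, Finset.mem_univ, true_and] at hx'
        have hxd : orderOf x ∣ Q * m' := hQm ▸ orderOf_dvd_of_pow_eq_one hx'.1
        set u := x ^ (m' * k) with hu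
        have huQ : orderOf u = Q := by
          have h1 : u ^ Q = 1 := by
            rw [hu, ← pow_mul, ← orderOf_dvd_iff_pow_eq_one]
            exact hxd.trans ⟨k, by ring⟩
          refine orderOf_eq_prime_pow ?_ h1
          rw [hu, ← pow_mul, ← orderOf_dvd_iff_pow_eq_one]
          intro hd
          have hcopk : Nat.Coprime p k := by
            refine (Nat.Prime.coprime_iff_not_dvd hp).mpr fun hpk => hp.one_lt.ne' ?_
            have h2 : p ∣ m' * k % Q :=
              (Nat.dvd_mod_iff (dvd_pow_self p a.succ_ne_zero)).mpr (hpk.mul_left _)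
            rw [hk] at h2
            exact Nat.dvd_one.mp h2
          have h2 : p ^ (a + 1) ∣ m' * k * p ^ a := (hord x hx).trans hd
          have h3 : p ^ (a + 1) ∣ p ^ a :=
            ((hpm'.mul_right hcopk).pow_left (a + 1)).dvd_of_dvd_mul_left h2
          have := (Nat.pow_dvd_pow_iff_le_right hp.one_lt).mp h3
          omega
        have hv : (u⁻¹ * x) ^ m' = 1 := by
          have hc : Commute u⁻¹ x := ((Commute.refl x).pow_left _).inv_left
          rw [hc.mul_pow, inv_pow, hu, ← pow_mul, inv_mul_eq_one]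
          rw [pow_eq_pow_iff_modEq]
          refine Nat.ModEq.of_dvd hxd ?_
          have h1 : m' * k ≡ 1 [MOD Q] := by
            show m' * k % Q = 1 % Q
            rw [hk, Nat.mod_eq_of_lt (Nat.one_lt_pow a.succ_ne_zero hp.one_lt)]
          have := h1.mul_right' m'
          rwa [one_mul] at this
        refine ⟨⟨⟨u, huQ⟩, ⟨⟨u⁻¹ * x, Subgroup.mem_centralizer_singleton_iff.mpr ?_⟩, Subtype.ext hv⟩⟩,
          Subtype.ext (mul_inv_cancel_left u x)⟩
        show u⁻¹ * x * u = u * (u⁻¹ * x)
        rw [hu]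
        group
    rw [← Fintype.card_coe, ← Nat.card_eq_fintype_card,
      ← Nat.card_congr (Equiv.ofBijective f hbij), Nat.card_sigma]
    let g : T → ℕ := fun u => Nat.card {v : Subgroup.centralizer ({(u : G)} : Set G) // v ^ m' = 1}
    show m' ∣ ∑ u : T, g u
    rw [← Finset.sum_fiberwise_of_maps_to (t := Finset.univ.image fun u : T => ConjClasses.mk (u : G))
      (fun u _ => Finset.mem_image_of_mem _ (Finset.mem_univ u))]
    refine Finset.dvd_sum fun K hK => ?_
    obtain ⟨u, -, rfl⟩ := Finset.mem_image.mp hK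
    set F := Finset.univ.filter (fun w : T => ConjClasses.mk (w : G) = ConjClasses.mk (u : G))
    have hconst : ∀ w ∈ F, g w = g u := by
      intro w hw
      rw [Finset.mem_filter, ConjClasses.mk_eq_mk_iff_isConj, isConj_comm, isConj_iff] at hw
      obtain ⟨c, hc⟩ := hw.2
      refine (Nat.card_congr ?_).symm
      let e : Subgroup.centralizer ({(u : G)} : Set G) ≃ Subgroup.centralizer ({(w : G)} : Set G) :=
        { toFun := fun v => ⟨c * v * c⁻¹, Subgroup.mem_centralizer_singleton_iff.mpr (by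
            rw [← hc]
            calc c * (v : G) * c⁻¹ * (c * u * c⁻¹) = c * ((v : G) * u) * c⁻¹ := by group
              _ = c * (u * (v : G)) * c⁻¹ := by rw [Subgroup.mem_centralizer_singleton_iff.mp v.2]
              _ = _ := by group)⟩
          invFun := fun v => ⟨c⁻¹ * v * c, Subgroup.mem_centralizer_singleton_iff.mpr (by
            have h1 : (u : G) = c⁻¹ * w * c := by rw [← hc]; group
            rw [h1]
            calc c⁻¹ * (v : G) * c * (c⁻¹ * w * c) = c⁻¹ * ((v : G) * w) * c := by group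
              _ = c⁻¹ * ((w : G) * v) * c := by rw [Subgroup.mem_centralizer_singleton_iff.mp v.2]
              _ = _ := by group)⟩
          left_inv := fun v => Subtype.ext (by simp [mul_assoc])
          right_inv := fun v => Subtype.ext (by simp [mul_assoc]) }
      refine e.subtypeEquiv fun v => ?_
      rw [Subtype.ext_iff, Subtype.ext_iff]
      simp [e, conj_pow]
    rw [Finset.sum_congr rfl hconst, Finset.sum_const, smul_eq_mul]
    have hF : F.card * Nat.card (Subgroup.centralizer ({(u : G)} : Set G)) = Nat.card G := by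
      rw [← Cfsg.Agent.Lib.SylowCounting.card_conjClass_mul_card_centralizer (u : G)]
      congr 1
      rw [← Fintype.card_coe, ← Nat.card_eq_fintype_card]
      refine Nat.card_congr
        { toFun := fun w => ⟨(w.1 : G),
            (ConjClasses.mk_eq_mk_iff_isConj.mp (Finset.mem_filter.mp w.2).2).symm⟩
          invFun := fun w => ⟨⟨w.1, ?_⟩,
            Finset.mem_filter.mpr ⟨Finset.mem_univ _, ConjClasses.mk_eq_mk_iff_isConj.mpr w.2.symm⟩⟩
          left_inv := fun w => rfl
          right_inv := fun w => rfl }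
      obtain ⟨c, hc⟩ := isConj_iff.mp w.2
      rw [← hc]
      exact (orderOf_injective (MulAut.conj c).toMonoidHom (MulAut.conj c).injective (u : G)).trans u.2
    set C := Subgroup.centralizer ({(u : G)} : Set G)
    set Z := (Subgroup.zpowers (u : G)).subgroupOf C
    haveI hZn : Z.Normal := by
      refine ⟨fun z hz c => ?_⟩
      rw [Subgroup.mem_subgroupOf] at hz ⊢
      obtain ⟨i, hi⟩ := Subgroup.mem_zpowers_iff.mp hz
      have hc : Commute (c : G) ((u : G) ^ i) :=
        (show Commute (c : G) (u : G) from Subgroup.mem_centralizer_singleton_iff.mp c.2).zpow_right i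
      show (c : G) * z * (c : G)⁻¹ ∈ _
      rw [← hi, hc.eq, mul_inv_cancel_right]
      exact zpow_mem (Subgroup.mem_zpowers _) i
    have hZc : Nat.card Z = Q := by
      rw [Nat.card_congr (Subgroup.subgroupOfEquivOfLe (Subgroup.zpowers_le.mpr
        (Subgroup.mem_centralizer_singleton_iff.mpr rfl))).toEquiv, Nat.card_zpowers, u.2]
    have hCZ : Nat.card (C ⧸ Z) * Q = Nat.card C := by
      rw [← hZc]; exact Z.card_eq_card_quotient_mul_card_subgroup.symm
    have hlt : Nat.card (C ⧸ Z) < Nat.card G := by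
      refine lt_of_lt_of_le ?_ (Subgroup.card_le_card_group C)
      rw [← hCZ]
      exact lt_mul_of_one_lt_right Nat.card_pos (Nat.one_lt_pow a.succ_ne_zero hp.one_lt)
    have hg : Nat.gcd m' (Nat.card (C ⧸ Z)) ∣ g u := by
      show _ ∣ Nat.card {v : C // v ^ m' = 1}
      rw [card_centralizer_roots_eq (u : G) (u.2.symm ▸ hpm'.pow_left (a + 1)) hZn]
      exact ih (C ⧸ Z) hlt m'
    refine Dvd.dvd.trans ?_ (mul_dvd_mul_left _ hg)
    rw [← Nat.Coprime.gcd_mul_right_cancel_right (n := Nat.card (C ⧸ Z)) (k := Q)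
      (hpm'.pow_left (a + 1)), hCZ, ← Nat.gcd_mul_left, hF]
    exact Nat.dvd_gcd (dvd_mul_left _ _)
      (dvd_trans ⟨p ^ a, by rw [← hmm, mul_comm]⟩ ((dvd_mul_right m p).trans hmp))

theorem gcd_dvd_card {G : Type u} [Group G] [Finite G] (k : ℕ) :
    Nat.gcd k (Nat.card G) ∣ Nat.card {x : G // x ^ k = 1} := by
  obtain ⟨c, hc⟩ : ∃ c, Nat.card G = c := ⟨_, rfl⟩
  induction c using Nat.strongRecOn generalizing G k with
  | ind c ih =>
  rw [Nat.card_congr (Equiv.subtypeEquivRight fun x : G => pow_gcd_card_iff k x)]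
  have hdvd := Nat.gcd_dvd_right k (Nat.card G)
  generalize Nat.gcd k (Nat.card G) = m at hdvd ⊢
  obtain ⟨q, hq⟩ := hdvd
  induction q using Nat.strongRecOn generalizing m with
  | ind q ihq =>
  by_cases hq1 : q = 1
  · subst hq1
    rw [mul_one] at hq
    rw [← hq, Nat.card_congr (Equiv.subtypeUnivEquiv fun x : G => pow_card_eq_one')]
  have hq0 : q ≠ 0 := fun h => Nat.card_pos.ne' (hq.trans (by rw [h, mul_zero]))
  have hm0 : m ≠ 0 := fun h => Nat.card_pos.ne' (hq.trans (by rw [h, zero_mul]))
  obtain ⟨p, hp, r, hr⟩ := Nat.exists_prime_and_dvd hq1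
  have hmp : Nat.card G = m * p * r := by rw [hq, hr, mul_assoc]
  have hrlt : r < q := by
    rw [hr]
    exact lt_mul_of_one_lt_left (Nat.pos_of_ne_zero fun h => hq0 (by rw [hr, h, mul_zero])) hp.one_lt
  have h1 : m * p ∣ Nat.card {x : G // x ^ (m * p) = 1} := ihq r hrlt (m * p) hmp
  have h2 := step (fun H _ _ hH k => ih _ (hc ▸ hH) k rfl) hp hm0 ⟨r, hmp⟩
  classical
  haveI := Fintype.ofFinite G
  rw [Nat.card_eq_fintype_card, Fintype.card_subtype] at h1 h2 ⊢
  have hsplit := Finset.card_filter_add_card_filter_not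
    (s := (Finset.univ : Finset G).filter fun x => x ^ (m * p) = 1) (fun x : G => x ^ m = 1)
  rw [Finset.filter_filter, Finset.filter_filter] at hsplit
  have h3 : (Finset.univ.filter fun x : G => x ^ (m * p) = 1 ∧ x ^ m = 1) =
      Finset.univ.filter fun x : G => x ^ m = 1 := by
    refine Finset.filter_congr fun x _ => ?_
    exact ⟨fun h => h.2, fun h => ⟨by rw [pow_mul, h, one_pow], h⟩⟩
  rw [h3] at hsplit
  exact (Nat.dvd_add_iff_left h2).mpr (hsplit ▸ dvd_trans (dvd_mul_right m p) h1)

/-- Frobenius' divisibility Theorem: if m divides the order of a finite group G, then m divides the number of elements g of G with g^m = 1. -/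
theorem result {G : Type*} [Group G] [Finite G] (m : ℕ) (hm : m ∣ Nat.card G) :
    m ∣ Nat.card {g : G // g ^ m = 1} := by
  have h := gcd_dvd_card (G := G) m
  rwa [Nat.gcd_eq_left hm] at h

end Cfsg.Agent.S3993
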