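import Cfsg.Statements.S0742
import Cfsg.Agent.Lib.OddLocal.ZassenhausDerive
import Cfsg.Agent.Lib.OddLocal.ZassenhausHalf

set_option autoImplicit false
open Cfsg

namespace Cfsg.Agent.S0742

/-- A finite Zassenhaus group of degree `n + 1` with two-point stabilisers of even order `d` satisfying `2d ≤ n - 1` has `n = p^f` for an odd prime `p` and is isomorphic to `PSL(2, p^f)`. -/
theorem result {G Ω : Type*} [Group G] [Finite G] [MulAction G Ω] [Fintype Ω] (hZ : Cfsg.IsZassenhausGroup G Ω) {a b : Ω} (hab : a ≠ b) (heven : Even (Nat.card ↥(MulAction.stabilizer G a ⊓ MulAction.stabilizer G b))) (hd : 2 * Nat.card ↥(MulAction.stabilizer G a ⊓ MulAction.stabilizer G b) ≤ Fintype.card Ω - 2) : ∃ (p f : ℕ) (K : Type) (_ : Field K) (_ : Fintype K), p.Prime ∧ p ≠ 2 ∧ Fintype.card K = p ^ f ∧ Fintype.card Ω = p ^ f + 1 ∧ Nonempty (G ≃* Matrix.ProjectiveSpecialLinearGroup (Fin 2) K) := by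
  classical
  obtain ⟨H, K⟩ := Lib.OddLocal.ZassPSL.exists_ker hZ hab
  set e := Nat.card ↥(MulAction.stabilizer G a ⊓ MulAction.stabilizer G b : Subgroup G)
  have hge := Cfsg.Agent.S0741.result hZ hab heven
  have h2 := K.two_le_e
  have hh := K.hh
  obtain ⟨hab', p, f, hp, hpf⟩ := Lib.OddLocal.ZassPSL.comm_of_large K (by omega)
  obtain ⟨w, hw⟩ := Lib.OddLocal.ZassPSL.halfZass K hab' (by omega)
  obtain ⟨L, i1, i2, -, hL, hiso⟩ := hw.iso_PSL2
  refine ⟨p, f, L, i1, i2, hp, ?_, by omega, by omega, hiso⟩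
  rintro rfl
  rcases f with _ | f
  · simp only [pow_zero] at hpf
    omega
  · rw [pow_succ] at hpf
    omega

end Cfsg.Agent.S0742
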