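import Cfsg.Statements.S5395
import Cfsg.Agent.Lib.ThreeTransp.Extraspecial

set_option autoImplicit false
open Cfsg Cfsg.Agent.Lib.ThreeTransp

namespace Cfsg.Agent.S5395

/-- For a finite extraspecial 2-group E, an automorphism of E that induces the identity on E modulo its centre is inner (so these automorphisms form exactly the inner automorphism group, an elementary abelian 2-group of order |E|/2). -/
theorem result {E : Type*} [Group E] [Finite E] (hE : Cfsg.IsExtraspecial 2 E) (φ : E ≃* E) (hφ : ∀ x : E, φ x * x⁻¹ ∈ Subgroup.center E) : ∃ g : E, ∀ x : E, φ x = g * x * g⁻¹ := by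
  classical
  set Z := Subgroup.center E with hZdef
  haveI : Nontrivial Z := Finite.one_lt_card_iff_nontrivial.1 (by rw [hE.2]; norm_num)
  obtain ⟨z0, hz0⟩ := exists_ne (1 : Z)
  have hz01 : (z0 : E) ≠ 1 := fun h => hz0 (Subtype.ext h)
  have hcs : ∀ c : E, c ∈ Z → c ^ 2 = 1 := fun c hc => extraspecial_center_sq (hE := hE) hc
  have hceq : ∀ c : E, c ∈ Z → c = 1 ∨ c = z0 := fun c hc => by
    by_cases h : c = 1
    · exact Or.inl h
    · exact Or.inr (extraspecial_center_eq (hE := hE) hc z0.2 h hz01)
  have hφZ : ∀ c ∈ Z, φ c = c := by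
    intro c hc
    have hφc : φ c ∈ Z := by
      have := Z.mul_mem (hφ c) hc
      rwa [inv_mul_cancel_right] at this
    rcases hceq c hc with rfl | rfl
    · exact map_one φ
    · rcases hceq _ hφc with h | h
      · exact absurd ((MulEquiv.map_eq_one_iff φ).1 h) hz01
      · exact h
  let A := E ⧸ Z
  let f : E → A →* Z := fun g => QuotientGroup.lift Z
    (MonoidHom.mk' (fun x => (⟨g * x * g⁻¹ * x⁻¹, by
      show g * x * g⁻¹ * x⁻¹ ∈ Subgroup.center E
      rw [← hE.1.2.2]
      exact Subgroup.commutator_mem_commutator (Subgroup.mem_top g) (Subgroup.mem_top x)⟩ : Z))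
      (by
        intro x y
        refine Subtype.ext ?_
        show g * (x * y) * g⁻¹ * (x * y)⁻¹ = g * x * g⁻¹ * x⁻¹ * (g * y * g⁻¹ * y⁻¹)
        have hm : g * y * g⁻¹ * y⁻¹ ∈ Subgroup.center E := by
          rw [← hE.1.2.2]
          exact Subgroup.commutator_mem_commutator (Subgroup.mem_top g) (Subgroup.mem_top y)
        rw [mul_assoc (g * x * g⁻¹), Subgroup.mem_center_iff.1 hm x⁻¹]
        group))
    (by
      intro c hc
      refine MonoidHom.mem_ker.2 (Subtype.ext ?_)
      show g * c * g⁻¹ * c⁻¹ = 1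
      rw [Subgroup.mem_center_iff.1 hc g]; group)
  have hf : ∀ g x : E, (f g (QuotientGroup.mk x) : E) = g * x * g⁻¹ * x⁻¹ := fun g x => rfl
  -- homomorphisms `A →* Z` number at most `card A`
  haveI : Fintype A := Fintype.ofFinite A
  haveI : Fintype (A →* Z) := @Fintype.ofFinite _ (Finite.of_injective _ DFunLike.coe_injective)
  have hcard : Fintype.card (A →* Z) ≤ Fintype.card A := by
    let ι : Z →* ℚ := MonoidHom.mk ⟨fun c => if c = 1 then 1 else -1, if_pos rfl⟩ (by
      intro a b
      have hab : ∀ c : Z, c = 1 ∨ c = z0 := fun c => (hceq c c.2).imp Subtype.ext Subtype.ext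
      have h2 : z0 * z0 = 1 := Subtype.ext (by have := hcs z0 z0.2; rwa [pow_two] at this)
      rcases hab a with rfl | rfl <;> rcases hab b with rfl | rfl <;> simp [hz0, h2])
    have hι : Function.Injective ι := by
      intro a b h
      have hab : ∀ c : Z, c = 1 ∨ c = z0 := fun c => (hceq c c.2).imp Subtype.ext Subtype.ext
      rcases hab a with rfl | rfl <;> rcases hab b with rfl | rfl <;>
        simp [ι, hz0] at h <;> first | rfl | linarith
    have hinj : Function.Injective (fun h : A →* Z => ι.comp h) := fun a b h =>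
      MonoidHom.ext fun x => hι (DFunLike.congr_fun h x)
    have h := ((linearIndependent_monoidHom A ℚ).comp _ hinj).fintype_card_le_finrank
    rwa [Module.finrank_fintype_fun_eq_card] at h
  let fbar : A → A →* Z := fun a => Quotient.liftOn' a f (by
    intro a b hab
    rw [QuotientGroup.leftRel_apply] at hab
    refine MonoidHom.ext fun q => ?_
    induction q using QuotientGroup.induction_on with
    | H x =>
      refine Subtype.ext ?_
      rw [hf, hf]
      obtain ⟨c, hc, rfl⟩ : ∃ c ∈ Z, b = a * c := ⟨a⁻¹ * b, hab, by group⟩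
      have h1 := Subgroup.mem_center_iff.1 hc x
      calc a * x * a⁻¹ * x⁻¹ = a * (x * c) * c⁻¹ * a⁻¹ * x⁻¹ := by group
        _ = a * c * x * (a * c)⁻¹ * x⁻¹ := by rw [h1]; group)
  have hfbar : ∀ g : E, fbar (QuotientGroup.mk g) = f g := fun g => rfl
  have hfinj : Function.Injective fbar := by
    intro a b h
    induction a using QuotientGroup.induction_on with
    | H a =>
    induction b using QuotientGroup.induction_on with
    | H b =>
      rw [hfbar, hfbar] at h
      rw [QuotientGroup.eq]
      refine Subgroup.mem_center_iff.2 fun x => ?_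
      have h1 := congrArg (fun k : A →* Z => (k (QuotientGroup.mk (a⁻¹ * x * a)) : E)) h
      simp only [hf] at h1
      have h1' : a * (a⁻¹ * x * a) * a⁻¹ = b * (a⁻¹ * x * a) * b⁻¹ := mul_right_cancel h1
      calc x * (a⁻¹ * b) = (a * (a⁻¹ * x * a) * a⁻¹) * (a⁻¹ * b) := by group
        _ = _ := by
          have h2 := congrArg (fun k : A →* Z => (k (QuotientGroup.mk x) : E)) h
          simp only [hf] at h2
          have h3 : a * x * a⁻¹ = b * x * b⁻¹ := mul_right_cancel h2
          calc (a * (a⁻¹ * x * a) * a⁻¹) * (a⁻¹ * b) = a⁻¹ * (a * x * a⁻¹) * b := by group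
            _ = a⁻¹ * (b * x * b⁻¹) * b := by rw [h3]
            _ = a⁻¹ * b * x := by group
  have hbij : Function.Bijective fbar :=
    (Fintype.bijective_iff_injective_and_card fbar).2
      ⟨hfinj, le_antisymm (Fintype.card_le_of_injective fbar hfinj) hcard⟩
  let χ : A →* Z := QuotientGroup.lift Z
    (MonoidHom.mk' (fun x => (⟨φ x * x⁻¹, hφ x⟩ : Z)) (by
      intro x y
      refine Subtype.ext ?_
      show φ (x * y) * (x * y)⁻¹ = φ x * x⁻¹ * (φ y * y⁻¹)
      rw [map_mul, mul_assoc (φ x) x⁻¹, Subgroup.mem_center_iff.1 (hφ y) x⁻¹]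
      group))
    (fun c hc => MonoidHom.mem_ker.2 (Subtype.ext (show φ c * c⁻¹ = 1 by rw [hφZ c hc, mul_inv_cancel])))
  obtain ⟨a, ha⟩ := hbij.2 χ
  induction a using QuotientGroup.induction_on with
  | H g =>
    refine ⟨g, fun x => ?_⟩
    have h := congrArg (fun k : A →* Z => (k (QuotientGroup.mk x) : E)) ha
    have h' : g * x * g⁻¹ * x⁻¹ = φ x * x⁻¹ := h
    exact (mul_right_cancel h').symm

end Cfsg.Agent.S5395
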