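import Cfsg.Statements.S5422
import Cfsg.Agent.Lib.ThreeTransp.LargeSymm

set_option autoImplicit false
open Cfsg

namespace Cfsg.Agent.S5422

open Cfsg.Agent.Lib.ThreeTransp

theorem result {G : Type*} [Group G] [Finite G] (Q : Subgroup G) (hL1 : Cfsg.IsExtraspecial 2 ↥Q) (hL2 : Subgroup.centralizer (Q : Set G) = ((Subgroup.center ↥Q).map Q.subtype)) (hL3 : Subgroup.centralizer (((Subgroup.center ↥Q).map Q.subtype) : Set G) ≤ Subgroup.normalizer (Q : Set G)) (w : ℕ) (hw : 2 ≤ w) (hcard : Nat.card ↥Q = 2 ^ (2 * w + 1)) (g : G) (hg : g ∉ Subgroup.normalizer (((Subgroup.center ↥Q).map Q.subtype) : Set G)) (hZg : (((Subgroup.center ↥Q).map Q.subtype)).map (MulAut.conj g).toMonoidHom ≤ Q) : ((Subgroup.center ↥Q).map Q.subtype) ≤ (Q).map (MulAut.conj g).toMonoidHom ∧ (Subgroup.centralizer ((((Subgroup.center ↥Q).map Q.subtype) ⊔ (((Subgroup.center ↥Q).map Q.subtype)).map (MulAut.conj g).toMonoidHom : Subgroup G) : Set G)).relIndex (Subgroup.normalizer ((((Subgroup.center ↥Q).map Q.subtype) ⊔ (((Subgroup.center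 ↥Q).map Q.subtype)).map (MulAut.conj g).toMonoidHom : Subgroup G) : Set G)) = 6 ∧ Cfsg.IsLargeExtraspecial Q := by
  classical
  obtain ⟨z, hz, hZeq, hD⟩ := exists_center_gen hL1
  have hL2' := hL2
  have hL3' := hL3
  rw [hZeq] at hL2' hL3' hg hZg ⊢
  have hN : Subgroup.centralizer ({z} : Set G) ≤ Subgroup.normalizer (Q : Set G) := by
    rwa [← Subgroup.centralizer_closure, ← Subgroup.zpowers_eq_closure]
  set x := g * z * g⁻¹ with hxdef
  have hx : x ∈ Q := hZg ⟨z, Subgroup.mem_zpowers z, rfl⟩
  have h8 : 8 < Nat.card ↥Q := by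
    rw [hcard]; exact lt_of_lt_of_le (by norm_num) (Nat.pow_le_pow_right (by norm_num : 0 < 2)
      (by omega : 5 ≤ 2 * w + 1))
  obtain ⟨hX, hcB, hzB⟩ := wide_symm hD hL2' hN h8 hx
  rw [← hxdef] at hX hcB
  have hA := extraAt_of_data hD
  have hxz : x ≠ z := by
    intro e
    have hgz : g * z = z * g := mul_inv_eq_iff_eq_mul.1 (hxdef ▸ e)
    refine hg (Subgroup.mem_normalizer_iff.2 fun v => ?_)
    have hgzk : ∀ k : ℤ, g * z ^ k * g⁻¹ = z ^ k := fun k => by
      rw [← conj_zpow, mul_inv_eq_iff_eq_mul.2 hgz]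
    constructor
    · rintro ⟨k, rfl⟩; exact ⟨k, (hgzk k).symm⟩
    · rintro ⟨k, hk⟩; exact ⟨k, mul_left_cancel (mul_right_cancel ((hgzk k).trans hk))⟩
  have hzx : z * x = x * z := hA.central x hx
  refine ⟨Subgroup.zpowers_le.2 hzB, ?_, ?_⟩
  · rw [MonoidHom.map_zpowers]
    simp only [MulEquiv.coe_toMonoidHom, MulAut.conj_apply, ← hxdef]
    rw [Subgroup.zpowers_eq_closure, Subgroup.zpowers_eq_closure, ← Subgroup.closure_union]
    set V := Subgroup.closure ({z} ∪ {x} : Set G) with hV
    have hmem : ∀ v : G, v ∈ V ↔ v = 1 ∨ v = z ∨ v = x ∨ v = z * x := by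
      intro v
      constructor
      · intro hv
        induction hv using Subgroup.closure_induction with
        | mem u hu => rcases hu with rfl | rfl <;> simp
        | one => simp
        | mul a b _ _ ha hb =>
          have a1 : z * (z * x) = x := by rw [← mul_assoc, hD.sq, one_mul]
          have a2 : x * (z * x) = z := by
            rw [hzx, ← mul_assoc, hX.sq, one_mul]
          have a3 : z * x * z = x := by rw [hzx, mul_assoc, hD.sq, mul_one]
          have a4 : z * x * x = z := by rw [mul_assoc, hX.sq, mul_one]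
          have a5 : z * x * (z * x) = 1 := by rw [← mul_assoc, a3, hX.sq]
          rcases ha with rfl | rfl | rfl | rfl <;> rcases hb with rfl | rfl | rfl | rfl <;>
            simp only [one_mul, mul_one, hD.sq, hX.sq, a1, a2, a3, a4, a5, ← hzx] <;> tauto
        | inv a _ ha =>
          have hzi : z⁻¹ = z := inv_eq_of_mul_eq_one_right hD.sq
          have hxi : x⁻¹ = x := inv_eq_of_mul_eq_one_right hX.sq
          rcases ha with rfl | rfl | rfl | rfl <;> simp [hzi, hxi, hzx]
      · rintro (rfl | rfl | rfl | rfl)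
        exacts [one_mem _, Subgroup.subset_closure (by simp), Subgroup.subset_closure (by simp),
          mul_mem (Subgroup.subset_closure (by simp)) (Subgroup.subset_closure (by simp))]
    -- elements inducing the two transpositions
    have hzne : z * x ≠ z := fun e => hX.ne_one (mul_eq_left.1 e)
    have hxne : z * x ≠ x := fun e => hD.ne (mul_eq_right.1 e)
    obtain ⟨q, hq, hqx⟩ : ∃ q ∈ Q, q * x * q⁻¹ = z * x := by
      by_contra hne
      push Not at hne
      rcases hA.center x hx (fun b hb => (mul_inv_eq_iff_eq_mul.1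
        ((hA.comm b hb x hx).resolve_right (fun e => hne b hb (e.trans hzx.symm)))).symm) with e | e
      exacts [hX.ne_one e, hxz e]
    obtain ⟨t, ht, htz⟩ : ∃ t ∈ Q.map (MulAut.conj g).toMonoidHom, t * z * t⁻¹ = z * x := by
      by_contra hne
      push Not at hne
      rcases hX.center z hzB (fun b hb => (mul_inv_eq_iff_eq_mul.1
        ((hX.comm b hb z hzB).resolve_right (hne b hb))).symm) with e | e
      exacts [hD.ne e, hxz e.symm]
    have hqz : q * z * q⁻¹ = z := by rw [← hD.central q hq, mul_inv_cancel_right]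
    have htx : t * x * t⁻¹ = x := by rw [← hX.central t ht, mul_inv_cancel_right]
    have hnorm : ∀ c : G, c * z * c⁻¹ ∈ V → c * x * c⁻¹ ∈ V → c ∈ Subgroup.normalizer (V : Set G) := by
      intro c h1 h2
      have hle : V.map (MulAut.conj c).toMonoidHom ≤ V := by
        rw [Subgroup.map_le_iff_le_comap, hV, Subgroup.closure_le]
        rintro u (rfl | rfl)
        exacts [h1, h2]
      have heq : V.map (MulAut.conj c).toMonoidHom = V :=
        Subgroup.eq_of_le_of_card_ge hle (le_of_eq
          (Nat.card_congr (V.equivMapOfInjective _ (MulAut.conj c).injective).toEquiv))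
      rw [Subgroup.mem_normalizer_iff]
      intro u
      constructor
      · intro hu; rw [← heq]; exact Subgroup.mem_map_of_mem _ hu
      · intro hu
        rw [← heq] at hu
        obtain ⟨v, hv, hvu⟩ := hu
        have : v = u := (MulAut.conj c).injective hvu
        exact this ▸ hv
    set N := Subgroup.normalizer (V : Set G) with hNdef
    let f : ↥N → G × G := fun n => ((n : G) * z * (n : G)⁻¹, (n : G) * x * (n : G)⁻¹)
    set C := (Subgroup.centralizer (V : Set G)).subgroupOf N with hC
    have hfC : ∀ a b : ↥N, f a = f b ↔ a⁻¹ * b ∈ C := by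
      intro a b
      rw [hC, Subgroup.mem_subgroupOf, hV, Subgroup.centralizer_closure, Subgroup.mem_centralizer_iff]
      simp only [Set.mem_union, Set.mem_singleton_iff, forall_eq_or_imp, forall_eq, f, Prod.mk.injEq,
        Subgroup.coe_mul, InvMemClass.coe_inv]
      have key : ∀ v : G, (a : G) * v * (a : G)⁻¹ = (b : G) * v * (b : G)⁻¹ ↔
          v * ((a : G)⁻¹ * b) = (a : G)⁻¹ * b * v := by
        intro v
        constructor <;> intro e
        · calc v * ((a : G)⁻¹ * b) = (a : G)⁻¹ * ((a : G) * v * (a : G)⁻¹) * b := by group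
            _ = _ := by rw [e]; group
        · calc (a : G) * v * (a : G)⁻¹ = a * (v * ((a : G)⁻¹ * b)) * (b : G)⁻¹ := by group
            _ = _ := by rw [e]; group
      rw [key, key]
    show C.index = 6
    have hcardeq : C.index = (Set.range f).ncard := by
      rw [← Nat.card_coe_set_eq]
      refine Nat.card_eq_of_bijective (fun u => Quotient.liftOn' u (fun a => (⟨f a, a, rfl⟩ : Set.range f))
        (fun a b h => Subtype.ext ((hfC a b).2 (QuotientGroup.leftRel_apply.1 h)))) ⟨?_, ?_⟩
      · rintro ⟨a⟩ ⟨b⟩ h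
        exact Quotient.sound' (QuotientGroup.leftRel_apply.2 ((hfC a b).1 (congrArg Subtype.val h)))
      · rintro ⟨_, a, rfl⟩
        exact ⟨QuotientGroup.mk a, rfl⟩
    have hrange : Set.range f = {(z, x), (z, z * x), (x, z), (x, z * x), (z * x, z), (z * x, x)} := by
      apply Set.eq_of_subset_of_subset
      · rintro _ ⟨⟨n, hn⟩, rfl⟩
        have h1 : n * z * n⁻¹ ∈ V :=
          (Subgroup.mem_normalizer_iff.1 hn z).1 ((hmem z).2 (by simp))
        have h2 : n * x * n⁻¹ ∈ V :=
          (Subgroup.mem_normalizer_iff.1 hn x).1 ((hmem x).2 (by simp))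
        have h3 : n * z * n⁻¹ ≠ n * x * n⁻¹ := fun e => hxz (mul_left_cancel (mul_right_cancel e)).symm
        have h4 : n * z * n⁻¹ ≠ 1 := fun e => hD.ne (conj_eq_one_iff.1 e)
        have h5 : n * x * n⁻¹ ≠ 1 := fun e => hX.ne_one (conj_eq_one_iff.1 e)
        rw [hmem] at h1 h2
        show (n * z * n⁻¹, n * x * n⁻¹) ∈ _
        rcases h1.resolve_left h4 with e1 | e1 | e1 <;>
          rcases h2.resolve_left h5 with e2 | e2 | e2 <;> rw [e1, e2] at h3 ⊢ <;>
          first | exact absurd rfl h3 | simp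
      · have hin : ∀ c : G, c * z * c⁻¹ ∈ V → c * x * c⁻¹ ∈ V →
            (c * z * c⁻¹, c * x * c⁻¹) ∈ Set.range f := fun c h1 h2 => ⟨⟨c, hnorm c h1 h2⟩, rfl⟩
        have hq2 : q * (z * x) * q⁻¹ = x := by
          rw [show q * (z * x) * q⁻¹ = (q * z * q⁻¹) * (q * x * q⁻¹) by group, hqz, hqx,
            ← mul_assoc, hD.sq, one_mul]
        have ht2 : t * (z * x) * t⁻¹ = z := by
          rw [show t * (z * x) * t⁻¹ = (t * z * t⁻¹) * (t * x * t⁻¹) by group, htz, htx,
            mul_assoc, hX.sq, mul_one]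
        have hqq : ∀ (c v : G), q * c * v * (q * c)⁻¹ = q * (c * v * c⁻¹) * q⁻¹ := fun c v => by group
        have htt : ∀ (c v : G), t * c * v * (t * c)⁻¹ = t * (c * v * c⁻¹) * t⁻¹ := fun c v => by group
        have mz : z ∈ V := (hmem z).2 (by simp)
        have mx : x ∈ V := (hmem x).2 (by simp)
        have mzx : z * x ∈ V := (hmem _).2 (by simp)
        rintro ⟨a, b⟩ h
        simp only [Set.mem_insert_iff, Set.mem_singleton_iff, Prod.mk.injEq] at h
        rcases h with ⟨rfl, rfl⟩ | ⟨rfl, rfl⟩ | ⟨rfl, rfl⟩ | ⟨rfl, rfl⟩ | ⟨rfl, rfl⟩ | ⟨rfl, rfl⟩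
        · have := hin 1 (by simpa using mz) (by simpa using mx); simpa using this
        · have := hin q (by rwa [hqz]) (by rwa [hqx]); rwa [hqz, hqx] at this
        · have := hin (q * (t * q)) (by rwa [hqq, htt, hqz, htz, hq2]) (by rwa [hqq, htt, hqx, ht2, hqz])
          rwa [hqq, htt, hqz, htz, hq2, hqq, htt, hqx, ht2, hqz] at this
        · have := hin (q * t) (by rwa [hqq, htz, hq2]) (by rwa [hqq, htx, hqx])
          rwa [hqq, htz, hq2, hqq, htx, hqx] at this
        · have := hin (t * q) (by rwa [htt, hqz, htz]) (by rwa [htt, hqx, ht2])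
          rwa [htt, hqz, htz, htt, hqx, ht2] at this
        · have := hin t (by rwa [htz]) (by rwa [htx]); rwa [htz, htx] at this
    rw [hcardeq, hrange]
    have n1 : x ≠ z * x := Ne.symm hxne
    have n2 : z ≠ z * x := Ne.symm hzne
    rw [Set.ncard_insert_of_notMem, Set.ncard_insert_of_notMem, Set.ncard_insert_of_notMem,
      Set.ncard_insert_of_notMem, Set.ncard_insert_of_notMem, Set.ncard_singleton] <;>
      simp [hxz, Ne.symm hxz, n1, n2, hxne, hzne]
  · -- large
    refine isLarge_of_core hL1 hL2 hL3 hx ?_ (orderOf_eq_prime (by rw [pow_two, hX.sq]) hX.ne_one) ?_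
    · rw [hZeq]; intro h
      rcases Cfsg.Agent.Lib.Classification.TwoExtraData.mem_zpowers hD h with e | e
      exacts [hX.ne_one e, hxz e]
    · rw [hZeq, Subgroup.zpowers_le]
      set B := Q.map (MulAut.conj g).toMonoidHom
      have hBC : B ≤ Subgroup.centralizer ({x} : Set G) := fun b hb =>
        Subgroup.mem_centralizer_singleton_iff.2 (hX.central b hb).symm
      have hn : (B.subgroupOf (Subgroup.centralizer ({x} : Set G))).Normal := by
        refine ⟨fun u hu c => ?_⟩
        rw [Subgroup.mem_subgroupOf] at hu ⊢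
        exact hcB (Subgroup.mem_centralizer_singleton_iff.1 c.2) hu
      have hp : IsPGroup 2 ↥(B.subgroupOf (Subgroup.centralizer ({x} : Set G))) :=
        (hL1.1.1.map _).of_equiv (Subgroup.subgroupOfEquivOfLe hBC).symm
      exact ⟨⟨z, hBC hzB⟩, (le_sSup ⟨hn, hp⟩ : B.subgroupOf _ ≤ Cfsg.pCore 2 _)
        (Subgroup.mem_subgroupOf.2 hzB), rfl⟩

end Cfsg.Agent.S5422
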