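import Cfsg.Statements.S5433
import Cfsg.Agent.Lib.ThreeTransp.Extraspecial

set_option autoImplicit false
open Cfsg Cfsg.Agent.Lib.ThreeTransp

namespace Cfsg.Agent.S5433

/-- Let Q be a large extraspecial 2-subgroup of the finite group G (extraspecial; centralizer equal to its centre; normal in the centralizer of its centre; normalizing no non-trivial subgroup of odd order), and L a normal subgroup of G containing Q. Then G is the product of L and the normalizer of Q. -/
theorem result {G : Type*} [Group G] [Finite G] (Q : Subgroup G) (hQ : Cfsg.IsLargeExtraspecial Q) (L : Subgroup G) [L.Normal] (hQL : Q ≤ L) : L ⊔ Subgroup.normalizer (Q : Set G) = ⊤ := by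
  obtain ⟨hE, hC, hN, -⟩ := hQ
  set Z := (Subgroup.center ↥Q).map Q.subtype with hZdef
  have hpQ : IsPGroup 2 (Q.subgroupOf L) :=
    hE.1.1.of_equiv (Subgroup.subgroupOfEquivOfLe hQL).symm
  obtain ⟨T, hT⟩ := hpQ.exists_le_sylow
  set T' : Subgroup G := (T : Subgroup L).map L.subtype with hT'def
  have hQT : Q ≤ T' := fun q hq => ⟨⟨q, hQL hq⟩, hT hq, rfl⟩
  have hZcard : Nat.card Z = 2 := by
    rw [hZdef, Subgroup.card_map_of_injective Q.subtype_injective, hE.2]
  have hpT : IsPGroup 2 T' := T.2.map _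
  haveI : Nontrivial T' := by
    obtain ⟨c, hc, hc1⟩ := (Subgroup.ne_bot_iff_exists_ne_one.1 (by
      intro h; rw [h, Subgroup.card_bot] at hZcard; norm_num at hZcard : Z ≠ ⊥)) |>
      (fun ⟨⟨c, hc⟩, hc1⟩ => ⟨c, hc, fun h => hc1 (Subtype.ext h)⟩ : _ → ∃ c, c ∈ Z ∧ c ≠ 1)
    exact nontrivial_of_ne (⟨c, hQT ((Subgroup.map_subtype_le _) hc)⟩ : T') 1
      (fun h => hc1 (congrArg Subtype.val h))
  have hCT : (Subgroup.center T').map T'.subtype = Z := by
    have hle : (Subgroup.center T').map T'.subtype ≤ Z := by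
      rintro _ ⟨c, hc, rfl⟩
      rw [← hC]
      intro q hq
      exact congrArg Subtype.val (Subgroup.mem_center_iff.1 hc ⟨q, hQT hq⟩)
    haveI : Finite Z := Nat.finite_of_card_ne_zero (by omega)
    refine Subgroup.eq_of_le_of_card_ge hle ?_
    rw [hZcard, Subgroup.card_map_of_injective T'.subtype_injective]
    exact Finite.one_lt_card_iff_nontrivial.2 hpT.center_nontrivial
  have hle : Subgroup.normalizer (T' : Set G) ≤ Subgroup.normalizer (Q : Set G) := by
    intro g hg
    apply hN
    intro c hc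
    have hgc : ∀ d ∈ Z, g * d * g⁻¹ ∈ Z := by
      intro d hd
      rw [← hCT] at hd ⊢
      obtain ⟨u, hu, rfl⟩ := hd
      have hm := (Subgroup.mem_normalizer_iff.1 hg (u : G)).1 u.2
      refine ⟨⟨g * u * g⁻¹, hm⟩, Subgroup.mem_center_iff.2 fun v => Subtype.ext ?_, rfl⟩
      have hv : g⁻¹ * (v : G) * g ∈ T' := by
        apply (Subgroup.mem_normalizer_iff.1 hg _).2
        simpa [mul_assoc] using v.2
      have := congrArg Subtype.val (Subgroup.mem_center_iff.1 hu ⟨_, hv⟩)
      have e : g⁻¹ * (v : G) * g * (u : G) = (u : G) * (g⁻¹ * v * g) := this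
      calc (v : G) * (g * u * g⁻¹) = g * (g⁻¹ * v * g * u) * g⁻¹ := by group
        _ = g * (u * (g⁻¹ * v * g)) * g⁻¹ := by rw [e]
        _ = g * u * g⁻¹ * v := by group
    rcases eq_or_ne c 1 with rfl | hc1
    · simp
    · have h1 : g * c * g⁻¹ ≠ 1 := fun h => hc1 (conj_eq_one_iff.1 h)
      have h2 : g * c * g⁻¹ = c := by
        obtain ⟨a, ha, hae⟩ := hgc c hc
        obtain ⟨b, hb, rfl⟩ := hc
        rw [← hae] at h1 ⊢
        exact congrArg Q.subtype (extraspecial_center_eq (hE := hE) ha hb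
          (fun h => h1 (by rw [h]; rfl)) (fun h => hc1 (by rw [h]; rfl)))
      exact (mul_inv_eq_iff_eq_mul.1 h2).symm
  rw [eq_top_iff, ← Sylow.normalizer_sup_eq_top T]
  exact sup_le (hle.trans le_sup_right) le_sup_left

end Cfsg.Agent.S5433
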