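import Cfsg.Statements.S0005
import Cfsg.Agent.Lib.Coprime.Hall

set_option autoImplicit false
open Cfsg

namespace Cfsg.Agent.S0005

/-- Hall's Theorem, containment: in a finite solvable group of order m * n with m and n coprime, every subgroup of order coprime to n is contained in a subgroup of order m. -/
theorem result {G : Type*} [Group G] [Finite G] [Group.IsSolvable G] (m n : ℕ)
    (hG : Nat.card G = m * n) (hmn : m.Coprime n) (K : Subgroup G) (hK : (Nat.card K).Coprime n) :
    ∃ H : Subgroup G, Nat.card H = m ∧ K ≤ H := by
  obtain ⟨H, hH⟩ := Lib.Coprime.exists_subgroup_card_eq_of_solvable hG hmn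
  have hidx : H.index = n := by
    have := H.card_mul_index
    rw [hH, hG] at this
    exact Nat.eq_of_mul_eq_mul_left (by rw [← hH]; exact Nat.card_pos) this
  obtain ⟨g, hg⟩ := Lib.Coprime.exists_le_conj_of_solvable (H := H) (K := K)
    (by rw [hH, hidx]; exact hmn) (by rw [hidx]; exact hK)
  exact ⟨_, (Lib.Coprime.card_conj_smul g H).trans hH, hg⟩

end Cfsg.Agent.S0005
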