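import Cfsg.Statements.S0013
import Cfsg.Agent.Lib.Cores

set_option autoImplicit false
open Cfsg

namespace Cfsg.Agent.S0013

/-- In a finite p-group the Frattini subgroup is the smallest normal subgroup with elementary abelian quotient: it lies below any normal subgroup containing all commutators and all p-th powers. -/
theorem result {G : Type*} [Group G] [Finite G] (p : ℕ) [Fact p.Prime]
    (hG : IsPGroup p G) (N : Subgroup G) [N.Normal] (hcomm : commutator G ≤ N) (hpow : ∀ x : G, x ^ p ∈ N) :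
    frattini G ≤ N := by
  intro x hx
  by_contra hxN
  obtain ⟨M, ⟨hNM, hxM⟩, hmax⟩ := (Set.toFinite {M : Subgroup G | N ≤ M ∧ x ∉ M}).exists_maximal
    ⟨N, le_rfl, hxN⟩
  have hMn : M.Normal := Subgroup.Normal.of_commutator_le G (hcomm.trans hNM)
  have hall : ∀ y ∉ M, y ∈ M ⊔ Subgroup.zpowers x := by
    intro y hy
    have h1 : x ∈ M ⊔ Subgroup.zpowers y := by
      by_contra h
      exact hy (hmax ⟨hNM.trans le_sup_left, h⟩ le_sup_left
        (Subgroup.mem_sup_right (Subgroup.mem_zpowers y)))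
    rw [← SetLike.mem_coe, Subgroup.normal_mul] at h1
    obtain ⟨m, hm, _, ⟨i, rfl⟩, hmi⟩ := h1
    have hp : (p : ℕ).Prime := Fact.out
    have hi : ¬ (p : ℤ) ∣ i := by
      rintro ⟨j, rfl⟩
      refine hxM (hmi ▸ mul_mem hm ?_)
      show y ^ ((p : ℤ) * j) ∈ M
      rw [zpow_mul, zpow_natCast]
      exact zpow_mem (hNM (hpow y)) j
    obtain ⟨a, b, hab⟩ : ∃ a b : ℤ, a * i + b * p = 1 :=
      (Int.isCoprime_iff_gcd_eq_one.mpr
        (Int.gcd_comm .. ▸ Nat.Coprime.gcd_eq_one ((hp.coprime_iff_not_dvd).mpr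
          (fun h => hi (Int.natCast_dvd.mpr h)))))
    have hy' : y = (y ^ i) ^ a * (y ^ p) ^ b := by
      rw [← zpow_natCast y p, ← zpow_mul, ← zpow_mul, ← zpow_add, mul_comm i a, mul_comm (p : ℤ) b,
        hab, zpow_one]
    rw [hy']
    refine mul_mem (zpow_mem ?_ a) (zpow_mem (Subgroup.mem_sup_left (hNM (hpow y))) b)
    have h2 : y ^ i = m⁻¹ * x := by rw [← hmi]; group
    rw [h2]
    exact mul_mem (Subgroup.mem_sup_left (inv_mem hm)) (Subgroup.mem_sup_right (Subgroup.mem_zpowers x))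
  have hcoatom : IsCoatom M := by
    refine ⟨fun h => hxM (h ▸ Subgroup.mem_top x), fun K hK => eq_top_iff.mpr fun y _ => ?_⟩
    have hxK : x ∈ K := by
      by_contra h
      exact hK.not_ge (hmax ⟨hNM.trans hK.le, h⟩ hK.le)
    by_cases hy : y ∈ M
    · exact hK.le hy
    · exact sup_le hK.le (Subgroup.zpowers_le.mpr hxK) (hall y hy)
  exact hxM (frattini_le_coatom hcoatom hx)

end Cfsg.Agent.S0013
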