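import Cfsg.Statements.S0014
import Cfsg.Agent.Lib.PGroups.BurnsideBasis
import Mathlib.LinearAlgebra.Dimension.Constructions

set_option autoImplicit false
open Cfsg

namespace Cfsg.Agent.S0014

theorem aux {G Q : Type*} [Group G] [Finite G] [CommGroup Q] [Finite Q] (p n : ℕ) [Fact p.Prime]
    [Module (ZMod p) (Additive Q)]
    (π : G →* Q) (hπ : Function.Surjective π) (hker : π.ker = frattini G) 
    (hn : Nat.card Q = p ^ n) :
    (∀ S : Finset G, Subgroup.closure (S : Set G) = ⊤ → ∃ T : Finset G, T ⊆ S ∧ T.card = n ∧ Subgroup.closure (T : Set G) = ⊤) ∧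
    (∀ T : Finset G, Subgroup.closure (T : Set G) = ⊤ → n ≤ T.card) := by
  classical
  haveI : Module.Finite (ZMod p) (Additive Q) := Module.Finite.of_finite
  haveI : Fintype (Additive Q) := Fintype.ofFinite _
  have hfr : Module.finrank (ZMod p) (Additive Q) = n := by
    have h1 := Module.card_eq_pow_finrank (K := ZMod p) (V := Additive Q)
    rw [ZMod.card, show Fintype.card (Additive Q) = p ^ n by
      rw [← Nat.card_eq_fintype_card, ← hn]; rfl] at h1
    exact (Nat.pow_right_injective (Fact.out : p.Prime).two_le h1).symm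
  let f : G → Additive Q := fun g => Additive.ofMul (π g)
  have key : ∀ s : Set G, Subgroup.closure s = ⊤ ↔ Submodule.span (ZMod p) (f '' s) = ⊤ := by
    intro s
    have h0 := Cfsg.Agent.Lib.PGroups.closure_eq_top_iff_span (Q := Q) (p := p) (fun x : s => π (x : G))
    rw [show Set.range (fun x : s => Additive.ofMul (π (x : G))) = f '' s by
      rw [Set.image_eq_range]] at h0
    rw [← h0]
    have h1 : Subgroup.closure (Set.range fun x : s => π (x : G)) =
        (Subgroup.closure s).map π := by
      rw [MonoidHom.map_closure, Set.image_eq_range]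
    rw [h1]
    refine ⟨fun h => by rw [h]; exact Subgroup.map_top_of_surjective _ hπ,
      fun h => frattini_nongenerating ?_⟩
    have h2 := congrArg (Subgroup.comap π) h
    rwa [Subgroup.comap_map_eq, hker, Subgroup.comap_top] at h2
  have hge : ∀ T : Finset G, Subgroup.closure (T : Set G) = ⊤ → n ≤ T.card := by
    intro T hT
    have h1 := (key _).mp hT
    rw [← Finset.coe_image] at h1
    have h2 := finrank_span_finset_le_card (R := ZMod p) (T.image f)
    rw [Set.finrank, h1, finrank_top, hfr] at h2
    exact h2.trans Finset.card_image_le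
  refine ⟨fun S hS => ?_, hge⟩
  have h1 := (key _).mp hS
  obtain ⟨b, hb, hspan, hli⟩ := exists_linearIndependent (ZMod p) (f '' (S : Set G))
  haveI : Fintype b := Fintype.ofFinite b
  have hch : ∀ x : b, ∃ g ∈ (S : Set G), f g = x := fun x => hb x.2
  choose g hgS hg using hch
  have hcard : Fintype.card b = n := by
    rw [← hfr, ← finrank_top (ZMod p), ← h1, ← hspan]
    rw [← Set.toFinset_card]
    exact (finrank_span_set_eq_card (s := b) hli).symm
  have hgen : Subgroup.closure ((Finset.univ.image g : Finset G) : Set G) = ⊤ := by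
    rw [key, eq_top_iff, ← h1, ← hspan, Submodule.span_le]
    intro x hx
    exact Submodule.subset_span ⟨g ⟨x, hx⟩, by simp, hg ⟨x, hx⟩⟩
  refine ⟨Finset.univ.image g, ?_, le_antisymm ?_ (hge _ hgen), hgen⟩
  · intro x hx
    obtain ⟨y, -, rfl⟩ := Finset.mem_image.mp hx
    exact hgS y
  · exact Finset.card_image_le.trans (le_of_eq hcard)


/-- Burnside's basis Theorem: in a finite p-group whose Frattini quotient has order p ^ n, every generating set contains n elements that already generate, and no set with fewer than n elements generates. -/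
theorem result {G : Type*} [Group G] [Finite G] (p n : ℕ) [Fact p.Prime]
    (hG : IsPGroup p G) (hn : (frattini G).index = p ^ n) :
    (∀ S : Finset G, Subgroup.closure (S : Set G) = ⊤ → ∃ T : Finset G, T ⊆ S ∧ T.card = n ∧ Subgroup.closure (T : Set G) = ⊤) ∧
    (∀ T : Finset G, Subgroup.closure (T : Set G) = ⊤ → n ≤ T.card) := by
  haveI : Group.IsNilpotent G := hG.isNilpotent
  have hc : ∀ a b : G ⧸ frattini G, a * b = b * a := fun a b =>
    (Subgroup.Normal.quotient_commutative_iff_commutator_le.mpr
      Cfsg.Agent.Lib.Cores.commutator_le_frattini).is_comm.comm a b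
  letI : CommGroup (G ⧸ frattini G) := { (inferInstance : Group (G ⧸ frattini G)) with mul_comm := hc }
  letI : Module (ZMod p) (Additive (G ⧸ frattini G)) := AddCommGroup.zmodModule fun x =>
    show Additive.ofMul ((Additive.toMul x) ^ p) = 0 by
      rw [Cfsg.Agent.Lib.Cores.pow_eq_one_quotient_frattini hG]; rfl
  exact aux p n (QuotientGroup.mk' (frattini G)) (QuotientGroup.mk'_surjective _) (QuotientGroup.ker_mk' _)
    (by rw [← Subgroup.index_eq_card]; exact hn)

end Cfsg.Agent.S0014
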