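import Cfsg.Statements.S0015
import Cfsg.Agent.Lib.Solvable.Nilpotent

set_option autoImplicit false
open Cfsg

namespace Cfsg.Agent.S0015

/-- In a finite nilpotent group, an abelian normal subgroup that is maximal among abelian normal subgroups equals its own centralizer. -/
theorem result {G : Type*} [Group G] [Finite G] [Group.IsNilpotent G]
    (N : Subgroup G) [N.Normal] [IsMulCommutative N]
    (hmax : ∀ M : Subgroup G, M.Normal → IsMulCommutative M → N ≤ M → M = N) :
    Subgroup.centralizer (N : Set G) = N := by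
  set C := Subgroup.centralizer (N : Set G) with hCdef
  have hNC : N ≤ C := Subgroup.le_centralizer N
  refine le_antisymm ?_ hNC
  by_contra hle
  have hCn : C.Normal := inferInstance
  let π : G →* G ⧸ N := QuotientGroup.mk' N
  have hπ : Function.Surjective π := QuotientGroup.mk'_surjective N
  have : Group.IsNilpotent (G ⧸ N) := Group.nilpotent_of_surjective π hπ
  have : (C.map π).Normal := hCn.map π hπ
  have hC0 : C.map π ≠ ⊥ := by
    rw [Ne, Subgroup.map_eq_bot_iff, QuotientGroup.ker_mk']
    exact hle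
  obtain ⟨w, hw, hw1⟩ := (Subgroup.ne_bot_iff_exists_ne_one).mp (Lib.Solvable.inf_center_ne_bot hC0)
    |> fun ⟨w, h⟩ => (⟨w.1, w.2, fun h' => h (Subtype.ext h')⟩ : ∃ w, w ∈ C.map π ⊓ Subgroup.center _ ∧ w ≠ 1)
  obtain ⟨⟨z, hz, rfl⟩, hzc⟩ := Subgroup.mem_inf.mp hw
  set M := N ⊔ Subgroup.zpowers z with hM
  have hzN : z ∉ N := fun h => hw1 ((QuotientGroup.eq_one_iff z).mpr h)
  have hMn : M.Normal := ⟨fun x hx g => by
    have h1 : π x * π g = π g * π x := by
      have hx' : π x ∈ Subgroup.center (G ⧸ N) := by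
        have : M ≤ (Subgroup.center (G ⧸ N)).comap π := by
          refine sup_le (fun n hn => ?_) (Subgroup.zpowers_le.mpr hzc)
          show π n ∈ Subgroup.center (G ⧸ N)
          rw [show π n = 1 from (QuotientGroup.eq_one_iff n).mpr hn]
          exact one_mem _
        exact this hx
      exact (Subgroup.mem_center_iff.mp hx' (π g)).symm
    have h2 : g * x * g⁻¹ * x⁻¹ ∈ N := by
      rw [← QuotientGroup.eq_one_iff]
      show π (g * x * g⁻¹ * x⁻¹) = 1
      simp only [map_mul, map_inv, ← h1]
      group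
    simpa [mul_assoc] using mul_mem (Subgroup.mem_sup_left h2 : _ ∈ M) hx⟩
  have hMc : IsMulCommutative M := by
    have h1 : M ≤ Subgroup.centralizer (M : Set G) := by
      have hNz : N ≤ Subgroup.centralizer ((Subgroup.zpowers z : Subgroup G) : Set G) :=
        Subgroup.le_centralizer_iff.mpr (Subgroup.zpowers_le.mpr hz)
      have hMN : M ≤ Subgroup.centralizer (N : Set G) := sup_le hNC (Subgroup.zpowers_le.mpr hz)
      have hMz : M ≤ Subgroup.centralizer ((Subgroup.zpowers z : Subgroup G) : Set G) :=
        sup_le hNz (Subgroup.le_centralizer _)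
      exact Subgroup.le_centralizer_iff.mp (sup_le (Subgroup.le_centralizer_iff.mp hMN)
        (Subgroup.le_centralizer_iff.mp hMz))
    exact ⟨⟨fun a b => Subtype.ext (Subgroup.mem_centralizer_iff.mp (h1 b.2) a a.2)⟩⟩
  have := hmax M hMn hMc le_sup_left
  exact hzN (this ▸ Subgroup.mem_sup_right (Subgroup.mem_zpowers z))

end Cfsg.Agent.S0015
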