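import Cfsg.Statements.S0018
import Cfsg.Agent.Lib.Cores
import Cfsg.Agent.Lib.Coprime.Basic
import Cfsg.Agent.S0017

set_option autoImplicit false
open Cfsg

namespace Cfsg.Agent.S0018

/-- A finite solvable group whose Sylow p-subgroups are abelian has p-length one: a Sylow p-subgroup together with the largest normal subgroup of order prime to p generates a normal subgroup. -/
theorem result {G : Type*} [Group G] [Finite G] [Group.IsSolvable G]
    (p : ℕ) [Fact p.Prime] (P : Sylow p G) (hP : IsMulCommutative P) :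
    ((P : Subgroup G) ⊔ Cfsg.pPrimeCore p G).Normal := by
  set M := Cfsg.pPrimeCore p G with hM
  have := Lib.Cores.pPrimeCore_characteristic p G
  have hMn : M.Normal := inferInstance
  let π : G →* G ⧸ M := QuotientGroup.mk' M
  have hπ : Function.Surjective π := QuotientGroup.mk'_surjective M
  have h0 : Cfsg.pPrimeCore p (G ⧸ M) = ⊥ := Lib.Cores.pPrimeCore_quotient_pPrimeCore p G
  have hC := Cfsg.Agent.S0017.result p h0
  let P' : Sylow p (G ⧸ M) := P.mapSurjective hπ
  have hP' : (P' : Subgroup (G ⧸ M)) = (P : Subgroup G).map π := Sylow.coe_mapSurjective hπ P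
  have hle : (P' : Subgroup (G ⧸ M)) ≤ Cfsg.pCore p (G ⧸ M) := by
    intro x hx
    refine hC (Subgroup.mem_centralizer_iff.mpr fun y hy => ?_)
    have hy' := Lib.Cores.pCore_le_sylow P' hy
    rw [hP'] at hx hy'
    obtain ⟨a, ha, rfl⟩ := hx
    obtain ⟨b, hb, rfl⟩ := hy'
    rw [← map_mul, ← map_mul]
    exact congrArg π (congrArg Subtype.val (hP.is_comm.comm (⟨b, hb⟩ : (P : Subgroup G)) ⟨a, ha⟩))
  have heq : (P : Subgroup G).map π = Cfsg.pCore p (G ⧸ M) := by
    rw [← hP']
    exact le_antisymm hle (Lib.Cores.pCore_le_sylow P')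
  have hn : (Cfsg.pCore p (G ⧸ M)).Normal := by
    have := Lib.Cores.pCore_characteristic p (G ⧸ M)
    infer_instance
  rw [← QuotientGroup.ker_mk' M, ← Subgroup.comap_map_eq, heq]
  exact hn.comap π

end Cfsg.Agent.S0018
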