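import Cfsg.Statements.S0019
import Cfsg.Agent.Lib.Coprime.Hall

set_option autoImplicit false
open Cfsg

namespace Cfsg.Agent.S0019

/-- A finite group that factorises as H₁H₂ and as H₁H₃ with all three subgroups solvable and the indices of H₂ and H₃ coprime is solvable. -/
theorem result {G : Type*} [Group G] [Finite G] (H₁ H₂ H₃ : Subgroup G)
    (h₁ : Group.IsSolvable H₁) (h₂ : Group.IsSolvable H₂) (h₃ : Group.IsSolvable H₃)
    (h12 : ∀ g : G, ∃ x ∈ H₁, ∃ y ∈ H₂, g = x * y) (h13 : ∀ g : G, ∃ x ∈ H₁, ∃ y ∈ H₃, g = x * y)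
    (hcop : H₂.index.Coprime H₃.index) : Group.IsSolvable G := by
  obtain ⟨c, hc⟩ : ∃ c, Nat.card G = c := ⟨_, rfl⟩
  induction c using Nat.strongRecOn generalizing G with
  | ind c ih =>
  by_cases hH : H₁ = ⊥
  · have htop : H₂ = ⊤ := eq_top_iff.mpr fun g _ => by
      obtain ⟨x, hx, y, hy, rfl⟩ := h12 g
      rw [hH, Subgroup.mem_bot] at hx
      simpa [hx] using hy
    exact Lib.Coprime.isSolvable_of_surjective' Subgroup.topEquiv.surjective (htop ▸ h₂)
      (f := Subgroup.topEquiv.toMonoidHom)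
  have : Nontrivial H₁ := (Subgroup.nontrivial_iff_ne_bot H₁).mpr hH
  have := h₁
  obtain ⟨p, M', hp, hM'n, hM'0, hM'c, hM'p, -⟩ :=
    Lib.Coprime.exists_normal_isPGroup_isMulCommutative H₁
  obtain ⟨k, hk, hMk⟩ := Lib.Coprime.exists_card_eq_prime_pow hp hM'p hM'0
  -- one of the two indices is prime to `p`
  obtain ⟨H, hHsolv, hprod, hndvd⟩ : ∃ H : Subgroup G, Group.IsSolvable H ∧
      (∀ g : G, ∃ x ∈ H₁, ∃ y ∈ H, g = x * y) ∧ H.index.Coprime p := by
    by_cases h : p ∣ H₂.index
    · exact ⟨H₃, h₃, h13, Nat.Coprime.symm (hp.coprime_iff_not_dvd.mpr fun h' =>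
        hp.not_dvd_one (hcop ▸ Nat.dvd_gcd h h'))⟩
    · exact ⟨H₂, h₂, h12, Nat.Coprime.symm (hp.coprime_iff_not_dvd.mpr h)⟩
  set M := M'.map H₁.subtype with hM
  have hMH : M ≤ H := by
    have hM'H : M' ≤ H.subgroupOf H₁ := by
      have h1 : (H.subgroupOf H₁).index = H.index := by
        show H.relIndex H₁ = H.index
        have hbij : Function.Bijective (Quotient.map' Subtype.val (fun u v huv => by
            rw [QuotientGroup.leftRel_apply] at huv ⊢
            exact huv) : H₁ ⧸ H.subgroupOf H₁ → G ⧸ H) := by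
          constructor
          · intro u v
            induction u using QuotientGroup.induction_on with
            | _ u =>
            induction v using QuotientGroup.induction_on with
            | _ v =>
            intro huv
            rw [QuotientGroup.eq]
            exact (QuotientGroup.eq (s := H)).mp huv
          · intro q
            induction q using QuotientGroup.induction_on with
            | _ g =>
            obtain ⟨x, hx, y, hy, rfl⟩ := hprod g
            refine ⟨((⟨x, hx⟩ : H₁) : H₁ ⧸ H.subgroupOf H₁), ?_⟩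
            show (x : G ⧸ H) = ((x * y : G) : G ⧸ H)
            rw [QuotientGroup.eq]
            simpa using hy
        rw [Subgroup.relIndex, Subgroup.index_eq_card, Subgroup.index_eq_card]
        exact Nat.card_congr (Equiv.ofBijective _ hbij)
      have h3 := Lib.Coprime.card_sup_mul_card_inf (N := M') (H := H.subgroupOf H₁)
        Subgroup.le_normalizer_of_normal
      set X := H.subgroupOf H₁
      obtain ⟨r, hr⟩ := Subgroup.card_dvd_of_le (le_sup_right : X ≤ M' ⊔ X)
      have hrp : r ∣ p ^ k := by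
        rw [hr, hMk] at h3
        refine ⟨Nat.card (M' ⊓ X : Subgroup H₁), ?_⟩
        apply Nat.eq_of_mul_eq_mul_left (Nat.card_pos (α := X))
        rw [← mul_assoc, h3, mul_comm]
      have hri : r ∣ X.index := by
        have h4 := Subgroup.card_subgroup_dvd_card (M' ⊔ X)
        rw [hr, ← X.card_mul_index] at h4
        exact Nat.dvd_of_mul_dvd_mul_left Nat.card_pos h4
      have hr1 : r = 1 := Nat.eq_one_of_dvd_coprimes ((h1 ▸ hndvd).pow_right k) hri hrp
      rw [hr1, mul_one] at hr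
      exact le_sup_left.trans (Lib.Coprime.eq_of_le_of_card_le le_sup_right hr.le).ge
    rintro _ ⟨x, hx, rfl⟩
    exact hM'H hx
  set N := Subgroup.normalClosure (M : Set G) with hN
  have hNH : N ≤ H := by
    show Subgroup.closure (Group.conjugatesOfSet (M : Set G)) ≤ H
    rw [Subgroup.closure_le]
    intro x hx
    obtain ⟨m, hm, hconj⟩ := Group.mem_conjugatesOfSet_iff.mp hx
    obtain ⟨g, rfl⟩ := isConj_iff.mp hconj
    obtain ⟨u, hu, v, hv, hg⟩ := hprod g⁻¹
    have hg' : g = v⁻¹ * u⁻¹ := by rw [← mul_inv_rev, ← hg, inv_inv]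
    obtain ⟨m', hm', rfl⟩ := hm
    have h1 : u⁻¹ * (m' : G) * (u⁻¹)⁻¹ ∈ H :=
      hMH ⟨_, hM'n.conj_mem m' hm' ⟨u⁻¹, inv_mem hu⟩, rfl⟩
    rw [hg']
    simpa [mul_assoc] using mul_mem (mul_mem (inv_mem hv) h1) hv
  have hN0 : N ≠ ⊥ := by
    intro h
    apply hM'0
    rw [eq_bot_iff]
    intro x hx
    have : (x : G) ∈ N := Subgroup.le_normalClosure (Subgroup.mem_map_of_mem _ hx)
    rw [h, Subgroup.mem_bot] at this
    exact Subgroup.mem_bot.mpr (Subtype.ext this)
  have hlt : Nat.card (G ⧸ N) < c := by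
    rw [← hc, ← Lib.Coprime.card_quotient_mul_card N]
    exact lt_mul_of_one_lt_right Nat.card_pos (N.one_lt_card_iff_ne_bot.mpr hN0)
  let π : G →* G ⧸ N := QuotientGroup.mk' N
  have hπ : Function.Surjective π := QuotientGroup.mk'_surjective N
  have himg : ∀ X : Subgroup G, (∀ g : G, ∃ x ∈ H₁, ∃ y ∈ X, g = x * y) →
      ∀ g : G ⧸ N, ∃ x ∈ H₁.map π, ∃ y ∈ X.map π, g = x * y := by
    intro X h g
    obtain ⟨g, rfl⟩ := hπ g
    obtain ⟨x, hx, y, hy, rfl⟩ := h g
    exact ⟨_, Subgroup.mem_map_of_mem π hx, _, Subgroup.mem_map_of_mem π hy, map_mul π x y⟩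
  have hquot : Group.IsSolvable (G ⧸ N) :=
    ih _ hlt (H₁.map π) (H₂.map π) (H₃.map π) (Lib.Coprime.isSolvable_map π h₁)
      (Lib.Coprime.isSolvable_map π h₂) (Lib.Coprime.isSolvable_map π h₃) (himg H₂ h12) (himg H₃ h13)
      ((hcop.coprime_dvd_left (Subgroup.index_map_dvd H₂ hπ)).coprime_dvd_right
        (Subgroup.index_map_dvd H₃ hπ)) rfl
  exact (Group.isSolvable_iff_subgroup_quotient N).mpr
    ⟨Lib.Coprime.isSolvable_of_le hNH hHsolv, hquot⟩

end Cfsg.Agent.S0019
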