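import Cfsg.Statements.S0030
import Cfsg.Agent.Lib.Coprime.Action

set_option autoImplicit false
open Cfsg
open Pointwise

namespace Cfsg.Agent.S0030

/-- Under coprime action fixed points of a product of two invariant subgroups factor: if K = X Y with X and Y normalised by A then every A-fixed element of K is a product of an A-fixed element of X and an A-fixed element of Y. -/
theorem result {G : Type*} [Group G] [Finite G] (A K : Subgroup G) (hAK : A ≤ Subgroup.normalizer (K : Set G))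
    (hcop : (Nat.card A).Coprime (Nat.card K)) (hsolv : Group.IsSolvable A ∨ Group.IsSolvable K)
    (X Y : Subgroup G) (hX : X ≤ K) (hY : Y ≤ K) (hXA : A ≤ Subgroup.normalizer (X : Set G)) (hYA : A ≤ Subgroup.normalizer (Y : Set G))
    (hXY : ∀ k ∈ K, ∃ x ∈ X, ∃ y ∈ Y, k = x * y) (k : G) (hk : k ∈ K ⊓ Subgroup.centralizer (A : Set G)) :
    ∃ x ∈ X ⊓ Subgroup.centralizer (A : Set G), ∃ y ∈ Y ⊓ Subgroup.centralizer (A : Set G), k = x * y := by
  obtain ⟨x, hx, y, hy, rfl⟩ := hXY k hk.1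
  have hMK : X ⊓ Y ≤ K := inf_le_left.trans hX
  have hfix : ∀ a ∈ A, a * x⁻¹ * a⁻¹ * x ∈ X ⊓ Y := by
    intro a ha
    have h1 := Subgroup.mem_centralizer_iff.mp hk.2 a ha
    have hax : a * x⁻¹ * a⁻¹ * x ∈ X :=
      mul_mem ((Subgroup.mem_normalizer_iff.mp (hXA ha) _).mp (inv_mem hx)) hx
    have hay : (a * y * a⁻¹) * y⁻¹ ∈ Y :=
      mul_mem ((Subgroup.mem_normalizer_iff.mp (hYA ha) _).mp hy) (inv_mem hy)
    have h2 : (a * y * a⁻¹) * y⁻¹ = a * x⁻¹ * a⁻¹ * x := by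
      calc (a * y * a⁻¹) * y⁻¹ = a * x⁻¹ * a⁻¹ * (a * (x * y)) * a⁻¹ * y⁻¹ := by group
        _ = a * x⁻¹ * a⁻¹ * (x * y * a) * a⁻¹ * y⁻¹ := by rw [h1]
        _ = _ := by group
    exact ⟨hax, h2 ▸ hay⟩
  have hAN : A ≤ Subgroup.normalizer ((X ⊓ Y : Subgroup G) : Set G) :=
    le_trans (le_inf hXA hYA) Subgroup.inf_normalizer_le_normalizer_inf
  have hle : MulAut.conj x⁻¹ • A ≤ (X ⊓ Y) ⊔ A := by
    intro b hb
    rw [Lib.Coprime.mem_conj_smul, inv_inv] at hb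
    have h1 := inv_mem (hfix _ hb)
    have h2 := mul_mem (Subgroup.mem_sup_left h1 : _ ∈ (X ⊓ Y) ⊔ A) (Subgroup.mem_sup_right hb)
    simpa [mul_assoc] using h2
  obtain ⟨m, hm, hmc⟩ := Lib.Coprime.exists_conj_eq_of_le_sup hAN
    (hcop.coprime_dvd_right (Subgroup.card_dvd_of_le hMK)).symm
    (hsolv.symm.imp_left (Lib.Coprime.isSolvable_of_le hMK)) (Lib.Coprime.card_conj_smul _ _) hle
  have hA : MulAut.conj (x * m) • A = A := by
    rw [Lib.Coprime.conj_mul_smul, hmc, ← Lib.Coprime.conj_mul_smul, mul_inv_cancel,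
      Lib.Coprime.conj_one_smul]
  have hxm : x * m ∈ K := mul_mem (hX hx) (hMK hm)
  have hc : x * m ∈ Subgroup.centralizer (A : Set G) :=
    Lib.Coprime.mem_centralizer_of_conj hcop hA fun a ha =>
      mul_mem ((Subgroup.mem_normalizer_iff.mp (hAK ha) _).mp hxm) (inv_mem hxm)
  refine ⟨x * m, Subgroup.mem_inf.mpr ⟨mul_mem hx hm.1, hc⟩, m⁻¹ * y, Subgroup.mem_inf.mpr ⟨mul_mem (inv_mem (Subgroup.mem_inf.mp hm).2) hy, ?_⟩, by group⟩
  have : m⁻¹ * y = (x * m)⁻¹ * (x * y) := by group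
  rw [this]
  exact mul_mem (inv_mem hc) (Subgroup.mem_inf.mp hk).2

end Cfsg.Agent.S0030
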