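import Cfsg.Statements.S0041
import Cfsg.Agent.Lib.Solvable.FrobeniusAux

set_option autoImplicit false
open Cfsg

namespace Cfsg.Agent.S0041

/-- A group acting on a nontrivial abelian group so that no nonidentity element has a nonidentity fixed point is cyclic, provided it is abelian or its order is a product of two (possibly equal) primes. -/
theorem result {G : Type*} [Group G] [Finite G] (A V : Subgroup G) [IsMulCommutative V]
    (hV : V ≠ ⊥) (hAV : A ≤ Subgroup.normalizer (V : Set G)) (hfpf : ∀ a ∈ A, a ≠ 1 → V ⊓ Subgroup.centralizer {a} = ⊥)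
    (hA : IsMulCommutative A ∨ ∃ p q : ℕ, p.Prime ∧ q.Prime ∧ Nat.card A = p * q) : IsCyclic A := by
  haveI : Nontrivial V := (Subgroup.nontrivial_iff_ne_bot V).mpr hV
  set φ := Cfsg.Agent.Lib.Solvable.FrobeniusAux.act hAV with hφ
  have hf : ∀ a : A, a ≠ 1 → ∀ g : V, φ a g = g → g = 1 :=
    Cfsg.Agent.Lib.Solvable.FrobeniusAux.act_fpf hAV fun a ha ha1 =>
      Cfsg.Agent.Lib.Solvable.FrobeniusAux.fixedPointFree_iff.mp (hfpf a ha ha1)
  suffices hcomm : ∀ a b : A, a * b = b * a by
    have h := Cfsg.Agent.Lib.Frobenius.isCyclic_of_commutative φ hf ⊤ fun a _ b _ => hcomm a b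
    exact Subgroup.topEquiv.isCyclic.mp h
  rcases hA with hA | ⟨p, q, hp, hq, hc⟩
  · exact hA.is_comm.comm
  by_cases hpq : p = q
  · subst hpq
    haveI := Fact.mk hp
    exact (IsPGroup.commutative_of_card_eq_prime_sq (by rw [hc, pow_two]))
  haveI : Group.IsSolvable A := Cfsg.Agent.Lib.Characters.isSolvable_of_card_eq_pow_mul_pow hp hq
    (a := 1) (b := 1) (by rw [pow_one, pow_one]; exact hc)
  haveI : Nontrivial A := Finite.one_lt_card_iff_nontrivial.mp (by
    rw [hc]; exact one_lt_mul'' hp.one_lt hq.one_lt)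
  obtain ⟨N, hN, hNi⟩ := Cfsg.Agent.Lib.Coprime.exists_normal_prime_index (H := A)
  have hNc : (Nat.card N).Prime := by
    have h := N.card_mul_index
    rw [hc] at h
    have hr : N.index ∣ p * q := h ▸ Dvd.intro_left _ rfl
    rcases hNi.dvd_mul.mp hr with h1 | h1
    · rw [(Nat.prime_dvd_prime_iff_eq hNi hp).mp h1, mul_comm p q] at h
      rw [Nat.eq_of_mul_eq_mul_right hp.pos h]
      exact hq
    · rw [(Nat.prime_dvd_prime_iff_eq hNi hq).mp h1] at h
      rw [Nat.eq_of_mul_eq_mul_right hq.pos h]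
      exact hp
  haveI := Fact.mk hNc
  obtain ⟨b, hb⟩ := exists_prime_orderOf_dvd_card' (G := N) (Nat.card N) dvd_rfl
  have hbN : Subgroup.zpowers (b : A) = N := Cfsg.Agent.Lib.Coprime.eq_of_le_of_card_le
    (Subgroup.zpowers_le.mpr b.2) (by rw [Nat.card_zpowers, Subgroup.orderOf_coe, hb])
  obtain ⟨r, hr, hrd⟩ : ∃ r, r.Prime ∧ r ∣ N.index ∧ True := ⟨_, hNi, dvd_rfl, trivial⟩
  haveI := Fact.mk hr
  obtain ⟨a, ha⟩ := exists_prime_orderOf_dvd_card' (G := A) r (hrd.1.trans (N.index_dvd_card))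
  have hab : Commute a (b : A) := Cfsg.Agent.Lib.Frobenius.commute_of_mem_normalizer φ hf
    (by rw [ha]; exact hr) (by rw [Subgroup.orderOf_coe, hb]; exact hNc)
    (by rw [hbN, Subgroup.normalizer_eq_top]; exact Subgroup.mem_top a)
  have hne : r ≠ Nat.card N := by
    intro e
    have h1 : r = N.index := (Nat.prime_dvd_prime_iff_eq hr hNi).mp hrd.1
    have h := N.card_mul_index
    rw [← e, ← h1, hc] at h
    have h2 : r ∣ p * q := h ▸ dvd_mul_right r r
    rcases hr.dvd_mul.mp h2 with h3 | h3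
    · obtain rfl := (Nat.prime_dvd_prime_iff_eq hr hp).mp h3
      exact hpq (Nat.eq_of_mul_eq_mul_left hp.pos h)
    · obtain rfl := (Nat.prime_dvd_prime_iff_eq hr hq).mp h3
      exact hpq (Nat.eq_of_mul_eq_mul_right hq.pos h).symm
  haveI : IsCyclic A := by
    refine isCyclic_of_orderOf_eq_card (a * b) ?_
    rw [hab.orderOf_mul_eq_mul_orderOf_of_coprime (by
      rw [ha, Subgroup.orderOf_coe, hb]; exact (Nat.coprime_primes hr hNc).mpr hne),
      ha, Subgroup.orderOf_coe, hb, ← N.card_mul_index,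
      (Nat.prime_dvd_prime_iff_eq hr hNi).mp hrd.1, mul_comm]
  haveI : IsMulCommutative A := IsCyclic.isMulCommutative
  exact fun x y => mul_comm' x y

end Cfsg.Agent.S0041
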