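import Cfsg.Statements.S0048
import Cfsg.Agent.Lib.Coprime.Hall

set_option autoImplicit false
open Cfsg

namespace Cfsg.Agent.S0048

/-- In a finite solvable group every maximal subgroup has index a prime power. -/
theorem result {G : Type*} [Group G] [Finite G] [Group.IsSolvable G]
    (M : Subgroup G) (hM : IsCoatom M) : IsPrimePow M.index := by
  obtain ⟨c, hc⟩ : ∃ c, Nat.card G = c := ⟨_, rfl⟩
  induction c using Nat.strongRecOn generalizing G with
  | ind c ih =>
  have : Nontrivial G := by
    by_contra h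
    rw [not_nontrivial_iff_subsingleton] at h
    exact hM.1 (Subsingleton.elim _ _)
  obtain ⟨p, A, hp, hAn, hA0, hAc, hAp, -⟩ :=
    Lib.Coprime.exists_normal_isPGroup_isMulCommutative G
  by_cases hle : A ≤ M
  · have hlt : Nat.card (G ⧸ A) < c := by
      rw [← hc, ← Lib.Coprime.card_quotient_mul_card A]
      exact lt_mul_of_one_lt_right Nat.card_pos (A.one_lt_card_iff_ne_bot.mpr hA0)
    have hπ := QuotientGroup.mk'_surjective A
    have hker : (QuotientGroup.mk' A).ker ≤ M := by rw [QuotientGroup.ker_mk']; exact hle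
    have hM' : IsCoatom (M.map (QuotientGroup.mk' A)) := by
      refine ⟨fun h => hM.1 ?_, fun K hK => ?_⟩
      · rw [← Subgroup.comap_map_eq_self hker, h, Subgroup.comap_top]
      · have hlt' : M < K.comap (QuotientGroup.mk' A) := by
          rw [← Subgroup.comap_map_eq_self hker]
          exact (Subgroup.comap_lt_comap_of_surjective hπ).mpr hK
        rw [← Subgroup.map_comap_eq_self_of_surjective hπ K, hM.2 _ hlt',
          Subgroup.map_top_of_surjective _ hπ]
    rw [← Subgroup.index_map_eq M hπ hker]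
    exact ih _ hlt (M.map (QuotientGroup.mk' A)) hM' rfl
  · have htop : A ⊔ M = ⊤ :=
      hM.2 _ (lt_of_le_of_ne le_sup_right fun h => hle (le_sup_left.trans h.ge))
    obtain ⟨k, -, hk⟩ := Lib.Coprime.exists_card_eq_prime_pow hp hAp hA0
    have h1 := Lib.Coprime.card_sup_mul_card_inf (N := A) (H := M) Subgroup.le_normalizer_of_normal
    rw [htop, Subgroup.card_top, ← M.card_mul_index] at h1
    have h2 : M.index * Nat.card (A ⊓ M : Subgroup G) = Nat.card A := by
      apply Nat.eq_of_mul_eq_mul_left (Nat.card_pos (α := M))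
      rw [← mul_assoc, h1, mul_comm]
    obtain ⟨j, -, hj⟩ := (Nat.dvd_prime_pow hp).mp (hk ▸ h2 ▸ dvd_mul_right M.index _)
    refine ⟨p, j, hp.prime, Nat.pos_of_ne_zero fun h => hM.1 ?_, hj.symm⟩
    rw [← Subgroup.index_eq_one, hj, h, pow_zero]

end Cfsg.Agent.S0048
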