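import Cfsg.Statements.S0049
import Cfsg.Agent.Lib.Solvable.Nilpotent
import Cfsg.Agent.Lib.Coprime.SchurZassenhaus

set_option autoImplicit false
open Cfsg

namespace Cfsg.Agent.S0049

/-- A prime divisor of the order of a finite group also divides the index of the Frattini subgroup. -/
theorem result {G : Type*} [Group G] [Finite G] (p : ℕ) (hp : p.Prime) (hdvd : p ∣ Nat.card G) :
    p ∣ (frattini G).index := by
  have := Fact.mk hp
  by_contra hndvd
  obtain ⟨P⟩ : Nonempty (Sylow p G) := inferInstance
  have hPΦ : (P : Subgroup G) ≤ frattini G := by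
    intro x hx
    have h1 : orderOf (QuotientGroup.mk' (frattini G) x) ∣ 1 := by
      obtain ⟨k, hk⟩ := P.2 ⟨x, hx⟩
      have h2 : x ^ p ^ k = 1 := congrArg Subtype.val hk
      have h3 : orderOf (QuotientGroup.mk' (frattini G) x) ∣ p ^ k := by
        rw [orderOf_dvd_iff_pow_eq_one, ← map_pow, h2, map_one]
      have h4 : orderOf (QuotientGroup.mk' (frattini G) x) ∣ (frattini G).index := by
        rw [Subgroup.index_eq_card]; exact orderOf_dvd_natCard _
      rw [← Nat.Coprime.gcd_eq_one (Nat.Coprime.pow_left k (hp.coprime_iff_not_dvd.mpr hndvd))]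
      exact Nat.dvd_gcd h3 h4
    rw [Nat.dvd_one, orderOf_eq_one_iff] at h1
    exact (QuotientGroup.eq_one_iff x).mp h1
  have hnil : Group.IsNilpotent (frattini G) := frattini_nilpotent
  let P' : Sylow p (frattini G) := P.subtype hPΦ
  have hP'n : (P' : Subgroup (frattini G)).Normal :=
    ((Group.isNilpotent_of_finite_tfae (G := frattini G)).out 0 3 rfl rfl).mp hnil p ⟨hp⟩ P'
  have := Sylow.characteristic_of_normal P' hP'n
  have hPn : ((P' : Subgroup (frattini G)).map (frattini G).subtype).Normal := inferInstance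
  have hmap : (P' : Subgroup (frattini G)).map (frattini G).subtype = P :=
    Subgroup.map_subgroupOf_eq_of_le hPΦ
  rw [hmap] at hPn
  obtain ⟨H, hH⟩ := Subgroup.exists_right_complement'_of_coprime (N := (P : Subgroup G))
    P.card_coprime_index
  have htop : H = ⊤ := by
    refine frattini_nongenerating (eq_top_iff.mpr ?_)
    rw [← hH.sup_eq_top, sup_comm]
    exact sup_le_sup_left hPΦ H
  rw [htop, Subgroup.isComplement'_top_right] at hH
  exact P.ne_bot_of_dvd_card hdvd hH

end Cfsg.Agent.S0049
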