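import Cfsg.Statements.S0050
import Cfsg.Agent.Lib.Coprime.Hall

set_option autoImplicit false
open Cfsg
open Pointwise

namespace Cfsg.Agent.S0050

/-- Frattini argument for Hall subgroups: if L is a solvable normal subgroup and H a subgroup of L of order coprime to its index in L, then L together with the normaliser of H generates the whole group. -/
theorem result {G : Type*} [Group G] [Finite G] (L : Subgroup G) [L.Normal] (hL : Group.IsSolvable L)
    (H : Subgroup G) (hHL : H ≤ L) (hHall : (Nat.card H).Coprime (H.relIndex L)) :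
    L ⊔ Subgroup.normalizer (H : Set G) = ⊤ := by
  have : Group.IsSolvable L := hL
  rw [eq_top_iff]
  intro g _
  have hcH : Nat.card (H.subgroupOf L) = Nat.card H :=
    Nat.card_congr (Subgroup.subgroupOfEquivOfLe hHL).toEquiv
  set H' := MulAut.conj g • H with hH'
  have hH'L : H' ≤ L := by
    intro x hx
    rw [hH', Lib.Coprime.mem_conj_smul] at hx
    simpa [mul_assoc] using Subgroup.Normal.conj_mem ‹L.Normal› _ (hHL hx) g
  obtain ⟨l, hl⟩ := Lib.Coprime.exists_conj_eq_of_solvable (H := H.subgroupOf L)
    (K := H'.subgroupOf L) (by rw [hcH]; exact hHall)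
    (by rw [hcH, Nat.card_congr (Subgroup.subgroupOfEquivOfLe hH'L).toEquiv, hH',
          Lib.Coprime.card_conj_smul])
  have hl' : MulAut.conj (l : G) • H = H' := by
    refine Lib.Coprime.eq_of_le_of_card_le ?_
      (by rw [hH', Lib.Coprime.card_conj_smul, Lib.Coprime.card_conj_smul])
    intro x hx
    rw [Lib.Coprime.mem_conj_smul] at hx
    have hxL : x ∈ L := by
      simpa [mul_assoc] using Subgroup.Normal.conj_mem ‹L.Normal› _ (hHL hx) (l : G)
    have h1 : (⟨x, hxL⟩ : L) ∈ MulAut.conj l • H.subgroupOf L := by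
      rw [Lib.Coprime.mem_conj_smul]; exact hx
    rw [hl] at h1
    exact h1
  have hn : (l : G)⁻¹ * g ∈ Subgroup.normalizer (H : Set G) := by
    refine Lib.Coprime.mem_normalizer_of_conj_smul_eq ?_
    rw [Lib.Coprime.conj_mul_smul, ← hH', ← hl', ← Lib.Coprime.conj_mul_smul, inv_mul_cancel,
      Lib.Coprime.conj_one_smul]
  simpa using mul_mem (Subgroup.mem_sup_left l.2 : (l : G) ∈ L ⊔ Subgroup.normalizer (H : Set G))
    (Subgroup.mem_sup_right hn)

end Cfsg.Agent.S0050
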