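import Cfsg.Statements.S0053
import Cfsg.Agent.Lib.Coprime.Basic

set_option autoImplicit false
open Cfsg

namespace Cfsg.Agent.S0053

/-- An abelian minimal normal subgroup N of a finite group is complemented exactly when N is not inside the Frattini subgroup. -/
theorem result {G : Type*} [Group G] [Finite G]
    (N : Subgroup G) [N.Normal] [IsMulCommutative N] (hN : N ≠ ⊥)
    (hmin : ∀ M : Subgroup G, M.Normal → M ≤ N → M = ⊥ ∨ M = N) :
    (∃ H : Subgroup G, Subgroup.IsComplement' N H) ↔ ¬ N ≤ frattini G := by
  constructor
  · rintro ⟨H, hH⟩ hle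
    have htop : H = ⊤ := by
      refine frattini_nongenerating (eq_top_iff.mpr ?_)
      rw [← hH.sup_eq_top, sup_comm]
      exact sup_le_sup_left hle H
    rw [htop, Subgroup.isComplement'_top_right] at hH
    exact hN hH
  · intro hle
    simp only [frattini, Order.radical, le_iInf_iff, not_forall] at hle
    obtain ⟨M, hM, hNM⟩ := hle
    have htop : N ⊔ M = ⊤ := hM.2 _ (lt_of_le_of_ne le_sup_right fun h => hNM (le_sup_left.trans h.ge))
    have hn : (N ⊓ M).Normal := by
      rw [← Subgroup.normalizer_eq_top_iff, eq_top_iff, ← htop]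
      refine sup_le ?_ ?_
      · exact ((Subgroup.le_centralizer N).trans
          (Subgroup.centralizer_le (SetLike.coe_subset_coe.mpr inf_le_left))).trans
          (Subgroup.centralizer_le_normalizer _)
      · exact le_trans (le_inf Subgroup.le_normalizer_of_normal Subgroup.le_normalizer)
          Subgroup.inf_normalizer_le_normalizer_inf
    have h0 : N ⊓ M = ⊥ := (hmin _ hn inf_le_left).resolve_right fun h => hNM (inf_eq_left.mp h)
    refine ⟨M, Subgroup.isComplement'_of_disjoint_and_mul_eq_univ (disjoint_iff.mpr h0) ?_⟩
    rw [← Subgroup.normal_mul, htop, Subgroup.coe_top]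

end Cfsg.Agent.S0053
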