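import Cfsg.Statements.S0057
import Mathlib.GroupTheory.IndexNormal
import Cfsg.Agent.Lib.Coprime.Action
import Cfsg.Agent.S0055

set_option autoImplicit false
open Cfsg
open scoped commutatorElement

namespace Cfsg.Agent.S0057

/-- Under coprime action, if the centraliser of A in K has prime index p in K then the commutator subgroup [K, A] has order exactly p. -/
theorem result {G : Type*} [Group G] [Finite G] (A K : Subgroup G) (hAK : A ≤ Subgroup.normalizer (K : Set G))
    (hcop : (Nat.card A).Coprime (Nat.card K)) (hsolv : Group.IsSolvable A ∨ Group.IsSolvable K)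
    (p : ℕ) (hp : p.Prime) (hidx : (K ⊓ Subgroup.centralizer (A : Set G)).relIndex K = p) :
    Nat.card (⁅K, A⁆ : Subgroup G) = p := by
  have := Fact.mk hp
  set C := K ⊓ Subgroup.centralizer (A : Set G) with hC
  obtain ⟨P₀, hP₀⟩ := Lib.Coprime.exists_invariant_sylow hAK hcop hsolv p
  set P := (P₀ : Subgroup K).map K.subtype with hPdef
  have hPK : P ≤ K := Subgroup.map_subtype_le _
  have hPc : Nat.card P = p ^ (Nat.card K).factorization p := by
    rw [hPdef, Nat.card_congr ((P₀ : Subgroup K).equivMapOfInjective K.subtype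
      K.subtype_injective).toEquiv.symm, P₀.card_eq_multiplicity]
  have hPp : IsPGroup p P := P₀.2.map _
  have hCK : Nat.card C * p = Nat.card K := by
    rw [← hidx]; exact Lib.Coprime.relIndex_mul_card inf_le_left
  -- `C ⊓ P` has index `p` in `P`
  have hPC : ¬ P ≤ C := by
    intro h
    have hd := Subgroup.card_dvd_of_le h
    rw [hPc] at hd
    have hd2 : p ^ ((Nat.card K).factorization p + 1) ∣ Nat.card K := by
      have h3 := mul_dvd_mul_right hd p
      rw [hCK] at h3
      rwa [pow_succ]
    exact Nat.pow_succ_factorization_not_dvd Nat.card_pos.ne' hp hd2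
  set C₁ := P ⊓ C with hC₁
  have hrel : C.relIndex P = p := by
    have hle : C.relIndex P ≤ p := by
      rw [← hidx]
      exact Subgroup.relIndex_le_of_le_right hPK Subgroup.index_ne_zero_of_finite
    have hne : C.relIndex P ≠ 1 := fun h => hPC (Subgroup.relIndex_eq_one.mp h)
    obtain ⟨i, -, hi⟩ := (Nat.dvd_prime_pow hp).mp (hPc ▸ Subgroup.relIndex_dvd_card C P)
    rcases i with _ | _ | i
    · exact absurd (hi.trans (pow_zero p)) hne
    · rw [hi, zero_add, pow_one]
    · exfalso
      rw [hi, pow_succ, pow_succ] at hle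
      have := hp.one_lt
      have h1 : 1 ≤ p ^ i := Nat.one_le_pow _ _ hp.pos
      have h2 := Nat.mul_le_mul (Nat.mul_le_mul h1 (le_refl p)) (show 2 ≤ p from hp.two_le)
      omega
  have hcC₁ : Nat.card C₁ * p = Nat.card P := by
    rw [← hrel, ← Subgroup.inf_relIndex_right C P, hC₁, inf_comm P C]
    exact Lib.Coprime.relIndex_mul_card inf_le_right
  have hC₁n : P ≤ Subgroup.normalizer (C₁ : Set G) := by
    have h1 : (C₁.subgroupOf P).Normal := by
      apply Subgroup.normal_of_index_eq_minFac_card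
      have h2 : (C₁.subgroupOf P).index = p := by
        show C₁.relIndex P = p
        rw [hC₁, inf_comm, Subgroup.inf_relIndex_right, hrel]
      rw [h2, hPc, Nat.pow_minFac, hp.minFac_eq]
      intro h
      rw [h, pow_zero] at hPc
      exact hPC (by rw [Subgroup.card_eq_one.mp hPc]; exact bot_le)
    exact (Subgroup.normal_subgroupOf_iff_le_normalizer inf_le_left).mp h1
  set D := ⁅P, A⁆ with hD
  have hcopP : (Nat.card A).Coprime (Nat.card P) :=
    hcop.coprime_dvd_right (Subgroup.card_dvd_of_le hPK)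
  have hsP : Group.IsSolvable A ∨ Group.IsSolvable P :=
    hsolv.imp_right (Lib.Coprime.isSolvable_of_le hPK)
  have hDP : D ≤ P := Lib.Coprime.commutator_le_of_le_normalizer hP₀
  have hsup : D ⊔ C₁ = P := by
    have h := Lib.Coprime.commutator_sup_centralizer_eq hP₀ hcopP hsP
    have hCe : P ⊓ Subgroup.centralizer (A : Set G) = C₁ := by
      rw [hC₁, hC, ← inf_assoc, inf_eq_left.mpr hPK]
    rwa [hCe] at h
  -- `C₁` is centralized by `D`
  have hDC : D ≤ Subgroup.centralizer (C₁ : Set G) := by
    have hCA : ⁅C₁, A⁆ = ⊥ := Subgroup.commutator_eq_bot_iff_le_centralizer.mpr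
      (inf_le_right.trans inf_le_right)
    have h1 : ⁅⁅C₁, P⁆, A⁆ = ⊥ := le_bot_iff.mp (hCA ▸ Subgroup.commutator_mono
      (Subgroup.le_normalizer_iff_commutator_le_left.mp hC₁n) le_rfl)
    have h2 : ⁅⁅A, C₁⁆, P⁆ = ⊥ := by
      rw [Subgroup.commutator_comm A C₁, hCA, Subgroup.commutator_bot_left]
    have h3 := Subgroup.commutator_commutator_eq_bot_of_rotate (H₁ := P) (H₂ := A) (H₃ := C₁) h2 h1
    exact Subgroup.commutator_eq_bot_iff_le_centralizer.mp h3
  -- `D` is abelian, being cyclic modulo a central subgroup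
  have hD0 : ¬ D ≤ C₁ := fun h => hPC (by rw [← hsup]; exact sup_le (h.trans inf_le_right) inf_le_right)
  have hDcomm : IsMulCommutative D := by
    obtain ⟨d, hd, hdC⟩ := SetLike.not_le_iff_exists.mp hD0
    have hgen : C₁ ⊔ Subgroup.zpowers d = P := by
      refine Lib.Coprime.eq_of_le_of_card_le
        (sup_le inf_le_left (Subgroup.zpowers_le.mpr (hDP hd))) ?_
      set Y := C₁ ⊔ Subgroup.zpowers d with hY
      obtain ⟨c, hc⟩ := Subgroup.card_dvd_of_le (le_sup_left : C₁ ≤ Y)
      have hcp : c ∣ p := by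
        have h1 := Subgroup.card_dvd_of_le
          (sup_le inf_le_left (Subgroup.zpowers_le.mpr (hDP hd)) : Y ≤ P)
        rw [← hcC₁, hc] at h1
        exact Nat.dvd_of_mul_dvd_mul_left Nat.card_pos h1
      rcases (Nat.dvd_prime hp).mp hcp with rfl | rfl
      · rw [mul_one] at hc
        have heq := Lib.Coprime.eq_of_le_of_card_le (le_sup_left : C₁ ≤ Y) hc.le
        exact absurd (show d ∈ C₁ by rw [heq]; exact Subgroup.mem_sup_right (Subgroup.mem_zpowers d)) hdC
      · rw [hc, hcC₁]
    refine ⟨⟨fun a b => ?_⟩⟩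
    obtain ⟨x, hx, _, ⟨i, rfl⟩, hxa⟩ := Lib.Coprime.exists_mul_of_mem_sup
      ((Subgroup.zpowers_le.mpr (hDP hd)).trans hC₁n) (hgen.ge (hDP a.2))
    obtain ⟨y, hy, _, ⟨j, rfl⟩, hyb⟩ := Lib.Coprime.exists_mul_of_mem_sup
      ((Subgroup.zpowers_le.mpr (hDP hd)).trans hC₁n) (hgen.ge (hDP b.2))
    have hcom : ∀ z ∈ C₁, ∀ w ∈ D, Commute z w := fun z hz w hw =>
      Subgroup.mem_centralizer_iff.mp (hDC hw) z hz
    have hxb : Commute x (b : G) := hcom x hx b b.2
    have hdb : Commute d (b : G) := by
      rw [hyb]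
      exact (hcom y hy d hd).symm.mul_right ((Commute.refl d).zpow_right j)
    apply Subtype.ext
    show (a : G) * b = b * a
    rw [hxa]
    exact (hxb.mul_left (hdb.zpow_left i)).eq
  have hAD : A ≤ Subgroup.normalizer (D : Set G) := Subgroup.normalizer_commutator_ge_right P A
  have h55 := (Cfsg.Agent.S0055.result A D hAD
    (hcopP.coprime_dvd_right (Subgroup.card_dvd_of_le hDP))).1
  have hDD : ⁅D, A⁆ = D := Lib.Coprime.commutator_commutator_eq hP₀ hcopP hsP
  rw [hDD] at h55
  have hbot : D ⊓ C₁ = ⊥ := le_bot_iff.mp (h55 ▸ fun x hx => Subgroup.mem_inf.mpr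
    ⟨Subgroup.mem_inf.mpr ⟨(Subgroup.mem_inf.mp hx).1,
      (Subgroup.mem_inf.mp (Subgroup.mem_inf.mp (Subgroup.mem_inf.mp hx).2).2).2⟩,
      (Subgroup.mem_inf.mp hx).1⟩)
  have hcD : Nat.card D = p := by
    have h := Lib.Coprime.card_sup_mul_card_inf (N := D) (H := C₁)
      (inf_le_left.trans (Subgroup.normalizer_commutator_ge_left P A))
    rw [hsup, hbot, Subgroup.card_bot, mul_one, ← hcC₁, mul_comm (Nat.card D)] at h
    exact (Nat.eq_of_mul_eq_mul_left Nat.card_pos h).symm
  -- every element of `K` is in `P C`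
  have hKD : ⁅K, A⁆ = D := by
    refine le_antisymm (Subgroup.commutator_le.mpr fun k hk a ha => ?_)
      (Subgroup.commutator_mono hPK le_rfl)
    let f : P ⧸ C.subgroupOf P → K ⧸ C.subgroupOf K :=
      Quotient.map' (fun x => ⟨x, hPK x.2⟩) fun u v huv => by
        rw [QuotientGroup.leftRel_apply] at huv ⊢
        exact huv
    have hinj : Function.Injective f := by
      intro u v
      induction u using QuotientGroup.induction_on with
      | _ u =>
      induction v using QuotientGroup.induction_on with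
      | _ v =>
      intro huv
      rw [QuotientGroup.eq]
      exact (QuotientGroup.eq (s := C.subgroupOf K)).mp huv
    have hsurj : Function.Surjective f := ((Nat.bijective_iff_injective_and_card f).mpr
      ⟨hinj, by
        rw [← Subgroup.index_eq_card, ← Subgroup.index_eq_card]
        exact hrel.trans hidx.symm⟩).2
    obtain ⟨q, hq⟩ := hsurj ((⟨k, hk⟩ : K) : K ⧸ C.subgroupOf K)
    induction q using QuotientGroup.induction_on with
    | _ x =>
      have hc : (x : G)⁻¹ * k ∈ C := (QuotientGroup.eq (s := C.subgroupOf K)).mp hq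
      have hca := Subgroup.mem_centralizer_iff.mp (Subgroup.mem_inf.mp hc).2 a ha
      have h1 : ⁅k, a⁆ = ⁅(x : G), a⁆ := by
        simp only [commutatorElement_def]
        calc k * a * k⁻¹ * a⁻¹
            = (x : G) * ((x : G)⁻¹ * k * a) * ((x : G)⁻¹ * k)⁻¹ * (x : G)⁻¹ * a⁻¹ := by group
          _ = _ := by rw [← hca]; group
      rw [h1]
      exact Subgroup.commutator_mem_commutator x.2 ha
  rw [hKD, hcD]

end Cfsg.Agent.S0057
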