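import Cfsg.Statements.S0060
import Cfsg.Agent.Lib.Cores.PCore
import Cfsg.Agent.Lib.Coprime.Basic

set_option autoImplicit false
open Pointwise
open Cfsg

namespace Cfsg.Agent.S0060

/-- Brodkey's Theorem: in a finite group with abelian Sylow p-subgroups and no nontrivial normal p-subgroup, some conjugate of a Sylow p-subgroup meets it trivially. -/
theorem result {G : Type*} [Group G] [Finite G] (p : ℕ) [Fact p.Prime]
    (S : Sylow p G) (hS : IsMulCommutative S) (hOp : Cfsg.pCore p G = ⊥) :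
    ∃ g : G, (S : Subgroup G) ⊓ MulAut.conj g • (S : Subgroup G) = ⊥ := by
  classical
  obtain ⟨g, hg⟩ := Finite.exists_min (fun g : G => Nat.card ((S : Subgroup G) ⊓ MulAut.conj g • (S : Subgroup G) : Subgroup G))
  refine ⟨g, ?_⟩
  set R := (S : Subgroup G) ⊓ MulAut.conj g • (S : Subgroup G) with hR
  set C := Subgroup.centralizer (R : Set G) with hC
  have hSC : (S : Subgroup G) ≤ C := fun x hx => Subgroup.mem_centralizer_iff.mpr fun y hy =>
    congrArg Subtype.val (hS.is_comm.comm ⟨y, hy.1⟩ ⟨x, hx⟩)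
  have hS2 : ((g • S : Sylow p G) : Subgroup G) = MulAut.conj g • (S : Subgroup G) := rfl
  have hgC : ((g • S : Sylow p G) : Subgroup G) ≤ C := by
    intro x hx
    refine Subgroup.mem_centralizer_iff.mpr fun y hy => ?_
    rw [hS2, Lib.Coprime.mem_conj_smul] at hx
    have hy' : g⁻¹ * y * g ∈ (S : Subgroup G) := Lib.Coprime.mem_conj_smul.mp hy.2
    have := congrArg Subtype.val (hS.is_comm.comm ⟨_, hy'⟩ ⟨_, hx⟩)
    simp only [MulMemClass.coe_mul] at this
    have h2 := congrArg (fun z => g * z * g⁻¹) this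
    simpa [mul_assoc] using h2
  rw [eq_bot_iff, ← hOp, Lib.Cores.pCore_eq_iInf_sylow, le_iInf_iff]
  intro T
  obtain ⟨Q, hQ⟩ := (show IsPGroup p (((T : Subgroup G) ⊓ C).subgroupOf C) from
    (T.2.to_le inf_le_left).comap_subtype).exists_le_sylow
  obtain ⟨c, hc⟩ := MulAction.exists_smul_eq C Q ((g • S).subtype hgC)
  obtain ⟨h, hh⟩ := MulAction.exists_smul_eq G S ((c : G) • T)
  have hTle : (MulAut.conj (c : G) • (T : Subgroup G)) ⊓ C ≤ ((g • S : Sylow p G) : Subgroup G) := by
    intro x hx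
    rw [Subgroup.mem_inf, Lib.Coprime.mem_conj_smul] at hx
    have hxC : (c : G)⁻¹ * x * c ∈ C := mul_mem (mul_mem (inv_mem c.2) hx.2) c.2
    have h1 : (⟨_, hxC⟩ : C) ∈ (Q : Subgroup C) := hQ ⟨hx.1, hxC⟩
    have h2 : (⟨x, hx.2⟩ : C) ∈ ((c • Q : Sylow p C) : Subgroup C) := by
      rw [Sylow.smul_def, Sylow.pointwise_smul_def]
      exact Lib.Coprime.mem_conj_smul.mpr h1
    rw [hc] at h2
    exact h2
  have hle : (S : Subgroup G) ⊓ MulAut.conj h • (S : Subgroup G) ≤ R := by
    intro x hx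
    refine ⟨hx.1, hTle ⟨?_, hSC hx.1⟩⟩
    have e : ((h • S : Sylow p G) : Subgroup G) = (((c : G) • T : Sylow p G) : Subgroup G) := by rw [hh]
    have := hx.2
    rw [show MulAut.conj h • (S : Subgroup G) = _ from e] at this
    exact this
  have heq := Lib.Coprime.eq_of_le_of_card_le hle (hg h)
  intro x hx
  have hxc : x * (c : G) = c * x := Subgroup.mem_centralizer_iff.mp c.2 x hx
  have h3 : x ∈ MulAut.conj h • (S : Subgroup G) := (heq.ge hx).2
  have e : ((h • S : Sylow p G) : Subgroup G) = (((c : G) • T : Sylow p G) : Subgroup G) := by rw [hh]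
  rw [show MulAut.conj h • (S : Subgroup G) = _ from e] at h3
  have h4 : (c : G)⁻¹ * x * c ∈ (T : Subgroup G) := Lib.Coprime.mem_conj_smul.mp h3
  rwa [mul_assoc, hxc, inv_mul_cancel_left] at h4

end Cfsg.Agent.S0060
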