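import Cfsg.Statements.S0063
import Cfsg.Agent.Lib.Coprime.Hall

set_option autoImplicit false
open Cfsg

namespace Cfsg.Agent.S0063

/-- A finite group of prime-power order p ^ m with m > 1 is nilpotent of class at most m - 1. -/
theorem result {G : Type*} [Group G] [Finite G] (p m : ℕ) [Fact p.Prime]
    (hG : Nat.card G = p ^ m) (hm : 1 < m) : Group.nilpotencyClass G ≤ m - 1 := by
  suffices key : ∀ c, ∀ (H : Type _) [Group H] [Finite H], Nat.card H = c → IsPGroup p H →
      ∀ j, c = p ^ j → Group.nilpotencyClass H ≤ max 1 (j - 1) by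
    have h := key _ G hG (IsPGroup.of_card hG) m rfl
    rwa [max_eq_right (by omega)] at h
  intro c
  induction c using Nat.strongRecOn with
  | ind c ih =>
  intro H _ _ hc hp j hj
  have : Group.IsNilpotent H := hp.isNilpotent
  cases subsingleton_or_nontrivial H with
  | inl hs => rw [Group.nilpotencyClass_zero_iff_subsingleton.mpr hs]; exact Nat.zero_le _
  | inr hn =>
  rw [Group.nilpotencyClass_eq_quotient_center_plus_one]
  have hQ := hp.to_quotient (Subgroup.center H)
  obtain ⟨k, hk⟩ := IsPGroup.iff_card.mp hQ
  have hlt : Nat.card (H ⧸ Subgroup.center H) < c := by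
    rw [← hc, ← Lib.Coprime.card_quotient_mul_card (Subgroup.center H)]
    exact lt_mul_of_one_lt_right Nat.card_pos
      ((Subgroup.center H).one_lt_card_iff_ne_bot.mpr hp.bot_lt_center.ne')
  have hkj : k < j := by
    rw [hk, hj] at hlt
    exact (Nat.pow_lt_pow_iff_right (Fact.out : p.Prime).one_lt).mp hlt
  by_cases hk1 : k ≤ 1
  · have hcyc : IsCyclic (H ⧸ Subgroup.center H) := by
      interval_cases k
      · rw [pow_zero] at hk
        have := (Nat.card_eq_one_iff_unique.mp hk).1
        infer_instance
      · exact isCyclic_of_prime_card (hk.trans (pow_one p))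
    have hcomm : IsMulCommutative H := isMulCommutative_of_isCyclic_quotient_center_self H
    have htop : Subgroup.center H = ⊤ := eq_top_iff.mpr fun x _ =>
      Subgroup.mem_center_iff.mpr fun y => IsMulCommutative.is_comm.comm y x
    have hsub : Subsingleton (H ⧸ Subgroup.center H) := by
      have h1 : Nat.card (H ⧸ Subgroup.center H) = 1 := by
        rw [← Subgroup.index_eq_card, htop, Subgroup.index_top]
      exact (Nat.card_eq_one_iff_unique.mp h1).1
    rw [Group.nilpotencyClass_zero_iff_subsingleton.mpr hsub]
    exact le_max_left _ _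
  · have h := ih _ hlt _ rfl hQ k hk
    omega

end Cfsg.Agent.S0063
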