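import Cfsg.Statements.S0064
import Cfsg.Agent.Lib.Coprime.Basic

set_option autoImplicit false
open Cfsg

namespace Cfsg.Agent.S0064

/-- A finite group is nilpotent exactly when each of its subgroups is subnormal. -/
theorem result {G : Type*} [Group G] [Finite G] :
    Group.IsNilpotent G ↔ ∀ H : Subgroup G, H.IsSubnormal := by
  constructor
  · intro hN H
    obtain ⟨d, hd⟩ : ∃ d, H.index = d := ⟨_, rfl⟩
    induction d using Nat.strongRecOn generalizing H with
    | ind d ih =>
    by_cases htop : H = ⊤
    · exact htop ▸ Subgroup.IsSubnormal.top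
    have hlt := Group.normalizerCondition_of_isNilpotent H (lt_top_iff_ne_top.mpr htop)
    refine Subgroup.IsSubnormal.step H (Subgroup.normalizer (H : Set G)) hlt.le ?_
      Subgroup.normal_in_normalizer
    exact ih _ (hd ▸ Subgroup.index_strictAnti hlt) _ rfl
  · intro h
    refine ((Group.isNilpotent_of_finite_tfae (G := G)).out 0 2 rfl rfl).mpr fun M hM => ?_
    rcases (h M).lt_normal with rfl | ⟨K, hK, hle, hlt⟩
    · exact absurd rfl hM.1
    · rcases eq_or_lt_of_le hle with rfl | hMK
      · exact hK
      · exact absurd (hM.2 K hMK) hlt.ne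

end Cfsg.Agent.S0064
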