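import Cfsg.Statements.S0068
import Cfsg.Agent.Lib.Solvable.FrobeniusAux

set_option autoImplicit false
open Cfsg

namespace Cfsg.Agent.S0068

/-- Frobenius complements of even order: if H complements a nontrivial normal subgroup K, each nonidentity element of H has trivial centraliser in K, and H has even order, then H contains a unique involution s, K is abelian, and s inverts every element of K. -/
theorem result {G : Type*} [Group G] [Finite G] (K H : Subgroup G) [K.Normal]
    (hc : Subgroup.IsComplement' K H) (hK : K ≠ ⊥) (hfpf : ∀ h ∈ H, h ≠ 1 → K ⊓ Subgroup.centralizer {h} = ⊥)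
    (heven : 2 ∣ Nat.card H) :
    (∃ s ∈ H, orderOf s = 2 ∧ (∀ t ∈ H, orderOf t = 2 → t = s) ∧ ∀ k ∈ K, s * k * s⁻¹ = k⁻¹) ∧ IsMulCommutative K := by
  haveI : Nontrivial K := (Subgroup.nontrivial_iff_ne_bot K).mpr hK
  set φ := Cfsg.Agent.Lib.Solvable.FrobeniusAux.act
    (Cfsg.Agent.Lib.Solvable.FrobeniusAux.le_normalizer_of_normal K H) with hφ
  have hf : ∀ a : H, a ≠ 1 → ∀ g : K, φ a g = g → g = 1 :=
    Cfsg.Agent.Lib.Solvable.FrobeniusAux.act_fpf _ fun a ha ha1 =>
      Cfsg.Agent.Lib.Solvable.FrobeniusAux.fixedPointFree_iff.mp (hfpf a ha ha1)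
  haveI := Fact.mk Nat.prime_two
  obtain ⟨s, hs⟩ := exists_prime_orderOf_dvd_card' 2 heven
  have hs1 : s ≠ 1 := fun h => by rw [h, orderOf_one] at hs; omega
  refine ⟨⟨s, s.2, by rw [Subgroup.orderOf_coe]; exact hs, fun t ht hto => ?_, fun k hk => ?_⟩,
    Cfsg.Agent.Lib.Frobenius.isMulCommutative_of_two_dvd φ hf heven⟩
  · exact congrArg Subtype.val (Cfsg.Agent.Lib.Frobenius.eq_of_orderOf_eq_two φ hf
      (s := (⟨t, ht⟩ : H)) (t := s) (by rwa [Subgroup.orderOf_mk]) hs)
  · have hinv : Function.Involutive (φ s : K →* K) := fun v => by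
      show φ s (φ s v) = v
      rw [← MulAut.mul_apply, ← map_mul, ← pow_two, ← hs, pow_orderOf_eq_one, map_one]; rfl
    have h := congrFun (MonoidHom.FixedPointFree.coe_eq_inv_of_involutive
      (φ := (φ s : K →* K)) (hf s hs1) hinv) ⟨k, hk⟩
    exact congrArg Subtype.val h

end Cfsg.Agent.S0068
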