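import Cfsg.Statements.S0070
import Cfsg.Agent.Lib.Solvable.Nilpotent

set_option autoImplicit false
open Cfsg

namespace Cfsg.Agent.S0070

/-- The Fitting subgroup commutes with passing to the Frattini quotient: the Fitting subgroup of G modulo its Frattini subgroup is the image of the Fitting subgroup of G. -/
theorem result {G : Type*} [Group G] [Finite G] :
    Cfsg.fittingSubgroup (G ⧸ frattini G) = (Cfsg.fittingSubgroup G).map (QuotientGroup.mk' (frattini G)) := by
  refine le_antisymm ?_ (Lib.Cores.map_fittingSubgroup_le _ (QuotientGroup.mk'_surjective _))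
  let π : G →* G ⧸ frattini G := QuotientGroup.mk' _
  have hπ : Function.Surjective π := QuotientGroup.mk'_surjective _
  set A := (Cfsg.fittingSubgroup (G ⧸ frattini G)).comap π with hA
  have hker : frattini G ≤ A := fun x hx => by
    show π x ∈ Cfsg.fittingSubgroup (G ⧸ frattini G)
    rw [show π x = 1 from (QuotientGroup.eq_one_iff x).mpr hx]
    exact one_mem _
  have := Lib.Cores.fittingSubgroup_characteristic (G ⧸ frattini G)
  have hFn : (Cfsg.fittingSubgroup (G ⧸ frattini G)).Normal := inferInstance
  have hAn : A.Normal := hFn.comap π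
  let f : A →* Cfsg.fittingSubgroup (G ⧸ frattini G) :=
    (π.comp A.subtype).codRestrict _ fun x => x.2
  have hf : Function.Surjective f := fun y => by
    obtain ⟨x, hx⟩ := hπ y
    exact ⟨⟨x, show π x ∈ Cfsg.fittingSubgroup (G ⧸ frattini G) from hx ▸ y.2⟩, Subtype.ext hx⟩
  have hfk : f.ker = (frattini G).subgroupOf A := by
    ext x
    rw [MonoidHom.mem_ker, Subtype.ext_iff]
    exact QuotientGroup.eq_one_iff (x : G)
  have hAnil : Group.IsNilpotent A := by
    refine Lib.Solvable.isNilpotent_of_quotient_le_frattini A (frattini G) hker le_rfl ?_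
    have := Lib.Cores.fittingSubgroup_isNilpotent (G ⧸ frattini G)
    exact Group.nilpotent_of_mulEquiv ((QuotientGroup.quotientMulEquivOfEq hfk.symm).trans
      (QuotientGroup.quotientKerEquivOfSurjective f hf)).symm
  calc Cfsg.fittingSubgroup (G ⧸ frattini G) = A.map π :=
        (Subgroup.map_comap_eq_self_of_surjective hπ _).symm
    _ ≤ _ := Subgroup.map_mono (Lib.Cores.le_fittingSubgroup hAn hAnil)

end Cfsg.Agent.S0070
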