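import Cfsg.Statements.S0073
import Cfsg.Agent.Lib.Transfer.AbelianSylow
import Cfsg.Agent.Lib.Transfer.PFrattini

set_option autoImplicit false
open Cfsg

namespace Cfsg.Agent.S0073

open scoped commutatorElement in

/-- For a finite non-abelian simple group, either the cube of the least prime divisor of the order divides the order, or 12 does. -/
theorem result {G : Type*} [Group G] [Finite G] [IsSimpleGroup G] (hG : ∃ x y : G, x * y ≠ y * x) : (Nat.card G).minFac ^ 3 ∣ Nat.card G ∨ 12 ∣ Nat.card G := by
  set p := (Nat.card G).minFac with hpdef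
  have hne1 : Nat.card G ≠ 1 := by
    intro h1
    haveI := (Nat.card_eq_one_iff_unique.mp h1).1
    obtain ⟨x, y, hxy⟩ := hG
    exact hxy (Subsingleton.elim _ _)
  haveI hpp : Fact p.Prime := ⟨Nat.minFac_prime hne1⟩
  by_contra hcon
  rw [not_or] at hcon
  obtain ⟨h3, h12⟩ := hcon
  have hpd : p ∣ Nat.card G := Nat.minFac_dvd _
  let P : Sylow p G := default
  obtain ⟨k, hk⟩ := IsPGroup.iff_card.mp P.2
  have hk2 : k ≤ 2 := by
    by_contra hlt
    exact h3 ((pow_dvd_pow p (by omega)).trans (hk ▸ Subgroup.card_subgroup_dvd_card _))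
  have hcontra : ¬ Cfsg.HasNormalPComplement p G := by
    intro h
    have hp : IsPGroup p G := Lib.Transfer.isPGroup_of_simple h hpd
    haveI : Group.IsNilpotent G := hp.isNilpotent
    have hlt := Group.IsSolvable.commutator_lt_top_of_nontrivial G
    rcases IsSimpleGroup.eq_bot_or_eq_top_of_normal (commutator G) inferInstance with hb | ht
    · obtain ⟨x, y, hxy⟩ := hG
      apply hxy
      have hm : ⁅x, y⁆ ∈ commutator G :=
        Subgroup.commutator_mem_commutator (Subgroup.mem_top x) (Subgroup.mem_top y)
      rw [hb, Subgroup.mem_bot] at hm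
      exact commutatorElement_eq_one_iff_mul_comm.mp hm
    · exact hlt.ne ht
  by_cases hcyc : IsCyclic (P : Subgroup G)
  · exact hcontra ⟨P, _, inferInstance, IsCyclic.isComplement' hpdef.symm hcyc⟩
  · have hk' : k = 2 := by
      rcases Nat.lt_or_ge k 2 with hlt | hge
      · exfalso; apply hcyc
        interval_cases k
        · haveI := (Nat.card_eq_one_iff_unique.mp (hk.trans (pow_zero p))).1
          exact isCyclic_of_subsingleton
        · exact isCyclic_of_prime_card (p := p) (by simpa using hk)
      · omega
    subst hk'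
    haveI : IsMulCommutative (P : Subgroup G) := IsPGroup.isMulCommutative_of_card_eq_prime_sq hk
    refine hcontra (Lib.Transfer.hasNormalPComplement_of_card P inferInstance hk ?_)
    intro q hq hqp hqG i hi hdvd
    have hle : p ≤ q := Nat.minFac_le_of_dvd hq.two_le hqG
    have hlt : p < q := lt_of_le_of_ne hle (Ne.symm hqp)
    have hp2 := hpp.out.two_le
    have hq1 : q ∣ p + 1 := by
      interval_cases i
      · have e : p ^ 2 - p ^ 0 = (p + 1) * (p - 1) := by
          obtain ⟨m, hm⟩ : ∃ m, p = m + 1 := ⟨p - 1, by omega⟩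
          rw [hm]; simp only [pow_zero, Nat.add_sub_cancel]
          have : (m + 1) ^ 2 = (m + 1 + 1) * m + 1 := by ring
          omega
        rw [e] at hdvd
        rcases hq.dvd_mul.mp hdvd with h | h
        · exact h
        · exact absurd (Nat.le_of_dvd (by omega) h) (by omega)
      · have e : p ^ 2 - p ^ 1 = p * (p - 1) := by
          rw [pow_one, sq, Nat.mul_sub, mul_one]
        rw [e] at hdvd
        rcases hq.dvd_mul.mp hdvd with h | h
        · exact absurd (Nat.le_of_dvd (by omega) h) (by omega)
        · exact absurd (Nat.le_of_dvd (by omega) h) (by omega)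
    have hqe : q = p + 1 := by
      have := Nat.le_of_dvd (by omega) hq1
      omega
    have hp2' : p = 2 := by
      by_contra hp
      have hodd := hpp.out.odd_of_ne_two hp
      have : Odd q := hq.odd_of_ne_two (by omega)
      rw [hqe] at this
      obtain ⟨a, ha⟩ := hodd
      obtain ⟨b, hb⟩ := this
      omega
    apply h12
    have h4 : 4 ∣ Nat.card G := by
      have := Subgroup.card_subgroup_dvd_card (P : Subgroup G)
      rw [hk, hp2'] at this; simpa using this
    have h3' : 3 ∣ Nat.card G := by rw [hqe, hp2'] at hqG; exact hqG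
    exact (Nat.Coprime.mul_dvd_of_dvd_of_dvd (by norm_num : Nat.Coprime 4 3) h4 h3')

end Cfsg.Agent.S0073
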