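import Cfsg.Statements.S0075
import Cfsg.Agent.Lib.Transfer.Focal

set_option autoImplicit false
open Cfsg

namespace Cfsg.Agent.S0075

open scoped commutatorElement in

/-- For an abelian Sylow p-subgroup T, its intersection with the subgroup generated by the elements of order prime to p is the commutator of T with its normalizer. -/
theorem result {G : Type*} [Group G] [Finite G] {p : ℕ} [Fact p.Prime] (T : Sylow p G) (hT : IsMulCommutative T) : (T : Subgroup G) ⊓ Cfsg.pResidual p G = ⁅(T : Subgroup G), Subgroup.normalizer (T : Set G)⁆ := by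
  apply le_antisymm
  · refine (Lib.Transfer.inf_pResidual_le_focalSubgroup T).trans ?_
    rw [Lib.Transfer.focalSubgroup_le_iff]
    intro y hy g hg
    obtain ⟨n, hn, he⟩ := Lib.Transfer.controlsFusion_normalizer_of_abelian T hT y hy g hg
    rw [← he]
    have : y⁻¹ * (n * y * n⁻¹) = ⁅y⁻¹, n⁆ := by rw [commutatorElement_def, inv_inv]; group
    rw [this]
    exact Subgroup.commutator_mem_commutator (inv_mem hy) hn
  · rw [Subgroup.commutator_le]
    intro x hx n hn
    haveI : IsMulCommutative (T : Subgroup G) := hT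
    refine ⟨?_, ?_⟩
    · rw [commutatorElement_def]
      have h1 : n * x⁻¹ * n⁻¹ ∈ (T : Subgroup G) := (Subgroup.mem_normalizer_iff.mp hn _).mp (inv_mem hx)
      rw [show x * n * x⁻¹ * n⁻¹ = x * (n * x⁻¹ * n⁻¹) by group]
      exact mul_mem hx h1
    · -- modulo `O^p(G)` the group is generated by the abelian `T`
      rw [← QuotientGroup.ker_mk' (Cfsg.pResidual p G)]
      refine MonoidHom.mem_ker.mpr ?_
      rw [map_commutatorElement, commutatorElement_eq_one_iff_mul_comm]
      obtain ⟨t, ht, k, hk, rfl⟩ := Subgroup.mem_sup_of_normal_right.mp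
        ((Lib.Transfer.sylow_sup_pResidual T) ▸ Subgroup.mem_top n :
          n ∈ (T : Subgroup G) ⊔ Cfsg.pResidual p G)
      rw [map_mul, show QuotientGroup.mk' (Cfsg.pResidual p G) k = 1 from
        (QuotientGroup.eq_one_iff k).mpr hk, mul_one, ← map_mul, ← map_mul]
      exact congrArg _ (congrArg Subtype.val
        (mul_comm' (⟨x, hx⟩ : (T : Subgroup G)) ⟨t, ht⟩))

end Cfsg.Agent.S0075
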