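import Cfsg.Statements.S0076

set_option autoImplicit false
open Cfsg

namespace Cfsg.Agent.S0076

/-- Two P-invariant subsets of a Sylow p-subgroup P that are conjugate in G are conjugate under the normalizer of P. -/
theorem result {G : Type*} [Group G] [Finite G] {p : ℕ} [Fact p.Prime] (P : Sylow p G) (X Y : Set G) (hXP : X ⊆ P) (hYP : Y ⊆ P) (hX : ∀ x ∈ P, (fun y => x * y * x⁻¹) '' X = X) (hY : ∀ x ∈ P, (fun y => x * y * x⁻¹) '' Y = Y) (g : G) (hg : (fun y => g * y * g⁻¹) '' X = Y) : ∃ n ∈ Subgroup.normalizer (P : Set G), (fun y => n * y * n⁻¹) '' X = Y := by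
  have hPY : (P : Subgroup G) ≤ Subgroup.normalizer Y := by
    intro x hx
    rw [Subgroup.mem_set_normalizer_iff]
    intro y
    constructor
    · intro hy
      rw [← hY x hx]
      exact ⟨y, hy, rfl⟩
    · intro hy
      rw [← hY x hx] at hy
      obtain ⟨z, hz, hzy⟩ := hy
      rwa [show y = z from mul_left_cancel (mul_right_cancel hzy.symm)]
  have hgY : ((g • P : Sylow p G) : Subgroup G) ≤ Subgroup.normalizer Y := by
    rw [Sylow.coe_subgroup_smul]
    intro w hw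
    obtain ⟨x, hx, rfl⟩ := hw
    rw [Subgroup.mem_set_normalizer_iff]
    intro y
    show y ∈ Y ↔ g * x * g⁻¹ * y * (g * x * g⁻¹)⁻¹ ∈ Y
    constructor
    · intro hy
      rw [← hg] at hy ⊢
      obtain ⟨z, hz, rfl⟩ := hy
      refine ⟨x * z * x⁻¹, ?_, by group⟩
      rw [← hX x hx]
      exact ⟨z, hz, rfl⟩
    · intro hy
      rw [← hg] at hy ⊢
      obtain ⟨z, hz, hzy⟩ := hy
      rw [← hX x hx] at hz
      obtain ⟨z', hz', rfl⟩ := hz
      refine ⟨z', hz', ?_⟩
      dsimp only at hzy ⊢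
      calc g * z' * g⁻¹
          = (g * x * g⁻¹)⁻¹ * (g * (x * z' * x⁻¹) * g⁻¹) * (g * x * g⁻¹) := by group
        _ = y := by rw [hzy]; group
  obtain ⟨c, hc⟩ := MulAction.exists_smul_eq (Subgroup.normalizer Y) ((g • P).subtype hgY)
    (P.subtype hPY)
  rw [Sylow.smul_subtype] at hc
  have hcP := Sylow.subtype_injective hc
  have hn : (c : G) * g ∈ Subgroup.normalizer ((P : Subgroup G) : Set G) := by
    refine (Sylow.smul_eq_iff_mem_normalizer (P := P)).mp ?_
    rw [mul_smul]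
    exact hcP
  refine ⟨(c : G) * g, hn, ?_⟩
  have hcY : ∀ y, y ∈ Y ↔ (c : G) * y * (c : G)⁻¹ ∈ Y := Subgroup.mem_set_normalizer_iff.mp c.2
  ext y
  constructor
  · rintro ⟨x, hx, rfl⟩
    have h1 : g * x * g⁻¹ ∈ Y := hg ▸ ⟨x, hx, rfl⟩
    have h2 := (hcY _).mp h1
    simpa [mul_assoc] using h2
  · intro hy
    have h1 : (c : G)⁻¹ * y * (c : G) ∈ Y := (hcY _).mpr (by simpa [mul_assoc] using hy)
    obtain ⟨x, hx, hxy⟩ := hg.symm.subset h1
    refine ⟨x, hx, ?_⟩
    dsimp only at hxy ⊢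
    calc (c : G) * g * x * ((c : G) * g)⁻¹ = (c : G) * (g * x * g⁻¹) * (c : G)⁻¹ := by group
      _ = y := by rw [hxy]; group

end Cfsg.Agent.S0076
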