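import Cfsg.Statements.S0078
import Cfsg.Agent.Lib.Transfer.Gruen

set_option autoImplicit false
open Cfsg

namespace Cfsg.Agent.S0078

/-- In a p-normal group, a Sylow p-subgroup P meets O^p(G) exactly where it meets O^p(V), for any subgroup V containing the normalizer of the centre of P. -/
theorem result {G : Type*} [Group G] [Finite G] {p : ℕ} [Fact p.Prime] (P : Sylow p G) (hn : ∀ Q : Sylow p G, (P : Subgroup G) ⊓ Subgroup.centralizer (P : Set G) ≤ (Q : Subgroup G) → (Q : Subgroup G) ⊓ Subgroup.centralizer (Q : Set G) = (P : Subgroup G) ⊓ Subgroup.centralizer (P : Set G)) (V : Subgroup G) (hV : Subgroup.normalizer (((P : Subgroup G) ⊓ Subgroup.centralizer (P : Set G) : Subgroup G) : Set G) ≤ V) : (P : Subgroup G) ⊓ Cfsg.pResidual p G = (P : Subgroup G) ⊓ (Cfsg.pResidual p V).map V.subtype := by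
  set Z : Subgroup G := (P : Subgroup G) ⊓ Subgroup.centralizer (P : Set G) with hZdef
  have hmap : ∀ (k : G) (Q : Sylow p G), k • P = Q →
      Z.map (MulAut.conj k).toMonoidHom = (Q : Subgroup G) ⊓ Subgroup.centralizer (Q : Set G) := by
    rintro k Q rfl
    ext y
    constructor
    · rintro ⟨z, hz, rfl⟩
      refine ⟨?_, ?_⟩
      · rw [Sylow.coe_subgroup_smul]
        exact ⟨z, hz.1, rfl⟩
      · rintro _ ⟨w, hw, rfl⟩
        show k * w * k⁻¹ * (k * z * k⁻¹) = k * z * k⁻¹ * (k * w * k⁻¹)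
        have h0 : w * z = z * w := hz.2 w hw
        calc k * w * k⁻¹ * (k * z * k⁻¹) = k * (w * z) * k⁻¹ := by group
          _ = _ := by rw [h0]; group
    · rintro ⟨hy, hy2⟩
      rw [Sylow.coe_subgroup_smul] at hy
      obtain ⟨z, hz, rfl⟩ := hy
      refine ⟨z, ⟨hz, fun w hw => ?_⟩, rfl⟩
      have hwk : k * w * k⁻¹ ∈ ((k • P : Sylow p G) : Subgroup G) := by
        rw [Sylow.coe_subgroup_smul]; exact ⟨w, hw, rfl⟩
      have h0 : k * w * k⁻¹ * (k * z * k⁻¹) = k * z * k⁻¹ * (k * w * k⁻¹) := hy2 _ hwk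
      calc w * z = k⁻¹ * (k * w * k⁻¹ * (k * z * k⁻¹)) * k := by group
        _ = z * w := by rw [h0]; group
  have hW : Cfsg.IsWeaklyClosed Z (P : Subgroup G) := by
    refine ⟨inf_le_left, fun g hg => ?_⟩
    have h1 : Z ≤ ((g⁻¹ • P : Sylow p G) : Subgroup G) := by
      intro z hz
      rw [Sylow.coe_subgroup_smul]
      refine ⟨g * z * g⁻¹, hg ⟨z, hz, rfl⟩, ?_⟩
      show g⁻¹ * (g * z * g⁻¹) * g⁻¹⁻¹ = z
      group
    have h2 : Z.map (MulAut.conj g⁻¹).toMonoidHom = Z :=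
      (hmap g⁻¹ _ rfl).trans (hn _ h1)
    have h3 : g⁻¹ ∈ Subgroup.normalizer (Z : Set G) :=
      Subgroup.mem_normalizer_iff_map_conj_eq.mpr h2
    exact Subgroup.mem_normalizer_iff_map_conj_eq.mp ((Subgroup.inv_mem_iff _).mp h3)
  have hctl := Lib.Transfer.controlsFusion_of_weaklyClosed P Z inf_le_right hW
  refine Lib.Transfer.inf_pResidual_eq_of_controlsFusion P
    ((Lib.Transfer.le_normalizer_of_le_centralizer inf_le_right).trans hV) fun x hx g hg => ?_
  obtain ⟨h, hh, he⟩ := hctl x hx g hg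
  exact ⟨h, hV hh, he⟩

end Cfsg.Agent.S0078
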