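import Cfsg.Statements.S0079
import Cfsg.Agent.Lib.Transfer.Tate

set_option autoImplicit false
open Cfsg

namespace Cfsg.Agent.S0079

/-- A nilpotent Hall subgroup has a normal complement exactly when elements of it that are conjugate in the whole group are already conjugate inside it. -/
theorem result {G : Type*} [Group G] [Finite G] (H : Subgroup G) (hH : Group.IsNilpotent H) (hHall : Nat.Coprime (Nat.card H) H.index) : (∃ N : Subgroup G, N.Normal ∧ N.IsComplement' H) ↔ ∀ x ∈ H, ∀ y ∈ H, (∃ g : G, g * x * g⁻¹ = y) → ∃ h ∈ H, h * x * h⁻¹ = y := by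
  classical
  constructor
  · rintro ⟨N, hN, hc⟩ x hx y hy ⟨g, rfl⟩
    obtain ⟨⟨⟨n, hn⟩, ⟨h, hh⟩⟩, hnh⟩ := (Subgroup.IsComplement.existsUnique hc g).exists
    have hnh' : n * h = g := hnh
    refine ⟨h, hh, ?_⟩
    subst hnh'
    have h1 : h * x * h⁻¹ ∈ H := mul_mem (mul_mem hh hx) (inv_mem hh)
    have h2 : (h * x * h⁻¹)⁻¹ * (n * h * x * (n * h)⁻¹) ∈ N := by
      have : (h * x * h⁻¹)⁻¹ * (n * h * x * (n * h)⁻¹) =
          ((h * x * h⁻¹)⁻¹ * n * (h * x * h⁻¹)) * n⁻¹ := by group
      rw [this]
      exact mul_mem (by simpa [mul_assoc] using hN.conj_mem n hn (h * x * h⁻¹)⁻¹) (inv_mem hn)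
    exact inv_mul_eq_one.mp (Subgroup.disjoint_def.mp hc.disjoint h2 (mul_mem (inv_mem h1) hy))
  · intro hfus
    haveI := hH
    -- a Sylow subgroup of `H` for a prime dividing `|H|` is one of `G` and controls its own fusion
    have key : ∀ q : ℕ, q.Prime → q ∣ Nat.card H → Cfsg.HasNormalPComplement q G ∧
        ∃ P : Sylow q G, (P : Subgroup G) ≤ H := by
      intro q hq hqH
      haveI : Fact q.Prime := ⟨hq⟩
      let R : Sylow q H := default
      have hRn : (R : Subgroup H).Normal :=
        R.normal_of_normalizerCondition Group.normalizerCondition_of_isNilpotent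
      have hcard : Nat.card ((R : Subgroup H).map H.subtype) = Nat.card (R : Subgroup H) :=
        Subgroup.card_map_of_injective H.subtype_injective
      have hRp : IsPGroup q ((R : Subgroup H).map H.subtype) := R.2.map _
      have hidx : ¬ q ∣ ((R : Subgroup H).map H.subtype).index := by
        intro hd
        rw [Subgroup.index_map_subtype] at hd
        rcases hq.dvd_mul.mp hd with h | h
        · exact R.not_dvd_index h
        · exact hq.ne_one (Nat.eq_one_of_dvd_coprimes hHall hqH h)
      let P : Sylow q G := hRp.toSylow hidx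
      have hPe : (P : Subgroup G) = (R : Subgroup H).map H.subtype := rfl
      refine ⟨Lib.Transfer.hasNormalPComplement_of_controlsFusion P ?_, P,
        hPe ▸ Subgroup.map_subtype_le _⟩
      intro x hx g hg
      rw [hPe] at hx hg ⊢
      obtain ⟨x', hx', rfl⟩ := hx
      obtain ⟨h, hh, he⟩ := hfus _ x'.2 _ (Subgroup.map_subtype_le _ hg) ⟨g, rfl⟩
      obtain ⟨a, b, -, -, ha, ⟨j, hj⟩, hab⟩ :=
        Lib.Transfer.exists_pPart_decomp (p := q) (⟨h, hh⟩ : H)
      have hb : b ∈ (R : Subgroup H) := by
        have hz : IsPGroup q (Subgroup.zpowers b) :=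
          IsPGroup.of_card (n := j) (by rw [Nat.card_zpowers, hj])
        obtain ⟨Q, hQ⟩ := hz.exists_le_sylow
        haveI := hRn
        haveI := Sylow.unique_of_normal R hRn
        rw [Subsingleton.elim R Q]
        exact hQ (Subgroup.mem_zpowers b)
      refine ⟨b, ⟨b, hb, rfl⟩, ?_⟩
      have hb' : b * x' * b⁻¹ ∈ (R : Subgroup H) := hRn.conj_mem x' hx' b
      have hcom : Commute a (b * x' * b⁻¹) := by
        haveI := hRn
        have hidx : ∃ k, (Subgroup.centralizer ((R : Subgroup H) : Set H)).index = q ^ k := by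
          obtain ⟨k, m, hm, hkm⟩ := Nat.exists_eq_pow_mul_and_not_dvd
            (Subgroup.index_ne_zero_of_finite (H := Subgroup.centralizer ((R : Subgroup H) : Set H))) q
            hq.ne_one
          refine ⟨k, ?_⟩
          by_contra hne
          have hm1 : m ≠ 1 := fun h1 => hne (by rw [hkm, h1, mul_one])
          obtain ⟨r, hr, hrd⟩ := Nat.exists_prime_and_dvd hm1
          haveI : Fact r.Prime := ⟨hr⟩
          have hrq : r ≠ q := fun e => hm (e ▸ hrd)
          let S : Sylow r H := default
          have hSn : (S : Subgroup H).Normal :=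
            S.normal_of_normalizerCondition Group.normalizerCondition_of_isNilpotent
          have hSle : (S : Subgroup H) ≤ Subgroup.centralizer ((R : Subgroup H) : Set H) :=
            fun s hs t ht => ((Subgroup.commute_of_normal_of_disjoint _ _ hSn hRn
              (IsPGroup.disjoint_of_ne r q hrq _ _ S.2 R.2) s t hs ht).eq).symm
          exact S.not_dvd_index ((hrd.trans (Dvd.intro_left _ hkm.symm)).trans
            (Subgroup.index_dvd_of_le hSle))
        obtain ⟨k, hk⟩ := hidx
        have hac := Lib.Transfer.pResidual_le_of_index hk (Lib.Transfer.mem_pResidual_of_coprime ha)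
        exact (hac _ hb').symm
      have he' := congrArg Subtype.val (show b * x' * b⁻¹ = (⟨h, hh⟩ : H) * x' * (⟨h, hh⟩ : H)⁻¹ from ?_)
      · exact he'.trans he
      · rw [hab]
        calc b * x' * b⁻¹ = (b * x' * b⁻¹ * a) * a⁻¹ := by group
          _ = (a * (b * x' * b⁻¹)) * a⁻¹ := by rw [hcom.eq]
          _ = a * b * x' * (a * b)⁻¹ := by group
    set N : Subgroup G := ⨅ q : (Nat.card H).primeFactors, Cfsg.pResidual (q : ℕ) G with hNdef
    have hNn : N.Normal := Subgroup.normal_iInf_normal fun q => by
      haveI : Fact (q : ℕ).Prime := ⟨Nat.prime_of_mem_primeFactors q.2⟩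
      exact Lib.Transfer.pResidual_normal
    have hbot : Disjoint N H := by
      rw [Subgroup.disjoint_def]
      intro x hxN hxH
      by_contra hx1
      obtain ⟨q, hq, hqd⟩ := Nat.exists_prime_and_dvd (mt orderOf_eq_one_iff.mp hx1)
      haveI : Fact q.Prime := ⟨hq⟩
      have hqH : q ∣ Nat.card H := hqd.trans (Subgroup.orderOf_dvd_natCard H hxH)
      have hmem : x ∈ Cfsg.pResidual q G :=
        (Subgroup.mem_iInf.mp hxN) ⟨q, hq.mem_primeFactors hqH Nat.card_pos.ne'⟩
      have := Lib.Transfer.coprime_orderOf_of_mem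
        (Lib.Transfer.hasNormalPComplement_iff_coprime.mp (key q hq hqH).1) hmem
      exact (Lib.Transfer.coprime_iff_not_dvd _).mp this hqd
    have htop : N ⊔ H = ⊤ := by
      rw [← Subgroup.index_eq_one]
      by_contra hne
      obtain ⟨q, hq, hqd⟩ := Nat.exists_prime_and_dvd hne
      haveI : Fact q.Prime := ⟨hq⟩
      by_cases hqH : q ∣ Nat.card H
      · obtain ⟨P, hP⟩ := (key q hq hqH).2
        exact P.not_dvd_index (hqd.trans (Subgroup.index_dvd_of_le (hP.trans le_sup_right)))
      · let P : Sylow q G := default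
        have hP : (P : Subgroup G) ≤ N := by
          intro x hx
          rw [hNdef, Subgroup.mem_iInf]
          intro r
          haveI : Fact (r : ℕ).Prime := ⟨Nat.prime_of_mem_primeFactors r.2⟩
          obtain ⟨i, hi⟩ := IsPGroup.iff_orderOf.mp P.2 ⟨x, hx⟩
          rw [Subgroup.orderOf_mk] at hi
          refine Lib.Transfer.mem_pResidual_of_coprime ?_
          rw [hi]
          refine Nat.Coprime.pow_left i ((Nat.coprime_primes hq (Nat.prime_of_mem_primeFactors r.2)).mpr ?_)
          intro h
          exact hqH (h ▸ Nat.dvd_of_mem_primeFactors r.2)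
        exact P.not_dvd_index (hqd.trans (Subgroup.index_dvd_of_le (hP.trans le_sup_left)))
    exact ⟨N, hNn, Subgroup.isComplement'_of_disjoint_and_mul_eq_univ hbot
      (by haveI := hNn; rw [← Subgroup.normal_mul N H, htop, Subgroup.coe_top])⟩

end Cfsg.Agent.S0079
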