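import Cfsg.Statements.S0081
import Cfsg.Agent.Lib.Transfer.PFrattini

set_option autoImplicit false
open Cfsg

namespace Cfsg.Agent.S0081

/-- If a normal subgroup meets a Sylow p-subgroup P inside the Frattini subgroup of P, then it has a normal p-complement. -/
theorem result {G : Type*} [Group G] [Finite G] {p : ℕ} [Fact p.Prime] (P : Sylow p G) (N : Subgroup G) [N.Normal] (h : N ⊓ (P : Subgroup G) ≤ (frattini P).map (P : Subgroup G).subtype) : Cfsg.HasNormalPComplement p N := by
  set H := N ⊔ (P : Subgroup G) with hH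
  haveI hNH : (N.subgroupOf H).Normal := ‹N.Normal›.subgroupOf H
  let PH : Sylow p H := P.subtype le_sup_right
  -- `O^p(H) ≤ N`
  have hres : Cfsg.pResidual p H ≤ N.subgroupOf H := by
    have hd : (N.subgroupOf H).index ∣ Nat.card (P : Subgroup G) := by
      rw [← Subgroup.relIndex, hH, sup_comm, Subgroup.relIndex_sup_right]
      exact Subgroup.relIndex_dvd_card _ _
    obtain ⟨m, hm⟩ := IsPGroup.iff_card.mp P.2
    obtain ⟨j, -, hj⟩ := (Nat.dvd_prime_pow (Fact.out : p.Prime)).mp (hm ▸ hd)
    exact Lib.Transfer.pResidual_le_of_index hj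
  refine Lib.Transfer.hasNormalPComplement_of_le (K := H) le_sup_left ?_
  rw [Lib.Transfer.hasNormalPComplement_iff_inf_eq_bot PH]
  have key := Lib.Transfer.inf_pResidual_eq PH (le_refl (PH : Subgroup H)) (by
    refine le_trans ?_ (le_trans le_sup_left le_sup_left)
    intro x hx
    obtain ⟨hxP, hxK⟩ := hx
    have hxG : (x : G) ∈ N ⊓ (P : Subgroup G) := ⟨hres hxK, hxP⟩
    obtain ⟨a, ha, hax⟩ := h hxG
    let e : (P : Subgroup G) ≃* ↥((P : Subgroup G).subgroupOf H) :=
      (Subgroup.subgroupOfEquivOfLe le_sup_right).symm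
    refine ⟨e a, ?_, ?_⟩
    · exact Lib.Transfer.map_frattini_le_of_surjective e.toMonoidHom e.surjective ⟨a, ha, rfl⟩
    · exact Subtype.ext hax)
  rw [key, show Cfsg.pResidual p (PH : Subgroup H) = ⊥ from Lib.Transfer.pResidual_eq_bot PH.2,
    Subgroup.map_bot, inf_bot_eq]

end Cfsg.Agent.S0081
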