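import Cfsg.Statements.S0082
import Cfsg.Agent.Lib.Transfer.PFrattini
import Mathlib.Tactic.LinearCombination
import Mathlib.RingTheory.PrincipalIdealDomain
import Mathlib.RingTheory.Int.Basic

set_option autoImplicit false
open Cfsg

namespace Cfsg.Agent.S0082

/-- With a cyclic Sylow p-subgroup, either there is a normal p-complement or the elements of order prime to p generate the whole group. -/
theorem result {G : Type*} [Group G] [Finite G] {p : ℕ} [Fact p.Prime] (P : Sylow p G) (hP : IsCyclic P) : Cfsg.HasNormalPComplement p G ∨ Cfsg.pResidual p G = ⊤ := by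
  by_cases hle : (P : Subgroup G) ≤ Cfsg.pResidual p G
  · exact Or.inr (by rw [← Lib.Transfer.sylow_sup_pResidual P, sup_eq_right.mpr hle])
  left
  rw [Lib.Transfer.hasNormalPComplement_iff_inf_eq_bot P]
  have key := Lib.Transfer.inf_pResidual_eq P (le_refl (P : Subgroup G)) (by
    refine le_trans ?_ (le_trans le_sup_left le_sup_left)
    rintro x ⟨hxP, hxK⟩
    refine ⟨⟨x, hxP⟩, ?_, rfl⟩
    by_contra hx
    apply hle
    haveI : IsCyclic (P : Subgroup G) := hP
    obtain ⟨g, hg⟩ := IsCyclic.exists_generator (α := (P : Subgroup G))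
    obtain ⟨n, hn⟩ := Subgroup.mem_zpowers_iff.mp (hg ⟨x, hxP⟩)
    have hpn : ¬ (p : ℤ) ∣ n := by
      rintro ⟨m, rfl⟩
      apply hx
      show (⟨x, hxP⟩ : (P : Subgroup G)) ∈ frattini (P : Subgroup G)
      rw [← hn, zpow_mul, zpow_natCast]
      exact zpow_mem (Lib.Transfer.pow_mem_frattini P.2 g) m
    intro y hy
    obtain ⟨j, hj⟩ := IsPGroup.iff_orderOf.mp P.2 g
    obtain ⟨l, hl⟩ := Subgroup.mem_zpowers_iff.mp (hg ⟨y, hy⟩)
    have hcop : IsCoprime n ((p : ℤ) ^ j) := by
      refine IsCoprime.pow_right (IsCoprime.symm ?_)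
      exact (Prime.coprime_iff_not_dvd (Nat.prime_iff_prime_int.mp (Fact.out : p.Prime))).mpr hpn
    obtain ⟨u, v, huv⟩ := hcop
    have h1 : (⟨x, hxP⟩ : (P : Subgroup G)) ^ (u * l) = ⟨y, hy⟩ := by
      rw [← hn, ← hl, ← zpow_mul, show n * (u * l) = l + (p : ℤ) ^ j * (-v * l) by
        linear_combination l * huv, zpow_add, zpow_mul g ((p : ℤ) ^ j),
        show ((p : ℤ) ^ j) = ((orderOf g : ℕ) : ℤ) by rw [hj]; push_cast; rfl, zpow_natCast,
        pow_orderOf_eq_one, one_zpow, mul_one]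
    have h2 : x ^ (u * l) = y := congrArg Subtype.val h1
    rw [← h2]
    exact zpow_mem (show x ∈ Cfsg.pResidual p G from hxK) _)
  rw [key, show Cfsg.pResidual p (P : Subgroup G) = ⊥ from Lib.Transfer.pResidual_eq_bot P.2,
    Subgroup.map_bot, inf_bot_eq]

end Cfsg.Agent.S0082
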