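import Cfsg.Statements.S0083
import Cfsg.Agent.Lib.Transfer.Frobenius

set_option autoImplicit false
open Cfsg

namespace Cfsg.Agent.S0083

/-- For an abelian Sylow p-subgroup P, a normal p-complement exists exactly when the normalizer of P is an internal direct product of P with some subgroup. -/
theorem result {G : Type*} [Group G] [Finite G] {p : ℕ} [Fact p.Prime] (P : Sylow p G) (hP : IsMulCommutative P) : Cfsg.HasNormalPComplement p G ↔ ∃ Q : Subgroup G, Q ≤ Subgroup.centralizer (P : Set G) ∧ Q ⊓ (P : Subgroup G) = ⊥ ∧ Q ⊔ (P : Subgroup G) = Subgroup.normalizer (P : Set G) := by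
  constructor
  · intro h
    have hcop := Lib.Transfer.hasNormalPComplement_iff_coprime.mp h
    have hbot := (Lib.Transfer.hasNormalPComplement_iff_inf_eq_bot P).mp h
    refine ⟨Cfsg.pResidual p G ⊓ Subgroup.normalizer (P : Set G), ?_, ?_, ?_⟩
    · rintro k ⟨hk, hkN⟩ x hx
      have h1 : k * x * k⁻¹ * x⁻¹ ∈ (P : Subgroup G) :=
        mul_mem ((Subgroup.mem_normalizer_iff.mp hkN x).mp hx) (inv_mem hx)
      have h2 : k * x * k⁻¹ * x⁻¹ ∈ Cfsg.pResidual p G := by
        rw [show k * x * k⁻¹ * x⁻¹ = k * (x * k⁻¹ * x⁻¹) by group]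
        exact mul_mem hk (Lib.Transfer.pResidual_normal.conj_mem _ (inv_mem hk) x)
      have h3 : k * x * k⁻¹ * x⁻¹ = 1 := by
        rw [← Subgroup.mem_bot, ← hbot]; exact ⟨h1, h2⟩
      rw [mul_inv_eq_one, mul_inv_eq_iff_eq_mul] at h3
      exact h3.symm
    · rw [eq_bot_iff, ← hbot]
      exact fun x hx => ⟨hx.2, hx.1.1⟩
    · refine le_antisymm (sup_le inf_le_right Subgroup.le_normalizer) ?_
      intro n hn
      obtain ⟨t, ht, k, hk, rfl⟩ := Subgroup.mem_sup_of_normal_right.mp
        ((Lib.Transfer.sylow_sup_pResidual P) ▸ Subgroup.mem_top n :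
          n ∈ (P : Subgroup G) ⊔ Cfsg.pResidual p G)
      refine mul_mem (Subgroup.mem_sup_right ht) (Subgroup.mem_sup_left ⟨hk, ?_⟩)
      exact (Subgroup.mul_mem_cancel_left _ (Subgroup.le_normalizer ht)).mp hn
  · rintro ⟨Q, hQ, -, hQP⟩
    refine Lib.Transfer.hasNormalPComplement_of_normalizer_le_centralizer P ?_
    refine hQP.ge.trans (sup_le hQ ?_)
    haveI := hP
    exact (P : Subgroup G).le_centralizer

end Cfsg.Agent.S0083
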