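import Cfsg.Statements.S0084
import Cfsg.Agent.Lib.Transfer.AbelianSylow

set_option autoImplicit false
open Cfsg

namespace Cfsg.Agent.S0084

/-- A group whose Sylow 2-subgroups are Klein four-groups and whose order is prime to 3 has a normal 2-complement. -/
theorem result {G : Type*} [Group G] [Finite G] (T : Sylow 2 G) (hT : IsKleinFour T) (h3 : ¬ 3 ∣ Nat.card G) : Cfsg.HasNormalPComplement 2 G := by
  refine Lib.Transfer.hasNormalPComplement_of_card T hT.isMulCommutative (k := 2)
    (by rw [show Nat.card (T : Subgroup G) = 4 from hT.card_four]; norm_num) ?_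
  intro q hq hq2 hqG i hi hdvd
  interval_cases i
  · exact h3 ((Nat.prime_dvd_prime_iff_eq hq Nat.prime_three).mp (by simpa using hdvd) ▸ hqG)
  · exact hq2 ((Nat.prime_dvd_prime_iff_eq hq Nat.prime_two).mp (by simpa using hdvd))

end Cfsg.Agent.S0084
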