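import Cfsg.Statements.S0087
import Cfsg.Agent.Lib.Coprime.SchurZassenhaus
import Cfsg.Agent.Lib.Coprime.Hall

set_option autoImplicit false
open Cfsg

namespace Cfsg.Agent.S0087

set_option linter.style.haveILetI false
open scoped Pointwise

/-- Two conjugate elements of an abelian Hall subgroup that is central in its normalizer are equal. -/
private theorem conj_eq_self.{u} : ∀ (n : ℕ) {G : Type u} [Group G] [Finite G] (H : Subgroup G),
    Nat.card G = n → Nat.Coprime (Nat.card H) H.index →
    Subgroup.normalizer (H : Set G) ≤ Subgroup.centralizer (H : Set G) →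
    ∀ x ∈ H, ∀ g : G, g * x * g⁻¹ ∈ H → g * x * g⁻¹ = x := by
  intro n
  induction n using Nat.strong_induction_on with
  | _ n ih =>
    intro G _ _ H hn hHall hN x hx g hgx
    set y := g * x * g⁻¹ with hy
    set X := Subgroup.centralizer ({y} : Set G) with hX
    have hHc : H ≤ Subgroup.centralizer (H : Set G) := Subgroup.le_normalizer.trans hN
    have hHX : H ≤ X := fun h hh => Subgroup.mem_centralizer_singleton_iff.mpr (hHc hgx h hh)
    rcases eq_or_ne X ⊤ with hXtop | hXne
    · have hcen : Commute g⁻¹ y := Subgroup.mem_centralizer_singleton_iff.mp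
        (hXtop.ge (Subgroup.mem_top g⁻¹))
      calc y = g⁻¹ * y * g := by rw [hcen.eq, inv_mul_cancel_right]
        _ = x := by rw [hy]; group
    have hlt : Nat.card X < n := hn ▸ lt_of_le_of_ne (Subgroup.card_le_card_group X)
      fun h => hXne (Subgroup.card_eq_iff_eq_top X |>.mp h)
    set H' := H.subgroupOf X with hH'
    have hcardH' : Nat.card H' = Nat.card H :=
      Nat.card_congr (Subgroup.subgroupOfEquivOfLe hHX).toEquiv
    have hHall' : Nat.Coprime (Nat.card H') H'.index := by
      rw [hcardH']
      exact hHall.coprime_dvd_right (Subgroup.relIndex_dvd_index_of_le hHX)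
    have hN' : Subgroup.normalizer (H' : Set X) ≤ Subgroup.centralizer (H' : Set X) := by
      rw [hH', ← Subgroup.subgroupOf_normalizer_eq hHX]
      intro u hu
      rw [Subgroup.mem_subgroupOf] at hu
      intro v hv
      exact Subtype.ext (hN hu _ hv)
    have hfus := ih _ hlt H' rfl hHall' hN'
    -- a normal complement in `X`
    haveI hH'c : IsMulCommutative H' :=
      ⟨⟨fun a b => Subtype.ext (Subtype.ext (hHc b.2 _ a.2))⟩⟩
    letI : CommGroup H' :=
      { (inferInstance : Group H') with mul_comm := fun a b => hH'c.is_comm.comm a b }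
    set τ := MonoidHom.transfer (MonoidHom.id H') with hτ
    have hτH : ∀ h : H', τ h = h ^ H'.index := by
      intro h
      rw [hτ, MonoidHom.transfer_eq_pow _ (h : X) fun k g₀ hk => by
        have h1 := hfus _ (pow_mem h.2 k) g₀⁻¹ (by rwa [inv_inv])
        rwa [inv_inv] at h1]
      exact Subtype.ext (by simp)
    have hcompl : Subgroup.IsComplement' τ.ker H' := by
      have hinj : ∀ h : H', τ h = 1 → h = 1 := fun h h0 => by
        rw [hτH] at h0
        exact (powCoprime hHall').injective (by simpa [powCoprime] using h0)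
      refine Subgroup.isComplement'_of_disjoint_and_mul_eq_univ ?_ ?_
      · rw [disjoint_iff, eq_bot_iff]
        rintro h ⟨hk, hh⟩
        rw [Subgroup.mem_bot, show h = ((⟨h, hh⟩ : H') : X) from rfl, hinj ⟨h, hh⟩ hk]
        rfl
      · rw [Set.eq_univ_iff_forall]
        intro u
        obtain ⟨h, hh⟩ := (powCoprime hHall').surjective (τ u)
        have hh' : h ^ H'.index = τ u := hh
        refine ⟨u * (h : X)⁻¹, ?_, h, h.2, by group⟩
        rw [SetLike.mem_coe, MonoidHom.mem_ker, map_mul, map_inv, hτH, hh', mul_inv_cancel]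
    -- the conjugate of `H` is another complement
    set K := (MulAut.conj g • H).subgroupOf X with hK
    have hgX : MulAut.conj g • H ≤ X := by
      intro w hw
      rw [Cfsg.Agent.Lib.Coprime.mem_conj_smul] at hw
      refine Subgroup.mem_centralizer_singleton_iff.mpr ?_
      have h1 : g⁻¹ * w * g * x = x * (g⁻¹ * w * g) := hHc hx _ hw
      calc w * y = g * (g⁻¹ * w * g * x) * g⁻¹ := by rw [hy]; group
        _ = y * w := by rw [h1, hy]; group
    have hKcard : Nat.card K = Nat.card H' := by
      rw [hK, Nat.card_congr (Subgroup.subgroupOfEquivOfLe hgX).toEquiv,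
        Cfsg.Agent.Lib.Coprime.card_conj_smul, hcardH']
    obtain ⟨c, -, hc⟩ := Cfsg.Agent.Lib.Coprime.exists_conj_eq_of_le_sup (N := τ.ker) (H := H') (K := K)
      Subgroup.le_normalizer_of_normal
      (by rw [← hcompl.index_eq_card, Nat.coprime_comm]; exact hHall')
      (Or.inr (Cfsg.Agent.Lib.Coprime.isSolvable_of_isMulCommutative H')) hKcard
      (by rw [hcompl.sup_eq_top]; exact le_top)
    have hconj : MulAut.conj (c : G) • H = MulAut.conj g • H := by
      have hle : MulAut.conj (c : G) • H ≤ MulAut.conj g • H := by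
        intro w hw
        rw [Cfsg.Agent.Lib.Coprime.mem_conj_smul] at hw
        have hwX : w ∈ X := by
          have h1 := mul_mem (mul_mem c.2 (hHX hw)) (inv_mem c.2)
          simpa [mul_assoc] using h1
        have h2 : (⟨w, hwX⟩ : X) ∈ MulAut.conj c • H' := by
          rw [Cfsg.Agent.Lib.Coprime.mem_conj_smul, hH', Subgroup.mem_subgroupOf]
          exact hw
        rw [hc, hK, Subgroup.mem_subgroupOf] at h2
        exact h2
      exact Cfsg.Agent.Lib.Coprime.eq_of_le_of_card_le hle
        (by rw [Cfsg.Agent.Lib.Coprime.card_conj_smul, Cfsg.Agent.Lib.Coprime.card_conj_smul])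
    have hnorm : (c : G)⁻¹ * g ∈ Subgroup.normalizer (H : Set G) :=
      Cfsg.Agent.Lib.Coprime.mem_normalizer_of_conj_smul_eq (by
        rw [Cfsg.Agent.Lib.Coprime.conj_mul_smul, ← hconj, ← Cfsg.Agent.Lib.Coprime.conj_mul_smul,
          inv_mul_cancel, Cfsg.Agent.Lib.Coprime.conj_one_smul])
    have hcy : (c : G) * y = y * c := Subgroup.mem_centralizer_singleton_iff.mp c.2
    have hfix := hN hnorm x hx
    calc y = (c : G)⁻¹ * (c * y) := by group
      _ = (c : G)⁻¹ * y * c := by rw [hcy]; group
      _ = ((c : G)⁻¹ * g) * x * ((c : G)⁻¹ * g)⁻¹ := by rw [hy]; group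
      _ = x := by rw [← hfix, mul_inv_cancel_right]

/-- A Hall subgroup that is central in its normalizer has a normal complement. -/
theorem result {G : Type*} [Group G] [Finite G] (H : Subgroup G) (hHall : Nat.Coprime (Nat.card H) H.index) (h : Subgroup.normalizer (H : Set G) ≤ Subgroup.centralizer (H : Set G)) : ∃ N : Subgroup G, N.Normal ∧ N.IsComplement' H := by
  haveI hHc : IsMulCommutative H :=
    ⟨⟨fun a b => Subtype.ext ((Subgroup.le_normalizer.trans h) b.2 a a.2)⟩⟩
  letI : CommGroup H := { (inferInstance : Group H) with mul_comm := fun a b => hHc.is_comm.comm a b }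
  set τ := MonoidHom.transfer (MonoidHom.id H) with hτ
  have hτH : ∀ x : H, τ x = x ^ H.index := by
    intro x
    rw [hτ, MonoidHom.transfer_eq_pow _ (x : G) fun k g₀ hk => by
      have h1 := conj_eq_self _ H rfl hHall h _ (pow_mem x.2 k) g₀⁻¹ (by rwa [inv_inv])
      rwa [inv_inv] at h1]
    exact Subtype.ext (by simp)
  refine ⟨τ.ker, inferInstance, Subgroup.isComplement'_of_disjoint_and_mul_eq_univ ?_ ?_⟩
  · rw [disjoint_iff, eq_bot_iff]
    rintro x ⟨hk, hx⟩
    have h0 : τ (((⟨x, hx⟩ : H) : G)) = 1 := hk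
    rw [hτH] at h0
    have : (⟨x, hx⟩ : H) = 1 := (powCoprime hHall).injective (by simpa [powCoprime] using h0)
    rw [Subgroup.mem_bot]
    exact congrArg Subtype.val this
  · rw [Set.eq_univ_iff_forall]
    intro u
    obtain ⟨x, hx⟩ := (powCoprime hHall).surjective (τ u)
    have hx' : x ^ H.index = τ u := hx
    refine ⟨u * (x : G)⁻¹, ?_, x, x.2, by group⟩
    rw [SetLike.mem_coe, MonoidHom.mem_ker, map_mul, map_inv, hτH, hx', mul_inv_cancel]

end Cfsg.Agent.S0087
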