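import Cfsg.Statements.S0089
import Cfsg.Agent.Lib.Transfer.Gruen

set_option autoImplicit false
open Cfsg

namespace Cfsg.Agent.S0089

/-- When all Sylow subgroups are abelian, the derived subgroup meets the centre trivially. -/
theorem result {G : Type*} [Group G] [Finite G] (h : ∀ p : ℕ, p.Prime → ∀ P : Sylow p G, IsMulCommutative P) : commutator G ⊓ Subgroup.center G = ⊥ := by
  rw [eq_bot_iff]
  rintro x ⟨hxG, hxZ⟩
  rw [Subgroup.mem_bot]
  by_contra hx
  obtain ⟨q, hq, hqd⟩ := Nat.exists_prime_and_dvd (mt orderOf_eq_one_iff.mp hx)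
  haveI : Fact q.Prime := ⟨hq⟩
  set y := x ^ (orderOf x / q) with hy
  have hord : orderOf y = q := by
    rw [hy]; exact orderOf_pow_orderOf_div (orderOf_pos x).ne' hqd
  have hyG : y ∈ commutator G := pow_mem hxG _
  have hyZ : y ∈ Subgroup.center G := pow_mem hxZ _
  let P : Sylow q G := default
  haveI : (Subgroup.zpowers y).Normal := ⟨fun a ha g => by
    have hac : a ∈ Subgroup.center G := (Subgroup.zpowers_le.mpr hyZ) ha
    rw [Subgroup.mem_center_iff.mp hac g, mul_inv_cancel_right]
    exact ha⟩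
  have hyP : y ∈ (P : Subgroup G) :=
    IsPGroup.le_sylow_of_normal (IsPGroup.of_card (n := 1) (by rw [Nat.card_zpowers, hord, pow_one]))
      P (Subgroup.mem_zpowers y)
  haveI := h q hq P
  have h0 := Lib.Transfer.abelian_hall_inf_commutator_inf_center (P : Subgroup G) P.card_coprime_index
  have hy1 : y = 1 := by rw [← Subgroup.mem_bot, ← h0]; exact ⟨⟨hyP, hyG⟩, hyZ⟩
  rw [hy1, orderOf_one] at hord
  exact hq.ne_one hord.symm

end Cfsg.Agent.S0089
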