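import Cfsg.Statements.S0092
import Cfsg.Agent.Lib.Transfer.Focal
import Cfsg.Agent.Lib.Transfer.CoprimeAbelian
import Cfsg.Agent.Lib.Coprime

set_option autoImplicit false
open Cfsg

namespace Cfsg.Agent.S0092

set_option linter.style.haveILetI false
open scoped Pointwise commutatorElement

/-- If the Sylow p-subgroups of O^p(G) are abelian then G splits over O^p(G). -/
theorem result {G : Type*} [Group G] [Finite G] {p : ℕ} [Fact p.Prime] (h : ∀ Q : Sylow p (Cfsg.pResidual p G), IsMulCommutative Q) : ∃ K : Subgroup G, K.IsComplement' (Cfsg.pResidual p G) := by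
  classical
  set K := Cfsg.pResidual p G with hK
  haveI hKn : K.Normal := by
    rw [hK, ← Subgroup.normalizer_eq_top_iff, eq_top_iff]
    intro g _
    rw [Subgroup.mem_normalizer_iff]
    have key : ∀ g x : G, x ∈ Cfsg.pResidual p G → g * x * g⁻¹ ∈ Cfsg.pResidual p G := by
      intro g x hx
      have h1 := Cfsg.Agent.Lib.Transfer.map_pResidual_le (p := p) (MulAut.conj g).toMonoidHom
      exact h1 ⟨x, hx, rfl⟩
    intro x
    refine ⟨key g x, fun hx => ?_⟩
    have := key g⁻¹ _ hx
    rwa [show g⁻¹ * (g * x * g⁻¹) * g⁻¹⁻¹ = x by group] at this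
  obtain ⟨Q⟩ : Nonempty (Sylow p K) := inferInstance
  haveI hQ := h Q
  set N₀ := Subgroup.normalizer ((Q : Subgroup K) : Set K) with hN₀
  -- `Q` lies in the derived group of its normalizer
  have hQd : (Q : Subgroup K) ≤ ⁅N₀, N₀⁆ := by
    have h1 := Cfsg.Agent.Lib.Transfer.inf_pResidual_le_focalSubgroup Q
    rw [Cfsg.Agent.Lib.Transfer.pResidual_pResidual_eq_top, inf_top_eq] at h1
    exact h1.trans (Cfsg.Agent.Lib.Transfer.focalSubgroup_le_commutator_of_controlsFusion
      Subgroup.le_normalizer (Cfsg.Agent.Lib.Transfer.controlsFusion_normalizer_of_abelian Q hQ))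
  -- a Schur-Zassenhaus complement `H` of `Q` in its normalizer
  have hco : Nat.Coprime (Nat.card ((Q : Subgroup K).subgroupOf N₀))
      ((Q : Subgroup K).subgroupOf N₀).index := by
    rw [Nat.card_congr (Subgroup.subgroupOfEquivOfLe Subgroup.le_normalizer).toEquiv]
    exact Q.card_coprime_index.coprime_dvd_right
      (Subgroup.relIndex_dvd_index_of_le Subgroup.le_normalizer)
  haveI : ((Q : Subgroup K).subgroupOf N₀).Normal := Subgroup.normal_in_normalizer
  obtain ⟨H₀, hH₀⟩ := Subgroup.exists_right_complement'_of_coprime hco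
  set H := H₀.map N₀.subtype with hH
  have hHN : H ≤ N₀ := Subgroup.map_subtype_le _
  have hN₀eq : N₀ = (Q : Subgroup K) ⊔ H := by
    have h1 := congrArg (Subgroup.map N₀.subtype) hH₀.sup_eq_top
    rw [Subgroup.map_sup, Subgroup.subgroupOf_map_subtype, inf_eq_left.mpr Subgroup.le_normalizer,
      ← MonoidHom.range_eq_map, Subgroup.range_subtype] at h1
    exact h1.symm
  have hHcard : Nat.card H = ((Q : Subgroup K).subgroupOf N₀).index := by
    rw [hH, Subgroup.card_map_of_injective (Subgroup.subtype_injective N₀)]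
    exact hH₀.symm.index_eq_card.symm
  have hcopHQ : (Nat.card H).Coprime (Nat.card (Q : Subgroup K)) := by
    rw [hHcard, Nat.coprime_comm]
    exact Q.card_coprime_index.coprime_dvd_right
      (Subgroup.relIndex_dvd_index_of_le Subgroup.le_normalizer)
  have hcopHp : (Nat.card H).Coprime p :=
    (Cfsg.Agent.Lib.Transfer.coprime_iff_not_dvd _).mpr fun hd =>
      Q.not_dvd_index ((hHcard ▸ hd).trans
        (Subgroup.relIndex_dvd_index_of_le Subgroup.le_normalizer))
  have hQH : (Q : Subgroup K) ⊓ H = ⊥ :=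
    Cfsg.Agent.Lib.Coprime.inf_eq_bot_of_coprime_card hcopHQ.symm
  have hfp : (Q : Subgroup K) ⊓ Subgroup.centralizer (H : Set K) = ⊥ := by
    have hle : ⁅N₀, N₀⁆ ≤ ⁅(Q : Subgroup K), H⁆ ⊔ H := by
      set D := ⁅(Q : Subgroup K), H⁆ ⊔ H with hD
      have hDQ : ⁅(Q : Subgroup K), H⁆ ≤ (Q : Subgroup K) :=
        Subgroup.le_normalizer_iff_commutator_le_left.mp hHN
      have hQc : ∀ q ∈ (Q : Subgroup K), ∀ d ∈ D, q * d * q⁻¹ ∈ D := by
        have hQD : (Q : Subgroup K) ≤ Subgroup.normalizer (D : Set K) := by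
          intro q hq
          rw [Subgroup.mem_normalizer_iff]
          have key : ∀ q ∈ (Q : Subgroup K), ∀ d ∈ D, q * d * q⁻¹ ∈ D := by
            intro q hq d hd
            rw [hD, Subgroup.sup_eq_closure] at hd
            induction hd using Subgroup.closure_induction with
            | mem d hd =>
              rcases hd with hd | hd
              · have hc : q * d = d * q := congrArg Subtype.val
                  (hQ.is_comm.comm (⟨q, hq⟩ : (Q : Subgroup K)) ⟨d, hDQ hd⟩)
                rw [hc, mul_inv_cancel_right]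
                exact Subgroup.mem_sup_left hd
              · rw [show q * d * q⁻¹ = ⁅q, d⁆ * d by rw [commutatorElement_def]; group]
                exact Subgroup.mul_mem_sup (Subgroup.commutator_mem_commutator hq hd) hd
            | one => simp
            | mul a b _ _ ha hb =>
              rw [show q * (a * b) * q⁻¹ = (q * a * q⁻¹) * (q * b * q⁻¹) by group]
              exact mul_mem ha hb
            | inv a _ ha =>
              rw [show q * a⁻¹ * q⁻¹ = (q * a * q⁻¹)⁻¹ by group]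
              exact inv_mem ha
          intro d
          refine ⟨key q hq d, fun hd => ?_⟩
          have := key q⁻¹ (inv_mem hq) _ hd
          rwa [show q⁻¹ * (q * d * q⁻¹) * q⁻¹⁻¹ = d by group] at this
        exact fun q hq d hd => (Subgroup.mem_normalizer_iff.mp (hQD hq) d).mp hd
      have hDn : N₀ ≤ Subgroup.normalizer (D : Set K) := by
        rw [hN₀eq]
        refine sup_le (fun q hq => ?_) (le_sup_right.trans Subgroup.le_normalizer)
        rw [Subgroup.mem_normalizer_iff]
        intro d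
        refine ⟨hQc q hq d, fun hd => ?_⟩
        have := hQc q⁻¹ (inv_mem hq) _ hd
        rwa [show q⁻¹ * (q * d * q⁻¹) * q⁻¹⁻¹ = d by group] at this
      rw [Subgroup.commutator_le]
      intro a ha b hb
      rw [hN₀eq] at ha hb
      obtain ⟨q₁, hq₁, h₁, hh₁, rfl⟩ := Cfsg.Agent.Lib.Coprime.exists_mul_of_mem_sup hHN ha
      obtain ⟨q₂, hq₂, h₂, hh₂, rfl⟩ := Cfsg.Agent.Lib.Coprime.exists_mul_of_mem_sup hHN hb
      have hcq : q₁ * q₂ = q₂ * q₁ := congrArg Subtype.val
        (hQ.is_comm.comm (⟨q₁, hq₁⟩ : (Q : Subgroup K)) ⟨q₂, hq₂⟩)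
      have e : ⁅q₁ * h₁, q₂ * h₂⁆ = q₁ * (⁅h₁, q₂⁆ * (q₂ * ⁅h₁, h₂⁆ * q₂⁻¹)) * q₁⁻¹ *
          ⁅q₁, q₂ * h₂⁆ := by
        simp only [commutatorElement_def]; group
      rw [e]
      have hh12 : ⁅h₁, h₂⁆ ∈ D := Subgroup.mem_sup_right (by
        rw [commutatorElement_def]
        exact mul_mem (mul_mem (mul_mem hh₁ hh₂) (inv_mem hh₁)) (inv_mem hh₂))
      have hq12 : ⁅h₁, q₂⁆ ∈ D := Subgroup.mem_sup_left (by
        rw [← commutatorElement_inv]
        exact inv_mem (Subgroup.commutator_mem_commutator hq₂ hh₁))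
      refine mul_mem (hQc q₁ hq₁ _ (mul_mem hq12 (hQc q₂ hq₂ _ hh12))) ?_
      have e2 : ⁅q₁, q₂ * h₂⁆ = q₂ * ⁅q₁, h₂⁆ * q₂⁻¹ := by
        simp only [commutatorElement_def]
        rw [show q₁ * (q₂ * h₂) = q₂ * (q₁ * h₂) by rw [← mul_assoc, hcq, mul_assoc]]
        group
      rw [e2]
      exact hQc q₂ hq₂ _ (Subgroup.mem_sup_left (Subgroup.commutator_mem_commutator hq₁ hh₂))
    have hQle : (Q : Subgroup K) ≤ ⁅(Q : Subgroup K), H⁆ := by
      intro q hq
      have hDQ : ⁅(Q : Subgroup K), H⁆ ≤ (Q : Subgroup K) :=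
        Subgroup.le_normalizer_iff_commutator_le_left.mp hHN
      have hHD : H ≤ Subgroup.normalizer ((⁅(Q : Subgroup K), H⁆ : Subgroup K) : Set K) :=
        Subgroup.normalizer_commutator_ge_right _ _
      obtain ⟨d, hd, u, hu, rfl⟩ := Cfsg.Agent.Lib.Coprime.exists_mul_of_mem_sup hHD (hle (hQd hq))
      have hu' : u ∈ (Q : Subgroup K) ⊓ H := Subgroup.mem_inf.mpr ⟨by simpa using mul_mem (inv_mem (hDQ hd)) hq, hu⟩
      rw [hQH, Subgroup.mem_bot] at hu'
      rwa [hu', mul_one]
    rw [eq_bot_iff, ← Cfsg.Agent.Lib.Transfer.commutator_inf_centralizer_eq_bot hQ hHN hcopHQ]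
    exact inf_le_inf_right _ hQle
  -- pass to `G`
  set QG := (Q : Subgroup K).map K.subtype with hQG
  set HG := H.map K.subtype with hHG
  set M := Subgroup.normalizer (QG : Set G) ⊓ Subgroup.normalizer (HG : Set G) with hM
  have hHM : HG ≤ M := le_inf (fun x hx => by
      obtain ⟨y, hy, rfl⟩ := hx
      exact Subgroup.le_normalizer_map K.subtype ⟨y, hHN hy, rfl⟩) Subgroup.le_normalizer
  have hMK : M ⊓ K = HG := by
    refine le_antisymm ?_ (le_inf hHM (Subgroup.map_subtype_le _))
    rintro x ⟨hxM, hxK⟩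
    set y : K := ⟨x, hxK⟩ with hy
    have hyN : y ∈ N₀ := by
      rw [hN₀, Subgroup.mem_normalizer_iff]
      intro z
      have h1 : K.subtype z ∈ QG ↔ K.subtype (y * z * y⁻¹) ∈ QG :=
        Subgroup.mem_normalizer_iff.mp hxM.1 z
      rw [hQG, Subgroup.mem_map_iff_mem K.subtype_injective,
        Subgroup.mem_map_iff_mem K.subtype_injective] at h1
      exact h1
    rw [hN₀eq] at hyN
    obtain ⟨q, hq, u, hu, hqu⟩ := Cfsg.Agent.Lib.Coprime.exists_mul_of_mem_sup hHN hyN
    have hyH : y ∈ Subgroup.normalizer (H : Set K) := by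
      rw [Subgroup.mem_normalizer_iff]
      intro z
      have h1 : K.subtype z ∈ HG ↔ K.subtype (y * z * y⁻¹) ∈ HG :=
        Subgroup.mem_normalizer_iff.mp hxM.2 z
      rw [hHG, Subgroup.mem_map_iff_mem K.subtype_injective,
        Subgroup.mem_map_iff_mem K.subtype_injective] at h1
      exact h1
    have hqH : q ∈ Subgroup.normalizer (H : Set K) := by
      have h1 : q = y * u⁻¹ := by rw [hqu]; group
      rw [h1]; exact mul_mem hyH (inv_mem (Subgroup.le_normalizer hu))
    have hqc : q ∈ (Q : Subgroup K) ⊓ Subgroup.centralizer (H : Set K) := by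
      refine ⟨hq, fun v hv => ?_⟩
      have h1 : ⁅v, q⁆ ∈ (Q : Subgroup K) ⊓ H := by
        refine Subgroup.mem_inf.mpr ⟨?_, ?_⟩
        · rw [commutatorElement_def]
          exact mul_mem ((Subgroup.mem_normalizer_iff.mp (hHN hv) q).mp hq) (inv_mem hq)
        · rw [commutatorElement_def, show v * q * v⁻¹ * q⁻¹ = v * (q * v⁻¹ * q⁻¹) by group]
          exact mul_mem hv ((Subgroup.mem_normalizer_iff.mp hqH v⁻¹).mp (inv_mem hv))
      rw [hQH, Subgroup.mem_bot] at h1
      exact commutatorElement_eq_one_iff_mul_comm.mp h1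
    rw [hfp, Subgroup.mem_bot] at hqc
    refine ⟨u, hu, ?_⟩
    have : y = u := by rw [hqu, hqc, one_mul]
    rw [← this]; rfl
  have hMsup : K ⊔ M = ⊤ := by
    rw [eq_top_iff]
    intro g _
    have hg : g ∈ Subgroup.normalizer (QG : Set G) ⊔ K := by
      rw [hQG, Sylow.normalizer_sup_eq_top Q]; trivial
    rw [sup_comm] at hg
    obtain ⟨k, hk, n, hn, rfl⟩ := Cfsg.Agent.Lib.Coprime.exists_mul_of_mem_sup
      (Subgroup.le_normalizer_of_normal) hg
    refine mul_mem (Subgroup.mem_sup_left hk) ?_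
    -- Schur-Zassenhaus conjugacy in `N_K(Q)`
    set NG := N₀.map K.subtype with hNG
    have hNGeq : NG = QG ⊔ HG := by rw [hNG, hN₀eq, Subgroup.map_sup]
    have hHGQ : HG ≤ Subgroup.normalizer (QG : Set G) := hHM.trans inf_le_left
    have hcopG : (Nat.card QG).Coprime (Nat.card HG) := by
      rw [hQG, hHG, Subgroup.card_map_of_injective (Subgroup.subtype_injective K),
        Subgroup.card_map_of_injective (Subgroup.subtype_injective K)]
      exact hcopHQ.symm
    have hsolvQ : Group.IsSolvable QG := by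
      haveI : IsMulCommutative QG := Subgroup.map_isMulCommutative _ _
      exact Cfsg.Agent.Lib.Coprime.isSolvable_of_isMulCommutative QG
    have hle : MulAut.conj n • HG ≤ QG ⊔ HG := by
      intro w hw
      rw [Cfsg.Agent.Lib.Coprime.mem_conj_smul] at hw
      rw [← hNGeq]
      have hwK : w ∈ K := by
        have h1 := hKn.conj_mem _ (Subgroup.map_subtype_le _ hw) n
        simpa [mul_assoc] using h1
      refine ⟨⟨w, hwK⟩, ?_, rfl⟩
      show (⟨w, hwK⟩ : K) ∈ N₀
      rw [hN₀, Subgroup.mem_normalizer_iff]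
      have hwN : w ∈ Subgroup.normalizer (QG : Set G) := by
        have h1 := mul_mem (mul_mem hn (hHGQ hw)) (inv_mem hn)
        simpa [mul_assoc] using h1
      intro z
      have h1 : K.subtype z ∈ QG ↔ K.subtype (⟨w, hwK⟩ * z * ⟨w, hwK⟩⁻¹) ∈ QG :=
        Subgroup.mem_normalizer_iff.mp hwN z
      rw [hQG, Subgroup.mem_map_iff_mem K.subtype_injective,
        Subgroup.mem_map_iff_mem K.subtype_injective] at h1
      exact h1
    obtain ⟨q, hq, hqn⟩ := Cfsg.Agent.Lib.Coprime.exists_conj_eq_of_le_sup hHGQ hcopG (Or.inl hsolvQ)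
      (Cfsg.Agent.Lib.Coprime.card_conj_smul n HG) hle
    have hm : q⁻¹ * n ∈ M := by
      refine Subgroup.mem_inf.mpr ⟨mul_mem (inv_mem (Subgroup.le_normalizer hq)) hn,
        Cfsg.Agent.Lib.Coprime.mem_normalizer_of_conj_smul_eq ?_⟩
      rw [Cfsg.Agent.Lib.Coprime.conj_mul_smul, ← hqn, ← Cfsg.Agent.Lib.Coprime.conj_mul_smul,
        inv_mul_cancel, Cfsg.Agent.Lib.Coprime.conj_one_smul]
    have : n = q * (q⁻¹ * n) := by group
    rw [this]
    exact Subgroup.mul_mem_sup (Subgroup.map_subtype_le _ hq) hm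
  -- a `p`-complement inside `M`
  set π := (QuotientGroup.mk' K).comp M.subtype with hπ
  have hker : π.ker = K.subgroupOf M := by
    ext x; simp [hπ, Subgroup.mem_subgroupOf]
  have hπs : Function.Surjective π := by
    intro x
    obtain ⟨g, rfl⟩ := QuotientGroup.mk'_surjective K x
    obtain ⟨k, hk, m, hm, rfl⟩ := Subgroup.mem_sup_of_normal_left.mp
      (hMsup.ge (Subgroup.mem_top g))
    refine ⟨⟨m, hm⟩, ?_⟩
    rw [map_mul, show QuotientGroup.mk' K k = 1 from (QuotientGroup.eq_one_iff k).mpr hk, one_mul]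
    rfl
  have hKMcard : Nat.card (K.subgroupOf M) = Nat.card H := by
    rw [Nat.card_congr ((K.subgroupOf M).equivMapOfInjective M.subtype (Subgroup.subtype_injective M)).toEquiv,
      Subgroup.subgroupOf_map_subtype, inf_comm, hMK, hHG,
      Subgroup.card_map_of_injective (Subgroup.subtype_injective K)]
  have hKMidx : (K.subgroupOf M).index = Nat.card (G ⧸ K) := by
    rw [← hker, Subgroup.index_ker, MonoidHom.range_eq_top.mpr hπs, Subgroup.card_top]
  obtain ⟨e, he⟩ := IsPGroup.iff_card.mp (Cfsg.Agent.Lib.Transfer.isPGroup_quotient_pResidual (p := p) (G := G))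
  have hcoM : Nat.Coprime (Nat.card (K.subgroupOf M)) (K.subgroupOf M).index := by
    rw [hKMcard, hKMidx, show Nat.card (G ⧸ K) = p ^ e from he]
    exact hcopHp.pow_right e
  obtain ⟨P₀, hP₀⟩ := Subgroup.exists_right_complement'_of_coprime hcoM
  refine ⟨P₀.map M.subtype, Subgroup.isComplement'_of_disjoint_and_mul_eq_univ ?_ ?_⟩
  · rw [disjoint_iff, eq_bot_iff]
    rintro x ⟨⟨m, hm, rfl⟩, hxK⟩
    have : m ∈ (K.subgroupOf M) ⊓ P₀ := ⟨hxK, hm⟩
    rw [disjoint_iff.mp hP₀.disjoint, Subgroup.mem_bot] at this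
    rw [Subgroup.mem_bot, this, map_one]
  · rw [Set.eq_univ_iff_forall]
    intro g
    obtain ⟨m, hm⟩ := hπs (QuotientGroup.mk' K g)
    have hm' : m ∈ (K.subgroupOf M) ⊔ P₀ := hP₀.sup_eq_top.ge (Subgroup.mem_top m)
    obtain ⟨a, ha, b, hb, rfl⟩ := Subgroup.mem_sup_of_normal_left.mp hm'
    refine ⟨(b : G), ⟨b, hb, rfl⟩, (b : G)⁻¹ * g, ?_, by group⟩
    rw [SetLike.mem_coe, ← QuotientGroup.eq]
    have h1 : π a = 1 := by rw [← MonoidHom.mem_ker, hker]; exact ha
    rw [map_mul, h1, one_mul] at hm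
    exact hm

end Cfsg.Agent.S0092
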