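import Cfsg.Statements.S0093
import Cfsg.Agent.Lib.PLocal.PGroupBasic
import Cfsg.Agent.Lib.LocalEven.Subnormal

set_option autoImplicit false
open Cfsg

namespace Cfsg.Agent.S0093

set_option linter.style.haveILetI false
open scoped commutatorElement

/-- Every finite p-group has a critical subgroup: a characteristic subgroup H whose Frattini subgroup and whose commutator with the whole group lie in the centre of H, and whose centralizer is contained in H. -/
theorem result {P : Type*} [Group P] [Finite P] {p : ℕ} [Fact p.Prime] (hP : IsPGroup p P) : ∃ H : Subgroup P, H.Characteristic ∧ (frattini H).map H.subtype ≤ Subgroup.centralizer (H : Set P) ∧ ⁅H, (⊤ : Subgroup P)⁆ ≤ H ⊓ Subgroup.centralizer (H : Set P) ∧ Subgroup.centralizer (H : Set P) ≤ H := by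
  classical
  obtain ⟨A, hA⟩ := Set.Finite.exists_maximal
    (s := {A : Subgroup P | A.Characteristic ∧ IsMulCommutative A}) (Set.toFinite _)
    ⟨⊥, inferInstance, inferInstance⟩
  obtain ⟨hAc, hAab⟩ := hA.prop
  haveI := hAc
  set π := QuotientGroup.mk' A with hπ
  -- elements of `C(A)` that are central of exponent `p` modulo `A`
  let S : Set P := {x | x ∈ Subgroup.centralizer (A : Set P) ∧ x ^ p ∈ A ∧ ∀ g : P, ⁅x, g⁆ ∈ A}
  have hScen : ∀ x, x ∈ S ↔ x ∈ Subgroup.centralizer (A : Set P) ∧ π x ^ p = 1 ∧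
      π x ∈ Subgroup.center (P ⧸ A) := by
    intro x
    refine and_congr Iff.rfl (and_congr ?_ ?_)
    · rw [← map_pow]; exact (QuotientGroup.eq_one_iff _).symm
    · rw [Subgroup.mem_center_iff]
      constructor
      · intro h q
        obtain ⟨g, rfl⟩ := QuotientGroup.mk'_surjective A q
        have h1 : π ⁅x, g⁆ = 1 := (QuotientGroup.eq_one_iff _).mpr (h g)
        rw [map_commutatorElement, commutatorElement_eq_one_iff_mul_comm] at h1
        exact h1.symm
      · intro h g
        refine (QuotientGroup.eq_one_iff _).mp ?_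
        show π ⁅x, g⁆ = 1
        rw [map_commutatorElement, commutatorElement_eq_one_iff_mul_comm]
        exact (h (π g)).symm
  let H : Subgroup P :=
    { carrier := S
      one_mem' := (hScen 1).mpr ⟨one_mem _, by simp, by simp⟩
      mul_mem' := by
        intro x y hx hy
        rw [hScen] at hx hy ⊢
        refine ⟨mul_mem hx.1 hy.1, ?_, by rw [map_mul]; exact mul_mem hx.2.2 hy.2.2⟩
        rw [map_mul, (show Commute (π x) (π y) from (Subgroup.mem_center_iff.mp hy.2.2 (π x))).mul_pow,
          hx.2.1, hy.2.1, one_mul]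
      inv_mem' := by
        intro x hx
        rw [hScen] at hx ⊢
        exact ⟨inv_mem hx.1, by rw [map_inv, inv_pow, hx.2.1, inv_one],
          by rw [map_inv]; exact inv_mem hx.2.2⟩ }
  have hmemH : ∀ x, x ∈ H ↔ x ∈ Subgroup.centralizer (A : Set P) ∧ x ^ p ∈ A ∧ ∀ g : P, ⁅x, g⁆ ∈ A :=
    fun x => Iff.rfl
  have hmapA : ∀ φ : P ≃* P, ∀ a ∈ A, φ a ∈ A := by
    intro φ a ha
    have h1 := Subgroup.characteristic_iff_map_le.mp hAc φ
    exact h1 ⟨a, ha, rfl⟩
  have hHchar : H.Characteristic := by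
    rw [Subgroup.characteristic_iff_map_le]
    rintro φ _ ⟨x, hx, rfl⟩
    rw [SetLike.mem_coe, hmemH] at hx
    show φ x ∈ H
    refine (hmemH _).mpr ⟨?_, by rw [← map_pow]; exact hmapA φ _ hx.2.1, fun g => ?_⟩
    · intro a ha
      have h1 := congrArg φ (hx.1 (φ.symm a) (hmapA φ.symm a ha))
      simpa using h1
    · have h1 := hmapA φ _ (hx.2.2 (φ.symm g))
      rw [map_commutatorElement, MulEquiv.apply_symm_apply] at h1
      exact h1
  haveI := hHchar
  have hAH : A ≤ H := fun a ha => (hmemH a).mpr ⟨fun b hb => congrArg Subtype.val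
      (hAab.is_comm.comm ⟨b, hb⟩ ⟨a, ha⟩), pow_mem ha _, fun g => by
      rw [commutatorElement_def, mul_assoc a g, mul_assoc a]
      exact mul_mem ha (Subgroup.Normal.conj_mem inferInstance _ (inv_mem ha) g)⟩
  -- the centre of `H` is `A`
  have hZ : H ⊓ Subgroup.centralizer (H : Set P) = A := by
    refine le_antisymm ?_ (le_inf hAH fun a ha h hh => (((hmemH h).mp hh).1 a ha).symm)
    have hZc : (H ⊓ Subgroup.centralizer (H : Set P)).Characteristic := by
      rw [Subgroup.characteristic_iff_map_le]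
      rintro φ _ ⟨x, ⟨hx1, hx2⟩, rfl⟩
      refine ⟨Subgroup.characteristic_iff_map_le.mp hHchar φ ⟨x, hx1, rfl⟩, fun h hh => ?_⟩
      have h1 := congrArg φ (hx2 (φ.symm h)
        (Subgroup.characteristic_iff_map_le.mp hHchar φ.symm ⟨h, hh, rfl⟩))
      simpa using h1
    have hZab : IsMulCommutative ↥(H ⊓ Subgroup.centralizer (H : Set P)) :=
      ⟨⟨fun a b => Subtype.ext (b.2.2 a a.2.1)⟩⟩
    exact hA.le_of_ge ⟨hZc, hZab⟩
      (le_inf hAH fun a ha h hh => (((hmemH h).mp hh).1 a ha).symm)
  refine ⟨H, hHchar, ?_, ?_, ?_⟩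
  · have hle : frattini H ≤ A.subgroupOf H := by
      refine Cfsg.Agent.Lib.LocalEven.frattini_le_of_quotient_elementary (p := p) ?_ ?_
      · rw [commutator_def, Subgroup.commutator_le]
        intro x _ y _
        rw [Subgroup.mem_subgroupOf]
        exact ((hmemH x).mp x.2).2.2 y
      · intro x
        rw [Subgroup.mem_subgroupOf]
        exact ((hmemH x).mp x.2).2.1
    refine (Subgroup.map_mono hle).trans ?_
    rw [Subgroup.subgroupOf_map_subtype, inf_eq_left.mpr hAH, ← hZ]
    exact inf_le_right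
  · rw [hZ, Subgroup.commutator_le]
    intro x hx g _
    exact ((hmemH x).mp hx).2.2 g
  · by_contra hne
    set Q := Subgroup.centralizer (H : Set P) with hQ
    haveI hQn : Q.Normal := inferInstance
    haveI : (Q.map π).Normal := Subgroup.Normal.map inferInstance _ (QuotientGroup.mk'_surjective A)
    have hbot : Q.map π ≠ ⊥ := fun h => hne (by
      rw [Subgroup.map_eq_bot_iff, QuotientGroup.ker_mk'] at h; exact h.trans hAH)
    obtain ⟨z, ⟨x, hx, rfl⟩, hzo, hzc⟩ :=
      Cfsg.Agent.Lib.PLocal.exists_central_prime_mem (hP.to_quotient A) hbot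
    have hxH : x ∈ H := by
      show x ∈ S
      rw [hScen]
      exact ⟨fun a ha => hx a (hAH ha), orderOf_dvd_iff_pow_eq_one.mp (by rw [hzo]), hzc⟩
    have hxA : x ∈ A := hZ ▸ (⟨hxH, hx⟩ : x ∈ H ⊓ Subgroup.centralizer (H : Set P))
    rw [show π x = 1 from (QuotientGroup.eq_one_iff x).mpr hxA, orderOf_one] at hzo
    exact (Fact.out (p := p.Prime)).one_lt.ne hzo

end Cfsg.Agent.S0093
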