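import Cfsg.Statements.S0094
import Cfsg.Agent.Lib.Transfer.PFrattini

set_option autoImplicit false
open Cfsg

namespace Cfsg.Agent.S0094

open scoped commutatorElement in

/-- In a special p-group every central element has order dividing p. -/
theorem result {P : Type*} [Group P] [Finite P] {p : ℕ} [Fact p.Prime] (h : Cfsg.IsSpecial p P) (z : P) (hz : z ∈ Subgroup.center P) : z ^ p = 1 := by
  obtain ⟨hP, hF, hC⟩ := h
  rw [← hC] at hz
  rw [commutator_eq_closure] at hz
  induction hz using Subgroup.closure_induction with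
  | mem g hg =>
    obtain ⟨a, b, rfl⟩ := hg
    have hab : ⁅a, b⁆ ∈ Subgroup.center P :=
      hC ▸ Subgroup.commutator_mem_commutator (Subgroup.mem_top a) (Subgroup.mem_top b)
    have key : ∀ n : ℕ, ⁅a ^ n, b⁆ = ⁅a, b⁆ ^ n := by
      intro n
      induction n with
      | zero => simp
      | succ n ih =>
        have e : ⁅a * a ^ n, b⁆ = a * ⁅a ^ n, b⁆ * a⁻¹ * ⁅a, b⁆ := by
          simp only [commutatorElement_def]; group
        rw [pow_succ', e, ih, Subgroup.mem_center_iff.mp (pow_mem hab n) a, mul_inv_cancel_right,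
          pow_succ]
    rw [← key p, commutatorElement_eq_one_iff_mul_comm]
    have hap : a ^ p ∈ frattini P := Cfsg.Agent.Lib.Transfer.pow_mem_frattini hP a
    rw [hF] at hap
    exact (Subgroup.mem_center_iff.mp hap b).symm
  | one => simp
  | mul a b ha hb iha ihb =>
    have hac : a ∈ Subgroup.center P := by rw [← hC, commutator_eq_closure]; exact ha
    rw [(Subgroup.mem_center_iff.mp hac b).symm |> Commute.mul_pow, iha, ihb, one_mul]
  | inv a _ iha => rw [inv_pow, iha, inv_one]

end Cfsg.Agent.S0094
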