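import Cfsg.Statements.S0095
import Cfsg.Agent.Lib.Transfer.Basic
import Mathlib

set_option autoImplicit false
open Cfsg

namespace Cfsg.Agent.S0095

set_option linter.style.haveILetI false
open scoped commutatorElement

private theorem card_eq_sq {G : Type*} [Group G] [Finite G] {p : ℕ} [Fact p.Prime] (Z : Subgroup G)
    (hZ : Nat.card Z = p) (hZc : Z ≤ Subgroup.center G) (hcomm : ∀ a b : G, ⁅a, b⁆ ∈ Z) :
    ∀ (n : ℕ) (H : Subgroup G), Nat.card H = n → Z ≤ H →
      H ⊓ Subgroup.centralizer (H : Set G) ≤ Z → ∃ m : ℕ, Nat.card H = p ^ (2 * m + 1) := by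
  classical
  intro n
  induction n using Nat.strong_induction_on with
  | _ n ih =>
    intro H hn hZH hc
    rcases hZH.lt_or_eq with hlt | heq
    swap
    · exact ⟨0, by rw [← heq, hZ, mul_zero, zero_add, pow_one]⟩
    obtain ⟨x, hxH, hxZ⟩ := SetLike.exists_of_lt hlt
    obtain ⟨y, hyH, hxy⟩ : ∃ y ∈ H, y * x ≠ x * y := by
      by_contra! h
      exact hxZ (hc (Subgroup.mem_inf.mpr ⟨hxH, fun y hy => h y hy⟩))
    set z := ⁅x, y⁆ with hz
    have hz1 : z ≠ 1 := fun h => hxy (commutatorElement_eq_one_iff_mul_comm.mp h).symm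
    have hzo : orderOf z = p := by
      rcases (Nat.dvd_prime (Fact.out (p := p.Prime))).mp
        (hZ ▸ (Subgroup.orderOf_mk z (hcomm x y) ▸ orderOf_dvd_natCard (⟨z, hcomm x y⟩ : Z))) with h | h
      · exact absurd (orderOf_eq_one_iff.mp h) hz1
      · exact h
    have hzgen : ∀ u ∈ Z, ∃ i < p, z ^ i = u := by
      intro u hu
      have hle : Subgroup.zpowers z = Z := Subgroup.eq_of_le_of_card_ge
        (Subgroup.zpowers_le.mpr (hcomm x y)) (by rw [Nat.card_zpowers, hzo, hZ])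
      rw [← hle] at hu
      obtain ⟨i, hi, hiu⟩ := (mem_zpowers_iff_mem_range_orderOf.mp hu) |> Finset.mem_image.mp
      exact ⟨i, by simpa [hzo] using hi, hiu⟩
    have hzc : ∀ g : G, Commute z g := fun g => (Subgroup.mem_center_iff.mp (hZc (hcomm x y)) g).symm
    have hcc : ∀ a b g : G, Commute ⁅a, b⁆ g := fun a b g =>
      (Subgroup.mem_center_iff.mp (hZc (hcomm a b)) g).symm
    have hmul : ∀ a b c : G, ⁅a, b * c⁆ = ⁅a, b⁆ * ⁅a, c⁆ := by
      intro a b c
      have h1 : ⁅a, b * c⁆ = ⁅a, b⁆ * (b * ⁅a, c⁆ * b⁻¹) := by simp [commutatorElement_def, mul_assoc]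
      rw [h1, (hcc a c b).symm.eq, mul_inv_cancel_right]
    let f : G → G →* G := fun a => MonoidHom.mk' (fun b => ⁅a, b⁆) (hmul a)
    set H₁ := H ⊓ Subgroup.centralizer {x} ⊓ Subgroup.centralizer {y} with hH₁
    have hH₁H : H₁ ≤ H := inf_le_left.trans inf_le_left
    have hmem : ∀ h, h ∈ H₁ ↔ h ∈ H ∧ ⁅x, h⁆ = 1 ∧ ⁅y, h⁆ = 1 := fun h => by
      simp only [hH₁, Subgroup.mem_inf, Subgroup.mem_centralizer_singleton_iff, and_assoc,
        commutatorElement_eq_one_iff_mul_comm, eq_comm]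
    have hZH₁ : Z ≤ H₁ := fun u hu => (hmem u).mpr ⟨hZH hu,
      commutatorElement_eq_one_iff_mul_comm.mpr (Subgroup.mem_center_iff.mp (hZc hu) x),
      commutatorElement_eq_one_iff_mul_comm.mpr (Subgroup.mem_center_iff.mp (hZc hu) y)⟩
    have hxy' : ⁅y, x⁆ = z⁻¹ := (commutatorElement_inv x y).symm
    have hvals : ∀ h : G, ∀ i j : ℕ, ⁅x, h * x ^ i * y ^ j⁆ = ⁅x, h⁆ * z ^ j ∧
        ⁅y, h * x ^ i * y ^ j⁆ = ⁅y, h⁆ * z⁻¹ ^ i := by
      intro h i j
      constructor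
      · show f x (h * x ^ i * y ^ j) = _
        rw [map_mul, map_mul, map_pow, map_pow]
        show ⁅x, h⁆ * ⁅x, x⁆ ^ i * z ^ j = _
        rw [commutatorElement_self, one_pow, mul_one]
      · show f y (h * x ^ i * y ^ j) = _
        rw [map_mul, map_mul, map_pow, map_pow]
        show ⁅y, h⁆ * ⁅y, x⁆ ^ i * ⁅y, y⁆ ^ j = _
        rw [commutatorElement_self, one_pow, mul_one, hxy']
    let Φ : H₁ × Fin p × Fin p → H := fun t =>
      ⟨(t.1 : G) * x ^ (t.2.1 : ℕ) * y ^ (t.2.2 : ℕ),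
        mul_mem (mul_mem (hH₁H t.1.2) (pow_mem hxH _)) (pow_mem hyH _)⟩
    have hinj : Function.Injective Φ := by
      rintro ⟨h, i, j⟩ ⟨h', i', j'⟩ he
      have he' : (h : G) * x ^ (i : ℕ) * y ^ (j : ℕ) = h' * x ^ (i' : ℕ) * y ^ (j' : ℕ) :=
        congrArg Subtype.val he
      have h1 := congrArg (fun g => ⁅x, g⁆) he'
      have h2 := congrArg (fun g => ⁅y, g⁆) he'
      simp only [(hvals _ _ _).1, (hvals _ _ _).2, ((hmem _).mp h.2).2.1, ((hmem _).mp h'.2).2.1,
        ((hmem _).mp h.2).2.2, ((hmem _).mp h'.2).2.2, one_mul] at h1 h2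
      have hj : j = j' := Fin.ext (pow_injOn_Iio_orderOf (by rw [Set.mem_Iio, hzo]; exact j.2)
        (by rw [Set.mem_Iio, hzo]; exact j'.2) h1)
      have hi : i = i' := Fin.ext (pow_injOn_Iio_orderOf
        (by rw [Set.mem_Iio, orderOf_inv, hzo]; exact i.2)
        (by rw [Set.mem_Iio, orderOf_inv, hzo]; exact i'.2) h2)
      subst hi hj
      simp only [mul_left_inj, Subtype.coe_inj] at he'
      rw [he']
    have hsurj : Function.Surjective Φ := by
      rintro ⟨h, hh⟩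
      obtain ⟨j, hjp, hj⟩ := hzgen _ (hcomm x h)
      obtain ⟨i, hip, hi⟩ := hzgen _ (inv_mem (hcomm y h))
      set k := h * (y ^ j)⁻¹ * (x ^ i)⁻¹ with hk
      have hkh : h = k * x ^ i * y ^ j := by rw [hk]; group
      have hk1 := (hvals k i j).1
      have hk2 := (hvals k i j).2
      rw [← hkh, ← hj] at hk1
      rw [← hkh, inv_pow, hi, inv_inv] at hk2
      have hkm : k ∈ H₁ := (hmem k).mpr
        ⟨mul_mem (mul_mem hh (inv_mem (pow_mem hyH _))) (inv_mem (pow_mem hxH _)),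
          right_eq_mul.mp hk1, right_eq_mul.mp hk2⟩
      exact ⟨(⟨k, hkm⟩, ⟨i, hip⟩, ⟨j, hjp⟩), Subtype.ext hkh.symm⟩
    have hcard : Nat.card H = Nat.card H₁ * (p * p) := by
      rw [← Nat.card_congr (Equiv.ofBijective Φ ⟨hinj, hsurj⟩), Nat.card_prod, Nat.card_prod,
        Nat.card_fin]
    have hlt' : Nat.card H₁ < n := by
      rw [← hn, hcard]
      exact lt_mul_of_one_lt_right Nat.card_pos (Nat.one_lt_mul_iff.mpr
        ⟨(Fact.out (p := p.Prime)).pos, (Fact.out (p := p.Prime)).pos,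
          Or.inl (Fact.out (p := p.Prime)).one_lt⟩)
    have hc₁ : H₁ ⊓ Subgroup.centralizer (H₁ : Set G) ≤ Z := by
      intro w hw'
      obtain ⟨hw, hwc⟩ := Subgroup.mem_inf.mp hw'
      refine hc (Subgroup.mem_inf.mpr ⟨hH₁H hw, fun h hh => ?_⟩)
      obtain ⟨⟨k, i, j⟩, hkij⟩ := hsurj ⟨h, hh⟩
      have hkij' : (k : G) * x ^ (i : ℕ) * y ^ (j : ℕ) = h := congrArg Subtype.val hkij
      have hwx : Commute x w := commutatorElement_eq_one_iff_mul_comm.mp ((hmem w).mp hw).2.1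
      have hwy : Commute y w := commutatorElement_eq_one_iff_mul_comm.mp ((hmem w).mp hw).2.2
      have hwk : Commute (k : G) w := hwc k k.2
      rw [← hkij']
      exact ((hwk.mul_left (hwx.pow_left _)).mul_left (hwy.pow_left _)).eq
    obtain ⟨m, hm⟩ := ih _ hlt' H₁ rfl hZH₁ hc₁
    exact ⟨m + 1, by rw [hcard, hm, ← sq, ← pow_add]; congr 1⟩

/-- The order of an extraspecial p-group is an odd power p^(2n+1) of p with n ≥ 1. -/
theorem result {P : Type*} [Group P] [Finite P] {p : ℕ} [Fact p.Prime] (h : Cfsg.IsExtraspecial p P) : ∃ n : ℕ, 1 ≤ n ∧ Nat.card P = p ^ (2 * n + 1) := by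
  obtain ⟨⟨hP, hfr, hcm⟩, hZ⟩ := h
  obtain ⟨m, hm⟩ := card_eq_sq (Subgroup.center P) hZ le_rfl
    (fun a b => hcm ▸ Subgroup.commutator_mem_commutator (Subgroup.mem_top a) (Subgroup.mem_top b))
    _ ⊤ rfl le_top (fun w hw => Subgroup.mem_center_iff.mpr fun g => hw.2 g (Subgroup.mem_top g))
  rw [Subgroup.card_top] at hm
  refine ⟨m, ?_, hm⟩
  by_contra h0
  have hm0 : m = 0 := by omega
  subst hm0
  have htop : Subgroup.center P = ⊤ := by
    refine Subgroup.eq_top_of_card_eq _ ?_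
    rw [hZ, hm, mul_zero, zero_add, pow_one]
  have hbot : commutator P = ⊥ := by
    rw [commutator_def, Subgroup.commutator_eq_bot_iff_le_centralizer]
    exact fun a _ b _ => Subgroup.mem_center_iff.mp (htop.ge (Subgroup.mem_top a)) b
  rw [hbot, htop] at hcm
  rw [htop, ← hcm, Subgroup.card_bot] at hZ
  exact (Fact.out (p := p.Prime)).one_lt.ne hZ

end Cfsg.Agent.S0095
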