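import Cfsg.Statements.S0097
import Cfsg.Agent.Lib.PLocal.SmallClass

set_option autoImplicit false
open Cfsg

namespace Cfsg.Agent.S0097

open scoped commutatorElement

/-- For odd p and E extraspecial, the subgroup generated by the elements of order dividing p has exponent dividing p and index at most p. -/
theorem result {E : Type*} [Group E] [Finite E] {p : ℕ} [Fact p.Prime] (hp : p ≠ 2) (h : Cfsg.IsExtraspecial p E) : (Subgroup.closure {x : E | x ^ p = 1}).index ≤ p ∧ ∀ g ∈ Subgroup.closure {x : E | x ^ p = 1}, g ^ p = 1 := by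
  obtain ⟨⟨hP, hfr, hcm⟩, hZ⟩ := h
  have hc2 : ⁅commutator E, (⊤ : Subgroup E)⁆ = ⊥ := by
    rw [hcm, Subgroup.commutator_eq_bot_iff_le_centralizer]
    intro z hz g _
    exact Subgroup.mem_center_iff.mp hz g
  have hs : Cfsg.Agent.Lib.PLocal.SmallClass p E := Or.inl ⟨hp, hc2⟩
  refine ⟨?_, fun g hg => Cfsg.Agent.Lib.PLocal.smallClass_closure_pow hs hg⟩
  have hcp : ∀ c ∈ commutator E, c ^ p = 1 := by
    intro c hc
    rw [hcm] at hc
    have h' := pow_card_eq_one' (x := (⟨c, hc⟩ : Subgroup.center E))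
    rw [hZ] at h'
    simpa using congrArg Subtype.val h'
  have hmul : ∀ x y : E, (x * y) ^ p = x ^ p * y ^ p := by
    intro x y
    obtain ⟨c, d, e, -, -, -, hc, -, -, -, hpow⟩ :=
      Cfsg.Agent.Lib.PLocal.smallClass_formula hs x y
    exact hpow (hcp c hc)
  let f : E →* E := MonoidHom.mk' (fun g => g ^ p) hmul
  have hker : f.ker ≤ Subgroup.closure {x : E | x ^ p = 1} := fun g hg =>
    Subgroup.subset_closure (by simpa [f] using hg)
  have hr : f.range ≤ Subgroup.center E := by
    rintro _ ⟨g, rfl⟩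
    rw [Subgroup.mem_center_iff]
    intro u
    show u * g ^ p = g ^ p * u
    have hconj : u * g * u⁻¹ = g * ⁅g⁻¹, u⁆ := by simp only [commutatorElement_def]; group
    have hcmem : ⁅g⁻¹, u⁆ ∈ commutator E :=
      Subgroup.commutator_mem_commutator (Subgroup.mem_top _) (Subgroup.mem_top _)
    have hcomm : Commute g ⁅g⁻¹, u⁆ := by
      have := hcmem
      rw [hcm] at this
      exact Subgroup.mem_center_iff.mp this g
    have h' : (u * g * u⁻¹) ^ p = g ^ p := by
      rw [hconj, hcomm.mul_pow, hcp _ hcmem, mul_one]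
    rw [conj_pow] at h'
    calc u * g ^ p = (u * g ^ p * u⁻¹) * u := by group
      _ = g ^ p * u := by rw [h']
  calc (Subgroup.closure {x : E | x ^ p = 1}).index ≤ f.ker.index :=
        Nat.le_of_dvd (Nat.pos_of_ne_zero (Subgroup.index_ne_zero_of_finite))
          (Subgroup.index_dvd_of_le hker)
    _ = Nat.card f.range := Subgroup.index_ker f
    _ ≤ Nat.card (Subgroup.center E) := Subgroup.card_le_of_le hr
    _ = p := hZ

end Cfsg.Agent.S0097
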