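import Cfsg.Statements.S0099
import Cfsg.Agent.Lib.PGroups.ExtraTwoType
import Cfsg.Agent.S0095
import Mathlib

set_option autoImplicit false
open Cfsg

namespace Cfsg.Agent.S0099

/-- Among three extraspecial 2-groups of equal order, some two are isomorphic. -/
theorem result {E₁ : Type*} {E₂ : Type*} {E₃ : Type*} [Group E₁] [Group E₂] [Group E₃] [Finite E₁] [Finite E₂] [Finite E₃] (h₁ : Cfsg.IsExtraspecial 2 E₁) (h₂ : Cfsg.IsExtraspecial 2 E₂) (h₃ : Cfsg.IsExtraspecial 2 E₃) (h12 : Nat.card E₁ = Nat.card E₂) (h23 : Nat.card E₂ = Nat.card E₃) : Nonempty (E₁ ≃* E₂) ∨ Nonempty (E₂ ≃* E₃) ∨ Nonempty (E₁ ≃* E₃) := by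
  obtain ⟨n, hn, hc⟩ := Cfsg.Agent.S0095.result (p := 2) h₁
  have hc2 := h12.symm.trans hc
  have hc3 := h23.symm.trans hc2
  rcases Lib.PGroups.ExtraTwoType.plus_or_minus h₁ hn hc with a | a <;>
    rcases Lib.PGroups.ExtraTwoType.plus_or_minus h₂ hn hc2 with b | b <;>
      rcases Lib.PGroups.ExtraTwoType.plus_or_minus h₃ hn hc3 with c | c
  all_goals first
    | exact Or.inl (Lib.PGroups.ExtraTwoType.iso_of_plus h₁ h₂ a b)
    | exact Or.inl (Lib.PGroups.ExtraTwoType.iso_of_minus h₁ h₂ a b)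
    | exact Or.inr (Or.inl (Lib.PGroups.ExtraTwoType.iso_of_plus h₂ h₃ b c))
    | exact Or.inr (Or.inl (Lib.PGroups.ExtraTwoType.iso_of_minus h₂ h₃ b c))
    | exact Or.inr (Or.inr (Lib.PGroups.ExtraTwoType.iso_of_plus h₁ h₃ a c))
    | exact Or.inr (Or.inr (Lib.PGroups.ExtraTwoType.iso_of_minus h₁ h₃ a c))

end Cfsg.Agent.S0099
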