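import Cfsg.Statements.S0100
import Cfsg.Agent.Lib.OddLocal.OmegaExtend
import Cfsg.Agent.Lib.OddLocal.UniquenessPassing
import Mathlib

set_option autoImplicit false
open Cfsg
open scoped commutatorElement

namespace Cfsg.Agent.S0100

/-- For odd p, a p-group without normal elementary abelian subgroups of order p^3 has p-rank at most 2. -/
theorem result {P : Type*} [Group P] [Finite P] {p : ℕ} [Fact p.Prime] (hp : p ≠ 2) (hP : IsPGroup p P) (h : ∀ A : Subgroup P, A.Normal → IsMulCommutative A → (∀ a ∈ A, a ^ p = 1) → Nat.card A ≠ p ^ 3) (E : Subgroup P) (hE : IsMulCommutative E) (hEe : ∀ e ∈ E, e ^ p = 1) : Nat.card E ≤ p ^ 2 := by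
  classical
  by_contra hgt
  rw [not_le] at hgt
  have hpP : p.Prime := Fact.out
  haveI := hP.isNilpotent
  have hr : ¬ Cfsg.PRankLE p 2 P := fun hr => absurd (hr E hE hEe) (not_le.mpr hgt)
  -- refine a normal series
  have step : ∀ N M : Subgroup P, N.Normal → M.Normal → N < M →
      ∃ L : Subgroup P, L.Normal ∧ N ≤ L ∧ L ≤ M ∧ Nat.card L = p * Nat.card N := by
    intro N M hN hM hlt
    set q := QuotientGroup.mk' N
    haveI : (M.map q).Normal := hM.map q (QuotientGroup.mk'_surjective N)
    have hne : M.map q ≠ ⊥ := fun h => hlt.not_ge (by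
      rw [Subgroup.map_eq_bot_iff, QuotientGroup.ker_mk'] at h; exact h)
    haveI : Group.IsNilpotent (P ⧸ N) := (hP.to_quotient N).isNilpotent
    obtain ⟨y, hy, hy1⟩ : ∃ y ∈ M.map q ⊓ Subgroup.center (P ⧸ N), orderOf y = p := by
      set D := M.map q ⊓ Subgroup.center (P ⧸ N)
      have hD : D ≠ ⊥ := by
        intro hbot
        obtain ⟨n, hn⟩ := Subgroup.nilpotent_iff_lowerCentralSeries.mp
          (inferInstance : Group.IsNilpotent (P ⧸ N))
        have key : ∀ k i, n ≤ i + k → M.map q ⊓ (⊤ : Subgroup (P ⧸ N)).lowerCentralSeries i = ⊥ := by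
          intro k
          induction k with
          | zero =>
            intro i hi
            refine le_bot_iff.mp (inf_le_right.trans ?_)
            rw [← hn]
            exact (⊤ : Subgroup (P ⧸ N)).lowerCentralSeries_antitone (by omega : n ≤ i)
          | succ k ih =>
            intro i hi
            rw [← le_bot_iff, ← hbot]
            intro x hx
            refine ⟨hx.1, Subgroup.mem_center_iff.mpr fun g => ?_⟩
            have h1 : ⁅x, g⁆ ∈ M.map q ⊓ (⊤ : Subgroup (P ⧸ N)).lowerCentralSeries (i + 1) := by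
              refine ⟨?_, ?_⟩
              · rw [commutatorElement_def]
                have : x * (g * x⁻¹ * g⁻¹) ∈ M.map q :=
                  mul_mem hx.1 (‹(M.map q).Normal›.conj_mem _ (inv_mem hx.1) g)
                simpa [mul_assoc] using this
              · rw [Subgroup.lowerCentralSeries_succ]
                exact Subgroup.commutator_mem_commutator hx.2 (Subgroup.mem_top g)
            rw [ih (i + 1) (by omega), Subgroup.mem_bot, commutatorElement_eq_one_iff_mul_comm] at h1
            exact h1.symm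
        exact hne (by simpa [Subgroup.lowerCentralSeries_zero] using key n 0 (by omega))
      obtain ⟨a, ha⟩ := IsPGroup.iff_card.mp ((hP.to_quotient N).to_subgroup D)
      have hdvd : p ∣ Nat.card D := by
        rw [ha]
        refine dvd_pow_self p ?_
        rintro rfl
        exact hD (Subgroup.card_eq_one.mp (by rw [ha, pow_zero]))
      obtain ⟨y, hy⟩ := exists_prime_orderOf_dvd_card' (G := D) p hdvd
      exact ⟨y, y.2, by rwa [Subgroup.orderOf_coe]⟩
    haveI : (Subgroup.zpowers y).Normal := ⟨fun z hz g => by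
      have hzc : z ∈ Subgroup.center (P ⧸ N) := Subgroup.zpowers_le.mpr hy.2 hz
      rwa [Subgroup.mem_center_iff.mp hzc g, mul_inv_cancel_right]⟩
    refine ⟨(Subgroup.zpowers y).comap q, inferInstance, ?_, ?_, ?_⟩
    · intro x hx
      rw [Subgroup.mem_comap, show q x = 1 from (QuotientGroup.eq_one_iff x).mpr hx]
      exact one_mem _
    · calc (Subgroup.zpowers y).comap q ≤ (M.map q).comap q :=
            Subgroup.comap_mono (Subgroup.zpowers_le.mpr hy.1)
        _ = M := Subgroup.comap_map_eq_self (by rw [QuotientGroup.ker_mk']; exact hlt.le)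
    · have hNle : N ≤ (Subgroup.zpowers y).comap q := fun x hx => by
        rw [Subgroup.mem_comap, show q x = 1 from (QuotientGroup.eq_one_iff x).mpr hx]
        exact one_mem _
      have h := Subgroup.relIndex_mul_relIndex ⊥ N _ bot_le hNle
      rw [Subgroup.relIndex_bot_left, Subgroup.relIndex_bot_left] at h
      have h2 : N.relIndex ((Subgroup.zpowers y).comap q) = p := by
        have h3 := Subgroup.relIndex_comap (H := (⊥ : Subgroup (P ⧸ N))) q ((Subgroup.zpowers y).comap q)
        rw [MonoidHom.comap_bot, QuotientGroup.ker_mk', Subgroup.map_comap_eq_self_of_surjective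
          (QuotientGroup.mk'_surjective N), Subgroup.relIndex_bot_left, Nat.card_zpowers, hy1] at h3
        exact h3
      rw [← h, h2, mul_comm]
  -- a noncyclic normal elementary abelian subgroup
  obtain ⟨U, hUn, hUe, hU2⟩ : ∃ U : Subgroup P, U.Normal ∧ Cfsg.IsElementaryAbelian p U ∧ Nat.card U = p ^ 2 := by
    obtain ⟨U, hUn, hUe, hU2⟩ := Lib.OddLocal.exists_normal_elementary_sq hp hP (V := E) ⟨hE, hEe⟩ (lt_trans (lt_self_pow₀ hpP.one_lt one_lt_two) hgt)
    exact ⟨U, hUn, hUe, hU2⟩
  obtain ⟨B, hUB, hBn, hBe, hB⟩ := Lib.OddLocal.exists_normal_elementary_gt hp hP hr U hUe hU2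
  obtain ⟨L, hLn, -, hLB, hL⟩ := step U B hUn hBn (lt_of_le_of_ne hUB fun h => by rw [← h, hU2] at hB; omega)
  refine h L hLn ⟨⟨fun a b => Subtype.ext (congrArg Subtype.val
    (hBe.1.is_comm.comm ⟨a, hLB a.2⟩ ⟨b, hLB b.2⟩) :)⟩⟩ (fun a ha => hBe.2 a (hLB ha)) ?_
  rw [hL, hU2, ← pow_succ']

end Cfsg.Agent.S0100
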