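import Cfsg.Statements.S0102
import Cfsg.Agent.Lib.Transfer.Gruen
import Mathlib.GroupTheory.SpecificGroups.Cyclic

set_option autoImplicit false
open Cfsg

namespace Cfsg.Agent.S0102

/-- A finite perfect group with cyclic Sylow p-subgroups has no perfect central extension whose kernel has order divisible by p. -/
theorem result {G : Type*} {H : Type*} [Group G] [Group H] [Finite G] [Finite H] (hG : commutator G = ⊤) {p : ℕ} [Fact p.Prime] (hcyc : ∀ P : Sylow p G, IsCyclic P) (σ : H →* G) (hσ : Function.Surjective σ) (hz : σ.ker ≤ Subgroup.center H) (hH : commutator H = ⊤) : ¬ p ∣ Nat.card σ.ker := by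
  intro hd
  have hz0 := hz
  clear hz
  obtain ⟨y, hy⟩ := exists_prime_orderOf_dvd_card' (G := σ.ker) p hd
  set z : H := (y : H) with hzdef
  have hz : orderOf z = p := by rw [hzdef, Subgroup.orderOf_coe]; exact hy
  have hzZ : z ∈ Subgroup.center H := hz0 y.2
  haveI : (Subgroup.zpowers z).Normal := ⟨fun a ha g => by
    have hac : a ∈ Subgroup.center H := (Subgroup.zpowers_le.mpr hzZ) ha
    rw [Subgroup.mem_center_iff.mp hac g, mul_inv_cancel_right]
    exact ha⟩
  let P : Sylow p H := default
  have hzP : z ∈ (P : Subgroup H) :=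
    IsPGroup.le_sylow_of_normal (IsPGroup.of_card (n := 1) (by rw [Nat.card_zpowers, hz, pow_one]))
      P (Subgroup.mem_zpowers z)
  -- `P` is abelian: it is cyclic modulo a central subgroup
  let f : (P : Subgroup H) →* ((P.mapSurjective hσ : Sylow p G) : Subgroup G) :=
    { toFun := fun x => ⟨σ (x : H), ⟨(x : H), x.2, rfl⟩⟩
      map_one' := Subtype.ext (map_one σ)
      map_mul' := fun a b => Subtype.ext (map_mul σ (a : H) (b : H)) }
  haveI : IsCyclic ((P.mapSurjective hσ : Sylow p G) : Subgroup G) := hcyc _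
  have hker : f.ker ≤ Subgroup.center (P : Subgroup H) := by
    intro x hx
    rw [Subgroup.mem_center_iff]
    intro w
    have hx' : (x : H) ∈ σ.ker := congrArg Subtype.val hx
    exact Subtype.ext (Subgroup.mem_center_iff.mp (hz0 hx') w)
  haveI hcomm : IsMulCommutative (P : Subgroup H) :=
    f.isMulCommutative_of_isCyclic_of_ker_le_center hker
  have h0 := Lib.Transfer.abelian_hall_inf_commutator_inf_center (P : Subgroup H) P.card_coprime_index
  have hz1 : z = 1 := by
    rw [← Subgroup.mem_bot, ← h0]
    exact ⟨⟨hzP, hH ▸ Subgroup.mem_top z⟩, hzZ⟩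
  rw [hz1, orderOf_one] at hz
  exact (Fact.out : p.Prime).ne_one hz.symm

end Cfsg.Agent.S0102
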