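import Cfsg.Statements.S0104

set_option autoImplicit false
open Cfsg

namespace Cfsg.Agent.S0104

/-- A subgroup Z of a Sylow p-subgroup P that is normalized by N_G(P) is weakly closed in P exactly when it is normal in every Sylow p-subgroup containing it. -/
theorem result {G : Type*} [Group G] [Finite G] {p : ℕ} [Fact p.Prime] (P : Sylow p G) (Z : Subgroup G) (hZP : Z ≤ (P : Subgroup G)) (hZN : Subgroup.normalizer (P : Set G) ≤ Subgroup.normalizer (Z : Set G)) : Cfsg.IsWeaklyClosed Z P ↔ ∀ R : Sylow p G, Z ≤ (R : Subgroup G) → (R : Subgroup G) ≤ Subgroup.normalizer (Z : Set G) := by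
  constructor
  · intro hW R hR
    obtain ⟨k, rfl⟩ := MulAction.exists_smul_eq G P R
    have h1 : Z.map (MulAut.conj k⁻¹).toMonoidHom = Z := by
      refine hW.2 _ ?_
      rintro _ ⟨z, hz, rfl⟩
      have hz2 := hR hz
      rw [Sylow.coe_subgroup_smul] at hz2
      obtain ⟨w, hw, rfl⟩ := hz2
      show k⁻¹ * (k * w * k⁻¹) * k⁻¹⁻¹ ∈ (P : Subgroup G)
      rwa [show k⁻¹ * (k * w * k⁻¹) * k⁻¹⁻¹ = w by group]
    have hk : k ∈ Subgroup.normalizer (Z : Set G) :=
      (Subgroup.inv_mem_iff _).mp (Subgroup.mem_normalizer_iff_map_conj_eq.mpr h1)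
    intro x hx
    rw [Sylow.coe_subgroup_smul] at hx
    obtain ⟨w, hw, rfl⟩ := hx
    exact mul_mem (mul_mem hk (hZN (Subgroup.le_normalizer hw))) (inv_mem hk)
  · intro h
    refine ⟨hZP, fun g hg => ?_⟩
    refine Subgroup.mem_normalizer_iff_map_conj_eq.mp ?_
    have hZR : Z ≤ ((g⁻¹ • P : Sylow p G) : Subgroup G) := by
      intro z hz
      rw [Sylow.coe_subgroup_smul]
      refine ⟨g * z * g⁻¹, hg ⟨z, hz, rfl⟩, ?_⟩
      show g⁻¹ * (g * z * g⁻¹) * g⁻¹⁻¹ = z
      group
    have hR := h _ hZR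
    have hP : (P : Subgroup G) ≤ Subgroup.normalizer (Z : Set G) :=
      Subgroup.le_normalizer.trans hZN
    obtain ⟨c, hc⟩ := MulAction.exists_smul_eq (Subgroup.normalizer (Z : Set G))
      ((g⁻¹ • P).subtype hR) (P.subtype hP)
    rw [Sylow.smul_subtype] at hc
    have hcP := Sylow.subtype_injective hc
    have hn : (c : G) * g⁻¹ ∈ Subgroup.normalizer ((P : Subgroup G) : Set G) := by
      refine (Sylow.smul_eq_iff_mem_normalizer (P := P)).mp ?_
      rw [mul_smul]
      exact hcP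
    refine (Subgroup.inv_mem_iff _).mp ?_
    exact (Subgroup.mul_mem_cancel_left _ c.2).mp (hZN hn)

end Cfsg.Agent.S0104
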