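import Cfsg.Statements.S0105
import Cfsg.Agent.Lib.Transfer.CoprimeIndex

set_option autoImplicit false
open Cfsg

namespace Cfsg.Agent.S0105

/-- With an abelian Sylow p-subgroup P, some quotient of G is isomorphic to the part of P central in N_G(P). -/
theorem result {G : Type*} [Group G] [Finite G] {p : ℕ} [Fact p.Prime] (P : Sylow p G) (hP : IsMulCommutative P) : ∃ (N : Subgroup G) (hN : N.Normal), Nonempty (G ⧸ N ≃* ((P : Subgroup G) ⊓ Subgroup.centralizer (Subgroup.normalizer (P : Set G) : Set G) : Subgroup G)) := by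
  haveI := hP
  set N0 := Subgroup.normalizer ((P : Subgroup G) : Set G) with hN0
  haveI : ((P : Subgroup G).subgroupOf N0).Normal := Subgroup.normal_in_normalizer
  haveI : IsMulCommutative ((P : Subgroup G).subgroupOf N0) :=
    ⟨⟨fun a b => Subtype.ext (Subtype.ext (congrArg (fun t : (P : Subgroup G) => (t : G))
      (mul_comm' (⟨_, a.2⟩ : (P : Subgroup G)) ⟨_, b.2⟩) :))⟩⟩
  have hHall : Nat.Coprime (Nat.card ((P : Subgroup G).subgroupOf N0))
      ((P : Subgroup G).subgroupOf N0).index := by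
    rw [Nat.card_congr (Subgroup.subgroupOfEquivOfLe Subgroup.le_normalizer).toEquiv]
    exact Nat.Coprime.coprime_dvd_right (Subgroup.relIndex_dvd_index_of_le Subgroup.le_normalizer)
      P.card_coprime_index
  obtain ⟨-, hinf, hsup⟩ := Lib.Transfer.commutator_inf_sup_center_inf
    ((P : Subgroup G).subgroupOf N0) hHall
  have h74 := Lib.Transfer.commutator_inf_eq_of_controlsFusion P Subgroup.le_normalizer
    (Lib.Transfer.controlsFusion_normalizer_of_abelian P hP)
  rw [Subgroup.commutator_inf_eq_focalSubgroup P] at h74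
  set A := (P : Subgroup G) ⊓ Subgroup.centralizer (N0 : Set G) with hA
  let f : A →* (P : Subgroup G) ⧸ (P : Subgroup G).focalSubgroupOf :=
    (QuotientGroup.mk' _).comp (Subgroup.inclusion inf_le_left)
  have hmemA : ∀ (x : G) (hx : x ∈ N0), x ∈ A ↔
      (⟨x, hx⟩ : N0) ∈ Subgroup.center N0 ⊓ (P : Subgroup G).subgroupOf N0 := by
    intro x hx
    constructor
    · rintro ⟨h1, h2⟩
      exact ⟨Subgroup.mem_center_iff.mpr fun n => Subtype.ext (h2 _ n.2), h1⟩
    · rintro ⟨h1, h2⟩
      exact ⟨h2, fun n hn => congrArg Subtype.val (Subgroup.mem_center_iff.mp h1 ⟨n, hn⟩)⟩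
  have hmemF : ∀ (x : G) (hx : x ∈ N0), x ∈ Subgroup.focalSubgroup (P : Subgroup G) ↔
      (⟨x, hx⟩ : N0) ∈ commutator N0 ⊓ (P : Subgroup G).subgroupOf N0 := by
    intro x hx
    rw [h74, Subgroup.mem_inf, Subgroup.mem_inf, ← Subgroup.map_subtype_commutator]
    constructor
    · rintro ⟨⟨y, hy, rfl⟩, h2⟩
      exact ⟨hy, h2⟩
    · rintro ⟨h1, h2⟩
      exact ⟨⟨_, h1, rfl⟩, h2⟩
  have hfinj : Function.Injective f := by
    rw [injective_iff_map_eq_one]
    intro a ha
    have h1 := (QuotientGroup.eq_one_iff _).mp ha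
    have haN : (a : G) ∈ N0 := Subgroup.le_normalizer a.2.1
    have h2 : (⟨a, haN⟩ : N0) ∈ (⊥ : Subgroup N0) :=
      hinf ▸ ⟨(hmemF _ haN).mp h1, (hmemA _ haN).mp a.2⟩
    rw [Subgroup.mem_bot] at h2
    exact Subtype.ext (congrArg (fun t : N0 => (t : G)) h2)
  have hfsurj : Function.Surjective f := by
    intro q
    obtain ⟨x, rfl⟩ := QuotientGroup.mk'_surjective _ q
    have hxN : (x : G) ∈ N0 := Subgroup.le_normalizer x.2
    obtain ⟨u, hu, w, hw, huw⟩ := Subgroup.mem_sup_of_normal_left.mp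
      (hsup.ge x.2 : (⟨x, hxN⟩ : N0) ∈ _)
    have huw' : (u : G) * (w : G) = x := congrArg Subtype.val huw
    refine ⟨⟨w, (hmemA _ w.2).mpr hw⟩, ?_⟩
    apply QuotientGroup.eq.mpr
    show (w : G)⁻¹ * x ∈ Subgroup.focalSubgroup (P : Subgroup G)
    have hwc := Subgroup.mem_center_iff.mp hw.1 u
    have : (w : G)⁻¹ * x = u := by
      have hwc' : (u : G) * (w : G) = (w : G) * (u : G) := congrArg Subtype.val hwc
      rw [← huw', hwc']; group
    rw [this]
    exact (hmemF _ u.2).mpr hu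
  exact ⟨(P : Subgroup G).transferFocal.ker, inferInstance,
    ⟨(Subgroup.transferFocal.quotientKerMulEquivQuotientFocalSubroupOf P).trans
      (MulEquiv.ofBijective f ⟨hfinj, hfsurj⟩).symm⟩⟩

end Cfsg.Agent.S0105
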