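import Mathlib
import Cfsg.Statements.S0106
import Cfsg.Agent.Lib.Transfer.Frobenius
import Cfsg.Agent.Lib.Involutions.WreathedCentric
import Cfsg.Agent.Lib.Characters.QuaternionBS

set_option autoImplicit false
open Cfsg

namespace Cfsg.Agent.S0106

open Cfsg.Agent.Lib

variable {G : Type*} [Group G]

/-- An element of odd order acting as `x ↦ x c` with `c` fixed and of `2`-power order acts trivially. -/
theorem shift_trivial {g x c : G} (hg : Odd (orderOf g)) (hx : g * x * g⁻¹ = x * c)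
    (hc : g * c * g⁻¹ = c) {N : ℕ} (hN : c ^ 2 ^ N = 1) : g * x * g⁻¹ = x := by
  have key : ∀ k : ℕ, g ^ k * x * (g ^ k)⁻¹ = x * c ^ k := by
    intro k
    induction k with
    | zero => simp
    | succ k ih =>
      have hck : g * c ^ k * g⁻¹ = c ^ k := by rw [← conj_pow, hc]
      calc g ^ (k + 1) * x * (g ^ (k + 1))⁻¹ = g * (g ^ k * x * (g ^ k)⁻¹) * g⁻¹ := by
            rw [pow_succ']; group
        _ = g * (x * c ^ k) * g⁻¹ := by rw [ih]
        _ = (g * x * g⁻¹) * (g * c ^ k * g⁻¹) := by group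
        _ = x * c ^ (k + 1) := by rw [hx, hck, pow_succ', mul_assoc]
  have h := key (orderOf g)
  rw [pow_orderOf_eq_one, one_mul, inv_one, mul_one] at h
  have hc1 : c ^ orderOf g = 1 := mul_left_cancel (a := x) (h.symm.trans (mul_one x).symm)
  have : orderOf c ∣ Nat.gcd (orderOf g) (2 ^ N) :=
    Nat.dvd_gcd (orderOf_dvd_of_pow_eq_one hc1) (orderOf_dvd_of_pow_eq_one hN)
  rw [Nat.Coprime.gcd_eq_one ((Nat.coprime_two_right.mpr hg).pow_right N), Nat.dvd_one,
    orderOf_eq_one_iff] at this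
  rw [hx, this, mul_one]

/-- An element of odd order normalizing a cyclic `2`-group centralizes it. -/
theorem cyclic_fix [Finite G] {g : G} (hg : Odd (orderOf g)) :
    ∀ (j : ℕ) (u : G), u ^ 2 ^ j = 1 → g * u * g⁻¹ ∈ Subgroup.zpowers u → g * u * g⁻¹ = u := by
  intro j
  induction j with
  | zero =>
    intro u hu _
    rw [pow_zero, pow_one] at hu
    rw [hu, mul_one, mul_inv_cancel]
  | succ j ih =>
    intro u hu hmem
    obtain ⟨k, hk⟩ := Subgroup.mem_zpowers_iff.mp hmem
    have hu2 : g * u ^ 2 * g⁻¹ = u ^ 2 := by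
      refine ih _ ?_ ?_
      · rw [← pow_mul, ← pow_succ']; exact hu
      · refine Subgroup.mem_zpowers_iff.mpr ⟨k, ?_⟩
        rw [← conj_pow, ← hk, ← zpow_natCast (u ^ k) 2, ← zpow_natCast u 2, ← zpow_mul, ← zpow_mul,
          mul_comm]
    set c := u ^ (k - 1) with hc
    have hx : g * u * g⁻¹ = u * c := by
      rw [hc, ← hk, show u * u ^ (k - 1) = u ^ (1 + (k - 1)) by rw [zpow_add, zpow_one]]
      congr 1
      ring
    have hc2 : c ^ 2 = 1 := by
      have h : (u * c) ^ 2 = u ^ 2 := by rw [← hx, conj_pow, hu2]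
      have hcomm : Commute u c := (Commute.refl u).zpow_right _
      rw [hcomm.mul_pow] at h
      exact mul_left_cancel (a := u ^ 2) (h.trans (mul_one _).symm)
    have hcfix : g * c * g⁻¹ = c := by
      rcases Nat.eq_zero_or_pos j with hj | hj
      · subst hj
        rw [zero_add, pow_one] at hu
        have h1 : u * c = u ∨ u * c = 1 := by
          rw [← hx, ← hk]
          rcases Int.even_or_odd k with ⟨t, ht⟩ | ⟨t, ht⟩
          · right
            rw [ht, ← two_mul, zpow_mul, show u ^ (2 : ℤ) = 1 by exact_mod_cast hu, one_zpow]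
          · left
            rw [ht, zpow_add, zpow_mul, show u ^ (2 : ℤ) = 1 by exact_mod_cast hu, one_zpow,
              one_mul, zpow_one]
        rcases h1 with h1 | h1
        · rw [mul_eq_left.mp h1, mul_one, mul_inv_cancel]
        · have hu1 : u = 1 := conj_eq_one_iff.mp (hx.trans h1)
          rw [hu1, one_mul] at h1
          rw [h1, mul_one, mul_inv_cancel]
      · refine ih c ?_ ?_
        · obtain ⟨j', rfl⟩ := Nat.exists_eq_succ_of_ne_zero hj.ne'
          rw [pow_succ', pow_mul, hc2, one_pow]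
        · refine Subgroup.mem_zpowers_iff.mpr ⟨k, ?_⟩
          rw [hc, ← conj_zpow, ← hk, ← zpow_mul, ← zpow_mul, mul_comm]
    exact shift_trivial hg hx hcfix (N := 1) (by rw [pow_one]; exact hc2)

/-- The automorphism of order 3 of `Q₈` as a map. -/
def tauFun : QuaternionGroup 2 → QuaternionGroup 2
  | .a i => (QuaternionGroup.xa 0) ^ i.val
  | .xa i => QuaternionGroup.xa 3 * (QuaternionGroup.xa 0) ^ i.val

/-- The automorphism of order 3 of `Q₈`. -/
def tau : MulAut (QuaternionGroup 2) where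
  toFun := tauFun
  invFun := fun q => tauFun (tauFun q)
  left_inv := by decide
  right_inv := by decide
  map_mul' := by decide

theorem tau_cube : ∀ q : QuaternionGroup 2, tau (tau (tau q)) = q := by decide

theorem tau_pow_three : tau ^ 3 = 1 := MulEquiv.ext fun q => tau_cube q

/-- The powers of an element with `x ^ 3 = 1` as a map on `ZMod 3`. -/
def powHom {M : Type*} [Group M] (x : M) (hx : x ^ 3 = 1) : Multiplicative (ZMod 3) →* M :=
  MonoidHom.mk' (fun k : Multiplicative (ZMod 3) => x ^ (Multiplicative.toAdd k).val) fun a b => by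
    show x ^ (Multiplicative.toAdd a + Multiplicative.toAdd b).val = _
    rw [ZMod.val_add, ← pow_add]
    exact (pow_eq_pow_mod _ hx).symm

/-- The action of `C₃` on `Q₈`. -/
def theta : Multiplicative (ZMod 3) →* MulAut (QuaternionGroup 2) := powHom tau tau_pow_three

/-- `Q₈ ⋊ C₃`. -/
abbrev Model := SemidirectProduct (QuaternionGroup 2) (Multiplicative (ZMod 3)) theta

/-- Lifting a map out of the model. -/
theorem lift_compat {M : Type*} [Group M] (f1 : QuaternionGroup 2 →* M) (t : M) (ht : t ^ 3 = 1)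
    (hcomp : ∀ q, f1 (tau q) = t * f1 q * t⁻¹) (k : Multiplicative (ZMod 3)) :
    f1.comp (theta k).toMonoidHom = (MulAut.conj (powHom t ht k)).toMonoidHom.comp f1 := by
  refine MonoidHom.ext fun q => ?_
  show f1 ((tau ^ (Multiplicative.toAdd k).val) q) =
    t ^ (Multiplicative.toAdd k).val * f1 q * (t ^ (Multiplicative.toAdd k).val)⁻¹
  induction (Multiplicative.toAdd k).val generalizing q with
  | zero => simp
  | succ n ih => rw [pow_succ', MulAut.mul_apply, hcomp, ih, pow_succ']; group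

/-- The map out of the model. -/
def modelHom {M : Type*} [Group M] (f1 : QuaternionGroup 2 →* M) (t : M) (ht : t ^ 3 = 1)
    (hcomp : ∀ q, f1 (tau q) = t * f1 q * t⁻¹) : Model →* M :=
  SemidirectProduct.lift f1 (powHom t ht) (lift_compat f1 t ht hcomp)

theorem modelHom_apply {M : Type*} [Group M] (f1 : QuaternionGroup 2 →* M) (t : M) (ht : t ^ 3 = 1)
    (hcomp : ∀ q, f1 (tau q) = t * f1 q * t⁻¹) (x : Model) :
    modelHom f1 t ht hcomp x = f1 x.left * t ^ (Multiplicative.toAdd x.right).val := rfl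

/-- The map `a i ↦ u ^ i`, `xa i ↦ v u ^ i`. -/
def qFun (u v : G) : QuaternionGroup 2 → G
  | .a i => u ^ i.val
  | .xa i => v * u ^ i.val

theorem qFun_mul {u v : G} (hu : u ^ 4 = 1) (hv : v * v = u ^ 2) (hvu : v * u * v⁻¹ = u⁻¹)
    (x y : QuaternionGroup 2) : qFun u v (x * y) = qFun u v x * qFun u v y := by
  have hadd : ∀ i j : ZMod (2 * 2), u ^ (i + j).val = u ^ i.val * u ^ j.val := fun i j => by
    rw [ZMod.val_add, ← pow_add]; exact (pow_eq_pow_mod _ hu).symm
  have hinvu : u⁻¹ = u ^ 3 := inv_eq_of_mul_eq_one_right (by rw [← pow_succ', hu])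
  have hflip : ∀ k : ℕ, u ^ k * v = v * u ^ (3 * k) := fun k => by
    have e : v * u ^ (3 * k) * v⁻¹ = u ^ k := by
      rw [← conj_pow, hvu, hinvu, ← pow_mul, show 3 * (3 * k) = k + 4 * (2 * k) by ring, pow_add,
        pow_mul u 4, hu, one_pow, mul_one]
    rw [← e, inv_mul_cancel_right]
  have hneg : ∀ i : ZMod (2 * 2), u ^ (-i).val = u ^ (3 * i.val) := fun i => by
    have h3 : ∀ i : ZMod (2 * 2), (-i).val % 4 = (3 * i.val) % 4 := by decide
    rw [pow_eq_pow_mod _ hu, h3, ← pow_eq_pow_mod _ hu]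
  rcases x with i | i <;> rcases y with j | j
  · exact hadd i j
  · show v * u ^ (j - i).val = u ^ i.val * (v * u ^ j.val)
    rw [← mul_assoc, hflip, mul_assoc, sub_eq_add_neg, hadd, hneg]
    congr 1
    rw [← pow_add, ← pow_add, add_comm]
  · show v * u ^ (i + j).val = v * u ^ i.val * u ^ j.val
    rw [hadd, mul_assoc]
  · show u ^ (((2 : ℕ) : ZMod (2 * 2)) + j - i).val = v * u ^ i.val * (v * u ^ j.val)
    rw [sub_eq_add_neg, hadd, hadd, hneg, ← mul_assoc (v * u ^ i.val), mul_assoc v, hflip,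
      ← mul_assoc v v, hv, ← pow_add, ← pow_add, ← pow_add, ← pow_add,
      show (((2 : ℕ) : ZMod (2 * 2))).val = 2 from rfl]
    congr 1
    ring

/-- The conclusion from generators. -/
theorem section_of_data [Finite G] {g u v : G} (hg : Odd (orderOf g)) (hu : u ^ 4 = 1)
    (hu2 : u ^ 2 ≠ 1) (hv : v * v = u ^ 2) (hvu : v * u * v⁻¹ = u⁻¹)
    (hgu : g * u * g⁻¹ = v) (hgv : g * v * g⁻¹ = u * v) :
    ∃ (H K : Subgroup G) (hK : (K.subgroupOf H).Normal),
      Nonempty ((H ⧸ K.subgroupOf H) ≃* Matrix.SpecialLinearGroup (Fin 2) (ZMod 3)) := by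
  set φ : QuaternionGroup 2 →* G := MonoidHom.mk' (qFun u v) (qFun_mul hu hv hvu) with hφ
  have hφu : φ (.a 1) = u := by show u ^ (1 : ZMod (2 * 2)).val = u; rw [show (1 : ZMod (2 * 2)).val = 1 from rfl, pow_one]
  have hφv : φ (.xa 0) = v := by show v * u ^ (0 : ZMod (2 * 2)).val = v; simp
  have hnc : v * u ≠ u * v := by
    intro h
    rw [h, mul_assoc, mul_inv_cancel, mul_one] at hvu
    exact hu2 (by rw [sq]; exact eq_inv_iff_mul_eq_one.mp hvu)
  have hvmem : ∀ i : ℕ, v ≠ u ^ i := fun i h => hnc (by rw [h]; exact (Commute.refl u).pow_left i)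
  have hφinj : Function.Injective φ := by
    rw [injective_iff_map_eq_one]
    rintro (i | i) h
    · have h' : u ^ i.val = 1 := h
      have hd : orderOf u = 4 := by
        have := orderOf_eq_prime_pow (p := 2) (n := 1) (x := u) (by rwa [pow_one]) (by norm_num; exact hu)
        exact this.trans (by norm_num)
      have : i.val = 0 := by
        have := orderOf_dvd_of_pow_eq_one h'
        rw [hd] at this
        exact Nat.eq_zero_of_dvd_of_lt this (ZMod.val_lt i)
      rw [(ZMod.val_eq_zero i).mp this]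
      rfl
    · exfalso
      have h' : v * u ^ i.val = 1 := h
      apply hvmem (3 * i.val)
      rw [eq_inv_of_mul_eq_one_left h', inv_eq_of_mul_eq_one_right]
      rw [← pow_add, show i.val + 3 * i.val = 4 * i.val by ring, pow_mul, hu, one_pow]
  have hg3u : g ^ 3 * u * (g ^ 3)⁻¹ = u := by
    have h2 : g * (u * v) * g⁻¹ = v * (u * v) := by
      calc g * (u * v) * g⁻¹ = (g * u * g⁻¹) * (g * v * g⁻¹) := by group
        _ = v * (u * v) := by rw [hgu, hgv]
    have h3 : v * (u * v) = u := by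
      have hu' : v * u = u⁻¹ * v := by rw [← hvu]; group
      rw [← mul_assoc, hu', mul_assoc, hv, sq, inv_mul_cancel_left]
    calc g ^ 3 * u * (g ^ 3)⁻¹ = g * (g * (g * u * g⁻¹) * g⁻¹) * g⁻¹ := by
          simp only [pow_succ, pow_zero, one_mul, mul_inv_rev, mul_assoc]
      _ = g * (g * v * g⁻¹) * g⁻¹ := by rw [hgu]
      _ = g * (u * v) * g⁻¹ := by rw [hgv]
      _ = u := by rw [h2, h3]
  have hg3v : g ^ 3 * v * (g ^ 3)⁻¹ = v := by
    calc g ^ 3 * v * (g ^ 3)⁻¹ = g ^ 3 * (g * u * g⁻¹) * (g ^ 3)⁻¹ := by rw [hgu]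
      _ = g * (g ^ 3 * u * (g ^ 3)⁻¹) * g⁻¹ := by group
      _ = v := by rw [hg3u, hgu]
  have hdvd : 3 ∣ orderOf g := by
    by_contra h
    have hcop : Nat.Coprime 3 (orderOf g) := (Nat.prime_three.coprime_iff_not_dvd).mpr h
    have hmem : g ∈ Subgroup.zpowers (g ^ 3) := mem_zpowers_pow_iff.mpr hcop
    have hcu : Commute (g ^ 3) u := by
      show g ^ 3 * u = u * g ^ 3
      rw [← mul_inv_eq_iff_eq_mul]; exact hg3u
    obtain ⟨k, hk⟩ := Subgroup.mem_zpowers_iff.mp hmem
    have := hcu.zpow_left k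
    rw [hk] at this
    apply hvmem 1
    rw [← hgu, this.eq, pow_one, mul_inv_cancel_right]
  set K := Subgroup.zpowers (g ^ 3) with hKdef
  set H := φ.range ⊔ Subgroup.zpowers g with hHdef
  have hgH : g ∈ H := Subgroup.mem_sup_right (Subgroup.mem_zpowers g)
  have hφH : ∀ q, φ q ∈ H := fun q => Subgroup.mem_sup_left ⟨q, rfl⟩
  have hK : (K.subgroupOf H).Normal := by
    refine Subgroup.normal_subgroupOf_of_le_normalizer (le_trans ?_ (Subgroup.centralizer_le_normalizer _))
    rw [hKdef, Subgroup.zpowers_eq_closure, Subgroup.centralizer_closure]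
    refine sup_le ?_ ?_
    · rintro _ ⟨q, rfl⟩
      rw [Subgroup.mem_centralizer_singleton_iff]
      have hu' : Commute (g ^ 3) u := by
        show g ^ 3 * u = u * g ^ 3
        rw [← mul_inv_eq_iff_eq_mul]; exact hg3u
      have hv' : Commute (g ^ 3) v := by
        show g ^ 3 * v = v * g ^ 3
        rw [← mul_inv_eq_iff_eq_mul]; exact hg3v
      rcases q with i | i
      · exact (hu'.pow_right _).eq.symm
      · exact (hv'.mul_right (hu'.pow_right _)).eq.symm
    · rw [Subgroup.zpowers_le, Subgroup.mem_centralizer_singleton_iff]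
      exact ((Commute.refl g).pow_right 3).eq
  refine ⟨H, K, hK, ?_⟩
  haveI := hK
  set f1 : QuaternionGroup 2 →* ↥H ⧸ K.subgroupOf H :=
    (QuotientGroup.mk' _).comp (φ.codRestrict H hφH) with hf1
  set gb : ↥H ⧸ K.subgroupOf H := QuotientGroup.mk' _ ⟨g, hgH⟩ with hgb
  have hgb3 : gb ^ 3 = 1 := by
    rw [hgb, ← map_pow, QuotientGroup.mk'_apply, QuotientGroup.eq_one_iff]
    exact Subgroup.mem_zpowers (g ^ 3)
  have hconj : ∀ q, φ (tau q) = g * φ q * g⁻¹ := by
    intro q
    rcases q with i | i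
    · show φ ((QuaternionGroup.xa 0) ^ i.val) = g * u ^ i.val * g⁻¹
      rw [map_pow, hφv, ← conj_pow, hgu]
    · show φ (QuaternionGroup.xa 3 * (QuaternionGroup.xa 0) ^ i.val) = g * (v * u ^ i.val) * g⁻¹
      rw [map_mul, map_pow, hφv]
      have e : φ (QuaternionGroup.xa 3) = u * v := by
        show v * u ^ (3 : ZMod (2 * 2)).val = u * v
        rw [show (3 : ZMod (2 * 2)).val = 3 from rfl]
        have h3 : u ^ 3 = u⁻¹ := (inv_eq_of_mul_eq_one_right (by rw [← pow_succ', hu])).symm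
        have hu' : u * v = v * u⁻¹ := by
          have hu'' : v * u = u⁻¹ * v := by rw [← hvu]; group
          calc u * v = u * (v * u) * u⁻¹ := by group
            _ = u * (u⁻¹ * v) * u⁻¹ := by rw [hu'']
            _ = v * u⁻¹ := by group
        rw [h3, hu']
      rw [e, ← hgv, ← hgu, conj_pow]
      group
  have hcomp : ∀ q, f1 (tau q) = gb * f1 q * gb⁻¹ := by
    intro q
    rw [hgb, hf1, MonoidHom.comp_apply, MonoidHom.comp_apply, ← map_inv, ← map_mul, ← map_mul]
    congr 1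
    exact Subtype.ext (hconj q)
  set L := modelHom f1 gb hgb3 hcomp with hL
  have hLinj : Function.Injective L := by
    rw [injective_iff_map_eq_one]
    intro x hx
    rw [hL, modelHom_apply, hgb, hf1, MonoidHom.comp_apply, ← map_pow, ← map_mul,
      QuotientGroup.mk'_apply, QuotientGroup.eq_one_iff] at hx
    set i := (Multiplicative.toAdd x.right).val with hi
    have hx' : φ x.left * g ^ i ∈ K := hx
    have hmem : φ x.left ∈ Subgroup.zpowers g := by
      have h1 : φ x.left * g ^ i ∈ Subgroup.zpowers g :=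
        (Subgroup.zpowers_le.mpr (pow_mem (Subgroup.mem_zpowers g) 3)) hx'
      exact ((Subgroup.zpowers g).mul_mem_cancel_right (pow_mem (Subgroup.mem_zpowers g) i)).mp h1
    have hl : φ x.left = 1 := by
      have h8 : (φ x.left) ^ 4 = 1 := by
        have : ∀ q : QuaternionGroup 2, q * q * q * q = 1 := by decide
        rw [← map_pow, show x.left ^ 4 = x.left * x.left * x.left * x.left by simp only [pow_succ, pow_zero, one_mul], this, map_one]
      obtain ⟨k, hk⟩ := Subgroup.mem_zpowers_iff.mp hmem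
      have h1 : orderOf (φ x.left) ∣ orderOf g := by
        apply orderOf_dvd_of_pow_eq_one
        rw [← hk, ← zpow_natCast (g ^ k), ← zpow_mul, mul_comm, zpow_mul, zpow_natCast,
          pow_orderOf_eq_one, one_zpow]
      have h2 := Nat.dvd_gcd h1 (orderOf_dvd_of_pow_eq_one h8)
      rw [Nat.Coprime.gcd_eq_one (show Nat.Coprime (orderOf g) 4 from
        (Nat.coprime_two_right.mpr hg).pow_right 2), Nat.dvd_one, orderOf_eq_one_iff] at h2
      exact h2
    have hi0 : i = 0 := by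
      rw [hl, one_mul] at hx'
      obtain ⟨k, hk⟩ := Subgroup.mem_zpowers_iff.mp hx'
      have h : (orderOf g : ℤ) ∣ (i : ℤ) - 3 * k := by
        rw [orderOf_dvd_iff_zpow_eq_one, zpow_sub, zpow_natCast, ← hk, zpow_mul, zpow_ofNat,
          mul_inv_cancel]
      have h3 : (3 : ℤ) ∣ (i : ℤ) - 3 * k := (Int.natCast_dvd_natCast.mpr hdvd).trans h
      have hlt : i < 3 := ZMod.val_lt _
      omega
    have hr : x.right = 1 := by
      have := (ZMod.val_eq_zero _).mp hi0
      exact Multiplicative.toAdd.injective this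
    refine SemidirectProduct.ext ?_ hr
    exact hφinj (hl.trans (map_one φ).symm)
  have hLsurj : Function.Surjective L := by
    rw [← MonoidHom.range_eq_top, eq_top_iff]
    have e : L.range.comap (QuotientGroup.mk' (K.subgroupOf H)) = ⊤ := by
      rw [eq_top_iff]
      rintro ⟨h, hh⟩ -
      have key : H ≤ (L.range.comap (QuotientGroup.mk' (K.subgroupOf H))).map H.subtype := by
        refine sup_le ?_ ?_
        · rintro _ ⟨q, rfl⟩
          exact ⟨⟨φ q, hφH q⟩, ⟨SemidirectProduct.inl q, by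
            rw [hL, modelHom]; exact SemidirectProduct.lift_inl ..⟩, rfl⟩
        · rw [Subgroup.zpowers_le]
          refine ⟨⟨g, hgH⟩, ⟨SemidirectProduct.inr (Multiplicative.ofAdd 1), ?_⟩, rfl⟩
          rw [hL, modelHom, SemidirectProduct.lift_inr]
          show gb ^ (1 : ZMod 3).val = gb
          rw [show (1 : ZMod 3).val = 1 from rfl, pow_one]
      obtain ⟨y, hy, hyh⟩ := key hh
      exact (Subtype.coe_injective hyh : y = ⟨h, hh⟩) ▸ hy
    intro y _
    obtain ⟨y', rfl⟩ := QuotientGroup.mk'_surjective (K.subgroupOf H) y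
    have : y' ∈ L.range.comap (QuotientGroup.mk' (K.subgroupOf H)) := e ▸ Subgroup.mem_top y'
    exact this
  let i' : Matrix.SpecialLinearGroup (Fin 2) (ZMod 3) := ⟨!![0, 1; -1, 0], by decide⟩
  let j' : Matrix.SpecialLinearGroup (Fin 2) (ZMod 3) := ⟨!![1, -1; -1, -1], by decide⟩
  let t' : Matrix.SpecialLinearGroup (Fin 2) (ZMod 3) :=
    ⟨!![1, -1; 0, 1], by decide⟩
  let ψ : QuaternionGroup 2 →* Matrix.SpecialLinearGroup (Fin 2) (ZMod 3) :=
    MonoidHom.mk' (qFun i' j') (qFun_mul (by decide +kernel) (by decide +kernel) (by decide +kernel))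
  have ht' : t' ^ 3 = 1 := by decide +kernel
  have hψ : ∀ q, ψ (tau q) = t' * ψ q * t'⁻¹ := by decide +kernel
  set L' := modelHom ψ t' ht' hψ with hL'
  have hL'inj : Function.Injective L' := by
    rw [injective_iff_map_eq_one]
    have key : ∀ (q : QuaternionGroup 2) (k : ZMod 3), qFun i' j' q * t' ^ k.val = 1 → q = 1 ∧ k = 0 := by
      decide +kernel
    intro x hx
    rw [hL', modelHom_apply] at hx
    obtain ⟨e1, e2⟩ := key _ _ hx
    exact SemidirectProduct.ext e1 (Multiplicative.toAdd.injective e2)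
  have hL'bij : Function.Bijective L' := by
    refine (Nat.bijective_iff_injective_and_card L').mpr ⟨hL'inj, ?_⟩
    rw [SemidirectProduct.card, Nat.card_eq_fintype_card, Nat.card_eq_fintype_card,
      Nat.card_eq_fintype_card]
    decide +kernel
  exact ⟨(MulEquiv.ofBijective L ⟨hLinj, hLsurj⟩).symm.trans (MulEquiv.ofBijective L' hL'bij)⟩

/-- Generators from a nontrivial action of odd order on a subgroup of a quaternion group. -/
theorem exists_data [Finite G] {T Q : Subgroup G} (hQT : Q ≤ T) (hT2 : IsPGroup 2 ↥T) {a z : G}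
    (hz : ∀ x ∈ T, x * x = 1 → x = 1 ∨ x = z)
    (ha : ∀ x ∈ T, x ∉ Subgroup.zpowers a → x ^ 4 = 1)
    (hxx : ∀ x ∈ T, ∀ y ∈ T, x ∉ Subgroup.zpowers a → y ∉ Subgroup.zpowers a →
      x⁻¹ * y ∈ Subgroup.zpowers a)
    {g : G} (hgo : Odd (orderOf g)) (hgQ : g ∈ Subgroup.normalizer (Q : Set G))
    (hnc : g ∉ Subgroup.centralizer (Q : Set G)) :
    ∃ g' u v : G, Odd (orderOf g') ∧ u ^ 4 = 1 ∧ u ^ 2 ≠ 1 ∧ v * v = u ^ 2 ∧
      v * u * v⁻¹ = u⁻¹ ∧ g' * u * g'⁻¹ = v ∧ g' * v * g'⁻¹ = u * v := by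
  set σ := MulAut.conj g with hσdef
  have hσQ : ∀ x ∈ Q, g * x * g⁻¹ ∈ Q := fun x hx =>
    (Subgroup.mem_normalizer_iff.mp hgQ x).mp hx
  have hord : ∀ x : G, orderOf (g * x * g⁻¹) = orderOf x := fun x =>
    MulEquiv.orderOf_eq (MulAut.conj g) x
  have h2pow : ∀ x ∈ T, ∃ j : ℕ, x ^ 2 ^ j = 1 := fun x hx => by
    obtain ⟨j, hj⟩ := hT2 ⟨x, hx⟩
    exact ⟨j, congrArg Subtype.val hj⟩
  have hfix : ∀ x ∈ Q, g * x * g⁻¹ ∈ Subgroup.zpowers x → g * x * g⁻¹ = x := fun x hx h => by
    obtain ⟨j, hj⟩ := h2pow x (hQT hx)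
    exact cyclic_fix hgo j x hj h
  by_cases h4 : ∀ x ∈ Q, x ^ 4 = 1
  swap
  · exfalso
    push Not at h4
    obtain ⟨w, hwQ, hw⟩ := h4
    have hbig : ∀ x ∈ Q, x ^ 4 ≠ 1 → g * x * g⁻¹ = x := by
      intro x hxQ hx
      refine hfix x hxQ ?_
      have hxa : x ∈ Subgroup.zpowers a := by_contra fun h => hx (ha x (hQT hxQ) h)
      have hxa' : g * x * g⁻¹ ∈ Subgroup.zpowers a := by
        refine by_contra fun h => hx ?_
        have := ha _ (hQT (hσQ x hxQ)) h
        rw [conj_pow] at this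
        exact conj_eq_one_iff.mp this
      have := Involutions.mem_zpowers_of_orderOf_eq (A := ↥(Subgroup.zpowers a))
        (a := ⟨x, hxa⟩) (b := ⟨_, hxa'⟩) (by rw [Subgroup.orderOf_mk, Subgroup.orderOf_mk]; exact hord x)
      obtain ⟨k, hk⟩ := Subgroup.mem_zpowers_iff.mp this
      exact Subgroup.mem_zpowers_iff.mpr ⟨k, by simpa using congrArg Subtype.val hk⟩
    have hA : ∀ x ∈ Q, x ∈ Subgroup.zpowers a → g * x * g⁻¹ = x := by
      intro x hxQ hxa
      by_cases hx : x ^ 4 = 1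
      · have hwa : w ∈ Subgroup.zpowers a := by_contra fun h => hw (ha w (hQT hwQ) h)
        have hcomm : Commute x w := by
          obtain ⟨i, rfl⟩ := Subgroup.mem_zpowers_iff.mp hxa
          obtain ⟨j, rfl⟩ := Subgroup.mem_zpowers_iff.mp hwa
          exact (Commute.refl a).zpow_zpow i j
        have hxw : (x * w) ^ 4 ≠ 1 := by rwa [hcomm.mul_pow, hx, one_mul]
        have h1 := hbig _ (Q.mul_mem hxQ hwQ) hxw
        have h2 := hbig w hwQ hw
        calc g * x * g⁻¹ = (g * (x * w) * g⁻¹) * (g * w * g⁻¹)⁻¹ := by group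
          _ = x := by rw [h1, h2, mul_inv_cancel_right]
      · exact hbig x hxQ hx
    apply hnc
    rw [Subgroup.mem_centralizer_iff]
    intro x hxQ
    suffices g * x * g⁻¹ = x by
      calc x * g = (g * x * g⁻¹) * g := by rw [this]
        _ = g * x := by group
    by_cases hxa : x ∈ Subgroup.zpowers a
    · exact hA x hxQ hxa
    have hσa : g * x * g⁻¹ ∉ Subgroup.zpowers a := by
      intro h
      apply hxa
      have := hA _ (hσQ x hxQ) h
      have e : g * x * g⁻¹ = x := by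
        calc g * x * g⁻¹ = g⁻¹ * (g * (g * x * g⁻¹) * g⁻¹) * g := by group
          _ = g⁻¹ * (g * x * g⁻¹) * g := by rw [this]
          _ = x := by group
      rwa [e] at h
    have hc := hxx x (hQT hxQ) _ (hQT (hσQ x hxQ)) hxa hσa
    have hcQ : x⁻¹ * (g * x * g⁻¹) ∈ Q := Q.mul_mem (Q.inv_mem hxQ) (hσQ x hxQ)
    obtain ⟨j, hj⟩ := h2pow _ (hQT hcQ)
    exact shift_trivial hgo (by group) (hA _ hcQ hc) hj
  -- exponent 4
  obtain ⟨u, huQ, hu⟩ : ∃ u ∈ Q, g * u * g⁻¹ ≠ u := by
    by_contra h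
    push Not at h
    apply hnc
    rw [Subgroup.mem_centralizer_iff]
    intro x hx
    calc x * g = (g * x * g⁻¹) * g := by rw [h x hx]
      _ = g * x := by group
  have hu4 : u ^ 4 = 1 := h4 u huQ
  have hsq1 : ∀ x ∈ Q, x ^ 2 = 1 → g * x * g⁻¹ = x := by
    intro x hxQ hx
    refine hfix x hxQ ?_
    rcases hz _ (hQT hxQ) (by rwa [← sq]) with h | h
    · rw [h, mul_one, mul_inv_cancel]; exact one_mem _
    · rcases hz _ (hQT (hσQ x hxQ)) (by rw [← sq, conj_pow, hx, mul_one, mul_inv_cancel]) with h' | h'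
      · rw [h']; exact one_mem _
      · rw [h', ← h]; exact Subgroup.mem_zpowers x
  have hord2 : ∀ x ∈ Q, x ^ 2 ≠ 1 → x ^ 2 = z := by
    intro x hxQ hx
    rcases hz _ (hQT (Q.pow_mem hxQ 2)) (by rw [← pow_add]; exact h4 x hxQ) with h | h
    · exact absurd h hx
    · exact h
  have hu2 : u ^ 2 ≠ 1 := fun h => hu (hsq1 u huQ h)
  set v := g * u * g⁻¹ with hv
  have hvQ : v ∈ Q := hσQ u huQ
  have hv2 : v ^ 2 ≠ 1 := by
    rw [hv, conj_pow, Ne, conj_eq_one_iff]; exact hu2
  -- commuting elements of order four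
  have hcommute : ∀ x ∈ Q, ∀ y ∈ Q, x ^ 2 ≠ 1 → x * y = y * x → y ∈ Subgroup.zpowers x := by
    intro x hx y hy hx2 hc
    by_cases hy2 : y ^ 2 = 1
    · rcases hz _ (hQT hy) (by rwa [← sq]) with h | h
      · rw [h]; exact one_mem _
      · rw [h, ← hord2 x hx hx2]; exact pow_mem (Subgroup.mem_zpowers x) 2
    · have h1 : (x⁻¹ * y) ^ 2 = 1 := by
        rw [(Commute.inv_left hc).mul_pow, inv_pow, hord2 x hx hx2, hord2 y hy hy2, inv_mul_cancel]
      rcases hz _ (hQT (Q.mul_mem (Q.inv_mem hx) hy)) (by rwa [← sq]) with h | h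
      · rw [← mul_inv_cancel_left x y, h, mul_one]; exact Subgroup.mem_zpowers x
      · rw [← mul_inv_cancel_left x y, h, ← hord2 x hx hx2]
        exact mul_mem (Subgroup.mem_zpowers x) (pow_mem (Subgroup.mem_zpowers x) 2)
  have hanti : ∀ x ∈ Q, ∀ y ∈ Q, x ^ 2 ≠ 1 → y ^ 2 ≠ 1 → y ∉ Subgroup.zpowers x →
      y * x * y⁻¹ = x⁻¹ ∧ (x * y) ^ 2 ≠ 1 := by
    intro x hx y hy hx2 hy2 hne
    have hxy : (x * y) ^ 2 ≠ 1 := by
      intro h
      apply hne
      rcases hz _ (hQT (Q.mul_mem hx hy)) (by rwa [← sq]) with e | e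
      · rw [eq_inv_of_mul_eq_one_right e]; exact inv_mem (Subgroup.mem_zpowers x)
      · rw [eq_inv_mul_iff_mul_eq.mpr e, ← hord2 x hx hx2]
        exact mul_mem (inv_mem (Subgroup.mem_zpowers x)) (pow_mem (Subgroup.mem_zpowers x) 2)
    refine ⟨?_, hxy⟩
    have e1 := hord2 _ (Q.mul_mem hx hy) hxy
    rw [← hord2 y hy hy2, sq, sq] at e1
    have e2 : x * y * x = y := mul_right_cancel (b := y) (by rw [← e1]; group)
    calc y * x * y⁻¹ = x⁻¹ * (x * y * x) * y⁻¹ := by group
      _ = x⁻¹ := by rw [e2, mul_inv_cancel_right]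
  have hvu : v ∉ Subgroup.zpowers u := fun h => hu (hfix u huQ h)
  obtain ⟨hinv, huv2⟩ := hanti u huQ v hvQ hu2 hv2 hvu
  have hvv : v * v = u ^ 2 := by rw [← sq, hord2 v hvQ hv2, hord2 u huQ hu2]
  set w := g * v * g⁻¹ with hw
  have hwQ : w ∈ Q := hσQ v hvQ
  have hw2 : w ^ 2 ≠ 1 := by rw [hw, conj_pow, Ne, conj_eq_one_iff]; exact hv2
  have hwu : w ∉ Subgroup.zpowers u := by
    intro h
    apply hu
    have hg2 : Odd (orderOf (g ^ 2)) := by
      rw [Nat.Coprime.orderOf_pow (Nat.coprime_two_right.mpr hgo)]; exact hgo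
    obtain ⟨j, hj⟩ := h2pow u (hQT huQ)
    have e : g ^ 2 * u * (g ^ 2)⁻¹ = w := by
      rw [hw, hv]; simp only [pow_succ, pow_zero, one_mul, mul_inv_rev, mul_assoc]
    have hfix2 := cyclic_fix hg2 j u hj (by rw [e]; exact h)
    have hmem : g ∈ Subgroup.zpowers (g ^ 2) :=
      mem_zpowers_pow_iff.mpr (Nat.coprime_two_left.mpr hgo)
    obtain ⟨k, hk⟩ := Subgroup.mem_zpowers_iff.mp hmem
    have hcu : Commute (g ^ 2) u := by
      show g ^ 2 * u = u * g ^ 2
      rw [← mul_inv_eq_iff_eq_mul]; exact hfix2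
    have := hcu.zpow_left k
    rw [hk] at this
    rw [hv, this.eq, mul_inv_cancel_right]
  have hwv : w ∉ Subgroup.zpowers v := by
    intro h
    apply hu
    have h1 : w = v := hfix v hvQ h
    calc g * u * g⁻¹ = v := hv.symm
      _ = g⁻¹ * (g * v * g⁻¹) * g := by group
      _ = g⁻¹ * v * g := by rw [← hw, h1]
      _ = u := by rw [hv]; group
  have hinvw := (hanti u huQ w hwQ hu2 hw2 hwu).1
  have hinvw' := (hanti v hvQ w hwQ hv2 hw2 hwv).1
  set s := (u * v)⁻¹ * w with hs
  have hsQ : s ∈ Q := Q.mul_mem (Q.inv_mem (Q.mul_mem huQ hvQ)) hwQ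
  have hsu : u * s = s * u := by
    have h : s * u * s⁻¹ = u := by
      calc s * u * s⁻¹ = v⁻¹ * (u⁻¹ * (w * u * w⁻¹) * u) * v := by rw [hs]; group
        _ = v⁻¹ * u⁻¹ * v := by rw [hinvw]; group
        _ = v⁻¹ * (v * u * v⁻¹) * v := by rw [hinv]
        _ = u := by group
    calc u * s = (s * u * s⁻¹) * s := by rw [h]
      _ = s * u := by group
  have hsv : v * s = s * v := by
    have huv' : u * v * u⁻¹ = v⁻¹ := by
      refine (hanti v hvQ u huQ hv2 hu2 ?_).1
      intro h
      obtain ⟨k, hk⟩ := Subgroup.mem_zpowers_iff.mp h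
      rw [← hk, ((Commute.refl v).zpow_right k).eq, mul_inv_cancel_right, hk] at hinv
      exact hu2 (by rw [sq]; exact eq_inv_iff_mul_eq_one.mp hinv)
    have h : s * v * s⁻¹ = v := by
      calc s * v * s⁻¹ = v⁻¹ * (u⁻¹ * (w * v * w⁻¹) * u) * v := by rw [hs]; group
        _ = v⁻¹ * (u⁻¹ * v⁻¹ * u) * v := by rw [hinvw']
        _ = v⁻¹ * (u⁻¹ * (u * v * u⁻¹) * u) * v := by rw [huv']
        _ = v := by group
    calc v * s = (s * v * s⁻¹) * s := by rw [h]
      _ = s * v := by group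
  have hs1 : s = 1 ∨ s = z := by
    have h1 := hcommute u huQ s hsQ hu2 hsu
    have h2 := hcommute v hvQ s hsQ hv2 hsv
    refine hz _ (hQT hsQ) ?_
    by_contra hs2
    rw [← sq] at hs2
    apply hvu
    have hu4' : orderOf s = 4 :=
      (orderOf_eq_prime_pow (p := 2) (n := 1) (x := s) (by rwa [pow_one]) (by norm_num; exact h4 s hsQ)).trans (by norm_num)
    have hou : orderOf u = 4 :=
      (orderOf_eq_prime_pow (p := 2) (n := 1) (x := u) (by rwa [pow_one]) (by norm_num; exact hu4)).trans (by norm_num)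
    have hov : orderOf v = 4 := by rw [hv, hord, hou]
    have e1 : Subgroup.zpowers s = Subgroup.zpowers u :=
      Subgroup.eq_of_le_of_card_ge (Subgroup.zpowers_le.mpr h1) (by rw [Nat.card_zpowers, Nat.card_zpowers, hu4', hou])
    have e2 : Subgroup.zpowers s = Subgroup.zpowers v :=
      Subgroup.eq_of_le_of_card_ge (Subgroup.zpowers_le.mpr h2) (by rw [Nat.card_zpowers, Nat.card_zpowers, hu4', hov])
    rw [← e1, e2]
    exact Subgroup.mem_zpowers v
  have hwe : w = u * v * s := by rw [hs]; group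
  rcases hs1 with h | h
  · exact ⟨g, u, v, hgo, hu4, hu2, hvv, hinv, rfl, by rw [← hw, hwe, h, mul_one]⟩
  · -- replace `g` by `g⁻¹`
    have hwz : w = u * v * v ^ 2 := by rw [hwe, h, hord2 v hvQ hv2]
    have hvu' : v * u = w := by
      have hu' : v * u = u⁻¹ * v := by rw [← hinv]; group
      have huv2 : v ^ 2 = u ^ 2 := (sq v).trans hvv
      have hu3 : u⁻¹ = u * u ^ 2 :=
        inv_eq_of_mul_eq_one_right (by rw [← pow_succ', ← pow_succ']; exact hu4)
      rw [hwz, hu', hu3, ← huv2]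
      simp only [pow_succ, pow_zero, one_mul, mul_assoc]
    have hσw : g * w * g⁻¹ = u := by
      calc g * w * g⁻¹ = g * (v * u) * g⁻¹ := by rw [hvu']
        _ = w * v := by rw [hw, hv]; group
        _ = u := by
          rw [hwz, show u * v * v ^ 2 * v = u * v ^ 4 by group, h4 v hvQ, mul_one]
    refine ⟨g⁻¹, u, w, by rwa [orderOf_inv], hu4, hu2, ?_, hinvw, ?_, ?_⟩
    · rw [← sq, hord2 w hwQ hw2, hord2 u huQ hu2]
    · rw [inv_inv, ← hσw]; group
    · rw [inv_inv, show g⁻¹ * w * g = v by rw [hw]; group, hwz]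
      symm
      calc u * (u * v * v ^ 2) = u ^ 2 * (v * v ^ 2) := by
            simp only [pow_succ, pow_zero, one_mul, mul_assoc]
        _ = v * v * (v * v ^ 2) := by rw [← hvv]
        _ = v * v ^ 4 := by simp only [pow_succ, pow_zero, one_mul, mul_assoc]
        _ = v := by rw [h4 v hvQ, mul_one]

theorem quat_mem_zpowers {m : ℕ} [NeZero m] (i : ZMod (2 * m)) :
    (QuaternionGroup.a i : QuaternionGroup m) ∈ Subgroup.zpowers (QuaternionGroup.a 1) := by
  have : NeZero (2 * m) := ⟨by have := NeZero.ne m; omega⟩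
  rw [← ZMod.natCast_zmod_val i, ← QuaternionGroup.a_one_pow]
  exact pow_mem (Subgroup.mem_zpowers _) _

/-- A finite group with generalized quaternion Sylow 2-subgroups either has a normal 2-complement or has a section isomorphic to SL(2,3). -/
theorem result {G : Type*} [Group G] [Finite G] (T : Sylow 2 G) (n : ℕ) (hn : 1 ≤ n) (hT : Nonempty ((T : Subgroup G) ≃* QuaternionGroup (2 ^ n))) : Cfsg.HasNormalPComplement 2 G ∨ ∃ (H K : Subgroup G) (hK : (K.subgroupOf H).Normal), Nonempty ((H ⧸ K.subgroupOf H) ≃* Matrix.SpecialLinearGroup (Fin 2) (ZMod 3)) := by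
  have : Fact (Nat.Prime 2) := ⟨Nat.prime_two⟩
  by_cases hc : Cfsg.HasNormalPComplement 2 G
  · exact Or.inl hc
  right
  obtain ⟨Q, hQT, g, hgQ, hgo, hnc⟩ : ∃ Q : Subgroup G, Q ≤ (T : Subgroup G) ∧
      ∃ g ∈ Subgroup.normalizer (Q : Set G), Nat.Coprime (orderOf g) 2 ∧
        g ∉ Subgroup.centralizer (Q : Set G) := by
    by_contra h
    push Not at h
    exact hc (Transfer.hasNormalPComplement_of_frobenius T h)
  obtain ⟨e⟩ := hT
  set m := 2 ^ n with hm
  have : NeZero m := ⟨by positivity⟩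
  set a : G := ((e.symm (QuaternionGroup.a 1) : ↥(T : Subgroup G)) : G)
  set z : G := ((e.symm (QuaternionGroup.a (m : ZMod (2 * m))) : ↥(T : Subgroup G)) : G)
  have hxa : ∀ x (hx : x ∈ (T : Subgroup G)), x ∉ Subgroup.zpowers a →
      ∃ i, e ⟨x, hx⟩ = QuaternionGroup.xa i := by
    intro x hx hxn
    rcases he : e ⟨x, hx⟩ with i | i
    · exfalso
      apply hxn
      obtain ⟨k, hk⟩ := Subgroup.mem_zpowers_iff.mp (quat_mem_zpowers i)
      refine Subgroup.mem_zpowers_iff.mpr ⟨k, ?_⟩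
      rw [← SubgroupClass.coe_zpow, ← map_zpow, hk, ← he, e.symm_apply_apply]
    · exact ⟨i, rfl⟩
  obtain ⟨g', u, v, h1, h2, h3, h4, h5, h6, h7⟩ := exists_data hQT T.2 (a := a) (z := z)
    (fun x hx hxx => by
      rcases eq_or_ne x 1 with h | h
      · exact Or.inl h
      right
      have ho : orderOf (e ⟨x, hx⟩) = 2 := by
        rw [MulEquiv.orderOf_eq, Subgroup.orderOf_mk]
        exact orderOf_eq_prime (by rw [sq]; exact hxx) h
      show x = ((e.symm _ : ↥(T : Subgroup G)) : G)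
      rw [← Characters.quat_involution ho, e.symm_apply_apply])
    (fun x hx hxn => by
      obtain ⟨i, hi⟩ := hxa x hx hxn
      have := congrArg e.symm (QuaternionGroup.xa_pow_four i)
      rw [← hi, map_one, map_pow, e.symm_apply_apply] at this
      exact congrArg Subtype.val this)
    (fun x hx y hy hxn hyn => by
      obtain ⟨i, hi⟩ := hxa x hx hxn
      obtain ⟨j, hj⟩ := hxa y hy hyn
      by_contra hne
      obtain ⟨k, hk⟩ := hxa (x⁻¹ * y) ((T : Subgroup G).mul_mem ((T : Subgroup G).inv_mem hx) hy) hne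
      have heq : e ⟨x⁻¹ * y, (T : Subgroup G).mul_mem ((T : Subgroup G).inv_mem hx) hy⟩ =
          (e ⟨x, hx⟩)⁻¹ * e ⟨y, hy⟩ := by
        rw [← map_inv, ← map_mul]
        rfl
      rw [hk, hi, hj] at heq
      have h' := congrArg (fun q => QuaternionGroup.xa i * q) heq
      simp only [mul_inv_cancel_left, QuaternionGroup.xa_mul_xa] at h'
      cases h')
    (Nat.coprime_two_right.mp hgo) hgQ hnc
  exact section_of_data h1 h2 h3 h4 h5 h6 h7

end Cfsg.Agent.S0106
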