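import Mathlib
import Cfsg.Statements.S0107
import Cfsg.Agent.Lib.Involutions.DihedralKlein

set_option autoImplicit false
open Cfsg

namespace Cfsg.Agent.S0107

open Cfsg.Agent.Lib.Involutions

/-- A finite group with no nontrivial 2-group quotient and dihedral Sylow 2-subgroups of order at least 8 has a single class of involutions. -/
theorem result {G : Type*} [Group G] [Finite G] (T : Sylow 2 G) (n : ℕ) (hn : 2 ≤ n) (hT : Nonempty ((T : Subgroup G) ≃* DihedralGroup (2 ^ n))) (hO : Cfsg.pResidual 2 G = ⊤) (x y : G) (hx : orderOf x = 2) (hy : orderOf y = 2) : ∃ g : G, g * x * g⁻¹ = y := by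
  classical
  have : Fact (Nat.Prime 2) := ⟨Nat.prime_two⟩
  obtain ⟨eS⟩ := hT
  have hm : 2 ≤ 2 ^ n := le_trans hn Nat.lt_two_pow_self.le
  set d := DihSylow.ofEquiv T hm eS with hd
  set z := d.ι (DihedralGroup.r (DihSylow.half (2 ^ n))) with hz
  have hall : ∀ a : G, orderOf a = 2 → IsConj a z := by
    intro a ha
    have hp : IsPGroup 2 (Subgroup.zpowers a) :=
      IsPGroup.of_card (n := 1) (by rw [Nat.card_zpowers, ha, pow_one])
    obtain ⟨g, hg⟩ := conj_le_sylow d.S hp
    have hmem := hg ⟨a, Subgroup.mem_zpowers a, rfl⟩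
    refine (isConj_iff.2 ⟨g, rfl⟩ : IsConj a (g * a * g⁻¹)).trans ?_
    rcases d.invol_cases ((orderOf_conj_eq g a).trans ha) hmem with h' | ⟨i, h'⟩
    · rw [h']
    · rw [h']
      refine (d.exists_index_two_or_conj i).resolve_left ?_
      rintro ⟨M, hM, hMi, hiM⟩
      have := Subgroup.normal_of_index_eq_two hMi
      have hle := Cfsg.Agent.Lib.Transfer.pResidual_le_of_index (p := 2) (k := 1) (N := M)
        (by rw [hMi, pow_one])
      rw [hO, top_le_iff] at hle
      exact hiM (hle ▸ Subgroup.mem_top _)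
  exact isConj_iff.1 ((hall x hx).trans (hall y hy).symm)

end Cfsg.Agent.S0107
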