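import Cfsg.Statements.S0109
import Cfsg.Agent.Lib.FusionControl.SolvableStable
import Cfsg.Agent.Lib.PLocal.Factor
import Cfsg.Agent.Lib.PLocal.Thompson
import Cfsg.Agent.Lib.OddLocal.PStable
import Cfsg.Agent.Lib.LocalEven2.Thompson

set_option autoImplicit false
open Cfsg

namespace Cfsg.Agent.S0109

universe u

open Matrix in
theorem sylow_two_sl_not_comm {H : Type*} [Group H]
    (f : H →* SpecialLinearGroup (Fin 2) (ZMod 3)) (hf : Function.Surjective f) [Finite H]
    (hab : ∀ T : Sylow 2 H, IsMulCommutative T) : False := by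
  let i : SpecialLinearGroup (Fin 2) (ZMod 3) := ⟨!![0, 1; -1, 0], by decide⟩
  let j : SpecialLinearGroup (Fin 2) (ZMod 3) := ⟨!![1, 1; 1, -1], by decide⟩
  have hclosed : ∀ a b : SpecialLinearGroup (Fin 2) (ZMod 3), a ^ 4 = 1 → b ^ 4 = 1 → (a * b) ^ 4 = 1 := by
    decide +kernel
  let Q : Subgroup (SpecialLinearGroup (Fin 2) (ZMod 3)) :=
    { carrier := {a | a ^ 4 = 1}
      one_mem' := one_pow 4
      mul_mem' := fun {a b} ha hb => hclosed a b ha hb
      inv_mem' := fun {a} ha => by simp only [Set.mem_setOf_eq] at ha ⊢; rw [inv_pow, ha, inv_one] }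
  have hQ : IsPGroup 2 Q := fun a => ⟨2, Subtype.ext (by rw [SubmonoidClass.coe_pow]; exact a.2)⟩
  obtain ⟨S, hS⟩ := hQ.exists_le_sylow
  obtain ⟨T, hT⟩ := Sylow.mapSurjective_surjective hf 2 S
  have hc := hab T
  have hi : i ∈ (S : Subgroup _) := hS (show i ^ 4 = 1 by decide +kernel)
  have hj : j ∈ (S : Subgroup _) := hS (show j ^ 4 = 1 by decide +kernel)
  rw [← hT, Sylow.coe_mapSurjective] at hi hj
  obtain ⟨x, hx, hxi⟩ := hi
  obtain ⟨y, hy, hyj⟩ := hj
  have hxy : x * y = y * x := congrArg Subtype.val (hc.is_comm.comm (⟨x, hx⟩ : ↥(T : Subgroup H)) ⟨y, hy⟩)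
  have := congrArg f hxy
  rw [map_mul, map_mul, hxi, hyj] at this
  exact absurd this (by decide +kernel)

theorem not_involves_qd_three {X : Type u} [Group X] [Finite X]
    (hab : ∀ T : Sylow 2 X, IsMulCommutative T) : ¬ Cfsg.Involves ↥(Cfsg.qd 3) X := by
  have : Fact (Nat.Prime 3) := ⟨Nat.prime_three⟩
  rintro ⟨K, R, hR, ⟨e⟩⟩
  let f0 : ↥K →* ↥(Cfsg.qdOver (ZMod 3)) :=
    (e.toMonoidHom).comp (QuotientGroup.mk' (R.subgroupOf K))
  have hf0 : Function.Surjective f0 := e.surjective.comp (QuotientGroup.mk'_surjective _)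
  refine sylow_two_sl_not_comm (Cfsg.Agent.Lib.LocalEven.Qd.proj.comp f0)
    (Cfsg.Agent.Lib.LocalEven.Qd.proj_surjective.comp hf0) fun T => ?_
  obtain ⟨S, hS⟩ := (T.2.map K.subtype).exists_le_sylow
  have := hab S
  exact ⟨⟨fun a b => Subtype.ext (Subtype.ext (show ((a : ↥K) : X) * ((b : ↥K) : X) = ((b : ↥K) : X) * ((a : ↥K) : X) from congrArg Subtype.val (this.is_comm.comm
    (⟨((a : ↥K) : X), hS ⟨a, a.2, rfl⟩⟩ : ↥(S : Subgroup X))
    ⟨((b : ↥K) : X), hS ⟨b, b.2, rfl⟩⟩)))⟩⟩

/-- The Thompson factorization Theorem for solvable groups states that, with p odd (and abelian Sylow 2-subgroups when p = 3) and no nontrivial normal subgroup of order prime to p, every element of G is a product of an element normalizing J(P) and an element centralizing the elements of order dividing p in the centre of P. -/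
theorem result {G : Type*} [Group G] [Finite G] {p : ℕ} [Fact p.Prime] (hp : p ≠ 2) (hs : Group.IsSolvable G) (h3 : p = 3 → ∀ T : Sylow 2 G, IsMulCommutative T) (hF : ∀ N : Subgroup G, N.Normal → Nat.Coprime (Nat.card N) p → N = ⊥) (P : Sylow p G) (g : G) : ∃ a ∈ Subgroup.normalizer (Cfsg.thompsonSubgroupOf p (P : Subgroup G) : Set G), ∃ c ∈ Subgroup.centralizer {x : G | x ∈ (P : Subgroup G) ∧ (∀ y ∈ (P : Subgroup G), x * y = y * x) ∧ x ^ p = 1}, g = a * c := by
  classical
  open Cfsg.Agent.Lib in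
  have hst : Cfsg.IsNormalizerPStable p G := by
    rcases eq_or_ne p 3 with rfl | h3p
    · exact PLocal.isNormalizerPStable_of_qdFree PLocal.dicksonTwo hp (not_involves_qd_three (h3 rfl))
    · refine FusionControl.isNormalizerPStable_of_isSolvable hs ?_
      by_contra hlt
      have hp2 := (Fact.out : p.Prime).two_le
      have hpp : p.Prime := Fact.out
      interval_cases p <;> first | exact hp rfl | exact h3p rfl | exact absurd hpp (by decide)
  have : Group.IsSolvable G := hs
  have hcore : Cfsg.pPrimeCore p G = ⊥ :=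
    hF _ inferInstance (Cfsg.Agent.Lib.Cores.pPrimeCore_coprime p G)
  set Om : Set G := {x : G | x ∈ (P : Subgroup G) ∧ (∀ y ∈ (P : Subgroup G), x * y = y * x) ∧ x ^ p = 1} with hOm
  set Q : Subgroup G := Cfsg.pCore p G with hQ
  have hCQ := Cfsg.Agent.Lib.OddLocal.centralizer_pCore_le hcore
  have hQP : Q ≤ (P : Subgroup G) := Cfsg.Agent.Lib.Cores.pCore_le_sylow P
  set V : Subgroup G := Subgroup.normalClosure Om with hV
  have hOmQ : ∀ x ∈ Om, x ∈ Q ⊓ Subgroup.centralizer (Q : Set G) := by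
    intro x hx
    have hxc : x ∈ Subgroup.centralizer (Q : Set G) :=
      Subgroup.mem_centralizer_iff.mpr fun y hy => (hx.2.1 y (hQP hy)).symm
    exact ⟨hCQ hxc, hxc⟩
  have hQn : Q.Normal := by rw [hQ]; infer_instance
  have hVQ : V ≤ Q ⊓ Subgroup.centralizer (Q : Set G) := Subgroup.normalClosure_le_normal hOmQ
  have hVe : Cfsg.IsElementaryAbelian p V := by
    rw [hV, Subgroup.normalClosure]
    have hs' : ∀ a ∈ Group.conjugatesOfSet Om, a ∈ Q ⊓ Subgroup.centralizer (Q : Set G) :=
      fun a ha => hVQ (Subgroup.conjugatesOfSet_subset_normalClosure ha)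
    refine Cfsg.Agent.Lib.PLocal.elemAb_closure
      (fun a ha b hb => (Subgroup.mem_centralizer_iff.mp (hs' b hb).2 a (hs' a ha).1)) ?_
    intro a ha
    obtain ⟨x, hx, hxa⟩ := Group.mem_conjugatesOfSet_iff.mp ha
    obtain ⟨c, rfl⟩ := isConj_iff.mp hxa
    rw [conj_pow, hx.2.2, mul_one, mul_inv_cancel]
  have hVP : V ≤ (P : Subgroup G) := hVQ.trans (inf_le_left.trans hQP)
  have hVp : IsPGroup p V := P.2.to_le hVP
  set C : Subgroup G := Subgroup.centralizer (V : Set G) with hC
  have hCn : C.Normal := by rw [hC]; infer_instance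
  suffices hJ : Cfsg.thompsonSubgroupOf p (P : Subgroup G) ≤ C by
    have htop := Cfsg.Agent.Lib.PLocal.sup_normalizer_thompson_eq_top P C hJ
    have hg : g ∈ Subgroup.normalizer (Cfsg.thompsonSubgroupOf p (P : Subgroup G) : Set G) ⊔ C := by
      rw [sup_comm, htop]; exact Subgroup.mem_top g
    obtain ⟨a, ha, c, hc, rfl⟩ := Subgroup.mem_sup_of_normal_right.mp hg
    refine ⟨a, ha, c, ?_, rfl⟩
    exact Subgroup.centralizer_le Subgroup.subset_normalClosure hc
  -- quadratic elements centralise `V`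
  have hquad : ∀ a : G, ⁅⁅V, Subgroup.zpowers a⁆, Subgroup.zpowers a⁆ = ⊥ → a ∈ C := by
    intro a haq
    have htopN : Subgroup.normalizer (V : Set G) = ⊤ := Subgroup.normalizer_eq_top _
    have h := hst V hVp a (by rw [htopN]; exact Subgroup.mem_top a) haq
    set W : Subgroup G := Subgroup.normalizer (V : Set G) with hW
    set C' : Subgroup ↥W := (Subgroup.centralizer (V : Set G)).subgroupOf W with hC'
    set K' : Subgroup ↥W := (Cfsg.pCore p (↥W ⧸ C')).comap (QuotientGroup.mk' C') with hK'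
    set K : Subgroup G := K'.map W.subtype with hK
    have haK : a ∈ K := ⟨⟨a, by rw [htopN]; exact Subgroup.mem_top a⟩, h, rfl⟩
    have hWsurj : Function.Surjective W.subtype := fun x => ⟨⟨x, by rw [htopN]; exact Subgroup.mem_top x⟩, rfl⟩
    have hKn : K.Normal := Subgroup.Normal.map inferInstance W.subtype hWsurj
    have hCK : C ≤ K := by
      intro x hx
      refine ⟨⟨x, by rw [htopN]; exact Subgroup.mem_top x⟩, ?_, rfl⟩
      rw [SetLike.mem_coe, hK', Subgroup.mem_comap,
        show QuotientGroup.mk' C' ⟨x, _⟩ = 1 from (QuotientGroup.eq_one_iff _).mpr (Subgroup.mem_subgroupOf.mpr hx)]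
      exact one_mem _
    have hidx : ∀ x ∈ K, ∃ k : ℕ, x ^ p ^ k ∈ C := by
      rintro _ ⟨y, hy, rfl⟩
      obtain ⟨k, hk⟩ := Cfsg.Agent.Lib.Cores.pCore_isPGroup p (↥W ⧸ C') ⟨_, hy⟩
      refine ⟨k, ?_⟩
      have hk' : QuotientGroup.mk' C' (y ^ p ^ k) = 1 := by
        rw [map_pow]; exact congrArg Subtype.val hk
      exact Subgroup.mem_subgroupOf.mp ((QuotientGroup.eq_one_iff _).mp hk')
    have hKC : K ≤ C ⊔ ((P : Subgroup G) ⊓ K) := by
      rw [← Subgroup.relIndex_eq_one]
      by_contra hne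
      obtain ⟨r, hr, hrd⟩ := Nat.exists_prime_and_dvd hne
      have hr1 : r ∣ C.relIndex K := hrd.trans (Subgroup.relIndex_dvd_of_le_left _ le_sup_left)
      have hr2 : r ∣ ((P : Subgroup G) ⊓ K).relIndex K :=
        hrd.trans (Subgroup.relIndex_dvd_of_le_left _ le_sup_right)
      rw [Subgroup.inf_relIndex_right] at hr2
      have hrp : r ≠ p := by
        rintro rfl
        exact P.not_dvd_index (hr2.trans
          (Cfsg.Agent.Lib.PGroups.relIndex_dvd_index_of_normal_right K _))
      have hpg : IsPGroup p (↥K ⧸ C.subgroupOf K) := by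
        intro q
        induction q using QuotientGroup.induction_on with
        | H x =>
          obtain ⟨k, hk⟩ := hidx x x.2
          refine ⟨k, ?_⟩
          rw [← QuotientGroup.mk_pow, QuotientGroup.eq_one_iff, Subgroup.mem_subgroupOf,
            SubmonoidClass.coe_pow]
          exact hk
      obtain ⟨n, hn⟩ := IsPGroup.iff_card.mp hpg
      rw [Subgroup.relIndex, Subgroup.index, hn] at hr1
      exact hrp ((Nat.prime_dvd_prime_iff_eq hr Fact.out).mp (hr.dvd_of_dvd_pow hr1))
    have hKz : ∀ z ∈ Om, ∀ k ∈ K, k * z = z * k := by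
      intro z hz k hk
      have : K ≤ Subgroup.centralizer ({z} : Set G) := hKC.trans (sup_le
        (Subgroup.centralizer_le (Set.singleton_subset_iff.mpr (Subgroup.subset_normalClosure hz)))
        (fun y hy => Subgroup.mem_centralizer_singleton_iff.mpr (hz.2.1 y hy.1).symm))
      exact Subgroup.mem_centralizer_singleton_iff.mp (this hk)
    have : K ≤ C := by
      rw [hC, Subgroup.le_centralizer_iff]
      refine Subgroup.normalClosure_le_normal fun z hz => ?_
      exact Subgroup.mem_centralizer_iff.mpr fun k hk => hKz z hz k hk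
    exact this haK
  -- replacement
  refine Cfsg.Agent.Lib.LocalEven2.thompsonSubgroupOf_le_of fun A hA => ?_
  by_contra hAC
  set S : Subgroup G := (P : Subgroup G) with hS
  set A0 : Subgroup ↥S := A.subgroupOf S with hA0
  set V0 : Subgroup ↥S := V.subgroupOf S with hV0
  have : V0.Normal := (inferInstance : V.Normal).comap S.subtype
  obtain ⟨hmax, hq, hne⟩ := Cfsg.Agent.Lib.PLocal.replacement_maxElemAb (p := p) V0
    ((Cfsg.Agent.Lib.LocalEven2.isElementaryAbelian_map_subtype V0).mp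
      (by rw [hV0, Subgroup.map_subgroupOf_eq_of_le hVP]; exact hVe))
    hA.mem (by rw [Subgroup.normalizer_eq_top]; exact le_top)
  set B : Subgroup ↥S := ⁅V0, A0⁆ ⊔ (A0 ⊓ Subgroup.centralizer ((⁅V0, A0⁆ : Subgroup ↥S) : Set ↥S)) with hB
  have h0 : ⁅V0, A0⁆ ≠ ⊥ := by
    intro h0
    refine hAC fun a ha => Subgroup.mem_centralizer_iff.mpr fun v hv => ?_
    have := Subgroup.commutator_eq_bot_iff_le_centralizer.mp h0 (show (⟨v, hVP hv⟩ : ↥S) ∈ V0 from hv)
    exact (congrArg Subtype.val (Subgroup.mem_centralizer_iff.mp this ⟨a, hA.1 ha⟩ ha)).symm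
  refine hne h0 (Subgroup.commutator_eq_bot_iff_le_centralizer.mpr fun v hv => ?_)
  refine Subgroup.mem_centralizer_iff.mpr fun b hb => Subtype.ext ?_
  have hbC : (b : G) ∈ C := by
    refine hquad _ ?_
    have hz : Subgroup.zpowers (b : G) = (Subgroup.zpowers b).map S.subtype := by
      rw [MonoidHom.map_zpowers]; rfl
    rw [← Subgroup.map_subgroupOf_eq_of_le hVP, ← hV0, hz, ← Subgroup.map_commutator,
      ← Subgroup.map_commutator, ← Subgroup.map_bot S.subtype]
    congr 1
    exact le_bot_iff.mp (hq ▸ Subgroup.commutator_mono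
      (Subgroup.commutator_mono le_rfl (Subgroup.zpowers_le.mpr hb)) (Subgroup.zpowers_le.mpr hb))
  exact (Subgroup.mem_centralizer_iff.mp hbC (v : G) hv).symm

end Cfsg.Agent.S0109
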