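import Cfsg.Statements.S0110
import Cfsg.Agent.Lib.PLocal.PGroupBasic

set_option autoImplicit false
open Cfsg

namespace Cfsg.Agent.S0110

set_option linter.style.haveILetI false
open scoped commutatorElement

/-- In a p-group G, an extraspecial subgroup E with [G, E] ≤ Z(E) satisfies G = E C_G(E). -/
theorem result {G : Type*} [Group G] [Finite G] {p : ℕ} [Fact p.Prime] (hG : IsPGroup p G) (E : Subgroup G) (hE : Cfsg.IsExtraspecial p E) (h : ⁅(⊤ : Subgroup G), E⁆ ≤ E ⊓ Subgroup.centralizer (E : Set G)) : E ⊔ Subgroup.centralizer (E : Set G) = ⊤ := by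
  classical
  obtain ⟨⟨hEp, hfr, hcm⟩, hZ⟩ := hE
  set Z₀ := E ⊓ Subgroup.centralizer (E : Set G) with hZ₀
  have hmemZ : ∀ z : E, z ∈ Subgroup.center E ↔ (z : G) ∈ Z₀ := by
    intro z
    rw [hZ₀, Subgroup.mem_inf, Subgroup.mem_center_iff]
    constructor
    · intro hz
      exact ⟨z.2, fun e he => congrArg Subtype.val (hz ⟨e, he⟩)⟩
    · intro hz e
      exact Subtype.ext (hz.2 e e.2)
  have hZ₀card : Nat.card Z₀ = p := by
    rw [← hZ, Nat.card_congr ((Subgroup.center E).equivMapOfInjective E.subtype (Subgroup.subtype_injective E)).toEquiv]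
    congr 2
    ext x
    constructor
    · intro hx
      exact ⟨⟨x, hx.1⟩, (hmemZ _).mpr hx, rfl⟩
    · rintro ⟨z, hz, rfl⟩
      exact (hmemZ z).mp hz
  haveI hZ₀ab : IsMulCommutative Z₀ :=
    ⟨⟨fun a b => Subtype.ext (b.2.2 a a.2.1)⟩⟩
  have hmem : ∀ g : G, ∀ e : E, ⁅g, (e : G)⁆ ∈ Z₀ := fun g e =>
    h (Subgroup.commutator_mem_commutator (Subgroup.mem_top g) e.2)
  have hmul : ∀ g : G, ∀ a b : E, ⁅g, (a : G) * b⁆ = ⁅g, (a : G)⁆ * ⁅g, (b : G)⁆ := by
    intro g a b
    have h1 : ⁅g, (a : G) * b⁆ = ⁅g, (a : G)⁆ * (a * ⁅g, (b : G)⁆ * (a : G)⁻¹) := by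
      simp [commutatorElement_def, mul_assoc]
    rw [h1, (hmem g b).2 a a.2, mul_inv_cancel_right]
  let ψ : G → (E →* Z₀) := fun g =>
    MonoidHom.mk' (fun e => ⟨⁅g, (e : G)⁆, hmem g e⟩) fun a b => Subtype.ext (hmul g a b)
  have hker : ∀ f : E →* Z₀, Subgroup.center E ≤ f.ker := by
    intro f
    rw [← hcm, commutator_def, Subgroup.commutator_le]
    intro a _ b _
    rw [MonoidHom.mem_ker, map_commutatorElement, commutatorElement_eq_one_iff_mul_comm]
    exact hZ₀ab.is_comm.comm _ _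
  have hψ : ∀ a b : G, ψ a = ψ b → a⁻¹ * b ∈ Subgroup.centralizer (E : Set G) := by
    intro a b hab e he
    have h0 := congrArg Subtype.val (DFunLike.congr_fun hab ⟨e, he⟩)
    have h1 : ⁅a, e⁆ = ⁅b, e⁆ := by simpa [ψ] using h0
    rw [commutatorElement_def, commutatorElement_def] at h1
    have h2 : a * e * a⁻¹ = b * e * b⁻¹ := mul_right_cancel h1
    calc e * (a⁻¹ * b) = a⁻¹ * (a * e * a⁻¹) * b := by group
      _ = a⁻¹ * b * e := by rw [h2]; group
  haveI : Finite (E →* Z₀) := Finite.of_injective _ DFunLike.coe_injective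
  obtain ⟨m, hm⟩ : ∃ m, (Subgroup.center E).index = p ^ m := by
    obtain ⟨n, hn⟩ := IsPGroup.iff_card.mp hEp
    obtain ⟨m, -, hm⟩ := (Nat.dvd_prime_pow (Fact.out (p := p.Prime))).mp
      (hn ▸ (Subgroup.center E).index_dvd_card)
    exact ⟨m, hm⟩
  have hcount : Nat.card (E →* Z₀) ≤ Nat.card (E ⧸ Subgroup.center E) := by
    rw [← Nat.card_congr (Equiv.subtypeUnivEquiv (p := fun f : E →* Z₀ => Subgroup.center E ≤ f.ker) hker),
      ← Subgroup.index_eq_card, hm]
    refine le_trans (Cfsg.Agent.Lib.PLocal.card_hom_le hEp _ m ?_) (by rw [hZ₀card])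
    rw [← Subgroup.card_mul_index (Subgroup.center E), hm, mul_comm]
  have hsurj : Function.Surjective (fun q : E ⧸ Subgroup.center E => ψ (q.out : E)) := by
    have hinj : Function.Injective (fun q : E ⧸ Subgroup.center E => ψ (q.out : E)) := by
      intro q r hqr
      rw [← Quotient.out_eq q, ← Quotient.out_eq r]
      refine Quotient.sound' (QuotientGroup.leftRel_apply.mpr ((hmemZ _).mpr ⟨SetLike.coe_mem _, ?_⟩))
      simpa using hψ _ _ hqr
    exact (hinj.bijective_of_nat_card_le hcount).2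
  rw [eq_top_iff]
  intro g _
  obtain ⟨q, hq⟩ := hsurj (ψ g)
  have := hψ _ _ hq
  rw [show g = (q.out : G) * ((q.out : G)⁻¹ * g) by group]
  exact Subgroup.mul_mem_sup (SetLike.coe_mem _) this

end Cfsg.Agent.S0110
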