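import Cfsg.Statements.S0115
import Cfsg.Agent.Lib.PGroups.IndexFour
import Mathlib

set_option autoImplicit false
open Cfsg

namespace Cfsg.Agent.S0115

/-- A 2-group of order 2^n, n ≥ 3, is of maximal class exactly when its commutator quotient is a Klein four-group. -/
theorem result {X : Type*} [Group X] [Finite X] (n : ℕ) (hn : 3 ≤ n) (hX : Nat.card X = 2 ^ n) : Group.nilpotencyClass X = n - 1 ↔ IsKleinFour (X ⧸ commutator X) := by
  have hS : IsPGroup 2 X := IsPGroup.of_card hX
  have hmem : ∀ x : X, (x : X ⧸ commutator X) ^ 2 = 1 ↔ x ^ 2 ∈ commutator X := fun x => by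
    rw [← QuotientGroup.mk_pow, QuotientGroup.eq_one_iff]
  constructor
  · intro hc
    obtain ⟨h1, h2⟩ := Lib.PGroups.maximal_class_index hS n hX hn hc
    have h4 : Nat.card (X ⧸ commutator X) = 4 := by rw [← Subgroup.index, h1]
    refine ⟨h4, ?_⟩
    haveI : Nontrivial (X ⧸ commutator X) := Finite.one_lt_card_iff_nontrivial.mp (by omega)
    have hd : Monoid.exponent (X ⧸ commutator X) ∣ 2 := Monoid.exponent_dvd_of_forall_pow_eq_one (fun g => by
      obtain ⟨x, rfl⟩ := QuotientGroup.mk_surjective g
      exact (hmem x).mpr (h2 x))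
    exact ((Nat.dvd_prime Nat.prime_two).mp hd).resolve_left fun h => by
      haveI := Monoid.exp_eq_one_iff.mp h
      exact false_of_nontrivial_of_subsingleton (X ⧸ commutator X)
  · intro hk
    refine Lib.PGroups.maximal_class_of_index_four hS n hX hn (by rw [Subgroup.index, hk.card_four]) fun x => ?_
    rw [← hmem, ← hk.exponent_two]
    exact Monoid.pow_exponent_eq_one _

end Cfsg.Agent.S0115
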