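import Cfsg.Statements.S0116
import Cfsg.Agent.Lib.FusionControl.Family

set_option autoImplicit false
open Cfsg

namespace Cfsg.Agent.S0116

open Cfsg.Agent.Lib.FusionControl in
/-- the tame intersections of Sylow subgroups with `P` -/
def tameInts {G : Type*} [Group G] {p : ℕ} (P : Sylow p G) : Set (Subgroup G) :=
  {U | ∃ R : Sylow p G, U = (P : Subgroup G) ⊓ (R : Subgroup G) ∧
    ¬ p ∣ ((P : Subgroup G) ⊓ Subgroup.normalizer (U : Set G)).relIndex
      (Subgroup.normalizer (U : Set G)) ∧
    ¬ p ∣ ((R : Subgroup G) ⊓ Subgroup.normalizer (U : Set G)).relIndex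
      (Subgroup.normalizer (U : Set G))}

open Cfsg.Agent.Lib.FusionControl in
theorem chain_tame {G : Type*} [Group G] [Finite G] {p : ℕ} [Fact p.Prime] (S : Sylow p G) :
    ∀ (T : Subgroup G) (g : G), T ≤ (S : Subgroup G) → cj g T ≤ (S : Subgroup G) →
      Chain (tameInts S) (T : Set G) g := by
  suffices H : ∀ (k : ℕ) (T : Subgroup G) (g : G), Nat.card (S : Subgroup G) - Nat.card T = k →
      T ≤ (S : Subgroup G) → cj g T ≤ (S : Subgroup G) → Chain (tameInts S) (T : Set G) g from
    fun T g => H _ T g rfl
  intro k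
  induction k using Nat.strong_induction_on with
  | _ k ih =>
    intro T g hk hT hgT
    by_cases hTS : T = (S : Subgroup G)
    · subst hTS
      have hS : (S : Subgroup G) ∈ tameInts S :=
        ⟨S, (inf_idem _).symm, (extr_self S).2, (extr_self S).2⟩
      exact .step (S : Subgroup G) hS subset_rfl (mem_normalizer_of_cj_le hgT)
    · obtain ⟨k0, -, hext⟩ := exists_extr_cj S hT
      obtain ⟨U, hUdef⟩ : ∃ U, U = cj k0 T := ⟨_, rfl⟩
      rw [← hUdef] at hext
      have hk0 : cj k0 T = U := hUdef.symm
      have hlt : T < (S : Subgroup G) := lt_of_le_of_ne hT hTS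
      obtain ⟨n, hn, hle, heq⟩ := exists_adjust S.2 hext hk0
      have hk1 : cj (k0 * g⁻¹) (cj g T) = U := by rw [cj_cj, inv_mul_cancel_right, hk0]
      obtain ⟨m, hm, hle', heq'⟩ := exists_adjust S.2 hext hk1
      set a := n * k0 with ha
      set b := m * (k0 * g⁻¹) with hb
      have hlt' : cj g T < (S : Subgroup G) := lt_of_le_of_ne hgT (fun e => by
        have := card_cj g T
        rw [e] at this
        exact hTS (Subgroup.eq_of_le_of_card_ge hT this.le))
      have hgrow := card_lt_nS S.2 hlt
      have hgrow' := card_lt_nS S.2 hlt'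
      rw [card_cj] at hgrow'
      have hx : b * g * a⁻¹ ∈ Subgroup.normalizer (U : Set G) := by
        rw [mem_normalizer_iff_cj]
        conv_lhs => rw [← heq]
        rw [cj_cj, inv_mul_cancel_right, ← cj_cj, heq']
      have hTle : Nat.card T ≤ Nat.card (S : Subgroup G) := Subgroup.card_le_of_le hT
      have c1 : Chain (tameInts S) (T : Set G) a := by
        refine (ih _ ?_ _ a rfl inf_le_left (hle.trans inf_le_left)).mono (le_nS hT)
        have := Subgroup.card_le_of_le (inf_le_left : nS (S : Subgroup G) T ≤ S)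
        simp only [nS] at *
        omega
      have c3 : Chain (tameInts S) (U : Set G) b⁻¹ := by
        have hR : cj b (nS (S : Subgroup G) (cj g T)) ≤ (S : Subgroup G) := hle'.trans inf_le_left
        refine (ih _ ?_ _ b⁻¹ rfl hR ?_).mono ?_
        · have := Subgroup.card_le_of_le hR
          rw [card_cj] at this ⊢
          omega
        · rw [cj_inv_cj]; exact inf_le_left
        · have : U ≤ cj b (nS (S : Subgroup G) (cj g T)) := by
            rw [← heq']; exact cj_le_cj (le_nS hgT)
          exact this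
      -- the step inside `N(U)`
      have cU : ∀ x ∈ Subgroup.normalizer (U : Set G), Chain (tameInts S) (U : Set G) x := by
        intro x hx
        set T' := nS (S : Subgroup G) U ⊓ cj x⁻¹ (nS (S : Subgroup G) U) with hT'
        have hUx : cj x⁻¹ U = U := mem_normalizer_iff_cj.1 (inv_mem hx)
        have hUT' : U ≤ T' := le_inf (le_nS hext.1) ((le_of_eq hUx.symm).trans (cj_le_cj (le_nS hext.1)))
        rcases eq_or_lt_of_le hUT' with he | hl
        · refine .step U ?_ subset_rfl hx
          have hR : ((x⁻¹ • S : Sylow p G) : Subgroup G) = cj x⁻¹ (S : Subgroup G) :=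
            Sylow.coe_subgroup_smul
          have hRn : ((x⁻¹ • S : Sylow p G) : Subgroup G) ⊓ Subgroup.normalizer (U : Set G) =
              cj x⁻¹ (nS (S : Subgroup G) U) := by
            show _ = cj x⁻¹ ((S : Subgroup G) ⊓ Subgroup.normalizer (U : Set G))
            rw [cj_inf, hR, cj_normalizer, hUx]
          refine ⟨x⁻¹ • S, ?_, hext.2, ?_⟩
          · have hle2 : U ≤ (S : Subgroup G) ⊓ ((x⁻¹ • S : Sylow p G) : Subgroup G) := by
              refine le_inf hext.1 ?_
              rw [hR, ← hUx]; exact cj_le_cj hext.1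
            rcases eq_or_lt_of_le hle2 with h2 | h2
            · exact h2
            · exfalso
              refine (Cfsg.Agent.Lib.Transfer.lt_inf_normalizer (S.2.to_le inf_le_left) h2).ne ?_
              refine le_antisymm (le_inf hle2 Subgroup.le_normalizer) ?_
              conv_rhs => rw [he]
              refine le_inf (inf_le_inf_right _ inf_le_left) ?_
              rw [← hRn]
              exact inf_le_inf_right _ inf_le_right
          · rw [hRn]
            have := relIndex_cj x⁻¹ (nS (S : Subgroup G) U) (Subgroup.normalizer (U : Set G))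
            rw [cj_normalizer, hUx] at this
            rw [this]
            exact hext.2
        · refine (ih _ ?_ T' x rfl (inf_le_left.trans inf_le_left) ?_).mono hUT'
          · have h1 := card_lt_of_lt hl
            rw [← hk0, card_cj] at h1
            have h2 : Nat.card T' ≤ Nat.card (S : Subgroup G) :=
              Subgroup.card_le_of_le (inf_le_left.trans inf_le_left)
            omega
          · refine (cj_le_cj inf_le_right).trans ?_
            rw [cj_cj, mul_inv_cancel, cj_one]
            exact inf_le_left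
      have e1 : cs a (T : Set G) = (U : Set G) := by rw [cs_subgroup, heq]
      have c2 : Chain (tameInts S) (cs a (T : Set G)) (b * g * a⁻¹) := e1.symm ▸ cU _ hx
      have e2 : cs (b * g * a⁻¹ * a) (T : Set G) = (U : Set G) := by
        rw [← cs_cs, e1, cs_subgroup, mem_normalizer_iff_cj.1 hx]
      have c12 := Chain.comp c1 c2
      have : g = b⁻¹ * (b * g * a⁻¹ * a) := by group
      rw [this]
      exact .comp c12 (by rw [e2]; exact c3)

/-- The Alperin fusion Theorem states that conjugation between subsets of a Sylow p-subgroup P factors through normalizers of tame intersections P ∩ Q_i with other Sylow p-subgroups, carrying the subset along step by step. -/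
theorem result {G : Type*} [Group G] [Finite G] {p : ℕ} [Fact p.Prime] (P : Sylow p G) (A : Set G) (g : G) (hA : A ⊆ (P : Set G)) (hAg : (fun a => g⁻¹ * a * g) '' A ⊆ (P : Set G)) : ∃ (n : ℕ) (Q : Fin n → Sylow p G) (x : Fin n → G), (List.ofFn x).prod = g ∧ (∀ i : Fin n, x i ∈ Subgroup.normalizer ((((P : Subgroup G) ⊓ (Q i : Subgroup G)) : Subgroup G) : Set G) ∧ ¬ p ∣ ((P : Subgroup G) ⊓ Subgroup.normalizer ((((P : Subgroup G) ⊓ (Q i : Subgroup G)) : Subgroup G) : Set G)).relIndex (Subgroup.normalizer ((((P : Subgroup G) ⊓ (Q i : Subgroup G)) : Subgroup G) : Set G)) ∧ ¬ p ∣ ((Q i : Subgroup G) ⊓ Subgroup.normalizer ((((P : Subgroup G) ⊓ (Q i : Subgroup G)) : Subgroup G) : Set G)).relIndex (Subgroup.normalizer ((((P : Subgroup G) ⊓ (Q i : Subgroup G)) : Subgroup G) : Set G))) ∧ (∀ h : 0 < n, A ⊆ (((P : Subgroup G) ⊓ (Q ⟨0, h⟩ : Subgroup G) : Subgroup G) : Set G)) ∧ ∀ i : Fin n, ∀ h : i.val + 1 < n, (fun a => (((List.ofFn x).take (i.val + 1)).prod)⁻¹ * a * ((List.ofFn x).take (i.val + 1)).prod) '' A ⊆ (((P : Subgroup G) ⊓ (Q ⟨i.val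 + 1, h⟩ : Subgroup G) : Subgroup G) : Set G) := by
  classical
  open Cfsg.Agent.Lib.FusionControl in
  have hc : Chain (tameInts P) A g⁻¹ := by
    refine (chain_tame P (Subgroup.closure A) g⁻¹ ((Subgroup.closure_le _).2 hA) ?_).mono
      Subgroup.subset_closure
    rw [cj, MonoidHom.map_closure]
    refine (Subgroup.closure_le _).2 ?_
    rintro _ ⟨a, ha, rfl⟩
    have := hAg ⟨a, ha, rfl⟩
    simpa using this
  obtain ⟨n, T, x, hn, h1, h2, h3, h4, h5⟩ := Cfsg.Agent.Lib.FusionControl.Chain.exists_fin hc
  choose R hR hP hQ using h2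
  refine ⟨n, R, x, h1, fun i => ⟨?_, ?_, ?_⟩, fun h => ?_, fun i h => ?_⟩
  · rw [← hR i]; exact h3 i
  · rw [← hR i]; exact hP i
  · rw [← hR i]; exact hQ i
  · rw [← hR]; exact h4 h
  · rw [← hR]; exact h5 i h

end Cfsg.Agent.S0116
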