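import Cfsg.Statements.S0119
import Cfsg.Agent.Lib.Coprime.Generation
import Cfsg.Agent.Lib.LocalEven.Subnormal
import Mathlib

set_option autoImplicit false
open Cfsg
open scoped commutatorElement

namespace Cfsg.Agent.S0119

/-- If a p'-group A of automorphisms of a p-group G satisfies G = [G, A] and acts trivially on every characteristic abelian subgroup, then G is special with centre equal to the fixed points of A. -/
theorem result {G : Type*} [Group G] [Finite G] {p : ℕ} [Fact p.Prime] (hG : IsPGroup p G) (A : Subgroup (MulAut G)) (hA : Nat.Coprime (Nat.card A) p) (hGA : Subgroup.closure {x : G | ∃ g : G, ∃ a ∈ A, x = g⁻¹ * a g} = ⊤) (hchar : ∀ H : Subgroup G, H.Characteristic → IsMulCommutative H → ∀ a ∈ A, ∀ h ∈ H, a h = h) : Cfsg.IsSpecial p G ∧ (∀ g : G, (g ∈ Subgroup.center G ↔ ∀ a ∈ A, a g = g)) := by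
  classical
  haveI := hG.isNilpotent
  -- a characteristic abelian subgroup is central
  have hcent : ∀ H : Subgroup G, H.Characteristic → IsMulCommutative H → H ≤ Subgroup.center G := by
    intro H hHc hHa h hh
    rw [Subgroup.mem_center_iff]
    intro g
    haveI := hHc
    have key : g ∈ Subgroup.centralizer ({h} : Set G) := by
      have : Subgroup.closure {x : G | ∃ g : G, ∃ a ∈ A, x = g⁻¹ * a g} ≤
          Subgroup.centralizer (H : Set G) := by
        rw [Subgroup.closure_le]
        rintro _ ⟨y, a, ha, rfl⟩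
        rw [SetLike.mem_coe, Subgroup.mem_centralizer_iff]
        intro x hx
        have hx' : y * x * y⁻¹ ∈ H := (inferInstance : H.Normal).conj_mem x hx y
        have h1 : a (y * x * y⁻¹) = y * x * y⁻¹ := hchar H hHc hHa a ha _ hx'
        rw [map_mul, map_mul, map_inv, hchar H hHc hHa a ha x hx] at h1
        calc x * (y⁻¹ * a y) = y⁻¹ * (y * x * y⁻¹) * a y := by group
          _ = y⁻¹ * (a y * x * (a y)⁻¹) * a y := by rw [h1]
          _ = y⁻¹ * a y * x := by group
      rw [hGA] at this
      exact Subgroup.mem_centralizer_iff.mpr fun x hx => by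
        rw [Set.mem_singleton_iff.mp hx]
        exact Subgroup.mem_centralizer_iff.mp (this (Subgroup.mem_top g)) h hh
    exact (Subgroup.mem_centralizer_iff.mp key h rfl).symm
  have hZA : ∀ z ∈ Subgroup.center G, ∀ a ∈ A, a z = z := fun z hz a ha =>
    hchar _ inferInstance inferInstance a ha z hz
  -- the commutator subgroup is central
  have hD : commutator G ≤ Subgroup.center G := by
    obtain ⟨n, hn⟩ := Subgroup.nilpotent_iff_lowerCentralSeries.mp (inferInstance : Group.IsNilpotent G)
    have step : ∀ i, 1 ≤ i → (⊤ : Subgroup G).lowerCentralSeries (i + 1) ≤ Subgroup.center G →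
        (⊤ : Subgroup G).lowerCentralSeries i ≤ Subgroup.center G := by
      intro i hi hc
      set L := (⊤ : Subgroup G).lowerCentralSeries i with hL
      haveI : L.Characteristic := by rw [hL]; infer_instance
      refine hcent L inferInstance ?_
      have h1 : ∀ g : G, ∀ l ∈ L, ⁅l, g⁆ ∈ Subgroup.center G := fun g l hl =>
        hc (by rw [Subgroup.lowerCentralSeries_succ]; exact Subgroup.commutator_mem_commutator hl (Subgroup.mem_top g))
      have hLL : L ≤ commutator G := by
        rw [hL, ← Subgroup.top_lowerCentralSeries_one]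
        exact (⊤ : Subgroup G).lowerCentralSeries_antitone hi
      have h2 : ⁅commutator G, L⁆ = ⊥ := by
        rw [commutator_def]
        have hc1 : ⁅⁅(⊤ : Subgroup G), L⁆, (⊤ : Subgroup G)⁆ = ⊥ := by
          rw [Subgroup.commutator_eq_bot_iff_le_centralizer, Subgroup.commutator_le]
          intro g _ l hl
          have := h1 g l hl
          rw [← commutatorElement_inv] 
          refine inv_mem ?_
          rw [Subgroup.mem_centralizer_iff]
          exact fun x _ => Subgroup.mem_center_iff.mp this x
        refine Subgroup.commutator_commutator_eq_bot_of_rotate hc1 ?_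
        rw [Subgroup.commutator_comm L (⊤ : Subgroup G)]; exact hc1
      refine ⟨⟨fun x y => Subtype.ext ?_⟩⟩
      have := Subgroup.commutator_eq_bot_iff_le_centralizer.mp h2 (hLL x.2)
      exact (Subgroup.mem_centralizer_iff.mp this y y.2).symm
    rw [← Subgroup.top_lowerCentralSeries_one]
    have main : ∀ j, n ≤ 1 + j → (⊤ : Subgroup G).lowerCentralSeries n ≤ Subgroup.center G →
        (⊤ : Subgroup G).lowerCentralSeries 1 ≤ Subgroup.center G := by
      intro j hj _
      have hall : ∀ k, ∀ i, 1 ≤ i → n ≤ i + k → (⊤ : Subgroup G).lowerCentralSeries i ≤ Subgroup.center G := by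
        intro k
        induction k with
        | zero =>
          intro i _ hik
          exact ((⊤ : Subgroup G).lowerCentralSeries_antitone (by omega : n ≤ i)).trans (by rw [hn]; exact bot_le)
        | succ k ih =>
          intro i hi hik
          exact step i hi (ih (i + 1) (by omega) (by omega))
      exact hall n 1 le_rfl (by omega)
    exact main n (by omega) (by rw [hn]; exact bot_le)
  have hcomm : ∀ x y : G, ⁅x, y⁆ ∈ Subgroup.center G := fun x y =>
    hD (Subgroup.commutator_mem_commutator (Subgroup.mem_top x) (Subgroup.mem_top y))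
  have hbil : ∀ x y z : G, ⁅x, y * z⁆ = ⁅x, y⁆ * ⁅x, z⁆ := fun x y z => by
    calc ⁅x, y * z⁆ = ⁅x, y⁆ * (y * ⁅x, z⁆ * y⁻¹) := by simp only [commutatorElement_def]; group
      _ = _ := by rw [Subgroup.mem_center_iff.mp (hcomm x z) y, mul_inv_cancel_right]
  -- fixed points are central
  have hfix : ∀ x : G, (∀ a ∈ A, a x = x) → x ∈ Subgroup.center G := by
    intro x hx
    rw [Subgroup.mem_center_iff]
    have : Subgroup.closure {g : G | ∃ y : G, ∃ a ∈ A, g = y⁻¹ * a y} ≤ Subgroup.centralizer ({x} : Set G) := by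
      rw [Subgroup.closure_le]
      rintro _ ⟨y, a, ha, rfl⟩
      have h1 : ⁅x, a y⁆ = ⁅x, y⁆ := by
        have := hZA _ (hcomm x y) a ha
        rwa [map_commutatorElement, hx a ha] at this
      have h2 : ⁅x, y⁻¹⁆ * ⁅x, y⁆ = 1 := by
        rw [← hbil, inv_mul_cancel, commutatorElement_one_right]
      have h3 : ⁅x, y⁻¹ * a y⁆ = 1 := by rw [hbil, h1, h2]
      rw [SetLike.mem_coe, Subgroup.mem_centralizer_singleton_iff]
      exact (commutatorElement_eq_one_iff_mul_comm.mp h3).symm
    rw [hGA] at this
    intro g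
    exact Subgroup.mem_centralizer_singleton_iff.mp (this (Subgroup.mem_top g))
  have hiff : ∀ g : G, g ∈ Subgroup.center G ↔ ∀ a ∈ A, a g = g := fun g => ⟨fun h => hZA g h, hfix g⟩
  -- the centre lies in the commutator subgroup
  have hZD : Subgroup.center G ≤ commutator G := by
    intro z hz
    let _ : Fintype A := Fintype.ofFinite A
    let N : G →* Abelianization G :=
      ∏ a : A, Abelianization.of.comp ((a : MulAut G) : G ≃* G).toMonoidHom
    have hN : ∀ g, N g = ∏ a : A, Abelianization.of ((a : MulAut G) g) := fun g => by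
      simp [N, MonoidHom.finsetProd_apply]
    have hN1 : ∀ g, N g = 1 := by
      have : Subgroup.closure {x : G | ∃ g : G, ∃ a ∈ A, x = g⁻¹ * a g} ≤ N.ker := by
        rw [Subgroup.closure_le]
        rintro _ ⟨y, a, ha, rfl⟩
        rw [SetLike.mem_coe, MonoidHom.mem_ker, map_mul, map_inv, inv_mul_eq_one, hN, hN]
        exact (Fintype.prod_equiv (Equiv.mulRight (⟨a, ha⟩ : A)) _ _ fun b => rfl).symm
      rw [hGA] at this
      exact fun g => this (Subgroup.mem_top g)
    have h1 := hN1 z
    rw [hN, Finset.prod_congr rfl (fun a _ => by rw [hZA z hz _ a.2]), Finset.prod_const,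
      Finset.card_univ, ← Nat.card_eq_fintype_card] at h1
    have h2 : orderOf (Abelianization.of z) ∣ Nat.card A := orderOf_dvd_of_pow_eq_one h1
    obtain ⟨m, hm⟩ := IsPGroup.iff_orderOf.mp hG z
    have h3 : orderOf (Abelianization.of z) ∣ p ^ m := hm ▸ orderOf_map_dvd _ z
    have h4 : orderOf (Abelianization.of z) = 1 :=
      Nat.dvd_one.mp ((hA.pow_right m).gcd_eq_one ▸ Nat.dvd_gcd h2 h3)
    exact (QuotientGroup.eq_one_iff z).mp (orderOf_eq_one_iff.mp h4)
  have hpowl : ∀ (x y : G) (n : ℕ), ⁅x, y ^ n⁆ = ⁅x, y⁆ ^ n := by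
    intro x y n
    induction n with
    | zero => simp
    | succ n ih => rw [pow_succ, hbil, ih, pow_succ]
  have hpowr : ∀ (x y : G) (n : ℕ), ⁅x ^ n, y⁆ = ⁅x, y⁆ ^ n := fun x y n => by
    rw [← commutatorElement_inv, hpowl, ← inv_pow, commutatorElement_inv]
  -- commutators have order dividing `p`
  have hexp : ∀ x y : G, ⁅x, y⁆ ^ p = 1 := by
    have hex : ∃ k, ∀ x y : G, ⁅x, y⁆ ^ p ^ k = 1 := by
      obtain ⟨N, hN⟩ := IsPGroup.iff_card.mp hG
      exact ⟨N, fun x y => by rw [← hN, pow_card_eq_one']⟩
    set k := Nat.find hex with hk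
    have hks := Nat.find_spec hex
    rw [← hk] at hks
    rcases Nat.lt_or_ge k 2 with hk2 | hk2
    · intro x y
      have h := hks x y
      interval_cases hk' : k
      · rw [pow_zero, pow_one] at h; rw [h, one_pow]
      · rwa [pow_one] at h
    exfalso
    set m := k - 1 with hm
    set S := Subgroup.closure (Set.range fun x : G => x ^ p ^ m) with hS
    haveI : S.Characteristic := by
      rw [Subgroup.characteristic_iff_map_le]
      intro φ
      rw [hS, MonoidHom.map_closure, Subgroup.closure_le]
      rintro _ ⟨_, ⟨x, rfl⟩, rfl⟩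
      exact Subgroup.subset_closure ⟨φ x, by simp⟩
    have hSa : IsMulCommutative S := by
      rw [hS]
      refine Subgroup.isMulCommutative_closure ?_
      rintro _ ⟨x, rfl⟩ _ ⟨y, rfl⟩
      refine commutatorElement_eq_one_iff_mul_comm.mp ?_
      rw [hpowl, hpowr, ← pow_mul, ← pow_add]
      obtain ⟨d, hd⟩ := Nat.le.dest (show k ≤ m + m by omega)
      rw [← hd, pow_add, pow_mul, hks, one_pow]
    have hlt : ∀ x y : G, ⁅x, y⁆ ^ p ^ m = 1 := fun x y => by
      rw [← hpowr, commutatorElement_eq_one_iff_mul_comm]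
      exact (Subgroup.mem_center_iff.mp (hcent S inferInstance hSa (Subgroup.subset_closure ⟨x, rfl⟩)) y).symm
    have := Nat.find_min' hex hlt
    omega
  refine ⟨⟨hG, le_antisymm ?_ ?_, le_antisymm hD hZD⟩, hiff⟩
  · refine Lib.LocalEven.frattini_le_of_quotient_elementary (p := p) hD fun x => ?_
    rw [Subgroup.mem_center_iff]
    intro y
    exact (commutatorElement_eq_one_iff_mul_comm.mp (by rw [hpowr, hexp] : ⁅x ^ p, y⁆ = 1)).symm
  · exact hZD.trans (Lib.Coprime.commutator_le_frattini_of_isPGroup hG)

end Cfsg.Agent.S0119
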