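import Cfsg.Statements.S0120
import Cfsg.Agent.Lib.OddLocal.Coprime
import Cfsg.Agent.Lib.Coprime.External

set_option autoImplicit false
open Cfsg

namespace Cfsg.Agent.S0120

open SemidirectProduct
set_option linter.style.haveILetI false

/-- For odd p, a p'-automorphism of a p-group acting trivially on the elements of order dividing p is trivial. -/
theorem result {G : Type*} [Group G] [Finite G] {p : ℕ} [Fact p.Prime] (hp : p ≠ 2) (hG : IsPGroup p G) (a : MulAut G) (ha : Nat.Coprime (orderOf a) p) (h : ∀ x : G, x ^ p = 1 → a x = x) : a = 1 := by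
  classical
  let φ : (Subgroup.zpowers a) →* MulAut G := (Subgroup.zpowers a).subtype
  haveI := Cfsg.Agent.Lib.Coprime.finite_semidirect φ
  have hfix : ∀ x : G, x ^ p = 1 → ∀ b : Subgroup.zpowers a, φ b x = x := by
    intro x hx b
    have hle : Subgroup.zpowers a ≤ MulAction.stabilizer (MulAut G) x :=
      Subgroup.zpowers_le.mpr (h x hx)
    exact hle b.2
  have hcop : (Nat.card (inr : _ →* G ⋊[φ] (Subgroup.zpowers a)).range).Coprime p := by
    rwa [← Nat.card_congr (MonoidHom.ofInjective (f := (inr : _ →* G ⋊[φ] (Subgroup.zpowers a)))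
      inr_injective).toEquiv, Nat.card_zpowers]
  have hHp : IsPGroup p (inl : G →* G ⋊[φ] (Subgroup.zpowers a)).range :=
    hG.of_surjective _ (MonoidHom.rangeRestrict_surjective _)
  have hmain := Cfsg.Agent.Lib.OddLocal.le_centralizer_of_fixes_pow_eq_one hp hcop _ hHp
    (Cfsg.Agent.Lib.Coprime.inr_range_le_normalizer φ) (by
      rintro _ ⟨x, rfl⟩ hx b hb
      rw [Subgroup.mem_centralizer_singleton_iff]
      have hx' : x ^ p = 1 := inl_injective (φ := φ) (by rw [map_pow, hx, map_one])
      exact ((Cfsg.Agent.Lib.Coprime.inl_mem_centralizer_iff φ x).mpr (hfix x hx') b hb))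
  ext x
  have hx : inl x ∈ Subgroup.centralizer ((inr : _ →* G ⋊[φ] (Subgroup.zpowers a)).range : Set _) :=
    fun b hb => (hmain hb _ ⟨x, rfl⟩).symm
  simpa [φ] using (Cfsg.Agent.Lib.Coprime.inl_mem_centralizer_iff φ x).mp hx ⟨a, Subgroup.mem_zpowers a⟩

end Cfsg.Agent.S0120
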