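import Cfsg.Statements.S0121
import Cfsg.Agent.Lib.OddLocal.Coprime
import Cfsg.Agent.Lib.Coprime.External

set_option autoImplicit false
open Cfsg

namespace Cfsg.Agent.S0121

open SemidirectProduct
set_option linter.style.haveILetI false

/-- A p'-automorphism of a p-group acting trivially on a critical subgroup is trivial. -/
theorem result {G : Type*} [Group G] [Finite G] {p : ℕ} [Fact p.Prime] (hG : IsPGroup p G) (H : Subgroup G) (hH : H.Characteristic) (h1 : (frattini H).map H.subtype ≤ Subgroup.centralizer (H : Set G)) (h2 : ⁅H, (⊤ : Subgroup G)⁆ ≤ H ⊓ Subgroup.centralizer (H : Set G)) (h3 : Subgroup.centralizer (H : Set G) ≤ H) (a : MulAut G) (ha : Nat.Coprime (orderOf a) p) (h : ∀ x ∈ H, a x = x) : a = 1 := by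
  classical
  let φ : (Subgroup.zpowers a) →* MulAut G := (Subgroup.zpowers a).subtype
  haveI := Cfsg.Agent.Lib.Coprime.finite_semidirect φ
  have hfix : ∀ x ∈ H, ∀ b : Subgroup.zpowers a, φ b x = x := by
    intro x hx b
    have hle : Subgroup.zpowers a ≤ MulAction.stabilizer (MulAut G) x :=
      Subgroup.zpowers_le.mpr (h x hx)
    exact hle b.2
  have hGn : Group.IsNilpotent (inl : G →* G ⋊[φ] (Subgroup.zpowers a)).range :=
    (hG.of_surjective _ (MonoidHom.rangeRestrict_surjective _)).isNilpotent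
  have hcop : (Nat.card (Subgroup.zpowers a)).Coprime (Nat.card G) := by
    obtain ⟨m, hm⟩ := IsPGroup.iff_card.mp hG
    rw [Nat.card_zpowers, hm]; exact ha.pow_right m
  have hmain := Cfsg.Agent.Lib.OddLocal.le_centralizer_of_centralizer_fixed_le hGn
    (Cfsg.Agent.Lib.Coprime.inr_range_le_normalizer φ)
    (Cfsg.Agent.Lib.Coprime.coprime_ranges φ hcop) (by
      intro y hy'
      obtain ⟨y', rfl⟩ : y ∈ (inl : G →* G ⋊[φ] (Subgroup.zpowers a)).range := hy'.1
      have hyH : y' ∈ H := h3 fun x hx => inl_injective (φ := φ) (by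
        rw [map_mul, map_mul]
        exact hy'.2 (inl x) ⟨⟨x, rfl⟩,
          (Cfsg.Agent.Lib.Coprime.inl_mem_centralizer_iff φ x).mpr (hfix x hx)⟩)
      exact ⟨⟨y', rfl⟩, (Cfsg.Agent.Lib.Coprime.inl_mem_centralizer_iff φ y').mpr (hfix y' hyH)⟩)
  ext x
  have hx : inl x ∈ Subgroup.centralizer ((inr : _ →* G ⋊[φ] (Subgroup.zpowers a)).range : Set _) :=
    fun b hb => (hmain hb _ ⟨x, rfl⟩).symm
  simpa [φ] using (Cfsg.Agent.Lib.Coprime.inl_mem_centralizer_iff φ x).mp hx ⟨a, Subgroup.mem_zpowers a⟩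

end Cfsg.Agent.S0121
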