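import Cfsg.Statements.S0122
import Cfsg.Agent.Lib.Components.PRank3
import Cfsg.Agent.Lib.PLocal.PGroupBasic

set_option autoImplicit false
open Cfsg

namespace Cfsg.Agent.S0122

/-- For odd p, a p-group containing an elementary abelian subgroup of order p^4 has a normal elementary abelian subgroup of order p^4. -/
theorem result {G : Type*} [Group G] [Finite G] {p : ℕ} [Fact p.Prime] (hp : p ≠ 2) (hG : IsPGroup p G) (E : Subgroup G) (hE : Cfsg.IsElementaryAbelian p E) (hE4 : Nat.card E = p ^ 4) : ∃ A : Subgroup G, A.Normal ∧ Cfsg.IsElementaryAbelian p A ∧ Nat.card A = p ^ 4 := by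
  classical
  obtain ⟨M, hMn, hM, hM4⟩ := Lib.Components.exists_normal_four_odd hp hG hE hE4.ge
  obtain ⟨k, hk⟩ := IsPGroup.iff_card.1 (hG.to_subgroup M)
  have hk4 : 4 ≤ k := (Nat.pow_le_pow_iff_right (Fact.out : p.Prime).one_lt).1 (hk ▸ hM4)
  obtain ⟨d, rfl⟩ : ∃ d, k = 4 + d := ⟨k - 4, by omega⟩
  clear hM4 hk4
  induction d generalizing M with
  | zero => exact ⟨M, hMn, hM, hk⟩
  | succ d ih =>
    haveI := hMn
    obtain ⟨L, hLn, hLM, hLc⟩ := Lib.PLocal.exists_normal_index_prime hG (N := M) (fun e => by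
      rw [e, Subgroup.card_bot] at hk
      exact (Nat.one_lt_pow (by omega) (Fact.out : p.Prime).one_lt).ne hk)
    refine ih L hLn ⟨⟨⟨fun a b => Subtype.ext ?_⟩⟩, fun a ha => hM.2 a (hLM.le ha)⟩ ?_
    · have e := congrArg Subtype.val (hM.1.is_comm.comm (⟨a, hLM.le a.2⟩ : M) ⟨b, hLM.le b.2⟩)
      exact e
    · rw [hk, ← add_assoc, pow_succ'] at hLc
      exact (Nat.eq_of_mul_eq_mul_left (Fact.out : p.Prime).pos hLc).symm

end Cfsg.Agent.S0122
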