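import Cfsg.Statements.S0125
import Cfsg.Agent.Lib.Transfer.Frobenius

set_option autoImplicit false
open Cfsg

namespace Cfsg.Agent.S0125

/-- The centralizer of a self-centralizing normal subgroup A of a Sylow p-subgroup is the direct product of A with a normal p'-subgroup. -/
theorem result {G : Type*} [Group G] [Finite G] {p : ℕ} [Fact p.Prime] (R : Sylow p G) (A : Subgroup G) (hAR : A ≤ (R : Subgroup G)) (hAn : (R : Subgroup G) ≤ Subgroup.normalizer (A : Set G)) (hC : (R : Subgroup G) ⊓ Subgroup.centralizer (A : Set G) = A) : ∃ H : Subgroup G, H ≤ Subgroup.centralizer (A : Set G) ∧ Nat.Coprime (Nat.card H) p ∧ Subgroup.centralizer (A : Set G) ≤ Subgroup.normalizer (H : Set G) ∧ H ⊓ A = ⊥ ∧ H ⊔ A = Subgroup.centralizer (A : Set G) := by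
  set C := Subgroup.centralizer (A : Set G) with hCdef
  have hAC : A ≤ C := hC ▸ inf_le_right
  have hAcom : IsMulCommutative A := Subgroup.le_centralizer_iff_isMulCommutative.mp hAC
  have hAp : IsPGroup p (A.subgroupOf C) :=
    (R.2.to_le hAR).of_equiv (Subgroup.subgroupOfEquivOfLe hAC).symm
  obtain ⟨S, hS⟩ := hAp.exists_le_sylow
  -- `A` is a Sylow subgroup of its centraliser
  have hSA : (S : Subgroup C) = A.subgroupOf C := by
    refine (Subgroup.eq_of_le_of_card_ge hS ?_).symm
    set N := Subgroup.normalizer (A : Set G) with hN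
    have hCN : C ≤ N := Subgroup.centralizer_le_normalizer _
    obtain ⟨T, hT⟩ := (((S.2.map C.subtype).of_equiv (Subgroup.subgroupOfEquivOfLe
      (show (S : Subgroup C).map C.subtype ≤ N from
        (Subgroup.map_subtype_le _).trans hCN)).symm)).exists_le_sylow
    obtain ⟨n, hn⟩ := MulAction.exists_smul_eq N T (R.subtype hAn)
    haveI hCn : (C.subgroupOf N).Normal := Subgroup.normal_subgroupOf_centralizer_normalizer _
    have hle : ((S : Subgroup C).map C.subtype).map (MulAut.conj (n : G)).toMonoidHom ≤ A := by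
      rintro _ ⟨_, ⟨s, hs, rfl⟩, rfl⟩
      have h1 : (⟨(s : G), hCN s.2⟩ : N) ∈ (T : Subgroup N) := hT ⟨s, hs, rfl⟩
      have h2 : n * ⟨(s : G), hCN s.2⟩ * n⁻¹ ∈ (R.subtype hAn : Subgroup N) := by
        rw [← hn, Sylow.coe_subgroup_smul]
        exact Subgroup.smul_mem_pointwise_smul (⟨(s : G), hCN s.2⟩ : N) (MulAut.conj n) _ h1
      have h3 := hCn.conj_mem ⟨(s : G), hCN s.2⟩ s.2 n
      rw [← hC]
      exact ⟨h2, h3⟩
    calc Nat.card (S : Subgroup C) = Nat.card ((S : Subgroup C).map C.subtype) :=
          (Subgroup.card_map_of_injective C.subtype_injective).symm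
      _ = Nat.card (((S : Subgroup C).map C.subtype).map (MulAut.conj (n : G)).toMonoidHom) :=
          (Subgroup.card_map_of_injective (MulAut.conj (n : G)).injective).symm
      _ ≤ Nat.card A := Subgroup.card_le_of_le hle
      _ = Nat.card (A.subgroupOf C) := (Nat.card_congr (Subgroup.subgroupOfEquivOfLe hAC).toEquiv).symm
  have hcent : Subgroup.normalizer ((S : Subgroup C) : Set C) ≤
      Subgroup.centralizer ((S : Subgroup C) : Set C) := by
    intro c _ a ha
    rw [hSA] at ha
    exact Subtype.ext (c.2 _ ha)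
  have hcomp := Lib.Transfer.hasNormalPComplement_of_normalizer_le_centralizer S hcent
  set K := Cfsg.pResidual p C with hK
  have hKcop := Lib.Transfer.hasNormalPComplement_iff_coprime.mp hcomp
  have hKbot := (Lib.Transfer.hasNormalPComplement_iff_inf_eq_bot S).mp hcomp
  refine ⟨K.map C.subtype, Subgroup.map_subtype_le _, ?_, ?_, ?_, ?_⟩
  · rw [Subgroup.card_map_of_injective C.subtype_injective]; exact hKcop
  · haveI : K.Normal := Lib.Transfer.pResidual_normal
    exact (Subgroup.normal_subgroupOf_iff_le_normalizer (Subgroup.map_subtype_le _)).mp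
      (by rw [Subgroup.subgroupOf, Subgroup.comap_map_eq_self_of_injective C.subtype_injective]
          infer_instance)
  · rw [eq_bot_iff]
    rintro _ ⟨⟨k, hk, rfl⟩, hkA⟩
    have : k ∈ (S : Subgroup C) ⊓ K := ⟨hSA ▸ hkA, hk⟩
    rw [hKbot, Subgroup.mem_bot] at this
    rw [this]; exact map_one _
  · have hsup := Lib.Transfer.sylow_sup_pResidual S
    rw [hSA] at hsup
    have := congrArg (Subgroup.map C.subtype) hsup
    rw [Subgroup.map_sup, Subgroup.subgroupOf_map_subtype, inf_eq_left.mpr hAC,
      ← MonoidHom.range_eq_map, Subgroup.range_subtype] at this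
    rw [sup_comm]; exact this

end Cfsg.Agent.S0125
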