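import Cfsg.Statements.S0130
import Cfsg.Agent.Lib.PLocal.PGroupBasic

set_option autoImplicit false
open Cfsg

namespace Cfsg.Agent.S0130

set_option linter.style.haveILetI false
open scoped commutatorElement

/-- If A is maximal among the normal abelian subgroups of exponent dividing p^n of a p-group (p^n ≠ 2), then A contains every element of order dividing p^n in its centralizer. -/
theorem result {G : Type*} [Group G] [Finite G] {p : ℕ} [Fact p.Prime] (hG : IsPGroup p G) (n : ℕ) (hn : p ^ n ≠ 2) (A : Subgroup G) [A.Normal] (hA : IsMulCommutative A) (hAe : ∀ a ∈ A, a ^ p ^ n = 1) (hmax : ∀ B : Subgroup G, B.Normal → IsMulCommutative B → (∀ b ∈ B, b ^ p ^ n = 1) → A ≤ B → B = A) (x : G) (hx : x ∈ Subgroup.centralizer (A : Set G)) (hxn : x ^ p ^ n = 1) : x ∈ A := by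
  classical
  haveI := hG.isNilpotent
  set N := p ^ n with hN
  set C := Subgroup.centralizer (A : Set G) with hC
  by_contra hxA
  -- a minimal normal subgroup of `C` above `A` with a bad element
  have hAC : A ≤ C := fun a ha b hb => congrArg Subtype.val (hA.is_comm.comm ⟨b, hb⟩ ⟨a, ha⟩)
  have hCn : C.Normal := inferInstance
  obtain ⟨L, hL⟩ := Set.Finite.exists_minimal
    (s := {L : Subgroup G | L.Normal ∧ A ≤ L ∧ L ≤ C ∧ ∃ y ∈ L, y ^ N = 1 ∧ y ∉ A})
    (Set.toFinite _) ⟨C, hCn, hAC, le_rfl, x, hx, hxn, hxA⟩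
  obtain ⟨hLn, hAL, hLC, y, hyL, hyN, hyA⟩ := hL.prop
  haveI := hLn
  set π := QuotientGroup.mk' A with hπ
  haveI : (L.map π).Normal := Subgroup.Normal.map inferInstance _ (QuotientGroup.mk'_surjective A)
  have hLb : L.map π ≠ ⊥ := fun h => hyA (by
    rw [Subgroup.map_eq_bot_iff, QuotientGroup.ker_mk'] at h; exact h hyL)
  obtain ⟨M', hM'n, hM'lt, hM'card⟩ :=
    Cfsg.Agent.Lib.PLocal.exists_normal_index_prime (hG.to_quotient A) hLb
  haveI := hM'n
  set M := M'.comap π with hM
  haveI hMn : M.Normal := inferInstance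
  have hAM : A ≤ M := fun a ha => by
    rw [hM, Subgroup.mem_comap, hπ, QuotientGroup.mk'_apply, (QuotientGroup.eq_one_iff a).mpr ha]
    exact one_mem _
  have hLeq : L = (L.map π).comap π := by
    rw [Subgroup.comap_map_eq, QuotientGroup.ker_mk', sup_eq_left.mpr hAL]
  have hML : M < L := by
    rw [hLeq, hM]
    exact (Subgroup.comap_lt_comap_of_surjective (QuotientGroup.mk'_surjective A)).mpr hM'lt
  have hMA : ∀ u ∈ M, u ^ N = 1 → u ∈ A := fun u hu huN => by
    by_contra huA
    exact hML.not_ge (hL.le_of_le ⟨hMn, hAM, hML.le.trans hLC, u, hu, huN, huA⟩ hML.le)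
  have hp2 : p = 2 → 2 ≤ n ∨ n = 0 := by
    intro h
    by_contra! hh
    have : n = 1 := by omega
    exact hn (by rw [hN, h, this, pow_one])
  -- fixed-point-free identity
  have key : ∀ c ∈ M, ∀ d ∈ A, c * y = y * c * d → c ^ N * d ^ N.choose 2 = 1 → c ∈ A := by
    intro c hc d hd hcy hcd
    have hdc : Commute c d := ((hML.le.trans hLC) hc d hd).symm
    have hdy : Commute y d := (hLC hyL d hd).symm
    have hdN : d ^ N = 1 := hAe d hd
    rcases eq_or_ne p 2 with hp | hp
    · rcases hp2 hp with h2 | h0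
      · obtain ⟨m, rfl⟩ := Nat.exists_eq_add_of_le h2
        have hN' : N = 2 * (2 * 2 ^ m) := by rw [hN, hp, pow_add]; ring
        have hch : N.choose 2 = (2 * 2 ^ m) * (N - 1) := by
          rw [Nat.choose_two_right, hN', mul_assoc 2, Nat.mul_div_cancel_left _ (by norm_num : 0 < 2)]
        have hc2A : c ^ 2 ∈ A := by
          refine hMA _ (pow_mem hc 2) ?_
          rw [← pow_mul, mul_comm, pow_mul, eq_inv_of_mul_eq_one_left hcd, inv_pow, ← pow_mul,
            hch, show (2 * 2 ^ m) * (N - 1) * 2 = N * (N - 1) by rw [hN']; ring, pow_mul, hdN,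
            one_pow, inv_one]
        have hd2 : d ^ 2 = 1 := by
          have h1 : y⁻¹ * c * y = c * d := by rw [mul_assoc, hcy]; group
          have h2 : (c * d) ^ 2 = c ^ 2 := by
            rw [← h1]
            have h3 := conj_pow (a := y⁻¹) (b := c) (i := 2)
            rw [inv_inv] at h3
            rw [h3, mul_assoc, (hLC hyL _ hc2A), inv_mul_cancel_left]
          rw [hdc.mul_pow] at h2
          simpa using h2
        refine hMA c hc ?_
        rwa [hch, mul_assoc 2, pow_mul, hd2, one_pow, mul_one] at hcd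
      · refine hMA c hc ?_
        rwa [show N = 1 by rw [hN, h0, pow_zero], Nat.choose_eq_zero_of_lt (by norm_num : 1 < 2),
          pow_zero, mul_one, ← show N = 1 by rw [hN, h0, pow_zero]] at hcd
    · refine hMA c hc ?_
      have hdvd : N ∣ N.choose 2 := by
        rw [Nat.choose_two_right]
        have hodd : Odd N := hN ▸ ((Fact.out (p := p.Prime)).odd_of_ne_two hp).pow
        obtain ⟨t, ht⟩ := hodd
        refine ⟨t, ?_⟩
        rw [show N - 1 = t * 2 by omega, ← mul_assoc, Nat.mul_div_cancel _ (by norm_num : 0 < 2)]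
      obtain ⟨t, ht⟩ := hdvd
      rwa [ht, pow_mul, hdN, one_pow, mul_one] at hcd
  have hcen : ∀ a ∈ A, ∀ g ∈ L, Commute a g := fun a ha g hg => hLC hg a ha
  -- `[M, y] ≤ A`, by induction along the upper central series
  have hMy : ∀ i, ∀ m ∈ M, m ∈ Subgroup.upperCentralSeries G i → y⁻¹ * m⁻¹ * y * m ∈ A ∧
      m⁻¹ * y⁻¹ * m * y ∈ A := by
    intro i
    induction i with
    | zero =>
      intro m _ hm
      rw [Subgroup.upperCentralSeries_zero, Subgroup.mem_bot] at hm
      subst hm
      simp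
    | succ i ih =>
      intro m hm hmi
      set c := m⁻¹ * y⁻¹ * m * y with hc
      have hcM : c ∈ M := by
        rw [hc, show m⁻¹ * y⁻¹ * m * y = m⁻¹ * (y⁻¹ * m * y) by group]
        exact mul_mem (inv_mem hm) (by simpa using hMn.conj_mem m hm y⁻¹)
      have hci : c ∈ Subgroup.upperCentralSeries G i := by
        have h1 := (Subgroup.mem_upperCentralSeries_succ_iff).mp (inv_mem hmi) y⁻¹
        simpa [hc, commutatorElement_def, mul_assoc] using h1
      obtain ⟨-, hdA⟩ := ih c hcM hci
      set d := c⁻¹ * y⁻¹ * c * y with hd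
      have hmy : m * y = y * m * c := by rw [hc]; group
      have hcy : c * y = y * c * d := by rw [hd]; group
      have hdL : ∀ g ∈ L, Commute d g := fun g hg => hcen d hdA g hg
      -- the iteration takes place inside `L`
      have hdc' : ∀ g : L, Commute (⟨d, hAL hdA⟩ : L) g := fun g => Subtype.ext (hdL g g.2).eq
      have hpow := (Cfsg.Agent.Lib.PLocal.mul_pow_eq (G := L) (x := ⟨y, hyL⟩) (y := ⟨m, hML.le hm⟩)
        (c := ⟨c, hML.le hcM⟩) (d := ⟨d, hAL hdA⟩) (Subtype.ext hmy) (Subtype.ext hcy) hdc' N).2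
      have hpow' : m * y ^ N = y ^ N * m * c ^ N * d ^ N.choose 2 := by
        simpa using congrArg Subtype.val hpow
      rw [hyN, mul_one, one_mul, mul_assoc] at hpow'
      have hcA : c ∈ A := key c hcM d hdA hcy (mul_left_cancel (a := m) (by rw [mul_one, ← hpow']))
      refine ⟨?_, hcA⟩
      rw [show y⁻¹ * m⁻¹ * y * m = (m⁻¹ * y⁻¹ * m * y)⁻¹ by group]
      exact inv_mem hcA
  -- conjugates of `y` are congruent to `y` modulo `A`
  have hyg : ∀ g : G, y⁻¹ * (g * y * g⁻¹) ∈ A := by
    intro g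
    set u := y⁻¹ * (g * y * g⁻¹) with hu
    have huM : u ∈ M := by
      rw [hM, Subgroup.mem_comap]
      -- the factor `L/M` is central
      have hLq : (L.map π).map (QuotientGroup.mk' M') ≤ Subgroup.center ((G ⧸ A) ⧸ M') := by
        set σ := QuotientGroup.mk' M'
        haveI : ((L.map π).map σ).Normal :=
          Subgroup.Normal.map inferInstance _ (QuotientGroup.mk'_surjective M')
        have hne : (L.map π).map σ ≠ ⊥ := fun h => hM'lt.not_ge (by
          rw [Subgroup.map_eq_bot_iff, QuotientGroup.ker_mk'] at h; exact h)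
        obtain ⟨z, hz, hzo, hzc⟩ := Cfsg.Agent.Lib.PLocal.exists_central_prime_mem
          ((hG.to_quotient A).to_quotient M') hne
        have hcard : Nat.card ((L.map π).map σ) = p := by
          have h1 := Subgroup.card_mul_index (M'.subgroupOf (L.map π))
          rw [Nat.card_congr (Subgroup.subgroupOfEquivOfLe hM'lt.le).toEquiv, hM'card,
            mul_comm p] at h1
          rw [← Nat.eq_of_mul_eq_mul_left Nat.card_pos h1, ← Subgroup.relIndex_bot_left,
            ← Subgroup.relIndex_comap, MonoidHom.comap_bot, QuotientGroup.ker_mk']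
          rfl
        have heq : Subgroup.zpowers z = (L.map π).map σ :=
          Subgroup.eq_of_le_of_card_ge (Subgroup.zpowers_le.mpr hz)
            (by rw [hcard, Nat.card_zpowers, hzo])
        rw [← heq]; exact Subgroup.zpowers_le.mpr hzc
      have h1 : QuotientGroup.mk' M' (π y) ∈ Subgroup.center _ :=
        hLq ⟨π y, ⟨y, hyL, rfl⟩, rfl⟩
      refine (QuotientGroup.eq_one_iff _).mp ?_
      show QuotientGroup.mk' M' (π u) = 1
      rw [hu]
      simp only [map_mul, map_inv]
      rw [Subgroup.mem_center_iff.mp h1, mul_assoc (QuotientGroup.mk' M' (π y)),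
        mul_inv_cancel, mul_one, inv_mul_cancel]
    obtain ⟨i, hi⟩ : ∃ i, u ∈ Subgroup.upperCentralSeries G i :=
      ⟨Group.nilpotencyClass G, by rw [Subgroup.upperCentralSeries_nilpotencyClass]; trivial⟩
    obtain ⟨-, hdA⟩ := hMy i u huM hi
    set d := u⁻¹ * y⁻¹ * u * y with hd
    have huy : u * y = y * u * d := by rw [hd]; group
    have hdL : ∀ g : L, Commute (⟨d, hAL hdA⟩ : L) g := fun g => Subtype.ext (hcen d hdA g g.2).eq
    have hdy : (⟨d, hAL hdA⟩ : L) * ⟨y, hyL⟩ = ⟨y, hyL⟩ * ⟨d, hAL hdA⟩ * 1 := by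
      rw [mul_one]; exact hdL _
    have hdu : (⟨d, hAL hdA⟩ : L) * ⟨u, hML.le huM⟩ = ⟨u, hML.le huM⟩ * ⟨d, hAL hdA⟩ * 1 := by
      rw [mul_one]; exact hdL _
    have hf := Cfsg.Agent.Lib.PLocal.mul_pow_formula (G := L) (x := ⟨y, hyL⟩)
      (y := ⟨u, hML.le huM⟩) (c := ⟨d, hAL hdA⟩) (d := 1) (e := 1) (Subtype.ext huy) hdy hdu
      (fun g => Commute.one_left g) (fun g => Commute.one_left g) N
    have hf' : (y * u) ^ N = y ^ N * u ^ N * d ^ N.choose 2 := by
      simpa using congrArg Subtype.val hf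
    have hyuN : (y * u) ^ N = 1 := by
      rw [hu, mul_inv_cancel_left, conj_pow, hyN]; group
    rw [hyuN, hyN, one_mul] at hf'
    exact key u huM d hdA huy hf'.symm
  -- so `A ⊔ ⟨y⟩` is a larger normal abelian subgroup of the same exponent
  set B := A ⊔ Subgroup.zpowers y with hB
  have hyB : y ∈ B := Subgroup.mem_sup_right (Subgroup.mem_zpowers y)
  have hBgen : B = Subgroup.closure ((A : Set G) ∪ {y}) := by
    rw [Subgroup.closure_union, Subgroup.closure_eq, ← Subgroup.zpowers_eq_closure]
  have hBab : IsMulCommutative B := by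
    rw [hBgen]
    refine Subgroup.isMulCommutative_closure ?_
    rintro a (ha | rfl) b (hb | rfl)
    · exact congrArg Subtype.val (hA.is_comm.comm ⟨a, ha⟩ ⟨b, hb⟩)
    · exact (hcen a ha _ hyL).eq
    · exact (hcen b hb _ hyL).eq.symm
    · rfl
  have hBn : B.Normal := by
    have key' : ∀ g b : G, b ∈ B → g * b * g⁻¹ ∈ B := by
      intro g b hb
      rw [hBgen] at hb
      induction hb using Subgroup.closure_induction with
      | mem b hb =>
        rcases hb with hb | hb
        · exact Subgroup.mem_sup_left (Subgroup.Normal.conj_mem inferInstance b hb g)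
        · rw [Set.mem_singleton_iff.mp hb, show g * y * g⁻¹ = y * (y⁻¹ * (g * y * g⁻¹)) by group]
          exact mul_mem hyB (Subgroup.mem_sup_left (hyg g))
      | one => simp
      | mul a b _ _ ha hb =>
        rw [show g * (a * b) * g⁻¹ = (g * a * g⁻¹) * (g * b * g⁻¹) by group]
        exact mul_mem ha hb
      | inv a _ ha =>
        rw [show g * a⁻¹ * g⁻¹ = (g * a * g⁻¹)⁻¹ by group]
        exact inv_mem ha
    exact ⟨fun b hb g => key' g b hb⟩
  have hBe : ∀ b ∈ B, b ^ N = 1 := by
    intro b hb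
    obtain ⟨a, ha, z, hz, rfl⟩ := Subgroup.mem_sup_of_normal_left.mp hb
    obtain ⟨j, rfl⟩ := Subgroup.mem_zpowers_iff.mp hz
    rw [((hcen a ha y hyL).zpow_right j).mul_pow, hAe a ha, one_mul, ← zpow_natCast, ← zpow_mul,
      mul_comm, zpow_mul, zpow_natCast, hyN, one_zpow]
  exact hyA (hmax B hBn hBab hBe le_sup_left ▸ hyB)

end Cfsg.Agent.S0130
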