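import Cfsg.Statements.S0131
import Cfsg.Agent.Lib.Transfer.Focal

set_option autoImplicit false
open Cfsg

namespace Cfsg.Agent.S0131

open scoped commutatorElement in

/-- P/P' has a normal complement in G exactly when the focal subgroup G' ∩ P is as small as possible, namely P'. -/
theorem result {G : Type*} [Group G] [Finite G] {p : ℕ} [Fact p.Prime] (P : Sylow p G) : (∃ N : Subgroup G, N.Normal ∧ N ⊓ (P : Subgroup G) = ⁅(P : Subgroup G), (P : Subgroup G)⁆ ∧ N ⊔ (P : Subgroup G) = ⊤) ↔ commutator G ⊓ (P : Subgroup G) = ⁅(P : Subgroup G), (P : Subgroup G)⁆ := by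
  constructor
  · rintro ⟨N, hN, hNP, hNT⟩
    refine le_antisymm ?_ (le_inf (Lib.Transfer.commutator_subgroup_le _) (Subgroup.commutator_le_self _))
    refine (le_inf ?_ inf_le_right).trans hNP.le
    refine inf_le_left.trans ?_
    rw [commutator_def, Subgroup.commutator_le]
    intro a _ b _
    obtain ⟨n, hn, x, hx, rfl⟩ := Subgroup.mem_sup_of_normal_left.mp (hNT ▸ Subgroup.mem_top a : a ∈ N ⊔ (P : Subgroup G))
    obtain ⟨m, hm, y, hy, rfl⟩ := Subgroup.mem_sup_of_normal_left.mp (hNT ▸ Subgroup.mem_top b : b ∈ N ⊔ (P : Subgroup G))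
    rw [← QuotientGroup.ker_mk' N, MonoidHom.mem_ker, map_commutatorElement, map_mul, map_mul,
      show QuotientGroup.mk' N n = 1 from (QuotientGroup.eq_one_iff n).mpr hn,
      show QuotientGroup.mk' N m = 1 from (QuotientGroup.eq_one_iff m).mpr hm, one_mul, one_mul,
      ← map_commutatorElement]
    exact (QuotientGroup.eq_one_iff _).mpr
      ((hNP.ge (Subgroup.commutator_mem_commutator hx hy)).1)
  · intro h
    refine ⟨(P : Subgroup G).transferFocal.ker, inferInstance, ?_, ?_⟩
    · rw [Subgroup.ker_transferFocal_inf_eq_focalSubgroup, ← Subgroup.commutator_inf_eq_focalSubgroup, h]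
    · rw [sup_comm, eq_top_iff, ← Lib.Transfer.sylow_sup_pResidual P]
      exact sup_le_sup_left (Lib.Transfer.pResidual_le_ker (P.2.to_quotient _) _) _

end Cfsg.Agent.S0131
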