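import Cfsg.Statements.S0132
import Cfsg.Agent.Lib.Transfer.Frobenius
import Mathlib

set_option autoImplicit false
open Cfsg

namespace Cfsg.Agent.S0132

set_option linter.style.haveILetI false
open Cfsg.Agent.Lib.Transfer

/-- A minimal non-p-nilpotent finite group is a minimal non-nilpotent group with a normal Sylow p-subgroup. -/
theorem result {G : Type*} [Group G] [Finite G] {p : ℕ} [Fact p.Prime] (h1 : ¬ Cfsg.HasNormalPComplement p G) (h2 : ∀ H : Subgroup G, H ≠ ⊤ → Cfsg.HasNormalPComplement p H) : (∀ H : Subgroup G, H ≠ ⊤ → Group.IsNilpotent H) ∧ ¬ Group.IsNilpotent G ∧ ∀ P : Sylow p G, (P : Subgroup G).Normal := by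
  classical
  have hpp : p.Prime := Fact.out
  let P : Sylow p G := default
  -- a `p`-subgroup with a `p'`-element inducing a nontrivial automorphism
  obtain ⟨Q, hQ, g, hgN, hgo, hgc⟩ : ∃ Q : Subgroup G, Q ≤ (P : Subgroup G) ∧
      ∃ g ∈ Subgroup.normalizer (Q : Set G),
        Nat.Coprime (orderOf g) p ∧ g ∉ Subgroup.centralizer (Q : Set G) := by
    by_contra! hall
    exact h1 (hasNormalPComplement_of_frobenius P hall)
  have hQp : IsPGroup p Q := P.2.to_le hQ
  have hbad : ∀ H : Subgroup G, Q ≤ H → (Q.subgroupOf H).Normal →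
      ∀ x ∈ H, Nat.Coprime (orderOf x) p → x ∉ Subgroup.centralizer (Q : Set G) → H = ⊤ := by
    intro H hQH hn x hx hxo hxc
    by_contra hH
    apply hxc
    haveI := hn
    have hc := commute_of_hasNormalPComplement (h2 H hH) (Q := Q.subgroupOf H)
      (hQp.of_equiv (Subgroup.subgroupOfEquivOfLe hQH).symm) (g := ⟨x, hx⟩)
      (by rwa [Subgroup.orderOf_mk])
    intro y hy
    exact congrArg Subtype.val (hc ⟨y, hQH hy⟩ hy)
  have hNtop := hbad _ Subgroup.le_normalizer Subgroup.normal_in_normalizer g hgN hgo hgc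
  haveI hQn : Q.Normal := Subgroup.normalizer_eq_top_iff.mp hNtop
  -- reduce to an element of prime power order
  obtain ⟨b, hb⟩ := Set.Finite.exists_minimal
    (s := {n : ℕ | ∃ x : G, orderOf x = n ∧ Nat.Coprime n p ∧ x ∉ Subgroup.centralizer (Q : Set G)})
    ((Set.finite_le_nat (Nat.card G)).subset (by
      rintro n ⟨x, rfl, -, -⟩
      exact Nat.le_of_dvd Nat.card_pos (orderOf_dvd_natCard x)))
    ⟨_, g, rfl, hgo, hgc⟩
  obtain ⟨x, hxo, hxp, hxc⟩ := hb.prop
  have hb1 : b ≠ 1 := by
    intro h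
    rw [h, orderOf_eq_one_iff] at hxo
    exact hxc (hxo ▸ one_mem _)
  obtain ⟨q, hq, hqd⟩ := Nat.exists_prime_and_dvd hb1
  haveI : Fact q.Prime := ⟨hq⟩
  obtain ⟨a, c, hax, hcx, hao, ⟨k, hk⟩, hac⟩ := exists_pPart_decomp (p := q) x
  have hxfin : ∃ k, orderOf x = q ^ k := by
    have hcdvd : orderOf c ∣ orderOf x := orderOf_dvd_of_mem_zpowers hcx
    by_cases hcc : c ∈ Subgroup.centralizer (Q : Set G)
    · exfalso
      have hac' : a ∉ Subgroup.centralizer (Q : Set G) := fun h => hxc (hac ▸ mul_mem h hcc)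
      have hadvd : orderOf a ∣ b := hxo ▸ orderOf_dvd_of_mem_zpowers hax
      have hle : b ≤ orderOf a := hb.le_of_le ⟨a, rfl, hxp.coprime_dvd_left hadvd, hac'⟩
        (Nat.le_of_dvd (hxo ▸ orderOf_pos x) hadvd)
      have heq : orderOf a = b :=
        le_antisymm (Nat.le_of_dvd (hxo ▸ orderOf_pos x) hadvd) hle
      rw [heq] at hao
      exact hq.ne_one (Nat.dvd_one.mp (hao ▸ Nat.dvd_gcd hqd dvd_rfl))
    · have hle : b ≤ orderOf c := hb.le_of_le ⟨c, rfl, hxp.coprime_dvd_left (hxo ▸ hcdvd), hcc⟩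
        (Nat.le_of_dvd (hxo ▸ orderOf_pos x) (hxo ▸ hcdvd))
      refine ⟨k, ?_⟩
      rw [← hk, hxo]
      exact le_antisymm hle (Nat.le_of_dvd (hxo ▸ orderOf_pos x) (hxo ▸ hcdvd))
  obtain ⟨e, he⟩ := hxfin
  -- `G = Q ⟨x⟩`
  have htop : Q ⊔ Subgroup.zpowers x = ⊤ :=
    hbad _ le_sup_left inferInstance x (Subgroup.mem_sup_right (Subgroup.mem_zpowers x))
      (hxo ▸ hxp) hxc
  set π := QuotientGroup.mk' Q with hπ
  have hgen : ∀ y : G ⧸ Q, y ∈ Subgroup.zpowers (π x) := by
    intro y
    obtain ⟨u, rfl⟩ := QuotientGroup.mk'_surjective Q y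
    obtain ⟨r, hr, z, hz, rfl⟩ := Subgroup.mem_sup_of_normal_left.mp (htop.ge (Subgroup.mem_top u))
    rw [map_mul, show QuotientGroup.mk' Q r = 1 from (QuotientGroup.eq_one_iff r).mpr hr, one_mul,
      ← MonoidHom.map_zpowers]
    exact Subgroup.mem_map_of_mem π hz
  have hqgroup : IsPGroup q (G ⧸ Q) := by
    refine IsPGroup.iff_orderOf.mpr fun y => ?_
    have h := (orderOf_dvd_of_mem_zpowers (hgen y)).trans (orderOf_map_dvd π x)
    rw [he] at h
    obtain ⟨j, -, hj⟩ := (Nat.dvd_prime_pow hq).mp h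
    exact ⟨j, hj⟩
  have hqp : q ≠ p := by
    rintro rfl
    exact hq.ne_one (Nat.dvd_one.mp (hxp ▸ Nat.dvd_gcd hqd dvd_rfl))
  have hQidx : ¬ p ∣ Q.index := by
    intro hd
    obtain ⟨j, hj⟩ := IsPGroup.iff_card.mp hqgroup
    rw [Subgroup.index_eq_card, hj] at hd
    exact hqp ((Nat.prime_dvd_prime_iff_eq hpp hq).mp (hpp.dvd_of_dvd_pow hd)).symm
  refine ⟨fun H hH => ?_, fun hnil => ?_, fun S => ?_⟩
  · have hN := h2 H hH
    rw [hasNormalPComplement_iff_coprime] at hN
    set N := Cfsg.pResidual p H with hNdef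
    set R := Q.subgroupOf H with hR
    have hRp : IsPGroup p R :=
      hQp.of_injective ((H.subtype.comp R.subtype).codRestrict Q fun r => r.2)
        fun u v h => Subtype.ext (Subtype.ext (congrArg Subtype.val h :))
    haveI : Group.IsNilpotent R := hRp.isNilpotent
    have hNq : IsPGroup q N := by
      refine hqgroup.of_injective (π.comp (H.subtype.comp N.subtype)) ?_
      rw [← MonoidHom.ker_eq_bot_iff, eq_bot_iff]
      intro u hu
      have huQ : ((u : H) : G) ∈ Q := (QuotientGroup.eq_one_iff _).mp hu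
      refine Subgroup.mem_bot.mpr (Subtype.ext ?_)
      exact eq_one_of_isPGroup_of_coprime hRp huQ (coprime_orderOf_of_mem hN u.2)
    haveI : Group.IsNilpotent N := hNq.isNilpotent
    have hcomm : ∀ (r : R) (u : N), Commute (R.subtype r) (N.subtype u) := fun r u =>
      commute_of_hasNormalPComplement (h2 H hH) hRp (coprime_orderOf_of_mem hN u.2) r r.2
    let f : R × N →* H := R.subtype.noncommCoprod N.subtype hcomm
    have hf : Function.Surjective f := by
      rw [← MonoidHom.range_eq_top, MonoidHom.noncommCoprod_range, Subgroup.range_subtype,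
        Subgroup.range_subtype, ← Subgroup.index_eq_one]
      obtain ⟨j, hj⟩ := exists_index_pResidual (G := H) (p := p)
      have hd1 : (R ⊔ N).index ∣ p ^ j := hj ▸ Subgroup.index_dvd_of_le le_sup_right
      have hd2 : (R ⊔ N).index ∣ Q.index :=
        (Subgroup.index_dvd_of_le le_sup_left).trans (Subgroup.relIndex_dvd_index_of_normal Q H)
      obtain ⟨i, -, hi⟩ := (Nat.dvd_prime_pow hpp).mp hd1
      rcases i with _ | i
      · rw [hi, pow_zero]
      · exact absurd ((dvd_pow_self p i.succ_ne_zero).trans (hi ▸ hd2)) hQidx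
    exact Group.nilpotent_of_surjective f hf
  · apply h1
    haveI := hnil
    refine hasNormalPComplement_of_local fun U hU hUb => ?_
    by_cases hUt : Subgroup.normalizer (U : Set G) = ⊤
    · exfalso
      apply hxc
      -- in a nilpotent group coprime elements commute
      intro y hy
      obtain ⟨S₁, hS₁⟩ := hQp.exists_le_sylow
      obtain ⟨S₂, hS₂⟩ := (IsPGroup.of_card (p := q) (G := Subgroup.zpowers x) (n := e)
        (by rw [Nat.card_zpowers, he])).exists_le_sylow
      have hn1 : (S₁ : Subgroup G).Normal := inferInstance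
      have hn2 : (S₂ : Subgroup G).Normal := inferInstance
      exact Subgroup.commute_of_normal_of_disjoint _ _ hn1 hn2
        (IsPGroup.disjoint_of_ne p q hqp.symm _ _ S₁.2 S₂.2) y x (hS₁ hy)
        (hS₂ (Subgroup.mem_zpowers x))
    · exact h2 _ hUt
  · have hSQ : Q = (S : Subgroup G) := by
      obtain ⟨Q', hQ'⟩ := hQp.exists_le_sylow
      have h : (Q' : Subgroup G) = Q := by
        refine le_antisymm ?_ hQ'
        intro u hu
        obtain ⟨j, hj⟩ := hqgroup (π u)
        obtain ⟨i, hi⟩ := Q'.2 ⟨u, hu⟩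
        have hi' : u ^ p ^ i = 1 := congrArg Subtype.val hi
        have h1 : orderOf (π u) ∣ q ^ j := orderOf_dvd_of_pow_eq_one hj
        have h2 : orderOf (π u) ∣ p ^ i :=
          orderOf_dvd_of_pow_eq_one (by rw [← map_pow, hi', map_one])
        have hcop : Nat.Coprime (q ^ j) (p ^ i) :=
          Nat.Coprime.pow _ _ ((Nat.coprime_primes hq hpp).mpr hqp)
        have := Nat.eq_one_of_dvd_coprimes hcop h1 h2
        exact (QuotientGroup.eq_one_iff u).mp (orderOf_eq_one_iff.mp this)
      haveI : ((Q' : Subgroup G)).Normal := h.symm ▸ hQn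
      haveI := Sylow.unique_of_normal Q' inferInstance
      rw [Subsingleton.elim S Q', h]
    exact hSQ ▸ hQn

end Cfsg.Agent.S0132
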