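import Cfsg.Statements.S0158
import Cfsg.Agent.Lib.Characters.FrobeniusSchur
-- import your own Cfsg.Agent.* helpers here

set_option autoImplicit false
open Cfsg

namespace Cfsg.Agent.S0158

/-- The Frobenius–Schur indicator of an irreducible complex representation of a finite group — the average over s of the character at s * s — is 0, 1 or −1, and it vanishes exactly when some character value is not real. -/
theorem result {G : Type*} [Group G] [Fintype G] {V : Type*} [AddCommGroup V] [Module ℂ V] [FiniteDimensional ℂ V] (ρ : Representation ℂ G V) [ρ.IsIrreducible] : ((Nat.card G : ℂ)⁻¹ * ∑ s : G, ρ.character (s * s) = 0 ∨ (Nat.card G : ℂ)⁻¹ * ∑ s : G, ρ.character (s * s) = 1 ∨ (Nat.card G : ℂ)⁻¹ * ∑ s : G, ρ.character (s * s) = -1) ∧ ((Nat.card G : ℂ)⁻¹ * ∑ s : G, ρ.character (s * s) = 0 ↔ ∃ s : G, (ρ.character s).im ≠ 0) := by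
  obtain ⟨h1, h2⟩ := Lib.Characters.frobeniusSchur (Lib.Characters.isIrrCharacter_of_rep ρ)
  by_cases hre : ∃ s : G, (ρ.character s).im ≠ 0
  · exact ⟨Or.inl (h1 hre), fun _ => hre, fun _ => h1 hre⟩
  · obtain ⟨n, B, ε, -, -, hε, -, hν⟩ := h2 (by simpa using hre)
    rw [hν]
    rcases hε with rfl | rfl
    · exact ⟨Or.inr (Or.inl rfl), fun h => absurd h one_ne_zero, fun h => absurd h hre⟩
    · exact ⟨Or.inr (Or.inr rfl), fun h => absurd h (by norm_num), fun h => absurd h hre⟩

end Cfsg.Agent.S0158
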