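import Cfsg.Statements.S0161
import Cfsg.Agent.Lib.Characters.Kernel
-- import your own Cfsg.Agent.* helpers here

set_option autoImplicit false
open Cfsg

namespace Cfsg.Agent.S0161

/-- In a finite group of odd order, a real-valued irreducible complex character is the trivial character. -/
theorem result {G : Type*} [Group G] [Finite G] (hodd : Odd (Nat.card G)) (χ : Cfsg.IrrCharacter G) (hreal : ∀ g : G, ((χ : G → ℂ) g).im = 0) : (χ : G → ℂ) = fun _ => 1 := by
  classical
  haveI := Fintype.ofFinite G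
  have hcard : Nat.card {χ : Cfsg.IrrCharacter G // ∀ g : G, ((χ : G → ℂ) g).im = 0} = 1 := by
    rw [Lib.Characters.card_real_irr, Nat.card_eq_one_iff_exists]
    refine ⟨⟨ConjClasses.mk 1, fun g hg => ?_⟩, ?_⟩
    · rw [ConjClasses.mk_eq_mk_iff_isConj, isConj_one_left] at hg
      rw [hg, inv_one]
    · rintro ⟨C, hC⟩
      obtain ⟨g, rfl⟩ := ConjClasses.mk_surjective C
      obtain ⟨c, hc⟩ := isConj_iff.mp (hC g rfl)
      refine Subtype.ext (congrArg ConjClasses.mk ?_)
      -- `c ^ 2` centralises `g`, hence so does `c`, since the order of `c` is odd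
      have h2 : c ^ 2 * g * (c ^ 2)⁻¹ = g := by
        calc c ^ 2 * g * (c ^ 2)⁻¹ = c * (c * g * c⁻¹) * c⁻¹ := by rw [pow_two]; group
          _ = c * g⁻¹ * c⁻¹ := by rw [hc]
          _ = (c * g * c⁻¹)⁻¹ := by group
          _ = g := by rw [hc, inv_inv]
      have hodd' : ∀ x : G, Odd (orderOf x) := fun x =>
        hodd.of_dvd_nat (orderOf_dvd_natCard x)
      have h3 : Commute (c ^ 2) g := mul_inv_eq_iff_eq_mul.mp h2
      obtain ⟨r, hr⟩ := hodd' c
      have hcc : c = (c ^ 2) ^ (r + 1) := by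
        rw [← pow_mul, show 2 * (r + 1) = orderOf c + 1 by omega, pow_succ, pow_orderOf_eq_one,
          one_mul]
      have h4 : Commute c g := by
        rw [hcc]
        exact h3.pow_left _
      have h5 : g = g⁻¹ := by rw [← hc, h4.eq, mul_inv_cancel_right]
      have h6 : g ^ 2 = 1 := by
        rw [pow_two]
        nth_rewrite 2 [h5]
        exact mul_inv_cancel g
      obtain ⟨j, hj⟩ := hodd' g
      have h7 := orderOf_dvd_of_pow_eq_one h6
      have h8 : orderOf g ≤ 2 := Nat.le_of_dvd two_pos h7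
      exact orderOf_eq_one_iff.mp (by omega)
  obtain ⟨x, hx⟩ := Nat.card_eq_one_iff_exists.mp hcard
  have h1 := hx ⟨χ, hreal⟩
  have h2 := hx ⟨Lib.Characters.trivIrr G, fun g => by simp⟩
  exact congrArg (fun y => (y.1 : G → ℂ)) (h1.trans h2.symm)

end Cfsg.Agent.S0161
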