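import Cfsg.Statements.S0162
import Cfsg.Agent.Lib.Characters.Kernel
-- import your own Cfsg.Agent.* helpers here

set_option autoImplicit false
open Cfsg
open scoped ComplexConjugate

namespace Cfsg.Agent.S0162

/-- If a finite group has odd order, its order is congruent to its number of conjugacy classes modulo 16. -/
theorem result {G : Type*} [Group G] [Finite G] (hodd : Odd (Nat.card G)) : Nat.card G ≡ Nat.card (ConjClasses G) [MOD 16] := by
  classical
  haveI := Fintype.ofFinite G
  haveI := Fintype.ofFinite (Cfsg.IrrCharacter G)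
  choose d hd0 hd1 hd2 using fun χ : Cfsg.IrrCharacter G =>
    Lib.Characters.IsIrrCharacter.exists_degree_dvd χ.2
  have hsum : Nat.card G = ∑ χ : Cfsg.IrrCharacter G, d χ ^ 2 := by
    have h := Lib.Characters.sum_degree_sq (G := G)
    simp only [hd1] at h
    exact_mod_cast h.symm
  rw [← Lib.Characters.card_irrCharacter, ← ZMod.natCast_eq_natCast_iff, hsum,
    Nat.card_eq_fintype_card, ← sub_eq_zero]
  push_cast
  rw [← Finset.card_univ, Finset.cast_card, ← Finset.sum_sub_distrib]
  have hf8 : ∀ χ : Cfsg.IrrCharacter G, 2 * ((d χ : ZMod 16) ^ 2 - 1) = 0 := by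
    intro χ
    obtain ⟨k, hk⟩ := hodd.of_dvd_nat (hd2 χ)
    obtain ⟨t, ht⟩ := (Nat.even_mul_succ_self k).two_dvd
    have e : (d χ : ZMod 16) ^ 2 - 1 = 4 * ((k * (k + 1) : ℕ) : ZMod 16) := by
      rw [hk]; push_cast; ring
    rw [e, ht]
    push_cast
    rw [← mul_assoc, ← mul_assoc, show (2 : ZMod 16) * 4 * 2 = 0 by decide, zero_mul]
  let σ : Cfsg.IrrCharacter G → Cfsg.IrrCharacter G := fun χ =>
    ⟨_, Lib.Characters.IsIrrCharacter.conjugate χ.2⟩
  have hσd : ∀ χ, d (σ χ) = d χ := fun χ => by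
    have h : (d (σ χ) : ℂ) = conj ((χ : G → ℂ) 1) := (hd1 (σ χ)).symm
    rw [hd1 χ, map_natCast] at h
    exact_mod_cast h
  refine Finset.sum_involution (fun χ _ => σ χ) (fun χ _ => ?_) (fun χ _ hne hfix => hne ?_)
    (fun χ _ => Finset.mem_univ _)
    (fun χ _ => Subtype.ext (funext fun g => Complex.conj_conj _))
  · rw [hσd, ← two_mul]
    exact hf8 χ
  · have hreal : ∀ g : G, ((χ : G → ℂ) g).im = 0 := fun g =>
      Complex.conj_eq_iff_im.mp (congrFun (congrArg Subtype.val hfix) g)
    have hcard1 : Nat.card {χ : Cfsg.IrrCharacter G // ∀ g : G, ((χ : G → ℂ) g).im = 0} = 1 := by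
      rw [Lib.Characters.card_real_irr, Nat.card_eq_one_iff_exists]
      refine ⟨⟨ConjClasses.mk 1, fun g hg => ?_⟩, ?_⟩
      · rw [ConjClasses.mk_eq_mk_iff_isConj, isConj_one_left] at hg
        rw [hg, inv_one]
      · rintro ⟨C, hC⟩
        obtain ⟨g, rfl⟩ := ConjClasses.mk_surjective C
        obtain ⟨c, hc⟩ := isConj_iff.mp (hC g rfl)
        refine Subtype.ext (congrArg ConjClasses.mk ?_)
        have h2 : Commute (c ^ 2) g := mul_inv_eq_iff_eq_mul.mp (by
          calc c ^ 2 * g * (c ^ 2)⁻¹ = c * (c * g * c⁻¹) * c⁻¹ := by rw [pow_two]; group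
            _ = c * g⁻¹ * c⁻¹ := by rw [hc]
            _ = (c * g * c⁻¹)⁻¹ := by group
            _ = g := by rw [hc, inv_inv])
        obtain ⟨r, hr⟩ := hodd.of_dvd_nat (orderOf_dvd_natCard c)
        have hcc : c = (c ^ 2) ^ (r + 1) := by
          rw [← pow_mul, show 2 * (r + 1) = orderOf c + 1 by omega, pow_succ, pow_orderOf_eq_one,
            one_mul]
        have h4 : Commute c g := by rw [hcc]; exact h2.pow_left _
        have h5 : g = g⁻¹ := by rw [← hc, h4.eq, mul_inv_cancel_right]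
        have h6 : g ^ 2 = 1 := by
          rw [pow_two]; nth_rewrite 2 [h5]; exact mul_inv_cancel g
        obtain ⟨j, hj⟩ := hodd.of_dvd_nat (orderOf_dvd_natCard g)
        have h8 := Nat.le_of_dvd two_pos (orderOf_dvd_of_pow_eq_one h6)
        exact orderOf_eq_one_iff.mp (by omega)
    obtain ⟨x, hx⟩ := Nat.card_eq_one_iff_exists.mp hcard1
    have hχ : χ = Lib.Characters.trivIrr G := congrArg Subtype.val
      ((hx ⟨χ, hreal⟩).trans (hx ⟨Lib.Characters.trivIrr G, fun g => by simp⟩).symm)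
    have : (d χ : ℂ) = ((1 : ℕ) : ℂ) := by rw [← hd1, hχ]; simp
    rw [show d χ = 1 by exact_mod_cast this]
    simp

end Cfsg.Agent.S0162
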