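import Cfsg.Statements.S0167
import Cfsg.Agent.Lib.Characters.Convolution
-- import your own Cfsg.Agent.* helpers here

set_option autoImplicit false
open Cfsg

namespace Cfsg.Agent.S0167

/-- An element g of a finite group is a commutator if and only if the sum over the irreducible characters χ of χ g / χ 1 is nonzero. -/
theorem result {G : Type*} [Group G] [Finite G] (g : G) : (∃ a b : G, g = a * b * a⁻¹ * b⁻¹) ↔ ∑ᶠ χ : Cfsg.IrrCharacter G, (χ : G → ℂ) g / (χ : G → ℂ) 1 ≠ 0 := by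
  classical
  haveI := Fintype.ofFinite G
  haveI := Fintype.ofFinite (Cfsg.IrrCharacter G)
  rw [finsum_eq_sum_of_fintype]
  set S : ℂ := ∑ χ : Cfsg.IrrCharacter G, (χ : G → ℂ) g / (χ : G → ℂ) 1 with hS
  have hcount : ((Finset.univ.filter fun q : G × G => q.1 * q.2 * q.1⁻¹ * q.2⁻¹ = g⁻¹).card : ℂ) =
      (Nat.card G : ℂ) * S := by
    have hG : (Nat.card G : ℂ) ≠ 0 := Lib.Characters.natCard_ne_zero_complex
    have h1 : ∀ q : G × G, (if q.1 * q.2 * q.1⁻¹ * q.2⁻¹ = g⁻¹ then (1 : ℂ) else 0) =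
        (Nat.card G : ℂ)⁻¹ * ∑ χ : Cfsg.IrrCharacter G,
          (χ : G → ℂ) 1 * (χ : G → ℂ) (q.2⁻¹ * g * (q.1 * q.2 * q.1⁻¹)) := by
      intro q
      rw [Lib.Characters.sum_degree_mul]
      have : q.2⁻¹ * g * (q.1 * q.2 * q.1⁻¹) = 1 ↔ q.1 * q.2 * q.1⁻¹ * q.2⁻¹ = g⁻¹ := by
        constructor
        · intro h
          calc q.1 * q.2 * q.1⁻¹ * q.2⁻¹
              = g⁻¹ * q.2 * (q.2⁻¹ * g * (q.1 * q.2 * q.1⁻¹)) * q.2⁻¹ := by group
            _ = g⁻¹ := by rw [h]; group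
        · intro h
          calc q.2⁻¹ * g * (q.1 * q.2 * q.1⁻¹)
              = q.2⁻¹ * g * (q.1 * q.2 * q.1⁻¹ * q.2⁻¹) * q.2 := by group
            _ = 1 := by rw [h]; group
      simp only [this]
      split_ifs <;> simp [hG]
    rw [← Finset.sum_boole, Finset.sum_congr rfl fun q _ => h1 q, ← Finset.mul_sum,
      Finset.sum_comm]
    have h2 : ∀ χ : Cfsg.IrrCharacter G,
        ∑ q : G × G, (χ : G → ℂ) 1 * (χ : G → ℂ) (q.2⁻¹ * g * (q.1 * q.2 * q.1⁻¹)) =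
          (Nat.card G : ℂ) ^ 2 * ((χ : G → ℂ) g / (χ : G → ℂ) 1) := by
      intro χ
      have h3 : ∑ b : G, (χ : G → ℂ) b * (χ : G → ℂ) (b⁻¹ * g) =
          (Nat.card G : ℂ) / (χ : G → ℂ) 1 * (χ : G → ℂ) g := by
        rw [Lib.Characters.IsIrrCharacter.sum_mul_convolution χ.2 χ.2 g, if_pos rfl]
      have hne := Lib.Characters.IsIrrCharacter.apply_one_ne_zero χ.2
      rw [Fintype.sum_prod_type, Finset.sum_comm]
      simp only [← Finset.mul_sum, Lib.Characters.IsIrrCharacter.sum_conj_translate χ.2]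
      simp only [mul_comm ((χ : G → ℂ) (_ * g)), h3]
      field_simp
    rw [Finset.sum_congr rfl fun χ _ => h2 χ, ← Finset.mul_sum, hS]
    field_simp
  have hiff : (∃ a b : G, g = a * b * a⁻¹ * b⁻¹) ↔
      (Finset.univ.filter fun q : G × G => q.1 * q.2 * q.1⁻¹ * q.2⁻¹ = g⁻¹).Nonempty := by
    constructor
    · rintro ⟨a, b, hab⟩
      exact ⟨(b, a), Finset.mem_filter.mpr ⟨Finset.mem_univ _, by rw [hab]; group⟩⟩
    · rintro ⟨⟨a, b⟩, hab⟩
      refine ⟨b, a, ?_⟩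
      rw [← inv_inv g, ← (Finset.mem_filter.mp hab).2]
      group
  rw [hiff, ← Finset.card_pos, Nat.pos_iff_ne_zero, ← Nat.cast_ne_zero (R := ℂ), hcount]
  simp [Lib.Characters.natCard_ne_zero_complex]

end Cfsg.Agent.S0167
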