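import Cfsg.Statements.S0168
import Cfsg.Agent.Lib.Characters.Rep
import Cfsg.Agent.Lib.Characters.Basic
-- import your own Cfsg.Agent.* helpers here

set_option autoImplicit false
open Cfsg

namespace Cfsg.Agent.S0168

/-- The Burnside–Brauer Theorem. Let χ be the character of a faithful complex representation of a finite group, taking m distinct values. Then every irreducible character has nonzero inner product with χ ^ i for some i < m. -/
theorem result {G : Type*} [Group G] [Fintype G] {V : Type*} [AddCommGroup V] [Module ℂ V] [FiniteDimensional ℂ V] (ρ : Representation ℂ G V) (hfaithful : Function.Injective ρ) (ψ : G → ℂ) (hψ : Cfsg.IsIrrCharacter G ψ) : ∃ i : ℕ, i < Nat.card (Set.range ρ.character) ∧ Cfsg.classInner (fun g => ρ.character g ^ i) ψ ≠ 0 := by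
  classical
  obtain ⟨d, hd, hψ1⟩ := Lib.Characters.IsIrrCharacter.exists_apply_one hψ
  by_contra hno
  push Not at hno
  set s := (Finset.univ.image ρ.character).erase (ρ.character 1) with hs
  set P : Polynomial ℂ := ∏ v ∈ s, (Polynomial.X - Polynomial.C v) with hP
  have hdeg : P.natDegree < Nat.card (Set.range ρ.character) := by
    rw [hP, Polynomial.natDegree_prod _ _ fun v _ => Polynomial.X_sub_C_ne_zero v]
    simp only [Polynomial.natDegree_X_sub_C, Finset.sum_const, smul_eq_mul, mul_one]
    rw [Nat.card_eq_fintype_card, ← Set.toFinset_card, Set.toFinset_range]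
    exact Finset.card_erase_lt_of_mem (Finset.mem_image_of_mem _ (Finset.mem_univ 1))
  have h1 : ∑ g : G, P.eval (ρ.character g) * (starRingEnd ℂ) (ψ g) = 0 := by
    simp only [Polynomial.eval_eq_sum_range, Finset.sum_mul]
    rw [Finset.sum_comm]
    refine Finset.sum_eq_zero fun i hi => ?_
    have hi' : i < Nat.card (Set.range ρ.character) := by
      have := Finset.mem_range.mp hi
      omega
    have h := hno i hi'
    rw [Cfsg.classInner, mul_eq_zero] at h
    have h2 := h.resolve_left (by simp)
    simp only [mul_assoc, ← Finset.mul_sum, h2, mul_zero]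
  rw [Finset.sum_eq_single (1 : G)] at h1
  · rw [mul_eq_zero, hψ1, map_natCast, Nat.cast_eq_zero] at h1
    have h3 := h1.resolve_right hd.ne'
    rw [hP, Polynomial.eval_prod, Finset.prod_eq_zero_iff] at h3
    obtain ⟨v, hv, hv0⟩ := h3
    simp only [Polynomial.eval_sub, Polynomial.eval_X, Polynomial.eval_C, sub_eq_zero] at hv0
    exact (Finset.mem_erase.mp hv).1 hv0.symm
  · intro g _ hg
    have hne : ρ.character g ≠ ρ.character 1 := by
      rw [ρ.char_one, Ne, Lib.Characters.char_eq_finrank_iff]
      exact fun h => hg (hfaithful (h.trans (map_one ρ).symm))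
    rw [hP, Polynomial.eval_prod, Finset.prod_eq_zero (i := ρ.character g), zero_mul]
    · exact Finset.mem_erase.mpr ⟨hne, Finset.mem_image_of_mem _ (Finset.mem_univ g)⟩
    · simp
  · simp

end Cfsg.Agent.S0168
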