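import Cfsg.Statements.S0170
import Cfsg.Agent.Lib.Characters.Gram
import Cfsg.Agent.Lib.Characters.TI
-- import your own Cfsg.Agent.* helpers here

set_option autoImplicit false
open Cfsg

namespace Cfsg.Agent.S0170

/-- Exceptional characters. Let S be a subset of a finite group contained in its normalizer N and meeting its conjugates by elements outside N only in the identity. Given n ≥ 2 distinct irreducible characters of N of equal degree that vanish on N away from S, there exist a sign ε and n distinct irreducible characters θ_i of G such that inducing χ_i − χ_j to G gives ε (θ_i − θ_j) for all i, j. -/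
theorem result {G : Type*} [Group G] [Fintype G] (S : Set G) (hSN : S ⊆ Subgroup.normalizer S) (hTI : ∀ g : G, g ∉ Subgroup.normalizer S → ∀ s ∈ S, g * s * g⁻¹ ∈ S → s = 1) (n : ℕ) (hn : 2 ≤ n) (χ : Fin n → (Subgroup.normalizer S → ℂ)) (hirr : ∀ i, Cfsg.IsIrrCharacter (Subgroup.normalizer S) (χ i)) (hinj : Function.Injective χ) (hvan : ∀ i, ∀ x : Subgroup.normalizer S, (x : G) ∉ S → χ i x = 0) (hdeg : ∀ i j, χ i 1 = χ j 1) : ∃ ε : ℂ, (ε = 1 ∨ ε = -1) ∧ ∃ θ : Fin n → (G → ℂ), (∀ i, Cfsg.IsIrrCharacter G (θ i)) ∧ Function.Injective θ ∧ ∀ i j, Cfsg.indFun (Subgroup.normalizer S) (χ i) - Cfsg.indFun (Subgroup.normalizer S) (χ j) = ε • (θ i - θ j) := by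
  classical
  haveI := Fintype.ofFinite (Subgroup.normalizer S)
  let i₀ : Fin n := ⟨0, by omega⟩
  have hcl : ∀ i, Cfsg.IsClassFunction (Subgroup.normalizer S) (χ i) := fun i =>
    Lib.Characters.IsCharacter.isClassFunction (Lib.Characters.IsIrrCharacter.isCharacter (hirr i))
  have hiso : ∀ i j, Cfsg.classInner (Cfsg.indFun (Subgroup.normalizer S) (χ i - χ i₀)) (Cfsg.indFun (Subgroup.normalizer S) (χ j - χ i₀)) =
      Cfsg.classInner (χ i - χ i₀) (χ j - χ i₀) := by
    intro i j
    refine Lib.Characters.classInner_indFun_indFun_eq _ S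
      (Lib.Characters.IsClassFunction.sub (hcl j) (hcl i₀))
      (fun x hx => by simp [hvan j x hx, hvan i₀ x hx]) fun t ht x hx hxS => ?_
    have htS : (t : G) ∈ S := by
      by_contra h
      exact ht (by simp [hvan i t h, hvan i₀ t h])
    have h1 := hTI x hx _ hxS (by simpa [mul_assoc] using htS)
    rw [show x⁻¹ * (t : G) * x = x⁻¹ * (t : G) * (x⁻¹)⁻¹ by rw [inv_inv], conj_eq_one_iff] at h1
    exact ht (by rw [show t = 1 from Subtype.ext h1]; simp [hdeg i i₀])
  have hgen : ∀ i, Cfsg.IsGeneralizedCharacter G (Cfsg.indFun (Subgroup.normalizer S) (χ i - χ i₀)) := fun i =>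
    Lib.Characters.IsGeneralizedCharacter.indFun (Subgroup.normalizer S) ⟨_, _,
      Lib.Characters.IsIrrCharacter.isCharacter (hirr i),
      Lib.Characters.IsIrrCharacter.isCharacter (hirr i₀), rfl⟩
  obtain ⟨ε, hε, θ, hθ, hθi, hτ⟩ := Lib.Characters.exists_sign_of_gram n i₀
    (fun i => Cfsg.indFun (Subgroup.normalizer S) (χ i - χ i₀)) (by simp) hgen
    (fun i => by simp [Lib.Characters.indFun_one, hdeg i i₀]) (fun i j hi hj => by
      rw [hiso, Lib.Characters.classInner_sub_left, Lib.Characters.classInner_sub_right,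
        Lib.Characters.classInner_sub_right, Lib.Characters.IsIrrCharacter.classInner_self (hirr i₀),
        Lib.Characters.IsIrrCharacter.classInner_ne (hirr i) (hirr i₀) (hinj.ne hi),
        Lib.Characters.IsIrrCharacter.classInner_ne (hirr i₀) (hirr j) (hinj.ne (Ne.symm hj))]
      split_ifs with hij
      · rw [hij, Lib.Characters.IsIrrCharacter.classInner_self (hirr j)]; norm_num
      · rw [Lib.Characters.IsIrrCharacter.classInner_ne (hirr i) (hirr j) (hinj.ne hij)]; norm_num)
  refine ⟨ε, hε, θ, hθ, hθi, fun i j => ?_⟩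
  have e1 := hτ i
  have e2 := hτ j
  simp only [Lib.Characters.indFun_sub] at e1 e2
  calc _ = (Cfsg.indFun (Subgroup.normalizer S) (χ i) - Cfsg.indFun (Subgroup.normalizer S) (χ i₀)) -
        (Cfsg.indFun (Subgroup.normalizer S) (χ j) - Cfsg.indFun (Subgroup.normalizer S) (χ i₀)) := (sub_sub_sub_cancel_right _ _ _).symm
    _ = ε • (θ i - θ i₀) - ε • (θ j - θ i₀) := by rw [e1, e2]
    _ = _ := by rw [← smul_sub, sub_sub_sub_cancel_right]

end Cfsg.Agent.S0170
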