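import Cfsg.Statements.S0171
import Cfsg.Agent.Lib.Characters.Clifford
import Cfsg.Agent.Lib.Characters.Kernel
import Mathlib.Tactic.Group
-- import your own Cfsg.Agent.* helpers here

set_option autoImplicit false
open Cfsg

namespace Cfsg.Agent.S0171

/-- Let G = K H with K normal, K ⊓ H trivial, and no non-identity element of H commuting with a non-identity element of K (a Frobenius group with kernel K and complement H). Then every non-principal irreducible character of K induces to an irreducible character of G. -/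
theorem result {G : Type*} [Group G] [Fintype G] (K H : Subgroup G) [K.Normal] (hKH : K ⊓ H = ⊥) (hKH' : K ⊔ H = ⊤) (hfpf : ∀ h ∈ H, h ≠ 1 → ∀ k ∈ K, h * k = k * h → k = 1) (τ : K → ℂ) (hτ : Cfsg.IsIrrCharacter K τ) (hτ1 : τ ≠ fun _ => 1) : Cfsg.IsIrrCharacter G (Cfsg.indFun K τ) := by
  classical
  haveI := Fintype.ofFinite K
  refine Lib.Characters.isIrrCharacter_indFun_of_inertia K hτ fun g hg => ?_
  obtain ⟨k₀, hk₀, h, hh, rfl⟩ := (Subgroup.mem_sup_of_normal_left).mp
    (hKH' ▸ Subgroup.mem_top g : g ∈ K ⊔ H)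
  by_cases h1 : h = 1
  · rw [h1, mul_one]; exact hk₀
  exfalso
  have hτh : Lib.Characters.conjFun K h τ = τ := by
    rw [Lib.Characters.conjFun_mul, Lib.Characters.conjFun_of_mem K
      (Lib.Characters.IsCharacter.isClassFunction
        (Lib.Characters.IsIrrCharacter.isCharacter hτ)) hk₀] at hg
    exact hg
  let σ : Cfsg.IrrCharacter K → Cfsg.IrrCharacter K := fun χ =>
    ⟨_, Lib.Characters.IsIrrCharacter.conjFun K χ.2 h⟩
  let τ' : K → K := fun k => ⟨h * k * h⁻¹, Subgroup.Normal.conj_mem inferInstance _ k.2 h⟩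
  have hcount := Lib.Characters.card_fixed_irr σ τ' fun χ k => rfl
  have hC1 : Nat.card {C : ConjClasses K // ∀ k, ConjClasses.mk k = C → IsConj (τ' k) k} = 1 := by
    rw [Nat.card_eq_one_iff_exists]
    refine ⟨⟨ConjClasses.mk 1, fun k hk => ?_⟩, ?_⟩
    · rw [ConjClasses.mk_eq_mk_iff_isConj, isConj_one_left] at hk
      subst hk
      rw [show τ' 1 = 1 from Subtype.ext (by simp [τ'])]
    · rintro ⟨C, hC⟩
      obtain ⟨k, rfl⟩ := ConjClasses.mk_surjective C
      obtain ⟨a, ha⟩ := isConj_iff.mp (hC k rfl)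
      have ha' : (a : G) * (h * k * h⁻¹) * (a : G)⁻¹ = k := congrArg Subtype.val ha
      -- `a * h` is conjugate to `h` by an element of `K`
      have hsurj : Function.Surjective (fun c : K =>
          (⟨(c : G)⁻¹ * (h * c * h⁻¹), K.mul_mem (K.inv_mem c.2)
            (Subgroup.Normal.conj_mem inferInstance _ c.2 h)⟩ : K)) := by
        refine Finite.surjective_of_injective fun c d hcd => ?_
        have h' : (c : G)⁻¹ * (h * c * h⁻¹) = (d : G)⁻¹ * (h * d * h⁻¹) := congrArg Subtype.val hcd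
        have h2 := hfpf h hh h1 ((d : G) * (c : G)⁻¹) (K.mul_mem d.2 (K.inv_mem c.2)) (by
          calc h * ((d : G) * (c : G)⁻¹)
              = (d : G) * ((d : G)⁻¹ * (h * d * h⁻¹)) * h * (c : G)⁻¹ := by group
            _ = (d : G) * ((c : G)⁻¹ * (h * c * h⁻¹)) * h * (c : G)⁻¹ := by rw [h']
            _ = (d : G) * (c : G)⁻¹ * h := by group)
        exact Subtype.ext (mul_inv_eq_one.mp h2).symm
      obtain ⟨c, hc⟩ := hsurj a
      have hc' : (a : G) = (c : G)⁻¹ * (h * c * h⁻¹) := (congrArg Subtype.val hc).symm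
      have h3 := hfpf h hh h1 ((c : G) * k * (c : G)⁻¹)
        (Subgroup.Normal.conj_mem inferInstance _ k.2 _) (by
        calc h * ((c : G) * k * (c : G)⁻¹)
            = (c : G) * ((c : G)⁻¹ * (h * c * h⁻¹) * (h * k * h⁻¹) *
                ((c : G)⁻¹ * (h * c * h⁻¹))⁻¹) * (c : G)⁻¹ * h := by group
          _ = (c : G) * k * (c : G)⁻¹ * h := by rw [← hc', ha'])
      rw [conj_eq_one_iff] at h3
      exact Subtype.ext (congrArg ConjClasses.mk (Subtype.ext h3))
  rw [hC1, Nat.card_eq_one_iff_exists] at hcount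
  obtain ⟨x, hx⟩ := hcount
  have e1 := hx ⟨⟨τ, hτ⟩, Subtype.ext hτh⟩
  have e2 := hx ⟨Lib.Characters.trivIrr K, Subtype.ext rfl⟩
  exact hτ1 (congrArg (fun z => (z.1 : K → ℂ)) (e1.trans e2.symm))

end Cfsg.Agent.S0171
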