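import Cfsg.Statements.S0172
import Cfsg.Agent.Lib.Characters.Kernel
import Mathlib.Tactic.Group
-- import your own Cfsg.Agent.* helpers here

set_option autoImplicit false
open Cfsg

namespace Cfsg.Agent.S0172

/-- Class number of a Frobenius group: if G = K H with K normal, K ⊓ H trivial and no non-identity element of H commuting with a non-identity element of K, then |H| * k(G) + 1 = |H| * k(H) + k(K), where k denotes the number of conjugacy classes. -/
theorem result {G : Type*} [Group G] [Finite G] (K H : Subgroup G) [K.Normal] (hKH : K ⊓ H = ⊥) (hKH' : K ⊔ H = ⊤) (hfpf : ∀ h ∈ H, h ≠ 1 → ∀ k ∈ K, h * k = k * h → k = 1) : Nat.card H * Nat.card (ConjClasses G) + 1 = Nat.card H * Nat.card (ConjClasses H) + Nat.card (ConjClasses K) := by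
  classical
  have hsumCC : ∀ (X : Type _) [Group X] [Fintype X],
      ∑ x : X, Nat.card (Subgroup.centralizer ({x} : Set X)) =
        Nat.card (ConjClasses X) * Nat.card X := by
    intro X _ _
    have h := Lib.Characters.sum_card_centralizer_eq (G := X) (fun _ => True) (fun _ _ _ => Iff.rfl)
    simp only [if_true, implies_true] at h
    rw [Nat.card_congr (Equiv.subtypeUnivEquiv (p := fun _ : ConjClasses X => True) fun _ => trivial)]
      at h
    rw [mul_comm]
    exact_mod_cast h
  haveI := Fintype.ofFinite G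
  haveI := Fintype.ofFinite K
  haveI := Fintype.ofFinite H
  -- `g = k * h` uniquely
  have huniq : ∀ (k k' : K) (h h' : H), (k : G) * h = (k' : G) * h' → k = k' ∧ h = h' := by
    intro k k' h h' he
    have hmem : (k' : G)⁻¹ * k ∈ K ⊓ H := ⟨K.mul_mem (K.inv_mem k'.2) k.2, by
      rw [show (k' : G)⁻¹ * k = (h' : G) * (h : G)⁻¹ by
        rw [eq_mul_inv_iff_mul_eq, mul_assoc, he, inv_mul_cancel_left]]
      exact H.mul_mem h'.2 (H.inv_mem h.2)⟩
    rw [hKH, Subgroup.mem_bot, inv_mul_eq_one] at hmem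
    have hk : k = k' := Subtype.ext hmem.symm
    subst hk
    exact ⟨rfl, Subtype.ext (mul_left_cancel he)⟩
  let e : K × H → G := fun q => (q.1 : G) * q.2
  have he : Function.Bijective e := by
    refine ⟨fun a b hab => ?_, fun g => ?_⟩
    · obtain ⟨h1, h2⟩ := huniq _ _ _ _ hab
      exact Prod.ext h1 h2
    · obtain ⟨k, hk, h, hh, rfl⟩ := Subgroup.mem_sup_of_normal_left.mp
        (hKH' ▸ Subgroup.mem_top g : g ∈ K ⊔ H)
      exact ⟨(⟨k, hk⟩, ⟨h, hh⟩), rfl⟩
  -- elements `a * h` with `h ≠ 1` are conjugate to `h` under `K`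
  have hconj : ∀ (a : K) (h : H), h ≠ 1 → ∃ c : K, (a : G) * h = (c : G)⁻¹ * h * c := by
    intro a h h1
    have hh1 : (h : G) ≠ 1 := fun hh => h1 (Subtype.ext hh)
    have hsurj : Function.Surjective (fun c : K =>
        (⟨(c : G)⁻¹ * ((h : G) * c * (h : G)⁻¹), K.mul_mem (K.inv_mem c.2)
          (Subgroup.Normal.conj_mem inferInstance _ c.2 h)⟩ : K)) := by
      refine Finite.surjective_of_injective fun c d hcd => ?_
      have h' : (c : G)⁻¹ * ((h : G) * c * (h : G)⁻¹) = (d : G)⁻¹ * ((h : G) * d * (h : G)⁻¹) :=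
        congrArg Subtype.val hcd
      have h2 := hfpf h h.2 hh1 ((d : G) * (c : G)⁻¹) (K.mul_mem d.2 (K.inv_mem c.2)) (by
        calc (h : G) * ((d : G) * (c : G)⁻¹)
            = (d : G) * ((d : G)⁻¹ * ((h : G) * d * (h : G)⁻¹)) * h * (c : G)⁻¹ := by group
          _ = (d : G) * ((c : G)⁻¹ * ((h : G) * c * (h : G)⁻¹)) * h * (c : G)⁻¹ := by rw [h']
          _ = (d : G) * (c : G)⁻¹ * h := by group)
      exact Subtype.ext (mul_inv_eq_one.mp h2).symm
    obtain ⟨c, hc⟩ := hsurj a
    refine ⟨c, ?_⟩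
    rw [show (a : G) = (c : G)⁻¹ * ((h : G) * c * (h : G)⁻¹) from (congrArg Subtype.val hc).symm]
    group
  have hcK : ∀ k : K, k ≠ 1 → Nat.card (Subgroup.centralizer ({(k : G)} : Set G)) =
      Nat.card (Subgroup.centralizer ({k} : Set K)) := by
    intro k hk
    refine (Nat.card_eq_of_bijective (fun x : Subgroup.centralizer ({k} : Set K) =>
      (⟨((x : K) : G), Subgroup.mem_centralizer_singleton_iff.mpr
        (congrArg Subtype.val (Subgroup.mem_centralizer_singleton_iff.mp x.2))⟩ :
        Subgroup.centralizer ({(k : G)} : Set G)))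
      ⟨fun x y hxy => by
        have h' := congrArg Subtype.val hxy
        exact Subtype.ext (Subtype.ext h'), ?_⟩).symm
    rintro ⟨g, hg⟩
    obtain ⟨⟨a, h⟩, rfl⟩ := he.2 g
    rw [Subgroup.mem_centralizer_singleton_iff] at hg
    by_cases h1 : h = 1
    · subst h1
      simp only [e, OneMemClass.coe_one, mul_one] at hg
      exact ⟨⟨a, Subgroup.mem_centralizer_singleton_iff.mpr (Subtype.ext hg)⟩,
        Subtype.ext (by simp [e])⟩
    · exfalso
      obtain ⟨c, hc⟩ := hconj a h h1
      simp only [e, hc] at hg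
      have h2 := hfpf h h.2 (fun hh => h1 (Subtype.ext hh)) ((c : G) * k * (c : G)⁻¹)
        (Subgroup.Normal.conj_mem inferInstance _ k.2 _) (by
          calc (h : G) * ((c : G) * k * (c : G)⁻¹)
              = (c : G) * ((c : G)⁻¹ * h * c * k) * (c : G)⁻¹ := by group
            _ = (c : G) * (k * ((c : G)⁻¹ * h * c)) * (c : G)⁻¹ := by rw [hg]
            _ = (c : G) * k * (c : G)⁻¹ * h := by group)
      rw [conj_eq_one_iff] at h2
      exact hk (Subtype.ext h2)
  have hcH : ∀ (a : K) (h : H), h ≠ 1 →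
      Nat.card (Subgroup.centralizer ({(a : G) * h} : Set G)) =
        Nat.card (Subgroup.centralizer ({h} : Set H)) := by
    intro a h h1
    obtain ⟨c, hc⟩ := hconj a h h1
    refine (Nat.card_eq_of_bijective (fun x : Subgroup.centralizer ({h} : Set H) =>
      (⟨(c : G)⁻¹ * ((x : H) : G) * c, Subgroup.mem_centralizer_singleton_iff.mpr (by
        have hx : ((x : H) : G) * h = h * (x : H) :=
          congrArg Subtype.val (Subgroup.mem_centralizer_singleton_iff.mp x.2)
        rw [hc]
        calc (c : G)⁻¹ * (x : H) * c * ((c : G)⁻¹ * h * c)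
            = (c : G)⁻¹ * ((x : H) * h) * c := by group
          _ = (c : G)⁻¹ * (h * (x : H)) * c := by rw [hx]
          _ = (c : G)⁻¹ * h * c * ((c : G)⁻¹ * (x : H) * c) := by group)⟩ :
        Subgroup.centralizer ({(a : G) * h} : Set G))) ⟨fun x y hxy => ?_, ?_⟩).symm
    · have := congrArg Subtype.val hxy
      exact Subtype.ext (Subtype.ext (mul_left_cancel (mul_right_cancel this)))
    rintro ⟨g, hg⟩
    rw [Subgroup.mem_centralizer_singleton_iff, hc] at hg
    obtain ⟨⟨b, y⟩, hby⟩ := he.2 ((c : G) * g * (c : G)⁻¹)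
    simp only [e] at hby
    have hcom : (b : G) * y * h = h * ((b : G) * y) := by
      rw [hby]
      calc (c : G) * g * (c : G)⁻¹ * h = (c : G) * (g * ((c : G)⁻¹ * h * c)) * (c : G)⁻¹ := by group
        _ = (c : G) * ((c : G)⁻¹ * h * c * g) * (c : G)⁻¹ := by rw [hg]
        _ = h * ((c : G) * g * (c : G)⁻¹) := by group
    have hb' : (h : G) * b * (h : G)⁻¹ ∈ K := Subgroup.Normal.conj_mem inferInstance _ b.2 _
    obtain ⟨hbb, hyy⟩ := huniq b ⟨_, hb'⟩ (y * h) (h * y) (by
      show (b : G) * ((y : G) * h) = (h : G) * b * (h : G)⁻¹ * ((h : G) * y)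
      calc (b : G) * ((y : G) * h) = h * ((b : G) * y) := by rw [← mul_assoc, hcom]
        _ = _ := by group)
    have hb1 : (b : G) = 1 := hfpf h h.2 (fun hh => h1 (Subtype.ext hh)) b b.2 (by
      have hbb' : (b : G) = (h : G) * b * (h : G)⁻¹ := congrArg Subtype.val hbb
      nth_rewrite 2 [hbb']
      group)
    refine ⟨⟨y, Subgroup.mem_centralizer_singleton_iff.mpr hyy⟩, Subtype.ext ?_⟩
    show (c : G)⁻¹ * (y : G) * c = g
    rw [show (y : G) = (b : G) * y by rw [hb1, one_mul], hby]
    group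
  have hG := hsumCC G
  have hKc := hsumCC K
  have hHc := hsumCC H
  rw [← Fintype.sum_bijective e he (fun q => Nat.card (Subgroup.centralizer ({e q} : Set G))) _
    (fun q => rfl), Fintype.sum_prod_type, Finset.sum_comm,
    ← Finset.add_sum_erase _ _ (Finset.mem_univ (1 : H))] at hG
  rw [← Finset.add_sum_erase _ _ (Finset.mem_univ (1 : K))] at hKc
  rw [← Finset.add_sum_erase _ _ (Finset.mem_univ (1 : H))] at hHc
  have e1 : ∑ k : K, Nat.card (Subgroup.centralizer ({e (k, 1)} : Set G)) =
      Nat.card G + ∑ k ∈ Finset.univ.erase (1 : K), Nat.card (Subgroup.centralizer ({k} : Set K)) := by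
    rw [← Finset.add_sum_erase _ _ (Finset.mem_univ (1 : K))]
    congr 1
    · rw [show Subgroup.centralizer ({e ((1 : K), (1 : H))} : Set G) = ⊤ from
        (Subgroup.eq_top_iff' _).mpr fun z =>
          Subgroup.mem_centralizer_singleton_iff.mpr (by simp [e]), Subgroup.card_top]
    · refine Finset.sum_congr rfl fun k hk => ?_
      rw [show e (k, (1 : H)) = (k : G) by simp [e]]
      exact hcK k (Finset.mem_erase.mp hk).1
  have e2 : ∀ h ∈ Finset.univ.erase (1 : H),
      ∑ k : K, Nat.card (Subgroup.centralizer ({e (k, h)} : Set G)) =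
        Nat.card K * Nat.card (Subgroup.centralizer ({h} : Set H)) := by
    intro h hh
    rw [Finset.sum_congr rfl fun k _ => hcH k h (Finset.mem_erase.mp hh).1, Finset.sum_const,
      Finset.card_univ, smul_eq_mul, Nat.card_eq_fintype_card (α := K)]
  have hKtop : Nat.card (Subgroup.centralizer ({(1 : K)} : Set K)) = Nat.card K := by
    rw [(Subgroup.eq_top_iff' _).mpr fun z => Subgroup.mem_centralizer_singleton_iff.mpr
      ((mul_one z).trans (one_mul z).symm), Subgroup.card_top]
  have hHtop : Nat.card (Subgroup.centralizer ({(1 : H)} : Set H)) = Nat.card H := by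
    rw [(Subgroup.eq_top_iff' _).mpr fun z => Subgroup.mem_centralizer_singleton_iff.mpr
      ((mul_one z).trans (one_mul z).symm), Subgroup.card_top]
  have hGcard : Nat.card G = Nat.card K * Nat.card H := by
    rw [← Nat.card_prod, Nat.card_eq_of_bijective e he]
  rw [e1, Finset.sum_congr rfl e2, ← Finset.mul_sum] at hG
  rw [hKtop] at hKc
  rw [hHtop] at hHc
  have hKpos : 0 < Nat.card K := Nat.card_pos
  apply Nat.eq_of_mul_eq_mul_left hKpos
  zify at hG hKc hHc hGcard ⊢
  linear_combination (1 - ((Nat.card (ConjClasses G) : ℕ) : ℤ)) * hGcard - hG + hKc +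
    ((Nat.card K : ℕ) : ℤ) * hHc

end Cfsg.Agent.S0172
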