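import Cfsg.Statements.S0173
import Cfsg.Agent.Lib.Characters.Kernel
-- import your own Cfsg.Agent.* helpers here

set_option autoImplicit false
open Cfsg

namespace Cfsg.Agent.S0173

/-- Brauer's permutation lemma for a single automorphism: the number of conjugacy classes mapped to themselves equals the number of irreducible complex characters χ with χ ∘ α = χ. -/
theorem result {G : Type*} [Group G] [Finite G] (α : G ≃* G) : Nat.card {C : ConjClasses G // ConjClasses.map α.toMonoidHom C = C} = Nat.card {χ : Cfsg.IrrCharacter G // (χ : G → ℂ) ∘ α = (χ : G → ℂ)} := by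
  classical
  haveI := Fintype.ofFinite G
  let σ : Cfsg.IrrCharacter G → Cfsg.IrrCharacter G := fun χ =>
    ⟨(χ : G → ℂ) ∘ α, Lib.Characters.IsIrrCharacter.comp_equiv χ.2 α⟩
  have h := Lib.Characters.card_fixed_irr σ α fun χ g => rfl
  rw [show Nat.card {χ : Cfsg.IrrCharacter G // (χ : G → ℂ) ∘ α = (χ : G → ℂ)} = _ from
    (Nat.card_congr (Equiv.subtypeEquivRight fun χ => Subtype.ext_iff.symm)).trans h]
  refine Nat.card_congr (Equiv.subtypeEquivRight fun C => ?_)
  obtain ⟨g, rfl⟩ := ConjClasses.mk_surjective C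
  constructor
  · intro hC x hx
    rw [← hx] at hC
    exact ConjClasses.mk_eq_mk_iff_isConj.mp hC
  · intro hC
    exact ConjClasses.mk_eq_mk_iff_isConj.mpr (hC g rfl)

end Cfsg.Agent.S0173
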