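import Cfsg.Statements.S0175
import Cfsg.Agent.Lib.Characters.Induced
import Cfsg.Agent.Lib.Characters.Kernel
-- import your own Cfsg.Agent.* helpers here

set_option autoImplicit false
open Cfsg
open scoped commutatorElement

namespace Cfsg.Agent.S0175

/-- Taketa's Theorem on M-groups: if every irreducible complex character of a finite group is induced from a linear character (a homomorphism to ℂˣ) of some subgroup, the group is solvable. -/
theorem result {G : Type*} [Group G] [Fintype G] (hM : ∀ χ : G → ℂ, Cfsg.IsIrrCharacter G χ → ∃ (H : Subgroup G) (lam : H →* ℂˣ), χ = Cfsg.indFun H (fun h => (lam h : ℂ))) : Group.IsSolvable G := by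
  classical
  haveI := Fintype.ofFinite (Cfsg.IrrCharacter G)
  have hstep : ∀ d : ℕ, ∃ k : ℕ, ∀ (χ : Cfsg.IrrCharacter G) (e : ℕ), (χ : G → ℂ) 1 = e → e ≤ d →
      ∀ g ∈ derivedSeries G k, (χ : G → ℂ) g = (χ : G → ℂ) 1 := by
    intro d
    induction d with
    | zero =>
      refine ⟨0, fun χ e he hle g _ => ?_⟩
      exact absurd (by rw [he, Nat.le_zero.mp hle, Nat.cast_zero])
        (Lib.Characters.IsIrrCharacter.apply_one_ne_zero χ.2)
    | succ d ih =>
      obtain ⟨k, hk⟩ := ih
      have hmono : derivedSeries G (k + 1) ≤ derivedSeries G k := by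
        rw [derivedSeries_succ]
        exact Subgroup.commutator_le_left _ _
      refine ⟨k + 1, fun χ e he hle g hg => ?_⟩
      obtain ⟨H, lam, hχ⟩ := hM _ χ.2
      haveI := Fintype.ofFinite H
      have hidx : e = H.index := by
        have := congrFun hχ 1
        rw [he, Lib.Characters.indFun_one] at this
        simp only [map_one, Units.val_one, mul_one] at this
        exact_mod_cast this
      by_cases hle' : e ≤ d
      · exact hk χ e he hle' g (hmono hg)
      rcases Nat.eq_zero_or_pos d with rfl | hdpos
      · have h1 : (χ : G → ℂ) 1 = 1 := by rw [he, show e = 1 by omega, Nat.cast_one]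
        rw [h1]
        refine Lib.Characters.IsCharacter.apply_of_mem_commutator
          (Lib.Characters.irr_isCharacter χ) h1 ?_
        rw [derivedSeries_succ] at hg
        exact Subgroup.commutator_mono le_top le_top hg
      -- the constituents of the permutation character have smaller degree
      set π := Cfsg.indFun H (fun _ => (1 : ℂ)) with hπ
      have hπc : Cfsg.IsCharacter G π :=
        Lib.Characters.IsCharacter.indFun H Lib.Characters.isCharacter_one
      obtain ⟨m, hm, hm'⟩ := Lib.Characters.IsCharacter.exists_nat_decomp hπc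
      choose D hD0 hD using fun ψ : Cfsg.IrrCharacter G =>
        Lib.Characters.IsIrrCharacter.exists_apply_one ψ.2
      have hsum : H.index = ∑ ψ, m ψ * D ψ := by
        have h := congrFun hm 1
        rw [hπ, Lib.Characters.indFun_one] at h
        simp only [mul_one, Finset.sum_apply, Pi.smul_apply, smul_eq_mul, hD] at h
        exact_mod_cast h
      have hm1 : m (Lib.Characters.trivIrr G) = 1 := by
        have h := hm' (Lib.Characters.trivIrr G)
        rw [show ((Lib.Characters.trivIrr G : Cfsg.IrrCharacter G) : G → ℂ) = fun _ => 1 from rfl,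
          hπ, Lib.Characters.classInner_indFun H _ (fun _ _ => rfl),
          Lib.Characters.IsIrrCharacter.classInner_self Lib.Characters.isIrrCharacter_one] at h
        exact_mod_cast h.symm
      have hD1 : D (Lib.Characters.trivIrr G) = 1 := by
        have := hD (Lib.Characters.trivIrr G)
        simp only [Lib.Characters.trivIrr_apply] at this
        exact_mod_cast this.symm
      have hsmall : ∀ ψ, m ψ ≠ 0 → D ψ ≤ d := by
        intro ψ hψ
        by_cases h : ψ = Lib.Characters.trivIrr G
        · rw [h, hD1]; exact hdpos
        have h2 := Finset.add_sum_erase Finset.univ (fun ψ => m ψ * D ψ)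
          (Finset.mem_univ (Lib.Characters.trivIrr G))
        have h3 : m ψ * D ψ ≤
            ∑ x ∈ Finset.univ.erase (Lib.Characters.trivIrr G), m x * D x :=
          Finset.single_le_sum (f := fun ψ => m ψ * D ψ) (fun _ _ => Nat.zero_le _)
            (Finset.mem_erase.mpr ⟨h, Finset.mem_univ _⟩)
        have h4 : D ψ ≤ m ψ * D ψ := Nat.le_mul_of_pos_left _ (Nat.pos_of_ne_zero hψ)
        simp only [hm1, hD1] at h2
        omega
      have hDH : derivedSeries G k ≤ H := by
        intro x hx
        by_contra hxH
        have hπx : π x = π 1 := by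
          rw [hm]
          simp only [Finset.sum_apply, Pi.smul_apply, smul_eq_mul]
          refine Finset.sum_congr rfl fun ψ _ => ?_
          by_cases hψ : m ψ = 0
          · simp [hψ]
          · rw [hk ψ (D ψ) (hD ψ) (hsmall ψ hψ) x hx]
        rw [hπ, Lib.Characters.indFun_one, mul_one, Lib.Characters.indFun_apply] at hπx
        have hval : ∀ y : G, Cfsg.extendByZero H (fun _ => (1 : ℂ)) (y⁻¹ * x * y) =
            if y⁻¹ * x * y ∈ H then 1 else 0 := by
          intro y
          split_ifs with hy
          · rw [Lib.Characters.extendByZero_of_mem _ _ hy]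
          · rw [Lib.Characters.extendByZero_of_not_mem _ _ hy]
        rw [Finset.sum_congr rfl fun y _ => hval y, Finset.sum_boole,
          inv_mul_eq_iff_eq_mul₀ Lib.Characters.natCard_ne_zero_complex] at hπx
        have hlt : (Finset.univ.filter fun y : G => y⁻¹ * x * y ∈ H).card < Fintype.card G :=
          Finset.card_lt_univ_of_notMem (x := (1 : G)) (by simp [hxH])
        have heq : (Finset.univ.filter fun y : G => y⁻¹ * x * y ∈ H).card = Fintype.card G := by
          have := hπx
          rw [← Nat.cast_mul, Nat.cast_inj, mul_comm, H.index_mul_card, Nat.card_eq_fintype_card]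
            at this
          exact this
        omega
      have hlam : ∀ y : G, ∀ hy : y ∈ H, y ∈ derivedSeries G (k + 1) → (lam ⟨y, hy⟩ : ℂ) = 1 := by
        intro y hy hyD
        have hsub : derivedSeries G (k + 1) ≤ lam.ker.map H.subtype := by
          rw [derivedSeries_succ, Subgroup.commutator_le]
          intro a ha b hb
          refine ⟨⁅(⟨a, hDH ha⟩ : H), (⟨b, hDH hb⟩ : H)⁆, ?_, ?_⟩
          · show lam _ = 1
            rw [map_commutatorElement, commutatorElement_eq_one_iff_mul_comm]
            exact mul_comm _ _
          · simp [map_commutatorElement]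
        obtain ⟨z, hz, hzy⟩ := hsub hyD
        rw [show (⟨y, hy⟩ : H) = z from Subtype.ext hzy.symm, show lam z = 1 from hz]
        simp
      have hall : ∀ y : G, Cfsg.extendByZero H (fun h => (lam h : ℂ)) (y⁻¹ * g * y) = 1 := by
        intro y
        have hy : y⁻¹ * g * y ∈ derivedSeries G (k + 1) := by
          simpa using (derivedSeries_normal G (k + 1)).conj_mem g hg y⁻¹
        rw [Lib.Characters.extendByZero_of_mem _ _ (hDH (hmono hy))]
        exact hlam _ _ hy
      rw [he, hχ, Lib.Characters.indFun_apply, Finset.sum_congr rfl fun y _ => hall y,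
        Finset.sum_const, Finset.card_univ, nsmul_eq_mul, mul_one, hidx, ← Nat.card_eq_fintype_card,
        ← H.index_mul_card, Nat.cast_mul]
      have : (Nat.card H : ℂ) ≠ 0 := Lib.Characters.natCard_ne_zero_complex
      field_simp
  obtain ⟨k, hk⟩ := hstep (Nat.card G)
  refine ⟨⟨k, (Subgroup.eq_bot_iff_forall _).mpr fun g hg => ?_⟩⟩
  by_contra hg1
  obtain ⟨χ, hχ⟩ := Lib.Characters.exists_irr_ne_apply_one hg1
  obtain ⟨e, -, he, hdvd⟩ := Lib.Characters.IsIrrCharacter.exists_degree_dvd χ.2
  exact hχ (hk χ e he (Nat.le_of_dvd Nat.card_pos hdvd) g hg)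

end Cfsg.Agent.S0175
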