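import Cfsg.Statements.S0177
import Cfsg.Agent.Lib.Characters.BrauerMain
import Cfsg.Agent.Lib.Characters.Kernel
-- import your own Cfsg.Agent.* helpers here

set_option autoImplicit false
open Cfsg

namespace Cfsg.Agent.S0177

/-- The Artin induction Theorem: for a character χ of a finite group, |G| • χ is a ℤ-linear combination of functions induced from homomorphisms of cyclic subgroups into ℂˣ. -/
theorem result {G : Type*} [Group G] [Fintype G] (χ : G → ℂ) (hχ : Cfsg.IsCharacter G χ) : ∃ l : List ((A : Subgroup G) × ((A →* ℂˣ) × ℤ)), (∀ t ∈ l, IsCyclic t.1) ∧ (Nat.card G : ℂ) • χ = (l.map fun t => (t.2.2 : ℂ) • Cfsg.indFun t.1 (fun a => (t.2.1 a : ℂ))).sum := by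
  classical
  let R : (G → ℂ) → Prop := fun f => ∃ l : List ((A : Subgroup G) × ((A →* ℂˣ) × ℤ)),
    (∀ t ∈ l, IsCyclic t.1) ∧
      f = (l.map fun t => (t.2.2 : ℂ) • Cfsg.indFun t.1 (fun a => (t.2.1 a : ℂ))).sum
  have Rzero : R 0 := ⟨[], by simp, by simp⟩
  have Radd : ∀ f g, R f → R g → R (f + g) := by
    rintro f g ⟨l, hl, rfl⟩ ⟨l', hl', rfl⟩
    exact ⟨l ++ l', by intro t ht; rcases List.mem_append.mp ht with h | h; exacts [hl t h, hl' t h],
      by rw [List.map_append, List.sum_append]⟩
  have Rsmul : ∀ (c : ℤ) f, R f → R ((c : ℂ) • f) := by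
    rintro c f ⟨l, hl, rfl⟩
    refine ⟨l.map fun t => ⟨t.1, (t.2.1, c * t.2.2)⟩, ?_, ?_⟩
    · intro t ht
      obtain ⟨t', ht', rfl⟩ := List.mem_map.mp ht
      exact hl t' ht'
    · clear hl
      induction l with
      | nil => simp
      | cons t l ih =>
        simp only [List.map_cons, List.sum_cons, smul_add, smul_smul, Int.cast_mul, ih]
  -- `|G| • 1` is a combination of characters induced from cyclic subgroups
  let S : Set (G → ℂ) := {f | ∃ (A : Subgroup G) (lam : A →* ℂˣ), IsCyclic A ∧
    f = Cfsg.indFun A (fun a => (lam a : ℂ))}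
  have hlin : ∀ (A : Subgroup G), IsCyclic A → ∀ ψ : Cfsg.IrrCharacter A,
      ∃ lam : A →* ℂˣ, (ψ : A → ℂ) = fun a => (lam a : ℂ) := by
    intro A hA ψ
    haveI := IsCyclic.isMulCommutative (α := A)
    exact Lib.Characters.IsCharacter.exists_hom_of_apply_one (Lib.Characters.irr_isCharacter ψ)
      (Lib.Characters.IsIrrCharacter.apply_one_of_comm mul_comm' ψ.2)
  have hmem : (fun _ : G => ((Nat.card G : ℤ) : ℂ)) ∈ Submodule.span Lib.Characters.AInt S := by
    have hx : ∀ x : G, Cfsg.indFun (Subgroup.zpowers x)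
        (fun y => if y = ⟨x, Subgroup.mem_zpowers x⟩ then (Nat.card (Subgroup.zpowers x) : ℂ) else 0)
        ∈ Submodule.span Lib.Characters.AInt S := by
      intro x
      set A := Subgroup.zpowers x
      haveI := Fintype.ofFinite (Cfsg.IrrCharacter A)
      have hcomm : ∀ a b : A, a * b = b * a := fun a b => mul_comm' a b
      have hdec : (fun y : A => if y = ⟨x, Subgroup.mem_zpowers x⟩ then (Nat.card A : ℂ) else 0) =
          ∑ ψ : Cfsg.IrrCharacter A,
            (starRingEnd ℂ) ((ψ : A → ℂ) ⟨x, Subgroup.mem_zpowers x⟩) • (ψ : A → ℂ) := by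
        funext y
        have h2 := Lib.Characters.sum_irr_mul_conj y (⟨x, Subgroup.mem_zpowers x⟩ : A)
        simp only [Finset.sum_apply, Pi.smul_apply, smul_eq_mul]
        rw [show (∑ ψ : Cfsg.IrrCharacter A, (starRingEnd ℂ) ((ψ : A → ℂ) ⟨x, Subgroup.mem_zpowers x⟩) *
          (ψ : A → ℂ) y) = _ from (Finset.sum_congr rfl fun ψ _ => mul_comm _ _).trans h2]
        have hiff : IsConj y (⟨x, Subgroup.mem_zpowers x⟩ : A) ↔
            y = ⟨x, Subgroup.mem_zpowers x⟩ := by
          refine ⟨fun h => ?_, fun h => h ▸ IsConj.refl _⟩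
          obtain ⟨c, hc⟩ := isConj_iff.mp h
          rw [← hc, hcomm c y, mul_inv_cancel_right]
        have htop : Subgroup.centralizer ({y} : Set A) = ⊤ :=
          Subgroup.eq_top_iff' _ |>.mpr fun z =>
            Subgroup.mem_centralizer_singleton_iff.mpr (hcomm z y)
        simp only [hiff, htop, Subgroup.card_top]
      rw [hdec, Lib.Characters.indFun_sum]
      refine Submodule.sum_mem _ fun ψ _ => ?_
      obtain ⟨lam, hlam⟩ := hlin A inferInstance ψ
      have hint : IsIntegral ℤ ((starRingEnd ℂ) ((ψ : A → ℂ) ⟨x, Subgroup.mem_zpowers x⟩)) := by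
        rw [← Lib.Characters.IsCharacter.apply_inv (Lib.Characters.irr_isCharacter ψ)]
        exact Lib.Characters.IsCharacter.isIntegral (Lib.Characters.irr_isCharacter ψ) _
      rw [Lib.Characters.indFun_smul]
      exact Submodule.smul_mem _ (⟨_, hint⟩ : Lib.Characters.AInt)
        (Submodule.subset_span ⟨A, lam, inferInstance, by rw [hlam]⟩)
    have hsum : (fun _ : G => ((Nat.card G : ℤ) : ℂ)) = ∑ x : G, Cfsg.indFun (Subgroup.zpowers x)
        (fun y => if y = ⟨x, Subgroup.mem_zpowers x⟩ then (Nat.card (Subgroup.zpowers x) : ℂ) else 0) := by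
      funext g
      rw [Finset.sum_apply]
      have hval : ∀ x t : G, Cfsg.extendByZero (Subgroup.zpowers x)
          (fun y => if y = ⟨x, Subgroup.mem_zpowers x⟩ then (Nat.card (Subgroup.zpowers x) : ℂ) else 0)
          (t⁻¹ * g * t) =
          if t⁻¹ * g * t = x then (Nat.card (Subgroup.zpowers x) : ℂ) else 0 := by
        intro x t
        by_cases hm : t⁻¹ * g * t ∈ Subgroup.zpowers x
        · rw [Lib.Characters.extendByZero_of_mem _ _ hm]
          simp [Subtype.ext_iff]
        · rw [Lib.Characters.extendByZero_of_not_mem _ _ hm, if_neg]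
          exact fun he => hm (he ▸ Subgroup.mem_zpowers x)
      simp only [Lib.Characters.indFun_apply, hval, Finset.mul_sum]
      rw [Finset.sum_comm]
      have : ∀ t x : G, ((Nat.card (Subgroup.zpowers x) : ℂ))⁻¹ *
          (if t⁻¹ * g * t = x then (Nat.card (Subgroup.zpowers x) : ℂ) else 0) =
          if t⁻¹ * g * t = x then 1 else 0 := by
        intro t x
        split_ifs <;> simp [Lib.Characters.natCard_ne_zero_complex]
      rw [Finset.sum_congr rfl fun t _ => Finset.sum_congr rfl fun x _ => this t x]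
      simp [Nat.card_eq_fintype_card]
    rw [hsum]
    exact Submodule.sum_mem _ fun x _ => hx x
  obtain ⟨n, c, v, hv⟩ := Lib.Characters.exists_int_combination (S := S) (fun f hf => by
    obtain ⟨A, lam, -, rfl⟩ := hf
    exact Lib.Characters.IsCharacter.isGeneralizedCharacter (Lib.Characters.IsCharacter.indFun A
      (Lib.Characters.IsIrrCharacter.isCharacter (Lib.Characters.isIrrCharacter_unitsHom lam))))
    (Nat.card G : ℤ) hmem
  have hmul : (Nat.card G : ℂ) • χ = ∑ i, (c i : ℂ) • ((v i : G → ℂ) * χ) := by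
    funext g
    have := congrFun hv g
    simp only [Finset.sum_apply, Pi.smul_apply, smul_eq_mul, Int.cast_natCast] at this
    simp only [Finset.sum_apply, Pi.smul_apply, Pi.mul_apply, smul_eq_mul]
    rw [this, Finset.sum_mul]
    exact Finset.sum_congr rfl fun i _ => by ring
  show R _
  rw [hmul]
  refine Finset.sum_induction _ R Radd Rzero fun i _ => Rsmul _ _ ?_
  obtain ⟨A, lam, hA, hvi⟩ := (v i).2
  haveI := Fintype.ofFinite A
  haveI := Fintype.ofFinite (Cfsg.IrrCharacter A)
  rw [hvi, ← Lib.Characters.indFun_mul_restrict A _ (Lib.Characters.IsCharacter.isClassFunction hχ)]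
  obtain ⟨m, hm, -⟩ := Lib.Characters.IsCharacter.exists_nat_decomp
    (Lib.Characters.IsCharacter.mul
      (Lib.Characters.IsIrrCharacter.isCharacter (Lib.Characters.isIrrCharacter_unitsHom lam))
      (Lib.Characters.IsCharacter.restrict hχ A))
  rw [hm, Lib.Characters.indFun_sum]
  refine Finset.sum_induction _ R Radd Rzero fun ψ _ => ?_
  obtain ⟨lam', hlam'⟩ := hlin A hA ψ
  exact ⟨[⟨A, (lam', (m ψ : ℤ))⟩], by simpa using hA, by simp [Lib.Characters.indFun_smul, hlam']⟩

end Cfsg.Agent.S0177
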