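import Cfsg.Statements.S0178
import Cfsg.Agent.Lib.Characters.Rep
-- import your own Cfsg.Agent.* helpers here

set_option autoImplicit false
open Cfsg

namespace Cfsg.Agent.S0178

/-- The degree of an irreducible complex representation of a finite group is at most the index of any abelian subgroup. -/
theorem result {G : Type*} [Group G] [Finite G] {V : Type*} [AddCommGroup V] [Module ℂ V] [FiniteDimensional ℂ V] (ρ : Representation ℂ G V) [ρ.IsIrreducible] (A : Subgroup G) (hA : ∀ a ∈ A, ∀ b ∈ A, a * b = b * a) : Module.finrank ℂ V ≤ A.index := by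
  classical
  haveI := Fintype.ofFinite G
  have hVn := Lib.Characters.nontrivial_of_isIrreducible ρ
  -- an eigenline of `A`
  obtain ⟨v, hv, hAv⟩ : ∃ v : V, v ≠ 0 ∧ ∀ a ∈ A, ∃ c : ℂ, ρ a v = c • v := by
    have key : ∀ {V : Type _} [AddCommGroup V] [Module ℂ V] [FiniteDimensional ℂ V]
        (σ : Representation ℂ A V), Nontrivial V → ∃ v : V, v ≠ 0 ∧ ∀ a, ∃ c : ℂ, σ a v = c • v := by
      intro V _ _ _ σ
      refine Lib.Characters.rep_induction (motive := fun V _ _ _ σ =>
        Nontrivial V → ∃ v : V, v ≠ 0 ∧ ∀ a, ∃ c : ℂ, σ a v = c • v) ?_ ?_ ?_ σ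
      · intro V _ _ _ σ hs hn
        exact absurd hs (not_subsingleton V)
      · intro V _ _ _ σ hσ hn
        haveI := hσ
        haveI : IsMulCommutative A := ⟨⟨fun x y => Subtype.ext (hA x x.2 y y.2)⟩⟩
        have h1 := Representation.IsIrreducible.finrank_eq_one_of_isMulCommutative σ
        obtain ⟨v, hv⟩ := exists_ne (0 : V)
        exact ⟨v, hv, fun a => by
          obtain ⟨c, hc⟩ := (finrank_eq_one_iff_of_nonzero' v hv).mp h1 (σ a v)
          exact ⟨c, hc.symm⟩⟩
      · intro V _ _ _ σ S T hST hS hT hn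
        rcases subsingleton_or_nontrivial S.toSubmodule with h | h
        · have hS0 : S.toSubmodule = ⊥ := Submodule.eq_bot_of_subsingleton
          have : Nontrivial T.toSubmodule := by
            have hTt := hST.sup_eq_top
            rw [hS0, bot_sup_eq] at hTt
            rw [hTt]; exact Submodule.topEquiv.toEquiv.nontrivial
          obtain ⟨v, hv, hc⟩ := hT this
          refine ⟨v, fun h => hv (Subtype.ext h), fun a => ?_⟩
          obtain ⟨c, hc⟩ := hc a
          exact ⟨c, congrArg Subtype.val hc⟩
        · obtain ⟨v, hv, hc⟩ := hS h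
          refine ⟨v, fun h => hv (Subtype.ext h), fun a => ?_⟩
          obtain ⟨c, hc⟩ := hc a
          exact ⟨c, congrArg Subtype.val hc⟩
    obtain ⟨v, hv, hc⟩ := key (ρ.comp A.subtype) hVn
    exact ⟨v, hv, fun a ha => hc ⟨a, ha⟩⟩
  haveI := Fintype.ofFinite (G ⧸ A)
  let w : G ⧸ A → V := fun q => ρ q.out v
  have hgen : ∀ g : G, ρ g v ∈ Submodule.span ℂ (Set.range w) := by
    intro g
    obtain ⟨a, ha⟩ := QuotientGroup.mk_out_eq_mul A g
    obtain ⟨c, hc⟩ := hAv (a : G)⁻¹ (A.inv_mem a.2)
    have : ρ g v = c • w (QuotientGroup.mk g) := by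
      show _ = c • ρ ((QuotientGroup.mk g : G ⧸ A).out) v
      rw [ha, ← map_smul, ← hc, map_mul, Module.End.mul_apply]
      simp
    rw [this]
    exact Submodule.smul_mem _ _ (Submodule.subset_span ⟨_, rfl⟩)
  have htop : Submodule.span ℂ (Set.range w) = ⊤ := by
    have hle : Submodule.span ℂ (Set.range fun g : G => ρ g v) ≤ Submodule.span ℂ (Set.range w) :=
      Submodule.span_le.mpr (by rintro _ ⟨g, rfl⟩; exact hgen g)
    rcases ((Lib.Characters.isIrreducible_iff_forall ρ).mp inferInstance).2
      (Submodule.span ℂ (Set.range fun g : G => ρ g v)) (fun x y hy => by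
        induction hy using Submodule.span_induction with
        | mem z hz =>
          obtain ⟨g, rfl⟩ := hz
          refine Submodule.subset_span ⟨x * g, ?_⟩
          show ρ (x * g) v = ρ x (ρ g v)
          rw [map_mul]; rfl
        | zero => rw [map_zero]; exact zero_mem _
        | add z z' _ _ hz hz' => rw [map_add]; exact add_mem hz hz'
        | smul c z _ hz => rw [map_smul]; exact Submodule.smul_mem _ c hz) with h | h
    · have : v ∈ Submodule.span ℂ (Set.range fun g : G => ρ g v) :=
        Submodule.subset_span ⟨1, by simp⟩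
      rw [h] at this
      exact absurd ((Submodule.mem_bot ℂ).mp this) hv
    · exact top_le_iff.mp (h ▸ hle)
  calc Module.finrank ℂ V = (Set.range w).finrank ℂ := by rw [Set.finrank, htop, finrank_top]
    _ ≤ Fintype.card (G ⧸ A) := finrank_range_le_card w
    _ = A.index := by rw [Subgroup.index_eq_card, Nat.card_eq_fintype_card]

end Cfsg.Agent.S0178
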