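import Cfsg.Statements.S0181
import Cfsg.Agent.Lib.Characters.Rep
-- import your own Cfsg.Agent.* helpers here

set_option autoImplicit false
open Cfsg

namespace Cfsg.Agent.S0181

/-- Let H be a normal subgroup of a finite group G and ρ an irreducible complex representation whose kernel does not contain H. If g commutes with no non-identity element of H, then the character of ρ vanishes at g. -/
theorem result {G : Type*} [Group G] [Finite G] {V : Type*} [AddCommGroup V] [Module ℂ V] [FiniteDimensional ℂ V] (ρ : Representation ℂ G V) [ρ.IsIrreducible] (H : Subgroup G) [H.Normal] (hker : ∃ h ∈ H, ρ h ≠ LinearMap.id) (g : G) (hg : ∀ h ∈ H, h * g = g * h → h = 1) : ρ.character g = 0 := by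
  classical
  haveI := Fintype.ofFinite G
  haveI := Fintype.ofFinite H
  -- the coset `H g` consists of conjugates of `g`
  have hinj : Function.Injective (fun h : H => (⟨(h : G) * g * (h : G)⁻¹ * g⁻¹, by
      rw [mul_assoc (h : G), mul_assoc (h : G)]
      exact H.mul_mem h.2 (Subgroup.Normal.conj_mem inferInstance _ (H.inv_mem h.2) g)⟩ : H)) := by
    intro a b hab
    have h1 : (a : G) * g * (a : G)⁻¹ = (b : G) * g * (b : G)⁻¹ :=
      mul_right_cancel (congrArg Subtype.val hab)
    have h2 := hg ((b : G)⁻¹ * a) (H.mul_mem (H.inv_mem b.2) a.2) (by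
      calc (b : G)⁻¹ * a * g = (b : G)⁻¹ * ((a : G) * g * (a : G)⁻¹) * a := by group
        _ = (b : G)⁻¹ * ((b : G) * g * (b : G)⁻¹) * a := by rw [h1]
        _ = g * ((b : G)⁻¹ * a) := by group)
    exact Subtype.ext (inv_mul_eq_one.mp h2).symm
  have hconst : ∀ h : H, ρ.character ((h : G) * g) = ρ.character g := by
    intro h
    obtain ⟨a, ha⟩ := Finite.surjective_of_injective hinj h
    rw [← ha]
    simp
  -- the sum of the operators over `H` vanishes
  set T : Module.End ℂ V := ∑ h : H, ρ (h : G) with hT
  have hcomm : ∀ x, T * ρ x = ρ x * T := by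
    intro x
    simp only [hT, Finset.sum_mul, Finset.mul_sum, ← map_mul]
    refine Fintype.sum_equiv
      ({ toFun := fun h => ⟨x⁻¹ * h * x, by simpa using Subgroup.Normal.conj_mem inferInstance _ h.2 x⁻¹⟩
         invFun := fun h => ⟨x * h * x⁻¹, Subgroup.Normal.conj_mem inferInstance _ h.2 x⟩
         left_inv := fun h => Subtype.ext (by group)
         right_inv := fun h => Subtype.ext (by group) } : H ≃ H) _ _ fun h => ?_
    show ρ ((h : G) * x) = ρ (x * (x⁻¹ * h * x))
    rw [mul_assoc x⁻¹, mul_inv_cancel_left]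
  obtain ⟨c, hc⟩ := Lib.Characters.exists_smul_of_commute ρ T hcomm
  obtain ⟨h₀, hh₀, hne⟩ := hker
  have hT0 : ρ h₀ * T = T := by
    simp only [hT, Finset.mul_sum, ← map_mul]
    exact Fintype.sum_equiv (Equiv.mulLeft (⟨h₀, hh₀⟩ : H)) _ _ fun h => rfl
  have hc0 : c = 0 := by
    by_contra hc0
    apply hne
    rw [hc, ← Module.End.one_eq_id, mul_smul_comm, mul_one] at hT0
    have := congrArg (fun f => c⁻¹ • f) hT0
    simp only [smul_smul, inv_mul_cancel₀ hc0, one_smul] at this
    exact this
  have h1 : LinearMap.trace ℂ V (T * ρ g) = (Nat.card H : ℂ) * ρ.character g := by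
    simp only [hT, Finset.sum_mul, map_sum, ← map_mul]
    show ∑ h : H, ρ.character ((h : G) * g) = _
    simp only [hconst, Finset.sum_const, Finset.card_univ, nsmul_eq_mul, Nat.card_eq_fintype_card]
  rw [hc, hc0, zero_smul, zero_mul, map_zero] at h1
  exact (mul_eq_zero.mp h1.symm).resolve_left (by exact_mod_cast Nat.card_pos.ne')

end Cfsg.Agent.S0181
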