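import Cfsg.Statements.S0184
import Cfsg.Agent.Lib.Characters.Kernel
-- import your own Cfsg.Agent.* helpers here

set_option autoImplicit false
open Cfsg

namespace Cfsg.Agent.S0184

/-- A finite p-group admits a faithful irreducible complex representation if and only if its centre is cyclic. -/
theorem result {G : Type*} [Group G] [Finite G] (p : ℕ) [Fact p.Prime] (hG : IsPGroup p G) : (∃ (n : ℕ) (ρ : Representation ℂ G (Fin n → ℂ)), ρ.IsIrreducible ∧ Function.Injective ρ) ↔ IsCyclic (Subgroup.center G) := by
  classical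
  haveI := Fintype.ofFinite G
  constructor
  · rintro ⟨n, ρ, hρ, hinj⟩
    have hs : ∀ z : Subgroup.center G, ∃ c : ℂ, ρ (z : G) = c • (LinearMap.id : (Fin n → ℂ) →ₗ[ℂ] _) :=
      fun z => Lib.Characters.exists_smul_of_commute ρ _ fun g => by
        rw [← map_mul, ← map_mul, Subgroup.mem_center_iff.mp z.2 g]
    choose c hc using hs
    have hnt := Lib.Characters.nontrivial_of_isIrreducible ρ
    have hcinj : ∀ r s : ℂ, r • (LinearMap.id : (Fin n → ℂ) →ₗ[ℂ] _) = s • LinearMap.id → r = s := by
      intro r s h
      obtain ⟨x, hx⟩ := exists_ne (0 : Fin n → ℂ)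
      exact smul_left_injective ℂ hx (LinearMap.congr_fun h x)
    let f : Subgroup.center G →* ℂ :=
      { toFun := c
        map_one' := hcinj _ _ (by rw [← hc]; simp [Module.End.one_eq_id])
        map_mul' := fun a b => hcinj _ _ (by
          rw [← hc, Subgroup.coe_mul, map_mul, hc, hc]
          ext x i
          simp
          ring) }
    have hf : Function.Injective f := fun a b h => Subtype.ext (hinj (by
      rw [hc, hc, show c a = c b from h]))
    exact isCyclic_of_subgroup_isDomain f hf
  · intro hcyc
    rcases subsingleton_or_nontrivial G with hs | hs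
    · obtain ⟨n, ρ, hρ, -⟩ := Lib.Characters.isIrrCharacter_one (G := G)
      exact ⟨n, ρ, hρ, fun a b _ => Subsingleton.elim a b⟩
    haveI := hG.center_nontrivial
    obtain ⟨m, hm⟩ := IsPGroup.iff_card.mp (hG.to_subgroup (Subgroup.center G))
    have hpdvd : p ∣ Nat.card (Subgroup.center G) := by
      rw [hm]
      refine dvd_pow_self p fun h => ?_
      rw [h, pow_zero] at hm
      exact absurd hm (Finite.one_lt_card (α := Subgroup.center G)).ne'
    obtain ⟨z, hz⟩ := exists_prime_orderOf_dvd_card' p hpdvd
    have hz1 : (z : G) ≠ 1 := fun h => by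
      rw [show z = 1 from Subtype.ext h, orderOf_one] at hz
      exact (Fact.out : p.Prime).ne_one hz.symm
    obtain ⟨χ, hχ⟩ := Lib.Characters.exists_irr_ne_apply_one hz1
    obtain ⟨n, ρ, hρ, hchar⟩ := χ.2
    refine ⟨n, ρ, hρ, ?_⟩
    by_contra hinj
    rw [← MonoidHom.ker_eq_bot_iff] at hinj
    haveI : Nontrivial ρ.ker := (Subgroup.nontrivial_iff_ne_bot _).mpr hinj
    -- a normal subgroup of a `p`-group meets the centre, hence contains `z`
    obtain ⟨y, hy, hy1⟩ : ∃ y : G, y ∈ ρ.ker ⊓ Subgroup.center G ∧ y ≠ 1 := by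
      have h0 := hG.to_subgroup ρ.ker
      obtain ⟨k, hk⟩ := IsPGroup.iff_card.mp h0
      have hk0 : k ≠ 0 := fun h => by
        rw [h, pow_zero] at hk
        exact absurd hk (Finite.one_lt_card (α := ρ.ker)).ne'
      have hpk : p ∣ Nat.card ρ.ker := hk ▸ dvd_pow_self p hk0
      letI : MulAction (ConjAct G) ρ.ker :=
        { smul := fun g x => ⟨g • (x : G), by
            rw [ConjAct.smul_def]; exact (MonoidHom.normal_ker ρ).conj_mem _ x.2 _⟩
          one_smul := fun x => Subtype.ext (one_smul _ _)
          mul_smul := fun a b x => Subtype.ext (mul_smul a b (x : G)) }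
      have hGc : IsPGroup p (ConjAct G) := hG.of_equiv ConjAct.toConjAct
      obtain ⟨b, hb, hb1⟩ := hGc.exists_fixed_point_of_prime_dvd_card_of_fixed_point
        ρ.ker hpk (a := 1) (fun g => Subtype.ext (smul_one g))
      refine ⟨b, ⟨b.2, Subgroup.mem_center_iff.mpr fun g => ?_⟩, fun h => hb1 (Subtype.ext h.symm)⟩
      have h2 := congrArg Subtype.val (hb (ConjAct.toConjAct g))
      have h3 : g * (b : G) * g⁻¹ = b := by
        rw [← ConjAct.toConjAct_smul]; exact h2
      exact mul_inv_eq_iff_eq_mul.mp h3
    obtain ⟨hy0, hyc⟩ := hy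
    -- in the cyclic centre every nontrivial subgroup contains the element of order `p`
    haveI := hcyc
    let yc : Subgroup.center G := ⟨y, hyc⟩
    have hyc1 : yc ≠ 1 := fun h => hy1 (congrArg Subtype.val h)
    have hpy : p ∣ orderOf yc := by
      have hd : orderOf yc ∣ p ^ m := hm ▸ orderOf_dvd_natCard yc
      obtain ⟨i, -, hi⟩ := (Nat.dvd_prime_pow Fact.out).mp hd
      rw [hi]
      refine dvd_pow_self p fun h => hyc1 ?_
      rw [h, pow_zero] at hi
      exact orderOf_eq_one_iff.mp hi
    have hzy : Subgroup.zpowers z ≤ Subgroup.zpowers yc := by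
      obtain ⟨w, hw⟩ := exists_prime_orderOf_dvd_card' (G := Subgroup.zpowers yc) p
        (by rwa [Nat.card_zpowers])
      haveI := Fintype.ofFinite (Subgroup.center G)
      refine Subgroup.zpowers_le.mpr ?_
      refine Subgroup.zpowers_le.mpr w.2 (?_ : z ∈ Subgroup.zpowers (w : Subgroup.center G))
      have hcard : ((Subgroup.zpowers (w : Subgroup.center G) : Set (Subgroup.center G)).toFinset).card = p := by
        rw [Set.toFinset_card, ← Nat.card_eq_fintype_card, SetLike.coe_sort_coe, Nat.card_zpowers,
          Subgroup.orderOf_coe, hw]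
      have heq := Finset.eq_of_subset_of_card_le
        (t := Finset.univ.filter fun x : Subgroup.center G => x ^ p = 1)
        (s := (Subgroup.zpowers (w : Subgroup.center G) : Set (Subgroup.center G)).toFinset)
        (fun x hx => by
          rw [Set.mem_toFinset] at hx
          refine Finset.mem_filter.mpr ⟨Finset.mem_univ _, ?_⟩
          have h0 : orderOf x ∣ p := by
            have := orderOf_dvd_natCard (⟨x, hx⟩ : Subgroup.zpowers (w : Subgroup.center G))
            rwa [Nat.card_zpowers, Subgroup.orderOf_coe, hw, Subgroup.orderOf_mk] at this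
          exact orderOf_dvd_iff_pow_eq_one.mp h0)
        (by rw [hcard]; exact IsCyclic.card_pow_eq_one_le (Fact.out : p.Prime).pos)
      have hzS : z ∈ Finset.univ.filter fun x : Subgroup.center G => x ^ p = 1 :=
        Finset.mem_filter.mpr ⟨Finset.mem_univ _, hz ▸ pow_orderOf_eq_one z⟩
      rw [← heq, Set.mem_toFinset] at hzS
      exact hzS
    apply hχ
    obtain ⟨i, hi⟩ := Subgroup.mem_zpowers_iff.mp (hzy (Subgroup.mem_zpowers z))
    have hzker : (z : G) ∈ ρ.ker := by
      rw [← hi]
      exact ρ.ker.zpow_mem hy0 i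
    rw [← hchar, ρ.char_one, Lib.Characters.char_eq_finrank_iff]
    exact MonoidHom.mem_ker.mp hzker

end Cfsg.Agent.S0184
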