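import Cfsg.Statements.S0186
import Cfsg.Agent.Lib.Characters.Kernel
import Cfsg.Agent.Lib.Characters.Clifford
-- import your own Cfsg.Agent.* helpers here

set_option autoImplicit false
open Cfsg

namespace Cfsg.Agent.S0186

/-- Let G be a finite simple group of order n and p a prime dividing n. If G has more than n / p^2 conjugacy classes, then every Sylow p-subgroup of G is abelian. -/
theorem result {G : Type*} [Group G] [Finite G] [IsSimpleGroup G] (p : ℕ) [Fact p.Prime] (hp : p ∣ Nat.card G) (hmany : Nat.card G < p ^ 2 * Nat.card (ConjClasses G)) (P : Sylow p G) (a b : G) (ha : a ∈ P) (hb : b ∈ P) : a * b = b * a := by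
  classical
  haveI := Fintype.ofFinite G
  haveI := Fintype.ofFinite (Cfsg.IrrCharacter G)
  haveI := Fintype.ofFinite (P : Subgroup G)
  by_contra hne
  have hPna : ¬ ∀ x y : (P : Subgroup G), x * y = y * x := fun h =>
    hne (congrArg Subtype.val (h ⟨a, ha⟩ ⟨b, hb⟩))
  obtain ⟨j, hj⟩ := IsPGroup.iff_card.mp P.2
  have hj3 : 3 ≤ j := by
    by_contra hlt
    apply hPna
    intro x y
    interval_cases j
    · haveI : Subsingleton (P : Subgroup G) := by
        rw [pow_zero] at hj
        exact (Nat.card_eq_one_iff_unique.mp hj).1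
      exact Subsingleton.elim _ _
    · rw [pow_one] at hj
      haveI := isCyclic_of_prime_card hj
      haveI := IsCyclic.isMulCommutative (α := (P : Subgroup G))
      exact mul_comm' x y
    · letI := IsPGroup.commGroupOfCardEqPrimeSq hj
      exact mul_comm x y
  choose d hd0 hd1 hd2 using fun χ : Cfsg.IrrCharacter G =>
    Lib.Characters.IsIrrCharacter.exists_degree_dvd χ.2
  have hge : ∀ χ : Cfsg.IrrCharacter G, χ ≠ Lib.Characters.trivIrr G → p ≤ d χ := by
    intro χ hχ
    by_contra hlt
    push Not at hlt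
    apply hPna
    intro x y
    obtain ⟨n, ρ, hρ, hchar⟩ := χ.2
    have hinj : Function.Injective ρ := Lib.Characters.rep_injective_of_isSimpleGroup ρ
      (fun h => hχ (Subtype.ext (hchar.symm.trans h)))
    haveI := Fintype.ofFinite (Cfsg.IrrCharacter (P : Subgroup G))
    obtain ⟨m, hm, hm'⟩ := Lib.Characters.IsCharacter.exists_nat_decomp
      (Lib.Characters.IsCharacter.restrict (Lib.Characters.irr_isCharacter χ) (P : Subgroup G))
    have hlin : ∀ ψ : Cfsg.IrrCharacter (P : Subgroup G), m ψ ≠ 0 →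
        (ψ : ↥(P : Subgroup G) → ℂ) 1 = 1 := by
      intro ψ hψ
      obtain ⟨e, he0, he1, he2⟩ := Lib.Characters.IsIrrCharacter.exists_degree_dvd ψ.2
      have hψ' : Cfsg.classInner (fun x : (P : Subgroup G) => (χ : G → ℂ) x)
          (ψ : ↥(P : Subgroup G) → ℂ) ≠ 0 := by rw [hm' ψ]; exact_mod_cast hψ
      obtain ⟨η, hη, hdec⟩ := Lib.Characters.IsCharacter.exists_add_of_classInner_ne_zero
        (Lib.Characters.IsCharacter.restrict (Lib.Characters.irr_isCharacter χ) (P : Subgroup G))
        ψ.2 hψ'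
      obtain ⟨z, hz⟩ := Lib.Characters.IsCharacter.exists_apply_one hη
      have h1 := congrFun hdec 1
      simp only [OneMemClass.coe_one, Pi.add_apply, hd1, he1, hz] at h1
      have h1' : d χ = e + z := by exact_mod_cast h1
      rw [hj] at he2
      obtain ⟨i, -, rfl⟩ := (Nat.dvd_prime_pow Fact.out).mp he2
      rcases Nat.eq_zero_or_pos i with rfl | hi
      · rw [he1, pow_zero, Nat.cast_one]
      · have := Nat.le_self_pow hi.ne' p
        omega
    have hker : (χ : G → ℂ) ((x : G) * y * (x : G)⁻¹ * (y : G)⁻¹) = (χ : G → ℂ) 1 := by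
      have h1 := congrFun hm (x * y * x⁻¹ * y⁻¹)
      have h2 := congrFun hm 1
      simp only [Finset.sum_apply, Pi.smul_apply, smul_eq_mul, OneMemClass.coe_one] at h1 h2
      rw [h2]
      refine h1.trans (Finset.sum_congr rfl fun ψ _ => ?_)
      by_cases hψ : m ψ = 0
      · simp [hψ]
      · rw [Lib.Characters.IsCharacter.apply_of_mem_commutator (g := x * y * x⁻¹ * y⁻¹)
          (Lib.Characters.irr_isCharacter ψ) (hlin ψ hψ)
          (Subgroup.commutator_mem_commutator (Subgroup.mem_top x) (Subgroup.mem_top y)),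
          hlin ψ hψ]
    rw [← hchar, ρ.char_one, Lib.Characters.char_eq_finrank_iff] at hker
    have h4 := hinj (hker.trans (map_one ρ).symm)
    rw [mul_inv_eq_one, mul_inv_eq_iff_eq_mul] at h4
    exact Subtype.ext h4
  have hsum : Nat.card G = ∑ χ : Cfsg.IrrCharacter G, d χ ^ 2 := by
    have h := Lib.Characters.sum_degree_sq (G := G)
    simp only [hd1] at h
    exact_mod_cast h.symm
  have htriv : d (Lib.Characters.trivIrr G) = 1 := by
    have : (d (Lib.Characters.trivIrr G) : ℂ) = ((1 : ℕ) : ℂ) := by rw [← hd1]; simp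
    exact_mod_cast this
  have hbound : 1 + (Nat.card (ConjClasses G) - 1) * p ^ 2 ≤ Nat.card G := by
    rw [hsum, ← Finset.add_sum_erase _ _ (Finset.mem_univ (Lib.Characters.trivIrr G)), htriv,
      one_pow, ← Lib.Characters.card_irrCharacter, Nat.card_eq_fintype_card, ← Finset.card_univ,
      ← Finset.card_erase_of_mem (Finset.mem_univ (Lib.Characters.trivIrr G)), ← smul_eq_mul,
      ← Finset.sum_const]
    exact Nat.add_le_add_left (Finset.sum_le_sum fun χ hχ =>
      Nat.pow_le_pow_left (hge χ (Finset.mem_erase.mp hχ).1) 2) 1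
  obtain ⟨c, hc⟩ : p ^ 2 ∣ Nat.card G :=
    ((pow_dvd_pow p (by omega : 2 ≤ j)).trans (dvd_of_eq hj.symm)).trans
      (Subgroup.card_subgroup_dvd_card _)
  obtain ⟨k, hk⟩ : ∃ k, Nat.card (ConjClasses G) = k + 1 := by
    refine ⟨Nat.card (ConjClasses G) - 1, ?_⟩
    have : 0 < Nat.card (ConjClasses G) := by
      rw [← Lib.Characters.card_irrCharacter, Nat.card_eq_fintype_card]
      exact Fintype.card_pos_iff.mpr ⟨Lib.Characters.trivIrr G⟩
    omega
  rw [hk, Nat.add_sub_cancel, hc] at hbound
  rw [hk, hc] at hmany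
  have h5 : c < k + 1 := Nat.lt_of_mul_lt_mul_left hmany
  have h6 : p ^ 2 * c ≤ k * p ^ 2 := by
    rw [mul_comm k]
    exact Nat.mul_le_mul_left _ (by omega)
  omega

end Cfsg.Agent.S0186
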