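import Cfsg.Statements.S0192
import Cfsg.Agent.Lib.Characters.Kernel
-- import your own Cfsg.Agent.* helpers here

set_option autoImplicit false
open Cfsg

namespace Cfsg.Agent.S0192

/-- Brauer's generation criterion. Let G be a finite simple group, H₁ and H₂ subgroups, and χ a non-principal irreducible character. If the multiplicity of the principal character in χ restricted to H₁ ⊓ H₂ is less than the sum of the corresponding multiplicities for H₁ and H₂, then H₁ and H₂ do not generate G. -/
theorem result {G : Type*} [Group G] [Fintype G] [IsSimpleGroup G] (H₁ H₂ : Subgroup G) [Fintype H₁] [Fintype H₂] [Fintype ↥(H₁ ⊓ H₂)] (χ : G → ℂ) (hχ : Cfsg.IsIrrCharacter G χ) (hχ1 : χ ≠ fun _ => 1) (hlt : (Cfsg.classInner (fun x : ↥(H₁ ⊓ H₂) => χ x) (fun _ => 1)).re < (Cfsg.classInner (fun x : H₁ => χ x) (fun _ => 1)).re + (Cfsg.classInner (fun x : H₂ => χ x) (fun _ => 1)).re) : H₁ ⊔ H₂ ≠ ⊤ := by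
  classical
  obtain ⟨n, ρ, hρ, rfl⟩ := hχ
  intro htop
  have hdim : ∀ (K : Subgroup G) (_ : Fintype K),
      (Cfsg.classInner (fun x : K => ρ.character x) (fun _ => 1)).re =
        (Module.finrank ℂ (Representation.invariants (ρ.comp K.subtype)) : ℝ) := by
    intro K _
    haveI : Invertible (Nat.card K : ℂ) :=
      invertibleOfNonzero Lib.Characters.natCard_ne_zero_complex
    have := Representation.card_inv_mul_sum_char_eq_finrank (ρ.comp K.subtype)
    rw [Cfsg.classInner]
    simp only [map_one, mul_one]
    rw [show (fun x : K => ρ.character x) = Representation.character (ρ.comp K.subtype) from rfl]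
    rw [this, Complex.natCast_re]
  rw [hdim, hdim, hdim, ← Nat.cast_add, Nat.cast_lt] at hlt
  set A := Representation.invariants (ρ.comp H₁.subtype) with hA
  set B := Representation.invariants (ρ.comp H₂.subtype) with hB
  have hmemA : ∀ v, v ∈ A ↔ ∀ h : H₁, ρ (h : G) v = v := fun v => Iff.rfl
  have hmemB : ∀ v, v ∈ B ↔ ∀ h : H₂, ρ (h : G) v = v := fun v => Iff.rfl
  have hinf : A ⊓ B = ⊥ := by
    rw [eq_bot_iff]
    intro v hv
    rw [Submodule.mem_inf, hmemA, hmemB] at hv
    have hfix : ∀ g : G, ρ g v = v := by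
      intro g
      have hg : g ∈ H₁ ⊔ H₂ := htop ▸ Subgroup.mem_top g
      let F : Subgroup G :=
        { carrier := {g | ρ g v = v}
          one_mem' := by simp
          mul_mem' := fun {a b} ha hb => by
            show ρ (a * b) v = v
            rw [map_mul, Module.End.mul_apply, show ρ b v = v from hb, show ρ a v = v from ha]
          inv_mem' := fun {a} ha => by
            show ρ a⁻¹ v = v
            rw [Representation.inv_apply_eq_iff]
            exact ha.symm }
      exact (sup_le (fun x hx => hv.1 ⟨x, hx⟩) (fun x hx => hv.2 ⟨x, hx⟩) : H₁ ⊔ H₂ ≤ F) hg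
    by_contra hne
    rcases ((Lib.Characters.isIrreducible_iff_forall ρ).mp hρ).2 (Submodule.span ℂ {v})
      (fun g x hx => by
        obtain ⟨c, rfl⟩ := Submodule.mem_span_singleton.mp hx
        rw [map_smul, hfix]
        exact Submodule.smul_mem _ _ (Submodule.mem_span_singleton_self v)) with h | h
    · exact hne (by simpa using h)
    · obtain ⟨g, hg⟩ := Lib.Characters.IsIrrCharacter.exists_ne_apply_one
        (Lib.Characters.isIrrCharacter_of_rep ρ) hχ1
      apply hg
      rw [ρ.char_one, Lib.Characters.char_eq_finrank_iff]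
      apply LinearMap.ext
      intro x
      obtain ⟨c, rfl⟩ := Submodule.mem_span_singleton.mp (h ▸ Submodule.mem_top : x ∈ Submodule.span ℂ {v})
      simp [hfix]
  have hle : A ⊔ B ≤ Representation.invariants (ρ.comp (H₁ ⊓ H₂).subtype) := by
    refine sup_le (fun v hv h => ?_) (fun v hv h => ?_)
    · exact (hmemA v).mp hv ⟨h, h.2.1⟩
    · exact (hmemB v).mp hv ⟨h, h.2.2⟩
  have h1 := Submodule.finrank_sup_add_finrank_inf_eq A B
  rw [hinf, finrank_bot, add_zero] at h1
  have h2 := Submodule.finrank_mono hle
  omega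

end Cfsg.Agent.S0192
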