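import Cfsg.Statements.S0194
import Cfsg.Agent.Lib.Characters.Clifford
import Cfsg.Agent.Lib.Characters.Kernel
import Mathlib.Tactic.Group
-- import your own Cfsg.Agent.* helpers here

set_option autoImplicit false
open scoped ComplexConjugate
open Cfsg
open scoped ComplexConjugate

namespace Cfsg.Agent.S0194

/-- Let G have odd order, H be a normal subgroup and θ a non-principal irreducible character of H. Then the function induced from θ is orthogonal to its complex conjugate. -/
theorem result {G : Type*} [Group G] [Fintype G] (hodd : Odd (Nat.card G)) (H : Subgroup G) [H.Normal] (θ : H → ℂ) (hθ : Cfsg.IsIrrCharacter H θ) (hθ1 : θ ≠ fun _ => 1) : Cfsg.classInner (fun g => conj (Cfsg.indFun H θ g)) (Cfsg.indFun H θ) = 0 := by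
  classical
  haveI := Fintype.ofFinite H
  have hconj : (fun g => conj (Cfsg.indFun H θ g)) = Cfsg.indFun H (fun h => conj (θ h)) :=
    funext fun g => Lib.Characters.indFun_conj H θ g
  have hθ' : Cfsg.IsIrrCharacter H (fun h => conj (θ h)) :=
    Lib.Characters.IsIrrCharacter.conjugate hθ
  rw [hconj, Lib.Characters.classInner_indFun_right H θ (Lib.Characters.isClassFunction_indFun H _),
    Lib.Characters.classInner_indFun_restrict H hθ' hθ]
  haveI : IsEmpty {x : G // Lib.Characters.conjFun H x (fun h => conj (θ h)) = θ} := by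
    refine ⟨fun ⟨x, hx⟩ => ?_⟩
    have h1 : Lib.Characters.conjFun H x θ = fun h => conj (θ h) := by
      funext h
      have := congrArg conj (congrFun hx h)
      simpa [Lib.Characters.conjFun] using this
    have h2 : x ^ 2 ∈ Lib.Characters.inertia H θ := by
      rw [Lib.Characters.mem_inertia_iff, pow_two, Lib.Characters.conjFun_mul, h1]
      exact hx
    obtain ⟨r, hr⟩ := hodd.of_dvd_nat (orderOf_dvd_natCard x)
    have hx2 : x ∈ Lib.Characters.inertia H θ := by
      have : x = (x ^ 2) ^ (r + 1) := by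
        rw [← pow_mul, show 2 * (r + 1) = orderOf x + 1 by omega, pow_succ, pow_orderOf_eq_one,
          one_mul]
      rw [this]
      exact Subgroup.pow_mem _ h2 _
    rw [Lib.Characters.mem_inertia_iff, h1] at hx2
    have hreal : ∀ h : H, (θ h).im = 0 := fun h => Complex.conj_eq_iff_im.mp (congrFun hx2 h)
    have hoddH : Odd (Nat.card H) := hodd.of_dvd_nat (Subgroup.card_subgroup_dvd_card H)
    have hcard1 : Nat.card {χ : Cfsg.IrrCharacter H // ∀ h : H, ((χ : H → ℂ) h).im = 0} = 1 := by
      rw [Lib.Characters.card_real_irr, Nat.card_eq_one_iff_exists]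
      refine ⟨⟨ConjClasses.mk 1, fun g hg => ?_⟩, ?_⟩
      · rw [ConjClasses.mk_eq_mk_iff_isConj, isConj_one_left] at hg
        rw [hg, inv_one]
      · rintro ⟨C, hC⟩
        obtain ⟨g, rfl⟩ := ConjClasses.mk_surjective C
        obtain ⟨c, hc⟩ := isConj_iff.mp (hC g rfl)
        refine Subtype.ext (congrArg ConjClasses.mk ?_)
        have h2 : Commute (c ^ 2) g := mul_inv_eq_iff_eq_mul.mp (by
          calc c ^ 2 * g * (c ^ 2)⁻¹ = c * (c * g * c⁻¹) * c⁻¹ := by rw [pow_two]; group
            _ = c * g⁻¹ * c⁻¹ := by rw [hc]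
            _ = (c * g * c⁻¹)⁻¹ := by group
            _ = g := by rw [hc, inv_inv])
        obtain ⟨r, hr⟩ := hoddH.of_dvd_nat (orderOf_dvd_natCard c)
        have hcc : c = (c ^ 2) ^ (r + 1) := by
          rw [← pow_mul, show 2 * (r + 1) = orderOf c + 1 by omega, pow_succ, pow_orderOf_eq_one,
            one_mul]
        have h4 : Commute c g := by rw [hcc]; exact h2.pow_left _
        have h5 : g = g⁻¹ := by rw [← hc, h4.eq, mul_inv_cancel_right]
        have h6 : g ^ 2 = 1 := by
          rw [pow_two]; nth_rewrite 2 [h5]; exact mul_inv_cancel g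
        obtain ⟨j, hj⟩ := hoddH.of_dvd_nat (orderOf_dvd_natCard g)
        have h8 := Nat.le_of_dvd two_pos (orderOf_dvd_of_pow_eq_one h6)
        exact orderOf_eq_one_iff.mp (by omega)
    obtain ⟨y, hy⟩ := Nat.card_eq_one_iff_exists.mp hcard1
    exact hθ1 (congrArg (fun z => (z.1 : H → ℂ))
      ((hy ⟨⟨θ, hθ⟩, hreal⟩).trans (hy ⟨Lib.Characters.trivIrr H, fun g => by simp⟩).symm))
  rw [Nat.card_of_isEmpty, Nat.cast_zero, zero_div]

end Cfsg.Agent.S0194
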