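import Cfsg.Statements.S0196

import Mathlib.Algebra.BigOperators.Ring.Finset
-- import your own Cfsg.Agent.* helpers here

set_option autoImplicit false
open Cfsg

namespace Cfsg.Agent.S0196

/-- Let A be a subgroup of a finite group G that equals the centralizer of each of its non-identity elements, and let N be its normalizer. Then the index of A in N divides |A| − 1 (N/A permutes the non-identity elements of A in orbits of full length). -/
theorem result {G : Type*} [Group G] [Finite G] (A : Subgroup G) (hA : ∀ x ∈ A, x ≠ 1 → Subgroup.centralizer ({x} : Set G) = A) : (A.subgroupOf (Subgroup.normalizer (A : Set G))).index ∣ Nat.card A - 1 := by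
  classical
  haveI := Fintype.ofFinite G
  set N := Subgroup.normalizer (A : Set G) with hN
  have hAN : A ≤ N := Subgroup.le_normalizer
  let act : N → {x : A // x ≠ 1} → {x : A // x ≠ 1} := fun g x =>
    ⟨⟨(g : G) * (x.1 : G) * (g : G)⁻¹, (Subgroup.mem_normalizer_iff.mp g.2 _).mp x.1.2⟩, fun h =>
      x.2 (Subtype.ext (conj_eq_one_iff.mp (congrArg Subtype.val h)))⟩
  letI : MulAction N {x : A // x ≠ 1} :=
    { smul := act
      one_smul := fun x => Subtype.ext (Subtype.ext (by
        show (1 : G) * (x.1 : G) * (1 : G)⁻¹ = _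
        simp))
      mul_smul := fun a b x => Subtype.ext (Subtype.ext (by
        show (a : G) * b * (x.1 : G) * ((a : G) * b)⁻¹ = (a : G) * ((b : G) * x.1 * (b : G)⁻¹) * (a : G)⁻¹
        simp [mul_assoc])) }
  have hstab : ∀ x : {x : A // x ≠ 1}, MulAction.stabilizer N x = A.subgroupOf N := by
    intro x
    ext g
    have hc := hA (x.1 : G) x.1.2 (fun h => x.2 (Subtype.ext h))
    rw [MulAction.mem_stabilizer_iff, Subgroup.mem_subgroupOf]
    conv_rhs => rw [← hc]
    rw [Subgroup.mem_centralizer_singleton_iff]
    constructor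
    · intro h
      have h' : (g : G) * (x.1 : G) * (g : G)⁻¹ = x.1 := congrArg (fun y => (y.1 : G)) h
      exact mul_inv_eq_iff_eq_mul.mp h'
    · intro h
      refine Subtype.ext (Subtype.ext ?_)
      show (g : G) * (x.1 : G) * (g : G)⁻¹ = x.1
      rw [h, mul_inv_cancel_right]
  have hcard : Nat.card {x : A // x ≠ 1} = Nat.card A - 1 := by
    haveI := Fintype.ofFinite A
    rw [Nat.card_eq_fintype_card, Nat.card_eq_fintype_card, Fintype.card_subtype_compl,
      Fintype.card_subtype_eq]
  rw [← hcard, Nat.card_congr (MulAction.selfEquivSigmaOrbitsQuotientStabilizer N {x : A // x ≠ 1}),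
    Nat.card_sigma]
  refine Finset.dvd_sum fun q _ => ?_
  rw [hstab, ← Subgroup.index_eq_card]

end Cfsg.Agent.S0196
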