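import Cfsg.Statements.S0200
import Cfsg.Agent.Lib.Involutions.BaerSuzuki
-- Template for statement S0200 (row 200; see /opt/grader/pristine/manifest.json for weights).
-- Copy to Cfsg/Agent/S0200.lean and replace the sorry. The statement below is byte-identical to the frozen
-- statement Cfsg.CfsgFrozen.S0200 (Cfsg/Statements/S0200.lean; the theorem Cfsg.involution_outside_normal_two_subgroups_inverts_odd_element);
-- the grader kernel-checks Cfsg.Agent.S0200.result against that frozen type. Keep the theorem IN THIS FILE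
-- (a `result` declared elsewhere and merely imported here is not credited); helpers may live anywhere
-- under Cfsg/Agent/.
-- import your own Cfsg.Agent.* helpers here

set_option autoImplicit false
open Cfsg

namespace Cfsg.Agent.S0200

open Cfsg.Agent.Lib.Involutions

/-- An involution lying in no normal 2-subgroup of a finite group inverts a nontrivial element of odd order (a consequence of the Baer–Suzuki Theorem). -/
theorem result {G : Type*} [Group G] [Finite G] (t : G) (ht : orderOf t = 2) (hO : ∀ N : Subgroup G, N.Normal → IsPGroup 2 N → t ∉ N) : ∃ h : G, h ≠ 1 ∧ Odd (orderOf h) ∧ t * h * t⁻¹ = h⁻¹ := by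
  have : Fact (Nat.Prime 2) := ⟨Nat.prime_two⟩
  have hX : IsPGroup 2 (Subgroup.zpowers t) :=
    IsPGroup.iff_card.2 ⟨1, by rw [Nat.card_zpowers, ht, pow_one]⟩
  by_contra hcon
  push Not at hcon
  obtain ⟨N, hN, hN2, hXN⟩ := baer_suzuki (Subgroup.zpowers t) hX fun g => by
    set s := g * t * g⁻¹ with hs
    have hs2 : orderOf s = 2 := by rw [hs, orderOf_conj_eq, ht]
    rw [MonoidHom.map_zpowers, Subgroup.zpowers_eq_closure, Subgroup.zpowers_eq_closure,
      ← Subgroup.closure_union, Set.singleton_union]
    set a := t * s with ha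
    have hn : 0 < orderOf a := orderOf_pos a
    -- the odd part of `t s` is inverted by `t`, hence trivial
    have hpow : a ^ (2 ^ (orderOf a).factorization 2) = 1 := by
      by_contra hne
      refine hcon _ hne ?_ (inverts_pow (conj_mul_left_invol ht hs2) _)
      rw [orderOf_pow, Nat.gcd_eq_right (Nat.ordProj_dvd _ 2)]
      exact Nat.not_even_iff_odd.1 fun he =>
        Nat.not_dvd_ordCompl Nat.prime_two hn.ne' he.two_dvd
    rw [IsPGroup.iff_orderOf]
    rintro ⟨d, hd⟩
    rw [Subgroup.orderOf_mk]
    obtain ⟨k, rfl | rfl⟩ := (mem_closure_pair_invol ht hs2 d).1 hd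
    · obtain ⟨j, -, hj⟩ := (Nat.dvd_prime_pow Nat.prime_two).1
        (orderOf_dvd_of_pow_eq_one (show (a ^ k) ^ (2 ^ (orderOf a).factorization 2) = 1 by
          rw [← zpow_natCast, ← zpow_mul, mul_comm, zpow_mul, zpow_natCast, hpow, one_zpow]))
      exact ⟨j, hj⟩
    · obtain ⟨j, -, hj⟩ := (Nat.dvd_prime_pow Nat.prime_two).1
        (orderOf_dvd_of_pow_eq_one (show (a ^ k * t) ^ (2 ^ 1) = 1 by
          rw [pow_one, sq]; exact zpow_mul_invol_sq ht hs2 k))
      exact ⟨j, hj⟩
  exact hO N hN hN2 (hXN (Subgroup.mem_zpowers t))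

end Cfsg.Agent.S0200
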