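import Cfsg.Statements.S0218
import Cfsg.Agent.Lib.Involutions.Basic
-- Template for statement S0218 (row 218; see /opt/grader/pristine/manifest.json for weights).
-- Copy to Cfsg/Agent/S0218.lean and replace the sorry. The statement below is byte-identical to the frozen
-- statement Cfsg.CfsgFrozen.S0218 (Cfsg/Statements/S0218.lean; the theorem Cfsg.generalized_quaternion_unique_involution);
-- the grader kernel-checks Cfsg.Agent.S0218.result against that frozen type. Keep the theorem IN THIS FILE
-- (a `result` declared elsewhere and merely imported here is not credited); helpers may live anywhere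
-- under Cfsg/Agent/.
-- import your own Cfsg.Agent.* helpers here

set_option autoImplicit false
open Cfsg

namespace Cfsg.Agent.S0218

open Cfsg.Agent.Lib.Involutions

/-- The generalized quaternion group of order 2^(n+3) contains exactly one element of order 2. -/
theorem result (n : ℕ) : Nat.card {x : QuaternionGroup (2 ^ (n + 1)) // orderOf x = 2} = 1 := by
  rw [Nat.card_eq_one_iff_unique]
  have hn : (2 ^ (n + 1) : ℕ) ≠ 0 := by positivity
  have : NeZero (2 ^ (n + 1) : ℕ) := ⟨hn⟩
  refine ⟨⟨?_⟩, ⟨⟨QuaternionGroup.a (2 ^ (n + 1) : ℕ), ?_⟩⟩⟩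
  · have key : ∀ u : QuaternionGroup (2 ^ (n + 1)), orderOf u = 2 →
        u = QuaternionGroup.a (2 ^ (n + 1) : ℕ) := by
      rintro (i | i) h
      · rw [QuaternionGroup.orderOf_a] at h
        congr 1
        have hlt := ZMod.val_lt i
        have hd := Nat.gcd_dvd_right (2 * 2 ^ (n + 1)) i.val
        have hg : Nat.gcd (2 * 2 ^ (n + 1)) i.val = 2 ^ (n + 1) := by
          have h1 := Nat.div_mul_cancel (Nat.gcd_dvd_left (2 * 2 ^ (n + 1)) i.val)
          rw [h] at h1
          omega
        rw [hg] at hd
        obtain ⟨c, hc⟩ := hd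
        rcases c with _ | _ | c
        · rw [hc, mul_zero, Nat.gcd_zero_right] at hg
          omega
        · rw [← ZMod.natCast_zmod_val i, hc]
          simp
        · rw [hc] at hlt
          nlinarith
      · rw [QuaternionGroup.orderOf_xa] at h
        omega
    rintro ⟨u, hu⟩ ⟨v, hv⟩
    exact Subtype.ext ((key u hu).trans (key v hv).symm)
  · rw [QuaternionGroup.orderOf_a, ZMod.val_natCast, Nat.mod_eq_of_lt (by omega),
      Nat.gcd_mul_left_left, Nat.mul_div_cancel _ (by positivity)]

end Cfsg.Agent.S0218
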