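import Mathlib
import Cfsg.Statements.S0201
import Cfsg.Agent.Lib.InvChar.ZStarTheorem
import Cfsg.Agent.S0218

set_option autoImplicit false
open Cfsg

namespace Cfsg.Agent.S0201

/-- Brauer–Suzuki Theorem: if a Sylow 2-subgroup of a finite group is generalized quaternion (of order at least 8) and the group has no nontrivial normal subgroup of odd order, then its centre has order 2. -/
theorem result {G : Type*} [Group G] [Finite G] (S : Sylow 2 G) (n : ℕ) (e : (S : Subgroup G) ≃* QuaternionGroup (2 ^ (n + 1))) (hO : ∀ N : Subgroup G, N.Normal → Odd (Nat.card N) → N = ⊥) : Nat.card (Subgroup.center G) = 2 := by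
  classical
  have : Fact (Nat.Prime 2) := ⟨Nat.prime_two⟩
  have hn : (2 ^ (n + 1) : ℕ) ≠ 0 := by positivity
  have : NeZero (2 ^ (n + 1) : ℕ) := ⟨hn⟩
  obtain ⟨hsub, ⟨w, hw⟩⟩ := (Nat.card_eq_one_iff_unique).1 (Cfsg.Agent.S0218.result n)
  set u : G := ((e.symm w : (S : Subgroup G)) : G) with hu
  have hu2 : orderOf u = 2 := by rw [hu, Subgroup.orderOf_coe, e.symm.orderOf_eq, hw]
  have huS : u ∈ S := (e.symm w).2
  have huniq : ∀ t ∈ S, orderOf t = 2 → t = u := by
    intro t ht ht2
    have := congrArg Subtype.val (Subsingleton.elim (⟨e ⟨t, ht⟩, by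
      rw [e.orderOf_eq, Subgroup.orderOf_mk, ht2]⟩ : {x // orderOf x = 2}) ⟨w, hw⟩)
    simp only at this
    rw [hu, ← this, MulEquiv.symm_apply_apply]
  have hz := Lib.Involutions.isIsolated_of_unique_in_sylow S hu2 huS fun g hg =>
    huniq _ hg (by rw [Lib.Involutions.orderOf_conj_eq, hu2])
  have h := Lib.InvChar.inZStar_of_isIsolated hu2 hz.2
  have hO0 : Cfsg.pPrimeCore 2 G = ⊥ :=
    hO _ inferInstance (Nat.coprime_two_right.1 (Lib.Cores.pPrimeCore_coprime 2 G))
  have hcen : u ∈ Subgroup.center G := Subgroup.mem_center_iff.2 fun g => by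
    have h1 := h g
    rw [hO0, Subgroup.mem_bot, mul_inv_eq_one, mul_inv_eq_iff_eq_mul] at h1
    exact h1
  -- the centre is a `2`-group
  have hpg : IsPGroup 2 ↥(Subgroup.center G) := by
    haveI : IsMulCommutative ↥(Subgroup.center G) := inferInstance
    intro c
    obtain ⟨t, m, hm, htm⟩ := Nat.exists_eq_two_pow_mul_odd (orderOf_pos c).ne'
    refine ⟨t, ?_⟩
    have hodd : Odd (Nat.card ↥(Subgroup.zpowers ((c : G) ^ 2 ^ t))) := by
      rw [Nat.card_zpowers]
      refine hm.of_dvd_nat (orderOf_dvd_of_pow_eq_one ?_)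
      rw [← pow_mul, ← htm, ← SubmonoidClass.coe_pow, pow_orderOf_eq_one,
        OneMemClass.coe_one]
    have hnorm : (Subgroup.zpowers ((c : G) ^ 2 ^ t)).Normal := ⟨fun x hx g => by
      have hxc : x ∈ Subgroup.center G :=
        Subgroup.zpowers_le.2 (Subgroup.pow_mem _ c.2 _) hx
      rwa [Subgroup.mem_center_iff.1 hxc g, mul_inv_cancel_right]⟩
    have hb := hO _ hnorm hodd
    rw [Subgroup.zpowers_eq_bot] at hb
    exact Subtype.ext (by rw [SubmonoidClass.coe_pow, hb, OneMemClass.coe_one])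
  have hsubS : Subgroup.center G ≤ (S : Subgroup G) := by
    obtain ⟨R, hR⟩ := hpg.exists_le_sylow
    obtain ⟨g, hg⟩ := MulAction.exists_smul_eq G R S
    intro x hx
    rw [← hg]
    refine ⟨x, hR hx, ?_⟩
    show g * x * g⁻¹ = x
    rw [Subgroup.mem_center_iff.1 hx g, mul_inv_cancel_right]
  refine Nat.card_eq_two_iff.2 ⟨1, ⟨u, hcen⟩, ?_, ?_⟩
  · intro h'
    have := congrArg Subtype.val h'
    simp only [OneMemClass.coe_one] at this
    rw [← this, orderOf_one] at hu2
    norm_num at hu2
  · rw [Set.eq_univ_iff_forall]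
    rintro ⟨x, hx⟩
    simp only [Set.mem_insert_iff, Set.mem_singleton_iff, Subtype.ext_iff, OneMemClass.coe_one]
    by_contra hne
    push Not at hne
    rcases hq : e ⟨x, hsubS hx⟩ with i | i
    · -- commuting with an element outside the cyclic subgroup
      have h1 : e ⟨x, hsubS hx⟩ * QuaternionGroup.xa 0 = QuaternionGroup.xa 0 * e ⟨x, hsubS hx⟩ := by
        conv_lhs => rw [← e.apply_symm_apply (QuaternionGroup.xa 0), ← map_mul]
        conv_rhs => rw [← e.apply_symm_apply (QuaternionGroup.xa 0), ← map_mul]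
        exact congrArg e (Subtype.ext (Subgroup.mem_center_iff.1 hx _).symm)
      rw [hq, QuaternionGroup.a_mul_xa, QuaternionGroup.xa_mul_a, QuaternionGroup.xa.injEq] at h1
      have h2 : orderOf (e ⟨x, hsubS hx⟩) = 2 := by
        refine orderOf_eq_prime (p := 2) ?_ ?_
        · rw [hq, pow_two, QuaternionGroup.a_mul_a, QuaternionGroup.one_def]
          congr 1
          linear_combination -h1
        · intro h'
          exact hne.1 (congrArg Subtype.val (e.injective (h'.trans e.map_one.symm)))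
      rw [e.orderOf_eq, Subgroup.orderOf_mk] at h2
      exact hne.2 (huniq x (hsubS hx) h2)
    · have h1 : e ⟨x, hsubS hx⟩ * QuaternionGroup.a 1 = QuaternionGroup.a 1 * e ⟨x, hsubS hx⟩ := by
        conv_lhs => rw [← e.apply_symm_apply (QuaternionGroup.a 1), ← map_mul]
        conv_rhs => rw [← e.apply_symm_apply (QuaternionGroup.a 1), ← map_mul]
        exact congrArg e (Subtype.ext (Subgroup.mem_center_iff.1 hx _).symm)
      rw [hq, QuaternionGroup.a_mul_xa, QuaternionGroup.xa_mul_a, QuaternionGroup.xa.injEq] at h1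
      have h2 : ((2 : ℕ) : ZMod (2 * 2 ^ (n + 1))) = 0 := by push_cast; linear_combination h1
      rw [ZMod.natCast_eq_zero_iff] at h2
      have h3 := Nat.le_of_dvd (by norm_num) h2
      have h4 : 2 ^ 1 ≤ 2 ^ (n + 1) := Nat.pow_le_pow_right (by norm_num) (by omega)
      omega

end Cfsg.Agent.S0201
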