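import Cfsg.Statements.S0202
import Cfsg.Agent.Lib.Involutions.Fusion
-- Template for statement S0202 (row 202; see /opt/grader/pristine/manifest.json for weights).
-- Copy to Cfsg/Agent/S0202.lean and replace the sorry. The statement below is byte-identical to the frozen
-- statement Cfsg.CfsgFrozen.S0202 (Cfsg/Statements/S0202.lean; the theorem Cfsg.klein_four_sylow_involution_classes);
-- the grader kernel-checks Cfsg.Agent.S0202.result against that frozen type. Keep the theorem IN THIS FILE
-- (a `result` declared elsewhere and merely imported here is not credited); helpers may live anywhere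
-- under Cfsg/Agent/.
-- import your own Cfsg.Agent.* helpers here

set_option autoImplicit false
open Cfsg

namespace Cfsg.Agent.S0202

open Cfsg.Agent.Lib.Involutions

theorem four_elems {G : Type*} [Group G] (P : Sylow 2 G) (hP : IsKleinFour (P : Subgroup G)) :
    ∃ a b ab : G, a ∈ P ∧ b ∈ P ∧ ab ∈ P ∧ a ≠ b ∧ a ≠ ab ∧ b ≠ ab ∧
      (∀ x : G, x ∈ P → x = 1 ∨ x = a ∨ x = b ∨ x = ab) ∧ (a ≠ 1 ∧ b ≠ 1 ∧ ab ≠ 1) := by
  classical
  have hfin : Finite (P : Subgroup G) := Nat.finite_of_card_ne_zero (by rw [IsKleinFour.card_four]; norm_num)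
  have := Fintype.ofFinite (P : Subgroup G)
  have hnt : Nontrivial (P : Subgroup G) := Finite.one_lt_card_iff_nontrivial.1 (by
    rw [IsKleinFour.card_four]; norm_num)
  obtain ⟨a, ha⟩ := exists_ne (1 : (P : Subgroup G))
  obtain ⟨b, hb⟩ : ∃ b : (P : Subgroup G), b ∉ ({1, a} : Finset _) := by
    by_contra hcon
    push Not at hcon
    have h := Finset.card_le_card (fun x (_ : x ∈ (Finset.univ : Finset (P : Subgroup G))) => hcon x)
    have h4 : Fintype.card (P : Subgroup G) = 4 := by
      rw [← Nat.card_eq_fintype_card, IsKleinFour.card_four]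
    rw [Finset.card_univ, h4] at h
    have h2 := h.trans (Finset.card_insert_le _ _)
    simp at h2
  simp only [Finset.mem_insert, Finset.mem_singleton, not_or] at hb
  have hu := IsKleinFour.eq_finset_univ ha hb.1 (Ne.symm hb.2)
  refine ⟨a, b, (a * b : (P : Subgroup G)), a.2, b.2, (a * b).2,
    fun h => hb.2 (Subtype.ext h).symm, fun h => hb.1 ?_, fun h => ha ?_, ?_, ?_⟩
  · exact mul_eq_left.1 (Subtype.ext h).symm
  · exact mul_eq_right.1 (Subtype.ext h).symm
  · intro x hx
    have h := Finset.eq_univ_iff_forall.1 hu ⟨x, hx⟩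
    simp only [Finset.mem_insert, Finset.mem_singleton] at h
    rcases h with h | h | h | h <;> replace h : x = _ := congrArg Subtype.val h
    · exact Or.inr (Or.inr (Or.inr h))
    · exact Or.inr (Or.inl h)
    · exact Or.inr (Or.inr (Or.inl h))
    · exact Or.inl h
  · refine ⟨fun h => ha (Subtype.ext h), fun h => hb.1 (Subtype.ext h), fun h => hb.2 ?_⟩
    have h2 : a * b = 1 := Subtype.ext h
    rw [mul_eq_one_iff_inv_eq, IsKleinFour.inv_eq_self] at h2
    exact h2.symm

theorem cover_pair {G : Type*} [Group G] (P : Sylow 2 G) (hP : IsKleinFour (P : Subgroup G))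
    {x y z : G} (hx : x ∈ P) (hy : y ∈ P) (hx1 : x ≠ 1) (hy1 : y ≠ 1) (hxy : x ≠ y) (hz : z ∈ P)
    (hz1 : z ≠ 1) : z = x ∨ z = y ∨ z = x * y := by
  classical
  have hfin : Finite (P : Subgroup G) :=
    Nat.finite_of_card_ne_zero (by rw [IsKleinFour.card_four]; norm_num)
  have := Fintype.ofFinite (P : Subgroup G)
  have hu := IsKleinFour.eq_finset_univ (x := (⟨x, hx⟩ : (P : Subgroup G))) (y := ⟨y, hy⟩)
    (fun h => hx1 (congrArg Subtype.val h)) (fun h => hy1 (congrArg Subtype.val h))
    (fun h => hxy (congrArg Subtype.val h))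
  have h := Finset.eq_univ_iff_forall.1 hu ⟨z, hz⟩
  simp only [Finset.mem_insert, Finset.mem_singleton] at h
  rcases h with h | h | h | h <;> replace h : z = _ := congrArg Subtype.val h
  · exact Or.inr (Or.inr h)
  · exact Or.inl h
  · exact Or.inr (Or.inl h)
  · exact absurd h hz1

/-- If a Sylow 2-subgroup of a finite group is a Klein four-group, the group has one or three conjugacy classes of involutions. -/
theorem result {G : Type*} [Group G] [Finite G] (P : Sylow 2 G) (hP : IsKleinFour (P : Subgroup G)) : Nat.card {C : ConjClasses G // ∃ t : G, orderOf t = 2 ∧ ConjClasses.mk t = C} = 1 ∨ Nat.card {C : ConjClasses G // ∃ t : G, orderOf t = 2 ∧ ConjClasses.mk t = C} = 3 := by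
  have : Fact (Nat.Prime 2) := ⟨Nat.prime_two⟩
  classical
  obtain ⟨a, b, ab, ha, hb, hab, hne1, hne2, hne3, hcov, hprod⟩ := four_elems P hP
  have hord : ∀ x : G, x ∈ P → x ≠ 1 → orderOf x = 2 := fun x hx hx1 => by
    refine orderOf_eq_two_of_mul_self ?_ hx1
    exact congrArg Subtype.val (IsKleinFour.mul_self (⟨x, hx⟩ : (P : Subgroup G)))
  have hall : ∀ t : G, orderOf t = 2 → ∃ x ∈ P, x ≠ 1 ∧ IsConj x t := by
    intro t ht
    have hz : IsPGroup 2 (Subgroup.zpowers t) :=
      IsPGroup.iff_card.2 ⟨1, by rw [Nat.card_zpowers, ht, pow_one]⟩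
    obtain ⟨R, hR⟩ := hz.exists_le_sylow
    obtain ⟨c, hc⟩ := MulAction.exists_smul_eq G R P
    refine ⟨c * t * c⁻¹, ?_, fun h => invol_ne_one (by rw [orderOf_conj_eq, ht]) h,
      (isConj_iff.2 ⟨c, rfl⟩ : IsConj t (c * t * c⁻¹)).symm⟩
    have hmem : c * t * c⁻¹ ∈ ((c • R : Sylow 2 G) : Subgroup G) :=
      ⟨t, hR (Subgroup.mem_zpowers t), rfl⟩
    rwa [hc] at hmem
  have hPc : ∀ x y : G, x ∈ P → y ∈ P → x * y = y * x := fun x y hx hy =>
    congrArg Subtype.val (mul_comm_of_exponent_two IsKleinFour.exponent_two (⟨x, hx⟩ : (P : Subgroup G)) ⟨y, hy⟩)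
  -- fusion is controlled by the normalizer
  have hfus : ∀ x y : G, x ∈ P → y ∈ P → IsConj x y →
      ∃ n : G, n ∈ Subgroup.normalizer ((P : Subgroup G) : Set G) ∧ n * x * n⁻¹ = y := by
    intro x y hx hy hxy
    obtain ⟨g, hg⟩ := isConj_iff.1 hxy
    have hcen : ∀ z : G, z ∈ P → z ∈ Subgroup.centralizer ((P : Subgroup G) : Set G) :=
      fun z hz => Subgroup.mem_centralizer_iff.2 fun w hw => hPc w z hw hz
    obtain ⟨n, hn, hne⟩ := P.conj_eq_normalizer_conj_of_mem_centralizer x g⁻¹ (hcen x hx)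
      (by rw [inv_inv, hg]; exact hcen y hy)
    rw [inv_inv, hg] at hne
    exact ⟨n⁻¹, inv_mem hn, by rw [inv_inv, hne]⟩
  by_cases hcen : ∀ n ∈ Subgroup.normalizer ((P : Subgroup G) : Set G), ∀ x ∈ P, n * x * n⁻¹ = x
  · right
    refine card_classes_eq_of_reps ![a, b, ab] ?_ ?_ ?_
    · intro i
      fin_cases i <;> simp [hord, ha, hb, hab, hprod.1, hprod.2.1, hprod.2.2]
    · intro i j h
      have key : ∀ x y : G, x ∈ P → y ∈ P → IsConj x y → x = y := fun x y hx hy hxy => by
        obtain ⟨n, hn, he⟩ := hfus x y hx hy hxy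
        rw [hcen n hn x hx] at he
        exact he
      have hm : ∀ i, ![a, b, ab] i ∈ P := by intro i; fin_cases i <;> simp [ha, hb, hab]
      have := key _ _ (hm i) (hm j) h
      fin_cases i <;> fin_cases j <;> first
        | rfl
        | exact absurd this hne1 | exact absurd this.symm hne1
        | exact absurd this hne2 | exact absurd this.symm hne2
        | exact absurd this hne3 | exact absurd this.symm hne3
    · intro t ht
      obtain ⟨x, hx, hx1, hxt⟩ := hall t ht
      rcases hcov x hx with rfl | rfl | rfl | rfl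
      · exact absurd rfl hx1
      · exact ⟨0, hxt⟩
      · exact ⟨1, hxt⟩
      · exact ⟨2, hxt⟩
  · left
    push Not at hcen
    obtain ⟨g, hg, x, hx, hgx⟩ := hcen
    obtain ⟨u, v, huN, hvP, hcop, rfl⟩ := exists_coprime_mul_of_mem_normalizer P hg
    have hvx : v * x * v⁻¹ = x := by rw [hPc v x hvP hx, mul_inv_cancel_right]
    rw [← show u * (v * x * v⁻¹) * u⁻¹ = (u * v) * x * (u * v)⁻¹ by group, hvx] at hgx
    have hN : ∀ z : G, z ∈ P → u * z * u⁻¹ ∈ P := fun z hz =>
      ((Subgroup.mem_set_normalizer_iff.1 huN) z).1 hz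
    set y := u * x * u⁻¹ with hy
    set w := u * y * u⁻¹ with hw
    have hwx : w ≠ x := by
      intro h
      apply hgx
      have h2 : Commute (u ^ 2) x := by
        apply mul_inv_eq_iff_eq_mul.1
        rw [sq, ← h]
        conv_rhs => rw [hw, hy]
        rw [h]
        group
      obtain ⟨m, hm⟩ := (Nat.coprime_two_right.1 hcop : Odd (orderOf u))
      have hu : (u ^ 2) ^ (m + 1) = u := by
        rw [← pow_mul, show 2 * (m + 1) = (2 * m + 1) + 1 by ring, pow_succ, ← hm,
          pow_orderOf_eq_one, one_mul]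
      have h3 : Commute u x := hu ▸ h2.pow_left (m + 1)
      rw [hy, h3.eq, mul_inv_cancel_right]
    have hwy : w ≠ y := fun h => hgx (mul_left_cancel (mul_right_cancel (hw.symm.trans h)))
    have hx1 : x ≠ 1 := by rintro rfl; exact hgx (by simp [hy])
    have hy1 : y ≠ 1 := fun h => hx1 (by
      have h2 : u * x * u⁻¹ = 1 := hy.symm.trans h
      rwa [mul_inv_eq_one, mul_eq_left] at h2)
    have hw1 : w ≠ 1 := fun h => hy1 (by
      have h2 : u * y * u⁻¹ = 1 := hw.symm.trans h
      rwa [mul_inv_eq_one, mul_eq_left] at h2)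
    have hc1 : IsConj x y := isConj_iff.2 ⟨u, rfl⟩
    have hc2 : IsConj x w := hc1.trans (isConj_iff.2 ⟨u, rfl⟩)
    refine card_classes_eq_of_reps ![x] (fun i => by simpa using hord x hx hx1)
      (fun i j _ => Subsingleton.elim i j) fun t ht => ⟨0, ?_⟩
    obtain ⟨z, hz, hz1, hzt⟩ := hall t ht
    refine IsConj.trans ?_ hzt
    show IsConj x z
    have hxy' : x ≠ y := fun h => hgx h.symm
    rcases cover_pair P hP hx (hN x hx) hx1 hy1 hxy' (hN _ (hN x hx)) hw1 with h' | h' | h'
    · exact absurd h' hwx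
    · exact absurd h' hwy
    rcases cover_pair P hP hx (hN x hx) hx1 hy1 hxy' hz hz1 with rfl | rfl | h
    · exact IsConj.refl _
    · exact hc1
    · rw [h, ← h']; exact hc2

end Cfsg.Agent.S0202
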