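import Cfsg.Statements.S0203
import Cfsg.Agent.Lib.Involutions.Fusion
-- Template for statement S0203 (row 203; see /opt/grader/pristine/manifest.json for weights).
-- Copy to Cfsg/Agent/S0203.lean and replace the sorry. The statement below is byte-identical to the frozen
-- statement Cfsg.CfsgFrozen.S0203 (Cfsg/Statements/S0203.lean; the theorem Cfsg.klein_four_sylow_three_classes_iff_normal_two_complement);
-- the grader kernel-checks Cfsg.Agent.S0203.result against that frozen type. Keep the theorem IN THIS FILE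
-- (a `result` declared elsewhere and merely imported here is not credited); helpers may live anywhere
-- under Cfsg/Agent/.
-- import your own Cfsg.Agent.* helpers here

set_option autoImplicit false
open Cfsg

namespace Cfsg.Agent.S0203

open Cfsg.Agent.Lib.Involutions

theorem four_elems {G : Type*} [Group G] (P : Sylow 2 G) (hP : IsKleinFour (P : Subgroup G)) :
    ∃ a b ab : G, a ∈ P ∧ b ∈ P ∧ ab ∈ P ∧ a ≠ b ∧ a ≠ ab ∧ b ≠ ab ∧
      (∀ x : G, x ∈ P → x = 1 ∨ x = a ∨ x = b ∨ x = ab) ∧ (a ≠ 1 ∧ b ≠ 1 ∧ ab ≠ 1) := by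
  classical
  have hfin : Finite (P : Subgroup G) := Nat.finite_of_card_ne_zero (by rw [IsKleinFour.card_four]; norm_num)
  have := Fintype.ofFinite (P : Subgroup G)
  have hnt : Nontrivial (P : Subgroup G) := Finite.one_lt_card_iff_nontrivial.1 (by
    rw [IsKleinFour.card_four]; norm_num)
  obtain ⟨a, ha⟩ := exists_ne (1 : (P : Subgroup G))
  obtain ⟨b, hb⟩ : ∃ b : (P : Subgroup G), b ∉ ({1, a} : Finset _) := by
    by_contra hcon
    push Not at hcon
    have h := Finset.card_le_card (fun x (_ : x ∈ (Finset.univ : Finset (P : Subgroup G))) => hcon x)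
    have h4 : Fintype.card (P : Subgroup G) = 4 := by
      rw [← Nat.card_eq_fintype_card, IsKleinFour.card_four]
    rw [Finset.card_univ, h4] at h
    have h2 := h.trans (Finset.card_insert_le _ _)
    simp at h2
  simp only [Finset.mem_insert, Finset.mem_singleton, not_or] at hb
  have hu := IsKleinFour.eq_finset_univ ha hb.1 (Ne.symm hb.2)
  refine ⟨a, b, (a * b : (P : Subgroup G)), a.2, b.2, (a * b).2,
    fun h => hb.2 (Subtype.ext h).symm, fun h => hb.1 ?_, fun h => ha ?_, ?_, ?_⟩
  · exact mul_eq_left.1 (Subtype.ext h).symm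
  · exact mul_eq_right.1 (Subtype.ext h).symm
  · intro x hx
    have h := Finset.eq_univ_iff_forall.1 hu ⟨x, hx⟩
    simp only [Finset.mem_insert, Finset.mem_singleton] at h
    rcases h with h | h | h | h <;> replace h : x = _ := congrArg Subtype.val h
    · exact Or.inr (Or.inr (Or.inr h))
    · exact Or.inr (Or.inl h)
    · exact Or.inr (Or.inr (Or.inl h))
    · exact Or.inl h
  · refine ⟨fun h => ha (Subtype.ext h), fun h => hb.1 (Subtype.ext h), fun h => hb.2 ?_⟩
    have h2 : a * b = 1 := Subtype.ext h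
    rw [mul_eq_one_iff_inv_eq, IsKleinFour.inv_eq_self] at h2
    exact h2.symm

theorem cover_pair {G : Type*} [Group G] (P : Sylow 2 G) (hP : IsKleinFour (P : Subgroup G))
    {x y z : G} (hx : x ∈ P) (hy : y ∈ P) (hx1 : x ≠ 1) (hy1 : y ≠ 1) (hxy : x ≠ y) (hz : z ∈ P)
    (hz1 : z ≠ 1) : z = x ∨ z = y ∨ z = x * y := by
  classical
  have hfin : Finite (P : Subgroup G) :=
    Nat.finite_of_card_ne_zero (by rw [IsKleinFour.card_four]; norm_num)
  have := Fintype.ofFinite (P : Subgroup G)
  have hu := IsKleinFour.eq_finset_univ (x := (⟨x, hx⟩ : (P : Subgroup G))) (y := ⟨y, hy⟩)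
    (fun h => hx1 (congrArg Subtype.val h)) (fun h => hy1 (congrArg Subtype.val h))
    (fun h => hxy (congrArg Subtype.val h))
  have h := Finset.eq_univ_iff_forall.1 hu ⟨z, hz⟩
  simp only [Finset.mem_insert, Finset.mem_singleton] at h
  rcases h with h | h | h | h <;> replace h : z = _ := congrArg Subtype.val h
  · exact Or.inr (Or.inr h)
  · exact Or.inl h
  · exact Or.inr (Or.inl h)
  · exact absurd h hz1

/-- If a Sylow 2-subgroup P of a finite group G is a Klein four-group, then G has three classes of involutions if and only if P has a normal complement in G. -/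
theorem result {G : Type*} [Group G] [Finite G] (P : Sylow 2 G) (hP : IsKleinFour (P : Subgroup G)) : Nat.card {C : ConjClasses G // ∃ t : G, orderOf t = 2 ∧ ConjClasses.mk t = C} = 3 ↔ ∃ N : Subgroup G, N.Normal ∧ Subgroup.IsComplement' N (P : Subgroup G) := by
  have : Fact (Nat.Prime 2) := ⟨Nat.prime_two⟩
  classical
  obtain ⟨a, b, ab, ha, hb, hab, hne1, hne2, hne3, hcov, hprod⟩ := four_elems P hP
  have hord : ∀ x : G, x ∈ P → x ≠ 1 → orderOf x = 2 := fun x hx hx1 => by
    refine orderOf_eq_two_of_mul_self ?_ hx1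
    exact congrArg Subtype.val (IsKleinFour.mul_self (⟨x, hx⟩ : (P : Subgroup G)))
  have hall : ∀ t : G, orderOf t = 2 → ∃ x ∈ P, x ≠ 1 ∧ IsConj x t := by
    intro t ht
    have hz : IsPGroup 2 (Subgroup.zpowers t) :=
      IsPGroup.iff_card.2 ⟨1, by rw [Nat.card_zpowers, ht, pow_one]⟩
    obtain ⟨R, hR⟩ := hz.exists_le_sylow
    obtain ⟨c, hc⟩ := MulAction.exists_smul_eq G R P
    refine ⟨c * t * c⁻¹, ?_, fun h => invol_ne_one (by rw [orderOf_conj_eq, ht]) h,
      (isConj_iff.2 ⟨c, rfl⟩ : IsConj t (c * t * c⁻¹)).symm⟩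
    have hmem : c * t * c⁻¹ ∈ ((c • R : Sylow 2 G) : Subgroup G) :=
      ⟨t, hR (Subgroup.mem_zpowers t), rfl⟩
    rwa [hc] at hmem
  have hPc : ∀ x y : G, x ∈ P → y ∈ P → x * y = y * x := fun x y hx hy =>
    congrArg Subtype.val (mul_comm_of_exponent_two IsKleinFour.exponent_two (⟨x, hx⟩ : (P : Subgroup G)) ⟨y, hy⟩)
  -- fusion is controlled by the normalizer
  have hfus : ∀ x y : G, x ∈ P → y ∈ P → IsConj x y →
      ∃ n : G, n ∈ Subgroup.normalizer ((P : Subgroup G) : Set G) ∧ n * x * n⁻¹ = y := by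
    intro x y hx hy hxy
    obtain ⟨g, hg⟩ := isConj_iff.1 hxy
    have hcen : ∀ z : G, z ∈ P → z ∈ Subgroup.centralizer ((P : Subgroup G) : Set G) :=
      fun z hz => Subgroup.mem_centralizer_iff.2 fun w hw => hPc w z hw hz
    obtain ⟨n, hn, hne⟩ := P.conj_eq_normalizer_conj_of_mem_centralizer x g⁻¹ (hcen x hx)
      (by rw [inv_inv, hg]; exact hcen y hy)
    rw [inv_inv, hg] at hne
    exact ⟨n⁻¹, inv_mem hn, by rw [inv_inv, hne]⟩
  constructor
  · intro h3
    refine ⟨_, inferInstance, MonoidHom.ker_transferSylow_isComplement' P ?_⟩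
    intro n hn
    rw [Subgroup.mem_centralizer_iff]
    by_contra hcon
    push Not at hcon
    obtain ⟨x, hx, hnx⟩ := hcon
    have hx1 : x ≠ 1 := by rintro rfl; simp at hnx
    set y := n * x * n⁻¹ with hy
    have hyP : y ∈ P := ((Subgroup.mem_set_normalizer_iff.1 hn) x).1 hx
    have hxy : x ≠ y := fun h => hnx (by
      rw [eq_comm, ← mul_inv_eq_iff_eq_mul]; exact h.symm)
    have hy1 : y ≠ 1 := fun h => hx1 (by
      have h2 : n * x * n⁻¹ = 1 := hy.symm.trans h
      rwa [mul_inv_eq_one, mul_eq_left] at h2)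
    have hc : IsConj x y := isConj_iff.2 ⟨n, rfl⟩
    -- two of the three classes coincide
    have hcard : Nat.card {C : ConjClasses G // ∃ t : G, orderOf t = 2 ∧ ConjClasses.mk t = C} ≤ 2 := by
      obtain ⟨z, hz, hcovz⟩ : ∃ z : G, orderOf z = 2 ∧ ∀ w : G, w ∈ P → w ≠ 1 → w = x ∨ w = y ∨ w = z := by
        refine ⟨x * y, hord _ (mul_mem hx hyP) fun h => hxy ?_,
          fun w hw hw1 => cover_pair P hP hx hyP hx1 hy1 hxy hw hw1⟩
        rw [eq_inv_of_mul_eq_one_left h, invol_inv (hord y hyP hy1)]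
      let F : Bool → {C : ConjClasses G // ∃ t : G, orderOf t = 2 ∧ ConjClasses.mk t = C} := fun i =>
        if i then ⟨ConjClasses.mk x, x, hord x hx hx1, rfl⟩ else ⟨ConjClasses.mk z, z, hz, rfl⟩
      have hF : Function.Surjective F := by
        rintro ⟨C, t, ht, rfl⟩
        obtain ⟨w, hw, hw1, hwt⟩ := hall t ht
        rcases hcovz w hw hw1 with rfl | rfl | rfl
        · exact ⟨true, Subtype.ext (ConjClasses.mk_eq_mk_iff_isConj.2 hwt)⟩
        · exact ⟨true, Subtype.ext (ConjClasses.mk_eq_mk_iff_isConj.2 (hc.trans hwt))⟩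
        · exact ⟨false, Subtype.ext (ConjClasses.mk_eq_mk_iff_isConj.2 hwt)⟩
      simpa using Nat.card_le_card_of_surjective F hF
    omega
  · rintro ⟨N, hN, hc⟩
    have key : ∀ x y : G, x ∈ P → y ∈ P → IsConj x y → x = y := by
      intro x y hx hy hxy
      obtain ⟨g, rfl⟩ := isConj_iff.1 hxy
      obtain ⟨⟨m, s⟩, hms⟩ := hc.2 g
      simp only at hms
      have h1 : (m : G) * x * (m : G)⁻¹ * x⁻¹ ∈ N := by
        rw [mul_assoc (m : G) x, mul_assoc (m : G)]
        exact mul_mem m.2 (hN.conj_mem _ (inv_mem m.2) x)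
      have h2 : g * x * g⁻¹ = (m : G) * x * (m : G)⁻¹ := by
        rw [← hms, mul_inv_rev, mul_assoc (m : G), hPc _ _ s.2 hx]
        group
      rw [← h2] at h1
      have h3 : g * x * g⁻¹ * x⁻¹ ∈ N ⊓ (P : Subgroup G) :=
        Subgroup.mem_inf.2 ⟨h1, mul_mem hy (inv_mem hx)⟩
      rw [disjoint_iff.1 hc.disjoint, Subgroup.mem_bot, mul_inv_eq_one] at h3
      exact h3.symm
    refine card_classes_eq_of_reps ![a, b, ab] ?_ ?_ ?_
    · intro i
      fin_cases i <;> simp [hord, ha, hb, hab, hprod.1, hprod.2.1, hprod.2.2]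
    · intro i j h
      have hm : ∀ i, ![a, b, ab] i ∈ P := by intro i; fin_cases i <;> simp [ha, hb, hab]
      have := key _ _ (hm i) (hm j) h
      fin_cases i <;> fin_cases j <;> first
        | rfl
        | exact absurd this hne1 | exact absurd this.symm hne1
        | exact absurd this hne2 | exact absurd this.symm hne2
        | exact absurd this hne3 | exact absurd this.symm hne3
    · intro t ht
      obtain ⟨x, hx, hx1, hxt⟩ := hall t ht
      rcases hcov x hx with rfl | rfl | rfl | rfl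
      · exact absurd rfl hx1
      · exact ⟨0, hxt⟩
      · exact ⟨1, hxt⟩
      · exact ⟨2, hxt⟩

end Cfsg.Agent.S0203
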