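import Cfsg.Statements.S0206
import Cfsg.Agent.Lib.Involutions.Basic
-- Template for statement S0206 (row 206; see /opt/grader/pristine/manifest.json for weights).
-- Copy to Cfsg/Agent/S0206.lean and replace the sorry. The statement below is byte-identical to the frozen
-- statement Cfsg.CfsgFrozen.S0206 (Cfsg/Statements/S0206.lean; the theorem Cfsg.two_involutions_generate_dihedral);
-- the grader kernel-checks Cfsg.Agent.S0206.result against that frozen type. Keep the theorem IN THIS FILE
-- (a `result` declared elsewhere and merely imported here is not credited); helpers may live anywhere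
-- under Cfsg/Agent/.
-- import your own Cfsg.Agent.* helpers here

set_option autoImplicit false
open Cfsg

namespace Cfsg.Agent.S0206

open Cfsg.Agent.Lib.Involutions

/-- Two distinct involutions x, y of a finite group generate a subgroup isomorphic to the dihedral group of order 2·|xy|. -/
theorem result {G : Type*} [Group G] [Finite G] (x y : G) (hx : orderOf x = 2) (hy : orderOf y = 2) (hxy : x ≠ y) : Nonempty (↥(Subgroup.closure ({x, y} : Set G)) ≃* DihedralGroup (orderOf (x * y))) := by
  classical
  set a := x * y with ha
  set n := orderOf a with hn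
  have : NeZero n := ⟨(orderOf_pos a).ne'⟩
  let e : ZMod n → G := fun i => a ^ i.val
  have e_add : ∀ i j, e (i + j) = e i * e j := fun i j => by
    simp only [e]
    rw [← pow_add, ZMod.val_add, ← pow_mod_orderOf a (i.val + j.val)]
  have e_zero : e 0 = 1 := by simp [e]
  have e_neg : ∀ i, e (-i) = (e i)⁻¹ := fun i => by
    rw [eq_inv_iff_mul_eq_one, ← e_add, neg_add_cancel, e_zero]
  have e_sub : ∀ i j, e (i - j) = e i * (e j)⁻¹ := fun i j => by
    rw [sub_eq_add_neg, e_add, e_neg]
  have comm : ∀ i, e i * x = x * (e i)⁻¹ := fun i => by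
    have h := inverts_pow (conj_mul_left_invol hx hy) i.val
    rw [mul_inv_eq_iff_eq_mul] at h
    calc e i * x = x * (x * e i) * x := by rw [← mul_assoc x x, invol_mul_self hx, one_mul]
      _ = x * ((e i)⁻¹ * x) * x := by rw [show x * e i = (e i)⁻¹ * x from h]
      _ = x * (e i)⁻¹ := by rw [mul_assoc, mul_assoc (e i)⁻¹, invol_mul_self hx, mul_one]
  let f : DihedralGroup n → G := fun d => match d with
    | .r i => e i
    | .sr i => x * e i
  have hfmul : ∀ u v, f (u * v) = f u * f v := by
    rintro (i | i) (j | j)
    · simp [f, e_add]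
    · simp only [DihedralGroup.r_mul_sr, f]
      rw [sub_eq_neg_add, e_add, e_neg, ← mul_assoc, ← comm, mul_assoc]
    · simp only [DihedralGroup.sr_mul_r, f]
      rw [e_add, mul_assoc]
    · simp only [DihedralGroup.sr_mul_sr, f]
      rw [sub_eq_neg_add, e_add, e_neg, ← mul_assoc (x * e i), mul_assoc x (e i) x, comm,
        ← mul_assoc x x, invol_mul_self hx, one_mul]
  let F : DihedralGroup n →* G := MonoidHom.mk' f hfmul
  have hnx : ∀ i : ZMod n, x ≠ e i := fun i hi => by
    have hc : x * a = a * x := by
      rw [hi]
      exact ((Commute.refl a).pow_left i.val).eq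
    have h2 := conj_mul_left_invol hx hy
    rw [← ha, hc, mul_inv_cancel_right] at h2
    have h3 : a ^ 2 = 1 := by rw [sq]; exact mul_eq_one_iff_eq_inv.2 h2
    have hi' : x = a ^ (i.val % 2) := by
      rw [hi]
      show a ^ i.val = _
      conv_lhs => rw [← Nat.div_add_mod i.val 2]
      rw [pow_add, pow_mul, h3, one_pow, one_mul]
    rcases Nat.mod_two_eq_zero_or_one i.val with hp | hp <;> rw [hp] at hi'
    · rw [pow_zero] at hi'
      exact invol_ne_one hx hi'
    · rw [pow_one, ha] at hi'
      exact invol_ne_one hy (mul_eq_left.1 hi'.symm)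
  have hinj : Function.Injective F := by
    rw [injective_iff_map_eq_one]
    rintro (i | i) h
    · have h' : a ^ i.val = 1 := h
      rw [← orderOf_dvd_iff_pow_eq_one] at h'
      have := Nat.eq_zero_of_dvd_of_lt h' (ZMod.val_lt i)
      rw [ZMod.val_eq_zero] at this
      rw [this, DihedralGroup.r_zero]
    · exact absurd (eq_inv_of_mul_eq_one_left h) (by rw [← e_neg]; exact hnx _)
  have hrange : F.range = Subgroup.closure ({x, y} : Set G) := by
    apply le_antisymm
    · have hxm : x ∈ Subgroup.closure ({x, y} : Set G) := Subgroup.subset_closure (Or.inl rfl)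
      have hym : y ∈ Subgroup.closure ({x, y} : Set G) := Subgroup.subset_closure (Or.inr rfl)
      rintro _ ⟨i | i, rfl⟩
      · exact pow_mem (mul_mem hxm hym) _
      · exact mul_mem hxm (pow_mem (mul_mem hxm hym) _)
    · rw [Subgroup.closure_le]
      rintro z (rfl | hz)
      · exact ⟨.sr 0, by show z * e 0 = z; rw [e_zero, mul_one]⟩
      · rw [Set.mem_singleton_iff] at hz
        subst hz
        refine ⟨.sr 1, ?_⟩
        show x * e 1 = z
        have h1 : e 1 = a := by
          show a ^ (1 : ZMod n).val = a
          rw [ZMod.val_one_eq_one_mod, hn, pow_mod_orderOf, pow_one]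
        rw [h1, ha, ← mul_assoc, invol_mul_self hx, one_mul]
  exact ⟨((MonoidHom.ofInjective hinj).trans (MulEquiv.subgroupCongr hrange)).symm⟩

end Cfsg.Agent.S0206
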