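import Cfsg.Statements.S0207
import Cfsg.Agent.Lib.Involutions.Basic
-- Template for statement S0207 (row 207; see /opt/grader/pristine/manifest.json for weights).
-- Copy to Cfsg/Agent/S0207.lean and replace the sorry. The statement below is byte-identical to the frozen
-- statement Cfsg.CfsgFrozen.S0207 (Cfsg/Statements/S0207.lean; the theorem Cfsg.involution_pair_noncyclic_part_consists_of_involutions);
-- the grader kernel-checks Cfsg.Agent.S0207.result against that frozen type. Keep the theorem IN THIS FILE
-- (a `result` declared elsewhere and merely imported here is not credited); helpers may live anywhere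
-- under Cfsg/Agent/.
-- import your own Cfsg.Agent.* helpers here

set_option autoImplicit false
open Cfsg

namespace Cfsg.Agent.S0207

open Cfsg.Agent.Lib.Involutions

/-- If x, y are distinct involutions, every element of the subgroup they generate that lies outside the cyclic subgroup generated by xy is an involution. -/
theorem result {G : Type*} [Group G] [Finite G] (x y : G) (hx : orderOf x = 2) (hy : orderOf y = 2) (hxy : x ≠ y) (d : G) (hd : d ∈ Subgroup.closure ({x, y} : Set G)) (hd' : d ∉ Subgroup.zpowers (x * y)) : orderOf d = 2 := by
  obtain ⟨k, rfl | rfl⟩ := (mem_closure_pair_invol hx hy d).1 hd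
  · exact absurd (Subgroup.zpow_mem_zpowers _ k) hd'
  · refine orderOf_eq_two_of_mul_self (zpow_mul_invol_sq hx hy k) fun h => hd' ?_
    rw [h]
    exact one_mem _

end Cfsg.Agent.S0207
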