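import Cfsg.Statements.S0208
import Cfsg.Agent.Lib.Involutions.Basic
-- Template for statement S0208 (row 208; see /opt/grader/pristine/manifest.json for weights).
-- Copy to Cfsg/Agent/S0208.lean and replace the sorry. The statement below is byte-identical to the frozen
-- statement Cfsg.CfsgFrozen.S0208 (Cfsg/Statements/S0208.lean; the theorem Cfsg.involutions_with_odd_order_product_conjugate);
-- the grader kernel-checks Cfsg.Agent.S0208.result against that frozen type. Keep the theorem IN THIS FILE
-- (a `result` declared elsewhere and merely imported here is not credited); helpers may live anywhere
-- under Cfsg/Agent/.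
-- import your own Cfsg.Agent.* helpers here

set_option autoImplicit false
open Cfsg

namespace Cfsg.Agent.S0208

open Cfsg.Agent.Lib.Involutions

/-- If x, y are involutions and xy has odd order, then some element of the subgroup generated by x and y conjugates x to y. -/
theorem result {G : Type*} [Group G] [Finite G] (x y : G) (hx : orderOf x = 2) (hy : orderOf y = 2) (hodd : Odd (orderOf (x * y))) : ∃ d ∈ Subgroup.closure ({x, y} : Set G), d * x * d⁻¹ = y := by
  exact exists_conj_of_odd hx hy hodd

end Cfsg.Agent.S0208
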