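import Cfsg.Statements.S0209
import Cfsg.Agent.Lib.Involutions.Basic
-- Template for statement S0209 (row 209; see /opt/grader/pristine/manifest.json for weights).
-- Copy to Cfsg/Agent/S0209.lean and replace the sorry. The statement below is byte-identical to the frozen
-- statement Cfsg.CfsgFrozen.S0209 (Cfsg/Statements/S0209.lean; the theorem Cfsg.involutions_with_even_order_product_central_involution);
-- the grader kernel-checks Cfsg.Agent.S0209.result against that frozen type. Keep the theorem IN THIS FILE
-- (a `result` declared elsewhere and merely imported here is not credited); helpers may live anywhere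
-- under Cfsg/Agent/.
-- import your own Cfsg.Agent.* helpers here

set_option autoImplicit false
open Cfsg

namespace Cfsg.Agent.S0209

open Cfsg.Agent.Lib.Involutions

/-- If x, y are involutions whose product has even order n, the element (xy)^(n/2) is an involution that commutes with x and with y. -/
theorem result {G : Type*} [Group G] [Finite G] (x y : G) (hx : orderOf x = 2) (hy : orderOf y = 2) (heven : Even (orderOf (x * y))) : orderOf ((x * y) ^ (orderOf (x * y) / 2)) = 2 ∧ Commute ((x * y) ^ (orderOf (x * y) / 2)) x ∧ Commute ((x * y) ^ (orderOf (x * y) / 2)) y := by
  exact central_invol hx hy heven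

end Cfsg.Agent.S0209
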