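import Cfsg.Statements.S0210
import Cfsg.Agent.Lib.Involutions.Basic
-- Template for statement S0210 (row 210; see /opt/grader/pristine/manifest.json for weights).
-- Copy to Cfsg/Agent/S0210.lean and replace the sorry. The statement below is byte-identical to the frozen
-- statement Cfsg.CfsgFrozen.S0210 (Cfsg/Statements/S0210.lean; the theorem Cfsg.involutions_with_even_order_product_not_conjugate_in_dihedral);
-- the grader kernel-checks Cfsg.Agent.S0210.result against that frozen type. Keep the theorem IN THIS FILE
-- (a `result` declared elsewhere and merely imported here is not credited); helpers may live anywhere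
-- under Cfsg/Agent/.
-- import your own Cfsg.Agent.* helpers here

set_option autoImplicit false
open Cfsg

namespace Cfsg.Agent.S0210

open Cfsg.Agent.Lib.Involutions

/-- If x, y are involutions whose product has even order, no element of the subgroup generated by x and y conjugates x to y. -/
theorem result {G : Type*} [Group G] [Finite G] (x y : G) (hx : orderOf x = 2) (hy : orderOf y = 2) (heven : Even (orderOf (x * y))) (d : G) (hd : d ∈ Subgroup.closure ({x, y} : Set G)) : d * x * d⁻¹ ≠ y := by
  exact not_conj_in_closure_of_even hx hy heven hd

end Cfsg.Agent.S0210
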