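import Cfsg.Statements.S0211
import Cfsg.Agent.Lib.Involutions.Basic
-- Template for statement S0211 (row 211; see /opt/grader/pristine/manifest.json for weights).
-- Copy to Cfsg/Agent/S0211.lean and replace the sorry. The statement below is byte-identical to the frozen
-- statement Cfsg.CfsgFrozen.S0211 (Cfsg/Statements/S0211.lean; the theorem Cfsg.involution_times_central_involution_conjugate_iff_four_dvd);
-- the grader kernel-checks Cfsg.Agent.S0211.result against that frozen type. Keep the theorem IN THIS FILE
-- (a `result` declared elsewhere and merely imported here is not credited); helpers may live anywhere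
-- under Cfsg/Agent/.
-- import your own Cfsg.Agent.* helpers here

set_option autoImplicit false
open Cfsg

namespace Cfsg.Agent.S0211

open Cfsg.Agent.Lib.Involutions

/-- Let x, y be involutions with xy of even order n and z = (xy)^(n/2). Then xz is conjugate to x by an element of the subgroup generated by x, y if and only if 4 divides n. -/
theorem result {G : Type*} [Group G] [Finite G] (x y : G) (hx : orderOf x = 2) (hy : orderOf y = 2) (heven : Even (orderOf (x * y))) : (∃ d ∈ Subgroup.closure ({x, y} : Set G), d * x * d⁻¹ = x * (x * y) ^ (orderOf (x * y) / 2)) ↔ 4 ∣ orderOf (x * y) := by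
  set a := x * y with ha
  obtain ⟨m, hm⟩ := heven
  have hm2 : orderOf a / 2 = m := by omega
  rw [hm2]
  have hxz : x * a ^ m = a ^ (-(m : ℤ)) * x := by
    rw [← zpow_natCast, ha, invol_mul_zpow hx hy]
  have h0 : a ^ (-(m : ℤ)) = a ^ (m : ℤ) := by
    rw [zpow_eq_zpow_iff_modEq, hm, Int.modEq_iff_dvd]
    exact ⟨1, by push_cast; ring⟩
  constructor
  · rintro ⟨d, hd, he⟩
    obtain ⟨k, hk⟩ := conj_invol_of_mem_closure hx hy hd
    rw [he, hxz, h0] at hk
    have h := mul_right_cancel hk
    rw [← ha, zpow_eq_zpow_iff_modEq, hm, Int.modEq_iff_dvd] at h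
    rw [hm]
    obtain ⟨c, hc⟩ := h
    have h2 : (2 : ℤ) ∣ m := ⟨k - c * m, by push_cast at hc; linarith⟩
    obtain ⟨m', hm'⟩ : 2 ∣ m := by exact_mod_cast h2
    exact ⟨m', by omega⟩
  · rintro ⟨c, hc⟩
    refine ⟨a ^ (c : ℤ), zpow_mem_closure_pair _, ?_⟩
    rw [hxz, h0, ← zpow_neg, mul_assoc, ha, invol_mul_zpow hx hy, neg_neg, ← mul_assoc, ← zpow_add,
      show ((c : ℤ) + c) = (m : ℤ) by omega]

end Cfsg.Agent.S0211
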