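import Cfsg.Statements.S0212
import Cfsg.Agent.Lib.Involutions.BrauerFowler
-- Template for statement S0212 (row 212; see /opt/grader/pristine/manifest.json for weights).
-- Copy to Cfsg/Agent/S0212.lean and replace the sorry. The statement below is byte-identical to the frozen
-- statement Cfsg.CfsgFrozen.S0212 (Cfsg/Statements/S0212.lean; the theorem Cfsg.brauer_fowler_order_bound);
-- the grader kernel-checks Cfsg.Agent.S0212.result against that frozen type. Keep the theorem IN THIS FILE
-- (a `result` declared elsewhere and merely imported here is not credited); helpers may live anywhere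
-- under Cfsg/Agent/.
-- import your own Cfsg.Agent.* helpers here

set_option autoImplicit false
open Cfsg

namespace Cfsg.Agent.S0212

open Cfsg.Agent.Lib.Involutions

/-- The Brauer–Fowler bound: if G is a finite simple group and t an involution of G whose centralizer has order n, then |G| ≤ (2n^2)!. -/
theorem result {G : Type*} [Group G] [Finite G] [IsSimpleGroup G] (t : G) (ht : orderOf t = 2) : Nat.card G ≤ Nat.factorial (2 * (Nat.card (Subgroup.centralizer ({t} : Set G))) ^ 2) := by
  classical
  set c := Nat.card (Subgroup.centralizer ({t} : Set G)) with hc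
  have hc2 : 2 ≤ c := by
    have hmem : t ∈ Subgroup.centralizer ({t} : Set G) :=
      Subgroup.mem_centralizer_singleton_iff.2 rfl
    have h2 : 2 ∣ c := by
      rw [← ht, ← Subgroup.orderOf_mk t hmem]
      exact orderOf_dvd_natCard _
    exact Nat.le_of_dvd Nat.card_pos h2
  have hsmall : Nat.card G ≤ 2 * c ^ 2 → Nat.card G ≤ Nat.factorial (2 * c ^ 2) :=
    fun h => h.trans (Nat.self_le_factorial _)
  by_cases htz : t ∈ Subgroup.center G
  · apply hsmall
    have : c = Nat.card G := by
      rw [hc, Subgroup.centralizer_eq_top_iff_subset.2 (by simpa using htz), Subgroup.card_top]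
    nlinarith
  have hZbot : Subgroup.center G = ⊥ :=
    (Subgroup.Normal.eq_bot_or_eq_top (H := Subgroup.center G) inferInstance).resolve_right
      fun h => htz (h ▸ Subgroup.mem_top t)
  have hZ : Odd (Nat.card (Subgroup.center G)) := by rw [hZbot, Subgroup.card_bot]; exact odd_one
  have heven : Even (Nat.card G) := even_iff_two_dvd.2 (ht ▸ orderOf_dvd_natCard t)
  have hno : ∀ K : Subgroup G, K.index ≠ 2 := by
    intro K hK
    have hn : K.Normal := Subgroup.normal_of_index_eq_two hK
    rcases hn.eq_bot_or_eq_top with rfl | rfl
    · rw [Subgroup.index_bot] at hK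
      apply htz
      have : Fact (Nat.Prime 2) := ⟨Nat.prime_two⟩
      have hcyc : IsCyclic G := isCyclic_of_prime_card hK
      letI := hcyc.commGroup
      exact Subgroup.mem_center_iff.2 fun g => mul_comm g t
    · simp at hK
  obtain ⟨H, hH, -, hBF⟩ := brauer_fowler heven hZ hno
  set n := Nat.card {u : G // orderOf u = 2} with hn
  have hnc : Nat.card G ≤ n * c := card_le_invol_mul_centralizer ht
  have hd : H.index ≤ 2 * c ^ 2 := by
    have h2 : Nat.card G * (Nat.card G + n) ≤ (n * c) * (n * c + n) :=
      Nat.mul_le_mul hnc (by omega)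
    have h3 : 2 * H.index * n ^ 2 < c * (c + 1) * n ^ 2 := by
      calc _ < _ := hBF
        _ ≤ _ := h2
        _ = _ := by ring
    have h4 := Nat.lt_of_mul_lt_mul_right h3
    nlinarith
  have hinj : Function.Injective (MulAction.toPermHom G (G ⧸ H)) := by
    rw [← MonoidHom.ker_eq_bot_iff, ← Subgroup.normalCore_eq_ker]
    exact (Subgroup.Normal.eq_bot_or_eq_top (Subgroup.normalCore_normal H)).resolve_right
      fun e => hH (top_le_iff.1 (e ▸ Subgroup.normalCore_le H))
  calc Nat.card G ≤ Nat.card (Equiv.Perm (G ⧸ H)) := Nat.card_le_card_of_injective _ hinj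
    _ = Nat.factorial H.index := by rw [Nat.card_perm, Subgroup.index_eq_card]
    _ ≤ _ := Nat.factorial_le hd

end Cfsg.Agent.S0212
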