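import Cfsg.Statements.S0213
import Cfsg.Agent.Lib.Involutions.BrauerFowler
-- Template for statement S0213 (row 213; see /opt/grader/pristine/manifest.json for weights).
-- Copy to Cfsg/Agent/S0213.lean and replace the sorry. The statement below is byte-identical to the frozen
-- statement Cfsg.CfsgFrozen.S0213 (Cfsg/Statements/S0213.lean; the theorem Cfsg.thompson_order_formula_two_classes);
-- the grader kernel-checks Cfsg.Agent.S0213.result against that frozen type. Keep the theorem IN THIS FILE
-- (a `result` declared elsewhere and merely imported here is not credited); helpers may live anywhere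
-- under Cfsg/Agent/.
-- import your own Cfsg.Agent.* helpers here

set_option autoImplicit false
open Cfsg

namespace Cfsg.Agent.S0213

open Cfsg.Agent.Lib.Involutions

/-- Thompson Order Formula, two-class case: if every involution of the finite group G is conjugate to exactly one of the non-conjugate involutions x₁, x₂, and nᵢ is the number of pairs (u, v) with u conjugate to x₁, v conjugate to x₂ and xᵢ in the cyclic group generated by uv, then |G| = |C(x₂)| n₁ + |C(x₁)| n₂. -/
theorem result {G : Type*} [Group G] [Finite G] (x₁ x₂ : G) (h₁ : orderOf x₁ = 2) (h₂ : orderOf x₂ = 2) (hnc : ¬ IsConj x₁ x₂) (hall : ∀ t : G, orderOf t = 2 → IsConj x₁ t ∨ IsConj x₂ t) : Nat.card G = Nat.card (Subgroup.centralizer ({x₂} : Set G)) * Nat.card {p : G × G // IsConj x₁ p.1 ∧ IsConj x₂ p.2 ∧ x₁ ∈ Subgroup.zpowers (p.1 * p.2)} + Nat.card (Subgroup.centralizer ({x₁} : Set G)) * Nat.card {p : G × G // IsConj x₁ p.1 ∧ IsConj x₂ p.2 ∧ x₂ ∈ Subgroup.zpowers (p.1 * p.2)} := by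
  classical
  have := Fintype.ofFinite G
  have horder : ∀ {u : G}, IsConj x₁ u → orderOf u = 2 := fun {u} h => (isConj_orderOf h).trans h₁
  have horder' : ∀ {u : G}, IsConj x₂ u → orderOf u = 2 := fun {u} h => (isConj_orderOf h).trans h₂
  set N : G → ℕ := fun z => Nat.card {p : G × G // IsConj x₁ p.1 ∧ IsConj x₂ p.2 ∧
    z ∈ Subgroup.zpowers (p.1 * p.2)} with hN
  have hinv : ∀ z z', IsConj z z' → N z' = N z := by
    intro z z' h
    obtain ⟨g, rfl⟩ := isConj_iff.1 h
    refine Nat.card_congr (Equiv.subtypeEquiv (Equiv.prodCongr (MulAut.conj g).toEquiv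
      (MulAut.conj g).toEquiv) fun p => ?_).symm
    have hc : ∀ x u : G, IsConj x (g * u * g⁻¹) ↔ IsConj x u := fun x u =>
      ⟨fun h => h.trans (isConj_iff.2 ⟨g⁻¹, by group⟩), fun h => h.trans (isConj_iff.2 ⟨g, rfl⟩)⟩
    simp only [Equiv.prodCongr_apply, Prod.map, MulEquiv.toEquiv_eq_coe, MulEquiv.coe_toEquiv,
      MulAut.conj_apply, hc]
    refine and_congr Iff.rfl (and_congr Iff.rfl ?_)
    rw [show g * p.1 * g⁻¹ * (g * p.2 * g⁻¹) = (MulAut.conj g) (p.1 * p.2) by
      simp [mul_assoc], show g * z * g⁻¹ = (MulAut.conj g) z from (MulAut.conj_apply g z).symm,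
      Subgroup.mem_zpowers_iff, Subgroup.mem_zpowers_iff]
    constructor
    · rintro ⟨k, hk⟩; exact ⟨k, by rw [← map_zpow, hk]⟩
    · rintro ⟨k, hk⟩; exact ⟨k, (MulAut.conj g).injective (by rw [map_zpow, hk])⟩
  -- the unique involution in the cyclic group generated by `u v`
  have hpair : ∀ p : G × G, IsConj x₁ p.1 ∧ IsConj x₂ p.2 →
      ∃! z : G, orderOf z = 2 ∧ z ∈ Subgroup.zpowers (p.1 * p.2) := by
    rintro p ⟨h1, h2⟩
    have heven : Even (orderOf (p.1 * p.2)) := Nat.not_odd_iff_even.1 fun ho =>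
      hnc (h1.trans ((isConj_of_odd (horder h1) (horder' h2) ho).trans h2.symm))
    refine ⟨(p.1 * p.2) ^ (orderOf (p.1 * p.2) / 2),
      ⟨(central_invol (horder h1) (horder' h2) heven).1, pow_mem (Subgroup.mem_zpowers _) _⟩, ?_⟩
    rintro z ⟨hz, hzmem⟩
    obtain ⟨k, rfl⟩ := (isOfFinOrder_of_finite _).mem_powers_iff_mem_zpowers.2 hzmem
    set a := p.1 * p.2 with ha
    have hkk : orderOf a ∣ k + k := by
      rw [orderOf_dvd_iff_pow_eq_one, pow_add]
      exact invol_mul_self hz
    have hk1 : ¬ orderOf a ∣ k := fun h => invol_ne_one hz (orderOf_dvd_iff_pow_eq_one.1 h)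
    obtain ⟨m, hm⟩ := heven
    obtain ⟨j, hj⟩ := hkk
    show a ^ k = a ^ (orderOf a / 2)
    rw [pow_eq_pow_iff_modEq]
    have hj' : k = m * j := by rw [hm] at hj; nlinarith
    have hodd : Odd j := Nat.not_even_iff_odd.1 fun ⟨i, hi⟩ => hk1 ⟨i, by rw [hj', hm, hi]; ring⟩
    obtain ⟨i, rfl⟩ := hodd
    rw [show orderOf a / 2 = m by omega, hj', hm]
    show m * (2 * i + 1) % (m + m) = m % (m + m)
    rw [show m * (2 * i + 1) = m + (m + m) * i by ring, Nat.add_mul_mod_self_left]
  let P : Finset (G × G) := Finset.univ.filter fun p => IsConj x₁ p.1 ∧ IsConj x₂ p.2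
  let I : Finset G := Finset.univ.filter fun z => orderOf z = 2
  have hP : P.card = Nat.card {y : G // IsConj x₁ y} * Nat.card {y : G // IsConj x₂ y} := by
    rw [← Nat.card_prod, ← Fintype.card_subtype, ← Nat.card_eq_fintype_card]
    exact Nat.card_congr Equiv.subtypeProdEquivProd
  have hI : ∀ z ∈ I, (P.filter fun p => z ∈ Subgroup.zpowers (p.1 * p.2)).card = N z := by
    intro z hz
    simp only [P, hN, Finset.filter_filter, Nat.card_eq_fintype_card, Fintype.card_subtype,
      and_assoc]
  have hsum : P.card = ∑ z ∈ I, N z := by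
    rw [← Finset.sum_congr rfl hI]
    rw [Finset.card_eq_sum_ones]
    simp only [Finset.card_filter]
    rw [Finset.sum_comm]
    refine Finset.sum_congr rfl fun p hp => ?_
    obtain ⟨z, ⟨hz, hzmem⟩, huniq⟩ := hpair p (Finset.mem_filter.1 hp).2
    rw [Finset.sum_eq_single z]
    · rw [if_pos hzmem]
    · intro b hb hbz
      rw [if_neg fun hbm => hbz (huniq b ⟨(Finset.mem_filter.1 hb).2, hbm⟩)]
    · intro h
      exact absurd (Finset.mem_filter.2 ⟨Finset.mem_univ z, hz⟩) h
  have hsplit : ∑ z ∈ I, N z = Nat.card {y : G // IsConj x₁ y} * N x₁ +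
      Nat.card {y : G // IsConj x₂ y} * N x₂ := by
    rw [← Finset.sum_filter_add_sum_filter_not I (fun z => IsConj x₁ z)]
    congr 1
    · rw [Finset.sum_congr rfl fun z hz => hinv x₁ z (Finset.mem_filter.1 hz).2, Finset.sum_const,
        smul_eq_mul, Nat.card_eq_fintype_card, Fintype.card_subtype]
      congr 2
      ext z
      simp only [I, Finset.mem_filter, Finset.mem_univ, true_and]
      exact ⟨fun h => h.2, fun h => ⟨horder h, h⟩⟩
    · have hh : ∀ z, ¬ IsConj x₁ z ∧ orderOf z = 2 ↔ IsConj x₂ z := fun z =>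
        ⟨fun h => (hall z h.2).resolve_left h.1,
          fun h => ⟨fun h' => hnc (h'.trans h.symm), horder' h⟩⟩
      have e : I.filter (fun z => ¬ IsConj x₁ z) = Finset.univ.filter fun z => IsConj x₂ z := by
        ext z
        simp only [I, Finset.mem_filter, Finset.mem_univ, true_and, ← hh, and_comm]
      rw [e, Finset.sum_congr rfl fun z hz => hinv x₂ z (Finset.mem_filter.1 hz).2, Finset.sum_const,
        smul_eq_mul, Nat.card_eq_fintype_card, Fintype.card_subtype]
  have h1 := card_class_mul x₁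
  have h2 := card_class_mul x₂
  set a := Nat.card {y : G // IsConj x₁ y}
  set b := Nat.card {y : G // IsConj x₂ y}
  set c := Nat.card (Subgroup.centralizer ({x₁} : Set G))
  set d := Nat.card (Subgroup.centralizer ({x₂} : Set G))
  show Nat.card G = d * N x₁ + c * N x₂
  have key : a * b = a * N x₁ + b * N x₂ := by rw [← hP, hsum, hsplit]
  refine mul_left_cancel₀ (Nat.card_pos (α := G)).ne' ?_
  calc Nat.card G * Nat.card G = (a * c) * (b * d) := by rw [h1, h2]
    _ = (a * b) * (c * d) := by ring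
    _ = (a * c) * d * N x₁ + (b * d) * c * N x₂ := by rw [key]; ring
    _ = _ := by rw [h1, h2]; ring

end Cfsg.Agent.S0213
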