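import Cfsg.Statements.S0214
import Cfsg.Agent.Lib.Involutions.StronglyEmbedded
-- Template for statement S0214 (row 214; see /opt/grader/pristine/manifest.json for weights).
-- Copy to Cfsg/Agent/S0214.lean and replace the sorry. The statement below is byte-identical to the frozen
-- statement Cfsg.CfsgFrozen.S0214 (Cfsg/Statements/S0214.lean; the theorem Cfsg.strongly_embedded_iff_normalizers_in_subgroup);
-- the grader kernel-checks Cfsg.Agent.S0214.result against that frozen type. Keep the theorem IN THIS FILE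
-- (a `result` declared elsewhere and merely imported here is not credited); helpers may live anywhere
-- under Cfsg/Agent/.
-- import your own Cfsg.Agent.* helpers here

set_option autoImplicit false
open Cfsg

namespace Cfsg.Agent.S0214

open Cfsg.Agent.Lib.Involutions

/-- Let H be a proper subgroup of the finite group G and P a nontrivial Sylow 2-subgroup of H. Then H is strongly embedded in G if and only if N_G(X) ≤ H for every nontrivial subgroup X of P. -/
theorem result {G : Type*} [Group G] [Finite G] (H : Subgroup G) (hH : H ≠ ⊤) (P : Sylow 2 ↥H) (hP : (P : Subgroup ↥H) ≠ ⊥) : Cfsg.IsStronglyEmbedded H ↔ (∀ X : Subgroup ↥H, X ≤ (P : Subgroup ↥H) → X ≠ ⊥ → Subgroup.normalizer ((X.map H.subtype : Subgroup G) : Set G) ≤ H) := by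
  have : Fact (Nat.Prime 2) := ⟨Nat.prime_two⟩
  set Q := (P : Subgroup H).map H.subtype with hQ
  have hQp : IsPGroup 2 Q := P.2.map _
  have hQH : Q ≤ H := Subgroup.map_subtype_le _
  have hinv : ∀ X : Subgroup G, IsPGroup 2 X → X ≠ ⊥ → ∃ t ∈ X, orderOf t = 2 := fun X hX hX1 => by
    obtain ⟨n, hn⟩ := IsPGroup.iff_card.1 hX
    have hn0 : n ≠ 0 := fun h0 => hX1 (Subgroup.card_eq_one.1 (by rw [hn, h0, pow_zero]))
    obtain ⟨⟨t, ht⟩, hord⟩ := exists_prime_orderOf_dvd_card' (G := X) 2
      (hn ▸ dvd_pow_self 2 hn0)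
    exact ⟨t, ht, by rwa [Subgroup.orderOf_mk] at hord⟩
  constructor
  · intro hse X hXP hX1 x hx
    have hX1' : X.map H.subtype ≠ ⊥ := fun h =>
      hX1 ((Subgroup.map_eq_bot_iff_of_injective _ H.subtype_injective).1 h)
    obtain ⟨t, htX, ht⟩ := hinv _ (hQp.to_le (Subgroup.map_mono hXP)) hX1'
    exact mem_of_conj_mem hse ht (Subgroup.map_subtype_le _ htX)
      (Subgroup.map_subtype_le _ ((Subgroup.mem_set_normalizer_iff.1 hx t).1 htX))
  · intro hN
    have heven : Even (Nat.card H) := by
      obtain ⟨n, hn⟩ := IsPGroup.iff_card.1 P.2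
      have hn0 : n ≠ 0 := fun h0 => hP (Subgroup.card_eq_one.1 (by rw [hn, h0, pow_zero]))
      exact even_iff_two_dvd.2 ((dvd_pow_self 2 hn0).trans (hn ▸ Subgroup.card_subgroup_dvd_card _))
    refine isStronglyEmbedded_of_conj_mem hH heven fun t htH ht g hg => ?_
    by_contra hgH
    refine no_good_of_normalizers_le P (fun X => X ≠ ⊥) (fun X Y h hX => ne_bot_of_le_ne_bot hX h)
      (fun X g hX h => hX ((Subgroup.map_eq_bot_iff_of_injective _ (MulAut.conj g).injective).1 h))
      (fun X hXQ hX => ?_) hgH (X := Subgroup.zpowers (g * t * g⁻¹))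
      (IsPGroup.iff_card.2 ⟨1, by rw [Nat.card_zpowers, orderOf_conj_eq, ht, pow_one]⟩)
      (fun h => invol_ne_one (by rw [orderOf_conj_eq, ht]) (Subgroup.zpowers_eq_bot.1 h))
      ((Subgroup.zpowers_le).2 ⟨hg, conj_mem_map htH⟩)
    have hXH : X ≤ H := hXQ.trans hQH
    have := hN (X.subgroupOf H) (fun y hy => by
        obtain ⟨y', hy', he⟩ := hXQ hy
        rwa [← Subtype.ext he])
      (fun h => hX (by rw [← Subgroup.map_subgroupOf_eq_of_le hXH, h, Subgroup.map_bot]))
    rwa [Subgroup.map_subgroupOf_eq_of_le hXH] at this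

end Cfsg.Agent.S0214
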