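import Cfsg.Statements.S0216
import Cfsg.Agent.Lib.Involutions.Isolated
-- Template for statement S0216 (row 216; see /opt/grader/pristine/manifest.json for weights).
-- Copy to Cfsg/Agent/S0216.lean and replace the sorry. The statement below is byte-identical to the frozen
-- statement Cfsg.CfsgFrozen.S0216 (Cfsg/Statements/S0216.lean; the theorem Cfsg.isolated_involution_iff_commutators_odd_order);
-- the grader kernel-checks Cfsg.Agent.S0216.result against that frozen type. Keep the theorem IN THIS FILE
-- (a `result` declared elsewhere and merely imported here is not credited); helpers may live anywhere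
-- under Cfsg/Agent/.
-- import your own Cfsg.Agent.* helpers here

set_option autoImplicit false
open Cfsg

namespace Cfsg.Agent.S0216

open Cfsg.Agent.Lib.Involutions

/-- For an involution u in a Sylow 2-subgroup P of a finite group G, the following are equivalent: no G-conjugate of u other than u lies in P; every commutator of u with an element of G has odd order. -/
theorem result {G : Type*} [Group G] [Finite G] (P : Sylow 2 G) (u : G) (hu : orderOf u = 2) (huP : u ∈ P) : (∀ g : G, g * u * g⁻¹ ∈ P → g * u * g⁻¹ = u) ↔ (∀ g : G, Odd (orderOf (u * g * u⁻¹ * g⁻¹))) := by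
  have : Fact (Nat.Prime 2) := ⟨Nat.prime_two⟩
  have hcomm : ∀ g : G, u * g * u⁻¹ * g⁻¹ = u * (g * u * g⁻¹) := fun g => by
    rw [invol_inv hu]
    simp only [mul_assoc]
  constructor
  · intro h g
    rw [hcomm]
    exact odd_mul_conj (isIsolated_of_unique_in_sylow P hu huP h) g
  · intro h g hg
    have hodd := h g
    rw [hcomm] at hodd
    obtain ⟨k, hk⟩ := (IsPGroup.iff_orderOf.1 P.2) ⟨u * (g * u * g⁻¹), mul_mem huP hg⟩
    rw [Subgroup.orderOf_mk] at hk
    rw [hk] at hodd
    rcases k with _ | k
    · rw [pow_zero, orderOf_eq_one_iff, mul_eq_one_iff_eq_inv] at hk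
      exact inv_injective (hk.symm.trans (invol_inv hu).symm)
    · exact absurd hodd (Nat.not_odd_iff_even.2 (by rw [pow_succ]; exact even_two.mul_left _))

end Cfsg.Agent.S0216
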