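import Cfsg.Statements.S0219
import Cfsg.Agent.Lib.Involutions.Counting
-- Template for statement S0219 (row 219; see /opt/grader/pristine/manifest.json for weights).
-- Copy to Cfsg/Agent/S0219.lean and replace the sorry. The statement below is byte-identical to the frozen
-- statement Cfsg.CfsgFrozen.S0219 (Cfsg/Statements/S0219.lean; the theorem Cfsg.cyclic_sylow_two_subgroup_gives_index_two);
-- the grader kernel-checks Cfsg.Agent.S0219.result against that frozen type. Keep the theorem IN THIS FILE
-- (a `result` declared elsewhere and merely imported here is not credited); helpers may live anywhere
-- under Cfsg/Agent/.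
-- import your own Cfsg.Agent.* helpers here

set_option autoImplicit false
open Cfsg

namespace Cfsg.Agent.S0219

open Cfsg.Agent.Lib.Involutions

/-- If a finite group has even order and a cyclic Sylow 2-subgroup, then it has a subgroup of index 2 (consider the parity of permutations in the regular representation). -/
theorem result {G : Type*} [Group G] [Finite G] (heven : Even (Nat.card G)) (T : Sylow 2 G) (hT : IsCyclic (T : Subgroup G)) : ∃ H : Subgroup G, H.index = 2 := by
  exact exists_index_two_of_cyclic_sylow heven T hT

end Cfsg.Agent.S0219
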