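import Cfsg.Statements.S0220
import Cfsg.Agent.Lib.Involutions.StronglyEmbedded
import Cfsg.Agent.Lib.Involutions.Counting
-- Template for statement S0220 (row 220; see /opt/grader/pristine/manifest.json for weights).
-- Copy to Cfsg/Agent/S0220.lean and replace the sorry. The statement below is byte-identical to the frozen
-- statement Cfsg.CfsgFrozen.S0220 (Cfsg/Statements/S0220.lean; the theorem Cfsg.involution_centralizer_with_cyclic_sylow_gives_index_two);
-- the grader kernel-checks Cfsg.Agent.S0220.result against that frozen type. Keep the theorem IN THIS FILE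
-- (a `result` declared elsewhere and merely imported here is not credited); helpers may live anywhere
-- under Cfsg/Agent/.
-- import your own Cfsg.Agent.* helpers here

set_option autoImplicit false
open Cfsg

namespace Cfsg.Agent.S0220

open Cfsg.Agent.Lib.Involutions

/-- If x is an involution of a finite group G and a Sylow 2-subgroup of the centralizer of x is cyclic, then G has a subgroup of index 2; in particular G is not simple unless it has order 2. -/
theorem result {G : Type*} [Group G] [Finite G] (x : G) (hx : orderOf x = 2) (S : Sylow 2 ↥(Subgroup.centralizer ({x} : Set G))) (hS : IsCyclic (S : Subgroup ↥(Subgroup.centralizer ({x} : Set G)))) : ∃ H : Subgroup G, H.index = 2 := by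
  have : Fact (Nat.Prime 2) := ⟨Nat.prime_two⟩
  set S' := (S : Subgroup (Subgroup.centralizer ({x} : Set G))).map (Subgroup.centralizer ({x} : Set G)).subtype with hS'
  have hS'p : IsPGroup 2 S' := S.2.map _
  have hxC : x ∈ (Subgroup.centralizer ({x} : Set G)) := Subgroup.mem_centralizer_singleton_iff.2 rfl
  have hcyc : IsCyclic S' :=
    (((S : Subgroup (Subgroup.centralizer ({x} : Set G))).equivMapOfInjective (Subgroup.centralizer ({x} : Set G)).subtype (Subgroup.centralizer ({x} : Set G)).subtype_injective).isCyclic).1 hS
  obtain ⟨T, hT⟩ := hS'p.exists_le_sylow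
  have hTC : (T : Subgroup G) ⊓ (Subgroup.centralizer ({x} : Set G)) = S' := by
    refine le_antisymm ?_ (le_inf hT (Subgroup.map_subtype_le _))
    obtain ⟨c, hc, hcS⟩ := exists_conj_le_sylow_of_le S (T.2.to_inf_left (K := Subgroup.centralizer ({x} : Set G))) inf_le_right
    have hcard : Nat.card ((T : Subgroup G) ⊓ (Subgroup.centralizer ({x} : Set G)) : Subgroup G) ≤ Nat.card S' := by
      have := Subgroup.card_le_of_le hcS
      rwa [Subgroup.card_map_of_injective (MulAut.conj c).injective] at this
    exact (Subgroup.eq_of_le_of_card_ge (le_inf hT (Subgroup.map_subtype_le _)) hcard).ge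
  have hxS : x ∈ S' := by
    -- `x` is central in `(Subgroup.centralizer ({x} : Set G))`
    let x' : (Subgroup.centralizer ({x} : Set G)) := ⟨x, hxC⟩
    have hp : IsPGroup 2 (Subgroup.zpowers x') := IsPGroup.iff_card.2 ⟨1, by
      rw [Nat.card_zpowers, ← Subgroup.orderOf_coe, hx, pow_one]⟩
    obtain ⟨R, hR⟩ := hp.exists_le_sylow
    obtain ⟨c, hc⟩ := MulAction.exists_smul_eq (Subgroup.centralizer ({x} : Set G)) R S
    refine ⟨x', ?_, rfl⟩
    have h1 : c * x' * c⁻¹ ∈ (S : Subgroup (Subgroup.centralizer ({x} : Set G))) := by
      rw [← hc, sylow_map_conj]; exact conj_mem_map (hR (Subgroup.mem_zpowers x'))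
    have h2 : c * x' = x' * c :=
      Subtype.ext (Subgroup.mem_centralizer_singleton_iff.1 c.2)
    rwa [h2, mul_inv_cancel_right] at h1
  have hxT : x ∈ (T : Subgroup G) := hT hxS
  -- the centre of `T` contains `x`
  have hTle : (T : Subgroup G) ≤ (Subgroup.centralizer ({x} : Set G)) := by
    have hne : Nontrivial T := ⟨⟨⟨x, hxT⟩, 1, fun h => invol_ne_one hx (congrArg Subtype.val h)⟩⟩
    have := T.2.center_nontrivial
    obtain ⟨n, hn⟩ := IsPGroup.iff_card.1 (T.2.to_subgroup (Subgroup.center T))
    have hn0 : n ≠ 0 := fun h0 => by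
      rw [h0, pow_zero] at hn
      exact (Finite.one_lt_card (α := Subgroup.center T)).ne' hn
    obtain ⟨⟨⟨y, hyT⟩, hy⟩, hord⟩ :=
      exists_prime_orderOf_dvd_card' (G := Subgroup.center T) 2 (hn ▸ dvd_pow_self 2 hn0)
    rw [Subgroup.orderOf_mk, Subgroup.orderOf_mk] at hord
    have hcomm : ∀ u : G, u ∈ T → u * y = y * u := fun u hu =>
      congrArg Subtype.val (Subgroup.mem_center_iff.1 hy ⟨u, hu⟩)
    have hyS : y ∈ S' := by
      rw [← hTC]
      exact ⟨hyT, Subgroup.mem_centralizer_singleton_iff.2 (hcomm x hxT).symm⟩
    have hyx : y = x := by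
      by_contra hne
      classical
      have := Fintype.ofFinite S'
      have hle := IsCyclic.card_pow_eq_one_le (α := S') (show 0 < 2 by norm_num)
      have hsub : ({1, ⟨x, hxS⟩, ⟨y, hyS⟩} : Finset S') ⊆
          Finset.univ.filter (fun a : S' => a ^ 2 = 1) := by
        intro a ha
        simp only [Finset.mem_insert, Finset.mem_singleton] at ha
        rw [Finset.mem_filter]
        refine ⟨Finset.mem_univ _, ?_⟩
        rcases ha with rfl | rfl | rfl
        · exact one_pow 2
        · exact Subtype.ext (by show x ^ 2 = 1; rw [sq, invol_mul_self hx])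
        · exact Subtype.ext (by show y ^ 2 = 1; rw [sq, invol_mul_self hord])
      have h3 := (Finset.card_le_card hsub).trans hle
      rw [Finset.card_insert_of_notMem, Finset.card_insert_of_notMem, Finset.card_singleton] at h3
      · omega
      · rw [Finset.mem_singleton]
        exact fun h => hne (congrArg Subtype.val h).symm
      · simp only [Finset.mem_insert, Finset.mem_singleton, not_or]
        exact ⟨fun h => invol_ne_one hx (congrArg Subtype.val h).symm,
          fun h => invol_ne_one hord (congrArg Subtype.val h).symm⟩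
    intro u hu
    rw [Subgroup.mem_centralizer_singleton_iff, ← hyx, hcomm u hu]
  have hTS : (T : Subgroup G) = S' := by rw [← hTC, inf_eq_left.2 hTle]
  refine exists_index_two_of_cyclic_sylow ?_ T (by rw [hTS]; exact hcyc)
  exact even_iff_two_dvd.2 (hx ▸ orderOf_dvd_natCard x)

end Cfsg.Agent.S0220
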