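import Cfsg.Statements.S0221
import Cfsg.Agent.Lib.Involutions.NormalFour
import Cfsg.Agent.Lib.Involutions.DihedralKlein
import Cfsg.Agent.S0111
-- Template for statement S0221 (row 221; see /opt/grader/pristine/manifest.json for weights).
-- Copy to Cfsg/Agent/S0221.lean and replace the sorry. The statement below is byte-identical to the frozen
-- statement Cfsg.CfsgFrozen.S0221 (Cfsg/Statements/S0221.lean; the theorem Cfsg.two_rank_three_inherited_by_involution_centralizers);
-- the grader kernel-checks Cfsg.Agent.S0221.result against that frozen type. Keep the theorem IN THIS FILE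
-- (a `result` declared elsewhere and merely imported here is not credited); helpers may live anywhere
-- under Cfsg/Agent/.
-- import your own Cfsg.Agent.* helpers here

set_option autoImplicit false
open Cfsg

namespace Cfsg.Agent.S0221

open Cfsg.Agent.Lib.Involutions

/-- Let G be a finite group with no subgroup of index 2 whose 2-rank is at least 3 (it contains an elementary abelian subgroup of order 8). Then the centralizer of every involution of G also contains an elementary abelian subgroup of order 8. -/
theorem result {G : Type*} [Group G] [Finite G] (hno : ∀ H : Subgroup G, H.index ≠ 2) (hrank : ∃ E : Subgroup G, Nat.card E = 8 ∧ ∀ e ∈ E, e ^ 2 = 1) (x : G) (hx : orderOf x = 2) : ∃ E : Subgroup G, E ≤ Subgroup.centralizer ({x} : Set G) ∧ Nat.card E = 8 ∧ ∀ e ∈ E, e ^ 2 = 1 := by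
  classical
  have : Fact (Nat.Prime 2) := ⟨Nat.prime_two⟩
  obtain ⟨E, hE8, hE⟩ := hrank
  have hEp : IsPGroup 2 E := IsPGroup.of_card (n := 3) (by rw [hE8]; norm_num)
  obtain ⟨S, hES⟩ := hEp.exists_le_sylow
  -- a normal four-subgroup of `S`
  obtain ⟨U₀, hU₀n, hU₀⟩ := exists_normal_klein S.2 (E.subgroupOf (S : Subgroup G))
    (by rw [Nat.card_congr (Subgroup.subgroupOfEquivOfLe hES).toEquiv, hE8])
    (fun e he => Subtype.ext (by rw [Subgroup.coe_mul, ← sq]; exact hE _ he))
  set U := U₀.map (S : Subgroup G).subtype with hUdef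
  have hU : IsKleinFour U := isKleinFour_map hU₀ _ (Subgroup.subtype_injective _)
  have hUS : U ≤ (S : Subgroup G) := Subgroup.map_subtype_le U₀
  set Q := (S : Subgroup G) ⊓ Subgroup.centralizer (U : Set G) with hQdef
  have hcard4 : Nat.card U = 4 := hU.card_four
  have hUfin : (U : Set G).ncard = 4 := by rw [← Nat.card_coe_set_eq]; exact hcard4
  have hsN : ∀ s ∈ (S : Subgroup G), ∀ u ∈ U, s * u * s⁻¹ ∈ U := by
    rintro s hs _ ⟨u, hu, rfl⟩
    exact ⟨_, hU₀n.conj_mem u hu ⟨s, hs⟩, rfl⟩
  -- the rest of the statement follows for involutions in `Q`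
  have hext : ∀ x ∈ Subgroup.centralizer (U : Set G), x ∉ U → x * x = 1 →
      ∃ F : Subgroup G, U ≤ F ∧ x ∈ F ∧ Nat.card F = 8 ∧ (∀ e ∈ F, e ^ 2 = 1) ∧
        F ≤ Subgroup.centralizer ({x} : Set G) := by
    intro x hx hxU hxx
    have hc : ∀ u ∈ U, u * x = x * u := fun u hu => hx u hu
    let F : Subgroup G :=
      { carrier := {g | g ∈ U ∨ x * g ∈ U}
        one_mem' := Or.inl (one_mem U)
        mul_mem' := by
          intro a b ha hb
          rcases ha with ha | ha <;> rcases hb with hb | hb
          · exact Or.inl (mul_mem ha hb)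
          · right
            have : x * (a * b) = a * (x * b) := by rw [← mul_assoc, ← hc a ha, mul_assoc]
            rw [this]; exact mul_mem ha hb
          · right
            rw [← mul_assoc]; exact mul_mem ha hb
          · left
            have h1 : a = x * (x * a) := by rw [← mul_assoc, hxx, one_mul]
            have h2 : b = x * (x * b) := by rw [← mul_assoc, hxx, one_mul]
            have : a * b = (x * a) * (x * b) := by
              conv_lhs => rw [h1, h2]
              calc x * (x * a) * (x * (x * b)) = x * ((x * a) * x) * (x * b) := by group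
                _ = x * (x * (x * a)) * (x * b) := by rw [hc _ ha]
                _ = _ := by rw [← mul_assoc x x, hxx, one_mul]
            rw [this]; exact mul_mem ha hb
        inv_mem' := by
          intro a ha
          rcases ha with ha | ha
          · exact Or.inl (inv_mem ha)
          · right
            have h1 : a = x * (x * a) := by rw [← mul_assoc, hxx, one_mul]
            have hxi : x⁻¹ = x := inv_eq_of_mul_eq_one_right hxx
            have : x * a⁻¹ = (x * a)⁻¹ := by
              conv_lhs => rw [h1]
              rw [mul_inv_rev x (x * a), hxi, ← mul_assoc, ← hc _ (inv_mem ha), mul_assoc, hxx, mul_one]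
            rw [this]; exact inv_mem ha }
    have hFsq : ∀ e ∈ F, e ^ 2 = 1 := by
      intro e he
      rw [sq]
      rcases he with he | he
      · exact isKleinFour_sq hU he
      · have h1 : e = x * (x * e) := by rw [← mul_assoc, hxx, one_mul]
        rw [h1]
        calc x * (x * e) * (x * (x * e)) = x * ((x * e) * x) * (x * e) := by group
          _ = x * (x * (x * e)) * (x * e) := by rw [hc _ he]
          _ = 1 := by rw [← mul_assoc x x, hxx, one_mul, isKleinFour_sq hU he]
    refine ⟨F, fun u hu => Or.inl hu, Or.inr (by rw [hxx]; exact one_mem U), ?_, hFsq, ?_⟩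
    · have hset : (F : Set G) = (U : Set G) ∪ (fun u => x * u) '' (U : Set G) := by
        ext g
        constructor
        · rintro (h | h)
          · exact Or.inl h
          · exact Or.inr ⟨x * g, h, by simp only; rw [← mul_assoc, hxx, one_mul]⟩
        · rintro (h | ⟨u, hu, rfl⟩)
          · exact Or.inl h
          · exact Or.inr (show x * (x * u) ∈ U by rw [← mul_assoc, hxx, one_mul]; exact hu)
      rw [← SetLike.coe_sort_coe, Nat.card_coe_set_eq, hset, Set.ncard_union_eq ?_,
        Set.ncard_image_of_injective _ (mul_right_injective x), hUfin]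
      rw [Set.disjoint_right]
      rintro _ ⟨u, hu, rfl⟩ hxu
      apply hxU
      have := mul_mem hxu (inv_mem hu)
      rwa [mul_inv_cancel_right] at this
    · intro g hg
      rw [Subgroup.mem_centralizer_singleton_iff]
      rcases hg with hg | hg
      · exact hc g hg
      · have h1 : g = x * (x * g) := by rw [← mul_assoc, hxx, one_mul]
        rw [h1, mul_assoc, hc _ hg]
  have hclaim : ∀ y : G, orderOf y = 2 → y ∈ Q →
      ∃ F : Subgroup G, F ≤ Subgroup.centralizer ({y} : Set G) ∧ Nat.card F = 8 ∧ ∀ e ∈ F, e ^ 2 = 1 := by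
    intro y hy hyQ
    by_cases hyU : y ∈ U
    · -- some element of `E` centralizes `U` without lying in it
      obtain ⟨e, he, heC, heU⟩ : ∃ e ∈ E, e ∈ Subgroup.centralizer (U : Set G) ∧ e ∉ U := by
        by_contra hcon
        push Not at hcon
        -- the elements of `E` act on `U` through a group of order at most two
        have hk : ∀ s₁ ∈ E, ∀ s₂ ∈ E, s₁ ∉ Subgroup.centralizer (U : Set G) →
            s₂ ∉ Subgroup.centralizer (U : Set G) → s₁⁻¹ * s₂ ∈ Subgroup.centralizer (U : Set G) := by
          intro s₁ h₁ s₂ h₂ n₁ n₂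
          -- both fix `z` and interchange the other two involutions
          obtain ⟨z, hzU, hz1, hzc⟩ : ∃ z ∈ U, z ≠ 1 ∧ ∀ s ∈ (S : Subgroup G), s * z * s⁻¹ = z := by
            have hne : U₀ ≠ ⊥ := by
              intro h
              have := hU₀.card_four
              rw [h, Subgroup.card_bot] at this
              omega
            have := S.2.isNilpotent
            obtain ⟨w, hw, hw1⟩ := (U₀ ⊓ Subgroup.center (S : Subgroup G)).bot_or_exists_ne_one.resolve_left
              (Cfsg.Agent.Lib.Solvable.inf_center_ne_bot hne)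
            refine ⟨w, ⟨w, hw.1, rfl⟩, fun h => hw1 (Subtype.ext h), fun s hs => ?_⟩
            have := congrArg Subtype.val (Subgroup.mem_center_iff.1 hw.2 ⟨s, hs⟩)
            simp only [Subgroup.coe_mul] at this
            rw [this, mul_inv_cancel_right]
          obtain ⟨v, hv, hv1, hvz⟩ : ∃ v ∈ U, v ≠ 1 ∧ v ≠ z := by
            by_contra hcon2
            push Not at hcon2
            have hsub : (U : Set G) ⊆ {1, z} := fun v hv => by
              by_cases h : v = 1
              · exact Or.inl h
              · exact Or.inr (hcon2 v hv h)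
            have := (Set.ncard_le_ncard hsub).trans (Set.ncard_insert_le _ _)
            rw [hUfin, Set.ncard_singleton] at this
            omega
          have hUeq : ∀ w ∈ U, w = 1 ∨ w = z ∨ w = v ∨ w = z * v := by
            obtain ⟨U', hU', hmem⟩ := exists_klein_mem_iff (isKleinFour_sq hU hzU)
              (isKleinFour_sq hU hv) hz1 hv1 hvz (isKleinFour_comm hU hzU hv)
            have hle : U' ≤ U := fun w hw => by
              rcases (hmem w).1 hw with rfl | rfl | rfl | rfl
              exacts [one_mem U, hzU, hv, mul_mem hzU hv]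
            have := Subgroup.eq_of_le_of_card_ge hle (by rw [hcard4, hU'.card_four])
            intro w hw
            rw [← this] at hw
            exact (hmem w).1 hw
          have hswap : ∀ s ∈ E, s ∉ Subgroup.centralizer (U : Set G) → s * v * s⁻¹ = z * v := by
            intro s hs hn
            rcases hUeq _ (hsN s (hES hs) v hv) with h | h | h | h
            · exact absurd (conj_eq_one_iff.1 h) hv1
            · exact absurd (mul_left_cancel (mul_right_cancel (h.trans (hzc s (hES hs)).symm))) hvz
            · refine absurd ?_ hn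
              intro w hw
              refine (mul_inv_eq_iff_eq_mul.1 ?_).symm
              rcases hUeq w hw with rfl | rfl | rfl | rfl
              · group
              · exact hzc s (hES hs)
              · exact h
              · rw [show s * (z * v) * s⁻¹ = s * z * s⁻¹ * (s * v * s⁻¹) by group, hzc s (hES hs), h]
            · exact h
          intro w hw
          refine (mul_inv_eq_iff_eq_mul.1 ?_).symm
          have hs1 : s₁⁻¹ ∈ E := inv_mem h₁
          rcases hUeq w hw with rfl | rfl | rfl | rfl
          · group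
          · exact hzc _ (hES (mul_mem hs1 h₂))
          · calc s₁⁻¹ * s₂ * w * (s₁⁻¹ * s₂)⁻¹ = s₁⁻¹ * (s₂ * w * s₂⁻¹) * s₁ := by group
              _ = w := by rw [hswap s₂ h₂ n₂, ← hswap s₁ h₁ n₁]; group
          · rw [show s₁⁻¹ * s₂ * (z * v) * (s₁⁻¹ * s₂)⁻¹ =
              (s₁⁻¹ * s₂) * z * (s₁⁻¹ * s₂)⁻¹ * (s₁⁻¹ * (s₂ * v * s₂⁻¹) * s₁) by group,
              hzc _ (hES (mul_mem hs1 h₂)), hswap s₂ h₂ n₂, ← hswap s₁ h₁ n₁]
            group
            simpa [zpow_neg_one] using (hswap s₁ h₁ n₁).symm
        have h8 : (E : Set G).ncard = 8 := by rw [← Nat.card_coe_set_eq]; exact hE8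
        by_cases hall : ∀ s ∈ E, s ∈ Subgroup.centralizer (U : Set G)
        · have := Set.ncard_le_ncard (show (E : Set G) ⊆ U from fun s hs => hcon s hs (hall s hs))
            (Set.finite_of_ncard_ne_zero (by rw [hUfin]; norm_num))
          omega
        push Not at hall
        obtain ⟨s₀, hs₀, hn₀⟩ := hall
        have hsub : (E : Set G) ⊆ (U : Set G) ∪ (fun u => s₀ * u) '' (U : Set G) := by
          intro s hs
          by_cases hsc : s ∈ Subgroup.centralizer (U : Set G)
          · exact Or.inl (hcon s hs hsc)
          · exact Or.inr ⟨s₀⁻¹ * s, hcon _ (mul_mem (inv_mem hs₀) hs) (hk s₀ hs₀ s hs hn₀ hsc),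
              by simp⟩
        have hfinU : (U : Set G).Finite := Set.finite_of_ncard_ne_zero (by rw [hUfin]; norm_num)
        have hle := (Set.ncard_le_ncard hsub (hfinU.union (hfinU.image _))).trans
          (Set.ncard_union_le _ _)
        -- the bound is 8, with equality only if `U ≤ E`
        have hUE : (U : Set G) ⊆ E := by
          have heq := Set.eq_of_subset_of_ncard_le hsub ((Set.ncard_union_le _ _).trans (by
            rw [Set.ncard_image_of_injective _ (mul_right_injective s₀), hUfin, h8]))
            (hfinU.union (hfinU.image _))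
          intro u hu
          rw [heq]
          exact Or.inl hu
        apply hn₀
        intro u hu
        have h1 := hE _ (mul_mem (hUE hu) hs₀)
        have h2 := hE _ (hUE hu)
        have h3 := hE _ hs₀
        rw [sq] at h1 h2 h3
        calc u * s₀ = u * s₀ * (u * s₀) * (u * s₀)⁻¹ := by group
          _ = (u * s₀)⁻¹ := by rw [h1, one_mul]
          _ = s₀⁻¹ * u⁻¹ := by group
          _ = s₀ * u := by rw [inv_eq_of_mul_eq_one_right h2, inv_eq_of_mul_eq_one_right h3]
      have hee : e * e = 1 := by rw [← sq]; exact hE e he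
      obtain ⟨F, hUF, heF, hF8, hF2, -⟩ := hext e heC heU hee
      refine ⟨F, fun g hg => Subgroup.mem_centralizer_singleton_iff.2 ?_, hF8, hF2⟩
      have h1 := hF2 g hg
      have h2 := hF2 y (hUF hyU)
      have h3 := hF2 _ (mul_mem hg (hUF hyU))
      rw [sq] at h1 h2 h3
      calc g * y = (g * y)⁻¹ := (inv_eq_of_mul_eq_one_right h3).symm
        _ = y * g := by rw [mul_inv_rev, inv_eq_of_mul_eq_one_right h1, inv_eq_of_mul_eq_one_right h2]
    · obtain ⟨F, -, -, hF8, hF2, hFC⟩ := hext y hyQ.2 hyU (invol_mul_self hy)
      exact ⟨F, hFC, hF8, hF2⟩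
  -- move `x` into `Q`
  obtain ⟨g, hg⟩ : ∃ g : G, g * x * g⁻¹ ∈ Q := by
    obtain ⟨c, hc⟩ := conj_le_sylow S
      (Y := Subgroup.zpowers x) (IsPGroup.of_card (n := 1) (by rw [Nat.card_zpowers, hx, pow_one]))
    have hxS : c * x * c⁻¹ ∈ (S : Subgroup G) := hc ⟨x, Subgroup.mem_zpowers x, rfl⟩
    by_cases hxQ : c * x * c⁻¹ ∈ Q
    · exact ⟨c, hxQ⟩
    have hQidx : Q.relIndex (S : Subgroup G) = 2 := by
      have hnt : ¬ (S : Subgroup G) ≤ Subgroup.centralizer (U : Set G) := fun hle =>
        hxQ ⟨hxS, hle hxS⟩
      rw [hQdef, Subgroup.inf_relIndex_left]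
      obtain ⟨s₀, hs₀, hn₀⟩ := SetLike.not_le_iff_exists.1 hnt
      rw [Subgroup.relIndex, Subgroup.index_eq_two_iff_exists_notMem_and]
      refine ⟨⟨s₀, hs₀⟩, fun h => hn₀ h, fun b => ?_⟩
      by_cases hb : (b : G) ∈ Subgroup.centralizer (U : Set G)
      · exact Or.inr hb
      left
      show ((b : G) * s₀) ∈ Subgroup.centralizer (U : Set G)
      -- `U` is central mod a fixed point
      obtain ⟨w, hw, hw1⟩ := (U₀ ⊓ Subgroup.center (S : Subgroup G)).bot_or_exists_ne_one.resolve_left
        (by
          have := S.2.isNilpotent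
          refine Cfsg.Agent.Lib.Solvable.inf_center_ne_bot fun h => ?_
          have := hU₀.card_four
          rw [h, Subgroup.card_bot] at this
          omega)
      have hzU : (w : G) ∈ U := ⟨w, hw.1, rfl⟩
      have hz1 : (w : G) ≠ 1 := fun h => hw1 (Subtype.ext h)
      have hzc : ∀ s ∈ (S : Subgroup G), s * (w : G) * s⁻¹ = w := fun s hs => by
        have := congrArg Subtype.val (Subgroup.mem_center_iff.1 hw.2 ⟨s, hs⟩)
        simp only [Subgroup.coe_mul] at this
        rw [this, mul_inv_cancel_right]
      intro v hv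
      refine (mul_inv_eq_iff_eq_mul.1 ?_).symm
      by_cases hv1 : v = 1
      · rw [hv1]; group
      by_cases hvw : v = w
      · rw [hvw]; exact hzc _ (mul_mem b.2 hs₀)
      obtain ⟨U', hU', hmem⟩ := exists_klein_mem_iff (isKleinFour_sq hU hzU)
        (isKleinFour_sq hU hv) hz1 hv1 hvw (isKleinFour_comm hU hzU hv)
      have hle : U' ≤ U := fun t ht => by
        rcases (hmem t).1 ht with rfl | rfl | rfl | rfl
        exacts [one_mem U, hzU, hv, mul_mem hzU hv]
      have heqU := Subgroup.eq_of_le_of_card_ge hle (by rw [hcard4, hU'.card_four])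
      have hswap : ∀ s ∈ (S : Subgroup G), s ∉ Subgroup.centralizer (U : Set G) →
          s * v * s⁻¹ = (w : G) * v := by
        intro s hs hn
        have hm := hsN s hs v hv
        rw [← heqU, hmem] at hm
        rcases hm with h | h | h | h
        · exact absurd (conj_eq_one_iff.1 h) hv1
        · exact absurd (mul_left_cancel (mul_right_cancel (h.trans (hzc s hs).symm))) hvw
        · refine absurd ?_ hn
          intro t ht
          refine (mul_inv_eq_iff_eq_mul.1 ?_).symm
          rw [SetLike.mem_coe, ← heqU, hmem] at ht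
          rcases ht with rfl | rfl | rfl | rfl
          · group
          · exact hzc s hs
          · exact h
          · rw [show s * ((w : G) * v) * s⁻¹ = s * w * s⁻¹ * (s * v * s⁻¹) by group, hzc s hs, h]
        · exact h
      calc (b : G) * s₀ * v * ((b : G) * s₀)⁻¹ = b * (s₀ * v * s₀⁻¹) * (b : G)⁻¹ := by group
        _ = (b : G) * w * (b : G)⁻¹ * (b * v * (b : G)⁻¹) := by rw [hswap s₀ hs₀ hn₀]; group
        _ = v := by rw [hzc _ b.2, hswap _ b.2 hb, ← mul_assoc, isKleinFour_sq hU hzU, one_mul]
    rcases Cfsg.Agent.S0111.result S Q inf_le_left hQidx _ ((orderOf_conj_eq c x).trans hx) hxS hxQ with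
      ⟨M, -, hM, -⟩ | ⟨g, hg⟩
    · exact absurd hM (hno M)
    · refine ⟨g * c, ?_⟩
      rwa [show g * c * x * (g * c)⁻¹ = g * (c * x * c⁻¹) * g⁻¹ by group]
  obtain ⟨F, hFC, hF8, hF2⟩ := hclaim _ ((orderOf_conj_eq g x).trans hx) hg
  refine ⟨F.map (MulAut.conj g⁻¹).toMonoidHom, ?_, ?_, ?_⟩
  · rintro _ ⟨f, hf, rfl⟩
    rw [Subgroup.mem_centralizer_singleton_iff]
    show g⁻¹ * f * g⁻¹⁻¹ * x = x * (g⁻¹ * f * g⁻¹⁻¹)
    have := Subgroup.mem_centralizer_singleton_iff.1 (hFC hf)
    calc g⁻¹ * f * g⁻¹⁻¹ * x = g⁻¹ * (f * (g * x * g⁻¹)) * g := by group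
      _ = g⁻¹ * ((g * x * g⁻¹) * f) * g := by rw [this]
      _ = _ := by group
  · rw [Subgroup.card_map_of_injective (MulAut.conj g⁻¹).injective, hF8]
  · rintro _ ⟨f, hf, rfl⟩
    rw [← map_pow, hF2 f hf, map_one]

end Cfsg.Agent.S0221
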