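import Cfsg.Statements.S0224
import Cfsg.Agent.Lib.Involutions.StronglyEmbedded
-- Template for statement S0224 (row 224; see /opt/grader/pristine/manifest.json for weights).
-- Copy to Cfsg/Agent/S0224.lean and replace the sorry. The statement below is byte-identical to the frozen
-- statement Cfsg.CfsgFrozen.S0224 (Cfsg/Statements/S0224.lean; the theorem Cfsg.strongly_embedded_iff_involutions_fix_unique_coset);
-- the grader kernel-checks Cfsg.Agent.S0224.result against that frozen type. Keep the theorem IN THIS FILE
-- (a `result` declared elsewhere and merely imported here is not credited); helpers may live anywhere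
-- under Cfsg/Agent/.
-- import your own Cfsg.Agent.* helpers here

set_option autoImplicit false
open Cfsg

namespace Cfsg.Agent.S0224

open Cfsg.Agent.Lib.Involutions

/-- Let H be a proper subgroup of even order of the finite group G. Then H is strongly embedded if and only if each involution of H fixes exactly one point (namely the coset H) in the action of G on the cosets of H. -/
theorem result {G : Type*} [Group G] [Finite G] (H : Subgroup G) (hH : H ≠ ⊤) (heven : Even (Nat.card H)) : Cfsg.IsStronglyEmbedded H ↔ ∀ t ∈ H, orderOf t = 2 → Nat.card {c : G ⧸ H // t • c = c} = 1 := by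
  have hfix : ∀ (t c : G), t • (QuotientGroup.mk c : G ⧸ H) = QuotientGroup.mk c ↔
      c⁻¹ * t * c ∈ H := fun t c => by
    rw [MulAction.Quotient.smul_mk, QuotientGroup.eq, ← inv_mem_iff]
    simp [smul_eq_mul, mul_assoc]
  constructor
  · intro hse t htH ht
    rw [Nat.card_eq_one_iff_unique]
    refine ⟨⟨?_⟩, ⟨⟨QuotientGroup.mk 1, (hfix t 1).2 (by simpa using htH)⟩⟩⟩
    have key : ∀ c : G, c⁻¹ * t * c ∈ H → (QuotientGroup.mk c : G ⧸ H) = QuotientGroup.mk 1 :=
      fun c hc => by
        have := mem_of_conj_mem hse ht htH (g := c⁻¹) (by simpa using hc)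
        exact QuotientGroup.eq.2 (by simpa using this)
    rintro ⟨a, ha⟩ ⟨b, hb⟩
    obtain ⟨a, rfl⟩ := QuotientGroup.mk_surjective a
    obtain ⟨b, rfl⟩ := QuotientGroup.mk_surjective b
    exact Subtype.ext ((key a ((hfix t a).1 ha)).trans (key b ((hfix t b).1 hb)).symm)
  · intro h
    refine isStronglyEmbedded_of_conj_mem hH heven fun t htH ht g hg => ?_
    obtain ⟨hsub, -⟩ := Nat.card_eq_one_iff_unique.1 (h t htH ht)
    have h1 := hsub.elim
      (⟨QuotientGroup.mk g⁻¹, (hfix t g⁻¹).2 (by simpa using hg)⟩ : {c : G ⧸ H // t • c = c})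
      ⟨QuotientGroup.mk 1, (hfix t 1).2 (by simpa using htH)⟩
    simpa using QuotientGroup.eq.1 (congrArg Subtype.val h1)

end Cfsg.Agent.S0224
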