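import Cfsg.Statements.S0226
import Cfsg.Agent.Lib.Involutions.Counting
-- Template for statement S0226 (row 226; see /opt/grader/pristine/manifest.json for weights).
-- Copy to Cfsg/Agent/S0226.lean and replace the sorry. The statement below is byte-identical to the frozen
-- statement Cfsg.CfsgFrozen.S0226 (Cfsg/Statements/S0226.lean; the theorem Cfsg.number_of_involutions_odd);
-- the grader kernel-checks Cfsg.Agent.S0226.result against that frozen type. Keep the theorem IN THIS FILE
-- (a `result` declared elsewhere and merely imported here is not credited); helpers may live anywhere
-- under Cfsg/Agent/.
-- import your own Cfsg.Agent.* helpers here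

set_option autoImplicit false
open Cfsg

namespace Cfsg.Agent.S0226

open Cfsg.Agent.Lib.Involutions

/-- A finite group of even order has an odd number of involutions. -/
theorem result {G : Type*} [Group G] [Finite G] (heven : Even (Nat.card G)) : Odd (Nat.card {t : G // orderOf t = 2}) := by
  exact odd_card_invol heven

end Cfsg.Agent.S0226
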