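import Cfsg.Statements.S0228
import Cfsg.Agent.Lib.Involutions.Basic
-- Template for statement S0228 (row 228; see /opt/grader/pristine/manifest.json for weights).
-- Copy to Cfsg/Agent/S0228.lean and replace the sorry. The statement below is byte-identical to the frozen
-- statement Cfsg.CfsgFrozen.S0228 (Cfsg/Statements/S0228.lean; the theorem Cfsg.order_twelve_no_central_involution_is_alternating_four);
-- the grader kernel-checks Cfsg.Agent.S0228.result against that frozen type. Keep the theorem IN THIS FILE
-- (a `result` declared elsewhere and merely imported here is not credited); helpers may live anywhere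
-- under Cfsg/Agent/.
-- import your own Cfsg.Agent.* helpers here

set_option autoImplicit false
open Cfsg

namespace Cfsg.Agent.S0228

open Cfsg.Agent.Lib.Involutions

theorem conj_cases {G : Type*} [Group G] {g u : G} (ho : orderOf u = 3) (h1 : u ≠ 1)
    (h : g * u * g⁻¹ ∈ Subgroup.zpowers u) : g * u * g⁻¹ = u ∨ g * u * g⁻¹ = u⁻¹ := by
  obtain ⟨j, hj⟩ := Subgroup.mem_zpowers_iff.1 h
  rw [← zpow_mod_orderOf, ho] at hj
  have hcases : j % 3 = 0 ∨ j % 3 = 1 ∨ j % 3 = 2 := by omega
  rcases hcases with e | e | e <;> rw [← hj, show ((3 : ℕ) : ℤ) = 3 by norm_num, e]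
  · exfalso
    rw [show ((3 : ℕ) : ℤ) = 3 by norm_num, e, zpow_zero, eq_comm, conj_eq_one_iff] at hj
    exact h1 hj
  · exact Or.inl (zpow_one u)
  · refine Or.inr (eq_inv_of_mul_eq_one_left ?_)
    rw [← zpow_add_one, show (2 : ℤ) + 1 = ((3 : ℕ) : ℤ) by norm_num, zpow_natCast, ← ho]
    exact pow_orderOf_eq_one u

/-- A group of order 12 in which no involution is central is isomorphic to the alternating group on four letters. -/
theorem result {G : Type*} [Group G] [Finite G] (hG : Nat.card G = 12) (hz : ∀ z : G, orderOf z = 2 → z ∉ Subgroup.center G) : Nonempty (G ≃* alternatingGroup (Fin 4)) := by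
  classical
  have : Fact (Nat.Prime 3) := ⟨Nat.prime_three⟩
  have : Fact (Nat.Prime 2) := ⟨Nat.prime_two⟩
  obtain ⟨P⟩ : Nonempty (Sylow 3 G) := inferInstance
  obtain ⟨T⟩ : Nonempty (Sylow 2 G) := inferInstance
  have hP : Nat.card (P : Subgroup G) = 3 := by
    rw [P.card_eq_multiplicity, hG]
    have : (12 : ℕ).factorization 3 = 1 := by
      rw [show (12 : ℕ) = 3 * 4 by norm_num, Nat.factorization_mul (by norm_num) (by norm_num)]
      simp [Nat.prime_three.factorization_self, Nat.factorization_eq_zero_of_not_dvd]
    rw [this, pow_one]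
  have hT : Nat.card (T : Subgroup G) = 4 := by
    rw [T.card_eq_multiplicity, hG]
    have : (12 : ℕ).factorization 2 = 2 := by
      rw [show (12 : ℕ) = 2 ^ 2 * 3 by norm_num, Nat.factorization_mul (by norm_num) (by norm_num),
        Nat.Prime.factorization_pow Nat.prime_two]
      simp [Nat.factorization_eq_zero_of_not_dvd]
    rw [this]; norm_num
  set C := Subgroup.centralizer ((P : Subgroup G) : Set G) with hC
  set N := Subgroup.normalizer ((P : Subgroup G) : Set G) with hN
  have hidx : (P : Subgroup G).index = 4 := by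
    have := (P : Subgroup G).card_mul_index
    rw [hP, hG] at this
    omega
  have hnormal : ¬ (P : Subgroup G).Normal := by
    intro hn
    -- some involution of `T` centralizes `P`
    have hsub : ∀ g : G, g * g = 1 → ∀ u ∈ (P : Subgroup G), g * u * g⁻¹ = u ∨ g * u * g⁻¹ = u⁻¹ := by
      intro g _ u hu
      have hgu : g * u * g⁻¹ ∈ (P : Subgroup G) := hn.conj_mem u hu g
      by_cases h1 : u = 1
      · left; simp [h1]
      have ho : orderOf u = 3 := by
        have := Subgroup.orderOf_dvd_natCard _ hu
        rw [hP] at this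
        exact ((Nat.dvd_prime Nat.prime_three).1 this).resolve_left
          fun h => h1 (orderOf_eq_one_iff.1 h)
      have hz : (P : Subgroup G) = Subgroup.zpowers u :=
        (Subgroup.eq_of_le_of_card_ge (Subgroup.zpowers_le.2 hu)
          (by rw [hP, Nat.card_zpowers, ho])).symm
      rw [hz] at hgu
      exact conj_cases ho h1 hgu
    obtain ⟨u, hu, hu1⟩ : ∃ u ∈ (P : Subgroup G), u ≠ 1 := by
      by_contra hcon
      push Not at hcon
      have : (P : Subgroup G) = ⊥ := (Subgroup.eq_bot_iff_forall _).2 hcon
      rw [this, Subgroup.card_bot] at hP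
      omega
    have hzP : (P : Subgroup G) = Subgroup.zpowers u :=
      (Subgroup.eq_of_le_of_card_ge (Subgroup.zpowers_le.2 hu) (by
        rw [hP, Nat.card_zpowers]
        have := Subgroup.orderOf_dvd_natCard _ hu
        rw [hP] at this
        rcases (Nat.dvd_prime Nat.prime_three).1 this with h | h
        · exact absurd (orderOf_eq_one_iff.1 h) hu1
        · omega)).symm
    have hTc : IsMulCommutative (T : Subgroup G) :=
      IsPGroup.isMulCommutative_of_card_eq_prime_sq (p := 2) (by rw [hT]; norm_num)
    -- the subgroup of `T` centralizing `u` is nontrivial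
    obtain ⟨z, hzT, hz2, hzu⟩ : ∃ z ∈ (T : Subgroup G), orderOf z = 2 ∧ Commute z u := by
      by_cases hcyc : ∀ s ∈ (T : Subgroup G), s * s = 1
      · by_contra hcon
        push Not at hcon
        have hinv : ∀ s ∈ (T : Subgroup G), s ≠ 1 → s * u * s⁻¹ = u⁻¹ := fun s hs hs1 =>
          (hsub s (hcyc s hs) u hu).resolve_left fun h =>
            hcon s hs (orderOf_eq_two_of_mul_self (hcyc s hs) hs1) (mul_inv_eq_iff_eq_mul.1 h)
        have h4 : ((T : Subgroup G) : Set G).ncard = 4 := by rw [← Nat.card_coe_set_eq]; exact hT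
        obtain ⟨s, hs, hs1⟩ : ∃ s ∈ (T : Subgroup G), s ≠ 1 := by
          by_contra hcon2
          push Not at hcon2
          have := Set.ncard_le_ncard (show ((T : Subgroup G) : Set G) ⊆ {1} from fun v hv => hcon2 v hv)
          rw [h4, Set.ncard_singleton] at this; omega
        obtain ⟨s', hs', hs1', hne⟩ : ∃ s' ∈ (T : Subgroup G), s' ≠ 1 ∧ s' ≠ s := by
          by_contra hcon2
          push Not at hcon2
          have hsub2 : ((T : Subgroup G) : Set G) ⊆ {1, s} := fun v hv => by
            by_cases h : v = 1
            · exact Or.inl h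
            · exact Or.inr (hcon2 v hv h)
          have := (Set.ncard_le_ncard hsub2).trans (Set.ncard_insert_le _ _)
          rw [h4, Set.ncard_singleton] at this; omega
        refine hcon (s * s') (mul_mem hs hs') (orderOf_eq_two_of_mul_self (hcyc _ (mul_mem hs hs'))
          fun h => hne (mul_left_cancel (h.trans (hcyc s hs).symm))) ?_
        have : s * s' * u * (s * s')⁻¹ = u := by
          calc s * s' * u * (s * s')⁻¹ = s * (s' * u * s'⁻¹) * s⁻¹ := by group
            _ = (s * u * s⁻¹)⁻¹ := by rw [hinv s' hs' hs1']; group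
            _ = u := by rw [hinv s hs hs1, inv_inv]
        exact mul_inv_eq_iff_eq_mul.1 this
      · push Not at hcyc
        obtain ⟨s, hs, hss⟩ := hcyc
        have h4 : orderOf s ∣ 4 := hT ▸ Subgroup.orderOf_dvd_natCard _ hs
        have hs4 : s * s * (s * s) = 1 := by
          rw [← pow_two, ← pow_two, ← pow_mul]
          exact orderOf_dvd_iff_pow_eq_one.1 h4
        refine ⟨s * s, mul_mem hs hs, orderOf_eq_two_of_mul_self hs4 hss, ?_⟩
        have hgu : s * u * s⁻¹ = u ∨ s * u * s⁻¹ = u⁻¹ := by
          have hmem : s * u * s⁻¹ ∈ (P : Subgroup G) := hn.conj_mem u hu s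
          have ho : orderOf u = 3 := by rw [← Nat.card_zpowers, ← hzP, hP]
          rw [hzP] at hmem
          exact conj_cases ho hu1 hmem
        refine mul_inv_eq_iff_eq_mul.1 ?_
        rcases hgu with h | h
        · calc s * s * u * (s * s)⁻¹ = s * (s * u * s⁻¹) * s⁻¹ := by group
            _ = u := by rw [h, h]
        · calc s * s * u * (s * s)⁻¹ = s * (s * u * s⁻¹) * s⁻¹ := by group
            _ = s * u⁻¹ * s⁻¹ := by rw [h]
            _ = (s * u * s⁻¹)⁻¹ := by group
            _ = u := by rw [h, inv_inv]
    apply hz z hz2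
    have htop : (T : Subgroup G) ⊔ (P : Subgroup G) = ⊤ := by
      apply Subgroup.eq_top_of_le_card
      have h1 : 4 ∣ Nat.card ↥((T : Subgroup G) ⊔ (P : Subgroup G)) :=
        by rw [← hT]; exact Subgroup.card_dvd_of_le le_sup_left
      have h2 : 3 ∣ Nat.card ↥((T : Subgroup G) ⊔ (P : Subgroup G)) :=
        hP.symm.dvd.trans (Subgroup.card_dvd_of_le le_sup_right)
      rw [hG]
      exact Nat.le_of_dvd Nat.card_pos (Nat.Coprime.mul_dvd_of_dvd_of_dvd (by norm_num) h1 h2)
    have hle : (T : Subgroup G) ⊔ (P : Subgroup G) ≤ Subgroup.centralizer ({z} : Set G) := by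
      refine sup_le (fun s hs => ?_) ?_
      · exact Subgroup.mem_centralizer_singleton_iff.2
          (congrArg Subtype.val (hTc.is_comm.comm (⟨s, hs⟩ : (T : Subgroup G)) ⟨z, hzT⟩))
      · rw [hzP, Subgroup.zpowers_le, Subgroup.mem_centralizer_singleton_iff]
        exact hzu.symm
    rw [htop] at hle
    exact Subgroup.mem_center_iff.2 fun g =>
      Subgroup.mem_centralizer_singleton_iff.1 (hle (Subgroup.mem_top g))
  -- the action on the cosets of `P` is faithful
  let e : G ⧸ (P : Subgroup G) ≃ Fin 4 := (Finite.equivFin _).trans (finCongr hidx)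
  let f : G →* Equiv.Perm (Fin 4) :=
    e.permCongrHom.toMonoidHom.comp (MulAction.toPermHom G (G ⧸ (P : Subgroup G)))
  have hf : Function.Injective f := by
    refine e.permCongrHom.injective.comp ?_
    rw [← MonoidHom.ker_eq_bot_iff, ← Subgroup.normalCore_eq_ker]
    rcases (Nat.dvd_prime Nat.prime_three).1
      (hP ▸ Subgroup.card_dvd_of_le (Subgroup.normalCore_le (P : Subgroup G))) with h | h
    · exact Subgroup.card_eq_one.1 h
    · exfalso
      apply hnormal
      rw [← Subgroup.eq_of_le_of_card_ge (Subgroup.normalCore_le (P : Subgroup G)) (by rw [hP, h])]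
      exact Subgroup.normalCore_normal _
  have hr : f.range = alternatingGroup (Fin 4) := by
    apply Equiv.Perm.eq_alternatingGroup_of_index_eq_two
    have h1 := f.range.card_mul_index
    rw [Nat.card_congr (MonoidHom.ofInjective hf).symm.toEquiv, hG, Nat.card_perm,
      Nat.card_eq_fintype_card, Fintype.card_fin] at h1
    norm_num [Nat.factorial] at h1
    omega
  exact ⟨(MonoidHom.ofInjective hf).trans (MulEquiv.subgroupCongr hr)⟩

end Cfsg.Agent.S0228
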