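import Cfsg.Statements.S0230
import Cfsg.Agent.Lib.Involutions.StronglyEmbedded
import Cfsg.Agent.Lib.Involutions.Isolated
-- Template for statement S0230 (row 230; see /opt/grader/pristine/manifest.json for weights).
-- Copy to Cfsg/Agent/S0230.lean and replace the sorry. The statement below is byte-identical to the frozen
-- statement Cfsg.CfsgFrozen.S0230 (Cfsg/Statements/S0230.lean; the theorem Cfsg.brauer_cube_bound_two_involution_classes);
-- the grader kernel-checks Cfsg.Agent.S0230.result against that frozen type. Keep the theorem IN THIS FILE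
-- (a `result` declared elsewhere and merely imported here is not credited); helpers may live anywhere
-- under Cfsg/Agent/.
-- import your own Cfsg.Agent.* helpers here

set_option autoImplicit false
open Cfsg

namespace Cfsg.Agent.S0230

open Cfsg.Agent.Lib.Involutions

/-- Let G be a finite group with two non-conjugate involutions, and let t be an involution whose centralizer has maximal order among centralizers of involutions. Then |G| < |C_G(t)|^3. -/
theorem result {G : Type*} [Group G] [Finite G] (s t : G) (hs : orderOf s = 2) (ht : orderOf t = 2) (hnc : ¬ IsConj s t) (hmax : ∀ u : G, orderOf u = 2 → Nat.card (Subgroup.centralizer ({u} : Set G)) ≤ Nat.card (Subgroup.centralizer ({t} : Set G))) : Nat.card G < Nat.card (Subgroup.centralizer ({t} : Set G)) ^ 3 := by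
  classical
  have := Fintype.ofFinite G
  set C := Subgroup.centralizer ({t} : Set G) with hC
  set c := Nat.card C with hc
  -- every conjugate of `s` commutes with an involution of `C`
  have hsub : Finset.univ.filter (fun u : G => IsConj s u) ⊆
      (Finset.univ.filter (fun w : G => orderOf w = 2 ∧ w ∈ C)).biUnion
        (fun w => Finset.univ.filter (fun u : G => u ∈ Subgroup.centralizer ({w} : Set G))) := by
    intro u hu
    rw [Finset.mem_filter] at hu
    obtain ⟨g, rfl⟩ := isConj_iff.1 hu.2
    obtain ⟨w, hw, hwu, hwt⟩ := exists_invol_commute (x := g * s * g⁻¹) (y := t)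
      (by rw [orderOf_conj_eq, hs]) ht (fun h => hnc (hu.2.trans h))
    rw [Finset.mem_biUnion]
    exact ⟨w, Finset.mem_filter.2 ⟨Finset.mem_univ _, hw,
      Subgroup.mem_centralizer_singleton_iff.2 hwt.eq⟩,
      Finset.mem_filter.2 ⟨Finset.mem_univ _, Subgroup.mem_centralizer_singleton_iff.2 hwu.symm.eq⟩⟩
  have h1 := (Finset.card_le_card hsub).trans Finset.card_biUnion_le
  have h2 : ∀ w ∈ Finset.univ.filter (fun w : G => orderOf w = 2 ∧ w ∈ C),
      (Finset.univ.filter (fun u : G => u ∈ Subgroup.centralizer ({w} : Set G))).card ≤ c := by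
    intro w hw
    rw [← Fintype.card_subtype, ← Nat.card_eq_fintype_card]
    exact hmax w (Finset.mem_filter.1 hw).2.1
  have h3 := h1.trans (Finset.sum_le_card_nsmul _ _ c h2)
  rw [smul_eq_mul, ← Fintype.card_subtype, ← Nat.card_eq_fintype_card] at h3
  have h4 : (Finset.univ.filter (fun w : G => orderOf w = 2 ∧ w ∈ C)).card < c := by
    calc _ < (Finset.univ.filter (fun w : G => w ∈ C)).card := Finset.card_lt_card (by
          rw [Finset.ssubset_iff_of_subset (fun w hw => by
            rw [Finset.mem_filter] at hw ⊢; exact ⟨hw.1, hw.2.2⟩)]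
          exact ⟨1, Finset.mem_filter.2 ⟨Finset.mem_univ _, one_mem C⟩, by simp⟩)
      _ = c := by rw [hc, Nat.card_eq_fintype_card, ← Fintype.card_subtype]
  have hG := card_conjugates_mul s
  have hcs : Nat.card (Subgroup.centralizer ({s} : Set G)) ≤ c := hmax s hs
  have hcpos : 0 < c := Nat.card_pos
  calc Nat.card G ≤ Nat.card {u : G // IsConj s u} * c := by
        rw [← hG]; exact Nat.mul_le_mul_left _ hcs
    _ ≤ (Finset.univ.filter (fun w : G => orderOf w = 2 ∧ w ∈ C)).card * c * c :=
        Nat.mul_le_mul_right _ h3
    _ < c * c * c := by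
        refine Nat.mul_lt_mul_of_pos_right (Nat.mul_lt_mul_of_pos_right h4 hcpos) hcpos
    _ = c ^ 3 := by ring

end Cfsg.Agent.S0230
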