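import Cfsg.Statements.S0231
import Cfsg.Agent.Lib.Involutions.StronglyEmbedded
import Cfsg.Agent.Lib.Involutions.Isolated
-- Template for statement S0231 (row 231; see /opt/grader/pristine/manifest.json for weights).
-- Copy to Cfsg/Agent/S0231.lean and replace the sorry. The statement below is byte-identical to the frozen
-- statement Cfsg.CfsgFrozen.S0231 (Cfsg/Statements/S0231.lean; the theorem Cfsg.trivial_intersection_sylow_two_one_class_of_involutions);
-- the grader kernel-checks Cfsg.Agent.S0231.result against that frozen type. Keep the theorem IN THIS FILE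
-- (a `result` declared elsewhere and merely imported here is not credited); helpers may live anywhere
-- under Cfsg/Agent/.
-- import your own Cfsg.Agent.* helpers here

set_option autoImplicit false
open scoped Pointwise
open Cfsg

namespace Cfsg.Agent.S0231

open Cfsg.Agent.Lib.Involutions

/-- Let T be a Sylow 2-subgroup of the finite group G which is not normal and which intersects every other Sylow 2-subgroup trivially. Then G has a single conjugacy class of involutions. -/
theorem result {G : Type*} [Group G] [Finite G] (T : Sylow 2 G) (hnn : ¬ (T : Subgroup G).Normal) (hTI : ∀ g : G, MulAut.conj g • (T : Subgroup G) ≠ T → MulAut.conj g • (T : Subgroup G) ⊓ T = ⊥) (s t : G) (hs : orderOf s = 2) (ht : orderOf t = 2) : IsConj s t := by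
  have : Fact (Nat.Prime 2) := ⟨Nat.prime_two⟩
  -- two Sylow subgroups sharing an involution are equal
  have hTI' : ∀ (P Q : Sylow 2 G) (x : G), orderOf x = 2 → x ∈ P → x ∈ Q → P = Q := by
    intro P Q x hx hxP hxQ
    obtain ⟨a, rfl⟩ := MulAction.exists_smul_eq G T P
    obtain ⟨b, rfl⟩ := MulAction.exists_smul_eq G T Q
    by_contra hne
    have hne' : MulAut.conj (a⁻¹ * b) • (T : Subgroup G) ≠ T := fun he => hne (Sylow.ext (by
      have he' : (T : Subgroup G).map (MulAut.conj (a⁻¹ * b)).toMonoidHom = T := he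
      rw [sylow_map_conj, sylow_map_conj]
      conv_lhs => rw [← he']
      rw [map_conj_mul, mul_inv_cancel_left]))
    have h1 : a⁻¹ * x * a ∈
        MulAut.conj (a⁻¹ * b) • (T : Subgroup G) ⊓ (T : Subgroup G) := by
      change x ∈ ((a • T : Sylow 2 G) : Subgroup G) at hxP
      change x ∈ ((b • T : Sylow 2 G) : Subgroup G) at hxQ
      rw [sylow_map_conj, mem_conj_map_iff] at hxP hxQ
      refine ⟨?_, hxP⟩
      show a⁻¹ * x * a ∈ (T : Subgroup G).map (MulAut.conj (a⁻¹ * b)).toMonoidHom
      rw [mem_conj_map_iff]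
      simpa [mul_assoc] using hxQ
    rw [hTI _ hne', Subgroup.mem_bot] at h1
    have := orderOf_conj_eq a⁻¹ x
    rw [inv_inv, h1, hx, orderOf_one] at this
    exact absurd this (by norm_num)
  have key : ∀ x y : G, orderOf x = 2 → orderOf y = 2 → ¬ IsConj x y →
      ∀ P Q : Sylow 2 G, x ∈ P → y ∈ Q → P = Q := by
    intro x y hx hy hn P Q hxP hyQ
    obtain ⟨w, hw, hwx, hwy⟩ := exists_invol_commute hx hy hn
    have hpair : ∀ u : G, orderOf u = 2 → Commute w u →
        ∃ R : Sylow 2 G, w ∈ R ∧ u ∈ R := fun u hu hwu => by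
      have hp : IsPGroup 2 (Subgroup.closure ({w, u} : Set G)) :=
        isPGroup_two_closure_pair hw hu (e := 1) (by
          rw [pow_one, hwu.mul_pow, sq, sq, invol_mul_self hw, invol_mul_self hu, one_mul])
      obtain ⟨R, hR⟩ := hp.exists_le_sylow
      exact ⟨R, hR (Subgroup.subset_closure (Or.inl rfl)), hR (Subgroup.subset_closure (Or.inr rfl))⟩
    obtain ⟨R₁, h1, h1'⟩ := hpair x hx hwx
    obtain ⟨R₂, h2, h2'⟩ := hpair y hy hwy
    rw [hTI' P R₁ x hx hxP h1', hTI' R₁ R₂ w hw h1 h2, hTI' R₂ Q y hy h2' hyQ]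
  -- there are two Sylow subgroups
  have hother : ∀ P : Sylow 2 G, ∃ Q : Sylow 2 G, Q ≠ P := by
    intro P
    by_contra hall
    push Not at hall
    refine hnn ⟨fun n hn g => ?_⟩
    have h1 : (g • T : Sylow 2 G) = T := (hall _).trans (hall T).symm
    rw [← h1, sylow_map_conj]
    exact conj_mem_map hn
  by_contra hst
  have hmem : ∀ x : G, orderOf x = 2 → ∃ P : Sylow 2 G, x ∈ P := fun x hx => by
    obtain ⟨R, hR⟩ := (IsPGroup.iff_card.2 ⟨1, by rw [Nat.card_zpowers, hx, pow_one]⟩ :
      IsPGroup 2 (Subgroup.zpowers x)).exists_le_sylow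
    exact ⟨R, hR (Subgroup.mem_zpowers x)⟩
  obtain ⟨P, hP⟩ := hmem s hs
  obtain ⟨R, hR⟩ := hmem t ht
  have hPR := key s t hs ht hst P R hP hR
  obtain ⟨Q, hQ⟩ := hother P
  obtain ⟨g, rfl⟩ := MulAction.exists_smul_eq G P Q
  have hgs : g * s * g⁻¹ ∈ (g • P : Sylow 2 G) := by
    show g * s * g⁻¹ ∈ ((g • P : Sylow 2 G) : Subgroup G)
    rw [sylow_map_conj]; exact conj_mem_map hP
  exact hQ (key t (g * s * g⁻¹) ht (by rw [orderOf_conj_eq, hs])
    (fun h => hst ((isConj_iff.2 ⟨g, rfl⟩ : IsConj s (g * s * g⁻¹)).trans h.symm)) P (g • P)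
    (hPR ▸ hR) hgs).symm

end Cfsg.Agent.S0231
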