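import Cfsg.Statements.S0232
import Cfsg.Agent.Lib.Involutions.BrauerFowler
-- Template for statement S0232 (row 232; see /opt/grader/pristine/manifest.json for weights).
-- Copy to Cfsg/Agent/S0232.lean and replace the sorry. The statement below is byte-identical to the frozen
-- statement Cfsg.CfsgFrozen.S0232 (Cfsg/Statements/S0232.lean; the theorem Cfsg.even_order_group_has_large_proper_subgroup);
-- the grader kernel-checks Cfsg.Agent.S0232.result against that frozen type. Keep the theorem IN THIS FILE
-- (a `result` declared elsewhere and merely imported here is not credited); helpers may live anywhere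
-- under Cfsg/Agent/.
-- import your own Cfsg.Agent.* helpers here

set_option autoImplicit false
open Cfsg

namespace Cfsg.Agent.S0232

open Cfsg.Agent.Lib.Involutions

theorem exists_large.{u} : ∀ (G : Type u) [Group G] [Finite G] (N : ℕ), Nat.card G = N →
    Even (Nat.card G) → 2 < Nat.card G →
    ∃ H : Subgroup G, H ≠ ⊤ ∧ Nat.card G < (Nat.card H) ^ 3 := by
  intro G _ _ N
  induction N using Nat.strong_induction_on generalizing G with
  | _ N ih =>
    intro hN heven hgt
    by_cases h : ∃ H : Subgroup G, H.index = 2
    · obtain ⟨H, hH⟩ := h
      have hc := H.card_mul_index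
      rw [hH] at hc
      refine ⟨H, fun e => ?_, ?_⟩
      · rw [e, Subgroup.index_top] at hH
        omega
      · rw [← hc] at hgt ⊢
        have : 2 ≤ Nat.card H := by omega
        calc Nat.card H * 2 < Nat.card H * 4 := by omega
          _ ≤ Nat.card H * (Nat.card H * Nat.card H) :=
            Nat.mul_le_mul_left _ (Nat.mul_le_mul this this)
          _ = _ := by ring
    have hno : ∀ K : Subgroup G, K.index ≠ 2 := fun K hK => h ⟨K, hK⟩
    rcases Nat.even_or_odd (Nat.card (Subgroup.center G)) with hZ | hZ
    · obtain ⟨z, hz⟩ := exists_invol_of_even (G := Subgroup.center G) hZ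
      have hz2 : orderOf (z : G) = 2 := by rw [Subgroup.orderOf_coe, hz]
      set Z := Subgroup.zpowers (z : G) with hZdef
      have hle : Z ≤ Subgroup.center G := Subgroup.zpowers_le.2 z.2
      have : Z.Normal := ⟨fun a ha g => by
        have := Subgroup.mem_center_iff.1 (hle ha) g
        rwa [this, mul_inv_cancel_right]⟩
      have hZc : Nat.card Z = 2 := by rw [hZdef, Nat.card_zpowers, hz2]
      have hq : Nat.card G = 2 * Nat.card (G ⧸ Z) := by
        rw [Subgroup.card_eq_card_quotient_mul_card_subgroup Z, hZc, mul_comm]
      rcases Nat.lt_or_ge 2 (Nat.card (G ⧸ Z)) with hq2 | hq2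
      · rcases Nat.even_or_odd (Nat.card (G ⧸ Z)) with he | ho
        · obtain ⟨K, hK, hlt⟩ := ih _ (by omega) (G ⧸ Z) rfl he hq2
          refine ⟨K.comap (QuotientGroup.mk' Z), fun e => hK ?_, ?_⟩
          · rw [← Subgroup.map_comap_eq_self_of_surjective (QuotientGroup.mk'_surjective Z) K, e,
              Subgroup.map_top_of_surjective _ (QuotientGroup.mk'_surjective Z)]
          · have hidx : (K.comap (QuotientGroup.mk' Z)).index = K.index :=
              K.index_comap_of_surjective (QuotientGroup.mk'_surjective Z)
            have h1 := (K.comap (QuotientGroup.mk' Z)).card_mul_index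
            rw [hidx, hq, ← K.card_mul_index, ← mul_assoc] at h1
            rw [mul_right_cancel₀ K.index_ne_zero_of_finite h1, mul_pow, hq]
            omega
        · have : Fact (Nat.Prime 2) := ⟨Nat.prime_two⟩
          obtain ⟨T⟩ : Nonempty (Sylow 2 G) := inferInstance
          have hT : Nat.card (T : Subgroup G) = 2 := by
            rw [T.card_eq_multiplicity, hq, Nat.factorization_mul two_ne_zero (by omega)]
            simp [Nat.prime_two.factorization_self,
              Nat.factorization_eq_zero_of_not_dvd ho.not_two_dvd_nat]
          obtain ⟨H, hH⟩ := exists_index_two_of_cyclic_sylow heven T (isCyclic_of_prime_card hT)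
          exact absurd hH (hno H)
      · have h4 : Nat.card G = 4 := by
          have : 0 < Nat.card (G ⧸ Z) := Nat.card_pos
          omega
        obtain ⟨H, hH⟩ := exists_index_two_of_two_group
          (IsPGroup.of_card (p := 2) (n := 2) (by rw [h4]; norm_num)) (by omega)
        exact absurd hH (hno H)
    · obtain ⟨H, hH, hmax, hBF⟩ := brauer_fowler heven hZ hno
      obtain ⟨t, ht⟩ := exists_invol_of_even heven
      refine ⟨H, hH, ?_⟩
      set n := Nat.card {u : G // orderOf u = 2}
      set k := Nat.card H
      have hnk : Nat.card G ≤ n * k := (card_le_invol_mul_centralizer ht).trans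
        (Nat.mul_le_mul_left n (hmax _ (centralizer_ne_top_of_invol hZ ht)))
      have hn0 : 0 < n := by
        rcases Nat.eq_zero_or_pos n with e | e
        · rw [e, zero_mul] at hnk; omega
        · exact e
      have hk0 : 0 < k := Nat.card_pos
      have hd := H.card_mul_index
      have h2 : Nat.card G * (Nat.card G + n) ≤ (n * k) * (n * k + n) :=
        Nat.mul_le_mul hnk (by omega)
      have h3 : 2 * H.index * n ^ 2 < k * (k + 1) * n ^ 2 := by
        calc _ < _ := hBF
          _ ≤ _ := h2
          _ = _ := by ring
      have h4 := Nat.lt_of_mul_lt_mul_right h3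
      have h5 : k * (k + 1) ≤ 2 * k ^ 2 := by nlinarith
      rw [← hd]
      calc k * H.index < k * k ^ 2 := by
            refine Nat.mul_lt_mul_of_pos_left ?_ hk0
            omega
        _ = _ := by ring

/-- A finite group G of even order greater than 2 has a proper subgroup H with |G| < |H|^3. -/
theorem result {G : Type*} [Group G] [Finite G] (heven : Even (Nat.card G)) (hgt : 2 < Nat.card G) : ∃ H : Subgroup G, H ≠ ⊤ ∧ Nat.card G < (Nat.card H) ^ 3 := by
  exact exists_large G (Nat.card G) rfl heven hgt

end Cfsg.Agent.S0232
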