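import Cfsg.Statements.S0233
import Cfsg.Agent.Lib.Involutions.BrauerFowler
-- Template for statement S0233 (row 233; see /opt/grader/pristine/manifest.json for weights).
-- Copy to Cfsg/Agent/S0233.lean and replace the sorry. The statement below is byte-identical to the frozen
-- statement Cfsg.CfsgFrozen.S0233 (Cfsg/Statements/S0233.lean; the theorem Cfsg.brauer_fowler_index_bound_with_involution_count);
-- the grader kernel-checks Cfsg.Agent.S0233.result against that frozen type. Keep the theorem IN THIS FILE
-- (a `result` declared elsewhere and merely imported here is not credited); helpers may live anywhere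
-- under Cfsg/Agent/.
-- import your own Cfsg.Agent.* helpers here

set_option autoImplicit false
open Cfsg

namespace Cfsg.Agent.S0233

open Cfsg.Agent.Lib.Involutions

/-- Let G be a finite group of even order with exactly n involutions whose centre has odd order, and put a = |G|/n. Then G has a proper subgroup H with |G : H| = 2 or |G : H| < a(a+1)/2; over ℕ the latter reads 2·|G:H|·n² < |G|·(|G| + n). -/
theorem result {G : Type*} [Group G] [Finite G] (heven : Even (Nat.card G)) (hZ : Odd (Nat.card (Subgroup.center G))) : ∃ H : Subgroup G, H ≠ ⊤ ∧ (H.index = 2 ∨ 2 * H.index * (Nat.card {t : G // orderOf t = 2}) ^ 2 < Nat.card G * (Nat.card G + Nat.card {t : G // orderOf t = 2})) := by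
  by_cases h : ∃ H : Subgroup G, H.index = 2
  · obtain ⟨H, hH⟩ := h
    refine ⟨H, fun e => ?_, Or.inl hH⟩
    rw [e, Subgroup.index_top] at hH
    omega
  · obtain ⟨H, hH, -, h2⟩ := brauer_fowler heven hZ (fun K hK => h ⟨K, hK⟩)
    exact ⟨H, hH, Or.inr h2⟩

end Cfsg.Agent.S0233
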