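import Cfsg.Statements.S0234
import Cfsg.Agent.Lib.Involutions.BrauerFowler
import Cfsg.Agent.Lib.Characters.Burnside
-- Template for statement S0234 (row 234; see /opt/grader/pristine/manifest.json for weights).
-- Copy to Cfsg/Agent/S0234.lean and replace the sorry. The statement below is byte-identical to the frozen
-- statement Cfsg.CfsgFrozen.S0234 (Cfsg/Statements/S0234.lean; the theorem Cfsg.simple_group_involutions_less_than_third);
-- the grader kernel-checks Cfsg.Agent.S0234.result against that frozen type. Keep the theorem IN THIS FILE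
-- (a `result` declared elsewhere and merely imported here is not credited); helpers may live anywhere
-- under Cfsg/Agent/.
-- import your own Cfsg.Agent.* helpers here

set_option autoImplicit false
open Cfsg

namespace Cfsg.Agent.S0234

open Cfsg.Agent.Lib.Involutions

/-- In a finite simple group G of even order greater than 2, the number n of involutions satisfies 3n < |G|. -/
theorem result {G : Type*} [Group G] [Finite G] [IsSimpleGroup G] (heven : Even (Nat.card G)) (hgt : 2 < Nat.card G) : 3 * Nat.card {t : G // orderOf t = 2} < Nat.card G := by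
  classical
  by_contra hlt
  rw [Nat.not_lt] at hlt
  have hnsol : ¬ Group.IsSolvable G := by
    intro h
    have := h
    have hcomm : ∀ a b : G, a * b = b * a := IsSimpleGroup.comm_iff_isSolvable.2 h
    let _ : CommGroup G := { ‹Group G› with mul_comm := hcomm }
    have hp := IsSimpleGroup.prime_card (α := G)
    rcases hp.eq_two_or_odd' with h2 | ho
    · omega
    · exact (Nat.not_even_iff_odd.2 ho) heven
  have hZb : Subgroup.center G = ⊥ := by
    refine (Subgroup.Normal.eq_bot_or_eq_top (H := Subgroup.center G) inferInstance).resolve_right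
      fun h => hnsol ?_
    have hcomm : ∀ a b : G, a * b = b * a := fun a b =>
      (Subgroup.mem_center_iff.1 (h ▸ Subgroup.mem_top b) a)
    exact IsSimpleGroup.comm_iff_isSolvable.1 hcomm
  have hZ : Odd (Nat.card (Subgroup.center G)) := by rw [hZb, Subgroup.card_bot]; exact odd_one
  have hno : ∀ K : Subgroup G, K.index ≠ 2 := by
    intro K hK
    rcases (Subgroup.normal_of_index_eq_two hK).eq_bot_or_eq_top with rfl | rfl
    · rw [Subgroup.index_bot] at hK
      omega
    · simp at hK
  obtain ⟨H, hH, -, hBF⟩ := brauer_fowler heven hZ hno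
  set n := Nat.card {t : G // orderOf t = 2} with hn
  have hn0 : 0 < n := by
    obtain ⟨t, ht⟩ := exists_invol_of_even heven
    have : Nonempty {t : G // orderOf t = 2} := ⟨⟨t, ht⟩⟩
    exact Nat.card_pos
  have hd : H.index ≤ 5 := by
    have h1 : Nat.card G * (Nat.card G + n) ≤ (3 * n) * (3 * n + n) :=
      Nat.mul_le_mul hlt (by omega)
    have h2 : 2 * H.index * n ^ 2 < 12 * n ^ 2 := by
      calc _ < _ := hBF
        _ ≤ _ := h1
        _ = _ := by ring
    have := Nat.lt_of_mul_lt_mul_right h2
    omega
  let e : G ⧸ H ≃ Fin H.index := (Finite.equivFin (G ⧸ H)).trans (finCongr H.index_eq_card.symm)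
  let f : G →* Equiv.Perm (Fin 5) := (Equiv.Perm.viaEmbeddingHom
    (e.toEmbedding.trans (Fin.castLEEmb hd))).comp (MulAction.toPermHom G (G ⧸ H))
  have hf : Function.Injective f := by
    refine (Equiv.Perm.viaEmbeddingHom_injective _).comp ?_
    rw [← MonoidHom.ker_eq_bot_iff, ← Subgroup.normalCore_eq_ker]
    exact (Subgroup.Normal.eq_bot_or_eq_top (Subgroup.normalCore_normal H)).resolve_right
      fun h => hH (top_le_iff.1 (h ▸ Subgroup.normalCore_le H))
  have hsign : ∀ g, Equiv.Perm.sign (f g) = 1 := by
    intro g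
    by_contra hg
    have hg' : Equiv.Perm.sign (f g) = -1 := (Int.units_eq_one_or _).resolve_left hg
    apply hno (Equiv.Perm.sign.comp f).ker
    rw [Subgroup.index_ker]
    have : (Equiv.Perm.sign.comp f).range = ⊤ := by
      rw [Subgroup.eq_top_iff']
      intro u
      rcases Int.units_eq_one_or u with rfl | rfl
      · exact one_mem _
      · exact ⟨g, hg'⟩
    rw [this, Subgroup.card_top, Nat.card_eq_fintype_card, Fintype.card_units_int]
  let φ : G →* alternatingGroup (Fin 5) :=
    f.codRestrict _ fun g => Equiv.Perm.mem_alternatingGroup.2 (hsign g)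
  have hφ : Function.Injective φ := fun a b h => hf (congrArg Subtype.val h)
  have hA5 : Nat.card (alternatingGroup (Fin 5)) = 60 := by
    rw [nat_card_alternatingGroup, Nat.card_eq_fintype_card, Fintype.card_fin]; rfl
  have hdvd : Nat.card G ∣ 60 := hA5 ▸ Subgroup.card_dvd_of_injective φ hφ
  have h15 : n ≤ 15 := by
    have hc : Fintype.card {g : Equiv.Perm (Fin 5) //
        Equiv.Perm.sign g = 1 ∧ g * g = 1 ∧ g ≠ 1} = 15 := by
      set_option maxRecDepth 10000 in decide
    rw [← hc, ← Nat.card_eq_fintype_card]
    refine Nat.card_le_card_of_injective (fun t => ⟨f t.1, hsign t.1, ?_, ?_⟩) ?_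
    · rw [← map_mul, invol_mul_self t.2, map_one]
    · exact fun h => invol_ne_one t.2 (hf (by rw [h, map_one]))
    · intro a b h
      exact Subtype.ext (hf (congrArg (fun s : {g : Equiv.Perm (Fin 5) //
        Equiv.Perm.sign g = 1 ∧ g * g = 1 ∧ g ≠ 1} => s.1) h))
  have h30 : Nat.card G ≠ 30 := by
    intro h
    have hr : φ.range.index = 2 := by
      have h1 := φ.range.card_mul_index
      rw [hA5, Nat.card_congr (MonoidHom.ofInjective hφ).symm.toEquiv, h] at h1
      omega
    have := alternatingGroup.isSimpleGroup_five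
    rcases (Subgroup.normal_of_index_eq_two hr).eq_bot_or_eq_top with e | e
    · rw [e, Subgroup.index_bot, hA5] at hr; omega
    · rw [e, Subgroup.index_top] at hr; omega
  have hle : Nat.card G ≤ 45 := by omega
  obtain ⟨k, hk⟩ := hdvd
  apply hnsol
  obtain ⟨m, hm⟩ := heven
  rw [← two_mul] at hm
  have h4 : Nat.card G = 4 ∨ Nat.card G = 6 ∨ Nat.card G = 10 ∨ Nat.card G = 12 ∨
      Nat.card G = 20 := by
    have hk' : k ≤ 60 := by nlinarith
    rw [hm] at hk hle h30 hgt ⊢
    have hm' : m ≤ 22 := by omega
    interval_cases m <;> omega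
  rcases h4 with h | h | h | h | h
  · exact Cfsg.Agent.Lib.Characters.isSolvable_of_card_eq_pow_mul_pow Nat.prime_two Nat.prime_three
      (a := 2) (b := 0) (by rw [h]; norm_num)
  · exact Cfsg.Agent.Lib.Characters.isSolvable_of_card_eq_pow_mul_pow Nat.prime_two Nat.prime_three
      (a := 1) (b := 1) (by rw [h]; norm_num)
  · exact Cfsg.Agent.Lib.Characters.isSolvable_of_card_eq_pow_mul_pow Nat.prime_two Nat.prime_five
      (a := 1) (b := 1) (by rw [h]; norm_num)
  · exact Cfsg.Agent.Lib.Characters.isSolvable_of_card_eq_pow_mul_pow Nat.prime_two Nat.prime_three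
      (a := 2) (b := 1) (by rw [h]; norm_num)
  · exact Cfsg.Agent.Lib.Characters.isSolvable_of_card_eq_pow_mul_pow Nat.prime_two Nat.prime_five
      (a := 2) (b := 1) (by rw [h]; norm_num)

end Cfsg.Agent.S0234
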