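import Cfsg.Statements.S0235
import Cfsg.Agent.Lib.Involutions.Basic
-- Template for statement S0235 (row 235; see /opt/grader/pristine/manifest.json for weights).
-- Copy to Cfsg/Agent/S0235.lean and replace the sorry. The statement below is byte-identical to the frozen
-- statement Cfsg.CfsgFrozen.S0235 (Cfsg/Statements/S0235.lean; the theorem Cfsg.involution_pairs_with_product_eq_inverting_involutions);
-- the grader kernel-checks Cfsg.Agent.S0235.result against that frozen type. Keep the theorem IN THIS FILE
-- (a `result` declared elsewhere and merely imported here is not credited); helpers may live anywhere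
-- under Cfsg/Agent/.
-- import your own Cfsg.Agent.* helpers here

set_option autoImplicit false
open Cfsg

namespace Cfsg.Agent.S0235

open Cfsg.Agent.Lib.Involutions

/-- If x² ≠ 1, the ordered pairs (u, v) of involutions with uv = x correspond bijectively to the involutions t with t x t⁻¹ = x⁻¹ (via (u, v) ↦ u), so the two counts agree. -/
theorem result {G : Type*} [Group G] [Finite G] (x : G) (hx : x ^ 2 ≠ 1) : Nat.card {p : G × G // orderOf p.1 = 2 ∧ orderOf p.2 = 2 ∧ p.1 * p.2 = x} = Nat.card {t : G // orderOf t = 2 ∧ t * x * t⁻¹ = x⁻¹} := by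
  refine Nat.card_congr
    { toFun := fun p => ⟨p.1.1, p.2.1, ?_⟩
      invFun := fun t => ⟨(t, t * x), t.2.1, ?_, ?_⟩
      left_inv := fun p => ?_
      right_inv := fun t => rfl }
  · obtain ⟨⟨u, v⟩, hu, hv, huv⟩ := p
    simp only at huv ⊢
    rw [← huv]
    exact conj_mul_left_invol hu hv
  · refine inverts_mul_invol t.2.1 t.2.2 fun h => hx ?_
    have h2 : x = (t : G) := by rw [← invol_inv t.2.1]; exact eq_inv_of_mul_eq_one_right h
    rw [h2, sq, invol_mul_self t.2.1]
  · show (t : G) * (t * x) = x
    rw [← mul_assoc, invol_mul_self t.2.1, one_mul]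
  · obtain ⟨⟨u, v⟩, hu, hv, huv⟩ := p
    ext <;> simp only
    rw [← huv, ← mul_assoc, invol_mul_self hu, one_mul]

end Cfsg.Agent.S0235
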