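import Cfsg.Statements.S0236
import Cfsg.Agent.Lib.Involutions.Basic
-- Template for statement S0236 (row 236; see /opt/grader/pristine/manifest.json for weights).
-- Copy to Cfsg/Agent/S0236.lean and replace the sorry. The statement below is byte-identical to the frozen
-- statement Cfsg.CfsgFrozen.S0236 (Cfsg/Statements/S0236.lean; the theorem Cfsg.involution_pairs_with_product_an_involution);
-- the grader kernel-checks Cfsg.Agent.S0236.result against that frozen type. Keep the theorem IN THIS FILE
-- (a `result` declared elsewhere and merely imported here is not credited); helpers may live anywhere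
-- under Cfsg/Agent/.
-- import your own Cfsg.Agent.* helpers here

set_option autoImplicit false
open Cfsg

namespace Cfsg.Agent.S0236

open Cfsg.Agent.Lib.Involutions

/-- If x is an involution, the number of ordered pairs (u, v) of involutions with uv = x, plus one, equals the number of involutions in the centralizer of x. -/
theorem result {G : Type*} [Group G] [Finite G] (x : G) (hx : orderOf x = 2) : Nat.card {p : G × G // orderOf p.1 = 2 ∧ orderOf p.2 = 2 ∧ p.1 * p.2 = x} + 1 = Nat.card {t : G // orderOf t = 2 ∧ Commute t x} := by
  classical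
  have := Fintype.ofFinite G
  have hmem : x ∈ Finset.univ.filter (fun t : G => orderOf t = 2 ∧ Commute t x) :=
    Finset.mem_filter.2 ⟨Finset.mem_univ _, hx, Commute.refl x⟩
  rw [Nat.card_eq_fintype_card, Nat.card_eq_fintype_card, Fintype.card_subtype,
    Fintype.card_subtype, ← Finset.card_erase_add_one hmem]
  congr 1
  apply Finset.card_bij (fun p _ => p.1)
  · rintro ⟨u, v⟩ hp
    rw [Finset.mem_filter] at hp
    obtain ⟨-, hu, hv, huv⟩ := hp
    simp only [Finset.mem_erase, Finset.mem_filter, Finset.mem_univ, true_and]
    refine ⟨?_, hu, ?_⟩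
    · rintro rfl
      exact invol_ne_one hv (mul_eq_left.1 huv)
    · have h := conj_mul_left_invol hu hv
      simp only at huv
      rw [huv, invol_inv hx, mul_inv_eq_iff_eq_mul] at h
      exact h
  · rintro ⟨u, v⟩ hp ⟨u', v'⟩ hp' (h : u = u')
    rw [Finset.mem_filter] at hp hp'
    subst h
    have h2 : u * v = u * v' := hp.2.2.2.trans hp'.2.2.2.symm
    rw [mul_left_cancel h2]
  · intro t ht
    simp only [Finset.mem_erase, Finset.mem_filter, Finset.mem_univ, true_and] at ht
    obtain ⟨hne, ht, hc⟩ := ht
    refine ⟨(t, t * x), Finset.mem_filter.2 ⟨Finset.mem_univ _, ht, ?_, ?_⟩, rfl⟩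
    · refine inverts_mul_invol ht ?_ fun h => hne ?_
      · rw [invol_inv hx, hc.eq, mul_inv_cancel_right]
      · rw [← invol_inv ht]; exact (eq_inv_of_mul_eq_one_right h).symm
    · show t * (t * x) = x
      rw [← mul_assoc, invol_mul_self ht, one_mul]

end Cfsg.Agent.S0236
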