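import Cfsg.Statements.S0237
import Cfsg.Agent.Lib.Involutions.Counting
-- Template for statement S0237 (row 237; see /opt/grader/pristine/manifest.json for weights).
-- Copy to Cfsg/Agent/S0237.lean and replace the sorry. The statement below is byte-identical to the frozen
-- statement Cfsg.CfsgFrozen.S0237 (Cfsg/Statements/S0237.lean; the theorem Cfsg.card_inverting_elements_of_real_element);
-- the grader kernel-checks Cfsg.Agent.S0237.result against that frozen type. Keep the theorem IN THIS FILE
-- (a `result` declared elsewhere and merely imported here is not credited); helpers may live anywhere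
-- under Cfsg/Agent/.
-- import your own Cfsg.Agent.* helpers here

set_option autoImplicit false
open Cfsg

namespace Cfsg.Agent.S0237

open Cfsg.Agent.Lib.Involutions

/-- If x is real (conjugate to x⁻¹) in a finite group G, the number of g with g x g⁻¹ = x⁻¹ equals |C_G(x)|. -/
theorem result {G : Type*} [Group G] [Finite G] (x : G) (hreal : IsConj x x⁻¹) : Nat.card {g : G // g * x * g⁻¹ = x⁻¹} = Nat.card (Subgroup.centralizer ({x} : Set G)) := by
  exact card_conj_eq_card_centralizer x x⁻¹ hreal

end Cfsg.Agent.S0237
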