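import Cfsg.Statements.S0238
import Cfsg.Agent.Lib.Involutions.Counting
-- Template for statement S0238 (row 238; see /opt/grader/pristine/manifest.json for weights).
-- Copy to Cfsg/Agent/S0238.lean and replace the sorry. The statement below is byte-identical to the frozen
-- statement Cfsg.CfsgFrozen.S0238 (Cfsg/Statements/S0238.lean; the theorem Cfsg.involution_pairs_with_product_le_centralizer);
-- the grader kernel-checks Cfsg.Agent.S0238.result against that frozen type. Keep the theorem IN THIS FILE
-- (a `result` declared elsewhere and merely imported here is not credited); helpers may live anywhere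
-- under Cfsg/Agent/.
-- import your own Cfsg.Agent.* helpers here

set_option autoImplicit false
open Cfsg

namespace Cfsg.Agent.S0238

open Cfsg.Agent.Lib.Involutions

/-- For every x in a finite group G, the number c of ordered pairs (u, v) of involutions with uv = x is at most |C_G(x)|; c = 0 when x is not conjugate to x⁻¹; and c + 2 ≤ |C_G(x)| when x is an involution. -/
theorem result {G : Type*} [Group G] [Finite G] (x : G) : Nat.card {p : G × G // orderOf p.1 = 2 ∧ orderOf p.2 = 2 ∧ p.1 * p.2 = x} ≤ Nat.card (Subgroup.centralizer ({x} : Set G)) ∧ (¬ IsConj x x⁻¹ → Nat.card {p : G × G // orderOf p.1 = 2 ∧ orderOf p.2 = 2 ∧ p.1 * p.2 = x} = 0) ∧ (orderOf x = 2 → Nat.card {p : G × G // orderOf p.1 = 2 ∧ orderOf p.2 = 2 ∧ p.1 * p.2 = x} + 2 ≤ Nat.card (Subgroup.centralizer ({x} : Set G))) := by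
  set P := {p : G × G // orderOf p.1 = 2 ∧ orderOf p.2 = 2 ∧ p.1 * p.2 = x} with hP
  have key : ∀ p : P, (p.1).1 * x * (p.1).1⁻¹ = x⁻¹ := by
    rintro ⟨⟨u, v⟩, hu, hv, huv⟩
    simp only at huv ⊢
    rw [← huv]
    exact conj_mul_left_invol hu hv
  have hinj : ∀ p q : P, (p.1).1 = (q.1).1 → p = q := by
    rintro ⟨⟨u, v⟩, -, -, h⟩ ⟨⟨u', v'⟩, -, -, h'⟩ (e : u = u')
    subst e
    simp only at h h'
    have h2 : v = v' := mul_left_cancel (h.trans h'.symm)
    subst h2
    rfl
  have hno : ¬ IsConj x x⁻¹ → Nat.card P = 0 := fun hn => by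
    have : IsEmpty P := ⟨fun p => hn (isConj_iff.2 ⟨_, key p⟩)⟩
    exact Nat.card_of_isEmpty
  refine ⟨?_, hno, ?_⟩
  · by_cases hreal : IsConj x x⁻¹
    · rw [← card_conj_eq_card_centralizer x x⁻¹ hreal]
      exact Nat.card_le_card_of_injective (fun p : P => (⟨_, key p⟩ : {g : G // g * x * g⁻¹ = x⁻¹}))
        fun p q h => hinj p q (congrArg Subtype.val h)
    · rw [hno hreal]
      exact Nat.zero_le _
  · intro hx
    classical
    have := Fintype.ofFinite G
    have hsub : ∀ p : P, (p.1).1 ∈ Subgroup.centralizer ({x} : Set G) := fun p => by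
      rw [Subgroup.mem_centralizer_singleton_iff]
      have := key p
      rwa [invol_inv hx, mul_inv_eq_iff_eq_mul] at this
    let F : P ⊕ Bool → Subgroup.centralizer ({x} : Set G) := fun s => match s with
      | .inl p => ⟨_, hsub p⟩
      | .inr true => 1
      | .inr false => ⟨x, Subgroup.mem_centralizer_singleton_iff.2 rfl⟩
    have hF : Function.Injective F := by
      rintro (p | _ | _) (q | _ | _) h
      all_goals have h' := congrArg Subtype.val h
      all_goals simp only [F] at h'
      · exact congrArg _ (hinj p q h')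
      · exfalso
        obtain ⟨⟨u, v⟩, hu, hv, huv⟩ := p
        simp only at h' huv
        subst h'
        exact invol_ne_one hv (mul_eq_left.1 huv)
      · exact absurd h' (invol_ne_one p.2.1)
      · exfalso
        obtain ⟨⟨u, v⟩, hu, hv, huv⟩ := q
        simp only at h' huv
        subst h'
        exact invol_ne_one hv (mul_eq_left.1 huv)
      · rfl
      · exact absurd h' (invol_ne_one hx)
      · exact absurd h'.symm (invol_ne_one q.2.1)
      · exact absurd h'.symm (invol_ne_one hx)
      · rfl
    simpa [Nat.card_sum] using Nat.card_le_card_of_injective F hF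

end Cfsg.Agent.S0238
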