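import Cfsg.Statements.S0239
import Cfsg.Agent.Lib.Involutions.Basic
-- Template for statement S0239 (row 239; see /opt/grader/pristine/manifest.json for weights).
-- Copy to Cfsg/Agent/S0239.lean and replace the sorry. The statement below is byte-identical to the frozen
-- statement Cfsg.CfsgFrozen.S0239 (Cfsg/Statements/S0239.lean; the theorem Cfsg.nontrivial_real_element_forces_even_order);
-- the grader kernel-checks Cfsg.Agent.S0239.result against that frozen type. Keep the theorem IN THIS FILE
-- (a `result` declared elsewhere and merely imported here is not credited); helpers may live anywhere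
-- under Cfsg/Agent/.
-- import your own Cfsg.Agent.* helpers here

set_option autoImplicit false
open Cfsg

namespace Cfsg.Agent.S0239

open Cfsg.Agent.Lib.Involutions

/-- If some nontrivial element x of a finite group G is conjugate to x⁻¹, then |G| is even. -/
theorem result {G : Type*} [Group G] [Finite G] (x : G) (hx : x ≠ 1) (hreal : IsConj x x⁻¹) : Even (Nat.card G) := by
  obtain ⟨g, hg⟩ := isConj_iff.1 hreal
  by_contra he
  rw [Nat.not_even_iff_odd] at he
  obtain ⟨m, hm⟩ := he
  have h2 : g ^ 2 * x * (g ^ 2)⁻¹ = x := by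
    calc g ^ 2 * x * (g ^ 2)⁻¹ = g * (g * x * g⁻¹) * g⁻¹ := by
          simp only [sq, mul_inv_rev, mul_assoc]
      _ = g * x⁻¹ * g⁻¹ := by rw [hg]
      _ = (g * x * g⁻¹)⁻¹ := by rw [conj_inv]
      _ = x := by rw [hg, inv_inv]
  have hc : Commute (g ^ 2) x := mul_inv_eq_iff_eq_mul.1 h2
  have hg1 : (g ^ 2) ^ (m + 1) = g := by
    rw [← pow_mul, show 2 * (m + 1) = (2 * m + 1) + 1 by ring, pow_succ, ← hm, pow_card_eq_one',
      one_mul]
  have hc' : Commute g x := hg1 ▸ hc.pow_left (m + 1)
  rw [hc'.eq, mul_inv_cancel_right] at hg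
  have hord : orderOf x ∣ 2 := orderOf_dvd_of_pow_eq_one (by rw [sq]; exact mul_eq_one_iff_eq_inv.2 hg)
  rcases (Nat.dvd_prime Nat.prime_two).1 hord with h | h
  · exact hx (orderOf_eq_one_iff.1 h)
  · have := orderOf_dvd_natCard x
    rw [h, hm] at this
    omega

end Cfsg.Agent.S0239
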