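import Cfsg.Statements.S0240
import Cfsg.Agent.Lib.Involutions.Basic
-- Template for statement S0240 (row 240; see /opt/grader/pristine/manifest.json for weights).
-- Copy to Cfsg/Agent/S0240.lean and replace the sorry. The statement below is byte-identical to the frozen
-- statement Cfsg.CfsgFrozen.S0240 (Cfsg/Statements/S0240.lean; the theorem Cfsg.large_subgroup_contains_strongly_real_element);
-- the grader kernel-checks Cfsg.Agent.S0240.result against that frozen type. Keep the theorem IN THIS FILE
-- (a `result` declared elsewhere and merely imported here is not credited); helpers may live anywhere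
-- under Cfsg/Agent/.
-- import your own Cfsg.Agent.* helpers here

set_option autoImplicit false
open Cfsg

namespace Cfsg.Agent.S0240

open Cfsg.Agent.Lib.Involutions

/-- Let G be a finite group with n involutions and H a subgroup with |H|·(n+1) > |G|. Then some nontrivial h ∈ H is strongly real in G: an involution t of G satisfies t h t⁻¹ = h⁻¹. -/
theorem result {G : Type*} [Group G] [Finite G] (H : Subgroup G) (hH : Nat.card G < Nat.card H * (Nat.card {t : G // orderOf t = 2} + 1)) : ∃ h : G, h ∈ H ∧ h ≠ 1 ∧ ∃ t : G, orderOf t = 2 ∧ t * h * t⁻¹ = h⁻¹ := by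
  classical
  have := Fintype.ofFinite G
  by_contra hcon
  push Not at hcon
  -- the cosets `tH`, `t` an involution or `1`, are pairwise distinct
  let F : ({t : G // orderOf t = 2} ⊕ Unit) × H → G := fun p => match p with
    | (.inl t, h) => (t : G) * h
    | (.inr _, h) => h
  have hno : ∀ t : G, orderOf t = 2 → t ∉ H := fun t ht htH =>
    hcon t htH (invol_ne_one ht) t ht (by rw [mul_inv_cancel_right, invol_inv ht])
  have hF : Function.Injective F := by
    rintro ⟨(t | _), h⟩ ⟨(s | _), k⟩ e <;> simp only [F] at e
    · have hst : (s : G)⁻¹ * t = (k : G) * (h : G)⁻¹ := by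
        rw [eq_mul_inv_iff_mul_eq, mul_assoc, e, inv_mul_cancel_left]
      have hts : (t : G) = s := by
        by_contra hne
        refine hcon ((s : G)⁻¹ * t) (hst ▸ mul_mem k.2 (inv_mem h.2)) ?_ s s.2 ?_
        · rw [Ne, inv_mul_eq_one]; exact fun h' => hne h'.symm
        · have h2 := conj_mul_left_invol s.2 t.2
          rw [invol_inv s.2] at h2 ⊢
          exact h2
      obtain rfl : t = s := Subtype.ext hts
      rw [Subtype.ext (mul_left_cancel e)]
    · exact absurd (eq_mul_inv_of_mul_eq e ▸ mul_mem k.2 (inv_mem h.2)) (hno t t.2)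
    · exact absurd (eq_mul_inv_of_mul_eq e.symm ▸ mul_mem h.2 (inv_mem k.2)) (hno s s.2)
    · rw [Subtype.ext e]
  have := Nat.card_le_card_of_injective F hF
  rw [Nat.card_prod, Nat.card_sum, Nat.card_unique (α := Unit)] at this
  rw [mul_comm (Nat.card H)] at hH
  omega

end Cfsg.Agent.S0240
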