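import Cfsg.Statements.S0241
import Cfsg.Agent.Lib.Involutions.Basic
-- Template for statement S0241 (row 241; see /opt/grader/pristine/manifest.json for weights).
-- Copy to Cfsg/Agent/S0241.lean and replace the sorry. The statement below is byte-identical to the frozen
-- statement Cfsg.CfsgFrozen.S0241 (Cfsg/Statements/S0241.lean; the theorem Cfsg.real_element_with_odd_centralizer_is_strongly_real);
-- the grader kernel-checks Cfsg.Agent.S0241.result against that frozen type. Keep the theorem IN THIS FILE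
-- (a `result` declared elsewhere and merely imported here is not credited); helpers may live anywhere
-- under Cfsg/Agent/.
-- import your own Cfsg.Agent.* helpers here

set_option autoImplicit false
open Cfsg

namespace Cfsg.Agent.S0241

open Cfsg.Agent.Lib.Involutions

/-- If x ≠ 1 is conjugate to x⁻¹ in a finite group G and |C_G(x)| is odd, then some involution t satisfies t x t⁻¹ = x⁻¹. -/
theorem result {G : Type*} [Group G] [Finite G] (x : G) (hx : x ≠ 1) (hreal : IsConj x x⁻¹) (hodd : Odd (Nat.card (Subgroup.centralizer ({x} : Set G)))) : ∃ t : G, orderOf t = 2 ∧ t * x * t⁻¹ = x⁻¹ := by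
  obtain ⟨g, hg⟩ := isConj_iff.1 hreal
  have hc : g ^ 2 ∈ Subgroup.centralizer ({x} : Set G) := by
    rw [Subgroup.mem_centralizer_singleton_iff]
    apply mul_inv_eq_iff_eq_mul.1
    calc g ^ 2 * x * (g ^ 2)⁻¹ = g * (g * x * g⁻¹) * g⁻¹ := by
          simp only [sq, mul_inv_rev, mul_assoc]
      _ = g * x⁻¹ * g⁻¹ := by rw [hg]
      _ = (g * x * g⁻¹)⁻¹ := by rw [conj_inv]
      _ = x := by rw [hg, inv_inv]
  obtain ⟨m, hm⟩ := hodd
  set C := Subgroup.centralizer ({x} : Set G) with hC
  have h1 : (g ^ 2) ^ (2 * m + 1) = 1 := by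
    have := pow_card_eq_one' (x := (⟨g ^ 2, hc⟩ : C))
    rw [hm] at this
    simpa using congrArg Subtype.val this
  refine ⟨g ^ (2 * m + 1), ?_, ?_⟩
  · refine orderOf_eq_two_of_mul_self (by rw [← pow_two, ← pow_mul, mul_comm, pow_mul, h1]) ?_
    intro hone
    have hgC : g ∈ C := by
      have : g ^ (2 * m) * g = 1 := by rw [← pow_succ, hone]
      rw [eq_inv_of_mul_eq_one_right this, pow_mul]
      exact inv_mem (pow_mem hc m)
    rw [hC, Subgroup.mem_centralizer_singleton_iff] at hgC
    rw [hgC, mul_inv_cancel_right] at hg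
    have hx2 : orderOf x = 2 := orderOf_eq_two_of_mul_self (mul_eq_one_iff_eq_inv.2 hg) hx
    have hxC : x ∈ C := Subgroup.mem_centralizer_singleton_iff.2 rfl
    have := orderOf_dvd_natCard (⟨x, hxC⟩ : C)
    rw [← Subgroup.orderOf_coe, hx2, hm] at this
    omega
  · have hcm : Commute ((g ^ 2) ^ m) x⁻¹ :=
      (Commute.inv_right (Subgroup.mem_centralizer_singleton_iff.1 hc)).pow_left m
    rw [pow_succ, pow_mul]
    calc (g ^ 2) ^ m * g * x * ((g ^ 2) ^ m * g)⁻¹
        = (g ^ 2) ^ m * (g * x * g⁻¹) * ((g ^ 2) ^ m)⁻¹ := by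
          simp only [mul_inv_rev, mul_assoc]
      _ = x⁻¹ := by rw [hg, hcm.eq, mul_inv_cancel_right]

end Cfsg.Agent.S0241
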