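import Cfsg.Statements.S0266
import Cfsg.Agent.Lib.Classical.ProjLineThree

set_option autoImplicit false
open scoped MatrixGroups
open Cfsg

namespace Cfsg.Agent.S0266

/-- PGL_2(F) is sharply 3-transitive on the projective line: it is 3-transitive and the stabiliser of three distinct points is trivial. -/
theorem result {F : Type*} [Field F] : MulAction.IsMultiplyPretransitive (Matrix.ProjGenLinGroup (Fin 2) F) (Projectivization F (Fin 2 → F)) 3 ∧ ∀ (g : Matrix.ProjGenLinGroup (Fin 2) F) (a b c : Projectivization F (Fin 2 → F)), a ≠ b → a ≠ c → b ≠ c → g • a = a → g • b = b → g • c = c → g = 1 := by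
  have hsm : ∀ (g : GL (Fin 2) F) (x : Projectivization F (Fin 2 → F)),
      (Matrix.ProjGenLinGroup.mk g) • x = g • x := by
    intro g x
    induction x using Projectivization.ind with | _ v hv => rfl
  have h3 := Cfsg.Agent.Lib.Classical.gl_three_pretransitive (F := F)
  refine ⟨⟨fun x y => ?_⟩, ?_⟩
  · obtain ⟨g, hg⟩ := h3.exists_smul_eq x y
    refine ⟨Matrix.ProjGenLinGroup.mk g, ?_⟩
    ext i
    rw [← hg]
    exact hsm g (x i)
  · intro g a b c hab hac hbc ha hb hc
    induction g using Matrix.ProjGenLinGroup.induction_on with | mk g =>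
    rw [hsm] at ha hb hc
    obtain ⟨h, h0, h1, h2⟩ := Cfsg.Agent.Lib.Classical.exists_gl_smul_stdTriple a b c hab hac hbc
    have hfix : ∀ i, (h⁻¹ * g * h) • Cfsg.Agent.Lib.Classical.stdTriple F i =
        Cfsg.Agent.Lib.Classical.stdTriple F i := by
      intro i
      rw [mul_smul, mul_smul, inv_smul_eq_iff]
      fin_cases i
      · exact (congrArg (g • ·) h0).trans (ha.trans h0.symm)
      · exact (congrArg (g • ·) h1).trans (hb.trans h1.symm)
      · exact (congrArg (g • ·) h2).trans (hc.trans h2.symm)
    have hs := Cfsg.Agent.Lib.Classical.eq_scalar_of_fix_stdTriple _ hfix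
    set r := ((h⁻¹ * g * h : GL (Fin 2) F) : Matrix (Fin 2) (Fin 2) F) 0 0 with hr
    rw [Matrix.ProjGenLinGroup.mk_eq_one]
    have hc' : h⁻¹ * g * h ∈ Subgroup.center (GL (Fin 2) F) := by
      rw [Subgroup.mem_center_iff]
      intro k
      apply Units.ext
      rw [Units.val_mul k, Units.val_mul (h⁻¹ * g * h), hs]
      simp
    have e : g = h⁻¹ * g * h := by
      have := Subgroup.mem_center_iff.mp hc' h
      calc g = h * (h⁻¹ * g * h) * h⁻¹ := by group
        _ = _ := by rw [this, mul_inv_cancel_right]
    rw [e]; exact hc'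

end Cfsg.Agent.S0266
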