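import Cfsg.Statements.S0267
import Cfsg.Agent.Lib.Classical.ProjLineThree

set_option autoImplicit false
open Cfsg

namespace Cfsg.Agent.S0267

/-- SL_2(q) is 3-transitive on the q+1 points of the projective line if and only if q is even. -/
theorem result {F : Type*} [Field F] [Fintype F] : MulAction.IsMultiplyPretransitive (Matrix.SpecialLinearGroup (Fin 2) F) (Projectivization F (Fin 2 → F)) 3 ↔ ringChar F = 2 := by
  classical
  constructor
  · intro h3
    by_contra hne
    obtain ⟨c, hc⟩ := FiniteField.exists_nonsquare hne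
    have hc0 : c ≠ 0 := fun h => hc (h ▸ ⟨0, (mul_zero 0).symm⟩)
    have hv : ![(1 : F), c] ≠ 0 := by simp
    set T := Cfsg.Agent.Lib.Classical.stdTriple F with hT
    have h2 : T 0 ≠ Projectivization.mk F ![(1 : F), c] hv := by
      rw [hT, Cfsg.Agent.Lib.Classical.stdTriple, Ne, Projectivization.mk_eq_mk_iff']
      rintro ⟨a, ha⟩
      have e0 := congrFun ha 0
      have e1 := congrFun ha 1
      simp at e0 e1
      simp_all
    have h2' : T 1 ≠ Projectivization.mk F ![(1 : F), c] hv := by
      rw [hT, Cfsg.Agent.Lib.Classical.stdTriple, Ne, Projectivization.mk_eq_mk_iff']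
      rintro ⟨a, ha⟩
      have e0 := congrFun ha 0
      have e1 := congrFun ha 1
      simp at e0 e1
      simp_all
    let y : Fin 3 ↪ Projectivization F (Fin 2 → F) :=
      ⟨![T 0, T 1, Projectivization.mk F ![(1 : F), c] hv], by
        have h01 : T 0 ≠ T 1 := fun h =>
          absurd (Cfsg.Agent.Lib.Classical.stdTriple_injective h) (by decide)
        intro i j hij
        fin_cases i <;> fin_cases j <;> simp_all [eq_comm]⟩
    obtain ⟨g, hg⟩ := h3.exists_smul_eq ⟨T, Cfsg.Agent.Lib.Classical.stdTriple_injective⟩ y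
    have e : ∀ i : Fin 3, g • T i = y i := fun i => by rw [← hg]; rfl
    have e0 := e 0
    have e1 := e 1
    have e2 := e 2
    simp only [y, Function.Embedding.coeFn_mk, Matrix.cons_val_zero, Matrix.cons_val_one,
      Matrix.cons_val_two, Matrix.tail_cons, Matrix.head_cons, hT, Cfsg.Agent.Lib.Classical.stdTriple,
      Projectivization.smul_mk, Projectivization.mk_eq_mk_iff', Matrix.SpecialLinearGroup.smul_def,
      Matrix.cons_val_fin_one] at e0 e1 e2
    obtain ⟨a, ha⟩ := e0
    obtain ⟨b, hb⟩ := e1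
    obtain ⟨d, hd⟩ := e2
    have a0 := congrFun ha 0
    have a1 := congrFun ha 1
    have b0 := congrFun hb 0
    have b1 := congrFun hb 1
    have d0 := congrFun hd 0
    have d1 := congrFun hd 1
    simp [Matrix.mulVec, dotProduct] at a0 a1 b0 b1 d0 d1
    have hdet := g.2
    rw [Matrix.det_fin_two] at hdet
    refine hc ⟨(g : Matrix (Fin 2) (Fin 2) F) 1 1, ?_⟩
    rw [← a0, ← a1, ← b0, ← b1] at hdet
    rw [← a1, ← b1, zero_add] at d1
    rw [← a0, ← b0, add_zero] at d0
    rw [← b1]
    linear_combination -c * hdet + b * d1 - b * c * d0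
  · intro h2
    haveI : CharP F 2 := h2 ▸ ringChar.charP F
    refine ⟨fun x y => ?_⟩
    obtain ⟨g, hg⟩ := (Cfsg.Agent.Lib.Classical.gl_three_pretransitive (F := F)).exists_smul_eq x y
    obtain ⟨s, hs⟩ := FiniteField.isSquare_of_char_two h2 (g : Matrix (Fin 2) (Fin 2) F).det
    have hs0 : s ≠ 0 := fun h =>
      (Matrix.GeneralLinearGroup.det g).ne_zero (by
        show (g : Matrix (Fin 2) (Fin 2) F).det = 0
        rw [hs, h, mul_zero])
    have hd : (s⁻¹ • (g : Matrix (Fin 2) (Fin 2) F)).det = 1 := by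
      rw [Matrix.det_smul, hs, Fintype.card_fin]
      field_simp
    obtain ⟨G, hG⟩ : ∃ G : Matrix.SpecialLinearGroup (Fin 2) F,
        (G : Matrix (Fin 2) (Fin 2) F) = s⁻¹ • (g : Matrix (Fin 2) (Fin 2) F) := ⟨⟨_, hd⟩, rfl⟩
    refine ⟨G, ?_⟩
    ext i
    rw [← hg]
    simp only [Function.Embedding.smul_apply]
    generalize x i = z
    induction z using Projectivization.ind with | _ v hv => ?_
    rw [Projectivization.smul_mk, Projectivization.smul_mk, Projectivization.mk_eq_mk_iff']
    refine ⟨s⁻¹, ?_⟩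
    rw [Matrix.SpecialLinearGroup.smul_def, hG]
    show s⁻¹ • (Matrix.mulVec (g : Matrix (Fin 2) (Fin 2) F) v) = _
    exact (Matrix.smul_mulVec _ _ _).symm

end Cfsg.Agent.S0267
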