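import Cfsg.Statements.S0268
import Mathlib


set_option autoImplicit false
open Cfsg

namespace Cfsg.Agent.S0268

/-- For q odd, -1 is the unique involution of SL_2(q). -/
theorem result {F : Type*} [Field F] [Fintype F] (hF : Odd (Fintype.card F)) (g : Matrix.SpecialLinearGroup (Fin 2) F) (h1 : g ≠ 1) (h2 : g * g = 1) : (g : Matrix (Fin 2) (Fin 2) F) = -1 := by
  have h2ne : (2 : F) ≠ 0 := by
    intro h
    have hc2 : CharP F 2 := CharTwo.of_one_ne_zero_of_two_eq_zero one_ne_zero h
    have : Fintype.card F % 2 = 0 := FiniteField.even_card_iff_char_two.mp (ringChar.eq F 2)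
    exact absurd (Nat.odd_iff.mp hF) (by omega)
  have hd : (g : Matrix (Fin 2) (Fin 2) F).det = 1 := g.2
  have hm : (g : Matrix (Fin 2) (Fin 2) F) * (g : Matrix (Fin 2) (Fin 2) F) = 1 := by
    rw [← Matrix.SpecialLinearGroup.coe_mul, h2]
    rfl
  obtain ⟨a, b, c, d, hg⟩ : ∃ a b c d, (g : Matrix (Fin 2) (Fin 2) F) = !![a, b; c, d] :=
    ⟨_, _, _, _, Matrix.eta_fin_two _⟩
  rw [hg] at hd hm ⊢
  rw [Matrix.det_fin_two_of] at hd
  have e00 := congrFun (congrFun hm 0) 0
  have e01 := congrFun (congrFun hm 0) 1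
  have e10 := congrFun (congrFun hm 1) 0
  simp [Matrix.mul_apply, Fin.sum_univ_two] at e00 e01 e10
  have hs : a * (a + d) = 2 := by linear_combination e00 + hd
  have hs0 : a + d ≠ 0 := fun h => h2ne (by rw [← hs, h, mul_zero])
  have ha0 : a ≠ 0 := fun h => h2ne (by rw [← hs, h, zero_mul])
  have hb : b = 0 := (mul_eq_zero.mp ((by linear_combination e01) : b * (a + d) = 0)).resolve_right hs0
  have hc : c = 0 := (mul_eq_zero.mp ((by linear_combination e10) : c * (a + d) = 0)).resolve_right hs0
  subst hb hc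
  have hda : d = a := mul_left_cancel₀ ha0 (by linear_combination hd - e00)
  subst hda
  rcases mul_self_eq_one_iff.mp ((by linear_combination e00) : d * d = 1) with ha | ha
  · exfalso
    apply h1
    apply Subtype.ext
    rw [hg, ha]
    simp [Matrix.one_fin_two]
  · rw [ha]
    ext i j
    fin_cases i <;> fin_cases j <;> simp

end Cfsg.Agent.S0268
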