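import Cfsg.Statements.S0274
import Cfsg.Agent.Lib.Geometry.Dickson.Subfield
import Cfsg.Agent.S0801
-- import your own Cfsg.Agent.* helpers here

set_option autoImplicit false
open Cfsg
open scoped Matrix
open Cfsg.Agent.Lib.Geometry.Dickson

namespace Cfsg.Agent.S0274

/-- Dickson's Theorem for SL_2: if p is odd and H is a subgroup of SL_2(q), q a power of p, with more than one Sylow p-subgroup, then H contains a copy of SL_2(p). -/
theorem result {F : Type*} [Field F] [Fintype F] (p : ℕ) [Fact p.Prime] [CharP F p] (hp : p ≠ 2) (H : Subgroup (Matrix.SpecialLinearGroup (Fin 2) F)) (hH : 1 < Nat.card (Sylow p H)) : ∃ K : Subgroup (Matrix.SpecialLinearGroup (Fin 2) F), K ≤ H ∧ Nonempty (K ≃* Matrix.SpecialLinearGroup (Fin 2) (ZMod p)) := by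
  classical
  have hZmem : ∀ {a : F}, a * a = 1 → ∀ {x : Matrix.SpecialLinearGroup (Fin 2) F},
      (x : Matrix (Fin 2) (Fin 2) F) = a • 1 → x ∈ Subgroup.center (Matrix.SpecialLinearGroup (Fin 2) F) := by
    intro a ha x hx
    rcases mul_self_eq_one_iff.mp ha with rfl | rfl
    · exact Cfsg.Agent.Lib.SL2Trace.mem_center_iff.mpr (Or.inl (Subtype.ext (by simpa using hx)))
    · exact Cfsg.Agent.Lib.SL2Trace.mem_center_iff.mpr (Or.inr (Subtype.ext (by simpa using hx)))
  have htr : ∀ x : Matrix.SpecialLinearGroup (Fin 2) F, ∀ k : ℕ, x ^ p ^ k = 1 →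
      Cfsg.Agent.Lib.SL2Trace.tr x = 2 ∧ x ^ p = 1 := by
    intro x k hx
    have ho : orderOf x ∣ p ^ k := orderOf_dvd_of_pow_eq_one hx
    have h4 : Cfsg.Agent.Lib.SL2Trace.tr x ^ 2 = 4 := by
      by_contra h
      have hcop : ∀ n, n + 1 = Fintype.card F ∨ n = Fintype.card F + 1 → x ^ n = 1 → x = 1 := by
        intro n hn hxn
        obtain ⟨e, -, he⟩ := FiniteField.card F p
        have hpn : ¬ p ∣ n := fun hd => by
          have hpq : p ∣ Fintype.card F := he ▸ dvd_pow_self p e.ne_zero
          have h1 : p ∣ 1 := by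
            rcases hn with hn | hn
            · exact (Nat.dvd_add_right hd).mp (hn ▸ hpq)
            · exact (Nat.dvd_add_right hpq).mp (hn ▸ hd)
          exact (Fact.out : p.Prime).one_lt.ne' (Nat.dvd_one.mp h1)
        refine orderOf_eq_one_iff.mp (Nat.eq_one_of_dvd_coprimes (Nat.Coprime.pow_left k ?_) ho
          (orderOf_dvd_of_pow_eq_one hxn))
        exact (Fact.out : p.Prime).coprime_iff_not_dvd.mpr hpn
      have hx1 : x = 1 := by
        rcases Cfsg.Agent.Lib.SL2Trace.pow_dichotomy h with ⟨-, h1⟩ | ⟨-, h1⟩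
        · exact hcop _ (Or.inl (Nat.succ_pred_eq_of_pos Fintype.card_pos)) h1
        · exact hcop _ (Or.inr rfl) h1
      apply h
      rw [hx1, Cfsg.Agent.Lib.SL2Trace.tr_eq]
      simp
      norm_num
    have hpp : x ^ p = 1 := by
      rcases Cfsg.Agent.Lib.SL2Trace.pow_char_of_tr p h4 with h | h
      · exact h
      · exfalso
        have h2 : (x ^ p) ^ 2 = 1 := by rw [h]; simp
        have := Nat.eq_one_of_dvd_coprimes (a := 2) (b := p ^ k) (Nat.Coprime.pow_right k
          ((Nat.coprime_primes Nat.prime_two Fact.out).mpr (Ne.symm hp))) (orderOf_dvd_of_pow_eq_one h2)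
          (orderOf_dvd_of_pow_eq_one (by rw [← pow_mul, mul_comm, pow_mul, hx, one_pow]))
        rw [orderOf_eq_one_iff, h] at this
        have h0 := congrArg (fun g : Matrix.SpecialLinearGroup (Fin 2) F => (g : Matrix (Fin 2) (Fin 2) F) 0 0) this
        simp at h0
        exact hp ((Nat.prime_dvd_prime_iff_eq Fact.out Nat.prime_two).mp ((CharP.cast_eq_zero_iff F p 2).mp (by
          push_cast
          linear_combination -h0)))
    refine ⟨?_, hpp⟩
    obtain ⟨ε, hε, ht⟩ := exists_eps h4
    rcases mul_self_eq_one_iff.mp hε with rfl | rfl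
    · rw [ht, mul_one]
    · exfalso
      have hodd : Odd p := (Fact.out : p.Prime).odd_of_ne_two hp
      obtain ⟨v, e, hv, he, hte, hxv⟩ := exists_fixed_vector h4
      have h2 : (2 : F) ≠ 0 := fun h => hp ((Nat.prime_dvd_prime_iff_eq Fact.out Nat.prime_two).mp
        ((CharP.cast_eq_zero_iff F p 2).mp (by exact_mod_cast h)))
      have he' : e = -1 := mul_left_cancel₀ h2 (hte.symm.trans ht)
      have hpow : ∀ n : ℕ, ((x ^ n : Matrix.SpecialLinearGroup (Fin 2) F) : Matrix (Fin 2) (Fin 2) F) *ᵥ v = e ^ n • v := by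
        intro n
        induction n with
        | zero => simp
        | succ n ih => rw [pow_succ, Matrix.SpecialLinearGroup.coe_mul, ← Matrix.mulVec_mulVec, hxv, Matrix.mulVec_smul,
            ih, smul_smul, pow_succ, mul_comm]
      have := hpow p
      rw [hpp, he', hodd.neg_one_pow, Matrix.SpecialLinearGroup.coe_one, Matrix.one_mulVec] at this
      exact h2 (by linear_combination smul_left_cancel_vec hv (by rw [one_smul]; exact this : (1 : F) • v = (-1 : F) • v))
  -- an element of order `p`
  obtain ⟨u, huH, hu1, hu⟩ : ∃ u ∈ H, u ≠ 1 ∧ u ^ p = 1 := by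
    obtain ⟨S, T, hST⟩ := @exists_pair_ne _ (Finite.one_lt_card_iff_nontrivial.mp hH)
    obtain ⟨x, hxS, hx1⟩ : ∃ x ∈ (S : Subgroup H), x ≠ 1 := by
      by_contra hc
      push Not at hc
      have hb : (S : Subgroup H) = ⊥ := (Subgroup.eq_bot_iff_forall _).mpr hc
      have hTS : (T : Subgroup H) = S := S.3 T.2 (hb ▸ bot_le)
      exact hST (Sylow.ext hTS.symm)
    obtain ⟨k, hk⟩ := S.2 ⟨x, hxS⟩
    refine ⟨x, x.2, fun h => hx1 (Subtype.ext h), (htr x k ?_).2⟩
    exact congrArg (fun e : (S : Subgroup H) => ((e : H) : Matrix.SpecialLinearGroup (Fin 2) F)) hk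
  have hu2 := (htr u 1 (by rwa [pow_one])).1
  have hut : Cfsg.Agent.Lib.SL2Trace.tr u ^ 2 = 4 := by rw [hu2]; norm_num
  have huZ : u ∉ Subgroup.center (Matrix.SpecialLinearGroup (Fin 2) F) := by
    intro h
    rcases Cfsg.Agent.Lib.SL2Trace.mem_center_iff.mp h with h | h
    · exact hu1 h
    · rw [h, Cfsg.Agent.Lib.SL2Trace.tr_neg, Cfsg.Agent.Lib.SL2Trace.tr_eq] at hu2
      simp at hu2
      have h4 : ((4 : ℕ) : F) = 0 := by push_cast; linear_combination -hu2
      exact hp ((Nat.prime_dvd_prime_iff_eq Fact.out Nat.prime_two).mp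
        ((Fact.out : p.Prime).dvd_of_dvd_pow (show p ∣ 2 ^ 2 from (CharP.cast_eq_zero_iff F p 4).mp h4)))
  set G := H ⊔ Subgroup.center (Matrix.SpecialLinearGroup (Fin 2) F)
  have hsign : ∀ g ∈ G, g ^ p = 1 → g ∈ H := by
    intro g hg hgp
    obtain ⟨a, ha, z, hz, rfl⟩ := Subgroup.mem_sup_of_normal_right.mp hg
    rcases Cfsg.Agent.Lib.SL2Trace.mem_center_iff.mp hz with rfl | rfl
    · rwa [mul_one]
    · rw [mul_neg, mul_one] at hgp ⊢
      have : a ^ p = -1 := by
        rw [((Fact.out : p.Prime).odd_of_ne_two hp).neg_pow] at hgp; rw [← neg_neg (a ^ p), hgp]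
      have hneg : (-1 : Matrix.SpecialLinearGroup (Fin 2) F) ∈ H := this ▸ H.pow_mem ha p
      have h := H.mul_mem hneg ha
      rwa [neg_one_mul] at h
  have hcls : 2 ≤ Nat.card (cls G u) := by
    haveI : Finite (cls G u) := Finite.Set.finite_range _
    haveI : Nonempty (cls G u) := ⟨⟨_, cell_mem_cls G u⟩⟩
    by_contra hlt
    obtain ⟨hsub, -⟩ : Subsingleton (cls G u) ∧ Nonempty (cls G u) := Nat.card_eq_one_iff_unique.mp
      (le_antisymm (by omega) Nat.card_pos)
    obtain ⟨v, ε, hv, hε, hte, huv⟩ := exists_fixed_vector hut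
    have hfix : ∀ g ∈ G, ∃ d : F, (g : Matrix (Fin 2) (Fin 2) F) *ᵥ v = d • v := by
      intro g hg
      have hc : cell G (g * u * g⁻¹) = cell G u := congrArg Subtype.val
        (hsub.elim (⟨_, ⟨g, hg⟩, rfl⟩ : cls G u) ⟨_, cell_mem_cls G u⟩)
      refine fix_line_of_conj_mem huZ hv hε hte huv ?_
      have hm : g * u * g⁻¹ ∈ cell G u :=
        hc ▸ mem_cell_self G (G.mul_mem (G.mul_mem hg ((le_sup_left : H ≤ G) huH)) (G.inv_mem hg))
      exact hm.1
    let Q : Subgroup H :=
      { carrier := {x | ((x : Matrix.SpecialLinearGroup (Fin 2) F) : Matrix (Fin 2) (Fin 2) F) *ᵥ v = v}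
        mul_mem' := fun {a b} ha hb => by
          show (((a * b : H) : Matrix.SpecialLinearGroup (Fin 2) F) : Matrix (Fin 2) (Fin 2) F) *ᵥ v = v
          rw [Subgroup.coe_mul, Matrix.SpecialLinearGroup.coe_mul, ← Matrix.mulVec_mulVec, hb, ha]
        one_mem' := by
          show ((1 : Matrix.SpecialLinearGroup (Fin 2) F) : Matrix (Fin 2) (Fin 2) F) *ᵥ v = v
          rw [Matrix.SpecialLinearGroup.coe_one, Matrix.one_mulVec]
        inv_mem' := fun {a} ha => by
          show (((a⁻¹ : H) : Matrix.SpecialLinearGroup (Fin 2) F) : Matrix (Fin 2) (Fin 2) F) *ᵥ v = v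
          conv_lhs => rw [← ha]
          rw [Matrix.mulVec_mulVec, ← Matrix.SpecialLinearGroup.coe_mul, ← Subgroup.coe_mul, inv_mul_cancel]
          simp }
    have hQ : IsPGroup p Q := by
      rintro ⟨x, hx⟩
      refine ⟨1, Subtype.ext (Subtype.ext ?_)⟩
      show (x : Matrix.SpecialLinearGroup (Fin 2) F) ^ (p ^ 1) = 1
      rw [pow_one]
      by_cases hxc : (x : Matrix.SpecialLinearGroup (Fin 2) F) ∈ Subgroup.center (Matrix.SpecialLinearGroup (Fin 2) F)
      · rcases Cfsg.Agent.Lib.SL2Trace.mem_center_iff.mp hxc with h | h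
        · rw [h, one_pow]
        · have hx' : ((x : Matrix.SpecialLinearGroup (Fin 2) F) : Matrix (Fin 2) (Fin 2) F) *ᵥ v = v := hx
          rw [h] at hx'
          simp [Matrix.neg_mulVec] at hx'
          have h20 : (1 + 1 : F) • v = 0 := by rw [add_smul, one_smul]; nth_rw 1 [← hx']; exact neg_add_cancel v
          have : (2 : F) = 0 := by
            have := (smul_eq_zero.mp h20).resolve_right hv
            linear_combination this
          exact absurd ((Nat.prime_dvd_prime_iff_eq Fact.out Nat.prime_two).mp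
            ((CharP.cast_eq_zero_iff F p 2).mp (by exact_mod_cast this))) hp
      · have hmem : (x : Matrix.SpecialLinearGroup (Fin 2) F) ∈ Subgroup.centralizer ({u} : Set _) :=
          (mem_centralizer_unipotent_iff huZ hv hε hte huv _).mpr ⟨1, one_mul 1, by rw [one_smul]; exact hx⟩
        obtain h4 := tr_sq_of_mem huZ hut hmem
        rcases Cfsg.Agent.Lib.SL2Trace.pow_char_of_tr p h4 with h | h
        · exact h
        · exfalso
          have hpow : ∀ n : ℕ, (((x : Matrix.SpecialLinearGroup (Fin 2) F) ^ n : Matrix.SpecialLinearGroup (Fin 2) F) :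
              Matrix (Fin 2) (Fin 2) F) *ᵥ v = v := fun n => by
            induction n with
            | zero => simp
            | succ n ih => rw [pow_succ, Matrix.SpecialLinearGroup.coe_mul, ← Matrix.mulVec_mulVec, hx, ih]
          have := hpow p
          rw [h] at this
          simp [Matrix.neg_mulVec] at this
          have h20 : (1 + 1 : F) • v = 0 := by rw [add_smul, one_smul]; nth_rw 1 [← this]; exact neg_add_cancel v
          have h21 : (2 : F) = 0 := by
            have := (smul_eq_zero.mp h20).resolve_right hv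
            linear_combination this
          exact hp ((Nat.prime_dvd_prime_iff_eq Fact.out Nat.prime_two).mp
            ((CharP.cast_eq_zero_iff F p 2).mp (by exact_mod_cast h21)))
    have hall : ∀ S : Sylow p H, (S : Subgroup H) = Q := by
      intro S
      refine (S.3 hQ ?_).symm
      intro x hx
      obtain ⟨k, hk⟩ := S.2 ⟨x, hx⟩
      obtain ⟨htx, -⟩ := htr x k
        (congrArg (fun e : (S : Subgroup H) => ((e : H) : Matrix.SpecialLinearGroup (Fin 2) F)) hk)
      show ((x : Matrix.SpecialLinearGroup (Fin 2) F) : Matrix (Fin 2) (Fin 2) F) *ᵥ v = v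
      obtain ⟨d, hd⟩ := hfix x ((le_sup_left : H ≤ G) x.2)
      have hd1 : d = 1 := by
        have h2 := congrArg (fun A : Matrix (Fin 2) (Fin 2) F => A *ᵥ v)
          (Cfsg.Agent.Lib.SL2Trace.sq_eq (x : Matrix.SpecialLinearGroup (Fin 2) F))
        simp only [← Matrix.mulVec_mulVec, hd, Matrix.mulVec_smul, Matrix.sub_mulVec, Matrix.smul_mulVec,
          Matrix.one_mulVec, smul_smul, htx] at h2
        have h3 : d * d = 2 * d - 1 := smul_left_cancel_vec hv (by rw [sub_smul, one_smul]; exact h2)
        exact sub_eq_zero.mp (mul_self_eq_zero.mp (show (d - 1) * (d - 1) = 0 by linear_combination h3))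
      rw [hd, hd1, one_smul]
    haveI : Subsingleton (Sylow p H) := ⟨fun S T => Sylow.ext ((hall S).trans (hall T).symm)⟩
    have := Nat.card_eq_one_iff_unique.mpr ⟨this, (inferInstance : Nonempty (Sylow p H))⟩
    omega
  obtain ⟨ψ, lam, hlam, hup, hlo, -, -⟩ :=
    exists_normal_form G le_sup_right ((le_sup_left : H ≤ G) huH) huZ hut rfl hcls
  -- transfer to `H`
  have hpow : ∀ (x : F) (n : ℕ), upper x ^ n = upper ((n : F) * x) ∧ lower x ^ n = lower ((n : F) * x) := by
    intro x n
    induction n with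
    | zero => simp [upper_zero, lower_zero]
    | succ n ih =>
      rw [pow_succ, pow_succ, ih.1, ih.2, upper_mul, lower_mul]
      constructor <;> congr 1 <;> push_cast <;> ring
  have hback : ∀ g ∈ G.map ψ.toMonoidHom, g ^ p = 1 → g ∈ H.map ψ.toMonoidHom := by
    rintro _ ⟨a, ha, rfl⟩ hgp
    refine ⟨a, hsign a ha (ψ.injective ?_), rfl⟩
    rw [map_pow, map_one]; exact hgp
  have hupH : upper lam ∈ H.map ψ.toMonoidHom :=
    hback _ hup (by rw [(hpow lam p).1, CharP.cast_eq_zero, zero_mul, upper_zero])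
  have hloH : lower 1 ∈ H.map ψ.toMonoidHom :=
    hback _ hlo (by rw [(hpow 1 p).2, CharP.cast_eq_zero, zero_mul, lower_zero])
  -- reduce to two transvections with parameter one
  obtain ⟨φ, hφu, hφl⟩ : ∃ φ : Matrix.SpecialLinearGroup (Fin 2) F ≃* Matrix.SpecialLinearGroup (Fin 2) F,
      upper 1 ∈ H.map φ.toMonoidHom ∧ lower 1 ∈ H.map φ.toMonoidHom := by
    let E := Subfield.closure ({lam} : Set F)
    haveI := Fintype.ofFinite E
    have hlE : lam ∈ E := Subfield.subset_closure rfl
    have h2 : (2 : E) ≠ 0 := fun h => hp ((Nat.prime_dvd_prime_iff_eq Fact.out Nat.prime_two).mp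
      ((CharP.cast_eq_zero_iff F p 2).mp (by
        have := congrArg (fun e : E => (e : F)) h
        push_cast at this ⊢
        exact this)))
    have hgen : Subfield.closure ({⟨lam, hlE⟩} : Set E) = ⊤ := by
      refine eq_top_iff.mpr fun e _ => ?_
      have he : (e : F) ∈ (Subfield.closure ({⟨lam, hlE⟩} : Set E)).map E.subtype := by
        rw [RingHom.map_field_closure]
        simpa [E] using e.2
      obtain ⟨e', he', hee⟩ := Subfield.mem_map.mp he
      exact Subtype.ext hee ▸ he'
    have hle : (Subgroup.closure {g : Matrix.SpecialLinearGroup (Fin 2) E |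
        (g : Matrix (Fin 2) (Fin 2) E) = !![1, 0; 1, 1] ∨
        (g : Matrix (Fin 2) (Fin 2) E) = !![1, ⟨lam, hlE⟩; 0, 1]}) ≤ (H.map ψ.toMonoidHom).comap (subIncl E) := by
      rw [Subgroup.closure_le]
      rintro g (hg | hg)
      · rw [SetLike.mem_coe, Subgroup.mem_comap, show subIncl E g = lower 1 from sl_ext (by
          ext i j; rw [coe_subIncl, hg]; fin_cases i <;> fin_cases j <;> simp [coe_lower])]
        exact hloH
      · rw [SetLike.mem_coe, Subgroup.mem_comap, show subIncl E g = upper lam from sl_ext (by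
          ext i j; rw [coe_subIncl, hg]; fin_cases i <;> fin_cases j <;> simp [coe_upper])]
        exact hupH
    rcases Cfsg.Agent.S0801.result h2 ⟨lam, hlE⟩ (fun h => hlam (congrArg Subtype.val h)) hgen with
      ⟨htop, -⟩ | ⟨-, hsq, -⟩
    · refine ⟨ψ, ?_, hloH⟩
      rw [htop] at hle
      have := hle (Subgroup.mem_top (upper 1))
      rwa [Subgroup.mem_comap, show subIncl E (upper 1) = upper 1 from sl_ext (by
          ext i j; rw [coe_subIncl]; fin_cases i <;> fin_cases j <;> simp [coe_upper])] at this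
    · have hl2 : lam * lam = -1 := by
        have := congrArg (fun e : E => (e : F)) hsq
        simpa [sq] using this
      let P : GL (Fin 2) F := Matrix.GeneralLinearGroup.mkOfDetNeZero !![1, -lam; 0, -lam] (by
        simp [Matrix.det_fin_two, hlam])
      have hP : ∀ (A B : Matrix.SpecialLinearGroup (Fin 2) F),
          (A : Matrix (Fin 2) (Fin 2) F) * !![1, -lam; 0, -lam] = !![1, -lam; 0, -lam] * (B : Matrix (Fin 2) (Fin 2) F) →
            glConj P A = B := fun A B h => Subtype.ext (by
        show ((P⁻¹ : GL (Fin 2) F) : Matrix (Fin 2) (Fin 2) F) * (A : Matrix (Fin 2) (Fin 2) F) *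
          !![1, -lam; 0, -lam] = (B : Matrix (Fin 2) (Fin 2) F)
        rw [mul_assoc, h, ← mul_assoc, show ((P⁻¹ : GL (Fin 2) F) : Matrix (Fin 2) (Fin 2) F) * !![1, -lam; 0, -lam] = 1
          from Units.inv_mul P, one_mul])
      refine ⟨ψ.trans (glConj P), ?_, ?_⟩
      · obtain ⟨a, ha, hae⟩ := hupH
        refine ⟨a, ha, ?_⟩
        show glConj P (ψ.toMonoidHom a) = upper 1
        rw [hae]
        refine hP _ _ ?_
        rw [coe_upper, coe_upper]
        ext i j; fin_cases i <;> fin_cases j <;> simp [Matrix.mul_apply, Fin.sum_univ_two]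
        linear_combination -hl2
      · obtain ⟨a, ha, hae⟩ := (H.map ψ.toMonoidHom).mul_mem ((H.map ψ.toMonoidHom).mul_mem hloH hupH)
          ((H.map ψ.toMonoidHom).inv_mem hloH)
        refine ⟨a, ha, ?_⟩
        show glConj P (ψ.toMonoidHom a) = lower 1
        rw [hae]
        refine hP _ _ ?_
        rw [lower_inv, Matrix.SpecialLinearGroup.coe_mul, Matrix.SpecialLinearGroup.coe_mul, coe_lower, coe_upper, coe_lower]
        ext i j; fin_cases i <;> fin_cases j <;> simp [Matrix.mul_apply, Fin.sum_univ_two] <;> ring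
  let c : ZMod p →+* F := ZMod.castHom (dvd_refl p) F
  let ι : Matrix.SpecialLinearGroup (Fin 2) (ZMod p) →* Matrix.SpecialLinearGroup (Fin 2) F := Matrix.SpecialLinearGroup.map c
  have hι : ι.range ≤ H.map φ.toMonoidHom := by
    rintro _ ⟨A, rfl⟩
    have h : (H.map φ.toMonoidHom).comap ι = ⊤ := by
      refine eq_top_of_upper_lower (fun x => ?_) (fun x => ?_)
      · rw [Subgroup.mem_comap, show ι (upper x) = upper 1 ^ x.val from by
          rw [(hpow 1 _).1, mul_one]
          refine Subtype.ext (Matrix.ext fun i j => ?_)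
          show c ((upper x : Matrix (Fin 2) (Fin 2) (ZMod p)) i j) = _
          fin_cases i <;> fin_cases j <;> simp [coe_upper]
          conv_lhs => rw [← ZMod.natCast_zmod_val x]
          exact (map_natCast c _).trans (ZMod.natCast_val x)]
        exact Subgroup.pow_mem _ hφu _
      · rw [Subgroup.mem_comap, show ι (lower x) = lower 1 ^ x.val from by
          rw [(hpow 1 _).2, mul_one]
          refine Subtype.ext (Matrix.ext fun i j => ?_)
          show c ((lower x : Matrix (Fin 2) (Fin 2) (ZMod p)) i j) = _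
          fin_cases i <;> fin_cases j <;> simp [coe_lower]
          conv_lhs => rw [← ZMod.natCast_zmod_val x]
          exact (map_natCast c _).trans (ZMod.natCast_val x)]
        exact Subgroup.pow_mem _ hφl _
    exact Subgroup.mem_comap.mp (h.symm ▸ Subgroup.mem_top A)
  have hinj : Function.Injective (φ.symm.toMonoidHom.comp ι) := φ.symm.injective.comp fun A B h => Subtype.ext
    (Matrix.ext fun i j => c.injective (congrArg
      (fun g : Matrix.SpecialLinearGroup (Fin 2) F => (g : Matrix (Fin 2) (Fin 2) F) i j) h))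
  refine ⟨(φ.symm.toMonoidHom.comp ι).range, ?_, ⟨(MonoidHom.ofInjective hinj).symm⟩⟩
  rintro _ ⟨A, rfl⟩
  obtain ⟨a, ha, hae⟩ := hι ⟨A, rfl⟩
  show φ.symm (ι A) ∈ H
  rw [← hae]
  show φ.symm (φ a) ∈ H
  rw [φ.symm_apply_apply]
  exact ha

end Cfsg.Agent.S0274
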