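import Cfsg.Statements.S0275
import Cfsg.Agent.Lib.Geometry.Dickson.MaxClass
import Cfsg.Agent.Lib.Classical.SLTwoSylow
-- import your own Cfsg.Agent.* helpers here

set_option autoImplicit false
open Cfsg
open scoped Matrix
open Cfsg.Agent.Lib.Geometry.Dickson

namespace Cfsg.Agent.S0275

/-- If p is odd and H is a subgroup of SL_2(q), q a power of p, with more than one Sylow p-subgroup, then the Sylow 2-subgroups of H are generalised quaternion. -/
theorem result {F : Type*} [Field F] [Fintype F] (p : ℕ) [Fact p.Prime] [CharP F p] (hp : p ≠ 2) (H : Subgroup (Matrix.SpecialLinearGroup (Fin 2) F)) (hH : 1 < Nat.card (Sylow p H)) (S : Sylow 2 H) : ∃ k : ℕ, 1 ≤ k ∧ Nonempty ((S : Subgroup H) ≃* QuaternionGroup (2 ^ k)) := by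
  classical
  haveI : Fact (Nat.Prime 2) := ⟨Nat.prime_two⟩
  have h2 : (2 : F) ≠ 0 := fun h => hp ((Nat.prime_dvd_prime_iff_eq Fact.out Nat.prime_two).mp
    ((CharP.cast_eq_zero_iff F p 2).mp (by exact_mod_cast h)))
  let e := (S : Subgroup H).equivMapOfInjective H.subtype H.subtype_injective
  set P2 := (S : Subgroup H).map H.subtype
  have hP2 : IsPGroup 2 P2 := S.isPGroup'.of_equiv e
  suffices hna : ∃ a ∈ P2, ∃ b ∈ P2, a * b ≠ b * a by
    obtain ⟨k, hk, ⟨f⟩⟩ := Cfsg.Agent.Lib.Classical.two_group_quaternion h2 p hP2 hna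
    exact ⟨k, hk, ⟨e.trans f⟩⟩
  by_contra hcomm
  push Not at hcomm
  haveI hcyc : IsCyclic P2 := by
    by_cases hz : ∃ z ∈ P2, z ∉ Subgroup.center (Matrix.SpecialLinearGroup (Fin 2) F)
    · obtain ⟨z, hz, hzc⟩ := hz
      exact Cfsg.Agent.Lib.Classical.isCyclic_of_commute (Cfsg.Agent.Lib.Classical.noUnipotent_two_group h2 p hP2)
        hzc fun g hg => hcomm g hg z hz
    · push Not at hz
      rcases Nat.lt_or_ge (Nat.card P2) 2 with h | h
      · haveI : Subsingleton P2 := (Nat.card_eq_one_iff_unique.mp (by have : 0 < Nat.card P2 := Nat.card_pos; omega)).1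
        infer_instance
      · have hle : Nat.card P2 ≤ Nat.card (Subgroup.center (Matrix.SpecialLinearGroup (Fin 2) F)) :=
          Subgroup.card_le_of_le hz
        rw [Cfsg.Agent.Lib.Geometry.Dickson.zz_eq] at hle
        have := Nat.le_of_dvd two_pos (Nat.gcd_dvd_left 2 (Fintype.card F - 1))
        exact isCyclic_of_prime_card (p := 2) (by omega)
  haveI : IsCyclic (S : Subgroup H) := isCyclic_of_surjective e.symm e.symm.surjective
  obtain ⟨N, hNodd, hNp⟩ : ∃ N : Subgroup H, ¬ 2 ∣ Nat.card N ∧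
      ∀ R : Sylow p H, (R : Subgroup H) ≤ N := by
    by_cases h2H : 2 ∣ Nat.card H
    · have hmin : (Nat.card H).minFac = 2 := (Nat.minFac_eq_two_iff _).mpr h2H
      have hN := IsCyclic.normalizer_le_centralizer hmin (P := S) inferInstance
      refine ⟨(MonoidHom.transferSylow S hN).ker, MonoidHom.not_dvd_card_ker_transferSylow S hN, fun R x hx => ?_⟩
      rw [MonoidHom.mem_ker]
      obtain ⟨k, hk⟩ := R.isPGroup' ⟨x, hx⟩
      have h1 : orderOf (MonoidHom.transferSylow S hN x) ∣ p ^ k := orderOf_dvd_of_pow_eq_one (by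
        rw [← map_pow, show x ^ p ^ k = 1 from congrArg Subtype.val hk, map_one])
      obtain ⟨j, hj⟩ := S.isPGroup' (MonoidHom.transferSylow S hN x)
      have h3 : orderOf (MonoidHom.transferSylow S hN x) ∣ 2 ^ j := orderOf_dvd_of_pow_eq_one hj
      exact orderOf_eq_one_iff.mp (Nat.eq_one_of_dvd_coprimes
        (((Nat.coprime_primes Fact.out Nat.prime_two).mpr hp).pow k j) h1 h3)
    · exact ⟨⊤, by rwa [Subgroup.card_top], fun R => le_top⟩
  haveI : Nontrivial (Sylow p H) := Finite.one_lt_card_iff_nontrivial.mp hH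
  obtain ⟨P, Q, hPQ⟩ := exists_pair_ne (Sylow p H)
  set J := (P : Subgroup H) ⊔ (Q : Subgroup H) with hJ
  have hJodd : ¬ 2 ∣ Nat.card J := fun h => hNodd (h.trans (Subgroup.card_dvd_of_le (sup_le (hNp P) (hNp Q))))
  let φ : H →* Matrix.ProjectiveSpecialLinearGroup (Fin 2) F := Cfsg.Agent.Lib.SL2Trace.toPSL.comp H.subtype
  have hM : IsPGroup p (J.map φ) := by
    have hMc : ¬ 2 ∣ Nat.card (J.map φ) := fun h => hJodd (h.trans (Subgroup.card_map_dvd _ φ))
    have hsup : J.map φ = (P : Subgroup H).map φ ⊔ (Q : Subgroup H).map φ := Subgroup.map_sup _ _ φ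
    rcases subType p (J.map φ) with ⟨k, -, hc, -⟩ | ⟨k, -, ⟨f⟩⟩ | ⟨T, hT⟩ | ⟨⟨f⟩⟩ | ⟨⟨f⟩⟩ | ⟨⟨f⟩⟩ | ⟨L, hL⟩
    · rw [hsup]
      refine IsPGroup.to_sup_of_normal_right' (P.isPGroup'.map φ) (Q.isPGroup'.map φ) fun x hx => ?_
      rw [Subgroup.mem_normalizer_iff]
      have hxM : x ∈ J.map φ := hsup ▸ Subgroup.mem_sup_left hx
      haveI := hc.commutative
      intro y
      constructor <;> intro hy
      · have hyM : y ∈ J.map φ := hsup ▸ Subgroup.mem_sup_right hy
        rwa [show x * y = y * x from congrArg Subtype.val (mul_comm' (⟨x, hxM⟩ : J.map φ) ⟨y, hyM⟩),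
          mul_inv_cancel_right]
      · have hzM : x * y * x⁻¹ ∈ J.map φ := hsup ▸ Subgroup.mem_sup_right hy
        have h' : x * (x * y * x⁻¹) = (x * y * x⁻¹) * x :=
          congrArg Subtype.val (mul_comm' (⟨x, hxM⟩ : J.map φ) ⟨_, hzM⟩)
        rw [inv_mul_cancel_right] at h'
        rwa [show y = x * y * x⁻¹ by exact (mul_left_cancel h').symm]
    · exfalso; apply hMc
      rw [Nat.card_congr f.toEquiv, DihedralGroup.nat_card]; exact dvd_mul_right 2 k
    · refine T.isPGroup'.to_le ?_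
      rw [hsup]
      have key : ∀ R : Sylow p H, (R : Subgroup H).map φ ≤ Subgroup.normalizer ((T : Subgroup (Matrix.ProjectiveSpecialLinearGroup (Fin 2) F)) : Set (Matrix.ProjectiveSpecialLinearGroup (Fin 2) F)) →
          (R : Subgroup H).map φ ≤ (T : Subgroup (Matrix.ProjectiveSpecialLinearGroup (Fin 2) F)) := fun R hR =>
        le_trans le_sup_left (T.3 (IsPGroup.to_sup_of_normal_right' (R.isPGroup'.map φ) T.2 hR) le_sup_right).le
      exact sup_le (key P (le_trans (hsup ▸ le_sup_left) hT)) (key Q (le_trans (hsup ▸ le_sup_right) hT))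
    · exfalso; apply hMc; rw [Nat.card_congr f.toEquiv, card_alt4]; norm_num
    · exfalso; apply hMc; rw [Nat.card_congr f.toEquiv, card_sym4]; norm_num
    · exfalso; apply hMc; rw [Nat.card_congr f.toEquiv, card_alt5]; norm_num
    · exfalso
      apply hMc
      haveI := Fintype.ofFinite L
      haveI : CharP L p := L.subtype.charP L.subtype.injective p
      obtain ⟨n, -, hn⟩ := FiniteField.card L p
      have hodd : Fintype.card L % 2 = 1 := by
        rw [hn]; exact Nat.odd_iff.mp (((Fact.out : p.Prime).odd_of_ne_two hp).pow)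
      obtain ⟨j, hj⟩ : ∃ j, Fintype.card L = 2 * j + 1 := ⟨Fintype.card L / 2, by omega⟩
      have h4 : 2 * 2 ∣ Fintype.card L * (Fintype.card L ^ 2 - 1) :=
        dvd_mul_of_dvd_right ⟨j * (j + 1), by
          rw [hj, show (2 * j + 1) ^ 2 = 2 * 2 * (j * (j + 1)) + 1 by ring, Nat.add_sub_cancel]⟩ _
      rcases hL with ⟨⟨f⟩⟩ | ⟨⟨f⟩⟩
      · rw [Nat.card_congr f.toEquiv]
        exact Nat.dvd_of_mul_dvd_mul_left two_pos ((card_PSL2_odd (F := L) hodd).symm ▸ h4)
      · rw [Nat.card_congr f.toEquiv, Cfsg.Agent.Lib.Classical.card_PGL, Cfsg.Agent.Lib.Classical.card_SL2]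
        exact (dvd_mul_right 2 2).trans h4
  have hJp : IsPGroup p J := by
    intro g
    obtain ⟨k, hk⟩ := hM ⟨φ g, g, g.2, rfl⟩
    refine ⟨k, ?_⟩
    have h1 : φ ((g : H) ^ p ^ k) = 1 := by rw [map_pow]; exact congrArg Subtype.val hk
    have hsq : (g ^ p ^ k) * (g ^ p ^ k) = 1 := by
      refine Subtype.ext (Subtype.ext ?_)
      have h1' : Cfsg.Agent.Lib.SL2Trace.toPSL (((g ^ p ^ k : J) : H) : Matrix.SpecialLinearGroup (Fin 2) F) = 1 := h1
      rcases Cfsg.Agent.Lib.SL2Trace.toPSL_eq_one.mp h1' with h | h <;>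
        simp only [Subgroup.coe_mul, Subgroup.coe_one, h] <;> simp
    have hd : orderOf (g ^ p ^ k) ∣ 2 := orderOf_dvd_of_pow_eq_one (by rw [sq]; exact hsq)
    rcases (Nat.dvd_prime Nat.prime_two).mp hd with h | h
    · exact orderOf_eq_one_iff.mp h
    · exact absurd ((dvd_of_eq h.symm).trans (orderOf_dvd_natCard (g ^ p ^ k))) hJodd
  apply hPQ
  have e1 : J = (P : Subgroup H) := P.3 hJp le_sup_left
  have e2 : J = (Q : Subgroup H) := Q.3 hJp le_sup_right
  exact Sylow.ext (e1.symm.trans e2)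

end Cfsg.Agent.S0275
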