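import Cfsg.Statements.S0289
import Mathlib
import Cfsg.Agent.Lib.Classical.IsotropicCount

set_option autoImplicit false
open Cfsg

namespace Cfsg.Agent.S0289

/-- The hyperbolic quadratic form on F^(2m), m at least 1, has q^(2m-1) + q^m - q^(m-1) zeros (that is, (q^m - 1)(q^(m-1) + 1) non-zero isotropic vectors). -/
theorem result {F : Type*} [Field F] [Fintype F] {q : ℕ} (hF : Fintype.card F = q) (m : ℕ) (hm : 1 ≤ m) : Nat.card {v : Fin m ⊕ Fin m → F // Cfsg.quadFormPlus m F v = 0} = q ^ (2 * m - 1) + q ^ m - q ^ (m - 1) := by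
  subst hF
  have h := Lib.Classical.card_zeros_hyperbolic_iter (fun _ : Unit => (0 : F)) m
  have e : Nat.card {v : ((Fin m → F) × (Fin m → F)) × Unit //
      (∑ i, v.1.1 i * v.1.2 i) + (0 : F) = 0} =
      Nat.card {v : Fin m ⊕ Fin m → F // Cfsg.quadFormPlus m F v = 0} := by
    refine Nat.card_congr (Equiv.subtypeEquiv
      ((Equiv.prodPUnit _).trans (Equiv.sumArrowEquivProdArrow _ _ _).symm) (fun v => ?_))
    simp [Cfsg.quadFormPlus, Equiv.sumArrowEquivProdArrow, Prod.map]
  rw [e] at h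
  have h0 : Nat.card {a : Unit // (fun _ : Unit => (0 : F)) a = 0} = 1 := by simp
  rw [h0] at h
  simp only [Nat.card_unique, mul_one] at h
  obtain ⟨k, rfl⟩ := Nat.exists_eq_add_of_le hm
  have hq : 1 ≤ Fintype.card F := Fintype.card_pos
  have hle : Fintype.card F ^ k ≤ Fintype.card F ^ (2 * (1 + k) - 1) + Fintype.card F ^ (1 + k) :=
    le_add_left (Nat.pow_le_pow_right hq (by omega))
  rw [show (1 + k) - 1 = k by omega, show 2 * (1 + k) - 1 = 2 * k + 1 by omega] at *
  apply Nat.eq_of_mul_eq_mul_left (n := Fintype.card F) (by omega)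
  zify [hle] at h ⊢
  ring_nf at h ⊢
  linear_combination h

end Cfsg.Agent.S0289
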