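import Cfsg.Statements.S0290
import Mathlib
import Cfsg.Agent.Lib.Classical.IsotropicCount

set_option autoImplicit false
open Cfsg

namespace Cfsg.Agent.S0290

/-- The minus-type quadratic form on F^(2m), m at least 1, has q^(2m-1) + q^(m-1) - q^m zeros (that is, (q^m + 1)(q^(m-1) - 1) non-zero isotropic vectors). -/
theorem result {F : Type*} [Field F] [Fintype F] {q : ℕ} (hF : Fintype.card F = q) (m : ℕ) (hm : 1 ≤ m) (a b : F) (hab : ∀ z₁ z₂ : F, z₁ ^ 2 + a * z₁ * z₂ + b * z₂ ^ 2 = 0 → z₁ = 0 ∧ z₂ = 0) : Nat.card {v : (Fin (m - 1) ⊕ Fin (m - 1)) ⊕ Fin 2 → F // Cfsg.quadFormMinus (m - 1) F a b v = 0} = q ^ (2 * m - 1) + q ^ (m - 1) - q ^ m := by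
  subst hF
  obtain ⟨k, rfl⟩ := Nat.exists_eq_add_of_le hm
  have hk : 1 + k - 1 = k := by omega
  generalize hj : 1 + k - 1 = j
  obtain rfl : j = k := by omega
  let Q : (Fin 2 → F) → F := fun z => z 0 ^ 2 + a * z 0 * z 1 + b * z 1 ^ 2
  have h := Lib.Classical.card_zeros_hyperbolic_iter Q j
  have e : Nat.card {v : ((Fin j → F) × (Fin j → F)) × (Fin 2 → F) //
      (∑ i, v.1.1 i * v.1.2 i) + Q v.2 = 0} =
      Nat.card {v : (Fin j ⊕ Fin j) ⊕ Fin 2 → F // Cfsg.quadFormMinus j F a b v = 0} := by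
    refine Nat.card_congr (Equiv.subtypeEquiv
      (((Equiv.sumArrowEquivProdArrow _ _ _).symm.prodCongr (Equiv.refl _)).trans
        (Equiv.sumArrowEquivProdArrow _ _ _).symm) (fun v => ?_))
    simp [Cfsg.quadFormMinus, Q, Equiv.sumArrowEquivProdArrow, Prod.map]
  rw [e] at h
  have h0 : Nat.card {z : Fin 2 → F // Q z = 0} = 1 := by
    rw [Nat.card_eq_one_iff_exists]
    refine ⟨⟨0, by simp [Q]⟩, fun z => Subtype.ext ?_⟩
    have := hab _ _ z.2
    funext i
    fin_cases i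
    · exact this.1
    · exact this.2
  rw [h0] at h
  simp only [Nat.card_fun, Nat.card_fin, Nat.card_eq_fintype_card (α := F), mul_one] at h
  have hq : 1 ≤ Fintype.card F := Fintype.card_pos
  have hle : Fintype.card F ^ (1 + j) ≤ Fintype.card F ^ (2 * (1 + j) - 1) + Fintype.card F ^ j :=
    le_add_right (Nat.pow_le_pow_right hq (by omega))
  rw [show 2 * (1 + j) - 1 = 2 * j + 1 by omega] at *
  apply Nat.eq_of_mul_eq_mul_left (n := Fintype.card F) (by omega)
  zify [hle] at h ⊢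
  ring_nf at h ⊢
  linear_combination h

end Cfsg.Agent.S0290
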