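import Cfsg.Statements.S0291
import Mathlib
import Cfsg.Agent.Lib.Classical.IsotropicCount

set_option autoImplicit false
open Cfsg

namespace Cfsg.Agent.S0291

/-- For q odd, the form x_0^2 + sum_{i<m} x_i y_i on F^(2m+1) has exactly q^(2m) zeros. -/
theorem result {F : Type*} [Field F] [Fintype F] {q : ℕ} (hF : Fintype.card F = q) (hodd : Odd q) (m : ℕ) : Nat.card {v : Unit ⊕ (Fin m ⊕ Fin m) → F // Cfsg.quadFormOdd m F v = 0} = q ^ (2 * m) := by
  subst hF
  let Q : (Unit → F) → F := fun z => z () ^ 2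
  have h := Lib.Classical.card_zeros_hyperbolic_iter Q m
  have e : Nat.card {v : ((Fin m → F) × (Fin m → F)) × (Unit → F) //
      (∑ i, v.1.1 i * v.1.2 i) + Q v.2 = 0} =
      Nat.card {v : Unit ⊕ (Fin m ⊕ Fin m) → F // Cfsg.quadFormOdd m F v = 0} := by
    refine Nat.card_congr (Equiv.subtypeEquiv
      ((Equiv.prodComm _ _).trans (((Equiv.refl _).prodCongr
        (Equiv.sumArrowEquivProdArrow _ _ _).symm).trans
        (Equiv.sumArrowEquivProdArrow _ _ _).symm)) (fun v => ?_))
    simp [Cfsg.quadFormOdd, Q, add_comm, Equiv.sumArrowEquivProdArrow, Prod.map]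
  rw [e] at h
  have h0 : Nat.card {z : Unit → F // Q z = 0} = 1 := by
    rw [Nat.card_eq_one_iff_exists]
    refine ⟨⟨0, by simp [Q]⟩, fun z => Subtype.ext ?_⟩
    funext i
    exact eq_zero_of_pow_eq_zero z.2
  rw [h0] at h
  simp only [Nat.card_fun, Nat.card_unique, Nat.card_eq_fintype_card (α := F), mul_one,
    pow_one] at h
  have hq : 1 ≤ Fintype.card F := Fintype.card_pos
  apply Nat.eq_of_mul_eq_mul_left (n := Fintype.card F) (by omega)
  ring_nf at h ⊢
  linarith

end Cfsg.Agent.S0291
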