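import Cfsg.Statements.S0307
import Cfsg.Agent.Lib.Classical.LinearCard

set_option autoImplicit false
open Cfsg

namespace Cfsg.Agent.S0307

/-- PSL_n(q) is normal in PGL_n(q) with cyclic quotient of order gcd(n, q-1): the image of the natural map PSL_n → PGL_n is the kernel of a surjective homomorphism onto the cyclic group of that order. -/
theorem result {F : Type*} [Field F] [Fintype F] {q : ℕ} (hF : Fintype.card F = q) (n : ℕ) (hn : 1 ≤ n) : ∃ g : Matrix.ProjGenLinGroup (Fin n) F →* Multiplicative (ZMod (Nat.gcd n (q - 1))), Function.Surjective g ∧ g.ker = (Matrix.ProjectiveSpecialLinearGroup.toPGL : Matrix.ProjectiveSpecialLinearGroup (Fin n) F →* Matrix.ProjGenLinGroup (Fin n) F).range := by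
  subst hF
  haveI : Nonempty (Fin n) := ⟨⟨0, hn⟩⟩
  set d := Nat.gcd n (Fintype.card F - 1) with hd
  let S : Subgroup Fˣ := (powMonoidHom n : Fˣ →* Fˣ).range
  have hidx : Nat.card (Fˣ ⧸ S) = d := by
    show S.index = d
    rw [IsCyclic.index_powMonoidHom_range, Lib.Classical.natCard_units, hd, Nat.gcd_comm]
  haveI : IsCyclic (Fˣ ⧸ S) := isCyclic_of_surjective _ (QuotientGroup.mk'_surjective S)
  let e : Multiplicative (ZMod d) ≃* Fˣ ⧸ S :=
    mulEquivOfCyclicCardEq (by
      rw [hidx, Nat.card_congr Multiplicative.toAdd, Nat.card_zmod])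
  let f : Matrix.GeneralLinearGroup (Fin n) F →* Multiplicative (ZMod d) :=
    e.symm.toMonoidHom.comp ((QuotientGroup.mk' S).comp Matrix.GeneralLinearGroup.det)
  have hf : f.comp (Matrix.GeneralLinearGroup.scalar (Fin n)) = 1 := by
    ext u
    have : Matrix.GeneralLinearGroup.det (Matrix.GeneralLinearGroup.scalar (Fin n) u) = u ^ n := by
      apply Units.ext
      simp
    simp only [f, MonoidHom.comp_apply, this, MonoidHom.one_apply]
    have : (QuotientGroup.mk' S) (u ^ n) = 1 := (QuotientGroup.eq_one_iff _).mpr ⟨u, rfl⟩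
    rw [this, map_one]
  refine ⟨Matrix.ProjGenLinGroup.lift f hf, ?_, ?_⟩
  · intro x
    obtain ⟨a, ha⟩ := QuotientGroup.mk'_surjective S (e x)
    obtain ⟨g, hg⟩ := Matrix.GeneralLinearGroup.det_surjective (n := Fin n) a
    refine ⟨Matrix.ProjGenLinGroup.mk g, ?_⟩
    rw [Matrix.ProjGenLinGroup.lift_mk]
    simp only [f, MonoidHom.comp_apply, hg, ha, MulEquiv.coe_toMonoidHom, MulEquiv.symm_apply_apply]
  · apply le_antisymm
    · intro x hx
      induction x using Matrix.ProjGenLinGroup.induction_on with | mk g =>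
      rw [MonoidHom.mem_ker, Matrix.ProjGenLinGroup.lift_mk] at hx
      have hx' : (QuotientGroup.mk' S) (Matrix.GeneralLinearGroup.det g) = 1 := by
        apply e.symm.injective
        simpa [f] using hx
      obtain ⟨k, hk⟩ := (QuotientGroup.eq_one_iff _).mp hx'
      have hker : g * (Matrix.GeneralLinearGroup.scalar (Fin n) k)⁻¹ ∈
          (Matrix.GeneralLinearGroup.det : _ →* Fˣ).ker := by
        rw [MonoidHom.mem_ker, map_mul, map_inv, mul_inv_eq_one]
        apply Units.ext
        rw [← hk]
        simp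
      rw [← Lib.Classical.range_toGL_eq_ker_det] at hker
      obtain ⟨a, ha⟩ := hker
      refine ⟨QuotientGroup.mk a, ?_⟩
      rw [Matrix.ProjectiveSpecialLinearGroup.toPGL_mk, ha, map_mul, map_inv,
        Matrix.ProjGenLinGroup.mk_scalar, inv_one, mul_one]
    · rintro _ ⟨y, rfl⟩
      induction y using QuotientGroup.induction_on with | H a =>
      rw [MonoidHom.mem_ker, Matrix.ProjectiveSpecialLinearGroup.toPGL_mk,
        Matrix.ProjGenLinGroup.lift_mk]
      simp [f]

end Cfsg.Agent.S0307
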