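import Cfsg.Statements.S0316
import Cfsg.Agent.Lib.BNPair.Basic
-- import your own Cfsg.Agent.* helpers here

set_option autoImplicit false
open Cfsg

namespace Cfsg.Agent.S0316

/-- The map `J ↦ P_J` is a lattice isomorphism from the power set of the set of distinguished generators onto the
subgroups containing `B`. -/
theorem result {G : Type*} [Group G] (P : Cfsg.BNPair G) :
    ∃ e : Set P.S ≃o {M : Subgroup G // P.B ≤ M},
      ∀ J : Set P.S, ((e J : {M : Subgroup G // P.B ≤ M}) : Subgroup G) = P.parabolic (Subtype.val '' J) := by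
  let f : Set P.S → {M : Subgroup G // P.B ≤ M} := fun J =>
    ⟨P.parabolic (Subtype.val '' J), Cfsg.Agent.Lib.BNPair.B_le_parabolic P _⟩
  have hsub : ∀ J : Set P.S, Subtype.val '' J ⊆ P.S := by
    rintro J _ ⟨x, -, rfl⟩; exact x.2
  have hmono : ∀ J K : Set P.S, f J ≤ f K ↔ J ⊆ K := by
    intro J K
    constructor
    · intro h x hx
      have h1 := h (Cfsg.Agent.Lib.BNPair.subset_parabolic P _ ⟨x, hx, rfl⟩)
      obtain ⟨y, hy, he⟩ := Cfsg.Agent.Lib.BNPair.mem_of_mem_parabolic P (hsub K) x.2 h1
      exact Subtype.ext he ▸ hy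
    · intro h
      show P.parabolic _ ≤ P.parabolic _
      unfold Cfsg.BNPair.parabolic
      exact sup_le_sup_left (Subgroup.closure_mono (Set.image_mono h)) _
  have hsurj : Function.Surjective f := by
    rintro ⟨M, hM⟩
    refine ⟨{x | (x : G) ∈ M}, Subtype.ext ?_⟩
    show P.parabolic _ = M
    conv_rhs => rw [Cfsg.Agent.Lib.BNPair.eq_parabolic P hM]
    congr 1
    ext x
    simp [and_comm]
  have hinj : Function.Injective f := fun J K h =>
    Set.Subset.antisymm ((hmono J K).1 h.le) ((hmono K J).1 h.ge)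
  exact ⟨{ toEquiv := Equiv.ofBijective f ⟨hinj, hsurj⟩, map_rel_iff' := fun {J K} => hmono J K },
    fun J => rfl⟩

end Cfsg.Agent.S0316
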