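import Cfsg.Statements.S0321
import Cfsg.Agent.Lib.BNPair.Basic
-- import your own Cfsg.Agent.* helpers here

set_option autoImplicit false
open Cfsg

namespace Cfsg.Agent.S0321

/-- For `n ∈ N` not in `B`, the union `B ∪ B n B` is (the underlying set of) a subgroup exactly when `n` agrees
modulo `B ⊓ N` with one of the distinguished representatives; thus the distinguished involutions are
determined by `B` and `N`. -/
theorem result {G : Type*} [Group G] (P : Cfsg.BNPair G) {n : G}
    (hn : n ∈ P.N) (hnB : n ∉ P.B) :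
    (∃ H : Subgroup G, (H : Set G) = (P.B : Set G) ∪ DoubleCoset.doubleCoset n (P.B : Set G) P.B) ↔ ∃ s ∈ P.S, s⁻¹ * n ∈ P.B := by
  constructor
  · rintro ⟨H, hH⟩
    have hB : P.B ≤ H := fun x hx => by
      rw [← SetLike.mem_coe, hH]; exact Or.inl hx
    obtain ⟨s, hs, hsH⟩ : ∃ s ∈ P.S, s ∈ H := by
      by_contra hne
      have hn' : n ∈ H := by
        rw [← SetLike.mem_coe, hH]; exact Or.inr (Cfsg.Agent.Lib.BNPair.mem_dc_self P n)
      rw [Cfsg.Agent.Lib.BNPair.eq_parabolic P hB] at hn'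
      have he : {x ∈ P.S | x ∈ H} = (∅ : Set G) :=
        Set.eq_empty_iff_forall_notMem.2 fun x hx => hne ⟨x, hx.1, hx.2⟩
      rw [he, Cfsg.BNPair.parabolic, Subgroup.closure_empty, sup_bot_eq] at hn'
      exact hnB hn'
    refine ⟨s, hs, ?_⟩
    rw [← SetLike.mem_coe, hH] at hsH
    rcases hsH with h | h
    · exact absurd h (Cfsg.Agent.Lib.BNPair.s_not_mem P hs)
    · exact Cfsg.Agent.Lib.BNPair.cong_of_dc_eq P (Cfsg.Agent.Lib.BNPair.s_mem P hs) hn
        (Cfsg.Agent.Lib.BNPair.dc_eq_of_mem P h)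
  · rintro ⟨s, hs, hsn⟩
    refine ⟨P.parabolic {s}, ?_⟩
    have hJ : ({s} : Set G) ⊆ P.S := Set.singleton_subset_iff.2 hs
    have e : DoubleCoset.doubleCoset n (P.B : Set G) P.B = Cfsg.Agent.Lib.BNPair.dc P s :=
      (Cfsg.Agent.Lib.BNPair.dc_eq_of_cong P hsn).symm
    rw [e]
    ext x
    rw [SetLike.mem_coe, Cfsg.Agent.Lib.BNPair.mem_parabolic_iff P hJ]
    constructor
    · rintro ⟨k, hk, hx⟩
      obtain ⟨-, w, hw, hc⟩ := Cfsg.Agent.Lib.BNPair.exists_word_of_mem_closure P hJ hk
      have hwS : Cfsg.Agent.Lib.BNPair.IsWord P.S w := fun z hz => hJ (hw z hz)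
      have key : ∀ (v : List G), Cfsg.Agent.Lib.BNPair.IsWord {s} v →
          Cfsg.Agent.Lib.BNPair.Cong P 1 v.prod ∨ Cfsg.Agent.Lib.BNPair.Cong P s v.prod := by
        intro v
        induction v with
        | nil => intro _; exact Or.inl (Cfsg.Agent.Lib.BNPair.cong_refl P _)
        | cons a v ih =>
          intro hv
          obtain rfl : a = s := hv a (by simp)
          rw [List.prod_cons]
          rcases ih (fun z hz => hv z (by simp [hz])) with h | h
          · right
            simpa using Cfsg.Agent.Lib.BNPair.cong_left P a h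
          · left
            exact Cfsg.Agent.Lib.BNPair.cong_trans P (Cfsg.Agent.Lib.BNPair.cong_symm P (Cfsg.Agent.Lib.BNPair.cong_ss P hs)) (Cfsg.Agent.Lib.BNPair.cong_left P a h)
      rcases key w hw with h | h
      · left
        rw [← Cfsg.Agent.Lib.BNPair.dc_eq_of_cong P (Cfsg.Agent.Lib.BNPair.cong_trans P h hc), Cfsg.Agent.Lib.BNPair.dc_one] at hx
        exact hx
      · right
        rw [← Cfsg.Agent.Lib.BNPair.dc_eq_of_cong P (Cfsg.Agent.Lib.BNPair.cong_trans P h hc)] at hx
        exact hx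
    · rintro (hx | hx)
      · exact ⟨1, one_mem _, (Cfsg.Agent.Lib.BNPair.dc_one P).2 hx⟩
      · exact ⟨s, Subgroup.subset_closure rfl, hx⟩

end Cfsg.Agent.S0321
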