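import Cfsg.Statements.S0322
import Cfsg.Agent.Lib.BNPair.Basic
-- import your own Cfsg.Agent.* helpers here

set_option autoImplicit false
open Cfsg

namespace Cfsg.Agent.S0322

/-- A group with a (B,N)-pair of rank one acts doubly transitively on the left cosets of `B`. -/
theorem result {G : Type*} [Group G] (P : Cfsg.BNPair G) (h : P.rank = 1) : MulAction.IsMultiplyPretransitive G (G ⧸ P.B) 2 := by
  obtain ⟨s, hs⟩ : ∃ s, P.S = {s} := by
    have h1 : P.S.ncard = 1 := by rw [← Nat.card_coe_set_eq]; exact h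
    exact Set.ncard_eq_one.1 h1
  have hsS : s ∈ P.S := hs ▸ rfl
  have hcase : ∀ g : G, g ∈ P.B ∨ g ∈ Cfsg.Agent.Lib.BNPair.dc P s := by
    intro g
    have hg : g ∈ P.parabolic {s} := by rw [← hs, Cfsg.Agent.Lib.BNPair.parabolic_S]; trivial
    obtain ⟨k, hk, hx⟩ := Cfsg.Agent.Lib.BNPair.exists_mem_dc_of_mem_parabolic P (by rw [hs]) hg
    obtain ⟨-, w, hw, hc⟩ := Cfsg.Agent.Lib.BNPair.exists_word_of_mem_closure P (by rw [hs]) hk
    have key : ∀ (v : List G), Cfsg.Agent.Lib.BNPair.IsWord {s} v →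
        Cfsg.Agent.Lib.BNPair.Cong P 1 v.prod ∨ Cfsg.Agent.Lib.BNPair.Cong P s v.prod := by
      intro v
      induction v with
      | nil => intro _; exact Or.inl (Cfsg.Agent.Lib.BNPair.cong_refl P _)
      | cons a v ih =>
        intro hv
        obtain rfl : a = s := hv a (by simp)
        rw [List.prod_cons]
        rcases ih (fun z hz => hv z (by simp [hz])) with h | h
        · right
          simpa using Cfsg.Agent.Lib.BNPair.cong_left P a h
        · left
          exact Cfsg.Agent.Lib.BNPair.cong_trans P (Cfsg.Agent.Lib.BNPair.cong_symm P (Cfsg.Agent.Lib.BNPair.cong_ss P hsS)) (Cfsg.Agent.Lib.BNPair.cong_left P a h)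
    rcases key w hw with h' | h'
    · rw [← Cfsg.Agent.Lib.BNPair.dc_eq_of_cong P (Cfsg.Agent.Lib.BNPair.cong_trans P h' hc), Cfsg.Agent.Lib.BNPair.dc_one] at hx
      exact Or.inl hx
    · rw [← Cfsg.Agent.Lib.BNPair.dc_eq_of_cong P (Cfsg.Agent.Lib.BNPair.cong_trans P h' hc)] at hx
      exact Or.inr hx
  rw [MulAction.is_two_pretransitive_iff]
  intro a b c d hab hcd
  have base : ∀ a b : G ⧸ P.B, a ≠ b → ∃ g : G,
      g • (((1 : G) : G ⧸ P.B)) = a ∧ g • ((s : G) : G ⧸ P.B) = b := by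
    intro a b hab
    induction a using QuotientGroup.induction_on with
    | _ x =>
    induction b using QuotientGroup.induction_on with
    | _ y =>
    have hxy : x⁻¹ * y ∉ P.B := fun h => hab (QuotientGroup.eq.2 h)
    obtain ⟨p, hp, q, hq, hpq⟩ := (Cfsg.Agent.Lib.BNPair.mem_dc P).1 ((hcase (x⁻¹ * y)).resolve_left hxy)
    refine ⟨x * p, ?_, ?_⟩
    · rw [MulAction.Quotient.smul_mk, smul_eq_mul, mul_one, QuotientGroup.eq]
      simpa using hp
    · rw [MulAction.Quotient.smul_mk, smul_eq_mul, QuotientGroup.eq]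
      have e : (x * p * s)⁻¹ * y = q := by
        calc (x * p * s)⁻¹ * y = (p * s)⁻¹ * (x⁻¹ * y) := by group
          _ = q := by rw [hpq]; group
      rw [e]; exact hq
  obtain ⟨g, hg1, hg2⟩ := base a b hab
  obtain ⟨g', hg1', hg2'⟩ := base c d hcd
  exact ⟨g' * g⁻¹, by rw [mul_smul, ← hg1, inv_smul_smul, hg1'],
    by rw [mul_smul, ← hg2, inv_smul_smul, hg2']⟩

end Cfsg.Agent.S0322
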