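import Cfsg.Statements.S0326
-- import your own Cfsg.Agent.* helpers here

set_option autoImplicit false
open Cfsg

namespace Cfsg.Agent.S0326

/-- The Suzuki–Tits ovoid over a finite field with `q` elements has `q² + 1` points. -/
theorem result {F : Type*} [Field F] [Fintype F] (m : ℕ) :
    Nat.card (Cfsg.suzukiOvoid F m) = Fintype.card F ^ 2 + 1 := by
  classical
  have hne : ∀ x y : F, ![x * y + x ^ (2 ^ (m + 1) + 2) + y ^ (2 ^ (m + 1)), y, x, (1 : F)] ≠ 0 := fun x y h => by
    simpa using congrFun h 3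
  have hinf : ![(1 : F), 0, 0, 0] ≠ 0 := fun h => by simpa using congrFun h 0
  let v : Option (F × F) → {v : Fin 4 → F // v ≠ 0} := fun o => match o with
    | none => ⟨_, hinf⟩
    | some p => ⟨_, hne p.1 p.2⟩
  let f : Option (F × F) → Cfsg.suzukiOvoid F m := fun o =>
    ⟨Projectivization.mk F (v o).1 (v o).2, (v o).1, (v o).2, rfl, by
      rcases o with _ | p
      · exact Or.inl rfl
      · exact Or.inr ⟨p.1, p.2, rfl⟩⟩
  have hf : Function.Bijective f := by
    constructor
    · intro o o' h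
      obtain ⟨a, ha⟩ := (Projectivization.mk_eq_mk_iff F _ _ _ _).mp (congrArg Subtype.val h)
      have h1 := congrFun ha 1
      have h2 := congrFun ha 2
      have h3 := congrFun ha 3
      rcases o with _ | ⟨x, y⟩ <;> rcases o' with _ | ⟨x', y'⟩ <;>
        simp [v, Units.smul_def] at h1 h2 h3 ⊢
      simp [h3] at h1 h2
      exact ⟨h2.symm, h1.symm⟩
    · rintro ⟨p, w, hw, rfl, rfl | ⟨x, y, rfl⟩⟩
      · exact ⟨none, rfl⟩
      · exact ⟨some (x, y), rfl⟩
  rw [← Nat.card_eq_of_bijective f hf, Nat.card_eq_fintype_card, Fintype.card_option, Fintype.card_prod, sq]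

end Cfsg.Agent.S0326
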