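import Cfsg.Statements.S0327
import Cfsg.Agent.Lib.KnownA.SuzukiModel
open Cfsg.Agent.Lib.KnownA Cfsg.Agent.Lib.KnownA.Suz

set_option autoImplicit false
open Cfsg

namespace Cfsg.Agent.S0327

/-- The Suzuki group (`m ≥ 1`) is a Zassenhaus group on the `q² + 1` points of the Suzuki–Tits ovoid. -/
theorem result {F : Type*} [Field F] [Fintype F] {m : ℕ} (hm : 1 ≤ m)
    (hF : Fintype.card F = 2 ^ (2 * m + 1)) :
    Cfsg.IsZassenhausGroup (Cfsg.Sz F m) (Cfsg.suzukiOvoid F m) := by
  haveI := charP_two hF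
  have hθ : ∀ x : F, szTh m (szTh m x) = x * x := th_sq hF
  let e := model hθ hm hF
  let P : Pts F → ↥(Cfsg.suzukiOvoid F m) := fun o => ⟨ptP m o, ptP_mem o⟩
  have hPi : Function.Injective P := fun o o1 h => ptP_injective (congrArg Subtype.val h)
  have hPs : ∀ x, ∃ o, P o = x := fun x => (ptP_surj x.2).imp fun o h => Subtype.ext h
  have hact : ∀ (g : ↥(Cfsg.Sz F m)) (o : Pts F), g • P o = P (Suz.act hθ (e g) o) := fun g o =>
    Subtype.ext (model_smul hθ hm hF g o)
  have hone : ∀ g : ↥(Cfsg.Sz F m), e g = 1 → g = 1 := fun g h => e.injective (h.trans (map_one e).symm)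
  haveI := isSimple hθ hm hF
  haveI : Nontrivial ↥(Cfsg.Sz F m) := e.toEquiv.nontrivial
  haveI : IsSimpleGroup ↥(Cfsg.Sz F m) := IsSimpleGroup.isSimpleGroup_of_surjective e.symm.toMonoidHom e.symm.surjective
  refine ⟨⟨fun {g h} hgh => ?_⟩, ?_, ?_, ?_, ?_⟩
  · have hfix : ∀ o, Suz.act hθ (e (h⁻¹ * g)) o = o := fun o => hPi (by
      rw [← hact, mul_smul, hgh, inv_smul_smul])
    exact (eq_of_inv_mul_eq_one (hone _ (three_fixed hθ (o₁ := none) (o₂ := some (0, 0)) (o₃ := some (1, 0))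
      (by simp) (by simp) (by simp) (hfix _) (hfix _) (hfix _)))).symm
  · rw [MulAction.is_two_pretransitive_iff]
    intro a b c d hab hcd
    obtain ⟨a, rfl⟩ := hPs a; obtain ⟨b, rfl⟩ := hPs b; obtain ⟨c, rfl⟩ := hPs c; obtain ⟨d, rfl⟩ := hPs d
    obtain ⟨g1, h1, h2⟩ := two_transitive hθ (fun h => hab (congrArg P h))
    obtain ⟨g2, h3, h4⟩ := two_transitive hθ (fun h => hcd (congrArg P h))
    refine ⟨e.symm (g2 * g1⁻¹), ?_, ?_⟩ <;> rw [hact, MulEquiv.apply_symm_apply, Suz.act_mul]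
    · rw [← h1, Suz.act_inv_act, h3]
    · rw [← h2, Suz.act_inv_act, h4]
  · intro g a b c hab hbc hac ha hb hc
    obtain ⟨a, rfl⟩ := hPs a; obtain ⟨b, rfl⟩ := hPs b; obtain ⟨c, rfl⟩ := hPs c
    rw [hact] at ha hb hc
    exact hone g (three_fixed hθ (fun h => hab (congrArg P h)) (fun h => hbc (congrArg P h))
      (fun h => hac (congrArg P h)) (hPi ha) (hPi hb) (hPi hc))
  · obtain ⟨t, ht0, ht1⟩ := exists_two hθ hm hF
    refine ⟨e.symm (tor hθ (Units.mk0 t ht0)), fun h => ht1 ?_, P none, P (some (0, 0)), fun h => by simpa using hPi h, ?_, ?_⟩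
    · have h2 : tor hθ (Units.mk0 t ht0) = tor hθ 1 := by
        rw [tor_one]; simpa using congrArg e h
      exact congrArg Units.val (tor_injective hθ h2)
    · rw [hact, MulEquiv.apply_symm_apply, act_tor_none]
    · rw [hact, MulEquiv.apply_symm_apply, act_tor_some]; simp
  · intro N hN htr
    refine ⟨P none, fun hstab => ?_⟩
    rcases IsSimpleGroup.eq_bot_or_eq_top_of_normal N hN with h | h
    · obtain ⟨⟨x, hx⟩, hxe⟩ := htr.exists_smul_eq (P none) (P (some (0, 0)))
      rw [h, Subgroup.mem_bot] at hx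
      subst hx
      have h5 : (1 : ↥(Cfsg.Sz F m)) • P none = P (some (0, 0)) := hxe
      rw [one_smul] at h5
      simpa using hPi h5
    · obtain ⟨t, ht0, ht1⟩ := exists_two hθ hm hF
      have hmm : (⟨e.symm (tor hθ (Units.mk0 t ht0)), h ▸ Subgroup.mem_top _⟩ : N) ∈ MulAction.stabilizer N (P none) := by
        show e.symm (tor hθ (Units.mk0 t ht0)) • P none = P none
        rw [hact, MulEquiv.apply_symm_apply, act_tor_none]
      rw [hstab, Subgroup.mem_bot] at hmm
      have h2 : tor hθ (Units.mk0 t ht0) = tor hθ 1 := by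
        rw [tor_one]; simpa using congrArg e (congrArg Subtype.val hmm)
      exact ht1 (congrArg Units.val (tor_injective hθ h2))

end Cfsg.Agent.S0327
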