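import Cfsg.Statements.S0328
import Cfsg.Agent.Lib.KnownA.SuzukiModel
open Cfsg.Agent.Lib.KnownA Cfsg.Agent.Lib.KnownA.Suz

set_option autoImplicit false
open Cfsg

namespace Cfsg.Agent.S0328

/-- The stabiliser in the Suzuki group of the two ovoid points spanned by `(1,0,0,0)` and `(0,0,0,1)` is
isomorphic to the multiplicative group of the field (cyclic of order `q - 1`). -/
theorem result {F : Type*} [Field F] [Fintype F] {m : ℕ} (hm : 1 ≤ m)
    (hF : Fintype.card F = 2 ^ (2 * m + 1)) :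
    Nonempty (↥(MulAction.stabilizer (Cfsg.Sz F m) (Cfsg.suzukiPointInfinity F) ⊓
        MulAction.stabilizer (Cfsg.Sz F m) (Cfsg.suzukiPointZero F)) ≃* Fˣ) := by
  haveI := charP_two hF
  have hθ : ∀ x : F, szTh m (szTh m x) = x * x := th_sq hF
  have key : ∀ g : ↥(Cfsg.Sz F m), g ∈ MulAction.stabilizer ↥(Cfsg.Sz F m) (Cfsg.suzukiPointInfinity F) ⊓
      MulAction.stabilizer ↥(Cfsg.Sz F m) (Cfsg.suzukiPointZero F) ↔ model hθ hm hF g ∈ (torHom hθ).range := fun g => by
    rw [Subgroup.mem_inf, ← ptP_none (m := m), ← ptP_zero (m := m), mem_stab_iff hθ hm hF, mem_stab_iff hθ hm hF]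
    constructor
    · rintro ⟨h1, h2⟩
      obtain ⟨k, hk⟩ := stab_two hθ h1 h2
      exact ⟨k, hk.symm⟩
    · rintro ⟨k, hk⟩
      rw [← hk]
      exact ⟨act_tor_none hθ k, by show Suz.act hθ (tor hθ k) _ = _; rw [act_tor_some]; simp⟩
  refine ⟨MulEquiv.trans ?_ (MonoidHom.ofInjective (f := torHom hθ) (tor_injective hθ)).symm⟩
  exact
    { toFun := fun g => ⟨model hθ hm hF g.1, (key g.1).mp g.2⟩
      invFun := fun x => ⟨(model hθ hm hF).symm x.1, (key _).mpr (by rw [MulEquiv.apply_symm_apply]; exact x.2)⟩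
      left_inv := fun g => Subtype.ext ((model hθ hm hF).symm_apply_apply _)
      right_inv := fun x => Subtype.ext ((model hθ hm hF).apply_symm_apply _)
      map_mul' := fun g h => Subtype.ext (map_mul (model hθ hm hF) g.1 h.1) }

end Cfsg.Agent.S0328
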