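import Cfsg.Statements.S0330
import Cfsg.Agent.Lib.KnownA.SuzukiModel
open Cfsg.Agent.Lib.KnownA Cfsg.Agent.Lib.KnownA.Suz

set_option autoImplicit false
open Cfsg

namespace Cfsg.Agent.S0330

/-- A Sylow 2-subgroup `P` of the Suzuki group (field with `q = 2^(2m+1)` elements, `m ≥ 1`) has order `q²` and
exponent `4`; its centre coincides with its commutator subgroup and has order `q`. -/
theorem result {F : Type*} [Field F] [Fintype F] {m : ℕ} (hm : 1 ≤ m)
    (hF : Fintype.card F = 2 ^ (2 * m + 1)) (P : Sylow 2 (Cfsg.Sz F m)) :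
    Nat.card P = (2 ^ (2 * m + 1)) ^ 2 ∧ Monoid.exponent P = 4 ∧
      Subgroup.center P = commutator P ∧ Nat.card (Subgroup.center P) = 2 ^ (2 * m + 1) := by
  haveI := charP_two hF
  have hθ : ∀ x : F, szTh m (szTh m x) = x * x := th_sq hF
  obtain ⟨e, he⟩ := exists_sylow_equiv hθ (szBridge hθ hm hF) hF P
  let e2 : ↥(P : Subgroup ↥(Cfsg.Sz F m)) ≃* ↥(U hθ) :=
    (e.subgroupMap (P : Subgroup ↥(Cfsg.Sz F m))).trans (MulEquiv.subgroupCongr he)
  have hc : (Subgroup.center ↥(P : Subgroup ↥(Cfsg.Sz F m))).map e2.toMonoidHom = Subgroup.center ↥(U hθ) :=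
    by
    ext y
    obtain ⟨x, rfl⟩ := e2.surjective y
    rw [show e2 x = e2.toMonoidHom x from rfl, Subgroup.mem_map_iff_mem e2.injective, Subgroup.mem_center_iff, Subgroup.mem_center_iff]
    constructor
    · intro h z
      obtain ⟨w, rfl⟩ := e2.surjective z
      show e2 w * e2 x = e2 x * e2 w
      rw [← map_mul, ← map_mul, h w]
    · intro h z
      apply e2.injective
      rw [map_mul, map_mul]
      exact h (e2 z)
  have hd : (commutator ↥(P : Subgroup ↥(Cfsg.Sz F m))).map e2.toMonoidHom = commutator ↥(U hθ) := by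
    rw [commutator_def, Subgroup.map_commutator, Subgroup.map_top_of_surjective _ e2.surjective, commutator_def]
  refine ⟨?_, ?_, ?_, ?_⟩
  · rw [show Nat.card P = Nat.card ↥(U hθ) from Nat.card_congr e2.toEquiv, card_U hθ, ← hF, sq]
  · exact (Monoid.exponent_eq_of_mulEquiv e2).trans (exponent_U hθ)
  · exact Subgroup.map_injective (f := e2.toMonoidHom) e2.injective (by rw [hc, hd, commutator_U hθ hm hF])
  · rw [← Subgroup.card_map_of_injective (f := e2.toMonoidHom) (K := Subgroup.center ↥(P : Subgroup ↥(Cfsg.Sz F m))) e2.injective, hc,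
      card_center_U hθ hm hF, hF]

end Cfsg.Agent.S0330
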