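import Cfsg.Statements.S0331
import Cfsg.Agent.Lib.KnownA.SuzukiCentralizer
open Cfsg.Agent.Lib.KnownA

set_option autoImplicit false
open Cfsg

namespace Cfsg.Agent.S0331

/-- For every odd prime `p` the Sylow `p`-subgroups of the Suzuki group are cyclic. -/
theorem result {F : Type*} [Field F] [Fintype F] {m : ℕ} (hm : 1 ≤ m)
    (hF : Fintype.card F = 2 ^ (2 * m + 1)) {p : ℕ} [Fact p.Prime] (hp : p ≠ 2)
    (P : Sylow p (Cfsg.Sz F m)) : IsCyclic P := by
  haveI := Suz.charP_two hF
  let e := Suz.szBridge (Suz.th_sq hF) hm hF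
  let P' : Sylow p ↥(Suz.G F m) := Sylow.ofCard ((P : Subgroup _).map e.toMonoidHom) (by
    rw [Subgroup.card_map_of_injective e.injective, P.card_eq_multiplicity, Nat.card_congr e.toEquiv])
  haveI : IsCyclic ↥((P : Subgroup ↥(Cfsg.Sz F m)).map e.toMonoidHom) :=
    Suz.sylow_odd_cyclic (Suz.th_sq hF) hF hp P'
  exact isCyclic_of_surjective ((P : Subgroup ↥(Cfsg.Sz F m)).equivMapOfInjective e.toMonoidHom e.injective).symm
    (MulEquiv.surjective _)

end Cfsg.Agent.S0331
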