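import Cfsg.Statements.S0332
import Cfsg.Agent.Lib.KnownA.SuzukiCentralizer
open Cfsg.Agent.Lib.KnownA

set_option autoImplicit false
open Cfsg

namespace Cfsg.Agent.S0332

/-- The Suzuki group is a CN-group: every non-identity element has nilpotent centraliser. -/
theorem result {F : Type*} [Field F] [Fintype F] {m : ℕ} (hm : 1 ≤ m)
    (hF : Fintype.card F = 2 ^ (2 * m + 1)) : Cfsg.IsCNGroup (Cfsg.Sz F m) := by
  haveI := Suz.charP_two hF
  intro g hg
  let e := Suz.szBridge (Suz.th_sq hF) hm hF
  haveI := Suz.isCN (Suz.th_sq hF) hF (e g) (fun h => hg (e.injective (h.trans (map_one e).symm)))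
  let f : ↥(Subgroup.centralizer ({g} : Set ↥(Cfsg.Sz F m))) →* ↥(Subgroup.centralizer ({e g} : Set ↥(Suz.G F m))) :=
    (e.toMonoidHom.comp (Subgroup.subtype _)).codRestrict _ fun x => by
      rw [Subgroup.mem_centralizer_singleton_iff]
      show e x * e g = e g * e x
      rw [← map_mul, ← map_mul, Subgroup.mem_centralizer_singleton_iff.mp x.2]
  exact Group.nilpotent_of_mulEquiv (MonoidHom.ofInjective (f := f)
    fun x y h => Subtype.ext (e.injective (congrArg Subtype.val h))).symm

end Cfsg.Agent.S0332
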