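import Cfsg.Statements.S0333
import Cfsg.Agent.Lib.KnownA.SuzukiPartition
open Cfsg.Agent.Lib.KnownA

set_option autoImplicit false
open Cfsg

namespace Cfsg.Agent.S0333

/-- With `q = 2^(2m+1)` and `r = 2^m`, the Suzuki group has cyclic subgroups of orders `q + 2r + 1` and
`q - 2r + 1`; each is the centraliser of each of its non-identity elements and has index `4` in its normaliser. -/
theorem result {F : Type*} [Field F] [Fintype F] {m : ℕ} (hm : 1 ≤ m)
    (hF : Fintype.card F = 2 ^ (2 * m + 1)) :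
    ∀ k ∈ ({2 ^ (2 * m + 1) + 2 ^ (m + 1) + 1, 2 ^ (2 * m + 1) - 2 ^ (m + 1) + 1} : Set ℕ),
      ∃ U : Subgroup (Cfsg.Sz F m), IsCyclic U ∧ Nat.card U = k ∧
        (∀ u ∈ U, u ≠ 1 → Subgroup.centralizer {u} = U) ∧ Nat.card (Subgroup.normalizer (U : Set (Cfsg.Sz F m))) = 4 * k := by
  haveI := Suz.charP_two hF
  let e := (Suz.szBridge (Suz.th_sq hF) hm hF).symm
  obtain ⟨A₁, A₂, hA₁, hA₂, hc₁, hc₂, -, hN, -⟩ := Suz.exists_tori (Suz.th_sq hF) hm hF
  have key : ∀ A : Subgroup ↥(Suz.G F m), Suz.IsTorus (Suz.th_sq hF) A → ∀ k, Nat.card A = k →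
      ∃ U : Subgroup ↥(Cfsg.Sz F m), IsCyclic U ∧ Nat.card U = k ∧ (∀ u ∈ U, u ≠ 1 → Subgroup.centralizer {u} = U) ∧
        Nat.card (Subgroup.normalizer (U : Set ↥(Cfsg.Sz F m))) = 4 * k := by
    intro A hA k hk
    haveI := Suz.torus_cyclic (Suz.th_sq hF) hF hA
    refine ⟨A.map e.toMonoidHom, isCyclic_of_surjective _ (A.equivMapOfInjective e.toMonoidHom e.injective).surjective,
      by rw [Subgroup.card_map_of_injective e.injective, hk], ?_, ?_⟩
    · rintro _ ⟨y, hy, rfl⟩ hy1
      have hy1' : y ≠ 1 := fun h => hy1 (by rw [h, map_one])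
      ext x
      rw [Subgroup.mem_centralizer_singleton_iff, Subgroup.mem_map_equiv,
        ← Suz.torus_centralizer (Suz.th_sq hF) hF hA hy hy1', Subgroup.mem_centralizer_singleton_iff]
      constructor
      · intro h; apply e.injective; simpa using h
      · intro h; apply e.symm.injective; simpa using h
    · rw [← hk, ← hN A hA]
      refine (Nat.card_congr (Equiv.subtypeEquiv e.toEquiv fun x => ?_)).symm
      show x ∈ Subgroup.normalizer (A : Set ↥(Suz.G F m)) ↔
        e x ∈ Subgroup.normalizer (A.map e.toMonoidHom : Set ↥(Cfsg.Sz F m))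
      rw [Subgroup.mem_normalizer_iff, Subgroup.mem_normalizer_iff, e.toEquiv.forall_congr_left]
      refine forall_congr' fun y => ?_
      rw [Subgroup.mem_map_equiv, Subgroup.mem_map_equiv]
      simp
  intro k hk
  simp only [Set.mem_insert_iff, Set.mem_singleton_iff] at hk
  rcases hk with rfl | rfl
  · exact key A₁ hA₁ _ hc₁
  · exact key A₂ hA₂ _ hc₂

end Cfsg.Agent.S0333
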