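import Cfsg.Statements.S0335
import Cfsg.Agent.S0327
-- import your own Cfsg.Agent.* helpers here

set_option autoImplicit false
open Cfsg
open scoped Matrix

namespace Cfsg.Agent.S0335

/-- The Suzuki–Tits point set is an ovoid: any three distinct points of it are projectively independent
(no line of projective 3-space meets it in more than two points). -/
theorem result {F : Type*} [Field F] [Fintype F] {m : ℕ} (hm : 1 ≤ m)
    (hF : Fintype.card F = 2 ^ (2 * m + 1)) (p : Fin 3 ↪ Cfsg.suzukiOvoid F m) :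
    Projectivization.Independent (fun i => (p i : Projectivization F (Fin 4 → F))) := by
  have hZ := Cfsg.Agent.S0327.result hm hF
  haveI := hZ.2.1
  haveI : MulAction.IsPretransitive (Cfsg.Sz F m) (Cfsg.suzukiOvoid F m) :=
    MulAction.isPretransitive_of_is_two_pretransitive
  have hinf : suzukiPointInfinity F ∈ Cfsg.suzukiOvoid F m :=
    ⟨_, _, rfl, Or.inl rfl⟩
  obtain ⟨g, hg⟩ := MulAction.exists_smul_eq (Cfsg.Sz F m) (p 0) ⟨_, hinf⟩
  let M : Matrix (Fin 4) (Fin 4) F := ((g : Matrix.SpecialLinearGroup (Fin 4) F) : Matrix (Fin 4) (Fin 4) F)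
  rw [Projectivization.independent_iff]
  refine LinearIndependent.of_comp (Matrix.mulVecLin M) ?_
  have hrep : ∀ i, ∃ a : F, a ≠ 0 ∧ ∃ w : Fin 4 → F,
      M *ᵥ (p i : Projectivization F (Fin 4 → F)).rep = a • w ∧
      (i = 0 → w = ![1, 0, 0, 0]) ∧
      (i ≠ 0 → ∃ x y : F, w = ![x * y + x ^ (2 ^ (m + 1) + 2) + y ^ (2 ^ (m + 1)), y, x, 1] ∧
        ∀ hw : w ≠ 0, (g • p i : Cfsg.suzukiOvoid F m).1 = Projectivization.mk F w hw) := by
    intro i
    have hne : M *ᵥ (p i : Projectivization F (Fin 4 → F)).rep ≠ 0 := fun h => (p i).1.rep_nonzero (by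
      have h' := congrArg (fun z => ((g : Matrix.SpecialLinearGroup (Fin 4) F)⁻¹ : Matrix.SpecialLinearGroup (Fin 4) F).1 *ᵥ z) h
      simpa [M, Matrix.mulVec_mulVec, Matrix.adjugate_mul, Matrix.SpecialLinearGroup.det_coe] using h')
    have e : (g • p i : Cfsg.suzukiOvoid F m).1 = Projectivization.mk F _ hne := by
      conv_lhs => rw [show (g • p i : Cfsg.suzukiOvoid F m).1 =
        (g : Matrix.SpecialLinearGroup (Fin 4) F) • (p i : Projectivization F (Fin 4 → F)) from rfl,
        ← (p i).1.mk_rep]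
      rfl
    obtain ⟨w, hw, hmk, hor⟩ := (g • p i : Cfsg.suzukiOvoid F m).2
    obtain ⟨a, ha⟩ := (Projectivization.mk_eq_mk_iff F _ _ _ _).mp (e.symm.trans hmk)
    have hkey : ∀ w', w = w' → i = i → M *ᵥ (p i : Projectivization F (Fin 4 → F)).rep = (a : F) • w' := by
      rintro w' rfl -
      rw [← ha, Units.smul_def]
    refine ⟨(a : F), a.ne_zero, w, hkey w rfl rfl, fun hi => ?_, fun hi => ?_⟩
    · subst hi
      rcases hor with h | ⟨x, y, h⟩
      · exact h
      · exfalso
        rw [hg] at hmk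
        obtain ⟨b, hb⟩ := (Projectivization.mk_eq_mk_iff F _ _ _ _).mp hmk
        have := congrFun hb 3
        subst h
        simp [Units.smul_def] at this
    · rcases hor with h | ⟨x, y, h⟩
      · exfalso
        apply hi
        apply p.injective
        apply MulAction.injective g
        show g • p i = g • p 0
        rw [hg]
        refine Subtype.ext ?_
        rw [hmk]
        subst h
        rfl
      · exact ⟨x, y, h, fun _ => hmk⟩
  choose a ha w hw hw0 hw1 using hrep
  obtain ⟨x1, y1, e1, m1⟩ := hw1 1 (by decide)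
  obtain ⟨x2, y2, e2, m2⟩ := hw1 2 (by decide)
  rw [Fintype.linearIndependent_iff]
  intro c hc
  simp only [Function.comp_apply, Matrix.mulVecLin_apply, hw, Fin.sum_univ_three, hw0 0 rfl, e1, e2] at hc
  have h0 := congrFun hc 0
  have h1 := congrFun hc 1
  have h2 := congrFun hc 2
  have h3 := congrFun hc 3
  simp at h0 h1 h2 h3
  have hd : x1 ≠ x2 ∨ y1 ≠ y2 := by
    by_contra hcon
    push Not at hcon
    obtain ⟨rfl, rfl⟩ := hcon
    have h12 : (1 : Fin 3) = 2 := p.injective (MulAction.injective g (Subtype.ext (by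
      rw [m1 (by rw [e1]; intro h; simpa using congrFun h 3), m2 (by rw [e2]; intro h; simpa using congrFun h 3)]
      exact (Projectivization.mk_eq_mk_iff F _ _ _ _).mpr ⟨1, by rw [one_smul, e1, e2]⟩)))
    exact absurd h12 (by decide)
  have k2 : c 1 * a 1 = 0 := by
    rcases hd with h | h
    · exact (mul_eq_zero.1 (show c 1 * a 1 * (x1 - x2) = 0 by linear_combination h2 - x2 * h3)).resolve_right (sub_ne_zero.2 h)
    · exact (mul_eq_zero.1 (show c 1 * a 1 * (y1 - y2) = 0 by linear_combination h1 - y2 * h3)).resolve_right (sub_ne_zero.2 h)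
  have c1 : c 1 = 0 := (mul_eq_zero.1 k2).resolve_right (ha 1)
  have c2 : c 2 = 0 := (mul_eq_zero.1 (show c 2 * a 2 = 0 by linear_combination h3 - k2)).resolve_right (ha 2)
  have c0 : c 0 = 0 := by
    simp [c1, c2, ha 0] at h0
    exact h0
  intro i
  fin_cases i
  exacts [c0, c1, c2]

end Cfsg.Agent.S0335
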