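import Cfsg.Statements.S0345
import Cfsg.Agent.Lib.OddLocal.ZassenhausDerive
import Cfsg.Agent.Lib.OddLocal.ZassenhausSharp

set_option autoImplicit false
open Cfsg

namespace Cfsg.Agent.S0345

/-- In a finite simple Zassenhaus group the stabiliser `H` of two points `a ≠ b` is cyclic, and some involution
interchanging `a` and `b` inverts every element of `H`. -/
theorem result {G Ω : Type*} [Group G] [Finite G] [MulAction G Ω] [Finite Ω]
    (hZ : Cfsg.IsZassenhausGroup G Ω) [IsSimpleGroup G]
    {a b : Ω} (hab : a ≠ b) :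
    IsCyclic ↥(MulAction.stabilizer G a ⊓ MulAction.stabilizer G b) ∧
      ∃ v : G, orderOf v = 2 ∧ v • a = b ∧ v • b = a ∧ ∀ h ∈ MulAction.stabilizer G a ⊓ MulAction.stabilizer G b, v * h * v⁻¹ = h⁻¹ := by
  classical
  haveI := Fintype.ofFinite Ω
  haveI := Fintype.ofFinite G
  obtain ⟨H, K⟩ := Lib.OddLocal.ZassPSL.exists_ker hZ hab
  set e := Nat.card ↥(MulAction.stabilizer G a ⊓ MulAction.stabilizer G b : Subgroup G) with he
  rcases Nat.even_or_odd e with hev | hodd
  · have hge := Cfsg.Agent.S0741.result hZ hab hev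
    have he2 := K.two_le_e
    have hh := K.hh
    obtain ⟨hab', -⟩ := Lib.OddLocal.ZassPSL.comm_of_large K (by omega)
    obtain ⟨⟨k, hk⟩, hle⟩ := Lib.OddLocal.ZassPSL.card_dvd K.toZData
    rcases k with _ | _ | _ | k
    · omega
    · exact (Lib.OddLocal.ZassPSL.not_simple_sharp K (by omega) hev).elim
    · obtain ⟨w, hw⟩ := Lib.OddLocal.ZassPSL.halfZass K hab' (by omega)
      obtain ⟨L, i1, i2, ⟨c⟩⟩ := hw.exists_coord
      refine ⟨isCyclic_of_subgroup_isDomain c.mul c.hmul_inj, w, ?_, hw.hwa, hw.hwb, fun x hx => ?_⟩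
      · exact orderOf_eq_prime (by rw [pow_two, hw.w_sq])
          (fun h1 => hab (by rw [← hw.hwa, h1, one_smul]))
      · rw [hw.conj_inv hx, mul_inv_cancel_right]
    · have : e * 3 ≤ e * (k + 1 + 1 + 1) := Nat.mul_le_mul_left _ (by omega)
      omega
  · have K' : Lib.Characters.ZOdd.ZKer G a b (Fintype.card Ω - 1) e H :=
      { zass := K.zass, hab := K.hab, hh := K.hh, he := K.he, hodd := hodd,
        hHa := K.hHa, hHcard := K.hHcard, hHfix := K.hHfix }
    obtain ⟨v, hva, hvb, hv⟩ := K'.exists_swap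
    have hv1 : v⁻¹ = v := inv_eq_of_mul_eq_one_right (by rw [← pow_two, ← hv, pow_orderOf_eq_one])
    have hinv : ∀ x ∈ (MulAction.stabilizer G a ⊓ MulAction.stabilizer G b : Subgroup G), v * x * v⁻¹ = x⁻¹ := fun x hx => by
      rw [hv1]
      nth_rewrite 1 [← hv1]
      exact K'.conj_eq_inv hva hvb hx
    have hcomm : ∀ x y : ↥(MulAction.stabilizer G a ⊓ MulAction.stabilizer G b : Subgroup G), x * y = y * x := by
      intro x y
      have h1 := hinv _ (mul_mem x.2 y.2)
      have h2 : v * ((x : G) * y) * v⁻¹ = (v * x * v⁻¹) * (v * y * v⁻¹) := by group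
      rw [h2, hinv _ x.2, hinv _ y.2, mul_inv_rev] at h1
      have h3 := congrArg (·⁻¹) h1
      simp only [mul_inv_rev, inv_inv] at h3
      exact Subtype.ext h3.symm
    haveI := K'.isZGroup
    haveI : Group.IsNilpotent ↥(MulAction.stabilizer G a ⊓ MulAction.stabilizer G b : Subgroup G) :=
      letI : CommGroup ↥(MulAction.stabilizer G a ⊓ MulAction.stabilizer G b : Subgroup G) := { (inferInstance : Group ↥(MulAction.stabilizer G a ⊓ MulAction.stabilizer G b : Subgroup G)) with mul_comm := hcomm }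
      inferInstance
    exact ⟨inferInstance, v, hv, hva, hvb, hinv⟩

end Cfsg.Agent.S0345
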