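import Cfsg.Statements.S0346
import Cfsg.Agent.Lib.OddLocal.ZassenhausDerive

set_option autoImplicit false
open Cfsg

namespace Cfsg.Agent.S0346

/-- The number of points of a finite simple Zassenhaus group is `p^k + 1` for some prime power `p^k` (the regular normal
subgroup of a point stabiliser is a `p`-group). -/
theorem result {G Ω : Type*} [Group G] [Finite G] [MulAction G Ω] [Fintype Ω]
    (hZ : Cfsg.IsZassenhausGroup G Ω) [IsSimpleGroup G] :
    IsPrimePow (Fintype.card Ω - 1) := by
  classical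
  obtain ⟨g, -, a, b, hab, -, -⟩ := hZ.2.2.2.1
  obtain ⟨H, K⟩ := Lib.OddLocal.ZassPSL.exists_ker hZ hab
  set e := Nat.card ↥(MulAction.stabilizer G a ⊓ MulAction.stabilizer G b : Subgroup G)
  have hh := K.hh
  have hh1 := K.one_lt_h
  suffices h : ∃ p f : ℕ, p.Prime ∧ Fintype.card Ω - 1 = p ^ f by
    obtain ⟨p, f, hp, hf⟩ := h
    refine ⟨p, f, hp.prime, Nat.pos_of_ne_zero fun h0 => ?_, hf.symm⟩
    rw [h0, pow_zero] at hf
    omega
  rcases Nat.even_or_odd e with hev | hodd
  · have hge := Cfsg.Agent.S0741.result hZ hab hev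
    exact (Lib.OddLocal.ZassPSL.comm_of_large K (by omega)).2
  · have K' : Lib.Characters.ZOdd.ZKer G a b (Fintype.card Ω - 1) e H :=
      { zass := K.zass, hab := K.hab, hh := K.hh, he := K.he, hodd := hodd,
        hHa := K.hHa, hHcard := K.hHcard, hHfix := K.hHfix }
    rcases K'.feit_inequality with hle | ⟨hpg, -, -⟩
    · exact (Lib.OddLocal.ZassPSL.comm_of_large K hle).2
    · haveI : Fact (Nat.Prime 2) := ⟨Nat.prime_two⟩
      obtain ⟨n, hn⟩ := IsPGroup.iff_card.mp hpg
      exact ⟨2, n, Nat.prime_two, K.hHcard.symm.trans hn⟩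

end Cfsg.Agent.S0346
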