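import Cfsg.Statements.S0371
import Cfsg.Agent.Lib.Compute.GolayFacts

set_option autoImplicit false
open Cfsg

namespace Cfsg.Agent.S0371
open Cfsg.Agent.Lib.Compute

/-- multiplications by the nonzero squares -/
def mulMasks : List ℕ := [0x170016001500140013001200110010000f000e000d000c000b000a0009000800070006000500040003000200010000, 0x17001500130011000f000d000b000900070005000300010016001400120010000e000c000a00080006000400020000, 0x1700140011000e000b000800050002001600130010000d000a00070004000100150012000f000c0009000600030000, 0x170013000f000b0007000300160012000e000a0006000200150011000d00090005000100140010000c000800040000, 0x170011000b000500160010000a00040015000f000900030014000e000800020013000d000700010012000c00060000, 0x17000f00070016000e00060015000d00050014000c00040013000b00030012000a0002001100090001001000080000, 0x17000e00050013000a0001000f00060014000b0002001000070015000c0003001100080016000d0004001200090000, 0x17000b0016000a001500090014000800130007001200060011000500100004000f0003000e0002000d0001000c0000, 0x17000a0014000700110004000e0001000b0015000800120005000f0002000c001600090013000600100003000d0000, 0x170007000e00150005000c00130003000a001100010008000f00160006000d00140004000b00120002000900100000,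 0x170005000a000f001400020007000c0011001600040009000e001300010006000b0010001500030008000d00120000]


/-- Multiplication by a nonzero square residue modulo 23, fixing the extra point, lies in the group of the length-24 code. -/
theorem result (u : (ZMod 23)ˣ) (hu : IsSquare u) : Equiv.optionCongr (Units.mulLeft u) ∈ Cfsg.M24 := by
  have h : ∀ x : ZMod 23, x ≠ 0 → (∃ r : ZMod 23, x = r * r) → ∃ P ∈ mulMasks, presOk P = true ∧
      ∀ p : Cfsg.GolayPt, ((enc (p.map (fun y => x * y)) : Fin 24) : ℕ) = app P (enc p) := by
    decide +kernel
  obtain ⟨r, hr⟩ := hu
  obtain ⟨P, -, hP, hp⟩ := h u.1 (by haveI : Fact (Nat.Prime 23) := ⟨by norm_num⟩; exact u.ne_zero) ⟨(r : ZMod 23), by rw [hr]; rfl⟩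
  refine mem_M24_of_app hP fun p => ?_
  rw [← hp p]
  cases p <;> rfl

end Cfsg.Agent.S0371
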