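import Cfsg.Statements.S0385
import Cfsg.Agent.Lib.Compute.MathieuDodecFacts

set_option autoImplicit false
open Cfsg

namespace Cfsg.Agent.S0385
open Cfsg.Agent.Lib.Compute


/-- The 6-point intersections of octads with a fixed dodecad form a Steiner system S(5, 6, 12) on the dodecad. -/
theorem result (d : Finset Cfsg.GolayPt) (hd : d ∈ Cfsg.dodecads) : Cfsg.IsSteinerSystem 5 6 {h : Finset {p : Cfsg.GolayPt // p ∈ d} | ∃ o ∈ Cfsg.octads, (o ∩ d).card = 6 ∧ h = Finset.subtype (fun p => p ∈ d) o} := by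
  classical
  refine ⟨?_, ?_⟩
  · rintro h ⟨o, ho, h6, rfl⟩
    rw [Finset.card_subtype, Finset.filter_mem_eq_inter]
    exact h6
  · intro s hs
    obtain ⟨o, ⟨ho, hso⟩, huniq⟩ := isSteinerSystem_octads.2 (s.map (Function.Embedding.subtype _))
      (by rw [Finset.card_map, hs])
    have h6 : (o ∩ d).card = 6 := by
      have hle : 5 ≤ (o ∩ d).card := by
        rw [← hs, ← Finset.card_map (Function.Embedding.subtype fun p => p ∈ d) (s := s)]
        refine Finset.card_le_card fun p hp => Finset.mem_inter.mpr ⟨hso hp, ?_⟩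
        obtain ⟨q, -, rfl⟩ := Finset.mem_map.mp hp
        exact q.2
      rcases octad_dodecad_inter ho hd with e | e | e <;> omega
    refine ⟨Finset.subtype (fun p => p ∈ d) o, ⟨⟨o, ho, h6, rfl⟩, ?_⟩, ?_⟩
    · intro q hq
      exact Finset.mem_subtype.mpr (hso (Finset.mem_map_of_mem _ hq))
    · rintro h ⟨⟨o', ho', h6', rfl⟩, hsub⟩
      rw [huniq o' ⟨ho', fun p hp => ?_⟩]
      obtain ⟨q, hq, rfl⟩ := Finset.mem_map.mp hp
      exact Finset.mem_subtype.mp (hsub hq)

end Cfsg.Agent.S0385
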