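import Cfsg.Statements.S0389
import Cfsg.Agent.Lib.Compute.MathieuDodecFacts

set_option autoImplicit false
open scoped Pointwise
open Cfsg

namespace Cfsg.Agent.S0389
open Cfsg.Agent.Lib.Compute


/-- The stabiliser of a dodecad and a point on it is 3-transitive on the complementary dodecad. -/
theorem result (d : Finset Cfsg.GolayPt) (hd : d ∈ Cfsg.dodecads) (p : Cfsg.GolayPt) (hp : p ∈ d) (x y : Fin 3 ↪ Cfsg.GolayPt) (hx : ∀ i, x i ∉ d) (hy : ∀ i, y i ∉ d) : ∃ g ∈ MulAction.stabilizer Cfsg.M24 d ⊓ MulAction.stabilizer Cfsg.M24 p, ∀ i, (g : Equiv.Perm Cfsg.GolayPt) (x i) = y i := by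
  obtain ⟨a, had, hap, hax⟩ := exists_smul_dodecad_three hd hp x hx
  obtain ⟨b, hbd, hbp, hby⟩ := exists_smul_dodecad_three hd hp y hy
  refine ⟨b * a⁻¹, ⟨?_, ?_⟩, fun i => ?_⟩
  · show (b * a⁻¹) • d = d
    rw [mul_smul]
    nth_rewrite 1 [← had]
    rw [inv_smul_smul, hbd]
  · show (b * a⁻¹) • p = p
    rw [mul_smul]
    nth_rewrite 1 [← hap]
    rw [inv_smul_smul, hbp]
  · show (b * a⁻¹) • x i = y i
    rw [mul_smul, ← hax i, inv_smul_smul, hby i]

end Cfsg.Agent.S0389
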