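import Cfsg.Statements.S0404
import Cfsg.Agent.Lib.Leech.PairBase
-- import your own Cfsg.Agent.* helpers here

set_option autoImplicit false
set_option maxRecDepth 8000
open Cfsg

namespace Cfsg.Agent.S0404

open Cfsg.Agent.Lib.Compute Cfsg.Agent.Lib.Leech Equiv
open scoped Pointwise

/-- A minimal vector with no zero coordinate. -/
def oddVecL : List ℤ :=
  [1, 1, 1, 1, 1, 1, 1, 1, 1, 1, 1, 1, 1, 1, 1, 1, 1, 1, 1, 1, 1, 1, 1, -3]

/-- A minimal vector on the two distinguished points. -/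
def pairVecL : List ℤ :=
  [0, 0, 0, 0, 0, 0, 0, 0, 0, 4, 0, 0, 0, 0, 0, 0, 0, 0, 0, 0, 0, 0, 0, 4]

theorem base_facts : sqNorm (vecOf oddVecL) = 32 ∧ sqNorm (vecOf pairVecL) = 32 ∧
    dotInt (vecOf oddVecL) (vecOf pairVecL) = -8 ∧
    (∀ i : Fin 24, i ≠ 23 → oddVecL.getD i 0 = 1) ∧ oddVecL.getD 23 0 = -3 ∧
    (∀ i : Fin 24, i ≠ 23 → i ≠ 9 → pairVecL.getD i 0 = 0) ∧ pairVecL.getD 9 0 = 4 ∧ pairVecL.getD 23 0 = 4 ∧
    Cfsg.Agent.Lib.SelfCentral.sylowOrdersOk 11 [(2, 7), (5, 3), (7, 1)] = true ∧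
    (List.range 6).all (fun i => Nat.beq i 4 || !(3 ^ (i + 1) % 11 == 1)) = true := by
  decide +kernel

theorem oddVecL_mem : vecOf oddVecL ∈ leechLattice :=
  lattice_of_form (p := 1) (m := 0) (by norm_num) (mem_codeList_of_inCode (by decide +kernel))
    (by decide +kernel) (by decide +kernel)

theorem pairVecL_mem : vecOf pairVecL ∈ leechLattice :=
  lattice_of_form (p := 0) (m := 0) (by norm_num) (mem_codeList_of_inCode (by decide +kernel))
    (by decide +kernel) (by decide +kernel)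

/-- The first base vector. -/
noncomputable abbrev vB : ↥leechLattice := ⟨vecOf oddVecL, oddVecL_mem⟩

/-- The second base vector. -/
noncomputable abbrev wB : ↥leechLattice := ⟨vecOf pairVecL, pairVecL_mem⟩

theorem card_base :
    Nat.card ↥(MulAction.stabilizer ↥Co0 vB ⊓ MulAction.stabilizer ↥Co0 wB) = 898128000 := by
  obtain ⟨hv, hw, hd, -⟩ := base_facts
  have h1 := card_stabilizer_layer (n := 32) vB hv ncard_min exists_co0_min
  have h2 := card_pair_stabilizer (N := 47104) vB wB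
    (fun x => sqNorm x = 32 ∧ dotInt (vB : GolayPt → ℤ) x = -8) ⟨hw, hd⟩
    (fun g hg x hx => ⟨(co0_sqNorm g x).trans hx.1, by
      have h := co0_dot g vB x
      rw [hg, hx.2] at h; exact h⟩)
    ((ncard_dot _ vB.2 hv).2.1)
    (fun x hx => exists_co0_eight vB wB x hv hw hx.1 hd hx.2)
  have h3 : Nat.card (MulAction.stabilizer ↥Co0 vB) = 42305421312000 :=
    Nat.eq_of_mul_eq_mul_right (by norm_num : 0 < 196560) (h1.trans (by norm_num))
  rw [h3] at h2
  exact Nat.eq_of_mul_eq_mul_right (by norm_num : 0 < 47104) (h2.trans (by norm_num))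

theorem eleven_uniq {g : ↥Co0} (hg : g ∈ MulAction.stabilizer ↥Co0 vB ⊓ MulAction.stabilizer ↥Co0 wB)
    (h : permHom elevenE • (g • eightAt (enc.symm 23)) = g • eightAt (enc.symm 23)) :
    g • eightAt (enc.symm 23) = eightAt (enc.symm 23) := by
  obtain ⟨-, -, -, hone, hthree, hzero, h9, h23, -, -⟩ := base_facts
  set u := g • eightAt (enc.symm 23) with hu
  have hvv : ∀ i : Fin 24, (vB : GolayPt → ℤ) (enc.symm i) = oddVecL.getD i 0 := fun i => by
    show oddVecL.getD (enc (enc.symm i) : Fin 24) 0 = _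
    rw [Equiv.apply_symm_apply]
  have hww : ∀ i : Fin 24, (wB : GolayPt → ℤ) (enc.symm i) = pairVecL.getD i 0 := fun i => by
    show pairVecL.getD (enc (enc.symm i) : Fin 24) 0 = _
    rw [Equiv.apply_symm_apply]
  have hn : sqNorm (u : GolayPt → ℤ) = 64 := by rw [hu, co0_sqNorm]; exact sqNorm_eightAt _
  have hdv : dotInt (vB : GolayPt → ℤ) (u : GolayPt → ℤ) = -24 := by
    have h1 := co0_dot g vB (eightAt (enc.symm 23))
    rw [hg.1, dot_eightAt, hvv, show ((23 : Fin 24) : ℕ) = 23 from rfl, hthree] at h1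
    exact h1
  have hdw : dotInt (wB : GolayPt → ℤ) (u : GolayPt → ℤ) = 32 := by
    have h1 := co0_dot g wB (eightAt (enc.symm 23))
    rw [hg.2, dot_eightAt, hww, show ((23 : Fin 24) : ℕ) = 23 from rfl, h23] at h1
    exact h1
  rw [sqNorm, sum_enc_symm] at hn
  rw [dotInt, sum_enc_symm] at hdv hdw
  obtain ⟨A, hA⟩ : ∃ A, (u : GolayPt → ℤ) (enc.symm 0) = A := ⟨_, rfl⟩
  obtain ⟨B, hB⟩ : ∃ B, (u : GolayPt → ℤ) (enc.symm 4) = B := ⟨_, rfl⟩
  obtain ⟨C, hC⟩ : ∃ C, (u : GolayPt → ℤ) (enc.symm 9) = C := ⟨_, rfl⟩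
  obtain ⟨D, hD⟩ : ∃ D, (u : GolayPt → ℤ) (enc.symm 23) = D := ⟨_, rfl⟩
  have hU : ∀ i : Fin 24, (u : GolayPt → ℤ) (enc.symm i) =
      ([A, A, A, A, B, B, B, B, B, C, A, A, A, B, B, B, A, B, A, A, A, B, B, D] : List ℤ).getD i 0 := by
    intro i
    rw [eleven_coords h i]
    fin_cases i <;> first | exact hA | exact hB | exact hC | exact hD
  have hvv' : ∀ i : Fin 24, vecOf oddVecL (enc.symm i) = oddVecL.getD i 0 := hvv
  have hww' : ∀ i : Fin 24, vecOf pairVecL (enc.symm i) = pairVecL.getD i 0 := hww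
  simp only [hvv', hww', hU] at hn hdv hdw
  simp only [Fin.sum_univ_succ, Fin.sum_univ_zero, oddVecL, pairVecL] at hn hdv hdw
  norm_num at hn hdv hdw
  have hA1 : -2 ≤ A ∧ A ≤ 2 := ⟨by nlinarith, by nlinarith⟩
  have hB1 : -2 ≤ B ∧ B ≤ 2 := ⟨by nlinarith, by nlinarith⟩
  have hC1 : -8 ≤ C ∧ C ≤ 8 := ⟨by nlinarith, by nlinarith⟩
  obtain ⟨hA0, hB0, hC0, hD8⟩ : A = 0 ∧ B = 0 ∧ C = 0 ∧ D = 8 := by
    have hDC : D = 8 - C := by linarith
    have h11 : 11 * (A + B) = -4 * C := by linarith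
    obtain ⟨a1, a2⟩ := hA1; obtain ⟨b1, b2⟩ := hB1
    rw [hDC] at hn
    interval_cases A <;> interval_cases B <;> first
      | omega
      | (obtain rfl : C = 0 := by omega
         norm_num at hn
         first | exact ⟨rfl, rfl, rfl, by omega⟩ | omega)
      | (exfalso; nlinarith)
  refine Subtype.ext (funext fun q => ?_)
  obtain ⟨i, rfl⟩ := enc.symm.surjective q
  rw [eleven_coords h i]
  show _ = (Pi.single (enc.symm 23) 8 : GolayPt → ℤ) (enc.symm i)
  rw [Pi.single_apply]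
  have hrep : ∀ i : Fin 24, (i = 23 ∧ elevenRep i = 23) ∨
      (i ≠ 23 ∧ (elevenRep i = 0 ∨ elevenRep i = 4 ∨ elevenRep i = 9)) := by decide
  rcases hrep i with ⟨e, e'⟩ | ⟨e, e'⟩
  · subst e; rw [e', hD, hD8, if_pos rfl]
  · rw [if_neg (fun h' => e (enc.symm.injective h'))]
    rcases e' with e' | e' | e' <;> rw [e'] <;> [rw [hA]; rw [hB]; rw [hC]] <;> assumption

theorem isMcL_base : IsMcL ↥(MulAction.stabilizer ↥Co0 vB ⊓ MulAction.stabilizer ↥Co0 wB) := by
  obtain ⟨-, -, -, hone, hthree, hzero, h9, h23, hsyl, htwo⟩ := base_facts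
  haveI := finite_co0
  haveI : Fact (Nat.Prime 11) := ⟨by norm_num⟩
  haveI : Fact (Nat.Prime 7) := ⟨by norm_num⟩
  set G := MulAction.stabilizer ↥Co0 vB ⊓ MulAction.stabilizer ↥Co0 wB
  have hcard : Nat.card G = 898128000 := card_base
  have hv : ∀ q, q ≠ enc.symm 23 → (vB : GolayPt → ℤ) q = 1 := fun q hq =>
    hone (enc q) fun e => hq (by rw [← e, Equiv.symm_apply_apply])
  have hw : ∀ q, q ≠ enc.symm 23 → q ≠ enc.symm 9 → (wB : GolayPt → ℤ) q = 0 := fun q hq hq' =>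
    hzero (enc q) (fun e => hq (by rw [← e, Equiv.symm_apply_apply]))
      (fun e => hq' (by rw [← e, Equiv.symm_apply_apply]))
  have hne : (enc.symm 9 : GolayPt) ≠ enc.symm 23 := fun e => by simpa using enc.symm.injective e
  have hb : ∀ q, q ≠ enc.symm 23 → (wB : GolayPt → ℤ) q = (wB : GolayPt → ℤ) (enc.symm 9) → q = enc.symm 9 := by
    intro q hq he
    by_contra h
    rw [hw q hq h] at he
    change (0 : ℤ) = pairVecL.getD (enc (enc.symm 9) : Fin 24) 0 at he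
    rw [Equiv.apply_symm_apply, show ((9 : Fin 24) : ℕ) = 9 from rfl, h9] at he
    omega
  let Ms := MulAction.stabilizer ↥M24 (enc.symm 23 : GolayPt) ⊓ MulAction.stabilizer ↥M24 (enc.symm 9 : GolayPt)
  haveI : IsSimpleGroup ↥Ms := isSimpleGroup_stab_pair hne.symm
  have hMG : ∀ π ∈ Ms, permHom π ∈ G := fun π hπ =>
    ⟨permHom_fix vB hv hπ.1, permHom_mem_pair hπ wB hw⟩
  have hkey : ∀ g ∈ G, g • eightAt (enc.symm 23) = eightAt (enc.symm 23) → g ∈ Ms.map permHom :=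
    fun g hg ha => mem_map_pair g vB wB (by norm_num : (1 : ℤ) ≠ 0) hv hne hb ha hg.1 hg.2
  have hπ0 : elevenE ∈ Ms := ⟨elevenE_fix.1, elevenE_fix.2⟩
  refine ⟨isSimpleGroup_of_perm G elevenE orderOf_elevenE elevenE_comm (enc.symm 23) elevenE_fix.1 Ms hπ0
    hMG (fun g hg h => eleven_uniq hg h) hkey (by rw [hcard]; norm_num) fun K hKn hK hne' hK1 => ?_, hcard⟩
  obtain ⟨i, hi, hik, hmod, hKc⟩ := Cfsg.Agent.Lib.SelfCentral.card_eq_of_sylowOrders (r := 3) (k := 6)
    (n := 898128000) (L := [(2, 7), (5, 3), (7, 1)]) (by norm_num : Nat.Prime 11)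
    (fun h => hne' (Subgroup.card_eq_one.mp h)) (hcard ▸ Subgroup.card_subgroup_dvd_card K) (by norm_num)
    hK (by simp only [List.mem_cons, List.not_mem_nil, or_false, forall_eq_or_imp, forall_eq]; norm_num)
    (by simp) Nat.prime_three (by norm_num) (by simp) (by simp) hsyl hK1
  have hten := List.all_eq_true.1 htwo (i - 1) (List.mem_range.2 (by omega))
  rw [Nat.sub_add_cancel hi, hmod] at hten
  obtain rfl : i = 5 := by
    simp at hten
    omega
  haveI := hKn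
  -- an element of order 7 of the permutation part centralises `K`
  have h7 : 7 ∣ Nat.card Ms := by rw [card_stab_pair hne.symm]; norm_num
  obtain ⟨z, hz⟩ := exists_prime_orderOf_dvd_card' 7 h7
  let ι : ↥Ms →* ↥G := MonoidHom.mk' (fun π => ⟨permHom π.1, hMG _ π.2⟩)
    fun π τ => Subtype.ext (map_mul permHom π.1 τ.1)
  have hιinj : Function.Injective ι := fun a b e => Subtype.ext (permHom_injective (congrArg Subtype.val e))
  have hy : orderOf (ι z) = 7 := by rw [orderOf_injective ι hιinj, hz]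
  letI : MulAction ↥(Subgroup.zpowers (ι z)) ↥K :=
    MulAction.compHom _ ((MulAut.conjNormal (H := K)).comp (Subgroup.zpowers (ι z)).subtype)
  have hP : IsPGroup 7 ↥(Subgroup.zpowers (ι z)) := IsPGroup.of_card (n := 1) (by
    rw [Nat.card_zpowers, hy, pow_one])
  have hfix : MulAction.fixedPoints ↥(Subgroup.zpowers (ι z)) ↥K =
      (((Subgroup.centralizer {ι z}).subgroupOf K : Subgroup ↥K) : Set ↥K) := by
    ext k
    simp only [MulAction.mem_fixedPoints, SetLike.mem_coe, Subgroup.mem_subgroupOf,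
      Subgroup.mem_centralizer_singleton_iff]
    constructor
    · intro h
      have h1 : ι z * (k : ↥G) * (ι z)⁻¹ = k := congrArg Subtype.val (h ⟨ι z, Subgroup.mem_zpowers _⟩)
      calc (k : ↥G) * ι z = ι z * k * (ι z)⁻¹ * ι z := by rw [h1]
        _ = ι z * k := by group
    · rintro h ⟨g, hg⟩
      refine Subtype.ext ?_
      show g * (k : ↥G) * g⁻¹ = k
      have hc : g ∈ Subgroup.centralizer {(k : ↥G)} :=
        (Subgroup.zpowers_le.2 (Subgroup.mem_centralizer_singleton_iff.2 h.symm)) hg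
      rw [Subgroup.mem_centralizer_singleton_iff.1 hc, mul_inv_cancel_right]
  have hmod7 := hP.card_modEq_card_fixedPoints ↥K
  rw [hfix, hKc] at hmod7
  have hdC : Nat.card ↥((Subgroup.centralizer {ι z}).subgroupOf K) ∣ 3 ^ 5 :=
    hKc ▸ Subgroup.card_subgroup_dvd_card _
  obtain ⟨j, hj, hjc⟩ := (Nat.dvd_prime_pow Nat.prime_three).1 hdC
  change 3 ^ 5 % 7 = Nat.card ↥((Subgroup.centralizer {ι z}).subgroupOf K) % 7 at hmod7
  rw [hjc] at hmod7
  obtain rfl : j = 5 := by interval_cases j <;> first | rfl | (norm_num at hmod7)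
  have htop : (Subgroup.centralizer {ι z}).subgroupOf K = ⊤ := by
    rw [← Subgroup.card_eq_iff_eq_top, hjc, hKc]
  have hzC : ι z ∈ Subgroup.centralizer (K : Set ↥G) := by
    rw [Subgroup.mem_centralizer_iff]
    intro k hk
    have h1 : (⟨k, hk⟩ : ↥K) ∈ (Subgroup.centralizer {ι z}).subgroupOf K := htop ▸ Subgroup.mem_top _
    exact Subgroup.mem_centralizer_singleton_iff.1 h1
  haveI : IsSimpleGroup ↥ι.range := (MonoidHom.ofInjective hιinj).symm.isSimpleGroup
  have hle : ι.range ≤ Subgroup.centralizer (K : Set ↥G) :=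
    Cfsg.Agent.Lib.SelfCentral.le_of_mem (MonoidHom.mem_range.2 ⟨z, rfl⟩) hzC fun e => by
      rw [e, orderOf_one] at hy; omega
  have hKz : K ≤ Subgroup.zpowers (ι ⟨elevenE, hπ0⟩) := by
    intro k hk
    have hcx : k * ι ⟨elevenE, hπ0⟩ = ι ⟨elevenE, hπ0⟩ * k :=
      (Subgroup.mem_centralizer_iff.1 (hle ⟨_, rfl⟩)) k hk
    have hxa : permHom elevenE * (k : ↥Co0) = (k : ↥Co0) * permHom elevenE := (congrArg Subtype.val hcx).symm
    have hu : permHom elevenE • ((k : ↥Co0) • eightAt (enc.symm 23)) = (k : ↥Co0) • eightAt (enc.symm 23) := by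
      rw [← mul_smul, hxa, mul_smul, permHom_eightAt, elevenE_fix.1]
    obtain ⟨π, -, hπ⟩ := Subgroup.mem_map.1 (hkey (k : ↥Co0) k.2 (eleven_uniq k.2 hu))
    obtain ⟨m, hm⟩ := Subgroup.mem_zpowers_iff.1 (elevenE_comm π (permHom_injective (by
      rw [map_mul, map_mul, hπ]; exact hxa.symm)))
    refine Subgroup.mem_zpowers_iff.2 ⟨m, Subtype.ext ?_⟩
    rw [Subgroup.coe_zpow, ← hπ, ← hm, map_zpow]
    rfl
  have hdvd := Subgroup.card_dvd_of_le hKz
  rw [hKc, Nat.card_zpowers, orderOf_injective ι hιinj, ← orderOf_injective Ms.subtype Ms.subtype_injective] at hdvd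
  change 3 ^ 5 ∣ orderOf elevenE at hdvd
  rw [orderOf_elevenE] at hdvd
  norm_num at hdvd

/-- Joint stabiliser of two minimal vectors with coordinate dot product −8 is simple of order 898128000. -/
theorem result (v w : Cfsg.leechLattice) (hv : Cfsg.sqNorm (v : Cfsg.GolayPt → ℤ) = 32) (hw : Cfsg.sqNorm (w : Cfsg.GolayPt → ℤ) = 32) (hvw : Cfsg.dotInt (v : Cfsg.GolayPt → ℤ) (w : Cfsg.GolayPt → ℤ) = -8) : Cfsg.IsMcL ↥(MulAction.stabilizer Cfsg.Co0 v ⊓ MulAction.stabilizer Cfsg.Co0 w) := by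
  obtain ⟨hv0, hw0, hd0, -⟩ := base_facts
  obtain ⟨k, hk⟩ := exists_co0_min v vB hv hv0
  have hd : Cfsg.dotInt (vB : Cfsg.GolayPt → ℤ) ((k • w : ↥Cfsg.leechLattice) : Cfsg.GolayPt → ℤ) = -8 := by
    have h := co0_dot k v w
    rw [hk, hvw] at h
    exact h
  obtain ⟨g, hgv, hgw⟩ := exists_co0_eight vB wB (k • w) hv0 hw0 ((co0_sqNorm k w).trans hw) hd0 hd
  have e1 : MulAction.stabilizer ↥Cfsg.Co0 v = MulAction.stabilizer ↥Cfsg.Co0 ((k⁻¹ * g) • vB) := by
    rw [mul_smul, hgv, eq_inv_smul_iff.2 hk]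
  have e2 : MulAction.stabilizer ↥Cfsg.Co0 w = MulAction.stabilizer ↥Cfsg.Co0 ((k⁻¹ * g) • wB) := by
    rw [mul_smul, hgw, inv_smul_smul]
  have hmap : MulAction.stabilizer ↥Cfsg.Co0 v ⊓ MulAction.stabilizer ↥Cfsg.Co0 w =
      (MulAction.stabilizer ↥Cfsg.Co0 vB ⊓ MulAction.stabilizer ↥Cfsg.Co0 wB).map
        (MulAut.conj (k⁻¹ * g)).toMonoidHom := by
    rw [e1, e2, MulAction.stabilizer_smul_eq_stabilizer_map_conj,
      MulAction.stabilizer_smul_eq_stabilizer_map_conj, Subgroup.map_inf _ _ _ (MulAut.conj _).injective]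
  let e := ((MulAut.conj (k⁻¹ * g)).subgroupMap
    (MulAction.stabilizer ↥Cfsg.Co0 vB ⊓ MulAction.stabilizer ↥Cfsg.Co0 wB)).trans
      (MulEquiv.subgroupCongr hmap.symm)
  obtain ⟨hs, hc⟩ := isMcL_base
  haveI := hs
  exact ⟨e.symm.isSimpleGroup, (Nat.card_congr e.toEquiv).symm.trans hc⟩

end Cfsg.Agent.S0404
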