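import Cfsg.Statements.S0412
import Cfsg.Agent.Lib.Design.Code24

set_option autoImplicit false
open Cfsg

namespace Cfsg.Agent.S0412
open Cfsg.Agent.Lib.Design Cfsg.Agent.Lib.Compute


/-- Aut of an S(5, 8, 24) is simple of order 244823040 and 5-transitive on points. -/
theorem result {α : Type*} [Fintype α] [DecidableEq α] (hα : Fintype.card α = 24) {B : Set (Finset α)} (hB : Cfsg.IsSteinerSystem 5 8 B) : Cfsg.IsM24 (Cfsg.setSystemAut B) ∧ MulAction.IsMultiplyPretransitive (Cfsg.setSystemAut B) α 5 := by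
  obtain ⟨e, rfl⟩ := exists_famImg_octads hα hB
  have f : Cfsg.M24 ≃* Cfsg.setSystemAut (famImg e octads) :=
    (MulEquiv.subgroupCongr setSystemAut_octads.symm).trans (autEquiv e octads)
  refine ⟨⟨?_, ?_⟩, ?_⟩
  · have := isSimpleGroup_M24
    exact f.symm.isSimpleGroup
  · rw [← Nat.card_congr f.toEquiv, card_M24]
  · refine multiplyPretransitive_famImg e octads 5 ?_
    rw [setSystemAut_octads]
    exact M24_multiplyPretransitive

end Cfsg.Agent.S0412
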