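import Cfsg.Statements.S0413
import Cfsg.Agent.Lib.Design.Unique23

set_option autoImplicit false
open Cfsg

namespace Cfsg.Agent.S0413
open Cfsg.Agent.Lib.Design Cfsg.Agent.Lib.Compute


/-- Aut of an S(4, 7, 23) is simple of order 10200960 and 4-transitive. -/
theorem result {α : Type*} [Fintype α] [DecidableEq α] (hα : Fintype.card α = 23) {B : Set (Finset α)} (hB : Cfsg.IsSteinerSystem 4 7 B) : Cfsg.IsM23 (Cfsg.setSystemAut B) ∧ MulAction.IsMultiplyPretransitive (Cfsg.setSystemAut B) α 4 := by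
  obtain ⟨e, rfl⟩ := exists_famImg_blocks23 hα hB
  obtain ⟨f, -⟩ := exists_equiv_aut23
  obtain ⟨k⟩ := stabilizer_point_equiv (none : Cfsg.GolayPt)
  have g : grp 24 cert1 ≃* Cfsg.setSystemAut (famImg e blocks23) :=
    (k.trans f).trans (autEquiv e blocks23)
  refine ⟨⟨?_, ?_⟩, multiplyPretransitive_famImg e blocks23 4 multiplyPretransitive_blocks23⟩
  · have := isSimpleGroup_cert1
    exact g.symm.isSimpleGroup
  · rw [← Nat.card_congr g.toEquiv]
    exact card_cert1

end Cfsg.Agent.S0413
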