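import Cfsg.Statements.S0414
import Cfsg.Agent.Lib.Design.Aut22

set_option autoImplicit false
open Cfsg

namespace Cfsg.Agent.S0414
open Cfsg.Agent.Lib.Design Cfsg.Agent.Lib.Compute


/-- Aut of an S(3, 6, 22) has order 887040, is 3-transitive, and contains a simple subgroup of index 2. -/
theorem result {α : Type*} [Fintype α] [DecidableEq α] (hα : Fintype.card α = 22) {B : Set (Finset α)} (hB : Cfsg.IsSteinerSystem 3 6 B) : Nat.card (Cfsg.setSystemAut B) = 887040 ∧ MulAction.IsMultiplyPretransitive (Cfsg.setSystemAut B) α 3 ∧ ∃ H : Subgroup (Cfsg.setSystemAut B), H.index = 2 ∧ Cfsg.IsM22 H := by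
  obtain ⟨e, rfl⟩ := exists_famImg_blocks22 hα hB
  obtain ⟨f, -⟩ := exists_equiv_aut22
  let g : pairStab ≃* Cfsg.setSystemAut (famImg e blocks22) := f.trans (autEquiv e blocks22)
  obtain ⟨H, hi, hc, hs⟩ := exists_simple_index_two
  refine ⟨?_, multiplyPretransitive_famImg e blocks22 3 multiplyPretransitive_blocks22,
    H.map g.toMonoidHom, ?_, ?_, ?_⟩
  · rw [← Nat.card_congr g.toEquiv, card_pairStab]
  · exact (Subgroup.index_map_equiv H g).trans hi
  · exact (g.subgroupMap H).symm.isSimpleGroup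
  · exact (Nat.card_congr (g.subgroupMap H).toEquiv).symm.trans hc

end Cfsg.Agent.S0414
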