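import Cfsg.Statements.S0415


set_option autoImplicit false
set_option maxHeartbeats 1000000
set_option linter.style.haveILetI false
set_option linter.unusedSectionVars false
open Cfsg

namespace Cfsg.Agent.S0415

section
variable {α : Type*} [Fintype α] [DecidableEq α]

/-- In a group where only the identity fixes four points, agreement on four points is equality. -/
theorem eq_of_four (G : Subgroup (Equiv.Perm α)) (hsharp : ∀ x : Fin 4 ↪ α, MulAction.stabilizer G x = ⊥)
    (g h : G) (x : Fin 4 ↪ α) (he : ∀ i, (g : Equiv.Perm α) (x i) = (h : Equiv.Perm α) (x i)) : g = h := by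
  have hm : h⁻¹ * g ∈ MulAction.stabilizer G x := by
    rw [MulAction.mem_stabilizer_iff]
    ext i
    show ((h⁻¹ * g : G) : Equiv.Perm α) (x i) = x i
    simp [he i]
  rw [hsharp x, Subgroup.mem_bot, inv_mul_eq_one] at hm
  exact hm.symm

/-- Four distinct points as an embedding. -/
def quad (a b c d : α) (hab : a ≠ b) (hac : a ≠ c) (had : a ≠ d) (hbc : b ≠ c) (hbd : b ≠ d) (hcd : c ≠ d) :
    Fin 4 ↪ α :=
  ⟨![a, b, c, d], by
    intro i j hij
    fin_cases i <;> fin_cases j <;> first | rfl | (exfalso; simp at hij; simp_all)⟩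

theorem seven_case (G : Subgroup (Equiv.Perm α)) (h7 : Fintype.card α = 7) (hG : Nat.card G = 840) : False := by
  have hidx : G.index = 6 := by
    have h := G.card_mul_index
    rw [hG, Nat.card_perm, Nat.card_eq_fintype_card, h7] at h
    have : (Nat.factorial 7) = 5040 := rfl
    omega
  haveI : G.FiniteIndex := ⟨by omega⟩
  have hdvd : G.normalCore.index ∣ 720 := by
    rw [Subgroup.normalCore_eq_ker, Subgroup.index_ker]
    have h := Subgroup.card_subgroup_dvd_card (MulAction.toPermHom (Equiv.Perm α) (Equiv.Perm α ⧸ G)).range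
    rwa [Nat.card_perm, ← Subgroup.index_eq_card, hidx] at h
  have hcard := G.normalCore.card_mul_index
  rw [Nat.card_perm, Nat.card_eq_fintype_card (α := α), h7] at hcard
  have hle : Nat.card G.normalCore ≤ 840 := hG ▸ Nat.le_of_dvd (by rw [hG]; norm_num)
    (Subgroup.card_dvd_of_le (Subgroup.normalCore_le G))
  have hsimp : IsSimpleGroup (alternatingGroup α) := alternatingGroup.isSimpleGroup (by rw [Nat.card_eq_fintype_card]; omega)
  have hA : Nat.card (alternatingGroup α) = 2520 := by
    haveI : Nontrivial α := Fintype.one_lt_card_iff_nontrivial.1 (by omega)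
    rw [nat_card_alternatingGroup, Nat.card_eq_fintype_card, h7]
    rfl
  rcases hsimp.eq_bot_or_eq_top_of_normal (G.normalCore.subgroupOf (alternatingGroup α)) inferInstance with h | h
  · rw [Subgroup.subgroupOf_eq_bot, disjoint_iff] at h
    have h2 : G.normalCore.relIndex (alternatingGroup α) = 2520 := by
      rw [← Subgroup.inf_relIndex_right, h, Subgroup.relIndex_bot_left, hA]
    have h4 := Nat.le_of_dvd (Nat.pos_of_ne_zero (by intro h0; rw [h0] at hdvd; norm_num at hdvd))
      (Subgroup.relIndex_dvd_index_of_normal G.normalCore (alternatingGroup α))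
    have := Nat.le_of_dvd (by norm_num) hdvd
    omega
  · rw [Subgroup.subgroupOf_eq_top] at h
    have := Subgroup.card_dvd_of_le h
    rw [hA] at this
    have := Nat.le_of_dvd Nat.card_pos this
    omega

/-- Jordan's theorem on sharply 4-transitive groups. -/
theorem jordan_four (G : Subgroup (Equiv.Perm α)) (h4 : 4 ≤ Fintype.card α)
    [MulAction.IsMultiplyPretransitive G α 4] (hsharp : ∀ x : Fin 4 ↪ α, MulAction.stabilizer G x = ⊥) :
    Fintype.card α = 4 ∨ Fintype.card α = 5 ∨ Fintype.card α = 6 ∨ Fintype.card α = 11 := by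
  classical
  by_contra hcon
  simp only [not_or] at hcon
  have h7 : 7 ≤ Fintype.card α := by omega
  obtain ⟨x₀⟩ : Nonempty (Fin 4 ↪ α) := Function.Embedding.nonempty_of_card_le (by simpa using h4)
  haveI hpre : MulAction.IsPretransitive G (Fin 4 ↪ α) := by assumption
  have hGcard : Nat.card G = (Fintype.card α).descFactorial 4 := by
    have h1 := @MulAction.index_stabilizer_of_transitive G (Fin 4 ↪ α) _ _ x₀ hpre
    rw [hsharp x₀, Subgroup.index_bot, Nat.card_eq_fintype_card (α := Fin 4 ↪ α), Fintype.card_embedding_eq,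
      Fintype.card_fin] at h1
    exact h1
  have hx : ∀ i j : Fin 4, i ≠ j → x₀ i ≠ x₀ j := fun i j h e => h (x₀.injective e)
  obtain ⟨g, hg⟩ := MulAction.exists_smul_eq G x₀
    (quad (x₀ 1) (x₀ 0) (x₀ 2) (x₀ 3) (hx _ _ (by decide)) (hx _ _ (by decide)) (hx _ _ (by decide))
      (hx _ _ (by decide)) (hx _ _ (by decide)) (hx _ _ (by decide)))
  have hgi : ∀ i, (g : Equiv.Perm α) (x₀ i) = ![x₀ 1, x₀ 0, x₀ 2, x₀ 3] i := fun i => DFunLike.congr_fun hg i
  set u := (g : Equiv.Perm α) with hu
  have hu0 : u (x₀ 0) = x₀ 1 := hgi 0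
  have hu1 : u (x₀ 1) = x₀ 0 := hgi 1
  have hu2 : u (x₀ 2) = x₀ 2 := hgi 2
  have hu3 : u (x₀ 3) = x₀ 3 := hgi 3
  have hsq : g * g = 1 := eq_of_four G hsharp _ _ x₀ fun i => by
    rw [Subgroup.coe_mul, Equiv.Perm.mul_apply, ← hu]
    fin_cases i <;> simp [hu0, hu1, hu2, hu3]
  have hne : g ≠ 1 := fun h => hx 0 1 (by decide) (by rw [← hu0, hu, h]; simp)
  have huu : ∀ p, u (u p) = p := fun p => by
    have := congrArg (fun z : G => (z : Equiv.Perm α) p) hsq
    simpa using this
  have hfix3 : u.supportᶜ.card ≤ 3 := by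
    by_contra h
    obtain ⟨y⟩ : Nonempty (Fin 4 ↪ ↥(u.supportᶜ)) :=
      Function.Embedding.nonempty_of_card_le (by simp only [Fintype.card_fin, Fintype.card_coe]; omega)
    refine hne (eq_of_four G hsharp g 1 (y.trans (Function.Embedding.subtype _)) fun i => ?_)
    have := (y i).2
    rw [Finset.mem_compl, Equiv.Perm.notMem_support] at this
    simpa using this
  have hfix2 : 2 ≤ u.supportᶜ.card := by
    have : ({x₀ 2, x₀ 3} : Finset α) ⊆ u.supportᶜ := by
      intro z hz
      rw [Finset.mem_compl, Equiv.Perm.notMem_support]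
      simp only [Finset.mem_insert, Finset.mem_singleton] at hz
      rcases hz with rfl | rfl <;> assumption
    simpa [Finset.card_pair (hx 2 3 (by decide))] using Finset.card_le_card this
  obtain ⟨m, hm⟩ : ∃ m, u.support.card = 2 * m := by
    haveI : Fact (Nat.Prime 2) := ⟨Nat.prime_two⟩
    have ho : orderOf u = 2 := orderOf_eq_prime (by rw [sq]; exact Equiv.ext huu)
      (fun h => hne (Subtype.ext h))
    obtain ⟨k, hk⟩ := Equiv.Perm.cycleType_prime_order (σ := u) (by rw [ho]; exact Nat.prime_two)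
    exact ⟨k + 1, by rw [← Equiv.Perm.sum_cycleType, hk, ho, Multiset.sum_replicate, smul_eq_mul, mul_comm]⟩
  have hn : u.support.card + u.supportᶜ.card = Fintype.card α := Finset.card_add_card_compl _
  -- the centralizer of the involution is regular on the ordered pairs of moved points from two cycles
  set C := Subgroup.centralizer ({g} : Set G) with hC
  have hcomm : ∀ (c : C) (p : α), ((c : G) : Equiv.Perm α) (u p) = u (((c : G) : Equiv.Perm α) p) := fun c p => by
    have := congrArg (fun z : G => (z : Equiv.Perm α) p) (Subgroup.mem_centralizer_singleton_iff.1 c.2)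
    simpa [← hu] using this
  set T := u.support.sigma (fun p => u.support \ {p, u p}) with hT
  have hTcard : T.card = u.support.card * (u.support.card - 2) := by
    rw [hT, Finset.card_sigma, Finset.sum_const_nat]
    intro p hp
    rw [Finset.card_sdiff_of_subset, Finset.card_pair (Ne.symm (Equiv.Perm.mem_support.1 hp))]
    intro z hz
    simp only [Finset.mem_insert, Finset.mem_singleton] at hz
    rcases hz with rfl | rfl
    · exact hp
    · exact Equiv.Perm.apply_mem_support.2 hp
  have hTne : T.Nonempty := by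
    rw [← Finset.card_pos, hTcard]
    exact Nat.mul_pos (by omega) (by omega)
  obtain ⟨⟨p₀, r₀⟩, hpr⟩ := hTne
  have mem : ∀ p r, (⟨p, r⟩ : Σ _ : α, α) ∈ T ↔ u p ≠ p ∧ u r ≠ r ∧ r ≠ p ∧ r ≠ u p := by
    intro p r
    simp [hT, not_or]
  have hq : ∀ p r, (⟨p, r⟩ : Σ _ : α, α) ∈ T → ∃ y : Fin 4 ↪ α, ⇑y = ![p, u p, r, u r] := by
    intro p r h
    obtain ⟨h1, h2, h3, h4'⟩ := (mem p r).1 h
    refine ⟨quad p (u p) r (u r) (Ne.symm h1) (Ne.symm h3) ?_ (Ne.symm h4') ?_ (Ne.symm h2), rfl⟩
    · exact fun e => h4' (by rw [e, huu])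
    · exact fun e => h3 (u.injective e).symm
  obtain ⟨y₀, hy₀⟩ := hq p₀ r₀ hpr
  obtain ⟨e1, e2, e3, e4⟩ := (mem p₀ r₀).1 hpr
  have hCT : Nat.card C = T.card := by
    rw [← Fintype.card_coe, ← Nat.card_eq_fintype_card]
    refine Nat.card_congr (Equiv.ofBijective
      (fun c : C => (⟨⟨((c : G) : Equiv.Perm α) p₀, ((c : G) : Equiv.Perm α) r₀⟩, ?_⟩ : ↥T)) ⟨?_, ?_⟩)
    · rw [mem, ← hcomm, ← hcomm]
      simp only [ne_eq, EmbeddingLike.apply_eq_iff_eq]
      exact ⟨e1, e2, e3, e4⟩
    · intro c c' h
      obtain ⟨hp, hr⟩ := Sigma.mk.inj_iff.1 (Subtype.ext_iff.1 h)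
      have hr' := eq_of_heq hr
      simp only at hp hr'
      refine Subtype.ext (eq_of_four G hsharp _ _ y₀ fun i => ?_)
      rw [hy₀]
      fin_cases i <;> simp [hp, hr', hcomm]
    · rintro ⟨⟨p, r⟩, h⟩
      obtain ⟨y, hy⟩ := hq p r h
      obtain ⟨k, hk⟩ := MulAction.exists_smul_eq G y₀ y
      have hki : ∀ i, (k : Equiv.Perm α) (y₀ i) = y i := fun i => DFunLike.congr_fun hk i
      have hkC : k ∈ C := by
        rw [hC, Subgroup.mem_centralizer_singleton_iff]
        refine eq_of_four G hsharp _ _ y₀ fun i => ?_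
        simp only [Subgroup.coe_mul, Equiv.Perm.mul_apply, ← hu]
        have a0 := hki 0; have a1 := hki 1; have a2 := hki 2; have a3 := hki 3
        rw [hy₀, hy] at a0 a1 a2 a3
        rw [hy₀]
        simp at a0 a1 a2 a3
        fin_cases i <;> simp [a0, a1, a2, a3, huu]
      refine ⟨⟨k, hkC⟩, Subtype.ext ?_⟩
      have a0 := hki 0; have a2 := hki 2
      rw [hy₀, hy] at a0 a2
      simp at a0 a2
      simp [a0, a2]
  -- action of the centralizer on the fixed points, and the free action of the kernel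
  have hmap : ∀ (c : C) (z : α), z ∈ u.supportᶜ → ((c : G) : Equiv.Perm α) z ∈ u.supportᶜ := by
    intro c z hz
    rw [Finset.mem_compl, Equiv.Perm.notMem_support] at hz ⊢
    rw [← hcomm, hz]
  letI act : MulAction C ↥(u.supportᶜ) :=
    { smul := fun c z => ⟨((c : G) : Equiv.Perm α) z, hmap c z z.2⟩
      one_smul := fun z => Subtype.ext rfl
      mul_smul := fun c c' z => Subtype.ext rfl }
  set φ := MulAction.toPermHom C ↥(u.supportᶜ) with hφ
  set K := φ.ker with hK
  have hsplit : Nat.card K * Nat.card φ.range = Nat.card C := by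
    rw [← Subgroup.index_ker φ, hK, Subgroup.card_mul_index]
  have hrange : Nat.card φ.range ∣ Nat.factorial u.supportᶜ.card := by
    have h := Subgroup.card_subgroup_dvd_card φ.range
    rwa [Nat.card_perm, Nat.card_eq_finsetCard] at h
  have hkfix : ∀ k : K, ∀ z ∈ u.supportᶜ, (((k : C) : G) : Equiv.Perm α) z = z := fun k z hz => by
    have := DFunLike.congr_fun (MonoidHom.mem_ker.1 k.2) ⟨z, hz⟩
    exact congrArg Subtype.val this
  have hmov : ∀ (k : K) (z : α), z ∈ u.support → (((k : C) : G) : Equiv.Perm α) z ∈ u.support := by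
    intro k z hz
    rw [Equiv.Perm.mem_support] at hz ⊢
    rw [← hcomm]
    simpa using hz
  letI act2 : MulAction K ↥(u.support) :=
    { smul := fun k z => ⟨(((k : C) : G) : Equiv.Perm α) z, hmov k z z.2⟩
      one_smul := fun z => Subtype.ext rfl
      mul_smul := fun k k' z => Subtype.ext rfl }
  have hfree : ∀ z : ↥(u.support), MulAction.stabilizer K z = ⊥ := by
    intro z
    rw [Subgroup.eq_bot_iff_forall]
    intro k hk
    have hz : (((k : C) : G) : Equiv.Perm α) z = z := congrArg Subtype.val (MulAction.mem_stabilizer_iff.1 hk)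
    obtain ⟨w⟩ : Nonempty (Fin 2 ↪ ↥(u.supportᶜ)) :=
      Function.Embedding.nonempty_of_card_le (by simp only [Fintype.card_fin, Fintype.card_coe]; exact hfix2)
    have hzs := Equiv.Perm.mem_support.1 z.2
    have hw : ∀ i, u (w i) = w i := fun i => Equiv.Perm.notMem_support.1 (Finset.mem_compl.1 (w i).2)
    have h4' : ((k : C) : G) = 1 := eq_of_four G hsharp _ 1 (quad (w 0 : α) (w 1) z (u z)
        (fun e => absurd (w.injective (Subtype.ext e)) (by decide))
        (fun e => hzs (by rw [← e, hw]))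
        (fun e => hzs (u.injective (by rw [← e, hw])))
        (fun e => hzs (by rw [← e, hw]))
        (fun e => hzs (u.injective (by rw [← e, hw])))
        (Ne.symm hzs)) fun i => by
      change (((k : C) : G) : Equiv.Perm α) (![(w 0 : α), w 1, z, u z] i) = ![(w 0 : α), w 1, z, u z] i
      fin_cases i <;> simp [hkfix k _ (w 0).2, hkfix k _ (w 1).2, hz, hcomm]
    exact Subtype.ext (Subtype.ext h4')
  have hKdvd : Nat.card K ∣ u.support.card := by
    have h := Nat.card_congr (MulAction.selfEquivOrbitsQuotientProd hfree)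
    rw [Nat.card_prod, Nat.card_eq_finsetCard] at h
    exact ⟨_, h.trans (mul_comm _ _)⟩
  rw [hCT, hTcard] at hsplit
  have hkle := Nat.le_of_dvd (by omega) hKdvd
  have hrle := Nat.le_of_dvd (Nat.factorial_pos _) hrange
  rw [hm] at hsplit hKdvd hkle hn
  rcases (show u.supportᶜ.card = 2 ∨ u.supportᶜ.card = 3 by omega) with hf | hf
  · rw [hf] at hrle hn
    have : 2 * m * (2 * m - 2) ≤ 2 * m * 2 := hsplit ▸ Nat.mul_le_mul hkle hrle
    have := Nat.le_of_mul_le_mul_left this (by omega)
    omega
  · rw [hf] at hrle hn hrange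
    have : 2 * m * (2 * m - 2) ≤ 2 * m * 6 := hsplit ▸ Nat.mul_le_mul hkle hrle
    have := Nat.le_of_mul_le_mul_left this (by omega)
    have hm' : m = 2 ∨ m = 3 := by omega
    rcases hm' with rfl | rfl
    · refine seven_case G (by omega) ?_
      rw [hGcard, show Fintype.card α = 7 by omega]
      rfl
    · have hr6 : Nat.card φ.range ≤ 6 := hrle
      have hk6 : Nat.card K ≤ 6 := hkle
      revert hsplit hKdvd hrange hr6 hk6
      generalize Nat.card K = a
      generalize Nat.card φ.range = b
      intro h1 h2 h3 h4 h5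
      interval_cases a <;> first | omega | (interval_cases b <;> first | omega | norm_num [Nat.factorial] at *)

end

/-- Degrees of sharply 4-transitive permutation groups are 4, 5, 6, 11. -/
theorem result {α : Type*} [Fintype α] [DecidableEq α] (G : Subgroup (Equiv.Perm α)) (h4 : 4 ≤ Fintype.card α) [MulAction.IsMultiplyPretransitive G α 4] (hsharp : ∀ x : Fin 4 ↪ α, MulAction.stabilizer G x = ⊥) : Fintype.card α = 4 ∨ Fintype.card α = 5 ∨ Fintype.card α = 6 ∨ Fintype.card α = 11 := by
  exact jordan_four G h4 hsharp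


end Cfsg.Agent.S0415
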