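import Cfsg.Statements.S0416
import Cfsg.Agent.S0415

set_option autoImplicit false
set_option linter.style.haveILetI false
set_option linter.unusedSectionVars false
open Cfsg

namespace Cfsg.Agent.S0416

/-- The stabilizer of a point in a sharply transitive group of degree `k + 1`, on the other points. -/
theorem step {α : Type*} [Fintype α] [DecidableEq α] (k : ℕ) (G : Subgroup (Equiv.Perm α))
    (hG : MulAction.IsMultiplyPretransitive G α (k + 1))
    (hsharp : ∀ x : Fin (k + 1) ↪ α, MulAction.stabilizer G x = ⊥) (a : α) :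
    ∃ H : Subgroup (Equiv.Perm {x : α // x ≠ a}), MulAction.IsMultiplyPretransitive H {x : α // x ≠ a} k ∧
      ∀ x : Fin k ↪ {x : α // x ≠ a}, MulAction.stabilizer H x = ⊥ := by
  have hst : ∀ g : MulAction.stabilizer G a, ∀ x : α, ((g : G) : Equiv.Perm α) x ≠ a ↔ x ≠ a := by
    intro g x
    have hga : ((g : G) : Equiv.Perm α) a = a := MulAction.mem_stabilizer_iff.1 g.2
    constructor
    · exact fun h e => h (by rw [e, hga])
    · exact fun h e => h (((g : G) : Equiv.Perm α).injective (e.trans hga.symm))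
  let φ : MulAction.stabilizer G a →* Equiv.Perm {x : α // x ≠ a} :=
    { toFun := fun g => ((g : G) : Equiv.Perm α).subtypePerm (hst g)
      map_one' := Equiv.ext fun x => Subtype.ext rfl
      map_mul' := fun g h => Equiv.ext fun x => Subtype.ext rfl }
  have hcons : ∀ y : Fin k ↪ {x : α // x ≠ a}, ∃ z : Fin (k + 1) ↪ α, z 0 = a ∧ ∀ i, z i.succ = y i := fun y =>
    ⟨⟨Fin.cons a fun i => (y i : α), Fin.cons_injective_iff.2
      ⟨by rintro ⟨i, hi⟩; exact (y i).2 hi, Subtype.val_injective.comp y.injective⟩⟩, rfl, fun i => rfl⟩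
  refine ⟨φ.range, (MulAction.isMultiplyPretransitive_iff).2 fun x y => ?_, fun x => ?_⟩
  · obtain ⟨x', hx0, hx⟩ := hcons x
    obtain ⟨y', hy0, hy⟩ := hcons y
    obtain ⟨g, hg⟩ := (MulAction.isMultiplyPretransitive_iff.1 hG) x' y'
    have hg' : ∀ i, (g : Equiv.Perm α) (x' i) = y' i := fun i => DFunLike.congr_fun hg i
    refine ⟨⟨φ ⟨g, MulAction.mem_stabilizer_iff.2 (by have := hg' 0; rwa [hx0, hy0] at this)⟩, _, rfl⟩, ?_⟩
    ext i
    have := hg' i.succ
    rwa [hx, hy] at this
  · rw [Subgroup.eq_bot_iff_forall]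
    rintro ⟨_, g, rfl⟩ hk
    obtain ⟨x', hx0, hx⟩ := hcons x
    have hgx : (g : G) ∈ MulAction.stabilizer G x' := by
      rw [MulAction.mem_stabilizer_iff]
      refine Function.Embedding.ext (Fin.cases ?_ ?_)
      · show ((g : G) : Equiv.Perm α) (x' 0) = x' 0
        rw [hx0]
        exact MulAction.mem_stabilizer_iff.1 g.2
      · intro i
        show ((g : G) : Equiv.Perm α) (x' i.succ) = x' i.succ
        rw [hx]
        exact congrArg Subtype.val (DFunLike.congr_fun (MulAction.mem_stabilizer_iff.1 hk) i)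
    rw [hsharp x', Subgroup.mem_bot] at hgx
    have : g = 1 := Subtype.ext hgx
    subst this
    exact Subtype.ext φ.map_one

/-- Degrees of sharply 5-transitive permutation groups are 5, 6, 7, 12. -/
theorem result {α : Type*} [Fintype α] [DecidableEq α] (G : Subgroup (Equiv.Perm α)) (h5 : 5 ≤ Fintype.card α) [MulAction.IsMultiplyPretransitive G α 5] (hsharp : ∀ x : Fin 5 ↪ α, MulAction.stabilizer G x = ⊥) : Fintype.card α = 5 ∨ Fintype.card α = 6 ∨ Fintype.card α = 7 ∨ Fintype.card α = 12 := by
  obtain ⟨a⟩ : Nonempty α := Fintype.card_pos_iff.1 (by omega)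
  obtain ⟨H, hH, hHs⟩ := step 4 G (by assumption) hsharp a
  haveI := hH
  have hc : Fintype.card {x : α // x ≠ a} + 1 = Fintype.card α := by
    rw [Fintype.card_subtype_compl, Fintype.card_subtype_eq]
    omega
  have := Cfsg.Agent.S0415.jordan_four H (by omega) hHs
  omega


end Cfsg.Agent.S0416
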