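import Cfsg.Statements.S0417
import Cfsg.Agent.S0416

set_option autoImplicit false
set_option linter.style.haveILetI false
set_option linter.unusedSectionVars false
open Cfsg

namespace Cfsg.Agent.S0417

theorem degree_ne_thirteen {α : Type*} [Fintype α] [DecidableEq α] (G : Subgroup (Equiv.Perm α))
    (hG : MulAction.IsMultiplyPretransitive G α 6) (hsharp : ∀ x : Fin 6 ↪ α, MulAction.stabilizer G x = ⊥) :
    Fintype.card α ≠ 13 := by
  intro h13
  haveI : Fact (Nat.Prime 13) := ⟨by norm_num⟩
  obtain ⟨x₀⟩ : Nonempty (Fin 6 ↪ α) := Function.Embedding.nonempty_of_card_le (by simp [h13])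
  have hcard : Nat.card G = 1235520 := by
    have h1 := @MulAction.index_stabilizer_of_transitive G (Fin 6 ↪ α) _ _ x₀ hG
    rw [hsharp x₀, Subgroup.index_bot, Nat.card_eq_fintype_card (α := Fin 6 ↪ α), Fintype.card_embedding_eq,
      Fintype.card_fin, h13] at h1
    rw [h1]
    rfl
  obtain ⟨P⟩ : Nonempty (Sylow 13 G) := inferInstance
  have hP : Nat.card (P : Subgroup G) = 13 := by
    rw [Sylow.card_eq_multiplicity, hcard,
      show (1235520 : ℕ) = 13 * 95040 by norm_num, Nat.factorization_mul (by norm_num) (by norm_num),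
      Finsupp.add_apply, Nat.Prime.factorization_self (by norm_num),
      Nat.factorization_eq_zero_of_not_dvd (by norm_num)]
    norm_num
  haveI : IsCyclic (P : Subgroup G) := isCyclic_of_prime_card hP
  obtain ⟨s, hs⟩ := exists_prime_orderOf_dvd_card' (G := (P : Subgroup G)) 13 (by rw [hP])
  set σ : Equiv.Perm α := ((s : G) : Equiv.Perm α) with hσ
  have hσo : orderOf σ = 13 := by rw [hσ, Subgroup.orderOf_coe, Subgroup.orderOf_coe, hs]
  obtain ⟨j, hj⟩ := Equiv.Perm.cycleType_prime_order (σ := σ) (by rw [hσo]; norm_num)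
  have hsum : σ.cycleType.sum ≤ 13 := by
    rw [Equiv.Perm.sum_cycleType, ← h13]
    exact Finset.card_le_univ _
  rw [hj, hσo, Multiset.sum_replicate, smul_eq_mul] at hsum
  obtain rfl : j = 0 := by omega
  have hCσ : Nat.card (Subgroup.centralizer ({σ} : Set (Equiv.Perm α))) = 13 := by
    rw [Equiv.Perm.nat_card_centralizer, hj, hσo]
    simp [h13]
  set N := Subgroup.normalizer ((P : Subgroup G) : Set G) with hN
  let f : N →* MulAut (P : Subgroup G) := Subgroup.normalizerMonoidHom (P : Subgroup G)
  have hker : Nat.card f.ker ∣ 13 := by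
    refine dvd_trans ?_ (dvd_of_eq hCσ)
    let i : f.ker →* Subgroup.centralizer ({σ} : Set (Equiv.Perm α)) :=
      { toFun := fun x => ⟨(((x : N) : G) : Equiv.Perm α), by
          rw [Subgroup.mem_centralizer_singleton_iff, hσ, ← Subgroup.coe_mul, ← Subgroup.coe_mul]
          congr 1
          exact ((Subgroup.normalizerMonoidHom_ker (P : Subgroup G)).le x.2 (s : G) s.2).symm⟩
        map_one' := rfl
        map_mul' := fun _ _ => rfl }
    exact Subgroup.card_dvd_of_injective i fun a b h =>
      Subtype.ext (Subtype.ext (Subtype.ext (congrArg Subtype.val h :)))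
  have hran : Nat.card f.range ∣ 12 := by
    have h := Subgroup.card_subgroup_dvd_card f.range
    rwa [IsCyclic.card_mulAut, hP, Nat.totient_prime (by norm_num)] at h
  have hNdvd : Nat.card N ∣ 156 := by
    rw [show Nat.card N = Nat.card f.ker * Nat.card f.range by
      rw [← Subgroup.index_ker f, Subgroup.card_mul_index]]
    exact Nat.mul_dvd_mul hker hran
  have hn := card_sylow_modEq_one 13 G
  rw [Sylow.card_eq_index_normalizer P] at hn
  have hNG : Nat.card N * N.index = 1235520 := hcard ▸ N.card_mul_index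
  have key : ∀ d ∈ Nat.divisors 156, 1235520 / d % 13 ≠ 1 := by decide +kernel
  refine key _ (Nat.mem_divisors.2 ⟨hNdvd, by norm_num⟩) ?_
  rw [← hNG, Nat.mul_div_cancel_left _ Nat.card_pos]
  exact hn

/-- Jordan's theorem for sharply k-transitive groups, k at least 6. -/
theorem jordan_six.{u} : ∀ (d : ℕ) (α : Type u) [Fintype α] [DecidableEq α] (G : Subgroup (Equiv.Perm α)),
    MulAction.IsMultiplyPretransitive G α (6 + d) → 6 + d ≤ Fintype.card α →
    (∀ x : Fin (6 + d) ↪ α, MulAction.stabilizer G x = ⊥) →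
    Fintype.card α = 6 + d ∨ Fintype.card α = 6 + d + 1 ∨ Fintype.card α = 6 + d + 2 := by
  intro d
  induction d with
  | zero =>
    intro α _ _ G hG hn hsharp
    obtain ⟨a⟩ : Nonempty α := Fintype.card_pos_iff.1 (by omega)
    obtain ⟨H, hH, hHs⟩ := Cfsg.Agent.S0416.step 5 G hG hsharp a
    have hc : Fintype.card {x : α // x ≠ a} + 1 = Fintype.card α := by
      rw [Fintype.card_subtype_compl, Fintype.card_subtype_eq]
      omega
    have h := @Cfsg.Agent.S0416.result _ _ _ H (by omega) hH hHs
    have := degree_ne_thirteen G hG hsharp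
    omega
  | succ d ih =>
    intro α _ _ G hG hn hsharp
    obtain ⟨a⟩ : Nonempty α := Fintype.card_pos_iff.1 (by omega)
    obtain ⟨H, hH, hHs⟩ := Cfsg.Agent.S0416.step (6 + d) G hG hsharp a
    have hc : Fintype.card {x : α // x ≠ a} + 1 = Fintype.card α := by
      rw [Fintype.card_subtype_compl, Fintype.card_subtype_eq]
      omega
    have h := ih _ H hH (by omega) hHs
    omega

/-- For k ≥ 6, sharply k-transitive groups have degree k, k+1 or k+2. -/
theorem result {α : Type*} [Fintype α] [DecidableEq α] (G : Subgroup (Equiv.Perm α)) (k : ℕ) (hk : 6 ≤ k) (hn : k ≤ Fintype.card α) [MulAction.IsMultiplyPretransitive G α k] (hsharp : ∀ x : Fin k ↪ α, MulAction.stabilizer G x = ⊥) : Fintype.card α = k ∨ Fintype.card α = k + 1 ∨ Fintype.card α = k + 2 := by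
  obtain ⟨d, rfl⟩ : ∃ d, k = 6 + d := ⟨k - 6, by omega⟩
  exact jordan_six d α G (by assumption) hn hsharp


end Cfsg.Agent.S0417
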