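import Cfsg.Statements.S0437
import Cfsg.Agent.Lib.SylowCounting.ThreeTrans
open Cfsg.Agent.Lib.SylowCounting

set_option autoImplicit false
open Cfsg

namespace Cfsg.Agent.S0437

/-- For three distinct, pairwise commuting members a, b, c of a set of 3-transpositions E, a member e of E centralises a * b * c if and only if it centralises each of a, b and c. -/
theorem result {G : Type*} [Group G] {E : Set G} (hE : Cfsg.IsThreeTranspositionSet E) {a b c e : G} (ha : a ∈ E) (hb : b ∈ E) (hc : c ∈ E) (he : e ∈ E) (hab : a ≠ b) (hac : a ≠ c) (hbc : b ≠ c) (h₁ : Commute a b) (h₂ : Commute a c) (h₃ : Commute b c) : Commute e (a * b * c) ↔ (Commute e a ∧ Commute e b ∧ Commute e c) := by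
  constructor
  · intro h
    have haa := tt_mul_self hE ha
    have hbb := tt_mul_self hE hb
    have hcc := tt_mul_self hE hc
    by_cases ea : Commute e a
    · have : Commute e (b * c) := by
        have := ea.mul_right h
        rwa [← mul_assoc, ← mul_assoc, haa, one_mul] at this
      exact ⟨ea, tt_commute_two hE hb hc he hbc h₃ this⟩
    by_cases eb : Commute e b
    · exfalso
      apply ea
      have h' : Commute e (a * c) := by
        have e1 : b * (a * b * c) = a * c := by
          rw [← mul_assoc, ← mul_assoc, ← h₁.eq, mul_assoc a b b, hbb, mul_one]
        have := eb.mul_right h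
        rwa [e1] at this
      exact (tt_commute_two hE ha hc he hac h₂ h').1
    by_cases ec : Commute e c
    · exfalso
      apply ea
      have h' : Commute e (a * b) := by
        have := h.mul_right ec
        rwa [mul_assoc (a * b) c c, hcc, mul_one] at this
      exact (tt_commute_two hE ha hb he hab h₁ h').1
    exfalso
    have hee := tt_mul_self hE he
    have ra := tt_braid hE he ha ea
    have rb := tt_braid hE he hb eb
    have rc := tt_braid hE he hc ec
    have h0 := tt_conj_eq hE he h
    -- `a e a b e b c e c = a b c`
    have h1 : (a * e * a) * (b * e * b) * (c * e * c) = a * b * c := by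
      rw [← ra, ← rb, ← rc]
      refine Eq.trans ?_ h0
      simp only [mul_assoc]
      rw [← mul_assoc e e, hee, one_mul, ← mul_assoc e e, hee, one_mul]
    have h2 : e * (a * b) * e * (b * c) * e = b := by
      have := congrArg (fun x => a * x * c) h1
      simp only [mul_assoc] at this
      rw [hcc] at this
      simp only [← mul_assoc] at this
      rw [haa] at this
      simp only [one_mul, mul_one] at this
      simp only [← mul_assoc]
      exact this
    -- hence `a b = b e c e' ..`
    have h3 : a = e * c * e := by
      have e2 : e * (a * b) * e * (b * c) * e = (e * a * e) * (e * b * e) * (b * c) * e := by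
        simp only [mul_assoc]
        rw [← mul_assoc e e, hee, one_mul]
      rw [e2, rb] at h2
      have e3 : (e * a * e) * (b * e * b) * (b * c) * e = (e * a * e) * (b * (e * c * e)) := by
        simp only [mul_assoc]
        rw [← mul_assoc b b, hbb, one_mul]
      rw [e3] at h2
      -- conjugate by e
      have h4 : a * ((e * b * e) * c) = e * b * e := by
        have := congrArg (fun x => e * x * e) h2
        simp only [mul_assoc] at this ⊢
        rw [← mul_assoc e e, hee, one_mul, mul_one] at this
        exact this
      have h5 : e * b * e * c = a * (e * b * e) := by
        have := congrArg (fun x => a * x) h4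
        simp only [← mul_assoc] at this ⊢
        rw [haa, one_mul] at this
        exact this
      rw [rb] at h5
      -- b e b c = a b e b
      have h6 : e * c = a * e := by
        have e4 : b * e * b * c = b * (e * c) * b := by
          simp only [mul_assoc]; rw [h₃.eq]
        have e5 : a * (b * e * b) = b * (a * e) * b := by
          simp only [← mul_assoc]; rw [h₁.eq]
        rw [e4, e5] at h5
        exact mul_left_cancel (mul_right_cancel h5)
      calc a = a * e * e := by rw [mul_assoc, hee, mul_one]
        _ = e * c * e := by rw [← h6]
    apply ec
    have hca := h₂.eq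
    rw [h3, rc] at hca
    have := congrArg (fun x => c * x) hca
    simp only [← mul_assoc] at this
    rw [mul_assoc (c * c * e) c c, hcc, mul_one, one_mul] at this
    rw [one_mul] at this
    show e * c = c * e
    calc e * c = c * e * c * c := congrArg (· * c) this
      _ = c * e := by rw [mul_assoc, hcc, mul_one]
  · intro h
    exact (h.1.mul_right h.2.1).mul_right h.2.2

end Cfsg.Agent.S0437
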