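import Cfsg.Statements.S0439
import Mathlib.Tactic

set_option autoImplicit false
open Cfsg

namespace Cfsg.Agent.S0439

open Equiv in
theorem swap_mul_swap_pow {α : Type*} [DecidableEq α] (a b c d : α) (hab : a ≠ b) (hcd : c ≠ d) :
    (swap a b * swap c d) ^ 2 = 1 ∨ (swap a b * swap c d) ^ 3 = 1 := by
  have three : ∀ x y z : α, x ≠ y → x ≠ z → y ≠ z → (swap x y * swap x z) ^ 3 = 1 := by
    intro x y z h1 h2 h3
    have e : swap x y * swap x z = swap y z * swap x y := by
      rw [mul_swap_eq_swap_mul, swap_apply_left, swap_apply_of_ne_of_ne h2.symm h3.symm]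
    have e' : swap x z * swap x y = swap z y * swap x z := by
      rw [mul_swap_eq_swap_mul, swap_apply_left, swap_apply_of_ne_of_ne h1.symm h3]
    simp only [pow_succ, pow_zero, one_mul]
    calc swap x y * swap x z * (swap x y * swap x z) * (swap x y * swap x z)
        = swap x y * (swap x z * swap x y) * (swap x z * swap x y) * swap x z := by
          simp only [mul_assoc]
      _ = swap x y * (swap z y * swap x z) * (swap z y * swap x z) * swap x z := by rw [e']
      _ = (swap x y * swap z y) * (swap x z * swap z y) := by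
          simp only [mul_assoc, swap_mul_self, mul_one]
      _ = 1 := by
          have f : swap x y * swap z y = swap z x * swap x y := by
            rw [mul_swap_eq_swap_mul, swap_apply_right, swap_apply_of_ne_of_ne h2.symm h3.symm]
          have g : swap x z * swap z y = swap x y * swap x z := by
            rw [mul_swap_eq_swap_mul, swap_apply_right, swap_apply_of_ne_of_ne h1.symm h3]
          rw [f, g, swap_comm z x]; simp [mul_assoc]
  rcases eq_or_ne a c with rfl | hac
  · rcases eq_or_ne b d with rfl | hbd
    · left; simp [pow_two]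
    · exact Or.inr (three a b d hab hcd hbd)
  rcases eq_or_ne b d with rfl | hbd
  · right; rw [swap_comm a b, swap_comm c b]; exact three b a c hab.symm hcd.symm hac
  rcases eq_or_ne a d with rfl | had
  · rcases eq_or_ne b c with rfl | hbc
    · left; rw [swap_comm b a]; simp [pow_two]
    · right; rw [swap_comm c a]; exact three a b c hab hac hbc
  rcases eq_or_ne b c with rfl | hbc
  · right; rw [swap_comm a b]; exact three b a d hab.symm hbd had
  left
  have e : Commute (swap a b) (swap c d) := by
    show swap a b * swap c d = swap c d * swap a b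
    rw [mul_swap_eq_swap_mul, swap_apply_of_ne_of_ne hac.symm hbc.symm,
      swap_apply_of_ne_of_ne had.symm hbd.symm]
  rw [e.mul_pow, pow_two, pow_two, swap_mul_self, swap_mul_self, one_mul]


/-- In the symmetric group of degree n ≥ 2, the set of transpositions is a conjugacy class of 3-transpositions which generates the group. -/
theorem result (n : ℕ) (hn : 2 ≤ n) : Cfsg.IsThreeTranspositionClass {σ : Equiv.Perm (Fin n) | σ.IsSwap} := by
  refine ⟨⟨?_, ?_⟩, ?_, ?_⟩
  · intro d hd
    exact Equiv.Perm.IsSwap.orderOf hd
  · intro d hd e he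
    obtain ⟨a, b, hab, rfl⟩ := hd
    obtain ⟨c, d, hcd, rfl⟩ := he
    exact swap_mul_swap_pow a b c d hab hcd
  · refine ⟨Equiv.swap ⟨0, by omega⟩ ⟨1, by omega⟩, ⟨_, _, by simp [Fin.ext_iff], rfl⟩, ?_⟩
    ext σ
    rw [Set.mem_setOf_eq]
    change _ ↔ IsConj _ σ
    constructor
    · rintro ⟨a, b, hab, rfl⟩
      exact Equiv.Perm.isConj_swap (by simp [Fin.ext_iff]) hab
    · intro h
      obtain ⟨g, rfl⟩ := isConj_iff.1 h
      exact ⟨g _, g _, g.injective.ne (by simp [Fin.ext_iff]), (Equiv.swap_apply_apply g _ _).symm⟩
  · exact Equiv.Perm.closure_isSwap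

end Cfsg.Agent.S0439
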