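import Cfsg.Statements.S0440
import Cfsg.Agent.Lib.Classical.SympGroup
import Mathlib.Tactic
open Cfsg.Agent.Lib.Classical Cfsg.Agent.Lib.Geometry
open scoped Matrix

set_option autoImplicit false
open Cfsg

namespace Cfsg.Agent.S0440

theorem zmod_two : ∀ c : ZMod 2, c = 0 ∨ c = 1 := by decide

/-- The symplectic elements with `g - 1` of rank one are the transvections. -/
theorem rank_one_iff (n : ℕ) (g : Matrix.symplecticGroup (Fin n) (ZMod 2)) :
    ((g : Matrix (Fin n ⊕ Fin n) (Fin n ⊕ Fin n) (ZMod 2)) - 1).rank = 1 ↔ ∃ v, v ≠ 0 ∧ g = spT v 1 := by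
  set A := (g : Matrix (Fin n ⊕ Fin n) (Fin n ⊕ Fin n) (ZMod 2)) - 1 with hA
  have hAx : ∀ x, A *ᵥ x = g.1 *ᵥ x - x := fun x => by rw [hA, Matrix.sub_mulVec, Matrix.one_mulVec]
  constructor
  · intro h
    obtain ⟨⟨v, hv⟩, hne, hspan⟩ := finrank_eq_one_iff'.1 (show Module.finrank (ZMod 2) (LinearMap.range A.mulVecLin) = 1 from h)
    have hv0 : v ≠ 0 := fun e => hne (Subtype.ext e)
    have hc : ∀ x, ∃ c : ZMod 2, g.1 *ᵥ x = x + c • v := by
      intro x
      obtain ⟨c, hc⟩ := hspan ⟨A *ᵥ x, x, rfl⟩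
      have h1 : c • v = A *ᵥ x := congrArg Subtype.val hc
      exact ⟨c, by rw [h1, hAx, add_sub_cancel]⟩
    choose φ hφ using hc
    refine ⟨v, hv0, sp_ext fun x => ?_⟩
    rw [spT_mulVec, one_mul, hφ]
    congr 2
    have hform : ∀ x y, φ y * Cfsg.sympForm n (ZMod 2) x v + φ x * Cfsg.sympForm n (ZMod 2) v y = 0 := by
      intro x y
      have h1 := sp_form g x y
      rw [hφ x, hφ y, ← sympBilin_apply, ← sympBilin_apply] at h1
      simp only [map_add, map_smul, LinearMap.add_apply, LinearMap.smul_apply, smul_eq_mul, sympBilin_apply, sympForm_self] at h1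
      linear_combination h1
    obtain ⟨y, hy⟩ := exists_sympForm_eq_one hv0
    have h2 : φ x = φ y * Cfsg.sympForm n (ZMod 2) x v := by
      have h3 := hform x y
      rw [hy, mul_one, add_comm, add_eq_zero_iff_eq_neg, CharTwo.neg_eq] at h3
      exact h3
    rw [h2]
    rcases zmod_two (φ y) with e | e
    · exfalso
      have hzero : ∀ x, φ x = 0 := fun x => by
        have h3 := hform x y
        rwa [e, hy, zero_mul, mul_one, zero_add] at h3
      obtain ⟨z, hz⟩ := hv
      rw [Matrix.mulVecLin_apply, hAx, hφ, hzero, zero_smul, add_zero, sub_self] at hz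
      exact hv0 hz.symm
    · rw [e, one_mul]
  · rintro ⟨v, hv, rfl⟩
    obtain ⟨y, hy⟩ := exists_sympForm_eq_one hv
    have : LinearMap.range A.mulVecLin = ZMod 2 ∙ v := by
      refine le_antisymm ?_ ?_
      · rintro _ ⟨x, rfl⟩
        rw [Matrix.mulVecLin_apply, hAx, spT_mulVec, add_sub_cancel_left]
        exact Submodule.smul_mem _ _ (Submodule.mem_span_singleton_self v)
      · rw [Submodule.span_singleton_le_iff_mem]
        refine ⟨y, ?_⟩
        rw [Matrix.mulVecLin_apply, hAx, spT_mulVec, add_sub_cancel_left, one_mul, sympForm_swap, hy,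
          show (-1 : ZMod 2) = 1 from rfl, one_smul]
    show Module.finrank (ZMod 2) (LinearMap.range A.mulVecLin) = 1
    rw [this, finrank_span_singleton hv]

theorem spT_pair {n : ℕ} (u v : Fin n ⊕ Fin n → ZMod 2) :
    (spT u 1 * spT v 1) ^ 2 = 1 ∨ (spT u 1 * spT v 1) ^ 3 = 1 := by
  have two : ∀ w : Fin n ⊕ Fin n → ZMod 2, spT w 1 * spT w 1 = 1 := fun w => by
    rw [spT_add, show (1 : ZMod 2) + 1 = 0 from rfl, spT_zero]
  have inv : ∀ w : Fin n ⊕ Fin n → ZMod 2, (spT w 1)⁻¹ = spT w 1 := fun w => inv_eq_of_mul_eq_one_right (two w)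
  have hc : ∀ a b : Fin n ⊕ Fin n → ZMod 2,
      spT a 1 * spT b 1 * spT a 1 = spT (b + Cfsg.sympForm n (ZMod 2) b a • a) 1 := by
    intro a b
    have := spT_conj (spT a 1) b (1 : ZMod 2)
    rwa [inv, spT_mulVec, one_mul] at this
  rcases zmod_two (Cfsg.sympForm n (ZMod 2) v u) with e | e
  · left
    have h1 := hc u v
    rw [e, zero_smul, add_zero] at h1
    rw [pow_two, ← mul_assoc, h1, two]
  · right
    have h1 := hc u v
    have h2 := hc v u
    rw [e, one_smul] at h1
    rw [sympForm_swap, e, show (-1 : ZMod 2) = 1 from rfl, one_smul] at h2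
    have h3 : spT u 1 * spT v 1 * spT u 1 = spT v 1 * spT u 1 * spT v 1 := by rw [h1, h2, add_comm]
    calc (spT u 1 * spT v 1) ^ 3 = (spT u 1 * spT v 1 * spT u 1) * (spT v 1 * spT u 1 * spT v 1) := by
          simp only [pow_succ, pow_zero, one_mul, mul_assoc]
      _ = (spT v 1 * spT u 1 * spT v 1) * (spT v 1 * spT u 1 * spT v 1) := by rw [h3]
      _ = spT v 1 * (spT u 1 * (spT v 1 * spT v 1) * spT u 1) * spT v 1 := by simp only [mul_assoc]
      _ = 1 := by rw [two, mul_one, two, mul_one, two]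


/-- In the symplectic group in dimension 2n ≥ 2 over the field with two elements, the elements g for which g - 1 has rank one (the symplectic transvections) form a conjugacy class of 3-transpositions generating the group. -/
theorem result (n : ℕ) (hn : 1 ≤ n) : Cfsg.IsThreeTranspositionClass {g : Matrix.symplecticGroup (Fin n) (ZMod 2) | ((g : Matrix (Fin n ⊕ Fin n) (Fin n ⊕ Fin n) (ZMod 2)) - 1).rank = 1} := by
  refine ⟨⟨fun g hg => ?_, fun g hg h hh => ?_⟩, ?_, ?_⟩
  · obtain ⟨v, hv, rfl⟩ := (rank_one_iff n g).1 hg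
    refine orderOf_eq_prime (by rw [pow_two, spT_add, show (1 : ZMod 2) + 1 = 0 from rfl, spT_zero]) ?_
    intro e
    obtain ⟨x, hx⟩ := exists_sympForm_eq_one hv
    have h1 : (spT v (1 : ZMod 2)).1 *ᵥ x = x := by rw [e, sp_one_mulVec]
    rw [spT_mulVec, one_mul, sympForm_swap, hx] at h1
    apply hv
    have h2 : (-1 : ZMod 2) • v = 0 := add_eq_left.1 h1
    rw [show (-1 : ZMod 2) = 1 from rfl, one_smul] at h2
    exact h2
  · obtain ⟨u, hu, rfl⟩ := (rank_one_iff n g).1 hg
    obtain ⟨v, hv, rfl⟩ := (rank_one_iff n h).1 hh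
    exact spT_pair u v
  · obtain ⟨e₀, he₀⟩ : ∃ v : Fin n ⊕ Fin n → ZMod 2, v ≠ 0 :=
      ⟨Pi.single (Sum.inl ⟨0, hn⟩) 1, fun h => by simpa using congrFun h (Sum.inl ⟨0, hn⟩)⟩
    refine ⟨spT e₀ 1, (rank_one_iff n _).2 ⟨e₀, he₀, rfl⟩, ?_⟩
    ext g
    rw [Set.mem_setOf_eq, rank_one_iff]
    constructor
    · rintro ⟨v, hv, rfl⟩
      obtain ⟨k, hk⟩ := exists_sp_mulVec_eq he₀ hv
      exact isConj_iff.2 ⟨k, by rw [spT_conj, hk]⟩
    · intro hg
      obtain ⟨k, hk⟩ := isConj_iff.1 hg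
      refine ⟨k.1 *ᵥ e₀, fun h => he₀ ?_, by rw [← hk, spT_conj]⟩
      rw [← sp_inv_mulVec_cancel k e₀, h, Matrix.mulVec_zero]
  · refine sp_eq_top_of_transvections fun v c => ?_
    by_cases hv : v = 0
    · rw [hv, show spT (0 : Fin n ⊕ Fin n → ZMod 2) c = 1 from sp_ext fun x => by
        rw [spT_mulVec, smul_zero, add_zero, sp_one_mulVec]]
      exact one_mem _
    rcases zmod_two c with rfl | rfl
    · rw [spT_zero]; exact one_mem _
    · exact Subgroup.subset_closure ((rank_one_iff n _).2 ⟨v, hv, rfl⟩)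

end Cfsg.Agent.S0440
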