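import Cfsg.Statements.S0441
import Cfsg.Agent.Lib.ThreeTransp.NbrClasses
-- import your own Cfsg.Agent.* helpers here

set_option autoImplicit false
open Cfsg

namespace Cfsg.Agent.S0441

open Cfsg.Agent.Lib.ThreeTransp
open scoped commutatorElement

variable {G : Type*} [Group G] [Finite G] {D : Set G}

/-- Conjugation into the orbit of the stabiliser. -/
def Orb (a c d : G) : Prop := ∃ g : G, Commute g a ∧ g * c * g⁻¹ = d

omit [Finite G] in
theorem Orb.symm {a c d : G} (h : Orb a c d) : Orb a d c := by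
  obtain ⟨g, hg, rfl⟩ := h
  exact ⟨g⁻¹, hg.inv_left, by group⟩

omit [Finite G] in
theorem Orb.trans {a c d e : G} (h : Orb a c d) (h' : Orb a d e) : Orb a c e := by
  obtain ⟨g, hg, rfl⟩ := h
  obtain ⟨k, hk, rfl⟩ := h'
  exact ⟨k * g, hk.mul_left hg, by group⟩

omit [Finite G] in
theorem swap_pair (hS : IsThreeTranspositionSet D) {x y : G} (hx : x ∈ D) (hy : y ∈ D)
    (h : ¬ Commute x y) :
    (x * y * x) * x * (x * y * x)⁻¹ = y ∧ (x * y * x) * y * (x * y * x)⁻¹ = x := by
  have hbr := (tt_comm_or_braid hS hx hy h).1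
  have hxx := inv_sq (hS.1 x hx)
  have hyy := inv_sq (hS.1 y hy)
  have hs : (x * y * x)⁻¹ = x * y * x := by
    rw [mul_inv_rev, mul_inv_rev, inv_inv_self (hS.1 x hx), inv_inv_self (hS.1 y hy), mul_assoc]
  rw [hs]
  constructor
  · calc x * y * x * x * (x * y * x) = x * y * (x * x) * (x * y * x) := by group
      _ = x * y * (y * x * y) := by rw [hxx, mul_one, hbr]
      _ = x * (y * y) * x * y := by group
      _ = y := by rw [hyy, mul_one, hxx, one_mul]
  · calc x * y * x * y * (x * y * x) = (x * y * x) * y * (y * x * y) := by rw [← hbr]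
      _ = x * y * x * (y * y) * x * y := by group
      _ = x * y * (x * x) * y := by rw [hyy, mul_one]; group
      _ = x := by rw [hxx, mul_one, mul_assoc, hyy, mul_one]

omit [Finite G] in
/-- Commuting members outside the neighbours of `a` lie in one orbit. -/
theorem orb_of_commute (hS : IsThreeTranspositionSet D) {a c d : G} (ha : a ∈ D) (hc : c ∈ D)
    (hd : d ∈ D) (hac : ¬ Commute a c) (had : ¬ Commute a d) (hcd : Commute c d) : Orb a c d := by
  have hcac := (tt_comm_or_braid hS ha hc hac).1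
  have hdad := (tt_comm_or_braid hS ha hd had).1
  have haa := inv_sq (hS.1 a ha)
  have hcc := inv_sq (hS.1 c hc)
  have hdd := inv_sq (hS.1 d hd)
  set e := c * a * d * a * c with he
  have hee : e⁻¹ = e := by
    simp only [he, mul_inv_rev, inv_inv_self (hS.1 a ha), inv_inv_self (hS.1 c hc),
      inv_inv_self (hS.1 d hd), mul_assoc]
  have hae : Commute a e := by
    show a * e = e * a
    calc a * e = (a * c * a) * (d * a * c) := by rw [he]; group
      _ = c * a * (c * d) * a * c := by rw [hcac]; group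
      _ = c * a * d * (c * a * c) := by rw [hcd.eq]; group
      _ = c * a * d * (a * c * a) := by rw [hcac]
      _ = e * a := by rw [he]; group
  have hece : e * c * e = a * d * a := by
    calc e * c * e = c * a * d * a * (c * c) * c * a * d * a * c := by rw [he]; group
      _ = c * a * (d * a * (c * a) * d) * a * c := by rw [hcc, mul_one]; group
      _ = c * a * (d * a * c * a * d) * a * c := by group
      _ = c * a * (d * (a * c * a) * d) * a * c := by group
      _ = c * a * ((d * c) * a * (c * d)) * a * c := by rw [hcac]; group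
      _ = c * a * ((c * d) * a * (d * c)) * a * c := by rw [hcd.eq]
      _ = c * a * c * (d * a * d) * c * a * c := by group
      _ = c * a * c * (a * d * a) * c * a * c := by rw [hdad]
      _ = (c * a * c) * a * d * a * (c * a * c) := by group
      _ = (a * c * a) * a * d * a * (a * c * a) := by rw [hcac]
      _ = a * c * (a * a) * d * (a * a) * c * a := by group
      _ = a * (c * d) * c * a := by rw [haa, mul_one, mul_one]; group
      _ = a * d * (c * c) * a := by rw [hcd.eq]; group
      _ = a * d * a := by rw [hcc, mul_one]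
  refine ⟨a * e, (Commute.refl a).mul_left hae.symm, ?_⟩
  rw [mul_inv_rev, hee, inv_inv_self (hS.1 a ha)]
  calc a * e * c * (e * a) = a * (e * c * e) * a := by group
    _ = (a * a) * d * (a * a) := by rw [hece]; group
    _ = d := by rw [haa, one_mul, mul_one]

section Simple

variable (hD : IsThreeTranspositionClass D) (hsimple : IsSimpleGroup (commutator G))
  (hnonab : ∃ x y : commutator G, x * y ≠ y * x)

include hsimple hnonab in
theorem center_inter_commutator {z : G} (hz : z ∈ Subgroup.center G) (hz' : z ∈ commutator G) :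
    z = 1 := by
  rcases (inferInstance : (Subgroup.center (commutator G)).Normal).eq_bot_or_eq_top with h | h
  · have : (⟨z, hz'⟩ : commutator G) ∈ Subgroup.center (commutator G) :=
      Subgroup.mem_center_iff.2 fun k => Subtype.ext (Subgroup.mem_center_iff.1 hz k.1)
    rw [h, Subgroup.mem_bot] at this
    exact congrArg Subtype.val this
  · obtain ⟨x, y, hxy⟩ := hnonab
    exact absurd ((Subgroup.mem_center_iff.1 (h ▸ Subgroup.mem_top y) x)) hxy

include hD hsimple hnonab in
theorem eq_of_central {a b : G} (ha : a ∈ D) (hb : b ∈ D) (h : a⁻¹ * b ∈ Subgroup.center G) :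
    a = b := by
  obtain ⟨-, htr⟩ := class_data hD
  obtain ⟨g, hg⟩ := htr a ha b hb
  have h' : a⁻¹ * b ∈ commutator G := by
    rw [commutator_def, show a⁻¹ * b = ⁅a⁻¹, g⁆ by rw [hg, commutatorElement_def]; group]
    exact Subgroup.commutator_mem_commutator (Subgroup.mem_top _) (Subgroup.mem_top _)
  rw [← inv_mul_eq_one]
  exact center_inter_commutator hsimple hnonab h h'

omit [Finite G] in
include hsimple in
theorem inter_bot_or_le (N : Subgroup G) (hN : N.Normal) :
    (∀ x ∈ N, x ∈ commutator G → x = 1) ∨ commutator G ≤ N := by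
  rcases (hN.subgroupOf (commutator G)).eq_bot_or_eq_top with h | h
  · refine Or.inl fun x hx hx' => ?_
    have : (⟨x, hx'⟩ : commutator G) ∈ N.subgroupOf (commutator G) := hx
    rw [h, Subgroup.mem_bot] at this
    exact congrArg Subtype.val this
  · exact Or.inr (Subgroup.subgroupOf_eq_top.1 h)

omit [Finite G] in
theorem le_center_of_inter {N : Subgroup G} (hN : N.Normal)
    (h : ∀ x ∈ N, x ∈ commutator G → x = 1) : N ≤ Subgroup.center G := by
  intro x hx
  rw [Subgroup.mem_center_iff]
  intro g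
  have h1 : g * x * g⁻¹ * x⁻¹ = 1 := h _ (mul_mem (hN.conj_mem x hx g) (inv_mem hx)) (by
    rw [commutator_def, show g * x * g⁻¹ * x⁻¹ = ⁅g, x⁆ from rfl]
    exact Subgroup.commutator_mem_commutator (Subgroup.mem_top _) (Subgroup.mem_top _))
  rwa [mul_inv_eq_one, mul_inv_eq_iff_eq_mul] at h1

include hsimple hnonab in
theorem le_center_of_solvable (N : Subgroup G) (hN : N.Normal) (hs : Group.IsSolvable ↥N) :
    N ≤ Subgroup.center G := by
  rcases inter_bot_or_le hsimple N hN with h | h
  · exact le_center_of_inter hN h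
  · exfalso
    have := hs
    have : Group.IsSolvable ↥(commutator G) := Group.isSolvable_of_isSolvable_injective (Subgroup.inclusion_injective h)
    obtain ⟨x, y, hxy⟩ := hnonab
    exact hxy ((IsSimpleGroup.comm_iff_isSolvable (G := commutator G)).2 inferInstance x y)

include hD hsimple hnonab in
theorem nbrData : NbrData D := by
  obtain ⟨⟨hS, hc, hgen⟩, htr⟩ := class_data hD
  have hcore : ∀ p : ℕ, p.Prime → pCore p G ≤ Subgroup.center G := by
    intro p hp
    have : Fact p.Prime := ⟨hp⟩
    exact le_center_of_solvable hsimple hnonab _ inferInstance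
      (isSolvable_pGroup _ (Cfsg.Agent.Lib.Cores.pCore_isPGroup p G))
  exact
    { set := hS, stable := hc, gen := hgen, trans := htr
      same := fun a ha b hb h => (eq_of_central hD hsimple hnonab ha hb (by
        rw [inv_inv_self (hS.1 a ha)]
        exact hcore 2 Nat.prime_two (mul_mem_pCore_two hS hc ha hb h))).symm
      nbrEq := fun a ha b hb h => eq_of_central hD hsimple hnonab ha hb (by
        rw [inv_inv_self (hS.1 a ha)]
        exact hcore 3 Nat.prime_three (mul_mem_pCore_three hS hc ha hb h.symm)) }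

include hD hsimple hnonab in
theorem exists_ne {a : G} (ha : a ∈ D) : ∃ c ∈ D, c ≠ a := by
  obtain ⟨⟨hS, hc, hgen⟩, -⟩ := class_data hD
  by_contra hall
  push Not at hall
  obtain ⟨x, y, hxy⟩ := hnonab
  have hle : Subgroup.closure D ≤ Subgroup.zpowers a :=
    (Subgroup.closure_le _).2 fun d hd => by rw [hall d hd]; exact Subgroup.mem_zpowers a
  obtain ⟨i, hi⟩ := hle (hgen ▸ Subgroup.mem_top x.1)
  obtain ⟨j, hj⟩ := hle (hgen ▸ Subgroup.mem_top y.1)
  exact hxy (Subtype.ext (show x.1 * y.1 = y.1 * x.1 by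
    rw [← hi, ← hj]; exact (Commute.zpow_zpow (Commute.refl a) i j).eq))

include hD hsimple hnonab in
theorem not_mem_center {a : G} (ha : a ∈ D) : a ∉ Subgroup.center G := by
  intro h
  obtain ⟨c, hcD, hne⟩ := exists_ne hD hsimple hnonab ha
  obtain ⟨g, hg⟩ := (class_data hD).2 a ha c hcD
  rw [Subgroup.mem_center_iff] at h
  exact hne (by rw [hg, h g, mul_inv_cancel_right])

include hD hsimple hnonab in
theorem commute_of_quotient {x y : G} (hx : x ∈ D) (hy : y ∈ D)
    (h : Commute (QuotientGroup.mk' (Subgroup.center G) x) (QuotientGroup.mk' (Subgroup.center G) y)) :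
    Commute x y := by
  obtain ⟨⟨hS, -, -⟩, -⟩ := class_data hD
  by_contra hn
  have h' := mul_mem_of_commute_mod hS hx hy hn h
  exact hn (by rw [eq_of_central hD hsimple hnonab hx hy (by rwa [inv_inv_self (hS.1 x hx)])])

include hD hsimple hnonab in
/-- Commuting pairs through `a` form one orbit. -/
theorem orb_nbr {a b b' : G} (ha : a ∈ D) (hb : b ∈ nbr D a) (hb' : b' ∈ nbr D a) : Orb a b b' := by
  classical
  obtain ⟨⟨hS, hc, hgen⟩, htr⟩ := class_data hD
  set Z := Subgroup.center G
  set π := QuotientGroup.mk' Z with hπ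
  have hinj : ∀ x ∈ D, ∀ y ∈ D, π x = π y → x = y := fun x hx y hy h =>
    eq_of_central hD hsimple hnonab hx hy (QuotientGroup.eq.1 h)
  obtain ⟨hS', hc', hgen'⟩ := threeTranspositionGroup_quotient ⟨hS, hc, hgen⟩ Z
    fun x hx => not_mem_center hD hsimple hnonab hx
  have hclass : IsThreeTranspositionClass (π '' D) := by
    refine ⟨hS', ⟨π a, ⟨a, ha, rfl⟩, Set.ext fun y => ⟨?_, fun hy => ?_⟩⟩, hgen'⟩
    · rintro ⟨d, hd, rfl⟩
      obtain ⟨g, rfl⟩ := htr a ha d hd
      exact isConj_iff.2 ⟨π g, by simp [π]⟩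
    · obtain ⟨q, rfl⟩ := isConj_iff.1 (hy : IsConj (π a) y)
      exact hc' q _ ⟨a, ha, rfl⟩
  have hsol : ∀ N : Subgroup (G ⧸ Z), N.Normal → Group.IsSolvable ↥N → N = ⊥ := by
    intro N hN hs
    have hM : (N.comap π).Normal := hN.comap π
    rcases inter_bot_or_le hsimple (N.comap π) hM with h | h
    · rw [eq_bot_iff]
      intro x hx
      obtain ⟨g, rfl⟩ := QuotientGroup.mk'_surjective Z x
      exact (QuotientGroup.eq_one_iff g).2 (le_center_of_inter hM h hx)
    · exfalso
      have := hs
      let f : ↥(commutator G) →* ↥N := (π.comp (commutator G).subtype).codRestrict N fun x => h x.2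
      have hf : Function.Injective f := by
        rw [injective_iff_map_eq_one]
        intro x hx
        refine Subtype.ext (center_inter_commutator hsimple hnonab ?_ x.2)
        exact (QuotientGroup.eq_one_iff (x : G)).1 (congrArg Subtype.val hx)
      have : Group.IsSolvable ↥(commutator G) := Group.isSolvable_of_isSolvable_injective hf
      obtain ⟨x, y, hxy⟩ := hnonab
      exact hxy ((IsSimpleGroup.comm_iff_isSolvable (G := commutator G)).2 inferInstance x y)
  have hn : ∀ y ∈ nbr D a, π y ∈ nbr (π '' D) (π a) := fun y hy =>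
    ⟨⟨y, hy.1, rfl⟩, fun e => hy.2.1 (hinj y hy.1 a ha e), hy.2.2.map π⟩
  obtain ⟨q, hq, hqe⟩ := mem_cls_of_nbr hsol hclass ⟨a, ha, rfl⟩ (hn b hb) (hn b' hb')
  have hqa : Commute q (π a) := by
    have hle : Subgroup.closure (nbr (π '' D) (π a)) ≤ Subgroup.centralizer {π a} :=
      (Subgroup.closure_le _).2 fun y hy => Subgroup.mem_centralizer_singleton_iff.2 hy.2.2.symm.eq
    exact Subgroup.mem_centralizer_singleton_iff.1 (hle hq)
  obtain ⟨g, rfl⟩ := QuotientGroup.mk'_surjective Z q
  refine ⟨g, ?_, hinj _ (hc g b hb.1) b' hb'.1 (by simpa [π] using hqe)⟩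
  have h := hinj _ (hc g a ha) a ha (by
    rw [map_mul, map_mul, map_inv, hqa.eq, mul_inv_cancel_right])
  exact mul_inv_eq_iff_eq_mul.1 h

include hD hsimple hnonab in
/-- Commutation connects the class. -/
theorem connected {u w : G} (hu : u ∈ D) (hw : w ∈ D) (hne : u ≠ w) (huw : Commute u w) :
    ∀ x ∈ D, ∀ y ∈ D, Relation.ReflTransGen (fun p q => p ∈ D ∧ q ∈ D ∧ Commute p q) x y := by
  obtain ⟨⟨hS, hc, hgen⟩, htr⟩ := class_data hD
  set R := Relation.ReflTransGen (fun p q : G => p ∈ D ∧ q ∈ D ∧ Commute p q) with hR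
  have hsymm : ∀ {p q}, R p q → R q p := fun {p q} h => by
    induction h with
    | refl => exact .refl
    | tail _ h ih => exact (Relation.ReflTransGen.single ⟨h.2.1, h.1, h.2.2.symm⟩).trans ih
  have hconj : ∀ g {p q}, R p q → R (g * p * g⁻¹) (g * q * g⁻¹) := fun g {p q} h => by
    induction h with
    | refl => exact .refl
    | tail _ h ih => exact ih.tail ⟨hc g _ h.1, hc g _ h.2.1, commute_conj.2 h.2.2⟩
  have hinv : ∀ x ∈ D, x⁻¹ = x := fun x hx => inv_inv_self (hS.1 x hx)
  -- commuting members act alike on the components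
  have hact : ∀ y ∈ D, R (u * y * u⁻¹) (w * y * w⁻¹) := by
    intro y hy
    have huwR : R u w := .single ⟨hu, hw, huw⟩
    by_cases h : R u y
    · have e1 := hconj u (hsymm h)
      have e2 := hconj w (hsymm ((hsymm huwR).trans h))
      rw [mul_inv_cancel_right] at e1 e2
      exact e1.trans (huwR.trans (hsymm e2))
    · have h1 : ∀ v ∈ D, R u v → v * y * v⁻¹ = y * v * y⁻¹ := fun v hv hv' => by
        rw [hinv v hv, hinv y hy]
        exact (tt_comm_or_braid hS hv hy fun e => h (hv'.tail ⟨hv, hy, e⟩)).1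
      rw [h1 u hu .refl, h1 w hw huwR]
      exact hconj y huwR
  let K : Subgroup G :=
    { carrier := {g | ∀ y ∈ D, R (g * y * g⁻¹) y}
      one_mem' := fun y _ => by rw [one_mul, inv_one, mul_one]
      mul_mem' := fun {p q} hp hq y hy => by
        have e := hconj p (hq y hy)
        rw [show p * (q * y * q⁻¹) * p⁻¹ = p * q * y * (p * q)⁻¹ by group] at e
        exact e.trans (hp y hy)
      inv_mem' := fun {p} hp y hy => by
        have e := hconj p⁻¹ (hp y hy)
        rw [show p⁻¹ * (p * y * p⁻¹) * p⁻¹⁻¹ = y by group] at e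
        exact hsymm e }
  have hK : K.Normal := ⟨fun n hn k y hy => by
    have e := hconj k (hn _ (hc k⁻¹ y hy))
    rwa [show k * (n * (k⁻¹ * y * k⁻¹⁻¹) * n⁻¹) * k⁻¹ = k * n * k⁻¹ * y * (k * n * k⁻¹)⁻¹ by group,
      show k * (k⁻¹ * y * k⁻¹⁻¹) * k⁻¹ = y by group] at e⟩
  have hmem : u * w ∈ K := fun y hy => by
    have e := hact _ (hc w y hy)
    rw [show u * (w * y * w⁻¹) * u⁻¹ = u * w * y * (u * w)⁻¹ by group] at e
    refine e.trans ?_
    rw [hinv w hw, show w * (w * y * w) * w = (w * w) * y * (w * w) by group, inv_sq (hS.1 w hw),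
      one_mul, mul_one]
  rcases inter_bot_or_le hsimple K hK with h | h
  · exact absurd (eq_of_central hD hsimple hnonab hu hw (by
      rw [hinv u hu]; exact le_center_of_inter hK h hmem)) hne
  · intro x hx y hy
    obtain ⟨g, rfl⟩ := htr x hx y hy
    have hg : g * x * g⁻¹ * x⁻¹ ∈ K := h (by
      rw [commutator_def, show g * x * g⁻¹ * x⁻¹ = ⁅g, x⁆ from rfl]
      exact Subgroup.commutator_mem_commutator (Subgroup.mem_top _) (Subgroup.mem_top _))
    have e := hg x hx
    rw [show g * x * g⁻¹ * x⁻¹ * x * (g * x * g⁻¹ * x⁻¹)⁻¹ = (g * x * g⁻¹) * x * (g * x * g⁻¹)⁻¹ by group] at e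
    by_cases hcm : Commute (g * x * g⁻¹) x
    · exact .single ⟨hx, hc g x hx, hcm.symm⟩
    · -- `t x t = x t x` is linked to `x`, so `t` is linked to `x`
      have ht := hc g x hx
      rw [hinv _ ht, (tt_comm_or_braid hS ht hx hcm).1] at e
      have e2 := hconj x e
      rw [mul_inv_cancel_right, hinv x hx] at e2
      rw [show x * (x * (g * x * g⁻¹) * x) * x = (x * x) * (g * x * g⁻¹) * (x * x) by group,
        inv_sq (hS.1 x hx), one_mul, mul_one] at e2
      exact hsymm e2

include hD hsimple hnonab in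
theorem exists_nbr {a : G} (ha : a ∈ D) : (nbr D a).Nonempty := by
  have hd := nbrData hD hsimple hnonab
  rw [Set.nonempty_iff_ne_empty]
  intro h
  obtain ⟨c, hcD, hne⟩ := exists_ne hD hsimple hnonab ha
  have h1 := hd.nbr_card ha hcD
  rw [h, Set.ncard_empty, eq_comm, Set.ncard_eq_zero] at h1
  exact hne (hd.nbrEq c hcD a ha (h1.trans h.symm))

include hD hsimple hnonab in
/-- Each orbit outside has a member with a common neighbour with `a`. -/
theorem exists_common {a c : G} (ha : a ∈ D) (hc : c ∈ D) (hac : ¬ Commute a c) :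
    ∃ c', Orb a c c' ∧ ∃ b ∈ nbr D a, Commute b c' := by
  obtain ⟨b, hb⟩ := exists_nbr hD hsimple hnonab ha
  obtain ⟨⟨hS, hc', hgen⟩, htr⟩ := class_data hD
  have hcon := connected hD hsimple hnonab ha hb.1 (Ne.symm hb.2.1) hb.2.2 c hc a ha
  have hstep : ∀ z, Relation.ReflTransGen (fun p q => p ∈ D ∧ q ∈ D ∧ Commute p q) c z →
      (Orb a c z ∨ ∃ c', Orb a c c' ∧ ∃ b ∈ nbr D a, Commute b c') := by
    intro z hz
    induction hz with
    | refl => exact Or.inl ⟨1, Commute.one_left a, by simp⟩
    | @tail p q _ hpq ih =>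
      rcases ih with h | h
      · obtain ⟨g, hg, hge⟩ := h
        have hap : ¬ Commute a p := by
          intro e
          refine hac ?_
          have hga : g * a * g⁻¹ = a := by rw [hg.eq, mul_inv_cancel_right]
          rw [← commute_conj (a := g), hga, hge]
          exact e
        by_cases haq : Commute a q
        · refine Or.inr ⟨p, ⟨g, hg, hge⟩, q, ⟨hpq.2.1, ?_, haq⟩, hpq.2.2.symm⟩
          rintro rfl
          exact hap hpq.2.2.symm
        · exact Or.inl (Orb.trans ⟨g, hg, hge⟩ (orb_of_commute hS ha hpq.1 hpq.2.1 hap haq hpq.2.2))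
      · exact Or.inr h
  rcases hstep a hcon with ⟨g, hg, hge⟩ | h
  · exfalso
    refine hac ?_
    have : c = a := by
      have hga : g * a * g⁻¹ = a := by rw [hg.eq, mul_inv_cancel_right]
      have := hge.trans hga.symm
      simpa using this
    rw [this]
  · exact h

include hD hsimple hnonab in
theorem orb_outside {a c d : G} (ha : a ∈ D) (hc : c ∈ D) (hd : d ∈ D) (hac : ¬ Commute a c)
    (had : ¬ Commute a d) : Orb a c d := by
  classical
  obtain ⟨⟨hS, hcl, hgen⟩, htr⟩ := class_data hD
  have hnd := nbrData hD hsimple hnonab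
  by_contra hne
  -- the pairs are comparable
  have hcmp : ∀ {c d : G}, c ∈ D → d ∈ D → ¬ Commute a c → ¬ Commute a d → ¬ Orb a c d →
      (nbr D a ∩ nbr D c ⊆ nbr D d) ∨ (nbr D a ∩ nbr D d ⊆ nbr D c) := by
    intro c d hc hd hac had hno
    by_contra h
    rw [not_or, Set.not_subset, Set.not_subset] at h
    obtain ⟨⟨b, hb, hbd⟩, ⟨b', hb', hbc⟩⟩ := h
    have hcd : ¬ Commute c d := fun e => hno (orb_of_commute hS ha hc hd hac had e)
    -- seen from d, the members a, b, c form a commuting path
    have hdb : ¬ Commute d b := fun e => hbd ⟨hb.1.1, fun e' => had (e' ▸ hb.1.2.2), e⟩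
    have hcb' : ¬ Commute c b' := fun e => hbc ⟨hb'.1.1, fun e' => hac (e' ▸ hb'.1.2.2), e⟩
    have h1 : Orb d a c := (orb_of_commute hS hd ha hb.1.1 (fun e => had e.symm) hdb hb.1.2.2).trans
      (orb_of_commute hS hd hb.1.1 hc hdb (fun e => hcd e.symm) hb.2.2.2.symm)
    have h2 : Orb c a d := (orb_of_commute hS hc ha hb'.1.1 (fun e => hac e.symm) hcb' hb'.1.2.2).trans
      (orb_of_commute hS hc hb'.1.1 hd hcb' hcd hb'.2.2.2.symm)
    obtain ⟨g, hg, hge⟩ := h1.symm
    obtain ⟨h, hh, hhe⟩ := h2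
    set s1 := a * c * a
    set s2 := c * d * c
    set s3 := d * a * d
    obtain ⟨s1a, s1c⟩ := swap_pair hS ha hc hac
    obtain ⟨s2c, s2d⟩ := swap_pair hS hc hd hcd
    obtain ⟨s3d, s3a⟩ := swap_pair hS hd ha fun e => had e.symm
    have hgd : g * d * g⁻¹ = d := by rw [hg.eq, mul_inv_cancel_right]
    have hhc : h * c * h⁻¹ = c := by rw [hh.eq, mul_inv_cancel_right]
    refine hno ⟨s3 * g * s2 * h * s1, ?_, ?_⟩
    · have e : (s3 * g * s2 * h * s1) * a * (s3 * g * s2 * h * s1)⁻¹ = a := by
        rw [show (s3 * g * s2 * h * s1) * a * (s3 * g * s2 * h * s1)⁻¹ =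
          s3 * (g * (s2 * (h * (s1 * a * s1⁻¹) * h⁻¹) * s2⁻¹) * g⁻¹) * s3⁻¹ by group,
          s1a, hhc, s2c, hgd, s3d]
      exact mul_inv_eq_iff_eq_mul.1 e
    · rw [show (s3 * g * s2 * h * s1) * c * (s3 * g * s2 * h * s1)⁻¹ =
          s3 * (g * (s2 * (h * (s1 * c * s1⁻¹) * h⁻¹) * s2⁻¹) * g⁻¹) * s3⁻¹ by group,
          s1c, hhe, s2d, hge, s3a]
  -- the intersection over an orbit is empty
  have hinter : ∀ {c d : G}, c ∈ D → d ∈ D → ¬ Commute a c → ¬ Commute a d → ¬ Orb a c d →
      (nbr D a ∩ nbr D d).ncard ≤ (nbr D a ∩ nbr D c).ncard → (nbr D a ∩ nbr D d) = ∅ := by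
    intro c d hc hd hac had hno hle
    by_contra hempty
    obtain ⟨b, hb⟩ := Set.nonempty_iff_ne_empty.2 hempty
    have himg : ∀ k : G, Commute k a →
        nbr D a ∩ nbr D (k * c * k⁻¹) = (fun v => k * v * k⁻¹) '' (nbr D a ∩ nbr D c) := by
      intro k hk
      have hka : k * a * k⁻¹ = a := by rw [hk.eq, mul_inv_cancel_right]
      ext v
      constructor
      · intro hv
        refine ⟨k⁻¹ * v * k, ⟨?_, (nbr_conj hcl k c v).1 hv.2⟩, by group⟩
        have := hv.1
        rw [← hka] at this
        exact (nbr_conj hcl k a v).1 this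
      · rintro ⟨w, hw, rfl⟩
        have e : k⁻¹ * (k * w * k⁻¹) * k = w := by group
        refine ⟨?_, (nbr_conj hcl k c _).2 (by rw [e]; exact hw.2)⟩
        rw [← hka]
        exact (nbr_conj hcl k a _).2 (by rw [e]; exact hw.1)
    -- every member of the orbit of `c` commutes with `b`
    have hall : ∀ k : G, Commute k a → b ∈ nbr D (k * c * k⁻¹) := by
      intro k hk
      have hka : k * a * k⁻¹ = a := by rw [hk.eq, mul_inv_cancel_right]
      have hkc : ¬ Commute a (k * c * k⁻¹) := fun e => hac ((commute_conj (a := k)).1 (by rwa [hka]))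
      have hcard : (nbr D a ∩ nbr D (k * c * k⁻¹)).ncard = (nbr D a ∩ nbr D c).ncard := by
        rw [himg k hk, Set.ncard_image_of_injective _ (fun p q e => by simpa using e)]
      have hno' : ¬ Orb a (k * c * k⁻¹) d := fun e => hno (Orb.trans ⟨k, hk, rfl⟩ e)
      rcases hcmp (hcl k c hc) hd hkc had hno' with h | h
      · have heq : nbr D a ∩ nbr D (k * c * k⁻¹) = nbr D a ∩ nbr D d :=
          Set.eq_of_subset_of_ncard_le (fun v hv => ⟨hv.1, h hv⟩) (by rw [hcard]; exact hle)
            (Set.toFinite _)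
        exact (heq ▸ hb : b ∈ nbr D a ∩ nbr D (k * c * k⁻¹)).2
      · exact h hb
    have hsub : nbr D a ⊆ nbr D c := by
      intro v hv
      obtain ⟨g, hg, hge⟩ := orb_nbr hD hsimple hnonab ha hb.1 hv
      have h1 := (nbr_conj hcl g (g⁻¹ * c * g) (g * b * g⁻¹)).2 (by
        rw [show g⁻¹ * (g * b * g⁻¹) * g = b by group]
        simpa using hall g⁻¹ hg.inv_left)
      rw [hge, show g * (g⁻¹ * c * g) * g⁻¹ = c by group] at h1
      exact h1
    exact hac (by
      rw [hnd.nbrEq a ha c hc (Set.eq_of_subset_of_ncard_le hsub (hnd.nbr_card hc ha).le (Set.toFinite _))])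
  have hnonempty : ∀ {c : G}, c ∈ D → ¬ Commute a c →
      ∃ c', Orb a c c' ∧ c' ∈ D ∧ ¬ Commute a c' ∧ (nbr D a ∩ nbr D c') ≠ ∅ := by
    intro c hc hac
    obtain ⟨c', ⟨g, hg, rfl⟩, b, hb, hbc⟩ := exists_common hD hsimple hnonab ha hc hac
    have hga : g * a * g⁻¹ = a := by rw [hg.eq, mul_inv_cancel_right]
    have hac' : ¬ Commute a (g * c * g⁻¹) := fun e => hac ((commute_conj (a := g)).1 (by rwa [hga]))
    exact ⟨_, ⟨g, hg, rfl⟩, hcl g c hc, hac', Set.nonempty_iff_ne_empty.1
      ⟨b, hb, hb.1, fun e => hac' (e ▸ hb.2.2), hbc.symm⟩⟩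
  obtain ⟨c', hcc, hc', hac', hce⟩ := hnonempty hc hac
  obtain ⟨d', hdd, hd', had', hde⟩ := hnonempty hd had
  have hno : ¬ Orb a c' d' := fun e => hne (hcc.trans (e.trans hdd.symm))
  rcases le_total (nbr D a ∩ nbr D d').ncard (nbr D a ∩ nbr D c').ncard with h | h
  · exact hde (hinter hc' hd' hac' had' hno h)
  · exact hce (hinter hd' hc' had' hac' (fun e => hno e.symm) h)

end Simple


/-- Fischer's rank-three property. Let a finite group be generated by a conjugacy class D of 3-transpositions, with non-abelian simple commutator subgroup. Then for a in D there are members of D other than a commuting with a and members not commuting with a, and the centraliser of a acts transitively on each of these two sets. -/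
theorem result {G : Type*} [Group G] [Finite G] {D : Set G} (hD : Cfsg.IsThreeTranspositionClass D) (hsimple : IsSimpleGroup (commutator G)) (hnonab : ∃ x y : commutator G, x * y ≠ y * x) {a : G} (ha : a ∈ D) : (∃ b ∈ D, b ≠ a ∧ Commute a b) ∧ (∃ c ∈ D, ¬ Commute a c) ∧ (∀ b ∈ D, ∀ b' ∈ D, b ≠ a → b' ≠ a → Commute a b → Commute a b' → ∃ g : G, Commute g a ∧ g * b * g⁻¹ = b') ∧ (∀ c ∈ D, ∀ c' ∈ D, ¬ Commute a c → ¬ Commute a c' → ∃ g : G, Commute g a ∧ g * c * g⁻¹ = c') := by
  obtain ⟨⟨hS, hc, hgen⟩, -⟩ := class_data hD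
  refine ⟨?_, ?_, fun b hb b' hb' hne hne' h h' =>
      orb_nbr hD hsimple hnonab ha ⟨hb, hne, h⟩ ⟨hb', hne', h'⟩,
    fun c hc c' hc' h h' => orb_outside hD hsimple hnonab ha hc hc' h h'⟩
  · obtain ⟨b, hb⟩ := exists_nbr hD hsimple hnonab ha
    exact ⟨b, hb.1, hb.2.1, hb.2.2⟩
  · by_contra hall
    push Not at hall
    refine not_mem_center hD hsimple hnonab ha ?_
    rw [Subgroup.mem_center_iff]
    intro g
    have hle : Subgroup.closure D ≤ Subgroup.centralizer ({a} : Set G) :=
      (Subgroup.closure_le _).2 fun d hd => Subgroup.mem_centralizer_singleton_iff.2 (hall d hd).symm.eq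
    rw [hgen] at hle
    exact Subgroup.mem_centralizer_singleton_iff.1 (hle (Subgroup.mem_top g))

end Cfsg.Agent.S0441
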