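import Cfsg.Statements.S0442
import Mathlib.Tactic


set_option autoImplicit false
open Cfsg

namespace Cfsg.Agent.S0442

/-- A standard trick for producing elements of an involution centraliser: for an involution a and an element g, let b be the conjugate g⁻¹ * a * g. If a * b has odd order 2m + 1 then g * (a * b) ^ m commutes with a; if a * b has even order 2m then (a * b) ^ m and (a * (g * a * g⁻¹)) ^ m commute with a. -/
theorem result {G : Type*} [Group G] (a g : G) (ha : orderOf a = 2) : (∀ m : ℕ, orderOf (a * (g⁻¹ * a * g)) = 2 * m + 1 → Commute (g * (a * (g⁻¹ * a * g)) ^ m) a) ∧ (∀ m : ℕ, orderOf (a * (g⁻¹ * a * g)) = 2 * m → Commute ((a * (g⁻¹ * a * g)) ^ m) a ∧ Commute ((a * (g * a * g⁻¹)) ^ m) a) := by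
  set b := g⁻¹ * a * g with hb
  have ha2 : a * a = 1 := by have := pow_orderOf_eq_one a; rwa [ha, pow_two] at this
  have hai : a⁻¹ = a := inv_eq_of_mul_eq_one_right ha2
  have hb2 : b * b = 1 := by
    rw [hb]
    calc g⁻¹ * a * g * (g⁻¹ * a * g) = g⁻¹ * (a * a) * g := by group
      _ = 1 := by rw [ha2]; group
  have hbi : b⁻¹ = b := inv_eq_of_mul_eq_one_right hb2
  have key : ∀ c : G, c⁻¹ = c → ∀ k : ℕ, a * (a * c) ^ k = ((a * c) ^ k)⁻¹ * a := by
    intro c hc k
    induction k with
    | zero => simp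
    | succ k ih =>
      have h1 : a * (a * c) = (a * c)⁻¹ * a := by
        rw [mul_inv_rev, hai, hc, ← mul_assoc, ha2, one_mul, mul_assoc, ha2, mul_one]
      rw [pow_succ, ← mul_assoc, ih, mul_assoc, h1, ← mul_assoc, ← mul_inv_rev, ← pow_succ', pow_succ]
  constructor
  · intro m hm
    have h1 : (a * b) ^ (2 * m + 1) = 1 := by rw [← hm]; exact pow_orderOf_eq_one _
    have h2 : (a * b) ^ m * a = b * (a * b) ^ m := by
      have k := key b hbi m
      have h3 : (a * b) ^ m * a = a * ((a * b) ^ m)⁻¹ := by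
        rw [eq_mul_inv_iff_mul_eq, mul_assoc, k, ← mul_assoc, mul_inv_cancel, one_mul]
      have h4 : ((a * b) ^ m)⁻¹ = (a * b) * (a * b) ^ m := by
        apply inv_eq_of_mul_eq_one_right
        rw [← pow_succ', ← pow_add, ← h1]
        congr 1; omega
      rw [h3, h4, ← mul_assoc, ← mul_assoc, ha2, one_mul]
    unfold Commute SemiconjBy
    rw [mul_assoc, h2, hb]
    group
  · intro m hm
    have h1 : (a * b) ^ m * (a * b) ^ m = 1 := by
      rw [← pow_add, ← two_mul, ← hm]; exact pow_orderOf_eq_one _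
    have c1 : Commute ((a * b) ^ m) a := by
      have k := key b hbi m
      rw [inv_eq_of_mul_eq_one_right h1] at k
      exact k.symm
    refine ⟨c1, ?_⟩
    have e : (a * (g * a * g⁻¹)) = MulAut.conj g ((a * b)⁻¹) := by
      rw [MulAut.conj_apply, mul_inv_rev, hai, hbi, hb]; group
    have h5 : (a * (g * a * g⁻¹)) ^ m * (a * (g * a * g⁻¹)) ^ m = 1 := by
      rw [e, ← map_pow, inv_pow, ← map_mul, ← mul_inv_rev, h1, inv_one, map_one]
    have k := key (g * a * g⁻¹) (by rw [mul_inv_rev, mul_inv_rev, inv_inv, hai, mul_assoc]) m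
    rw [inv_eq_of_mul_eq_one_right h5] at k
    exact k.symm

end Cfsg.Agent.S0442
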