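import Cfsg.Statements.S0444
import Cfsg.Agent.Lib.SylowCounting.ThreeTrans
import Mathlib.GroupTheory.SpecificGroups.Dihedral
import Mathlib.Tactic
open Cfsg.Agent.Lib.SylowCounting

set_option autoImplicit false
open Cfsg

namespace Cfsg.Agent.S0444

/-- `D_6` acting on `ℤ/3`. -/
def dihPermFun : DihedralGroup 3 → Equiv.Perm (Fin 3)
  | .r i => Equiv.addRight (i : Fin 3)
  | .sr i => (Equiv.neg (Fin 3)).trans (Equiv.subRight (i : Fin 3))

def dihPerm : DihedralGroup 3 →* Equiv.Perm (Fin 3) :=
  MonoidHom.mk' dihPermFun (by decide)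

theorem dihPerm_bijective : Function.Bijective dihPerm := by
  refine ⟨?_, ?_⟩
  · intro x y h
    revert x y
    decide
  · intro σ
    revert σ
    decide

variable {G : Type*} [Group G]

theorem pow_val_add (t : G) (ht : t ^ 3 = 1) (i j : ZMod 3) :
    t ^ (i + j).val = t ^ i.val * t ^ j.val := by
  rw [← pow_add, ZMod.val_add, ← pow_eq_pow_mod _ ht]

theorem pow_val_neg (t : G) (ht : t ^ 3 = 1) (i : ZMod 3) : t ^ (-i).val = (t ^ i.val)⁻¹ := by
  apply eq_inv_of_mul_eq_one_left
  rw [← pow_val_add t ht, neg_add_cancel, ZMod.val_zero, pow_zero]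

theorem conj_pow_val (d t : G) (hd : d * d = 1) (ht : t ^ 3 = 1) (hdt : d * t * d = t⁻¹)
    (i : ZMod 3) : t ^ i.val * d = d * t ^ (-i).val := by
  have hdi : d⁻¹ = d := inv_eq_of_mul_eq_one_right hd
  have h1 : (d * t * d⁻¹) ^ i.val = d * t ^ i.val * d⁻¹ := conj_pow
  rw [hdi, hdt, inv_pow, ← pow_val_neg t ht] at h1
  rw [h1, ← mul_assoc, ← mul_assoc, hd, one_mul]

def dihHom (d t : G) (hd : d * d = 1) (ht : t ^ 3 = 1) (hdt : d * t * d = t⁻¹) :
    DihedralGroup 3 →* G :=
  MonoidHom.mk' (fun x => match x with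
    | .r i => t ^ i.val
    | .sr i => d * t ^ i.val) (by
    rintro (i | i) (j | j)
    · exact pow_val_add t ht i j
    · show d * t ^ (j - i).val = t ^ i.val * (d * t ^ j.val)
      rw [← mul_assoc, conj_pow_val d t hd ht hdt, mul_assoc, ← pow_val_add t ht, neg_add_eq_sub]
    · show d * t ^ (i + j).val = d * t ^ i.val * t ^ j.val
      rw [mul_assoc, pow_val_add t ht]
    · show t ^ (j - i).val = d * t ^ i.val * (d * t ^ j.val)
      rw [mul_assoc, ← mul_assoc (t ^ i.val), conj_pow_val d t hd ht hdt, mul_assoc,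
        ← mul_assoc d d, hd, one_mul, ← pow_val_add t ht, neg_add_eq_sub])

theorem dihHom_injective (d t : G) (hd : d * d = 1) (ht : t ^ 3 = 1) (hdt : d * t * d = t⁻¹)
    (h1 : t ≠ 1) (h2 : ∀ k : ℕ, d ≠ t ^ k) : Function.Injective (dihHom d t hd ht hdt) := by
  haveI : Fact (Nat.Prime 3) := ⟨Nat.prime_three⟩
  have hord : orderOf t = 3 := orderOf_eq_prime ht h1
  rw [injective_iff_map_eq_one]
  rintro (i | i) h
  · have : orderOf t ∣ i.val := orderOf_dvd_of_pow_eq_one h
    rw [hord] at this
    have hi := ZMod.val_lt i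
    have : i.val = 0 := Nat.eq_zero_of_dvd_of_lt this hi
    rw [(ZMod.val_eq_zero i).1 this, DihedralGroup.r_zero]
  · exfalso
    apply h2 (-i).val
    rw [pow_val_neg t ht]
    exact eq_inv_of_mul_eq_one_left h


/-- Two members of a set of 3-transpositions which do not commute generate a subgroup isomorphic to the symmetric group on three letters. -/
theorem result {G : Type*} [Group G] {E : Set G} (hE : Cfsg.IsThreeTranspositionSet E) {d e : G} (hd : d ∈ E) (he : e ∈ E) (h : ¬ Commute d e) : Nonempty (Subgroup.closure ({d, e} : Set G) ≃* Equiv.Perm (Fin 3)) := by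
  have hd2 := tt_mul_self hE hd
  have he2 := tt_mul_self hE he
  have hne : d * e ≠ 1 := fun h' => h (by
    have := eq_inv_of_mul_eq_one_left h'
    rw [tt_inv hE he] at this; rw [this])
  have ht : (d * e) ^ 3 = 1 := by
    have := tt_braid hE hd he h
    calc (d * e) ^ 3 = (d * e * d) * (e * d * e) := by simp only [pow_succ, pow_zero, one_mul, mul_assoc]
      _ = (e * d * e) * (e * d * e) := by rw [this]
      _ = e * (d * (e * e) * d) * e := by simp only [mul_assoc]
      _ = 1 := by rw [he2, mul_one, hd2, mul_one, he2]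
  have hdt : d * (d * e) * d = (d * e)⁻¹ := by
    rw [mul_inv_rev, tt_inv hE hd, tt_inv hE he, ← mul_assoc, hd2, one_mul]
  set t := d * e with htdef
  let φ : DihedralGroup 3 →* G := dihHom d t hd2 ht hdt
  have hφ : Function.Injective φ := dihHom_injective d t hd2 ht hdt hne (by
    intro k hk
    apply h
    have hct : Commute d t := by rw [hk]; exact (Commute.refl t).pow_left k
    have e1 : e = d * t := by rw [htdef, ← mul_assoc, hd2, one_mul]
    rw [e1]; exact (Commute.refl d).mul_right hct)
  have hr : φ.range = Subgroup.closure ({d, e} : Set G) := by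
    apply le_antisymm
    · rintro _ ⟨x, rfl⟩
      have hdm : d ∈ Subgroup.closure ({d, e} : Set G) := Subgroup.subset_closure (by simp)
      have htm : t ∈ Subgroup.closure ({d, e} : Set G) := mul_mem hdm (Subgroup.subset_closure (by simp))
      cases x with
      | r i => exact pow_mem htm _
      | sr i => exact mul_mem hdm (pow_mem htm _)
    · rw [Subgroup.closure_le]
      rintro x (rfl | rfl)
      · exact ⟨.sr 0, by show x * t ^ (0 : ZMod 3).val = x; rw [ZMod.val_zero, pow_zero, mul_one]⟩
      · exact ⟨.sr 1, by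
          show d * t ^ (1 : ZMod 3).val = x
          rw [show (1 : ZMod 3).val = 1 from rfl, pow_one, htdef, ← mul_assoc, hd2, one_mul]⟩
  exact ⟨(MulEquiv.subgroupCongr hr).symm.trans
    ((MonoidHom.ofInjective hφ).symm.trans (MulEquiv.ofBijective dihPerm dihPerm_bijective))⟩

end Cfsg.Agent.S0444
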