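import Cfsg.Statements.S0445
import Cfsg.Agent.Lib.Classical.LinearCard
import Mathlib.Tactic
open scoped Matrix

set_option autoImplicit false
open Cfsg

namespace Cfsg.Agent.S0445

theorem z2_mul : ∀ x : ZMod 2, x ≠ 0 → x = 1 := by decide

/-- Glue `a b r c B` into a matrix commuting with the transvection `1 + E₀₁`. -/
def build (x : ZMod 2) (r c : Fin 3 → ZMod 2) (B : Matrix (Fin 3) (Fin 3) (ZMod 2)) :
    Matrix (Fin 5) (Fin 5) (ZMod 2) :=
  !![1, x, r 0, r 1, r 2;
     0, 1, 0, 0, 0;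
     0, c 0, B 0 0, B 0 1, B 0 2;
     0, c 1, B 1 0, B 1 1, B 1 2;
     0, c 2, B 2 0, B 2 1, B 2 2]

theorem det_build (x : ZMod 2) (r c : Fin 3 → ZMod 2) (B : Matrix (Fin 3) (Fin 3) (ZMod 2)) :
    (build x r c B).det = B.det := by
  rw [Matrix.det_succ_column_zero]
  simp only [Fin.sum_univ_succ, build, Matrix.det_fin_three, Fin.sum_univ_zero]
  simp [Matrix.det_succ_row_zero, Fin.sum_univ_succ, Fin.succAbove, CharTwo.sub_eq_add]
  ring

theorem eq_build {M : Matrix (Fin 5) (Fin 5) (ZMod 2)} (hdet : M.det = 1)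
    (h : M * Matrix.transvection 0 1 1 = Matrix.transvection 0 1 1 * M) :
    M = build (M 0 1) (fun j => M 0 ⟨j.1 + 2, by omega⟩) (fun i => M ⟨i.1 + 2, by omega⟩ 1)
      (Matrix.of fun i j => M ⟨i.1 + 2, by omega⟩ ⟨j.1 + 2, by omega⟩) := by
  have hrel : ∀ i j : Fin 5, (M * Matrix.transvection 0 1 (1 : ZMod 2) : Matrix (Fin 5) (Fin 5) (ZMod 2)) i j =
      (Matrix.transvection 0 1 (1 : ZMod 2) * M : Matrix (Fin 5) (Fin 5) (ZMod 2)) i j := fun i j => by rw [h]
  have h10 : M 1 0 = 0 := by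
    have := hrel 1 1
    rw [Matrix.mul_transvection_apply_same, Matrix.transvection_mul_apply_of_ne _ _ _ _ (by decide)] at this
    simpa using this
  have hcol : ∀ i : Fin 5, i ≠ 0 → M i 0 = 0 := fun i hi => by
    have := hrel i 1
    rw [Matrix.mul_transvection_apply_same, Matrix.transvection_mul_apply_of_ne _ _ _ _ hi] at this
    simpa using this
  have hrow : ∀ j : Fin 5, j ≠ 1 → M 1 j = 0 := fun j hj => by
    have := hrel 0 j
    rw [Matrix.mul_transvection_apply_of_ne _ _ _ _ hj, Matrix.transvection_mul_apply_same] at this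
    simpa using this
  have h00 : M 0 0 = M 1 1 := by
    have := hrel 0 1
    rw [Matrix.mul_transvection_apply_same, Matrix.transvection_mul_apply_same] at this
    linear_combination this
  have h1 : M 0 0 = 1 := by
    refine z2_mul _ fun h0 => ?_
    rw [Matrix.det_eq_zero_of_column_eq_zero 0 (fun i => by
      by_cases hi : i = 0
      · subst hi; exact h0
      · exact hcol i hi)] at hdet
    exact zero_ne_one hdet
  ext i j
  fin_cases i <;> fin_cases j <;> simp [build, h1, hcol, hrow, ← h00]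

theorem build_comm (x : ZMod 2) (r c : Fin 3 → ZMod 2) (B : Matrix (Fin 3) (Fin 3) (ZMod 2)) :
    build x r c B * Matrix.transvection 0 1 1 = Matrix.transvection 0 1 1 * build x r c B := by
  rw [show (Matrix.transvection 0 1 1 : Matrix (Fin 5) (Fin 5) (ZMod 2)) =
    !![1, 1, 0, 0, 0; 0, 1, 0, 0, 0; 0, 0, 1, 0, 0; 0, 0, 0, 1, 0; 0, 0, 0, 0, 1] by decide]
  ext i j
  fin_cases i <;> fin_cases j <;> simp [build, Matrix.mul_apply, Fin.sum_univ_succ, add_comm]

theorem cent_mat (s : Matrix.SpecialLinearGroup (Fin 5) (ZMod 2))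
    (hs : (s : Matrix (Fin 5) (Fin 5) (ZMod 2)) = Matrix.transvection 0 1 1)
    (g : Subgroup.centralizer ({s} : Set (Matrix.SpecialLinearGroup (Fin 5) (ZMod 2)))) :
    (g.1 : Matrix (Fin 5) (Fin 5) (ZMod 2)) * Matrix.transvection 0 1 1 =
      Matrix.transvection 0 1 1 * (g.1 : Matrix (Fin 5) (Fin 5) (ZMod 2)) := by
  have := congrArg (fun A : Matrix.SpecialLinearGroup (Fin 5) (ZMod 2) => (A : Matrix (Fin 5) (Fin 5) (ZMod 2)))
    (Subgroup.mem_centralizer_singleton_iff.1 g.2)
  simp only [Matrix.SpecialLinearGroup.coe_mul, hs] at this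
  exact this

def centEquiv (s : Matrix.SpecialLinearGroup (Fin 5) (ZMod 2))
    (hs : (s : Matrix (Fin 5) (Fin 5) (ZMod 2)) = Matrix.transvection 0 1 1) :
    Subgroup.centralizer ({s} : Set (Matrix.SpecialLinearGroup (Fin 5) (ZMod 2))) ≃
      ZMod 2 × (Fin 3 → ZMod 2) × (Fin 3 → ZMod 2) × Matrix.SpecialLinearGroup (Fin 3) (ZMod 2) where
  toFun g := (g.1.1 0 1, fun j => g.1.1 0 ⟨j.1 + 2, by omega⟩, fun i => g.1.1 ⟨i.1 + 2, by omega⟩ 1,
    ⟨Matrix.of fun i j => g.1.1 ⟨i.1 + 2, by omega⟩ ⟨j.1 + 2, by omega⟩, by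
      have h := eq_build g.1.2 (cent_mat s hs g)
      have hd := g.1.2
      rw [h, det_build] at hd
      exact hd⟩)
  invFun p := ⟨⟨build p.1 p.2.1 p.2.2.1 p.2.2.2.1, by rw [det_build]; exact p.2.2.2.2⟩,
    Subgroup.mem_centralizer_singleton_iff.2 (Subtype.ext (by
      show build p.1 p.2.1 p.2.2.1 p.2.2.2.1 * (s : Matrix (Fin 5) (Fin 5) (ZMod 2)) =
        (s : Matrix (Fin 5) (Fin 5) (ZMod 2)) * build p.1 p.2.1 p.2.2.1 p.2.2.2.1
      rw [hs]
      exact build_comm p.1 p.2.1 p.2.2.1 p.2.2.2.1))⟩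
  left_inv g := by
    apply Subtype.ext; apply Subtype.ext
    exact (eq_build g.1.2 (cent_mat s hs g)).symm
  right_inv p := by
    obtain ⟨x, r, c, B, hB⟩ := p
    refine Prod.ext (by simp [build]) (Prod.ext ?_ (Prod.ext ?_ ?_))
    · funext j; fin_cases j <;> simp [build]
    · funext i; fin_cases i <;> simp [build]
    · apply Subtype.ext
      ext i j
      fin_cases i <;> fin_cases j <;> simp [build]

theorem card_target : Nat.card (ZMod 2 × (Fin 3 → ZMod 2) × (Fin 3 → ZMod 2) ×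
    Matrix.SpecialLinearGroup (Fin 3) (ZMod 2)) = 21504 := by
  have h := Cfsg.Agent.Lib.Classical.card_SL_formula (F := ZMod 2) 3
  norm_num [Nat.card_prod, Nat.card_fun, ZMod.card, Fin.prod_univ_succ, Finset.prod_range_succ] at h ⊢
  omega


/-- In the special linear group of dimension 5 over the field with two elements, the centraliser of a transvection has order 21504 = 2 ^ 7 · 168 (it is an extension of an extraspecial group of order 2 ^ 7 by the simple group of order 168). -/
theorem result (s : Matrix.SpecialLinearGroup (Fin 5) (ZMod 2)) (hs : (s : Matrix (Fin 5) (Fin 5) (ZMod 2)) = Matrix.transvection 0 1 1) : Nat.card (Subgroup.centralizer ({s} : Set (Matrix.SpecialLinearGroup (Fin 5) (ZMod 2)))) = 21504 := by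
  have e := (Nat.card_congr (centEquiv s hs))
  rw [e]
  exact card_target

end Cfsg.Agent.S0445
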