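import Cfsg.Statements.S0457
import Cfsg.Agent.Lib.Recognition.J1Spectrum

set_option autoImplicit false
set_option linter.style.haveILetI false
set_option maxRecDepth 100000
open Cfsg

namespace Cfsg.Agent.S0457

open Cfsg.Agent.Lib.Recognition Cfsg.Agent.Lib.Recognition.Packed

/-- Powers of words. -/
def rep : ℕ → List ℕ → List ℕ
  | 0, _ => []
  | n + 1, w => w ++ rep n w

theorem j1Word_append (u v : List ℕ) : j1Word (u ++ v) = j1Word u * j1Word v := by
  simp [j1Word, List.map_append, List.prod_append]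

theorem j1Word_rep (w : List ℕ) : ∀ n, j1Word (rep n w) = j1Word w ^ n
  | 0 => by simp [rep, j1Word]
  | n + 1 => by rw [rep, j1Word_append, j1Word_rep w n, pow_succ']

theorem word_eq {u v : List ℕ} (h : eqb (j1WordMat u) (j1WordMat v) = true) : j1Word u = j1Word v :=
  Subtype.ext (Units.ext (by rw [coe_j1Word, coe_j1Word, eq_of_eqb h]))

theorem word_ne {u v : List ℕ} (h : toMat (j1WordMat u) ≠ toMat (j1WordMat v)) : j1Word u ≠ j1Word v :=
  fun e => h (by rw [← coe_j1Word, ← coe_j1Word, e])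

theorem j1Word_nil : j1Word [] = 1 := by simp [j1Word]

theorem order_word {w : List ℕ} {p : ℕ} (hp : p.Prime) (h : eqb (j1WordMat (rep p w)) (j1WordMat []) = true)
    (h1 : toMat (j1WordMat w) ≠ toMat (j1WordMat [])) : orderOf (j1Word w) = p := by
  haveI := Fact.mk hp
  refine orderOf_eq_prime ?_ ?_
  · rw [← j1Word_rep, word_eq h, j1Word_nil]
  · rw [← j1Word_nil]; exact word_ne h1

/-- Eight words for an elementary abelian subgroup of order eight. -/
def ew : Fin 8 → List ℕ := ![[], [1, 1, 1, 1, 0, 1, 0], [0, 1, 1, 1, 1, 0, 1], [1, 1, 1, 1, 0, 1, 0, 0, 1, 1, 1, 1, 0, 1], [1, 1, 1, 1, 0, 0, 1, 0, 0], [1, 1, 1, 1, 0, 1, 0, 1, 1, 1, 1, 0, 0, 1, 0, 0], [0, 1, 1, 1, 1, 0, 1, 1, 1, 1, 1, 0, 0, 1, 0, 0], [1, 1, 1, 1, 0, 1, 0, 0, 1, 1, 1, 1, 0, 1, 1, 1, 1, 1, 0, 0, 1, 0, 0]]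

theorem ew_mul : ∀ i j : Fin 8, ∃ k : Fin 8, eqb (j1WordMat (ew i ++ ew j)) (j1WordMat (ew k)) = true := by decide +kernel
theorem ew_inv : ∀ i : Fin 8, eqb (j1WordMat (ew i ++ ew i)) (j1WordMat []) = true := by decide +kernel
theorem ew_ne : ∀ i j : Fin 8, i ≠ j → toMat (j1WordMat (ew i)) ≠ toMat (j1WordMat (ew j)) := by decide +kernel
theorem ew_conj : ∀ i j : Fin 8, i ≠ 0 →
    toMat (j1WordMat ([1] ++ ew i)) ≠ toMat (j1WordMat (ew j ++ [1])) := by decide +kernel

/-- An elementary abelian subgroup of order eight. -/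
def E8 : Subgroup Cfsg.Spor.J1 where
  carrier := Set.range fun i => j1Word (ew i)
  one_mem' := ⟨0, j1Word_nil⟩
  mul_mem' := by
    rintro _ _ ⟨i, rfl⟩ ⟨j, rfl⟩
    obtain ⟨k, hk⟩ := ew_mul i j
    exact ⟨k, by rw [← j1Word_append, word_eq hk]⟩
  inv_mem' := by
    rintro _ ⟨i, rfl⟩
    exact ⟨i, eq_inv_of_mul_eq_one_left (by rw [← j1Word_append, word_eq (ew_inv i), j1Word_nil])⟩

theorem card_E8 : Nat.card E8 = 8 := by
  have hinj : Function.Injective fun i => j1Word (ew i) := fun i j h => by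
    by_contra hne
    exact word_ne (ew_ne i j hne) h
  exact (Nat.card_congr (Equiv.ofInjective _ hinj).symm).trans (Nat.card_fin 8)

theorem card_le : Finite Cfsg.Spor.J1 ∧ Nat.card Cfsg.Spor.J1 ≤ 175560 := by
  let f : Fin 266 × Fin 660 → Matrix (Fin 7) (Fin 7) (ZMod 11) := fun p => toMat (jT p.1) * toMat (jH p.2)
  have hsurj : ∀ g : Cfsg.Spor.J1, ∃ p, f p = ((g : GL (Fin 7) (ZMod 11)) : Matrix (Fin 7) (Fin 7) (ZMod 11)) := fun g => by
    obtain ⟨i, hi, h, ⟨k, hk, rfl⟩, e⟩ := mem_JS_of_mem_J1 g.2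
    exact ⟨(⟨i, hi⟩, ⟨k, hk⟩), e⟩
  choose q hq using hsurj
  have hinj : Function.Injective q := fun g g' h => Subtype.ext (Units.ext (by rw [← hq g, ← hq g', h]))
  refine ⟨Finite.of_injective q hinj, ?_⟩
  refine le_trans (Nat.card_le_card_of_injective q hinj) ?_
  simp

theorem card_J1 : Nat.card Cfsg.Spor.J1 = 175560 := by
  haveI := card_le.1
  have h8 : 8 ∣ Nat.card Cfsg.Spor.J1 := card_E8 ▸ Subgroup.card_subgroup_dvd_card E8
  have ho : ∀ (w : List ℕ) (p : ℕ), orderOf (j1Word w) = p → p ∣ Nat.card Cfsg.Spor.J1 := fun w p h => h ▸ orderOf_dvd_natCard _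
  have h3 := ho _ _ (order_word (w := [1, 0, 1, 0, 1, 0, 0, 0]) (p := 3) (by norm_num) (by decide +kernel) (by decide +kernel))
  have h5 := ho _ _ (order_word (w := [1]) (p := 5) (by norm_num) (by decide +kernel) (by decide +kernel))
  have h7 := ho _ _ (order_word (w := [0]) (p := 7) (by norm_num) (by decide +kernel) (by decide +kernel))
  have h11 := ho _ _ (order_word (w := [1, 1, 0]) (p := 11) (by norm_num) (by decide +kernel) (by decide +kernel))
  have h19 := ho _ _ (order_word (w := [1, 1, 1, 1, 0]) (p := 19) (by norm_num) (by decide +kernel) (by decide +kernel))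
  have h := Nat.Coprime.mul_dvd_of_dvd_of_dvd (by norm_num) (Nat.Coprime.mul_dvd_of_dvd_of_dvd (by norm_num)
    (Nat.Coprime.mul_dvd_of_dvd_of_dvd (by norm_num) (Nat.Coprime.mul_dvd_of_dvd_of_dvd (by norm_num)
    (Nat.Coprime.mul_dvd_of_dvd_of_dvd (by norm_num : Nat.Coprime 8 3) h8 h3) h5) h7) h11) h19
  exact le_antisymm card_le.2 (Nat.le_of_dvd Nat.card_pos h)

theorem fact_J1 : ∀ r : ℕ, r.Prime → r ∣ 175560 → r = 2 ∨ ((r = 3 ∨ r = 5 ∨ r = 7 ∨ r = 11 ∨ r = 19) ∧ (175560 : ℕ).factorization r = 1) := by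
  intro r hr hd
  have : ∀ q : ℕ, q.Prime → r ∣ q → r = q := fun q hq h => (Nat.prime_dvd_prime_iff_eq hr hq).1 h
  rw [show (175560 : ℕ) = 2 ^ 3 * 3 * 5 * 7 * 11 * 19 by norm_num] at hd
  simp only [hr.dvd_mul] at hd
  have fac : ∀ q : ℕ, q.Prime → ¬ q ∣ 175560 / q → q ∣ 175560 → (175560 : ℕ).factorization q = 1 := by
    intro q hq hn hd'
    conv_lhs => rw [← Nat.mul_div_cancel' hd']
    rw [Nat.factorization_mul hq.ne_zero (by intro h; rw [h] at hn; exact hn (dvd_zero q)), Finsupp.add_apply,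
      hq.factorization_self, Nat.factorization_eq_zero_of_not_dvd hn]
  rcases hd with ((((h | h) | h) | h) | h) | h
  · exact Or.inl (this 2 Nat.prime_two (hr.dvd_of_dvd_pow h))
  all_goals
    have hq := this _ (by norm_num) h
    subst hq
    exact Or.inr ⟨by norm_num, fac _ (by norm_num) (by norm_num) (by norm_num)⟩

theorem simple_J1 : IsSimpleGroup Cfsg.Spor.J1 := by
  haveI := card_le.1
  haveI : Nontrivial Cfsg.Spor.J1 := by
    rw [← Finite.one_lt_card_iff_nontrivial, card_J1]; norm_num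
  refine { eq_bot_or_eq_top_of_normal := fun N hN => ?_ }
  by_contra hcon
  rw [not_or] at hcon
  have conjmem : ∀ r : ℕ, r.Prime → (175560 : ℕ).factorization r = 1 → ∀ a b : Cfsg.Spor.J1,
      orderOf a = r → orderOf b = r → a ∈ N → b ∈ N := by
    intro r hr hf a b ha hb haN
    haveI := Fact.mk hr
    have hc : ∀ x : Cfsg.Spor.J1, orderOf x = r → Nat.card (Subgroup.zpowers x) = r ^ (Nat.card Cfsg.Spor.J1).factorization r :=
      fun x hx => by rw [Nat.card_zpowers, hx, card_J1, hf, pow_one]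
    obtain ⟨g, hg⟩ := MulAction.exists_smul_eq Cfsg.Spor.J1 (Sylow.ofCard _ (hc a ha)) (Sylow.ofCard _ (hc b hb))
    have hmem : b ∈ ((g • Sylow.ofCard _ (hc a ha) : Sylow r Cfsg.Spor.J1) : Subgroup Cfsg.Spor.J1) := by
      rw [hg]; exact Subgroup.mem_zpowers b
    rw [Sylow.coe_subgroup_smul] at hmem
    obtain ⟨x, hx, rfl⟩ := hmem
    exact hN.conj_mem x ((Subgroup.zpowers_le).2 haN hx) g
  have f19 : (175560 : ℕ).factorization 19 = 1 := by
    rcases fact_J1 19 (by norm_num) (by norm_num) with h | ⟨-, h⟩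
    · norm_num at h
    · exact h
  have top_of_19 : ∀ a : Cfsg.Spor.J1, orderOf a = 19 → a ∈ N → False := by
    intro a ha haN
    have hx : ∀ (s : List ℕ) (u : List ℕ), eqb (j1WordMat (rep 19 u)) (j1WordMat []) = true →
        toMat (j1WordMat u) ≠ toMat (j1WordMat []) → eqb (j1WordMat (rep 19 (s ++ u))) (j1WordMat []) = true →
        toMat (j1WordMat (s ++ u)) ≠ toMat (j1WordMat []) → j1Word s ∈ N := by
      intro s u h1 h2 h3 h4
      have m1 := conjmem 19 (by norm_num) f19 a _ ha (order_word (by norm_num) h1 h2) haN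
      have m2 := conjmem 19 (by norm_num) f19 a _ ha (order_word (by norm_num) h3 h4) haN
      rw [j1Word_append] at m2
      exact (N.mul_mem_cancel_right m1).1 m2
    have hX := hx [0] [1, 1, 1, 1, 0] (by decide +kernel) (by decide +kernel) (by decide +kernel) (by decide +kernel)
    have hY := hx [1] [0, 0, 1, 0, 0, 0] (by decide +kernel) (by decide +kernel) (by decide +kernel) (by decide +kernel)
    refine hcon.2 (eq_top_iff.2 fun g _ => ?_)
    have : Cfsg.Spor.J1 ≤ N.map Cfsg.Spor.J1.subtype := by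
      refine (Subgroup.closure_le _).2 ?_
      rintro _ (rfl | rfl)
      · exact ⟨_, hX, by simp [j1Word]⟩
      · exact ⟨_, hY, by simp [j1Word]⟩
    obtain ⟨g', hg', e⟩ := this g.2
    rwa [Subtype.ext e] at hg'
  have top_of : ∀ (r : ℕ) (u v : List ℕ), r.Prime → (175560 : ℕ).factorization r = 1 →
      eqb (j1WordMat (rep r u)) (j1WordMat []) = true → toMat (j1WordMat u) ≠ toMat (j1WordMat []) →
      eqb (j1WordMat (rep r v)) (j1WordMat []) = true → toMat (j1WordMat v) ≠ toMat (j1WordMat []) →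
      eqb (j1WordMat (rep 19 (u ++ v))) (j1WordMat []) = true → toMat (j1WordMat (u ++ v)) ≠ toMat (j1WordMat []) →
      ∀ a : Cfsg.Spor.J1, orderOf a = r → a ∈ N → False := by
    intro r u v hr hf h1 h2 h3 h4 h5 h6 a ha haN
    refine top_of_19 _ (order_word (by norm_num) h5 h6) ?_
    rw [j1Word_append]
    exact N.mul_mem (conjmem r hr hf a _ ha (order_word hr h1 h2) haN) (conjmem r hr hf a _ ha (order_word hr h3 h4) haN)
  have h2 : ∀ r : ℕ, r.Prime → r ∣ Nat.card N → r = 2 := by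
    intro r hr hd
    haveI := Fact.mk hr
    obtain ⟨a, ha⟩ := exists_prime_orderOf_dvd_card' (G := N) r hd
    rw [← Subgroup.orderOf_coe] at ha
    rcases fact_J1 r hr (card_J1 ▸ hd.trans (Subgroup.card_subgroup_dvd_card N)) with h | ⟨h, hf⟩
    · exact h
    exfalso
    rcases h with rfl | rfl | rfl | rfl | rfl
    · exact top_of 3 [1, 0, 1, 0, 1, 0, 0, 0] [1, 0, 1, 1, 0, 0, 0, 1, 0] hr hf (by decide +kernel) (by decide +kernel) (by decide +kernel) (by decide +kernel)
        (by decide +kernel) (by decide +kernel) _ ha a.2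
    · exact top_of 5 [1] [0, 1, 0, 0, 1, 0] hr hf (by decide +kernel) (by decide +kernel) (by decide +kernel) (by decide +kernel)
        (by decide +kernel) (by decide +kernel) _ ha a.2
    · exact top_of 7 [0] [1, 1, 1, 0, 1, 1] hr hf (by decide +kernel) (by decide +kernel) (by decide +kernel) (by decide +kernel)
        (by decide +kernel) (by decide +kernel) _ ha a.2
    · exact top_of 11 [1, 1, 0] [0, 1, 1] hr hf (by decide +kernel) (by decide +kernel) (by decide +kernel) (by decide +kernel)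
        (by decide +kernel) (by decide +kernel) _ ha a.2
    · exact top_of_19 _ ha a.2
  haveI : Fact (Nat.Prime 2) := ⟨Nat.prime_two⟩
  have hN2 : IsPGroup 2 N := by
    refine IsPGroup.of_card (n := (Nat.card N).primeFactorsList.length) ?_
    exact Nat.eq_prime_pow_of_unique_prime_dvd Nat.card_pos.ne' fun {d} hd hdd => h2 d hd hdd
  obtain ⟨S, hS⟩ := hN2.exists_le_sylow
  let T : Sylow 2 Cfsg.Spor.J1 := Sylow.ofCard E8 (by
    rw [card_E8, card_J1, show (175560 : ℕ) = 2 ^ 3 * 21945 by norm_num, Nat.factorization_mul (by norm_num) (by norm_num),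
      Finsupp.add_apply, Nat.Prime.factorization_pow Nat.prime_two, Finsupp.single_eq_same,
      Nat.factorization_eq_zero_of_not_dvd (by norm_num)]
    rfl)
  obtain ⟨k, hk⟩ := MulAction.exists_smul_eq Cfsg.Spor.J1 T S
  have hsub : N ≤ E8 := by
    intro n hn
    have : k * n * k⁻¹ ∈ ((k • T : Sylow 2 Cfsg.Spor.J1) : Subgroup Cfsg.Spor.J1) := by
      rw [hk]; exact hS (hN.conj_mem n hn k)
    rw [Sylow.coe_subgroup_smul] at this
    obtain ⟨x, hx, hxe⟩ := this
    have hxe' : k * x * k⁻¹ = k * n * k⁻¹ := hxe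
    rw [mul_left_inj, mul_right_inj] at hxe'
    exact hxe' ▸ hx
  refine hcon.1 ((Subgroup.eq_bot_iff_forall N).2 fun n hn => ?_)
  obtain ⟨i, rfl⟩ := hsub hn
  by_contra hne
  have hi : i ≠ 0 := fun h => hne (by rw [h]; exact j1Word_nil)
  obtain ⟨j, hj⟩ := hsub (hN.conj_mem _ hn (j1Word [1]))
  refine word_ne (ew_conj i j hi) ?_
  rw [j1Word_append, j1Word_append, show j1Word (ew j) = _ from hj, inv_mul_cancel_right]

/-- The subgroup of GL(7, 11) generated by the two explicit Janko matrices is simple of order 175560. -/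
theorem result : ∃ x y : GL (Fin 7) (ZMod 11), (x : Matrix (Fin 7) (Fin 7) (ZMod 11)) = Cfsg.jankoMatrixX ∧ (y : Matrix (Fin 7) (Fin 7) (ZMod 11)) = Cfsg.jankoMatrixY ∧ Cfsg.IsJ1 (Subgroup.closure ({x, y} : Set (GL (Fin 7) (ZMod 11)))) := by
  exact ⟨Cfsg.Spor.jankoX, Cfsg.Spor.jankoY, rfl, rfl, simple_J1, card_J1⟩


end Cfsg.Agent.S0457
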