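import Cfsg.Statements.S0458
import Cfsg.Agent.Lib.J3.Main

set_option autoImplicit false
open Cfsg

namespace Cfsg.Agent.S0458

/-- Janko's third group exists as a transitive permutation group of degree 6156 with point stabiliser of order 8160: a simple group of order 50232960. -/
theorem result : ∃ H : Subgroup (Equiv.Perm (Fin 6156)), Cfsg.IsJ3 H ∧ MulAction.IsPretransitive H (Fin 6156) ∧ Nat.card (MulAction.stabilizer H (0 : Fin 6156)) = 8160 := by
  obtain ⟨F, hfield, hfin, ω, hF, hω⟩ : ∃ (F : Type) (_ : Field F) (_ : Fintype F) (ω : F),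
      Fintype.card F = 4 ∧ ω ^ 2 + ω + 1 = 0 := by
    haveI : Fact (Nat.Prime 2) := ⟨Nat.prime_two⟩
    let F := GaloisField 2 2
    letI : Fintype F := Fintype.ofFinite F
    have hc : Fintype.card F = 4 := by
      rw [← Nat.card_eq_fintype_card, GaloisField.card 2 2 (by norm_num)]
      norm_num
    classical
    obtain ⟨ω, -, hω⟩ := Finset.exists_mem_notMem_of_card_lt_card (s := ({0, 1} : Finset F))
      (t := Finset.univ) (by
        rw [Finset.card_univ, hc]
        exact lt_of_le_of_lt Finset.card_le_two (by norm_num))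
    simp only [Finset.mem_insert, Finset.mem_singleton, not_or] at hω
    refine ⟨F, inferInstance, inferInstance, ω, hc, ?_⟩
    have h3 : ω ^ 3 = 1 := by
      have := FiniteField.pow_card_sub_one_eq_one ω hω.1
      rwa [hc] at this
    have : (ω - 1) * (ω ^ 2 + ω + 1) = 0 := by linear_combination h3
    exact (mul_eq_zero.mp this).resolve_left (sub_ne_zero.mpr hω.2)
  obtain ⟨-, -, -, -, H, hc, hs, ht, -⟩ := Cfsg.Agent.Lib.J3.j3_main hF hω
  refine ⟨H, ⟨hs, hc⟩, ht, ?_⟩
  haveI := ht
  have h := (MulAction.stabilizer H (0 : Fin 6156)).index_mul_card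
  rw [MulAction.index_stabilizer_of_transitive, Nat.card_fin, hc] at h
  omega

end Cfsg.Agent.S0458
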