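import Cfsg.Statements.S0478
import Cfsg.Agent.Lib.J3.Unitary

set_option autoImplicit false
open Cfsg

namespace Cfsg.Agent.S0478

/-- A triple cover of Janko's third group inside a unitary group: for a field F with four elements, the special unitary group of dimension 9 (with respect to the form with q = 2) has a subgroup whose centre has order 3 and whose quotient by its centre is simple of order 50232960. -/
theorem result : ∃ (F : Type) (_ : Field F) (_ : Fintype F), Fintype.card F = 4 ∧ ∃ H : Subgroup (Cfsg.SU 9 F 2), Nat.card (Subgroup.center H) = 3 ∧ Cfsg.IsJ3 (H ⧸ Subgroup.center H) := by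
  obtain ⟨F, hfield, hfin, ω, hF, hω⟩ : ∃ (F : Type) (_ : Field F) (_ : Fintype F) (ω : F),
      Fintype.card F = 4 ∧ ω ^ 2 + ω + 1 = 0 := by
    haveI : Fact (Nat.Prime 2) := ⟨Nat.prime_two⟩
    let F := GaloisField 2 2
    letI : Fintype F := Fintype.ofFinite F
    have hc : Fintype.card F = 4 := by
      rw [← Nat.card_eq_fintype_card, GaloisField.card 2 2 (by norm_num)]
      norm_num
    classical
    obtain ⟨ω, -, hω⟩ := Finset.exists_mem_notMem_of_card_lt_card (s := ({0, 1} : Finset F))
      (t := Finset.univ) (by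
        rw [Finset.card_univ, hc]
        exact lt_of_le_of_lt Finset.card_le_two (by norm_num))
    simp only [Finset.mem_insert, Finset.mem_singleton, not_or] at hω
    refine ⟨F, inferInstance, inferInstance, ω, hc, ?_⟩
    have h3 : ω ^ 3 = 1 := by
      have := FiniteField.pow_card_sub_one_eq_one ω hω.1
      rwa [hc] at this
    have : (ω - 1) * (ω ^ 2 + ω + 1) = 0 := by linear_combination h3
    exact (mul_eq_zero.mp this).resolve_left (sub_ne_zero.mpr hω.2)
  obtain ⟨hZ, -, hJ, hS, -⟩ := Cfsg.Agent.Lib.J3.j3_main hF hω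
  obtain ⟨f, hf⟩ := Cfsg.Agent.Lib.J3.exists_embedding_SU hF hω
  let e := MonoidHom.ofInjective hf
  have hc : (Subgroup.center ↥(Cfsg.Spor.threeJ3 F ω)).map e.toMonoidHom =
      Subgroup.center ↥f.range := by
    ext x
    constructor
    · rintro ⟨y, hy, rfl⟩
      rw [Subgroup.mem_center_iff]
      intro g
      obtain ⟨g', rfl⟩ := e.surjective g
      change e g' * e y = e y * e g'
      rw [← map_mul, ← map_mul, Subgroup.mem_center_iff.mp hy g']
    · intro hx
      obtain ⟨y, rfl⟩ := e.surjective x
      refine ⟨y, Subgroup.mem_center_iff.mpr fun g => e.injective ?_, rfl⟩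
      rw [map_mul, map_mul]
      exact Subgroup.mem_center_iff.mp hx (e g)
  let q := QuotientGroup.congr _ _ e hc
  refine ⟨F, hfield, hfin, hF, f.range, ?_, ?_⟩
  · rw [← hc, Subgroup.card_map_of_injective (f := e.toMonoidHom) e.injective]
    exact hZ
  · haveI := hS
    exact ⟨q.symm.isSimpleGroup, (Nat.card_congr q.toEquiv).symm.trans hJ⟩

end Cfsg.Agent.S0478
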