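import Cfsg.Statements.S0481
import Cfsg.Agent.Lib.SylowCounting.TwoCentral
import Mathlib.Tactic
open Cfsg.Agent.Lib.SylowCounting

set_option autoImplicit false
open Cfsg

namespace Cfsg.Agent.S0481

/-- Large extraspecial subgroups: let z be an involution of a finite group G whose centraliser C contains a normal 2-subgroup Q with centre of order 2 and all squares central, such that every element of G centralising Q lies in Q. Then C contains a Sylow 2-subgroup of G, and any involution of G whose centraliser contains a Sylow 2-subgroup of G is conjugate to z. -/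
theorem result {G : Type*} [Group G] [Finite G] (z : G) (hz : orderOf z = 2) (Q : Subgroup G) (hQC : Q ≤ Subgroup.centralizer ({z} : Set G)) (hQn : ∀ g ∈ Subgroup.centralizer ({z} : Set G), ∀ q ∈ Q, g * q * g⁻¹ ∈ Q) (hQ2 : IsPGroup 2 Q) (hZ : Nat.card (Subgroup.center Q) = 2) (hsq : ∀ x : Q, x ^ 2 ∈ Subgroup.center Q) (hlarge : Subgroup.centralizer (Q : Set G) ≤ Q) : (∃ P : Sylow 2 G, (P : Subgroup G) ≤ Subgroup.centralizer ({z} : Set G)) ∧ ∀ u : G, orderOf u = 2 → (∃ P : Sylow 2 G, (P : Subgroup G) ≤ Subgroup.centralizer ({u} : Set G)) → IsConj z u := by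
  haveI : Fact (Nat.Prime 2) := ⟨Nat.prime_two⟩
  let C := Subgroup.centralizer ({z} : Set G)
  -- the centre of `Q` is `⟨z⟩`
  have hzQ : z ∈ Q := hlarge (by
    rw [Subgroup.mem_centralizer_iff]
    intro q hq
    exact Subgroup.mem_centralizer_singleton_iff.1 (hQC hq))
  have hzc : ∀ x : G, x ∈ Q → (∀ q ∈ Q, q * x = x * q) → x ≠ 1 → x = z := by
    intro x hx hxc hne
    let zc : Subgroup.center Q := ⟨⟨z, hzQ⟩, Subgroup.mem_center_iff.2 fun q =>
      Subtype.ext (Subgroup.mem_centralizer_singleton_iff.1 (hQC q.2))⟩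
    let xc : Subgroup.center Q := ⟨⟨x, hx⟩, Subgroup.mem_center_iff.2 fun q =>
      Subtype.ext (hxc q.1 q.2)⟩
    have hz1 : z ≠ 1 := fun h => by rw [h, orderOf_one] at hz; omega
    obtain ⟨a, -, hu⟩ := (Nat.card_eq_two_iff' (1 : Subgroup.center Q)).1 hZ
    have e1 : xc = a := hu xc (fun h => hne (congrArg (fun y : Subgroup.center Q => ((y : Q) : G)) h))
    have e2 : zc = a := hu zc (fun h => hz1 (congrArg (fun y : Subgroup.center Q => ((y : Q) : G)) h))
    exact congrArg (fun y : Subgroup.center Q => ((y : Q) : G)) (e1.trans e2.symm)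
  -- any Sylow subgroup containing `Q` has centre `⟨z⟩`
  have key : ∀ P : Sylow 2 G, Q ≤ (P : Subgroup G) → (P : Subgroup G) ≤ C ∧
      ∀ v : G, v ≠ 1 → v ∈ (P : Subgroup G) → (∀ x ∈ (P : Subgroup G), x * v = v * x) → v = z := by
    intro P hP
    have h2 : ∀ v : G, v ≠ 1 → v ∈ (P : Subgroup G) → (∀ x ∈ (P : Subgroup G), x * v = v * x) → v = z := by
      intro v hv _ hc
      refine hzc v (hlarge ?_) (fun q hq => hc q (hP hq)) hv
      rw [Subgroup.mem_centralizer_iff]
      intro q hq
      exact hc q (hP hq)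
    refine ⟨?_, h2⟩
    have : Nontrivial (P : Subgroup G) :=
      ⟨⟨⟨z, hP hzQ⟩, 1, fun h => by
        have : z = 1 := congrArg Subtype.val h
        rw [this, orderOf_one] at hz; omega⟩⟩
    haveI := IsPGroup.center_nontrivial P.isPGroup'
    obtain ⟨v, hv⟩ := exists_ne (1 : Subgroup.center (P : Subgroup G))
    have hvz : ((v : (P : Subgroup G)) : G) = z := by
      refine h2 _ (fun h => hv (Subtype.ext (Subtype.ext h))) v.1.2 (fun x hx => ?_)
      exact congrArg Subtype.val (Subgroup.mem_center_iff.1 v.2 ⟨x, hx⟩)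
    intro x hx
    rw [Subgroup.mem_centralizer_singleton_iff, ← hvz]
    exact congrArg Subtype.val (Subgroup.mem_center_iff.1 v.2 ⟨x, hx⟩)
  obtain ⟨P, hP⟩ := hQ2.exists_le_sylow
  refine ⟨⟨P, (key P hP).1⟩, ?_⟩
  rintro u hu ⟨S, hS⟩
  obtain ⟨g, rfl⟩ := MulAction.exists_smul_eq G P S
  have hu' : u ∈ ((g • P : Sylow 2 G) : Subgroup G) := mem_of_le_centralizer u hu _ hS
  have hmem : g⁻¹ * u * g ∈ (P : Subgroup G) := by
    rw [Sylow.coe_subgroup_smul, Subgroup.mem_pointwise_smul_iff_inv_smul_mem] at hu'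
    simpa using hu'
  have e := (key P hP).2 (g⁻¹ * u * g) (fun h => by
      have : u = 1 := by
        calc u = g * (g⁻¹ * u * g) * g⁻¹ := by group
          _ = 1 := by rw [h]; group
      rw [this, orderOf_one] at hu; omega) hmem (by
    intro x hx
    have hx' : g * x * g⁻¹ ∈ ((g • P : Sylow 2 G) : Subgroup G) := by
      rw [Sylow.coe_subgroup_smul]
      exact Subgroup.smul_mem_pointwise_smul x (MulAut.conj g) _ hx
    have h1 := Subgroup.mem_centralizer_singleton_iff.1 (hS hx')
    calc x * (g⁻¹ * u * g) = g⁻¹ * ((g * x * g⁻¹) * u) * g := by group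
      _ = g⁻¹ * (u * (g * x * g⁻¹)) * g := by rw [h1]
      _ = (g⁻¹ * u * g) * x := by group)
  rw [← e, isConj_iff]
  exact ⟨g, by group⟩

end Cfsg.Agent.S0481
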