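import Cfsg.Statements.S0493
import Cfsg.Agent.Lib.SylowCounting.FourPrimes
import Cfsg.Agent.Lib.Characters.Burnside
import Mathlib.Tactic.IntervalCases
import Mathlib.Tactic.NormNum.Prime

set_option autoImplicit false
open Cfsg

namespace Cfsg.Agent.S0493

theorem small_orders (n : ℕ) (h2 : 2 ≤ n) (h : n ≤ 100) :
    n = 60 ∨ n = 84 ∨ (n % 4 = 2 ∧ n ≠ 2) ∨
      ∃ p q a b : ℕ, p.Prime ∧ q.Prime ∧ n = p ^ a * q ^ b := by
  interval_cases n
  · exact Or.inr (Or.inr (Or.inr ⟨2, 2, 1, 0, by norm_num, by norm_num, by norm_num⟩))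
  · exact Or.inr (Or.inr (Or.inr ⟨3, 3, 1, 0, by norm_num, by norm_num, by norm_num⟩))
  · exact Or.inr (Or.inr (Or.inr ⟨2, 2, 2, 0, by norm_num, by norm_num, by norm_num⟩))
  · exact Or.inr (Or.inr (Or.inr ⟨5, 5, 1, 0, by norm_num, by norm_num, by norm_num⟩))
  · exact Or.inr (Or.inr (Or.inr ⟨2, 3, 1, 1, by norm_num, by norm_num, by norm_num⟩))
  · exact Or.inr (Or.inr (Or.inr ⟨7, 7, 1, 0, by norm_num, by norm_num, by norm_num⟩))
  · exact Or.inr (Or.inr (Or.inr ⟨2, 2, 3, 0, by norm_num, by norm_num, by norm_num⟩))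
  · exact Or.inr (Or.inr (Or.inr ⟨3, 3, 2, 0, by norm_num, by norm_num, by norm_num⟩))
  · exact Or.inr (Or.inr (Or.inr ⟨2, 5, 1, 1, by norm_num, by norm_num, by norm_num⟩))
  · exact Or.inr (Or.inr (Or.inr ⟨11, 11, 1, 0, by norm_num, by norm_num, by norm_num⟩))
  · exact Or.inr (Or.inr (Or.inr ⟨2, 3, 2, 1, by norm_num, by norm_num, by norm_num⟩))
  · exact Or.inr (Or.inr (Or.inr ⟨13, 13, 1, 0, by norm_num, by norm_num, by norm_num⟩))
  · exact Or.inr (Or.inr (Or.inr ⟨2, 7, 1, 1, by norm_num, by norm_num, by norm_num⟩))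
  · exact Or.inr (Or.inr (Or.inr ⟨3, 5, 1, 1, by norm_num, by norm_num, by norm_num⟩))
  · exact Or.inr (Or.inr (Or.inr ⟨2, 2, 4, 0, by norm_num, by norm_num, by norm_num⟩))
  · exact Or.inr (Or.inr (Or.inr ⟨17, 17, 1, 0, by norm_num, by norm_num, by norm_num⟩))
  · exact Or.inr (Or.inr (Or.inr ⟨2, 3, 1, 2, by norm_num, by norm_num, by norm_num⟩))
  · exact Or.inr (Or.inr (Or.inr ⟨19, 19, 1, 0, by norm_num, by norm_num, by norm_num⟩))
  · exact Or.inr (Or.inr (Or.inr ⟨2, 5, 2, 1, by norm_num, by norm_num, by norm_num⟩))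
  · exact Or.inr (Or.inr (Or.inr ⟨3, 7, 1, 1, by norm_num, by norm_num, by norm_num⟩))
  · exact Or.inr (Or.inr (Or.inr ⟨2, 11, 1, 1, by norm_num, by norm_num, by norm_num⟩))
  · exact Or.inr (Or.inr (Or.inr ⟨23, 23, 1, 0, by norm_num, by norm_num, by norm_num⟩))
  · exact Or.inr (Or.inr (Or.inr ⟨2, 3, 3, 1, by norm_num, by norm_num, by norm_num⟩))
  · exact Or.inr (Or.inr (Or.inr ⟨5, 5, 2, 0, by norm_num, by norm_num, by norm_num⟩))
  · exact Or.inr (Or.inr (Or.inr ⟨2, 13, 1, 1, by norm_num, by norm_num, by norm_num⟩))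
  · exact Or.inr (Or.inr (Or.inr ⟨3, 3, 3, 0, by norm_num, by norm_num, by norm_num⟩))
  · exact Or.inr (Or.inr (Or.inr ⟨2, 7, 2, 1, by norm_num, by norm_num, by norm_num⟩))
  · exact Or.inr (Or.inr (Or.inr ⟨29, 29, 1, 0, by norm_num, by norm_num, by norm_num⟩))
  · exact Or.inr (Or.inr (Or.inl (by norm_num)))
  · exact Or.inr (Or.inr (Or.inr ⟨31, 31, 1, 0, by norm_num, by norm_num, by norm_num⟩))
  · exact Or.inr (Or.inr (Or.inr ⟨2, 2, 5, 0, by norm_num, by norm_num, by norm_num⟩))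
  · exact Or.inr (Or.inr (Or.inr ⟨3, 11, 1, 1, by norm_num, by norm_num, by norm_num⟩))
  · exact Or.inr (Or.inr (Or.inr ⟨2, 17, 1, 1, by norm_num, by norm_num, by norm_num⟩))
  · exact Or.inr (Or.inr (Or.inr ⟨5, 7, 1, 1, by norm_num, by norm_num, by norm_num⟩))
  · exact Or.inr (Or.inr (Or.inr ⟨2, 3, 2, 2, by norm_num, by norm_num, by norm_num⟩))
  · exact Or.inr (Or.inr (Or.inr ⟨37, 37, 1, 0, by norm_num, by norm_num, by norm_num⟩))
  · exact Or.inr (Or.inr (Or.inr ⟨2, 19, 1, 1, by norm_num, by norm_num, by norm_num⟩))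
  · exact Or.inr (Or.inr (Or.inr ⟨3, 13, 1, 1, by norm_num, by norm_num, by norm_num⟩))
  · exact Or.inr (Or.inr (Or.inr ⟨2, 5, 3, 1, by norm_num, by norm_num, by norm_num⟩))
  · exact Or.inr (Or.inr (Or.inr ⟨41, 41, 1, 0, by norm_num, by norm_num, by norm_num⟩))
  · exact Or.inr (Or.inr (Or.inl (by norm_num)))
  · exact Or.inr (Or.inr (Or.inr ⟨43, 43, 1, 0, by norm_num, by norm_num, by norm_num⟩))
  · exact Or.inr (Or.inr (Or.inr ⟨2, 11, 2, 1, by norm_num, by norm_num, by norm_num⟩))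
  · exact Or.inr (Or.inr (Or.inr ⟨3, 5, 2, 1, by norm_num, by norm_num, by norm_num⟩))
  · exact Or.inr (Or.inr (Or.inr ⟨2, 23, 1, 1, by norm_num, by norm_num, by norm_num⟩))
  · exact Or.inr (Or.inr (Or.inr ⟨47, 47, 1, 0, by norm_num, by norm_num, by norm_num⟩))
  · exact Or.inr (Or.inr (Or.inr ⟨2, 3, 4, 1, by norm_num, by norm_num, by norm_num⟩))
  · exact Or.inr (Or.inr (Or.inr ⟨7, 7, 2, 0, by norm_num, by norm_num, by norm_num⟩))
  · exact Or.inr (Or.inr (Or.inr ⟨2, 5, 1, 2, by norm_num, by norm_num, by norm_num⟩))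
  · exact Or.inr (Or.inr (Or.inr ⟨3, 17, 1, 1, by norm_num, by norm_num, by norm_num⟩))
  · exact Or.inr (Or.inr (Or.inr ⟨2, 13, 2, 1, by norm_num, by norm_num, by norm_num⟩))
  · exact Or.inr (Or.inr (Or.inr ⟨53, 53, 1, 0, by norm_num, by norm_num, by norm_num⟩))
  · exact Or.inr (Or.inr (Or.inr ⟨2, 3, 1, 3, by norm_num, by norm_num, by norm_num⟩))
  · exact Or.inr (Or.inr (Or.inr ⟨5, 11, 1, 1, by norm_num, by norm_num, by norm_num⟩))
  · exact Or.inr (Or.inr (Or.inr ⟨2, 7, 3, 1, by norm_num, by norm_num, by norm_num⟩))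
  · exact Or.inr (Or.inr (Or.inr ⟨3, 19, 1, 1, by norm_num, by norm_num, by norm_num⟩))
  · exact Or.inr (Or.inr (Or.inr ⟨2, 29, 1, 1, by norm_num, by norm_num, by norm_num⟩))
  · exact Or.inr (Or.inr (Or.inr ⟨59, 59, 1, 0, by norm_num, by norm_num, by norm_num⟩))
  · exact Or.inl rfl
  · exact Or.inr (Or.inr (Or.inr ⟨61, 61, 1, 0, by norm_num, by norm_num, by norm_num⟩))
  · exact Or.inr (Or.inr (Or.inr ⟨2, 31, 1, 1, by norm_num, by norm_num, by norm_num⟩))
  · exact Or.inr (Or.inr (Or.inr ⟨3, 7, 2, 1, by norm_num, by norm_num, by norm_num⟩))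
  · exact Or.inr (Or.inr (Or.inr ⟨2, 2, 6, 0, by norm_num, by norm_num, by norm_num⟩))
  · exact Or.inr (Or.inr (Or.inr ⟨5, 13, 1, 1, by norm_num, by norm_num, by norm_num⟩))
  · exact Or.inr (Or.inr (Or.inl (by norm_num)))
  · exact Or.inr (Or.inr (Or.inr ⟨67, 67, 1, 0, by norm_num, by norm_num, by norm_num⟩))
  · exact Or.inr (Or.inr (Or.inr ⟨2, 17, 2, 1, by norm_num, by norm_num, by norm_num⟩))
  · exact Or.inr (Or.inr (Or.inr ⟨3, 23, 1, 1, by norm_num, by norm_num, by norm_num⟩))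
  · exact Or.inr (Or.inr (Or.inl (by norm_num)))
  · exact Or.inr (Or.inr (Or.inr ⟨71, 71, 1, 0, by norm_num, by norm_num, by norm_num⟩))
  · exact Or.inr (Or.inr (Or.inr ⟨2, 3, 3, 2, by norm_num, by norm_num, by norm_num⟩))
  · exact Or.inr (Or.inr (Or.inr ⟨73, 73, 1, 0, by norm_num, by norm_num, by norm_num⟩))
  · exact Or.inr (Or.inr (Or.inr ⟨2, 37, 1, 1, by norm_num, by norm_num, by norm_num⟩))
  · exact Or.inr (Or.inr (Or.inr ⟨3, 5, 1, 2, by norm_num, by norm_num, by norm_num⟩))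
  · exact Or.inr (Or.inr (Or.inr ⟨2, 19, 2, 1, by norm_num, by norm_num, by norm_num⟩))
  · exact Or.inr (Or.inr (Or.inr ⟨7, 11, 1, 1, by norm_num, by norm_num, by norm_num⟩))
  · exact Or.inr (Or.inr (Or.inl (by norm_num)))
  · exact Or.inr (Or.inr (Or.inr ⟨79, 79, 1, 0, by norm_num, by norm_num, by norm_num⟩))
  · exact Or.inr (Or.inr (Or.inr ⟨2, 5, 4, 1, by norm_num, by norm_num, by norm_num⟩))
  · exact Or.inr (Or.inr (Or.inr ⟨3, 3, 4, 0, by norm_num, by norm_num, by norm_num⟩))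
  · exact Or.inr (Or.inr (Or.inr ⟨2, 41, 1, 1, by norm_num, by norm_num, by norm_num⟩))
  · exact Or.inr (Or.inr (Or.inr ⟨83, 83, 1, 0, by norm_num, by norm_num, by norm_num⟩))
  · exact Or.inr (Or.inl rfl)
  · exact Or.inr (Or.inr (Or.inr ⟨5, 17, 1, 1, by norm_num, by norm_num, by norm_num⟩))
  · exact Or.inr (Or.inr (Or.inr ⟨2, 43, 1, 1, by norm_num, by norm_num, by norm_num⟩))
  · exact Or.inr (Or.inr (Or.inr ⟨3, 29, 1, 1, by norm_num, by norm_num, by norm_num⟩))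
  · exact Or.inr (Or.inr (Or.inr ⟨2, 11, 3, 1, by norm_num, by norm_num, by norm_num⟩))
  · exact Or.inr (Or.inr (Or.inr ⟨89, 89, 1, 0, by norm_num, by norm_num, by norm_num⟩))
  · exact Or.inr (Or.inr (Or.inl (by norm_num)))
  · exact Or.inr (Or.inr (Or.inr ⟨7, 13, 1, 1, by norm_num, by norm_num, by norm_num⟩))
  · exact Or.inr (Or.inr (Or.inr ⟨2, 23, 2, 1, by norm_num, by norm_num, by norm_num⟩))
  · exact Or.inr (Or.inr (Or.inr ⟨3, 31, 1, 1, by norm_num, by norm_num, by norm_num⟩))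
  · exact Or.inr (Or.inr (Or.inr ⟨2, 47, 1, 1, by norm_num, by norm_num, by norm_num⟩))
  · exact Or.inr (Or.inr (Or.inr ⟨5, 19, 1, 1, by norm_num, by norm_num, by norm_num⟩))
  · exact Or.inr (Or.inr (Or.inr ⟨2, 3, 5, 1, by norm_num, by norm_num, by norm_num⟩))
  · exact Or.inr (Or.inr (Or.inr ⟨97, 97, 1, 0, by norm_num, by norm_num, by norm_num⟩))
  · exact Or.inr (Or.inr (Or.inr ⟨2, 7, 1, 2, by norm_num, by norm_num, by norm_num⟩))
  · exact Or.inr (Or.inr (Or.inr ⟨3, 11, 2, 1, by norm_num, by norm_num, by norm_num⟩))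
  · exact Or.inr (Or.inr (Or.inr ⟨2, 5, 2, 2, by norm_num, by norm_num, by norm_num⟩))

theorem isCyclic_of_solvable_simple {G : Type*} [Group G] [Finite G] [IsSimpleGroup G]
    (h : Group.IsSolvable G) : IsCyclic G := by
  haveI : IsMulCommutative G := ⟨⟨(IsSimpleGroup.comm_iff_isSolvable).mpr h⟩⟩
  letI : CommGroup G := { (inferInstance : Group G) with mul_comm := mul_comm' }
  infer_instance

/-- A finite simple group of order at most 100 that is not cyclic has order 60. -/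
theorem result {G : Type*} [Group G] [Finite G] [IsSimpleGroup G]
    (hG : ¬ IsCyclic G) (h : Nat.card G ≤ 100) : Nat.card G = 60 := by
  have h2 : 2 ≤ Nat.card G := Finite.one_lt_card
  have hnc : ¬ IsMulCommutative G := fun hc => hG (isCyclic_of_solvable_simple (Group.isSolvable_of_comm fun a b => hc.is_comm.comm a b))
  rcases small_orders _ h2 h with h60 | h84 | ⟨h4, hne⟩ | ⟨p, q, a, b, hp, hq, hn⟩
  · exact h60
  · exact absurd (Cfsg.Agent.Lib.SylowCounting.card_eq_sixty (G := G) (p := 2) (q := 3) (r := 7)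
      Nat.prime_two Nat.prime_three (by norm_num) (by rw [h84]; norm_num)) (by omega)
  · refine (Cfsg.Agent.Lib.SylowCounting.not_simple_smallest_prime_exp_one (G := G) Nat.prime_two hnc
      (m := Nat.card G / 2) (by omega) fun q hq hd => ?_).elim
    refine lt_of_le_of_ne hq.two_le fun e => ?_
    subst e
    omega
  · exact absurd (isCyclic_of_solvable_simple
      (Cfsg.Agent.Lib.Characters.isSolvable_of_card_eq_pow_mul_pow hp hq hn)) hG

end Cfsg.Agent.S0493
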