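import Cfsg.Statements.S0498
import Cfsg.Agent.Lib.Classification.PSLRecognition
import Cfsg.Agent.Lib.Classical.LinearCard
import Cfsg.Agent.Lib.Classical.LinearSimple

set_option autoImplicit false
open Cfsg

namespace Cfsg.Agent.S0498

open Cfsg.Agent.Lib.Classification

private theorem psl2_data {F : Type*} [Field F] [Fintype F] {p : ℕ} (hF : Fintype.card F = p)
    (hp : Odd p) (h4 : 4 ≤ p) :
    IsSimpleGroup (Matrix.ProjectiveSpecialLinearGroup (Fin 2) F) ∧
      2 * Nat.card (Matrix.ProjectiveSpecialLinearGroup (Fin 2) F) = p * (p ^ 2 - 1) := by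
  refine ⟨Cfsg.Agent.Lib.Classical.isSimpleGroup_PSL_fin le_rfl fun _ => by
    rw [Nat.card_eq_fintype_card, hF]; exact h4, ?_⟩
  have h := Cfsg.Agent.Lib.Classical.card_PSL2_mul (F := F)
  rw [hF] at h
  obtain ⟨k, rfl⟩ := hp
  rw [show 2 * k + 1 - 1 = 2 * k by omega, Nat.gcd_eq_left (dvd_mul_right 2 k)] at h
  exact h

set_option maxRecDepth 100000 in
private theorem uniq_eleven : ∀ k ∈ List.range 5, (4 : ZMod 11) ^ (k * k) = 4 →
    ∀ a ∈ [(1 : ZMod 11), 2], ∀ b : ZMod 11,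
      goodT 5 k a b 6 = true → k = 4 ∧ a = 2 ∧ b = 1 := by
  decide +kernel

set_option maxRecDepth 100000 in
private theorem uniq_thirteen : ∀ k ∈ List.range 6, (4 : ZMod 13) ^ (k * k) = 4 →
    ∀ a ∈ [(1 : ZMod 13), 2], ∀ b : ZMod 13,
      goodT 6 k a b 7 = true → k = 5 ∧ a = 1 ∧ b = 7 := by
  decide +kernel

private theorem data_eleven : (4 : ZMod 11) ^ 5 = 1 ∧ (2 : ZMod 11) * 6 = 1 ∧
    (∀ i : ZMod 11, i ^ 5 = 1 → ∃ j < 5, i = 4 ^ j) ∧
    ∀ i : ZMod 11, i ≠ 0 → i ^ 5 = 1 ∨ (i * 6) ^ 5 = 1 := by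
  decide +kernel

private theorem data_thirteen : (4 : ZMod 13) ^ 6 = 1 ∧ (2 : ZMod 13) * 7 = 1 ∧
    (∀ i : ZMod 13, i ^ 6 = 1 → ∃ j < 6, i = 4 ^ j) ∧
    ∀ i : ZMod 13, i ≠ 0 → i ^ 6 = 1 ∨ (i * 7) ^ 6 = 1 := by
  decide +kernel

/-- A simple group of order 660, respectively 1092, is isomorphic to the projective special linear group of dimension 2
over the field with 11, respectively 13, elements. -/
theorem result {G : Type*} [Group G] [Finite G] [IsSimpleGroup G] (p : ℕ)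
    (hp : p = 11 ∨ p = 13) (h : 2 * Nat.card G = p * (p ^ 2 - 1)) {F : Type*} [Field F] [Fintype F]
    (hF : Fintype.card F = p) : Nonempty (G ≃* Matrix.ProjectiveSpecialLinearGroup (Fin 2) F) := by
  rcases hp with rfl | rfl
  · haveI : Fact (Nat.Prime 11) := ⟨by norm_num⟩
    obtain ⟨hS, hc⟩ := psl2_data hF (by decide) (by norm_num)
    haveI := hS
    have e1 : Nat.card G = 11 * ((11 + 1) * 5) := by omega
    have e2 : Nat.card (Matrix.ProjectiveSpecialLinearGroup (Fin 2) F) = 11 * ((11 + 1) * 5) := by omega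
    exact mulEquiv_of_goodT (m := 5) e1 e2 (by norm_num) (card_sylow_eq_succ e1 (by norm_num) (by decide))
      (card_sylow_eq_succ e2 (by norm_num) (by decide)) (4 : ZMod 11) 2 6 data_eleven.1
      data_eleven.2.1 data_eleven.2.2.1 data_eleven.2.2.2 (fun _ => True) (fun _ _ _ _ _ _ _ _ _ => trivial)
      (fun _ _ _ _ _ _ _ _ _ => trivial) 4 2 1
      fun k hk hkk _ a b ha hg => uniq_eleven k (List.mem_range.mpr hk) hkk a (by simpa using ha) b hg
  · haveI : Fact (Nat.Prime 13) := ⟨by norm_num⟩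
    obtain ⟨hS, hc⟩ := psl2_data hF (by decide) (by norm_num)
    haveI := hS
    have e1 : Nat.card G = 13 * ((13 + 1) * 6) := by omega
    have e2 : Nat.card (Matrix.ProjectiveSpecialLinearGroup (Fin 2) F) = 13 * ((13 + 1) * 6) := by omega
    exact mulEquiv_of_goodT (m := 6) e1 e2 (by norm_num) (card_sylow_eq_succ e1 (by norm_num) (by decide))
      (card_sylow_eq_succ e2 (by norm_num) (by decide)) (4 : ZMod 13) 2 7 data_thirteen.1
      data_thirteen.2.1 data_thirteen.2.2.1 data_thirteen.2.2.2 (fun _ => True) (fun _ _ _ _ _ _ _ _ _ => trivial)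
      (fun _ _ _ _ _ _ _ _ _ => trivial) 5 1 7
      fun k hk hkk _ a b ha hg => uniq_thirteen k (List.mem_range.mpr hk) hkk a (by simpa using ha) b hg

end Cfsg.Agent.S0498
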