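import Cfsg.Statements.S0499
import Cfsg.Agent.Lib.Transfer.Frobenius
import Cfsg.Agent.Lib.Transfer.AbelianSylow
import Mathlib.GroupTheory.Perm.Cycle.Type

set_option autoImplicit false
open Cfsg

namespace Cfsg.Agent.S0499

/-- An automorphism of prime order of a small 2-group. -/
theorem prime_of_aut {D : Type*} [Group D] [Finite D] {n : ℕ} (hn : n ≤ 3) (hD : Nat.card D = 2 ^ n)
    {q : ℕ} (hq : q.Prime) (hq2 : q ≠ 2) {σ : MulAut D} (hσ : orderOf σ = q) :
    (q = 3 ∧ 2 ≤ n) ∨ (q = 7 ∧ n = 3) := by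
  classical
  haveI : Fact q.Prime := ⟨hq⟩
  letI : Fintype D := Fintype.ofFinite D
  let f : D →* D := σ.toMonoidHom
  let C := MonoidHom.eqLocus f (MonoidHom.id D)
  have hpow : (MulAut.toPerm D σ) ^ q ^ 1 = 1 := by
    rw [pow_one, ← map_pow, ← hσ, pow_orderOf_eq_one, map_one]
  have h := Equiv.Perm.card_compl_support_modEq (σ := MulAut.toPerm D σ) hpow
  have hc : (MulAut.toPerm D σ).supportᶜ.card = Nat.card C := by
    rw [Nat.card_eq_fintype_card, ← Fintype.card_coe]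
    refine Fintype.card_congr (Equiv.subtypeEquivRight fun x => ?_)
    rw [Finset.mem_compl, Equiv.Perm.notMem_support]
    rfl
  rw [hc, ← Nat.card_eq_fintype_card, hD] at h
  have hlt : Nat.card C < 2 ^ n := by
    rw [← hD]
    refine lt_of_le_of_ne (Subgroup.card_le_card_group C) fun e => hq.one_lt.ne' ?_
    have hall : C = ⊤ := (Subgroup.card_eq_iff_eq_top C).mp e
    have : σ = 1 := MulEquiv.ext fun x => (hall ▸ Subgroup.mem_top x : x ∈ C)
    rw [← hσ, this, orderOf_one]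
  obtain ⟨i, hi, hCi⟩ := (Nat.dvd_prime_pow Nat.prime_two).mp (hD ▸ Subgroup.card_subgroup_dvd_card C)
  rw [hCi] at h hlt
  have hdvd : q ∣ 2 ^ n - 2 ^ i := (Nat.modEq_iff_dvd' hlt.le).mp h
  have hqle : q ≤ 8 := by
    have := Nat.le_of_dvd (by omega) hdvd
    have : 2 ^ n ≤ 2 ^ 3 := Nat.pow_le_pow_right (by norm_num) hn
    omega
  have hin : i < n := (Nat.pow_lt_pow_iff_right (by norm_num)).mp hlt
  interval_cases n <;> interval_cases i <;> interval_cases q <;> norm_num at *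

theorem small_sylow {G : Type*} [Group G] [Finite G] [IsSimpleGroup G]
    (hG : ¬ IsMulCommutative G) (h2 : Even (Nat.card G)) (P : Sylow 2 G) {n : ℕ} (hn : n ≤ 3)
    (hP : Nat.card (P : Subgroup G) = 2 ^ n) : (2 ≤ n ∧ 3 ∣ Nat.card G) ∨ (n = 3 ∧ 7 ∣ Nat.card G) := by
  haveI : Fact (Nat.Prime 2) := ⟨Nat.prime_two⟩
  by_contra hcon
  apply hG
  have hnpc : Cfsg.HasNormalPComplement 2 G := by
    refine Cfsg.Agent.Lib.Transfer.hasNormalPComplement_of_frobenius P fun Q hQ g hg hgo => ?_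
    by_contra hgc
    let ψ : Subgroup.normalizer (Q : Set G) →* MulAut Q := Subgroup.normalizerMonoidHom Q
    have hne : ψ ⟨g, hg⟩ ≠ 1 := by
      intro e
      apply hgc
      rw [Subgroup.mem_centralizer_iff]
      intro x hx
      have h0 : ψ ⟨g, hg⟩ ⟨x, hx⟩ = (1 : MulAut Q) ⟨x, hx⟩ := DFunLike.congr_fun e ⟨x, hx⟩
      have h' : g * x * g⁻¹ = x := congrArg Subtype.val h0
      calc x * g = g * x * g⁻¹ * g := by rw [h']
        _ = g * x := by group
    have hdvd : orderOf (ψ ⟨g, hg⟩) ∣ orderOf g := by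
      refine (orderOf_map_dvd ψ _).trans ?_
      rw [Subgroup.orderOf_mk]
    obtain ⟨q, hq, hqd⟩ := Nat.exists_prime_and_dvd (mt orderOf_eq_one_iff.mp hne)
    have hq2 : q ≠ 2 := by
      rintro rfl
      have := Nat.Coprime.coprime_dvd_left (hqd.trans hdvd) hgo
      norm_num at this
    obtain ⟨m, hm⟩ := (P.2.to_le hQ).exists_card_eq
    have hmn : m ≤ n := (Nat.pow_le_pow_iff_right (by norm_num : 1 < 2)).mp
      (hm ▸ hP ▸ Subgroup.card_le_of_le hQ)
    have hσ : orderOf ((ψ ⟨g, hg⟩) ^ (orderOf (ψ ⟨g, hg⟩) / q)) = q :=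
      orderOf_pow_orderOf_div (orderOf_pos _).ne' hqd
    have hqG : q ∣ Nat.card G := (hqd.trans hdvd).trans (orderOf_dvd_natCard g)
    rcases prime_of_aut (hmn.trans hn) hm hq hq2 hσ with ⟨rfl, h2m⟩ | ⟨rfl, h3⟩
    · exact hcon (Or.inl ⟨h2m.trans hmn, hqG⟩)
    · exact hcon (Or.inr ⟨by omega, hqG⟩)
  have hp := Cfsg.Agent.Lib.Transfer.isPGroup_of_simple hnpc h2.two_dvd
  haveI := hp.center_nontrivial
  have hc : Subgroup.center G = ⊤ :=
    (IsSimpleGroup.eq_bot_or_eq_top_of_normal _ inferInstance).resolve_left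
      (fun e => (Subgroup.nontrivial_iff_ne_bot _).mp inferInstance e)
  exact ⟨⟨fun a b => Subgroup.mem_center_iff.mp (hc ▸ Subgroup.mem_top b) a⟩⟩

/-- A non-abelian finite simple group of even order has order divisible by 12, 16 or 56. -/
theorem result {G : Type*} [Group G] [Finite G] [IsSimpleGroup G]
    (hG : ¬ IsMulCommutative G) (h2 : Even (Nat.card G)) :
    12 ∣ Nat.card G ∨ 16 ∣ Nat.card G ∨ 56 ∣ Nat.card G := by
  haveI : Fact (Nat.Prime 2) := ⟨Nat.prime_two⟩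
  obtain ⟨P⟩ : Nonempty (Sylow 2 G) := inferInstance
  obtain ⟨n, hn⟩ := P.2.exists_card_eq
  have hdvd : 2 ^ n ∣ Nat.card G := hn ▸ Subgroup.card_subgroup_dvd_card (P : Subgroup G)
  by_cases h4 : 4 ≤ n
  · exact Or.inr (Or.inl ((pow_dvd_pow 2 h4).trans hdvd))
  rcases small_sylow hG h2 P (by omega) hn with ⟨h2n, h3⟩ | ⟨rfl, h7⟩
  · have := Nat.Coprime.mul_dvd_of_dvd_of_dvd (by norm_num : Nat.Coprime 4 3)
      ((pow_dvd_pow 2 h2n).trans hdvd) h3
    exact Or.inl this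
  · exact Or.inr (Or.inr (Nat.Coprime.mul_dvd_of_dvd_of_dvd (by norm_num : Nat.Coprime 8 7) hdvd h7))

end Cfsg.Agent.S0499
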