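import Cfsg.Statements.S0501
import Cfsg.Agent.Lib.SectionalFour.Small

set_option autoImplicit false
open Cfsg

namespace Cfsg.Agent.S0501

/-- A finite 2-group in which every normal elementary abelian subgroup has order at most 4 has sectional rank at most
4: every quotient of every subgroup has no elementary abelian subgroup of order exceeding 16. -/
theorem result {P : Type*} [Group P] [Finite P] (hP : IsPGroup 2 P)
    (h : ∀ A : Subgroup P, A.Normal → IsMulCommutative A → (∀ a ∈ A, a ^ 2 = 1) → Nat.card A ≤ 4) :
    Cfsg.SectionalPRankLE 2 4 P := by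
  intro H N _ A _ hA2
  by_contra hlt
  push Not at hlt
  obtain ⟨k, hk⟩ := IsPGroup.iff_card.1 (((hP.to_subgroup H).to_quotient N).to_subgroup A)
  have h32 : 32 ≤ Nat.card A := by
    rw [hk] at hlt ⊢
    have h5 : 5 ≤ k := by
      by_contra hc
      have := Nat.pow_le_pow_right (n := 2) (by norm_num) (show k ≤ 4 by omega)
      omega
    exact le_trans (by norm_num) (Nat.pow_le_pow_right (n := 2) (by norm_num) h5)
  let H' : Subgroup H := A.comap (QuotientGroup.mk' N)
  let ψ : H' →* A := (QuotientGroup.mk' N).subgroupComap A
  have hψ : Function.Surjective ψ :=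
    MonoidHom.subgroupComap_surjective_of_surjective _ A (QuotientGroup.mk'_surjective N)
  let e := H'.equivMapOfInjective H.subtype H.subtype_injective
  exact Cfsg.Agent.Lib.SectionalFour.no_section hP h (H'.map H.subtype) (ψ.comp e.symm.toMonoidHom)
    (hψ.comp e.symm.surjective) (fun w => Subtype.ext (hA2 w.1 w.2)) h32

end Cfsg.Agent.S0501
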