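import Cfsg.Statements.S0502
import Cfsg.Agent.Lib.Classification.ElemAbTwo

set_option autoImplicit false
open Cfsg

namespace Cfsg.Agent.S0502

open Cfsg.Agent.Lib.Classification

theorem exists_four_connected_in {P : Type*} [Group P] [Finite P]
    (E : Subgroup P) [E.Normal] (hE2 : ∀ e ∈ E, e ^ 2 = 1) (hE8 : 8 ≤ Nat.card E)
    (U : Subgroup P) (hU : IsKleinFour U) :
    ∃ W : Subgroup P, W ≤ E ∧ IsKleinFour W ∧
      Relation.ReflTransGen
        (fun A B : Subgroup P => IsKleinFour A ∧ IsKleinFour B ∧ ∀ a ∈ A, ∀ b ∈ B, a * b = b * a) U W ∧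
      Relation.ReflTransGen
        (fun A B : Subgroup P => IsKleinFour A ∧ IsKleinFour B ∧ ∀ a ∈ A, ∀ b ∈ B, a * b = b * a) W U := by
  by_cases hUE : U ≤ E
  · exact ⟨U, hUE, hU, .refl, .refl⟩
  obtain ⟨t, htU, htE⟩ := SetLike.not_le_iff_exists.mp hUE
  obtain ⟨hU4, hU2⟩ := isKleinFour_subgroup_iff.mp hU
  have hcU := commute_of_sq_eq_one hU2
  have hN : ∀ g : P, ∀ a ∈ E, g * a * g⁻¹ ∈ E := fun g a ha => Subgroup.Normal.conj_mem ‹_› a ha g
  -- the second generator of `U`
  obtain ⟨u, huU, hut⟩ : ∃ u ∈ U, u ∉ ({1, t} : Set P) := by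
    by_contra hcon
    push Not at hcon
    have h := Set.ncard_le_ncard (show (U : Set P) ⊆ {1, t} from hcon) (Set.toFinite _)
    rw [← Nat.card_coe_set_eq] at h
    have h' := Set.ncard_insert_le (1 : P) {t}
    rw [Set.ncard_singleton] at h'
    have : Nat.card (U : Set P) = 4 := hU4
    omega
  have hu1 : u ≠ 1 := fun e => hut (Or.inl e)
  have hu : u ≠ t := fun e => hut (Or.inr e)
  have hE1 : E ≠ ⊥ := by
    rintro rfl
    rw [Subgroup.card_bot] at hE8
    omega
  obtain ⟨e, heE, he1, hte, hue⟩ :=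
    exists_common_fixed hE2 (hU2 t htU) (hU2 u huU) (hcU t htU u huU) (hN t) (hN u) hE1
  -- the four group `⟨t, e⟩`
  let Z : Subgroup P := Subgroup.zpowers t
  have hZ2 : ∀ z ∈ Z, z ^ 2 = 1 := by
    intro z hz
    obtain ⟨k, rfl⟩ := Subgroup.mem_zpowers_iff.mp hz
    rw [← zpow_natCast, ← zpow_mul, mul_comm, zpow_mul, zpow_natCast, hU2 t htU, one_zpow]
  have hcZ : ∀ z ∈ Z, e * z = z * e := by
    intro z hz
    obtain ⟨k, rfl⟩ := Subgroup.mem_zpowers_iff.mp hz
    exact (Commute.zpow_right (hte.symm : Commute e t) k).eq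
  let V := adjoinSubgroup Z e (hE2 e heE) hcZ
  have ht1 : t ≠ 1 := fun h => htE (h ▸ one_mem _)
  have heZ : e ∉ Z := by
    intro h
    obtain ⟨k, hk⟩ := Subgroup.mem_zpowers_iff.mp h
    rcases Int.even_or_odd' k with ⟨m, rfl | rfl⟩
    · rw [zpow_mul, zpow_two, ← pow_two, hU2 t htU, one_zpow] at hk
      exact he1 hk.symm
    · rw [zpow_add, zpow_mul, zpow_two, ← pow_two, hU2 t htU, one_zpow, zpow_one, one_mul] at hk
      exact htE (hk ▸ heE)
  have hV : IsKleinFour V := by
    refine isKleinFour_subgroup_iff.mpr ⟨?_, sq_eq_one_of_mem_adjoinSubgroup hZ2⟩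
    rw [card_adjoinSubgroup heZ, Nat.card_zpowers, orderOf_eq_prime (hU2 t htU) ht1]
  -- a four group in `C_E(t)`
  let C := E ⊓ Subgroup.centralizer {t}
  have heC : e ∈ C := ⟨heE, Subgroup.mem_centralizer_singleton_iff.mpr hte.symm⟩
  have hC := card_le_sq_card_inf_centralizer hE2 (hU2 t htU) (hN t)
  have hZe : ∀ z ∈ Subgroup.zpowers e, z ^ 2 = 1 := fun z hz =>
    hE2 z ((Subgroup.zpowers_le.mpr heE) hz)
  obtain ⟨f, hfC, hfe⟩ : ∃ f ∈ C, f ∉ Subgroup.zpowers e := by
    by_contra hcon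
    push Not at hcon
    have h := Subgroup.card_le_of_le (show C ≤ Subgroup.zpowers e from hcon)
    rw [Nat.card_zpowers, orderOf_eq_prime (hE2 e heE) he1] at h
    have h' : Nat.card E ≤ 2 ^ 2 := hC.trans (Nat.pow_le_pow_left h 2)
    omega
  have hcE := commute_of_sq_eq_one hE2
  have hcf : ∀ z ∈ Subgroup.zpowers e, f * z = z * f := fun z hz =>
    hcE f hfC.1 z ((Subgroup.zpowers_le.mpr heE) hz)
  let W := adjoinSubgroup (Subgroup.zpowers e) f (hE2 f hfC.1) hcf
  have hW : IsKleinFour W := by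
    refine isKleinFour_subgroup_iff.mpr ⟨?_, sq_eq_one_of_mem_adjoinSubgroup hZe⟩
    rw [card_adjoinSubgroup hfe, Nat.card_zpowers, orderOf_eq_prime (hE2 e heE) he1]
  have hWC : W ≤ C := by
    rintro z (hz | hz)
    · exact (Subgroup.zpowers_le.mpr heC) hz
    · have := C.mul_mem (C.inv_mem hfC) ((Subgroup.zpowers_le.mpr heC) hz)
      rwa [inv_mul_cancel_left] at this
  -- `U` centralizes `t` and `e`
  have hVc : ∀ c : P, c * t = t * c → c * e = e * c → ∀ v ∈ V, c * v = v * c := by
    intro c hct hce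
    have hZc : ∀ z ∈ Z, Commute c z := by
      intro z hz
      obtain ⟨k, rfl⟩ := Subgroup.mem_zpowers_iff.mp hz
      exact Commute.zpow_right hct k
    rintro v (hv | hv)
    · exact hZc v hv
    · have e' : v = e⁻¹ * (e * v) := by group
      rw [e']
      exact ((Commute.inv_right hce).mul_right (hZc _ hv)).eq
  have hUe : ∀ a ∈ U, a * e = e * a := by
    intro a ha
    by_cases ha1 : a = 1
    · subst ha1; simp
    by_cases hat : a = t
    · subst hat; exact hte
    by_cases hau : a = u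
    · subst hau; exact hue
    have hset : (U : Set P) = {1, t, u, t * u} := by
      symm
      apply Set.eq_of_subset_of_ncard_le
      · rintro z (rfl | rfl | rfl | rfl)
        exacts [U.one_mem, htU, huU, U.mul_mem htU huU]
      · rw [← Nat.card_coe_set_eq]
        have : Nat.card (U : Set P) = 4 := hU4
        rw [this, Set.ncard_insert_of_notMem, Set.ncard_insert_of_notMem,
          Set.ncard_insert_of_notMem, Set.ncard_singleton]
        · simp [ht1]
        · simp [hu.symm, hu1]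
        · simp only [Set.mem_insert_iff, Set.mem_singleton_iff]
          rintro (h | h | h)
          · exact ht1 h.symm
          · exact hu1 h.symm
          · exact hu (inv_eq_self_of_sq (hU2 t htU) ▸ (inv_eq_of_mul_eq_one_right h.symm).symm)
      · exact Set.toFinite _
    have : a ∈ ({1, t, u, t * u} : Set P) := hset ▸ ha
    rcases this with h | h | h | h
    · exact absurd h ha1
    · exact absurd h hat
    · exact absurd h hau
    · subst h
      exact (Commute.mul_left hte hue).eq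
  have h1 : ∀ a ∈ U, ∀ v ∈ V, a * v = v * a := fun a ha =>
    hVc a (hcU a ha t htU) (hUe a ha)
  have h2 : ∀ w ∈ W, ∀ v ∈ V, w * v = v * w := fun w hw =>
    hVc w (Subgroup.mem_centralizer_singleton_iff.mp (hWC hw).2) (hcE w (hWC hw).1 e heE)
  refine ⟨W, hWC.trans inf_le_left, hW, ?_, ?_⟩
  · exact (Relation.ReflTransGen.single ⟨hU, hV, h1⟩).tail ⟨hV, hW, fun a ha b hb => (h2 b hb a ha).symm⟩
  · exact (Relation.ReflTransGen.single ⟨hW, hV, h2⟩).tail ⟨hV, hU, fun a ha b hb => (h1 b hb a ha).symm⟩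

/-- If a finite 2-group has a normal elementary abelian subgroup of order at least 8, then any two of its Klein
four-subgroups are joined by a chain of Klein four-subgroups with consecutive members commuting elementwise. -/
theorem result {P : Type*} [Group P] [Finite P] (hP : IsPGroup 2 P)
    (E : Subgroup P) [E.Normal] (hE : IsMulCommutative E) (hE2 : ∀ e ∈ E, e ^ 2 = 1) (hE8 : 8 ≤ Nat.card E) :
    Cfsg.IsFourConnected P := by
  intro U V hU hV
  obtain ⟨W₁, hW₁, hK₁, h₁, -⟩ := exists_four_connected_in E hE2 hE8 U hU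
  obtain ⟨W₂, hW₂, hK₂, -, h₂⟩ := exists_four_connected_in E hE2 hE8 V hV
  exact (h₁.tail ⟨hK₁, hK₂, fun a ha b hb =>
    Cfsg.Agent.Lib.Classification.commute_of_sq_eq_one hE2 a (hW₁ ha) b (hW₂ hb)⟩).trans h₂

end Cfsg.Agent.S0502
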