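import Cfsg.Statements.S0520
import Cfsg.Agent.Lib.Classification.ElemAbTwo
import Cfsg.Agent.Lib.Classification.Basic

set_option autoImplicit false
open Cfsg

namespace Cfsg.Agent.S0520

open Cfsg.Agent.Lib.Classification

variable {G : Type*} [Group G] [Finite G]

theorem exists_four_le {A : Subgroup G} (hA : ∀ a ∈ A, a ^ 2 = 1) (h2 : 2 < Nat.card A) :
    ∃ U : Subgroup G, U ≤ A ∧ IsKleinFour U := by
  obtain ⟨a, haA, ha1⟩ : ∃ a ∈ A, a ≠ 1 := by
    by_contra hcon
    push Not at hcon
    rw [(Subgroup.eq_bot_iff_forall A).mpr hcon, Subgroup.card_bot] at h2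
    omega
  have hcard : Nat.card ↥(Subgroup.zpowers a) = 2 := by
    rw [Nat.card_zpowers, orderOf_eq_prime (hA a haA) ha1]
  obtain ⟨b, hbA, hb⟩ : ∃ b ∈ A, b ∉ Subgroup.zpowers a := by
    by_contra hcon
    push Not at hcon
    have := Subgroup.card_le_of_le (show A ≤ Subgroup.zpowers a from hcon)
    omega
  have hle : Subgroup.zpowers a ≤ A := Subgroup.zpowers_le.mpr haA
  let U := adjoinSubgroup (Subgroup.zpowers a) b (hA b hbA)
    (fun z hz => commute_of_sq_eq_one hA b hbA z (hle hz))
  refine ⟨U, ?_, isKleinFour_subgroup_iff.mpr ⟨by rw [card_adjoinSubgroup hb, hcard],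
    sq_eq_one_of_mem_adjoinSubgroup fun z hz => hA z (hle hz)⟩⟩
  rintro z (hz | hz)
  · exact hle hz
  · have h := A.mul_mem (A.inv_mem hbA) (hle hz)
    rwa [inv_mul_cancel_left] at h

theorem rank_two_iff (Q : Subgroup G) :
    ¬ Cfsg.PRankLE 2 1 Q ↔ ∃ U : Subgroup G, U ≤ Q ∧ IsKleinFour U := by
  constructor
  · intro h
    unfold Cfsg.PRankLE at h
    push Not at h
    obtain ⟨A, -, hA2, hcard⟩ := h
    obtain ⟨U, hU, hK⟩ := exists_four_le (A := A.map Q.subtype)
      (by rintro _ ⟨a, ha, rfl⟩; rw [← map_pow, hA2 a ha, map_one])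
      (by rw [Subgroup.card_map_of_injective Q.subtype_injective]; omega)
    exact ⟨U, hU.trans (Subgroup.map_subtype_le A), hK⟩
  · rintro ⟨U, hU, hK⟩ h
    obtain ⟨h4, h2⟩ := isKleinFour_subgroup_iff.mp hK
    have hc := h (U.subgroupOf Q)
      ⟨⟨fun a b => Subtype.ext (Subtype.ext (commute_of_sq_eq_one h2 _ a.2 _ b.2))⟩⟩
      (fun a ha => Subtype.ext (h2 _ ha))
    rw [Nat.card_congr (Subgroup.subgroupOfEquivOfLe hU).toEquiv, h4] at hc
    omega

/-- Adjacency of four-subgroups. -/
def Adj (A B : Subgroup G) : Prop :=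
  IsKleinFour A ∧ IsKleinFour B ∧ ∀ a ∈ A, ∀ b ∈ B, a * b = b * a

theorem adj_symm {A B : Subgroup G} (h : Adj A B) : Adj B A :=
  ⟨h.2.1, h.1, fun b hb a ha => (h.2.2 a ha b hb).symm⟩

theorem reach_symm {A B : Subgroup G} (h : Relation.ReflTransGen Adj A B) :
    Relation.ReflTransGen Adj B A := by
  induction h with
  | refl => exact .refl
  | tail _ h2 ih => exact (Relation.ReflTransGen.single (adj_symm h2)).trans ih

theorem klein_map {H : Type*} [Group H] [Finite H] {U : Subgroup H} (f : H →* G)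
    (hf : Function.Injective f) (hU : IsKleinFour U) : IsKleinFour (U.map f) := by
  obtain ⟨h4, h2⟩ := isKleinFour_subgroup_iff.mp hU
  refine isKleinFour_subgroup_iff.mpr ⟨by rw [Subgroup.card_map_of_injective hf, h4], ?_⟩
  rintro _ ⟨a, ha, rfl⟩
  rw [← map_pow, h2 a ha, map_one]

theorem reach_map {H : Type*} [Group H] [Finite H] {A B : Subgroup H} (f : H →* G)
    (hf : Function.Injective f)
    (h : Relation.ReflTransGen
      (fun A B : Subgroup H => IsKleinFour A ∧ IsKleinFour B ∧ ∀ a ∈ A, ∀ b ∈ B, a * b = b * a) A B) :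
    Relation.ReflTransGen Adj (A.map f) (B.map f) := by
  induction h with
  | refl => exact .refl
  | tail _ h2 ih =>
    refine ih.tail ⟨klein_map f hf h2.1, klein_map f hf h2.2.1, ?_⟩
    rintro _ ⟨a, ha, rfl⟩ _ ⟨b, hb, rfl⟩
    rw [← map_mul, h2.2.2 a ha b hb, map_mul]

/-- Four-subgroups of `S` are connected in `G`. -/
theorem reach_in_sylow (S : Sylow 2 G) (hS : Cfsg.IsFourConnected (S : Subgroup G))
    {U V : Subgroup G} (hU : U ≤ S) (hV : V ≤ S) (hKU : IsKleinFour U) (hKV : IsKleinFour V) :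
    Relation.ReflTransGen Adj U V := by
  have hK : ∀ {W : Subgroup G}, W ≤ S → IsKleinFour W → IsKleinFour (W.subgroupOf (S : Subgroup G)) := by
    intro W hW hKW
    obtain ⟨h4, h2⟩ := isKleinFour_subgroup_iff.mp hKW
    exact isKleinFour_subgroup_iff.mpr
      ⟨by rw [Nat.card_congr (Subgroup.subgroupOfEquivOfLe hW).toEquiv, h4],
        fun a ha => Subtype.ext (h2 _ ha)⟩
  have h := reach_map (S : Subgroup G).subtype (S : Subgroup G).subtype_injective
    (hS _ _ (hK hU hKU) (hK hV hKV))
  rwa [Subgroup.map_subgroupOf_eq_of_le hU, Subgroup.map_subgroupOf_eq_of_le hV] at h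

theorem reach_conj {A B : Subgroup G} (g : G) (h : Relation.ReflTransGen Adj A B) :
    Relation.ReflTransGen Adj (A.map (MulAut.conj g).toMonoidHom) (B.map (MulAut.conj g).toMonoidHom) :=
  reach_map _ (MulAut.conj g).injective h

theorem map_conj_map_conj (A : Subgroup G) (g h : G) :
    (A.map (MulAut.conj h).toMonoidHom).map (MulAut.conj g).toMonoidHom =
      A.map (MulAut.conj (g * h)).toMonoidHom := by
  ext x
  simp only [mem_map_conj_iff, mul_inv_rev, mul_assoc]

theorem map_conj_one (A : Subgroup G) : A.map (MulAut.conj (1 : G)).toMonoidHom = A := by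
  ext x
  simp [mem_map_conj_iff]

theorem exists_conj_sylow (S : Sylow 2 G) {P : Subgroup G} (hP : IsPGroup 2 P) :
    ∃ g : G, P ≤ (S : Subgroup G).map (MulAut.conj g).toMonoidHom := by
  haveI : Fact (Nat.Prime 2) := ⟨Nat.prime_two⟩
  obtain ⟨T, hT⟩ := hP.exists_le_sylow
  obtain ⟨g, rfl⟩ := MulAction.exists_smul_eq G S T
  refine ⟨g, fun x hx => ?_⟩
  have h := hT hx
  rw [Sylow.coe_subgroup_smul] at h
  exact h

/-- The 2-generated core. -/
def core (S : Sylow 2 G) : Subgroup G :=
  ⨆ Q : {Q : Subgroup G // Q ≤ (S : Subgroup G) ∧ ¬ Cfsg.PRankLE 2 1 Q},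
    Subgroup.normalizer ((Q : Subgroup G) : Set G)

theorem normalizer_le_core (S : Sylow 2 G) {Q U : Subgroup G} (hQ : Q ≤ S) (hU : U ≤ Q)
    (hK : IsKleinFour U) : Subgroup.normalizer (Q : Set G) ≤ core S :=
  le_iSup (fun Q : {Q : Subgroup G // Q ≤ (S : Subgroup G) ∧ ¬ Cfsg.PRankLE 2 1 Q} =>
    Subgroup.normalizer ((Q : Subgroup G) : Set G)) ⟨Q, hQ, (rank_two_iff Q).mpr ⟨U, hU, hK⟩⟩

/-- In a finite 2-group a proper subgroup grows in its normalizer. -/
theorem exists_mem_normalizer {P D : Subgroup G} (hP : IsPGroup 2 P) (hD : D ≤ P) (hne : D ≠ P) :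
    D < P ⊓ Subgroup.normalizer (D : Set G) := by
  haveI : Fact (Nat.Prime 2) := ⟨Nat.prime_two⟩
  haveI := hP.isNilpotent
  have hlt : D.subgroupOf P < ⊤ := by
    rw [lt_top_iff_ne_top, ne_eq, Subgroup.subgroupOf_eq_top]
    exact fun h => hne (le_antisymm hD h)
  obtain ⟨x, hxN, hxD⟩ :=
    SetLike.exists_of_lt (Group.normalizerCondition_of_isNilpotent _ hlt)
  refine lt_of_le_of_ne (le_inf hD Subgroup.le_normalizer) fun e => hxD ?_
  have hxn : (x : G) ∈ Subgroup.normalizer (D : Set G) := by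
    rw [Subgroup.mem_set_normalizer_iff]
    intro y
    have h := Subgroup.mem_set_normalizer_iff.mp hxN
    constructor
    · intro hy
      exact (h ⟨y, hD hy⟩).mp hy
    · intro hy
      have hyP : y ∈ P := by
        have := P.mul_mem (P.mul_mem (P.inv_mem x.2) (hD hy)) x.2
        simpa [mul_assoc] using this
      exact (h ⟨y, hyP⟩).mpr hy
  exact (e ▸ ⟨x.2, hxn⟩ : (x : G) ∈ D)

theorem card_lt_card {A B : Subgroup G} (h : A < B) : Nat.card A < Nat.card B :=
  lt_of_le_of_ne (Subgroup.card_le_of_le h.le)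
    fun e => h.ne (Subgroup.eq_of_le_of_card_ge h.le e.ge)

theorem mem_core_of_four (S : Sylow 2 G) (n : ℕ) :
    ∀ (g : G) (U : Subgroup G), IsKleinFour U →
      U ≤ (S : Subgroup G) ⊓ (S : Subgroup G).map (MulAut.conj g).toMonoidHom →
      Nat.card (S : Subgroup G) -
        Nat.card ↥((S : Subgroup G) ⊓ (S : Subgroup G).map (MulAut.conj g).toMonoidHom) ≤ n →
      g ∈ core S := by
  have hS : IsPGroup 2 (S : Subgroup G) := S.2
  induction n with
  | zero =>
    intro g U hK hU hn
    have h := Subgroup.eq_of_le_of_card_ge inf_le_left (by omega :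
      Nat.card (S : Subgroup G) ≤
        Nat.card ↥((S : Subgroup G) ⊓ (S : Subgroup G).map (MulAut.conj g).toMonoidHom))
    have h' := Subgroup.eq_of_le_of_card_ge (inf_eq_left.mp h) (card_map_conj _ g).le
    exact normalizer_le_core S le_rfl (hU.trans inf_le_left) hK
      (map_conj_eq_iff_mem_normalizer.mp h'.symm)
  | succ n ih =>
    intro g U hK hU hn
    set T := (S : Subgroup G).map (MulAut.conj g).toMonoidHom with hT
    set D := (S : Subgroup G) ⊓ T with hD
    have hT2 : IsPGroup 2 T := hS.map _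
    by_cases hDS : D = (S : Subgroup G)
    · have h' := Subgroup.eq_of_le_of_card_ge (inf_eq_left.mp hDS) (card_map_conj _ g).le
      exact normalizer_le_core S le_rfl (hU.trans inf_le_left) hK
        (map_conj_eq_iff_mem_normalizer.mp h'.symm)
    have hDT : D ≠ T := fun e => hDS (Subgroup.eq_of_le_of_card_ge inf_le_left
      (by rw [e]; exact (card_map_conj _ g).ge))
    have h1 := exists_mem_normalizer hS inf_le_left hDS
    have h2 := exists_mem_normalizer hT2 inf_le_right hDT
    set N := Subgroup.normalizer (D : Set G) with hN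
    haveI : Fact (Nat.Prime 2) := ⟨Nat.prime_two⟩
    have hp1 : IsPGroup 2 ↥(((S : Subgroup G) ⊓ N).subgroupOf N) :=
      (hS.to_le inf_le_left).comap_of_injective N.subtype N.subtype_injective
    have hp2 : IsPGroup 2 ↥((T ⊓ N).subgroupOf N) :=
      (hT2.to_le inf_le_left).comap_of_injective N.subtype N.subtype_injective
    obtain ⟨T₁, hT₁⟩ := hp1.exists_le_sylow
    obtain ⟨T₂, hT₂⟩ := hp2.exists_le_sylow
    obtain ⟨m, rfl⟩ := MulAction.exists_smul_eq ↥N T₁ T₂
    obtain ⟨h, hh⟩ := exists_conj_sylow S (T₁.2.map N.subtype)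
    have hmem : (m : G) ∈ core S := normalizer_le_core S inf_le_left hU hK m.2
    have hbig : D < (S : Subgroup G) ⊓ (S : Subgroup G).map (MulAut.conj h).toMonoidHom := by
      refine h1.trans_le (le_inf inf_le_left ?_)
      rintro x ⟨hx, hxN⟩
      exact hh ⟨⟨x, hxN⟩, hT₁ (show (⟨x, hxN⟩ : N) ∈ ((S : Subgroup G) ⊓ N).subgroupOf N from ⟨hx, hxN⟩), rfl⟩
    have hlt := card_lt_card hbig
    have hhc : h ∈ core S := ih h U hK (hU.trans hbig.le) (by omega)
    have hbig2 : D < T ⊓ (S : Subgroup G).map (MulAut.conj ((m : G) * h)).toMonoidHom := by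
      refine h2.trans_le (le_inf inf_le_left ?_)
      rintro x ⟨hx, hxN⟩
      have hx2 := hT₂ (show (⟨x, hxN⟩ : N) ∈ (T ⊓ N).subgroupOf N from ⟨hx, hxN⟩)
      rw [Sylow.coe_subgroup_smul] at hx2
      obtain ⟨y, hy, hyx⟩ := hx2
      rw [← map_conj_map_conj]
      exact ⟨(y : G), hh ⟨y, hy, rfl⟩, congrArg Subtype.val hyx⟩
    have hlt2 := card_lt_card hbig2
    have e : (T ⊓ (S : Subgroup G).map (MulAut.conj ((m : G) * h)).toMonoidHom).map
        (MulAut.conj g⁻¹).toMonoidHom =
        (S : Subgroup G) ⊓ (S : Subgroup G).map (MulAut.conj (g⁻¹ * ((m : G) * h))).toMonoidHom := by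
      rw [Subgroup.map_inf _ _ _ (MulAut.conj g⁻¹).injective, hT, map_conj_map_conj, inv_mul_cancel,
        map_conj_one, map_conj_map_conj]
    have hk : g⁻¹ * ((m : G) * h) ∈ core S := by
      refine ih _ (U.map (MulAut.conj g⁻¹).toMonoidHom) (klein_map _ (MulAut.conj g⁻¹).injective hK)
        ?_ ?_
      · rw [← e]
        exact Subgroup.map_mono (hU.trans hbig2.le)
      · rw [← e, card_map_conj]
        omega
    have := (core S).mul_mem ((core S).mul_mem hmem hhc) ((core S).inv_mem hk)
    simpa [mul_assoc] using this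

theorem core_eq_top_of_connected (h2 : ¬ Cfsg.PRankLE 2 1 G) (S : Sylow 2 G)
    (hcon : Cfsg.IsFourConnected G) : core S = ⊤ := by
  haveI : Fact (Nat.Prime 2) := ⟨Nat.prime_two⟩
  obtain ⟨U₁, hU₁⟩ : ∃ U : Subgroup G, IsKleinFour U := by
    unfold Cfsg.PRankLE at h2
    push Not at h2
    obtain ⟨A, -, hA2, hcard⟩ := h2
    exact (exists_four_le hA2 (by omega)).imp fun U h => h.2
  have hP : ∀ {U : Subgroup G}, IsKleinFour U → IsPGroup 2 U := fun hU =>
    IsPGroup.of_card (n := 2) (by rw [hU.card_four]; rfl)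
  obtain ⟨g₀, hg₀⟩ := exists_conj_sylow S (hP hU₁)
  set U₀ := U₁.map (MulAut.conj g₀⁻¹).toMonoidHom with hU₀
  have hK₀ : IsKleinFour U₀ := klein_map _ (MulAut.conj g₀⁻¹).injective hU₁
  have hle : U₀ ≤ S := by
    have h := Subgroup.map_mono (f := (MulAut.conj g₀⁻¹).toMonoidHom) hg₀
    rwa [map_conj_map_conj, inv_mul_cancel, map_conj_one] at h
  have hwd : ∀ (U : Subgroup G) (a b : G), IsKleinFour U →
      U ≤ (S : Subgroup G).map (MulAut.conj a).toMonoidHom →
      U ≤ (S : Subgroup G).map (MulAut.conj b).toMonoidHom → a⁻¹ * b ∈ core S := by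
    intro U a b hK ha hb
    refine mem_core_of_four S _ _ (U.map (MulAut.conj a⁻¹).toMonoidHom)
      (klein_map _ (MulAut.conj a⁻¹).injective hK) ?_ le_rfl
    refine le_inf ?_ ?_
    · have h := Subgroup.map_mono (f := (MulAut.conj a⁻¹).toMonoidHom) ha
      rwa [map_conj_map_conj, inv_mul_cancel, map_conj_one] at h
    · have h := Subgroup.map_mono (f := (MulAut.conj a⁻¹).toMonoidHom) hb
      rwa [map_conj_map_conj] at h
  rw [eq_top_iff]
  intro g _
  have hreach := hcon U₀ (U₀.map (MulAut.conj g).toMonoidHom) hK₀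
    (klein_map _ (MulAut.conj g).injective hK₀)
  have key : ∀ V, Relation.ReflTransGen
      (fun A B : Subgroup G => IsKleinFour A ∧ IsKleinFour B ∧ ∀ a ∈ A, ∀ b ∈ B, a * b = b * a) U₀ V →
      ∀ c, V ≤ (S : Subgroup G).map (MulAut.conj c).toMonoidHom → c ∈ core S := by
    intro V hV
    induction hV with
    | refl =>
      intro c hc
      have := hwd U₀ 1 c hK₀ (by rwa [map_conj_one]) hc
      simpa using this
    | @tail V W _ hVW ih =>
      intro c hc
      obtain ⟨hKV, hKW, hcomm⟩ := hVW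
      obtain ⟨d, hd⟩ := exists_conj_sylow S
        ((hP hKV).to_sup_of_normal_right' (hP hKW) (fun v hv => by
          rw [Subgroup.mem_set_normalizer_iff]
          intro w
          constructor
          · intro hw
            rw [hcomm v hv w hw, mul_inv_cancel_right]
            exact hw
          · intro hw
            have h := hcomm v hv _ hw
            have e : w = v⁻¹ * (v * w * v⁻¹) * v := by group
            rw [e, mul_assoc, ← h, inv_mul_cancel_left]
            exact hw))
      have h1 := ih d (le_sup_left.trans hd)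
      have h2 := hwd W d c hKW (le_sup_right.trans hd) hc
      simpa using (core S).mul_mem h1 h2
  exact key _ hreach g (Subgroup.map_mono hle)

theorem connected_of_core_eq_top (S : Sylow 2 G) (hS : Cfsg.IsFourConnected (S : Subgroup G))
    (htop : core S = ⊤) : Cfsg.IsFourConnected G := by
  haveI : Fact (Nat.Prime 2) := ⟨Nat.prime_two⟩
  intro U V hU hV
  obtain ⟨a, ha⟩ := exists_conj_sylow S (IsPGroup.of_card (n := 2) (by rw [hU.card_four]; rfl) :
    IsPGroup 2 U)
  set U₀ := U.map (MulAut.conj a⁻¹).toMonoidHom with hU₀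
  have hle : U₀ ≤ S := by
    have h := Subgroup.map_mono (f := (MulAut.conj a⁻¹).toMonoidHom) ha
    rwa [map_conj_map_conj, inv_mul_cancel, map_conj_one] at h
  have hK₀ : IsKleinFour U₀ := klein_map _ (MulAut.conj a⁻¹).injective hU
  let H : Subgroup G :=
    { carrier := {g | Relation.ReflTransGen Adj (U₀.map (MulAut.conj g).toMonoidHom) U₀}
      one_mem' := by
        show Relation.ReflTransGen Adj _ _
        rw [map_conj_one]
      mul_mem' := by
        intro x y hx hy
        show Relation.ReflTransGen Adj _ _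
        rw [← map_conj_map_conj]
        exact (reach_conj x hy).trans hx
      inv_mem' := by
        intro x hx
        show Relation.ReflTransGen Adj _ _
        have h := reach_conj x⁻¹ hx
        rw [map_conj_map_conj, inv_mul_cancel, map_conj_one] at h
        exact reach_symm h }
  have hH : core S ≤ H := by
    refine iSup_le ?_
    rintro ⟨Q, hQS, hQ⟩ g hg
    obtain ⟨W, hWQ, hKW⟩ := (rank_two_iff Q).mp hQ
    show Relation.ReflTransGen Adj _ _
    have hgW : W.map (MulAut.conj g).toMonoidHom ≤ S := by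
      refine (Subgroup.map_mono hWQ).trans ?_
      rw [map_conj_eq_iff_mem_normalizer.mpr hg]
      exact hQS
    exact (reach_conj g (reach_in_sylow S hS hle (hWQ.trans hQS) hK₀ hKW)).trans
      (reach_in_sylow S hS hgW hle (klein_map _ (MulAut.conj g).injective hKW) hK₀)
  have hall : ∀ W : Subgroup G, IsKleinFour W → Relation.ReflTransGen Adj W U₀ := by
    intro W hW
    obtain ⟨b, hb⟩ := exists_conj_sylow S (IsPGroup.of_card (n := 2) (by rw [hW.card_four]; rfl) :
      IsPGroup 2 W)
    have hW' : W.map (MulAut.conj b⁻¹).toMonoidHom ≤ S := by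
      have h := Subgroup.map_mono (f := (MulAut.conj b⁻¹).toMonoidHom) hb
      rwa [map_conj_map_conj, inv_mul_cancel, map_conj_one] at h
    have h := reach_conj b
      (reach_in_sylow S hS hW' hle (klein_map _ (MulAut.conj b⁻¹).injective hW) hK₀)
    rw [map_conj_map_conj, mul_inv_cancel, map_conj_one] at h
    exact h.trans (hH (htop ▸ Subgroup.mem_top b : b ∈ core S))
  exact (hall U hU).trans (reach_symm (hall V hV))

/-- Let G be a finite group of 2-rank at least 2 and S a Sylow 2-subgroup whose commuting graph of Klein four-subgroups is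
connected. Then the commuting graph of Klein four-subgroups of G is disconnected if and only if the 2-generated core — the
subgroup generated by the normalizers N_G(Q) of the subgroups Q of S that contain a Klein four-group — is a proper
subgroup of G. -/
theorem result {G : Type*} [Group G] [Finite G] (h2 : ¬ Cfsg.PRankLE 2 1 G)
    (S : Sylow 2 G) (hS : Cfsg.IsFourConnected (S : Subgroup G)) :
    ¬ Cfsg.IsFourConnected G ↔
      (⨆ Q : {Q : Subgroup G // Q ≤ (S : Subgroup G) ∧ ¬ Cfsg.PRankLE 2 1 Q},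
          Subgroup.normalizer ((Q : Subgroup G) : Set G)) ≠ ⊤ := by
  exact not_congr ⟨core_eq_top_of_connected h2 S, connected_of_core_eq_top S hS⟩

end Cfsg.Agent.S0520
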