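import Cfsg.Statements.S0521
import Cfsg.Agent.Lib.Involutions.BaerSuzuki
import Cfsg.Agent.Lib.Components.Local
import Cfsg.Agent.Lib.Cores.Frattini
import Cfsg.Agent.Lib.Coprime.Action

set_option autoImplicit false
open Cfsg

namespace Cfsg.Agent.S0521

open Cfsg.Agent.Lib
open scoped commutatorElement

/-- The stabilizer of the chain `V ≥ ⟨a, b⟩ ≥ ⟨b⟩`. -/
def chainStab {V : Type*} [CommGroup V] (a b : V) : Submonoid (MulAut V) where
  carrier := {h | (∀ v, ∃ i j : ℤ, h v = v * a ^ i * b ^ j) ∧ (∃ j : ℤ, h a = a * b ^ j) ∧ h b = b}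
  one_mem' := ⟨fun v => ⟨0, 0, by simp⟩, ⟨0, by simp⟩, rfl⟩
  mul_mem' := by
    rintro g h ⟨hg, ⟨j, hga⟩, hgb⟩ ⟨hh, ⟨k, hha⟩, hhb⟩
    refine ⟨fun v => ?_, ⟨j + k, ?_⟩, by rw [MulAut.mul_apply, hhb, hgb]⟩
    · obtain ⟨i, l, e⟩ := hh v
      obtain ⟨i', l', e'⟩ := hg v
      refine ⟨i' + i, l' + j * i + l, ?_⟩
      rw [MulAut.mul_apply, e, map_mul, map_mul, map_zpow, map_zpow, e', hga, hgb, mul_zpow,
        ← zpow_mul, zpow_add, zpow_add, zpow_add]
      simp only [mul_comm, mul_left_comm, mul_assoc]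
    · rw [MulAut.mul_apply, hha, map_mul, map_zpow, hga, hgb, zpow_add, mul_assoc]

theorem pow_apply_eq {V : Type*} [CommGroup V] {h : MulAut V} {v u : V} (hv : h v = v * u)
    (hu : h u = u) : ∀ n : ℕ, (h ^ n) v = v * u ^ n := by
  intro n
  induction n with
  | zero => simp
  | succ n ih => rw [pow_succ', MulAut.mul_apply, ih, map_mul, map_pow, hu, hv, pow_succ', mul_assoc]

theorem pow_sq_eq_one_of_mem_chainStab {V : Type*} [CommGroup V] {p : ℕ}
    (hV : ∀ v : V, v ^ p = 1) {a b : V} {h : MulAut V} (hh : h ∈ chainStab a b) :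
    h ^ (p * p) = 1 := by
  obtain ⟨hv, ⟨j, ha⟩, hb⟩ := hh
  have hbp : (h ^ p) b = b := by
    have := pow_apply_eq (h := h) (v := b) (u := 1) (by rw [hb, mul_one]) (map_one h) p
    rwa [one_pow, mul_one] at this
  have hap : (h ^ p) a = a := by
    rw [pow_apply_eq ha (by rw [map_zpow, hb]), hV, mul_one]
  refine MulEquiv.ext fun v => ?_
  obtain ⟨i, l, e⟩ : ∃ i l : ℤ, (h ^ p) v = v * a ^ i * b ^ l := by
    have := (chainStab a b).pow_mem (show h ∈ chainStab a b from ⟨hv, ⟨j, ha⟩, hb⟩) p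
    exact this.1 v
  rw [mul_assoc v] at e
  rw [pow_mul, pow_apply_eq e (by rw [map_mul, map_zpow, map_zpow, hap, hbp]), hV, mul_one]
  rfl

/-- Two transvections generate a `p`-group or an element of even order. -/
theorem transvection_pair {V : Type*} [CommGroup V] [Finite V] {p : ℕ} [hp : Fact p.Prime]
    (hp2 : p ≠ 2) (hV : ∀ v : V, v ^ p = 1) (σ τ : MulAut V) (hσp : ∃ k : ℕ, σ ^ p ^ k = 1)
    (hτp : ∃ k : ℕ, τ ^ p ^ k = 1) (a b : V)
    (hσ : ∀ v, ∃ i : ℤ, σ v = v * a ^ i) (hτ : ∀ v, ∃ i : ℤ, τ v = v * b ^ i)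
    (hodd : ∀ w ∈ Subgroup.closure ({σ, τ} : Set (MulAut V)), Odd (orderOf w)) :
    IsPGroup p ↥(Subgroup.closure ({σ, τ} : Set (MulAut V))) := by
  have hfix : ∀ (f : MulAut V) (c : V), (∃ k : ℕ, f ^ p ^ k = 1) → (∃ i : ℤ, f c = c * c ^ i) →
      f c = c := by
    rintro f c ⟨k, hk⟩ ⟨i, hi⟩
    have he : f c = c ^ (1 + i) := by rw [hi, zpow_one_add]
    have hn : ∀ n : ℕ, (f ^ n) c = c ^ ((1 + i) ^ n) := by
      intro n
      induction n with
      | zero => simp
      | succ n ih => rw [pow_succ', MulAut.mul_apply, ih, map_zpow, he, ← zpow_mul, ← pow_succ']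
    have h1 := hn (p ^ k)
    rw [hk, MulAut.one_apply] at h1
    have hc : (orderOf c : ℤ) ∣ (p : ℤ) := Int.natCast_dvd_natCast.mpr (orderOf_dvd_of_pow_eq_one (hV c))
    have hmod : ((1 + i) ^ p ^ k : ℤ) ≡ 1 + i [ZMOD p] := by
      rw [← ZMod.intCast_eq_intCast_iff, Int.cast_pow, ZMod.pow_card_pow]
    have : c ^ ((1 + i) ^ p ^ k) = c ^ (1 + i) :=
      zpow_eq_zpow_iff_modEq.mpr (hmod.of_dvd hc)
    rw [he, ← this, ← h1]
  have hσa : σ a = a := hfix σ a hσp (hσ a)
  have hτb : τ b = b := hfix τ b hτp (hτ b)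
  have hmonoid : ∀ x y : V, σ ∈ chainStab x y → τ ∈ chainStab x y →
      IsPGroup p ↥(Subgroup.closure ({σ, τ} : Set (MulAut V))) := by
    intro x y hx hy w
    haveI : Finite (MulAut V) := Finite.of_injective (fun e : MulAut V => (e : V → V)) DFunLike.coe_injective
    have hw : (w : MulAut V) ∈ chainStab x y := by
      have h : (w : MulAut V) ∈ (Subgroup.closure ({σ, τ} : Set (MulAut V))).toSubmonoid := w.2
      rw [Subgroup.closure_toSubmonoid_of_finite] at h
      refine (Submonoid.closure_le (S := chainStab x y)).mpr ?_ h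
      rintro _ (rfl | rfl)
      · exact hx
      · exact hy
    exact ⟨2, Subtype.ext (by rw [SubmonoidClass.coe_pow, pow_two]; exact pow_sq_eq_one_of_mem_chainStab hV hw)⟩
  by_cases hσb : σ b = b
  · refine hmonoid a b ⟨fun v => ?_, ⟨0, by rw [hσa]; simp⟩, hσb⟩ ⟨fun v => ?_, hτ a, hτb⟩
    · obtain ⟨i, e⟩ := hσ v; exact ⟨i, 0, by rw [e]; simp⟩
    · obtain ⟨i, e⟩ := hτ v; exact ⟨0, i, by rw [e]; simp⟩
  by_cases hτa : τ a = a
  · refine hmonoid b a ⟨fun v => ?_, hσ b, hσa⟩ ⟨fun v => ?_, ⟨0, by rw [hτb]; simp⟩, hτa⟩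
    · obtain ⟨i, e⟩ := hσ v; exact ⟨0, i, by rw [e]; simp⟩
    · obtain ⟨i, e⟩ := hτ v; exact ⟨i, 0, by rw [e]; simp⟩
  exfalso
  obtain ⟨i, hi⟩ := hσ b
  obtain ⟨j, hj⟩ := hτ a
  set a' := a ^ i with ha'
  have hσa' : σ a' = a' := by rw [ha', map_zpow, hσa]
  have hτa' : τ a' = a' * b ^ (j * i) := by rw [ha', map_zpow, hj, mul_zpow, zpow_mul]
  have hne0 : ∀ {c : V} {k : ℤ}, c ^ k ≠ 1 → (k : ZMod p) ≠ 0 := by
    intro c k hck hk
    apply hck
    obtain ⟨l, rfl⟩ := (ZMod.intCast_zmod_eq_zero_iff_dvd k p).mp hk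
    rw [zpow_mul, zpow_natCast, hV, one_zpow]
  have hji : ((j * i : ℤ) : ZMod p) ≠ 0 := by
    rw [Int.cast_mul]
    exact mul_ne_zero (hne0 (c := b) fun e => hτa (by rw [hj, e, mul_one]))
      (hne0 (c := a) fun e => hσb (by rw [hi]; show b * a ^ i = b; rw [e, mul_one]))
  set m := ((-((j * i : ℤ) : ZMod p)⁻¹)).val with hm
  have hbm : (b ^ (j * i)) ^ m = b⁻¹ := by
    rw [← zpow_natCast, ← zpow_mul, ← zpow_neg_one b]
    refine zpow_eq_zpow_iff_modEq.mpr (Int.ModEq.of_dvd
      (Int.natCast_dvd_natCast.mpr (orderOf_dvd_of_pow_eq_one (hV b))) ?_)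
    rw [← ZMod.intCast_eq_intCast_iff, Int.cast_mul, Int.cast_natCast, hm, ZMod.natCast_zmod_val,
      mul_neg, mul_inv_cancel₀ hji]
    simp
  have ht1 : (τ ^ m) a' = a' * b⁻¹ := by
    rw [pow_apply_eq hτa' (by rw [map_zpow, hτb]), hbm]
  have ht2 : (τ ^ m) b = b := by
    have := pow_apply_eq (h := τ) (v := b) (u := 1) (by rw [hτb, mul_one]) (map_one τ) m
    rwa [one_pow, mul_one] at this
  set w := σ * τ ^ m * σ with hw
  have hwb : w b = a' := by
    rw [hw, MulAut.mul_apply, MulAut.mul_apply, hi, map_mul, ht1, ht2, mul_comm a', ← mul_assoc,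
      mul_inv_cancel, one_mul, hσa']
  have hwa : w a' = b⁻¹ := by
    rw [hw, MulAut.mul_apply, MulAut.mul_apply, hσa', ht1, map_mul, map_inv, hσa', hi, mul_inv,
      mul_comm b⁻¹, ← mul_assoc, mul_inv_cancel, one_mul]
  have h2 : (w ^ 2) b = b⁻¹ := by rw [pow_two, MulAut.mul_apply, hwb, hwa]
  have h4 : (w ^ 4) b = b := by
    rw [show 4 = 2 + 2 from rfl, pow_add, MulAut.mul_apply, h2, map_inv, h2, inv_inv]
  have hwm : w ∈ Subgroup.closure ({σ, τ} : Set (MulAut V)) :=
    mul_mem (mul_mem (Subgroup.subset_closure (by simp))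
      (pow_mem (Subgroup.subset_closure (by simp)) m)) (Subgroup.subset_closure (by simp))
  obtain ⟨l, hl⟩ := exists_pow_eq_self_of_coprime (x := w) (n := 4) (by
      rw [show 4 = 2 ^ 2 from rfl]
      exact Nat.Coprime.pow_left 2 (Nat.coprime_two_left.mpr (hodd w hwm)))
  have hwb' : w b = b := by
    have e : w = (w ^ 4) ^ l := hl.symm
    rw [e]
    have := pow_apply_eq (h := w ^ 4) (v := b) (u := 1) (by rw [h4, mul_one]) (map_one _) l
    rwa [one_pow, mul_one] at this
  have hbb : b ^ 2 = 1 := by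
    have : (w ^ 2) b = b := by rw [pow_two, MulAut.mul_apply, hwb', hwb']
    rw [h2] at this
    rw [pow_two]
    nth_rewrite 1 [← this]
    exact inv_mul_cancel b
  have hb1 : b = 1 := by
    have h := pow_gcd_eq_one.mpr ⟨hbb, hV b⟩
    rwa [((Nat.coprime_primes Nat.prime_two hp.out).mpr (Ne.symm hp2)).gcd_eq_one, pow_one] at h
  apply hτa
  rw [hj, hb1, one_zpow, mul_one]

/-- The induced automorphism of the Frattini quotient. -/
noncomputable def frattiniAut (P : Type*) [Group P] : MulAut P →* MulAut (P ⧸ frattini P) where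
  toFun e := QuotientGroup.congr (frattini P) (frattini P) e (Cores.map_frattini_equiv e)
  map_one' := MulEquiv.ext fun x => by obtain ⟨x, rfl⟩ := QuotientGroup.mk'_surjective _ x; rfl
  map_mul' _ _ := MulEquiv.ext fun x => by obtain ⟨x, rfl⟩ := QuotientGroup.mk'_surjective _ x; rfl

theorem sylow_le_pCore {X : Type*} [Group X] [Finite X] [Group.IsSolvable X]
    (hX : Odd (Nat.card X)) {p : ℕ} [hp : Fact p.Prime] (hcore : Cfsg.pPrimeCore p X = ⊥)
    (S : Sylow p X) (hS : IsCyclic ↥(commutator (S : Subgroup X))) :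
    (S : Subgroup X) ≤ Cfsg.pCore p X := by
  classical
  by_cases hd : p ∣ Nat.card X
  swap
  · have : (S : Subgroup X) = ⊥ := by
      refine Subgroup.eq_bot_of_card_eq _ ?_
      rw [S.card_eq_multiplicity, Nat.factorization_eq_zero_of_not_dvd hd, pow_zero]
    rw [this]; exact bot_le
  have hp2 : p ≠ 2 := by
    rintro rfl
    exact absurd (even_iff_two_dvd.mpr hd) (Nat.not_even_iff_odd.mpr hX)
  have hP := Components.pCore_isPGroup (G := X) p
  set P := Cfsg.pCore p X with hPdef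
  haveI : P.Normal := by rw [hPdef]; infer_instance
  have hPS : P ≤ (S : Subgroup X) := hP.le_sylow_of_normal S
  have hcent : Subgroup.centralizer (P : Set X) ≤ P := by
    have hF := Components.genFitting_eq_pCore_of (p := p) (G := X) hcore
      (Components.layer_eq_bot_of_solvable inferInstance)
    have := Components.centralizer_genFitting_le (G := X)
    rwa [hF] at this
  -- the Frattini quotient
  have hexp : ∀ v : ↥P ⧸ frattini ↥P, v ^ p = 1 := fun v => Cores.pow_eq_one_quotient_frattini hP v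
  haveI := hP.isNilpotent
  letI : CommGroup (↥P ⧸ frattini ↥P) :=
    { (inferInstance : Group (↥P ⧸ frattini ↥P)) with
      mul_comm := fun x y => by
        obtain ⟨x, rfl⟩ := QuotientGroup.mk'_surjective _ x
        obtain ⟨y, rfl⟩ := QuotientGroup.mk'_surjective _ y
        rw [← map_mul, ← map_mul]
        refine QuotientGroup.eq.mpr (Cores.commutator_le_frattini ?_)
        have e : (x * y)⁻¹ * (y * x) = ⁅y⁻¹, x⁻¹⁆ := by rw [commutatorElement_def]; group
        rw [e, commutator_def]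
        exact Subgroup.commutator_mem_commutator (Subgroup.mem_top _) (Subgroup.mem_top _) }
  let ρ : X →* MulAut (↥P ⧸ frattini ↥P) := (frattiniAut ↥P).comp MulAut.conjNormal
  have hρ : ∀ (g : X) (x : ↥P), ρ g (QuotientGroup.mk' _ x) =
      QuotientGroup.mk' _ (⟨g * x * g⁻¹, (inferInstance : P.Normal).conj_mem x x.2 g⟩ : ↥P) := fun g x => rfl
  -- the kernel is a `p`-group
  have hker : IsPGroup p ↥ρ.ker := by
    intro k
    obtain ⟨e, m, hm, hord⟩ := Nat.exists_eq_pow_mul_and_not_dvd (orderOf_pos (k : X)).ne' p hp.out.ne_one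
    refine ⟨e, Subtype.ext ?_⟩
    rw [SubmonoidClass.coe_pow, OneMemClass.coe_one]
    set c := (k : X) ^ p ^ e with hc
    have hcm : c ^ m = 1 := by rw [hc, ← pow_mul, ← hord, pow_orderOf_eq_one]
    have hco : (orderOf c).Coprime p :=
      (hp.out.coprime_iff_not_dvd.mpr hm).symm.coprime_dvd_left (orderOf_dvd_of_pow_eq_one hcm)
    obtain ⟨N, hN⟩ := IsPGroup.iff_card.mp (hP.to_subgroup (frattini ↥P))
    have hAC : Subgroup.zpowers c ≤ Subgroup.centralizer (P : Set X) := by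
      refine Coprime.le_centralizer_of_frattini ?_ ?_
      · rw [Nat.card_zpowers, hN]; exact hco.pow_right N
      · intro d hd x hx
        have hdk : d ∈ ρ.ker := (Subgroup.zpowers_le.mpr (ρ.ker.pow_mem k.2 _)) hd
        have h := hρ d ⟨x, hx⟩
        rw [MonoidHom.mem_ker.mp hdk, MulAut.one_apply] at h
        have h' := QuotientGroup.eq.mp h
        obtain ⟨y, hy⟩ : ∃ y : ↥P, y = ⟨x, hx⟩⁻¹ * ⟨d * x * d⁻¹, (inferInstance : P.Normal).conj_mem x hx d⟩ := ⟨_, rfl⟩
        rw [← hy] at h'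
        refine ⟨⟨x, hx⟩ * y * (⟨x, hx⟩ : ↥P)⁻¹, (inferInstance : (frattini ↥P).Normal).conj_mem y h' _, ?_⟩
        rw [hy]
        simp [mul_assoc]
    obtain ⟨n, hn⟩ := hP ⟨c, hcent (hAC (Subgroup.mem_zpowers c))⟩
    have := pow_gcd_eq_one.mpr ⟨congrArg Subtype.val hn, pow_orderOf_eq_one c⟩
    rwa [(hco.symm.pow_left n).gcd_eq_one, pow_one] at this
  -- the centre of the transvections
  obtain ⟨a, ha⟩ : ∃ a : ↥P ⧸ frattini ↥P, ∀ s ∈ (S : Subgroup X), ∀ v, ∃ i : ℤ, ρ s v = v * a ^ i := by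
    let D := (commutator ↥(S : Subgroup X)) ⊓ P.subgroupOf (S : Subgroup X)
    haveI : IsCyclic ↥D :=
      isCyclic_of_injective (Subgroup.inclusion (inf_le_left : D ≤ commutator ↥(S : Subgroup X)))
        (Subgroup.inclusion_injective _)
    obtain ⟨d, hd⟩ := IsCyclic.exists_generator (α := ↥D)
    refine ⟨QuotientGroup.mk' _ (⟨((d : ↥(S : Subgroup X)) : X), d.2.2⟩ : ↥P), fun s hs v => ?_⟩
    obtain ⟨x, rfl⟩ := QuotientGroup.mk'_surjective _ v
    let s' : ↥(S : Subgroup X) := ⟨s, hs⟩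
    let x' : ↥(S : Subgroup X) := ⟨x, hPS x.2⟩
    have hmem : x'⁻¹ * s' * x' * s'⁻¹ ∈ D := by
      refine ⟨?_, P.mul_mem (P.inv_mem x.2) (Subgroup.Normal.conj_mem ‹P.Normal› x x.2 s) |> fun h => ?_⟩
      · have e : x'⁻¹ * s' * x' * s'⁻¹ = ⁅x'⁻¹, s'⁆ := by rw [commutatorElement_def]; group
        rw [e, commutator_def]
        exact Subgroup.commutator_mem_commutator (Subgroup.mem_top _) (Subgroup.mem_top _)
      · show ((x : X)⁻¹ * s * x * s⁻¹) ∈ P
        simpa [mul_assoc] using h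
    obtain ⟨i, hi⟩ := Subgroup.mem_zpowers_iff.mp (hd ⟨_, hmem⟩)
    refine ⟨i, ?_⟩
    rw [hρ, ← map_zpow, ← map_mul]
    refine congrArg _ (Subtype.ext ?_)
    have hi' : ((d : ↥(S : Subgroup X)) : X) ^ i = (x : X)⁻¹ * s * x * s⁻¹ :=
      congrArg (fun w : ↥D => ((w : ↥(S : Subgroup X)) : X)) hi |> fun h => by simpa [s', x'] using h
    show s * (x : X) * s⁻¹ = (x : X) * (((d : ↥(S : Subgroup X)) : X) ^ i)
    rw [hi']
    group
  have hodd : ∀ w : MulAut (↥P ⧸ frattini ↥P), w ∈ ρ.range → Odd (orderOf w) := by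
    rintro _ ⟨g, rfl⟩
    exact hX.of_dvd_nat ((orderOf_map_dvd ρ g).trans (orderOf_dvd_natCard g))
  intro s hs
  -- every two conjugates generate a p-group modulo the kernel
  obtain ⟨N, hN, hNp, hsN⟩ := Involutions.baer_suzuki (p := p) (Subgroup.zpowers s)
    (S.2.to_le (Subgroup.zpowers_le.mpr hs)) fun g => by
      set M := Subgroup.zpowers s ⊔ (Subgroup.zpowers s).map (MulAut.conj g).toMonoidHom with hM
      have himg : IsPGroup p ↥(Subgroup.closure ({ρ s, ρ (g * s * g⁻¹)} : Set (MulAut (↥P ⧸ frattini ↥P)))) := by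
        obtain ⟨k, hk⟩ := S.2 ⟨s, hs⟩
        have hk' : s ^ p ^ k = 1 := congrArg Subtype.val hk
        refine transvection_pair hp2 hexp _ _ ⟨k, by rw [← map_pow, hk', map_one]⟩
          ⟨k, by rw [← map_pow, conj_pow, hk', mul_one, mul_inv_cancel, map_one]⟩ a (ρ g a)
          (ha s hs) (fun v => ?_) fun w hw => hodd w ?_
        · obtain ⟨i, hi⟩ := ha s hs (ρ g⁻¹ v)
          refine ⟨i, ?_⟩
          rw [map_mul, map_mul, MulAut.mul_apply, MulAut.mul_apply, hi, map_mul, map_zpow,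
            ← MulAut.mul_apply, ← map_mul, mul_inv_cancel, map_one, MulAut.one_apply]
        · refine (Subgroup.closure_le _).mpr ?_ hw
          rintro _ (rfl | rfl)
          exacts [⟨_, rfl⟩, ⟨_, rfl⟩]
      have hcomap := himg.comap_of_ker_isPGroup ρ hker
      refine hcomap.to_le ?_
      rw [hM, sup_le_iff, Subgroup.zpowers_le, MonoidHom.map_zpowers, Subgroup.zpowers_le]
      exact ⟨Subgroup.subset_closure (by simp), Subgroup.subset_closure (by simp)⟩
  haveI := hN
  exact (Components.le_pCore hN hNp) (hsN (Subgroup.mem_zpowers s))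

/-- Let X be a finite solvable group of odd order, p a prime and S a Sylow p-subgroup of X whose commutator subgroup is
cyclic. Then the product of the largest normal subgroup of X of order prime to p with S is a normal subgroup of X. -/
theorem result {X : Type*} [Group X] [Finite X] [Group.IsSolvable X]
    (hX : Odd (Nat.card X)) (p : ℕ) [Fact p.Prime] (S : Sylow p X) (hS : IsCyclic (commutator (S : Subgroup X))) :
    (Cfsg.pPrimeCore p X ⊔ (S : Subgroup X)).Normal := by
  haveI : Fact p.Prime := inferInstance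
  set O := Cfsg.pPrimeCore p X with hO
  set q := QuotientGroup.mk' O with hq
  have hqs : Function.Surjective q := QuotientGroup.mk'_surjective _
  let T : Sylow p (X ⧸ O) := S.mapSurjective hqs
  have hTcoe : (T : Subgroup (X ⧸ O)) = (S : Subgroup X).map q := rfl
  haveI : Group.IsSolvable (X ⧸ O) := solvable_of_surjective hqs
  have hodd : Odd (Nat.card (X ⧸ O)) := hX.of_dvd_nat (Subgroup.card_quotient_dvd_card O)
  let f : (S : Subgroup X) →* (T : Subgroup (X ⧸ O)) := q.subgroupMap (S : Subgroup X)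
  have hf : Function.Surjective f := MonoidHom.subgroupMap_surjective _ _
  haveI : IsCyclic ↥(commutator ↥(T : Subgroup (X ⧸ O))) := by
    have e : (commutator ↥(S : Subgroup X)).map f = commutator ↥(T : Subgroup (X ⧸ O)) := by
      rw [commutator_def, Subgroup.map_commutator, Subgroup.map_top_of_surjective _ hf, commutator_def]
    rw [← e]
    exact isCyclic_of_surjective _ (f.subgroupMap_surjective (commutator ↥(S : Subgroup X)))
  have hle := sylow_le_pCore hodd
    (Cfsg.Agent.Lib.Components.pPrimeCore_quotient_eq_bot (G := X) p) T inferInstance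
  have heq : (T : Subgroup (X ⧸ O)) = Cfsg.pCore p (X ⧸ O) :=
    le_antisymm hle ((Cfsg.Agent.Lib.Components.pCore_isPGroup p).le_sylow_of_normal T)
  have hn : ((T : Subgroup (X ⧸ O)).comap q).Normal := by
    rw [heq]; exact (inferInstance : (Cfsg.pCore p (X ⧸ O)).Normal).comap q
  rwa [hTcoe, Subgroup.comap_map_eq, hq, QuotientGroup.ker_mk', sup_comm] at hn

end Cfsg.Agent.S0521
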