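import Cfsg.Statements.S0522
import Cfsg.Agent.Lib.OddLocal.TransitivityThm
import Cfsg.Agent.Lib.OddLocal.TransitivityHyp
import Cfsg.Agent.Lib.Components.Local

set_option autoImplicit false
open Cfsg

namespace Cfsg.Agent.S0522

/-- Transitivity Theorem (odd-order setting). Let X be a finite group of odd order in which the normalizer of every
nontrivial p-subgroup is solvable, P a Sylow p-subgroup, and B an abelian subgroup of P, normalized by P, with
C_P(B) = B and containing an elementary abelian subgroup of order p^3. Then for every prime q ≠ p, any two q-subgroups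
that are maximal among the q-subgroups normalized by B are conjugate by an element of the centralizer of B. -/
theorem result {X : Type*} [Group X] [Finite X] (hX : Odd (Nat.card X)) (p : ℕ)
    [Fact p.Prime] (hloc : ∀ T : Subgroup X, IsPGroup p T → T ≠ ⊥ → Group.IsSolvable (Subgroup.normalizer (T : Set X)))
    (P : Sylow p X) (B : Subgroup X) (hBP : B ≤ (P : Subgroup X))
    (hBn : ∀ x ∈ (P : Subgroup X), ∀ b ∈ B, x * b * x⁻¹ ∈ B) (hBa : IsMulCommutative B)
    (hBc : (P : Subgroup X) ⊓ Subgroup.centralizer (B : Set X) = B)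
    (hB3 : ∃ E : Subgroup X, E ≤ B ∧ (∀ e ∈ E, e ^ p = 1) ∧ p ^ 3 ≤ Nat.card E)
    (q : ℕ) [Fact q.Prime] (hqp : q ≠ p) (Q₁ Q₂ : Subgroup X)
    (h₁ : IsPGroup q Q₁ ∧ B ≤ Subgroup.normalizer (Q₁ : Set X) ∧
      ∀ R : Subgroup X, IsPGroup q R → B ≤ Subgroup.normalizer (R : Set X) → Q₁ ≤ R → R = Q₁)
    (h₂ : IsPGroup q Q₂ ∧ B ≤ Subgroup.normalizer (Q₂ : Set X) ∧
      ∀ R : Subgroup X, IsPGroup q R → B ≤ Subgroup.normalizer (R : Set X) → Q₂ ≤ R → R = Q₂) :
    ∃ c ∈ Subgroup.centralizer (B : Set X), Q₂ = Q₁.map (MulAut.conj c).toMonoidHom := by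
  obtain ⟨E, hEB, hEp, hE3⟩ := hB3
  have hBpg : IsPGroup p ↥B := P.isPGroup'.to_le hBP
  have hpodd : p ≠ 2 := by
    rintro rfl
    have h1 : 2 ∣ Nat.card ↥E := by
      obtain ⟨n, hn⟩ := IsPGroup.iff_card.mp (hBpg.to_le hEB)
      have hn0 : n ≠ 0 := by
        rintro rfl
        rw [hn] at hE3
        norm_num at hE3
      exact hn ▸ dvd_pow_self 2 hn0
    obtain ⟨k, hk⟩ := hX
    have := h1.trans (Subgroup.card_subgroup_dvd_card E)
    omega
  have hPn : (P : Subgroup X) ≤ Subgroup.normalizer (B : Set X) := by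
    intro x hx
    refine Subgroup.mem_set_normalizer_iff.mpr fun b => ⟨fun hb => hBn x hx b hb, fun hb => ?_⟩
    have := hBn x⁻¹ (inv_mem hx) _ hb
    simpa [mul_assoc] using this
  have hE' : ¬ Cfsg.PRankLE p 2 ↥B := by
    intro h
    have hc := h (E.subgroupOf B) ⟨⟨fun a b => Subtype.ext (hBa.is_comm.comm (a : ↥B) (b : ↥B))⟩⟩
      (fun a ha => Subtype.ext (hEp _ ha))
    rw [Nat.card_congr (Subgroup.subgroupOfEquivOfLe hEB).toEquiv] at hc
    have : p ^ 2 < p ^ 3 := Nat.pow_lt_pow_right (Fact.out : p.Prime).one_lt (by norm_num)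
    omega
  have hmax : ∀ Q : Subgroup X, IsPGroup q Q ∧ B ≤ Subgroup.normalizer (Q : Set X) ∧
      (∀ R : Subgroup X, IsPGroup q R → B ≤ Subgroup.normalizer (R : Set X) → Q ≤ R → R = Q) →
      Q ∈ Cfsg.maxInvSubgroups ⊤ B {q} := by
    rintro Q ⟨hQ, hQn, hQm⟩
    refine ⟨⟨le_top, fun r hr hd => ?_, hQn⟩, fun R hR hQR =>
      hQm R (Cfsg.Agent.Lib.OddLocal.isPGroup_of_mem_inv hR) hR.2.2 hQR⟩
    obtain ⟨n, hn⟩ := IsPGroup.iff_card.mp hQ
    exact (Nat.prime_dvd_prime_iff_eq hr Fact.out).mp (hr.dvd_of_dvd_pow (hn ▸ hd))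
  obtain ⟨k, hk, hQ⟩ := Cfsg.Agent.Lib.OddLocal.transitivity_of_constrained
    (fun T hT hT1 => Cfsg.Agent.Lib.Components.isPConstrained_of_solvable (hloc T hT hT1))
    (fun h => absurd h hpodd) hBpg hBa
    (fun x hx hxp => Cfsg.Agent.Lib.OddLocal.mem_of_centralizer_of_isSCN P hBa ⟨hBP, hPn, hBc⟩ hx hxp)
    hE' hqp Q₁ (hmax Q₁ h₁) Q₂ (hmax Q₂ h₂)
  exact ⟨k, Cfsg.Agent.Lib.OddLocal.piCoreOf_le _ _ hk, hQ⟩

end Cfsg.Agent.S0522
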