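import Cfsg.Statements.S0529
import Cfsg.Agent.Lib.Solvable.Supersolvable

set_option autoImplicit false
open Cfsg

namespace Cfsg.Agent.S0529

/-- A finite supersolvable group has a chain of normal subgroups, from the trivial subgroup to the whole group, in which every step has prime index and the primes occurring are non-increasing as one goes up the chain. -/
theorem result {G : Type*} [Group G] [Finite G] (hG : Cfsg.IsSupersolvable G) : ∃ (n : ℕ) (H : Fin (n + 1) → Subgroup G), H 0 = ⊥ ∧ H (Fin.last n) = ⊤ ∧ (∀ i, (H i).Normal) ∧ (∀ i : Fin n, H i.castSucc ≤ H i.succ ∧ ((H i.castSucc).relIndex (H i.succ)).Prime) ∧ ∀ i j : Fin n, i ≤ j → (H j.castSucc).relIndex (H j.succ) ≤ (H i.castSucc).relIndex (H i.succ) := by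
  obtain ⟨c, hc⟩ : ∃ c, Nat.card G = c := ⟨_, rfl⟩
  induction c using Nat.strongRecOn generalizing G with
  | ind c ih =>
  cases subsingleton_or_nontrivial G with
  | inl hs => exact ⟨0, fun _ => ⊥, rfl, Subsingleton.elim _ _, fun _ => inferInstance,
      fun i => i.elim0, fun i => i.elim0⟩
  | inr hn =>
  have hne : Nat.card G ≠ 1 := Finite.one_lt_card.ne'
  set p := (Nat.card G).primeFactors.max' (Nat.nonempty_primeFactors.mpr Finite.one_lt_card) with hp
  have hpmem := Finset.max'_mem (Nat.card G).primeFactors (Nat.nonempty_primeFactors.mpr Finite.one_lt_card)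
  rw [← hp] at hpmem
  have hpp : p.Prime := Nat.prime_of_mem_primeFactors hpmem
  have := Fact.mk hpp
  have hmax : ∀ q : ℕ, q.Prime → q ∣ Nat.card G → q ≤ p := fun q hq hd =>
    Finset.le_max' _ q (Nat.mem_primeFactors.mpr ⟨hq, hd, Nat.card_pos.ne'⟩)
  obtain ⟨P⟩ : Nonempty (Sylow p G) := inferInstance
  have hPn := Lib.Solvable.sylow_normal_of_max_prime hG hmax P
  obtain ⟨N, hNn, hNp, hNP⟩ := Lib.Solvable.exists_normal_card_prime_le hG (P : Subgroup G)
    (P.ne_bot_of_dvd_card (Nat.dvd_of_mem_primeFactors hpmem))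
  have hNc : Nat.card N = p := by
    obtain ⟨k, hk⟩ := IsPGroup.iff_card.mp P.2
    exact (Nat.prime_dvd_prime_iff_eq hNp hpp).mp
      (hNp.dvd_of_dvd_pow (hk ▸ Subgroup.card_dvd_of_le hNP))
  obtain ⟨n, H, h0, hl, hnorm, hprime, hmono⟩ := ih _ (hc ▸ Lib.Solvable.card_quotient_lt hNp)
    (Lib.Solvable.isSupersolvable_quotient hG N) rfl
  let π : G →* G ⧸ N := QuotientGroup.mk' N
  have hπ : Function.Surjective π := QuotientGroup.mk'_surjective N
  have hcomap : ∀ i : Fin n, ((H i.castSucc).comap π).relIndex ((H i.succ).comap π) =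
      (H i.castSucc).relIndex (H i.succ) := fun i => by
    rw [Subgroup.relIndex_comap, Subgroup.map_comap_eq_self_of_surjective hπ]
  have hker : (H 0).comap π = N := by
    rw [h0, MonoidHom.comap_bot, QuotientGroup.ker_mk']
  refine ⟨n + 1, Fin.cons ⊥ fun i => (H i).comap π, by simp, ?_, ?_, ?_, ?_⟩
  · rw [← Fin.succ_last, Fin.cons_succ, hl, Subgroup.comap_top]
  · intro i
    refine Fin.cases ?_ (fun j => ?_) i
    · simpa using Subgroup.normal_bot
    · simpa using (hnorm j).comap π
  · intro i
    refine Fin.cases ?_ (fun j => ?_) i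
    · simp only [Fin.castSucc_zero, Fin.cons_zero, Fin.cons_succ, hker]
      exact ⟨bot_le, by rw [Subgroup.relIndex_bot_left]; exact hNp⟩
    · simp only [Fin.cons_succ, ← Fin.succ_castSucc, hcomap]
      exact ⟨Subgroup.comap_mono (hprime j).1, (hprime j).2⟩
  · intro i
    refine Fin.cases ?_ (fun i => ?_) i
    · intro j _
      refine Fin.cases ?_ (fun j => ?_) j
      · exact le_rfl
      · simp only [Fin.castSucc_zero, Fin.cons_zero, Fin.cons_succ, ← Fin.succ_castSucc, hcomap, hker,
          Subgroup.relIndex_bot_left, hNc]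
        exact hmax _ (hprime j).2 (((H j.castSucc).relIndex_dvd_card (H j.succ)).trans
          ((Subgroup.card_subgroup_dvd_card _).trans (Subgroup.card_quotient_dvd_card N)))
    · intro j hij
      obtain ⟨j, rfl⟩ : ∃ j' : Fin n, j = j'.succ := ⟨_, (Fin.succ_pred j
        (fun h => by rw [h] at hij; exact (Fin.succ_pos i).not_ge hij)).symm⟩
      simp only [Fin.cons_succ, ← Fin.succ_castSucc, hcomap]
      exact hmono i j (Fin.succ_le_succ_iff.mp hij)

end Cfsg.Agent.S0529
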