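import Cfsg.Statements.S0530
import Cfsg.Agent.Lib.Solvable.Supersolvable
import Mathlib.GroupTheory.IndexNormal

set_option autoImplicit false
open Cfsg

namespace Cfsg.Agent.S0530

/-- A finite group whose order is twice a prime power is supersolvable. -/
theorem result {G : Type*} [Group G] [Finite G] (p n : ℕ) (hp : p.Prime) (hG : Nat.card G = 2 * p ^ n) : Cfsg.IsSupersolvable G := by
  obtain ⟨c, hc⟩ : ∃ c, Nat.card G = c := ⟨_, rfl⟩
  induction c using Nat.strongRecOn generalizing G n with
  | ind c ih =>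
  have := Fact.mk hp
  by_cases hn : n = 0
  · subst hn
    rw [pow_zero, mul_one] at hG
    have : Fact (Nat.Prime 2) := ⟨Nat.prime_two⟩
    have hcyc : IsCyclic G := isCyclic_of_prime_card hG
    refine Lib.Solvable.isSupersolvable_of_cyclic_normal ⊤
      (isCyclic_of_injective (⊤ : Subgroup G).subtype (Subgroup.subtype_injective _)) ?_
    have : Subsingleton (G ⧸ (⊤ : Subgroup G)) := QuotientGroup.subsingleton_quotient_top
    exact Lib.Solvable.isSupersolvable_of_subsingleton _
  -- a normal subgroup of order `p`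
  obtain ⟨N, hNn, hNc⟩ : ∃ N : Subgroup G, N.Normal ∧ Nat.card N = p := by
    by_cases h2 : p = 2
    · subst h2
      have hG' : IsPGroup 2 G := IsPGroup.of_card (n := n + 1) (by rw [hG, pow_succ, mul_comm])
      have : Nontrivial G := by
        rw [← Finite.one_lt_card_iff_nontrivial, hG]
        have := Nat.one_le_pow n 2 two_pos
        omega
      have hZ := hG'.bot_lt_center.ne'
      obtain ⟨q, hq, hqd⟩ := Nat.exists_prime_and_dvd (n := Nat.card (Subgroup.center G))
        (fun h => hZ (Subgroup.card_eq_one.mp h))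
      have hq2 : q = 2 := (Nat.prime_dvd_prime_iff_eq hq Nat.prime_two).mp
        (hq.dvd_of_dvd_pow (m := 2) (n := n + 1) (by
          rw [pow_succ, mul_comm, ← hG]; exact hqd.trans (Subgroup.card_subgroup_dvd_card _)))
      subst hq2
      obtain ⟨z, hz⟩ := exists_prime_orderOf_dvd_card' (G := Subgroup.center G) 2 hqd
      refine ⟨Subgroup.zpowers (z : G), ⟨fun x hx g => ?_⟩,
        by rw [Nat.card_zpowers, Subgroup.orderOf_coe, hz]⟩
      have : x ∈ Subgroup.center G := Subgroup.zpowers_le.mpr z.2 hx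
      rw [Subgroup.mem_center_iff.mp this g, mul_inv_cancel_right]
      exact hx
    · obtain ⟨P⟩ : Nonempty (Sylow p G) := inferInstance
      have hPc : Nat.card P = p ^ n := by
        rw [P.card_eq_multiplicity, hG, Nat.factorization_mul two_ne_zero (pow_ne_zero _ hp.ne_zero),
          Finsupp.add_apply, Nat.Prime.factorization_pow hp, Finsupp.single_eq_same,
          Nat.prime_two.factorization, Finsupp.single_eq_of_ne h2, zero_add]
      have hPi : (P : Subgroup G).index = 2 := by
        have h1 := (P : Subgroup G).card_mul_index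
        rw [hPc, hG, mul_comm 2] at h1
        exact Nat.eq_of_mul_eq_mul_left (pow_pos hp.pos n) h1
      have hPn : (P : Subgroup G).Normal := Subgroup.normal_of_index_eq_two hPi
      have : Nontrivial P := by
        rw [← Finite.one_lt_card_iff_nontrivial, hPc]
        exact Nat.one_lt_pow hn hp.one_lt
      have hZ := P.2.bot_lt_center.ne'
      obtain ⟨k, hk, hkc⟩ := Lib.Coprime.exists_card_eq_prime_pow hp (P.2.to_subgroup _) hZ
      obtain ⟨z', hz'⟩ := exists_prime_orderOf_dvd_card' (G := Subgroup.center P) p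
        (hkc ▸ dvd_pow_self p hk.ne')
      obtain ⟨z, hzC, hzo, hzc⟩ : ∃ z : G, z ∈ P ∧ orderOf z = p ∧ ∀ x ∈ P, x * z = z * x :=
        ⟨(z' : P), (z' : P).2, by rw [Subgroup.orderOf_coe, Subgroup.orderOf_coe, hz'],
          fun x hx => congrArg Subtype.val (Subgroup.mem_center_iff.mp z'.2 ⟨x, hx⟩)⟩
      have hzp : z ^ p = 1 := hzo ▸ pow_orderOf_eq_one z
      obtain ⟨g, hg⟩ : ∃ g : G, g ∉ (P : Subgroup G) := by
        by_contra h
        push Not at h
        rw [show (P : Subgroup G) = ⊤ from eq_top_iff.mpr fun x _ => h x, Subgroup.index_top] at hPi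
        omega
      have hmem : ∀ x : G, x ∈ (P : Subgroup G) ∨ g⁻¹ * x ∈ (P : Subgroup G) := by
        intro x
        by_cases hx : x ∈ (P : Subgroup G)
        · exact Or.inl hx
        · exact Or.inr ((Subgroup.mul_mem_iff_of_index_two hPi).mpr
            ⟨fun h => absurd (inv_mem_iff.mp h) hg, fun h => absurd h hx⟩)
      set y := g * z * g⁻¹ with hy
      have hgg : g * g ∈ (P : Subgroup G) := (Subgroup.mul_mem_iff_of_index_two hPi).mpr Iff.rfl
      have hyP : y ∈ (P : Subgroup G) := hPn.conj_mem z hzC g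
      have hyc : ∀ x ∈ (P : Subgroup G), x * y = y * x := by
        intro x hx
        have h1 := hzc (g⁻¹ * x * g) (show g⁻¹ * x * g ∈ (P : Subgroup G) by simpa using hPn.conj_mem x hx g⁻¹)
        calc x * y = g * ((g⁻¹ * x * g) * z) * g⁻¹ := by rw [hy]; group
          _ = y * x := by rw [h1, hy]; group
      have hgy : g * y * g⁻¹ = z := by
        calc g * y * g⁻¹ = (g * g) * z * (g * g)⁻¹ := by rw [hy]; group
          _ = z := by rw [hzc _ hgg, mul_inv_cancel_right]
      have hyp : y ^ p = 1 := by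
        rw [hy, ← MulAut.conj_apply, ← map_pow, hzp, map_one]
      -- an element of order `p` whose span is invariant under `g`
      obtain ⟨w, hwo, hwc, hwg⟩ : ∃ w : G, orderOf w = p ∧ (∀ x ∈ (P : Subgroup G), x * w = w * x) ∧
          (g * w * g⁻¹ = w ∨ g * w * g⁻¹ = w⁻¹) := by
        by_cases h1 : z * y = 1
        · exact ⟨z, hzo, hzc, Or.inr (by rw [← hy]; exact eq_inv_of_mul_eq_one_right h1)⟩
        · refine ⟨z * y, orderOf_eq_prime ?_ h1, fun x hx => ?_, Or.inl ?_⟩
          · rw [Commute.mul_pow (hyc z hzC), hzp, hyp, one_mul]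
          · exact (Commute.mul_right (hzc x hx) (hyc x hx)).eq
          · calc g * (z * y) * g⁻¹ = (g * z * g⁻¹) * (g * y * g⁻¹) := by group
              _ = y * z := by rw [hgy]
              _ = z * y := (hyc z hzC).symm
      refine ⟨Subgroup.zpowers w, ⟨fun v hv x => ?_⟩, by rw [Nat.card_zpowers, hwo]⟩
      obtain ⟨i, rfl⟩ := hv
      have hfix : ∀ x ∈ (P : Subgroup G), x * w ^ i * x⁻¹ = w ^ i := fun x hx => by
        rw [((show Commute x w from hwc x hx).zpow_right i).eq, mul_inv_cancel_right]
      rcases hmem x with hx | hx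
      · rw [hfix x hx]; exact ⟨i, rfl⟩
      · have h3 : x * w ^ i * x⁻¹ = g * w ^ i * g⁻¹ := by
          calc x * w ^ i * x⁻¹ = g * ((g⁻¹ * x) * w ^ i * (g⁻¹ * x)⁻¹) * g⁻¹ := by group
            _ = _ := by rw [hfix _ hx]
        rw [h3, ← MulAut.conj_apply, map_zpow, MulAut.conj_apply]
        rcases hwg with h4 | h4 <;> rw [h4]
        · exact ⟨i, rfl⟩
        · exact zpow_mem (inv_mem (Subgroup.mem_zpowers w)) i
  have hcyc : IsCyclic N := isCyclic_of_prime_card hNc
  refine Lib.Solvable.isSupersolvable_of_cyclic_normal N hcyc ?_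
  have hlt := Lib.Solvable.card_quotient_lt (N := N) (hNc ▸ hp)
  obtain ⟨m, rfl⟩ := Nat.exists_eq_succ_of_ne_zero hn
  refine ih _ (hc ▸ hlt) m ?_ rfl
  have h1 := Lib.Coprime.card_quotient_mul_card N
  rw [hNc, hG, Nat.succ_eq_add_one, pow_succ, ← mul_assoc] at h1
  exact Nat.eq_of_mul_eq_mul_right hp.pos h1

end Cfsg.Agent.S0530
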