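import Cfsg.Statements.S0534
import Cfsg.Agent.Lib.Solvable.Supersolvable
import Cfsg.Agent.Lib.Coprime.Hall
import Mathlib.Data.Nat.Factorization.Basic

set_option autoImplicit false
open Cfsg
open Cfsg.Agent.Lib

namespace Cfsg.Agent.S0534

universe u

theorem abelian_supersolvable : ∀ (n : ℕ) (A : Type u) [Group A] [Finite A], Nat.card A = n →
    IsMulCommutative A → Cfsg.IsSupersolvable A := by
  intro n
  induction n using Nat.strongRecOn with
  | ind n ih =>
  intro A _ _ hn hA
  rcases subsingleton_or_nontrivial A with h | h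
  · exact Lib.Solvable.isSupersolvable_of_subsingleton A
  obtain ⟨x, hx⟩ := exists_ne (1 : A)
  haveI : (Subgroup.zpowers x).Normal := ⟨fun y hy g => by
    rwa [hA.is_comm.comm g y, mul_inv_cancel_right]⟩
  refine Lib.Solvable.isSupersolvable_of_cyclic_normal (Subgroup.zpowers x) inferInstance
    (ih _ ?_ _ rfl ⟨⟨fun a b => ?_⟩⟩)
  · rw [← hn, Subgroup.card_eq_card_quotient_mul_card_subgroup (Subgroup.zpowers x)]
    exact lt_mul_of_one_lt_right Nat.card_pos
      ((Subgroup.zpowers x).one_lt_card_iff_ne_bot.mpr (Subgroup.zpowers_ne_bot.mpr hx))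
  · induction a using QuotientGroup.induction_on with
    | _ a =>
    induction b using QuotientGroup.induction_on with
    | _ b => rw [← QuotientGroup.mk_mul, hA.is_comm.comm a b, QuotientGroup.mk_mul]

/-- A product with every order. -/
theorem result {G A : Type*} [Group G] [CommGroup A] [Finite G] [Finite A] [Group.IsSolvable G] (hA : ∀ p : ℕ, p.Prime → p ∣ Nat.card A → p ∣ Nat.card G) (hexp : ∀ p : ℕ, p.Prime → p ∣ Nat.card G → (Nat.card A).factorization p + 1 = (Nat.card G).factorization p) : Cfsg.HasSubgroupOfEveryOrder (G × A) := by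
  classical
  intro d hd
  rw [Nat.card_prod] at hd
  have hd0 : d ≠ 0 := fun h => (Nat.mul_pos (Nat.card_pos (α := G)) (Nat.card_pos (α := A))).ne' (Nat.eq_zero_of_zero_dvd (h ▸ hd))
  obtain ⟨h, k, hhk, hcop, hh, hk⟩ := Lib.Coprime.exists_prime_set_split
    (fun p => (Nat.card G).factorization p ≤ d.factorization p) (Nat.card G) Nat.card_pos.ne'
  obtain ⟨H, hH⟩ := Lib.Coprime.exists_subgroup_card_eq_of_solvable (G := G) hhk hcop
  have hh0 : h ≠ 0 := hH ▸ Nat.card_pos.ne'
  have hk0 : k ≠ 0 := fun e => Nat.card_pos.ne' (hhk.trans (by rw [e, mul_zero]) : Nat.card G = 0)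
  have hf : ∀ p : ℕ, p.Prime → (Nat.card G).factorization p = h.factorization p + k.factorization p := by
    intro p _
    rw [hhk, Nat.factorization_mul hh0 hk0, Finsupp.add_apply]
  have hhd : h ∣ d := by
    rw [← Nat.factorization_prime_le_iff_dvd hh0 hd0]
    intro p hp
    by_cases hph : p ∣ h
    · have := hh p hp hph
      have := hf p hp
      omega
    · rw [Nat.factorization_eq_zero_of_not_dvd hph]; exact Nat.zero_le _
  obtain ⟨e, rfl⟩ := hhd
  obtain ⟨-, he0⟩ := mul_ne_zero_iff.mp hd0
  have hed : e ∣ Nat.card A := by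
    rw [← Nat.factorization_prime_le_iff_dvd he0 Nat.card_pos.ne']
    intro p hp
    have h1 := (Nat.factorization_le_iff_dvd hd0 (Nat.mul_ne_zero Nat.card_pos.ne' Nat.card_pos.ne')).mpr hd p
    rw [Nat.factorization_mul hh0 he0, Finsupp.add_apply,
      Nat.factorization_mul Nat.card_pos.ne' Nat.card_pos.ne', Finsupp.add_apply, hf p hp] at h1
    by_cases hpG : p ∣ Nat.card G
    · have h2 := hexp p hp hpG
      rw [hf p hp] at h2
      by_cases hph : p ∣ h
      · have h3 : ¬ p ∣ k := fun hpk => hk p hp hpk (hh p hp hph)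
        rw [Nat.factorization_eq_zero_of_not_dvd h3] at h1
        omega
      · have h3 : h.factorization p = 0 := Nat.factorization_eq_zero_of_not_dvd hph
        have hpk : p ∣ k := (hp.dvd_mul.mp (hhk ▸ hpG)).resolve_left hph
        have h4 := hk p hp hpk
        rw [hf p hp, Nat.factorization_mul hh0 he0, Finsupp.add_apply] at h4
        omega
    · have h2 : (Nat.card A).factorization p = 0 :=
        Nat.factorization_eq_zero_of_not_dvd fun hd => hpG (hA p hp hd)
      have h3 : k.factorization p = 0 :=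
        Nat.factorization_eq_zero_of_not_dvd fun hd => hpG (hhk ▸ hd.mul_left h)
      omega
  obtain ⟨K, hK⟩ := Lib.Solvable.hasSubgroupOfEveryOrder (abelian_supersolvable _ A rfl inferInstance) e hed
  exact ⟨H.prod K, by rw [Nat.card_congr (H.prodEquiv K).toEquiv, Nat.card_prod, hH, hK]⟩

end Cfsg.Agent.S0534
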