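import Cfsg.Statements.S0535
import Cfsg.Agent.Lib.Solvable.Products
import Cfsg.Agent.Lib.Solvable.Systems
import Cfsg.Agent.Lib.Coprime.Hall

set_option autoImplicit false
open Cfsg

namespace Cfsg.Agent.S0535

universe u

theorem aux : ∀ (n : ℕ) (G : Type u) [Group G] [Finite G], Nat.card G = n →
    (∀ H : Subgroup G, H ≠ ⊥ → ∀ p : ℕ, p.Prime → p ∣ Nat.card H → ∃ K : Subgroup H, K ≠ ⊤ ∧ ∃ k : ℕ, K.index = p ^ k) →
    Group.IsSolvable G := by
  intro n
  induction n using Nat.strongRecOn with
  | ind n ih =>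
  intro G _ _ hn h
  refine Lib.Solvable.Products.isSolvable_of_complements fun p hp => ?_
  by_cases hpG : p ∣ Nat.card G
  swap
  · exact ⟨⊤, by rw [Nat.factorization_eq_zero_of_not_dvd hpG, pow_zero, Subgroup.index_top]⟩
  have hne : (⊤ : Subgroup G) ≠ ⊥ := fun e => hp.one_lt.ne' (Nat.dvd_one.mp (by
    rwa [← Subgroup.card_top, e, Subgroup.card_bot] at hpG))
  obtain ⟨K, hK, k, hk⟩ := h ⊤ hne p hp (by rwa [Subgroup.card_top])
  set L := K.map (⊤ : Subgroup G).subtype with hL
  have hLi : L.index = p ^ k := by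
    rw [hL, Subgroup.index_map_subtype, hk, Subgroup.index_top, mul_one]
  have hLt : L ≠ ⊤ := fun e => hK (Subgroup.index_eq_one.mp (hk.trans (by rw [← hLi, e, Subgroup.index_top])))
  haveI : Group.IsSolvable L := by
    refine ih _ (lt_of_lt_of_eq ?_ hn) L rfl fun H hH q hq hd => ?_
    · exact lt_of_le_of_ne L.card_le_card_group fun e => hLt (Subgroup.eq_top_of_card_eq _ e)
    · let e := H.equivMapOfInjective L.subtype L.subtype_injective
      obtain ⟨K', hK', l, hl⟩ := h (H.map L.subtype)
        (fun e => hH ((Subgroup.map_eq_bot_iff_of_injective _ L.subtype_injective).mp e)) q hq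
        (by rwa [Subgroup.card_map_of_injective L.subtype_injective])
      refine ⟨K'.comap e.toMonoidHom, fun e1 => hK' ?_, l, ?_⟩
      · rw [← Subgroup.map_comap_eq_self_of_surjective (f := e.toMonoidHom) e.surjective K', e1,
          Subgroup.map_top_of_surjective _ e.surjective]
      · rw [Subgroup.index_comap_of_surjective _ e.surjective, hl]
  obtain ⟨M, hMi⟩ : ∃ M : Subgroup L, M.index = p ^ (Nat.card L).factorization p := by
    obtain ⟨C, hC⟩ := Lib.Solvable.exists_complement_system (G := L)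
    exact ⟨C ⟨p, hp⟩, hC ⟨p, hp⟩⟩
  refine ⟨M.map L.subtype, ?_⟩
  rw [Subgroup.index_map_subtype, hMi, hLi, ← pow_add]
  congr 1
  have h1 := congrArg (fun n : ℕ => n.factorization p) L.card_mul_index
  rw [hLi, Nat.factorization_mul Nat.card_pos.ne' (pow_ne_zero _ hp.ne_zero), Finsupp.add_apply,
    hp.factorization_pow, Finsupp.single_eq_same] at h1
  exact h1

/-- A finite group in which every nontrivial subgroup has proper subgroups of prime power index for each prime divisor is solvable. -/
theorem result {G : Type*} [Group G] [Finite G] (h : ∀ H : Subgroup G, H ≠ ⊥ → ∀ p : ℕ, p.Prime → p ∣ Nat.card H → ∃ K : Subgroup H, K ≠ ⊤ ∧ ∃ k : ℕ, K.index = p ^ k) : Group.IsSolvable G := by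
  exact aux _ G rfl h

end Cfsg.Agent.S0535
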