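import Cfsg.Statements.S0541
import Cfsg.Agent.Lib.Solvable.Zipper
import Cfsg.Agent.Lib.PGroups.Subnormal

set_option autoImplicit false
open Pointwise
open Cfsg
open Pointwise

namespace Cfsg.Agent.S0541

/-- Let Z and Y be subgroups of a finite group G and p a prime. Suppose that for every g in G the subgroup generated by the conjugates of g Z g⁻¹ under Y is a p-group. Then there is a Sylow p-subgroup P of G such that Y normalizes the subgroup generated by all conjugates of Z contained in P. -/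
theorem result {G : Type*} [Group G] [Finite G] (p : ℕ) [Fact p.Prime] (Z Y : Subgroup G) (h : ∀ g : G, IsPGroup p ↥(⨆ y ∈ Y, MulAut.conj (y * g) • Z)) : ∃ P : Sylow p G, Y ≤ Subgroup.normalizer ((⨆ g ∈ {g : G | MulAut.conj g • Z ≤ (P : Subgroup G)}, MulAut.conj g • Z : Subgroup G) : Set G) := by
  classical
  let gen : Set G → Subgroup G := fun D => ⨆ g ∈ D, MulAut.conj g • Z
  obtain ⟨D, ⟨hDY, hDp⟩, hmax⟩ := (Set.toFinite {D : Set G |
      (∀ g ∈ D, ∀ y ∈ Y, y * g ∈ D) ∧ IsPGroup p (gen D)}).exists_maximal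
    ⟨∅, by simp, by
      have h0 : gen ∅ = ⊥ := by simp [gen]
      rw [h0]
      exact IsPGroup.of_bot⟩
  have hnorm : ∀ D : Set G, (∀ g ∈ D, ∀ y ∈ Y, y * g ∈ D) →
      Y ≤ Subgroup.normalizer (gen D : Set G) := fun D hD y hy => by
    refine Cfsg.Agent.Lib.Coprime.mem_normalizer_of_conj_smul_eq
      (Cfsg.Agent.Lib.Coprime.eq_of_le_of_card_le ?_
        (Cfsg.Agent.Lib.Coprime.card_conj_smul y _).ge)
    rw [Subgroup.pointwise_smul_subset_iff]
    refine iSup₂_le fun g hg => ?_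
    rw [← Subgroup.pointwise_smul_subset_iff, ← Cfsg.Agent.Lib.Coprime.conj_mul_smul]
    exact le_iSup₂ (f := fun g _ => MulAut.conj g • Z) (y * g) (hD g hg y hy)
  obtain ⟨P, hP⟩ := hDp.exists_le_sylow
  refine ⟨P, ?_⟩
  suffices hkey : ∀ g : G, MulAut.conj g • Z ≤ (P : Subgroup G) → MulAut.conj g • Z ≤ gen D by
    have heq : (⨆ g ∈ {g : G | MulAut.conj g • Z ≤ (P : Subgroup G)}, MulAut.conj g • Z) = gen D :=
      le_antisymm (iSup₂_le fun g hg => hkey g hg) (iSup₂_le fun g hg => le_iSup₂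
        (f := fun g (_ : g ∈ {g : G | MulAut.conj g • Z ≤ (P : Subgroup G)}) => MulAut.conj g • Z) g
        ((le_iSup₂ (f := fun g (_ : g ∈ D) => MulAut.conj g • Z) g hg).trans hP))
    rw [heq]
    exact hnorm D hDY
  by_contra hno
  push Not at hno
  obtain ⟨g₀, hg₀P, hg₀⟩ := hno
  haveI : Group.IsNilpotent (P : Subgroup G) := P.2.isNilpotent
  obtain ⟨X, hX, hX0, hXN⟩ := Cfsg.Agent.Lib.Solvable.Zipper.exists_normalizing_in (P : Subgroup G)
    {U | ∃ g : G, U = MulAut.conj g • Z ∧ MulAut.conj g • Z ≤ (P : Subgroup G)}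
    {U | ∃ g : G, U = MulAut.conj g • Z ∧ MulAut.conj g • Z ≤ gen D}
    (by rintro _ ⟨g, rfl, hg⟩; exact hg)
    (fun U _ => Cfsg.Agent.Lib.PGroups.isSubnormal_of_isNilpotent _)
    (by
      rintro _ ⟨g, rfl, hg⟩ w hw
      refine ⟨w * g, (Cfsg.Agent.Lib.Coprime.conj_mul_smul w g Z).symm, ?_⟩
      intro x hx
      rw [Cfsg.Agent.Lib.Coprime.conj_mul_smul, Cfsg.Agent.Lib.Coprime.mem_conj_smul] at hx
      have := mul_mem (mul_mem hw (hg hx)) (inv_mem hw)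
      simpa [mul_assoc] using this)
    ⟨fun U ⟨g, hU, hg⟩ => ⟨g, hU, hg.trans hP⟩, fun hsub => hg₀ (by
      obtain ⟨g, hU, hg⟩ := hsub ⟨g₀, rfl, hg₀P⟩
      exact hU.le.trans hg)⟩
  obtain ⟨g, rfl, hgP⟩ := hX
  have hJ : (sSup {U : Subgroup G | ∃ g : G, U = MulAut.conj g • Z ∧ MulAut.conj g • Z ≤ gen D})
      = gen D := le_antisymm (sSup_le fun U ⟨g, hU, hg⟩ => hU.le.trans hg)
    (iSup₂_le fun g hg => le_sSup ⟨g, rfl,
      le_iSup₂ (f := fun g (_ : g ∈ D) => MulAut.conj g • Z) g hg⟩)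
  rw [hJ] at hXN
  let E : Set G := {x | ∃ y ∈ Y, x = y * g}
  have hEY : ∀ x ∈ E, ∀ y ∈ Y, y * x ∈ E := by
    rintro _ ⟨y', hy', rfl⟩ y hy
    exact ⟨y * y', mul_mem hy hy', (mul_assoc _ _ _).symm⟩
  have hEeq : gen E = ⨆ y ∈ Y, MulAut.conj (y * g) • Z := le_antisymm
    (iSup₂_le fun x ⟨y, hy, hxy⟩ => hxy ▸ le_iSup₂ (f := fun y (_ : y ∈ Y) => MulAut.conj (y * g) • Z) y hy)
    (iSup₂_le fun y hy => le_iSup₂ (f := fun x (_ : x ∈ E) => MulAut.conj x • Z) (y * g) ⟨y, hy, rfl⟩)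
  have hEp : IsPGroup p (gen E) := hEeq ▸ h g
  have hEN : gen E ≤ Subgroup.normalizer (gen D : Set G) := by
    refine iSup₂_le fun x ⟨y, hy, hxy⟩ => ?_
    rw [hxy, Cfsg.Agent.Lib.Coprime.conj_mul_smul, Subgroup.pointwise_smul_subset_iff]
    intro z hz
    rw [← map_inv, Cfsg.Agent.Lib.Coprime.mem_conj_smul, inv_inv]
    have hyN := hnorm D hDY hy
    exact mul_mem (mul_mem hyN (hXN hz)) (inv_mem hyN)
  have hgD : g ∈ D := by
    refine hmax (y := D ∪ E) ⟨?_, ?_⟩ Set.subset_union_left (Or.inr ⟨1, one_mem _, (one_mul g).symm⟩)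
    · rintro x (hx | hx) y hy
      · exact Or.inl (hDY x hx y hy)
      · exact Or.inr (hEY x hx y hy)
    · have : gen (D ∪ E) = gen D ⊔ gen E := iSup_union
      rw [this, sup_comm]
      exact hEp.to_sup_of_normal_right' hDp hEN
  exact hX0 ⟨g, rfl, le_iSup₂ (f := fun g (_ : g ∈ D) => MulAut.conj g • Z) g hgD⟩

end Cfsg.Agent.S0541
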