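import Cfsg.Statements.S0547
import Cfsg.Agent.Lib.Solvable.Primitive

set_option autoImplicit false
open Cfsg

namespace Cfsg.Agent.S0547

/-- Let a finite solvable group G act faithfully and primitively on a set, and let M be a minimal normal subgroup of G. Then M is transitive with trivial point stabilizers, and the number of points equals the order of M, which is a prime power p ^ d with d ≥ 1. -/
theorem result {G : Type*} [Group G] [Finite G] [Group.IsSolvable G] {Ω : Type*} [Nonempty Ω] [MulAction G Ω] [FaithfulSMul G Ω] (hprim : MulAction.IsPreprimitive G Ω) (M : Subgroup G) [M.Normal] (hM : M ≠ ⊥) (hmin : ∀ K : Subgroup G, K.Normal → K ≤ M → K = ⊥ ∨ K = M) : MulAction.IsPretransitive M Ω ∧ (∀ ω : Ω, MulAction.stabilizer M ω = ⊥) ∧ ∃ p d : ℕ, p.Prime ∧ 0 < d ∧ Nat.card Ω = p ^ d ∧ Nat.card M = p ^ d := by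
  haveI := hprim
  have hab := Cfsg.Agent.Lib.Solvable.Primitive.le_centralizer_of_minimal hM hmin
  obtain ⟨ω₀⟩ := (inferInstance : Nonempty Ω)
  have hc := fun ω : Ω => (Cfsg.Agent.Lib.Solvable.Primitive.primitive_solvable hprim M hM hmin ω).1
  have hst : ∀ ω : Ω, MulAction.stabilizer M ω = ⊥ := fun ω => by
    refine (Subgroup.eq_bot_iff_forall _).mpr fun m hm => Subtype.ext ?_
    exact Subgroup.mem_bot.mp ((hc ω).disjoint.le_bot ⟨m.2, hm⟩)
  have hcard : Nat.card Ω = Nat.card M := by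
    rw [← (hc ω₀).index_eq_card, MulAction.index_stabilizer_of_transitive]
  have htrans : MulAction.IsPretransitive M Ω := by
    refine ⟨fun a b => ?_⟩
    obtain ⟨g, rfl⟩ := MulAction.exists_smul_eq G a b
    obtain ⟨m, hm⟩ : ∃ m : M, (m : G)⁻¹ * g ∈ MulAction.stabilizer G a := by
      have h1 : g ∈ M ⊔ MulAction.stabilizer G a := by rw [(hc a).sup_eq_top]; trivial
      obtain ⟨m, hm, s, hs, rfl⟩ := Subgroup.mem_sup_of_normal_left.mp h1
      exact ⟨⟨m, hm⟩, by simpa [← mul_assoc] using hs⟩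
    refine ⟨m, ?_⟩
    rw [MulAction.mem_stabilizer_iff, mul_smul, inv_smul_eq_iff] at hm
    exact hm.symm
  obtain ⟨p, hp, hpM⟩ := Nat.exists_prime_and_dvd (n := Nat.card M)
    (fun h => hM (Subgroup.card_eq_one.mp h))
  obtain ⟨-, d, hd0, hd⟩ := Cfsg.Agent.Lib.Solvable.Primitive.exists_isElementaryAbelian hM hmin hab hp hpM
  exact ⟨htrans, hst, p, d, hp, hd0, hcard.trans hd, hd⟩

end Cfsg.Agent.S0547
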