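import Cfsg.Statements.S0550
import Cfsg.Agent.Lib.Solvable.Primitive

set_option autoImplicit false
open Cfsg
open Pointwise

namespace Cfsg.Agent.S0550

open Cfsg.Agent.Lib.Solvable

variable {G : Type*} [Group G]

theorem injective_mk_comp {X Y : Subgroup G} [Y.Normal] (h : X ⊓ Y = ⊥) :
    Function.Injective ((QuotientGroup.mk' Y).comp X.subtype) := by
  rw [← MonoidHom.ker_eq_bot_iff, eq_bot_iff]
  intro x hx
  have hxY : (x : G) ∈ Y := by simpa [QuotientGroup.eq_one_iff] using hx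
  have : (x : G) ∈ X ⊓ Y := ⟨x.2, hxY⟩
  rw [h, Subgroup.mem_bot] at this
  exact Subgroup.mem_bot.mpr (Subtype.ext this)

theorem iso {U A B : Subgroup G} [B.Normal] (hAB : A ⊓ B = ⊥) (hBU : B ⊓ U = ⊥) (hsup : B ⊔ U = ⊤) :
    Nonempty (A ≃* ↥((A ⊔ B) ⊓ U)) := by
  have h1 : ((A ⊔ B) ⊓ U) ⊓ B = ⊥ := by
    rw [eq_bot_iff, ← hBU]; exact le_inf inf_le_right (inf_le_left.trans inf_le_right)
  have e : ((QuotientGroup.mk' B).comp A.subtype).range =
      ((QuotientGroup.mk' B).comp ((A ⊔ B) ⊓ U).subtype).range := by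
    rw [MonoidHom.range_comp, MonoidHom.range_comp, Subgroup.range_subtype, Subgroup.range_subtype]
    refine le_antisymm ?_ ?_
    · rintro _ ⟨a, ha, rfl⟩
      obtain ⟨b, hb, u, hu, rfl⟩ := Subgroup.mem_sup_of_normal_left.mp
        (show a ∈ B ⊔ U by rw [hsup]; trivial)
      have hu' := mul_mem (Subgroup.mem_sup_right (inv_mem hb) : b⁻¹ ∈ A ⊔ B) (Subgroup.mem_sup_left ha)
      refine ⟨u, ⟨by simpa using hu', hu⟩, ?_⟩
      rw [map_mul, show QuotientGroup.mk' B b = 1 from (QuotientGroup.eq_one_iff b).mpr hb, one_mul]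
    · refine (Subgroup.map_mono inf_le_left).trans ?_
      rw [Subgroup.map_sup, QuotientGroup.map_mk'_self, sup_bot_eq]
  exact ⟨(MonoidHom.ofInjective (injective_mk_comp hAB)).trans ((MulEquiv.subgroupCongr e).trans
    (MonoidHom.ofInjective (injective_mk_comp h1)).symm)⟩

/-- Primitive groups with two minimal normal subgroups. -/
theorem result {G : Type*} [Group G] [Finite G] (U : Subgroup G) (hU : IsCoatom U) (hcore : U.normalCore = ⊥) (A B : Subgroup G) [A.Normal] [B.Normal] (hA : A ≠ ⊥) (hB : B ≠ ⊥) (hAmin : ∀ K : Subgroup G, K.Normal → K ≤ A → K = ⊥ ∨ K = A) (hBmin : ∀ K : Subgroup G, K.Normal → K ≤ B → K = ⊥ ∨ K = B) (hAB : A ≠ B) : Subgroup.centralizer (B : Set G) = A ∧ Subgroup.centralizer (A : Set G) = B ∧ Subgroup.IsComplement' A U ∧ Subgroup.IsComplement' B U ∧ ¬ IsMulCommutative A ∧ Nonempty (A ≃* B) ∧ Nonempty (A ≃* ↥((A ⊔ B) ⊓ U)) := by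
  have hd : A ⊓ B = ⊥ := (hAmin _ inferInstance inf_le_left).resolve_right fun e =>
    hAB (((hBmin A inferInstance (inf_eq_left.mp e)).resolve_left hA))
  have hc1 : B ≤ Subgroup.centralizer (A : Set G) := fun b hb => Subgroup.mem_centralizer_iff.mpr
    fun a ha => Subgroup.commute_of_normal_of_disjoint A B inferInstance inferInstance
      (disjoint_iff.mpr hd) a b ha hb
  have hCA : Subgroup.centralizer (A : Set G) = B :=
    (Primitive.eq_centralizer_of_le hU hcore hA hB hc1).symm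
  have hCB : Subgroup.centralizer (B : Set G) = A :=
    (Primitive.eq_centralizer_of_le hU hcore hB hA (Subgroup.le_centralizer_iff.mp hc1)).symm
  have hAU : A ⊓ U = ⊥ := hCB ▸ Primitive.centralizer_inf_eq_bot hU hcore hB
  have hBU : B ⊓ U = ⊥ := hCA ▸ Primitive.centralizer_inf_eq_bot hU hcore hA
  have hsA := Primitive.sup_eq_top hU hcore hA
  have hsB := Primitive.sup_eq_top hU hcore hB
  obtain ⟨e1⟩ := iso hd hBU hsB
  obtain ⟨e2⟩ := iso (A := B) (B := A) (inf_comm A B ▸ hd) hAU hsA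
  refine ⟨hCB, hCA, ?_, ?_, ?_, ⟨e1.trans ((MulEquiv.subgroupCongr (by rw [sup_comm])).trans e2.symm)⟩, ⟨e1⟩⟩
  · refine Subgroup.isComplement'_of_disjoint_and_mul_eq_univ (disjoint_iff.mpr hAU) ?_
    rw [← Subgroup.normal_mul, hsA, Subgroup.coe_top]
  · refine Subgroup.isComplement'_of_disjoint_and_mul_eq_univ (disjoint_iff.mpr hBU) ?_
    rw [← Subgroup.normal_mul, hsB, Subgroup.coe_top]
  · intro hab
    have : A ≤ Subgroup.centralizer (A : Set G) := Subgroup.le_centralizer A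
    rw [hCA] at this
    exact hA (le_bot_iff.mp (hd ▸ le_inf le_rfl this))

end Cfsg.Agent.S0550
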