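import Cfsg.Statements.S0551
import Cfsg.Agent.Lib.Solvable.Primitive
import Cfsg.Agent.Lib.Solvable.Products
import Cfsg.Agent.Lib.Solvable.Nilpotent
import Cfsg.Agent.Lib.Coprime.Hall
import Cfsg.Agent.Lib.Coprime.SchurZassenhaus

set_option autoImplicit false
open Pointwise
open Cfsg

namespace Cfsg.Agent.S0551

/-- In a finite solvable group all core-free maximal subgroups are conjugate. -/
theorem result {G : Type*} [Group G] [Finite G] [Group.IsSolvable G] (U V : Subgroup G) (hU : IsCoatom U) (hV : IsCoatom V) (hUc : U.normalCore = ⊥) (hVc : V.normalCore = ⊥) : ∃ g : G, MulAut.conj g • U = V := by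
  classical
  haveI : Nontrivial G := by
    by_contra hn
    rw [not_nontrivial_iff_subsingleton] at hn
    exact hU.1 (Subsingleton.elim _ _)
  obtain ⟨p, N, hp, hNn, hN0, hNab, hNp, -⟩ := Lib.Coprime.exists_normal_isPGroup_isMulCommutative G
  haveI := hNn
  haveI := Fact.mk hp
  have hab : N ≤ Subgroup.centralizer (N : Set G) := fun x hx => Subgroup.mem_centralizer_iff.mpr
    fun y hy => congrArg Subtype.val (hNab.is_comm.comm ⟨y, hy⟩ ⟨x, hx⟩)
  obtain ⟨hC, hcU⟩ := Lib.Solvable.Primitive.isComplement'_of_abelian hU hUc hN0 hab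
  obtain ⟨-, hcV⟩ := Lib.Solvable.Primitive.isComplement'_of_abelian hV hVc hN0 hab
  by_cases hNt : N = ⊤
  · subst hNt
    refine ⟨1, ?_⟩
    rw [Subgroup.isComplement'_top_left.mp hcU, Subgroup.isComplement'_top_left.mp hcV]
    exact Subgroup.smul_bot _
  haveI : Nontrivial (G ⧸ N) := QuotientGroup.nontrivial_iff.mpr hNt
  obtain ⟨q, hq, hQ⟩ := Lib.Solvable.Products.exists_normal_pSubgroup (G := G ⧸ N) inferInstance
  haveI := Fact.mk hq
  set M := (Cfsg.pCore q (G ⧸ N)).comap (QuotientGroup.mk' N) with hM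
  haveI : (Cfsg.pCore q (G ⧸ N)).Normal := inferInstance
  haveI : M.Normal := by rw [hM]; infer_instance
  have hNM : N ≤ M := fun x hx => by
    show QuotientGroup.mk' N x ∈ Cfsg.pCore q (G ⧸ N)
    rw [show QuotientGroup.mk' N x = 1 from (QuotientGroup.eq_one_iff x).mpr hx]
    exact one_mem _
  have hMc : Nat.card M = Nat.card N * Nat.card (Cfsg.pCore q (G ⧸ N)) :=
    Lib.Coprime.card_comap_mk' N _
  obtain ⟨k, hk⟩ := IsPGroup.iff_card.mp (Lib.Cores.pCore_isPGroup q (G ⧸ N))
  have hpq : p ≠ q := by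
    rintro rfl
    obtain ⟨l, hl⟩ := IsPGroup.iff_card.mp hNp
    have hMp : IsPGroup p M := IsPGroup.of_card (n := l + k) (by rw [hMc, hl, hk, pow_add])
    haveI := hMp.isNilpotent
    have h1 := Lib.Solvable.inf_center_ne_bot (G := M) (N := N.subgroupOf M) fun e => hN0 (by
      rw [← Subgroup.map_subgroupOf_eq_of_le hNM, e, Subgroup.map_bot])
    have hW : (N ⊓ Subgroup.centralizer (M : Set G)) ≠ ⊥ := by
      intro e
      apply h1
      rw [eq_bot_iff]
      intro x hx
      have : (x : G) ∈ N ⊓ Subgroup.centralizer (M : Set G) := ⟨hx.1, Subgroup.mem_centralizer_iff.mpr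
        fun y hy => congrArg Subtype.val (Subgroup.mem_center_iff.mp hx.2 ⟨y, hy⟩)⟩
      rw [e, Subgroup.mem_bot] at this
      exact Subgroup.mem_bot.mpr (Subtype.ext this)
    have hWN : N ⊓ Subgroup.centralizer (M : Set G) = N := by
      have h2 : N ⊓ Subgroup.centralizer (M : Set G) ≤ Subgroup.centralizer (N : Set G) := inf_le_left.trans hab
      exact (Lib.Solvable.Primitive.eq_centralizer_of_le hU hUc hN0 hW h2).trans hC
    have hMN : M ≤ N := hC ▸ Subgroup.le_centralizer_iff.mp (hWN ▸ inf_le_right)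
    apply hQ
    rw [← Subgroup.map_comap_eq_self_of_surjective (QuotientGroup.mk'_surjective N) (Cfsg.pCore p (G ⧸ N)),
      Subgroup.map_eq_bot_iff, QuotientGroup.ker_mk']
    exact hMN
  have key : ∀ W : Subgroup G, IsCoatom W → W.normalCore = ⊥ → Subgroup.IsComplement' N W →
      N ⊔ (W ⊓ M) = M ∧ Nat.card (W ⊓ M : Subgroup G) = q ^ k ∧
      Subgroup.normalizer ((W ⊓ M : Subgroup G) : Set G) = W := by
    intro W hW hWc hcW
    have hsup : N ⊔ (W ⊓ M) = M := by
      refine le_antisymm (sup_le hNM inf_le_right) fun x hx => ?_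
      obtain ⟨a, ha, w, hw, rfl⟩ := Subgroup.mem_sup_of_normal_left.mp
        (show x ∈ N ⊔ W by rw [hcW.sup_eq_top]; trivial)
      exact mul_mem (Subgroup.mem_sup_left ha) (Subgroup.mem_sup_right
        ⟨hw, by simpa using mul_mem (inv_mem (hNM ha)) hx⟩)
    have hcard : Nat.card (W ⊓ M : Subgroup G) = q ^ k := by
      have h1 := Lib.Coprime.card_sup_mul_card_inf (N := N) (H := W ⊓ M) Subgroup.le_normalizer_of_normal
      rw [hsup, show N ⊓ (W ⊓ M) = ⊥ from le_bot_iff.mp ((inf_le_inf_left N inf_le_left).trans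
        (le_of_eq (disjoint_iff.mp hcW.disjoint))), Subgroup.card_bot, mul_one, hMc, hk] at h1
      exact (Nat.eq_of_mul_eq_mul_left Nat.card_pos h1).symm
    refine ⟨hsup, hcard, ((hW.le_iff).mp ?_).resolve_left ?_⟩
    · intro w hw
      refine Lib.Coprime.mem_normalizer_of_conj_smul_eq ?_
      rw [Subgroup.smul_inf, Lib.Coprime.conj_smul_eq_of_mem_normalizer (Subgroup.le_normalizer hw),
        Lib.Coprime.conj_smul_eq_of_mem_normalizer (g := w) (H := M) (by
          rw [Subgroup.normalizer_eq_top]; trivial)]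
    · intro e
      haveI := Subgroup.normalizer_eq_top_iff.mp e
      have h1 : W ⊓ M ≤ W.normalCore := Subgroup.normal_le_normalCore.mpr inf_le_left
      rw [hWc, le_bot_iff] at h1
      rw [h1, Subgroup.card_bot] at hcard
      apply hQ
      exact Subgroup.card_eq_one.mp (hk.trans hcard.symm)
  obtain ⟨hs1, hc1, hn1⟩ := key U hU hUc hcU
  obtain ⟨hs2, hc2, hn2⟩ := key V hV hVc hcV
  obtain ⟨n, hn, he⟩ := Lib.Coprime.exists_conj_eq_of_le_sup (N := N) (H := U ⊓ M) (K := V ⊓ M)
    Subgroup.le_normalizer_of_normal (by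
      obtain ⟨l, hl⟩ := IsPGroup.iff_card.mp hNp
      rw [hl, hc1]; exact Nat.Coprime.pow _ _ ((Nat.coprime_primes hp hq).mpr hpq))
    (Or.inl (Lib.Coprime.isSolvable_of_isMulCommutative N)) (hc2.trans hc1.symm) (by rw [hs1]; exact inf_le_right)
  refine ⟨n, ?_⟩
  rw [← hn2, ← he]
  conv_lhs => rw [← hn1]
  exact (Subgroup.map_equiv_normalizer_eq (U ⊓ M) (MulAut.conj n))

end Cfsg.Agent.S0551
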