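import Cfsg.Statements.S0552
import Cfsg.Agent.Lib.Cores.Fitting

set_option autoImplicit false
open Cfsg

namespace Cfsg.Agent.S0552

/-- Let σ be an automorphism of a finite solvable group G fixing every element of the Fitting subgroup. If σ is not the identity then the order of σ and the order of G have a common prime factor. -/
theorem result {G : Type*} [Group G] [Finite G] [Group.IsSolvable G] (σ : G ≃* G) (hσ : ∀ x ∈ Cfsg.fittingSubgroup G, σ x = x) (hne : σ ≠ MulEquiv.refl G) : ¬ (orderOf σ).Coprime (Nat.card G) := by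
  intro hcop
  apply hne
  ext g
  have hF : g⁻¹ * σ g ∈ Cfsg.fittingSubgroup G := by
    refine Cfsg.Agent.Lib.Cores.centralizer_fittingSubgroup_le inferInstance
      (Subgroup.mem_centralizer_iff.mpr fun n hn => ?_)
    have hN : (Cfsg.fittingSubgroup G).Normal := inferInstance
    have h2 := hσ _ (hN.conj_mem _ hn g)
    rw [map_mul, map_mul, map_inv, hσ n hn] at h2
    calc n * (g⁻¹ * σ g) = g⁻¹ * ((g * n * g⁻¹) * σ g) := by group
      _ = g⁻¹ * ((σ g * n * (σ g)⁻¹) * σ g) := by rw [h2]
      _ = g⁻¹ * σ g * n := by group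
  set f := g⁻¹ * σ g with hf
  have hpow : ∀ k : ℕ, (σ ^ k) g = g * f ^ k := by
    intro k
    induction k with
    | zero => simp
    | succ k ih =>
      rw [pow_succ' σ, MulAut.mul_apply, ih, map_mul, map_pow, hσ f hF, show σ g = g * f by rw [hf]; group, pow_succ', mul_assoc]

  have h3 := hpow (orderOf σ)
  rw [pow_orderOf_eq_one, MulAut.one_apply, left_eq_mul] at h3
  have h4 : f = 1 := orderOf_eq_one_iff.mp
    (Nat.eq_one_of_dvd_coprimes hcop (orderOf_dvd_of_pow_eq_one h3) (orderOf_dvd_natCard f))
  rw [hf, inv_mul_eq_one] at h4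
  exact h4.symm

end Cfsg.Agent.S0552
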