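import Cfsg.Statements.S0553
import Cfsg.Agent.Lib.Coprime.Hall
import Cfsg.Agent.Lib.Coprime.Basic
import Mathlib.GroupTheory.Frattini
import Mathlib.GroupTheory.Sylow

set_option autoImplicit false
open Cfsg
open Pointwise

namespace Cfsg.Agent.S0553

universe u

theorem all_normal {G : Type u} [Group G] [Finite G] {p : ℕ} [Fact p.Prime] (P : Sylow p G)
    (h : (P : Subgroup G).Normal) : ∀ Q : Sylow p G, (Q : Subgroup G).Normal := by
  intro Q
  haveI := Sylow.unique_of_normal P h
  rw [Subsingleton.elim Q P]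
  exact h

theorem aux : ∀ (n : ℕ) (G : Type u) [Group G] [Finite G], Nat.card G = n → Group.IsSolvable G → Nontrivial G →
    (∀ M : Subgroup G, IsCoatom M → (Nat.card M).Coprime M.index) →
    ∃ p : ℕ, p.Prime ∧ p ∣ Nat.card G ∧ ∀ P : Sylow p G, (P : Subgroup G).Normal := by
  intro n
  induction n using Nat.strongRecOn with
  | ind n ih =>
  intro G _ _ hn hs hnt h
  haveI := hs
  obtain ⟨p, N, hp, hNn, hN0, -, hNp, -⟩ := Lib.Coprime.exists_normal_isPGroup_isMulCommutative G
  haveI := hNn
  haveI := Fact.mk hp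
  obtain ⟨l, hl⟩ := IsPGroup.iff_card.mp hNp
  have hpG : p ∣ Nat.card G := by
    rcases l with _ | l
    · exact absurd (Subgroup.card_eq_one.mp hl) hN0
    · exact (dvd_pow_self p (Nat.succ_ne_zero l)).trans (hl ▸ Subgroup.card_subgroup_dvd_card N)
  by_cases hM : ∃ M : Subgroup G, IsCoatom M ∧ ¬ N ≤ M
  · obtain ⟨M, hM, hNM⟩ := hM
    have hsup : N ⊔ M = ⊤ := hM.2 _ (lt_of_le_of_ne le_sup_right fun e => hNM (e ▸ le_sup_left))
    have h1 := Lib.Coprime.card_sup_mul_card_inf (N := N) (H := M) Subgroup.le_normalizer_of_normal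
    rw [hsup, Subgroup.card_top, ← M.card_mul_index] at h1
    have h2 : M.index * Nat.card (N ⊓ M : Subgroup G) = p ^ l := by
      refine Nat.eq_of_mul_eq_mul_left (Nat.card_pos (α := M)) ?_
      rw [← mul_assoc, h1, hl, mul_comm]
    obtain ⟨j, -, hj⟩ := (Nat.dvd_prime_pow hp).mp (Dvd.intro _ h2)
    have hj0 : j ≠ 0 := fun e => hM.1 (Subgroup.index_eq_one.mp (by rw [hj, e, pow_zero]))
    have hpM : ¬ p ∣ Nat.card M := fun hd =>
      hp.not_dvd_one ((h M hM).gcd_eq_one ▸ Nat.dvd_gcd hd (hj ▸ dvd_pow_self p hj0))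
    have hinf : Nat.card (N ⊓ M : Subgroup G) = 1 := by
      have h3 : Nat.card (N ⊓ M : Subgroup G) ∣ p ^ l := Dvd.intro_left _ h2
      obtain ⟨i, -, hi⟩ := (Nat.dvd_prime_pow hp).mp h3
      rcases i with _ | i
      · rwa [pow_zero] at hi
      · exact absurd ((dvd_pow_self p (Nat.succ_ne_zero i)).trans
          (hi ▸ Subgroup.card_dvd_of_le inf_le_right)) hpM
    rw [hinf, mul_one] at h2
    have hNi : N.index = Nat.card M := by
      have h4 := N.card_mul_index
      rw [hl, ← h2, ← M.card_mul_index, mul_comm (Nat.card M)] at h4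
      exact Nat.eq_of_mul_eq_mul_left (by rw [h2]; exact pow_pos hp.pos l) h4
    exact ⟨p, hp, hpG, all_normal (IsPGroup.toSylow hNp (hNi ▸ hpM))
      (by rwa [IsPGroup.toSylow_coe])⟩
  push Not at hM
  have hΦ : N ≤ frattini G := by
    simp only [frattini, Order.radical, le_iInf_iff]
    exact fun M h' => hM M h'
  haveI : Nontrivial (G ⧸ N) := QuotientGroup.nontrivial_iff.mpr fun e => by
    haveI : Nontrivial G := hnt
    exact (bot_ne_top : (⊥ : Subgroup G) ≠ ⊤) (frattini_nongenerating
      (by rw [show frattini G = ⊤ from top_le_iff.mp (e ▸ hΦ), bot_sup_eq]))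
  obtain ⟨q, hq, hqQ, hQ⟩ := ih (Nat.card (G ⧸ N)) (by
    rw [← hn, Subgroup.card_eq_card_quotient_mul_card_subgroup N]
    exact lt_mul_of_one_lt_right Nat.card_pos (N.one_lt_card_iff_ne_bot.mpr hN0)) (G ⧸ N) rfl inferInstance inferInstance (fun X hX => by
      have hc := Lib.Coprime.card_comap_mk' N X
      have hi := X.index_comap_of_surjective (QuotientGroup.mk'_surjective N)
      have := h _ (Subgroup.isCoatom_comap_of_surjective (QuotientGroup.mk'_surjective N) hX)
      rw [hc, hi] at this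
      exact this.coprime_dvd_left (Dvd.intro_left _ rfl))
  haveI := Fact.mk hq
  refine ⟨q, hq, hqQ.trans (Subgroup.card_quotient_dvd_card N), fun Q => ?_⟩
  set W := ((Q : Subgroup G).map (QuotientGroup.mk' N)).comap (QuotientGroup.mk' N)
  haveI : W.Normal := (hQ (Q.mapSurjective (QuotientGroup.mk'_surjective N))).comap _
  have hQW : (Q : Subgroup G) ≤ W := Subgroup.le_comap_map _ _
  have h1 := Sylow.normalizer_sup_eq_top' Q (N := W) hQW
  have hW : W = (Q : Subgroup G) ⊔ N := by
    rw [show W = _ from Subgroup.comap_map_eq _ _, QuotientGroup.ker_mk']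
  refine Subgroup.normalizer_eq_top_iff.mp (frattini_nongenerating ?_)
  refine top_le_iff.mp (h1.ge.trans (sup_le le_sup_left ?_))
  rw [hW]
  exact sup_le (Subgroup.le_normalizer.trans le_sup_left) (hΦ.trans le_sup_right)

/-- A solvable group all of whose maximal subgroups are Hall has a normal Sylow subgroup. -/
theorem result {G : Type*} [Group G] [Finite G] [Group.IsSolvable G] [Nontrivial G] (h : ∀ M : Subgroup G, IsCoatom M → (Nat.card M).Coprime M.index) : ∃ p : ℕ, p.Prime ∧ p ∣ Nat.card G ∧ ∀ P : Sylow p G, (P : Subgroup G).Normal := by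
  exact aux _ G rfl inferInstance inferInstance h

end Cfsg.Agent.S0553
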