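import Cfsg.Statements.S0554
import Cfsg.Agent.Lib.Solvable.Products
import Cfsg.Agent.Lib.Cores.PCore
import Mathlib.Data.List.OfFn

set_option autoImplicit false
open Cfsg

namespace Cfsg.Agent.S0554

universe u

theorem shift {G : Type*} [Group G] (N : Subgroup G) [N.Normal] : ∀ (t : ℕ) (s : Fin t → G) (j : Fin t)
    (n : G), n ∈ N → ∃ n' ∈ N, (List.ofFn s).prod * n = (List.ofFn (Function.update s j (s j * n'))).prod := by
  intro t
  induction t with
  | zero => intro s j; exact j.elim0
  | succ t ih =>
    intro s j n hn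
    induction j using Fin.cases with
    | zero =>
      refine ⟨(List.ofFn fun i : Fin t => s i.succ).prod * n * (List.ofFn fun i : Fin t => s i.succ).prod⁻¹,
        ‹N.Normal›.conj_mem n hn _, ?_⟩
      rw [List.ofFn_succ, List.ofFn_succ, List.prod_cons, List.prod_cons]
      simp only [Function.update_self, Function.update_of_ne (Fin.succ_ne_zero _)]
      group
    | succ i =>
      obtain ⟨n', hn', e⟩ := ih (fun i => s i.succ) i n hn
      refine ⟨n', hn', ?_⟩
      rw [List.ofFn_succ, List.prod_cons, mul_assoc, e, List.ofFn_succ, List.prod_cons,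
        Function.update_of_ne (Fin.succ_ne_zero _).symm]
      congr 3
      funext k
      by_cases hk : k = i
      · subst hk; simp
      · rw [Function.update_of_ne hk, Function.update_of_ne (fun e => hk (Fin.succ_injective _ e))]

theorem aux : ∀ (n : ℕ) (G : Type u) [Group G] [Finite G], Nat.card G = n → Group.IsSolvable G →
    ∀ (t : ℕ) (p : Fin t → ℕ), (∀ i, (p i).Prime) → (∀ q : ℕ, q.Prime → q ∣ Nat.card G → ∃ i, p i = q) →
    ∀ (S : (i : Fin t) → Sylow (p i) G), ∀ g : G, ∃ s : (i : Fin t) → G, (∀ i, s i ∈ (S i : Subgroup G)) ∧ g = (List.ofFn s).prod := by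
  intro n
  induction n using Nat.strongRecOn with
  | ind n ih =>
  intro G _ _ hn hs t p hp hall S g
  rcases subsingleton_or_nontrivial G with hG | hG
  · exact ⟨fun _ => 1, fun i => one_mem _, Subsingleton.elim _ _⟩
  obtain ⟨q, hq, hne⟩ := Lib.Solvable.Products.exists_normal_pSubgroup hs
  haveI := Fact.mk hq
  set N := Cfsg.pCore q G with hN
  haveI : N.Normal := by rw [hN]; infer_instance
  obtain ⟨j, hj⟩ := hall q hq (by
    obtain ⟨k, hk⟩ := IsPGroup.iff_card.mp (Lib.Cores.pCore_isPGroup q G)
    rcases k with _ | k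
    · exact absurd (Subgroup.card_eq_one.mp hk) hne
    · exact (dvd_pow_self q (Nat.succ_ne_zero k)).trans (hk ▸ Subgroup.card_subgroup_dvd_card N))
  haveI : Fact (p j).Prime := ⟨hp j⟩
  have hNj : N ≤ (S j : Subgroup G) :=
    IsPGroup.le_sylow_of_normal (by rw [hj]; exact Lib.Cores.pCore_isPGroup q G) (S j)
  have hlt : Nat.card (G ⧸ N) < n := by
    rw [← hn, Subgroup.card_eq_card_quotient_mul_card_subgroup N]
    exact lt_mul_of_one_lt_right Nat.card_pos (N.one_lt_card_iff_ne_bot.mpr hne)
  haveI := fun i => Fact.mk (hp i)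
  obtain ⟨s, hs', hg⟩ := ih _ hlt (G ⧸ N) rfl inferInstance t p hp
    (fun r hr hd => hall r hr (hd.trans (Subgroup.card_quotient_dvd_card N)))
    (fun i => (S i).mapSurjective (QuotientGroup.mk'_surjective N)) g
  choose u hu hus using hs'
  have hg' : ((List.ofFn u).prod : G ⧸ N) = g := by
    rw [hg]
    change QuotientGroup.mk' N (List.ofFn u).prod = _
    rw [map_list_prod, List.map_ofFn]
    congr 2
    funext i
    exact hus i
  obtain ⟨n', hn', e⟩ := shift N t u j _ (QuotientGroup.eq.mp hg')
  refine ⟨Function.update u j (u j * n'), fun i => ?_, ?_⟩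
  · by_cases hi : i = j
    · subst hi
      rw [Function.update_self]
      exact mul_mem (hu i) (hNj hn')
    · rw [Function.update_of_ne hi]
      exact hu i
  · rw [← e, mul_inv_cancel_left]

/-- A finite solvable group is the set product of one Sylow subgroup for each prime, in any order. -/
theorem result {G : Type*} [Group G] [Finite G] [Group.IsSolvable G] (t : ℕ) (p : Fin t → ℕ) (hp : ∀ i, (p i).Prime) (hinj : Function.Injective p) (hall : ∀ q : ℕ, q.Prime → q ∣ Nat.card G → ∃ i, p i = q) (S : (i : Fin t) → Sylow (p i) G) : ∀ g : G, ∃ s : (i : Fin t) → G, (∀ i, s i ∈ (S i : Subgroup G)) ∧ g = (List.ofFn s).prod := by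
  exact aux _ G rfl inferInstance t p hp hall S

end Cfsg.Agent.S0554
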