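import Cfsg.Statements.S0555
import Mathlib.GroupTheory.SpecificGroups.Cyclic
import Mathlib.GroupTheory.Solvable

set_option autoImplicit false
open Cfsg
open scoped commutatorElement

namespace Cfsg.Agent.S0555

/-- Let i ≥ 1. If in the derived series of a group the quotient of the i-th term by the (i+1)-st and the quotient of the (i+1)-st by the (i+2)-nd are both cyclic, then the (i+1)-st and (i+2)-nd terms coincide. -/
theorem result {G : Type*} [Group G] (i : ℕ) (hi : 1 ≤ i) (h₁ : IsCyclic (↥(derivedSeries G i) ⧸ (derivedSeries G (i + 1)).subgroupOf (derivedSeries G i))) (h₂ : IsCyclic (↥(derivedSeries G (i + 1)) ⧸ (derivedSeries G (i + 2)).subgroupOf (derivedSeries G (i + 1)))) : derivedSeries G (i + 1) = derivedSeries G (i + 2) := by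
  classical
  refine le_antisymm ?_ (derivedSeries_antitone G (Nat.le_succ _))
  set A := derivedSeries G i
  set B := derivedSeries G (i + 1)
  set K := derivedSeries G (i + 2)
  haveI : K.Normal := derivedSeries_normal G _
  haveI hBn : B.Normal := derivedSeries_normal G _
  let π := QuotientGroup.mk' K
  obtain ⟨q, hb0⟩ := h₂.exists_generator
  obtain ⟨b0, rfl⟩ := QuotientGroup.mk_surjective q
  have hgenB : ∀ b ∈ B, ∃ n : ℤ, π b = π b0 ^ n := by
    intro b hb
    obtain ⟨n, hn⟩ := Subgroup.mem_zpowers_iff.mp (hb0 (QuotientGroup.mk ⟨b, hb⟩))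
    rw [← QuotientGroup.mk_zpow, QuotientGroup.eq, Subgroup.mem_subgroupOf] at hn
    refine ⟨n, ?_⟩
    rw [← map_zpow, eq_comm]
    exact (QuotientGroup.eq (s := K)).mpr hn
  have hcomm : ∀ g h : G, ∀ b ∈ B, Commute (π ⁅g, h⁆) (π b) := by
    intro g h b hb
    have hb0B : (b0 : G) ∈ B := SetLike.coe_mem _
    have key : ∀ g h : G, ∀ c ∈ B, π g * (π h * π c * (π h)⁻¹) * (π g)⁻¹ =
        π h * (π g * π c * (π g)⁻¹) * (π h)⁻¹ := by
      intro g h c hc
      obtain ⟨l, hl⟩ := hgenB c hc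
      obtain ⟨m, hm⟩ := hgenB _ (hBn.conj_mem _ hb0B g)
      obtain ⟨n, hn⟩ := hgenB _ (hBn.conj_mem _ hb0B h)
      simp only [map_mul, map_inv] at hm hn
      rw [hl, ← conj_zpow, hn, ← zpow_mul, ← conj_zpow, hm, ← zpow_mul, ← conj_zpow, hm, ← zpow_mul,
        ← conj_zpow, hn, ← zpow_mul]
      congr 1
      ring
    show π ⁅g, h⁆ * π b = π b * π ⁅g, h⁆
    rw [commutatorElement_def, map_mul, map_mul, map_mul, map_inv, map_inv]
    calc π g * π h * (π g)⁻¹ * (π h)⁻¹ * π b
        = (π g * π h * (π g)⁻¹ * (π h)⁻¹ * π b * (π h * π g * (π h)⁻¹ * (π g)⁻¹)) *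
            (π g * π h * (π g)⁻¹ * (π h)⁻¹) := by group
      _ = _ := by
        congr 1
        have h5 := key g h _ (hBn.conj_mem _ (hBn.conj_mem _ hb h⁻¹) g⁻¹)
        simp only [map_mul, map_inv, inv_inv] at h5
        rw [show π g * π h * (π g)⁻¹ * (π h)⁻¹ * π b * (π h * π g * (π h)⁻¹ * (π g)⁻¹) =
          π g * (π h * ((π g)⁻¹ * ((π h)⁻¹ * π b * π h) * π g) * (π h)⁻¹) * (π g)⁻¹ by group, h5]
        group
  have hA1 : A ≤ derivedSeries G 1 := derivedSeries_antitone G hi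
  have hcB : ∀ a ∈ A, ∀ b ∈ B, Commute (π a) (π b) := by
    intro a ha b hb
    have h1 : derivedSeries G 1 ≤ (Subgroup.centralizer {π b}).comap π := by
      rw [derivedSeries_succ, derivedSeries_zero, Subgroup.commutator_le]
      intro g _ h _
      exact Subgroup.mem_centralizer_singleton_iff.mpr (hcomm g h b hb).eq
    exact Subgroup.mem_centralizer_singleton_iff.mp (h1 (hA1 ha))
  obtain ⟨q0, hq0⟩ := h₁.exists_generator
  obtain ⟨a0, rfl⟩ := QuotientGroup.mk_surjective q0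
  have hgenA : ∀ a ∈ A, ∃ n : ℤ, ∃ b ∈ B, a = (a0 : G) ^ n * b := by
    intro a ha
    obtain ⟨n, hn⟩ := Subgroup.mem_zpowers_iff.mp (hq0 (QuotientGroup.mk ⟨a, ha⟩))
    rw [← QuotientGroup.mk_zpow, QuotientGroup.eq, Subgroup.mem_subgroupOf] at hn
    exact ⟨n, _, hn, by simp⟩
  rw [show B = ⁅A, A⁆ from derivedSeries_succ G i, Subgroup.commutator_le]
  intro a ha b hb
  obtain ⟨n, c, hc, rfl⟩ := hgenA a ha
  obtain ⟨m, d, hd, rfl⟩ := hgenA b hb
  rw [← QuotientGroup.eq_one_iff (N := K)]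
  show π ⁅_, _⁆ = 1
  rw [map_commutatorElement, commutatorElement_eq_one_iff_mul_comm]
  have e1 : Commute (π (a0 : G)) (π c) := hcB _ a0.2 c hc
  have e2 : Commute (π (a0 : G)) (π d) := hcB _ a0.2 d hd
  have e3 : Commute (π c) (π d) := by
    obtain ⟨u, hu⟩ := hgenB c hc
    obtain ⟨v, hv⟩ := hgenB d hd
    rw [hu, hv]; exact (Commute.refl _).zpow_zpow u v
  simp only [map_mul, map_zpow]
  exact ((((Commute.refl _).zpow_zpow n m).mul_right (e2.zpow_left n)).mul_left
    ((e1.symm.zpow_right m).mul_right e3)).eq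

end Cfsg.Agent.S0555
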