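import Cfsg.Statements.S0556
import Cfsg.Agent.Lib.Solvable.FrobeniusAux
import Cfsg.Agent.Lib.Solvable.Primitive

set_option autoImplicit false
open Cfsg
open Pointwise
open Cfsg.Agent.Lib

namespace Cfsg.Agent.S0556

theorem two_of_commutative {Q : Type*} [Group Q] (X : Subgroup Q) [X.Normal]
    (hc : ∀ a ∈ X, ∀ b ∈ X, a * b = b * a) (hq : commutator Q ≤ X) : derivedSeries Q 2 = ⊥ := by
  rw [derivedSeries_succ, derivedSeries_one, eq_bot_iff]
  refine (Subgroup.commutator_mono hq hq).trans (le_of_eq ?_)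
  exact Subgroup.commutator_eq_bot_iff_le_centralizer.mpr fun a ha =>
    Subgroup.mem_centralizer_iff.mpr fun b hb => (hc a ha b hb).symm

/-- Herstein: a finite group with an abelian maximal subgroup has derived length at most three. -/
theorem result {G : Type*} [Group G] [Finite G] (A : Subgroup G) (hA : IsCoatom A) [IsMulCommutative A] : derivedSeries G 3 = ⊥ := by
  classical
  have hAc : ∀ a ∈ A, ∀ b ∈ A, a * b = b * a := fun a ha b hb =>
    congrArg Subtype.val (IsMulCommutative.is_comm.comm (⟨a, ha⟩ : A) ⟨b, hb⟩)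
  suffices h : ∃ Z : Subgroup G, Z ≤ Subgroup.center G ∧ derivedSeries G 2 ≤ Z by
    obtain ⟨Z, hZ, h2⟩ := h
    rw [derivedSeries_succ, eq_bot_iff]
    refine (Subgroup.commutator_mono h2 h2).trans (le_of_eq ?_)
    exact Subgroup.commutator_eq_bot_iff_le_centralizer.mpr fun a ha =>
      Subgroup.mem_centralizer_iff.mpr fun b _ => Subgroup.mem_center_iff.mp (hZ ha) b
  by_cases hAn : A.Normal
  · refine ⟨⊥, bot_le, le_of_eq (two_of_commutative A hAc ?_)⟩
    rw [← Subgroup.Normal.quotient_commutative_iff_commutator_le]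
    refine ⟨⟨fun u v => ?_⟩⟩
    -- every nontrivial element generates
    by_cases hu : u = 1
    · rw [hu, one_mul, mul_one]
    obtain ⟨x, rfl⟩ := QuotientGroup.mk'_surjective A u
    have htop : A ⊔ Subgroup.zpowers x = ⊤ := hA.2 _ (lt_of_le_of_ne le_sup_left fun e => hu
      ((QuotientGroup.eq_one_iff x).mpr (e.ge (Subgroup.mem_sup_right (Subgroup.mem_zpowers x)))))
    obtain ⟨y, rfl⟩ := QuotientGroup.mk'_surjective A v
    obtain ⟨a, ha, c, hc, rfl⟩ := Subgroup.mem_sup_of_normal_left.mp
      (show y ∈ A ⊔ Subgroup.zpowers x by rw [htop]; trivial)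
    obtain ⟨i, rfl⟩ := Subgroup.mem_zpowers_iff.mp hc
    rw [map_mul _ a, show QuotientGroup.mk' A a = 1 from (QuotientGroup.eq_one_iff a).mpr ha, one_mul, map_zpow]
    exact (Commute.refl _).zpow_right i
  have hZA : Subgroup.center G ≤ A := by
    by_contra h
    refine hAn ?_
    have htop : A ⊔ Subgroup.center G = ⊤ := hA.2 _ (lt_of_le_of_ne le_sup_left fun e => h (le_sup_right.trans e.ge))
    exact Lib.Solvable.Primitive.normal_of_sup_eq_top htop Subgroup.le_normalizer
      (fun z hz => Subgroup.mem_normalizer_iff.mpr fun a => by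
        rw [← Subgroup.mem_center_iff.mp hz a, mul_inv_cancel_right])
  set Z := Subgroup.center G with hZ
  let π := QuotientGroup.mk' Z
  have hker : (A.map π).comap π = A := by
    rw [Subgroup.comap_map_eq, QuotientGroup.ker_mk', sup_eq_left]; exact hZA
  set B := A.map π with hB
  have hBc : IsCoatom B := by
    refine ⟨fun e => hA.1 (by rw [← hker, e, Subgroup.comap_top]), fun K hK => ?_⟩
    rw [← Subgroup.map_comap_eq_self_of_surjective (f := π) (QuotientGroup.mk'_surjective Z) K, hA.2 (K.comap π) ?_,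
      Subgroup.map_top_of_surjective _ (QuotientGroup.mk'_surjective Z)]
    rw [← hker]
    exact (Subgroup.comap_lt_comap_of_surjective (QuotientGroup.mk'_surjective Z)).mpr hK
  refine ⟨Z, le_rfl, ?_⟩
  suffices h2 : derivedSeries (G ⧸ Z) 2 = ⊥ by
    have h3 := map_derivedSeries_le_derivedSeries π 2
    rw [h2, le_bot_iff, Subgroup.map_eq_bot_iff, QuotientGroup.ker_mk'] at h3
    exact h3
  by_cases hB0 : B = ⊥
  · exfalso
    refine hAn ?_
    rw [← hker, hB0]
    infer_instance
  have hF : Cfsg.IsFrobeniusComplement B := by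
    refine Lib.Frobenius.isFrobeniusComplement_iff.mpr ⟨hB0, hBc.1, fun g hg h hh hconj => ?_⟩
    obtain ⟨g, rfl⟩ := QuotientGroup.mk'_surjective Z g
    obtain ⟨a, ha, rfl⟩ := hh
    have hga : g⁻¹ * a * g ∈ A := by
      rw [← hker, Subgroup.mem_comap]
      simpa [π] using hconj
    have hgA : g ∉ A := fun h => hg ⟨g, h, rfl⟩
    refine (QuotientGroup.eq_one_iff a).mpr ?_
    have htop : A ⊔ MulAut.conj g • A = ⊤ := hA.2 _ (lt_of_le_of_ne le_sup_left fun e => hAn ?_)
    · rw [hZ, ← Subgroup.centralizer_univ, ← Subgroup.coe_top, ← htop]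
      have hle : A ⊔ MulAut.conj g • A ≤ Subgroup.centralizer ({a} : Set G) := by
        refine sup_le (fun x hx => Subgroup.mem_centralizer_singleton_iff.mpr (hAc x hx a ha)) fun x hx => ?_
        rw [Lib.Coprime.mem_conj_smul] at hx
        refine Subgroup.mem_centralizer_singleton_iff.mpr ?_
        have := congrArg (fun z => g * z * g⁻¹) (hAc _ hx _ hga)
        simpa [mul_assoc] using this
      exact Subgroup.mem_centralizer_iff.mpr fun x hx =>
        (Subgroup.mem_centralizer_singleton_iff.mp (hle hx))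
    · exfalso
      refine hgA ?_
      have h1 : g ∈ Subgroup.normalizer (A : Set G) := Lib.Coprime.mem_normalizer_of_conj_smul_eq
        (Lib.Coprime.eq_of_le_of_card_le (le_sup_right.trans e.ge) (Lib.Coprime.card_conj_smul g A).ge)
      rcases hA.le_iff.mp (Subgroup.le_normalizer : A ≤ Subgroup.normalizer (A : Set G)) with h2 | h2
      · exact absurd (Subgroup.normalizer_eq_top_iff.mp h2) hAn
      · exact h2 ▸ h1
  obtain ⟨K, hKn, -, hKB, hsup, hK0, -, hKnil, -⟩ := Lib.Solvable.FrobeniusAux.exists_nilpotent_kernel hF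
  haveI := hKn
  haveI := hKnil
  haveI : Nontrivial K := (Subgroup.nontrivial_iff_ne_bot K).mpr hK0
  refine two_of_commutative K ?_ ?_
  · have hKK : ⁅K, K⁆ = ⊥ := by
      rcases hBc.le_iff.mp (le_sup_right : B ≤ ⁅K, K⁆ ⊔ B) with h | h
      · exfalso
        have hKeq : ⁅K, K⁆ = K := by
          refine le_antisymm (Subgroup.commutator_le_self K) fun k hk => ?_
          obtain ⟨c, hc, b, hb, rfl⟩ := Subgroup.mem_sup_of_normal_left.mp
            (show k ∈ ⁅K, K⁆ ⊔ B by rw [h]; trivial)
          have : b ∈ K ⊓ B := ⟨by simpa using mul_mem (inv_mem (Subgroup.commutator_le_self K hc)) hk, hb⟩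
          rw [hKB, Subgroup.mem_bot] at this
          rwa [this, mul_one]
        refine (Group.IsSolvable.commutator_lt_top_of_nontrivial K).ne
          (Subgroup.map_injective K.subtype_injective ?_)
        rw [Subgroup.map_subtype_commutator, hKeq, ← MonoidHom.range_eq_map, Subgroup.range_subtype]
      · rw [eq_bot_iff, ← hKB]
        exact le_inf (Subgroup.commutator_le_self K) (le_sup_left.trans h.le)
    intro a ha b hb
    exact (Subgroup.mem_centralizer_iff.mp (Subgroup.commutator_eq_bot_iff_le_centralizer.mp hKK ha) b hb).symm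
  · rw [← Subgroup.Normal.quotient_commutative_iff_commutator_le]
    refine ⟨⟨fun u v => ?_⟩⟩
    have hrep : ∀ w : (G ⧸ Z) ⧸ K, ∃ b ∈ B, QuotientGroup.mk' K b = w := by
      intro w
      obtain ⟨x, rfl⟩ := QuotientGroup.mk'_surjective K w
      obtain ⟨k, hk, b, hb, rfl⟩ := Subgroup.mem_sup_of_normal_left.mp (show x ∈ K ⊔ B by rw [hsup]; trivial)
      exact ⟨b, hb, by rw [map_mul, show QuotientGroup.mk' K k = 1 from (QuotientGroup.eq_one_iff k).mpr hk, one_mul]⟩
    obtain ⟨b, ⟨a, ha, rfl⟩, rfl⟩ := hrep u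
    obtain ⟨b', ⟨a', ha', rfl⟩, rfl⟩ := hrep v
    rw [← map_mul, ← map_mul, ← map_mul, ← map_mul, hAc a ha a' ha']

end Cfsg.Agent.S0556
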