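import Cfsg.Statements.S0557
import Mathlib.GroupTheory.Focal
import Mathlib.GroupTheory.Sylow

set_option autoImplicit false
open Cfsg
open scoped commutatorElement

namespace Cfsg.Agent.S0557

theorem focal_mono {G : Type*} [Group G] {A B : Subgroup G} (h : A ≤ B) :
    A.focalSubgroup ≤ B.focalSubgroup := by
  rw [Subgroup.focalSubgroup_def, Subgroup.focalSubgroup_def]
  apply Subgroup.closure_mono
  rintro g ⟨hg, x, hx, u, rfl⟩
  exact ⟨h hg, x, h hx, u, rfl⟩

theorem map_focal_le {G G' : Type*} [Group G] [Group G'] (f : G →* G') (A : Subgroup G) :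
    A.focalSubgroup.map f ≤ (A.map f).focalSubgroup := by
  rw [Subgroup.focalSubgroup_def, Subgroup.focalSubgroup_def, MonoidHom.map_closure]
  apply Subgroup.closure_mono
  rintro _ ⟨g, ⟨hg, x, hx, u, rfl⟩, rfl⟩
  exact ⟨⟨_, hg, rfl⟩, f x, ⟨x, hx, rfl⟩, f u, map_commutatorElement f x u⟩

theorem map_iterate_le {G G' : Type*} [Group G] [Group G'] (f : G →* G') (n : ℕ) (A : Subgroup G) :
    ((fun K : Subgroup G => K.focalSubgroup)^[n] A).map f ≤
      (fun K : Subgroup G' => K.focalSubgroup)^[n] (A.map f) := by
  induction n generalizing A with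
  | zero => exact le_rfl
  | succ n ih =>
    rw [Function.iterate_succ_apply', Function.iterate_succ_apply']
    exact (map_focal_le f _).trans (focal_mono (ih A))

universe u

theorem aux : ∀ (n : ℕ) (G : Type u) [Group G] [Finite G] (H : Subgroup G),
    (Nat.card H).Coprime H.index → (fun K : Subgroup G => Subgroup.focalSubgroup K)^[n] H = ⊥ →
    ∃ N : Subgroup G, N.Normal ∧ Subgroup.IsComplement' N H := by
  intro n
  induction n with
  | zero =>
    intro G _ _ H hHall hfoc
    simp only [Function.iterate_zero, id_eq] at hfoc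
    subst hfoc
    exact ⟨⊤, inferInstance, Subgroup.isComplement'_top_bot⟩
  | succ n ih =>
    intro G _ _ H hHall hfoc
    rw [Function.iterate_succ_apply] at hfoc
    let F := H.focalSubgroupOf
    let V := Subgroup.transferFocal H
    haveI : Finite (H ⧸ F) := Quotient.finite _
    have hpow : Function.Bijective fun y : H ⧸ F => y ^ H.index := by
      have : (Nat.card (H ⧸ F)).Coprime H.index :=
        Nat.Coprime.coprime_dvd_left (Subgroup.card_quotient_dvd_card F) hHall
      exact (powCoprime this).bijective
    have hVH : ∀ x : H, V x = 1 ↔ x ∈ F := by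
      intro x
      rw [show V x = (x : H ⧸ F) ^ H.index from Subgroup.transferFocal_eq_pow H x,
        ← QuotientGroup.eq_one_iff]
      exact ⟨fun h => hpow.1 (h.trans (one_pow _).symm), fun h => by rw [h, one_pow]⟩
    have hsurj : Function.Surjective V := by
      intro y
      obtain ⟨z, rfl⟩ := hpow.2 y
      obtain ⟨x, rfl⟩ := QuotientGroup.mk'_surjective F z
      exact ⟨x, Subgroup.transferFocal_eq_pow H x⟩
    set N := V.ker with hN
    have hcap : H.focalSubgroup.subgroupOf N = H.subgroupOf N := by
      ext ⟨x, hx⟩
      exact ⟨fun h => H.focalSubgroup_le h, fun h => (hVH ⟨x, h⟩).mp hx⟩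
    have hle : H.focalSubgroup ≤ N := fun x hx => by
      exact (hVH ⟨x, H.focalSubgroup_le hx⟩).mpr hx
    have hcard : Nat.card N * Nat.card H = Nat.card G * Nat.card H.focalSubgroup := by
      have h1 := N.card_mul_index
      have h2 := F.card_mul_index
      rw [show Nat.card F = Nat.card H.focalSubgroup from
        Nat.card_congr (Subgroup.subgroupOfEquivOfLe H.focalSubgroup_le).toEquiv] at h2
      rw [show N.index = F.index by
        rw [hN, Subgroup.index_ker, MonoidHom.range_eq_top.mpr hsurj, Subgroup.card_top,
          Subgroup.index_eq_card]] at h1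
      rw [← h1, ← h2]; ring
    set K := H.focalSubgroup.subgroupOf N
    have hKc : Nat.card K = Nat.card H.focalSubgroup :=
      Nat.card_congr (Subgroup.subgroupOfEquivOfLe hle).toEquiv
    have hKi : K.index = H.index := by
      have h1 := K.card_mul_index
      have h2 := H.card_mul_index
      rw [hKc] at h1
      refine Nat.eq_of_mul_eq_mul_left (Nat.mul_pos Nat.card_pos Nat.card_pos :
        0 < Nat.card H.focalSubgroup * Nat.card H) ?_
      calc Nat.card H.focalSubgroup * Nat.card H * K.index = Nat.card N * Nat.card H := by rw [← h1]; ring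
        _ = _ := by rw [hcard, ← h2]; ring
    obtain ⟨M, hM, hMK⟩ := ih N K (by
      rw [hKc, hKi]; exact hHall.coprime_dvd_left (Subgroup.card_dvd_of_le H.focalSubgroup_le)) (by
      refine (Subgroup.map_eq_bot_iff_of_injective _ N.subtype_injective).mp (le_bot_iff.mp ?_)
      refine (map_iterate_le N.subtype n K).trans ?_
      rw [Subgroup.map_subgroupOf_eq_of_le hle, hfoc])
    have hMc : Nat.card M = H.index := by
      have h1 := hMK.card_mul
      rw [hKc] at h1
      rw [← hKi]
      have h2 := K.card_mul_index
      rw [hKc, ← h1, mul_comm (Nat.card M)] at h2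
      exact (Nat.eq_of_mul_eq_mul_left Nat.card_pos h2).symm
    haveI : M.Characteristic := by
      refine Subgroup.characteristic_iff_map_le.mpr fun φ => ?_
      intro x hx
      obtain ⟨y, hy, rfl⟩ := hx
      have h1 : orderOf (φ y) ∣ H.index := by
        rw [MulEquiv.orderOf_eq, ← hMc]; exact Subgroup.orderOf_dvd_natCard _ hy
      have h2 : orderOf (QuotientGroup.mk (φ y) : N ⧸ M) ∣ Nat.card H.focalSubgroup := by
        refine (orderOf_dvd_natCard _).trans (dvd_of_eq ?_)
        rw [← Subgroup.index_eq_card, hMK.symm.index_eq_card, hKc]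
      have h3 : orderOf (QuotientGroup.mk (φ y) : N ⧸ M) = 1 :=
        Nat.eq_one_of_dvd_coprimes
          (hHall.coprime_dvd_left (Subgroup.card_dvd_of_le H.focalSubgroup_le)) h2
          ((orderOf_map_dvd (QuotientGroup.mk' M) (φ y)).trans h1)
      exact (QuotientGroup.eq_one_iff _).mp (orderOf_eq_one_iff.mp h3)
    refine ⟨M.map N.subtype, inferInstance, Subgroup.isComplement'_of_coprime ?_ ?_⟩
    · rw [Subgroup.card_map_of_injective N.subtype_injective, hMc, mul_comm]; exact H.card_mul_index
    · rw [Subgroup.card_map_of_injective N.subtype_injective, hMc]; exact hHall.symm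

/-- Higman's theorem: if the iterated focal series of a Hall subgroup reaches the trivial group, it has a normal complement. -/
theorem result {G : Type*} [Group G] [Finite G] (H : Subgroup G) (hHall : (Nat.card H).Coprime H.index) (n : ℕ) (hfoc : (fun K : Subgroup G => Subgroup.focalSubgroup K)^[n] H = ⊥) : ∃ N : Subgroup G, N.Normal ∧ Subgroup.IsComplement' N H := by
  exact aux n G H hHall hfoc

end Cfsg.Agent.S0557
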