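import Cfsg.Statements.S0558
import Cfsg.Agent.S0557
import Cfsg.Agent.S1459
import Cfsg.Agent.Lib.Coprime.Basic
import Cfsg.Agent.Lib.Coprime.Action
import Mathlib.GroupTheory.Nilpotent

set_option autoImplicit false
open Pointwise
open Cfsg
open scoped commutatorElement

namespace Cfsg.Agent.S0558

open Cfsg.Agent.Lib

/-- A subgroup with all Sylow normalizers equal to itself, not a Sylow subgroup, has a normal complement. -/
theorem result {G : Type*} [Group G] [Finite G] (H : Subgroup G) (hnot : ∀ p : ℕ, p.Prime → ∀ P : Sylow p G, (P : Subgroup G) ≠ H) (hnorm : ∀ p : ℕ, p.Prime → p ∣ Nat.card H → ∀ P : Sylow p H, Subgroup.normalizer (((P : Subgroup H).map H.subtype : Subgroup G) : Set G) = H) : ∃ N : Subgroup G, N.Normal ∧ Subgroup.IsComplement' N H := by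
  classical
  -- Sylow subgroups of `H` are Sylow subgroups of `G` and normal in `H`
  have hsyl : ∀ p : ℕ, ∀ _ : Fact p.Prime, p ∣ Nat.card H → ∀ P : Sylow p H,
      (P : Subgroup H).Normal ∧ Nat.card P = p ^ (Nat.card G).factorization p := by
    intro p hp hpH P
    set P' := (P : Subgroup H).map H.subtype with hP'
    have hN := hnorm p hp.out hpH P
    refine ⟨⟨fun x hx h => ?_⟩, ?_⟩
    · have h1 := (Subgroup.mem_normalizer_iff.mp (hN.ge h.2) (x : G)).mp ⟨x, hx, rfl⟩
      obtain ⟨y, hy, hyx⟩ := h1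
      have : y = h * x * h⁻¹ := Subtype.ext (by simpa using hyx)
      exact this ▸ hy
    · obtain ⟨T, hT⟩ := (show IsPGroup p P' from P.2.map H.subtype).exists_le_sylow
      have hPc : Nat.card P' = Nat.card P := Subgroup.card_map_of_injective H.subtype_injective
      rw [← T.card_eq_multiplicity, ← hPc]
      by_contra hne
      haveI := T.2.isNilpotent
      have hlt : P'.subgroupOf T < ⊤ := lt_top_iff_ne_top.mpr fun e => hne (by
        rw [le_antisymm hT (Subgroup.subgroupOf_eq_top.mp e)])
      have h1 := Group.normalizerCondition_of_isNilpotent (G := (T : Subgroup G)) _ hlt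
      obtain ⟨t, ht, htn⟩ := SetLike.exists_of_lt h1
      apply htn
      have htG : (t : G) ∈ Subgroup.normalizer (P' : Set G) := by
        refine Lib.Coprime.mem_normalizer_of_conj_smul_eq (Lib.Coprime.eq_of_le_of_card_le (fun x hx => ?_)
          (Lib.Coprime.card_conj_smul _ _).ge)
        rw [Lib.Coprime.mem_conj_smul] at hx
        have h2 := (Subgroup.mem_normalizer_iff.mp ht ⟨_, hT hx⟩).mp hx
        rw [Subgroup.mem_subgroupOf] at h2
        simpa [mul_assoc] using h2
      rw [hN] at htG
      -- the element lies in the Sylow subgroup of `H`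
      have hle : (P : Subgroup H) ≤ (T : Subgroup G).subgroupOf H := fun x hx => hT ⟨x, hx, rfl⟩
      have heq : (T : Subgroup G).subgroupOf H = (P : Subgroup H) := P.is_maximal' (T.2.comap_subtype) hle
      have h3 : (⟨(t : G), htG⟩ : H) ∈ (T : Subgroup G).subgroupOf H := t.2
      rw [heq] at h3
      exact ⟨_, h3, rfl⟩
  haveI hHnil : Group.IsNilpotent H := ((Group.isNilpotent_of_finite_tfae (G := H)).out 0 3 rfl rfl).mpr
    fun p hp P => by
      by_cases hd : p ∣ Nat.card H
      · exact (hsyl p hp hd P).1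
      · have : (P : Subgroup H) = ⊥ := Subgroup.card_eq_one.mp (by
          haveI := hp
          rw [P.card_eq_multiplicity, Nat.factorization_eq_zero_of_not_dvd hd, pow_zero])
        rw [this]; infer_instance
  have hHall : (Nat.card H).Coprime H.index := Nat.coprime_of_dvd fun p hp h1 h2 => by
    haveI := Fact.mk hp
    obtain ⟨P⟩ : Nonempty (Sylow p H) := inferInstance
    have h3 := (hsyl p inferInstance h1 P).2
    rw [P.card_eq_multiplicity, Nat.pow_right_injective hp.two_le |>.eq_iff] at h3
    have h4 := congrArg (fun m : ℕ => m.factorization p) H.card_mul_index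
    rw [Nat.factorization_mul Nat.card_pos.ne' Subgroup.index_ne_zero_of_finite, Finsupp.add_apply, h3] at h4
    have h5 := hp.factorization_pos_of_dvd Subgroup.index_ne_zero_of_finite h2
    omega
  -- fusion of elements of prime power order
  have hfus : ∀ (p : ℕ), p.Prime → ∀ x ∈ H, ∀ k : ℕ, orderOf x = p ^ k → ∀ u : G, u * x * u⁻¹ ∈ H →
      ∃ h ∈ H, h * x * h⁻¹ = u * x * u⁻¹ := by
    intro p hp x hx k hk u hu
    haveI := Fact.mk hp
    by_cases hk0 : k = 0
    · rw [hk0, pow_zero, orderOf_eq_one_iff] at hk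
      exact ⟨1, one_mem _, by simp [hk]⟩
    -- another prime in the order of `H`
    obtain ⟨q, hq, hqH, hqp⟩ : ∃ q, q.Prime ∧ q ∣ Nat.card H ∧ q ≠ p := by
      by_contra hno
      push Not at hno
      obtain ⟨P⟩ : Nonempty (Sylow p H) := inferInstance
      have hpH : p ∣ Nat.card H := by
        refine dvd_trans ?_ (Subgroup.orderOf_dvd_natCard H hx)
        rw [hk]; exact dvd_pow_self p hk0
      have hPc := (hsyl p inferInstance hpH P).2
      have hall : Nat.card H = Nat.card P := by
        rw [P.card_eq_multiplicity]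
        have h := Nat.eq_prime_pow_of_unique_prime_dvd Nat.card_pos.ne' fun {d} hd hdd => hno d hd hdd
        rw [h, hp.factorization_pow, Finsupp.single_eq_same]
      exact hnot p hp (Sylow.ofCard H (hall.trans hPc)) rfl
    haveI := Fact.mk hq
    obtain ⟨Q⟩ : Nonempty (Sylow q H) := inferInstance
    have hQc := (hsyl q inferInstance hqH Q).2
    set Q' := (Q : Subgroup H).map H.subtype with hQ'
    have hQn := hnorm q hq hqH Q
    have hcomm : ∀ w ∈ H, ∀ k : ℕ, orderOf w = p ^ k → Q' ≤ Subgroup.centralizer ({w} : Set G) := by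
      rintro w hw l hl _ ⟨z, hz, rfl⟩
      refine Subgroup.mem_centralizer_singleton_iff.mpr (congrArg Subtype.val
        (Cfsg.Agent.S1459.commute_of_coprime_orderOf (N := H) z ⟨w, hw⟩ ?_))
      obtain ⟨j, hj⟩ := IsPGroup.iff_orderOf.mp Q.2 ⟨z, hz⟩
      rw [Subgroup.orderOf_mk] at hj
      rw [hj, Subgroup.orderOf_mk, hl]
      exact Nat.Coprime.pow _ _ ((Nat.coprime_primes hq hp).mpr hqp)
    set C := Subgroup.centralizer ({x} : Set G) with hC
    set R := MulAut.conj u⁻¹ • Q' with hR
    have hQC : Q' ≤ C := hcomm x hx k hk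
    have hRC : R ≤ C := by
      intro z hz
      rw [hR, Lib.Coprime.mem_conj_smul, inv_inv] at hz
      have h1 := Subgroup.mem_centralizer_singleton_iff.mp (hcomm _ hu k (by
        rw [show u * x * u⁻¹ = MulAut.conj u x from rfl, MulEquiv.orderOf_eq]; exact hk) hz)
      refine Subgroup.mem_centralizer_singleton_iff.mpr ?_
      have h2 := congrArg (fun w => u⁻¹ * w * u) h1
      simpa [mul_assoc] using h2
    have hQ'c : Nat.card Q' = q ^ (Nat.card G).factorization q := by
      rw [hQ', Subgroup.card_map_of_injective H.subtype_injective]; exact hQc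
    have hRc : Nat.card R = q ^ (Nat.card G).factorization q := by
      rw [hR, Lib.Coprime.card_conj_smul, hQ'c]
    obtain ⟨c, hc⟩ := MulAction.exists_smul_eq C ((Sylow.ofCard Q' hQ'c).subtype hQC)
      ((Sylow.ofCard R hRc).subtype hRC)
    have hcR : MulAut.conj (c : G) • Q' = R := by
      refine Lib.Coprime.eq_of_le_of_card_le (fun z hz => ?_) (le_of_eq (by rw [hRc, Lib.Coprime.card_conj_smul, hQ'c]))
      have h1 := Lib.Coprime.mem_conj_smul.mp hz
      have hzC : z ∈ C := by
        have := mul_mem (mul_mem c.2 (hQC h1)) (inv_mem c.2)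
        simpa [mul_assoc] using this
      have h2 : (⟨z, hzC⟩ : C) ∈ ((c • (Sylow.ofCard Q' hQ'c).subtype hQC : Sylow q C) : Subgroup C) := by
        rw [Sylow.smul_def, Sylow.pointwise_smul_def]
        exact Lib.Coprime.mem_conj_smul.mpr h1
      rw [hc] at h2
      exact h2
    refine ⟨u * c, ?_, ?_⟩
    · rw [← hQn]
      refine Lib.Coprime.mem_normalizer_of_conj_smul_eq ?_
      rw [Lib.Coprime.conj_mul_smul, hcR, hR, ← Lib.Coprime.conj_mul_smul, mul_inv_cancel,
        Lib.Coprime.conj_one_smul]
    · have hcx : (c : G) * x = x * c := (Subgroup.mem_centralizer_singleton_iff.mp c.2)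
      calc u * c * x * (u * c)⁻¹ = u * (c * x) * (c : G)⁻¹ * u⁻¹ := by group
        _ = u * x * u⁻¹ := by rw [hcx]; group
  -- the focal series descends with the lower central series
  have hstep : ∀ i : ℕ, (H.lowerCentralSeries i).focalSubgroup ≤ H.lowerCentralSeries (i + 1) := by
    intro i
    set L := H.lowerCentralSeries i
    have hLH : L ≤ H := (Subgroup.lowerCentralSeries_antitone H (Nat.zero_le i)).trans (le_of_eq rfl)
    set M := H.lowerCentralSeries (i + 1) with hM
    have hMn : H ≤ Subgroup.normalizer (M : Set G) := Subgroup.self_le_normalizer_lowerCentralSeries H (i + 1)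
    have key : ∀ n : ℕ, ∀ x ∈ L, orderOf x = n → ∀ u : G, u * x * u⁻¹ ∈ H → x * (u * x * u⁻¹)⁻¹ ∈ M := by
      intro n
      induction n using Nat.strongRecOn with
      | ind n ih =>
      intro x hx hn u hu
      by_cases hpp : IsPrimePow n ∨ n = 1
      · obtain ⟨p, k, hp, hpk⟩ : ∃ p k : ℕ, p.Prime ∧ p ^ k = n := by
          rcases hpp with h | h
          · obtain ⟨p, k, hp, -, hpk⟩ := (isPrimePow_nat_iff n).mp h
            exact ⟨p, k, hp, hpk⟩
          · exact ⟨2, 0, Nat.prime_two, by rw [h, pow_zero]⟩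
        obtain ⟨h, hh, he⟩ := hfus p hp x (hLH hx) k (hn.trans hpk.symm) u hu
        rw [← he, hM, Subgroup.lowerCentralSeries_succ]
        have h1 := Subgroup.commutator_mem_commutator hx hh
        rw [show x * (h * x * h⁻¹)⁻¹ = ⁅x, h⁆ by rw [commutatorElement_def]; group]
        exact h1
      push Not at hpp
      have hn0 : n ≠ 0 := hn ▸ (orderOf_pos x).ne'
      obtain ⟨p, hp, hd⟩ := Nat.exists_prime_and_dvd hpp.2
      set a := p ^ n.factorization p with ha
      set b := n / a with hb
      have hab : a * b = n := Nat.ordProj_mul_ordCompl_eq_self n p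
      have hcop : a.Coprime b := Nat.Coprime.pow_left _ (Nat.coprime_ordCompl hp hn0)
      have ha1 : 1 < a := Nat.one_lt_pow (hp.factorization_pos_of_dvd hn0 hd).ne' hp.one_lt
      have hb1 : 1 < b := by
        have hb0 : b ≠ 0 := fun e => hn0 (by rw [← hab, e, mul_zero])
        by_contra hle
        have : b = 1 := (Nat.le_one_iff_eq_zero_or_eq_one.mp (not_lt.mp hle)).resolve_left hb0
        rw [this, mul_one] at hab
        exact hpp.1 ((isPrimePow_nat_iff n).mpr ⟨p, _, hp, hp.factorization_pos_of_dvd hn0 hd, hab⟩)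
      obtain ⟨s, t, hst⟩ : ∃ s t : ℤ, s * a + t * b = 1 := Nat.isCoprime_iff_coprime.mpr hcop
      set x1 := x ^ (s * a) with hx1
      set x2 := x ^ (t * b) with hx2
      have hx12 : x = x1 * x2 := by rw [hx1, hx2, ← zpow_add, hst, zpow_one]
      have hxn : x ^ (n : ℤ) = 1 := by rw [zpow_natCast, ← hn, pow_orderOf_eq_one]
      have ho1 : orderOf x1 < n := by
        refine lt_of_le_of_lt (Nat.le_of_dvd (by omega) (orderOf_dvd_of_pow_eq_one (n := b) ?_)) (by nlinarith)
        rw [hx1, ← zpow_natCast, ← zpow_mul, show s * a * b = (n : ℤ) * s by rw [← hab]; push_cast; ring,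
          zpow_mul, hxn, one_zpow]
      have ho2 : orderOf x2 < n := by
        refine lt_of_le_of_lt (Nat.le_of_dvd (by omega) (orderOf_dvd_of_pow_eq_one (n := a) ?_)) (by nlinarith)
        rw [hx2, ← zpow_natCast, ← zpow_mul, show t * b * a = (n : ℤ) * t by rw [← hab]; push_cast; ring,
          zpow_mul, hxn, one_zpow]
      have hc1 : u * x1 * u⁻¹ = (u * x * u⁻¹) ^ (s * a) := by rw [hx1, conj_zpow]
      have hc2 : u * x2 * u⁻¹ = (u * x * u⁻¹) ^ (t * b) := by rw [hx2, conj_zpow]
      have e1 := ih _ ho1 x1 (zpow_mem hx _) rfl u (hc1 ▸ zpow_mem hu _)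
      have e2 := ih _ ho2 x2 (zpow_mem hx _) rfl u (hc2 ▸ zpow_mem hu _)
      have he : x * (u * x * u⁻¹)⁻¹ = (x1 * (x2 * (u * x2 * u⁻¹)⁻¹) * x1⁻¹) * (x1 * (u * x1 * u⁻¹)⁻¹) := by
        conv_lhs => rw [hx12]
        group
      rw [he]
      exact mul_mem ((Subgroup.mem_normalizer_iff.mp (hMn (hLH (zpow_mem hx _))) _).mp e2) e1
    rw [Subgroup.focalSubgroup_def, Subgroup.closure_le]
    rintro g ⟨hg, x, hx, u, rfl⟩
    have hu : u * x * u⁻¹ ∈ H := by
      have := mul_mem (inv_mem (hLH hg)) (hLH hx)
      simpa [commutatorElement_def, mul_assoc] using this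
    have := key _ x hx rfl u hu
    simpa [commutatorElement_def, mul_assoc] using this
  obtain ⟨n, hn⟩ := (Subgroup.isNilpotent_iff_lowerCentralSeries H).mp hHnil
  refine Cfsg.Agent.S0557.aux n G H hHall (le_bot_iff.mp (le_trans ?_ hn.le))
  clear hn
  induction n with
  | zero => exact le_rfl
  | succ n ih =>
    rw [Function.iterate_succ_apply']
    exact (Cfsg.Agent.S0557.focal_mono ih).trans (hstep n)

end Cfsg.Agent.S0558
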