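import Cfsg.Statements.S0561
import Cfsg.Agent.Lib.Solvable.Products

set_option autoImplicit false
open Pointwise
open Cfsg

namespace Cfsg.Agent.S0561

open Cfsg.Agent.Lib

theorem base {G : Type*} [Group G] [Finite G] [Group.IsSolvable G] (H K A B : Subgroup G)
    (hHK : ∀ g : G, ∃ h ∈ H, ∃ k ∈ K, g = h * k) (hA : H ≤ Subgroup.normalizer (A : Set G))
    (hB : K ≤ Subgroup.normalizer (B : Set G))
    (hAh : (Nat.card A).Coprime A.index) (hBh : (Nat.card B).Coprime B.index) :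
    ∃ U : Subgroup G, (U : Set G) = (A : Set G) * (B : Set G) := by
  classical
  obtain ⟨W, hW1, hW2⟩ := Lib.Coprime.exists_hall_of_solvable (G := G)
    (fun p => p ∣ Nat.card A ∨ p ∣ Nat.card B)
  have hWh : (Nat.card W).Coprime W.index := Nat.coprime_of_dvd fun p hp h1 h2 => hW2 p hp h2 (hW1 p hp h1)
  have hAW : (Nat.card A).Coprime W.index := Nat.coprime_of_dvd fun p hp h1 h2 => hW2 p hp h2 (Or.inl h1)
  have hBW : (Nat.card B).Coprime W.index := Nat.coprime_of_dvd fun p hp h1 h2 => hW2 p hp h2 (Or.inr h1)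
  obtain ⟨a, ha⟩ := Lib.Coprime.exists_le_conj_of_solvable hWh hAW
  obtain ⟨b, hb⟩ := Lib.Coprime.exists_le_conj_of_solvable hWh hBW
  obtain ⟨h, hh, k, hk, hhk⟩ := hHK (a * b⁻¹)
  set U := MulAut.conj (h⁻¹ * a) • W with hU
  have hAU : A ≤ U := by
    rw [hU, Lib.Coprime.conj_mul_smul, ← Lib.Coprime.conj_smul_eq_of_mem_normalizer (hA (inv_mem hh))]
    exact Subgroup.pointwise_smul_le_pointwise_smul_iff.mpr ha
  have hBU : B ≤ U := by
    rw [hU, show h⁻¹ * a = k * b by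
      calc h⁻¹ * a = h⁻¹ * ((a * b⁻¹) * b) := by group
        _ = k * b := by rw [hhk]; group,
      Lib.Coprime.conj_mul_smul, ← Lib.Coprime.conj_smul_eq_of_mem_normalizer (hB hk)]
    exact Subgroup.pointwise_smul_le_pointwise_smul_iff.mpr hb
  refine ⟨U, (Set.eq_of_subset_of_ncard_le ?_ ?_ (Set.toFinite _)).symm⟩
  · rintro _ ⟨x, hx, y, hy, rfl⟩
    exact mul_mem (hAU hx) (hBU hy)
  rw [← Nat.card_coe_set_eq, ← Nat.card_coe_set_eq]
  show Nat.card U ≤ _
  refine Nat.le_of_mul_le_mul_right ?_ (Nat.card_pos (α := (A ⊓ B : Subgroup G)))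
  rw [Lib.Solvable.Products.card_mul_set_mul_card_inf]
  -- `|U| · gcd(|A|, |B|)` divides `|A| · |B|`
  have hgcd : Nat.card (A ⊓ B : Subgroup G) ≤ Nat.gcd (Nat.card A) (Nat.card B) :=
    Nat.le_of_dvd (Nat.gcd_pos_of_pos_left _ Nat.card_pos)
      (Nat.dvd_gcd (Subgroup.card_dvd_of_le inf_le_left) (Subgroup.card_dvd_of_le inf_le_right))
  refine (Nat.mul_le_mul_left _ hgcd).trans ?_
  rw [← Nat.gcd_mul_lcm (Nat.card A) (Nat.card B), mul_comm (Nat.card U)]
  refine Nat.mul_le_mul_left _ (Nat.le_of_dvd (Nat.pos_of_ne_zero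
    (Nat.lcm_ne_zero Nat.card_pos.ne' Nat.card_pos.ne')) ?_)
  rw [hU, Lib.Coprime.card_conj_smul, ← Nat.factorization_prime_le_iff_dvd Nat.card_pos.ne'
    (Nat.lcm_ne_zero Nat.card_pos.ne' Nat.card_pos.ne')]
  intro p hp
  by_cases hpW : p ∣ Nat.card W
  swap
  · rw [Nat.factorization_eq_zero_of_not_dvd hpW]; exact Nat.zero_le _
  have key : ∀ X : Subgroup G, (Nat.card X).Coprime X.index → p ∣ Nat.card X →
      (Nat.card W).factorization p ≤ (Nat.card X).factorization p := by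
    intro X hX hpX
    have h1 := congrArg (fun m : ℕ => m.factorization p) X.card_mul_index
    rw [Nat.factorization_mul Nat.card_pos.ne' Subgroup.index_ne_zero_of_finite, Finsupp.add_apply,
      Nat.factorization_eq_zero_of_not_dvd (fun hd => hp.not_dvd_one (hX.gcd_eq_one ▸ Nat.dvd_gcd hpX hd)),
      add_zero] at h1
    rw [h1]
    exact (Nat.factorization_le_iff_dvd Nat.card_pos.ne' Nat.card_pos.ne').mpr
      (Subgroup.card_subgroup_dvd_card W) p
  rw [Nat.factorization_lcm Nat.card_pos.ne' Nat.card_pos.ne', Finsupp.sup_apply]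
  rcases hW1 p hp hpW with h1 | h1
  · exact (key A hAh h1).trans le_sup_left
  · exact (key B hBh h1).trans le_sup_right

/-- Products of conjugates of normal Hall subgroups of the factors. -/
theorem result {G : Type*} [Group G] [Finite G] [Group.IsSolvable G] (H K A B : Subgroup G) (hHK : ∀ g : G, ∃ h ∈ H, ∃ k ∈ K, g = h * k) (hA : A ≤ H) (hAn : (A.subgroupOf H).Normal) (hB : B ≤ K) (hBn : (B.subgroupOf K).Normal) (hAh : (Nat.card A).Coprime A.index) (hBh : (Nat.card B).Coprime B.index) (x y : G) : ∃ S : Subgroup G, (S : Set G) = ((MulAut.conj x • A : Subgroup G) : Set G) * ((MulAut.conj y • B : Subgroup G) : Set G) := by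
  have hA' := (Subgroup.normal_subgroupOf_iff_le_normalizer hA).mp hAn
  have hB' := (Subgroup.normal_subgroupOf_iff_le_normalizer hB).mp hBn
  obtain ⟨h, hh, k, hk, hhk⟩ := hHK (x⁻¹ * y)
  obtain ⟨U, hU⟩ := base H K A B hHK hA' hB' hAh hBh
  -- `y⁻¹ x = k⁻¹ h⁻¹`
  refine ⟨MulAut.conj (x * h) • U, ?_⟩
  rw [Subgroup.coe_pointwise_smul, hU, smul_mul', ← Subgroup.coe_pointwise_smul, ← Subgroup.coe_pointwise_smul]
  rw [Lib.Coprime.conj_mul_smul x h A, Lib.Coprime.conj_smul_eq_of_mem_normalizer (hA' hh),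
    show x * h = y * k⁻¹ by
      calc x * h = x * (h * k) * k⁻¹ := by group
        _ = _ := by rw [← hhk]; group,
    Lib.Coprime.conj_mul_smul y k⁻¹ B, Lib.Coprime.conj_smul_eq_of_mem_normalizer (hB' (inv_mem hk))]

end Cfsg.Agent.S0561
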