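import Cfsg.Statements.S0562
import Cfsg.Agent.Lib.Solvable.Products

set_option autoImplicit false
open Pointwise
open Cfsg

namespace Cfsg.Agent.S0562

/-- Let the finite group G be the product HK of subgroups, A normal in H, B normal in K, and L the normalizer of the subgroup generated by A and B. Then every element of L is a product of an element of L ∩ H and an element of L ∩ K. -/
theorem result {G : Type*} [Group G] [Finite G] (H K A B : Subgroup G) (hHK : ∀ g : G, ∃ h ∈ H, ∃ k ∈ K, g = h * k) (hA : A ≤ H) (hAn : (A.subgroupOf H).Normal) (hB : B ≤ K) (hBn : (B.subgroupOf K).Normal) : ∀ g ∈ Subgroup.normalizer ((A ⊔ B : Subgroup G) : Set G), ∃ h ∈ Subgroup.normalizer ((A ⊔ B : Subgroup G) : Set G) ⊓ H, ∃ k ∈ Subgroup.normalizer ((A ⊔ B : Subgroup G) : Set G) ⊓ K, g = h * k := by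
  intro g hg
  obtain ⟨h, hh, k, hk, rfl⟩ := hHK g
  have hA' : h⁻¹ ∈ Subgroup.normalizer (A : Set G) :=
    inv_mem ((Subgroup.normal_subgroupOf_iff_le_normalizer hA).mp hAn hh)
  have hB' := (Subgroup.normal_subgroupOf_iff_le_normalizer hB).mp hBn hk
  set J := A ⊔ B with hJ
  have hconj := Cfsg.Agent.Lib.Coprime.conj_smul_eq_of_mem_normalizer hg
  rw [Cfsg.Agent.Lib.Coprime.conj_mul_smul] at hconj
  set J' := MulAut.conj k • J with hJ'
  have hle : J ≤ J' := by
    refine sup_le ?_ ?_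
    · have h1 : MulAut.conj h⁻¹ • J = J' := by
        conv_lhs => rw [← hconj, ← Cfsg.Agent.Lib.Coprime.conj_mul_smul, inv_mul_cancel, map_one, one_smul]
      rw [← h1, ← Cfsg.Agent.Lib.Coprime.conj_smul_eq_of_mem_normalizer hA']
      exact Subgroup.pointwise_smul_le_pointwise_smul_iff.mpr le_sup_left
    · rw [hJ', ← Cfsg.Agent.Lib.Coprime.conj_smul_eq_of_mem_normalizer hB']
      exact Subgroup.pointwise_smul_le_pointwise_smul_iff.mpr le_sup_right
  have he : J' = J := (Cfsg.Agent.Lib.Coprime.eq_of_le_of_card_le hle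
    (Cfsg.Agent.Lib.Coprime.card_conj_smul k J).le).symm
  rw [he] at hconj
  exact ⟨h, Subgroup.mem_inf.mpr ⟨Cfsg.Agent.Lib.Coprime.mem_normalizer_of_conj_smul_eq hconj, hh⟩,
    k, Subgroup.mem_inf.mpr ⟨Cfsg.Agent.Lib.Coprime.mem_normalizer_of_conj_smul_eq he, hk⟩, rfl⟩

end Cfsg.Agent.S0562
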