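import Cfsg.Statements.S0563
import Cfsg.Agent.Lib.Solvable.KegelWielandt.Main
import Mathlib

set_option autoImplicit false
open Pointwise
open Cfsg

namespace Cfsg.Agent.S0563


/-- If a finite group G is the product AB of two nilpotent subgroups of coprime orders, then G is solvable, and for every Sylow p-subgroup P of A and Sylow q-subgroup Q of B the product set PQ is a subgroup. -/
theorem result {G : Type*} [Group G] [Finite G] (A B : Subgroup G) (hA : Group.IsNilpotent A) (hB : Group.IsNilpotent B) (hcop : (Nat.card A).Coprime (Nat.card B)) (hAB : ∀ g : G, ∃ a ∈ A, ∃ b ∈ B, g = a * b) : Group.IsSolvable G ∧ ∀ (p q : ℕ) [Fact p.Prime] [Fact q.Prime] (P : Sylow p A) (Q : Sylow q B), ∃ S : Subgroup G, (S : Set G) = (((P : Subgroup A).map A.subtype : Subgroup G) : Set G) * (((Q : Subgroup B).map B.subtype : Subgroup G) : Set G) := by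
  open Cfsg.Agent.Lib in
  open Cfsg.Agent.Lib.Solvable.KegelWielandt in
  refine ⟨isSolvable_aux _ G rfl A B hA hB hAB, ?_⟩
  intro p q hp hq P Q
  open Cfsg.Agent.Lib in
  open Cfsg.Agent.Lib.Solvable.KegelWielandt in
  rw [pPart_eq_sylow hA p P, pPart_eq_sylow hB q Q]
  open Cfsg.Agent.Lib in
  open Cfsg.Agent.Lib.Solvable.KegelWielandt in
  by_cases hpA : p ∣ Nat.card A
  · by_cases hqB : q ∣ Nat.card B
    · have hne : p ≠ q := fun e => hp.out.ne_one (Nat.eq_one_of_dvd_coprimes hcop hpA (e ▸ hqB))
      have hG : Nat.card G = Nat.card A * Nat.card B := by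
        have h1 := Solvable.Products.card_mul_set_mul_card_inf A B
        have huniv : (A : Set G) * (B : Set G) = Set.univ := Set.eq_univ_of_forall fun x => by
          obtain ⟨a, ha, b, hb, rfl⟩ := hAB x
          exact Set.mul_mem_mul ha hb
        rw [huniv, Coprime.inf_eq_bot_of_coprime_card hcop, Subgroup.card_bot, mul_one,
          Nat.card_congr (Equiv.Set.univ G)] at h1
        exact h1
      have hfac : ∀ r, (Nat.card G).factorization r =
          (Nat.card A).factorization r + (Nat.card B).factorization r := fun r => by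
        rw [hG, Nat.factorization_mul Nat.card_pos.ne' Nat.card_pos.ne', Finsupp.add_apply]
      have hpB : ¬ p ∣ Nat.card B := fun h => hp.out.ne_one (Nat.eq_one_of_dvd_coprimes hcop hpA h)
      have hqA : ¬ q ∣ Nat.card A := fun h => hq.out.ne_one (Nat.eq_one_of_dvd_coprimes hcop h hqB)
      refine ⟨pPart A p ⊔ pPart B q, mul_eq_of_solvable hAB (le_normalizer_pPart A p)
        (le_normalizer_pPart B q) hne ?_ ?_ ?_ le_top le_top⟩
      · rw [card_pPart hA p, hfac, Nat.factorization_eq_zero_of_not_dvd hpB, add_zero]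
      · rw [card_pPart hB q, hfac, Nat.factorization_eq_zero_of_not_dvd hqA, zero_add]
      · exact Coprime.isSolvable_of_surjective' (f := (Subgroup.topEquiv (G := G)).symm.toMonoidHom)
          (Subgroup.topEquiv (G := G)).symm.surjective (isSolvable_aux _ G rfl A B hA hB hAB)
    · refine ⟨pPart A p, ?_⟩
      have : pPart B q = ⊥ := Subgroup.card_eq_one.mp (by
        rw [card_pPart hB q, Nat.factorization_eq_zero_of_not_dvd hqB, pow_zero])
      rw [this, Subgroup.coe_bot]
      simp
  · refine ⟨pPart B q, ?_⟩
    have : pPart A p = ⊥ := Subgroup.card_eq_one.mp (by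
      rw [card_pPart hA p, Nat.factorization_eq_zero_of_not_dvd hpA, pow_zero])
    rw [this, Subgroup.coe_bot]
    simp

end Cfsg.Agent.S0563
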