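import Cfsg.Statements.S0567
import Cfsg.Agent.Lib.Solvable.Zipper
import Cfsg.Agent.Lib.PGroups.Subnormal

set_option autoImplicit false
open Cfsg

namespace Cfsg.Agent.S0567

/-- A subgroup H of a group G is subnormal exactly when, for some m, the subgroup obtained from G by taking the commutator with H m times in succession is contained in H. -/
theorem result {G : Type*} [Group G] (H : Subgroup G) : H.IsSubnormal ↔ ∃ m : ℕ, (fun K : Subgroup G => ⁅K, H⁆)^[m] ⊤ ≤ H := by
  constructor
  · intro hH
    suffices ∀ L : Subgroup G, L ≤ H → ∃ m : ℕ, (fun K : Subgroup G => ⁅K, L⁆)^[m] ⊤ ≤ H from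
      this H le_rfl
    induction hH with
    | top => exact fun L _ => ⟨0, le_top⟩
    | step H K h_le _ hN ih =>
      intro L hL
      obtain ⟨m, hm⟩ := ih L (hL.trans h_le)
      refine ⟨m + 1, ?_⟩
      rw [Function.iterate_succ_apply']
      refine (Subgroup.commutator_mono hm hL).trans ?_
      rw [Subgroup.commutator_le]
      intro k hk h hh
      rw [commutatorElement_def]
      exact mul_mem ((Subgroup.mem_normalizer_iff.mp
        ((Subgroup.normal_subgroupOf_iff_le_normalizer h_le).mp hN hk) h).mp hh) (inv_mem hh)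
  · rintro ⟨m, hm⟩
    have key : ∀ i, H ≤ Subgroup.normalizer (((fun K : Subgroup G => ⁅K, H⁆)^[i] ⊤ : Subgroup G) : Set G) ∧
        (H ⊔ (fun K : Subgroup G => ⁅K, H⁆)^[i] ⊤).IsSubnormal := by
      intro i
      induction i with
      | zero =>
        refine ⟨?_, by simp⟩
        show H ≤ Subgroup.normalizer ((⊤ : Subgroup G) : Set G)
        rw [Subgroup.normalizer_eq_top]
        exact le_top
      | succ i ih =>
        obtain ⟨hn, hs⟩ := ih
        rw [Function.iterate_succ_apply']
        set K := (fun K : Subgroup G => ⁅K, H⁆)^[i] ⊤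
        have hle : ⁅K, H⁆ ≤ K := by
          rw [Subgroup.commutator_le]
          intro k hk h hh
          rw [commutatorElement_def, mul_assoc, mul_assoc, ← mul_assoc h]
          exact mul_mem hk ((Subgroup.mem_normalizer_iff.mp (hn hh) _).mp (inv_mem hk))
        refine ⟨Subgroup.normalizer_commutator_ge_right K H,
          Subgroup.IsSubnormal.step _ _ (sup_le_sup_left hle H) hs
            (Subgroup.normal_subgroupOf_of_le_normalizer (sup_le
              (Subgroup.le_normalizer.trans' le_sup_left) (fun k hk => ?_)))⟩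
        have hk' : ∀ x ∈ K, ∀ y ∈ H ⊔ ⁅K, H⁆, x * y * x⁻¹ ∈ H ⊔ ⁅K, H⁆ := by
          intro x hx y hy
          have hKn := Subgroup.normalizer_commutator_ge_left K H hx
          obtain ⟨c, hc, h, hh, rfl⟩ := Cfsg.Agent.Lib.Coprime.exists_mul_of_mem_sup
            (Subgroup.normalizer_commutator_ge_right K H) (sup_comm H ⁅K, H⁆ ▸ hy)
          rw [show x * (c * h) * x⁻¹ = (x * c * x⁻¹) * ((x * h * x⁻¹ * h⁻¹) * h) by group]
          refine mul_mem (Subgroup.mem_sup_right ((Subgroup.mem_normalizer_iff.mp hKn c).mp hc))
            (mul_mem (Subgroup.mem_sup_right ?_) (Subgroup.mem_sup_left hh))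
          rw [← commutatorElement_def]
          exact Subgroup.commutator_mem_commutator hx hh
        rw [Subgroup.mem_normalizer_iff]
        refine fun y => ⟨hk' k hk y, fun hy => ?_⟩
        have := hk' k⁻¹ (inv_mem hk) _ hy
        simpa [mul_assoc] using this
    have := (key m).2
    rwa [sup_eq_left.mpr hm] at this

end Cfsg.Agent.S0567
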