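import Cfsg.Statements.S0568
import Cfsg.Agent.Lib.Solvable.SystemNormalizer

set_option autoImplicit false
open Cfsg

namespace Cfsg.Agent.S0568

/-- Let D be the system normalizer of a Hall complement system of a finite solvable group G, and let A < B be normal subgroups with no normal subgroup of G strictly between them (a chief factor). If G centralizes B modulo A then B ≤ A ⊔ D (D covers the factor); otherwise B ∩ D ≤ A (D avoids it). -/
theorem result {G : Type*} [Group G] [Finite G] [Group.IsSolvable G] (K : Nat.Primes → Subgroup G) (hK : Cfsg.IsComplementSystem K) (A B : Subgroup G) [A.Normal] [B.Normal] (hAB : A < B) (hchief : ∀ N : Subgroup G, N.Normal → A ≤ N → N ≤ B → N = A ∨ N = B) : (⁅B, (⊤ : Subgroup G)⁆ ≤ A → B ≤ A ⊔ Cfsg.systemNormalizer K) ∧ (¬ ⁅B, (⊤ : Subgroup G)⁆ ≤ A → B ⊓ Cfsg.systemNormalizer K ≤ A) := by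
  classical
  let π := QuotientGroup.mk' A
  have hsurj := QuotientGroup.mk'_surjective A
  have hmap := Lib.Solvable.SystemNormalizer.map_systemNormalizer hK A
  have hsysA := Lib.Solvable.SystemNormalizer.isComplementSystem_map hK A
  haveI : (B.map π).Normal := (inferInstance : B.Normal).map π hsurj
  have hcent : ⁅B, (⊤ : Subgroup G)⁆ ≤ A ↔ B.map π ≤ Subgroup.center (G ⧸ A) := by
    constructor
    · rintro h _ ⟨b, hb, rfl⟩
      refine Subgroup.mem_center_iff.mpr fun q => ?_
      obtain ⟨g, rfl⟩ := hsurj q
      have h1 : π (b * g * b⁻¹ * g⁻¹) = 1 :=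
        (QuotientGroup.eq_one_iff _).mpr (h (Subgroup.commutator_mem_commutator hb (Subgroup.mem_top g)))
      rw [map_mul, map_mul, map_mul, map_inv, map_inv, mul_inv_eq_one, mul_inv_eq_iff_eq_mul] at h1
      exact h1.symm
    · intro h
      rw [Subgroup.commutator_le]
      intro b hb g _
      rw [← QuotientGroup.eq_one_iff]
      show π (b * g * b⁻¹ * g⁻¹) = 1
      rw [map_mul, map_mul, map_mul, map_inv, map_inv,
        ← (Subgroup.mem_center_iff.mp (h ⟨b, hb, rfl⟩) (π g)), mul_inv_cancel_right, mul_inv_cancel]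
  refine ⟨fun h b hb => ?_, fun h => ?_⟩
  · have h1 : π b ∈ (Cfsg.systemNormalizer K).map π := by
      rw [← hmap]
      exact Lib.Solvable.SystemNormalizer.center_le_systemNormalizer _ (hcent.mp h ⟨b, hb, rfl⟩)
    rw [← Subgroup.mem_comap, Subgroup.comap_map_eq, QuotientGroup.ker_mk', sup_comm] at h1
    exact h1
  · have hmin : ∀ N : Subgroup (G ⧸ A), N.Normal → N ≤ B.map π → N = ⊥ ∨ N = B.map π := by
      intro N hN hle
      have hAN : A ≤ N.comap π := by
        intro a ha
        show π a ∈ N
        rw [show π a = 1 from (QuotientGroup.eq_one_iff a).mpr ha]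
        exact one_mem _
      have hNB : N.comap π ≤ B := by
        refine (Subgroup.comap_mono hle).trans (le_of_eq ?_)
        rw [Subgroup.comap_map_eq, QuotientGroup.ker_mk', sup_eq_left]
        exact hAB.le
      rcases hchief _ (hN.comap π) hAN hNB with e | e
      · left
        rw [← Subgroup.map_comap_eq_self_of_surjective (f := π) hsurj N, e]
        exact QuotientGroup.map_mk'_self A
      · right
        rw [← Subgroup.map_comap_eq_self_of_surjective (f := π) hsurj N, e]
    have h1 := Lib.Solvable.SystemNormalizer.inf_systemNormalizer_eq_bot hsysA (B.map π) hmin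
      (fun e => h (hcent.mpr e))
    intro b hb
    have h2 : π b ∈ B.map π ⊓ Cfsg.systemNormalizer fun p => (K p).map π := by
      refine ⟨⟨b, hb.1, rfl⟩, ?_⟩
      rw [hmap]
      exact ⟨b, hb.2, rfl⟩
    rw [h1, Subgroup.mem_bot] at h2
    exact (QuotientGroup.eq_one_iff b).mp h2

end Cfsg.Agent.S0568
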