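import Cfsg.Statements.S0570
import Cfsg.Agent.Lib.Solvable.Carter

set_option autoImplicit false
open Pointwise
open Cfsg

namespace Cfsg.Agent.S0570

/-- Let G be a finite group with a nilpotent normal subgroup F such that G modulo F is nilpotent (nilpotent length at most two). Then a subgroup of G is a Carter subgroup if and only if it is the system normalizer of some Hall complement system. -/
theorem result {G : Type*} [Group G] [Finite G] (F : Subgroup G) [F.Normal] (hF : Group.IsNilpotent F) (hGF : Group.IsNilpotent (G ⧸ F)) (C : Subgroup G) : Cfsg.IsCarterSubgroup C ↔ ∃ K : Nat.Primes → Subgroup G, Cfsg.IsComplementSystem K ∧ C = Cfsg.systemNormalizer K := by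
  haveI := hGF
  haveI := hF
  haveI : Group.IsSolvable G :=
    Group.isSolvable_of_ker_le_range F.subtype (QuotientGroup.mk' F)
      (by rw [QuotientGroup.ker_mk', Subgroup.range_subtype])
  have key : ∀ C : Subgroup G, Cfsg.IsCarterSubgroup C → ∃ K : Nat.Primes → Subgroup G,
      Cfsg.IsComplementSystem K ∧ C = Cfsg.systemNormalizer K := fun C hC => by
    obtain ⟨K, hK, hD, hr⟩ := Lib.Solvable.Carter.exists_system _ G rfl inferInstance C hC
    exact ⟨K, hK, le_antisymm (Lib.Solvable.Carter.systemNormalizer_eq F hF hC hK hr) hD⟩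
  refine ⟨key C, ?_⟩
  rintro ⟨K, hK, rfl⟩
  obtain ⟨C₀, hC₀⟩ := Lib.Solvable.Carter.exists_carter _ G rfl inferInstance
  obtain ⟨L, hL, hCL⟩ := key C₀ hC₀
  obtain ⟨g, hg⟩ := Lib.Solvable.SystemNormalizer.exists_conj hL hK
  rw [show K = fun p => MulAut.conj g • L p from funext fun p => (hg p).symm,
    Lib.Solvable.SystemNormalizer.systemNormalizer_conj, ← hCL]
  exact Lib.Solvable.Carter.isCarter_conj g hC₀

end Cfsg.Agent.S0570
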