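import Cfsg.Statements.S0573
import Cfsg.Agent.S0572
import Cfsg.Agent.Lib.Solvable.Products
import Cfsg.Agent.Lib.Solvable.Nilpotent
import Mathlib.GroupTheory.Nilpotent

set_option autoImplicit false
open Cfsg
open scoped commutatorElement

namespace Cfsg.Agent.S0573

open Cfsg.Agent.Lib

/-- With trivial centre, the elements of a factor centralizing `G'` form a normal subgroup. -/
theorem inf_centralizer_normal {G : Type*} [Group G] (A B : Subgroup G) [IsMulCommutative A] [IsMulCommutative B]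
    (hAB : ∀ g : G, ∃ a ∈ A, ∃ b ∈ B, g = a * b) (hZ : Subgroup.center G = ⊥) :
    (A ⊓ Subgroup.centralizer (commutator G : Set G)).Normal := by
  refine ⟨fun x hx g => ⟨?_, ?_⟩⟩
  swap
  · exact (Subgroup.centralizer (commutator G : Set G)).normal_of_characteristic.conj_mem x hx.2 g
  have hA : ∀ a ∈ A, ∀ a' ∈ A, a * a' = a' * a := fun a ha a' ha' =>
    congrArg Subtype.val (IsMulCommutative.is_comm.comm (⟨a, ha⟩ : A) ⟨a', ha'⟩)
  have hcent : ∀ a' ∈ A, a' * (g * x * g⁻¹) = (g * x * g⁻¹) * a' := by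
    intro a' ha'
    have hw : g⁻¹ * a' * g * a'⁻¹ ∈ commutator G := by
      rw [commutator_def]
      simpa [commutatorElement_def] using
        Subgroup.commutator_mem_commutator (Subgroup.mem_top g⁻¹) (Subgroup.mem_top a')
    have h1 : (g⁻¹ * a' * g * a'⁻¹) * x = x * (g⁻¹ * a' * g * a'⁻¹) :=
      Subgroup.mem_centralizer_iff.mp hx.2 _ hw
    have h2 := hA a' ha' x hx.1
    calc a' * (g * x * g⁻¹) = g * ((g⁻¹ * a' * g * a'⁻¹) * (a' * x)) * g⁻¹ := by group
      _ = g * (((g⁻¹ * a' * g * a'⁻¹) * x) * a') * g⁻¹ := by rw [h2]; group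
      _ = g * x * g⁻¹ * a' := by rw [h1]; group
  obtain ⟨a, ha, b, hb, he⟩ := hAB (g * x * g⁻¹)
  have hbA : ∀ a' ∈ A, a' * b = b * a' := by
    intro a' ha'
    have h1 := hcent a' ha'
    rw [he, ← mul_assoc, hA a' ha' a ha, mul_assoc, mul_assoc a b a'] at h1
    exact mul_left_cancel h1
  have hbc : b ∈ Subgroup.center G := Subgroup.mem_center_iff.mpr fun y => by
    obtain ⟨a', ha', b', hb', rfl⟩ := hAB y
    have h3 : b' * b = b * b' := congrArg Subtype.val (IsMulCommutative.is_comm.comm (⟨b', hb'⟩ : B) ⟨b, hb⟩)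
    rw [mul_assoc, h3, ← mul_assoc, hbA a' ha', mul_assoc]
  rw [hZ, Subgroup.mem_bot] at hbc
  rw [he, hbc, mul_one]
  exact ha

/-- A product of two abelian groups has a nontrivial normal subgroup in one of the factors. -/
theorem result {G : Type*} [Group G] [Finite G] [Nontrivial G] (A B : Subgroup G) [IsMulCommutative A] [IsMulCommutative B] (hAB : ∀ g : G, ∃ a ∈ A, ∃ b ∈ B, g = a * b) : ∃ N : Subgroup G, N.Normal ∧ N ≠ ⊥ ∧ (N ≤ A ∨ N ≤ B) := by
  classical
  have hA : ∀ a ∈ A, ∀ a' ∈ A, a * a' = a' * a := fun a ha a' ha' =>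
    congrArg Subtype.val (IsMulCommutative.is_comm.comm (⟨a, ha⟩ : A) ⟨a', ha'⟩)
  have hB : ∀ a ∈ B, ∀ a' ∈ B, a * a' = a' * a := fun a ha a' ha' =>
    congrArg Subtype.val (IsMulCommutative.is_comm.comm (⟨a, ha⟩ : B) ⟨a', ha'⟩)
  have hBA : ∀ g : G, ∃ b ∈ B, ∃ a ∈ A, g = b * a := by
    intro g
    obtain ⟨a, ha, b, hb, h⟩ := hAB g⁻¹
    exact ⟨b⁻¹, inv_mem hb, a⁻¹, inv_mem ha, by rw [← mul_inv_rev, ← h, inv_inv]⟩
  by_cases hZ : Subgroup.center G = ⊥
  swap
  · -- a central element has central factors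
    obtain ⟨z, hz, hz1⟩ := (Subgroup.center G).bot_or_exists_ne_one.resolve_left hZ
    obtain ⟨a, ha, b, hb, rfl⟩ := hAB z
    have hz' := Subgroup.mem_center_iff.mp hz
    have hb' : b ∈ Subgroup.center G := Subgroup.mem_center_iff.mpr fun y => by
      obtain ⟨a', ha', b', hb', rfl⟩ := hAB y
      have h1 := hz' a'
      rw [← mul_assoc, hA a' ha' a ha, mul_assoc, mul_assoc a b a'] at h1
      rw [mul_assoc, hB b' hb' b hb, ← mul_assoc, mul_left_cancel h1, mul_assoc]
    by_cases hb1 : b = 1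
    · refine ⟨Subgroup.center G ⊓ A, ⟨fun x hx g => ?_⟩, fun e => ?_, Or.inl inf_le_right⟩
      · rw [Subgroup.mem_center_iff.mp hx.1 g, mul_inv_cancel_right]; exact hx
      · subst hb1
        have : a * 1 ∈ Subgroup.center G ⊓ A := ⟨hz, by rw [mul_one]; exact ha⟩
        rw [e, Subgroup.mem_bot] at this
        exact hz1 this
    · refine ⟨Subgroup.center G ⊓ B, ⟨fun x hx g => ?_⟩, fun e => ?_, Or.inr inf_le_right⟩
      · rw [Subgroup.mem_center_iff.mp hx.1 g, mul_inv_cancel_right]; exact hx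
      · have : b ∈ Subgroup.center G ⊓ B := ⟨hb', hb⟩
        rw [e, Subgroup.mem_bot] at this
        exact hb1 this
  set D := commutator G with hD
  have hDc : ∀ x ∈ D, ∀ y ∈ D, x * y = y * x := by
    have h2 := Cfsg.Agent.S0572.result A B hAB
    rw [derivedSeries_succ, derivedSeries_one, Subgroup.commutator_eq_bot_iff_le_centralizer] at h2
    intro x hx y hy
    exact (Subgroup.mem_centralizer_iff.mp (h2 hx) y hy).symm
  by_cases hBD : B ⊓ D = ⊥
  swap
  · refine ⟨B ⊓ Subgroup.centralizer (D : Set G), inf_centralizer_normal B A hBA hZ, fun e => hBD ?_, Or.inr inf_le_left⟩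
    rw [eq_bot_iff, ← e]
    exact le_inf inf_le_left (inf_le_right.trans fun x hx => Subgroup.mem_centralizer_iff.mpr fun y hy => hDc y hy x hx)
  refine ⟨A ⊓ Subgroup.centralizer (D : Set G), inf_centralizer_normal A B hAB hZ, fun e => ?_, Or.inl inf_le_left⟩
  have hD1 : D ≠ ⊥ := by
    intro h
    rw [hD, commutator_eq_bot_iff_center_eq_top] at h
    exact (bot_ne_top : (⊥ : Subgroup G) ≠ ⊤) (hZ ▸ h)
  -- primary components of `G'`
  let V : ℕ → Subgroup G := fun q =>
    { carrier := {x | x ∈ D ∧ ∃ k : ℕ, x ^ q ^ k = 1}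
      one_mem' := ⟨one_mem _, 0, by simp⟩
      mul_mem' := fun {x y} hx hy => ⟨mul_mem hx.1 hy.1, by
        obtain ⟨k, hk⟩ := hx.2
        obtain ⟨l, hl⟩ := hy.2
        refine ⟨k + l, ?_⟩
        rw [(show Commute x y from hDc x hx.1 y hy.1).mul_pow, pow_add, pow_mul, hk, one_pow, one_mul,
          mul_comm, pow_mul, hl, one_pow]⟩
      inv_mem' := fun {x} hx => ⟨inv_mem hx.1, by
        obtain ⟨k, hk⟩ := hx.2
        exact ⟨k, by rw [inv_pow, hk, inv_one]⟩⟩ }
  have hVn : ∀ q, (V q).Normal := fun q => ⟨fun x hx g => ⟨(inferInstance : D.Normal).conj_mem x hx.1 g, by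
    obtain ⟨k, hk⟩ := hx.2
    exact ⟨k, by rw [conj_pow, hk, mul_one, mul_inv_cancel]⟩⟩⟩
  have hVp : ∀ q, IsPGroup q (V q) := fun q x => by
    obtain ⟨k, hk⟩ := x.2.2
    exact ⟨k, Subtype.ext (by simpa using hk)⟩
  -- decomposition of primary elements
  have hdec : ∀ (q : ℕ) [Fact q.Prime], ∃ P : Sylow q A, ∀ v ∈ V q, ∃ a ∈ (P : Subgroup A).map A.subtype,
      ∃ b ∈ B, v = a * b := by
    intro q _
    obtain ⟨P, Q, R, hR⟩ := Lib.Solvable.Products.exists_sylow_mul A B hAB q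
    refine ⟨P, fun v hv => ?_⟩
    haveI := hVn q
    have h1 : v ∈ ((R : Subgroup G) : Set G) := IsPGroup.le_sylow_of_normal (hVp q) R hv
    rw [hR] at h1
    obtain ⟨a, ha, b, hb, rfl⟩ := h1
    exact ⟨a, ha, b, Subgroup.map_subtype_le _ hb, rfl⟩
  obtain ⟨p, hp, hpD⟩ := Nat.exists_prime_and_dvd (n := Nat.card D) (fun h => hD1 (Subgroup.card_eq_one.mp h))
  haveI := Fact.mk hp
  obtain ⟨P, hP⟩ := hdec p
  set Ap := (P : Subgroup A).map A.subtype with hAp
  obtain ⟨m, hm, hm1, hfix⟩ : ∃ m ∈ V p, m ≠ 1 ∧ ∀ c ∈ Ap, c * m = m * c := by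
    haveI := hVn p
    set W := Ap ⊔ V p with hW
    have hWp : IsPGroup p W := (P.2.map A.subtype).to_sup_of_normal_right (hVp p)
    haveI := hWp.isNilpotent
    have hne : (V p).subgroupOf W ≠ ⊥ := by
      intro h
      obtain ⟨x, hx⟩ := exists_prime_orderOf_dvd_card' (G := D) p hpD
      have hxV : (x : G) ∈ V p := ⟨x.2, 1, by
        rw [pow_one, ← SubmonoidClass.coe_pow, ← hx, pow_orderOf_eq_one]; rfl⟩
      have : (⟨x, Subgroup.mem_sup_right hxV⟩ : W) ∈ (V p).subgroupOf W := hxV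
      rw [h, Subgroup.mem_bot] at this
      have hx1 : x = 1 := Subtype.ext (congrArg Subtype.val this :)
      rw [hx1, orderOf_one] at hx
      exact hp.one_lt.ne hx
    obtain ⟨z, hz, hz1⟩ := (Subgroup.bot_or_exists_ne_one _).resolve_left (Lib.Solvable.inf_center_ne_bot hne)
    exact ⟨z, hz.1, fun h => hz1 (Subtype.ext h), fun c hc =>
      congrArg Subtype.val (Subgroup.mem_center_iff.mp hz.2 ⟨c, Subgroup.mem_sup_left hc⟩)⟩
  obtain ⟨a, ha, b, hb, hab⟩ := hP m hm
  have haA : a ∈ A := Subgroup.map_subtype_le _ ha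
  have ha1 : a ≠ 1 := fun h => hm1 (by
    have : m ∈ B ⊓ D := ⟨by rw [hab, h, one_mul]; exact hb, hm.1⟩
    rwa [hBD, Subgroup.mem_bot] at this)
  apply ha1
  rw [← Subgroup.mem_bot, ← e]
  refine ⟨haA, ?_⟩
  have hprim : ∀ (q : ℕ) [Fact q.Prime], ∀ v ∈ V q, a * v = v * a := by
    intro q hq v hv
    obtain ⟨P', hP'⟩ := hdec q
    obtain ⟨a', ha', b', hb', hab'⟩ := hP' v hv
    have ha'A : a' ∈ A := Subgroup.map_subtype_le _ ha'
    have hkey : a * v * a⁻¹ * m = a' * m * a'⁻¹ * v := by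
      have e1 : a * v * a⁻¹ * m = (a * a') * (b' * b) := by rw [hab, hab']; group
      have e2 : a' * m * a'⁻¹ * v = (a' * a) * (b * b') := by rw [hab, hab']; group
      rw [e1, e2, hA a haA a' ha'A, hB b' hb' b hb]
    have hz : a * v * a⁻¹ * v⁻¹ ∈ V p ⊓ V q := by
      refine ⟨?_, mul_mem ((hVn q).conj_mem v hv a) ((V q).inv_mem hv)⟩
      have : a * v * a⁻¹ * v⁻¹ = a' * m * a'⁻¹ * m⁻¹ := by
        rw [eq_mul_inv_iff_mul_eq, mul_assoc (a * v * a⁻¹), ← hDc m hm.1 v⁻¹ (inv_mem hv.1), ← mul_assoc,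
          hkey, mul_inv_cancel_right]
      rw [this]
      exact mul_mem ((hVn p).conj_mem m hm a') ((V p).inv_mem hm)
    by_cases hpq : q = p
    · subst hpq
      have hPP : P' = P := by
        haveI : (P : Subgroup A).Normal := ⟨fun x hx g => by
          rw [show g * x = x * g from Subtype.ext (hA g g.2 x x.2), mul_inv_cancel_right]; exact hx⟩
        haveI := Sylow.unique_of_normal P inferInstance
        exact Subsingleton.elim _ _
      subst hPP
      rw [hfix a' ha', mul_inv_cancel_right, hDc m hm.1 v hv.1] at hkey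
      exact mul_inv_eq_iff_eq_mul.mp (mul_right_cancel hkey)
    · have : a * v * a⁻¹ * v⁻¹ = 1 := by
        obtain ⟨⟨-, k, hk⟩, -, l, hl⟩ := hz
        exact orderOf_eq_one_iff.mp (Nat.eq_one_of_dvd_coprimes
          (Nat.Coprime.pow k l ((Nat.coprime_primes hp hq.out).mpr (Ne.symm hpq)))
          (orderOf_dvd_of_pow_eq_one hk) (orderOf_dvd_of_pow_eq_one hl))
      exact mul_inv_eq_iff_eq_mul.mp (mul_inv_eq_one.mp this)
  refine Subgroup.mem_centralizer_iff.mpr fun x hx => ?_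
  set C := (Subgroup.centralizer ({a} : Set G)).subgroupOf D with hC
  have hCtop : C = ⊤ := by
    refine Subgroup.index_eq_one.mp (Nat.eq_one_iff_not_exists_prime_dvd.mpr fun q hq hd => ?_)
    haveI := Fact.mk hq
    obtain ⟨S⟩ : Nonempty (Sylow q D) := inferInstance
    refine S.not_dvd_index (hd.trans (Subgroup.index_dvd_of_le fun y hy => ?_))
    obtain ⟨k, hk⟩ := S.2 ⟨y, hy⟩
    exact Subgroup.mem_centralizer_singleton_iff.mpr (hprim q y ⟨y.2, k, by
      exact (congrArg (fun z : S => ((z : D) : G)) hk :)⟩).symm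
  have : (⟨x, hx⟩ : D) ∈ C := hCtop ▸ Subgroup.mem_top _
  exact (Subgroup.mem_centralizer_singleton_iff.mp this)

end Cfsg.Agent.S0573
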