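import Cfsg.Statements.S0571
import Cfsg.Agent.S0573
import Cfsg.Agent.Lib.Solvable.Supersolvable

set_option autoImplicit false
open Cfsg

namespace Cfsg.Agent.S0571

open Cfsg.Agent.Lib

universe u

theorem aux : ∀ (n : ℕ) (G : Type u) [Group G] [Finite G], Nat.card G = n → ∀ (A B : Subgroup G),
    IsCyclic A → IsCyclic B → (∀ g : G, ∃ a ∈ A, ∃ b ∈ B, g = a * b) → Cfsg.IsSupersolvable G := by
  intro n
  induction n using Nat.strongRecOn with
  | ind n ih =>
  intro G _ _ hn A B hA hB hAB
  rcases subsingleton_or_nontrivial G with hs | hs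
  · exact Lib.Solvable.isSupersolvable_of_subsingleton G
  haveI : IsMulCommutative A := IsCyclic.isMulCommutative
  haveI : IsMulCommutative B := IsCyclic.isMulCommutative
  obtain ⟨N, hNn, hN, hNAB⟩ := Cfsg.Agent.S0573.result A B hAB
  haveI := hNn
  have hNc : IsCyclic N := by
    rcases hNAB with h | h
    · exact isCyclic_of_injective (Subgroup.inclusion h) (Subgroup.inclusion_injective h)
    · exact isCyclic_of_injective (Subgroup.inclusion h) (Subgroup.inclusion_injective h)
  let π := QuotientGroup.mk' N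
  refine Lib.Solvable.isSupersolvable_of_cyclic_normal N hNc
    (ih _ ?_ (G ⧸ N) rfl (A.map π) (B.map π) ?_ ?_ ?_)
  · rw [← hn, Subgroup.card_eq_card_quotient_mul_card_subgroup N]
    exact lt_mul_of_one_lt_right Nat.card_pos (N.one_lt_card_iff_ne_bot.mpr hN)
  · exact isCyclic_of_surjective (π.subgroupMap A) (π.subgroupMap_surjective A)
  · exact isCyclic_of_surjective (π.subgroupMap B) (π.subgroupMap_surjective B)
  · intro q
    obtain ⟨g, rfl⟩ := QuotientGroup.mk'_surjective N q
    obtain ⟨a, ha, b, hb, rfl⟩ := hAB g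
    exact ⟨π a, Subgroup.mem_map_of_mem π ha, π b, Subgroup.mem_map_of_mem π hb, map_mul π a b⟩

/-- Huppert: a product of two cyclic groups is supersolvable. -/
theorem result {G : Type*} [Group G] [Finite G] (A B : Subgroup G) [IsCyclic A] [IsCyclic B] (hAB : ∀ g : G, ∃ a ∈ A, ∃ b ∈ B, g = a * b) : Cfsg.IsSupersolvable G := by
  exact aux _ G rfl A B inferInstance inferInstance hAB

end Cfsg.Agent.S0571
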