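import Cfsg.Statements.S0576
import Cfsg.Agent.Lib.Cores.Frattini
import Mathlib.Algebra.Group.Subgroup.Pointwise

set_option autoImplicit false
open Cfsg

namespace Cfsg.Agent.S0576

/-- Let H be a normal subgroup of a finite group G with H contained in the Frattini subgroup of G. Then the group of inner automorphisms of H is contained in the Frattini subgroup of the automorphism group of H. -/
theorem result {G : Type*} [Group G] [Finite G] (H : Subgroup G) [H.Normal] (hH : H ≤ frattini G) : (MulAut.conj : ↥H →* MulAut ↥H).range ≤ frattini (MulAut ↥H) := by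
  classical
  let φ : G →* MulAut H := MulAut.conjNormal
  set N := (MulAut.conj : ↥H →* MulAut ↥H).range with hN
  haveI : N.Normal := by
    refine ⟨?_⟩
    rintro _ ⟨h, rfl⟩ a
    exact ⟨a h, MulEquiv.ext fun x => by simp⟩
  have hNB : N ≤ (frattini φ.range).map φ.range.subtype := by
    rintro _ ⟨h, rfl⟩
    refine ⟨φ.rangeRestrict h, Cfsg.Agent.Lib.Cores.map_frattini_le _ φ.rangeRestrict_surjective
      ⟨h, hH h.2, rfl⟩, ?_⟩
    exact MulEquiv.ext fun x => Subtype.ext rfl
  have hNle : N ≤ φ.range := hNB.trans (Subgroup.map_subtype_le _)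
  simp only [frattini, Order.radical, le_iInf_iff]
  intro M hM
  by_contra hNM
  have htop : N ⊔ M = ⊤ := hM.2 _ (lt_of_le_of_ne le_sup_right fun e => hNM (e ▸ le_sup_left))
  have h1 : φ.range ⊓ M ⊔ (frattini φ.range).map φ.range.subtype = φ.range := by
    refine le_antisymm (sup_le inf_le_left (Subgroup.map_subtype_le _)) fun b hb => ?_
    have hb' : b ∈ ((N ⊔ M : Subgroup (MulAut H)) : Set (MulAut H)) := by rw [htop]; trivial
    rw [Subgroup.normal_mul] at hb'
    obtain ⟨x, hx, m, hm, rfl⟩ := hb'
    refine mul_mem (Subgroup.mem_sup_right (hNB hx)) (Subgroup.mem_sup_left ⟨?_, hm⟩)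
    simpa using mul_mem (inv_mem (hNle hx)) hb
  have h2 := Cfsg.Agent.Lib.Cores.eq_of_sup_map_frattini inf_le_left h1
  exact hNM (hNle.trans (h2 ▸ inf_le_right))

end Cfsg.Agent.S0576
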