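import Cfsg.Statements.S0578
import Mathlib.GroupTheory.Transfer
import Mathlib.GroupTheory.Nilpotent

set_option autoImplicit false
open Cfsg

namespace Cfsg.Agent.S0578

/-- If in a finite group the normalizer of each abelian subgroup coincides with its centralizer, then the group is abelian. -/
theorem result {G : Type*} [Group G] [Finite G] (h : ∀ A : Subgroup G, IsMulCommutative A → Subgroup.normalizer (A : Set G) = Subgroup.centralizer (A : Set G)) : IsMulCommutative G := by
  classical
  have hab : ∀ (p : ℕ) [Fact p.Prime] (P : Sylow p G), IsMulCommutative (P : Subgroup G) := by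
    intro p _ P
    by_contra hne
    set Z := Subgroup.center (P : Subgroup G) with hZ
    haveI : Nontrivial ((P : Subgroup G) ⧸ Z) := by
      refine QuotientGroup.nontrivial_iff.mpr fun e => hne ⟨⟨fun a b => ?_⟩⟩
      exact (Subgroup.mem_center_iff.mp (show b ∈ Z from e.symm ▸ Subgroup.mem_top b) a)
    haveI := (P.2.to_quotient Z).center_nontrivial
    obtain ⟨⟨q, hq⟩, hq1⟩ := exists_ne (1 : Subgroup.center ((P : Subgroup G) ⧸ Z))
    obtain ⟨x, rfl⟩ := QuotientGroup.mk'_surjective Z q
    let A : Subgroup (P : Subgroup G) := Subgroup.closure (insert x (Z : Set (P : Subgroup G)))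
    have hAc : IsMulCommutative (A.map (P : Subgroup G).subtype) := by
      haveI : IsMulCommutative A := Subgroup.isMulCommutative_closure fun a ha b hb => by
        rcases ha with rfl | ha
        · rcases hb with rfl | hb
          · rfl
          · exact Subgroup.mem_center_iff.mp hb a
        · exact (Subgroup.mem_center_iff.mp ha b).symm
      infer_instance
    have hAn : ∀ g : (P : Subgroup G), ∀ a ∈ A, g * a * g⁻¹ ∈ A := by
      intro g a ha
      induction ha using Subgroup.closure_induction with
      | mem b hb =>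
        rcases hb with rfl | hb
        · have h1 : g * b * g⁻¹ * b⁻¹ ∈ Z := by
            rw [← QuotientGroup.eq_one_iff]
            have h2 := Subgroup.mem_center_iff.mp hq (g : (P : Subgroup G) ⧸ Z)
            simp only [QuotientGroup.mk'_apply] at h2
            rw [QuotientGroup.mk_mul, QuotientGroup.mk_mul, QuotientGroup.mk_mul, QuotientGroup.mk_inv,
              QuotientGroup.mk_inv, h2, mul_inv_cancel_right, mul_inv_cancel]
          simpa using mul_mem (Subgroup.subset_closure (Or.inr h1) : _ ∈ A)
            (Subgroup.subset_closure (Or.inl rfl) : b ∈ A)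
        · rw [Subgroup.mem_center_iff.mp hb g, mul_inv_cancel_right]
          exact Subgroup.subset_closure (Or.inr hb)
      | one => simp
      | mul b c _ _ hb hc => rw [← conj_mul]; exact mul_mem hb hc
      | inv b _ hb => rw [← conj_inv]; exact inv_mem hb
    have hPA : (P : Subgroup G) ≤ Subgroup.centralizer ((A.map (P : Subgroup G).subtype : Subgroup G) : Set G) := by
      rw [← h _ hAc]
      intro g hg
      rw [Subgroup.mem_normalizer_iff]
      intro a
      constructor
      · rintro ⟨b, hb, rfl⟩
        exact ⟨_, hAn ⟨g, hg⟩ b hb, rfl⟩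
      · rintro ⟨b, hb, hb'⟩
        refine ⟨_, hAn ⟨g, hg⟩⁻¹ b hb, ?_⟩
        simp only [Subgroup.coe_subtype] at hb'
        simp [hb', mul_assoc]
    apply hq1
    refine Subtype.ext ((QuotientGroup.eq_one_iff x).mpr (Subgroup.mem_center_iff.mpr fun g => ?_))
    have hxA : (x : G) ∈ A.map (P : Subgroup G).subtype := ⟨x, Subgroup.subset_closure (Or.inl rfl), rfl⟩
    exact Subtype.ext (Subgroup.mem_centralizer_iff.mp (hPA g.2) _ hxA).symm
  refine ⟨⟨fun a b => ?_⟩⟩
  have hone : ∀ (p : ℕ), p.Prime → ¬ p ∣ orderOf ((a * b) * (b * a)⁻¹) := by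
    intro p hp hdvd
    haveI := Fact.mk hp
    obtain ⟨P⟩ := (inferInstance : Nonempty (Sylow p G))
    haveI := hab p P
    have hP : Subgroup.normalizer ((P : Subgroup G) : Set G) ≤ Subgroup.centralizer ((P : Subgroup G) : Set G) :=
      (h _ (hab p P)).le
    have hker : (a * b) * (b * a)⁻¹ ∈ (MonoidHom.transferSylow P hP).ker := by
      rw [MonoidHom.mem_ker, map_mul, map_inv, map_mul, map_mul, mul_inv_eq_one]
      exact Subtype.ext (congrArg Subtype.val ((hab p P).is_comm.comm _ _))
    exact MonoidHom.not_dvd_card_ker_transferSylow P hP (hdvd.trans (Subgroup.orderOf_dvd_natCard _ hker))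
  by_contra hne
  obtain ⟨p, hp, hd⟩ := Nat.exists_prime_and_dvd (n := orderOf ((a * b) * (b * a)⁻¹))
    (fun e => hne (mul_inv_eq_one.mp (orderOf_eq_one_iff.mp e)))
  exact hone p hp hd

end Cfsg.Agent.S0578
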