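import Cfsg.Statements.S0581
import Cfsg.Agent.S1459
import Cfsg.Agent.Lib.Solvable.Schmidt
import Mathlib.GroupTheory.SchurZassenhaus

set_option autoImplicit false
open Cfsg
open Pointwise
open Cfsg.Agent.Lib

namespace Cfsg.Agent.S0581

universe u

theorem aux : ∀ (n : ℕ) (G : Type u) [Group G] [Finite G] (H K : Subgroup G), Nat.card K = n →
    Group.IsNilpotent H → (Nat.card H).Coprime H.index →
    (∀ p : ℕ, p.Prime → p ∣ Nat.card K → p ∣ Nat.card H) → ∃ x : G, K ≤ MulAut.conj x • H := by
  intro n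
  induction n using Nat.strongRecOn with
  | ind n ih =>
  intro G _ _ H K hn hH hHall hK
  by_cases hK0 : K = ⊥
  · exact ⟨1, hK0 ▸ bot_le⟩
  haveI := hH
  haveI : Nontrivial K := (Subgroup.nontrivial_iff_ne_bot K).mpr hK0
  obtain ⟨p, hp, P, hPn, hpK⟩ : ∃ p : ℕ, ∃ _ : p.Prime, ∃ P : Sylow p K, (P : Subgroup K).Normal ∧
      p ∣ Nat.card K := by
    by_cases hKn : Group.IsNilpotent K
    · obtain ⟨p, hp, hd⟩ := Nat.exists_prime_and_dvd (n := Nat.card K) Finite.one_lt_card.ne'
      haveI := Fact.mk hp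
      obtain ⟨P⟩ : Nonempty (Sylow p K) := inferInstance
      exact ⟨p, hp, P, Sylow.normal_of_normalizerCondition Group.normalizerCondition_of_isNilpotent P, hd⟩
    · obtain ⟨p, q, hp, hq, -, P, Q, -, hQn, hPQ, hPn, -⟩ := Lib.Solvable.Schmidt.structure_of_minimal hKn (by
        intro L hL
        obtain ⟨x, hx⟩ := ih (Nat.card (L.map K.subtype)) (by
          rw [Subgroup.card_map_of_injective K.subtype_injective, ← hn]
          exact lt_of_le_of_ne L.card_le_card_group fun e => hL (Subgroup.eq_top_of_card_eq _ e))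
          G H _ rfl hH hHall (fun r hr hd => hK r hr (hd.trans (Subgroup.card_dvd_of_le (Subgroup.map_subtype_le L))))
        haveI : Group.IsNilpotent (MulAut.conj x • H : Subgroup G) :=
          Group.nilpotent_of_surjective (Subgroup.equivSMul (MulAut.conj x) H).toMonoidHom
            (Subgroup.equivSMul (MulAut.conj x) H).surjective
        exact Cores.isNilpotent_of_injective (((Subgroup.inclusion hx)).comp
          (L.equivMapOfInjective K.subtype K.subtype_injective).toMonoidHom)
          ((Subgroup.inclusion_injective hx).comp (MulEquiv.injective _)))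
      haveI := Fact.mk hq
      refine ⟨q, hq, Q, hQn, ?_⟩
      by_contra hd
      have hQ : (Q : Subgroup K) = ⊥ := Subgroup.card_eq_one.mp (by
        rw [Q.card_eq_multiplicity, Nat.factorization_eq_zero_of_not_dvd hd, pow_zero])
      rw [hQ, sup_bot_eq] at hPQ
      exact hPn (hPQ ▸ inferInstance)
  haveI := Fact.mk hp
  haveI := hPn
  obtain ⟨Q, hQ⟩ := Subgroup.exists_right_complement'_of_coprime (N := (P : Subgroup K)) P.card_coprime_index
  -- the Hall subgroup
  obtain ⟨SH⟩ : Nonempty (Sylow p H) := inferInstance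
  haveI : (SH : Subgroup H).Normal :=
    Sylow.normal_of_normalizerCondition Group.normalizerCondition_of_isNilpotent SH
  obtain ⟨H', hH'⟩ := Subgroup.exists_right_complement'_of_coprime (N := (SH : Subgroup H)) SH.card_coprime_index
  set Hp := (SH : Subgroup H).map H.subtype with hHp
  set Hq := H'.map H.subtype with hHq
  have hHpc : Nat.card Hp = p ^ (Nat.card G).factorization p := by
    rw [hHp, Subgroup.card_map_of_injective H.subtype_injective, SH.card_eq_multiplicity]
    congr 1
    have h1 := congrArg (fun m : ℕ => m.factorization p) H.card_mul_index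
    rw [Nat.factorization_mul Nat.card_pos.ne' Subgroup.index_ne_zero_of_finite, Finsupp.add_apply,
      Nat.factorization_eq_zero_of_not_dvd fun hd =>
        hp.not_dvd_one (hHall.gcd_eq_one ▸ Nat.dvd_gcd (hK p hp hpK) hd), add_zero] at h1
    exact h1
  have hcommH : ∀ a ∈ Hp, ∀ b ∈ Hq, a * b = b * a := by
    rintro _ ⟨a, ha, rfl⟩ _ ⟨b, hb, rfl⟩
    refine congrArg Subtype.val (Cfsg.Agent.S1459.commute_of_coprime_orderOf (N := H) a b ?_)
    refine Nat.Coprime.coprime_dvd_left (Subgroup.orderOf_dvd_natCard _ ha)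
      (Nat.Coprime.coprime_dvd_right (Subgroup.orderOf_dvd_natCard _ hb) ?_)
    rw [← hH'.symm.index_eq_card]
    exact SH.card_coprime_index
  have hqc : Nat.card Hp * Nat.card Hq = Nat.card H := by
    rw [hHp, hHq, Subgroup.card_map_of_injective H.subtype_injective,
      Subgroup.card_map_of_injective H.subtype_injective, hH'.card_mul]
  -- P inside a conjugate of the Sylow of H
  set P' := (P : Subgroup K).map K.subtype with hP'
  have hP'p : IsPGroup p P' := P.2.map _
  obtain ⟨T, hT⟩ := hP'p.exists_le_sylow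
  obtain ⟨g, hg⟩ := MulAction.exists_smul_eq G (Sylow.ofCard Hp hHpc) T
  have hPg : P' ≤ MulAut.conj g • Hp := by rw [← hg] at hT; exact hT
  set N := Subgroup.normalizer (P' : Set G) with hN
  have hHqN : MulAut.conj g • Hq ≤ N := by
    refine le_trans (fun x hx => ?_) (Subgroup.centralizer_le_normalizer (s := (P' : Set G)))
    refine Subgroup.mem_centralizer_iff.mpr fun y hy => ?_
    have h1 := hcommH _ (Lib.Coprime.mem_conj_smul.mp (hPg hy)) _ (Lib.Coprime.mem_conj_smul.mp hx)
    have h2 := congrArg (fun z => g * z * g⁻¹) h1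
    simpa [mul_assoc] using h2
  have hQ'N : Q.map K.subtype ≤ N := by
    refine (Subgroup.map_subtype_le Q).trans fun k hk => Lib.Coprime.mem_normalizer_of_conj_smul_eq ?_
    refine Lib.Coprime.eq_of_le_of_card_le (fun x hx => ?_) (le_of_eq (Lib.Coprime.card_conj_smul _ _).symm)
    obtain ⟨y, hy, hyx⟩ := Lib.Coprime.mem_conj_smul.mp hx
    refine ⟨⟨k, hk⟩ * y * ⟨k, hk⟩⁻¹, hPn.conj_mem y hy _, ?_⟩
    simp only [Subgroup.coe_subtype, Subgroup.coe_mul, Subgroup.coe_inv] at hyx ⊢
    rw [hyx]; group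
  set L := (MulAut.conj g • Hq).subgroupOf N with hL
  have hLc : Nat.card L = Nat.card Hq := by
    rw [hL, Nat.card_congr (Subgroup.subgroupOfEquivOfLe hHqN).toEquiv, Lib.Coprime.card_conj_smul]
  have hLn : Group.IsNilpotent L := by
    haveI : Group.IsNilpotent H' := inferInstance
    let e := ((H'.equivMapOfInjective H.subtype H.subtype_injective).trans
      (Subgroup.equivSMul (MulAut.conj g) Hq)).trans (Subgroup.subgroupOfEquivOfLe hHqN).symm
    exact Group.nilpotent_of_surjective e.toMonoidHom e.surjective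
  have hLHall : (Nat.card L).Coprime L.index := by
    have h1 := L.card_mul_index
    have h2 : Nat.card N * N.index = Nat.card Hq * (Nat.card Hp * H.index) := by
      rw [N.card_mul_index, ← H.card_mul_index, ← hqc]; ring
    rw [← h1, hLc, mul_assoc] at h2
    have h3 : L.index ∣ Nat.card Hp * H.index :=
      Dvd.intro _ (Nat.eq_of_mul_eq_mul_left Nat.card_pos h2)
    rw [hLc]
    refine Nat.Coprime.coprime_dvd_right h3 (Nat.Coprime.mul_right ?_ ?_)
    · rw [hHq, hHp, Subgroup.card_map_of_injective H.subtype_injective,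
        Subgroup.card_map_of_injective H.subtype_injective, ← hH'.symm.index_eq_card]
      exact SH.card_coprime_index.symm
    · exact hHall.coprime_dvd_left (Dvd.intro_left _ hqc)
  obtain ⟨c, hc⟩ := ih (Nat.card ((Q.map K.subtype).subgroupOf N)) (by
    rw [Nat.card_congr (Subgroup.subgroupOfEquivOfLe hQ'N).toEquiv,
      Subgroup.card_map_of_injective K.subtype_injective, ← hn, ← hQ.card_mul]
    exact lt_mul_of_one_lt_left Nat.card_pos ((P : Subgroup K).one_lt_card_iff_ne_bot.mpr
      (P.ne_bot_of_dvd_card hpK))) N L _ rfl hLn hLHall (fun r hr hd => by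
    rw [Nat.card_congr (Subgroup.subgroupOfEquivOfLe hQ'N).toEquiv,
      Subgroup.card_map_of_injective K.subtype_injective] at hd
    rw [hLc]
    rcases hr.dvd_mul.mp (hqc.symm ▸ hK r hr (hd.trans (Dvd.intro_left _ hQ.card_mul))) with h1 | h1
    · exfalso
      rw [hHpc] at h1
      obtain rfl := (Nat.prime_dvd_prime_iff_eq hr hp).mp (hr.dvd_of_dvd_pow h1)
      rw [← hQ.symm.index_eq_card] at hd
      exact P.not_dvd_index hd
    · exact h1)
  set x := (c : G) * g with hx
  have hQx : Q.map K.subtype ≤ MulAut.conj x • Hq := by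
    intro y hy
    have h1 := Lib.Coprime.mem_conj_smul.mp (hc (show (⟨y, hQ'N hy⟩ : N) ∈ (Q.map K.subtype).subgroupOf N from hy))
    have h2 : (c : G)⁻¹ * y * c ∈ MulAut.conj g • Hq := h1
    rw [hx, Lib.Coprime.conj_mul_smul]
    exact Lib.Coprime.mem_conj_smul.mpr h2
  have hPx : P' ≤ MulAut.conj x • Hp := by
    rw [← Lib.Coprime.conj_smul_eq_of_mem_normalizer (g := (c : G)) (H := P') c.2, hx,
      Lib.Coprime.conj_mul_smul]
    exact Subgroup.pointwise_smul_le_pointwise_smul_iff.mpr hPg
  have hcx : ∀ a ∈ MulAut.conj x • Hp, ∀ b ∈ MulAut.conj x • Hq, a * b = b * a := by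
    intro a ha b hb
    have h2 := congrArg (fun z => x * z * x⁻¹)
      (hcommH _ (Lib.Coprime.mem_conj_smul.mp ha) _ (Lib.Coprime.mem_conj_smul.mp hb))
    simpa [mul_assoc] using h2
  refine ⟨x, fun k hk => ?_⟩
  obtain ⟨⟨⟨a, ha⟩, ⟨b, hb⟩⟩, hab⟩ := hQ.2 ⟨k, hk⟩
  have := congrArg Subtype.val hab
  simp only [Subgroup.coe_mul] at this
  rw [← this]
  refine mul_mem ?_ ?_
  · exact Subgroup.pointwise_smul_le_pointwise_smul_iff.mpr (Subgroup.map_subtype_le _) (hPx ⟨a, ha, rfl⟩)
  · exact Subgroup.pointwise_smul_le_pointwise_smul_iff.mpr (Subgroup.map_subtype_le _) (hQx ⟨b, hb, rfl⟩)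

/-- Wielandt: nilpotent Hall subgroups dominate. -/
theorem result {G : Type*} [Group G] [Finite G] (H K : Subgroup G) (hH : Group.IsNilpotent H) (hHall : (Nat.card H).Coprime H.index) (hK : ∀ p : ℕ, p.Prime → p ∣ Nat.card K → p ∣ Nat.card H) : ∃ x : G, K ≤ MulAut.conj x • H := by
  exact aux _ G H K rfl hH hHall hK

end Cfsg.Agent.S0581
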