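import Cfsg.Statements.S0582
import Cfsg.Agent.Lib.Solvable.Supersolvable
import Cfsg.Agent.Lib.Coprime.Basic
import Cfsg.Agent.Lib.Coprime.Hall

set_option autoImplicit false
open Cfsg
open Pointwise
open Cfsg.Agent.Lib

namespace Cfsg.Agent.S0582

universe u

/-- The normal Sylow subgroup for the largest prime, in the ambient group. -/
theorem top_sylow {G : Type u} [Group G] [Finite G] (H : Subgroup G) (hH : Cfsg.IsSupersolvable H)
    (hHall : (Nat.card H).Coprime H.index) {p : ℕ} [hp : Fact p.Prime] (hpH : p ∣ Nat.card H)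
    (hmax : ∀ q : ℕ, q.Prime → q ∣ Nat.card H → q ≤ p) :
    ∃ P : Sylow p G, (P : Subgroup G) ≤ H ∧ H ≤ Subgroup.normalizer ((P : Subgroup G) : Set G) := by
  obtain ⟨S⟩ : Nonempty (Sylow p H) := inferInstance
  haveI := Lib.Solvable.sylow_normal_of_max_prime hH hmax S
  have hc : Nat.card ((S : Subgroup H).map H.subtype) = p ^ (Nat.card G).factorization p := by
    rw [Subgroup.card_map_of_injective H.subtype_injective, S.card_eq_multiplicity]
    congr 1
    have h1 := congrArg (fun m : ℕ => m.factorization p) H.card_mul_index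
    rw [Nat.factorization_mul Nat.card_pos.ne' Subgroup.index_ne_zero_of_finite, Finsupp.add_apply,
      Nat.factorization_eq_zero_of_not_dvd fun hd =>
        hp.out.not_dvd_one (hHall.gcd_eq_one ▸ Nat.dvd_gcd hpH hd), add_zero] at h1
    exact h1
  refine ⟨Sylow.ofCard _ hc, Subgroup.map_subtype_le _, fun h hh => ?_⟩
  refine Lib.Coprime.mem_normalizer_of_conj_smul_eq (Lib.Coprime.eq_of_le_of_card_le (fun x hx => ?_)
    (le_of_eq (Lib.Coprime.card_conj_smul _ _).symm))
  obtain ⟨y, hy, hyx⟩ := Lib.Coprime.mem_conj_smul.mp hx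
  refine ⟨⟨h, hh⟩ * y * ⟨h, hh⟩⁻¹, (‹(S : Subgroup H).Normal›).conj_mem y hy _, ?_⟩
  simp only [Subgroup.coe_subtype, Subgroup.coe_mul, Subgroup.coe_inv] at hyx ⊢
  rw [hyx]; group

theorem aux : ∀ (n : ℕ) (G : Type u) [Group G] [Finite G] (H K : Subgroup G), Nat.card H = n →
    Cfsg.IsSupersolvable H → Cfsg.IsSupersolvable K → Nat.card H = Nat.card K →
    (Nat.card H).Coprime H.index → ∃ x : G, MulAut.conj x • H = K := by
  intro n
  induction n using Nat.strongRecOn with
  | ind n ih =>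
  intro G _ _ H K hn hH hK hcard hHall
  by_cases h1 : Nat.card H = 1
  · refine ⟨1, ?_⟩
    rw [Subgroup.card_eq_one.mp (hcard.symm.trans h1), Subgroup.card_eq_one.mp h1, Subgroup.smul_bot]
  have hne : (Nat.card H).primeFactors.Nonempty := Nat.nonempty_primeFactors.mpr (by
    have := Nat.card_pos (α := H); omega)
  obtain ⟨p, hpmem, hmax'⟩ := (Nat.card H).primeFactors.exists_max_image id hne
  haveI := Fact.mk (Nat.prime_of_mem_primeFactors hpmem)
  have hpH := Nat.dvd_of_mem_primeFactors hpmem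
  have hmax : ∀ q : ℕ, q.Prime → q ∣ Nat.card H → q ≤ p := fun q hq hd =>
    hmax' q (Nat.mem_primeFactors.mpr ⟨hq, hd, Nat.card_pos.ne'⟩)
  have hKi : K.index = H.index := by
    have h2 := H.card_mul_index
    rw [← K.card_mul_index, hcard] at h2
    exact (Nat.eq_of_mul_eq_mul_left Nat.card_pos h2).symm
  obtain ⟨P, hPH, hHP⟩ := top_sylow H hH hHall hpH hmax
  obtain ⟨P₂, hPK, hKP⟩ := top_sylow K hK (by rw [← hcard, hKi]; exact hHall) (hcard ▸ hpH)
    (fun q hq hd => hmax q hq (hcard ▸ hd))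
  obtain ⟨g, hg⟩ := MulAction.exists_smul_eq G P P₂
  set H' := MulAut.conj g • H with hH'
  have hP'H : (P₂ : Subgroup G) ≤ H' := by
    rw [← hg]; exact Subgroup.pointwise_smul_le_pointwise_smul_iff.mpr hPH
  set N := Subgroup.normalizer ((P₂ : Subgroup G) : Set G) with hN
  have hH'N : H' ≤ N := by
    intro x hx
    have h2 := hHP (Lib.Coprime.mem_conj_smul.mp hx)
    refine Lib.Coprime.mem_normalizer_of_conj_smul_eq ?_
    have h3 := Lib.Coprime.conj_smul_eq_of_mem_normalizer h2
    have h4 : ((P₂ : Sylow p G) : Subgroup G) = MulAut.conj g • (P : Subgroup G) := by rw [← hg]; rfl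
    rw [h4]
    conv_rhs => rw [← h3, ← Lib.Coprime.conj_mul_smul]
    rw [← Lib.Coprime.conj_mul_smul]
    group
  have hPN : (P₂ : Subgroup G) ≤ N := Subgroup.le_normalizer
  set Q := (P₂ : Subgroup G).subgroupOf N with hQ
  haveI : Q.Normal := (Subgroup.normal_subgroupOf_iff_le_normalizer hPN).mpr le_rfl
  let π := QuotientGroup.mk' Q
  have key : ∀ X : Subgroup G, X ≤ N → (P₂ : Subgroup G) ≤ X → Cfsg.IsSupersolvable X →
      Cfsg.IsSupersolvable ((X.subgroupOf N).map π) ∧ ((X.subgroupOf N).map π).comap π = X.subgroupOf N ∧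
      Nat.card Q * Nat.card ((X.subgroupOf N).map π) = Nat.card X := by
    intro X hX hPX hXs
    have hcm : ((X.subgroupOf N).map π).comap π = X.subgroupOf N := by
      rw [Subgroup.comap_map_eq, QuotientGroup.ker_mk', sup_eq_left]
      exact fun x hx => hPX hx
    refine ⟨?_, hcm, ?_⟩
    · exact Lib.Solvable.isSupersolvable_map
        ((π.subgroupMap (X.subgroupOf N)).comp (Subgroup.subgroupOfEquivOfLe hX).symm.toMonoidHom)
        ((π.subgroupMap_surjective _).comp (MulEquiv.surjective _)) hXs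
    · rw [← Lib.Coprime.card_comap_mk' Q, hcm, Nat.card_congr (Subgroup.subgroupOfEquivOfLe hX).toEquiv]
  have hH's : Cfsg.IsSupersolvable H' := Lib.Solvable.isSupersolvable_map
    (Subgroup.equivSMul (MulAut.conj g) H).toMonoidHom (MulEquiv.surjective _) hH
  obtain ⟨s1, c1, e1⟩ := key H' hH'N hP'H hH's
  obtain ⟨s2, c2, e2⟩ := key K hKP hPK hK
  rw [Lib.Coprime.card_conj_smul] at e1
  have hQ1 : 1 < Nat.card Q := by
    rw [hQ, Nat.card_congr (Subgroup.subgroupOfEquivOfLe hPN).toEquiv]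
    exact (P₂ : Subgroup G).one_lt_card_iff_ne_bot.mpr
      (P₂.ne_bot_of_dvd_card (hpH.trans (Subgroup.card_subgroup_dvd_card H)))
  obtain ⟨y, hy⟩ := ih (Nat.card ((H'.subgroupOf N).map π))
    (by rw [← hn, ← e1]; exact lt_mul_of_one_lt_left Nat.card_pos hQ1) (N ⧸ Q) _ _ rfl s1 s2
    (Nat.eq_of_mul_eq_mul_left (Nat.card_pos (α := Q)) (by rw [e1, e2, hcard])) (by
      have h2 : ((H'.subgroupOf N).map π).index = (H'.subgroupOf N).index := by
        rw [← c1, Subgroup.index_comap_of_surjective _ (QuotientGroup.mk'_surjective Q), c1]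
      refine Nat.Coprime.coprime_dvd_left (Dvd.intro_left _ e1) ?_
      rw [h2]
      refine hHall.coprime_dvd_right ?_
      have h3 := (H'.subgroupOf N).card_mul_index
      rw [Nat.card_congr (Subgroup.subgroupOfEquivOfLe hH'N).toEquiv, Lib.Coprime.card_conj_smul] at h3
      refine Nat.dvd_of_mul_dvd_mul_left (Nat.card_pos (α := H)) ?_
      rw [h3, H.card_mul_index]
      exact Subgroup.card_subgroup_dvd_card N)
  obtain ⟨n', rfl⟩ := QuotientGroup.mk'_surjective Q y
  refine ⟨(n' : G) * g, ?_⟩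
  refine Lib.Coprime.eq_of_le_of_card_le (fun x hx => ?_) (by rw [Lib.Coprime.card_conj_smul, hcard])
  rw [Lib.Coprime.conj_mul_smul, ← hH', Lib.Coprime.mem_conj_smul] at hx
  have hxN : (n' : G)⁻¹ * x * n' ∈ N := hH'N hx
  have hxN' : x ∈ N := by
    have := mul_mem (mul_mem n'.2 hxN) (inv_mem n'.2)
    simpa [mul_assoc] using this
  have : π ⟨x, hxN'⟩ ∈ MulAut.conj (π n') • ((H'.subgroupOf N).map π) := by
    rw [Lib.Coprime.mem_conj_smul, ← map_inv, ← map_mul, ← map_mul]
    exact ⟨_, hx, rfl⟩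
  rw [hy, ← Subgroup.mem_comap, c2] at this
  exact this

/-- Supersolvable Hall subgroups of equal order are conjugate. -/
theorem result {G : Type*} [Group G] [Finite G] (H K : Subgroup G) (hH : Cfsg.IsSupersolvable H) (hK : Cfsg.IsSupersolvable K) (hcard : Nat.card H = Nat.card K) (hHall : (Nat.card H).Coprime H.index) : ∃ x : G, MulAut.conj x • H = K := by
  exact aux _ G H K rfl hH hK hcard hHall

end Cfsg.Agent.S0582
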