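import Cfsg.Statements.S0583
import Cfsg.Agent.Lib.Solvable.Nilpotent

set_option autoImplicit false
open Cfsg

namespace Cfsg.Agent.S0583

/-- In a finite group the Fitting subgroup is contained in the centralizer of each minimal normal subgroup. -/
theorem result {G : Type*} [Group G] [Finite G] (M : Subgroup G) [M.Normal] (hM : M ≠ ⊥) (hmin : ∀ K : Subgroup G, K.Normal → K ≤ M → K = ⊥ ∨ K = M) : Cfsg.fittingSubgroup G ≤ Subgroup.centralizer (M : Set G) := by
  have := Lib.Cores.fittingSubgroup_isNilpotent G
  have := Lib.Cores.fittingSubgroup_characteristic G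
  set F := Cfsg.fittingSubgroup G with hF
  have hFn : F.Normal := inferInstance
  by_cases hle : M ≤ F
  · have hM' : M.subgroupOf F ≠ ⊥ := by
      rw [Ne, Subgroup.subgroupOf_eq_bot, disjoint_iff, inf_eq_left.mpr hle]
      exact hM
    have : (M.subgroupOf F).Normal := Subgroup.normal_subgroupOf
    have hne := Lib.Solvable.inf_center_ne_bot hM'
    set Z := (M.subgroupOf F ⊓ Subgroup.center F).map F.subtype with hZ
    have hZn : Z.Normal := by
      have h1 : (Subgroup.center F).map F.subtype = F ⊓ Subgroup.centralizer (F : Set G) := by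
        ext x
        simp only [Subgroup.mem_map, Subgroup.mem_inf, Subgroup.mem_center_iff,
          Subgroup.mem_centralizer_iff]
        constructor
        · rintro ⟨y, hy, rfl⟩
          exact ⟨y.2, fun g hg => congrArg Subtype.val (hy ⟨g, hg⟩)⟩
        · rintro ⟨hx, h⟩
          exact ⟨⟨x, hx⟩, fun g => Subtype.ext (h g g.2), rfl⟩
      rw [hZ, Subgroup.map_inf _ _ _ F.subtype_injective, Subgroup.map_subgroupOf_eq_of_le hle, h1]
      infer_instance
    have hZM : Z ≤ M := by
      rintro x ⟨y, hy, rfl⟩
      exact hy.1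
    have hZ0 : Z ≠ ⊥ := fun h => hne ((Subgroup.map_eq_bot_iff_of_injective _ F.subtype_injective).mp h)
    have hZeq := (hmin Z hZn hZM).resolve_left hZ0
    intro f hf
    rw [Subgroup.mem_centralizer_iff]
    intro m hm
    obtain ⟨y, hy, rfl⟩ : m ∈ Z := hZeq.symm ▸ hm
    exact congrArg Subtype.val (Subgroup.mem_center_iff.mp hy.2 ⟨f, hf⟩).symm
  · have h0 : F ⊓ M = ⊥ :=
      (hmin _ inferInstance inf_le_right).resolve_right fun h => hle (h ▸ inf_le_left)
    rw [← Subgroup.commutator_eq_bot_iff_le_centralizer, eq_bot_iff, ← h0]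
    exact Subgroup.commutator_le_inf F M

end Cfsg.Agent.S0583
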