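import Cfsg.Statements.S0585
import Cfsg.Agent.Lib.Coprime.Basic

set_option autoImplicit false
open Cfsg

namespace Cfsg.Agent.S0585

/-- If the Frattini subgroup of a finite group G is trivial, then every abelian normal subgroup of G has a complement in G. -/
theorem result {G : Type*} [Group G] [Finite G] (hΦ : frattini G = ⊥) (A : Subgroup G) [A.Normal] [IsMulCommutative A] : ∃ H : Subgroup G, Subgroup.IsComplement' A H := by
  obtain ⟨H, hH, hmin⟩ := (Set.toFinite {H : Subgroup G | A ⊔ H = ⊤}).exists_minimal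
    ⟨⊤, sup_top_eq A⟩
  have hH' : A ⊔ H = ⊤ := hH
  refine ⟨H, Subgroup.isComplement'_of_disjoint_and_mul_eq_univ (disjoint_iff.mpr ?_) ?_⟩
  swap
  · rw [← Subgroup.normal_mul, hH', Subgroup.coe_top]
  by_contra h0
  have hn : (A ⊓ H).Normal := by
    rw [← Subgroup.normalizer_eq_top_iff, eq_top_iff, ← hH']
    refine sup_le ?_ ?_
    · exact ((Subgroup.le_centralizer A).trans
        (Subgroup.centralizer_le (SetLike.coe_subset_coe.mpr inf_le_left))).trans
        (Subgroup.centralizer_le_normalizer _)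
    · exact le_trans (le_inf Subgroup.le_normalizer_of_normal Subgroup.le_normalizer)
        Subgroup.inf_normalizer_le_normalizer_inf
  have hle : ¬ A ⊓ H ≤ frattini G := by rw [hΦ]; exact fun h => h0 (le_bot_iff.mp h)
  simp only [frattini, Order.radical, le_iInf_iff, not_forall] at hle
  obtain ⟨M, hM, hIM⟩ := hle
  have htop : (A ⊓ H) ⊔ M = ⊤ := hM.2 _ (lt_of_le_of_ne le_sup_right fun h => hIM (le_sup_left.trans h.ge))
  have hHM : A ⊔ (H ⊓ M) = ⊤ := by
    rw [eq_top_iff, ← hH']
    refine sup_le le_sup_left fun h hh => ?_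
    obtain ⟨i, hi, m, hm, rfl⟩ := Lib.Coprime.exists_mul_of_mem_sup Subgroup.le_normalizer_of_normal
      (htop ▸ Subgroup.mem_top h : h ∈ (A ⊓ H) ⊔ M)
    have hmH : m ∈ H := by simpa using mul_mem (inv_mem (Subgroup.mem_inf.mp hi).2) hh
    exact Subgroup.mul_mem_sup hi.1 ⟨hmH, hm⟩
  exact hIM ((inf_le_right.trans (hmin hHM inf_le_left)).trans inf_le_right)

end Cfsg.Agent.S0585
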