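import Cfsg.Statements.S0586
import Cfsg.Agent.Lib.Cores
import Cfsg.Agent.Lib.Coprime.Basic
import Cfsg.Agent.S0585

set_option autoImplicit false
open Cfsg

namespace Cfsg.Agent.S0586

/-- If the Frattini subgroup of a finite group G is trivial, then the Fitting subgroup of G equals the join of all abelian minimal normal subgroups of G. -/
theorem result {G : Type*} [Group G] [Finite G] (hΦ : frattini G = ⊥) : Cfsg.fittingSubgroup G = sSup {N : Subgroup G | N.Normal ∧ N ≠ ⊥ ∧ IsMulCommutative N ∧ ∀ K : Subgroup G, K.Normal → K ≤ N → K = ⊥ ∨ K = N} := by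
  classical
  set S := sSup {N : Subgroup G | N.Normal ∧ N ≠ ⊥ ∧ IsMulCommutative N ∧
    ∀ K : Subgroup G, K.Normal → K ≤ N → K = ⊥ ∨ K = N} with hS
  set F := Cfsg.fittingSubgroup G with hF
  have := Lib.Cores.fittingSubgroup_isNilpotent G
  have := Lib.Cores.fittingSubgroup_characteristic G
  have hFn : F.Normal := inferInstance
  have hab : ⁅F, F⁆ = ⊥ := by
    rw [eq_bot_iff, ← hΦ, ← Subgroup.map_subtype_commutator]
    exact (Subgroup.map_mono Lib.Cores.commutator_le_frattini).trans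
      (Lib.Cores.map_subtype_frattini_le F)
  have hSF : S ≤ F := sSup_le fun N ⟨hn, _, hc, _⟩ => by
    have := hc
    exact Lib.Cores.le_fittingSubgroup hn (Lib.Cores.isNilpotent_of_isMulCommutative N)
  refine le_antisymm ?_ hSF
  have hSn : S.Normal := Subgroup.sSup_normal _ fun N hN => hN.1
  have hSc : IsMulCommutative S := ⟨⟨fun a b => Subtype.ext
    (Subgroup.mem_centralizer_iff.mp
      (Subgroup.commutator_eq_bot_iff_le_centralizer.mp hab (hSF b.2)) a (hSF a.2))⟩⟩
  obtain ⟨H, hH⟩ := Cfsg.Agent.S0585.result hΦ S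
  intro f hf
  obtain ⟨s, hs, h, hh, rfl⟩ := Lib.Coprime.exists_mul_of_mem_sup Subgroup.le_normalizer_of_normal
    (hH.sup_eq_top ▸ Subgroup.mem_top f : f ∈ S ⊔ H)
  have hhF : h ∈ F := by simpa using mul_mem (inv_mem (hSF hs)) hf
  suffices h = 1 by rw [this, mul_one]; exact hs
  by_contra hne
  have hn : (F ⊓ H).Normal := by
    rw [← Subgroup.normalizer_eq_top_iff, eq_top_iff, ← hH.sup_eq_top]
    refine sup_le ?_ ?_
    · exact ((hSF.trans (Subgroup.commutator_eq_bot_iff_le_centralizer.mp hab)).trans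
        (Subgroup.centralizer_le (SetLike.coe_subset_coe.mpr inf_le_left))).trans
        (Subgroup.centralizer_le_normalizer _)
    · exact le_trans (le_inf Subgroup.le_normalizer_of_normal Subgroup.le_normalizer)
        Subgroup.inf_normalizer_le_normalizer_inf
  obtain ⟨N, ⟨hNn, hN0, hNle⟩, hmin⟩ :=
    (Set.toFinite {N : Subgroup G | N.Normal ∧ N ≠ ⊥ ∧ N ≤ F ⊓ H}).exists_minimal
      ⟨F ⊓ H, hn, fun h0 => hne (Subgroup.mem_bot.mp (h0 ▸ Subgroup.mem_inf.mpr ⟨hhF, hh⟩)), le_rfl⟩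
  have hNS : N ≤ S := by
    refine le_sSup ⟨hNn, hN0, ⟨⟨fun a b => Subtype.ext (Subgroup.mem_centralizer_iff.mp
      (Subgroup.commutator_eq_bot_iff_le_centralizer.mp hab (hNle b.2).1) a (hNle a.2).1)⟩⟩,
      fun K hK hKN => ?_⟩
    by_cases hK0 : K = ⊥
    · exact Or.inl hK0
    · exact Or.inr (le_antisymm hKN (hmin ⟨hK, hK0, hKN.trans hNle⟩ hKN))
  exact hN0 (le_bot_iff.mp ((le_inf hNS (hNle.trans inf_le_right)).trans
    (disjoint_iff.mp hH.disjoint).le))

end Cfsg.Agent.S0586
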