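import Cfsg.Statements.S0588
import Mathlib.GroupTheory.Sylow
import Mathlib.GroupTheory.PGroup

set_option autoImplicit false
open Cfsg

namespace Cfsg.Agent.S0588

/-- If a subgroup H of a finite group G contains the centralizer of every non-identity element of H, then the order of H is coprime to its index. -/
theorem result {G : Type*} [Group G] [Finite G] (H : Subgroup G) (h : ∀ x ∈ H, x ≠ 1 → Subgroup.centralizer ({x} : Set G) ≤ H) : (Nat.card H).Coprime H.index := by
  classical
  refine Nat.coprime_of_dvd fun p hp hpH hpi => ?_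
  haveI := Fact.mk hp
  obtain ⟨x, hx⟩ := exists_prime_orderOf_dvd_card' (G := H) p hpH
  have hx1 : (x : G) ≠ 1 := fun e => hp.one_lt.ne' (by rw [← hx, ← Subgroup.orderOf_coe, e, orderOf_one])
  obtain ⟨S, hS⟩ := IsPGroup.exists_le_sylow (G := G) (P := Subgroup.zpowers (x : G))
    (IsPGroup.of_card (n := 1) (by rw [Nat.card_zpowers, Subgroup.orderOf_coe, hx, pow_one]))
  haveI : Nontrivial (S : Subgroup G) :=
    ⟨⟨⟨x, hS (Subgroup.mem_zpowers _)⟩, 1, fun e => hx1 (congrArg Subtype.val e)⟩⟩
  haveI := S.2.center_nontrivial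
  obtain ⟨⟨z, hz⟩, hz1⟩ := exists_ne (1 : Subgroup.center (S : Subgroup G))
  have hzc : ∀ y ∈ (S : Subgroup G), y * (z : G) = z * y := fun y hy =>
    congrArg Subtype.val (Subgroup.mem_center_iff.mp hz ⟨y, hy⟩)
  have hzH : (z : G) ∈ H := h x x.2 hx1
    (Subgroup.mem_centralizer_singleton_iff.mpr (hzc x (hS (Subgroup.mem_zpowers _))).symm)
  have hSH : (S : Subgroup G) ≤ H := fun y hy =>
    h z hzH (fun e => hz1 (Subtype.ext (Subtype.ext e))) (Subgroup.mem_centralizer_singleton_iff.mpr (hzc y hy))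
  exact S.not_dvd_index (hpi.trans (Subgroup.index_dvd_of_le hSH))

end Cfsg.Agent.S0588
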