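import Cfsg.Statements.S0591
import Cfsg.Agent.Lib.PLocal.Quadratic

set_option autoImplicit false
open Cfsg

namespace Cfsg.Agent.S0591

open scoped commutatorElement in

/-- For a quadratically acting element a on an elementary abelian p-group V, the fixed points C_V(a) have order at least the square root of the order of V. -/
theorem result {G : Type*} [Group G] [Finite G] {p : ℕ} [Fact p.Prime] (V : Subgroup G) (hV : Cfsg.IsElementaryAbelian p V) (a : G) (ha : a ∈ Subgroup.normalizer (V : Set G)) (hq : ⁅⁅V, Subgroup.zpowers a⁆, Subgroup.zpowers a⁆ = ⊥) : Nat.card V ≤ Nat.card ↥(V ⊓ Subgroup.centralizer (Subgroup.zpowers a : Set G)) ^ 2 := by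
  have haz : Subgroup.zpowers a ≤ Subgroup.normalizer (V : Set G) := Subgroup.zpowers_le.mpr ha
  have hquad := Lib.PLocal.commutator_zpowers_eq_bot_iff.mp hq
  have hw : ∀ v ∈ V, ⁅a, v⁆ ∈ V := fun v hv =>
    Lib.PLocal.commutatorElement_mem_left haz hv (Subgroup.mem_zpowers a)
  let φ : V →* V :=
    { toFun := fun v => ⟨⁅a, (v : G)⁆, hw _ v.2⟩
      map_one' := Subtype.ext (by simp)
      map_mul' := fun v w => Subtype.ext (by
        show ⁅a, (v : G) * w⁆ = ⁅a, (v : G)⁆ * ⁅a, (w : G)⁆
        have e : ⁅a, (v : G) * w⁆ = ⁅a, (v : G)⁆ * ((v : G) * ⁅a, (w : G)⁆ * (v : G)⁻¹) := by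
          simp only [commutatorElement_def]; group
        rw [e, Lib.PLocal.commute_of_elemAb hV v.2 (hw _ w.2), mul_inv_cancel_right]) }
  set C := V ⊓ Subgroup.centralizer (Subgroup.zpowers a : Set G) with hC
  have hmemC : ∀ x ∈ V, Commute a x → x ∈ C := by
    intro x hx hax
    refine ⟨hx, fun b hb => ?_⟩
    obtain ⟨n, rfl⟩ := Subgroup.mem_zpowers_iff.mp hb
    exact (hax.zpow_left n).eq
  have hker : φ.ker.map V.subtype ≤ C := by
    rintro _ ⟨v, hv, rfl⟩
    have h1 : ⁅a, (v : G)⁆ = 1 := congrArg Subtype.val hv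
    exact hmemC _ v.2 (commutatorElement_eq_one_iff_mul_comm.mp h1)
  have hran : φ.range.map V.subtype ≤ C := by
    rintro _ ⟨_, ⟨v, rfl⟩, rfl⟩
    exact hmemC _ (hw _ v.2) (hquad _ v.2)
  calc Nat.card V = Nat.card φ.ker * Nat.card φ.range := by
        rw [← Subgroup.index_ker, Subgroup.card_mul_index]
    _ ≤ Nat.card C * Nat.card C := by
        refine Nat.mul_le_mul ?_ ?_
        · rw [← Subgroup.card_map_of_injective V.subtype_injective]
          exact Subgroup.card_le_of_le hker
        · rw [← Subgroup.card_map_of_injective V.subtype_injective]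
          exact Subgroup.card_le_of_le hran
    _ = Nat.card C ^ 2 := (sq _).symm

end Cfsg.Agent.S0591
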