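import Cfsg.Statements.S0592
import Mathlib

-- import your own Cfsg.Agent.* helpers here

set_option autoImplicit false
open Cfsg

namespace Cfsg.Agent.S0592


section

variable {K : Type*} [Field K]

/-- Being unipotent passes through an extension of an invariant subspace. -/
theorem isNilpotent_of_sub_quot {W : Type*} [AddCommGroup W] [Module K W] (U : Submodule K W) (N : Module.End K W)
    (hU : U ≤ U.comap N) (h1 : IsNilpotent (N.restrict hU)) (h2 : IsNilpotent (U.mapQ U N hU)) : IsNilpotent N := by
  obtain ⟨i, hi⟩ := h1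
  obtain ⟨j, hj⟩ := h2
  refine ⟨i + j, LinearMap.ext fun w => ?_⟩
  have hmem : (N ^ j) w ∈ U := by
    have h := LinearMap.congr_fun hj (Submodule.Quotient.mk w)
    rw [← Submodule.mapQ_pow U hU j, Submodule.mapQ_apply, LinearMap.zero_apply, Submodule.Quotient.mk_eq_zero] at h
    exact h
  have h := congrArg Subtype.val (LinearMap.congr_fun hi ⟨(N ^ j) w, hmem⟩)
  rw [Module.End.pow_restrict, LinearMap.restrict_coe_apply] at h
  rw [pow_add, Module.End.mul_apply]
  exact h

variable {H : Type*} [Group H] {p : ℕ} [Fact p.Prime] [CharP K p]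

/-- Two quadratic generators: the image is unipotent or there is a map to `SL₂` that is not a `p`-group. -/
theorem main (a b : H) (hgen : Subgroup.closure ({a, b} : Set H) = ⊤) (e k : ℕ)
    (hk : (a * b) ^ (p ^ e * k) = 1) (hsplit : (Polynomial.X ^ k - 1 : Polynomial K).Splits) (hk0 : k ≠ 0) :
    ∀ (n : ℕ) (W : Type*) [AddCommGroup W] [Module K W] [FiniteDimensional K W], Module.finrank K W = n →
    ∀ ρ : H →* Module.End K W, (ρ a - 1) * (ρ a - 1) = 0 → (ρ b - 1) * (ρ b - 1) = 0 →
    (∀ h, IsNilpotent (ρ h - 1)) ∨ ∃ φ : H →* Matrix.SpecialLinearGroup (Fin 2) K,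
      ¬ IsPGroup p φ.range ∧ ρ.ker ≤ φ.ker := by
  classical
  intro n
  induction n using Nat.strong_induction_on with
  | _ n IH =>
  intro W _ _ _ hn ρ hA hB
  by_cases hW : Subsingleton W
  · exact Or.inl fun h => ⟨1, LinearMap.ext fun w => Subsingleton.elim _ _⟩
  rw [not_subsingleton_iff_nontrivial] at hW
  by_cases hred : ∃ U : Submodule K W, U ≠ ⊥ ∧ U ≠ ⊤ ∧ ∀ h, U ≤ U.comap (ρ h)
  · obtain ⟨U, hU0, hU1, hU⟩ := hred
    let ρ₁ : H →* Module.End K U :=
      { toFun := fun h => (ρ h).restrict (hU h)
        map_one' := LinearMap.ext fun u => Subtype.ext (by simp)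
        map_mul' := fun g h => LinearMap.ext fun u => Subtype.ext (by simp) }
    let ρ₂ : H →* Module.End K (W ⧸ U) :=
      { toFun := fun h => U.mapQ U (ρ h) (hU h)
        map_one' := Submodule.linearMap_qext _ (LinearMap.ext fun u => by simp)
        map_mul' := fun g h => Submodule.linearMap_qext _ (LinearMap.ext fun u => by simp) }
    have h1A : ∀ c : H, (ρ c - 1) * (ρ c - 1) = 0 → (ρ₁ c - 1) * (ρ₁ c - 1) = 0 := fun c hc =>
      LinearMap.ext fun u => Subtype.ext (by simpa [ρ₁] using LinearMap.congr_fun hc (u : W))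
    have h2A : ∀ c : H, (ρ c - 1) * (ρ c - 1) = 0 → (ρ₂ c - 1) * (ρ₂ c - 1) = 0 := fun c hc =>
      Submodule.linearMap_qext _ (LinearMap.ext fun u => by
        have := congrArg (Submodule.Quotient.mk (p := U)) (LinearMap.congr_fun hc u)
        simpa [ρ₂] using this)
    have hlt1 : Module.finrank K U < n := hn ▸ Submodule.finrank_lt hU1
    have hlt2 : Module.finrank K (W ⧸ U) < n := by
      have := Submodule.finrank_quotient_add_finrank U
      have : Module.finrank K U ≠ 0 := fun h => hU0 (Submodule.finrank_eq_zero.mp h)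
      omega
    rcases IH _ hlt1 U rfl ρ₁ (h1A a hA) (h1A b hB) with h1 | ⟨φ, hφ, hker⟩
    · rcases IH _ hlt2 (W ⧸ U) rfl ρ₂ (h2A a hA) (h2A b hB) with h2 | ⟨φ, hφ, hker⟩
      · refine Or.inl fun h => ?_
        have hU' : U ≤ U.comap (ρ h - 1) := fun u hu => by
          simpa using U.sub_mem (hU h hu) hu
        refine isNilpotent_of_sub_quot U _ hU' ?_ ?_
        · convert h1 h using 1
          exact LinearMap.ext fun u => Subtype.ext (by simp [ρ₁])
        · convert h2 h using 1
          exact Submodule.linearMap_qext _ (LinearMap.ext fun u => by simp [ρ₂])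
      · refine Or.inr ⟨φ, hφ, le_trans (fun h hh => ?_) hker⟩
        exact MonoidHom.mem_ker.mpr (Submodule.linearMap_qext _ (LinearMap.ext fun u => by
          simp [ρ₂, MonoidHom.mem_ker.mp hh]))
    · refine Or.inr ⟨φ, hφ, le_trans (fun h hh => ?_) hker⟩
      exact MonoidHom.mem_ker.mpr (LinearMap.ext fun u => Subtype.ext (by simp [ρ₁, MonoidHom.mem_ker.mp hh]))
  push Not at hred
  have hinv : ∀ U : Submodule K W, (∀ u ∈ U, ρ a u ∈ U) → (∀ u ∈ U, ρ b u ∈ U) → ∀ h, U ≤ U.comap (ρ h) := by
    intro U hUa hUb h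
    have : ∀ c : H, (∀ u ∈ U, ρ c u ∈ U) → ∀ u ∈ U, ρ c⁻¹ u ∈ U := by
      intro c hc u hu
      have hinj : Function.Injective (((ρ c).restrict hc) : U → U) := by
        intro x y hxy
        have h1 := congrArg (fun z : U => ρ c⁻¹ (z : W)) hxy
        simp only [LinearMap.restrict_coe_apply, ← Module.End.mul_apply, ← map_mul, inv_mul_cancel, map_one] at h1
        exact Subtype.ext h1
      obtain ⟨v, hv⟩ := LinearMap.surjective_of_injective (f := (ρ c).restrict hc) hinj ⟨u, hu⟩
      have h1 : ρ c (v : W) = u := congrArg Subtype.val hv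
      rw [← h1, ← Module.End.mul_apply, ← map_mul, inv_mul_cancel, map_one]
      exact v.2
    have hall : h ∈ Subgroup.closure ({a, b} : Set H) := hgen ▸ Subgroup.mem_top h
    induction hall using Subgroup.closure_induction with
    | mem x hx => rcases hx with rfl | hx
                  · exact fun u hu => hUa u hu
                  · rw [Set.mem_singleton_iff] at hx; subst hx; exact fun u hu => hUb u hu
    | one => intro u hu; simpa using hu
    | mul x y _ _ hx hy => intro u hu; simpa using hx (hy hu)
    | inv x _ hx => exact fun u hu => this x (fun v hv => hx hv) u hu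
  set A := ρ a - 1 with hAdef
  set B := ρ b - 1 with hBdef
  set C := A * B + B * A with hCdef
  have hCA : C * A = A * C := by
    rw [hCdef, add_mul, mul_add, mul_assoc B, hA, mul_zero, ← mul_assoc A A, hA, zero_mul, add_zero, zero_add, mul_assoc]
  have hCB : C * B = B * C := by
    rw [hCdef, add_mul, mul_add, mul_assoc A, hB, mul_zero, ← mul_assoc B B, hB, zero_mul, add_zero, zero_add, mul_assoc]
  have hainv : ρ a⁻¹ = 1 - A := by
    have h1 : ρ a * (1 - A) = 1 := by
      rw [show ρ a = 1 + A by rw [hAdef]; abel, add_mul, one_mul, mul_sub, mul_one, hA, sub_zero, sub_add_cancel]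
    calc ρ a⁻¹ = ρ a⁻¹ * (ρ a * (1 - A)) := by rw [h1, mul_one]
      _ = _ := by rw [← mul_assoc, ← map_mul, inv_mul_cancel, map_one, one_mul]
  have hbinv : ρ b⁻¹ = 1 - B := by
    have h1 : ρ b * (1 - B) = 1 := by
      rw [show ρ b = 1 + B by rw [hBdef]; abel, add_mul, one_mul, mul_sub, mul_one, hB, sub_zero, sub_add_cancel]
    calc ρ b⁻¹ = ρ b⁻¹ * (ρ b * (1 - B)) := by rw [h1, mul_one]
      _ = _ := by rw [← mul_assoc, ← map_mul, inv_mul_cancel, map_one, one_mul]
  set x := ρ (a * b) with hx
  have hsum : x + ρ (a * b)⁻¹ = ((1 : Module.End K W) + 1) + C := by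
    rw [hx, mul_inv_rev, map_mul, map_mul, hainv, hbinv, show ρ a = 1 + A by rw [hAdef]; abel,
      show ρ b = 1 + B by rw [hBdef]; abel, hCdef]
    noncomm_ring
  -- an eigenvalue of `ρ (a * b)` in `K`
  obtain ⟨lam, hlam⟩ : ∃ lam : K, Module.End.HasEigenvalue x lam := by
    have hdvd : minpoly K x ∣ (Polynomial.X ^ k - 1) ^ p ^ e := by
      refine minpoly.dvd K x ?_
      rw [sub_pow_char_pow, one_pow, ← pow_mul, mul_comm, map_sub, map_pow, Polynomial.aeval_X, map_one, hx,
        ← map_pow, hk, map_one, sub_self]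
    have hm : (minpoly K x).Splits := by
      refine (hsplit.pow _).of_dvd (pow_ne_zero _ (Polynomial.X_pow_sub_C_ne_zero (Nat.pos_of_ne_zero hk0) 1)) hdvd
    obtain ⟨lam, hl⟩ := hm.exists_eval_eq_zero (minpoly.degree_pos (Algebra.IsIntegral.isIntegral x)).ne'
    exact ⟨lam, Module.End.hasEigenvalue_iff_isRoot.mpr hl⟩
  obtain ⟨w, hw, hw0⟩ := hlam.exists_hasEigenvector
  rw [Module.End.mem_eigenspace_iff] at hw
  have hlam0 : lam ≠ 0 := by
    rintro rfl
    rw [zero_smul] at hw
    refine hw0 ?_
    have := congrArg (ρ (a * b)⁻¹) hw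
    rwa [hx, ← Module.End.mul_apply, ← map_mul, inv_mul_cancel, map_one, Module.End.one_apply, map_zero] at this
  set μ : K := lam + lam⁻¹ - 2 with hμ
  have hCw : C w = μ • w := by
    have h2 : ρ (a * b)⁻¹ w = lam⁻¹ • w := by
      have := congrArg (ρ (a * b)⁻¹) hw
      rw [hx, ← Module.End.mul_apply, ← map_mul, inv_mul_cancel, map_one, Module.End.one_apply, map_smul] at this
      conv_rhs => rw [this, smul_smul, inv_mul_cancel₀ hlam0, one_smul]
    have h3 := LinearMap.congr_fun hsum w
    rw [LinearMap.add_apply, LinearMap.add_apply, LinearMap.add_apply, hw, h2, Module.End.one_apply] at h3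
    rw [eq_sub_of_add_eq' h3.symm, hμ]
    module
  have hCall : ∀ v, C v = μ • v := by
    have hU := hred (LinearMap.ker (C - μ • 1)) (by
      rw [Submodule.ne_bot_iff]
      exact ⟨w, by simp [hCw], hw0⟩)
    by_contra hne
    push Not at hne
    obtain ⟨v, hv⟩ := hne
    obtain ⟨h, hh⟩ := hU fun htop => hv (by
      have : v ∈ LinearMap.ker (C - μ • 1) := by rw [htop]; trivial
      simpa [sub_eq_zero] using this)
    refine hh (hinv _ ?_ ?_ h)
    · intro u hu
      have hu' : C u = μ • u := by simpa [sub_eq_zero] using hu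
      have e1 : C (A u) = A (C u) := LinearMap.congr_fun hCA u
      have e2 : ρ a u = A u + u := by simp [hAdef]
      simp [sub_eq_zero, e2, e1, hu']
    · intro u hu
      have hu' : C u = μ • u := by simpa [sub_eq_zero] using hu
      have e1 : C (B u) = B (C u) := LinearMap.congr_fun hCB u
      have e2 : ρ b u = B u + u := by simp [hBdef]
      simp [sub_eq_zero, e2, e1, hu']
  obtain ⟨v, hv, hv0⟩ : ∃ v, A v = 0 ∧ v ≠ 0 := by
    obtain ⟨u, hu⟩ := exists_ne (0 : W)
    by_cases h : A u = 0
    · exact ⟨u, h, hu⟩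
    · exact ⟨A u, LinearMap.congr_fun hA u, h⟩
  have hspan : Submodule.span K {v, B v} = ⊤ := by
    by_contra htop
    obtain ⟨h, hh⟩ := hred (Submodule.span K {v, B v}) (by
      rw [Submodule.ne_bot_iff]
      exact ⟨v, Submodule.subset_span (by simp), hv0⟩) htop
    refine hh (hinv _ ?_ ?_ h)
    · intro u hu
      obtain ⟨s, t, rfl⟩ := Submodule.mem_span_pair.mp hu
      have e2 : ∀ u, ρ a u = A u + u := fun u => by simp [hAdef]
      have e3 : A (B v) = μ • v := by
        have := hCall v
        simpa [hCdef, hv] using this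
      rw [e2, map_add, map_smul, map_smul, hv, e3]
      exact Submodule.mem_span_pair.mpr ⟨t * μ + s, t, by module⟩
    · intro u hu
      obtain ⟨s, t, rfl⟩ := Submodule.mem_span_pair.mp hu
      have e2 : ∀ u, ρ b u = B u + u := fun u => by simp [hBdef]
      have e3 : B (B v) = 0 := LinearMap.congr_fun hB v
      rw [e2, map_add, map_smul, map_smul, e3]
      exact Submodule.mem_span_pair.mpr ⟨s, s + t, by module⟩
  by_cases hn2 : Module.finrank K W = 2
  · let bs := Module.finBasisOfFinrankEq K W hn2
    let f : H →* Matrix (Fin 2) (Fin 2) K := (LinearMap.toMatrixAlgEquiv bs).toRingEquiv.toMonoidHom.comp ρ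
    let d : H →* K := (Matrix.detMonoidHom).comp f
    have hd1 : ∀ c : H, (ρ c - 1) * (ρ c - 1) = 0 → d c = 1 := by
      intro c hc
      have hp1 : (ρ c) ^ p = 1 := by
        haveI : CharP (Module.End K W) p := charP_of_injective_algebraMap (algebraMap K (Module.End K W)).injective p
        have := sub_pow_char_of_commute p (Commute.one_right (ρ c))
        rw [one_pow] at this
        refine sub_eq_zero.mp (this.symm.trans ?_)
        obtain ⟨m, hm⟩ : ∃ m, p = m + 2 := ⟨p - 2, by have := (Fact.out : p.Prime).two_le; omega⟩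
        rw [hm, pow_add, pow_two, hc, mul_zero]
      have h2 : d c ^ p = 1 := by
        show ((LinearMap.toMatrixAlgEquiv bs) (ρ c)).det ^ p = 1
        rw [← Matrix.det_pow, ← map_pow, hp1, map_one, Matrix.det_one]
      have h3 : (d c - 1) ^ p = 0 := by rw [sub_pow_char, h2, one_pow, sub_self]
      exact sub_eq_zero.mp (pow_eq_zero_iff (Fact.out : p.Prime).ne_zero |>.mp h3)
    have hd : ∀ h, d h = 1 := by
      intro h
      have hall : h ∈ Subgroup.closure ({a, b} : Set H) := hgen ▸ Subgroup.mem_top h
      induction hall using Subgroup.closure_induction with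
      | mem x hx => rcases hx with rfl | hx
                    · exact hd1 _ hA
                    · rw [Set.mem_singleton_iff] at hx; subst hx; exact hd1 _ hB
      | one => simp
      | mul x y _ _ hx hy => rw [map_mul, hx, hy, one_mul]
      | inv x _ hx =>
        have := congrArg d (mul_inv_cancel x)
        rwa [map_mul, hx, one_mul, map_one] at this
    let φ : H →* Matrix.SpecialLinearGroup (Fin 2) K :=
      { toFun := fun h => ⟨f h, hd h⟩
        map_one' := Subtype.ext (by simp)
        map_mul' := fun g h => Subtype.ext (show f (g * h) = f g * f h from map_mul f g h) }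
    by_cases hp : IsPGroup p φ.range
    · refine Or.inl fun h => ?_
      obtain ⟨m, hm⟩ := hp ⟨φ h, h, rfl⟩
      refine ⟨p ^ m, ?_⟩
      have h1 : φ h ^ p ^ m = 1 := congrArg Subtype.val hm
      have h2 : f h ^ p ^ m = 1 := by
        rw [← map_pow] at h1 ⊢
        exact congrArg Subtype.val h1
      have h3 : ρ h ^ p ^ m = 1 := (LinearMap.toMatrixAlgEquiv bs).injective (by rw [map_pow, map_one]; exact h2)
      haveI : CharP (Module.End K W) p := charP_of_injective_algebraMap (algebraMap K (Module.End K W)).injective p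
      rw [sub_pow_char_pow_of_commute _ _ (Commute.one_right (ρ h)), h3, one_pow, sub_self]
    · refine Or.inr ⟨φ, hp, fun h hh => MonoidHom.mem_ker.mpr (Subtype.ext ?_)⟩
      show f h = 1
      simp [f, MonoidHom.mem_ker.mp hh]
  -- one-dimensional
  left
  have hle : Module.finrank K W ≤ 2 := by
    rw [← finrank_top, ← hspan]
    refine (finrank_span_le_card _).trans ?_
    rw [Set.toFinset_insert, Set.toFinset_singleton]
    exact Finset.card_le_two
  have h1 : Module.finrank K W = 1 := by
    have := Module.finrank_pos (R := K) (M := W)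
    omega
  have hz : ∀ N : Module.End K W, N * N = 0 → N = 0 := by
    intro N hN
    obtain ⟨c, hc⟩ : ∃ c : K, ∀ u, N u = c • u := by
      obtain ⟨c, hc⟩ := (finrank_eq_one_iff_of_nonzero' v hv0).mp h1 (N v)
      refine ⟨c, fun u => ?_⟩
      obtain ⟨t, rfl⟩ := (finrank_eq_one_iff_of_nonzero' v hv0).mp h1 u
      rw [map_smul, ← hc, smul_comm]
    have := LinearMap.congr_fun hN v
    simp [hc, smul_smul, hv0] at this
    exact LinearMap.ext fun u => by simp [hc, this]
  intro h
  have hall : h ∈ Subgroup.closure ({a, b} : Set H) := hgen ▸ Subgroup.mem_top h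
  suffices ρ h = 1 by rw [this, sub_self]; exact IsNilpotent.zero
  induction hall using Subgroup.closure_induction with
  | mem x hx => rcases hx with rfl | hx
                · exact sub_eq_zero.mp (hz _ hA)
                · rw [Set.mem_singleton_iff] at hx; subst hx; exact sub_eq_zero.mp (hz _ hB)
  | one => simp
  | mul x y _ _ hx hy => rw [map_mul, hx, hy, one_mul]
  | inv x _ hx =>
    have := congrArg ρ (mul_inv_cancel x)
    rwa [map_mul, hx, one_mul, map_one] at this

end

/-- Two quadratically acting generators of a linear group that is not a p-group, with the p'-part of the order of their product dividing q - 1, give a homomorphism onto a subgroup of SL(2, q) that is not a p-group. -/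
theorem result {K : Type*} [Field K] [Fintype K] {p : ℕ} [Fact p.Prime] [CharP K p] {W : Type*} [AddCommGroup W] [Module K W] [FiniteDimensional K W] [Finite W] [Nontrivial W] (H : Subgroup (W ≃ₗ[K] W)) (a b : W ≃ₗ[K] W) (hH : H = Subgroup.closure {a, b}) (ha : ∀ w : W, a (a w - w) = a w - w) (hb : ∀ w : W, b (b w - w) = b w - w) (hnp : ¬ IsPGroup p H) (hk : ∃ e k : ℕ, orderOf (a * b) = p ^ e * k ∧ k ∣ Fintype.card K - 1) : ∃ φ : H →* Matrix.SpecialLinearGroup (Fin 2) K, ¬ IsPGroup p φ.range := by
  subst hH
  obtain ⟨e, k, hord, hkd⟩ := hk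
  set H := Subgroup.closure ({a, b} : Set (W ≃ₗ[K] W))
  let a' : H := ⟨a, Subgroup.subset_closure (by simp)⟩
  let b' : H := ⟨b, Subgroup.subset_closure (by simp)⟩
  have hgen : Subgroup.closure ({a', b'} : Set H) = ⊤ := by
    refine Subgroup.map_injective (f := H.subtype) H.subtype_injective ?_
    rw [MonoidHom.map_closure, ← MonoidHom.range_eq_map, Subgroup.range_subtype, Set.image_pair]
    rfl
  let ρ : H →* Module.End K W :=
    { toFun := fun h => ((h : W ≃ₗ[K] W) : W →ₗ[K] W)
      map_one' := rfl
      map_mul' := fun _ _ => rfl }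
  have hq : ∀ c : H, (∀ w : W, (c : W ≃ₗ[K] W) ((c : W ≃ₗ[K] W) w - w) = (c : W ≃ₗ[K] W) w - w) →
      (ρ c - 1) * (ρ c - 1) = 0 := fun c hc => LinearMap.ext fun w => by
    simp only [Module.End.mul_apply, LinearMap.sub_apply, Module.End.one_apply, LinearMap.zero_apply]
    exact sub_eq_zero.mpr (hc w)
  have hk0 : k ≠ 0 := fun h => by
    rw [h, zero_dvd_iff] at hkd
    have := Fintype.one_lt_card (α := K)
    omega
  have hpow : (a' * b') ^ (p ^ e * k) = 1 := Subtype.ext (by
    rw [SubgroupClass.coe_pow, Subgroup.coe_mul, Subgroup.coe_one, ← hord]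
    exact pow_orderOf_eq_one _)
  have hsplit : (Polynomial.X ^ k - 1 : Polynomial K).Splits := by
    have hne : (Polynomial.X ^ (Fintype.card K - 1) - 1 : Polynomial K) ≠ 0 := by
      have := Fintype.one_lt_card (α := K)
      exact Polynomial.X_pow_sub_C_ne_zero (by omega) 1
    have hdvd : (Polynomial.X ^ k - 1 : Polynomial K) ∣ Polynomial.X ^ (Fintype.card K - 1) - 1 := by
      obtain ⟨c, hc⟩ := hkd
      rw [hc, pow_mul]
      simpa using sub_dvd_pow_sub_pow (Polynomial.X ^ k : Polynomial K) 1 c
    have hbig : (Polynomial.X ^ Fintype.card K - Polynomial.X : Polynomial K).Splits := by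
      have := (FiniteField.isSplittingField_sub K K).splits'
      simpa using this
    refine hbig.of_dvd (FiniteField.X_pow_card_sub_X_ne_zero K Fintype.one_lt_card) (hdvd.trans ⟨Polynomial.X, ?_⟩)
    rw [sub_mul, one_mul, ← pow_succ, Nat.sub_add_cancel Fintype.one_lt_card.le]
  rcases main a' b' hgen e k hpow hsplit hk0 _ W rfl ρ (hq a' ha) (hq b' hb) with h | ⟨φ, hφ, -⟩
  · refine absurd (fun g => ?_) hnp
    obtain ⟨m, hm⟩ := h g
    refine ⟨m, Subtype.ext (LinearEquiv.toLinearMap_injective ?_)⟩
    haveI : CharP (Module.End K W) p := charP_of_injective_algebraMap (algebraMap K (Module.End K W)).injective p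
    have h1 : ρ g ^ p ^ m = 1 := by
      refine sub_eq_zero.mp ?_
      rw [← one_pow (p ^ m), ← sub_pow_char_pow_of_commute _ _ (Commute.one_right (ρ g))]
      exact pow_eq_zero_of_le (Nat.lt_pow_self (Fact.out : p.Prime).one_lt).le hm
    rw [← map_pow] at h1
    exact h1
  · exact ⟨φ, hφ⟩

end Cfsg.Agent.S0592
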