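import Cfsg.Statements.S0594
import Cfsg.Statements.S0594
import Cfsg.Agent.Lib.PLocal.NoSLTwo

set_option autoImplicit false
open Cfsg
open scoped commutatorElement

namespace Cfsg.Agent.S0594

/-- For odd p, two quadratic generators of a faithful group that is not a p-group, one of which acts nontrivially on a normal subgroup of order prime to p, force p = 3 and a section isomorphic to SL(2,3). -/
theorem result {G : Type*} [Group G] [Finite G] {p : ℕ} [Fact p.Prime] (hp : p ≠ 2) (V H : Subgroup G) (hV : Cfsg.IsElementaryAbelian p V) (hHV : H ≤ Subgroup.normalizer (V : Set G)) (hf : H ⊓ Subgroup.centralizer (V : Set G) = ⊥) (a b : G) (hab : H = Subgroup.closure {a, b}) (ha : ⁅⁅V, Subgroup.zpowers a⁆, Subgroup.zpowers a⁆ = ⊥) (hb : ⁅⁅V, Subgroup.zpowers b⁆, Subgroup.zpowers b⁆ = ⊥) (hnp : ¬ IsPGroup p H) (Q : Subgroup G) (hQH : Q ≤ H) (hQn : H ≤ Subgroup.normalizer (Q : Set G)) (hQ : (Nat.card Q).Coprime p) (hQa : ⁅Q, Subgroup.zpowers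 a⁆ ≠ ⊥) : p = 3 ∧ ∃ (K L : Subgroup G) (hL : (L.subgroupOf K).Normal), K ≤ H ∧ Nonempty ((K ⧸ L.subgroupOf K) ≃* Matrix.SpecialLinearGroup (Fin 2) (ZMod 3)) := by
  have haH : a ∈ H := hab ▸ Subgroup.subset_closure (Or.inl rfl)
  have hap := Lib.PLocal.exists_orderOf_eq_of_quad hV hHV hf haH ha
  set H' := Q ⊔ Subgroup.zpowers a with hH'
  have hle : H' ≤ H := sup_le hQH (Subgroup.zpowers_le.2 haH)
  have hna : a ∉ (Cfsg.pCore p H').map H'.subtype := by
    rintro ⟨a', ha', hae⟩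
    have hae' : (a' : G) = a := hae
    have hn : (a' : G) ∈ Subgroup.normalizer (Q : Set G) := hae' ▸ hQn haH
    refine hQa ?_
    rw [← hae']
    refine (Subgroup.eq_bot_iff_forall _).2 ?_
    have h1 : ⁅Q, Subgroup.zpowers (a' : G)⁆ ≤ Q := by
      rw [Subgroup.commutator_le]
      rintro q hq z ⟨i, rfl⟩
      rw [commutatorElement_def, show q * (a' : G) ^ i * q⁻¹ * ((a' : G) ^ i)⁻¹ = q * ((a' : G) ^ i * q⁻¹ * ((a' : G) ^ i)⁻¹) by group]
      exact mul_mem hq ((Subgroup.mem_normalizer_iff.1 (zpow_mem hn i) _).1 (inv_mem hq))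
    have h2 : ⁅Q, Subgroup.zpowers (a' : G)⁆ ≤ (Cfsg.pCore p H').map H'.subtype := by
      rw [Subgroup.commutator_le]
      rintro q hq z ⟨i, rfl⟩
      haveI := Cfsg.pCore_normal p H'
      refine ⟨⁅(⟨q, Subgroup.mem_sup_left hq⟩ : H'), a' ^ i⁆, ?_, ?_⟩
      · exact mul_mem ((inferInstance : (Cfsg.pCore p H').Normal).conj_mem _ (zpow_mem ha' i) _)
          (inv_mem (zpow_mem ha' i))
      · simp [commutatorElement_def]
    intro z hz
    exact Lib.Transfer.eq_one_of_isPGroup_of_coprime ((Lib.Cores.pCore_isPGroup p H').map _) (h2 hz)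
      (Lib.Transfer.coprime_orderOf_of_mem hQ (h1 hz))
  obtain ⟨K, f, hK, hfs⟩ := Lib.PLocal.exists_surjective_of_quad hp (Lib.PLocal.isPGroup_of_elementary hV)
    (hle.trans hHV) (le_bot_iff.1 ((inf_le_inf_right _ hle).trans hf.le))
    (Subgroup.mem_sup_right (Subgroup.mem_zpowers a)) hap ha hna
  obtain ⟨h3, K', L, hL, hK', e⟩ :=
    Lib.PLocal.eq_three_section hp (Lib.PLocal.isPSolvable_sup_zpowers hQ hap (hQn haH)) hK f hfs
  exact ⟨h3, K', L, hL, hK'.trans hle, e⟩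

end Cfsg.Agent.S0594
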