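import Cfsg.Statements.S0597
import Cfsg.Agent.Lib.Subnormal.Join
import Cfsg.Agent.Lib.Components.PComponent

set_option autoImplicit false
open Cfsg

namespace Cfsg.Agent.S0597

set_option linter.style.haveILetI false
open scoped commutatorElement

/-- If two subnormal subgroups of a faithful group on an elementary abelian p-group satisfy [V, E₁, E₂] = 1, then their commutator lies in the largest normal p-subgroup. -/
theorem result {G : Type*} [Group G] [Finite G] {p : ℕ} [Fact p.Prime] (V H : Subgroup G) (hV : Cfsg.IsElementaryAbelian p V) (hHV : H ≤ Subgroup.normalizer (V : Set G)) (hf : H ⊓ Subgroup.centralizer (V : Set G) = ⊥) (E₁ E₂ : Subgroup G) (h₁ : E₁ ≤ H) (h₂ : E₂ ≤ H) (hs₁ : (E₁.subgroupOf H).IsSubnormal) (hs₂ : (E₂.subgroupOf H).IsSubnormal) (hc : ⁅⁅V, E₁⁆, E₂⁆ = ⊥) : ⁅E₁, E₂⁆ ≤ (Cfsg.pCore p H).map H.subtype := by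
  classical
  set W := ⁅V, E₁⁆ with hW
  have hE₁V : E₁ ≤ Subgroup.normalizer (V : Set G) := h₁.trans hHV
  have hE₂V : E₂ ≤ Subgroup.normalizer (V : Set G) := h₂.trans hHV
  have hWV : W ≤ V := Subgroup.le_normalizer_iff_commutator_le_left.mp hE₁V
  have hE₁W : E₁ ≤ Subgroup.normalizer (W : Set G) := Subgroup.normalizer_commutator_ge_right _ _
  have hWc : W ≤ Subgroup.centralizer (E₂ : Set G) :=
    Subgroup.commutator_eq_bot_iff_le_centralizer.mp hc
  -- the group `K` of elements acting on `V ≥ W ≥ 1`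
  set D := ⁅E₁, E₂⁆ with hD
  have hD2 : ⁅⁅E₁, E₂⁆, V⁆ ≤ W ∧ D ≤ Subgroup.centralizer (W : Set G) := by
    constructor
    · refine Subgroup.commutator_le.mpr fun d hd v hv => ?_
      -- `d` fixes `V / W`
      have key : ∀ d ∈ ⁅E₁, E₂⁆, (∀ v ∈ V, ⁅d, v⁆ ∈ W) ∧ d ∈ Subgroup.normalizer (W : Set G) := by
        intro d hd
        rw [Subgroup.commutator_def] at hd
        induction hd using Subgroup.closure_induction with
        | mem d hd =>
          obtain ⟨a, ha, b, hb, rfl⟩ := hd
          have hbW : b ∈ Subgroup.normalizer (W : Set G) :=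
            Subgroup.centralizer_le_normalizer _ (Subgroup.le_centralizer_iff.mp hWc hb)
          have haW := hE₁W ha
          refine ⟨fun v hv => ?_, by
            rw [commutatorElement_def]
            exact mul_mem (mul_mem (mul_mem haW hbW) (inv_mem haW)) (inv_mem hbW)⟩
          -- `a` fixes `v` modulo `W`, `b` commutes with `[V, a]`
          have hcomm : ∀ a ∈ E₁, ∀ v ∈ V, ⁅a, v⁆ ∈ W := fun a ha v hv => by
            rw [← commutatorElement_inv]
            exact inv_mem (Subgroup.commutator_mem_commutator hv ha)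
          set w := b⁻¹ * v * b with hw
          have hwV : w ∈ V := by
            have h1 := (Subgroup.mem_normalizer_iff.mp (hE₂V (inv_mem hb)) v).mp hv
            simpa [hw] using h1
          set u := a⁻¹ * w * a with hu
          -- u = w modulo W
          have h1 : ⁅a⁻¹, w⁆ ∈ W := hcomm _ (inv_mem ha) _ hwV
          set r := ⁅a⁻¹, w⁆ with hr
          have huw : u = r * w := by rw [hu, hr, commutatorElement_def]; group
          -- apply b: b u b⁻¹ = r * v
          have hbu : b * u * b⁻¹ = r * v := by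
            have h2 : b * r = r * b := hWc h1 b hb
            rw [huw]
            calc b * (r * w) * b⁻¹ = (b * r) * w * b⁻¹ := by group
              _ = r * v := by rw [h2, hw]; group
          have e : ⁅a, b⁆ * v * ⁅a, b⁆⁻¹ = a * (r * v) * a⁻¹ := by
            rw [← hbu, hu, hw]; simp only [commutatorElement_def]; group
          have h3 : a * r * a⁻¹ ∈ W := (Subgroup.mem_normalizer_iff.mp haW r).mp h1
          have h4 : ⁅⁅a, b⁆, v⁆ = (a * r * a⁻¹) * ⁅a, v⁆ := by
            calc ⁅⁅a, b⁆, v⁆ = (⁅a, b⁆ * v * ⁅a, b⁆⁻¹) * v⁻¹ := by rw [commutatorElement_def]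
              _ = _ := by rw [e, commutatorElement_def a v]; group
          rw [h4]
          exact mul_mem h3 (hcomm a ha v hv)
        | one => exact ⟨fun v _ => by simp, one_mem _⟩
        | mul x y _ _ hx hy =>
          refine ⟨fun v hv => ?_, mul_mem hx.2 hy.2⟩
          have h1 : ⁅x * y, v⁆ = (x * ⁅y, v⁆ * x⁻¹) * ⁅x, v⁆ := by
            simp only [commutatorElement_def]; group
          rw [h1]
          exact mul_mem ((Subgroup.mem_normalizer_iff.mp hx.2 _).mp (hy.1 v hv)) (hx.1 v hv)
        | inv x _ hx =>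
          refine ⟨fun v hv => ?_, inv_mem hx.2⟩
          have h1 : ⁅x⁻¹, v⁆ = x⁻¹ * ⁅x, v⁆⁻¹ * x⁻¹⁻¹ := by
            simp only [commutatorElement_def]; group
          rw [h1]
          exact (Subgroup.mem_normalizer_iff.mp (inv_mem hx.2) _).mp (inv_mem (hx.1 v hv))
      exact (key d hd).1 v hv
    · rw [hD, Subgroup.commutator_le]
      intro a ha b hb w hw
      have haw : a⁻¹ * w * a ∈ W := by
        have h1 := (Subgroup.mem_normalizer_iff.mp (hE₁W (inv_mem ha)) w).mp hw
        simpa using h1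
      have h2 : b * (a⁻¹ * w * a) = (a⁻¹ * w * a) * b := hWc haw b hb
      have h3 : b * w = w * b := hWc hw b hb
      have hb' : b⁻¹ * w = w * b⁻¹ := ((show Commute b w from h3).inv_left).eq
      calc w * ⁅a, b⁆ = a * ((a⁻¹ * w * a) * b) * a⁻¹ * b⁻¹ := by
            rw [commutatorElement_def]; group
        _ = a * b * a⁻¹ * (w * b⁻¹) := by rw [← h2]; group
        _ = ⁅a, b⁆ * w := by rw [← hb', commutatorElement_def]; group
  -- so `D` has exponent dividing `p`
  have hDH : D ≤ H := (Subgroup.commutator_mono h₁ h₂).trans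
    (Subgroup.commutator_le.mpr fun a ha b hb =>
      mul_mem (mul_mem (mul_mem ha hb) (inv_mem ha)) (inv_mem hb))
  have hDp : ∀ d ∈ D, d ^ p = 1 := by
    intro d hd
    have h1 : d ^ p ∈ H ⊓ Subgroup.centralizer (V : Set G) := by
      refine Subgroup.mem_inf.mpr ⟨pow_mem (hDH hd) p, fun v hv => ?_⟩
      have hwmem : ⁅d, v⁆ ∈ W := hD2.1 (Subgroup.commutator_mem_commutator hd hv)
      set w := ⁅d, v⁆ with hw
      have hdw : Commute d w := ((hD2.2 hd) w hwmem).symm
      have hit : ∀ k : ℕ, d ^ k * v * (d ^ k)⁻¹ = w ^ k * v := by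
        intro k
        induction k with
        | zero => simp
        | succ k ih =>
          calc d ^ (k + 1) * v * (d ^ (k + 1))⁻¹ = d * (d ^ k * v * (d ^ k)⁻¹) * d⁻¹ := by
                rw [pow_succ']; group
            _ = (d * w ^ k) * v * d⁻¹ := by rw [ih]; group
            _ = w ^ k * (d * v * d⁻¹) := by rw [(hdw.pow_right k).eq]; group
            _ = w ^ (k + 1) * v := by rw [hw, commutatorElement_def, pow_succ]; group
      have h2 := hit p
      rw [hV.2 w (hWV hwmem), one_mul] at h2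
      exact (mul_inv_eq_iff_eq_mul.mp h2).symm
    rw [hf, Subgroup.mem_bot] at h1
    exact h1
  -- and it is subnormal
  set A₁ := E₁.subgroupOf H with hA₁
  set A₂ := E₂.subgroupOf H with hA₂
  have hK : (A₁ ⊔ A₂).IsSubnormal := Cfsg.Agent.Lib.Subnormal.isSubnormal_sup hs₁ hs₂
  have hDn : (⁅A₁, A₂⁆.subgroupOf (A₁ ⊔ A₂)).Normal := Subgroup.normal_subgroupOf_of_le_normalizer
    (sup_le (Subgroup.normalizer_commutator_ge_left A₁ A₂) (Subgroup.normalizer_commutator_ge_right A₁ A₂))
  have hsn : (⁅A₁, A₂⁆).IsSubnormal := Subgroup.IsSubnormal.step _ _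
    (Subgroup.commutator_le.mpr fun a ha b hb => mul_mem (mul_mem (mul_mem
      (Subgroup.mem_sup_left ha) (Subgroup.mem_sup_right hb))
      (inv_mem (Subgroup.mem_sup_left ha))) (inv_mem (Subgroup.mem_sup_right hb))) hK hDn
  have hmap : (⁅A₁, A₂⁆).map H.subtype = D := by
    rw [Subgroup.map_commutator, hA₁, hA₂, Subgroup.subgroupOf_map_subtype,
      Subgroup.subgroupOf_map_subtype, inf_eq_left.mpr h₁, inf_eq_left.mpr h₂]
  have hp' : IsPGroup p ↥(⁅A₁, A₂⁆ : Subgroup H) := fun x => ⟨1, by
    refine Subtype.ext (Subtype.ext ?_)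
    simpa using hDp _ (hmap ▸ Subgroup.mem_map_of_mem H.subtype x.2)⟩
  rw [hD, ← show (⁅A₁, A₂⁆).map H.subtype = ⁅E₁, E₂⁆ from hmap]
  exact Subgroup.map_mono (Cfsg.Agent.Lib.Components.le_pCore_of_subnormal hsn hp')

end Cfsg.Agent.S0597
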