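import Cfsg.Statements.S0601
import Cfsg.Agent.Lib.PLocal.SylowGen

set_option autoImplicit false
open Cfsg

namespace Cfsg.Agent.S0601

/-- When O_p(G) contains its centralizer, the normal closure of Ω₁(Z(S)) is elementary abelian and G has no nontrivial normal p-subgroup modulo its centralizer. -/
theorem result {G : Type*} [Group G] [Finite G] {p : ℕ} [Fact p.Prime] (hc : Subgroup.centralizer (Cfsg.pCore p G : Set G) ≤ Cfsg.pCore p G) : (⨆ S : Sylow p G, Cfsg.omegaOne p (((S : Subgroup G)) ⊓ Subgroup.centralizer ((S : Subgroup G) : Set G))).Normal ∧ Cfsg.IsElementaryAbelian p (⨆ S : Sylow p G, Cfsg.omegaOne p (((S : Subgroup G)) ⊓ Subgroup.centralizer ((S : Subgroup G) : Set G))) ∧ ∀ D : Subgroup G, D.Normal → Subgroup.centralizer ((⨆ S : Sylow p G, Cfsg.omegaOne p (((S : Subgroup G)) ⊓ Subgroup.centralizer ((S : Subgroup G) : Set G)) : Subgroup G) : Set G) ≤ D → (∃ k : ℕ, (Subgroup.centralizer ((⨆ S : Sylow p G, Cfsg.omegaOne p (((S : Subgroup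 G)) ⊓ Subgroup.centralizer ((S : Subgroup G) : Set G)) : Subgroup G) : Set G)).relIndex D = p ^ k) → D = Subgroup.centralizer ((⨆ S : Sylow p G, Cfsg.omegaOne p (((S : Subgroup G)) ⊓ Subgroup.centralizer ((S : Subgroup G) : Set G)) : Subgroup G) : Set G) := by
  set Z : Sylow p G → Subgroup G :=
    fun S => Cfsg.omegaOne p ((S : Subgroup G) ⊓ Subgroup.centralizer ((S : Subgroup G) : Set G))
    with hZdef
  have hZO : ∀ S, Z S ≤ Subgroup.centralizer (Cfsg.pCore p G : Set G) := fun S =>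
    (Lib.PLocal.omegaOne_le p _).trans
      (inf_le_right.trans (Subgroup.centralizer_le (Lib.Cores.pCore_le_sylow S)))
  have hconj : ∀ (g : G) (S : Sylow p G), (Z S).map (MulAut.conj g).toMonoidHom ≤ Z (g • S) := by
    intro g S
    rw [hZdef]
    simp only
    rw [Lib.PLocal.map_omegaOne _ (MulAut.conj g).injective]
    refine Subgroup.closure_mono ?_
    rintro y ⟨⟨x, hx, rfl⟩, hyp⟩
    refine ⟨⟨?_, ?_⟩, hyp⟩
    · rw [Sylow.coe_subgroup_smul]; exact ⟨x, hx.1, rfl⟩
    · intro w hw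
      rw [SetLike.mem_coe, Sylow.coe_subgroup_smul] at hw
      obtain ⟨w', hw', rfl⟩ := hw
      show g * w' * g⁻¹ * (g * x * g⁻¹) = g * x * g⁻¹ * (g * w' * g⁻¹)
      have h0 : w' * x = x * w' := hx.2 w' hw'
      calc g * w' * g⁻¹ * (g * x * g⁻¹) = g * (w' * x) * g⁻¹ := by group
        _ = _ := by rw [h0]; group
  have hnorm : (⨆ S : Sylow p G, Z S).Normal := by
    refine ⟨fun v hv g => ?_⟩
    have h1 : (⨆ S : Sylow p G, Z S).map (MulAut.conj g).toMonoidHom ≤ ⨆ S : Sylow p G, Z S := by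
      rw [Subgroup.map_iSup]
      exact iSup_le fun S => (hconj g S).trans (le_iSup Z (g • S))
    exact h1 ⟨v, hv, rfl⟩
  have hE : Cfsg.IsElementaryAbelian p
      (Cfsg.omegaOne p (Cfsg.pCore p G ⊓ Subgroup.centralizer (Cfsg.pCore p G : Set G))) :=
    Lib.PLocal.elemAb_omegaOne fun a ha b hb => (ha.2 b hb.1).symm
  refine ⟨hnorm, Lib.PLocal.elemAb_of_le hE (iSup_le fun S => ?_), ?_⟩
  · rw [Lib.PLocal.omegaOne_le_elemAb_iff]
    intro x hx hxp
    have hxC := hZO S (Lib.PLocal.mem_omegaOne hx hxp)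
    exact Lib.PLocal.mem_omegaOne ⟨hc hxC, hxC⟩ hxp
  · rintro D hD hCD ⟨k, hk⟩
    haveI := hD
    refine Lib.PLocal.eq_centralizer_of_gen_fixed ?_ hCD hk
    exact iSup_le fun S => le_trans (le_inf (le_iSup Z S)
      ((Lib.PLocal.omegaOne_le p _).trans inf_le_right)) (le_iSup (fun T : Sylow p G =>
        (⨆ U : Sylow p G, Z U) ⊓ Subgroup.centralizer ((T : Subgroup G) : Set G)) S)

end Cfsg.Agent.S0601
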