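import Cfsg.Statements.S0606
import Cfsg.Agent.Lib.PLocal.Thompson

set_option autoImplicit false
open Cfsg

namespace Cfsg.Agent.S0606

/-- Elementary abelian p-subgroups of maximal order are best offenders on any normal elementary abelian p-subgroup. -/
theorem result {G : Type*} [Group G] [Finite G] {p : ℕ} [Fact p.Prime] (V : Subgroup G) [V.Normal] (hV : Cfsg.IsElementaryAbelian p V) (A : Subgroup G) (hA : A ∈ Cfsg.maxElementaryAbelianSubgroups p G) : Cfsg.IsBestOffenderOn p V A := by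
  have hcomm : ⁅A, A⁆ ≤ Subgroup.centralizer (V : Set G) := by
    have h0 : ⁅A, A⁆ = ⊥ := Subgroup.commutator_eq_bot_iff_le_centralizer.mpr
      (fun a ha b hb => (Lib.PLocal.commute_of_elemAb hA.1 ha hb).symm)
    rw [h0]; exact bot_le
  refine ⟨fun B hB => ?_, hcomm, fun a ha => by rw [hA.1.2 a ha]; exact one_mem _⟩
  set CB := V ⊓ Subgroup.centralizer (B : Set G) with hCB
  have hBC : B ≤ Subgroup.normalizer (CB : Set G) := by
    refine le_trans (fun b hb => ?_) (Subgroup.centralizer_le_normalizer _)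
    intro c hc
    exact (hc.2 b hb).symm
  have hE : Cfsg.IsElementaryAbelian p (B ⊔ CB) :=
    Lib.PLocal.elemAb_sup (Lib.PLocal.elemAb_of_le hA.1 hB)
      (Lib.PLocal.elemAb_of_le hV inf_le_left) (fun b hb c hc => hc.2 b hb)
  have h2 := hA.2 _ hE
  haveI hn : (CB.subgroupOf (B ⊔ CB)).Normal := ⟨fun x hx g => by
    have hxg : (g : G) * x = (x : G) * g := Lib.PLocal.commute_of_elemAb hE g.2 x.2
    have h1 : g * x * g⁻¹ = x := Subtype.ext (by
      show (g : G) * x * (g : G)⁻¹ = x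
      rw [hxg, mul_inv_cancel_right])
    rw [h1]; exact hx⟩
  have h1 := Lib.Cores.card_sup_mul_card_inf (B.subgroupOf (B ⊔ CB)) (CB.subgroupOf (B ⊔ CB))
  rw [← Subgroup.subgroupOf_sup le_sup_left le_sup_right, Subgroup.subgroupOf_self, Subgroup.card_top,
    Nat.card_congr (Subgroup.subgroupOfEquivOfLe (le_sup_left : B ≤ B ⊔ CB)).toEquiv,
    Nat.card_congr (Subgroup.subgroupOfEquivOfLe (le_sup_right : CB ≤ B ⊔ CB)).toEquiv] at h1
  have h3 : Nat.card (B.subgroupOf (B ⊔ CB) ⊓ CB.subgroupOf (B ⊔ CB) : Subgroup ↥(B ⊔ CB)) ≤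
      Nat.card ↥(V ⊓ Subgroup.centralizer (A : Set G)) := by
    rw [← Subgroup.card_map_of_injective (Subgroup.subtype_injective _)]
    refine Subgroup.card_le_of_le ?_
    rintro _ ⟨x, ⟨hxB, hxC⟩, rfl⟩
    exact ⟨hxC.1, fun a ha => Lib.PLocal.commute_of_elemAb hA.1 ha (hB hxB)⟩
  calc Nat.card B * Nat.card CB = _ := h1.symm
    _ ≤ Nat.card A * Nat.card ↥(V ⊓ Subgroup.centralizer (A : Set G)) := Nat.mul_le_mul h2 h3

end Cfsg.Agent.S0606
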