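import Cfsg.Statements.S0608
import Cfsg.Agent.Lib.PLocal.Factor

set_option autoImplicit false
open Cfsg

namespace Cfsg.Agent.S0608

set_option linter.style.haveILetI false
open Cfsg.Agent.Lib.PLocal

/-- With trivial p'-core, Thompson factorizability is equivalent to J(G) centralizing the subgroup generated by all Ω₁(Z(S)), S Sylow. -/
theorem result {G : Type*} [Group G] [Finite G] {p : ℕ} [Fact p.Prime] (hO : Cfsg.pPrimeCore p G = ⊥) : Cfsg.IsThompsonFactorizable p G ↔ Cfsg.thompsonSubgroup p G ≤ Subgroup.centralizer ((⨆ S : Sylow p G, Cfsg.omegaOne p (((S : Subgroup G)) ⊓ Subgroup.centralizer ((S : Subgroup G) : Set G)) : Subgroup G) : Set G) := by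
  set z : Sylow p G → Subgroup G := fun S =>
    Cfsg.omegaOne p ((S : Subgroup G) ⊓ Subgroup.centralizer ((S : Subgroup G) : Set G)) with hz
  set V := (⨆ S : Sylow p G, z S) with hV
  constructor
  · intro hf
    rw [thompsonSubgroup_eq_iSup_sylow, iSup_le_iff]
    intro S
    rw [Subgroup.le_centralizer_iff, hV, iSup_le_iff]
    intro T
    obtain ⟨g, rfl⟩ := MulAction.exists_smul_eq G S T
    refine (Subgroup.closure_le _).mpr ?_
    rintro w ⟨hw, hwp⟩ a ha
    -- move back to `S`
    have hmem : ∀ u, u ∈ ((g • S : Sylow p G) : Subgroup G) ↔ g⁻¹ * u * g ∈ (S : Subgroup G) := by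
      intro u
      rw [Sylow.coe_subgroup_smul, Subgroup.mem_pointwise_smul_iff_inv_smul_mem]
      simp
    set w' := g⁻¹ * w * g with hw'
    have hw'S : w' ∈ z S := by
      refine Subgroup.subset_closure ⟨⟨(hmem w).mp hw.1, fun u hu => ?_⟩, ?_⟩
      · have h1 := hw.2 (g * u * g⁻¹) ((hmem _).mpr (by
          rwa [show g⁻¹ * (g * u * g⁻¹) * g = u by group]))
        calc u * w' = g⁻¹ * ((g * u * g⁻¹) * w) * g := by rw [hw']; group
          _ = w' * u := by rw [h1, hw']; group
      · have h1 := conj_pow (a := g⁻¹) (b := w) (i := p)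
        rw [inv_inv] at h1
        rw [hw', h1, hwp]; group
    obtain ⟨x, hx, c, hc, n, hn, hg⟩ := hf S g⁻¹
    rw [hO, Subgroup.mem_bot] at hx
    rw [hx, one_mul] at hg
    have hJS : ∀ j ∈ Cfsg.thompsonSubgroupOf p (S : Subgroup G), j * w' = w' * j := by
      intro j hj
      exact (omegaOne_le p _ hw'S).2 j (thompsonSubgroupOf_le _ hj)
    have hna := (Subgroup.mem_normalizer_iff.mp hn a).mp ha
    have hcomm : (g⁻¹ * a * g) * w' = w' * (g⁻¹ * a * g) := by
      have h1 : g⁻¹ * a * g = c * (n * a * n⁻¹) * c⁻¹ := by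
        have hg' : g = n⁻¹ * c⁻¹ := by rw [← inv_inv g, hg, mul_inv_rev]
        rw [hg, hg']; group
      have hcw : c * w' = w' * c := (hc w' hw'S).symm
      have hcw' : c⁻¹ * w' = w' * c⁻¹ :=
        ((show Commute c w' from hcw).inv_left).eq
      rw [h1]
      calc c * (n * a * n⁻¹) * c⁻¹ * w' = c * ((n * a * n⁻¹) * w') * c⁻¹ := by
            rw [mul_assoc _ c⁻¹, hcw']; group
        _ = c * w' * (n * a * n⁻¹) * c⁻¹ := by rw [hJS _ hna]; group
        _ = _ := by rw [hcw]; group
    calc a * w = g * ((g⁻¹ * a * g) * w') * g⁻¹ := by rw [hw']; group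
      _ = w * a := by rw [hcomm, hw']; group
  · intro hJ S g
    have hVn : V.Normal := by
      have key : ∀ g x : G, x ∈ V → g * x * g⁻¹ ∈ V := by
        intro g x hx
        rw [hV] at hx
        induction hx using Subgroup.iSup_induction' with
        | hp S x hx =>
          refine Subgroup.mem_iSup_of_mem (g • S) ?_
          induction hx using Subgroup.closure_induction with
          | mem x hx =>
            refine Subgroup.subset_closure ⟨⟨?_, fun u hu => ?_⟩, ?_⟩
            · rw [SetLike.mem_coe, Sylow.coe_subgroup_smul]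
              exact Subgroup.smul_mem_pointwise_smul x (MulAut.conj g) _ hx.1.1
            · rw [SetLike.mem_coe, Sylow.coe_subgroup_smul,
                Subgroup.mem_pointwise_smul_iff_inv_smul_mem] at hu
              have hu' : g⁻¹ * u * g ∈ (S : Subgroup G) := by simpa using hu
              calc u * (g * x * g⁻¹) = g * ((g⁻¹ * u * g) * x) * g⁻¹ := by group
                _ = g * x * g⁻¹ * u := by rw [hx.1.2 _ hu']; group
            · rw [conj_pow, hx.2]; group
          | one => simp
          | mul a b _ _ ha hb =>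
            rw [show g * (a * b) * g⁻¹ = (g * a * g⁻¹) * (g * b * g⁻¹) by group]
            exact mul_mem ha hb
          | inv a _ ha =>
            rw [show g * a⁻¹ * g⁻¹ = (g * a * g⁻¹)⁻¹ by group]
            exact inv_mem ha
        | h1 => simp
        | hmul a b _ _ ha hb =>
          rw [show g * (a * b) * g⁻¹ = (g * a * g⁻¹) * (g * b * g⁻¹) by group]
          exact mul_mem ha hb
      exact ⟨fun x hx g => key g x hx⟩
    have hJS : Cfsg.thompsonSubgroupOf p (S : Subgroup G) ≤ Subgroup.centralizer (V : Set G) :=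
      (le_iSup (fun S : Sylow p G => Cfsg.thompsonSubgroupOf p (S : Subgroup G)) S).trans
        (thompsonSubgroup_eq_iSup_sylow.ge.trans hJ)
    have htop := sup_normalizer_thompson_eq_top S (Subgroup.centralizer (V : Set G)) hJS
    obtain ⟨c, hc, n, hn, hcn⟩ := Subgroup.mem_sup_of_normal_left.mp (htop.ge (Subgroup.mem_top g))
    exact ⟨1, one_mem _, c, Subgroup.centralizer_le (le_iSup z S) hc, n, hn, by rw [one_mul, hcn]⟩

end Cfsg.Agent.S0608
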