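import Cfsg.Statements.S0609
import Cfsg.Agent.Lib.PLocal.Factor
import Cfsg.Agent.Lib.Components.Local

set_option autoImplicit false
open Cfsg

namespace Cfsg.Agent.S0609

set_option linter.style.haveILetI false
open scoped commutatorElement
open Cfsg.Agent.Lib.PLocal

/-- Thompson factorizability passes to and from the quotient by the largest normal subgroup of order prime to p. -/
theorem result {G : Type*} [Group G] [Finite G] {p : ℕ} [Fact p.Prime] : Cfsg.IsThompsonFactorizable p G ↔ Cfsg.IsThompsonFactorizable p (G ⧸ Cfsg.pPrimeCore p G) := by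
  classical
  have h0 : Cfsg.pPrimeCore p (G ⧸ Cfsg.pPrimeCore p G) = ⊥ :=
    Cfsg.Agent.Lib.Components.pPrimeCore_quotient_eq_bot p
  set O := Cfsg.pPrimeCore p G with hO
  set π := QuotientGroup.mk' O with hπ
  have hπs : Function.Surjective π := QuotientGroup.mk'_surjective O
  have hOc : (Nat.card O).Coprime p := Cfsg.Agent.Lib.Cores.pPrimeCore_coprime p G
  have hinj : ∀ S : Sylow p G, ∀ x ∈ (S : Subgroup G), x ∈ O → x = 1 := by
    intro S x hx hxO
    have h := Cfsg.Agent.Lib.Components.isPGroup_inf_pPrimeCore_eq_bot (p := p) S.2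
    exact Subgroup.mem_bot.mp (h ▸ (⟨hx, hxO⟩ : x ∈ (S : Subgroup G) ⊓ Cfsg.pPrimeCore p G))
  set z : Sylow p G → Subgroup G := fun S =>
    Cfsg.omegaOne p ((S : Subgroup G) ⊓ Subgroup.centralizer ((S : Subgroup G) : Set G)) with hz
  -- images
  have hzmap : ∀ S : Sylow p G, Cfsg.omegaOne p ((S : Subgroup G).map π ⊓
      Subgroup.centralizer ((S : Subgroup G).map π : Set (G ⧸ O))) = (z S).map π := by
    intro S
    apply le_antisymm
    · refine (Subgroup.closure_le _).mpr ?_
      rintro _ ⟨⟨⟨s, hs, rfl⟩, hc⟩, hpow⟩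
      refine ⟨s, Subgroup.subset_closure ⟨⟨hs, fun t ht => ?_⟩, hinj S _ (pow_mem hs p) ?_⟩, rfl⟩
      · have h1 : π ⁅t, s⁆ = 1 := by
          rw [map_commutatorElement]
          exact commutatorElement_eq_one_iff_mul_comm.mpr (hc _ ⟨t, ht, rfl⟩)
        have h2 : ⁅t, s⁆ ∈ (S : Subgroup G) := by
          rw [commutatorElement_def]
          exact mul_mem (mul_mem (mul_mem ht hs) (inv_mem ht)) (inv_mem hs)
        exact commutatorElement_eq_one_iff_mul_comm.mp
          (hinj S _ h2 ((QuotientGroup.eq_one_iff _).mp h1))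
      · refine (QuotientGroup.eq_one_iff _).mp ?_
        show π (s ^ p) = 1
        rw [map_pow]; exact hpow
    · refine Subgroup.map_le_iff_le_comap.mpr ((Subgroup.closure_le _).mpr ?_)
      rintro s ⟨⟨hs, hc⟩, hpow⟩
      refine Subgroup.subset_closure ⟨⟨⟨s, hs, rfl⟩, ?_⟩, by rw [← map_pow, hpow, map_one]⟩
      rintro _ ⟨t, ht, rfl⟩
      rw [← map_mul, hc t ht, map_mul]
  have hJmap : ∀ S : Sylow p G, Cfsg.thompsonSubgroupOf p ((S : Subgroup G).map π) =
      (Cfsg.thompsonSubgroupOf p (S : Subgroup G)).map π := by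
    intro S
    have hi : Function.Injective (π.subgroupMap (S : Subgroup G)) := by
      rw [injective_iff_map_eq_one]
      intro x hx
      exact Subtype.ext (hinj S x x.2 ((QuotientGroup.eq_one_iff _).mp (congrArg Subtype.val hx :)))
    let e := MulEquiv.ofBijective (π.subgroupMap (S : Subgroup G))
      ⟨hi, π.subgroupMap_surjective (S : Subgroup G)⟩
    have h1 := map_thompsonSubgroup_equiv (p := p) e
    rw [Cfsg.thompsonSubgroupOf, Cfsg.thompsonSubgroupOf, ← h1, Subgroup.map_map, Subgroup.map_map]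
    rfl
  have hzp : ∀ S : Sylow p G, IsPGroup p (z S) := fun S =>
    S.2.to_le ((omegaOne_le p _).trans inf_le_left)
  have hJp : ∀ S : Sylow p G, IsPGroup p (Cfsg.thompsonSubgroupOf p (S : Subgroup G)) := fun S =>
    S.2.to_le (thompsonSubgroupOf_le _)
  -- centralizers and normalizers lift
  have hN : ∀ P : Subgroup G, IsPGroup p P → (Subgroup.normalizer (P : Set G)).map π =
      Subgroup.normalizer ((P.map π : Subgroup (G ⧸ O)) : Set (G ⧸ O)) := fun P hP =>
    Cfsg.Agent.Lib.Components.map_normalizer_quotient O hOc hP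
  have hC : ∀ P : Subgroup G, IsPGroup p P → ∀ y ∈ Subgroup.centralizer (P.map π : Set (G ⧸ O)),
      ∃ c ∈ Subgroup.centralizer (P : Set G), π c = y := by
    intro P hP y hy
    have hyN : y ∈ Subgroup.normalizer ((P.map π : Subgroup (G ⧸ O)) : Set (G ⧸ O)) :=
      Subgroup.centralizer_le_normalizer _ hy
    rw [← hN P hP] at hyN
    obtain ⟨n, hn, rfl⟩ := hyN
    refine ⟨n, fun x hx => ?_, rfl⟩
    have h1 : π ⁅x, n⁆ = 1 := by
      rw [map_commutatorElement]
      exact commutatorElement_eq_one_iff_mul_comm.mpr (hy _ ⟨x, hx, rfl⟩)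
    obtain ⟨S, hS⟩ := hP.exists_le_sylow
    have h2 : ⁅x, n⁆ ∈ P := by
      rw [commutatorElement_def, mul_assoc x n, mul_assoc x]
      exact mul_mem hx ((Subgroup.mem_normalizer_iff.mp hn x⁻¹).mp (inv_mem hx))
    exact commutatorElement_eq_one_iff_mul_comm.mp
      (hinj S _ (hS h2) ((QuotientGroup.eq_one_iff _).mp h1))
  constructor
  · intro hf T y
    obtain ⟨S, rfl⟩ := Sylow.mapSurjective_surjective hπs p T
    obtain ⟨g, rfl⟩ := hπs y
    obtain ⟨x, hx, c, hc, n, hn, rfl⟩ := hf S g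
    refine ⟨1, one_mem _, π c, ?_, π n, ?_, ?_⟩
    · rw [Sylow.coe_mapSurjective, hzmap]
      rintro _ ⟨w, hw, rfl⟩
      rw [← map_mul, hc w hw, map_mul]
    · rw [Sylow.coe_mapSurjective, hJmap, ← hN _ (hJp S)]
      exact ⟨n, hn, rfl⟩
    · rw [one_mul, map_mul, map_mul, show π x = 1 from (QuotientGroup.eq_one_iff x).mpr hx, one_mul]
  · intro hf S g
    obtain ⟨x, hx, c, hc, n, hn, hg⟩ := hf (S.mapSurjective hπs) (π g)
    rw [h0, Subgroup.mem_bot] at hx
    rw [Sylow.coe_mapSurjective, hzmap] at hc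
    rw [Sylow.coe_mapSurjective, hJmap, ← hN _ (hJp S)] at hn
    obtain ⟨c', hc', rfl⟩ := hC _ (hzp S) c hc
    obtain ⟨n', hn', rfl⟩ := hn
    refine ⟨g * (c' * n')⁻¹, ?_, c', hc', n', hn', by group⟩
    refine (QuotientGroup.eq_one_iff _).mp ?_
    show π (g * (c' * n')⁻¹) = 1
    rw [map_mul, map_inv, map_mul, hg, hx, one_mul, mul_inv_cancel]

end Cfsg.Agent.S0609
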