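import Cfsg.Statements.S0611
import Cfsg.Agent.Lib.FusionControl.CoprimeOffender

set_option autoImplicit false
open Cfsg

namespace Cfsg.Agent.S0611

open scoped commutatorElement

/-- Minimal nontrivially-acting best offenders in such a faithful group have order p, commutator [V, B] of order p and fixed points of index p. -/
theorem result {G : Type*} [Group G] [Finite G] {p : ℕ} [Fact p.Prime] (V H : Subgroup G) (hV : Cfsg.IsElementaryAbelian p V) (hHV : H ≤ Subgroup.normalizer (V : Set G)) (hf : H ⊓ Subgroup.centralizer (V : Set G) = ⊥) (hS1 : Subgroup.centralizer (Cfsg.pPrimeCore p ↥H : Set ↥H) ≤ Cfsg.pPrimeCore p ↥H) (hS3 : H = ⨆ A : {A : Subgroup G // A ≤ H ∧ Cfsg.IsBestOffenderOn p V A}, (A : Subgroup G)) (hH1 : H ≠ ⊥) (A : Subgroup G) (hAH : A ≤ H) (hA : Cfsg.IsBestOffenderOn p V A) (hAV : ⁅V, A⁆ ≠ ⊥) (hmin : ∀ B : Subgroup G, B ≤ A → Cfsg.IsBestOffenderOn p V B → ⁅V, B⁆ ≠ ⊥ → B = A) : Nat.card A = p ∧ Nat.card ↥(⁅V, A⁆)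 = p ∧ ((V ⊓ Subgroup.centralizer (A : Set G))).relIndex V = p := by
  classical
  open Cfsg.Agent.Lib.FusionControl.CoprimeOffender in
  have hc : Ctx p V H := ⟨hV, hHV, hf, hS1⟩
  have hAe := hc.isElementaryAbelian hAH hA.2.1 hA.2.2
  have hfA := hc.fv_eq hAH hA
  have hne : A ≠ ⊥ := fun h => hAV ((hc.commutator_eq_bot hAH).mpr h)
  obtain ⟨B, hB⟩ := hc.exists_good hAH hAe hne
  have hfB := hc.good_fv hAH hAe hfA hB
  have hBbot : B = ⊥ := by
    by_contra hb
    have := hmin B hB.1 (hc.best_of_fv (hB.1.trans hAH) (Cfsg.Agent.Lib.FusionControl.CoprimeOffender.isElementaryAbelian_le hAe hB.1) hfB)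
      (fun h => hb ((hc.commutator_eq_bot (hB.1.trans hAH)).mp h))
    rw [this] at hB
    have h := hB.2.1
    rw [Subgroup.relIndex_self] at h
    exact (Fact.out : p.Prime).ne_one h.symm
  have hcard : Nat.card A = p := by
    rw [Cfsg.Agent.Lib.FusionControl.CoprimeOffender.card_eq_of_good hB, hBbot, Subgroup.card_bot, mul_one]
  set C := V ⊓ Subgroup.centralizer (A : Set G) with hC
  have hidx : C.relIndex V = p := by
    have h1 : Nat.card C * C.relIndex V = Nat.card V := by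
      rw [← Subgroup.relIndex_bot_left C, ← Subgroup.relIndex_bot_left V]
      exact Subgroup.relIndex_mul_relIndex ⊥ C V bot_le inf_le_left
    rw [Cfsg.Agent.Lib.FusionControl.CoprimeOffender.fv, hcard] at hfA
    have := hfA
    rw [mul_comm] at h1
    exact Nat.eq_of_mul_eq_mul_right Nat.card_pos (h1.trans this.symm)
  refine ⟨hcard, ?_, hidx⟩
  -- `[V, A]` is cyclic
  have hcomm : ∀ x ∈ V, ∀ y ∈ V, x * y = y * x := fun x hx y hy =>
    Cfsg.Agent.Lib.FusionControl.CoprimeOffender.mul_comm_of_elem hV hx hy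
  have hVp := Cfsg.Agent.Lib.FusionControl.CoprimeOffender.isPGroup_of_elem hV
  have hAp := Cfsg.Agent.Lib.FusionControl.CoprimeOffender.isPGroup_of_elem hAe
  have hAn : A ≤ Subgroup.normalizer (V : Set G) := hAH.trans hHV
  set W := ⁅V, A⁆ with hW
  have hWV : W ≤ V := Subgroup.le_normalizer_iff_commutator_le_left.mp hAn
  have hCn : ∀ c ∈ C, ∀ a ∈ A, a * c = c * a := fun c hc a ha => Subgroup.mem_centralizer_iff.mp hc.2 a ha
  have hWn : A ≤ Subgroup.normalizer (W : Set G) := Subgroup.normalizer_commutator_ge_right V A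
  -- `W ≤ C`
  have hWC : W ≤ C := by
    by_contra hWC
    have hd : (W ⊔ C).relIndex V ∣ p := hidx ▸ Subgroup.relIndex_dvd_of_le_left V le_sup_right
    rcases (Nat.dvd_prime (Fact.out : p.Prime)).mp hd with h | h
    · have hVle : V ≤ W ⊔ C := Subgroup.relIndex_eq_one.mp h
      have hlt := Cfsg.Agent.Lib.Coprime.commutator_lt_of_isPGroup (hVp.to_le hWV) hAp hWn hAV
      refine hlt.not_ge ?_
      refine Subgroup.commutator_le.mpr fun v hv a ha => ?_
      have hv' : v ∈ (↑(W ⊔ C) : Set G) := hVle hv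
      rw [Subgroup.coe_mul_of_left_le_normalizer_right W C (fun w hw => by
        rw [Subgroup.mem_normalizer_iff]
        intro y
        constructor
        · intro hy
          rwa [hcomm w (hWV hw) y hy.1, mul_inv_cancel_right]
        · intro hy
          have e : w * y * w⁻¹ = y := by
            calc w * y * w⁻¹ = w⁻¹ * (w * (w * y * w⁻¹)) * 1 := by group
              _ = w⁻¹ * ((w * y * w⁻¹) * w) * 1 := by rw [hcomm w (hWV hw) _ hy.1]
              _ = y := by group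
          rwa [e] at hy)] at hv'
      obtain ⟨w, hw, c, hc', rfl⟩ := hv'
      have e : ⁅w * c, a⁆ = ⁅w, a⁆ := by
        have e1 : Commute a⁻¹ c := (Commute.symm (hCn c hc' a ha : Commute a c)).inv_right.symm
        have e2 : Commute a c := hCn c hc' a ha
        calc ⁅w * c, a⁆ = w * (c * a) * c⁻¹ * w⁻¹ * a⁻¹ := by rw [commutatorElement_def]; group
          _ = w * (a * c) * c⁻¹ * w⁻¹ * a⁻¹ := by rw [e2.eq]
          _ = ⁅w, a⁆ := by rw [commutatorElement_def]; group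
      simp only [e]
      exact Subgroup.commutator_mem_commutator hw ha
    · apply hWC
      have h1 := Subgroup.relIndex_mul_relIndex C (W ⊔ C) V le_sup_right (sup_le hWV inf_le_left)
      rw [h, hidx] at h1
      exact le_sup_left.trans (Subgroup.relIndex_eq_one.mp
        (Nat.eq_of_mul_eq_mul_right (Fact.out : p.Prime).pos (h1.trans (one_mul p).symm)))
  obtain ⟨v₀, hv₀, hv₀C⟩ : ∃ v ∈ V, v ∉ C := by
    by_contra hno
    push_neg at hno
    rw [Subgroup.relIndex_eq_one.mpr hno] at hidx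
    exact (Fact.out : p.Prime).ne_one hidx.symm
  obtain ⟨a, haA, ha1⟩ : ∃ a ∈ A, a ≠ 1 := (A.bot_or_exists_ne_one).resolve_left hne
  set w₀ : G := ⁅v₀, a⁆ with hw₀
  have hgenA : ∀ b ∈ A, ∃ i : ℕ, b = a ^ i := by
    intro b hb
    have hz : Subgroup.zpowers a = A := by
      refine Subgroup.eq_of_le_of_card_ge (Subgroup.zpowers_le.mpr haA) ?_
      rw [Nat.card_zpowers, hcard, orderOf_eq_prime (hAe.2 a haA) ha1]
    rw [← hz] at hb
    obtain ⟨i, hi⟩ := (mem_powers_iff_mem_zpowers).mpr hb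
    exact ⟨i, hi.symm⟩
  have hgenV : ∀ v ∈ V, ∃ (i : ℕ), ∃ c ∈ C, v = v₀ ^ i * c := by
    intro v hv
    have : (C.subgroupOf V).Normal := by
      have := hV.1
      infer_instance
    have hne0 : (QuotientGroup.mk' (C.subgroupOf V) ⟨v₀, hv₀⟩) ≠ 1 := fun h =>
      hv₀C (Subgroup.mem_subgroupOf.mp ((QuotientGroup.eq_one_iff _).mp h))
    obtain ⟨i, hi⟩ := mem_powers_of_prime_card (g' := QuotientGroup.mk' (C.subgroupOf V) ⟨v, hv⟩)
      (p := p) hidx hne0
    refine ⟨i, (v₀ ^ i)⁻¹ * v, ?_, by group⟩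
    simp only at hi
    rw [← map_pow] at hi
    have := Subgroup.mem_subgroupOf.mp ((QuotientGroup.eq).mp hi)
    simpa using this
  have hw₀W : w₀ ∈ W := Subgroup.commutator_mem_commutator hv₀ haA
  have hWle : W ≤ Subgroup.zpowers w₀ := by
    refine Subgroup.commutator_le.mpr fun v hv b hb => ?_
    obtain ⟨i, c, hc', rfl⟩ := hgenV v hv
    obtain ⟨j, rfl⟩ := hgenA b hb
    have hca : Commute (a ^ j) c := (Commute.pow_left (hCn c hc' a haA) j)
    have hwa : Commute a w₀ := hCn w₀ (hWC hw₀W) a haA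
    have haconj : a * v₀ * a⁻¹ = w₀⁻¹ * v₀ := by rw [hw₀, commutatorElement_def]; group
    have hj : ∀ j : ℕ, a ^ j * v₀ * (a ^ j)⁻¹ = (w₀ ^ j)⁻¹ * v₀ := by
      intro j
      induction j with
      | zero => simp
      | succ j ih =>
        have e : a * (w₀ ^ j)⁻¹ = (w₀ ^ j)⁻¹ * a := ((hwa.pow_right j).inv_right).eq
        calc a ^ (j + 1) * v₀ * (a ^ (j + 1))⁻¹ = a * (a ^ j * v₀ * (a ^ j)⁻¹) * a⁻¹ := by
              rw [pow_succ' a j]; group
          _ = (a * (w₀ ^ j)⁻¹) * v₀ * a⁻¹ := by rw [ih]; group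
          _ = (w₀ ^ j)⁻¹ * (a * v₀ * a⁻¹) := by rw [e]; group
          _ = (w₀ ^ (j + 1))⁻¹ * v₀ := by rw [haconj, pow_succ' w₀ j, mul_inv_rev]; group
    have hwv : Commute v₀ ((w₀ ^ j)⁻¹) :=
      ((show Commute v₀ w₀ from hcomm v₀ hv₀ w₀ (hWV hw₀W)).pow_right j).inv_right
    have hI : a ^ j * v₀ ^ i * (a ^ j)⁻¹ = ((w₀ ^ j)⁻¹) ^ i * v₀ ^ i := by
      rw [← conj_pow, hj, hwv.symm.mul_pow]
    have e : ⁅v₀ ^ i * c, a ^ j⁆ = (w₀ ^ j) ^ i := by
      calc ⁅v₀ ^ i * c, a ^ j⁆ = v₀ ^ i * (c * a ^ j) * c⁻¹ * (v₀ ^ i)⁻¹ * (a ^ j)⁻¹ := by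
            rw [commutatorElement_def]; group
        _ = v₀ ^ i * (a ^ j * v₀ ^ i * (a ^ j)⁻¹)⁻¹ := by rw [← hca.eq]; group
        _ = v₀ ^ i * ((v₀ ^ i)⁻¹ * (((w₀ ^ j)⁻¹) ^ i)⁻¹) := by rw [hI, mul_inv_rev]
        _ = (w₀ ^ j) ^ i := by rw [inv_pow, inv_inv, mul_inv_cancel_left]
    rw [e]
    exact pow_mem (pow_mem (Subgroup.mem_zpowers w₀) j) i
  have hWeq : W = Subgroup.zpowers w₀ := le_antisymm hWle (Subgroup.zpowers_le.mpr hw₀W)
  rw [hWeq, Nat.card_zpowers]
  refine orderOf_eq_prime (hV.2 w₀ (hWV hw₀W)) fun h => hAV ?_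
  rw [hWeq, h, Subgroup.zpowers_one_eq_bot]

end Cfsg.Agent.S0611
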