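import Cfsg.Statements.S0612
import Cfsg.Agent.Lib.FusionControl.CoprimeOffender

set_option autoImplicit false
open Cfsg

namespace Cfsg.Agent.S0612

/-- In such a faithful group every nontrivial best offender decomposes as a direct product of minimal nontrivially-acting best offenders. -/
theorem result {G : Type*} [Group G] [Finite G] {p : ℕ} [Fact p.Prime] (V H : Subgroup G) (hV : Cfsg.IsElementaryAbelian p V) (hHV : H ≤ Subgroup.normalizer (V : Set G)) (hf : H ⊓ Subgroup.centralizer (V : Set G) = ⊥) (hS1 : Subgroup.centralizer (Cfsg.pPrimeCore p ↥H : Set ↥H) ≤ Cfsg.pPrimeCore p ↥H) (hS3 : H = ⨆ A : {A : Subgroup G // A ≤ H ∧ Cfsg.IsBestOffenderOn p V A}, (A : Subgroup G)) (hH1 : H ≠ ⊥) (A : Subgroup G) (hAH : A ≤ H) (hA : Cfsg.IsBestOffenderOn p V A) (hA1 : A ≠ ⊥) : ∃ (k : ℕ) (B : Fin k → Subgroup G), (∀ i, B i ≤ A ∧ Cfsg.IsBestOffenderOn p V (B i) ∧ ⁅V, B i⁆ ≠ ⊥ ∧ ∀ C : Subgroup G, C ≤ B i → Cfsg.IsBestOffenderOn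 p V C → ⁅V, C⁆ ≠ ⊥ → C = B i) ∧ iSupIndep B ∧ ⨆ i, B i = A := by
  classical
  open Cfsg.Agent.Lib.FusionControl.CoprimeOffender in
  have hc : Ctx p V H := ⟨hV, hHV, hf, hS1⟩
  have hAe := hc.isElementaryAbelian hAH hA.2.1 hA.2.2
  obtain ⟨k, B, hB, hind, hsup⟩ := hc.decomp hAH hAe (hc.fv_eq hAH hA)
  refine ⟨k, B, fun i => ?_, hind, hsup⟩
  obtain ⟨hle, hcard, hf'⟩ := hB i
  refine ⟨hle, hc.best_of_fv (hle.trans hAH)
    (Cfsg.Agent.Lib.FusionControl.CoprimeOffender.isElementaryAbelian_le hAe hle) hf', fun h => ?_, ?_⟩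
  · have := (hc.commutator_eq_bot (hle.trans hAH)).mp h
    rw [this, Subgroup.card_bot] at hcard
    exact (Fact.out : p.Prime).ne_one hcard.symm
  · intro C hCB _ hCne
    have hd := Subgroup.card_dvd_of_le hCB
    rw [hcard] at hd
    rcases (Nat.dvd_prime (Fact.out : p.Prime)).mp hd with h | h
    · exact absurd (by rw [Subgroup.card_eq_one.mp h, Subgroup.commutator_bot_right]) hCne
    · exact Subgroup.eq_of_le_of_card_ge hCB (by rw [h, hcard])

end Cfsg.Agent.S0612
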