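import Cfsg.Statements.S0614
import Cfsg.Agent.Lib.FusionControl.OffenderSL2

set_option autoImplicit false
open Cfsg

namespace Cfsg.Agent.S0614

theorem card_two : Nat.card (Matrix.SpecialLinearGroup (Fin 2) (ZMod 2)) = 6 := by
  rw [Nat.card_eq_fintype_card]; decide +kernel

theorem card_three : Nat.card (Matrix.SpecialLinearGroup (Fin 2) (ZMod 3)) = 24 := by
  rw [Nat.card_eq_fintype_card]; decide +kernel

def qi : Matrix.SpecialLinearGroup (Fin 2) (ZMod 3) := ⟨!![0, 1; -1, 0], by decide⟩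

def qj : Matrix.SpecialLinearGroup (Fin 2) (ZMod 3) := ⟨!![1, 1; 1, -1], by decide⟩

theorem qi_pow : qi ^ 4 = 1 := by decide +kernel

theorem qj_pow : qj ^ 4 = 1 := by decide +kernel

theorem qij : qi * qj ≠ qj * qi := by decide +kernel

/-- The commutator of the p'-core with a minimal nontrivially-acting best offender is a 3-group (when p = 2) or a non-abelian 2-group (when p = 3). -/
theorem result {G : Type*} [Group G] [Finite G] {p : ℕ} [Fact p.Prime] (V H : Subgroup G) (hV : Cfsg.IsElementaryAbelian p V) (hHV : H ≤ Subgroup.normalizer (V : Set G)) (hf : H ⊓ Subgroup.centralizer (V : Set G) = ⊥) (hS1 : Subgroup.centralizer (Cfsg.pPrimeCore p ↥H : Set ↥H) ≤ Cfsg.pPrimeCore p ↥H) (hS3 : H = ⨆ A : {A : Subgroup G // A ≤ H ∧ Cfsg.IsBestOffenderOn p V A}, (A : Subgroup G)) (hH1 : H ≠ ⊥) (A : Subgroup G) (hAH : A ≤ H) (hA : Cfsg.IsBestOffenderOn p V A) (hAV : ⁅V, A⁆ ≠ ⊥) (hmin : ∀ B : Subgroup G, B ≤ A → Cfsg.IsBestOffenderOn p V B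 → ⁅V, B⁆ ≠ ⊥ → B = A) : (p = 2 ∧ IsPGroup 3 ↥(⁅((Cfsg.pPrimeCore p ↥H).map H.subtype), A⁆)) ∨ (p = 3 ∧ IsPGroup 2 ↥(⁅((Cfsg.pPrimeCore p ↥H).map H.subtype), A⁆) ∧ ¬ IsMulCommutative ↥(⁅((Cfsg.pPrimeCore p ↥H).map H.subtype), A⁆)) := by
  classical
  open Cfsg.Agent.Lib.FusionControl.CoprimeOffender in
  have hc : Ctx p V H := ⟨hV, hHV, hf, hS1⟩
  have hX := hc.tv_of_min hAH hA hAV hmin
  obtain ⟨⟨e⟩, -⟩ := hc.ex_facts hX (hc.gen_tv hS3)
  have hE := hc.ex_eq_commutator hX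
  set K := (Cfsg.pPrimeCore p ↥H).map H.subtype with hK
  set Q := ⁅K, A⁆ with hQ
  change Q ⊔ A = _ at hE
  set E := Cfsg.Agent.Lib.FusionControl.CoprimeOffender.EX p H A with hEdef
  have hKn : H ≤ Subgroup.normalizer (K : Set G) :=
    Subgroup.le_normalizer.trans (Cfsg.Agent.Lib.Cores.normalizer_le_normalizer_map_subtype H _)
  have hQK : Q ≤ K := Subgroup.le_normalizer_iff_commutator_le_left.mp (hAH.trans hKn)
  have hAQ : A ≤ Subgroup.normalizer (Q : Set G) := Subgroup.normalizer_commutator_ge_right K A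
  have hdisj : A ⊓ Q = ⊥ := le_bot_iff.mp fun x hx => Subgroup.mem_bot.mpr
    (hc.eq_one_of_K0 (hQK hx.2) (hX.elem.2 x hx.1))
  have hcard : Nat.card ↥E = p * Nat.card Q := by
    rw [← hE, sup_comm, show p * Nat.card Q = Nat.card (↥A × ↥Q) by rw [Nat.card_prod, hX.card]]
    refine (Nat.card_congr (Equiv.ofBijective
      (fun q : ↥A × ↥Q => (⟨q.1 * q.2, Subgroup.mul_mem_sup q.1.2 q.2.2⟩ : ↥(A ⊔ Q))) ⟨?_, ?_⟩)).symm
    · intro q q' h
      exact Subgroup.mul_injective_of_disjoint (disjoint_iff.mpr hdisj) (congrArg Subtype.val h)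
    · intro x
      have hx : (x : G) ∈ (↑(A ⊔ Q) : Set G) := x.2
      rw [Subgroup.coe_mul_of_left_le_normalizer_right A Q hAQ] at hx
      obtain ⟨a, ha, q, hq, h⟩ := hx
      exact ⟨(⟨a, ha⟩, ⟨q, hq⟩), Subtype.ext h⟩
  rw [Nat.card_congr e.toEquiv] at hcard
  rcases hc.prime_le_three hX with rfl | rfl
  · refine Or.inl ⟨rfl, IsPGroup.of_card (n := 1) ?_⟩
    rw [card_two] at hcard
    show Nat.card ↥Q = 3 ^ 1
    omega
  · rw [card_three] at hcard
    have hQ8 : Nat.card ↥Q = 2 ^ 3 := by omega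
    refine Or.inr ⟨rfl, IsPGroup.of_card hQ8, fun hcomm => ?_⟩
    have hQE : Q ≤ E := hE ▸ le_sup_left
    set Q' : Subgroup ↥E := Q.subgroupOf E with hQ'
    have : Q'.Normal := by
      rw [hQ', Subgroup.normal_subgroupOf_iff_le_normalizer hQE, ← hE]
      exact sup_le Subgroup.le_normalizer hAQ
    have hidx : Q'.index = 3 := by
      have h1 := Q'.card_mul_index
      rw [Nat.card_congr (Subgroup.subgroupOfEquivOfLe hQE).toEquiv, hQ8,
        Nat.card_congr e.toEquiv, card_three] at h1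
      omega
    have hmem : ∀ g : Matrix.SpecialLinearGroup (Fin 2) (ZMod 3), g ^ 4 = 1 → (e.symm g : G) ∈ Q := by
      intro g hg
      have h4 : (e.symm g) ^ 4 = 1 := by rw [← map_pow, hg, map_one]
      have : e.symm g ∈ Q' := by
        rw [← QuotientGroup.eq_one_iff, ← orderOf_eq_one_iff]
        refine Nat.eq_one_of_dvd_coprimes (a := 4) (b := 3) (by norm_num) ?_ ?_
        · refine (orderOf_map_dvd (QuotientGroup.mk' Q') _).trans ?_
          exact orderOf_dvd_of_pow_eq_one h4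
        · exact (orderOf_dvd_natCard _).trans (dvd_of_eq hidx)
      exact this
    have hi := hmem qi qi_pow
    have hj := hmem qj qj_pow
    have hij := congrArg Subtype.val (hcomm.is_comm.comm (⟨_, hi⟩ : ↥Q) ⟨_, hj⟩)
    have h2 : e.symm qi * e.symm qj = e.symm qj * e.symm qi := Subtype.ext hij
    rw [← map_mul, ← map_mul] at h2
    exact qij (e.symm.injective h2)

end Cfsg.Agent.S0614
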