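import Cfsg.Statements.S0615
import Cfsg.Agent.Lib.Cores
import Cfsg.Agent.Lib.LocalEven.FStarAction
import Mathlib.GroupTheory.IsSubnormal

set_option autoImplicit false
open Cfsg

namespace Cfsg.Agent.S0615

open scoped commutatorElement

universe u

variable {G : Type u} [Group G] [Finite G] {p : ℕ} [Fact p.Prime] {V : Subgroup G}

/-- conjugate subgroup -/
def cg (x : G) (A : Subgroup G) : Subgroup G := A.map (MulAut.conj x).toMonoidHom

/-- hypotheses on one factor -/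
structure Gd (p : ℕ) (V A : Subgroup G) : Prop where
  norm : A ≤ Subgroup.normalizer (V : Set G)
  faith : A ⊓ Subgroup.centralizer (V : Set G) = ⊥
  core : Cfsg.pCore p ↥A = ⊥
  two : 2 < Nat.card A
  irr : ∀ U : Subgroup G, U ≤ ⁅V, A⁆ → A ≤ Subgroup.normalizer (U : Set G) → U = ⊥ ∨ U = ⁅V, A⁆

omit [Finite G] [Fact p.Prime] in
theorem W_le {A : Subgroup G} (h : A ≤ Subgroup.normalizer (V : Set G)) : ⁅V, A⁆ ≤ V :=
  Subgroup.le_normalizer_iff_commutator_le_left.mp h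

theorem normalizer_commutator_ge {A B : Subgroup G} {x : G} (hA : x ∈ Subgroup.normalizer (A : Set G))
    (hB : x ∈ Subgroup.normalizer (B : Set G)) : x ∈ Subgroup.normalizer ((⁅A, B⁆ : Subgroup G) : Set G) := by
  refine Subgroup.mem_normalizer_iff_map_conj_eq.mpr ?_
  rw [Subgroup.map_commutator, Subgroup.mem_normalizer_iff_map_conj_eq.mp hA,
    Subgroup.mem_normalizer_iff_map_conj_eq.mp hB]

theorem Gd.not_quad (hV : Cfsg.IsElementaryAbelian p V) {A : Subgroup G} (h : Gd p V A)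
    (hq : ⁅V, A⁆ ≤ Subgroup.centralizer (A : Set G)) : False := by
  have hp : IsPGroup p A := by
    intro e
    refine ⟨1, Subtype.ext (Subgroup.mem_bot.mp (h.faith ▸ ⟨(e ^ p ^ 1).2, ?_⟩))⟩
    refine Subgroup.mem_centralizer_iff.mpr fun v hv => ?_
    have hcV : ⁅(e : G), v⁆ ∈ ⁅V, A⁆ := by
      rw [← commutatorElement_inv v (e : G)]
      exact inv_mem (Subgroup.commutator_mem_commutator hv e.2)
    have hfix : Commute (e : G) ⁅(e : G), v⁆ := Subgroup.mem_centralizer_iff.mp (hq hcV) e e.2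
    have key : ∀ n : ℕ, (e : G) ^ n * v * ((e : G) ^ n)⁻¹ = ⁅(e : G), v⁆ ^ n * v := by
      intro n
      induction n with
      | zero => simp
      | succ n ih =>
        calc (e : G) ^ (n + 1) * v * ((e : G) ^ (n + 1))⁻¹
            = (e : G) * ((e : G) ^ n * v * ((e : G) ^ n)⁻¹) * (e : G)⁻¹ := by rw [pow_succ' (e : G) n]; group
          _ = ((e : G) * ⁅(e : G), v⁆ ^ n) * v * (e : G)⁻¹ := by rw [ih]; group
          _ = ⁅(e : G), v⁆ ^ n * ((e : G) * v * (e : G)⁻¹ * v⁻¹) * v := by rw [(hfix.pow_right n).eq]; group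
          _ = ⁅(e : G), v⁆ ^ (n + 1) * v := by rw [pow_succ, commutatorElement_def]
    have h1 := key p
    rw [hV.2 _ (W_le h.norm hcV), one_mul, mul_inv_eq_iff_eq_mul] at h1
    rw [SubmonoidClass.coe_pow, pow_one]
    exact h1.symm
  have h1 : (⊤ : Subgroup ↥A) = ⊥ := (Cfsg.Agent.Lib.Cores.pCore_eq_top_iff.mpr hp).symm.trans h.core
  have h2 := h.two
  rw [← Subgroup.card_top (G := ↥A), h1, Subgroup.card_bot] at h2
  omega

theorem Gd.fix_eq_bot (hV : Cfsg.IsElementaryAbelian p V) {A : Subgroup G} (h : Gd p V A) :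
    ⁅V, A⁆ ⊓ Subgroup.centralizer (A : Set G) = ⊥ := by
  refine (h.irr _ inf_le_left fun a ha => ?_).resolve_right fun e => h.not_quad hV (inf_eq_left.mp e)
  rw [Subgroup.mem_normalizer_iff]
  intro y
  constructor
  · intro hy
    have e : a * y = y * a := Subgroup.mem_centralizer_iff.mp hy.2 a ha
    rwa [e, mul_inv_cancel_right]
  · intro hy
    have e : a * (a * y * a⁻¹) = (a * y * a⁻¹) * a := Subgroup.mem_centralizer_iff.mp hy.2 a ha
    have e2 : a * y * a⁻¹ = y := by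
      calc a * y * a⁻¹ = a⁻¹ * (a * (a * y * a⁻¹)) := by group
        _ = a⁻¹ * ((a * y * a⁻¹) * a) := by rw [e]
        _ = y := by group
    rwa [e2] at hy

theorem W_cg {A : Subgroup G} {x : G} (hx : x ∈ Subgroup.normalizer (V : Set G)) :
    ⁅V, cg x A⁆ = cg x ⁅V, A⁆ := by
  unfold cg
  rw [Subgroup.map_commutator,
    show Subgroup.map (MulAut.conj x).toMonoidHom V = V from Subgroup.mem_normalizer_iff_map_conj_eq.mp hx]

theorem Gd.conj {A : Subgroup G} (h : Gd p V A) {x : G} (hx : x ∈ Subgroup.normalizer (V : Set G)) :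
    Gd p V (cg x A) := by
  have hinj := (MulAut.conj x).injective
  refine ⟨?_, le_bot_iff.mp ?_, ?_, ?_, fun U hU hUn => ?_⟩
  · rintro _ ⟨a, ha, rfl⟩
    exact mul_mem (mul_mem hx (h.norm ha)) (inv_mem hx)
  · rintro _ ⟨⟨a, ha, rfl⟩, hc⟩
    have : a ∈ A ⊓ Subgroup.centralizer (V : Set G) := ⟨ha, Subgroup.mem_centralizer_iff.mpr fun v hv => by
      have e : x * v * x⁻¹ * (x * a * x⁻¹) = x * a * x⁻¹ * (x * v * x⁻¹) :=
        Subgroup.mem_centralizer_iff.mp hc _ ((Subgroup.mem_normalizer_iff.mp hx v).mp hv)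
      calc v * a = x⁻¹ * (x * v * x⁻¹ * (x * a * x⁻¹)) * x := by group
        _ = a * v := by rw [e]; group⟩
    rw [h.faith, Subgroup.mem_bot] at this
    rw [this, map_one]
    exact one_mem _
  · unfold cg
    rw [← Cfsg.Agent.Lib.Cores.map_pCore_equiv (A.equivMapOfInjective (MulAut.conj x).toMonoidHom hinj), h.core,
      Subgroup.map_bot]
  · rw [cg, Subgroup.card_map_of_injective hinj]; exact h.two
  · have hUe : cg x (cg x⁻¹ U) = U := by
      unfold cg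
      rw [Subgroup.map_map]
      convert Subgroup.map_id U using 2
      ext y; simp [mul_assoc]
    rw [W_cg hx] at hU ⊢
    have hsub : cg x⁻¹ U ≤ ⁅V, A⁆ := by
      rintro _ ⟨u, hu, rfl⟩
      obtain ⟨w, hw, rfl⟩ := hU hu
      simpa [mul_assoc] using hw
    have hn : A ≤ Subgroup.normalizer (cg x⁻¹ U : Set G) := by
      intro a ha
      refine Subgroup.mem_normalizer_iff_map_conj_eq.mpr (Subgroup.eq_of_le_of_card_ge ?_ (le_of_eq ?_))
      · rintro _ ⟨_, ⟨u, hu, rfl⟩, rfl⟩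
        refine ⟨_, (Subgroup.mem_normalizer_iff.mp (hUn ⟨a, ha, rfl⟩) u).mp hu, ?_⟩
        simp [mul_assoc]
      · exact Nat.card_congr ((cg x⁻¹ U).equivMapOfInjective _ (MulAut.conj a).injective).toEquiv
    rcases h.irr _ hsub hn with e | e
    · left; rw [← hUe, e]; exact Subgroup.map_bot _
    · right; rw [← hUe, e]

/-- the conclusions for a pair -/
def Facts (V A B : Subgroup G) : Prop :=
  ⁅A, B⁆ = ⊥ ∧ ⁅V, A⁆ ⊓ ⁅V, B⁆ = ⊥ ∧ A ⊓ B = ⊥

theorem Facts.cent {A B : Subgroup G} (hA : A ≤ Subgroup.normalizer (V : Set G))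
    (hB : B ≤ Subgroup.normalizer (V : Set G))
    (h : Facts V A B) : ⁅V, B⁆ ≤ Subgroup.centralizer (A : Set G) := by
  rw [← Subgroup.commutator_eq_bot_iff_le_centralizer, eq_bot_iff, ← h.2.1]
  refine le_inf (Subgroup.commutator_mono (W_le hB) le_rfl) ?_
  refine Subgroup.le_normalizer_iff_commutator_le_left.mp fun a ha => normalizer_commutator_ge (hA ha) ?_
  exact Subgroup.centralizer_le_normalizer _ (Subgroup.commutator_eq_bot_iff_le_centralizer.mp h.1 ha)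

/-- If `e ∈ B` moves `[V, A]`, contradiction. -/
theorem false_of_move (hV : Cfsg.IsElementaryAbelian p V) {A B : Subgroup G} (hA : Gd p V A) (hB : Gd p V B)
    (hne : ¬ ⁅V, A⁆ ≤ ⁅V, B⁆) {e : G} (he : e ∈ B) (hmove : cg e ⁅V, A⁆ ≠ ⁅V, A⁆)
    (ihA : ∀ x ∈ B, cg x ⁅V, A⁆ ≠ ⁅V, A⁆ → Facts V A (cg x A))
    (ihB : ∀ x ∈ A, cg x ⁅V, B⁆ ≠ ⁅V, B⁆ → Facts V B (cg x B)) : False := by
  classical
  set U := ⁅V, A⁆ with hU
  set W := ⁅V, B⁆ with hW
  have heV := hB.norm he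
  have hF := ihA e he hmove
  have hUU : U ⊓ cg e U = ⊥ := by rw [hU, ← W_cg heV]; exact hF.2.1
  have hUV : U ≤ V := W_le hA.norm
  have hWV : W ≤ V := W_le hB.norm
  have cV : ∀ {y z : G}, y ∈ V → z ∈ V → Commute y z := fun hy hz => by
    have := hV.1.is_comm.comm ⟨_, hy⟩ ⟨_, hz⟩
    exact congrArg Subtype.val this
  have hAe : ∀ a ∈ A, ∀ w ∈ cg e U, a * w = w * a := by
    intro a ha w hw
    rw [hU, ← W_cg heV] at hw
    exact Subgroup.mem_centralizer_iff.mp (hF.cent hA.norm (hA.conj heV).norm hw) a ha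
  have hf : ∀ u ∈ U, u⁻¹ * (e * u * e⁻¹) ∈ W := by
    intro u hu
    have h1 : ⁅u⁻¹, e⁆ ∈ W := Subgroup.commutator_mem_commutator (inv_mem (hUV hu)) he
    rwa [commutatorElement_def, inv_inv, show u⁻¹ * e * u * e⁻¹ = u⁻¹ * (e * u * e⁻¹) by group] at h1
  have hmem' : ∀ u ∈ U, e * u * e⁻¹ ∈ cg e U := fun u hu => ⟨u, hu, rfl⟩
  have hconjf : ∀ a ∈ A, ∀ u ∈ U, (a * u * a⁻¹)⁻¹ * (e * u * e⁻¹) ∈ cg a W := by
    intro a ha u hu
    refine ⟨_, hf u hu, ?_⟩
    have c := hAe a ha _ (hmem' u hu)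
    show a * (u⁻¹ * (e * u * e⁻¹)) * a⁻¹ = _
    calc a * (u⁻¹ * (e * u * e⁻¹)) * a⁻¹ = a * u⁻¹ * a⁻¹ * (a * (e * u * e⁻¹)) * a⁻¹ := by group
      _ = a * u⁻¹ * a⁻¹ * ((e * u * e⁻¹) * a) * a⁻¹ := by rw [c]
      _ = _ := by group
  -- stabilisers act trivially when `U ⊓ W = ⊥`
  have hstab : U ⊓ W = ⊥ → ∀ a ∈ A, cg a W = W → ∀ u ∈ U, a * u * a⁻¹ = u := by
    intro h0 a ha haW u hu
    have h1 := hconjf a ha u hu
    rw [haW] at h1
    have h2 := mul_mem h1 (inv_mem (hf u hu))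
    have h3 : (a * u * a⁻¹)⁻¹ * u ∈ U :=
      mul_mem (inv_mem ((Subgroup.mem_normalizer_iff.mp (Subgroup.normalizer_commutator_ge_right V A ha) u).mp hu)) hu
    rw [show (a * u * a⁻¹)⁻¹ * (e * u * e⁻¹) * (u⁻¹ * (e * u * e⁻¹))⁻¹ = (a * u * a⁻¹)⁻¹ * u by group] at h2
    have h4 : (a * u * a⁻¹)⁻¹ * u ∈ U ⊓ W := ⟨h3, h2⟩
    rw [h0, Subgroup.mem_bot, inv_mul_eq_one] at h4
    exact h4
  by_cases hfix : ∀ a ∈ A, cg a W = W
  · have h0 : U ⊓ W = ⊥ := (hA.irr _ inf_le_left fun a ha => by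
      refine Subgroup.mem_normalizer_iff_map_conj_eq.mpr ?_
      rw [Subgroup.map_inf _ _ _ (MulAut.conj a).injective,
        Subgroup.mem_normalizer_iff_map_conj_eq.mp (Subgroup.normalizer_commutator_ge_right V A ha)]
      rw [show Subgroup.map (↑(MulAut.conj a)) W = W from hfix a ha]).resolve_right
        fun h => hne (inf_eq_left.mp h)
    refine hA.not_quad hV fun u hu => Subgroup.mem_centralizer_iff.mpr fun a ha => ?_
    exact mul_inv_eq_iff_eq_mul.mp (hstab h0 a ha (hfix a ha) u hu)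
  push_neg at hfix
  obtain ⟨a₀, ha₀, ha₀W⟩ := hfix
  have ha₀V := hA.norm ha₀
  have h0 : U ⊓ W = ⊥ := le_bot_iff.mp fun w hw => by
    have h1 : e * w * e⁻¹ ∈ W :=
      (Subgroup.mem_normalizer_iff.mp (Subgroup.normalizer_commutator_ge_right V B he) w).mp hw.2
    have hB' := (ihB a₀ ha₀ ha₀W).2.1
    rw [W_cg ha₀V] at hB'
    have h2 : e * w * e⁻¹ ∈ W ⊓ cg a₀ W := ⟨h1, e * w * e⁻¹, h1, by
      show a₀ * (e * w * e⁻¹) * a₀⁻¹ = e * w * e⁻¹
      rw [hAe a₀ ha₀ _ (hmem' w hw.1), mul_inv_cancel_right]⟩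
    rw [hB', Subgroup.mem_bot, conj_eq_one_iff] at h2
    rw [h2]
    exact one_mem _
  have htriv : ∀ a ∈ A, cg a W = W → ∀ u ∈ U, a * u * a⁻¹ = u := hstab h0
  -- `a` acting trivially on `U` fixes `W`
  have hmv : ∀ a ∈ A, a ≠ 1 → cg a W ≠ W := by
    intro a ha ha1 haW
    have h1 : ∀ u ∈ U, a * u * a⁻¹ = u := htriv a ha haW
    -- then `a` centralises `U`, and the subgroup fixing `U` is normalised by `A`
    refine ha1 (Subgroup.mem_bot.mp (hA.faith ▸ ⟨ha, Subgroup.mem_centralizer_iff.mpr fun v hv => ?_⟩))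
    have hav : ⁅a, v⁆ ∈ U := by
      rw [hU, ← commutatorElement_inv v a]
      exact inv_mem (Subgroup.commutator_mem_commutator hv ha)
    -- `a` has order dividing `p`, and generates a normal `p`-subgroup of `A`
    have hK : (Subgroup.centralizer (U : Set G) ⊓ A).subgroupOf A ≤ Cfsg.pCore p ↥A := by
      have hUn : A ≤ Subgroup.normalizer (U : Set G) := Subgroup.normalizer_commutator_ge_right V A
      refine Cfsg.Agent.Lib.Cores.le_pCore ⟨fun x hx g => ⟨?_, (g * x * g⁻¹).2⟩⟩ ?_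
      · refine Subgroup.mem_centralizer_iff.mpr fun u hu => ?_
        have hu' : (g : G)⁻¹ * u * g ∈ U := (Subgroup.mem_normalizer_iff''.mp (hUn g.2) u).mp hu
        have e : ((g : G)⁻¹ * u * g) * (x : G) = (x : G) * ((g : G)⁻¹ * u * g) :=
          Subgroup.mem_centralizer_iff.mp hx.1 _ hu'
        show u * ((g : G) * x * (g : G)⁻¹) = (g : G) * x * (g : G)⁻¹ * u
        calc u * ((g : G) * x * (g : G)⁻¹) = (g : G) * (((g : G)⁻¹ * u * g) * x) * (g : G)⁻¹ := by group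
          _ = (g : G) * ((x : G) * ((g : G)⁻¹ * u * g)) * (g : G)⁻¹ := by rw [e]
          _ = _ := by group
      · intro x
        refine ⟨1, Subtype.ext (Subtype.ext (Subgroup.mem_bot.mp (hA.faith ▸ ⟨((x : ↥A) ^ p ^ 1).2, ?_⟩)))⟩
        refine Subgroup.mem_centralizer_iff.mpr fun v hv => ?_
        set y : G := ((x : ↥A) : G) with hy
        have hyv : ⁅y, v⁆ ∈ U := by
          rw [hU, ← commutatorElement_inv v y]
          exact inv_mem (Subgroup.commutator_mem_commutator hv (x : ↥A).2)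
        have hfix : Commute y ⁅y, v⁆ := (Subgroup.mem_centralizer_iff.mp x.2.1 _ hyv).symm
        have key : ∀ n : ℕ, y ^ n * v * (y ^ n)⁻¹ = ⁅y, v⁆ ^ n * v := by
          intro n
          induction n with
          | zero => simp
          | succ n ih =>
            calc y ^ (n + 1) * v * (y ^ (n + 1))⁻¹ = y * (y ^ n * v * (y ^ n)⁻¹) * y⁻¹ := by
                  rw [pow_succ' y n]; group
              _ = (y * ⁅y, v⁆ ^ n) * v * y⁻¹ := by rw [ih]; group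
              _ = ⁅y, v⁆ ^ n * (y * v * y⁻¹ * v⁻¹) * v := by rw [(hfix.pow_right n).eq]; group
              _ = ⁅y, v⁆ ^ (n + 1) * v := by rw [pow_succ, commutatorElement_def]
        have k1 := key p
        rw [hV.2 _ (hUV hyv), one_mul, mul_inv_eq_iff_eq_mul] at k1
        simpa using k1.symm
    rw [hA.core] at hK
    have h5 : (⟨a, ha⟩ : ↥A) ∈ (⊥ : Subgroup ↥A) := hK ⟨Subgroup.mem_centralizer_iff.mpr fun u hu =>
      (mul_inv_eq_iff_eq_mul.mp (h1 u hu)).symm, ha⟩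
    rw [Subgroup.mem_bot, Subtype.ext_iff] at h5
    rw [show a = 1 from h5]; simp
  -- two further elements
  obtain ⟨a, b, ha, hb, ha1, hb1, hab⟩ : ∃ a b, a ∈ A ∧ b ∈ A ∧ a ≠ 1 ∧ b ≠ 1 ∧ a ≠ b := by
    obtain ⟨a, ha, ha1⟩ : ∃ a ∈ A, a ≠ 1 := A.bot_or_exists_ne_one.resolve_left fun h => by
      have := hA.two; rw [h, Subgroup.card_bot] at this; omega
    by_contra hno
    push_neg at hno
    have hle : (A : Set G) ⊆ {1, a} := fun x hx => by
      rcases eq_or_ne x 1 with h | h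
      · exact Or.inl h
      · exact Or.inr (hno a x ha hx ha1 h).symm
    have h2 := Set.ncard_le_ncard hle (Set.toFinite _)
    rw [← Nat.card_coe_set_eq] at h2
    have h3 : ({1, a} : Set G).ncard ≤ 2 := by
      rw [Set.ncard_pair (Ne.symm ha1)]
    have := hA.two
    simp only [SetLike.coe_sort_coe] at h2
    omega
  have haV := hA.norm ha
  have hbV := hA.norm hb
  -- `B` centralises the other two blocks
  have hcentB : ∀ c ∈ A, c ≠ 1 → cg c W ≤ Subgroup.centralizer (B : Set G) := by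
    intro c hc hc1
    rw [hW, ← W_cg (hA.norm hc)]
    exact (ihB c hc (hmv c hc hc1)).cent hB.norm (hB.conj (hA.norm hc)).norm
  -- the kernel of `(u, v) ↦ [u, a] [v, b]`
  let Φ : ↥U × ↥U → ↥U := fun q =>
    ⟨(a * q.1 * a⁻¹) * (q.1 : G)⁻¹ * ((b * q.2 * b⁻¹) * (q.2 : G)⁻¹),
      mul_mem (mul_mem ((Subgroup.mem_normalizer_iff.mp (Subgroup.normalizer_commutator_ge_right V A ha) _).mp q.1.2)
        (inv_mem q.1.2))
        (mul_mem ((Subgroup.mem_normalizer_iff.mp (Subgroup.normalizer_commutator_ge_right V A hb) _).mp q.2.2)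
        (inv_mem q.2.2))⟩
  have hkey : ∀ q, Φ q = 1 → (q.1 : G) * q.2 = 1 := by
    rintro ⟨⟨u, hu⟩, ⟨v, hv⟩⟩ hq
    have hq' : a * u * a⁻¹ * u⁻¹ * (b * v * b⁻¹ * v⁻¹) = 1 := congrArg Subtype.val hq
    set w := u * v with hw
    show w = 1
    have hwU : w ∈ U := mul_mem hu hv
    have hua : a * u * a⁻¹ ∈ V := (Subgroup.mem_normalizer_iff.mp haV u).mp (hUV hu)
    have hvb : b * v * b⁻¹ ∈ V := (Subgroup.mem_normalizer_iff.mp hbV v).mp (hUV hv)
    have hu' : e * u * e⁻¹ ∈ V := (Subgroup.mem_normalizer_iff.mp heV u).mp (hUV hu)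
    have hprod : a * u * a⁻¹ * (b * v * b⁻¹) = w := by
      have c1 : Commute u⁻¹ (b * v * b⁻¹) := cV (inv_mem (hUV hu)) hvb
      have : a * u * a⁻¹ * (b * v * b⁻¹) * (u⁻¹ * v⁻¹) = 1 := by
        rw [← hq']
        calc a * u * a⁻¹ * (b * v * b⁻¹) * (u⁻¹ * v⁻¹) = a * u * a⁻¹ * ((b * v * b⁻¹) * u⁻¹) * v⁻¹ := by group
          _ = _ := by rw [← c1.eq]; group
      rw [hw, mul_eq_one_iff_eq_inv] at *
      rw [this, mul_inv_rev, inv_inv, inv_inv]
      exact ((cV (hUV hu) (hUV hv)).eq).symm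
    have hmem : w⁻¹ * (e * w * e⁻¹) ∈ Subgroup.centralizer (B : Set G) := by
      have h1 := mul_mem (hcentB a ha ha1 (hconjf a ha u hu)) (hcentB b hb hb1 (hconjf b hb v hv))
      convert h1 using 1
      rw [← hprod]
      have c2 : Commute (e * u * e⁻¹) (b * v * b⁻¹)⁻¹ := (cV hu' hvb).inv_right
      have c3 : Commute (a * u * a⁻¹)⁻¹ (b * v * b⁻¹)⁻¹ := ((cV hua hvb).inv_left).inv_right
      calc (a * u * a⁻¹ * (b * v * b⁻¹))⁻¹ * (e * (a * u * a⁻¹ * (b * v * b⁻¹)) * e⁻¹)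
          = (a * u * a⁻¹)⁻¹ * (b * v * b⁻¹)⁻¹ * ((e * u * e⁻¹) * (e * v * e⁻¹)) := by
            rw [mul_inv_rev, ← c3.eq, hprod, hw]; group
        _ = (a * u * a⁻¹)⁻¹ * ((b * v * b⁻¹)⁻¹ * (e * u * e⁻¹)) * (e * v * e⁻¹) := by group
        _ = _ := by rw [← c2.eq]; group
    have h3 : w⁻¹ * (e * w * e⁻¹) = 1 :=
      Subgroup.mem_bot.mp (hB.fix_eq_bot hV ▸ ⟨hf w hwU, hmem⟩)
    have h4 : w ∈ U ⊓ cg e U := ⟨hwU, by rw [inv_mul_eq_one.mp h3]; exact hmem' w hwU⟩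
    rw [hUU, Subgroup.mem_bot] at h4
    exact h4
  have hΦmul : ∀ q q', Φ (q * q') = Φ q * Φ q' := by
    rintro ⟨⟨u, hu⟩, ⟨v, hv⟩⟩ ⟨⟨u', hu'⟩, ⟨v', hv'⟩⟩
    refine Subtype.ext ?_
    set s : ∀ {c : G} (_ : c ∈ A) {y : G} (_ : y ∈ U), c * y * c⁻¹ ∈ V := fun {c} hc {y} hy =>
      (Subgroup.mem_normalizer_iff.mp (hA.norm hc) y).mp (hUV hy)
    show a * (u * u') * a⁻¹ * (u * u')⁻¹ * (b * (v * v') * b⁻¹ * (v * v')⁻¹) =
      a * u * a⁻¹ * u⁻¹ * (b * v * b⁻¹ * v⁻¹) * (a * u' * a⁻¹ * u'⁻¹ * (b * v' * b⁻¹ * v'⁻¹))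
    have A1 := s ha hu
    have A2 := s ha hu'
    have B1 := s hb hv
    have B2 := s hb hv'
    have e1 : a * (u * u') * a⁻¹ * (u * u')⁻¹ = (a * u * a⁻¹ * u⁻¹) * (a * u' * a⁻¹ * u'⁻¹) := by
      have c : Commute u⁻¹ (a * u' * a⁻¹ * u'⁻¹) := cV (inv_mem (hUV hu)) (mul_mem A2 (inv_mem (hUV hu')))
      calc a * (u * u') * a⁻¹ * (u * u')⁻¹ = a * u * a⁻¹ * ((a * u' * a⁻¹ * u'⁻¹) * u⁻¹) := by group
        _ = _ := by rw [← c.eq]; group
    have e2 : b * (v * v') * b⁻¹ * (v * v')⁻¹ = (b * v * b⁻¹ * v⁻¹) * (b * v' * b⁻¹ * v'⁻¹) := by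
      have c : Commute v⁻¹ (b * v' * b⁻¹ * v'⁻¹) := cV (inv_mem (hUV hv)) (mul_mem B2 (inv_mem (hUV hv')))
      calc b * (v * v') * b⁻¹ * (v * v')⁻¹ = b * v * b⁻¹ * ((b * v' * b⁻¹ * v'⁻¹) * v⁻¹) := by group
        _ = _ := by rw [← c.eq]; group
    rw [e1, e2]
    exact Commute.mul_mul_mul_comm (cV (mul_mem A2 (inv_mem (hUV hu'))) (mul_mem B1 (inv_mem (hUV hv)))) _ _
  let φ : ↥U × ↥U →* ↥U := MonoidHom.mk' Φ hΦmul
  -- the kernel is the whole antidiagonal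
  have hanti : ∀ u : ↥U, Φ (u, u⁻¹) = 1 := by
    have hker : Nat.card ↥U ≤ Nat.card φ.ker := by
      have h1 := Subgroup.card_mul_index φ.ker
      rw [Nat.card_prod, Subgroup.index_ker] at h1
      have h2 : Nat.card ↥φ.range ≤ Nat.card ↥U := Subgroup.card_le_card_group _
      refine Nat.le_of_mul_le_mul_right ?_ (Nat.card_pos (α := ↥U))
      rw [← h1]
      exact Nat.mul_le_mul_left _ h2
    intro u
    have hfst : Function.Injective (fun q : ↥φ.ker => q.1.1) := by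
      intro q q' h
      have h1 := hkey q.1 q.2
      have h2 := hkey q'.1 q'.2
      refine Subtype.ext (Prod.ext h (Subtype.ext ?_))
      rw [show q.1.1 = q'.1.1 from h] at h1
      exact mul_left_cancel (h1.trans h2.symm)
    have hcard : Nat.card φ.ker = Nat.card ↥U := le_antisymm (Nat.card_le_card_of_injective _ hfst) hker
    obtain ⟨q, hq⟩ := ((Nat.bijective_iff_injective_and_card _).mpr ⟨hfst, hcard⟩).2 u
    have h1 := hkey q.1 q.2
    simp only at hq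
    rw [hq] at h1
    have h2 : q.1 = (u, u⁻¹) := Prod.ext hq (Subtype.ext (eq_inv_of_mul_eq_one_right h1))
    rw [← h2]
    exact q.2
  -- so `b⁻¹ a` is trivial on `U`
  refine hmv (b⁻¹ * a) (mul_mem (inv_mem hb) ha) (fun h => hab (inv_mul_eq_one.mp h).symm) ?_
  have hc : ∀ u ∈ U, b⁻¹ * a * u * (b⁻¹ * a)⁻¹ = u := by
    intro u hu
    have h1 := congrArg Subtype.val (hanti ⟨u, hu⟩)
    change a * u * a⁻¹ * u⁻¹ * (b * u⁻¹ * b⁻¹ * u⁻¹⁻¹) = 1 at h1
    have hb' : b * u * b⁻¹ ∈ V := (Subgroup.mem_normalizer_iff.mp hbV u).mp (hUV hu)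
    have c : Commute u⁻¹ (b * u⁻¹ * b⁻¹) := cV (inv_mem (hUV hu))
      (by have := inv_mem hb'; simpa [mul_assoc] using this)
    have h2 : a * u * a⁻¹ * (b * u⁻¹ * b⁻¹) = 1 := by
      calc a * u * a⁻¹ * (b * u⁻¹ * b⁻¹) = a * u * a⁻¹ * ((b * u⁻¹ * b⁻¹) * u⁻¹) * u := by group
        _ = a * u * a⁻¹ * u⁻¹ * (b * u⁻¹ * b⁻¹ * u⁻¹⁻¹) := by rw [← c.eq]; group
        _ = 1 := h1
    have h3 : a * u * a⁻¹ = b * u * b⁻¹ := by
      rw [mul_eq_one_iff_eq_inv] at h2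
      rw [h2]; group
    calc b⁻¹ * a * u * (b⁻¹ * a)⁻¹ = b⁻¹ * (a * u * a⁻¹) * b := by group
      _ = u := by rw [h3]; group
  -- then it fixes the elements `u⁻¹ uᵉ` of `W`
  by_contra hmvd
  have hWW := (ihB _ (mul_mem (inv_mem hb) ha) hmvd).2.1
  rw [W_cg (hA.norm (mul_mem (inv_mem hb) ha))] at hWW
  refine hmove (le_antisymm ?_ ?_) <;> intro y hy
  · obtain ⟨u, hu, rfl⟩ := hy
    have h1 := hconjf _ (mul_mem (inv_mem hb) ha) u hu
    rw [hc u hu] at h1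
    have h2 : u⁻¹ * (e * u * e⁻¹) = 1 := Subgroup.mem_bot.mp (hWW ▸ ⟨hf u hu, h1⟩)
    show e * u * e⁻¹ ∈ U
    rw [← inv_mul_eq_one.mp h2]; exact hu
  · have h1 := hconjf _ (mul_mem (inv_mem hb) ha) y hy
    rw [hc y hy] at h1
    have h2 : y⁻¹ * (e * y * e⁻¹) = 1 := Subgroup.mem_bot.mp (hWW ▸ ⟨hf y hy, h1⟩)
    rw [inv_mul_eq_one.mp h2]
    exact hmem' y hy

theorem main (hV : Cfsg.IsElementaryAbelian p V) : ∀ (n : ℕ) (A B : Subgroup G), Nat.card ↥(A ⊔ B) ≤ n →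
    (A.subgroupOf (A ⊔ B)).IsSubnormal → (B.subgroupOf (A ⊔ B)).IsSubnormal →
    Gd p V A → Gd p V B → ¬ ⁅V, A⁆ ≤ ⁅V, B⁆ → ¬ ⁅V, B⁆ ≤ ⁅V, A⁆ →
    (A ⊔ B) ⊓ Subgroup.centralizer (V : Set G) = ⊥ → Facts V A B := by
  intro n
  induction n with
  | zero => intro A B h; have := Nat.card_pos (α := ↥(A ⊔ B)); omega
  | succ n ih =>
    intro A B hn hsA hsB hA hB hAB hBA hfE
    set E := A ⊔ B with hE
    have hEV : E ≤ Subgroup.normalizer (V : Set G) := sup_le hA.norm hB.norm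
    have key : ∀ {A B : Subgroup G}, A ≤ E → (A.subgroupOf E).IsSubnormal → B ≤ E → Gd p V A →
        ¬ ⁅V, B⁆ ≤ ⁅V, A⁆ → ∀ x ∈ B, cg x ⁅V, A⁆ ≠ ⁅V, A⁆ → Facts V A (cg x A) := by
      intro A B hAE hs hBE hA hne x hx hmv
      have hxE := hBE hx
      rcases hs.lt_normal with htop | ⟨K, hKn, hAK, hK⟩
      · exact absurd (Subgroup.commutator_mono le_rfl (hBE.trans (Subgroup.subgroupOf_eq_top.mp htop))) hne
      have hxV : x ∈ Subgroup.normalizer (V : Set G) := hEV hxE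
      set A' := cg x A with hA'
      have hA'E : A' ≤ E := by
        rintro _ ⟨y, hy, rfl⟩
        exact mul_mem (mul_mem hxE (hAE hy)) (inv_mem hxE)
      have hs' : (A'.subgroupOf E).IsSubnormal := by
        have h := hs.map (f := (MulAut.conj (⟨x, hxE⟩ : ↥E)).toMonoidHom) (MulAut.conj _).surjective
        convert h using 1
        ext y
        constructor
        · rintro ⟨z, hz, e⟩
          exact ⟨⟨z, hAE hz⟩, hz, Subtype.ext e⟩
        · rintro ⟨z, hz, rfl⟩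
          exact ⟨z, hz, rfl⟩
      have hle : A ⊔ A' ≤ K.map E.subtype := by
        refine sup_le (fun y hy => ⟨⟨y, hAE hy⟩, hAK hy, rfl⟩) ?_
        rintro _ ⟨y, hy, rfl⟩
        exact ⟨⟨x, hxE⟩ * ⟨y, hAE hy⟩ * ⟨x, hxE⟩⁻¹, hKn.conj_mem _ (hAK hy) _, rfl⟩
      have hlt : Nat.card ↥(A ⊔ A') < Nat.card ↥E := by
        refine (Subgroup.card_le_of_le hle).trans_lt ?_
        rw [Subgroup.card_map_of_injective E.subtype_injective]
        refine lt_of_le_of_ne (Subgroup.card_le_card_group K) fun h => hK.ne ?_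
        exact Subgroup.eq_top_of_card_eq K h
      have hA'g := hA.conj hxV
      refine ih A A' (by omega) ?_ ?_ hA hA'g ?_ ?_
        (le_bot_iff.mp ((inf_le_inf_right _ (sup_le hAE hA'E)).trans hfE.le))
      · exact hs.comap (Subgroup.inclusion (sup_le hAE hA'E))
      · exact hs'.comap (Subgroup.inclusion (sup_le hAE hA'E))
      all_goals
        intro h
        refine hmv ?_
        rw [hA', W_cg hxV] at h
      · exact (Subgroup.eq_of_le_of_card_ge h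
          (le_of_eq (Subgroup.card_map_of_injective (MulAut.conj x).injective))).symm
      · exact Subgroup.eq_of_le_of_card_ge h
          (le_of_eq (Subgroup.card_map_of_injective (MulAut.conj x).injective).symm)
    have ihA := key le_sup_left hsA le_sup_right hA hBA
    have ihB := key le_sup_right hsB le_sup_left hB hAB
    have nA : ∀ x ∈ B, cg x ⁅V, A⁆ = ⁅V, A⁆ := fun x hx => by
      by_contra h
      exact false_of_move hV hA hB hAB hx h ihA ihB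
    have nB : ∀ x ∈ A, cg x ⁅V, B⁆ = ⁅V, B⁆ := fun x hx => by
      by_contra h
      exact false_of_move hV hB hA hBA hx h ihB ihA
    have h0 : ⁅V, A⁆ ⊓ ⁅V, B⁆ = ⊥ := (hA.irr _ inf_le_left fun a ha => by
      refine Subgroup.mem_normalizer_iff_map_conj_eq.mpr ?_
      rw [Subgroup.map_inf _ _ _ (MulAut.conj a).injective,
        Subgroup.mem_normalizer_iff_map_conj_eq.mp (Subgroup.normalizer_commutator_ge_right V A ha)]
      rw [show Subgroup.map (↑(MulAut.conj a)) ⁅V, B⁆ = ⁅V, B⁆ from nB a ha]).resolve_right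
        fun h => hAB (inf_eq_left.mp h)
    have h1 : ⁅⁅V, A⁆, B⁆ = ⊥ := by
      rw [eq_bot_iff, ← h0]
      exact le_inf (Subgroup.le_normalizer_iff_commutator_le_left.mp
        fun b hb => Subgroup.mem_normalizer_iff_map_conj_eq.mpr (nA b hb))
        (Subgroup.commutator_mono (W_le hA.norm) le_rfl)
    have h2 : ⁅⁅V, B⁆, A⁆ = ⊥ := by
      rw [eq_bot_iff, ← h0]
      exact le_inf (Subgroup.commutator_mono (W_le hB.norm) le_rfl)
        (Subgroup.le_normalizer_iff_commutator_le_left.mp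
          fun a ha => Subgroup.mem_normalizer_iff_map_conj_eq.mpr (nB a ha))
    have h3 : ⁅⁅A, B⁆, V⁆ = ⊥ := Subgroup.commutator_commutator_eq_bot_of_rotate
      (by rw [Subgroup.commutator_comm B V]; exact h2) h1
    have hEV : E ≤ Subgroup.normalizer (V : Set G) := sup_le hA.norm hB.norm
    refine ⟨?_, h0, ?_⟩
    · refine le_bot_iff.mp fun x hx => ?_
      refine hfE.le ⟨?_, Subgroup.commutator_eq_bot_iff_le_centralizer.mp h3 hx⟩
      exact (Subgroup.commutator_le.mpr fun a ha b hb => by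
        rw [commutatorElement_def]
        exact mul_mem (mul_mem (mul_mem (Subgroup.mem_sup_left ha) (Subgroup.mem_sup_right hb))
          (inv_mem (Subgroup.mem_sup_left ha))) (inv_mem (Subgroup.mem_sup_right hb)) : ⁅A, B⁆ ≤ E) hx
    · refine le_bot_iff.mp fun x hx => hA.faith ▸ ⟨hx.1, Subgroup.mem_centralizer_iff.mpr fun v hv => ?_⟩
      have h4 : ⁅v, x⁆ ∈ ⁅V, A⁆ ⊓ ⁅V, B⁆ :=
        ⟨Subgroup.commutator_mem_commutator hv hx.1, Subgroup.commutator_mem_commutator hv hx.2⟩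
      rw [h0, Subgroup.mem_bot, commutatorElement_eq_one_iff_mul_comm] at h4
      exact h4

/-- Two subnormal subgroups acting irreducibly on their incomparable commutator modules, in a faithful group with trivial largest normal p-subgroup, generate their direct product, and the commutator module splits accordingly. -/
theorem result {G : Type*} [Group G] [Finite G] {p : ℕ} [Fact p.Prime] (V E E₁ E₂ : Subgroup G) (hV : Cfsg.IsElementaryAbelian p V) (hEV : E ≤ Subgroup.normalizer (V : Set G)) (hf : E ⊓ Subgroup.centralizer (V : Set G) = ⊥) (hgen : E = E₁ ⊔ E₂) (hs₁ : (E₁.subgroupOf E).IsSubnormal) (hs₂ : (E₂.subgroupOf E).IsSubnormal) (hOp : Cfsg.pCore p ↥E = ⊥) (hirr₁ : (∀ U : Subgroup G, U ≤ ⁅V, E₁⁆ → E₁ ≤ Subgroup.normalizer (U : Set G) → U = ⊥ ∨ U = ⁅V, E₁⁆)) (hirr₂ : (∀ U : Subgroup G, U ≤ ⁅V, E₂⁆ → E₂ ≤ Subgroup.normalizer (U : Set G) → U = ⊥ ∨ U = ⁅V, E₂⁆)) (h12 : ¬ ⁅V, E₁⁆ ≤ ⁅V, E₂⁆) (h21 : ¬ ⁅V,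 E₂⁆ ≤ ⁅V, E₁⁆) (hc₁ : 2 < Nat.card E₁) (hc₂ : 2 < Nat.card E₂) : ⁅E₁, E₂⁆ = ⊥ ∧ E₁ ⊓ E₂ = ⊥ ∧ ⁅V, E₁⁆ ⊓ ⁅V, E₂⁆ = ⊥ ∧ ⁅V, E⁆ = ⁅V, E₁⁆ ⊔ ⁅V, E₂⁆ := by
  classical
  have hEi : ∀ A : Subgroup G, A ≤ E → (A.subgroupOf E).IsSubnormal → 2 < Nat.card A →
      (∀ U : Subgroup G, U ≤ ⁅V, A⁆ → A ≤ Subgroup.normalizer (U : Set G) → U = ⊥ ∨ U = ⁅V, A⁆) → Gd p V A := by
    intro A hA hs hc hi
    exact ⟨hA.trans hEV, le_bot_iff.mp fun x hx => hf.le ⟨hA hx.1, hx.2⟩,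
      Cfsg.Agent.Lib.LocalEven.pCore_eq_bot_of_subnormal hA hOp hs, hc, hi⟩
  have hG1 := hEi E₁ (hgen ▸ le_sup_left) hs₁ hc₁ hirr₁
  have hG2 := hEi E₂ (hgen ▸ le_sup_right) hs₂ hc₂ hirr₂
  subst hgen
  have h := main hV (Nat.card ↥(E₁ ⊔ E₂)) E₁ E₂ le_rfl hs₁ hs₂ hG1 hG2 h12 h21 hf
  refine ⟨h.1, h.2.2, h.2.1, le_antisymm (Subgroup.commutator_le.mpr fun v hv x hx => ?_)
    (sup_le (Subgroup.commutator_mono le_rfl le_sup_left) (Subgroup.commutator_mono le_rfl le_sup_right))⟩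
  have hWn : E₁ ⊔ E₂ ≤ Subgroup.normalizer ((⁅V, E₁⁆ ⊔ ⁅V, E₂⁆ : Subgroup G) : Set G) := by
    have hc' : ⁅E₂, E₁⁆ = ⊥ := by rw [Subgroup.commutator_comm]; exact h.1
    refine sup_le (fun a ha => ?_) (fun a ha => ?_) <;>
      refine Subgroup.mem_normalizer_iff_map_conj_eq.mpr ?_ <;>
      rw [Subgroup.map_sup]
    · rw [Subgroup.mem_normalizer_iff_map_conj_eq.mp (normalizer_commutator_ge (hG1.norm ha) (Subgroup.le_normalizer ha)),
        Subgroup.mem_normalizer_iff_map_conj_eq.mp (normalizer_commutator_ge (hG1.norm ha)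
          (Subgroup.centralizer_le_normalizer _ (Subgroup.commutator_eq_bot_iff_le_centralizer.mp h.1 ha)))]
    · rw [Subgroup.mem_normalizer_iff_map_conj_eq.mp (normalizer_commutator_ge (hG2.norm ha) (Subgroup.le_normalizer ha)),
        Subgroup.mem_normalizer_iff_map_conj_eq.mp (normalizer_commutator_ge (hG2.norm ha)
          (Subgroup.centralizer_le_normalizer _ (Subgroup.commutator_eq_bot_iff_le_centralizer.mp hc' ha)))]
  suffices hgo : ∀ v ∈ V, ⁅v, x⁆ ∈ ⁅V, E₁⁆ ⊔ ⁅V, E₂⁆ from hgo v hv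
  have hx0 : x ∈ Subgroup.closure ((E₁ : Set G) ∪ (E₂ : Set G)) := by
    rw [Subgroup.closure_union, Subgroup.closure_eq, Subgroup.closure_eq]; exact hx
  have key : x ∈ E₁ ⊔ E₂ ∧ ∀ v ∈ V, ⁅v, x⁆ ∈ ⁅V, E₁⁆ ⊔ ⁅V, E₂⁆ := by
    clear hx
    induction hx0 using Subgroup.closure_induction with
    | mem y hy =>
      rcases hy with hy | hy
      · exact ⟨Subgroup.mem_sup_left hy, fun v hv => Subgroup.mem_sup_left (Subgroup.commutator_mem_commutator hv hy)⟩
      · exact ⟨Subgroup.mem_sup_right hy, fun v hv => Subgroup.mem_sup_right (Subgroup.commutator_mem_commutator hv hy)⟩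
    | one => exact ⟨one_mem _, fun v _ => by rw [commutatorElement_one_right]; exact one_mem _⟩
    | mul y z _ _ iy iz =>
      refine ⟨mul_mem iy.1 iz.1, fun v hv => ?_⟩
      have e : ⁅v, y * z⁆ = ⁅v, y⁆ * (y * ⁅v, z⁆ * y⁻¹) := by simp only [commutatorElement_def]; group
      rw [e]
      exact mul_mem (iy.2 v hv) ((Subgroup.mem_normalizer_iff.mp (hWn iy.1) _).mp (iz.2 v hv))
    | inv y _ iy =>
      refine ⟨inv_mem iy.1, fun v hv => ?_⟩
      have e : ⁅v, y⁻¹⁆ = y⁻¹ * ⁅v, y⁆⁻¹ * y := by simp only [commutatorElement_def]; group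
      rw [e]
      exact (Subgroup.mem_normalizer_iff''.mp (hWn iy.1) _).mp (inv_mem (iy.2 v hv))
  exact key.2

end Cfsg.Agent.S0615
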