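import Cfsg.Statements.S0617
import Cfsg.Agent.Lib.FusionControl.OffenderSL2

set_option autoImplicit false
open Cfsg

namespace Cfsg.Agent.S0617

open Cfsg.Agent.Lib.FusionControl in
theorem aux {G : Type*} [Group G] [Finite G] {p : ℕ} [Fact p.Prime] {V H : Subgroup G}
    (hc : CoprimeOffender.Ctx p V H)
    (hgen : ∀ T : Subgroup G, (∀ B, CoprimeOffender.IsTv p V H B → B ≤ T) → H ≤ T)
    (hH1 : H ≠ ⊥) {ι : Type*} [Finite ι] (Ef : ι → Subgroup G) (hinj : Function.Injective Ef)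
    (hEx : ∀ i, ∃ X, CoprimeOffender.IsTv p V H X ∧ Ef i = CoprimeOffender.EX p H X)
    (hsurj : ∀ X, CoprimeOffender.IsTv p V H X → ∃ i, Ef i = CoprimeOffender.EX p H X) :
    (p = 2 ∨ p = 3) ∧ (∀ i, H ≤ Subgroup.normalizer (Ef i : Set G) ∧
      Nonempty (↥(Ef i) ≃* Matrix.SpecialLinearGroup (Fin 2) (ZMod p)) ∧
      Nat.card ↥⁅V, Ef i⁆ = p ^ 2) ∧ iSupIndep Ef ∧ (⨆ i, Ef i) = H ∧
      iSupIndep (fun o : Option ι => o.elim (V ⊓ Subgroup.centralizer (H : Set G)) (fun i => ⁅V, Ef i⁆)) ∧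
      (V ⊓ Subgroup.centralizer (H : Set G)) ⊔ (⨆ i, ⁅V, Ef i⁆) = V := by
  classical
  have : Fintype ι := Fintype.ofFinite ι
  obtain ⟨X₀, hX₀⟩ : ∃ X, CoprimeOffender.IsTv p V H X := by
    by_contra hno
    exact hH1 (le_bot_iff.mp (hgen ⊥ fun B hB => absurd ⟨B, hB⟩ hno))
  -- facts
  have hsep : ∀ i j, i ≠ j →
      (∀ g ∈ Ef i, ∀ b ∈ Ef j, g * b = b * g) ∧
      Ef j ≤ H ⊓ Subgroup.centralizer ((⁅V, Ef i⁆ : Subgroup G) : Set G) := by
    intro i j hij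
    obtain ⟨X, hX, hXe⟩ := hEx i
    obtain ⟨Y, hY, hYe⟩ := hEx j
    obtain ⟨-, -, -, -, -, -, -, -, hcb⟩ := hc.ex_facts hX hgen
    have hk : ∀ k : ↥(CoprimeOffender.K0 p H), ∀ g ∈ Ef i, ∀ b ∈ CoprimeOffender.cj (k : G) Y,
        g * b = b * g := by
      intro k
      rcases hc.dichotomy hX (hY.conj hc (hc.K0_le k.2)) with ⟨k', hk', he⟩ | h
      · exact absurd (hinj (by rw [hXe, hYe, ← hc.ex_conj (X := Y) k.2, he, hc.ex_conj hk'])) hij
      · rw [hXe]; exact h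
    have hle : Ef j ≤ Subgroup.centralizer (Ef i : Set G) ⊓
        (H ⊓ Subgroup.centralizer ((⁅V, Ef i⁆ : Subgroup G) : Set G)) := by
      rw [hYe]
      refine iSup_le fun k => le_inf ?_ (le_inf (hY.conj hc (hc.K0_le k.2)).le ?_)
      · exact fun b hb => Subgroup.mem_centralizer_iff.mpr fun g hg => hk k g hg b hb
      · rw [hXe]
        exact hcb _ (hY.conj hc (hc.K0_le k.2)) (by rw [← hXe]; exact hk k)
    exact ⟨fun g hg b hb => Subgroup.mem_centralizer_iff.mp (hle hb).1 g hg, hle.trans inf_le_right⟩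
  have hplane : ∀ i, ⁅V, Ef i⁆ ⊓ (V ⊓ Subgroup.centralizer (Ef i : Set G)) = ⊥ ∧
      ⁅V, Ef i⁆ ⊔ (V ⊓ Subgroup.centralizer (Ef i : Set G)) = V ∧
      Ef i ⊓ (H ⊓ Subgroup.centralizer ((⁅V, Ef i⁆ : Subgroup G) : Set G)) = ⊥ ∧
      ⁅V, H ⊓ Subgroup.centralizer ((⁅V, Ef i⁆ : Subgroup G) : Set G)⁆ ≤
        V ⊓ Subgroup.centralizer (Ef i : Set G) ∧ Ef i ≤ H := by
    intro i
    obtain ⟨X, hX, hXe⟩ := hEx i
    obtain ⟨-, -, h3, h4, -, h6, -, h8, -⟩ := hc.ex_facts hX hgen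
    rw [hXe]
    exact ⟨h3, h4, h6, h8, hc.ex_le hX⟩
  have hW : ∀ i j, i ≠ j → ⁅V, Ef j⁆ ≤ V ⊓ Subgroup.centralizer (Ef i : Set G) := fun i j hij =>
    (Subgroup.commutator_mono le_rfl (hsep i j hij).2).trans (hplane i).2.2.2.1
  have hsup : (⨆ i, Ef i) = H := by
    refine le_antisymm (iSup_le fun i => (hplane i).2.2.2.2) (hgen _ fun B hB => ?_)
    obtain ⟨i, hi⟩ := hsurj B hB
    exact (hc.le_ex.trans hi.ge).trans (le_iSup Ef i)
  refine ⟨hc.prime_le_three hX₀, fun i => ?_, fun i => ?_, hsup, ?_, ?_⟩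
  · obtain ⟨X, hX, hXe⟩ := hEx i
    obtain ⟨h1, h2, -⟩ := hc.ex_facts hX hgen
    rw [hXe]
    exact ⟨hc.ex_normal hX hgen, h1, h2⟩
  · rw [disjoint_iff, eq_bot_iff]
    refine le_trans (inf_le_inf_left _ (iSup₂_le fun j hj => (hsep i j (Ne.symm hj)).2)) ?_
    exact (hplane i).2.2.1.le
  · have hnone : ∀ s : Finset ι,
        (V ⊓ Subgroup.centralizer (H : Set G)) ⊓ (⨆ i ∈ s, ⁅V, Ef i⁆) = ⊥ := by
      intro s
      induction s using Finset.induction with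
      | empty => simp
      | insert i s hi ih =>
        refine le_bot_iff.mp fun x hx => ?_
        rw [Finset.iSup_insert] at hx
        have hWV : ⁅V, Ef i⁆ ≤ V := (le_sup_left).trans (hplane i).2.1.le
        have hsV : (⨆ j ∈ s, ⁅V, Ef j⁆) ≤ V ⊓ Subgroup.centralizer (Ef i : Set G) :=
          iSup₂_le fun j hj => hW i j fun e => hi (e ▸ hj)
        obtain ⟨w, hw, y, hy, rfl⟩ := hc.mem_sup_V hWV (hsV.trans inf_le_left) hx.2
        have hxC : w * y ∈ V ⊓ Subgroup.centralizer (Ef i : Set G) :=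
          ⟨hx.1.1, Subgroup.centralizer_le (SetLike.coe_subset_coe.mpr (hplane i).2.2.2.2) hx.1.2⟩
        have hw1 : w ∈ (⊥ : Subgroup G) := by
          rw [← (hplane i).1]
          refine ⟨hw, ?_⟩
          have := mul_mem hxC (inv_mem (hsV hy))
          rwa [mul_inv_cancel_right] at this
        rw [Subgroup.mem_bot] at hw1
        subst hw1
        simp only [one_mul] at hx ⊢
        rw [← ih]
        exact ⟨hx.1, hy⟩
    intro o
    rw [disjoint_iff, eq_bot_iff]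
    cases o with
    | none =>
      refine le_trans (inf_le_inf_left _ (iSup₂_le fun j hj => ?_)) (hnone Finset.univ).le
      cases j with
      | none => exact absurd rfl hj
      | some j => exact le_iSup₂_of_le j (Finset.mem_univ j) le_rfl
    | some i =>
      refine le_trans (inf_le_inf_left _ (iSup₂_le fun j hj => ?_)) (hplane i).1.le
      cases j with
      | none => exact inf_le_inf_left _ (Subgroup.centralizer_le (SetLike.coe_subset_coe.mpr (hplane i).2.2.2.2))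
      | some j => exact hW i j fun e => hj (e ▸ rfl)
  · refine le_antisymm (sup_le inf_le_left (iSup_le fun i => le_sup_left.trans (hplane i).2.1.le)) ?_
    have key : ∀ s : Finset ι, V ≤ (⨆ i ∈ s, ⁅V, Ef i⁆) ⊔
        (V ⊓ Subgroup.centralizer ((⨆ i ∈ s, Ef i : Subgroup G) : Set G)) := by
      intro s
      induction s using Finset.induction with
      | empty =>
        refine le_trans (le_inf le_rfl fun v _ => ?_) le_sup_right
        simp [Subgroup.mem_centralizer_iff]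
      | insert i s hi ih =>
        refine ih.trans (sup_le (le_sup_of_le_left (iSup₂_le fun j hj =>
          le_iSup₂_of_le j (Finset.mem_insert_of_mem hj) le_rfl)) fun c hc' => ?_)
        have hcV : c ∈ ⁅V, Ef i⁆ ⊔ (V ⊓ Subgroup.centralizer (Ef i : Set G)) :=
          (hplane i).2.1.ge hc'.1
        obtain ⟨w, hw, u, hu, rfl⟩ := hc.mem_sup_V (le_sup_left.trans (hplane i).2.1.le) inf_le_left hcV
        have hwS : w ∈ Subgroup.centralizer ((⨆ j ∈ s, Ef j : Subgroup G) : Set G) := by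
          refine Subgroup.mem_centralizer_iff.mpr fun g hg => ?_
          have hle : (⨆ j ∈ s, Ef j) ≤ Subgroup.centralizer ({w} : Set G) :=
            iSup₂_le fun j hj g' hg' => Subgroup.mem_centralizer_singleton_iff.mpr
              (Subgroup.mem_centralizer_iff.mp (hW j i (fun e => hi (e ▸ hj)) hw).2 g' hg')
          exact Subgroup.mem_centralizer_singleton_iff.mp (hle hg)
        have huS : u ∈ Subgroup.centralizer ((⨆ j ∈ s, Ef j : Subgroup G) : Set G) := by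
          have := mul_mem (inv_mem hwS) hc'.2
          rwa [inv_mul_cancel_left] at this
        refine mul_mem (Subgroup.mem_sup_left ?_) (Subgroup.mem_sup_right ⟨hu.1, ?_⟩)
        · exact Subgroup.mem_iSup_of_mem i (Subgroup.mem_iSup_of_mem (Finset.mem_insert_self i s) hw)
        · refine Subgroup.mem_centralizer_iff.mpr fun g hg => ?_
          have hle : (⨆ j ∈ insert i s, Ef j) ≤ Subgroup.centralizer ({u} : Set G) := by
            rw [Finset.iSup_insert]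
            exact sup_le (fun g' hg' => Subgroup.mem_centralizer_singleton_iff.mpr
                (Subgroup.mem_centralizer_iff.mp hu.2 g' hg'))
              (fun g' hg' => Subgroup.mem_centralizer_singleton_iff.mpr
                (Subgroup.mem_centralizer_iff.mp huS g' hg'))
          exact Subgroup.mem_centralizer_singleton_iff.mp (hle hg)
    refine (key Finset.univ).trans (sup_le (le_sup_of_le_right (iSup₂_le fun i _ => le_iSup_of_le i le_rfl))
      (le_sup_of_le_left (inf_le_inf_left _ (Subgroup.centralizer_le (SetLike.coe_subset_coe.mpr ?_)))))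
    exact hsup.ge.trans (iSup_le fun i => le_iSup₂_of_le i (Finset.mem_univ i) le_rfl)

/-- Structure Theorem for failure of factorization: a faithful group generated by best offenders, with self-centralizing p'-core, is a direct product of copies of SL(2, p) (p = 2 or 3), each acting on its own plane in V, which is the direct product of these planes and C_V(H). -/
theorem result {G : Type*} [Group G] [Finite G] {p : ℕ} [Fact p.Prime] (V H : Subgroup G) (hV : Cfsg.IsElementaryAbelian p V) (hHV : H ≤ Subgroup.normalizer (V : Set G)) (hf : H ⊓ Subgroup.centralizer (V : Set G) = ⊥) (hS1 : Subgroup.centralizer (Cfsg.pPrimeCore p ↥H : Set ↥H) ≤ Cfsg.pPrimeCore p ↥H) (hS3 : H = ⨆ A : {A : Subgroup G // A ≤ H ∧ Cfsg.IsBestOffenderOn p V A}, (A : Subgroup G)) (hH1 : H ≠ ⊥) : (p = 2 ∨ p = 3) ∧ (∀ E : {E : Subgroup G // ∃ A : Subgroup G, A ≤ H ∧ Cfsg.IsBestOffenderOn p V A ∧ ⁅V, A⁆ ≠ ⊥ ∧ (∀ B : Subgroup G, B ≤ A → Cfsg.IsBestOffenderOn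 p V B → ⁅V, B⁆ ≠ ⊥ → B = A) ∧ E = ⁅((Cfsg.pPrimeCore p ↥H).map H.subtype), A⁆ ⊔ A}, H ≤ Subgroup.normalizer ((E : Subgroup G) : Set G) ∧ Nonempty (↥(E : Subgroup G) ≃* Matrix.SpecialLinearGroup (Fin 2) (ZMod p)) ∧ Nat.card ↥(⁅V, (E : Subgroup G)⁆) = p ^ 2) ∧ iSupIndep (fun E : {E : Subgroup G // ∃ A : Subgroup G, A ≤ H ∧ Cfsg.IsBestOffenderOn p V A ∧ ⁅V, A⁆ ≠ ⊥ ∧ (∀ B : Subgroup G, B ≤ A → Cfsg.IsBestOffenderOn p V B → ⁅V, B⁆ ≠ ⊥ → B = A) ∧ E = ⁅((Cfsg.pPrimeCore p ↥H).map H.subtype), A⁆ ⊔ A} => (E : Subgroup G)) ∧ (⨆ E : {E : Subgroup G // ∃ A : Subgroup G, A ≤ H ∧ Cfsg.IsBestOffenderOn p V A ∧ ⁅V, A⁆ ≠ ⊥ ∧ (∀ B : Subgroup G, B ≤ A → Cfsg.IsBestOffenderOn p V B → ⁅V, B⁆ ≠ ⊥ → B = A) ∧ E = ⁅((Cfsg.pPrimeCore p ↥H).map H.subtype), A⁆ ⊔ A}, (E : Subgroup G)) = H ∧ iSupIndep (fun o : Option {E : Subgroup G // ∃ A : Subgroup G, A ≤ H ∧ Cfsg.IsBestOffenderOn p V A ∧ ⁅V, A⁆ ≠ ⊥ ∧ (∀ B : Subgroup G, B ≤ A → Cfsg.IsBestOffenderOn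 p V B → ⁅V, B⁆ ≠ ⊥ → B = A) ∧ E = ⁅((Cfsg.pPrimeCore p ↥H).map H.subtype), A⁆ ⊔ A} => o.elim (V ⊓ Subgroup.centralizer (H : Set G)) (fun E => ⁅V, (E : Subgroup G)⁆)) ∧ (V ⊓ Subgroup.centralizer (H : Set G)) ⊔ (⨆ E : {E : Subgroup G // ∃ A : Subgroup G, A ≤ H ∧ Cfsg.IsBestOffenderOn p V A ∧ ⁅V, A⁆ ≠ ⊥ ∧ (∀ B : Subgroup G, B ≤ A → Cfsg.IsBestOffenderOn p V B → ⁅V, B⁆ ≠ ⊥ → B = A) ∧ E = ⁅((Cfsg.pPrimeCore p ↥H).map H.subtype), A⁆ ⊔ A}, ⁅V, (E : Subgroup G)⁆) = V := by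
  classical
  open Cfsg.Agent.Lib.FusionControl.CoprimeOffender in
  have hc : Ctx p V H := ⟨hV, hHV, hf, hS1⟩
  refine aux hc (hc.gen_tv hS3) hH1 _ Subtype.val_injective (fun E => ?_) (fun X hX => ?_)
  · obtain ⟨A, hAH, hA, hAV, hmin, he⟩ := E.2
    exact ⟨A, hc.tv_of_min hAH hA hAV hmin, he.trans (hc.ex_eq_commutator (hc.tv_of_min hAH hA hAV hmin))⟩
  · obtain ⟨h1, h2, h3⟩ := hc.min_of_tv hX
    exact ⟨⟨_, X, hX.le, h1, h2, h3, rfl⟩, hc.ex_eq_commutator hX⟩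

end Cfsg.Agent.S0617
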