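import Cfsg.Statements.S0618
import Cfsg.Agent.S0608
import Cfsg.Agent.Lib.Characters.PSolvableTI
import Cfsg.Agent.Lib.PLocal.NoSLTwo
import Cfsg.Agent.Lib.FusionControl.OffenderSL2
import Cfsg.Agent.Lib.PGroups.Subnormal
import Cfsg.Agent.Lib.Blocks.PSolvable
import Mathlib.GroupTheory.SemidirectProduct

set_option autoImplicit false
open Cfsg

namespace Cfsg.Agent.S0618

open Cfsg.Agent.Lib.FusionControl

universe u

theorem isPSolvable_subgroup {X : Type u} [Group X] [Finite X] {p : ℕ} [Fact p.Prime] (A : Subgroup X)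
    (h : Cfsg.IsPSolvable p X) : Cfsg.IsPSolvable p ↥A := by
  obtain ⟨n, H, h0, h1, hm, hn, hf⟩ := h
  refine ⟨n, fun i => (H i).subgroupOf A, by simp [h0], by simp [h1],
    fun i j hij => Subgroup.comap_mono (hm hij), fun i => (hn i).subgroupOf A, fun i => ?_⟩
  have := hn i.castSucc
  have hd : ((H i.castSucc).subgroupOf A).relIndex ((H i.succ).subgroupOf A) ∣
      (H i.castSucc).relIndex (H i.succ) := by
    conv_lhs => arg 1; rw [Subgroup.subgroupOf]
    rw [Subgroup.relIndex_comap, Subgroup.subgroupOf_map_subtype,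
      ← QuotientGroup.ker_mk' (H i.castSucc), Subgroup.relIndex_ker, Subgroup.relIndex_ker]
    exact Subgroup.card_dvd_of_le (Subgroup.map_mono inf_le_left)
  rcases hf i with ⟨m, hm'⟩ | hc
  · rw [hm'] at hd
    obtain ⟨j, -, hj⟩ := (Nat.dvd_prime_pow (Fact.out : p.Prime)).mp hd
    exact Or.inl ⟨j, hj⟩
  · exact Or.inr (Nat.Coprime.coprime_dvd_left hd hc)

/-- the action of `G ⧸ C(V)` on `V` -/
noncomputable def actC {G : Type u} [Group G] (V : Subgroup G) [V.Normal] :
    G ⧸ Subgroup.centralizer (V : Set G) →* MulAut ↥V :=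
  QuotientGroup.lift _ MulAut.conjNormal fun x hx => by
    ext v
    rw [MulAut.conjNormal_apply, MulAut.one_apply,
      (Subgroup.mem_centralizer_iff.mp hx (v : G) v.2).symm, mul_inv_cancel_right]

theorem core {G : Type u} [Group G] [Finite G] {p : ℕ} [Fact p.Prime] (hsep : Cfsg.IsPSolvable p G)
    (V : Subgroup G) [V.Normal] (hV : Cfsg.IsElementaryAbelian p V)
    (hO : Cfsg.pCore p (G ⧸ Subgroup.centralizer (V : Set G)) = ⊥)
    (J : Subgroup G) [J.Normal] (hJ : J = Cfsg.thompsonSubgroup p G)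
    (hJV : ¬ J ≤ Subgroup.centralizer (V : Set G)) :
    (p = 2 ∨ p = 3) ∧ ∃ E : Subgroup G, Subgroup.centralizer (V : Set G) ≤ E ∧
      E ≤ J ⊔ Subgroup.centralizer (V : Set G) ∧
      J ⊔ Subgroup.centralizer (V : Set G) ≤ Subgroup.normalizer (E : Set G) ∧
      ∃ hn : ((Subgroup.centralizer (V : Set G)).subgroupOf E).Normal,
        Nonempty ((↥E ⧸ (Subgroup.centralizer (V : Set G)).subgroupOf E) ≃*
          Matrix.SpecialLinearGroup (Fin 2) (ZMod p)) := by
  classical
  set C := Subgroup.centralizer (V : Set G) with hC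
  let Γ := SemidirectProduct ↥V (G ⧸ C) (actC V)
  have : Finite Γ := Finite.of_equiv (↥V × (G ⧸ C))
    { toFun := fun x => ⟨x.1, x.2⟩, invFun := fun x => ⟨x.left, x.right⟩
      left_inv := fun _ => rfl, right_inv := fun _ => rfl }
  let f : G →* Γ := SemidirectProduct.inr.comp (QuotientGroup.mk' C)
  have hfker : f.ker = C := by
    ext x
    rw [MonoidHom.mem_ker]
    show SemidirectProduct.inr (QuotientGroup.mk' C x) = 1 ↔ _
    rw [← map_one (SemidirectProduct.inr (φ := actC V)), SemidirectProduct.inr_inj]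
    exact QuotientGroup.eq_one_iff x
  set V' : Subgroup Γ := (SemidirectProduct.inl : ↥V →* Γ).range with hV'
  set H : Subgroup Γ := J.map f with hH
  have hact : ∀ (g : G) (v : ↥V), f g * SemidirectProduct.inl v * (f g)⁻¹ =
      (SemidirectProduct.inl (MulAut.conjNormal g v) : Γ) := by
    intro g v
    have := SemidirectProduct.inl_aut (φ := actC V) (QuotientGroup.mk' C g) v
    rw [map_inv] at this
    exact this.symm
  have hcent : ∀ (g : G) (v : ↥V), Commute (f g) (SemidirectProduct.inl v : Γ) ↔ g * (v : G) = (v : G) * g := by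
    intro g v
    rw [Commute, SemiconjBy, ← mul_inv_eq_iff_eq_mul, hact, SemidirectProduct.inl_inj, Subtype.ext_iff,
      MulAut.conjNormal_apply, mul_inv_eq_iff_eq_mul]
  have hV'e : Cfsg.IsElementaryAbelian p V' := by
    refine ⟨⟨⟨?_⟩⟩, ?_⟩
    · rintro ⟨_, a, rfl⟩ ⟨_, b, rfl⟩
      refine Subtype.ext ?_
      show SemidirectProduct.inl a * SemidirectProduct.inl b = SemidirectProduct.inl b * SemidirectProduct.inl a
      rw [← map_mul, ← map_mul, show a * b = b * a from Subtype.ext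
        (CoprimeOffender.mul_comm_of_elem hV a.2 b.2)]
    · rintro _ ⟨a, rfl⟩
      rw [← map_pow, show a ^ p = 1 from Subtype.ext (by simpa using hV.2 a a.2), map_one]
  have hHf : ∀ h ∈ H, ∃ g, f g = h := fun h hh => ⟨_, (Subgroup.mem_map.mp hh).choose_spec.2⟩
  have hrangeN : f.range ≤ Subgroup.normalizer (V' : Set Γ) := by
    rintro _ ⟨g, rfl⟩
    refine Subgroup.mem_normalizer_iff_map_conj_eq.mpr (Subgroup.eq_of_le_of_card_ge ?_ (le_of_eq ?_))
    · rintro _ ⟨_, ⟨v, rfl⟩, rfl⟩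
      exact ⟨MulAut.conjNormal g v, (hact g v).symm⟩
    · exact Nat.card_congr (V'.equivMapOfInjective _ (MulAut.conj (f g)).injective).toEquiv
  have hmemC : ∀ g : G, f g ∈ Subgroup.centralizer (V' : Set Γ) → g ∈ C := by
    intro g hg
    refine Subgroup.mem_centralizer_iff.mpr fun v hv => ?_
    exact ((hcent g ⟨v, hv⟩).mp (Subgroup.mem_centralizer_iff.mp hg _ ⟨⟨v, hv⟩, rfl⟩).symm).symm
  have hfaith : H ⊓ Subgroup.centralizer (V' : Set Γ) = ⊥ := by
    refine le_bot_iff.mp ?_
    rintro _ ⟨⟨g, -, rfl⟩, hg⟩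
    exact Subgroup.mem_bot.mpr (MonoidHom.mem_ker.mp (hfker.ge (hmemC g hg)))
  -- self centralising
  have hQ : Cfsg.IsPSolvable p (G ⧸ C) := Cfsg.Agent.Lib.PLocal.isPSolvable_quotient C hsep
  set J' : Subgroup (G ⧸ C) := J.map (QuotientGroup.mk' C) with hJ'
  have : J'.Normal := (inferInstance : J.Normal).map _ (QuotientGroup.mk'_surjective C)
  have hH' : H = J'.map (SemidirectProduct.inr : G ⧸ C →* Γ) := by rw [hH, hJ', Subgroup.map_map]
  have hself : Subgroup.centralizer (Cfsg.pPrimeCore p ↥H : Set ↥H) ≤ Cfsg.pPrimeCore p ↥H := by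
    let e : ↥J' ≃* ↥H := (J'.equivMapOfInjective _ SemidirectProduct.inr_injective).trans
      (MulEquiv.subgroupCongr hH'.symm)
    have h1 := Cfsg.Agent.Lib.Characters.centralizer_pPrimeCore_le_of_pCore_eq_bot p
      (isPSolvable_subgroup J' hQ) (by
        have h2 := Cfsg.Agent.Lib.Cores.map_subtype_pCore_le (p := p) J'
        rw [hO, le_bot_iff, Subgroup.map_eq_bot_iff_of_injective _ J'.subtype_injective] at h2
        exact h2)
    intro x hx
    rw [← Cfsg.Agent.Lib.Cores.map_pPrimeCore_equiv e] at hx ⊢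
    refine ⟨e.symm x, h1 (Subgroup.mem_centralizer_iff.mpr fun y hy => ?_), e.apply_symm_apply x⟩
    apply e.injective
    rw [map_mul, map_mul, e.apply_symm_apply]
    exact Subgroup.mem_centralizer_iff.mp hx _ ⟨y, hy, rfl⟩
  have hc : CoprimeOffender.Ctx p V' H :=
    ⟨hV'e, (Subgroup.map_le_range f J).trans hrangeN, hfaith, hself⟩
  -- images of maximal elementary abelian subgroups are best offenders
  have hbest : ∀ A ∈ Cfsg.maxElementaryAbelianSubgroups p G,
      Cfsg.IsBestOffenderOn p V' (A.map f) ∧ A.map f ≤ H := by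
    intro A hA
    have hAJ : A.map f ≤ H := Subgroup.map_mono (hJ ▸ le_sSup hA)
    have hAe : Cfsg.IsElementaryAbelian p (A.map f) := by
      refine ⟨⟨⟨?_⟩⟩, ?_⟩
      · rintro ⟨_, a, ha, rfl⟩ ⟨_, b, hb, rfl⟩
        refine Subtype.ext ?_
        show f a * f b = f b * f a
        rw [← map_mul, ← map_mul, CoprimeOffender.mul_comm_of_elem hA.1 ha hb]
      · rintro _ ⟨a, ha, rfl⟩
        rw [← map_pow, hA.1.2 a ha, map_one]
    refine ⟨hc.best_of_fv hAJ hAe (le_antisymm (hc.fv_le_card hAJ hAe) ?_), hAJ⟩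
    -- `|A∩C| |V| ≤ |A| |C_V(A)|`
    have hVcard : Nat.card ↥V' = Nat.card ↥V :=
      (Nat.card_congr (MonoidHom.ofInjective (SemidirectProduct.inl_injective (φ := actC V))).toEquiv).symm
    have hcl : Cfsg.IsElementaryAbelian p ((A ⊓ C) ⊔ V) := by
      rw [← Subgroup.closure_eq (A ⊓ C), ← Subgroup.closure_eq V, ← Subgroup.closure_union]
      refine Cfsg.Agent.Lib.PLocal.elemAb_closure ?_ ?_
      · rintro a (ha | ha) b (hb | hb)
        · exact CoprimeOffender.mul_comm_of_elem hA.1 ha.1 hb.1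
        · exact (Subgroup.mem_centralizer_iff.mp ha.2 b hb).symm
        · exact Subgroup.mem_centralizer_iff.mp hb.2 a ha
        · exact CoprimeOffender.mul_comm_of_elem hV ha hb
      · rintro a (ha | ha)
        · exact hA.1.2 a ha.1
        · exact hV.2 a ha
    have h1 := hA.2 _ hcl
    have h2 : Nat.card ↥(A ⊓ C) * Nat.card ↥V ≤
        Nat.card ↥((A ⊓ C) ⊔ V) * Nat.card ↥(V ⊓ Subgroup.centralizer (A : Set G)) := by
      rw [← Cfsg.Agent.Lib.Cores.card_sup_mul_card_inf (A ⊓ C) V]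
      refine Nat.mul_le_mul_left _ (Subgroup.card_le_of_le fun x hx => ⟨hx.2, ?_⟩)
      exact Subgroup.mem_centralizer_iff.mpr fun a ha =>
        CoprimeOffender.mul_comm_of_elem hA.1 ha hx.1.1
    have h3 : Nat.card ↥(A.map f) * Nat.card ↥(A ⊓ C) = Nat.card ↥A := by
      have := Cfsg.Agent.Lib.Cores.card_map_mul_card_inf_ker f A
      rwa [hfker] at this
    have h4 : Nat.card ↥(V ⊓ Subgroup.centralizer (A : Set G)) ≤
        Nat.card ↥(V' ⊓ Subgroup.centralizer ((A.map f : Subgroup Γ) : Set Γ)) := by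
      refine Nat.card_le_card_of_injective
        (fun x => ⟨SemidirectProduct.inl ⟨(x : G), x.2.1⟩, ⟨_, rfl⟩, ?_⟩) ?_
      · refine Subgroup.mem_centralizer_iff.mpr ?_
        rintro _ ⟨a, ha, rfl⟩
        exact ((hcent a ⟨(x : G), x.2.1⟩).mpr (Subgroup.mem_centralizer_iff.mp x.2.2 a ha)).eq
      · intro x y e
        have := SemidirectProduct.inl_injective (congrArg Subtype.val e)
        exact Subtype.ext (congrArg (fun v : ↥V => (v : G)) this)
    rw [hVcard, CoprimeOffender.fv]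
    refine Nat.le_of_mul_le_mul_left (h2.trans ?_) (Nat.card_pos (α := ↥(A ⊓ C)))
    calc Nat.card ↥((A ⊓ C) ⊔ V) * Nat.card ↥(V ⊓ Subgroup.centralizer (A : Set G))
        ≤ (Nat.card ↥(A.map f) * Nat.card ↥(A ⊓ C)) *
            Nat.card ↥(V' ⊓ Subgroup.centralizer ((A.map f : Subgroup Γ) : Set Γ)) := by
          rw [h3]; exact Nat.mul_le_mul h1 h4
      _ = _ := by ring
  have hgen : ∀ T : Subgroup Γ, (∀ B, CoprimeOffender.IsTv p V' H B → B ≤ T) → H ≤ T := by
    refine hc.gen_tv (le_antisymm ?_ (iSup_le fun A => A.2.1))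
    rw [hH, Subgroup.map_le_iff_le_comap]
    rw (config := { occs := .pos [1] }) [hJ]
    refine sSup_le fun A hA => ?_
    rw [← Subgroup.map_le_iff_le_comap]
    exact le_iSup_of_le ⟨A.map f, (hbest A hA).2, (hbest A hA).1⟩ le_rfl
  obtain ⟨X, hX⟩ : ∃ X, CoprimeOffender.IsTv p V' H X := by
    by_contra hno
    have := hgen ⊥ fun B hB => absurd ⟨B, hB⟩ hno
    rw [hH, Subgroup.map_le_iff_le_comap, MonoidHom.comap_bot, hfker] at this
    exact hJV this
  obtain ⟨⟨eX⟩, -⟩ := hc.ex_facts hX hgen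
  set EB := CoprimeOffender.EX p H X with hEB
  refine ⟨hc.prime_le_three hX, EB.comap f, hfker.ge.trans (Subgroup.comap_mono bot_le), ?_, ?_, ?_⟩
  · refine (Subgroup.comap_mono (hc.ex_le hX)).trans ?_
    rw [hH, Subgroup.comap_map_eq, hfker]
  · refine le_trans ?_ (Subgroup.le_normalizer_comap f)
    refine sup_le ?_ ?_
    · rw [← Subgroup.map_le_iff_le_comap]
      exact hc.ex_normal hX hgen
    · exact hfker.ge.trans (Subgroup.comap_mono bot_le)
  have hn : (C.subgroupOf (EB.comap f)).Normal := (inferInstance : C.Normal).subgroupOf _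
  refine ⟨hn, ⟨?_⟩⟩
  let g : ↥(EB.comap f) →* ↥EB := f.subgroupComap EB
  have hg : Function.Surjective g := by
    rintro ⟨y, hy⟩
    obtain ⟨x, hx⟩ := hHf y (hc.ex_le hX hy)
    exact ⟨⟨x, by rw [Subgroup.mem_comap, hx]; exact hy⟩, Subtype.ext hx⟩
  have hk : g.ker = C.subgroupOf (EB.comap f) := by
    ext x
    rw [MonoidHom.mem_ker, Subgroup.mem_subgroupOf, ← SetLike.ext_iff.mp hfker (x : G), MonoidHom.mem_ker, Subtype.ext_iff]
    rfl
  exact ((QuotientGroup.quotientMulEquivOfEq hk.symm).trans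
    (QuotientGroup.quotientKerEquivOfSurjective g hg)).trans eX

/-- A p-separable group with trivial p'-core in which the Thompson factorization fails has p = 2 or 3, and J(G) induces on the normal closure of Ω₁(Z(S)) a group containing a normal SL(2, p). -/
theorem result {G : Type*} [Group G] [Finite G] {p : ℕ} [Fact p.Prime] (hsep : Cfsg.IsPSolvable p G) (hO : Cfsg.pPrimeCore p G = ⊥) (hnf : ¬ Cfsg.IsThompsonFactorizable p G) : (p = 2 ∨ p = 3) ∧ ∃ E : Subgroup G, Subgroup.centralizer ((⨆ S : Sylow p G, Cfsg.omegaOne p ((S : Subgroup G) ⊓ Subgroup.centralizer ((S : Subgroup G) : Set G))) : Set G) ≤ E ∧ E ≤ Cfsg.thompsonSubgroup p G ⊔ Subgroup.centralizer ((⨆ S : Sylow p G, Cfsg.omegaOne p ((S : Subgroup G) ⊓ Subgroup.centralizer ((S : Subgroup G) : Set G))) : Set G) ∧ Cfsg.thompsonSubgroup p G ⊔ Subgroup.centralizer ((⨆ S : Sylow p G, Cfsg.omegaOne p ((S : Subgroup G) ⊓ Subgroup.centralizer ((S : Subgroup G) : Set G))) : Set G) ≤ Subgroup.normalizer (E : Set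 G) ∧ ∃ hn : ((Subgroup.centralizer ((⨆ S : Sylow p G, Cfsg.omegaOne p ((S : Subgroup G) ⊓ Subgroup.centralizer ((S : Subgroup G) : Set G))) : Set G)).subgroupOf E).Normal, Nonempty ((↥E ⧸ (Subgroup.centralizer ((⨆ S : Sylow p G, Cfsg.omegaOne p ((S : Subgroup G) ⊓ Subgroup.centralizer ((S : Subgroup G) : Set G))) : Set G)).subgroupOf E) ≃* Matrix.SpecialLinearGroup (Fin 2) (ZMod p)) := by
  classical
  set V := (⨆ S : Sylow p G, Cfsg.omegaOne p ((S : Subgroup G) ⊓ Subgroup.centralizer ((S : Subgroup G) : Set G))) with hVdef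
  have hJV : ¬ Cfsg.thompsonSubgroup p G ≤ Subgroup.centralizer (V : Set G) := fun h =>
    hnf ((Cfsg.Agent.S0608.result hO).mpr h)
  set Z : Sylow p G → Set G := fun S =>
    {x | x ∈ ((S : Subgroup G) ⊓ Subgroup.centralizer ((S : Subgroup G) : Set G)) ∧ x ^ p = 1} with hZ
  have hVcl : V = Subgroup.closure (⋃ S, Z S) := by
    rw [hVdef, Subgroup.closure_iUnion]; rfl
  have hVn : V.Normal := by
    have key : ∀ g : G, V ≤ V.comap (MulAut.conj g).toMonoidHom := by
      intro g
      conv_lhs => rw [hVcl]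
      refine (Subgroup.closure_le _).mpr fun x hx => ?_
      obtain ⟨S, hxS, hxp⟩ := Set.mem_iUnion.mp hx
      show g * x * g⁻¹ ∈ V
      rw [hVcl]
      refine Subgroup.subset_closure (Set.mem_iUnion.mpr ⟨g • S, ⟨⟨?_, fun u hu => ?_⟩, ?_⟩⟩)
      · rw [SetLike.mem_coe, Sylow.coe_subgroup_smul]
        exact Subgroup.smul_mem_pointwise_smul x (MulAut.conj g) _ hxS.1
      · rw [SetLike.mem_coe, Sylow.coe_subgroup_smul,
          Subgroup.mem_pointwise_smul_iff_inv_smul_mem] at hu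
        have hu' : g⁻¹ * u * g ∈ (S : Subgroup G) := by simpa using hu
        calc u * (g * x * g⁻¹) = g * ((g⁻¹ * u * g) * x) * g⁻¹ := by group
          _ = g * x * g⁻¹ * u := by rw [hxS.2 _ hu']; group
      · rw [conj_pow, hxp]; group
    exact ⟨fun x hx g => key g hx⟩
  have hcentQ : ∀ x ∈ ⋃ S, Z S, x ∈ Cfsg.pCore p G ∧ x ∈ Subgroup.centralizer (Cfsg.pCore p G : Set G) := by
    intro x hx
    obtain ⟨S, hxS, -⟩ := Set.mem_iUnion.mp hx
    have hxc : x ∈ Subgroup.centralizer (Cfsg.pCore p G : Set G) :=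
      Subgroup.centralizer_le (SetLike.coe_subset_coe.mpr (Cfsg.Agent.Lib.Cores.pCore_le_sylow S)) hxS.2
    exact ⟨Cfsg.Agent.Lib.Blocks.centralizer_pCore_le_of_isPSolvable p hsep hO hxc, hxc⟩
  have hVe : Cfsg.IsElementaryAbelian p V := by
    rw [hVcl]
    refine Cfsg.Agent.Lib.PLocal.elemAb_closure
      (fun a ha b hb => Subgroup.mem_centralizer_iff.mp (hcentQ b hb).2 a (hcentQ a ha).1) fun a ha => ?_
    obtain ⟨S, -, hp'⟩ := Set.mem_iUnion.mp ha
    exact hp'
  set C := Subgroup.centralizer (V : Set G) with hC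
  have hcore : Cfsg.pCore p (G ⧸ C) = ⊥ := by
    set K := (Cfsg.pCore p (G ⧸ C)).comap (QuotientGroup.mk' C) with hK
    suffices hKC : K ≤ C by
      rw [eq_bot_iff]
      intro q hq
      obtain ⟨x, rfl⟩ := QuotientGroup.mk'_surjective C q
      exact Subgroup.mem_bot.mpr ((QuotientGroup.eq_one_iff x).mpr (hKC hq))
    rw [hC, Subgroup.le_centralizer_iff]
    conv_lhs => rw [hVcl]
    refine (Subgroup.closure_le _).mpr fun z hz => ?_
    obtain ⟨S, hzS, hzp⟩ := Set.mem_iUnion.mp hz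
    have hKle : K ≤ C ⊔ ((S : Subgroup G) ⊓ K) := by
      rw [← Subgroup.relIndex_eq_one]
      by_contra hne
      obtain ⟨r, hr, hrd⟩ := Nat.exists_prime_and_dvd hne
      have hr1 : r ∣ C.relIndex K := hrd.trans (Subgroup.relIndex_dvd_of_le_left _ le_sup_left)
      have hr2 : r ∣ ((S : Subgroup G) ⊓ K).relIndex K :=
        hrd.trans (Subgroup.relIndex_dvd_of_le_left _ le_sup_right)
      rw [Subgroup.inf_relIndex_right] at hr2
      have hrp : r ≠ p := by
        rintro rfl
        exact S.not_dvd_index (hr2.trans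
          (Cfsg.Agent.Lib.PGroups.relIndex_dvd_index_of_normal_right K _))
      rw [← QuotientGroup.ker_mk' C, Subgroup.relIndex_ker, hK,
        Subgroup.map_comap_eq_self_of_surjective (QuotientGroup.mk'_surjective C)] at hr1
      obtain ⟨n, hn⟩ := IsPGroup.iff_card.mp (Cfsg.Agent.Lib.Cores.pCore_isPGroup p (G ⧸ C))
      rw [hn] at hr1
      exact hrp ((Nat.prime_dvd_prime_iff_eq hr Fact.out).mp (hr.dvd_of_dvd_pow hr1))
    have hzV : z ∈ V := by rw [hVcl]; exact Subgroup.subset_closure hz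
    have : K ≤ Subgroup.centralizer ({z} : Set G) := hKle.trans (sup_le
      (Subgroup.centralizer_le (Set.singleton_subset_iff.mpr hzV))
      fun y hy => Subgroup.mem_centralizer_singleton_iff.mpr (hzS.2 y hy.1))
    exact Subgroup.mem_centralizer_iff.mpr fun k hk => Subgroup.mem_centralizer_singleton_iff.mp (this hk)
  have hJn : (Cfsg.thompsonSubgroup p G).Normal := by
    have : (Cfsg.thompsonSubgroup p G).Characteristic :=
      Cfsg.Agent.Lib.Cores.characteristic_of_map_le fun φ =>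
        le_of_eq (Cfsg.Agent.Lib.PLocal.map_thompsonSubgroup_equiv φ)
    infer_instance
  have e : Subgroup.centralizer (⨆ S : Sylow p G, ((Cfsg.omegaOne p ((S : Subgroup G) ⊓
      Subgroup.centralizer ((S : Subgroup G) : Set G)) : Subgroup G) : Set G)) = C := by
    refine le_antisymm ?_ (Subgroup.centralizer_le (Set.iSup_eq_iUnion _ ▸ Set.iUnion_subset fun S => ?_))
    · rw [hC, hVdef, Subgroup.le_centralizer_iff]
      refine iSup_le fun S x hx => Subgroup.mem_centralizer_iff.mpr fun c hc => ?_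
      exact (Subgroup.mem_centralizer_iff.mp hc x (Set.mem_iUnion.mpr ⟨S, hx⟩)).symm
    · exact SetLike.coe_subset_coe.mpr (le_iSup (fun S : Sylow p G => Cfsg.omegaOne p ((S : Subgroup G) ⊓
        Subgroup.centralizer ((S : Subgroup G) : Set G))) S)
  rw [e]
  exact core hsep V hVe hcore _ rfl hJV

end Cfsg.Agent.S0618
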