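import Cfsg.Statements.S0619
import Cfsg.Agent.Lib.Characters.PSolvableTI
import Cfsg.Agent.Lib.PLocal.NoSLTwo
import Cfsg.Agent.Lib.FusionControl.CoprimeOffender
import Cfsg.Agent.Lib.FusionControl.Transvection
import Cfsg.Agent.Lib.PLocal.Factor
import Mathlib.GroupTheory.SemidirectProduct

set_option autoImplicit false
open Cfsg

namespace Cfsg.Agent.S0619

open Cfsg.Agent.Lib.FusionControl
open scoped commutatorElement

/-- the action of `G ⧸ C(V)` on `V` -/
noncomputable def actC {G : Type*} [Group G] (V : Subgroup G) [V.Normal] :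
    G ⧸ Subgroup.centralizer (V : Set G) →* MulAut ↥V :=
  QuotientGroup.lift _ MulAut.conjNormal fun x hx => by
    ext v
    rw [MulAut.conjNormal_apply, MulAut.one_apply,
      (Subgroup.mem_centralizer_iff.mp hx (v : G) v.2).symm, mul_inv_cancel_right]

/-- For a p-separable group and a normal elementary abelian p-subgroup V with no nontrivial normal p-subgroup modulo its centralizer C, the Thompson subgroup J(G) moves Ω₁(Z(J(C))) only inside V. -/
theorem result {G : Type*} [Group G] [Finite G] {p : ℕ} [Fact p.Prime] (hsep : Cfsg.IsPSolvable p G) (V : Subgroup G) [V.Normal] (hV : Cfsg.IsElementaryAbelian p V) (hO : Cfsg.pCore p (G ⧸ Subgroup.centralizer (V : Set G)) = ⊥) : ⁅Cfsg.omegaOne p (Cfsg.centerThompsonOf p (Subgroup.centralizer (V : Set G))), Cfsg.thompsonSubgroup p G⁆ ≤ V := by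
  classical
  set C := Subgroup.centralizer (V : Set G) with hC
  let Γ := SemidirectProduct ↥V (G ⧸ C) (actC V)
  have : Finite Γ := Finite.of_equiv (↥V × (G ⧸ C))
    { toFun := fun x => ⟨x.1, x.2⟩, invFun := fun x => ⟨x.left, x.right⟩
      left_inv := fun _ => rfl, right_inv := fun _ => rfl }
  let f : G →* Γ := SemidirectProduct.inr.comp (QuotientGroup.mk' C)
  have hfker : f.ker = C := by
    ext x
    rw [MonoidHom.mem_ker]
    show SemidirectProduct.inr (QuotientGroup.mk' C x) = 1 ↔ _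
    rw [← map_one (SemidirectProduct.inr (φ := actC V)), SemidirectProduct.inr_inj]
    exact QuotientGroup.eq_one_iff x
  set V' : Subgroup Γ := (SemidirectProduct.inl : ↥V →* Γ).range with hV'
  set H : Subgroup Γ := f.range with hH
  have hact : ∀ (g : G) (v : ↥V), f g * SemidirectProduct.inl v * (f g)⁻¹ =
      (SemidirectProduct.inl (MulAut.conjNormal g v) : Γ) := by
    intro g v
    have := SemidirectProduct.inl_aut (φ := actC V) (QuotientGroup.mk' C g) v
    rw [map_inv] at this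
    exact this.symm
  have hcent : ∀ (g : G) (v : ↥V), Commute (f g) (SemidirectProduct.inl v : Γ) ↔ g * (v : G) = (v : G) * g := by
    intro g v
    rw [Commute, SemiconjBy, ← mul_inv_eq_iff_eq_mul, hact, SemidirectProduct.inl_inj, Subtype.ext_iff,
      MulAut.conjNormal_apply, mul_inv_eq_iff_eq_mul]
  have hV'e : Cfsg.IsElementaryAbelian p V' := by
    refine ⟨⟨⟨?_⟩⟩, ?_⟩
    · rintro ⟨_, a, rfl⟩ ⟨_, b, rfl⟩
      refine Subtype.ext ?_
      show SemidirectProduct.inl a * SemidirectProduct.inl b = SemidirectProduct.inl b * SemidirectProduct.inl a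
      rw [← map_mul, ← map_mul, show a * b = b * a from Subtype.ext
        (CoprimeOffender.mul_comm_of_elem hV a.2 b.2)]
    · rintro _ ⟨a, rfl⟩
      rw [← map_pow, show a ^ p = 1 from Subtype.ext (by simpa using hV.2 a a.2), map_one]
  have hrangeN : f.range ≤ Subgroup.normalizer (V' : Set Γ) := by
    rintro _ ⟨g, rfl⟩
    refine Subgroup.mem_normalizer_iff_map_conj_eq.mpr (Subgroup.eq_of_le_of_card_ge ?_ (le_of_eq ?_))
    · rintro _ ⟨_, ⟨v, rfl⟩, rfl⟩
      exact ⟨MulAut.conjNormal g v, (hact g v).symm⟩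
    · exact Nat.card_congr (V'.equivMapOfInjective _ (MulAut.conj (f g)).injective).toEquiv
  have hmemC : ∀ g : G, f g ∈ Subgroup.centralizer (V' : Set Γ) → g ∈ C := by
    intro g hg
    refine Subgroup.mem_centralizer_iff.mpr fun v hv => ?_
    exact ((hcent g ⟨v, hv⟩).mp (Subgroup.mem_centralizer_iff.mp hg _ ⟨⟨v, hv⟩, rfl⟩).symm).symm
  have hfaith : H ⊓ Subgroup.centralizer (V' : Set Γ) = ⊥ := by
    refine le_bot_iff.mp ?_
    rintro _ ⟨⟨g, rfl⟩, hg⟩
    exact Subgroup.mem_bot.mpr (MonoidHom.mem_ker.mp (hfker.ge (hmemC g hg)))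
  -- self centralising
  have hQ : Cfsg.IsPSolvable p (G ⧸ C) := Cfsg.Agent.Lib.PLocal.isPSolvable_quotient C hsep
  have hH' : H = (⊤ : Subgroup (G ⧸ C)).map (SemidirectProduct.inr : G ⧸ C →* Γ) := by
    show (SemidirectProduct.inr.comp (QuotientGroup.mk' C) : G →* Γ).range = _
    rw [MonoidHom.range_comp, MonoidHom.range_eq_top.mpr (QuotientGroup.mk'_surjective C)]
  have hself : Subgroup.centralizer (Cfsg.pPrimeCore p ↥H : Set ↥H) ≤ Cfsg.pPrimeCore p ↥H := by
    let e : G ⧸ C ≃* ↥H := Subgroup.topEquiv.symm.trans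
      (((⊤ : Subgroup (G ⧸ C)).equivMapOfInjective _ SemidirectProduct.inr_injective).trans
        (MulEquiv.subgroupCongr hH'.symm))
    have h1 := Cfsg.Agent.Lib.Characters.centralizer_pPrimeCore_le_of_pCore_eq_bot p hQ hO
    intro x hx
    rw [← Cfsg.Agent.Lib.Cores.map_pPrimeCore_equiv e] at hx ⊢
    refine ⟨e.symm x, h1 (Subgroup.mem_centralizer_iff.mpr fun y hy => ?_), e.apply_symm_apply x⟩
    apply e.injective
    rw [map_mul, map_mul, e.apply_symm_apply]
    exact Subgroup.mem_centralizer_iff.mp hx _ ⟨y, hy, rfl⟩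
  have hc : CoprimeOffender.Ctx p V' H :=
    ⟨hV'e, hrangeN, hfaith, hself⟩
  -- the claim
  set π := QuotientGroup.mk' V with hπ
  suffices hJ : Cfsg.thompsonSubgroup p G ≤
      (Subgroup.centralizer ((Cfsg.omegaOne p (Cfsg.centerThompsonOf p C)).map π : Set (G ⧸ V))).comap π by
    refine Subgroup.commutator_le.mpr fun z hz a ha => (QuotientGroup.eq_one_iff _).mp ?_
    show π ⁅z, a⁆ = 1
    rw [map_commutatorElement, commutatorElement_eq_one_iff_mul_comm]
    exact Subgroup.mem_centralizer_iff.mp (hJ ha) _ ⟨z, hz, rfl⟩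
  refine sSup_le fun A hA a ha => ?_
  rw [Subgroup.mem_comap, Cfsg.omegaOne, MonoidHom.map_closure, Subgroup.centralizer_closure,
    Subgroup.mem_centralizer_iff]
  rintro _ ⟨z, ⟨hzZ, hzp⟩, rfl⟩
  have hAe : Cfsg.IsElementaryAbelian p (A.map f) := by
    refine ⟨⟨⟨?_⟩⟩, ?_⟩
    · rintro ⟨_, a, ha, rfl⟩ ⟨_, b, hb, rfl⟩
      refine Subtype.ext ?_
      show f a * f b = f b * f a
      rw [← map_mul, ← map_mul, CoprimeOffender.mul_comm_of_elem hA.1 ha hb]
    · rintro _ ⟨a, ha, rfl⟩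
      rw [← map_pow, hA.1.2 a ha, map_one]
  have hVcard : Nat.card ↥V' = Nat.card ↥V :=
    (Nat.card_congr (MonoidHom.ofInjective (SemidirectProduct.inl_injective (φ := actC V))).toEquiv).symm
  have hcl : Cfsg.IsElementaryAbelian p ((A ⊓ C) ⊔ V) := by
    rw [← Subgroup.closure_eq (A ⊓ C), ← Subgroup.closure_eq V, ← Subgroup.closure_union]
    refine Cfsg.Agent.Lib.PLocal.elemAb_closure ?_ ?_
    · rintro a (ha | ha) b (hb | hb)
      · exact CoprimeOffender.mul_comm_of_elem hA.1 ha.1 hb.1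
      · exact (Subgroup.mem_centralizer_iff.mp ha.2 b hb).symm
      · exact Subgroup.mem_centralizer_iff.mp hb.2 a ha
      · exact CoprimeOffender.mul_comm_of_elem hV ha hb
    · rintro a (ha | ha)
      · exact hA.1.2 a ha.1
      · exact hV.2 a ha
  have hcard : Nat.card ↥A ≤ Nat.card ↥((A ⊓ C) ⊔ V) := by
    have h1 := hc.fv_le_card (A := A.map f) (Subgroup.map_le_range f A) hAe
    rw [CoprimeOffender.fv, hVcard] at h1
    have h3 : Nat.card ↥(A.map f) * Nat.card ↥(A ⊓ C) = Nat.card ↥A := by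
      have := Cfsg.Agent.Lib.Cores.card_map_mul_card_inf_ker f A
      rwa [hfker] at this
    have h4 : Nat.card ↥((A ⊓ C) ⊓ V) ≤
        Nat.card ↥(V' ⊓ Subgroup.centralizer ((A.map f : Subgroup Γ) : Set Γ)) := by
      refine Nat.card_le_card_of_injective
        (fun x => ⟨SemidirectProduct.inl ⟨(x : G), x.2.2⟩, ⟨_, rfl⟩, ?_⟩) ?_
      · refine Subgroup.mem_centralizer_iff.mpr ?_
        rintro _ ⟨b, hb, rfl⟩
        exact ((hcent b ⟨(x : G), x.2.2⟩).mpr (CoprimeOffender.mul_comm_of_elem hA.1 hb x.2.1.1)).eq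
      · intro x y e
        have := SemidirectProduct.inl_injective (congrArg Subtype.val e)
        exact Subtype.ext (congrArg (fun v : ↥V => (v : G)) this)
    refine Nat.le_of_mul_le_mul_right ?_ (Nat.card_pos (α := ↥((A ⊓ C) ⊓ V)))
    calc Nat.card ↥A * Nat.card ↥((A ⊓ C) ⊓ V)
        ≤ Nat.card ↥A * Nat.card ↥(V' ⊓ Subgroup.centralizer ((A.map f : Subgroup Γ) : Set Γ)) :=
          Nat.mul_le_mul_left _ h4
      _ = Nat.card ↥(A ⊓ C) * (Nat.card ↥(A.map f) *
            Nat.card ↥(V' ⊓ Subgroup.centralizer ((A.map f : Subgroup Γ) : Set Γ))) := by rw [← h3]; ring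
      _ ≤ Nat.card ↥(A ⊓ C) * Nat.card ↥V := Nat.mul_le_mul_left _ h1
      _ ≤ _ := by rw [← Cfsg.Agent.Lib.Cores.card_sup_mul_card_inf (A ⊓ C) V]
  have hVC : V ≤ C := fun v hv => Subgroup.mem_centralizer_iff.mpr fun w hw =>
    CoprimeOffender.mul_comm_of_elem hV hw hv
  have hBC : (A ⊓ C) ⊔ V ≤ C := sup_le inf_le_right hVC
  have hBJ : (A ⊓ C) ⊔ V ≤ Cfsg.thompsonSubgroupOf p C := by
    intro b hb
    refine ⟨⟨b, hBC hb⟩, ?_, rfl⟩
    refine le_sSup (s := Cfsg.maxElementaryAbelianSubgroups p ↥C) (a := ((A ⊓ C) ⊔ V).subgroupOf C)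
      ⟨?_, fun D hD => ?_⟩ (show (⟨b, hBC hb⟩ : ↥C) ∈ ((A ⊓ C) ⊔ V).subgroupOf C from hb)
    · refine ⟨⟨⟨fun x y => ?_⟩⟩, fun x hx => Subtype.ext ?_⟩
      · exact Subtype.ext (Subtype.ext (CoprimeOffender.mul_comm_of_elem hcl x.2 y.2))
      · simpa using hcl.2 _ hx
    · rw [Nat.card_congr (Subgroup.subgroupOfEquivOfLe hBC).toEquiv]
      refine le_trans ?_ ((hA.2 (D.map C.subtype) ?_).trans hcard)
      · rw [Subgroup.card_map_of_injective C.subtype_injective]
      · refine ⟨⟨⟨?_⟩⟩, ?_⟩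
        · rintro ⟨_, u, hu, rfl⟩ ⟨_, v, hv, rfl⟩
          exact Subtype.ext (congrArg (fun x : ↥C => (x : G)) (CoprimeOffender.mul_comm_of_elem hD hu hv))
        · rintro _ ⟨u, hu, rfl⟩
          rw [← map_pow, hD.2 u hu, map_one]
  have hzB : z ∈ (A ⊓ C) ⊔ V := by
    have hclz : Cfsg.IsElementaryAbelian p (((A ⊓ C) ⊔ V) ⊔ Subgroup.zpowers z) := by
      rw [← Subgroup.closure_eq ((A ⊓ C) ⊔ V), Subgroup.zpowers_eq_closure, ← Subgroup.closure_union]
      refine Cfsg.Agent.Lib.PLocal.elemAb_closure ?_ ?_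
      · rintro b (hb | rfl) d (hd | rfl)
        · exact CoprimeOffender.mul_comm_of_elem hcl hb hd
        · exact Subgroup.mem_centralizer_iff.mp hzZ.2 b (hBJ hb)
        · exact (Subgroup.mem_centralizer_iff.mp hzZ.2 d (hBJ hd)).symm
        · rfl
      · rintro b (hb | rfl)
        · exact hcl.2 b hb
        · exact hzp
    have e := Subgroup.eq_of_le_of_card_ge (le_sup_left : (A ⊓ C) ⊔ V ≤ _)
      ((hA.2 _ hclz).trans hcard)
    rw [e]
    exact Subgroup.mem_sup_right (Subgroup.mem_zpowers z)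
  have hzB' : z ∈ (↑((A ⊓ C) ⊔ V) : Set G) := hzB
  rw [Subgroup.mul_normal] at hzB'
  obtain ⟨b, hb, v, hv, rfl⟩ := hzB'
  show π (b * v) * π a = π a * π (b * v)
  rw [map_mul, show π v = 1 from (QuotientGroup.eq_one_iff v).mpr hv, mul_one, ← map_mul, ← map_mul,
    CoprimeOffender.mul_comm_of_elem hA.1 hb.1 ha]

end Cfsg.Agent.S0619
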