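import Cfsg.Statements.S0620
import Cfsg.Agent.Lib.FusionControl.FactorFrame

set_option autoImplicit false
open Cfsg

namespace Cfsg.Agent.S0620

open Cfsg.Agent.Lib.FusionControl

/-- Under coprime action of an elementary abelian q-group X on a p-separable group K with trivial p'-core, K is generated by the normalizer of J(S), the centralizer of Ω₁(Z(S)) and the fixed points of X. -/
theorem result {G : Type*} [Group G] [Finite G] {p : ℕ} [Fact p.Prime] {q : ℕ} [Fact q.Prime] (K X : Subgroup G) (hXK : X ≤ Subgroup.normalizer (K : Set G)) (hX : Cfsg.IsElementaryAbelian q X) (hq : ¬ q ∣ Nat.card K) (hsep : Cfsg.IsPSolvable p ↥K) (hO : Cfsg.pPrimeCore p ↥K = ⊥) (S : Sylow p ↥K) : (Subgroup.normalizer (Cfsg.thompsonSubgroupOf p (S : Subgroup ↥K) : Set ↥K) ⊔ Subgroup.centralizer (Cfsg.omegaOne p ((S : Subgroup ↥K) ⊓ Subgroup.centralizer ((S : Subgroup ↥K) : Set ↥K)) : Set ↥K) ⊔ (Subgroup.centralizer (X : Set G)).subgroupOf K) = ⊤ := by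
  classical
  obtain ⟨Γ, _, _, f, V₀, e, -, -, hfV, hfH, -, -, -, hkerZ, hc, hgen⟩ :=
    FactorFrame.exists_frame K hsep hO
  set J := Cfsg.thompsonSubgroup p ↥K with hJ
  set fK : ↥K →* Γ := f.comp (FactorFrame.incl K) with hfK
  set T := (Subgroup.normalizer (Cfsg.thompsonSubgroupOf p (S : Subgroup ↥K) : Set ↥K) ⊔ Subgroup.centralizer (Cfsg.omegaOne p ((S : Subgroup ↥K) ⊓ Subgroup.centralizer ((S : Subgroup ↥K) : Set ↥K)) : Set ↥K) ⊔ (Subgroup.centralizer (X : Set G)).subgroupOf K) with hT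
  have hkT : fK.ker ≤ T := (hkerZ S).trans (le_sup_right.trans le_sup_left)
  have hST : (S : Subgroup ↥K) ≤ T := (Cfsg.Agent.Lib.PLocal.sylow_le_normalizer_thompsonSubgroupOf S).trans
    (le_sup_left.trans le_sup_left)
  have hJn : J.Normal := by
    have : J.Characteristic := Cfsg.Agent.Lib.Cores.characteristic_of_map_le fun φ =>
      le_of_eq (Cfsg.Agent.Lib.PLocal.map_thompsonSubgroup_equiv φ)
    infer_instance
  have key : J.map fK ≤ T.map fK := by
    by_cases htv : ∃ A, CoprimeOffender.IsTv p e.range (J.map fK) A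
    · obtain ⟨A, hA⟩ := htv
      have hq5 := FactorFrame.five_le J fK hc hA hq
      refine hc.le_of_sylow_fixed hgen (Fact.out : q.Prime) hq5
        ((X.subgroupOf (Subgroup.normalizer (K : Set G))).map f)
        ((Subgroup.map_le_range f _).trans hfV) ((Subgroup.map_le_range f _).trans hfH) ?_
        ((S : Subgroup ↥K).map fK) (fun A hA hAp => FactorFrame.exists_conj_le J fK S A hA hAp)
        (T.map fK) (Subgroup.map_mono hST) ?_
      · rintro _ ⟨x, hx, rfl⟩
        rw [← map_pow, show x ^ q = 1 from Subtype.ext (hX.2 x hx), map_one]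
      · rintro _ ⟨⟨j, -, rfl⟩, hj⟩
        obtain ⟨m, hm, hme⟩ := FactorFrame.exists_lift hXK hX hq f j rfl fun x hx =>
          Subgroup.mem_centralizer_iff.mp hj _ ⟨⟨x, hXK hx⟩, hx, rfl⟩
        exact ⟨m, (le_sup_right : _ ≤ T) hm, hme⟩
    · exact (hgen ⊥ fun B hB => absurd ⟨B, hB⟩ htv).trans bot_le
  have hJT : J ≤ T := by
    intro j hj
    obtain ⟨t, ht, e⟩ := key ⟨j, hj, rfl⟩
    have : t⁻¹ * j ∈ fK.ker := by rw [MonoidHom.mem_ker, map_mul, map_inv, e, inv_mul_cancel]
    have := mul_mem ht (hkT this)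
    rwa [mul_inv_cancel_left] at this
  have hJS : Cfsg.thompsonSubgroupOf p (S : Subgroup ↥K) ≤ J := by
    rw [hJ, Cfsg.Agent.Lib.PLocal.thompsonSubgroup_eq_iSup_sylow]
    exact le_iSup (fun S : Sylow p ↥K => Cfsg.thompsonSubgroupOf p (S : Subgroup ↥K)) S
  rw [eq_top_iff, ← Cfsg.Agent.Lib.PLocal.sup_normalizer_thompson_eq_top S J hJS]
  exact sup_le hJT (le_sup_left.trans le_sup_left)

end Cfsg.Agent.S0620
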