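import Cfsg.Statements.S0621
import Cfsg.Agent.Lib.FusionControl.FactorFrame
import Cfsg.Agent.S0608

set_option autoImplicit false
open Cfsg

namespace Cfsg.Agent.S0621

open Cfsg.Agent.Lib.FusionControl

/-- Let K be p-separable with O_p'(K) = 1, normalized by an elementary abelian q-group X for a prime q not dividing the order of K. If the Thompson factorization fails in K, then p is 2 or 3 and the fixed points of X contain a plane W of order p² and a subgroup inducing SL(2, p) on it. -/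
theorem result {G : Type*} [Group G] [Finite G] {p : ℕ} [Fact p.Prime] {q : ℕ} [Fact q.Prime] (K X : Subgroup G) (hXK : X ≤ Subgroup.normalizer (K : Set G)) (hX : Cfsg.IsElementaryAbelian q X) (hq : ¬ q ∣ Nat.card K) (hsep : Cfsg.IsPSolvable p ↥K) (hO : Cfsg.pPrimeCore p ↥K = ⊥) (hnf : ¬ Cfsg.IsThompsonFactorizable p ↥K) : (p = 2 ∨ p = 3) ∧ ∃ W D : Subgroup G, W ≤ K ⊓ Subgroup.centralizer (X : Set G) ∧ D ≤ K ⊓ Subgroup.centralizer (X : Set G) ∧ Cfsg.IsElementaryAbelian p W ∧ Nat.card W = p ^ 2 ∧ D ≤ Subgroup.normalizer (W : Set G) ∧ ∃ hn : ((Subgroup.centralizer (W : Set G)).subgroupOf D).Normal, Nonempty ((↥D ⧸ (Subgroup.centralizer (W : Set G)).subgroupOf D) ≃* Matrix.SpecialLinearGroup (Fin 2) (ZMod p)) := by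
  classical
  obtain ⟨Γ, _, _, f, V₀, e, hV₀e, he, hfV, hfH, hcent, hconj, -, hkerZ, hc, hgen⟩ :=
    FactorFrame.exists_frame K hsep hO
  set J := Cfsg.thompsonSubgroup p ↥K with hJ
  set fK : ↥K →* Γ := f.comp (FactorFrame.incl K) with hfK
  obtain ⟨A, hA⟩ : ∃ A, CoprimeOffender.IsTv p e.range (J.map fK) A := by
    by_contra hno
    have h1 := hgen ⊥ fun B hB => absurd ⟨B, hB⟩ hno
    rw [Subgroup.map_le_iff_le_comap, MonoidHom.comap_bot] at h1
    refine hnf ((Cfsg.Agent.S0608.result hO).mpr ?_)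
    rw [Subgroup.le_centralizer_iff]
    exact iSup_le fun S => Subgroup.le_centralizer_iff.mp (h1.trans (hkerZ S))
  have hp3 := hc.prime_le_three hA
  have hq5 := FactorFrame.five_le J fK hc hA hq
  set R := (X.subgroupOf (Subgroup.normalizer (K : Set G))).map f with hR
  obtain ⟨W', D', hW', hD', hWcard, hDN, hDC, ⟨eD⟩⟩ := hc.exists_fixed_plane hA hgen (Fact.out : q.Prime)
    hq5 R ((Subgroup.map_le_range f _).trans hfV) ((Subgroup.map_le_range f _).trans hfH) (by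
      rintro _ ⟨x, hx, rfl⟩
      rw [← map_pow, show x ^ q = 1 from Subtype.ext (hX.2 x hx), map_one])
  set W : Subgroup G := ((W'.comap e).map V₀.subtype).map K.subtype with hW
  set D₀ : Subgroup ↥K := D'.comap fK ⊓ (Subgroup.centralizer (X : Set G)).subgroupOf K with hD₀
  set D : Subgroup G := D₀.map K.subtype with hD
  have hDsurj : ∀ d ∈ D', ∃ m ∈ D₀, fK m = d := by
    intro d hd
    obtain ⟨j, -, ej⟩ := (hD' hd).1
    obtain ⟨m, hm, hme⟩ := FactorFrame.exists_lift hXK hX hq f j ej fun x hx =>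
      Subgroup.mem_centralizer_iff.mp (hD' hd).2 _ ⟨⟨x, hXK hx⟩, hx, rfl⟩
    exact ⟨m, ⟨show f (FactorFrame.incl K m) ∈ D' by rw [hme]; exact hd, hm⟩, hme⟩
  have hWe : ∀ w ∈ W', ∃ v : ↥V₀, e v = w ∧ ((v : ↥K) : G) ∈ W := by
    intro w hw
    obtain ⟨v, rfl⟩ := (hW' hw).1
    exact ⟨v, rfl, _, ⟨v, hw, rfl⟩, rfl⟩
  have hcentD : ∀ m : ↥K, (m : G) ∈ Subgroup.centralizer (W : Set G) ↔
      fK m ∈ Subgroup.centralizer (W' : Set Γ) := by
    intro m
    constructor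
    · intro h
      refine Subgroup.mem_centralizer_iff.mpr fun w hw => ?_
      obtain ⟨v, rfl, hv⟩ := hWe w hw
      exact ((hcent (FactorFrame.incl K m) v).mpr (Subgroup.mem_centralizer_iff.mp h _ hv).symm).symm.eq
    · intro h
      refine Subgroup.mem_centralizer_iff.mpr ?_
      rintro _ ⟨_, ⟨v, hv, rfl⟩, rfl⟩
      exact ((hcent (FactorFrame.incl K m) v).mp
        (Subgroup.mem_centralizer_iff.mp h _ hv).symm).symm
  have hWcardG : Nat.card W = p ^ 2 := by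
    rw [hW, Subgroup.card_map_of_injective K.subtype_injective,
      Subgroup.card_map_of_injective V₀.subtype_injective, ← hWcard]
    exact Nat.card_congr (Equiv.ofBijective (fun v : ↥(W'.comap e) => (⟨e v, v.2⟩ : ↥W'))
      ⟨fun v v' h => Subtype.ext (he (congrArg Subtype.val h)), fun w => by
        obtain ⟨v, hv⟩ := (hW' w.2).1
        exact ⟨⟨v, by rw [Subgroup.mem_comap, hv]; exact w.2⟩, Subtype.ext hv⟩⟩)
  refine ⟨hp3, W, D, le_inf (Subgroup.map_subtype_le _) ?_, ?_, ?_, hWcardG, ?_, ?_⟩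
  · rintro _ ⟨_, ⟨v, hv, rfl⟩, rfl⟩
    refine Subgroup.mem_centralizer_iff.mpr fun x hx => ?_
    exact (hcent ⟨x, hXK hx⟩ v).mp (Subgroup.mem_centralizer_iff.mp (hW' hv).2 _ ⟨_, hx, rfl⟩)
  · rintro _ ⟨m, hm, rfl⟩
    exact ⟨m.2, hm.2⟩
  · refine ⟨⟨⟨?_⟩⟩, ?_⟩
    · rintro ⟨_, _, ⟨a, -, rfl⟩, rfl⟩ ⟨_, _, ⟨b, -, rfl⟩, rfl⟩
      exact Subtype.ext (congrArg (fun x : ↥K => (x : G)) (CoprimeOffender.mul_comm_of_elem hV₀e a.2 b.2))
    · rintro _ ⟨_, ⟨a, -, rfl⟩, rfl⟩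
      rw [← map_pow, ← map_pow, show a ^ p = 1 from Subtype.ext (by simpa using hV₀e.2 a a.2), map_one, map_one]
  · rintro _ ⟨m, hm, rfl⟩
    refine Subgroup.mem_normalizer_iff_map_conj_eq.mpr (Subgroup.eq_of_le_of_card_ge ?_ (le_of_eq ?_))
    · rintro _ ⟨_, ⟨_, ⟨v, hv, rfl⟩, rfl⟩, rfl⟩
      obtain ⟨w, hw, hwe⟩ := hconj m v
      refine ⟨_, ⟨w, ?_, rfl⟩, ?_⟩
      · show e w ∈ W'
        rw [hwe]
        exact (Subgroup.mem_normalizer_iff.mp (hDN hm.1) _).mp hv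
      · exact congrArg Subtype.val hw
    · exact Nat.card_congr (W.equivMapOfInjective _ (MulAut.conj (m : G)).injective).toEquiv
  · have hDn : ((Subgroup.centralizer (W : Set G)).subgroupOf D).Normal := by
      refine ⟨fun c hc d => ?_⟩
      obtain ⟨⟨_, ⟨m, hm, rfl⟩⟩, ⟨_, ⟨m', hm', rfl⟩⟩⟩ := c, d
      replace hc : (m : G) ∈ Subgroup.centralizer (W : Set G) := hc
      show ((m' * m * m'⁻¹ : ↥K) : G) ∈ Subgroup.centralizer (W : Set G)
      rw [hcentD] at hc ⊢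
      have h1 : fK m = 1 := Subgroup.mem_bot.mp (hDC ▸ (⟨hm.1, hc⟩ : fK m ∈ D' ⊓ Subgroup.centralizer (W' : Set Γ)))
      rw [map_mul, map_mul, map_inv, h1, mul_one, mul_inv_cancel]
      exact one_mem _
    refine ⟨hDn, ⟨?_⟩⟩
    let φ : ↥D →* ↥D' :=
      { toFun := fun d => ⟨fK ⟨d, Subgroup.map_subtype_le _ d.2⟩, by
          obtain ⟨m, hm, hme⟩ := d.2
          have : (⟨(d : G), Subgroup.map_subtype_le _ d.2⟩ : ↥K) = m := Subtype.ext hme.symm
          rw [this]; exact hm.1⟩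
        map_one' := Subtype.ext (map_one fK)
        map_mul' := fun a b => Subtype.ext (fK.map_mul ⟨a, _⟩ ⟨b, _⟩) }
    have hφs : Function.Surjective φ := fun d => by
      obtain ⟨m, hm, hme⟩ := hDsurj d d.2
      exact ⟨⟨(m : G), m, hm, rfl⟩, Subtype.ext hme⟩
    have hφk : φ.ker = (Subgroup.centralizer (W : Set G)).subgroupOf D := by
      ext d
      obtain ⟨_, m, hm, rfl⟩ := d
      rw [MonoidHom.mem_ker, Subgroup.mem_subgroupOf, Subtype.ext_iff]
      show fK m = 1 ↔ (m : G) ∈ Subgroup.centralizer (W : Set G)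
      rw [hcentD]
      exact ⟨fun h => h ▸ one_mem _, fun h => Subgroup.mem_bot.mp (hDC ▸
        (⟨hm.1, h⟩ : fK m ∈ D' ⊓ Subgroup.centralizer (W' : Set Γ)))⟩
    exact ((QuotientGroup.quotientMulEquivOfEq hφk.symm).trans
      (QuotientGroup.quotientKerEquivOfSurjective φ hφs)).trans eD

end Cfsg.Agent.S0621
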