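import Cfsg.Statements.S0627
import Cfsg.Statements.S0627
import Cfsg.Agent.Lib.PLocal.NoSLTwo

set_option autoImplicit false
open Cfsg

namespace Cfsg.Agent.S0627

/-- In a p-separable group with p at least 5, the normalizer of W(S) supplements the largest normal subgroup of order prime to p. -/
theorem result {G : Type*} [Group G] [Finite G] {p : ℕ} [Fact p.Prime] (hp : 5 ≤ p) (hsep : Cfsg.IsPSolvable p G) (S : Sylow p G) : Cfsg.pPrimeCore p G ⊔ Subgroup.normalizer (((Cfsg.stableNormalClosure p ↥(S : Subgroup G)).map (S : Subgroup G).subtype) : Set G) = ⊤ := by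
  have hp2 : p ≠ 2 := by omega
  set O := Cfsg.pPrimeCore p G with hO
  haveI : O.Normal := by rw [hO]; infer_instance
  set π := QuotientGroup.mk' O with hπ
  have hπs : Function.Surjective π := QuotientGroup.mk'_surjective O
  have hsepq : Cfsg.IsPSolvable p (G ⧸ O) := Lib.PLocal.isPSolvable_quotient O hsep
  have hc := Lib.Blocks.centralizer_pCore_le_of_isPSolvable p hsepq
    (Lib.Cores.pPrimeCore_quotient_pPrimeCore p G)
  have hn : (Cfsg.inducedFunctor (Lib.PLocal.stableW p) ((S : Subgroup G).map π) : Subgroup (G ⧸ O)).Normal := by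
    have h1 := Lib.PLocal.stableOf_normal ((Lib.PLocal.noSLTwo_of_pSolvable hp hsepq).actionPStable hp2) hc
      (S.mapSurjective hπs)
    rw [Sylow.coe_mapSurjective] at h1
    exact h1
  rw [eq_top_iff]
  intro g _
  obtain ⟨n, hnN, hng⟩ := Lib.FusionControl.exists_lift_step Lib.PLocal.isCharPFunctor_stableW S (x := π g)
    (by rw [Subgroup.normalizer_eq_top_iff.2 hn]; exact Subgroup.mem_top _)
  have h1 : g * n⁻¹ ∈ O := by
    refine (QuotientGroup.eq_one_iff _).1 ?_
    show π (g * n⁻¹) = 1
    rw [map_mul, map_inv, hng, mul_inv_cancel]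
  have h2 : n ∈ Subgroup.normalizer (((Cfsg.stableNormalClosure p ↥(S : Subgroup G)).map
      (S : Subgroup G).subtype : Subgroup G) : Set G) := hnN
  have h3 := mul_mem (Subgroup.mem_sup_left (T := Subgroup.normalizer (((Cfsg.stableNormalClosure p ↥(S : Subgroup G)).map
      (S : Subgroup G).subtype : Subgroup G) : Set G)) h1) (Subgroup.mem_sup_right h2)
  rwa [inv_mul_cancel_right] at h3

end Cfsg.Agent.S0627
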