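import Cfsg.Statements.S0629
import Cfsg.Agent.Lib.Blocks.PSolvable
import Cfsg.Agent.Lib.PLocal.NoSLTwo
import Cfsg.Agent.Lib.Cores.PCore
import Cfsg.Agent.Lib.Components.Constrained

set_option autoImplicit false
open Cfsg

namespace Cfsg.Agent.S0629

/-- A group in which the centralizer of a Sylow p-subgroup of O_{p',p}(G) is p-solvable is p-constrained. -/
theorem result {G : Type*} [Group G] [Finite G] {p : ℕ} [Fact p.Prime] (P : Sylow p ↥(Cfsg.pPrimePCore p G)) (hsol : Cfsg.IsPSolvable p ↥(Subgroup.centralizer (((P : Subgroup ↥(Cfsg.pPrimePCore p G)).map (Cfsg.pPrimePCore p G).subtype : Subgroup G) : Set G))) : Cfsg.IsPConstrained p G := by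
  set O := Cfsg.pPrimeCore p G with hO
  set q := QuotientGroup.mk' O with hq
  set R := Cfsg.pCore p (G ⧸ O) with hR
  set PG := ((P : Subgroup ↥(Cfsg.pPrimePCore p G)).map (Cfsg.pPrimePCore p G).subtype) with hPG
  set D := Subgroup.centralizer (R : Set (G ⧸ O)) with hD
  haveI : D.Normal := by rw [hD]; infer_instance
  have himg : (Subgroup.centralizer (PG : Set G)).map q = D := by
    have h := Lib.Components.comap_centralizer_pCore_quotient p P
    have h2 := congrArg (Subgroup.map q) h
    rw [Subgroup.map_comap_eq_self_of_surjective (QuotientGroup.mk'_surjective O), Subgroup.map_sup,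
      QuotientGroup.map_mk'_self, sup_bot_eq] at h2
    exact h2.symm
  let f : ↥(Subgroup.centralizer (PG : Set G)) →* D :=
    (q.comp (Subgroup.centralizer (PG : Set G)).subtype).codRestrict D
      fun x => himg ▸ Subgroup.mem_map_of_mem q x.2
  have hf : Function.Surjective f := by
    rintro ⟨d, hd⟩
    obtain ⟨x, hx, hxd⟩ := himg.symm.le hd
    exact ⟨⟨x, hx⟩, Subtype.ext hxd⟩
  have hsD : Cfsg.IsPSolvable p D := by
    obtain ⟨n, H, h0, h1, hm, hn, hi⟩ :=
      Lib.PLocal.isPSolvable_quotient f.ker hsol
    let e := QuotientGroup.quotientKerEquivOfSurjective f hf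
    refine ⟨n, fun i => (H i).map e.toMonoidHom, by simp [h0],
      by simp only [h1]; exact Subgroup.map_top_of_surjective _ e.surjective,
      fun i j hij => Subgroup.map_mono (hm hij), fun i => (hn i).map _ e.surjective, fun i => ?_⟩
    simp only [Subgroup.relIndex_map_map_of_injective (f := e.toMonoidHom) _ _ e.injective]
    exact hi i
  have hcore : Cfsg.pPrimeCore p D = ⊥ := by
    have h := Lib.Cores.map_subtype_pPrimeCore_eq (p := p) D
    rw [Lib.Cores.pPrimeCore_quotient_pPrimeCore p G, inf_bot_eq] at h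
    exact (Subgroup.map_eq_bot_iff_of_injective _ D.subtype_injective).mp h
  have hc := Lib.Blocks.centralizer_pCore_le_of_isPSolvable p hsD hcore
  have hle : D ≤ R := by
    intro d hd
    have h1 : (⟨d, hd⟩ : D) ∈ Subgroup.centralizer (Cfsg.pCore p D : Set D) := by
      rw [Subgroup.mem_centralizer_iff]
      intro x hx
      have hxR : (x : G ⧸ O) ∈ R :=
        ((Lib.Cores.map_subtype_pCore_eq (p := p) D).le (Subgroup.mem_map_of_mem D.subtype hx)).2
      exact Subtype.ext (Subgroup.mem_centralizer_iff.mp hd _ hxR)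
    exact ((Lib.Cores.map_subtype_pCore_eq (p := p) D).le (Subgroup.mem_map_of_mem D.subtype (hc h1))).2
  intro P'
  refine le_trans ?_ (Subgroup.comap_mono hle)
  exact le_sup_left.trans (Lib.Components.comap_centralizer_pCore_quotient p P').ge

end Cfsg.Agent.S0629
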