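import Cfsg.Statements.S0630
import Cfsg.Agent.Lib.Components.Constrained

set_option autoImplicit false
open Cfsg

namespace Cfsg.Agent.S0630

set_option linter.style.haveILetI false

/-- p-constraint passes to and from the quotient by the largest normal subgroup of order prime to p. -/
theorem result {G : Type*} [Group G] [Finite G] {p : ℕ} [Fact p.Prime] : Cfsg.IsPConstrained p G ↔ Cfsg.IsPConstrained p (G ⧸ Cfsg.pPrimeCore p G) := by
  rw [Cfsg.Agent.Lib.Components.isPConstrained_iff, Cfsg.Agent.Lib.Components.isPConstrained_iff,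
    Cfsg.Agent.Lib.Components.pLayer_eq_bot_iff, Cfsg.Agent.Lib.Components.pLayer_eq_bot_iff]
  have h0 := Cfsg.Agent.Lib.Components.pPrimeCore_quotient_eq_bot (G := G) p
  let e : ((G ⧸ Cfsg.pPrimeCore p G) ⧸ Cfsg.pPrimeCore p (G ⧸ Cfsg.pPrimeCore p G)) ≃*
      G ⧸ Cfsg.pPrimeCore p G :=
    (QuotientGroup.quotientMulEquivOfEq h0).trans QuotientGroup.quotientBot
  rw [← Cfsg.Agent.Lib.Components.map_layer_mulEquiv e,
    Subgroup.map_eq_bot_iff_of_injective _ e.injective]

end Cfsg.Agent.S0630
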