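import Cfsg.Statements.S0631
import Cfsg.Statements.S0631
import Cfsg.Agent.Lib.Components.Local
import Cfsg.Agent.Lib.Cores.PCore

set_option autoImplicit false
open Cfsg

namespace Cfsg.Agent.S0631

/-- In a p-constrained group the normalizer and the centralizer of any p-subgroup are again p-constrained. -/
theorem result {G : Type*} [Group G] [Finite G] {p : ℕ} [Fact p.Prime] (hG : Cfsg.IsPConstrained p G) (P : Subgroup G) (hP : IsPGroup p P) : Cfsg.IsPConstrained p ↥(Subgroup.normalizer (P : Set G)) ∧ Cfsg.IsPConstrained p ↥(Subgroup.centralizer (P : Set G)) := by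
  have hL := (Lib.Components.isPConstrained_iff (G := G) p).1 hG
  obtain ⟨hN, -⟩ := Lib.Components.pLayer_normalizer_eq_bot hL hP
  refine ⟨(Lib.Components.isPConstrained_iff p).2 hN, (Lib.Components.isPConstrained_iff p).2 ?_⟩
  set N := Subgroup.normalizer (P : Set G) with hNdef
  set C := Subgroup.centralizer (P : Set G) with hCdef
  have hCN : C ≤ N := Subgroup.centralizer_le_normalizer _
  have hCn : (C.subgroupOf N).Normal := by
    rw [show C.subgroupOf N = P.normalizerMonoidHom.ker from
      (Subgroup.normalizerMonoidHom_ker P).symm]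
    infer_instance
  let e := Subgroup.subgroupOfEquivOfLe hCN
  set q := QuotientGroup.mk' (Cfsg.pPrimeCore p ↥N) with hq
  let g : ↥(C.subgroupOf N) →* ↥((C.subgroupOf N).map q) := q.subgroupMap _
  let f : ↥C →* ↥((C.subgroupOf N).map q) := g.comp e.symm.toMonoidHom
  have hf : Function.Surjective f :=
    (q.subgroupMap_surjective _).comp e.symm.surjective
  have hker : f.ker = Cfsg.pPrimeCore p ↥C := by
    rw [← Lib.Cores.map_pPrimeCore_equiv e]
    ext x
    rw [Subgroup.mem_map_equiv, MonoidHom.mem_ker]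
    have h := Lib.Cores.map_subtype_pPrimeCore_eq (p := p) (C.subgroupOf N)
    constructor
    · intro hx
      have h1 : ((e.symm x : ↥(C.subgroupOf N)) : ↥N) ∈ C.subgroupOf N ⊓ Cfsg.pPrimeCore p ↥N :=
        ⟨(e.symm x).2, (QuotientGroup.eq_one_iff _).1 (congrArg Subtype.val hx)⟩
      rw [← h] at h1
      obtain ⟨y, hy, hye⟩ := h1
      rwa [← show y = e.symm x from Subtype.ext hye]
    · intro hx
      refine Subtype.ext ((QuotientGroup.eq_one_iff _).2 ?_)
      exact (h.le ⟨_, hx, rfl⟩).2
  rw [Lib.Components.pLayer_eq_bot_iff]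
  have hnorm : ((C.subgroupOf N).map q).Normal := hCn.map q (QuotientGroup.mk'_surjective _)
  have hY := Lib.Components.layer_eq_bot_of_subnormal hnorm.isSubnormal
    ((Lib.Components.pLayer_eq_bot_iff p).1 hN)
  let e' : ↥C ⧸ Cfsg.pPrimeCore p ↥C ≃* ↥((C.subgroupOf N).map q) :=
    (QuotientGroup.quotientMulEquivOfEq hker.symm).trans
      (QuotientGroup.quotientKerEquivOfSurjective f hf)
  apply Subgroup.map_injective (f := e'.toMonoidHom) e'.injective
  rw [Lib.Components.map_layer_mulEquiv, hY, Subgroup.map_bot]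

end Cfsg.Agent.S0631
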