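import Cfsg.Statements.S0633
import Cfsg.Agent.Lib.HallHigman.TheoremB

set_option autoImplicit false
open Cfsg

namespace Cfsg.Agent.S0633

/-- Theorem B of Hall and Higman on the minimal polynomial of a p-element of order p^n in a p-solvable linear group on a nonzero vector space in characteristic p with no nontrivial normal p-subgroup: its degree is p^n, except when some p^n₀ - 1 (n₀ ≤ n) is a power of a prime q for which the Sylow q-subgroups are non-abelian, in which case the degree is at least p^(n-n₀)(p^n₀ - 1). -/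
theorem result {F : Type*} [Field F] {p : ℕ} [Fact p.Prime] [CharP F p] {V : Type*} [AddCommGroup V] [Module F V] [FiniteDimensional F V] [Nontrivial V] (H : Subgroup (V ≃ₗ[F] V)) [Finite H] (hsol : Cfsg.IsPSolvable p H) (hOp : Cfsg.pCore p H = ⊥) (x : V ≃ₗ[F] V) (hx : x ∈ H) (n : ℕ) (hn : orderOf x = p ^ n) (r : ℕ) (hr : minpoly F (x : Module.End F V) = (Polynomial.X - 1) ^ r) : r = p ^ n ∨ ∃ n₀ q m : ℕ, 1 ≤ n₀ ∧ n₀ ≤ n ∧ q.Prime ∧ 1 ≤ m ∧ p ^ n₀ - 1 = q ^ m ∧ (∀ Q : Sylow q H, ¬ IsMulCommutative Q) ∧ p ^ (n - n₀) * (p ^ n₀ - 1) ≤ r := by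
  classical
  set x' : H := ⟨x, hx⟩ with hx'
  have hxo : orderOf x' = p ^ n := by rw [← hn, Subgroup.orderOf_mk]
  let ρ : H →* Module.End F V :=
    { toFun := fun h => ((h : V ≃ₗ[F] V) : Module.End F V)
      map_one' := rfl
      map_mul' := fun a b => rfl }
  have hρ : Function.Injective ρ := fun a b h => Subtype.ext (LinearEquiv.toLinearMap_injective h)
  have hxx : (x : Module.End F V) = ρ x' := rfl
  rw [hxx] at hr
  have haev := minpoly.aeval F (ρ x')
  rw [hr] at haev
  simp only [map_pow, map_sub, Polynomial.aeval_X, map_one] at haev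
  have hdvd : minpoly F (ρ x') ∣ (Polynomial.X - 1) ^ (p ^ n) := minpoly.dvd F _ (by
    have h1 : ((Polynomial.X : Polynomial F) - 1) ^ p ^ n = Polynomial.X ^ p ^ n - 1 := by
      rw [sub_pow_char_pow, one_pow]
    rw [h1, map_sub, map_pow, Polynomial.aeval_X, map_one, sub_eq_zero, ← map_pow, ← hxo, pow_orderOf_eq_one, map_one])
  have hX : ((Polynomial.X : Polynomial F) - 1) ≠ 0 := by
    simpa using (Polynomial.X_sub_C_ne_zero (1 : F))
  have hle : r ≤ p ^ n := by
    have := Polynomial.natDegree_le_of_dvd hdvd (pow_ne_zero _ hX)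
    rw [hr, Polynomial.natDegree_pow, Polynomial.natDegree_pow, ← Polynomial.C_1, Polynomial.natDegree_X_sub_C] at this
    simpa using this
  have hr0 : r ≠ 0 := fun e => by
    rw [e, pow_zero] at haev
    exact one_ne_zero haev
  rcases Nat.eq_zero_or_pos n with rfl | hn0
  · left; simp only [pow_zero] at hle ⊢; omega
  rcases Cfsg.Agent.Lib.HallHigman.theoremB hsol hOp ρ hρ x' hn0 hxo haev with h | h
  · exact Or.inl (le_antisymm hle h)
  · exact Or.inr h

end Cfsg.Agent.S0633
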