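import Cfsg.Statements.S0634
import Cfsg.Agent.Lib.Blocks.PSolvable
import Cfsg.Agent.Lib.PLocal.NoSLTwo
import Cfsg.Agent.Lib.Cores.PCore
import Cfsg.Agent.Lib.PLength.Basic

set_option autoImplicit false
open Cfsg

namespace Cfsg.Agent.S0634

/-- In a p-soluble group each p-factor of the upper p-series contains its own centralizer in the corresponding quotient. -/
theorem result {G : Type*} [Group G] [Finite G] {p : ℕ} [Fact p.Prime] (hsol : Cfsg.IsPSolvable p G) (k : ℕ) : Subgroup.centralizer ((((Cfsg.upperPSeries p G (2 * k + 2)).1.map (QuotientGroup.mk' (Cfsg.upperPSeries p G (2 * k + 1)).1)) : Subgroup (G ⧸ (Cfsg.upperPSeries p G (2 * k + 1)).1)) : Set (G ⧸ (Cfsg.upperPSeries p G (2 * k + 1)).1)) ≤ (Cfsg.upperPSeries p G (2 * k + 2)).1.map (QuotientGroup.mk' (Cfsg.upperPSeries p G (2 * k + 1)).1) := by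
  set U := (Cfsg.upperPSeries p G (2 * k)).1 with hU
  set U1 := (Cfsg.upperPSeries p G (2 * k + 1)).1 with hU1
  haveI : U.Normal := (Cfsg.upperPSeries p G (2 * k)).2
  haveI hn1 : U1.Normal := (Cfsg.upperPSeries p G (2 * k + 1)).2
  have e1 : U1 = (Cfsg.pPrimeCore p (G ⧸ U)).comap (QuotientGroup.mk' U) := by
    show (Cfsg.upperPSeries p G (2 * k + 1)).1 = _
    rw [Cfsg.upperPSeries]
    split_ifs with h
    · rfl
    · exact absurd (even_two_mul k) h
  have e2 : (Cfsg.upperPSeries p G (2 * k + 2)).1 =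
      (Cfsg.pCore p (G ⧸ U1)).comap (QuotientGroup.mk' U1) := by
    show (Cfsg.upperPSeries p G (2 * k + 1 + 1)).1 = _
    rw [Cfsg.upperPSeries]
    split_ifs with h
    · exact absurd h (by simp [parity_simps])
    · rfl
  have hbot : Cfsg.pPrimeCore p (G ⧸ U1) = ⊥ := by
    set q := QuotientGroup.mk' U1
    set T := (Cfsg.pPrimeCore p (G ⧸ U1)).comap q with hT
    have hle : U ≤ U1 := by
      rw [e1]; intro x hx
      rw [Subgroup.mem_comap, show QuotientGroup.mk' U x = 1 from (QuotientGroup.eq_one_iff x).mpr hx]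
      exact one_mem _
    have h1 : U1 ≤ T := by
      intro x hx
      rw [hT, Subgroup.mem_comap, show q x = 1 from (QuotientGroup.eq_one_iff x).mpr hx]
      exact one_mem _
    have hc1 : (U.relIndex U1).Coprime p := by
      rw [e1, Lib.PLength.relIndex_comap_mk']
      exact Lib.Cores.pPrimeCore_coprime p _
    have hc2 : (U1.relIndex T).Coprime p := by
      rw [hT, Lib.PLength.relIndex_comap_mk']
      exact Lib.Cores.pPrimeCore_coprime p _
    have hc : (Nat.card (T.map (QuotientGroup.mk' U))).Coprime p := by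
      rw [← Lib.PLength.relIndex_comap_mk' U, Subgroup.comap_map_eq, QuotientGroup.ker_mk',
        sup_eq_left.mpr (hle.trans h1), ← Subgroup.relIndex_mul_relIndex U U1 T hle h1]
      exact hc1.mul_left hc2
    have hTn : (T.map (QuotientGroup.mk' U)).Normal :=
      (inferInstance : T.Normal).map _ (QuotientGroup.mk'_surjective U)
    have h2 : T ≤ U1 := by
      rw [e1, ← Subgroup.map_le_iff_le_comap]
      exact Lib.Cores.le_pPrimeCore hTn hc
    have h3 := Subgroup.map_comap_eq_self_of_surjective (QuotientGroup.mk'_surjective U1)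
      (Cfsg.pPrimeCore p (G ⧸ U1))
    rw [← hT] at h3
    rw [← h3, Subgroup.map_eq_bot_iff, QuotientGroup.ker_mk']
    exact h2
  rw [e2, Subgroup.map_comap_eq_self_of_surjective (QuotientGroup.mk'_surjective U1)]
  exact Lib.Blocks.centralizer_pCore_le_of_isPSolvable p
    (Lib.PLocal.isPSolvable_quotient U1 hsol) hbot

end Cfsg.Agent.S0634
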