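import Cfsg.Statements.S0635
import Mathlib
import Cfsg.Agent.Lib.PLength.Basic
import Cfsg.Agent.Lib.Blocks.PSolvable
import Cfsg.Agent.Lib.BlockHeights.PConstrainedCores
-- import your own Cfsg.Agent.* helpers here

set_option autoImplicit false
open Cfsg

namespace Cfsg.Agent.S0635

universe u

open Subgroup in
theorem aux {p : ℕ} [Fact p.Prime] : ∀ (c : ℕ) {G : Type u} [Group G] [Finite G],
    Cfsg.IsPSolvable p G → ∀ (S : Sylow p G), Group.nilpotencyClass ↥(S : Subgroup G) ≤ c →
    Cfsg.PLengthLE p c G := by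
  intro c
  induction c with
  | zero =>
    intro G _ _ _ S hS
    haveI : Group.IsNilpotent ↥(S : Subgroup G) := S.2.isNilpotent
    have := Group.nilpotencyClass_zero_iff_subsingleton.mp (Nat.le_zero.mp hS)
    apply Cfsg.Agent.Lib.PLength.of_coprime
    refine ((Fact.out : p.Prime).coprime_iff_not_dvd.mpr fun hd => S.not_dvd_index ?_).symm
    rwa [← (S : Subgroup G).card_mul_index, Nat.card_of_subsingleton (1 : ↥(S : Subgroup G)), one_mul] at hd
  | succ c ih =>
    intro G _ _ hG S hS
    haveI : (Cfsg.pPrimeCore p G).Normal := inferInstance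
    apply Cfsg.Agent.Lib.PLength.of_quotient_coprime (Cfsg.pPrimeCore p G)
      (Cfsg.Agent.Lib.Cores.pPrimeCore_coprime p G)
    set H := G ⧸ Cfsg.pPrimeCore p G
    have hH : Cfsg.IsPSolvable p H := Cfsg.Agent.Lib.BlockHeights.isPSolvable_quot _ hG
    set T : Sylow p H := S.mapSurjective (QuotientGroup.mk'_surjective (Cfsg.pPrimeCore p G)) with hT
    haveI : Group.IsNilpotent ↥(S : Subgroup G) := S.2.isNilpotent
    haveI : Group.IsNilpotent ↥(T : Subgroup H) := T.2.isNilpotent
    have hTc : Group.nilpotencyClass ↥(T : Subgroup H) ≤ c + 1 := by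
      refine le_trans ?_ hS
      rw [hT, Sylow.coe_mapSurjective]
      exact Group.nilpotencyClass_le_of_surjective _ ((QuotientGroup.mk' (Cfsg.pPrimeCore p G)).subgroupMap_surjective _)
    set Q := Cfsg.pCore p H
    haveI : Q.Normal := inferInstance
    have hQT : Q ≤ (T : Subgroup H) := Cfsg.Agent.Lib.Cores.pCore_le_sylow T
    have hC : Subgroup.centralizer (Q : Set H) ≤ Q :=
      Cfsg.Agent.Lib.Blocks.centralizer_pCore_le_of_isPSolvable p hH
        (Cfsg.Agent.Lib.Cores.pPrimeCore_quotient_pPrimeCore p G)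
    apply Cfsg.Agent.Lib.PLength.of_quotient_isPGroup Q (Cfsg.Agent.Lib.Cores.pCore_isPGroup p H)
    refine ih (Cfsg.Agent.Lib.BlockHeights.isPSolvable_quot _ hH)
      (T.mapSurjective (QuotientGroup.mk'_surjective Q)) ?_
    rw [Sylow.coe_mapSurjective]
    let f := (QuotientGroup.mk' Q).subgroupMap (T : Subgroup H)
    have hf : Function.Surjective f := (QuotientGroup.mk' Q).subgroupMap_surjective _
    have hker : Subgroup.center ↥(T : Subgroup H) ≤ f.ker := by
      intro z hz
      rw [MonoidHom.mem_ker]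
      apply Subtype.ext
      show QuotientGroup.mk' Q (z : H) = 1
      refine (QuotientGroup.eq_one_iff _).mpr (hC ?_)
      rw [Subgroup.mem_centralizer_iff]
      intro y hy
      exact congrArg Subtype.val (Subgroup.mem_center_iff.mp hz ⟨y, hQT hy⟩)
    have hlift : Function.Surjective (QuotientGroup.lift (Subgroup.center ↥(T : Subgroup H)) f hker) := by
      intro y
      obtain ⟨x, rfl⟩ := hf y
      exact ⟨QuotientGroup.mk x, rfl⟩
    refine (Group.nilpotencyClass_le_of_surjective _ hlift).trans ?_
    rw [Group.nilpotencyClass_quotient_center]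
    omega

/-- The p-length of a p-soluble group is at most the nilpotency class of its Sylow p-subgroups. -/
theorem result {G : Type*} [Group G] [Finite G] {p : ℕ} [Fact p.Prime] (hsol : Cfsg.IsPSolvable p G) (S : Sylow p G) : Cfsg.PLengthLE p (Group.nilpotencyClass ↥(S : Subgroup G)) G := by
  exact aux _ hsol S le_rfl

end Cfsg.Agent.S0635
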