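import Cfsg.Statements.S0639
import Mathlib
import Cfsg.Agent.Lib.PGroups.HuppertTwo
-- import your own Cfsg.Agent.* helpers here

set_option autoImplicit false
open Cfsg

namespace Cfsg.Agent.S0639


universe u

theorem omegaOne_top_eq {X : Type u} [Group X] (p : ℕ) :
    Cfsg.omegaOne p (⊤ : Subgroup X) = Subgroup.closure {y : X | y ^ p = 1} := by
  simp [Cfsg.omegaOne]

/-- Huppert's criterion: for p greater than 3, a p-group whose elements of order dividing p generate a subgroup of order at most p² is metacyclic. -/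
theorem result {R : Type*} [Group R] [Finite R] {p : ℕ} [Fact p.Prime] (hp : 3 < p) (hR : IsPGroup p R) (hO : Nat.card ↥(Cfsg.omegaOne p (⊤ : Subgroup R)) ≤ p ^ 2) : Cfsg.IsMetacyclic R := by
  refine Cfsg.Agent.Lib.HuppertTwo.metacyclic hp hR ?_
  show Nat.card _ ≤ _
  rwa [omegaOne_top_eq] at hO

end Cfsg.Agent.S0639
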