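import Cfsg.Statements.S0640
import Mathlib
import Cfsg.Agent.Lib.OddLocal.RankTwo
-- import your own Cfsg.Agent.* helpers here

set_option autoImplicit false
open Cfsg

namespace Cfsg.Agent.S0640


/-- For odd p, a prime q ≠ p dividing the order of the automorphism group of a p-group of rank at most 2 divides p² - 1 and is less than p. -/
theorem result {R : Type*} [Group R] [Finite R] {p : ℕ} [Fact p.Prime] (hp : p ≠ 2) (hR : IsPGroup p R) (hrk : Cfsg.PRankLE p 2 R) (q : ℕ) (hq : q.Prime) (hqp : q ≠ p) (hdvd : q ∣ Nat.card (MulAut R)) : q ∣ p ^ 2 - 1 ∧ q < p := by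
  have hpr : p.Prime := Fact.out
  haveI : Fact q.Prime := ⟨hq⟩
  haveI : Finite (MulAut R) := Finite.of_injective (fun f : MulAut R => (f : R → R)) DFunLike.coe_injective
  obtain ⟨α, hα⟩ := exists_prime_orderOf_dvd_card' q hdvd
  set A := Subgroup.zpowers α with hA
  let X := SemidirectProduct R A A.subtype
  haveI : Finite X := Finite.of_equiv (R × A) SemidirectProduct.equivProd.symm
  let Ri : Subgroup X := (SemidirectProduct.inl : R →* X).range
  let Ai : Subgroup X := (SemidirectProduct.inr : A →* X).range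
  have hRi : IsPGroup p Ri := by
    rintro ⟨_, r, rfl⟩
    obtain ⟨k, hk⟩ := hR r
    exact ⟨k, Subtype.ext (by show (SemidirectProduct.inl r : X) ^ p ^ k = 1; rw [← map_pow, hk, map_one])⟩
  have hr : Cfsg.PRankLE p 2 Ri := by
    let e : R ≃* Ri := MonoidHom.ofInjective SemidirectProduct.inl_injective
    intro E hE hEp
    haveI := hE
    have h := hrk (E.map e.symm.toMonoidHom) (Subgroup.map_isMulCommutative E _) (by
      rintro _ ⟨a, ha, rfl⟩
      rw [← map_pow, hEp a ha, map_one])
    rwa [Subgroup.card_map_of_injective e.symm.injective] at h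
  have hnorm : Ai ≤ Subgroup.normalizer (Ri : Set X) := by
    intro x _
    rw [Subgroup.mem_normalizer_iff_map_conj_eq]
    refine Subgroup.eq_of_le_of_card_ge ?_
      (le_of_eq (Subgroup.card_map_of_injective (MulAut.conj x).injective).symm)
    rintro _ ⟨_, ⟨r, rfl⟩, rfl⟩
    refine MonoidHom.mem_range.2 ?_
    show ∃ r', (SemidirectProduct.inl r' : X) = x * SemidirectProduct.inl r * x⁻¹
    refine ⟨(x * SemidirectProduct.inl r * x⁻¹ : X).left, ?_⟩
    refine SemidirectProduct.ext ?_ ?_
    · simp
    · show (1 : A) = x.right * 1 * x.right⁻¹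
      group
  obtain ⟨ψ, hψ⟩ := Cfsg.Agent.Lib.OddLocal.exists_twoDim (p := p) hp hRi hr hnorm
  let a : A := ⟨α, Subgroup.mem_zpowers α⟩
  have hoa : orderOf a = q := by rw [← Subgroup.orderOf_coe]; exact hα
  let ai : Ai := ⟨SemidirectProduct.inr a, a, rfl⟩
  have hoi : orderOf (ai : X) = q := (orderOf_injective _ SemidirectProduct.inr_injective a).trans hoa
  have hne : ψ ai ≠ 1 := by
    intro h
    have hc := hψ ai h (by rw [hoi]; exact (Nat.coprime_primes hq hpr).2 hqp)
    have hone : α = 1 := by
      ext r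
      have h1 := Subgroup.mem_centralizer_iff.1 hc _ ⟨r, rfl⟩
      have h1' : (SemidirectProduct.inl r : SemidirectProduct R A A.subtype) * SemidirectProduct.inr a
          = SemidirectProduct.inr a * SemidirectProduct.inl r := h1
      have h2 := congrArg SemidirectProduct.left h1'
      simp at h2
      simpa [a] using h2.symm
    rw [hone, orderOf_one] at hα
    exact hq.ne_one hα.symm
  let u : Ai →* (Matrix (Fin 2) (Fin 2) (ZMod p))ˣ := ψ.toHomUnits
  have hu : orderOf (u ai) = q := by
    refine orderOf_eq_prime ?_ (fun h => hne (congrArg Units.val h))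
    rw [← map_pow, show ai ^ q = 1 from Subtype.ext (by
      show (ai : X) ^ q = 1
      rw [← hoi, pow_orderOf_eq_one]), map_one]
  have hd : q ∣ Nat.card (GL (Fin 2) (ZMod p)) := hu ▸ orderOf_dvd_natCard (u ai)
  rw [Matrix.card_GL_field, Fin.prod_univ_two, ZMod.card] at hd
  simp only [Fin.val_zero, Fin.val_one, pow_zero, pow_one] at hd
  have h2 : q ∣ p ^ 2 - 1 := by
    rcases hq.dvd_mul.1 hd with h | h
    · exact h
    · rw [show p ^ 2 - p = p * (p - 1) by rw [Nat.mul_sub, mul_one, sq]] at h
      rcases hq.dvd_mul.1 h with h | h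
      · exact absurd ((Nat.prime_dvd_prime_iff_eq hq hpr).1 h) hqp
      · exact h.trans (by simpa using Nat.sub_dvd_pow_sub_pow p 1 2)
  refine ⟨h2, ?_⟩
  have hfac : p ^ 2 - 1 = (p + 1) * (p - 1) := by
    have := Nat.sq_sub_sq p 1
    simpa using this
  rw [hfac] at h2
  have hp2 := hpr.two_le
  rcases hq.dvd_mul.1 h2 with h | h
  · rcases Nat.lt_or_ge q p with h' | h'
    · exact h'
    · have h1 := Nat.le_of_dvd (by omega) h
      have hq1 : q = p + 1 := by omega
      obtain ⟨k, hk⟩ := hpr.odd_of_ne_two hp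
      have h2q : q = 2 := ((Nat.prime_dvd_prime_iff_eq Nat.prime_two hq).1 ⟨k + 1, by omega⟩).symm
      omega
  · have := Nat.le_of_dvd (by omega) h
    omega

end Cfsg.Agent.S0640
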