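import Cfsg.Statements.S0642
import Cfsg.Agent.Lib.PLocal.PGroupBasic

set_option autoImplicit false
open Cfsg

namespace Cfsg.Agent.S0642

set_option linter.style.haveILetI false
open scoped commutatorElement

/-- Among finite 2-groups the regular ones are exactly the abelian ones. -/
theorem result {G : Type*} [Group G] [Finite G] (hG : IsPGroup 2 G) : Cfsg.IsRegularPGroup 2 G ↔ ∀ a b : G, a * b = b * a := by
  constructor
  · intro hreg
    by_cases hD : commutator G = ⊥
    · intro a b
      have h1 := Subgroup.commutator_mem_commutator (Subgroup.mem_top a) (Subgroup.mem_top b)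
      rw [← commutator_def, hD, Subgroup.mem_bot] at h1
      exact commutatorElement_eq_one_iff_mul_comm.mp h1
    exfalso
    obtain ⟨M, hMn, hlt, hcard⟩ := Cfsg.Agent.Lib.PLocal.exists_normal_index_prime hG hD
    haveI := hMn
    have hidx : (M.subgroupOf (commutator G)).index = 2 := by
      have h1 := Subgroup.card_mul_index (M.subgroupOf (commutator G))
      rw [Nat.card_congr (Subgroup.subgroupOfEquivOfLe hlt.le).toEquiv, hcard, mul_comm 2] at h1
      exact Nat.eq_of_mul_eq_mul_left Nat.card_pos h1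
    have hsq : Cfsg.powerClosure 2 1 (commutator G) ≤ M := by
      rw [Cfsg.powerClosure, Subgroup.closure_le]
      rintro _ ⟨x, hx, rfl⟩
      have h1 := Subgroup.pow_index_mem (M.subgroupOf (commutator G)) ⟨x, hx⟩
      rw [hidx, Subgroup.mem_subgroupOf] at h1
      simpa using h1
    refine hlt.not_ge ?_
    rw [commutator_def, Subgroup.commutator_le]
    intro u _ v _
    obtain ⟨c, hc, hc'⟩ := hreg.2 v⁻¹ u⁻¹ 1
    have hcM : c ∈ M := by
      refine hsq ?_
      refine Subgroup.closure_mono ?_ hc
      rintro y ⟨x, hx, rfl⟩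
      exact ⟨x, (Subgroup.commutator_mono le_top le_top).trans (commutator_def G).ge hx, rfl⟩
    simp only [pow_one, sq] at hc'
    have hcc : c = u * (u * v * u⁻¹ * v⁻¹) * u⁻¹ := by
      have h0 : c = (v⁻¹ * v⁻¹ * (u⁻¹ * u⁻¹))⁻¹ * (v⁻¹ * u⁻¹ * (v⁻¹ * u⁻¹)) :=
        eq_inv_mul_of_mul_eq hc'.symm
      rw [h0]; simp [mul_assoc]
    have h2 := hMn.conj_mem c hcM u⁻¹
    rw [hcc] at h2
    rw [commutatorElement_def]
    simpa [mul_assoc] using h2
  · intro hab
    refine ⟨hG, fun a b n => ⟨1, one_mem _, ?_⟩⟩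
    rw [mul_one, (show Commute a b from hab a b).mul_pow]

end Cfsg.Agent.S0642
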