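import Cfsg.Statements.S0643
import Cfsg.Agent.Lib.PGroups.Regular

set_option autoImplicit false
open Cfsg

namespace Cfsg.Agent.S0643

open scoped commutatorElement

variable {G : Type*} [Group G] [Finite G] {p : ℕ} [Fact p.Prime]

omit [Finite G] [Fact p.Prime] in
theorem powerClosure_mono {H K : Subgroup G} (h : H ≤ K) (n : ℕ) :
    Cfsg.powerClosure p n H ≤ Cfsg.powerClosure p n K :=
  Subgroup.closure_mono (by rintro y ⟨x, hx, rfl⟩; exact ⟨x, h hx, rfl⟩)

/-- In a regular group, products of `p^n`-th powers are powers. -/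
theorem mul_pow_exists (n : ℕ) (hG : IsPGroup p G ∧ ∀ a b : G, ∃ c ∈ Cfsg.powerClosure p n
      ⁅Subgroup.closure ({a, b} : Set G), Subgroup.closure ({a, b} : Set G)⁆,
      (a * b) ^ p ^ n = a ^ p ^ n * b ^ p ^ n * c) (H : Subgroup G) :
    ∀ a ∈ H, ∀ b ∈ H, ∃ c ∈ H, a ^ p ^ n * b ^ p ^ n = c ^ p ^ n := by
  haveI := hG.1.isNilpotent
  induction H using WellFoundedLT.induction with
  | ind H ih =>
    intro a ha b hb
    by_cases hab : a * b = b * a
    · exact ⟨a * b, mul_mem ha hb, ((show Commute a b from hab).mul_pow _).symm⟩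
    obtain ⟨d, hd, he⟩ := hG.2 a b
    set M := Subgroup.closure ({a, b} : Set G) with hM
    have hMH : M ≤ H := (Subgroup.closure_le _).mpr (by rintro x (rfl | rfl) <;> assumption)
    have hlt := Cfsg.Agent.Lib.PGroups.zpowers_sup_commutator_lt ha hb hab (mul_mem ha hb)
    have hDlt : ⁅H, H⁆ < H := lt_of_le_of_lt le_sup_right hlt
    have hd' : d ∈ Cfsg.powerClosure p n ⁅H, H⁆ := powerClosure_mono (Subgroup.commutator_mono hMH hMH) n hd
    let S : Subgroup G :=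
      { carrier := {y | ∃ x ∈ ⁅H, H⁆, y = x ^ p ^ n}
        one_mem' := ⟨1, one_mem _, (one_pow _).symm⟩
        mul_mem' := by
          rintro _ _ ⟨x, hx, rfl⟩ ⟨y, hy, rfl⟩
          exact ih _ hDlt x hx y hy
        inv_mem' := by
          rintro _ ⟨x, hx, rfl⟩
          exact ⟨x⁻¹, inv_mem hx, (inv_pow _ _).symm⟩ }
    obtain ⟨e, he', rfl⟩ : d ∈ S := (Subgroup.closure_le S).mpr (by
      rintro y ⟨x, hx, rfl⟩; exact ⟨x, hx, rfl⟩) hd'
    obtain ⟨c, hc, hce⟩ := ih _ hlt (a * b) (Subgroup.mem_sup_left (Subgroup.mem_zpowers _))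
      e⁻¹ (Subgroup.mem_sup_right (inv_mem he'))
    refine ⟨c, hlt.le hc, ?_⟩
    rw [← hce, he, inv_pow]
    group

theorem commutator_powerClosure_le (n : ℕ) (hG : IsPGroup p G ∧ ∀ a b : G, ∃ c ∈ Cfsg.powerClosure p n
      ⁅Subgroup.closure ({a, b} : Set G), Subgroup.closure ({a, b} : Set G)⁆,
      (a * b) ^ p ^ n = a ^ p ^ n * b ^ p ^ n * c) (H : Subgroup G) :
    ⁅Cfsg.powerClosure p n H, Cfsg.powerClosure p n H⁆ ≤ Cfsg.powerClosure p n ⁅H, H⁆ ∧
      ∀ y ∈ Cfsg.powerClosure p n H, ∃ x ∈ H, y = x ^ p ^ n := by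
  classical
  let S : Subgroup G :=
    { carrier := {y | ∃ x ∈ H, y = x ^ p ^ n}
      one_mem' := ⟨1, one_mem _, (one_pow _).symm⟩
      mul_mem' := by
        rintro _ _ ⟨x, hx, rfl⟩ ⟨y, hy, rfl⟩
        exact mul_pow_exists n hG H x hx y hy
      inv_mem' := by
        rintro _ ⟨x, hx, rfl⟩
        exact ⟨x⁻¹, inv_mem hx, (inv_pow _ _).symm⟩ }
  have hS : Cfsg.powerClosure p n H ≤ S := (Subgroup.closure_le S).mpr (by
    rintro y ⟨x, hx, rfl⟩; exact ⟨x, hx, rfl⟩)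
  refine ⟨Subgroup.commutator_le.mpr fun u hu v hv => ?_, fun y hy => hS hy⟩
  obtain ⟨a, ha, rfl⟩ := hS hu
  obtain ⟨b, hb, rfl⟩ := hS hv
  set g := a ^ p ^ n with hg
  have hgH : g ∈ H := pow_mem ha _
  have hx : ⁅g, b⁆ ∈ ⁅H, H⁆ := Subgroup.commutator_mem_commutator hgH hb
  have e1 : ⁅g, b ^ p ^ n⁆ = (g * b * g⁻¹) ^ p ^ n * b⁻¹ ^ p ^ n := by
    rw [conj_pow, inv_pow, commutatorElement_def]
  obtain ⟨d, hd, he⟩ := hG.2 (g * b * g⁻¹) b⁻¹
  have hsub : Subgroup.closure ({g * b * g⁻¹, b⁻¹} : Set G) ≤ H := (Subgroup.closure_le _).mpr (by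
    rintro x (rfl | rfl)
    · exact mul_mem (mul_mem hgH hb) (inv_mem hgH)
    · exact inv_mem hb)
  have hd' : d ∈ Cfsg.powerClosure p n ⁅H, H⁆ := powerClosure_mono (Subgroup.commutator_mono hsub hsub) n hd
  rw [e1, show (g * b * g⁻¹) ^ p ^ n * b⁻¹ ^ p ^ n = (g * b * g⁻¹ * b⁻¹) ^ p ^ n * d⁻¹ by rw [he]; group,
    ← commutatorElement_def]
  exact mul_mem (Subgroup.subset_closure ⟨_, hx, rfl⟩) (inv_mem hd')

/-- Kemhadze's criterion: a finite p-group is regular exactly when (ab)^p = a^p b^p c^p always holds for some c in the derived subgroup of the subgroup generated by a and b. -/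
theorem result {G : Type*} [Group G] [Finite G] {p : ℕ} [Fact p.Prime] (hG : IsPGroup p G) : Cfsg.IsRegularPGroup p G ↔ ∀ a b : G, ∃ c ∈ ⁅Subgroup.closure ({a, b} : Set G), Subgroup.closure ({a, b} : Set G)⁆, (a * b) ^ p = a ^ p * b ^ p * c ^ p := by
  classical
  constructor
  · intro h a b
    obtain ⟨c, hc, he⟩ := h.2 a b 1
    obtain ⟨x, hx, rfl⟩ := (commutator_powerClosure_le 1 ⟨hG, fun a b => h.2 a b 1⟩ _).2 c hc
    rw [pow_one] at he
    exact ⟨x, hx, he⟩
  · intro h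
    have hcond : IsPGroup p G ∧ ∀ a b : G, ∃ c ∈ Cfsg.powerClosure p 1
        ⁅Subgroup.closure ({a, b} : Set G), Subgroup.closure ({a, b} : Set G)⁆,
        (a * b) ^ p ^ 1 = a ^ p ^ 1 * b ^ p ^ 1 * c := ⟨hG, fun a b => by
      obtain ⟨c, hc, he⟩ := h a b
      exact ⟨c ^ p ^ 1, Subgroup.subset_closure ⟨c, hc, rfl⟩, by rw [pow_one]; exact he⟩⟩
    refine ⟨hG, fun a b n => ?_⟩
    induction n generalizing a b with
    | zero => exact ⟨1, one_mem _, by simp⟩
    | succ n ih =>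
      set M := Subgroup.closure ({a, b} : Set G) with hM
      set P := Cfsg.powerClosure p 1 M with hP
      obtain ⟨c, hc, he⟩ := h a b
      have hMM : ⁅M, M⁆ ≤ M := Subgroup.commutator_le.mpr fun u hu v hv => by
        rw [commutatorElement_def]
        exact mul_mem (mul_mem (mul_mem hu hv) (inv_mem hu)) (inv_mem hv)
      have hpow : ∀ x ∈ M, x ^ p ∈ P := fun x hx => Subgroup.subset_closure ⟨x, hx, by rw [pow_one]⟩
      have hPK : ∀ u v : G, u ∈ P → v ∈ P → ∀ d ∈ Cfsg.powerClosure p n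
          ⁅Subgroup.closure ({u, v} : Set G), Subgroup.closure ({u, v} : Set G)⁆,
          d ∈ Cfsg.powerClosure p (n + 1) ⁅M, M⁆ := by
        intro u v hu hv d hd
        have hle : Subgroup.closure ({u, v} : Set G) ≤ P :=
          (Subgroup.closure_le _).mpr (by rintro x (rfl | rfl) <;> assumption)
        have hK := (Subgroup.commutator_mono hle hle).trans (commutator_powerClosure_le 1 hcond M).1
        refine (Subgroup.closure_le _).mpr ?_ hd
        rintro _ ⟨y, hy, rfl⟩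
        obtain ⟨x, hx, rfl⟩ := (commutator_powerClosure_le 1 hcond ⁅M, M⁆).2 y (hK hy)
        exact Subgroup.subset_closure ⟨x, hx, by rw [pow_one, pow_succ', pow_mul]⟩
      have haP := hpow a (Subgroup.subset_closure (Or.inl rfl))
      have hbP := hpow b (Subgroup.subset_closure (Or.inr rfl))
      have hcP := hpow c (hMM hc)
      obtain ⟨d₁, hd₁, e₁⟩ := ih (a ^ p * b ^ p) (c ^ p)
      obtain ⟨d₂, hd₂, e₂⟩ := ih (a ^ p) (b ^ p)
      refine ⟨d₂ * (c ^ p) ^ p ^ n * d₁, mul_mem (mul_mem (hPK _ _ haP hbP _ hd₂)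
        (Subgroup.subset_closure ⟨c, hc, by rw [pow_succ', pow_mul]⟩)) (hPK _ _ (mul_mem haP hbP) hcP _ hd₁), ?_⟩
      rw [pow_succ', pow_mul, pow_mul, pow_mul, he, e₁, e₂]
      group

end Cfsg.Agent.S0643
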