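import Cfsg.Statements.S0644
import Cfsg.Agent.Lib.PGroups.Regular

set_option autoImplicit false
open Cfsg

namespace Cfsg.Agent.S0644

open scoped commutatorElement

variable {G : Type*} [Group G] [Finite G] {p : ℕ} [Fact p.Prime]

omit [Finite G] [Fact p.Prime] in
theorem powerClosure_mono {H K : Subgroup G} (h : H ≤ K) (n : ℕ) :
    Cfsg.powerClosure p n H ≤ Cfsg.powerClosure p n K :=
  Subgroup.closure_mono (by rintro y ⟨x, hx, rfl⟩; exact ⟨x, h hx, rfl⟩)

/-- In a regular group, products of `p^n`-th powers are powers. -/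
theorem mul_pow_exists (hG : Cfsg.IsRegularPGroup p G) (n : ℕ) (H : Subgroup G) :
    ∀ a ∈ H, ∀ b ∈ H, ∃ c ∈ H, a ^ p ^ n * b ^ p ^ n = c ^ p ^ n := by
  haveI := hG.1.isNilpotent
  induction H using WellFoundedLT.induction with
  | ind H ih =>
    intro a ha b hb
    by_cases hab : a * b = b * a
    · exact ⟨a * b, mul_mem ha hb, ((show Commute a b from hab).mul_pow _).symm⟩
    obtain ⟨d, hd, he⟩ := hG.2 a b n
    set M := Subgroup.closure ({a, b} : Set G) with hM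
    have hMH : M ≤ H := (Subgroup.closure_le _).mpr (by rintro x (rfl | rfl) <;> assumption)
    have hlt := Cfsg.Agent.Lib.PGroups.zpowers_sup_commutator_lt ha hb hab (mul_mem ha hb)
    have hDlt : ⁅H, H⁆ < H := lt_of_le_of_lt le_sup_right hlt
    have hd' : d ∈ Cfsg.powerClosure p n ⁅H, H⁆ := powerClosure_mono (Subgroup.commutator_mono hMH hMH) n hd
    let S : Subgroup G :=
      { carrier := {y | ∃ x ∈ ⁅H, H⁆, y = x ^ p ^ n}
        one_mem' := ⟨1, one_mem _, (one_pow _).symm⟩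
        mul_mem' := by
          rintro _ _ ⟨x, hx, rfl⟩ ⟨y, hy, rfl⟩
          exact ih _ hDlt x hx y hy
        inv_mem' := by
          rintro _ ⟨x, hx, rfl⟩
          exact ⟨x⁻¹, inv_mem hx, (inv_pow _ _).symm⟩ }
    obtain ⟨e, he', rfl⟩ : d ∈ S := (Subgroup.closure_le S).mpr (by
      rintro y ⟨x, hx, rfl⟩; exact ⟨x, hx, rfl⟩) hd'
    obtain ⟨c, hc, hce⟩ := ih _ hlt (a * b) (Subgroup.mem_sup_left (Subgroup.mem_zpowers _))
      e⁻¹ (Subgroup.mem_sup_right (inv_mem he'))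
    refine ⟨c, hlt.le hc, ?_⟩
    rw [← hce, he, inv_pow]
    group

/-- In a regular p-group the p^n-th powers of the elements of any subgroup H form a subgroup, whose derived subgroup is contained in the subgroup generated by the p^n-th powers of elements of the derived subgroup of H. -/
theorem result {G : Type*} [Group G] [Finite G] {p : ℕ} [Fact p.Prime] (hG : Cfsg.IsRegularPGroup p G) (H : Subgroup G) (n : ℕ) : {y : G | ∃ x ∈ H, y = x ^ (p ^ n)} = (Cfsg.powerClosure p n H : Set G) ∧ ⁅Cfsg.powerClosure p n H, Cfsg.powerClosure p n H⁆ ≤ Cfsg.powerClosure p n ⁅H, H⁆ := by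
  classical
  let S : Subgroup G :=
    { carrier := {y | ∃ x ∈ H, y = x ^ p ^ n}
      one_mem' := ⟨1, one_mem _, (one_pow _).symm⟩
      mul_mem' := by
        rintro _ _ ⟨x, hx, rfl⟩ ⟨y, hy, rfl⟩
        exact mul_pow_exists hG n H x hx y hy
      inv_mem' := by
        rintro _ ⟨x, hx, rfl⟩
        exact ⟨x⁻¹, inv_mem hx, (inv_pow _ _).symm⟩ }
  have hS : Cfsg.powerClosure p n H ≤ S := (Subgroup.closure_le S).mpr (by
    rintro y ⟨x, hx, rfl⟩; exact ⟨x, hx, rfl⟩)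
  refine ⟨Set.Subset.antisymm (fun y ⟨x, hx, e⟩ => e ▸ Subgroup.subset_closure ⟨x, hx, rfl⟩) (fun y hy => hS hy),
    Subgroup.commutator_le.mpr fun u hu v hv => ?_⟩
  obtain ⟨a, ha, rfl⟩ := hS hu
  obtain ⟨b, hb, rfl⟩ := hS hv
  set g := a ^ p ^ n with hg
  have hgH : g ∈ H := pow_mem ha _
  have hx : ⁅g, b⁆ ∈ ⁅H, H⁆ := Subgroup.commutator_mem_commutator hgH hb
  have e1 : ⁅g, b ^ p ^ n⁆ = (g * b * g⁻¹) ^ p ^ n * b⁻¹ ^ p ^ n := by
    rw [conj_pow, inv_pow, commutatorElement_def]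
  obtain ⟨d, hd, he⟩ := hG.2 (g * b * g⁻¹) b⁻¹ n
  have hsub : Subgroup.closure ({g * b * g⁻¹, b⁻¹} : Set G) ≤ H := (Subgroup.closure_le _).mpr (by
    rintro x (rfl | rfl)
    · exact mul_mem (mul_mem hgH hb) (inv_mem hgH)
    · exact inv_mem hb)
  have hd' : d ∈ Cfsg.powerClosure p n ⁅H, H⁆ := powerClosure_mono (Subgroup.commutator_mono hsub hsub) n hd
  rw [e1, show (g * b * g⁻¹) ^ p ^ n * b⁻¹ ^ p ^ n = (g * b * g⁻¹ * b⁻¹) ^ p ^ n * d⁻¹ by rw [he]; group,
    ← commutatorElement_def]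
  exact mul_mem (Subgroup.subset_closure ⟨_, hx, rfl⟩) (inv_mem hd')

end Cfsg.Agent.S0644
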