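import Cfsg.Statements.S0647

set_option autoImplicit false
open Cfsg

namespace Cfsg.Agent.S0647

/-- For a nonempty family of maximal abelian subgroups of a finite group, the intersection of the family is the centre of the subgroup it generates, which is also the full centralizer of that subgroup. -/
theorem result {S : Type*} [Group S] [Finite S] (𝒜 : Set (Subgroup S)) (hne : 𝒜.Nonempty) (hab : ∀ A ∈ 𝒜, IsMulCommutative A) (hmax : ∀ A ∈ 𝒜, ∀ B : Subgroup S, IsMulCommutative B → A ≤ B → B = A) : sInf 𝒜 = sSup 𝒜 ⊓ Subgroup.centralizer ((sSup 𝒜 : Subgroup S) : Set S) ∧ sInf 𝒜 = Subgroup.centralizer ((sSup 𝒜 : Subgroup S) : Set S) := by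
  obtain ⟨A₀, hA₀⟩ := hne
  have hC : ∀ A ∈ 𝒜, Subgroup.centralizer ((sSup 𝒜 : Subgroup S) : Set S) ≤ A := by
    intro A hA x hx
    have hxA : ∀ a ∈ A, a * x = x * a := fun a ha => hx a ((le_sSup hA : A ≤ sSup 𝒜) ha)
    have hcomm : IsMulCommutative ↥(A ⊔ Subgroup.zpowers x) := by
      rw [Subgroup.sup_eq_closure]
      refine Subgroup.isMulCommutative_closure ?_
      have haa : ∀ a ∈ A, ∀ b ∈ A, a * b = b * a := fun a ha b hb =>
        congrArg Subtype.val ((hab A hA).is_comm.comm (⟨a, ha⟩ : A) ⟨b, hb⟩)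
      rintro a (ha | ha) b (hb | hb)
      · exact haa a ha b hb
      · obtain ⟨n, rfl⟩ := hb; exact ((show Commute a x from hxA a ha).zpow_right n).eq
      · obtain ⟨n, rfl⟩ := ha; exact ((show Commute b x from hxA b hb).zpow_right n).eq.symm
      · obtain ⟨n, rfl⟩ := ha; obtain ⟨m, rfl⟩ := hb; exact ((Commute.refl x).zpow_zpow n m).eq
    rw [← hmax A hA _ hcomm le_sup_left]
    exact Subgroup.mem_sup_right (Subgroup.mem_zpowers x)
  have h1 : sInf 𝒜 = Subgroup.centralizer ((sSup 𝒜 : Subgroup S) : Set S) := by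
    refine le_antisymm ?_ (le_sInf hC)
    intro x hx y hy
    have h2 : sSup 𝒜 ≤ Subgroup.centralizer {x} := sSup_le fun A hA a ha => by
      rw [Subgroup.mem_centralizer_singleton_iff]
      exact congrArg Subtype.val
        ((hab A hA).is_comm.comm (⟨a, ha⟩ : A) ⟨x, (Subgroup.mem_sInf.mp hx) A hA⟩)
    exact Subgroup.mem_centralizer_singleton_iff.mp (h2 hy)
  refine ⟨?_, h1⟩
  rw [← h1, inf_eq_right.mpr ((sInf_le hA₀).trans (le_sSup hA₀))]

end Cfsg.Agent.S0647
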