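import Cfsg.Statements.S0648
import Mathlib

set_option autoImplicit false
open Cfsg
open scoped commutatorElement

namespace Cfsg.Agent.S0648

/-- If A acts on B centralizing [B, B], then [B, A] has derived subgroup central in B, and for abelian A and b ∈ B with [[b, A], A, A] = 1 the derived subgroup of the subgroup [b, A] generated by the commutators of b with A has exponent dividing 2. -/
theorem result {G : Type*} [Group G] [Finite G] (A B : Subgroup G) (hAB : A ≤ Subgroup.normalizer (B : Set G)) (hc : ⁅⁅B, B⁆, A⁆ = ⊥) : ⁅⁅B, A⁆, ⁅B, A⁆⁆ ≤ B ⊓ Subgroup.centralizer (B : Set G) ∧ (IsMulCommutative A → ∀ b ∈ B, ⁅⁅(Subgroup.closure {g : G | ∃ a ∈ A, g = b⁻¹ * a * b * a⁻¹}), A⁆, A⁆ = ⊥ → ∀ w ∈ ⁅(Subgroup.closure {g : G | ∃ a ∈ A, g = b⁻¹ * a * b * a⁻¹}), (Subgroup.closure {g : G | ∃ a ∈ A, g = b⁻¹ * a * b * a⁻¹})⁆, w ^ 2 = 1) := by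
  have hDB : ⁅B, B⁆ ≤ B := Subgroup.commutator_le_self B
  set D := ⁅B, B⁆ with hD
  set W := ⁅B, A⁆ with hW
  have hWB : W ≤ B := Subgroup.le_normalizer_iff_commutator_le_left.mp hAB
  have hDA : ⁅D, A⁆ = ⊥ := hc
  have hDW : ⁅W, D⁆ = ⊥ := by
    refine Subgroup.commutator_commutator_eq_bot_of_rotate ?_ ?_
    · -- ⁅⁅A, D⁆, B⁆
      rw [Subgroup.commutator_comm A D, hDA]; simp
    · rw [eq_bot_iff, ← hDA]
      refine Subgroup.commutator_mono ?_ le_rfl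
      rw [hD]
      exact Subgroup.commutator_mono (Subgroup.commutator_le_self B) le_rfl
  have hWDc : ∀ w ∈ W, ∀ d ∈ D, w * d = d * w := fun w hw d hd =>
    (Subgroup.mem_centralizer_iff.mp (Subgroup.commutator_eq_bot_iff_le_centralizer.mp hDW hw) d hd).symm
  have hWWB : ⁅⁅W, W⁆, B⁆ = ⊥ := by
    have h1 : ⁅⁅W, B⁆, W⁆ = ⊥ := by
      rw [eq_bot_iff, ← hDW, Subgroup.commutator_comm W D]
      exact Subgroup.commutator_mono (Subgroup.commutator_mono hWB le_rfl) le_rfl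
    refine Subgroup.commutator_commutator_eq_bot_of_rotate h1 ?_
    rw [Subgroup.commutator_comm B W]; exact h1
  have hWWc : ⁅W, W⁆ ≤ B ⊓ Subgroup.centralizer (B : Set G) :=
    le_inf ((Subgroup.commutator_mono hWB hWB).trans hDB)
      (Subgroup.commutator_eq_bot_iff_le_centralizer.mp hWWB)
  refine ⟨hWWc, fun hA b hb hKAA => ?_⟩
  set K := Subgroup.closure {g : G | ∃ a ∈ A, g = b⁻¹ * a * b * a⁻¹} with hK
  have hgen : ∀ a ∈ A, b⁻¹ * a * b * a⁻¹ ∈ K := fun a ha => Subgroup.subset_closure ⟨a, ha, rfl⟩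
  have hKW : K ≤ W := by
    rw [hK, Subgroup.closure_le]
    rintro _ ⟨a, ha, rfl⟩
    have := Subgroup.commutator_mem_commutator (inv_mem hb) ha
    simpa [commutatorElement_def, mul_assoc] using this
  have hKAW : ⁅K, A⁆ ≤ W := Subgroup.commutator_mono (hKW.trans hWB) le_rfl
  have hz : ∀ u ∈ W, ∀ v ∈ W, ∀ g ∈ B, g * ⁅u, v⁆ = ⁅u, v⁆ * g := fun u hu v hv g hg =>
    Subgroup.mem_centralizer_iff.mp (hWWc (Subgroup.commutator_mem_commutator hu hv)).2 g hg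
  -- fixed elements of `⁅K, A⁆` commute with the generators
  have hF : ∀ v ∈ ⁅K, A⁆, ∀ a ∈ A, ⁅b⁻¹ * a * b * a⁻¹, v⁆ = 1 := by
    intro v hv a ha
    have hva : a * v * a⁻¹ = v := by
      rw [Subgroup.mem_centralizer_iff.mp (Subgroup.commutator_eq_bot_iff_le_centralizer.mp hKAA hv) a ha]
      group
    set x := b⁻¹ * a * b * a⁻¹ with hx
    have hxW : x ∈ W := hKW (hgen a ha)
    have hbv : ⁅b, v⁆ ∈ D := Subgroup.commutator_mem_commutator hb (hWB (hKAW hv))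
    have h1 : a * ⁅b, v⁆ * a⁻¹ = ⁅b, v⁆ := by
      rw [Subgroup.mem_centralizer_iff.mp (Subgroup.commutator_eq_bot_iff_le_centralizer.mp hDA hbv) a ha]
      group
    have h2 : a * ⁅b, v⁆ * a⁻¹ = ⁅b * x, v⁆ := by
      rw [← MulAut.conj_apply a, map_commutatorElement, MulAut.conj_apply, MulAut.conj_apply, hva, hx]
      congr 1
      group
    have h3 : ⁅b * x, v⁆ = ⁅x, v⁆ * ⁅b, v⁆ := by
      calc ⁅b * x, v⁆ = b * ⁅x, v⁆ * b⁻¹ * ⁅b, v⁆ := by simp only [commutatorElement_def]; group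
        _ = _ := by rw [hz x hxW v (hKAW hv) b hb, mul_inv_cancel_right]
    rw [h2, h3] at h1
    exact mul_eq_right.mp h1
  have key : ∀ a ∈ A, ∀ a' ∈ A,
      ⁅b⁻¹ * a * b * a⁻¹, b⁻¹ * a' * b * a'⁻¹⁆ ^ 2 = 1 := by
    intro a ha a' ha'
    set x := b⁻¹ * a * b * a⁻¹ with hx
    set y := b⁻¹ * a' * b * a'⁻¹ with hy
    have haa : a * a' = a' * a :=
      congrArg Subtype.val (hA.is_comm.comm (⟨a, ha⟩ : A) ⟨a', ha'⟩)
    have hxW : x ∈ W := hKW (hgen a ha)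
    have hyW : y ∈ W := hKW (hgen a' ha')
    -- apply `a` to `⁅b, y⁆`
    have half : ∀ (a : G) (x y : G), a ∈ A → x = b⁻¹ * a * b * a⁻¹ → x ∈ W → y ∈ K →
        ⁅b, y⁻¹ * a * y * a⁻¹⁆ = ⁅x, y⁆⁻¹ := by
      intro a x y ha hx hxW hy
      have hyW : y ∈ W := hKW hy
      set s := y⁻¹ * a * y * a⁻¹ with hs
      have hsK : s ∈ ⁅K, A⁆ := by
        have e : ⁅y⁻¹, a⁆ = s := by rw [hs, commutatorElement_def, inv_inv]
        exact e ▸ Subgroup.commutator_mem_commutator (inv_mem hy) ha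
      have hsW := hKAW hsK
      have hxs : ⁅x, s⁆ = 1 := by rw [hx]; exact hF s hsK a ha
      have hby : ⁅b, y⁆ ∈ D := Subgroup.commutator_mem_commutator hb (hWB hyW)
      have hbs : ⁅b, s⁆ ∈ D := Subgroup.commutator_mem_commutator hb (hWB hsW)
      have h1 : a * ⁅b, y⁆ * a⁻¹ = ⁅b, y⁆ := by
        rw [Subgroup.mem_centralizer_iff.mp (Subgroup.commutator_eq_bot_iff_le_centralizer.mp hDA hby) a ha]
        group
      have h2 : a * ⁅b, y⁆ * a⁻¹ = ⁅b * x, y * s⁆ := by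
        rw [← MulAut.conj_apply a, map_commutatorElement, MulAut.conj_apply, MulAut.conj_apply, hx, hs]
        congr 1 <;> group
      have e1 : ⁅x, y * s⁆ = ⁅x, y⁆ := by
        calc ⁅x, y * s⁆ = ⁅x, y⁆ * (y * ⁅x, s⁆ * y⁻¹) := by simp only [commutatorElement_def]; group
          _ = _ := by rw [hxs, mul_one, mul_inv_cancel, mul_one]
      have e2 : ⁅b, y * s⁆ = ⁅b, y⁆ * ⁅b, s⁆ := by
        calc ⁅b, y * s⁆ = ⁅b, y⁆ * (y * ⁅b, s⁆ * y⁻¹) := by simp only [commutatorElement_def]; group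
          _ = _ := by rw [hWDc y hyW _ hbs, mul_inv_cancel_right]
      have e3 : ⁅b * x, y * s⁆ = ⁅x, y⁆ * (⁅b, y⁆ * ⁅b, s⁆) := by
        calc ⁅b * x, y * s⁆ = b * ⁅x, y * s⁆ * b⁻¹ * ⁅b, y * s⁆ := by simp only [commutatorElement_def]; group
          _ = _ := by rw [e1, e2, hz x hxW y hyW b hb, mul_inv_cancel_right]
      rw [h2, e3, ← mul_assoc, ← hz x hxW y hyW _ (hDB hby), mul_assoc] at h1
      exact (eq_inv_of_mul_eq_one_right (mul_eq_left.mp h1))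
    have h1 := half a x y ha hx hxW (hgen a' ha')
    have h2 := half a' y x ha' hy hyW (hgen a ha)
    have he : y⁻¹ * a * y * a⁻¹ = ⁅y⁻¹, x⁻¹⁆ * (x⁻¹ * a' * x * a'⁻¹) := by
      have e1 : a * (a' * b * a'⁻¹) * a⁻¹ = a' * (a * b * a⁻¹) * a'⁻¹ := by
        calc a * (a' * b * a'⁻¹) * a⁻¹ = (a * a') * b * (a * a')⁻¹ := by group
          _ = (a' * a) * b * (a' * a)⁻¹ := by rw [haa]
          _ = _ := by group
      have e2 : x * y * (y⁻¹ * a * y * a⁻¹) = y * x * (x⁻¹ * a' * x * a'⁻¹) := by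
        calc x * y * (y⁻¹ * a * y * a⁻¹) = b⁻¹ * (a * (a' * b * a'⁻¹) * a⁻¹) := by rw [hx, hy]; group
          _ = b⁻¹ * (a' * (a * b * a⁻¹) * a'⁻¹) := by rw [e1]
          _ = _ := by rw [hx, hy]; group
      calc y⁻¹ * a * y * a⁻¹ = (x * y)⁻¹ * (x * y * (y⁻¹ * a * y * a⁻¹)) := by group
        _ = (x * y)⁻¹ * (y * x * (x⁻¹ * a' * x * a'⁻¹)) := by rw [e2]
        _ = _ := by simp only [commutatorElement_def]; group
    have h3 : ⁅b, y⁻¹ * a * y * a⁻¹⁆ = ⁅b, x⁻¹ * a' * x * a'⁻¹⁆ := by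
      set t := x⁻¹ * a' * x * a'⁻¹ with ht
      set e := ⁅y⁻¹, x⁻¹⁆ with hee
      have hec : b * e = e * b := hz _ (inv_mem hyW) _ (inv_mem hxW) b hb
      have htK : t ∈ ⁅K, A⁆ := by
        have e : ⁅x⁻¹, a'⁆ = t := by rw [ht, commutatorElement_def, inv_inv]
        exact e ▸ Subgroup.commutator_mem_commutator (inv_mem (hgen a ha)) ha'
      have hbt : ⁅b, t⁆ ∈ B := hDB (Subgroup.commutator_mem_commutator hb (hWB (hKAW htK)))
      rw [he]
      calc ⁅b, e * t⁆ = ⁅b, e⁆ * (e * ⁅b, t⁆ * e⁻¹) := by simp only [commutatorElement_def]; group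
        _ = _ := by rw [commutatorElement_eq_one_iff_mul_comm.mpr hec, one_mul,
              ← hz _ (inv_mem hyW) _ (inv_mem hxW) _ hbt, mul_inv_cancel_right]
    rw [h1, h2, inv_inj] at h3
    rw [pow_two]
    nth_rewrite 2 [h3]
    rw [← commutatorElement_inv x y, mul_inv_cancel]
  -- bilinearity
  have hmulL : ∀ u u' v, u ∈ W → u' ∈ W → v ∈ W → ⁅u * u', v⁆ ^ 2 = ⁅u, v⁆ ^ 2 * ⁅u', v⁆ ^ 2 := by
    intro u u' v hu hu' hv
    have h1 : ⁅u * u', v⁆ = ⁅u', v⁆ * ⁅u, v⁆ := by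
      calc ⁅u * u', v⁆ = u * ⁅u', v⁆ * u⁻¹ * ⁅u, v⁆ := by simp only [commutatorElement_def]; group
        _ = _ := by rw [hz u' hu' v hv u (hWB hu), mul_inv_cancel_right]
    have hcm : Commute ⁅u', v⁆ ⁅u, v⁆ :=
      hz u hu v hv _ ((Subgroup.commutator_le_self W).trans hWB (Subgroup.commutator_mem_commutator hu' hv))
    rw [h1, hcm.mul_pow, (hcm.pow_pow 2 2).eq]
  have hinvL : ∀ u v, u ∈ W → v ∈ W → ⁅u, v⁆ ^ 2 = 1 → ⁅u⁻¹, v⁆ ^ 2 = 1 := by
    intro u v hu hv h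
    have := hmulL u⁻¹ u v (inv_mem hu) hu hv
    rw [inv_mul_cancel, commutatorElement_one_left, one_pow, h, mul_one] at this
    exact this.symm
  have hswap : ∀ u v : G, ⁅u, v⁆ ^ 2 = 1 → ⁅v, u⁆ ^ 2 = 1 := fun u v h => by
    rw [← commutatorElement_inv, inv_pow, h, inv_one]
  have hKK : ∀ u ∈ K, ∀ v ∈ K, ⁅u, v⁆ ^ 2 = 1 := by
    intro u hu v hv
    have step : ∀ v ∈ W, (∀ a ∈ A, ⁅b⁻¹ * a * b * a⁻¹, v⁆ ^ 2 = 1) → ∀ u ∈ K, ⁅u, v⁆ ^ 2 = 1 := by
      intro v hv hg u hu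
      have : u ∈ W ∧ ⁅u, v⁆ ^ 2 = 1 := by
        rw [hK] at hu
        induction hu using Subgroup.closure_induction with
        | mem g hg' => obtain ⟨a, ha, rfl⟩ := hg'; exact ⟨hKW (hgen a ha), hg a ha⟩
        | one => exact ⟨one_mem _, by rw [commutatorElement_one_left, one_pow]⟩
        | mul g g' _ _ h1 h2 => exact ⟨mul_mem h1.1 h2.1, by rw [hmulL g g' v h1.1 h2.1 hv, h1.2, h2.2, one_mul]⟩
        | inv g _ h1 => exact ⟨inv_mem h1.1, hinvL g v h1.1 hv h1.2⟩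
      exact this.2
    refine step v (hKW hv) (fun a ha => hswap _ _ ?_) u hu
    exact step _ (hKW (hgen a ha)) (fun a' ha' => key a' ha' a ha) v hv
  -- all of `⁅K, K⁆`
  intro w hw
  have : w ∈ ⁅W, W⁆ ∧ w ^ 2 = 1 := by
    rw [Subgroup.commutator_def] at hw
    induction hw using Subgroup.closure_induction with
    | mem g hg =>
      obtain ⟨u, hu, v, hv, rfl⟩ := hg
      exact ⟨Subgroup.commutator_mem_commutator (hKW hu) (hKW hv), hKK u hu v hv⟩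
    | one => exact ⟨one_mem _, one_pow _⟩
    | mul g g' _ _ h1 h2 =>
      refine ⟨mul_mem h1.1 h2.1, ?_⟩
      have hcm : Commute g g' := Subgroup.mem_centralizer_iff.mp (hWWc h2.1).2 g (hWWc h1.1).1
      rw [hcm.mul_pow, h1.2, h2.2, one_mul]
    | inv g _ h1 => exact ⟨inv_mem h1.1, by rw [inv_pow, h1.2, inv_one]⟩
  exact this.2

end Cfsg.Agent.S0648
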