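import Cfsg.Statements.S0657
import Cfsg.Statements.S0657
import Cfsg.Agent.Lib.PLocal.NoSLTwo

set_option autoImplicit false
open Cfsg

namespace Cfsg.Agent.S0657

/-- For odd p, a group that fails to be p-stable modulo its largest normal subgroup of order prime to p, and whose upper p-series does not stop there, has a section isomorphic to SL(2, p). -/
theorem result {G : Type*} [Group G] [Finite G] {p : ℕ} [Fact p.Prime] (hp : p ≠ 2) (hO : Cfsg.pPrimeCore p G < Cfsg.pPrimePCore p G) (hns : ¬ Cfsg.IsPStable p (G ⧸ Cfsg.pPrimeCore p G)) : ∃ (K L : Subgroup G) (hL : (L.subgroupOf K).Normal), K ≤ ⊤ ∧ Nonempty ((K ⧸ L.subgroupOf K) ≃* Matrix.SpecialLinearGroup (Fin 2) (ZMod p)) := by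
  set O := Cfsg.pPrimeCore p G with hOdef
  haveI : O.Normal := by rw [hOdef]; infer_instance
  set π := QuotientGroup.mk' O with hπ
  have hπs : Function.Surjective π := QuotientGroup.mk'_surjective O
  by_contra hcon
  have hno : Lib.PLocal.NoSLTwo p G := fun K f hf => hcon (Lib.PLocal.exists_section_slTwo le_top f hf)
  refine hns ⟨(Fact.out : p.Prime).odd_of_ne_two hp, fun h => ?_, fun A P _ hP hAP _ _ hq => ?_⟩
  · refine hO.ne (le_antisymm hO.le fun x hx => ?_)
    have h1 : π x ∈ Cfsg.pCore p (G ⧸ O) := hx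
    rw [h, Subgroup.mem_bot] at h1
    exact (QuotientGroup.eq_one_iff x).1 h1
  · rintro _ ⟨⟨a, haN⟩, ha, rfl⟩
    refine (hno.quotient O).normalizerPStable hp P hP a haN ?_
    rw [eq_bot_iff, ← hq]
    exact Subgroup.commutator_mono (Subgroup.commutator_mono le_rfl (Subgroup.zpowers_le.2 ha))
      (Subgroup.zpowers_le.2 ha)

end Cfsg.Agent.S0657
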