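import Cfsg.Statements.S0658
import Cfsg.Statements.S0658
import Cfsg.Agent.Lib.PLocal.StableCore
import Cfsg.Agent.Lib.PLocal.FusionNpcZJ

set_option autoImplicit false
open Cfsg

namespace Cfsg.Agent.S0658

/-- In a group of characteristic p type all of whose p-locals are p-stable (p odd), the normalizer of Z(J(P)) contains the normalizer of every nontrivial subgroup of the Sylow p-subgroup P. -/
theorem result {G : Type*} [Group G] [Finite G] {p : ℕ} [Fact p.Prime] (hp : p ≠ 2) (hloc : ∀ Q : Subgroup G, IsPGroup p Q → Q ≠ ⊥ → Cfsg.pPrimeCore p ↥(Subgroup.normalizer (Q : Set G)) = ⊥ ∧ Cfsg.IsPConstrained p ↥(Subgroup.normalizer (Q : Set G)) ∧ Cfsg.IsPStable p ↥(Subgroup.normalizer (Q : Set G))) (P : Sylow p G) (Q : Subgroup G) (hQP : Q ≤ (P : Subgroup G)) (hQ1 : Q ≠ ⊥) : Subgroup.normalizer (Q : Set G) ≤ Subgroup.normalizer (Cfsg.centerThompsonAOf ((P : Subgroup G)) : Set G) := by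
  set Z := Cfsg.centerThompsonAOf (P : Subgroup G) with hZ
  set M := Subgroup.normalizer (Z : Set G) with hM
  have hPM : (P : Subgroup G) ≤ M := by
    rw [hM, hZ, ← Lib.PLocal.inducedFunctor_zjA]
    exact Lib.FusionControl.le_normalizer_inducedFunctor Lib.PLocal.isCharPFunctor_zjA P.2
  suffices key : ∀ (k : ℕ) (U : Subgroup G), U ≤ (P : Subgroup G) → U ≠ ⊥ →
      Nat.card (P : Subgroup G) - Nat.card ((P : Subgroup G) ⊓ Subgroup.normalizer (U : Set G) : Subgroup G) = k →
      Subgroup.normalizer (U : Set G) ≤ M from key _ Q hQP hQ1 rfl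
  intro k
  induction k using Nat.strong_induction_on with
  | _ k ih =>
    intro U hUP hU hk
    set N := Subgroup.normalizer (U : Set G) with hN
    set T₀ := (P : Subgroup G) ⊓ N with hT₀
    have hT₀p : IsPGroup p T₀ := P.2.to_le inf_le_left
    have hUT : U ≤ T₀ := le_inf hUP Subgroup.le_normalizer
    have hT₀ne : T₀ ≠ ⊥ := fun h => hU (le_bot_iff.1 (h ▸ hUT))
    obtain ⟨T, hT⟩ := (hT₀p.comap_of_injective N.subtype N.subtype_injective).exists_le_sylow
    set TG := (T : Subgroup N).map N.subtype with hTG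
    have hT₀TG : T₀ ≤ TG := fun x hx => ⟨⟨x, hx.2⟩, hT hx, rfl⟩
    have hTGp : IsPGroup p TG := T.2.map _
    obtain ⟨hO, hc, hs⟩ := hloc U (P.2.to_le hUP) hU
    have hZT : N ≤ Subgroup.normalizer (Cfsg.centerThompsonAOf TG : Set G) := by
      intro g hg
      have h1 := (Lib.PLocal.zj_normal hp hc hs hO T)
      rw [hTG, ← Lib.PLocal.FusionNpc.map_centerThompsonAOf N.subtype N.subtype_injective]
      exact Subgroup.le_normalizer_map N.subtype ⟨⟨g, hg⟩, by rw [Subgroup.normalizer_eq_top_iff.2 h1]; trivial, rfl⟩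
    have hle0 : Nat.card T₀ ≤ Nat.card (P : Subgroup G) := Subgroup.card_le_of_le inf_le_left
    by_cases hTT : T₀ = TG
    · rw [← hTT] at hZT
      by_cases hTP : T₀ = (P : Subgroup G)
      · rw [hTP] at hZT; exact hZT
      · set V := Cfsg.centerThompsonAOf T₀ with hV
        obtain ⟨hVle, hVne, -⟩ := Lib.FusionControl.isConjugacyFunctor_inducedFunctor
          Lib.PLocal.isCharPFunctor_zjA T₀ hT₀p
        rw [Lib.PLocal.inducedFunctor_zjA] at hVle hVne
        have h1 : T₀ < (P : Subgroup G) ⊓ Subgroup.normalizer (T₀ : Set G) :=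
          Lib.FusionControl.lt_nS P.2 (lt_of_le_of_ne inf_le_left hTP)
        have h2 : (P : Subgroup G) ⊓ Subgroup.normalizer (T₀ : Set G) ≤
            (P : Subgroup G) ⊓ Subgroup.normalizer (V : Set G) := by
          refine inf_le_inf_left _ ?_
          rw [hV, ← Lib.PLocal.inducedFunctor_zjA]
          exact Lib.FusionControl.normalizer_le_normalizer_functor
            (Lib.FusionControl.isConjugacyFunctor_inducedFunctor Lib.PLocal.isCharPFunctor_zjA) hT₀p
        have h3 := lt_of_lt_of_le (Lib.FusionControl.card_lt_of_lt h1) (Subgroup.card_le_of_le h2)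
        have h4 : Nat.card ((P : Subgroup G) ⊓ Subgroup.normalizer (V : Set G) : Subgroup G) ≤
            Nat.card (P : Subgroup G) := Subgroup.card_le_of_le inf_le_left
        exact hZT.trans (ih _ (by omega) V (hVle.trans inf_le_left) (hVne hT₀ne) rfl)
    · -- a larger subgroup of the local group moves into `P`
      have hlt : T₀ < TG := lt_of_le_of_ne hT₀TG hTT
      have h1 : T₀ < TG ⊓ Subgroup.normalizer (T₀ : Set G) := Lib.FusionControl.lt_nS hTGp hlt
      set R := TG ⊓ Subgroup.normalizer (T₀ : Set G) with hR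
      have hRN : R ≤ N := inf_le_left.trans (Subgroup.map_subtype_le _)
      have hne : T₀ ≠ (P : Subgroup G) := by
        intro e
        have h5 := P.3 hTGp (e ▸ hT₀TG)
        exact hTT (by rw [e]; exact h5.symm)
      have h1' : T₀ < (P : Subgroup G) ⊓ Subgroup.normalizer (T₀ : Set G) :=
        Lib.FusionControl.lt_nS P.2 (lt_of_le_of_ne inf_le_left hne)
      have h1c := Lib.FusionControl.card_lt_of_lt h1'
      have h4' : Nat.card ((P : Subgroup G) ⊓ Subgroup.normalizer (T₀ : Set G) : Subgroup G) ≤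
          Nat.card (P : Subgroup G) := Subgroup.card_le_of_le inf_le_left
      have hRM : R ≤ M := inf_le_right.trans (ih _ (by omega) T₀ inf_le_left hT₀ne rfl)
      obtain ⟨m, hm, hmR⟩ := Lib.FusionControl.exists_cj_le_of_not_dvd hPM P.2
        (fun hd => Lib.FusionControl.sylow_relIndex_top P (hd.trans
          (by rw [Subgroup.relIndex_top_right]; exact Dvd.intro _ (Subgroup.relIndex_mul_index hPM))))
        hRM (hTGp.to_le inf_le_left)
      have hUR : U ≤ R := hUT.trans h1.le
      have hU' : Lib.FusionControl.cj m U ≤ (P : Subgroup G) :=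
        (Lib.FusionControl.cj_le_cj hUR).trans hmR
      have hR' : Lib.FusionControl.cj m R ≤
          (P : Subgroup G) ⊓ Subgroup.normalizer (Lib.FusionControl.cj m U : Set G) :=
        le_inf hmR ((Lib.FusionControl.cj_le_cj hRN).trans (Lib.FusionControl.cj_normalizer m U).le)
      have h3 := lt_of_lt_of_le (Lib.FusionControl.card_lt_of_lt h1)
        ((Lib.FusionControl.card_cj m R).ge.trans (Subgroup.card_le_of_le hR'))
      have h4 : Nat.card ((P : Subgroup G) ⊓ Subgroup.normalizer (Lib.FusionControl.cj m U : Set G) : Subgroup G) ≤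
          Nat.card (P : Subgroup G) := Subgroup.card_le_of_le inf_le_left
      have h5 := ih _ (by omega) (Lib.FusionControl.cj m U) hU'
        (fun h => hU (by rw [← Lib.FusionControl.cj_inv_cj m U, h, Lib.FusionControl.cj, Subgroup.map_bot])) rfl
      rw [← Lib.FusionControl.cj_normalizer] at h5
      intro x hx
      have h6 : m * x * m⁻¹ ∈ M := h5 ⟨x, hx, rfl⟩
      have h7 := mul_mem (mul_mem (inv_mem hm) h6) hm
      rwa [show m⁻¹ * (m * x * m⁻¹) * m = x by group] at h7

end Cfsg.Agent.S0658
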