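import Cfsg.Statements.S0660

set_option autoImplicit false
open Cfsg

namespace Cfsg.Agent.S0660

set_option linter.style.haveILetI false

/-- Averaging a projection: Maschke for coprime action on a finite abelian group. -/
private lemma exists_invariant_complement {V A : Type*} [CommGroup V] [Group A] [Finite V] [Finite A]
    (act : A →* MulAut V) (hcop : (Nat.card A).Coprime (Nat.card V)) (U W : Subgroup V)
    (hU : ∀ a, ∀ u ∈ U, act a u ∈ U) (hd : U ⊓ W = ⊥) (hs : U ⊔ W = ⊤) :
    ∃ W' : Subgroup V, (∀ a, ∀ w ∈ W', act a w ∈ W') ∧ U ⊓ W' = ⊥ ∧ U ⊔ W' = ⊤ := by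
  classical
  haveI := Fintype.ofFinite A
  have hbij : Function.Bijective (U.subtype.coprod W.subtype) := by
    refine ⟨(injective_iff_map_eq_one _).mpr ?_, fun v => ?_⟩
    · rintro ⟨u, w⟩ h
      simp only [MonoidHom.coprod_apply, Subgroup.coe_subtype] at h
      have hu : (u : V) ∈ U ⊓ W := Subgroup.mem_inf.mpr ⟨u.2, by
        have : (u : V) = (w : V)⁻¹ := eq_inv_of_mul_eq_one_left h
        rw [this]; exact inv_mem w.2⟩
      rw [hd, Subgroup.mem_bot] at hu
      have hw : (w : V) = 1 := by rwa [hu, one_mul] at h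
      exact Prod.ext (Subtype.ext hu) (Subtype.ext hw)
    · have hv : v ∈ U ⊔ W := by rw [hs]; trivial
      obtain ⟨u, hu, w, hw, rfl⟩ := Subgroup.mem_sup.mp hv
      exact ⟨(⟨u, hu⟩, ⟨w, hw⟩), rfl⟩
  let e := MulEquiv.ofBijective _ hbij
  let π : V →* V := U.subtype.comp ((MonoidHom.fst U W).comp e.symm.toMonoidHom)
  have hπU : ∀ v, π v ∈ U := fun v => ((e.symm v).1).2
  have hπid : ∀ u ∈ U, π u = u := by
    intro u hu
    have : e.symm u = (⟨u, hu⟩, 1) := by
      rw [MulEquiv.symm_apply_eq]; simp [e]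
    simp [π, this]
  let ρ : V →* V :=
    { toFun := fun v => ∏ a : A, act a (π (act a⁻¹ v))
      map_one' := by simp
      map_mul' := fun x y => by simp [Finset.prod_mul_distrib] }
  have hρU : ∀ v, ρ v ∈ U := fun v => prod_mem fun a _ => hU a _ (hπU _)
  have hρid : ∀ u ∈ U, ρ u = u ^ Nat.card A := by
    intro u hu
    show (∏ a : A, act a (π (act a⁻¹ u))) = _
    have h1 : ∀ a : A, act a (π (act a⁻¹ u)) = u := fun a => by
      rw [hπid _ (hU _ _ hu), ← MulAut.mul_apply, ← map_mul, mul_inv_cancel, map_one,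
        MulAut.one_apply]
    rw [Finset.prod_congr rfl (fun a _ => h1 a), Finset.prod_const, Finset.card_univ,
      Nat.card_eq_fintype_card]
  have hρeq : ∀ b v, ρ (act b v) = act b (ρ v) := by
    intro b v
    show (∏ a : A, act a (π (act a⁻¹ (act b v)))) = act b (∏ a : A, act a (π (act a⁻¹ v)))
    rw [map_prod]
    refine (Fintype.prod_equiv (Equiv.mulLeft b) _ _ fun a => ?_).symm
    simp [← MulAut.mul_apply, ← map_mul, mul_inv_rev]
  have hc : (Nat.card V).Coprime (Nat.card A) := hcop.symm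
  refine ⟨ρ.ker, fun a w hw => ?_, ?_, ?_⟩
  · rw [MonoidHom.mem_ker] at hw ⊢
    rw [hρeq, hw, map_one]
  · rw [eq_bot_iff]
    intro u hu'
    have hu : u ∈ U := hu'.1
    have hk : u ∈ ρ.ker := hu'.2
    rw [MonoidHom.mem_ker, hρid u hu] at hk
    rw [Subgroup.mem_bot]
    exact (powCoprime hc).injective (by simpa [powCoprime] using hk)
  · rw [eq_top_iff]
    intro v _
    have hcU : (Nat.card U).Coprime (Nat.card A) :=
      Nat.Coprime.coprime_dvd_left (Subgroup.card_subgroup_dvd_card U) hc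
    obtain ⟨u, hu⟩ := (powCoprime hcU).surjective ⟨ρ v, hρU v⟩
    have hu' : (u : V) ^ Nat.card A = ρ v := congrArg Subtype.val hu
    refine Subgroup.mem_sup.mpr ⟨u, u.2, (u : V)⁻¹ * v, ?_, by group⟩
    rw [MonoidHom.mem_ker, map_mul, map_inv, hρid _ u.2, hu', inv_mul_cancel]

/-- Under a coprime action on an abelian group, an invariant subgroup that is complemented admits an invariant complement. -/
theorem result {G : Type*} [Group G] [Finite G] (V A U : Subgroup G) (hVab : IsMulCommutative V) (hAV : A ≤ Subgroup.normalizer (V : Set G)) (hcop : (Nat.card A).Coprime (Nat.card V)) (hUV : U ≤ V) (hAU : A ≤ Subgroup.normalizer (U : Set G)) (W : Subgroup G) (hWV : W ≤ V) (hUW : U ⊓ W = ⊥) (hUWV : U ⊔ W = V) : ∃ W' : Subgroup G, W' ≤ V ∧ A ≤ Subgroup.normalizer (W' : Set G) ∧ U ⊓ W' = ⊥ ∧ U ⊔ W' = V := by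
  haveI := hVab
  letI : CommGroup V := { (inferInstance : Group V) with mul_comm := fun a b => hVab.is_comm.comm a b }
  have hact : ∀ (a : A) (v : V), (a : G) * v * (a : G)⁻¹ ∈ V := fun a v =>
    (Subgroup.mem_normalizer_iff.mp (hAV a.2) v).mp v.2
  let act0 : A → V →* V := fun a =>
    { toFun := fun v => ⟨(a : G) * v * (a : G)⁻¹, hact a v⟩
      map_one' := Subtype.ext (by simp)
      map_mul' := fun x y => Subtype.ext (by simp [mul_assoc]) }
  have hinv : ∀ a : A, ∀ v : V, act0 a⁻¹ (act0 a v) = v := fun a v => Subtype.ext (by simp [act0, mul_assoc])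
  let act : A →* MulAut V :=
    { toFun := fun a =>
        { toFun := act0 a
          invFun := act0 a⁻¹
          left_inv := hinv a
          right_inv := fun v => by simpa using hinv a⁻¹ v
          map_mul' := map_mul (act0 a) }
      map_one' := by ext v; simp [act0]
      map_mul' := fun a b => by ext v; simp [act0, mul_assoc] }
  obtain ⟨W', hW', hd, hs⟩ := exists_invariant_complement act hcop (U.subgroupOf V) (W.subgroupOf V)
    (fun a u hu => by
      rw [Subgroup.mem_subgroupOf] at hu ⊢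
      exact (Subgroup.mem_normalizer_iff.mp (hAU a.2) u).mp hu)
    (by
      rw [eq_bot_iff]
      rintro u ⟨hu, hw⟩
      simp only [SetLike.mem_coe] at hu hw
      have : (u : G) ∈ U ⊓ W := ⟨hu, hw⟩
      rw [hUW, Subgroup.mem_bot] at this
      exact Subgroup.mem_bot.mpr (Subtype.ext this))
    (by rw [← Subgroup.subgroupOf_sup hUV hWV, hUWV, Subgroup.subgroupOf_self])
  refine ⟨W'.map V.subtype, Subgroup.map_subtype_le W', ?_, ?_, ?_⟩
  · intro a ha
    rw [Subgroup.mem_normalizer_iff]
    intro x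
    constructor
    · rintro ⟨w, hw, rfl⟩
      exact ⟨_, hW' ⟨a, ha⟩ w hw, rfl⟩
    · rintro ⟨w, hw, hx⟩
      refine ⟨_, hW' ⟨a, ha⟩⁻¹ w hw, ?_⟩
      show a⁻¹ * (w : G) * (a⁻¹)⁻¹ = x
      rw [Subgroup.coe_subtype] at hx
      rw [hx]; group
  · have := congrArg (Subgroup.map V.subtype) hd
    rwa [Subgroup.map_inf _ _ _ (Subgroup.subtype_injective V), Subgroup.subgroupOf_map_subtype,
      inf_eq_left.mpr hUV, Subgroup.map_bot] at this
  · have := congrArg (Subgroup.map V.subtype) hs
    rwa [Subgroup.map_sup, Subgroup.subgroupOf_map_subtype, inf_eq_left.mpr hUV,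
      ← MonoidHom.range_eq_map, Subgroup.range_subtype] at this

end Cfsg.Agent.S0660
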