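import Cfsg.Statements.S0661
import Cfsg.Agent.Lib.Coprime.Action
import Cfsg.Agent.Lib.Coprime.PxQ
import Cfsg.Agent.Lib.Cores.PCore
import Mathlib

set_option autoImplicit false
open Cfsg

namespace Cfsg.Agent.S0661

/-- If, modulo the largest normal subgroup of order prime to p, the largest normal p-subgroup contains its centralizer, then for every p-subgroup P the p'-core of N_G(P) is just O_p'(G) ∩ N_G(P). -/
theorem result {G : Type*} [Group G] [Finite G] {p : ℕ} [Fact p.Prime] (hc : Subgroup.centralizer (Cfsg.pCore p (G ⧸ Cfsg.pPrimeCore p G) : Set (G ⧸ Cfsg.pPrimeCore p G)) ≤ Cfsg.pCore p (G ⧸ Cfsg.pPrimeCore p G)) (P : Subgroup G) (hP : IsPGroup p P) : (Cfsg.pPrimeCore p ↥(Subgroup.normalizer (P : Set G))).map (Subgroup.normalizer (P : Set G)).subtype = Cfsg.pPrimeCore p G ⊓ Subgroup.normalizer (P : Set G) := by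
  set O := Cfsg.pPrimeCore p G with hO
  set N := Subgroup.normalizer (P : Set G) with hN
  set Y := Cfsg.pPrimeCore p ↥N with hY
  set X := Y.map N.subtype with hX
  refine le_antisymm ?_ (fun x hx => ?_)
  swap
  · have hx' := Lib.Cores.inf_pPrimeCore_le_map_subtype (p := p) N ⟨hx.2, hx.1⟩
    exact hx'
  refine le_inf ?_ (Subgroup.map_subtype_le _)
  set q := QuotientGroup.mk' O with hq
  set R := Cfsg.pCore p (G ⧸ O) with hR
  have hXN : X ≤ N := Subgroup.map_subtype_le _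
  have hPN : P ≤ N := Subgroup.le_normalizer
  have hXc : (Nat.card X).Coprime p := by
    rw [hX, Subgroup.card_map_of_injective N.subtype_injective]
    exact Lib.Cores.pPrimeCore_coprime p _
  have hOc : (Nat.card O).Coprime p := Lib.Cores.pPrimeCore_coprime p G
  obtain ⟨m, hm⟩ := IsPGroup.iff_card.mp hP
  have hPXdisj : ∀ z, z ∈ X → z ∈ P → z = 1 := fun z hz1 hz2 => by
    have : orderOf z ∣ 1 := by
      have h1 : orderOf z ∣ Nat.card X := Subgroup.orderOf_dvd_natCard _ hz1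
      have h2 : orderOf z ∣ Nat.card P := Subgroup.orderOf_dvd_natCard _ hz2
      rw [hm] at h2
      exact ((hXc.pow_right m).gcd_eq_one) ▸ Nat.dvd_gcd h1 h2
    exact orderOf_eq_one_iff.mp (Nat.dvd_one.mp this)
  have hXnorm : ∀ g ∈ N, ∀ x ∈ X, g * x * g⁻¹ ∈ X := by
    rintro g hg _ ⟨x, hx, rfl⟩
    exact ⟨⟨g, hg⟩ * x * ⟨g, hg⟩⁻¹, (inferInstance : Y.Normal).conj_mem x hx _, rfl⟩
  have hPX : ∀ x ∈ X, ∀ y ∈ P, x * y = y * x := fun x hx y hy => by
    have h1 : x * y * x⁻¹ * y⁻¹ ∈ P :=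
      mul_mem ((Subgroup.mem_normalizer_iff.mp (hXN hx) y).mp hy) (inv_mem hy)
    have h2 : x * y * x⁻¹ * y⁻¹ ∈ X := by
      have : x * (y * x⁻¹ * y⁻¹) ∈ X := mul_mem hx (hXnorm y (hPN hy) _ (inv_mem hx))
      simpa [mul_assoc] using this
    have h3 := hPXdisj _ h2 h1
    rwa [mul_inv_eq_one, mul_inv_eq_iff_eq_mul] at h3
  have hPQ : P.map q ≤ Subgroup.centralizer ((X.map q : Subgroup (G ⧸ O)) : Set (G ⧸ O)) := by
    rintro _ ⟨y, hy, rfl⟩
    rw [Subgroup.mem_centralizer_iff]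
    rintro _ ⟨x, hx, rfl⟩
    rw [← map_mul, ← map_mul, hPX x hx y hy]
  have hXR : X.map q ≤ Subgroup.centralizer (R : Set (G ⧸ O)) := by
    haveI : R.Normal := by rw [hR]; infer_instance
    have hXqc : (Nat.card (X.map q)).Coprime p := hXc.coprime_dvd_left (Subgroup.card_map_dvd _ _)
    refine Lib.Coprime.le_centralizer_of_PxQ (hP.map q) hXqc (Lib.Cores.pCore_isPGroup p _) hPQ
      (le_of_le_of_eq le_top (Subgroup.normalizer_eq_top_iff.mpr ‹_›).symm)
      (le_of_le_of_eq le_top (Subgroup.normalizer_eq_top_iff.mpr ‹_›).symm) ?_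
    rintro r ⟨hrR, hrP⟩
    obtain ⟨k, rfl⟩ := QuotientGroup.mk'_surjective O r
    have hOn : Subgroup.normalizer (O : Set G) = ⊤ := Subgroup.normalizer_eq_top_iff.mpr inferInstance
    obtain ⟨n, hn, hnc⟩ := Lib.Coprime.exists_mem_centralizer_of_fixed_coset (A := P) (N := O)
      (by rw [hOn]; exact le_top) (by rw [hm]; exact (hOc.symm.pow_left m))
      (Or.inl (haveI := hP.isNilpotent; inferInstance))
      (k := k) (by rw [hOn]; exact Subgroup.mem_top _) (fun a ha => by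
        rw [← QuotientGroup.eq_one_iff]
        show q (a * k * a⁻¹ * k⁻¹) = 1
        have hcomm : q a * q k = q k * q a := Subgroup.mem_centralizer_iff.mp hrP (q a) ⟨a, ha, rfl⟩
        rw [map_mul, map_mul, map_mul, map_inv, map_inv, hcomm]
        group)
    have hkN : k * n ∈ N := Subgroup.centralizer_le_normalizer _ hnc
    rw [Subgroup.mem_centralizer_iff]
    rintro _ ⟨x, hx, rfl⟩
    have hq1 : q (k * n) = q k := by
      rw [map_mul, show q n = 1 from (QuotientGroup.eq_one_iff n).mpr hn, mul_one]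
    set c := k * n with hc'
    have hcx : q (x * c * x⁻¹ * c⁻¹) = 1 := by
      have h1 : q (x * c * x⁻¹ * c⁻¹) ∈ X.map q := Subgroup.mem_map_of_mem _ (by
        have : x * (c * x⁻¹ * c⁻¹) ∈ X := mul_mem hx (hXnorm c hkN _ (inv_mem hx))
        simpa [mul_assoc] using this)
      have h2 : q (x * c * x⁻¹ * c⁻¹) ∈ R := by
        rw [map_mul, map_mul, map_mul, map_inv, map_inv, hq1]
        exact mul_mem ((inferInstance : R.Normal).conj_mem _ hrR _) (inv_mem hrR)
      obtain ⟨a, ha⟩ := IsPGroup.iff_card.mp (Lib.Cores.pCore_isPGroup p (G ⧸ O))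
      refine orderOf_eq_one_iff.mp (Nat.dvd_one.mp ?_)
      have d1 := Subgroup.orderOf_dvd_natCard _ h1
      have d2 := Subgroup.orderOf_dvd_natCard _ h2
      rw [ha] at d2
      exact ((hXqc.pow_right a).gcd_eq_one) ▸ Nat.dvd_gcd d1 d2
    rw [map_mul, map_mul, map_mul, map_inv, map_inv, hq1, mul_inv_eq_one,
      mul_inv_eq_iff_eq_mul] at hcx
    exact hcx
  have h1 : X.map q ≤ R := hXR.trans hc
  have h2 : X.map q = ⊥ := by
    refine Subgroup.card_eq_one.mp (Nat.dvd_one.mp ?_)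
    obtain ⟨a, ha⟩ := IsPGroup.iff_card.mp (Lib.Cores.pCore_isPGroup p (G ⧸ O))
    have d2 := Subgroup.card_dvd_of_le h1
    rw [ha] at d2
    exact (((hXc.coprime_dvd_left (Subgroup.card_map_dvd X q)).pow_right a).gcd_eq_one) ▸
      Nat.dvd_gcd dvd_rfl d2
  rw [Subgroup.map_eq_bot_iff, QuotientGroup.ker_mk'] at h2
  exact h2

end Cfsg.Agent.S0661
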