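import Cfsg.Statements.S0662
import Cfsg.Agent.Lib.PGroups.MaxClassGen
import Mathlib

set_option autoImplicit false
open Cfsg

namespace Cfsg.Agent.S0662

/-- In a p-group of maximal class of order at least p³ the normal subgroups of index at least p² are exactly the terms of the lower central series, and there are exactly p + 1 normal subgroups of index p. -/
theorem result {G : Type*} [Group G] [Finite G] {p : ℕ} [Fact p.Prime] (n : ℕ) (hG : Nat.card G = p ^ n) (hcl : Group.nilpotencyClass G = n - 1) (hn : 3 ≤ n) : (∀ (N : Subgroup G) [N.Normal] (r : ℕ), 2 ≤ r → N.index = p ^ r → N = (⊤ : Subgroup G).lowerCentralSeries (r - 1)) ∧ Nat.card {N : Subgroup G // N.Normal ∧ N.index = p} = p + 1 := by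
  have hpG : IsPGroup p G := IsPGroup.of_card hG
  have hpP : p.Prime := Fact.out
  haveI := hpG.isNilpotent
  set L := fun i => (⊤ : Subgroup G).lowerCentralSeries i with hL
  have hne : ∀ i, i ≤ n - 2 → L i ≠ ⊥ := fun i hi h => by
    have := Subgroup.lowerCentralSeries_eq_bot_iff_nilpotencyClass_le.mp h
    omega
  have hupper : ∀ i, 1 ≤ i → i ≤ n - 2 → Nat.card (L i) * p ^ (i + 1) ≤ p ^ n := by
    intro i h1 h2
    have h := (Lib.PGroups.lowerCentralSeries_card_le n (by omega) hG (i - 1)).resolve_left (by
      rw [show i - 1 + 1 = i by omega]; exact hne i h2)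
    rwa [show i - 1 + 1 = i by omega, show i - 1 + 2 = i + 1 by omega] at h
  have hlower : ∀ j i, i + j = n - 1 → p ^ j ≤ Nat.card (L i) := by
    intro j
    induction j with
    | zero => intro i _; rw [pow_zero]; exact Nat.card_pos
    | succ j ih =>
      intro i hij
      have hlt : L (i + 1) < L i := by
        simp only [hL]
        rw [Subgroup.lowerCentralSeries_succ]
        exact Lib.Coprime.commutator_lt_of_isPGroup (hpG.to_subgroup _) (hpG.to_subgroup ⊤)
          (le_of_le_of_eq le_top (Subgroup.normalizer_eq_top_iff.mpr inferInstance).symm)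
          (hne i (by omega))
      calc p ^ (j + 1) = p ^ j * p := pow_succ p j
        _ ≤ Nat.card (L (i + 1)) * p := Nat.mul_le_mul_right _ (ih (i + 1) (by omega))
        _ ≤ Nat.card (L i) := Lib.PGroups.card_mul_le_of_lt (hpG.to_subgroup _) hlt
  have hcard : ∀ i, 1 ≤ i → i ≤ n - 1 → Nat.card (L i) = p ^ (n - 1 - i) := by
    intro i h1 h2
    refine le_antisymm ?_ (hlower (n - 1 - i) i (by omega))
    by_cases h3 : i = n - 1
    · subst h3
      simp only [hL]
      rw [Lib.PGroups.lowerCentralSeries_pred_eq_bot n (by omega) hG, Subgroup.card_bot]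
      exact Nat.one_le_pow _ _ hpP.pos
    · refine Nat.le_of_mul_le_mul_right ?_ (pow_pos hpP.pos (i + 1))
      rw [← pow_add, show n - 1 - i + (i + 1) = n by omega]
      exact hupper i h1 (by omega)
  refine ⟨fun N hN r hr hidx => ?_, ?_⟩
  · have hcN : Nat.card N = p ^ (n - r) ∧ r ≤ n := by
      have h := N.card_mul_index
      rw [hidx, hG] at h
      have hrn : r ≤ n := (Nat.pow_dvd_pow_iff_le_right hpP.one_lt).mp ⟨_, h.symm.trans (mul_comm _ _)⟩
      refine ⟨Nat.eq_of_mul_eq_mul_right (pow_pos hpP.pos r) ?_, hrn⟩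
      rw [h, ← pow_add]; congr 1; omega
    refine (Subgroup.eq_of_le_of_card_ge ?_ ?_).symm
    · have h := Lib.PGroups.lowerCentralSeries_pred_eq_bot (G := G ⧸ N) r hr hidx
      rw [← Subgroup.map_top_of_surjective _ (QuotientGroup.mk'_surjective N),
        ← Subgroup.map_lowerCentralSeries, Subgroup.map_eq_bot_iff, QuotientGroup.ker_mk'] at h
      exact h
    · rw [hcard (r - 1) (by omega) (by omega), hcN.1]
      exact Nat.pow_le_pow_right hpP.pos (by omega)
  · set C := commutator G with hC
    have hcC : Nat.card C = p ^ (n - 2) := by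
      have h := hcard 1 le_rfl (by omega)
      simp only [hL, Subgroup.top_lowerCentralSeries_one] at h
      rw [h, show n - 1 - 1 = n - 2 by omega]
    have hcQ : Nat.card (G ⧸ C) = p ^ 2 := by
      have h := C.card_eq_card_quotient_mul_card_subgroup
      rw [hG, hcC] at h
      refine (Nat.eq_of_mul_eq_mul_right (pow_pos hpP.pos (n - 2)) ?_)
      rw [← h, ← pow_add]; congr 1; omega
    have hexp : ∀ x : G ⧸ C, x ^ p = 1 := by
      intro x
      obtain ⟨k, hk⟩ := IsPGroup.iff_orderOf.mp (IsPGroup.of_card hcQ) x
      by_cases hk2 : k ≤ 1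
      · exact orderOf_dvd_iff_pow_eq_one.mp (hk ▸ (pow_dvd_pow p hk2).trans (pow_one p).dvd)
      · exfalso
        haveI : IsCyclic (G ⧸ C) := isCyclic_of_orderOf_eq_card x (Nat.dvd_antisymm (orderOf_dvd_natCard x)
          (by rw [hcQ, hk]; exact pow_dvd_pow p (by omega)))
        have h := Lib.PGroups.commutator_eq_bot_of_isCyclic hpG
        rw [← hC] at h
        rw [h, Subgroup.card_bot] at hcC
        exact absurd hcC (Nat.one_lt_pow (by omega) hpP.one_lt).ne
    rw [← Lib.Cores.card_subgroups_of_order_sq hexp hcQ]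
    have hidx : ∀ K : Subgroup (G ⧸ C), Nat.card K = p ↔ K.index = p := by
      intro K
      have h := K.card_mul_index
      rw [hcQ, pow_two] at h
      constructor <;> intro hK <;> rw [hK] at h
      · exact Nat.eq_of_mul_eq_mul_left hpP.pos h
      · exact Nat.eq_of_mul_eq_mul_right hpP.pos h
    refine Nat.card_congr
      { toFun := fun M => ⟨M.1.map (QuotientGroup.mk' C), (hidx _).mpr ?_⟩
        invFun := fun K => ⟨K.1.comap (QuotientGroup.mk' C), ?_, ?_⟩
        left_inv := fun M => Subtype.ext ?_
        right_inv := fun K => Subtype.ext (Subgroup.map_comap_eq_self_of_surjective (QuotientGroup.mk'_surjective C) _) }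
    · haveI := M.2.1
      have hle : C ≤ M.1 := by
        haveI : IsMulCommutative (G ⧸ M.1) := by
          haveI : IsCyclic (G ⧸ M.1) := isCyclic_of_prime_card (p := p) M.2.2
          exact IsCyclic.commutative
        exact (Subgroup.Normal.quotient_commutative_iff_commutator_le (N := M.1)).mp inferInstance
      rw [Subgroup.index_map_eq _ (QuotientGroup.mk'_surjective C) (by rwa [QuotientGroup.ker_mk']), M.2.2]
    · haveI : K.1.Normal := ⟨fun x hx g => by
        haveI : IsMulCommutative (G ⧸ C) := IsPGroup.isMulCommutative_of_card_eq_prime_sq (p := p) hcQ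
        rwa [IsMulCommutative.is_comm.comm g x, mul_inv_cancel_right]⟩
      exact Subgroup.Normal.comap inferInstance _
    · rw [Subgroup.index_comap_of_surjective _ (QuotientGroup.mk'_surjective C)]
      exact (hidx K.1).mp K.2
    · haveI := M.2.1
      refine Subgroup.comap_map_eq_self ?_
      rw [QuotientGroup.ker_mk']
      haveI : IsMulCommutative (G ⧸ M.1) := by
        haveI : IsCyclic (G ⧸ M.1) := isCyclic_of_prime_card (p := p) M.2.2
        exact IsCyclic.commutative
      exact (Subgroup.Normal.quotient_commutative_iff_commutator_le (N := M.1)).mp inferInstance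

end Cfsg.Agent.S0662
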