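import Cfsg.Statements.S0663
import Cfsg.Agent.Lib.PGroups.MaxClassGen
import Cfsg.Agent.Lib.Coprime.PxQ
import Mathlib

set_option autoImplicit false
open Cfsg
open scoped commutatorElement

namespace Cfsg.Agent.S0663

/-- A p-group acts uniserially on a p-group N of order p^n exactly when the iterated commutator chain from N has length n; in that case the chain terms are all the invariant subgroups of N and they are normal in N. -/
theorem result {L : Type*} [Group L] [Finite L] {p : ℕ} [Fact p.Prime] (N G : Subgroup L) (hN : IsPGroup p N) (hG : IsPGroup p G) (hGN : G ≤ Subgroup.normalizer (N : Set L)) (n : ℕ) (hn : Nat.card N = p ^ n) : ((∀ H : Subgroup L, H ≤ N → G ≤ Subgroup.normalizer (H : Set L) → H ≠ ⊥ → (⁅H, G⁆).relIndex H = p) ↔ Cfsg.iterCommutator N G (n - 1) ≠ ⊥ ∨ n = 0) ∧ ((∀ H : Subgroup L, H ≤ N → G ≤ Subgroup.normalizer (H : Set L) → H ≠ ⊥ → (⁅H, G⁆).relIndex H = p) → ∀ H : Subgroup L, H ≤ N → G ≤ Subgroup.normalizer (H : Set L) → (∃ i ≤ n, H = Cfsg.iterCommutator N G i) ∧ N ≤ Subgroup.normalizer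 (H : Set L)) := by
  classical
  have hpP : p.Prime := Fact.out
  have hpp := hpP.pos
  set X := N ⊔ G with hX
  have hXp : IsPGroup p X := hN.to_sup_of_normal_left' hG hGN
  have hXN : X ≤ Subgroup.normalizer (N : Set L) := sup_le Subgroup.le_normalizer hGN
  set T := Cfsg.iterCommutator N G with hT
  set C := Cfsg.iterCommutator N X with hC
  have descend : ∀ P : Subgroup L, IsPGroup p P → P ≤ Subgroup.normalizer (N : Set L) → ∀ i,
      Cfsg.iterCommutator N P i ≤ N ∧
      P ≤ Subgroup.normalizer (Cfsg.iterCommutator N P i : Set L) ∧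
      Cfsg.iterCommutator N P (i + 1) ≤ Cfsg.iterCommutator N P i ∧
      (Cfsg.iterCommutator N P i = ⊥ ∨ Nat.card (Cfsg.iterCommutator N P i) * p ^ i ≤ p ^ n) := by
    intro P hP hPN i
    induction i with
    | zero =>
      refine ⟨le_rfl, hPN, Subgroup.le_normalizer_iff_commutator_le_left.mp hPN, Or.inr ?_⟩
      show Nat.card N * p ^ 0 ≤ p ^ n
      rw [pow_zero, mul_one, hn]
    | succ i ih =>
      obtain ⟨h1, h2, h3, h4⟩ := ih
      have h5 : P ≤ Subgroup.normalizer (Cfsg.iterCommutator N P (i + 1) : Set L) :=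
        Subgroup.normalizer_commutator_ge_right _ _
      refine ⟨h3.trans h1, h5, Subgroup.le_normalizer_iff_commutator_le_left.mp h5, ?_⟩
      by_cases hb : Cfsg.iterCommutator N P i = ⊥
      · exact Or.inl (le_bot_iff.mp (hb ▸ h3))
      right
      have hlt : Cfsg.iterCommutator N P (i + 1) < Cfsg.iterCommutator N P i :=
        Lib.Coprime.commutator_lt_of_isPGroup (hN.to_le h1) hP h2 hb
      calc Nat.card (Cfsg.iterCommutator N P (i + 1)) * p ^ (i + 1)
          = Nat.card (Cfsg.iterCommutator N P (i + 1)) * p * p ^ i := by rw [pow_succ', mul_assoc]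
        _ ≤ Nat.card (Cfsg.iterCommutator N P i) * p ^ i :=
            Nat.mul_le_mul_right _ (Lib.PGroups.card_mul_le_of_lt (hN.to_le h1) hlt)
        _ ≤ p ^ n := h4.resolve_left hb
  have hTd := descend G hG hGN
  have hCd := descend X hXp hXN
  have hrel : ∀ A B : Subgroup L, A ≤ B → Nat.card A * A.relIndex B = Nat.card B := fun A B h => by
    rw [← Subgroup.relIndex_bot_left (H := A), Subgroup.relIndex_mul_relIndex ⊥ A B bot_le h,
      Subgroup.relIndex_bot_left]
  have hup : ∀ P : Subgroup L, IsPGroup p P → P ≤ Subgroup.normalizer (N : Set L) → ∀ i ≤ n,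
      Nat.card (Cfsg.iterCommutator N P i) ≤ p ^ (n - i) := by
    intro P hP hPN i hi
    rcases (descend P hP hPN i).2.2.2 with h | h
    · rw [h, Subgroup.card_bot]; exact Nat.one_le_pow _ _ hpp
    · refine Nat.le_of_mul_le_mul_right ?_ (pow_pos hpp i)
      rwa [← pow_add, Nat.sub_add_cancel hi]
  have hU_card : (∀ H : Subgroup L, H ≤ N → G ≤ Subgroup.normalizer (H : Set L) → H ≠ ⊥ →
      (⁅H, G⁆).relIndex H = p) → ∀ i ≤ n, Nat.card (T i) = p ^ (n - i) := by
    intro hU i
    induction i with
    | zero => intro _; rw [Nat.sub_zero]; exact hn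
    | succ i ih =>
      intro hi
      have h1 := ih (by omega)
      have hne : T i ≠ ⊥ := fun hb => by
        rw [hb, Subgroup.card_bot] at h1
        exact (Nat.one_lt_pow (by omega) hpP.one_lt).ne h1
      have h2 := hrel _ _ (hTd i).2.2.1
      have h3 : (T (i + 1)).relIndex (T i) = p := hU _ (hTd i).1 (hTd i).2.1 hne
      rw [h1, show n - i = n - (i + 1) + 1 by omega, pow_succ] at h2
      simp only [hT] at h3 ⊢
      rw [h3] at h2
      exact Nat.eq_of_mul_eq_mul_right hpp h2
  have hchain_card : (T (n - 1) ≠ ⊥ ∨ n = 0) → ∀ i ≤ n, Nat.card (T i) = p ^ (n - i) := by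
    intro hch i hi
    refine le_antisymm (hup G hG hGN i hi) ?_
    rcases hch with hne | h0
    swap
    · subst h0; rw [Nat.zero_sub, pow_zero]; exact Nat.card_pos
    have low : ∀ j i, i + j + 1 = n → T i ≠ ⊥ ∧ p ^ (j + 1) ≤ Nat.card (T i) := by
      intro j
      induction j with
      | zero =>
        intro i hij
        rw [show i = n - 1 by omega]
        refine ⟨hne, ?_⟩
        have := Lib.PGroups.card_mul_le_of_lt (hN.to_le (hTd (n - 1)).1)
          (bot_lt_iff_ne_bot.mpr hne)
        rw [Subgroup.card_bot, one_mul] at this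
        rw [zero_add, pow_one]; exact this
      | succ j ih =>
        intro i hij
        obtain ⟨h1, h2⟩ := ih (i + 1) (by omega)
        have h0 : T i ≠ ⊥ := fun hb => h1 (le_bot_iff.mp (hb ▸ (hTd i).2.2.1))
        refine ⟨h0, ?_⟩
        have hlt : T (i + 1) < T i :=
          Lib.Coprime.commutator_lt_of_isPGroup (hN.to_le (hTd i).1) hG (hTd i).2.1 h0
        calc p ^ (j + 1 + 1) = p ^ (j + 1) * p := pow_succ _ _
          _ ≤ Nat.card (T (i + 1)) * p := Nat.mul_le_mul_right _ h2
          _ ≤ Nat.card (T i) := Lib.PGroups.card_mul_le_of_lt (hN.to_le (hTd i).1) hlt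
    rcases Nat.lt_or_ge i n with h | h
    · have := (low (n - 1 - i) i (by omega)).2
      rwa [show n - 1 - i + 1 = n - i by omega] at this
    · rw [Nat.sub_eq_zero_of_le h, pow_zero]; exact Nat.card_pos
  -- consequences of the card formula
  have main : (∀ i ≤ n, Nat.card (T i) = p ^ (n - i)) → ∀ H : Subgroup L, H ≤ N →
      G ≤ Subgroup.normalizer (H : Set L) →
      (∃ i ≤ n, H = T i) ∧ N ≤ Subgroup.normalizer (H : Set L) := by
    intro hcard
    have hTC : ∀ i, T i ≤ C i := by
      intro i
      induction i with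
      | zero => exact le_rfl
      | succ i ih => exact Subgroup.commutator_mono ih le_sup_right
    have hTCeq : ∀ i ≤ n, T i = C i := fun i hi =>
      Subgroup.eq_of_le_of_card_ge (hTC i) ((hcard i hi).symm ▸ hup X hXp hXN i hi)
    have hNn : ∀ i ≤ n, N ≤ Subgroup.normalizer (T i : Set L) := fun i hi => by
      rw [hTCeq i hi]; exact le_sup_left.trans (hCd i).2.1
    have hTn : T n = ⊥ := Subgroup.card_eq_one.mp (by rw [hcard n le_rfl, Nat.sub_self, pow_zero])
    have anti : ∀ i k, T (i + k) ≤ T i := by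
      intro i k
      induction k with
      | zero => exact le_rfl
      | succ k ih => exact (hTd (i + k)).2.2.1.trans ih
    have aux : ∀ c, ∀ H : Subgroup L, Nat.card H = c → H ≤ N →
        G ≤ Subgroup.normalizer (H : Set L) → ∃ i ≤ n, H = T i := by
      intro c
      induction c using Nat.strong_induction_on with
      | _ c ih =>
      intro H hc hHN hHG
      by_cases hH : H = ⊥
      · exact ⟨n, le_rfl, hH.trans hTn.symm⟩
      set i := Nat.findGreatest (fun i => H ≤ T i) n with hi
      have hle : H ≤ T i :=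
        Nat.findGreatest_spec (P := fun i => H ≤ T i) (Nat.zero_le n) (show H ≤ T 0 from hHN)
      have hin : i ≤ n := Nat.findGreatest_le n
      have hilt : i < n := lt_of_le_of_ne hin fun e => hH (le_bot_iff.mp (hTn ▸ e ▸ hle))
      have hnle : ¬ H ≤ T (i + 1) :=
        Nat.findGreatest_is_greatest (P := fun i => H ≤ T i) (lt_add_one i) (by omega)
      set M := T (i + 1) with hM
      have hMT : M ≤ T i := (hTd i).2.2.1
      have hsup : H ⊔ M = T i := by
        refine Subgroup.eq_of_le_of_card_ge (sup_le hle hMT) ?_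
        have h1 : M < H ⊔ M := lt_of_le_of_ne le_sup_right fun e => hnle (e ▸ le_sup_left)
        have h2 := Lib.PGroups.card_mul_le_of_lt (hN.to_le (sup_le hHN (hTd (i + 1)).1)) h1
        rw [hM, hcard (i + 1) hilt, ← pow_succ, show n - (i + 1) + 1 = n - i by omega] at h2
        rw [hcard i hin]
        exact h2
      set J := H ⊓ M with hJ
      have hJlt : Nat.card J < c := by
        rw [← hc]
        refine lt_of_le_of_ne (Subgroup.card_le_of_le inf_le_left) fun e => hnle ?_
        exact (Subgroup.eq_of_le_of_card_ge inf_le_left e.ge).ge.trans inf_le_right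
      have hJG : G ≤ Subgroup.normalizer (J : Set L) :=
        (le_inf hHG (hTd (i + 1)).2.1).trans Subgroup.inf_normalizer_le_normalizer_inf
      obtain ⟨j, hj, hJj⟩ := ih _ hJlt J rfl (inf_le_left.trans hHN) hJG
      by_cases hji : j ≤ i + 1
      · refine ⟨i, hin, ?_⟩
        have hMJ : M ≤ J := by
          rw [hJj, hM, show i + 1 = j + (i + 1 - j) by omega]; exact anti j _
        rw [← hsup, sup_eq_left.mpr (hMJ.trans inf_le_left)]
      exfalso
      have hJle : J ≤ T (i + 2) := by
        rw [hJj, show j = i + 2 + (j - (i + 2)) by omega]; exact anti _ _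
      have hi2 : i + 2 ≤ n := by omega
      have hkey : T (i + 1) ≤ T (i + 2) := by
        show ⁅T i, G⁆ ≤ _
        rw [Subgroup.commutator_le]
        intro u hu g hg
        rw [← hsup, ← SetLike.mem_coe,
          Subgroup.coe_mul_of_left_le_normalizer_right H M (hHN.trans (hNn (i + 1) hilt))] at hu
        obtain ⟨h, hh, m, hm, rfl⟩ := hu
        have h1 : ⁅h, g⁆ ∈ T (i + 2) := hJle
          ⟨Subgroup.le_normalizer_iff_commutator_le_left.mp hHG (Subgroup.commutator_mem_commutator hh hg),
            Subgroup.commutator_mem_commutator (hle hh) hg⟩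
        have h2 : ⁅m, g⁆ ∈ T (i + 2) := Subgroup.commutator_mem_commutator hm hg
        have e : ⁅h * m, g⁆ = h * ⁅m, g⁆ * h⁻¹ * ⁅h, g⁆ := by simp only [commutatorElement_def]; group
        rw [e]
        exact mul_mem ((Subgroup.mem_normalizer_iff.mp (hNn (i + 2) hi2 (hHN hh)) _).mp h2) h1
      have := Subgroup.card_le_of_le hkey
      rw [hcard (i + 1) hilt, hcard (i + 2) hi2, Nat.pow_le_pow_iff_right hpP.one_lt] at this
      omega
    intro H hHN hHG
    obtain ⟨i, hi, rfl⟩ := aux _ H rfl hHN hHG
    exact ⟨⟨i, hi, rfl⟩, hNn i hi⟩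
  refine ⟨⟨fun hU => ?_, fun hch => ?_⟩, fun hU => main (hU_card hU)⟩
  · by_cases h0 : n = 0
    · exact Or.inr h0
    · refine Or.inl fun hb => ?_
      have h := hU_card hU (n - 1) (Nat.sub_le n 1)
      rw [show T (n - 1) = ⊥ from hb, Subgroup.card_bot] at h
      exact (Nat.one_lt_pow (by omega) hpP.one_lt).ne h
  · intro H hHN hHG hH
    have hcard := hchain_card hch
    obtain ⟨⟨i, hi, rfl⟩, -⟩ := main hcard H hHN hHG
    have hilt : i < n := lt_of_le_of_ne hi fun e => hH (Subgroup.card_eq_one.mp (by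
      rw [hcard i hi, e, Nat.sub_self, pow_zero]))
    have h2 := hrel _ _ (hTd i).2.2.1
    rw [hcard (i + 1) hilt, hcard i hi, show n - i = n - (i + 1) + 1 by omega, pow_succ] at h2
    exact Nat.eq_of_mul_eq_mul_left (pow_pos hpp _) h2

end Cfsg.Agent.S0663
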