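import Cfsg.Statements.S0666
import Cfsg.Agent.Lib.Frobenius.Kernel
import Cfsg.Agent.Lib.Frobenius.Complement
import Mathlib

set_option autoImplicit false
open Cfsg Pointwise

namespace Cfsg.Agent.S0666

/-- A Frobenius group acting on a nontrivial abelian group of order prime to that of its kernel, with the kernel acting without nontrivial fixed points, has a complement with a nontrivial fixed point. -/
theorem result {G : Type*} [Group G] [Finite G] (V F : Subgroup G) (hVab : IsMulCommutative V) (hV1 : V ≠ ⊥) (hFV : F ≤ Subgroup.normalizer (V : Set G)) (H : Subgroup ↥F) (hH : Cfsg.IsFrobeniusComplement H) (hcop : (Nat.card V).Coprime (Nat.card (Cfsg.frobeniusKernel H))) (hCK : V ⊓ Subgroup.centralizer (Subtype.val '' Cfsg.frobeniusKernel H : Set G) = ⊥) : V ⊓ Subgroup.centralizer ((H.map F.subtype : Subgroup G) : Set G) ≠ ⊥ := by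
  classical
  intro hbot
  obtain ⟨K, hKn, hKset, hKH, hKsup, hK1, hKcompl, -⟩ := Lib.Frobenius.exists_frobeniusKernel hH
  rw [← hKset] at hcop hCK
  let _ : Fintype F := Fintype.ofFinite F
  letI : CommGroup V := { (inferInstance : Group V) with mul_comm := fun a b => hVab.is_comm.comm a b }
  let act : F → V → V := fun f v =>
    ⟨(f : G) * v * (f : G)⁻¹, (Subgroup.mem_normalizer_iff.mp (hFV f.2) v).mp v.2⟩
  have act_mul : ∀ a b v, act (a * b) v = act a (act b v) := fun a b v => Subtype.ext (by
    simp [act, mul_assoc])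
  have act_one : ∀ v, act 1 v = v := fun v => Subtype.ext (by simp [act])
  have act_hom : ∀ f v w, act f (v * w) = act f v * act f w := fun f v w => Subtype.ext (by
    simp [act, mul_assoc])
  have act_prod : ∀ {ι : Type u_1} (s : Finset ι) (g : ι → V) f,
      act f (∏ i ∈ s, g i) = ∏ i ∈ s, act f (g i) := fun s g f =>
    map_prod (MonoidHom.mk' (act f) (act_hom f)) g s
  -- points of `V` fixed by `K`, or by `H`, are trivial
  have fixK : ∀ v : V, (∀ k ∈ K, act k v = v) → v = 1 := by
    intro v hv
    refine Subtype.ext (Subgroup.mem_bot.mp (hCK ▸ ⟨v.2, ?_⟩ : (v : G) ∈ (⊥ : Subgroup G)))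
    rintro _ ⟨k, hk, rfl⟩
    have := congrArg Subtype.val (hv k hk)
    exact mul_inv_eq_iff_eq_mul.mp this
  have fixH : ∀ v : V, (∀ h ∈ H, act h v = v) → v = 1 := by
    intro v hv
    refine Subtype.ext (Subgroup.mem_bot.mp (hbot ▸ ⟨v.2, ?_⟩ : (v : G) ∈ (⊥ : Subgroup G)))
    rintro _ ⟨h, hh, rfl⟩
    have := congrArg Subtype.val (hv h hh)
    exact mul_inv_eq_iff_eq_mul.mp this
  have hall : ∀ v : V, v = 1 := by
    intro v
    set sK := Finset.univ.filter fun f : F => f ∈ K with hsK
    set sH := Finset.univ.filter fun f : F => f ∈ H with hsH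
    have hPF : ∏ f : F, act f v = 1 := fixK _ fun k _ => by
      rw [act_prod]
      exact Fintype.prod_equiv (Equiv.mulLeft k) _ _ fun f => (act_mul k f v).symm
    have hPK : ∏ f ∈ sK, act f v = 1 := fixK _ fun k hk => by
      rw [act_prod]
      refine Finset.prod_equiv (Equiv.mulLeft k) (fun f => ?_) fun f _ => (act_mul k f v).symm
      simp only [hsK, Finset.mem_filter, Finset.mem_univ, true_and, Equiv.coe_mulLeft]
      exact (Subgroup.mul_mem_cancel_left K hk).symm
    have hT : ∀ k : F, ∏ h ∈ sH, act (k * h * k⁻¹) v = 1 := by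
      intro k
      have h1 : act k⁻¹ (∏ h ∈ sH, act (k * h * k⁻¹) v) = 1 := fixH _ fun h hh => by
        rw [act_prod, act_prod]
        refine Finset.prod_equiv (Equiv.mulLeft h) (fun f => ?_) fun f _ => ?_
        · simp only [hsH, Finset.mem_filter, Finset.mem_univ, true_and, Equiv.coe_mulLeft]
          exact (Subgroup.mul_mem_cancel_left H hh).symm
        · simp only [← act_mul, Equiv.coe_mulLeft]
          congr 1
          group
      have h2 := congrArg (act k) h1
      rw [← act_mul, mul_inv_cancel, act_one] at h2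
      rw [h2]
      exact Subtype.ext (by simp [act])
    have hbij : ∏ x ∈ sK ×ˢ (sH.erase 1), act (x.1 * x.2 * x.1⁻¹) v =
        ∏ f ∈ Finset.univ.filter (fun f : F => f ∉ K), act f v := by
      refine Finset.prod_bij (fun x _ => x.1 * x.2 * x.1⁻¹) ?_ ?_ ?_ (fun _ _ => rfl)
      · rintro ⟨k, h⟩ hx
        simp only [Finset.mem_product, Finset.mem_erase, hsK, hsH, Finset.mem_filter,
          Finset.mem_univ, true_and] at hx ⊢
        obtain ⟨hk, hh1, hh⟩ := hx
        intro hmem
        have h' : h ∈ K := by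
          have := mul_mem (mul_mem (inv_mem hk) hmem) hk
          simpa [mul_assoc] using this
        exact hh1 (Subgroup.mem_bot.mp (hKH ▸ ⟨h', hh⟩))
      · rintro ⟨k, h⟩ hx ⟨k', h'⟩ hx' he
        simp only [Finset.mem_product, Finset.mem_erase, hsK, hsH, Finset.mem_filter,
          Finset.mem_univ, true_and] at hx hx'
        obtain ⟨hk, hh1, hh⟩ := hx
        obtain ⟨hk', hh1', hh'⟩ := hx'
        simp only at he
        have hy : k'⁻¹ * k ∈ H := by
          by_contra hn
          refine hh1' (Subgroup.mem_bot.mp ((hH.2.2 _ hn).le ⟨hh', ?_⟩))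
          show h' ∈ MulAut.conj (k'⁻¹ * k) • H
          rw [Subgroup.mem_pointwise_smul_iff_inv_smul_mem]
          show (MulAut.conj (k'⁻¹ * k))⁻¹ h' ∈ H
          rw [MulAut.inv_apply, MulAut.conj_symm_apply]
          have : (k'⁻¹ * k)⁻¹ * h' * (k'⁻¹ * k) = h := by
            calc _ = k⁻¹ * (k' * h' * k'⁻¹) * k := by group
              _ = h := by rw [← he]; group
          rw [this]; exact hh
        have h1 : k'⁻¹ * k = 1 := Subgroup.mem_bot.mp (hKH ▸ ⟨mul_mem (K.inv_mem hk') hk, hy⟩)
        have hkk : k' = k := inv_mul_eq_one.mp h1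
        subst hkk
        exact Prod.ext rfl (mul_left_cancel (mul_right_cancel he))
      · intro f hf
        simp only [Finset.mem_filter, Finset.mem_univ, true_and] at hf
        have hnk : ¬ f ∈ Cfsg.frobeniusKernel H := by rw [← hKset]; exact hf
        rw [Lib.Frobenius.mem_frobeniusKernel_iff] at hnk
        push_neg at hnk
        obtain ⟨hf1, g, hg⟩ := hnk
        obtain ⟨k, hk, h0, hh0, rfl⟩ := Subgroup.mem_sup_of_normal_left.mp (hKsup.ge (Subgroup.mem_top g) :
          g ∈ K ⊔ H)
        have hc : k⁻¹ * f * k ∈ H := by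
          have := mul_mem (mul_mem hh0 hg) (inv_mem hh0)
          simpa [mul_assoc] using this
        refine ⟨(k, k⁻¹ * f * k), ?_, ?_⟩
        · simp only [Finset.mem_product, Finset.mem_erase, hsK, hsH, Finset.mem_filter,
            Finset.mem_univ, true_and]
          refine ⟨hk, fun h => hf1 ?_, hc⟩
          calc f = k * (k⁻¹ * f * k) * k⁻¹ := by group
            _ = 1 := by rw [h]; group
        · show k * (k⁻¹ * f * k) * k⁻¹ = f
          group
    have hall' : ∏ x ∈ sK ×ˢ sH, act (x.1 * x.2 * x.1⁻¹) v = 1 := by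
      rw [Finset.prod_product]; exact Finset.prod_eq_one fun k _ => hT k
    have hone : (1 : F) ∈ sH := by simp [hsH]
    rw [Finset.prod_product, Finset.prod_congr rfl (fun k _ =>
      (Finset.mul_prod_erase sH (fun h => act (k * h * k⁻¹) v) hone).symm),
      Finset.prod_mul_distrib] at hall'
    rw [← Finset.prod_product' sK (sH.erase 1) (fun k h => act (k * h * k⁻¹) v), hbij] at hall'
    have hrest : ∏ f ∈ Finset.univ.filter (fun f : F => f ∉ K), act f v = 1 := by
      have := Finset.prod_filter_mul_prod_filter_not Finset.univ (fun f : F => f ∈ K) (fun f => act f v)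
      rw [hPK, one_mul] at this
      rw [this, hPF]
    simp only [mul_inv_cancel, act_one, mul_one, Finset.prod_const] at hall'
    rw [hrest, mul_one] at hall'
    have hcard : sK.card = Nat.card (K : Set F) := by
      rw [Nat.card_eq_fintype_card, Fintype.card_of_subtype sK]
      intro f; simp [hsK]
    rw [hcard] at hall'
    refine orderOf_eq_one_iff.mp (Nat.dvd_one.mp ?_)
    rw [← hcop.gcd_eq_one]
    exact Nat.dvd_gcd (orderOf_dvd_natCard v) (orderOf_dvd_of_pow_eq_one hall')
  refine hV1 ((Subgroup.eq_bot_iff_forall _).mpr fun x hx => ?_)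
  exact congrArg Subtype.val (hall ⟨x, hx⟩)

end Cfsg.Agent.S0666
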