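import Cfsg.Statements.S0668
import Cfsg.Agent.Lib.Perm.PermModule
import Mathlib.LinearAlgebra.Dimension.Constructions

set_option autoImplicit false
open Cfsg

namespace Cfsg.Agent.S0668


/-- The equivariant linear maps between the permutation modules of two finite `G`-sets form a space whose dimension is the number of `G`-orbits on the product of the two sets. -/
theorem result {G : Type*} [Group G] {K : Type*} [Field K] {Ω₁ Ω₂ : Type*} [Fintype Ω₁] [Fintype Ω₂] [MulAction G Ω₁] [MulAction G Ω₂] : Module.finrank K ((Cfsg.permRep K G Ω₁).linHom (Cfsg.permRep K G Ω₂)).invariants = Nat.card (MulAction.orbitRel.Quotient G (Ω₁ × Ω₂)) := by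
  classical
  let Q := MulAction.orbitRel.Quotient G (Ω₁ × Ω₂)
  haveI : Fintype Q := Fintype.ofFinite Q
  let ρ := (Cfsg.permRep K G Ω₁).linHom (Cfsg.permRep K G Ω₂)
  have hmem : ∀ (φ : Q → K),
      Lib.Perm.kernelMap (fun (y : Ω₂) (x : Ω₁) => φ (Quotient.mk'' (x, y))) ∈ ρ.invariants := by
    intro φ g
    refine LinearMap.ext fun f => ?_
    simp only [ρ, Representation.linHom_apply, LinearMap.comp_apply]
    rw [← Lib.Perm.kernelMap_permRep, ← Module.End.mul_apply, ← map_mul, mul_inv_cancel, map_one]
    · rfl
    · intro h y x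
      congr 1
      exact Quotient.sound' ⟨h, rfl⟩
  let F : (Q → K) →ₗ[K] ρ.invariants :=
    { toFun := fun φ => ⟨_, hmem φ⟩
      map_add' := fun φ ψ => Subtype.ext <| LinearMap.ext fun f => funext fun y => by
        simp [Lib.Perm.kernelMap_apply, add_mul, Finset.sum_add_distrib]
      map_smul' := fun c φ => Subtype.ext <| LinearMap.ext fun f => funext fun y => by
        simp [Lib.Perm.kernelMap_apply, Finset.mul_sum, mul_assoc] }
  have hbij : Function.Bijective F := by
    constructor
    · intro φ ψ h
      funext q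
      induction q using Quotient.inductionOn' with
      | h p =>
        obtain ⟨x, y⟩ := p
        have := congrFun (LinearMap.congr_fun (congrArg Subtype.val h) (Pi.single x 1)) y
        change Lib.Perm.kernelMap _ (Pi.single x 1) y = Lib.Perm.kernelMap _ (Pi.single x 1) y at this
        rwa [Lib.Perm.kernelMap_pi_single, Lib.Perm.kernelMap_pi_single] at this
    · rintro ⟨T, hT⟩
      refine ⟨Quotient.lift (fun p => T (Pi.single p.1 1) p.2) ?_, ?_⟩
      · rintro ⟨x, y⟩ ⟨x', y'⟩ ⟨g, hg⟩
        simp only [Prod.smul_mk, Prod.mk.injEq] at hg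
        obtain ⟨rfl, rfl⟩ := hg
        have h1 := congrFun (LinearMap.congr_fun (hT g) (Pi.single (g • x') 1)) (g • y')
        change (Cfsg.permRep K G Ω₂ g) (T (Cfsg.permRep K G Ω₁ g⁻¹ (Pi.single (g • x') 1))) (g • y') =
          T (Pi.single (g • x') 1) (g • y') at h1
        rw [Lib.Perm.permRep_apply, Lib.Perm.permRep_pi_single, inv_smul_smul, inv_smul_smul] at h1
        exact h1.symm
      · apply Subtype.ext
        refine LinearMap.pi_ext' fun x => LinearMap.ext_ring (funext fun y => ?_)
        simp only [LinearMap.comp_apply, LinearMap.coe_single]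
        change Lib.Perm.kernelMap (fun (y : Ω₂) (x : Ω₁) => Quotient.lift (fun p => T (Pi.single p.1 1) p.2) _ (Quotient.mk'' (x, y))) (Pi.single x 1) y = T (Pi.single x 1) y
        rw [Lib.Perm.kernelMap_pi_single]
        rfl
  rw [← LinearEquiv.finrank_eq (LinearEquiv.ofBijective F hbij), Module.finrank_fintype_fun_eq_card,
    Nat.card_eq_fintype_card]

end Cfsg.Agent.S0668
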