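import Cfsg.Statements.S0669
import Cfsg.Agent.Lib.Perm.Basic

set_option autoImplicit false
open Cfsg

namespace Cfsg.Agent.S0669


/-- The rank of a transitive action: orbits on ordered pairs correspond to orbits of a point stabiliser. -/
theorem result {G : Type*} [Group G] {Ω : Type*} [Finite Ω] [MulAction G Ω] [MulAction.IsPretransitive G Ω] (a : Ω) : Nat.card (MulAction.orbitRel.Quotient G (Ω × Ω)) = Nat.card (MulAction.orbitRel.Quotient (MulAction.stabilizer G a) Ω) := by
  symm
  let F : MulAction.orbitRel.Quotient (MulAction.stabilizer G a) Ω → MulAction.orbitRel.Quotient G (Ω × Ω) :=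
    Quotient.map' (fun x => (a, x)) (by
      rintro x y ⟨g, hg⟩
      refine ⟨(g : G), ?_⟩
      have : (g : G) • a = a := g.2
      simp only [Prod.smul_mk, this]
      rw [← hg]; rfl)
  apply Nat.card_congr
  refine Equiv.ofBijective F ⟨?_, ?_⟩
  · intro q q'
    refine Quotient.inductionOn₂' q q' ?_
    intro x y h
    obtain ⟨g, hg⟩ := Quotient.exact' h
    simp only [Prod.smul_mk, Prod.mk.injEq] at hg
    exact Quotient.sound' ⟨⟨g, hg.1⟩, hg.2⟩
  · intro q
    refine Quotient.inductionOn' q ?_
    rintro ⟨x, y⟩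
    obtain ⟨g, hg⟩ := MulAction.exists_smul_eq G x a
    refine ⟨Quotient.mk'' (g • y), Quotient.sound' ⟨g, ?_⟩⟩
    simp [hg]

end Cfsg.Agent.S0669
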