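import Cfsg.Statements.S0678
import Cfsg.Agent.Lib.SylowCounting.PermNormalizer
import Cfsg.Agent.Lib.SylowCounting.Counting
import Cfsg.Agent.Lib.Characters.Burnside
import Mathlib.GroupTheory.GroupAction.Jordan
import Mathlib.GroupTheory.SpecificGroups.Alternating.Simple

set_option autoImplicit false
set_option linter.style.haveILetI false
open Cfsg

namespace Cfsg.Agent.S0678


open Equiv Equiv.Perm Cfsg.Agent.Lib.SylowCounting MulAction

variable {α : Type*} [Fintype α] [DecidableEq α]

/-- The Sylow normalizer of a subgroup embeds into the one of the symmetric group. -/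
theorem norm_bound (hα : Fintype.card α = 7) {p : ℕ} [hp : Fact p.Prime] (h1 : p ≤ 7) (h2 : 7 < 2 * p)
    (K : Subgroup (Perm α)) (hK : p ∣ Nat.card K) (P : Sylow p K) :
    Nat.card (P : Subgroup K) = p ∧ ∃ R : Sylow p (Perm α),
      (Subgroup.normalizer ((P : Subgroup K) : Set K)).map K.subtype ≤
        Subgroup.normalizer ((R : Subgroup (Perm α)) : Set (Perm α)) ⊓ K := by
  obtain ⟨m, hm, hmd⟩ := factorial_prime_part hp.out (h1.trans_eq hα.symm) (hα ▸ h2)
  have hfull : Nat.card (Perm α) = p ^ 1 * m := by
    rw [Nat.card_eq_fintype_card, Fintype.card_perm, hm]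
  obtain ⟨c, hc⟩ := hK
  have hcd : ¬ p ∣ c := fun h => by
    have := (Subgroup.card_subgroup_dvd_card K)
    rw [hfull, pow_one, hc] at this
    exact hmd (h.trans (Nat.dvd_of_mul_dvd_mul_left hp.out.pos this))
  have hP : Nat.card (P : Subgroup K) = p := by
    have := sylow_card (p := p) (k := 1) (m := c) (by rw [hc, pow_one]) hcd P
    rwa [pow_one] at this
  refine ⟨hP, ?_⟩
  obtain ⟨R, hR⟩ := ((P.2.map K.subtype) : IsPGroup p ((P : Subgroup K).map K.subtype)).exists_le_sylow
  refine ⟨R, ?_⟩
  have hRe : (P : Subgroup K).map K.subtype = R := by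
    refine Subgroup.eq_of_le_of_card_ge hR ?_
    rw [Subgroup.card_map_of_injective K.subtype_injective, hP]
    exact le_of_eq (perm_sylow_card (h1.trans_eq hα.symm) (hα ▸ h2) R)
  refine le_inf ?_ (Subgroup.map_subtype_le _)
  rw [← hRe]
  exact Subgroup.le_normalizer_map K.subtype

/-- A non-solvable transitive permutation group on 7 points that does not contain the alternating group is a simple group of order 168. -/
theorem result {α : Type*} [Fintype α] [DecidableEq α] (hα : Fintype.card α = 7) (G : Subgroup (Equiv.Perm α)) [MulAction.IsPretransitive G α] (hG : ¬ Group.IsSolvable G) (hA : ¬ alternatingGroup α ≤ G) : Nat.card G = 168 ∧ IsSimpleGroup G := by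
  classical
  have hS : Nat.card (Perm α) = 5040 := by
    rw [Nat.card_eq_fintype_card, Fintype.card_perm, hα]
    decide
  haveI : Nontrivial α := Fintype.one_lt_card_iff_nontrivial.1 (by omega)
  have hAc : Nat.card (alternatingGroup α) = 2520 := by
    rw [nat_card_alternatingGroup, Nat.card_eq_fintype_card, hα]
    decide
  haveI : IsSimpleGroup (alternatingGroup α) :=
    alternatingGroup.isSimpleGroup (by rw [Nat.card_eq_fintype_card, hα]; norm_num)
  have hprim : IsPreprimitive G α :=
    IsPreprimitive.of_prime_card (by rw [Nat.card_eq_fintype_card, hα]; norm_num)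
  obtain ⟨a⟩ : Nonempty α := Fintype.card_pos_iff.1 (by omega)
  have h7G : 7 ∣ Nat.card G := by
    rw [← hα, ← Nat.card_eq_fintype_card, ← index_stabilizer_of_transitive G a]
    exact Subgroup.index_dvd_card _
  -- the even part
  let H : Subgroup G := (alternatingGroup α).subgroupOf G
  let K : Subgroup (Perm α) := G ⊓ alternatingGroup α
  have hKH : Nat.card H = Nat.card K := by
    simp only [H, K]
    rw [← Subgroup.inf_subgroupOf_left]
    exact Nat.card_congr (Subgroup.subgroupOfEquivOfLe inf_le_left).toEquiv
  have hidx : H.index ∣ 2 := by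
    have : H = (Equiv.Perm.sign.comp G.subtype).ker := by
      ext x
      simp [H, Subgroup.mem_subgroupOf]
    rw [this, Subgroup.index_ker]
    exact (Subgroup.card_subgroup_dvd_card _).trans (by simp)
  have hGH := H.card_mul_index
  have h7K : 7 ∣ Nat.card K := by
    rw [← hKH]
    rcases (Nat.dvd_prime Nat.prime_two).1 hidx with h | h <;> rw [h] at hGH
    · rwa [← hGH, mul_one] at h7G
    · exact (Nat.Coprime.dvd_mul_right (by norm_num)).1 (hGH ▸ h7G)
  have hKd : Nat.card K ∣ 2520 := hAc ▸ Subgroup.card_dvd_of_le inf_le_right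
  have h2of3 : ∀ g : Perm α, g.IsThreeCycle → g ∈ G → False := fun g hg hgG =>
    hA (alternatingGroup_le_of_isPreprimitive_of_isThreeCycle_mem hprim hg hgG)
  -- Sylow 7 of the even part
  haveI h7 : Fact (Nat.Prime 7) := ⟨by norm_num⟩
  haveI h5 : Fact (Nat.Prime 5) := ⟨by norm_num⟩
  obtain ⟨n, j, hn, hj, hcardK, hn15⟩ : ∃ n j, n % 7 = 1 ∧ (j = 1 ∨ j = 3) ∧ Nat.card K = 7 * j * n ∧
      (n = 15 → Nat.card (Sylow 7 K) = 15) := by
    obtain ⟨hP, R, hR⟩ := norm_bound hα (p := 7) le_rfl (by norm_num) K h7K default
    have hN := Subgroup.card_dvd_of_le (hR.trans (inf_le_inf_left _ inf_le_right))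
    rw [Subgroup.card_map_of_injective K.subtype_injective] at hN
    have h21 := (two_mul_card_normalizer_inf_alternating (by norm_num) R).2
    rw [card_normalizer_perm_sylow hα.ge (by omega) R, hα] at h21
    simp only [Nat.reduceSub, Nat.reduceMul, Nat.factorial_zero, mul_one] at h21
    rw [show Nat.card ↥(Subgroup.normalizer ((R : Subgroup (Perm α)) : Set (Perm α)) ⊓
      alternatingGroup α) = 21 by omega] at hN
    have h7N : 7 ∣ Nat.card (Subgroup.normalizer (((default : Sylow 7 K) : Subgroup K) : Set K)) := by
      have h := Subgroup.card_dvd_of_le (Subgroup.le_normalizer (H := ((default : Sylow 7 K) : Subgroup K)))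
      rwa [hP] at h
    obtain ⟨j, hj⟩ := h7N
    refine ⟨Nat.card (Sylow 7 K), j, sylow_count_mod 7, ?_, ?_, id⟩
    · rw [hj] at hN
      exact (Nat.dvd_prime Nat.prime_three).1 (Nat.dvd_of_mul_dvd_mul_left (by norm_num) hN)
    · rw [← hj, Sylow.card_eq_index_normalizer (default : Sylow 7 K)]
      exact (Subgroup.card_mul_index _).symm
  have hsolv : Nat.card K ∈ ({7, 21, 56} : Finset ℕ) → False := by
    intro hm
    have hHs : Group.IsSolvable H := by
      simp only [Finset.mem_insert, Finset.mem_singleton, ← hKH] at hm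
      rcases hm with h | h | h
      · exact Cfsg.Agent.Lib.Characters.isSolvable_of_card_eq_pow_mul_pow (p := 7) (q := 2) (a := 1) (b := 0)
          (by norm_num) (by norm_num) (by rw [h]; norm_num)
      · exact Cfsg.Agent.Lib.Characters.isSolvable_of_card_eq_pow_mul_pow (p := 7) (q := 3) (a := 1) (b := 1)
          (by norm_num) (by norm_num) (by rw [h]; norm_num)
      · exact Cfsg.Agent.Lib.Characters.isSolvable_of_card_eq_pow_mul_pow (p := 7) (q := 2) (a := 1) (b := 3)
          (by norm_num) (by norm_num) (by rw [h]; norm_num)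
    haveI := hHs
    exact hG (Group.isSolvable_of_ker_le_range H.subtype (Equiv.Perm.sign.comp G.subtype) (by
      intro x hx
      exact ⟨⟨x, by simpa [H, Subgroup.mem_subgroupOf] using hx⟩, rfl⟩))
  have h9 : 9 ∣ Nat.card K → False := by
    intro h9
    haveI : Fact (Nat.Prime 3) := ⟨by norm_num⟩
    obtain ⟨Q, hQ⟩ := Sylow.exists_subgroup_card_pow_prime (G := K) 3 (n := 2) h9
    let Q' := Q.map K.subtype
    have hQc : Nat.card Q' = 3 ^ 2 := by rw [Subgroup.card_map_of_injective K.subtype_injective, hQ]
    obtain ⟨R, hR⟩ := (IsPGroup.of_card hQc).exists_le_sylow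
    have hRc := sylow_card (p := 3) (k := 2) (m := 560) (G := Perm α) hS (by norm_num) R
    have hRe : Q' = R := Subgroup.eq_of_le_of_card_ge hR (by omega)
    obtain ⟨x, y, z, hxy, hxz, hyz⟩ := Fintype.two_lt_card_iff.1 (show 2 < Fintype.card α by omega)
    set σ : Perm α := swap x y * swap x z
    have hσ : σ.IsThreeCycle := Equiv.Perm.isThreeCycle_swap_mul_swap_same hxy hxz hyz
    obtain ⟨R', hR'⟩ := (IsPGroup.of_card (p := 3) (n := 1)
      (G := Subgroup.zpowers σ) (by rw [Nat.card_zpowers, hσ.orderOf, pow_one])).exists_le_sylow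
    obtain ⟨g, hg⟩ := exists_smul_eq (Perm α) R' R
    have hmem : g * σ * g⁻¹ ∈ (R : Subgroup (Perm α)) := by
      rw [← hg]
      exact ⟨σ, hR' (Subgroup.mem_zpowers σ), rfl⟩
    rw [← hRe] at hmem
    obtain ⟨q, -, hq⟩ := hmem
    exact h2of3 (g * σ * g⁻¹) (by rw [Equiv.Perm.IsThreeCycle, Equiv.Perm.cycleType_conj]; exact hσ) (by rw [← hq]; exact q.2.1)
  have hK168 : Nat.card K = 168 := by
    have hmem : n ∈ Nat.divisors 360 := by
      rw [Nat.mem_divisors]
      refine ⟨?_, by norm_num⟩
      rw [hcardK] at hKd
      rcases hj with rfl | rfl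
      · exact (Nat.dvd_of_mul_dvd_mul_left (k := 7) (by norm_num) (by simpa using hKd))
      · exact Dvd.dvd.trans (Dvd.intro_left 3 rfl)
          (Nat.dvd_of_mul_dvd_mul_left (k := 7) (by norm_num) (by rwa [mul_assoc] at hKd))
    have hlist : ∀ d ∈ Nat.divisors 360, d % 7 = 1 → d ∈ ({1, 8, 15, 36, 120} : Finset ℕ) := by decide +kernel
    have hn' := hlist n hmem hn
    simp only [Finset.mem_insert, Finset.mem_singleton] at hn'
    rw [hcardK] at hKd
    rcases hj with rfl | rfl <;> rcases hn' with rfl | rfl | rfl | rfl | rfl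
    all_goals first
      | exact hcardK
      | (norm_num at hKd; done)
      | (exfalso; apply hsolv; rw [hcardK]; norm_num; done)
      | (exfalso; apply h9; rw [hcardK]; norm_num; done)
      | (exfalso
         have hne : K.subgroupOf (alternatingGroup α) ≠ ⊤ := fun e => by
           have hle : alternatingGroup α ≤ K := Subgroup.subgroupOf_eq_top.1 e
           exact hA (hle.trans inf_le_left)
         have h := two_card_dvd_factorial (not_comm_of_not_prime (by rw [hAc]; norm_num)) _ hne
         have hi := (K.subgroupOf (alternatingGroup α)).card_mul_index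
         rw [Nat.card_congr (Subgroup.subgroupOfEquivOfLe (inf_le_right : K ≤ alternatingGroup α)).toEquiv,
           hcardK, hAc] at hi
         rw [hAc, show (K.subgroupOf (alternatingGroup α)).index = 3 by omega] at h
         norm_num [Nat.factorial] at h
         done)
      | skip
    · exfalso
      obtain ⟨hP5, R, hR⟩ := norm_bound hα (p := 5) (by norm_num) (by norm_num) K (by rw [hcardK]; norm_num) default
      have hN := Subgroup.card_dvd_of_le (hR.trans inf_le_left)
      rw [Subgroup.card_map_of_injective K.subtype_injective,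
        card_normalizer_perm_sylow (by omega) (by omega) R, hα] at hN
      simp only [Nat.reduceSub, Nat.reduceMul, Nat.factorial] at hN
      have h5 := sylow_count_mem (G := K) (p := 5) (k := 1) (m := 21) (by rw [hcardK]; norm_num) (by norm_num)
      have hm := Subgroup.card_mul_index (Subgroup.normalizer ((default : Sylow 5 K) : Set K))
      rw [← Sylow.card_eq_index_normalizer (default : Sylow 5 K), hcardK] at hm
      have hlist5 : ∀ d ∈ Nat.divisors 21, d % 5 = 1 → d ∈ ({1, 21} : Finset ℕ) := by decide +kernel
      have hm5 := sylow_count_mod (G := K) 5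
      have := hlist5 _ (Nat.mem_divisors.2 ⟨sylow_count_dvd (G := K) (p := 5) (k := 1) (m := 21) (by rw [hcardK]; norm_num) (by norm_num), by norm_num⟩) hm5
      simp only [Finset.mem_insert, Finset.mem_singleton] at this
      rcases this with h | h
      · rw [h, mul_one] at hm
        have e : Nat.card (Subgroup.normalizer (((default : Sylow 5 K) : Subgroup K) : Set K)) = _ := hm
        rw [e] at hN
        norm_num at hN
      · have e5 := card_orderOf_eq_prime (G := K) (p := 5) (fun P => by
          simpa using sylow_card (G := K) (p := 5) (k := 1) (m := 21) (by rw [hcardK]; norm_num) (by norm_num) P)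
        have e7 := card_orderOf_eq_prime (G := K) (p := 7) (fun P => by
          simpa using sylow_card (G := K) (p := 7) (k := 1) (m := 15) (by rw [hcardK]; norm_num) (by norm_num) P)
        have h7c : Nat.card (Sylow 7 K) = 15 := hn15 rfl
        have := one_add_card_orderOf_le (G := K) (p := 7) (q := 5) (by norm_num) (by norm_num) (by norm_num)
        rw [e5, e7, h, h7c, hcardK] at this
        norm_num at this
  have hG168 : Nat.card G = 168 := by
    rw [← hGH, hKH, hK168]
    rcases (Nat.dvd_prime Nat.prime_two).1 hidx with h | h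
    · rw [h]
    · exfalso
      rw [hKH, hK168, h] at hGH
      haveI : Fact (Nat.Prime 2) := ⟨Nat.prime_two⟩
      let P : Sylow 2 G := default
      have hPc := sylow_card (p := 2) (k := 4) (m := 21) (G := G) (by rw [← hGH]; norm_num) (by norm_num) P
      obtain ⟨R, hR⟩ := (P.2.map G.subtype).exists_le_sylow
      have hRc := sylow_card (p := 2) (k := 4) (m := 315) (G := Perm α) hS (by norm_num) R
      have hRe : (P : Subgroup G).map G.subtype = R := Subgroup.eq_of_le_of_card_ge hR (by
        rw [Subgroup.card_map_of_injective G.subtype_injective]; omega)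
      obtain ⟨x, y, hxy⟩ := Fintype.exists_pair_of_one_lt_card (show 1 < Fintype.card α by omega)
      obtain ⟨R', hR'⟩ := (IsPGroup.of_card (p := 2) (n := 1)
        (G := Subgroup.zpowers (swap x y)) (by
          rw [Nat.card_zpowers, pow_one]
          exact orderOf_eq_prime (by ext i; simp [sq]) (fun e => hxy (by
            simpa using (DFunLike.congr_fun e x).symm)))).exists_le_sylow
      obtain ⟨g, hg⟩ := exists_smul_eq (Perm α) R' R
      have hmem : g * swap x y * g⁻¹ ∈ (R : Subgroup (Perm α)) := by
        rw [← hg]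
        exact ⟨swap x y, hR' (Subgroup.mem_zpowers _), rfl⟩
      rw [← hRe] at hmem
      obtain ⟨q, -, hq⟩ := hmem
      have := subgroup_eq_top_of_isPreprimitive_of_isSwap_mem hprim (g * swap x y * g⁻¹)
        ⟨g x, g y, g.injective.ne hxy, by ext i; simp [Equiv.swap_apply_def]; grind⟩ (by rw [← hq]; exact q.2)
      exact hA (this ▸ le_top)
  refine ⟨hG168, ?_⟩
  haveI : Nontrivial G := Finite.one_lt_card_iff_nontrivial.1 (by omega)
  refine ⟨fun N hN => or_iff_not_imp_left.2 fun hne => ?_⟩
  haveI := hN
  have htr : IsPretransitive N α := by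
    haveI := hprim
    haveI : FaithfulSMul G α := inferInstance
    refine IsQuasiPreprimitive.isPretransitive_of_normal fun hfix => hne ?_
    rw [Subgroup.eq_bot_iff_forall]
    intro x hx
    apply Subtype.ext
    ext i
    have hi : i ∈ fixedPoints N α := hfix ▸ Set.mem_univ i
    exact hi ⟨x, hx⟩
  have h7N : 7 ∣ Nat.card N := by
    rw [← hα, ← Nat.card_eq_fintype_card, ← index_stabilizer_of_transitive N a]
    exact Subgroup.index_dvd_card _
  have hNd := N.card_subgroup_dvd_card
  rw [hG168] at hNd
  obtain ⟨hP, R, hR⟩ := norm_bound hα (p := 7) le_rfl (by norm_num) G h7G default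
  have hG7 : ∀ P : Sylow 7 G, Nat.card (P : Subgroup G) = 7 := fun P => by
    simpa using sylow_card (G := G) (p := 7) (k := 1) (m := 24) (by rw [hG168]; norm_num) (by norm_num) P
  have hn8 : Nat.card (Sylow 7 G) = 8 := by
    have hN := Subgroup.card_dvd_of_le (hR.trans inf_le_left)
    rw [Subgroup.card_map_of_injective G.subtype_injective,
      card_normalizer_perm_sylow (by omega) (by omega) R, hα] at hN
    simp only [Nat.reduceSub, Nat.reduceMul, Nat.factorial] at hN
    have hm := Subgroup.card_mul_index (Subgroup.normalizer ((default : Sylow 7 G) : Set G))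
    rw [← Sylow.card_eq_index_normalizer (default : Sylow 7 G), hG168] at hm
    have hlist7 : ∀ d ∈ Nat.divisors 24, d % 7 = 1 → d ∈ ({1, 8} : Finset ℕ) := by decide +kernel
    have := hlist7 _ (Nat.mem_divisors.2 ⟨sylow_count_dvd (G := G) (p := 7) (k := 1) (m := 24) (by rw [hG168]; norm_num) (by norm_num), by norm_num⟩) (sylow_count_mod 7)
    simp only [Finset.mem_insert, Finset.mem_singleton] at this
    refine this.resolve_left fun h => ?_
    rw [h, mul_one] at hm
    have e : Nat.card (Subgroup.normalizer (((default : Sylow 7 G) : Subgroup G) : Set G)) = _ := hm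
    rw [e] at hN
    norm_num at hN
  have hN7 : ¬ 7 ∣ N.index := by
    intro h
    have h49 : 7 * 7 ∣ 168 := hG168 ▸ N.card_mul_index ▸ mul_dvd_mul h7N h
    norm_num at h49
  have hall : ∀ x : G, orderOf x = 7 → x ∈ N := by
    intro x hx
    rw [← QuotientGroup.eq_one_iff, ← orderOf_eq_one_iff]
    have h1 : orderOf (x : G ⧸ N) ∣ 7 := hx ▸ orderOf_map_dvd (QuotientGroup.mk' N) x
    refine ((Nat.dvd_prime h7.out).1 h1).resolve_right fun h => hN7 ?_
    rw [← h, Subgroup.index]
    exact orderOf_dvd_natCard _
  have h48 : 49 ≤ Nat.card N := by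
    let f : Option {x : G // orderOf x = 7} → N := fun o => o.elim 1 fun x => ⟨x.1, hall _ x.2⟩
    have hf : Function.Injective f := by
      rintro (_ | x) (_ | y) h
      · rfl
      · have : (1 : G) = y.1 := congrArg Subtype.val h
        exact absurd y.2 (by rw [← this, orderOf_one]; norm_num)
      · have : x.1 = (1 : G) := congrArg Subtype.val h
        exact absurd x.2 (by rw [this, orderOf_one]; norm_num)
      · exact congrArg some (Subtype.ext (congrArg Subtype.val h :))
    have := Nat.card_le_card_of_injective f hf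
    rwa [Finite.card_option, card_orderOf_eq_prime hG7, hn8] at this
  have hlist : ∀ d ∈ Nat.divisors 168, 49 ≤ d → 7 ∣ d → d ∈ ({56, 84, 168} : Finset ℕ) := by decide +kernel
  have := hlist _ (Nat.mem_divisors.2 ⟨hNd, by norm_num⟩) h48 h7N
  simp only [Finset.mem_insert, Finset.mem_singleton] at this
  rcases this with h | h | h
  · exfalso
    haveI : Group.IsSolvable N := Cfsg.Agent.Lib.Characters.isSolvable_of_card_eq_pow_mul_pow (p := 7) (q := 2) (a := 1) (b := 3)
      (by norm_num) (by norm_num) (by rw [h]; norm_num)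
    have hq : Nat.card (G ⧸ N) = 3 := by
      have := Subgroup.card_eq_card_quotient_mul_card_subgroup N
      rw [hG168, h] at this
      omega
    haveI : Group.IsSolvable (G ⧸ N) := Cfsg.Agent.Lib.Characters.isSolvable_of_card_eq_pow_mul_pow (p := 3) (q := 2) (a := 1) (b := 0)
      (by norm_num) (by norm_num) (by rw [hq]; norm_num)
    exact hG (Group.isSolvable_of_ker_le_range N.subtype (QuotientGroup.mk' N) (by simp))
  · exfalso
    -- a subgroup of index two would have at most six elements of order seven
    have hN7c : ∀ P : Sylow 7 N, Nat.card (P : Subgroup N) = 7 := fun P => by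
      simpa using sylow_card (G := N) (p := 7) (k := 1) (m := 12) (by rw [h]; norm_num) (by norm_num) P
    have hcnt := sylow_count_mod (G := N) 7
    have hd := sylow_count_dvd (G := N) (p := 7) (k := 1) (m := 12) (by rw [h]; norm_num) (by norm_num)
    have hlist2 : ∀ d ∈ Nat.divisors 12, d % 7 = 1 → d = 1 := by decide +kernel
    have h1 := hlist2 _ (Nat.mem_divisors.2 ⟨hd, by norm_num⟩) hcnt
    have := Nat.card_le_card_of_injective
      (fun x : {x : G // orderOf x = 7} => (⟨⟨x.1, hall _ x.2⟩, by rw [← Subgroup.orderOf_coe]; exact x.2⟩ : {y : N // orderOf y = 7}))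
      (fun x y h => Subtype.ext (congrArg (fun z : {y : N // orderOf y = 7} => (z.1 : G)) h))
    rw [card_orderOf_eq_prime hG7, card_orderOf_eq_prime hN7c, hn8, h1] at this
    norm_num at this
  · exact Subgroup.eq_top_of_card_eq N (h.trans hG168.symm)

end Cfsg.Agent.S0678
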