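import Cfsg.Statements.S0679
import Cfsg.Agent.Lib.Characters.DegreeEleven
import Cfsg.Agent.S0498
-- import your own Cfsg.Agent.* helpers here

set_option autoImplicit false
open Cfsg

namespace Cfsg.Agent.S0679

/-- A non-solvable transitive permutation group on 11 points that does not contain the alternating group is either sharply 4-transitive (of order 7920) or isomorphic to the projective special linear group of degree 2 over the field with 11 elements. -/
theorem result {α : Type*} [Fintype α] [DecidableEq α] (hα : Fintype.card α = 11) (G : Subgroup (Equiv.Perm α)) [MulAction.IsPretransitive G α] (hG : ¬ Group.IsSolvable G) (hA : ¬ alternatingGroup α ≤ G) : (MulAction.IsMultiplyPretransitive G α 4 ∧ ∀ x : Fin 4 ↪ α, MulAction.stabilizer G x = ⊥) ∨ Nonempty (G ≃* Matrix.ProjectiveSpecialLinearGroup (Fin 2) (ZMod 11)) := by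
  classical
  haveI : Fact (Nat.Prime 11) := ⟨by norm_num⟩
  haveI : Fact (Nat.Prime 5) := ⟨by norm_num⟩
  haveI : Fact (Nat.Prime 3) := ⟨by norm_num⟩
  have hprim : MulAction.IsPreprimitive G α :=
    MulAction.IsPreprimitive.of_prime_card (by rw [Nat.card_eq_fintype_card, hα]; norm_num)
  have h : Cfsg.Agent.Lib.Characters.DegreeEleven.Setting hα G := ⟨hA, hprim⟩
  obtain ⟨n, hn, hc, -⟩ := h.order_cases hG
  obtain ⟨a⟩ : Nonempty α := Fintype.card_pos_iff.1 (by omega)
  haveI hKt : MulAction.IsPretransitive (Cfsg.Agent.Lib.Characters.DegreeEleven.even G) α :=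
    Cfsg.Agent.Lib.Characters.DegreeEleven.transitive_of_dvd hα _ (hc ▸ Dvd.intro (5 * n) (by ring))
  rcases hn with rfl | rfl | rfl
  · right
    have hs : Cfsg.Agent.Lib.Characters.DegreeEleven.Small hα G a :=
      { setting := h
        two := Cfsg.Agent.Lib.Perm.two_transitive_of_not_solvable (p := 11) hα _
          (Cfsg.Agent.Lib.Characters.DegreeEleven.even_not_solvable hG)
        card := hc
        not_solvable := Cfsg.Agent.Lib.Characters.DegreeEleven.even_not_solvable hG }
    have he := hs.card_eq
    have hK : Cfsg.Agent.Lib.Characters.DegreeEleven.even G = G :=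
      Subgroup.eq_of_le_of_card_ge inf_le_left (by rw [he, hs.card])
    haveI : IsSimpleGroup G := hK ▸ hs.simple
    exact Cfsg.Agent.S0498.result (G := G) 11 (Or.inl rfl) (by rw [he]; norm_num) (F := ZMod 11)
      (ZMod.card 11)
  · left
    exact ((h.large_card hc).2)
  · exfalso
    exact absurd (h.five_count a hc (Or.inr rfl)).1 (by norm_num)

end Cfsg.Agent.S0679
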