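import Cfsg.Statements.S0680
import Cfsg.Agent.Lib.Perm.SharplyTwo

set_option autoImplicit false
open Cfsg

namespace Cfsg.Agent.S0680


/-- A finite sharply doubly transitive permutation group has degree a prime power `p ^ j`; a Sylow `p`-subgroup is normal, elementary abelian and regular, and consists of the identity together with the elements without fixed points. (Frobenius' Theorem is not needed.) -/
theorem result {α : Type*} [Fintype α] [DecidableEq α] (G : Subgroup (Equiv.Perm α)) [MulAction.IsMultiplyPretransitive G α 2] (hsharp : ∀ x : Fin 2 ↪ α, MulAction.stabilizer G x = ⊥) (h2 : 2 ≤ Fintype.card α) : ∃ p j : ℕ, p.Prime ∧ 1 ≤ j ∧ Fintype.card α = p ^ j ∧ ∀ (hp : Fact p.Prime) (P : Sylow p G), (P : Subgroup G).Normal ∧ IsMulCommutative (P : Subgroup G) ∧ (∀ x ∈ (P : Subgroup G), x ^ p = 1) ∧ MulAction.IsPretransitive (P : Subgroup G) α ∧ (∀ a : α, MulAction.stabilizer (P : Subgroup G) a = ⊥) ∧ ∀ g : G, g ∈ (P : Subgroup G) ↔ g = 1 ∨ ∀ a : α, g • a ≠ a := by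
  obtain ⟨N, p, j, hN, hp, hj, hcard, hNcard, hGcard, hab, hexp, hNt, hsemi, hmem⟩ :=
    Lib.Perm.exists_translation_subgroup (G := G) inferInstance hsharp h2
  refine ⟨p, j, hp, hj, hcard, fun hpf P => ?_⟩
  haveI := hN
  have hle : N ≤ P := by
    have hpN : IsPGroup p N := IsPGroup.of_card hNcard
    have hsup : IsPGroup p (N ⊔ (P : Subgroup G) : Subgroup G) :=
      IsPGroup.to_sup_of_normal_left hpN P.isPGroup'
    rw [← P.is_maximal' hsup le_sup_right]
    exact le_sup_left
  have hPN : N = (P : Subgroup G) := by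
    refine Subgroup.eq_of_le_of_card_ge hle (le_of_eq ?_)
    rw [hNcard, P.card_eq_multiplicity, hGcard,
      Nat.factorization_mul (pow_ne_zero _ hp.ne_zero)
        (Nat.sub_ne_zero_of_lt (Nat.one_lt_pow (by omega) hp.one_lt))]
    have hnd : ¬ p ∣ p ^ j - 1 := by
      intro hd
      have hd0 : p ∣ p ^ j := dvd_pow_self p (by omega)
      have hd1 := Nat.dvd_sub hd0 hd
      rw [Nat.sub_sub_self (Nat.one_le_pow j p hp.pos)] at hd1
      exact hp.one_lt.ne' (Nat.dvd_one.mp hd1)
    simp [hp.factorization_self, Nat.factorization_eq_zero_of_not_dvd hnd]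
  rw [← hPN]
  exact ⟨hN, ⟨⟨fun x y => Subtype.ext (hab x x.2 y y.2)⟩⟩, hexp, hNt, hsemi, hmem⟩

end Cfsg.Agent.S0680
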