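import Cfsg.Statements.S0681


set_option autoImplicit false
open Cfsg

namespace Cfsg.Agent.S0681


/-- The affine maps `x ↦ x * a + b`, `a ≠ 0`, of a near-field form a sharply doubly transitive permutation group. -/
theorem result {F : Type*} [Cfsg.NearField F] : ∃ H : Subgroup (Equiv.Perm F), (∀ σ : Equiv.Perm F, σ ∈ H ↔ ∃ a b : F, a ≠ 0 ∧ ∀ x : F, σ x = x * a + b) ∧ MulAction.IsMultiplyPretransitive H F 2 ∧ ∀ x : Fin 2 ↪ F, MulAction.stabilizer H x = ⊥ := by
  classical
  have zero_mul' : ∀ c : F, (0 : F) * c = 0 := by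
    intro c
    have := NearField.right_distrib (0 : F) 0 c
    rw [add_zero] at this
    exact left_eq_add.mp this
  have neg_mul' : ∀ x c : F, -x * c = -(x * c) := by
    intro x c
    have h := NearField.right_distrib (-x) x c
    rw [neg_add_cancel, zero_mul'] at h
    exact eq_neg_of_add_eq_zero_left h.symm
  have mul_ne : ∀ a c : F, a ≠ 0 → c ≠ 0 → a * c ≠ 0 := by
    intro a c ha hc h
    obtain ⟨c', hc', -⟩ := NearField.exists_inv c hc
    have h2 := congrArg (fun z => z * c') h
    simp only [mul_assoc, hc', mul_one, zero_mul'] at h2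
    exact ha h2
  let H : Subgroup (Equiv.Perm F) :=
    { carrier := {σ | ∃ a b : F, a ≠ 0 ∧ ∀ x : F, σ x = x * a + b}
      one_mem' := ⟨1, 0, NearField.zero_ne_one.symm, fun x => by simp⟩
      mul_mem' := by
        rintro σ τ ⟨a, b, ha, hσ⟩ ⟨c, d, hc, hτ⟩
        refine ⟨c * a, d * a + b, mul_ne c a hc ha, fun x => ?_⟩
        rw [Equiv.Perm.mul_apply, hτ, hσ, NearField.right_distrib, mul_assoc, add_assoc]
      inv_mem' := by
        rintro σ ⟨a, b, ha, hσ⟩
        obtain ⟨a', ha1, ha2⟩ := NearField.exists_inv a ha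
        have ha' : a' ≠ 0 := fun h => by
          rw [h, zero_mul'] at ha2; exact NearField.zero_ne_one ha2
        refine ⟨a', (-b) * a', ha', fun x => ?_⟩
        apply σ.injective
        rw [Equiv.Perm.inv_def, Equiv.apply_symm_apply, hσ, NearField.right_distrib, mul_assoc,
          mul_assoc, ha2, mul_one, mul_one, neg_add_cancel_right] }
  have hpair : ∀ x y u v : F, x ≠ y → u ≠ v → ∃ σ : H, σ • x = u ∧ σ • y = v := by
    intro x y u v hxy huv
    obtain ⟨d', hd1, hd2⟩ := NearField.exists_inv (x + -y) (fun h => hxy (by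
      rw [add_neg_eq_zero] at h; exact h))
    have hd' : d' ≠ 0 := fun h => by rw [h, zero_mul'] at hd2; exact NearField.zero_ne_one hd2
    set a := d' * (u + -v) with ha
    have hane : a ≠ 0 := mul_ne _ _ hd' (fun h => huv (by rw [add_neg_eq_zero] at h; exact h))
    obtain ⟨a', ha1, ha2⟩ := NearField.exists_inv a hane
    have key : x * a + -(y * a) = u + -v := by
      rw [← neg_mul', ← NearField.right_distrib, ha, ← mul_assoc, hd1, one_mul]
    let σ : Equiv.Perm F :=
      { toFun := fun z => z * a + (-(y * a) + v)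
        invFun := fun z => (z + -(-(y * a) + v)) * a'
        left_inv := fun z => by
          change (z * a + (-(y * a) + v) + -(-(y * a) + v)) * a' = z
          rw [add_neg_cancel_right, mul_assoc, ha1, mul_one]
        right_inv := fun z => by
          change (z + -(-(y * a) + v)) * a' * a + (-(y * a) + v) = z
          rw [mul_assoc, ha2, mul_one, neg_add_cancel_right] }
    refine ⟨⟨σ, a, -(y * a) + v, hane, fun z => rfl⟩, ?_, ?_⟩
    · change x * a + (-(y * a) + v) = u
      rw [← add_assoc, key, neg_add_cancel_right]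
    · change y * a + (-(y * a) + v) = v
      rw [add_neg_cancel_left]
  refine ⟨H, fun σ => Iff.rfl, ?_, fun x => ?_⟩
  · rw [MulAction.is_two_pretransitive_iff]
    intro x y u v hxy huv
    exact hpair x y u v hxy huv
  · rw [Subgroup.eq_bot_iff_forall]
    rintro ⟨σ, a, b, ha, hσ⟩ hx
    have h0 : σ (x 0) = x 0 := DFunLike.congr_fun hx 0
    have h1 : σ (x 1) = x 1 := DFunLike.congr_fun hx 1
    have hne : x 0 ≠ x 1 := x.injective.ne (by decide)
    rw [hσ] at h0 h1
    obtain ⟨d', hd1, hd2⟩ := NearField.exists_inv (x 0 + -(x 1)) (fun h => hne (by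
      rw [add_neg_eq_zero] at h; exact h))
    have hd : (x 0 + -(x 1)) * a = x 0 + -(x 1) := by
      have e0 := eq_add_neg_of_add_eq h0
      have e1 := eq_add_neg_of_add_eq h1
      rw [NearField.right_distrib, neg_mul', e0, e1]
      simp [← add_assoc]
    have ha1 : a = 1 := by
      have := congrArg (fun z => d' * z) hd
      simp only [← mul_assoc, hd2, one_mul] at this
      exact this
    rw [ha1, mul_one, add_eq_left] at h0
    apply Subtype.ext
    ext z
    change σ z = z
    rw [hσ, ha1, h0, mul_one, add_zero]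

end Cfsg.Agent.S0681
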