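import Cfsg.Statements.S0682
import Mathlib

set_option autoImplicit false
open Cfsg

namespace Cfsg.Agent.S0682


/-- A finite near-field has prime-power order; its additive group is commutative of prime exponent. -/
theorem result {F : Type*} [Cfsg.NearField F] [Finite F] : ∃ p j : ℕ, p.Prime ∧ 1 ≤ j ∧ Nat.card F = p ^ j ∧ (∀ x y : F, x + y = y + x) ∧ ∀ x : F, p • x = 0 := by
  classical
  let _ : Fintype F := Fintype.ofFinite F
  have zero_mul' : ∀ c : F, (0 : F) * c = 0 := by
    intro c
    have := NearField.right_distrib (0 : F) 0 c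
    rw [add_zero] at this
    exact left_eq_add.mp this
  let φ : F → (Multiplicative F →* Multiplicative F) := fun c =>
    { toFun := fun x => Multiplicative.ofAdd (Multiplicative.toAdd x * c)
      map_one' := by simp [zero_mul']
      map_mul' := fun x y => by
        apply Multiplicative.toAdd.injective
        simp [NearField.right_distrib] }
  have trans : ∀ x y : Multiplicative F, x ≠ 1 → y ≠ 1 →
      ∃ c, φ c x = y ∧ Function.Injective (φ c) := by
    intro x y hx hy
    have hx' : Multiplicative.toAdd x ≠ 0 := by simpa using hx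
    have hy' : Multiplicative.toAdd y ≠ 0 := by simpa using hy
    obtain ⟨u, hu1, hu2⟩ := NearField.exists_inv _ hx'
    obtain ⟨v, hv1, hv2⟩ := NearField.exists_inv _ hy'
    refine ⟨u * Multiplicative.toAdd y, ?_, ?_⟩
    · apply Multiplicative.toAdd.injective
      simp [φ, ← mul_assoc, hu1]
    · intro s t hst
      have h2 : Multiplicative.toAdd s * (u * Multiplicative.toAdd y) =
          Multiplicative.toAdd t * (u * Multiplicative.toAdd y) := by
        simpa [φ] using congrArg Multiplicative.toAdd hst
      have h3 := congrArg (fun z => z * (v * Multiplicative.toAdd x)) h2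
      have e : (u * Multiplicative.toAdd y) * (v * Multiplicative.toAdd x) = 1 := by
        rw [mul_assoc, ← mul_assoc (Multiplicative.toAdd y) v, hv1, one_mul, hu2]
      change Multiplicative.toAdd s * (u * Multiplicative.toAdd y) * (v * Multiplicative.toAdd x) = Multiplicative.toAdd t * (u * Multiplicative.toAdd y) * (v * Multiplicative.toAdd x) at h3
      rw [mul_assoc (Multiplicative.toAdd s), mul_assoc (Multiplicative.toAdd t), e, mul_one, mul_one] at h3
      exact Multiplicative.toAdd.injective h3
  have hnt : Nontrivial F := ⟨⟨0, 1, NearField.zero_ne_one⟩⟩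
  have hnt' : Nontrivial (Multiplicative F) := inferInstance
  obtain ⟨p, hp, hpd⟩ := Nat.exists_prime_and_dvd
    (n := Nat.card (Multiplicative F)) (Finite.one_lt_card).ne'
  haveI := Fact.mk hp
  obtain ⟨x₀, hx₀⟩ := exists_prime_orderOf_dvd_card' p hpd
  have hx₀1 : x₀ ≠ 1 := by
    intro h; rw [h, orderOf_one] at hx₀; exact hp.one_lt.ne hx₀
  have hord : ∀ y : Multiplicative F, y ^ p = 1 := by
    intro y
    by_cases hy : y = 1
    · simp [hy]
    · obtain ⟨c, hc, _⟩ := trans x₀ y hx₀1 hy
      rw [← hc, ← map_pow, ← hx₀, pow_orderOf_eq_one, map_one]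
  have hpg : IsPGroup p (Multiplicative F) := fun y => ⟨1, by simpa using hord y⟩
  obtain ⟨j, hj⟩ := IsPGroup.iff_card.mp hpg
  have hcard : Nat.card F = p ^ j := hj
  have hz : Nontrivial (Subgroup.center (Multiplicative F)) := hpg.center_nontrivial
  obtain ⟨⟨z, hz1⟩, hz2⟩ := exists_ne (1 : Subgroup.center (Multiplicative F))
  have hz3 : z ≠ 1 := fun h => hz2 (Subtype.ext h)
  have hcomm : ∀ s t : Multiplicative F, s * t = t * s := by
    intro s t
    by_cases hs : s = 1
    · simp [hs]
    · obtain ⟨c, hc, hinj⟩ := trans z s hz3 hs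
      have hbij : Function.Bijective (φ c) := (Finite.injective_iff_bijective).mp hinj
      obtain ⟨t', rfl⟩ := hbij.2 t
      rw [← hc, ← map_mul, ← map_mul, Subgroup.mem_center_iff.mp hz1 t']
  refine ⟨p, j, hp, ?_, hcard, fun x y => hcomm (Multiplicative.ofAdd x) (Multiplicative.ofAdd y), fun x => ?_⟩
  · rcases Nat.eq_zero_or_pos j with h | h
    · subst h
      have := Finite.one_lt_card (α := F)
      rw [pow_zero] at hcard
      omega
    · exact h
  · exact hord (Multiplicative.ofAdd x)

end Cfsg.Agent.S0682
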