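import Cfsg.Statements.S0683
import Cfsg.Agent.Lib.Perm.SharplyTwo

set_option autoImplicit false
open Cfsg

namespace Cfsg.Agent.S0683


/-- A finite sharply doubly transitive permutation group is the affine group of a near-field: the permuted set carries a near-field structure for which the group consists exactly of the maps `x ↦ x * a + b` with `a ≠ 0`. -/
theorem result {α : Type*} [Fintype α] [DecidableEq α] (H : Subgroup (Equiv.Perm α)) [MulAction.IsMultiplyPretransitive H α 2] (hsharp : ∀ x : Fin 2 ↪ α, MulAction.stabilizer H x = ⊥) (h2 : 2 ≤ Fintype.card α) : ∃ _ : Cfsg.NearField α, ∀ σ : Equiv.Perm α, σ ∈ H ↔ ∃ a b : α, a ≠ 0 ∧ ∀ x : α, σ x = x * a + b := by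
  classical
  haveI : Finite H := inferInstance
  obtain ⟨N, p, j, hN, hp, hj, hcard, hNcard, hGcard, hab, hexp, hNt, hsemi, hmem⟩ :=
    Lib.Perm.exists_translation_subgroup (G := H) inferInstance hsharp h2
  have hfix := fun {g : H} {a b : α} => Lib.Perm.eq_one_of_fix_two hsharp (g := g) (a := a) (b := b)
  obtain ⟨o, e, hoe⟩ := Fintype.exists_pair_of_one_lt_card (α := α) (by omega)
  choose τ hτ using fun x : α => hNt.exists_smul_eq o x
  have hτu : ∀ (n : N) (x : α), (n : H) • o = x → n = τ x := by
    intro n x hx
    have h1 : (τ x)⁻¹ * n ∈ MulAction.stabilizer N o := by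
      rw [MulAction.mem_stabilizer_iff, mul_smul]
      change (τ x)⁻¹ • ((n : H) • o) = o
      rw [hx, inv_smul_eq_iff, hτ]
    rw [hsemi, Subgroup.mem_bot, inv_mul_eq_one] at h1
    exact h1.symm
  have hμe : ∀ y : α, ∃ h : H, y ≠ o → h • o = o ∧ h • e = y := by
    intro y
    by_cases hy : y = o
    · exact ⟨1, fun hh => absurd hy hh⟩
    · obtain ⟨h, h1, h2⟩ := Lib.Perm.exists_smul_eq_pair
        (inferInstance : MulAction.IsMultiplyPretransitive H α 2) hoe (Ne.symm hy)
      exact ⟨h, fun _ => ⟨h1, h2⟩⟩
  choose μ hμ using hμe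
  have hμu : ∀ (h : H) (y : α), y ≠ o → h • o = o → h • e = y → h = μ y := by
    intro h y hy h1 h2
    refine (inv_mul_eq_one.mp (hfix hoe (g := (μ y)⁻¹ * h) ?_ ?_)).symm
    · rw [mul_smul, h1, inv_smul_eq_iff, (hμ y hy).1]
    · rw [mul_smul, h2, inv_smul_eq_iff, (hμ y hy).2]
  have hμne : ∀ x y : α, y ≠ o → x ≠ o → μ y • x ≠ o := fun x y hy hx h =>
    hx (smul_left_cancel _ (h.trans (hμ y hy).1.symm))
  let add : α → α → α := fun x y => τ x • y
  let mul : α → α → α := fun x y => if y = o then o else μ y • x
  have hτo : τ o = 1 := (hτu 1 o (one_smul H o)).symm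
  have hτmul : ∀ x y, τ (τ x • y) = τ x * τ y := by
    intro x y
    refine (hτu _ _ ?_).symm
    change (τ x * τ y) • o = _
    rw [mul_smul, hτ]
  have addcomm : ∀ x y, add x y = add y x := by
    intro x y
    change τ x • y = τ y • x
    conv_lhs => rw [← hτ y]
    conv_rhs => rw [← hτ x]
    rw [← mul_smul, ← mul_smul]
    congr 1
    exact Subtype.ext (hab _ (τ x).2 _ (τ y).2)
  have omul : ∀ z, mul o z = o := by
    intro z
    by_cases hz : z = o
    · simp [mul, hz]
    · simp [mul, hz, (hμ z hz).1]
  have hμe1 : μ e = 1 := (hμu 1 e hoe.symm (one_smul H o) (one_smul H e)).symm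
  letI : Add α := ⟨add⟩
  letI : Zero α := ⟨o⟩
  letI : Neg α := ⟨fun x => (τ x)⁻¹ • o⟩
  let inst : Cfsg.NearField α :=
    { add := add
      zero := o
      neg := fun x => (τ x)⁻¹ • o
      add_assoc := fun x y z => by
        change τ (τ x • y) • z = τ x • τ y • z
        rw [hτmul, mul_smul]
      zero_add := fun x => by
        change τ o • x = x
        rw [hτo, one_smul]
      add_zero := fun x => hτ x
      neg_add_cancel := fun x => by
        change τ ((τ x)⁻¹ • o) • x = o
        have h : τ ((τ x)⁻¹ • o) = (τ x)⁻¹ := (hτu _ _ rfl).symm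
        rw [h, inv_smul_eq_iff, hτ]
      nsmul := nsmulRec
      zsmul := zsmulRec
      mul := mul
      one := e
      mul_assoc := fun x y z => by
        change mul (mul x y) z = mul x (mul y z)
        by_cases hy : y = o
        · have h1 : mul x y = o := by simp [mul, hy]
          have h2 : mul x o = o := by simp [mul]
          rw [h1, omul, hy, omul, h2]
        by_cases hz : z = o
        · simp [mul, hz]
        simp only [mul, if_neg hy, if_neg hz, if_neg (hμne y z hz hy)]
        rw [← mul_smul]
        congr 1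
        refine hμu _ _ (hμne y z hz hy) ?_ ?_
        · rw [mul_smul, (hμ y hy).1, (hμ z hz).1]
        · rw [mul_smul, (hμ y hy).2]
      one_mul := fun y => by
        change mul e y = y
        by_cases hy : y = o
        · simp [mul, hy]
        · simp [mul, hy, (hμ y hy).2]
      mul_one := fun x => by
        change mul x e = x
        simp [mul, hoe.symm, hμe1]
      right_distrib := fun a b c => by
        change mul (add a b) c = add (mul a c) (mul b c)
        by_cases hc : c = o
        · simp [mul, add, hc, hτo]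
        simp only [mul, if_neg hc, add]
        have hh : (τ (μ c • a) : H) = μ c * (τ a : H) * (μ c)⁻¹ := by
          have h1 : (⟨μ c * (τ a : H) * (μ c)⁻¹, hN.conj_mem _ (τ a).2 _⟩ : N) = τ (μ c • a) := by
            apply hτu
            change (μ c * (τ a : H) * (μ c)⁻¹) • o = _
            rw [mul_smul, mul_smul, show (μ c)⁻¹ • o = o by rw [inv_smul_eq_iff, (hμ c hc).1]]
            change μ c • (τ a • o) = _
            rw [hτ]
          rw [← h1]
        change μ c • ((τ a : H) • b) = (τ (μ c • a) : H) • (μ c • b)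
        rw [hh, ← mul_smul, ← mul_smul, inv_mul_cancel_right]
      mul_zero := fun a => by
        change mul a o = o
        simp [mul]
      zero_ne_one := hoe
      exists_inv := fun y hy => by
        have hy' : y ≠ o := hy
        have hz : (μ y)⁻¹ • e ≠ o := by
          intro h
          rw [inv_smul_eq_iff, (hμ y hy').1] at h
          exact hoe h.symm
        refine ⟨(μ y)⁻¹ • e, ?_, ?_⟩
        · change mul y ((μ y)⁻¹ • e) = e
          have h : μ ((μ y)⁻¹ • e) = (μ y)⁻¹ :=
            (hμu _ _ hz (by rw [inv_smul_eq_iff, (hμ y hy').1]) rfl).symm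
          simp only [mul, if_neg hz, h]
          rw [inv_smul_eq_iff, (hμ y hy').2]
        · change mul ((μ y)⁻¹ • e) y = e
          simp only [mul, if_neg hy', smul_inv_smul] }
  refine ⟨inst, fun σ => ⟨fun hσ => ?_, ?_⟩⟩
  · set b := (⟨σ, hσ⟩ : H) • o with hb
    set h : H := (τ b : H)⁻¹ * ⟨σ, hσ⟩ with hh
    have ho : h • o = o := by
      rw [hh, mul_smul, ← hb, inv_smul_eq_iff]
      exact (hτ b).symm
    have hne : h • e ≠ o := fun h' => hoe (smul_left_cancel h (ho.trans h'.symm))
    refine ⟨h • e, b, hne, fun x => ?_⟩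
    change σ x = add (mul x (h • e)) b
    rw [addcomm]
    simp only [add, mul, if_neg hne, ← hμu h (h • e) hne ho rfl]
    change σ x = (τ b : H) • (h • x)
    rw [hh, ← mul_smul, mul_inv_cancel_left]
    rfl
  · rintro ⟨a, b, ha, hx⟩
    have ha' : a ≠ o := ha
    have heq : σ = ((τ b : H) * μ a : H) := by
      ext x
      rw [hx x]
      change add (mul x a) b = _
      rw [addcomm]
      simp only [add, mul, if_neg ha']
      rfl
    rw [heq]
    exact SetLike.coe_mem _

end Cfsg.Agent.S0683
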