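import Cfsg.Statements.S0685
import Cfsg.Agent.Lib.SylowCounting.RegularLinear

set_option autoImplicit false
open Cfsg

namespace Cfsg.Agent.S0685

/-- In a linear group over the prime field that is regular on non-zero vectors and has no irreducible cyclic normal subgroup, a maximal normal abelian subgroup is properly contained in its centraliser, which is non-abelian. -/
theorem result {p : ℕ} [Fact p.Prime] {V : Type*} [AddCommGroup V] [Module (ZMod p) V] [Finite V] (H : Subgroup (V ≃ₗ[ZMod p] V)) (hreg : ∀ v w : V, v ≠ 0 → w ≠ 0 → ∃! h : H, (h : V ≃ₗ[ZMod p] V) v = w) (hI : ∀ A : Subgroup H, A.Normal → IsCyclic A → ∃ W : Submodule (ZMod p) V, W ≠ ⊥ ∧ W ≠ ⊤ ∧ ∀ a ∈ A, ∀ v ∈ W, ((a : H) : V ≃ₗ[ZMod p] V) v ∈ W) (A : Subgroup H) (hAn : A.Normal) (hAc : IsMulCommutative A) (hAmax : ∀ B : Subgroup H, B.Normal → IsMulCommutative B → A ≤ B → B = A) : A < Subgroup.centralizer (A : Set H) ∧ ¬ IsMulCommutative (Subgroup.centralizer (A : Set H)) := by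
  haveI := hAn
  haveI := hAc
  classical
  have hred : ∃ W : Submodule (ZMod p) V, W ≠ ⊥ ∧ W ≠ ⊤ ∧ Cfsg.Agent.Lib.SylowCounting.RegularLinear.Inv H A W := by
    by_contra hno
    -- without a proper invariant subspace `A` is a commutative irreducible group, hence cyclic
    refine hno (hI A hAn ?_)
    exact Cfsg.Agent.Lib.SylowCounting.RegularLinear.cyclic_of_irreducible A hreg (fun W hW => by
      by_contra h
      simp only [not_or] at h
      exact hno ⟨W, h.1, h.2, hW⟩)
  obtain ⟨hcyc, W, h1, h2, h3, h4, h5, h6, h7, h8⟩ := Cfsg.Agent.Lib.SylowCounting.RegularLinear.main A hreg hred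
  have hle : A ≤ Subgroup.centralizer (A : Set H) := fun x hx => by
    rw [Subgroup.mem_centralizer_iff]
    exact fun y hy => congrArg Subtype.val (hAc.is_comm.comm (⟨y, hy⟩ : A) ⟨x, hx⟩)
  have hne : A ≠ Subgroup.centralizer (A : Set H) := by
    intro e
    rw [← e] at h7
    have hd : 0 < Module.finrank (ZMod p) W := Module.finrank_pos_iff.2 (Submodule.nontrivial_iff_ne_bot.2 h1)
    set d := Module.finrank (ZMod p) W
    have hp := (Fact.out : p.Prime).two_le
    have hpd : d < p ^ d := Nat.lt_pow_self (by omega)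
    have hA : Nat.card A ≤ p ^ d - 1 := Nat.le_of_dvd (by omega) h5
    have h9 : p ^ d * p ^ d ≤ p ^ Module.finrank (ZMod p) V := by
      rw [← pow_add]
      exact Nat.pow_le_pow_right (by omega) (by omega)
    have h10 : Nat.card A * d ≤ (p ^ d - 1) * d := Nat.mul_le_mul_right d hA
    have h11 : (p ^ d - 1) * d + d = p ^ d * d := by
      rw [Nat.sub_mul, one_mul, Nat.sub_add_cancel (Nat.le_mul_of_pos_left d (by omega))]
    have h12 : p ^ d * (d + 1) ≤ p ^ d * p ^ d := Nat.mul_le_mul_left _ hpd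
    rw [mul_add, mul_one] at h12
    omega
  have hlt : A < Subgroup.centralizer (A : Set H) := lt_of_le_of_ne hle hne
  refine ⟨hlt, fun hc => hne ?_⟩
  exact (hAmax _ inferInstance hc hle).symm

end Cfsg.Agent.S0685
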