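import Cfsg.Statements.S0688
import Cfsg.Agent.Lib.Perm.ZassenhausDegree
import Cfsg.Agent.S0685

set_option autoImplicit false
open Cfsg

namespace Cfsg.Agent.S0688


/-- Degrees of the soluble exceptional sharply doubly transitive groups: if a solvable linear group over the prime field is regular on the non-zero vectors of `V` and has no irreducible cyclic normal subgroup, then `V` has 25, 49, 121 or 529 elements. -/
theorem result {p : ℕ} [Fact p.Prime] {V : Type*} [AddCommGroup V] [Module (ZMod p) V] [Finite V] (H : Subgroup (V ≃ₗ[ZMod p] V)) (hreg : ∀ v w : V, v ≠ 0 → w ≠ 0 → ∃! h : H, (h : V ≃ₗ[ZMod p] V) v = w) (hI : ∀ A : Subgroup H, A.Normal → IsCyclic A → ∃ W : Submodule (ZMod p) V, W ≠ ⊥ ∧ W ≠ ⊤ ∧ ∀ a ∈ A, ∀ v ∈ W, ((a : H) : V ≃ₗ[ZMod p] V) v ∈ W) (hsolv : Group.IsSolvable H) : Nat.card V = 25 ∨ Nat.card V = 49 ∨ Nat.card V = 121 ∨ Nat.card V = 529 := by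
  classical
  haveI := Cfsg.Agent.Lib.Perm.Zassenhaus.finite_of H
  haveI : Nontrivial V := Cfsg.Agent.Lib.Perm.Zassenhaus.nontrivial_of_red hI
  have hG := Cfsg.Agent.Lib.Perm.Zassenhaus.isFPF hreg
  obtain ⟨A, hAn, hAc, hAmax⟩ := Cfsg.Agent.Lib.Perm.Zassenhaus.exists_maximal_abelian (G := H)
  haveI := hAn
  obtain ⟨-, hCna⟩ := Cfsg.Agent.S0685.result H hreg hI A hAn hAc hAmax
  obtain ⟨N, hNn, hNle, hNna, hNmin⟩ := Cfsg.Agent.Lib.Perm.Zassenhaus.exists_minimal_nonabelian hCna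
  haveI := hNn
  obtain ⟨h2, hA, hC⟩ :=
    Cfsg.Agent.Lib.Perm.Zassenhaus.finrank_eq_two hreg hI A hAn hAc hAmax N hNn hNle hNna hNmin
  have hN := Cfsg.Agent.Lib.Perm.Zassenhaus.shape_of_minimal hG A hAn hAc hAmax N hNn hNle hNna hNmin
  have hD := Cfsg.Agent.Lib.Perm.Zassenhaus.centralizer_inf_eq hG A hAn hAc hAmax N hNn hNle hN
  have hcard := Cfsg.Agent.Lib.Perm.Zassenhaus.card_add_one hreg
  rw [h2] at hcard
  rcases hN with ⟨⟨e⟩⟩ | ⟨⟨e⟩⟩
  swap
  · haveI : Group.IsSolvable (Matrix.SpecialLinearGroup (Fin 2) (ZMod 5)) :=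
      Group.isSolvable_of_surjective (f := e.toMonoidHom) e.surjective
    exact ((Cfsg.Agent.Lib.Frobenius.Zassenhaus.Ico.not_isSolvable
      Cfsg.Agent.Lib.Frobenius.Zassenhaus.ico_sl25) ‹_›).elim
  have h8 : Nat.card N = 8 := by
    rw [Nat.card_congr e.toEquiv, Nat.card_eq_fintype_card, QuaternionGroup.card]
  have hp := (Fact.out : p.Prime)
  have hd := Cfsg.Agent.Lib.Perm.Zassenhaus.card_centralizer_dvd A N hD
  rw [hC, Nat.card_congr Subgroup.topEquiv.toEquiv, Nat.card_congr (MulAut.congr e).toEquiv,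
    Cfsg.Agent.Lib.Perm.Zassenhaus.card_mulAut_q8] at hd
  have hd' := hd.trans (Nat.mul_dvd_mul_right hA 24)
  have hH : Nat.card H = (p - 1) * (p + 1) := by
    have hsq := Nat.sq_sub_sq p 1
    rw [one_pow, mul_comm] at hsq
    omega
  rw [hH] at hd'
  have hp1 : p + 1 ∣ 24 := Nat.dvd_of_mul_dvd_mul_left (by have := hp.two_le; omega) hd'
  have hp24 := Nat.le_of_dvd (by norm_num) hp1
  have hV : Nat.card V = p ^ 2 := by
    rw [Module.natCard_eq_pow_finrank (K := ZMod p), Nat.card_zmod, h2]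
  have h8H : 8 ∣ (p - 1) * (p + 1) := hH ▸ h8 ▸ Subgroup.card_subgroup_dvd_card N
  rw [hV]
  have hp3 : p ≠ 3 := by
    intro hp3
    have key : ∀ c : ZMod 3, c ≠ 0 → c * c = 1 := by decide
    subst hp3
    let g : H := ((e.symm (QuaternionGroup.a 1) : N) : H)
    have hg2 : g ^ 2 ≠ 1 := by
      intro h
      have h' : (e.symm (QuaternionGroup.a 1 : QuaternionGroup 2)) ^ 2 = 1 := Subtype.ext h
      rw [← map_pow, map_eq_one_iff _ e.symm.injective] at h'
      exact absurd h' (by decide)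
    have hg4 : orderOf g = 4 := by
      show orderOf ((e.symm (QuaternionGroup.a 1 : QuaternionGroup 2) : N) : H) = 4
      rw [Subgroup.orderOf_coe, MulEquiv.orderOf_eq, QuaternionGroup.orderOf_a_one]
    have hK : (Subgroup.zpowers g).index = 2 := by
      have := (Subgroup.zpowers g).card_mul_index
      rw [Nat.card_zpowers, hg4, hH] at this
      omega
    obtain ⟨W, hW0, hW1, hWinv⟩ := hI _ (Subgroup.normal_of_index_eq_two hK) inferInstance
    haveI : Module.Finite (ZMod 3) V := Module.Finite.of_finite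
    have h1 : Module.finrank (ZMod 3) W = 1 := by
      have := Submodule.finrank_lt hW1
      have h0 : 0 < Module.finrank (ZMod 3) W :=
        Module.finrank_pos_iff.2 (Submodule.nontrivial_iff_ne_bot.2 hW0)
      omega
    obtain ⟨⟨v, hv⟩, hv0, hspan⟩ := finrank_eq_one_iff'.mp h1
    have hv' : v ≠ 0 := fun e => hv0 (Subtype.ext e)
    obtain ⟨c, hc⟩ := hspan ⟨_, hWinv g (Subgroup.mem_zpowers g) v hv⟩
    have hc' : c • v = (g : V ≃ₗ[ZMod 3] V) v := congrArg Subtype.val hc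
    have hcc : c * c = 1 := key c fun h0 => by
      rw [h0, zero_smul] at hc'
      exact hv' ((g : V ≃ₗ[ZMod 3] V).map_eq_zero_iff.mp hc'.symm)
    refine hg2 (Cfsg.Agent.Lib.Perm.Zassenhaus.fix_eq_one hreg hv' ?_)
    show ((g : V ≃ₗ[ZMod 3] V) ^ 2) v = v
    rw [pow_two, LinearEquiv.mul_apply, ← hc', map_smul, ← hc', smul_smul, hcc, one_smul]
  have hp23 : p ≤ 23 := by omega
  interval_cases p <;> revert h8H hp1 hp3 hp <;> norm_num

end Cfsg.Agent.S0688
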