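import Cfsg.Statements.S0689
import Cfsg.Agent.Lib.Perm.ZassenhausDegree
import Cfsg.Agent.S0685
import Cfsg.Agent.S2119

set_option autoImplicit false
open Cfsg

namespace Cfsg.Agent.S0689

open Cfsg.Agent.Lib.Frobenius.Zassenhaus

theorem perm_five_sq : ∀ τ : Equiv.Perm (Fin 5), τ ^ 5 = 1 → ∃ σ : Equiv.Perm (Fin 5), σ * τ = τ ^ 2 * σ := by
  decide +kernel

theorem table' : ((List.range 120).all fun p => !(decide (p + 1 ∣ 120 ∧ (p * p - 1) % 120 = 0 ∧
    Nat.gcd ((p * p - 1) / 120) 30 = 1)) || (p == 11 || p == 29 || p == 59)) = true := by decide +kernel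

theorem table (p : ℕ) (hp : p < 120) (h1 : p + 1 ∣ 120) (h2 : (p * p - 1) % 120 = 0)
    (h3 : Nat.gcd ((p * p - 1) / 120) 30 = 1) : p = 11 ∨ p = 29 ∨ p = 59 := by
  have := table'
  simp only [List.all_eq_true, List.mem_range] at this
  simpa [h1, h2, h3, or_assoc] using this p hp

/-- In dimension two an element of order five free of fixed vectors is not conjugate to its square. -/
theorem no_sq_conj {F : Type*} [Field F] (M G G' : Matrix (Fin 2) (Fin 2) F) (hG : G * G' = 1)
    (hG' : G' * G = 1) (hc : G * M * G' = M * M) (h5 : M ^ 5 = 1)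
    (hfix : ∀ w : Fin 2 → F, M.mulVec w = w → M = 1 ∨ w = 0) : M = 1 := by
  have hd0 : M.det ≠ 0 := by
    intro h
    have := congrArg Matrix.det h5
    rw [Matrix.det_pow, h, Matrix.det_one, zero_pow (by norm_num)] at this
    exact zero_ne_one this
  have hd : M.det = 1 := by
    have h1 : (G * M * G').det = M.det := by
      rw [Matrix.det_mul, Matrix.det_mul, mul_comm G.det, mul_assoc, ← Matrix.det_mul, hG, Matrix.det_one, mul_one]
    rw [hc, Matrix.det_mul] at h1
    exact mul_left_cancel₀ hd0 (h1.trans (mul_one _).symm)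
  have ht : (M * M).trace = M.trace := by
    rw [← hc, Matrix.trace_mul_comm, ← mul_assoc, hG', one_mul]
  rw [Matrix.det_fin_two] at hd
  simp only [Matrix.trace_fin_two, Matrix.mul_apply, Fin.sum_univ_two] at ht
  have hroot : (M 0 0 + M 1 1 - 2) * (M 0 0 + M 1 1 + 1) = 0 := by linear_combination ht + 2 * hd
  rcases mul_eq_zero.mp hroot with h | h
  · -- unipotent
    have hN : (M - 1) * (M - 1) = 0 := by
      ext i j
      fin_cases i <;> fin_cases j <;>
        simp [Matrix.mul_apply, Fin.sum_univ_two]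
      · linear_combination (M 0 0) * h - hd
      · linear_combination (M 0 1) * h
      · linear_combination (M 1 0) * h
      · linear_combination (M 1 1) * h - hd
    by_contra hne
    apply hne
    have hcol : ∀ w, M.mulVec w = w := by
      intro w
      have h0 : (M - 1).mulVec ((M - 1).mulVec w) = 0 := by
        rw [Matrix.mulVec_mulVec, hN, Matrix.zero_mulVec]
      rw [Matrix.sub_mulVec, Matrix.one_mulVec, sub_eq_zero] at h0
      have := (hfix _ h0).resolve_left hne
      rwa [Matrix.sub_mulVec, Matrix.one_mulVec, sub_eq_zero] at this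
    refine Matrix.ext_of_mulVec_single fun i => ?_
    rw [hcol, Matrix.one_mulVec]
  · -- of order three
    have h3 : M * M + M + 1 = 0 := by
      ext i j
      fin_cases i <;> fin_cases j <;>
        simp [Matrix.mul_apply, Fin.sum_univ_two]
      · linear_combination (M 0 0) * h - hd
      · linear_combination (M 0 1) * h
      · linear_combination (M 1 0) * h
      · linear_combination (M 1 1) * h - hd
    have h33 : M ^ 3 = 1 := by
      have : (M - 1) * (M * M + M + 1) = 0 := by rw [h3, mul_zero]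
      rw [← sub_eq_zero, ← this]
      noncomm_ring
    have h2 : M ^ 2 = 1 := by
      rw [show (5 : ℕ) = 3 + 2 from rfl, pow_add, h33, one_mul] at h5
      exact h5
    calc M = M * M ^ 2 := by rw [h2, mul_one]
      _ = M ^ 3 := by rw [← pow_succ']
      _ = 1 := h33


/-- The insoluble sharply doubly transitive groups: a non-solvable linear group over the prime field that is regular on the non-zero vectors of `V` occurs only for `|V| = 11², 29², 59²`, and is `SL(2,5) × C_m` with `m = 1, 7, 29` respectively. -/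
theorem result {p : ℕ} [Fact p.Prime] {V : Type*} [AddCommGroup V] [Module (ZMod p) V] [Finite V] (H : Subgroup (V ≃ₗ[ZMod p] V)) (hreg : ∀ v w : V, v ≠ 0 → w ≠ 0 → ∃! h : H, (h : V ≃ₗ[ZMod p] V) v = w) (hsolv : ¬ Group.IsSolvable H) : (Nat.card V = 121 ∧ Nonempty (H ≃* Matrix.SpecialLinearGroup (Fin 2) (ZMod 5))) ∨ (Nat.card V = 841 ∧ Nonempty (H ≃* Matrix.SpecialLinearGroup (Fin 2) (ZMod 5) × Multiplicative (ZMod 7))) ∨ (Nat.card V = 3481 ∧ Nonempty (H ≃* Matrix.SpecialLinearGroup (Fin 2) (ZMod 5) × Multiplicative (ZMod 29))) := by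
  classical
  open Cfsg.Agent.Lib.Perm.Zassenhaus in
  haveI := finite_of H
  haveI : Nontrivial V := by
    by_contra h
    rw [not_nontrivial_iff_subsingleton] at h
    haveI : Subsingleton H := ⟨fun a b => Subtype.ext (LinearEquiv.ext fun v => Subsingleton.elim _ _)⟩
    exact hsolv inferInstance
  have hI := Cfsg.Agent.Lib.Perm.Zassenhaus.red_of_not_solvable hreg hsolv
  have hG := Cfsg.Agent.Lib.Perm.Zassenhaus.isFPF hreg
  obtain ⟨A, hAn, hAc, hAmax⟩ := Cfsg.Agent.Lib.Perm.Zassenhaus.exists_maximal_abelian (G := H)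
  haveI := hAn
  obtain ⟨-, hCna⟩ := Cfsg.Agent.S0685.result H hreg hI A hAn hAc hAmax
  obtain ⟨hAcyc, -⟩ := Cfsg.Agent.Lib.Perm.Zassenhaus.exists_field_degree hreg hI A hAn hAc
  obtain ⟨N, hNn, hNle, hNna, hNmin⟩ := Cfsg.Agent.Lib.Perm.Zassenhaus.exists_minimal_nonabelian hCna
  haveI := hNn
  obtain ⟨h2, hA, -⟩ :=
    Cfsg.Agent.Lib.Perm.Zassenhaus.finrank_eq_two hreg hI A hAn hAc hAmax N hNn hNle hNna hNmin
  obtain ⟨-, hE⟩ :=
    Cfsg.Agent.Lib.Perm.Zassenhaus.centralizer_eq hreg hI A hAn hAc hAmax N hNn hNle hNna hNmin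
  have hN := Cfsg.Agent.Lib.Perm.Zassenhaus.shape_of_minimal hG A hAn hAc hAmax N hNn hNle hNna hNmin
  obtain ⟨e⟩ := (id hN).resolve_left fun ⟨e⟩ => hsolv (hG.isSolvable_of_qCase hNn e)
  obtain ⟨M, hcop, -, hdisj, hodd, hMN, hsup, hi, Θ, hΘ⟩ :=
    Cfsg.Agent.Lib.Perm.Zassenhaus.sl_structure hG A hAn hAc hAmax N hNn hNle hNmin e
  have h120 : Nat.card N = 120 := by rw [Nat.card_congr e.toEquiv]; exact ico_sl25.1
  have hHtot := (N ⊔ M).card_mul_index
  rw [hsup] at hHtot
  -- the index is one
  have hi1 : (N ⊔ M).index = 1 := by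
    refine hi.resolve_right fun hi2 => ?_
    have hsq : ∀ a ∈ A, a ^ 2 ∈ M := by
      intro a ha
      refine hodd _ (hE.symm ▸ pow_mem ha 2) ?_
      have h4 : ¬ 4 ∣ orderOf a := by
        intro h4
        have hb := orderOf_pow_orderOf_div (orderOf_pos a).ne' h4
        have := Cfsg.Agent.Lib.Perm.Zassenhaus.no_four hG hN (c := a ^ (orderOf a / 4))
          (hE.symm ▸ pow_mem ha _) (by rw [← orderOf_dvd_iff_pow_eq_one, hb])
        rw [← orderOf_dvd_iff_pow_eq_one, hb] at this
        norm_num at this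
      rw [orderOf_pow, Nat.odd_iff]
      rcases Nat.Prime.eq_one_or_self_of_dvd Nat.prime_two _ (Nat.gcd_dvd_right (orderOf a) 2) with hg | hg
      · rw [hg, Nat.div_one]
        have : ¬ 2 ∣ orderOf a := fun hd => by
          have := Nat.dvd_gcd hd (dvd_refl 2)
          rw [hg] at this
          norm_num at this
        omega
      · rw [hg]
        have := hg ▸ Nat.gcd_dvd_left (orderOf a) 2
        omega
    have hA2 : Nat.card A ≤ 2 * Nat.card M := by
      let f : A →* A := MonoidHom.mk' (fun a => a ^ 2) fun a b =>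
        (show Commute a b from hAc.is_comm.comm a b).mul_pow 2
      have hk : Nat.card f.ker ≤ 2 := by
        refine (Nat.card_le_card_of_injective (fun k : f.ker => if k = 1 then (0 : Fin 2) else 1) ?_).trans
          (by simp)
        intro a b hab
        have hsqk : ∀ k : f.ker, ((k : A) : H) * ((k : A) : H) = 1 := fun k => by
          have := congrArg Subtype.val (MonoidHom.mem_ker.mp k.2)
          simpa [f, pow_two] using this
        have hne : ∀ k : f.ker, k ≠ 1 → ((k : A) : H) ≠ 1 := fun k hk h =>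
          hk (Subtype.ext (Subtype.ext h))
        by_cases ha : a = 1 <;> by_cases hb : b = 1
        · rw [ha, hb]
        · simp [ha, hb] at hab
        · simp [ha, hb] at hab
        · exact Subtype.ext (Subtype.ext (hG.eq_of_sq (hsqk a) (hne a ha) (hsqk b) (hne b hb)))
      have hr : Nat.card f.range ≤ Nat.card M := by
        refine Nat.card_le_card_of_injective (fun r => ⟨((r : A) : H), ?_⟩) ?_
        · obtain ⟨a, ha⟩ := r.2
          rw [← ha]
          simpa [f] using hsq a a.2
        · intro a b hab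
          simp only [Subtype.mk.injEq] at hab
          exact Subtype.ext (Subtype.ext hab)
      rw [← f.ker.card_mul_index, Subgroup.index_ker]
      exact Nat.mul_le_mul hk hr
    have hsurj : Θ.range = ⊤ := by
      have haut : Nat.card (MulAut (alternatingGroup (Fin 5))) = 120 := by
        rw [← Nat.card_congr (Equiv.ofBijective _ (Cfsg.Agent.S2119.result 5 (by norm_num) (by norm_num))),
          Nat.card_eq_fintype_card, Fintype.card_perm]
        rfl
      refine Subgroup.eq_top_of_card_eq _ (le_antisymm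
        (Nat.le_of_dvd Nat.card_pos (Subgroup.card_subgroup_dvd_card _)) ?_)
      rw [haut]
      have hr := Θ.ker.card_mul_index
      rw [Subgroup.index_ker, hΘ, hE, ← hHtot, hi2] at hr
      have hMpos : 0 < Nat.card M := Nat.card_pos
      by_contra hlt
      have h1 : Nat.card A * Nat.card Θ.range ≤ 2 * Nat.card M * 119 := Nat.mul_le_mul hA2 (by omega)
      omega
    haveI : Fact (Nat.Prime 5) := ⟨by norm_num⟩
    obtain ⟨x, hx⟩ := exists_prime_orderOf_dvd_card' (G := N) 5 (by rw [h120]; norm_num)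
    obtain ⟨π, hπ⟩ := (Cfsg.Agent.S2119.result 5 (by norm_num) (by norm_num)).2 (Θ x)
    have hxN : x ^ 5 = 1 := orderOf_dvd_iff_pow_eq_one.mp hx.dvd
    have hπ5 : π ^ 5 = 1 := (Cfsg.Agent.S2119.result 5 (by norm_num) (by norm_num)).1 (by
      rw [map_pow, hπ, map_one, ← map_pow, ← SubmonoidClass.coe_pow, hxN, Subgroup.coe_one, map_one])
    obtain ⟨σ, hσ⟩ := perm_five_sq π hπ5
    obtain ⟨g, hg⟩ : MulAut.conjNormal σ ∈ Θ.range := hsurj ▸ Subgroup.mem_top _
    set a : H := ((x : H) ^ 2)⁻¹ * (g * x * g⁻¹)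
    have haN : a ∈ N := mul_mem (inv_mem (pow_mem x.2 2)) (hNn.conj_mem _ x.2 g)
    have haC : a ∈ Subgroup.centralizer (N : Set H) := by
      rw [← hΘ, MonoidHom.mem_ker]
      simp only [a, map_mul, map_inv, map_pow, hg, ← hπ]
      rw [← map_pow, ← map_inv, ← map_inv, ← map_mul, ← map_mul, ← map_mul, hσ]
      simp
    have ha5 : a ^ 5 = 1 := by
      have hcomm : Commute ((x : H) ^ 2) a := (haC _ (pow_mem x.2 2))
      have hx5 : (x : H) ^ 5 = 1 := by rw [← SubmonoidClass.coe_pow, hxN]; rfl
      have h := hcomm.mul_pow 5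
      rw [show (x : H) ^ 2 * a = g * x * g⁻¹ from mul_inv_cancel_left _ _,
        show g * (x : H) * g⁻¹ = MulAut.conj g x from rfl, ← map_pow, hx5, map_one, ← pow_mul, pow_mul',
        hx5, one_pow, one_mul] at h
      exact h.symm
    have ha1 : a = 1 := by
      have hmem : a ∈ M := hodd a haC ((Nat.odd_iff.mpr (by norm_num)).of_dvd_nat (orderOf_dvd_of_pow_eq_one ha5))
      exact Subgroup.eq_bot_iff_forall _ |>.mp hdisj a ⟨haN, hmem⟩
    have hconj : g * (x : H) * g⁻¹ = (x : H) ^ 2 := (inv_mul_eq_one.mp ha1).symm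
    haveI : Module.Finite (ZMod p) V := Module.Finite.of_finite
    let b := (Module.finBasisOfFinrankEq (ZMod p) V h2)
    let r : H →* Matrix (Fin 2) (Fin 2) (ZMod p) :=
      (LinearMap.toMatrixAlgEquiv b).toAlgHom.toRingHom.toMonoidHom.comp
        ((LinearEquiv.automorphismGroup.toLinearMapMonoidHom (R := ZMod p) (M := V)).comp H.subtype)
    have hrinj : ∀ h : H, r h = 1 → h = 1 := fun h hh => by
      apply Subtype.ext
      refine LinearEquiv.toLinearMap_injective ?_
      apply (LinearMap.toMatrixAlgEquiv b).injective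
      exact hh.trans (map_one (LinearMap.toMatrixAlgEquiv b)).symm
    have hx1 : (x : H) ≠ 1 := fun h => by
      rw [show x = 1 from Subtype.ext h, orderOf_one] at hx
      norm_num at hx
    refine hx1 (hrinj _ (no_sq_conj (r x) (r g) (r g⁻¹) (by rw [← map_mul, mul_inv_cancel, map_one])
      (by rw [← map_mul, inv_mul_cancel, map_one]) ?_ ?_ ?_))
    · rw [← map_mul, ← map_mul, hconj, pow_two, map_mul]
    · rw [← map_pow, ← SubmonoidClass.coe_pow, hxN, Subgroup.coe_one, map_one]
    · intro w hw
      refine Or.inr ?_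
      by_contra hw0
      refine hx1 (Cfsg.Agent.Lib.Perm.Zassenhaus.fix_eq_one hreg
        (v := b.equivFun.symm w) (fun e => hw0 (b.equivFun.symm.injective (e.trans (map_zero _).symm))) ?_)
      apply b.equivFun.injective
      rw [LinearEquiv.apply_symm_apply]
      refine Eq.trans ?_ hw
      have := LinearMap.toMatrix_mulVec_repr b b
        (((x : H) : V ≃ₗ[ZMod p] V).toLinearMap) (b.equivFun.symm w)
      rw [show ⇑(b.repr (b.equivFun.symm w)) = w from b.equivFun.apply_symm_apply w] at this
      exact this.symm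
  rw [hi1, mul_one] at hHtot
  have hcard := Cfsg.Agent.Lib.Perm.Zassenhaus.card_add_one hreg
  rw [h2, ← hHtot] at hcard
  have hV : Nat.card V = p * p := by
    rw [Module.natCard_eq_pow_finrank (K := ZMod p), Nat.card_zmod, h2, pow_two]
  have hp := (Fact.out : p.Prime)
  have hMA : M ≤ A := hE ▸ hMN
  have hμ : Nat.card M ∣ p - 1 := (Subgroup.card_dvd_of_le hMA).trans hA
  have hpp : p * p - 1 = 120 * Nat.card M := by rw [pow_two] at hcard; omega
  have hdiv : p + 1 ∣ 120 := by
    obtain ⟨k, hk⟩ := hμ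
    refine ⟨k, Nat.eq_of_mul_eq_mul_left (Nat.card_pos (α := M)) ?_⟩
    have hsq : (p + 1) * (p - 1) = p * p - 1 := by
      have := Nat.sq_sub_sq p 1
      rw [one_pow, pow_two] at this
      exact this.symm
    rw [hk, hpp] at hsq
    linarith
  have hp120 : p < 120 := by
    have := Nat.le_of_dvd (by norm_num) hdiv
    omega
  have hcases := table p hp120 hdiv (by omega) (by
    rwa [show (p * p - 1) / 120 = Nat.card M by omega])
  have hc : ∀ (s : N) (x : M), Commute (N.subtype s) (M.subtype x) := fun s x => hMN x.2 s s.2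
  have hinj : Function.Injective (N.subtype.noncommCoprod M.subtype hc) := by
    rw [MonoidHom.noncommCoprod_injective]
    exact ⟨N.subtype_injective, M.subtype_injective,
      by rw [Subgroup.range_subtype, Subgroup.range_subtype, disjoint_iff]; exact hdisj⟩
  have hbij : Function.Bijective (N.subtype.noncommCoprod M.subtype hc) :=
    (Nat.bijective_iff_injective_and_card _).mpr ⟨hinj, by rw [Nat.card_prod, h120, hHtot]⟩
  let E := (MulEquiv.ofBijective _ hbij).symm
  haveI : IsCyclic A := hAcyc
  haveI : IsCyclic M := isCyclic_of_injective (Subgroup.inclusion hMA) (Subgroup.inclusion_injective hMA)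
  rw [hV]
  rcases hcases with rfl | rfl | rfl
  · left
    refine ⟨by norm_num, ⟨?_⟩⟩
    have hM1 : Nat.card M = 1 := by omega
    have hN : N = ⊤ := Subgroup.eq_top_of_card_eq _ (by rw [h120, ← hHtot, hM1])
    exact ((MulEquiv.subgroupCongr hN).trans Subgroup.topEquiv).symm.trans e
  · right; left
    refine ⟨by norm_num, ⟨?_⟩⟩
    have hM7 : Nat.card M = 7 := by omega
    exact E.trans (e.prodCongr ((zmodCyclicMulEquiv (G := M) inferInstance).symm.trans (MulEquiv.cast (M := fun k => Multiplicative (ZMod k)) hM7)))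
  · right; right
    refine ⟨by norm_num, ⟨?_⟩⟩
    have hM7 : Nat.card M = 29 := by omega
    exact E.trans (e.prodCongr ((zmodCyclicMulEquiv (G := M) inferInstance).symm.trans (MulEquiv.cast (M := fun k => Multiplicative (ZMod k)) hM7)))

end Cfsg.Agent.S0689
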