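import Cfsg.Statements.S0690
import Cfsg.Agent.Lib.Frobenius.Zassenhaus.Structure
import Cfsg.Agent.Lib.Solvable.FixedPointFree

set_option autoImplicit false
open Cfsg

namespace Cfsg.Agent.S0690

/-- Zassenhaus: a perfect non-trivial group of fixed-point-free automorphisms of a finite group is isomorphic to `SL(2,5)`. -/
theorem result {K : Type*} [Group K] [Finite K] (G : Subgroup (MulAut K)) (hfpf : ∀ φ ∈ G, φ ≠ 1 → ∀ k : K, φ k = k → k = 1) (hperf : commutator G = ⊤) (hne : G ≠ ⊥) : Nonempty (G ≃* Matrix.SpecialLinearGroup (Fin 2) (ZMod 5)) := by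

  haveI : Nontrivial G := (Subgroup.nontrivial_iff_ne_bot G).mpr hne
  haveI : Nontrivial K := by
    by_contra h
    rw [not_nontrivial_iff_subsingleton] at h
    obtain ⟨g, hg⟩ := exists_ne (1 : G)
    exact hg (Subtype.ext (MulEquiv.ext fun k => Subsingleton.elim _ _))
  obtain ⟨g, hg⟩ := exists_ne (1 : G)
  obtain ⟨q, hq, hqd⟩ := Nat.exists_prime_and_dvd (n := orderOf g) (by rw [Ne, orderOf_eq_one_iff]; exact hg)
  set a := g ^ (orderOf g / q)
  have ha : orderOf a = q := orderOf_pow_orderOf_div (orderOf_pos g).ne' hqd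
  have ha1 : (a : MulAut K) ≠ 1 := fun e => hq.ne_one (by rw [← ha, orderOf_eq_one_iff.mpr (Subtype.ext e)])
  haveI : Group.IsNilpotent K := Lib.Solvable.FixedPointFree.isNilpotent_of_fixedPointFree hq (a : MulAut K)
    (by rw [← SubmonoidClass.coe_pow, ← ha, pow_orderOf_eq_one]; rfl) (fun k hk => hfpf a a.2 ha1 k hk)
  have hG : Lib.Frobenius.Zassenhaus.IsFPF G := Lib.Frobenius.Zassenhaus.IsFPF.of_mulAut G.subtype
    (fun x hx k hk => hfpf x x.2 (fun e => hx (Subtype.ext e)) k hk) inferInstance
  have hns : ¬ Group.IsSolvable G := fun h => by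
    have := Group.IsSolvable.commutator_lt_top_of_nontrivial G
    rw [hperf] at this
    exact lt_irrefl _ this
  obtain ⟨U, M, hUn, hMn, hU, -, -, hMZ, hd, -, hi, -⟩ := hG.nonsolvable hns
  haveI := hUn
  haveI := hMn
  -- a perfect group has no subgroup of index two
  have hUM : U ⊔ M = ⊤ := by
    rcases hi with hi | hi
    · exact Subgroup.index_eq_one.mp hi
    · exfalso
      haveI := Subgroup.normal_of_index_eq_two hi
      haveI : IsCyclic (G ⧸ (U ⊔ M)) := by
        haveI : Fact (Nat.Prime 2) := ⟨Nat.prime_two⟩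
        exact isCyclic_of_prime_card (p := 2) hi
      have hle : commutator G ≤ U ⊔ M :=
        (Subgroup.Normal.quotient_commutative_iff_commutator_le (N := U ⊔ M)).mp IsCyclic.isMulCommutative
      rw [hperf, top_le_iff] at hle
      rw [hle, Subgroup.index_top] at hi
      norm_num at hi
  have hUtop : U = ⊤ := by
    haveI := hMZ
    haveI : Group.IsSolvable (G ⧸ U) :=
      Group.isSolvable_of_surjective (f := (QuotientGroup.mk' U).comp M.subtype) fun y => by
        obtain ⟨x, rfl⟩ := QuotientGroup.mk'_surjective U y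
        have hx : x ∈ U ⊔ M := hUM ▸ Subgroup.mem_top x
        rw [← SetLike.mem_coe, Subgroup.normal_mul] at hx
        obtain ⟨u, hu, m, hm, rfl⟩ := Set.mem_mul.mp hx
        refine ⟨⟨m, hm⟩, ?_⟩
        show QuotientGroup.mk' U m = QuotientGroup.mk' U (u * m)
        rw [map_mul, show QuotientGroup.mk' U u = 1 from (QuotientGroup.eq_one_iff _).mpr hu, one_mul]
    by_contra hne'
    haveI : Nontrivial (G ⧸ U) := QuotientGroup.nontrivial_iff.mpr hne'
    have hlt := Group.IsSolvable.commutator_lt_top_of_nontrivial (G ⧸ U)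
    have h1 : commutator (G ⧸ U) = ⊤ := by
      rw [commutator_def, ← MonoidHom.range_eq_top.mpr (QuotientGroup.mk'_surjective U), MonoidHom.range_eq_map,
        ← Subgroup.map_commutator, ← commutator_def, hperf]
    rw [h1] at hlt
    exact lt_irrefl _ hlt
  obtain ⟨e⟩ := Lib.Frobenius.Zassenhaus.ico_mulEquiv_sl25 hU
  exact ⟨((MulEquiv.subgroupCongr hUtop).trans Subgroup.topEquiv).symm.trans e⟩

end Cfsg.Agent.S0690
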