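import Cfsg.Statements.S0691
import Cfsg.Agent.Lib.Perm.MatCert

set_option autoImplicit false
open Cfsg

namespace Cfsg.Agent.S0691

open Lib.Perm.MatCert

def gensList : List (Quad 5) := [(2,0,0,3), (0,4,1,0), (1,2,1,3)]

/-- Generator. -/
def gen0 : Quad 5 := (2,0,0,3)

/-- Generator. -/
def gen1 : Quad 5 := (0,4,1,0)

/-- Generator. -/
def gen2 : Quad 5 := (1,2,1,3)

set_option maxRecDepth 10000 in
def elems : List (Quad 5) := [
  (1,0,0,1), (2,0,0,3), (0,4,1,0), (1,2,1,3), (4,0,0,4), (0,3,3,0),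
  (2,4,3,4), (0,2,2,0), (4,2,1,2), (2,1,2,4), (3,3,4,1), (3,0,0,2),
  (0,1,4,0), (4,3,4,2), (3,4,3,1), (1,1,2,3), (3,1,2,1), (1,4,3,3),
  (1,3,4,3), (3,2,1,1), (2,2,1,4), (2,3,4,4), (4,4,3,2), (4,1,2,2)]

set_option maxRecDepth 10000 in
def wordList : List (List (Quad 5)) := [
  [], [gen0], [gen1], [gen2],
  [gen0, gen0], [gen0, gen1], [gen0, gen2], [gen1, gen0],
  [gen1, gen2], [gen2, gen0], [gen2, gen2], [gen0, gen0, gen0],
  [gen0, gen0, gen1], [gen0, gen0, gen2], [gen0, gen1, gen2], [gen0, gen2, gen2],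
  [gen1, gen2, gen0], [gen1, gen2, gen2], [gen2, gen0, gen1], [gen2, gen0, gen2],
  [gen0, gen0, gen2, gen2], [gen0, gen1, gen2, gen2], [gen1, gen2, gen0, gen2], [gen2, gen0, gen1, gen2]]

instance : Fact (Nat.Prime 5) := ⟨by norm_num⟩

/-- An exceptional sharply doubly transitive group of degree 5^2: the listed matrices generate a subgroup of GL(2,5) of order 24 acting regularly on the non-zero vectors. -/
theorem result (A : Matrix.GeneralLinearGroup (Fin 2) (ZMod 5)) (B : Matrix.GeneralLinearGroup (Fin 2) (ZMod 5)) (C : Matrix.GeneralLinearGroup (Fin 2) (ZMod 5)) (hA : (A : Matrix (Fin 2) (Fin 2) (ZMod 5)) = !![2, 0; 0, -2]) (hB : (B : Matrix (Fin 2) (Fin 2) (ZMod 5)) = !![0, -1; 1, 0]) (hC : (C : Matrix (Fin 2) (Fin 2) (ZMod 5)) = !![1, 2; 1, -2]) : Nat.card (Subgroup.closure ({A, B, C} : Set (Matrix.GeneralLinearGroup (Fin 2) (ZMod 5)))) = 24 ∧ ∀ v w : Fin 2 → ZMod 5, v ≠ 0 → w ≠ 0 → ∃! h : Subgroup.closure ({A, B, C} : Set (Matrix.GeneralLinearGroup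 (Fin 2) (ZMod 5))), Matrix.mulVec ((h : Matrix.GeneralLinearGroup (Fin 2) (ZMod 5)) : Matrix (Fin 2) (Fin 2) (ZMod 5)) v = w := by
  have h := regular_of_cert ({A, B, C} : Set (Matrix.GeneralLinearGroup (Fin 2) (ZMod 5))) gensList 1 1 elems wordList ?_ ?_ ?_
    (by decide +kernel) (by decide +kernel) (by decide +kernel) (by decide +kernel) (by decide +kernel)
    (by decide +kernel) (by decide +kernel) (by decide +kernel) (by decide +kernel)
  · simpa [elems] using h
  · intro g hg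
    simp only [Set.mem_insert_iff, Set.mem_singleton_iff] at hg
    rcases hg with rfl | rfl | rfl
    · refine Or.inr ⟨(2,0,0,3), by simp [gensList], ?_⟩
      rw [hA]
      decide +kernel
    · refine Or.inr ⟨(0,4,1,0), by simp [gensList], ?_⟩
      rw [hB]
      decide +kernel
    · refine Or.inr ⟨(1,2,1,3), by simp [gensList], ?_⟩
      rw [hC]
      decide +kernel
  · intro x hx
    simp only [gensList, List.mem_cons, List.not_mem_nil, or_false] at hx
    rcases hx with rfl | rfl | rfl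
    · refine ⟨A, by simp, ?_⟩
      rw [hA]
      decide +kernel
    · refine ⟨B, by simp, ?_⟩
      rw [hB]
      decide +kernel
    · refine ⟨C, by simp, ?_⟩
      rw [hC]
      decide +kernel
  · exact Or.inl rfl

end Cfsg.Agent.S0691
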