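import Cfsg.Statements.S0692
import Cfsg.Agent.Lib.Perm.MatCert

set_option autoImplicit false
open Cfsg

namespace Cfsg.Agent.S0692

open Lib.Perm.MatCert

def gensList : List (Quad 11) := [(0,10,1,0), (2,4,1,8)]

/-- Generator. -/
def gen0 : Quad 11 := (0,10,1,0)

/-- Generator. -/
def gen1 : Quad 11 := (2,4,1,8)

set_option maxRecDepth 10000 in
def elems : List (Quad 11) := [
  (1,0,0,1), (0,10,1,0), (2,4,1,8), (10,0,0,10), (10,3,2,4), (4,9,8,10),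
  (8,7,10,2), (0,1,10,0), (9,7,10,3), (3,1,4,9), (1,9,8,7), (6,0,4,2),
  (7,3,2,1), (1,8,9,7), (7,2,3,1), (3,4,1,9), (7,9,6,0), (9,10,7,3),
  (0,5,2,7), (1,2,10,10), (6,8,5,5), (8,10,7,2), (10,2,3,4), (5,0,7,9),
  (4,8,9,10), (9,4,0,5), (1,1,1,2), (6,6,6,8), (5,7,0,9), (2,10,10,1),
  (8,5,5,6), (9,0,4,5), (4,2,5,0), (2,1,4,8), (0,6,9,4), (10,9,1,1),
  (5,3,6,6), (0,2,5,7), (1,10,2,10), (6,5,8,5), (7,6,9,0), (6,10,9,6),
  (3,0,10,4), (10,6,5,2), (2,7,0,6), (10,10,10,9), (5,5,5,3), (6,4,0,2),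
  (9,1,1,10), (3,6,6,5), (2,0,7,6), (2,5,6,10), (1,7,3,0), (6,9,10,6),
  (10,5,6,2), (0,8,4,1), (6,1,2,6), (4,0,1,3), (0,9,6,4), (10,1,9,1),
  (5,6,3,6), (4,5,2,0), (5,1,2,5), (8,0,1,7), (1,5,6,9), (5,9,10,5),
  (7,10,0,8), (9,5,6,1), (10,8,4,0), (3,3,3,7), (8,9,9,2), (0,7,3,10),
  (9,6,5,1), (10,4,8,0), (5,2,1,5), (1,6,5,9), (0,3,7,10), (5,10,9,5),
  (7,0,10,8), (8,4,3,3), (2,9,8,9), (8,1,0,7), (3,8,7,8), (9,3,2,2),
  (3,5,9,8), (7,1,5,4), (6,2,1,6), (4,1,0,3), (2,6,5,10), (1,3,7,0),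
  (8,8,8,4), (3,2,2,9), (0,4,8,1), (4,3,3,8), (9,9,9,3), (2,3,3,5),
  (6,7,7,1), (3,10,0,4), (5,8,8,2), (1,4,4,6), (3,7,8,8), (9,2,3,2),
  (8,3,4,3), (2,8,9,9), (8,6,2,3), (4,10,6,7), (3,9,5,8), (7,5,1,4),
  (5,4,4,10), (7,7,7,4), (6,3,3,9), (7,8,8,3), (2,2,2,8), (9,8,8,6),
  (10,7,7,5), (4,7,7,7), (8,2,6,3), (4,6,10,7), (7,4,4,4), (4,4,4,7)]

set_option maxRecDepth 10000 in
def wordList : List (List (Quad 11)) := [
  [], [gen0], [gen1], [gen0, gen0],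
  [gen0, gen1], [gen1, gen0], [gen1, gen1], [gen0, gen0, gen0],
  [gen0, gen0, gen1], [gen0, gen1, gen0], [gen0, gen1, gen1], [gen1, gen0, gen1],
  [gen1, gen1, gen0], [gen0, gen0, gen0, gen1], [gen0, gen0, gen1, gen0], [gen0, gen0, gen1, gen1],
  [gen0, gen1, gen0, gen1], [gen0, gen1, gen1, gen0], [gen1, gen0, gen1, gen0], [gen1, gen0, gen1, gen1],
  [gen1, gen1, gen0, gen1], [gen0, gen0, gen0, gen1, gen0], [gen0, gen0, gen0, gen1, gen1], [gen0, gen0, gen1, gen0, gen1],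
  [gen0, gen0, gen1, gen1, gen0], [gen0, gen1, gen0, gen1, gen0], [gen0, gen1, gen0, gen1, gen1], [gen0, gen1, gen1, gen0, gen1],
  [gen1, gen0, gen1, gen0, gen1], [gen1, gen0, gen1, gen1, gen0], [gen1, gen1, gen0, gen1, gen0], [gen1, gen1, gen0, gen1, gen1],
  [gen0, gen0, gen0, gen1, gen0, gen1], [gen0, gen0, gen0, gen1, gen1, gen0], [gen0, gen0, gen1, gen0, gen1, gen0], [gen0, gen0, gen1, gen0, gen1, gen1],
  [gen0, gen0, gen1, gen1, gen0, gen1], [gen0, gen1, gen0, gen1, gen0, gen1], [gen0, gen1, gen0, gen1, gen1, gen0], [gen0, gen1, gen1, gen0, gen1, gen0],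
  [gen0, gen1, gen1, gen0, gen1, gen1], [gen1, gen0, gen1, gen0, gen1, gen1], [gen1, gen0, gen1, gen1, gen0, gen1], [gen1, gen1, gen0, gen1, gen0, gen1],
  [gen0, gen0, gen0, gen1, gen0, gen1, gen0], [gen0, gen0, gen0, gen1, gen0, gen1, gen1], [gen0, gen0, gen0, gen1, gen1, gen0, gen1], [gen0, gen0, gen1, gen0, gen1, gen0, gen1],
  [gen0, gen0, gen1, gen0, gen1, gen1, gen0], [gen0, gen0, gen1, gen1, gen0, gen1, gen0], [gen0, gen0, gen1, gen1, gen0, gen1, gen1], [gen0, gen1, gen0, gen1, gen0, gen1, gen1],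
  [gen0, gen1, gen0, gen1, gen1, gen0, gen1], [gen0, gen1, gen1, gen0, gen1, gen0, gen1], [gen1, gen0, gen1, gen0, gen1, gen1, gen0], [gen1, gen0, gen1, gen1, gen0, gen1, gen0],
  [gen1, gen0, gen1, gen1, gen0, gen1, gen1], [gen1, gen1, gen0, gen1, gen0, gen1, gen1], [gen0, gen0, gen0, gen1, gen0, gen1, gen0, gen1], [gen0, gen0, gen0, gen1, gen0, gen1, gen1, gen0],
  [gen0, gen0, gen0, gen1, gen1, gen0, gen1, gen0], [gen0, gen0, gen0, gen1, gen1, gen0, gen1, gen1], [gen0, gen0, gen1, gen0, gen1, gen0, gen1, gen1], [gen0, gen0, gen1, gen0, gen1, gen1, gen0, gen1],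
  [gen0, gen0, gen1, gen1, gen0, gen1, gen0, gen1], [gen0, gen1, gen0, gen1, gen0, gen1, gen1, gen0], [gen0, gen1, gen0, gen1, gen1, gen0, gen1, gen0], [gen0, gen1, gen0, gen1, gen1, gen0, gen1, gen1],
  [gen0, gen1, gen1, gen0, gen1, gen0, gen1, gen1], [gen1, gen0, gen1, gen0, gen1, gen1, gen0, gen1], [gen1, gen0, gen1, gen1, gen0, gen1, gen0, gen1], [gen1, gen1, gen0, gen1, gen0, gen1, gen1, gen0],
  [gen0, gen0, gen0, gen1, gen0, gen1, gen0, gen1, gen1], [gen0, gen0, gen0, gen1, gen0, gen1, gen1, gen0, gen1], [gen0, gen0, gen0, gen1, gen1, gen0, gen1, gen0, gen1], [gen0, gen0, gen1, gen0, gen1, gen0, gen1, gen1, gen0],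
  [gen0, gen0, gen1, gen0, gen1, gen1, gen0, gen1, gen0], [gen0, gen0, gen1, gen0, gen1, gen1, gen0, gen1, gen1], [gen0, gen0, gen1, gen1, gen0, gen1, gen0, gen1, gen1], [gen0, gen1, gen0, gen1, gen0, gen1, gen1, gen0, gen1],
  [gen0, gen1, gen0, gen1, gen1, gen0, gen1, gen0, gen1], [gen0, gen1, gen1, gen0, gen1, gen0, gen1, gen1, gen0], [gen1, gen0, gen1, gen0, gen1, gen1, gen0, gen1, gen0], [gen1, gen0, gen1, gen0, gen1, gen1, gen0, gen1, gen1],
  [gen1, gen0, gen1, gen1, gen0, gen1, gen0, gen1, gen1], [gen1, gen1, gen0, gen1, gen0, gen1, gen1, gen0, gen1], [gen0, gen0, gen0, gen1, gen0, gen1, gen0, gen1, gen1, gen0], [gen0, gen0, gen0, gen1, gen0, gen1, gen1, gen0, gen1, gen0],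
  [gen0, gen0, gen0, gen1, gen0, gen1, gen1, gen0, gen1, gen1], [gen0, gen0, gen0, gen1, gen1, gen0, gen1, gen0, gen1, gen1], [gen0, gen0, gen1, gen0, gen1, gen0, gen1, gen1, gen0, gen1], [gen0, gen0, gen1, gen0, gen1, gen1, gen0, gen1, gen0, gen1],
  [gen0, gen0, gen1, gen1, gen0, gen1, gen0, gen1, gen1, gen0], [gen0, gen1, gen0, gen1, gen0, gen1, gen1, gen0, gen1, gen0], [gen0, gen1, gen0, gen1, gen0, gen1, gen1, gen0, gen1, gen1], [gen0, gen1, gen0, gen1, gen1, gen0, gen1, gen0, gen1, gen1],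
  [gen0, gen1, gen1, gen0, gen1, gen0, gen1, gen1, gen0, gen1], [gen1, gen0, gen1, gen0, gen1, gen1, gen0, gen1, gen0, gen1], [gen1, gen0, gen1, gen1, gen0, gen1, gen0, gen1, gen1, gen0], [gen1, gen1, gen0, gen1, gen0, gen1, gen1, gen0, gen1, gen0],
  [gen0, gen0, gen0, gen1, gen0, gen1, gen0, gen1, gen1, gen0, gen1], [gen0, gen0, gen0, gen1, gen0, gen1, gen1, gen0, gen1, gen0, gen1], [gen0, gen0, gen1, gen0, gen1, gen0, gen1, gen1, gen0, gen1, gen0], [gen0, gen0, gen1, gen0, gen1, gen0, gen1, gen1, gen0, gen1, gen1],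
  [gen0, gen0, gen1, gen0, gen1, gen1, gen0, gen1, gen0, gen1, gen1], [gen0, gen0, gen1, gen1, gen0, gen1, gen0, gen1, gen1, gen0, gen1], [gen0, gen1, gen0, gen1, gen1, gen0, gen1, gen0, gen1, gen1, gen0], [gen0, gen1, gen1, gen0, gen1, gen0, gen1, gen1, gen0, gen1, gen0],
  [gen1, gen0, gen1, gen0, gen1, gen1, gen0, gen1, gen0, gen1, gen1], [gen1, gen0, gen1, gen1, gen0, gen1, gen0, gen1, gen1, gen0, gen1], [gen1, gen1, gen0, gen1, gen0, gen1, gen1, gen0, gen1, gen0, gen1], [gen0, gen0, gen0, gen1, gen0, gen1, gen0, gen1, gen1, gen0, gen1, gen0],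
  [gen0, gen0, gen0, gen1, gen0, gen1, gen0, gen1, gen1, gen0, gen1, gen1], [gen0, gen0, gen0, gen1, gen0, gen1, gen1, gen0, gen1, gen0, gen1, gen1], [gen0, gen0, gen1, gen1, gen0, gen1, gen0, gen1, gen1, gen0, gen1, gen0], [gen0, gen1, gen0, gen1, gen1, gen0, gen1, gen0, gen1, gen1, gen0, gen1],
  [gen0, gen1, gen1, gen0, gen1, gen0, gen1, gen1, gen0, gen1, gen0, gen1], [gen1, gen0, gen1, gen0, gen1, gen1, gen0, gen1, gen0, gen1, gen1, gen0], [gen1, gen0, gen1, gen1, gen0, gen1, gen0, gen1, gen1, gen0, gen1, gen0], [gen1, gen1, gen0, gen1, gen0, gen1, gen1, gen0, gen1, gen0, gen1, gen1]]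

instance : Fact (Nat.Prime 11) := ⟨by norm_num⟩

/-- An exceptional sharply doubly transitive group of degree 11^2: the listed matrices generate a subgroup of GL(2,11) of order 120 acting regularly on the non-zero vectors. -/
theorem result (A : Matrix.GeneralLinearGroup (Fin 2) (ZMod 11)) (B : Matrix.GeneralLinearGroup (Fin 2) (ZMod 11)) (hA : (A : Matrix (Fin 2) (Fin 2) (ZMod 11)) = !![0, -1; 1, 0]) (hB : (B : Matrix (Fin 2) (Fin 2) (ZMod 11)) = !![2, 4; 1, -3]) : Nat.card (Subgroup.closure ({A, B} : Set (Matrix.GeneralLinearGroup (Fin 2) (ZMod 11)))) = 120 ∧ ∀ v w : Fin 2 → ZMod 11, v ≠ 0 → w ≠ 0 → ∃! h : Subgroup.closure ({A, B} : Set (Matrix.GeneralLinearGroup (Fin 2) (ZMod 11))), Matrix.mulVec ((h : Matrix.GeneralLinearGroup (Fin 2) (ZMod 11)) : Matrix (Fin 2) (Fin 2) (ZMod 11)) v = w := by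
  have h := regular_of_cert ({A, B} : Set (Matrix.GeneralLinearGroup (Fin 2) (ZMod 11))) gensList 1 1 elems wordList ?_ ?_ ?_
    (by decide +kernel) (by decide +kernel) (by decide +kernel) (by decide +kernel) (by decide +kernel)
    (by decide +kernel) (by decide +kernel) (by decide +kernel) (by decide +kernel)
  · simpa [elems] using h
  · intro g hg
    simp only [Set.mem_insert_iff, Set.mem_singleton_iff] at hg
    rcases hg with rfl | rfl
    · refine Or.inr ⟨(0,10,1,0), by simp [gensList], ?_⟩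
      rw [hA]
      decide +kernel
    · refine Or.inr ⟨(2,4,1,8), by simp [gensList], ?_⟩
      rw [hB]
      decide +kernel
  · intro x hx
    simp only [gensList, List.mem_cons, List.not_mem_nil, or_false] at hx
    rcases hx with rfl | rfl
    · refine ⟨A, by simp, ?_⟩
      rw [hA]
      decide +kernel
    · refine ⟨B, by simp, ?_⟩
      rw [hB]
      decide +kernel
  · exact Or.inl rfl

end Cfsg.Agent.S0692
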