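import Cfsg.Statements.S0693
import Cfsg.Agent.Lib.Perm.MatCert

set_option autoImplicit false
open Cfsg

namespace Cfsg.Agent.S0693

open Lib.Perm.MatCert

def gensList : List (Quad 59) := [(0,58,1,0), (9,15,49,49)]

/-- Generator. -/
def gen0 : Quad 59 := (0,58,1,0)

/-- Generator. -/
def gen1 : Quad 59 := (9,15,49,49)

set_option maxRecDepth 10000 in
def elems : List (Quad 59) := [
  (1,0,0,1), (0,58,1,0), (9,15,49,49), (58,0,0,58), (10,10,9,15), (15,50,49,10),
  (49,44,10,9), (0,1,58,0), (50,44,10,10), (10,49,15,50), (49,50,49,44), (48,20,46,45),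
  (44,10,9,49), (49,49,50,44), (44,9,10,49), (10,15,49,50), (13,14,48,20), (50,10,44,10),
  (20,11,45,13), (55,48,23,4), (1,29,4,58), (49,10,44,9), (10,9,10,15), (11,39,13,14),
  (15,49,50,10), (14,46,20,11), (36,55,55,48), (55,1,1,29), (11,13,39,14), (48,4,4,36),
  (29,58,58,55), (14,20,46,11), (46,45,11,39), (9,49,15,49), (39,48,14,46), (4,11,36,55),
  (58,30,55,1), (20,45,11,13), (55,23,48,4), (1,4,29,58), (13,48,14,20), (28,35,34,32),
  (38,31,30,54), (35,32,31,25), (45,13,39,48), (23,4,4,11), (4,58,58,30), (48,46,20,45),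
  (11,55,55,23), (30,1,1,4), (45,39,13,48), (25,27,28,35), (29,5,38,31), (28,34,35,32),
  (35,31,32,25), (31,21,54,29), (32,24,25,28), (54,28,29,38), (39,14,48,46), (4,36,11,55),
  (58,55,30,1), (46,11,45,39), (31,24,25,27), (21,28,29,5), (24,27,28,34), (27,34,35,31),
  (5,30,31,21), (34,31,32,24), (30,21,54,28), (5,38,38,53), (10,19,19,48), (28,5,38,30),
  (34,32,31,24), (30,54,21,28), (31,25,24,27), (24,28,27,34), (28,38,5,30), (27,35,34,31),
  (5,31,30,21), (21,6,5,38), (40,11,10,19), (21,29,28,5), (38,54,53,21), (19,49,48,40),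
  (18,19,45,41), (25,16,42,34), (32,25,24,28), (54,29,28,38), (25,28,27,35), (29,38,5,31),
  (54,21,21,6), (49,40,40,11), (31,54,21,29), (6,38,38,54), (11,19,19,49), (14,18,18,19),
  (17,25,25,16), (38,30,31,54), (19,41,41,14), (16,34,34,17), (38,53,54,21), (19,48,49,40),
  (21,5,6,38), (40,10,11,19), (41,40,14,18), (34,43,17,25), (18,45,19,41), (25,42,16,34),
  (42,34,34,43), (56,52,52,3), (40,18,18,45), (53,21,21,5), (48,40,40,10), (45,41,41,40),
  (43,25,25,42), (7,56,56,52), (41,14,40,18), (34,17,43,25), (52,3,3,7), (3,7,7,56)]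

set_option maxRecDepth 10000 in
def wordList : List (List (Quad 59)) := [
  [], [gen0], [gen1], [gen0, gen0],
  [gen0, gen1], [gen1, gen0], [gen1, gen1], [gen0, gen0, gen0],
  [gen0, gen0, gen1], [gen0, gen1, gen0], [gen0, gen1, gen1], [gen1, gen0, gen1],
  [gen1, gen1, gen0], [gen0, gen0, gen0, gen1], [gen0, gen0, gen1, gen0], [gen0, gen0, gen1, gen1],
  [gen0, gen1, gen0, gen1], [gen0, gen1, gen1, gen0], [gen1, gen0, gen1, gen0], [gen1, gen0, gen1, gen1],
  [gen1, gen1, gen0, gen1], [gen0, gen0, gen0, gen1, gen0], [gen0, gen0, gen0, gen1, gen1], [gen0, gen0, gen1, gen0, gen1],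
  [gen0, gen0, gen1, gen1, gen0], [gen0, gen1, gen0, gen1, gen0], [gen0, gen1, gen0, gen1, gen1], [gen0, gen1, gen1, gen0, gen1],
  [gen1, gen0, gen1, gen0, gen1], [gen1, gen0, gen1, gen1, gen0], [gen1, gen1, gen0, gen1, gen0], [gen1, gen1, gen0, gen1, gen1],
  [gen0, gen0, gen0, gen1, gen0, gen1], [gen0, gen0, gen0, gen1, gen1, gen0], [gen0, gen0, gen1, gen0, gen1, gen0], [gen0, gen0, gen1, gen0, gen1, gen1],
  [gen0, gen0, gen1, gen1, gen0, gen1], [gen0, gen1, gen0, gen1, gen0, gen1], [gen0, gen1, gen0, gen1, gen1, gen0], [gen0, gen1, gen1, gen0, gen1, gen0],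
  [gen0, gen1, gen1, gen0, gen1, gen1], [gen1, gen0, gen1, gen0, gen1, gen1], [gen1, gen0, gen1, gen1, gen0, gen1], [gen1, gen1, gen0, gen1, gen0, gen1],
  [gen0, gen0, gen0, gen1, gen0, gen1, gen0], [gen0, gen0, gen0, gen1, gen0, gen1, gen1], [gen0, gen0, gen0, gen1, gen1, gen0, gen1], [gen0, gen0, gen1, gen0, gen1, gen0, gen1],
  [gen0, gen0, gen1, gen0, gen1, gen1, gen0], [gen0, gen0, gen1, gen1, gen0, gen1, gen0], [gen0, gen0, gen1, gen1, gen0, gen1, gen1], [gen0, gen1, gen0, gen1, gen0, gen1, gen1],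
  [gen0, gen1, gen0, gen1, gen1, gen0, gen1], [gen0, gen1, gen1, gen0, gen1, gen0, gen1], [gen1, gen0, gen1, gen0, gen1, gen1, gen0], [gen1, gen0, gen1, gen1, gen0, gen1, gen0],
  [gen1, gen0, gen1, gen1, gen0, gen1, gen1], [gen1, gen1, gen0, gen1, gen0, gen1, gen1], [gen0, gen0, gen0, gen1, gen0, gen1, gen0, gen1], [gen0, gen0, gen0, gen1, gen0, gen1, gen1, gen0],
  [gen0, gen0, gen0, gen1, gen1, gen0, gen1, gen0], [gen0, gen0, gen0, gen1, gen1, gen0, gen1, gen1], [gen0, gen0, gen1, gen0, gen1, gen0, gen1, gen1], [gen0, gen0, gen1, gen0, gen1, gen1, gen0, gen1],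
  [gen0, gen0, gen1, gen1, gen0, gen1, gen0, gen1], [gen0, gen1, gen0, gen1, gen0, gen1, gen1, gen0], [gen0, gen1, gen0, gen1, gen1, gen0, gen1, gen0], [gen0, gen1, gen0, gen1, gen1, gen0, gen1, gen1],
  [gen0, gen1, gen1, gen0, gen1, gen0, gen1, gen1], [gen1, gen0, gen1, gen0, gen1, gen1, gen0, gen1], [gen1, gen0, gen1, gen1, gen0, gen1, gen0, gen1], [gen1, gen1, gen0, gen1, gen0, gen1, gen1, gen0],
  [gen0, gen0, gen0, gen1, gen0, gen1, gen0, gen1, gen1], [gen0, gen0, gen0, gen1, gen0, gen1, gen1, gen0, gen1], [gen0, gen0, gen0, gen1, gen1, gen0, gen1, gen0, gen1], [gen0, gen0, gen1, gen0, gen1, gen0, gen1, gen1, gen0],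
  [gen0, gen0, gen1, gen0, gen1, gen1, gen0, gen1, gen0], [gen0, gen0, gen1, gen0, gen1, gen1, gen0, gen1, gen1], [gen0, gen0, gen1, gen1, gen0, gen1, gen0, gen1, gen1], [gen0, gen1, gen0, gen1, gen0, gen1, gen1, gen0, gen1],
  [gen0, gen1, gen0, gen1, gen1, gen0, gen1, gen0, gen1], [gen0, gen1, gen1, gen0, gen1, gen0, gen1, gen1, gen0], [gen1, gen0, gen1, gen0, gen1, gen1, gen0, gen1, gen0], [gen1, gen0, gen1, gen0, gen1, gen1, gen0, gen1, gen1],
  [gen1, gen0, gen1, gen1, gen0, gen1, gen0, gen1, gen1], [gen1, gen1, gen0, gen1, gen0, gen1, gen1, gen0, gen1], [gen0, gen0, gen0, gen1, gen0, gen1, gen0, gen1, gen1, gen0], [gen0, gen0, gen0, gen1, gen0, gen1, gen1, gen0, gen1, gen0],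
  [gen0, gen0, gen0, gen1, gen0, gen1, gen1, gen0, gen1, gen1], [gen0, gen0, gen0, gen1, gen1, gen0, gen1, gen0, gen1, gen1], [gen0, gen0, gen1, gen0, gen1, gen0, gen1, gen1, gen0, gen1], [gen0, gen0, gen1, gen0, gen1, gen1, gen0, gen1, gen0, gen1],
  [gen0, gen0, gen1, gen1, gen0, gen1, gen0, gen1, gen1, gen0], [gen0, gen1, gen0, gen1, gen0, gen1, gen1, gen0, gen1, gen0], [gen0, gen1, gen0, gen1, gen0, gen1, gen1, gen0, gen1, gen1], [gen0, gen1, gen0, gen1, gen1, gen0, gen1, gen0, gen1, gen1],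
  [gen0, gen1, gen1, gen0, gen1, gen0, gen1, gen1, gen0, gen1], [gen1, gen0, gen1, gen0, gen1, gen1, gen0, gen1, gen0, gen1], [gen1, gen0, gen1, gen1, gen0, gen1, gen0, gen1, gen1, gen0], [gen1, gen1, gen0, gen1, gen0, gen1, gen1, gen0, gen1, gen0],
  [gen0, gen0, gen0, gen1, gen0, gen1, gen0, gen1, gen1, gen0, gen1], [gen0, gen0, gen0, gen1, gen0, gen1, gen1, gen0, gen1, gen0, gen1], [gen0, gen0, gen1, gen0, gen1, gen0, gen1, gen1, gen0, gen1, gen0], [gen0, gen0, gen1, gen0, gen1, gen0, gen1, gen1, gen0, gen1, gen1],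
  [gen0, gen0, gen1, gen0, gen1, gen1, gen0, gen1, gen0, gen1, gen1], [gen0, gen0, gen1, gen1, gen0, gen1, gen0, gen1, gen1, gen0, gen1], [gen0, gen1, gen0, gen1, gen1, gen0, gen1, gen0, gen1, gen1, gen0], [gen0, gen1, gen1, gen0, gen1, gen0, gen1, gen1, gen0, gen1, gen0],
  [gen1, gen0, gen1, gen0, gen1, gen1, gen0, gen1, gen0, gen1, gen1], [gen1, gen0, gen1, gen1, gen0, gen1, gen0, gen1, gen1, gen0, gen1], [gen1, gen1, gen0, gen1, gen0, gen1, gen1, gen0, gen1, gen0, gen1], [gen0, gen0, gen0, gen1, gen0, gen1, gen0, gen1, gen1, gen0, gen1, gen0],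
  [gen0, gen0, gen0, gen1, gen0, gen1, gen0, gen1, gen1, gen0, gen1, gen1], [gen0, gen0, gen0, gen1, gen0, gen1, gen1, gen0, gen1, gen0, gen1, gen1], [gen0, gen0, gen1, gen1, gen0, gen1, gen0, gen1, gen1, gen0, gen1, gen0], [gen0, gen1, gen0, gen1, gen1, gen0, gen1, gen0, gen1, gen1, gen0, gen1],
  [gen0, gen1, gen1, gen0, gen1, gen0, gen1, gen1, gen0, gen1, gen0, gen1], [gen1, gen0, gen1, gen0, gen1, gen1, gen0, gen1, gen0, gen1, gen1, gen0], [gen1, gen0, gen1, gen1, gen0, gen1, gen0, gen1, gen1, gen0, gen1, gen0], [gen1, gen1, gen0, gen1, gen0, gen1, gen1, gen0, gen1, gen0, gen1, gen1]]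

instance : Fact (Nat.Prime 59) := ⟨by norm_num⟩

/-- An exceptional sharply doubly transitive group of degree 59^2: the listed matrices generate a subgroup of GL(2,59) of order 3480 acting regularly on the non-zero vectors. -/
theorem result (A : Matrix.GeneralLinearGroup (Fin 2) (ZMod 59)) (B : Matrix.GeneralLinearGroup (Fin 2) (ZMod 59)) (C : Matrix.GeneralLinearGroup (Fin 2) (ZMod 59)) (hA : (A : Matrix (Fin 2) (Fin 2) (ZMod 59)) = !![0, -1; 1, 0]) (hB : (B : Matrix (Fin 2) (Fin 2) (ZMod 59)) = !![9, 15; -10, -10]) (hC : (C : Matrix (Fin 2) (Fin 2) (ZMod 59)) = !![4, 0; 0, 4]) : Nat.card (Subgroup.closure ({A, B, C} : Set (Matrix.GeneralLinearGroup (Fin 2) (ZMod 59)))) = 3480 ∧ ∀ v w : Fin 2 → ZMod 59, v ≠ 0 → w ≠ 0 → ∃! h : Subgroup.closure ({A, B, C} : Set (Matrix.GeneralLinearGroup (Fin 2) (ZMod 59))), Matrix.mulVec ((h : Matrix.GeneralLinearGroup (Fin 2) (ZMod 59)) : Matrix (Fin 2) (Fin 2) (ZMod 59)) v = w := by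
  have h := regular_of_cert ({A, B, C} : Set (Matrix.GeneralLinearGroup (Fin 2) (ZMod 59))) gensList 4 29 elems wordList ?_ ?_ ?_
    (by decide +kernel) (by decide +kernel) (by decide +kernel) (by decide +kernel) (by decide +kernel)
    (by decide +kernel) (by decide +kernel) (by decide +kernel) (by decide +kernel)
  · simpa [elems] using h
  · intro g hg
    simp only [Set.mem_insert_iff, Set.mem_singleton_iff] at hg
    rcases hg with rfl | rfl | rfl
    · refine Or.inr ⟨(0,58,1,0), by simp [gensList], ?_⟩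
      rw [hA]
      decide +kernel
    · refine Or.inr ⟨(9,15,49,49), by simp [gensList], ?_⟩
      rw [hB]
      decide +kernel
    · left
      rw [hC]
      decide +kernel
  · intro x hx
    simp only [gensList, List.mem_cons, List.not_mem_nil, or_false] at hx
    rcases hx with rfl | rfl
    · refine ⟨A, by simp, ?_⟩
      rw [hA]
      decide +kernel
    · refine ⟨B, by simp, ?_⟩
      rw [hB]
      decide +kernel
  · refine Or.inr ⟨C, by simp, ?_⟩
    rw [hC]
    decide +kernel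

end Cfsg.Agent.S0693
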