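import Cfsg.Statements.S0694
import Mathlib

set_option autoImplicit false
open Cfsg

namespace Cfsg.Agent.S0694

theorem mul_dvd_pow_sub_one (A : ℕ) : ∀ (x D : ℤ), (∀ s : ℕ, s.Prime → s ∣ A → (s : ℤ) ∣ x - 1) →
    D ∣ x - 1 → D * (A : ℤ) ∣ x ^ A - 1 := by
  induction A using induction_on_primes with
  | zero => intro x D _ _; simp
  | one => intro x D _ hD; simpa using hD
  | prime_mul p a hp ih =>
    intro x D hs hD
    have hpx : (p : ℤ) ∣ x - 1 := hs p hp (dvd_mul_right _ _)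
    have hstep : D * (p : ℤ) ∣ x ^ p - 1 := by
      rw [← geom_sum_mul x p, mul_comm D]
      refine mul_dvd_mul ?_ hD
      rw [← ZMod.intCast_zmod_eq_zero_iff_dvd]
      have hx : (x : ZMod p) = 1 := by
        rw [← sub_eq_zero, ← Int.cast_one, ← Int.cast_sub, ZMod.intCast_zmod_eq_zero_iff_dvd]
        exact hpx
      push_cast
      simp [hx]
    have h := ih (x ^ p) (D * p) (fun s hs' hsa =>
      (hs s hs' (dvd_mul_of_dvd_right hsa _)).trans (by simpa using sub_dvd_pow_sub_pow x 1 p)) hstep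
    rw [← pow_mul, mul_assoc] at h
    exact_mod_cast h

theorem modEq_iff (q i M : ℕ) (hq : 0 < q) :
    q ^ i ≡ 1 [MOD M] ↔ (M : ℤ) ∣ (q : ℤ) ^ i - 1 := by
  rw [Nat.ModEq.comm, Nat.modEq_iff_dvd]
  push_cast
  rfl

theorem coprime_of_pow (q n : ℕ) (hn : 0 < n) (M : ℕ) (h : q ^ n ≡ 1 [MOD M]) : q.Coprime M := by
  have h1 : Nat.gcd (q ^ n) M = Nat.gcd 1 M := h.gcd_eq
  rw [Nat.gcd_one_left] at h1
  exact (Nat.coprime_pow_left_iff hn q M).mp h1

theorem exists_exponent (q r : ℕ) (hq : 1 < q) (hr : r.Prime) (n : ℕ)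
    (hc : ∀ s : ℕ, s.Prime → s ∣ n → ¬ s ∣ q)
    (hb : ∀ s : ℕ, s.Prime → s ∣ n → s ≠ r ∧ (s ∣ q - 1 ∨ s < r)) (hn : 0 < n) :
    ∃ W : ℕ, 0 < W ∧ ¬ r ∣ W ∧ ((n * (q - 1) : ℕ) : ℤ) ∣ (q : ℤ) ^ W - 1 := by
  induction n using induction_on_primes with
  | zero => omega
  | one => exact ⟨1, one_pos, hr.not_dvd_one, by simp [Nat.cast_sub hq.le]⟩
  | prime_mul p a hp ih =>
    obtain ⟨W, hW, hrW, hdvd⟩ := ih (fun s hs hsa => hc s hs (dvd_mul_of_dvd_right hsa _))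
      (fun s hs hsa => hb s hs (dvd_mul_of_dvd_right hsa _)) (Nat.pos_of_mul_pos_left hn)
    obtain ⟨hpr, hgood⟩ := hb p hp (dvd_mul_right _ _)
    have hrp : ¬ r ∣ p := fun h => hpr ((Nat.prime_dvd_prime_iff_eq hr hp).mp h).symm
    have hstep : ∀ k : ℕ, (p : ℤ) ∣ (q : ℤ) ^ (W * k) - 1 →
        ((p * a * (q - 1) : ℕ) : ℤ) ∣ (q : ℤ) ^ (W * k * p) - 1 := by
      intro k hk
      rw [pow_mul _ (W * k) p]
      have := mul_dvd_pow_sub_one p ((q : ℤ) ^ (W * k)) ((a * (q - 1) : ℕ) : ℤ)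
        (fun s hs hsp => by rwa [(Nat.prime_dvd_prime_iff_eq hs hp).mp hsp])
        (hdvd.trans (by rw [pow_mul]; simpa using sub_dvd_pow_sub_pow ((q : ℤ) ^ W) 1 k))
      rw [mul_assoc, mul_comm p, Nat.cast_mul]
      exact this
    rcases hgood with hg | hlt
    · refine ⟨W * 1 * p, by have := hp.pos; positivity, ?_, hstep 1 ?_⟩
      · rw [mul_one, hr.dvd_mul]; tauto
      · rw [mul_one]
        have h1 : (p : ℤ) ∣ (q : ℤ) - 1 := by
          have := Int.natCast_dvd_natCast.mpr hg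
          rwa [Nat.cast_sub hq.le, Nat.cast_one] at this
        exact h1.trans (by simpa using sub_dvd_pow_sub_pow (q : ℤ) 1 W)
    · have hp1 : 0 < p - 1 := by have := hp.two_le; omega
      refine ⟨W * (p - 1) * p, by have := hp.pos; positivity, ?_, hstep (p - 1) ?_⟩
      · rw [hr.dvd_mul, hr.dvd_mul]
        rintro ((h | h) | h)
        · exact hrW h
        · have := Nat.le_of_dvd hp1 h; omega
        · exact hrp h
      · haveI : Fact p.Prime := ⟨hp⟩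
        rw [← ZMod.intCast_zmod_eq_zero_iff_dvd]
        push_cast
        have hq0 : (q : ZMod p) ≠ 0 := by
          rw [Ne, ZMod.natCast_eq_zero_iff]
          exact hc p hp (dvd_mul_right _ _)
        rw [mul_comm W, pow_mul, ZMod.pow_card_sub_one_eq_one hq0, one_pow, sub_self]

theorem pow_gcd_dvd (q a b : ℕ) (M : ℤ) (ha : M ∣ (q : ℤ) ^ a - 1) (hb : M ∣ (q : ℤ) ^ b - 1) :
    M ∣ (q : ℤ) ^ Nat.gcd a b - 1 := by
  rw [← Int.natAbs_dvd] at ha hb ⊢
  rw [← ZMod.intCast_zmod_eq_zero_iff_dvd] at ha hb ⊢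
  push_cast at ha hb ⊢
  rw [sub_eq_zero] at ha hb ⊢
  exact pow_gcd_eq_one.mpr ⟨ha, hb⟩

theorem not_dvd_div (q n r : ℕ) (hq : 1 < q) (hn : 1 < n) (hr : r.Prime) (hrn : r ∣ n)
    (hgood : r ∣ q - 1) (h4 : 4 ∣ n → 4 ∣ q - 1) :
    ¬ n * (q - 1) ∣ q ^ (n / r) - 1 := by
  intro h
  obtain ⟨i, rfl⟩ := hrn
  rw [Nat.mul_div_cancel_left _ hr.pos] at h
  haveI : Fact r.Prime := ⟨hr⟩
  have hi : i ≠ 0 := by rintro rfl; simp at hn
  have hq1 : q - 1 ≠ 0 := by omega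
  have hrq : ¬ r ∣ q := fun h' => hr.not_dvd_one (by
    have h3 := Nat.dvd_sub h' hgood
    rwa [Nat.sub_sub_self hq.le] at h3)
  have hne : q ^ i - 1 ≠ 0 := by
    have : 1 < q ^ i := Nat.one_lt_pow hi hq
    omega
  have hle : padicValNat r (r * i * (q - 1)) ≤ padicValNat r (q ^ i - 1) :=
    (padicValNat_dvd_iff_le hne).mp (pow_padicValNat_dvd.trans h)
  rw [padicValNat.mul (mul_ne_zero hr.ne_zero hi) hq1, padicValNat.mul hr.ne_zero hi,
    padicValNat_self] at hle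
  rcases hr.eq_two_or_odd' with rfl | hodd
  · rcases Nat.even_or_odd i with hev | hod
    · have h44 : 4 ∣ q - 1 := h4 (by obtain ⟨j, rfl⟩ := hev; exact ⟨j, by ring⟩)
      have hv := padicValNat.pow_two_sub_one hq hrq hi hev
      have hv1 : padicValNat 2 (q + 1) = 1 := by
        obtain ⟨j, hj⟩ := h44
        have e : q + 1 = 2 * (2 * j + 1) := by omega
        rw [e, padicValNat.mul two_ne_zero (by omega), padicValNat_self,
          padicValNat.eq_zero_of_not_dvd (show ¬ 2 ∣ 2 * j + 1 by omega)]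
      omega
    · have h2 : ((2 * (q - 1) : ℕ) : ℤ) ∣ (∑ j ∈ Finset.range i, (q : ℤ) ^ j) * ((q : ℤ) - 1) := by
        rw [geom_sum_mul]
        have h3 := Int.natCast_dvd_natCast.mpr ((Dvd.intro i (by ring)).trans h :
          2 * (q - 1) ∣ q ^ i - 1)
        rwa [Nat.cast_sub (Nat.one_le_pow _ _ (by omega)), Nat.cast_pow, Nat.cast_one] at h3
      rw [Nat.cast_mul, Nat.cast_sub hq.le, Nat.cast_one] at h2
      have h3 := Int.dvd_of_mul_dvd_mul_right (by omega) h2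
      rw [← ZMod.intCast_zmod_eq_zero_iff_dvd] at h3
      push_cast at h3
      have hq2 : (q : ZMod 2) = 1 := by
        rw [ZMod.natCast_eq_one_iff_odd]
        exact Nat.odd_iff.mpr (by omega)
      simp only [hq2, one_pow, Finset.sum_const, Finset.card_range, nsmul_one] at h3
      exact Nat.not_even_iff_odd.mpr hod (ZMod.natCast_eq_zero_iff_even.mp h3)
  · have hv := padicValNat.pow_sub_pow (x := q) (y := 1) hodd hq hgood hrq hi
    rw [one_pow] at hv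
    omega

theorem four_case (q n : ℕ) (hq : 1 < q) (hgood : ∀ r : ℕ, r.Prime → r ∣ n → r ∣ q - 1)
    (h4n : 4 ∣ n) : ((n * (q - 1) : ℕ) : ℤ) ∣ (q : ℤ) ^ (n / 2) - 1 ∨ 4 ∣ q - 1 := by
  by_cases h4 : 4 ∣ q - 1
  · exact Or.inr h4
  refine Or.inl ?_
  obtain ⟨j, rfl⟩ := h4n
  have h2 : 2 ∣ q - 1 := hgood 2 Nat.prime_two (Dvd.intro (2 * j) (by ring))
  have hd : ((4 * (q - 1) : ℕ) : ℤ) ∣ (q : ℤ) ^ 2 - 1 := by
    have h4q : (4 : ℤ) ∣ (q : ℤ) + 1 := by
      obtain ⟨a, ha⟩ := (show 4 ∣ q + 1 by omega)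
      exact ⟨a, by exact_mod_cast ha⟩
    rw [show (q : ℤ) ^ 2 - 1 = ((q : ℤ) + 1) * ((q : ℤ) - 1) by ring, Nat.cast_mul,
      Nat.cast_sub hq.le, Nat.cast_one]
    exact mul_dvd_mul h4q dvd_rfl
  have h := mul_dvd_pow_sub_one j ((q : ℤ) ^ 2) ((4 * (q - 1) : ℕ) : ℤ) (fun s hs hsj => by
    have h1 := Int.natCast_dvd_natCast.mpr (hgood s hs (dvd_mul_of_dvd_right hsj 4))
    rw [Nat.cast_sub hq.le, Nat.cast_one] at h1
    exact h1.trans (by simpa using sub_dvd_pow_sub_pow (q : ℤ) 1 2)) hd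
  rw [← pow_mul, ← Nat.cast_mul, mul_right_comm] at h
  rwa [show 4 * j / 2 = 2 * j by omega]


/-- The Dickson pair condition: for a prime power `q` and `n > 1`, (every prime factor of `n` divides `q - 1`, and `4 ∣ n → 4 ∣ q - 1`) holds exactly when `q ^ n ≡ 1` modulo `n * (q - 1)` but `q ^ i` is not, for `0 < i < n`. -/
theorem result (q n : ℕ) (hq : IsPrimePow q) (hn : 1 < n) : ((∀ r : ℕ, r.Prime → r ∣ n → r ∣ q - 1) ∧ (4 ∣ n → 4 ∣ q - 1)) ↔ (q ^ n ≡ 1 [MOD n * (q - 1)] ∧ ∀ i : ℕ, 0 < i → i < n → ¬ q ^ i ≡ 1 [MOD n * (q - 1)]) := by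
  have hq1 : 1 < q := hq.one_lt
  have hq0 : 0 < q := by omega
  have hc1 : ((q - 1 : ℕ) : ℤ) ∣ (q : ℤ) - 1 := by rw [Nat.cast_sub hq1.le, Nat.cast_one]
  constructor
  · rintro ⟨hgood, h4⟩
    have hn' : ((n * (q - 1) : ℕ) : ℤ) ∣ (q : ℤ) ^ n - 1 := by
      have h := mul_dvd_pow_sub_one n (q : ℤ) ((q - 1 : ℕ) : ℤ) (fun s hs hsn =>
        (Int.natCast_dvd_natCast.mpr (hgood s hs hsn)).trans hc1) hc1
      rwa [← Nat.cast_mul, mul_comm] at h
    refine ⟨(modEq_iff q n _ hq0).mpr hn', fun i hi hin h => ?_⟩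
    have hg := pow_gcd_dvd q n i _ hn' ((modEq_iff q i _ hq0).mp h)
    set d := Nat.gcd n i
    have hdn : d ∣ n := Nat.gcd_dvd_left n i
    have hdlt : d < n := (Nat.le_of_dvd hi (Nat.gcd_dvd_right n i)).trans_lt hin
    obtain ⟨k, hk⟩ := hdn
    have hk1 : k ≠ 1 := by rintro rfl; omega
    obtain ⟨r, hr, j, rfl⟩ := Nat.exists_prime_and_dvd hk1
    refine not_dvd_div q n r hq1 hn hr ⟨d * j, by rw [hk]; ring⟩ (hgood r hr ⟨d * j, by rw [hk]; ring⟩)
      h4 ?_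
    rw [hk, show d * (r * j) / r = d * j by
      rw [show d * (r * j) = r * (d * j) by ring, Nat.mul_div_cancel_left _ hr.pos]]
    rw [← hk, ← Int.natCast_dvd_natCast, Nat.cast_sub (Nat.one_le_pow _ _ hq0), Nat.cast_pow,
      Nat.cast_one]
    refine hg.trans ?_
    rw [pow_mul]
    simpa using sub_dvd_pow_sub_pow ((q : ℤ) ^ d) 1 j
  · rintro ⟨hn', hmin⟩
    have hcop : q.Coprime (n * (q - 1)) := coprime_of_pow q n (by omega) _ hn'
    have hnq : ∀ s : ℕ, s.Prime → s ∣ n → ¬ s ∣ q := fun s hs hsn hsq =>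
      hs.not_dvd_one (hcop ▸ Nat.dvd_gcd hsq (dvd_mul_of_dvd_left hsn _))
    have hgood : ∀ r : ℕ, r.Prime → r ∣ n → r ∣ q - 1 := by
      by_contra hcon
      push Not at hcon
      classical
      let S := n.primeFactors.filter fun r => ¬ r ∣ q - 1
      have hne : S.Nonempty := by
        obtain ⟨r, hr, hrn, hrq⟩ := hcon
        exact ⟨r, Finset.mem_filter.mpr ⟨Nat.mem_primeFactors.mpr ⟨hr, hrn, by omega⟩, hrq⟩⟩
      obtain ⟨hrp, hrq⟩ := Finset.mem_filter.mp (S.max'_mem hne)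
      set r := S.max' hne
      obtain ⟨hr, hrn, -⟩ := Nat.mem_primeFactors.mp hrp
      obtain ⟨e, n', hn'r, hn⟩ := Nat.exists_eq_pow_mul_and_not_dvd (show n ≠ 0 by omega) r hr.ne_one
      have he : e ≠ 0 := by rintro rfl; rw [pow_zero, one_mul] at hn; exact hn'r (hn ▸ hrn)
      have hn'0 : n' ≠ 0 := by rintro rfl; exact hn'r (dvd_zero r)
      have hsub : n' ∣ n := hn ▸ dvd_mul_left _ _
      obtain ⟨W, hW, hrW, hWd⟩ := exists_exponent q r hq1 hr n'
        (fun s hs hsn => hnq s hs (hsn.trans hsub)) (fun s hs hsn => by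
          have hsr : s ≠ r := fun e => hn'r (e ▸ hsn)
          refine ⟨hsr, or_iff_not_imp_left.mpr fun hsq => lt_of_le_of_ne (S.le_max' s ?_) hsr⟩
          exact Finset.mem_filter.mpr ⟨Nat.mem_primeFactors.mpr ⟨hs, hsn.trans hsub, by omega⟩, hsq⟩)
        (Nat.pos_of_ne_zero hn'0)
      haveI : Fact r.Prime := ⟨hr⟩
      have hFr : (r : ℤ) ∣ (q : ℤ) ^ (W * (r - 1)) - 1 := by
        rw [← ZMod.intCast_zmod_eq_zero_iff_dvd]
        push_cast
        have hq0 : (q : ZMod r) ≠ 0 := by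
          rw [Ne, ZMod.natCast_eq_zero_iff]
          exact hnq r hr hrn
        rw [mul_comm W, pow_mul, ZMod.pow_card_sub_one_eq_one hq0, one_pow, sub_self]
      have hcp : IsCoprime (r : ℤ) ((n' * (q - 1) : ℕ) : ℤ) :=
        Nat.isCoprime_iff_coprime.mpr ((Nat.Prime.coprime_iff_not_dvd hr).mpr fun h =>
          (hr.dvd_mul.mp h).elim hn'r hrq)
      have hD := hcp.mul_dvd hFr (hWd.trans (by
        rw [pow_mul]; simpa using sub_dvd_pow_sub_pow ((q : ℤ) ^ W) 1 (r - 1)))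
      obtain ⟨e', rfl⟩ := Nat.exists_eq_succ_of_ne_zero he
      have hE := mul_dvd_pow_sub_one (r ^ e') ((q : ℤ) ^ (W * (r - 1))) _ (fun s hs hsd => by
        rw [(Nat.prime_dvd_prime_iff_eq hs hr).mp (hs.dvd_of_dvd_pow hsd)]
        exact hFr) hD
      rw [← pow_mul, ← Nat.cast_mul, ← Nat.cast_mul,
        show r * (n' * (q - 1)) * r ^ e' = n * (q - 1) by rw [hn, pow_succ]; ring] at hE
      set i₀ := W * (r - 1) * r ^ e'
      have hg := pow_gcd_dvd q n i₀ _ ((modEq_iff q n _ hq0).mp hn') hE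
      have hlt : Nat.gcd n i₀ < n := by
        refine lt_of_le_of_ne (Nat.gcd_le_left _ (by omega)) fun heq => ?_
        have h1 : r * r ^ e' ∣ W * (r - 1) * r ^ e' := by
          rw [← pow_succ']
          exact (Dvd.intro n' hn.symm).trans (heq ▸ Nat.gcd_dvd_right n i₀)
        rcases hr.dvd_mul.mp (Nat.dvd_of_mul_dvd_mul_right (pow_pos hr.pos _) h1) with h | h
        · exact hrW h
        · have := Nat.le_of_dvd (by have := hr.two_le; omega) h
          have := hr.two_le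
          omega
      exact hmin _ (Nat.gcd_pos_of_pos_left _ (by omega)) hlt ((modEq_iff q _ _ hq0).mpr hg)
    refine ⟨hgood, fun h4n => ?_⟩
    rcases four_case q n hq1 hgood h4n with h | h
    · obtain ⟨j, rfl⟩ := h4n
      exact absurd ((modEq_iff q _ _ hq0).mpr h) (hmin _ (by omega) (by omega))
    · exact h

end Cfsg.Agent.S0694
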