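import Cfsg.Statements.S0698
import Cfsg.Agent.Lib.SylowCounting.NormalMultiply
import Mathlib.GroupTheory.GroupAction.MultipleTransitivity

set_option autoImplicit false
open Cfsg

namespace Cfsg.Agent.S0698

/-- Jordan's Theorem on normal subgroups of multiply transitive groups: if `G` is `k`-transitive (`k > 1`) of degree greater than `k`, a non-trivial normal subgroup is `(k-1)`-transitive, except possibly for `k = 3` when it may be an elementary abelian 2-group. -/
theorem result {α : Type*} [Fintype α] [DecidableEq α] (G : Subgroup (Equiv.Perm α)) {k : ℕ} (hk : 1 < k) (hdeg : k < Fintype.card α) (hG : MulAction.IsMultiplyPretransitive G α k) (N : Subgroup G) [N.Normal] (hN : N ≠ ⊥) : MulAction.IsMultiplyPretransitive N α (k - 1) ∨ (k = 3 ∧ IsMulCommutative N ∧ ∀ n ∈ N, n ^ 2 = 1) := by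
  classical
  haveI := hG
  obtain ⟨j, rfl⟩ : ∃ j, k = j + 1 := ⟨k - 1, by omega⟩
  simp only [Nat.add_sub_cancel]
  have hprim : MulAction.IsMultiplyPreprimitive G α j :=
    MulAction.isMultiplyPreprimitive_of_isMultiplyPretransitive_succ G α
      (by rw [ENat.card_eq_coe_fintype_card]; exact_mod_cast hdeg.le)
  by_cases hnr : ∃ a : α, MulAction.stabilizer N a ≠ ⊥
  · exact Or.inl (Cfsg.Agent.Lib.SylowCounting.normal_multiply j hprim (by omega) (fun _ => by omega)
      (by omega) N hnr)
  push Not at hnr
  haveI h1 : MulAction.IsPreprimitive G α := (MulAction.is_one_preprimitive_iff G α).1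
    (MulAction.isMultiplyPreprimitive_of_le G α hprim (by omega)
      (by rw [ENat.card_eq_coe_fintype_card]; exact_mod_cast (by omega : j ≤ Fintype.card α)))
  have htr : MulAction.IsPretransitive N α := Cfsg.Agent.Lib.Perm.isPretransitive_of_normal N hN
  rcases Nat.lt_or_ge j 3 with hj | hj
  · obtain rfl | rfl : j = 1 ∨ j = 2 := by omega
    · exact Or.inl (MulAction.is_one_pretransitive_iff.2 htr)
    rcases Cfsg.Agent.Lib.Perm.regular_normal_two_primitive (by omega) hprim N htr hnr with h | ⟨h2, h3, -⟩
    · omega
    · exact Or.inr ⟨rfl, h2, h3⟩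
  · have h3 : MulAction.IsMultiplyPreprimitive G α 3 := MulAction.isMultiplyPreprimitive_of_le G α hprim hj
      (by rw [ENat.card_eq_coe_fintype_card]; exact_mod_cast (by omega : j ≤ Fintype.card α))
    have := Cfsg.Agent.Lib.Perm.regular_normal_three_primitive (by omega) h3 N htr hnr
    omega

end Cfsg.Agent.S0698
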