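import Cfsg.Statements.S0699
import Mathlib


set_option autoImplicit false
set_option linter.style.haveILetI false
set_option linter.unusedSectionVars false
set_option maxHeartbeats 1000000
open Cfsg

namespace Cfsg.Agent.S0699

section
variable {α : Type*}

/-- Shorthand for the action. -/
def ap {G : Subgroup (Equiv.Perm α)} (g : G) (x : α) : α := (g : Equiv.Perm α) x

variable {G : Subgroup (Equiv.Perm α)}

theorem ap_one (x : α) : ap (1 : G) x = x := rfl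
theorem ap_mul (g h : G) (x : α) : ap (g * h) x = ap g (ap h x) := rfl
theorem ap_inj (g : G) {x y : α} : ap g x = ap g y ↔ x = y := (g : Equiv.Perm α).injective.eq_iff
theorem ap_inv (g : G) (x : α) : ap g⁻¹ (ap g x) = x := by rw [← ap_mul, inv_mul_cancel, ap_one]
theorem ap_inv' (g : G) (x : α) : ap g (ap g⁻¹ x) = x := by rw [← ap_mul, mul_inv_cancel, ap_one]
theorem inv_of_ap {g : G} {x y : α} (h : ap g x = y) : ap g⁻¹ y = x := by rw [← h, ap_inv]

/-- The elements of `N` fixing `a` and `b`. -/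
def two (N : Subgroup G) (a b : α) : Subgroup G where
  carrier := {g | g ∈ N ∧ ap g a = a ∧ ap g b = b}
  one_mem' := ⟨N.one_mem, rfl, rfl⟩
  mul_mem' := fun {g h} hg hh => ⟨N.mul_mem hg.1 hh.1, by rw [ap_mul, hh.2.1, hg.2.1], by rw [ap_mul, hh.2.2, hg.2.2]⟩
  inv_mem' := fun {g} hg => ⟨N.inv_mem hg.1, inv_of_ap hg.2.1, inv_of_ap hg.2.2⟩

/-- The elements of `N` normalizing `P` and fixing the pair `a`, `b`. -/
def pairNorm (N : Subgroup G) (P : Subgroup G) (a b : α) : Subgroup G where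
  carrier := {g | g ∈ N ∧ g ∈ Subgroup.normalizer (P : Set G) ∧ ((ap g a = a ∧ ap g b = b) ∨ (ap g a = b ∧ ap g b = a))}
  one_mem' := ⟨N.one_mem, Subgroup.one_mem _, Or.inl ⟨rfl, rfl⟩⟩
  mul_mem' := fun {g h} hg hh => ⟨N.mul_mem hg.1 hh.1, Subgroup.mul_mem _ hg.2.1 hh.2.1, by
    rcases hg.2.2 with ⟨g1, g2⟩ | ⟨g1, g2⟩ <;> rcases hh.2.2 with ⟨h1, h2⟩ | ⟨h1, h2⟩ <;>
      simp [ap_mul, g1, g2, h1, h2]⟩
  inv_mem' := fun {g} hg => ⟨N.inv_mem hg.1, Subgroup.inv_mem _ hg.2.1, by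
    rcases hg.2.2 with ⟨g1, g2⟩ | ⟨g1, g2⟩
    · exact Or.inl ⟨inv_of_ap g1, inv_of_ap g2⟩
    · exact Or.inr ⟨inv_of_ap g2, inv_of_ap g1⟩⟩

/-- A 2-group on an odd number of points fixes an odd number of them. -/
theorem odd_fixed [Fintype α] (hodd : Odd (Fintype.card α)) {R : Subgroup G} (hR : IsPGroup 2 R) :
    Odd (Nat.card {x : α // ∀ r ∈ R, ap r x = x}) := by
  haveI : Fact (Nat.Prime 2) := ⟨Nat.prime_two⟩
  have h := hR.card_modEq_card_fixedPoints α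
  have e : Nat.card (MulAction.fixedPoints R α) = Nat.card {x : α // ∀ r ∈ R, ap r x = x} :=
    Nat.card_congr (Equiv.subtypeEquivRight fun x => ⟨fun h r hr => h ⟨r, hr⟩, fun h r => h r.1 r.2⟩)
  rw [e, Nat.card_eq_fintype_card (α := α)] at h
  rw [Nat.odd_iff] at hodd ⊢
  unfold Nat.ModEq at h
  omega

/-- An odd power of an element is a 2-element. -/
theorem exists_two_elem [Finite G] (h : G) :
    ∃ k : ℕ, Odd k ∧ IsPGroup 2 (Subgroup.zpowers (h ^ k)) := by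
  haveI : Fact (Nat.Prime 2) := ⟨Nat.prime_two⟩
  refine ⟨orderOf h / 2 ^ (orderOf h).factorization 2, ?_, ?_⟩
  · rw [Nat.odd_iff, ← Nat.two_dvd_ne_zero]
    exact Nat.not_dvd_ordCompl Nat.prime_two (orderOf_pos h).ne'
  · refine IsPGroup.of_card (n := (orderOf h).factorization 2) ?_
    rw [Nat.card_zpowers, orderOf_pow_orderOf_div (orderOf_pos h).ne' (Nat.ordProj_dvd _ _)]

theorem odd_pow_swap {h : G} {a b : α} (ha : ap h a = b) (hb : ap h b = a) {k : ℕ} (hk : Odd k) :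
    ap (h ^ k) a = b ∧ ap (h ^ k) b = a := by
  have h2 : ∀ j, ap ((h * h) ^ j) a = a ∧ ap ((h * h) ^ j) b = b := by
    intro j
    induction j with
    | zero => exact ⟨rfl, rfl⟩
    | succ j ih => simp [pow_succ, ap_mul, ha, hb, ih]
  obtain ⟨j, rfl⟩ := hk
  rw [pow_succ, pow_mul, pow_two]
  simp [ap_mul, ha, hb, h2 j]

theorem pow_fix {h : G} {c : α} (hc : ap h c = c) (k : ℕ) : ap (h ^ k) c = c := by
  induction k with
  | zero => rfl
  | succ k ih => rw [pow_succ, ap_mul, hc, ih]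

/-- Two subgroups of `Q` of the order of a Sylow 2-subgroup are conjugate by an element of `Q`. -/
theorem conj_in [Finite G] {Q P R : Subgroup G} (hP : P ≤ Q) (hR : R ≤ Q)
    (hPc : Nat.card P = 2 ^ (Nat.card Q).factorization 2) (hRc : Nat.card R = 2 ^ (Nat.card Q).factorization 2) :
    ∃ k ∈ Q, ∀ p ∈ P, k * p * k⁻¹ ∈ R := by
  haveI : Fact (Nat.Prime 2) := ⟨Nat.prime_two⟩
  let P' : Sylow 2 Q := Sylow.ofCard (P.subgroupOf Q) (by rw [Nat.card_congr (Subgroup.subgroupOfEquivOfLe hP).toEquiv, hPc])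
  let R' : Sylow 2 Q := Sylow.ofCard (R.subgroupOf Q) (by rw [Nat.card_congr (Subgroup.subgroupOfEquivOfLe hR).toEquiv, hRc])
  obtain ⟨k, hk⟩ := MulAction.exists_smul_eq Q P' R'
  refine ⟨k.1, k.2, fun p hp => ?_⟩
  have : k * ⟨p, hP hp⟩ * k⁻¹ ∈ ((k • P' : Sylow 2 Q) : Subgroup Q) := by
    rw [Sylow.coe_subgroup_smul]
    exact ⟨⟨p, hP hp⟩, (Subgroup.mem_subgroupOf.2 hp : (⟨p, hP hp⟩ : Q) ∈ P.subgroupOf Q), rfl⟩
  rw [hk] at this
  exact Subgroup.mem_subgroupOf.1 this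

theorem card_le_pc [Finite G] {Q R : Subgroup G} (hR : R ≤ Q) (hR2 : IsPGroup 2 R) :
    Nat.card R ≤ 2 ^ (Nat.card Q).factorization 2 := by
  haveI : Fact (Nat.Prime 2) := ⟨Nat.prime_two⟩
  obtain ⟨j, hj⟩ := hR2.exists_card_eq
  rw [hj]
  exact Nat.pow_le_pow_right (by norm_num)
    ((Nat.prime_two.pow_dvd_iff_le_factorization Nat.card_pos.ne').1 (hj ▸ Subgroup.card_dvd_of_le hR))

variable [Fintype α] [DecidableEq α]

/-- Normal subgroups of 3-transitive groups of odd degree at least 5 are 3-transitive. -/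
theorem three_transitive (hodd : Odd (Fintype.card α)) (h5 : 5 ≤ Fintype.card α)
    (h3 : ∀ a b c a' b' c' : α, a ≠ b → a ≠ c → b ≠ c → a' ≠ b' → a' ≠ c' → b' ≠ c' →
      ∃ g : G, ap g a = a' ∧ ap g b = b' ∧ ap g c = c')
    (N : Subgroup G) [N.Normal] (hN : N ≠ ⊥) (a b c a' b' c' : α) (hab : a ≠ b) (hac : a ≠ c) (hbc : b ≠ c)
    (hab' : a' ≠ b') (hac' : a' ≠ c') (hbc' : b' ≠ c') :
    ∃ m ∈ N, ap m a = a' ∧ ap m b = b' ∧ ap m c = c' := by
  haveI : Fact (Nat.Prime 2) := ⟨Nat.prime_two⟩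
  have hthird : ∀ x y : α, ∃ z, z ≠ x ∧ z ≠ y := by
    intro x y
    obtain ⟨z, hz⟩ := Finset.exists_mem_notMem_of_card_lt_card (t := (Finset.univ : Finset α)) (s := {x, y})
      (lt_of_le_of_lt Finset.card_le_two (by rw [Finset.card_univ]; omega))
    exact ⟨z, fun e => hz.2 (by simp [e]), fun e => hz.2 (by simp [e])⟩
  have h2 : ∀ x y x' y' : α, x ≠ y → x' ≠ y' → ∃ g : G, ap g x = x' ∧ ap g y = y' := by
    intro x y x' y' h h'
    obtain ⟨z, hz1, hz2⟩ := hthird x y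
    obtain ⟨z', hz1', hz2'⟩ := hthird x' y'
    obtain ⟨g, g1, g2, -⟩ := h3 x y z x' y' z' h hz1.symm hz2.symm h' hz1'.symm hz2'.symm
    exact ⟨g, g1, g2⟩
  have hconj : ∀ (g m : G), m ∈ N → g * m * g⁻¹ ∈ N := fun g m hm => ‹N.Normal›.conj_mem m hm g
  -- transitive
  obtain ⟨m₀, hm₀, hne⟩ := (Subgroup.ne_bot_iff_exists_ne_one.1 hN) |> fun ⟨m, hm⟩ =>
    (⟨m.1, m.2, fun e => hm (Subtype.ext e)⟩ : ∃ m, m ∈ N ∧ m ≠ 1)
  obtain ⟨y₀, hy₀⟩ : ∃ y, ap m₀ y ≠ y := by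
    by_contra h
    simp only [ne_eq, not_exists, not_not] at h
    exact hne (Subtype.ext (Equiv.ext h))
  have trans : ∀ x z : α, ∃ m ∈ N, ap m x = z := by
    have from0 : ∀ z, ∃ m ∈ N, ap m y₀ = z := by
      intro z
      rcases eq_or_ne z y₀ with rfl | hz
      · exact ⟨1, N.one_mem, rfl⟩
      obtain ⟨g, g1, g2⟩ := h2 y₀ (ap m₀ y₀) y₀ z (Ne.symm hy₀) (Ne.symm hz)
      exact ⟨g * m₀ * g⁻¹, hconj g _ hm₀, by rw [ap_mul, ap_mul, inv_of_ap g1, g2]⟩
    intro x z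
    obtain ⟨m, hm, e⟩ := from0 x
    obtain ⟨m', hm', e'⟩ := from0 z
    exact ⟨m' * m⁻¹, N.mul_mem hm' (N.inv_mem hm), by rw [ap_mul, inv_of_ap e, e']⟩
  -- the point stabilizer in N is not trivial
  have nreg : ∃ m ∈ N, ap m a = a ∧ m ≠ 1 := by
    by_contra hreg
    have huniq : ∀ m m' : G, m ∈ N → m' ∈ N → ap m a = ap m' a → m = m' := fun m m' hm hm' e => by
      by_contra hmm
      exact hreg ⟨m'⁻¹ * m, N.mul_mem (N.inv_mem hm') hm, by rw [ap_mul, e, ap_inv],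
        fun h => hmm (inv_mul_eq_one.1 h).symm⟩
    have hcard : Nat.card N = Fintype.card α := by
      rw [← Nat.card_eq_fintype_card]
      exact Nat.card_congr (Equiv.ofBijective (fun m : N => ap m.1 a)
        ⟨fun m m' e => Subtype.ext (huniq _ _ m.2 m'.2 e), fun z => by
          obtain ⟨m, hm, e⟩ := trans a z
          exact ⟨⟨m, hm⟩, e⟩⟩)
    obtain ⟨u, hu, hua⟩ := trans a b
    have huu : ap u⁻¹ a ≠ b := fun e => by
      have h1 : (⟨u, hu⟩ : N) ^ 2 = 1 := by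
        rw [sq, mul_eq_one_iff_eq_inv]
        exact Subtype.ext (huniq u u⁻¹ hu (N.inv_mem hu) (by rw [hua, e]))
      have h2' := orderOf_dvd_of_pow_eq_one h1
      have h3' : orderOf (⟨u, hu⟩ : N) ∣ Fintype.card α := hcard ▸ orderOf_dvd_natCard _
      have h4' : orderOf (⟨u, hu⟩ : N) ∣ 1 := by
        rw [← (Nat.coprime_two_left.2 hodd).gcd_eq_one]
        exact Nat.dvd_gcd h2' h3'
      rw [Nat.dvd_one, orderOf_eq_one_iff] at h4'
      exact hab (by rw [← hua, show u = 1 from congrArg Subtype.val h4', ap_one])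
    have hua' : ap u⁻¹ a ≠ a := fun e => hab (by rw [← hua]; conv_lhs => rw [← ap_inv' u a]; rw [e])
    obtain ⟨w, hw⟩ := Finset.exists_mem_notMem_of_card_lt_card (t := (Finset.univ : Finset α)) (s := {a, b, ap u⁻¹ a})
      (lt_of_le_of_lt Finset.card_le_three (by rw [Finset.card_univ]; omega))
    have hw' : w ≠ a ∧ w ≠ b ∧ w ≠ ap u⁻¹ a := by simpa using hw.2
    obtain ⟨g, g1, g2, g3⟩ := h3 a b (ap u⁻¹ a) a b w hab hua'.symm huu.symm hab hw'.1.symm hw'.2.1.symm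
    have hgu : g * u * g⁻¹ = u := huniq _ _ (hconj g u hu) hu
      (by rw [ap_mul, ap_mul, inv_of_ap g1, hua, g2])
    have : g * u⁻¹ * g⁻¹ = u⁻¹ := by
      rw [← conj_inv, hgu]
    refine hw'.2.2 ?_
    calc w = ap (g * u⁻¹ * g⁻¹) a := by rw [ap_mul, ap_mul, inv_of_ap g1, g3]
      _ = ap u⁻¹ a := by rw [this]
  -- doubly transitive
  have two_trans : ∀ x y x' y' : α, x ≠ y → x' ≠ y' → ∃ m ∈ N, ap m x = x' ∧ ap m y = y' := by
    have key : ∀ y z, y ≠ a → z ≠ a → ∃ m ∈ N, ap m a = a ∧ ap m y = z := by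
      obtain ⟨m, hm, hma, hm1⟩ := nreg
      obtain ⟨y₁, hy₁⟩ : ∃ y, ap m y ≠ y := by
        by_contra h
        simp only [ne_eq, not_exists, not_not] at h
        exact hm1 (Subtype.ext (Equiv.ext h))
      have hy₁a : y₁ ≠ a := fun e => hy₁ (by rw [e, hma])
      have hmy : ap m y₁ ≠ a := fun e => hy₁a ((ap_inj m).1 (e.trans hma.symm))
      have from1 : ∀ z, z ≠ a → ∃ n ∈ N, ap n a = a ∧ ap n y₁ = z := by
        intro z hz
        rcases eq_or_ne z y₁ with rfl | hzy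
        · exact ⟨1, N.one_mem, rfl, rfl⟩
        obtain ⟨g, g1, g2, g3⟩ := h3 a y₁ (ap m y₁) a y₁ z hy₁a.symm hmy.symm (Ne.symm hy₁) hy₁a.symm hz.symm hzy.symm
        exact ⟨g * m * g⁻¹, hconj g m hm, by rw [ap_mul, ap_mul, inv_of_ap g1, hma, g1],
          by rw [ap_mul, ap_mul, inv_of_ap g2, g3]⟩
      intro y z hy hz
      obtain ⟨n, hn, n1, n2⟩ := from1 y hy
      obtain ⟨n', hn', n1', n2'⟩ := from1 z hz
      exact ⟨n' * n⁻¹, N.mul_mem hn' (N.inv_mem hn), by rw [ap_mul, inv_of_ap n1, n1'],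
        by rw [ap_mul, inv_of_ap n2, n2']⟩
    intro x y x' y' h h'
    obtain ⟨m, hm, e⟩ := trans x a
    obtain ⟨m', hm', e'⟩ := trans x' a
    have hy : ap m y ≠ a := fun k => h.symm ((ap_inj m).1 (k.trans e.symm))
    have hy' : ap m' y' ≠ a := fun k => h'.symm ((ap_inj m').1 (k.trans e'.symm))
    obtain ⟨n, hn, n1, n2⟩ := key _ _ hy hy'
    exact ⟨m'⁻¹ * n * m, N.mul_mem (N.mul_mem (N.inv_mem hm') hn) hm,
      by rw [ap_mul, ap_mul, e, n1, inv_of_ap e'], by rw [ap_mul, ap_mul, n2, ap_inv]⟩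
  -- it suffices to move third points
  suffices key : ∀ z z', z ≠ a → z ≠ b → z' ≠ a → z' ≠ b → ∃ m ∈ N, ap m a = a ∧ ap m b = b ∧ ap m z = z' by
    obtain ⟨m, hm, m1, m2⟩ := two_trans a' b' a b hab' hab
    have hc1 : ap m c' ≠ a := fun k => hac'.symm ((ap_inj m).1 (k.trans m1.symm))
    have hc2 : ap m c' ≠ b := fun k => hbc'.symm ((ap_inj m).1 (k.trans m2.symm))
    obtain ⟨n, hn, n1, n2, n3⟩ := key c (ap m c') hac.symm hbc.symm hc1 hc2
    exact ⟨m⁻¹ * n, N.mul_mem (N.inv_mem hm) hn, by rw [ap_mul, n1, inv_of_ap m1],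
      by rw [ap_mul, n2, inv_of_ap m2], by rw [ap_mul, n3, ap_inv]⟩
  clear hac hbc hab' hac' hbc'
  -- a Sylow 2-subgroup of the two point stabilizer
  set Q := two N a b with hQdef
  obtain ⟨S⟩ : Nonempty (Sylow 2 Q) := inferInstance
  set P := (S : Subgroup Q).map Q.subtype with hPdef
  have hPQ : P ≤ Q := Subgroup.map_subtype_le _
  have hPc : Nat.card P = 2 ^ (Nat.card Q).factorization 2 := by
    rw [hPdef, Subgroup.card_map_of_injective Q.subtype_injective, Sylow.card_eq_multiplicity]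
  have hP2 : IsPGroup 2 P := S.isPGroup'.map _
  -- fixed points of P reach every orbit of Q
  have reach : ∀ z, z ≠ a → z ≠ b → ∃ k ∈ Q, ∀ p ∈ P, ap p (ap k z) = ap k z := by
    intro z hza hzb
    obtain ⟨c₀, hc₀, hca, hcb⟩ : ∃ x, (∀ r ∈ P, ap r x = x) ∧ x ≠ a ∧ x ≠ b := by
      by_contra h
      have hF := odd_fixed hodd hP2
      have : Nat.card {x : α // ∀ r ∈ P, ap r x = x} = 2 := by
        rw [← Nat.card_congr (Equiv.subtypeEquivRight (p := fun x => x ∈ ({a, b} : Finset α)) fun x => ?_),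
          Nat.card_eq_finsetCard, Finset.card_pair hab]
        simp only [Finset.mem_insert, Finset.mem_singleton]
        constructor
        · rintro (rfl | rfl)
          · exact fun r hr => (hPQ hr).2.1
          · exact fun r hr => (hPQ hr).2.2
        · intro hx
          by_contra hx'
          exact h ⟨x, hx, fun e => hx' (Or.inl e), fun e => hx' (Or.inr e)⟩
      rw [this] at hF
      exact absurd hF (by decide)
    obtain ⟨g, g1, g2, g3⟩ := h3 a b c₀ a b z hab hca.symm hcb.symm hab hza.symm hzb.symm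
    have hmap : P.map (MulAut.conj g).toMonoidHom ≤ Q := by
      rintro _ ⟨p, hp, rfl⟩
      refine ⟨hconj g p (hPQ hp).1, ?_, ?_⟩
      · show ap (g * p * g⁻¹) a = a
        rw [ap_mul, ap_mul, inv_of_ap g1, (hPQ hp).2.1, g1]
      · show ap (g * p * g⁻¹) b = b
        rw [ap_mul, ap_mul, inv_of_ap g2, (hPQ hp).2.2, g2]
    obtain ⟨k, hk, hkP⟩ := conj_in hPQ hmap hPc
      (by rw [Subgroup.card_map_of_injective (MulAut.conj g).injective, hPc])
    refine ⟨k⁻¹, Q.inv_mem hk, fun p hp => ?_⟩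
    obtain ⟨p', hp', e⟩ := hkP p hp
    have e' : g * p' * g⁻¹ = k * p * k⁻¹ := e
    apply (ap_inj k).1
    calc ap k (ap p (ap k⁻¹ z)) = ap (k * p * k⁻¹) z := by rw [ap_mul, ap_mul]
      _ = ap (g * p' * g⁻¹) z := by rw [e']
      _ = z := by rw [ap_mul, ap_mul, inv_of_ap g3, hc₀ p' hp', g3]
      _ = ap k (ap k⁻¹ z) := (ap_inv' k z).symm
  -- a swapping element with a fixed point, hence one for every third point
  obtain ⟨s, hs, hsa, hsb⟩ := two_trans a b b a hab hab.symm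
  obtain ⟨j, hj, hj2⟩ := exists_two_elem s
  obtain ⟨hja, hjb⟩ := odd_pow_swap hsa hsb hj
  obtain ⟨c₁, hc₁⟩ : ∃ x : α, ∀ r ∈ Subgroup.zpowers (s ^ j), ap r x = x := by
    obtain ⟨x, hx⟩ := (Nat.card_pos_iff.1 (odd_fixed hodd hj2).pos).1.some
    exact ⟨x, hx⟩
  have hc₁' := hc₁ _ (Subgroup.mem_zpowers _)
  have hc₁a : c₁ ≠ a := fun e => hab (by rw [← hja, ← e, hc₁'])
  have hc₁b : c₁ ≠ b := fun e => hab (by rw [← hjb, ← e, hc₁'])
  have swap : ∀ z, z ≠ a → z ≠ b → ∃ h ∈ N, ap h a = b ∧ ap h b = a ∧ ap h z = z := by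
    intro z hza hzb
    obtain ⟨g, g1, g2, g3⟩ := h3 a b c₁ a b z hab hc₁a.symm hc₁b.symm hab hza.symm hzb.symm
    exact ⟨g * s ^ j * g⁻¹, hconj g _ (N.pow_mem hs j), by rw [ap_mul, ap_mul, inv_of_ap g1, hja, g2],
      by rw [ap_mul, ap_mul, inv_of_ap g2, hjb, g1], by rw [ap_mul, ap_mul, inv_of_ap g3, hc₁', g3]⟩
  -- reduce to two points fixed by P
  suffices main : ∀ z z', z ≠ a → z ≠ b → z' ≠ a → z' ≠ b → (∀ p ∈ P, ap p z = z) → (∀ p ∈ P, ap p z' = z') →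
      ∃ m ∈ N, ap m a = a ∧ ap m b = b ∧ ap m z = z' by
    intro z z' h1 h2 h1' h2'
    obtain ⟨k, hk, hkf⟩ := reach z h1 h2
    obtain ⟨k', hk', hkf'⟩ := reach z' h1' h2'
    obtain ⟨ka, kb⟩ := hk.2
    obtain ⟨ka', kb'⟩ := hk'.2
    obtain ⟨m, hm, m1, m2, m3⟩ := main (ap k z) (ap k' z')
      (fun e => h1 ((ap_inj k).1 (e.trans ka.symm))) (fun e => h2 ((ap_inj k).1 (e.trans kb.symm)))
      (fun e => h1' ((ap_inj k').1 (e.trans ka'.symm))) (fun e => h2' ((ap_inj k').1 (e.trans kb'.symm))) hkf hkf'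
    exact ⟨k'⁻¹ * m * k, N.mul_mem (N.mul_mem (N.inv_mem hk'.1) hm) hk.1,
      by rw [ap_mul, ap_mul, ka, m1, inv_of_ap ka'], by rw [ap_mul, ap_mul, kb, m2, inv_of_ap kb'],
      by rw [ap_mul, ap_mul, m3, ap_inv]⟩
  set D := pairNorm N P a b with hD
  have twoElem : ∀ z, z ≠ a → z ≠ b → (∀ p ∈ P, ap p z = z) →
      ∃ t ∈ D, ap t a = b ∧ ap t b = a ∧ ap t z = z ∧ IsPGroup 2 (Subgroup.zpowers t) := by
    intro z hza hzb hz
    obtain ⟨h, hh, ha', hb', hz'⟩ := swap z hza hzb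
    set Qz := Q ⊓ two N a z with hQz
    have hPQz : P ≤ Qz := fun p hp => ⟨hPQ hp, (hPQ hp).1, (hPQ hp).2.1, hz p hp⟩
    have hQzc : 2 ^ (Nat.card Qz).factorization 2 = Nat.card P := by
      refine le_antisymm ?_ (card_le_pc hPQz hP2)
      rw [hPc]
      exact Nat.pow_le_pow_right (by norm_num)
        ((Nat.factorization_le_iff_dvd Nat.card_pos.ne' Nat.card_pos.ne').2
          (Subgroup.card_dvd_of_le inf_le_left) 2)
    have hmap : P.map (MulAut.conj h).toMonoidHom ≤ Qz := by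
      rintro _ ⟨p, hp, rfl⟩
      obtain ⟨p1, p2, p3⟩ := hPQ hp
      have e1 : ap (h * p * h⁻¹) a = a := by rw [ap_mul, ap_mul, inv_of_ap hb', p3, hb']
      exact ⟨⟨hconj h p p1, e1, show ap (h * p * h⁻¹) b = b by rw [ap_mul, ap_mul, inv_of_ap ha', p2, ha']⟩,
        hconj h p p1, e1, show ap (h * p * h⁻¹) z = z by rw [ap_mul, ap_mul, inv_of_ap hz', hz p hp, hz']⟩
    have hmc : Nat.card ↥(P.map (MulAut.conj h).toMonoidHom) = Nat.card P :=
      Subgroup.card_map_of_injective (MulAut.conj h).injective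
    obtain ⟨k, hk, hkP⟩ := conj_in hmap hPQz (hmc.trans hQzc.symm) hQzc.symm
    have ht : k * h ∈ D := by
      refine ⟨N.mul_mem hk.1.1 hh, ?_, Or.inr ?_⟩
      · refine (Subgroup.mem_normalizer_fintype (fun p hp => ?_))
        have := hkP _ ⟨p, hp, rfl⟩
        show k * h * p * (k * h)⁻¹ ∈ (P : Set G)
        simpa [mul_assoc] using this
      · exact ⟨by rw [ap_mul, ha', hk.1.2.2], by rw [ap_mul, hb', hk.1.2.1]⟩
    obtain ⟨i, hi, hi2⟩ := exists_two_elem (k * h)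
    have hsw := odd_pow_swap (a := a) (b := b) (by rw [ap_mul, ha', hk.1.2.2] : ap (k * h) a = b)
      (by rw [ap_mul, hb', hk.1.2.1]) hi
    exact ⟨(k * h) ^ i, D.pow_mem ht i, hsw.1, hsw.2,
      pow_fix (by rw [ap_mul, hz', hk.2.2.2]) i, hi2⟩
  intro z z' hza hzb hza' hzb' hz hz'
  obtain ⟨t, htD, hta, htb, htz, ht2⟩ := twoElem z hza hzb hz
  obtain ⟨t', htD', hta', htb', htz', ht2'⟩ := twoElem z' hza' hzb' hz'
  obtain ⟨R, hR⟩ := IsPGroup.exists_le_sylow (G := D) (P := Subgroup.zpowers ⟨t, htD⟩)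
    (ht2.of_injective ((D.subtype.comp (Subgroup.zpowers ⟨t, htD⟩).subtype).codRestrict (Subgroup.zpowers t) (by
      rintro ⟨x, n, rfl⟩; exact ⟨n, by simp⟩))
      (by intro x y e; exact Subtype.ext (Subtype.ext (congrArg Subtype.val e :))))
  obtain ⟨R', hR'⟩ := IsPGroup.exists_le_sylow (G := D) (P := Subgroup.zpowers ⟨t', htD'⟩)
    (ht2'.of_injective ((D.subtype.comp (Subgroup.zpowers ⟨t', htD'⟩).subtype).codRestrict (Subgroup.zpowers t') (by
      rintro ⟨x, n, rfl⟩; exact ⟨n, by simp⟩))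
      (by intro x y e; exact Subtype.ext (Subtype.ext (congrArg Subtype.val e :))))
  have inP : ∀ x : D, x ∈ (R : Subgroup D) → ap x.1 a = a → ap x.1 b = b → x.1 ∈ P := by
    intro x hx hxa hxb
    have hsup : IsPGroup 2 ↥(Subgroup.zpowers x.1 ⊔ P) := by
      refine IsPGroup.to_sup_of_normal_right' ?_ hP2 ?_
      · have h := (R.isPGroup'.to_le ((Subgroup.zpowers_le).2 hx)).map D.subtype
        rwa [MonoidHom.map_zpowers] at h
      · exact (Subgroup.zpowers_le).2 x.2.2.1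
    have hle : Subgroup.zpowers x.1 ⊔ P ≤ Q :=
      sup_le ((Subgroup.zpowers_le).2 ⟨x.2.1, hxa, hxb⟩) hPQ
    have heq := Subgroup.eq_of_le_of_card_ge (le_sup_right : P ≤ Subgroup.zpowers x.1 ⊔ P)
      (hPc ▸ card_le_pc hle hsup)
    rw [heq]
    exact Subgroup.mem_sup_left (Subgroup.mem_zpowers _)
  have Rfix : ∀ x : D, x ∈ (R : Subgroup D) → ap x.1 z = z := by
    intro x hx
    rcases x.2.2.2 with ⟨xa, xb⟩ | ⟨xa, xb⟩
    · exact hz _ (inP x hx xa xb)
    · have hy : x * (⟨t, htD⟩ : D)⁻¹ ∈ (R : Subgroup D) :=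
        Subgroup.mul_mem _ hx (Subgroup.inv_mem _ (hR (Subgroup.mem_zpowers _)))
      have h := hz _ (inP _ hy (show ap (x.1 * t⁻¹) a = a by rw [ap_mul, inv_of_ap htb, xb])
        (show ap (x.1 * t⁻¹) b = b by rw [ap_mul, inv_of_ap hta, xa]))
      change ap (x.1 * t⁻¹) z = z at h
      rwa [ap_mul, inv_of_ap htz] at h
  obtain ⟨d, hd⟩ := MulAction.exists_smul_eq D R R'
  have hmem : (⟨t', htD'⟩ : D) ∈ ((d • R : Sylow 2 D) : Subgroup D) := by
    rw [hd]
    exact hR' (Subgroup.mem_zpowers _)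
  rw [Sylow.coe_subgroup_smul] at hmem
  obtain ⟨r, hr, hre⟩ := hmem
  have hre' : d.1 * r.1 * d.1⁻¹ = t' := congrArg Subtype.val hre
  have hdz : ap t' (ap d.1 z) = ap d.1 z := by
    rw [← hre', ap_mul, ap_mul, ap_inv, Rfix r hr]
  have hPd : ∀ p ∈ P, ap p (ap d.1 z) = ap d.1 z := by
    intro p hp
    have hp' : d.1⁻¹ * p * d.1 ∈ P := by
      have := (Subgroup.mem_normalizer_iff.1 (Subgroup.inv_mem _ d.2.2.1) p).1 hp
      simpa using this
    have := congrArg (ap d.1) (hz _ hp')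
    rwa [ap_mul, ap_mul, ap_inv'] at this
  have hfin : ap d.1 z = z' := by
    by_contra hne'
    obtain ⟨g, hg, g1, g2⟩ := two_trans (ap d.1 z) z' a b hne' hab
    have hsup : IsPGroup 2 ↥(Subgroup.zpowers t' ⊔ P) :=
      IsPGroup.to_sup_of_normal_right' ht2' hP2 ((Subgroup.zpowers_le).2 htD'.2.1)
    have hle : (Subgroup.zpowers t' ⊔ P).map (MulAut.conj g).toMonoidHom ≤ Q := by
      have hpt : ∀ x ∈ Subgroup.zpowers t' ⊔ P, x ∈ two N (ap d.1 z) z' :=
        (sup_le ((Subgroup.zpowers_le).2 ⟨htD'.1, hdz, htz'⟩) (fun p hp => ⟨(hPQ hp).1, hPd p hp, hz' p hp⟩) :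
          Subgroup.zpowers t' ⊔ P ≤ two N (ap d.1 z) z')
      rintro _ ⟨x, hx, rfl⟩
      obtain ⟨x1, x2, x3⟩ := hpt x hx
      exact ⟨hconj g x x1, show ap (g * x * g⁻¹) a = a by rw [ap_mul, ap_mul, inv_of_ap g1, x2, g1],
        show ap (g * x * g⁻¹) b = b by rw [ap_mul, ap_mul, inv_of_ap g2, x3, g2]⟩
    have hcle := card_le_pc hle (hsup.map _)
    rw [Subgroup.card_map_of_injective (MulAut.conj g).injective, ← hPc] at hcle
    have heq := Subgroup.eq_of_le_of_card_ge (le_sup_right : P ≤ Subgroup.zpowers t' ⊔ P) hcle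
    have : t' ∈ P := by
      rw [heq]
      exact Subgroup.mem_sup_left (Subgroup.mem_zpowers _)
    exact hab (((hPQ this).2.1).symm.trans hta')
  rcases d.2.2.2 with ⟨da, db⟩ | ⟨da, db⟩
  · exact ⟨d.1, d.2.1, da, db, hfin⟩
  · exact ⟨d.1 * t, N.mul_mem d.2.1 htD.1, by rw [ap_mul, hta, db], by rw [ap_mul, htb, da],
      by rw [ap_mul, htz, hfin]⟩

end

/-- Wagner's Theorem: a non-trivial normal subgroup of a triply transitive permutation group of odd degree at least 5 is triply transitive. -/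
theorem result {α : Type*} [Fintype α] [DecidableEq α] (G : Subgroup (Equiv.Perm α)) (hodd : Odd (Fintype.card α)) (h5 : 5 ≤ Fintype.card α) (hG : MulAction.IsMultiplyPretransitive G α 3) (N : Subgroup G) [N.Normal] (hN : N ≠ ⊥) : MulAction.IsMultiplyPretransitive N α 3 := by
  refine MulAction.isMultiplyPretransitive_iff.2 fun x y => ?_
  have hx : ∀ i j : Fin 3, i ≠ j → x i ≠ x j := fun i j h e => h (x.injective e)
  have hy : ∀ i j : Fin 3, i ≠ j → y i ≠ y j := fun i j h e => h (y.injective e)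
  have h3 : ∀ a b c a' b' c' : α, a ≠ b → a ≠ c → b ≠ c → a' ≠ b' → a' ≠ c' → b' ≠ c' →
      ∃ g : G, ap g a = a' ∧ ap g b = b' ∧ ap g c = c' := by
    intro a b c a' b' c' h1 h2 h3 h4 h5 h6
    obtain ⟨g, hg⟩ := MulAction.isMultiplyPretransitive_iff.1 hG
      ⟨![a, b, c], by intro i j hij; fin_cases i <;> fin_cases j <;> first | rfl | (exfalso; simp at hij; simp_all)⟩
      ⟨![a', b', c'], by intro i j hij; fin_cases i <;> fin_cases j <;> first | rfl | (exfalso; simp at hij; simp_all)⟩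
    exact ⟨g, DFunLike.congr_fun hg 0, DFunLike.congr_fun hg 1, DFunLike.congr_fun hg 2⟩
  obtain ⟨m, hm, m0, m1, m2⟩ := three_transitive hodd h5 h3 N hN (x 0) (x 1) (x 2) (y 0) (y 1) (y 2)
    (hx _ _ (by decide)) (hx _ _ (by decide)) (hx _ _ (by decide)) (hy _ _ (by decide)) (hy _ _ (by decide)) (hy _ _ (by decide))
  refine ⟨⟨m, hm⟩, ?_⟩
  ext i
  fin_cases i <;> assumption


end Cfsg.Agent.S0699
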