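import Cfsg.Statements.S0701
import Cfsg.Agent.Lib.Perm.Basic

set_option autoImplicit false
open Cfsg

namespace Cfsg.Agent.S0701


/-- The centraliser in the full symmetric group of a transitive permutation group `G` is semiregular, and it is transitive if and only if `G` is regular. -/
theorem result {α : Type*} (G : Subgroup (Equiv.Perm α)) [MulAction.IsPretransitive G α] : (∀ c ∈ Subgroup.centralizer (G : Set (Equiv.Perm α)), ∀ a : α, c a = a → c = 1) ∧ (MulAction.IsPretransitive (Subgroup.centralizer (G : Set (Equiv.Perm α))) α ↔ ∀ a : α, MulAction.stabilizer G a = ⊥) := by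
  refine ⟨fun c hc a ha => Lib.Perm.eq_one_of_mem_centralizer_of_fixed hc ha, ?_, ?_⟩
  · intro h a
    rw [Subgroup.eq_bot_iff_forall]
    intro g hg
    apply Subtype.ext
    ext x
    obtain ⟨c, hc⟩ := MulAction.exists_smul_eq
      (Subgroup.centralizer (G : Set (Equiv.Perm α))) a x
    have hc' : (c : Equiv.Perm α) a = x := hc
    have h1 := c.2 (g : Equiv.Perm α) g.2
    have hga : (g : Equiv.Perm α) a = a := hg
    rw [← hc', ← Equiv.Perm.mul_apply, h1, Equiv.Perm.mul_apply, hga]
    simp
  · intro h
    refine ⟨fun a b => ?_⟩
    choose f hf using fun x => MulAction.exists_smul_eq G a x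
    have huniq : ∀ (g g' : G), g • a = g' • a → g = g' := by
      intro g g' hgg
      have : g'⁻¹ * g ∈ MulAction.stabilizer G a := by
        rw [MulAction.mem_stabilizer_iff, mul_smul, hgg, inv_smul_smul]
      rw [h a, Subgroup.mem_bot, inv_mul_eq_one] at this
      exact this.symm
    have key : ∀ (g : G) (x : α), f (g • x) = g * f x := fun g x =>
      huniq _ _ (by rw [hf, mul_smul, hf])
    have inj : Function.Injective (fun x : α => f x • b) := by
      intro x y hxy
      simp only at hxy
      have : (f y)⁻¹ * f x ∈ MulAction.stabilizer G b := by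
        rw [MulAction.mem_stabilizer_iff, mul_smul, hxy, inv_smul_smul]
      rw [h b, Subgroup.mem_bot, inv_mul_eq_one] at this
      rw [← hf x, ← hf y, this]
    have surj : Function.Surjective (fun x : α => f x • b) := by
      intro y
      obtain ⟨g, hg⟩ := MulAction.exists_smul_eq G b y
      refine ⟨g • a, ?_⟩
      have : f (g • a) = g := huniq _ _ (hf _)
      simp only [this, hg]
    let c : Equiv.Perm α := Equiv.ofBijective _ ⟨inj, surj⟩
    have hc : c ∈ Subgroup.centralizer (G : Set (Equiv.Perm α)) := by
      intro g hg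
      ext x
      change g (f x • b) = f ((⟨g, hg⟩ : G) • x) • b
      rw [key, mul_smul]
      rfl
    refine ⟨⟨c, hc⟩, ?_⟩
    change f a • b = b
    have : f a = 1 := huniq _ _ (by rw [hf, one_smul])
    rw [this, one_smul]

end Cfsg.Agent.S0701
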