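import Cfsg.Statements.S0702
import Cfsg.Agent.Lib.Perm.Basic
import Mathlib.GroupTheory.QuotientGroup.Basic

set_option autoImplicit false
open Cfsg

namespace Cfsg.Agent.S0702


/-- For a transitive permutation group `G` on a finite set, the centraliser of `G` in the symmetric group is isomorphic to `N_G(G_ω)/G_ω`, and its orbit of `ω` is the set of fixed points of `G_ω`. -/
theorem result {α : Type*} [Finite α] (G : Subgroup (Equiv.Perm α)) [MulAction.IsPretransitive G α] (a : α) : Nonempty (Subgroup.centralizer (G : Set (Equiv.Perm α)) ≃* Subgroup.normalizer ((MulAction.stabilizer G a : Subgroup G) : Set G) ⧸ (MulAction.stabilizer G a).subgroupOf (Subgroup.normalizer ((MulAction.stabilizer G a : Subgroup G) : Set G))) ∧ MulAction.orbit (Subgroup.centralizer (G : Set (Equiv.Perm α))) a = MulAction.fixedPoints (MulAction.stabilizer G a) α := by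
  classical
  set H := MulAction.stabilizer G a with hH
  set N := Subgroup.normalizer ((H : Subgroup G) : Set G) with hN
  choose r hr using fun x : α => MulAction.exists_smul_eq G a x
  have hwell : ∀ (n : N) (g : G) (x : α), g • a = x → (r x) • (n : G)⁻¹ • a = g • (n : G)⁻¹ • a := by
    intro n g x hg
    have h1 : g⁻¹ * r x ∈ H := by
      rw [hH, MulAction.mem_stabilizer_iff, mul_smul, hr, ← hg, inv_smul_smul]
    have h2 : (n : G) * (g⁻¹ * r x) * (n : G)⁻¹ ∈ H := (Subgroup.mem_normalizer_iff.mp n.2 _).mp h1
    rw [hH, MulAction.mem_stabilizer_iff, mul_smul, mul_smul] at h2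
    rw [← eq_inv_smul_iff] at h2
    rw [mul_smul, inv_smul_eq_iff] at h2
    exact h2
  let f : N → α → α := fun n x => r x • (n : G)⁻¹ • a
  have hf : ∀ (n : N) (g : G), f n (g • a) = g • (n : G)⁻¹ • a := fun n g => hwell n g _ rfl
  have hmulf : ∀ (n m : N) (x : α), f (n * m) x = f n (f m x) := by
    intro n m x
    rw [← hr x, hf, hf m, ← mul_smul (r x) ((m : G)⁻¹), hf n, Subgroup.coe_mul, mul_inv_rev,
      mul_smul, mul_smul]
  have honef : ∀ x, f 1 x = x := fun x => by
    rw [← hr x, hf]
    simp
  let c : N →* Equiv.Perm α :=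
    { toFun := fun n => ⟨f n, f n⁻¹, fun x => by rw [← hmulf, inv_mul_cancel, honef],
        fun x => by rw [← hmulf, mul_inv_cancel, honef]⟩
      map_one' := Equiv.ext honef
      map_mul' := fun n m => Equiv.ext (hmulf n m) }
  have hrange : c.range = Subgroup.centralizer (G : Set (Equiv.Perm α)) := by
    apply le_antisymm
    · rintro _ ⟨n, rfl⟩ g hg
      ext x
      change g (f n x) = f n (g x)
      rw [← hr x, hf]
      have : g ((r x) • a) = ((⟨g, hg⟩ : G) * r x) • a := by rw [mul_smul]; rfl
      rw [this, hf, mul_smul]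
      rfl
    · intro d hd
      obtain ⟨g, hg⟩ := MulAction.exists_smul_eq G (d a) a
      have hd' : ∀ (k : G) (x : α), d (k • x) = k • d x := by
        intro k x
        have := congrArg (fun e : Equiv.Perm α => e x) (hd (k : Equiv.Perm α) k.2)
        exact this.symm
      have hgN : g ∈ N := by
        rw [hN, Subgroup.mem_normalizer_iff]
        intro k
        rw [hH, MulAction.mem_stabilizer_iff, MulAction.mem_stabilizer_iff, mul_smul, mul_smul,
          show g⁻¹ • a = d a by rw [inv_smul_eq_iff, hg], ← hd']
        constructor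
        · intro hk
          rw [hk, hg]
        · intro hk
          have : d (k • a) = d a := by
            apply smul_left_cancel g
            rw [hk, hg]
          exact d.injective this
      refine ⟨⟨g, hgN⟩, ?_⟩
      ext x
      change f ⟨g, hgN⟩ x = d x
      rw [← hr x, hf, hd', show (g : G)⁻¹ • a = d a by rw [inv_smul_eq_iff, hg]]
  have hker : c.ker = H.subgroupOf N := by
    ext n
    rw [MonoidHom.mem_ker, Subgroup.mem_subgroupOf]
    constructor
    · intro hn
      have := congrArg (fun e : Equiv.Perm α => e a) hn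
      change f n a = a at this
      have h2 := hf n 1
      rw [one_smul, one_smul, this, eq_inv_smul_iff] at h2
      exact h2
    · intro hn
      ext x
      change f n x = x
      rw [← hr x, hf, show (n : G)⁻¹ • a = a by rw [inv_smul_eq_iff]; exact hn.symm]
  refine ⟨⟨((MulEquiv.subgroupCongr hrange).symm.trans (QuotientGroup.quotientKerEquivRange c).symm).trans
    (QuotientGroup.quotientMulEquivOfEq hker)⟩, ?_⟩
  ext x
  constructor
  · rintro ⟨⟨d, hd⟩, rfl⟩ ⟨k, hk⟩
    have := congrArg (fun e : Equiv.Perm α => e a) (hd (k : Equiv.Perm α) k.2)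
    change k • d a = d a
    exact this.trans (congrArg d hk)
  · intro hx
    obtain ⟨g, hg⟩ := MulAction.exists_smul_eq G x a
    have hfix : ∀ k : G, k • a = a → k • x = x := fun k hk => hx ⟨k, hk⟩
    have hgN : g ∈ N := by
      rw [hN, Subgroup.mem_normalizer_iff]
      have h1 : ∀ k : G, k ∈ H → g * k * g⁻¹ ∈ H := fun k hk => by
        rw [hH, MulAction.mem_stabilizer_iff, mul_smul, mul_smul,
          show g⁻¹ • a = x by rw [inv_smul_eq_iff, hg], hfix k hk, hg]
      have hcard : H.map (MulAut.conj g).toMonoidHom = H := by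
        refine Subgroup.eq_of_le_of_card_ge ?_ ?_
        · rintro _ ⟨k, hk, rfl⟩
          exact h1 k hk
        · rw [Nat.card_congr (Subgroup.equivMapOfInjective H (MulAut.conj g).toMonoidHom
            (MulEquiv.injective _)).toEquiv]
      intro k
      refine ⟨h1 k, fun hk => ?_⟩
      rw [← hcard] at hk
      obtain ⟨k', hk', he⟩ := hk
      have : g * k' * g⁻¹ = g * k * g⁻¹ := he
      rw [mul_left_inj, mul_right_inj] at this
      exact this ▸ hk'
    refine ⟨⟨c ⟨g, hgN⟩, hrange ▸ MonoidHom.mem_range.mpr ⟨_, rfl⟩⟩, ?_⟩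
    change f ⟨g, hgN⟩ a = x
    have h2 := hf ⟨g, hgN⟩ 1
    rw [one_smul, one_smul] at h2
    rw [h2, inv_smul_eq_iff, hg]

end Cfsg.Agent.S0702
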