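import Cfsg.Statements.S0703
import Cfsg.Agent.Lib.Perm.Basic
import Mathlib.GroupTheory.Perm.Cycle.Type

set_option autoImplicit false
open Cfsg

namespace Cfsg.Agent.S0703


/-- An abelian transitive minimal normal subgroup `M` of a permutation group on a finite set is self-centralising in the symmetric group, regular, elementary abelian, and is the unique minimal normal subgroup. -/
theorem result {α : Type*} [Finite α] (G : Subgroup (Equiv.Perm α)) (M : Subgroup G) [M.Normal] (hM : M ≠ ⊥) (hmin : ∀ L : Subgroup G, L.Normal → L ≤ M → L = ⊥ ∨ L = M) (hab : IsMulCommutative M) (htrans : MulAction.IsPretransitive M α) : Subgroup.centralizer ((M.map G.subtype : Subgroup (Equiv.Perm α)) : Set (Equiv.Perm α)) = M.map G.subtype ∧ (∀ a : α, MulAction.stabilizer M a = ⊥) ∧ (∃ p : ℕ, p.Prime ∧ ∀ m ∈ M, m ^ p = 1) ∧ ∀ L : Subgroup G, L.Normal → L ≠ ⊥ → (∀ L' : Subgroup G, L'.Normal → L' ≤ L → L' = ⊥ ∨ L' = L) → L = M := by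
  classical
  haveI := Lib.Perm.isPretransitive_map_subtype M htrans
  have hc : ∀ m ∈ M, ∀ n ∈ M, m * n = n * m := fun m hm n hn =>
    congrArg Subtype.val (hab.is_comm.comm ⟨m, hm⟩ ⟨n, hn⟩)
  have hα : Nonempty α := by
    by_contra h
    rw [not_nonempty_iff] at h
    apply hM
    rw [Subgroup.eq_bot_iff_forall]
    intro m _
    apply Subtype.ext
    ext x
    exact h.elim x
  have hC : Subgroup.centralizer ((M.map G.subtype : Subgroup (Equiv.Perm α)) : Set (Equiv.Perm α)) = M.map G.subtype := by
    apply le_antisymm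
    · intro c hcc
      obtain ⟨a⟩ := hα
      obtain ⟨m, hm⟩ := htrans.exists_smul_eq a (c a)
      have hm' : ((m : G) : Equiv.Perm α) a = c a := hm
      have hmem : ((m : G) : Equiv.Perm α) ∈ M.map G.subtype := Subgroup.mem_map_of_mem G.subtype m.2
      have hmc : ((m : G) : Equiv.Perm α) ∈ Subgroup.centralizer ((M.map G.subtype : Subgroup (Equiv.Perm α)) : Set (Equiv.Perm α)) := by
        rintro _ ⟨x, hx, rfl⟩
        exact congrArg Subtype.val (hc x hx m m.2)
      have := Lib.Perm.eq_one_of_mem_centralizer_of_fixed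
        (G := M.map G.subtype) (c := ((m : G) : Equiv.Perm α)⁻¹ * c) (a := a)
        (Subgroup.mul_mem _ (Subgroup.inv_mem _ hmc) hcc) (by simp [← hm'])
      rw [inv_mul_eq_one] at this
      rw [← this]
      exact hmem
    · rintro _ ⟨n, hn, rfl⟩ _ ⟨x, hx, rfl⟩
      exact congrArg Subtype.val (hc x hx n hn)
  refine ⟨hC, fun a => Lib.Perm.stabilizer_eq_bot_of_commute M M htrans hc a, ?_, ?_⟩
  · haveI : Nontrivial M := (Subgroup.nontrivial_iff_ne_bot M).mpr hM
    obtain ⟨p, hp, hpd⟩ := Nat.exists_prime_and_dvd (n := Nat.card M) (Finite.one_lt_card).ne'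
    haveI := Fact.mk hp
    obtain ⟨x, hx⟩ := exists_prime_orderOf_dvd_card' p hpd
    let L : Subgroup G :=
      { carrier := {m | m ∈ M ∧ m ^ p = 1}
        one_mem' := ⟨M.one_mem, one_pow p⟩
        mul_mem' := fun {a b} ha hb => ⟨M.mul_mem ha.1 hb.1, by
          rw [(show Commute a b from hc a ha.1 b hb.1).mul_pow, ha.2, hb.2, one_mul]⟩
        inv_mem' := fun {a} ha => ⟨M.inv_mem ha.1, by rw [inv_pow, ha.2, inv_one]⟩ }
    have hLn : L.Normal := ⟨fun m hm g => ⟨Subgroup.Normal.conj_mem inferInstance m hm.1 g, by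
      rw [conj_pow, hm.2, mul_one, mul_inv_cancel]⟩⟩
    rcases hmin L hLn (fun m hm => hm.1) with h | h
    · exfalso
      have hxL : (x : G) ∈ L := ⟨x.2, by rw [← Subgroup.coe_pow, ← hx, pow_orderOf_eq_one]; rfl⟩
      rw [h, Subgroup.mem_bot] at hxL
      have : x = 1 := Subtype.ext hxL
      rw [this, orderOf_one] at hx
      exact hp.one_lt.ne hx
    · exact ⟨p, hp, fun m hm => by rw [← h] at hm; exact hm.2⟩
  · intro L hLn hL hLmin
    by_contra hne
    haveI := hLn
    have hdisj : L ⊓ M = ⊥ := by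
      rcases hmin (L ⊓ M) inferInstance inf_le_right with h | h
      · exact h
      · rcases hLmin M inferInstance (h ▸ inf_le_left) with h' | h'
        · exact absurd h' hM
        · exact absurd h'.symm hne
    have hle : L ≤ M := by
      intro l hl
      have : (l : Equiv.Perm α) ∈ Subgroup.centralizer ((M.map G.subtype : Subgroup (Equiv.Perm α)) : Set (Equiv.Perm α)) := by
        rintro _ ⟨m, hm, rfl⟩
        exact congrArg Subtype.val ((Subgroup.commute_of_normal_of_disjoint L M hLn inferInstance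
          (disjoint_iff.mpr hdisj) l m hl hm).eq.symm)
      rw [hC] at this
      obtain ⟨m, hm, hml⟩ := this
      have : m = l := Subtype.ext hml
      exact this ▸ hm
    rcases hmin L hLn hle with h | h
    · exact hL h
    · exact hne h

end Cfsg.Agent.S0703
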