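import Cfsg.Statements.S0704
import Cfsg.Agent.Lib.Perm.Basic

set_option autoImplicit false
open Cfsg

namespace Cfsg.Agent.S0704


/-- Two distinct transitive minimal normal subgroups `M`, `N` of a permutation group are regular, non-abelian, isomorphic, each other's centraliser in the symmetric group, and the only minimal normal subgroups. -/
theorem result {α : Type*} (G : Subgroup (Equiv.Perm α)) (M N : Subgroup G) [M.Normal] [N.Normal] (hM : M ≠ ⊥) (hN : N ≠ ⊥) (hMmin : ∀ L : Subgroup G, L.Normal → L ≤ M → L = ⊥ ∨ L = M) (hNmin : ∀ L : Subgroup G, L.Normal → L ≤ N → L = ⊥ ∨ L = N) (hMN : M ≠ N) (hMt : MulAction.IsPretransitive M α) (hNt : MulAction.IsPretransitive N α) : (∀ a : α, MulAction.stabilizer M a = ⊥) ∧ (∀ a : α, MulAction.stabilizer N a = ⊥) ∧ ¬ IsMulCommutative M ∧ Nonempty (M ≃* N) ∧ Subgroup.centralizer ((M.map G.subtype : Subgroup (Equiv.Perm α)) : Set (Equiv.Perm α)) = N.map G.subtype ∧ Subgroup.centralizer ((N.map G.subtype : Subgroup (Equiv.Perm α)) : Set (Equiv.Perm α)) = M.map G.subtype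 ∧ ∀ L : Subgroup G, L.Normal → L ≠ ⊥ → (∀ L' : Subgroup G, L'.Normal → L' ≤ L → L' = ⊥ ∨ L' = L) → L = M ∨ L = N := by
  classical
  have hdisj : M ⊓ N = ⊥ := by
    rcases hMmin (M ⊓ N) inferInstance inf_le_left with h | h
    · exact h
    · rcases hNmin M inferInstance (h ▸ inf_le_right) with h' | h'
      · exact absurd h' hM
      · exact absurd h' hMN
  have hc : ∀ m ∈ M, ∀ n ∈ N, m * n = n * m := fun m hm n hn =>
    (Subgroup.commute_of_normal_of_disjoint M N inferInstance inferInstance
      (disjoint_iff.mpr hdisj) m n hm hn).eq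
  have hc' : ∀ n ∈ N, ∀ m ∈ M, n * m = m * n := fun n hn m hm => (hc m hm n hn).symm
  have hα : Nonempty α := by
    by_contra h
    rw [not_nonempty_iff] at h
    apply hM
    rw [Subgroup.eq_bot_iff_forall]
    intro m _
    apply Subtype.ext
    ext x
    exact h.elim x
  obtain ⟨a⟩ := hα
  have hNs : ∀ a : α, MulAction.stabilizer N a = ⊥ := Lib.Perm.stabilizer_eq_bot_of_commute M N hMt hc
  have hMs : ∀ a : α, MulAction.stabilizer M a = ⊥ := Lib.Perm.stabilizer_eq_bot_of_commute N M hNt hc'
  have hC : ∀ (M N : Subgroup G), (∀ m ∈ M, ∀ n ∈ N, m * n = n * m) → MulAction.IsPretransitive M α →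
      MulAction.IsPretransitive N α →
      Subgroup.centralizer ((M.map G.subtype : Subgroup (Equiv.Perm α)) : Set (Equiv.Perm α)) = N.map G.subtype := by
    intro M N hc hMt hNt
    haveI := Lib.Perm.isPretransitive_map_subtype M hMt
    have hle : N.map G.subtype ≤ Subgroup.centralizer ((M.map G.subtype : Subgroup (Equiv.Perm α)) : Set (Equiv.Perm α)) := by
      rintro _ ⟨n, hn, rfl⟩ _ ⟨x, hx, rfl⟩
      exact congrArg Subtype.val (hc x hx n hn)
    refine le_antisymm ?_ hle
    intro c hcc
    obtain ⟨m, hm⟩ := hNt.exists_smul_eq a (c a)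
    have hm' : ((m : G) : Equiv.Perm α) a = c a := hm
    have hmem : ((m : G) : Equiv.Perm α) ∈ N.map G.subtype := Subgroup.mem_map_of_mem G.subtype m.2
    have := Lib.Perm.eq_one_of_mem_centralizer_of_fixed
      (G := M.map G.subtype) (c := ((m : G) : Equiv.Perm α)⁻¹ * c) (a := a)
      (Subgroup.mul_mem _ (Subgroup.inv_mem _ (hle hmem)) hcc) (by simp [← hm'])
    rw [inv_mul_eq_one] at this
    rw [← this]
    exact hmem
  refine ⟨hMs, hNs, ?_, ?_, hC M N hc hMt hNt, hC N M hc' hNt hMt, ?_⟩
  · intro hab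
    have hcM : ∀ m ∈ M, ∀ n ∈ M, m * n = n * m := fun m hm n hn =>
      congrArg Subtype.val (hab.is_comm.comm ⟨m, hm⟩ ⟨n, hn⟩)
    have h1 := (hC M M hcM hMt hMt).symm.trans (hC M N hc hMt hNt)
    exact hMN (Subgroup.map_injective G.subtype_injective h1)
  · have hf : ∀ m : M, ∃ n : N, n • a = m⁻¹ • a := fun m => hNt.exists_smul_eq _ _
    choose f hf using hf
    have huniq : ∀ n n' : N, n • a = n' • a → n = n' := by
      intro n n' h
      have : n'⁻¹ * n ∈ MulAction.stabilizer N a := by
        rw [MulAction.mem_stabilizer_iff, mul_smul, h, inv_smul_smul]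
      rw [hNs, Subgroup.mem_bot, inv_mul_eq_one] at this
      exact this.symm
    have hswap : ∀ (m : M) (n : N) (x : α), m • n • x = n • m • x := by
      intro m n x
      change (m : G) • (n : G) • x = (n : G) • (m : G) • x
      rw [smul_smul, smul_smul, hc m m.2 n n.2]
    let F : M →* N :=
      { toFun := f
        map_one' := huniq _ _ (by rw [hf, inv_one, one_smul, one_smul])
        map_mul' := fun x y => huniq _ _ (by
          rw [hf, mul_inv_rev, mul_smul, ← hf x, hswap, ← hf y, ← mul_smul]) }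
    refine ⟨MulEquiv.ofBijective F ⟨?_, ?_⟩⟩
    · intro x y hxy
      have h : x⁻¹ • a = y⁻¹ • a := by
        rw [← hf x, ← hf y]; exact congrArg (fun n : N => n • a) hxy
      have : y * x⁻¹ ∈ MulAction.stabilizer M a := by
        rw [MulAction.mem_stabilizer_iff, mul_smul, h, smul_inv_smul]
      rw [hMs, Subgroup.mem_bot, mul_inv_eq_one] at this
      exact this.symm
    · intro n
      obtain ⟨m, hm⟩ := hMt.exists_smul_eq a (n • a)
      exact ⟨m⁻¹, huniq _ _ (by change f m⁻¹ • a = _; rw [hf, inv_inv, hm])⟩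
  · intro L hLn hL hLmin
    by_contra hne
    rw [not_or] at hne
    haveI := hLn
    have hd : L ⊓ M = ⊥ := by
      rcases hMmin (L ⊓ M) inferInstance inf_le_right with h | h
      · exact h
      · rcases hLmin M inferInstance (h ▸ inf_le_left) with h' | h'
        · exact absurd h' hM
        · exact absurd h'.symm hne.1
    have hle : L ≤ N := by
      intro l hl
      have : (l : Equiv.Perm α) ∈ Subgroup.centralizer ((M.map G.subtype : Subgroup (Equiv.Perm α)) : Set (Equiv.Perm α)) := by
        rintro _ ⟨m, hm, rfl⟩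
        exact congrArg Subtype.val ((Subgroup.commute_of_normal_of_disjoint L M hLn inferInstance
          (disjoint_iff.mpr hd) l m hl hm).eq.symm)
      rw [hC M N hc hMt hNt] at this
      obtain ⟨m, hm, hml⟩ := this
      have : m = l := Subtype.ext hml
      exact this ▸ hm
    rcases hNmin L hLn hle with h | h
    · exact hL h
    · exact hne.2 h

end Cfsg.Agent.S0704
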