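import Cfsg.Statements.S0707
import Cfsg.Agent.Lib.Perm.Basic
import Mathlib.GroupTheory.SpecificGroups.Cyclic

set_option autoImplicit false
open Cfsg

namespace Cfsg.Agent.S0707


/-- In a primitive permutation group, distinct points have distinct stabilisers unless the group is regular of prime degree. -/
theorem result {α : Type*} (G : Subgroup (Equiv.Perm α)) [MulAction.IsPreprimitive G α] (h : ¬ (Nat.card α).Prime ∨ ∃ a : α, MulAction.stabilizer G a ≠ ⊥) {a b : α} (hab : a ≠ b) : MulAction.stabilizer G a ≠ MulAction.stabilizer G b := by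
  have h0 := h
  clear h
  intro heq
  have hblock : MulAction.IsBlock G {x : α | MulAction.stabilizer G x = MulAction.stabilizer G a} := by
    rw [MulAction.isBlock_iff_smul_eq_of_nonempty]
    intro g hne
    obtain ⟨_, ⟨x, hx, rfl⟩, hgx⟩ := hne
    simp only [Set.mem_ofPred_eq] at hx hgx
    ext y
    rw [Set.mem_smul_set_iff_inv_smul_mem]
    simp only [Set.mem_ofPred_eq]
    rw [MulAction.stabilizer_smul_eq_stabilizer_map_conj] at hgx ⊢
    rw [hx] at hgx
    constructor
    · intro hy
      have h1 := congrArg (Subgroup.map (MulEquiv.toMonoidHom (MulAut.conj g))) hy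
      rw [Subgroup.map_map, hgx] at h1
      convert h1 using 1
      convert (Subgroup.map_id _).symm
      ext z
      simp
    · intro hy
      rw [hy]
      conv_lhs => rw [← hgx, Subgroup.map_map]
      convert Subgroup.map_id _
      ext z
      simp
  rcases MulAction.IsPreprimitive.isTrivialBlock_of_isBlock hblock with h | h
  · exact hab (h rfl heq.symm)
  · have hbot : ∀ x : α, MulAction.stabilizer G x = ⊥ := by
      intro x
      rw [Subgroup.eq_bot_iff_forall]
      intro g hg
      apply Subtype.ext
      ext y
      have hy : y ∈ ({x : α | MulAction.stabilizer G x = MulAction.stabilizer G a}) := by rw [h]; trivial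
      have hxx : x ∈ ({x : α | MulAction.stabilizer G x = MulAction.stabilizer G a}) := by rw [h]; trivial
      simp only [Set.mem_ofPred_eq] at hy hxx
      rw [hxx, ← hy] at hg
      exact hg
    have hnt : Nontrivial α := ⟨⟨a, b, hab⟩⟩
    have hco := MulAction.IsPreprimitive.isCoatom_stabilizer_of_isPreprimitive G a
    rw [hbot a] at hco
    have : IsSimpleOrder (Subgroup G) := isSimpleOrder_iff_isCoatom_bot.mpr hco
    rcases h0 with hn | ⟨c, hc⟩
    · apply hn
      rw [Nat.card_congr (Equiv.ofBijective (fun g : G => g • a) ⟨?_, MulAction.surjective_smul G a⟩).symm]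
      · haveI : Nontrivial G := by
          obtain ⟨g, hg⟩ := MulAction.exists_smul_eq G a b
          exact ⟨⟨g, 1, fun e => hab (by rw [← hg, e, one_smul])⟩⟩
        have hc : ∀ g : G, g ≠ 1 → ∀ x : G, x ∈ Subgroup.zpowers g := by
          intro g hg x
          rcases eq_bot_or_eq_top (Subgroup.zpowers g) with h1 | h1
          · exact absurd (Subgroup.zpowers_eq_bot.mp h1) hg
          · rw [h1]; trivial
        obtain ⟨g, hg⟩ := exists_ne (1 : G)
        haveI : IsCyclic G := ⟨g, hc g hg⟩
        haveI : IsSimpleGroup G := ⟨fun H _ => eq_bot_or_eq_top H⟩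
        letI : CommGroup G := IsCyclic.commGroup
        exact IsSimpleGroup.prime_card
      · intro g g' hgg
        simp only at hgg
        have : g'⁻¹ * g ∈ MulAction.stabilizer G a := by
          rw [MulAction.mem_stabilizer_iff, mul_smul, hgg, inv_smul_smul]
        rw [hbot a, Subgroup.mem_bot, inv_mul_eq_one] at this
        exact this.symm
    · exact hc (hbot c)

end Cfsg.Agent.S0707
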