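import Cfsg.Statements.S0708
import Mathlib

set_option autoImplicit false
set_option linter.style.haveILetI false
set_option linter.unusedSectionVars false
open Cfsg

namespace Cfsg.Agent.S0708

section
variable {G : Type*} [Group G] {Ω : Type*} [MulAction G Ω]

/-- Four distinct points as an embedding. -/
def quad (a b c d : Ω) (hab : a ≠ b) (hac : a ≠ c) (had : a ≠ d) (hbc : b ≠ c) (hbd : b ≠ d) (hcd : c ≠ d) :
    Fin 4 ↪ Ω :=
  ⟨![a, b, c, d], by
    intro i j hij
    fin_cases i <;> fin_cases j <;> first | rfl | (exfalso; simp at hij; simp_all)⟩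

theorem agree (hsharp : ∀ x : Fin 4 ↪ Ω, MulAction.stabilizer G x = ⊥) (x : Fin 4 ↪ Ω) (g h : G)
    (he : ∀ i, g • x i = h • x i) : g = h := by
  have hm : h⁻¹ * g ∈ MulAction.stabilizer G x := by
    rw [MulAction.mem_stabilizer_iff]
    ext i
    show (h⁻¹ * g) • x i = x i
    rw [mul_smul, he, inv_smul_smul]
  rw [hsharp x, Subgroup.mem_bot, inv_mul_eq_one] at hm
  exact hm.symm

theorem sharp_four (h4 : MulAction.IsMultiplyPretransitive G Ω 4)
    (hsharp : ∀ x : Fin 4 ↪ Ω, MulAction.stabilizer G x = ⊥) (x : Fin 4 ↪ Ω) :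
    Finite Ω ∧ Nat.card Ω ≤ 11 ∧ (Even (Nat.card Ω) → Nat.card Ω ≤ 6) := by
  classical
  have hx : ∀ i j : Fin 4, i ≠ j → x i ≠ x j := fun i j h e => h (x.injective e)
  obtain ⟨g, hg⟩ := MulAction.isMultiplyPretransitive_iff.1 h4 x
    (quad (x 1) (x 0) (x 2) (x 3) (hx _ _ (by decide)) (hx _ _ (by decide)) (hx _ _ (by decide))
      (hx _ _ (by decide)) (hx _ _ (by decide)) (hx _ _ (by decide)))
  have g0 : g • x 0 = x 1 := DFunLike.congr_fun hg 0
  have g1 : g • x 1 = x 0 := DFunLike.congr_fun hg 1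
  have g2 : g • x 2 = x 2 := DFunLike.congr_fun hg 2
  have g3 : g • x 3 = x 3 := DFunLike.congr_fun hg 3
  have hsq : g * g = 1 := agree hsharp x _ _ fun i => by
    rw [mul_smul, one_smul]
    fin_cases i <;> simp [g0, g1, g2, g3]
  have hne : g ≠ 1 := fun h => hx 0 1 (by decide) (by rw [← g0, h, one_smul])
  have hgg : ∀ p : Ω, g • g • p = p := fun p => by rw [smul_smul, hsq, one_smul]
  set F : Set Ω := {p | g • p = p} with hF
  have hF3 : ∀ y : Fin 4 ↪ Ω, ¬ ∀ i, y i ∈ F := fun y hy =>
    hne (agree hsharp y _ _ fun i => by rw [one_smul]; exact hy i)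
  haveI hFfin : Finite F := by
    by_contra hinf
    rw [not_finite_iff_infinite] at hinf
    exact hF3 (((Fin.valEmbedding (n := 4)).trans (Infinite.natEmbedding F)).trans (Function.Embedding.subtype _))
      fun i => (Infinite.natEmbedding F i).2
  haveI : Fintype F := Fintype.ofFinite F
  have hFle : Fintype.card F ≤ 3 := by
    by_contra h
    obtain ⟨e⟩ : Nonempty (Fin 4 ↪ F) := Function.Embedding.nonempty_of_card_le (by simp only [Fintype.card_fin]; omega)
    exact hF3 (e.trans (Function.Embedding.subtype _)) fun i => (e i).2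
  have hF2 : 2 ≤ Fintype.card F := by
    refine le_trans (le_of_eq (Fintype.card_fin 2).symm)
      (Fintype.card_le_of_injective (![⟨x 2, g2⟩, ⟨x 3, g3⟩] : Fin 2 → F) ?_)
    intro i j h
    fin_cases i <;> fin_cases j <;> first
      | rfl
      | exact absurd (congrArg Subtype.val h) (hx _ _ (by decide))
  obtain ⟨f₁, f₂, hf⟩ := Fintype.exists_pair_of_one_lt_card (α := F) (by omega)
  set p₀ := x 0 with hp₀
  have hp : g • p₀ ≠ p₀ := by rw [g0]; exact hx 1 0 (by decide)
  set M : Set Ω := {r | g • r ≠ r ∧ r ≠ p₀ ∧ r ≠ g • p₀} with hM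
  have hq : ∀ r : M, ∃ y : Fin 4 ↪ Ω, ⇑y = ![p₀, g • p₀, (r : Ω), g • (r : Ω)] := by
    rintro ⟨r, h1, h2, h3⟩
    refine ⟨quad p₀ (g • p₀) r (g • r) (Ne.symm hp) (Ne.symm h2) ?_ (Ne.symm h3) ?_ (Ne.symm h1), rfl⟩
    · exact fun e => h3 (by rw [e, hgg])
    · exact fun e => h2 (smul_left_cancel g e.symm)
  -- the map to permutations of the fixed points is injective
  have key : ∃ ψ : M → Equiv.Perm F, Function.Injective ψ := by
    rcases isEmpty_or_nonempty M with hM0 | ⟨⟨r₀⟩⟩
    · exact ⟨isEmptyElim, fun a => isEmptyElim a⟩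
    obtain ⟨y₀, hy₀⟩ := hq r₀
    have hex : ∀ r : M, ∃ c : G, c • p₀ = p₀ ∧ c • (r₀ : Ω) = r ∧ ∀ z : Ω, c • g • z = g • c • z := by
      intro r
      obtain ⟨y, hy⟩ := hq r
      obtain ⟨c, hc⟩ := MulAction.isMultiplyPretransitive_iff.1 h4 y₀ y
      have hci : ∀ i, c • y₀ i = y i := fun i => DFunLike.congr_fun hc i
      have a0 := hci 0; have a1 := hci 1; have a2 := hci 2; have a3 := hci 3
      rw [hy₀, hy] at a0 a1 a2 a3
      simp at a0 a1 a2 a3
      have hcomm : c * g = g * c := agree hsharp y₀ _ _ fun i => by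
        rw [hy₀]
        simp only [mul_smul]
        fin_cases i <;> simp [a0, a1, a2, a3, hgg]
      exact ⟨c, a0, a2, fun z => by rw [← mul_smul, hcomm, mul_smul]⟩
    choose c hc0 hcr hcomm using hex
    have hmem : ∀ (r : M) (z : Ω), z ∈ F → c r • z ∈ F := fun r z hz => by
      show g • c r • z = c r • z
      rw [← hcomm, show g • z = z from hz]
    let ψ : M → Equiv.Perm F := fun r => Equiv.ofBijective (fun z => ⟨c r • z.1, hmem r z.1 z.2⟩)
      (Finite.injective_iff_bijective.1 fun z w h => Subtype.ext (smul_left_cancel _ (congrArg Subtype.val h :)))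
    refine ⟨ψ, fun r r' h => Subtype.ext ?_⟩
    have hf1 : c r • (f₁ : Ω) = c r' • (f₁ : Ω) := congrArg Subtype.val (DFunLike.congr_fun h f₁ :)
    have hf2 : c r • (f₂ : Ω) = c r' • (f₂ : Ω) := congrArg Subtype.val (DFunLike.congr_fun h f₂ :)
    have e1 : ∀ z : F, (z : Ω) ≠ p₀ := fun z e => hp (e ▸ z.2)
    have e2 : ∀ z : F, (z : Ω) ≠ g • p₀ := fun z e => hp (smul_left_cancel g (by rw [← e]; exact z.2))
    have hcc : c r = c r' := agree hsharp (quad (f₁ : Ω) f₂ p₀ (g • p₀) (fun e => hf (Subtype.ext e))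
        (e1 _) (e2 _) (e1 _) (e2 _) (Ne.symm hp)) _ _ fun i => by
      show c r • (![(f₁ : Ω), f₂, p₀, g • p₀] i) = c r' • (![(f₁ : Ω), f₂, p₀, g • p₀] i)
      fin_cases i <;> simp [hf1, hf2, hc0, hcomm]
    rw [← hcr r, hcc, hcr r']
  obtain ⟨ψ, hψ⟩ := key
  haveI : Finite M := Finite.of_injective ψ hψ
  haveI : Fintype M := Fintype.ofFinite M
  have hMle : Fintype.card M ≤ (Fintype.card F).factorial := by
    rw [← Fintype.card_perm]
    exact Fintype.card_le_of_injective ψ hψ
  have hcover : ∀ z : Ω, z ∈ F.toFinset ∪ M.toFinset ∪ {p₀, g • p₀} := by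
    intro z
    simp only [Finset.mem_union, Set.mem_toFinset, Finset.mem_insert, Finset.mem_singleton, hF, hM, Set.mem_setOf_eq]
    tauto
  haveI : Fintype Ω := Fintype.mk _ hcover
  refine ⟨inferInstance, ?_⟩
  rw [Nat.card_eq_fintype_card]
  have hn : Fintype.card Ω = Fintype.card F + Fintype.card M + 2 := by
    have hp2 : ({p₀, g • p₀} : Finset Ω).card = 2 := Finset.card_pair (Ne.symm hp)
    rw [← hp2, ← Set.toFinset_card, ← Set.toFinset_card, ← Finset.card_union_of_disjoint ?_,
      ← Finset.card_union_of_disjoint ?_]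
    · exact congrArg Finset.card (Finset.eq_univ_iff_forall.2 hcover).symm
    · rw [Finset.disjoint_left]
      intro z hz hz'
      simp only [Finset.mem_union, Set.mem_toFinset, hF, hM, Set.mem_setOf_eq] at hz
      simp only [Finset.mem_insert, Finset.mem_singleton] at hz'
      rcases hz with hz | ⟨-, hz1, hz2⟩
      · rcases hz' with rfl | rfl
        · exact hp hz
        · exact hp (smul_left_cancel g hz)
      · rcases hz' with rfl | rfl <;> contradiction
    · rw [Finset.disjoint_left]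
      intro z hz hz'
      simp only [Set.mem_toFinset, hF, hM, Set.mem_setOf_eq] at hz hz'
      exact hz'.1 hz
  refine ⟨?_, fun heven => ?_⟩
  · have := hMle.trans (Nat.factorial_le hFle)
    have h6 : Nat.factorial 3 = 6 := rfl
    omega
  · have hFeven : Fintype.card F = 2 := by
      haveI : Fact (Nat.Prime 2) := ⟨Nat.prime_two⟩
      let u : Equiv.Perm Ω := MulAction.toPerm g
      have hmod := (Equiv.Perm.card_compl_support_modEq (p := 2) (n := 1) (σ := u)
        (by rw [pow_one, sq]; exact Equiv.ext hgg))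
      have hcs : u.supportᶜ = F.toFinset := by
        ext z
        simp [u, hF, Equiv.Perm.mem_support]
      rw [hcs, Set.toFinset_card] at hmod
      rw [Nat.even_iff] at heven
      unfold Nat.ModEq at hmod
      omega
    rw [hFeven] at hMle hn
    have h2 : Nat.factorial 2 = 2 := rfl
    omega

end

/-- Tits' argument: a sharply 4-transitive group (no finiteness assumed) has finite degree at most 11, and at most 6 when the degree is even. -/
theorem result {G : Type*} [Group G] {Ω : Type*} [MulAction G Ω] (h4 : MulAction.IsMultiplyPretransitive G Ω 4) (hsharp : ∀ x : Fin 4 ↪ Ω, MulAction.stabilizer G x = ⊥) (hne : Nonempty (Fin 4 ↪ Ω)) : Finite Ω ∧ Nat.card Ω ≤ 11 ∧ (Even (Nat.card Ω) → Nat.card Ω ≤ 6) := by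
  obtain ⟨x⟩ := hne
  exact sharp_four h4 hsharp x


end Cfsg.Agent.S0708
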