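import Cfsg.Statements.S0709
import Mathlib

set_option autoImplicit false
open Cfsg

namespace Cfsg.Agent.S0709

section Witt

variable {α : Type*} [DecidableEq α] (t : ℕ) (q : ℕ → α) (G : Subgroup (Equiv.Perm α))
  (s : ℕ → Equiv.Perm α)

/-- The chain of groups. -/
def chain (k : ℕ) : Subgroup (Equiv.Perm α) :=
  if k ≤ 1 then G ⊓ MulAction.stabilizer (Equiv.Perm α) (q 2)
  else Subgroup.closure ((G : Set (Equiv.Perm α)) ∪ {x | ∃ i : ℕ, 2 ≤ i ∧ i + 1 ≤ k ∧ x = s i})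

/-- The points moved at level `k`. -/
def dom (k : ℕ) : Set α := {a | ∀ i, k < i → i ≤ t → a ≠ q i}

end Witt

theorem witt {α : Type*} [DecidableEq α] (t : ℕ) (ht : 2 ≤ t) (q : ℕ → α) (hq : ∀ i j : ℕ, 1 ≤ i → i ≤ t → 1 ≤ j → j ≤ t → q i = q j → i = j) (G : Subgroup (Equiv.Perm α)) (hfix : ∀ g ∈ G, ∀ i : ℕ, 3 ≤ i → i ≤ t → g (q i) = q i) (h2 : ∀ a b c d : α, (∀ i, 3 ≤ i → i ≤ t → a ≠ q i ∧ b ≠ q i ∧ c ≠ q i ∧ d ≠ q i) → a ≠ b → c ≠ d → ∃ g ∈ G, g a = c ∧ g b = d) (s : ℕ → Equiv.Perm α) (hs1 : s 1 ∈ G) (hs1q : s 1 (q 1) = q 2 ∧ s 1 (q 2) = q 1) (hsq : ∀ i : ℕ, 2 ≤ i → i + 1 ≤ t → s i (q i) = q (i + 1) ∧ s i (q (i + 1)) = q i ∧ ∀ j : ℕ, 1 ≤ j → j ≤ t → j ≠ i → j ≠ i + 1 → s i (q j) = q j) (H : Subgroup (Equiv.Perm α)) (hH : H = G ⊓ MulAction.stabilizer (Equiv.Perm α) (q 1) ⊓ MulAction.stabilizer (Equiv.Perm α) (q 2)) (hsq2 : ∀ i : ℕ, 1 ≤ i → i + 1 ≤ t → s i ^ 2 ∈ H) (hbraid : ∀ i : ℕ, 1 ≤ i → i + 2 ≤ t → (s i * s (i + 1)) ^ 3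 ∈ H) (hcomm : ∀ i j : ℕ, 1 ≤ i → i + 2 ≤ j → j + 1 ≤ t → (s i * s j) ^ 2 ∈ H ∧ (s j * s i) ^ 2 ∈ H) (hnorm : ∀ i : ℕ, 2 ≤ i → i + 1 ≤ t → ∀ g ∈ G ⊓ MulAction.stabilizer (Equiv.Perm α) (q 2), s i * g * (s i)⁻¹ ∈ G ⊓ MulAction.stabilizer (Equiv.Perm α) (q 2)) :
    (∀ x : Fin t ↪ α, ∃ g ∈ chain q G s t, ∀ i : Fin t, g (x i) = q (i + 1)) ∧
      (∀ g ∈ chain q G s t, (∀ i, 1 ≤ i → i ≤ t → g (q i) = q i) → g ∈ H) ∧
      (∀ g ∈ H, g ∈ chain q G s t ∧ ∀ i, 1 ≤ i → i ≤ t → g (q i) = q i) := by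
  set L := chain q G s
  have hHG : ∀ g ∈ H, g ∈ G ∧ g (q 1) = q 1 ∧ g (q 2) = q 2 := by
    intro g hg
    rw [hH] at hg
    exact ⟨hg.1.1, hg.1.2, hg.2⟩
  have hL1 : L 1 = G ⊓ MulAction.stabilizer (Equiv.Perm α) (q 2) := if_pos le_rfl
  have hLk : ∀ k, 2 ≤ k → L k = Subgroup.closure ((G : Set (Equiv.Perm α)) ∪
      {x | ∃ i : ℕ, 2 ≤ i ∧ i + 1 ≤ k ∧ x = s i}) := fun k hk => if_neg (by omega)
  have hGk : ∀ k, 2 ≤ k → G ≤ L k := fun k hk x hx => by
    rw [hLk k hk]; exact Subgroup.subset_closure (Or.inl hx)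
  have hL1k : ∀ k, 1 ≤ k → L 1 ≤ L k := by
    intro k hk
    rcases eq_or_lt_of_le hk with rfl | hk'
    · exact le_rfl
    · rw [hL1]; exact inf_le_left.trans (hGk k hk')
  have hHL : ∀ k, 1 ≤ k → H ≤ L k := fun k hk g hg => hL1k k hk (by
    rw [hL1]; exact ⟨(hHG g hg).1, (hHG g hg).2.2⟩)
  have hsL : ∀ k i, 1 ≤ i → i + 1 ≤ k → s i ∈ L k := by
    intro k i hi hik
    rcases eq_or_lt_of_le hi with rfl | hi'
    · exact hGk k hik hs1
    · rw [hLk k (by omega)]; exact Subgroup.subset_closure (Or.inr ⟨i, hi', hik, rfl⟩)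
  have hmono : ∀ k, 1 ≤ k → L k ≤ L (k + 1) := by
    intro k hk
    rcases eq_or_lt_of_le hk with rfl | hk'
    · exact hL1k 2 (by omega)
    · rw [hLk k hk', hLk (k + 1) (by omega)]
      exact Subgroup.closure_mono (Set.union_subset_union le_rfl
        fun x ⟨i, h1, h2, h3⟩ => ⟨i, h1, by omega, h3⟩)
  -- normalisation
  have hnormL : ∀ k, 1 ≤ k → ∀ j, k + 1 ≤ j → j + 1 ≤ t → ∀ g ∈ L k,
      s j * g * (s j)⁻¹ ∈ L k ∧ (s j)⁻¹ * g * s j ∈ L k := by
    intro k hk j hkj hj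
    have hfwd : ∀ g ∈ L k, s j * g * (s j)⁻¹ ∈ L k := by
      have hsi : ∀ i, 1 ≤ i → i + 1 ≤ k → s j * s i * (s j)⁻¹ ∈ L k := by
        intro i hi hik
        have e : s j * s i * (s j)⁻¹ = (s j * s i) ^ 2 * (s i)⁻¹ * (s j ^ 2)⁻¹ := by
          rw [pow_two, pow_two]; group
        rw [e]
        exact mul_mem (mul_mem (hHL k hk (hcomm i j hi (by omega) hj).2) (inv_mem (hsL k i hi hik)))
          (inv_mem (hHL k hk (hsq2 j (by omega) hj)))
      have hL1n : ∀ g ∈ L 1, s j * g * (s j)⁻¹ ∈ L k := by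
        intro g hg
        rw [hL1] at hg
        exact hL1k k hk (hL1.symm ▸ hnorm j (by omega) hj g hg)
      rcases eq_or_lt_of_le hk with rfl | hk'
      · exact hL1n
      intro g hg
      have hle : L k ≤ (L k).comap (MulAut.conj (s j)).toMonoidHom := by
        rw [hLk k hk', Subgroup.closure_le]
        rintro x (hx | ⟨i, hi, hik, rfl⟩) <;> rw [← hLk k hk', SetLike.mem_coe, Subgroup.mem_comap] <;>
          simp only [MulEquiv.coe_toMonoidHom, MulAut.conj_apply]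
        · by_cases hx2 : x (q 2) = q 2
          · exact hL1n x (hL1.symm ▸ ⟨hx, hx2⟩)
          · have ha : ∀ i, 3 ≤ i → i ≤ t → x (q 2) ≠ q i := by
              intro i h3 hi e
              rw [← hfix x hx i h3 hi] at e
              have := hq 2 i (by omega) ht (by omega) hi (x.injective e)
              omega
            obtain ⟨g₁, hg₁, hg₁a, hg₁b⟩ := h2 (q 1) (q 2) (x (q 2)) (q 2)
              (fun i h3 hi => ⟨fun e => by have := hq 1 i le_rfl (by omega) (by omega) hi e; omega,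
                fun e => by have := hq 2 i (by omega) ht (by omega) hi e; omega, ha i h3 hi,
                fun e => by have := hq 2 i (by omega) ht (by omega) hi e; omega⟩)
              (fun e => by have := hq 1 2 le_rfl (by omega) (by omega) ht e; omega) hx2
            set y := (s 1)⁻¹ * g₁⁻¹ * x with hy
            have hy1 : y ∈ L 1 := by
              rw [hL1]
              refine ⟨G.mul_mem (G.mul_mem (G.inv_mem hs1) (G.inv_mem hg₁)) hx, ?_⟩
              show y (q 2) = q 2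
              simp only [hy, Equiv.Perm.mul_apply]
              rw [Equiv.Perm.inv_eq_iff_eq.mpr hg₁a.symm, Equiv.Perm.inv_eq_iff_eq.mpr hs1q.2.symm]
            have e : s j * x * (s j)⁻¹ = (s j * g₁ * (s j)⁻¹) * (s j * s 1 * (s j)⁻¹) *
                (s j * y * (s j)⁻¹) := by
              rw [hy]; group
            rw [e]
            exact mul_mem (mul_mem (hL1n g₁ (hL1.symm ▸ ⟨hg₁, hg₁b⟩)) (hsi 1 le_rfl hk'))
              (hL1n y hy1)
        · exact hsi i (by omega) hik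
      simpa using hle hg
    intro g hg
    refine ⟨hfwd g hg, ?_⟩
    have e : (s j)⁻¹ * g * s j = (s j ^ 2)⁻¹ * (s j * g * (s j)⁻¹) * s j ^ 2 := by
      rw [pow_two]; group
    rw [e]
    exact mul_mem (mul_mem (inv_mem (hHL k hk (hsq2 j (by omega) hj))) (hfwd g hg))
      (hHL k hk (hsq2 j (by omega) hj))
  -- fixed points
  have hfixL : ∀ k, 1 ≤ k → ∀ g ∈ L k, ∀ i, k < i → i ≤ t → g (q i) = q i := by
    intro k hk g hg i hki hi
    rcases eq_or_lt_of_le hk with rfl | hk'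
    · rw [hL1] at hg
      rcases eq_or_lt_of_le (show 2 ≤ i by omega) with rfl | h3
      · exact hg.2
      · exact hfix g hg.1 i h3 hi
    · have hle : L k ≤ MulAction.stabilizer (Equiv.Perm α) (q i) := by
        rw [hLk k hk', Subgroup.closure_le]
        rintro x (hx | ⟨j, hj, hjk, rfl⟩)
        · exact hfix x hx i (by omega) hi
        · exact (hsq j hj (by omega)).2.2 i (by omega) hi (by omega) (by omega)
      exact hle hg
  have hdom : ∀ k, 1 ≤ k → ∀ g ∈ L k, ∀ a ∈ dom t q k, g a ∈ dom t q k := by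
    intro k hk g hg a ha i hki hi e
    rw [← hfixL k hk g hg i hki hi] at e
    exact ha i hki hi (g.injective e)
  have hqdom : ∀ k, 1 ≤ k → k ≤ t → q k ∈ dom t q k := fun k hk hkt i hki hi e => by
    have := hq k i hk hkt (by omega) hi e
    omega
  have hswap : ∀ k, 1 ≤ k → k + 1 ≤ t → s k (q k) = q (k + 1) ∧ s k (q (k + 1)) = q k := by
    intro k hk hkt
    rcases eq_or_lt_of_le hk with rfl | hk'
    · exact hs1q
    · exact ⟨(hsq k hk' hkt).1, (hsq k hk' hkt).2.1⟩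
  -- the structure of each level
  have main : ∀ k, 2 ≤ k → k ≤ t →
      (∀ a ∈ dom t q k, ∃ g ∈ L k, g a = q k) ∧
      (∀ g ∈ L k, g (q k) = q k → g ∈ L (k - 1)) ∧
      (∀ g ∈ L k, g ∈ L (k - 1) ∨ ∃ a ∈ L (k - 1), ∃ b ∈ L (k - 1), g = a * s (k - 1) * b) := by
    intro k hk
    induction k, hk using Nat.le_induction with
    | base =>
      intro _
      have hG2 : L 2 = G := by
        rw [hLk 2 le_rfl]
        refine le_antisymm ((Subgroup.closure_le _).mpr ?_) fun x hx => Subgroup.subset_closure (Or.inl hx)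
        rintro x (hx | ⟨i, hi, hi2, -⟩)
        · exact hx
        · omega
      have hne : ∀ a ∈ dom t q 2, ∀ i, 3 ≤ i → i ≤ t → a ≠ q i := fun a ha i h3 hi => ha i h3 hi
      have hq12 : q 1 ≠ q 2 := fun e => by
        have := hq 1 2 le_rfl (by omega) (by omega) ht e
        omega
      have hd1 : q 1 ∈ dom t q 2 := fun i h3 hi e => by
        have := hq 1 i le_rfl (by omega) (by omega) hi e
        omega
      have hd2 := hqdom 2 (by omega) ht
      refine ⟨fun a ha => ?_, fun g hg hgq => ?_, fun g hg => ?_⟩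
      · by_cases e : a = q 2
        · exact ⟨1, one_mem _, by simp [e]⟩
        · obtain ⟨g, hg, -, hgb⟩ := h2 (q 2) a (q 1) (q 2)
            (fun i h3 hi => ⟨hd2 i h3 hi, ha i h3 hi, hd1 i h3 hi, hd2 i h3 hi⟩) (Ne.symm e) hq12
          exact ⟨g, hG2.symm ▸ hg, hgb⟩
      · show g ∈ L 1
        rw [hL1]
        exact ⟨hG2 ▸ hg, hgq⟩
      · show g ∈ L 1 ∨ _
        rw [hG2] at hg
        by_cases hgq : g (q 2) = q 2
        · exact Or.inl (hL1.symm ▸ ⟨hg, hgq⟩)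
        · have hdg := hdom 2 (by omega) g (hG2.symm ▸ hg) (q 2) hd2
          obtain ⟨a, ha, haa, hab⟩ := h2 (q 1) (q 2) (g (q 2)) (q 2)
            (fun i h3 hi => ⟨hd1 i h3 hi, hd2 i h3 hi, hdg i h3 hi, hd2 i h3 hi⟩) hq12 hgq
          refine Or.inr ⟨a, hL1.symm ▸ ⟨ha, hab⟩, (s 1)⁻¹ * a⁻¹ * g, ?_, ?_⟩
          · show _ ∈ L 1
            rw [hL1]
            refine ⟨G.mul_mem (G.mul_mem (G.inv_mem hs1) (G.inv_mem ha)) hg, ?_⟩
            show ((s 1)⁻¹ * a⁻¹ * g) (q 2) = q 2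
            simp only [Equiv.Perm.mul_apply]
            rw [Equiv.Perm.inv_eq_iff_eq.mpr haa.symm, Equiv.Perm.inv_eq_iff_eq.mpr hs1q.2.symm]
          · show g = a * s 1 * _
            group
    | succ k hk ih =>
      intro hkt
      obtain ⟨htr, -, hdec⟩ := ih (by omega)
      obtain ⟨u, hu⟩ : ∃ u, u = s (k - 1) := ⟨_, rfl⟩
      set L' := L (k - 1)
      have hL'k : L' ≤ L k := by
        have := hmono (k - 1) (by omega)
        rwa [show k - 1 + 1 = k by omega] at this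
      have hs2 : s k ^ 2 ∈ L k := hHL k (by omega) (hsq2 k (by omega) hkt)
      let U : Set (Equiv.Perm α) := {g | g ∈ L k ∨ ∃ a ∈ L k, ∃ b ∈ L k, g = a * s k * b}
      have hsLs : ∀ g ∈ L k, s k * g * s k ∈ U := by
        intro g hg
        rcases hdec g hg with hg' | ⟨a, ha, b, hb, rfl⟩
        · left
          have e : s k * g * s k = (s k * g * (s k)⁻¹) * s k ^ 2 := by rw [pow_two]; group
          rw [e]
          exact mul_mem (hL'k (hnormL (k - 1) (by omega) k (by omega) hkt g hg').1) hs2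
        · right
          rw [← hu]
          have hb' := hL'k (hnormL (k - 1) (by omega) k (by omega) hkt b hb).2
          have ha' := hL'k (hnormL (k - 1) (by omega) k (by omega) hkt a ha).1
          have huL : u ∈ L k := hu ▸ hsL k (k - 1) (by omega) (by omega)
          have hh : (u * s k) ^ 3 ∈ L k := by
            have := hbraid (k - 1) (by omega) (by omega)
            rw [show k - 1 + 1 = k by omega, ← hu] at this
            exact hHL k (by omega) this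
          refine ⟨(s k * a * (s k)⁻¹) * u⁻¹ * (u * s k) ^ 3, mul_mem (mul_mem ha' (inv_mem huL)) hh,
            (s k ^ 2)⁻¹ * u⁻¹ * ((s k)⁻¹ * b * s k), mul_mem (mul_mem (inv_mem hs2) (inv_mem huL)) hb', ?_⟩
          rw [pow_two, pow_succ, pow_two]
          group
      have hmul : ∀ x ∈ U, ∀ y ∈ U, x * y ∈ U := by
        rintro x (hx | ⟨a, ha, b, hb, rfl⟩) y (hy | ⟨c, hc, d, hd, rfl⟩)
        · exact Or.inl (mul_mem hx hy)
        · exact Or.inr ⟨x * c, mul_mem hx hc, d, hd, by group⟩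
        · exact Or.inr ⟨a, ha, b * y, mul_mem hb hy, by group⟩
        · rcases hsLs (b * c) (mul_mem hb hc) with h | ⟨e, he, f, hf, h⟩
          · left
            rw [show a * s k * b * (c * s k * d) = a * (s k * (b * c) * s k) * d by group]
            exact mul_mem (mul_mem ha h) hd
          · refine Or.inr ⟨a * e, mul_mem ha he, f * d, mul_mem hf hd, ?_⟩
            rw [show a * s k * b * (c * s k * d) = a * (s k * (b * c) * s k) * d by group, h]
            group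
      have hinv : ∀ x ∈ U, x⁻¹ ∈ U := by
        rintro x (hx | ⟨a, ha, b, hb, rfl⟩)
        · exact Or.inl (inv_mem hx)
        · refine Or.inr ⟨b⁻¹, inv_mem hb, (s k ^ 2)⁻¹ * a⁻¹, mul_mem (inv_mem hs2) (inv_mem ha), ?_⟩
          rw [pow_two]; group
      let US : Subgroup (Equiv.Perm α) :=
        { carrier := U, one_mem' := Or.inl (one_mem _), mul_mem' := fun hx hy => hmul _ hx _ hy,
          inv_mem' := fun hx => hinv _ hx }
      have hU : ∀ g ∈ L (k + 1), g ∈ U := by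
        have hle : L (k + 1) ≤ US := by
          rw [hLk (k + 1) (by omega), Subgroup.closure_le]
          rintro x (hx | ⟨i, hi, hik, rfl⟩)
          · exact Or.inl (hGk k hk hx)
          · rcases eq_or_lt_of_le (show i ≤ k by omega) with rfl | hlt
            · exact Or.inr ⟨1, one_mem _, 1, one_mem _, by simp⟩
            · exact Or.inl (hsL k i (by omega) hlt)
        exact fun g hg => hle hg
      refine ⟨fun a ha => ?_, fun g hg hgq => ?_, fun g hg => ?_⟩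
      · by_cases e : a = q (k + 1)
        · exact ⟨1, one_mem _, by simp [e]⟩
        · obtain ⟨g, hg, hga⟩ := htr a fun i hki hi => by
            rcases eq_or_lt_of_le (show k + 1 ≤ i by omega) with rfl | h'
            · exact e
            · exact ha i h' hi
          exact ⟨s k * g, mul_mem (hsL (k + 1) k (by omega) le_rfl) (hmono k (by omega) hg),
            by rw [Equiv.Perm.mul_apply, hga, (hswap k (by omega) hkt).1]⟩
      · show g ∈ L k
        rcases hU g hg with h | ⟨a, ha, b, hb, rfl⟩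
        · exact h
        · exfalso
          rw [Equiv.Perm.mul_apply, Equiv.Perm.mul_apply,
            hfixL k (by omega) b hb (k + 1) (by omega) hkt, (hswap k (by omega) hkt).2] at hgq
          exact hdom k (by omega) a ha (q k) (hqdom k (by omega) (by omega)) (k + 1) (by omega) hkt hgq
      · exact hU g hg
  have hmulti : ∀ k, 2 ≤ k → k ≤ t → ∀ x : Fin k → α, Function.Injective x →
      (∀ i, x i ∈ dom t q k) → ∃ g ∈ L k, ∀ i : Fin k, g (x i) = q (i + 1) := by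
    intro k hk
    induction k, hk using Nat.le_induction with
    | base =>
      intro _ x hx hxd
      have hd1 : q 1 ∈ dom t q 2 := fun i h3 hi e => by
        have := hq 1 i le_rfl (by omega) (by omega) hi e
        omega
      have hd2 := hqdom 2 (by omega) ht
      obtain ⟨g, hg, hga, hgb⟩ := h2 (x 0) (x 1) (q 1) (q 2)
        (fun i h3 hi => ⟨hxd 0 i h3 hi, hxd 1 i h3 hi, hd1 i h3 hi, hd2 i h3 hi⟩)
        (fun e => absurd (hx e) (by decide)) (fun e => by
          have := hq 1 2 le_rfl (by omega) (by omega) ht e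
          omega)
      refine ⟨g, hGk 2 le_rfl hg, fun i => ?_⟩
      fin_cases i
      · exact hga
      · exact hgb
    | succ k hk ih =>
      intro hkt x hx hxd
      obtain ⟨g, hg, hga⟩ := (main (k + 1) (by omega) hkt).1 (x (Fin.last k)) (hxd _)
      have hd : ∀ i : Fin k, g (x i.castSucc) ∈ dom t q k := by
        intro i j hkj hj
        rcases eq_or_lt_of_le (show k + 1 ≤ j by omega) with rfl | h'
        · rw [← hga]
          exact fun e => (Fin.castSucc_lt_last i).ne (hx (g.injective e))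
        · exact hdom (k + 1) (by omega) g hg _ (hxd _) j h' hj
      obtain ⟨h, hh, hhi⟩ := ih (by omega) (fun i => g (x i.castSucc))
        (fun i j e => Fin.castSucc_injective _ (hx (g.injective e))) hd
      refine ⟨h * g, mul_mem (hmono k (by omega) hh) hg, fun i => ?_⟩
      rw [Equiv.Perm.mul_apply]
      rcases Fin.eq_castSucc_or_eq_last i with ⟨i, rfl⟩ | rfl
      · exact hhi i
      · rw [hga, hfixL k (by omega) h hh (k + 1) (by omega) hkt, Fin.val_last]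
  refine ⟨fun x => hmulti t ht le_rfl x x.injective fun i j hj hjt => absurd hjt (by omega), ?_, ?_⟩
  · intro g hg hgfix
    have hdown : ∀ d, d + 1 ≤ t → g ∈ L (t - d) := by
      intro d
      induction d with
      | zero => intro _; simpa using hg
      | succ d ih =>
        intro hd
        have := (main (t - d) (by omega) (by omega)).2.1 g (ih (by omega)) (hgfix _ (by omega) (by omega))
        rwa [show t - d - 1 = t - (d + 1) by omega] at this
    have h1 := hdown (t - 1) (by omega)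
    rw [show t - (t - 1) = 1 by omega, hL1] at h1
    rw [hH]
    exact ⟨⟨h1.1, hgfix 1 le_rfl (by omega)⟩, h1.2⟩
  · intro g hg
    refine ⟨hHL t (by omega) hg, fun i hi hit => ?_⟩
    obtain ⟨hgG, hg1, hg2⟩ := hHG g hg
    rcases (show i = 1 ∨ i = 2 ∨ 3 ≤ i by omega) with rfl | rfl | h3
    · exact hg1
    · exact hg2
    · exact hfix g hgG i h3 hit


/-- Witt's Lemma for constructing transitive extensions. Points `q 1, …, q t` (`t ≥ 2`) of a finite set are given; `G` fixes `q i` for `i ≥ 3` and is doubly transitive on the remaining points; `s 1 ∈ G` swaps `q 1, q 2`; for `2 ≤ i ≤ t-1`, `s i` swaps `q i, q (i+1)` and fixes the other `q j`; with `H` the stabiliser of `q 1, q 2` in `G`: `s i ^ 2 ∈ H`, `(s i * s (i+1)) ^ 3 ∈ H`, `(s i * s j) ^ 2 ∈ H` for `j ≥ i + 2`, and `s i` (`i ≥ 2`) normalises the stabiliser of `q 2` in `G`. Then `G` and the `s i` generate a `t`-transitive group whose pointwise stabiliser of the `q`'s is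 `H`. -/
theorem result {α : Type*} [Fintype α] [DecidableEq α] (t : ℕ) (ht : 2 ≤ t) (q : ℕ → α) (hq : ∀ i j : ℕ, 1 ≤ i → i ≤ t → 1 ≤ j → j ≤ t → q i = q j → i = j) (G : Subgroup (Equiv.Perm α)) (hfix : ∀ g ∈ G, ∀ i : ℕ, 3 ≤ i → i ≤ t → g (q i) = q i) (h2 : ∀ a b c d : α, (∀ i, 3 ≤ i → i ≤ t → a ≠ q i ∧ b ≠ q i ∧ c ≠ q i ∧ d ≠ q i) → a ≠ b → c ≠ d → ∃ g ∈ G, g a = c ∧ g b = d) (s : ℕ → Equiv.Perm α) (hs1 : s 1 ∈ G) (hs1q : s 1 (q 1) = q 2 ∧ s 1 (q 2) = q 1) (hsq : ∀ i : ℕ, 2 ≤ i → i + 1 ≤ t → s i (q i) = q (i + 1) ∧ s i (q (i + 1)) = q i ∧ ∀ j : ℕ, 1 ≤ j → j ≤ t → j ≠ i → j ≠ i + 1 → s i (q j) = q j) (H : Subgroup (Equiv.Perm α)) (hH : H = G ⊓ MulAction.stabilizer (Equiv.Perm α) (q 1) ⊓ MulAction.stabilizer (Equiv.Perm α) (q 2)) (hsq2 : ∀ i : ℕ, 1 ≤ i → i + 1 ≤ t → s i ^ 2 ∈ H) (hbraid : ∀ i : ℕ, 1 ≤ i → i + 2 ≤ t → (s i * s (i + 1)) ^ 3 ∈ H) (hcomm : ∀ i j : ℕ, 1 ≤ i → i + 2 ≤ j → j + 1 ≤ t → (s i * s j) ^ 2 ∈ H ∧ (s j * s i)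 ^ 2 ∈ H) (hnorm : ∀ i : ℕ, 2 ≤ i → i + 1 ≤ t → ∀ g ∈ G ⊓ MulAction.stabilizer (Equiv.Perm α) (q 2), s i * g * (s i)⁻¹ ∈ G ⊓ MulAction.stabilizer (Equiv.Perm α) (q 2)) : MulAction.IsMultiplyPretransitive ↥(Subgroup.closure ((G : Set (Equiv.Perm α)) ∪ {x | ∃ i : ℕ, 2 ≤ i ∧ i + 1 ≤ t ∧ x = s i})) α t ∧ Subgroup.closure ((G : Set (Equiv.Perm α)) ∪ {x | ∃ i : ℕ, 2 ≤ i ∧ i + 1 ≤ t ∧ x = s i}) ⊓ fixingSubgroup (Equiv.Perm α) {x | ∃ i : ℕ, 1 ≤ i ∧ i ≤ t ∧ x = q i} = H := by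
  obtain ⟨hA, hB, hC⟩ := witt t ht q hq G hfix h2 s hs1 hs1q hsq H hH hsq2 hbraid hcomm hnorm
  have hL : chain q G s t = Subgroup.closure ((G : Set (Equiv.Perm α)) ∪
      {x | ∃ i : ℕ, 2 ≤ i ∧ i + 1 ≤ t ∧ x = s i}) := if_neg (by omega)
  rw [hL] at hA hB hC
  refine ⟨⟨fun x y => ?_⟩, ?_⟩
  · obtain ⟨g, hg, hgx⟩ := hA x
    obtain ⟨h, hh, hhy⟩ := hA y
    refine ⟨⟨h⁻¹ * g, mul_mem (inv_mem hh) hg⟩, ?_⟩
    ext i
    show (h⁻¹ * g) (x i) = y i
    rw [Equiv.Perm.mul_apply, hgx, Equiv.Perm.inv_eq_iff_eq, hhy]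
  · refine le_antisymm (fun g hg => hB g hg.1 fun i hi hit => ?_) fun g hg => ⟨(hC g hg).1, ?_⟩
    · exact (mem_fixingSubgroup_iff (Equiv.Perm α)).mp hg.2 (q i) ⟨i, hi, hit, rfl⟩
    · refine (mem_fixingSubgroup_iff (Equiv.Perm α)).mpr ?_
      rintro _ ⟨i, hi, hit, rfl⟩
      exact (hC g hg).2 i hi hit

end Cfsg.Agent.S0709
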