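import Cfsg.Statements.S0710
import Mathlib

set_option autoImplicit false
open Cfsg

namespace Cfsg.Agent.S0710


/-- No transitive permutation group on 13 points has order `13 * 12 * 11 * 10 * 9 * 8`. -/
theorem result {α : Type*} [Fintype α] [DecidableEq α] (hα : Fintype.card α = 13) (G : Subgroup (Equiv.Perm α)) [MulAction.IsPretransitive G α] : Nat.card G ≠ 13 * 12 * 11 * 10 * 9 * 8 := by
  intro hG
  classical
  haveI : Fact (Nat.Prime 13) := ⟨by norm_num⟩
  obtain ⟨P⟩ : Nonempty (Sylow 13 G) := inferInstance
  have hP : Nat.card P = 13 := by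
    rw [P.card_eq_multiplicity, hG]
    have h : Nat.factorization (13 * 12 * 11 * 10 * 9 * 8) 13 = 1 := by
      rw [show (13 * 12 * 11 * 10 * 9 * 8 : ℕ) = 13 ^ 1 * 95040 by norm_num]
      rw [Nat.factorization_mul (by norm_num) (by norm_num)]
      simp [Nat.Prime.factorization_self (by norm_num : Nat.Prime 13),
        Nat.factorization_eq_zero_of_not_dvd (by norm_num : ¬ 13 ∣ 95040)]
    rw [h]; norm_num
  obtain ⟨x, hx⟩ := (isCyclic_of_prime_card (p := 13) hP).exists_generator
  have hox : orderOf ((x : G) : Equiv.Perm α) = 13 := by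
    rw [Subgroup.orderOf_coe, Subgroup.orderOf_coe, orderOf_eq_card_of_forall_mem_zpowers hx]
    exact hP
  set y : Equiv.Perm α := ((x : G) : Equiv.Perm α) with hy
  have hcyc : y.IsCycle := Equiv.Perm.isCycle_of_prime_order' (hox ▸ by norm_num) (by rw [hox, hα]; norm_num)
  have hsupp : y.support = Finset.univ := by
    apply Finset.eq_univ_of_card
    rw [← hcyc.orderOf, hox, hα]
  have hcent : (Subgroup.centralizer ({y} : Set (Equiv.Perm α))) = Subgroup.zpowers y := by
    apply le_antisymm
    · intro c hc
      rw [Subgroup.mem_centralizer_singleton_iff] at hc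
      obtain ⟨hs, h⟩ := hcyc.commute_iff.mp (hc : Commute c y)
      have : Equiv.Perm.ofSubtype (c.subtypePerm hs) = c :=
        Equiv.Perm.ofSubtype_subtypePerm hs (fun z _ => by rw [hsupp]; exact Finset.mem_univ z)
      rw [this] at h
      exact h
    · rw [Subgroup.zpowers_le, Subgroup.mem_centralizer_singleton_iff]
  -- the normalizer of the Sylow subgroup
  set N := Subgroup.normalizer ((P : Subgroup G) : Set G) with hN
  have hPN : (P : Subgroup G) ≤ N := Subgroup.le_normalizer
  let f := (P : Subgroup G).normalizerMonoidHom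
  have hker : f.ker = (P : Subgroup G).subgroupOf N := by
    rw [Subgroup.normalizerMonoidHom_ker]
    congr 1
    apply le_antisymm
    · intro c hc
      have h1 : (c : Equiv.Perm α) ∈ Subgroup.centralizer ({y} : Set (Equiv.Perm α)) := by
        rw [Subgroup.mem_centralizer_singleton_iff]
        exact (congrArg Subtype.val (hc (x : G) x.2)).symm
      rw [hcent] at h1
      obtain ⟨k, hk⟩ := h1
      have : c = ((x ^ k : P) : G) := Subtype.ext (by rw [← hk]; simp [hy])
      rw [this]
      exact (x ^ k : P).2
    · intro c hc z hz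
      obtain ⟨i, hi⟩ := hx ⟨c, hc⟩
      obtain ⟨j, hj⟩ := hx ⟨z, hz⟩
      have hi' : (x : G) ^ i = c := congrArg Subtype.val hi
      have hj' : (x : G) ^ j = z := congrArg Subtype.val hj
      rw [← hi', ← hj', ← zpow_add, ← zpow_add, add_comm]
  have hd : f.ker.index ∣ 12 := by
    rw [Subgroup.index_ker]
    have h1 : Nat.card (MulAut P) = 12 := by
      haveI : IsCyclic P := isCyclic_of_prime_card (p := 13) hP
      rw [Nat.card_congr (IsCyclic.mulAutMulEquiv P).toEquiv, hP, Nat.card_eq_fintype_card,
        ZMod.card_units]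
    rw [← h1]
    exact Subgroup.card_subgroup_dvd_card _
  have hNcard : Nat.card N = 13 * f.ker.index := by
    rw [← Subgroup.card_mul_index f.ker, hker]
    congr 1
    exact (Nat.card_congr (Subgroup.subgroupOfEquivOfLe hPN).toEquiv).trans hP
  have hidx : N.index % 13 = 1 := by
    rw [show N.index = Nat.card (Sylow 13 G) from P.card_eq_index_normalizer.symm]
    exact card_sylow_modEq_one 13 G
  have htot := Subgroup.card_mul_index N
  rw [hNcard, hG] at htot
  have hd' : N.index * f.ker.index = 95040 := by nlinarith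
  have hmem := Nat.mem_divisors.mpr ⟨hd, by norm_num⟩
  have e : (N.index * f.ker.index) % 13 = f.ker.index % 13 := by
    rw [Nat.mul_mod, hidx, one_mul, Nat.mod_mod]
  rw [hd'] at e
  have hlist : Nat.divisors 12 = {1, 2, 3, 4, 6, 12} := by decide
  rw [hlist] at hmem
  simp only [Finset.mem_insert, Finset.mem_singleton] at hmem
  omega

end Cfsg.Agent.S0710
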