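import Cfsg.Statements.S0711
import Mathlib.GroupTheory.GroupAction.Jordan
import Mathlib.GroupTheory.GroupAction.MultipleTransitivity

set_option autoImplicit false
open Cfsg

namespace Cfsg.Agent.S0711


open MulAction Equiv

variable {α : Type*} [Fintype α] [DecidableEq α]

/-- Any permutation is realized on `k` points. -/
theorem realize {G : Subgroup (Perm α)} {k : ℕ} (hkn : k ≤ Fintype.card α)
    (hG : IsMultiplyPretransitive G α k) (F : Finset α) (hF : F.card ≤ k) (τ : Perm α) :
    ∃ h ∈ G, ∀ x ∈ F, h x = τ x := by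
  haveI := hG
  haveI : IsMultiplyPretransitive G α F.card :=
    isMultiplyPretransitive_of_le (n := k) hF (by rwa [Nat.card_eq_fintype_card])
  let e : Fin F.card ↪ α := F.equivFin.symm.toEmbedding.trans (Function.Embedding.subtype _)
  obtain ⟨h, hh⟩ := exists_smul_eq G e (e.trans τ.toEmbedding)
  refine ⟨h, h.2, fun x hx => ?_⟩
  have := DFunLike.congr_fun hh (F.equivFin ⟨x, hx⟩)
  simp [e] at this
  exact this

/-- The commutator of `g` with `h` moves few points. -/
theorem support_le (g h : Perm α) (F : Finset α) (hF : ∀ x ∈ F, h x = x) :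
    (g⁻¹ * (h * g * h⁻¹)).support ⊆
      (g.support ∪ g.support.image h) \ F.filter fun x => g x ∈ F := by
  intro x hx
  rw [Perm.mem_support] at hx
  rw [Finset.mem_sdiff, Finset.mem_union, Finset.mem_filter]
  have hinv : ∀ y, h y = y → h⁻¹ y = y := fun y e => Perm.inv_eq_iff_eq.2 e.symm
  refine ⟨?_, fun h' => hx ?_⟩
  · by_contra h'
    simp only [not_or] at h'
    have h1 : g x = x := Perm.notMem_support.1 h'.1
    have h2 : g (h⁻¹ x) = h⁻¹ x := by
      by_contra h3
      exact h'.2 (Finset.mem_image.2 ⟨h⁻¹ x, Perm.mem_support.2 h3, by simp⟩)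
    apply hx
    simp only [Perm.mul_apply, h2]
    rw [Perm.inv_eq_iff_eq, h1]
    simp
  · simp only [Perm.mul_apply, hinv x (hF x h'.1)]
    rw [hF _ h'.2]
    simp

/-- A segment of a given size in the cycles of `g`. -/
theorem segment (g : Perm α) : ∀ j, j ≤ g.support.card →
    ∃ F ⊆ g.support, F.card = j ∧ (F.filter fun x => g x ∉ F).card ≤ 1 := by
  intro j
  induction j with
  | zero => exact fun _ => ⟨∅, by simp⟩
  | succ j ih =>
    intro hj
    obtain ⟨F, hFs, hFc, hFb⟩ := ih (by omega)
    obtain ⟨a, has, haF, ha⟩ : ∃ a ∈ g.support, a ∉ F ∧ ∀ x ∈ F, g x ∉ F → g x = a := by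
      by_cases he : F.filter (fun x => g x ∉ F) = ∅
      · obtain ⟨a, ha, ha'⟩ := Finset.exists_mem_notMem_of_card_lt_card (s := F) (t := g.support) (by omega)
        exact ⟨a, ha, ha', fun x hx hx' => by
          have h' : x ∈ F.filter (fun y => g y ∉ F) := Finset.mem_filter.2 ⟨hx, hx'⟩
          rw [he] at h'
          simp at h'⟩
      · obtain ⟨x, hx⟩ := Finset.nonempty_iff_ne_empty.2 he
        have hx' := Finset.mem_filter.1 hx
        exact ⟨g x, Perm.apply_mem_support.2 (hFs hx'.1), hx'.2, fun y hy hy' => by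
          rw [Finset.card_le_one.1 hFb y (Finset.mem_filter.2 ⟨hy, hy'⟩) x hx]⟩
    refine ⟨insert a F, Finset.insert_subset has hFs, by rw [Finset.card_insert_of_notMem haF, hFc], ?_⟩
    refine (Finset.card_le_card (t := {a}) fun x hx => ?_).trans (Finset.card_singleton a).le
    rw [Finset.mem_filter, Finset.mem_insert, Finset.mem_insert, not_or] at hx
    rw [Finset.mem_singleton]
    exact hx.1.resolve_right fun h => hx.2.1 (ha x h hx.2.2)

/-- The commutator shrinks the support. -/
theorem shrink {G : Subgroup (Perm α)} {k : ℕ} (hk : 3 ≤ k) (hkn : k ≤ Fintype.card α)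
    (hG : IsMultiplyPretransitive G α k) {g : Perm α} (hg : g ∈ G) (hm3 : 3 < g.support.card)
    (hm : g.support.card < 2 * k - 2) :
    ∃ c ∈ G, c ≠ 1 ∧ c.support.card < g.support.card := by
  set S := g.support with hS
  have mk : ∀ h ∈ G, ∀ u, h (g (h⁻¹ u)) ≠ g u → g⁻¹ * (h * g * h⁻¹) ≠ 1 := by
    intro h _ u hu e
    rw [inv_mul_eq_one] at e
    exact hu (DFunLike.congr_fun e u).symm
  have hex : ∀ T : Finset α, T.card < Fintype.card α → ∃ a, a ∉ T := fun T hT => by
    obtain ⟨a, -, ha⟩ := Finset.exists_mem_notMem_of_card_lt_card (s := T) (t := Finset.univ) (by simpa using hT)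
    exact ⟨a, ha⟩
  have hmem : ∀ h ∈ G, g⁻¹ * (h * g * h⁻¹) ∈ G := fun h hh =>
    mul_mem (inv_mem hg) (mul_mem (mul_mem hh hg) (inv_mem hh))
  by_cases hall : S.card = Fintype.card α
  · -- `g` moves every point
    have hmv : ∀ x, g x ≠ x := fun x => Perm.mem_support.1 (by
      rw [← hS, Finset.eq_univ_of_card S hall]; exact Finset.mem_univ x)
    have fin : ∀ h ∈ G, ∀ x, h x = x → h (g x) = g x → ∀ u, h (g (h⁻¹ u)) ≠ g u →
        ∃ c ∈ G, c ≠ 1 ∧ c.support.card < S.card := by
      intro h hh x hx hx' u hu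
      refine ⟨_, hmem h hh, mk h hh u hu, ?_⟩
      refine (Finset.card_le_card (support_le g h {x, g x} (by simp [hx, hx']))).trans_lt ?_
      rw [hall]
      refine (Finset.card_lt_univ_of_notMem (x := x) ?_)
      simp
    obtain ⟨x, hx⟩ := Finset.card_pos.1 (show 0 < S.card by omega)
    by_cases h2 : g (g x) = x
    · obtain ⟨a, ha⟩ := hex {x, g x} (Finset.card_le_two.trans_lt (by omega))
      simp only [Finset.mem_insert, Finset.mem_singleton, not_or] at ha
      have hu1 : g a ≠ x := fun e => ha.2 (g.injective (e.trans h2.symm))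
      have hu2 : g a ≠ g x := g.injective.ne ha.1
      by_cases hn : Fintype.card α = 4
      · obtain ⟨h, hh, hh'⟩ := realize hkn hG Finset.univ (by rw [Finset.card_univ]; omega) (swap x a)
        have he : h = swap x a := Equiv.ext fun y => hh' y (Finset.mem_univ y)
        refine ⟨h, hh, fun e => ?_, ?_⟩
        · exact ha.1 (by simpa [he] using (DFunLike.congr_fun e x))
        · rw [he, Perm.support_swap (Ne.symm ha.1)]
          exact Finset.card_le_two.trans_lt (by omega)
      obtain ⟨a₂, ha₂⟩ := hex {x, g x, a, g a} (Finset.card_le_four.trans_lt (by omega))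
      simp only [Finset.mem_insert, Finset.mem_singleton, not_or] at ha₂
      obtain ⟨h, hh, hh'⟩ := realize hkn hG {x, g x, a, g a} (Finset.card_le_four.trans (by omega)) (swap (g a) a₂)
      simp only [Finset.mem_insert, Finset.mem_singleton, forall_eq_or_imp, forall_eq] at hh'
      obtain ⟨e1, e2, e3, e4⟩ := hh'
      rw [swap_apply_of_ne_of_ne hu1.symm (Ne.symm ha₂.1)] at e1
      rw [swap_apply_of_ne_of_ne hu2.symm (Ne.symm ha₂.2.1)] at e2
      rw [swap_apply_of_ne_of_ne (hmv a).symm (Ne.symm ha₂.2.2.1)] at e3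
      rw [swap_apply_left] at e4
      refine fin h hh x e1 e2 a ?_
      rw [Perm.inv_eq_iff_eq.2 e3.symm, e4]
      exact ha₂.2.2.2
    · obtain ⟨a₂, ha₂⟩ := hex {x, g x, g (g x)} (Finset.card_le_three.trans_lt (by omega))
      simp only [Finset.mem_insert, Finset.mem_singleton, not_or] at ha₂
      obtain ⟨h, hh, hh'⟩ := realize hkn hG {x, g x, g (g x)} (Finset.card_le_three.trans hk) (swap (g (g x)) a₂)
      simp only [Finset.mem_insert, Finset.mem_singleton, forall_eq_or_imp, forall_eq] at hh'
      obtain ⟨e1, e2, e3⟩ := hh'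
      rw [swap_apply_of_ne_of_ne (Ne.symm h2) (Ne.symm ha₂.1)] at e1
      rw [swap_apply_of_ne_of_ne (hmv (g x)).symm (Ne.symm ha₂.2.1)] at e2
      rw [swap_apply_left] at e3
      refine fin h hh x e1 e2 (g x) ?_
      rw [Perm.inv_eq_iff_eq.2 e2.symm, e3]
      exact ha₂.2.2
  -- some point is fixed
  have hlt : S.card < Fintype.card α := lt_of_le_of_ne S.card_le_univ hall
  obtain ⟨b, hb⟩ := hex S hlt
  have hgb : g b = b := Perm.notMem_support.1 hb
  by_cases hmk : S.card ≤ k
  · obtain ⟨x₀, hx₀⟩ := Finset.card_pos.1 (show 0 < S.card by omega)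
    set a := g x₀
    have haS : a ∈ S := Perm.apply_mem_support.2 hx₀
    obtain ⟨h, hh, hh'⟩ := realize hkn hG S hmk (swap a b)
    have hfix : ∀ y ∈ S.erase a, h y = y := fun y hy => by
      rw [hh' y (Finset.mem_of_mem_erase hy), swap_apply_of_ne_of_ne (Finset.ne_of_mem_erase hy)
        (fun e => hb (by rw [← e]; exact Finset.mem_of_mem_erase hy))]
    have hab : h a = b := by rw [hh' a haS, swap_apply_left]
    refine ⟨_, hmem h hh, mk h hh b ?_, ?_⟩
    · rw [Perm.inv_eq_iff_eq.2 hab.symm, hfix (g a) (Finset.mem_erase.2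
        ⟨Perm.mem_support.1 haS, Perm.apply_mem_support.2 haS⟩), hgb]
      exact fun e => hb (e ▸ Perm.apply_mem_support.2 haS)
    · refine (Finset.card_le_card (t := {a, b, x₀}) ?_).trans_lt (Finset.card_le_three.trans_lt hm3)
      refine (support_le g h _ hfix).trans fun y hy => ?_
      rw [Finset.mem_sdiff, Finset.mem_union, Finset.mem_filter] at hy
      simp only [Finset.mem_insert, Finset.mem_singleton]
      have hyS : y ∈ S ∨ y = b := by
        rcases hy.1 with h1 | h1
        · exact Or.inl h1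
        · obtain ⟨z, hz, rfl⟩ := Finset.mem_image.1 h1
          by_cases hza : z = a
          · exact Or.inr (hza ▸ hab)
          · exact Or.inl (by rw [hfix z (Finset.mem_erase.2 ⟨hza, hz⟩)]; exact hz)
      rcases hyS with h1 | h1
      · by_cases hya : y = a
        · exact Or.inl hya
        refine Or.inr (Or.inr ?_)
        by_contra hne
        exact hy.2 ⟨Finset.mem_erase.2 ⟨hya, h1⟩, Finset.mem_erase.2
          ⟨fun e => hne (g.injective e), Perm.apply_mem_support.2 h1⟩⟩
      · exact Or.inr (Or.inl h1)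
  -- more than `k` moved points
  obtain ⟨F, hFs, hFc, hFb⟩ := segment g (k - 1) (by rw [← hS]; omega)
  have hbF : b ∉ F := fun e => hb (hFs e)
  have count : ∀ h : Perm α, (∀ y ∈ F, h y = y) → ∀ T : Finset α, T ⊆ S → T ⊆ S.image h →
      (g⁻¹ * (h * g * h⁻¹)).support.card + T.card + (F.filter fun y => g y ∈ F).card ≤ 2 * S.card := by
    intro h hfix T hT hT'
    have h1 := Finset.card_le_card (support_le g h F hfix)
    have hsub : (F.filter fun y => g y ∈ F) ⊆ g.support ∪ g.support.image h :=
      (Finset.filter_subset _ _).trans (hFs.trans Finset.subset_union_left)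
    rw [Finset.card_sdiff_of_subset hsub, ← hS] at h1
    have h2 := Finset.card_union_add_card_inter S (S.image h)
    have h3 := Finset.card_le_card (Finset.subset_inter hT hT')
    have h4 := Finset.card_le_card hsub
    rw [Finset.card_image_of_injective _ h.injective] at h2
    rw [← hS] at h4
    omega
  have hsplit := Finset.card_filter_add_card_filter_not (s := F) (fun y => g y ∈ F)
  have him : ∀ h : Perm α, (∀ y ∈ F, h y = y) → F ⊆ S.image h := fun h hfix y hy =>
    Finset.mem_image.2 ⟨y, hFs hy, hfix y hy⟩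
  by_cases he : F.filter (fun y => g y ∉ F) = ∅
  · obtain ⟨a, haS, haF⟩ := Finset.exists_mem_notMem_of_card_lt_card (s := F) (t := S) (by omega)
    obtain ⟨h, hh, hh'⟩ := realize hkn hG (insert a F) (by rw [Finset.card_insert_of_notMem haF]; omega) (swap a b)
    have hfix : ∀ y ∈ F, h y = y := fun y hy => by
      rw [hh' y (Finset.mem_insert_of_mem hy), swap_apply_of_ne_of_ne (fun e => haF (by rwa [← e]))
        (fun e => hbF (by rwa [← e]))]
    have hab : h a = b := by rw [hh' a (Finset.mem_insert_self a F), swap_apply_left]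
    refine ⟨_, hmem h hh, mk h hh b ?_, ?_⟩
    · rw [Perm.inv_eq_iff_eq.2 hab.symm, hgb, ← hab]
      exact h.injective.ne (Perm.mem_support.1 haS)
    · have := count h hfix F hFs (him h hfix)
      rw [he, Finset.card_empty] at hsplit
      omega
  · obtain ⟨x, hx⟩ := Finset.nonempty_iff_ne_empty.2 he
    have hx' := Finset.mem_filter.1 hx
    have haS : g x ∈ S := Perm.apply_mem_support.2 (hFs hx'.1)
    obtain ⟨a₂, ha₂S, ha₂⟩ := Finset.exists_mem_notMem_of_card_lt_card (s := insert (g x) F) (t := S)
      (by rw [Finset.card_insert_of_notMem hx'.2]; omega)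
    rw [Finset.mem_insert, not_or] at ha₂
    obtain ⟨h, hh, hh'⟩ := realize hkn hG (insert (g x) F) (by rw [Finset.card_insert_of_notMem hx'.2]; omega)
      (swap (g x) a₂)
    have hfix : ∀ y ∈ F, h y = y := fun y hy => by
      rw [hh' y (Finset.mem_insert_of_mem hy), swap_apply_of_ne_of_ne (fun e => hx'.2 (by rwa [← e]))
        (fun e => ha₂.2 (by rwa [← e]))]
    have hab : h (g x) = a₂ := by rw [hh' _ (Finset.mem_insert_self _ F), swap_apply_left]
    refine ⟨_, hmem h hh, mk h hh x ?_, ?_⟩
    · rw [Perm.inv_eq_iff_eq.2 (hfix x hx'.1).symm, hab]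
      exact ha₂.1
    · have := count h hfix (insert a₂ F) (Finset.insert_subset ha₂S hFs)
        (Finset.insert_subset (Finset.mem_image.2 ⟨g x, haS, hab⟩) (him h hfix))
      rw [Finset.card_insert_of_notMem ha₂.2] at this
      omega

/-- An element of support at most three, by descent. -/
theorem exists_small {G : Subgroup (Perm α)} {k : ℕ} (hk : 3 ≤ k) (hkn : k ≤ Fintype.card α)
    (hG : IsMultiplyPretransitive G α k) : ∀ (m : ℕ) (g : Perm α), g.support.card = m → g ∈ G → g ≠ 1 →
      m < 2 * k - 2 → ∃ h : Perm α, h ∈ G ∧ h ≠ 1 ∧ h.support.card ≤ 3 := by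
  intro m
  induction m using Nat.strong_induction_on with
  | _ m ih =>
    intro g hgm hg hg1 hm
    by_cases h3 : m ≤ 3
    · exact ⟨g, hg, hg1, hgm.trans_le h3⟩
    obtain ⟨c, hc, hc1, hcs⟩ := shrink hk hkn hG hg (by omega) (by omega)
    exact ih _ (by omega) c rfl hc hc1 (by omega)

/-- A `k`-transitive permutation group (`k ≥ 3`) with a non-identity element of support smaller than `2k - 2` contains a non-identity element of support at most 3, and therefore contains the alternating group. -/
theorem result {α : Type*} [Fintype α] [DecidableEq α] (G : Subgroup (Equiv.Perm α)) {k : ℕ} (hk : 3 ≤ k) (hkn : k ≤ Fintype.card α) (hG : MulAction.IsMultiplyPretransitive G α k) (g : Equiv.Perm α) (hg : g ∈ G) (hg1 : g ≠ 1) (hsupp : g.support.card < 2 * k - 2) : (∃ h : Equiv.Perm α, h ∈ G ∧ h ≠ 1 ∧ h.support.card ≤ 3) ∧ alternatingGroup α ≤ G := by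
  obtain ⟨h, hh, hh1, hh3⟩ := exists_small hk hkn hG _ g rfl hg hg1 hsupp
  refine ⟨⟨h, hh, hh1, hh3⟩, ?_⟩
  haveI := hG
  haveI h2 : IsMultiplyPretransitive G α 2 :=
    isMultiplyPretransitive_of_le (n := k) (by omega) (by rwa [Nat.card_eq_fintype_card])
  have hprim : IsPreprimitive G α := isPreprimitive_of_is_two_pretransitive h2
  have hge : 2 ≤ h.support.card := Perm.two_le_card_support_of_ne_one hh1
  rcases (show h.support.card = 2 ∨ h.support.card = 3 by omega) with e | e
  · rw [Equiv.Perm.subgroup_eq_top_of_isPreprimitive_of_isSwap_mem hprim h (Perm.card_support_eq_two.1 e) hh]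
    exact le_top
  · exact Equiv.Perm.alternatingGroup_le_of_isPreprimitive_of_isThreeCycle_mem hprim
      (card_support_eq_three_iff.1 e) hh

end Cfsg.Agent.S0711
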