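import Cfsg.Statements.S0714
import Cfsg.Agent.Lib.Perm.PermModule
import Mathlib.GroupTheory.SpecificGroups.Alternating
import Mathlib.GroupTheory.GroupAction.MultipleTransitivity

set_option autoImplicit false
open Cfsg

namespace Cfsg.Agent.S0714

theorem exists_even_map {α : Type*} [Fintype α] [DecidableEq α] (hα : 5 ≤ Fintype.card α)
    (a b c a' b' c' : α) (h₁ : a ≠ b) (h₂ : a ≠ c) (h₃ : b ≠ c) (h₄ : a' ≠ b') (h₅ : a' ≠ c')
    (h₆ : b' ≠ c') : ∃ g : alternatingGroup α, g • a = a' ∧ g • b = b' ∧ g • c = c' := by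
  haveI : MulAction.IsMultiplyPretransitive (alternatingGroup α) α 3 := by
    have h := alternatingGroup.isMultiplyPretransitive α
    haveI := h
    refine MulAction.isMultiplyPretransitive_of_le (n := Nat.card α - 2) ?_ ?_
    · rw [Nat.card_eq_fintype_card]; omega
    · rw [Nat.card_eq_fintype_card]; omega
  obtain ⟨g, hg⟩ := MulAction.exists_smul_eq (alternatingGroup α)
    (⟨![a, b, c], by intro i j; fin_cases i <;> fin_cases j <;> simp_all [Ne.symm h₁, Ne.symm h₂, Ne.symm h₃]⟩ : Fin 3 ↪ α)
    ⟨![a', b', c'], by intro i j; fin_cases i <;> fin_cases j <;> simp_all [Ne.symm h₄, Ne.symm h₅, Ne.symm h₆]⟩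
  exact ⟨g, DFunLike.congr_fun hg 0, DFunLike.congr_fun hg 1, DFunLike.congr_fun hg 2⟩


/-- Over any field, the permutation module of the alternating group of degree at least 5 has exactly four invariant subspaces: zero, the constant functions, the functions with coordinate sum zero, and everything. -/
theorem result {α : Type*} [Fintype α] [DecidableEq α] (hα : 5 ≤ Fintype.card α) {K : Type*} [Field K] (W : Subrepresentation (Cfsg.permRep K (alternatingGroup α) α)) : W.toSubmodule = ⊥ ∨ W = Cfsg.permConstants K (alternatingGroup α) α ∨ W = Cfsg.permSumZero K (alternatingGroup α) α ∨ W.toSubmodule = ⊤ := by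
  classical
  by_cases hconst : ∀ v ∈ W.toSubmodule, ∀ x y, v x = v y
  · by_cases hbot : W.toSubmodule = ⊥
    · exact Or.inl hbot
    · obtain ⟨v, hv, hv0⟩ := Submodule.exists_mem_ne_zero_of_ne_bot hbot
      refine Or.inr (Or.inl (Subrepresentation.toSubmodule_injective (le_antisymm (fun w hw => ?_) ?_)))
      · obtain ⟨x⟩ : Nonempty α := Fintype.card_pos_iff.mp (by omega)
        exact Lib.Perm.mem_permConstants.mpr ⟨w x, funext fun y => hconst w hw y x⟩
      · obtain ⟨x, hx⟩ : ∃ x, v x ≠ 0 := by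
          by_contra h
          push Not at h
          exact hv0 (funext h)
        exact Lib.Perm.const_mem_of_mem_of_ne_zero W.toSubmodule hv (funext fun y => hconst v hv y x) hx
  push Not at hconst
  obtain ⟨v, hv, a₀, b₀, hab₀⟩ := hconst
  have hmove : ∀ (g : (alternatingGroup α)) (u : α → K), u ∈ W.toSubmodule → Cfsg.permRep K (alternatingGroup α) α g u ∈ W.toSubmodule :=
    fun g u hu => W.apply_mem_toSubmodule g hu
  have hval : ∀ (g : (alternatingGroup α)) (u : α → K) (x : α), Cfsg.permRep K (alternatingGroup α) α g u (g • x) = u x := fun g u x => by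
    rw [Lib.Perm.permRep_apply, inv_smul_smul]
  -- a vector of the form `δ x - δ y` in `W`
  have hdiff : ∀ x y : α, x ≠ y → (Pi.single x 1 - Pi.single y 1 : α → K) ∈ W.toSubmodule := by
    suffices ∃ x y : α, x ≠ y ∧ (Pi.single x 1 - Pi.single y 1 : α → K) ∈ W.toSubmodule by
      obtain ⟨x, y, hxy, hm⟩ := this
      intro x' y' hxy'
      obtain ⟨z, -, hz⟩ := Finset.exists_mem_notMem_of_card_lt_card (s := ({x, y} : Finset α))
        (t := Finset.univ) (by rw [Finset.card_univ, Finset.card_pair hxy]; omega)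
      obtain ⟨z', -, hz'⟩ := Finset.exists_mem_notMem_of_card_lt_card (s := ({x', y'} : Finset α))
        (t := Finset.univ) (by rw [Finset.card_univ, Finset.card_pair hxy']; omega)
      simp only [Finset.mem_insert, Finset.mem_singleton, not_or] at hz hz'
      obtain ⟨g, hg1, hg2, -⟩ := exists_even_map hα x y z x' y' z' hxy (Ne.symm hz.1) (Ne.symm hz.2)
        hxy' (Ne.symm hz'.1) (Ne.symm hz'.2)
      have := hmove g _ hm
      rwa [map_sub, Lib.Perm.permRep_pi_single, Lib.Perm.permRep_pi_single, hg1, hg2] at this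
    -- choose `c, d` and use the double transposition `(a b)(c d)`
    obtain ⟨c, -, hc⟩ := Finset.exists_mem_notMem_of_card_lt_card (s := ({a₀, b₀} : Finset α))
      (t := Finset.univ) (by rw [Finset.card_univ]; exact Finset.card_le_two.trans_lt (by omega))
    obtain ⟨d, -, hd⟩ := Finset.exists_mem_notMem_of_card_lt_card (s := ({a₀, b₀, c} : Finset α))
      (t := Finset.univ) (by rw [Finset.card_univ]; exact Finset.card_le_three.trans_lt (by omega))
    obtain ⟨e, -, he⟩ := Finset.exists_mem_notMem_of_card_lt_card (s := ({a₀, b₀, c, d} : Finset α))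
      (t := Finset.univ) (by rw [Finset.card_univ]; exact Finset.card_le_four.trans_lt (by omega))
    simp only [Finset.mem_insert, Finset.mem_singleton, not_or] at hc hd he
    obtain ⟨hca, hcb⟩ := hc
    obtain ⟨hda, hdb, hdc⟩ := hd
    obtain ⟨hea, heb, hec, hed⟩ := he
    have hab : a₀ ≠ b₀ := fun h => hab₀ (h ▸ rfl)
    let σ : (alternatingGroup α) := ⟨Equiv.swap a₀ b₀ * Equiv.swap c d,
      Equiv.Perm.mul_mem_alternatingGroup_of_isSwap ⟨a₀, b₀, hab, rfl⟩ ⟨c, d, Ne.symm hdc, rfl⟩⟩
    set α' := v a₀ - v b₀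
    set β := v c - v d
    have hu : (α' • (Pi.single a₀ 1 - Pi.single b₀ 1) + β • (Pi.single c 1 - Pi.single d 1) : α → K) ∈
        W.toSubmodule := by
      have h1 := W.toSubmodule.sub_mem hv (hmove σ v hv)
      convert h1 using 1
      funext z
      rw [Pi.sub_apply, Lib.Perm.permRep_apply]
      change _ = v z - v ((Equiv.swap a₀ b₀ * Equiv.swap c d)⁻¹ z)
      rw [mul_inv_rev, Equiv.swap_inv, Equiv.swap_inv, Equiv.Perm.mul_apply]
      rcases eq_or_ne z a₀ with rfl | hza
      · rw [Equiv.swap_apply_left, Equiv.swap_apply_of_ne_of_ne (Ne.symm hcb) (Ne.symm hdb)]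
        simp [α', hab, Ne.symm hca, Ne.symm hda]
      rcases eq_or_ne z b₀ with rfl | hzb
      · rw [Equiv.swap_apply_right, Equiv.swap_apply_of_ne_of_ne (Ne.symm hca) (Ne.symm hda)]
        simp [α', hza, Ne.symm hcb, Ne.symm hdb]
      rw [Equiv.swap_apply_of_ne_of_ne hza hzb]
      rcases eq_or_ne z c with rfl | hzc
      · rw [Equiv.swap_apply_left]
        simp [β, hza, hzb, Ne.symm hdc]
      rcases eq_or_ne z d with rfl | hzd
      · rw [Equiv.swap_apply_right]
        simp [β, hza, hzb, hzc]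
      · rw [Equiv.swap_apply_of_ne_of_ne hzc hzd]
        simp [hza, hzb, hzc, hzd]
    have hα' : α' ≠ 0 := sub_ne_zero.mpr hab₀
    by_cases hβ : β = 0
    · refine ⟨a₀, b₀, hab, ?_⟩
      rw [hβ, zero_smul, add_zero] at hu
      simpa [smul_smul, inv_mul_cancel₀ hα'] using W.toSubmodule.smul_mem α'⁻¹ hu
    · -- apply `(a b)(c e)` and then a three-cycle
      let τ : (alternatingGroup α) := ⟨Equiv.swap a₀ b₀ * Equiv.swap c e,
        Equiv.Perm.mul_mem_alternatingGroup_of_isSwap ⟨a₀, b₀, hab, rfl⟩ ⟨c, e, Ne.symm hec, rfl⟩⟩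
      have hτ : τ • a₀ = b₀ ∧ τ • b₀ = a₀ ∧ τ • c = e ∧ τ • d = d := by
        refine ⟨?_, ?_, ?_, ?_⟩
        · change (Equiv.swap a₀ b₀ * Equiv.swap c e) a₀ = b₀
          rw [Equiv.Perm.mul_apply, Equiv.swap_apply_of_ne_of_ne (Ne.symm hca) (Ne.symm hea),
            Equiv.swap_apply_left]
        · change (Equiv.swap a₀ b₀ * Equiv.swap c e) b₀ = a₀
          rw [Equiv.Perm.mul_apply, Equiv.swap_apply_of_ne_of_ne (Ne.symm hcb) (Ne.symm heb),
            Equiv.swap_apply_right]
        · change (Equiv.swap a₀ b₀ * Equiv.swap c e) c = e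
          rw [Equiv.Perm.mul_apply, Equiv.swap_apply_left, Equiv.swap_apply_of_ne_of_ne hea heb]
        · change (Equiv.swap a₀ b₀ * Equiv.swap c e) d = d
          rw [Equiv.Perm.mul_apply, Equiv.swap_apply_of_ne_of_ne hdc (Ne.symm hed),
            Equiv.swap_apply_of_ne_of_ne hda hdb]
      have hw : β • (Pi.single c 1 + Pi.single e 1 - (2 : K) • Pi.single d 1 : α → K) ∈ W.toSubmodule := by
        have h1 := W.toSubmodule.add_mem hu (hmove τ _ hu)
        convert h1 using 1
        simp only [map_add, map_smul, map_sub, Lib.Perm.permRep_pi_single, hτ]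
        funext z
        simp
        ring
      obtain ⟨ρ, hρ1, hρ2, hρ3⟩ := exists_even_map hα c e d a₀ e d (Ne.symm hec) (Ne.symm hdc)
        hed (Ne.symm hea) (Ne.symm hda) hed
      refine ⟨c, a₀, hca, ?_⟩
      have h2 := W.toSubmodule.smul_mem β⁻¹ (W.toSubmodule.sub_mem hw (hmove ρ _ hw))
      simp only [map_smul, map_sub, map_add, Lib.Perm.permRep_pi_single, hρ1, hρ2, hρ3,
        ← smul_sub, smul_smul, inv_mul_cancel₀ hβ, one_smul] at h2
      convert h2 using 1
      abel
  have hS : (Cfsg.permSumZero K (alternatingGroup α) α).toSubmodule ≤ W.toSubmodule := by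
    intro w hw
    obtain ⟨z⟩ : Nonempty α := Fintype.card_pos_iff.mp (by omega)
    have hw' : w = ∑ x, w x • (Pi.single x 1 - Pi.single z 1 : α → K) := by
      funext y
      simp [smul_sub, Finset.sum_sub_distrib, ← Finset.sum_mul, Lib.Perm.mem_permSumZero.mp hw, Pi.single_apply]
    rw [hw']
    refine Submodule.sum_mem _ fun x _ => Submodule.smul_mem _ _ ?_
    by_cases hx : x = z
    · subst hx; simp
    · exact hdiff x z hx
  by_cases hle : W.toSubmodule ≤ (Cfsg.permSumZero K (alternatingGroup α) α).toSubmodule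
  · exact Or.inr (Or.inr (Or.inl (Subrepresentation.toSubmodule_injective (le_antisymm hle hS))))
  · obtain ⟨u, huW, huS⟩ := SetLike.not_le_iff_exists.mp hle
    rw [Lib.Perm.mem_permSumZero] at huS
    refine Or.inr (Or.inr (Or.inr (eq_top_iff.mpr fun w _ => ?_)))
    have h1 : w - ((∑ x, w x) / ∑ x, u x) • u ∈ W.toSubmodule := hS (by
      rw [Lib.Perm.mem_permSumZero]
      simp [Finset.sum_sub_distrib, ← Finset.mul_sum, div_mul_cancel₀ _ huS])
    simpa using W.toSubmodule.add_mem h1 (W.toSubmodule.smul_mem ((∑ x, w x) / ∑ x, u x) huW)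

end Cfsg.Agent.S0714
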