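import Mathlib
import Cfsg.Statements.S0716
import Cfsg.Agent.Lib.Perm.PermCharacter

set_option autoImplicit false
open Cfsg

namespace Cfsg.Agent.S0716

open Cfsg.Agent.Lib.Perm
open Cfsg.Agent.Lib.Characters

/-- (a) If all non-principal irreducible constituents of the permutation character of a transitive group have the same degree `f`, the character is multiplicity-free and all non-trivial subdegrees equal `f`. (b) A transitive group of rank at most 5 has multiplicity-free permutation character. -/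
theorem result {G : Type*} [Group G] [Fintype G] {Ω : Type*} [Fintype Ω] [MulAction G Ω] [MulAction.IsPretransitive G Ω] (a : Ω) : ((f : ℕ) → (∀ χ : G → ℂ, Cfsg.IsIrrCharacter G χ → χ ≠ (fun _ => 1) → Cfsg.classInner (fun g : G => (Nat.card (MulAction.fixedBy Ω g) : ℂ)) χ ≠ 0 → χ 1 = f) → (∀ χ : G → ℂ, Cfsg.IsIrrCharacter G χ → Cfsg.classInner (fun g : G => (Nat.card (MulAction.fixedBy Ω g) : ℂ)) χ = 0 ∨ Cfsg.classInner (fun g : G => (Nat.card (MulAction.fixedBy Ω g) : ℂ)) χ = 1) ∧ ∀ b : Ω, b ≠ a → Nat.card (MulAction.orbit (MulAction.stabilizer G a) b) = f) ∧ (Nat.card (MulAction.orbitRel.Quotient (MulAction.stabilizer G a) Ω) ≤ 5 → ∀ χ : G → ℂ, Cfsg.IsIrrCharacter G χ → Cfsg.classInner (fun g : G => (Nat.card (MulAction.fixedBy Ω g) : ℂ)) χ = 0 ∨ Cfsg.classInner (fun g : G => (Nat.card (MulAction.fixedBy Ω g) : ℂ)) χ = 1) := by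
  classical
  haveI : Nonempty Ω := ⟨a⟩
  have key : ∀ f : ℕ, (∀ χ : Cfsg.IrrCharacter G, χ ≠ trivIrr G → PermCharacter.mult (Ω := Ω) χ ≠ 0 →
      (χ : G → ℂ) 1 = (f : ℂ)) → (∀ χ : G → ℂ, Cfsg.IsIrrCharacter G χ →
        Cfsg.classInner (fun g : G => (Nat.card (MulAction.fixedBy Ω g) : ℂ)) χ = 0 ∨
        Cfsg.classInner (fun g : G => (Nat.card (MulAction.fixedBy Ω g) : ℂ)) χ = 1) ∧
      ∀ b : Ω, b ≠ a → Nat.card (MulAction.orbit (MulAction.stabilizer G a) b) = f := by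
    intro f hf
    obtain ⟨h1, h2⟩ := PermCharacter.equal_degrees a f hf
    refine ⟨fun χ hχ => ?_, h2⟩
    have h := h1 ⟨χ, hχ⟩
    rw [PermCharacter.classInner_mult (Ω := Ω) ⟨χ, hχ⟩]
    rcases Nat.le_one_iff_eq_zero_or_eq_one.mp h with e | e <;> simp [e]
  refine ⟨fun f hf => key f fun χ hχ hm => hf χ χ.2 (fun e => hχ (Subtype.ext e)) ?_, fun h5 χ hχ => ?_⟩
  · rw [PermCharacter.classInner_mult, Ne, Nat.cast_eq_zero]
    exact hm
  haveI := Fintype.ofFinite (Cfsg.IrrCharacter G)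
  by_contra hne
  rw [PermCharacter.classInner_mult (Ω := Ω) ⟨χ, hχ⟩] at hne
  set χ₀ : Cfsg.IrrCharacter G := ⟨χ, hχ⟩ with hχ₀
  simp only [Nat.cast_eq_zero, Nat.cast_eq_one] at hne
  have htriv : PermCharacter.mult (Ω := Ω) (trivIrr G) = 1 := PermCharacter.mult_triv
  have hne0 : χ₀ ≠ trivIrr G := fun e => hne (Or.inr (by rw [e, htriv]))
  have hsum := PermCharacter.sum_mult_sq (G := G) (Ω := Ω)
  rw [PermCharacter.card_orbits_prod a] at hsum
  have h2 : 2 ≤ PermCharacter.mult (Ω := Ω) χ₀ := by omega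
  have hothers : ∀ ψ : Cfsg.IrrCharacter G, ψ ≠ trivIrr G → PermCharacter.mult (Ω := Ω) ψ ≠ 0 → ψ = χ₀ := by
    intro ψ hψ hψ0
    by_contra hψχ
    have hsub := Finset.sum_le_sum_of_subset (f := fun η => PermCharacter.mult (Ω := Ω) η ^ 2)
      (Finset.subset_univ ({trivIrr G, χ₀, ψ} : Finset (Cfsg.IrrCharacter G)))
    rw [Finset.sum_insert (by simp [Ne.symm hne0, Ne.symm hψ]), Finset.sum_pair (Ne.symm hψχ), htriv,
      hsum] at hsub
    have h3 : 2 ^ 2 ≤ PermCharacter.mult (Ω := Ω) χ₀ ^ 2 := Nat.pow_le_pow_left h2 2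
    have h4 : 1 ^ 2 ≤ PermCharacter.mult (Ω := Ω) ψ ^ 2 :=
      Nat.pow_le_pow_left (Nat.one_le_iff_ne_zero.mpr hψ0) 2
    omega
  obtain ⟨d, -, hd⟩ := IsIrrCharacter.exists_apply_one hχ
  have h := (key d fun ψ hψ hψ0 => by rw [hothers ψ hψ hψ0]; exact hd).1 χ hχ
  rw [PermCharacter.classInner_mult (Ω := Ω) χ₀] at h
  simp only [Nat.cast_eq_zero, Nat.cast_eq_one] at h
  exact hne h

end Cfsg.Agent.S0716
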