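import Mathlib
import Cfsg.Statements.S0717
import Cfsg.Agent.Lib.Perm.PermCharacter

set_option autoImplicit false
open Cfsg

namespace Cfsg.Agent.S0717

open Cfsg.Agent.Lib.Perm
open Cfsg.Agent.Lib.Characters

/-- All suborbits of a transitive group are self-paired (every pair of points is interchanged by some group element) if and only if the permutation character is multiplicity-free and each of its irreducible constituents is real-valued. -/
theorem result {G : Type*} [Group G] [Fintype G] {Ω : Type*} [Fintype Ω] [MulAction G Ω] [MulAction.IsPretransitive G Ω] : (∀ a b : Ω, ∃ g : G, g • a = b ∧ g • b = a) ↔ ∀ χ : G → ℂ, Cfsg.IsIrrCharacter G χ → Cfsg.classInner (fun g : G => (Nat.card (MulAction.fixedBy Ω g) : ℂ)) χ ≠ 0 → Cfsg.classInner (fun g : G => (Nat.card (MulAction.fixedBy Ω g) : ℂ)) χ = 1 ∧ ∀ g : G, (starRingEnd ℂ) (χ g) = χ g := by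
  constructor
  · intro hsp χ hχ hne
    rw [PermCharacter.classInner_mult (Ω := Ω) ⟨χ, hχ⟩] at hne ⊢
    obtain ⟨h1, h2⟩ := PermCharacter.real_of_self_paired hsp ⟨χ, hχ⟩ (fun e => hne (by rw [e]; simp))
    exact ⟨by rw [h1, Nat.cast_one], h2⟩
  · intro h a b
    refine PermCharacter.symm_of_mult_le_one (fun χ => ?_) (fun χ hm g => ?_) a b
    · by_contra hlt
      have h0 : Cfsg.classInner (fun g : G => (Nat.card (MulAction.fixedBy Ω g) : ℂ)) (χ : G → ℂ) ≠ 0 := by
        rw [PermCharacter.classInner_mult, Ne, Nat.cast_eq_zero]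
        omega
      have h1 := (h χ χ.2 h0).1
      rw [PermCharacter.classInner_mult, Nat.cast_eq_one] at h1
      omega
    · refine (h χ χ.2 ?_).2 g
      rw [PermCharacter.classInner_mult, Ne, Nat.cast_eq_zero]
      exact hm

end Cfsg.Agent.S0717
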