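import Mathlib
import Cfsg.Statements.S0718
import Cfsg.Agent.Lib.Perm.PermCharacter

set_option autoImplicit false
open Cfsg

namespace Cfsg.Agent.S0718

open Cfsg.Agent.Lib.Perm
open Cfsg.Agent.Lib.Characters

/-- Multiplicity-freeness of the permutation character is equivalent to commutativity of the centraliser ring, i.e. of the algebra of `G`-equivariant endomorphisms of the complex permutation module. -/
theorem result {G : Type*} [Group G] [Fintype G] {Ω : Type*} [Fintype Ω] [MulAction G Ω] : (∀ χ : G → ℂ, Cfsg.IsIrrCharacter G χ → Cfsg.classInner (fun g : G => (Nat.card (MulAction.fixedBy Ω g) : ℂ)) χ = 0 ∨ Cfsg.classInner (fun g : G => (Nat.card (MulAction.fixedBy Ω g) : ℂ)) χ = 1) ↔ ∀ S T : (Ω → ℂ) →ₗ[ℂ] (Ω → ℂ), S ∈ ((Cfsg.permRep ℂ G Ω).linHom (Cfsg.permRep ℂ G Ω)).invariants → T ∈ ((Cfsg.permRep ℂ G Ω).linHom (Cfsg.permRep ℂ G Ω)).invariants → S ∘ₗ T = T ∘ₗ S := by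
  constructor
  · intro h S T hS hT
    refine PermCharacter.commute_of_mult_le_one (fun χ => ?_) hS hT
    have h1 := h χ χ.2
    rw [PermCharacter.classInner_mult, Nat.cast_eq_zero, Nat.cast_eq_one] at h1
    omega
  · intro h χ hχ
    have h1 := PermCharacter.mult_le_one_of_commute (fun S T hS hT => h S T hS hT) ⟨χ, hχ⟩
    rw [PermCharacter.classInner_mult (Ω := Ω) ⟨χ, hχ⟩, Nat.cast_eq_zero, Nat.cast_eq_one]
    omega

end Cfsg.Agent.S0718
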