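import Cfsg.Statements.S0723
import Mathlib
import Cfsg.Agent.Lib.Recognition.MinimalNormalPower

set_option autoImplicit false
open Cfsg

namespace Cfsg.Agent.S0723

section Power

variable {ι : Type*} [Fintype ι] [DecidableEq ι] {T : Type*} [Group T]

theorem single_mem_of_normal (hT : IsSimpleGroup T) (hna : ¬ IsMulCommutative T)
    (M : Subgroup (ι → T)) (hM : M.Normal) {x : ι → T} (hx : x ∈ M) {j : ι} (hxj : x j ≠ 1) (t : T) :
    Pi.mulSingle j t ∈ M := by
  set P : Subgroup T := M.comap (MonoidHom.mulSingle (fun _ : ι => T) j) with hP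
  haveI : P.Normal := hM.comap _
  suffices h : P = ⊤ by
    have : t ∈ P := h ▸ Subgroup.mem_top t
    simpa [hP] using this
  refine (IsSimpleGroup.eq_bot_or_eq_top_of_normal P inferInstance).resolve_left fun hbot => ?_
  have hcz : ∀ u : T, x j * u * (x j)⁻¹ * u⁻¹ ∈ P := by
    intro u
    rw [hP, Subgroup.mem_comap]
    have h1 : x * ((Pi.mulSingle j u : ι → T) * x⁻¹ * (Pi.mulSingle j u)⁻¹) ∈ M :=
      mul_mem hx (hM.conj_mem _ (inv_mem hx) _)
    convert h1 using 1
    funext i
    by_cases hi : i = j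
    · subst hi; simp [mul_assoc]
    · simp [Pi.mulSingle_eq_of_ne hi]
  apply hna
  have hcen : x j ∈ Subgroup.center T := by
    rw [Subgroup.mem_center_iff]
    intro u
    have h := hcz u
    rw [hbot, Subgroup.mem_bot, mul_inv_eq_one, mul_inv_eq_iff_eq_mul] at h
    exact h.symm
  rcases IsSimpleGroup.eq_bot_or_eq_top_of_normal (Subgroup.center T) inferInstance with h | h
  · exact absurd (Subgroup.mem_bot.mp (h ▸ hcen)) hxj
  · exact ⟨⟨fun a b => (Subgroup.mem_center_iff.mp (h ▸ Subgroup.mem_top b) a)⟩⟩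

theorem eq_of_singles {M : Type*} [Monoid M] {f g : (ι → T) →* M}
    (h : ∀ i t, f (Pi.mulSingle i t) = g (Pi.mulSingle i t)) : f = g := by
  refine MonoidHom.ext fun x => ?_
  have key : ∀ s : Finset ι, ∀ y : ι → T, (∀ i, i ∉ s → y i = 1) → f y = g y := by
    intro s
    induction s using Finset.induction with
    | empty => intro y hy; rw [show y = 1 from funext fun i => hy i (Finset.notMem_empty i), map_one, map_one]
    | @insert a s ha ih =>
      intro y hy
      have e : y = Pi.mulSingle a (y a) * Function.update y a 1 := by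
        funext i
        by_cases hi : i = a
        · subst hi; simp
        · simp [hi]
      rw [e, map_mul, map_mul, h, ih (Function.update y a 1) fun i hi => by
        by_cases hia : i = a
        · subst hia; simp
        · rw [Function.update_of_ne hia]; exact hy i (by simp [hi, hia])]
  exact key Finset.univ x fun i hi => absurd (Finset.mem_univ i) hi

/-- An automorphism of a power of a non-abelian simple group permutes the factors. -/
theorem aut_permutes [Finite T] (hT : IsSimpleGroup T) (hna : ¬ IsMulCommutative T)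
    (φ : (ι → T) ≃* (ι → T)) :
    ∃ (σ : ι → ι) (θ : ι → (T →* T)), Function.Bijective σ ∧ (∀ i, Function.Bijective (θ i)) ∧
      ∀ x i, φ x (σ i) = θ i (x i) := by
  have key : ∀ i, ∃ j, ∀ t k, k ≠ j → φ (Pi.mulSingle i t) k = 1 := by
    intro i
    by_contra hcon
    push Not at hcon
    obtain ⟨t₀, ht₀⟩ : ∃ t : T, t ≠ 1 := exists_ne 1
    set M : Subgroup (ι → T) := ((MonoidHom.mulSingle (fun _ : ι => T) i).range).map φ.toMonoidHom
    have hM : M.Normal := Subgroup.Normal.map (by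
      constructor
      rintro _ ⟨t, rfl⟩ y
      refine ⟨y i * t * (y i)⁻¹, ?_⟩
      funext k
      by_cases hk : k = i
      · subst hk; simp
      · simp [Pi.mulSingle_eq_of_ne hk]) _ φ.surjective
    obtain ⟨j, hj⟩ : ∃ j, φ (Pi.mulSingle i t₀) j ≠ 1 := by
      by_contra h
      push Not at h
      exact ht₀ (Pi.mulSingle_eq_one_iff.mp (φ.injective ((funext h).trans (map_one φ).symm)))
    obtain ⟨t₁, k, hk, hk1⟩ := hcon j
    have h0 : ∀ t, φ (Pi.mulSingle i t) ∈ M := fun t => ⟨_, ⟨t, rfl⟩, rfl⟩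
    -- the factor `j` and the factor `k` both lie in the image of the factor `i`
    obtain ⟨_, ⟨u, rfl⟩, hu⟩ := single_mem_of_normal hT hna M hM (h0 t₀) hj t₀
    obtain ⟨_, ⟨v, rfl⟩, hv⟩ := single_mem_of_normal hT hna M hM (h0 t₁) hk1 t₀
    -- so the factor `j` commutes with its conjugates in the simple group, hence is normal in it
    set P : Subgroup T := M.comap (MonoidHom.mulSingle (fun _ : ι => T) j)
    set Q : Subgroup T := Subgroup.comap (MonoidHom.mulSingle (fun _ : ι => T) i)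
      ((MonoidHom.mulSingle (fun _ : ι => T) j).range.map φ.symm.toMonoidHom)
    haveI hQ : Q.Normal := Subgroup.Normal.comap (Subgroup.Normal.map (by
      constructor
      rintro _ ⟨t, rfl⟩ y
      refine ⟨y j * t * (y j)⁻¹, ?_⟩
      funext l
      by_cases hl : l = j
      · subst hl; simp
      · simp [Pi.mulSingle_eq_of_ne hl]) _ φ.symm.surjective) _
    rcases IsSimpleGroup.eq_bot_or_eq_top_of_normal Q inferInstance with hQb | hQt
    · have huQ : u ∈ Q := ⟨Pi.mulSingle j t₀, ⟨t₀, rfl⟩, by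
        show φ.symm (Pi.mulSingle j t₀) = Pi.mulSingle i u
        rw [MulEquiv.symm_apply_eq]
        exact hu.symm⟩
      rw [hQb, Subgroup.mem_bot] at huQ
      apply ht₀
      rw [huQ] at hu
      simp only [MonoidHom.mulSingle_apply, Pi.mulSingle_one] at hu
      exact Pi.mulSingle_eq_one_iff.mp (hu.symm.trans (map_one _))
    · obtain ⟨_, ⟨w, rfl⟩, hw⟩ : v ∈ Q := hQt ▸ Subgroup.mem_top v
      have hw' : φ.symm (Pi.mulSingle j w) = Pi.mulSingle i v := hw
      rw [MulEquiv.symm_apply_eq] at hw'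
      have hv' : φ (Pi.mulSingle i v) = Pi.mulSingle k t₀ := hv
      rw [← hw'] at hv'
      have := congrFun hv' k
      rw [Pi.mulSingle_eq_of_ne hk, Pi.mulSingle_eq_same] at this
      exact ht₀ this.symm
  choose σ hσ using key
  let θ : ι → (T →* T) := fun i =>
    (Pi.evalMonoidHom (fun _ : ι => T) (σ i)).comp (φ.toMonoidHom.comp (MonoidHom.mulSingle (fun _ : ι => T) i))
  have hθinj : ∀ i, Function.Injective (θ i) := by
    intro i
    rw [injective_iff_map_eq_one]
    intro t ht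
    have h1 : φ (Pi.mulSingle i t) = 1 := funext fun k => by
      by_cases hk : k = σ i
      · subst hk; exact ht
      · exact hσ i t k hk
    exact Pi.mulSingle_eq_one_iff.mp (φ.injective (h1.trans (map_one φ).symm))
  have hθ : ∀ i, Function.Bijective (θ i) := fun i => Finite.injective_iff_bijective.mp (hθinj i)
  have hσinj : Function.Injective σ := by
    intro i i' hii
    by_contra hne
    obtain ⟨t₀, ht₀⟩ : ∃ t : T, t ≠ 1 := exists_ne 1
    obtain ⟨t', ht'⟩ := (hθ i').2 (θ i t₀)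
    have h1 : φ (Pi.mulSingle i t₀) = φ (Pi.mulSingle i' t') := funext fun k => by
      by_cases hk : k = σ i
      · subst hk
        show θ i t₀ = _
        rw [← ht', hii]
        rfl
      · rw [hσ i t₀ k hk, hσ i' t' k (hii ▸ hk)]
    have h2 := congrFun (φ.injective h1) i
    rw [Pi.mulSingle_eq_same, Pi.mulSingle_eq_of_ne hne] at h2
    exact ht₀ h2
  refine ⟨σ, θ, Finite.injective_iff_bijective.mp hσinj, hθ, fun x i => ?_⟩
  have := eq_of_singles (f := (Pi.evalMonoidHom (fun _ : ι => T) (σ i)).comp φ.toMonoidHom)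
    (g := (θ i).comp (Pi.evalMonoidHom (fun _ : ι => T) i)) fun k t => by
      show φ (Pi.mulSingle k t) (σ i) = θ i ((Pi.mulSingle k t : ι → T) i)
      by_cases hk : k = i
      · subst hk; rw [Pi.mulSingle_eq_same]; rfl
      · rw [Pi.mulSingle_eq_of_ne (Ne.symm hk), map_one,
          hσ k t _ fun e => hk (hσinj e).symm]
  exact DFunLike.congr_fun this x

/-- `j` is determined by `i` on `L`. -/
def Det (L : Subgroup (ι → T)) (i j : ι) : Prop := ∀ x ∈ L, x i = 1 → x j = 1

theorem det_hom [Finite T] (L : Subgroup (ι → T)) (hfull : ∀ i t, ∃ x ∈ L, x i = t) {i j : ι}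
    (h : Det L i j) : Det L j i ∧ ∃ θ : T ≃* T, ∀ x ∈ L, θ (x i) = x j := by
  have huniq : ∀ x ∈ L, ∀ y ∈ L, x i = y i → x j = y j := by
    intro x hx y hy e
    have := h (x⁻¹ * y) (mul_mem (inv_mem hx) hy) (by simp [e])
    simpa [inv_mul_eq_one] using this
  choose s hs hsi using hfull i
  let f : T →* T := MonoidHom.mk' (fun t => s t j) fun a b => by
    rw [huniq (s (a * b)) (hs _) (s a * s b) (mul_mem (hs a) (hs b)) (by simp [hsi])]
    rfl
  have hf : ∀ x ∈ L, f (x i) = x j := fun x hx => huniq _ (hs _) x hx (hsi _)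
  have hsurj : Function.Surjective f := fun t => by
    obtain ⟨x, hx, rfl⟩ := hfull j t
    exact ⟨x i, hf x hx⟩
  have hbij : Function.Bijective f := ⟨Finite.injective_iff_surjective.mpr hsurj, hsurj⟩
  refine ⟨fun x hx hxj => hbij.1 (by rw [hf x hx, hxj, map_one]), MulEquiv.ofBijective f hbij, hf⟩

theorem exists_interp (hT : IsSimpleGroup T) (hna : ¬ IsMulCommutative T) (L : Subgroup (ι → T))
    (hfull : ∀ i t, ∃ x ∈ L, x i = t) (R : Finset ι) (r : ι) (hr : r ∉ R)
    (hnd : ∀ s ∈ R, ¬ Det L s r) : ∀ t, ∃ x ∈ L, x r = t ∧ ∀ s ∈ R, x s = 1 := by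
  induction R using Finset.induction with
  | empty =>
    intro t
    obtain ⟨x, hx, hxr⟩ := hfull r t
    exact ⟨x, hx, hxr, by simp⟩
  | @insert a R ha ih =>
    simp only [Finset.mem_insert, not_or] at hr
    have ih' := ih hr.2 fun s hs => hnd s (Finset.mem_insert_of_mem hs)
    have hnd' := hnd a (Finset.mem_insert_self a R)
    rw [Det] at hnd'
    push Not at hnd'
    obtain ⟨x₀, hx₀, hx₀a, hx₀r⟩ := hnd'
    let P : Subgroup T :=
      { carrier := {t | ∃ x ∈ L, x r = t ∧ ∀ s ∈ insert a R, x s = 1}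
        one_mem' := ⟨1, one_mem _, rfl, fun _ _ => rfl⟩
        mul_mem' := by
          rintro _ _ ⟨x, hx, rfl, hx'⟩ ⟨y, hy, rfl, hy'⟩
          exact ⟨x * y, mul_mem hx hy, rfl, fun s hs => by simp [hx' s hs, hy' s hs]⟩
        inv_mem' := by
          rintro _ ⟨x, hx, rfl, hx'⟩
          exact ⟨x⁻¹, inv_mem hx, rfl, fun s hs => by simp [hx' s hs]⟩ }
    haveI : P.Normal := ⟨by
      rintro _ ⟨x, hx, rfl, hx'⟩ t
      obtain ⟨y, hy, rfl⟩ := hfull r t
      exact ⟨y * x * y⁻¹, mul_mem (mul_mem hy hx) (inv_mem hy), rfl, fun s hs => by simp [hx' s hs]⟩⟩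
    rcases IsSimpleGroup.eq_bot_or_eq_top_of_normal P inferInstance with hb | ht
    · exfalso
      have hcen : x₀ r ∈ Subgroup.center T := by
        rw [Subgroup.mem_center_iff]
        intro t
        obtain ⟨y, hy, rfl, hy'⟩ := ih' t
        have hmem : x₀ r * y r * (x₀ r)⁻¹ * (y r)⁻¹ ∈ P := by
          refine ⟨x₀ * y * x₀⁻¹ * y⁻¹, mul_mem (mul_mem (mul_mem hx₀ hy) (inv_mem hx₀)) (inv_mem hy), rfl,
            fun s hs => ?_⟩
          rcases Finset.mem_insert.mp hs with rfl | hs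
          · simp [hx₀a]
          · simp [hy' s hs]
        rw [hb, Subgroup.mem_bot, mul_inv_eq_one, mul_inv_eq_iff_eq_mul] at hmem
        exact hmem.symm
      rcases IsSimpleGroup.eq_bot_or_eq_top_of_normal (Subgroup.center T) inferInstance with h | h
      · exact hx₀r (Subgroup.mem_bot.mp (h ▸ hcen))
      · exact hna ⟨⟨fun a b => (Subgroup.mem_center_iff.mp (h ▸ Subgroup.mem_top b) a)⟩⟩
    · intro t
      exact (ht ▸ Subgroup.mem_top t : t ∈ P)

theorem interp_all (hT : IsSimpleGroup T) (hna : ¬ IsMulCommutative T) (L : Subgroup (ι → T))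
    (hfull : ∀ i t, ∃ x ∈ L, x i = t) (R : Finset ι)
    (hnd : ∀ s ∈ R, ∀ r ∈ R, s ≠ r → ¬ Det L s r) (x : ι → T) : ∃ y ∈ L, ∀ r ∈ R, y r = x r := by
  induction R using Finset.induction with
  | empty => exact ⟨1, one_mem _, by simp⟩
  | @insert a R ha ih =>
    obtain ⟨y, hy, hy'⟩ := ih fun s hs r hr => hnd s (Finset.mem_insert_of_mem hs) r (Finset.mem_insert_of_mem hr)
    obtain ⟨z, hz, hza, hz'⟩ := exists_interp hT hna L hfull R a ha
      (fun s hs => hnd s (Finset.mem_insert_of_mem hs) a (Finset.mem_insert_self a R) fun e => ha (e ▸ hs))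
      (x a * (y a)⁻¹)
    refine ⟨z * y, mul_mem hz hy, fun r hr => ?_⟩
    rcases Finset.mem_insert.mp hr with rfl | hr
    · simp [hza]
    · simp [hz' r hr, hy' r hr]

end Power

theorem core {H : Type*} [Group H] [Finite H] (K N : Subgroup H) [N.Normal] (hK : IsCoatom K)
    (hNK : ¬ N ≤ K) (hmin : ∀ M : Subgroup H, M.Normal → M ≤ N → M = ⊥ ∨ M = N) {T : Type}
    [Group T] (hT : IsSimpleGroup T) (hna : ¬ IsMulCommutative T) {m : ℕ} (hm : 0 < m)
    (e₀ : N ≃* (Fin m → T)) :
    ∃ e : N ≃* (Fin m → T), (∃ K' : Fin m → Subgroup T, (∀ i, K' i ≠ ⊤) ∧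
        ∀ n : N, (n : H) ∈ K ↔ ∀ i, e n i ∈ K' i) ∨
      (∃ (k : ℕ) (c : Fin m → Fin m), 2 ≤ k ∧
        (∀ j : Fin m, Nat.card {i : Fin m // c i = j} = k ∨ Nat.card {i : Fin m // c i = j} = 0) ∧
        ∀ n : N, (n : H) ∈ K ↔ ∀ i j : Fin m, c i = c j → e n i = e n j) := by
  classical
  haveI : Finite T := Finite.of_surjective (fun n : N => e₀ n ⟨0, hm⟩)
    (fun t => ⟨e₀.symm fun _ => t, by simp⟩)
  haveI : Nontrivial T := hT.toNontrivial
  set L : Subgroup (Fin m → T) := (K.subgroupOf N).map e₀.toMonoidHom with hL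
  have hLmem : ∀ n : N, (n : H) ∈ K ↔ e₀ n ∈ L := by
    intro n
    simp [hL, Subgroup.mem_map, Subgroup.mem_subgroupOf]
  let φ : H → ((Fin m → T) ≃* (Fin m → T)) := fun h =>
    e₀.symm.trans ((MulAut.conjNormal h).trans e₀)
  have hφe : ∀ h n, φ h (e₀ n) = e₀ (MulAut.conjNormal h n) := fun h n => by simp [φ]
  have hLinv : ∀ k ∈ K, ∀ x, x ∈ L ↔ φ k x ∈ L := by
    intro k hk x
    obtain ⟨n, rfl⟩ := e₀.surjective x
    rw [hφe, ← hLmem, ← hLmem, MulAut.conjNormal_apply]
    constructor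
    · exact fun hn => K.mul_mem (K.mul_mem hk hn) (K.inv_mem hk)
    · intro hn
      have := K.mul_mem (K.mul_mem (K.inv_mem hk) hn) hk
      simpa [mul_assoc] using this
  choose σ θ hσ hθ hσθ using fun h => aut_permutes hT hna (φ h)
  -- an invariant subgroup above the point stabiliser
  have htop : ∀ X : Subgroup (Fin m → T), L ≤ X → (∀ k ∈ K, ∀ x ∈ X, φ k x ∈ X) → X = L ∨ X = ⊤ := by
    intro X hLX hinv
    set X' : Subgroup H := (X.comap e₀.toMonoidHom).map N.subtype with hX'
    have hnorm : K ≤ Subgroup.normalizer (X' : Set H) := by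
      intro k hk
      rw [Subgroup.mem_normalizer_iff_map_conj_eq]
      apply Subgroup.eq_of_le_of_card_ge
      · rintro _ ⟨_, ⟨n, hn, rfl⟩, rfl⟩
        refine ⟨MulAut.conjNormal k n, ?_, by simp [MulAut.conjNormal_apply]⟩
        show e₀ (MulAut.conjNormal k n) ∈ X
        rw [← hφe]
        exact hinv k hk _ hn
      · exact (Subgroup.card_map_of_injective (K := X') (f := (MulAut.conj k).toMonoidHom) (MulAut.conj k).injective).ge
    rcases eq_or_lt_of_le (le_sup_left : K ≤ K ⊔ X') with h | h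
    · left
      refine le_antisymm (fun x hx => ?_) hLX
      obtain ⟨n, rfl⟩ := e₀.surjective x
      rw [← hLmem]
      exact h ▸ Subgroup.mem_sup_right ⟨n, hx, rfl⟩
    · right
      rw [eq_top_iff]
      intro x _
      obtain ⟨n, rfl⟩ := e₀.surjective x
      have hmem : (n : H) ∈ ((K ⊔ X' : Subgroup H) : Set H) := by rw [hK.2 _ h]; trivial
      rw [Subgroup.coe_mul_of_left_le_normalizer_right K X' hnorm] at hmem
      obtain ⟨k, hk, _, ⟨y, hy, rfl⟩, hky⟩ := Set.mem_mul.mp hmem
      have hkN : k ∈ N := by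
        have h1 : k = (n : H) * (y : H)⁻¹ := by rw [← hky]; simp
        rw [h1]; exact N.mul_mem n.2 (N.inv_mem y.2)
      have h2 : n = ⟨k, hkN⟩ * y := Subtype.ext hky.symm
      rw [h2, map_mul]
      exact X.mul_mem (hLX ((hLmem ⟨k, hkN⟩).mp hk)) hy
  let P : Fin m → Subgroup T := fun i => L.map (Pi.evalMonoidHom (fun _ : Fin m => T) i)
  have hPk : ∀ k ∈ K, ∀ i, ∀ t ∈ P i, θ k i t ∈ P (σ k i) := by
    rintro k hk i _ ⟨x, hx, rfl⟩
    exact ⟨φ k x, (hLinv k hk x).mp hx, hσθ k x i⟩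
  by_cases hall : ∀ i, P i ≠ ⊤
  · refine ⟨e₀, Or.inl ⟨P, hall, fun n => ?_⟩⟩
    set X : Subgroup (Fin m → T) :=
      { carrier := {x | ∀ i, x i ∈ P i}
        one_mem' := fun i => one_mem _
        mul_mem' := fun ha hb i => mul_mem (ha i) (hb i)
        inv_mem' := fun ha i => inv_mem (ha i) } with hX
    have hXm : ∀ x, x ∈ X ↔ ∀ i, x i ∈ P i := fun x => Iff.rfl
    have hXL : X = L := by
      refine (htop X (fun x hx => (hXm x).mpr fun i => ⟨x, hx, rfl⟩) fun k hk x hx => (hXm _).mpr fun j => ?_).resolve_right fun h => ?_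
      · obtain ⟨i, rfl⟩ := (hσ k).2 j
        rw [hσθ]
        exact hPk k hk i _ ((hXm x).mp hx i)
      · refine hall ⟨0, hm⟩ (eq_top_iff.mpr fun t _ => ?_)
        have h0 := (hXm (Pi.mulSingle ⟨0, hm⟩ t)).mp (h ▸ Subgroup.mem_top _) ⟨0, hm⟩
        rwa [Pi.mulSingle_eq_same] at h0
    rw [hLmem, ← hXL]
    exact hXm _
  push Not at hall
  obtain ⟨i₀, hi₀⟩ := hall
  -- transitivity on the factors
  set J : Set (Fin m) := {j | ∃ k ∈ K, σ k i₀ = j} with hJ
  have hσmul : ∀ g h : H, ∀ i, σ (g * h) i = σ g (σ h i) := by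
    intro g h i
    by_contra hne
    obtain ⟨t₀, ht₀⟩ : ∃ t : T, t ≠ 1 := exists_ne 1
    have e1 : φ (g * h) (Pi.mulSingle i t₀) = φ g (φ h (Pi.mulSingle i t₀)) := by
      obtain ⟨n, hn⟩ := e₀.surjective (Pi.mulSingle i t₀)
      rw [← hn, hφe, hφe, hφe, map_mul]
      rfl
    have e2 := congrFun e1 (σ (g * h) i)
    rw [hσθ, Pi.mulSingle_eq_same] at e2
    obtain ⟨l, hl⟩ := (hσ g).2 (σ (g * h) i)
    obtain ⟨l', hl'⟩ := (hσ h).2 l
    rw [← hl, hσθ, ← hl', hσθ, Pi.mulSingle_eq_of_ne, map_one, map_one] at e2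
    · exact ht₀ ((hθ (g * h) i).1 (e2.trans (map_one _).symm))
    · intro e
      exact hne (by rw [← hl, ← hl', e])
  have hσN : ∀ n ∈ N, ∀ i, σ n i = i := by
    intro n hn i
    by_contra hne
    obtain ⟨t₀, ht₀⟩ : ∃ t : T, t ≠ 1 := exists_ne 1
    obtain ⟨y, hy⟩ := e₀.surjective (Pi.mulSingle i t₀)
    have e1 : φ n (Pi.mulSingle i t₀) =
        e₀ ⟨n, hn⟩ * Pi.mulSingle i t₀ * (e₀ ⟨n, hn⟩)⁻¹ := by
      rw [← hy, hφe, ← map_inv, ← map_mul, ← map_mul]
      congr 1
    have e2 := congrFun e1 (σ n i)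
    rw [hσθ, Pi.mulSingle_eq_same] at e2
    simp [Pi.mulSingle_eq_of_ne hne] at e2
    exact ht₀ ((hθ n i).1 (e2.trans (map_one _).symm))
  have hJtop : ∀ j, j ∈ J := by
    set Y : Subgroup (Fin m → T) :=
      { carrier := {x | ∀ j, j ∉ J → x j = 1}
        one_mem' := fun j _ => rfl
        mul_mem' := fun ha hb j hj => by simp [ha j hj, hb j hj]
        inv_mem' := fun ha j hj => by simp [ha j hj] } with hY
    have hYm : ∀ x, x ∈ Y ↔ ∀ j, j ∉ J → x j = 1 := fun x => Iff.rfl
    set M : Subgroup H := (Y.comap e₀.toMonoidHom).map N.subtype with hM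
    have hMn : M.Normal := by
      constructor
      rintro _ ⟨y, hy, rfl⟩ g
      refine ⟨MulAut.conjNormal g y, ?_, by simp [MulAut.conjNormal_apply]⟩
      show e₀ (MulAut.conjNormal g y) ∈ Y
      rw [← hφe, hYm]
      intro j hj
      obtain ⟨i, rfl⟩ := (hσ g).2 j
      have hyY : e₀ y ∈ Y := hy
      rw [hσθ, (hYm _).mp hyY i, map_one]
      rintro ⟨k, hk, rfl⟩
      apply hj
      have hsup : g * k ∈ ((K ⊔ N : Subgroup H) : Set H) := by
        rw [hK.2 _ (lt_of_le_of_ne le_sup_left fun e => hNK (e ▸ le_sup_right))]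
        trivial
      rw [Subgroup.mul_normal] at hsup
      obtain ⟨k', hk', n, hn, e⟩ := Set.mem_mul.mp hsup
      refine ⟨k', hk', ?_⟩
      rw [← hσmul g k, ← e, hσmul, hσN n hn]
    intro j
    by_contra hj
    obtain ⟨t₀, ht₀⟩ : ∃ t : T, t ≠ 1 := exists_ne 1
    rcases hmin M hMn (Subgroup.map_subtype_le _) with hb | ht
    · have h1 : Pi.mulSingle i₀ t₀ ∈ Y := (hYm _).mpr fun l hl => Pi.mulSingle_eq_of_ne (M := fun _ => T) (fun e => hl (by
        exact ⟨1, K.one_mem, (hσN 1 N.one_mem i₀).trans e.symm⟩)) t₀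
      have h2 : ((e₀.symm (Pi.mulSingle i₀ t₀) : N) : H) ∈ M :=
        ⟨_, by rw [SetLike.mem_coe, Subgroup.mem_comap, MulEquiv.coe_toMonoidHom, MulEquiv.apply_symm_apply]; exact h1, rfl⟩
      rw [hb, Subgroup.mem_bot] at h2
      have h3 : e₀.symm (Pi.mulSingle i₀ t₀) = 1 := Subtype.ext h2
      rw [EmbeddingLike.map_eq_one_iff, Pi.mulSingle_eq_one_iff] at h3
      exact ht₀ h3
    · obtain ⟨y, hy, e⟩ : ((e₀.symm (Pi.mulSingle j t₀) : N) : H) ∈ M := ht.symm ▸ Subtype.coe_prop _
      have hy' : e₀ y ∈ Y := hy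
      rw [Subtype.ext e, MulEquiv.apply_symm_apply] at hy'
      exact ht₀ (by simpa using (hYm _).mp hy' j hj)
  have hfull : ∀ i t, ∃ x ∈ L, x i = t := by
    intro i t
    obtain ⟨k, hk, rfl⟩ := hJtop i
    obtain ⟨t', rfl⟩ := (hθ k i₀).2 t
    exact hPk k hk i₀ t' (hi₀ ▸ Subgroup.mem_top t')
  -- blocks
  let S : Setoid (Fin m) :=
    { r := Det L
      iseqv := ⟨fun i x _ h => h, fun h => (det_hom L hfull h).1,
        fun h1 h2 x hx h => h2 x hx (h1 x hx h)⟩ }
  let c : Fin m → Fin m := fun i => (Quotient.mk S i).out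
  have hci : ∀ i, Det L i (c i) := fun i => (det_hom L hfull (Quotient.mk_out (s := S) i)).1
  have hceq : ∀ i j, c i = c j ↔ Det L i j := by
    intro i j
    constructor
    · intro h
      exact fun x hx hi => (det_hom L hfull (hci j)).1 x hx (h ▸ hci i x hx hi)
    · intro h
      exact congrArg Quotient.out (Quotient.sound (s := S) h)
  choose ψ hψ using fun i => (det_hom L hfull (hci i)).2
  refine ⟨e₀.trans (MulEquiv.piCongrRight ψ), Or.inr ⟨Nat.card {i : Fin m // c i = c i₀}, c, ?_, ?_, ?_⟩⟩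
  rotate_left
  · intro j
    by_cases hj : ∃ i, c i = j
    · left
      obtain ⟨i, rfl⟩ := hj
      obtain ⟨k, hk, rfl⟩ := hJtop i
      refine (Nat.card_congr ((Equiv.ofBijective (σ k) (hσ k)).subtypeEquiv fun l => ?_)).symm
      rw [Equiv.ofBijective_apply, hceq, hceq]
      constructor
      · intro h y hy hyl
        obtain ⟨x, rfl⟩ := (φ k).surjective y
        rw [hσθ] at hyl ⊢
        rw [h x ((hLinv k hk x).mpr hy) ((hθ k l).1 (hyl.trans (map_one _).symm)), map_one]
      · intro h x hx hxl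
        have := h (φ k x) ((hLinv k hk x).mp hx) (by rw [hσθ, hxl, map_one])
        rw [hσθ] at this
        exact (hθ k i₀).1 (this.trans (map_one _).symm)
    · right
      push Not at hj
      haveI : IsEmpty {i : Fin m // c i = j} := ⟨fun i => hj i.1 i.2⟩
      exact Nat.card_of_isEmpty
  · intro n
    rw [hLmem]
    have happ : ∀ i, (e₀.trans (MulEquiv.piCongrRight ψ)) n i = ψ i (e₀ n i) := fun i => rfl
    simp only [happ]
    constructor
    · intro hn i j hij
      rw [hψ i _ hn, hψ j _ hn, hij]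
    · intro h
      obtain ⟨y, hy, hy'⟩ := interp_all hT hna L hfull (Finset.univ.filter fun r => c r = r)
        (fun s hs r hr hne hd => hne (by
          rw [← (Finset.mem_filter.mp hs).2, ← (Finset.mem_filter.mp hr).2]
          exact (hceq s r).mpr hd))
        (fun r => ψ r (e₀ n r))
      have hcc : ∀ i, c (c i) = c i := fun i => ((hceq i (c i)).mpr (hci i)).symm
      suffices e₀ n = y by rw [this]; exact hy
      funext i
      apply (ψ i).injective
      rw [hψ i y hy, hy' (c i) (Finset.mem_filter.mpr ⟨Finset.mem_univ _, hcc i⟩), h i (c i) (hcc i).symm]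
  · by_contra hlt
    push Not at hlt
    apply hNK
    intro n hn
    refine (hLmem ⟨n, hn⟩).mpr ?_
    have hone : ∀ i j, c i = c j → i = j := by
      intro i j hij
      obtain ⟨k, hk, rfl⟩ := hJtop i
      obtain ⟨l, rfl⟩ := (hσ k).2 j
      have hl : c l = c i₀ := by
        rw [hceq]
        rw [hceq] at hij
        refine (det_hom L hfull (fun x hx hxl => ?_)).1
        have := hij (φ k x) ((hLinv k hk x).mp hx) (by rw [hσθ, hxl, map_one])
        rw [hσθ] at this
        exact (hθ k l).1 (this.trans (map_one _).symm)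
      haveI := Finite.card_le_one_iff_subsingleton.mp (show Nat.card {i : Fin m // c i = c i₀} ≤ 1 by omega)
      have := Subsingleton.elim (⟨l, hl⟩ : {i : Fin m // c i = c i₀}) ⟨i₀, rfl⟩
      rw [Subtype.mk.injEq] at this
      rw [this]
    obtain ⟨y, hy, hy'⟩ := interp_all hT hna L hfull Finset.univ
      (fun s _ r _ hne hd => hne (hone s r ((hceq s r).mpr hd))) (e₀ ⟨n, hn⟩)
    rwa [show e₀ ⟨n, hn⟩ = y from funext fun i => (hy' i (Finset.mem_univ i)).symm]


/-- The core of the O'Nan–Scott Theorem. Let `H` be a primitive permutation group on a finite set whose unique minimal normal subgroup `N` is non-abelian, and `K` a point stabiliser. Then there are a non-abelian simple group `T` and an isomorphism `N ≃* T^m` (`m ≥ 1`) under which `K ⊓ N` becomes either a product `∏ K_i` of proper subgroups `K_i < T`, or the set of functions constant on each block of a partition of the index set into blocks of one common size `k ≥ 2`. -/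
theorem result {α : Type*} [Finite α] (H : Subgroup (Equiv.Perm α)) [MulAction.IsPreprimitive H α] (N : Subgroup H) [N.Normal] (hN : N ≠ ⊥) (hmin : ∀ M : Subgroup H, M.Normal → M ≤ N → M = ⊥ ∨ M = N) (huniq : ∀ L : Subgroup H, L.Normal → L ≠ ⊥ → (∀ M : Subgroup H, M.Normal → M ≤ L → M = ⊥ ∨ M = L) → L = N) (hnab : ¬ IsMulCommutative N) (a : α) : ∃ (T : Type) (_ : Group T) (m : ℕ) (e : N ≃* (Fin m → T)), IsSimpleGroup T ∧ ¬ IsMulCommutative T ∧ 0 < m ∧ ((∃ K : Fin m → Subgroup T, (∀ i, K i ≠ ⊤) ∧ ∀ n : N, (n : H) ∈ MulAction.stabilizer H a ↔ ∀ i, e n i ∈ K i) ∨ (∃ (k : ℕ) (c : Fin m → Fin m), 2 ≤ k ∧ (∀ j : Fin m, Nat.card {i : Fin m // c i = j} = k ∨ Nat.card {i : Fin m // c i = j} = 0) ∧ ∀ n : N, (n : H) ∈ MulAction.stabilizer H a ↔ ∀ i j : Fin m, c i = c j → e n i = e n j)) := by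
  classical
  haveI : Nontrivial α := by
    by_contra hns
    rw [not_nontrivial_iff_subsingleton] at hns
    apply hN
    rw [Subgroup.eq_bot_iff_forall]
    intro n _
    apply Subtype.ext
    ext x
    exact Subsingleton.elim _ _
  have hco : IsCoatom (MulAction.stabilizer H a) :=
    MulAction.IsPreprimitive.isCoatom_stabilizer_of_isPreprimitive H a
  have hNK : ¬ N ≤ MulAction.stabilizer H a := by
    intro h
    apply hN
    rw [Subgroup.eq_bot_iff_forall]
    intro n hn
    apply Subtype.ext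
    ext x
    obtain ⟨g, rfl⟩ := MulAction.exists_smul_eq H a x
    have h1 : (g⁻¹ * n * g) • a = a := h (by
      have := Subgroup.Normal.conj_mem inferInstance n hn g⁻¹
      simpa using this)
    rw [mul_smul, mul_smul, inv_smul_eq_iff] at h1
    exact h1
  obtain ⟨T, iT, m, hT, hm, ⟨e₀⟩⟩ := Cfsg.Agent.Lib.Recognition.minimal_normal_eq_power N hN hmin
  have hna : ¬ IsMulCommutative T := fun hc => hnab ⟨⟨fun x y => e₀.injective (by
    funext i
    rw [map_mul, map_mul, Pi.mul_apply, Pi.mul_apply]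
    exact hc.is_comm.comm _ _)⟩⟩
  obtain ⟨e, he⟩ := core (MulAction.stabilizer H a) N hco hNK hmin hT hna hm e₀
  exact ⟨T, iT, m, e, hT, hna, hm, he⟩

end Cfsg.Agent.S0723
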