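import Cfsg.Statements.S0724
import Mathlib.GroupTheory.GroupAction.Quotient
import Mathlib.Algebra.BigOperators.Ring.Finset
import Mathlib.Tactic.Ring

set_option autoImplicit false
open Cfsg

namespace Cfsg.Agent.S0724

universe u
theorem key {G : Type*} [Group G] [Fintype G] {α : Type u} [Fintype α] [MulAction G α] :
    ∀ (L : Finset ℕ) (Y : Type u) [Fintype Y] [MulAction G Y],
      (Nat.card G : ℤ) ∣ ∑ g : G, (Nat.card (MulAction.fixedBy Y g) : ℤ) *
        ∏ l ∈ L, ((Nat.card (MulAction.fixedBy α g) : ℤ) - l) := by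
  classical
  intro L
  induction L using Finset.induction_on with
  | empty =>
    intro Y _ _
    simp only [Finset.prod_empty, mul_one, Nat.card_eq_fintype_card]
    rw [← Nat.cast_sum, MulAction.sum_card_fixedBy_eq_card_orbits_mul_card_group]
    exact Int.natCast_dvd_natCast.mpr (dvd_mul_left _ _)
  | insert l L hl ih =>
    intro Y _ _
    have hprod : ∀ g : G, (Nat.card (MulAction.fixedBy (Y × α) g) : ℤ) =
        (Nat.card (MulAction.fixedBy Y g) : ℤ) * Nat.card (MulAction.fixedBy α g) := by
      intro g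
      rw [← Nat.cast_mul, ← Nat.card_prod]
      congr 1
      exact Nat.card_congr
        { toFun := fun x => (⟨x.1.1, congrArg Prod.fst x.2⟩, ⟨x.1.2, congrArg Prod.snd x.2⟩)
          invFun := fun x => ⟨(x.1.1, x.2.1), Prod.ext x.1.2 x.2.2⟩
          left_inv := fun x => rfl
          right_inv := fun x => rfl }
    have e : ∀ g : G, (Nat.card (MulAction.fixedBy Y g) : ℤ) *
        ∏ m ∈ insert l L, ((Nat.card (MulAction.fixedBy α g) : ℤ) - m) =
      (Nat.card (MulAction.fixedBy (Y × α) g) : ℤ) * ∏ m ∈ L, ((Nat.card (MulAction.fixedBy α g) : ℤ) - m) -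
      (l : ℤ) * ((Nat.card (MulAction.fixedBy Y g) : ℤ) *
        ∏ m ∈ L, ((Nat.card (MulAction.fixedBy α g) : ℤ) - m)) := by
      intro g
      rw [Finset.prod_insert hl, hprod]
      ring
    rw [Finset.sum_congr rfl (fun g _ => e g), Finset.sum_sub_distrib, ← Finset.mul_sum]
    exact dvd_sub (ih (Y × α)) (dvd_mul_of_dvd_right (ih Y) _)


/-- Blichfeldt's Theorem: if a finite set `L` of natural numbers contains the number of fixed points of every non-identity element of a permutation group `G` of degree `n`, then the order of `G` divides `∏ (n - l)` over `l ∈ L`. -/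
theorem result {α : Type*} [Fintype α] [DecidableEq α] (G : Subgroup (Equiv.Perm α)) (L : Finset ℕ) (hL : ∀ g ∈ G, g ≠ 1 → Nat.card (MulAction.fixedBy α g) ∈ L) : Nat.card G ∣ ∏ l ∈ L, (Fintype.card α - l) := by
  classical
  haveI : Fintype G := Fintype.ofFinite G
  by_cases hbig : ∃ l ∈ L, Fintype.card α ≤ l
  · obtain ⟨l, hl, hle⟩ := hbig
    rw [Finset.prod_eq_zero hl (Nat.sub_eq_zero_of_le hle)]
    exact dvd_zero _
  push Not at hbig
  letI : MulAction G PUnit.{u_1 + 1} :=
    { smul := fun _ x => x, one_smul := fun _ => rfl, mul_smul := fun _ _ _ => rfl }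
  have h := key (G := G) (α := α) L PUnit.{u_1 + 1}
  have hY : ∀ g : G, Nat.card (MulAction.fixedBy PUnit.{u_1 + 1} g) = 1 := fun g => by
    rw [Nat.card_eq_one_iff_unique]
    exact ⟨⟨fun a b => Subtype.ext rfl⟩, ⟨⟨PUnit.unit, rfl⟩⟩⟩
  simp only [hY, Nat.cast_one, one_mul] at h
  rw [Finset.sum_eq_single (1 : G)] at h
  · have h1 : Nat.card (MulAction.fixedBy α (1 : G)) = Fintype.card α := by
      rw [MulAction.fixedBy_one_eq_univ, Nat.card_congr (Equiv.Set.univ α), Nat.card_eq_fintype_card]
    rw [h1] at h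
    rw [Finset.prod_congr rfl (fun l hl => (Nat.cast_sub (hbig l hl).le).symm), ← Nat.cast_prod,
      Int.natCast_dvd_natCast] at h
    exact h
  · intro g _ hg
    exact Finset.prod_eq_zero (hL g g.2 (fun h1 => hg (Subtype.ext h1))) (sub_self _)
  · simp

end Cfsg.Agent.S0724
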