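import Cfsg.Statements.S0726
import Cfsg.Agent.Lib.Perm.Basic

set_option autoImplicit false
open Cfsg

namespace Cfsg.Agent.S0726


/-- The left and right regular permutation representations of a group are each other's centralisers in the symmetric group: the centraliser of the left regular image is the right regular image, and a transitive subgroup centralising the left regular image is the whole right regular image. -/
theorem result {G : Type*} [Group G] : Subgroup.centralizer ((MulAction.toPermHom G G).range : Set (Equiv.Perm G)) = (MulAction.toPermHom Gᵐᵒᵖ G).range ∧ ∀ H : Subgroup (Equiv.Perm G), H ≤ Subgroup.centralizer ((MulAction.toPermHom G G).range : Set (Equiv.Perm G)) → MulAction.IsPretransitive H G → H = (MulAction.toPermHom Gᵐᵒᵖ G).range := by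
  have heq : Subgroup.centralizer ((MulAction.toPermHom G G).range : Set (Equiv.Perm G)) = (MulAction.toPermHom Gᵐᵒᵖ G).range := by
    apply le_antisymm
    · intro c hc
      refine ⟨MulOpposite.op (c 1), ?_⟩
      ext x
      have h := hc (MulAction.toPermHom G G x) ⟨x, rfl⟩
      have h2 := congrArg (fun e : Equiv.Perm G => e 1) h
      simp at h2
      simp [h2]
    · rintro _ ⟨g, rfl⟩ _ ⟨x, rfl⟩
      ext y
      simp [mul_assoc]
  refine ⟨heq, fun H hH hT => le_antisymm (heq ▸ hH) ?_⟩
  rintro _ ⟨g, rfl⟩
  obtain ⟨h, hh⟩ := MulAction.exists_smul_eq H (1 : G) (MulOpposite.unop g)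
  obtain ⟨g', hg'⟩ := heq ▸ hH h.2
  have hh' : (h : Equiv.Perm G) 1 = MulOpposite.unop g := hh
  rw [← hg'] at hh'
  simp at hh'
  rw [← hh', hg']
  exact h.2

end Cfsg.Agent.S0726
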