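import Cfsg.Statements.S0728
import Mathlib
import Cfsg.Agent.Lib.Perm.SharpThree

set_option autoImplicit false
open Cfsg

namespace Cfsg.Agent.S0728

open MulAction in

/-- In a sharply triply transitive group of even degree at least 6 (degree `q + 1`, `q` odd), a two-point stabiliser has at most one subgroup of order 3. -/
theorem result {α : Type*} [Fintype α] [DecidableEq α] (heven : Even (Fintype.card α)) (h6 : 6 ≤ Fintype.card α) (G : Subgroup (Equiv.Perm α)) (h3 : MulAction.IsMultiplyPretransitive G α 3) (hsharp : ∀ x : Fin 3 ↪ α, MulAction.stabilizer G x = ⊥) {a b : α} (hab : a ≠ b) (A B : Subgroup G) (hA : A ≤ MulAction.stabilizer G a ⊓ MulAction.stabilizer G b) (hB : B ≤ MulAction.stabilizer G a ⊓ MulAction.stabilizer G b) (hA3 : Nat.card A = 3) (hB3 : Nat.card B = 3) : A = B := by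
  classical
  have hn3 : 3 ≤ Fintype.card α := by omega
  haveI : Fact (Nat.Prime 3) := ⟨by norm_num⟩
  let P := Finset.univ.filter (fun g : G => g ≠ 1 ∧ g ^ 3 = 1 ∧ g • a = a ∧ g • b = b)
  have hsub : ∀ C : Subgroup G, C ≤ MulAction.stabilizer G a ⊓ MulAction.stabilizer G b →
      Nat.card C = 3 → ∀ g ∈ C, g ≠ 1 → g ∈ P := fun C hC hC3 g hg hg1 => by
    refine Finset.mem_filter.mpr ⟨Finset.mem_univ _, hg1, ?_, (hC hg).1, (hC hg).2⟩
    have h := pow_card_eq_one' (G := C) (x := ⟨g, hg⟩)
    rw [hC3] at h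
    exact congrArg Subtype.val h
  have hn : Fintype.card α % 3 = 2 := by
    obtain ⟨g, hg, hg1⟩ : ∃ g ∈ A, g ≠ 1 := by
      refine A.bot_or_exists_ne_one.resolve_left fun h => ?_
      rw [h, Subgroup.card_bot] at hA3
      omega
    obtain ⟨-, -, hg3, hga, hgb⟩ := Finset.mem_filter.mp (hsub A hA hA3 g hg hg1)
    have h1 := Cfsg.Agent.Lib.Perm.SharpThree.card_fixF_le hsharp hg1
    have h2 : 2 ≤ (Cfsg.Agent.Lib.Perm.SharpThree.fixF g).card := by
      rw [← Finset.card_pair hab]
      refine Finset.card_le_card fun z hz => ?_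
      rcases Finset.mem_insert.mp hz with rfl | hz'
      · exact Cfsg.Agent.Lib.Perm.SharpThree.mem_fixF.mpr hga
      · rw [Finset.mem_singleton.mp hz']
        exact Cfsg.Agent.Lib.Perm.SharpThree.mem_fixF.mpr hgb
    have h3' : (Cfsg.Agent.Lib.Perm.SharpThree.fixF g).card % 3 = Fintype.card α % 3 :=
      Cfsg.Agent.Lib.Perm.SharpThree.card_fixF_modEq hg3
    omega
  have hP : P.card ≤ 2 :=
    Cfsg.Agent.Lib.Perm.SharpThree.card_three_le_two h3 hsharp hn hn3 hab
  have key : ∀ C : Subgroup G, C ≤ MulAction.stabilizer G a ⊓ MulAction.stabilizer G b →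
      Nat.card C = 3 → (Finset.univ.filter (fun g : G => g ∈ C)).erase 1 = P := fun C hC hC3 => by
    refine Finset.eq_of_subset_of_card_le (fun g hg => ?_) ?_
    · obtain ⟨hg1, hg⟩ := Finset.mem_erase.mp hg
      exact hsub C hC hC3 g (Finset.mem_filter.mp hg).2 hg1
    · have h' : (Finset.univ.filter (fun g : G => g ∈ C)).card = 3 := by
        rw [← hC3]
        exact (Nat.subtype_card _ (by simp)).symm
      rw [Finset.card_erase_of_mem (by simp), h']
      exact hP
  ext g
  by_cases hg1 : g = 1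
  · simp [hg1]
  · have e := congrArg (fun s => g ∈ s) ((key A hA hA3).trans (key B hB hB3).symm)
    simpa [hg1] using e

end Cfsg.Agent.S0728
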