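import Cfsg.Statements.S0729
import Cfsg.Agent.Lib.OddLocal.SharpOdd

set_option autoImplicit false
open Cfsg

namespace Cfsg.Agent.S0729

/-- In a sharply triply transitive group of even degree at least 6, the two-point stabiliser `H = G_{a,b}` has a normal subgroup of index 2 that is normalised by the element `s` interchanging `a, b` and fixing a third point `c`. -/
theorem result {α : Type*} [Fintype α] [DecidableEq α] (heven : Even (Fintype.card α)) (h6 : 6 ≤ Fintype.card α) (G : Subgroup (Equiv.Perm α)) (h3 : MulAction.IsMultiplyPretransitive G α 3) (hsharp : ∀ x : Fin 3 ↪ α, MulAction.stabilizer G x = ⊥) {a b c : α} (hab : a ≠ b) (hac : a ≠ c) (hbc : b ≠ c) (s : G) (hsa : s • a = b) (hsb : s • b = a) (hsc : s • c = c) : ∃ N : Subgroup G, N ≤ MulAction.stabilizer G a ⊓ MulAction.stabilizer G b ∧ (N.subgroupOf (MulAction.stabilizer G a ⊓ MulAction.stabilizer G b)).Normal ∧ N.relIndex (MulAction.stabilizer G a ⊓ MulAction.stabilizer G b) = 2 ∧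 ∀ n ∈ N, s * n * s⁻¹ ∈ N := by
  classical
  haveI := Fintype.ofFinite G
  have hthree := Lib.OddLocal.three_of_sharp (G := G) hsharp
  have hZ := Lib.OddLocal.SharpOdd.isZass_of_sharp h3 hthree heven h6
  obtain ⟨H, K⟩ := Lib.OddLocal.ZassPSL.exists_ker hZ hab
  set D : Subgroup G := MulAction.stabilizer G a ⊓ MulAction.stabilizer G b with hD
  have hcard : Nat.card ↥D = Fintype.card α - 2 :=
    Lib.OddLocal.card_pair_sharp h3 hthree hab (by omega)
  have hevD : Even (Nat.card ↥D) := by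
    obtain ⟨k, hk⟩ := heven
    exact ⟨k - 1, by omega⟩
  obtain ⟨M, e', hMn, -, -, he', -, -, hinf⟩ := Lib.OddLocal.SharpOdd.exists_half K (by omega) hevD
  refine ⟨M ⊓ D, inf_le_right, ?_, ?_, ?_⟩
  · exact ⟨fun x hx g => Subgroup.mem_subgroupOf.mpr ⟨hMn.conj_mem _ (Subgroup.mem_subgroupOf.mp hx).1 _,
      D.mul_mem (D.mul_mem g.2 x.2) (D.inv_mem g.2)⟩⟩
  · have h1 := ((M ⊓ D).subgroupOf D).index_mul_card
    rw [Nat.card_congr (Subgroup.subgroupOfEquivOfLe inf_le_right).toEquiv, hinf, he'] at h1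
    have hpos : 0 < e' := hinf ▸ Nat.card_pos
    exact Nat.eq_of_mul_eq_mul_right hpos h1
  · intro n hn
    obtain ⟨hnM, hna, hnb⟩ := (⟨hn.1, (Subgroup.mem_inf.mp hn.2).1, (Subgroup.mem_inf.mp hn.2).2⟩ :
      n ∈ M ∧ n • a = a ∧ n • b = b)
    refine ⟨hMn.conj_mem n hnM s, ?_, ?_⟩
    · show (s * n * s⁻¹) • a = a
      rw [mul_smul, mul_smul, inv_smul_eq_iff.mpr hsb.symm, hnb, hsb]
    · show (s * n * s⁻¹) • b = b
      rw [mul_smul, mul_smul, inv_smul_eq_iff.mpr hsa.symm, hna, hsa]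

end Cfsg.Agent.S0729
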