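import Cfsg.Statements.S0730
import Cfsg.Agent.Lib.OddLocal.SharpOdd

set_option autoImplicit false
open Cfsg

namespace Cfsg.Agent.S0730

/-- A sharply triply transitive group of degree `p^f + 1`, `p` an odd prime and `f` odd, is isomorphic to the projective general linear group of degree 2 over the field with `p^f` elements (for even `f` there is a second, twisted, group). -/
theorem result {α : Type*} [Fintype α] [DecidableEq α] {p f : ℕ} (hp : p.Prime) (hp2 : p ≠ 2) (hfo : Odd f) (hα : Fintype.card α = p ^ f + 1) (G : Subgroup (Equiv.Perm α)) (h3 : MulAction.IsMultiplyPretransitive G α 3) (hsharp : ∀ x : Fin 3 ↪ α, MulAction.stabilizer G x = ⊥) : ∃ (F : Type) (_ : Field F) (_ : Fintype F), Fintype.card F = p ^ f ∧ Nonempty (G ≃* Matrix.ProjGenLinGroup (Fin 2) F) := by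
  classical
  haveI := Fintype.ofFinite G
  have hthree := Lib.OddLocal.three_of_sharp (G := G) hsharp
  have hodd : Odd (p ^ f) := (hp.odd_of_ne_two hp2).pow
  have hp3 : 3 ≤ p ^ f := by
    have h1 : p ^ 1 ≤ p ^ f := Nat.pow_le_pow_right hp.pos (by obtain ⟨k, hk⟩ := hfo; omega)
    have := hp.two_le
    rw [pow_one] at h1
    omega
  by_cases hq : p ^ f = 3
  · -- degree four
    haveI : Fact (Nat.Prime 3) := ⟨Nat.prime_three⟩
    refine ⟨ZMod 3, inferInstance, inferInstance, by rw [ZMod.card, hq], ?_⟩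
    exact Lib.OddLocal.SharpOdd.degree_four (by omega) G h3
  have heven : Even (Fintype.card α) := by rw [hα]; exact hodd.add_one
  have h6 : 6 ≤ Fintype.card α := by
    obtain ⟨k, hk⟩ := hodd
    omega
  have hZ := Lib.OddLocal.SharpOdd.isZass_of_sharp h3 hthree heven h6
  obtain ⟨a, b, hab⟩ := Fintype.one_lt_card_iff.mp (show 1 < Fintype.card α by omega)
  obtain ⟨H, K⟩ := Lib.OddLocal.ZassPSL.exists_ker hZ hab
  have hcard := Lib.OddLocal.card_pair_sharp h3 hthree hab (by omega)
  exact Lib.OddLocal.SharpOdd.iso_PGL2 K (by omega) hp hp2 hfo (by omega)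

end Cfsg.Agent.S0730
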