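import Cfsg.Statements.S0732
import Mathlib
import Cfsg.Agent.Lib.Perm.DegreePrimeSucc
import Cfsg.Agent.Lib.Perm.SharplyTwo
import Cfsg.Agent.S0727
import Cfsg.Agent.S0730
import Cfsg.Agent.S0731
import Cfsg.Agent.Lib.Classical.LinearCard
import Cfsg.Agent.Lib.Classical.SLTwo
import Cfsg.Agent.Lib.Geometry.Dickson.Main

set_option autoImplicit false
open Cfsg

namespace Cfsg.Agent.S0732

open MulAction in
theorem aux_regular_or_zassenhaus {α : Type*} [Fintype α] [DecidableEq α] {p d : ℕ} [Fact p.Prime]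
    {G : Subgroup (Equiv.Perm α)} (D : Cfsg.Agent.Lib.Perm.DegreePrimeSucc.Data G p d) :
    (∃ (N : Subgroup G) (_ : N.Normal), IsPretransitive N α ∧ ∀ a : α, stabilizer N a = ⊥) ∨
      Cfsg.IsZassenhausGroup G α := by
  classical
  by_cases hN : ∃ (N : Subgroup G) (_ : N.Normal),
      IsPretransitive N α ∧ ∀ a : α, stabilizer N a = ⊥
  · exact Or.inl hN
  refine Or.inr ⟨inferInstance, D.two, D.three, ?_, fun N hN' htr => ?_⟩
  · by_contra hno
    push Not at hno
    refine hN ?_
    have hp2 := (Fact.out : p.Prime).two_le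
    have hsharp : ∀ t : Fin 2 ↪ α, stabilizer G t = ⊥ := by
      intro t
      refine (Subgroup.eq_bot_iff_forall _).2 fun g hg => ?_
      by_contra hg1
      refine hno g hg1 (t 0) (t 1) (fun h => absurd (t.injective h) (by decide)) ?_ ?_
      · exact DFunLike.congr_fun hg 0
      · exact DFunLike.congr_fun hg 1
    obtain ⟨N, r, j, hNn, -, -, -, -, -, -, -, htr, hreg, -⟩ :=
      Cfsg.Agent.Lib.Perm.exists_translation_subgroup D.two hsharp (by rw [D.card_points]; omega)
    exact ⟨N, hNn, htr, hreg⟩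
  · by_contra hno
    push Not at hno
    exact hN ⟨N, hN', htr, hno⟩

open MulAction in
theorem aux_zassenhaus {α : Type*} [Fintype α] [DecidableEq α] {p d : ℕ} [Fact p.Prime]
    {G : Subgroup (Equiv.Perm α)} (D : Cfsg.Agent.Lib.Perm.DegreePrimeSucc.Data G p d)
    (hG : Nat.card G = (p + 1) * p * d) (hp2 : p ≠ 2) (hZ : Cfsg.IsZassenhausGroup G α) :
    (d = p - 1 ∧ Nonempty (G ≃* Matrix.ProjGenLinGroup (Fin 2) (ZMod p))) ∨
      (2 * d = p - 1 ∧ Nonempty (G ≃* Matrix.ProjectiveSpecialLinearGroup (Fin 2) (ZMod p))) := by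
  classical
  have hp : p.Prime := Fact.out
  obtain ⟨a⟩ : Nonempty α := Fintype.card_pos_iff.1 (by rw [D.card_points]; omega)
  obtain ⟨x, hxa, hxp, hx, hxn⟩ := D.cycle a
  have hfix : ∀ b : α, b ≠ a → ∀ n : ℕ, x ^ n • b = b → x ^ n = 1 := by
    intro b hb n hn
    refine FaithfulSMul.eq_of_smul_eq_smul (α := α) fun e => ?_
    rw [one_smul]
    rcases eq_or_ne e a with rfl | he
    · exact (stabilizer G e).pow_mem hxa n
    · obtain ⟨k, rfl⟩ := hx b e hb he
      rw [smul_smul, ← pow_add, add_comm, pow_add, mul_smul, hn]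
  have hreg : ∀ y z : α, y ≠ a → z ≠ a → ∃! u : (Subgroup.zpowers x : Subgroup G), (u : G) • y = z := by
    intro y z hy hz
    obtain ⟨i, hi⟩ := hx y z hy hz
    refine ⟨⟨x ^ i, Subgroup.pow_mem _ (Subgroup.mem_zpowers x) i⟩, hi, fun u hu => ?_⟩
    obtain ⟨k, hk⟩ := ((isOfFinOrder_of_finite x).mem_powers_iff_mem_zpowers.2 u.2)
    refine Subtype.ext ?_
    show (u : G) = x ^ i
    replace hu : (u : G) • y = z := hu
    have hk' : x ^ k = (u : G) := hk
    rw [← hk'] at hu ⊢
    rcases le_total k i with h | h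
    · have h1 := hfix _ hy (i - k) (by
        refine MulAction.injective (x ^ k) ?_
        show x ^ k • x ^ (i - k) • y = x ^ k • y
        rw [smul_smul, ← pow_add, Nat.add_sub_cancel' h, hi, hu])
      rw [← Nat.add_sub_cancel' h, pow_add, h1, mul_one]
    · have h1 := hfix _ hy (k - i) (by
        refine MulAction.injective (x ^ i) ?_
        show x ^ i • x ^ (k - i) • y = x ^ i • y
        rw [smul_smul, ← pow_add, Nat.add_sub_cancel' h, hi, hu])
      rw [← Nat.add_sub_cancel' h, pow_add, h1, mul_one]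
  have hFn : ((Subgroup.zpowers x).subgroupOf (stabilizer G a)).Normal := by
    refine ⟨fun n hn g => ?_⟩
    obtain ⟨i, hi⟩ := hxn g g.2
    obtain ⟨k, hk⟩ := (isOfFinOrder_of_finite x).mem_powers_iff_mem_zpowers.2 hn
    show (g : G) * (n : G) * (g : G)⁻¹ ∈ Subgroup.zpowers x
    have hk' : x ^ k = (n : G) := hk
    rw [← hk', ← conj_pow, hi, ← pow_mul]
    exact Subgroup.pow_mem _ (Subgroup.mem_zpowers x) _
  have hFle : Subgroup.zpowers x ≤ stabilizer G a := Subgroup.zpowers_le.2 hxa
  rcases S0731.result hZ a _ hFle hFn inferInstance hreg with ⟨h3, hsharp⟩ | ⟨K, _, _, hK, ⟨eK⟩⟩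
  · left
    obtain ⟨F, _, _, hF, ⟨eF⟩⟩ := S0730.result (f := 1) hp hp2 odd_one
      (by rw [pow_one]; exact D.card_points) G h3 hsharp
    rw [pow_one] at hF
    have hcard := Nat.card_congr eF.toEquiv
    rw [Cfsg.Agent.Lib.Classical.card_PGL, Cfsg.Agent.Lib.Classical.card_SL2, hF, hG] at hcard
    refine ⟨?_, ⟨eF.trans (Cfsg.Agent.Lib.Geometry.Dickson.pglCongr
      (FiniteField.ringEquivOfCardEq (hF.trans (ZMod.card p).symm)))⟩⟩
    have h1 : (p + 1) * p * d = (p + 1) * p * (p - 1) := by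
      rw [hcard, show p ^ 2 - 1 = (p + 1) * (p - 1) by
        simpa using Nat.sq_sub_sq p 1]
      ring
    exact Nat.eq_of_mul_eq_mul_left (Nat.mul_pos (Nat.succ_pos p) hp.pos) h1
  · right
    set q := Fintype.card K with hq
    have hqodd : q % 2 = 1 := FiniteField.odd_card_of_char_ne_two hK
    have hgcd : Nat.gcd 2 (q - 1) = 2 := by
      apply Nat.gcd_eq_left
      omega
    have h2 := Cfsg.Agent.Lib.Classical.card_PSL2_mul (F := K)
    rw [← hq, hgcd, ← Nat.card_congr eK.toEquiv, hG] at h2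
    have hq2 : 2 ≤ q := Fintype.one_lt_card
    have hq3 : 3 ≤ q := by omega
    have hsq : q ^ 2 - 1 = (q + 1) * (q - 1) := by simpa using Nat.sq_sub_sq q 1
    rw [hsq] at h2
    have hd := D.lt
    have hqp : q = p := by
      obtain ⟨r, hr⟩ := CharP.exists K
      obtain ⟨n, hrp, hqn⟩ := FiniteField.card K r
      have hdvd : p ∣ q * ((q + 1) * (q - 1)) := by
        rw [← h2]; exact ⟨2 * (p + 1) * d, by ring⟩
      have hpodd : p % 2 = 1 := Nat.odd_iff.1 (hp.odd_of_ne_two hp2)
      have hlt : (p + 1) * p * d * 2 < (p + 1) * p * p * 2 :=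
        Nat.mul_lt_mul_of_pos_right (Nat.mul_lt_mul_of_pos_left hd
          (Nat.mul_pos (Nat.succ_pos p) hp.pos)) (by norm_num)
      by_cases hrp' : r = p
      · subst hrp'
        have hn : (n : ℕ) = 1 := by
          by_contra hn1
          have hn2 : 2 ≤ (n : ℕ) := by
            have := n.pos
            omega
          have hq' : r ^ 2 ≤ q := by
            rw [hq, hqn]; exact Nat.pow_le_pow_right hp.pos hn2
          have h4 : 3 ≤ r := by have := hp.two_le; omega
          obtain ⟨q', hq'e⟩ : ∃ q', q = q' + 1 := ⟨q - 1, by omega⟩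
          rw [hq'e, Nat.add_sub_cancel] at h2
          have e1 : r * r ≤ q' + 1 := by rw [← hq'e, ← pow_two]; exact hq'
          have e9 : 9 ≤ r * r := Nat.mul_le_mul h4 h4
          have e8 : 8 ≤ q' := by omega
          have e2 : (r + 1) * r * r * 2 ≤ (q' + 1) * (r + 1) * 2 := by nlinarith
          have e3 : (r + 1) * 2 ≤ q' + 2 + (q' + 2) := by nlinarith
          have e4 := Nat.mul_le_mul_left (q' + 1) e3
          have e5 : (q' + 1) * ((q' + 2) * 8) ≤ (q' + 1) * ((q' + 2) * q') :=
            Nat.mul_le_mul_left _ (Nat.mul_le_mul_left _ e8)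
          have e6 : (r + 1) * r * d * 2 < (r + 1) * r * r * 2 := hlt
          nlinarith [h2, e2, e4, e5, e6]
        rw [hq, hqn, hn, pow_one]
      · exfalso
        have hpq : ¬ p ∣ q := by
          rw [hq, hqn]
          intro h
          exact hrp' (((Nat.prime_dvd_prime_iff_eq hp hrp).1 (hp.dvd_of_dvd_pow h))).symm
        have hle : 2 * p ≤ q + 1 := by
          rcases hp.dvd_mul.1 hdvd with h | h
          · exact absurd h hpq
          · rcases hp.dvd_mul.1 h with h | h
            · have : 2 * p ∣ q + 1 :=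
                (Nat.Coprime.mul_dvd_of_dvd_of_dvd
                  ((Nat.coprime_primes Nat.prime_two hp).2 (Ne.symm hp2)) (by omega) h)
              exact Nat.le_of_dvd (by omega) this
            · have : 2 * p ∣ q - 1 :=
                (Nat.Coprime.mul_dvd_of_dvd_of_dvd
                  ((Nat.coprime_primes Nat.prime_two hp).2 (Ne.symm hp2)) (by omega) h)
              have := Nat.le_of_dvd (by omega) this
              omega
        obtain ⟨q', hq'e⟩ : ∃ q', q = q' + 1 := ⟨q - 1, by omega⟩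
        rw [hq'e, Nat.add_sub_cancel] at h2
        rw [hq'e] at hle
        have e1 : 2 * p * (2 * p) ≤ (q' + 2) * (q' + 2) := Nat.mul_le_mul hle hle
        nlinarith
    refine ⟨?_, ⟨eK.trans (Cfsg.Agent.Lib.Classical.pslCongrOfCardEq (hqp.trans (ZMod.card p).symm))⟩⟩
    rw [hqp] at h2
    have h1 : (p + 1) * p * (2 * d) = (p + 1) * p * (p - 1) := by
      calc (p + 1) * p * (2 * d) = 2 * ((p + 1) * p * d) := by ring
        _ = _ := by rw [h2]; ring
    exact Nat.eq_of_mul_eq_mul_left (Nat.mul_pos (Nat.succ_pos p) hp.pos) h1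


/-- A transitive permutation group on `p + 1` points (`p` prime) of order `(p+1) p d` with `d < p` is isomorphic to `PGL(2,p)` with `d = p - 1`, or to `PSL(2,p)` with `2d = p - 1`, or else `p + 1 = 2^q` for a prime `q`, `d = 1` or `d = q`, and the group is permutation-isomorphic to a group of semi-affine maps `x ↦ a φ(x) + b` of the field with `2^q` elements. -/
theorem result {α : Type*} [Fintype α] [DecidableEq α] {p d : ℕ} (hp : p.Prime) (hα : Fintype.card α = p + 1) (G : Subgroup (Equiv.Perm α)) [MulAction.IsPretransitive G α] (hG : Nat.card G = (p + 1) * p * d) (hd : d < p) : (d = p - 1 ∧ Nonempty (G ≃* Matrix.ProjGenLinGroup (Fin 2) (ZMod p))) ∨ (2 * d = p - 1 ∧ Nonempty (G ≃* Matrix.ProjectiveSpecialLinearGroup (Fin 2) (ZMod p))) ∨ (∃ q : ℕ, q.Prime ∧ p + 1 = 2 ^ q ∧ (d = 1 ∨ d = q) ∧ ∃ e : α ≃ GaloisField 2 q, ∀ g : G, (e.symm.trans (((g : Equiv.Perm α)).trans e)) ∈ Cfsg.semiaffineGroup (GaloisField 2 q)) := by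
  classical
  haveI := Fact.mk hp
  have D := Cfsg.Agent.Lib.Perm.DegreePrimeSucc.data hα hG hd
  by_cases hp2 : p = 2
  · subst hp2
    left
    have hd1 : d = 1 := by
      have := Cfsg.Agent.Lib.Perm.DegreePrimeSucc.pos_of_card hG
      omega
    subst hd1
    have htop : G = ⊤ := by
      refine Subgroup.eq_top_of_card_eq G ?_
      rw [hG, Nat.card_perm, Nat.card_eq_fintype_card, hα]
      decide
    subst htop
    refine ⟨rfl, ?_⟩
    have h3 : MulAction.IsMultiplyPretransitive (⊤ : Subgroup (Equiv.Perm α)) α 3 := by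
      rw [MulAction.isMultiplyPretransitive_iff]
      intro x y
      obtain ⟨σ, hσ⟩ := Equiv.Perm.exists_smul_eq_embedding x y
      exact ⟨⟨σ, Subgroup.mem_top σ⟩, hσ⟩
    obtain ⟨F, _, _, hF, ⟨eF⟩⟩ := S0727.result (f := 1) le_rfl (by rw [pow_one, hα]) _ h3
      (fun t => (Subgroup.eq_bot_iff_forall _).2 fun g hg => by
        have hbij : Function.Bijective t := (Fintype.bijective_iff_injective_and_card t).2
          ⟨t.injective, by rw [Fintype.card_fin, hα]⟩
        refine Subtype.ext (Equiv.ext fun c => ?_)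
        obtain ⟨i, rfl⟩ := hbij.2 c
        exact DFunLike.congr_fun hg i)
    exact ⟨eF.trans (Cfsg.Agent.Lib.Geometry.Dickson.pglCongr
      (FiniteField.ringEquivOfCardEq (hF.trans (by rw [pow_one, ZMod.card]))))⟩
  rcases aux_regular_or_zassenhaus D with ⟨N, hN, htr, hreg⟩ | hZ
  · exact Or.inr (Or.inr (Cfsg.Agent.Lib.Perm.DegreePrimeSucc.affine D hp2 htr hreg))
  · exact (aux_zassenhaus D hG hp2 hZ).imp id Or.inl

end Cfsg.Agent.S0732
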