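import Cfsg.Statements.S0733
import Mathlib.Algebra.Module.ZMod

set_option autoImplicit false
open Cfsg

namespace Cfsg.Agent.S0733

open scoped Pointwise

/-- A permutation group of affine type — generated by the translations of a finite vector space `V` over `ZMod p` together with a group `G₀` of linear automorphisms — is primitive on `V` if and only if `G₀` is irreducible on `V`. -/
theorem result {p : ℕ} [Fact p.Prime] {V : Type*} [AddCommGroup V] [Module (ZMod p) V] [Finite V] [Nontrivial V] (G₀ : Subgroup (V ≃ₗ[ZMod p] V)) (G : Subgroup (Equiv.Perm V)) (hG : ∀ σ : Equiv.Perm V, σ ∈ G ↔ ∃ g ∈ G₀, ∃ b : V, ∀ x : V, σ x = (g : V ≃ₗ[ZMod p] V) x + b) : MulAction.IsPreprimitive G V ↔ ∀ W : Submodule (ZMod p) V, (∀ g ∈ G₀, ∀ v ∈ W, (g : V ≃ₗ[ZMod p] V) v ∈ W) → W = ⊥ ∨ W = ⊤ := by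
  haveI : Fintype V := Fintype.ofFinite V
  have htr : ∀ b : V, Equiv.addRight b ∈ G := fun b =>
    (hG _).mpr ⟨1, G₀.one_mem, b, fun x => rfl⟩
  haveI : MulAction.IsPretransitive G V := ⟨fun x y => ⟨⟨_, htr (y - x)⟩, by
    change x + (y - x) = y
    abel⟩⟩
  constructor
  · intro hprim W hW
    have hblock : MulAction.IsBlock G (W : Set V) := by
      rw [MulAction.isBlock_iff_smul_eq_of_mem]
      rintro ⟨σ, hσ⟩ x hx hσx
      obtain ⟨g, hg, b, hgb⟩ := (hG σ).mp hσ
      change σ x ∈ W at hσx
      have hb : b ∈ W := by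
        have := W.sub_mem hσx (hW g hg x hx)
        rwa [hgb, add_sub_cancel_left] at this
      ext y
      rw [Set.mem_smul_set_iff_inv_smul_mem]
      change σ.symm y ∈ W ↔ y ∈ W
      constructor
      · intro h
        have := W.add_mem (hW g hg _ h) hb
        rwa [← hgb (σ.symm y), Equiv.apply_symm_apply] at this
      · intro h
        have h1 : (g : V ≃ₗ[ZMod p] V) (σ.symm y) = y - b := by
          have := hgb (σ.symm y)
          rw [Equiv.apply_symm_apply] at this
          exact eq_sub_of_add_eq this.symm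
        have h2 := hW g⁻¹ (G₀.inv_mem hg) _ (W.sub_mem h hb)
        rw [← h1] at h2
        change (g : V ≃ₗ[ZMod p] V).symm ((g : V ≃ₗ[ZMod p] V) (σ.symm y)) ∈ W at h2
        rwa [LinearEquiv.symm_apply_apply] at h2
    rcases hprim.isTrivialBlock_of_isBlock hblock with h | h
    · exact Or.inl ((Submodule.eq_bot_iff W).mpr fun v hv => h hv W.zero_mem)
    · exact Or.inr (eq_top_iff.mpr fun v _ => by
        have : v ∈ (W : Set V) := h ▸ Set.mem_univ v
        exact this)
  · intro h
    refine MulAction.IsPreprimitive.of_isTrivialBlock_base (0 : V) fun {B} h0 hB => ?_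
    have hadd : ∀ b ∈ B, ∀ x ∈ B, x + b ∈ B := by
      intro b hb x hx
      have := MulAction.isBlock_iff_smul_eq_of_mem.mp hB (g := (⟨_, htr b⟩ : G)) h0
        (by change (0 : V) + b ∈ B; rwa [zero_add])
      rw [← this]
      exact ⟨x, hx, rfl⟩
    let A : AddSubgroup V :=
      { carrier := B
        zero_mem' := h0
        add_mem' := fun {x y} hx hy => hadd y hy x hx
        neg_mem' := fun {x} hx => by
          have h1 : ∀ n : ℕ, (n + 1) • x ∈ B := by
            intro n
            induction n with
            | zero => simpa using hx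
            | succ n ih => rw [succ_nsmul]; exact hadd x hx _ ih
          rcases eq_or_ne x 0 with rfl | hx0
          · rwa [neg_zero]
          obtain ⟨n, hn⟩ : ∃ n, addOrderOf x = n + 2 := ⟨addOrderOf x - 2, by
            have h2 : 0 < addOrderOf x := addOrderOf_pos x
            have h3 : addOrderOf x ≠ 1 := fun e => hx0 (AddMonoid.addOrderOf_eq_one_iff.mp e)
            omega⟩
          have h4 : (n + 1) • x = -x := by
            rw [eq_neg_iff_add_eq_zero, ← succ_nsmul, ← hn]
            exact addOrderOf_nsmul_eq_zero x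
          exact h4 ▸ h1 n }
    have hlin : ∀ g ∈ G₀, ∀ v ∈ AddSubgroup.toZModSubmodule p A,
        (g : V ≃ₗ[ZMod p] V) v ∈ AddSubgroup.toZModSubmodule p A := by
      intro g hg v hv
      have hmem : (g : V ≃ₗ[ZMod p] V).toEquiv ∈ G :=
        (hG _).mpr ⟨g, hg, 0, fun x => (add_zero _).symm⟩
      have := MulAction.isBlock_iff_smul_eq_of_mem.mp hB (g := (⟨_, hmem⟩ : G)) h0
        (by change (g : V ≃ₗ[ZMod p] V) 0 ∈ B; rwa [map_zero])
      change (g : V ≃ₗ[ZMod p] V) v ∈ B
      rw [← this]
      exact ⟨v, hv, rfl⟩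
    rcases h _ hlin with h1 | h1
    · left
      intro x hx y hy
      have : ∀ z ∈ B, z = 0 := fun z hz => by
        have h2 : z ∈ AddSubgroup.toZModSubmodule p A := hz
        rw [h1] at h2
        simpa using h2
      rw [this x hx, this y hy]
    · right
      rw [Set.eq_univ_iff_forall]
      intro x
      have h2 : x ∈ AddSubgroup.toZModSubmodule p A := h1 ▸ Submodule.mem_top
      exact h2

end Cfsg.Agent.S0733
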