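import Cfsg.Statements.S0734


set_option autoImplicit false
open Cfsg

namespace Cfsg.Agent.S0734

open scoped Pointwise

/-- Higman's criterion for primitivity: a transitive action on a finite set is primitive if and only if every non-trivial orbital graph (edges = images of a fixed pair of distinct points) is connected. -/
theorem result {G : Type*} [Group G] {Ω : Type*} [Finite Ω] [MulAction G Ω] [MulAction.IsPretransitive G Ω] [Nontrivial Ω] : MulAction.IsPreprimitive G Ω ↔ ∀ a b : Ω, a ≠ b → (SimpleGraph.fromRel fun x y : Ω => ∃ g : G, g • a = x ∧ g • b = y).Connected := by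
  classical
  have hmap : ∀ a b : Ω, ∀ g : G, ∀ x y : Ω,
      (SimpleGraph.fromRel fun x y : Ω => ∃ h : G, h • a = x ∧ h • b = y).Reachable x y →
      (SimpleGraph.fromRel fun x y : Ω => ∃ h : G, h • a = x ∧ h • b = y).Reachable (g • x) (g • y) := by
    intro a b g x y h
    refine h.map ⟨(g • ·), ?_⟩
    intro u v huv
    rw [SimpleGraph.fromRel_adj] at huv ⊢
    refine ⟨fun e => huv.1 (smul_left_cancel g e), ?_⟩
    rcases huv.2 with ⟨k, hu, hv⟩ | ⟨k, hv, hu⟩
    · exact Or.inl ⟨g * k, by rw [mul_smul, hu], by rw [mul_smul, hv]⟩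
    · exact Or.inr ⟨g * k, by rw [mul_smul, hv], by rw [mul_smul, hu]⟩
  constructor
  · intro hG a b hab
    set Γ := SimpleGraph.fromRel fun x y : Ω => ∃ g : G, g • a = x ∧ g • b = y with hΓ
    have hsm : ∀ g : G, g • {x : Ω | Γ.Reachable a x} = {x | Γ.Reachable (g • a) x} := by
      intro g
      ext x
      rw [Set.mem_smul_set_iff_inv_smul_mem]
      refine ⟨fun h => ?_, fun h => ?_⟩
      · have := hmap a b g _ _ h
        rwa [smul_inv_smul] at this
      · have := hmap a b g⁻¹ _ _ h
        rwa [inv_smul_smul] at this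
    have hB : MulAction.IsBlock G {x : Ω | Γ.Reachable a x} := by
      rw [MulAction.isBlock_iff_smul_eq_of_mem]
      intro g x hx hgx
      rw [hsm]
      have h1 : Γ.Reachable (g • a) a := (hmap a b g _ _ hx).trans (SimpleGraph.Reachable.symm hgx)
      ext y
      exact ⟨fun h => h1.symm.trans h, fun h => h1.trans h⟩
    have hb : b ∈ {x : Ω | Γ.Reachable a x} :=
      SimpleGraph.Adj.reachable (by
        rw [SimpleGraph.fromRel_adj]
        exact ⟨hab, Or.inl ⟨1, one_smul G a, one_smul G b⟩⟩)
    rcases hG.isTrivialBlock_of_isBlock hB with h | h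
    · exact absurd (h (SimpleGraph.Reachable.refl a) hb) hab
    · haveI : Nonempty Ω := ⟨a⟩
      have hall : ∀ x, Γ.Reachable a x := fun x => by
        have : x ∈ {x : Ω | Γ.Reachable a x} := h ▸ Set.mem_univ x
        exact this
      exact ⟨fun x y => (hall x).symm.trans (hall y)⟩
  · intro h
    refine { isTrivialBlock_of_isBlock := fun {B} hB => ?_ }
    by_cases hs : B.Subsingleton
    · exact Or.inl hs
    right
    obtain ⟨a, ha, b, hb, hab⟩ := Set.not_subsingleton_iff.mp hs
    rw [Set.eq_univ_iff_forall]
    intro x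
    have hr := (h a b hab).preconnected a x
    rw [SimpleGraph.reachable_iff_reflTransGen] at hr
    induction hr with
    | refl => exact ha
    | @tail u v _ huv ih =>
      rw [SimpleGraph.fromRel_adj] at huv
      rcases huv.2 with ⟨g, hu, hv⟩ | ⟨g, hv, hu⟩
      · rw [← hu] at ih
        have := MulAction.isBlock_iff_smul_eq_of_mem.mp hB ha ih
        rw [← hv, ← this]
        exact Set.smul_mem_smul_set hb
      · rw [← hu] at ih
        have := MulAction.isBlock_iff_smul_eq_of_mem.mp hB hb ih
        rw [← hv, ← this]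
        exact Set.smul_mem_smul_set ha

end Cfsg.Agent.S0734
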