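import Cfsg.Statements.S0735
import Cfsg.Agent.Lib.Perm.Homogeneous

set_option autoImplicit false
open Cfsg

namespace Cfsg.Agent.S0735

open scoped Pointwise

/-- A 2-homogeneous permutation group (transitive on 2-subsets) of even order is doubly transitive; a non-trivial 2-homogeneous group is primitive. -/
theorem result {α : Type*} [Fintype α] [DecidableEq α] (G : Subgroup (Equiv.Perm α)) (h2 : MulAction.IsPretransitive G (Set.powersetCard α 2)) (hα : 3 ≤ Fintype.card α) : (Even (Nat.card G) → MulAction.IsMultiplyPretransitive G α 2) ∧ (G ≠ ⊥ → MulAction.IsPreprimitive G α) := by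
  refine ⟨Lib.Perm.two_transitive_of_homogeneous_even (Lib.Perm.homogeneous_pair h2), fun _ => ?_⟩
  have hom := Lib.Perm.homogeneous_pair h2
  have ht : MulAction.IsPretransitive G α := by
    refine ⟨fun x y => ?_⟩
    by_cases hxy : x = y
    · exact ⟨1, by rw [one_smul, hxy]⟩
    · obtain ⟨z, -, hz⟩ := Finset.exists_mem_notMem_of_card_lt_card (s := ({x, y} : Finset α))
        (t := Finset.univ) (by rw [Finset.card_pair hxy, Finset.card_univ]; omega)
      simp only [Finset.mem_insert, Finset.mem_singleton, not_or] at hz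
      obtain ⟨g, hg | hg⟩ := hom x z z y (Ne.symm hz.1) hz.2
      · exact ⟨g * g, by rw [mul_smul, hg.1, hg.2]⟩
      · exact ⟨g, hg.1⟩
  refine { isTrivialBlock_of_isBlock := fun {B} hB => ?_ }
  by_contra hnt
  rw [MulAction.IsTrivialBlock, not_or] at hnt
  obtain ⟨hns, hnu⟩ := hnt
  obtain ⟨a, ha, b, hb, hab⟩ := Set.not_subsingleton_iff.mp hns
  obtain ⟨c, hc⟩ := (Set.ne_univ_iff_exists_notMem B).mp hnu
  have hac : a ≠ c := fun e => hc (e ▸ ha)
  obtain ⟨g, hg⟩ := hom a b a c hab hac
  have haimg : a ∈ g • B := by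
    rcases hg with hg | hg
    · exact ⟨a, ha, hg.1⟩
    · exact ⟨b, hb, hg.2⟩
  have hcimg : c ∈ g • B := by
    rcases hg with hg | hg
    · exact ⟨b, hb, hg.2⟩
    · exact ⟨a, ha, hg.1⟩
  rw [MulAction.isBlock_iff_smul_eq_of_nonempty.mp hB ⟨a, haimg, ha⟩] at hcimg
  exact hc hcimg

end Cfsg.Agent.S0735
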