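import Cfsg.Statements.S0739
import Cfsg.Agent.Lib.OddLocal.ZassenhausTransfer
import Cfsg.Agent.Lib.OddLocal.ZassenhausDerive

set_option autoImplicit false
open Cfsg

namespace Cfsg.Agent.S0739

/-- In a finite Zassenhaus group whose two-point stabiliser `H = G_{a,b}` has odd order `d`, and which has no normal `q`-complement for any prime `q ∣ d`, `H` is cyclic, `C_G(H) = H`, and every element swapping `a` and `b` inverts each element of `H`. -/
theorem result {G Ω : Type*} [Group G] [Finite G] [MulAction G Ω] [Fintype Ω] (hZ : Cfsg.IsZassenhausGroup G Ω) {a b : Ω} (hab : a ≠ b) (hodd : Odd (Nat.card ↥(MulAction.stabilizer G a ⊓ MulAction.stabilizer G b))) (hnil : ∀ q : ℕ, q.Prime → q ∣ Nat.card ↥(MulAction.stabilizer G a ⊓ MulAction.stabilizer G b) → ¬ ∃ N : Subgroup G, N.Normal ∧ N.index = q ^ (Nat.card G).factorization q) : IsCyclic ↥(MulAction.stabilizer G a ⊓ MulAction.stabilizer G b) ∧ Subgroup.centralizer ((MulAction.stabilizer G a ⊓ MulAction.stabilizer G b : Subgroup G) :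 Set G) = MulAction.stabilizer G a ⊓ MulAction.stabilizer G b ∧ ∀ s : G, s • a = b → s • b = a → ∀ h ∈ MulAction.stabilizer G a ⊓ MulAction.stabilizer G b, s * h * s⁻¹ = h⁻¹ := by
  classical
  obtain ⟨H, K⟩ := Lib.OddLocal.ZassPSL.exists_ker hZ hab
  set E := (MulAction.stabilizer G a ⊓ MulAction.stabilizer G b : Subgroup G)
  have K' : Lib.Characters.ZOdd.ZKer G a b (Fintype.card Ω - 1) (Nat.card ↥E) H :=
    { zass := K.zass, hab := K.hab, hh := K.hh, he := K.he, hodd := hodd,
      hHa := K.hHa, hHcard := K.hHcard, hHfix := K.hHfix }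
  have hcom := Lib.OddLocal.ZassTransfer.pair_le_commutator K' hnil
    (Lib.OddLocal.ZassPSL.card_dvd K.toZData).1
  obtain ⟨w, hwa, hwb, -⟩ := K'.exists_swap
  have hinv : ∀ s : G, s • a = b → s • b = a → ∀ x ∈ E, s * x * s⁻¹ = x⁻¹ := by
    intro s hsa hsb x hx
    have h1 := Lib.OddLocal.ZassTransfer.conj_eq_inv_of_comm K' hcom (w := s⁻¹)
      (by rw [inv_smul_eq_iff]; exact hsb.symm) (by rw [inv_smul_eq_iff]; exact hsa.symm) hx
    rwa [inv_inv] at h1
  have hcomm : ∀ x y : E, x * y = y * x := by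
    intro x y
    have h1 := hinv w hwa hwb _ (mul_mem x.2 y.2)
    have h2 : w * ((x : G) * y) * w⁻¹ = (w * x * w⁻¹) * (w * y * w⁻¹) := by group
    rw [h2, hinv w hwa hwb _ x.2, hinv w hwa hwb _ y.2, mul_inv_rev] at h1
    have h3 := congrArg (·⁻¹) h1
    simp only [mul_inv_rev, inv_inv] at h3
    exact Subtype.ext h3.symm
  haveI := K'.isZGroup
  haveI : Group.IsNilpotent E :=
    letI : CommGroup E := { (inferInstance : Group E) with mul_comm := hcomm }
    inferInstance
  refine ⟨inferInstance, le_antisymm (fun g hg => ?_) (fun g hg => ?_), hinv⟩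
  · have hg' : ∀ x ∈ E, x * g = g * x := fun x hx => Subgroup.mem_centralizer_iff.mp hg x hx
    obtain ⟨x, hx, hx1⟩ := K.toZData.exists_ne_one_mem
    have hxa : x • a = a := (Subgroup.mem_inf.mp hx).1
    have hxb : x • b = b := (Subgroup.mem_inf.mp hx).2
    have hfix : ∀ c, x • c = c → c = a ∨ c = b := by
      intro c hc
      by_contra hne
      push Not at hne
      exact hx1 (K.three hab hne.2.symm hne.1.symm hxa hxb hc)
    rcases hfix (g • a) (by rw [← mul_smul, hg' x hx, mul_smul, hxa]) with ha | ha <;>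
      rcases hfix (g • b) (by rw [← mul_smul, hg' x hx, mul_smul, hxb]) with hb | hb
    · exact absurd (smul_left_cancel g (ha.trans hb.symm)) hab
    · exact Subgroup.mem_inf.mpr ⟨ha, hb⟩
    · have h1 := hinv g ha hb x hx
      rw [← hg' x hx, mul_inv_cancel_right] at h1
      refine absurd ?_ hx1
      have h2 : (⟨x, hx⟩ : E) ^ 2 = 1 := Subtype.ext (by
        show x ^ 2 = 1
        rw [pow_two]
        nth_rewrite 1 [h1]
        exact inv_mul_cancel x)
      have h3 := orderOf_dvd_of_pow_eq_one h2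
      rcases (Nat.dvd_prime Nat.prime_two).mp h3 with h4 | h4
      · exact congrArg Subtype.val (orderOf_eq_one_iff.mp h4)
      · exact absurd (even_iff_two_dvd.mpr (h4 ▸ orderOf_dvd_natCard (⟨x, hx⟩ : E))) (Nat.not_even_iff_odd.mpr hodd)
    · exact absurd (smul_left_cancel g (ha.trans hb.symm)) hab
  · exact Subgroup.mem_centralizer_iff.mpr fun x hx => congrArg Subtype.val (hcomm ⟨x, hx⟩ ⟨g, hg⟩)

end Cfsg.Agent.S0739
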