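import Cfsg.Statements.S0740
import Mathlib.GroupTheory.Perm.Cycle.Type
import Mathlib.GroupTheory.GroupAction.MultipleTransitivity

set_option autoImplicit false
open Cfsg

namespace Cfsg.Agent.S0740

/-- In a finite Zassenhaus group any two points `a ≠ b` are swapped by an involution; every such involution has exactly one fixed point when the degree is odd and 0 or 2 fixed points when the degree is even; and if the two-point stabiliser has even order, some such involution has exactly 2 fixed points. -/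
theorem result {G Ω : Type*} [Group G] [Finite G] [MulAction G Ω] [Fintype Ω] (hZ : Cfsg.IsZassenhausGroup G Ω) {a b : Ω} (hab : a ≠ b) : (∃ s : G, orderOf s = 2 ∧ s • a = b ∧ s • b = a) ∧ (∀ s : G, orderOf s = 2 → s • a = b → s • b = a → (Odd (Fintype.card Ω) → Nat.card (MulAction.fixedBy Ω s) = 1) ∧ (Even (Fintype.card Ω) → Nat.card (MulAction.fixedBy Ω s) = 0 ∨ Nat.card (MulAction.fixedBy Ω s) = 2)) ∧ (Even (Fintype.card Ω) → Even (Nat.card ↥(MulAction.stabilizer G a ⊓ MulAction.stabilizer G b)) → ∃ s : G, orderOf s = 2 ∧ s • a = b ∧ s • b = a ∧ Nat.card (MulAction.fixedBy Ω s) = 2) := by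
  classical
  obtain ⟨hfaith, h2, h3, -, -⟩ := hZ
  haveI := hfaith
  haveI := h2
  have hswap : ∀ t : G, orderOf t = 2 → ∃ h : G, (h * t * h⁻¹) • a = b ∧ (h * t * h⁻¹) • b = a := by
    intro t ht
    obtain ⟨x, hx⟩ : ∃ x : Ω, t • x ≠ x := by
      by_contra hall
      simp only [not_exists, not_not] at hall
      have : t = 1 := eq_of_smul_eq_smul fun x => (hall x).trans (one_smul G x).symm
      rw [this, orderOf_one] at ht
      omega
    obtain ⟨h, hh⟩ := MulAction.exists_smul_eq G
      (⟨![x, t • x], by intro i j; fin_cases i <;> fin_cases j <;> simp [hx, Ne.symm hx]⟩ : Fin 2 ↪ Ω)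
      (⟨![a, b], by intro i j; fin_cases i <;> fin_cases j <;> simp [hab, hab.symm]⟩ : Fin 2 ↪ Ω)
    have e0 : h • x = a := DFunLike.congr_fun hh 0
    have e1 : h • t • x = b := DFunLike.congr_fun hh 1
    have ht2 : t * t = 1 := by rw [← sq, ← ht, pow_orderOf_eq_one]
    refine ⟨h, ?_, ?_⟩
    · rw [← e0, mul_smul, mul_smul, inv_smul_smul, e1]
    · rw [← e1, mul_smul, mul_smul, inv_smul_smul, ← mul_smul t t, ht2, one_smul, e0]
  have hord : ∀ (h t : G), orderOf (h * t * h⁻¹) = orderOf t := fun h t =>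
    MulEquiv.orderOf_eq (MulAut.conj h) t
  have hle : ∀ s : G, s ≠ 1 → Nat.card (MulAction.fixedBy Ω s) ≤ 2 := by
    intro s hs
    rw [Nat.card_coe_set_eq]
    by_contra hlt
    obtain ⟨u, v, w, hu, hv, hw, huv, huw, hvw⟩ := (Set.two_lt_ncard_iff (Set.toFinite _)).1 (by omega : 2 < (MulAction.fixedBy Ω s).ncard)
    exact hs (h3 s u v w huv hvw huw hu hv hw)
  have hpar : ∀ s : G, orderOf s = 2 → Even (Fintype.card Ω + Nat.card (MulAction.fixedBy Ω s)) := by
    intro s hs
    haveI : Fact (Nat.Prime 2) := ⟨Nat.prime_two⟩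
    haveI : Fintype (MulAction.fixedBy Ω s) := Fintype.ofFinite _
    have e : MulAction.toPermHom G Ω s ^ 2 ^ 1 = 1 := by rw [← map_pow, pow_one, ← hs, pow_orderOf_eq_one, map_one]
    have hm := Equiv.Perm.card_compl_support_modEq (p := 2) (n := 1) e
    have hc : ((MulAction.toPermHom G Ω s).supportᶜ).card = Nat.card (MulAction.fixedBy Ω s) := by
      rw [Nat.card_eq_fintype_card, ← Set.toFinset_card]
      congr 1
      ext z
      simp [MulAction.mem_fixedBy]
    rw [hc, Nat.ModEq] at hm
    rw [Nat.even_iff]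
    omega
  refine ⟨?_, ?_, ?_⟩
  · haveI : Fact (Nat.Prime 2) := ⟨Nat.prime_two⟩
    obtain ⟨g, hg⟩ := MulAction.exists_smul_eq G
      (⟨![a, b], by intro i j; fin_cases i <;> fin_cases j <;> simp [hab, hab.symm]⟩ : Fin 2 ↪ Ω)
      (⟨![b, a], by intro i j; fin_cases i <;> fin_cases j <;> simp [hab, hab.symm]⟩ : Fin 2 ↪ Ω)
    have ga : g • a = b := DFunLike.congr_fun hg 0
    have gb : g • b = a := DFunLike.congr_fun hg 1
    have heven : 2 ∣ orderOf g := by
      by_contra ho
      obtain ⟨k, hk⟩ : ∃ k, orderOf g = 2 * k + 1 := ⟨orderOf g / 2, by omega⟩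
      have h1 : ∀ j, g ^ (2 * j + 1) • a = b := by
        intro j
        induction j with
        | zero => simpa using ga
        | succ j ih => rw [show 2 * (j + 1) + 1 = (2 * j + 1) + 1 + 1 by ring, pow_succ', pow_succ', mul_smul, mul_smul, ih, gb, ga]
      have := h1 k
      rw [← hk, pow_orderOf_eq_one, one_smul] at this
      exact hab this
    obtain ⟨t, ht⟩ := exists_prime_orderOf_dvd_card' (G := G) 2 (heven.trans (orderOf_dvd_natCard g))
    obtain ⟨h, e1, e2⟩ := hswap t ht
    exact ⟨_, (hord h t).trans ht, e1, e2⟩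
  · intro s hs e1 e2
    have hs1 : s ≠ 1 := fun e => by rw [e, orderOf_one] at hs; omega
    have h4 := hle s hs1
    have h5 := Nat.even_iff.1 (hpar s hs)
    refine ⟨fun ho => ?_, fun he => ?_⟩
    · have := Nat.odd_iff.1 ho
      omega
    · have := Nat.even_iff.1 he
      omega
  · intro he hev
    haveI : Fact (Nat.Prime 2) := ⟨Nat.prime_two⟩
    obtain ⟨t, ht⟩ := exists_prime_orderOf_dvd_card' (G := ↥(MulAction.stabilizer G a ⊓ MulAction.stabilizer G b)) 2 hev.two_dvd
    rw [← Subgroup.orderOf_coe] at ht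
    obtain ⟨h, e1, e2⟩ := hswap t ht
    refine ⟨_, (hord h t).trans ht, e1, e2, le_antisymm (hle _ fun e => ?_) ?_⟩
    · have := (hord h t).trans ht
      rw [e, orderOf_one] at this
      omega
    · rw [Nat.card_coe_set_eq]
      have hsub : ({h • a, h • b} : Set Ω) ⊆ MulAction.fixedBy Ω (h * (t : G) * h⁻¹) := by
        rintro z (rfl | rfl) <;> rw [MulAction.mem_fixedBy, mul_smul, mul_smul, inv_smul_smul]
        · rw [MulAction.mem_stabilizer_iff.1 t.2.1]
        · rw [MulAction.mem_stabilizer_iff.1 t.2.2]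
      have h6 := Set.ncard_le_ncard hsub (Set.toFinite _)
      rwa [Set.ncard_pair (fun e => hab (smul_left_cancel h e))] at h6

end Cfsg.Agent.S0740
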