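import Cfsg.Statements.S0754
-- import your own Cfsg.Agent.* helpers here

set_option autoImplicit false
open Cfsg

namespace Cfsg.Agent.S0754

/-- In a field F with q^2 elements, every non-zero μ with μ^q = μ (that is, μ in the subfield of order q) has exactly q + 1 solutions λ of λ^(q+1) = μ. -/
theorem result {F : Type*} [Field F] [Fintype F] {q : ℕ} (hF : Fintype.card F = q ^ 2) (μ : F) (hμ : μ ≠ 0) (hμq : μ ^ q = μ) : Nat.card {x : F // x ^ (q + 1) = μ} = q + 1 := by
  classical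
  have hq0 : q ≠ 0 := by
    rintro rfl
    have := Fintype.card_pos (α := F)
    rw [hF] at this
    simp at this
  obtain ⟨g, hg⟩ := IsCyclic.exists_generator (α := Fˣ)
  have hord : orderOf g = q ^ 2 - 1 := by
    rw [orderOf_eq_card_of_forall_mem_zpowers hg, Nat.card_units, Nat.card_eq_fintype_card, hF]
  obtain ⟨r, rfl⟩ := Nat.exists_eq_succ_of_ne_zero hq0
  simp only [Nat.succ_eq_add_one] at *
  have hr : 0 < r := by
    rcases Nat.eq_zero_or_pos r with rfl | h
    · have := Fintype.one_lt_card (α := F)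
      rw [hF] at this
      simp at this
    · exact h
  have hfac : (r + 1) ^ 2 - 1 = (r + 1 + 1) * r := by
    have : (r + 1) ^ 2 = (r + 1 + 1) * r + 1 := by ring
    omega
  obtain ⟨k, -, hk⟩ : ∃ k, k < orderOf g ∧ g ^ k = Units.mk0 μ hμ := by
    have h := (hg (Units.mk0 μ hμ))
    rw [mem_zpowers_iff_mem_range_orderOf] at h
    simpa using h
  have hμr : (Units.mk0 μ hμ) ^ r = 1 := by
    apply Units.ext
    have h : μ ^ r * μ = 1 * μ := by rw [← pow_succ, hμq, one_mul]
    simpa using mul_right_cancel₀ hμ h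
  have hdvd : (r + 1 + 1) ∣ k := by
    rw [← hk, ← pow_mul, ← orderOf_dvd_iff_pow_eq_one, hord, hfac] at hμr
    exact Nat.dvd_of_mul_dvd_mul_right hr hμr
  obtain ⟨j, rfl⟩ := hdvd
  set x₀ : Fˣ := g ^ j with hx₀
  have hx : x₀ ^ (r + 1 + 1) = Units.mk0 μ hμ := by rw [← hk, hx₀, ← pow_mul, mul_comm]
  have hne : ∀ x : F, x ^ (r + 1 + 1) = μ → x ≠ 0 := by
    rintro x h rfl
    simp at h
    exact hμ h.symm
  let e : {x : F // x ^ (r + 1 + 1) = μ} ≃ (powMonoidHom (r + 1 + 1) : Fˣ →* Fˣ).ker :=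
    { toFun := fun x => ⟨x₀⁻¹ * Units.mk0 x.1 (hne _ x.2), by
        have h1 : (Units.mk0 x.1 (hne _ x.2)) ^ (r + 1 + 1) = Units.mk0 μ hμ :=
          Units.ext (by simpa using x.2)
        rw [MonoidHom.mem_ker, powMonoidHom_apply, mul_pow, inv_pow, hx, h1, inv_mul_cancel]⟩
      invFun := fun u => ⟨((x₀ * u.1 : Fˣ) : F), by
        have h1 : (u.1) ^ (r + 1 + 1) = 1 := u.2
        have h2 : (x₀ * u.1) ^ (r + 1 + 1) = Units.mk0 μ hμ := by rw [mul_pow, hx, h1, mul_one]
        exact congrArg Units.val h2⟩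
      left_inv := fun x => Subtype.ext (by simp)
      right_inv := fun u => Subtype.ext (Units.ext (by simp)) }
  rw [Nat.card_congr e, IsCyclic.card_powMonoidHom_ker, Nat.card_units, Nat.card_eq_fintype_card,
    hF, hfac, Nat.gcd_mul_right_left]

end Cfsg.Agent.S0754
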