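import Cfsg.Statements.S0757
-- import your own Cfsg.Agent.* helpers here

set_option autoImplicit false
open Cfsg

namespace Cfsg.Agent.S0757

/-- The two diagonal forms Σ x_i^2 and Σ_(i<n) x_i^2 + α x_n^2 on F^(n+1), with α a non-square and 2 ≠ 0 in F, are inequivalent quadratic forms (so over a finite field of odd order there are exactly two classes of non-singular symmetric bilinear forms in each dimension). -/
theorem result {F : Type*} [Field F] (h2 : (2 : F) ≠ 0) (n : ℕ) (α : F) (hα : ¬ IsSquare α) : ¬ (QuadraticMap.weightedSumSquares F (fun _ : Fin (n + 1) => (1 : F))).Equivalent (QuadraticMap.weightedSumSquares F (fun i : Fin (n + 1) => if i = Fin.last n then α else (1 : F))) := by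
  classical
  rintro ⟨g⟩
  set G : Matrix (Fin (n + 1)) (Fin (n + 1)) F := LinearMap.toMatrix' (g.toLinearEquiv : (Fin (n + 1) → F) →ₗ[F] (Fin (n + 1) → F)) with hG
  let d : Fin (n + 1) → F := fun i => if i = Fin.last n then α else 1
  have hpol : ∀ (w : Fin (n + 1) → F) (x y : Fin (n + 1) → F),
      QuadraticMap.polar (QuadraticMap.weightedSumSquares F w) x y = 2 * ∑ k, w k * (x k * y k) := by
    intro w x y
    simp only [QuadraticMap.polar, QuadraticMap.weightedSumSquares_apply, Pi.add_apply,
      smul_eq_mul, ← Finset.sum_sub_distrib, Finset.mul_sum]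
    exact Finset.sum_congr rfl fun k _ => by ring
  have hGi : ∀ k i, G k i = g (Pi.single i 1) k := fun k i => by
    rw [hG, LinearMap.toMatrix'_apply]
    rfl
  have key : Matrix.transpose G * Matrix.diagonal d * G = 1 := by
    ext i j
    have h : QuadraticMap.polar (QuadraticMap.weightedSumSquares F d)
        (g (Pi.single i 1)) (g (Pi.single j 1)) =
      QuadraticMap.polar (QuadraticMap.weightedSumSquares F (fun _ : Fin (n + 1) => (1 : F)))
        (Pi.single i 1) (Pi.single j 1) := by
      simp only [QuadraticMap.polar, ← g.map_app, map_add, d]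
    rw [hpol, hpol] at h
    have h' := mul_left_cancel₀ h2 h
    rw [Matrix.mul_apply, Matrix.one_apply]
    simp only [Matrix.mul_diagonal, Matrix.transpose_apply, hGi]
    calc (∑ k, g (Pi.single i 1) k * d k * g (Pi.single j 1) k)
        = ∑ k, d k * (g (Pi.single i 1) k * g (Pi.single j 1) k) :=
          Finset.sum_congr rfl fun k _ => by ring
      _ = _ := by rw [h']; simp [Pi.single_apply, eq_comm]
  have hdet := congrArg Matrix.det key
  rw [Matrix.det_mul, Matrix.det_mul, Matrix.det_transpose, Matrix.det_diagonal, Matrix.det_one]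
    at hdet
  have hprod : ∏ i, d i = α := by simp [d, Fin.prod_univ_castSucc]
  rw [hprod] at hdet
  refine hα ⟨G.det⁻¹, ?_⟩
  have hG0 : G.det ≠ 0 := fun h => by simp [h] at hdet
  field_simp
  linear_combination hdet

end Cfsg.Agent.S0757
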