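import Cfsg.Statements.S0758
-- import your own Cfsg.Agent.* helpers here

set_option autoImplicit false
open Cfsg

namespace Cfsg.Agent.S0758

/-- For a finite field F of odd order q and a non-square α: the form x² + y² is isotropic iff q ≡ 1 mod 4, and the form x² + α y² is isotropic iff q ≡ 3 mod 4. -/
theorem result {F : Type*} [Field F] [Fintype F] (h2 : (2 : F) ≠ 0) (α : F) (hα : ¬ IsSquare α) : ((∃ x y : F, (x ≠ 0 ∨ y ≠ 0) ∧ x ^ 2 + y ^ 2 = 0) ↔ Fintype.card F % 4 = 1) ∧ ((∃ x y : F, (x ≠ 0 ∨ y ≠ 0) ∧ x ^ 2 + α * y ^ 2 = 0) ↔ Fintype.card F % 4 = 3) := by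
  have hchar : ringChar F ≠ 2 := fun h => h2 (by
    have h3 : ((2 : ℕ) : F) = 0 := by rw [← h]; exact ringChar.Nat.cast_ringChar
    exact_mod_cast h3)
  have hodd := FiniteField.odd_card_of_char_ne_two hchar
  have hm := FiniteField.isSquare_neg_one_iff (F := F)
  have h1 : (∃ x y : F, (x ≠ 0 ∨ y ≠ 0) ∧ x ^ 2 + y ^ 2 = 0) ↔ IsSquare (-1 : F) := by
    constructor
    · rintro ⟨x, y, hne, h⟩
      have hy : y ≠ 0 := by
        rintro rfl
        simp_all
      exact ⟨x / y, by field_simp; linear_combination -h⟩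
    · rintro ⟨r, hr⟩
      exact ⟨r, 1, Or.inr one_ne_zero, by linear_combination -hr⟩
  have h3 : (∃ x y : F, (x ≠ 0 ∨ y ≠ 0) ∧ x ^ 2 + α * y ^ 2 = 0) ↔ IsSquare (-α : F) := by
    constructor
    · rintro ⟨x, y, hne, h⟩
      have hy : y ≠ 0 := by
        rintro rfl
        simp_all
      exact ⟨x / y, by field_simp; linear_combination -h⟩
    · rintro ⟨r, hr⟩
      exact ⟨r, 1, Or.inr one_ne_zero, by linear_combination -hr⟩
  have h4 : IsSquare (-α : F) ↔ ¬ IsSquare (-1 : F) := by
    classical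
    have e1 : quadraticChar F (-α) = quadraticChar F (-1) * quadraticChar F α := by
      rw [← map_mul, neg_one_mul]
    have e2 : quadraticChar F α = -1 := quadraticChar_neg_one_iff_not_isSquare.mpr hα
    have hα0 : α ≠ 0 := by
      rintro rfl
      exact hα IsSquare.zero
    rw [← quadraticChar_one_iff_isSquare (neg_ne_zero.mpr hα0),
      ← quadraticChar_neg_one_iff_not_isSquare, e1, e2]
    constructor <;> intro h <;> omega
  rw [h1, h3, h4, hm]
  obtain ⟨k, hk⟩ := Nat.odd_iff.mpr hodd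
  constructor <;> omega

end Cfsg.Agent.S0758
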