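import Cfsg.Statements.S0759
import Cfsg.Agent.Lib.Geometry.SymmDiscr
-- import your own Cfsg.Agent.* helpers here

set_option autoImplicit false
open Cfsg

namespace Cfsg.Agent.S0759

/-- Type of the orthonormal form: over a finite field of odd order q and for m ≥ 1, the quadratic form Σ_(i<2m) x_i² on F^(2m) admits an m-dimensional subspace on which it vanishes identically if and only if it is not the case that q ≡ 3 (mod 4) and m is odd. -/
theorem result {F : Type*} [Field F] [Fintype F] (h2 : (2 : F) ≠ 0) (m : ℕ) (hm : 1 ≤ m) : (∃ W : Submodule F (Fin (2 * m) → F), Module.finrank F W = m ∧ ∀ w ∈ W, ∑ i, w i ^ 2 = 0) ↔ ¬ (Fintype.card F % 4 = 3 ∧ Odd m) := by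
  classical
  set B : LinearMap.BilinForm F (Fin (2 * m) → F) := Matrix.toBilin' 1 with hB
  have happ : ∀ x y, B x y = ∑ i, x i * y i := fun x y => by
    simp [hB, Matrix.toBilin'_apply', dotProduct]
  have hS : B.IsSymm := ⟨fun x y => by simp [happ, mul_comm]⟩
  have hnd : B.Nondegenerate := LinearMap.BilinForm.nondegenerate_toBilin'_of_det_ne_zero' _ (by simp)
  have hdet : (LinearMap.BilinForm.toMatrix (Pi.basisFun F (Fin (2 * m))) B).det = 1 := by
    have : LinearMap.BilinForm.toMatrix (Pi.basisFun F (Fin (2 * m))) B = 1 := by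
      ext i j
      simp [LinearMap.BilinForm.toMatrix_apply, happ, Matrix.one_apply, Pi.single_apply, eq_comm]
    rw [this, Matrix.det_one]
  have key := Cfsg.Agent.Lib.Geometry.half_isotropic_iff B hS hnd h2 hm (by simp) (Pi.basisFun F (Fin (2 * m)))
  rw [hdet, mul_one] at key
  trans IsSquare ((-1 : F) ^ m)
  · rw [← key]
    constructor
    · rintro ⟨W, hW, h0⟩
      refine ⟨W, hW, fun x hx y hy => ?_⟩
      have h1 := h0 _ (W.add_mem hx hy)
      simp only [Pi.add_apply, add_sq, Finset.sum_add_distrib, h0 x hx, h0 y hy, zero_add,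
        add_zero] at h1
      rw [Finset.sum_congr rfl (fun i _ => mul_assoc 2 (x i) (y i)), ← Finset.mul_sum,
        mul_eq_zero] at h1
      rw [happ]
      exact h1.resolve_left h2
    · rintro ⟨W, hW, h0⟩
      exact ⟨W, hW, fun w hw => by simpa [happ, sq] using h0 w hw w hw⟩
  · rcases Nat.even_or_odd m with he | ho
    · simp [he.neg_one_pow, Nat.not_odd_iff_even.mpr he]
    · rw [ho.neg_one_pow, FiniteField.isSquare_neg_one_iff]
      simp [ho]

end Cfsg.Agent.S0759
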