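import Cfsg.Statements.S0760
import Cfsg.Agent.Lib.Geometry.WittQuadratic
-- import your own Cfsg.Agent.* helpers here

set_option autoImplicit false
open Cfsg

namespace Cfsg.Agent.S0760

/-- Witt index is well defined: if Q is a quadratic form on a finite-dimensional space V over a finite field with non-degenerate polar form, and W₁, W₂ are subspaces on which Q vanishes that are maximal with this property, then W₁ and W₂ have the same dimension, and twice this dimension is at most dim V. -/
theorem result {F V : Type*} [Field F] [Finite F] [AddCommGroup V] [Module F V] [FiniteDimensional F V] (Q : QuadraticForm F V) (hQ : (QuadraticMap.polarBilin Q).Nondegenerate) (W₁ W₂ : Submodule F V) (h₁ : ∀ w ∈ W₁, Q w = 0) (h₂ : ∀ w ∈ W₂, Q w = 0) (hmax₁ : ∀ W : Submodule F V, W₁ ≤ W → (∀ w ∈ W, Q w = 0) → W = W₁) (hmax₂ : ∀ W : Submodule F V, W₂ ≤ W → (∀ w ∈ W, Q w = 0) → W = W₂) : Module.finrank F W₁ = Module.finrank F W₂ ∧ 2 * Module.finrank F W₁ ≤ Module.finrank F V := by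
  classical
  have key : ∀ W₁ W₂ : Submodule F V, (∀ w ∈ W₁, Q w = 0) → (∀ w ∈ W₂, Q w = 0) →
      (∀ W : Submodule F V, W₁ ≤ W → (∀ w ∈ W, Q w = 0) → W = W₁) →
      Module.finrank F W₁ ≤ Module.finrank F W₂ →
      Module.finrank F W₂ ≤ Module.finrank F W₁ := by
    intro W₁ W₂ h₁ h₂ hmax hle
    let b₁ := Module.finBasis F W₁
    let b₂ := Module.finBasis F W₂
    let φ : W₁ →ₗ[F] V := W₂.subtype ∘ₗ b₁.constr F (fun i => b₂ (Fin.castLE hle i))
    have hinj : Function.Injective φ := by
      refine W₂.injective_subtype.comp ?_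
      rw [injective_iff_map_eq_zero]
      intro x hx
      rw [Module.Basis.constr_apply_fintype] at hx
      have h := Fintype.linearIndependent_iff.mp
        (b₂.linearIndependent.comp _ (Fin.castLE_injective hle)) (b₁.equivFun x) hx
      exact b₁.equivFun.map_eq_zero_iff.mp (funext h)
    obtain ⟨g, hg, hgφ⟩ := Lib.Geometry.witt_quadratic Q hQ W₁ φ hinj
      (fun x => by rw [h₁ x x.2]; exact h₂ _ (Subtype.property _))
    have hW : W₁ ≤ W₂.map (g.symm : V →ₗ[F] V) := fun x hx =>
      ⟨φ ⟨x, hx⟩, Subtype.property _, by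
        rw [← hgφ ⟨x, hx⟩]
        exact g.symm_apply_apply x⟩
    have hEq := hmax _ hW (by
      rintro _ ⟨w, hw, rfl⟩
      rw [← hg, show g ((g.symm : V →ₗ[F] V) w) = w from g.apply_symm_apply w]
      exact h₂ w hw)
    rw [← hEq, LinearEquiv.finrank_map_eq]
  have hdim : Module.finrank F W₁ = Module.finrank F W₂ := by
    rcases le_total (Module.finrank F W₁) (Module.finrank F W₂) with hle | hle
    · exact le_antisymm hle (key W₁ W₂ h₁ h₂ hmax₁ hle)
    · exact le_antisymm (key W₂ W₁ h₂ h₁ hmax₂ hle) hle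
  refine ⟨hdim, ?_⟩
  have hperp : W₁ ≤ LinearMap.BilinForm.orthogonal (QuadraticMap.polarBilin Q) W₁ := by
    intro x hx n hn
    show QuadraticMap.polarBilin Q n x = 0
    rw [QuadraticMap.polarBilin_apply_apply]
    simp only [QuadraticMap.polar, h₁ x hx, h₁ n hn, h₁ _ (W₁.add_mem hn hx), sub_zero]
  have h := LinearMap.BilinForm.finrank_orthogonal hQ W₁
  have h' := Submodule.finrank_mono hperp
  have h'' := Submodule.finrank_le W₁
  omega

end Cfsg.Agent.S0760
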