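import Cfsg.Statements.S0761
import Cfsg.Agent.Lib.Geometry.WittAlternating
-- import your own Cfsg.Agent.* helpers here

set_option autoImplicit false
open Cfsg

namespace Cfsg.Agent.S0761

/-- Hyperbolic partners: let B be a non-degenerate bilinear form on a finite-dimensional space, either alternating, or symmetric with 2 ≠ 0. If Z is a subspace on which B vanishes, x ∉ Z is isotropic and orthogonal to Z, then there is an isotropic y with B x y = 1 which is orthogonal to Z. -/
theorem result {F V : Type*} [Field F] [AddCommGroup V] [Module F V] [FiniteDimensional F V] (B : LinearMap.BilinForm F V) (hB : B.Nondegenerate) (hform : B.IsAlt ∨ (B.IsSymm ∧ (2 : F) ≠ 0)) (x : V) (Z : Submodule F V) (hxZ : x ∉ Z) (hx : B x x = 0) (hxz : ∀ z ∈ Z, B x z = 0) (hZ : ∀ z ∈ Z, ∀ z' ∈ Z, B z z' = 0) : ∃ y : V, B y y = 0 ∧ B x y = 1 ∧ ∀ z ∈ Z, B z y = 0 := by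
  obtain ⟨u, hu, hux⟩ := Lib.Geometry.exists_perp_apply_eq_one B hB Z hxZ
  rcases hform with hA | ⟨hS, h2⟩
  · refine ⟨-u, ?_, ?_, fun z hz => ?_⟩
    · rw [map_neg, map_neg, LinearMap.neg_apply, hA u, neg_zero, neg_zero]
    · rw [map_neg, ← hA.neg_eq u x, neg_neg, hux]
    · rw [map_neg, ← hA.neg_eq u z, neg_neg, hu z hz]
  · refine ⟨u - (B u u / 2) • x, ?_, ?_, fun z hz => ?_⟩
    · have h1 : B x u = 1 := by rw [hS.eq, hux]
      simp only [map_sub, map_smul, LinearMap.sub_apply, LinearMap.smul_apply, smul_eq_mul, hx,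
        hux, h1]
      field_simp
      ring
    · rw [map_sub, map_smul, hS.eq x u, hux, hx, smul_zero, sub_zero]
    · rw [map_sub, map_smul, hS.eq z u, hu z hz, hS.eq z x, hxz z hz, smul_zero, sub_zero]

end Cfsg.Agent.S0761
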