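import Cfsg.Statements.S0762
-- import your own Cfsg.Agent.* helpers here

set_option autoImplicit false
open Cfsg

namespace Cfsg.Agent.S0762

/-- In characteristic two over a finite field, a quadratic form on a space of dimension at least 3 vanishes on some non-zero vector. -/
theorem result {F V : Type*} [Field F] [Finite F] [CharP F 2] [AddCommGroup V] [Module F V] [FiniteDimensional F V] (Q : QuadraticForm F V) (h3 : 3 ≤ Module.finrank F V) : ∃ v : V, v ≠ 0 ∧ Q v = 0 := by
  classical
  have hsq : ∀ a : F, IsSquare a := fun a =>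
    FiniteField.isSquare_of_char_two (ringChar.eq F 2) a
  have hpos : ∃ e : V, e ≠ 0 := by
    haveI : Nontrivial V := Module.nontrivial_of_finrank_pos (R := F) (by omega)
    exact exists_ne 0
  obtain ⟨e, he⟩ := hpos
  by_cases hQe : Q e = 0
  · exact ⟨e, he, hQe⟩
  have hK : 2 ≤ Module.finrank F (LinearMap.ker (QuadraticMap.polarBilin Q e)) := by
    have h := LinearMap.finrank_range_add_finrank_ker (QuadraticMap.polarBilin Q e)
    have h' := Submodule.finrank_le (LinearMap.range (QuadraticMap.polarBilin Q e))
    rw [Module.finrank_self] at h'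
    omega
  have hnot : ¬ LinearMap.ker (QuadraticMap.polarBilin Q e) ≤ Submodule.span F {e} := fun hle => by
    have h := Submodule.finrank_mono hle
    rw [finrank_span_singleton he] at h
    omega
  obtain ⟨f, hf, hfe⟩ := SetLike.not_le_iff_exists.mp hnot
  rw [LinearMap.mem_ker, QuadraticMap.polarBilin_apply_apply] at hf
  obtain ⟨a, ha⟩ := hsq (Q f / Q e)
  refine ⟨a • e + f, fun h0 => hfe ?_, ?_⟩
  · rw [eq_neg_of_add_eq_zero_right h0]
    exact Submodule.neg_mem _ (Submodule.smul_mem _ _ (Submodule.mem_span_singleton_self e))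
  · rw [QuadraticMap.map_add (f := (⇑Q)), QuadraticMap.map_smul, QuadraticMap.polar_smul_left, hf, smul_zero,
      add_zero, smul_eq_mul, ← ha, div_mul_cancel₀ _ hQe]
    exact CharTwo.add_self_eq_zero _

end Cfsg.Agent.S0762
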