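import Cfsg.Statements.S0763
-- import your own Cfsg.Agent.* helpers here

set_option autoImplicit false
open Cfsg

namespace Cfsg.Agent.S0763

/-- Binary quadratic forms in characteristic two over a finite field: if Q is a quadratic form on a 2-dimensional space whose polar form is non-degenerate, then either there are vectors v, w with Q v = Q w = 0 and polar value 1 (Q is xy in these coordinates), or there are v, w and μ with Q v = 1, Q w = μ, polar value 1 and x² + x + μ without roots in F (Q is x² + xy + μy²). -/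
theorem result {F V : Type*} [Field F] [Finite F] [CharP F 2] [AddCommGroup V] [Module F V] (Q : QuadraticForm F V) (h2 : Module.finrank F V = 2) (hQ : (QuadraticMap.polarBilin Q).Nondegenerate) : (∃ v w : V, LinearIndependent F ![v, w] ∧ Q v = 0 ∧ Q w = 0 ∧ QuadraticMap.polar Q v w = 1) ∨ (∃ (v w : V) (μ : F), LinearIndependent F ![v, w] ∧ (∀ x : F, x ^ 2 + x + μ ≠ 0) ∧ Q v = 1 ∧ Q w = μ ∧ QuadraticMap.polar Q v w = 1) := by
  classical
  haveI : FiniteDimensional F V := Module.finite_of_finrank_eq_succ h2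
  have hpvv : ∀ v : V, QuadraticMap.polar Q v v = 0 := fun v => by
    rw [QuadraticMap.polar_self, two_smul, CharTwo.add_self_eq_zero]
  have hpartner : ∀ v : V, v ≠ 0 → ∃ w, QuadraticMap.polar Q v w = 1 := fun v hv => by
    obtain ⟨u, hu⟩ : ∃ u, QuadraticMap.polar Q v u ≠ 0 := by
      by_contra h
      push Not at h
      exact hv (hQ.1 v fun u => h u)
    exact ⟨(QuadraticMap.polar Q v u)⁻¹ • u, by
      rw [QuadraticMap.polar_smul_right, smul_eq_mul, inv_mul_cancel₀ hu]⟩
  have hli : ∀ v w : V, v ≠ 0 → QuadraticMap.polar Q v w = 1 → LinearIndependent F ![v, w] := by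
    intro v w hv hvw
    refine (LinearIndependent.pair_iff' hv).mpr fun a ha => one_ne_zero (α := F) ?_
    rw [← hvw, ← ha, QuadraticMap.polar_smul_right, hpvv, smul_zero]
  by_cases h : ∃ v : V, v ≠ 0 ∧ Q v = 0
  · left
    obtain ⟨v, hv, hv0⟩ := h
    obtain ⟨w, hw⟩ := hpartner v hv
    have hw' : QuadraticMap.polar Q v (w + (-Q w) • v) = 1 := by
      rw [QuadraticMap.polar_add_right, QuadraticMap.polar_smul_right, hpvv, smul_zero, add_zero, hw]
    refine ⟨v, w + (-Q w) • v, hli _ _ hv hw', hv0, ?_, hw'⟩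
    rw [QuadraticMap.map_add Q, QuadraticMap.map_smul, hv0, QuadraticMap.polar_smul_right,
      QuadraticMap.polar_comm, hw]
    simp
  · right
    push Not at h
    haveI : Nontrivial V := Module.nontrivial_of_finrank_pos (R := F) (by omega)
    obtain ⟨v₀, hv₀⟩ := exists_ne (0 : V)
    obtain ⟨s, hs⟩ := FiniteField.isSquare_of_char_two (ringChar.eq F 2) (Q v₀)
    have hs0 : s ≠ 0 := fun h0 => h v₀ hv₀ (by rw [hs, h0, mul_zero])
    set v := s⁻¹ • v₀ with hvdef
    have hv : v ≠ 0 := smul_ne_zero (inv_ne_zero hs0) hv₀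
    have hQv : Q v = 1 := by
      rw [hvdef, QuadraticMap.map_smul, hs, smul_eq_mul]
      field_simp
    obtain ⟨w, hw⟩ := hpartner v hv
    refine ⟨v, w, Q w, hli v w hv hw, fun x hx => ?_, hQv, rfl, hw⟩
    refine h (x • v + w) (fun h0 => one_ne_zero (α := F) ?_) ?_
    · have h1 : w = -(x • v) := eq_neg_of_add_eq_zero_right h0
      rw [← hw, h1, ← neg_smul, QuadraticMap.polar_smul_right, hpvv, smul_zero]
    · rw [QuadraticMap.map_add Q, QuadraticMap.map_smul, hQv, QuadraticMap.polar_smul_left, hw]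
      linear_combination (norm := (simp; ring)) hx

end Cfsg.Agent.S0763
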