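import Cfsg.Statements.S0766
import Cfsg.Agent.Lib.Classical.SympSimple
import Cfsg.Agent.S0765
-- import your own Cfsg.Agent.* helpers here

set_option autoImplicit false
open Cfsg

namespace Cfsg.Agent.S0766

/-- The subgroup generated by the symplectic transvections acts transitively on ordered pairs (u, v) with f(u, v) = 1. -/
theorem result {F : Type*} [Field F] (m : ℕ) (u v u' v' : Fin m ⊕ Fin m → F) (h : Cfsg.sympForm m F u v = 1) (h' : Cfsg.sympForm m F u' v' = 1) : ∃ A ∈ Subgroup.closure {A : Matrix.symplecticGroup (Fin m) F | ∃ (w : Fin m ⊕ Fin m → F) (c : F), (A : Matrix (Fin m ⊕ Fin m) (Fin m ⊕ Fin m) F) = Cfsg.sympTransvection m w c}, (A : Matrix (Fin m ⊕ Fin m) (Fin m ⊕ Fin m) F).mulVec u = u' ∧ (A : Matrix (Fin m ⊕ Fin m) (Fin m ⊕ Fin m) F).mulVec v = v' := by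
  have hu : u ≠ 0 := by
    rintro rfl
    simp [Cfsg.sympForm] at h
  have hu' : u' ≠ 0 := by
    rintro rfl
    simp [Cfsg.sympForm] at h'
  obtain ⟨g₁, hg₁⟩ := Lib.Classical.exists_sp_mulVec_eq hu hu'
  obtain ⟨g₂, hg₂u, hg₂v⟩ := Lib.Classical.exists_sp_fix_of_nonperp
    (u := u') (v := g₁.1.mulVec v) (v' := v')
    (by rw [← hg₁, Lib.Classical.sp_form]; exact h) h'
  refine ⟨g₂ * g₁, ?_, ?_, ?_⟩
  · rw [Cfsg.Agent.S0765.result m]
    exact Subgroup.mem_top _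
  · rw [Lib.Classical.sp_mulVec_mul, hg₁, hg₂u]
  · rw [Lib.Classical.sp_mulVec_mul, hg₂v]

end Cfsg.Agent.S0766
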