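import Cfsg.Statements.S0767
import Cfsg.Agent.Lib.Geometry.SympBasic
-- import your own Cfsg.Agent.* helpers here

set_option autoImplicit false
open Cfsg

namespace Cfsg.Agent.S0767

/-- The root group of a point: T_v(c) T_v(d) = T_v(c + d), and for A in the symplectic group with A v = a v, the conjugate A T_v(c) A⁻¹ is again some T_v(d). -/
theorem result {F : Type*} [Field F] (m : ℕ) (v : Fin m ⊕ Fin m → F) : (∀ c d : F, Cfsg.sympTransvection m v c * Cfsg.sympTransvection m v d = Cfsg.sympTransvection m v (c + d)) ∧ ∀ (A : Matrix (Fin m ⊕ Fin m) (Fin m ⊕ Fin m) F) (a : F), A ∈ Matrix.symplecticGroup (Fin m) F → A.mulVec v = a • v → ∀ c : F, ∃ d : F, A * Cfsg.sympTransvection m v c * A⁻¹ = Cfsg.sympTransvection m v d := by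
  refine ⟨Lib.Geometry.sympTransvection_mul v, fun A a hA hAv c => ⟨c * (a * a), ?_⟩⟩
  have hdet := SymplecticGroup.symplectic_det hA
  have hcomm : A * Cfsg.sympTransvection m v c = Cfsg.sympTransvection m v (c * (a * a)) * A := by
    refine Matrix.toLin'.injective (LinearMap.ext fun x => ?_)
    simp only [Matrix.toLin'_apply, ← Matrix.mulVec_mulVec, Lib.Geometry.sympTransvection_mulVec,
      Matrix.mulVec_add, Matrix.mulVec_smul]
    have h := (Lib.Geometry.mem_symplecticGroup_iff_form.mp hA) x v
    rw [hAv] at h ⊢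
    rw [← Lib.Geometry.sympBilin_apply, map_smul, smul_eq_mul, Lib.Geometry.sympBilin_apply] at h
    rw [← h, smul_smul]
    ring_nf
  rw [hcomm, Matrix.mul_assoc, Matrix.mul_nonsing_inv A hdet, Matrix.mul_one]

end Cfsg.Agent.S0767
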