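import Cfsg.Statements.S0769
import Cfsg.Agent.Lib.Classical.LinearCard
-- import your own Cfsg.Agent.* helpers here

set_option autoImplicit false
open Cfsg

namespace Cfsg.Agent.S0769

/-- Order of the Borel subgroup of GL_n(q): the invertible lower-triangular n × n matrices over a field with q elements number q^(n(n-1)/2) (q-1)^n (unitriangular part times the diagonal torus). -/
theorem result {F : Type*} [Field F] [Fintype F] {q : ℕ} (hF : Fintype.card F = q) (n : ℕ) : Nat.card {g : Matrix.GeneralLinearGroup (Fin n) F // ∀ i j : Fin n, i < j → (g : Matrix (Fin n) (Fin n) F) i j = 0} = q ^ (n * (n - 1) / 2) * (q - 1) ^ n := by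
  classical
  let Pairs := (i : Fin n) × Fin (i : ℕ)
  let B := {g : Matrix.GeneralLinearGroup (Fin n) F // ∀ i j : Fin n, i < j → (g : Matrix (Fin n) (Fin n) F) i j = 0}
  let mat : (Fin n → Fˣ) × (Pairs → F) → Matrix (Fin n) (Fin n) F := fun p => Matrix.of fun i j =>
    if i = j then (p.1 i : F) else if h : j < i then p.2 ⟨i, ⟨j, h⟩⟩ else 0
  have hdet : ∀ p, (mat p).det ≠ 0 := fun p => by
    rw [Matrix.det_of_isLowerTriangular _ (fun i j hij => ?_)]
    · simp [mat, Finset.prod_ne_zero_iff]
    · have hij' : i < j := hij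
      simp [mat, hij'.ne, hij'.not_gt]
  have hdiag : ∀ (g : B) (i : Fin n), (g.1 : Matrix (Fin n) (Fin n) F) i i ≠ 0 := by
    intro g i
    have h : (g.1 : Matrix (Fin n) (Fin n) F).det ≠ 0 :=
      (Matrix.GeneralLinearGroup.det g.1).ne_zero
    rw [Matrix.det_of_isLowerTriangular _ (fun i j hij => g.2 i j hij)] at h
    exact Finset.prod_ne_zero_iff.mp h i (Finset.mem_univ i)
  let e : B ≃ (Fin n → Fˣ) × (Pairs → F) :=
    { toFun := fun g => (fun i => Units.mk0 _ (hdiag g i),
        fun x => (g.1 : Matrix (Fin n) (Fin n) F) x.1 ⟨x.2, x.2.2.trans x.1.2⟩)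
      invFun := fun p => ⟨Matrix.GeneralLinearGroup.mkOfDetNeZero (mat p) (hdet p), fun i j hij => by
        simp [mat, hij.ne, hij.not_gt]⟩
      left_inv := fun g => Subtype.ext (Units.ext (by
        ext i j
        rcases lt_trichotomy i j with h | h | h
        · simp [mat, h.ne, h.not_gt, g.2 i j h]
        · subst h; simp [mat]
        · simp [mat, h.ne', h]))
      right_inv := fun p => by
        refine Prod.ext (funext fun i => Units.ext (by simp [mat])) (funext fun ⟨i, j⟩ => ?_)
        have hne : i ≠ ⟨j, j.2.trans i.2⟩ := fun h => absurd (congrArg Fin.val h) j.2.ne'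
        have hlt : (⟨j, j.2.trans i.2⟩ : Fin n) < i := j.2
        simp [mat, hne, hlt] }
  show Nat.card B = _
  rw [Nat.card_congr e, Nat.card_prod, Nat.card_fun, Nat.card_fun,
    Cfsg.Agent.Lib.Classical.natCard_units, Nat.card_eq_fintype_card (α := F), hF, mul_comm]
  simp only [Nat.card_eq_fintype_card, Fintype.card_sigma, Fintype.card_fin, Pairs]
  rw [Fin.sum_univ_eq_sum_range (fun i => i) n, Finset.sum_range_id]

end Cfsg.Agent.S0769
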