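import Cfsg.Statements.S0770
-- import your own Cfsg.Agent.* helpers here

set_option autoImplicit false
open Cfsg

namespace Cfsg.Agent.S0770

/-- For a field with at least 3 elements, an invertible matrix normalises the subgroup of invertible diagonal matrices of GL_n if and only if it is monomial (exactly one non-zero entry in each row). -/
theorem result {F : Type*} [Field F] (hF : ∃ a : F, a ≠ 0 ∧ a ≠ 1) (n : ℕ) (g : Matrix.GeneralLinearGroup (Fin n) F) : g ∈ Subgroup.normalizer ((Units.map (Matrix.diagonalRingHom (Fin n) F).toMonoidHom).range : Subgroup (Matrix.GeneralLinearGroup (Fin n) F)) ↔ ∀ i : Fin n, ∃! j : Fin n, (g : Matrix (Fin n) (Fin n) F) i j ≠ 0 := by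
  classical
  obtain ⟨a, ha0, ha1⟩ := hF
  set M := (g : Matrix (Fin n) (Fin n) F) with hM
  have hinvl : M * ((g⁻¹ : Matrix.GeneralLinearGroup (Fin n) F) : Matrix (Fin n) (Fin n) F) = 1 := by
    rw [hM, ← Units.val_mul, mul_inv_cancel, Units.val_one]
  have hinvr : ((g⁻¹ : Matrix.GeneralLinearGroup (Fin n) F) : Matrix (Fin n) (Fin n) F) * M = 1 := by
    rw [hM, ← Units.val_mul, inv_mul_cancel, Units.val_one]
  have hrow : ∀ i, ∃ j, M i j ≠ 0 := fun i => by
    by_contra h
    push Not at h
    have := congrFun (congrFun hinvl i) i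
    simp [Matrix.mul_apply, h] at this
  have hcol : ∀ j, ∃ i, M i j ≠ 0 := fun j => by
    by_contra h
    push Not at h
    have := congrFun (congrFun hinvr j) j
    simp [Matrix.mul_apply, h] at this
  rw [Subgroup.mem_normalizer_iff]
  constructor
  · intro h i
    obtain ⟨j, hj⟩ := hrow i
    refine ⟨j, hj, fun k hk => ?_⟩
    by_contra hkj
    let d : (Fin n → F)ˣ := MulEquiv.piUnits.symm (Function.update 1 j (Units.mk0 a ha0))
    have hd : ∀ l, ((d : Fin n → F) l) = if l = j then a else 1 := fun l => by
      by_cases hl : l = j <;> simp [d, hl, MulEquiv.piUnits]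
    obtain ⟨d', hd'⟩ := (h (Units.map (Matrix.diagonalRingHom (Fin n) F).toMonoidHom d)).mp ⟨d, rfl⟩
    have hcomm : Matrix.diagonal (d' : Fin n → F) * M = M * Matrix.diagonal (d : Fin n → F) := by
      have h1 := congrArg (fun x : Matrix.GeneralLinearGroup (Fin n) F =>
        ((x * g : Matrix.GeneralLinearGroup (Fin n) F) : Matrix (Fin n) (Fin n) F)) hd'
      simpa [hM, mul_assoc] using h1
    have e1 := congrFun (congrFun hcomm i) j
    have e2 := congrFun (congrFun hcomm i) k
    simp only [Matrix.diagonal_mul, Matrix.mul_diagonal, hd, if_neg hkj, if_true, mul_one] at e1 e2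
    rw [mul_comm (M i j)] at e1
    have h3 : (d' : Fin n → F) i = a := mul_right_cancel₀ hj e1
    have h4 : (d' : Fin n → F) i = 1 := mul_right_cancel₀ hk (by rw [one_mul]; exact e2)
    exact ha1 (h3.symm.trans h4)
  · intro h
    choose σ hσ huniq using h
    have hbij : Function.Bijective σ := by
      refine Finite.injective_iff_bijective.mp (Finite.injective_iff_surjective.mpr fun j => ?_)
      obtain ⟨i, hi⟩ := hcol j
      exact ⟨i, (huniq i j hi).symm⟩
    let τ := Equiv.ofBijective σ hbij
    have hz : ∀ i j, j ≠ σ i → M i j = 0 := fun i j hij => by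
      by_contra hne
      exact hij (huniq i j hne)
    have key : ∀ d : Fin n → F, M * Matrix.diagonal d = Matrix.diagonal (fun i => d (σ i)) * M := fun d => by
      ext i j
      rw [Matrix.mul_diagonal, Matrix.diagonal_mul]
      by_cases hij : j = σ i
      · rw [hij, mul_comm]
      · rw [hz i j hij, zero_mul, mul_zero]
    intro x
    constructor
    · rintro ⟨d, rfl⟩
      refine ⟨MulEquiv.piUnits.symm (fun i => MulEquiv.piUnits d (σ i)), ?_⟩
      rw [eq_mul_inv_iff_mul_eq]
      refine Units.ext ?_
      show Matrix.diagonal (fun i => (d : Fin n → F) (σ i)) * M = M * Matrix.diagonal (d : Fin n → F)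
      exact (key _).symm
    · rintro ⟨d, hd⟩
      refine ⟨MulEquiv.piUnits.symm (fun j => MulEquiv.piUnits d (τ.symm j)), ?_⟩
      rw [eq_mul_inv_iff_mul_eq] at hd
      refine mul_left_cancel (a := g) (Units.ext ?_)
      show M * Matrix.diagonal (fun j => (d : Fin n → F) (τ.symm j)) = _
      rw [key, ← hd]
      show Matrix.diagonal (fun i => (d : Fin n → F) (τ.symm (τ i))) * M = Matrix.diagonal (d : Fin n → F) * M
      simp

end Cfsg.Agent.S0770
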