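import Cfsg.Statements.S0771
import Cfsg.Agent.Lib.Geometry.Stabilizing
-- import your own Cfsg.Agent.* helpers here

set_option autoImplicit false
open Cfsg

namespace Cfsg.Agent.S0771

/-- Maximal parabolic of GL_n(q): the stabiliser of the coordinate subspace spanned by the first k basis vectors has order q^(k(n-k)) · |GL_k(q)| · |GL_(n-k)(q)| (unipotent radical of order q^(k(n-k)) and Levi complement GL_k × GL_(n-k)). -/
theorem result {F : Type*} [Field F] [Fintype F] {q : ℕ} (hF : Fintype.card F = q) (n k : ℕ) (hk : k ≤ n) : Nat.card ↥(Cfsg.stabilizing (Cfsg.glToMat (Fin n) F) {v : Fin n → F | ∀ i : Fin n, k ≤ (i : ℕ) → v i = 0}) = q ^ (k * (n - k)) * (∏ i : Fin k, (q ^ k - q ^ (i : ℕ))) * ∏ i : Fin (n - k), (q ^ (n - k) - q ^ (i : ℕ)) := by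
  classical
  let e : Fin k ⊕ Fin (n - k) ≃ Fin n := finSumFinEquiv.trans (finCongr (by omega))
  have hl : ∀ a : Fin k, ¬ k ≤ ((e (Sum.inl a) : Fin n) : ℕ) := fun a => by simp [e]
  have hr : ∀ a : Fin (n - k), k ≤ ((e (Sum.inr a) : Fin n) : ℕ) := fun a => by simp [e]
  set S := Cfsg.stabilizing (Cfsg.glToMat (Fin n) F) {v : Fin n → F | ∀ i : Fin n, k ≤ (i : ℕ) → v i = 0}
  have hS : ∀ g : Matrix.GeneralLinearGroup (Fin n) F, g ∈ S ↔
      ∀ a b, (g : Matrix (Fin n) (Fin n) F) (e (Sum.inr a)) (e (Sum.inl b)) = 0 := fun g => by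
    rw [Cfsg.Agent.Lib.Geometry.mem_stabilizing_coord_iff _ (fun i : Fin n => k ≤ (i : ℕ))]
    refine ⟨fun h a b => h _ _ (hr a) (hl b), fun h i j hi hj => ?_⟩
    obtain ⟨x, rfl⟩ := e.surjective i
    obtain ⟨y, rfl⟩ := e.surjective j
    rcases x with a | a
    · exact absurd hi (hl a)
    rcases y with b | b
    · exact h a b
    · exact absurd (hr b) hj
  let mat : (Matrix.GeneralLinearGroup (Fin k) F × Matrix.GeneralLinearGroup (Fin (n - k)) F) ×
      Matrix (Fin k) (Fin (n - k)) F → Matrix (Fin n) (Fin n) F := fun p =>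
    (Matrix.fromBlocks p.1.1.1 p.2 0 p.1.2.1).submatrix e.symm e.symm
  have hdet : ∀ p, (mat p).det ≠ 0 := fun p => by
    rw [Matrix.det_submatrix_equiv_self, Matrix.det_fromBlocks_zero₂₁]
    exact mul_ne_zero (Matrix.GeneralLinearGroup.det p.1.1).ne_zero
      (Matrix.GeneralLinearGroup.det p.1.2).ne_zero
  have hblocks : ∀ g : S, ((g.1 : Matrix (Fin n) (Fin n) F).submatrix e e).toBlocks₁₁.det ≠ 0 ∧
      ((g.1 : Matrix (Fin n) (Fin n) F).submatrix e e).toBlocks₂₂.det ≠ 0 := fun g => by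
    set M := (g.1 : Matrix (Fin n) (Fin n) F).submatrix e e with hM
    have h0 : M.toBlocks₂₁ = 0 := by ext a b; exact (hS g.1).mp g.2 a b
    have hd : M.det ≠ 0 := by
      rw [hM, Matrix.det_submatrix_equiv_self]
      exact (Matrix.GeneralLinearGroup.det g.1).ne_zero
    rw [← Matrix.fromBlocks_toBlocks M, h0, Matrix.det_fromBlocks_zero₂₁] at hd
    exact mul_ne_zero_iff.mp hd
  let φ : S ≃ (Matrix.GeneralLinearGroup (Fin k) F × Matrix.GeneralLinearGroup (Fin (n - k)) F) ×
      Matrix (Fin k) (Fin (n - k)) F :=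
    { toFun := fun g => ((Matrix.GeneralLinearGroup.mkOfDetNeZero _ (hblocks g).1,
        Matrix.GeneralLinearGroup.mkOfDetNeZero _ (hblocks g).2),
        ((g.1 : Matrix (Fin n) (Fin n) F).submatrix e e).toBlocks₁₂)
      invFun := fun p => ⟨Matrix.GeneralLinearGroup.mkOfDetNeZero (mat p) (hdet p),
        (hS _).mpr fun a b => by simp [mat]⟩
      left_inv := fun g => Subtype.ext (Units.ext (by
        ext i j
        obtain ⟨x, rfl⟩ := e.surjective i
        obtain ⟨y, rfl⟩ := e.surjective j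
        rcases x with a | a <;> rcases y with b | b <;>
          simp [mat, Matrix.toBlocks₁₁, Matrix.toBlocks₁₂, Matrix.toBlocks₂₂]
        exact ((hS g.1).mp g.2 a b).symm))
      right_inv := fun p => by
        refine Prod.ext (Prod.ext (Units.ext ?_) (Units.ext ?_)) ?_ <;>
          (ext a b; simp [mat, Matrix.toBlocks₁₁, Matrix.toBlocks₁₂, Matrix.toBlocks₂₂]) }
  rw [Nat.card_congr φ, Nat.card_prod, Nat.card_prod, Matrix.card_GL_field, Matrix.card_GL_field, hF,
    Matrix, Nat.card_fun, Nat.card_fun, Nat.card_eq_fintype_card (α := F), hF, Nat.card_fin, Nat.card_fin,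
    ← pow_mul, mul_comm (n - k) k]
  ring

end Cfsg.Agent.S0771
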