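import Cfsg.Statements.S0772
import Cfsg.Agent.Lib.Geometry.ParabolicGL
-- import your own Cfsg.Agent.* helpers here

set_option autoImplicit false
open Cfsg

namespace Cfsg.Agent.S0772

/-- Maximal parabolics are maximal: over a finite field, for 0 < k < n the stabiliser in GL_n of the span of the first k coordinate vectors is a maximal proper subgroup. -/
theorem result {F : Type*} [Field F] [Finite F] (n k : ℕ) (hk0 : 0 < k) (hkn : k < n) : IsCoatom (Cfsg.stabilizing (Cfsg.glToMat (Fin n) F) {v : Fin n → F | ∀ i : Fin n, k ≤ (i : ℕ) → v i = 0}) := by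
  classical
  set S := Cfsg.stabilizing (Cfsg.glToMat (Fin n) F) {v : Fin n → F | ∀ i : Fin n, k ≤ (i : ℕ) → v i = 0}
    with hS
  set W := Cfsg.Agent.Lib.Geometry.coordSubspace F (fun i : Fin n => k ≤ (i : ℕ)) with hW
  have hSW : S = Cfsg.Geo.subspaceStabilizer W := rfl
  let i₀ : Fin n := ⟨0, by omega⟩
  let j₀ : Fin n := ⟨k, hkn⟩
  have hne : j₀ ≠ i₀ := fun h => by simp [i₀, j₀, Fin.ext_iff] at h; omega
  refine ⟨fun htop => ?_, fun M hM => ?_⟩
  · let t := Matrix.GeneralLinearGroup.mkOfDetNeZero (Matrix.transvection j₀ i₀ (1 : F))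
      (by rw [Matrix.det_transvection_of_ne _ _ hne]; exact one_ne_zero)
    have ht : t ∈ S := by rw [htop]; trivial
    have h := (Cfsg.Agent.Lib.Geometry.mem_stabilizing_coord_iff _ (fun i : Fin n => k ≤ (i : ℕ)) t).mp ht j₀ i₀
      (le_refl k) (show ¬ k ≤ 0 by omega)
    simp [t, Matrix.transvection, hne] at h
  have hSL := Cfsg.Agent.Lib.Geometry.specialLinear_le_of_stabilizer W M (inf_le_left.trans (hSW ▸ hM.le))
    (fun h => hM.not_ge (hSW ▸ h))
  refine eq_top_iff.mpr fun g _ => ?_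
  set δ := Matrix.GeneralLinearGroup.det g with hδ
  let d := Matrix.GeneralLinearGroup.mkOfDetNeZero
    (Matrix.diagonal (fun i : Fin n => if i = i₀ then (δ : F) else 1))
    (by simp [Matrix.det_diagonal])
  have hdet : Matrix.GeneralLinearGroup.det d = δ := Units.ext (by
    simp [d, Matrix.det_diagonal])
  have hd : d ∈ S := by
    rw [hS, Cfsg.Agent.Lib.Geometry.mem_stabilizing_coord_iff _ (fun i : Fin n => k ≤ (i : ℕ))]
    intro a b ha hb
    have : a ≠ b := fun h => hb (h ▸ ha)
    simp [d, this]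
  have hmem : g * d⁻¹ ∈ Cfsg.Geo.specialLinear (Fin n) F := by
    rw [Cfsg.Geo.specialLinear, MonoidHom.mem_ker, map_mul, map_inv, hdet, mul_inv_cancel]
  simpa using M.mul_mem (hSL hmem) (hM.le hd)

end Cfsg.Agent.S0772
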