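import Cfsg.Statements.S0773
import Cfsg.Agent.Lib.Geometry.Stabilizing
-- import your own Cfsg.Agent.* helpers here

set_option autoImplicit false
open Cfsg
open scoped Matrix

namespace Cfsg.Agent.S0773

/-- The stabilisers in GL_n(F), F finite, of the coordinate subspaces of dimensions k and n − k are isomorphic groups, but when 2k ≠ n (and 0 < k < n) no element of GL_n conjugates one onto the other. -/
theorem result {F : Type*} [Field F] [Finite F] (n k : ℕ) (hk0 : 0 < k) (hkn : k < n) (h2 : 2 * k ≠ n) : Nonempty (↥(Cfsg.stabilizing (Cfsg.glToMat (Fin n) F) {v : Fin n → F | ∀ i : Fin n, k ≤ (i : ℕ) → v i = 0}) ≃* ↥(Cfsg.stabilizing (Cfsg.glToMat (Fin n) F) {v : Fin n → F | ∀ i : Fin n, n - k ≤ (i : ℕ) → v i = 0})) ∧ ∀ g : Matrix.GeneralLinearGroup (Fin n) F, (Cfsg.stabilizing (Cfsg.glToMat (Fin n) F) {v : Fin n → F | ∀ i : Fin n, k ≤ (i : ℕ) → v i = 0}).map (MulAut.conj g).toMonoidHom ≠ Cfsg.stabilizing (Cfsg.glToMat (Fin n) F) {v : Fin n → F | ∀ i : Fin n, n - k ≤ (i : ℕ) → v i = 0} := by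
  classical
  let P : Fin n → Prop := fun i => k ≤ (i : ℕ)
  let P' : Fin n → Prop := fun i => n - k ≤ (i : ℕ)
  have hP : ∀ i : Fin n, P' i.rev ↔ ¬ P i := fun i => by
    simp only [P, P', Fin.val_rev]
    omega
  constructor
  · let w : Fin n ≃ Fin n := Fin.revPerm
    let A := Cfsg.stabilizing (Cfsg.glToMat (Fin n) F) {v : Fin n → F | ∀ i, P i → v i = 0}
    let B := Cfsg.stabilizing (Cfsg.glToMat (Fin n) F) {v : Fin n → F | ∀ i, P' i → v i = 0}
    let τ : Matrix.GeneralLinearGroup (Fin n) F → Matrix.GeneralLinearGroup (Fin n) F := fun g =>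
      { val := (g : Matrix (Fin n) (Fin n) F).transpose.submatrix w w
        inv := ((g⁻¹ : Matrix.GeneralLinearGroup (Fin n) F) : Matrix (Fin n) (Fin n) F).transpose.submatrix w w
        val_inv := by
          rw [Matrix.submatrix_mul_equiv, ← Matrix.transpose_mul, ← Units.val_mul, inv_mul_cancel,
            Units.val_one, Matrix.transpose_one, Matrix.submatrix_one_equiv]
        inv_val := by
          rw [Matrix.submatrix_mul_equiv, ← Matrix.transpose_mul, ← Units.val_mul, mul_inv_cancel,
            Units.val_one, Matrix.transpose_one, Matrix.submatrix_one_equiv] }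
    have hτ : ∀ a b, τ (a * b) = τ b * τ a := fun a b => Units.ext (by
      simp [τ, Matrix.transpose_mul, Matrix.submatrix_mul_equiv])
    have hτ1 : τ 1 = 1 := Units.ext (by simp [τ])
    have hττ : ∀ a, τ (τ a) = a := fun a => Units.ext (by ext i j; simp [τ, w])
    let φ : Matrix.GeneralLinearGroup (Fin n) F ≃* Matrix.GeneralLinearGroup (Fin n) F :=
      { toFun := fun g => τ g⁻¹
        invFun := fun g => (τ g)⁻¹
        left_inv := fun g => by simp [hττ]
        right_inv := fun g => by simp [hττ]
        map_mul' := fun a b => by simp [hτ] }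
    have hmem : ∀ g, g ∈ A ↔ φ g ∈ B := by
      intro g
      rw [← A.inv_mem_iff]
      show g⁻¹ ∈ A ↔ τ g⁻¹ ∈ B
      rw [Cfsg.Agent.Lib.Geometry.mem_stabilizing_coord_iff _ P, Cfsg.Agent.Lib.Geometry.mem_stabilizing_coord_iff _ P']
      constructor
      · intro h i j hi hj
        have hi' : ¬ P i.rev := by rw [← hP, Fin.rev_rev]; exact hi
        have hj' : P j.rev := by
          by_contra hc
          rw [← hP, Fin.rev_rev] at hc
          exact hj hc
        simpa [τ, w] using h j.rev i.rev hj' hi'
      · intro h i j hi hj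
        have := h j.rev i.rev ((hP j).mpr hj) (fun hc => (hP i).mp hc hi)
        simpa [τ, w] using this
    refine ⟨((φ.subgroupMap A).trans (MulEquiv.subgroupCongr (Subgroup.ext fun g => ?_)))⟩
    show g ∈ A.map φ.toMonoidHom ↔ g ∈ B
    constructor
    · rintro ⟨a, ha, rfl⟩
      exact (hmem a).mp ha
    · intro hg
      exact ⟨φ.symm g, (hmem _).mpr (by rw [φ.apply_symm_apply]; exact hg), φ.apply_symm_apply g⟩
  · intro g hg
    let W := Cfsg.Agent.Lib.Geometry.coordSubspace F P
    let W' := Cfsg.Agent.Lib.Geometry.coordSubspace F P'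
    have hcard : ∀ j, j ≤ n → Fintype.card {i : Fin n // ¬ j ≤ (i : ℕ)} = j := fun j hj => by
      let e : {i : Fin n // ¬ j ≤ (i : ℕ)} ≃ Fin j :=
        { toFun := fun i => ⟨i.1, by have := i.2; omega⟩
          invFun := fun i => ⟨⟨i, by omega⟩, not_le.mpr i.2⟩
          left_inv := fun i => rfl
          right_inv := fun i => rfl }
      rw [Fintype.card_congr e, Fintype.card_fin]
    have hWk : Module.finrank F W = k :=
      (Cfsg.Agent.Lib.Geometry.finrank_coordSubspace P).trans (hcard k (le_of_lt hkn))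
    have hW'k : Module.finrank F W' = n - k :=
      (Cfsg.Agent.Lib.Geometry.finrank_coordSubspace P').trans (hcard (n - k) (Nat.sub_le n k))
    let U := W.map (g : Matrix (Fin n) (Fin n) F).mulVecLin
    have hginj : Function.Injective (g : Matrix (Fin n) (Fin n) F).mulVecLin :=
      Cfsg.Agent.Lib.Geometry.mulVec_injective_of_hom (Cfsg.glToMat (Fin n) F) g
    have hUk : Module.finrank F U = k :=
      (Submodule.equivMapOfInjective _ hginj W).finrank_eq.symm.trans hWk
    have hinv : ∀ (a b : Fin n) (hab : a ≠ b), ¬ (P' a ∧ ¬ P' b) → ∀ u ∈ U,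
        u + u b • Pi.single a 1 ∈ U := by
      intro a b hab hnot u hu
      let t := Matrix.GeneralLinearGroup.mkOfDetNeZero (Matrix.transvection a b (1 : F))
        (by rw [Matrix.det_transvection_of_ne _ _ hab]; exact one_ne_zero)
      have ht : t ∈ Cfsg.stabilizing (Cfsg.glToMat (Fin n) F)
          {v : Fin n → F | ∀ i, P' i → v i = 0} := by
        rw [Cfsg.Agent.Lib.Geometry.mem_stabilizing_coord_iff _ P']
        intro i j hi hj
        have hij : i ≠ j := fun h => hj (h ▸ hi)
        have : ¬ (a = i ∧ b = j) := fun h => hnot ⟨h.1 ▸ hi, h.2 ▸ hj⟩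
        simp [t, Matrix.transvection, Matrix.single, hij, this]
      rw [← hg] at ht
      obtain ⟨s, hs, hst⟩ := ht
      obtain ⟨w, hw, rfl⟩ := hu
      refine ⟨(s : Matrix (Fin n) (Fin n) F) *ᵥ w, (hs w).mp hw, ?_⟩
      have hts : (g : Matrix (Fin n) (Fin n) F) * s = Matrix.transvection a b (1 : F) * g := by
        have h1 : g * s = t * g := by
          rw [← hst]
          simp [MulAut.conj_apply, mul_assoc]
        exact congrArg Units.val h1
      rw [Matrix.mulVecLin_apply, Matrix.mulVecLin_apply, Matrix.mulVec_mulVec, hts,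
        ← Matrix.mulVec_mulVec]
      set z := (g : Matrix (Fin n) (Fin n) F) *ᵥ w
      ext i
      by_cases hi : i = a <;>
        simp [Matrix.transvection, Matrix.add_mulVec, Matrix.single_mulVec, hi]
    have hU0 : ∃ u ∈ U, u ≠ 0 := by
      apply Submodule.exists_mem_ne_zero_of_ne_bot
      intro h
      rw [h, finrank_bot] at hUk
      omega
    have hstep : ∀ b u, u ∈ U → u b ≠ 0 → ∀ a, a ≠ b → ¬ (P' a ∧ ¬ P' b) →
        (Pi.single a 1 : Fin n → F) ∈ U := fun b u hu hub a hab hnot => by
      simpa [smul_smul, hub] using U.smul_mem (u b)⁻¹ ((Submodule.sub_mem_iff_left U hu).mpr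
        (hinv a b hab hnot u hu))
    have hUW : U ≤ W' := by
      intro u hu b hb
      by_contra hub
      have hall : ∀ a, a ≠ b → (Pi.single a 1 : Fin n → F) ∈ U := fun a hab =>
        hstep b u hu hub a hab (fun h => h.2 hb)
      have hb' : (Pi.single b 1 : Fin n → F) ∈ U := by
        have h1 : u b • (Pi.single b 1 : Fin n → F) = u - ∑ a ∈ Finset.univ.erase b, u a • Pi.single a 1 := by
          rw [eq_sub_iff_add_eq, Finset.add_sum_erase _ (fun a => u a • (Pi.single a 1 : Fin n → F))
            (Finset.mem_univ b)]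
          exact (pi_eq_sum_univ' u).symm
        have h2 : u b • (Pi.single b 1 : Fin n → F) ∈ U := by
          rw [h1]
          exact U.sub_mem hu (U.sum_mem fun a ha => U.smul_mem _ (hall a (Finset.ne_of_mem_erase ha)))
        simpa [smul_smul, hub] using U.smul_mem (u b)⁻¹ h2
      have htop : U = ⊤ := eq_top_iff.mpr fun v _ => by
        rw [pi_eq_sum_univ' v]
        refine U.sum_mem fun a _ => U.smul_mem _ ?_
        by_cases hab : a = b
        · exact hab ▸ hb'
        · exact hall a hab
      rw [htop, finrank_top, Module.finrank_fin_fun] at hUk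
      omega
    obtain ⟨u, hu, hu0⟩ := hU0
    obtain ⟨b, hub⟩ : ∃ b, u b ≠ 0 := Function.ne_iff.mp hu0
    have hb : ¬ P' b := fun hb => hub (hUW hu b hb)
    have hall : ∀ a, ¬ P' a → a ≠ b → (Pi.single a 1 : Fin n → F) ∈ U := fun a ha hab =>
      hstep b u hu hub a hab (fun h => ha h.1)
    have hbm : (Pi.single b 1 : Fin n → F) ∈ U := by
      have h1 : u b • (Pi.single b 1 : Fin n → F) = u - ∑ a ∈ Finset.univ.erase b, u a • Pi.single a 1 := by
        rw [eq_sub_iff_add_eq, Finset.add_sum_erase _ (fun a => u a • (Pi.single a 1 : Fin n → F))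
          (Finset.mem_univ b)]
        exact (pi_eq_sum_univ' u).symm
      have h2 : u b • (Pi.single b 1 : Fin n → F) ∈ U := by
        rw [h1]
        refine U.sub_mem hu (U.sum_mem fun a ha => ?_)
        by_cases hPa : P' a
        · rw [hUW hu a hPa, zero_smul]; exact U.zero_mem
        · exact U.smul_mem _ (hall a hPa (Finset.ne_of_mem_erase ha))
      simpa [smul_smul, hub] using U.smul_mem (u b)⁻¹ h2
    have hW'U : W' ≤ U := fun v hv => by
      rw [pi_eq_sum_univ' v]
      refine U.sum_mem fun a _ => ?_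
      by_cases hPa : P' a
      · rw [hv a hPa, zero_smul]; exact U.zero_mem
      · refine U.smul_mem _ ?_
        by_cases hab : a = b
        · exact hab ▸ hbm
        · exact hall a hPa hab
    rw [le_antisymm hUW hW'U, hW'k] at hUk
    omega

end Cfsg.Agent.S0773
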