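import Cfsg.Statements.S0777


set_option autoImplicit false
open Cfsg

namespace Cfsg.Agent.S0777

open Matrix

variable {F : Type*} [Field F] {m : ℕ}

/-- The sign of a coordinate. -/
def sgn : Fin m ⊕ Fin m → F := Sum.elim (fun _ => -1) (fun _ => 1)

theorem J_apply (i j : Fin m ⊕ Fin m) :
    Matrix.J (Fin m) F i j = if j = i.swap then sgn i else 0 := by
  rcases i with a | a <;> rcases j with b | b <;>
    simp [Matrix.J, Matrix.fromBlocks, sgn, Matrix.one_apply, eq_comm] <;> split_ifs <;> simp_all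

theorem sgn_ne (i : Fin m ⊕ Fin m) : (sgn i : F) ≠ 0 := by rcases i with a | a <;> simp [sgn]

theorem sgn_mul_self (i : Fin m ⊕ Fin m) : (sgn i : F) * sgn i = 1 := by rcases i with a | a <;> simp [sgn]

/-- The monomial matrix with entry `c i` at `(i, τ i)`. -/
def mono (τ : Fin m ⊕ Fin m → Fin m ⊕ Fin m) (c : Fin m ⊕ Fin m → F) :
    Matrix (Fin m ⊕ Fin m) (Fin m ⊕ Fin m) F :=
  Matrix.of fun i j => if j = τ i then c i else 0

theorem mono_JT (τ : Fin m ⊕ Fin m → Fin m ⊕ Fin m) (c : Fin m ⊕ Fin m → F) (i k : Fin m ⊕ Fin m) :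
    (mono τ c * Matrix.J (Fin m) F * (mono τ c)ᵀ) i k = c i * Matrix.J (Fin m) F (τ i) (τ k) * c k := by
  simp [Matrix.mul_apply, mono]

theorem mono_one : mono (id : Fin m ⊕ Fin m → Fin m ⊕ Fin m) (fun _ => (1 : F)) = 1 := by
  ext i j
  simp [mono, Matrix.one_apply, eq_comm]

theorem diagonal_eq_mono (d : Fin m ⊕ Fin m → F) : Matrix.diagonal d = mono id d := by
  ext i j
  simp [mono, Matrix.diagonal_apply, eq_comm]

theorem mono_mul (τ τ' : Fin m ⊕ Fin m → Fin m ⊕ Fin m) (c c' : Fin m ⊕ Fin m → F) :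
    mono τ c * mono τ' c' = mono (τ' ∘ τ) (fun i => c i * c' (τ i)) := by
  ext i j
  rw [Matrix.mul_apply, Finset.sum_eq_single (τ i)]
  · simp [mono]
  · intro l _ hl
    simp [mono, hl]
  · intro h
    exact absurd (Finset.mem_univ _) h

theorem mem_sp_iff {τ : Fin m ⊕ Fin m → Fin m ⊕ Fin m} {c : Fin m ⊕ Fin m → F}
    (hinj : Function.Injective τ) (hτ : ∀ i, τ i.swap = (τ i).swap) :
    mono τ c ∈ Matrix.symplecticGroup (Fin m) F ↔ ∀ i, c i * c i.swap * sgn (τ i) = sgn i := by
  rw [SymplecticGroup.mem_iff]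
  constructor
  · intro h i
    have h' := congrFun (congrFun h i) i.swap
    rw [mono_JT, J_apply, J_apply, hτ, if_pos rfl, if_pos rfl] at h'
    linear_combination h'
  · intro h
    ext i k
    rw [mono_JT, J_apply, J_apply]
    by_cases hk : k = i.swap
    · subst hk
      rw [if_pos (hτ i), if_pos rfl]
      linear_combination h i
    · rw [if_neg hk, if_neg (fun e => hk (hinj (e.trans (hτ i).symm))), mul_zero, zero_mul]

/-- The axes stabiliser. -/
abbrev torus (m : ℕ) (F : Type*) [Field F] : Subgroup (Matrix.symplecticGroup (Fin m) F) :=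
  ⨅ i : Fin m ⊕ Fin m, Cfsg.stabilizing (Cfsg.spToMat m F)
    ((Submodule.span F {(Pi.single i (1 : F) : Fin m ⊕ Fin m → F)} : Submodule F (Fin m ⊕ Fin m → F)) :
      Set (Fin m ⊕ Fin m → F))

theorem mem_torus {g : Matrix.symplecticGroup (Fin m) F} :
    g ∈ torus m F ↔ ∃ d : Fin m ⊕ Fin m → F, (g : Matrix (Fin m ⊕ Fin m) (Fin m ⊕ Fin m) F) = Matrix.diagonal d := by
  rw [Subgroup.mem_iInf]
  constructor
  · intro h
    refine ⟨fun i => (g : Matrix (Fin m ⊕ Fin m) (Fin m ⊕ Fin m) F) i i, ?_⟩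
    ext i j
    by_cases hij : i = j
    · subst hij; simp
    · rw [Matrix.diagonal_apply_ne _ hij]
      obtain ⟨a, ha⟩ := Submodule.mem_span_singleton.mp ((h j _).mp (Submodule.mem_span_singleton_self _))
      have := congrFun ha i
      simpa [Matrix.mulVec_single, hij] using this.symm
  · rintro ⟨d, hd⟩ i v
    show v ∈ Submodule.span F _ ↔ (g : Matrix (Fin m ⊕ Fin m) (Fin m ⊕ Fin m) F) *ᵥ v ∈ Submodule.span F _
    rw [hd]
    have hd0 : ∀ j, d j ≠ 0 := by
      intro j h0
      have := congrFun (congrFun (SymplecticGroup.mem_iff.mp g.2) j) j.swap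
      rw [hd, diagonal_eq_mono, mono_JT, h0, zero_mul, zero_mul, J_apply, if_pos rfl] at this
      exact sgn_ne j this.symm
    simp only [Submodule.mem_span_singleton]
    constructor
    · rintro ⟨a, rfl⟩
      refine ⟨d i * a, funext fun j => ?_⟩
      by_cases hj : j = i
      · subst hj; simp [Matrix.mulVec_diagonal]
      · simp [Matrix.mulVec_diagonal, hj]
    · rintro ⟨a, ha⟩
      refine ⟨a / d i, funext fun j => ?_⟩
      have h1 := congrFun ha j
      rw [Matrix.mulVec_diagonal] at h1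
      by_cases hj : j = i
      · subst hj
        simp only [Pi.smul_apply, Pi.single_eq_same, smul_eq_mul, mul_one] at h1 ⊢
        rw [h1, mul_div_cancel_left₀ _ (hd0 j)]
      · simp only [Pi.smul_apply, Pi.single_eq_of_ne hj, smul_eq_mul, mul_zero] at h1 ⊢
        exact ((mul_eq_zero.mp h1.symm).resolve_left (hd0 j)).symm

/-- The diagonal element with `a` at `j`, `a⁻¹` opposite. -/
def pairDiag (j : Fin m ⊕ Fin m) (a : F) : Fin m ⊕ Fin m → F :=
  fun i => if i = j then a else if i = j.swap then a⁻¹ else 1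

theorem pairDiag_mem (j : Fin m ⊕ Fin m) {a : F} (ha : a ≠ 0) :
    Matrix.diagonal (pairDiag j a) ∈ Matrix.symplecticGroup (Fin m) F := by
  rw [diagonal_eq_mono, mem_sp_iff Function.injective_id fun i => rfl]
  intro i
  have hne : ∀ x : Fin m ⊕ Fin m, x ≠ x.swap := fun x => by rcases x with b | b <;> simp
  unfold pairDiag
  by_cases h1 : i = j
  · subst h1
    rw [if_pos rfl, if_neg (Ne.symm (hne i)), if_pos rfl, mul_inv_cancel₀ ha, one_mul]; rfl
  · by_cases h2 : i = j.swap
    · subst h2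
      rw [if_neg h1, if_pos rfl, Sum.swap_swap, if_pos rfl, inv_mul_cancel₀ ha, one_mul]; rfl
    · rw [if_neg h1, if_neg h2, if_neg (fun e => h2 (by rw [← e, Sum.swap_swap])),
        if_neg (fun e => h1 (by simpa using congrArg Sum.swap e)), one_mul, one_mul]; rfl

theorem exists_sep [Fintype F] (h4 : 4 ≤ Fintype.card F) :
    ∃ a : F, a ≠ 0 ∧ a ≠ 1 ∧ a⁻¹ ≠ a := by
  classical
  obtain ⟨a, ha⟩ : ∃ a : F, a ∉ ({0, 1, -1} : Finset F) := by
    by_contra! h
    have : Fintype.card F ≤ 3 :=
      (Finset.card_le_card (fun x _ => h x : Finset.univ ⊆ _)).trans Finset.card_le_three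
    omega
  simp only [Finset.mem_insert, Finset.mem_singleton, not_or] at ha
  refine ⟨a, ha.1, ha.2.1, fun e => ?_⟩
  have h1 : a * a = 1 := by rw [← inv_mul_cancel₀ ha.1, e]
  rcases mul_self_eq_one_iff.mp h1 with h | h
  · exact ha.2.1 h
  · exact ha.2.2 h

/-- The normaliser consists of monomial matrices. -/
theorem exists_mono [Fintype F] (h4 : 4 ≤ Fintype.card F) {g : Matrix.symplecticGroup (Fin m) F}
    (hg : g ∈ Subgroup.normalizer (torus m F : Set (Matrix.symplecticGroup (Fin m) F))) :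
    ∃ τ : Fin m ⊕ Fin m → Fin m ⊕ Fin m, ∃ c : Fin m ⊕ Fin m → F, Function.Injective τ ∧
      (∀ i, τ i.swap = (τ i).swap) ∧ (∀ i, c i ≠ 0) ∧
      (g : Matrix (Fin m ⊕ Fin m) (Fin m ⊕ Fin m) F) = mono τ c := by
  classical
  set M := (g : Matrix (Fin m ⊕ Fin m) (Fin m ⊕ Fin m) F) with hM
  obtain ⟨a, ha0, ha1, hainv⟩ := exists_sep h4
  have hone : ∀ i j k, M i j ≠ 0 → M i k ≠ 0 → j = k := by
    intro i j k hj hk
    by_contra hne
    set t : Matrix.symplecticGroup (Fin m) F := ⟨_, pairDiag_mem j ha0⟩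
    obtain ⟨d', hd'⟩ := mem_torus.mp ((hg t).mp (mem_torus.mpr ⟨_, rfl⟩))
    have e : M * Matrix.diagonal (pairDiag j a) = Matrix.diagonal d' * M := by
      rw [← hd']
      show ((g * t : Matrix.symplecticGroup (Fin m) F) : Matrix (Fin m ⊕ Fin m) (Fin m ⊕ Fin m) F) =
        ((g * t * g⁻¹ * g : Matrix.symplecticGroup (Fin m) F) : Matrix (Fin m ⊕ Fin m) (Fin m ⊕ Fin m) F)
      rw [inv_mul_cancel_right]
    have e1 := congrFun (congrFun e i) j
    have e2 := congrFun (congrFun e i) k
    rw [Matrix.mul_diagonal, Matrix.diagonal_mul] at e1 e2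
    have h1 : pairDiag j a j = d' i := mul_left_cancel₀ hj (e1.trans (mul_comm _ _))
    have h2 : pairDiag j a k = d' i := mul_left_cancel₀ hk (e2.trans (mul_comm _ _))
    have h3 := h2.trans h1.symm
    unfold pairDiag at h3
    rw [if_pos rfl, if_neg (Ne.symm hne)] at h3
    split_ifs at h3 with h5
    · exact hainv h3
    · exact ha1 h3.symm
  have hsp := SymplecticGroup.mem_iff.mp g.2
  have hrow : ∀ i, ∃ j, M i j ≠ 0 := by
    intro i
    by_contra! h
    have := congrFun (congrFun hsp i) i.swap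
    rw [J_apply, if_pos rfl, Matrix.mul_apply] at this
    refine sgn_ne i (this.symm.trans ?_)
    refine Finset.sum_eq_zero fun l _ => ?_
    rw [Matrix.mul_apply, Finset.sum_eq_zero fun n _ => by rw [← hM, h n, zero_mul], zero_mul]
  choose τ hτ using hrow
  have hMeq : M = mono τ fun i => M i (τ i) := by
    ext i j
    simp only [mono, Matrix.of_apply]
    split_ifs with h
    · rw [h]
    · by_contra h0
      exact h (hone i j (τ i) h0 (hτ i))
  have key : ∀ i, τ i.swap = (τ i).swap := by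
    intro i
    have := congrFun (congrFun hsp i) i.swap
    rw [← hM, hMeq, mono_JT, J_apply, J_apply, if_pos rfl] at this
    by_contra h
    rw [if_neg h, mul_zero, zero_mul] at this
    exact sgn_ne i this.symm
  refine ⟨τ, _, ?_, key, hτ, hMeq⟩
  intro i k hik
  have := congrFun (congrFun hsp k) i.swap
  rw [← hM, hMeq, mono_JT, J_apply, J_apply, key, ← hik, if_pos rfl] at this
  by_contra hne
  rw [if_neg (fun e => hne (by simpa using congrArg Sum.swap e))] at this
  exact mul_ne_zero (mul_ne_zero (show M k (τ i) ≠ 0 by rw [hik]; exact hτ k) (sgn_ne _))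
    (show M i.swap (τ i).swap ≠ 0 by rw [← key]; exact hτ _) this

theorem mono_mem_normalizer [Fintype F] {g : Matrix.symplecticGroup (Fin m) F}
    {τ : Fin m ⊕ Fin m → Fin m ⊕ Fin m} {c : Fin m ⊕ Fin m → F}
    (hg : (g : Matrix (Fin m ⊕ Fin m) (Fin m ⊕ Fin m) F) = mono τ c) :
    g ∈ Subgroup.normalizer (torus m F : Set (Matrix.symplecticGroup (Fin m) F)) := by
  classical
  have hmap : ∀ t ∈ torus m F, g * t * g⁻¹ ∈ torus m F := by
    intro t ht
    obtain ⟨d, hd⟩ := mem_torus.mp ht
    refine mem_torus.mpr ⟨fun i => d (τ i), ?_⟩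
    have e : ((g * t : Matrix.symplecticGroup (Fin m) F) : Matrix (Fin m ⊕ Fin m) (Fin m ⊕ Fin m) F) =
        Matrix.diagonal (fun i => d (τ i)) * (g : Matrix (Fin m ⊕ Fin m) (Fin m ⊕ Fin m) F) := by
      rw [Submonoid.coe_mul, hg, hd, diagonal_eq_mono, diagonal_eq_mono, mono_mul, mono_mul]
      simp [Function.comp, mul_comm]
    rw [Submonoid.coe_mul, e, mul_assoc, ← Submonoid.coe_mul, mul_inv_cancel, Submonoid.coe_one, mul_one]
  haveI : Finite (Matrix.symplecticGroup (Fin m) F) := Subtype.finite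
  intro t
  refine ⟨hmap t, fun ht => ?_⟩
  have hbij : Function.Bijective (fun s : torus m F => (⟨g * s * g⁻¹, hmap s s.2⟩ : torus m F)) := by
    refine Finite.injective_iff_bijective.mp fun a b hab => Subtype.ext ?_
    exact mul_left_cancel (mul_right_cancel (congrArg Subtype.val hab))
  obtain ⟨s, hs⟩ := hbij.2 ⟨_, ht⟩
  exact mul_left_cancel (mul_right_cancel (congrArg Subtype.val hs)) ▸ s.2

/-- The permutation attached to a signed permutation. -/
def sperm (π : Equiv.Perm (Fin m)) (b : Fin m → Bool) : Fin m ⊕ Fin m → Fin m ⊕ Fin m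
  | .inl a => if b a then .inr (π a) else .inl (π a)
  | .inr a => if b a then .inl (π a) else .inr (π a)

theorem sperm_swap (π : Equiv.Perm (Fin m)) (b : Fin m → Bool) :
    ∀ i, sperm π b i.swap = (sperm π b i).swap := by
  rintro (a | a) <;> cases hb : b a <;> simp [sperm, hb]

theorem sperm_injective (π : Equiv.Perm (Fin m)) (b : Fin m → Bool) : Function.Injective (sperm π b) := by
  rintro (a | a) (a' | a') h <;> cases hb : b a <;> cases hb' : b a' <;>
    simp [sperm, hb, hb'] at h <;> first | (subst h; rfl) | (subst h; simp [hb] at hb')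

/-- The scalars of a signed permutation. -/
def coeff (π : Equiv.Perm (Fin m)) (b : Fin m → Bool) (u : Fin m → Fˣ) : Fin m ⊕ Fin m → F
  | .inl a => (u a : F)
  | .inr a => sgn (Sum.inl a) * sgn (sperm π b (Sum.inl a)) * ((u a)⁻¹ : Fˣ)

theorem coeff_spec (π : Equiv.Perm (Fin m)) (b : Fin m → Bool) (u : Fin m → Fˣ) :
    ∀ i, coeff π b u i * coeff π b u i.swap * sgn (sperm π b i) = sgn i := by
  have h : ∀ (z : Fˣ), (z : F) * ((z⁻¹ : Fˣ) : F) = 1 := fun z => z.mul_inv
  rintro (a | a) <;> cases hb : b a <;> simp [coeff, sperm, hb, sgn, h, mul_comm, mul_left_comm]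

/-- Weyl group of type C_m: for q ≥ 4 the diagonal matrices of Sp_2m(q) form a torus T ≅ (C_(q−1))^m (the elements stabilising every coordinate axis), and the normaliser of T in Sp_2m(q) has order 2^m · m! · (q − 1)^m. -/
theorem result {F : Type*} [Field F] [Fintype F] {q : ℕ} (hF : Fintype.card F = q) (hq : 4 ≤ q) (m : ℕ) : Nat.card ↥(Subgroup.normalizer (⨅ i : Fin m ⊕ Fin m, Cfsg.stabilizing (Cfsg.spToMat m F) ((Submodule.span F {(Pi.single i (1 : F) : Fin m ⊕ Fin m → F)} : Submodule F (Fin m ⊕ Fin m → F)) : Set (Fin m ⊕ Fin m → F)) : Set (Matrix.symplecticGroup (Fin m) F))) = 2 ^ m * Nat.factorial m * (q - 1) ^ m := by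
  classical
  subst hF
  let f : Equiv.Perm (Fin m) × (Fin m → Bool) × (Fin m → Fˣ) →
      Subgroup.normalizer (torus m F : Set (Matrix.symplecticGroup (Fin m) F)) := fun x =>
    ⟨⟨mono (sperm x.1 x.2.1) (coeff x.1 x.2.1 x.2.2),
      (mem_sp_iff (sperm_injective x.1 x.2.1) (sperm_swap x.1 x.2.1)).mpr (coeff_spec x.1 x.2.1 x.2.2)⟩,
      mono_mem_normalizer rfl⟩
  have hb : Function.Bijective f := by
    constructor
    · rintro ⟨π, b, u⟩ ⟨π', b', u'⟩ h
      have hM : mono (sperm π b) (coeff π b u) = mono (sperm π' b') (coeff π' b' u') :=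
        congrArg (fun z : Subgroup.normalizer (torus m F : Set (Matrix.symplecticGroup (Fin m) F)) =>
          ((z : Matrix.symplecticGroup (Fin m) F) : Matrix (Fin m ⊕ Fin m) (Fin m ⊕ Fin m) F)) h
      have key : ∀ a, sperm π b (Sum.inl a) = sperm π' b' (Sum.inl a) ∧ u a = u' a := by
        intro a
        have e := congrFun (congrFun hM (Sum.inl a)) (sperm π b (Sum.inl a))
        simp only [mono, Matrix.of_apply, if_pos, coeff] at e
        split_ifs at e with h1
        · exact ⟨h1, Units.ext e⟩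
        · exact absurd e (u a).ne_zero
      have hπb : ∀ a, π a = π' a ∧ b a = b' a := fun a => by
        have := (key a).1
        cases h1 : b a <;> cases h2 : b' a <;> simp [sperm, h1, h2] at this <;> exact ⟨this, rfl⟩
      simp only [Prod.mk.injEq]
      exact ⟨Equiv.ext fun a => (hπb a).1, funext fun a => (hπb a).2, funext fun a => (key a).2⟩
    · rintro ⟨g, hg⟩
      obtain ⟨τ, c, hinj, hsw, hc0, hM⟩ := exists_mono hq hg
      have hrel := (mem_sp_iff hinj hsw).mp (hM ▸ g.2)
      let π₀ : Fin m → Fin m := fun a => Sum.elim id id (τ (Sum.inl a))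
      have hinl : ∀ a, τ (Sum.inl a) = if (τ (Sum.inl a)).isRight then Sum.inr (π₀ a) else Sum.inl (π₀ a) := by
        intro a
        show τ (Sum.inl a) = if (τ (Sum.inl a)).isRight then Sum.inr (Sum.elim id id (τ (Sum.inl a)))
          else Sum.inl (Sum.elim id id (τ (Sum.inl a)))
        rcases τ (Sum.inl a) with z | z <;> simp
      have hπ : Function.Injective π₀ := by
        intro a a' h
        rcases ha : τ (Sum.inl a) with z | z <;> rcases ha' : τ (Sum.inl a') with z' | z' <;>
          simp [π₀, ha, ha'] at h <;> subst h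
        · exact Sum.inl_injective (hinj (ha.trans ha'.symm))
        · have := hinj (show τ (Sum.inr a) = τ (Sum.inl a') by
            rw [show (Sum.inr a : Fin m ⊕ Fin m) = (Sum.inl a : Fin m ⊕ Fin m).swap from rfl, hsw, ha, ha']; rfl)
          simp at this
        · have := hinj (show τ (Sum.inr a) = τ (Sum.inl a') by
            rw [show (Sum.inr a : Fin m ⊕ Fin m) = (Sum.inl a : Fin m ⊕ Fin m).swap from rfl, hsw, ha, ha']; rfl)
          simp at this
        · exact Sum.inl_injective (hinj (ha.trans ha'.symm))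
      let π : Equiv.Perm (Fin m) := Equiv.ofBijective π₀ (Finite.injective_iff_bijective.mp hπ)
      let b : Fin m → Bool := fun a => (τ (Sum.inl a)).isRight
      have hτ : sperm π b = τ := by
        funext i
        rcases i with a | a
        · exact (hinl a).symm
        · rw [show (Sum.inr a : Fin m ⊕ Fin m) = (Sum.inl a : Fin m ⊕ Fin m).swap from rfl, sperm_swap, hsw]
          exact congrArg Sum.swap (hinl a).symm
      let u : Fin m → Fˣ := fun a => Units.mk0 _ (hc0 (Sum.inl a))
      have hc : coeff π b u = c := by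
        funext i
        rcases i with a | a
        · rfl
        · have h := hrel (Sum.inl a)
          simp only [Sum.swap_inl] at h
          show sgn (Sum.inl a) * sgn (sperm π b (Sum.inl a)) * ((u a)⁻¹ : Fˣ) = c (Sum.inr a)
          rw [hτ, Units.val_inv_eq_inv_val, Units.val_mk0]
          have := sgn_mul_self (F := F) (τ (Sum.inl a))
          field_simp [hc0 (Sum.inl a)]
          linear_combination (-(sgn (τ (Sum.inl a)) : F)) * h + (c (Sum.inl a) * c (Sum.inr a)) * this
      refine ⟨(π, b, u), Subtype.ext (Subtype.ext ?_)⟩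
      show mono (sperm π b) (coeff π b u) = _
      rw [hτ, hc, hM]
  have hset : (⨅ i : Fin m ⊕ Fin m, ((Cfsg.stabilizing (Cfsg.spToMat m F)
      ((Submodule.span F {(Pi.single i (1 : F) : Fin m ⊕ Fin m → F)} : Submodule F (Fin m ⊕ Fin m → F)) :
        Set (Fin m ⊕ Fin m → F)) : Subgroup (Matrix.symplecticGroup (Fin m) F)) :
        Set (Matrix.symplecticGroup (Fin m) F))) = (torus m F : Set (Matrix.symplecticGroup (Fin m) F)) :=
    (Subgroup.coe_iInf).symm
  rw [hset, ← Nat.card_eq_of_bijective f hb, Nat.card_prod, Nat.card_prod, Nat.card_perm, Nat.card_fin,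
    Nat.card_fun, Nat.card_fun, Nat.card_fin, Nat.card_eq_fintype_card, Fintype.card_bool,
    Nat.card_units, Nat.card_eq_fintype_card]
  ring

end Cfsg.Agent.S0777
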