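import Cfsg.Statements.S0778
import Cfsg.Agent.Lib.Geometry.Stabilizing
import Cfsg.Agent.Lib.Classical.SympSimple
-- import your own Cfsg.Agent.* helpers here

set_option autoImplicit false
open Cfsg

namespace Cfsg.Agent.S0778

/-- The elements of Sp_2m(F) stabilising both W = ⟨e_1..e_m⟩ and U = ⟨f_1..f_m⟩ form a subgroup isomorphic to GL_m(F) (block-diagonal matrices diag(X, X^(−ᵀ)) up to the sign convention of J), for m ≥ 1 or m = 0 alike. -/
theorem result {F : Type*} [Field F] (m : ℕ) : Nonempty (↥(Cfsg.stabilizing (Cfsg.spToMat m F) {v : Fin m ⊕ Fin m → F | ∀ i : Fin m, v (Sum.inr i) = 0} ⊓ Cfsg.stabilizing (Cfsg.spToMat m F) {v : Fin m ⊕ Fin m → F | ∀ i : Fin m, v (Sum.inl i) = 0}) ≃* Matrix.GeneralLinearGroup (Fin m) F) := by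
  classical
  have hset₁ : {v : Fin m ⊕ Fin m → F | ∀ i : Fin m, v (Sum.inr i) = 0} =
      {v | ∀ s, Sum.isRight s = true → v s = 0} := by
    ext v; constructor
    · rintro h (a | a) hs
      · cases hs
      · exact h a
    · exact fun h a => h (Sum.inr a) rfl
  have hset₂ : {v : Fin m ⊕ Fin m → F | ∀ i : Fin m, v (Sum.inl i) = 0} =
      {v | ∀ s, Sum.isLeft s = true → v s = 0} := by
    ext v; constructor
    · rintro h (a | a) hs
      · exact h a
      · cases hs
    · exact fun h a => h (Sum.inl a) rfl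
  rw [hset₁, hset₂]
  set S := Cfsg.stabilizing (Cfsg.spToMat m F) {v : Fin m ⊕ Fin m → F | ∀ s, Sum.isRight s = true → v s = 0} ⊓
    Cfsg.stabilizing (Cfsg.spToMat m F) {v : Fin m ⊕ Fin m → F | ∀ s, Sum.isLeft s = true → v s = 0}
  have hS : ∀ g, g ∈ S ↔ (∀ a b, (g : Matrix (Fin m ⊕ Fin m) (Fin m ⊕ Fin m) F) (Sum.inr a) (Sum.inl b) = 0) ∧
      (∀ a b, (g : Matrix (Fin m ⊕ Fin m) (Fin m ⊕ Fin m) F) (Sum.inl a) (Sum.inr b) = 0) := fun g => by
    rw [Subgroup.mem_inf, Cfsg.Agent.Lib.Geometry.mem_stabilizing_coord_iff _ (fun s => Sum.isRight s = true),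
      Cfsg.Agent.Lib.Geometry.mem_stabilizing_coord_iff _ (fun s => Sum.isLeft s = true)]
    constructor
    · exact fun h => ⟨fun a b => h.1 _ _ rfl (by simp), fun a b => h.2 _ _ rfl (by simp)⟩
    · intro h
      refine ⟨?_, ?_⟩ <;> rintro (a | a) (b | b) hi hj <;> simp at hi hj
      · exact h.1 a b
      · exact h.2 a b
  let φ : Matrix.GeneralLinearGroup (Fin m) F →* S :=
    { toFun := fun A => ⟨Cfsg.Agent.Lib.Classical.spM A, (hS _).mpr
        ⟨fun a b => by simp [Cfsg.Agent.Lib.Classical.spM], fun a b => by simp [Cfsg.Agent.Lib.Classical.spM]⟩⟩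
      map_one' := Subtype.ext (Subtype.ext (by simp [Cfsg.Agent.Lib.Classical.spM]))
      map_mul' := fun A B => Subtype.ext (Subtype.ext (by
        simp [Cfsg.Agent.Lib.Classical.spM, Matrix.fromBlocks_multiply, Matrix.transpose_mul])) }
  refine ⟨(MulEquiv.ofBijective φ ⟨fun A B h => ?_, fun g => ?_⟩).symm⟩
  · have h' := congrArg (fun x : S => (x.1.1 : Matrix (Fin m ⊕ Fin m) (Fin m ⊕ Fin m) F).toBlocks₁₁) h
    refine Units.ext ?_
    simpa [φ, Cfsg.Agent.Lib.Classical.spM] using h'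
  · obtain ⟨h1, h2⟩ := (hS g.1).mp g.2
    set M := (g.1.1 : Matrix (Fin m ⊕ Fin m) (Fin m ⊕ Fin m) F) with hM
    have hblk : M = Matrix.fromBlocks M.toBlocks₁₁ 0 0 M.toBlocks₂₂ := by
      conv_lhs => rw [← Matrix.fromBlocks_toBlocks M]
      congr 1
      · ext a b; exact h2 a b
      · ext a b; exact h1 a b
    have hmem := g.1.2
    rw [← hM, hblk, SymplecticGroup.fromBlocks_mem_iff] at hmem
    have hAD : M.toBlocks₁₁.transpose * M.toBlocks₂₂ = 1 := by simpa using hmem.2.2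
    have hDA : M.toBlocks₂₂.transpose * M.toBlocks₁₁ = 1 := by
      have := congrArg Matrix.transpose hAD
      simpa [Matrix.transpose_mul] using this
    let A : Matrix.GeneralLinearGroup (Fin m) F :=
      ⟨M.toBlocks₁₁, M.toBlocks₂₂.transpose, mul_eq_one_comm.mp hDA, hDA⟩
    refine ⟨A, Subtype.ext (Subtype.ext ?_)⟩
    show Matrix.fromBlocks A.1 0 0 ((A⁻¹).1).transpose = M
    conv_rhs => rw [hblk]
    simp [A]

end Cfsg.Agent.S0778
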