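import Cfsg.Statements.S0779
import Cfsg.Agent.Lib.Geometry.UnitaryBasic
-- import your own Cfsg.Agent.* helpers here

set_option autoImplicit false
open Cfsg

namespace Cfsg.Agent.S0779

/-- Unitary transvections: let |F| = q², h the standard Hermitian form Σ x_i y_i^q and v ≠ 0 with h(v, v) = 0. The linear map x ↦ x + c h(x, v) v is an isometry of h if and only if c = 0 or c^(q−1) = −1. -/
theorem result {F : Type*} [Field F] [Fintype F] {q : ℕ} (hF : Fintype.card F = q ^ 2) (n : ℕ) (v : Fin n → F) (hv : v ≠ 0) (hv0 : Cfsg.hermForm n F q v v = 0) (c : F) : (∀ x y : Fin n → F, Cfsg.hermForm n F q ((Cfsg.unitaryTransvection n q v c).mulVec x) ((Cfsg.unitaryTransvection n q v c).mulVec y) = Cfsg.hermForm n F q x y) ↔ (c = 0 ∨ c ^ (q - 1) = -1) := by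
  have hS := Lib.Geometry.hermBilin_isSymm (n := n) hF
  have h2 := Lib.Geometry.q_pos hF
  have hvv : Lib.Geometry.hermBilin n hF v v = 0 := hv0
  have hB : ∀ x y : Fin n → F,
      Cfsg.hermForm n F q ((Cfsg.unitaryTransvection n q v c).mulVec x)
        ((Cfsg.unitaryTransvection n q v c).mulVec y) =
      Cfsg.hermForm n F q x y +
        (c + c ^ q) * (Lib.Geometry.hermBilin n hF y v * Lib.Geometry.hermBilin n hF v x) := by
    intro x y
    rw [Lib.Geometry.unitaryTransvection_mulVec, Lib.Geometry.unitaryTransvection_mulVec]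
    simp only [← Lib.Geometry.hermBilin_apply hF, map_add, map_smul, map_smulₛₗ, LinearMap.add_apply,
      LinearMap.smul_apply, smul_eq_mul, hvv, map_mul, hS.eq v y]
    simp only [Lib.Geometry.frobQ_apply]
    ring
  have hq1 : q = (q - 1) + 1 := by omega
  constructor
  · intro h
    obtain ⟨φ, hφ, -⟩ := Lib.Geometry.exists_functional_one_of_notMem (⊥ : Submodule F (Fin n → F))
      (x := v) (by simpa using hv)
    obtain ⟨u, hu⟩ := Lib.Geometry.exists_sesq_eq_functional (Lib.Geometry.hermBilin n hF)
      (Lib.Geometry.frobQ_frobQ hF) hS (Lib.Geometry.hermBilin_nondegenerate hF) φ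
    have h' := hB u u
    rw [h u u, hu v, hφ, ← hS.eq u v, hu v, hφ, map_one, mul_one, mul_one, left_eq_add] at h'
    by_cases hc : c = 0
    · exact Or.inl hc
    refine Or.inr (mul_right_cancel₀ hc ?_)
    rw [← pow_succ, ← hq1]
    linear_combination h'
  · intro h x y
    rw [hB]
    have hc : c + c ^ q = 0 := by
      rcases h with rfl | h
      · rw [zero_add, zero_pow (by omega)]
      · rw [hq1, pow_succ, h]; ring
    rw [hc, zero_mul, add_zero]

end Cfsg.Agent.S0779
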