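import Cfsg.Statements.S0783
import Cfsg.Agent.Lib.Geometry.UnitaryDet
-- import your own Cfsg.Agent.* helpers here

set_option autoImplicit false
open Cfsg

namespace Cfsg.Agent.S0783

/-- PGU_n(q)/PSU_n(q) is cyclic of order (n, q+1): for n ≥ 2 and |F| = q² there is a surjective homomorphism from GU_n(q) onto the cyclic group of order gcd(n, q + 1) whose kernel is generated by the determinant-one elements together with the centre. -/
theorem result {F : Type*} [Field F] [Fintype F] {q : ℕ} (hF : Fintype.card F = q ^ 2) (n : ℕ) (hn : 2 ≤ n) : ∃ φ : ↥(Cfsg.GU n F q) →* Multiplicative (ZMod (Nat.gcd n (q + 1))), Function.Surjective φ ∧ φ.ker = (Matrix.GeneralLinearGroup.det : Matrix.GeneralLinearGroup (Fin n) F →* Fˣ).ker.subgroupOf (Cfsg.GU n F q) ⊔ Subgroup.center ↥(Cfsg.GU n F q) := by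
  classical
  set d := Nat.gcd n (q + 1) with hd
  let N := Cfsg.Agent.Lib.Geometry.normOneUnits F q
  have hN : Nat.card N = q + 1 := Cfsg.Agent.Lib.Geometry.card_normOneUnits hF
  let e : N ≃* Multiplicative (ZMod (q + 1)) := (hN ▸ zmodCyclicMulEquiv (inferInstance : IsCyclic N)).symm
  let ψ : Multiplicative (ZMod (q + 1)) →* Multiplicative (ZMod d) :=
    AddMonoidHom.toMultiplicative (ZMod.castHom (Nat.gcd_dvd_right n (q + 1)) (ZMod d)).toAddMonoidHom
  let δ : ↥(Cfsg.GU n F q) →* N :=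
    (Matrix.GeneralLinearGroup.det.comp (Cfsg.GU n F q).subtype).codRestrict N
      (fun g => Cfsg.Agent.Lib.Geometry.det_mem_normOneUnits hF g)
  have hsurj : Function.Surjective δ := fun u => by
    refine ⟨Cfsg.Agent.Lib.Geometry.guDiag hF (Function.update 1 ⟨0, by omega⟩ u), Subtype.ext ?_⟩
    show Matrix.GeneralLinearGroup.det (Cfsg.Agent.Lib.Geometry.guDiag hF (Function.update 1 ⟨0, by omega⟩ u)).1 = u.1
    rw [Cfsg.Agent.Lib.Geometry.det_guDiag, Finset.prod_eq_single (⟨0, by omega⟩ : Fin n)]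
    · simp
    · intro b _ hb; simp [hb]
    · simp
  have hdn : (n : ZMod d) = 0 := (ZMod.natCast_eq_zero_iff _ _).mpr (Nat.gcd_dvd_left n (q + 1))
  refine ⟨ψ.comp (e.toMonoidHom.comp δ), ?_, le_antisymm ?_ (sup_le ?_ ?_)⟩
  · intro x
    obtain ⟨y, hy⟩ := ZMod.castHom_surjective (Nat.gcd_dvd_right n (q + 1)) (Multiplicative.toAdd x)
    obtain ⟨g, hg⟩ := hsurj (e.symm (Multiplicative.ofAdd y))
    refine ⟨g, ?_⟩
    show ψ (e (δ g)) = x
    rw [hg, e.apply_symm_apply]
    exact congrArg Multiplicative.ofAdd hy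
  · intro g hg
    set x : ZMod (q + 1) := Multiplicative.toAdd (e (δ g)) with hx
    have hx0 : ZMod.castHom (Nat.gcd_dvd_right n (q + 1)) (ZMod d) x = 0 := congrArg Multiplicative.toAdd hg
    obtain ⟨y, hy⟩ : ∃ y : ZMod (q + 1), x = n • y := by
      have hval : (x.val : ZMod d) = 0 := by rw [ZMod.natCast_val]; exact hx0
      obtain ⟨t, ht⟩ := (ZMod.natCast_eq_zero_iff _ _).mp hval
      have hb := congrArg (fun z : ℤ => (z : ZMod (q + 1))) (Nat.gcd_eq_gcd_ab n (q + 1))
      simp only [← hd, Int.cast_natCast, Int.cast_add, Int.cast_mul, ZMod.natCast_self, zero_mul, add_zero] at hb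
      refine ⟨(Nat.gcdA n (q + 1) : ZMod (q + 1)) * t, ?_⟩
      rw [← ZMod.natCast_zmod_val x, ht, Nat.cast_mul, hb, nsmul_eq_mul, mul_assoc]
    let z := Cfsg.Agent.Lib.Geometry.guDiag hF (fun _ : Fin n => e.symm (Multiplicative.ofAdd y))
    have hz : z ∈ Subgroup.center ↥(Cfsg.GU n F q) := Subgroup.mem_center_iff.mpr fun h => by
      refine Subtype.ext (Units.ext ?_)
      show (h.1 : Matrix (Fin n) (Fin n) F) * Matrix.diagonal (fun _ => _) = Matrix.diagonal (fun _ => _) * (h.1 : Matrix (Fin n) (Fin n) F)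
      ext i j
      rw [Matrix.mul_diagonal, Matrix.diagonal_mul, mul_comm]
    have hdet : Matrix.GeneralLinearGroup.det z.1 = Matrix.GeneralLinearGroup.det g.1 := by
      rw [Cfsg.Agent.Lib.Geometry.det_guDiag, Finset.prod_const, Finset.card_univ, Fintype.card_fin]
      have h1 : e.symm (Multiplicative.ofAdd y) ^ n = δ g := by
        rw [← map_pow, ← ofAdd_nsmul, ← hy]
        exact e.symm_apply_apply _
      exact congrArg Subtype.val h1
    rw [show g = (g * z⁻¹) * z by group]
    refine Subgroup.mul_mem_sup ?_ hz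
    show Matrix.GeneralLinearGroup.det (g.1 * (z.1)⁻¹) = 1
    rw [map_mul, map_inv, hdet, mul_inv_cancel]
  · intro g hg
    have h1 : δ g = 1 := Subtype.ext hg
    show ψ (e (δ g)) = 1
    rw [h1, map_one, map_one]
  · intro g hg
    obtain ⟨c, rfl⟩ := Cfsg.Agent.Lib.Geometry.exists_scalar_of_mem_center hF (by omega) g hg
    have h1 : δ (Cfsg.Agent.Lib.Geometry.guDiag hF fun _ => c) = c ^ n := Subtype.ext (by
      show Matrix.GeneralLinearGroup.det (Cfsg.Agent.Lib.Geometry.guDiag hF fun _ => c).1 = _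
      rw [Cfsg.Agent.Lib.Geometry.det_guDiag]
      simp)
    show ψ (e (δ _)) = 1
    rw [h1, map_pow, map_pow]
    refine Multiplicative.toAdd.injective ?_
    rw [toAdd_pow, toAdd_one, nsmul_eq_mul, hdn, zero_mul]

end Cfsg.Agent.S0783
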