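import Cfsg.Statements.S0796
-- import your own Cfsg.Agent.* helpers here

set_option autoImplicit false
open Cfsg

namespace Cfsg.Agent.S0796

/-- If G is finite and acts faithfully and primitively on X, H is the stabiliser of a point, A is a normal subgroup of H whose normal closure in G is G, then for every non-trivial normal subgroup K of G the quotient G ⧸ K is isomorphic to A ⧸ B for some normal subgroup B of A. -/
theorem result {G X : Type*} [Group G] [Finite G] [MulAction G X] [FaithfulSMul G X] (hprim : MulAction.IsPreprimitive G X) (x : X) (A : Subgroup G) (hA : A ≤ MulAction.stabilizer G x) (hAn : (A.subgroupOf (MulAction.stabilizer G x)).Normal) (hgen : Subgroup.normalClosure (A : Set G) = ⊤) (K : Subgroup G) [K.Normal] (hK : K ≠ ⊥) : ∃ (B : Subgroup A) (_ : B.Normal), Nonempty (G ⧸ K ≃* A ⧸ B) := by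
  classical
  have hfix : MulAction.fixedPoints K X ≠ Set.univ := fun h => hK (by
    rw [Subgroup.eq_bot_iff_forall]
    intro k hk
    refine FaithfulSMul.eq_of_smul_eq_smul (α := X) fun y => ?_
    rw [one_smul]
    exact (Set.eq_univ_iff_forall.mp h y) ⟨k, hk⟩)
  haveI := hprim
  haveI : MulAction.IsPretransitive K X :=
    MulAction.IsQuasiPreprimitive.isPretransitive_of_normal hfix
  have hnorm : (K ⊔ A).Normal := by
    refine ⟨fun y hy g => ?_⟩
    obtain ⟨k, hk⟩ := MulAction.exists_smul_eq K x (g • x)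
    have hs : (k : G)⁻¹ * g ∈ MulAction.stabilizer G x := by
      rw [MulAction.mem_stabilizer_iff, mul_smul, ← hk]
      exact inv_smul_smul (k : G) x
    set s := (k : G)⁻¹ * g with hsdef
    have hg : g = k * s := by rw [hsdef, mul_inv_cancel_left]
    have hy' : y ∈ (K ⊔ A : Subgroup G) := hy
    rw [← Subgroup.mul_mem_cancel_left _ ((K ⊔ A).inv_mem (le_sup_left (a := K) k.2) :),
      ← Subgroup.mul_mem_cancel_right _ ((le_sup_left (a := K) (b := A)) k.2 :)]
    have e : (k : G)⁻¹ * (g * y * g⁻¹) * k = s * y * s⁻¹ := by rw [hg]; group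
    rw [e]
    have hle : K ⊔ A ≤ (K ⊔ A).comap (MulAut.conj s).toMonoidHom := by
      refine sup_le (fun z hz => Subgroup.mem_sup_left ?_) (fun z hz => Subgroup.mem_sup_right ?_)
      · show s * z * s⁻¹ ∈ K
        exact Subgroup.Normal.conj_mem inferInstance z hz s
      · show s * z * s⁻¹ ∈ A
        exact hAn.conj_mem ⟨z, hA hz⟩ hz ⟨s, hs⟩
    exact hle hy'
  have htop : K ⊔ A = ⊤ := by
    rw [eq_top_iff, ← hgen]
    exact Subgroup.normalClosure_le_normal (le_sup_right (a := K))
  have hsurj : Function.Surjective ((QuotientGroup.mk' K).comp A.subtype) := by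
    intro q
    obtain ⟨g, rfl⟩ := QuotientGroup.mk'_surjective K q
    have hg : g ∈ K ⊔ A := htop ▸ Subgroup.mem_top g
    obtain ⟨k, hk, a, ha, rfl⟩ := Subgroup.mem_sup_of_normal_left.mp hg
    refine ⟨⟨a, ha⟩, ?_⟩
    simp [(QuotientGroup.eq_one_iff k).mpr hk]
  exact ⟨((QuotientGroup.mk' K).comp A.subtype).ker, MonoidHom.normal_ker _,
    ⟨(QuotientGroup.quotientKerEquivOfSurjective _ hsurj).symm⟩⟩

end Cfsg.Agent.S0796
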