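import Cfsg.Statements.S0800
import Cfsg.Agent.Lib.SL2Trace.Basic
-- import your own Cfsg.Agent.* helpers here

set_option autoImplicit false
open Cfsg

namespace Cfsg.Agent.S0800

/-- Tori of SL_2(q): if g ∈ SL_2(q) has order coprime to the characteristic p, then the order of g divides q − 1 or q + 1. -/
theorem result {F : Type*} [Field F] [Fintype F] {q : ℕ} (hF : Fintype.card F = q) (p : ℕ) [Fact p.Prime] [CharP F p] (g : Matrix.SpecialLinearGroup (Fin 2) F) (hg : Nat.Coprime (orderOf g) p) : orderOf g ∣ q - 1 ∨ orderOf g ∣ q + 1 := by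
  classical
  subst hF
  by_cases h : Cfsg.Agent.Lib.SL2Trace.tr g ^ 2 = 4
  · have h2p : g ^ (2 * p) = 1 := by
      rw [mul_comm, pow_mul]
      rcases Cfsg.Agent.Lib.SL2Trace.pow_char_of_tr p h with h' | h' <;> rw [h']
      · exact one_pow _
      · rw [neg_one_sq]
    have hd : orderOf g ∣ 2 := hg.dvd_of_dvd_mul_right (orderOf_dvd_of_pow_eq_one h2p)
    obtain ⟨⟨m, hm⟩, -, hcard⟩ := FiniteField.card F p
    rcases (Fact.out : p.Prime).eq_two_or_odd' with rfl | hodd
    · left
      have h1 : orderOf g = 1 := Nat.eq_one_of_dvd_coprimes hg dvd_rfl hd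
      rw [h1]
      exact one_dvd _
    · left
      refine hd.trans ?_
      rw [hcard]
      exact (Nat.Odd.sub_odd hodd.pow odd_one).two_dvd
  · rcases Cfsg.Agent.Lib.SL2Trace.pow_dichotomy h with ⟨-, h'⟩ | ⟨-, h'⟩
    · exact Or.inl (orderOf_dvd_of_pow_eq_one h')
    · exact Or.inr (orderOf_dvd_of_pow_eq_one h')

end Cfsg.Agent.S0800
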