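import Cfsg.Statements.S0802
import Cfsg.Agent.Lib.Geometry.Dickson.Golden
-- import your own Cfsg.Agent.* helpers here

set_option autoImplicit false
open Cfsg
open scoped Matrix
open Cfsg.Agent.Lib.Geometry.Dickson
open Cfsg.Agent.Lib.SL2Trace (toPSL toPSL_eq toPSL_surjective)

namespace Cfsg.Agent.S0802

/-- PSL_2(p^n) has a subgroup isomorphic to A_4 if and only if it is not the case that p = 2 and n is odd. -/
theorem result {F : Type*} [Field F] [Fintype F] (p n : ℕ) [Fact p.Prime] [CharP F p] (hF : Fintype.card F = p ^ n) : (∃ H : Subgroup (Matrix.ProjectiveSpecialLinearGroup (Fin 2) F), Nonempty (H ≃* alternatingGroup (Fin 4))) ↔ ¬ (p = 2 ∧ Odd n) := by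
  constructor
  · rintro ⟨H, ⟨e⟩⟩ ⟨rfl, hn⟩
    obtain ⟨a, b, hab, ha2, hb3, hba⟩ : ∃ a b : alternatingGroup (Fin 4),
        a ≠ 1 ∧ a * a = 1 ∧ b * b * b = 1 ∧ b ≠ 1 ∧ b * a * b⁻¹ * a = a * (b * a * b⁻¹) := by
      decide +kernel
    obtain ⟨hb1, hcomm⟩ := hba
    set u := ((e.symm a : H) : Matrix.ProjectiveSpecialLinearGroup (Fin 2) F) with hu
    set y := ((e.symm b : H) : Matrix.ProjectiveSpecialLinearGroup (Fin 2) F) with hy
    have h2 : (2 : F) = 0 := CharTwo.two_eq_zero
    have hinj : Function.Injective (toPSL (F := F)) := fun A B h => by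
      rcases toPSL_eq.mp h with h | h
      · exact h.symm
      · rw [h]
        refine Subtype.ext ?_
        rw [Matrix.SpecialLinearGroup.coe_neg]
        ext i j
        simp
        linear_combination ((A : Matrix (Fin 2) (Fin 2) F) i j) * h2
    obtain ⟨U, hU⟩ := toPSL_surjective u
    obtain ⟨Y, hY⟩ := toPSL_surjective y
    have hval : ∀ z : alternatingGroup (Fin 4),
        ((e.symm z : H) : Matrix.ProjectiveSpecialLinearGroup (Fin 2) F) = 1 → z = 1 := fun z hz =>
      e.symm.injective (by rw [map_one]; exact Subtype.ext hz)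
    have hU1 : U ≠ 1 := fun h => hab (hval a (by rw [← hu, ← hU, h, map_one]))
    have hU2 : U * U = 1 := hinj (by
      rw [map_mul, hU, map_one, hu, ← Subgroup.coe_mul, ← map_mul, ha2, map_one]; rfl)
    have hY3 : Y * Y * Y = 1 := hinj (by
      rw [map_mul, map_mul, hY, map_one, hy, ← Subgroup.coe_mul, ← Subgroup.coe_mul, ← map_mul, ← map_mul, hb3,
        map_one]; rfl)
    have hY1 : Y ≠ 1 := fun h => hb1 (hval b (by rw [← hy, ← hY, h, map_one]))
    have hcen : ∀ {Z : Matrix.SpecialLinearGroup (Fin 2) F}, Z ≠ 1 → Z ∉ Subgroup.center _ := fun hZ h => by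
      rcases Cfsg.Agent.Lib.SL2Trace.mem_center_iff.mp h with h | h
      · exact hZ h
      · refine hZ (hinj ?_)
        rw [h, Cfsg.Agent.Lib.SL2Trace.toPSL_neg]
    have hUt : Cfsg.Agent.Lib.SL2Trace.tr U ^ 2 = 4 := by
      have h := Cfsg.Agent.Lib.SL2Trace.sq_eq U
      rw [show (U : Matrix (Fin 2) (Fin 2) F) * (U : Matrix (Fin 2) (Fin 2) F) = 1 from
        congrArg (fun g : Matrix.SpecialLinearGroup (Fin 2) F => (g : Matrix (Fin 2) (Fin 2) F)) hU2] at h
      by_cases h0 : Cfsg.Agent.Lib.SL2Trace.tr U = 0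
      · rw [h0]; linear_combination (-2 : F) * h2
      · exfalso
        refine hcen hU1 (Cfsg.Agent.Lib.SL2Trace.mem_center_iff.mpr ?_)
        have hs : ∀ i j, Cfsg.Agent.Lib.SL2Trace.tr U * (U : Matrix (Fin 2) (Fin 2) F) i j =
            ((2 : F) • (1 : Matrix (Fin 2) (Fin 2) F)) i j := fun i j => by
          have := congrFun (congrFun h i) j
          simp at this ⊢
          linear_combination -this
        refine Cfsg.Agent.Lib.SL2Trace.eq_scalar_of_entries (mul_left_cancel₀ h0 ?_) (mul_left_cancel₀ h0 ?_)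
          (mul_left_cancel₀ h0 ?_)
        · rw [hs]; simp
        · rw [hs]; simp
        · rw [hs, hs]; simp
    obtain ⟨v, ε, hv, hε, hte, hUv⟩ := exists_fixed_vector hUt
    have hmem : Y * U * Y⁻¹ ∈ Subgroup.centralizer ({U} : Set (Matrix.SpecialLinearGroup (Fin 2) F)) := by
      refine mem_centralizer_iff.mpr (hinj ?_)
      simp only [map_mul, map_inv]
      rw [hU, hY, hu, hy]
      simp only [← Subgroup.coe_inv, ← Subgroup.coe_mul, ← map_inv, ← map_mul, hcomm]
    obtain ⟨d, hd⟩ := fix_line_of_conj_mem (hcen hU1) hv hε hte hUv hmem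
    have hd3 : d * d * d = 1 := by
      refine smul_left_cancel_vec hv ?_
      have h := congrArg (fun g : Matrix.SpecialLinearGroup (Fin 2) F => (g : Matrix (Fin 2) (Fin 2) F) *ᵥ v) hY3
      simp only [Matrix.SpecialLinearGroup.coe_mul, ← Matrix.mulVec_mulVec, hd, Matrix.mulVec_smul, smul_smul,
        Matrix.SpecialLinearGroup.coe_one, Matrix.one_mulVec] at h
      rw [one_smul, mul_assoc]
      exact h
    have hd1 : d ≠ 1 := by
      intro h1
      rw [h1] at hd
      have h := congrArg (fun A : Matrix (Fin 2) (Fin 2) F => A *ᵥ v) (Cfsg.Agent.Lib.SL2Trace.sq_eq Y)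
      simp only [← Matrix.mulVec_mulVec, hd, one_smul, Matrix.sub_mulVec, Matrix.smul_mulVec, Matrix.one_mulVec] at h
      have ht : Cfsg.Agent.Lib.SL2Trace.tr Y = 2 := smul_left_cancel_vec hv (by
        rw [two_smul]; nth_rw 1 [eq_sub_iff_add_eq.mp h])
      rcases Cfsg.Agent.Lib.SL2Trace.pow_char_of_tr 2 (A := Y) (by rw [ht]; norm_num) with h' | h'
      · rw [sq] at h'
        rw [h', one_mul] at hY3
        exact hY1 hY3
      · rw [sq] at h'
        refine hY1 (hinj ?_)
        have e3 := congrArg toPSL hY3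
        rw [h', map_mul, Cfsg.Agent.Lib.SL2Trace.toPSL_neg, map_one, one_mul] at e3
        rw [e3, map_one]
    have hd0 : d ≠ 0 := fun h => by rw [h, mul_zero] at hd3; exact zero_ne_one hd3
    haveI : Fact (Nat.Prime 3) := ⟨Nat.prime_three⟩
    classical
    have ho : orderOf (Units.mk0 d hd0) = 3 := orderOf_eq_prime (Units.ext (by
      rw [Units.val_pow_eq_pow_val, Units.val_mk0, Units.val_one, pow_succ, sq, hd3]))
      (fun h => hd1 (congrArg Units.val h))
    have h3 : 3 ∣ Fintype.card F - 1 := by rw [← ho, ← Fintype.card_units]; exact orderOf_dvd_card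
    obtain ⟨j, rfl⟩ := hn
    rw [hF, pow_succ, pow_mul] at h3
    have h4 : (2 ^ 2) ^ j % 3 = 1 := by rw [Nat.pow_mod]; simp
    norm_num at h3 h4
    omega
  · intro h
    by_cases h2 : p = 2
    · subst h2
      obtain ⟨j, hj⟩ : Even n := Nat.not_odd_iff_even.mp fun ho => h ⟨rfl, ho⟩
      have h5 : 5 ∣ Fintype.card F * (Fintype.card F ^ 2 - 1) := by
        refine dvd_mul_of_dvd_right ?_ _
        rw [hF, hj, ← two_mul, ← pow_mul, show 2 * j * 2 = 4 * j by ring, pow_mul]
        have h16 : (2 ^ 4) ^ j % 5 = 1 := by rw [Nat.pow_mod]; simp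
        norm_num at h16 ⊢
        omega
      obtain ⟨H, ⟨e⟩⟩ := exists_altFive_of_dvd h5
      exact exists_altFour_of_altFive e
    · refine exists_altFour fun h0 => h2 ?_
      exact (Nat.prime_dvd_prime_iff_eq Fact.out Nat.prime_two).mp
        ((CharP.cast_eq_zero_iff F p 2).mp (by exact_mod_cast h0))

end Cfsg.Agent.S0802
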