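import Cfsg.Statements.S0804
import Cfsg.Agent.Lib.Geometry.Dickson.Golden
-- import your own Cfsg.Agent.* helpers here

set_option autoImplicit false
open Cfsg
open scoped Matrix
open Cfsg.Agent.Lib.Geometry.Dickson
open Cfsg.Agent.Lib.SL2Trace (toPSL toPSL_eq toPSL_surjective)

namespace Cfsg.Agent.S0804

/-- PSL_2(q) has a subgroup isomorphic to A_5 iff 5 ∣ q(q² − 1). -/
theorem result {F : Type*} [Field F] [Fintype F] {q : ℕ} (hF : Fintype.card F = q) : (∃ H : Subgroup (Matrix.ProjectiveSpecialLinearGroup (Fin 2) F), Nonempty (H ≃* alternatingGroup (Fin 5))) ↔ 5 ∣ q * (q ^ 2 - 1) := by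
  subst hF
  refine ⟨fun ⟨H, ⟨e⟩⟩ => ?_, exists_altFive_of_dvd⟩
  have h60 : Nat.card H = 60 := by rw [Nat.card_congr e.toEquiv, Nat.card_eq_fintype_card]; decide
  rw [← Cfsg.Agent.Lib.Classical.card_PSL2_mul]
  exact dvd_mul_of_dvd_right ((h60 ▸ (by norm_num : 5 ∣ 60)).trans H.card_subgroup_dvd_card) _

end Cfsg.Agent.S0804
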