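import Cfsg.Statements.S0805
import Cfsg.Agent.Lib.Geometry.Dickson.Embed
-- import your own Cfsg.Agent.* helpers here

set_option autoImplicit false
open Cfsg
open Cfsg.Agent.Lib.Geometry.Dickson

namespace Cfsg.Agent.S0805

/-- Subfield subgroups: let F be a finite field of odd order q and K a finite field with |K|^m = q, m ≥ 1. Then PSL_2(F) has a subgroup isomorphic to PSL_2(K), and has a subgroup isomorphic to PGL_2(K) if and only if m is even. -/
theorem result {F K : Type*} [Field F] [Fintype F] [Field K] [Fintype K] {q : ℕ} (hF : Fintype.card F = q) (hodd : Odd q) (m : ℕ) (hm : 1 ≤ m) (hK : Fintype.card K ^ m = q) : (∃ H : Subgroup (Matrix.ProjectiveSpecialLinearGroup (Fin 2) F), Nonempty (H ≃* Matrix.ProjectiveSpecialLinearGroup (Fin 2) K)) ∧ ((∃ H : Subgroup (Matrix.ProjectiveSpecialLinearGroup (Fin 2) F), Nonempty (H ≃* Matrix.ProjGenLinGroup (Fin 2) K)) ↔ Even m) := by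
  classical
  subst hF
  obtain ⟨σ⟩ := exists_ringHom (K := K) (F := F) m hK
  obtain ⟨e⟩ := pslRange_equiv σ
  refine ⟨⟨pslRange σ, ⟨e⟩⟩, ⟨?_, ?_⟩⟩
  · rintro ⟨H, ⟨e'⟩⟩
    by_contra hne
    have hmodd : m % 2 = 1 := Nat.odd_iff.mp (Nat.not_even_iff_odd.mp hne)
    set r := Fintype.card K with hr
    have hrodd : r % 2 = 1 := by
      rcases Nat.mod_two_eq_zero_or_one r with h | h
      · exfalso
        have : 2 ∣ Fintype.card F := hK ▸ (Nat.dvd_of_mod_eq_zero h).trans (dvd_pow_self r (by omega))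
        rw [Nat.odd_iff] at hodd
        omega
      · exact h
    have h1 : r * (r ^ 2 - 1) ∣ Nat.card (Matrix.ProjectiveSpecialLinearGroup (Fin 2) F) := by
      have := H.card_subgroup_dvd_card
      rwa [Nat.card_congr e'.toEquiv, Cfsg.Agent.Lib.Classical.card_PGL, Cfsg.Agent.Lib.Classical.card_SL2] at this
    have hG := Cfsg.Agent.Lib.Classical.card_PSL2_mul (F := F)
    rw [Nat.gcd_eq_left (Nat.dvd_iff_mod_eq_zero.mpr (by
      rw [Nat.odd_iff] at hodd; omega) : 2 ∣ Fintype.card F - 1)] at hG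
    have h2 : 2 * (r * (r ^ 2 - 1)) ∣ r ^ m * ((r ^ m) ^ 2 - 1) := by
      rw [hK, ← hG]; exact mul_dvd_mul_left 2 h1
    have hsum : (r ^ m) ^ 2 - 1 = (r ^ 2 - 1) * ∑ i ∈ Finset.range m, (r ^ 2) ^ i := by
      have h := geom_sum_mul_add (r ^ 2 - 1) m
      rw [Nat.sub_add_cancel (Nat.one_le_pow _ _ (by omega))] at h
      rw [← pow_mul, mul_comm m 2, pow_mul, ← h, Nat.add_sub_cancel, mul_comm]
    obtain ⟨c, hc⟩ : ∃ c, m = c + 1 := ⟨m - 1, by omega⟩
    rw [hsum, hc, pow_succ' r c] at h2
    have hpos : 0 < r * (r ^ 2 - 1) := by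
      have : 1 < r := Fintype.one_lt_card
      have : 1 < r ^ 2 := Nat.one_lt_pow two_ne_zero this
      exact Nat.mul_pos (by omega) (by omega)
    have h3 : 2 ∣ r ^ c * ∑ i ∈ Finset.range (c + 1), (r ^ 2) ^ i := by
      refine (Nat.mul_dvd_mul_iff_left hpos).mp ?_
      calc r * (r ^ 2 - 1) * 2 = 2 * (r * (r ^ 2 - 1)) := by ring
        _ ∣ r * r ^ c * ((r ^ 2 - 1) * ∑ i ∈ Finset.range (c + 1), (r ^ 2) ^ i) := h2
        _ = r * (r ^ 2 - 1) * (r ^ c * ∑ i ∈ Finset.range (c + 1), (r ^ 2) ^ i) := by ring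
    rcases Nat.prime_two.dvd_mul.mp h3 with h | h
    · have := Nat.prime_two.dvd_of_dvd_pow h
      omega
    · rw [Nat.dvd_iff_mod_eq_zero, Finset.sum_nat_mod,
        Finset.sum_congr rfl (fun i _ => show (r ^ 2) ^ i % 2 = 1 by rw [Nat.pow_mod, Nat.pow_mod r, hrodd]; simp),
        Finset.sum_const, Finset.card_range, smul_eq_mul, mul_one, ← hc] at h
      omega
  · rintro ⟨j, hj⟩
    have hq1 : 1 < Fintype.card F := Fintype.one_lt_card
    have hF2 : ringChar F ≠ 2 := fun h => by
      have := FiniteField.even_card_of_char_two h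
      rw [Nat.odd_iff] at hodd
      omega
    obtain ⟨H, -, hH⟩ := exists_pgl_range σ fun d => by
      rcases eq_or_ne d 0 with rfl | hd
      · rw [map_zero]; exact IsSquare.zero
      rw [FiniteField.isSquare_iff hF2 (fun h => hd (σ.injective (h.trans (map_zero σ).symm))), ← map_pow]
      obtain ⟨c, hc⟩ : Fintype.card K - 1 ∣ Fintype.card F / 2 := by
        set r := Fintype.card K
        have hr : 1 < r := Fintype.one_lt_card
        have h1 : r - 1 ∣ r ^ j - 1 := by simpa using Nat.sub_dvd_pow_sub_pow r 1 j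
        have hrj : 1 ≤ r ^ j := Nat.one_le_pow _ _ (by omega)
        have hq : Fintype.card F - 1 = (r ^ j - 1) * (r ^ j + 1) := by
          rw [← hK, hj, ← two_mul, mul_comm 2 j, pow_mul]
          obtain ⟨a, ha⟩ := Nat.exists_eq_add_of_le hrj
          rw [ha]
          have : (1 + a) ^ 2 = a * (1 + a + 1) + 1 := by ring
          rw [this, Nat.add_sub_cancel, Nat.add_sub_cancel_left]
        have hrodd : r % 2 = 1 := by
          rcases Nat.mod_two_eq_zero_or_one r with h | h
          · exfalso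
            have : 2 ∣ Fintype.card F := hK ▸ (Nat.dvd_of_mod_eq_zero h).trans (dvd_pow_self r (by omega))
            rw [Nat.odd_iff] at hodd
            omega
          · exact h
        have hje : 2 ∣ r ^ j + 1 := by
          have : r ^ j % 2 = 1 := by rw [Nat.pow_mod, hrodd]; simp
          omega
        obtain ⟨b, hb⟩ := hje
        have : Fintype.card F / 2 = (r ^ j - 1) * b := by
          rw [Nat.odd_iff] at hodd
          rw [hb, show (r ^ j - 1) * (2 * b) = 2 * ((r ^ j - 1) * b) by ring] at hq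
          omega
        rw [this]
        exact h1.trans (dvd_mul_right _ _)
      rw [hc, pow_mul, FiniteField.pow_card_sub_one_eq_one d hd, one_pow, map_one]
    exact ⟨H, hH⟩

end Cfsg.Agent.S0805
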