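import Cfsg.Statements.S0806
import Cfsg.Agent.Lib.Geometry.Dickson.Global
-- import your own Cfsg.Agent.* helpers here

set_option autoImplicit false
open Cfsg
open Cfsg.Agent.Lib.Geometry.Dickson

namespace Cfsg.Agent.S0806

/-- Minimal index (Galois): if q ∉ {2, 3, 5, 7, 9, 11} then every proper subgroup of PSL_2(q) has index ≥ q + 1, and some subgroup has index exactly q + 1. -/
theorem result {F : Type*} [Field F] [Fintype F] {q : ℕ} (hF : Fintype.card F = q) (hq : q ∉ ({2, 3, 5, 7, 9, 11} : Finset ℕ)) : (∀ H : Subgroup (Matrix.ProjectiveSpecialLinearGroup (Fin 2) F), H ≠ ⊤ → q + 1 ≤ H.index) ∧ ∃ H : Subgroup (Matrix.ProjectiveSpecialLinearGroup (Fin 2) F), H.index = q + 1 := by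
  subst hF
  obtain ⟨p, hp⟩ := CharP.exists F
  haveI : Fact p.Prime := ⟨CharP.char_is_prime F p⟩
  refine ⟨fun H hH => ?_, exists_index_eq p⟩
  have h1 := card_le_borel p hq hH
  have h2 := card_PSL2 (F := F)
  rw [← H.card_mul_index] at h2
  have hq2 : 2 ≤ Fintype.card F := Fintype.one_lt_card
  refine Nat.le_of_mul_le_mul_left ?_ (show 0 < Fintype.card F * (Fintype.card F - 1) from Nat.mul_pos (by omega) (by omega))
  calc Fintype.card F * (Fintype.card F - 1) * (Fintype.card F + 1)
      = Nat.gcd 2 (Fintype.card F - 1) * (Nat.card H * H.index) := by rw [h2]; ring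
    _ ≤ Fintype.card F * (Fintype.card F - 1) * H.index := by
        rw [← mul_assoc]; exact Nat.mul_le_mul_right _ h1

end Cfsg.Agent.S0806
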