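import Cfsg.Statements.S0808
import Cfsg.Agent.Lib.Geometry.Dickson.FourGroups
-- import your own Cfsg.Agent.* helpers here

set_option autoImplicit false
open Cfsg
open scoped Matrix Pointwise
open Cfsg.Agent.Lib.Geometry.Dickson

namespace Cfsg.Agent.S0808

/-- Conjugacy classes of four-groups in PSL_2(q), q odd: if q ≡ 3 or 5 (mod 8) all Klein four-subgroups are conjugate; if q ≡ 1 or 7 (mod 8) there are two Klein four-subgroups which are not conjugate, and every Klein four-subgroup is conjugate to one of them. -/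
theorem result {F : Type*} [Field F] [Fintype F] {q : ℕ} (hF : Fintype.card F = q) (hodd : Odd q) : ((q % 8 = 3 ∨ q % 8 = 5) → ∀ V W : Subgroup (Matrix.ProjectiveSpecialLinearGroup (Fin 2) F), IsKleinFour V → IsKleinFour W → ∃ g : Matrix.ProjectiveSpecialLinearGroup (Fin 2) F, W = V.map (MulAut.conj g).toMonoidHom) ∧ ((q % 8 = 1 ∨ q % 8 = 7) → ∃ V₁ V₂ : Subgroup (Matrix.ProjectiveSpecialLinearGroup (Fin 2) F), IsKleinFour V₁ ∧ IsKleinFour V₂ ∧ (¬ ∃ g : Matrix.ProjectiveSpecialLinearGroup (Fin 2) F, V₂ = V₁.map (MulAut.conj g).toMonoidHom) ∧ ∀ W : Subgroup (Matrix.ProjectiveSpecialLinearGroup (Fin 2) F), IsKleinFour W → (∃ g : Matrix.ProjectiveSpecialLinearGroup (Fin 2) F, W = V₁.map (MulAut.conj g).toMonoidHom) ∨ (∃ g : Matrix.ProjectiveSpecialLinearGroup (Fin 2) F, W = V₂.map (MulAut.conj g).toMonoidHom)) := by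
  classical
  subst hF
  have h2 := Nat.odd_iff.mp hodd
  haveI : Fact (Nat.Prime 2) := ⟨Nat.prime_two⟩
  have hG : 2 * Nat.card (Matrix.ProjectiveSpecialLinearGroup (Fin 2) F) = Fintype.card F * (Fintype.card F ^ 2 - 1) := card_PSL2_odd h2
  have hmap : ∀ (g : (Matrix.ProjectiveSpecialLinearGroup (Fin 2) F)) (V : Subgroup (Matrix.ProjectiveSpecialLinearGroup (Fin 2) F)), MulAut.conj g • V = V.map (MulAut.conj g).toMonoidHom := fun g V => rfl
  refine ⟨fun h8 V W hV hW => ?_, fun h8 => ?_⟩
  · have hfac : (Nat.card (Matrix.ProjectiveSpecialLinearGroup (Fin 2) F)).factorization 2 = 2 := by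
      have h1 := (Nat.prime_two.pow_dvd_iff_le_factorization Nat.card_pos.ne').mp
        (show 2 ^ 2 ∣ Nat.card (Matrix.ProjectiveSpecialLinearGroup (Fin 2) F) from (by rw [hV.card_four]; norm_num : 2 ^ 2 ∣ Nat.card V).trans V.card_subgroup_dvd_card)
      by_contra h3
      have h8' : 2 * 8 ∣ Fintype.card F * (Fintype.card F ^ 2 - 1) :=
        hG ▸ mul_dvd_mul_left 2 ((Nat.prime_two.pow_dvd_iff_le_factorization (k := 3) Nat.card_pos.ne').mpr (by omega))
      have h16 : 16 ∣ Fintype.card F ^ 2 - 1 := (Nat.Coprime.dvd_of_dvd_mul_left (by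
        rw [show (16 : ℕ) = 2 ^ 4 from rfl]
        exact Nat.Coprime.pow_left _ (Nat.coprime_two_left.mpr hodd)) h8')
      have hpos : 1 ≤ Fintype.card F ^ 2 := Nat.one_le_pow _ _ Fintype.card_pos
      have := (q_mod_eight_iff (Fintype.card F)).mp (by omega)
      omega
    obtain ⟨g, hg⟩ := MulAction.exists_smul_eq (Matrix.ProjectiveSpecialLinearGroup (Fin 2) F) (Sylow.ofCard V (by rw [hV.card_four, hfac]; rfl))
      (Sylow.ofCard W (by rw [hW.card_four, hfac]; rfl))
    exact ⟨g, (congrArg Sylow.toSubgroup hg).symm⟩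
  · have hne : 0 < Nat.card {V : Subgroup (Matrix.ProjectiveSpecialLinearGroup (Fin 2) F) // IsKleinFour V} := by
      have h := card_four_groups (F := F) h2
      have : 0 < Nat.card (Matrix.ProjectiveSpecialLinearGroup (Fin 2) F) := Nat.card_pos
      change 12 * _ = Nat.card (Matrix.ProjectiveSpecialLinearGroup (Fin 2) F) at h
      omega
    haveI : Nonempty {V : Subgroup (Matrix.ProjectiveSpecialLinearGroup (Fin 2) F) // IsKleinFour V} := (Nat.card_pos_iff.mp hne).1
    obtain ⟨⟨V₁, hV₁⟩⟩ := (inferInstance : Nonempty {V : Subgroup (Matrix.ProjectiveSpecialLinearGroup (Fin 2) F) // IsKleinFour V})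
    set C := fun V : Subgroup (Matrix.ProjectiveSpecialLinearGroup (Fin 2) F) => Set.range fun g : (Matrix.ProjectiveSpecialLinearGroup (Fin 2) F) => V.map (MulAut.conj g).toMonoidHom with hC
    have hKF : ∀ (V : Subgroup (Matrix.ProjectiveSpecialLinearGroup (Fin 2) F)), IsKleinFour V → ∀ W ∈ C V, IsKleinFour W := by
      rintro V hV _ ⟨g, rfl⟩
      let e := V.equivMapOfInjective (MulAut.conj g).toMonoidHom (MulAut.conj g).injective
      exact ⟨(Nat.card_congr e.toEquiv).symm.trans hV.card_four,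
        (Monoid.exponent_eq_of_mulEquiv e).symm.trans hV.exponent_two⟩
    have hcard : ∀ (V : Subgroup (Matrix.ProjectiveSpecialLinearGroup (Fin 2) F)), IsKleinFour V → 24 * (C V).ncard = Nat.card (Matrix.ProjectiveSpecialLinearGroup (Fin 2) F) := by
      intro V hV
      have hN := card_normalizer_four (F := F) h2 h8 (V := V)
      letI : MulAction (Matrix.ProjectiveSpecialLinearGroup (Fin 2) F) (Subgroup (Matrix.ProjectiveSpecialLinearGroup (Fin 2) F)) := MulAction.compHom _ MulAut.conj
      have hstab : MulAction.stabilizer (Matrix.ProjectiveSpecialLinearGroup (Fin 2) F) V = Subgroup.normalizer (V : Set (Matrix.ProjectiveSpecialLinearGroup (Fin 2) F)) := by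
        ext g
        rw [MulAction.mem_stabilizer_iff, Subgroup.mem_normalizer_iff]
        show MulAut.conj g • V = V ↔ _
        constructor
        · intro h z
          conv_rhs => rw [← h, Subgroup.mem_pointwise_smul_iff_inv_smul_mem]
          simp [mul_assoc]
        · intro h
          ext z
          rw [Subgroup.mem_pointwise_smul_iff_inv_smul_mem, MulAut.smul_def, MulAut.conj_inv_apply,
            h (g⁻¹ * z * g)]
          simp [mul_assoc]
      have h := (MulAction.stabilizer (Matrix.ProjectiveSpecialLinearGroup (Fin 2) F) V).card_mul_index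
      rw [MulAction.index_stabilizer, hstab, hN] at h
      exact h
    have hall := card_four_groups (F := F) h2
    obtain ⟨V₂, hV₂, hV₂C⟩ : ∃ V₂ : Subgroup (Matrix.ProjectiveSpecialLinearGroup (Fin 2) F), IsKleinFour V₂ ∧ V₂ ∉ C V₁ := by
      by_contra hc
      push Not at hc
      have hle : Nat.card {V : Subgroup (Matrix.ProjectiveSpecialLinearGroup (Fin 2) F) // IsKleinFour V} ≤ (C V₁).ncard := by
        rw [← Nat.card_coe_set_eq]
        exact Nat.card_le_card_of_injective (fun V => (⟨V.1, hc V.1 V.2⟩ : C V₁))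
          fun a b h => Subtype.ext (congrArg (fun z : C V₁ => z.1) h)
      have := hcard V₁ hV₁
      have : 0 < Nat.card (Matrix.ProjectiveSpecialLinearGroup (Fin 2) F) := Nat.card_pos
      change 12 * _ = Nat.card (Matrix.ProjectiveSpecialLinearGroup (Fin 2) F) at hall
      omega
    refine ⟨V₁, V₂, hV₁, hV₂, fun ⟨g, hg⟩ => hV₂C ⟨g, hg.symm⟩, fun W hW => ?_⟩
    by_contra hc
    push Not at hc
    have hdis : Disjoint (C V₁) (C V₂) := by
      rw [Set.disjoint_left]
      rintro U ⟨g, rfl⟩ ⟨h, hh⟩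
      refine hV₂C ⟨h⁻¹ * g, ?_⟩
      have h' := congrArg (fun U : Subgroup (Matrix.ProjectiveSpecialLinearGroup (Fin 2) F) => U.map (MulAut.conj h⁻¹).toMonoidHom) hh
      simp only [Subgroup.map_map] at h'
      rw [show (MulAut.conj h⁻¹).toMonoidHom.comp (MulAut.conj h).toMonoidHom = MonoidHom.id (Matrix.ProjectiveSpecialLinearGroup (Fin 2) F) from
        MonoidHom.ext fun z => by simp [mul_assoc], Subgroup.map_id] at h'
      rw [h']
      show V₁.map _ = V₁.map _
      congr 1
      exact MonoidHom.ext fun z => by simp [mul_assoc]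
    have hsub : insert W (C V₁ ∪ C V₂) ⊆ {V : Subgroup (Matrix.ProjectiveSpecialLinearGroup (Fin 2) F) | IsKleinFour V} := by
      rintro U (rfl | hU | hU)
      · exact hW
      · exact hKF V₁ hV₁ U hU
      · exact hKF V₂ hV₂ U hU
    have h1 := Set.ncard_le_ncard hsub
    rw [Set.ncard_insert_of_notMem (by
        rintro (⟨g, hg⟩ | ⟨g, hg⟩)
        · exact hc.1 g hg.symm
        · exact hc.2 g hg.symm), Set.ncard_union_eq hdis] at h1
    rw [← Nat.card_coe_set_eq {V : Subgroup (Matrix.ProjectiveSpecialLinearGroup (Fin 2) F) | IsKleinFour V}] at h1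
    have := hcard V₁ hV₁
    have := hcard V₂ hV₂
    change 12 * _ = Nat.card (Matrix.ProjectiveSpecialLinearGroup (Fin 2) F) at hall
    change _ ≤ Nat.card {V : Subgroup (Matrix.ProjectiveSpecialLinearGroup (Fin 2) F) // IsKleinFour V} at h1
    omega

end Cfsg.Agent.S0808
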