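import Cfsg.Statements.S0809
import Cfsg.Agent.Lib.Geometry.Dickson.FourGroups
import Cfsg.Agent.Lib.Classical.SLTwoSmallFacts
-- import your own Cfsg.Agent.* helpers here

set_option autoImplicit false
open Cfsg
open scoped Matrix Pointwise
open Cfsg.Agent.Lib.Geometry.Dickson

namespace Cfsg.Agent.S0809

/-- In SL_2(q), q odd: any two subgroups of order 4 are conjugate, and the normaliser of a subgroup of order 4 has order 2(q − 1) if q ≡ 1 (mod 4) and 2(q + 1) if q ≡ 3 (mod 4); consequently all involutions of PSL_2(q) are conjugate. -/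
theorem result {F : Type*} [Field F] [Fintype F] {q : ℕ} (hF : Fintype.card F = q) (hodd : Odd q) (A : Subgroup (Matrix.SpecialLinearGroup (Fin 2) F)) (hA : Nat.card A = 4) : (∀ B : Subgroup (Matrix.SpecialLinearGroup (Fin 2) F), Nat.card B = 4 → ∃ g : Matrix.SpecialLinearGroup (Fin 2) F, B = A.map (MulAut.conj g).toMonoidHom) ∧ (q % 4 = 1 → Nat.card ↥(Subgroup.normalizer (A : Set (Matrix.SpecialLinearGroup (Fin 2) F))) = 2 * (q - 1)) ∧ (q % 4 = 3 → Nat.card ↥(Subgroup.normalizer (A : Set (Matrix.SpecialLinearGroup (Fin 2) F))) = 2 * (q + 1)) ∧ (∀ x y : Matrix.ProjectiveSpecialLinearGroup (Fin 2) F, orderOf x = 2 → orderOf y = 2 → IsConj x y) := by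
  classical
  subst hF
  have h2 := Nat.odd_iff.mp hodd
  have h20 : (2 : F) ≠ 0 := two_ne_of_odd h2
  haveI : Fact (Nat.Prime 2) := ⟨Nat.prime_two⟩
  have gen : ∀ B : Subgroup (Matrix.SpecialLinearGroup (Fin 2) F), Nat.card B = 4 → ∃ a : Matrix.SpecialLinearGroup (Fin 2) F,
      Subgroup.zpowers a = B ∧ a ∉ Subgroup.center _ ∧ Cfsg.Agent.Lib.SL2Trace.tr a = 0 ∧ Cfsg.Agent.Lib.SL2Trace.tr a ^ 2 ≠ 4 := by
    intro B hB
    have hz : Nat.card (Subgroup.center (Matrix.SpecialLinearGroup (Fin 2) F)) = 2 :=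
      Cfsg.Agent.Lib.Classical.card_center_SL2_odd hodd
    obtain ⟨a, ha, haZ⟩ : ∃ a ∈ B, a ∉ Subgroup.center _ := by
      by_contra hc
      push Not at hc
      have := Subgroup.card_le_of_le (show B ≤ Subgroup.center _ from hc)
      omega
    have h4 : a ^ 4 = 1 := by
      rw [← hB]; exact congrArg Subtype.val (pow_card_eq_one' (x := (⟨a, ha⟩ : B)))
    have hsq : Cfsg.Agent.Lib.SL2Trace.toPSL (a * a) = 1 := by
      by_contra h1
      have hZ : a * a ∉ Subgroup.center _ :=
        fun h => h1 (Cfsg.Agent.Lib.SL2Trace.toPSL_eq_one.mpr (Cfsg.Agent.Lib.SL2Trace.mem_center_iff.mp h))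
      have h0 := tr_zero_of_sq hZ (by
        rw [← map_mul, show a * a * (a * a) = a ^ 4 by simp [pow_succ, mul_assoc], h4, map_one])
      have h5 := Cfsg.Agent.Lib.SL2Trace.sq_eq (a * a)
      rw [h0, zero_smul, zero_sub, ← Matrix.SpecialLinearGroup.coe_mul,
        show a * a * (a * a) = a ^ 4 by simp [pow_succ, mul_assoc], h4] at h5
      have := congrFun (congrFun h5 0) 0
      simp at this
      exact h20 (by linear_combination this)
    have h0 := tr_zero_of_sq haZ (by rw [← map_mul]; exact hsq)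
    refine ⟨a, ?_, haZ, h0, fun h => h20 (by rw [h0] at h; exact mul_self_eq_zero.mp (by linear_combination -h))⟩
    refine Subgroup.eq_of_le_of_card_ge (Subgroup.zpowers_le.mpr ha) ?_
    rw [hB, Nat.card_zpowers]
    refine le_of_eq (orderOf_eq_prime_pow (p := 2) (n := 1) (x := a) (fun h => ?_) (by simpa using h4)).symm
    rw [pow_one, sq] at h
    have h5 := Cfsg.Agent.Lib.SL2Trace.sq_eq a
    rw [h0, zero_smul, zero_sub, ← Matrix.SpecialLinearGroup.coe_mul, h] at h5
    have := congrFun (congrFun h5 0) 0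
    simp at this
    exact h20 (by linear_combination this)
  obtain ⟨a, rfl, haZ, ha0, hat⟩ := gen A hA
  have hsplit : IsSplit a ↔ Fintype.card F % 4 ≠ 3 := by
    rw [← FiniteField.isSquare_neg_one_iff]
    constructor
    · rintro ⟨r, hr⟩; exact ⟨r, by rw [ha0] at hr; linear_combination -hr⟩
    · rintro ⟨r, hr⟩; exact ⟨r, by rw [ha0]; linear_combination -hr⟩
  have hN : Nat.card (Subgroup.normalizer ((Subgroup.zpowers a : Subgroup (Matrix.SpecialLinearGroup (Fin 2) F)) : Set (Matrix.SpecialLinearGroup (Fin 2) F))) =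
      2 * Nat.card (cell ⊤ a) := by
    rw [Cfsg.Agent.Lib.PSLSpec.normalizer_of_le_cell haZ hat
      (Subgroup.zpowers_le.mpr (mem_cell_self ⊤ (Subgroup.mem_top a))) (Subgroup.mem_zpowers a) haZ,
      Cfsg.Agent.Lib.PSLSpec.card_cellNorm haZ hat]
  refine ⟨fun B hB => ?_, fun h4 => ?_, fun h4 => ?_, fun x y hx hy => isConj_invol h2 hx hy⟩
  · obtain ⟨b, rfl, -, hb0, -⟩ := gen B hB
    obtain ⟨g, hg⟩ := isConj_iff.mp (Cfsg.Agent.Lib.SL2Trace.isConj_of_tr_eq (ha0.trans hb0.symm) hat)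
    exact ⟨g, by rw [MonoidHom.map_zpowers, show (MulAut.conj g).toMonoidHom a = b from hg]⟩
  · rw [hN, card_cell_split haZ hat (hsplit.mpr (by omega))]
  · rw [hN, card_cell_nonsplit haZ hat (fun h => hsplit.mp h h4)]

end Cfsg.Agent.S0809
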