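import Cfsg.Statements.S0810
import Cfsg.Agent.Lib.Geometry.Dickson.Solv
import Cfsg.Agent.S0804
-- import your own Cfsg.Agent.* helpers here

set_option autoImplicit false
open Cfsg
open scoped Matrix
open Cfsg.Agent.Lib.Geometry.Dickson

namespace Cfsg.Agent.S0810

/-- PSL_2(q) is minimal simple iff q is 2^r (r prime), 3^r (r an odd prime), a prime greater than 5 congruent to 2 or 3 mod 5, or 5. -/
theorem result {F : Type*} [Field F] [Fintype F] {q : ℕ} (hF : Fintype.card F = q) : Cfsg.IsMinimalSimple (Matrix.ProjectiveSpecialLinearGroup (Fin 2) F) ↔ ((∃ r : ℕ, r.Prime ∧ q = 2 ^ r) ∨ (∃ r : ℕ, r.Prime ∧ r ≠ 2 ∧ q = 3 ^ r) ∨ (q.Prime ∧ 5 < q ∧ (q % 5 = 2 ∨ q % 5 = 3)) ∨ q = 5) := by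
  classical
  subst hF
  obtain ⟨p, hp⟩ := CharP.exists F
  haveI : Fact p.Prime := ⟨CharP.char_is_prime F p⟩
  obtain ⟨n, -, hn⟩ := FiniteField.card F p
  have hn0 : 0 < (n : ℕ) := n.pos
  have hG := Cfsg.Agent.Lib.Classical.card_PSL2_mul (F := F)
  have hA5 := Cfsg.Agent.S0804.result (F := F) rfl
  have h45 : Nat.card (Matrix.ProjectiveSpecialLinearGroup (Fin 2) F) = 60 → Fintype.card F = 4 ∨ Fintype.card F = 5 := by
    intro h
    rw [h] at hG
    have hd : Nat.gcd 2 (Fintype.card F - 1) ≤ 2 := Nat.le_of_dvd two_pos (Nat.gcd_dvd_left _ _)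
    have h5 : Fintype.card F ≤ 5 := by
      by_contra h5
      have : 6 * (6 ^ 2 - 1) ≤ Fintype.card F * (Fintype.card F ^ 2 - 1) :=
        Nat.mul_le_mul (by omega) (Nat.sub_le_sub_right (Nat.pow_le_pow_left (by omega) 2) 1)
      omega
    interval_cases hq : Fintype.card F <;> simp at hG ⊢
  have h45' : Fintype.card F = 4 ∨ Fintype.card F = 5 → Nat.card (Matrix.ProjectiveSpecialLinearGroup (Fin 2) F) = 60 := by
    rintro (h | h) <;> rw [h] at hG
    · rw [show Nat.gcd 2 (4 - 1) = 1 from rfl, show 4 * (4 ^ 2 - 1) = 60 from rfl] at hG; omega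
    · rw [show Nat.gcd 2 (5 - 1) = 2 from rfl, show 5 * (5 ^ 2 - 1) = 120 from rfl] at hG; omega
  constructor
  · rintro ⟨hs, hnc, hsol⟩
    have h4 : 4 ≤ Fintype.card F := by
      by_contra h4
      have hq := Fintype.one_lt_card (α := F)
      haveI : Group.IsSolvable (Matrix.ProjectiveSpecialLinearGroup (Fin 2) F) := by
        rcases solvable_or p (⊤ : Subgroup (Matrix.ProjectiveSpecialLinearGroup (Fin 2) F)) with h | ⟨⟨e⟩⟩ | ⟨L, hL, -⟩
        · haveI := h
          exact Group.isSolvable_of_surjective (f := (Subgroup.topEquiv (G := Matrix.ProjectiveSpecialLinearGroup (Fin 2) F)).toMonoidHom) (Subgroup.topEquiv (G := Matrix.ProjectiveSpecialLinearGroup (Fin 2) F)).surjective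
        · have hc := Nat.card_congr e.toEquiv
          rw [Subgroup.card_top, card_alt5] at hc
          have := h45 hc
          omega
        · have := Nat.card_le_card_of_injective (Subtype.val : L → F) Subtype.val_injective
          rw [Nat.card_eq_fintype_card (α := F)] at this
          omega
      haveI := hs
      exact hnc ⟨⟨IsSimpleGroup.comm_iff_isSolvable.mpr inferInstance⟩⟩
    by_cases h5 : 5 ∣ Fintype.card F * (Fintype.card F ^ 2 - 1)
    · obtain ⟨H, ⟨e⟩⟩ := hA5.mpr h5
      have htop : H = ⊤ := by_contra fun h => not_solvable_altFive e (hsol H h)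
      have hc := Nat.card_congr e.toEquiv
      rw [htop, Subgroup.card_top, card_alt5] at hc
      rcases h45 hc with h | h
      · exact Or.inl ⟨2, Nat.prime_two, by rw [h]; norm_num⟩
      · exact Or.inr (Or.inr (Or.inr h))
    have hsub : ∀ d : ℕ, d ∣ (n : ℕ) → d ≠ n → p ^ d < 4 := by
      intro d hd hdn
      by_contra hge
      have hd0 : d ≠ 0 := fun h => hn0.ne' (by simpa [h] using hd)
      haveI := Fintype.ofFinite (GaloisField p d)
      have hK : Fintype.card (GaloisField p d) = p ^ d := by
        rw [← Nat.card_eq_fintype_card, GaloisField.card p d hd0]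
      obtain ⟨m, hm⟩ := hd
      obtain ⟨σ⟩ := exists_ringHom (K := GaloisField p d) (F := F) m (by rw [hK, hn, hm, pow_mul])
      obtain ⟨e⟩ := pslRange_equiv σ
      have htop : pslRange σ ≠ ⊤ := fun h => by
        have hc := Nat.card_congr e.toEquiv
        rw [h, Subgroup.card_top] at hc
        have hK2 := Cfsg.Agent.Lib.Classical.card_PSL2_mul (F := GaloisField p d)
        rw [← hc, hK] at hK2
        rw [hn] at hG
        have hlt : p ^ d < p ^ (n : ℕ) := Nat.pow_lt_pow_right (Fact.out : p.Prime).one_lt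
          (lt_of_le_of_ne (Nat.le_of_dvd hn0 ⟨m, hm⟩) hdn)
        have h3 : p ^ d * ((p ^ d) ^ 2 - 1) * 2 < p ^ (n : ℕ) * ((p ^ (n : ℕ)) ^ 2 - 1) := by
          have h1 : 2 * ((p ^ d) ^ 2) ≤ (p ^ (n : ℕ)) ^ 2 := by
            have h2 : p ^ d * 2 ≤ p ^ (n : ℕ) := by
              calc p ^ d * 2 ≤ p ^ d * p := Nat.mul_le_mul_left _ (Fact.out : p.Prime).two_le
                _ = p ^ (d + 1) := (pow_succ p d).symm
                _ ≤ p ^ (n : ℕ) := Nat.pow_le_pow_right (Fact.out : p.Prime).pos
                  (lt_of_le_of_ne (Nat.le_of_dvd hn0 ⟨m, hm⟩) hdn)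
            nlinarith
          have h2 : 1 ≤ (p ^ d) ^ 2 := Nat.one_le_pow _ _ (by omega)
          calc p ^ d * ((p ^ d) ^ 2 - 1) * 2 = p ^ d * (2 * (p ^ d) ^ 2 - 2) := by rw [mul_assoc]; congr 1; omega
            _ < p ^ (n : ℕ) * ((p ^ (n : ℕ)) ^ 2 - 1) := Nat.mul_lt_mul_of_lt_of_le hlt (by omega) (by omega)
        have hd1 := Nat.gcd_dvd_left 2 (p ^ d - 1)
        have hd2 : 0 < Nat.gcd 2 (p ^ d - 1) := Nat.gcd_pos_of_pos_left _ two_pos
        have hd3 : Nat.gcd 2 (p ^ (n : ℕ) - 1) ≤ 2 := Nat.le_of_dvd two_pos (Nat.gcd_dvd_left _ _)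
        nlinarith
      haveI := hsol _ htop
      exact not_solvable_PSL2 (K := GaloisField p d) (by omega)
        (Group.isSolvable_of_surjective (f := e.toMonoidHom) e.surjective)
    rcases Nat.lt_or_ge p 5 with hp5 | hp5
    · rcases (show p = 2 ∨ p = 3 by
        have := (Fact.out : p.Prime).two_le
        have hp4 : p ≠ 4 := by rintro rfl; exact absurd (Fact.out : Nat.Prime 4) (by norm_num)
        omega) with rfl | rfl
      · refine Or.inl ⟨n, Nat.prime_def.mpr ⟨?_, fun a ha => ?_⟩, hn⟩
        · by_contra h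
          rw [hn, show (n : ℕ) = 1 by omega] at h4
          omega
        · by_contra hc
          push Not at hc
          have := hsub a ha hc.2
          have : a ≤ 1 := by
            by_contra ha'
            have : 2 ^ 2 ≤ 2 ^ a := Nat.pow_le_pow_right two_pos (by omega)
            omega
          rcases Nat.eq_zero_or_pos a with rfl | ha0
          · exact hn0.ne' (zero_dvd_iff.mp ha)
          · omega
      · have hn1 : (n : ℕ) ≠ 1 := fun h => by rw [hn, h] at h4; omega
        have hprime : (n : ℕ).Prime := Nat.prime_def.mpr ⟨by omega, fun a ha => by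
          by_contra hc
          push Not at hc
          have := hsub a ha hc.2
          have : a ≤ 1 := by
            by_contra ha'
            have : 3 ^ 2 ≤ 3 ^ a := Nat.pow_le_pow_right (by norm_num) (by omega)
            omega
          rcases Nat.eq_zero_or_pos a with rfl | ha0
          · exact hn0.ne' (zero_dvd_iff.mp ha)
          · omega⟩
        refine Or.inr (Or.inl ⟨n, hprime, fun h => h5 ?_, hn⟩)
        rw [hn, h]; norm_num
    · have hn1 : (n : ℕ) = 1 := by
        by_contra h
        have := hsub 1 (one_dvd _) (Ne.symm h)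
        rw [pow_one] at this
        omega
      rw [hn, hn1, pow_one] at h5 ⊢
      have hp' : p ≠ 5 := by rintro rfl; exact h5 (dvd_mul_right 5 _)
      refine Or.inr (Or.inr (Or.inl ⟨Fact.out, by omega, ?_⟩))
      have h0 : p % 5 ≠ 0 := fun h => hp' (((Fact.out : p.Prime).eq_one_or_self_of_dvd 5
        (Nat.dvd_of_mod_eq_zero h)).resolve_left (by norm_num)).symm
      by_contra hc
      apply h5
      refine dvd_mul_of_dvd_right ?_ _
      have := Nat.pow_mod p 2 5
      rcases (show p % 5 = 1 ∨ p % 5 = 4 by omega) with h | h <;> rw [h] at this <;> norm_num at this <;> omega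
  · intro hcases
    have h4 : 4 ≤ Fintype.card F := by
      rcases hcases with ⟨r, hr, h⟩ | ⟨r, hr, -, h⟩ | ⟨-, h, -⟩ | h
      · rw [h]; exact le_trans (by norm_num) (Nat.pow_le_pow_right two_pos hr.two_le)
      · rw [h]; exact le_trans (by norm_num) (Nat.pow_le_pow_right (show 0 < 3 by norm_num) hr.two_le)
      · omega
      · omega
    haveI : IsSimpleGroup (Matrix.ProjectiveSpecialLinearGroup (Fin 2) F) :=
      Matrix.ProjectiveSpecialLinearGroup.rank_two_simple (by rw [Nat.card_eq_fintype_card]; exact h4)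
    refine ⟨inferInstance, fun h => not_solvable_PSL2 (K := F) h4 (Group.isSolvable_of_comm h.is_comm.comm), fun H hH => ?_⟩
    rcases solvable_or p H with h | ⟨⟨e⟩⟩ | ⟨L, hL, hiso⟩
    · exact h
    · exfalso
      have h5 := hA5.mp ⟨H, ⟨e⟩⟩
      have hne : Fintype.card F ≠ 4 ∧ Fintype.card F ≠ 5 := by
        refine not_or.mp fun h => hH (Subgroup.eq_top_of_le_card H ?_)
        rw [h45' h, Nat.card_congr e.toEquiv, card_alt5]
      have hq5 : Fintype.card F % 5 = 2 ∨ Fintype.card F % 5 = 3 := by
        rcases hcases with ⟨r, hr, h⟩ | ⟨r, hr, hr2, h⟩ | ⟨-, -, h⟩ | h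
        · rcases hr.eq_two_or_odd' with rfl | ⟨j, rfl⟩
          · simp at h; omega
          · rw [h, pow_succ, pow_mul, Nat.mul_mod, Nat.pow_mod]
            norm_num
            rcases Nat.even_or_odd' j with ⟨i, rfl | rfl⟩ <;> simp [pow_succ, pow_mul, Nat.mul_mod, Nat.pow_mod]
        · obtain ⟨j, rfl⟩ := hr.odd_of_ne_two hr2
          rw [h, pow_succ, pow_mul, Nat.mul_mod, Nat.pow_mod]
          norm_num
          rcases Nat.even_or_odd' j with ⟨i, rfl | rfl⟩ <;> simp [pow_succ, pow_mul, Nat.mul_mod, Nat.pow_mod]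
        · exact h
        · omega
      have := five_dvd_sq_sub_one h5 (by omega)
      omega
    · exfalso
      have hLt : L ≠ ⊤ := fun h => hH (eq_top_of_subfield_top L h hiso)
      haveI := Fintype.ofFinite L
      have hcard : Fintype.card F = Fintype.card L ^ Module.finrank L F := Module.card_eq_pow_finrank
      have hsq := sq_le_of_subfield L hLt
      rw [Nat.card_eq_fintype_card] at hL hsq
      have hm0 : 0 < Module.finrank L F := Module.finrank_pos
      haveI : CharP L p := L.subtype.charP L.subtype.injective p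
      obtain ⟨l, -, hl⟩ := FiniteField.card L p
      rw [hl, ← pow_mul] at hcard
      have key : ∀ b r : ℕ, b.Prime → r.Prime → Fintype.card F = b ^ r → False := by
        intro b r hb hr h
        rw [hcard] at h
        have hbp : b = p := (Nat.prime_dvd_prime_iff_eq hb Fact.out).mp
          (hb.dvd_of_dvd_pow (h ▸ dvd_pow_self b hr.ne_zero))
        subst hbp
        have hlm := Nat.pow_right_injective hb.two_le h
        rcases hr.eq_one_or_self_of_dvd _ ⟨_, hlm.symm⟩ with hl1 | hl1
        · rw [hl1, pow_one] at hl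
          rcases hcases with ⟨r', -, h'⟩ | ⟨r', -, -, h'⟩ | ⟨hq, -⟩ | h'
          · rw [hcard] at h'
            have hb2 : b = 2 := (Nat.prime_dvd_prime_iff_eq hb Nat.prime_two).mp
              (hb.dvd_of_dvd_pow (h' ▸ dvd_pow_self b (by rw [hlm]; exact hr.ne_zero)))
            omega
          · rw [hcard] at h'
            have hb3 : b = 3 := (Nat.prime_dvd_prime_iff_eq hb Nat.prime_three).mp
              (hb.dvd_of_dvd_pow (h' ▸ dvd_pow_self b (by rw [hlm]; exact hr.ne_zero)))
            omega
          · rw [hcard, hlm] at hq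
            exact hr.ne_one (Nat.Prime.eq_one_of_pow hq)
          · rw [hcard, hlm] at h'
            have hb5 : Nat.Prime 5 := Nat.prime_five
            rw [← h'] at hb5
            exact hr.ne_one (Nat.Prime.eq_one_of_pow hb5)
        · rw [hcard, hlm, hl, hl1, ← pow_mul] at hsq
          have := (Nat.pow_le_pow_iff_right hb.one_lt).mp hsq
          have := hr.two_le
          omega
      rcases hcases with ⟨r, hr, h⟩ | ⟨r, hr, -, h⟩ | ⟨hq, -⟩ | h
      · exact key 2 r Nat.prime_two hr h
      · exact key 3 r Nat.prime_three hr h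
      · exact hLt (subfield_eq_top_of_prime hq L)
      · exact hLt (subfield_eq_top_of_prime (h ▸ Nat.prime_five) L)

end Cfsg.Agent.S0810
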