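import Cfsg.Statements.S0811
import Cfsg.Agent.Lib.Geometry.Dickson.Maximal
-- import your own Cfsg.Agent.* helpers here

set_option autoImplicit false
open Cfsg
open Cfsg.Agent.Lib.Geometry.Dickson

namespace Cfsg.Agent.S0811

/-- For q ∉ {2, 7, 9}, PSL_2(q) has a maximal subgroup isomorphic to the dihedral group of order 2(q + 1)/d, d = gcd(2, q − 1). -/
theorem result {F : Type*} [Field F] [Fintype F] {q : ℕ} (hF : Fintype.card F = q) (hq : q ∉ ({2, 7, 9} : Finset ℕ)) : ∃ H : Subgroup (Matrix.ProjectiveSpecialLinearGroup (Fin 2) F), IsCoatom H ∧ Nonempty (H ≃* DihedralGroup ((q + 1) / Nat.gcd 2 (q - 1))) := by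
  subst hF
  obtain ⟨p, hp⟩ := CharP.exists F
  haveI : Fact p.Prime := ⟨CharP.char_is_prime F p⟩
  obtain ⟨y, hs, ht, hy⟩ := exists_nonsplit (F := F)
  have hm := nonsplit_half hy ht hs
  obtain ⟨e, -⟩ := torusNorm_data hy ht hm
  refine ⟨torusNorm y, isCoatom_torusNorm p hy ht hm (Or.inl ⟨Nat.mul_div_cancel' ?_, hq⟩), e⟩
  have := Fintype.card_pos (α := F)
  rw [show Fintype.card F + 1 = (Fintype.card F - 1) + 2 by omega]
  exact Nat.dvd_add (Nat.gcd_dvd_right _ _) (Nat.gcd_dvd_left _ _)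

end Cfsg.Agent.S0811
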