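import Cfsg.Statements.S0812
import Cfsg.Agent.Lib.Geometry.Dickson.Maximal
-- import your own Cfsg.Agent.* helpers here

set_option autoImplicit false
open Cfsg
open Cfsg.Agent.Lib.Geometry.Dickson

namespace Cfsg.Agent.S0812

/-- For q ∉ {2, 3, 5, 7, 9, 11}, PSL_2(q) has a maximal subgroup isomorphic to the dihedral group of order 2(q − 1)/d, d = gcd(2, q − 1). -/
theorem result {F : Type*} [Field F] [Fintype F] {q : ℕ} (hF : Fintype.card F = q) (hq : q ∉ ({2, 3, 5, 7, 9, 11} : Finset ℕ)) : ∃ H : Subgroup (Matrix.ProjectiveSpecialLinearGroup (Fin 2) F), IsCoatom H ∧ Nonempty (H ≃* DihedralGroup ((q - 1) / Nat.gcd 2 (q - 1))) := by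
  subst hF
  obtain ⟨p, hp⟩ := CharP.exists F
  haveI : Fact p.Prime := ⟨CharP.char_is_prime F p⟩
  have h4 : 4 ≤ Fintype.card F := by
    have := Fintype.one_lt_card (α := F)
    simp only [Finset.mem_insert, Finset.mem_singleton, not_or] at hq
    omega
  obtain ⟨y, hs, ht, hy⟩ := exists_split h4
  have hm := split_half hy ht hs
  obtain ⟨e, -⟩ := torusNorm_data hy ht hm
  exact ⟨torusNorm y, isCoatom_torusNorm p hy ht hm (Or.inr ⟨Nat.mul_div_cancel' (Nat.gcd_dvd_right _ _), hq⟩), e⟩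

end Cfsg.Agent.S0812
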