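import Cfsg.Statements.S0814
import Cfsg.Agent.Lib.Geometry.SpFourAut
-- import your own Cfsg.Agent.* helpers here

set_option autoImplicit false
open Cfsg

namespace Cfsg.Agent.S0814

/-- |Aut(PSp_2m(q))| = gcd(2, q−1) · f · |PSp_2m(q)| for q = p^f, m ≥ 2, (m, q) ≠ (2, 2), with an extra factor 2 exactly when m = 2 and p = 2. -/
theorem result {F : Type*} [Field F] [Fintype F] (p f : ℕ) [Fact p.Prime] (hf : 1 ≤ f) (hF : Fintype.card F = p ^ f) (m : ℕ) (hm : 2 ≤ m) (h22 : m = 2 → 3 ≤ p ^ f) : Nat.card (MulAut (Cfsg.PSp m F)) = (if m = 2 ∧ p = 2 then 2 else 1) * Nat.gcd 2 (p ^ f - 1) * f * Nat.card (Cfsg.PSp m F) := by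
  open Cfsg.Agent.Lib.Classical.AutPSp Cfsg.Agent.Lib.Geometry in
  haveI : CharP F p := charP_of_card_eq_prime_pow hF
  by_cases hc : m = 2 ∧ p = 2
  · obtain ⟨rfl, rfl⟩ := hc
    rw [if_pos ⟨rfl, rfl⟩, SpFour.card_mulAut hF]
    have hg : Nat.gcd 2 (2 ^ f - 1) = 1 := by
      have h := SympAut.card_sp_eq_gcd_mul (F := F) (m := 2) 2 (by norm_num)
      rw [Nat.card_congr (SpFour.prEquiv (F := F)).toEquiv, hF] at h
      haveI : Finite (Cfsg.PSp 2 F) := Finite.of_surjective _ (pr_surjective (F := F) (m := 2))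
      exact (Nat.eq_of_mul_eq_mul_right Nat.card_pos ((one_mul _).trans h)).symm
    rw [hg, mul_one]
  · rw [if_neg hc, one_mul, ← Nat.card_congr (Equiv.subtypeUnivEquiv (p := fun a : MulAut (Cfsg.PSp m F) =>
      ∃ (g : Cfsg.GSp m F) (σ : F ≃+* F), a = dia g * fld σ) (decomposition p hm fun e h => hc ⟨e, h⟩)),
      SympAut.card_dia_fld p (by omega) hF, SympAut.card_sp_eq_gcd_mul p (by omega), hF]
    ring

end Cfsg.Agent.S0814
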