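import Cfsg.Statements.S0817
import Cfsg.Agent.Lib.Classical.AutPOmega.DFourOut
import Cfsg.Agent.Lib.Classical.AutPOmega.PlusOut
-- import your own Cfsg.Agent.* helpers here

set_option autoImplicit false
open Cfsg

namespace Cfsg.Agent.S0817

/-- |Aut(PΩ⁺_2m(q))| for q = p^f, m ≥ 4: |PΩ⁺_2m(q)| times f, times 3 when m = 4, times 2 if p = 2, and times 8 or 4 if p is odd according as m(q−1)/2 is even or odd. -/
theorem result {F : Type*} [Field F] [Fintype F] (p f : ℕ) [Fact p.Prime] (hf : 1 ≤ f) (hF : Fintype.card F = p ^ f) (m : ℕ) (hm : 4 ≤ m) : Nat.card (MulAut (Cfsg.POmega F (Cfsg.quadFormPlus m F))) = (if m = 4 then 3 else 1) * (if p = 2 then 2 else (if Even (m * (p ^ f - 1) / 2) then 8 else 4)) * f * Nat.card (Cfsg.POmega F (Cfsg.quadFormPlus m F)) := by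
  classical
    have hp : p.Prime := Fact.out
    rw [Lib.Classical.AutPOmega.coe_plusR]
    open Lib.Classical.AutPOmega in
    rw [Subgroup.card_eq_card_quotient_mul_card_subgroup (Cfsg.Inn (Cfsg.POmega F ⇑(plusR m F))),
      card_inn (model0_plus (by omega))]
    open Lib.Classical.AutPOmega in
    congr 1
    have hc3 : Nat.card (Equiv.Perm (Fin 3)) = 6 := by
      rw [Nat.card_eq_fintype_card, Fintype.card_perm, Fintype.card_fin]; decide
    have hc4 : Nat.card (Equiv.Perm (Fin 4)) = 24 := by
      rw [Nat.card_eq_fintype_card, Fintype.card_perm, Fintype.card_fin]; decide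
    show Nat.card (Cfsg.Out (Cfsg.POmega F ⇑(Lib.Classical.AutPOmega.plusR m F))) = _
    by_cases hp2 : p = 2
    · subst hp2
      rw [if_pos rfl]
      by_cases h4 : m = 4
      · subst h4
        rw [if_pos rfl]
        obtain ⟨e⟩ := Lib.Classical.AutPOmega.out_plus_four_two hF hf
        rw [Nat.card_congr e.toEquiv, Nat.card_prod, hc3, Nat.card_congr Multiplicative.toAdd,
          Nat.card_zmod]
      · rw [if_neg h4]
        obtain ⟨e⟩ := Lib.Classical.AutPOmega.out_plus_two hF hf (m := m) (by omega)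
        rw [Nat.card_congr e.toEquiv, Nat.card_congr Multiplicative.toAdd, Nat.card_prod,
          Nat.card_zmod, Nat.card_zmod, one_mul]
    · rw [if_neg hp2]
      have hodd : p ^ f % 2 = 1 := Nat.odd_iff.1 ((hp.odd_of_ne_two hp2).pow)
      by_cases h4 : m = 4
      · subst h4
        rw [if_pos rfl, if_pos (Nat.even_iff.2 (by omega))]
        obtain ⟨e⟩ := Lib.Classical.AutPOmega.out_plus_four_odd hF hf hp2
        rw [Nat.card_congr e.toEquiv, Nat.card_prod, hc4, Nat.card_congr Multiplicative.toAdd,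
          Nat.card_zmod]
      · rw [if_neg h4, one_mul]
        obtain ⟨h1, h2⟩ := Lib.Classical.AutPOmega.out_plus_odd hF hf hp2 (m := m) (by omega)
        have hiff : Even (m * (p ^ f - 1) / 2) ↔ ¬ (p ^ f % 4 = 3 ∧ Odd m) := by
          obtain ⟨r, hr⟩ : ∃ r, p ^ f = 2 * r + 1 := ⟨p ^ f / 2, by omega⟩
          rw [hr, Nat.add_sub_cancel, show m * (2 * r) = m * r * 2 by ring,
            Nat.mul_div_cancel _ two_pos, Nat.even_mul, Nat.even_iff, Nat.even_iff, Nat.odd_iff]
          omega
        by_cases hc : p ^ f % 4 = 3 ∧ Odd m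
        · obtain ⟨e⟩ := h1 hc
          rw [if_neg (fun h => hiff.1 h hc), Nat.card_congr e.toEquiv,
            Nat.card_congr Multiplicative.toAdd, Nat.card_prod, Nat.card_prod, Nat.card_zmod,
            Nat.card_zmod]
          ring
        · obtain ⟨e⟩ := h2 hc
          rw [if_pos (hiff.2 hc), Nat.card_congr e.toEquiv, Nat.card_prod, DihedralGroup.nat_card,
            Nat.card_congr Multiplicative.toAdd, Nat.card_zmod]

end Cfsg.Agent.S0817
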