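import Cfsg.Statements.S0818
import Cfsg.Agent.Lib.Classical.AutPOmega.MinusOut

set_option autoImplicit false
open Cfsg

namespace Cfsg.Agent.S0818

/-- |Aut(PΩ⁻_2m(q))| for q = p^f, m ≥ 4 (form quadFormMinus (m−1) with anisotropic binary part): |PΩ⁻_2m(q)| times f, times 2 if p = 2, and times 4 or 8 if p is odd according as m(q−1)/2 is even or odd. -/
theorem result {F : Type*} [Field F] [Fintype F] (p f : ℕ) [Fact p.Prime] (hf : 1 ≤ f) (hF : Fintype.card F = p ^ f) (m : ℕ) (hm : 4 ≤ m) (a b : F) (hab : ∀ z₁ z₂ : F, z₁ ^ 2 + a * z₁ * z₂ + b * z₂ ^ 2 = 0 → z₁ = 0 ∧ z₂ = 0) : Nat.card (MulAut (Cfsg.POmega F (Cfsg.quadFormMinus (m - 1) F a b))) = (if p = 2 then 2 else (if Even (m * (p ^ f - 1) / 2) then 4 else 8)) * f * Nat.card (Cfsg.POmega F (Cfsg.quadFormMinus (m - 1) F a b)) := by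

  rw [Lib.Classical.AutPOmega.coe_minusR, Lib.Classical.AutPOmega.card_mulAut_minus hF hf (by omega : 3 ≤ m - 1) hab, show m - 1 + 1 = m by omega]
  congr 2
  by_cases hp : p = 2
  · rw [if_pos hp, if_pos hp]
  · rw [if_neg hp, if_neg hp]
    obtain ⟨k, hk⟩ := ((Fact.out : p.Prime).odd_of_ne_two hp).pow (n := f)
    have h1 : m * (p ^ f - 1) / 2 = m * k := by
      rw [hk, Nat.add_sub_cancel, show m * (2 * k) = 2 * (m * k) by ring, Nat.mul_div_cancel_left _ two_pos]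
    have h2 : (p ^ f % 4 = 3 ∧ Odd m) ↔ ¬ Even (m * k) := by
      rw [Nat.even_mul, not_or, Nat.not_even_iff_odd, Nat.not_even_iff_odd, Nat.odd_iff, Nat.odd_iff]
      omega
    rw [h1]
    by_cases he : Even (m * k)
    · rw [if_pos he, if_neg (fun h => h2.mp h he)]
    · rw [if_neg he, if_pos (h2.mpr he)]

end Cfsg.Agent.S0818
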