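import Cfsg.Statements.S0819
import Mathlib

set_option autoImplicit false
open Cfsg

namespace Cfsg.Agent.S0819
/-- multiplication of the field with four elements on pairs of bits -/
def mu4 (a b : ZMod 2 × ZMod 2) : ZMod 2 × ZMod 2 :=
  (a.1 * b.1 + a.2 * b.2, a.1 * b.2 + a.2 * b.1 + a.2 * b.2)

/-- the step "multiply by the matrix" on coefficient triples -/
def st4 (t u : ZMod 2 × ZMod 2) (v : (ZMod 2 × ZMod 2) × (ZMod 2 × ZMod 2) × (ZMod 2 × ZMod 2)) :
    (ZMod 2 × ZMod 2) × (ZMod 2 × ZMod 2) × (ZMod 2 × ZMod 2) :=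
  (v.2.2, v.1 + mu4 v.2.2 u, v.2.1 + mu4 v.2.2 t)

theorem key4 : ∀ t u : ZMod 2 × ZMod 2, ∃ k ∈ [3, 4, 5, 7],
    ((st4 t u)^[k] ((1, 0), 0, 0)).2.1 = 0 ∧ ((st4 t u)^[k] ((1, 0), 0, 0)).2.2 = 0 := by decide

theorem zmod2_cases : ∀ z : ZMod 2, z = 0 ∨ z = 1 := by decide

open Matrix in
theorem no15 {F : Type*} [Field F] [Fintype F] (hF : Fintype.card F = 4)
    (g : Matrix.ProjectiveSpecialLinearGroup (Fin 3) F) : orderOf g ≠ 15 := by
  classical
  haveI : Fact (Nat.Prime 2) := ⟨Nat.prime_two⟩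
  haveI : CharP F 2 := charP_of_card_eq_prime_pow (f := 2) (by simpa using hF)
  obtain ⟨ω, hω0, hω1⟩ : ∃ ω : F, ω ≠ 0 ∧ ω ≠ 1 := by
    by_contra h; push Not at h
    have := Fintype.card_le_of_surjective (fun b : Bool => if b then (1 : F) else 0)
      (fun x => by by_cases hx : x = 0
                   · exact ⟨false, by simp [hx]⟩
                   · exact ⟨true, by simp [h x hx]⟩)
    simp [hF] at this
  have h2 : (2 : F) = 0 := CharTwo.two_eq_zero
  have hω3 : ω ^ 3 = 1 := by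
    have := FiniteField.pow_card_sub_one_eq_one ω hω0
    simpa [hF] using this
  have hω : ω * ω = ω + 1 := by
    have : (ω - 1) * (ω * ω + ω + 1) = 0 := by linear_combination hω3
    rcases mul_eq_zero.1 this with h | h
    · exact absurd (sub_eq_zero.1 h) hω1
    · linear_combination h - (ω + 1) * h2
  let φ : ZMod 2 × ZMod 2 → F := fun a => ZMod.castHom (dvd_refl 2) F a.1 + ZMod.castHom (dvd_refl 2) F a.2 * ω
  let mu : ZMod 2 × ZMod 2 → ZMod 2 × ZMod 2 → ZMod 2 × ZMod 2 :=
    fun a b => (a.1 * b.1 + a.2 * b.2, a.1 * b.2 + a.2 * b.1 + a.2 * b.2)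
  have hmu : ∀ a b, φ (mu a b) = φ a * φ b := by
    intro a b; simp only [φ, mu, map_add, map_mul]; linear_combination
      -(ZMod.castHom (dvd_refl 2) F a.2 * ZMod.castHom (dvd_refl 2) F b.2) * hω
  have hadd : ∀ a b, φ (a + b) = φ a + φ b := by
    intro a b; simp only [φ, Prod.fst_add, Prod.snd_add, map_add]; ring
  have hφinj : Function.Injective φ := by
    intro a b hab
    have h1 : φ (a - b) = 0 := by
      have := hadd (a - b) b; rw [sub_add_cancel, hab] at this; linear_combination -this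
    suffices a - b = 0 from sub_eq_zero.1 this
    generalize a - b = d at h1 ⊢
    obtain ⟨d1, d2⟩ := d
    rcases zmod2_cases d1 with rfl | rfl <;> rcases zmod2_cases d2 with rfl | rfl <;> simp [φ] at h1 ⊢
    · exact hω0 h1
    · exact hω1 (by linear_combination h1 - h2)
  have hφsurj : Function.Surjective φ :=
    ((Fintype.bijective_iff_injective_and_card φ).2 ⟨hφinj, by simp [hF]⟩).2
  obtain ⟨A, rfl⟩ := QuotientGroup.mk_surjective g
  set M : Matrix (Fin 3) (Fin 3) F := A.1 with hM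
  obtain ⟨t, ht⟩ := hφsurj (M.charpoly.coeff 2)
  obtain ⟨u, hu⟩ := hφsurj (M.charpoly.coeff 1)
  have hdeg : M.charpoly.natDegree = 3 := by simp [Matrix.charpoly_natDegree_eq_dim]
  have hc3 : M.charpoly.coeff 3 = 1 := by
    have := M.charpoly_monic; rwa [Polynomial.Monic, Polynomial.leadingCoeff, hdeg] at this
  have hc0 : M.charpoly.coeff 0 = 1 := by
    have h1 : M.det = (-1) ^ Fintype.card (Fin 3) * M.charpoly.coeff 0 :=
      Matrix.det_eq_sign_charpoly_coeff M
    rw [show M.det = 1 from A.2] at h1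
    simpa [CharTwo.neg_eq] using h1.symm
  have hCH : M ^ 3 = φ t • M ^ 2 + φ u • M + (1 : Matrix (Fin 3) (Fin 3) F) := by
    have h := Matrix.aeval_self_charpoly M
    rw [Polynomial.aeval_eq_sum_range, hdeg] at h
    simp only [Finset.sum_range_succ, Finset.sum_range_zero, zero_add, hc0, hc3, pow_zero, pow_one,
      one_smul, ← ht, ← hu] at h
    rw [eq_neg_of_add_eq_zero_right h]
    ext i j
    simp only [Matrix.neg_apply, CharTwo.neg_eq, Matrix.add_apply]
    ring
  let ev : (ZMod 2 × ZMod 2) × (ZMod 2 × ZMod 2) × (ZMod 2 × ZMod 2) → Matrix (Fin 3) (Fin 3) F :=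
    fun v => φ v.1 • 1 + φ v.2.1 • M + φ v.2.2 • M ^ 2
  let st := st4 t u
  have hst : ∀ k, M ^ k = ev (st^[k] ((1, 0), 0, 0)) := by
    intro k; induction k with
    | zero => simp [ev, φ]
    | succ k ih =>
      rw [Function.iterate_succ_apply', pow_succ, ih]
      generalize st^[k] ((1, 0), 0, 0) = v
      simp only [ev, st, st4, ← show mu = mu4 from rfl, hadd, hmu, add_mul, smul_mul_assoc, one_mul, ← pow_two, ← pow_succ, hCH,
        smul_add, smul_smul, add_smul, Nat.reduceAdd]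
      abel
  have key : ∃ k ∈ [3, 4, 5, 7], (st^[k] ((1, 0), 0, 0)).2.1 = 0 ∧ (st^[k] ((1, 0), 0, 0)).2.2 = 0 :=
    key4 t u
  obtain ⟨k, hk, hk1, hk2⟩ := key
  have hsc : (QuotientGroup.mk A : Matrix.ProjectiveSpecialLinearGroup (Fin 3) F) ^ k = 1 := by
    rw [← QuotientGroup.mk_pow, QuotientGroup.eq_one_iff,
      Matrix.SpecialLinearGroup.mem_center_iff]
    refine ⟨φ (st^[k] ((1, 0), 0, 0)).1, ?_, ?_⟩
    · have := (A ^ k).2
      rw [Matrix.SpecialLinearGroup.coe_pow, ← hM, hst k] at this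
      simpa [ev, hk1, hk2, φ] using this
    · rw [Matrix.SpecialLinearGroup.coe_pow, ← hM, hst k]
      have h00 : φ 0 = 0 := by simp [φ]
      simp only [ev, hk1, hk2, h00, zero_smul, add_zero, Matrix.smul_one_eq_diagonal,
        Matrix.scalar_apply]
  intro h15
  have := orderOf_dvd_of_pow_eq_one hsc
  rw [h15] at this
  fin_cases hk <;> omega


/-- No element of PSL_3(4) has order 15. -/
theorem result {F : Type*} [Field F] [Fintype F] (hF : Fintype.card F = 4) (g : Matrix.ProjectiveSpecialLinearGroup (Fin 3) F) : orderOf g ≠ 15 := by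
  exact no15 hF g

end Cfsg.Agent.S0819
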