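import Cfsg.Statements.S0820
import Cfsg.Agent.Lib.Geometry.SLTransvection
-- import your own Cfsg.Agent.* helpers here

set_option autoImplicit false
open Cfsg

namespace Cfsg.Agent.S0820

/-- Any two elements of order 2 of PSL_3(4) are conjugate. -/
theorem result {F : Type*} [Field F] [Fintype F] (hF : Fintype.card F = 4) (x y : Matrix.ProjectiveSpecialLinearGroup (Fin 3) F) (hx : orderOf x = 2) (hy : orderOf y = 2) : IsConj x y := by
  classical
  obtain ⟨p, hp⟩ := CharP.exists F
  haveI : CharP F 2 := by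
    obtain ⟨⟨m, hm⟩, hpp, hcard⟩ := FiniteField.card F p
    rw [hF] at hcard
    have : p = 2 := (Nat.prime_dvd_prime_iff_eq hpp Nat.prime_two).mp
      (hpp.dvd_of_dvd_pow (show p ∣ 2 ^ 2 by norm_num; rw [hcard]; exact dvd_pow_self p hm.ne'))
    subst this
    exact hp
  have key : ∀ z : Matrix.ProjectiveSpecialLinearGroup (Fin 3) F, orderOf z = 2 →
      ∃ g : Matrix.SpecialLinearGroup (Fin 3) F, QuotientGroup.mk g = z ∧
        ∃ d : Matrix.SpecialLinearGroup (Fin 3) F,
          ((d⁻¹ * g * d : Matrix.SpecialLinearGroup (Fin 3) F) : Matrix (Fin 3) (Fin 3) F) =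
            1 + Matrix.vecMulVec (Pi.single 1 1) (Pi.single 0 1) := by
    intro z hz
    obtain ⟨g₀, rfl⟩ := QuotientGroup.mk_surjective z
    have hmem : g₀ ^ 2 ∈ Subgroup.center (Matrix.SpecialLinearGroup (Fin 3) F) := by
      rw [← QuotientGroup.eq_one_iff, QuotientGroup.mk_pow, ← hz, pow_orderOf_eq_one]
    set g := g₀ ^ 3 with hgdef
    have hg2 : g ^ 2 = 1 := by
      obtain ⟨r, hr, hr'⟩ := Matrix.SpecialLinearGroup.mem_center_iff.mp hmem
      rw [hgdef, ← pow_mul, mul_comm, pow_mul]
      apply Subtype.ext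
      rw [Matrix.SpecialLinearGroup.coe_pow, ← hr', ← map_pow]
      rw [Fintype.card_fin] at hr
      rw [hr, map_one]
      rfl
    have hmk : (QuotientGroup.mk g : Matrix.ProjectiveSpecialLinearGroup (Fin 3) F) =
        QuotientGroup.mk g₀ := by
      rw [hgdef, QuotientGroup.mk_pow, pow_succ, ← hz, pow_orderOf_eq_one, one_mul]
    set G : Matrix (Fin 3) (Fin 3) F := ↑g with hG
    have hGG : G * G = 1 := by
      rw [hG, ← Matrix.SpecialLinearGroup.coe_mul, ← sq, hg2, Matrix.SpecialLinearGroup.coe_one]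
    have h2 : (G - 1) * (G - 1) = 0 := by
      rw [sub_mul, mul_sub, mul_sub, hGG, mul_one, one_mul, mul_one]
      have : (2 : F) = 0 := CharTwo.two_eq_zero
      ext i j
      simp only [Matrix.sub_apply, Matrix.zero_apply]
      linear_combination ((1 : Matrix (Fin 3) (Fin 3) F) i j - G i j) * this
    have h1 : (G - 1).rank = 1 := by
      have hle : LinearMap.range (G - 1).mulVecLin ≤ LinearMap.ker (G - 1).mulVecLin := by
        rintro _ ⟨v, rfl⟩
        simp only [LinearMap.mem_ker, Matrix.mulVecLin_apply, Matrix.mulVec_mulVec, h2,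
          Matrix.zero_mulVec]
      have h := LinearMap.finrank_range_add_finrank_ker (G - 1).mulVecLin
      have hle' := Submodule.finrank_mono hle
      rw [Module.finrank_fin_fun] at h
      have hne : (G - 1).rank ≠ 0 := by
        rw [Matrix.rank, Ne, Submodule.finrank_eq_zero, LinearMap.range_eq_bot]
        intro h0
        have hone : g = 1 := by
          apply Subtype.ext
          show G = 1
          refine sub_eq_zero.mp (Matrix.ext_of_mulVec_single fun i => ?_)
          have h' := LinearMap.congr_fun h0 (Pi.single i 1)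
          rw [Matrix.mulVecLin_apply, LinearMap.zero_apply] at h'
          rw [h', Matrix.zero_mulVec]
        rw [hone, QuotientGroup.mk_one] at hmk
        rw [← hmk, orderOf_one] at hz
        exact absurd hz (by norm_num)
      rw [Matrix.rank] at hne ⊢
      omega
    obtain ⟨d, c, hc, hd⟩ := Cfsg.Agent.Lib.Geometry.exists_conj_elementary (n := 1) g h1 h2
    let e : Matrix.SpecialLinearGroup (Fin 3) F :=
      ⟨Matrix.diagonal ![1, c, c⁻¹], by simp [Matrix.det_diagonal, Fin.prod_univ_three, hc]⟩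
    refine ⟨g, hmk, d * e, ?_⟩
    rw [show (d * e)⁻¹ * g * (d * e) = e⁻¹ * ((d⁻¹ * g * d) * e) by group]
    have he : (1 + Matrix.vecMulVec (Pi.single 1 c) (Pi.single 0 1) : Matrix (Fin 3) (Fin 3) F) * e.1 =
        e.1 * (1 + Matrix.vecMulVec (Pi.single 1 1) (Pi.single 0 1)) := by
      ext i j
      fin_cases i <;> fin_cases j <;>
        simp [e, Matrix.mul_apply, Fin.sum_univ_three, Matrix.vecMulVec_apply, Matrix.one_apply]
    rw [Matrix.SpecialLinearGroup.coe_mul, Matrix.SpecialLinearGroup.coe_mul _ e, hd, he,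
      ← Matrix.mul_assoc, ← Matrix.SpecialLinearGroup.coe_mul, inv_mul_cancel,
      Matrix.SpecialLinearGroup.coe_one, Matrix.one_mul]
  obtain ⟨g, rfl, d, hd⟩ := key x hx
  obtain ⟨g', rfl, d', hd'⟩ := key y hy
  refine (QuotientGroup.mk' _).map_isConj (isConj_iff.mpr ⟨d' * d⁻¹, ?_⟩)
  have h := Subtype.ext (hd.trans hd'.symm)
  calc d' * d⁻¹ * g * (d' * d⁻¹)⁻¹ = d' * (d⁻¹ * g * d) * d'⁻¹ := by group
    _ = g' := by rw [h]; group

end Cfsg.Agent.S0820
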