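import Cfsg.Statements.S0821
import Cfsg.Agent.Lib.Geometry.SympElemTwo
import Cfsg.Agent.Lib.Geometry.OrthElemTwo
import Cfsg.Agent.Lib.Classical.AutPOmega.Odd
import Cfsg.Agent.Lib.Classical.OrthCenter
-- import your own Cfsg.Agent.* helpers here

set_option autoImplicit false
open Cfsg
open scoped Matrix
open QuadraticMap (polarBilin)
open Cfsg.Agent.Lib.Geometry

namespace Cfsg.Agent.S0821

attribute [-simp] QuadraticMap.polarBilin_apply_apply

theorem not_equiv {F : Type*} [Field F] [Fintype F] (hodd : Odd (Fintype.card F)) (m : ℕ) (hm : 3 ≤ m) :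
    IsEmpty (Cfsg.PSp m F ≃* Cfsg.POmega F (Cfsg.quadFormOdd m F)) := by
  classical
  refine ⟨fun e => ?_⟩
  have h2 : (2 : F) ≠ 0 := Ring.two_ne_zero fun h => by
    have h' := FiniteField.even_card_iff_char_two.mp h
    have := Nat.odd_iff.mp hodd
    omega
  set R := Cfsg.Agent.Lib.Classical.AutPOmega.oddR m F with hR
  have hRQ : Cfsg.quadFormOdd m F = ⇑R := Cfsg.Agent.Lib.Classical.AutPOmega.coe_oddR m F
  have hsq : (polarBilin (QuadraticMap.sq : QuadraticForm F F)).Nondegenerate :=
    Cfsg.Agent.Lib.Classical.sq_nondegenerate h2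
  have hhyp := Cfsg.Agent.Lib.Classical.hyperForm_nondegenerate m _ hsq
  have hQ : (polarBilin R).Nondegenerate :=
    Cfsg.Agent.Lib.Classical.nondegenerate_of_equiv R _ (Cfsg.Agent.Lib.Classical.oddEquiv m F)
      (fun _ => rfl) hhyp
  have hval : ∀ x, R x = x (.inl ()) ^ 2 + ∑ i : Fin m, x (.inr (.inl i)) * x (.inr (.inr i)) :=
    fun x => by rw [← hRQ]; rfl
  have hpol : ∀ x y, polarBilin R x y = 2 * (x (.inl ()) * y (.inl ())) +
      ∑ i : Fin m, (x (.inr (.inl i)) * y (.inr (.inr i)) + y (.inr (.inl i)) * x (.inr (.inr i))) := by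
    intro x y
    rw [QuadraticMap.polarBilin_apply_apply, QuadraticMap.polar, hval, hval, hval]
    simp only [Pi.add_apply, add_mul, mul_add, Finset.sum_add_distrib]
    ring
  rw [hRQ] at e
  -- the orthogonal family
  let v : Option (Fin m) ⊕ Fin m → Unit ⊕ (Fin m ⊕ Fin m) → F := Sum.elim
    (fun o => o.elim (Pi.single (.inl ()) 1)
      (fun i => Pi.single (.inr (.inl i)) 1 + Pi.single (.inr (.inr i)) 1))
    (fun i => Pi.single (.inr (.inl i)) 1 - Pi.single (.inr (.inr i)) 1)
  obtain ⟨D, f, hf, hfc, hD⟩ := exists_signs_commutator R h2 hQ v (c := 1) (d := -1) one_ne_zero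
    (neg_ne_zero.mpr one_ne_zero)
    (by
      rintro (_ | i)
      · simp [v, hval]
      · simp [v, hval, Pi.single_apply, Finset.sum_add_distrib, mul_add, add_mul])
    (fun i => by simp [v, hval, Pi.single_apply, Finset.sum_add_distrib, mul_add, add_mul, sub_mul, mul_sub])
    (by
      rintro ((_ | i) | i) ((_ | j) | j) hij
      all_goals rw [hpol]
      · exact absurd rfl hij
      · simp [v, Pi.single_apply]
      · simp [v, Pi.single_apply]
      · simp [v, Pi.single_apply]
      · have h : i ≠ j := fun h => hij (by rw [h])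
        simp [v, Pi.single_apply, Finset.sum_add_distrib, h, Ne.symm h]
      · by_cases h : i = j
        · subst h; simp [v, Pi.single_apply, Finset.sum_add_distrib]
        · simp [v, Pi.single_apply, Finset.sum_add_distrib, h, Ne.symm h]
      · simp [v, Pi.single_apply]
      · by_cases h : i = j
        · subst h; simp [v, Pi.single_apply, Finset.sum_add_distrib]
        · simp [v, Pi.single_apply, Finset.sum_add_distrib, h, Ne.symm h]
      · have h : i ≠ j := fun h => hij (by rw [h])
        simp [v, Pi.single_apply, Finset.sum_add_distrib, h, Ne.symm h])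
  set T : Cfsg.isometryGroup F (⇑R) ≃* quadIsometries R := isometryEquiv R
  have hcomm : ∀ x, T.symm (f x) ∈ Cfsg.Omega F (⇑R) := fun x => by
    have h := Subgroup.mem_map_of_mem T.symm.toMonoidHom (hfc x)
    rw [map_commutator_of_equiv T.symm] at h
    exact h
  let f₁ : D →* Cfsg.Omega F (⇑R) := (T.symm.toMonoidHom.comp f).codRestrict _ hcomm
  have hcen : ∀ z : Cfsg.Omega F (⇑R), z ∈ Subgroup.center (Cfsg.Omega F (⇑R)) → z = 1 := by
    intro z hz
    rcases (Cfsg.Agent.Lib.Classical.center_Omega_eq _ m hm hhyp (Cfsg.Agent.Lib.Classical.oddEquiv m F)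
      (⇑R) (fun _ => rfl) z).mp hz with h | h
    · exact Subtype.ext (Subtype.ext (Units.ext h))
    · exfalso
      let δ : Cfsg.isometryGroup F (⇑R) →* Fˣ :=
        (Matrix.GeneralLinearGroup.det).comp (Cfsg.isometryGroup F (⇑R)).subtype
      have h1 : δ z.1 = 1 :=
        MonoidHom.mem_ker.mp (Abelianization.commutator_subset_ker δ z.2)
      have h' := congrArg Units.val h1
      simp only [δ, MonoidHom.comp_apply, Subgroup.coe_subtype, Matrix.GeneralLinearGroup.val_det_apply,
        Units.val_one] at h'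
      rw [h, Matrix.det_neg, Matrix.det_one, mul_one, Fintype.card_sum, Fintype.card_sum, Fintype.card_unit,
        Fintype.card_fin, Odd.neg_one_pow ⟨m, by ring⟩] at h'
      exact h2 (by linear_combination -h')
  let f₂ : D →* Cfsg.PSp m F := e.symm.toMonoidHom.comp ((QuotientGroup.mk' _).comp f₁)
  have hinj : Function.Injective f₂ := by
    refine (injective_iff_map_eq_one _).mpr fun x hx => ?_
    have hx' := (QuotientGroup.eq_one_iff (f₁ x)).mp ((MulEquiv.map_eq_one_iff e.symm).mp hx)
    have := congrArg Subtype.val (hcen _ hx')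
    refine (injective_iff_map_eq_one f).mp hf x ((MulEquiv.map_eq_one_iff T.symm).mp ?_)
    exact this
  have hle := card_exponent_two_PSp_le h2 hm f₂.range (by
    rintro _ ⟨x, rfl⟩
    rw [← map_mul, show x * x = 1 from Subtype.ext (funext fun k => Int.units_mul_self _), map_one])
  rw [← Nat.card_congr (MonoidHom.ofInjective hinj).toEquiv] at hle
  simp only [Fintype.card_option, Fintype.card_fin] at hD
  have h8 : 2 ^ (2 * m - 2) * 4 < 2 ^ (m + 1 + m) := by
    rw [show (4 : ℕ) = 2 ^ 2 from rfl, ← pow_add]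
    exact Nat.pow_lt_pow_right one_lt_two (by omega)
  omega

/-- PSp_2m(q) ≇ PΩ_(2m+1)(q) for q odd and m ≥ 3 (they have the same order). -/
theorem result {F : Type*} [Field F] [Fintype F] (hodd : Odd (Fintype.card F)) (m : ℕ) (hm : 3 ≤ m) : IsEmpty (Cfsg.PSp m F ≃* Cfsg.POmega F (Cfsg.quadFormOdd m F)) := by
  exact not_equiv hodd m hm

end Cfsg.Agent.S0821
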