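import Cfsg.Statements.S0823
import Cfsg.Agent.Lib.Classical.OrthCard
import Cfsg.Agent.Lib.Classical.SLTwo
-- import your own Cfsg.Agent.* helpers here

set_option autoImplicit false
open Cfsg
open scoped Matrix

namespace Cfsg.Agent.S0823

/-- SO_3(3) ≅ S_4: the determinant-one isometries of the form x_0² + x_1y_1 over the field with 3 elements form a group isomorphic to the symmetric group on 4 letters. -/
theorem result {F : Type*} [Field F] [Fintype F] (hF : Fintype.card F = 3) : Nonempty (↥(Cfsg.specialIsometryGroup F (Cfsg.quadFormOdd 1 F)) ≃* Equiv.Perm (Fin 4)) := by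
  classical
  have hcard : ∀ x : F, x = 0 ∨ x = 1 ∨ x = -1 := by
    have h2 : (1 : F) ≠ -1 := fun h => by
      obtain ⟨p, hp⟩ := CharP.exists F
      obtain ⟨⟨m, hm⟩, hpp, hc⟩ := FiniteField.card F p
      have h2' : ((2 : ℕ) : F) = 0 := by push_cast; linear_combination h
      have h3 : ((3 : ℕ) : F) = 0 := by rw [← hF]; exact Nat.cast_card_eq_zero F
      apply one_ne_zero (α := F)
      push_cast at h2' h3
      linear_combination h3 - h2'
    intro x
    by_contra hx
    push Not at hx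
    have hs : ({0, 1, -1, x} : Finset F).card ≤ 3 := hF ▸ Finset.card_le_univ _
    rw [Finset.card_insert_of_notMem (by simp [hx.1.symm]),
      Finset.card_insert_of_notMem (by simp [h2, hx.2.1.symm]),
      Finset.card_pair hx.2.2.symm] at hs
    omega
  have h1 : (1 : F) ≠ -1 := fun h => by
    have h3 : ((3 : ℕ) : F) = 0 := by rw [← hF]; exact Nat.cast_card_eq_zero F
    apply one_ne_zero (α := F)
    push_cast at h3
    linear_combination h3 - h
  let r : Fin 4 → (Unit ⊕ (Fin 1 ⊕ Fin 1) → F) := fun j =>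
    Sum.elim (fun _ => (![0, 0, 1, 1] : Fin 4 → F) j)
      (Sum.elim (fun _ => (![1, 0, 1, -1] : Fin 4 → F) j) (fun _ => (![0, 1, -1, 1] : Fin 4 → F) j))
  have hr : ∀ j, Cfsg.quadFormOdd 1 F (r j) = 0 := fun j => by
    fin_cases j <;> simp [r, Cfsg.quadFormOdd]
  have hrne : ∀ j, r j ≠ 0 := fun j h => by
    have e0 := congrFun h (Sum.inr (Sum.inl 0))
    have e1 := congrFun h (Sum.inr (Sum.inr 0))
    fin_cases j <;> simp [r] at e0 e1
  have huniq : ∀ (i j : Fin 4) (c : F), r i = c • r j → i = j := by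
    intro i j c h
    have hc : c ≠ 0 := fun h0 => hrne i (by rw [h, h0, zero_smul])
    have e0 := congrFun h (Sum.inl ())
    have e1 := congrFun h (Sum.inr (Sum.inl 0))
    have e2 := congrFun h (Sum.inr (Sum.inr 0))
    rcases hcard c with rfl | rfl | rfl
    · exact absurd rfl hc
    all_goals
      fin_cases i <;> fin_cases j <;> simp [r, h1, h1.symm, neg_eq_iff_eq_neg] at e0 e1 e2 ⊢
  have hex : ∀ v, v ≠ 0 → Cfsg.quadFormOdd 1 F v = 0 → ∃ j, ∃ c : F, v = c • r j := by
    intro v hv hQ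
    have key : ∀ w : Unit ⊕ (Fin 1 ⊕ Fin 1) → F, w (Sum.inl ()) = v (Sum.inl ()) →
        w (Sum.inr (Sum.inl 0)) = v (Sum.inr (Sum.inl 0)) →
        w (Sum.inr (Sum.inr 0)) = v (Sum.inr (Sum.inr 0)) → v = w := by
      intro w a b c
      funext s
      rcases s with ⟨⟩ | s | s
      · exact a.symm
      · rw [Subsingleton.elim s 0]; exact b.symm
      · rw [Subsingleton.elim s 0]; exact c.symm
    simp [Cfsg.quadFormOdd] at hQ
    rcases hcard (v (Sum.inl ())) with a | a | a <;>
      rcases hcard (v (Sum.inr (Sum.inl 0))) with b | b | b <;>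
        rcases hcard (v (Sum.inr (Sum.inr 0))) with c | c | c <;>
          rw [a, b, c] at hQ
    all_goals first
      | (refine absurd (key 0 ?_ ?_ ?_) hv <;> simp [a, b, c] <;> done)
      | (refine ⟨0, 1, key _ ?_ ?_ ?_⟩ <;> simp [a, b, c, r] <;> done)
      | (refine ⟨0, -1, key _ ?_ ?_ ?_⟩ <;> simp [a, b, c, r] <;> done)
      | (refine ⟨1, 1, key _ ?_ ?_ ?_⟩ <;> simp [a, b, c, r] <;> done)
      | (refine ⟨1, -1, key _ ?_ ?_ ?_⟩ <;> simp [a, b, c, r] <;> done)
      | (refine ⟨2, 1, key _ ?_ ?_ ?_⟩ <;> simp [a, b, c, r] <;> done)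
      | (refine ⟨2, -1, key _ ?_ ?_ ?_⟩ <;> simp [a, b, c, r] <;> done)
      | (refine ⟨3, 1, key _ ?_ ?_ ?_⟩ <;> simp [a, b, c, r] <;> done)
      | (refine ⟨3, -1, key _ ?_ ?_ ?_⟩ <;> simp [a, b, c, r] <;> done)
      | exact absurd (show (1 : F) = -1 by linear_combination hQ) h1
      | exact absurd (show (1 : F) = -1 by linear_combination -hQ) h1
      | exact absurd (show (1 : F) = 0 by linear_combination hQ) one_ne_zero
      | exact absurd (show (1 : F) = 0 by linear_combination -hQ) one_ne_zero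
  let G := Cfsg.isometryGroup F (Cfsg.quadFormOdd 1 F)
  let act : G → (Unit ⊕ (Fin 1 ⊕ Fin 1) → F) → (Unit ⊕ (Fin 1 ⊕ Fin 1) → F) := fun g v => g.1.1 *ᵥ v
  have hiso : ∀ (g : G) v, Cfsg.quadFormOdd 1 F (act g v) = Cfsg.quadFormOdd 1 F v := fun g v => g.2 v v
  have hmul : ∀ (g h : G) v, act (g * h) v = act g (act h v) := fun g h v => by
    simp [act, Matrix.mulVec_mulVec]
  have hne : ∀ (g : G) v, v ≠ 0 → act g v ≠ 0 := fun g v hv h => hv (by
    have h' := congrArg (act g⁻¹) h
    rw [← hmul, inv_mul_cancel] at h'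
    simpa [act] using h')
  choose σ hσ using fun (g : G) (j : Fin 4) =>
    hex (act g (r j)) (hne g _ (hrne j)) (by rw [hiso, hr])
  have hσ1 : ∀ j, σ 1 j = j := fun j => by
    obtain ⟨c, hc⟩ := hσ 1 j
    exact (huniq j (σ 1 j) c (by simpa [act] using hc)).symm
  have hσmul : ∀ g h j, σ (g * h) j = σ g (σ h j) := by
    intro g h j
    obtain ⟨c, hc⟩ := hσ (g * h) j
    obtain ⟨d, hd⟩ := hσ h j
    obtain ⟨e, he⟩ := hσ g (σ h j)
    have hd' : act g (d • r (σ h j)) = d • act g (r (σ h j)) := by simp [act, Matrix.mulVec_smul]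
    rw [hmul, hd, hd', he, smul_smul] at hc
    have hde : d * e ≠ 0 := fun h0 => by
      rw [h0, zero_smul] at hc
      have hz : act (g * h) (r j) = 0 := by rw [hmul, hd, hd', he, smul_smul, h0, zero_smul]
      exact hne _ _ (hrne j) hz
    exact (huniq (σ g (σ h j)) _ ((d * e)⁻¹ * c) (by
      rw [← smul_smul, ← hc, smul_smul, inv_mul_cancel₀ hde, one_smul])).symm
  let perm : G →* Equiv.Perm (Fin 4) :=
    { toFun := fun g => ⟨σ g, σ g⁻¹, fun j => by rw [← hσmul, inv_mul_cancel, hσ1],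
        fun j => by rw [← hσmul, mul_inv_cancel, hσ1]⟩
      map_one' := Equiv.ext hσ1
      map_mul' := fun g h => Equiv.ext (hσmul g h) }
  let S := Cfsg.specialIsometryGroup F (Cfsg.quadFormOdd 1 F)
  refine Cfsg.Agent.Lib.Classical.nonempty_mulEquiv_perm (by simp) (perm.comp S.subtype)
    ((injective_iff_map_eq_one _).mpr fun g hg => ?_) ?_
  · have hfix : ∀ j, ∃ c, act g.1 (r j) = c • r j := fun j => by
      obtain ⟨c, hc⟩ := hσ g.1 j
      exact ⟨c, by rw [hc, show σ g.1 j = j from DFunLike.congr_fun hg j]⟩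
    obtain ⟨a, ha⟩ := hfix 0
    obtain ⟨b, hb⟩ := hfix 1
    obtain ⟨c, hc⟩ := hfix 2
    obtain ⟨d, hd⟩ := hfix 3
    let e0 : Unit ⊕ (Fin 1 ⊕ Fin 1) → F := Pi.single (Sum.inl ()) 1
    have hr2 : r 2 = e0 + r 0 - r 1 := by
      funext s; rcases s with ⟨⟩ | s | s <;> simp [r, e0]
    have hr3 : r 3 = e0 - r 0 + r 1 := by
      funext s; rcases s with ⟨⟩ | s | s <;> simp [r, e0]
    have hc' : act g.1 e0 + a • r 0 - b • r 1 = c • r 2 := by
      rw [← hc, ← ha, ← hb, hr2]; simp [act, Matrix.mulVec_add, Matrix.mulVec_sub]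
    have hd' : act g.1 e0 - a • r 0 + b • r 1 = d • r 3 := by
      rw [← hd, ← ha, ← hb, hr3]; simp [act, Matrix.mulVec_add, Matrix.mulVec_sub]
    have c0 := congrFun hc' (Sum.inl ())
    have c1 := congrFun hc' (Sum.inr (Sum.inl 0))
    have c2 := congrFun hc' (Sum.inr (Sum.inr 0))
    have d0 := congrFun hd' (Sum.inl ())
    have d1 := congrFun hd' (Sum.inr (Sum.inl 0))
    have d2 := congrFun hd' (Sum.inr (Sum.inr 0))
    simp [r] at c0 c1 c2 d0 d1 d2
    have h2 : (2 : F) ≠ 0 := fun h => h1 (by linear_combination h)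
    have hac : c = a := mul_left_cancel₀ h2 (by linear_combination -c0 - c1 + d1 + d0)
    have hbc : c = b := mul_left_cancel₀ h2 (by linear_combination -c0 + c2 + d0 - d2)
    have hmat : (g.1.1.1 : Matrix (Unit ⊕ (Fin 1 ⊕ Fin 1)) (Unit ⊕ (Fin 1 ⊕ Fin 1)) F) = Matrix.diagonal (fun _ => a) := by
      refine Matrix.ext_of_mulVec_single fun s => ?_
      have hs : act g.1 (Pi.single s 1) = a • Pi.single s 1 := by
        rcases s with ⟨⟩ | s | s
        · have : act g.1 e0 = c • r 2 - a • r 0 + b • r 1 := by rw [← hc']; abel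
          show act g.1 e0 = a • e0
          rw [this, hr2, ← hac, ← hbc]
          module
        · rw [Subsingleton.elim s 0, show (Pi.single (Sum.inr (Sum.inl 0)) 1 : Unit ⊕ (Fin 1 ⊕ Fin 1) → F) = r 0 by
            funext t; rcases t with ⟨⟩ | t | t <;> simp [r, Pi.single_apply, Fin.fin_one_eq_zero], ha]
        · rw [Subsingleton.elim s 0, show (Pi.single (Sum.inr (Sum.inr 0)) 1 : Unit ⊕ (Fin 1 ⊕ Fin 1) → F) = r 1 by
            funext t; rcases t with ⟨⟩ | t | t <;> simp [r, Pi.single_apply, Fin.fin_one_eq_zero], hb, ← hbc, hac]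
      rw [show g.1.1.1 *ᵥ Pi.single s 1 = act g.1 (Pi.single s 1) from rfl, hs]
      funext t
      simp [Matrix.mulVec_diagonal]
    have hdet : a ^ 3 = 1 := by
      have h := congrArg Units.val (MonoidHom.mem_ker.mp g.2)
      simp [hmat, Matrix.det_diagonal] at h
      simpa [Fintype.card_sum] using h
    have ha1 : a = 1 := by
      rcases hcard a with rfl | rfl | rfl
      · simp at hdet
      · rfl
      · exact absurd (by linear_combination hdet.symm) h1
    refine Subtype.ext (Subtype.ext (Units.ext ?_))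
    show g.1.1.1 = 1
    rw [hmat, ha1, Matrix.diagonal_one]
  · let δ : G →* Fˣ := Matrix.GeneralLinearGroup.det.comp G.subtype
    have hsurj : Function.Surjective δ := by
      intro u
      rcases hcard (u : F) with h | h | h
      · exact absurd h u.ne_zero
      · exact ⟨1, by rw [map_one]; exact Units.ext h.symm⟩
      · let w : Matrix (Unit ⊕ (Fin 1 ⊕ Fin 1)) (Unit ⊕ (Fin 1 ⊕ Fin 1)) F :=
          Matrix.diagonal (Sum.elim (fun _ => -1) (fun _ => 1))
        let γ : Matrix.GeneralLinearGroup (Unit ⊕ (Fin 1 ⊕ Fin 1)) F :=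
          Matrix.GeneralLinearGroup.mkOfDetNeZero w (by simp [w, Matrix.det_diagonal])
        refine ⟨⟨γ, fun x y => ?_⟩, Units.ext ?_⟩
        · simp [Cfsg.quadFormOdd, γ, w, Matrix.mulVec_diagonal]
        · simp [δ, γ, w, Matrix.det_diagonal, Fintype.prod_sum_type, h]
    have hidx : S.index = 2 := by
      show δ.ker.index = 2
      rw [Subgroup.index_ker, MonoidHom.range_eq_top.mpr hsurj, Subgroup.card_top, Nat.card_units,
        Nat.card_eq_fintype_card, hF]
    have hG : Nat.card G = 48 := by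
      rw [Cfsg.Agent.Lib.Classical.card_orth_odd hF (by decide) 1]; norm_num
    have := S.card_mul_index
    rw [hidx, hG] at this
    show Nat.card S = Nat.factorial 4
    rw [show Nat.factorial 4 = 24 from rfl]
    omega

end Cfsg.Agent.S0823
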