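import Cfsg.Statements.S1141
import Cfsg.Agent.Lib.Classical.HermCard
import Mathlib.Algebra.CharP.Algebra
import Mathlib.FieldTheory.Finite.Basic

set_option autoImplicit false
open Cfsg

namespace Cfsg.Agent.S1141

open Cfsg.Agent.Lib.Classical
open scoped Matrix

variable {F : Type*} [Field F] [Fintype F] {n : ℕ}

/-- the element with parameters `a, b` -/
def um (q : ℕ) (a b : F) : Matrix (Fin 3) (Fin 3) F :=
  !![1 + b, b, a; b, 1 + b, a; a ^ q, a ^ q, 1]

theorem charTwo (hn : 1 ≤ n) (hF : Fintype.card F = (2 ^ n) ^ 2) : CharP F 2 := by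
  haveI : Fact (Nat.Prime 2) := ⟨Nat.prime_two⟩
  exact charP_of_card_eq_prime_pow (f := n * 2) (by rw [hF, ← pow_mul])

section

variable [CharP F 2] (hF : Fintype.card F = (2 ^ n) ^ 2)

local notation "q" => (2 ^ n : ℕ)

include hF

theorem pow_pow_q (a : F) : (a ^ q) ^ q = a := by
  rw [← pow_mul, ← pow_two, ← hF, FiniteField.pow_card]

omit [Fintype F] hF in
theorem add_pow_q (a b : F) : (a + b) ^ q = a ^ q + b ^ q := add_pow_char_pow a b 2 n

omit [Fintype F] hF in
theorem um_mul (a b a' b' : F) :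
    um q a b * um q a' b' = um q (a + a') (b + b' + a * a' ^ q) := by
  have h2 := CharTwo.two_eq_zero (R := F)
  ext i j
  fin_cases i <;> fin_cases j <;>
    simp [um, Matrix.mul_apply, Fin.sum_univ_three, add_pow_q] <;>
    first
      | linear_combination (b * b') * h2
      | linear_combination (b * a') * h2
      | linear_combination (a ^ q * b') * h2
      | linear_combination (b' * a ^ q) * h2
      | linear_combination (a ^ q * a') * h2
      | ring

omit [Fintype F] hF in
theorem um_det (a b : F) : (um q a b).det = 1 := by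
  have h2 := CharTwo.two_eq_zero (R := F)
  rw [Matrix.det_fin_three]
  simp [um]
  linear_combination (b - a * a ^ q) * h2

/-- the parameters of the unipotent group -/
def Par (q' : ℕ) (a b : F) : Prop := b ^ q' + b = a ^ q' * a

theorem um_preserves {a b : F} (h : Par q a b) (u v : Fin 3 → F) :
    hermForm 3 F q (um q a b *ᵥ u) (um q a b *ᵥ v) = hermForm 3 F q u v := by
  have h2 := CharTwo.two_eq_zero (R := F)
  have haa := pow_pow_q hF a
  have h' : b ^ q + b = a ^ q * a := h
  simp only [hermForm, um, Matrix.mulVec, dotProduct, Fin.sum_univ_three, Matrix.of_apply,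
    Matrix.cons_val', Matrix.cons_val_zero, Matrix.cons_val_one, Matrix.cons_val, Matrix.cons_val_fin_one,
    one_mul, add_pow_q, mul_pow, one_pow, haa]
  linear_combination ((u 0 + u 1) * (v 0 ^ q + v 1 ^ q)) * h' +
    ((u 0 + u 1) * (v 0 ^ q + v 1 ^ q) * (b * b ^ q + a ^ q * a) +
      (u 0 + u 1) * v 2 ^ q * (a ^ q * (1 + b)) + u 2 * (v 0 ^ q + v 1 ^ q) * (a * (1 + b ^ q)) +
      u 2 * v 2 ^ q * (a * a ^ q)) * h2

/-- as an element of the special unitary group -/
def uel {a b : F} (h : Par q a b) : SU 3 F q :=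
  ⟨⟨um q a b, um_det a b⟩, fun u v => um_preserves hF h u v⟩

omit hF in
theorem uel_val {hF : Fintype.card F = (2 ^ n) ^ 2} {a b : F} (h : Par q a b) :
    ((uel hF h).1 : Matrix (Fin 3) (Fin 3) F) = um q a b := rfl

theorem par_mul {a b a' b' : F} (h : Par q a b) (h' : Par q a' b') :
    Par q (a + a') (b + b' + a * a' ^ q) := by
  unfold Par at *
  rw [add_pow_q, add_pow_q, add_pow_q, mul_pow, pow_pow_q hF a']
  linear_combination h + h'

/-- the unipotent group -/
def U : Subgroup (SU 3 F q) where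
  carrier := {g | ∃ (a b : F) (h : Par q a b), uel hF h = g}
  mul_mem' := by
    rintro _ _ ⟨a, b, h, rfl⟩ ⟨a', b', h', rfl⟩
    exact ⟨_, _, par_mul hF h h', Subtype.ext (Subtype.ext (um_mul a b a' b').symm)⟩
  one_mem' := by
    refine ⟨0, 0, by simp [Par, (show q ≠ 0 by positivity)], Subtype.ext (Subtype.ext ?_)⟩
    change um q (0 : F) 0 = 1
    ext i j
    fin_cases i <;> fin_cases j <;> simp [um, (show q ≠ 0 by positivity)]
  inv_mem' := by
    rintro _ ⟨a, b, h, rfl⟩
    have h2 := CharTwo.two_eq_zero (R := F)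
    have hp : Par q a (b + a * a ^ q) := by
      unfold Par at *
      rw [add_pow_q, mul_pow, pow_pow_q hF a]
      linear_combination h + (a ^ q * a) * h2
    refine ⟨a, _, hp, ?_⟩
    refine eq_inv_of_mul_eq_one_left (Subtype.ext (Subtype.ext ?_))
    change um q a (b + a * a ^ q) * um q a b = 1
    rw [um_mul, CharTwo.add_self_eq_zero, show b + a * a ^ q + b + a * a ^ q = 0 by
      linear_combination (b + a * a ^ q) * h2]
    ext i j
    fin_cases i <;> fin_cases j <;> simp [um, (show q ≠ 0 by positivity)]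

/-- the parameters of an element -/
def equivPar : U hF ≃ {p : F × F // Par q p.1 p.2} where
  toFun g := ⟨(((g : SU 3 F q).1 : Matrix (Fin 3) (Fin 3) F) 0 2,
    ((g : SU 3 F q).1 : Matrix (Fin 3) (Fin 3) F) 0 1), by
      obtain ⟨a, b, h, hg⟩ := g.2
      rw [← hg, uel_val]
      simpa [um] using h⟩
  invFun p := ⟨uel hF p.2, _, _, p.2, rfl⟩
  left_inv g := by
    obtain ⟨g, a, b, h, rfl⟩ := g
    exact Subtype.ext (Subtype.ext (Subtype.ext (by simp [uel_val, um])))
  right_inv p := by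
    apply Subtype.ext
    simp [uel_val, um]

/-- `b ↦ b ^ q + b` -/
def trQ (hF : Fintype.card F = (2 ^ n) ^ 2) : F →+ F :=
  have := hF
  AddMonoidHom.mk' (fun b => b ^ q + b) fun x y => by
    change (x + y) ^ q + (x + y) = _
    rw [add_pow_q]; ring

theorem card_ker_trQ : Nat.card (trQ hF).ker = q ∧ (trQ hF).range = (trQ hF).ker := by
  classical
  have hle : (trQ hF).range ≤ (trQ hF).ker := by
    rintro _ ⟨b, rfl⟩
    change (b ^ q + b) ^ q + (b ^ q + b) = 0
    rw [add_pow_q, pow_pow_q hF b]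
    linear_combination (b + b ^ q) * CharTwo.two_eq_zero (R := F)
  have hk : Nat.card (trQ hF).ker ≤ q := by
    have hq : 1 < q := by
      by_contra h
      have h1 : q = 1 := le_antisymm (not_lt.mp h) Nat.one_le_two_pow
      rw [h1, one_pow] at hF
      exact (Fintype.one_lt_card (α := F)).ne' hF
    have hdeg : (Polynomial.X ^ q + Polynomial.X : Polynomial F).natDegree = q := by
      rw [Polynomial.natDegree_add_eq_left_of_natDegree_lt] <;> simp [hq]
    have hne : (Polynomial.X ^ q + Polynomial.X : Polynomial F) ≠ 0 := fun h => by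
      rw [h, Polynomial.natDegree_zero] at hdeg
      omega
    rw [Nat.card_eq_fintype_card, ← hdeg]
    refine le_trans ?_ (Polynomial.card_roots' _)
    refine le_trans ?_ (Multiset.toFinset_card_le _)
    rw [← Finset.card_univ]
    refine Finset.card_le_card_of_injOn (fun x => (x : F)) (fun x _ => ?_) fun x _ y _ h => Subtype.ext h
    have hx : (x : F) ^ q + x = 0 := x.2
    simp [Polynomial.mem_roots hne, hx]
  have hmul : Nat.card (trQ hF).range * Nat.card (trQ hF).ker = q ^ 2 := by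
    rw [← hF, ← Nat.card_eq_fintype_card,
      AddSubgroup.card_eq_card_quotient_mul_card_addSubgroup (trQ hF).ker,
      Nat.card_congr (QuotientAddGroup.quotientKerEquivRange (trQ hF)).toEquiv]
  have hrk : Nat.card (trQ hF).range ≤ Nat.card (trQ hF).ker :=
    Nat.card_le_card_of_injective _ (AddSubgroup.inclusion_injective hle)
  have hker : Nat.card (trQ hF).ker = q := by
    refine le_antisymm hk ?_
    by_contra h
    have h1 := Nat.mul_lt_mul_of_le_of_lt (hrk.trans hk) (not_le.mp h) (Nat.two_pow_pos n)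
    rw [hmul, pow_two] at h1
    exact lt_irrefl _ h1
  refine ⟨hker, AddSubgroup.eq_of_le_of_card_ge hle ?_⟩
  rw [hker]
  rw [hker, pow_two] at hmul
  exact (Nat.eq_of_mul_eq_mul_right (Nat.two_pow_pos n) hmul).ge

theorem exists_par (a : F) : ∃ b, Par q a b := by
  have h : a ^ q * a ∈ (trQ hF).ker := by
    change (a ^ q * a) ^ q + a ^ q * a = 0
    rw [mul_pow, pow_pow_q hF a]
    linear_combination (a * a ^ q) * CharTwo.two_eq_zero (R := F)
  rw [← (card_ker_trQ hF).2] at h
  obtain ⟨b, hb⟩ := h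
  exact ⟨b, hb⟩

theorem card_U : Nat.card (U hF) = q ^ 3 := by
  classical
  choose β hβ using exists_par hF
  have hshift : ∀ (a : F) (c : (trQ hF).ker), Par q a (β a + c) := fun a c => by
    have hc : (c : F) ^ q + c = 0 := c.2
    have hb : β a ^ q + β a = a ^ q * a := hβ a
    unfold Par
    rw [add_pow_q]
    linear_combination hb + hc
  let e : {p : F × F // Par q p.1 p.2} ≃ F × (trQ hF).ker :=
    { toFun := fun p => (p.1.1, ⟨p.1.2 + β p.1.1, by
        change (p.1.2 + β p.1.1) ^ q + (p.1.2 + β p.1.1) = 0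
        have hb : β p.1.1 ^ q + β p.1.1 = p.1.1 ^ q * p.1.1 := hβ _
        have hp : p.1.2 ^ q + p.1.2 = p.1.1 ^ q * p.1.1 := p.2
        rw [add_pow_q]
        linear_combination hb + hp + (p.1.1 ^ q * p.1.1) * CharTwo.two_eq_zero (R := F)⟩)
      invFun := fun p => ⟨(p.1, β p.1 + p.2), hshift p.1 p.2⟩
      left_inv := fun p => Subtype.ext (Prod.ext rfl (by
        change β p.1.1 + (p.1.2 + β p.1.1) = p.1.2
        linear_combination (β p.1.1) * CharTwo.two_eq_zero (R := F)))
      right_inv := fun p => Prod.ext rfl (Subtype.ext (by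
        change β p.1 + p.2 + β p.1 = (p.2 : F)
        linear_combination (β p.1) * CharTwo.two_eq_zero (R := F))) }
  rw [Nat.card_congr ((equivPar hF).trans e), Nat.card_prod, (card_ker_trQ hF).1,
    Nat.card_eq_fintype_card, hF, ← pow_succ]

theorem uel_inj {a b a' b' : F} {h : Par q a b} {h' : Par q a' b'} (e : uel hF h = uel hF h') :
    a = a' ∧ b = b' := by
  have e' := congrArg (fun g : SU 3 F q => ((g.1 : Matrix (Fin 3) (Fin 3) F) 0 2,
    (g.1 : Matrix (Fin 3) (Fin 3) F) 0 1)) e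
  simpa [uel_val, um] using e'

theorem uel_inj' {a b a' b' : F} {h : Par q a b} {h' : Par q a' b'} {m : uel hF h ∈ U hF}
    {m' : uel hF h' ∈ U hF} (e : (⟨uel hF h, m⟩ : U hF) = ⟨uel hF h', m'⟩) : a = a' ∧ b = b' :=
  uel_inj hF (h := h) (h' := h') (congrArg Subtype.val e)

theorem mem_U {g : U hF} : ∃ (a b : F) (h : Par q a b), g = ⟨uel hF h, a, b, h, rfl⟩ := by
  obtain ⟨g, a, b, h, rfl⟩ := g
  exact ⟨a, b, h, rfl⟩

theorem mul_eq {a b a' b' : F} {h : Par q a b} {h' : Par q a' b'} :
    (⟨uel hF h, a, b, h, rfl⟩ : U hF) * ⟨uel hF h', a', b', h', rfl⟩ =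
      ⟨uel hF (par_mul hF h h'), _, _, par_mul hF h h', rfl⟩ :=
  Subtype.ext (Subtype.ext (Subtype.ext (um_mul a b a' b')))

theorem one_eq (g : U hF) {a b : F} {h : Par q a b} (hg : g = ⟨uel hF h, a, b, h, rfl⟩) :
    g = 1 ↔ a = 0 ∧ b = 0 := by
  have hq0 : q ≠ 0 := by positivity
  subst hg
  constructor
  · intro e
    have e' := congrArg (fun g : U hF => (((g : SU 3 F q).1 : Matrix (Fin 3) (Fin 3) F) 0 2,
      ((g : SU 3 F q).1 : Matrix (Fin 3) (Fin 3) F) 0 1)) e
    simpa [uel_val, um] using e'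
  · rintro ⟨rfl, rfl⟩
    refine Subtype.ext (Subtype.ext (Subtype.ext ?_))
    rw [uel_val]
    ext i j
    fin_cases i <;> fin_cases j <;> simp [um, hq0]

theorem mem_center_iff (hn : 2 ≤ n) {a b : F} {h : Par q a b} :
    (⟨uel hF h, a, b, h, rfl⟩ : U hF) ∈ Subgroup.center (U hF) ↔ a = 0 := by
  classical
  have hq0 : q ≠ 0 := by positivity
  rw [Subgroup.mem_center_iff]
  constructor
  · intro hc
    by_contra ha
    -- every element of the field is fixed by the Frobenius
    have hfix : ∀ x : F, x ^ q + x = 0 := by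
      intro x
      obtain ⟨b', h'⟩ := exists_par hF (x * a)
      have e := hc ⟨uel hF h', _, _, h', rfl⟩
      rw [mul_eq, mul_eq] at e
      have e2 := (uel_inj' hF e).2
      rw [mul_pow] at e2
      have e3 : a * a ^ q * (x ^ q + x) = 0 := by
        linear_combination (-1 : F) * e2 + (x * a * a ^ q) * CharTwo.two_eq_zero (R := F)
      exact (mul_eq_zero.mp e3).resolve_left (mul_ne_zero ha (pow_ne_zero _ ha))
    have h1 : (trQ hF).ker = ⊤ := eq_top_iff.mpr fun x _ => hfix x
    have h2 := (card_ker_trQ hF).1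
    rw [h1, AddSubgroup.card_top, Nat.card_eq_fintype_card, hF, pow_two] at h2
    have h4 : 2 ≤ q := le_trans (by norm_num) (Nat.pow_le_pow_right (show 0 < 2 by norm_num) (show 1 ≤ n by omega))
    nlinarith
  · rintro rfl g
    obtain ⟨a', b', h', rfl⟩ := mem_U hF (g := g)
    rw [mul_eq, mul_eq]
    refine Subtype.ext (Subtype.ext (Subtype.ext ?_))
    rw [uel_val, uel_val, zero_pow hq0, mul_zero, zero_mul, zero_add, add_zero, add_comm b' b]

theorem card_center (hn : 2 ≤ n) : Nat.card (Subgroup.center (U hF)) = q := by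
  classical
  have hq0 : q ≠ 0 := by positivity
  have hpar : ∀ c : (trQ hF).ker, Par q (0 : F) (c : F) := fun c => by
    have hc : (c : F) ^ q + c = 0 := c.2
    simpa [Par, hq0] using hc
  conv_rhs => rw [← (card_ker_trQ hF).1]
  symm
  refine Nat.card_eq_of_bijective
    (fun c => ⟨⟨uel hF (hpar c), _, _, hpar c, rfl⟩, (mem_center_iff hF hn).mpr rfl⟩) ⟨fun c d e => ?_, ?_⟩
  · exact Subtype.ext (uel_inj' hF (congrArg Subtype.val e)).2
  · rintro ⟨g, hg⟩
    obtain ⟨a, b, h, rfl⟩ := mem_U hF (g := g)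
    obtain rfl := (mem_center_iff hF hn).mp hg
    refine ⟨⟨b, ?_⟩, rfl⟩
    change b ^ q + b = 0
    have h' : b ^ q + b = (0 : F) ^ q * 0 := h
    simpa using h'

theorem invol_iff {a b : F} {h : Par q a b} :
    (⟨uel hF h, a, b, h, rfl⟩ : U hF) * ⟨uel hF h, a, b, h, rfl⟩ = 1 ↔ a = 0 := by
  have hq0 : q ≠ 0 := by positivity
  rw [mul_eq, one_eq hF _ rfl, CharTwo.add_self_eq_zero, CharTwo.add_self_eq_zero, zero_add]
  simp [hq0]

theorem isSuzuki (hn : 2 ≤ n) : IsSuzukiTwoGroup (U hF) := by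
  classical
  haveI : Fact (Nat.Prime 2) := ⟨Nat.prime_two⟩
  have hq0 : q ≠ 0 := by positivity
  have hq4 : 4 ≤ q := le_trans (by norm_num) (Nat.pow_le_pow_right (show 0 < 2 by norm_num) hn)
  refine ⟨inferInstance, IsPGroup.of_card (n := n * 3) (by rw [card_U hF, ← pow_mul]), ?_, ?_, ?_⟩
  · by_contra hcomm
    push Not at hcomm
    have h1 : Subgroup.center (U hF) = ⊤ :=
      eq_top_iff.mpr fun x _ => Subgroup.mem_center_iff.mpr fun y => hcomm y x
    have h2 := card_center hF hn
    rw [h1, Subgroup.card_top, card_U hF] at h2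
    have h4 : q < q ^ 3 := by
      calc q = q ^ 1 := (pow_one _).symm
        _ < q ^ 3 := Nat.pow_lt_pow_right (by omega) (by omega)
    omega
  · have hk : 2 < Nat.card (trQ hF).ker := by rw [(card_ker_trQ hF).1]; omega
    haveI : Fintype (trQ hF).ker := Fintype.ofFinite _
    rw [Nat.card_eq_fintype_card, Fintype.two_lt_card_iff] at hk
    obtain ⟨c₁, c₂, c₃, h12, h13, h23⟩ := hk
    have key : ∃ d e : (trQ hF).ker, d ≠ e ∧ d ≠ 0 ∧ e ≠ 0 := by
      by_cases h1 : c₁ = 0
      · exact ⟨c₂, c₃, h23, fun h => h12 (h1.trans h.symm), fun h => h13 (h1.trans h.symm)⟩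
      · by_cases h2 : c₂ = 0
        · exact ⟨c₁, c₃, h13, h1, fun h => h23 (h2.trans h.symm)⟩
        · exact ⟨c₁, c₂, h12, h1, h2⟩
    obtain ⟨d, e, hde, hd, he⟩ := key
    have hpar : ∀ c : (trQ hF).ker, Par q (0 : F) (c : F) := fun c => by
      have hc : (c : F) ^ q + c = 0 := c.2
      simpa [Par, hq0] using hc
    refine ⟨⟨uel hF (hpar d), _, _, hpar d, rfl⟩, ⟨uel hF (hpar e), _, _, hpar e, rfl⟩,
      fun h => hde (Subtype.ext (uel_inj' hF h).2),
      fun h => hd (Subtype.ext ((one_eq hF _ rfl).mp h).2), (invol_iff hF).mpr rfl,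
      fun h => he (Subtype.ext ((one_eq hF _ rfl).mp h).2), (invol_iff hF).mpr rfl⟩
  · -- scaling by the subfield
    let L : Subgroup Fˣ :=
      { carrier := {l | (l : F) ^ q = l}
        mul_mem' := fun {x y} hx hy => by
          change ((x * y : Fˣ) : F) ^ q = _
          rw [Units.val_mul, mul_pow, show (x : F) ^ q = x from hx, show (y : F) ^ q = y from hy]
        one_mem' := by change ((1 : Fˣ) : F) ^ q = _; rw [Units.val_one, one_pow]
        inv_mem' := fun {x} hx => by
          change ((x⁻¹ : Fˣ) : F) ^ q = _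
          rw [Units.val_inv_eq_inv_val, inv_pow, show (x : F) ^ q = x from hx] }
    have hparL : ∀ (l : L) {a b : F}, Par q a b →
        Par q (((l : Fˣ) : F) * a) (((l : Fˣ) : F) ^ 2 * b) := by
      intro l a b h
      have hl : ((l : Fˣ) : F) ^ q = (l : Fˣ) := l.2
      unfold Par at *
      rw [mul_pow, mul_pow, ← pow_mul, mul_comm 2 q, pow_mul, hl]
      linear_combination (((l : Fˣ) : F) ^ 2) * h
    let τ : L → U hF → U hF := fun l g => (equivPar hF).symm
      ⟨(((l : Fˣ) : F) * (equivPar hF g).1.1, ((l : Fˣ) : F) ^ 2 * (equivPar hF g).1.2),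
        hparL l (equivPar hF g).2⟩
    have hτ : ∀ (l : L) {a b : F} (h : Par q a b),
        τ l ⟨uel hF h, a, b, h, rfl⟩ = ⟨uel hF (hparL l h), _, _, hparL l h, rfl⟩ := by
      intro l a b h
      refine Subtype.ext (Subtype.ext (Subtype.ext ?_))
      simp [τ, equivPar, uel_val, um]
    have hτmul : ∀ (l : L) (g g' : U hF), τ l (g * g') = τ l g * τ l g' := by
      intro l g g'
      obtain ⟨a, b, h, rfl⟩ := mem_U hF (g := g)
      obtain ⟨a', b', h', rfl⟩ := mem_U hF (g := g')
      rw [mul_eq, hτ, hτ, hτ, mul_eq]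
      refine Subtype.ext (Subtype.ext (Subtype.ext ?_))
      have hl : ((l : Fˣ) : F) ^ q = (l : Fˣ) := l.2
      rw [uel_val, uel_val]
      congr 1
      · ring
      · rw [mul_pow, hl]; ring
    have hτcomp : ∀ (l l' : L) (g : U hF), τ (l * l') g = τ l (τ l' g) := by
      intro l l' g
      obtain ⟨a, b, h, rfl⟩ := mem_U hF (g := g)
      rw [hτ, hτ, hτ]
      refine Subtype.ext (Subtype.ext (Subtype.ext ?_))
      rw [uel_val, uel_val, Subgroup.coe_mul, Units.val_mul]
      congr 1 <;> ring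
    have hτone : ∀ g, τ 1 g = g := by
      intro g
      obtain ⟨a, b, h, rfl⟩ := mem_U hF (g := g)
      rw [hτ]
      refine Subtype.ext (Subtype.ext (Subtype.ext ?_))
      rw [uel_val, uel_val, Subgroup.coe_one, Units.val_one]
      congr 1 <;> ring
    let Φ : L →* MulAut (U hF) :=
      { toFun := fun l =>
          { toFun := τ l
            invFun := τ l⁻¹
            left_inv := fun g => by rw [← hτcomp, inv_mul_cancel, hτone]
            right_inv := fun g => by rw [← hτcomp, mul_inv_cancel, hτone]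
            map_mul' := hτmul l }
        map_one' := MulEquiv.ext hτone
        map_mul' := fun l l' => MulEquiv.ext (hτcomp l l') }
    haveI : IsCyclic L := inferInstance
    refine ⟨Φ.range, isCyclic_of_surjective Φ.rangeRestrict Φ.rangeRestrict_surjective, ?_⟩
    intro x y hx1 hx2 hy1 hy2
    obtain ⟨a, b, h, rfl⟩ := mem_U hF (g := x)
    obtain ⟨a', b', h', rfl⟩ := mem_U hF (g := y)
    obtain rfl := (invol_iff hF).mp hx2
    obtain rfl := (invol_iff hF).mp hy2
    have hb : b ≠ 0 := fun e => hx1 ((one_eq hF _ rfl).mpr ⟨rfl, e⟩)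
    have hb' : b' ≠ 0 := fun e => hy1 ((one_eq hF _ rfl).mpr ⟨rfl, e⟩)
    have hbq : b ^ q = b := by
      have e : b ^ q + b = (0 : F) ^ q * 0 := h
      rw [mul_zero] at e
      exact CharTwo.add_eq_zero.mp e
    have hbq' : b' ^ q = b' := by
      have e : b' ^ q + b' = (0 : F) ^ q * 0 := h'
      rw [mul_zero] at e
      exact CharTwo.add_eq_zero.mp e
    -- the square root of `b' / b`
    obtain ⟨r, hr⟩ : ∃ r : F, r ^ 2 = b' / b := by
      haveI : PerfectRing F 2 := inferInstance
      obtain ⟨r, hr⟩ := surjective_frobenius F 2 (b' / b)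
      exact ⟨r, hr⟩
    have hr0 : r ≠ 0 := fun e => by
      rw [e, zero_pow two_ne_zero] at hr
      exact div_ne_zero hb' hb hr.symm
    have hrq : r ^ q = r := CharTwo.sq_injective (by
      change (r ^ q) ^ 2 = r ^ 2
      rw [← pow_mul, mul_comm, pow_mul, hr, div_pow, hbq, hbq'])
    let l : L := ⟨Units.mk0 r hr0, hrq⟩
    refine ⟨⟨Φ l, l, rfl⟩, ?_, ?_⟩
    · change τ l ⟨uel hF h, 0, b, h, rfl⟩ = _
      rw [hτ]
      refine Subtype.ext (Subtype.ext (Subtype.ext ?_))
      rw [uel_val, uel_val]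
      simp only [l, Units.val_mk0, mul_zero, hr, div_mul_cancel₀ _ hb]
    · rintro ⟨_, l', rfl⟩ e
      change τ l' ⟨uel hF h, 0, b, h, rfl⟩ = _ at e
      rw [hτ] at e
      have e2 := (uel_inj' hF e).2
      have e3 : ((l' : Fˣ) : F) = r := CharTwo.sq_injective (by
        change ((l' : Fˣ) : F) ^ 2 = r ^ 2
        rw [hr, eq_div_iff hb, e2])
      exact Subtype.ext (congrArg Φ (Subtype.ext (Units.ext e3)))

end

/-- Let `q = 2^n ≥ 4` and `|F| = q²`. A Sylow 2-subgroup `S` of `PSU₃(q)` has order `q³`, its centre has order `q`, and `S` is a Suzuki 2-group. -/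
theorem result {F : Type*} [Field F] [Fintype F] {n : ℕ} (hn : 2 ≤ n)
    (hF : Fintype.card F = (2 ^ n) ^ 2) (S : Sylow 2 (Cfsg.PSU 3 F (2 ^ n))) :
    Nat.card S = (2 ^ n) ^ 3 ∧ Nat.card (Subgroup.center ↥(S : Subgroup (Cfsg.PSU 3 F (2 ^ n)))) = 2 ^ n ∧
      Cfsg.IsSuzukiTwoGroup ↥(S : Subgroup (Cfsg.PSU 3 F (2 ^ n))) := by
  classical
  haveI : CharP F 2 := charTwo (by omega) hF
  haveI : Fact (Nat.Prime 2) := ⟨Nat.prime_two⟩
  have hqev : Even (2 ^ n) := (Nat.even_pow' (by omega)).mpr even_two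
  obtain ⟨m, hm⟩ := hqev
  have hq2 : 2 ≤ (2 ^ n) := le_trans (by norm_num) (Nat.pow_le_pow_right (show 0 < 2 by norm_num) (show 1 ≤ n by omega))
  have hgodd : ¬ 2 ∣ Nat.gcd 3 ((2 ^ n) + 1) := fun h => by
    have := h.trans (Nat.gcd_dvd_right 3 ((2 ^ n) + 1))
    omega
  have hcz : Nat.card (Subgroup.center (Cfsg.SU 3 F (2 ^ n))) = Nat.gcd 3 ((2 ^ n) + 1) := card_center_SU hF (by omega)
  let π := QuotientGroup.mk' (Subgroup.center (Cfsg.SU 3 F (2 ^ n)))
  let f : U hF →* Cfsg.PSU 3 F (2 ^ n) := π.comp (U hF).subtype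
  have hfinj : Function.Injective f := by
    rw [injective_iff_map_eq_one]
    intro x hx
    have hxz : (x : Cfsg.SU 3 F (2 ^ n)) ∈ Subgroup.center (Cfsg.SU 3 F (2 ^ n)) :=
      (QuotientGroup.eq_one_iff _).mp hx
    have h1 : orderOf (x : Cfsg.SU 3 F (2 ^ n)) ∣ (2 ^ n) ^ 3 := by
      rw [Subgroup.orderOf_coe, ← card_U hF]
      exact orderOf_dvd_natCard x
    have h2 : orderOf (x : Cfsg.SU 3 F (2 ^ n)) ∣ Nat.gcd 3 ((2 ^ n) + 1) := by
      rw [← hcz]
      exact (Subgroup.center _).orderOf_dvd_natCard hxz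
    have h3 : orderOf (x : Cfsg.SU 3 F (2 ^ n)) = 1 := by
      refine Nat.eq_one_of_dvd_coprimes ?_ h1 h2
      rw [← pow_mul]
      exact (Nat.Coprime.pow_left _ ((Nat.Prime.coprime_iff_not_dvd Nat.prime_two).mpr hgodd))
    exact Subtype.ext (orderOf_eq_one_iff.mp h3)
  have hfc : Nat.card f.range = (2 ^ n) ^ 3 := by
    rw [← card_U hF]
    exact (Nat.card_congr (MonoidHom.ofInjective hfinj).toEquiv).symm
  haveI : Finite (Cfsg.PSU 3 F (2 ^ n)) := inferInstance
  have hfac : (Nat.card (Cfsg.PSU 3 F (2 ^ n))).factorization 2 = n * 3 := by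
    have h := card_center_mul_card_PSU hF (n := 3) (by omega)
    rw [card_GU hF 3, Finset.prod_range_succ, Finset.prod_range_succ, Finset.prod_range_one] at h
    simp only [show Even 0 from Even.zero, show ¬ Even 1 from Nat.not_even_one, show Even 2 from even_two,
      if_true, if_false, zero_add, show 3 * (3 - 1) / 2 = 3 from rfl, show 1 + 1 = 2 from rfl,
      show 2 + 1 = 3 from rfl, pow_one] at h
    set N := Nat.card (Cfsg.PSU 3 F (2 ^ n)) with hN
    set g := Nat.gcd 3 ((2 ^ n) + 1)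
    have hN0 : N ≠ 0 := Nat.card_pos.ne'
    have hodd1 : ¬ 2 ∣ g * ((2 ^ n) + 1) := by
      rw [Nat.prime_two.dvd_mul]
      rintro (h1 | h1)
      · exact hgodd h1
      · omega
    have hodd2 : ¬ 2 ∣ ((2 ^ n) + 1) * ((2 ^ n) ^ 2 - 1) * ((2 ^ n) ^ 3 + 1) := by
      have a1 : Even ((2 ^ n) ^ 2) := (Nat.even_pow' two_ne_zero).mpr ⟨m, hm⟩
      have a2 : Even ((2 ^ n) ^ 3) := (Nat.even_pow' (by omega)).mpr ⟨m, hm⟩
      have a3 : 1 ≤ (2 ^ n) ^ 2 := Nat.one_le_pow _ _ (by omega)
      rw [even_iff_two_dvd] at a1 a2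
      rw [Nat.prime_two.dvd_mul, Nat.prime_two.dvd_mul]
      rintro ((h1 | h1) | h1) <;> omega
    have e : (g * ((2 ^ n) + 1) * N).factorization 2 =
        ((2 ^ n) ^ 3 * (((2 ^ n) + 1) * ((2 ^ n) ^ 2 - 1) * ((2 ^ n) ^ 3 + 1))).factorization 2 := by rw [mul_assoc, h]
    rw [Nat.factorization_mul (by intro h0; exact hodd1 (h0 ▸ dvd_zero 2)) hN0,
      Nat.factorization_mul (pow_ne_zero _ (by omega)) (by intro h0; exact hodd2 (h0 ▸ dvd_zero 2)),
      Finsupp.add_apply, Finsupp.add_apply, Nat.factorization_eq_zero_of_not_dvd hodd1,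
      Nat.factorization_eq_zero_of_not_dvd hodd2, zero_add, add_zero] at e
    rw [e, ← pow_mul, Nat.Prime.factorization_pow Nat.prime_two, Finsupp.single_eq_same]
  let T : Sylow 2 (Cfsg.PSU 3 F (2 ^ n)) := Sylow.ofCard f.range (by rw [hfc, hfac, ← pow_mul])
  let e : U hF ≃* ↥(S : Subgroup (Cfsg.PSU 3 F (2 ^ n))) :=
    (MonoidHom.ofInjective hfinj).trans (T.equiv S)
  refine ⟨?_, ?_, ?_⟩
  · exact (Nat.card_congr e.toEquiv).symm.trans (card_U hF)
  · exact (Nat.card_congr (Subgroup.centerCongr e).toEquiv).symm.trans (card_center hF hn)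
  · obtain ⟨hfin, hp, ⟨x, y, hxy⟩, ⟨a, b, hab, ha, ha2, hb, hb2⟩, K, hK, hreg⟩ := isSuzuki hF hn
    refine ⟨inferInstance, hp.of_equiv e, ⟨e x, e y, fun h => hxy (e.injective (by simpa using h))⟩,
      ⟨e a, e b, e.injective.ne hab, by simpa using ha, by rw [← map_mul, ha2, map_one], by simpa using hb,
        by rw [← map_mul, hb2, map_one]⟩, K.map (MulAut.congr e).toMonoidHom, ?_, ?_⟩
    · haveI := hK
      exact isCyclic_of_surjective (K.equivMapOfInjective (MulAut.congr e).toMonoidHom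
        (MulAut.congr e).injective).toMonoidHom
        (K.equivMapOfInjective (MulAut.congr e).toMonoidHom (MulAut.congr e).injective).surjective
    · intro u v hu hu2 hv hv2
      obtain ⟨u, rfl⟩ := e.surjective u
      obtain ⟨v, rfl⟩ := e.surjective v
      obtain ⟨k, hk, huniq⟩ := hreg u v (fun h => hu (by rw [h, map_one]))
        (e.injective (by rw [map_mul, map_one]; exact hu2)) (fun h => hv (by rw [h, map_one]))
        (e.injective (by rw [map_mul, map_one]; exact hv2))
      refine ⟨⟨MulAut.congr e k, k, k.2, rfl⟩, ?_, ?_⟩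
      · change e ((k : MulAut (U hF)) (e.symm (e u))) = e v
        rw [MulEquiv.symm_apply_apply]
        exact congrArg e hk
      · rintro ⟨_, k', hk', rfl⟩ h
        change e (k' (e.symm (e u))) = e v at h
        rw [MulEquiv.symm_apply_apply] at h
        exact Subtype.ext (congrArg (MulAut.congr e) (congrArg Subtype.val (huniq ⟨k', hk'⟩ (e.injective h))))

end Cfsg.Agent.S1141
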