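import Cfsg.Statements.S5908
import Cfsg.Agent.Lib.Classical.HermCard
import Cfsg.Agent.S1141
import Mathlib.Algebra.CharP.Algebra
import Mathlib.GroupTheory.Sylow

set_option autoImplicit false
open Cfsg

namespace Cfsg.Agent.S5908

open Cfsg.Agent.Lib.Classical
open scoped Matrix

section

variable {F : Type*} [Field F] [Fintype F]

/-- Every row has at most one nonzero entry. -/
def Mono (g : Matrix (Fin 3) (Fin 3) F) : Prop := ∀ i j k, g i j ≠ 0 → g i k ≠ 0 → j = k

omit [Fintype F] in
theorem mono_mul {g h : Matrix (Fin 3) (Fin 3) F} (hg : Mono g) (hh : Mono h) : Mono (g * h) := by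
  intro i j k hj hk
  rw [Matrix.mul_apply] at hj hk
  obtain ⟨l, -, hl⟩ := Finset.exists_ne_zero_of_sum_ne_zero hj
  obtain ⟨l', -, hl'⟩ := Finset.exists_ne_zero_of_sum_ne_zero hk
  obtain rfl := hg i l l' (left_ne_zero_of_mul hl) (left_ne_zero_of_mul hl')
  exact hh l j k (right_ne_zero_of_mul hl) (right_ne_zero_of_mul hl')

/-- The monomial subgroup. -/
def monoSub : Subgroup (SU 3 F 2) :=
  letI : Finite (SU 3 F 2) := inferInstance
  { carrier := {g | Mono (g.1 : Matrix (Fin 3) (Fin 3) F)}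
    mul_mem' := fun {a b} ha hb => mono_mul ha hb
    one_mem' := fun i j k hj hk => by
      have e1 : i = j := by
        by_contra h
        exact hj (Matrix.one_apply_ne h)
      have e2 : i = k := by
        by_contra h
        exact hk (Matrix.one_apply_ne h)
      exact e1.symm.trans e2
    inv_mem' := fun {a} ha => by
      have hpow : ∀ n : ℕ, Mono ((a ^ n).1 : Matrix (Fin 3) (Fin 3) F) := by
        intro n
        induction n with
        | zero =>
          intro i j k hj hk
          have e1 : i = j := by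
            by_contra h
            exact hj (Matrix.one_apply_ne h)
          have e2 : i = k := by
            by_contra h
            exact hk (Matrix.one_apply_ne h)
          exact e1.symm.trans e2
        | succ n ih =>
          rw [pow_succ]
          exact mono_mul ih ha
      have e : a⁻¹ = a ^ (orderOf a - 1) := by
        refine inv_eq_of_mul_eq_one_right ?_
        rw [← pow_succ', Nat.sub_add_cancel (orderOf_pos a), pow_orderOf_eq_one]
      show Mono ((a⁻¹).1 : Matrix (Fin 3) (Fin 3) F)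
      rw [e]
      exact hpow _ }

variable (hF : Fintype.card F = 4)
include hF

theorem cube (x : F) (hx : x ≠ 0) : x ^ 3 = 1 := by
  have h := FiniteField.pow_card_sub_one_eq_one x hx
  rwa [hF] at h

theorem two0 : (2 : F) = 0 := by
  have h := FiniteField.cast_card_eq_zero F
  rw [hF] at h
  have h4 : (2 : F) * 2 = 0 := by norm_num; exact_mod_cast h
  rcases mul_eq_zero.1 h4 with h | h <;> exact h

/-- A matrix with `Mᵀ * conj M = 1` as an element of the special unitary group. -/
theorem mem_su (M : Matrix.SpecialLinearGroup (Fin 3) F)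
    (h : ∀ i k : Fin 3, ∑ r, (M : Matrix (Fin 3) (Fin 3) F) r i * ((M : Matrix (Fin 3) (Fin 3) F) r k) ^ 2 =
      if i = k then 1 else 0) : M ∈ SU 3 F 2 := by
  have hF' : Fintype.card F = 2 ^ 2 := hF
  refine (mem_SU_iff hF' M).mpr ?_
  ext i k
  rw [transpose_mul_map_apply hF', Matrix.one_apply]
  exact h i k

theorem su_entry (g : SU 3 F 2) (i k : Fin 3) :
    ∑ r, (g.1 : Matrix (Fin 3) (Fin 3) F) r i * ((g.1 : Matrix (Fin 3) (Fin 3) F) r k) ^ 2 =
      if i = k then 1 else 0 := by
  have hF' : Fintype.card F = 2 ^ 2 := hF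
  have h := congrFun (congrFun ((mem_SU_iff hF' g.1).mp g.2) i) k
  rw [transpose_mul_map_apply hF', Matrix.one_apply] at h
  exact h

theorem invol_mono (y : SU 3 F 2) (hy : y * y = 1) : y ∈ monoSub (F := F) := by
  have hF' : Fintype.card F = 2 ^ 2 := hF
  set A := (y.1 : Matrix (Fin 3) (Fin 3) F) with hA
  have hyy : A * A = 1 := congrArg (fun z : SU 3 F 2 => (z.1 : Matrix (Fin 3) (Fin 3) F)) hy
  have hu : Aᵀ * A.map (conjHom hF') = 1 := (mem_SU_iff hF' y.1).mp y.2
  have hherm : ∀ i j, (A i j) ^ 2 = A j i := by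
    intro i j
    have e : A.map (conjHom hF') = Aᵀ := by
      calc A.map (conjHom hF') = (Aᵀ * Aᵀ) * A.map (conjHom hF') := by
            rw [← Matrix.transpose_mul, hyy, Matrix.transpose_one, Matrix.one_mul]
        _ = Aᵀ := by rw [Matrix.mul_assoc, hu, Matrix.mul_one]
    have := congrFun (congrFun e i) j
    simpa [conjHom_apply] using this
  have h2 := two0 hF
  have c3 := cube hF
  have hd : ∀ i, A i i = 0 ∨ A i i = 1 := by
    intro i
    have h : A i i * (A i i - 1) = 0 := by linear_combination hherm i i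
    rcases mul_eq_zero.1 h with h | h
    · exact Or.inl h
    · exact Or.inr (sub_eq_zero.1 h)
  have e : ∀ i j, A i 0 * A 0 j + A i 1 * A 1 j + A i 2 * A 2 j = if i = j then 1 else 0 := by
    intro i j
    have h := congrFun (congrFun hyy i) j
    rwa [Matrix.mul_apply, Fin.sum_univ_three, Matrix.one_apply] at h
  set a := A 0 1
  set b := A 0 2
  set c := A 1 2
  have ha' : A 1 0 = a ^ 2 := (hherm 0 1).symm
  have hb' : A 2 0 = b ^ 2 := (hherm 0 2).symm
  have hc' : A 2 1 = c ^ 2 := (hherm 1 2).symm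
  have e01 : A 0 0 * a + a * A 1 1 + b * c ^ 2 = 0 := by simpa [hc'] using e 0 1
  have e02 : A 0 0 * b + a * c + b * A 2 2 = 0 := by simpa using e 0 2
  have e12 : a ^ 2 * b + A 1 1 * c + c * A 2 2 = 0 := by simpa [ha'] using e 1 2
  have e00 : A 0 0 * A 0 0 + a ^ 3 + b ^ 3 = 1 := by
    have := e 0 0
    rw [ha', hb'] at this
    simp only [if_true] at this
    linear_combination this
  have e11 : a ^ 3 + A 1 1 * A 1 1 + c ^ 3 = 1 := by
    have := e 1 1
    rw [ha', hc'] at this
    simp only [if_true] at this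
    linear_combination this
  have e22 : b ^ 3 + c ^ 3 + A 2 2 * A 2 2 = 1 := by
    have := e 2 2
    rw [hb', hc'] at this
    simp only [if_true] at this
    linear_combination this
  have h11 : (1 : F) + 1 = 0 := by linear_combination h2
  have nab : a = 0 ∨ b = 0 ∨ c ≠ 0 := by
    by_contra hh
    push Not at hh
    obtain ⟨ha, hb, hc⟩ := hh
    exact mul_ne_zero (pow_ne_zero 2 ha) hb (by rw [hc] at e12; linear_combination e12)
  have nac : a = 0 ∨ c = 0 ∨ b ≠ 0 := by
    by_contra hh
    push Not at hh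
    obtain ⟨ha, hc, hb⟩ := hh
    exact mul_ne_zero ha hc (by rw [hb] at e02; linear_combination e02)
  have nbc : b = 0 ∨ c = 0 ∨ a ≠ 0 := by
    by_contra hh
    push Not at hh
    obtain ⟨hb, hc, ha⟩ := hh
    exact mul_ne_zero hb (pow_ne_zero 2 hc) (by rw [ha] at e01; linear_combination e01)
  have nabc : ¬ (a ≠ 0 ∧ b ≠ 0 ∧ c ≠ 0) := by
    rintro ⟨ha, hb, hc⟩
    rcases hd 0 with d0 | d0
    · rw [d0, c3 a ha, c3 b hb] at e00
      exact one_ne_zero (show (1 : F) = 0 by linear_combination h11 - e00)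
    rcases hd 1 with d1 | d1
    · rw [d1, c3 a ha, c3 c hc] at e11
      exact one_ne_zero (show (1 : F) = 0 by linear_combination h11 - e11)
    rw [d0, d1] at e01
    exact mul_ne_zero hb (pow_ne_zero 2 hc) (by linear_combination e01 - a * h11)
  -- at most one of `a, b, c` is nonzero
  have one3 : (a = 0 ∧ b = 0) ∨ (a = 0 ∧ c = 0) ∨ (b = 0 ∧ c = 0) := by tauto
  have sq0 : ∀ x : F, x * x = 0 → x = 0 := fun x h => (mul_eq_zero.1 h).elim id id
  show Mono A
  intro i j k hij hik
  rcases one3 with ⟨za, zb⟩ | ⟨za, zc⟩ | ⟨zb, zc⟩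
  · have ha0 : A 1 0 = 0 := by rw [ha', za]; simp
    have hb0 : A 2 0 = 0 := by rw [hb', zb]; simp
    by_cases zc : c = 0
    · have hc0 : A 2 1 = 0 := by rw [hc', zc]; simp
      fin_cases i <;> fin_cases j <;> fin_cases k <;> first | exact (rfl) | exact absurd za hij | exact absurd zb hij | exact absurd ha0 hij | exact absurd hb0 hij | exact absurd zc hij | exact absurd hc0 hij | exact absurd za hik | exact absurd zb hik | exact absurd ha0 hik | exact absurd hb0 hik | exact absurd zc hik | exact absurd hc0 hik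
    · have k1 : A 1 1 = 0 := sq0 _ (by rw [za, c3 c zc] at e11; linear_combination e11)
      have k2 : A 2 2 = 0 := sq0 _ (by rw [zb, c3 c zc] at e22; linear_combination e22)
      fin_cases i <;> fin_cases j <;> fin_cases k <;> first | exact (rfl) | exact absurd za hij | exact absurd zb hij | exact absurd ha0 hij | exact absurd hb0 hij | exact absurd k1 hij | exact absurd k2 hij | exact absurd za hik | exact absurd zb hik | exact absurd ha0 hik | exact absurd hb0 hik | exact absurd k1 hik | exact absurd k2 hik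
  · have ha0 : A 1 0 = 0 := by rw [ha', za]; simp
    have hc0 : A 2 1 = 0 := by rw [hc', zc]; simp
    by_cases zb : b = 0
    · have hb0 : A 2 0 = 0 := by rw [hb', zb]; simp
      fin_cases i <;> fin_cases j <;> fin_cases k <;> first | exact (rfl) | exact absurd za hij | exact absurd zc hij | exact absurd ha0 hij | exact absurd hc0 hij | exact absurd zb hij | exact absurd hb0 hij | exact absurd za hik | exact absurd zc hik | exact absurd ha0 hik | exact absurd hc0 hik | exact absurd zb hik | exact absurd hb0 hik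
    · have k1 : A 0 0 = 0 := sq0 _ (by rw [za, c3 b zb] at e00; linear_combination e00)
      have k2 : A 2 2 = 0 := sq0 _ (by rw [zc, c3 b zb] at e22; linear_combination e22)
      fin_cases i <;> fin_cases j <;> fin_cases k <;> first | exact (rfl) | exact absurd za hij | exact absurd zc hij | exact absurd ha0 hij | exact absurd hc0 hij | exact absurd k1 hij | exact absurd k2 hij | exact absurd za hik | exact absurd zc hik | exact absurd ha0 hik | exact absurd hc0 hik | exact absurd k1 hik | exact absurd k2 hik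
  · have hb0 : A 2 0 = 0 := by rw [hb', zb]; simp
    have hc0 : A 2 1 = 0 := by rw [hc', zc]; simp
    by_cases za : a = 0
    · have ha0 : A 1 0 = 0 := by rw [ha', za]; simp
      fin_cases i <;> fin_cases j <;> fin_cases k <;> first | exact (rfl) | exact absurd zb hij | exact absurd zc hij | exact absurd hb0 hij | exact absurd hc0 hij | exact absurd za hij | exact absurd ha0 hij | exact absurd zb hik | exact absurd zc hik | exact absurd hb0 hik | exact absurd hc0 hik | exact absurd za hik | exact absurd ha0 hik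
    · have k1 : A 0 0 = 0 := sq0 _ (by rw [zb, c3 a za] at e00; linear_combination e00)
      have k2 : A 1 1 = 0 := sq0 _ (by rw [zc, c3 a za] at e11; linear_combination e11)
      fin_cases i <;> fin_cases j <;> fin_cases k <;> first | exact (rfl) | exact absurd zb hij | exact absurd zc hij | exact absurd hb0 hij | exact absurd hc0 hij | exact absurd k1 hij | exact absurd k2 hij | exact absurd zb hik | exact absurd zc hik | exact absurd hb0 hik | exact absurd hc0 hik | exact absurd k1 hik | exact absurd k2 hik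

/-- The diagonal elements. -/
def dg : Fˣ × Fˣ →* SU 3 F 2 where
  toFun p := ⟨⟨Matrix.diagonal ![(p.1 : F), (p.1⁻¹ * p.2 : Fˣ), (p.2⁻¹ : Fˣ)], by
      rw [Matrix.det_diagonal, Fin.prod_univ_three]
      simp⟩, by
    refine mem_su hF _ fun i k => ?_
    fin_cases i <;> fin_cases k <;>
      simp [Fin.sum_univ_three, ← pow_succ', mul_pow, mul_mul_mul_comm, cube hF, inv_pow]⟩
  map_one' := by
    apply Subtype.ext; apply Subtype.ext
    show Matrix.diagonal _ = (1 : Matrix (Fin 3) (Fin 3) F)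
    ext i j
    fin_cases i <;> fin_cases j <;> simp
  map_mul' p q := by
    apply Subtype.ext; apply Subtype.ext
    show Matrix.diagonal _ = Matrix.diagonal _ * (Matrix.diagonal _ : Matrix (Fin 3) (Fin 3) F)
    rw [Matrix.diagonal_mul_diagonal]
    congr 1
    funext i
    fin_cases i <;> simp <;> ring

/-- The swaps of the first two coordinates. -/
def t01 (u : Fˣ) : SU 3 F 2 :=
  ⟨⟨!![0, (u : F), 0; ((u⁻¹ : Fˣ) : F), 0, 0; 0, 0, 1], by
      have h2 := two0 hF
      rw [Matrix.det_fin_three]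
      simp
      linear_combination -h2⟩, by
    refine mem_su hF _ fun i k => ?_
    fin_cases i <;> fin_cases k <;> simp [Fin.sum_univ_three, ← pow_succ', cube hF, inv_pow]⟩

/-- The swaps of the last two coordinates. -/
def t12 (u : Fˣ) : SU 3 F 2 :=
  ⟨⟨!![1, 0, 0; 0, 0, (u : F); 0, ((u⁻¹ : Fˣ) : F), 0], by
      have h2 := two0 hF
      rw [Matrix.det_fin_three]
      simp
      linear_combination -h2⟩, by
    refine mem_su hF _ fun i k => ?_
    fin_cases i <;> fin_cases k <;> simp [Fin.sum_univ_three, ← pow_succ', cube hF, inv_pow]⟩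

theorem t01_sq (u : Fˣ) : t01 hF u * t01 hF u = 1 := by
  apply Subtype.ext; apply Subtype.ext
  show !![0, (u : F), 0; ((u⁻¹ : Fˣ) : F), 0, 0; 0, 0, 1] * !![0, (u : F), 0; ((u⁻¹ : Fˣ) : F), 0, 0; 0, 0, 1] =
    (1 : Matrix (Fin 3) (Fin 3) F)
  ext i j
  fin_cases i <;> fin_cases j <;> simp [Matrix.mul_apply, Fin.sum_univ_three]

theorem t12_sq (u : Fˣ) : t12 hF u * t12 hF u = 1 := by
  apply Subtype.ext; apply Subtype.ext
  show !![1, 0, 0; 0, 0, (u : F); 0, ((u⁻¹ : Fˣ) : F), 0] * !![1, 0, 0; 0, 0, (u : F); 0, ((u⁻¹ : Fˣ) : F), 0] =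
    (1 : Matrix (Fin 3) (Fin 3) F)
  ext i j
  fin_cases i <;> fin_cases j <;> simp [Matrix.mul_apply, Fin.sum_univ_three]

/-- A subgroup of monomial elements containing all elements of order dividing two or nine. -/
theorem key : ∃ N : Subgroup (SU 3 F 2), N ≤ monoSub (F := F) ∧ (∀ y, y * y = 1 → y ∈ N) ∧
    ∀ x, x ^ 9 = 1 → x ∈ N := by
  have hF' : Fintype.card F = 2 ^ 2 := hF
  haveI : Fact (Nat.Prime 3) := ⟨Nat.prime_three⟩
  haveI : Finite (SU 3 F 2) := inferInstance
  set N := Subgroup.closure {y : SU 3 F 2 | y * y = 1} with hN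
  have hNm : N ≤ monoSub (F := F) := (Subgroup.closure_le _).2 fun y hy => invol_mono hF y hy
  haveI hNn : N.Normal := by
    refine ⟨fun x hx g => ?_⟩
    induction hx using Subgroup.closure_induction with
    | mem y hy =>
      refine Subgroup.subset_closure ?_
      show g * y * g⁻¹ * (g * y * g⁻¹) = 1
      rw [show g * y * g⁻¹ * (g * y * g⁻¹) = g * (y * y) * g⁻¹ by group, hy, mul_one, mul_inv_cancel]
    | one => simp [Subgroup.one_mem]
    | mul a b _ _ ha hb =>
      rw [show g * (a * b) * g⁻¹ = (g * a * g⁻¹) * (g * b * g⁻¹) by group]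
      exact mul_mem ha hb
    | inv a _ ha =>
      rw [show g * a⁻¹ * g⁻¹ = (g * a * g⁻¹)⁻¹ by group]
      exact inv_mem ha
  set s : SU 3 F 2 := t01 hF 1 * t12 hF 1 with hs
  set D := (dg hF).range with hD
  have m1 : ∀ u, t01 hF u ∈ N := fun u => Subgroup.subset_closure (t01_sq hF u)
  have m2 : ∀ u, t12 hF u ∈ N := fun u => Subgroup.subset_closure (t12_sq hF u)
  have hsN : s ∈ N := mul_mem (m1 1) (m2 1)
  have hDN : D ≤ N := by
    rintro _ ⟨⟨u, v⟩, rfl⟩
    have e : dg hF (u, v) = t01 hF u * t01 hF 1 * (t12 hF v * t12 hF 1) := by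
      apply Subtype.ext; apply Subtype.ext
      show Matrix.diagonal _ = !![0, (u : F), 0; ((u⁻¹ : Fˣ) : F), 0, 0; 0, 0, 1] *
          !![0, ((1 : Fˣ) : F), 0; (((1 : Fˣ)⁻¹ : Fˣ) : F), 0, 0; 0, 0, 1] *
        (!![1, 0, 0; 0, 0, (v : F); 0, ((v⁻¹ : Fˣ) : F), 0] *
          !![1, 0, 0; 0, 0, ((1 : Fˣ) : F); 0, (((1 : Fˣ)⁻¹ : Fˣ) : F), 0])
      ext i j
      fin_cases i <;> fin_cases j <;> simp [Matrix.mul_apply, Fin.sum_univ_three]
    rw [e]
    exact mul_mem (mul_mem (m1 u) (m1 1)) (mul_mem (m2 v) (m2 1))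
  have hDcard : Nat.card D = 9 := by
    rw [← Nat.card_congr (MonoidHom.ofInjective (f := dg hF) (fun p q h => ?_)).toEquiv]
    · rw [Nat.card_prod, Nat.card_units, Nat.card_eq_fintype_card, hF]
    · have h0 := congrArg (fun z : SU 3 F 2 => (z.1 : Matrix (Fin 3) (Fin 3) F) 0 0) h
      have h2 := congrArg (fun z : SU 3 F 2 => (z.1 : Matrix (Fin 3) (Fin 3) F) 2 2) h
      simp [dg] at h0 h2
      exact Prod.ext (Units.ext h0) (Units.ext h2)
  have hD3 : IsPGroup 3 D := IsPGroup.of_card (n := 2) (by rw [hDcard]; norm_num)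
  have hnorm : Subgroup.zpowers s ≤ Subgroup.normalizer (D : Set (SU 3 F 2)) := by
    rw [Subgroup.zpowers_le]
    have hsub : D ≤ D.comap (MulAut.conj s).toMonoidHom := by
      rintro _ ⟨⟨u, v⟩, rfl⟩
      refine ⟨(v⁻¹, u * v⁻¹), ?_⟩
      show dg hF (v⁻¹, u * v⁻¹) = s * dg hF (u, v) * s⁻¹
      rw [eq_mul_inv_iff_mul_eq, hs]
      apply Subtype.ext; apply Subtype.ext
      show Matrix.diagonal _ * (!![0, ((1 : Fˣ) : F), 0; (((1 : Fˣ)⁻¹ : Fˣ) : F), 0, 0; 0, 0, 1] *
          !![1, 0, 0; 0, 0, ((1 : Fˣ) : F); 0, (((1 : Fˣ)⁻¹ : Fˣ) : F), 0]) =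
        (!![0, ((1 : Fˣ) : F), 0; (((1 : Fˣ)⁻¹ : Fˣ) : F), 0, 0; 0, 0, 1] *
          !![1, 0, 0; 0, 0, ((1 : Fˣ) : F); 0, (((1 : Fˣ)⁻¹ : Fˣ) : F), 0]) * Matrix.diagonal _
      ext i j
      fin_cases i <;> fin_cases j <;> simp [Matrix.mul_apply, Fin.sum_univ_three] <;> field_simp
    rw [Subgroup.mem_normalizer_iff]
    intro d
    refine ⟨fun hd => hsub hd, fun hd => ?_⟩
    have heq : D.map (MulAut.conj s).toMonoidHom = D := by
      refine Subgroup.eq_of_le_of_card_ge (Subgroup.map_le_iff_le_comap.2 hsub) (le_of_eq ?_)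
      exact Nat.card_congr (Subgroup.equivMapOfInjective D _ (MulAut.conj s).injective).toEquiv
    rw [← heq] at hd
    obtain ⟨d', hd', e⟩ := Subgroup.mem_map.1 hd
    exact (MulAut.conj s).injective e ▸ hd'
  have hs3 : s ^ 3 = 1 := by
    apply Subtype.ext; apply Subtype.ext
    show (!![0, ((1 : Fˣ) : F), 0; (((1 : Fˣ)⁻¹ : Fˣ) : F), 0, 0; 0, 0, 1] *
          !![1, 0, 0; 0, 0, ((1 : Fˣ) : F); 0, (((1 : Fˣ)⁻¹ : Fˣ) : F), 0]) ^ 3 = (1 : Matrix (Fin 3) (Fin 3) F)
    rw [pow_succ, pow_two]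
    ext i j
    fin_cases i <;> fin_cases j <;> simp [Matrix.mul_apply, Fin.sum_univ_three]
  have hsD : s ∉ D := by
    rintro ⟨⟨u, v⟩, h⟩
    have h' := congrArg (fun z : SU 3 F 2 => (z.1 : Matrix (Fin 3) (Fin 3) F) 0 0) h
    change Matrix.diagonal _ 0 0 = ((!![0, ((1 : Fˣ) : F), 0; (((1 : Fˣ)⁻¹ : Fˣ) : F), 0, 0; 0, 0, 1] : Matrix (Fin 3) (Fin 3) F) *
          !![1, 0, 0; 0, 0, ((1 : Fˣ) : F); 0, (((1 : Fˣ)⁻¹ : Fˣ) : F), 0]) 0 0 at h'
    simp [Matrix.mul_apply, Fin.sum_univ_three] at h'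
  have hz3 : IsPGroup 3 (Subgroup.zpowers s) := by
    refine IsPGroup.of_card (n := 1) ?_
    rw [Nat.card_zpowers, pow_one]
    exact orderOf_eq_prime hs3 fun h => hsD (h ▸ one_mem _)
  set P := Subgroup.zpowers s ⊔ D with hP
  have hP3 : IsPGroup 3 P := IsPGroup.to_sup_of_normal_right' hz3 hD3 hnorm
  obtain ⟨k, hk⟩ := IsPGroup.iff_card.1 hP3
  have hDP : D < P := lt_of_le_of_ne le_sup_right fun h => hsD (h ▸ le_sup_left (a := Subgroup.zpowers s) (Subgroup.mem_zpowers s))
  have hk3 : 3 ≤ k := by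
    have h : Nat.card D < Nat.card P := by
      by_contra hc
      exact hDP.ne (Subgroup.eq_of_le_of_card_ge hDP.le (not_lt.1 hc))
    rw [hDcard, hk] at h
    by_contra hc
    have : 3 ^ k ≤ 3 ^ 2 := Nat.pow_le_pow_right (by norm_num) (by omega)
    omega
  have hS : Nat.card (SU 3 F 2) = 216 := by
    have h := card_SU hF' (n := 3) (by norm_num)
    rw [card_GU hF' 3] at h
    simp [Finset.prod_range_succ, Nat.even_iff] at h
    omega
  have hidx : Nat.Coprime N.index 3 := by
    have h27 : 27 ∣ Nat.card N := by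
      refine dvd_trans ?_ (Subgroup.card_dvd_of_le (sup_le ((Subgroup.zpowers_le).2 hsN) hDN : P ≤ N))
      rw [hk]
      exact pow_dvd_pow 3 hk3
    obtain ⟨t, ht⟩ := h27
    have := N.card_mul_index
    rw [ht, hS] at this
    refine (Nat.coprime_or_dvd_of_prime Nat.prime_three N.index).elim (fun h => h.symm) fun h => ?_
    exfalso
    obtain ⟨r, hr⟩ := h
    rw [hr] at this
    have h81 : 81 ∣ 216 := ⟨t * r, by rw [← this]; ring⟩
    omega
  refine ⟨N, hNm, fun y hy => Subgroup.subset_closure hy, fun x hx => ?_⟩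
  rw [← QuotientGroup.eq_one_iff]
  set x' := (x : SU 3 F 2 ⧸ N)
  have h1 : x' ^ 9 = 1 := by rw [← QuotientGroup.mk_pow, hx, QuotientGroup.mk_one]
  have h2 : x' ^ N.index = 1 := by rw [Subgroup.index_eq_card]; exact pow_card_eq_one'
  have h3 : Nat.gcd N.index 9 = 1 := by
    have := Nat.Coprime.pow_right 2 hidx
    simpa using this
  have := pow_gcd_eq_one.2 ⟨h2, h1⟩
  rwa [h3, pow_one] at this

end

/-- The subgroup lattice of PSU₃(2) (the solvable group of order 72, realised over the field with 4 elements) is not complemented: some subgroup H has no subgroup X with H ⊔ X = ⊤ and H ⊓ X = ⊥. -/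
theorem result {F : Type*} [Field F] [Fintype F] (hF : Fintype.card F = 4) :
    ¬ ComplementedLattice (Subgroup (Cfsg.PSU 3 F 2)) := by
  classical
  intro hcl
  haveI := hcl
  obtain ⟨N, hNm, hN2, hN9⟩ := key hF
  have hF' : Fintype.card F = 2 ^ 2 := hF
  set π := QuotientGroup.mk' (Subgroup.center (SU 3 F 2)) with hπ
  set H := N.map π with hH
  have hz : ∀ z ∈ Subgroup.center (SU 3 F 2), z ^ 3 = 1 := by
    intro z hz
    have h := pow_card_eq_one' (x := (⟨z, hz⟩ : Subgroup.center (SU 3 F 2)))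
    rw [Cfsg.Agent.Lib.Classical.card_center_SU hF' (by norm_num : 1 ≤ 3)] at h
    simpa using congrArg Subtype.val h
  have hZN : Subgroup.center (SU 3 F 2) ≤ N := fun z hzc => hN9 z (by
    rw [show 9 = 3 * 3 from rfl, pow_mul, hz z hzc, one_pow])
  have hprime : ∀ x : Cfsg.PSU 3 F 2, (orderOf x).Prime → x ∈ H := by
    intro x hx
    have hd : orderOf x ∣ 72 := by
      have h := Cfsg.Agent.Lib.Classical.card_center_mul_card_PSU hF' (n := 3) (by omega)
      rw [Cfsg.Agent.Lib.Classical.card_GU hF' 3] at h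
      simp [Finset.prod_range_succ, Nat.even_iff] at h
      have hc : Nat.card (Cfsg.PSU 3 F 2) = 72 := by rw [Nat.card_eq_fintype_card]; omega
      rw [← hc]
      exact orderOf_dvd_natCard x
    have hp : orderOf x = 2 ∨ orderOf x = 3 := by
      rcases (Nat.Prime.dvd_mul hx).1 (show orderOf x ∣ 2 ^ 3 * 3 ^ 2 from hd) with h | h
      · exact Or.inl ((Nat.prime_dvd_prime_iff_eq hx Nat.prime_two).1 (hx.dvd_of_dvd_pow h))
      · exact Or.inr ((Nat.prime_dvd_prime_iff_eq hx Nat.prime_three).1 (hx.dvd_of_dvd_pow h))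
    obtain ⟨g, rfl⟩ := QuotientGroup.mk'_surjective (Subgroup.center (SU 3 F 2)) x
    have hpow : g ^ orderOf (π g) ∈ Subgroup.center (SU 3 F 2) := by
      rw [← QuotientGroup.eq_one_iff, QuotientGroup.mk_pow]
      exact pow_orderOf_eq_one (π g)
    have h1 := pow_orderOf_eq_one (π g)
    rcases hp with h | h
    · rw [show orderOf (π g) = 2 from h] at hpow h1
      refine ⟨g ^ 3, hN2 _ ?_, ?_⟩
      · rw [← pow_two, ← pow_mul, show 3 * 2 = 2 * 3 from rfl, pow_mul]
        exact hz _ hpow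
      · rw [map_pow, pow_succ, h1, one_mul]
    · rw [show orderOf (π g) = 3 from h] at hpow
      exact ⟨g, hN9 g (by rw [show 9 = 3 * 3 from rfl, pow_mul]; exact hz _ hpow), rfl⟩
  have hHtop : H ≠ ⊤ := by
    intro h
    obtain ⟨b, hb⟩ : ∃ b : F, b ^ 2 + b = 1 := by
      obtain ⟨b, hb0, hb1⟩ : ∃ b : F, b ≠ 0 ∧ b ≠ 1 := by
        by_contra hc
        push Not at hc
        have : (Finset.univ : Finset F).card ≤ ({0, 1} : Finset F).card := Finset.card_le_card fun z _ => by
          by_cases hz0 : z = 0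
          · simp [hz0]
          · simp [hc z hz0]
        have h3 : ({0, 1} : Finset F).card ≤ 2 := Finset.card_le_two
        rw [Finset.card_univ, hF] at this
        omega
      refine ⟨b, ?_⟩
      have h3 := cube hF b hb0
      have h : (b - 1) * (b ^ 2 + b + 1) = 0 := by linear_combination h3
      rcases mul_eq_zero.1 h with h | h
      · exact absurd (sub_eq_zero.1 h) hb1
      · linear_combination h - two0 hF
    haveI := Cfsg.Agent.S1141.charTwo (n := 1) le_rfl (F := F) (by rw [hF]; norm_num)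
    have hpar : Cfsg.Agent.S1141.Par (2 ^ 1) (1 : F) b := by
      unfold Cfsg.Agent.S1141.Par
      rw [pow_one, one_pow, one_mul]
      exact hb
    let g₀ : SU 3 F 2 := Cfsg.Agent.S1141.uel (n := 1) (by rw [hF]; norm_num) hpar
    have hg : π g₀ ∈ H := h ▸ Subgroup.mem_top _
    obtain ⟨m, hm, hmg⟩ := hg
    have : g₀ ∈ N := by
      have hz' : m⁻¹ * g₀ ∈ Subgroup.center (SU 3 F 2) := QuotientGroup.eq.1 hmg
      rw [show g₀ = m * (m⁻¹ * g₀) by group]
      exact mul_mem hm (hZN hz')
    have hmono := hNm this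
    have hb0 : b ≠ 0 := by rintro rfl; simp at hb
    exact absurd (hmono 2 0 1 (by simp [g₀, Cfsg.Agent.S1141.uel, Cfsg.Agent.S1141.um])
      (by simp [g₀, Cfsg.Agent.S1141.uel, Cfsg.Agent.S1141.um])) (by decide)
  obtain ⟨K, hK⟩ := exists_isCompl H
  refine hHtop ?_
  have hKbot : K = ⊥ := by
    rw [Subgroup.eq_bot_iff_forall]
    by_contra hc
    push Not at hc
    obtain ⟨k, hk, hk1⟩ := hc
    haveI : Finite (Cfsg.PSU 3 F 2) := inferInstance
    have hn1 : orderOf k ≠ 1 := fun h => hk1 (orderOf_eq_one_iff.1 h)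
    obtain ⟨p, hp, hpd⟩ := Nat.exists_prime_and_dvd hn1
    have ho : orderOf (k ^ (orderOf k / p)) = p := orderOf_pow_orderOf_div (orderOf_pos k).ne' hpd
    have h2 : k ^ (orderOf k / p) ∈ H ⊓ K := ⟨hprime _ (by rw [ho]; exact hp), pow_mem hk _⟩
    rw [hK.inf_eq_bot, Subgroup.mem_bot] at h2
    rw [h2, orderOf_one] at ho
    exact hp.one_lt.ne ho
  rw [← hK.sup_eq_top, hKbot, sup_bot_eq]

end Cfsg.Agent.S5908
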