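import Mathlib
import Cfsg.Statements.S0827
import Cfsg.Agent.S5908
import Cfsg.Agent.S0282
import Cfsg.Agent.Lib.Frobenius.UniqueSubgroup

set_option autoImplicit false
open Cfsg

namespace Cfsg.Agent.S0827

open Cfsg.Agent.Lib.Classical
open Cfsg.Agent.S5908 (monoSub Mono key two0 cube mem_su dg t01 t12)

section

variable {F : Type*} [Field F] [Fintype F]

/-- The entries of an element. -/
abbrev ent (g : SU 3 F 2) : Matrix (Fin 3) (Fin 3) F := (g.1 : Matrix (Fin 3) (Fin 3) F)

theorem card_mono (hF : Fintype.card F = 4) : Nat.card (monoSub (F := F)) ≤ 54 := by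
  classical
  -- a monomial element is determined by its permutation and two of its entries
  have hs : ∀ g : monoSub (F := F), ∃ σ : Equiv.Perm (Fin 3), ∀ i j, ent g.1 i j ≠ 0 ↔ j = σ i := by
    intro g
    have hdet : (ent g.1).det = 1 := g.1.1.2
    have hex : ∀ i, ∃ j, ent g.1 i j ≠ 0 := by
      intro i
      by_contra h
      push Not at h
      rw [Matrix.det_eq_zero_of_row_eq_zero i h] at hdet
      exact zero_ne_one hdet
    choose f hf using hex
    have hfi : Function.Injective f := by
      intro a b hab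
      by_contra hne
      obtain ⟨k, hk⟩ : ∃ k, ∀ i, f i ≠ k := by
        by_contra hc
        push Not at hc
        exact hne ((Finite.injective_iff_surjective.mpr hc) hab)
      rw [Matrix.det_eq_zero_of_column_eq_zero k (fun i => by
        by_contra h
        exact hk i (g.2 i (f i) k (hf i) h))] at hdet
      exact zero_ne_one hdet
    refine ⟨Equiv.ofBijective f (Finite.injective_iff_bijective.mp hfi), fun i j => ⟨fun h => ?_, ?_⟩⟩
    · exact g.2 i j (f i) h (hf i)
    · rintro rfl; exact hf i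
  choose σ hσ using hs
  let φ : monoSub (F := F) → Equiv.Perm (Fin 3) × Fˣ × Fˣ := fun g =>
    (σ g, Units.mk0 (ent g.1 0 (σ g 0)) ((hσ g _ _).mpr rfl), Units.mk0 (ent g.1 1 (σ g 1)) ((hσ g _ _).mpr rfl))
  refine (Nat.card_le_card_of_injective φ ?_).trans ?_
  · intro g h e
    simp only [φ, Prod.mk.injEq, Units.ext_iff, Units.val_mk0] at e
    obtain ⟨e1, e2, e3⟩ := e
    rw [← e1] at e2 e3
    have hz : ∀ (g : monoSub (F := F)) i j, j ≠ σ g i → ent g.1 i j = 0 := fun g i j hj => by
      by_contra hne; exact hj ((hσ g i j).mp hne)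
    have hdet : ∀ g : monoSub (F := F),
        ent g.1 0 (σ g 0) * ent g.1 1 (σ g 1) * ent g.1 2 (σ g 2) = 1 ∨
        ent g.1 0 (σ g 0) * ent g.1 1 (σ g 1) * ent g.1 2 (σ g 2) = -1 := by
      intro g
      have hd : (ent g.1).det = 1 := g.1.1.2
      rw [Matrix.det_apply', Finset.sum_eq_single (σ g)⁻¹] at hd
      · have e : ∏ i, ent g.1 ((σ g)⁻¹ i) i =
            ent g.1 0 (σ g 0) * ent g.1 1 (σ g 1) * ent g.1 2 (σ g 2) := by
          rw [← Equiv.prod_comp (σ g) (fun i => ent g.1 ((σ g)⁻¹ i) i), Fin.prod_univ_three]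
          simp
        rw [e] at hd
        rcases Int.units_eq_one_or (Equiv.Perm.sign (σ g)⁻¹) with h | h <;> rw [h] at hd <;> simp at hd
        · exact Or.inl hd
        · exact Or.inr (by linear_combination -hd)
      · intro τ _ hτ
        obtain ⟨i, hi⟩ : ∃ i, i ≠ σ g (τ i) := by
          by_contra hc
          push Not at hc
          exact hτ (Equiv.ext fun i => (σ g).injective (by rw [← hc i]; simp))
        rw [Finset.prod_eq_zero (f := fun j => ent g.1 (τ j) j) (Finset.mem_univ i) (hz g (τ i) i hi), mul_zero]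
      · intro h; exact absurd (Finset.mem_univ _) h
    have e4 : ent g.1 2 (σ g 2) = ent h.1 2 (σ g 2) := by
      have hg := hdet g
      have hh := hdet h
      rw [← e1, ← e2, ← e3] at hh
      have h2 := two0 hF
      have hgn : (-1 : F) = 1 := by linear_combination -h2
      rw [hgn, or_self] at hg hh
      exact mul_left_cancel₀ (left_ne_zero_of_mul_eq_one hg) (hg.trans hh.symm)
    apply Subtype.ext; apply Subtype.ext; apply Subtype.ext
    ext i j
    by_cases hj : j = σ g i
    · subst hj
      fin_cases i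
      · exact e2
      · exact e3
      · exact e4
    · exact (hz g i j hj).trans (hz h i j (by rw [← e1]; exact hj)).symm
  · rw [Nat.card_prod, Nat.card_prod, Nat.card_perm, Nat.card_fin, Nat.card_units,
      Nat.card_eq_fintype_card, hF]
    decide

/-- U₃(2) ≅ 3².Q₈. -/
theorem result {F : Type*} [Field F] [Fintype F] (hF : Fintype.card F = 4) : ∃ (N : Subgroup (Cfsg.PSU 3 F 2)) (_ : N.Normal), Nat.card N = 9 ∧ (∀ x ∈ N, x ^ 3 = 1) ∧ Nonempty (Cfsg.PSU 3 F 2 ⧸ N ≃* QuaternionGroup 2) := by
  classical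
  have hF' : Fintype.card F = 2 ^ 2 := hF
  have := Fact.mk Nat.prime_two
  have := Fact.mk Nat.prime_three
  have hG : Nat.card (Cfsg.PSU 3 F 2) = 72 := (Cfsg.Agent.S0282.result hF).1
  haveI : Finite (Cfsg.PSU 3 F 2) := Nat.finite_of_card_ne_zero (by omega)
  obtain ⟨K, hKm, hK2, hK9⟩ := key hF
  set Z := Subgroup.center (SU 3 F 2) with hZdef
  set π := QuotientGroup.mk' Z with hπ
  set H := K.map π with hH
  have hzc : Nat.card Z = 3 := by rw [hZdef, card_center_SU hF' (by norm_num : 1 ≤ 3)]; rfl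
  have hz3 : ∀ z ∈ Z, z ^ 3 = 1 := by
    intro z hz
    have h := pow_card_eq_one' (x := (⟨z, hz⟩ : Z))
    rw [hzc] at h
    simpa using congrArg Subtype.val h
  have hZK : Z ≤ K := fun z hz => hK9 z (by rw [show 9 = 3 * 3 from rfl, pow_mul, hz3 z hz, one_pow])
  have hH18 : Nat.card H ≤ 18 := by
    have h1 : Nat.card K ≤ 54 := (Nat.card_le_card_of_injective _ (Subgroup.inclusion_injective hKm)).trans (card_mono hF)
    have h2 : Nat.card H * 3 = Nat.card K := by
      have h := Subgroup.card_eq_card_quotient_mul_card_subgroup (π.comp K.subtype).ker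
      rw [Nat.card_congr (QuotientGroup.quotientKerEquivRange _).toEquiv] at h
      have hr : (π.comp K.subtype).range = H := by
        rw [MonoidHom.range_eq_map, ← Subgroup.map_map, ← MonoidHom.range_eq_map, Subgroup.range_subtype]
      have hk : (π.comp K.subtype).ker = Z.subgroupOf K := by
        ext x
        exact QuotientGroup.eq_one_iff (x : SU 3 F 2)
      rw [hr, hk, Nat.card_congr (Subgroup.subgroupOfEquivOfLe hZK).toEquiv, hzc] at h
      exact h.symm
    omega
  have hsmallH : ∀ x : Cfsg.PSU 3 F 2, (orderOf x = 2 ∨ orderOf x = 3) → x ∈ H := by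
    intro x hx
    obtain ⟨g, rfl⟩ := QuotientGroup.mk'_surjective Z x
    have h1 := pow_orderOf_eq_one (π g)
    have hpow : g ^ orderOf (π g) ∈ Z := by
      rw [← QuotientGroup.eq_one_iff, QuotientGroup.mk_pow]
      exact h1
    rcases hx with h | h <;> rw [h] at hpow h1
    · refine ⟨g ^ 3, hK2 _ ?_, ?_⟩
      · rw [← pow_two, ← pow_mul, show 3 * 2 = 2 * 3 from rfl, pow_mul]; exact hz3 _ hpow
      · rw [map_pow, pow_succ, h1, one_mul]
    · exact ⟨g, hK9 g (by rw [show 9 = 3 * 3 from rfl, pow_mul]; exact hz3 _ hpow), rfl⟩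
  set M := Subgroup.closure {x : Cfsg.PSU 3 F 2 | orderOf x = 2 ∨ orderOf x = 3} with hM
  have hMH : M ≤ H := (Subgroup.closure_le _).mpr hsmallH
  haveI hMn : M.Normal := by
    refine ⟨fun x hx g => ?_⟩
    have hle : M ≤ M.comap (MulAut.conj g).toMonoidHom := (Subgroup.closure_le _).mpr fun y hy => by
      refine Subgroup.subset_closure ?_
      rw [Set.mem_ofPred_eq, MulEquiv.coe_toMonoidHom, MulEquiv.orderOf_eq]
      exact hy
    exact hle hx
  -- a primitive cube root of unity
  obtain ⟨w, hw0, hw1⟩ : ∃ w : F, w ≠ 0 ∧ w ≠ 1 := by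
    by_contra hc
    push Not at hc
    have : (Finset.univ : Finset F).card ≤ ({0, 1} : Finset F).card := Finset.card_le_card fun z _ => by
      by_cases hz0 : z = 0
      · simp [hz0]
      · simp [hc z hz0]
    have h3 : ({0, 1} : Finset F).card ≤ 2 := Finset.card_le_two
    rw [Finset.card_univ, hF] at this
    omega
  have h2 := two0 hF
  have hw3 : w ^ 3 = 1 := cube hF w hw0
  have hw : w ^ 2 + w + 1 = 0 := by
    refine (mul_eq_zero.1 (show (w - 1) * (w ^ 2 + w + 1) = 0 by linear_combination hw3)).resolve_left ?_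
    exact sub_ne_zero.mpr hw1
  set u : Fˣ := Units.mk0 w hw0 with hu
  -- a subgroup of order nine
  set s : SU 3 F 2 := t01 hF 1 * t12 hF 1 with hs
  set d : SU 3 F 2 := dg hF (u, 1) with hd
  have hse : ent s = !![0, 0, 1; 1, 0, 0; 0, 1, 0] := by
    show !![0, ((1 : Fˣ) : F), 0; (((1 : Fˣ)⁻¹ : Fˣ) : F), 0, 0; 0, 0, 1] *
      !![1, 0, 0; 0, 0, ((1 : Fˣ) : F); 0, (((1 : Fˣ)⁻¹ : Fˣ) : F), 0] = _
    ext i j
    fin_cases i <;> fin_cases j <;> simp [Matrix.mul_apply, Fin.sum_univ_three]
  have hde : ent d = Matrix.diagonal ![w, w ^ 2, 1] := by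
    show Matrix.diagonal ![((u : Fˣ) : F), ((u⁻¹ * 1 : Fˣ) : F), (((1 : Fˣ)⁻¹ : Fˣ) : F)] = _
    have : w⁻¹ = w ^ 2 := inv_eq_of_mul_eq_one_right (by linear_combination hw3)
    ext i j
    fin_cases i <;> fin_cases j <;> simp [hu, this]
  have hs3 : s ^ 3 = 1 := by
    apply Subtype.ext; apply Subtype.ext
    show ent s ^ 3 = 1
    rw [hse, pow_succ, pow_two]
    ext i j
    fin_cases i <;> fin_cases j <;> simp [Matrix.mul_apply, Fin.sum_univ_three]
  have hd3 : d ^ 3 = 1 := by
    apply Subtype.ext; apply Subtype.ext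
    show ent d ^ 3 = 1
    rw [hde, Matrix.diagonal_pow]
    ext i j
    fin_cases i <;> fin_cases j <;> simp [hw3, ← pow_mul, show (2 * 3) = 3 * 2 from rfl] <;>
      linear_combination (w ^ 3 + 1) * hw3
  have hscal : ∀ z ∈ Z, ∀ i j, ent z i j = if i = j then ent z 0 0 else 0 := fun z hz i j => by
    conv_lhs => rw [show ent z = (ent z 0 0) • 1 from SU_center_scalar hF' z hz 0]
    rw [Matrix.smul_apply, Matrix.one_apply, smul_eq_mul]
    split_ifs <;> simp
  have hcomm : π s * π d = π d * π s := by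
    have hc : (d * s)⁻¹ * (s * d) ∈ Z := by
      refine Subgroup.mem_center_iff.mpr fun g => ?_
      have e : ent ((d * s)⁻¹ * (s * d)) = (w ^ 2) • 1 := by
        have e1 : ent (d * s) * ((w ^ 2) • (1 : Matrix (Fin 3) (Fin 3) F)) = ent (s * d) := by
          show ent d * ent s * _ = ent s * ent d
          rw [hse, hde, Matrix.mul_smul, Matrix.mul_one]
          ext i j
          fin_cases i <;> fin_cases j <;> simp [Matrix.mul_apply, Fin.sum_univ_three] <;> grind
        calc ent ((d * s)⁻¹ * (s * d)) = ent (d * s)⁻¹ * ent (s * d) := rfl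
          _ = ent ((d * s)⁻¹ * (d * s)) * ((w ^ 2) • 1) := by
            rw [← e1, ← Matrix.mul_assoc]; rfl
          _ = (w ^ 2) • 1 := by
            rw [inv_mul_cancel, show ent (1 : SU 3 F 2) = 1 from rfl, Matrix.one_mul]
      apply Subtype.ext; apply Subtype.ext
      show ent g * ent ((d * s)⁻¹ * (s * d)) = ent ((d * s)⁻¹ * (s * d)) * ent g
      rw [e]; simp
    calc π s * π d = π (d * s) * π ((d * s)⁻¹ * (s * d)) := by rw [← map_mul, ← map_mul, mul_inv_cancel_left]
      _ = π d * π s := by rw [show π ((d * s)⁻¹ * (s * d)) = 1 from (QuotientGroup.eq_one_iff _).mpr hc, mul_one, map_mul]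
  set P := Subgroup.closure ({π s, π d} : Set (Cfsg.PSU 3 F 2)) with hP
  have hPcomm : ∀ x ∈ P, ∀ y ∈ P, x * y = y * x := by
    have : IsMulCommutative P := by
      refine Subgroup.isMulCommutative_closure (fun x hx y hy => ?_)
      rcases hx with rfl | hx <;> rcases hy with rfl | hy
      · rfl
      · rw [Set.mem_singleton_iff.mp hy]; exact hcomm
      · rw [Set.mem_singleton_iff.mp hx]; exact hcomm.symm
      · rw [Set.mem_singleton_iff.mp hx, Set.mem_singleton_iff.mp hy]
    exact fun x hx y hy => congrArg Subtype.val (this.is_comm.comm ⟨x, hx⟩ ⟨y, hy⟩)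
  have hP3 : ∀ x ∈ P, x ^ 3 = 1 := by
    intro x hx
    induction hx using Subgroup.closure_induction with
    | mem y hy =>
      rcases hy with rfl | hy
      · rw [← map_pow, hs3, map_one]
      · rw [Set.mem_singleton_iff.mp hy, ← map_pow, hd3, map_one]
    | one => simp
    | mul a b ha hb iha ihb => rw [(show Commute a b from hPcomm a ha b hb).mul_pow, iha, ihb, one_mul]
    | inv a _ iha => rw [inv_pow, iha, inv_one]
  have hsne : π s ≠ 1 := fun h => by
    have h0 := hscal s ((QuotientGroup.eq_one_iff s).mp h) 1 0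
    rw [hse] at h0; simp at h0
  have hdnot : π d ∉ Subgroup.zpowers (π s) := by
    intro hm
    obtain ⟨i, hi⟩ := (Submonoid.mem_powers_iff _ _).mp ((mem_powers_iff_mem_zpowers).mpr hm)
    rw [← map_pow] at hi
    have hc : d⁻¹ * s ^ i ∈ Z := QuotientGroup.eq.mp hi.symm
    have hso : orderOf s = 3 := orderOf_eq_prime hs3 (fun h => hsne (by rw [h, map_one]))
    rw [← pow_mod_orderOf s i, hso] at hc
    have e : ent d * ent (d⁻¹ * s ^ (i % 3)) = ent s ^ (i % 3) := by
      show ent (d * (d⁻¹ * s ^ (i % 3))) = ent (s ^ (i % 3))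
      rw [mul_inv_cancel_left]
    have e' := hscal _ hc
    set c := ent (d⁻¹ * s ^ (i % 3)) 0 0
    have he : ∀ a b, ent d a b * c = (ent s ^ (i % 3)) a b := by
      intro a b
      rw [← e, Matrix.mul_apply, Finset.sum_eq_single b]
      · rw [e' b b, if_pos rfl]
      · intro k _ hk; rw [e' k b, if_neg hk, mul_zero]
      · intro h; exact absurd (Finset.mem_univ b) h
    have h3' : i % 3 = 0 ∨ i % 3 = 1 ∨ i % 3 = 2 := by omega
    rcases h3' with h | h | h <;> rw [h] at he
    · have h00 := he 0 0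
      have h22 := he 2 2
      rw [hde, hse] at h00 h22
      simp at h00 h22
      rw [h22, mul_one] at h00
      exact hw1 h00
    · have h10 := he 1 0
      rw [hde, hse] at h10
      simp at h10
    · have h01 := he 0 1
      rw [hde, hse] at h01
      simp [pow_two, Matrix.mul_apply, Fin.sum_univ_three] at h01
  have hPp : IsPGroup 3 P := fun x => ⟨1, Subtype.ext (by simpa using hP3 x x.2)⟩
  obtain ⟨k, hk⟩ := IsPGroup.iff_card.mp hPp
  have hPc : Nat.card P = 9 := by
    have hd72 : 3 ^ k ∣ 72 := hk ▸ hG ▸ Subgroup.card_subgroup_dvd_card P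
    have hk2 : k ≤ 2 := by
      by_contra hc
      have : 3 ^ 3 ∣ 72 := (pow_dvd_pow 3 (show 3 ≤ k by omega)).trans hd72
      norm_num at this
    have hlt : Subgroup.zpowers (π s) < P := lt_of_le_of_ne
      (Subgroup.zpowers_le.mpr (Subgroup.subset_closure (by simp)))
      (fun e => hdnot (e ▸ Subgroup.subset_closure (by simp)))
    have h3 : orderOf (π s) = 3 := orderOf_eq_prime (by rw [← map_pow, hs3, map_one]) hsne
    have hcl : Nat.card (Subgroup.zpowers (π s)) < Nat.card P := by
      by_contra hc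
      exact hlt.ne (Subgroup.eq_of_le_of_card_ge hlt.le (not_lt.1 hc))
    rw [Nat.card_zpowers, h3, hk] at hcl
    rw [hk]
    interval_cases k <;> omega
  have hPM : P ≤ M := by
    refine (Subgroup.closure_le _).mpr fun x hx => Subgroup.subset_closure (Or.inr ?_)
    rcases hx with rfl | hx
    · exact orderOf_eq_prime (by rw [← map_pow, hs3, map_one]) hsne
    · rw [Set.mem_singleton_iff.mp hx]
      exact orderOf_eq_prime (by rw [← map_pow, hd3, map_one]) fun h => hdnot (h ▸ one_mem _)
  have hMc : Nat.card M = 18 := by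
    obtain ⟨t, ht⟩ := exists_prime_orderOf_dvd_card' (G := Cfsg.PSU 3 F 2) 2 (by rw [hG]; norm_num)
    have h2 : 2 ∣ Nat.card M := by
      have := Subgroup.orderOf_dvd_natCard M (Subgroup.subset_closure (Or.inl ht) : t ∈ M)
      rw [ht] at this; exact this
    have h9 : 9 ∣ Nat.card M := hPc ▸ Subgroup.card_dvd_of_le hPM
    have hle := (Nat.card_le_card_of_injective _ (Subgroup.inclusion_injective hMH)).trans hH18
    have := Nat.le_of_dvd Nat.card_pos (Nat.Coprime.mul_dvd_of_dvd_of_dvd (by norm_num : Nat.Coprime 2 9) h2 h9)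
    omega
  have hHM : H = M :=
    (Subgroup.eq_of_le_of_card_ge hMH (hMc ▸ hH18)).symm
  haveI hPn : P.Normal := by
    have hi : (P.subgroupOf M).index = 2 := by
      have h := (P.subgroupOf M).card_mul_index
      rw [Nat.card_congr (Subgroup.subgroupOfEquivOfLe hPM).toEquiv, hPc, hMc] at h
      omega
    haveI := Subgroup.normal_of_index_eq_two hi
    refine ⟨fun x hx g => ?_⟩
    set y := g * x * g⁻¹
    have hyM : y ∈ M := hMn.conj_mem x (hPM hx) g
    have hy3 : y ^ 3 = 1 := by rw [conj_pow, hP3 x hx, mul_one, mul_inv_cancel]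
    have hq : ((⟨y, hyM⟩ : M) : M ⧸ P.subgroupOf M) = 1 := by
      set q := ((⟨y, hyM⟩ : M) : M ⧸ P.subgroupOf M)
      have h2 : q ^ 2 = 1 := by
        have h := pow_card_eq_one' (x := q)
        rw [← Subgroup.index_eq_card, hi] at h
        exact h
      have h3 : q ^ 3 = 1 := by
        rw [← QuotientGroup.mk_pow, show (⟨y, hyM⟩ : M) ^ 3 = 1 from Subtype.ext hy3, QuotientGroup.mk_one]
      rwa [pow_succ, h2, one_mul] at h3
    exact Subgroup.mem_subgroupOf.mp ((QuotientGroup.eq_one_iff _).mp hq)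
  refine ⟨P, hPn, hPc, hP3, ?_⟩
  -- a Sylow `2`-subgroup
  obtain ⟨T⟩ : Nonempty (Sylow 2 (Cfsg.PSU 3 F 2)) := inferInstance
  have hTc : Nat.card T = 8 := by
    rw [T.card_eq_multiplicity, hG, show (72 : ℕ) = 2 ^ 3 * 9 by norm_num,
      Nat.factorization_mul (by norm_num) (by norm_num), Finsupp.add_apply,
      Nat.prime_two.factorization_pow, Finsupp.single_eq_same,
      Nat.factorization_eq_zero_of_not_dvd (by norm_num : ¬ 2 ∣ 9)]
    norm_num
  let f : T →* Cfsg.PSU 3 F 2 ⧸ P := (QuotientGroup.mk' P).comp (T : Subgroup (Cfsg.PSU 3 F 2)).subtype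
  have hf : Function.Bijective f := by
    refine (Nat.bijective_iff_injective_and_card f).mpr ⟨?_, ?_⟩
    · rw [← MonoidHom.ker_eq_bot_iff, eq_bot_iff]
      intro a ha
      have haP : (a : Cfsg.PSU 3 F 2) ∈ P := (QuotientGroup.eq_one_iff _).mp ha
      have h3 : a ^ 3 = 1 := Subtype.ext (hP3 _ haP)
      have h8 : a ^ 8 = 1 := by rw [← hTc]; exact pow_card_eq_one'
      have := pow_gcd_eq_one.2 ⟨h3, h8⟩
      rw [Subgroup.mem_bot]
      simpa using this
    · have h := Subgroup.card_eq_card_quotient_mul_card_subgroup P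
      rw [hG, hPc] at h
      rw [hTc]; omega
  let e := MulEquiv.ofBijective f hf
  have huniq : ∀ a b : T, orderOf a = 2 → orderOf b = 2 → a ∈ Subgroup.zpowers b := by
    intro a b ha hb
    suffices a = b from this ▸ Subgroup.mem_zpowers a
    by_contra hne
    have hab : a⁻¹ * b ≠ 1 := fun h => hne (inv_mul_eq_one.mp h)
    -- `T ∩ M` has order two
    set I := M.subgroupOf (T : Subgroup (Cfsg.PSU 3 F 2)) with hI
    have hIc : Nat.card I ≤ 2 := by
      have h1 : Nat.card I ∣ Nat.card T := Subgroup.card_subgroup_dvd_card I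
      have h2 : Nat.card I ∣ Nat.card M := by
        rw [hI, ← Subgroup.inf_subgroupOf_right M,
          Nat.card_congr (Subgroup.subgroupOfEquivOfLe inf_le_right).toEquiv]
        exact Subgroup.card_dvd_of_le inf_le_left
      have := Nat.dvd_gcd h1 h2
      rw [hTc, hMc] at this
      exact Nat.le_of_dvd two_pos this
    have hmem : ∀ c : T, orderOf c = 2 → c ∈ I := fun c hc =>
      Subgroup.subset_closure (Or.inl ((orderOf_injective _ (Subgroup.subtype_injective _) c).trans hc))
    have h3 : 3 ≤ Nat.card I := by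
      let g : Fin 3 → I := ![1, ⟨a, hmem a ha⟩, ⟨b, hmem b hb⟩]
      have hg : Function.Injective g := by
        have ha1 : a ≠ 1 := fun h => by rw [h, orderOf_one] at ha; norm_num at ha
        have hb1 : b ≠ 1 := fun h => by rw [h, orderOf_one] at hb; norm_num at hb
        intro i j hij
        fin_cases i <;> fin_cases j <;> first | rfl | exact absurd (congrArg Subtype.val hij) (by first | exact ha1 | exact hb1 | exact hne | exact Ne.symm ha1 | exact Ne.symm hb1 | exact Ne.symm hne)
      simpa using Nat.card_le_card_of_injective g hg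
    omega
  rcases Cfsg.Agent.Lib.Frobenius.isCyclic_or_quaternion_of_unique T.2 huniq with hcyc | ⟨-, m, ⟨q⟩⟩
  · -- two distinct involutions modulo `M`
    exfalso
    have hwi : w⁻¹ = w ^ 2 := inv_eq_of_mul_eq_one_right (by linear_combination hw3)
    let A : Matrix (Fin 3) (Fin 3) F := !![1, 1, 1; 1, w, w ^ 2; 1, w ^ 2, w]
    let B : Matrix (Fin 3) (Fin 3) F := !![1, 1, w ^ 2; 1, w, w; w, 1, w]
    have hAd : A.det = 1 := by
      simp [A, Matrix.det_fin_three]
      grind
    have hBd : B.det = 1 := by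
      simp [B, Matrix.det_fin_three]
      grind
    have hAu : ∀ i k : Fin 3, ∑ r, A r i * (A r k) ^ 2 = if i = k then 1 else 0 := by
      intro i k
      fin_cases i <;> fin_cases k <;> simp [A, Fin.sum_univ_three] <;> grind
    have hBu : ∀ i k : Fin 3, ∑ r, B r i * (B r k) ^ 2 = if i = k then 1 else 0 := by
      intro i k
      fin_cases i <;> fin_cases k <;> simp [B, Fin.sum_univ_three] <;> grind
    let gA : SU 3 F 2 := ⟨⟨A, hAd⟩, mem_su hF _ hAu⟩
    let gB : SU 3 F 2 := ⟨⟨B, hBd⟩, mem_su hF _ hBu⟩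
    have hnot : ∀ g : SU 3 F 2, ¬ Mono (ent g) → π g ∉ M := by
      intro g hg hm
      rw [← hHM] at hm
      obtain ⟨k, hk, hkg⟩ := hm
      refine hg (hKm ?_)
      rw [show g = k * (k⁻¹ * g) by group]
      exact mul_mem hk (hZK (QuotientGroup.eq.1 hkg))
    have hmonoM : ∀ g : SU 3 F 2, Mono (ent g) → π g ∈ M := by
      intro g hg
      rw [← hHM]
      have hKeq : K = monoSub (F := F) := by
        refine Subgroup.eq_of_le_of_card_ge hKm ((card_mono hF).trans ?_)
        have h := hMc ▸ hHM ▸ (rfl : Nat.card H = Nat.card H)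
        have h2 : Nat.card H * 3 ≤ Nat.card K := by
          have hq := Subgroup.card_eq_card_quotient_mul_card_subgroup (Z.subgroupOf K)
          rw [Nat.card_congr (Subgroup.subgroupOfEquivOfLe hZK).toEquiv, hzc] at hq
          rw [hq]
          refine Nat.mul_le_mul_right 3 ?_
          refine Nat.card_le_card_of_surjective (fun x => Quotient.liftOn' x
            (fun y : K => (⟨π y, ⟨y, y.2, rfl⟩⟩ : H)) (fun y y' hy => Subtype.ext (QuotientGroup.eq.mpr ?_))) ?_
          · exact (QuotientGroup.leftRel_apply.mp hy : y⁻¹ * y' ∈ Z.subgroupOf K)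
          · rintro ⟨_, y, hy, rfl⟩; exact ⟨Quotient.mk'' ⟨y, hy⟩, rfl⟩
        rw [hHM, hMc] at h2
        omega
      exact ⟨g, hKeq ▸ hg, rfl⟩
    have hA2 : π gA * π gA ∈ M := by
      rw [← map_mul]
      refine hmonoM _ ?_
      show Mono (A * A)
      intro i j k
      fin_cases i <;> fin_cases j <;> fin_cases k <;> simp [A, Matrix.mul_apply, Fin.sum_univ_three] <;> grind
    have hB2 : π gB * π gB ∈ M := by
      rw [← map_mul]
      refine hmonoM _ ?_
      show Mono (B * B)
      intro i j k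
      fin_cases i <;> fin_cases j <;> fin_cases k <;> simp [B, Matrix.mul_apply, Fin.sum_univ_three] <;> grind
    have hA : π gA ∉ M := hnot _ fun h => absurd (h 0 0 1 (by simp [gA, ent, A]) (by simp [gA, ent, A])) (by decide)
    have hB : π gB ∉ M := hnot _ fun h => absurd (h 0 0 1 (by simp [gB, ent, B]) (by simp [gB, ent, B])) (by decide)
    have hAB : π gA * π gB ∉ M := by
      rw [← map_mul]
      refine hnot _ fun h => absurd (h 0 0 1 ?_ ?_) (by decide)
      · show (A * B) 0 0 ≠ 0
        simp [A, B, Matrix.mul_apply, Fin.sum_univ_three]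
        grind
      · show (A * B) 0 1 ≠ 0
        simp [A, B, Matrix.mul_apply, Fin.sum_univ_three]
        grind
    -- the quotient by `M` is cyclic of order four
    haveI : IsCyclic (Cfsg.PSU 3 F 2 ⧸ M) := by
      haveI : IsCyclic (Cfsg.PSU 3 F 2 ⧸ P) := isCyclic_of_surjective e.toMonoidHom e.surjective
      exact isCyclic_of_surjective (QuotientGroup.map P M (MonoidHom.id _) (fun x hx => hPM hx))
        (QuotientGroup.map_surjective_of_surjective P M _ (by
          exact fun x => ⟨_, (QuotientGroup.mk'_surjective M x).choose_spec⟩) (fun x hx => hPM hx))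
    have hcount := IsCyclic.card_pow_eq_one_le (α := Cfsg.PSU 3 F 2 ⧸ M) two_pos
    set qa := ((π gA : Cfsg.PSU 3 F 2) : Cfsg.PSU 3 F 2 ⧸ M) with hqa
    set qb := ((π gB : Cfsg.PSU 3 F 2) : Cfsg.PSU 3 F 2 ⧸ M) with hqb
    have ha1 : qa ≠ 1 := fun h => hA ((QuotientGroup.eq_one_iff _).mp h)
    have hb1 : qb ≠ 1 := fun h => hB ((QuotientGroup.eq_one_iff _).mp h)
    have ha2 : qa ^ 2 = 1 := by rw [pow_two, ← QuotientGroup.mk_mul, QuotientGroup.eq_one_iff]; exact hA2
    have hb2 : qb ^ 2 = 1 := by rw [pow_two, ← QuotientGroup.mk_mul, QuotientGroup.eq_one_iff]; exact hB2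
    have hab : qa ≠ qb := fun h => hAB ((QuotientGroup.eq_one_iff _).mp (by
      rw [QuotientGroup.mk_mul, ← hqa, ← hqb, ← h, ← pow_two, ha2]))
    haveI := Fintype.ofFinite (Cfsg.PSU 3 F 2 ⧸ M)
    have hle : ({1, qa, qb} : Finset (Cfsg.PSU 3 F 2 ⧸ M)).card ≤
        (Finset.univ.filter fun a : Cfsg.PSU 3 F 2 ⧸ M => a ^ 2 = 1).card :=
      Finset.card_le_card fun x hx => by
        simp only [Finset.mem_insert, Finset.mem_singleton] at hx
        rcases hx with rfl | rfl | rfl <;> simp [ha2, hb2]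
    rw [Finset.card_insert_of_notMem (by simp [Ne.symm ha1, Ne.symm hb1]),
      Finset.card_insert_of_notMem (by simp [hab]), Finset.card_singleton] at hle
    have h3 := le_trans hle (le_trans (le_of_eq (by congr; exact Subsingleton.elim _ _)) hcount)
    omega
  · have hq := Nat.card_congr q.toEquiv
    rw [hTc, Nat.card_eq_fintype_card, QuaternionGroup.card] at hq
    have hm : m = 0 := by
      by_contra hm
      have := Nat.pow_le_pow_right (show 1 ≤ 2 by norm_num) (show 2 ≤ m + 1 by omega)
      omega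
    subst hm
    exact ⟨e.symm.trans q⟩

end

end Cfsg.Agent.S0827
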