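import Cfsg.Statements.S0831
import Cfsg.Agent.Lib.Geometry.MaxIsotropic
import Cfsg.Agent.Lib.Geometry.OrthNegOne
import Cfsg.Agent.Lib.Geometry.Stabilizing
-- import your own Cfsg.Agent.* helpers here

set_option autoImplicit false
open Cfsg

namespace Cfsg.Agent.S0831

/-- The two families of maximal totally singular subspaces of the hyperbolic quadric: for the form Σ x_i y_i on F^(2m), m ≥ 1, and m-dimensional subspaces U, W, X on which it vanishes, the parities of m − dim(U ∩ W), m − dim(W ∩ X) and m − dim(U ∩ X) sum to an even number (so 'even codimension of the intersection' is an equivalence relation), and there exist two such subspaces meeting in codimension 1 (so there are exactly two classes). -/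
theorem result {F : Type*} [Field F] (m : ℕ) (hm : 1 ≤ m) : (∀ U W X : Submodule F (Fin m ⊕ Fin m → F), (Module.finrank F U = m ∧ ∀ w ∈ U, Cfsg.quadFormPlus m F w = 0) → (Module.finrank F W = m ∧ ∀ w ∈ W, Cfsg.quadFormPlus m F w = 0) → (Module.finrank F X = m ∧ ∀ w ∈ X, Cfsg.quadFormPlus m F w = 0) → Even ((m - Module.finrank F ↥(U ⊓ W)) + (m - Module.finrank F ↥(W ⊓ X)) + (m - Module.finrank F ↥(U ⊓ X)))) ∧ ∃ U W : Submodule F (Fin m ⊕ Fin m → F), (Module.finrank F U = m ∧ ∀ w ∈ U, Cfsg.quadFormPlus m F w = 0) ∧ (Module.finrank F W = m ∧ ∀ w ∈ W, Cfsg.quadFormPlus m F w = 0) ∧ Module.finrank F ↥(U ⊓ W) + 1 = m := by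
  classical
  have hnd : (QuadraticMap.polarBilin (Cfsg.Agent.Lib.Geometry.matQuad (Cfsg.Agent.Lib.Geometry.plusMatrix m F))).Nondegenerate :=
    Cfsg.Agent.Lib.Geometry.polarBilin_matQuad_nondegenerate (by rw [Cfsg.Agent.Lib.Geometry.det_plusGram]; exact pow_ne_zero _ (by simp))
  refine ⟨fun U W X hU hW hX => ?_, ?_⟩
  · rw [Cfsg.Agent.Lib.Geometry.quadFormPlus_eq] at hU hW hX
    exact Cfsg.Agent.Lib.Geometry.even_codim_sum _ hnd (by simp; ring) hU.1 hU.2 hW.1 hW.2 hX.1 hX.2
  let l : Fin m := ⟨m - 1, by omega⟩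
  let P : Fin m ⊕ Fin m → Prop := fun s => s.isRight = true
  let P' : Fin m ⊕ Fin m → Prop := fun s => (s.isRight = true ∧ s ≠ Sum.inr l) ∨ s = Sum.inl l
  refine ⟨Cfsg.Agent.Lib.Geometry.coordSubspace F P, Cfsg.Agent.Lib.Geometry.coordSubspace F P', ⟨?_, fun w hw => ?_⟩, ⟨?_, fun w hw => ?_⟩, ?_⟩
  · rw [Cfsg.Agent.Lib.Geometry.finrank_coordSubspace, Fintype.card_subtype]
    rw [show (Finset.univ.filter fun s => ¬ P s) =
      (Finset.univ : Finset (Fin m)).disjSum ∅ by ext (s | s) <;> simp [P]]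
    simp
  · refine Finset.sum_eq_zero fun i _ => ?_
    rw [hw (Sum.inr i) rfl, mul_zero]
  · rw [Cfsg.Agent.Lib.Geometry.finrank_coordSubspace, Fintype.card_subtype]
    rw [show (Finset.univ.filter fun s => ¬ P' s) =
      (Finset.univ.erase l).disjSum {l} by ext (s | s) <;> simp [P']]
    simp [Finset.card_disjSum]
    omega
  · refine Finset.sum_eq_zero fun i _ => ?_
    by_cases hi : i = l
    · rw [hi, hw (Sum.inl l) (Or.inr rfl), zero_mul]
    · rw [hw (Sum.inr i) (Or.inl ⟨rfl, by simpa using hi⟩), mul_zero]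
  · rw [show Cfsg.Agent.Lib.Geometry.coordSubspace F P ⊓ Cfsg.Agent.Lib.Geometry.coordSubspace F P' = Cfsg.Agent.Lib.Geometry.coordSubspace F (fun s => P s ∨ P' s) by
      ext v
      exact ⟨fun h s hs => hs.elim (h.1 s) (h.2 s), fun h => ⟨fun s hs => h s (Or.inl hs), fun s hs => h s (Or.inr hs)⟩⟩]
    rw [Cfsg.Agent.Lib.Geometry.finrank_coordSubspace, Fintype.card_subtype]
    rw [show (Finset.univ.filter fun s => ¬ (P s ∨ P' s)) =
      (Finset.univ.erase l).disjSum ∅ by ext (s | s) <;> simp [P, P']]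
    simp
    omega

end Cfsg.Agent.S0831
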