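import Cfsg.Statements.S0832
import Cfsg.Agent.Lib.Geometry.MaxIsotropic
import Cfsg.Agent.Lib.Geometry.OrthNegOne
import Cfsg.Agent.Lib.Geometry.Stabilizing
-- import your own Cfsg.Agent.* helpers here

set_option autoImplicit false
open Cfsg

namespace Cfsg.Agent.S0832

/-- For the form Σ x_i y_i on F^(2m) over a finite field, m ≥ 1: an (m−1)-dimensional subspace on which the form vanishes is contained in exactly two m-dimensional subspaces on which it vanishes. -/
theorem result {F : Type*} [Field F] [Finite F] (m : ℕ) (hm : 1 ≤ m) (U : Submodule F (Fin m ⊕ Fin m → F)) (hU : Module.finrank F U + 1 = m ∧ ∀ u ∈ U, Cfsg.quadFormPlus m F u = 0) : Nat.card {W : Submodule F (Fin m ⊕ Fin m → F) // Module.finrank F W = m ∧ (∀ w ∈ W, Cfsg.quadFormPlus m F w = 0) ∧ U ≤ W} = 2 := by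
  classical
  obtain ⟨hU, hU0⟩ := hU
  rw [Cfsg.Agent.Lib.Geometry.quadFormPlus_eq] at hU0 ⊢
  set Q := Cfsg.Agent.Lib.Geometry.matQuad (Cfsg.Agent.Lib.Geometry.plusMatrix m F) with hQdef
  have hQ : ∀ v, Q v = ∑ i, v (Sum.inl i) * v (Sum.inr i) := fun v =>
    (congrFun (Cfsg.Agent.Lib.Geometry.quadFormPlus_eq (F := F) m) v).symm
  have hnd : (QuadraticMap.polarBilin Q).Nondegenerate :=
    Cfsg.Agent.Lib.Geometry.polarBilin_matQuad_nondegenerate (by rw [Cfsg.Agent.Lib.Geometry.det_plusGram]; exact pow_ne_zero _ (by simp))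
  let l : Fin m := ⟨m - 1, by omega⟩
  let P₀ : Fin m ⊕ Fin m → Prop := fun s => s.isRight = true ∨ s = Sum.inl l
  let P₁ : Fin m ⊕ Fin m → Prop := fun s => s.isRight = true
  let P₂ : Fin m ⊕ Fin m → Prop := fun s => (s.isRight = true ∧ s ≠ Sum.inr l) ∨ s = Sum.inl l
  let U₀ := Cfsg.Agent.Lib.Geometry.coordSubspace F P₀
  let W₁ := Cfsg.Agent.Lib.Geometry.coordSubspace F P₁
  let W₂ := Cfsg.Agent.Lib.Geometry.coordSubspace F P₂
  have hd₀ : Module.finrank F U₀ + 1 = m := by
    rw [Cfsg.Agent.Lib.Geometry.finrank_coordSubspace, Fintype.card_subtype]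
    rw [show (Finset.univ.filter fun s => ¬ P₀ s) =
      (Finset.univ.erase l).disjSum ∅ by ext (s | s) <;> simp [P₀]]
    simp
    omega
  have hd₁ : Module.finrank F W₁ = m := by
    rw [Cfsg.Agent.Lib.Geometry.finrank_coordSubspace, Fintype.card_subtype]
    rw [show (Finset.univ.filter fun s => ¬ P₁ s) =
      (Finset.univ : Finset (Fin m)).disjSum ∅ by ext (s | s) <;> simp [P₁]]
    simp
  have hd₂ : Module.finrank F W₂ = m := by
    rw [Cfsg.Agent.Lib.Geometry.finrank_coordSubspace, Fintype.card_subtype]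
    rw [show (Finset.univ.filter fun s => ¬ P₂ s) =
      (Finset.univ.erase l).disjSum {l} by ext (s | s) <;> simp [P₂]]
    simp [Finset.card_disjSum]
    omega
  have h₁ : ∀ w ∈ W₁, Q w = 0 := fun w hw => by
    rw [hQ]
    refine Finset.sum_eq_zero fun i _ => ?_
    rw [hw (Sum.inr i) rfl, mul_zero]
  have h₂ : ∀ w ∈ W₂, Q w = 0 := fun w hw => by
    rw [hQ]
    refine Finset.sum_eq_zero fun i _ => ?_
    by_cases hi : i = l
    · rw [hi, hw (Sum.inl l) (Or.inr rfl), zero_mul]
    · rw [hw (Sum.inr i) (Or.inl ⟨rfl, by simpa using hi⟩), mul_zero]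
  have hU₁ : U₀ ≤ W₁ := fun v hv s hs => hv s (Or.inl hs)
  have hU₂ : U₀ ≤ W₂ := fun v hv s hs => hv s (hs.imp And.left id)
  -- move U to U₀
  let e : U ≃ₗ[F] U₀ := LinearEquiv.ofFinrankEq _ _ (by omega)
  obtain ⟨g, hg, hgU⟩ := Cfsg.Agent.Lib.Geometry.witt_quadratic Q hnd U (U₀.subtype.comp e.toLinearMap)
    (U₀.injective_subtype.comp e.injective)
    (fun x => by rw [hU0 _ x.2]; exact h₁ _ (hU₁ (e x).2))
  have hmap : U.map g.toLinearMap = U₀ := by
    refine le_antisymm ?_ fun v hv => ⟨(e.symm ⟨v, hv⟩ : U), (e.symm ⟨v, hv⟩).2, ?_⟩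
    · rintro _ ⟨u, hu, rfl⟩
      show g u ∈ U₀
      rw [show g u = (e ⟨u, hu⟩ : Fin m ⊕ Fin m → F) from hgU ⟨u, hu⟩]
      exact (e ⟨u, hu⟩).2
    · show g _ = v
      rw [hgU]
      simp
  let Good : Submodule F (Fin m ⊕ Fin m → F) → Prop := fun W =>
    Module.finrank F W = m ∧ (∀ w ∈ W, Q w = 0) ∧ U₀ ≤ W
  have hgood : ∀ W, Good W ↔ W = W₁ ∨ W = W₂ := by
    intro W
    constructor
    · rintro ⟨hW, hW0, hUW⟩
      have key : ∀ w ∈ W, w (Sum.inl l) * w (Sum.inr l) = 0 ∧ ∀ i, i ≠ l → w (Sum.inr i) = 0 := by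
        intro w hw
        have hi : ∀ i, i ≠ l → w (Sum.inr i) = 0 := fun i hil => by
          let u : Fin m ⊕ Fin m → F := Pi.single (Sum.inl i) 1
          have hu : u ∈ U₀ := by
            rintro (s | s) hs
            · have hsl : s = l := by simpa [P₀] using hs
              subst hsl
              simp [u, Ne.symm hil]
            · simp [u]
          have h := hW0 (u + w) (W.add_mem (hUW hu) hw)
          rw [hQ] at h
          simp only [Pi.add_apply, show ∀ j, u (Sum.inr j) = 0 from fun j => by simp [u], zero_add, add_mul] at h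
          rw [Finset.sum_add_distrib, ← hQ w, hW0 w hw, add_zero] at h
          rw [Finset.sum_eq_single i (fun b _ hb => by simp [u, hb]) (fun hh => absurd (Finset.mem_univ _) hh)] at h
          simpa [u] using h
        refine ⟨?_, hi⟩
        have h := hW0 w hw
        rw [hQ, Finset.sum_eq_single l (fun b _ hb => by rw [hi b hb, mul_zero]) (fun hh => absurd (Finset.mem_univ _) hh)] at h
        exact h
      by_cases hA : ∀ w ∈ W, w (Sum.inr l) = 0
      · left
        refine Submodule.eq_of_le_of_finrank_eq (fun w hw => ?_) (hW.trans hd₁.symm)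
        rintro (s | s) hs
        · cases hs
        · by_cases hsl : s = l
          · exact hsl ▸ hA w hw
          · exact (key w hw).2 s hsl
      · right
        push Not at hA
        obtain ⟨w₁, hw₁, hw₁l⟩ := hA
        refine Submodule.eq_of_le_of_finrank_eq (fun w hw => ?_) (hW.trans hd₂.symm)
        have ha₁ : w₁ (Sum.inl l) = 0 := (mul_eq_zero.mp (key w₁ hw₁).1).resolve_right hw₁l
        have hal : w (Sum.inl l) = 0 := by
          rcases mul_eq_zero.mp (key w hw).1 with h | h
          · exact h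
          · have h' := (key (w + w₁) (W.add_mem hw hw₁)).1
            simpa [ha₁, h, hw₁l] using h'
        rintro s (⟨hs, hsne⟩ | hs)
        · rcases s with s | s
          · cases hs
          · exact (key w hw).2 s (fun h => hsne (h ▸ rfl))
        · exact hs ▸ hal
    · rintro (rfl | rfl)
      · exact ⟨hd₁, h₁, hU₁⟩
      · exact ⟨hd₂, h₂, hU₂⟩
  have hne : W₁ ≠ W₂ := fun h => by
    have hmem : (Pi.single (Sum.inl l) 1 : Fin m ⊕ Fin m → F) ∈ W₁ := fun s hs => by
      rcases s with s | s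
      · cases hs
      · simp
    rw [h] at hmem
    simpa using hmem (Sum.inl l) (Or.inr rfl)
  let φ : {W : Submodule F (Fin m ⊕ Fin m → F) // Module.finrank F W = m ∧ (∀ w ∈ W, Q w = 0) ∧ U ≤ W} ≃
      {W : Submodule F (Fin m ⊕ Fin m → F) // Good W} :=
    Equiv.subtypeEquiv (Submodule.orderIsoMapComap g).toEquiv (fun W => by
      show _ ↔ Good (W.map g.toLinearMap)
      simp only [Good, LinearEquiv.finrank_map_eq, ← hmap]
      refine and_congr_right fun _ => and_congr ?_ ?_
      · constructor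
        · rintro h _ ⟨w, hw, rfl⟩
          exact (hg w).trans (h w hw)
        · intro h w hw
          rw [← hg w]
          exact h _ ⟨w, hw, rfl⟩
      · exact (Submodule.map_le_map_iff_of_injective g.injective U W).symm)
  rw [Nat.card_congr φ, Nat.card_congr (Equiv.subtypeEquivRight hgood)]
  exact (Set.ncard_pair hne)

end Cfsg.Agent.S0832
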