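import Cfsg.Statements.S0833
import Cfsg.Agent.Lib.Geometry.SymmDiscr
import Cfsg.Agent.Lib.Geometry.SympBasis
-- import your own Cfsg.Agent.* helpers here

set_option autoImplicit false
open Cfsg

namespace Cfsg.Agent.S0833

/-- If B₁, B₂ are non-degenerate alternating forms on U (dim 2k) and W (dim 2l), then B₁ ⊗ B₂ on U ⊗ W is symmetric, non-degenerate, and vanishes identically on some subspace of dimension 2kl (half of dim U ⊗ W). -/
theorem result {F U W : Type*} [Field F] [Fintype F] [AddCommGroup U] [Module F U] [FiniteDimensional F U] [AddCommGroup W] [Module F W] [FiniteDimensional F W] (B₁ : LinearMap.BilinForm F U) (B₂ : LinearMap.BilinForm F W) (h₁ : B₁.Nondegenerate) (h₂ : B₂.Nondegenerate) (hA₁ : B₁.IsAlt) (hA₂ : B₂.IsAlt) (k l : ℕ) (hU : Module.finrank F U = 2 * k) (hW : Module.finrank F W = 2 * l) : (B₁.tmul B₂).IsSymm ∧ (B₁.tmul B₂).Nondegenerate ∧ (∃ X : Submodule F (TensorProduct F U W), Module.finrank F X = 2 * k * l ∧ ∀ x ∈ X, ∀ y ∈ X, (B₁.tmul B₂) x y = 0) :=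 by
  classical
  have hneg₁ : ∀ x y, B₁ y x = - B₁ x y := fun x y => (hA₁.neg_eq x y).symm
  have hneg₂ : ∀ x y, B₂ y x = - B₂ x y := fun x y => (hA₂.neg_eq x y).symm
  refine ⟨⟨fun x y => ?_⟩, Cfsg.Agent.Lib.Geometry.tmul_nondegenerate h₁ h₂, ?_⟩
  · suffices h : (B₁.tmul B₂) = (B₁.tmul B₂).flip from LinearMap.congr_fun₂ h x y
    ext a b c d
    simp [hneg₁ a c, hneg₂ b d]
  obtain ⟨m, r, b, hef, hee, hff, hrad⟩ := Cfsg.Agent.Lib.Geometry.exists_sympBasis B₁ hA₁
  have hr : r = 0 := by
    by_contra h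
    exact b.ne_zero (Sum.inr ⟨0, Nat.pos_of_ne_zero h⟩) (h₁.1 _ fun v => hrad _ v)
  subst hr
  have hm : m = k := by
    have := Module.finrank_eq_card_basis b
    simp at this
    omega
  let c := Module.finBasisOfFinrankEq F W hW
  let v : Fin m × Fin (2 * l) → TensorProduct F U W :=
    (b.tensorProduct c) ∘ fun p => (Sum.inl (Sum.inl p.1), p.2)
  have hli : LinearIndependent F v := (b.tensorProduct c).linearIndependent.comp _ (fun p q h => by
    simpa [Prod.ext_iff] using h)
  refine ⟨Submodule.span F (Set.range v), ?_, ?_⟩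
  · rw [finrank_span_eq_card hli, Fintype.card_prod, Fintype.card_fin, Fintype.card_fin, hm]
    ring
  · intro x hx y hy
    have hgen : ∀ p q, (B₁.tmul B₂) (v p) (v q) = 0 := fun p q => by
      simp [v, Module.Basis.tensorProduct_apply, hee]
    have hl : ∀ p, (B₁.tmul B₂) (v p) y = 0 := fun p => by
      have hle : Submodule.span F (Set.range v) ≤ LinearMap.ker ((B₁.tmul B₂) (v p)) := by
        rw [Submodule.span_le]
        rintro _ ⟨q, rfl⟩
        exact hgen p q
      exact hle hy
    have hle : Submodule.span F (Set.range v) ≤ LinearMap.ker ((B₁.tmul B₂).flip y) := by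
      rw [Submodule.span_le]
      rintro _ ⟨q, rfl⟩
      exact hl q
    exact hle hx

end Cfsg.Agent.S0833
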