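import Cfsg.Statements.S0835
import Cfsg.Agent.Lib.Geometry.SymmDiscr
-- import your own Cfsg.Agent.* helpers here

set_option autoImplicit false
open Cfsg

namespace Cfsg.Agent.S0835

/-- Over a finite field with 2 ≠ 0: if B₁ on U (dim 2k, k ≥ 1) is non-degenerate symmetric of minus type (no totally isotropic k-subspace) and B₂ on W (dim 2l + 1) is non-degenerate symmetric, then B₁ ⊗ B₂ (dimension 2k(2l+1)) admits no totally isotropic subspace of dimension k(2l+1) (minus type). -/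
theorem result {F U W : Type*} [Field F] [Fintype F] [AddCommGroup U] [Module F U] [FiniteDimensional F U] [AddCommGroup W] [Module F W] [FiniteDimensional F W] (h2 : (2 : F) ≠ 0) (B₁ : LinearMap.BilinForm F U) (B₂ : LinearMap.BilinForm F W) (h₁ : B₁.Nondegenerate) (h₂ : B₂.Nondegenerate) (hS₁ : B₁.IsSymm) (hS₂ : B₂.IsSymm) (k l : ℕ) (hk : 1 ≤ k) (hU : Module.finrank F U = 2 * k) (hW : Module.finrank F W = 2 * l + 1) (hm₁ : ¬ (∃ X : Submodule F (U), Module.finrank F X = k ∧ ∀ x ∈ X, ∀ y ∈ X, (B₁) x y = 0)) : ¬ (∃ X : Submodule F (TensorProduct F U W), Module.finrank F X = k * (2 * l + 1) ∧ ∀ x ∈ X, ∀ y ∈ X, (B₁.tmul B₂) x y = 0) := by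
  classical
  let b := Module.finBasisOfFinrankEq F U hU
  let c := Module.finBasisOfFinrankEq F W hW
  have hn : Module.finrank F (TensorProduct F U W) = 2 * (k * (2 * l + 1)) := by
    rw [Module.finrank_tensorProduct, hU, hW]; ring
  intro hX
  apply hm₁
  refine (Cfsg.Agent.Lib.Geometry.half_isotropic_iff B₁ hS₁ h₁ h2 hk hU b).mpr ?_
  obtain ⟨r, hr⟩ := (Cfsg.Agent.Lib.Geometry.half_isotropic_iff (B₁.tmul B₂) ⟨(LinearMap.IsSymm.tmul (B₁ := B₁) (B₂ := B₂) ⟨hS₁.eq⟩ ⟨hS₂.eq⟩).eq⟩ (Cfsg.Agent.Lib.Geometry.tmul_nondegenerate h₁ h₂)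
    h2 (show 1 ≤ k * (2 * l + 1) by nlinarith) hn (b.tensorProduct c)).mp hX
  rw [Cfsg.Agent.Lib.Geometry.det_toMatrix_tmul, Fintype.card_fin, Fintype.card_fin] at hr
  set A := (LinearMap.BilinForm.toMatrix b B₁).det
  set D := (LinearMap.BilinForm.toMatrix c B₂).det
  have hD : D ≠ 0 := (LinearMap.BilinForm.nondegenerate_iff_det_ne_zero c).mp h₂
  have hA : A ≠ 0 := (LinearMap.BilinForm.nondegenerate_iff_det_ne_zero b).mp h₁
  have hs : ((-1 : F) ^ k * A) * (((-1 : F) ^ (k * l)) * A ^ l * D ^ k) ^ 2 = r * r := by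
    rw [← hr]; ring
  refine ⟨r / (((-1 : F) ^ (k * l)) * A ^ l * D ^ k), ?_⟩
  field_simp
  linear_combination hs

end Cfsg.Agent.S0835
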