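import Cfsg.Statements.S0836
-- import your own Cfsg.Agent.* helpers here

set_option autoImplicit false
open Cfsg

namespace Cfsg.Agent.S0836

/-- For i ≠ j and any scalar c, the elementary transvection 1 + c E_ij is a commutator ⁅g, h⁆ of two elements of SL_n(F) provided n ≥ 3, or n = 2 and F contains x ≠ 0 with x² ≠ 1. -/
theorem result {F : Type*} [Field F] (n : ℕ) (hn : 3 ≤ n ∨ (n = 2 ∧ ∃ x : F, x ≠ 0 ∧ x ^ 2 ≠ 1)) (i j : Fin n) (hij : i ≠ j) (c : F) (t : Matrix.SpecialLinearGroup (Fin n) F) (ht : (t : Matrix (Fin n) (Fin n) F) = Matrix.transvection i j c) : t ∈ commutatorSet (Matrix.SpecialLinearGroup (Fin n) F) := by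
  classical
  rcases hn with hn | ⟨rfl, x, hx0, hx1⟩
  · obtain ⟨k, hki, hkj⟩ : ∃ k : Fin n, k ≠ i ∧ k ≠ j :=
      by
        have hcard : ({i, j} : Finset (Fin n)).card < (Finset.univ : Finset (Fin n)).card := by
          rw [Finset.card_univ, Fintype.card_fin]
          have := Finset.card_le_two (a := i) (b := j)
          omega
        obtain ⟨k, -, hk⟩ := Finset.exists_mem_notMem_of_card_lt_card hcard
        exact ⟨k, fun h => hk (by simp [h]), fun h => hk (by simp [h])⟩
    let a : Matrix.SpecialLinearGroup (Fin n) F :=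
      ⟨Matrix.transvection i k c, Matrix.det_transvection_of_ne _ _ (Ne.symm hki) _⟩
    let b : Matrix.SpecialLinearGroup (Fin n) F :=
      ⟨Matrix.transvection k j 1, Matrix.det_transvection_of_ne _ _ hkj _⟩
    refine ⟨a, b, ?_⟩
    rw [commutatorElement_def, mul_inv_eq_iff_eq_mul, mul_inv_eq_iff_eq_mul]
    apply Subtype.ext
    show Matrix.transvection i k c * Matrix.transvection k j (1 : F) =
      (t : Matrix (Fin n) (Fin n) F) * Matrix.transvection k j (1 : F) * Matrix.transvection i k c
    rw [ht]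
    simp only [Matrix.transvection]
    simp only [Matrix.add_mul, Matrix.mul_add, Matrix.one_mul, Matrix.mul_one,
      Matrix.single_mul_single_same, Matrix.single_mul_single_of_ne, ne_eq, hki, hkj, hij,
      Ne.symm hki, Ne.symm hkj, Ne.symm hij, not_false_eq_true, zero_add, add_zero, mul_one]
    abel
  · let D : Fin 2 → F := fun k => if k = i then x else x⁻¹
    have hdet : (Matrix.diagonal D).det = 1 := by
      rw [Matrix.det_diagonal, Fin.prod_univ_two]
      fin_cases i <;> simp [D, hx0]
    have hx1' : x ^ 2 - 1 ≠ 0 := sub_ne_zero.mpr hx1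
    let a : Matrix.SpecialLinearGroup (Fin 2) F := ⟨Matrix.diagonal D, hdet⟩
    let b : Matrix.SpecialLinearGroup (Fin 2) F :=
      ⟨Matrix.transvection i j (c / (x ^ 2 - 1)), Matrix.det_transvection_of_ne _ _ hij _⟩
    refine ⟨a, b, ?_⟩
    rw [commutatorElement_def, mul_inv_eq_iff_eq_mul, mul_inv_eq_iff_eq_mul]
    apply Subtype.ext
    show Matrix.diagonal D * Matrix.transvection i j (c / (x ^ 2 - 1)) =
      (t : Matrix (Fin 2) (Fin 2) F) * Matrix.transvection i j (c / (x ^ 2 - 1)) * Matrix.diagonal D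
    rw [ht]
    ext p r
    fin_cases i <;> fin_cases j <;> fin_cases p <;> fin_cases r <;>
      simp [D, Matrix.mul_apply, Matrix.transvection, Matrix.single_apply, Fin.sum_univ_two,
        Matrix.diagonal_apply] at hij ⊢ <;>
      field_simp <;> ring

end Cfsg.Agent.S0836
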