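import Cfsg.Statements.S0838
import Cfsg.Agent.Lib.Geometry.SymmDiscr
-- import your own Cfsg.Agent.* helpers here

set_option autoImplicit false
open Cfsg

namespace Cfsg.Agent.S0838

/-- Over a finite field with 2 ≠ 0 and n odd: two quadratic forms Q₁, Q₂ on F^n with non-degenerate polar forms are similar — there are an invertible linear map g and a scalar c ≠ 0 with Q₂ (g v) = c · Q₁ v for all v. -/
theorem result {F : Type*} [Field F] [Fintype F] (h2 : (2 : F) ≠ 0) {n : ℕ} (hn : Odd n) (Q₁ Q₂ : QuadraticForm F (Fin n → F)) (h₁ : (QuadraticMap.polarBilin Q₁).Nondegenerate) (h₂ : (QuadraticMap.polarBilin Q₂).Nondegenerate) : ∃ (g : (Fin n → F) ≃ₗ[F] (Fin n → F)) (c : F), c ≠ 0 ∧ ∀ v, Q₂ (g v) = c * Q₁ v := by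
  classical
  haveI : Invertible (2 : F) := invertibleOfNonzero h2
  set B₁ := QuadraticMap.associated (R := F) Q₁ with hB₁
  set B₂ := QuadraticMap.associated (R := F) Q₂ with hB₂
  have hS : ∀ Q : QuadraticForm F (Fin n → F),
      LinearMap.BilinForm.IsSymm (QuadraticMap.associated (R := F) Q) :=
    fun Q => ⟨fun x y => QuadraticMap.associated_isSymm F Q x y⟩
  have hnd : ∀ Q : QuadraticForm F (Fin n → F), (QuadraticMap.polarBilin Q).Nondegenerate →
      LinearMap.BilinForm.Nondegenerate (QuadraticMap.associated (R := F) Q) := by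
    intro Q h
    refine (LinearMap.IsRefl.nondegenerate_iff_separatingLeft
      (fun x y hxy => by rw [← hxy]; exact QuadraticMap.associated_isSymm F Q y x)).mpr fun x hx => ?_
    refine h.1 x fun y => ?_
    have hy := hx y
    rw [QuadraticMap.associated_apply] at hy
    rw [QuadraticMap.polarBilin_apply_apply, QuadraticMap.polar]
    exact ((isUnit_of_invertible (⅟(2 : F))).smul_eq_zero).mp hy
  set e := Pi.basisFun F (Fin n)
  set D₁ := (LinearMap.BilinForm.toMatrix e B₁).det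
  set D₂ := (LinearMap.BilinForm.toMatrix e B₂).det
  have hval : ∀ (Q : QuadraticForm F (Fin n → F)) x, QuadraticMap.associated (R := F) Q x x = Q x :=
    fun Q x => QuadraticMap.associated_eq_self_apply F Q x
  by_cases hsq : IsSquare (D₁ * D₂)
  · obtain ⟨g, hg⟩ := Cfsg.Agent.Lib.Geometry.exists_isometry_of_isSquare_det_mul h2 B₁ B₂ (hS _) (hS _) (hnd _ h₁)
      (hnd _ h₂) e hsq
    exact ⟨g, 1, one_ne_zero, fun v => by rw [one_mul, ← hval, ← hB₂, hg, hB₁, hval]⟩
  obtain ⟨α, hα⟩ := FiniteField.exists_nonsquare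
    (F := F) (fun hc => h2 (by haveI := (ringChar.eq_iff).mp hc; exact CharTwo.two_eq_zero))
  have hα0 : α ≠ 0 := fun h => hα (h ▸ IsSquare.zero)
  have hB₁' : LinearMap.BilinForm.Nondegenerate (α • B₁) := by
    refine ⟨fun x hx => (hnd _ h₁).1 x fun y => ?_, fun y hy => (hnd _ h₁).2 y fun x => ?_⟩
    · exact (mul_eq_zero.mp (show α * B₁ x y = 0 from hx y)).resolve_left hα0
    · exact (mul_eq_zero.mp (show α * B₁ x y = 0 from hy x)).resolve_left hα0
  have hS₁' : LinearMap.BilinForm.IsSymm (α • B₁) :=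
    ⟨fun x y => by simp [(hS Q₁).eq x y, hB₁]⟩
  have hsq' : IsSquare ((LinearMap.BilinForm.toMatrix e (α • B₁)).det * D₂) := by
    rw [map_smul, Matrix.det_smul, Fintype.card_fin]
    obtain ⟨j, rfl⟩ := hn
    obtain ⟨r, hr⟩ := Cfsg.Agent.Lib.Geometry.isSquare_mul_iff_of_not_isSquare hα hsq
    refine ⟨α ^ j * r, ?_⟩
    linear_combination (α ^ j) ^ 2 * hr
  obtain ⟨g, hg⟩ := Cfsg.Agent.Lib.Geometry.exists_isometry_of_isSquare_det_mul h2 (α • B₁) B₂ hS₁' (hS _) hB₁'
    (hnd _ h₂) e hsq'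
  exact ⟨g, α, hα0, fun v => by rw [← hval, ← hB₂, hg]; simp [hB₁, hval]⟩

end Cfsg.Agent.S0838
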