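import Cfsg.Statements.S0841

import Mathlib.Tactic.Group
import Mathlib.Tactic.Linarith
import Mathlib.Tactic.Ring
-- import your own Cfsg.Agent.* helpers here

set_option autoImplicit false
open Cfsg

namespace Cfsg.Agent.S0841

/-- If the commutator subgroup of G lies in the centre, then for all x, y in G and every natural number n one has (x * y) ^ n = x ^ n * y ^ n * c ^ (n * (n - 1) / 2) with c = y⁻¹ * x⁻¹ * y * x. -/
theorem result {G : Type*} [Group G] (hG : commutator G ≤ Subgroup.center G) (x y : G) (n : ℕ) : (x * y) ^ n = x ^ n * y ^ n * (y⁻¹ * x⁻¹ * y * x) ^ (n * (n - 1) / 2) := by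
  have hc : y⁻¹ * x⁻¹ * y * x ∈ Subgroup.center G := hG (by
    have := Subgroup.commutator_mem_commutator (H₁ := (⊤ : Subgroup G)) (H₂ := ⊤)
      (Subgroup.mem_top y⁻¹) (Subgroup.mem_top x⁻¹)
    simpa [commutatorElement_def, commutator] using this)
  set c := y⁻¹ * x⁻¹ * y * x with hcdef
  have hc' : ∀ z : G, z * c = c * z := Subgroup.mem_center_iff.mp hc
  have hyx : y * x = x * y * c := by rw [hcdef]; group
  have hpow : ∀ k : ℕ, y ^ k * x = x * y ^ k * c ^ k := by
    intro k
    induction k with
    | zero => simp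
    | succ k ih =>
      have e : c ^ k * y = y * c ^ k := ((Commute.pow_right (hc' y) k).symm).eq
      calc y ^ (k + 1) * x = y ^ k * (y * x) := by rw [pow_succ, mul_assoc]
        _ = y ^ k * x * (y * c) := by rw [hyx]; simp only [mul_assoc]
        _ = x * y ^ k * (c ^ k * y) * c := by rw [ih]; simp only [mul_assoc]
        _ = x * y ^ k * (y * c ^ k) * c := by rw [e]
        _ = x * y ^ (k + 1) * c ^ (k + 1) := by
          rw [pow_succ y, pow_succ c]; simp only [mul_assoc]
  induction n with
  | zero => simp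
  | succ k ih =>
    have h2 : (k + 1) * (k + 1 - 1) / 2 = k + k * (k - 1) / 2 := by
      rw [Nat.add_sub_cancel]
      obtain ⟨j, hj⟩ : 2 ∣ k * (k - 1) := (Nat.even_mul_pred_self k).two_dvd
      have : (k + 1) * k = 2 * k + 2 * j := by
        rcases k with _ | k
        · simp at hj ⊢; omega
        · simp only [Nat.add_sub_cancel] at hj; nlinarith
      rw [this, hj]
      omega
    have e : c ^ (k * (k - 1) / 2) * x = x * c ^ (k * (k - 1) / 2) :=
      ((Commute.pow_right (hc' x) _).symm).eq
    have e' : c ^ (k + k * (k - 1) / 2) * y = y * c ^ (k + k * (k - 1) / 2) :=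
      ((Commute.pow_right (hc' y) _).symm).eq
    calc (x * y) ^ (k + 1) = x ^ k * y ^ k * (c ^ (k * (k - 1) / 2) * x) * y := by
          rw [pow_succ, ih]; simp only [mul_assoc]
      _ = x ^ k * (y ^ k * x) * c ^ (k * (k - 1) / 2) * y := by
          rw [e]; simp only [mul_assoc]
      _ = x ^ k * (x * y ^ k) * (c ^ (k + k * (k - 1) / 2) * y) := by
          rw [hpow, pow_add]; simp only [mul_assoc]
      _ = x ^ (k + 1) * y ^ (k + 1) * c ^ ((k + 1) * (k + 1 - 1) / 2) := by
          rw [e', h2, pow_succ x, pow_succ y]; simp only [mul_assoc]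

end Cfsg.Agent.S0841
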