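import Cfsg.Statements.S0849
import Cfsg.Agent.Lib.Characters.Induced
-- import your own Cfsg.Agent.* helpers here

set_option autoImplicit false
open Cfsg

namespace Cfsg.Agent.S0849

/-- Let H be a subgroup of a finite group G and S a subset of H that is mapped to itself under conjugation by H, is disjoint from its conjugate by any element outside H, and is closed under inverses. Let φ be a class function of H vanishing on H away from S, and let u, v be involutions of G. Then the sum of the induced function of φ over all products a * b with a conjugate to u and b conjugate to v equals the index of H times the sum of φ (a * b) over such pairs with a and b in H. -/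
theorem result {G : Type*} [Group G] [Fintype G] (H : Subgroup G) (S : Set G) (hSH : S ⊆ H) (hHS : ∀ h ∈ H, ∀ s ∈ S, h * s * h⁻¹ ∈ S) (hTI : ∀ g : G, g ∉ H → ∀ s ∈ S, g * s * g⁻¹ ∉ S) (hinv : ∀ s ∈ S, s⁻¹ ∈ S) (φ : H → ℂ) (hφ : Cfsg.IsClassFunction H φ) (hφS : ∀ x : H, (x : G) ∉ S → φ x = 0) (u v : G) (hu : orderOf u = 2) (hv : orderOf v = 2) : ∑ᶠ p ∈ {p : G × G | IsConj u p.1 ∧ IsConj v p.2}, Cfsg.indFun H φ (p.1 * p.2) = (H.index : ℂ) * ∑ᶠ p ∈ {p : H × H | IsConj u (p.1 : G) ∧ IsConj v (p.2 : G)}, φ (p.1 * p.2) := by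
  classical
  haveI := Fintype.ofFinite H
  rw [finsum_mem_eq_finite_toFinset_sum _ (Set.toFinite _),
    finsum_mem_eq_finite_toFinset_sum _ (Set.toFinite _)]
  set A := (Set.toFinite {p : G × G | IsConj u p.1 ∧ IsConj v p.2}).toFinset with hA
  set B := (Set.toFinite {p : H × H | IsConj u (p.1 : G) ∧ IsConj v (p.2 : G)}).toFinset with hB
  have huu : u * u = 1 := by rw [← sq, ← hu]; exact pow_orderOf_eq_one u
  have hvv : v * v = 1 := by rw [← sq, ← hv]; exact pow_orderOf_eq_one v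
  have hinv' : ∀ {w x : G}, w * w = 1 → IsConj w x → x⁻¹ = x := by
    intro w x hw hx
    obtain ⟨c, rfl⟩ := isConj_iff.mp hx
    refine inv_eq_of_mul_eq_one_left ?_
    rw [show c * w * c⁻¹ * (c * w * c⁻¹) = c * (w * w) * c⁻¹ by group, hw, mul_one, mul_inv_cancel]
  have hmemH : ∀ p ∈ A, p.1 * p.2 ∈ S → p.1 ∈ H ∧ p.2 ∈ H := by
    intro p hp hs
    rw [hA, Set.Finite.mem_toFinset] at hp
    have hx : p.1⁻¹ = p.1 := hinv' huu hp.1
    have hy : p.2⁻¹ = p.2 := hinv' hvv hp.2
    have h1 : p.1 ∈ H := by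
      by_contra hne
      apply hTI p.1 hne _ hs
      have := hinv _ hs
      rw [mul_inv_rev, hy, hx] at this
      have e : p.1 * p.1 = 1 := by
        nth_rewrite 1 [← hx]
        exact inv_mul_cancel _
      rw [hx, ← mul_assoc p.1 p.1, e, one_mul]
      exact this
    refine ⟨h1, ?_⟩
    have := H.mul_mem (H.inv_mem h1) (hSH hs)
    rwa [inv_mul_cancel_left] at this
  have hsum : ∑ p ∈ A, extendByZero H φ (p.1 * p.2) = ∑ q ∈ B, φ (q.1 * q.2) := by
    let ι : H × H ↪ G × G := ⟨fun q => ((q.1 : G), (q.2 : G)), fun q q' h =>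
      Prod.ext (Subtype.ext (congrArg Prod.fst h)) (Subtype.ext (congrArg Prod.snd h))⟩
    rw [← Finset.sum_subset (s₁ := B.map ι) (fun p hp => ?_) (fun p hp hpn => ?_), Finset.sum_map]
    · refine Finset.sum_congr rfl fun q _ => ?_
      exact Lib.Characters.extendByZero_coe H φ (q.1 * q.2)
    · obtain ⟨q, hq, rfl⟩ := Finset.mem_map.mp hp
      rw [hB, Set.Finite.mem_toFinset] at hq
      rw [hA, Set.Finite.mem_toFinset]
      exact hq
    · by_cases hmem : p.1 * p.2 ∈ H
      · rw [Lib.Characters.extendByZero_of_mem H φ hmem]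
        refine hφS _ fun hs => hpn ?_
        obtain ⟨h1, h2⟩ := hmemH p hp hs
        refine Finset.mem_map.mpr ⟨(⟨p.1, h1⟩, ⟨p.2, h2⟩), ?_, rfl⟩
        rw [hA, Set.Finite.mem_toFinset] at hp
        rw [hB, Set.Finite.mem_toFinset]
        exact hp
      · exact Lib.Characters.extendByZero_of_not_mem H φ hmem
  have hinvA : ∀ t : G, ∑ p ∈ A, extendByZero H φ (t⁻¹ * (p.1 * p.2) * t) =
      ∑ p ∈ A, extendByZero H φ (p.1 * p.2) := by
    intro t
    have hc : ∀ (c : G) p, p ∈ A → (c * p.1 * c⁻¹, c * p.2 * c⁻¹) ∈ A := by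
      intro c p hp
      rw [hA, Set.Finite.mem_toFinset] at hp ⊢
      exact ⟨hp.1.trans (isConj_iff.mpr ⟨c, rfl⟩), hp.2.trans (isConj_iff.mpr ⟨c, rfl⟩)⟩
    refine Finset.sum_bij' (fun p _ => (t⁻¹ * p.1 * t⁻¹⁻¹, t⁻¹ * p.2 * t⁻¹⁻¹))
      (fun p _ => (t * p.1 * t⁻¹, t * p.2 * t⁻¹)) (fun p hp => hc t⁻¹ p hp)
      (fun p hp => hc t p hp) (fun p _ => by simp [mul_assoc]) (fun p _ => by simp [mul_assoc])
      fun p _ => congrArg (extendByZero H φ) (by simp [mul_assoc])
  simp only [Lib.Characters.indFun_apply, ← Finset.mul_sum]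
  rw [Finset.sum_comm, Finset.sum_congr rfl fun t _ => hinvA t, hsum, Finset.sum_const,
    Finset.card_univ, nsmul_eq_mul, ← Nat.card_eq_fintype_card, ← H.index_mul_card, Nat.cast_mul]
  have : (Nat.card H : ℂ) ≠ 0 := Lib.Characters.natCard_ne_zero_complex
  field_simp

end Cfsg.Agent.S0849
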