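import Cfsg.Statements.S0850
import Cfsg.Agent.Lib.Characters.TI
import Mathlib.Tactic.Group
-- import your own Cfsg.Agent.* helpers here

set_option autoImplicit false
open Cfsg

namespace Cfsg.Agent.S0850

/-- Let K be a subgroup of the finite group G that meets each conjugate by an element outside its normalizer N trivially, is properly contained in N, and contains the centralizer of each of its non-identity elements (a T.I. subgroup with Frobenius normalizer). Then no element of N outside K is conjugate in G to an element of K, and for every class function ϑ of N that vanishes on N away from K and at the identity, the function induced from ϑ to G agrees with ϑ on all of N. -/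
theorem result {G : Type*} [Group G] [Fintype G] (K : Subgroup G) (hTI : ∀ g : G, g ∉ Subgroup.normalizer (K : Set G) → ∀ k ∈ K, g * k * g⁻¹ ∈ K → k = 1) (hlt : K < Subgroup.normalizer (K : Set G)) (hC : ∀ k ∈ K, k ≠ 1 → Subgroup.centralizer ({k} : Set G) ≤ K) : (∀ x ∈ Subgroup.normalizer (K : Set G), x ∉ K → ∀ g : G, g * x * g⁻¹ ∉ K) ∧ ∀ (ϑ : Subgroup.normalizer (K : Set G) → ℂ), Cfsg.IsClassFunction (Subgroup.normalizer (K : Set G)) ϑ → (∀ x : Subgroup.normalizer (K : Set G), (x : G) ∉ K → ϑ x = 0) → ϑ 1 = 0 → ∀ x : Subgroup.normalizer (K : Set G), Cfsg.indFun (Subgroup.normalizer (K : Set G)) ϑ x = ϑ x := by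
  classical
  set N := Subgroup.normalizer (K : Set G) with hN
  have hKN : K ≤ N := Subgroup.le_normalizer
  have hfirst : ∀ x ∈ N, x ∉ K → ∀ g : G, g * x * g⁻¹ ∉ K := by
    intro x hxN hxK g hgx
    have hx1 : x ≠ 1 := fun h => hxK (h ▸ K.one_mem)
    -- an element of prime order in `N` outside `K`, conjugate into `K`
    obtain ⟨q, hq, hqd⟩ := Nat.exists_prime_and_dvd
      (fun h => hx1 (orderOf_eq_one_iff.mp h) : orderOf x ≠ 1)
    haveI : Fact q.Prime := ⟨hq⟩
    obtain ⟨m, hm⟩ := hqd
    have hord : orderOf (x ^ m) = q := by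
      have hmpos : 0 < m := by
        rcases Nat.eq_zero_or_pos m with h | h
        · have := orderOf_pos x
          rw [hm, h, mul_zero] at this
          exact absurd this (lt_irrefl 0)
        · exact h
      rw [orderOf_pow_of_dvd hmpos.ne' ⟨q, by rw [hm, mul_comm]⟩, hm, Nat.mul_div_cancel _ hmpos]
    have hy1 : x ^ m ≠ 1 := fun h => by
      rw [h, orderOf_one] at hord
      exact hq.ne_one hord.symm
    have hyK : x ^ m ∉ K := fun hmem =>
      hxK (hC _ hmem hy1 (Subgroup.mem_centralizer_singleton_iff.mpr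
        ((Commute.refl x).pow_right m).eq))
    have hqK : q ∣ Nat.card K := by
      have h1 : g * x ^ m * g⁻¹ ∈ K := by rw [← conj_pow]; exact K.pow_mem hgx m
      have h2 : orderOf (g * x ^ m * g⁻¹) = q := by
        rw [show g * x ^ m * g⁻¹ = MulAut.conj g (x ^ m) from rfl, MulEquiv.orderOf_eq, hord]
      rw [← h2, show orderOf (g * x ^ m * g⁻¹) = orderOf (⟨_, h1⟩ : K) from
        (Subgroup.orderOf_mk _ h1).symm]
      exact orderOf_dvd_natCard _
    let Y := Subgroup.zpowers (x ^ m)
    have hYN : Y ≤ N := Subgroup.zpowers_le.mpr (N.pow_mem hxN m)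
    have hY : IsPGroup q Y := IsPGroup.of_card (n := 1) (by rw [Nat.card_zpowers, hord, pow_one])
    letI : MulAction Y K :=
      { smul := fun y k => ⟨(y : G) * k * (y : G)⁻¹,
          (Subgroup.mem_normalizer_iff.mp (hYN y.2) _).mp k.2⟩
        one_smul := fun k => Subtype.ext (by
          show (1 : G) * k * (1 : G)⁻¹ = _
          simp)
        mul_smul := fun a b k => Subtype.ext (by
          show (a : G) * b * k * ((a : G) * b)⁻¹ = (a : G) * ((b : G) * k * (b : G)⁻¹) * (a : G)⁻¹
          simp [mul_assoc]) }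
    obtain ⟨b, hb, hb1⟩ := hY.exists_fixed_point_of_prime_dvd_card_of_fixed_point K hqK
      (a := 1) (fun y => Subtype.ext (by
        show (y : G) * (1 : G) * (y : G)⁻¹ = _
        simp))
    have h3 : x ^ m * (b : G) * (x ^ m)⁻¹ = b :=
      congrArg Subtype.val (hb ⟨x ^ m, Subgroup.mem_zpowers _⟩)
    refine hyK (hC b b.2 (fun h => hb1 (Subtype.ext h.symm)) ?_)
    exact Subgroup.mem_centralizer_singleton_iff.mpr (mul_inv_eq_iff_eq_mul.mp h3)
  refine ⟨hfirst, fun ϑ hcl hϑK hϑ1 x => ?_⟩
  by_cases hxK : (x : G) ∈ K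
  · by_cases hx1 : x = 1
    · subst hx1
      rw [OneMemClass.coe_one, Lib.Characters.indFun_one, hϑ1, mul_zero]
    refine Lib.Characters.indFun_eq_self N (K : Set G) hcl hϑK x fun g hg hgK => hx1 ?_
    have h1 := hTI g hg _ hgK (by simpa [mul_assoc] using hxK)
    rw [show g⁻¹ * (x : G) * g = g⁻¹ * (x : G) * (g⁻¹)⁻¹ by rw [inv_inv], conj_eq_one_iff] at h1
    exact Subtype.ext h1
  · rw [hϑK x hxK, Lib.Characters.indFun_apply, Finset.sum_eq_zero, mul_zero]
    intro g _
    by_cases hm : g⁻¹ * (x : G) * g ∈ N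
    · rw [Lib.Characters.extendByZero_of_mem _ _ hm]
      exact hϑK _ (by simpa using hfirst x x.2 hxK g⁻¹)
    · rw [Lib.Characters.extendByZero_of_not_mem _ _ hm]

end Cfsg.Agent.S0850
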