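import Cfsg.Statements.S0856
import Cfsg.Agent.Lib.Characters.Clifford
-- import your own Cfsg.Agent.* helpers here

set_option autoImplicit false
open Cfsg
open scoped ComplexConjugate

namespace Cfsg.Agent.S0856

/-- Let N be a normal subgroup of the finite group G and φ, ϑ irreducible characters of N that are invariant under conjugation by G, such that the pointwise product φ * ϑ is irreducible and ϑ is the restriction of an irreducible character χ of G. Then multiplication by χ is a bijection from the set of irreducible characters of G having nonzero inner product with the function induced from φ onto the set of those having nonzero inner product with the function induced from φ * ϑ. -/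
theorem result {G : Type*} [Group G] [Fintype G] (N : Subgroup G) [hN : N.Normal] (φ ϑ : N → ℂ) (hφ : Cfsg.IsIrrCharacter N φ) (hϑ : Cfsg.IsIrrCharacter N ϑ) (hφinv : ∀ (g : G) (n : N), φ ⟨g * n * g⁻¹, hN.conj_mem (n : G) n.2 g⟩ = φ n) (hϑinv : ∀ (g : G) (n : N), ϑ ⟨g * n * g⁻¹, hN.conj_mem (n : G) n.2 g⟩ = ϑ n) (hprod : Cfsg.IsIrrCharacter N (φ * ϑ)) (χ : G → ℂ) (hχ : Cfsg.IsIrrCharacter G χ) (hext : ∀ n : N, χ n = ϑ n) : Set.BijOn (fun β : G → ℂ => β * χ) {β : G → ℂ | Cfsg.IsIrrCharacter G β ∧ Cfsg.classInner (Cfsg.indFun N φ) β ≠ 0} {ψ : G → ℂ | Cfsg.IsIrrCharacter G ψ ∧ Cfsg.classInner (Cfsg.indFun N (φ * ϑ)) ψ ≠ 0} := by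
  classical
  haveI := Fintype.ofFinite N
  haveI := Fintype.ofFinite (Cfsg.IrrCharacter G)
  have hχcl := Lib.Characters.IsCharacter.isClassFunction
    (Lib.Characters.IsIrrCharacter.isCharacter hχ)
  have hprod_eq : indFun N φ * χ = indFun N (φ * ϑ) := by
    rw [← Lib.Characters.indFun_mul_restrict N φ hχcl]
    congr 1
    funext n
    simp [hext]
  have hnorm : ∀ θ : N → ℂ, IsIrrCharacter N θ →
      (∀ (g : G) (n : N), θ ⟨g * n * g⁻¹, hN.conj_mem (n : G) n.2 g⟩ = θ n) →
      (Nat.card N : ℂ) * classInner (indFun N θ) (indFun N θ) = Nat.card G := by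
    intro θ hθ hinv
    rw [Lib.Characters.classInner_indFun_self N hθ]
    have htop : Lib.Characters.inertia N θ = ⊤ := by
      refine eq_top_iff.mpr fun g _ => (Lib.Characters.mem_inertia_iff N).mpr (funext fun n => ?_)
      have h1 := hinv g n
      have h2 := hinv g⁻¹ n
      simp only [inv_inv] at h2
      first
        | exact h1
        | exact h2
    rw [htop, Subgroup.card_top]
  obtain ⟨m, hm, hm'⟩ := Lib.Characters.IsCharacter.exists_nat_decomp
    (Lib.Characters.IsCharacter.indFun N (Lib.Characters.IsIrrCharacter.isCharacter hφ))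
  have hP : ∀ β : Cfsg.IrrCharacter G, IsCharacter G ((β : G → ℂ) * χ) := fun β =>
    Lib.Characters.IsCharacter.mul (Lib.Characters.irr_isCharacter β)
      (Lib.Characters.IsIrrCharacter.isCharacter hχ)
  choose k hk using fun β γ : Cfsg.IrrCharacter G =>
    Lib.Characters.IsCharacter.exists_classInner_nat (hP β) (hP γ)
  have hsum : indFun N (φ * ϑ) = ∑ β, (m β : ℂ) • ((β : G → ℂ) * χ) := by
    rw [← hprod_eq, hm, Finset.sum_mul]
    simp only [smul_mul_assoc]
  have hk1 : ∀ β, 1 ≤ k β β := by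
    intro β
    rcases Nat.eq_zero_or_pos (k β β) with h | h
    · exfalso
      have h0 := Lib.Characters.classInner_self_eq_zero
        (show classInner ((β : G → ℂ) * χ) ((β : G → ℂ) * χ) = 0 by rw [hk, h, Nat.cast_zero])
      have h1 := congrFun h0 1
      simp only [Pi.mul_apply, Pi.zero_apply, mul_eq_zero] at h1
      rcases h1 with h1 | h1
      exacts [Lib.Characters.IsIrrCharacter.apply_one_ne_zero β.2 h1,
        Lib.Characters.IsIrrCharacter.apply_one_ne_zero hχ h1]
    · exact h
  have htot : ∑ β, m β * m β = ∑ β, ∑ γ, m β * (m γ * k β γ) := by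
    have e1 := hnorm φ hφ hφinv
    have e2 := hnorm (φ * ϑ) hprod fun g n => by
      simp only [Pi.mul_apply]; rw [hφinv g n, hϑinv g n]
    rw [← e2] at e1
    have e3 := mul_left_cancel₀ Lib.Characters.natCard_ne_zero_complex e1
    rw [hsum] at e3
    simp only [Lib.Characters.classInner_sum_left, Lib.Characters.classInner_sum_right,
      Lib.Characters.classInner_smul_left, Lib.Characters.classInner_natCast_smul_right, hk] at e3
    conv_lhs at e3 => rw [hm, Lib.Characters.classInner_sum_sum]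
    simp only [map_natCast] at e3
    have e4 : ∑ x, m x * m x = ∑ x, m x * ∑ y, m y * k y x := by exact_mod_cast e3
    rw [Finset.sum_comm]
    refine e4.trans (Finset.sum_congr rfl fun x _ => ?_)
    rw [Finset.mul_sum]
    exact Finset.sum_congr rfl fun y _ => by ring
  have hle : ∀ β, m β * m β ≤ m β * (m β * k β β) := fun β => by
    have := hk1 β
    gcongr
    exact Nat.le_mul_of_pos_right _ this
  have hdiag : ∀ β, m β * (m β * k β β) ≤ ∑ γ, m β * (m γ * k β γ) := fun β =>
    Finset.single_le_sum (f := fun γ => m β * (m γ * k β γ)) (fun _ _ => Nat.zero_le _)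
      (Finset.mem_univ β)
  have heq : ∀ β, m β * m β = ∑ γ, m β * (m γ * k β γ) := fun β =>
    (Finset.sum_eq_sum_iff_of_le fun β _ => (hle β).trans (hdiag β)).mp htot β (Finset.mem_univ β)
  have hone : ∀ β, m β ≠ 0 → k β β = 1 := fun β hb => by
    have h := heq β ▸ hdiag β
    have h2 : m β * m β * k β β ≤ m β * m β * 1 := by rw [mul_one, mul_assoc]; exact h
    exact le_antisymm (Nat.le_of_mul_le_mul_left h2 (by positivity)) (hk1 β)
  have hoff : ∀ β γ, m β ≠ 0 → m γ ≠ 0 → β ≠ γ → k β γ = 0 := by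
    intro β γ hb hg hne
    have h := heq β
    rw [← Finset.add_sum_erase _ _ (Finset.mem_univ β), hone β hb, mul_one] at h
    have h0 : ∑ x ∈ Finset.univ.erase β, m β * (m x * k β x) = 0 := by omega
    have := Finset.sum_eq_zero_iff.mp h0 γ (Finset.mem_erase.mpr ⟨hne.symm, Finset.mem_univ _⟩)
    simpa [hb, hg] using this
  have hmem : ∀ β : G → ℂ, (hb : IsIrrCharacter G β) → classInner (indFun N φ) β ≠ 0 →
      m ⟨β, hb⟩ ≠ 0 := fun β hb h h0 => h (by
    have := hm' ⟨β, hb⟩
    rw [h0, Nat.cast_zero] at this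
    exact this)
  have hirr : ∀ β, m β ≠ 0 → IsIrrCharacter G ((β : G → ℂ) * χ) := fun β hb =>
    (Lib.Characters.IsCharacter.isIrr_iff (hP β)).mpr (by rw [hk, hone β hb, Nat.cast_one])
  have hin : ∀ β, m β ≠ 0 →
      classInner (indFun N (φ * ϑ)) ((β : G → ℂ) * χ) = m β := by
    intro β hb
    rw [hsum, Lib.Characters.classInner_sum_left, Finset.sum_eq_single β]
    · rw [Lib.Characters.classInner_smul_left, hk, hone β hb, Nat.cast_one, mul_one]
    · intro γ _ hne
      rw [Lib.Characters.classInner_smul_left, hk]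
      by_cases hg : m γ = 0
      · simp [hg]
      · simp [hoff γ β hg hb hne]
    · simp
  refine ⟨fun β hβ => ?_, fun β hβ γ hγ he => ?_, fun ψ hψ => ?_⟩
  · obtain ⟨hb, hb'⟩ := hβ
    have h := hmem β hb hb'
    refine ⟨hirr _ h, ?_⟩
    show classInner (indFun N (φ * ϑ)) (β * χ) ≠ 0
    rw [hin ⟨β, hb⟩ h]
    exact Nat.cast_ne_zero.mpr h
  · obtain ⟨hb, hb'⟩ := hβ
    obtain ⟨hg, hg'⟩ := hγ
    by_contra hne
    have h1 := hk ⟨β, hb⟩ ⟨γ, hg⟩
    rw [hoff _ _ (hmem β hb hb') (hmem γ hg hg') fun h => hne (congrArg Subtype.val h)] at h1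
    have h2 := hk ⟨β, hb⟩ ⟨β, hb⟩
    rw [hone _ (hmem β hb hb')] at h2
    simp only at he h1 h2
    rw [← he, h2] at h1
    simp at h1
  · obtain ⟨hp, hp'⟩ := hψ
    rw [hsum, Lib.Characters.classInner_sum_left] at hp'
    obtain ⟨β, -, hβ⟩ := Finset.exists_ne_zero_of_sum_ne_zero hp'
    rw [Lib.Characters.classInner_smul_left, mul_ne_zero_iff] at hβ
    have hb : m β ≠ 0 := fun h => hβ.1 (by rw [h, Nat.cast_zero])
    refine ⟨β, ⟨β.2, by rw [hm' β]; exact hβ.1⟩, ?_⟩
    by_contra hne
    exact hβ.2 (Lib.Characters.IsIrrCharacter.classInner_ne (hirr β hb) hp hne)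

end Cfsg.Agent.S0856
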