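import Cfsg.Statements.S0859
import Cfsg.Agent.Lib.Characters.RelativeM

set_option autoImplicit false
open Cfsg

namespace Cfsg.Agent.S0859

/-- Let G be a finite solvable group and N a normal subgroup such that for every prime p every Sylow p-subgroup of N is abelian. Suppose every irreducible character of G is induced from an irreducible character of some subgroup containing N whose restriction to N is irreducible. Then every irreducible character of G is induced from a character of degree 1 of some subgroup. -/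
theorem result {G : Type*} [Group G] [Fintype G] [Group.IsSolvable G] (N : Subgroup G) [N.Normal] (hab : ∀ (p : ℕ) [Fact p.Prime] (P : Sylow p N), ∀ a ∈ P, ∀ b ∈ P, a * b = b * a) (hrel : ∀ χ : G → ℂ, Cfsg.IsIrrCharacter G χ → ∃ (H : Subgroup G) (hNH : N ≤ H) (ψ : H → ℂ), Cfsg.IsIrrCharacter H ψ ∧ Cfsg.indFun H ψ = χ ∧ Cfsg.IsIrrCharacter N (fun n : N => ψ ⟨(n : G), hNH n.2⟩)) (χ : G → ℂ) (hχ : Cfsg.IsIrrCharacter G χ) : ∃ (U : Subgroup G) (lam : U → ℂ), Cfsg.IsCharacter U lam ∧ lam 1 = 1 ∧ Cfsg.indFun U lam = χ := by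
  classical
  obtain ⟨H, hNH, ψ, hψ, hind, hψN⟩ := hrel χ hχ
  haveI := Fintype.ofFinite H
  let e : N.subgroupOf H ≃* N := Subgroup.subgroupOfEquivOfLe hNH
  have hab' : ∀ (p : ℕ) [Fact p.Prime] (P : Sylow p (N.subgroupOf H)),
      ∀ a ∈ P, ∀ b ∈ P, a * b = b * a := by
    intro p _ P a ha b hb
    obtain ⟨Q, hQ⟩ := (P.isPGroup'.map e.toMonoidHom).exists_le_sylow
    apply e.injective
    rw [map_mul, map_mul]
    exact hab p Q _ (hQ ⟨a, ha, rfl⟩) _ (hQ ⟨b, hb, rfl⟩)
  obtain ⟨U, lam, hU⟩ := Lib.Characters.exists_monomial_of_restrict_irr (N.subgroupOf H) hab' hψ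
    (Lib.Characters.IsIrrCharacter.comp_equiv hψN e)
  let f := U.equivMapOfInjective H.subtype H.subtype_injective
  refine ⟨U.map H.subtype, fun u => (lam (f.symm u) : ℂ), ?_, by simp, ?_⟩
  · exact Lib.Characters.IsIrrCharacter.isCharacter
      (Lib.Characters.isIrrCharacter_unitsHom (lam.comp f.symm.toMonoidHom))
  · rw [← hind, hU, Lib.Characters.indFun_indFun]
    rfl

end Cfsg.Agent.S0859
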