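import Cfsg.Statements.S0869

import Mathlib.Data.Fintype.Card
import Mathlib.GroupTheory.Archimedean
import Mathlib.Algebra.Group.Subgroup.ZPowers.Basic
import Mathlib.RingTheory.Int.Basic
import Mathlib.Algebra.BigOperators.Pi
import Mathlib.Algebra.Group.Subgroup.ZPowers.Lemmas
import Mathlib.Tactic.Push
-- import your own Cfsg.Agent.* helpers here

set_option autoImplicit false
open Cfsg

namespace Cfsg.Agent.S0869

/-- Let S be a nonempty finite type and R an additive subgroup of the integer-valued functions on S that is closed under pointwise multiplication. If the constant function 1 is not in R, then there exist a point x of S and a prime p such that p divides f x for every f in R. -/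
theorem result {S : Type*} [Finite S] [Nonempty S] (R : AddSubgroup (S → ℤ)) (hmul : ∀ f ∈ R, ∀ g ∈ R, f * g ∈ R) (h1 : (1 : S → ℤ) ∉ R) : ∃ (x : S) (p : ℕ), p.Prime ∧ ∀ f ∈ R, (p : ℤ) ∣ f x := by
  classical
  haveI := Fintype.ofFinite S
  by_contra hno
  push Not at hno
  apply h1
  have hx : ∀ x : S, ∃ f ∈ R, f x = 1 := by
    intro x
    let J : AddSubgroup ℤ := R.map (Pi.evalAddMonoidHom (fun _ : S => ℤ) x)
    obtain ⟨a, ha⟩ := Int.subgroup_cyclic J
    have hdvd : ∀ f ∈ R, a ∣ f x := by
      intro f hf
      have : f x ∈ J := ⟨f, hf, rfl⟩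
      rw [ha, ← AddSubgroup.zmultiples_eq_closure, Int.mem_zmultiples_iff] at this
      exact this
    have hone : a.natAbs = 1 := by
      by_contra hne
      obtain ⟨p, hp, hpa⟩ := Nat.exists_prime_and_dvd hne
      obtain ⟨f, hf, hnd⟩ := hno x p hp
      exact hnd ((Int.natCast_dvd.mpr hpa).trans (hdvd f hf))
    have h1J : (1 : ℤ) ∈ J := by
      rw [ha, ← AddSubgroup.zmultiples_eq_closure, Int.mem_zmultiples_iff]
      exact (Int.isUnit_iff_natAbs_eq.mpr hone).dvd
    obtain ⟨f, hf, hfx⟩ := h1J
    exact ⟨f, hf, hfx⟩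
  have key : ∀ T : Finset S, T.Nonempty → ∃ F ∈ R, ∀ x ∈ T, F x = 1 := by
    intro T
    induction T using Finset.induction with
    | empty => intro h; exact absurd h Finset.not_nonempty_empty
    | insert x T hxT ih =>
      intro _
      obtain ⟨f, hf, hfx⟩ := hx x
      rcases T.eq_empty_or_nonempty with rfl | hT
      · exact ⟨f, hf, fun y hy => by simp at hy; rw [hy, hfx]⟩
      obtain ⟨F, hF, hFT⟩ := ih hT
      refine ⟨f + F - f * F, R.sub_mem (R.add_mem hf hF) (hmul _ hf _ hF), fun y hy => ?_⟩
      rcases Finset.mem_insert.mp hy with rfl | hy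
      · simp [hfx]
      · simp [hFT y hy]
  obtain ⟨F, hF, hF1⟩ := key Finset.univ Finset.univ_nonempty
  rwa [show (1 : S → ℤ) = F from funext fun x => (hF1 x (Finset.mem_univ x)).symm]

end Cfsg.Agent.S0869
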