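import Cfsg.Statements.S0873
import Cfsg.Agent.Lib.Characters.Kernel
-- import your own Cfsg.Agent.* helpers here

set_option autoImplicit false
open Cfsg

namespace Cfsg.Agent.S0873

/-- Let C be a normal subgroup of the finite group G of order prime to p and P a p-subgroup with C ⊔ P = G. Let λ be a character of C of degree 1 invariant under conjugation by G and equal to 1 at every element of C centralized by P. Then λ is identically 1. -/
theorem result {G : Type*} [Group G] [Finite G] (p : ℕ) [Fact p.Prime] (C P : Subgroup G) [hC : C.Normal] (hP : IsPGroup p P) (hcop : Nat.Coprime (Nat.card C) p) (hCP : C ⊔ P = ⊤) (lam : C → ℂ) (hlam : Cfsg.IsCharacter C lam ∧ lam 1 = 1) (hinv : ∀ (g : G) (c : C), lam ⟨g * c * g⁻¹, hC.conj_mem (c : G) c.2 g⟩ = lam c) (hker : ∀ c : C, (c : G) ∈ Subgroup.centralizer (P : Set G) → lam c = 1) : lam = fun _ => 1 := by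
  classical
  haveI := Fintype.ofFinite G
  obtain ⟨μ, hμ⟩ := Lib.Characters.IsCharacter.exists_hom_of_apply_one hlam.1 hlam.2
  subst hμ
  have hinv' : ∀ (g : G) (c : C), μ ⟨g * c * g⁻¹, hC.conj_mem (c : G) c.2 g⟩ = μ c :=
    fun g c => Units.ext (hinv g c)
  funext c₀
  -- `P` acts on the coset of the kernel containing `c₀`
  let act : P → {c : C // μ c = μ c₀} → {c : C // μ c = μ c₀} := fun g c =>
    ⟨⟨(g : G) * (c.1 : G) * (g : G)⁻¹, hC.conj_mem (c.1 : G) c.1.2 g⟩, (hinv' g c.1).trans c.2⟩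
  letI : MulAction P {c : C // μ c = μ c₀} :=
    { smul := act
      one_smul := fun x => Subtype.ext (Subtype.ext (by
        show (1 : G) * (x.1 : G) * (1 : G)⁻¹ = _
        simp))
      mul_smul := fun a b x => Subtype.ext (Subtype.ext (by
        show (a : G) * b * (x.1 : G) * ((a : G) * b)⁻¹ = (a : G) * ((b : G) * x.1 * (b : G)⁻¹) * (a : G)⁻¹
        simp [mul_assoc])) }
  have hcard : ¬ p ∣ Nat.card {c : C // μ c = μ c₀} := by
    have e : {c : C // μ c = μ c₀} ≃ μ.ker :=
      { toFun := fun c => ⟨c.1 * c₀⁻¹, by rw [MonoidHom.mem_ker, map_mul, c.2, map_inv, mul_inv_cancel]⟩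
        invFun := fun k => ⟨k.1 * c₀, by rw [map_mul, MonoidHom.mem_ker.mp k.2, one_mul]⟩
        left_inv := fun c => Subtype.ext (inv_mul_cancel_right _ _)
        right_inv := fun k => Subtype.ext (mul_inv_cancel_right _ _) }
    rw [Nat.card_congr e]
    intro hdvd
    exact (Fact.out : p.Prime).ne_one (Nat.eq_one_of_dvd_coprimes hcop
      (hdvd.trans (Subgroup.card_subgroup_dvd_card μ.ker)) dvd_rfl)
  obtain ⟨⟨c, hc⟩, hfix⟩ :=
    hP.nonempty_fixed_point_of_prime_not_dvd_card {c : C // μ c = μ c₀} hcard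
  have h1 := hker c (Subgroup.mem_centralizer_iff.mpr fun g hg => by
    have h2 : (g : G) * (c : G) * g⁻¹ = c := congrArg (fun y => (y.1 : G)) (hfix ⟨g, hg⟩)
    exact mul_inv_eq_iff_eq_mul.mp h2)
  show ((μ c₀ : ℂˣ) : ℂ) = 1
  rw [← hc]
  exact h1

end Cfsg.Agent.S0873
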