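import Cfsg.Statements.S0874
import Cfsg.Agent.Lib.Characters.BrauerMain
-- import your own Cfsg.Agent.* helpers here

set_option autoImplicit false
open Cfsg

namespace Cfsg.Agent.S0874

/-- For a finite group G and a prime p there are an integer m not divisible by p and a list of triples (E, φ, c), with E a p-elementary subgroup, φ a character of E and c an integer, such that the constant function m on G equals the sum of the c • (function induced from φ). -/
theorem result {G : Type*} [Group G] [Fintype G] (p : ℕ) (hp : p.Prime) : ∃ (m : ℤ) (l : List ((E : Subgroup G) × ((E → ℂ) × ℤ))), ¬ (p : ℤ) ∣ m ∧ (∀ t ∈ l, Cfsg.IsElementary p t.1 ∧ Cfsg.IsCharacter t.1 t.2.1) ∧ (fun _ : G => (m : ℂ)) = (l.map fun t => (t.2.2 : ℂ) • Cfsg.indFun t.1 t.2.1).sum := by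
  classical
  obtain ⟨e, m, hm, hN⟩ := Nat.exists_eq_pow_mul_and_not_dvd
    (Nat.card_pos (α := G)).ne' p hp.ne_one
  obtain ⟨k, c, v, hv⟩ := Lib.Characters.exists_int_combination
    (S := Lib.Characters.elemInduced G p)
    (fun f hf => by
      obtain ⟨E, χ, -, hχ, rfl⟩ := hf
      exact Lib.Characters.IsCharacter.isGeneralizedCharacter
        (Lib.Characters.IsCharacter.indFun E hχ))
    (m : ℤ) (by
      have := Lib.Characters.natCast_mem_brauerSpan hp hN
      simp only [Int.cast_natCast]
      exact this)
  choose E ψ hE hψ hval using fun i => (v i).2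
  refine ⟨(m : ℤ), List.ofFn fun i => ⟨E i, (ψ i, c i)⟩, fun h => hm (by exact_mod_cast h), ?_, ?_⟩
  · intro t ht
    obtain ⟨i, rfl⟩ := List.mem_ofFn.mp ht
    exact ⟨hE i, hψ i⟩
  · rw [List.map_ofFn, List.sum_ofFn, hv]
    exact Finset.sum_congr rfl fun i _ => by
      rw [Function.comp_apply, hval i]

end Cfsg.Agent.S0874
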