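import Cfsg.Statements.S0876
import Cfsg.Agent.Lib.Characters.Sections
import Cfsg.Agent.Lib.Blocks.HeightZero
-- import your own Cfsg.Agent.* helpers here

set_option autoImplicit false
open Cfsg

namespace Cfsg.Agent.S0876

/-- Let G be a finite group, p a prime and M a maximal ideal of the ring of algebraic integers containing p. Let x, y be elements with p-parts a and b (so a⁻¹ * x and b⁻¹ * y are their p-regular parts). Then a⁻¹ * x and b⁻¹ * y are conjugate in G if and only if, for every irreducible character χ, the difference χ x - χ y lies in the local ideal at M. -/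
theorem result {G : Type*} [Group G] [Finite G] (p : ℕ) (M : Ideal Cfsg.AlgInt) (hM : Cfsg.IsPModular p M) (x y a b : G) (ha : Cfsg.IsPPart p x a) (hb : Cfsg.IsPPart p y b) : IsConj (a⁻¹ * x) (b⁻¹ * y) ↔ ∀ χ : Cfsg.IrrCharacter G, Cfsg.MemLocalIdeal M ((χ : G → ℂ) x - (χ : G → ℂ) y) := by
  classical
  haveI := Fintype.ofFinite G
  haveI := Lib.Blocks.isPrime_of_isPModular hM
  obtain ⟨x', hx1, hx2, hx3, hx4⟩ := ha
  obtain ⟨y', hy1, hy2, hy3, hy4⟩ := hb
  have ex : a⁻¹ * x = x' := by rw [← hx1, inv_mul_cancel_left]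
  have ey : b⁻¹ * y = y' := by rw [← hy1, inv_mul_cancel_left]
  rw [ex, ey]
  constructor
  · intro hc χ
    have h1 := Lib.Blocks.memLocalIdeal_char_sub_char_regular hM
      (Lib.Characters.irr_isCharacter χ) hx1 hx2 hx3 hx4
    have h2 := Lib.Blocks.memLocalIdeal_char_sub_char_regular hM
      (Lib.Characters.irr_isCharacter χ) hy1 hy2 hy3 hy4
    rw [Lib.Characters.IsClassFunction.eq_of_isConj (Lib.Characters.irr_isClassFunction χ) hc] at h1
    have := Lib.Blocks.memLocalIdeal_sub h1 h2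
    simpa using this
  · intro hcong
    by_contra hne
    obtain ⟨e, n, hn, hG⟩ := Nat.exists_eq_pow_mul_and_not_dvd
      (Nat.card_pos (α := G)).ne' p hM.1.ne_one
    have hcop : (p ^ e).Coprime n := ((hM.1.coprime_iff_not_dvd).2 hn).pow_left e
    obtain ⟨k, hk0, hk1⟩ := Nat.chineseRemainder hcop 0 1
    have hv : ∀ {z : G}, ¬ p ∣ orderOf z → Nat.Coprime (orderOf z) (p ^ e) := fun hz =>
      ((hM.1.coprime_iff_not_dvd.2 hz).symm).pow_right e
    have hu : ∀ {z : G}, (∃ j : ℕ, orderOf z = p ^ j) → Nat.Coprime (orderOf z) n := by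
      rintro z ⟨j, hj⟩
      rw [hj]
      exact ((hM.1.coprime_iff_not_dvd).2 hn).pow_left j
    have pick : ∀ {u v w : G}, u * v = w → Commute u v → Nat.Coprime (orderOf u) n →
        Nat.Coprime (orderOf v) (p ^ e) → w ^ k = v := by
      intro u v w huv hc huc hvc
      have hum : orderOf u ∣ p ^ e := huc.dvd_of_dvd_mul_right (hG ▸ orderOf_dvd_natCard u)
      have hvn : orderOf v ∣ n := hvc.dvd_of_dvd_mul_left (hG ▸ orderOf_dvd_natCard v)
      rw [← huv, hc.mul_pow]
      have e1 : u ^ k = 1 := orderOf_dvd_iff_pow_eq_one.1 (hum.trans (Nat.modEq_zero_iff_dvd.1 hk0))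
      rw [e1, one_mul]
      conv_rhs => rw [← pow_one v]
      exact pow_eq_pow_of_modEq hk1 (orderOf_dvd_iff_pow_eq_one.1 hvn)
    let P : G → Prop := fun z => ∃ v : G, IsConj v x' ∧ (∃ u : G, z = u * v ∧ Commute u v ∧
      Nat.Coprime (orderOf u) n ∧ Nat.Coprime (orderOf v) (p ^ e))
    obtain ⟨c, hc, hθ⟩ := Lib.Characters.sectionIndicator_integral (p ^ e) n hG hcop x' (hv hx4)
      (fun z => if P z then (n : ℂ) else 0) (fun z hz => if_pos hz) (fun z hz => if_neg hz)
    haveI := Fintype.ofFinite (Cfsg.IrrCharacter G)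
    have hPx : P x := ⟨x', IsConj.refl _, a, hx1.symm, hx2, hu hx3, hv hx4⟩
    have hPy : ¬ P y := by
      rintro ⟨v, hvc, u, huv, hcuv, huo, hvo⟩
      apply hne
      have h1 := pick huv.symm hcuv huo hvo
      rw [pick hy1 hy2 (hu hy3) (hv hy4)] at h1
      exact h1 ▸ hvc.symm
    have hdiff : (n : ℂ) = ∑ χ : Cfsg.IrrCharacter G, c χ * ((χ : G → ℂ) x - (χ : G → ℂ) y) := by
      have e1 := congrFun hθ x
      have e2 := congrFun hθ y
      rw [finsum_eq_sum_of_fintype, Finset.sum_apply] at e1 e2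
      simp only [if_pos hPx, if_neg hPy, Pi.smul_apply, smul_eq_mul] at e1 e2
      simp only [mul_sub, Finset.sum_sub_distrib, ← e1, ← e2, sub_zero]
    have hn' : Cfsg.MemLocalIdeal M (n : ℂ) := by
      rw [hdiff]
      exact Lib.Blocks.memLocalIdeal_sum _ fun χ _ =>
        Lib.Blocks.memLocalIdeal_mul_left (Lib.Blocks.memLocalRing_of_isIntegral' (hc χ)) (hcong χ)
    exact hn ((Lib.Blocks.memLocalIdeal_natCast_iff hM n).1 hn')

end Cfsg.Agent.S0876
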