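import Cfsg.Statements.S0878

-- import your own Cfsg.Agent.* helpers here

set_option autoImplicit false
open Cfsg

namespace Cfsg.Agent.S0878

/-- Let G be a Zassenhaus group on the finite set Ω, a a point, and let H be the subgroup of the stabilizer of a consisting of the identity and the elements fixing no point other than a (given here as a subgroup of the stabilizer of order one less than the number of points whose non-identity elements fix only a; it is the Frobenius kernel of the stabilizer). Then an element outside the stabilizer of a conjugates no non-identity element of H into H, and the normalizer of H is exactly the stabilizer of a. -/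
theorem result {G Ω : Type*} [Group G] [Finite G] [MulAction G Ω] [Fintype Ω] (hZ : Cfsg.IsZassenhausGroup G Ω) (a : Ω) (H : Subgroup G) (hHa : H ≤ MulAction.stabilizer G a) (hHcard : Nat.card H + 1 = Fintype.card Ω) (hHfix : ∀ u ∈ H, u ≠ 1 → ∀ c : Ω, u • c = c → c = a) : (∀ g : G, g ∉ MulAction.stabilizer G a → ∀ u ∈ H, g * u * g⁻¹ ∈ H → u = 1) ∧ Subgroup.normalizer (H : Set G) = MulAction.stabilizer G a := by
  classical
  obtain ⟨hF, h2, h3, ⟨g0, hg0, a0, b0, hab0, hga0, hgb0⟩, -⟩ := hZ
  haveI := hF
  haveI := Fintype.ofFinite G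
  have h2' : ∀ {a b c d : Ω}, a ≠ b → c ≠ d → ∃ g : G, g • a = c ∧ g • b = d :=
    MulAction.is_two_pretransitive_iff.mp h2
  have hn : 2 < Fintype.card Ω := by
    by_contra hle
    apply hg0
    refine FaithfulSMul.eq_of_smul_eq_smul (α := Ω) fun c => ?_
    rw [one_smul]
    by_cases hca : c = a0
    · rw [hca, hga0]
    · by_cases hcb : c = b0
      · rw [hcb, hgb0]
      · exfalso
        have h : ({a0, b0, c} : Finset Ω).card ≤ Fintype.card Ω := Finset.card_le_univ _
        rw [Finset.card_insert_of_notMem (by simp [hab0, Ne.symm hca]),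
          Finset.card_pair (Ne.symm hcb)] at h
        omega
  obtain ⟨u₀, hu₀, hu₀1⟩ : ∃ u ∈ H, u ≠ 1 := by
    refine (Subgroup.nontrivial_iff_exists_ne_one H).mp (Finite.one_lt_card_iff_nontrivial.mp ?_)
    omega
  have hTI : ∀ g : G, ∀ u ∈ H, u ≠ 1 → g * u * g⁻¹ ∈ H → g ∈ MulAction.stabilizer G a := by
    intro g u hu hu1 hgu
    have hua : u • a = a := hHa hu
    have h1 : g * u * g⁻¹ ≠ 1 := fun h => hu1 (by simpa using h)
    exact hHfix _ hgu h1 (g • a) (by rw [mul_smul, inv_smul_smul, mul_smul, hua])
  refine ⟨fun g hg u hu hgu => by_contra fun hu1 => hg (hTI g u hu hu1 hgu), ?_⟩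
  let Ga : Finset G := Finset.univ.filter fun g => g • a = a
  let O : Finset Ω := Finset.univ.erase a
  let F : Finset G := Ga.filter fun g => ∀ c, g • c = c → c = a
  have hpair : ∀ b, b ≠ a → (Ga.filter fun g => g • b = b).card * O.card = Ga.card := by
    intro b hb
    rw [Finset.card_eq_sum_card_fiberwise (s := Ga) (t := O) (f := fun g => g • b) (fun g hg => by
      simp only [Ga, O, Finset.coe_filter, Finset.mem_univ, true_and, Set.mem_ofPred_eq,
        Finset.coe_erase, Finset.coe_univ, Set.mem_diff, Set.mem_univ, Set.mem_singleton_iff] at hg ⊢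
      intro h
      exact hb (MulAction.injective g (h.trans hg.symm)))]
    rw [mul_comm, ← smul_eq_mul, ← Finset.sum_const]
    refine Finset.sum_congr rfl fun c hc => ?_
    obtain ⟨t, hta, htb⟩ := h2' (a := a) (b := b) (c := a) (d := c) hb.symm
      (Finset.mem_erase.mp hc).1.symm
    refine Finset.card_bij (fun g _ => t * g) (fun g hg => ?_)
      (fun _ _ _ _ h => mul_left_cancel h) (fun g hg => ⟨t⁻¹ * g, ?_, mul_inv_cancel_left t g⟩)
    · simp only [Ga, Finset.mem_filter, Finset.mem_univ, true_and] at hg ⊢
      exact ⟨by rw [mul_smul, hg.1, hta], by rw [mul_smul, hg.2, htb]⟩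
    · simp only [Ga, Finset.mem_filter, Finset.mem_univ, true_and] at hg ⊢
      exact ⟨by rw [mul_smul, hg.1, inv_smul_eq_iff, hta],
        by rw [mul_smul, hg.2, inv_smul_eq_iff, htb]⟩
  have hO : O.card + 1 = Fintype.card Ω := Finset.card_erase_add_one (Finset.mem_univ a)
  have hcount : ∑ g ∈ Ga, (O.filter fun b => g • b = b).card = Ga.card := by
    have h := Finset.sum_card_bipartiteAbove_eq_sum_card_bipartiteBelow
      (s := Ga) (t := O) (fun g b => g • b = b)
    simp only [Finset.bipartiteAbove, Finset.bipartiteBelow] at h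
    rw [h]
    have h' : (∑ b ∈ O, (Ga.filter fun g => g • b = b).card) * O.card = Ga.card * O.card := by
      rw [Finset.sum_mul, Finset.sum_congr rfl fun b hb => hpair b (Finset.mem_erase.mp hb).1,
        Finset.sum_const, smul_eq_mul, mul_comm]
    exact Nat.eq_of_mul_eq_mul_right (by omega) h'
  have h1F : (1 : G) ∉ F := by
    simp only [F, Finset.mem_filter, not_and, not_forall]
    intro _
    obtain ⟨c, hc⟩ := Finset.card_pos.mp (show 0 < O.card by omega)
    exact ⟨c, one_smul _ c, (Finset.mem_erase.mp hc).1⟩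
  have hFcard : F.card + 1 = O.card := by
    have h1Ga : (1 : G) ∈ Ga := by simp [Ga]
    have hle : ∀ g ∈ Ga.erase 1, (O.filter fun b => g • b = b).card =
        if g ∈ F then 0 else 1 := by
      intro g hg
      obtain ⟨hg1, hga⟩ := Finset.mem_erase.mp hg
      have hga' : g • a = a := (Finset.mem_filter.mp hga).2
      split_ifs with hF'
      · rw [Finset.card_eq_zero, Finset.filter_eq_empty_iff]
        exact fun b hb h => (Finset.mem_erase.mp hb).1 ((Finset.mem_filter.mp hF').2 b h)
      · simp only [F, Finset.mem_filter, hga, true_and, not_forall] at hF'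
        obtain ⟨b, hgb, hb⟩ := hF'
        rw [Finset.card_eq_one]
        refine ⟨b, Finset.ext fun c => ?_⟩
        simp only [Finset.mem_filter, Finset.mem_singleton, O, Finset.mem_erase, Finset.mem_univ,
          and_true]
        refine ⟨fun ⟨hca, hgc⟩ => by_contra fun hcb => hg1 ?_, fun h => h ▸ ⟨hb, hgb⟩⟩
        exact h3 g a b c (Ne.symm hb) (Ne.symm hcb) (Ne.symm hca) hga' hgb hgc
    rw [← Finset.add_sum_erase _ _ h1Ga, Finset.sum_congr rfl hle] at hcount
    simp only [one_smul, Finset.filter_true] at hcount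
    have hsplit := Finset.card_filter_add_card_filter_not (s := Ga.erase 1) (fun g => g ∈ F)
    have hFe : (Ga.erase 1).filter (fun g => g ∈ F) = F := by
      ext g
      simp only [Finset.mem_filter, Finset.mem_erase]
      exact ⟨fun h => h.2, fun h => ⟨⟨fun e => h1F (e ▸ h), (Finset.mem_filter.mp h).1⟩, h⟩⟩
    simp only [Finset.sum_ite, Finset.sum_const, smul_eq_mul, mul_zero, mul_one, zero_add] at hcount
    rw [hFe, Finset.card_erase_of_mem h1Ga] at hsplit
    have := Finset.card_pos.mpr ⟨_, h1Ga⟩
    have hFlt : F.card < Ga.card := Finset.card_lt_card ⟨Finset.filter_subset _ _,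
      fun h => h1F (h h1Ga)⟩
    omega
  have hGa0 : 0 < Ga.card := Finset.card_pos.mpr ⟨1, by simp [Ga]⟩
  have hHF : ∀ g : G, g ∈ H ↔ g = 1 ∨ (g • a = a ∧ ∀ c, g • c = c → c = a) := by
    let HS : Finset G := (Finset.univ.filter fun g => g ∈ H).erase 1
    have hsub : HS ⊆ F := fun g hg => by
      simp only [HS, Finset.mem_erase, Finset.mem_filter, Finset.mem_univ, true_and] at hg
      simp only [F, Ga, Finset.mem_filter, Finset.mem_univ, true_and]
      exact ⟨hHa hg.2, hHfix g hg.2 hg.1⟩
    have hHS : HS.card + 1 = Nat.card H := by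
      rw [Finset.card_erase_add_one (by simp), Nat.card_eq_fintype_card, Fintype.card_subtype]
    have hFH : F.card = HS.card := by omega
    have heq := Finset.eq_of_subset_of_card_le hsub hFH.le
    intro g
    constructor
    · intro hg
      by_cases h1 : g = 1
      · exact Or.inl h1
      · exact Or.inr ⟨hHa hg, hHfix g hg h1⟩
    · rintro (rfl | hg)
      · exact H.one_mem
      · have h : g ∈ HS := by rw [heq]; simpa [F, Ga] using hg
        simp only [HS, Finset.mem_erase, Finset.mem_filter] at h
        exact h.2.2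
  have hconj : ∀ g : G, g • a = a → ∀ u ∈ H, g * u * g⁻¹ ∈ H := by
    intro g hg u hu
    rw [hHF] at hu ⊢
    rcases hu with rfl | ⟨hua, hu⟩
    · left; simp
    · right
      refine ⟨by rw [mul_smul, mul_smul, inv_smul_eq_iff.mpr hg.symm, hua, hg], fun c hc => ?_⟩
      rw [mul_smul, mul_smul, ← eq_inv_smul_iff] at hc
      rw [← smul_inv_smul g c, hu _ hc, hg]
  refine le_antisymm (fun g hg => ?_) (fun g hg => ?_)
  · exact hTI g u₀ hu₀ hu₀1 ((Subgroup.mem_normalizer_iff.mp hg u₀).mp hu₀)
  · have hga : g • a = a := hg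
    refine Subgroup.mem_normalizer_iff.mpr fun u => ⟨hconj g hga u, fun h => ?_⟩
    have := hconj g⁻¹ (inv_smul_eq_iff.mpr hga.symm) _ h
    simpa [mul_assoc] using this

end Cfsg.Agent.S0878
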