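import Cfsg.Statements.S0879

-- import your own Cfsg.Agent.* helpers here

set_option autoImplicit false
open Cfsg

namespace Cfsg.Agent.S0879

/-- Let G be a Zassenhaus group on the finite set Ω and E the stabilizer of two distinct points a, b. Then an element outside the normalizer of E conjugates no non-identity element of E into E, and E has index 2 in its normalizer. -/
theorem result {G Ω : Type*} [Group G] [Finite G] [MulAction G Ω] [Fintype Ω] (hZ : Cfsg.IsZassenhausGroup G Ω) {a b : Ω} (hab : a ≠ b) : (∀ g : G, g ∉ Subgroup.normalizer ((MulAction.stabilizer G a ⊓ MulAction.stabilizer G b : Subgroup G) : Set G) → ∀ x ∈ (MulAction.stabilizer G a ⊓ MulAction.stabilizer G b : Subgroup G), g * x * g⁻¹ ∈ (MulAction.stabilizer G a ⊓ MulAction.stabilizer G b : Subgroup G) → x = 1) ∧ ((MulAction.stabilizer G a ⊓ MulAction.stabilizer G b : Subgroup G).subgroupOf (Subgroup.normalizer ((MulAction.stabilizer G a ⊓ MulAction.stabilizer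 G b : Subgroup G) : Set G))).index = 2 := by
  classical
  obtain ⟨-, h2, h3, ⟨g0, hg0, a0, b0, hab0, hga0, hgb0⟩, -⟩ := hZ
  have h2' : ∀ {a b c d : Ω}, a ≠ b → c ≠ d → ∃ g : G, g • a = c ∧ g • b = d :=
    MulAction.is_two_pretransitive_iff.mp h2
  set D : Subgroup G := MulAction.stabilizer G a ⊓ MulAction.stabilizer G b with hD
  have hmem : ∀ x, x ∈ D ↔ x • a = a ∧ x • b = b := fun x => by
    simp [hD, Subgroup.mem_inf]
  have hfix : ∀ x ∈ D, x ≠ 1 → ∀ c, x • c = c → c = a ∨ c = b := by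
    intro x hx hx1 c hc
    by_contra h
    push Not at h
    exact hx1 (h3 x a b c hab h.2.symm h.1.symm ((hmem x).mp hx).1 ((hmem x).mp hx).2 hc)
  have hset : ∀ g : G, ∀ x ∈ D, x ≠ 1 → g * x * g⁻¹ ∈ D →
      (g • a = a ∧ g • b = b) ∨ (g • a = b ∧ g • b = a) := by
    intro g x hx hx1 hgx
    obtain ⟨hxa, hxb⟩ := (hmem x).mp hx
    have h1 : g * x * g⁻¹ ≠ 1 := fun h => hx1 (by simpa using h)
    have ha := hfix _ hgx h1 (g • a) (by rw [mul_smul, inv_smul_smul, mul_smul, hxa])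
    have hb := hfix _ hgx h1 (g • b) (by rw [mul_smul, inv_smul_smul, mul_smul, hxb])
    have hne : g • a ≠ g • b := fun h => hab (MulAction.injective g h)
    rcases ha with ha | ha <;> rcases hb with hb | hb
    · exact absurd (ha.trans hb.symm) hne
    · exact Or.inl ⟨ha, hb⟩
    · exact Or.inr ⟨ha, hb⟩
    · exact absurd (ha.trans hb.symm) hne
  have hN : ∀ g : G, ((g • a = a ∧ g • b = b) ∨ (g • a = b ∧ g • b = a)) →
      g ∈ Subgroup.normalizer (D : Set G) := by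
    intro g hg
    refine Subgroup.mem_normalizer_iff.mpr fun x => ?_
    rw [hmem, hmem, mul_smul, mul_smul, mul_smul, mul_smul]
    rcases hg with ⟨ha, hb⟩ | ⟨ha, hb⟩
    · rw [inv_smul_eq_iff.mpr ha.symm, inv_smul_eq_iff.mpr hb.symm,
        smul_eq_iff_eq_inv_smul g, smul_eq_iff_eq_inv_smul g, inv_smul_eq_iff.mpr ha.symm,
        inv_smul_eq_iff.mpr hb.symm]
    · rw [inv_smul_eq_iff.mpr hb.symm, inv_smul_eq_iff.mpr ha.symm,
        smul_eq_iff_eq_inv_smul g, smul_eq_iff_eq_inv_smul g, inv_smul_eq_iff.mpr hb.symm,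
        inv_smul_eq_iff.mpr ha.symm]
      exact and_comm
  refine ⟨fun g hg x hx hgx => by_contra fun hx1 => hg (hN g (hset g x hx hx1 hgx)), ?_⟩
  obtain ⟨x, hx, hx1⟩ : ∃ x ∈ D, x ≠ 1 := by
    obtain ⟨t, hta, htb⟩ := h2' (a := a0) (b := b0) (c := a) (d := b) hab0 hab
    refine ⟨t * g0 * t⁻¹, (hmem _).mpr ⟨?_, ?_⟩, fun h => hg0 (by simpa using h)⟩
    · rw [← hta, mul_smul, inv_smul_smul, mul_smul, hga0]
    · rw [← htb, mul_smul, inv_smul_smul, mul_smul, hgb0]
  obtain ⟨w, hwa, hwb⟩ := h2' (a := a) (b := b) (c := b) (d := a) hab hab.symm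
  rw [Subgroup.index_eq_two_iff]
  refine ⟨⟨w, hN w (Or.inr ⟨hwa, hwb⟩)⟩, fun g => ?_⟩
  simp only [Subgroup.mem_subgroupOf, Subgroup.coe_mul, hmem, mul_smul, hwa, hwb]
  rcases hset g x hx hx1 ((Subgroup.mem_normalizer_iff.mp g.2 x).mp hx) with ⟨ha, hb⟩ | ⟨ha, hb⟩
  · exact Or.inr ⟨⟨ha, hb⟩, fun h => hab (ha.symm.trans h.2)⟩
  · exact Or.inl ⟨⟨hb, ha⟩, fun h => hab (h.1.symm.trans ha)⟩

end Cfsg.Agent.S0879
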