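import Cfsg.Statements.S0893
import Cfsg.Agent.Lib.Characters.Extraspecial
-- import your own Cfsg.Agent.* helpers here

set_option autoImplicit false
open Cfsg
open scoped ComplexConjugate

namespace Cfsg.Agent.S0893

/-- Let P be an extraspecial p-group of order p ^ (2 * n + 1), A an abelian subgroup of order p ^ (n + 1), and λ a character of A of degree 1 that is not identically 1 on the elements of A lying in the centre of P. Then the function induced from λ to P is an irreducible character of P and vanishes at every element outside the centre. -/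
theorem result {P : Type*} [Group P] [Fintype P] (p n : ℕ) [Fact p.Prime] (hP : Cfsg.IsExtraspecial p P) (hcard : Nat.card P = p ^ (2 * n + 1)) (A : Subgroup P) (hab : ∀ a ∈ A, ∀ b ∈ A, a * b = b * a) (hA : Nat.card A = p ^ (n + 1)) (lam : A → ℂ) (hlam : Cfsg.IsCharacter A lam ∧ lam 1 = 1) (hZ : ∃ a : A, (a : P) ∈ Subgroup.center P ∧ lam a ≠ 1) : Cfsg.IsIrrCharacter P (Cfsg.indFun A lam) ∧ ∀ x : P, x ∉ Subgroup.center P → Cfsg.indFun A lam x = 0 := by
  classical
  haveI := Fintype.ofFinite A
  obtain ⟨a, ha, hlam1⟩ := hZ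
  obtain ⟨l, hl⟩ := Lib.Characters.IsCharacter.exists_hom_of_apply_one hlam.1 hlam.2
  have hcard' : Nat.card (Subgroup.center P) = p := hP.2
  have hane : (a : P) ≠ 1 := fun h => hlam1 (by
    rw [show a = 1 from Subtype.ext h]; exact hlam.2)
  have hZA : Subgroup.center P ≤ A := fun z hz => by
    obtain ⟨k, hk⟩ := mem_powers_of_prime_card (G := Subgroup.center P) hcard'
      (g := ⟨a, ha⟩) (g' := ⟨z, hz⟩) (fun e => hane (congrArg Subtype.val e))
    rw [← show (a : P) ^ k = z from congrArg Subtype.val hk]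
    exact A.pow_mem a.2 k
  let ω : P → ℂ := fun z => if h : z ∈ A then lam ⟨z, h⟩ else 0
  have hf : ∀ z ∈ Subgroup.center P, ∀ x, indFun A lam (z * x) = ω z * indFun A lam x := by
    intro z hz x
    simp only [ω, dif_pos (hZA hz), Lib.Characters.indFun_apply]
    rw [mul_left_comm (lam _), Finset.mul_sum Finset.univ _ (lam _)]
    refine congrArg _ (Finset.sum_congr rfl fun y _ => ?_)
    have he : y⁻¹ * (z * x) * y = z * (y⁻¹ * x * y) := by
      rw [← mul_assoc y⁻¹, Subgroup.mem_center_iff.mp hz y⁻¹]; group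
    rw [he]
    by_cases h : y⁻¹ * x * y ∈ A
    · rw [Lib.Characters.extendByZero_of_mem A lam (A.mul_mem (hZA hz) h),
        Lib.Characters.extendByZero_of_mem A lam h,
        show (⟨z * (y⁻¹ * x * y), A.mul_mem (hZA hz) h⟩ : A) = ⟨z, hZA hz⟩ * ⟨_, h⟩ from rfl, hl]
      show ((l (⟨z, hZA hz⟩ * ⟨_, h⟩) : ℂˣ) : ℂ) = _
      rw [map_mul, Units.val_mul]
    · rw [Lib.Characters.extendByZero_of_not_mem A lam h,
        Lib.Characters.extendByZero_of_not_mem A lam (fun h' => h
          ((A.mul_mem_cancel_left (hZA hz)).mp h')), mul_zero]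
  have hne : ∀ z ∈ Subgroup.center P, z ≠ 1 → ω z ≠ 1 := by
    intro z hz hz1 h
    simp only [ω, dif_pos (hZA hz)] at h
    obtain ⟨k, hk⟩ := mem_powers_of_prime_card (G := Subgroup.center P) hcard'
      (g := ⟨z, hz⟩) (g' := ⟨a, ha⟩) (fun e => hz1 (congrArg Subtype.val e))
    apply hlam1
    rw [show a = (⟨z, hZA hz⟩ : A) ^ k from Subtype.ext (congrArg Subtype.val hk).symm, hl]
    rw [hl] at h
    simp only [map_pow, Units.val_pow_eq_pow_val]
    rw [show ((l ⟨z, hZA hz⟩ : ℂˣ) : ℂ) = 1 from h, one_pow]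
  have hv : ∀ x : P, x ∉ Subgroup.center P → indFun A lam x = 0 := fun x hx =>
    Lib.Characters.vanish_off_center (le_of_eq hP.1.2.2)
      (Lib.Characters.isClassFunction_indFun A lam) ω hf hne hx
  refine ⟨?_, hv⟩
  rw [Lib.Characters.IsCharacter.isIrr_iff (Lib.Characters.IsCharacter.indFun A hlam.1), classInner,
    inv_mul_eq_one₀ Lib.Characters.natCard_ne_zero_complex, Lib.Characters.classInner_of_vanish hv]
  have hterm : ∀ z : Subgroup.center P,
      indFun A lam z * conj (indFun A lam z) = (A.index : ℂ) * A.index := by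
    intro z
    have h := hf z z.2 1
    rw [mul_one, Lib.Characters.indFun_one, hlam.2, mul_one] at h
    rw [h, map_mul, map_natCast]
    have hn : ω z * conj (ω z) = 1 := by
      simp only [ω, dif_pos (hZA z.2), hl]
      rw [Complex.mul_conj', Lib.Characters.norm_eq_one_of_pow_eq_one' (n := Nat.card A) Nat.card_pos.ne' (by
        rw [← Units.val_pow_eq_pow_val, ← map_pow, pow_card_eq_one', map_one, Units.val_one])]
      simp
    linear_combination ((A.index : ℂ) * A.index) * hn
  rw [Finset.sum_congr rfl fun z _ => hterm z, Finset.sum_const, Finset.card_univ,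
    ← Nat.card_eq_fintype_card, hcard', nsmul_eq_mul, hcard]
  have hidx : A.index = p ^ n := by
    have h := A.card_mul_index
    rw [hA, hcard, show 2 * n + 1 = (n + 1) + n by omega, pow_add p (n + 1)] at h
    exact Nat.eq_of_mul_eq_mul_left (pow_pos (Fact.out : p.Prime).pos _) h
  rw [hidx]
  push_cast
  ring

end Cfsg.Agent.S0893
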