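import Cfsg.Statements.S0894
import Cfsg.Agent.Lib.Characters.Extraspecial
-- import your own Cfsg.Agent.* helpers here

set_option autoImplicit false
open Cfsg

namespace Cfsg.Agent.S0894

/-- Let P be an extraspecial p-group of order p ^ (2 * n + 1). Then every irreducible character of P has degree 1 or p ^ n, and exactly p - 1 of them have degree p ^ n. -/
theorem result {P : Type*} [Group P] [Finite P] (p n : ℕ) [Fact p.Prime] (hP : Cfsg.IsExtraspecial p P) (hcard : Nat.card P = p ^ (2 * n + 1)) : (∀ χ : Cfsg.IrrCharacter P, (χ : P → ℂ) 1 = 1 ∨ (χ : P → ℂ) 1 = (p : ℂ) ^ n) ∧ Nat.card {χ : Cfsg.IrrCharacter P // (χ : P → ℂ) 1 = (p : ℂ) ^ n} = p - 1 := by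
  classical
  haveI := Fintype.ofFinite P
  haveI := Fintype.ofFinite (Cfsg.IrrCharacter P)
  have hp := (Fact.out : p.Prime)
  have key : ∀ χ : Cfsg.IrrCharacter P,
      (χ : P → ℂ) 1 = 1 ∨ (χ : P → ℂ) 1 = (p : ℂ) ^ n := by
    intro χ
    refine (Lib.Characters.IsIrrCharacter.degree_sq_of_extraspecial hP χ.2).imp_right fun h => ?_
    obtain ⟨d, -, hd⟩ := Lib.Characters.IsIrrCharacter.exists_apply_one χ.2
    rw [hd, hcard] at h
    have h2 : d ^ 2 * p = p ^ (2 * n + 1) := by exact_mod_cast h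
    have h3 : d ^ 2 = (p ^ n) ^ 2 := by
      rw [pow_succ p (2 * n), mul_comm 2 n, pow_mul] at h2
      exact Nat.eq_of_mul_eq_mul_right hp.pos h2
    rw [hd, Nat.pow_left_injective two_ne_zero h3]
    simp
  refine ⟨key, ?_⟩
  obtain ⟨⟨-, -, hcomm⟩, hZ⟩ := hP
  have hlin : Nat.card {χ : Cfsg.IrrCharacter P // (χ : P → ℂ) 1 = 1} = p ^ (2 * n) := by
    rw [Lib.Characters.card_linear_irr, hcomm]
    have h := (Subgroup.center P).index_mul_card
    rw [hZ, hcard, pow_succ] at h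
    exact Nat.eq_of_mul_eq_mul_right hp.pos h
  rcases Nat.eq_zero_or_pos n with rfl | hn
  · exfalso
    have hone : Subgroup.center P = ⊤ := Subgroup.eq_top_of_card_eq _ (by rw [hZ, hcard]; simp)
    have hbot : commutator P = ⊥ := by
      rw [eq_bot_iff, commutator_def, Subgroup.commutator_le]
      intro a _ b _
      rw [Subgroup.mem_bot, commutatorElement_def, Subgroup.mem_center_iff.mp
        (hone ▸ Subgroup.mem_top b : b ∈ Subgroup.center P) a]
      group
    rw [hbot] at hcomm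
    rw [← hcomm, Subgroup.card_bot] at hZ
    exact hp.ne_one hZ.symm
  have hne : (1 : ℂ) ≠ (p : ℂ) ^ n := by
    exact_mod_cast (Nat.one_lt_pow hn.ne' hp.one_lt).ne
  have hsum := Lib.Characters.sum_degree_sq (G := P)
  rw [← Finset.sum_filter_add_sum_filter_not Finset.univ
    (fun χ : Cfsg.IrrCharacter P => (χ : P → ℂ) 1 = 1)] at hsum
  have hb : ∀ χ : Cfsg.IrrCharacter P, ¬ (χ : P → ℂ) 1 = 1 ↔ (χ : P → ℂ) 1 = (p : ℂ) ^ n :=
    fun χ => ⟨(key χ).resolve_left, fun h => h ▸ hne.symm⟩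
  rw [Finset.sum_congr rfl (fun χ hχ => by rw [(Finset.mem_filter.mp hχ).2]),
    Finset.sum_congr rfl (s₁ := Finset.univ.filter fun χ : Cfsg.IrrCharacter P =>
      ¬ (χ : P → ℂ) 1 = 1) (fun χ hχ => by rw [(hb χ).mp (Finset.mem_filter.mp hχ).2])] at hsum
  simp only [Finset.sum_const, nsmul_eq_mul, ← Fintype.card_subtype,
    ← Nat.card_eq_fintype_card, one_pow, mul_one] at hsum
  rw [hlin, Nat.card_congr (Equiv.subtypeEquivRight hb), hcard] at hsum
  have h2 : p ^ (2 * n) + Nat.card {χ : Cfsg.IrrCharacter P // (χ : P → ℂ) 1 = (p : ℂ) ^ n} *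
      (p ^ n) ^ 2 = p ^ (2 * n + 1) := by exact_mod_cast hsum
  have h3 : Nat.card {χ : Cfsg.IrrCharacter P // (χ : P → ℂ) 1 = (p : ℂ) ^ n} + 1 = p := by
    refine Nat.eq_of_mul_eq_mul_right (pow_pos hp.pos (2 * n)) ?_
    rw [Nat.succ_mul, ← pow_succ' p (2 * n), ← h2, ← pow_mul, mul_comm n 2, Nat.add_comm]
  omega

end Cfsg.Agent.S0894
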