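import Cfsg.Statements.S0895
import Cfsg.Agent.Lib.Characters.FrobeniusSchur
-- import your own Cfsg.Agent.* helpers here

set_option autoImplicit false
open Cfsg

namespace Cfsg.Agent.S0895

/-- Let χ be a real-valued irreducible character of a finite group G whose degree is an odd natural number. Then the average over s in G of χ (s * s) equals 1. -/
theorem result {G : Type*} [Group G] [Fintype G] (χ : G → ℂ) (hχ : Cfsg.IsIrrCharacter G χ) (hreal : ∀ g : G, (χ g).im = 0) (d : ℕ) (hd : χ 1 = d) (hodd : Odd d) : (Nat.card G : ℂ)⁻¹ * ∑ s : G, χ (s * s) = 1 := by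
  obtain ⟨n, B, ε, hn, hdet, hε, hBt, hν⟩ := (Lib.Characters.frobeniusSchur hχ).2 hreal
  rw [hν]
  rcases hε with rfl | rfl
  · rfl
  · exfalso
    have hnd : n = d := by exact_mod_cast hn.symm.trans hd
    have h := congrArg Matrix.det hBt
    have hodd' : Odd n := hnd ▸ hodd
    rw [Matrix.det_transpose, Matrix.det_smul, Fintype.card_fin, hodd'.neg_one_pow,
      neg_one_mul] at h
    exact hdet (CharZero.eq_neg_self_iff.mp h)

end Cfsg.Agent.S0895
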