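import Cfsg.Statements.S0900
import Cfsg.Agent.Lib.Characters.Clifford
-- import your own Cfsg.Agent.* helpers here

set_option autoImplicit false
open Cfsg
open scoped ComplexConjugate

namespace Cfsg.Agent.S0900

/-- Let N be a normal subgroup of the finite group G, χ an irreducible character of G and ϑ an irreducible character of N having nonzero inner product with the restriction of χ. Consider: (a) the restriction of χ to N is e • ϑ for a natural number e with e ^ 2 equal to the index of N; (b) χ vanishes outside N and ϑ is invariant under conjugation by G; (c) ϑ is invariant and every irreducible character of G having nonzero inner product with the function induced from ϑ equals χ. Then (a) ↔ (b) and (a) ↔ (c). -/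
theorem result {G : Type*} [Group G] [Fintype G] (N : Subgroup G) [hN : N.Normal] [Fintype N] (χ : G → ℂ) (hχ : Cfsg.IsIrrCharacter G χ) (ϑ : N → ℂ) (hϑ : Cfsg.IsIrrCharacter N ϑ) (hcon : Cfsg.classInner (fun n : N => χ n) ϑ ≠ 0) : ((∃ e : ℕ, (fun n : N => χ n) = (e : ℂ) • ϑ ∧ e ^ 2 = N.index) ↔ ((∀ g : G, g ∉ N → χ g = 0) ∧ ∀ (g : G) (n : N), ϑ ⟨g * n * g⁻¹, hN.conj_mem (n : G) n.2 g⟩ = ϑ n)) ∧ ((∃ e : ℕ, (fun n : N => χ n) = (e : ℂ) • ϑ ∧ e ^ 2 = N.index) ↔ (∀ (g : G) (n : N), ϑ ⟨g * n * g⁻¹, hN.conj_mem (n : G) n.2 g⟩ = ϑ n ∧ ∀ ψ : G → ℂ, Cfsg.IsIrrCharacter G ψ → Cfsg.classInner (Cfsg.indFun N ϑ) ψ ≠ 0 → ψ = χ)) := by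
  classical
  haveI := Fintype.ofFinite (Cfsg.IrrCharacter G)
  have hχc := Lib.Characters.IsIrrCharacter.isCharacter hχ
  have hχcl := Lib.Characters.IsCharacter.isClassFunction hχc
  have hθc := Lib.Characters.IsIrrCharacter.isCharacter hϑ
  obtain ⟨e₀, he₀⟩ := Lib.Characters.IsCharacter.exists_classInner_nat
    (Lib.Characters.IsCharacter.restrict hχc N) hθc
  have he₀0 : (e₀ : ℂ) ≠ 0 := he₀ ▸ hcon
  obtain ⟨d, hd0, hd⟩ := Lib.Characters.IsIrrCharacter.exists_apply_one hϑ
  have hN0 : (Nat.card N : ℂ) ≠ 0 := Lib.Characters.natCard_ne_zero_complex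
  have hinvN : (∀ (g : G) (n : N), ϑ ⟨g * n * g⁻¹, hN.conj_mem (n : G) n.2 g⟩ = ϑ n) →
      (fun n : N => χ n) = (e₀ : ℂ) • ϑ := by
    intro hinv
    rw [← he₀]
    refine Lib.Characters.restrict_eq_smul_of_invariant N hχ hϑ (fun g => funext fun n => ?_) hcon
    have h1 := hinv g n
    have h2 := hinv g⁻¹ n
    simp only [inv_inv] at h2
    first
      | exact h1
      | exact h2
  -- the norm identity
  have hnorm : ∀ e : ℕ, (fun n : N => χ n) = (e : ℂ) • ϑ →
      ((Nat.card N : ℂ) * (e : ℂ) ^ 2 + ∑ g ∈ Finset.univ.filter (fun g => g ∉ N),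
        χ g * conj (χ g)) = Nat.card G := by
    intro e he
    have h1 := Lib.Characters.IsIrrCharacter.classInner_self hχ
    rw [classInner, inv_mul_eq_one₀ Lib.Characters.natCard_ne_zero_complex] at h1
    rw [h1, ← Finset.sum_filter_add_sum_filter_not Finset.univ (fun g : G => g ∈ N)]
    congr 1
    have h2 := Lib.Characters.IsIrrCharacter.classInner_self hϑ
    rw [classInner, inv_mul_eq_one₀ hN0] at h2
    rw [Finset.sum_subtype (Finset.univ.filter fun g : G => g ∈ N) (p := fun g => g ∈ N)
      (fun g => by simp) (fun g => χ g * conj (χ g)), h2, Finset.sum_mul]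
    refine Finset.sum_congr rfl fun n _ => ?_
    have h3 := congrFun he n
    simp only [Pi.smul_apply, smul_eq_mul] at h3
    rw [h3, map_mul, map_natCast]
    ring
  have hidx : (Nat.card G : ℂ) = (Nat.card N : ℂ) * (N.index : ℂ) := by
    rw [← Nat.cast_mul, N.card_mul_index]
  have hA : ∀ e : ℕ, (fun n : N => χ n) = (e : ℂ) • ϑ → (e ^ 2 = N.index) →
      (∀ g : G, g ∉ N → χ g = 0) ∧
      (∀ (g : G) (n : N), ϑ ⟨g * n * g⁻¹, hN.conj_mem (n : G) n.2 g⟩ = ϑ n) := by
    intro e he hidx2
    constructor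
    · intro g hg
      have h := hnorm e he
      rw [hidx, ← hidx2, Nat.cast_pow, add_eq_left] at h
      have h' : ∑ g ∈ Finset.univ.filter (fun g => g ∉ N), Complex.normSq (χ g) = 0 := by
        simp only [Complex.mul_conj] at h
        exact_mod_cast h
      exact Complex.normSq_eq_zero.mp ((Finset.sum_eq_zero_iff_of_nonneg
        fun g _ => Complex.normSq_nonneg _).mp h' g (by simp [hg]))
    · intro g n
      have he0 : (e : ℂ) ≠ 0 := by
        intro h
        rw [h, zero_smul] at he
        exact Lib.Characters.IsIrrCharacter.apply_one_ne_zero hχ (congrFun he 1)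
      have h1 := congrFun he ⟨g * n * g⁻¹, hN.conj_mem (n : G) n.2 g⟩
      have h2 := congrFun he n
      simp only [Pi.smul_apply, smul_eq_mul] at h1 h2
      exact mul_left_cancel₀ he0 (h1.symm.trans ((hχcl _ g).trans h2))
  refine ⟨⟨fun ⟨e, he, he2⟩ => hA e he he2, fun ⟨hv, hinv⟩ => ⟨e₀, hinvN hinv, ?_⟩⟩, ?_⟩
  · have h := hnorm e₀ (hinvN hinv)
    rw [Finset.sum_eq_zero (fun g hg => by rw [hv g (Finset.mem_filter.mp hg).2, zero_mul]),
      add_zero, hidx] at h
    exact_mod_cast mul_left_cancel₀ hN0 h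
  constructor
  · rintro ⟨e, he, he2⟩ g n
    refine ⟨(hA e he he2).2 g n, fun ψ hψ hne => ?_⟩
    by_contra hψχ
    have hv := (hA e he he2).1
    have hind : indFun N (fun m : N => χ m) = (N.index : ℂ) • χ := by
      funext x
      by_cases hx : x ∈ N
      · have h := congrFun (Lib.Characters.indFun_restrict N (fun m : N => χ m)) ⟨x, hx⟩
        simp only [Lib.Characters.conjFun_restrict N hχcl, Pi.smul_apply, Finset.sum_const,
          Finset.card_univ, smul_eq_mul, nsmul_eq_mul, ← Nat.card_eq_fintype_card,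
          Pi.mul_apply, Pi.natCast_apply] at h
        rw [h, hidx, ← mul_assoc, ← mul_assoc, inv_mul_cancel₀ hN0, one_mul]
        rfl
      · rw [Lib.Characters.indFun_vanish N _ hx, Pi.smul_apply, hv x hx, smul_zero]
    rw [he, Lib.Characters.indFun_smul] at hind
    have h0 := congrArg (fun f => classInner f ψ) hind
    simp only [Lib.Characters.classInner_smul_left,
      Lib.Characters.IsIrrCharacter.classInner_ne hχ hψ (Ne.symm hψχ), mul_zero, mul_eq_zero] at h0
    rcases h0 with h0 | h0
    · have : N.index = 0 := by rw [← he2]; simp_all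
      exact Subgroup.index_ne_zero_of_finite this
    · exact hne h0
  · intro h
    have hinv : ∀ (g : G) (n : N), ϑ ⟨g * n * g⁻¹, hN.conj_mem (n : G) n.2 g⟩ = ϑ n :=
      fun g n => (h g n).1
    have huniq := (h 1 1).2
    refine ⟨e₀, hinvN hinv, ?_⟩
    have hdec : indFun N ϑ = (e₀ : ℂ) • χ := by
      rw [Lib.Characters.eq_sum_classInner (Lib.Characters.isClassFunction_indFun N ϑ),
        Finset.sum_eq_single ⟨χ, hχ⟩]
      · congr 1
        show classInner (indFun N ϑ) χ = _
        rw [Lib.Characters.classInner_indFun N ϑ hχcl,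
          ← Lib.Characters.IsCharacter.classInner_comm (Lib.Characters.IsCharacter.restrict hχc N)
            hθc, he₀]
      · intro γ _ hne
        rw [show classInner (indFun N ϑ) (γ : G → ℂ) = 0 by
          by_contra h0
          exact hne (Subtype.ext (huniq γ γ.2 h0)), zero_smul]
      · simp
    have h1 := congrFun hdec 1
    have h2 := congrFun (hinvN hinv) 1
    simp only [Pi.smul_apply, smul_eq_mul, OneMemClass.coe_one] at h1 h2
    rw [Lib.Characters.indFun_one, h2, hd] at h1
    have hd' : (d : ℂ) ≠ 0 := Nat.cast_ne_zero.mpr hd0.ne'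
    have : (N.index : ℂ) = (e₀ : ℂ) ^ 2 :=
      mul_right_cancel₀ hd' (h1.trans (by ring))
    exact_mod_cast this.symm

end Cfsg.Agent.S0900
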