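import Cfsg.Statements.S0902
import Cfsg.Agent.Lib.Blocks.Osima
import Cfsg.Agent.Lib.BlockHeights.GaloisZero

set_option autoImplicit false
open Cfsg
open Cfsg.Agent.Lib.Blocks Cfsg.Agent.Lib.Characters
open scoped ComplexConjugate

namespace Cfsg.Agent.S0902

/-- If two irreducible characters of a finite group lie in the same block relative to one maximal ideal M of the algebraic integers containing the prime p, then at every element the difference of their central characters is an algebraic integer lying in every maximal ideal containing p; in particular they lie in the same block relative to any such ideal. -/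
theorem result {G : Type*} [Group G] [Finite G] (p : ℕ) [Fact p.Prime] (M : Ideal Cfsg.AlgInt) (hM : Cfsg.IsPModular p M) (χ ψ : Cfsg.IrrCharacter G) (h : Cfsg.SameBlock M (χ : G → ℂ) (ψ : G → ℂ)) (M' : Ideal Cfsg.AlgInt) (hM' : Cfsg.IsPModular p M') (g : G) : ∃ r : Cfsg.AlgInt, r ∈ M' ∧ (r : ℂ) = Cfsg.centralChar (χ : G → ℂ) g - Cfsg.centralChar (ψ : G → ℂ) g := by
  classical
  haveI := Fintype.ofFinite G
  haveI := isPrime_of_isPModular hM
  haveI := isPrime_of_isPModular hM'
  haveI : NeZero (Nat.card G) := ⟨Nat.card_pos.ne'⟩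
  have hint : ∀ x : G, IsIntegral ℤ (centralChar (χ : G → ℂ) x - centralChar (ψ : G → ℂ) x) := fun x =>
    (isIntegral_centralChar_irr χ.2 x).sub (isIntegral_centralChar_irr ψ.2 x)
  let a : G → Cfsg.AlgInt := fun x => ⟨_, hint x⟩
  have haM : ∀ x, a x ∈ M := fun x => memLocalIdeal_coe_iff.1 (h x)
  refine ⟨a g, ?_, rfl⟩
  have hmem : ∀ (η : Cfsg.IrrCharacter G) (x : G),
      centralChar (η : G → ℂ) x ∈ Cfsg.Agent.Lib.BlockHeights.cycField (Nat.card G) := fun η x =>
    div_mem (mul_mem (natCast_mem _ _) (Cfsg.Agent.Lib.BlockHeights.apply_mem_cycField (IsIrrCharacter.isCharacter η.2) x))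
      (Cfsg.Agent.Lib.BlockHeights.apply_mem_cycField (IsIrrCharacter.isCharacter η.2) 1)
  let v : G → Cfsg.Agent.Lib.BlockHeights.cycField (Nat.card G) := fun x =>
    ⟨_, sub_mem (hmem χ x) (hmem ψ x)⟩
  let Pc : Polynomial (Cfsg.Agent.Lib.BlockHeights.cycField (Nat.card G)) :=
    ∏ x : G, (Polynomial.X - Polynomial.C (v x))
  let Pa : Polynomial Cfsg.AlgInt := ∏ x : G, (Polynomial.X - Polynomial.C (a x))
  have hsame : Pc.map (Cfsg.Agent.Lib.BlockHeights.cycField (Nat.card G)).val.toRingHom =
      Pa.map Cfsg.AlgInt.val.toRingHom := by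
    simp only [Pc, Pa, Polynomial.map_prod, Polynomial.map_sub, Polynomial.map_X, Polynomial.map_C]
    rfl
  have hfix : ∀ (i : ℕ) (σ : Cfsg.Agent.Lib.BlockHeights.cycField (Nat.card G) ≃ₐ[ℚ]
      Cfsg.Agent.Lib.BlockHeights.cycField (Nat.card G)), σ (Pc.coeff i) = Pc.coeff i := by
    intro i σ
    obtain ⟨k, hk, hσ⟩ := Cfsg.Agent.Lib.BlockHeights.exists_galPow (G := G) σ
    let pk : G ≃ G := powCoprime (G := G) hk.symm
    have hC : ∀ x : G, Subgroup.centralizer ({pk x} : Set G) = Subgroup.centralizer ({x} : Set G) := by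
      intro x
      obtain ⟨n, hn⟩ := Cfsg.Agent.Lib.BlockHeights.exists_pow_inverse hk x
      ext y
      rw [Subgroup.mem_centralizer_iff, Subgroup.mem_centralizer_iff]
      constructor
      · intro hy w hw
        rw [Set.mem_singleton_iff] at hw
        rw [hw, ← hn]
        exact (Commute.pow_left (hy _ rfl : Commute (pk x) y) n).eq
      · intro hy w hw
        rw [Set.mem_singleton_iff] at hw
        rw [hw]
        exact (Commute.pow_left (hy _ rfl : Commute x y) k).eq
    have hω : ∀ (η : Cfsg.IrrCharacter G) (x : G),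
        σ ⟨_, hmem η x⟩ = ⟨_, hmem η (pk x)⟩ := by
      intro η x
      have e : ∀ y : G, (⟨_, hmem η y⟩ : Cfsg.Agent.Lib.BlockHeights.cycField (Nat.card G)) =
          ((Subgroup.centralizer ({y} : Set G)).index : Cfsg.Agent.Lib.BlockHeights.cycField (Nat.card G)) *
            ⟨_, Cfsg.Agent.Lib.BlockHeights.apply_mem_cycField (IsIrrCharacter.isCharacter η.2) y⟩ /
              ⟨_, Cfsg.Agent.Lib.BlockHeights.apply_mem_cycField (IsIrrCharacter.isCharacter η.2) 1⟩ := fun y =>
        Subtype.ext (by push_cast; rfl)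
      rw [e, e, map_div₀, map_mul, map_natCast, hσ _ (IsIrrCharacter.isCharacter η.2), hσ _ (IsIrrCharacter.isCharacter η.2), hC x]
      simp only [one_pow]
      rfl
    have hv : ∀ x, σ (v x) = v (pk x) := fun x => by
      show σ (⟨_, hmem χ x⟩ - ⟨_, hmem ψ x⟩) = _
      rw [map_sub, hω, hω]
      rfl
    have hP : Pc.map σ.toAlgHom.toRingHom = Pc := by
      simp only [Pc, Polynomial.map_prod, Polynomial.map_sub, Polynomial.map_X, Polynomial.map_C]
      exact Fintype.prod_equiv pk _ _ fun x => congrArg (fun w => Polynomial.X - Polynomial.C w) (hv x)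
    conv_rhs => rw [← hP, Polynomial.coeff_map]
    rfl
  have hz : ∀ i, ∃ z : ℤ, Pa.coeff i = (z : Cfsg.AlgInt) := by
    intro i
    obtain ⟨q, hq⟩ := Cfsg.Agent.Lib.BlockHeights.exists_rat_of_fixed (hfix i)
    have he : ((Pa.coeff i : Cfsg.AlgInt) : ℂ) = q := by
      rw [← hq]
      have h1 := congrArg (fun P => Polynomial.coeff P i) hsame
      simp only [Polynomial.coeff_map] at h1
      exact h1.symm
    have hi : IsIntegral ℤ (q : ℂ) := he ▸ (Pa.coeff i).2
    obtain ⟨z, rfl⟩ := exists_int_of_isIntegral_rat hi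
    exact ⟨z, Subtype.ext (by rw [he]; simp)⟩
  have h0 : Pa.map (Ideal.Quotient.mk M) = Polynomial.X ^ Fintype.card G := by
    simp only [Pa, Polynomial.map_prod, Polynomial.map_sub, Polynomial.map_X, Polynomial.map_C,
      Ideal.Quotient.eq_zero_iff_mem.2 (haM _), map_zero, sub_zero, Finset.prod_const, Finset.card_univ]
  have h1 : Pa.map (Ideal.Quotient.mk M') = Polynomial.X ^ Fintype.card G := by
    ext i
    have h2 := congrArg (fun P => Polynomial.coeff P i) h0
    simp only [Polynomial.coeff_map, Polynomial.coeff_X_pow] at h2 ⊢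
    obtain ⟨z, hz⟩ := hz i
    rw [hz] at h2 ⊢
    split_ifs at h2 ⊢ with hi
    all_goals
      rw [← sub_eq_zero] at h2 ⊢
      try rw [← map_one (Ideal.Quotient.mk M)] at h2
      try rw [← map_one (Ideal.Quotient.mk M')]
      simp only [sub_zero, ← map_sub, Ideal.Quotient.eq_zero_iff_mem] at h2 ⊢
    · have h3 := (memLocalIdeal_intCast_iff hM (z - 1)).1 (by simpa using memLocalIdeal_coe h2)
      exact memLocalIdeal_coe_iff.1 (by simpa using (memLocalIdeal_intCast_iff hM' (z - 1)).2 h3)
    · have h3 := (memLocalIdeal_intCast_iff hM z).1 (by simpa using memLocalIdeal_coe h2)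
      exact memLocalIdeal_coe_iff.1 (by simpa using (memLocalIdeal_intCast_iff hM' z).2 h3)
  have h2 : Pa.eval (a g) = 0 := by
    simp only [Pa, Polynomial.eval_prod]
    exact Finset.prod_eq_zero (Finset.mem_univ g) (by simp)
  have h3 := congrArg (Polynomial.eval (Ideal.Quotient.mk M' (a g))) h1
  rw [Polynomial.eval_map, Polynomial.eval₂_hom, h2, map_zero, Polynomial.eval_pow, Polynomial.eval_X] at h3
  exact Ideal.Quotient.eq_zero_iff_mem.1 (eq_zero_of_pow_eq_zero h3.symm)

end Cfsg.Agent.S0902
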