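import Cfsg.Statements.S0903
import Mathlib

set_option autoImplicit false
open Cfsg
open Cfsg
open scoped ComplexConjugate

namespace Cfsg.Agent.S0903

/-- Let P be a p-subgroup of the finite group G, let c centralize P and let g, h ∈ G. The number of pairs (x, y) with x conjugate to g, y conjugate to h and x * y = c is congruent modulo p to the number of such pairs in which x and y both centralize P. (This is why the Brauer map on class sums is multiplicative.) -/
theorem result {G : Type*} [Group G] [Finite G] (p : ℕ) [Fact p.Prime] (P : Subgroup G) (hP : IsPGroup p P) (c : G) (hc : c ∈ Subgroup.centralizer (P : Set G)) (g h : G) : Nat.card {xy : G × G // IsConj g xy.1 ∧ IsConj h xy.2 ∧ xy.1 * xy.2 = c} ≡ Nat.card {xy : G × G // IsConj g xy.1 ∧ IsConj h xy.2 ∧ xy.1 * xy.2 = c ∧ xy.1 ∈ Subgroup.centralizer (P : Set G) ∧ xy.2 ∈ Subgroup.centralizer (P : Set G)} [MOD p] := by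
  classical
  let X := {xy : G × G // IsConj g xy.1 ∧ IsConj h xy.2 ∧ xy.1 * xy.2 = c}
  letI : MulAction P X :=
    { smul := fun k xy => ⟨((k : G) * xy.1.1 * (k : G)⁻¹, (k : G) * xy.1.2 * (k : G)⁻¹),
        xy.2.1.trans (isConj_iff.2 ⟨k, rfl⟩), xy.2.2.1.trans (isConj_iff.2 ⟨k, rfl⟩), by
          dsimp only
          rw [conj_mul, xy.2.2.2]
          exact mul_inv_eq_of_eq_mul (hc k k.2)⟩
      one_smul := fun xy => Subtype.ext (by
        show ((1 : G) * xy.1.1 * (1 : G)⁻¹, (1 : G) * xy.1.2 * (1 : G)⁻¹) = xy.1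
        simp)
      mul_smul := fun a b xy => Subtype.ext (by
        show ((a : G) * b * xy.1.1 * ((a : G) * b)⁻¹, (a : G) * b * xy.1.2 * ((a : G) * b)⁻¹) =
          ((a : G) * ((b : G) * xy.1.1 * (b : G)⁻¹) * (a : G)⁻¹,
            (a : G) * ((b : G) * xy.1.2 * (b : G)⁻¹) * (a : G)⁻¹)
        refine Prod.ext ?_ ?_ <;> group) }
  refine (hP.card_modEq_card_fixedPoints X).trans ?_
  show _ % p = _ % p
  refine congrArg (· % p) (Nat.card_congr ?_)
  exact
    { toFun := fun xy => ⟨xy.1.1, xy.1.2.1, xy.1.2.2.1, xy.1.2.2.2,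
        fun k hk => mul_inv_eq_iff_eq_mul.1 (congrArg (fun z : X => z.1.1) (xy.2 ⟨k, hk⟩)),
        fun k hk => mul_inv_eq_iff_eq_mul.1 (congrArg (fun z : X => z.1.2) (xy.2 ⟨k, hk⟩))⟩
      invFun := fun xy => ⟨⟨xy.1, xy.2.1, xy.2.2.1, xy.2.2.2.1⟩, fun k => Subtype.ext
        (Prod.ext (mul_inv_eq_iff_eq_mul.2 (xy.2.2.2.2.1 k k.2))
          (mul_inv_eq_iff_eq_mul.2 (xy.2.2.2.2.2 k k.2)))⟩
      left_inv := fun xy => rfl
      right_inv := fun xy => rfl }

end Cfsg.Agent.S0903
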