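import Cfsg.Statements.S0910
import Cfsg.Agent.Lib.Blocks.Osima
import Cfsg.Agent.Lib.Characters.Kernel

set_option autoImplicit false
open Cfsg
open Cfsg.Agent.Lib.Blocks Cfsg.Agent.Lib.Characters
open scoped ComplexConjugate

namespace Cfsg.Agent.S0910

/-- Let G be a non-abelian finite simple group and p a prime. If an irreducible character χ lies in the principal block (relative to a maximal ideal of the algebraic integers containing p) and χ 1 is a power of p, then χ is the principal character. -/
theorem result {G : Type*} [Group G] [Finite G] (p : ℕ) [Fact p.Prime] (M : Ideal Cfsg.AlgInt) (hM : Cfsg.IsPModular p M) [IsSimpleGroup G] (hna : ∃ a b : G, a * b ≠ b * a) (χ : Cfsg.IrrCharacter G) (hχ : χ ∈ Cfsg.principalBlock M G) (k : ℕ) (hdeg : (χ : G → ℂ) 1 = (p : ℂ) ^ k) : (χ : G → ℂ) = fun _ => 1 := by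
  classical
  haveI := Fintype.ofFinite G
  haveI := isPrime_of_isPModular hM
  haveI : IsSimpleGroup G := inferInstance
  by_contra hne
  have hcentral : ∀ z : G, (∀ x, x * z = z * x) → z = 1 := by
    intro z hz
    rcases IsSimpleGroup.eq_bot_or_eq_top_of_normal (Subgroup.center G) inferInstance with h | h
    · exact (Subgroup.eq_bot_iff_forall _).1 h z (Subgroup.mem_center_iff.2 hz)
    · obtain ⟨a, b, hab⟩ := hna
      exact absurd (Subgroup.mem_center_iff.1 (h ▸ Subgroup.mem_top a) b).symm hab
  rcases Nat.eq_zero_or_pos k with rfl | hk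
  · rw [pow_zero] at hdeg
    have htop : commutator G = ⊤ := by
      rcases IsSimpleGroup.eq_bot_or_eq_top_of_normal (commutator G) inferInstance with h | h
      · obtain ⟨a, b, hab⟩ := hna
        exfalso
        have hm : a * b * a⁻¹ * b⁻¹ ∈ commutator G := Subgroup.commutator_mem_commutator (Subgroup.mem_top a) (Subgroup.mem_top b)
        rw [h, Subgroup.mem_bot] at hm
        exact hab (by rwa [mul_inv_eq_one, mul_inv_eq_iff_eq_mul] at hm)
      · exact h
    exact hne (funext fun g => IsCharacter.apply_of_mem_commutator (irr_isCharacter χ) hdeg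
      (htop ▸ Subgroup.mem_top g))
  obtain ⟨n, ρ, hρ, he⟩ := χ.2
  haveI := hρ
  have hfin : Module.finrank ℂ (Fin n → ℂ) = p ^ k := by
    have h1 : (χ : G → ℂ) 1 = (Module.finrank ℂ (Fin n → ℂ) : ℂ) := by rw [← he, ρ.char_one]
    exact_mod_cast h1.symm.trans hdeg
  have hpG : p ∣ Nat.card G := by
    have h := finrank_dvd_card ρ
    rw [hfin] at h
    exact dvd_trans (dvd_pow_self p hk.ne') h
  obtain ⟨P⟩ : Nonempty (Sylow p G) := inferInstance
  haveI : Nontrivial (P : Subgroup G) := by
    rw [← Finite.one_lt_card_iff_nontrivial]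
    exact lt_of_lt_of_le hM.1.one_lt (Nat.le_of_dvd Nat.card_pos (P.dvd_card_of_dvd_card hpG))
  haveI := P.2.center_nontrivial
  obtain ⟨z, hz⟩ := exists_ne (1 : Subgroup.center (P : Subgroup G))
  have hz1 : ((z : (P : Subgroup G)) : G) ≠ 1 := fun h => hz (Subtype.ext (Subtype.ext h))
  have hPC : (P : Subgroup G) ≤ Subgroup.centralizer ({((z : (P : Subgroup G)) : G)} : Set G) := by
    intro x hx w hw
    rw [Set.mem_singleton_iff] at hw
    rw [hw]
    exact (congrArg Subtype.val (Subgroup.mem_center_iff.1 z.2 ⟨x, hx⟩)).symm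
  have hnd : ¬ p ∣ (Subgroup.centralizer ({((z : (P : Subgroup G)) : G)} : Set G)).index := fun h =>
    P.not_dvd_index (h.trans (Subgroup.index_dvd_of_le hPC))
  have hcop : Nat.Coprime (Module.finrank ℂ (Fin n → ℂ))
      (Nat.card {x : G // IsConj ((z : (P : Subgroup G)) : G) x}) := by
    rw [hfin, card_conj_eq_index]
    exact (hM.1.coprime_iff_not_dvd.2 hnd).pow_left k
  rcases char_eq_zero_or_norm_eq_of_coprime ρ ((z : (P : Subgroup G)) : G) hcop with h0 | h0
  · have hc : centralChar (χ : G → ℂ) ((z : (P : Subgroup G)) : G) = 0 := by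
      rw [centralChar, ← he, h0]; simp
    have h1 := hχ ((z : (P : Subgroup G)) : G)
    rw [hc, sub_zero] at h1
    simp only [centralChar, mul_one, div_one] at h1
    exact hnd ((memLocalIdeal_natCast_iff hM _).1 h1)
  · obtain ⟨ω, hω⟩ := (norm_char_eq_iff ρ _).1 h0
    refine hz1 (hcentral _ fun x => rep_injective_of_isSimpleGroup ρ (fun h => hne (he ▸ h)) ?_)
    rw [map_mul, map_mul, hω, ← Module.End.one_eq_id, mul_smul_comm, smul_mul_assoc, mul_one,
      one_mul]

end Cfsg.Agent.S0910
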