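import Cfsg.Statements.S0904
import Cfsg.Agent.Lib.Blocks.Sections
import Cfsg.Agent.Lib.Blocks.Exists
import Cfsg.Agent.Lib.Characters.Values
import Cfsg.Agent.S0910

set_option autoImplicit false
open Cfsg
open Cfsg.Agent.Lib.Blocks Cfsg.Agent.Lib.Characters
open scoped ComplexConjugate

namespace Cfsg.Agent.S0904

/-- Let G be a finite simple group of order p ^ a * q ^ b * r with p, q, r distinct primes. Then every Sylow r-subgroup S of G satisfies C_G(S) = S. -/
theorem result {G : Type*} [Group G] [Finite G] [IsSimpleGroup G] (p q r a b : ℕ) (hp : p.Prime) (hq : q.Prime) [Fact r.Prime] (hpq : p ≠ q) (hpr : p ≠ r) (hqr : q ≠ r) (hcard : Nat.card G = p ^ a * q ^ b * r) (S : Sylow r G) : Subgroup.centralizer (S : Set G) = (S : Subgroup G) := by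
  classical
  haveI := Fintype.ofFinite G
  haveI := Fintype.ofFinite (IrrCharacter G)
  have hr : r.Prime := Fact.out
  have hle : (S : Subgroup G) ≤ Subgroup.centralizer (S : Set G) := by
    have hS : Nat.card (S : Subgroup G) = r := by
      rw [Sylow.card_eq_multiplicity, hcard]
      rw [Nat.factorization_mul (by simp [hp.ne_zero, hq.ne_zero]) hr.ne_zero,
        Nat.factorization_mul (by simp [hp.ne_zero]) (by simp [hq.ne_zero]),
        hp.factorization_pow, hq.factorization_pow, hr.factorization]
      simp [hpr, hqr]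
    haveI := isCyclic_of_prime_card hS
    haveI : IsMulCommutative (S : Subgroup G) := IsCyclic.isMulCommutative
    exact (S : Subgroup G).le_centralizer
  refine le_antisymm ?_ hle
  by_contra hnle
  obtain ⟨y₀, hy₀, hy₀S⟩ := SetLike.not_le_iff_exists.1 hnle
  have hS : Nat.card (S : Subgroup G) = r := by
    rw [Sylow.card_eq_multiplicity, hcard]
    rw [Nat.factorization_mul (by simp [hp.ne_zero, hq.ne_zero]) hr.ne_zero,
      Nat.factorization_mul (by simp [hp.ne_zero]) (by simp [hq.ne_zero]),
      hp.factorization_pow, hq.factorization_pow, hr.factorization]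
    simp [hpr, hqr]
  have hidx : (S : Subgroup G).relIndex (Subgroup.centralizer (S : Set G)) ≠ 1 := fun h =>
    hnle (Subgroup.relIndex_eq_one.1 h)
  obtain ⟨s, hs, hsd⟩ := Nat.exists_prime_and_dvd hidx
  have hsG : s ∣ p ^ a * q ^ b := by
    have h1 : (S : Subgroup G).relIndex (Subgroup.centralizer (S : Set G)) ∣ (S : Subgroup G).index :=
      Dvd.intro _ (Subgroup.relIndex_mul_index hle)
    have h2 := Subgroup.card_mul_index (S : Subgroup G)
    rw [hS, hcard, mul_comm (p ^ a * q ^ b)] at h2
    exact (Nat.eq_of_mul_eq_mul_left hr.pos h2) ▸ hsd.trans h1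
  -- symmetric core
  have main : ∀ (t u c d : ℕ), t.Prime → u.Prime → t ≠ r → u ≠ r → Nat.card G = t ^ c * u ^ d * r →
      t ∣ (S : Subgroup G).relIndex (Subgroup.centralizer (S : Set G)) → False := by
    intro t u c d ht hu htr hur hG htd
    haveI := Fact.mk ht
    have htC : t ∣ Nat.card (Subgroup.centralizer (S : Set G)) := by
      refine htd.trans ?_
      exact Subgroup.index_dvd_card _
    obtain ⟨y, hy⟩ := exists_prime_orderOf_dvd_card' t htC
    haveI := isCyclic_of_prime_card hS
    obtain ⟨x, hx⟩ := IsCyclic.exists_generator (α := (S : Subgroup G))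
    have hxo : orderOf (x : G) = r := by
      rw [Subgroup.orderOf_coe, orderOf_eq_card_of_forall_mem_zpowers hx, hS]
    have hyo : orderOf (y : G) = t := by rw [Subgroup.orderOf_coe, hy]
    have hcm : Commute (x : G) (y : G) := y.2 x x.2
    have hgo : orderOf ((x : G) * y) = r * t := by
      rw [hcm.orderOf_mul_eq_mul_orderOf_of_coprime (by
        rw [hxo, hyo]; exact (Nat.coprime_primes hr ht).2 (Ne.symm htr)), hxo, hyo]
    have hna : ∃ a b : G, a * b ≠ b * a := by
      by_contra hcon
      push Not at hcon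
      letI : CommGroup G := { (inferInstance : Group G) with mul_comm := hcon }
      have hpc := IsSimpleGroup.prime_card (α := G)
      have hd : r * t ∣ Nat.card G := hgo ▸ orderOf_dvd_natCard _
      rcases (Nat.dvd_prime hpc).1 hd with h | h
      · exact hr.ne_one (mul_eq_one.1 h).1
      · rw [← h] at hpc
        exact Nat.not_prime_mul hr.ne_one ht.ne_one hpc
    obtain ⟨M, hM⟩ := exists_isPModular ht
    haveI := isPrime_of_isPModular hM
    have hsum := finsum_regular_singular_eq_zero hM (isPBlock_principalBlock (M := M) (G := G))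
      (g := (1 : G)) (h := (x : G) * y) (by rw [orderOf_one, Nat.dvd_one]; exact ht.ne_one)
      (hgo ▸ dvd_mul_left t r)
    have htriv : trivIrr G ∈ principalBlock M G := self_mem_blockOf (trivIrr G)
    rw [finsum_mem_eq_toFinset_sum, ← Finset.add_sum_erase _ _ (Set.mem_toFinset.2 htriv)] at hsum
    simp only [trivIrr_apply, map_one, mul_one] at hsum
    have hterm : ∀ χ ∈ (principalBlock M G).toFinset.erase (trivIrr G),
        IsIntegral ℤ ((χ : G → ℂ) 1 * conj ((χ : G → ℂ) ((x : G) * y)) / (u : ℂ)) := by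
      intro χ hχ
      rw [Finset.mem_erase, Set.mem_toFinset] at hχ
      obtain ⟨n, hn, hdeg, hdvd⟩ := IsIrrCharacter.exists_degree_dvd χ.2
      by_cases h0 : (χ : G → ℂ) ((x : G) * y) = 0
      · rw [h0, map_zero, mul_zero, zero_div]; exact isIntegral_zero
      rw [hdeg]
      by_cases hun : u ∣ n
      · obtain ⟨m, rfl⟩ := hun
        have hu0 : (u : ℂ) ≠ 0 := by exact_mod_cast hu.ne_zero
        rw [Nat.cast_mul, mul_assoc, mul_div_cancel_left₀ _ hu0, ← IsCharacter.apply_inv (irr_isCharacter χ)]
        exact (isIntegral_algebraMap (R := ℤ) (A := ℂ) (x := (m : ℤ))).mul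
          (IsCharacter.isIntegral (irr_isCharacter χ) _)
      exfalso
      have hrn : ¬ r ∣ n := by
        intro hrn
        refine h0 (vanish_of_defect_zero χ.2 hr hdeg ?_ (hgo ▸ dvd_mul_right r t))
        have hf : (Nat.card G).factorization r = 1 := by
          rw [hG, Nat.factorization_mul (by simp [ht.ne_zero, hu.ne_zero]) hr.ne_zero,
            Nat.factorization_mul (by simp [ht.ne_zero]) (by simp [hu.ne_zero]),
            ht.factorization_pow, hu.factorization_pow, hr.factorization]
          simp [htr, hur]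
        rwa [hf, pow_one]
      have hnt : n ∣ t ^ c := by
        rw [hG] at hdvd
        refine Nat.Coprime.dvd_of_dvd_mul_right ?_ (Nat.Coprime.dvd_of_dvd_mul_right ?_ hdvd)
        · exact ((hu.coprime_iff_not_dvd.2 hun).symm.pow_right d)
        · exact (hr.coprime_iff_not_dvd.2 hrn).symm
      obtain ⟨j, -, rfl⟩ := (Nat.dvd_prime_pow ht).1 hnt
      exact hχ.1 (Subtype.ext (Cfsg.Agent.S0910.result t M hM hna χ hχ.2 j (by rw [hdeg]; push_cast; rfl)))
    have hint : IsIntegral ℤ ((-1 : ℂ) / u) := by
      rw [show (-1 : ℂ) / u = ∑ χ ∈ (principalBlock M G).toFinset.erase (trivIrr G),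
          (χ : G → ℂ) 1 * conj ((χ : G → ℂ) ((x : G) * y)) / (u : ℂ) from by
        rw [← Finset.sum_div, eq_neg_of_add_eq_zero_right hsum]]
      exact IsIntegral.sum _ hterm
    have h2 : IsIntegral ℤ ((1 : ℕ) / (u : ℂ)) := by simpa [neg_div] using hint.neg
    exact hu.ne_one (Nat.dvd_one.mp (dvd_of_isIntegral_div hu.ne_zero h2))
  rcases (Nat.Prime.dvd_mul hs).1 hsG with h | h
  · obtain rfl := (Nat.prime_dvd_prime_iff_eq hs hp).1 (hs.dvd_of_dvd_pow h)
    exact main s q a b hs hq hpr hqr hcard hsd
  · obtain rfl := (Nat.prime_dvd_prime_iff_eq hs hq).1 (hs.dvd_of_dvd_pow h)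
    exact main s p b a hs hp hqr hpr (by rw [hcard]; ring) hsd

end Cfsg.Agent.S0904
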