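import Cfsg.Statements.S0905
import Cfsg.Agent.Lib.Blocks.NormalP
import Cfsg.Agent.Lib.Cores.PCore

set_option autoImplicit false
open Cfsg
open Cfsg.Agent.Lib.Blocks Cfsg.Agent.Lib.Characters
open scoped ComplexConjugate

namespace Cfsg.Agent.S0905

/-- Let F be a field of characteristic p and let g be an element of the finite group G no conjugate of which centralizes O_p(G). Then the class sum of g is a nilpotent element of the group algebra F[G]. -/
theorem result {G : Type*} [Group G] [Finite G] (p : ℕ) [Fact p.Prime] (F : Type*) [Field F] [CharP F p] (g : G) (hg : ∀ x : G, IsConj g x → x ∉ Subgroup.centralizer (Cfsg.pCore p G : Set G)) : IsNilpotent (∑ᶠ x ∈ ConjClasses.carrier (ConjClasses.mk g), MonoidAlgebra.single x (1 : F) : MonoidAlgebra F G) := by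
  haveI := Fintype.ofFinite G
  classical
  obtain ⟨n, hn⟩ := exists_classSumMod_pow_eq_zero (Q := Cfsg.pCore p G)
    (Cfsg.Agent.Lib.Cores.pCore_isPGroup p G) hg
  refine ⟨n, ?_⟩
  have h := congrArg (MonoidAlgebra.mapRingHom G (ZMod.castHom dvd_rfl F)) hn
  rw [map_pow, map_zero] at h
  convert h using 2
  rw [classSumMod, map_sum, finsum_mem_def, finsum_eq_sum_of_fintype]
  refine Finset.sum_congr rfl fun x _ => ?_
  rw [Set.indicator_apply]
  have hiff : x ∈ ConjClasses.carrier (ConjClasses.mk g) ↔ IsConj g x := by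
    rw [ConjClasses.mem_carrier_iff_mk_eq, ConjClasses.mk_eq_mk_iff_isConj, isConj_comm]
  simp only [hiff]
  split_ifs <;> simp [MonoidAlgebra.mapRingHom_single]

end Cfsg.Agent.S0905
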