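import Cfsg.Statements.S0915
import Cfsg.Agent.Lib.Blocks.PSolvable
import Cfsg.Agent.Lib.Blocks.NormalP
import Cfsg.Agent.Lib.Blocks.Sections

set_option autoImplicit false
open Cfsg
open Cfsg.Agent.Lib.Blocks Cfsg.Agent.Lib.Characters
open scoped ComplexConjugate

namespace Cfsg.Agent.S0915

/-- Let G be a finite p-solvable group with trivial largest normal subgroup of order prime to p. Then any two irreducible characters of G lie in the same block relative to every maximal ideal M of the algebraic integers containing p: G has a single p-block. -/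
theorem result {G : Type*} [Group G] [Finite G] (p : ℕ) [Fact p.Prime] (M : Ideal Cfsg.AlgInt) (hM : Cfsg.IsPModular p M) (hsolv : Cfsg.IsPSolvable p G) (hcore : Cfsg.pPrimeCore p G = ⊥) (χ ψ : Cfsg.IrrCharacter G) : Cfsg.SameBlock M (χ : G → ℂ) (ψ : G → ℂ) := by
  classical
  haveI := Fintype.ofFinite G
  haveI := isPrime_of_isPModular hM
  haveI : Finite (ConjClasses G) := Finite.of_surjective _ ConjClasses.mk_surjective
  haveI := Fintype.ofFinite (ConjClasses G)
  haveI hPn : (pCore p G).Normal := by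
    refine ⟨fun x hx g => ?_⟩
    rw [← Cfsg.Agent.Lib.Cores.map_pCore_equiv (p := p) (MulAut.conj g)]
    exact ⟨x, hx, rfl⟩
  have hsupp : ∀ (g : G), g ≠ 1 → ∀ η : Cfsg.IrrCharacter G,
      MemLocalIdeal M (blockCoeff (blockOf M (χ : G → ℂ)) g * centralChar (η : G → ℂ) g) := by
    intro g hg1 η
    by_cases hd : p ∣ orderOf g
    · rw [blockCoeff_eq_zero_of_dvd hM (isPBlock_blockOf χ) hd, zero_mul]
      exact memLocalIdeal_zero
    refine memLocalIdeal_mul_left ((isRCentral_blockCoeff hM (isPBlock_blockOf χ)).2 g) ?_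
    by_contra h
    have hgC := mem_centralizer_of_centralChar_ne hM (Cfsg.Agent.Lib.Cores.pCore_isPGroup p G) h
    obtain ⟨k, hk⟩ := Cfsg.Agent.Lib.Cores.pCore_isPGroup p G
      ⟨g, centralizer_pCore_le_of_isPSolvable p hsolv hcore hgC⟩
    obtain ⟨j, -, hj⟩ := (Nat.dvd_prime_pow hM.1).1
      (orderOf_dvd_of_pow_eq_one (show g ^ p ^ k = 1 from congrArg Subtype.val hk))
    rcases Nat.eq_zero_or_pos j with rfl | hj0
    · exact hg1 (orderOf_eq_one_iff.1 (by rw [hj, pow_zero]))
    · exact hd (hj ▸ dvd_pow_self p hj0.ne')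
  have hconst : ∀ η : Cfsg.IrrCharacter G, MemLocalIdeal M
      (omega (η : G → ℂ) (blockCoeff (blockOf M (χ : G → ℂ))) - blockCoeff (blockOf M (χ : G → ℂ)) 1) := by
    intro η
    rw [omega_eq_sum_classes (irr_isClassFunction η) (isClassFunction_blockCoeff _),
      ← Finset.add_sum_erase _ _ (Finset.mem_univ (ConjClasses.mk (1 : G)))]
    have h1 : Quotient.out (ConjClasses.mk (1 : G)) = 1 :=
      isConj_one_right.1 (ConjClasses.mk_eq_mk_iff_isConj.1 (Quotient.out_eq (ConjClasses.mk (1 : G))).symm)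
    have hω1 : centralChar (η : G → ℂ) 1 = 1 := by
      rw [centralChar, show Subgroup.centralizer ({1} : Set G) = ⊤ from eq_top_iff.2 fun x _ w hw => by
        rw [Set.mem_singleton_iff] at hw; simp [hw]]
      simp [IsIrrCharacter.apply_one_ne_zero η.2]
    rw [h1, hω1, mul_one, add_sub_cancel_left]
    refine memLocalIdeal_sum _ fun C hC => hsupp _ (fun h => (Finset.mem_erase.1 hC).1 ?_) η
    exact (Quotient.out_eq C).symm.trans (congrArg ConjClasses.mk h)
  by_contra h
  have hψ : ψ ∉ blockOf M (χ : G → ℂ) := h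
  have h1 := hconst χ
  have h2 := hconst ψ
  rw [omega_blockCoeff, if_pos (self_mem_blockOf χ)] at h1
  rw [omega_blockCoeff, if_neg hψ] at h2
  have := memLocalIdeal_sub h1 h2
  simp only [sub_sub_sub_cancel_right, sub_zero] at this
  exact not_memLocalIdeal_one this

end Cfsg.Agent.S0915
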