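import Cfsg.Statements.S0918
import Cfsg.Agent.Lib.Blocks.Induced

set_option autoImplicit false
open Cfsg
open Cfsg.Agent.Lib.Blocks Cfsg.Agent.Lib.Characters
open scoped ComplexConjugate

namespace Cfsg.Agent.S0918

/-- Let P be a p-subgroup of the finite group G and H a subgroup with P·C_G(P) ≤ H ≤ N_G(P); let b be a block of H and B a block of G relative to a maximal ideal M of the algebraic integers containing p. Then b induces B if and only if, for every g ∈ G, every ξ ∈ b and every χ ∈ B, the central character of χ at g is congruent modulo the local ideal at M to the sum of ξ h / ξ 1 over the elements h of H conjugate in G to g and centralizing P. -/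
theorem result {G : Type*} [Group G] [Finite G] (p : ℕ) [Fact p.Prime] (M : Ideal Cfsg.AlgInt) (hM : Cfsg.IsPModular p M) (P H : Subgroup G) (hP : IsPGroup p P) (hPH : P ≤ H) (hCH : Subgroup.centralizer (P : Set G) ≤ H) (hHN : H ≤ Subgroup.normalizer (P : Set G)) (b : Set (Cfsg.IrrCharacter H)) (hb : Cfsg.IsPBlock M b) (B : Set (Cfsg.IrrCharacter G)) (hB : Cfsg.IsPBlock M B) : Cfsg.IsInducedBlock M H b B ↔ ∀ ξ ∈ b, ∀ χ ∈ B, ∀ g : G, Cfsg.MemLocalIdeal M (Cfsg.brauerCentralChar P H (ξ : H → ℂ) g - Cfsg.centralChar (χ : G → ℂ) g) := by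
  classical
  haveI := Fintype.ofFinite G
  haveI := Fintype.ofFinite H
  haveI := isPrime_of_isPModular hM
  have key : ∀ (ξ : Cfsg.IrrCharacter H) (g : G), brauerCentralChar P H (ξ : H → ℂ) g =
      omega (ξ : H → ℂ) (resFun H (trunc P (classIndicator g))) := by
    intro ξ g
    rw [brauerCentralChar, finsum_mem_def, finsum_eq_sum_of_fintype, omega, Finset.sum_div]
    refine Finset.sum_congr rfl fun h _ => ?_
    simp only [resFun, Set.indicator_apply, Set.mem_ofPred_eq]
    by_cases hc : (h : G) ∈ Subgroup.centralizer (P : Set G)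
    · rw [trunc_of_mem hc]
      simp only [classIndicator, and_iff_left hc]
      split_ifs <;> simp
    · simp [trunc_of_notMem hc, hc]
  have aux : ∀ (ξ : Cfsg.IrrCharacter H) (g : G), MemLocalIdeal M
      (inducedCentralChar H (ξ : H → ℂ) g - brauerCentralChar P H (ξ : H → ℂ) g) := fun ξ g => by
    rw [key, inducedCentralChar_eq_omega]
    exact omega_resFun_trunc_congr hM hP hPH hHN ξ (isRCentral_classIndicator (M := M) g)
  constructor
  · intro h ξ hξ χ hχ g
    simpa using memLocalIdeal_sub (h.2.2 ξ hξ χ hχ g) (aux ξ g)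
  · intro h
    refine ⟨hb, hB, fun ξ hξ χ hχ g => ?_⟩
    simpa [add_comm] using memLocalIdeal_add (h ξ hξ χ hχ g) (aux ξ g)

end Cfsg.Agent.S0918
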