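import Cfsg.Statements.S0920
import Cfsg.Agent.Lib.Blocks.MainTheorems
import Cfsg.Agent.Lib.Blocks.Principal
import Cfsg.Agent.Lib.Cores.PCore

set_option autoImplicit false
open Cfsg
open Cfsg.Agent.Lib.Blocks Cfsg.Agent.Lib.Characters Cfsg.Agent.Lib.Cores
open scoped ComplexConjugate

namespace Cfsg.Agent.S0920

/-- Brauer's First Main Theorem. Let D be a p-subgroup of the finite group G with normalizer N, and fix a maximal ideal M of the algebraic integers containing p. Then (i) every block b of N having D as a defect group induces some block B of G having D as a defect group; (ii) every block of G with defect group D is induced by exactly one block of N with defect group D. -/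
theorem result {G : Type*} [Group G] [Finite G] (p : ℕ) [Fact p.Prime] (M : Ideal Cfsg.AlgInt) (hM : Cfsg.IsPModular p M) (D : Subgroup G) (hD : IsPGroup p D) : (∀ b : Set (Cfsg.IrrCharacter (Subgroup.normalizer (D : Set G))), Cfsg.IsPBlock M b → Cfsg.IsDefectGroup p M b (D.subgroupOf (Subgroup.normalizer (D : Set G))) → ∃ B : Set (Cfsg.IrrCharacter G), Cfsg.IsPBlock M B ∧ Cfsg.IsDefectGroup p M B D ∧ Cfsg.IsInducedBlock M (Subgroup.normalizer (D : Set G)) b B) ∧ (∀ B : Set (Cfsg.IrrCharacter G), Cfsg.IsPBlock M B → Cfsg.IsDefectGroup p M B D → ∃! b : Set (Cfsg.IrrCharacter (Subgroup.normalizer (D : Set G))), Cfsg.IsPBlock M b ∧ Cfsg.IsDefectGroup p M b (D.subgroupOf (Subgroup.normalizer (D : Set G))) ∧ Cfsg.IsInducedBlock M (Subgroup.normalizer (D : Set G)) b B) := by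
  haveI := Fintype.ofFinite G
  haveI := Fintype.ofFinite (Subgroup.normalizer (D : Set G))
  haveI := isPrime_of_isPModular hM
  have hDN : D ≤ Subgroup.normalizer (D : Set G) := Subgroup.le_normalizer
  have hCN : Subgroup.centralizer (D : Set G) ≤ Subgroup.normalizer (D : Set G) :=
    Subgroup.centralizer_le_normalizer _
  constructor
  · intro b hb hdef
    obtain ⟨ξ, hξ⟩ := IsPBlock.nonempty hb
    obtain ⟨χ, hχ⟩ := exists_induced_char hM hD hDN hCN le_rfl ξ
    have hind : IsInducedBlock M (Subgroup.normalizer (D : Set G)) b (blockOf M (χ : G → ℂ)) :=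
      isInducedBlock_of_pair hb (isPBlock_blockOf χ) hξ (self_mem_blockOf χ) fun g => by
        have h := hχ _ (isRCentral_classIndicator (M := M) g)
        rwa [omega_classIndicator (irr_isClassFunction χ)] at h
    exact ⟨_, isPBlock_blockOf χ, isDefectGroup_induced hM hind hdef, hind⟩
  · intro B hB hdef
    obtain ⟨b, hb⟩ := exists_isInducedBlock hM hD hDN hCN le_rfl hB hdef (x := 1)
      (by rintro _ ⟨a, ha, rfl⟩; simpa using ha)
    refine ⟨b, ⟨hb.1, isDefectGroup_of_isInducedBlock hM hDN le_rfl hb hdef, hb⟩, ?_⟩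
    rintro b' ⟨-, hb'd, hb'⟩
    exact eq_of_isInducedBlock hM hb' hb hb'd

end Cfsg.Agent.S0920
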