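import Cfsg.Statements.S0925
import Cfsg.Agent.Lib.Blocks.HeightZero

set_option autoImplicit false
open Cfsg
open Cfsg.Agent.Lib.Blocks Cfsg.Agent.Lib.Characters
open scoped ComplexConjugate

namespace Cfsg.Agent.S0925

/-- (i) Let ϑ be a class function on the finite group G and x a p-element, and suppose ϑ vanishes at every element whose p-part is conjugate to x. Then for every block B (relative to a maximal ideal M of the algebraic integers containing p) the B-part of ϑ — the sum over χ ∈ B of the inner product of ϑ with χ, times χ — also vanishes at every such element. (ii) Block orthogonality, its corollary: if the p-parts of g and h are not conjugate, then the sum over χ ∈ B of χ g * χ h⁻¹ is zero for every block B. -/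
theorem result {G : Type*} [Group G] [Finite G] (p : ℕ) [Fact p.Prime] (M : Ideal Cfsg.AlgInt) (hM : Cfsg.IsPModular p M) : (∀ (ϑ : G → ℂ), Cfsg.IsClassFunction G ϑ → ∀ x : G, (∃ k : ℕ, orderOf x = p ^ k) → (∀ u z : G, Cfsg.IsPPart p u z → IsConj x z → ϑ u = 0) → ∀ B : Set (Cfsg.IrrCharacter G), Cfsg.IsPBlock M B → ∀ u z : G, Cfsg.IsPPart p u z → IsConj x z → Cfsg.blockPart B ϑ u = 0) ∧ (∀ g h x y : G, Cfsg.IsPPart p g x → Cfsg.IsPPart p h y → ¬ IsConj x y → ∀ B : Set (Cfsg.IrrCharacter G), Cfsg.IsPBlock M B → ∑ᶠ χ ∈ B, (χ : G → ℂ) g * (χ : G → ℂ) h⁻¹ = 0) := by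
  letI := Fintype.ofFinite G
  haveI := isPrime_of_isPModular hM
  classical
  haveI := Fintype.ofFinite (IrrCharacter G)
  refine ⟨fun ϑ hϑ x hx h0 B hB u z hu hxz => ?_, fun g h x y hg hh hn B hB =>
    finsum_mul_eq_zero hM hB hg hh (Or.inl hn)⟩
  have key : ∀ k : G, ϑ k * ∑ᶠ χ ∈ B, (χ : G → ℂ) u * conj ((χ : G → ℂ) k) = 0 := by
    intro k
    obtain ⟨w, hw⟩ := exists_isPPart hM.1 k
    by_cases hxw : IsConj x w
    · rw [h0 k w hw hxw, zero_mul]
    · rw [finsum_mul_conj_eq_zero hM hB hu hw (Or.inl fun hzw => hxw (hxz.trans hzw)), mul_zero]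
  show ∑ᶠ χ ∈ B, classInner ϑ (χ : G → ℂ) * (χ : G → ℂ) u = 0
  have hsum : ∑ k : G, ϑ k * ∑ᶠ χ ∈ B, (χ : G → ℂ) u * conj ((χ : G → ℂ) k) = 0 :=
    Finset.sum_eq_zero fun k _ => key k
  have e : ∑ᶠ χ ∈ B, classInner ϑ (χ : G → ℂ) * (χ : G → ℂ) u =
      (Nat.card G : ℂ)⁻¹ * ∑ k : G, ϑ k * ∑ᶠ χ ∈ B, (χ : G → ℂ) u * conj ((χ : G → ℂ) k) := by
    simp only [finsum_irr_eq_sum_ite, Finset.mul_sum]
    rw [Finset.sum_comm]
    refine Finset.sum_congr rfl fun χ _ => ?_
    split_ifs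
    · simp only [classInner, Finset.mul_sum, Finset.sum_mul]
      exact Finset.sum_congr rfl fun k _ => by ring
    · simp
  rw [e, hsum, mul_zero]

end Cfsg.Agent.S0925
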