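import Cfsg.Statements.S0926
import Cfsg.Agent.Lib.Blocks.HeightZero

set_option autoImplicit false
open Cfsg
open Cfsg.Agent.Lib.Blocks Cfsg.Agent.Lib.Characters
open scoped ComplexConjugate

namespace Cfsg.Agent.S0926

/-- Let B be a block of the finite group G with defect group D (relative to a maximal ideal M of the algebraic integers containing p), let χ ∈ B have height zero, and let x be a p-element. Then some conjugate of x lies in D if and only if χ does not vanish on the whole p-section of x (the elements whose p-part is conjugate to x). -/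
theorem result {G : Type*} [Group G] [Finite G] (p : ℕ) [Fact p.Prime] (M : Ideal Cfsg.AlgInt) (hM : Cfsg.IsPModular p M) (B : Set (Cfsg.IrrCharacter G)) (hB : Cfsg.IsPBlock M B) (D : Subgroup G) (hD : Cfsg.IsDefectGroup p M B D) (χ : Cfsg.IrrCharacter G) (hχ : χ ∈ B) (h0 : Cfsg.blockHeight p B (χ : G → ℂ) = 0) (x : G) (hx : ∃ k : ℕ, orderOf x = p ^ k) : (∃ g : G, g * x * g⁻¹ ∈ D) ↔ ∃ u : G, (∃ z : G, Cfsg.IsPPart p u z ∧ IsConj x z) ∧ (χ : G → ℂ) u ≠ 0 := by
  haveI := Fintype.ofFinite G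
  haveI := isPrime_of_isPModular hM
  constructor
  · rintro ⟨g, hg⟩
    obtain ⟨y, hy, P, rfl⟩ := hD
    have hc : Commute (g * x * g⁻¹) y :=
      (Subgroup.mem_centralizer_iff.1 (sylowSub_le P hg) y rfl).symm
    have hxk : ∃ k : ℕ, orderOf (g * x * g⁻¹) = p ^ k := by
      obtain ⟨k, hk⟩ := hx
      exact ⟨k, by
        rw [← hk]
        exact orderOf_injective (MulAut.conj g).toMonoidHom (MulAut.conj g).injective x⟩
    exact ⟨g * x * g⁻¹ * y, ⟨g * x * g⁻¹,
      ⟨y, rfl, hc, hxk, IsDefectClass.regular hM hB hy⟩, isConj_iff.2 ⟨g, rfl⟩⟩,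
      ne_zero_of_not_memLocalIdeal (not_memLocalIdeal_height_zero_mul hM hB hy hxk hc hχ h0)⟩
  · rintro ⟨u, ⟨z, hz, hxz⟩, hu⟩
    by_contra hcon
    refine hu (char_eq_zero_of_forall_notMem hM hB hz (fun E hE hzE => hcon ?_) hχ)
    obtain ⟨a, ha⟩ := IsDefectGroup.exists_map_conj_eq hM hB hE hD
    obtain ⟨b, rfl⟩ := isConj_iff.1 hxz
    exact ⟨a * b, by rw [← ha]; exact ⟨b * x * b⁻¹, hzE, by simp [mul_assoc]⟩⟩

end Cfsg.Agent.S0926
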