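import Cfsg.Statements.S0927
import Cfsg.Agent.Lib.Blocks.HeightZero

set_option autoImplicit false
open Cfsg
open Cfsg.Agent.Lib.Blocks Cfsg.Agent.Lib.Characters
open scoped ComplexConjugate

namespace Cfsg.Agent.S0927

/-- Let B be a block of the finite group G relative to a maximal ideal M of the algebraic integers containing p, let y represent a defect class of B and let P be a Sylow p-subgroup of the centralizer of y. (a) If x ∈ P and χ ∈ B has height zero, then χ (x * y) is not in the local ideal at M. (b) If x lies in the centre of P, then for every χ ∈ B the central character of χ at x * y is not in the local ideal at M. -/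
theorem result {G : Type*} [Group G] [Finite G] (p : ℕ) [Fact p.Prime] (M : Ideal Cfsg.AlgInt) (hM : Cfsg.IsPModular p M) (B : Set (Cfsg.IrrCharacter G)) (hB : Cfsg.IsPBlock M B) (y : G) (hy : Cfsg.IsDefectClass M B y) (P : Sylow p (Subgroup.centralizer ({y} : Set G))) (x : Subgroup.centralizer ({y} : Set G)) (hx : x ∈ (P : Subgroup (Subgroup.centralizer ({y} : Set G)))) : (∀ χ ∈ B, Cfsg.blockHeight p B (χ : G → ℂ) = 0 → ¬ Cfsg.MemLocalIdeal M ((χ : G → ℂ) ((x : G) * y))) ∧ ((∀ w ∈ (P : Subgroup (Subgroup.centralizer ({y} : Set G))), x * w = w * x) → ∀ χ ∈ B, ¬ Cfsg.MemLocalIdeal M (Cfsg.centralChar (χ : G → ℂ) ((x : G) * y))) := by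
  haveI := Fintype.ofFinite G
  haveI := isPrime_of_isPModular hM
  obtain ⟨k, hk⟩ := IsPGroup.iff_orderOf.1 P.isPGroup' ⟨x, hx⟩
  have hxk : ∃ k : ℕ, orderOf (x : G) = p ^ k :=
    ⟨k, by rw [← hk, Subgroup.orderOf_coe]; exact (Subgroup.orderOf_coe (⟨x, hx⟩ : (P : Subgroup (Subgroup.centralizer ({y} : Set G)))))⟩
  have hc : Commute (x : G) y := (Subgroup.mem_centralizer_iff.1 x.2 y rfl).symm
  refine ⟨fun χ hχ h0 => not_memLocalIdeal_height_zero_mul hM hB hy hxk hc hχ h0,
    fun hxc χ hχ => ?_⟩
  obtain ⟨η, hη, h0⟩ := exists_blockHeight_eq_zero (p := p) hB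
  have hle : Subgroup.centralizer ({(x : G) * y} : Set G) ≤
      Subgroup.centralizer ({y} : Set G) := by
    intro c hcm
    rw [Subgroup.mem_centralizer_iff] at hcm ⊢
    intro b hb
    obtain rfl : b = y := hb
    obtain ⟨n, hn⟩ := exists_pow_eq_regular_part hM.1 rfl hc hxk
      (IsDefectClass.regular hM hB hy)
    have h1 : Commute ((x : G) * b) c := hcm _ rfl
    have h2 := (h1.pow_left n).eq
    rwa [hn] at h2
  have hPle : sylowSub P ≤ Subgroup.centralizer ({(x : G) * y} : Set G) := by
    rintro _ ⟨w, hw, rfl⟩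
    rw [Subgroup.mem_centralizer_iff]
    intro b hb
    obtain rfl : b = (x : G) * y := hb
    have h1 : Commute (x : G) (w : G) := congrArg Subtype.val (hxc w hw)
    have h2 : Commute y (w : G) := Subgroup.mem_centralizer_iff.1 w.2 y rfl
    exact h1.mul_left h2
  have hv : (Subgroup.centralizer ({(x : G) * y} : Set G)).index.factorization p =
      (charDegree (η : G → ℂ)).factorization p := by
    rw [factorization_degree_of_height_zero hM hB hy hη h0]
    have h1 := Subgroup.index_mul_card (Subgroup.centralizer ({(x : G) * y} : Set G))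
    have h2 := Subgroup.index_mul_card (Subgroup.centralizer ({y} : Set G))
    rw [← h2] at h1
    have h3 := congrArg (fun n : ℕ => n.factorization p) h1
    rw [Nat.factorization_mul Subgroup.index_ne_zero_of_finite Nat.card_pos.ne',
      Nat.factorization_mul Subgroup.index_ne_zero_of_finite Nat.card_pos.ne',
      Finsupp.add_apply, Finsupp.add_apply] at h3
    have h4 : (Nat.card (Subgroup.centralizer ({(x : G) * y} : Set G))).factorization p ≤
        (Nat.card (Subgroup.centralizer ({y} : Set G))).factorization p :=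
      (Nat.factorization_le_iff_dvd Nat.card_pos.ne' Nat.card_pos.ne').2
        (Subgroup.card_dvd_of_le hle) p
    have h5 : p ^ (Nat.card (Subgroup.centralizer ({y} : Set G))).factorization p ∣
        Nat.card (Subgroup.centralizer ({(x : G) * y} : Set G)) := by
      rw [← card_sylowSub P]
      exact Subgroup.card_dvd_of_le hPle
    have h6 := (hM.1.pow_dvd_iff_le_factorization Nat.card_pos.ne').1 h5
    omega
  exact not_memLocalIdeal_of_sub
    (not_memLocalIdeal_centralChar hM η hv
      (not_memLocalIdeal_height_zero_mul hM hB hy hxk hc hη h0))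
    (IsPBlock.sameBlock hB hχ hη _)

end Cfsg.Agent.S0927
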