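import Cfsg.Statements.S0928
import Cfsg.Agent.Lib.Blocks.Defect
import Cfsg.Agent.Lib.Blocks.Exists
import Cfsg.Agent.Lib.BlockHeights.Heights

set_option autoImplicit false
open Cfsg
open Cfsg.Agent.Lib Cfsg.Agent.Lib.Blocks Cfsg.Agent.Lib.Characters
open scoped ComplexConjugate

namespace Cfsg.Agent.S0928

/-- Let χ be an irreducible character of the finite group G and p a prime. If χ g = 0 for every element g of order p, then the exponent of p in the degree χ(1) equals the exponent of p in the order of G (χ has p-defect zero). -/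
theorem result {G : Type*} [Group G] [Finite G] (p : ℕ) [Fact p.Prime] (χ : Cfsg.IrrCharacter G) (hvan : ∀ g : G, orderOf g = p → (χ : G → ℂ) g = 0) : (Cfsg.charDegree (χ : G → ℂ)).factorization p = (Nat.card G).factorization p := by
  classical
  haveI := Fintype.ofFinite G
  have hp : p.Prime := Fact.out
  obtain ⟨M, hM⟩ := exists_isPModular hp
  haveI := isPrime_of_isPModular hM
  haveI : Finite (ConjClasses G) := Finite.of_surjective _ ConjClasses.mk_surjective
  haveI := Fintype.ofFinite (ConjClasses G)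
  set B := blockOf M (χ : G → ℂ) with hBdef
  have hB : IsPBlock M B := isPBlock_blockOf χ
  obtain ⟨D, hD⟩ := exists_isDefectGroup hM hB
  have hle : (charDegree (χ : G → ℂ)).factorization p ≤ (Nat.card G).factorization p :=
    BlockHeights.nu_le_card (p := p) χ
  by_cases hDb : D = ⊥
  · have h1 := IsDefectGroup.card_eq hM hB hD
    rw [hDb, Subgroup.card_bot] at h1
    have h2 : blockDefect p B = 0 := Nat.pow_right_injective hp.two_le (h1.symm.trans (pow_zero p).symm)
    have h3 := BlockHeights.blockDefect_add_minExp (p := p) hB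
    have h4 := BlockHeights.minExp_le (p := p) (show χ ∈ B from self_mem_blockOf χ)
    simp only [BlockHeights.nu] at h4
    omega
  exfalso
  have hDp := IsDefectGroup.isPGroup hD
  haveI : Nontrivial D := (Subgroup.nontrivial_iff_ne_bot D).2 hDb
  haveI := hDp.center_nontrivial
  obtain ⟨k, hk0, hk⟩ := (hDp.to_subgroup (Subgroup.center D)).nontrivial_iff_card.1 inferInstance
  obtain ⟨z', hz'⟩ := exists_prime_orderOf_dvd_card' (G := Subgroup.center D) p (hk ▸ dvd_pow_self p (by omega))
  set z : G := ((z' : D) : G) with hzdef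
  have hzo : orderOf z = p := by rw [hzdef, Subgroup.orderOf_coe, Subgroup.orderOf_coe, hz']
  have hzp : z ^ p = 1 := hzo ▸ pow_orderOf_eq_one z
  have hzC : ∀ u ∈ Subgroup.centralizer (D : Set G), Commute z u := fun u hu => hu z (z' : D).2
  have hzD : z ∈ Subgroup.centralizer (D : Set G) := fun w hw =>
    congrArg Subtype.val (Subgroup.mem_center_iff.1 z'.2 ⟨w, hw⟩)
  let f : G → ℂ := fun u => if u ^ p = 1 then 1 else 0
  have hfc : IsRCentral M f := by
    refine ⟨fun u h => ?_, fun u => ?_⟩
    · have : (h * u * h⁻¹) ^ p = 1 ↔ u ^ p = 1 := by rw [conj_pow, conj_eq_one_iff]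
      simp only [f, this]
    · simp only [f]; split_ifs; exacts [memLocalRing_one, memLocalRing_zero]
  have hhc : IsRCentral M (conv f f) := by
    refine ⟨isClassFunction_conv hfc.1 hfc.1, fun y => ?_⟩
    exact memLocalRing_sum _ fun u _ => memLocalRing_mul (hfc.2 _) (hfc.2 _)
  have hωf : omega (χ : G → ℂ) f = 1 := by
    rw [omega, Finset.sum_eq_single (1 : G)]
    · simp [f, IsIrrCharacter.apply_one_ne_zero χ.2]
    · intro u _ hu
      simp only [f]
      split_ifs with h
      · rw [hvan u (orderOf_eq_prime h hu), mul_zero]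
      · rw [zero_mul]
    · simp
  have hω : MemLocalIdeal M (omega (χ : G → ℂ) (conv f f)) := by
    rw [omega_eq_sum_classes (irr_isClassFunction χ) hhc.1]
    refine memLocalIdeal_sum _ fun C _ => ?_
    by_cases hCω : MemLocalIdeal M (centralChar (χ : G → ℂ) (Quotient.out C))
    · exact memLocalIdeal_mul_left (hhc.2 _) hCω
    refine memLocalIdeal_mul_right ?_ (memLocalRing_centralChar χ _)
    obtain ⟨g, hg, S, hDS⟩ := id hD
    obtain ⟨S'⟩ : Nonempty (Sylow p (Subgroup.centralizer ({Quotient.out C} : Set G))) := inferInstance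
    obtain ⟨a, ha⟩ := isConjLE_of_omega hM hB hg S S' (show χ ∈ B from self_mem_blockOf χ) hCω
    have hDS' : D = sylowSub S := hDS
    rw [← hDS'] at ha
    rw [← hhc.1 (Quotient.out C) a⁻¹]
    set y := a⁻¹ * Quotient.out C * a⁻¹⁻¹ with hy
    have hyD : y ∈ Subgroup.centralizer (D : Set G) := by
      intro w hw
      have h1 := sylowSub_le S' (ha ⟨w, hw, rfl⟩) (Quotient.out C) rfl
      change Quotient.out C * (a * w * a⁻¹) = a * w * a⁻¹ * Quotient.out C at h1
      calc w * y = a⁻¹ * (a * w * a⁻¹ * Quotient.out C) * a := by rw [hy]; group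
        _ = a⁻¹ * (Quotient.out C * (a * w * a⁻¹)) * a := by rw [h1]
        _ = y * w := by rw [hy]; group
    clear_value y
    let U := {u : G // u ^ p = 1 ∧ (u⁻¹ * y) ^ p = 1}
    have hval : conv f f y = (Nat.card U : ℂ) := by
      rw [Nat.card_eq_fintype_card, Fintype.card_subtype, conv, Finset.natCast_card_filter]
      refine Finset.sum_congr rfl fun u _ => ?_
      simp only [f, ite_zero_mul_ite_zero, one_mul]
    rw [hval, memLocalIdeal_natCast_iff hM]
    letI : MulAction D U :=
      { smul := fun d u => ⟨(d : G) * u.1 * (d : G)⁻¹, by rw [conj_pow, u.2.1, mul_one, mul_inv_cancel], by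
          have hc : (d : G) * y = y * d := hyD d d.2
          have : ((d : G) * u.1 * (d : G)⁻¹)⁻¹ * y = (d : G) * (u.1⁻¹ * y) * (d : G)⁻¹ := by
            rw [mul_assoc ((d : G)) (u.1⁻¹ * y), mul_assoc u.1⁻¹ y,
              show y * (d : G)⁻¹ = (d : G)⁻¹ * y from (Commute.inv_left (hc : Commute (d : G) y)).eq.symm]
            group
          rw [this, conj_pow, u.2.2, mul_one, mul_inv_cancel]⟩
        one_smul := fun u => Subtype.ext (by show (1 : G) * u.1 * (1 : G)⁻¹ = u.1; simp)
        mul_smul := fun d d' u => Subtype.ext (by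
          show (d : G) * d' * u.1 * ((d : G) * d')⁻¹ = (d : G) * ((d' : G) * u.1 * (d' : G)⁻¹) * (d : G)⁻¹
          group) }
    have h1 := hDp.card_modEq_card_fixedPoints U
    have hfix : ∀ u : U, u ∈ MulAction.fixedPoints D U → u.1 ∈ Subgroup.centralizer (D : Set G) :=
      fun u hu w hw => mul_inv_eq_iff_eq_mul.1 (congrArg Subtype.val (hu ⟨w, hw⟩))
    letI : MulAction (Subgroup.zpowers z) (MulAction.fixedPoints D U) :=
      { smul := fun t u => ⟨⟨(t : G) * u.1.1, by
            obtain ⟨i, hi⟩ := Subgroup.mem_zpowers_iff.1 t.2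
            have hc : Commute (t : G) u.1.1 := hi ▸ (hzC _ (hfix u.1 u.2)).zpow_left i
            have ht : (t : G) ^ p = 1 := by
              rw [← hi, ← zpow_natCast, ← zpow_mul, mul_comm, zpow_mul, zpow_natCast, hzp, one_zpow]
            rw [hc.mul_pow, ht, u.1.2.1, one_mul], by
            obtain ⟨i, hi⟩ := Subgroup.mem_zpowers_iff.1 t.2
            have hc : Commute (t : G) (u.1.1⁻¹ * y) :=
              hi ▸ (hzC _ (mul_mem (inv_mem (hfix u.1 u.2)) hyD)).zpow_left i
            have hc1 : Commute (t : G) u.1.1 := hi ▸ (hzC _ (hfix u.1 u.2)).zpow_left i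
            have ht : (t : G)⁻¹ ^ p = 1 := by
              rw [inv_pow, ← hi, ← zpow_natCast, ← zpow_mul, mul_comm, zpow_mul, zpow_natCast, hzp, one_zpow, inv_one]
            rw [mul_inv_rev, ← hc1.inv_inv.eq, mul_assoc, hc.inv_left.mul_pow, ht, u.1.2.2, one_mul]⟩,
          fun d => Subtype.ext (by
            show (d : G) * ((t : G) * u.1.1) * (d : G)⁻¹ = (t : G) * u.1.1
            exact mul_inv_eq_of_eq_mul (mul_mem (Subgroup.zpowers_le.2 hzD t.2) (hfix u.1 u.2) d d.2))⟩
        one_smul := fun u => Subtype.ext (Subtype.ext (one_mul _))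
        mul_smul := fun t t' u => Subtype.ext (Subtype.ext (mul_assoc _ _ _)) }
    have hzpg : IsPGroup p (Subgroup.zpowers z) := IsPGroup.of_card (n := 1) (by rw [Nat.card_zpowers, hzo, pow_one])
    have h2 := hzpg.card_modEq_card_fixedPoints (MulAction.fixedPoints D U)
    haveI : IsEmpty (MulAction.fixedPoints (Subgroup.zpowers z) (MulAction.fixedPoints D U)) := ⟨fun u => by
      have h := congrArg (fun v : MulAction.fixedPoints D U => v.1.1) (u.2 ⟨z, Subgroup.mem_zpowers z⟩)
      have hz1 : z = 1 := mul_eq_right.1 h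
      rw [hz1, orderOf_one] at hzo
      exact hp.ne_one hzo.symm⟩
    rw [Nat.card_of_isEmpty (α := MulAction.fixedPoints (Subgroup.zpowers z) (MulAction.fixedPoints D U))] at h2
    exact Nat.modEq_zero_iff_dvd.1 (h1.trans h2)
  rw [omega_conv χ.2 hfc.1, hωf, one_mul] at hω
  exact not_memLocalIdeal_one hω

end Cfsg.Agent.S0928
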