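import Cfsg.Statements.S0929
import Cfsg.Agent.Lib.Blocks.MainTheorems
import Cfsg.Agent.Lib.Blocks.Principal
import Cfsg.Agent.Lib.Cores.PCore

set_option autoImplicit false
open Cfsg
open Cfsg.Agent.Lib.Blocks Cfsg.Agent.Lib.Characters Cfsg.Agent.Lib.Cores
open scoped ComplexConjugate

namespace Cfsg.Agent.S0929

/-- Let B be a block of the finite group G with defect group P (relative to a maximal ideal M of the algebraic integers containing p), and let g be an element at which the central character of some member of B is not in the local ideal at M. Then some conjugate x of g centralizes P and has its p-part in the centre of P. -/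
theorem result {G : Type*} [Group G] [Finite G] (p : ℕ) [Fact p.Prime] (M : Ideal Cfsg.AlgInt) (hM : Cfsg.IsPModular p M) (B : Set (Cfsg.IrrCharacter G)) (hB : Cfsg.IsPBlock M B) (P : Subgroup G) (hP : Cfsg.IsDefectGroup p M B P) (g : G) (hg : ∃ χ ∈ B, ¬ Cfsg.MemLocalIdeal M (Cfsg.centralChar (χ : G → ℂ) g)) : ∃ x : G, IsConj g x ∧ x ∈ Subgroup.centralizer (P : Set G) ∧ ∀ z : G, Cfsg.IsPPart p x z → z ∈ P ∧ ∀ w ∈ P, z * w = w * z := by
  classical
  haveI := Fintype.ofFinite G
  haveI := isPrime_of_isPModular hM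
  have hPp := IsDefectGroup.isPGroup hP
  obtain ⟨χ, hχ, hω⟩ := hg
  have hPH : P ≤ P ⊔ Subgroup.centralizer (P : Set G) := le_sup_left
  have hCH : Subgroup.centralizer (P : Set G) ≤ P ⊔ Subgroup.centralizer (P : Set G) := le_sup_right
  have hHN : P ⊔ Subgroup.centralizer (P : Set G) ≤ Subgroup.normalizer (P : Set G) :=
    sup_le Subgroup.le_normalizer (Subgroup.centralizer_le_normalizer _)
  haveI := Fintype.ofFinite ↥(P ⊔ Subgroup.centralizer (P : Set G))
  haveI := subgroupOf_normal_of_le_normalizer hHN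
  obtain ⟨b, hb⟩ := exists_isInducedBlock hM hPp hPH hCH hHN hB hP (x := 1)
    (by rintro _ ⟨a, ha, rfl⟩; simpa using ha)
  have hbd := isDefectGroup_of_isInducedBlock hM hPH hHN hb hP
  obtain ⟨ξ, hξ⟩ := IsPBlock.nonempty hb.1
  obtain ⟨h, hgh, hωh⟩ := exists_conj_omega_ne hb hξ hχ hω
  have hhC := mem_centralizer_of_centralChar_ne hM
    (hPp.of_equiv (Subgroup.subgroupOfEquivOfLe hPH).symm) hωh
  have hhC' : (h : G) ∈ Subgroup.centralizer (P : Set G) :=
    (mem_centralizer_subgroupOf hPH h).1 hhC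
  refine ⟨(h : G), hgh, hhC', fun z hz => ?_⟩
  obtain ⟨z', hz'⟩ := exists_isPPart hM.1 h
  obtain ⟨y', hxy, hcm, hk, hy⟩ := hz'
  have hzG : IsPPart p (h : G) (z' : G) :=
    ⟨(y' : G), by rw [← hxy]; rfl, hcm.map (Subgroup.subtype _), by
      rwa [Subgroup.orderOf_coe], by rwa [Subgroup.orderOf_coe]⟩
  obtain rfl := isPPart_unique hM.1 hz hzG
  obtain ⟨D', hD', hzD'⟩ : ∃ D', IsDefectGroup p M b D' ∧ z' ∈ D' := by
    by_contra hcon
    simp only [not_exists, not_and] at hcon
    refine hωh ?_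
    rw [centralChar, char_eq_zero_of_forall_notMem hM hb.1 ⟨y', hxy, hcm, hk, hy⟩ hcon hξ,
      mul_zero, zero_div]
    exact memLocalIdeal_zero
  have hD'eq : P.subgroupOf _ = D' :=
    Subgroup.eq_of_le_of_card_ge (le_of_isDefectGroup hM
      (hPp.of_equiv (Subgroup.subgroupOfEquivOfLe hPH).symm) hb.1 hD') (by
      rw [IsDefectGroup.card_eq hM hb.1 hD', IsDefectGroup.card_eq hM hb.1 hbd])
  rw [← hD'eq, Subgroup.mem_subgroupOf] at hzD'
  obtain ⟨n, hn⟩ := exists_pow_eq_regular_part hM.1 hxy hcm hk hy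
  refine ⟨hzD', fun w hw => ?_⟩
  have hzh : (z' : G) = (h : G) * ((h : G) ^ n)⁻¹ := by
    rw [← SubgroupClass.coe_pow, hn, ← hxy]
    simp
  have hcw : Commute (h : G) w := (mem_centralizer_subgroup_iff.1 hhC' w hw).symm
  rw [hzh]
  exact (hcw.mul_left (hcw.pow_left n).inv_left).eq

end Cfsg.Agent.S0929
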