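import Cfsg.Statements.S0930
import Cfsg.Agent.Lib.Blocks.MainTheorems
import Cfsg.Agent.Lib.Blocks.Principal
import Cfsg.Agent.Lib.Cores.PCore
import Cfsg.Agent.S0927
import Cfsg.Agent.S0929

set_option autoImplicit false
open Cfsg
open Cfsg.Agent.Lib.Blocks Cfsg.Agent.Lib.Characters Cfsg.Agent.Lib.Cores
open scoped ComplexConjugate

namespace Cfsg.Agent.S0930

/-- Let H be a subgroup of the finite group G and fix a maximal ideal M of the algebraic integers containing the prime p. If the block b of H with defect group D induces the block B of G with defect group P, then every element of the centre of P is conjugate in G to an element of the centre of D. -/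
theorem result {G : Type*} [Group G] [Finite G] (p : ℕ) [Fact p.Prime] (M : Ideal Cfsg.AlgInt) (hM : Cfsg.IsPModular p M) (H : Subgroup G) (b : Set (Cfsg.IrrCharacter H)) (B : Set (Cfsg.IrrCharacter G)) (hind : Cfsg.IsInducedBlock M H b B) (D : Subgroup H) (hD : Cfsg.IsDefectGroup p M b D) (P : Subgroup G) (hP : Cfsg.IsDefectGroup p M B P) (x : G) (hx : x ∈ P) (hxc : ∀ w ∈ P, x * w = w * x) : ∃ g : G, g * x * g⁻¹ ∈ D.map H.subtype ∧ ∀ w ∈ D.map H.subtype, (g * x * g⁻¹) * w = w * (g * x * g⁻¹) := by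
  classical
  haveI := Fintype.ofFinite G
  haveI := Fintype.ofFinite H
  haveI := isPrime_of_isPModular hM
  obtain ⟨y, hy, R, rfl⟩ := hP
  obtain ⟨x', hx', rfl⟩ := hx
  obtain ⟨χ, hχ⟩ := IsPBlock.nonempty hind.2.1
  obtain ⟨ξ, hξ⟩ := IsPBlock.nonempty hind.1
  have hω := (Cfsg.Agent.S0927.result p M hM B hind.2.1 y hy R x' hx').2
    (fun w hw => Subtype.ext (hxc (w : G) ⟨w, hw, rfl⟩)) χ hχ
  obtain ⟨h, hgh, hωh⟩ := exists_conj_omega_ne hind hξ hχ hω
  obtain ⟨h', hhh', hh'C, hh'⟩ :=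
    Cfsg.Agent.S0929.result p M hM b hind.1 D hD h ⟨ξ, hξ, hωh⟩
  obtain ⟨z, hz⟩ := exists_isPPart hM.1 h'
  obtain ⟨hzD, hzc⟩ := hh' z hz
  obtain ⟨yz, hxy, hcm, hk, hyz⟩ := hz
  have hzG : IsPPart p (h' : G) (z : G) :=
    ⟨(yz : G), by rw [← hxy]; rfl, hcm.map (Subgroup.subtype _), by
      rwa [Subgroup.orderOf_coe], by rwa [Subgroup.orderOf_coe]⟩
  have hconj : IsConj ((x' : G) * y) (h' : G) :=
    hgh.trans (MonoidHom.map_isConj H.subtype hhh')
  obtain ⟨g, hg⟩ := isConj_iff.1 hconj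
  obtain ⟨k, hk'⟩ := IsPGroup.iff_orderOf.1 R.isPGroup' ⟨x', hx'⟩
  have hxG : IsPPart p ((x' : G) * y) (x' : G) :=
    ⟨y, rfl, (Subgroup.mem_centralizer_singleton_iff.1 x'.2),
      ⟨k, by rw [← hk', Subgroup.orderOf_coe]; exact Subgroup.orderOf_coe (⟨x', hx'⟩ :
        (R : Subgroup (Subgroup.centralizer ({y} : Set G))))⟩,
      IsDefectClass.regular hM hind.2.1 hy⟩
  have he := IsPPart.conjugate hxG g
  rw [hg] at he
  refine ⟨g, ?_⟩
  show g * (x' : G) * g⁻¹ ∈ D.map H.subtype ∧ ∀ w ∈ D.map H.subtype,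
    g * (x' : G) * g⁻¹ * w = w * (g * (x' : G) * g⁻¹)
  rw [isPPart_unique hM.1 he hzG]
  refine ⟨⟨z, hzD, rfl⟩, ?_⟩
  rintro _ ⟨w, hw, rfl⟩
  exact congrArg Subtype.val (hzc w hw)

end Cfsg.Agent.S0930
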