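import Cfsg.Statements.S0931
import Cfsg.Agent.Lib.Blocks.MainTheorems
import Cfsg.Agent.Lib.Blocks.Principal
import Cfsg.Agent.Lib.Cores.PCore
import Cfsg.Agent.S0927

set_option autoImplicit false
open Cfsg
open Cfsg.Agent.Lib.Blocks Cfsg.Agent.Lib.Characters Cfsg.Agent.Lib.Cores
open scoped ComplexConjugate

namespace Cfsg.Agent.S0931

/-- Let H be a subgroup of the finite group G and fix a maximal ideal M of the algebraic integers containing the prime p. If the block b of H induces the block B of G, then b has defect 0 if and only if B has defect 0. -/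
theorem result {G : Type*} [Group G] [Finite G] (p : ℕ) [Fact p.Prime] (M : Ideal Cfsg.AlgInt) (hM : Cfsg.IsPModular p M) (H : Subgroup G) (b : Set (Cfsg.IrrCharacter H)) (B : Set (Cfsg.IrrCharacter G)) (hind : Cfsg.IsInducedBlock M H b B) : Cfsg.blockDefect p b = 0 ↔ Cfsg.blockDefect p B = 0 := by
  classical
  haveI := Fintype.ofFinite G
  haveI := Fintype.ofFinite H
  haveI := isPrime_of_isPModular hM
  obtain ⟨D, hD⟩ := exists_isDefectGroup hM hind.1
  obtain ⟨E, hE, hDE⟩ := exists_le_defectGroup hM hind hD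
  constructor
  · intro h0
    have hcD := IsDefectGroup.card_eq hM hind.1 hD
    rw [h0, pow_zero] at hcD
    obtain ⟨y, hy, R, hR⟩ := id hE
    by_contra hne
    have hcE := IsDefectGroup.card_eq hM hind.2.1 hE
    haveI : Nontrivial E := by
      rw [← Finite.one_lt_card_iff_nontrivial, hcE]
      exact Nat.one_lt_pow hne hM.1.one_lt
    haveI := (IsDefectGroup.isPGroup hE).center_nontrivial
    obtain ⟨⟨x, hx⟩, hx1⟩ := exists_ne (1 : Subgroup.center E)
    subst hR
    obtain ⟨x', hx', hxe⟩ := x.2
    obtain ⟨χ, hχ⟩ := IsPBlock.nonempty hind.2.1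
    obtain ⟨ξ, hξ⟩ := IsPBlock.nonempty hind.1
    have hω := (Cfsg.Agent.S0927.result p M hM B hind.2.1 y hy R x' hx').2 (fun w hw => by
      have h := congrArg Subtype.val
        (Subgroup.mem_center_iff.1 hx ⟨(w : G), ⟨w, hw, rfl⟩⟩)
      apply Subtype.ext
      simp only [Subgroup.coe_mul] at h ⊢
      rw [← hxe] at h
      exact h.symm) χ hχ
    obtain ⟨h, hgh, hωh⟩ := exists_conj_omega_ne hind hξ hχ hω
    obtain ⟨z, hz⟩ := exists_isPPart hM.1 h
    have hsing : p ∣ orderOf h := by
      obtain ⟨g, hg⟩ := isConj_iff.1 hgh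
      rw [← Subgroup.orderOf_coe, ← hg, show orderOf (g * ((x' : G) * y) * g⁻¹) =
        orderOf ((x' : G) * y) from
          orderOf_injective (MulAut.conj g).toMonoidHom (MulAut.conj g).injective _]
      have hcm : Commute (x' : G) y := Subgroup.mem_centralizer_singleton_iff.1 x'.2
      obtain ⟨k, hk⟩ := IsPGroup.iff_orderOf.1 (IsDefectGroup.isPGroup hE) x
      have hkx : orderOf (x' : G) = p ^ k := by
        rw [← hk, ← Subgroup.orderOf_coe x]
        exact congrArg orderOf hxe
      have hk0 : k ≠ 0 := by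
        rintro rfl
        rw [pow_zero, orderOf_eq_one_iff] at hk
        exact hx1 (Subtype.ext hk)
      rw [hcm.orderOf_mul_eq_mul_orderOf_of_coprime, hkx]
      · exact dvd_mul_of_dvd_left (dvd_pow_self p hk0) _
      · rw [hkx]
        exact ((hM.1.coprime_iff_not_dvd.2 (IsDefectClass.regular hM hind.2.1 hy))).pow_left k
    refine hωh ?_
    rw [centralChar, char_eq_zero_of_forall_notMem hM hind.1 hz (fun D' hD' hzD' => ?_) hξ,
      mul_zero, zero_div]
    · exact memLocalIdeal_zero
    · have hc' := IsDefectGroup.card_eq hM hind.1 hD'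
      rw [h0, pow_zero, Subgroup.card_eq_one] at hc'
      rw [hc', Subgroup.mem_bot] at hzD'
      exact isPPart_ne_one hz hsing hzD'
  · intro h0
    have hcE := IsDefectGroup.card_eq hM hind.2.1 hE
    rw [h0, pow_zero] at hcE
    have hle := Subgroup.card_le_of_le hDE
    rw [Nat.card_congr (D.equivMapOfInjective H.subtype H.subtype_injective).symm.toEquiv,
      IsDefectGroup.card_eq hM hind.1 hD, hcE] at hle
    by_contra hne
    exact absurd (Nat.one_lt_pow hne hM.1.one_lt) (not_lt.2 hle)

end Cfsg.Agent.S0931
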