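import Cfsg.Statements.S0932
import Cfsg.Agent.Lib.Blocks.Osima

set_option autoImplicit false
open Cfsg
open Cfsg.Agent.Lib.Blocks Cfsg.Agent.Lib.Characters
open scoped ComplexConjugate

namespace Cfsg.Agent.S0932

/-- Let H be a subgroup of the finite group G and ξ a character of H. For every g ∈ G, the sum of ξ h / ξ 1 over the elements h ∈ H that are conjugate in G to g equals the central character at g of the character of G induced from ξ (class size times value divided by degree). -/
theorem result {G : Type*} [Group G] [Fintype G] (H : Subgroup G) (ξ : H → ℂ) (hξ : Cfsg.IsCharacter H ξ) (g : G) : Cfsg.inducedCentralChar H ξ g = Cfsg.centralChar (Cfsg.indFun H ξ) g := by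
  classical
  have key : ∑ x : G, extendByZero H ξ (x⁻¹ * g * x) =
      (Nat.card (Subgroup.centralizer ({g} : Set G)) : ℂ) *
        ∑ᶠ h ∈ {h : H | IsConj g (h : G)}, ξ h := by
    have h1 : ∑ x : G, extendByZero H ξ (x⁻¹ * g * x) =
        ∑ x : G, extendByZero H ξ (x * g * x⁻¹) :=
      Fintype.sum_equiv (Equiv.inv G) _ _ (fun x => by simp)
    rw [h1, sum_conj_eq (extendByZero H ξ) g]
    congr 1
    haveI := Fintype.ofFinite H
    rw [Finset.sum_congr rfl fun x _ => mul_comm _ _, sum_extendByZero_mul,
      finsum_mem_def, finsum_eq_sum_of_fintype]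
    refine Finset.sum_congr rfl fun x _ => ?_
    simp only [Set.indicator_apply, Set.mem_ofPred_eq, classIndicator]
    split_ifs <;> simp
  rw [inducedCentralChar, centralChar, indFun_one, indFun_apply, key]
  have hfin : ∑ᶠ h ∈ {h : H | IsConj g (h : G)}, ξ h / ξ 1 =
      (∑ᶠ h ∈ {h : H | IsConj g (h : G)}, ξ h) / ξ 1 := by
    simp only [div_eq_mul_inv]
    rw [← finsum_mem_mul]
  rw [hfin]
  have hd : (Nat.card H : ℂ) ≠ 0 := by exact_mod_cast Nat.card_pos.ne'
  have hi : (H.index : ℂ) ≠ 0 := by exact_mod_cast H.index_ne_zero_of_finite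
  have hG : ((Subgroup.centralizer ({g} : Set G)).index : ℂ) *
      (Nat.card (Subgroup.centralizer ({g} : Set G)) : ℂ) = (H.index : ℂ) * (Nat.card H : ℂ) := by
    exact_mod_cast (Subgroup.index_mul_card _).trans (Subgroup.index_mul_card H).symm
  set S := ∑ᶠ h ∈ {h : H | IsConj g (h : G)}, ξ h
  by_cases h1 : ξ 1 = 0
  · simp [h1]
  field_simp
  linear_combination (-S) * hG

end Cfsg.Agent.S0932
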