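import Cfsg.Statements.S0933
import Cfsg.Agent.Lib.Blocks.Induced
import Cfsg.Agent.S0932

set_option autoImplicit false
open Cfsg
open Cfsg.Agent.Lib.Blocks Cfsg.Agent.Lib.Characters
open scoped ComplexConjugate

namespace Cfsg.Agent.S0933

/-- Let H be a subgroup of the finite group G and ξ an irreducible character of H such that the induced function ξ^G is an irreducible character of G. Then, relative to any maximal ideal M of the algebraic integers containing the prime p, the block of ξ induces the block of ξ^G. -/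
theorem result {G : Type*} [Group G] [Fintype G] (p : ℕ) [Fact p.Prime] (M : Ideal Cfsg.AlgInt) (hM : Cfsg.IsPModular p M) (H : Subgroup G) (ξ : Cfsg.IrrCharacter H) (hind : Cfsg.IsIrrCharacter G (Cfsg.indFun H (ξ : H → ℂ))) : Cfsg.IsInducedBlock M H (Cfsg.blockOf M (ξ : H → ℂ)) (Cfsg.blockOf M (Cfsg.indFun H (ξ : H → ℂ))) := by
  haveI := Fintype.ofFinite H
  haveI := isPrime_of_isPModular hM
  let χ : Cfsg.IrrCharacter G := ⟨_, hind⟩
  refine isInducedBlock_of_pair (isPBlock_blockOf ξ) (isPBlock_blockOf χ) (self_mem_blockOf ξ)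
    (self_mem_blockOf χ) fun g => ?_
  rw [← inducedCentralChar_eq_omega,
    Cfsg.Agent.S0932.result H (ξ : H → ℂ) (irr_isCharacter ξ) g, sub_self]
  exact memLocalIdeal_zero

end Cfsg.Agent.S0933
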