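import Cfsg.Statements.S0934
import Cfsg.Agent.Lib.Blocks.MainTheorems
import Cfsg.Agent.Lib.Blocks.Principal
import Cfsg.Agent.Lib.Cores.PCore

set_option autoImplicit false
open Cfsg
open Cfsg.Agent.Lib.Blocks Cfsg.Agent.Lib.Characters Cfsg.Agent.Lib.Cores
open scoped ComplexConjugate

namespace Cfsg.Agent.S0934

/-- Let H be a subgroup of the finite group G and fix a maximal ideal M of the algebraic integers containing the prime p. If the block b of H induces the block B of G and ξ ∈ b, then there is χ ∈ B whose restriction to H has nonzero inner product with ξ. -/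
theorem result {G : Type*} [Group G] [Fintype G] (p : ℕ) [Fact p.Prime] (M : Ideal Cfsg.AlgInt) (hM : Cfsg.IsPModular p M) (H : Subgroup G) [Fintype H] (b : Set (Cfsg.IrrCharacter H)) (B : Set (Cfsg.IrrCharacter G)) (hind : Cfsg.IsInducedBlock M H b B) (ξ : Cfsg.IrrCharacter H) (hξ : ξ ∈ b) : ∃ χ ∈ B, Cfsg.classInner (fun h : H => (χ : G → ℂ) h) (ξ : H → ℂ) ≠ 0 := by
  classical
  haveI := Fintype.ofFinite (Cfsg.IrrCharacter G)
  haveI := isPrime_of_isPModular hM
  by_contra hcon
  simp only [not_exists, not_and, not_not] at hcon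
  obtain ⟨χ₀, hχ₀⟩ := IsPBlock.nonempty hind.2.1
  have h1 := IsInducedBlock.omega_congr hind hξ hχ₀ (isRCentral_blockCoeff hM hind.2.1)
  rw [omega_blockCoeff, if_pos hχ₀] at h1
  have h2 : omega (ξ : H → ℂ) (resFun H (blockCoeff B)) = 0 := by
    rw [omega, div_eq_zero_iff]
    left
    simp only [resFun, blockCoeff, finsum_irr_eq_sum_ite, Finset.mul_sum, Finset.sum_mul]
    rw [Finset.sum_comm]
    refine Finset.sum_eq_zero fun χ _ => ?_
    by_cases hχ : χ ∈ B
    · have h := congrArg (starRingEnd ℂ) (hcon χ hχ)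
      rw [classInner, map_mul, map_zero, map_sum, mul_eq_zero] at h
      have h0 : ∑ x : H, conj ((χ : G → ℂ) (x : G)) * (ξ : H → ℂ) x = 0 := by
        refine Eq.trans (Finset.sum_congr rfl fun x _ => ?_) (h.resolve_left ?_)
        · rw [map_mul, Complex.conj_conj]
        · simp [natCard_ne_zero_complex]
      simp only [hχ, if_true, mul_assoc, ← Finset.mul_sum, h0, mul_zero]
    · simp [hχ]
  rw [h2, zero_sub] at h1
  exact not_memLocalIdeal_one (by simpa using memLocalIdeal_neg h1)

end Cfsg.Agent.S0934
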