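import Cfsg.Statements.S0937
import Cfsg.Agent.Lib.Blocks.RegFun

set_option autoImplicit false
open Cfsg
open Cfsg.Agent.Lib.Blocks Cfsg.Agent.Lib.Characters
open scoped ComplexConjugate

namespace Cfsg.Agent.S0937

/-- Let H be a subgroup of the finite group G and fix a maximal ideal M of the algebraic integers containing the prime p. If the block b of H induces the block B of G and χ ∈ B has height zero, then there is ξ ∈ b of height zero whose multiplicity in the restriction of χ to H is a natural number not divisible by p. -/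
theorem result {G : Type*} [Group G] [Fintype G] (p : ℕ) [Fact p.Prime] (M : Ideal Cfsg.AlgInt) (hM : Cfsg.IsPModular p M) (H : Subgroup G) [Fintype H] (b : Set (Cfsg.IrrCharacter H)) (B : Set (Cfsg.IrrCharacter G)) (hind : Cfsg.IsInducedBlock M H b B) (χ : Cfsg.IrrCharacter G) (hχ : χ ∈ B) (h0 : Cfsg.blockHeight p B (χ : G → ℂ) = 0) : ∃ ξ ∈ b, Cfsg.blockHeight p b (ξ : H → ℂ) = 0 ∧ ∃ n : ℕ, Cfsg.classInner (fun h : H => (χ : G → ℂ) h) (ξ : H → ℂ) = (n : ℂ) ∧ ¬ p ∣ n := by
  classical
  haveI := isPrime_of_isPModular hM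
  haveI := Fintype.ofFinite (Cfsg.IrrCharacter H)
  have hres : IsCharacter H (fun h : H => (χ : G → ℂ) h) :=
    IsCharacter.restrict (irr_isCharacter χ) H
  choose n hn using fun ζ : Cfsg.IrrCharacter H =>
    IsCharacter.exists_classInner_nat hres (irr_isCharacter ζ)
  obtain ⟨ξ, hξ, hξ0⟩ := exists_blockHeight_eq_zero (p := p) hind.1
  by_contra hcon
  have hlin : omega (ξ : H → ℂ) (resFun H (regFun p (χ : G → ℂ))) = ∑ ζ : Cfsg.IrrCharacter H,
      (n ζ : ℂ) * omega (ξ : H → ℂ) (regFun p (ζ : H → ℂ)) := by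
    have hf : resFun H (regFun p (χ : G → ℂ)) =
        ∑ ζ : Cfsg.IrrCharacter H, (n ζ : ℂ) • regFun p (ζ : H → ℂ) := by
      rw [resFun_regFun]
      funext y
      have hd := congrFun (eq_sum_classInner (IsCharacter.isClassFunction hres)) y⁻¹
      simp only [hn, Finset.sum_apply, Pi.smul_apply, smul_eq_mul] at hd
      simp only [Finset.sum_apply, Pi.smul_apply, smul_eq_mul, regFun, resFun]
      split_ifs
      · simp
      · exact hd
    rw [hf, omega_sum]
    exact Finset.sum_congr rfl fun ζ _ => omega_smul _ _ _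
  have hI : MemLocalIdeal M (omega (ξ : H → ℂ) (resFun H (regFun p (χ : G → ℂ)))) := by
    rw [hlin]
    refine memLocalIdeal_sum _ fun ζ _ => ?_
    have hR := memLocalRing_omega (M := M) (isRCentral_regFun p (irr_isCharacter ζ)) ξ
    by_cases hζ : ζ ∈ b
    · by_cases hζ0 : blockHeight p b (ζ : H → ℂ) = 0
      · exact memLocalIdeal_mul_right ((memLocalIdeal_natCast_iff hM _).2
          (not_not.1 fun h => hcon ⟨ζ, hζ, hζ0, n ζ, hn ζ, h⟩)) hR
      · exact memLocalIdeal_mul_left (memLocalRing_natCast _)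
          (memLocalIdeal_omega_regFun_of_height_pos hM hξ hξ0 hζ0)
    · rw [omega_regFun_eq_zero hM (isPBlock_blockOf ζ) (self_mem_blockOf ζ)
        (fun h => hζ (IsPBlock.eq_of_mem hind.1 (isPBlock_blockOf ζ) hξ h ▸ self_mem_blockOf ζ)),
        mul_zero]
      exact memLocalIdeal_zero
  refine not_memLocalIdeal_omega_regFun hM hind.2.1 hχ h0 hχ ?_
  simpa using memLocalIdeal_sub hI
    (IsInducedBlock.omega_congr hind hξ hχ (isRCentral_regFun p (irr_isCharacter χ)))

end Cfsg.Agent.S0937
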