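import Cfsg.Statements.S0940
import Cfsg.Agent.Lib.Blocks.Kulshammer

set_option autoImplicit false
open Cfsg
open Cfsg.Agent.Lib.Blocks Cfsg.Agent.Lib.Characters
open scoped ComplexConjugate

namespace Cfsg.Agent.S0940

/-- Let G be a finite group and M a maximal ideal of the algebraic integers containing the prime p. For every p-regular g, the idempotent coefficient of the principal block at g (the inverse of the group order times the sum over χ in the principal block of χ 1 * conj (χ g)) is congruent modulo the local ideal at M to N / R, where N is the number of pairs (x, y) with x of p-power order, y of order prime to p and x * y = g, and R is the number of elements of G of order prime to p. -/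
theorem result {G : Type*} [Group G] [Finite G] (p : ℕ) [Fact p.Prime] (M : Ideal Cfsg.AlgInt) (hM : Cfsg.IsPModular p M) (g : G) (hg : ¬ p ∣ orderOf g) : Cfsg.MemLocalIdeal M (Cfsg.blockCoeff (Cfsg.principalBlock M G) g - (Nat.card {xy : G × G // (∃ k : ℕ, orderOf xy.1 = p ^ k) ∧ ¬ p ∣ orderOf xy.2 ∧ xy.1 * xy.2 = g} : ℂ) / (Nat.card {y : G // ¬ p ∣ orderOf y} : ℂ)) := by
  classical
  haveI := Fintype.ofFinite G
  haveI := isPrime_of_isPModular hM
  haveI := resField_charP (M := M) hM
  have hB := isPBlock_principalBlock (G := G) (M := M)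
  have he := isRCentral_blockCoeff hM hB
  set e := Cfsg.blockCoeff (Cfsg.principalBlock M G)
  have hS : IsRCentral M (regFun p (trivIrr G : G → ℂ)) := isRCentral_regFun p (irr_isCharacter _)
  set S := regFun p (trivIrr G : G → ℂ)
  have hSval : ∀ x, S x = if p ∣ orderOf x then 0 else 1 := fun x => by
    simp only [S, regFun, trivIrr_apply]
  set n := Nat.card {y : G // ¬ p ∣ orderOf y}
  have htriv : trivIrr G ∈ Cfsg.principalBlock M G := self_mem_blockOf (trivIrr G)
  have hω1 : omega (trivIrr G : G → ℂ) S = (n : ℂ) := by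
    simp only [omega, hSval, trivIrr_apply, mul_one, div_one]
    simp [n, Finset.sum_ite, Nat.card_eq_fintype_card, Fintype.card_subtype]
  have hn : ¬ MemLocalIdeal M (n : ℂ) := hω1 ▸
    not_memLocalIdeal_omega_regFun hM hB htriv (blockHeight_trivIrr _) htriv
  have hz : IsRCentral M (S - (n : ℂ) • e) := hS.sub (he.smul (memLocalRing_natCast n))
  obtain ⟨N, hN⟩ := exists_convPow_memLocalIdeal hM hz fun η => by
    rw [omega_sub, omega_smul, omega_blockCoeff]
    split_ifs with hη
    · rw [mul_one, ← hω1]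
      exact omega_congr_of_sameBlock (IsPBlock.sameBlock hB hη htriv) hS
    · rw [mul_zero, sub_zero, omega_regFun_eq_zero hM hB htriv hη]
      exact memLocalIdeal_zero
  set a := (Nat.card G).factorization p
  obtain ⟨j, hj⟩ : ∃ j : ℕ, Nat.totient (orderOf g) * j ≥ a + N := by
    exact ⟨a + N, Nat.le_mul_of_pos_left _ (Nat.totient_pos.2 (orderOf_pos g))⟩
  set m := Nat.totient (orderOf g) * j
  have hgm : g ^ (p ^ m) = g := by
    have hmod : p ^ m ≡ 1 [MOD orderOf g] := by
      have h := (Nat.ModEq.pow_totient ((hM.1.coprime_iff_not_dvd.2 hg))).pow j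
      rwa [one_pow, ← pow_mul] at h
    conv_rhs => rw [← pow_one g]
    exact pow_eq_pow_iff_modEq.2 hmod
  have hpel : ∀ x : G, x ^ (p ^ m) = 1 ↔ ∃ k : ℕ, orderOf x = p ^ k := by
    intro x
    constructor
    · intro h
      obtain ⟨k, -, hk⟩ := (Nat.dvd_prime_pow hM.1).1 (orderOf_dvd_of_pow_eq_one h)
      exact ⟨k, hk⟩
    · rintro ⟨k, hk⟩
      apply orderOf_dvd_iff_pow_eq_one.1
      rw [hk]
      refine pow_dvd_pow p (le_trans ?_ (le_trans (Nat.le_add_right a N) hj))
      exact (hM.1.pow_dvd_iff_le_factorization Nat.card_pos.ne').1 (hk ▸ orderOf_dvd_natCard x)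
  have hNm : N ≤ p ^ m :=
    le_trans (le_trans (Nat.le_add_left N a) hj) (Nat.lt_pow_self hM.1.one_lt).le
  -- the two applications of the power lemma
  have happ : ∀ F : G → ℂ, ∀ hF : IsRCentral M F,
      red M ⟨convPow F (p ^ m) g, (isRCentral_convPow hF _).2 g⟩ =
        (∑ x : G, if x ^ (p ^ m) = 1 then red M ⟨F (x * g), hF.2 _⟩ else 0) ^ (p ^ m) := by
    intro F hF
    have heq : convPow (fun w => F (w * g)) (p ^ m) 1 = convPow F (p ^ m) g := by
      rw [convPow_translate hF.1, one_mul, hgm]
    have hmem : MemLocalRing M (convPow (fun w => F (w * g)) (p ^ m) 1) := by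
      rw [heq]; exact (isRCentral_convPow hF _).2 g
    rw [← red_convPow_prime_pow hM (fun w => F (w * g)) (fun w => hF.2 _) m hmem]
    exact congrArg (red M) (Subtype.ext heq.symm)
  let s := ∑ x : G, if x ^ (p ^ m) = 1 then red M ⟨e (x * g), he.2 _⟩ else 0
  have hse : red M ⟨e g, he.2 g⟩ = s ^ (p ^ m) := by
    have hee : ∀ k, convPow e (k + 1) = e := by
      intro k
      induction k with
      | zero => exact (conv_comm deltaOne he.1).trans (deltaOne_conv e)
      | succ k ih => rw [convPow, ih]; exact blockCoeff_conv_self _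
    rw [← happ e he]
    refine congrArg (red M) (Subtype.ext ?_)
    show e g = convPow e (p ^ m) g
    rw [← Nat.sub_add_cancel (Nat.one_le_pow m p hM.1.pos), hee]
  set c := Nat.card {xy : G × G // (∃ k : ℕ, orderOf xy.1 = p ^ k) ∧ ¬ p ∣ orderOf xy.2 ∧
    xy.1 * xy.2 = g}
  have hcnt : (c : ResField M) = (n : ResField M) * s := by
    have h0 : ∑ x : G, (if x ^ (p ^ m) = 1 then
        red M (⟨(S - (n : ℂ) • e) (x * g), hz.2 _⟩ : locSubring M) else 0) = 0 := by
      have h1 := happ _ hz
      have h2 : red M (⟨convPow (S - (n : ℂ) • e) (p ^ m) g, (isRCentral_convPow hz _).2 g⟩ :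
          locSubring M) = 0 := red_eq_zero_iff.2 (hN _ hNm g)
      rw [h2, eq_comm, pow_eq_zero_iff (pow_pos hM.1.pos m).ne'] at h1
      exact h1
    have h3 : ∀ x : G, red M (⟨(S - (n : ℂ) • e) (x * g), hz.2 _⟩ : locSubring M) =
        (if p ∣ orderOf (x * g) then 0 else 1) - (n : ResField M) * red M ⟨e (x * g), he.2 _⟩ := by
      intro x
      have : (⟨(S - (n : ℂ) • e) (x * g), hz.2 _⟩ : locSubring M) =
          (if p ∣ orderOf (x * g) then 0 else 1) - (n : locSubring M) * ⟨e (x * g), he.2 _⟩ := by
        refine Subtype.ext ?_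
        show S (x * g) - (n : ℂ) * e (x * g) = _
        rw [hSval]
        split_ifs <;> simp
      rw [this, map_sub, map_mul, map_natCast]
      split_ifs <;> simp
    have hcsum : (c : ResField M) = ∑ x : G, (if x ^ (p ^ m) = 1 then
        (if p ∣ orderOf (x * g) then (0 : ResField M) else 1) else 0) := by
      have hcard : c = Nat.card {x : G // x ^ (p ^ m) = 1 ∧ ¬ p ∣ orderOf (x * g)} := by
        refine Nat.card_congr
          { toFun := fun q => ⟨q.1.1⁻¹, ?_, ?_⟩
            invFun := fun x => ⟨(x.1⁻¹, x.1 * g), ?_, x.2.2, by simp⟩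
            left_inv := fun q => ?_
            right_inv := fun x => by simp }
        · rw [inv_pow, (hpel _).2 q.2.1, inv_one]
        · rw [show q.1.1⁻¹ * g = q.1.2 from inv_mul_eq_iff_eq_mul.2 q.2.2.2.symm]; exact q.2.2.1
        · rw [orderOf_inv]; exact (hpel _).1 x.2.1
        · refine Subtype.ext (Prod.ext (inv_inv _) ?_)
          exact inv_mul_eq_iff_eq_mul.2 q.2.2.2.symm
      rw [hcard, Nat.card_eq_fintype_card, Fintype.card_subtype, Finset.card_filter, Nat.cast_sum]
      refine Finset.sum_congr rfl fun x _ => ?_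
      split_ifs <;> simp_all
    rw [← sub_eq_zero, hcsum, Finset.mul_sum, ← Finset.sum_sub_distrib]
    refine Eq.trans (Finset.sum_congr rfl fun x _ => ?_) h0
    rw [h3 x]
    split_ifs <;> simp
  have hn0 : (n : ResField M) ≠ 0 := by
    rw [← map_natCast (red M), Ne, red_eq_zero_iff]
    exact hn
  have hfix : ∀ (k i : ℕ), ((i : ResField M)) ^ (p ^ k) = (i : ResField M) := by
    intro k i
    induction k with
    | zero => rw [pow_zero, pow_one]
    | succ k ih =>
      rw [pow_succ, pow_mul, ih]
      have h := congrArg (ZMod.castHom (dvd_refl p) (ResField M)) (ZMod.pow_card (i : ZMod p))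
      rwa [map_pow, map_natCast] at h
  have hs : s ^ (p ^ m) = s := by
    apply mul_left_cancel₀ hn0
    calc (n : ResField M) * s ^ (p ^ m) = ((n : ResField M) * s) ^ (p ^ m) := by
          rw [mul_pow, hfix]
      _ = (n : ResField M) * s := by rw [← hcnt, hfix]
  have hn1 : (n : ℂ) ≠ 0 := fun h => hn (h ▸ memLocalIdeal_zero)
  have hkey : MemLocalIdeal M ((n : ℂ) * e g - (c : ℂ)) := by
    have h : red M ((n : locSubring M) * ⟨e g, he.2 g⟩ - (c : locSubring M)) = 0 := by
      rw [map_sub, map_mul, map_natCast, map_natCast, hse, hs, hcnt, sub_self]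
    simpa using red_eq_zero_iff.1 h
  have hnp : ¬ p ∣ n := fun h => hn ((memLocalIdeal_natCast_iff hM n).2 h)
  have := memLocalIdeal_mul_left (memLocalRing_inv_natCast hM hnp) hkey
  rwa [mul_sub, ← mul_assoc, inv_mul_cancel₀ hn1, one_mul, inv_mul_eq_div] at this

end Cfsg.Agent.S0940
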