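import Cfsg.Statements.S0944
import Cfsg.Agent.Lib.Blocks.Osima

set_option autoImplicit false
open Cfsg
open Cfsg.Agent.Lib.Blocks Cfsg.Agent.Lib.Characters
open scoped ComplexConjugate

namespace Cfsg.Agent.S0944

/-- Let χ be an irreducible character of the finite group G and u an involution. Then χ u is a rational integer n with n ≡ χ 1 (mod 2). -/
theorem result {G : Type*} [Group G] [Finite G] (χ : Cfsg.IrrCharacter G) (u : G) (hu : orderOf u = 2) : ∃ n : ℤ, (χ : G → ℂ) u = (n : ℂ) ∧ (2 : ℤ) ∣ (Cfsg.charDegree (χ : G → ℂ) : ℤ) - n := by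
  haveI := Fintype.ofFinite G
  obtain ⟨n, ρ, hρ, he⟩ := χ.2
  rw [← he]
  have hsq : ρ u ^ 2 = 1 := by rw [← map_pow, ← hu, pow_orderOf_eq_one, map_one]
  obtain ⟨ι, _, b, μ, hb, hμ⟩ := exists_eigenbasis (ρ u) two_ne_zero hsq
  have hsign : ∀ i, ∃ s : ℤ, μ i = (s : ℂ) ∧ (2 : ℤ) ∣ 1 - s := by
    intro i
    rcases sq_eq_one_iff.1 (hμ i) with h | h
    · exact ⟨1, by simp [h], by norm_num⟩
    · exact ⟨-1, by simp [h], by norm_num⟩
  choose s hs hs2 using hsign
  refine ⟨∑ i, s i, ?_, ?_⟩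
  · rw [Representation.character, trace_eq_sum_eigen b (ρ u) μ hb]
    push_cast
    exact Finset.sum_congr rfl fun i _ => hs i
  · have hdeg : charDegree ρ.character = Fintype.card ι := by
      rw [charDegree, ρ.char_one, Complex.natCast_re, Nat.floor_natCast,
        Module.finrank_eq_card_basis b]
    rw [hdeg, Fintype.card_eq_sum_ones]
    push_cast
    rw [← Finset.sum_sub_distrib]
    exact Finset.dvd_sum fun i _ => hs2 i

end Cfsg.Agent.S0944
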