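import Cfsg.Statements.S0946
import Cfsg.Agent.S0945

set_option autoImplicit false
open Cfsg
open Cfsg.Agent.Lib.Blocks
open scoped ComplexConjugate

namespace Cfsg.Agent.S0946

/-- Let P be a Sylow 2-subgroup of the finite group G isomorphic to Z/2^m × Z/2^m with m ≥ 1. Then either P has a normal complement in G, or all involutions of G are conjugate. -/
theorem result {G : Type*} [Group G] [Finite G] (P : Sylow 2 G) (m : ℕ) (hm : 1 ≤ m) (e : (P : Subgroup G) ≃* Multiplicative (ZMod (2 ^ m) × ZMod (2 ^ m))) : (∃ N : Subgroup G, N.Normal ∧ Subgroup.IsComplement' N (P : Subgroup G)) ∨ ∀ s t : G, orderOf s = 2 → orderOf t = 2 → IsConj s t := by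
  classical
  by_cases hN : Subgroup.normalizer ((P : Subgroup G) : Set G) ≤
      Subgroup.centralizer ((P : Subgroup G) : Set G)
  · exact Or.inl ⟨_, inferInstance, MonoidHom.ker_transferSylow_isComplement' P hN⟩
  obtain ⟨n, hn, hnC⟩ := SetLike.not_le_iff_exists.1 hN
  refine Or.inr fun s t hs ht => ?_
  have hP : ∀ u : G, orderOf u = 2 → ∃ x ∈ (P : Subgroup G), x ≠ 1 ∧ x ^ 2 = 1 ∧ IsConj u x := by
    intro u hu
    obtain ⟨Q, hQ⟩ := (IsPGroup.of_card (n := 1) (by rw [Nat.card_zpowers, hu, pow_one]) :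
      IsPGroup 2 (Subgroup.zpowers u)).exists_le_sylow
    obtain ⟨g, hg⟩ := MulAction.exists_smul_eq G Q P
    refine ⟨g * u * g⁻¹, ?_, ?_, ?_, isConj_iff.2 ⟨g, rfl⟩⟩
    · rw [← hg]
      exact ⟨u, hQ (Subgroup.mem_zpowers u), rfl⟩
    · rw [ne_eq, conj_eq_one_iff]
      rintro rfl
      simp at hu
    · rw [conj_pow, ← hu, pow_orderOf_eq_one, mul_one, mul_inv_cancel]
  obtain ⟨x, hx, hx1, hx2, hsx⟩ := hP s hs
  obtain ⟨y, hy, hy1, hy2, hty⟩ := hP t ht
  rcases Cfsg.Agent.S0945.automiser_dichotomy P m hm e ⟨n, hn⟩ with h | h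
  · exact absurd h hnC
  · exact hsx.trans (((h x y hx hy hx1 hy1 hx2 hy2).2).trans hty.symm)

end Cfsg.Agent.S0946
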