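import Cfsg.Statements.S0949
import Cfsg.Agent.Lib.Blocks.HomocyclicTwo

set_option autoImplicit false
open Cfsg
open Cfsg.Agent.Lib.Blocks Cfsg.Agent.Lib.Cores
open scoped ComplexConjugate

namespace Cfsg.Agent.S0949


universe u

/-- The normality of the Sylow subgroup, by induction on the order. -/
theorem sylow_normal (n : ℕ) : ∀ (G : Type u) [Group G] [Finite G], Nat.card G ≤ n →
    ∀ (P : Sylow 2 G) (m : ℕ), 2 ≤ m →
    ((P : Subgroup G) ≃* Multiplicative (ZMod (2 ^ m) × ZMod (2 ^ m))) →
    (∀ N : Subgroup G, N.Normal → Odd (Nat.card N) → N = ⊥) → (P : Subgroup G).Normal := by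
  haveI : Fact (Nat.Prime 2) := ⟨Nat.prime_two⟩
  induction n with
  | zero => intro G _ _ h; exact absurd h (Nat.not_le.2 Nat.card_pos)
  | succ n ih =>
    intro G _ _ hG P m hm e hO
    by_cases hN : Subgroup.normalizer ((P : Subgroup G) : Set G) ≤
        Subgroup.centralizer ((P : Subgroup G) : Set G)
    · have hcomp := MonoidHom.ker_transferSylow_isComplement' P hN
      have hL := hO _ (MonoidHom.normal_ker _) (Nat.not_even_iff_odd.1 fun h =>
        MonoidHom.not_dvd_card_ker_transferSylow P hN h.two_dvd)
      rw [hL, Subgroup.isComplement'_bot_left] at hcomp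
      rw [hcomp]
      infer_instance
    obtain ⟨K, hKn, hKtop, hPK⟩ := exists_proper_normal_ge P m hm e hN
    haveI := hKn
    have hOK : ∀ N : Subgroup K, N.Normal → Odd (Nat.card N) → N = ⊥ := by
      intro N hNn hNo
      have h1 : N ≤ pPrimeCore 2 K := le_pPrimeCore hNn (Nat.coprime_two_right.2 hNo)
      have h2 := hO ((pPrimeCore 2 K).map K.subtype)
        (ConjAct.normal_of_characteristic_of_normal) (by
          rw [Subgroup.card_map_of_injective K.subtype_injective]
          exact Nat.coprime_two_right.1 (pPrimeCore_coprime 2 K))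
      rw [Subgroup.map_eq_bot_iff_of_injective _ K.subtype_injective] at h2
      rw [h2] at h1
      exact le_bot_iff.1 h1
    have hlt : Nat.card K ≤ n := by
      have h1 := Subgroup.card_mul_index K
      have h2 : 2 ≤ K.index := by
        have h3 : K.index ≠ 0 := Subgroup.index_ne_zero_of_finite
        have h4 : K.index ≠ 1 := fun h => hKtop (Subgroup.index_eq_one.1 h)
        omega
      have h5 : Nat.card K * 2 ≤ Nat.card K * K.index := Nat.mul_le_mul_left _ h2
      have h6 : 0 < Nat.card K := Nat.card_pos
      omega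
    have hPn := ih K hlt (P.subtype hPK) m hm
      ((Subgroup.subgroupOfEquivOfLe hPK).trans e) hOK
    haveI : ((P.subtype hPK : Sylow 2 K) : Subgroup K).Characteristic :=
      Sylow.characteristic_of_normal _ hPn
    have h := (ConjAct.normal_of_characteristic_of_normal :
      (((P.subtype hPK : Sylow 2 K) : Subgroup K).map K.subtype).Normal)
    rwa [Sylow.coe_subtype, Subgroup.map_subgroupOf_eq_of_le hPK] at h

/-- Let the finite group G have a Sylow 2-subgroup P isomorphic to Z/2^m × Z/2^m with m ≥ 2, and suppose G has no nontrivial normal subgroup of odd order. Then P is normal in G, C_G(P) = P, and the index of P is 1 or 3. -/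
theorem result {G : Type*} [Group G] [Finite G] (P : Sylow 2 G) (m : ℕ) (hm : 2 ≤ m) (e : (P : Subgroup G) ≃* Multiplicative (ZMod (2 ^ m) × ZMod (2 ^ m))) (hO : ∀ N : Subgroup G, N.Normal → Odd (Nat.card N) → N = ⊥) : (P : Subgroup G).Normal ∧ Subgroup.centralizer (P : Set G) = (P : Subgroup G) ∧ ((P : Subgroup G).index = 1 ∨ (P : Subgroup G).index = 3) := by
  classical
  haveI : Fact (Nat.Prime 2) := ⟨Nat.prime_two⟩
  haveI hPn := sylow_normal (Nat.card G) G le_rfl P m hm e hO
  obtain ⟨hidx, -⟩ := Cfsg.Agent.S0945.result P m (by omega) e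
  have hcomm : ∀ a b : (P : Subgroup G), a * b = b * a := fun a b =>
    e.injective (by rw [map_mul, map_mul, mul_comm])
  have hPC : (P : Subgroup G) ≤ Subgroup.centralizer ((P : Subgroup G) : Set G) :=
    fun x hx y hy => congrArg Subtype.val (hcomm ⟨y, hy⟩ ⟨x, hx⟩)
  haveI : (Subgroup.centralizer ((P : Subgroup G) : Set G)).Normal := inferInstance
  have hle : Subgroup.normalizer (((P.subtype hPC : Sylow 2 (Subgroup.centralizer ((P : Subgroup G) : Set G))) :
      Subgroup (Subgroup.centralizer ((P : Subgroup G) : Set G))) : Set (Subgroup.centralizer ((P : Subgroup G) : Set G))) ≤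
      Subgroup.centralizer (((P.subtype hPC : Sylow 2 (Subgroup.centralizer ((P : Subgroup G) : Set G))) :
      Subgroup (Subgroup.centralizer ((P : Subgroup G) : Set G))) : Set (Subgroup.centralizer ((P : Subgroup G) : Set G))) := by
    intro c _ a ha
    exact Subtype.ext (c.2 (a : G) (by rwa [Sylow.coe_subtype, SetLike.mem_coe, Subgroup.mem_subgroupOf] at ha))
  have hidxC := index_pPrimeCore_of_normalizer_le (P.subtype hPC) hle
  have h2 := hO ((pPrimeCore 2 (Subgroup.centralizer ((P : Subgroup G) : Set G))).map
      (Subgroup.centralizer ((P : Subgroup G) : Set G)).subtype)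
    ConjAct.normal_of_characteristic_of_normal (by
      rw [Subgroup.card_map_of_injective (Subgroup.centralizer ((P : Subgroup G) : Set G)).subtype_injective]
      exact Nat.coprime_two_right.1 (pPrimeCore_coprime 2 _))
  rw [Subgroup.map_eq_bot_iff_of_injective _
    (Subgroup.centralizer ((P : Subgroup G) : Set G)).subtype_injective] at h2
  rw [h2, Subgroup.index_bot, Sylow.coe_subtype,
    Nat.card_congr (Subgroup.subgroupOfEquivOfLe hPC).toEquiv] at hidxC
  have hC : Subgroup.centralizer ((P : Subgroup G) : Set G) = (P : Subgroup G) :=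
    (Subgroup.eq_of_le_of_card_ge hPC hidxC.le).symm
  have hN : Subgroup.normalizer ((P : Subgroup G) : Set G) = ⊤ := Subgroup.normalizer_eq_top _
  refine ⟨hPn, hC, ?_⟩
  have hidx' : (Subgroup.centralizer ((P : Subgroup G) : Set G)).relIndex
      (Subgroup.normalizer ((P : Subgroup G) : Set G)) = 1 ∨
      (Subgroup.centralizer ((P : Subgroup G) : Set G)).relIndex
      (Subgroup.normalizer ((P : Subgroup G) : Set G)) = 3 := hidx
  rwa [hN, hC, Subgroup.relIndex_top_right] at hidx' 

end Cfsg.Agent.S0949
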