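import Cfsg.Statements.S0951
import Cfsg.Agent.S0201
import Cfsg.Agent.S0950
import Cfsg.Agent.S0948
import Cfsg.Agent.Lib.Blocks.HomocyclicTwo
import Cfsg.Agent.Lib.Blocks.Quotient2
import Mathlib.LinearAlgebra.Matrix.Rank

set_option autoImplicit false
open Cfsg
open Cfsg.Agent.Lib.Blocks Cfsg.Agent.Lib.Characters
open scoped ComplexConjugate

namespace Cfsg.Agent.S0951

theorem q8 : (∀ x y : QuaternionGroup 2, x ^ 2 = 1 → y ^ 2 = 1 → x ≠ 1 → y ≠ 1 → x = y) ∧
    (∀ x : QuaternionGroup 2, x ^ 2 ≠ 1 → x ^ 4 = 1) ∧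
    (∀ x : QuaternionGroup 2, x ^ 2 ≠ 1 → ∃ t, t * x * t⁻¹ = x⁻¹) ∧
    (∀ x y : QuaternionGroup 2, x ^ 2 ≠ 1 → y * x = x * y → ∃ k : Fin 4, y = x ^ k.1) := by
  decide

/-- Let S be a Sylow 2-subgroup of the finite group G isomorphic to the quaternion group of order 8. Suppose G has no nontrivial normal subgroup of odd order and G ≠ S. Then, relative to any maximal ideal M of the algebraic integers containing 2, the principal block of G consists of exactly 7 irreducible characters. -/
theorem result {G : Type*} [Group G] [Finite G] (M : Ideal Cfsg.AlgInt) (hM : Cfsg.IsPModular 2 M) (S : Sylow 2 G) (e : (S : Subgroup G) ≃* QuaternionGroup 2) (hO : ∀ N : Subgroup G, N.Normal → Odd (Nat.card N) → N = ⊥) (hG : (S : Subgroup G) ≠ ⊤) : Nat.card (Cfsg.principalBlock M G) = 7 := by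
  classical
  haveI : Fact (Nat.Prime 2) := ⟨Nat.prime_two⟩
  haveI := Fintype.ofFinite G
  haveI := isPrime_of_isPModular hM
  haveI := Fintype.ofFinite (Cfsg.IrrCharacter G)
  obtain ⟨hu, h4, hinv, hcyc⟩ := q8
  have hcard8 : Nat.card (S : Subgroup G) = 8 := by
    rw [Nat.card_congr e.toEquiv, Nat.card_eq_fintype_card, QuaternionGroup.card]
  -- the central involution
  have hcent : Nat.card (Subgroup.center G) = 2 := by
    exact Cfsg.Agent.S0201.result S 0 e hO
  obtain ⟨z, hzne⟩ : ∃ z : Subgroup.center G, z ≠ 1 := by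
    haveI : Nontrivial (Subgroup.center G) := Finite.one_lt_card_iff_nontrivial.1 (by rw [hcent]; norm_num)
    exact exists_ne 1
  have hz1 : (z : G) ≠ 1 := fun h => hzne (Subtype.ext h)
  have hzc : ∀ g : G, g * (z : G) = (z : G) * g := fun g => Subgroup.mem_center_iff.1 z.2 g
  have hz2 : (z : G) ^ 2 = 1 := by
    have h : z ^ 2 = 1 := by rw [← hcent]; exact pow_card_eq_one'
    exact congrArg Subtype.val h
  have hZmem : ∀ c ∈ Subgroup.center G, c = 1 ∨ c = (z : G) := by
    intro c hc
    obtain ⟨a, b, hab, huniv⟩ := Nat.card_eq_two_iff.1 hcent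
    have h : ∀ w : Subgroup.center G, w = a ∨ w = b := fun w => by
      simpa using (huniv.symm ▸ Set.mem_univ w : w ∈ ({a, b} : Set _))
    rcases h ⟨c, hc⟩ with h1 | h1 <;> rcases h 1 with h2 | h2 <;> rcases h z with h3 | h3
    all_goals first
      | (left; exact congrArg Subtype.val (h1.trans h2.symm))
      | (right; exact congrArg Subtype.val (h1.trans h3.symm))
      | exact absurd (h3.trans h2.symm) hzne
  have hzS : (z : G) ∈ (S : Subgroup G) := by
    have hpg : IsPGroup 2 ↥(Subgroup.center G) := IsPGroup.of_card (n := 1) (by rw [hcent]; rfl)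
    obtain ⟨R, hR⟩ := hpg.exists_le_sylow
    obtain ⟨g, hg⟩ := MulAction.exists_smul_eq G R S
    rw [← hg]
    refine ⟨z, hR z.2, ?_⟩
    show g * (z : G) * g⁻¹ = z
    rw [hzc g, mul_inv_cancel_right]
  have hval : ∀ (x : (S : Subgroup G)) (n : ℕ), ((x : G) ^ n = 1 ↔ e x ^ n = 1) := fun x n => by
    rw [← map_pow, MulEquiv.map_eq_one_iff, ← Subgroup.coe_pow, OneMemClass.coe_eq_one]
  have huniq : ∀ x ∈ (S : Subgroup G), x ^ 2 = 1 → x ≠ 1 → x = (z : G) := by
    intro x hx h2 h1
    refine congrArg Subtype.val (e.injective (hu (e ⟨x, hx⟩) (e ⟨z, hzS⟩) ((hval _ 2).1 h2)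
      ((hval _ 2).1 hz2) ?_ ?_))
    · rw [ne_eq, MulEquiv.map_eq_one_iff]; exact fun h => h1 (congrArg Subtype.val h)
    · rw [ne_eq, MulEquiv.map_eq_one_iff]; exact fun h => hz1 (congrArg Subtype.val h)
  have hord4 : ∀ x ∈ (S : Subgroup G), x ^ 2 ≠ 1 → orderOf x = 4 := by
    intro x hx hx2
    have h : x ^ 4 = 1 := (hval ⟨x, hx⟩ 4).2 (h4 _ fun h => hx2 ((hval ⟨x, hx⟩ 2).2 h))
    exact orderOf_eq_prime_pow (p := 2) (n := 1) (by simpa using hx2) (by simpa using h)
  have hsq : ∀ x ∈ (S : Subgroup G), x ^ 2 = 1 ∨ x ^ 2 = (z : G) := by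
    intro x hx
    by_cases h : x ^ 2 = 1
    · exact Or.inl h
    · refine Or.inr (huniq _ (pow_mem hx 2) ?_ h)
      rw [← pow_mul, show 2 * 2 = orderOf x from (hord4 x hx h).symm, pow_orderOf_eq_one]
  -- elements of order four
  have hnc : ∀ N : Subgroup G, N.Normal → ¬ Subgroup.IsComplement' N (S : Subgroup G) := by
    intro N hN hc
    have hidx : N.index = 8 := by rw [hc.symm.index_eq_card, hcard8]
    have hodd : Odd (Nat.card N) := by
      rw [← Nat.not_even_iff_odd, even_iff_two_dvd]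
      intro hd
      have hcop : Nat.Coprime (Nat.card N) (Nat.card (S : Subgroup G)) := by
        have h := S.not_dvd_index
        rw [hc.index_eq_card] at h
        exact absurd hd h
      rw [hcard8] at hcop
      have h2 := Nat.dvd_gcd hd (by norm_num : 2 ∣ 8)
      rw [show Nat.gcd (Nat.card N) 8 = 1 from hcop] at h2
      norm_num at h2
    have hbot := hO N hN hodd
    subst hbot
    exact hG (Subgroup.eq_top_of_card_eq _ (by
      have h := hc.card_mul
      rw [Subgroup.card_bot, one_mul] at h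
      exact h))
  have hconj4 : ∀ x y : G, x ∈ (S : Subgroup G) → y ∈ (S : Subgroup G) → x ^ 2 ≠ 1 → y ^ 2 ≠ 1 →
      IsConj x y := by
    intro x y hx hy hx2 hy2
    have hA : ∀ w ∈ (S : Subgroup G), w ^ 2 ≠ 1 → Nat.card (Subgroup.zpowers w) = 4 := fun w hw h2 => by
      rw [Nat.card_zpowers, hord4 w hw h2]
    obtain ⟨n, -, hn⟩ := Cfsg.Agent.S0950.result S e hnc (Subgroup.zpowers x) (Subgroup.zpowers y)
      (Subgroup.zpowers_le.2 hx) (Subgroup.zpowers_le.2 hy) (hA x hx hx2) (hA y hy hy2)
    rw [MonoidHom.map_zpowers] at hn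
    obtain ⟨k, hk⟩ := Subgroup.mem_zpowers_iff.1 (hn ▸ Subgroup.mem_zpowers y)
    set w := (MulAut.conj n).toMonoidHom x with hwdef
    have hw : IsConj x w := isConj_iff.2 ⟨n, rfl⟩
    have hwo : orderOf w = 4 := by
      rw [hwdef, orderOf_injective (MulAut.conj n).toMonoidHom (MulAut.conj n).injective x, hord4 x hx hx2]
    have hk' : w ^ (k % 4) = y := by
      rw [← hk]
      have := zpow_mod_orderOf w k
      rw [hwo] at this
      exact_mod_cast this
    have hwS : w ∈ (S : Subgroup G) := by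
      have h1 : w ∈ Subgroup.zpowers y := hn ▸ Subgroup.mem_zpowers w
      exact Subgroup.zpowers_le.2 hy h1
    have hk4 : k % 4 = 1 ∨ k % 4 = 3 := by
      have h1 := Int.emod_nonneg k (show (4 : ℤ) ≠ 0 by norm_num)
      have h2 := Int.emod_lt_of_pos k (show (0 : ℤ) < 4 by norm_num)
      by_contra hcon
      push Not at hcon
      apply hy2
      rw [← hk', ← zpow_natCast, ← zpow_mul]
      rcases (show k % 4 = 0 ∨ k % 4 = 2 by omega) with h | h
      · rw [h, zero_mul, zpow_zero]
      · rw [h, show (2 : ℤ) * ((2 : ℕ) : ℤ) = ((orderOf w : ℕ) : ℤ) by rw [hwo]; rfl, zpow_natCast,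
          pow_orderOf_eq_one]
    rcases hk4 with h | h
    · rw [h, zpow_one] at hk'
      rwa [← hk']
    · have hy' : y = w⁻¹ := by
        rw [← hk', h, eq_inv_iff_mul_eq_one]
        nth_rewrite 2 [← zpow_one w]
        rw [← zpow_add, show (3 : ℤ) + 1 = ((orderOf w : ℕ) : ℤ) by rw [hwo]; rfl, zpow_natCast,
          pow_orderOf_eq_one]
      obtain ⟨t, ht⟩ := hinv (e ⟨w, hwS⟩) (fun h => by
        have := (hval ⟨w, hwS⟩ 2).2 h
        exact absurd (orderOf_dvd_of_pow_eq_one this) (by rw [hwo]; norm_num))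
      refine hw.trans (isConj_iff.2 ⟨((e.symm t : (S : Subgroup G)) : G), ?_⟩)
      have h1 : e.symm t * ⟨w, hwS⟩ * (e.symm t)⁻¹ = ⟨w, hwS⟩⁻¹ := by
        apply e.injective
        simp [ht]
      rw [hy']
      exact congrArg Subtype.val h1
  obtain ⟨i, hiS, hi2⟩ : ∃ i ∈ (S : Subgroup G), i ^ 2 ≠ 1 := by
    refine ⟨e.symm (QuaternionGroup.a 1), SetLike.coe_mem _, fun h => ?_⟩
    have := (hval _ 2).1 h
    rw [MulEquiv.apply_symm_apply] at this
    revert this
    decide
  have hi4 := hord4 i hiS hi2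
  have hizi : i⁻¹ = (z : G) * i := by
    rw [← (hsq i hiS).resolve_left hi2, inv_eq_iff_mul_eq_one, ← mul_assoc, ← pow_succ', ← pow_succ]
    exact (hi4 ▸ pow_orderOf_eq_one i :)
  -- a `2`-part is `1`, `z` or conjugate to `i`
  have hpart : ∀ u : G, (∃ k : ℕ, orderOf u = 2 ^ k) → u = 1 ∨ u = (z : G) ∨ IsConj i u := by
    intro u hu
    obtain ⟨R, hR⟩ := (isPGroup_zpowers_of_orderOf hu).exists_le_sylow
    obtain ⟨g, hg⟩ := MulAction.exists_smul_eq G R S
    have hgu : g * u * g⁻¹ ∈ (S : Subgroup G) := by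
      rw [← hg]; exact ⟨u, hR (Subgroup.mem_zpowers u), rfl⟩
    by_cases h2 : (g * u * g⁻¹) ^ 2 = 1
    · by_cases h1 : g * u * g⁻¹ = 1
      · left; exact conj_eq_one_iff.1 h1
      · right; left
        have h := huniq _ hgu h2 h1
        rw [mul_inv_eq_iff_eq_mul, ← hzc g] at h
        exact mul_left_cancel h
    · right; right
      exact (hconj4 i _ hiS hgu hi2 h2).trans (isConj_iff.2 ⟨g, rfl⟩).symm
  -- characters on the section of `i`
  have hsec : ∀ χ ∈ Cfsg.principalBlock M G, ∀ y : G, Commute y i → ¬ 2 ∣ orderOf y →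
      (χ : G → ℂ) (i * y) = (χ : G → ℂ) i := by
    intro χ hχ y hcy hy
    set C := Subgroup.centralizer ({i} : Set G)
    haveI := Fintype.ofFinite C
    have hiC : Subgroup.zpowers i ≤ C :=
      Subgroup.zpowers_le.2 (Subgroup.mem_centralizer_singleton_iff.2 rfl)
    have hip : IsPGroup 2 (Subgroup.zpowers i) := isPGroup_zpowers_of_orderOf ⟨2, by rw [hi4]; rfl⟩
    obtain ⟨R, hR⟩ := (hip.of_equiv (Subgroup.subgroupOfEquivOfLe hiC).symm).exists_le_sylow
    have hRle : (R : Subgroup C) ≤ (Subgroup.zpowers i).subgroupOf C := by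
      intro r hr
      obtain ⟨R', hR'⟩ := (R.2.map C.subtype).exists_le_sylow
      obtain ⟨g, hg⟩ := MulAction.exists_smul_eq G R' S
      have hgi : g * i * g⁻¹ ∈ (S : Subgroup G) := by
        rw [← hg]
        exact ⟨i, hR' ⟨⟨i, hiC (Subgroup.mem_zpowers i)⟩,
          hR (Subgroup.mem_subgroupOf.2 (Subgroup.mem_zpowers i)), rfl⟩, rfl⟩
      have hgr : g * (r : G) * g⁻¹ ∈ (S : Subgroup G) := by
        rw [← hg]; exact ⟨r, hR' ⟨r, hr, rfl⟩, rfl⟩
      have hgi2 : e ⟨_, hgi⟩ ^ 2 ≠ 1 := fun h => hi2 (by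
        have h' := (hval ⟨_, hgi⟩ 2).2 h
        simp only [conj_pow] at h'
        exact conj_eq_one_iff.1 h')
      obtain ⟨k, hk⟩ := hcyc (e ⟨_, hgi⟩) (e ⟨_, hgr⟩) hgi2 (by
        rw [← map_mul, ← map_mul]
        congr 1
        have hri : (r : G) * i = i * (r : G) := Subgroup.mem_centralizer_singleton_iff.1 r.2
        apply Subtype.ext
        show g * r * g⁻¹ * (g * i * g⁻¹) = g * i * g⁻¹ * (g * r * g⁻¹)
        calc g * r * g⁻¹ * (g * i * g⁻¹) = g * (r * i) * g⁻¹ := by group
          _ = g * (i * r) * g⁻¹ := by rw [hri]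
          _ = _ := by group)
      rw [← map_pow] at hk
      have hk' : g * (r : G) * g⁻¹ = (g * i * g⁻¹) ^ (k : ℕ) := congrArg Subtype.val (e.injective hk)
      rw [conj_pow, mul_left_inj, mul_right_inj] at hk'
      rw [Subgroup.mem_subgroupOf, hk']
      exact Subgroup.npow_mem_zpowers i k
    have hle : Subgroup.normalizer ((R : Subgroup C) : Set C) ≤
        Subgroup.centralizer ((R : Subgroup C) : Set C) := by
      intro c _
      rw [mem_centralizer_subgroup_iff]
      intro r hr
      obtain ⟨k, hk⟩ := Subgroup.mem_zpowers_iff.1 (Subgroup.mem_subgroupOf.1 (hRle hr))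
      apply Subtype.ext
      show (r : G) * (c : G) = (c : G) * (r : G)
      rw [← hk]
      exact ((show Commute (c : G) i from Subgroup.mem_centralizer_singleton_iff.1 c.2).symm.zpow_left k).eq
    have hidx := index_pPrimeCore_of_normalizer_le R hle
    obtain ⟨m, hm⟩ := IsPGroup.iff_card.1 R.2
    rw [hm] at hidx
    haveI := (Cfsg.Agent.Lib.Cores.pPrimeCore_mem 2 C).1
    let y' : C := ⟨y, Subgroup.mem_centralizer_singleton_iff.2 hcy.eq⟩
    have hyO : y' ∈ Cfsg.pPrimeCore 2 C := mem_of_index_eq_pow Nat.prime_two _ hidx (by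
      rw [← Subgroup.orderOf_coe]; exact hy)
    exact Cfsg.Agent.S0942.result 2 M hM i ⟨2, by rw [hi4]; rfl⟩ y ⟨y', hyO, rfl⟩ χ hχ
  -- the sign at `z`
  have hzmul : ∀ (χ : Cfsg.IrrCharacter G) (g : G),
      (χ : G → ℂ) ((z : G) * g) = (χ : G → ℂ) z / (χ : G → ℂ) 1 * (χ : G → ℂ) g := by
    intro χ g
    let f : G → ℂ := fun x => if x = (z : G) then 1 else 0
    have hf : IsClassFunction G f := fun x a => by
      have hiff : a * x * a⁻¹ = (z : G) ↔ x = (z : G) := by
        rw [mul_inv_eq_iff_eq_mul, ← hzc a, mul_right_inj]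
      simp only [f, hiff]
    have h := sum_mul_char_mul χ.2 hf g
    simp only [omega, f, ite_mul, one_mul, zero_mul, Finset.sum_ite_eq', Finset.mem_univ, if_true] at h
    exact h
  have hsign : ∀ χ : Cfsg.IrrCharacter G, (χ : G → ℂ) z ≠ (χ : G → ℂ) 1 →
      ∀ g, (χ : G → ℂ) ((z : G) * g) = -(χ : G → ℂ) g := by
    intro χ hne g
    have h1 := IsIrrCharacter.apply_one_ne_zero χ.2
    have h := hzmul χ z
    rw [← pow_two, hz2] at h
    have hsq : (χ : G → ℂ) z / (χ : G → ℂ) 1 = -1 := by
      have h2 : ((χ : G → ℂ) z / (χ : G → ℂ) 1) ^ 2 = 1 := by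
        rw [pow_two, div_mul_div_comm, div_eq_one_iff_eq (mul_ne_zero h1 h1)]
        field_simp at h
        linear_combination -h
      rcases sq_eq_one_iff.1 h2 with h3 | h3
      · exact absurd ((div_eq_one_iff_eq h1).1 h3) hne
      · exact h3
    rw [hzmul, hsq]; ring
  have hpos : ∀ χ : Cfsg.IrrCharacter G, (χ : G → ℂ) z = (χ : G → ℂ) 1 →
      ∀ g, (χ : G → ℂ) ((z : G) * g) = (χ : G → ℂ) g := by
    intro χ he g
    rw [hzmul, he, div_self (IsIrrCharacter.apply_one_ne_zero χ.2), one_mul]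
  let F : Finset (Cfsg.IrrCharacter G) := Finset.univ.filter fun χ =>
    χ ∈ Cfsg.principalBlock M G ∧ (χ : G → ℂ) z ≠ (χ : G → ℂ) 1
  let I : Finset (Cfsg.IrrCharacter G) := Finset.univ.filter fun χ =>
    χ ∈ Cfsg.principalBlock M G ∧ (χ : G → ℂ) z = (χ : G → ℂ) 1
  have hF0 : ∀ χ ∈ F, (χ : G → ℂ) i = 0 := by
    intro χ hχ
    have h := hsign χ (Finset.mem_filter.1 hχ).2.2 i
    rw [← hizi] at h
    have hc : IsConj i i⁻¹ := hconj4 i i⁻¹ hiS (inv_mem hiS) hi2 (by rw [inv_pow]; simpa using hi2)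
    rw [← classFunction_conj (irr_isClassFunction χ) hc] at h
    linear_combination h / 2
  -- a combination of members of the block vanishing on regular elements
  have hker : ∀ a : Cfsg.IrrCharacter G → ℂ, ∀ A : Finset (Cfsg.IrrCharacter G),
      (∀ χ ∈ A, χ ∈ Cfsg.principalBlock M G) →
      ((∀ χ ∈ A, χ ∈ F) ∨ (∀ χ ∈ A, χ ∈ I)) →
      (∀ y, ¬ 2 ∣ orderOf y → ∑ χ ∈ A, a χ * (χ : G → ℂ) y = 0) →
      (∑ χ ∈ A, a χ * (χ : G → ℂ) i = 0) → ∀ χ ∈ A, a χ = 0 := by
    intro a A hA hcase hreg hati χ₀ hχ₀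
    have hall : ∀ g, ∑ χ ∈ A, a χ * (χ : G → ℂ) g = 0 := by
      intro g
      obtain ⟨u, y, huy, hcm, hu, hy⟩ := exists_isPPart Nat.prime_two g
      rcases hpart u hu with rfl | rfl | hconj
      · rw [← huy, one_mul]; exact hreg y hy
      · rw [← huy]
        rcases hcase with hc | hc
        · rw [Finset.sum_congr rfl fun χ hχ => by
            rw [hsign χ (Finset.mem_filter.1 (hc χ hχ)).2.2 y, mul_neg],
            Finset.sum_neg_distrib, hreg y hy, neg_zero]
        · rw [Finset.sum_congr rfl fun χ hχ => by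
            rw [hpos χ (Finset.mem_filter.1 (hc χ hχ)).2.2 y], hreg y hy]
      · obtain ⟨t, ht⟩ := isConj_iff.1 hconj
        subst ht
        have hy' : Commute (t⁻¹ * y * t) i := by
          have h := hcm.eq
          show t⁻¹ * y * t * i = i * (t⁻¹ * y * t)
          calc t⁻¹ * y * t * i = t⁻¹ * (y * (t * i * t⁻¹)) * t := by group
            _ = t⁻¹ * ((t * i * t⁻¹) * y) * t := by rw [h]
            _ = _ := by group
        have hy'' : ¬ 2 ∣ orderOf (t⁻¹ * y * t) := by
          rwa [show orderOf (t⁻¹ * y * t) = orderOf y from by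
            simpa using orderOf_injective (MulAut.conj t⁻¹).toMonoidHom (MulAut.conj t⁻¹).injective y]
        rw [← huy, show t * i * t⁻¹ * y = t * (i * (t⁻¹ * y * t)) * t⁻¹ by group,
          Finset.sum_congr rfl fun χ hχ => by
            rw [irr_isClassFunction χ, hsec χ (hA χ hχ) _ hy' hy''], hati]
    have h := congrArg (fun φ : G → ℂ => classInner φ (χ₀ : G → ℂ))
      (show (∑ χ ∈ A, a χ • (χ : G → ℂ)) = 0 from funext fun g => by simpa [Finset.sum_apply] using hall g)
    simp only [classInner_sum_left, classInner_smul_left] at h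
    rw [Finset.sum_eq_single χ₀ (fun χ _ hne => by
      rw [classInner_irr, if_neg hne, mul_zero]) (fun h' => absurd hχ₀ h'),
      IsIrrCharacter.classInner_self χ₀.2, mul_one] at h
    rw [h]; simp [classInner]
  -- the inflated characters
  have hI4 : I.card = 4 := by
    haveI := Fintype.ofFinite (G ⧸ Subgroup.center G)
    let q := QuotientGroup.mk' (Subgroup.center G)
    let P := S.mapSurjective (QuotientGroup.mk'_surjective (Subgroup.center G))
    have hfac : (Nat.card (G ⧸ Subgroup.center G)).factorization 2 = 2 := by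
      have h3 : (Nat.card G).factorization 2 = 3 := by
        have h := S.card_eq_multiplicity
        rw [hcard8] at h
        exact (Nat.pow_right_injective le_rfl (show 2 ^ 3 = 2 ^ _ from h)).symm
      have h := Subgroup.card_eq_card_quotient_mul_card_subgroup (Subgroup.center G)
      rw [hcent] at h
      rw [h, Nat.factorization_mul Nat.card_pos.ne' two_ne_zero, Finsupp.add_apply,
        Nat.prime_two.factorization_self] at h3
      omega
    have hP4 : Nat.card (P : Subgroup (G ⧸ Subgroup.center G)) = 4 := by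
      rw [P.card_eq_multiplicity, hfac]; rfl
    haveI : IsKleinFour (P : Subgroup (G ⧸ Subgroup.center G)) := by
      refine ⟨hP4, Nat.dvd_antisymm (Monoid.exponent_dvd_of_forall_pow_eq_one fun w => ?_) ?_⟩
      · obtain ⟨w, hw⟩ := w
        obtain ⟨s, hs, rfl⟩ := (Sylow.coe_mapSurjective (f := q) _ S ▸ hw : w ∈ (S : Subgroup G).map q)
        apply Subtype.ext
        show q s ^ 2 = 1
        rw [← map_pow]
        refine (QuotientGroup.eq_one_iff _).2 ?_
        rcases hsq s hs with h | h <;> rw [h]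
        exacts [one_mem _, z.2]
      · have hne : Monoid.exponent (P : Subgroup (G ⧸ Subgroup.center G)) ≠ 1 := fun h => by
          have hsub : Subsingleton (P : Subgroup (G ⧸ Subgroup.center G)) := Monoid.exp_eq_one_iff.1 h
          have := Nat.card_of_subsingleton (1 : (P : Subgroup (G ⧸ Subgroup.center G)))
          omega
        have hd : Monoid.exponent (P : Subgroup (G ⧸ Subgroup.center G)) ∣ 2 :=
          Monoid.exponent_dvd_of_forall_pow_eq_one fun w => by
            obtain ⟨w, hw⟩ := w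
            obtain ⟨s, hs, rfl⟩ :=
              (Sylow.coe_mapSurjective (f := q) _ S ▸ hw : w ∈ (S : Subgroup G).map q)
            apply Subtype.ext
            show q s ^ 2 = 1
            rw [← map_pow]
            refine (QuotientGroup.eq_one_iff _).2 ?_
            rcases hsq s hs with h | h <;> rw [h]
            exacts [one_mem _, z.2]
        rw [(Nat.prime_two.eq_one_or_self_of_dvd _ hd).resolve_left hne]
    have hinvol : ∀ s : G ⧸ Subgroup.center G, orderOf s = 2 → IsConj (q i) s := by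
      intro s hs
      obtain ⟨g, rfl⟩ := QuotientGroup.mk'_surjective _ s
      have hg2 : g ^ 2 ∈ Subgroup.center G := by
        rw [← QuotientGroup.eq_one_iff, QuotientGroup.mk_pow]
        exact (hs ▸ pow_orderOf_eq_one _ :)
      have hg4 : g ^ 2 ^ 2 = 1 := by
        rcases hZmem _ hg2 with h | h
        · rw [show 2 ^ 2 = 2 * 2 from rfl, pow_mul, h, one_pow]
        · rw [show 2 ^ 2 = 2 * 2 from rfl, pow_mul, h, hz2]
      obtain ⟨k, -, hk⟩ := (Nat.dvd_prime_pow Nat.prime_two).1 (orderOf_dvd_of_pow_eq_one hg4)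
      rcases hpart g ⟨k, hk⟩ with rfl | rfl | h
      · simp at hs
      · rw [show QuotientGroup.mk' (Subgroup.center G) (z : G) = 1 from
          (QuotientGroup.eq_one_iff _).2 z.2, orderOf_one] at hs
        norm_num at hs
      · exact q.map_isConj h
    obtain ⟨ζ₂, ζ₃, ζ₄, ε, -, h2, h3, h23, h24, h34, hB, hv, -⟩ :=
      Cfsg.Agent.S0948.result M hM P inferInstance fun s t hs ht =>
        (hinvol s hs).symm.trans (hinvol t ht)
    have hqi : orderOf (q i) = 2 := by
      refine orderOf_eq_prime ?_ ?_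
      · rw [← map_pow]
        refine (QuotientGroup.eq_one_iff _).2 ?_
        rcases hsq i hiS with h | h <;> rw [h]
        exacts [one_mem _, z.2]
      · intro h
        rcases hZmem i ((QuotientGroup.eq_one_iff i).1 h) with h' | h'
        · exact hi2 (by rw [h', one_pow])
        · exact hi2 (by rw [h', hz2])
    have h4ne : (ζ₄ : G ⧸ Subgroup.center G → ℂ) ≠ fun _ => 1 := fun h => by
      have := (hv (q i) hqi).2.2
      rw [h] at this
      norm_num at this
    set t4 : Finset (Cfsg.IrrCharacter (G ⧸ Subgroup.center G)) :=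
      {trivIrr _, ζ₂, ζ₃, ζ₄} with ht4
    have ht4c : t4.card = 4 := by
      have e2 : trivIrr (G ⧸ Subgroup.center G) ≠ ζ₂ := fun h => h2 (by rw [← h]; rfl)
      have e3 : trivIrr (G ⧸ Subgroup.center G) ≠ ζ₃ := fun h => h3 (by rw [← h]; rfl)
      have e4 : trivIrr (G ⧸ Subgroup.center G) ≠ ζ₄ := fun h => h4ne (by rw [← h]; rfl)
      simp [ht4, e2, e3, e4, h23, h24, h34]
    have hmem : ∀ η : Cfsg.IrrCharacter (G ⧸ Subgroup.center G),
        η ∈ t4 ↔ η ∈ Cfsg.principalBlock M (G ⧸ Subgroup.center G) := by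
      intro η
      rw [hB, ht4]
      simp only [Finset.mem_insert, Finset.mem_singleton, Set.mem_ofPred_eq]
      constructor
      · rintro (rfl | h)
        exacts [Or.inl rfl, Or.inr h]
      · rintro (h | h)
        exacts [Or.inl (Subtype.ext h), Or.inr h]
    have hblk : ∀ η : Cfsg.IrrCharacter (G ⧸ Subgroup.center G),
        η ∈ Cfsg.principalBlock M (G ⧸ Subgroup.center G) ↔
          inflIrr (Subgroup.center G) η ∈ Cfsg.principalBlock M G := by
      intro η
      exact sameBlock_comp_mk_iff (Subgroup.center G) hM (IsPGroup.of_card (n := 1) (by rw [hcent]; rfl))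
        (fun x _ => mem_centralizer_subgroup_iff.2 fun a ha => (Subgroup.mem_center_iff.1 ha x).symm)
        (trivIrr (G ⧸ Subgroup.center G)) η
    rw [← ht4c, ← Finset.card_map ⟨inflIrr (Subgroup.center G), fun a b hab => Subtype.ext (funext fun c => by
      obtain ⟨g, rfl⟩ := QuotientGroup.mk'_surjective _ c
      exact congrFun (congrArg Subtype.val hab) g)⟩]
    congr 1
    ext χ
    simp only [Finset.mem_map, Function.Embedding.coeFn_mk, I, Finset.mem_filter, Finset.mem_univ,
      true_and, hmem]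
    constructor
    · rintro ⟨hχB, hχz⟩
      obtain ⟨ψ, hψ, hψe⟩ := IsIrrCharacter.exists_quotient χ.2 (Subgroup.center G) fun c hc => by
        rcases hZmem c hc with rfl | rfl
        exacts [rfl, hχz]
      refine ⟨⟨ψ, hψ⟩, (hblk _).2 ?_, Subtype.ext hψe.symm⟩
      rwa [show inflIrr (Subgroup.center G) ⟨ψ, hψ⟩ = χ from Subtype.ext hψe.symm]
    · rintro ⟨η, hη, rfl⟩
      refine ⟨(hblk η).1 hη, ?_⟩
      show (η : _ → ℂ) (q z) = (η : _ → ℂ) (q 1)
      rw [show q (z : G) = q 1 from by rw [map_one]; exact (QuotientGroup.eq_one_iff _).2 z.2]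
  -- the two kernels on regular elements agree
  let X : Matrix I {y : G // ¬ 2 ∣ orderOf y} ℂ := fun χ y => (χ.1 : G → ℂ) y.1
  let Y : Matrix F {y : G // ¬ 2 ∣ orderOf y} ℂ := fun χ y => (χ.1 : G → ℂ) y.1
  have hzy : ∀ y : G, ¬ 2 ∣ orderOf y → 2 ∣ orderOf ((z : G) * y) := by
    intro y hy
    rw [(show Commute (z : G) y from (hzc y).symm).orderOf_mul_eq_mul_orderOf_of_coprime
      (by rw [orderOf_eq_prime hz2 hz1]; exact Nat.prime_two.coprime_iff_not_dvd.2 hy),
      orderOf_eq_prime hz2 hz1]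
    exact dvd_mul_right 2 _
  have hXY : Matrix.conjTranspose X * X = Matrix.conjTranspose Y * Y := by
    ext a b
    have h := finsum_regular_singular_eq_zero hM (isPBlock_principalBlock (G := G) (M := M)) b.2 (hzy a.1 a.2)
    rw [finsum_irr_eq_sum_ite, ← Finset.sum_filter,
      ← Finset.sum_filter_add_sum_filter_not _ (fun χ : Cfsg.IrrCharacter G => (χ : G → ℂ) z = (χ : G → ℂ) 1),
      Finset.filter_filter, Finset.filter_filter] at h
    rw [Finset.sum_congr rfl fun χ hχ => by rw [hpos χ (Finset.mem_filter.1 hχ).2.2 a.1],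
      Finset.sum_congr (s₁ := Finset.univ.filter fun χ : Cfsg.IrrCharacter G =>
        χ ∈ Cfsg.principalBlock M G ∧ ¬ (χ : G → ℂ) z = (χ : G → ℂ) 1) rfl fun χ hχ => by
        rw [hsign χ (Finset.mem_filter.1 hχ).2.2 a.1, map_neg, mul_neg],
      Finset.sum_neg_distrib, add_neg_eq_zero] at h
    rw [Matrix.mul_apply, Matrix.mul_apply]
    simp only [Matrix.conjTranspose_apply, Complex.star_def]
    show ∑ χ : I, conj ((χ.1 : G → ℂ) a.1) * (χ.1 : G → ℂ) b.1 =
      ∑ χ : F, conj ((χ.1 : G → ℂ) a.1) * (χ.1 : G → ℂ) b.1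
    rw [Finset.sum_coe_sort I fun χ => conj ((χ : G → ℂ) a.1) * (χ : G → ℂ) b.1,
      Finset.sum_coe_sort F fun χ => conj ((χ : G → ℂ) a.1) * (χ : G → ℂ) b.1,
      Finset.sum_congr (s₁ := I) rfl fun χ _ => mul_comm (conj ((χ : G → ℂ) a.1)) ((χ : G → ℂ) b.1),
      Finset.sum_congr (s₁ := F) rfl fun χ _ => mul_comm (conj ((χ : G → ℂ) a.1)) ((χ : G → ℂ) b.1)]
    exact h
  have hrank : X.rank = Y.rank := by
    open scoped ComplexOrder in
    rw [← Matrix.rank_conjTranspose_mul_self X, hXY, Matrix.rank_conjTranspose_mul_self]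
  have hY : Y.rank = F.card := by
    have hli : LinearIndependent ℂ Y.row := by
      rw [Fintype.linearIndependent_iff]
      intro g hg χ
      let a : Cfsg.IrrCharacter G → ℂ := fun χ => if h : χ ∈ F then g ⟨χ, h⟩ else 0
      have h := hker a F (fun χ hχ => (Finset.mem_filter.1 hχ).2.1) (Or.inl fun _ h => h)
        (fun y hy => by
          rw [← Finset.sum_coe_sort F]
          have h1 := congrFun hg ⟨y, hy⟩
          simpa [a, Y, Matrix.row, Finset.sum_apply] using h1)
        (Finset.sum_eq_zero fun χ hχ => by rw [hF0 χ hχ, mul_zero]) χ.1 χ.2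
      simpa [a] using h
    rw [hli.rank_matrix, Fintype.card_coe]
  have htI : trivIrr G ∈ I := Finset.mem_filter.2
    ⟨Finset.mem_univ _, self_mem_blockOf (trivIrr G), by simp⟩
  have hX : X.rank = 3 := by
    rw [← Matrix.rank_transpose]
    have hkerT : LinearMap.ker (Matrix.mulVecLin X.transpose) =
        ℂ ∙ (fun χ : I => conj ((χ.1 : G → ℂ) i)) := by
      refine le_antisymm (fun g hg => ?_) ?_
      · rw [LinearMap.mem_ker] at hg
        set c := g ⟨trivIrr G, htI⟩ with hc
        have hsum : ∑ χ ∈ I, (conj ((χ : G → ℂ) i)) * (χ : G → ℂ) i ≠ 0 := by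
          intro h0
          have hh : (∑ χ ∈ I, ‖(χ : G → ℂ) i‖ ^ 2 : ℝ) = 0 := by
            have hc : ((∑ χ ∈ I, ‖(χ : G → ℂ) i‖ ^ 2 : ℝ) : ℂ) = 0 := by
              rw [← h0]
              push_cast
              exact Finset.sum_congr rfl fun χ _ => by rw [Complex.conj_mul']
            exact_mod_cast hc
          have := (Finset.sum_eq_zero_iff_of_nonneg fun χ _ => sq_nonneg _).1 hh _ htI
          simp at this
        set r := (∑ χ ∈ I, (if h : χ ∈ I then g ⟨χ, h⟩ else 0) * (χ : G → ℂ) i) /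
          (∑ χ ∈ I, (conj ((χ : G → ℂ) i)) * (χ : G → ℂ) i) with hr
        let a : Cfsg.IrrCharacter G → ℂ := fun χ =>
          (if h : χ ∈ I then g ⟨χ, h⟩ else 0) - r * conj ((χ : G → ℂ) i)
        have ha := hker a I (fun χ hχ => (Finset.mem_filter.1 hχ).2.1) (Or.inr fun _ h => h)
          (fun y hy => by
            have h1 : ∑ χ ∈ I, (if h : χ ∈ I then g ⟨χ, h⟩ else 0) * (χ : G → ℂ) y = 0 := by
              rw [← Finset.sum_coe_sort I]
              have h2 : ∑ χ : I, X χ ⟨y, hy⟩ * g χ = 0 := congrFun hg ⟨y, hy⟩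
              refine (Finset.sum_congr rfl fun χ _ => ?_).trans h2
              rw [dif_pos χ.2]
              exact mul_comm _ _
            have h3 : ∑ χ ∈ I, conj ((χ : G → ℂ) i) * (χ : G → ℂ) y = 0 := by
              have h := finsum_regular_singular_eq_zero hM
                (isPBlock_principalBlock (G := G) (M := M)) hy
                (show 2 ∣ orderOf i by rw [hi4]; norm_num)
              rw [finsum_irr_eq_sum_ite, ← Finset.sum_filter,
                ← Finset.sum_filter_add_sum_filter_not _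
                  (fun χ : Cfsg.IrrCharacter G => (χ : G → ℂ) z = (χ : G → ℂ) 1),
                Finset.filter_filter, Finset.filter_filter,
                Finset.sum_eq_zero (s := Finset.univ.filter fun χ : Cfsg.IrrCharacter G =>
                  χ ∈ Cfsg.principalBlock M G ∧ ¬ (χ : G → ℂ) z = (χ : G → ℂ) 1) fun χ hχ => by
                    rw [hF0 χ hχ, map_zero, mul_zero], add_zero] at h
              rw [← h]
              exact Finset.sum_congr rfl fun χ _ => mul_comm _ _
            simp only [a, sub_mul, Finset.sum_sub_distrib, h1, mul_assoc, ← Finset.mul_sum, h3,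
              mul_zero, sub_zero])
          (by
            simp only [a, sub_mul, Finset.sum_sub_distrib, mul_assoc, ← Finset.mul_sum]
            rw [hr, div_mul_cancel₀ _ hsum, sub_self])
        refine Submodule.mem_span_singleton.2 ⟨r, funext fun χ => ?_⟩
        have h := ha χ.1 χ.2
        simp only [a, dif_pos χ.2, sub_eq_zero] at h
        simp [h]
      · rw [Submodule.span_singleton_le_iff_mem, LinearMap.mem_ker]
        funext y
        have h := finsum_regular_singular_eq_zero hM
          (isPBlock_principalBlock (G := G) (M := M)) y.2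
          (show 2 ∣ orderOf i by rw [hi4]; norm_num)
        rw [finsum_irr_eq_sum_ite, ← Finset.sum_filter,
          ← Finset.sum_filter_add_sum_filter_not _
            (fun χ : Cfsg.IrrCharacter G => (χ : G → ℂ) z = (χ : G → ℂ) 1),
          Finset.filter_filter, Finset.filter_filter,
          Finset.sum_eq_zero (s := Finset.univ.filter fun χ : Cfsg.IrrCharacter G =>
            χ ∈ Cfsg.principalBlock M G ∧ ¬ (χ : G → ℂ) z = (χ : G → ℂ) 1) fun χ hχ => by
              rw [hF0 χ hχ, map_zero, mul_zero], add_zero] at h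
        show ∑ χ : I, (χ.1 : G → ℂ) y.1 * conj ((χ.1 : G → ℂ) i) = 0
        rw [Finset.sum_coe_sort I fun χ => (χ : G → ℂ) y.1 * conj ((χ : G → ℂ) i)]
        exact h
    have hne : (fun χ : I => conj ((χ.1 : G → ℂ) i)) ≠ 0 := fun h => by
      simpa using congrFun h ⟨trivIrr G, htI⟩
    have h := LinearMap.finrank_range_add_finrank_ker (Matrix.mulVecLin X.transpose)
    rw [hkerT, finrank_span_singleton hne, Module.finrank_fintype_fun_eq_card, Fintype.card_coe,
      hI4] at h
    rw [Matrix.rank]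
    omega
  rw [hX, hY] at hrank
  have htot : Nat.card (Cfsg.principalBlock M G) = I.card + F.card := by
    rw [Nat.card_coe_set_eq, Set.ncard_eq_toFinset_card', ← Finset.card_union_of_disjoint
      (Finset.disjoint_filter.2 fun χ _ h1 h2 => h2.2 h1.2)]
    congr 1
    ext χ
    simp only [Set.mem_toFinset, Finset.mem_union, I, F, Finset.mem_filter, Finset.mem_univ, true_and]
    by_cases hχ : (χ : G → ℂ) z = (χ : G → ℂ) 1 <;> simp [hχ]
  rw [htot, hI4, ← hrank]

end Cfsg.Agent.S0951
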