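import Cfsg.Statements.S0962
import Cfsg.Agent.Lib.Blocks.Quotient

set_option autoImplicit false
open Cfsg
open Cfsg.Agent.Lib.Blocks Cfsg.Agent.Lib.Characters
open scoped ComplexConjugate

namespace Cfsg.Agent.S0962

/-- Fix a maximal ideal M of the algebraic integers containing the prime p and a natural number d. The number of blocks of the finite group G of defect at least d is at most the number of conjugacy classes of p-regular elements of G of defect at least d, where the defect of a class is the exponent of p in the order of the centralizer of any of its elements. -/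
theorem result {G : Type*} [Group G] [Finite G] (p : ℕ) [Fact p.Prime] (M : Ideal Cfsg.AlgInt) (hM : Cfsg.IsPModular p M) (d : ℕ) : Nat.card {B : Set (Cfsg.IrrCharacter G) // Cfsg.IsPBlock M B ∧ d ≤ Cfsg.blockDefect p B} ≤ Nat.card {C : ConjClasses G // ∃ g : G, ConjClasses.mk g = C ∧ Cfsg.IsPRegular p g ∧ d ≤ (Nat.card (Subgroup.centralizer ({g} : Set G))).factorization p} := by
  classical
  haveI := Fintype.ofFinite G
  haveI := isPrime_of_isPModular hM
  let SC := {C : ConjClasses G // ∃ g : G, ConjClasses.mk g = C ∧ Cfsg.IsPRegular p g ∧
    d ≤ (Nat.card (Subgroup.centralizer ({g} : Set G))).factorization p}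
  let SB := {B : Set (Cfsg.IrrCharacter G) // Cfsg.IsPBlock M B ∧ d ≤ Cfsg.blockDefect p B}
  haveI : Finite (ConjClasses G) := Finite.of_surjective _ ConjClasses.mk_surjective
  haveI := Fintype.ofFinite (ConjClasses G)
  haveI : Finite (Cfsg.IrrCharacter G) := inferInstance
  haveI : Fintype SB := Fintype.ofFinite SB
  haveI : Fintype SC := Fintype.ofFinite SC
  have hex : ∀ B : SB, ∃ χ, χ ∈ B.1 := fun B => IsPBlock.nonempty B.2.1
  choose rep hrep using hex
  let v : SB → SC → ResField M := fun B C =>
    red M ⟨centralChar (rep B : G → ℂ) (Quotient.out C.1), memLocalRing_centralChar _ _⟩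
  have hli : LinearIndependent (ResField M) v := by
    rw [Fintype.linearIndependent_iff]
    intro a ha B
    have he := isRCentral_blockCoeff hM B.2.1
    -- pairing with the idempotent of `B`
    let w : SC → ResField M := fun C =>
      red M ⟨blockCoeff B.1 (Quotient.out C.1), he.2 _⟩
    have hkey : ∀ B' : SB, ∑ C : SC, w C * v B' C = if B' = B then 1 else 0 := by
      intro B'
      have hω : red M ⟨omega (rep B' : G → ℂ) (blockCoeff B.1), memLocalRing_omega he _⟩ =
          if B' = B then 1 else 0 := by
        split_ifs with h
        · subst h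
          rw [← map_one (red M)]
          refine congrArg (red M) (Subtype.ext ?_)
          show omega _ _ = 1
          rw [omega_blockCoeff, if_pos (hrep B')]
        · rw [← map_zero (red M)]
          refine congrArg (red M) (Subtype.ext ?_)
          show omega _ _ = 0
          rw [omega_blockCoeff, if_neg fun hh =>
            h (Subtype.ext (IsPBlock.eq_of_mem B'.2.1 B.2.1 (hrep B') hh))]
      rw [← hω]
      have hsum : (⟨omega (rep B' : G → ℂ) (blockCoeff B.1), memLocalRing_omega he _⟩ : locSubring M) =
          ∑ C : ConjClasses G, (⟨blockCoeff B.1 (Quotient.out C) *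
            centralChar (rep B' : G → ℂ) (Quotient.out C),
            memLocalRing_mul (he.2 _) (memLocalRing_centralChar _ _)⟩ : locSubring M) := by
        refine Subtype.ext ?_
        rw [AddSubmonoidClass.coe_finsetSum]
        exact omega_eq_sum_classes (irr_isClassFunction _) he.1
      rw [hsum, map_sum]
      symm
      rw [← Finset.sum_subset (Finset.subset_univ (Finset.univ.filter (fun C => ∃ g : G,
        ConjClasses.mk g = C ∧ Cfsg.IsPRegular p g ∧
          d ≤ (Nat.card (Subgroup.centralizer ({g} : Set G))).factorization p))),
        Finset.sum_subtype (p := fun C => ∃ g : G, ConjClasses.mk g = C ∧ Cfsg.IsPRegular p g ∧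
          d ≤ (Nat.card (Subgroup.centralizer ({g} : Set G))).factorization p) _
          (fun C => by simp)]
      · refine Finset.sum_congr rfl fun C _ => ?_
        simp only [w, v, ← map_mul]
        rfl
      · intro C _ hC
        rw [red_eq_zero_iff]
        show MemLocalIdeal M (_ * _)
        by_contra hne
        refine hC (Finset.mem_filter.2 ⟨Finset.mem_univ _, Quotient.out C, Quotient.out_eq C, ?_, ?_⟩)
        · intro hd
          rw [blockCoeff_eq_zero_of_dvd hM B.2.1 hd, zero_mul] at hne
          exact hne memLocalIdeal_zero
        · obtain ⟨y, hy⟩ := exists_isDefectClass hM B'.2.1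
          obtain ⟨D⟩ : Nonempty (Sylow p (Subgroup.centralizer ({y} : Set G))) := inferInstance
          obtain ⟨Q⟩ : Nonempty (Sylow p (Subgroup.centralizer ({Quotient.out C} : Set G))) :=
            inferInstance
          have hω' : ¬ MemLocalIdeal M (centralChar (rep B' : G → ℂ) (Quotient.out C)) :=
            fun h => hne (memLocalIdeal_mul_left (he.2 _) h)
          have h1 := (isConjLE_of_omega hM B'.2.1 hy D Q (hrep B') hω').card_le
          rw [IsDefectGroup.card_eq hM B'.2.1 ⟨y, hy, D, rfl⟩, card_sylowSub Q] at h1
          exact B'.2.2.trans ((Nat.pow_le_pow_iff_right hM.1.one_lt).1 h1)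
    have h2 : ∑ B' : SB, a B' * ∑ C : SC, w C * v B' C = 0 := by
      simp only [Finset.mul_sum]
      rw [Finset.sum_comm]
      refine Finset.sum_eq_zero fun C _ => ?_
      have h := congrFun ha C
      simp only [Finset.sum_apply, Pi.smul_apply, smul_eq_mul, Pi.zero_apply] at h
      rw [Finset.sum_congr rfl fun B' _ => mul_left_comm (a B') (w C) (v B' C), ← Finset.mul_sum, h,
        mul_zero]
    simp only [hkey, mul_ite, mul_one, mul_zero] at h2
    rw [Finset.sum_eq_single B (fun b _ hb => if_neg hb) (fun h => absurd (Finset.mem_univ B) h),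
      if_pos rfl] at h2
    exact h2
  have hcard := hli.fintype_card_le_finrank
  rw [Module.finrank_fintype_fun_eq_card] at hcard
  rwa [Nat.card_eq_fintype_card, Nat.card_eq_fintype_card]

end Cfsg.Agent.S0962
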