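import Cfsg.Statements.S0953
import Cfsg.Agent.Lib.Blocks.Kulshammer
import Cfsg.Agent.Lib.Blocks.Principal
import Cfsg.Agent.Lib.Blocks.MainTheorems
import Cfsg.Agent.S0920
import Cfsg.Agent.S0962

set_option autoImplicit false
open Cfsg
open Cfsg.Agent.Lib.Blocks Cfsg.Agent.Lib.Characters
open scoped ComplexConjugate

namespace Cfsg.Agent.S0953

/-- The blocks of a group with normal Sylow `p`-subgroup and its regular classes centralising it. -/
theorem card_blocks_of_normal_sylow {K : Type*} [Group K] [Finite K] (p : ℕ) [Fact p.Prime]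
    (M : Ideal Cfsg.AlgInt) (hM : Cfsg.IsPModular p M) (Q : Subgroup K) [Q.Normal]
    (hQ : Nat.card Q = p ^ (Nat.card K).factorization p) :
    Nat.card {B : Set (Cfsg.IrrCharacter K) // Cfsg.IsPBlock M B} =
      Nat.card {C : ConjClasses K //
        ∀ n : K, ConjClasses.mk n = C → ¬ p ∣ orderOf n ∧ n ∈ Subgroup.centralizer (Q : Set K)} := by
  classical
  haveI := Fintype.ofFinite K
  haveI := isPrime_of_isPModular hM
  haveI := resField_charP (M := M) hM
  set a := (Nat.card K).factorization p
  have hQp : IsPGroup p Q := IsPGroup.of_card hQ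
  have hQmax : ∀ R : Subgroup K, IsPGroup p R → R ≤ Q := by
    intro R hR
    obtain ⟨P', hP'⟩ := hR.exists_le_sylow
    have hle : Q ≤ P' := by
      obtain ⟨P'', hP''⟩ := hQp.exists_le_sylow
      obtain ⟨g, hg⟩ := MulAction.exists_smul_eq K P'' P'
      intro x hx
      rw [← hg]
      exact ⟨g⁻¹ * x * g, hP'' (by simpa using Subgroup.Normal.conj_mem inferInstance x hx g⁻¹),
        by simp [mul_assoc]⟩
    exact hP'.trans (Subgroup.eq_of_le_of_card_ge hle
      (by rw [Sylow.card_eq_multiplicity, hQ])).ge
  have hdef : ∀ B : Set (Cfsg.IrrCharacter K), Cfsg.IsPBlock M B → Cfsg.blockDefect p B = a := by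
    intro B hB
    obtain ⟨D, hD⟩ := exists_isDefectGroup hM hB
    have he : D = Q := le_antisymm (hQmax D (IsDefectGroup.isPGroup hD))
      (le_of_isDefectGroup hM hQp hB hD)
    have h := IsDefectGroup.card_eq hM hB hD
    rw [he, hQ] at h
    exact (Nat.pow_right_injective hM.1.two_le h).symm
  have hclass : ∀ C : ConjClasses K, (∃ g : K, ConjClasses.mk g = C ∧ Cfsg.IsPRegular p g ∧
      a ≤ (Nat.card (Subgroup.centralizer ({g} : Set K))).factorization p) ↔
      ∀ n : K, ConjClasses.mk n = C → ¬ p ∣ orderOf n ∧ n ∈ Subgroup.centralizer (Q : Set K) := by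
    intro C
    constructor
    · rintro ⟨g, rfl, hg, hga⟩ n hn
      obtain ⟨S⟩ : Nonempty (Sylow p (Subgroup.centralizer ({g} : Set K))) := inferInstance
      have hgQ : g ∈ Subgroup.centralizer (Q : Set K) := by
        have hle := hQmax _ (isPGroup_sylowSub S)
        have heq := Subgroup.eq_of_le_of_card_ge hle (by
          rw [hQ, card_sylowSub]; exact Nat.pow_le_pow_right hM.1.pos hga)
        rw [← heq]
        exact mem_centralizer_sylowSub S
      obtain ⟨c, rfl⟩ := isConj_iff.1 (ConjClasses.mk_eq_mk_iff_isConj.1 hn).symm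
      refine ⟨?_, Subgroup.Normal.conj_mem inferInstance g hgQ c⟩
      rwa [show orderOf (c * g * c⁻¹) = orderOf g from
        orderOf_injective (MulAut.conj c).toMonoidHom (MulAut.conj c).injective g]
    · intro h
      obtain ⟨g, rfl⟩ := ConjClasses.mk_surjective C
      obtain ⟨hg, hgQ⟩ := h g rfl
      refine ⟨g, rfl, hg, ?_⟩
      have hd := Subgroup.card_dvd_of_le (le_centralizer_singleton_iff.2 hgQ)
      rw [hQ, hM.1.pow_dvd_iff_le_factorization Nat.card_pos.ne'] at hd
      exact hd
  apply le_antisymm
  · have h := Cfsg.Agent.S0962.result p M hM a (G := K)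
    rw [Nat.card_congr (Equiv.subtypeEquivRight fun B : Set (Cfsg.IrrCharacter K) =>
        (⟨fun hB => hB.1, fun hB => ⟨hB, (hdef B hB).ge⟩⟩ :
          Cfsg.IsPBlock M B ∧ a ≤ Cfsg.blockDefect p B ↔ Cfsg.IsPBlock M B)),
      Nat.card_congr (Equiv.subtypeEquivRight hclass)] at h
    exact h
  · let SC := {C : ConjClasses K //
      ∀ n : K, ConjClasses.mk n = C → ¬ p ∣ orderOf n ∧ n ∈ Subgroup.centralizer (Q : Set K)}
    let SB := {B : Set (Cfsg.IrrCharacter K) // Cfsg.IsPBlock M B}
    haveI : Finite (ConjClasses K) := Finite.of_surjective _ ConjClasses.mk_surjective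
    haveI : Fintype SC := Fintype.ofFinite SC
    haveI : Fintype SB := Fintype.ofFinite SB
    have hex : ∀ B : SB, ∃ χ, χ ∈ B.1 := fun B => IsPBlock.nonempty B.2
    choose rep hrep using hex
    let v : SC → SB → ResField M := fun C B =>
      red M ⟨centralChar (rep B : K → ℂ) (Quotient.out C.1), memLocalRing_centralChar _ _⟩
    have hli : LinearIndependent (ResField M) v := by
      rw [Fintype.linearIndependent_iff]
      intro t ht C₀
      choose t' ht' using fun C => red_surjective (M := M) (t C)
      let f : K → ℂ := ∑ C : SC, (t' C : ℂ) • classIndicator (Quotient.out C.1)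
      have hf : IsRCentral M f := IsRCentral.sum _ fun C _ =>
        (isRCentral_classIndicator _).smul (t' C).2
      have hω : ∀ η : Cfsg.IrrCharacter K, MemLocalIdeal M (omega (η : K → ℂ) f) := by
        intro η
        let B : SB := ⟨blockOf M (η : K → ℂ), isPBlock_blockOf η⟩
        have h1 := omega_congr_of_sameBlock
          (IsPBlock.sameBlock (isPBlock_blockOf η) (self_mem_blockOf η) (hrep B)) hf
        have h2 : MemLocalIdeal M (omega (rep B : K → ℂ) f) := by
          have e : (⟨omega (rep B : K → ℂ) f, memLocalRing_omega hf _⟩ : locSubring M) =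
              ∑ C : SC, t' C * ⟨centralChar (rep B : K → ℂ) (Quotient.out C.1),
                memLocalRing_centralChar _ _⟩ := by
            refine Subtype.ext ?_
            rw [AddSubmonoidClass.coe_finsetSum]
            show omega _ f = _
            rw [omega_sum]
            exact Finset.sum_congr rfl fun C _ => by
              rw [omega_smul, omega_classIndicator (irr_isClassFunction _)]; rfl
          have h := congrFun ht B
          simp only [Finset.sum_apply, Pi.smul_apply, smul_eq_mul, Pi.zero_apply] at h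
          exact red_eq_zero_iff.1 (e ▸ by rw [map_sum]; simpa [v, ht'] using h :
            red M (⟨omega (rep B : K → ℂ) f, memLocalRing_omega hf _⟩ : locSubring M) = 0)
        simpa using memLocalIdeal_add h1 h2
      obtain ⟨N, hN⟩ := exists_convPow_memLocalIdeal hM hf hω
      set g := Quotient.out C₀.1 with hgdef
      obtain ⟨hg, hgQ⟩ := C₀.2 g (Quotient.out_eq C₀.1)
      have hNm : N ≤ p ^ (Nat.totient (orderOf g) * N) :=
        le_trans (Nat.le_mul_of_pos_left _ (Nat.totient_pos.2 (orderOf_pos g)))
          (Nat.lt_pow_self hM.1.one_lt).le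
      set m := Nat.totient (orderOf g) * N
      have hgm : g ^ (p ^ m) = g := by
        have hmod : p ^ m ≡ 1 [MOD orderOf g] := by
          have h := (Nat.ModEq.pow_totient ((hM.1.coprime_iff_not_dvd.2 hg))).pow N
          rwa [one_pow, ← pow_mul] at h
        conv_rhs => rw [← pow_one g]
        exact pow_eq_pow_iff_modEq.2 hmod
      have heq : convPow (fun w => f (w * g)) (p ^ m) 1 = convPow f (p ^ m) g := by
        rw [convPow_translate hf.1, one_mul, hgm]
      have hmem : MemLocalRing M (convPow (fun w => f (w * g)) (p ^ m) 1) := by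
        rw [heq]; exact (isRCentral_convPow hf _).2 g
      have hpow := red_convPow_prime_pow hM (fun w => f (w * g)) (fun w => hf.2 _) m hmem
      have h0 : red M (⟨_, hmem⟩ : locSubring M) = 0 := red_eq_zero_iff.2 (by
        show MemLocalIdeal M (convPow (fun w => f (w * g)) (p ^ m) 1)
        rw [heq]; exact hN _ hNm g)
      have hfg : ∀ x : K, f x = ∑ C : SC, (t' C : ℂ) * classIndicator (Quotient.out C.1) x :=
        fun x => by simp [f, Finset.sum_apply]
      have hsupp : ∀ x : K, f x ≠ 0 → ¬ p ∣ orderOf x ∧ x ∈ Subgroup.centralizer (Q : Set K) := by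
        intro x hx
        rw [hfg] at hx
        obtain ⟨C, -, hC⟩ := Finset.exists_ne_zero_of_sum_ne_zero hx
        refine C.2 x ?_
        by_contra hne
        refine hC (mul_eq_zero_of_right _ (if_neg fun hc => hne ?_))
        exact (ConjClasses.mk_eq_mk_iff_isConj.2 hc.symm).trans (Quotient.out_eq C.1)
      rw [h0, Finset.sum_eq_single (1 : K), if_pos (one_pow _), eq_comm,
        pow_eq_zero_iff (pow_pos hM.1.pos m).ne', red_eq_zero_iff] at hpow
      · have hval : f g = (t' C₀ : ℂ) := by
          rw [hfg, Finset.sum_eq_single C₀]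
          · rw [show classIndicator (Quotient.out C₀.1) g = 1 from if_pos (IsConj.refl _), mul_one]
          · intro C _ hC
            refine mul_eq_zero_of_right _ (if_neg fun hc => hC (Subtype.ext ?_))
            exact ((Quotient.out_eq C.1).symm.trans
              (ConjClasses.mk_eq_mk_iff_isConj.2 hc)).trans (Quotient.out_eq C₀.1)
          · simp
        change MemLocalIdeal M (f (1 * g)) at hpow
        rw [one_mul, hval] at hpow
        rw [← ht' C₀, red_eq_zero_iff]
        exact hpow
      · intro x _ hx1
        split_ifs with hx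
        · rw [red_eq_zero_iff]
          show MemLocalIdeal M (f (x * g))
          by_cases h0' : f (x * g) = 0
          · rw [h0']; exact memLocalIdeal_zero
          exfalso
          obtain ⟨hreg, hxC⟩ := hsupp _ h0'
          obtain ⟨k, -, hk⟩ := (Nat.dvd_prime_pow hM.1).1 (orderOf_dvd_of_pow_eq_one hx)
          have hxQ : x ∈ Q := hQmax _ (isPGroup_zpowers_of_orderOf ⟨k, hk⟩) (Subgroup.mem_zpowers x)
          have hcm : Commute x g := mem_centralizer_subgroup_iff.1 hgQ x hxQ
          have h1 : IsPPart p (x * g) x := ⟨g, rfl, hcm, ⟨k, hk⟩, hg⟩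
          exact hx1 (isPPart_unique hM.1 h1 (isPPart_one_of_not_dvd hreg))
        · rfl
      · simp
    have hcard := hli.fintype_card_le_finrank
    rw [Module.finrank_fintype_fun_eq_card] at hcard
    rwa [Nat.card_eq_fintype_card, Nat.card_eq_fintype_card]

/-- Let P be a Sylow p-subgroup of the finite group G with normalizer N, and fix a maximal ideal M of the algebraic integers containing p. The number of blocks of G having P as a defect group equals the number of conjugacy classes of N consisting of elements of order prime to p that centralize P. -/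
theorem result {G : Type*} [Group G] [Finite G] (p : ℕ) [Fact p.Prime] (M : Ideal Cfsg.AlgInt) (hM : Cfsg.IsPModular p M) (P : Sylow p G) : Nat.card {B : Set (Cfsg.IrrCharacter G) // Cfsg.IsPBlock M B ∧ Cfsg.IsDefectGroup p M B (P : Subgroup G)} = Nat.card {C : ConjClasses (Subgroup.normalizer ((P : Subgroup G) : Set G)) // ∀ n : Subgroup.normalizer ((P : Subgroup G) : Set G), ConjClasses.mk n = C → ¬ p ∣ orderOf n ∧ (n : G) ∈ Subgroup.centralizer ((P : Subgroup G) : Set G)} := by
  classical
  haveI := Fintype.ofFinite G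
  haveI := Fintype.ofFinite (Subgroup.normalizer ((P : Subgroup G) : Set G))
  haveI := isPrime_of_isPModular hM
  have hPN : (P : Subgroup G) ≤ Subgroup.normalizer ((P : Subgroup G) : Set G) := Subgroup.le_normalizer
  haveI hn : ((P : Subgroup G).subgroupOf (Subgroup.normalizer ((P : Subgroup G) : Set G))).Normal :=
    subgroupOf_normal_of_le_normalizer le_rfl
  have hQ : Nat.card ((P : Subgroup G).subgroupOf (Subgroup.normalizer ((P : Subgroup G) : Set G))) =
      p ^ (Nat.card (Subgroup.normalizer ((P : Subgroup G) : Set G))).factorization p :=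
    Sylow.card_eq_multiplicity (P.subtype hPN)
  have hNdef : ∀ b : Set (Cfsg.IrrCharacter (Subgroup.normalizer ((P : Subgroup G) : Set G))),
      Cfsg.IsPBlock M b → Cfsg.IsDefectGroup p M b
        ((P : Subgroup G).subgroupOf (Subgroup.normalizer ((P : Subgroup G) : Set G))) := by
    intro b hb
    obtain ⟨D, hD⟩ := exists_isDefectGroup hM hb
    have hle := le_of_isDefectGroup hM (IsPGroup.of_card hQ) hb hD
    have hDle : Nat.card D ≤ Nat.card
        ((P : Subgroup G).subgroupOf (Subgroup.normalizer ((P : Subgroup G) : Set G))) := by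
      obtain ⟨k, hk⟩ := (IsDefectGroup.isPGroup hD).exists_card_eq
      rw [hQ, hk]
      exact Nat.pow_le_pow_right hM.1.pos ((hM.1.pow_dvd_iff_le_factorization Nat.card_pos.ne').1
        (hk ▸ Subgroup.card_subgroup_dvd_card D))
    rwa [Subgroup.eq_of_le_of_card_ge hle hDle]
  obtain ⟨hex, huniq⟩ := Cfsg.Agent.S0920.result p M hM (P : Subgroup G) P.2
  choose Bf hBf using fun b : {b : Set (Cfsg.IrrCharacter
    (Subgroup.normalizer ((P : Subgroup G) : Set G))) // Cfsg.IsPBlock M b} =>
      hex b.1 b.2 (hNdef b.1 b.2)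
  rw [← Nat.card_eq_of_bijective (fun b => (⟨Bf b, (hBf b).1, (hBf b).2.1⟩ :
    {B : Set (Cfsg.IrrCharacter G) // Cfsg.IsPBlock M B ∧
      Cfsg.IsDefectGroup p M B (P : Subgroup G)})) ⟨?_, ?_⟩, card_blocks_of_normal_sylow p M hM _ hQ]
  · exact Nat.card_congr (Equiv.subtypeEquivRight fun C => by
      simp only [mem_centralizer_subgroupOf hPN])
  · intro b b' he
    have he' : Bf b = Bf b' := congrArg Subtype.val he
    exact Subtype.ext (eq_of_isInducedBlock hM (hBf b).2.2 (he' ▸ (hBf b').2.2) (hNdef b.1 b.2))
  · rintro ⟨B, hB, hBd⟩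
    obtain ⟨b, ⟨hb, -, hind⟩, -⟩ := huniq B hB hBd
    exact ⟨⟨b, hb⟩, Subtype.ext (IsInducedBlock.unique (hBf ⟨b, hb⟩).2.2 hind)⟩

end Cfsg.Agent.S0953
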