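import Cfsg.Statements.S0955
import Cfsg.Agent.Lib.Blocks.MainTheorems
import Cfsg.Agent.Lib.Blocks.Principal
import Cfsg.Agent.Lib.Cores.PCore

set_option autoImplicit false
open Cfsg
open Cfsg.Agent.Lib.Blocks Cfsg.Agent.Lib.Characters Cfsg.Agent.Lib.Cores
open scoped ComplexConjugate

namespace Cfsg.Agent.S0955

/-- Let D be a defect group of a block of the finite group G relative to a maximal ideal M of the algebraic integers containing the prime p. Then D is the largest normal p-subgroup of its own normalizer: O_p(N_G(D)) = D. -/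
theorem result {G : Type*} [Group G] [Finite G] (p : ℕ) [Fact p.Prime] (M : Ideal Cfsg.AlgInt) (hM : Cfsg.IsPModular p M) (B : Set (Cfsg.IrrCharacter G)) (hB : Cfsg.IsPBlock M B) (D : Subgroup G) (hD : Cfsg.IsDefectGroup p M B D) : (Cfsg.pCore p (Subgroup.normalizer (D : Set G))).map (Subgroup.normalizer (D : Set G)).subtype = D := by
  haveI := Fintype.ofFinite G
  haveI := Fintype.ofFinite (Subgroup.normalizer (D : Set G))
  haveI := isPrime_of_isPModular hM
  have hDN : D ≤ Subgroup.normalizer (D : Set G) := Subgroup.le_normalizer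
  have hDp := IsDefectGroup.isPGroup hD
  obtain ⟨b, hb⟩ := exists_isInducedBlock hM hDp hDN (Subgroup.centralizer_le_normalizer _) le_rfl
    hB hD (x := 1) (by rintro _ ⟨a, ha, rfl⟩; simpa using ha)
  have hbd := isDefectGroup_of_isInducedBlock hM hDN le_rfl hb hD
  haveI : (pCore p (Subgroup.normalizer (D : Set G))).Normal :=
    inferInstance
  have h1 := le_of_isDefectGroup hM (pCore_isPGroup p (Subgroup.normalizer (D : Set G))) hb.1 hbd
  have h2 : D.subgroupOf (Subgroup.normalizer (D : Set G)) ≤
      pCore p (Subgroup.normalizer (D : Set G)) :=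
    le_pCore (subgroupOf_normal_of_le_normalizer le_rfl) (IsDefectGroup.isPGroup hbd)
  rw [le_antisymm h1 h2, Subgroup.map_subgroupOf_eq_of_le hDN]

end Cfsg.Agent.S0955
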