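import Cfsg.Statements.S0956
import Cfsg.Agent.Lib.Blocks.Green
import Cfsg.Agent.Lib.Transfer.Frobenius
import Cfsg.Agent.S0920

set_option autoImplicit false
open Cfsg
open Cfsg.Agent.Lib.Blocks Cfsg.Agent.Lib.Characters
open scoped ComplexConjugate

namespace Cfsg.Agent.S0956

/-- Let D be a defect group of a block of the finite group G (relative to a maximal ideal M of the algebraic integers containing the prime p) and P a Sylow p-subgroup containing D. Then there is an element x of order prime to p such that D is a Sylow p-subgroup of the centralizer of x and D = P ∩ x P x⁻¹. -/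
theorem result {G : Type*} [Group G] [Finite G] (p : ℕ) [Fact p.Prime] (M : Ideal Cfsg.AlgInt) (hM : Cfsg.IsPModular p M) (B : Set (Cfsg.IrrCharacter G)) (hB : Cfsg.IsPBlock M B) (D : Subgroup G) (hD : Cfsg.IsDefectGroup p M B D) (P : Sylow p G) (hDP : D ≤ P) : ∃ x : G, ¬ p ∣ orderOf x ∧ (∃ S : Sylow p (Subgroup.centralizer ({x} : Set G)), (S : Subgroup (Subgroup.centralizer ({x} : Set G))).map (Subgroup.centralizer ({x} : Set G)).subtype = D) ∧ (P : Subgroup G) ⊓ (P : Subgroup G).map (MulAut.conj x).toMonoidHom = D := by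
  classical
  haveI := Fintype.ofFinite G
  haveI := Fintype.ofFinite (Subgroup.normalizer (D : Set G))
  haveI := isPrime_of_isPModular hM
  have hDp := IsDefectGroup.isPGroup hD
  have hDN : D ≤ Subgroup.normalizer (D : Set G) := Subgroup.le_normalizer
  obtain ⟨b, ⟨hb, hbd, -⟩, -⟩ := (Cfsg.Agent.S0920.result p M hM D hDp).2 B hB hD
  haveI hn : (D.subgroupOf (Subgroup.normalizer (D : Set G))).Normal :=
    subgroupOf_normal_of_le_normalizer le_rfl
  have hPN : IsPGroup p (((P : Subgroup G) ⊓ Subgroup.normalizer (D : Set G)).subgroupOf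
      (Subgroup.normalizer (D : Set G))) :=
    (P.2.to_le (inf_le_left : (P : Subgroup G) ⊓ Subgroup.normalizer (D : Set G) ≤ P)).of_equiv
      (Subgroup.subgroupOfEquivOfLe inf_le_right).symm
  obtain ⟨P', hP'⟩ := hPN.exists_le_sylow
  obtain ⟨x, hxC, hxreg, hxmax, hxeq⟩ := exists_inter_sylow_eq hM hb hbd P'
  rw [mem_centralizer_subgroupOf hDN] at hxC
  refine ⟨(x : G), by rwa [Subgroup.orderOf_coe], ?_, ?_⟩
  · have hle : D ≤ Subgroup.centralizer ({(x : G)} : Set G) := le_centralizer_singleton_iff.2 hxC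
    obtain ⟨S, hS⟩ := (hDp.of_equiv (Subgroup.subgroupOfEquivOfLe hle).symm :
      IsPGroup p (D.subgroupOf (Subgroup.centralizer ({(x : G)} : Set G)))).exists_le_sylow
    refine ⟨S, le_antisymm ?_ ?_⟩
    · by_contra hnle
      have hDS : D < sylowSub S := by
        refine lt_of_le_not_ge (fun y hy => ⟨⟨y, hle hy⟩, hS (by exact hy), rfl⟩) hnle
      have hlt := Cfsg.Agent.Lib.Transfer.lt_inf_normalizer (isPGroup_sylowSub S) hDS
      refine hlt.not_ge fun y hy => ?_
      have hyN : y ∈ Subgroup.normalizer (D : Set G) := hy.2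
      have hle' := hxmax ((sylowSub S ⊓ Subgroup.normalizer (D : Set G)).subgroupOf
        (Subgroup.normalizer (D : Set G)))
        (((isPGroup_sylowSub S).to_le (inf_le_left : sylowSub S ⊓ Subgroup.normalizer (D : Set G) ≤ _)).of_equiv
          (Subgroup.subgroupOfEquivOfLe inf_le_right).symm)
        (fun z hz w hw => by
          rw [Set.mem_singleton_iff] at hw
          rw [hw]
          exact Subtype.ext (sylowSub_le S (Subgroup.mem_subgroupOf.1 hz).1 (x : G) rfl))
      exact Subgroup.mem_subgroupOf.1 (hle' (show (⟨y, hyN⟩ : Subgroup.normalizer (D : Set G)) ∈ _ from hy))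
    · intro y hy
      exact ⟨⟨y, hle hy⟩, hS (by exact hy), rfl⟩
  · have hle : D ≤ (P : Subgroup G) ⊓ (P : Subgroup G).map (MulAut.conj (x : G)).toMonoidHom :=
      le_inf hDP fun y hy => ⟨y, hDP hy, by
        show (x : G) * y * (x : G)⁻¹ = y
        rw [← hxC y hy, mul_inv_cancel_right]⟩
    refine le_antisymm ?_ hle
    by_contra hnle
    have hlt := Cfsg.Agent.Lib.Transfer.lt_inf_normalizer
      (P.2.to_le (inf_le_left : (P : Subgroup G) ⊓ (P : Subgroup G).map (MulAut.conj (x : G)).toMonoidHom ≤ P))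
      (lt_of_le_not_ge hle hnle)
    refine hlt.not_ge fun y hy => ?_
    obtain ⟨⟨hyP, z, hzP, hzy⟩, hyN⟩ := hy
    have hzN : z ∈ Subgroup.normalizer (D : Set G) := by
      rw [show z = (x : G)⁻¹ * y * (x : G) by rw [← hzy]; show z = (x : G)⁻¹ * ((x : G) * z * (x : G)⁻¹) * (x : G); group]
      exact mul_mem (mul_mem (inv_mem x.2) hyN) x.2
    have hmem : (⟨y, hyN⟩ : Subgroup.normalizer (D : Set G)) ∈
        (P' : Subgroup (Subgroup.normalizer (D : Set G))) ⊓
          (P' : Subgroup (Subgroup.normalizer (D : Set G))).map (MulAut.conj x).toMonoidHom :=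
      ⟨hP' ⟨hyP, hyN⟩, ⟨⟨z, hzN⟩, hP' ⟨hzP, hzN⟩, Subtype.ext hzy⟩⟩
    rw [hxeq] at hmem
    exact hmem

end Cfsg.Agent.S0956
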