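import Cfsg.Statements.S0957
import Mathlib

set_option autoImplicit false
open Cfsg
open Cfsg
open scoped ComplexConjugate

namespace Cfsg.Agent.S0957

/-- Let P be a Sylow p-subgroup of the finite group G, let g, h ∈ G and let p ^ d be the order of a Sylow p-subgroup of the centralizer of g. Then the number of pairs (y, z) with y conjugate to g, z conjugate to h and z * y⁻¹ ∈ P is divisible by the order of P divided by p ^ d. -/
theorem result {G : Type*} [Group G] [Finite G] (p : ℕ) [Fact p.Prime] (P : Sylow p G) (g h : G) (S : Sylow p (Subgroup.centralizer ({g} : Set G))) : Nat.card P / Nat.card S ∣ Nat.card {yz : G × G // IsConj g yz.1 ∧ IsConj h yz.2 ∧ yz.2 * yz.1⁻¹ ∈ (P : Subgroup G)} := by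
  classical
  let X := {yz : G × G // IsConj g yz.1 ∧ IsConj h yz.2 ∧ yz.2 * yz.1⁻¹ ∈ (P : Subgroup G)}
  letI : MulAction (P : Subgroup G) X :=
    { smul := fun k xy => ⟨((k : G) * xy.1.1 * (k : G)⁻¹, (k : G) * xy.1.2 * (k : G)⁻¹),
        xy.2.1.trans (isConj_iff.2 ⟨k, rfl⟩), xy.2.2.1.trans (isConj_iff.2 ⟨k, rfl⟩), by
          rw [conj_inv, conj_mul]
          exact mul_mem (mul_mem k.2 xy.2.2.2) (inv_mem k.2)⟩
      one_smul := fun xy => Subtype.ext (by
        show ((1 : G) * xy.1.1 * (1 : G)⁻¹, (1 : G) * xy.1.2 * (1 : G)⁻¹) = xy.1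
        simp)
      mul_smul := fun a b xy => Subtype.ext (by
        show ((a : G) * b * xy.1.1 * ((a : G) * b)⁻¹, (a : G) * b * xy.1.2 * ((a : G) * b)⁻¹) =
          ((a : G) * ((b : G) * xy.1.1 * (b : G)⁻¹) * (a : G)⁻¹,
            (a : G) * ((b : G) * xy.1.2 * (b : G)⁻¹) * (a : G)⁻¹)
        refine Prod.ext ?_ ?_ <;> group) }
  have hsize : ∀ x : X, Nat.card P / Nat.card S ∣ Nat.card (MulAction.orbit (P : Subgroup G) x) := by
    intro x
    obtain ⟨c, hc⟩ := isConj_iff.1 x.2.1
    let St := (MulAction.stabilizer (P : Subgroup G) x).map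
      ((MulAut.conj c⁻¹).toMonoidHom.comp (P : Subgroup G).subtype)
    have hSt : St ≤ Subgroup.centralizer ({g} : Set G) := by
      rintro w ⟨k, hk, rfl⟩
      intro u hu
      rw [Set.mem_singleton_iff] at hu
      rw [hu]
      have h1 : (k : G) * x.1.1 = x.1.1 * k :=
        mul_inv_eq_iff_eq_mul.1 (congrArg (fun z : X => z.1.1) hk)
      show g * (c⁻¹ * (k : G) * c⁻¹⁻¹) = c⁻¹ * (k : G) * c⁻¹⁻¹ * g
      rw [← hc] at h1
      calc g * (c⁻¹ * (k : G) * c⁻¹⁻¹) = c⁻¹ * (c * g * c⁻¹ * k) * c := by group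
        _ = c⁻¹ * ((k : G) * (c * g * c⁻¹)) * c := by rw [h1]
        _ = c⁻¹ * (k : G) * c⁻¹⁻¹ * g := by group
    have hinj : Function.Injective ((MulAut.conj c⁻¹).toMonoidHom.comp (P : Subgroup G).subtype) :=
      (MulAut.conj c⁻¹).injective.comp Subtype.val_injective
    have hd : Nat.card (MulAction.stabilizer (P : Subgroup G) x) ∣ Nat.card S := by
      rw [← Subgroup.card_map_of_injective hinj]
      obtain ⟨j, hj⟩ := (P.2.to_subgroup (MulAction.stabilizer (P : Subgroup G) x)).exists_card_eq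
      have hStc : Nat.card St = p ^ j := by rw [Subgroup.card_map_of_injective hinj, hj]
      change Nat.card St ∣ _
      rw [hStc, Sylow.card_eq_multiplicity]
      refine Nat.pow_dvd_pow p ((Fact.out : p.Prime).pow_dvd_iff_le_factorization Nat.card_pos.ne' |>.1 ?_)
      rw [← hStc]
      exact Subgroup.card_dvd_of_le hSt
    have hSP : Nat.card S ∣ Nat.card P := by
      rw [Sylow.card_eq_multiplicity, Sylow.card_eq_multiplicity]
      exact Nat.pow_dvd_pow p ((Nat.factorization_le_iff_dvd Nat.card_pos.ne' Nat.card_pos.ne').2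
        (Subgroup.card_subgroup_dvd_card _) p)
    have hprod := Subgroup.card_mul_index (MulAction.stabilizer (P : Subgroup G) x)
    rw [MulAction.index_stabilizer, ← Nat.card_coe_set_eq] at hprod
    obtain ⟨r, hr⟩ := hd
    obtain ⟨q, hq⟩ := hSP
    have hq' : Nat.card P / Nat.card S = q := by
      rw [hq, Nat.mul_div_cancel_left _ Nat.card_pos]
    rw [hq']
    refine ⟨r, Nat.eq_of_mul_eq_mul_left (Nat.card_pos (α := MulAction.stabilizer (P : Subgroup G) x)) ?_⟩
    rw [hprod]
    show Nat.card (P : Subgroup G) = _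
    rw [show Nat.card (P : Subgroup G) = Nat.card P from rfl, hq, hr]
    ring
  haveI : Fintype (MulAction.orbitRel.Quotient (P : Subgroup G) X) := Fintype.ofFinite _
  show _ ∣ Nat.card X
  rw [Nat.card_congr (MulAction.selfEquivSigmaOrbits (P : Subgroup G) X), Nat.card_sigma]
  exact Finset.dvd_sum fun x _ => hsize _

end Cfsg.Agent.S0957
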