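import Cfsg.Statements.S0959
import Cfsg.Agent.Lib.Blocks.HeightZero

set_option autoImplicit false
open Cfsg
open Cfsg.Agent.Lib.Blocks Cfsg.Agent.Lib.Characters
open scoped ComplexConjugate

namespace Cfsg.Agent.S0959

/-- Let B be a block of the finite group G with defect group D (relative to a maximal ideal M of the algebraic integers containing the prime p), and let P be a p-subgroup. Then there is an element g whose idempotent coefficient for B is a local integer outside the local ideal at M and which has a conjugate centralizing P, if and only if some conjugate of P is contained in D. -/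
theorem result {G : Type*} [Group G] [Finite G] (p : ℕ) [Fact p.Prime] (M : Ideal Cfsg.AlgInt) (hM : Cfsg.IsPModular p M) (B : Set (Cfsg.IrrCharacter G)) (hB : Cfsg.IsPBlock M B) (D : Subgroup G) (hD : Cfsg.IsDefectGroup p M B D) (P : Subgroup G) (hP : IsPGroup p P) : (∃ g : G, Cfsg.MemLocalRing M (Cfsg.blockCoeff B g) ∧ ¬ Cfsg.MemLocalIdeal M (Cfsg.blockCoeff B g) ∧ ∃ c : G, IsConj g c ∧ c ∈ Subgroup.centralizer (P : Set G)) ↔ ∃ x : G, P.map (MulAut.conj x).toMonoidHom ≤ D := by
  haveI := Fintype.ofFinite G
  haveI := isPrime_of_isPModular hM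
  obtain ⟨y, hy, D', rfl⟩ := hD
  constructor
  · rintro ⟨g, -, hg, c, hgc, hc⟩
    refine isConjLE_of_coeff hM hB hy D' hP hc ?_
    rwa [← classFunction_conj (isClassFunction_blockCoeff B) hgc]
  · rintro ⟨a, ha⟩
    refine ⟨y, hy.1, hy.2.1, a⁻¹ * y * a, isConj_iff.2 ⟨a⁻¹, by simp⟩, ?_⟩
    rw [Subgroup.mem_centralizer_iff]
    intro b hb
    have h1 := Subgroup.mem_centralizer_iff.1 (mem_centralizer_sylowSub D') _ (ha ⟨b, hb, rfl⟩)
    simp only [MulEquiv.coe_toMonoidHom, MulAut.conj_apply] at h1
    have h2 := congrArg (fun t => a⁻¹ * t * a) h1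
    simpa [mul_assoc] using h2

end Cfsg.Agent.S0959
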