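import Cfsg.Statements.S0963
import Cfsg.Agent.Lib.Blocks.Covering
import Cfsg.Agent.Lib.Cores.PCore

set_option autoImplicit false
open Cfsg
open Cfsg.Agent.Lib.Blocks Cfsg.Agent.Lib.Characters Cfsg.Agent.Lib.Cores
open scoped ComplexConjugate

namespace Cfsg.Agent.S0963

/-- Let N be a normal subgroup of the finite group G, χ an irreducible character of G and θ an irreducible character of N. Then θ occurs in the restriction of χ to N if and only if, for every n ∈ N, the central character of χ at n (class size in G times χ n over χ 1) equals the sum of θ m / θ 1 over the elements m of N conjugate in G to n. -/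
theorem result {G : Type*} [Group G] [Fintype G] (N : Subgroup G) [N.Normal] [Fintype N] (χ : Cfsg.IrrCharacter G) (θ : Cfsg.IrrCharacter N) : Cfsg.classInner (fun n : N => (χ : G → ℂ) n) (θ : N → ℂ) ≠ 0 ↔ ∀ n : N, Cfsg.centralChar (χ : G → ℂ) (n : G) = Cfsg.inducedCentralChar N (θ : N → ℂ) (n : G) := by
  classical
  constructor
  · intro h n
    rw [inducedCentralChar_eq_omega, ← omega_eq_of_constituent N h (isClassFunction_classIndicator _),
      omega_classIndicator (irr_isClassFunction χ)]
    intro x hx
    refine if_neg fun hc => hx ?_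
    obtain ⟨c, rfl⟩ := isConj_iff.1 hc
    exact Subgroup.Normal.conj_mem inferInstance _ n.2 c
  · intro h
    haveI : Finite (ConjClasses G) := Finite.of_surjective _ ConjClasses.mk_surjective
    haveI := Fintype.ofFinite (ConjClasses G)
    have hF := isClassFunction_orbitIdem N ({θ} : Set (Cfsg.IrrCharacter N))
    have he : omega (χ : G → ℂ) (orbitIdem N {θ}) =
        omega (θ : N → ℂ) (resFun N (orbitIdem N {θ})) := by
      rw [omega_eq_sum_classes (irr_isClassFunction χ) hF]
      conv_rhs => rw [classFunction_eq_sum_classes hF]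
      rw [resFun_sum, omega_sum]
      refine Finset.sum_congr rfl fun C _ => ?_
      rw [resFun_smul, omega_smul, ← inducedCentralChar_eq_omega]
      by_cases hC : (Quotient.out C : G) ∈ N
      · rw [h ⟨_, hC⟩]
      · rw [orbitIdem_of_notMem N _ hC, zero_mul, zero_mul]
    obtain ⟨ψ, hψ⟩ := exists_constituent_restrict N χ
    rw [omega_orbitIdem N _ hψ, resFun_orbitIdem, omega_blockCoeff,
      if_pos (subset_conjClosure N _ (Set.mem_singleton θ))] at he
    have hmem : ψ ∈ conjClosure N {θ} := by
      by_contra hn
      simp [hn] at he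
    obtain ⟨g, θ', hθ', rfl⟩ := hmem
    rw [Set.mem_singleton_iff] at hθ'
    rwa [classInner_restrict_conjIrrN, hθ'] at hψ

end Cfsg.Agent.S0963
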