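import Cfsg.Statements.S0965
import Cfsg.Agent.Lib.Blocks.Covering
import Cfsg.Agent.Lib.Cores.PCore

set_option autoImplicit false
open Cfsg
open Cfsg.Agent.Lib.Blocks Cfsg.Agent.Lib.Characters Cfsg.Agent.Lib.Cores
open scoped ComplexConjugate

namespace Cfsg.Agent.S0965

/-- Let N be a normal subgroup of the finite group G and let B, b be blocks of G and of N relative to a maximal ideal M of the algebraic integers containing the prime p. Then some χ ∈ B has a constituent in b on restriction to N if and only if, for all χ ∈ B, θ ∈ b and n ∈ N, the central character of χ at n is congruent modulo the local ideal at M to the sum of θ m / θ 1 over the elements m ∈ N conjugate in G to n. -/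
theorem result {G : Type*} [Group G] [Fintype G] (p : ℕ) [Fact p.Prime] (M : Ideal Cfsg.AlgInt) (hM : Cfsg.IsPModular p M) (N : Subgroup G) [N.Normal] [Fintype N] (B : Set (Cfsg.IrrCharacter G)) (hB : Cfsg.IsPBlock M B) (b : Set (Cfsg.IrrCharacter N)) (hb : Cfsg.IsPBlock M b) : (∃ χ ∈ B, ∃ θ ∈ b, Cfsg.classInner (fun n : N => (χ : G → ℂ) n) (θ : N → ℂ) ≠ 0) ↔ ∀ χ ∈ B, ∀ θ ∈ b, ∀ n : N, Cfsg.MemLocalIdeal M (Cfsg.centralChar (χ : G → ℂ) (n : G) - Cfsg.inducedCentralChar N (θ : N → ℂ) (n : G)) := by
  classical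
  haveI := isPrime_of_isPModular hM
  constructor
  · rintro ⟨χ₀, hχ₀, θ₀, hθ₀, h⟩ χ hχ θ hθ n
    have h1 := IsPBlock.sameBlock hB hχ hχ₀ (n : G)
    have h2 := omega_congr_of_sameBlock (IsPBlock.sameBlock hb hθ₀ hθ)
      (isRCentral_resFun N (isRCentral_classIndicator (M := M) (n : G)))
    have h3 : centralChar (χ₀ : G → ℂ) n = omega (θ₀ : N → ℂ) (resFun N (classIndicator (n : G))) := by
      rw [← omega_eq_of_constituent N h (isClassFunction_classIndicator _),
        omega_classIndicator (irr_isClassFunction χ₀)]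
      intro x hx
      refine if_neg fun hc => hx ?_
      obtain ⟨c, rfl⟩ := isConj_iff.1 hc
      exact Subgroup.Normal.conj_mem inferInstance _ n.2 c
    rw [inducedCentralChar_eq_omega]
    rw [h3] at h1
    simpa using memLocalIdeal_add h1 h2
  · intro h
    obtain ⟨χ, hχ⟩ := IsPBlock.nonempty hB
    obtain ⟨θ, hθ⟩ := IsPBlock.nonempty hb
    refine ⟨χ, hχ, ?_⟩
    haveI : Finite (ConjClasses G) := Finite.of_surjective _ ConjClasses.mk_surjective
    haveI := Fintype.ofFinite (ConjClasses G)
    have hR : IsRCentral M (orbitIdem N b) :=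
      isRCentral_orbitIdem N hM fun φ hφ => (IsPBlock.eq_blockOf hb hφ).ge
    have he : MemLocalIdeal M (omega (χ : G → ℂ) (orbitIdem N b) -
        omega (θ : N → ℂ) (resFun N (orbitIdem N b))) := by
      rw [omega_eq_sum_classes (irr_isClassFunction χ) hR.1]
      conv in resFun N (orbitIdem N b) => rw [classFunction_eq_sum_classes hR.1]
      rw [resFun_sum, omega_sum, ← Finset.sum_sub_distrib]
      refine memLocalIdeal_sum _ fun C _ => ?_
      rw [resFun_smul, omega_smul, ← inducedCentralChar_eq_omega, ← mul_sub]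
      by_cases hC : (Quotient.out C : G) ∈ N
      · exact memLocalIdeal_mul_left (hR.2 _) (h χ hχ θ hθ ⟨_, hC⟩)
      · rw [orbitIdem_of_notMem N _ hC, zero_mul]
        exact memLocalIdeal_zero
    obtain ⟨ψ, hψ⟩ := exists_constituent_restrict N χ
    rw [omega_orbitIdem N _ hψ, resFun_orbitIdem, omega_blockCoeff,
      if_pos (subset_conjClosure N _ hθ)] at he
    have hmem : ψ ∈ conjClosure N b := by
      by_contra hn
      rw [if_neg hn, zero_sub] at he
      exact not_memLocalIdeal_one (by simpa using memLocalIdeal_neg he)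
    obtain ⟨g, θ', hθ', rfl⟩ := hmem
    exact ⟨θ', hθ', by rwa [classInner_restrict_conjIrrN] at hψ⟩

end Cfsg.Agent.S0965
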