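import Cfsg.Statements.S0967
import Cfsg.Agent.Lib.Blocks.Covering
import Cfsg.Agent.Lib.Cores.PCore

set_option autoImplicit false
open Cfsg
open Cfsg.Agent.Lib.Blocks Cfsg.Agent.Lib.Characters Cfsg.Agent.Lib.Cores
open scoped ComplexConjugate

namespace Cfsg.Agent.S0967

/-- Let N be a normal subgroup of the finite group G of order prime to p and fix a maximal ideal M of the algebraic integers containing p. If χ is an irreducible character of G ⧸ N and ψ lies in the block of its inflation χ ∘ (quotient map), then ψ is itself inflated from an irreducible character ψ' of G ⧸ N lying in the block of χ. (Over a normal p'-subgroup, blocks of the quotient are whole blocks of G.) -/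
theorem result {G : Type*} [Group G] [Finite G] (p : ℕ) [Fact p.Prime] (M : Ideal Cfsg.AlgInt) (hM : Cfsg.IsPModular p M) (N : Subgroup G) [N.Normal] (hN : ¬ p ∣ Nat.card N) (χ : Cfsg.IrrCharacter (G ⧸ N)) (ψ : Cfsg.IrrCharacter G) (hψ : ψ ∈ Cfsg.blockOf M ((χ : G ⧸ N → ℂ) ∘ QuotientGroup.mk)) : ∃ ψ' : Cfsg.IrrCharacter (G ⧸ N), (ψ : G → ℂ) = (ψ' : G ⧸ N → ℂ) ∘ QuotientGroup.mk ∧ Cfsg.SameBlock M (χ : G ⧸ N → ℂ) (ψ' : G ⧸ N → ℂ) := by
  classical
  haveI := Fintype.ofFinite G
  haveI := Fintype.ofFinite N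
  haveI := Fintype.ofFinite (G ⧸ N)
  haveI := isPrime_of_isPModular hM
  have hirr : IsIrrCharacter G ((χ : G ⧸ N → ℂ) ∘ QuotientGroup.mk' N) :=
    IsIrrCharacter.comp_surjective χ.2 (QuotientGroup.mk' N) (QuotientGroup.mk'_surjective N)
  let χ₀ : Cfsg.IrrCharacter G := ⟨_, hirr⟩
  have hψ' : SameBlock M (χ₀ : G → ℂ) (ψ : G → ℂ) := hψ
  have hker := trivial_on_of_sameBlock N hM hN hψ' fun n hn => by
    show (χ : G ⧸ N → ℂ) (QuotientGroup.mk' N n) = (χ : G ⧸ N → ℂ) (QuotientGroup.mk' N 1)
    rw [map_one, show QuotientGroup.mk' N n = 1 from (QuotientGroup.eq_one_iff n).2 hn]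
  obtain ⟨f, hf, he⟩ := IsIrrCharacter.exists_quotient ψ.2 N hker
  refine ⟨⟨f, hf⟩, he, fun c => ?_⟩
  let F : G → ℂ := fun x => (Nat.card N : ℂ)⁻¹ * classIndicator c (QuotientGroup.mk' N x)
  have hF : IsRCentral M F := by
    refine ⟨fun x y => ?_, fun x => memLocalRing_mul (memLocalRing_inv_natCast hM hN)
      ((isRCentral_classIndicator (M := M) c).2 _)⟩
    show _ * _ = _ * _
    rw [map_mul, map_mul, map_inv, isClassFunction_classIndicator c]
  have key : ∀ η : G ⧸ N → ℂ, omega (η ∘ QuotientGroup.mk' N) F = omega η (classIndicator c) := by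
    intro η
    rw [omega, omega]
    congr 1
    · rw [← Finset.sum_fiberwise_of_maps_to (s := Finset.univ) (t := Finset.univ)
        (g := QuotientGroup.mk' N) (fun x _ => Finset.mem_univ _)]
      refine Finset.sum_congr rfl fun d _ => ?_
      rw [Finset.sum_congr rfl fun x hx => (by
        simp only [F, Function.comp, (Finset.mem_filter.1 hx).2] :
          F x * (η ∘ QuotientGroup.mk' N) x = (Nat.card N : ℂ)⁻¹ * classIndicator c d * η d),
        Finset.sum_const]
      have hcard : (Finset.univ.filter fun x => QuotientGroup.mk' N x = d).card = Nat.card N := by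
        obtain ⟨d0, rfl⟩ := QuotientGroup.mk'_surjective N d
        rw [← Fintype.card_subtype, Nat.card_eq_fintype_card]
        refine Fintype.card_congr ((Equiv.mulLeft d0⁻¹).subtypeEquiv fun x => ?_)
        simp only [Equiv.coe_mulLeft, SetLike.mem_coe, QuotientGroup.mk'_apply]
        rw [eq_comm, QuotientGroup.eq]
      rw [hcard, nsmul_eq_mul, mul_assoc, ← mul_assoc, mul_inv_cancel₀ natCard_ne_zero_complex,
        one_mul]
  have h := omega_congr_of_sameBlock hψ' hF
  rw [he] at h
  rw [show (χ₀ : G → ℂ) = (χ : G ⧸ N → ℂ) ∘ QuotientGroup.mk' N from rfl, key, key,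
    omega_classIndicator (irr_isClassFunction χ),
    omega_classIndicator (irr_isClassFunction ⟨f, hf⟩)] at h
  exact h

end Cfsg.Agent.S0967
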