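import Cfsg.Statements.S0968
import Cfsg.Agent.Lib.Blocks.CentralDefect

set_option autoImplicit false
open Cfsg
open Cfsg.Agent.Lib.Blocks Cfsg.Agent.Lib.Characters
open scoped ComplexConjugate

namespace Cfsg.Agent.S0968

/-- Let P be a p-subgroup of the finite group G with P ⊔ C_G(P) = G, and let B be a block with defect group P relative to a maximal ideal M of the algebraic integers containing p. Then there is exactly one θ ∈ B with θ x = θ 1 for all x ∈ P; for this θ the exponent of p in θ(1) equals the exponent of p in the index of P; and the number of members of B equals the number of conjugacy classes of P. -/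
theorem result {G : Type*} [Group G] [Finite G] (p : ℕ) [Fact p.Prime] (M : Ideal Cfsg.AlgInt) (hM : Cfsg.IsPModular p M) (P : Subgroup G) (hP : IsPGroup p P) (hG : P ⊔ Subgroup.centralizer (P : Set G) = ⊤) (B : Set (Cfsg.IrrCharacter G)) (hB : Cfsg.IsPBlock M B) (hD : Cfsg.IsDefectGroup p M B P) : (∃! θ : Cfsg.IrrCharacter G, θ ∈ B ∧ ∀ x ∈ P, (θ : G → ℂ) x = (θ : G → ℂ) 1) ∧ (∀ θ ∈ B, (∀ x ∈ P, (θ : G → ℂ) x = (θ : G → ℂ) 1) → (Cfsg.charDegree (θ : G → ℂ)).factorization p = P.index.factorization p) ∧ Nat.card B = Nat.card (ConjClasses P) := by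
  classical
  haveI := Fintype.ofFinite G
  haveI := Fintype.ofFinite (Cfsg.IrrCharacter G)
  haveI := isPrime_of_isPModular hM
  haveI hn : P.Normal := by
    rw [← Subgroup.normalizer_eq_top_iff, eq_top_iff, ← hG]
    exact sup_le Subgroup.le_normalizer (Subgroup.centralizer_le_normalizer _)
  haveI := Fintype.ofFinite (G ⧸ P)
  haveI := Fintype.ofFinite P
  haveI := Fintype.ofFinite (Cfsg.IrrCharacter P)
  have hC : ∀ y : G, ¬ p ∣ orderOf y → y ∈ Subgroup.centralizer (P : Set G) :=
    fun y hy => mem_centralizer_of_regular hM.1 hP hG hy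
  have hvan : ∀ χ ∈ B, ∀ x u, IsPPart p x u → u ∉ P → (χ : G → ℂ) x = 0 := by
    intro χ hχ x u hu huP
    refine char_eq_zero_of_forall_notMem hM hB hu (fun D' hD' h => huP ?_) hχ
    have hle := le_of_isDefectGroup hM hP hB hD'
    rwa [Subgroup.eq_of_le_of_card_ge hle (by
      rw [IsDefectGroup.card_eq hM hB hD', IsDefectGroup.card_eq hM hB hD])]
  let T := fun θ : Cfsg.IrrCharacter G => ∀ x ∈ P, (θ : G → ℂ) x = (θ : G → ℂ) 1
  have hTval : ∀ θ, T θ → ∀ (u : P) (y : G), (θ : G → ℂ) ((u : G) * y) = (θ : G → ℂ) y := by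
    intro θ hθ u y
    rw [classFunction_mul_comm (irr_isClassFunction θ),
      IsCharacter.apply_mul_of_mem_kernel (irr_isCharacter θ) (hθ _ u.2)]
  -- orthogonality on the regular elements
  have horth : ∀ θ θ' : Cfsg.IrrCharacter G, θ ∈ B → θ' ∈ B → T θ → T θ' →
      (Nat.card P : ℂ) * ∑ y : {y : G // ¬ p ∣ orderOf y},
        (θ' : G → ℂ) y * conj ((θ : G → ℂ) y) =
      if θ' = θ then (Nat.card G : ℂ) else 0 := by
    intro θ θ' hθB hθ'B hθ hθ'
    have h := classInner_irr θ' θ
    rw [classInner, inv_mul_eq_iff_eq_mul₀ natCard_ne_zero_complex,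
      sum_eq_sum_sections hM.1 hP hC _ (fun x u hu huP => by
        rw [hvan θ' hθ'B x u hu huP, zero_mul]),
      Finset.sum_congr rfl fun u _ => Finset.sum_congr rfl fun y _ => by
        rw [hTval θ hθ u, hTval θ' hθ' u],
      Finset.sum_const, Finset.card_univ, nsmul_eq_mul, ← Nat.card_eq_fintype_card] at h
    rw [h]
    split_ifs <;> simp
  have hdegree : ∀ θ ∈ B, T θ →
      (Cfsg.charDegree (θ : G → ℂ)).factorization p = P.index.factorization p := by
    intro θ hθB hθ
    obtain ⟨f, hf, he⟩ := IsIrrCharacter.exists_quotient θ.2 P hθ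
    have hv : ∀ c : G ⧸ P, p ∣ orderOf c → f c = 0 := by
      intro c hc
      obtain ⟨x, rfl⟩ := QuotientGroup.mk'_surjective P c
      rw [← Function.comp_apply (f := f), ← he]
      obtain ⟨u, hu⟩ := exists_isPPart hM.1 x
      refine hvan θ hθB x u hu fun huP => ?_
      obtain ⟨y, hxy, -, -, hy⟩ := hu
      rw [← hxy, map_mul, show QuotientGroup.mk' P u = 1 from (QuotientGroup.eq_one_iff u).2 huP,
        one_mul] at hc
      exact hy (hc.trans (orderOf_map_dvd _ y))
    have h1 := not_dvd_card_div_of_vanish (⟨f, hf⟩ : Cfsg.IrrCharacter (G ⧸ P)) hv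
    obtain ⟨j, hj⟩ := charDegree_dvd_card (⟨f, hf⟩ : Cfsg.IrrCharacter (G ⧸ P))
    have hd : Cfsg.charDegree (θ : G → ℂ) = Cfsg.charDegree f := by
      have e : (θ : G → ℂ) 1 = f 1 := by rw [he, Function.comp_apply, map_one]
      rw [Cfsg.charDegree, Cfsg.charDegree, e]
    show _ = P.index.factorization p
    rw [hd, Subgroup.index, hj]
    rw [hj, Nat.mul_div_cancel_left _ (charDegree_pos (⟨f, hf⟩ : Cfsg.IrrCharacter (G ⧸ P)))] at h1
    rw [Nat.factorization_mul (charDegree_pos (⟨f, hf⟩ : Cfsg.IrrCharacter (G ⧸ P))).ne'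
      (fun h => h1 (by rw [h]; exact dvd_zero p)), Finsupp.add_apply, Nat.factorization_eq_zero_of_not_dvd h1,
      add_zero]
  obtain ⟨θq, θ, hθB, hθe⟩ := exists_inflated_mem P hM hP hB
  have hθT : T θ := fun x hx => by
    rw [hθe, Function.comp_apply, Function.comp_apply, map_one,
      show QuotientGroup.mk' P x = 1 from (QuotientGroup.eq_one_iff x).2 hx]
  have huniq : ∀ θ' ∈ B, T θ' → θ' = θ := by
    intro θ' hθ'B hθ'
    by_contra hne
    obtain ⟨j, hj, hjp⟩ := exists_eq_pow_mul hM.1 P.index_ne_zero_of_finite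
    obtain ⟨w, hw, hwp⟩ := exists_eq_pow_mul hM.1 (charDegree_pos θ).ne'
    rw [hdegree θ hθB hθT] at hw
    set m := P.index.factorization p with hm
    clear_value m
    have hj0 : (j : ℂ) ≠ 0 := Nat.cast_ne_zero.2 fun h => hjp (h ▸ dvd_zero p)
    have hp0 : (p : ℂ) ≠ 0 := Nat.cast_ne_zero.2 hM.1.ne_zero
    have hc : (θ : G → ℂ) 1 / (P.index : ℂ) = (w : ℂ) * (j : ℂ)⁻¹ := by
      rw [← charDegree_eq θ, hw, hj]
      push_cast
      field_simp
    let F : G → ℂ := fun x =>
      if p ∣ orderOf x then 0 else (θ : G → ℂ) 1 / (P.index : ℂ) * (θ : G → ℂ) x⁻¹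
    have hF : IsRCentral M F := by
      refine ⟨fun x g => ?_, fun x => ?_⟩
      · have ho : orderOf (g * x * g⁻¹) = orderOf x :=
          orderOf_injective (MulAut.conj g).toMonoidHom (MulAut.conj g).injective x
        simp only [F, ho]
        rw [show (g * x * g⁻¹)⁻¹ = g * x⁻¹ * g⁻¹ by group, irr_isClassFunction θ]
      · simp only [F]
        split_ifs
        · exact memLocalRing_zero
        · rw [hc]
          exact memLocalRing_mul (memLocalRing_mul (memLocalRing_natCast w)
            (memLocalRing_inv_natCast hM hjp))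
            (memLocalRing_of_isIntegral' (isIntegral_char θ _))
    have hω : ∀ η : Cfsg.IrrCharacter G, omega (η : G → ℂ) F =
        (θ : G → ℂ) 1 / (P.index : ℂ) * (∑ y : {y : G // ¬ p ∣ orderOf y},
          (η : G → ℂ) y * conj ((θ : G → ℂ) y)) / (η : G → ℂ) 1 := by
      intro η
      rw [omega]
      congr 1
      rw [Finset.mul_sum, ← Finset.sum_subtype (p := fun y => ¬ p ∣ orderOf y)
        (Finset.univ.filter fun y => ¬ p ∣ orderOf y) (fun y => by simp)
        (fun y => (θ : G → ℂ) 1 / (P.index : ℂ) * ((η : G → ℂ) y * conj ((θ : G → ℂ) y))),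
        Finset.sum_filter]
      refine Finset.sum_congr rfl fun y _ => ?_
      simp only [F]
      split_ifs
      · simp
      · rw [IsCharacter.apply_inv (irr_isCharacter θ)]; ring
    have h := omega_congr_of_sameBlock (IsPBlock.sameBlock hB hθB hθ'B) hF
    have e1 := horth θ θ hθB hθB hθT hθT
    have e2 := horth θ θ' hθB hθ'B hθT hθ'
    rw [if_pos rfl] at e1
    rw [if_neg hne, mul_eq_zero] at e2
    rw [hω, hω, e2.resolve_left natCard_ne_zero_complex, mul_zero, zero_div, sub_zero] at h
    have e3 : ∑ y : {y : G // ¬ p ∣ orderOf y}, (θ : G → ℂ) y * conj ((θ : G → ℂ) y) =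
        (P.index : ℂ) := by
      apply mul_left_cancel₀ (natCard_ne_zero_complex : (Nat.card P : ℂ) ≠ 0)
      rw [e1, ← Subgroup.index_mul_card P, Nat.cast_mul, mul_comm]
    rw [e3, div_mul_cancel₀ _ (Nat.cast_ne_zero.2 P.index_ne_zero_of_finite),
      div_self (IsIrrCharacter.apply_one_ne_zero θ.2)] at h
    exact not_memLocalIdeal_one h
  refine ⟨⟨θ, ⟨hθB, hθT⟩, fun θ' h => huniq θ' h.1 h.2⟩, hdegree, ?_⟩
  -- constituents on `P`
  have hinv : ∀ (ζ : Cfsg.IrrCharacter P) (g : G), conjFun P g (ζ : P → ℂ) = (ζ : P → ℂ) := by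
    intro ζ g
    obtain ⟨a, ha, c, hc, rfl⟩ :=
      Subgroup.mem_sup_of_normal_right.1 (show g ∈ P ⊔ Subgroup.centralizer (P : Set G) from
        hG ▸ Subgroup.mem_top g)
    rw [conjFun_mul, conjFun_of_mem P (irr_isClassFunction ζ) ha]
    funext w
    refine congrArg (ζ : P → ℂ) (Subtype.ext ?_)
    show c * (w : G) * c⁻¹ = w
    rw [← mem_centralizer_subgroup_iff.1 hc _ w.2, mul_inv_cancel_right]
  choose Z hZ using fun χ : Cfsg.IrrCharacter G => exists_constituent_restrict P χ
  have hform : ∀ χ ∈ B, (χ : G → ℂ) 1 = (Z χ : P → ℂ) 1 * (θ : G → ℂ) 1 ∧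
      ∀ (u : P) (y : G), ¬ p ∣ orderOf y →
        (χ : G → ℂ) ((u : G) * y) = (Z χ : P → ℂ) u * (θ : G → ℂ) y := by
    intro χ hχ
    have hmul := fun (y : G) (hy : ¬ p ∣ orderOf y) (u : P) =>
      char_mul_of_commute P (hinv (Z χ)) (hZ χ) (hC y hy) u
    let L : G → ℂ := fun x => if p ∣ orderOf x then 0 else (χ : G → ℂ) x
    have hL : IsRCentral M L := by
      refine ⟨fun x g => ?_, fun x => ?_⟩
      · have ho : orderOf (g * x * g⁻¹) = orderOf x :=
          orderOf_injective (MulAut.conj g).toMonoidHom (MulAut.conj g).injective x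
        simp only [L, ho, irr_isClassFunction χ x g]
      · simp only [L]
        split_ifs
        exacts [memLocalRing_zero, memLocalRing_of_isIntegral' (isIntegral_char χ _)]
    haveI := Fintype.ofFinite (Cfsg.IrrCharacter (G ⧸ P))
    have hdec := eq_sum_classInner (isRCentral_push P hL).1
    have hzero : ∀ η : Cfsg.IrrCharacter (G ⧸ P), η ≠ θq →
        classInner (push P L) (η : G ⧸ P → ℂ) = 0 := by
      intro η hη
      let η₀ : Cfsg.IrrCharacter G := ⟨_, IsIrrCharacter.comp_surjective η.2 (QuotientGroup.mk' P)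
        (QuotientGroup.mk'_surjective P)⟩
      have hη₀T : T η₀ := fun x hx => by
        show (η : G ⧸ P → ℂ) (QuotientGroup.mk' P x) = (η : G ⧸ P → ℂ) (QuotientGroup.mk' P 1)
        rw [map_one, show QuotientGroup.mk' P x = 1 from (QuotientGroup.eq_one_iff x).2 hx]
      have hη₀ : η₀ ∉ B := fun h => by
        have e := (congrArg Subtype.val (huniq η₀ h hη₀T)).trans hθe
        exact hη (Subtype.ext ((QuotientGroup.mk'_surjective P).injective_comp_right e))
      have h2 := sum_regular_mul_conj_eq_zero hM hB hχ hη₀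
      have h3 := omega_comp_mk' P (fun c => conj ((η : G ⧸ P → ℂ) c)) L
      have h1 : ∑ x, L x * conj ((η₀ : G → ℂ) x) = 0 := by
        refine Eq.trans (Finset.sum_congr rfl fun x _ => ?_) h2
        simp only [L]
        split_ifs <;> simp
      simp only [omega, Function.comp_apply, map_one] at h3
      change (∑ x, L x * conj ((η₀ : G → ℂ) x)) / _ = _ at h3
      rw [h1, zero_div, eq_comm, div_eq_zero_iff] at h3
      rw [classInner, h3.resolve_right (by simp [IsIrrCharacter.apply_one_ne_zero η.2]), mul_zero]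
    rw [Finset.sum_eq_single θq (fun η _ hη => by rw [hzero η hη, zero_smul]) (by simp)] at hdec
    set a := classInner (push P L) (θq : G ⧸ P → ℂ)
    have hy1 : ∀ y : G, ¬ p ∣ orderOf y → (χ : G → ℂ) y = a * (θ : G → ℂ) y := by
      intro y hy
      have h := congrFun hdec (QuotientGroup.mk' P y)
      rw [push, Finset.sum_eq_single y] at h
      · rw [Set.indicator_of_mem (show y ∈ {x : G | QuotientGroup.mk' P x = QuotientGroup.mk' P y}
          from rfl), show L y = (χ : G → ℂ) y from if_neg hy, Pi.smul_apply, smul_eq_mul] at h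
        rw [h, hθe, Function.comp_apply]
      · intro x _ hx
        rw [Set.indicator_apply]
        split_ifs with hxy
        · refine if_pos (not_not.1 fun hd => hx ?_)
          exact eq_of_regular_of_commute P hM.1 hP hy (hC y hy) hd hxy
        · rfl
      · simp
    have hz1 := IsIrrCharacter.apply_one_ne_zero (Z χ).2
    have hval : ∀ (u : P) (y : G), ¬ p ∣ orderOf y → (χ : G → ℂ) ((u : G) * y) =
        a / (Z χ : P → ℂ) 1 * ((Z χ : P → ℂ) u * (θ : G → ℂ) y) := by
      intro u y hy
      have h := hmul y hy u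
      rw [hy1 y hy] at h
      field_simp
      linear_combination h
    have hone : ¬ p ∣ orderOf (1 : G) := by rw [orderOf_one, Nat.dvd_one]; exact hM.1.ne_one
    have hnorm : a / (Z χ : P → ℂ) 1 * conj (a / (Z χ : P → ℂ) 1) = 1 := by
      have h := classInner_irr χ χ
      rw [if_pos rfl, classInner, inv_mul_eq_iff_eq_mul₀ natCard_ne_zero_complex, mul_one,
        sum_eq_sum_sections hM.1 hP hC _ (fun x u hu huP => by
          rw [hvan χ hχ x u hu huP, zero_mul]),
        Finset.sum_congr rfl fun (u : P) _ => Finset.sum_congr rfl fun (y : {y : G // ¬ p ∣ orderOf y}) _ =>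
          show (χ : G → ℂ) ((u : G) * y) * conj ((χ : G → ℂ) ((u : G) * y)) =
            a / (Z χ : P → ℂ) 1 * conj (a / (Z χ : P → ℂ) 1) *
              ((Z χ : P → ℂ) u * conj ((Z χ : P → ℂ) u)) *
              ((θ : G → ℂ) y * conj ((θ : G → ℂ) y)) by
          rw [hval u y y.2, map_mul, map_mul]; ring] at h
      simp only [← Finset.mul_sum, ← Finset.sum_mul] at h
      have h1 := classInner_irr (Z χ) (Z χ)
      rw [if_pos rfl, classInner, inv_mul_eq_iff_eq_mul₀ natCard_ne_zero_complex, mul_one] at h1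
      have h2 := horth θ θ hθB hθB hθT hθT
      rw [if_pos rfl] at h2
      rw [h1, mul_assoc, h2] at h
      exact (mul_eq_right₀ natCard_ne_zero_complex).1 h
    have ha : a / (Z χ : P → ℂ) 1 = 1 := by
      have h := hy1 1 hone
      rw [← charDegree_eq χ, ← charDegree_eq θ] at h
      have hθd : ((Cfsg.charDegree (θ : G → ℂ) : ℕ) : ℂ) ≠ 0 :=
        Nat.cast_ne_zero.2 (charDegree_pos θ).ne'
      set q : ℝ := (Cfsg.charDegree (χ : G → ℂ) : ℝ) / (Cfsg.charDegree (θ : G → ℂ) : ℝ) /
        (Cfsg.charDegree (Z χ : P → ℂ) : ℝ)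
      have hq : a / (Z χ : P → ℂ) 1 = (q : ℂ) := by
        simp only [q]
        push_cast
        rw [← charDegree_eq (Z χ), h, mul_div_cancel_right₀ _ hθd]
      rw [hq, Complex.conj_ofReal] at hnorm
      have hsq : q * q = 1 := by exact_mod_cast hnorm
      have hq0 : 0 ≤ q := by positivity
      rw [hq, show q = 1 by nlinarith]
      norm_num
    refine ⟨?_, fun u y hy => by rw [hval u y hy, ha, one_mul]⟩
    have := hval 1 1 hone
    rwa [OneMemClass.coe_one, one_mul, ha, one_mul] at this
  -- bijection with `Irr P`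
  have hinj : Set.InjOn Z B := by
    intro χ hχ χ' hχ' he
    refine Subtype.ext (funext fun x => ?_)
    obtain ⟨u, hu⟩ := exists_isPPart hM.1 x
    by_cases huP : u ∈ P
    · obtain ⟨y, hxy, -, -, hy⟩ := hu
      rw [← hxy, (hform χ hχ).2 ⟨u, huP⟩ y hy, (hform χ' hχ').2 ⟨u, huP⟩ y hy, he]
    · rw [hvan χ hχ x u hu huP, hvan χ' hχ' x u hu huP]
  have hsurj : Z '' B = Set.univ := by
    refine Set.eq_univ_of_forall fun ζ₀ => ?_
    by_contra hn
    let f : P → ℂ := fun u => ∑ χ : Cfsg.IrrCharacter G,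
      if χ ∈ B then (Z χ : P → ℂ) 1 * (Z χ : P → ℂ) u else 0
    have hone : ¬ p ∣ orderOf (1 : G) := by rw [orderOf_one, Nat.dvd_one]; exact hM.1.ne_one
    have hf0 : ∀ u : P, u ≠ 1 → f u = 0 := by
      intro u hu
      obtain ⟨k, hk⟩ := IsPGroup.iff_orderOf.1 hP u
      have hk0 : k ≠ 0 := by
        rintro rfl
        rw [pow_zero, orderOf_eq_one_iff] at hk
        exact hu hk
      have h := finsum_regular_singular_eq_zero hM hB hone (h := (u : G)⁻¹)
        (by rw [orderOf_inv, Subgroup.orderOf_coe, hk]; exact dvd_pow_self p hk0)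
      rw [finsum_irr_eq_sum_ite, Finset.sum_congr rfl fun χ _ => show (if χ ∈ B then
          (χ : G → ℂ) 1 * conj ((χ : G → ℂ) (u : G)⁻¹) else 0) =
            (θ : G → ℂ) 1 * (θ : G → ℂ) 1 *
              (if χ ∈ B then (Z χ : P → ℂ) 1 * (Z χ : P → ℂ) u else 0) by
        split_ifs with hχ
        · rw [IsCharacter.apply_inv (irr_isCharacter χ), Complex.conj_conj, (hform χ hχ).1]
          have := (hform χ hχ).2 u 1 hone
          rw [mul_one] at this
          rw [this]
          ring
        · simp, ← Finset.mul_sum] at h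
      exact (mul_eq_zero.1 h).resolve_left
        (mul_ne_zero (IsIrrCharacter.apply_one_ne_zero θ.2) (IsIrrCharacter.apply_one_ne_zero θ.2))
    have hinner : classInner f (ζ₀ : P → ℂ) = 0 := by
      rw [classInner, mul_eq_zero]
      right
      simp only [f, Finset.sum_mul]
      rw [Finset.sum_comm]
      refine Finset.sum_eq_zero fun χ _ => ?_
      by_cases hχ : χ ∈ B
      · have h := classInner_irr (Z χ) ζ₀
        rw [if_neg fun he => hn ⟨χ, hχ, he⟩, classInner, mul_eq_zero] at h
        simp only [hχ, if_true, mul_assoc, ← Finset.mul_sum,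
          h.resolve_left (inv_ne_zero natCard_ne_zero_complex), mul_zero]
      · simp [hχ]
    rw [classInner, mul_eq_zero, Finset.sum_eq_single (1 : P) (fun u _ hu => by
      rw [hf0 u hu, zero_mul]) (by simp)] at hinner
    rcases hinner with h | h
    · exact inv_ne_zero natCard_ne_zero_complex h
    rw [mul_eq_zero] at h
    have hpos : f 1 ≠ 0 := by
      simp only [f, ← charDegree_eq (Z _)]
      obtain ⟨χ₀, hχ₀⟩ := IsPBlock.nonempty hB
      have hh : (∑ χ : Cfsg.IrrCharacter G, if χ ∈ B then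
          Cfsg.charDegree (Z χ : P → ℂ) * Cfsg.charDegree (Z χ : P → ℂ) else 0 : ℕ) ≠ 0 := by
        intro h0
        have := Finset.sum_eq_zero_iff.1 h0 χ₀ (Finset.mem_univ _)
        rw [if_pos hχ₀] at this
        exact (Nat.mul_pos (charDegree_pos (Z χ₀)) (charDegree_pos (Z χ₀))).ne' this
      exact_mod_cast hh
    exact h.elim hpos (by simpa using IsIrrCharacter.apply_one_ne_zero ζ₀.2)
  rw [← card_irrCharacter, ← Nat.card_univ (α := Cfsg.IrrCharacter P), ← hsurj,
    Nat.card_image_of_injOn hinj]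

end Cfsg.Agent.S0968
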