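import Cfsg.Statements.S0969
import Cfsg.Agent.Lib.Blocks.Quotient
import Mathlib.RingTheory.Nakayama

set_option autoImplicit false
open Cfsg
open Cfsg.Agent.Lib.Blocks Cfsg.Agent.Lib.Characters
open scoped ComplexConjugate

namespace Cfsg.Agent.S0969

/-- Let D be a central p-subgroup of the finite group G and χ an irreducible character with the exponent of p in χ(1) equal to the exponent of p in the index of D; fix a maximal ideal M of the algebraic integers containing p. Then D is a defect group of the block of χ, and χ g = 0 whenever the p-part of g does not lie in D. -/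
theorem result {G : Type*} [Group G] [Finite G] (p : ℕ) [Fact p.Prime] (M : Ideal Cfsg.AlgInt) (hM : Cfsg.IsPModular p M) (D : Subgroup G) (hD : IsPGroup p D) (hDZ : D ≤ Subgroup.center G) (χ : Cfsg.IrrCharacter G) (hdeg : (Cfsg.charDegree (χ : G → ℂ)).factorization p = D.index.factorization p) : Cfsg.IsDefectGroup p M (Cfsg.blockOf M (χ : G → ℂ)) D ∧ ∀ g x : G, Cfsg.IsPPart p g x → x ∉ D → (χ : G → ℂ) g = 0 := by
  classical
  haveI := Fintype.ofFinite G
  haveI := isPrime_of_isPModular hM
  haveI : D.Normal := ⟨fun n hn g => by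
    rw [(Subgroup.mem_center_iff.1 (hDZ hn) g), mul_inv_cancel_right]; exact hn⟩
  suffices hdef : Cfsg.IsDefectGroup p M (Cfsg.blockOf M (χ : G → ℂ)) D by
    refine ⟨hdef, fun g x hx hxD => char_eq_zero_of_forall_notMem hM (isPBlock_blockOf χ) hx
      (fun E hE hxE => hxD ?_) (self_mem_blockOf χ)⟩
    have hE' := le_of_isDefectGroup hM hD (isPBlock_blockOf χ) hE
    rwa [Subgroup.eq_of_le_of_card_ge hE' (by
      rw [IsDefectGroup.card_eq hM (isPBlock_blockOf χ) hE,
        IsDefectGroup.card_eq hM (isPBlock_blockOf χ) hdef])]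
  -- a point where `χ` is a unit
  obtain ⟨x₁, hx₁⟩ : ∃ x, ¬ MemLocalIdeal M ((χ : G → ℂ) x) := by
    by_contra hcon
    simp only [not_exists, not_not] at hcon
    haveI := Fintype.ofFinite (G ⧸ D)
    haveI := Fintype.ofFinite D
    obtain ⟨j, hj, hjp⟩ := exists_eq_pow_mul hM.1 D.index_ne_zero_of_finite
    obtain ⟨u, hu, -⟩ := exists_eq_pow_mul hM.1 (charDegree_pos χ).ne'
    rw [hdeg] at hu
    set m := D.index.factorization p with hm
    clear_value m
    have hj0 : (j : ℂ) ≠ 0 := Nat.cast_ne_zero.2 fun h => hjp (h ▸ dvd_zero p)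
    have hp0 : (p : ℂ) ≠ 0 := Nat.cast_ne_zero.2 hM.1.ne_zero
    -- the coefficient of the primitive idempotent, scaled by `|D|`
    have hc : (χ : G → ℂ) 1 / (D.index : ℂ) = (u : ℂ) * (j : ℂ)⁻¹ := by
      rw [← charDegree_eq χ, hu, hj]
      push_cast
      field_simp
    let f : G → locSubring M := fun x => ⟨(χ : G → ℂ) 1 / (D.index : ℂ) * conj ((χ : G → ℂ) x), by
      rw [mem_locSubring, hc, ← IsCharacter.apply_inv (irr_isCharacter χ)]
      exact memLocalRing_mul (memLocalRing_mul (memLocalRing_natCast u)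
        (memLocalRing_inv_natCast hM hjp))
        (memLocalRing_of_isIntegral' (isIntegral_char χ _))⟩
    let J : Ideal (locSubring M) := Ideal.span (Set.range f)
    have hJle : J ≤ IsLocalRing.maximalIdeal (locSubring M) := by
      rw [Ideal.span_le]
      rintro _ ⟨x, rfl⟩
      rw [maximalIdeal_locSubring, SetLike.mem_coe, mem_locIdeal]
      show MemLocalIdeal M (_ * _)
      rw [← IsCharacter.apply_inv (irr_isCharacter χ)]
      exact memLocalIdeal_mul_left (hc ▸ memLocalRing_mul (memLocalRing_natCast u)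
        (memLocalRing_inv_natCast hM hjp)) (hcon _)
    -- the twisted idempotent identity
    have hsq : ∀ y, ∑ c : G ⧸ D, f (Quotient.out c) * f ((Quotient.out c)⁻¹ * y) = f y := by
      intro y
      apply Subtype.ext
      rw [AddSubmonoidClass.coe_finsetSum]
      have hχ1 := IsIrrCharacter.apply_one_ne_zero χ.2
      -- independence of the representative
      have hrep : ∀ (t : G) (a : D), (f (t * a) : ℂ) * (f ((t * a)⁻¹ * y) : ℂ) =
          (f t : ℂ) * (f (t⁻¹ * y) : ℂ) := by
        intro t a
        obtain ⟨n, ρ, hρ, hρe⟩ := χ.2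
        obtain ⟨c, hc'⟩ := exists_smul_of_commute ρ (ρ (a : G)) fun g => by
          rw [← map_mul, ← map_mul, Subgroup.mem_center_iff.1 (hDZ a.2) g]
        obtain ⟨c', hc''⟩ := exists_smul_of_commute ρ (ρ (a : G)⁻¹) fun g => by
          rw [← map_mul, ← map_mul, Subgroup.mem_center_iff.1 (inv_mem (hDZ a.2)) g]
        have e1 : ∀ x : G, (χ : G → ℂ) (x * a) = c * (χ : G → ℂ) x := fun x => by
          rw [← hρe]
          simp only [Representation.character, map_mul, hc', mul_smul_comm, map_smul, smul_eq_mul]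
          congr 1
        have e2 : ∀ x : G, (χ : G → ℂ) ((a : G)⁻¹ * x) = c' * (χ : G → ℂ) x := fun x => by
          rw [← hρe]
          simp only [Representation.character, map_mul, hc'', smul_mul_assoc, map_smul, smul_eq_mul]
          congr 1
        have e3 : c * c' = 1 := by
          have h1 := e1 ((a : G)⁻¹)
          rw [inv_mul_cancel] at h1
          have h2 := e2 1
          rw [mul_one] at h2
          rw [h2] at h1
          apply mul_right_cancel₀ hχ1
          rw [one_mul, mul_assoc]
          exact h1.symm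
        show (χ : G → ℂ) 1 / _ * conj ((χ : G → ℂ) (t * a)) *
          ((χ : G → ℂ) 1 / _ * conj ((χ : G → ℂ) ((t * a)⁻¹ * y))) = _
        rw [mul_inv_rev, mul_assoc (a : G)⁻¹, e1, e2, map_mul, map_mul]
        have e4 : conj c * conj c' = 1 := by rw [← map_mul, e3, map_one]
        show _ = (χ : G → ℂ) 1 / _ * conj ((χ : G → ℂ) t) *
          ((χ : G → ℂ) 1 / _ * conj ((χ : G → ℂ) (t⁻¹ * y)))
        linear_combination ((χ : G → ℂ) 1 / (D.index : ℂ)) ^ 2 * conj ((χ : G → ℂ) t) *
          conj ((χ : G → ℂ) (t⁻¹ * y)) * e4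
      have hall : ∑ x : G, (f x : ℂ) * (f (x⁻¹ * y) : ℂ) =
          (Nat.card D : ℂ) * ∑ c : G ⧸ D, (f (Quotient.out c) : ℂ) *
            (f ((Quotient.out c)⁻¹ * y) : ℂ) := by
        rw [Finset.mul_sum, ← Finset.sum_fiberwise_of_maps_to (s := Finset.univ) (t := Finset.univ)
          (g := fun x : G => (x : G ⧸ D)) (fun x _ => Finset.mem_univ _)]
        refine Finset.sum_congr rfl fun c _ => ?_
        rw [Finset.sum_congr rfl fun x hx => ?_, Finset.sum_const, nsmul_eq_mul]
        · congr 1
          rw [← Fintype.card_subtype, Nat.card_eq_fintype_card]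
          refine congrArg _ (Fintype.card_congr
            ((Equiv.mulLeft (Quotient.out c)⁻¹).subtypeEquiv fun x => ?_))
          conv_lhs => rw [eq_comm, ← QuotientGroup.out_eq' c, QuotientGroup.eq]
          rfl
        · have hmem := (Finset.mem_filter.1 hx).2
          have hd : (Quotient.out c)⁻¹ * x ∈ D := by
            rw [← QuotientGroup.eq, QuotientGroup.out_eq']; exact hmem.symm
          have h := hrep (Quotient.out c) ⟨_, hd⟩
          rwa [Subtype.coe_mk, mul_inv_cancel_left] at h
      have hconv : ∑ x : G, (f x : ℂ) * (f (x⁻¹ * y) : ℂ) = (Nat.card D : ℂ) * (f y : ℂ) := by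
        have h := congrFun (blockCoeff_conv_self (G := G) ({χ} : Set (Cfsg.IrrCharacter G))) y
        have hf : ∀ x, (f x : ℂ) = (Nat.card D : ℂ) * blockCoeff ({χ} : Set (Cfsg.IrrCharacter G)) x := by
          intro x
          rw [blockCoeff, finsum_mem_singleton, ← Subgroup.index_mul_card D, Nat.cast_mul]
          show (χ : G → ℂ) 1 / _ * _ = _
          have := (natCard_ne_zero_complex : (Nat.card D : ℂ) ≠ 0)
          have : (D.index : ℂ) ≠ 0 := Nat.cast_ne_zero.2 D.index_ne_zero_of_finite
          field_simp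
        simp only [hf, ← h, Cfsg.Agent.Lib.Blocks.conv, Finset.mul_sum]
        exact Finset.sum_congr rfl fun x _ => by ring
      rw [hall] at hconv
      exact mul_left_cancel₀ natCard_ne_zero_complex hconv
    have hJJ : J ≤ IsLocalRing.maximalIdeal (locSubring M) • J := by
      refine Ideal.span_le.2 ?_
      rintro _ ⟨y, rfl⟩
      rw [SetLike.mem_coe, ← hsq y]
      exact Ideal.sum_mem _ fun c _ => Ideal.mul_mem_mul (hJle (Ideal.subset_span ⟨_, rfl⟩))
        (Ideal.subset_span ⟨_, rfl⟩)
    have hJ0 : J = ⊥ := Submodule.eq_bot_of_le_smul_of_le_jacobson_bot _ J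
      (Submodule.fg_span (Set.finite_range f)) hJJ
      (IsLocalRing.maximalIdeal_le_jacobson _)
    have h1 : f 1 = 0 := by
      have : f 1 ∈ J := Ideal.subset_span ⟨1, rfl⟩
      rwa [hJ0, Ideal.mem_bot] at this
    have h2 : (χ : G → ℂ) 1 / (D.index : ℂ) * conj ((χ : G → ℂ) 1) = 0 := congrArg Subtype.val h1
    simp [IsIrrCharacter.apply_one_ne_zero χ.2, D.index_ne_zero_of_finite] at h2
  -- valuation of the class
  obtain ⟨y, hy⟩ := exists_isDefectClass hM (isPBlock_blockOf χ)
  obtain ⟨E⟩ : Nonempty (Sylow p (Subgroup.centralizer ({y} : Set G))) := inferInstance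
  have hDC : D ≤ Subgroup.centralizer ({x₁} : Set G) := fun a ha =>
    Subgroup.mem_centralizer_singleton_iff.2 (Subgroup.mem_center_iff.1 (hDZ ha) x₁).symm
  have hDk : Nat.card D = p ^ (Nat.card D).factorization p := by
    obtain ⟨k, hk⟩ := hD.exists_card_eq
    rw [hk, hM.1.factorization_pow, Finsupp.single_eq_same]
  have h1 := congrArg (fun n => n.factorization p)
    (Subgroup.index_mul_card (Subgroup.centralizer ({x₁} : Set G)))
  have h2 := congrArg (fun n => n.factorization p) (Subgroup.index_mul_card D)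
  rw [Nat.factorization_mul Subgroup.index_ne_zero_of_finite Nat.card_pos.ne',
    Finsupp.add_apply] at h1 h2
  have h3 : (Nat.card D).factorization p ≤
      (Nat.card (Subgroup.centralizer ({x₁} : Set G))).factorization p :=
    (Nat.factorization_le_iff_dvd Nat.card_pos.ne' Nat.card_pos.ne').2
      (Subgroup.card_dvd_of_le hDC) p
  have hv : (Subgroup.centralizer ({x₁} : Set G)).index.factorization p =
      (charDegree (χ : G → ℂ)).factorization p := by
    rw [hdeg]
    by_contra hne
    have hlt : (Subgroup.centralizer ({x₁} : Set G)).index.factorization p < D.index.factorization p :=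
      by omega
    apply hx₁
    obtain ⟨j, hj, hjp⟩ :=
      exists_eq_pow_mul hM.1 (Subgroup.centralizer ({x₁} : Set G)).index_ne_zero_of_finite
    obtain ⟨u, hu, -⟩ := exists_eq_pow_mul hM.1 (charDegree_pos χ).ne'
    rw [hdeg] at hu
    obtain ⟨i, hi⟩ := Nat.exists_eq_add_of_lt hlt
    set m := (Subgroup.centralizer ({x₁} : Set G)).index.factorization p
    have hj0 : (j : ℂ) ≠ 0 := Nat.cast_ne_zero.2 fun h => hjp (h ▸ dvd_zero p)
    have hp0 : (p : ℂ) ≠ 0 := Nat.cast_ne_zero.2 hM.1.ne_zero
    have hu0 : (u : ℂ) ≠ 0 := by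
      intro h
      have := charDegree_pos χ
      rw [hu, Nat.cast_eq_zero.1 h, mul_zero] at this
      exact lt_irrefl 0 this
    have : (χ : G → ℂ) x₁ =
        (p : ℂ) * ((p : ℂ) ^ i * u * (j : ℂ)⁻¹ * centralChar (χ : G → ℂ) x₁) := by
      rw [centralChar, ← charDegree_eq χ, hu, hi, hj]
      push_cast
      rw [pow_succ, pow_add]
      field_simp
    rw [this]
    exact memLocalIdeal_of_p_mul hM (memLocalRing_mul (memLocalRing_mul (memLocalRing_mul
      (memLocalRing_pow (memLocalRing_natCast p) i) (memLocalRing_natCast u))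
      (memLocalRing_inv_natCast hM hjp)) (memLocalRing_centralChar χ x₁))
  have hω := not_memLocalIdeal_centralChar hM χ hv hx₁
  obtain ⟨T, hT⟩ := exists_sylowSub_eq hDC (by rw [hDk]; congr 1; omega)
  have hle := isConjLE_of_omega hM (isPBlock_blockOf χ) hy E T (self_mem_blockOf χ) hω
  rw [hT] at hle
  have hge := le_of_isDefectGroup hM hD (isPBlock_blockOf χ) ⟨y, hy, E, rfl⟩
  rw [Subgroup.eq_of_le_of_card_ge hge hle.card_le]
  exact ⟨y, hy, E, rfl⟩

end Cfsg.Agent.S0969
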