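import Cfsg.Statements.S0970
import Cfsg.Agent.Lib.Blocks.Covering
import Cfsg.Agent.Lib.Cores.Basic

set_option autoImplicit false
open Cfsg
open Cfsg.Agent.Lib.Blocks Cfsg.Agent.Lib.Characters
open scoped ComplexConjugate

namespace Cfsg.Agent.S0970

/-- Let N be a normal subgroup of the finite group G and fix a maximal ideal M of the algebraic integers containing the prime p. Let b be a block of N that is invariant under conjugation by G, and B a block of G covering b (some χ ∈ B has a constituent in b) whose defect is at least that of every block covering b. If P is a defect group of B, then p does not divide the index of P ⊔ N, the subgroup P ∩ N of N is a defect group of b, and the defect of B equals the defect of b plus the exponent of p in the index of N. -/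
theorem result {G : Type*} [Group G] [Fintype G] (p : ℕ) [Fact p.Prime] (M : Ideal Cfsg.AlgInt) (hM : Cfsg.IsPModular p M) (N : Subgroup G) [hN : N.Normal] [Fintype N] (b : Set (Cfsg.IrrCharacter N)) (hb : Cfsg.IsPBlock M b) (hinv : ∀ g : G, ∀ θ ∈ b, ∀ θ' : Cfsg.IrrCharacter N, (∀ n : N, (θ' : N → ℂ) n = (θ : N → ℂ) ⟨g * n * g⁻¹, hN.conj_mem n n.2 g⟩) → θ' ∈ b) (B : Set (Cfsg.IrrCharacter G)) (hB : Cfsg.IsPBlock M B) (hcov : ∃ χ ∈ B, ∃ θ ∈ b, Cfsg.classInner (fun n : N => (χ : G → ℂ) n) (θ : N → ℂ) ≠ 0) (hmax : ∀ B' : Set (Cfsg.IrrCharacter G), Cfsg.IsPBlock M B' → (∃ χ ∈ B', ∃ θ ∈ b, Cfsg.classInner (fun n : N => (χ : G → ℂ) n) (θ : N → ℂ) ≠ 0) → Cfsg.blockDefect p B' ≤ Cfsg.blockDefect p B) (P : Subgroup G) (hP : Cfsg.IsDefectGroup p M B P) : ¬ p ∣ (P ⊔ N).index ∧ Cfsg.IsDefectGroup p M b ((P ⊓ N).subgroupOf N) ∧ Cfsg.blockDefect p B = Cfsg.blockDefect p b + N.index.factorization p := by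
  classical
  haveI := isPrime_of_isPModular hM
  have hp : p.Prime := Fact.out
  haveI : Finite (ConjClasses G) := Finite.of_surjective _ ConjClasses.mk_surjective
  haveI := Fintype.ofFinite (ConjClasses G)
  haveI : Finite (ConjClasses N) := Finite.of_surjective _ ConjClasses.mk_surjective
  haveI := Fintype.ofFinite (ConjClasses N)
  haveI := Fintype.ofFinite (IrrCharacter G)
  -- conjugates of members of `b` stay in `b`
  have hclos : conjClosure N b = b := by
    refine Set.Subset.antisymm ?_ (subset_conjClosure N b)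
    rintro _ ⟨g, θ, hθ, rfl⟩
    exact hinv g θ hθ _ fun n => rfl
  have hbb : ∀ θ ∈ b, blockOf M (θ : N → ℂ) ⊆ b := by
    intro θ hθ
    obtain ⟨θ₁, hθ₁⟩ := hb
    have hθ' : SameBlock M (θ₁ : N → ℂ) (θ : N → ℂ) := by rw [hθ₁] at hθ; exact hθ
    rw [hθ₁, blockOf_eq_of_sameBlock hθ']
  obtain ⟨χ₀, hχ₀, θ₀, hθ₀, hne₀⟩ := hcov
  have hres : resFun N (orbitIdem N b) = blockCoeff b := by rw [resFun_orbitIdem, hclos]
  have hE := isRCentral_orbitIdem N hM hbb
  -- central characters of covering characters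
  have hcongr : ∀ (η : IrrCharacter G) (θ : IrrCharacter N), θ ∈ b →
      classInner (fun n : N => (η : G → ℂ) n) (θ : N → ℂ) ≠ 0 → ∀ x : G, x ∈ N →
      MemLocalIdeal M (centralChar (η : G → ℂ) x -
        omega (θ₀ : N → ℂ) (resFun N (classIndicator x))) := by
    intro η θ hθ hne x hx
    rw [← omega_classIndicator (irr_isClassFunction η),
      omega_eq_of_constituent N hne (isRCentral_classIndicator (M := M) x).1 fun y hy => if_neg fun h => hy (by
        obtain ⟨c, rfl⟩ := isConj_iff.1 h
        exact hN.conj_mem _ hx c)]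
    exact omega_congr_of_sameBlock (IsPBlock.sameBlock hb hθ hθ₀)
      ⟨fun a c => (isRCentral_classIndicator (M := M) x).1 (a : G) c, fun a => (isRCentral_classIndicator (M := M) x).2 a⟩
  -- a defect class
  have hone : omega (χ₀ : G → ℂ) (orbitIdem N b) = 1 := by
    rw [omega_orbitIdem N b hne₀, if_pos (subset_conjClosure N b hθ₀)]
  obtain ⟨g, hgN, hge, hgω⟩ : ∃ g : G, g ∈ N ∧ ¬ MemLocalIdeal M (orbitIdem N b g) ∧
      ¬ MemLocalIdeal M (centralChar (χ₀ : G → ℂ) g) := by
    by_contra hcon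
    push Not at hcon
    apply not_memLocalIdeal_one (M := M)
    rw [← hone, omega_eq_sum_classes (irr_isClassFunction χ₀) hE.1]
    refine memLocalIdeal_sum _ fun C _ => ?_
    by_cases hx : Quotient.out C ∈ N
    · by_cases he : MemLocalIdeal M (orbitIdem N b (Quotient.out C))
      · exact memLocalIdeal_mul_right he (memLocalRing_centralChar χ₀ _)
      · exact memLocalIdeal_mul_left (hE.2 _) (hcon _ hx he)
    · rw [orbitIdem_of_notMem N b hx, zero_mul]; exact memLocalIdeal_zero
  -- a block containing this class as a defect class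
  let A : Finset (IrrCharacter G) := Finset.univ.filter fun η =>
    ∃ θ ∈ b, classInner (fun n : N => (η : G → ℂ) n) (θ : N → ℂ) ≠ 0
  have hblock : ∀ η ∈ A, ∀ η' : IrrCharacter G, SameBlock M (η : G → ℂ) (η' : G → ℂ) → η' ∈ A := by
    intro η hη η' hs
    obtain ⟨θ, hθ, hne⟩ := (Finset.mem_filter.1 hη).2
    obtain ⟨ψ, hψ⟩ := exists_constituent_restrict N η'
    have := constituent_mem_conjClosure N hM hbb hs hθ hne hψ
    rw [hclos] at this
    exact Finset.mem_filter.2 ⟨Finset.mem_univ _, ψ, this, hψ⟩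
  have hEsum : orbitIdem N b = ∑ B' ∈ A.image (fun η : IrrCharacter G => blockOf M (η : G → ℂ)),
      blockCoeff B' := by
    refine ext_omega hE.1 (fun x c => ?_) fun η => ?_
    · simp only [Finset.sum_apply]
      exact Finset.sum_congr rfl fun B' _ => isClassFunction_blockCoeff B' x c
    obtain ⟨ψ, hψ⟩ := exists_constituent_restrict N η
    rw [omega_sum, omega_orbitIdem N b hψ, hclos]
    by_cases hη : η ∈ A
    · have hψb : ψ ∈ b := by
        obtain ⟨θ, hθ, hne⟩ := (Finset.mem_filter.1 hη).2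
        obtain ⟨c, hc⟩ := exists_conjIrrN_eq N hne hψ
        rw [← hclos]
        exact ⟨c, θ, hθ, hc.symm⟩
      rw [if_pos hψb, Finset.sum_eq_single (blockOf M (η : G → ℂ))]
      · rw [omega_blockCoeff, if_pos (self_mem_blockOf η)]
      · intro B' hB' hne
        obtain ⟨η', -, rfl⟩ := Finset.mem_image.1 hB'
        rw [omega_blockCoeff, if_neg (fun h : η ∈ blockOf M (η' : G → ℂ) =>
          hne (blockOf_eq_of_sameBlock h))]
      · exact fun h => absurd (Finset.mem_image.2 ⟨η, hη, rfl⟩) h
    · rw [if_neg fun h => hη (Finset.mem_filter.2 ⟨Finset.mem_univ _, ψ, h, hψ⟩), Finset.sum_eq_zero]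
      intro B' hB'
      obtain ⟨η', hη', rfl⟩ := Finset.mem_image.1 hB'
      rw [omega_blockCoeff, if_neg (fun h : η ∈ blockOf M (η' : G → ℂ) => hη (hblock η' hη' η h))]
  obtain ⟨B₀, hB₀A, hB₀e⟩ : ∃ B' ∈ A.image (fun η : IrrCharacter G => blockOf M (η : G → ℂ)),
      ¬ MemLocalIdeal M (blockCoeff B' g) := by
    by_contra hcon
    push Not at hcon
    apply hge
    rw [hEsum, Finset.sum_apply]
    exact memLocalIdeal_sum _ hcon
  obtain ⟨η₀, hη₀, rfl⟩ := Finset.mem_image.1 hB₀A
  obtain ⟨θ₁, hθ₁, hne₁⟩ := (Finset.mem_filter.1 hη₀).2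
  have hB₀ : IsPBlock M (blockOf M (η₀ : G → ℂ)) := isPBlock_blockOf η₀
  have hall : ∀ η : IrrCharacter G, η ∈ A → ¬ MemLocalIdeal M (centralChar (η : G → ℂ) g) := by
    intro η hη
    obtain ⟨θ, hθ, hne⟩ := (Finset.mem_filter.1 hη).2
    have h1 := hcongr η θ hθ hne g hgN
    have h2 := hcongr χ₀ θ₀ hθ₀ hne₀ g hgN
    intro h
    exact hgω ((memLocalIdeal_iff_of_sub h2).2 ((memLocalIdeal_iff_of_sub h1).1 h))
  have hgB₀ : IsDefectClass M (blockOf M (η₀ : G → ℂ)) g :=
    ⟨(isRCentral_blockCoeff hM hB₀).2 g, hB₀e, fun η hη => hall η (hblock η₀ hη₀ η hη)⟩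
  obtain ⟨S⟩ : Nonempty (Sylow p (Subgroup.centralizer ({g} : Set G))) := inferInstance
  have hd₀ : Nat.card (sylowSub S) = p ^ blockDefect p (blockOf M (η₀ : G → ℂ)) :=
    IsDefectGroup.card_eq hM hB₀ ⟨g, hgB₀, S, rfl⟩
  obtain ⟨h, hh, T, hPT⟩ := id hP
  have hPT' : P = sylowSub T := hPT
  have hχA : χ₀ ∈ A := Finset.mem_filter.2 ⟨Finset.mem_univ _, θ₀, hθ₀, hne₀⟩
  have hle := isConjLE_of_omega hM hB hh T S hχ₀ (hall χ₀ hχA)
  rw [← hPT'] at hle
  have hdle := hmax _ hB₀ ⟨η₀, self_mem_blockOf η₀, θ₁, hθ₁, hne₁⟩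
  have hPcard := IsDefectGroup.card_eq hM hB hP
  obtain ⟨a, ha⟩ := hle.exists_eq (by rw [hd₀, hPcard]; exact Nat.pow_le_pow_right hp.pos hdle)
  have hdeq : blockDefect p B = blockDefect p (blockOf M (η₀ : G → ℂ)) := by
    refine Nat.pow_right_injective hp.two_le ?_
    show p ^ _ = p ^ _
    rw [← hPcard, ← hd₀, ← ha, card_map_conj]
  set g' := a⁻¹ * g * a⁻¹⁻¹ with hg'
  have hg'N : g' ∈ N := hN.conj_mem g hgN a⁻¹
  have hPg : P ≤ Subgroup.centralizer ({g'} : Set G) := by
    intro u hu w hw
    rw [Set.mem_singleton_iff] at hw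
    subst hw
    have h1 : g * (a * u * a⁻¹) = a * u * a⁻¹ * g :=
      sylowSub_le S (ha ▸ ⟨u, hu, rfl⟩ : a * u * a⁻¹ ∈ sylowSub S) g rfl
    calc g' * u = a⁻¹ * (g * (a * u * a⁻¹)) * a := by rw [hg']; group
      _ = a⁻¹ * (a * u * a⁻¹ * g) * a := by rw [h1]
      _ = u * g' := by rw [hg']; group
  have hconjg : IsConj g g' := isConj_iff.2 ⟨a⁻¹, rfl⟩
  have hcardC : (Nat.card (Subgroup.centralizer ({g'} : Set G))).factorization p = blockDefect p B := by
    have hcent : Nat.card (Subgroup.centralizer ({g'} : Set G)) =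
        Nat.card (Subgroup.centralizer ({g} : Set G)) := by
      have e1 := Subgroup.card_mul_index (Subgroup.centralizer ({g'} : Set G))
      have e2 := Subgroup.card_mul_index (Subgroup.centralizer ({g} : Set G))
      rw [← card_conj_eq_index, show Nat.card {x : G // IsConj g' x} = Nat.card {x : G // IsConj g x} from
        Nat.card_congr (Equiv.subtypeEquivRight fun x => ⟨hconjg.trans, hconjg.symm.trans⟩),
        card_conj_eq_index] at e1
      exact Nat.eq_of_mul_eq_mul_right (Nat.pos_of_ne_zero Subgroup.index_ne_zero_of_finite) (e1.trans e2.symm)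
    rw [hcent, hdeq]
    exact Nat.pow_right_injective hp.two_le ((card_sylowSub S).symm.trans hd₀)
  -- `P ⊓ N` is a Sylow subgroup of the centraliser in `N`
  obtain ⟨U, hU⟩ := ((IsDefectGroup.isPGroup hP).of_equiv (Subgroup.subgroupOfEquivOfLe hPg).symm :
    IsPGroup p (P.subgroupOf (Subgroup.centralizer ({g'} : Set G)))).exists_le_sylow
  have hPU : sylowSub U = P := by
    refine (Subgroup.eq_of_le_of_card_ge (show P ≤ sylowSub U from fun u hu => ⟨⟨u, hPg hu⟩, hU (by exact hu), rfl⟩) ?_).symm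
    rw [card_sylowSub, hcardC, hPcard]
  have hle' : (P ⊓ N).subgroupOf N ≤ Subgroup.centralizer ({(⟨g', hg'N⟩ : N)} : Set N) := by
    intro u hu w hw
    rw [Set.mem_singleton_iff] at hw
    rw [hw]
    exact Subtype.ext (hPg (Subgroup.mem_subgroupOf.1 hu).1 g' rfl)
  obtain ⟨V, hV⟩ := (((IsDefectGroup.isPGroup hP).to_le (inf_le_left : P ⊓ N ≤ P)).of_equiv
    (Subgroup.subgroupOfEquivOfLe (inf_le_right : P ⊓ N ≤ N)).symm |>.of_equiv
      (Subgroup.subgroupOfEquivOfLe hle').symm : IsPGroup p (((P ⊓ N).subgroupOf N).subgroupOf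
        (Subgroup.centralizer ({(⟨g', hg'N⟩ : N)} : Set N)))).exists_le_sylow
  have hVP : sylowSub V = (P ⊓ N).subgroupOf N := by
    refine (Subgroup.eq_of_le_of_card_ge (show (P ⊓ N).subgroupOf N ≤ sylowSub V from fun u hu => ⟨⟨u, hle' hu⟩, hV (by exact hu), rfl⟩) ?_).symm
    have hVp : IsPGroup p ((sylowSub V).map N.subtype) := (isPGroup_sylowSub V).map _
    have hVle : (sylowSub V).map N.subtype ≤ Subgroup.centralizer ({g'} : Set G) := by
      rintro _ ⟨u, hu, rfl⟩ w hw
      rw [Set.mem_singleton_iff] at hw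
      rw [hw]
      exact congrArg Subtype.val (sylowSub_le V hu ⟨g', hg'N⟩ rfl)
    obtain ⟨c, -, hc⟩ := exists_conj_le_sylowSub U hVp hVle
    rw [hPU] at hc
    have hc' : ((sylowSub V).map N.subtype).map (MulAut.conj c).toMonoidHom ≤ P ⊓ N :=
      le_inf hc (by rintro _ ⟨_, ⟨u, -, rfl⟩, rfl⟩; exact hN.conj_mem _ u.2 c)
    have h1 := Subgroup.card_le_of_le hc'
    rw [card_map_conj, Subgroup.card_map_of_injective N.subtype_injective] at h1
    rwa [Nat.card_congr (Subgroup.subgroupOfEquivOfLe (inf_le_right : P ⊓ N ≤ N)).toEquiv]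
  -- the class of `g'` in `N`
  let n' : N := ⟨g', hg'N⟩
  have hsame : ∀ C : ConjClasses N, IsConj g' ((Quotient.out C : N) : G) →
      MemLocalIdeal M (centralChar (θ₀ : N → ℂ) (Quotient.out C) - centralChar (θ₀ : N → ℂ) n') ∧
      (Subgroup.centralizer ({Quotient.out C} : Set N)).index = (Subgroup.centralizer ({n'} : Set N)).index := by
    intro C hC
    obtain ⟨c, hc⟩ := isConj_iff.1 hC
    have hmap : (MulAut.conjNormal c : MulAut N) n' = Quotient.out C := Subtype.ext (by
      rw [MulAut.conjNormal_apply]; exact hc)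
    have hidx : (Subgroup.centralizer ({Quotient.out C} : Set N)).index =
        (Subgroup.centralizer ({n'} : Set N)).index := by
      rw [← card_conj_eq_index, ← card_conj_eq_index]
      refine (Nat.card_congr (Equiv.subtypeEquiv (MulAut.conjNormal c : MulAut N).toEquiv fun x => ?_)).symm
      show IsConj n' x ↔ IsConj (Quotient.out C) ((MulAut.conjNormal c : MulAut N) x)
      rw [← hmap]
      exact ⟨fun hx => (MulAut.conjNormal c : MulAut N).toMonoidHom.map_isConj hx, fun hx => by
        simpa using (MulAut.conjNormal c : MulAut N).symm.toMonoidHom.map_isConj hx⟩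
    refine ⟨?_, hidx⟩
    have hθc : conjIrrN N c θ₀ ∈ b := by rw [← hclos]; exact ⟨c, θ₀, hθ₀, rfl⟩
    have hs := IsPBlock.sameBlock hb hθ₀ hθc n'
    have e : centralChar (conjIrrN N c θ₀ : N → ℂ) n' = centralChar (θ₀ : N → ℂ) (Quotient.out C) := by
      rw [centralChar, centralChar, hidx]
      congr 2
      · show (θ₀ : N → ℂ) _ = (θ₀ : N → ℂ) _
        exact congrArg _ (Subtype.ext hc)
      · exact conjFun_apply_one N c _
    rw [e] at hs
    have := memLocalIdeal_neg hs
    rwa [neg_sub] at this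
  have hF : IsClassFunction N (resFun N (classIndicator g')) := fun x c =>
    (isRCentral_classIndicator (M := M) g').1 (x : G) c
  let Cs := Finset.univ.filter fun C : ConjClasses N => IsConj g' ((Quotient.out C : N) : G)
  have hsumC : ∀ θ : IrrCharacter N, omega (θ : N → ℂ) (resFun N (classIndicator g')) =
      ∑ C ∈ Cs, centralChar (θ : N → ℂ) (Quotient.out C) := by
    intro θ
    rw [omega_eq_sum_classes (irr_isClassFunction θ) hF, Finset.sum_filter]
    refine Finset.sum_congr rfl fun C _ => ?_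
    show classIndicator g' ((Quotient.out C : N) : G) * _ = _
    unfold classIndicator
    split_ifs <;> simp
  have hunit : ¬ MemLocalIdeal M ((Cs.card : ℂ) * centralChar (θ₀ : N → ℂ) n') := by
    intro hmem
    have h2 := hcongr χ₀ θ₀ hθ₀ hne₀ g' hg'N
    have h3 : MemLocalIdeal M (omega (θ₀ : N → ℂ) (resFun N (classIndicator g')) -
        (Cs.card : ℂ) * centralChar (θ₀ : N → ℂ) n') := by
      rw [hsumC, ← nsmul_eq_mul, ← Finset.sum_const, ← Finset.sum_sub_distrib]
      exact memLocalIdeal_sum _ fun C hC => (hsame C (Finset.mem_filter.1 hC).2).1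
    have hg'ω : centralChar (χ₀ : G → ℂ) g' = centralChar (χ₀ : G → ℂ) g := by
      have hci : classIndicator (G := G) g' = classIndicator g := funext fun x => by
        unfold classIndicator
        by_cases hx : IsConj g x
        · rw [if_pos hx, if_pos (hconjg.symm.trans hx)]
        · rw [if_neg hx, if_neg fun h' => hx (hconjg.trans h')]
      rw [← omega_classIndicator (irr_isClassFunction χ₀), ← omega_classIndicator (irr_isClassFunction χ₀), hci]
    rw [hg'ω] at h2
    exact hgω ((memLocalIdeal_iff_of_sub h2).2 ((memLocalIdeal_iff_of_sub h3).2 hmem))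
  have hebn : blockCoeff b n' = orbitIdem N b g := by
    rw [← hres, ← hE.1 g a⁻¹]
    rfl
  have hbdef : IsDefectGroup p M b ((P ⊓ N).subgroupOf N) := by
    refine ⟨n', ⟨(isRCentral_blockCoeff hM hb).2 n', by rw [hebn]; exact hge, fun θ hθ hmem => hunit ?_⟩,
      V, hVP.symm⟩
    exact memLocalIdeal_mul_left (memLocalRing_natCast _)
      ((memLocalIdeal_iff_of_sub ((IsPBlock.sameBlock hb hθ hθ₀) n')).1 hmem)
  have ht : ¬ p ∣ Cs.card := fun hd => hunit (memLocalIdeal_mul_right
    ((memLocalIdeal_natCast_iff hM _).2 hd) (memLocalRing_centralChar θ₀ _))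
  -- comparing the class sizes
  have hclass : (Subgroup.centralizer ({g'} : Set G)).index =
      Cs.card * (Subgroup.centralizer ({n'} : Set N)).index := by
    have h1 := hsumC (trivIrr N)
    have h2 : omega (trivIrr N : N → ℂ) (resFun N (classIndicator g')) =
        ((Subgroup.centralizer ({g'} : Set G)).index : ℂ) := by
      simp only [omega, trivIrr_apply, mul_one, div_one, resFun, classIndicator]
      rw [← Finset.natCast_card_filter, ← card_conj_eq_index]
      norm_cast
      rw [← Fintype.card_subtype, ← Nat.card_eq_fintype_card]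
      refine Nat.card_congr
        { toFun := fun x => ⟨(x.1 : G), x.2⟩
          invFun := fun x => ⟨⟨x.1, by
            obtain ⟨c, hc⟩ := isConj_iff.1 x.2
            exact hc ▸ hN.conj_mem _ hg'N c⟩, x.2⟩
          left_inv := fun x => rfl
          right_inv := fun x => rfl }
    rw [h2] at h1
    simp only [centralChar, trivIrr_apply, mul_one, div_one] at h1
    rw [← Nat.cast_sum, Nat.cast_inj, Finset.sum_congr rfl (fun C hC => (hsame C (Finset.mem_filter.1 hC).2).2),
      Finset.sum_const, smul_eq_mul] at h1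
    exact h1
  set a' := (Nat.card G).factorization p
  have e1 := congrArg (fun n : ℕ => n.factorization p) (Subgroup.card_mul_index (Subgroup.centralizer ({g'} : Set G)))
  have e2 := congrArg (fun n : ℕ => n.factorization p) (Subgroup.card_mul_index (Subgroup.centralizer ({n'} : Set N)))
  have e3 := congrArg (fun n : ℕ => n.factorization p) (Subgroup.card_mul_index N)
  have e4 := congrArg (fun n : ℕ => n.factorization p) hclass
  have hi0 : ∀ H : Subgroup G, H.index ≠ 0 := fun H => Subgroup.index_ne_zero_of_finite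
  have hi0' : ∀ H : Subgroup N, H.index ≠ 0 := fun H => Subgroup.index_ne_zero_of_finite
  have hCs0 : Cs.card ≠ 0 := fun h0 => ht (h0 ▸ dvd_zero p)
  simp only [Nat.factorization_mul Nat.card_pos.ne' (hi0 _), Nat.factorization_mul Nat.card_pos.ne' (hi0' _),
    Nat.factorization_mul hCs0 (hi0' _), Finsupp.coe_add, Pi.add_apply, hcardC,
    Nat.factorization_eq_zero_of_not_dvd ht] at e1 e2 e3 e4
  have hCn : (Nat.card (Subgroup.centralizer ({n'} : Set N))).factorization p = blockDefect p b :=
    Nat.pow_right_injective hp.two_le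
      ((card_sylowSub V).symm.trans (hVP ▸ IsDefectGroup.card_eq hM hb hbdef))
  rw [hCn] at e2
  refine ⟨fun hdvd => ?_, hbdef, by omega⟩
  have hPN : (Nat.card (P ⊓ N : Subgroup G)) = p ^ blockDefect p b := by
    rw [← IsDefectGroup.card_eq hM hb hbdef]
    exact (Nat.card_congr (Subgroup.subgroupOfEquivOfLe (inf_le_right : P ⊓ N ≤ N)).toEquiv).symm
  have e5 := congrArg (fun n : ℕ => n.factorization p) (Cfsg.Agent.Lib.Cores.card_sup_mul_card_inf P N)
  rw [hPN, hPcard] at e5
  simp only [Nat.factorization_mul Nat.card_pos.ne' (pow_ne_zero _ hp.ne_zero),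
    Nat.factorization_mul (pow_ne_zero _ hp.ne_zero) Nat.card_pos.ne', Finsupp.coe_add, Pi.add_apply,
    hp.factorization_pow, Finsupp.single_eq_same] at e5
  have e6 := congrArg (fun n : ℕ => n.factorization p) (Subgroup.card_mul_index (P ⊔ N))
  simp only [Nat.factorization_mul Nat.card_pos.ne' (hi0 _), Finsupp.coe_add, Pi.add_apply] at e6
  have h7 : 0 < (P ⊔ N).index.factorization p := hp.factorization_pos_of_dvd (hi0 _) hdvd
  omega

end Cfsg.Agent.S0970
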