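import Cfsg.Statements.S0971
import Cfsg.Agent.Lib.Blocks.Quotient

set_option autoImplicit false
open Cfsg
open Cfsg.Agent.Lib.Blocks Cfsg.Agent.Lib.Characters
open scoped ComplexConjugate

namespace Cfsg.Agent.S0971

/-- Let Q be a normal p-subgroup of the finite group G, let N = Q ⊔ C_G(Q) (a normal subgroup) and let b be a block of N relative to a maximal ideal M of the algebraic integers containing p. Then b induces some block of G, and every block B of G containing a character whose restriction to N has a constituent in b is induced by b. -/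
theorem result {G : Type*} [Group G] [Fintype G] (p : ℕ) [Fact p.Prime] (M : Ideal Cfsg.AlgInt) (hM : Cfsg.IsPModular p M) (Q : Subgroup G) [Q.Normal] (hQ : IsPGroup p Q) [Fintype ↥(Q ⊔ Subgroup.centralizer (Q : Set G))] (b : Set (Cfsg.IrrCharacter ↥(Q ⊔ Subgroup.centralizer (Q : Set G)))) (hb : Cfsg.IsPBlock M b) : Cfsg.InducedBlockDefined M (Q ⊔ Subgroup.centralizer (Q : Set G)) b ∧ ∀ B : Set (Cfsg.IrrCharacter G), Cfsg.IsPBlock M B → (∃ χ ∈ B, ∃ θ ∈ b, Cfsg.classInner (fun n : ↥(Q ⊔ Subgroup.centralizer (Q : Set G)) => (χ : G → ℂ) n) (θ : ↥(Q ⊔ Subgroup.centralizer (Q : Set G)) → ℂ) ≠ 0) → Cfsg.IsInducedBlock M (Q ⊔ Subgroup.centralizer (Q : Set G)) b B := by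
  classical
  haveI := isPrime_of_isPModular hM
  have hle : Q ≤ Q ⊔ Subgroup.centralizer (Q : Set G) := le_sup_left
  have hCH : Subgroup.centralizer (Q : Set G) ≤ Q ⊔ Subgroup.centralizer (Q : Set G) := le_sup_right
  have hHN : Q ⊔ Subgroup.centralizer (Q : Set G) ≤ Subgroup.normalizer (Q : Set G) :=
    sup_le Subgroup.le_normalizer (Subgroup.centralizer_le_normalizer _)
  haveI : (Q ⊔ Subgroup.centralizer (Q : Set G)).Normal := inferInstance
  obtain ⟨ξ, hξ⟩ := IsPBlock.nonempty hb
  obtain ⟨ψ, hψ⟩ := exists_induced_char hM hQ hle hCH hHN ξ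
  refine ⟨⟨_, isInducedBlock_of_pair hb (isPBlock_blockOf ψ) hξ (self_mem_blockOf ψ) fun g => by
    have h := hψ _ (isRCentral_classIndicator (M := M) g)
    rwa [omega_classIndicator (irr_isClassFunction ψ)] at h⟩, ?_⟩
  rintro B hB ⟨χ, hχ, θ, hθ, hc⟩
  refine isInducedBlock_of_pair hb hB hθ hχ fun g => ?_
  by_cases hg : g ∈ Q ⊔ Subgroup.centralizer (Q : Set G)
  · rw [← omega_classIndicator (irr_isClassFunction χ) g,
      omega_eq_of_constituent (Q ⊔ Subgroup.centralizer (Q : Set G)) hc
        (isClassFunction_classIndicator g) fun x hx => if_neg fun hgx => hx ?_, sub_self]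
    · exact memLocalIdeal_zero
    · obtain ⟨a, rfl⟩ := isConj_iff.1 hgx
      exact Subgroup.Normal.conj_mem inferInstance _ hg a
  · have h0 : resFun (Q ⊔ Subgroup.centralizer (Q : Set G)) (classIndicator g) = 0 := by
      funext y
      refine if_neg fun hgy => hg ?_
      obtain ⟨a, ha⟩ := isConj_iff.1 hgy.symm
      exact ha ▸ Subgroup.Normal.conj_mem inferInstance _ y.2 a
    rw [h0, omega_zero, zero_sub]
    refine memLocalIdeal_neg ?_
    by_contra hne
    exact hg (hCH (mem_centralizer_of_centralChar_ne hM hQ hne))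

end Cfsg.Agent.S0971
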