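import Cfsg.Statements.S0972
import Cfsg.Agent.Lib.Blocks.Green
import Cfsg.Agent.Lib.Blocks.Transport
import Cfsg.Agent.Lib.Characters.Ito
import Cfsg.Agent.Lib.Characters.Clifford
import Cfsg.Agent.Lib.Characters.Kernel

set_option autoImplicit false
open Cfsg
open Cfsg.Agent.Lib Cfsg.Agent.Lib.Blocks Cfsg.Agent.Lib.Characters
open scoped ComplexConjugate

namespace Cfsg.Agent.S0972

/-- Let B be a block of the finite group G (relative to a maximal ideal M of the algebraic integers containing the prime p) with a defect group P that is normal in G. Then P is commutative if and only if every member of B has height zero. -/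
theorem result {G : Type*} [Group G] [Finite G] (p : ℕ) [Fact p.Prime] (M : Ideal Cfsg.AlgInt) (hM : Cfsg.IsPModular p M) (B : Set (Cfsg.IrrCharacter G)) (hB : Cfsg.IsPBlock M B) (P : Subgroup G) [P.Normal] (hP : Cfsg.IsDefectGroup p M B P) : (∀ a ∈ P, ∀ c ∈ P, a * c = c * a) ↔ ∀ χ ∈ B, Cfsg.blockHeight p B (χ : G → ℂ) = 0 := by
  classical
  haveI := Fintype.ofFinite G
  haveI := Fintype.ofFinite P
  haveI := isPrime_of_isPModular hM
  have hp : p.Prime := Fact.out
  have hcardP := IsDefectGroup.card_eq hM hB hP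
  have hak := BlockHeights.blockDefect_add_minExp (p := p) hB
  set k := BlockHeights.minExp p B with hk
  constructor
  · intro hab χ hχ
    have hdvd := IsIrrCharacter.degree_dvd_index_of_abelian χ.2 P hab (charDegree_eq χ).symm
    have h1 := Subgroup.card_mul_index P
    have hidx : P.index.factorization p = k := by
      have h2 := congrArg (fun n : ℕ => n.factorization p) h1
      simp only [hcardP, Nat.factorization_mul (pow_ne_zero _ hp.ne_zero) Subgroup.index_ne_zero_of_finite,
        Finsupp.coe_add, Pi.add_apply, hp.factorization_pow, Finsupp.single_eq_same] at h2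
      omega
    have h2 := (Nat.factorization_le_iff_dvd (charDegree_pos χ).ne' Subgroup.index_ne_zero_of_finite).2 hdvd p
    have h3 := BlockHeights.minExp_add_blockHeight (p := p) hχ
    simp only [BlockHeights.nu] at h3
    omega
  · intro h0 a ha c hc
    by_contra hne
    let w : P := ⟨a, ha⟩ * ⟨c, hc⟩ * ⟨a, ha⟩⁻¹ * ⟨c, hc⟩⁻¹
    have hw1 : (w : G) ≠ 1 := by
      intro h
      change a * c * a⁻¹ * c⁻¹ = 1 at h
      rw [mul_inv_eq_one, mul_inv_eq_iff_eq_mul] at h
      exact hne h
    have hwc : w ∈ commutator P :=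
      Subgroup.commutator_mem_commutator (Subgroup.mem_top _) (Subgroup.mem_top _)
    have hwp : p ∣ orderOf (w : G) := by
      rw [Subgroup.orderOf_coe]
      obtain ⟨i, hi⟩ := IsDefectGroup.isPGroup hP w
      obtain ⟨j, -, hj⟩ := (Nat.dvd_prime_pow hp).1 (orderOf_dvd_of_pow_eq_one hi)
      rw [hj]
      exact dvd_pow_self p fun hj0 => hw1 (congrArg Subtype.val
        (orderOf_eq_one_iff.1 (by rw [hj, hj0, pow_zero]) : w = 1))
    obtain ⟨χ, hχ, hχw⟩ : ∃ χ ∈ B, (χ : G → ℂ) w ≠ (χ : G → ℂ) 1 := by
      by_contra hall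
      push Not at hall
      have h1 := blockCoeff_eq_zero_of_dvd hM hB hwp
      have h2 : blockCoeff B 1 = 0 := by
        rw [← h1, blockCoeff, blockCoeff]
        congr 1
        exact finsum_mem_congr rfl fun χ hχ => by rw [hall χ hχ]
      exact not_memLocalIdeal_blockCoeff_one hM hB (by rw [h2, zero_div]; exact memLocalIdeal_zero)
    obtain ⟨g, hg, S, hPS⟩ := id hP
    have hgP : g ∈ Subgroup.centralizer (P : Set G) := by
      have h := mem_centralizer_sylowSub S
      rwa [show sylowSub S = P from hPS.symm] at h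
    -- every constituent on `P` is nonlinear
    have hnl : ∀ ζ : IrrCharacter P,
        classInner (fun u : P => (χ : G → ℂ) u) (ζ : P → ℂ) ≠ 0 → p ∣ charDegree (ζ : P → ℂ) := by
      intro ζ hζ
      obtain ⟨n, -, hn, hdvd⟩ := IsIrrCharacter.exists_degree_dvd ζ.2
      have hn' : charDegree (ζ : P → ℂ) = n := by exact_mod_cast (charDegree_eq ζ).trans hn
      rw [hn']
      rw [hcardP] at hdvd
      obtain ⟨j, -, rfl⟩ := (Nat.dvd_prime_pow hp).1 hdvd
      refine dvd_pow_self p fun hj => hχw ?_
      have hlin : (ζ : P → ℂ) 1 = 1 := by rw [hn, hj, pow_zero, Nat.cast_one]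
      have hres := restrict_eq_smul_sum P χ.2 ζ.2 hζ
      have h1 := congrFun hres w
      have h2 := congrFun hres (1 : P)
      simp only [Pi.smul_apply, Finset.sum_apply, OneMemClass.coe_one] at h1 h2
      rw [h1, h2]
      congr 1
      refine Finset.sum_congr rfl fun η hη => ?_
      obtain ⟨t, ht⟩ := Set.mem_range.1 ((Set.Finite.mem_toFinset _).1 hη)
      have h3 : η 1 = 1 := by rw [← ht, conjFun_apply_one, hlin]
      rw [h3]
      exact IsCharacter.apply_of_mem_commutator
        (ht ▸ IsCharacter.conjFun P (irr_isCharacter ζ) t) h3 hwc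
    -- the value at `g` is divisible by `p`
    have hval : IsIntegral ℤ ((χ : G → ℂ) g / (p : ℂ)) := by
      set H := P ⊔ Subgroup.zpowers g with hH
      haveI := Fintype.ofFinite H
      haveI := Fintype.ofFinite (IrrCharacter H)
      have hgH : g ∈ H := Subgroup.mem_sup_right (Subgroup.mem_zpowers g)
      have hPH : P ≤ H := le_sup_left
      have hdec : ∀ h ∈ H, ∃ u ∈ P, ∃ i : ℤ, h = u * g ^ i := by
        intro h hh
        obtain ⟨u, hu, z, hz, rfl⟩ := Subgroup.mem_sup_of_normal_left.1 hh
        obtain ⟨i, rfl⟩ := Subgroup.mem_zpowers_iff.1 hz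
        exact ⟨u, hu, i, rfl⟩
      have hcent : ∀ h ∈ H, h * g = g * h := by
        intro h hh
        obtain ⟨u, hu, i, rfl⟩ := hdec h hh
        exact ((show Commute u g from hgP u hu).mul_left ((Commute.refl g).zpow_left i)).eq
      haveI hn : (P.subgroupOf H).Normal := Subgroup.Normal.subgroupOf inferInstance H
      haveI := Fintype.ofFinite (P.subgroupOf H)
      have hres := IsCharacter.restrict (irr_isCharacter χ) H
      have hd := eq_sum_classInner (IsCharacter.isClassFunction hres)
      have hv := congrFun hd ⟨g, hgH⟩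
      simp only [Finset.sum_apply, Pi.smul_apply, smul_eq_mul] at hv
      rw [hv, Finset.sum_div]
      refine IsIntegral.sum _ fun η _ => ?_
      obtain ⟨n, hn'⟩ := IsCharacter.exists_classInner_nat hres (irr_isCharacter η)
      rw [hn']
      by_cases hn0 : n = 0
      · rw [hn0]; simpa using isIntegral_zero
      have hcg : centralChar (η : H → ℂ) ⟨g, hgH⟩ = (η : H → ℂ) ⟨g, hgH⟩ / (η : H → ℂ) 1 := by
        rw [centralChar, show Subgroup.centralizer ({(⟨g, hgH⟩ : H)} : Set H) = ⊤ from
          eq_top_iff.2 fun h _ w hw => by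
            rw [Set.mem_singleton_iff] at hw
            rw [hw]
            exact Subtype.ext (hcent h h.2).symm, Subgroup.index_top]
        simp
      have hint := isIntegral_centralChar_irr η.2 ⟨g, hgH⟩
      rw [hcg] at hint
      -- the degree of η is divisible by p
      haveI := Fintype.ofFinite (IrrCharacter P)
      have hrP := IsCharacter.comp (irr_isCharacter η) (Subgroup.inclusion hPH)
      obtain ⟨ζ, hζ⟩ := IsCharacter.exists_constituent hrP
        (fun h => IsIrrCharacter.apply_one_ne_zero η.2 (by simpa [Function.comp_apply] using congrFun h 1))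
      have hζχ : classInner (fun u : P => (χ : G → ℂ) u) (ζ : P → ℂ) ≠ 0 := by
        obtain ⟨m, hm⟩ := IsCharacter.exists_classInner_nat hrP (irr_isCharacter ζ)
        have hm0 : m ≠ 0 := fun h => hζ (by rw [hm, h, Nat.cast_zero])
        have hex : ∀ θ : IrrCharacter H, ∃ r : ℕ,
            classInner (fun h : H => (χ : G → ℂ) h) (θ : H → ℂ) *
              classInner ((θ : H → ℂ) ∘ Subgroup.inclusion hPH) (ζ : P → ℂ) = r := fun θ => by
          obtain ⟨r1, hr1⟩ := IsCharacter.exists_classInner_nat hres (irr_isCharacter θ)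
          obtain ⟨r2, hr2⟩ := IsCharacter.exists_classInner_nat
            (IsCharacter.comp (irr_isCharacter θ) (Subgroup.inclusion hPH)) (irr_isCharacter ζ)
          exact ⟨r1 * r2, by rw [hr1, hr2, Nat.cast_mul]⟩
        choose r hr using hex
        have heq : classInner (fun u : P => (χ : G → ℂ) u) (ζ : P → ℂ) = ∑ θ : IrrCharacter H, (r θ : ℂ) := by
          simp only [← hr]
          rw [show (fun u : P => (χ : G → ℂ) u) =
            ∑ θ : IrrCharacter H, classInner (fun h : H => (χ : G → ℂ) h) (θ : H → ℂ) •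
              ((θ : H → ℂ) ∘ Subgroup.inclusion hPH) from funext fun u => by
              simpa [Finset.sum_apply] using congrFun hd (Subgroup.inclusion hPH u), classInner_sum_left]
          simp [classInner_smul_left]
        rw [heq, ← Nat.cast_sum, Nat.cast_ne_zero]
        refine (lt_of_lt_of_le (Nat.pos_of_ne_zero fun h => ?_) (Finset.single_le_sum (fun θ _ => Nat.zero_le (r θ)) (Finset.mem_univ η))).ne'
        have := hr η
        rw [h, hn', hm, Nat.cast_zero, mul_eq_zero, Nat.cast_eq_zero, Nat.cast_eq_zero] at this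
        tauto
      obtain ⟨q, hq⟩ := hnl ζ hζχ
      have hinv : ∀ h : H, ∀ u : P, (ζ : P → ℂ) ⟨(h : G) * u * (h : G)⁻¹, (inferInstance : P.Normal).conj_mem _ u.2 _⟩ = (ζ : P → ℂ) u := by
        intro h u
        obtain ⟨v, hv, i, hi⟩ := hdec h h.2
        have e : (⟨(h : G) * u * (h : G)⁻¹, (inferInstance : P.Normal).conj_mem _ u.2 _⟩ : P) =
            (⟨v, hv⟩ : P) * u * (⟨v, hv⟩ : P)⁻¹ := Subtype.ext (by
          have hc : Commute (g ^ i) (u : G) := ((show Commute (u : G) g from hgP u u.2).symm).zpow_left i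
          show (h : G) * u * (h : G)⁻¹ = v * u * v⁻¹
          rw [hi, mul_inv_rev, mul_assoc v (g ^ i) (u : G), hc.eq]
          group)
        rw [e]
        exact irr_isClassFunction ζ u ⟨v, hv⟩
      have hdeg : ∃ c : ℕ, (η : H → ℂ) 1 = (c : ℂ) * (charDegree (ζ : P → ℂ) : ℂ) := by
        let eP := Subgroup.subgroupOfEquivOfLe hPH
        let ζ' : IrrCharacter (P.subgroupOf H) := compEquivIrr eP ζ
        have hinv' : ∀ t : H, conjFun (P.subgroupOf H) t (ζ' : P.subgroupOf H → ℂ) = (ζ' : P.subgroupOf H → ℂ) :=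
          fun t => funext fun x => hinv t (eP x)
        have hcon' : classInner (fun x : P.subgroupOf H => (η : H → ℂ) x) (ζ' : P.subgroupOf H → ℂ) ≠ 0 := by
          convert hζ using 1
          rw [classInner, classInner, Nat.card_congr eP.toEquiv]
          congr 1
          exact Fintype.sum_equiv eP.toEquiv _ _ fun x => rfl
        obtain ⟨c, hc⟩ := IsCharacter.exists_classInner_nat
          (IsCharacter.restrict (irr_isCharacter η) (P.subgroupOf H)) (irr_isCharacter ζ')
        have h := congrFun (restrict_eq_smul_of_invariant (P.subgroupOf H) η.2 ζ'.2 hinv' hcon') 1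
        refine ⟨c, ?_⟩
        rw [charDegree_eq]
        simp only [Pi.smul_apply, smul_eq_mul, OneMemClass.coe_one] at h
        rw [h, hc]
        show _ * (ζ : P → ℂ) (eP 1) = _
        rw [map_one]
      obtain ⟨c, hc⟩ := hdeg
      have hp0 : (p : ℂ) ≠ 0 := Nat.cast_ne_zero.2 hp.ne_zero
      have hη0 := IsIrrCharacter.apply_one_ne_zero η.2
      rw [show (n : ℂ) * (η : H → ℂ) ⟨g, hgH⟩ / (p : ℂ) =
        ((n * c * q : ℕ) : ℂ) * ((η : H → ℂ) ⟨g, hgH⟩ / (η : H → ℂ) 1) from by
          conv_lhs => rw [← div_mul_cancel₀ ((η : H → ℂ) ⟨g, hgH⟩) hη0]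
          rw [hc, hq]
          push_cast
          field_simp]
      exact (isIntegral_algebraMap (R := ℤ) (A := ℂ) (x := ((n * c * q : ℕ) : ℤ))).mul hint
    -- contradiction with the unit central character
    have hh := h0 χ hχ
    have hν := BlockHeights.minExp_add_blockHeight (p := p) hχ
    rw [hh, add_zero, BlockHeights.nu] at hν
    obtain ⟨n', hn', hn'p⟩ := exists_eq_pow_mul hp (charDegree_pos χ).ne'
    obtain ⟨i', hi', -⟩ := exists_eq_pow_mul hp
      (Subgroup.index_ne_zero_of_finite (H := Subgroup.centralizer ({g} : Set G)))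
    have hidx : (Subgroup.centralizer ({g} : Set G)).index.factorization p = k := by
      have h2 := congrArg (fun n : ℕ => n.factorization p)
        (Subgroup.card_mul_index (Subgroup.centralizer ({g} : Set G)))
      simp only [Nat.factorization_mul Nat.card_pos.ne' Subgroup.index_ne_zero_of_finite,
        Finsupp.coe_add, Pi.add_apply] at h2
      have h3 : (Nat.card (Subgroup.centralizer ({g} : Set G))).factorization p = blockDefect p B := by
        refine Nat.pow_right_injective hp.two_le ?_
        show p ^ _ = p ^ _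
        rw [← hcardP, hPS]
        exact (card_sylowSub S).symm
      omega
    rw [← hν, ← hk] at hn'
    rw [hidx] at hi'
    apply hg.2.2 χ hχ
    rw [centralChar, hi', ← charDegree_eq χ, hn']
    have hp0 : (p : ℂ) ≠ 0 := Nat.cast_ne_zero.2 hp.ne_zero
    have hn0 : (n' : ℂ) ≠ 0 := Nat.cast_ne_zero.2 fun h => hn'p (h ▸ dvd_zero p)
    rw [show ((p ^ k * i' : ℕ) : ℂ) * (χ : G → ℂ) g / ((p ^ k * n' : ℕ) : ℂ) =
      (p : ℂ) * ((i' : ℂ) * ((n' : ℂ)⁻¹ * ((χ : G → ℂ) g / p))) from by push_cast; field_simp]
    exact memLocalIdeal_of_p_mul hM (memLocalRing_mul (memLocalRing_natCast _)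
      (memLocalRing_mul (memLocalRing_inv_natCast hM hn'p) (memLocalRing_of_isIntegral' hval)))

end Cfsg.Agent.S0972
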