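import Cfsg.Statements.S0979
import Cfsg.Agent.Lib.SylowCounting.DegreeThree
import Cfsg.Agent.Lib.SylowCounting.DegreeKill
open Cfsg.Agent.Lib.SylowCounting

set_option autoImplicit false
open Cfsg

namespace Cfsg.Agent.S0979

/-- No finite simple group has order 5472 = 2^5 * 3^2 * 19. -/
theorem result {G : Type*} [Group G] [Finite G] [IsSimpleGroup G] : Nat.card G ≠ 5472 := by
  intro hcard
  haveI : Fact (Nat.Prime 19) := ⟨by norm_num⟩
  have hG : ¬ IsMulCommutative G := not_comm_of_not_prime (by rw [hcard]; norm_num)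
  have hc : Nat.card G = 19 ^ 1 * 288 := by rw [hcard]; norm_num
  have hr := sylow_count_candidates hc (by norm_num) (by norm_num) (by norm_num)
  rw [show candidates 19 288 = {96} by decide +kernel, Finset.mem_singleton] at hr
  let P : Sylow 19 G := default
  have hP : Nat.card (P : Subgroup G) = 19 := by rw [sylow_card hc (by norm_num) P, pow_one]
  have hN : Nat.card (Subgroup.normalizer ((P : Subgroup G) : Set G)) = 57 := by
    have h1 := (Subgroup.normalizer ((P : Subgroup G) : Set G)).index_mul_card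
    have h2 : (Subgroup.normalizer ((P : Subgroup G) : Set G)).index = 96 := by
      rw [← hr, Sylow.card_eq_index_normalizer P]; rfl
    rw [h2, hcard] at h1
    omega
  obtain ⟨e, c, hec, he1, hed, hpc, hcC⟩ := normalizer_card_eq hG P hP
  obtain ⟨k, rfl⟩ := hpc
  rw [hN] at hec
  have h3 : e * k = 3 := by linarith
  have he3 : e = 3 :=
    ((Nat.dvd_prime (by norm_num : Nat.Prime 3)).1 ⟨k, h3.symm⟩).resolve_left (by omega)
  subst he3
  obtain rfl : k = 1 := by omega
  obtain ⟨d₁, d₂, f, hd1, hd2, hf1, hd1d, hd2d, hfd, hsum, ε₁, ε₂, he₁, he₂, hc1, hc2, hf⟩ :=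
    degree_equation_three hG (by norm_num : Nat.Prime 19) (P : Subgroup G) hP
      (by rw [← hcC]) (by rw [hN]) {1, 2, 4, 5, 10} (by decide) (by decide) (by decide)
  rw [hcard] at hd1d hd2d hfd hsum
  -- both common degrees are eighteen
  have key : ∀ d : ℕ, ∀ ε : ℤ, 1 < d → d ∣ 5472 → d ^ 2 ≤ 5472 → ε ^ 2 = 1 →
      (19 : ℤ) ∣ (d : ℤ) - ε → d = 18 ∧ ε = -1 := by
    intro d ε hd hdd hdb hε hcong
    have hdt : d < 74 := by nlinarith
    rcases sq_eq_one_iff.1 hε with rfl | rfl
    · exfalso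
      revert hd hdd hdb hcong
      revert d
      decide +kernel
    · refine ⟨?_, rfl⟩
      revert hd hdd hdb hcong
      revert d
      decide +kernel
  obtain ⟨rfl, rfl⟩ := key d₁ ε₁ hd1 hd1d (by omega) he₁ hc1
  obtain ⟨rfl, rfl⟩ := key d₂ ε₂ hd2 hd2d (by omega) he₂ hc2
  norm_num at hf
  rw [← hf] at hfd
  norm_num at hfd

end Cfsg.Agent.S0979
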