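import Cfsg.Statements.S0981
import Cfsg.Agent.Lib.SylowCounting.EvenPSL
import Mathlib

set_option autoImplicit false
set_option linter.style.haveILetI false
set_option maxHeartbeats 1000000
open Cfsg

namespace Cfsg.Agent.S0981

open Cfsg.Agent.Lib.SylowCounting

/-- Disjoint predicates. -/
theorem sum_four_le {α : Type*} [Finite α] (A B C D : α → Prop) (hAB : ∀ x, A x → ¬ B x) (hC : ∀ x, A x ∨ B x → ¬ C x)
    (hD : ∀ x, (A x ∨ B x) ∨ C x → ¬ D x) :
    Nat.card {x // A x} + Nat.card {x // B x} + Nat.card {x // C x} + Nat.card {x // D x} ≤ Nat.card α := by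
  have h1 := card_add_le_of_disjoint A B hAB
  have h2 := card_add_le_of_disjoint (fun x => A x ∨ B x) C hC
  have h3 := card_add_le_of_disjoint (fun x => (A x ∨ B x) ∨ C x) D hD
  have h4 := Nat.card_le_card_of_injective
    (Subtype.val : {x // ((A x ∨ B x) ∨ C x) ∨ D x} → α) Subtype.val_injective
  omega

/-- An odd prime divisor of the order excludes 2-power order. -/
theorem not_two_elem {G : Type*} [Group G] {r : ℕ} (hr : r.Prime) (hr2 : r ≠ 2) {g : G} (hd : r ∣ orderOf g) :
    ¬ ∃ j, g ^ 2 ^ j = 1 := fun ⟨j, hj⟩ =>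
  hr2 ((Nat.prime_dvd_prime_iff_eq hr Nat.prime_two).1 (hr.dvd_of_dvd_pow (hd.trans (orderOf_dvd_of_pow_eq_one hj))))

/-- A prime dividing a centralizer cannot be one with self-centralizing Sylow subgroups. -/
theorem not_dvd_of_self {G : Type*} [Group G] [Finite G] {p r : ℕ} [hp : Fact p.Prime] [hr : Fact r.Prime]
    (P : Sylow p G) (hP : Nat.card (P : Subgroup G) = p) (R : Sylow r G) (hR : Nat.card (R : Subgroup G) = r)
    (hc : Nat.card (Subgroup.centralizer ((R : Subgroup G) : Set G)) = r) (hne : p ≠ r) :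
    ¬ r ∣ Nat.card (Subgroup.centralizer ((P : Subgroup G) : Set G)) := fun h => by
  have := dvd_centralizer_swap P hP R hR h
  rw [hc] at this
  exact hne ((Nat.prime_dvd_prime_iff_eq hp.out hr.out).1 this)

variable {G : Type*} [Group G] [Finite G] [IsSimpleGroup G]

theorem psl16 (h : Nat.card G = 4080) {F : Type*} [Field F] [Fintype F] (hF : Fintype.card F = 16) :
    Nonempty (G ≃* Matrix.ProjectiveSpecialLinearGroup (Fin 2) F) := by
  classical
  have hG : ¬ IsMulCommutative G := not_comm_of_not_prime (by rw [h]; norm_num)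
  haveI : Fact (Nat.Prime 2) := ⟨by norm_num⟩
  haveI : Fact (Nat.Prime 3) := ⟨by norm_num⟩
  haveI : Fact (Nat.Prime 5) := ⟨by norm_num⟩
  haveI : Fact (Nat.Prime 17) := ⟨by norm_num⟩
  obtain ⟨P3⟩ : Nonempty (Sylow 3 G) := inferInstance
  obtain ⟨P5⟩ : Nonempty (Sylow 5 G) := inferInstance
  obtain ⟨P17⟩ : Nonempty (Sylow 17 G) := inferInstance
  have h3 : Nat.card (P3 : Subgroup G) = 3 := by
    simpa using sylow_card (p := 3) (k := 1) (m := 1360) (by rw [h]; norm_num) (by norm_num) P3
  have h5 : Nat.card (P5 : Subgroup G) = 5 := by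
    simpa using sylow_card (p := 5) (k := 1) (m := 816) (by rw [h]; norm_num) (by norm_num) P5
  have h17 : Nat.card (P17 : Subgroup G) = 17 := by
    simpa using sylow_card (p := 17) (k := 1) (m := 240) (by rw [h]; norm_num) (by norm_num) P17
  -- seventeen
  have n17 := sylow_count_candidates (G := G) (p := 17) (k := 1) (m := 240) (by rw [h]; norm_num) (by norm_num) one_ne_zero (by norm_num)
  rw [show candidates 17 240 = {120} by decide +kernel, Finset.mem_singleton] at n17
  obtain ⟨e17, heq17, he17, -, hd17⟩ := sylow_data hG P17 h17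
  rw [h, n17] at heq17
  have c17 : Nat.card (Subgroup.centralizer ((P17 : Subgroup G) : Set G)) = 17 := by
    obtain ⟨k, hk⟩ := hd17
    rw [hk] at heq17
    have hk1 : k * e17 = 2 := by nlinarith [heq17]
    have : k ∣ 2 := Dvd.intro e17 hk1
    rcases (Nat.dvd_prime Nat.prime_two).1 this with rfl | rfl
    · rw [hk, mul_one]
    · omega
  have no17_3 := not_dvd_of_self P3 h3 P17 h17 c17 (by norm_num)
  have no17_5 := not_dvd_of_self P5 h5 P17 h17 c17 (by norm_num)
  have hsmall : ∀ (p : ℕ) [Fact p.Prime], Nat.card (Sylow p G) ≠ 1 → ¬ Nat.card (Sylow p G) ≤ 7 := by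
    intro p _ h1 hle
    have hd := two_card_dvd_sylow_factorial hG h1
    rw [h] at hd
    have := Nat.le_of_dvd (Nat.factorial_pos _) hd
    have h7 := Nat.factorial_le hle
    norm_num [Nat.factorial] at h7
    interval_cases hn : Nat.card (Sylow p G) <;> first | omega | norm_num [Nat.factorial] at hd
  -- three and five
  obtain ⟨e3, heq3, he3, hed3, hd3⟩ := sylow_data hG P3 h3
  obtain ⟨e5, heq5, he5, hed5, hd5⟩ := sylow_data hG P5 h5
  rw [h] at heq3 heq5
  have n3 := sylow_count_candidates (G := G) (p := 3) (k := 1) (m := 1360) (by rw [h]; norm_num) (by norm_num) one_ne_zero (by norm_num)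
  rw [show candidates 3 1360 = {4, 10, 16, 34, 40, 85, 136, 340, 1360} by decide +kernel] at n3
  have n5 := sylow_count_candidates (G := G) (p := 5) (k := 1) (m := 816) (by rw [h]; norm_num) (by norm_num) one_ne_zero (by norm_num)
  rw [show candidates 5 816 = {6, 16, 51, 136, 816} by decide +kernel] at n5
  simp only [Finset.mem_insert, Finset.mem_singleton] at n3 n5
  obtain rfl : e3 = 2 := by
    have := Nat.le_of_dvd (by norm_num) hed3
    omega
  have he5' : e5 = 2 ∨ e5 = 4 := by
    have : e5 ∣ 4 := hed5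
    have := Nat.le_of_dvd (by norm_num) this
    interval_cases e5 <;> first | omega | norm_num at *
  set c3 := Nat.card (Subgroup.centralizer ((P3 : Subgroup G) : Set G)) with hc3
  set c5 := Nat.card (Subgroup.centralizer ((P5 : Subgroup G) : Set G)) with hc5
  have swap35 : 5 ∣ c3 → 3 ∣ c5 := dvd_centralizer_swap P3 h3 P5 h5
  have swap53 : 3 ∣ c5 → 5 ∣ c3 := dvd_centralizer_swap P5 h5 P3 h3
  have hn4 : Nat.card (Sylow 3 G) ≠ 4 := fun e => hsmall 3 (by omega) (by omega)
  have hn6 : Nat.card (Sylow 5 G) ≠ 6 := fun e => hsmall 5 (by omega) (by omega)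
  have hcases : (c5 = 15 ∧ Nat.card (Sylow 5 G) = 136 ∧
        ((c3 = 15 ∧ Nat.card (Sylow 3 G) = 136) ∨ (c3 = 60 ∧ Nat.card (Sylow 3 G) = 34))) ∨
      (((c5 = 20 ∧ Nat.card (Sylow 5 G) = 51) ∨ (c5 = 40 ∧ Nat.card (Sylow 5 G) = 51)) ∧
        ((c3 = 24 ∧ Nat.card (Sylow 3 G) = 85) ∨ (c3 = 6 ∧ Nat.card (Sylow 3 G) = 340))) := by
    rcases n3 with e | e | e | e | e | e | e | e | e <;> rw [e] at heq3 <;>
      rcases n5 with e' | e' | e' | e' | e' <;> rw [e'] at heq5 <;>
      rcases he5' with rfl | rfl <;> omega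
  -- counting
  have A17 := card_orderOf_eq_prime (G := G) (p := 17) (fun P => by
    simpa using sylow_card (p := 17) (k := 1) (m := 240) (by rw [h]; norm_num) (by norm_num) P)
  rw [n17] at A17
  set S2 := Nat.card {g : G // g ≠ 1 ∧ ∃ j, g ^ 2 ^ j = 1}
  have total : ∀ a b : ℕ, a ≤ Nat.card {g : G // 3 ∣ orderOf g ∧ ¬ 17 ∣ orderOf g} →
      b ≤ Nat.card {g : G // 5 ∣ orderOf g ∧ ¬ 3 ∣ orderOf g ∧ ¬ 17 ∣ orderOf g} → 1920 + a + b + 1 + S2 ≤ 4080 := by
    intro a b ha hb
    have h0 := card_add_le_of_disjoint (fun g : G => g = 1) (fun g => g ≠ 1 ∧ ∃ j, g ^ 2 ^ j = 1) (fun g a b => b.1 a)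
    have hone : Nat.card {g : G // g = 1} = 1 := by simp
    have := sum_four_le (fun g : G => orderOf g = 17) (fun g => 3 ∣ orderOf g ∧ ¬ 17 ∣ orderOf g)
      (fun g => 5 ∣ orderOf g ∧ ¬ 3 ∣ orderOf g ∧ ¬ 17 ∣ orderOf g) (fun g => g = 1 ∨ (g ≠ 1 ∧ ∃ j, g ^ 2 ^ j = 1))
      (fun g h1 h2 => h2.2 (by rw [h1]))
      (fun g h1 h2 => h1.elim (fun e => h2.2.2 (by rw [e])) (fun e => h2.2.1 e.1))
      (fun g h1 h2 => by
        obtain ⟨r, hr, hr2, hrd⟩ : ∃ r, Nat.Prime r ∧ r ≠ 2 ∧ r ∣ orderOf g := by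
          rcases h1 with (e | e) | e
          · exact ⟨17, by norm_num, by norm_num, by rw [e]⟩
          · exact ⟨3, by norm_num, by norm_num, e.1⟩
          · exact ⟨5, by norm_num, by norm_num, e.1⟩
        rcases h2 with rfl | h2
        · rw [orderOf_one, Nat.dvd_one] at hrd
          exact hr.one_lt.ne' hrd
        · exact not_two_elem hr hr2 hrd h2.2)
    omega
  -- lower bounds
  have low3 : ∀ (M : Set G) (m : ℕ), Nat.Coprime 3 m → ¬ 17 ∣ 3 * m →
      (∀ x ∈ M, x ^ m = 1 ∧ ∀ y ∈ (P3 : Subgroup G), y * x = x * y) →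
      Nat.card (Sylow 3 G) * 2 * Nat.card M ≤ Nat.card {g : G // 3 ∣ orderOf g ∧ ¬ 17 ∣ orderOf g} := by
    intro M m hm h17m hM
    refine le_trans (count_lower P3 h3 M m hm hM) (Nat.card_le_card_of_injective
      (fun g => ⟨g.1, g.2.1, fun hd => h17m (hd.trans g.2.2)⟩) fun a b e =>
        Subtype.ext (congrArg (fun z : {g : G // 3 ∣ orderOf g ∧ ¬ 17 ∣ orderOf g} => z.1) e))
  have low5 : ∀ (M : Set G) (m : ℕ), Nat.Coprime 5 m → ¬ 17 ∣ 5 * m → ¬ 3 ∣ 5 * m →
      (∀ x ∈ M, x ^ m = 1 ∧ ∀ y ∈ (P5 : Subgroup G), y * x = x * y) →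
      Nat.card (Sylow 5 G) * 4 * Nat.card M ≤
        Nat.card {g : G // 5 ∣ orderOf g ∧ ¬ 3 ∣ orderOf g ∧ ¬ 17 ∣ orderOf g} := by
    intro M m hm h17m h3m hM
    refine le_trans (count_lower P5 h5 M m hm hM) (Nat.card_le_card_of_injective
      (fun g => ⟨g.1, g.2.1, fun hd => h3m (hd.trans g.2.2), fun hd => h17m (hd.trans g.2.2)⟩) fun a b e =>
        Subtype.ext (congrArg (fun z : {g : G // 5 ∣ orderOf g ∧ ¬ 3 ∣ orderOf g ∧ ¬ 17 ∣ orderOf g} => z.1) e))
  have sub2 : ∀ (K : Subgroup G) (a : ℕ), 2 ^ a ∣ Nat.card K → ∃ M : Subgroup G, M ≤ K ∧ Nat.card M = 2 ^ a := by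
    intro K a ha
    obtain ⟨M, hM⟩ := Sylow.exists_subgroup_card_pow_prime (G := K) 2 ha
    exact ⟨M.map K.subtype, Subgroup.map_subtype_le M, by rw [Subgroup.card_map_of_injective K.subtype_injective, hM]⟩
  have mpow : ∀ (M : Subgroup G) (x : G), x ∈ M → x ^ Nat.card M = 1 := fun M x hx =>
    orderOf_dvd_iff_pow_eq_one.1 (M.orderOf_dvd_natCard hx)
  have one5 : Nat.card (Sylow 5 G) * 4 ≤ Nat.card {g : G // 5 ∣ orderOf g ∧ ¬ 3 ∣ orderOf g ∧ ¬ 17 ∣ orderOf g} := by
    refine le_trans (le_of_eq ?_) (low5 {1} 1 (by norm_num) (by norm_num) (by norm_num) ?_)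
    · simp
    · rintro x rfl
      simp
  -- the right case
  obtain ⟨hc5v, hn5v, hc3v, hn3v⟩ : c5 = 15 ∧ Nat.card (Sylow 5 G) = 136 ∧ c3 = 15 ∧ Nat.card (Sylow 3 G) = 136 := by
    rcases hcases with ⟨a1, a2, ⟨b1, b2⟩ | ⟨b1, b2⟩⟩ | ⟨hA, hB⟩
    · exact ⟨a1, a2, b1, b2⟩
    · exfalso
      set C := Subgroup.centralizer ((P3 : Subgroup G) : Set G) with hC
      have hC5 : ∀ R : Sylow 5 C, Nat.card (R : Subgroup C) = 5 := fun R => by
        have := sylow_card (G := C) (p := 5) (k := 1) (m := 12) (by rw [show Nat.card C = c3 from rfl, b1]; norm_num) (by norm_num) R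
        simpa using this
      have hnC := card_sylow_modEq_one 5 C
      have hcnt := card_orderOf_eq_prime (G := C) (p := 5) hC5
      obtain ⟨R⟩ : Nonempty (Sylow 5 C) := inferInstance
      by_cases h1 : Nat.card (Sylow 5 C) = 1
      · haveI : Subsingleton (Sylow 5 C) := (Nat.card_eq_one_iff_unique.1 h1).1
        have hn : (R : Subgroup C).Normal := Sylow.normal_of_subsingleton R
        set R' := (R : Subgroup C).map C.subtype
        have hR' : Nat.card R' = 5 := by rw [Subgroup.card_map_of_injective C.subtype_injective, hC5 R]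
        let RG : Sylow 5 G := Sylow.ofCard R' (by
          rw [hR', ← Sylow.card_eq_multiplicity P5, h5])
        have hle : C ≤ Subgroup.normalizer (((RG : Subgroup G)) : Set G) := fun x hx => by
          rw [Sylow.coe_ofCard, Subgroup.mem_normalizer_iff]
          intro y
          constructor
          · rintro ⟨r, hr, rfl⟩
            exact ⟨⟨x, hx⟩ * r * ⟨x, hx⟩⁻¹, hn.conj_mem r hr _, rfl⟩
          · rintro ⟨r, hr, e⟩
            refine ⟨⟨x, hx⟩⁻¹ * r * ⟨x, hx⟩, by have := hn.conj_mem r hr (⟨x, hx⟩⁻¹); rwa [inv_inv] at this, ?_⟩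
            simp only [Subgroup.coe_subtype, Subgroup.coe_mul, Subgroup.coe_inv] at e ⊢
            rw [e]; group
        have := Nat.le_of_dvd Nat.card_pos (Subgroup.card_dvd_of_le hle)
        have hN : Nat.card (Subgroup.normalizer (((RG : Subgroup G)) : Set G)) * 136 = 4080 := by
          rw [← a2, RG.card_eq_index_normalizer, RG.coe_coe, Subgroup.card_mul_index, h]
        rw [show Nat.card C = c3 from rfl, b1] at this
        omega
      · have h6 : 6 ≤ Nat.card (Sylow 5 C) := by
          unfold Nat.ModEq at hnC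
          have := Nat.card_pos (α := Sylow 5 C)
          omega
        let M : Set G := {x | x ∈ C ∧ (orderOf x = 5 ∨ x = 1)}
        have hM : 25 ≤ Nat.card M := by
          have h24 : 24 ≤ Nat.card {g : C // orderOf g = 5} := by rw [hcnt]; omega
          have : Nat.card (Option {g : C // orderOf g = 5}) ≤ Nat.card M := by
            refine Nat.card_le_card_of_injective (fun o => match o with
              | none => ⟨1, C.one_mem, Or.inr rfl⟩
              | some g => ⟨g.1.1, g.1.2, Or.inl (by rw [Subgroup.orderOf_coe]; exact g.2)⟩) ?_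
            have hne : ∀ g : {g : C // orderOf g = 5}, ((g.1 : C) : G) ≠ 1 := fun g e => by
              have := g.2
              rw [← Subgroup.orderOf_coe, e, orderOf_one] at this
              omega
            intro o o' e
            match o, o' with
            | none, none => rfl
            | none, some g => exact absurd (congrArg Subtype.val e).symm (hne g)
            | some g, none => exact absurd (congrArg Subtype.val e) (hne g)
            | some g, some g' => exact congrArg some (Subtype.ext (Subtype.ext (congrArg Subtype.val e :)))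
          rw [Finite.card_option] at this
          omega
        have hl := low3 M 5 (by norm_num) (by norm_num) fun x hx => ⟨by
          rcases hx.2 with e | e
          · rw [← e, pow_orderOf_eq_one]
          · rw [e, one_pow], hx.1⟩
        rw [b2] at hl
        rw [a2] at one5
        have := total _ _ hl one5
        omega
    · exfalso
      obtain ⟨M3, hM3, hM3c⟩ : ∃ M : Subgroup G, M ≤ Subgroup.centralizer ((P3 : Subgroup G) : Set G) ∧
          Nat.card (Sylow 3 G) * 2 * Nat.card M = 1360 ∧ (Nat.card M = 8 ∨ Nat.card M = 2) := by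
        rcases hB with ⟨b1, b2⟩ | ⟨b1, b2⟩
        · obtain ⟨M, hM, hMc⟩ := sub2 _ 3 (by rw [← hc3, b1]; norm_num)
          exact ⟨M, hM, by rw [b2, hMc]; norm_num, Or.inl (by rw [hMc]; norm_num)⟩
        · obtain ⟨M, hM, hMc⟩ := sub2 _ 1 (by rw [← hc3, b1]; norm_num)
          exact ⟨M, hM, by rw [b2, hMc]; norm_num, Or.inr (by rw [hMc]; norm_num)⟩
      obtain ⟨M5, hM5, hM5c⟩ : ∃ M : Subgroup G, M ≤ Subgroup.centralizer ((P5 : Subgroup G) : Set G) ∧ Nat.card M = 4 := by
        rcases hA with ⟨a1, -⟩ | ⟨a1, -⟩ <;>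
        · obtain ⟨M, hM, hMc⟩ := sub2 _ 2 (by rw [← hc5, a1]; norm_num)
          exact ⟨M, hM, by rw [hMc]; norm_num⟩
      have a2 : Nat.card (Sylow 5 G) = 51 := by rcases hA with ⟨-, a⟩ | ⟨-, a⟩ <;> exact a
      have l3 := low3 (M3 : Set G) (Nat.card M3) (by rcases hM3c.2 with e | e <;> rw [e] <;> norm_num)
        (by rcases hM3c.2 with e | e <;> rw [e] <;> norm_num)
        (fun x hx => ⟨mpow M3 x hx, fun y hy => hM3 hx y hy⟩)
      have l5 := low5 (M5 : Set G) 4 (by norm_num) (by norm_num) (by norm_num)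
        (fun x hx => ⟨hM5c ▸ mpow M5 x hx, fun y hy => hM5 hx y hy⟩)
      rw [show Nat.card (M3 : Set G) = Nat.card M3 from rfl, hM3c.1] at l3
      rw [show Nat.card (M5 : Set G) = Nat.card M5 from rfl, hM5c, a2] at l5
      have := total _ _ l3 l5
      omega
  have hS2 : S2 ≤ 255 := by
    obtain ⟨w, hw⟩ := exists_prime_orderOf_dvd_card' (G := Subgroup.centralizer ((P3 : Subgroup G) : Set G)) 5 (by rw [← hc3, hc3v]; norm_num)
    have hM : Nat.card (Subgroup.zpowers (w : G)) = 5 := by rw [Nat.card_zpowers, Subgroup.orderOf_coe, hw]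
    have l3 := low3 (Subgroup.zpowers (w : G) : Set G) 5 (by norm_num) (by norm_num)
      (fun x hx => ⟨hM ▸ mpow _ x hx, fun y hy => Subgroup.zpowers_le.2 w.2 hx y hy⟩)
    rw [show Nat.card (Subgroup.zpowers (w : G) : Set G) = Nat.card (Subgroup.zpowers (w : G)) from rfl, hM, hn3v] at l3
    rw [hn5v] at one5
    have := total _ _ l3 one5
    omega
  refine iso_psl_even hG (q := 16) (k := 4) (by norm_num) (by norm_num) ?_ ?_ (by rw [h]; exact hS2) hF
  · rw [h, show (4080 : ℕ) = 2 ^ 4 * 255 by norm_num, Nat.factorization_mul (by norm_num) (by norm_num),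
      Finsupp.add_apply, Nat.Prime.factorization_pow Nat.prime_two, Finsupp.single_eq_same,
      Nat.factorization_eq_zero_of_not_dvd (by norm_num)]
  · intro r z hr hr2 hz
    have hd : r ∣ 4080 := h ▸ hz ▸ orderOf_dvd_natCard z
    rw [show (4080 : ℕ) = 2 ^ 4 * 3 * 5 * 17 by norm_num] at hd
    simp only [hr.dvd_mul] at hd
    rcases hd with ((hd | hd) | hd) | hd
    · exact absurd ((Nat.prime_dvd_prime_iff_eq hr Nat.prime_two).1 (hr.dvd_of_dvd_pow hd)) hr2
    · obtain rfl := (Nat.prime_dvd_prime_iff_eq hr (by norm_num)).1 hd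
      rw [card_centralizer_prime P3 h3 hz, ← hc3, hc3v]; decide
    · obtain rfl := (Nat.prime_dvd_prime_iff_eq hr (by norm_num)).1 hd
      rw [card_centralizer_prime P5 h5 hz, ← hc5, hc5v]; decide
    · obtain rfl := (Nat.prime_dvd_prime_iff_eq hr (by norm_num)).1 hd
      rw [card_centralizer_prime P17 h17 hz, c17]; decide

/-- A simple group of order 4080 is isomorphic to the projective special linear group of dimension 2 over the field with 16 elements. -/
theorem result {G : Type*} [Group G] [Finite G] [IsSimpleGroup G] (h : Nat.card G = 4080) {F : Type*} [Field F] [Fintype F] (hF : Fintype.card F = 16) : Nonempty (G ≃* Matrix.ProjectiveSpecialLinearGroup (Fin 2) F) := by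
  exact psl16 h hF


end Cfsg.Agent.S0981
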