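import Cfsg.Statements.S0984
import Cfsg.Agent.Lib.Order2520.Main
open Cfsg.Agent.Lib.SylowCounting

set_option autoImplicit false
open Cfsg

namespace Cfsg.Agent.S0984

/-- A simple group of order 2520 is isomorphic to the alternating group of degree 7. -/
theorem result {G : Type*} [Group G] [Finite G] [IsSimpleGroup G] (h : Nat.card G = 2520) : Nonempty (G ≃* alternatingGroup (Fin 7)) := by
  have hG : ¬ IsMulCommutative G := not_comm_of_not_prime (by rw [h]; norm_num)
  obtain ⟨H, hH, hle⟩ := Cfsg.Agent.Lib.Order2520.exists_small_index h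
  have hd := two_card_dvd_factorial hG H hH
  rw [h] at hd
  have hi : H.index = 7 := by
    by_contra hne
    have h6 := Nat.le_of_dvd (Nat.factorial_pos _) hd
    have h720 : H.index.factorial ≤ (6 : ℕ).factorial := Nat.factorial_le (by omega)
    rw [show (6 : ℕ).factorial = 720 from rfl] at h720
    omega
  obtain ⟨f, hf⟩ := exists_embedding_alternating hG H hH
  have hcard : Nat.card G = Nat.card (alternatingGroup (Fin H.index)) := by
    haveI : Nontrivial (Fin H.index) := Fin.nontrivial_iff_two_le.2 (by omega)
    have := two_mul_card_alternatingGroup (α := Fin H.index)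
    rw [Fintype.card_perm, Fintype.card_fin, hi, show (7 : ℕ).factorial = 5040 from rfl,
      ← Nat.card_eq_fintype_card] at this
    rw [hi]
    omega
  have hb : Function.Bijective f := (Nat.bijective_iff_injective_and_card _).2 ⟨hf, hcard⟩
  exact ⟨(MulEquiv.ofBijective f hb).trans (hi ▸ MulEquiv.refl (alternatingGroup (Fin H.index)))⟩

end Cfsg.Agent.S0984
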