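import Cfsg.Statements.S0986
import Mathlib.GroupTheory.Sylow
import Mathlib.GroupTheory.Nilpotent
import Mathlib.Tactic

set_option autoImplicit false
open Cfsg

namespace Cfsg.Agent.S0986

/-- Let P and Q be distinct Sylow p-subgroups of a finite group G chosen so that the order of P ∩ Q is as large as possible among intersections of two distinct Sylow p-subgroups, and let N be the normalizer of P ∩ Q. Then N has more than one Sylow p-subgroup, any two distinct Sylow p-subgroups of N intersect exactly in P ∩ Q, and each Sylow p-subgroup of N lies in exactly one Sylow p-subgroup of G. -/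
theorem result {G : Type*} [Group G] [Finite G] (p : ℕ) [Fact p.Prime] (P Q : Sylow p G) (hPQ : P ≠ Q) (hmax : ∀ P' Q' : Sylow p G, P' ≠ Q' → Nat.card ↥((P' : Subgroup G) ⊓ (Q' : Subgroup G)) ≤ Nat.card ↥((P : Subgroup G) ⊓ (Q : Subgroup G))) : 1 < Nat.card (Sylow p ↥(Subgroup.normalizer (((P : Subgroup G) ⊓ (Q : Subgroup G) : Subgroup G) : Set G))) ∧ (∀ S T : Sylow p ↥(Subgroup.normalizer (((P : Subgroup G) ⊓ (Q : Subgroup G) : Subgroup G) : Set G)), S ≠ T → (S : Subgroup _) ⊓ (T : Subgroup _) = ((P : Subgroup G) ⊓ (Q : Subgroup G)).subgroupOf (Subgroup.normalizer (((P : Subgroup G) ⊓ (Q : Subgroup G) : Subgroup G) : Set G))) ∧ ∀ S : Sylow p ↥(Subgroup.normalizer (((P : Subgroup G) ⊓ (Q : Subgroup G) : Subgroup G) : Set G)), ∃! T : Sylow p G, (S : Subgroup _).map (Subgroup.normalizer (((P : Subgroup G) ⊓ (Q : Subgroup G) : Subgroup G) : Set G)).subtype ≤ (T : Subgroup G) := by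
  set D : Subgroup G := (P : Subgroup G) ⊓ (Q : Subgroup G) with hD
  set N := Subgroup.normalizer (D : Set G) with hN
  have hDN : D ≤ N := Subgroup.le_normalizer
  -- `D` is properly contained in its normaliser inside each of the two Sylow subgroups
  have grow : ∀ R : Sylow p G, D ≤ R → (∃ R' : Sylow p G, R' ≠ R ∧ D ≤ R') →
      Nat.card D < Nat.card ↥((R : Subgroup G) ⊓ N) := by
    intro R hDR hother
    obtain ⟨R', hne, hDR'⟩ := hother
    have hlt : D < (R : Subgroup G) := by
      refine lt_of_le_of_ne hDR fun e => hne ?_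
      have hRR' : (R : Subgroup G) ≤ R' := e ▸ hDR'
      exact (Sylow.ext (R.is_maximal' R'.isPGroup' hRR')).symm.symm
    haveI : Group.IsNilpotent (R : Subgroup G) := R.isPGroup'.isNilpotent
    have hlt' : D.subgroupOf (R : Subgroup G) < ⊤ := lt_top_iff_ne_top.2 fun e =>
      hlt.not_ge (Subgroup.subgroupOf_eq_top.1 e)
    have hnc := Group.normalizerCondition_of_isNilpotent (G := (R : Subgroup G)) _ hlt'
    rw [← Subgroup.subgroupOf_normalizer_eq hDR, SetLike.lt_iff_le_and_exists] at hnc
    obtain ⟨-, x, hxN, hxD⟩ := hnc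
    have hle : D ≤ (R : Subgroup G) ⊓ N := le_inf hDR hDN
    refine (Nat.le_of_dvd Nat.card_pos (Subgroup.card_dvd_of_le hle)).lt_of_ne fun e => hxD ?_
    have e' := Subgroup.eq_of_le_of_card_ge hle e.ge
    rw [Subgroup.mem_subgroupOf, e']
    exact ⟨x.2, hxN⟩
  have hP := grow P inf_le_left ⟨Q, hPQ.symm, inf_le_right⟩
  have hQ := grow Q inf_le_right ⟨P, hPQ, inf_le_left⟩
  -- two Sylow subgroups meeting in more than `|D|` are equal
  have big : ∀ (T T' : Sylow p G) (X : Subgroup G), X ≤ T → X ≤ T' → Nat.card D < Nat.card X → T = T' := by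
    intro T T' X h1 h2 h3
    by_contra hne
    have := (Nat.le_of_dvd Nat.card_pos (Subgroup.card_dvd_of_le (le_inf h1 h2))).trans (hmax T T' hne)
    omega
  -- Sylow subgroups of `N` are large and contain `D`
  haveI hDn : (D.subgroupOf N).Normal := (Subgroup.normal_subgroupOf_iff_le_normalizer hDN).2 le_rfl
  have hDp : IsPGroup p (D.subgroupOf N) := (P.isPGroup'.to_le inf_le_left).comap_subtype
  have hsize : ∀ S : Sylow p N, D.subgroupOf N ≤ (S : Subgroup N) ∧
      Nat.card D < Nat.card ((S : Subgroup N).map N.subtype) := by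
    intro S
    obtain ⟨S', hS'⟩ := hDp.exists_le_sylow
    obtain ⟨S₁, hS₁⟩ := (P.isPGroup'.comap_subtype (K := N)).exists_le_sylow
    refine ⟨hDp.le_sylow_of_normal S, ?_⟩
    rw [Subgroup.card_map_of_injective N.subtype_injective, Nat.card_congr (Sylow.equiv S S₁).toEquiv]
    refine hP.trans_le ((le_of_eq ?_).trans (Nat.le_of_dvd Nat.card_pos (Subgroup.card_dvd_of_le hS₁)))
    rw [show (P : Subgroup G).comap N.subtype = (P : Subgroup G).subgroupOf N from rfl,
      ← Subgroup.inf_subgroupOf_right, Nat.card_congr (Subgroup.subgroupOfEquivOfLe inf_le_right).toEquiv]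
  have huniq : ∀ S : Sylow p N, ∃! T : Sylow p G, (S : Subgroup N).map N.subtype ≤ (T : Subgroup G) := by
    intro S
    obtain ⟨T, hT⟩ := (S.isPGroup'.map N.subtype).exists_le_sylow
    exact ⟨T, hT, fun T' hT' => big T' T _ hT' hT (hsize S).2⟩
  refine ⟨?_, fun S T hST => ?_, huniq⟩
  · -- otherwise `P` and `Q` would share a Sylow subgroup of `N`
    by_contra hle
    have h1 : Nat.card (Sylow p N) = 1 := le_antisymm (not_lt.1 hle) Nat.card_pos
    haveI : Subsingleton (Sylow p N) := (Nat.card_eq_one_iff_unique.1 h1).1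
    let S : Sylow p N := default
    obtain ⟨T, hT⟩ := (S.isPGroup'.map N.subtype).exists_le_sylow
    have key : ∀ R : Sylow p G, Nat.card D < Nat.card ↥((R : Subgroup G) ⊓ N) → R = T := by
      intro R hR
      obtain ⟨S₁, hS₁⟩ := (R.isPGroup'.comap_subtype (K := N)).exists_le_sylow
      refine big R T _ inf_le_left (fun x hx => ?_) hR
      refine hT ⟨⟨x, hx.2⟩, ?_, rfl⟩
      rw [Subsingleton.elim S S₁]
      exact hS₁ hx.1
    exact hPQ ((key P hP).trans (key Q hQ).symm)
  · refine le_antisymm ?_ (le_inf (hsize S).1 (hsize T).1)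
    obtain ⟨S', hS'⟩ := (S.isPGroup'.map N.subtype).exists_le_sylow
    obtain ⟨T', hT'⟩ := (T.isPGroup'.map N.subtype).exists_le_sylow
    have hne : S' ≠ T' := by
      rintro rfl
      apply hST
      apply Sylow.ext
      have hp : IsPGroup p ↥((S : Subgroup N) ⊔ (T : Subgroup N)) := by
        refine (S'.isPGroup'.comap_subtype (K := N)).to_le ?_
        exact sup_le (Subgroup.map_le_iff_le_comap.1 hS') (Subgroup.map_le_iff_le_comap.1 hT')
      exact (S.is_maximal' hp le_sup_left).symm.trans (T.is_maximal' hp le_sup_right)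
    intro x hx
    have hle : ((S : Subgroup N) ⊓ (T : Subgroup N)).map N.subtype ≤ (S' : Subgroup G) ⊓ T' :=
      le_inf ((Subgroup.map_mono inf_le_left).trans hS') ((Subgroup.map_mono inf_le_right).trans hT')
    have hDle : D ≤ ((S : Subgroup N) ⊓ (T : Subgroup N)).map N.subtype := fun y hy =>
      ⟨⟨y, hDN hy⟩, le_inf (hsize S).1 (hsize T).1 hy, rfl⟩
    have e := Subgroup.eq_of_le_of_card_ge hDle
      ((Nat.le_of_dvd Nat.card_pos (Subgroup.card_dvd_of_le hle)).trans (hmax S' T' hne))
    rw [Subgroup.mem_subgroupOf, e]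
    exact ⟨x, hx, rfl⟩

end Cfsg.Agent.S0986
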