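import Cfsg.Statements.S0987
import Cfsg.Agent.Lib.SylowCounting.Counting
import Mathlib.Tactic
open Cfsg.Agent.Lib.SylowCounting

set_option autoImplicit false
open Cfsg
open scoped Pointwise

namespace Cfsg.Agent.S0987

/-- If a finite group has order pqr for primes p < q < r, then its Sylow r-subgroups are normal. -/
theorem result {G : Type*} [Group G] [Finite G] (p q r : ℕ) (hp : p.Prime) (hq : q.Prime) [Fact r.Prime] (hpq : p < q) (hqr : q < r) (hG : Nat.card G = p * q * r) (R : Sylow r G) : (R : Subgroup G).Normal := by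
  haveI : Fact q.Prime := ⟨hq⟩
  have hr := Fact.out (p := r.Prime)
  have hG1 : Nat.card G = r ^ 1 * (p * q) := by rw [hG]; ring
  have hG2 : Nat.card G = q ^ 1 * (p * r) := by rw [hG]; ring
  have hm1 : ¬ r ∣ p * q := fun h => by
    rcases (Nat.Prime.dvd_mul hr).1 h with h | h
    · exact absurd (Nat.le_of_dvd hp.pos h) (by omega)
    · exact absurd (Nat.le_of_dvd hq.pos h) (by omega)
  have hm2 : ¬ q ∣ p * r := fun h => by
    rcases (Nat.Prime.dvd_mul hq).1 h with h | h
    · exact absurd (Nat.le_of_dvd hp.pos h) (by omega)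
    · exact absurd ((Nat.prime_dvd_prime_iff_eq hq hr).1 h) (by omega)
  suffices hs : Nat.card (Sylow r G) = 1 by
    haveI : Subsingleton (Sylow r G) := (Nat.card_eq_one_iff_unique.1 hs).1
    exact R.normal_of_subsingleton
  by_contra hr1
  have hn := sylow_count_mem hG1 hm1
  rw [Finset.mem_filter, Nat.mem_divisors] at hn
  have hrpq : Nat.card (Sylow r G) = p * q := by
    obtain ⟨a, b, ha, hb, hab⟩ := (Nat.dvd_mul).1 hn.1.1
    rcases (Nat.dvd_prime hp).1 ha with rfl | rfl <;> rcases (Nat.dvd_prime hq).1 hb with rfl | rfl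
    · exact absurd (by simpa using hab.symm) hr1
    · rw [← hab, one_mul, Nat.mod_eq_of_lt hqr] at hn
      exact absurd hn.2 hq.one_lt.ne'
    · rw [← hab, mul_one, Nat.mod_eq_of_lt (hpq.trans hqr)] at hn
      exact absurd hn.2 hp.one_lt.ne'
    · exact hab.symm
  -- `R` is self-normalizing, so a Sylow `q` is not normal
  have hq1 : Nat.card (Sylow q G) ≠ 1 := by
    intro h
    obtain ⟨Q⟩ : Nonempty (Sylow q G) := inferInstance
    haveI : Subsingleton (Sylow q G) := (Nat.card_eq_one_iff_unique.1 h).1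
    haveI := Q.normal_of_subsingleton
    haveI : ((Q : Subgroup G)).Normal := Q.normal_of_subsingleton
    -- `RQ` is a subgroup of order `rq` in which `R` is normal
    let K : Subgroup G := (R : Subgroup G) ⊔ (Q : Subgroup G)
    have hdis : Disjoint (R : Subgroup G) (Q : Subgroup G) :=
      IsPGroup.disjoint_of_ne r q hqr.ne' _ _ R.isPGroup' Q.isPGroup'
    have hK : Nat.card K = r * q := by
      have h1 : ((R : Subgroup G) : Set G) * ((Q : Subgroup G) : Set G) = (K : Set G) := (Subgroup.mul_normal _ _).symm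
      have h2 := Subgroup.card_mul_index K
      have e : Nat.card K = Nat.card (R : Subgroup G) * Nat.card (Q : Subgroup G) := by
        rw [← Nat.card_prod]
        refine (Nat.card_congr (Equiv.ofBijective
          (fun x : ↥(R : Subgroup G) × ↥(Q : Subgroup G) => (⟨(x.1 : G) * (x.2 : G),
            mul_mem (Subgroup.mem_sup_left (S := (R : Subgroup G)) x.1.2) (Subgroup.mem_sup_right (T := (Q : Subgroup G)) x.2.2)⟩ : K)) ⟨?_, ?_⟩)).symm
        · intro x y hxy
          exact Subgroup.mul_injective_of_disjoint hdis (congrArg Subtype.val hxy)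
        · intro k
          have : (k : G) ∈ ((R : Subgroup G) : Set G) * ((Q : Subgroup G) : Set G) := h1 ▸ k.2
          obtain ⟨a, ha, b, hb, hab⟩ := Set.mem_mul.1 this
          exact ⟨(⟨a, ha⟩, ⟨b, hb⟩), Subtype.ext hab⟩
      rw [e, sylow_card hG1 hm1 R, sylow_card hG2 hm2 Q, pow_one, pow_one]
    let RK : Sylow r K := R.subtype le_sup_left
    have hG3 : Nat.card K = r ^ 1 * q := by rw [hK, pow_one]
    have hm3 : ¬ r ∣ q := fun h => absurd (Nat.le_of_dvd hq.pos h) (by omega)
    have hone : Nat.card (Sylow r K) = 1 := by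
      rcases (Nat.dvd_prime hq).1 (sylow_count_dvd hG3 hm3) with h | h
      · exact h
      · have := sylow_count_mod (G := K) r
        rw [h, Nat.mod_eq_of_lt hqr] at this
        exact absurd this hq.one_lt.ne'
    haveI : Subsingleton (Sylow r K) := (Nat.card_eq_one_iff_unique.1 hone).1
    haveI hnorm := RK.normal_of_subsingleton
    have hle : K ≤ Subgroup.normalizer ((R : Subgroup G) : Set G) := by
      rw [← Subgroup.normal_subgroupOf_iff_le_normalizer le_sup_left]
      exact hnorm
    have h3 := Subgroup.card_dvd_of_le hle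
    have h4 := (Subgroup.normalizer ((R : Subgroup G) : Set G)).index_mul_card
    rw [R.coe_coe, ← R.card_eq_index_normalizer, hrpq] at h4
    have h5 : Nat.card (Subgroup.normalizer ((R : Subgroup G) : Set G)) = r := by
      apply Nat.eq_of_mul_eq_mul_left (Nat.mul_pos hp.pos hq.pos)
      rw [R.coe_coe, h4, hG]
    rw [hK, h5] at h3
    have := Nat.le_of_dvd hr.pos h3
    nlinarith [hr.pos, hq.two_le]
  have hnq : r ≤ Nat.card (Sylow q G) := by
    have hn := sylow_count_mem hG2 hm2
    rw [Finset.mem_filter, Nat.mem_divisors] at hn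
    obtain ⟨a, b, ha, hb, hab⟩ := (Nat.dvd_mul).1 hn.1.1
    rcases (Nat.dvd_prime hp).1 ha with rfl | rfl <;> rcases (Nat.dvd_prime hr).1 hb with rfl | rfl
    · exact absurd (by simpa using hab.symm) hq1
    · rw [← hab, one_mul]
    · rw [← hab, mul_one, Nat.mod_eq_of_lt hpq] at hn
      exact absurd hn.2 hp.one_lt.ne'
    · rw [← hab]; exact Nat.le_mul_of_pos_left _ hp.pos
  have e1 := card_orderOf_eq_prime (G := G) (p := r) (fun P => by rw [sylow_card hG1 hm1 P, pow_one])
  have e2 := card_orderOf_eq_prime (G := G) (p := q) (fun P => by rw [sylow_card hG2 hm2 P, pow_one])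
  have e3 := one_add_card_orderOf_le (G := G) hqr.ne' hr.one_lt.ne' hq.one_lt.ne'
  rw [e1, e2, hrpq, hG] at e3
  have h6 : r * (q - 1) ≤ Nat.card (Sylow q G) * (q - 1) := Nat.mul_le_mul_right _ hnq
  obtain ⟨r', rfl⟩ := Nat.exists_eq_add_of_le hr.pos
  obtain ⟨q', rfl⟩ := Nat.exists_eq_add_of_le hq.pos
  simp only [Nat.add_sub_cancel_left] at e3 h6
  nlinarith

end Cfsg.Agent.S0987
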