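import Cfsg.Statements.S0992
import Cfsg.Agent.Lib.SylowCounting.Tools
open Cfsg.Agent.Lib.SylowCounting

set_option autoImplicit false
open Cfsg

namespace Cfsg.Agent.S0992

/-- Let G be a non-abelian finite simple group of even order not divisible by 8, and T a Sylow 2-subgroup. Then T is a Klein four-group and the centralizer of T has index 3 in the normalizer of T. -/
theorem result {G : Type*} [Group G] [Finite G] [IsSimpleGroup G] (hG : ¬ IsMulCommutative G) (h2 : Even (Nat.card G)) (h8 : ¬ 8 ∣ Nat.card G) (T : Sylow 2 G) : IsKleinFour ↥(T : Subgroup G) ∧ (Subgroup.centralizer ((T : Subgroup G) : Set G)).relIndex (Subgroup.normalizer ((T : Subgroup G) : Set G)) = 3 := by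
  haveI : Fact (Nat.Prime 2) := ⟨Nat.prime_two⟩
  have hdvd : 2 ∣ Nat.card G := even_iff_two_dvd.1 h2
  set N := Subgroup.normalizer ((T : Subgroup G) : Set G) with hN
  set C := Subgroup.centralizer ((T : Subgroup G) : Set G) with hC
  have hncyc : ¬ IsCyclic (T : Subgroup G) := by
    intro hc
    apply not_normalizer_le_centralizer hG T hdvd
    rw [T.coe_coe]
    exact IsCyclic.normalizer_le_centralizer (Nat.minFac_eq_two_iff _ |>.2 hdvd) hc
  obtain ⟨k, hk⟩ := T.isPGroup'.exists_card_eq
  have hk3 : k < 3 := by
    by_contra hk3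
    apply h8
    refine dvd_trans ?_ (T : Subgroup G).card_subgroup_dvd_card
    rw [hk]
    exact pow_dvd_pow 2 (by omega : 3 ≤ k)
  have hT4 : Nat.card (T : Subgroup G) = 4 := by
    interval_cases k
    · haveI : Subsingleton (T : Subgroup G) := (Nat.card_eq_one_iff_unique.1 (by rw [hk, pow_zero])).1
      exact absurd isCyclic_of_subsingleton hncyc
    · exact absurd (isCyclic_of_prime_card (p := 2) (by rw [hk]; norm_num)) hncyc
    · rw [hk]; norm_num
  haveI : IsKleinFour (T : Subgroup G) := by
    refine ⟨hT4, ?_⟩
    haveI : Fintype (T : Subgroup G) := Fintype.ofFinite _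
    have h4 : Monoid.exponent (T : Subgroup G) ∣ 2 ^ 2 := by
      rw [show (2 : ℕ) ^ 2 = Nat.card (T : Subgroup G) from hT4.symm]
      exact Group.exponent_dvd_nat_card
    obtain ⟨j, hj, he⟩ := (Nat.dvd_prime_pow Nat.prime_two).1 h4
    interval_cases j
    · exfalso
      haveI : Subsingleton (T : Subgroup G) := Monoid.exp_eq_one_iff.1 he
      exact hncyc isCyclic_of_subsingleton
    · simpa using he
    · exfalso
      apply hncyc
      haveI : IsMulCommutative (T : Subgroup G) := IsPGroup.isMulCommutative_of_card_eq_prime_sq (p := 2) hT4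
      letI : CommGroup (T : Subgroup G) := { (inferInstance : Group (T : Subgroup G)) with mul_comm := mul_comm' }
      refine (IsCyclic.iff_exponent_eq_card (α := (T : Subgroup G))).2 ?_
      rw [he, hT4]; norm_num
  haveI : IsMulCommutative (T : Subgroup G) := IsKleinFour.isMulCommutative
  refine ⟨inferInstance, ?_⟩
  have hdv : C.relIndex N ∣ 24 := by
    have h := Subgroup.card_dvd_of_injective _
      (QuotientGroup.kerLift_injective (Subgroup.normalizerMonoidHom (T : Subgroup G)))
    rw [Subgroup.normalizerMonoidHom_ker, ← Subgroup.index] at h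
    refine h.trans ?_
    haveI : Fintype (T : Subgroup G) := Fintype.ofFinite _
    have h2 := Subgroup.card_dvd_of_injective (MulAut.toPerm (T : Subgroup G))
      (fun a b e => MulEquiv.ext (Equiv.ext_iff.1 e))
    rwa [Nat.card_perm, hT4] at h2
  have hTC : (T : Subgroup G) ≤ C := Subgroup.le_centralizer _
  have hodd : ¬ 2 ∣ C.relIndex N := fun h => T.not_dvd_index
    (dvd_trans h (dvd_trans (Subgroup.relIndex_dvd_of_le_left _ hTC)
      (Subgroup.relIndex_dvd_index_of_le (Subgroup.le_normalizer))))
  have hne : C.relIndex N ≠ 1 := fun h => not_normalizer_le_centralizer hG T hdvd (Subgroup.relIndex_eq_one.1 h)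
  have := Nat.le_of_dvd (by norm_num) hdv
  interval_cases C.relIndex N <;> omega

end Cfsg.Agent.S0992
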