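import Cfsg.Statements.S0994
import Cfsg.Agent.Lib.SylowCounting.PermNormalizer
import Cfsg.Agent.Lib.SylowCounting.Intersection
open Cfsg.Agent.Lib.SylowCounting

set_option autoImplicit false
open Cfsg

namespace Cfsg.Agent.S0994

/-- No finite simple group has order 1188 = 2^2 * 3^3 * 11. -/
theorem result {G : Type*} [Group G] [Finite G] [IsSimpleGroup G] : Nat.card G ≠ 1188 := by
  intro h
  haveI : Fact (Nat.Prime 11) := ⟨by norm_num⟩
  have hn : ¬ IsMulCommutative G := not_comm_of_not_prime (by rw [h]; norm_num)
  have hG : Nat.card G = 11 ^ 1 * 108 := by rw [h]; norm_num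
  have hc : Nat.card (Sylow 11 G) ∈ candidates 11 108 := sylow_count_candidates hG (by norm_num) one_ne_zero (by norm_num)
  rw [show candidates 11 108 = {12} by decide, Finset.mem_singleton] at hc
  let P : Sylow 11 G := default
  have hd := two_card_normalizer_dvd hn (by norm_num) P (by rw [sylow_card hG (by norm_num) P, pow_one]) (by omega) (by omega)
  have hN := (Subgroup.normalizer ((P : Subgroup G) : Set G)).index_mul_card
  rw [P.coe_coe, ← P.card_eq_index_normalizer, hc, h] at hN
  rw [P.coe_coe, hc, show Nat.card (Subgroup.normalizer (P : Set G)) = 99 by omega] at hd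
  norm_num at hd

end Cfsg.Agent.S0994
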