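import Cfsg.Statements.S0995
import Cfsg.Agent.Lib.SylowCounting.Tools
import Mathlib.Tactic
open Cfsg.Agent.Lib.SylowCounting

set_option autoImplicit false
open Cfsg

namespace Cfsg.Agent.S0995

/-- Let G be a finite perfect group containing an element z of prime order p whose centralizer is the cyclic group it generates. Let t be the number of conjugacy classes of elements of order p. Then t divides p - 1, the number of Sylow p-subgroups has the form 1 + n * p, and |G| * t = (p - 1) * p * (1 + n * p). -/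
theorem result {G : Type*} [Group G] [Finite G] (hperf : commutator G = ⊤) (p : ℕ) [Fact p.Prime] (z : G) (hz : orderOf z = p) (hC : Subgroup.centralizer ({z} : Set G) = Subgroup.zpowers z) : ∃ n t : ℕ, t = Nat.card {c : ConjClasses G // ∃ g : G, ConjClasses.mk g = c ∧ orderOf g = p} ∧ t ∣ p - 1 ∧ Nat.card (Sylow p G) = 1 + n * p ∧ Nat.card G * t = (p - 1) * p * (1 + n * p) := by
  classical
  have hp := Fact.out (p := p.Prime)
  set Z := Subgroup.zpowers z
  have hZ : Nat.card Z = p := by rw [Nat.card_zpowers, hz]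
  -- `⟨z⟩` is a Sylow subgroup
  obtain ⟨S, hS⟩ := (IsPGroup.of_card (n := 1) (by rw [hZ, pow_one]) : IsPGroup p Z).exists_le_sylow
  have hSZ : (S : Subgroup G) = Z := by
    refine le_antisymm ?_ hS
    have hzS : z ∈ (S : Subgroup G) := hS (Subgroup.mem_zpowers z)
    haveI : Nontrivial (S : Subgroup G) := ⟨⟨⟨z, hzS⟩, 1, fun h => by
      have : z = 1 := congrArg Subtype.val h
      rw [this, orderOf_one] at hz; exact hp.one_lt.ne hz⟩⟩
    haveI := IsPGroup.center_nontrivial S.isPGroup'
    obtain ⟨w, hw⟩ := exists_ne (1 : Subgroup.center (S : Subgroup G))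
    have hwc : ∀ x ∈ (S : Subgroup G), x * ((w : (S : Subgroup G)) : G) = ((w : (S : Subgroup G)) : G) * x :=
      fun x hx => congrArg Subtype.val (Subgroup.mem_center_iff.1 w.2 ⟨x, hx⟩)
    have hwZ : ((w : (S : Subgroup G)) : G) ∈ Z := by
      rw [← hC, Subgroup.mem_centralizer_singleton_iff]
      exact (hwc z hzS).symm
    have hgen : Subgroup.zpowers ((w : (S : Subgroup G)) : G) = Z :=
      Subgroup.eq_of_le_of_card_ge (Subgroup.zpowers_le.2 hwZ) (by
        rw [hZ, Nat.card_zpowers, orderOf_of_mem hZ hwZ (fun h => hw (Subtype.ext (Subtype.ext h)))])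
    intro x hx
    rw [← hC, Subgroup.mem_centralizer_singleton_iff]
    obtain ⟨i, hi⟩ := Subgroup.mem_zpowers_iff.1 (show z ∈ Subgroup.zpowers ((w : (S : Subgroup G)) : G) by rw [hgen]; exact Subgroup.mem_zpowers z)
    rw [← hi]
    exact ((show Commute x _ from hwc x hx).zpow_right i).eq
  have hall : ∀ Q : Sylow p G, Nat.card (Q : Subgroup G) = p := fun Q => by
    rw [← Nat.card_congr (Sylow.equiv S Q).toEquiv, hSZ, hZ]
  -- every element of order `p` has centraliser of order `p`
  have hcent : ∀ g : G, orderOf g = p → Nat.card (Subgroup.centralizer ({g} : Set G)) = p := by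
    intro g hg
    obtain ⟨Q, hQ⟩ := (IsPGroup.of_card (n := 1) (by rw [Nat.card_zpowers, hg, pow_one]) :
      IsPGroup p (Subgroup.zpowers g)).exists_le_sylow
    obtain ⟨c, rfl⟩ := MulAction.exists_smul_eq G S Q
    have h1 := hQ (Subgroup.mem_zpowers g)
    rw [Sylow.coe_subgroup_smul, Subgroup.mem_pointwise_smul_iff_inv_smul_mem, hSZ, ← map_inv,
      MulAut.smul_def, MulAut.conj_apply, inv_inv] at h1
    have ho : orderOf (c⁻¹ * g * c) = p := by rw [← hg]; simpa using (MulAut.conj c⁻¹).orderOf_eq g
    have hgen : Subgroup.zpowers (c⁻¹ * g * c) = Z :=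
      Subgroup.eq_of_le_of_card_ge (Subgroup.zpowers_le.2 h1) (by rw [hZ, Nat.card_zpowers, ho])
    have hc' : Subgroup.centralizer ({c⁻¹ * g * c} : Set G) = Z := by
      rw [← hC]
      apply le_antisymm <;> intro x hx <;> rw [Subgroup.mem_centralizer_singleton_iff] at hx ⊢
      · obtain ⟨i, hi⟩ := Subgroup.mem_zpowers_iff.1 (show z ∈ Subgroup.zpowers (c⁻¹ * g * c) by rw [hgen]; exact Subgroup.mem_zpowers z)
        rw [← hi]; exact ((show Commute x _ from hx).zpow_right i).eq
      · obtain ⟨i, hi⟩ := Subgroup.mem_zpowers_iff.1 h1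
        rw [← hi]; exact ((show Commute x z from hx).zpow_right i).eq
    have hconj : (Subgroup.centralizer ({g} : Set G)) = (Subgroup.centralizer ({c⁻¹ * g * c} : Set G)).map (MulAut.conj c).toMonoidHom := by
      ext x
      rw [Subgroup.mem_map_equiv, Subgroup.mem_centralizer_singleton_iff, Subgroup.mem_centralizer_singleton_iff, MulAut.conj_symm_apply]
      constructor <;> intro h
      · calc c⁻¹ * x * c * (c⁻¹ * g * c) = c⁻¹ * (x * g) * c := by group
          _ = c⁻¹ * (g * x) * c := by rw [h]
          _ = c⁻¹ * g * c * (c⁻¹ * x * c) := by group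
      · calc x * g = c * (c⁻¹ * x * c * (c⁻¹ * g * c)) * c⁻¹ := by group
          _ = c * (c⁻¹ * g * c * (c⁻¹ * x * c)) * c⁻¹ := by rw [h]
          _ = g * x := by group
    rw [hconj, hc', Subgroup.card_map_of_injective (MulAut.conj c).injective, hZ]
  -- count the elements of order `p`
  set n := Nat.card (Sylow p G) with hn
  set K := {c : ConjClasses G // ∃ g : G, ConjClasses.mk g = c ∧ orderOf g = p}
  let f : {g : G // orderOf g = p} → K := fun g => ⟨ConjClasses.mk g.1, g.1, rfl, g.2⟩
  have hfib : Nat.card {g : G // orderOf g = p} * p = Nat.card K * Nat.card G := by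
    haveI : Fintype K := Fintype.ofFinite _
    rw [← Nat.card_congr (Equiv.sigmaFiberEquiv f), Nat.card_sigma, Finset.sum_mul,
      Finset.sum_const_nat (m := Nat.card G), Finset.card_univ, ← Nat.card_eq_fintype_card]
    rintro ⟨k, g, rfl, hg⟩ -
    conv_rhs => rw [← card_conjClass_mul_card_centralizer g, hcent g hg]
    congr 1
    refine Nat.card_congr
      { toFun := fun a => ⟨a.1.1, (ConjClasses.mk_eq_mk_iff_isConj.1 (congrArg Subtype.val a.2)).symm⟩
        invFun := fun b => ⟨⟨b.1, ?_⟩, Subtype.ext (ConjClasses.mk_eq_mk_iff_isConj.2 (IsConj.symm b.2))⟩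
        left_inv := fun a => rfl
        right_inv := fun b => rfl }
    obtain ⟨c, hc⟩ := isConj_iff.1 b.2
    rw [← hc, ← hg]; simpa using (MulAut.conj c).orderOf_eq g
  rw [card_orderOf_eq_prime hall, ← hn] at hfib
  have hmain : Nat.card G * Nat.card K = (p - 1) * p * n := by rw [mul_comm, ← hfib]; ring
  refine ⟨n / p, Nat.card K, rfl, ?_, ?_, ?_⟩
  · have hidx := (Subgroup.normalizer ((S : Subgroup G) : Set G)).index_mul_card
    rw [S.coe_coe, ← S.card_eq_index_normalizer, ← hn] at hidx
    obtain ⟨d, hd⟩ : p ∣ Nat.card (Subgroup.normalizer (S : Set G)) := by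
      have h := Subgroup.card_dvd_of_le (Subgroup.le_normalizer (H := (S : Subgroup G)))
      rw [hall S] at h
      exact h
    have hnpos : 0 < n := Nat.card_pos
    refine ⟨d, Nat.eq_of_mul_eq_mul_left (Nat.mul_pos hnpos hp.pos) ?_⟩
    rw [← hidx, hd] at hmain
    rw [mul_comm (n * p) (p - 1), ← mul_assoc]
    rw [show (p - 1) * n * p = (p - 1) * p * n by ring, ← hmain]; ring
  · have h1 := sylow_count_mod (G := G) p
    have h2 := Nat.div_add_mod n p
    rw [← hn] at h1
    rw [mul_comm]; omega
  · rw [hmain]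
    have h1 := sylow_count_mod (G := G) p
    have h2 := Nat.div_add_mod n p
    rw [← hn] at h1
    congr 1
    rw [mul_comm]; omega

end Cfsg.Agent.S0995
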