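import Cfsg.Statements.S0996
import Cfsg.Agent.Lib.BrauerPrime.Main
-- import your own Cfsg.Agent.* helpers here

set_option autoImplicit false
open Cfsg

namespace Cfsg.Agent.S0996

/-- Let G be a finite perfect group containing an element z of prime order p whose centralizer is the cyclic group it generates, and suppose the number 1 + n * p of Sylow p-subgroups satisfies n < (p + 3) / 2. Then p > 3 and G is isomorphic to the projective special linear group of dimension 2 over the field with p elements, or p - 1 is a power of 2 and G is isomorphic to that group over the field with p - 1 elements. -/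
theorem result {G : Type*} [Group G] [Finite G] (hperf : commutator G = ⊤) (p : ℕ) [Fact p.Prime] (z : G) (hz : orderOf z = p) (hC : Subgroup.centralizer ({z} : Set G) = Subgroup.zpowers z) (hn : 2 * Nat.card (Sylow p G) < (p + 1) * (p + 2)) : (∃ (F : Type) (_ : Field F) (_ : Fintype F), Fintype.card F = p ∧ 3 < p ∧ Nonempty (G ≃* Matrix.ProjectiveSpecialLinearGroup (Fin 2) F)) ∨ (∃ (m : ℕ) (F : Type) (_ : Field F) (_ : Fintype F), Fintype.card F = 2 ^ m ∧ p = 2 ^ m + 1 ∧ 3 < p ∧ Nonempty (G ≃* Matrix.ProjectiveSpecialLinearGroup (Fin 2) F)) := by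
  classical
  have hp2 := (Fact.out : p.Prime).two_le
  have hzp : IsPGroup p (Subgroup.zpowers z) :=
    IsPGroup.of_card (n := 1) (by rw [Nat.card_zpowers, hz, pow_one])
  obtain ⟨P, hzP⟩ := hzp.exists_le_sylow
  haveI : Nontrivial (P : Subgroup G) := ⟨⟨⟨z, hzP (Subgroup.mem_zpowers z)⟩, 1, fun h => by
    have h1 : z = 1 := congrArg Subtype.val h
    rw [h1, orderOf_one] at hz
    omega⟩⟩
  have hPle : (P : Subgroup G) ≤ Subgroup.zpowers z := by
    haveI := P.isPGroup'.center_nontrivial
    obtain ⟨c, hc⟩ := exists_ne (1 : Subgroup.center (P : Subgroup G))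
    have hcz : ((c : (P : Subgroup G)) : G) ∈ Subgroup.zpowers z := by
      rw [← hC, Subgroup.mem_centralizer_singleton_iff]
      exact (congrArg Subtype.val (Subgroup.mem_center_iff.1 c.2 ⟨z, hzP (Subgroup.mem_zpowers z)⟩ :)).symm
    have hgen : Subgroup.zpowers ((c : (P : Subgroup G)) : G) = Subgroup.zpowers z := by
      refine Subgroup.eq_of_le_of_card_ge (Subgroup.zpowers_le.2 hcz) ?_
      have hd : orderOf ((c : (P : Subgroup G)) : G) ∣ p := by
        have h := Subgroup.orderOf_dvd_natCard _ hcz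
        rwa [Nat.card_zpowers, hz] at h
      rw [Nat.card_zpowers, Nat.card_zpowers, hz]
      rcases (Nat.dvd_prime (Fact.out : p.Prime)).1 hd with h | h
      · exact absurd (Subtype.ext (Subtype.ext (orderOf_eq_one_iff.1 h))) hc
      · exact h.ge
    intro x hx
    rw [← hC, Subgroup.mem_centralizer_singleton_iff]
    have hz' : z ∈ Subgroup.zpowers ((c : (P : Subgroup G)) : G) := hgen ▸ Subgroup.mem_zpowers z
    obtain ⟨k, rfl⟩ := Subgroup.mem_zpowers_iff.1 hz'
    exact (Commute.zpow_right (congrArg Subtype.val (Subgroup.mem_center_iff.1 c.2 ⟨x, hx⟩ :)) k)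
  have hPeq : (P : Subgroup G) = Subgroup.zpowers z := le_antisymm hPle hzP
  have hP : Nat.card P = p := by
    show Nat.card (P : Subgroup G) = p
    rw [hPeq, Nat.card_zpowers, hz]
  obtain ⟨i, hi⟩ : ∃ i, Nat.card (Sylow p G) = 1 + i * p := by
    refine ⟨Nat.card (Sylow p G) / p, ?_⟩
    have h1 := card_sylow_modEq_one p G
    have h2 := Nat.div_add_mod (Nat.card (Sylow p G)) p
    rw [h1, Nat.one_mod_eq_one.2 (by omega), mul_comm] at h2
    omega
  have hF : ¬ Lib.BrauerPrime.HasForm p i := fun hf => by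
    have h1 := hf.le
    rw [hi] at hn
    have h2 : (p + 3) * p ≤ 2 * i * p := Nat.mul_le_mul_right p h1
    nlinarith
  obtain ⟨hN, hB⟩ := Lib.BrauerPrime.main hperf P hP hi hF
  have hH : pPrimeCore p G = ⊥ := by
    rw [eq_bot_iff]
    intro x hx
    have hcop : (pPrimeCore p G) ⊓ (P : Subgroup G) = ⊥ := Subgroup.eq_bot_of_card_eq _
      (Nat.eq_one_of_dvd_coprimes (Lib.Cores.pPrimeCore_coprime p G).symm
        ((Subgroup.card_dvd_of_le inf_le_right).trans (show Nat.card (P : Subgroup G) = p from hP).dvd)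
        (Subgroup.card_dvd_of_le inf_le_left))
    have hxc : x ∈ Subgroup.centralizer ({z} : Set G) := by
      rw [Subgroup.mem_centralizer_singleton_iff]
      have h1 : x * z * x⁻¹ * z⁻¹ ∈ pPrimeCore p G ⊓ (P : Subgroup G) := by
        refine Subgroup.mem_inf.2 ⟨?_, mul_mem ?_ (inv_mem (hzP (Subgroup.mem_zpowers z)))⟩
        · rw [show x * z * x⁻¹ * z⁻¹ = x * (z * x⁻¹ * z⁻¹) by group]
          exact mul_mem hx (Subgroup.Normal.conj_mem inferInstance _ (inv_mem hx) z)
        · exact ((Subgroup.mem_normalizer_iff.1 (hN hx)) z).1 (hzP (Subgroup.mem_zpowers z))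
      rw [hcop, Subgroup.mem_bot] at h1
      exact mul_inv_eq_iff_eq_mul.1 (mul_inv_eq_one.1 h1)
    rw [hC, ← hPeq] at hxc
    rw [← hcop]
    exact Subgroup.mem_inf.2 ⟨hx, hxc⟩
  rcases hB.congr ((QuotientGroup.quotientMulEquivOfEq hH).trans QuotientGroup.quotientBot) with
    ⟨F, i1, i2, hc, h5, -, he⟩ | ⟨m, F, i1, i2, hc, hm, h5, -, -, he⟩
  · exact Or.inl ⟨F, i1, i2, hc, by omega, he⟩
  · exact Or.inr ⟨m, F, i1, i2, hc, hm, by omega, he⟩

end Cfsg.Agent.S0996
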