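import Cfsg.Statements.S0999
import Cfsg.Agent.Lib.BrauerPrime.Main
-- import your own Cfsg.Agent.* helpers here

set_option autoImplicit false
open Cfsg
open scoped commutatorElement

namespace Cfsg.Agent.S0999

/-- Let G be a non-cyclic finite simple group and p a prime divisor of its order with p^3 > |G|. Then p > 3 and G is isomorphic to the projective special linear group of dimension 2 over the field with p elements, or p - 1 is a power of 2 and G is isomorphic to that group over the field with p - 1 elements. -/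
theorem result {G : Type*} [Group G] [Finite G] [IsSimpleGroup G] (hG : ¬ IsCyclic G) (p : ℕ) (hp : p.Prime) (hdvd : p ∣ Nat.card G) (hbig : Nat.card G < p ^ 3) : (∃ (F : Type) (_ : Field F) (_ : Fintype F), Fintype.card F = p ∧ 3 < p ∧ Nonempty (G ≃* Matrix.ProjectiveSpecialLinearGroup (Fin 2) F)) ∨ (∃ (m : ℕ) (F : Type) (_ : Field F) (_ : Fintype F), Fintype.card F = 2 ^ m ∧ p = 2 ^ m + 1 ∧ 3 < p ∧ Nonempty (G ≃* Matrix.ProjectiveSpecialLinearGroup (Fin 2) F)) := by
  haveI := Fact.mk hp
  have hna : ¬ IsMulCommutative G := fun h => by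
    haveI := h
    letI : CommGroup G := { (inferInstance : Group G) with mul_comm := h.is_comm.comm }
    exact hG IsSimpleGroup.isCyclic
  have hperf : commutator G = ⊤ := by
    refine (IsSimpleGroup.eq_bot_or_eq_top_of_normal (commutator G) inferInstance).resolve_left fun h => ?_
    refine hna ⟨⟨fun a b => ?_⟩⟩
    have hab : ⁅a, b⁆ ∈ commutator G := Subgroup.commutator_mem_commutator (Subgroup.mem_top a) (Subgroup.mem_top b)
    rw [h, Subgroup.mem_bot] at hab
    exact commutatorElement_eq_one_iff_mul_comm.1 hab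
  obtain ⟨P⟩ : Nonempty (Sylow p G) := inferInstance
  have hnn : ¬ (P : Subgroup G).Normal := by
    intro hn
    rcases IsSimpleGroup.eq_bot_or_eq_top_of_normal (P : Subgroup G) hn with h | h
    · exact P.ne_bot_of_dvd_card hdvd h
    · haveI : Nontrivial (P : Subgroup G) := by
        rw [h]; exact Finite.one_lt_card_iff_nontrivial.1 (by
          rw [Subgroup.card_top]; exact lt_of_lt_of_le hp.one_lt (Nat.le_of_dvd Nat.card_pos hdvd))
      haveI := P.isPGroup'.center_nontrivial
      refine hna ?_
      haveI : Nontrivial (Subgroup.center G) := by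
        obtain ⟨c, hc⟩ := exists_ne (1 : Subgroup.center (P : Subgroup G))
        refine ⟨⟨⟨((c : (P : Subgroup G)) : G), ?_⟩, 1, fun e => hc ?_⟩⟩
        · rw [Subgroup.mem_center_iff]
          intro g
          exact congrArg Subtype.val (Subgroup.mem_center_iff.1 c.2 ⟨g, h ▸ Subgroup.mem_top g⟩ :)
        · exact Subtype.ext (Subtype.ext (congrArg Subtype.val e :))
      rcases IsSimpleGroup.eq_bot_or_eq_top_of_normal (Subgroup.center G) inferInstance with h' | h'
      · obtain ⟨x, hx⟩ := exists_ne (1 : Subgroup.center G)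
        exact absurd (Subtype.ext (Subgroup.mem_bot.1 (h' ▸ x.2))) hx
      · exact ⟨⟨fun a b => (Subgroup.mem_center_iff.1 (h' ▸ Subgroup.mem_top a) b).symm⟩⟩
  rcases Lib.BrauerPrime.of_lt_cube hperf hdvd hbig P hnn (fun N hN h2 => by
      rcases IsSimpleGroup.eq_bot_or_eq_top_of_normal N hN with h | h
      · rw [h, Subgroup.card_bot] at h2; omega
      · rw [h, Subgroup.card_top] at h2
        haveI : Fact (Nat.Prime 2) := ⟨Nat.prime_two⟩
        exact hG (isCyclic_of_prime_card h2)) with
    ⟨F, i1, i2, hc, h5, -, he⟩ | ⟨m, F, i1, i2, hc, hm, h5, -, -, he⟩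
  · exact Or.inl ⟨F, i1, i2, hc, by omega, he⟩
  · exact Or.inr ⟨m, F, i1, i2, hc, hm, by omega, he⟩

end Cfsg.Agent.S0999
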