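import Cfsg.Statements.S1002
import Cfsg.Agent.Lib.SylowCounting.PermNormalizer
import Mathlib.Data.Finset.NatDivisors
import Cfsg.Agent.Lib.SylowCounting.Intersection
open Cfsg.Agent.Lib.SylowCounting

set_option autoImplicit false
open Cfsg
open scoped Pointwise

namespace Cfsg.Agent.S1002

/-- No finite simple group has order 1004913 = 3^3 * 7 * 13 * 409. -/
theorem result {G : Type*} [Group G] [Finite G] [IsSimpleGroup G] : Nat.card G ≠ 1004913 := by
  intro h
  haveI : Fact (Nat.Prime 409) := ⟨by norm_num⟩
  haveI : Fact (Nat.Prime 13) := ⟨by norm_num⟩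
  haveI : Fact (Nat.Prime 7) := ⟨by norm_num⟩
  have hn : ¬ IsMulCommutative G := not_comm_of_not_prime (by rw [h]; norm_num)
  have hG : Nat.card G = 409 ^ 1 * 2457 := by rw [h]; norm_num
  have hG13 : Nat.card G = 13 ^ 1 * 77301 := by rw [h]; norm_num
  have hG7 : Nat.card G = 7 ^ 1 * 143559 := by rw [h]; norm_num
  -- the three Sylow numbers
  have hbad : ¬ ∃ n, n < 409 ∧ 2 * Nat.card G ∣ n.factorial := by
    rintro ⟨n, hn', hd⟩
    have h1 : 409 ∣ n.factorial := by
      refine dvd_trans ?_ hd
      rw [h]; norm_num
    rw [(by norm_num : Nat.Prime 409).dvd_factorial] at h1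
    omega
  have c409 : Nat.card (Sylow 409 G) = 819 := by
    have := sylow_count_candidates hG (by norm_num) one_ne_zero (by norm_num)
    rwa [show candidates 409 2457 = {819} by
        rw [candidates, show (2457 : ℕ) = 27 * 7 * 13 by norm_num, Nat.divisors_mul, Nat.divisors_mul]
        decide +kernel, Finset.mem_singleton] at this
  have c13 : Nat.card (Sylow 13 G) = 25767 := by
    have := sylow_count_candidates hG13 (by norm_num) one_ne_zero (by norm_num)
    rw [show candidates 13 77301 = {27, 25767} by
        rw [candidates, show (77301 : ℕ) = 27 * 7 * 409 by norm_num, Nat.divisors_mul, Nat.divisors_mul, (by norm_num : Nat.Prime 409).divisors]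
        decide +kernel, Finset.mem_insert, Finset.mem_singleton] at this
    refine this.resolve_left fun e => hbad ⟨27, by norm_num, ?_⟩
    rw [← e]
    exact two_card_dvd_sylow_factorial hn (by omega)
  have c7 : Nat.card (Sylow 7 G) = 47853 := by
    have := sylow_count_candidates hG7 (by norm_num) one_ne_zero (by norm_num)
    rw [show candidates 7 143559 = {351, 47853} by
        rw [candidates, show (143559 : ℕ) = 27 * 13 * 409 by norm_num, Nat.divisors_mul, Nat.divisors_mul, (by norm_num : Nat.Prime 409).divisors]
        decide +kernel, Finset.mem_insert, Finset.mem_singleton] at this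
    refine this.resolve_left fun e => hbad ⟨351, by norm_num, ?_⟩
    rw [← e]
    exact two_card_dvd_sylow_factorial hn (by omega)
  let P : Sylow 409 G := default
  have hP : Nat.card (P : Subgroup G) = 409 := by rw [sylow_card hG (by norm_num) P, pow_one]
  obtain ⟨x, hx, hx'⟩ := SetLike.not_le_iff_exists.1 (not_normalizer_le_centralizer hn P (by rw [h]; norm_num))
  have hlow := class_lower_bound P hP x hx hx'
  rw [c409] at hlow
  -- the order of `x`
  have hN := (Subgroup.normalizer ((P : Subgroup G) : Set G)).index_mul_card
  rw [P.coe_coe, ← P.card_eq_index_normalizer, c409, h] at hN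
  have hord : orderOf x ∣ 1227 := by
    have h1 := (Subgroup.normalizer ((P : Subgroup G) : Set G)).orderOf_dvd_natCard hx
    rw [P.coe_coe, show Nat.card (Subgroup.normalizer (P : Set G)) = 1227 by omega] at h1
    exact h1
  have hne1 : x ≠ 1 := fun e => hx' (e ▸ Subgroup.one_mem _)
  have hne409 : orderOf x ≠ 409 := by
    intro e
    apply hx'
    haveI : IsCyclic (P : Subgroup G) := isCyclic_of_prime_card hP
    haveI : IsMulCommutative (P : Subgroup G) := IsCyclic.isMulCommutative
    exact Subgroup.le_centralizer _ (mem_sylow_of_orderOf P hx (k := 1) (by rw [e, pow_one]))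
  have hx3 : orderOf x = 3 ∨ orderOf x = 1227 := by
    have hmem : orderOf x ∈ Nat.divisors 1227 := Nat.mem_divisors.2 ⟨hord, by norm_num⟩
    rw [show Nat.divisors 1227 = {1, 3, 409, 1227} by decide +kernel] at hmem
    simp only [Finset.mem_insert, Finset.mem_singleton, orderOf_eq_one_iff, hne1, hne409, false_or] at hmem
    exact hmem
  have hsum := sum_card_orderOf_le (G := G) {1, 409, 13, 7, orderOf x}
  rw [Finset.sum_insert (by rcases hx3 with e | e <;> simp [e]), Finset.sum_insert (by rcases hx3 with e | e <;> simp [e]),
    Finset.sum_insert (by rcases hx3 with e | e <;> simp [e]), Finset.sum_insert (by rcases hx3 with e | e <;> simp [e]),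
    Finset.sum_singleton, h] at hsum
  have e409 := card_orderOf_eq_prime (G := G) (p := 409) (fun Q => by rw [sylow_card hG (by norm_num) Q, pow_one])
  have e13 := card_orderOf_eq_prime (G := G) (p := 13) (fun Q => by rw [sylow_card hG13 (by norm_num) Q, pow_one])
  have e7 := card_orderOf_eq_prime (G := G) (p := 7) (fun Q => by rw [sylow_card hG7 (by norm_num) Q, pow_one])
  have hcl := card_class_le_card_orderOf x
  rw [e409, e13, e7, c409, c13, c7] at hsum
  omega

end Cfsg.Agent.S1002
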