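import Cfsg.Statements.S1008
import Cfsg.Agent.Lib.SylowCounting.Order168Subgroups
import Mathlib.Tactic
open Cfsg.Agent.Lib.SylowCounting

set_option autoImplicit false
open Cfsg

namespace Cfsg.Agent.S1008

/-- In a simple group of order 168 every maximal subgroup is either isomorphic to the symmetric group of degree 4 or non-abelian of order 21; the maximal subgroups of order 21 form one conjugacy class and those isomorphic to the symmetric group of degree 4 form exactly two conjugacy classes. -/
theorem result {G : Type*} [Group G] [Finite G] [IsSimpleGroup G] (h : Nat.card G = 168) : (∀ M : Subgroup G, IsCoatom M → Nonempty (↥M ≃* Equiv.Perm (Fin 4)) ∨ (Nat.card ↥M = 21 ∧ ¬ IsMulCommutative ↥M)) ∧ (∀ M M' : Subgroup G, IsCoatom M → IsCoatom M' → Nat.card ↥M = 21 → Nat.card ↥M' = 21 → ∃ g : G, M' = M.map (MulAut.conj g).toMonoidHom) ∧ ∃ M₁ M₂ : Subgroup G, IsCoatom M₁ ∧ IsCoatom M₂ ∧ Nonempty (↥M₁ ≃* Equiv.Perm (Fin 4)) ∧ Nonempty (↥M₂ ≃* Equiv.Perm (Fin 4)) ∧ (∀ g : G, M₂ ≠ M₁.map (MulAut.conj g).toMonoidHom)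 ∧ ∀ M : Subgroup G, IsCoatom M → Nonempty (↥M ≃* Equiv.Perm (Fin 4)) → ∃ g : G, M = M₁.map (MulAut.conj g).toMonoidHom ∨ M = M₂.map (MulAut.conj g).toMonoidHom := by
  haveI : Fact (Nat.Prime 2) := ⟨Nat.prime_two⟩
  haveI := Order168.prime_seven
  have card24 : ∀ M : Subgroup G, Nonempty (↥M ≃* Equiv.Perm (Fin 4)) → Nat.card M = 24 := fun M ⟨e⟩ => by
    rw [Nat.card_congr e.toEquiv, Nat.card_perm, Nat.card_fin]; rfl
  refine ⟨fun M hM => ?_, fun M M' hM hM' h1 h2 => ?_, ?_⟩
  · rcases Order168.maximal_order h M hM with e | e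
    · refine Or.inr ⟨e, fun hc => ?_⟩
      haveI := hc
      obtain ⟨x, hx⟩ := exists_prime_orderOf_dvd_card' (G := M) 7 (by rw [e]; norm_num)
      haveI : Fact (Nat.Prime 3) := ⟨Nat.prime_three⟩
      obtain ⟨y, hy⟩ := exists_prime_orderOf_dvd_card' (G := M) 3 (by rw [e]; norm_num)
      have hmem : (y : G) ∈ Subgroup.centralizer ({(x : G)} : Set G) :=
        Subgroup.mem_centralizer_singleton_iff.2 (congrArg Subtype.val (mul_comm' y x))
      have := (Subgroup.centralizer _).orderOf_dvd_natCard hmem
      rw [Order168.centralizer7 h (by rw [Subgroup.orderOf_coe]; exact hx), Subgroup.orderOf_coe, hy] at this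
      norm_num at this
    · exact Or.inl (Order168.subgroup24 h M e)
  · obtain ⟨P, hP⟩ := Order168.subgroup21 h M (by rw [h1]; norm_num) hM.1
    obtain ⟨Q, hQ⟩ := Order168.subgroup21 h M' (by rw [h2]; norm_num) hM'.1
    have e1 := Subgroup.eq_of_le_of_card_ge hP (by rw [h1, (Order168.sylow7 h P).2.1])
    have e2 := Subgroup.eq_of_le_of_card_ge hQ (by rw [h2, (Order168.sylow7 h Q).2.1])
    obtain ⟨g, rfl⟩ := MulAction.exists_smul_eq G P Q
    refine ⟨g, ?_⟩
    rw [e1, e2, Subgroup.map_equiv_normalizer_eq _ (MulAut.conj g), Sylow.coe_subgroup_smul]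
    rfl
  · let T : Sylow 2 G := default
    obtain ⟨a, b, hab, huniv⟩ := Nat.card_eq_two_iff.1 (Order168.two_fours h T)
    set U := a.1 with hUdef
    set W := b.1 with hWdef
    have hUW : U ≠ W := fun e => hab (Subtype.ext e)
    have hcU := Order168.normalizer_four h a.2.2
    have hcW := Order168.normalizer_four h b.2.2
    -- a four-group is determined by its normaliser
    have uniq : ∀ V V' : Subgroup G, IsKleinFour V → IsKleinFour V' →
        Subgroup.normalizer (V : Set G) = Subgroup.normalizer (V' : Set G) → V = V' := by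
      intro V V' hV hV' e
      by_contra hne
      set K := Subgroup.normalizer (V : Set G)
      have hVK : V ≤ K := Subgroup.le_normalizer
      have hV'K : V' ≤ K := by rw [e]; exact Subgroup.le_normalizer
      have hp : IsPGroup 2 ↥(V ⊔ V') :=
        IsPGroup.to_sup_of_normal_left' (IsPGroup.of_card (n := 2) (by rw [hV.card_four]; norm_num))
          (IsPGroup.of_card (n := 2) (by rw [hV'.card_four]; norm_num)) hV'K
      obtain ⟨S, hS⟩ := hp.exists_le_sylow
      have hVV : (V ⊔ V') = (S : Subgroup G) := by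
        refine Subgroup.eq_of_le_of_card_ge hS ?_
        rw [(Order168.n2_and_normalizer h S).1]
        obtain ⟨d, hd⟩ := Subgroup.card_dvd_of_le (le_sup_left : V ≤ V ⊔ V')
        rw [hV.card_four] at hd
        have hne4 : Nat.card ↥(V ⊔ V') ≠ 4 := fun e4 => hne (by
          have a1 := Subgroup.eq_of_le_of_card_ge (le_sup_left : V ≤ V ⊔ V') (by rw [e4, hV.card_four])
          have a2 := Subgroup.eq_of_le_of_card_ge (le_sup_right : V' ≤ V ⊔ V') (by rw [e4, hV'.card_four])
          exact a1.trans a2.symm)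
        have : 0 < Nat.card ↥(V ⊔ V') := Nat.card_pos
        rw [hd] at hne4 this ⊢
        omega
      have hKS : K ≤ Subgroup.normalizer ((S : Subgroup G) : Set G) := by
        rw [← hVV]
        intro k hk
        have k1 : k ∈ Subgroup.normalizer (V : Set G) := hk
        have k2 : k ∈ Subgroup.normalizer (V' : Set G) := e ▸ hk
        rw [Subgroup.mem_normalizer_iff_map_conj_eq] at k1 k2 ⊢
        rw [Subgroup.map_sup, k1, k2]
      have := Nat.le_of_dvd Nat.card_pos (Subgroup.card_dvd_of_le hKS)
      rw [(Order168.n2_and_normalizer h S).2.2, (Order168.n2_and_normalizer h S).1,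
        Order168.normalizer_four h hV] at this
      omega
    refine ⟨_, _, Order168.coatom21 h _ (Or.inr hcU), Order168.coatom21 h _ (Or.inr hcW),
      Order168.subgroup24 h _ hcU, Order168.subgroup24 h _ hcW, fun g e => ?_, fun M _ hM4 => ?_⟩
    · rw [Subgroup.map_equiv_normalizer_eq _ (MulAut.conj g)] at e
      have hK : IsKleinFour ↥(U.map (MulAut.conj g).toMonoidHom) := Order168.klein_iff.2
        ⟨by rw [Subgroup.card_map_of_injective (MulAut.conj g).injective]; exact a.2.2.card_four, by
          rintro _ ⟨x, hx, rfl⟩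
          rw [← map_mul, Order168.klein_sq a.2.2 hx, map_one]⟩
      exact Order168.fours_not_conj h T a.2.1 b.2.1 a.2.2 b.2.2 hUW g (uniq _ _ hK b.2.2 e.symm)
    · obtain ⟨V, hV, rfl⟩ := Order168.four_of_24 h M (card24 M hM4)
      obtain ⟨S, hS⟩ := (IsPGroup.of_card (n := 2) (by rw [hV.card_four]; norm_num) : IsPGroup 2 V).exists_le_sylow
      obtain ⟨g, hg⟩ := MulAction.exists_smul_eq G T S
      set V₀ := V.map (MulAut.conj g⁻¹).toMonoidHom
      have hV₀T : V₀ ≤ (T : Subgroup G) := by
        rintro _ ⟨x, hx, rfl⟩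
        have hxS := hS hx
        rw [← hg, Sylow.coe_subgroup_smul, Subgroup.mem_pointwise_smul_iff_inv_smul_mem, ← map_inv] at hxS
        exact hxS
      have hV₀ : IsKleinFour ↥V₀ := Order168.klein_iff.2
        ⟨by rw [Subgroup.card_map_of_injective (MulAut.conj g⁻¹).injective]; exact hV.card_four, by
          rintro _ ⟨x, hx, rfl⟩
          rw [← map_mul, Order168.klein_sq hV hx, map_one]⟩
      have hback : V₀.map (MulAut.conj g).toMonoidHom = V := by
        rw [Subgroup.map_map]
        convert Subgroup.map_id V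
        ext x
        simp [mul_assoc]
      refine ⟨g, ?_⟩
      have hmem : (⟨V₀, hV₀T, hV₀⟩ : {U : Subgroup G // U ≤ (T : Subgroup G) ∧ IsKleinFour ↥U}) ∈ ({a, b} : Set _) := by
        rw [huniv]; trivial
      rcases hmem with e | e
      · left
        rw [Subgroup.map_equiv_normalizer_eq _ (MulAut.conj g), ← hback, show V₀ = U from congrArg Subtype.val e]
      · right
        rw [Subgroup.map_equiv_normalizer_eq _ (MulAut.conj g), ← hback, show V₀ = W from congrArg Subtype.val e]

end Cfsg.Agent.S1008
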