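import Cfsg.Statements.S1009
import Mathlib.GroupTheory.Sylow
import Mathlib.Tactic

set_option autoImplicit false
open Cfsg

namespace Cfsg.Agent.S1009

/-- Brodkey's Theorem: if a finite group has abelian Sylow p-subgroups, then there are two Sylow p-subgroups whose intersection equals the intersection of all Sylow p-subgroups. -/
theorem result {G : Type*} [Group G] [Finite G] (p : ℕ) [Fact p.Prime] (hab : ∀ P : Sylow p G, IsMulCommutative ↥(P : Subgroup G)) : ∃ P Q : Sylow p G, (P : Subgroup G) ⊓ (Q : Subgroup G) = ⨅ R : Sylow p G, (R : Subgroup G) := by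
  classical
  let S : Set (Subgroup G) := Set.range fun x : Sylow p G × Sylow p G => (x.1 : Subgroup G) ⊓ x.2
  obtain ⟨D, ⟨⟨P, Q⟩, rfl⟩, hmin⟩ := (Set.toFinite S).exists_minimal (Set.range_nonempty _)
  refine ⟨P, Q, le_antisymm (le_iInf fun R => ?_) (le_inf (iInf_le _ P) (iInf_le _ Q))⟩
  set D : Subgroup G := (P : Subgroup G) ⊓ Q
  let C : Subgroup G := Subgroup.centralizer (D : Set G)
  have hPC : ∀ X : Sylow p G, D ≤ X → (X : Subgroup G) ≤ C := fun X hX x hx => by
    rw [Subgroup.mem_centralizer_iff]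
    intro d hd
    haveI := hab X
    exact congrArg Subtype.val (mul_comm' (⟨d, hX hd⟩ : (X : Subgroup G)) ⟨x, hx⟩)
  have hP := hPC P inf_le_left
  obtain ⟨T, hT⟩ := (R.isPGroup'.to_le (inf_le_left : (R : Subgroup G) ⊓ C ≤ R)).comap_subtype (K := C) |>.exists_le_sylow
  obtain ⟨c, hc⟩ := MulAction.exists_smul_eq C T (P.subtype hP)
  let R' : Sylow p G := (c : G) • R
  have hsub : (R' : Subgroup G) ⊓ Q ≤ D := by
    refine le_inf (fun x hx => ?_) inf_le_right
    have hxC : x ∈ C := hPC Q inf_le_right hx.2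
    have h1 : (c : G)⁻¹ * x * c ∈ (R : Subgroup G) := by
      have := hx.1
      change x ∈ ((c : G) • R : Sylow p G) at this
      rw [← SetLike.mem_coe, Sylow.coe_smul, Set.mem_smul_set_iff_inv_smul_mem] at this
      rw [← map_inv, MulAut.smul_def, MulAut.conj_apply, inv_inv] at this
      exact this
    have hm : (c : G)⁻¹ * x * c ∈ C := C.mul_mem (C.mul_mem (C.inv_mem c.2) hxC) c.2
    have h2 : (⟨(c : G)⁻¹ * x * c, hm⟩ : C) ∈ (T : Subgroup C) :=
      hT ⟨h1, hm⟩
    have h3 : (⟨x, hxC⟩ : C) ∈ ((c • T : Sylow p C) : Set C) := by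
      rw [Sylow.coe_smul, Set.mem_smul_set_iff_inv_smul_mem]
      rw [← map_inv, MulAut.smul_def, MulAut.conj_apply, inv_inv]
      exact h2
    rw [hc] at h3
    exact h3
  intro d hd
  have h4 : d ∈ (R' : Subgroup G) := (hmin ⟨(R', Q), rfl⟩ hsub hd).1
  change d ∈ ((c : G) • R : Sylow p G) at h4
  rw [← SetLike.mem_coe, Sylow.coe_smul, Set.mem_smul_set_iff_inv_smul_mem] at h4
  have hcd : d * (c : G) = c * d := Subgroup.mem_centralizer_iff.1 c.2 d hd
  have : (c : G)⁻¹ * d * c = d := by rw [mul_assoc, hcd, inv_mul_cancel_left]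
  rw [← this]
  rw [← map_inv, MulAut.smul_def, MulAut.conj_apply, inv_inv] at h4
  exact h4

end Cfsg.Agent.S1009
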