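import Cfsg.Statements.S1011
import Cfsg.Agent.Lib.SylowCounting.EvenPSL
import Mathlib

set_option autoImplicit false
set_option linter.style.haveILetI false
set_option maxHeartbeats 1000000
open Cfsg

namespace Cfsg.Agent.S1011

open Cfsg.Agent.Lib.SylowCounting

/-- Disjoint predicates. -/
theorem sum_four_le {α : Type*} [Finite α] (A B C D : α → Prop) (hAB : ∀ x, A x → ¬ B x) (hC : ∀ x, A x ∨ B x → ¬ C x)
    (hD : ∀ x, (A x ∨ B x) ∨ C x → ¬ D x) :
    Nat.card {x // A x} + Nat.card {x // B x} + Nat.card {x // C x} + Nat.card {x // D x} ≤ Nat.card α := by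
  have h1 := card_add_le_of_disjoint A B hAB
  have h2 := card_add_le_of_disjoint (fun x => A x ∨ B x) C hC
  have h3 := card_add_le_of_disjoint (fun x => (A x ∨ B x) ∨ C x) D hD
  have h4 := Nat.card_le_card_of_injective
    (Subtype.val : {x // ((A x ∨ B x) ∨ C x) ∨ D x} → α) Subtype.val_injective
  omega

/-- An odd prime divisor of the order excludes 2-power order. -/
theorem not_two_elem {G : Type*} [Group G] {r : ℕ} (hr : r.Prime) (hr2 : r ≠ 2) {g : G} (hd : r ∣ orderOf g) :
    ¬ ∃ j, g ^ 2 ^ j = 1 := fun ⟨j, hj⟩ =>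
  hr2 ((Nat.prime_dvd_prime_iff_eq hr Nat.prime_two).1 (hr.dvd_of_dvd_pow (hd.trans (orderOf_dvd_of_pow_eq_one hj))))

/-- A prime dividing a centralizer cannot be one with self-centralizing Sylow subgroups. -/
theorem not_dvd_of_self {G : Type*} [Group G] [Finite G] {p r : ℕ} [hp : Fact p.Prime] [hr : Fact r.Prime]
    (P : Sylow p G) (hP : Nat.card (P : Subgroup G) = p) (R : Sylow r G) (hR : Nat.card (R : Subgroup G) = r)
    (hc : Nat.card (Subgroup.centralizer ((R : Subgroup G) : Set G)) = r) (hne : p ≠ r) :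
    ¬ r ∣ Nat.card (Subgroup.centralizer ((P : Subgroup G) : Set G)) := fun h => by
  have := dvd_centralizer_swap P hP R hR h
  rw [hc] at this
  exact hne ((Nat.prime_dvd_prime_iff_eq hp.out hr.out).1 this)

variable {G : Type*} [Group G] [Finite G] [IsSimpleGroup G]

theorem psl8 (h : Nat.card G = 504) {F : Type*} [Field F] [Fintype F] (hF : Fintype.card F = 8) :
    Nonempty (G ≃* Matrix.ProjectiveSpecialLinearGroup (Fin 2) F) := by
  classical
  have hG : ¬ IsMulCommutative G := not_comm_of_not_prime (by rw [h]; norm_num)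
  haveI : Fact (Nat.Prime 2) := ⟨by norm_num⟩
  haveI : Fact (Nat.Prime 3) := ⟨by norm_num⟩
  haveI : Fact (Nat.Prime 7) := ⟨by norm_num⟩
  obtain ⟨P7⟩ : Nonempty (Sylow 7 G) := inferInstance
  have h7 : Nat.card (P7 : Subgroup G) = 7 := by
    simpa using sylow_card (p := 7) (k := 1) (m := 72) (by rw [h]; norm_num) (by norm_num) P7
  obtain ⟨e7, heq7, he7, hed7, hd7⟩ := sylow_data hG P7 h7
  rw [h] at heq7
  have n7 := sylow_count_candidates (G := G) (p := 7) (k := 1) (m := 72) (by rw [h]; norm_num) (by norm_num) one_ne_zero (by norm_num)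
  rw [show candidates 7 72 = {8, 36} by decide +kernel] at n7
  simp only [Finset.mem_insert, Finset.mem_singleton] at n7
  have hN7 : Nat.card (Sylow 7 G) * Nat.card (Subgroup.normalizer ((P7 : Subgroup G) : Set G)) = 504 := by
    rw [P7.card_eq_index_normalizer, P7.coe_coe, mul_comm, Subgroup.card_mul_index, h]
  have n36 : Nat.card (Sylow 7 G) = 36 := by
    rcases n7 with e | e
    · exfalso
      have := two_card_normalizer_dvd hG (by norm_num) P7 h7 (by omega) (by omega)
      rw [e] at hN7 this
      rw [show Nat.card (Subgroup.normalizer ((P7 : Subgroup G) : Set G)) = 63 by omega] at this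
      norm_num at this
    · exact e
  have c7 : Nat.card (Subgroup.centralizer ((P7 : Subgroup G) : Set G)) = 7 := by
    rw [n36] at heq7
    obtain ⟨k, hk⟩ := hd7
    rw [hk] at heq7
    have hk1 : k * e7 = 2 := by nlinarith [heq7]
    rcases (Nat.dvd_prime Nat.prime_two).1 (Dvd.intro e7 hk1 : k ∣ 2) with rfl | rfl
    · rw [hk, mul_one]
    · omega
  have N14 : Nat.card (Subgroup.normalizer ((P7 : Subgroup G) : Set G)) = 14 := by rw [n36] at hN7; omega
  -- no subgroup of index at most seven
  have hindex : ∀ K : Subgroup G, K ≠ ⊤ → ¬ K.index ≤ 7 := by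
    intro K hK hle
    have hd := two_card_dvd_factorial hG K hK
    rw [h] at hd
    have := Nat.le_of_dvd (Nat.factorial_pos _) hd
    rcases Nat.lt_or_ge K.index 7 with hlt | hge
    · have h6 := Nat.factorial_le (Nat.le_of_lt_succ hlt)
      norm_num [Nat.factorial] at h6
      omega
    · have h7' := two_card_normalizer_dvd_index hG (p := 7) (by norm_num) P7 h7 K hK (by omega) (by omega)
      rw [N14, show K.index = 7 by omega] at h7'
      norm_num at h7'
  -- three
  have h3c : ∀ P : Sylow 3 G, Nat.card (P : Subgroup G) = 9 := fun P => by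
    simpa using sylow_card (p := 3) (k := 2) (m := 56) (by rw [h]; norm_num) (by norm_num) P
  have h3ab : ∀ P : Sylow 3 G, IsMulCommutative (P : Subgroup G) := fun P =>
    IsPGroup.isMulCommutative_of_card_eq_prime_sq (p := 3) (by rw [h3c P]; norm_num)
  have hN3 : ∀ P : Sylow 3 G, Nat.card (Subgroup.normalizer ((P : Subgroup G) : Set G)) = 18 := by
    intro P
    have n3 := sylow_count_candidates (G := G) (p := 3) (k := 2) (m := 56) (by rw [h]; norm_num) (by norm_num) (by norm_num) (by norm_num)
    rw [show candidates 3 56 = {4, 7, 28} by decide +kernel] at n3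
    simp only [Finset.mem_insert, Finset.mem_singleton] at n3
    have hN : Nat.card (Sylow 3 G) * Nat.card (Subgroup.normalizer ((P : Subgroup G) : Set G)) = 504 := by
      rw [P.card_eq_index_normalizer, P.coe_coe, mul_comm, Subgroup.card_mul_index, h]
    have hi : Nat.card (Sylow 3 G) = (Subgroup.normalizer ((P : Subgroup G) : Set G)).index := P.card_eq_index_normalizer
    have hNt : Subgroup.normalizer ((P : Subgroup G) : Set G) ≠ ⊤ := fun e => by
      rw [e, Subgroup.index_top] at hi
      omega
    have := hindex _ hNt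
    rcases n3 with e | e | e <;> rw [e] at hN hi <;> omega
  have hz : ∀ z : G, orderOf z = 3 → ∀ P : Sylow 3 G, z ∈ (P : Subgroup G) →
      Subgroup.centralizer ({z} : Set G) = (P : Subgroup G) := by
    intro z hzo P hzP
    haveI := h3ab P
    set C := Subgroup.centralizer ({z} : Set G) with hC
    have hPC : (P : Subgroup G) ≤ C := fun x hx => Subgroup.mem_centralizer_singleton_iff.2
      (congrArg Subtype.val (mul_comm' (⟨x, hx⟩ : (P : Subgroup G)) ⟨z, hzP⟩))
    set N := Subgroup.normalizer ((P : Subgroup G) : Set G) with hN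
    have h2 : Nat.card C ∣ 504 := h ▸ Subgroup.card_subgroup_dvd_card C
    have h9 : 9 ∣ Nat.card C := h3c P ▸ Subgroup.card_dvd_of_le hPC
    have h7C : ¬ 7 ∣ Nat.card C := by
      intro hd
      obtain ⟨w, hw⟩ := exists_prime_orderOf_dvd_card' (G := C) 7 hd
      have hwo : orderOf (w : G) = 7 := by rw [Subgroup.orderOf_coe, hw]
      have h3d : orderOf z ∣ Nat.card (Subgroup.centralizer ({(w : G)} : Set G)) :=
        Subgroup.orderOf_dvd_natCard _ (Subgroup.mem_centralizer_singleton_iff.2 (Subgroup.mem_centralizer_singleton_iff.1 w.2).symm)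
      rw [card_centralizer_prime P7 h7 hwo, c7, hzo] at h3d
      norm_num at h3d
    -- the normalizer of `P` does not centralize `z`
    have hNC : ¬ N ≤ C := by
      intro hle
      have key : ∀ (k : ℕ) (g₀ : G), g₀⁻¹ * z ^ k * g₀ ∈ (P : Subgroup G) → g₀⁻¹ * z ^ k * g₀ = z ^ k := by
        intro k g₀ hg
        have hPle : (P : Subgroup G) ≤ Subgroup.centralizer ((P : Subgroup G) : Set G) := Subgroup.le_centralizer _
        obtain ⟨n, hn, he⟩ := Sylow.conj_eq_normalizer_conj_of_mem_centralizer P (z ^ k) g₀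
          (hPle (Subgroup.pow_mem _ hzP k)) (hPle hg)
        rw [he]
        have : n * z ^ k = z ^ k * n := (Commute.pow_right (Subgroup.mem_centralizer_singleton_iff.1 (hle hn) : Commute n z) k).eq
        rw [mul_assoc, ← this, inv_mul_cancel_left]
      haveI := (P : Subgroup G).finiteIndex_of_finite
      let _ : CommGroup (P : Subgroup G) :=
        { (inferInstance : Group (P : Subgroup G)) with mul_comm := fun a b => mul_comm' a b }
      have ht := MonoidHom.transfer_eq_pow (MonoidHom.id (P : Subgroup G)) z key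
      rw [hom_zmod_trivial hG (MonoidHom.transfer (MonoidHom.id (P : Subgroup G))) z] at ht
      have h56 : (P : Subgroup G).index = 56 := by
        have := (P : Subgroup G).card_mul_index
        rw [h3c P, h] at this
        omega
      have hpow := congrArg Subtype.val ht
      simp only [MonoidHom.id_apply, Subgroup.coe_one, h56] at hpow
      have := orderOf_dvd_of_pow_eq_one hpow.symm
      rw [hzo] at this
      norm_num at this
    have hPN : (P : Subgroup G) ≤ N := Subgroup.le_normalizer
    have hCN : C ⊓ N = (P : Subgroup G) := by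
      have hle : (P : Subgroup G) ≤ C ⊓ N := le_inf hPC hPN
      refine (Subgroup.eq_of_le_of_card_ge hle ?_).symm
      have d1 := Subgroup.card_dvd_of_le hle
      have d2 := Subgroup.card_dvd_of_le (inf_le_right : C ⊓ N ≤ N)
      rw [h3c P] at d1 ⊢
      rw [hN3 P] at d2
      obtain ⟨a, ha⟩ := d1
      have : Nat.card ↥(C ⊓ N) ≤ 18 := Nat.le_of_dvd (by norm_num) d2
      rcases (show a = 0 ∨ a = 1 ∨ a = 2 by omega) with rfl | rfl | rfl
      · rw [ha]; omega
      · omega
      · exfalso
        apply hNC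
        rw [← Subgroup.eq_of_le_of_card_ge (inf_le_right : C ⊓ N ≤ N) (by rw [hN3 P, ha])]
        exact inf_le_left
    by_contra hne
    have hne' : Nat.card C ≠ 9 := fun e => hne (Subgroup.eq_of_le_of_card_ge hPC (by rw [e, h3c P])).symm
    have hfC : (Nat.card C).factorization 3 = 2 := by
      obtain ⟨m, hm⟩ := h9
      have h3m : ¬ 3 ∣ m := by
        rintro ⟨j, rfl⟩
        rw [hm] at h2
        have : 27 ∣ 504 := (show 27 ∣ 9 * (3 * j) by exact ⟨j, by ring⟩).trans h2
        norm_num at this
      rw [hm, Nat.factorization_mul (by norm_num) (by rintro rfl; simp at h3m), Finsupp.add_apply,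
        show (9 : ℕ) = 3 ^ 2 by norm_num, Nat.Prime.factorization_pow (by norm_num), Finsupp.single_eq_same,
        Nat.factorization_eq_zero_of_not_dvd h3m]
    let PC : Sylow 3 C := Sylow.ofCard ((P : Subgroup G).subgroupOf C) (by
      rw [Nat.card_congr (Subgroup.subgroupOfEquivOfLe hPC).toEquiv, h3c P, hfC]; norm_num)
    have hPCn : Subgroup.normalizer ((PC : Subgroup C) : Set C) = (PC : Subgroup C) := by
      refine le_antisymm (fun x hx => ?_) Subgroup.le_normalizer
      have hx' : (x : G) ∈ C ⊓ N := by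
        refine ⟨x.2, Subgroup.mem_normalizer_iff.2 fun y => ?_⟩
        have hxy := fun y' : C => (Subgroup.mem_normalizer_iff.1 hx) y'
        constructor
        · intro hy
          have := (hxy ⟨y, hPC hy⟩).1 (Subgroup.mem_subgroupOf.2 hy)
          exact Subgroup.mem_subgroupOf.1 this
        · intro hy
          have hyC : y ∈ C := by
            have := C.mul_mem (C.mul_mem (C.inv_mem x.2) (hPC hy)) x.2
            simpa [mul_assoc] using this
          exact Subgroup.mem_subgroupOf.1 ((hxy ⟨y, hyC⟩).2 (Subgroup.mem_subgroupOf.2 hy))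
      rw [hCN] at hx'
      exact Subgroup.mem_subgroupOf.2 hx'
    have hnc : Subgroup.normalizer ((PC : Subgroup C) : Set C) ≤ Subgroup.centralizer ((PC : Subgroup C) : Set C) := by
      rw [hPCn]
      intro a ha b hb
      exact Subtype.ext (congrArg Subtype.val (mul_comm' (⟨(b : G), Subgroup.mem_subgroupOf.1 hb⟩ : (P : Subgroup G))
        ⟨(a : G), Subgroup.mem_subgroupOf.1 ha⟩) :)
    obtain ⟨V, hcompl, hVn⟩ : ∃ V : Subgroup C, Subgroup.IsComplement' V (PC : Subgroup C) ∧ V.Normal :=
      ⟨_, MonoidHom.ker_transferSylow_isComplement' PC hnc, inferInstance⟩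
    have hPCc : Nat.card (PC : Subgroup C) = 9 :=
      (Nat.card_congr (Subgroup.subgroupOfEquivOfLe hPC).toEquiv).trans (h3c P)
    have hVc : Nat.card V * 9 = Nat.card C := by
      rw [← hcompl.card_mul, hPCc]
    have hnC : Nat.card (Sylow 3 C) = Nat.card V := by
      rw [PC.card_eq_index_normalizer]
      change (Subgroup.normalizer ((PC : Subgroup C) : Set C)).index = Nat.card V
      rw [hPCn]
      have := (PC : Subgroup C).card_mul_index
      rw [hPCc, ← hVc] at this
      omega
    have hmod := card_sylow_modEq_one 3 C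
    rw [hnC] at hmod
    unfold Nat.ModEq at hmod
    have hV4 : Nat.card V = 4 := by
      have hd : Nat.card V * 9 ∣ 56 * 9 := by rw [hVc]; exact h2
      have hV : Nat.card V ∣ 56 := (Nat.mul_dvd_mul_iff_right (by norm_num)).1 hd
      have hV7 : ¬ 7 ∣ Nat.card V := fun e => h7C (hVc ▸ e.mul_right 9)
      have : ∀ v ∈ Nat.divisors 56, v % 3 = 1 → ¬ 7 ∣ v → v = 1 ∨ v = 4 := by decide
      rcases this _ (Nat.mem_divisors.2 ⟨hV, by norm_num⟩) hmod hV7 with e | e
      · rw [e, one_mul] at hVc; exact absurd hVc.symm hne'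
      · exact e
    set V' := V.map C.subtype
    have hV' : Nat.card V' = 2 ^ 2 := by rw [Subgroup.card_map_of_injective C.subtype_injective, hV4]; norm_num
    obtain ⟨W, hWc, hVW⟩ := Sylow.exists_subgroup_card_pow_succ (p := 2) (n := 2) (by rw [h]; norm_num) hV'
    set M := Subgroup.normalizer (V' : Set G)
    have hCM : C ≤ M := fun x hx => by
      rw [Subgroup.mem_normalizer_iff]
      intro y
      constructor
      · rintro ⟨v, hv, rfl⟩
        exact ⟨⟨x, hx⟩ * v * ⟨x, hx⟩⁻¹, hVn.conj_mem v hv _, rfl⟩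
      · rintro ⟨v, hv, e⟩
        refine ⟨⟨x, hx⟩⁻¹ * v * ⟨x, hx⟩, by have := hVn.conj_mem v hv (⟨x, hx⟩⁻¹); rwa [inv_inv] at this, ?_⟩
        simp only [Subgroup.coe_subtype, Subgroup.coe_mul, Subgroup.coe_inv] at e ⊢
        rw [e]; group
    haveI : (V'.subgroupOf W).Normal := Subgroup.normal_of_index_eq_minFac_card (by
      have h8 : Nat.card W = 8 := by rw [hWc]; norm_num
      have hidx : (V'.subgroupOf W).index = 2 := by
        have := (V'.subgroupOf W).card_mul_index
        rw [Nat.card_congr (Subgroup.subgroupOfEquivOfLe hVW).toEquiv, hV', h8] at this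
        omega
      rw [hidx, h8]
      norm_num)
    have hWM : W ≤ M := fun x hx => by
      rw [Subgroup.mem_normalizer_iff]
      intro y
      constructor
      · intro hy
        exact Subgroup.mem_subgroupOf.1 ((inferInstance : (V'.subgroupOf W).Normal).conj_mem ⟨y, hVW hy⟩
          (Subgroup.mem_subgroupOf.2 hy) ⟨x, hx⟩)
      · intro hy
        have hyW : y ∈ W := by
          have := W.mul_mem (W.mul_mem (W.inv_mem hx) (hVW hy)) hx
          simpa [mul_assoc] using this
        have := Subgroup.mem_subgroupOf.1 ((inferInstance : (V'.subgroupOf W).Normal).conj_mem ⟨x * y * x⁻¹, hVW hy⟩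
          (Subgroup.mem_subgroupOf.2 hy) ⟨x, hx⟩⁻¹)
        simpa [mul_assoc] using this
    have hM72 : 72 ∣ Nat.card M := Nat.Coprime.mul_dvd_of_dvd_of_dvd (m := 9) (n := 8) (by norm_num)
      (h9.trans (Subgroup.card_dvd_of_le hCM)) (by rw [show 8 = Nat.card W by rw [hWc]; norm_num]; exact Subgroup.card_dvd_of_le hWM)
    have hMi := M.card_mul_index
    rw [h] at hMi
    have hMt : M ≠ ⊤ := fun e => by
      have hn : V'.Normal := by
        constructor
        intro n hn g
        exact (Subgroup.mem_normalizer_iff.1 (show g ∈ M by rw [e]; trivial) n).1 hn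
      rcases IsSimpleGroup.eq_bot_or_eq_top_of_normal V' hn with e' | e'
      · rw [e', Subgroup.card_bot] at hV'; norm_num at hV'
      · rw [e', Subgroup.card_top, h] at hV'; norm_num at hV'
    refine hindex M hMt ?_
    have : 72 * M.index ≤ 504 := hMi ▸ Nat.mul_le_mul_right _ (Nat.le_of_dvd Nat.card_pos hM72)
    omega
  have hmem3 : ∀ z : G, orderOf z = 3 → ∃ P : Sylow 3 G, z ∈ (P : Subgroup G) := fun z hzo => by
    obtain ⟨P, hP⟩ := IsPGroup.exists_le_sylow (p := 3) (P := Subgroup.zpowers z)
      (IsPGroup.of_card (n := 1) (by rw [Nat.card_zpowers, hzo, pow_one]))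
    exact ⟨P, hP (Subgroup.mem_zpowers z)⟩
  -- count
  have A7 := card_orderOf_eq_prime (G := G) (p := 7) (fun P => by
    simpa using sylow_card (p := 7) (k := 1) (m := 72) (by rw [h]; norm_num) (by norm_num) P)
  rw [n36] at A7
  have A3 : 224 ≤ Nat.card {g : G // g ≠ 1 ∧ g ^ 9 = 1} := by
    haveI : Fintype (Sylow 3 G) := Fintype.ofFinite _
    haveI : ∀ P : Sylow 3 G, Fintype (P : Subgroup G) := fun P => Fintype.ofFinite _
    let f : (Σ P : Sylow 3 G, {g : (P : Subgroup G) // g ≠ 1}) → {g : G // g ≠ 1 ∧ g ^ 9 = 1} := fun x =>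
      ⟨x.2.1.1, fun e => x.2.2 (Subtype.ext e), by
        rw [← h3c x.1]; exact orderOf_dvd_iff_pow_eq_one.1 (Subgroup.orderOf_dvd_natCard _ x.2.1.2)⟩
    have hinj : Function.Injective f := by
      rintro ⟨P, g⟩ ⟨P', g'⟩ e
      have e' : ((g : (P : Subgroup G)) : G) = ((g' : (P' : Subgroup G)) : G) := congrArg Subtype.val e
      have hg : (g : (P : Subgroup G)) ≠ 1 := g.2
      obtain ⟨j, hj⟩ : ∃ j, orderOf (((g : (P : Subgroup G)) : G) ^ j) = 3 := by
        set x := ((g : (P : Subgroup G)) : G)
        have hx : orderOf x ∣ 3 ^ 2 := by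
          have := Subgroup.orderOf_dvd_natCard _ g.1.2
          rwa [h3c P] at this
        have hx1 : orderOf x ≠ 1 := fun e1 => hg (Subtype.ext (orderOf_eq_one_iff.1 e1))
        obtain ⟨i, hi, hx⟩ := (Nat.dvd_prime_pow (by norm_num)).1 hx
        interval_cases i
        · simp [hx] at hx1
        · exact ⟨1, by rw [pow_one, hx, pow_one]⟩
        · exact ⟨3, by rw [orderOf_pow, hx]; norm_num⟩
      have h1 := hz _ hj P (Subgroup.pow_mem _ g.1.2 j)
      have h2 := hz _ hj P' (Subgroup.pow_mem _ (e' ▸ g'.1.2) j)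
      obtain rfl : P = P' := Sylow.ext (h1.symm.trans h2)
      exact congrArg (Sigma.mk P) (Subtype.ext (Subtype.ext e'))
    refine le_trans (le_of_eq ?_) (Nat.card_le_card_of_injective f hinj)
    rw [Nat.card_sigma, Finset.sum_const_nat (m := 8), Finset.card_univ, ← Nat.card_eq_fintype_card]
    · obtain ⟨P⟩ : Nonempty (Sylow 3 G) := inferInstance
      have hN : Nat.card (Sylow 3 G) * Nat.card (Subgroup.normalizer ((P : Subgroup G) : Set G)) = 504 := by
        rw [P.card_eq_index_normalizer, P.coe_coe, mul_comm, Subgroup.card_mul_index, h]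
      rw [hN3 P] at hN
      omega
    · intro P _
      rw [Nat.card_eq_fintype_card, Fintype.card_subtype_compl, Fintype.card_subtype_eq, ← Nat.card_eq_fintype_card, h3c P]
  have hS2 : Nat.card {g : G // g ≠ 1 ∧ ∃ j, g ^ 2 ^ j = 1} ≤ 63 := by
    have hone : Nat.card {g : G // g = 1} = 1 := by simp
    have h3dvd : ∀ g : G, g ≠ 1 → g ^ 9 = 1 → 3 ∣ orderOf g := fun g g1 g9 => by
      have hd : orderOf g ∣ 3 ^ 2 := orderOf_dvd_of_pow_eq_one g9
      obtain ⟨i, -, hi⟩ := (Nat.dvd_prime_pow (by norm_num)).1 hd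
      rcases i with _ | i
      · exact absurd (orderOf_eq_one_iff.1 (by rw [hi, pow_zero])) g1
      · rw [hi, pow_succ]; exact dvd_mul_left 3 _
    have := sum_four_le (fun g : G => g = 1) (fun g => orderOf g = 7) (fun g => g ≠ 1 ∧ g ^ 9 = 1)
      (fun g => g ≠ 1 ∧ ∃ j, g ^ 2 ^ j = 1) (fun g a b => by rw [a, orderOf_one] at b; omega)
      (fun g a b => a.elim (fun e => b.1 e) (fun e => by
        have := orderOf_dvd_of_pow_eq_one b.2
        rw [e] at this; norm_num at this))
      (fun g a b => by
        rcases a with (e | e) | e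
        · exact b.1 e
        · exact not_two_elem (r := 7) (by norm_num) (by norm_num) (by rw [e]) b.2
        · exact not_two_elem (r := 3) (by norm_num) (by norm_num) (h3dvd g e.1 e.2) b.2)
    rw [h] at this
    omega
  refine iso_psl_even hG (q := 8) (k := 3) (by norm_num) (by norm_num) ?_ ?_ (by rw [h]; exact hS2) hF
  · rw [h, show (504 : ℕ) = 2 ^ 3 * 63 by norm_num, Nat.factorization_mul (by norm_num) (by norm_num),
      Finsupp.add_apply, Nat.Prime.factorization_pow Nat.prime_two, Finsupp.single_eq_same,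
      Nat.factorization_eq_zero_of_not_dvd (by norm_num)]
  · intro r z hr hr2 hzr
    have hd : r ∣ 504 := h ▸ hzr ▸ orderOf_dvd_natCard z
    rw [show (504 : ℕ) = 2 ^ 3 * 3 ^ 2 * 7 by norm_num] at hd
    simp only [hr.dvd_mul] at hd
    rcases hd with (hd | hd) | hd
    · exact absurd ((Nat.prime_dvd_prime_iff_eq hr Nat.prime_two).1 (hr.dvd_of_dvd_pow hd)) hr2
    · obtain rfl := (Nat.prime_dvd_prime_iff_eq hr (by norm_num)).1 (hr.dvd_of_dvd_pow hd)
      obtain ⟨P, hP⟩ := hmem3 z hzr
      rw [hz z hzr P hP, h3c P]; decide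
    · obtain rfl := (Nat.prime_dvd_prime_iff_eq hr (by norm_num)).1 hd
      rw [card_centralizer_prime P7 h7 hzr, c7]; decide

/-- A simple group of order 504 is isomorphic to the projective special linear group of dimension 2 over the field with 8 elements. -/
theorem result {G : Type*} [Group G] [Finite G] [IsSimpleGroup G] (h : Nat.card G = 504) {F : Type*} [Field F] [Fintype F] (hF : Fintype.card F = 8) : Nonempty (G ≃* Matrix.ProjectiveSpecialLinearGroup (Fin 2) F) := by
  exact psl8 h hF


end Cfsg.Agent.S1011
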