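import Cfsg.Statements.S1013
import Cfsg.Agent.Lib.SylowCounting.PermNormalizer
import Cfsg.Agent.Lib.SylowCounting.Tools
import Mathlib.Tactic
open Cfsg.Agent.Lib.SylowCounting

set_option autoImplicit false
open Cfsg

namespace Cfsg.Agent.S1013

/-- Let G be a transitive permutation group of prime degree p having more than one Sylow p-subgroup, and suppose a Sylow p-subgroup P has prime index in its normalizer. Then G is simple. -/
theorem result {α : Type*} [Fintype α] [DecidableEq α] {p : ℕ} [Fact p.Prime] (hα : Fintype.card α = p) (G : Subgroup (Equiv.Perm α)) [MulAction.IsPretransitive ↥G α] (P : Sylow p ↥G) (hn : 1 < Nat.card (Sylow p ↥G)) (ht : (((P : Subgroup ↥G).subgroupOf (Subgroup.normalizer ((P : Subgroup ↥G) : Set ↥G))).index).Prime) : IsSimpleGroup ↥G := by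
  classical
  have hp := Fact.out (p := p.Prime)
  haveI : Nonempty α := Fintype.card_pos_iff.1 (hα ▸ hp.pos)
  -- the Sylow subgroups have order `p`
  have hPp : ∀ Q : Sylow p ↥G, Nat.card (Q : Subgroup ↥G) = p := by
    intro Q
    obtain ⟨m, hm, hmd⟩ := factorial_prime_part hp hα.ge (by have := hp.two_le; omega)
    have h2 : Nat.card G ∣ p ^ 1 * m := by
      rw [← hm, ← Nat.card_eq_fintype_card, ← Nat.card_perm]
      exact G.card_subgroup_dvd_card
    have h1 : p ∣ Nat.card G := by
      have e := (MulAction.stabilizer ↥G (Classical.arbitrary α)).index_mul_card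
      rw [MulAction.index_stabilizer_of_transitive, Nat.card_eq_fintype_card, hα] at e
      exact ⟨_, e.symm⟩
    obtain ⟨k, hk⟩ := Q.isPGroup'.exists_card_eq
    have hk1 : k ≤ 1 := by
      by_contra hk1
      have h3 : p ^ 2 ∣ p ^ 1 * m := (pow_dvd_pow p (by omega : 2 ≤ k)).trans
        ((hk ▸ (Q : Subgroup ↥G).card_subgroup_dvd_card).trans h2)
      rw [pow_one, pow_two] at h3
      exact hmd (Nat.dvd_of_mul_dvd_mul_left hp.pos h3)
    have := Q.dvd_card_of_dvd_card h1
    interval_cases k
    · rw [hk, pow_zero] at this; exact absurd this hp.not_dvd_one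
    · rw [hk, pow_one]
  -- nontrivial normal subgroups are transitive
  have htrans : ∀ M : Subgroup ↥G, M.Normal → M ≠ ⊥ → p ∣ Nat.card M := by
    intro M hM hne
    obtain ⟨g, hg, hg1⟩ := (M.ne_bot_iff_exists_ne_one.1 hne) |> fun ⟨⟨g, hg⟩, h⟩ => (⟨g, hg, fun e => h (Subtype.ext e)⟩ : ∃ g ∈ M, g ≠ 1)
    obtain ⟨a, ha⟩ : ∃ a : α, g • a ≠ a := by
      by_contra hall
      push_neg at hall
      exact hg1 (Subtype.ext (Equiv.ext hall))
    -- all orbits of `M` have equal size
    have hsame : ∀ b : α, Nat.card (MulAction.orbit M b) = Nat.card (MulAction.orbit M a) := by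
      intro b
      obtain ⟨x, rfl⟩ := MulAction.exists_smul_eq ↥G a b
      have e : (MulAction.orbit M (x • a) : Set α) = (fun y => x • y) '' MulAction.orbit M a := by
        ext y
        constructor
        · rintro ⟨m, rfl⟩
          refine ⟨_, ⟨⟨x⁻¹ * m * x, by simpa using hM.conj_mem m m.2 x⁻¹⟩, rfl⟩, ?_⟩
          show x • ((x⁻¹ * (m : ↥G) * x) • a) = (m : ↥G) • (x • a)
          rw [mul_smul, mul_smul, smul_inv_smul]
        · rintro ⟨_, ⟨m, rfl⟩, rfl⟩
          refine ⟨⟨x * m * x⁻¹, hM.conj_mem m m.2 x⟩, ?_⟩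
          show (x * (m : ↥G) * x⁻¹) • (x • a) = x • ((m : ↥G) • a)
          rw [mul_smul, mul_smul, inv_smul_smul]
      rw [e, Nat.card_image_of_injective (MulAction.injective x)]
    haveI : Fintype (MulAction.orbitRel.Quotient M α) := Fintype.ofFinite _
    have hsum : Nat.card α = Nat.card (MulAction.orbitRel.Quotient M α) * Nat.card (MulAction.orbit M a) := by
      rw [Nat.card_congr (MulAction.selfEquivSigmaOrbits M α), Nat.card_sigma,
        Finset.sum_const_nat (m := Nat.card (MulAction.orbit M a)) (fun ω _ => hsame _),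
        Finset.card_univ, ← Nat.card_eq_fintype_card]
    rw [Nat.card_eq_fintype_card, hα] at hsum
    have ho : Nat.card (MulAction.orbit M a) = p := by
      refine ((Nat.dvd_prime hp).1 (Dvd.intro_left _ hsum.symm)).resolve_left fun h1 => ?_
      haveI := (Nat.card_eq_one_iff_unique.1 h1).1
      exact ha (congrArg Subtype.val (Subsingleton.elim
        (⟨g • a, ⟨⟨g, hg⟩, rfl⟩⟩ : MulAction.orbit M a) ⟨a, MulAction.mem_orbit_self a⟩))
    rw [← ho, Nat.card_congr (MulAction.orbitEquivQuotientStabilizer M a), ← Subgroup.index]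
    exact Subgroup.index_dvd_card _
  haveI : Nontrivial ↥G := by
    rw [← not_subsingleton_iff_nontrivial]
    intro hs
    exact hn.ne' (Nat.card_eq_one_iff_unique.2 ⟨⟨fun a b => Sylow.ext (Subsingleton.elim _ _)⟩, inferInstance⟩)
  refine ⟨fun K hK => or_iff_not_imp_left.2 fun hne => ?_⟩
  haveI := hK
  have hpK := htrans K hK hne
  obtain ⟨x, hx⟩ := exists_prime_orderOf_dvd_card' (G := K) p hpK
  -- `K` contains every Sylow `p`-subgroup
  have hle : ∀ Q : Sylow p ↥G, (Q : Subgroup ↥G) ≤ K := by
    intro Q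
    obtain ⟨R, hR⟩ := (IsPGroup.of_card (n := 1) (by rw [Nat.card_zpowers, Subgroup.orderOf_coe, hx, pow_one]) :
      IsPGroup p (Subgroup.zpowers (x : ↥G))).exists_le_sylow
    have e : Subgroup.zpowers (x : ↥G) = R := Subgroup.eq_of_le_of_card_ge hR (by
      rw [hPp R, Nat.card_zpowers, Subgroup.orderOf_coe, hx])
    obtain ⟨c, rfl⟩ := MulAction.exists_smul_eq ↥G R Q
    rw [Sylow.coe_subgroup_smul, ← e]
    intro y hy
    rw [Subgroup.mem_pointwise_smul_iff_inv_smul_mem, ← map_inv, MulAut.smul_def, MulAut.conj_apply, inv_inv] at hy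
    have := hK.conj_mem _ ((Subgroup.zpowers_le.2 x.2) hy) c
    simpa [mul_assoc] using this
  let PK : Sylow p K := P.subtype (hle P)
  set N := Subgroup.normalizer ((P : Subgroup ↥G) : Set ↥G)
  by_contra hKt
  by_cases hNK : K ⊓ N = (P : Subgroup ↥G)
  · -- then `K` has a normal `p`-complement
    have hcyc : IsCyclic (PK : Subgroup K) :=
      isCyclic_of_prime_card (p := p) (by rw [Sylow.coe_subtype, Nat.card_congr (Subgroup.subgroupOfEquivOfLe (hle P)).toEquiv, hPp P])
    haveI : IsMulCommutative (PK : Subgroup K) := IsCyclic.isMulCommutative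
    have hNC : Subgroup.normalizer (PK : Set K) ≤ Subgroup.centralizer (PK : Set K) := by
      intro y hy
      rw [← Sylow.coe_coe] at hy ⊢
      refine Subgroup.le_centralizer _ ?_
      rw [Sylow.coe_subtype, ← Subgroup.subgroupOf_normalizer_eq (hle P), Subgroup.mem_subgroupOf] at hy
      rw [Sylow.coe_subtype, Subgroup.mem_subgroupOf, ← hNK]
      exact ⟨y.2, hy⟩
    have hcomp := MonoidHom.ker_transferSylow_isComplement' PK hNC
    have hnd := MonoidHom.not_dvd_card_ker_transferSylow PK hNC
    set φ := MonoidHom.transferSylow PK hNC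
    let M : Subgroup ↥G := φ.ker.map K.subtype
    have hMc : Nat.card M = Nat.card φ.ker := Subgroup.card_map_of_injective K.subtype_injective
    have hMn : M.Normal := by
      refine ⟨fun m hm c => ?_⟩
      obtain ⟨y, hy, rfl⟩ := hm
      refine ⟨⟨c * y * c⁻¹, hK.conj_mem y y.2 c⟩, ?_, rfl⟩
      set y' : K := ⟨c * y * c⁻¹, hK.conj_mem y y.2 c⟩
      have h1 : orderOf y' ∣ Nat.card φ.ker := by
        have e : orderOf y' = orderOf y := by
          rw [← Subgroup.orderOf_coe, ← Subgroup.orderOf_coe y]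
          show orderOf (c * y * c⁻¹ : ↥G) = _
          simpa using (MulAut.conj c).orderOf_eq (y : ↥G)
        rw [e]
        exact φ.ker.orderOf_dvd_natCard hy
      have h2 : orderOf (φ y') ∣ Nat.card φ.ker := (orderOf_map_dvd φ y').trans h1
      have h3 : orderOf (φ y') ∣ p := by
        have := orderOf_dvd_natCard (φ y')
        refine this.trans (dvd_of_eq ?_)
        show Nat.card ↥((P : Subgroup ↥G).subgroupOf K) = p
        rw [Nat.card_congr (Subgroup.subgroupOfEquivOfLe (hle P)).toEquiv, hPp P]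
      rcases (Nat.dvd_prime hp).1 h3 with h | h
      · exact orderOf_eq_one_iff.1 h
      · rw [h] at h2; exact absurd h2 hnd
    have hMb : M = ⊥ := by
      by_contra hMb
      exact hnd (hMc ▸ htrans M hMn hMb)
    rw [hMb, Subgroup.card_bot] at hMc
    have hKc : Nat.card K = p := by
      rw [← hcomp.card_mul, ← hMc, one_mul, Sylow.coe_subtype, Nat.card_congr (Subgroup.subgroupOfEquivOfLe (hle P)).toEquiv, hPp P]
    apply hn.ne'
    rw [Nat.card_eq_one_iff_unique]
    refine ⟨⟨fun Q R => Sylow.ext ?_⟩, inferInstance⟩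
    have e : ∀ Q : Sylow p ↥G, (Q : Subgroup ↥G) = K := fun Q =>
      Subgroup.eq_of_le_of_card_ge (hle Q) (by rw [hKc, hPp Q])
    rw [e Q, e R]
  · -- otherwise `K` contains the whole normaliser
    have hN : N ≤ K := by
      have h1 : (K ⊓ N).relIndex N ≠ 0 := ((K ⊓ N).subgroupOf N).index_ne_zero_of_finite
      have h2 : (P : Subgroup ↥G).relIndex (K ⊓ N) * (K ⊓ N).relIndex N = (P : Subgroup ↥G).relIndex N :=
        Subgroup.relIndex_mul_relIndex _ _ _ (le_inf (hle P) Subgroup.le_normalizer) inf_le_right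
      rcases (Nat.dvd_prime ht).1 (Dvd.intro _ h2) with h | h
      · exact absurd (le_antisymm (Subgroup.relIndex_eq_one.1 h) (le_inf (hle P) Subgroup.le_normalizer)) hNK
      · have h4 : (K ⊓ N).relIndex N = 1 := by
          change ((P : Subgroup ↥G).relIndex N).Prime at ht
          rw [h] at h2
          exact Nat.eq_of_mul_eq_mul_left ht.pos (h2.trans (mul_one _).symm)
        exact (Subgroup.relIndex_eq_one.1 h4).trans inf_le_left
    apply hKt
    rw [eq_top_iff]
    intro g _
    obtain ⟨k, hk⟩ := MulAction.exists_smul_eq K PK ((g • P).subtype (hle _))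
    have : (k : ↥G) • P = g • P := by
      apply Sylow.subtype_injective (hP := hle _) (hQ := hle _) (N := K)
      rw [← hk, Sylow.smul_subtype]
      rfl
    have hgk : (k : ↥G)⁻¹ * g ∈ N := by
      show _ ∈ Subgroup.normalizer ((P : Subgroup ↥G) : Set ↥G)
      rw [P.coe_coe, ← Sylow.smul_eq_iff_mem_normalizer, mul_smul, ← this, inv_smul_smul]
    have := K.mul_mem k.2 (hN hgk)
    simpa using this

end Cfsg.Agent.S1013
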