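import Cfsg.Statements.S1015
import Cfsg.Agent.Lib.SylowCounting.PermNormalizer
import Cfsg.Agent.Lib.SylowCounting.Intersection
open Cfsg.Agent.Lib.SylowCounting

set_option autoImplicit false
open Cfsg

namespace Cfsg.Agent.S1015

/-- No finite simple group has order 1200 = 2^4 * 3 * 5^2. -/
theorem result {G : Type*} [Group G] [Finite G] [IsSimpleGroup G] : Nat.card G ≠ 1200 := by
  intro h
  haveI : Fact (Nat.Prime 5) := ⟨by norm_num⟩
  have hn : ¬ IsMulCommutative G := not_comm_of_not_prime (by rw [h]; norm_num)
  have hG : Nat.card G = 5 ^ 2 * 48 := by rw [h]; norm_num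
  have hc : Nat.card (Sylow 5 G) ∈ candidates 5 48 := sylow_count_candidates hG (by norm_num) (by norm_num) (by norm_num)
  have hd := two_card_dvd_sylow_factorial hn (p := 5) (sylow_count_ne_one hG (by norm_num) (by norm_num) (by norm_num))
  rw [show candidates 5 48 = {6, 16} by decide, Finset.mem_insert, Finset.mem_singleton] at hc
  rcases hc with hc | hc
  · rw [hc, h] at hd
    revert hd; decide
  obtain ⟨H, hH, hi⟩ := exists_index_of_intersection hG (by norm_num) le_rfl (by rw [hc]; norm_num)
  have hd2 := two_card_dvd_factorial hn H hH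
  rw [h] at hd2
  have : ∀ i ∈ interIndices 5 48, ¬ 2 * 1200 ∣ i.factorial := by decide +kernel
  exact this _ hi hd2

end Cfsg.Agent.S1015
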