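import Cfsg.Statements.S1022
import Cfsg.Agent.Lib.OddLocal.CommutingOrbits
import Cfsg.Agent.Lib.SylowCounting.DegreeKill

set_option autoImplicit false
open Cfsg

namespace Cfsg.Agent.S1022

open Cfsg.Agent.Lib.SylowCounting Cfsg.Agent.Lib.OddLocal MulAction

theorem cand (n : ℕ) (h : n ∣ 128 * (27 * 7)) (h1 : n % 19 = 1) : n = 1 ∨ n = 96 ∨ n = 1008 := by
  obtain ⟨a, bc, ha, hbc, rfl⟩ := Nat.dvd_mul.mp h
  obtain ⟨b, c, hb, hc, rfl⟩ := Nat.dvd_mul.mp hbc
  have key : ∀ a ∈ Nat.divisors 128, ∀ b ∈ Nat.divisors 27, ∀ c ∈ Nat.divisors 7,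
      a * (b * c) % 19 = 1 → a * (b * c) = 1 ∨ a * (b * c) = 96 ∨ a * (b * c) = 1008 := by decide +kernel
  exact key a (Nat.mem_divisors.mpr ⟨ha, by norm_num⟩) b (Nat.mem_divisors.mpr ⟨hb, by norm_num⟩)
    c (Nat.mem_divisors.mpr ⟨hc, by norm_num⟩) h1

theorem multiples (n : ℕ) (h1 : 76 ∣ n) (h2 : n ∣ 456) : n = 76 ∨ n = 152 ∨ n = 228 ∨ n = 456 := by
  obtain ⟨k, rfl⟩ := h1
  have hk : k ∣ 6 := (Nat.mul_dvd_mul_iff_left (by norm_num : 0 < 76)).mp h2
  have key : ∀ k ∈ Nat.divisors 6, 76 * k = 76 ∨ 76 * k = 152 ∨ 76 * k = 228 ∨ 76 * k = 456 := by decide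
  exact key k (Nat.mem_divisors.mpr ⟨hk, by norm_num⟩)

/-- No finite simple group has order 459648 = 2^7 * 3^3 * 7 * 19. -/
theorem result {G : Type*} [Group G] [Finite G] [IsSimpleGroup G] : Nat.card G ≠ 459648 := by
  intro hcard
  classical
  haveI : Fact (Nat.Prime 19) := ⟨by norm_num⟩
  haveI : Fact (Nat.Prime 7) := ⟨by norm_num⟩
  haveI : Fact (Nat.Prime 2) := ⟨Nat.prime_two⟩
  have hG : ¬ IsMulCommutative G := not_comm_of_not_prime (by rw [hcard]; norm_num)
  obtain ⟨P⟩ : Nonempty (Sylow 19 G) := inferInstance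
  have hP : Nat.card (P : Subgroup G) = 19 := by
    rw [sylow_card (k := 1) (m := 24192) (by rw [hcard]; norm_num) (by norm_num) P, pow_one]
  set N := Subgroup.normalizer ((P : Subgroup G) : Set G) with hN
  set C := Subgroup.centralizer ((P : Subgroup G) : Set G) with hC
  obtain ⟨e, c, hec, he1, hed, hpc, hcC⟩ := normalizer_card_eq hG P hP
  rw [← hN] at hec
  rw [← hC] at hcC
  rw [hcC] at hec
  have hPC : (P : Subgroup G) ≤ C := by
    intro x hx
    rw [hC, Subgroup.mem_centralizer_iff]
    intro y hy
    haveI := isCyclic_of_prime_card hP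
    let _ : CommGroup (P : Subgroup G) := IsCyclic.commGroup
    exact congrArg Subtype.val (mul_comm (⟨y, hy⟩ : (P : Subgroup G)) ⟨x, hx⟩)
  have hCN : C ≤ N := Subgroup.centralizer_le_normalizer _
  have hNne : N ≠ ⊤ := by
    intro h
    have hn : (P : Subgroup G).Normal := Subgroup.normalizer_eq_top_iff.mp h
    rcases hn.eq_bot_or_eq_top with h0 | h0
    · rw [h0, Subgroup.card_bot] at hP; omega
    · rw [h0, Subgroup.card_top, hcard] at hP; omega
  have hindex : N.index = Nat.card (Sylow 19 G) := (Sylow.card_eq_index_normalizer P).symm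
  have hNmul := N.index_mul_card
  rw [hcard] at hNmul
  have hcommP : ∀ h ∈ C, ∀ x ∈ (P : Subgroup G), x * h = h * x := fun h hh x hx =>
    Subgroup.mem_centralizer_iff.mp hh x hx
  -- the number of Sylow subgroups for the prime nineteen
  have hn : N.index = 1008 := by
    have hd : N.index ∣ 128 * (27 * 7) := by
      rw [hindex]
      have := P.card_dvd_index
      rwa [sylow_index (k := 1) (m := 24192) (by rw [hcard]; norm_num) (by norm_num) P] at this
    have hm : N.index % 19 = 1 := by
      have := card_sylow_modEq_one 19 G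
      rw [hindex]; exact this
    rcases cand _ hd hm with h | h | h
    · exact absurd (Subgroup.index_eq_one.mp h) hNne
    swap
    · exact h
    exfalso
    rw [h] at hNmul
    have hc7 : 7 ∣ Nat.card C := by
      have h7 : 7 ∣ e * Nat.card C := ⟨684, by rw [← hec]; omega⟩
      rcases (Nat.Prime.dvd_mul (by norm_num : Nat.Prime 7)).mp h7 with h7' | h7'
      · exact absurd (h7'.trans hed) (by norm_num)
      · exact h7'
    obtain ⟨x, hx⟩ := exists_prime_orderOf_dvd_card' 7 hc7
    rw [← Subgroup.orderOf_coe] at hx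
    -- `x` fixes every Sylow subgroup
    have hfix : ∀ Q : Sylow 19 G, (x : G) • Q = Q := by
      have hfp : ∀ Q : Sylow 19 G, Q ∈ fixedPoints (P : Subgroup G) (Sylow 19 G) → Q = P := by
        intro Q hQ
        have h2 : (P : Subgroup G) ≤ Q := P.2.sylow_mem_fixedPoints_iff.mp hQ
        exact Sylow.ext (P.3 Q.2 h2)
      have hsmall : Nat.card (Sylow 19 G) < 19 * 7 + Nat.card (fixedPoints (P : Subgroup G) (Sylow 19 G)) := by
        rw [← hindex, h]; omega
      have hh : IsPGroup 7 (Subgroup.zpowers (x : G)) :=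
        IsPGroup.of_card (n := 1) (by rw [Nat.card_zpowers, hx, pow_one])
      intro Q
      by_cases hQ : Q ∈ fixedPoints (P : Subgroup G) (Sylow 19 G)
      · rw [hfp Q hQ]
        exact Sylow.smul_eq_iff_mem_normalizer.mpr (hCN x.2)
      · exact fixes_moved (by norm_num) (P : Subgroup G) hP (x : G) hh (hcommP x x.2) hsmall Q hQ
    set K := (MulAction.toPermHom G (Sylow 19 G)).ker with hK
    have hxK : (x : G) ∈ K := by
      rw [hK, MonoidHom.mem_ker]; exact Equiv.ext hfix
    have hKN : K ≤ N := fun g hg =>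
      Sylow.smul_eq_iff_mem_normalizer.mp (by
        have := congrArg (fun σ : Equiv.Perm (Sylow 19 G) => σ P) (MonoidHom.mem_ker.mp hg)
        simpa using this)
    rcases (inferInstance : K.Normal).eq_bot_or_eq_top with h0 | h0
    · rw [h0, Subgroup.mem_bot] at hxK
      rw [hxK, orderOf_one] at hx; omega
    · exact hNne (top_le_iff.mp (h0 ▸ hKN))
  rw [hn] at hNmul
  have hN456 : Nat.card N = 456 := by omega
  have hc4 : 4 ∣ Nat.card C := by
    have h8 : 8 ∣ e * Nat.card C := by rw [← hec, hN456]; norm_num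
    have key : ∀ e ∈ Nat.divisors 18, Nat.gcd 8 e ∣ 2 := by decide
    have hg := key e (Nat.mem_divisors.mpr ⟨hed, by norm_num⟩)
    have h1 : 8 ∣ 2 * Nat.card C :=
      (Nat.dvd_gcd_mul_iff_dvd_mul.mpr h8).trans (Nat.mul_dvd_mul_right hg _)
    omega
  obtain ⟨H₀, hH₀⟩ := Sylow.exists_subgroup_card_pow_prime 2 (n := 2) (G := C) (by simpa using hc4)
  set H := H₀.map C.subtype with hH
  have hHcard : Nat.card H = 4 := by
    rw [hH, Subgroup.card_map_of_injective C.subtype_injective, hH₀]; norm_num
  have hHC : H ≤ C := Subgroup.map_subtype_le _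
  have hH2 : IsPGroup 2 H := IsPGroup.of_card (n := 2) (by rw [hHcard]; norm_num)
  obtain ⟨T, hTcard, hHT⟩ := Sylow.exists_subgroup_card_pow_prime_le 2 (n := 2) (m := 4)
    (by rw [hcard]; norm_num) H (by rw [hHcard]; norm_num) (by norm_num)
  have hT2 : IsPGroup 2 T := IsPGroup.of_card hTcard
  -- an involution of `H` with a large centralizer
  obtain ⟨t, htH, ht1, hTt⟩ : ∃ t ∈ H, t ≠ 1 ∧ T ≤ Subgroup.centralizer ({t} : Set G) := by
    set H' := H.subgroupOf T with hH'
    set K := H'.normalCore with hK
    have hKne : K ≠ ⊥ := by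
      intro h0
      have h1 : K.index = 16 := by
        rw [h0, Subgroup.index_bot, hTcard]; norm_num
      have h2 : H'.index = 4 := by
        have hm := H'.index_mul_card
        rw [Nat.card_congr (Subgroup.subgroupOfEquivOfLe hHT).toEquiv, hHcard, hTcard] at hm
        omega
      haveI : Fintype (↥T ⧸ H') := Fintype.ofFinite _
      have h3 : K.index ∣ 24 := by
        rw [hK, Subgroup.normalCore_eq_ker, Subgroup.index_ker]
        refine (Subgroup.card_subgroup_dvd_card _).trans ?_
        rw [Nat.card_perm, ← Subgroup.index_eq_card, h2]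
        rfl
      rw [h1] at h3
      norm_num at h3
    obtain ⟨z, hz1, hz⟩ : ∃ z : T, z ≠ 1 ∧ z ∈ K ⊓ Subgroup.center T := by
      letI : MulAction T K :=
        { smul := fun h b => ⟨h * b * h⁻¹, Subgroup.Normal.conj_mem inferInstance _ b.2 h⟩
          one_smul := fun b => Subtype.ext (by show (1 : T) * b * 1⁻¹ = b; simp)
          mul_smul := fun g h b => Subtype.ext (by
            show g * h * b * (g * h)⁻¹ = g * (h * b * h⁻¹) * g⁻¹; group) }
      have hdvd : 2 ∣ Nat.card K := by
        obtain ⟨j, hj⟩ := IsPGroup.iff_card.mp (hT2.to_subgroup K)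
        rcases j with _ | j
        · exact absurd (Subgroup.card_eq_one.mp (by rw [hj, pow_zero])) hKne
        · rw [hj]; exact dvd_pow_self 2 (by omega)
      have hone : (1 : K) ∈ MulAction.fixedPoints T K := fun h => Subtype.ext (by
        show h * 1 * h⁻¹ = 1; simp)
      obtain ⟨b, hb, hb1⟩ := hT2.exists_fixed_point_of_prime_dvd_card_of_fixed_point K hdvd hone
      refine ⟨b, fun h => hb1 (Subtype.ext h.symm), b.2, Subgroup.mem_center_iff.mpr fun h => ?_⟩
      have := congrArg Subtype.val (hb h)
      exact mul_inv_eq_iff_eq_mul.mp this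
    refine ⟨z, ?_, fun h => hz1 (Subtype.ext h), fun g hg => ?_⟩
    · exact Subgroup.mem_subgroupOf.mp (Subgroup.normalCore_le H' hz.1)
    · rw [Subgroup.mem_centralizer_singleton_iff]
      exact congrArg Subtype.val (Subgroup.mem_center_iff.mp hz.2 ⟨g, hg⟩)
  set M := Subgroup.centralizer ({t} : Set G) with hM
  have hCM : ∀ h ∈ H, h ∈ M := by
    intro h hh
    rw [hM, Subgroup.mem_centralizer_singleton_iff]
    have h4 : IsMulCommutative H := IsPGroup.isMulCommutative_of_card_eq_prime_sq (p := 2) (by rw [hHcard]; norm_num)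
    exact congrArg Subtype.val (h4.is_comm.comm ⟨h, hh⟩ ⟨t, htH⟩)
  have hPM : (P : Subgroup G) ≤ M := fun x hx => by
    rw [hM, Subgroup.mem_centralizer_singleton_iff]; exact hcommP t (hHC htH) x hx
  have hMne : M ≠ ⊤ := by
    intro h
    have h1 : t ∈ Subgroup.center G := Subgroup.mem_center_iff.mpr fun g =>
      Subgroup.mem_centralizer_singleton_iff.mp (hM ▸ h ▸ Subgroup.mem_top g)
    rcases (inferInstance : (Subgroup.center G).Normal).eq_bot_or_eq_top with h0 | h0
    · rw [h0, Subgroup.mem_bot] at h1; exact ht1 h1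
    · exact hG ⟨⟨fun a b => (Subgroup.mem_center_iff.mp (h0 ▸ Subgroup.mem_top a) b).symm⟩⟩
  have hMmul := M.index_mul_card
  rw [hcard] at hMmul
  have h16 : 16 ∣ Nat.card M := by
    have := Subgroup.card_dvd_of_le hTt
    rwa [hTcard] at this
  -- the Sylow subgroup inside the centralizer
  set PM : Sylow 19 M := P.subtype hPM with hPMd
  have hPMcard : Nat.card (PM : Subgroup M) = 19 := by
    rw [hPMd, Sylow.coe_subtype, Nat.card_congr (Subgroup.subgroupOfEquivOfLe hPM).toEquiv, hP]
  set NM := Subgroup.normalizer ((PM : Subgroup M) : Set M) with hNM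
  have hNMeq : NM = N.subgroupOf M := by
    ext g
    rw [hNM, Subgroup.mem_subgroupOf, hN, Subgroup.mem_normalizer_iff, Subgroup.mem_normalizer_iff]
    constructor
    · intro hg x
      constructor
      · intro hx
        have := (hg ⟨x, hPM hx⟩).mp (by rwa [hPMd, Sylow.coe_subtype, Subgroup.mem_subgroupOf])
        rwa [hPMd, Sylow.coe_subtype, Subgroup.mem_subgroupOf] at this
      · intro hx
        have hxM : x ∈ M := by
          have := M.mul_mem (M.mul_mem (M.inv_mem g.2) (hPM hx)) g.2
          simpa [mul_assoc] using this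
        have := (hg ⟨x, hxM⟩).mpr (by rwa [hPMd, Sylow.coe_subtype, Subgroup.mem_subgroupOf])
        rwa [hPMd, Sylow.coe_subtype, Subgroup.mem_subgroupOf] at this
    · intro hg x
      rw [hPMd, Sylow.coe_subtype, Subgroup.mem_subgroupOf, Subgroup.mem_subgroupOf]
      exact hg x
  have hNMdvd : Nat.card NM ∣ 456 := by
    rw [← hN456, hNMeq, ← Subgroup.card_map_of_injective M.subtype_injective, Subgroup.subgroupOf_map_subtype]
    exact Subgroup.card_dvd_of_le inf_le_left
  have hNM76 : 76 ∣ Nat.card NM := by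
    rw [hNMeq, ← Subgroup.card_map_of_injective M.subtype_injective, Subgroup.subgroupOf_map_subtype]
    have h19 : 19 ∣ Nat.card (N ⊓ M : Subgroup G) := hP ▸ Subgroup.card_dvd_of_le (le_inf (hPC.trans hCN) hPM)
    have h4 : 4 ∣ Nat.card (N ⊓ M : Subgroup G) := hHcard ▸ Subgroup.card_dvd_of_le (le_inf (hHC.trans hCN) hCM)
    exact (by norm_num : Nat.Coprime 19 4).mul_dvd_of_dvd_of_dvd h19 h4
  have hMn := NM.index_mul_card
  have hidxM : M.index = 21 ∨ (M.index = 63 ∧ Nat.card NM = 76) := by
    have hm : NM.index % 19 = 1 := by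
      have := card_sylow_modEq_one 19 M
      have he : NM.index = Nat.card (Sylow 19 M) := (Sylow.card_eq_index_normalizer PM).symm
      rw [he]; exact this
    have hd : NM.index ∣ 128 * (27 * 7) := by
      have h1 : NM.index * 19 ∣ 459648 := by
        refine dvd_trans ?_ (hcard ▸ M.card_subgroup_dvd_card)
        rw [← hMn]
        exact Nat.mul_dvd_mul_left _ ((dvd_mul_right 19 4).trans hNM76)
      rw [show (459648 : ℕ) = 128 * (27 * 7) * 19 by norm_num] at h1
      exact Nat.dvd_of_mul_dvd_mul_right (by norm_num) h1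
    clear h16
    have h16 : 16 ∣ Nat.card M := by
      have := Subgroup.card_dvd_of_le hTt
      rwa [hTcard] at this
    rcases cand _ hd hm with h | h | h <;> rw [h] at hMn
    · exfalso
      rw [one_mul] at hMn
      rw [← hMn] at h16
      exact absurd (h16.trans hNMdvd) (by norm_num)
    · rcases multiples _ hNM76 hNMdvd with h' | h' | h' | h' <;> rw [h'] at hMn <;> rw [← hMn] at hMmul
      · exact Or.inr ⟨by omega, h'⟩
      · omega
      · exact Or.inl (by omega)
      · omega
    · exfalso
      have h6 : M.index ≤ 6 := by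
        rcases multiples _ hNM76 hNMdvd with h' | h' | h' | h' <;> rw [h'] at hMn <;> rw [← hMn] at hMmul <;>
          omega
      have hd6 := two_card_dvd_factorial hG M hMne
      rw [hcard] at hd6
      have hbad : ∀ i < 7, ¬ 2 * 459648 ∣ i.factorial := by decide +kernel
      exact hbad _ (by omega) hd6
  rcases hidxM with h21 | ⟨h63, h76⟩
  · -- action on twenty-one points
    have hfaith : M.normalCore = ⊥ :=
      (Subgroup.normalCore_normal M).eq_bot_or_eq_top.resolve_right fun h0 =>
        hMne (top_le_iff.mp (h0 ▸ M.normalCore_le))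
    rw [Subgroup.normalCore_eq_ker] at hfaith
    have hker : ∀ g : G, (∀ ω : G ⧸ M, g • ω = ω) → g = 1 := fun g hg => by
      have : g ∈ (MulAction.toPermHom G (G ⧸ M)).ker := MonoidHom.mem_ker.mpr (Equiv.ext hg)
      rwa [hfaith, Subgroup.mem_bot] at this
    set F := fixedPoints (P : Subgroup G) (G ⧸ M) with hF
    have hFcard : Nat.card F = 2 := by
      have hP' : IsPGroup 19 (P : Subgroup G) := P.2
      have h1 : Nat.card (G ⧸ M) ≡ Nat.card F [MOD 19] := hP'.card_modEq_card_fixedPoints (G ⧸ M)
      have h2 : Nat.card F ≤ 21 := by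
        rw [← h21, Subgroup.index_eq_card]
        exact Nat.card_le_card_of_injective _ Subtype.val_injective
      have h3 : Nat.card F ≠ 21 := by
        intro h3
        haveI := Fintype.ofFinite (G ⧸ M)
        have hall : ∀ ω : G ⧸ M, ω ∈ F := by
          intro ω
          by_contra hω
          have := Fintype.card_subtype_lt hω
          rw [← Nat.card_eq_fintype_card, ← Nat.card_eq_fintype_card, ← Subgroup.index_eq_card, h21] at this
          exact this.ne h3
        have : ∀ x ∈ (P : Subgroup G), x = 1 := fun x hx => hker x fun ω => hall ω ⟨x, hx⟩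
        rw [(Subgroup.eq_bot_iff_forall _).mpr this, Subgroup.card_bot] at hP
        omega
      rw [← Subgroup.index_eq_card, h21] at h1
      have h1' : 21 % 19 = Nat.card F % 19 := h1
      omega
    have hfixH : ∀ h ∈ H, ∀ ω : G ⧸ M, ω ∉ F → h • ω = ω := by
      intro h hh
      refine fixes_moved (q := 2) (by norm_num) (P : Subgroup G) hP h ?_ (hcommP h (hHC hh)) ?_
      · exact hH2.to_le (Subgroup.zpowers_le.mpr hh)
      · have e1 : Nat.card (G ⧸ M) = 21 := by rw [← Subgroup.index_eq_card]; exact h21
        have e2 := hFcard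
        rw [hF] at e2
        omega
    have hmap : ∀ h ∈ H, ∀ ω ∈ F, h • ω ∈ F := by
      intro h hh ω hω x
      show (x : G) • h • ω = h • ω
      rw [smul_smul, hcommP h (hHC hh) x x.2, ← smul_smul]
      exact congrArg (h • ·) (hω x)
    let φ : H → Equiv.Perm F := fun h =>
      { toFun := fun ω => ⟨(h : G) • ω.1, hmap h h.2 ω.1 ω.2⟩
        invFun := fun ω => ⟨(h : G)⁻¹ • ω.1, hmap _ (inv_mem h.2) ω.1 ω.2⟩
        left_inv := fun ω => Subtype.ext (inv_smul_smul (h : G) ω.1)
        right_inv := fun ω => Subtype.ext (smul_inv_smul (h : G) ω.1) }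
    have hinj : Function.Injective φ := by
      intro a b hab
      apply Subtype.ext
      refine inv_mul_eq_one.mp (hker _ fun ω => ?_)
      rw [← smul_smul, inv_smul_eq_iff]
      by_cases hω : ω ∈ F
      · exact (congrArg (fun σ : Equiv.Perm F => (σ ⟨ω, hω⟩).1) hab).symm
      · rw [hfixH a a.2 ω hω, hfixH b b.2 ω hω]
    have := Nat.card_le_card_of_injective φ hinj
    rw [hHcard, Nat.card_perm, hFcard] at this
    norm_num [Nat.factorial] at this
  · -- Burnside transfer
    have hMcard : Nat.card M = 7296 := by rw [h63] at hMmul; omega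
    have hself : NM ≤ Subgroup.centralizer ((PM : Subgroup M) : Set M) := by
      set CM := Subgroup.centralizer ((PM : Subgroup M) : Set M) with hCMd
      have hle : CM ≤ NM := Subgroup.centralizer_le_normalizer _
      have hsub : ∀ g : M, (g : G) ∈ C → g ∈ CM := by
        intro g hg
        rw [hCMd, Subgroup.mem_centralizer_iff]
        intro y hy
        rw [hPMd, SetLike.mem_coe, Sylow.coe_subtype, Subgroup.mem_subgroupOf] at hy
        exact Subtype.ext (hcommP g hg y hy)
      have h19 : 19 ∣ Nat.card CM := by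
        have := Subgroup.card_dvd_of_le (show (PM : Subgroup M) ≤ CM from fun g hg => hsub g (hPC (by
          rw [hPMd, Sylow.coe_subtype, Subgroup.mem_subgroupOf] at hg; exact hg)))
        rwa [hPMcard] at this
      have h4 : 4 ∣ Nat.card CM := by
        have := Subgroup.card_dvd_of_le (show H.subgroupOf M ≤ CM from fun g hg =>
          hsub g (hHC (Subgroup.mem_subgroupOf.mp hg)))
        rwa [Nat.card_congr (Subgroup.subgroupOfEquivOfLe (show H ≤ M from hCM)).toEquiv, hHcard] at this
      have h76' : 76 ∣ Nat.card CM := (by norm_num : Nat.Coprime 19 4).mul_dvd_of_dvd_of_dvd h19 h4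
      exact le_of_eq (Subgroup.eq_of_le_of_card_ge hle (by
        rw [h76]; exact Nat.le_of_dvd Nat.card_pos h76')).symm
    have hcompl := MonoidHom.ker_transferSylow_isComplement' PM hself
    set W := (MonoidHom.transferSylow PM hself).ker with hW
    have hWcard : Nat.card W = 384 := by
      have := hcompl.card_mul
      rw [hPMcard, hMcard] at this
      omega
    obtain ⟨S⟩ : Nonempty (Sylow 2 W) := inferInstance
    have hScard : Nat.card (S : Subgroup W) = 128 := by
      rw [sylow_card (k := 7) (m := 3) (by rw [hWcard]; norm_num) (by norm_num) S]; norm_num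
    have hn2 : Nat.card (Sylow 2 W) ≤ 3 := by
      have := S.card_dvd_index
      rw [sylow_index (k := 7) (m := 3) (by rw [hWcard]; norm_num) (by norm_num) S] at this
      exact Nat.le_of_dvd (by norm_num) this
    -- the Sylow subgroup of order nineteen fixes a Sylow 2-subgroup of the complement
    have hcompose : ∀ x : M, x ∈ (PM : Subgroup M) → ∀ w : W, (x * w * x⁻¹ : M) ∈ W := fun x _ w =>
      (inferInstance : W.Normal).conj_mem w w.2 x
    let act : (PM : Subgroup M) →* MulAut W := (MulAut.conjNormal (H := W)).comp (PM : Subgroup M).subtype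
    letI : MulDistribMulAction (PM : Subgroup M) W := MulDistribMulAction.compHom W act
    haveI : Fintype (Sylow 2 W) := Fintype.ofFinite _
    have hP19 : IsPGroup 19 (PM : Subgroup M) := PM.2
    have hSfix : ∀ Q : Sylow 2 W, Q ∈ fixedPoints (PM : Subgroup M) (Sylow 2 W) := by
      intro Q x
      by_contra hne
      have h1 : Nat.card (MulAction.orbit (PM : Subgroup M) Q) ∣ 19 := by
        rw [Nat.card_congr (MulAction.orbitEquivQuotientStabilizer _ Q)]
        exact (Subgroup.card_quotient_dvd_card _).trans (dvd_of_eq hPMcard)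
      have h2 : Nat.card (MulAction.orbit (PM : Subgroup M) Q) ≤ 3 :=
        le_trans (Nat.card_le_card_of_injective _ Subtype.val_injective) hn2
      have h3 : Nat.card (MulAction.orbit (PM : Subgroup M) Q) = 1 := by
        rcases (Nat.dvd_prime (by norm_num)).mp h1 with h | h
        · exact h
        · omega
      apply hne
      haveI : Subsingleton (MulAction.orbit (PM : Subgroup M) Q) := (Nat.card_eq_one_iff_unique.mp h3).1
      exact congrArg Subtype.val (Subsingleton.elim (⟨x • Q, MulAction.mem_orbit Q x⟩ : MulAction.orbit _ Q)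
        ⟨Q, MulAction.mem_orbit_self Q⟩)
    -- so it centralizes a group of order 128
    set S' := ((S : Subgroup W).map W.subtype).map M.subtype with hS'
    have hS'card : Nat.card S' = 128 := by
      rw [hS', Subgroup.card_map_of_injective M.subtype_injective,
        Subgroup.card_map_of_injective W.subtype_injective, hScard]
    have hnorm : (P : Subgroup G) ≤ Subgroup.normalizer (S' : Set G) := by
      intro x hx
      have key : ∀ y ∈ (P : Subgroup G), ∀ z ∈ S', y * z * y⁻¹ ∈ S' := by
        intro y hy z hz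
        rw [hS'] at hz ⊢
        obtain ⟨_, ⟨w, hw, rfl⟩, rfl⟩ := hz
        let y' : (PM : Subgroup M) := ⟨⟨y, hPM hy⟩, by rw [hPMd, Sylow.coe_subtype]; exact hy⟩
        have h1 : y' • S = S := hSfix S y'
        have h2 : (y' • w : W) ∈ (S : Subgroup W) := by
          have h3 : ((y' • S : Sylow 2 W) : Subgroup W) = (S : Subgroup W) := congrArg (fun Q : Sylow 2 W => (Q : Subgroup W)) h1
          rw [← h3]
          exact Subgroup.smul_mem_pointwise_smul w y' _ hw
        exact ⟨_, ⟨y' • w, h2, rfl⟩, rfl⟩
      rw [Subgroup.mem_normalizer_iff]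
      intro z
      refine ⟨key x hx z, fun hz => ?_⟩
      have := key x⁻¹ (inv_mem hx) _ hz
      simpa [mul_assoc] using this
    letI : MulAction (P : Subgroup G) S' :=
      { smul := fun x s => ⟨(x : G) * s * (x : G)⁻¹, (Subgroup.mem_normalizer_iff.mp (hnorm x.2) _).mp s.2⟩
        one_smul := fun s => Subtype.ext (by show (1 : G) * s * 1⁻¹ = s; simp)
        mul_smul := fun a b s => Subtype.ext (by
          show (a : G) * b * s * ((a : G) * b)⁻¹ = a * ((b : G) * s * (b : G)⁻¹) * (a : G)⁻¹; group) }
    set F := S' ⊓ C with hF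
    have hfixeq : Nat.card F = Nat.card (fixedPoints (P : Subgroup G) S') := by
      refine Nat.card_congr
        { toFun := fun s => ⟨⟨s.1, s.2.1⟩, fun x => Subtype.ext ?_⟩
          invFun := fun s => ⟨s.1.1, s.1.2, ?_⟩
          left_inv := fun s => rfl
          right_inv := fun s => rfl }
      · show (x : G) * s.1 * (x : G)⁻¹ = s.1
        rw [hcommP s.1 s.2.2 x x.2, mul_inv_cancel_right]
      · show s.1.1 ∈ C
        rw [hC, Subgroup.mem_centralizer_iff]
        intro x hx
        have := congrArg Subtype.val (s.2 ⟨x, hx⟩)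
        exact mul_inv_eq_iff_eq_mul.mp this
    have hmod : Nat.card S' ≡ Nat.card F [MOD 19] := by
      rw [hfixeq]; exact P.2.card_modEq_card_fixedPoints S'
    obtain ⟨j, hj7, hj⟩ := (Nat.dvd_prime_pow Nat.prime_two).mp
      (show Nat.card F ∣ 2 ^ 7 from (Subgroup.card_dvd_of_le inf_le_left).trans (hS'card ▸ dvd_refl _))
    rw [hS'card, hj] at hmod
    have hj' : j = 7 := by
      interval_cases j <;> first | rfl | (exfalso; revert hmod; decide)
    have h128 : 128 ∣ 456 := by
      rw [← hN456]
      refine dvd_trans ?_ (Subgroup.card_dvd_of_le (inf_le_right.trans hCN : F ≤ N))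
      rw [hj, hj']
      norm_num
    norm_num at h128

end Cfsg.Agent.S1022
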