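import Cfsg.Statements.S1058
import Cfsg.Agent.S1060
-- import your own Cfsg.Agent.* helpers here

set_option autoImplicit false
open Cfsg

namespace Cfsg.Agent.S1058

open Cfsg.Lie Equiv
open scoped Matrix

/-- The index set. -/
abbrev I : Type := chevB2.Idx

/-- The vectors with a given mask. -/
def vec (w : ℕ) : I → ZMod 2 := fun x =>
  bif w.testBit (Sum.elim (fun i => i.val) (fun s => 2 + s.val) x) then 1 else 0

/-- Six masks, taken modulo the fixed vector with mask `1`. -/
def six : Fin 6 → ℕ := ![146, 154, 266, 282, 394, 402]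

/-- A matrix permutes the six classes as `σ`. -/
def Acts (M : Matrix I I (ZMod 2)) (σ : Perm (Fin 6)) : Prop :=
  M *ᵥ vec 1 = vec 1 ∧ ∀ k, M *ᵥ vec (six k) = vec (six (σ k)) ∨ M *ᵥ vec (six k) = vec (six (σ k)) + vec 1

instance (M : Matrix I I (ZMod 2)) (σ : Perm (Fin 6)) : Decidable (Acts M σ) := by
  unfold Acts; infer_instance

theorem two_vec : vec 1 + vec 1 = (0 : I → ZMod 2) := funext fun _ => CharTwo.add_self_eq_zero _

theorem six_sep : ∀ k l : Fin 6, vec (six k) = vec (six l) ∨ vec (six k) = vec (six l) + vec 1 → k = l := by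
  decide +kernel

theorem Acts.mul {M N : Matrix I I (ZMod 2)} {σ τ : Perm (Fin 6)} (hM : Acts M σ) (hN : Acts N τ) :
    Acts (M * N) (σ * τ) := by
  refine ⟨by rw [← Matrix.mulVec_mulVec, hN.1, hM.1], fun k => ?_⟩
  rw [← Matrix.mulVec_mulVec, Perm.mul_apply]
  rcases hN.2 k with h | h <;> rcases hM.2 (τ k) with h' | h' <;> rw [h]
  · exact Or.inl h'
  · exact Or.inr h'
  · exact Or.inr (by rw [Matrix.mulVec_add, h', hM.1])
  · exact Or.inl (by rw [Matrix.mulVec_add, h', hM.1, add_assoc, two_vec, add_zero])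

theorem acts_one : Acts 1 1 := ⟨Matrix.one_mulVec _, fun _ => Or.inl (Matrix.one_mulVec _)⟩

theorem Acts.unique {M : Matrix I I (ZMod 2)} {σ τ : Perm (Fin 6)} (h : Acts M σ) (h' : Acts M τ) :
    σ = τ := by
  refine Equiv.ext fun k => six_sep _ _ ?_
  rcases h.2 k with a | a <;> rcases h'.2 k with b | b <;> rw [a] at b
  · exact Or.inl b
  · exact Or.inr b
  · exact Or.inr (by rw [← b, add_assoc, two_vec, add_zero])
  · exact Or.inl (add_right_cancel b)

/-- The permutations of the eight generators. -/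
def gperm : Fin 8 → Perm (Fin 6) :=
  ![swap 0 1 * swap 2 3 * swap 4 5, swap 0 1, swap 2 3, swap 0 1 * swap 2 4 * swap 3 5,
    swap 0 5 * swap 1 4 * swap 2 3, swap 2 4, swap 0 5, swap 0 5 * swap 1 3 * swap 2 4]

theorem gen_acts : ∀ r : Fin 8, Acts (chevB2.xMat (ZMod 2) r 1) (gperm r) := by
  decide +kernel

theorem xMat_zero : ∀ r : Fin 8, chevB2.xMat (ZMod 2) r 0 = 1 := by
  decide +kernel

theorem exists_acts {g : GL I (ZMod 2)} (hg : g ∈ chevB2.group (ZMod 2)) :
    ∃ σ, Acts (g : Matrix I I (ZMod 2)) σ := by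
  have hfin : g ∈ Submonoid.closure
      {g : GL I (ZMod 2) | ∃ (r : Fin chevB2.nroots) (t : ZMod 2), (g : Matrix I I (ZMod 2)) = chevB2.xMat (ZMod 2) r t} := by
    rw [← Subgroup.closure_toSubmonoid_of_finite]
    exact hg
  clear hg
  induction hfin using Submonoid.closure_induction_left with
  | one => exact ⟨1, acts_one⟩
  | mul_left a ha b _ ih =>
    obtain ⟨r, t, hrt⟩ := ha
    obtain ⟨τ, hτ⟩ := ih
    rw [Units.val_mul, hrt]
    rcases (show ∀ x : ZMod 2, x = 0 ∨ x = 1 by decide) t with rfl | rfl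
    · exact ⟨τ, by rw [show chevB2.xMat (ZMod 2) r 0 = 1 from xMat_zero r, one_mul]; exact hτ⟩
    · exact ⟨_, (gen_acts r).mul hτ⟩

/-- The permutation of the six classes. -/
noncomputable def toSix : chevB2.group (ZMod 2) →* Perm (Fin 6) where
  toFun g := (exists_acts g.2).choose
  map_one' := (exists_acts (one_mem _)).choose_spec.unique acts_one
  map_mul' g h := (exists_acts (g * h).2).choose_spec.unique
    ((exists_acts g.2).choose_spec.mul (exists_acts h.2).choose_spec)

theorem adjacent_words :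
    swap (0 : Fin 6) 1 = gperm 1 ∧
    swap (1 : Fin 6) 2 = gperm 2 * gperm 3 * gperm 6 * gperm 3 * gperm 2 ∧
    swap (2 : Fin 6) 3 = gperm 2 ∧
    swap (3 : Fin 6) 4 = gperm 2 * gperm 5 * gperm 2 ∧
    swap (4 : Fin 6) 5 = gperm 0 * gperm 1 * gperm 2 := by
  decide +kernel

theorem toSix_surjective : Function.Surjective toSix := by
  have hgen : ∀ r : Fin 8, gperm r ∈ toSix.range := by
    intro r
    have hinv : chevB2.xMat (ZMod 2) r 1 * chevB2.xMat (ZMod 2) r 1 = 1 := by
      revert r; decide +kernel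
    let u : GL I (ZMod 2) := ⟨_, _, hinv, hinv⟩
    have hu : u ∈ chevB2.group (ZMod 2) := Subgroup.subset_closure ⟨r, 1, rfl⟩
    exact ⟨⟨u, hu⟩, (exists_acts hu).choose_spec.unique (gen_acts r)⟩
  obtain ⟨a0, a1, a2, a3, a4⟩ := adjacent_words
  intro σ
  have h : σ ∈ (⊤ : Submonoid (Perm (Fin 6))) := trivial
  rw [← Perm.mclosure_swap_castSucc_succ 5] at h
  refine (Submonoid.closure_le.2 (show _ ⊆ (toSix.range.toSubmonoid : Set (Perm (Fin 6))) from ?_)) h
  rintro _ ⟨i, rfl⟩
  have b1 : swap (1 : Fin 6) 2 ∈ toSix.range :=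
    a1 ▸ mul_mem (mul_mem (mul_mem (mul_mem (hgen 2) (hgen 3)) (hgen 6)) (hgen 3)) (hgen 2)
  have b3 : swap (3 : Fin 6) 4 ∈ toSix.range := a3 ▸ mul_mem (mul_mem (hgen 2) (hgen 5)) (hgen 2)
  have b4 : swap (4 : Fin 6) 5 ∈ toSix.range := a4 ▸ mul_mem (mul_mem (hgen 0) (hgen 1)) (hgen 2)
  have b0 : swap (0 : Fin 6) 1 ∈ toSix.range := a0 ▸ hgen 1
  have b2 : swap (2 : Fin 6) 3 ∈ toSix.range := a2 ▸ hgen 2
  fin_cases i
  exacts [b0, b1, b2, b3, b4]

/-- The isomorphism over the prime field. -/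
theorem iso_zmod : Nonempty (chevB2.group (ZMod 2) ≃* Perm (Fin 6)) := by
  have hc := Cfsg.Agent.S1060.result (F := ZMod 2) (q := 2) (ZMod.card 2)
  refine ⟨MulEquiv.ofBijective toSix ((Nat.bijective_iff_surjective_and_card _).2 ⟨toSix_surjective, ?_⟩)⟩
  rw [Nat.card_perm, Nat.card_fin]
  norm_num at hc
  simpa [Nat.factorial] using hc

theorem xMat_sq : ∀ r : Fin 8, ∀ t : ZMod 2,
    chevB2.xMat (ZMod 2) r t * chevB2.xMat (ZMod 2) r t = 1 := by
  decide +kernel

theorem xMat_map {E F : Type*} [Field E] [Field F] (f : E →+* F) (r : Fin chevB2.nroots) (t : E) :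
    chevB2.xMat F r (f t) = (chevB2.xMat E r t).map f := by
  ext x y
  simp only [ChevalleyDatum.xMat, Matrix.of_apply, Matrix.map_apply]
  rcases y with i | s <;> rcases x with i' | u <;>
    simp [apply_ite f, map_list_sum, List.map_map, Function.comp_def]

/-- B₂(2) ≅ S₆. -/
theorem result {F : Type*} [Field F] [Fintype F] (hF : Fintype.card F = 2) :
    Nonempty (↥(Cfsg.Lie.chevB2.group F) ≃* Equiv.Perm (Fin 6)) := by
  haveI : Fact (Nat.Prime 2) := ⟨Nat.prime_two⟩
  haveI : CharP F 2 := charP_of_card_eq_prime hF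
  let f : ZMod 2 →+* F := ZMod.castHom (dvd_refl 2) F
  have hf : Function.Bijective f :=
    (Fintype.bijective_iff_injective_and_card _).2 ⟨f.injective, by rw [ZMod.card, hF]⟩
  let m : GL I (ZMod 2) →* GL I F := Matrix.GeneralLinearGroup.map f
  have hm : Function.Injective m := fun a b h => Units.ext (Matrix.map_injective hf.1 (congrArg Units.val h))
  have himg : (chevB2.group (ZMod 2)).map m = chevB2.group F := by
    rw [ChevalleyDatum.group, MonoidHom.map_closure, ChevalleyDatum.group]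
    congr 1
    ext g
    constructor
    · rintro ⟨u, ⟨r, t, hu⟩, rfl⟩
      refine ⟨r, f t, ?_⟩
      rw [xMat_map f r t, ← hu]
      rfl
    · rintro ⟨r, t, hg⟩
      obtain ⟨t', rfl⟩ := hf.2 t
      have hinv := xMat_sq r t'
      refine ⟨⟨_, _, hinv, hinv⟩, ⟨r, t', rfl⟩, Units.ext ?_⟩
      rw [hg, xMat_map f r t']
      rfl
  obtain ⟨e⟩ := iso_zmod
  exact ⟨((MulEquiv.subgroupCongr himg).symm.trans
    (Subgroup.equivMapOfInjective _ m hm).symm).trans e⟩

end Cfsg.Agent.S1058
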