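import Cfsg.Statements.S1078
import Cfsg.Agent.Lib.Chev.StData
-- import your own Cfsg.Agent.* helpers here

set_option autoImplicit false
open Cfsg

namespace Cfsg.Agent.S1078

/-- For G₂, F₄, E₈ the presented group has trivial centre (the universal and adjoint groups coincide). -/
theorem result {K : Type*} [Field K] (D : Cfsg.Lie.ChevalleyDatum) (hD : D ∈ [Cfsg.Lie.chevG2, Cfsg.Lie.chevF4, Cfsg.Lie.chevE8]) :
    Subgroup.center (D.SteinbergGroup K) = ⊥ := by
  rw [eq_bot_iff]
  intro g hg
  rw [Subgroup.mem_bot]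
  simp only [List.mem_cons, List.not_mem_nil, or_false] at hD
  rcases hD with rfl | rfl | rfl
  all_goals first
    | (have G := Cfsg.Agent.Lib.Chev.goodG2
       have ha := Cfsg.Agent.Lib.Chev.adjG2
       refine G.ker_eq_bot_of_torHom_inj ha (G.torHom_injective Cfsg.Agent.Lib.Chev.linvG2) ?_
       rw [← G.theta_ker ha] at hg
       exact congrArg Subtype.val (MonoidHom.mem_ker.1 hg))
    | (have G := Cfsg.Agent.Lib.Chev.goodF4
       have ha := Cfsg.Agent.Lib.Chev.adjF4
       refine G.ker_eq_bot_of_torHom_inj ha (G.torHom_injective Cfsg.Agent.Lib.Chev.linvF4) ?_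
       rw [← G.theta_ker ha] at hg
       exact congrArg Subtype.val (MonoidHom.mem_ker.1 hg))
    | (have G := Cfsg.Agent.Lib.Chev.goodE8
       have ha := Cfsg.Agent.Lib.Chev.adjE8
       refine G.ker_eq_bot_of_torHom_inj ha (G.torHom_injective Cfsg.Agent.Lib.Chev.linvE8) ?_
       rw [← G.theta_ker ha] at hg
       exact congrArg Subtype.val (MonoidHom.mem_ker.1 hg))

end Cfsg.Agent.S1078
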