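import Cfsg.Statements.S1080
import Cfsg.Agent.Lib.Chev.Reflect
-- import your own Cfsg.Agent.* helpers here

set_option autoImplicit false
open Cfsg

namespace Cfsg.Agent.S1080

/-- Field automorphisms: for every field automorphism `f` there is a group automorphism sending each `x_r(t)` to `x_r(f t)`. -/
theorem result {F : Type*} [Field F] (D : Cfsg.Lie.ChevalleyDatum) (hD : D ∈ [Cfsg.Lie.chevG2, Cfsg.Lie.chevB2, Cfsg.Lie.chevD4, Cfsg.Lie.chevF4, Cfsg.Lie.chevE6, Cfsg.Lie.chevE7, Cfsg.Lie.chevE8]) (f : F ≃+* F) :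
    ∃ α : ↥(D.group F) ≃* ↥(D.group F), ∀ (g : ↥(D.group F)) (r : ℕ) (t : F), r < D.nroots →
      ((g : GL D.Idx F) : Matrix D.Idx D.Idx F) = D.x F r t → ((α g : GL D.Idx F) : Matrix D.Idx D.Idx F) = D.x F r (f t) := by
  obtain ⟨T, G⟩ := Cfsg.Agent.Lib.Chev.exists_good hD
  let φ : GL D.Idx F ≃* GL D.Idx F := Units.mapEquiv (RingEquiv.mapMatrix f).toMulEquiv
  have hφ : ∀ (g : GL D.Idx F), ((φ g : GL D.Idx F) : Matrix D.Idx D.Idx F) = (g : Matrix D.Idx D.Idx F).map f :=
    fun g => rfl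
  have hX : ∀ (r : ℕ) (t : F), φ (G.X F r t) = G.X F r (f t) := fun r t => by
    refine Units.ext ?_
    rw [hφ, G.X_val, G.X_val]
    exact Cfsg.Agent.Lib.Chev.x_map (D := D) f.toRingHom r t
  have hmap : (D.group F).map φ.toMonoidHom = D.group F := by
    apply le_antisymm
    · rw [Subgroup.map_le_iff_le_comap]
      refine G.group_le_of fun r hr t => ?_
      show φ (G.X F r t) ∈ D.group F
      rw [hX]; exact G.X_mem_group hr _
    · refine G.group_le_of fun r hr t => ⟨G.X F r (f.symm t), G.X_mem_group hr _, ?_⟩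
      show φ (G.X F r (f.symm t)) = _
      rw [hX, RingEquiv.apply_symm_apply]
  refine ⟨(φ.subgroupMap (D.group F)).trans (MulEquiv.subgroupCongr hmap), fun g r t hr h => ?_⟩
  show ((φ (g : GL D.Idx F) : GL D.Idx F) : Matrix D.Idx D.Idx F) = _
  rw [G.eq_X_of_val h, hX, G.X_val]

end Cfsg.Agent.S1080
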