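import Cfsg.Statements.S1082
import Cfsg.Agent.Lib.Classical.RootModel.GenD4
import Cfsg.Agent.Lib.Classical.RootModel.Conclude

set_option autoImplicit false
open Cfsg

namespace Cfsg.Agent.S1082

/-- D₄(F) ≅ PΩ₈⁺(F), the commutator subgroup of the orthogonal group of `Σ xᵢ yᵢ` modulo its centre. -/
theorem result {F : Type*} [Field F] : Nonempty (↥(Cfsg.Lie.chevD4.group F) ≃* Cfsg.POmega F (Cfsg.quadFormPlus 4 F)) := by
  classical
  obtain ⟨φ, hφ⟩ := Lib.Classical.RootModel.modelD4.exists_hom Lib.Classical.RootModel.qEight Cfsg.Lie.chevD4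
    Lib.Classical.RootModel.chkD4 (Lib.Classical.RootModel.formEight F) Lib.Classical.RootModel.formEight_dot
  obtain ⟨e⟩ := Lib.Classical.RootModel.isometry_reindex ((finSumFinEquiv (m := 4) (n := 4)).symm)
    (Cfsg.quadFormPlus 4 F) (Lib.Classical.RootModel.formEight F) (fun v => by
      rw [Cfsg.quadFormPlus, Fin.sum_univ_four]
      rfl)
  have : IsSimpleGroup ↥(Cfsg.Lie.chevD4.group F) := (Lib.Chev.goodD4.simple Lib.Chev.connD4
    (Lib.Chev.perfect_group (by simp) (fun h => by
      rcases h with h | h <;> exact absurd (congrArg Cfsg.Lie.ChevalleyDatum.nroots h) (by decide +kernel)))).1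
  refine Lib.Classical.RootModel.exists_equiv_of_hom (e.toMonoidHom.comp φ)
    (Lib.Classical.RootModel.st_perfect_of_cover _ (Lib.Chev.c_perfect_group (by simp) (fun h => by
      simp only [List.mem_cons, List.not_mem_nil, or_false] at h
      rcases h with h | h <;> exact absurd (congrArg Cfsg.Lie.ChevalleyDatum.nroots h) (by decide +kernel))))
    (Lib.Classical.RootModel.commutator_le_range_comp φ e
      (Lib.Classical.RootModel.commutator_le_rangeD4 φ hφ))
    (fun hbot => ?_) (Lib.Chev.goodD4.theta F) Lib.Chev.goodD4.theta_surjective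
    (Lib.Chev.goodD4.theta_ker Lib.Chev.adjD4)
  have h1 : e (φ (Cfsg.Lie.chevD4.stGen F 0 1)) = 1 := Subgroup.mem_bot.1 (hbot ▸ ⟨_, rfl⟩)
  rw [map_eq_one_iff _ e.injective] at h1
  have h2 := hφ 0 1 (by decide)
  rw [h1] at h2
  have h3 := congrFun (congrFun h2 5) 0
  simp [Lib.Classical.RootModel.Model.X, Lib.Classical.RootModel.Model.elem, Lib.Classical.RootModel.Model.mv,
    Lib.Classical.RootModel.modelD4, Lib.Classical.RootModel.ev_append, Lib.Classical.RootModel.ev_oneP,
    Lib.Classical.RootModel.ev_cons, Lib.Classical.RootModel.mono, Lib.Classical.RootModel.qEight,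
    Matrix.single_apply, Matrix.one_apply] at h3

end Cfsg.Agent.S1082
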