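import Cfsg.Statements.S1083
import Cfsg.Agent.Lib.Classical.RootModel.GenB2
import Cfsg.Agent.Lib.Classical.RootModel.Conclude

set_option autoImplicit false
open Cfsg

namespace Cfsg.Agent.S1083
/-- The coordinates of `quadFormOdd 2`. -/
def coordFive : Fin 5 ≃ Unit ⊕ (Fin 2 ⊕ Fin 2) where
  toFun := ![.inl (), .inr (.inl 0), .inr (.inl 1), .inr (.inr 0), .inr (.inr 1)]
  invFun := Sum.elim (fun _ => 0) (Sum.elim ![1, 2] ![3, 4])
  left_inv := by decide
  right_inv := by decide


/-- B₂(F) ≅ PΩ₅(F) for the form `x₀² + x₁y₁ + x₂y₂`, over every field with more than two elements. -/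
theorem result {F : Type*} [Field F] (hF : ∃ a : F, a ≠ 0 ∧ a ≠ 1) :
    Nonempty (↥(Cfsg.Lie.chevB2.group F) ≃* Cfsg.POmega F (Cfsg.quadFormOdd 2 F)) := by
  classical
  obtain ⟨φ, hφ⟩ := Lib.Classical.RootModel.modelB2.exists_hom Lib.Classical.RootModel.qFive Cfsg.Lie.chevB2
    Lib.Classical.RootModel.chkB2 (Lib.Classical.RootModel.formFive F) Lib.Classical.RootModel.formFive_dot
  obtain ⟨e⟩ := Lib.Classical.RootModel.isometry_reindex coordFive
    (Cfsg.quadFormOdd 2 F) (Lib.Classical.RootModel.formFive F) (fun v => by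
      rw [Cfsg.quadFormOdd, Fin.sum_univ_two, ← add_assoc]
      rfl)
  have : IsSimpleGroup ↥(Cfsg.Lie.chevB2.group F) := (Lib.Chev.goodB2.simple Lib.Chev.connB2
    (Lib.Chev.perfect_group (by simp) (fun _ => hF))).1
  refine Lib.Classical.RootModel.exists_equiv_of_hom (e.toMonoidHom.comp φ)
    (Lib.Classical.RootModel.st_perfect_of_cover _ (Lib.Chev.c_perfect_group (by simp) (fun _ => hF)))
    (Lib.Classical.RootModel.commutator_le_range_comp φ e
      (Lib.Classical.RootModel.commutator_le_rangeB2 φ hφ))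
    (fun hbot => ?_) (Lib.Chev.goodB2.theta F) Lib.Chev.goodB2.theta_surjective
    (Lib.Chev.goodB2.theta_ker Lib.Chev.adjB2)
  have h1 : e (φ (Cfsg.Lie.chevB2.stGen F 0 1)) = 1 := Subgroup.mem_bot.1 (hbot ▸ ⟨_, rfl⟩)
  rw [map_eq_one_iff _ e.injective] at h1
  have h2 := hφ 0 1 (by decide)
  rw [h1] at h2
  have h3 := congrFun (congrFun h2 4) 1
  simp [Lib.Classical.RootModel.Model.X, Lib.Classical.RootModel.Model.elem, Lib.Classical.RootModel.Model.mv,
    Lib.Classical.RootModel.modelB2, Lib.Classical.RootModel.ev_append, Lib.Classical.RootModel.ev_oneP,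
    Lib.Classical.RootModel.ev_cons, Lib.Classical.RootModel.mono, Lib.Classical.RootModel.qFive,
    Matrix.single_apply, Matrix.one_apply] at h3

end Cfsg.Agent.S1083
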