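import Cfsg.Statements.S1095
import Cfsg.Agent.Lib.Chev.Reflect
-- import your own Cfsg.Agent.* helpers here

set_option autoImplicit false
open Cfsg

namespace Cfsg.Agent.S1095

/-- `n_p` (p = p_{i+1} fundamental) is the signed monomial matrix `h_{p_j} ↦ h_{p_j} - A_{p_j,p} h_p`, `e_s ↦ η_s e_{w_p(s)}`, with `η_s = ±1`, `η_p = η_{-p} = -1`, `η_s η_{w_p(s)} = (-1)^{A_{p,s}}`, `η_s η_{-s} = 1`. -/
theorem result {F : Type*} [Field F] (D : Cfsg.Lie.ChevalleyDatum) (hD : D ∈ [Cfsg.Lie.chevG2, Cfsg.Lie.chevB2, Cfsg.Lie.chevD4, Cfsg.Lie.chevF4, Cfsg.Lie.chevE6, Cfsg.Lie.chevE7, Cfsg.Lie.chevE8]) (i : ℕ) (hi : i < D.rank) :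
    ∃ η : ℕ → ℤ, (∀ s < D.nroots, η s = 1 ∨ η s = -1) ∧ η (D.simple i) = -1 ∧ η (D.neg (D.simple i)) = -1 ∧
      (∀ s < D.nroots, η s * η (D.reflectRoot i s) = (-1) ^ (D.cartan i s).natAbs ∧ η s * η (D.neg s) = 1) ∧
      D.nMat F (D.simple i) 1 = Matrix.of (fun (row col : D.Idx) =>
        Sum.elim
          (fun j' : Fin D.rank => Sum.elim
            (fun j : Fin D.rank => (if j' = j then (1 : F) else 0) - (if (j' : ℕ) = i then ((D.cartan j (D.simple i) : ℤ) : F) else 0))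
            (fun _ => (0 : F)) col)
          (fun s' : Fin D.nroots => Sum.elim
            (fun _ => (0 : F))
            (fun s : Fin D.nroots => if (s' : ℕ) = D.reflectRoot i s then ((η s : ℤ) : F) else 0) col)
          row) := by
  obtain ⟨T, G, R⟩ := Cfsg.Agent.Lib.Chev.exists_good' hD
  have hp := G.sim_lt hi
  refine ⟨T.eta i, fun s _ => T.eta_eq_or i s, ?_, ?_, fun s hs => ⟨?_, ?_⟩, ?_⟩
  · rw [G.simple_eq]; exact G.eta_sim hi
  · rw [G.simple_eq, G.neg_eq hp, G.eta_ng hi hp]; exact G.eta_sim hi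
  · rw [G.reflectRoot_eq R hi hs, G.cartan_eq hi hs, G.eta_w hi hs]
  · rw [G.neg_eq hs, G.eta_ng hi hs, Cfsg.Agent.Lib.Chev.Tables.eta_mul_self]
  refine Cfsg.Agent.Lib.Chev.ext_bas fun a ha => ?_
  rw [G.simple_eq, ← G.Ng_val hp]
  rcases Cfsg.Agent.Lib.Chev.code_cases D ha with ⟨j, hj, rfl⟩ | ha
  · refine (G.ni_bas_h hi hj).trans ?_
    conv_rhs => rw [Cfsg.Agent.Lib.Chev.bas_inl (F := F) ⟨j, hj⟩, Matrix.mulVec_single_one]
    funext x
    rcases x with j' | u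
    · have hcart := G.cartan_eq hj hp
      by_cases hji : (j' : ℕ) = i
      · by_cases hjj : j' = ⟨j, hj⟩
        · subst hjj
          simp only at hji
          subst hji
          simp [Cfsg.Agent.Lib.Chev.bas, Cfsg.Agent.Lib.Chev.cd, hcart, sub_eq_add_neg]
        · have : (j' : ℕ) ≠ j := fun h => hjj (Fin.ext h)
          subst hji
          simp [Cfsg.Agent.Lib.Chev.bas, Cfsg.Agent.Lib.Chev.cd, hcart, hjj, this]
      · by_cases hjj : j' = ⟨j, hj⟩
        · subst hjj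
          simp only at hji
          simp [Cfsg.Agent.Lib.Chev.bas, Cfsg.Agent.Lib.Chev.cd, hji]
        · have : (j' : ℕ) ≠ j := fun h => hjj (Fin.ext h)
          simp [Cfsg.Agent.Lib.Chev.bas, Cfsg.Agent.Lib.Chev.cd, hji, hjj, this]
    · have := u.isLt
      simp [Cfsg.Agent.Lib.Chev.bas, Cfsg.Agent.Lib.Chev.cd, show (u : ℕ) ≠ D.nroots + j by omega,
        show (u : ℕ) ≠ D.nroots + i by omega]
  · refine (G.ni_bas_root hi ha).trans ?_
    conv_rhs => rw [Cfsg.Agent.Lib.Chev.bas_inr (F := F) ⟨a, ha⟩, Matrix.mulVec_single_one]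
    funext x
    have hw := G.reflectRoot_eq R hi ha
    rcases x with j' | u
    · have := G.w_lt hi ha
      simp [Cfsg.Agent.Lib.Chev.bas, Cfsg.Agent.Lib.Chev.cd, show D.nroots + (j' : ℕ) ≠ T.w i a by omega]
    · simp [Cfsg.Agent.Lib.Chev.bas, Cfsg.Agent.Lib.Chev.cd, hw]
      by_cases hu : (u : ℕ) = T.w i a <;> simp [hu]

end Cfsg.Agent.S1095
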