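import Cfsg.Statements.S1098
import Cfsg.Agent.Lib.Chev.AutData
-- import your own Cfsg.Agent.* helpers here

set_option autoImplicit false
open Cfsg

namespace Cfsg.Agent.S1098

/-- Graph automorphisms in characteristic 2 (K perfect): for B₂ (a short, b long) `x_a(t) ↦ x_b(t²)`, `x_b(t) ↦ x_a(t)`, and for F₄ (p₁, p₂ short, p₃, p₄ long) `x_{p₁}(t) ↦ x_{p₄}(t²)`, `x_{p₂}(t) ↦ x_{p₃}(t²)`, `x_{p₃}(t) ↦ x_{p₂}(t)`, `x_{p₄}(t) ↦ x_{p₁}(t)`, likewise on the negatives, extend to an automorphism of the group. -/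
theorem result {K : Type*} [Field K] [CharP K 2] (hperf : ∀ x : K, ∃ y : K, y ^ 2 = x)
    (p : Cfsg.Lie.ChevalleyDatum × List (ℕ × ℕ))
    (hp : p ∈ [(Cfsg.Lie.chevB2, [(1, 2), (0, 1)]), (Cfsg.Lie.chevF4, [(3, 2), (2, 2), (1, 1), (0, 1)])]) :
    ∃ α : ↥(p.1.group K) ≃* ↥(p.1.group K), ∀ (g : ↥(p.1.group K)) (i : ℕ) (t : K), i < p.1.rank →
      (((g : GL p.1.Idx K) : Matrix p.1.Idx p.1.Idx K) = p.1.x K (p.1.simple i) t →
        ((α g : GL p.1.Idx K) : Matrix p.1.Idx p.1.Idx K) = p.1.x K (p.1.simple (p.2.getD i (0, 1)).1) (t ^ (p.2.getD i (0, 1)).2)) ∧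
      (((g : GL p.1.Idx K) : Matrix p.1.Idx p.1.Idx K) = p.1.x K (p.1.neg (p.1.simple i)) t →
        ((α g : GL p.1.Idx K) : Matrix p.1.Idx p.1.Idx K) = p.1.x K (p.1.neg (p.1.simple (p.2.getD i (0, 1)).1)) (t ^ (p.2.getD i (0, 1)).2)) := by
  have h2 : ((2 : ℕ) : K) = 0 := CharP.cast_eq_zero K 2
  simp only [List.mem_cons, List.not_mem_nil, or_false] at hp
  rcases hp with rfl | rfl
  · exact (Cfsg.Agent.Lib.Chev.autB2_hyp K h2 fun r hr x => by
      have := Cfsg.Agent.Lib.Chev.allLt_eq_true (n := Cfsg.Lie.chevB2.nroots) (f := fun r => Cfsg.Agent.Lib.Chev.autB2.ex r == 1 || Cfsg.Agent.Lib.Chev.autB2.ex r == 2) (by decide +kernel) r hr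
      simp only [Bool.or_eq_true, beq_iff_eq] at this
      rcases this with e | e <;> rw [e]
      · exact ⟨x, pow_one x⟩
      · exact hperf x).graph (by decide +kernel)
  · exact (Cfsg.Agent.Lib.Chev.autF4_hyp K h2 fun r hr x => by
      have := Cfsg.Agent.Lib.Chev.allLt_eq_true (n := Cfsg.Lie.chevF4.nroots) (f := fun r => Cfsg.Agent.Lib.Chev.autF4.ex r == 1 || Cfsg.Agent.Lib.Chev.autF4.ex r == 2) (by decide +kernel) r hr
      simp only [Bool.or_eq_true, beq_iff_eq] at this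
      rcases this with e | e <;> rw [e]
      · exact ⟨x, pow_one x⟩
      · exact hperf x).graph (by decide +kernel)

end Cfsg.Agent.S1098
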