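import Cfsg.Statements.S1099
import Cfsg.Agent.Lib.Chev.AutData
-- import your own Cfsg.Agent.* helpers here

set_option autoImplicit false
open Cfsg

namespace Cfsg.Agent.S1099

/-- Graph automorphism of G₂ in characteristic 3 (K perfect): `x_a(t) ↦ x_b(t³)`, `x_b(t) ↦ x_a(t)`, `x_{-a}(t) ↦ x_{-b}(t³)`, `x_{-b}(t) ↦ x_{-a}(t)` extend to an automorphism of the group. -/
theorem result {K : Type*} [Field K] [CharP K 3] (hperf : ∀ x : K, ∃ y : K, y ^ 3 = x) :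
    ∃ α : ↥(Cfsg.Lie.chevG2.group K) ≃* ↥(Cfsg.Lie.chevG2.group K), ∀ (g : ↥(Cfsg.Lie.chevG2.group K)) (t : K),
      (((g : GL Cfsg.Lie.chevG2.Idx K) : Matrix _ _ K) = Cfsg.Lie.chevG2.x K Cfsg.Lie.g2a t →
        ((α g : GL Cfsg.Lie.chevG2.Idx K) : Matrix _ _ K) = Cfsg.Lie.chevG2.x K Cfsg.Lie.g2b (t ^ 3)) ∧
      (((g : GL Cfsg.Lie.chevG2.Idx K) : Matrix _ _ K) = Cfsg.Lie.chevG2.x K Cfsg.Lie.g2b t →
        ((α g : GL Cfsg.Lie.chevG2.Idx K) : Matrix _ _ K) = Cfsg.Lie.chevG2.x K Cfsg.Lie.g2a t) ∧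
      (((g : GL Cfsg.Lie.chevG2.Idx K) : Matrix _ _ K) = Cfsg.Lie.chevG2.x K Cfsg.Lie.g2ma t →
        ((α g : GL Cfsg.Lie.chevG2.Idx K) : Matrix _ _ K) = Cfsg.Lie.chevG2.x K Cfsg.Lie.g2mb (t ^ 3)) ∧
      (((g : GL Cfsg.Lie.chevG2.Idx K) : Matrix _ _ K) = Cfsg.Lie.chevG2.x K Cfsg.Lie.g2mb t →
        ((α g : GL Cfsg.Lie.chevG2.Idx K) : Matrix _ _ K) = Cfsg.Lie.chevG2.x K Cfsg.Lie.g2ma t) := by
  have h3 : ((3 : ℕ) : K) = 0 := CharP.cast_eq_zero K 3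
  obtain ⟨α, hα⟩ := (Cfsg.Agent.Lib.Chev.autG2_hyp K h3 fun r hr x => by
      have := Cfsg.Agent.Lib.Chev.allLt_eq_true (n := Cfsg.Lie.chevG2.nroots) (f := fun r => Cfsg.Agent.Lib.Chev.autG2.ex r == 1 || Cfsg.Agent.Lib.Chev.autG2.ex r == 3) (by decide +kernel) r hr
      simp only [Bool.or_eq_true, beq_iff_eq] at this
      rcases this with e | e <;> rw [e]
      · exact ⟨x, pow_one x⟩
      · exact hperf x).graph (l := [(1, 3), (0, 1)]) (by decide +kernel)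
  have s0 : Cfsg.Lie.chevG2.simple 0 = Cfsg.Lie.g2a := by decide +kernel
  have s1 : Cfsg.Lie.chevG2.simple 1 = Cfsg.Lie.g2b := by decide +kernel
  have n0 : Cfsg.Lie.chevG2.neg Cfsg.Lie.g2a = Cfsg.Lie.g2ma := by decide +kernel
  have n1 : Cfsg.Lie.chevG2.neg Cfsg.Lie.g2b = Cfsg.Lie.g2mb := by decide +kernel
  refine ⟨α, fun g t => ?_⟩
  have a := hα g 0 t (by decide)
  have b := hα g 1 t (by decide)
  simp only [List.getD_cons_zero, List.getD_cons_succ, s0, s1, n0, n1, pow_one] at a b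
  exact ⟨a.1, b.1, a.2, b.2⟩

end Cfsg.Agent.S1099
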