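import Cfsg.Statements.S1118
import Cfsg.Agent.Lib.RankOne.Fixed

set_option autoImplicit false
open Cfsg

namespace Cfsg.Agent.S1118

open Cfsg.Agent.Lib.RankOne


/-- In the rank-one set-up (`G` finite and doubly transitive on `Ω`, `t` an involution moving `a`, `Q` normal in `G_a` with `G_a = Q D`, `Q ⊓ D = 1` for the two-point stabiliser `D = G_a ⊓ G_{t • a}`, `|Q|` even, `|D|` odd), the normaliser of a subset of `Q` containing a non-identity element lies in `G_a`; consequently `N_G(Q) = N_G(G_a) = G_a`. -/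
theorem result {G Ω : Type*} [Group G] [Finite G] [MulAction G Ω] {a : Ω} {t : G} {Q : Subgroup G}
    (hS : Cfsg.IsRankOneSetup G Ω a t Q) :
    (∀ X : Set G, X ⊆ (Q : Set G) → (∃ x ∈ X, x ≠ 1) → Subgroup.normalizer X ≤ MulAction.stabilizer G a) ∧
      Subgroup.normalizer (Q : Set G) = MulAction.stabilizer G a ∧
      Subgroup.normalizer (MulAction.stabilizer G a : Set G) = MulAction.stabilizer G a := by
  obtain ⟨s, hs, hs1, -⟩ := Setup.exists_involution hS
  refine ⟨fun X hX ⟨x, hx, hx1⟩ g hg => Setup.mem_of_conj_mem hS (hX hx) hx1 (hX ((hg x).mp hx)),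
    le_antisymm (fun g hg => Setup.mem_of_conj_mem hS hs hs1 ((hg s).mp hs)) ?_,
    le_antisymm ?_ Subgroup.le_normalizer⟩
  · exact fun g hg n => ⟨fun hn => hS.conj_mem g hg n hn, fun hn => by
      simpa [mul_assoc] using hS.conj_mem g⁻¹ (inv_mem hg) _ hn⟩
  · intro g hg
    refine MulAction.mem_stabilizer_iff.mpr (Setup.eq_of_fix hS hs hs1 ?_)
    have h1 : g⁻¹ * s * g ∈ MulAction.stabilizer G a :=
      (hg _).mpr (by simpa [mul_assoc] using hS.le hs)
    have h2 := congrArg (g • ·) (MulAction.mem_stabilizer_iff.mp h1)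
    simpa only [mul_smul, smul_inv_smul] using h2

end Cfsg.Agent.S1118
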