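import Cfsg.Statements.S1120
import Cfsg.Agent.Lib.RankOne.Fixed
import Cfsg.Agent.Lib.Components.Signalizer
import Cfsg.Agent.Lib.Components.GenFitting
import Mathlib.Data.Set.Card

set_option autoImplicit false
open Cfsg

namespace Cfsg.Agent.S1120

open Cfsg.Agent.Lib Cfsg.Agent.Lib.RankOne


/-- In the rank-one set-up (`G` finite and doubly transitive on `Ω`, `t` an involution moving `a`, `Q` normal in `G_a` with `G_a = Q D`, `Q ⊓ D = 1` for the two-point stabiliser `D = G_a ⊓ G_{t • a}`, `|Q|` even, `|D|` odd), if `G` has 2-rank at least 2 then `O_{2'}(G)` equals the normal core of `G_a`. -/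
theorem result {G Ω : Type*} [Group G] [Finite G] [MulAction G Ω] {a : Ω} {t : G} {Q : Subgroup G}
    (hS : Cfsg.IsRankOneSetup G Ω a t Q)
    (h2 : ∃ x y : G, x ≠ 1 ∧ y ≠ 1 ∧ x ≠ y ∧ x * x = 1 ∧ y * y = 1 ∧ x * y = y * x) :
    Cfsg.pPrimeCore 2 G = (MulAction.stabilizer G a).normalCore := by
  obtain ⟨x₀, y₀, hx1, hy1, hne, hx2, hy2, hxy⟩ := h2
  haveI : Fact (Nat.Prime 2) := ⟨Nat.prime_two⟩
  obtain ⟨s, hsQ, hs1, hs2⟩ := Setup.exists_involution hS
  obtain ⟨g, hg⟩ := Setup.conj_involutions hS hx1 hx2 hs1 hs2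
  -- move the four-group into `G_a`
  set y := g * y₀ * g⁻¹ with hy
  have hsy : s * y = y * s := by
    calc s * y = g * (x₀ * y₀) * g⁻¹ := by rw [← hg, hy]; group
      _ = g * (y₀ * x₀) * g⁻¹ := by rw [hxy]
      _ = y * s := by rw [← hg, hy]; group
  have hy2' : y * y = 1 := by
    calc y * y = g * (y₀ * y₀) * g⁻¹ := by rw [hy]; group
      _ = 1 := by rw [hy2, mul_one, mul_inv_cancel]
  have hy1' : y ≠ 1 := fun h => hy1 (conj_eq_one_iff.mp h)
  have hsne : s ≠ y := fun h => hne (by
    rw [← hg, hy] at h; exact mul_left_cancel (mul_right_cancel h))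
  have hyH : y ∈ MulAction.stabilizer G a := Setup.mem_of_commute hS hsQ hs1 hsy.symm
  let A : Subgroup G := Subgroup.closure {s, y}
  have hA1 : ∀ w ∈ A, Commute w s ∧ Commute w y := by
    intro w hw
    induction hw using Subgroup.closure_induction with
    | mem z hz =>
      rcases hz with rfl | rfl
      · exact ⟨Commute.refl _, hsy⟩
      · exact ⟨hsy.symm, Commute.refl _⟩
    | one => exact ⟨Commute.one_left _, Commute.one_left _⟩
    | mul u v _ _ hu hv => exact ⟨hu.1.mul_left hv.1, hu.2.mul_left hv.2⟩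
    | inv u _ hu => exact ⟨hu.1.inv_left, hu.2.inv_left⟩
  have hA2 : ∀ w ∈ A, ∀ v ∈ A, Commute w v := by
    intro w hw v hv
    induction hv using Subgroup.closure_induction with
    | mem z hz => rcases hz with rfl | rfl
                  · exact (hA1 w hw).1
                  · exact (hA1 w hw).2
    | one => exact Commute.one_right _
    | mul u v _ _ hu hv => exact hu.mul_right hv
    | inv u _ hu => exact hu.inv_right
  have hA3 : ∀ w ∈ A, w ^ 2 = 1 := by
    intro w hw
    induction hw using Subgroup.closure_induction with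
    | mem z hz => rcases hz with rfl | rfl <;> rw [sq] <;> assumption
    | one => rw [one_pow]
    | mul u v hu hv hu' hv' => rw [(hA2 u hu v hv).mul_pow, hu', hv', mul_one]
    | inv u _ hu => rw [inv_pow, hu, inv_one]
  have hA : Cfsg.IsElementaryAbelian 2 A :=
    ⟨⟨⟨fun u v => Subtype.ext (hA2 u u.2 v v.2)⟩⟩, hA3⟩
  have hsA : s ∈ A := Subgroup.subset_closure (Or.inl rfl)
  have hyA : y ∈ A := Subgroup.subset_closure (Or.inr rfl)
  have hAle : A ≤ MulAction.stabilizer G a := by
    refine (Subgroup.closure_le _).mpr ?_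
    rintro z (rfl | rfl)
    · exact hS.le hsQ
    · exact hyH
  have hOn : (Cfsg.pPrimeCore 2 G).Normal :=
    Subgroup.sSup_normal _ fun N hN => hN.1
  refine le_antisymm (Subgroup.normal_le_normalCore.mpr ?_) ?_
  · have hO : ¬ 2 ∣ Nat.card ↥(Cfsg.pPrimeCore 2 G) :=
      (Nat.coprime_two_right.mp (Components.pPrimeCore_coprime 2)).not_two_dvd_nat
    rw [Components.eq_iSup_hyperplane hA hO (fun u _ => by
      rw [Subgroup.normalizer_eq_top]; trivial)]
    refine iSup_le fun B => ?_
    have hB : ∃ b ∈ (B : Subgroup G), b ≠ 1 := by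
      by_contra! hbot
      have hB1 : (B : Subgroup G) = ⊥ := (Subgroup.eq_bot_iff_forall _).mpr hbot
      have h1 := B.2.2
      rw [hB1, Subgroup.relIndex_bot_left] at h1
      have h3 : ({1, s, y} : Set G).ncard = 3 := Set.ncard_eq_three.mpr
        ⟨1, s, y, Ne.symm hs1, Ne.symm hy1', hsne, rfl⟩
      have h4 : ({1, s, y} : Set G).ncard ≤ (A : Set G).ncard := Set.ncard_le_ncard (by
        rintro z (rfl | rfl | rfl)
        · exact A.one_mem
        · exact hsA
        · exact hyA) (Set.toFinite _)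
      rw [h3, ← Nat.card_coe_set_eq] at h4
      exact absurd (h4.trans h1) (by decide)
    obtain ⟨b, hb, hb1⟩ := hB
    have hbQ : b ∈ Q := Setup.mem_of_sq hS (hAle (B.2.1 hb)) (by
      rw [← sq]; exact hA3 b (B.2.1 hb))
    intro w hw
    exact Setup.mem_of_commute hS hbQ hb1
      (Subgroup.mem_centralizer_iff.mp hw.2 b hb).symm
  · refine Components.le_pPrimeCore (Subgroup.normalCore_normal _) ?_
    have hle : (MulAction.stabilizer G a).normalCore ≤
        MulAction.stabilizer G a ⊓ MulAction.stabilizer G (t • a) := by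
      intro w hw
      refine ⟨Subgroup.normalCore_le _ hw, MulAction.mem_stabilizer_iff.mpr ?_⟩
      have h1 : t * w * t⁻¹ ∈ MulAction.stabilizer G a := hw t
      have h2 := congrArg (t • ·) (MulAction.mem_stabilizer_iff.mp h1)
      simpa only [Setup.t_inv hS, mul_smul, Setup.t_smul_t_smul hS] using h2
    exact Nat.coprime_two_right.mpr (hS.odd_card.of_dvd_nat (Subgroup.card_dvd_of_le hle))

end Cfsg.Agent.S1120
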