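import Cfsg.Statements.S1132
import Cfsg.Agent.Lib.RankOne.Cyclic

set_option autoImplicit false
open Cfsg

namespace Cfsg.Agent.S1132

/-- In the rank-one set-up (`G` finite and doubly transitive on `Ω`, `t` an involution moving `a`, `Q` normal in `G_a` with `G_a = Q D`, `Q ⊓ D = 1` for the two-point stabiliser `D = G_a ⊓ G_{t • a}`, `|Q|` even, `|D|` odd), with the action faithful and `G` containing two distinct commuting involutions: a Sylow 2-subgroup of `Q` is abelian or a Suzuki 2-group. -/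
theorem result {G Ω : Type*} [Group G] [Finite G] [MulAction G Ω] [FaithfulSMul G Ω] {a : Ω} {t : G} {Q : Subgroup G}
    (hS : Cfsg.IsRankOneSetup G Ω a t Q)
    (h2 : ∃ x y : G, x ≠ 1 ∧ y ≠ 1 ∧ x ≠ y ∧ x * x = 1 ∧ y * y = 1 ∧ x * y = y * x)
    (S : Sylow 2 ↥Q) : IsMulCommutative (S : Subgroup ↥Q) ∨ Cfsg.IsSuzukiTwoGroup ↥(S : Subgroup ↥Q) := by
  classical
  obtain ⟨C, hC, hCc, -, -⟩ := Cfsg.Agent.Lib.RankOne.Setup.exists_cyclic hS h2
  by_cases hab : ∀ x y : (S : Subgroup ↥Q), x * y = y * x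
  · exact Or.inl ⟨⟨hab⟩⟩
  push Not at hab
  refine Or.inr ?_
  haveI : (S : Subgroup ↥Q).Normal :=
    Sylow.normal_of_normalizerCondition
      (Group.normalizerCondition_of_isNilpotent (h := Cfsg.Agent.S1129.isNilpotent_of_setup hS h2)) S
  haveI hchar : (S : Subgroup ↥Q).Characteristic := Sylow.characteristic_of_normal S inferInstance
  have hCD : ∀ c ∈ C, c ∈ Cfsg.invertedBy (MulAction.stabilizer G a ⊓ MulAction.stabilizer G (t • a)) t :=
    fun c hc => hC.subset hc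
  let conjQ : ↥C → MulAut ↥Q := fun c =>
    { toFun := fun x => ⟨(c : G) * x * (c : G)⁻¹, hS.conj_mem c (hCD c c.2).1.1 x x.2⟩
      invFun := fun x => ⟨(c : G)⁻¹ * x * c,
        by simpa using hS.conj_mem (c : G)⁻¹ (inv_mem (hCD c c.2).1.1) x x.2⟩
      left_inv := fun x => Subtype.ext (by
        show (c : G)⁻¹ * ((c : G) * x * (c : G)⁻¹) * c = x
        group)
      right_inv := fun x => Subtype.ext (by
        show (c : G) * ((c : G)⁻¹ * x * c) * (c : G)⁻¹ = x
        group)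
      map_mul' := fun x y => Subtype.ext (by
        show (c : G) * ((x : G) * y) * (c : G)⁻¹ = (c : G) * x * (c : G)⁻¹ * ((c : G) * y * (c : G)⁻¹)
        group) }
  have hmem : ∀ (c : ↥C) (x : (S : Subgroup ↥Q)), conjQ c x ∈ (S : Subgroup ↥Q) := fun c x => by
    have h := Subgroup.characteristic_iff_map_eq.1 hchar (conjQ c)
    have h1 := Subgroup.mem_map_of_mem (conjQ c).toMonoidHom x.2
    rw [h] at h1
    exact h1
  let f : ↥C →* MulAut ↥(S : Subgroup ↥Q) :=
    { toFun := fun c =>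
        { toFun := fun x => ⟨conjQ c x, hmem c x⟩
          invFun := fun x => ⟨conjQ c⁻¹ x, hmem c⁻¹ x⟩
          left_inv := fun x => Subtype.ext (Subtype.ext (by
            show ((c⁻¹ : ↥C) : G) * ((c : G) * x * (c : G)⁻¹) * ((c⁻¹ : ↥C) : G)⁻¹ = _
            rw [InvMemClass.coe_inv]
            group))
          right_inv := fun x => Subtype.ext (Subtype.ext (by
            show (c : G) * (((c⁻¹ : ↥C) : G) * x * ((c⁻¹ : ↥C) : G)⁻¹) * (c : G)⁻¹ = _
            rw [InvMemClass.coe_inv]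
            group))
          map_mul' := fun x y => Subtype.ext (map_mul (conjQ c) (x : ↥Q) (y : ↥Q)) }
      map_one' := MulEquiv.ext fun x => Subtype.ext (Subtype.ext (by
        show ((1 : ↥C) : G) * x * ((1 : ↥C) : G)⁻¹ = _
        rw [OneMemClass.coe_one]
        simp))
      map_mul' := fun c d => MulEquiv.ext fun x => Subtype.ext (Subtype.ext (by
        show ((c * d : ↥C) : G) * x * ((c * d : ↥C) : G)⁻¹ = (c : G) * ((d : G) * x * (d : G)⁻¹) * (c : G)⁻¹
        rw [Subgroup.coe_mul]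
        group)) }
  -- involutions of the Sylow subgroup are the involutions of the point stabiliser
  have hIS : ∀ s ∈ Cfsg.involutionsIn (MulAction.stabilizer G a : Set G),
      ∃ x : (S : Subgroup ↥Q), ((x : ↥Q) : G) = s ∧ x ≠ 1 ∧ x * x = 1 := by
    intro s hs
    have hsQ := Cfsg.Agent.Lib.RankOne.Setup.mem_Q_of_involution hS hs
    have hp : IsPGroup 2 (Subgroup.zpowers (⟨s, hsQ⟩ : ↥Q)) := by
      haveI : Fact (Nat.Prime 2) := ⟨Nat.prime_two⟩
      refine IsPGroup.of_card (n := 1) ?_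
      rw [Nat.card_zpowers, pow_one]
      exact orderOf_eq_prime (Subtype.ext (by rw [SubgroupClass.coe_pow, pow_two]; exact hs.2.2))
        fun h => hs.2.1 (congrArg Subtype.val h)
    have h1 := S.is_maximal' (hp.to_sup_of_normal_right S.2) le_sup_right
    refine ⟨⟨⟨s, hsQ⟩, h1 ▸ Subgroup.mem_sup_left (Subgroup.mem_zpowers _)⟩, rfl, fun h => hs.2.1 ?_, ?_⟩
    · exact congrArg (fun z : (S : Subgroup ↥Q) => ((z : ↥Q) : G)) h
    · exact Subtype.ext (Subtype.ext hs.2.2)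
  have hSI : ∀ x : (S : Subgroup ↥Q), x ≠ 1 → x * x = 1 →
      ((x : ↥Q) : G) ∈ Cfsg.involutionsIn (MulAction.stabilizer G a : Set G) := fun x hx hx2 =>
    ⟨hS.le (x : ↥Q).2, fun h => hx (Subtype.ext (Subtype.ext h)),
      congrArg (fun z : (S : Subgroup ↥Q) => ((z : ↥Q) : G)) hx2⟩
  refine ⟨inferInstance, S.2, hab, ?_, f.range, ?_, ?_⟩
  · -- two involutions fixing `a`
    obtain ⟨u, w, hu1, hw1, huw, hu2, hw2, hcomm⟩ := h2
    obtain ⟨c, hc, huniq⟩ := Cfsg.Agent.Lib.RankOne.Setup.existsUnique_fixed hS hu1 hu2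
    have hwc : w • c = c := huniq _ (by
      show u • (w • c) = w • c
      rw [smul_smul, hcomm, mul_smul, show u • c = c from hc])
    obtain ⟨g, hg⟩ := Cfsg.Agent.Lib.RankOne.Setup.transitive hS c
    have key : ∀ z : G, z • c = c → z ≠ 1 → z * z = 1 →
        g⁻¹ * z * g ∈ Cfsg.involutionsIn (MulAction.stabilizer G a : Set G) := fun z hz hz1 hz2 => by
      refine ⟨MulAction.mem_stabilizer_iff.2 ?_, fun h => hz1 ?_, ?_⟩
      · rw [mul_smul, mul_smul, hg, hz, inv_smul_eq_iff, hg]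
      · calc z = g * (g⁻¹ * z * g) * g⁻¹ := by group
          _ = 1 := by rw [h, mul_one, mul_inv_cancel]
      · calc g⁻¹ * z * g * (g⁻¹ * z * g) = g⁻¹ * (z * z) * g := by group
          _ = 1 := by rw [hz2, mul_one, inv_mul_cancel]
    obtain ⟨x, hx, hx1, hx2⟩ := hIS _ (key u hc hu1 hu2)
    obtain ⟨y, hy, hy1, hy2⟩ := hIS _ (key w hwc hw1 hw2)
    refine ⟨x, y, fun h => huw ?_, hx1, hx2, hy1, hy2⟩
    rw [h] at hx
    exact mul_left_cancel (mul_right_cancel (hx.symm.trans hy))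
  · haveI := hCc
    exact isCyclic_of_surjective f.rangeRestrict f.rangeRestrict_surjective
  · intro x y hx hx2 hy hy2
    obtain ⟨k, hk, hke⟩ := Cfsg.Agent.Lib.RankOne.Setup.exists_conj_involution hS (hSI x hx hx2) (hSI y hy hy2)
    have hk' : k⁻¹ ∈ C := inv_mem (hC.symm.subset hk)
    refine ⟨⟨f ⟨k⁻¹, hk'⟩, _, rfl⟩, Subtype.ext (Subtype.ext ?_), ?_⟩
    · show k⁻¹ * _ * k⁻¹⁻¹ = _
      rw [inv_inv, hke]
    · rintro ⟨-, ⟨c, rfl⟩⟩ hcxy
      have h1 : (c : G) * ((x : ↥Q) : G) * (c : G)⁻¹ = ((y : ↥Q) : G) :=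
        congrArg (fun z : (S : Subgroup ↥Q) => ((z : ↥Q) : G)) hcxy
      have hcinv : (c : G)⁻¹ ∈ Cfsg.invertedBy (MulAction.stabilizer G a ⊓ MulAction.stabilizer G (t • a)) t :=
        hCD _ (inv_mem c.2)
      have h3 := Cfsg.Agent.Lib.RankOne.Setup.inj_conj_involution hS (hSI x hx hx2) hk hcinv
        (by rw [hke, inv_inv, h1])
      refine Subtype.ext ?_
      show f c = f ⟨k⁻¹, hk'⟩
      exact congrArg f (Subtype.ext (show (c : G) = k⁻¹ from ((congrArg (·⁻¹) h3).trans (inv_inv _)).symm))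

end Cfsg.Agent.S1132
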