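import Cfsg.Statements.S1134
import Cfsg.Agent.Lib.RankOne.Fixed

set_option autoImplicit false
open Cfsg

namespace Cfsg.Agent.S1134

open Cfsg.Agent.Lib.RankOne


/-- In the rank-one set-up (`G` finite and doubly transitive on `Ω`, `t` an involution moving `a`, `Q` normal in `G_a` with `G_a = Q D`, `Q ⊓ D = 1` for the two-point stabiliser `D = G_a ⊓ G_{t • a}`, `|Q|` even, `|D|` odd), with the action faithful and `G` containing two distinct commuting involutions, with `V = C_D(t)`: subsets of `V` conjugate in `G` are conjugate in `V`. -/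
theorem result {G Ω : Type*} [Group G] [Finite G] [MulAction G Ω] [FaithfulSMul G Ω] {a : Ω} {t : G} {Q : Subgroup G}
    (hS : Cfsg.IsRankOneSetup G Ω a t Q)
    (h2 : ∃ x y : G, x ≠ 1 ∧ y ≠ 1 ∧ x ≠ y ∧ x * x = 1 ∧ y * y = 1 ∧ x * y = y * x)
    (X : Set G) (hX : X ⊆ (((MulAction.stabilizer G a ⊓ MulAction.stabilizer G (t • a)) ⊓ Subgroup.centralizer {t} : Subgroup G) : Set G)) (g : G)
    (hY : (fun x => g * x * g⁻¹) '' X ⊆ (((MulAction.stabilizer G a ⊓ MulAction.stabilizer G (t • a)) ⊓ Subgroup.centralizer {t} : Subgroup G) : Set G)) :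
    ∃ v ∈ (MulAction.stabilizer G a ⊓ MulAction.stabilizer G (t • a)) ⊓ Subgroup.centralizer {t}, (fun x => v * x * v⁻¹) '' X = (fun x => g * x * g⁻¹) '' X := by
  obtain ⟨s, hs, r, hr, h⟩ := Setup.exists_structure hS
  have hr1 : r ≠ 1 := by
    rintro rfl
    apply hS.not_mem
    have h0 : t * s * t = t := by rw [h]; simp
    have : s = t := by
      calc s = (t * t) * s * (t * t) := by rw [hS.mul_self, one_mul, mul_one]
        _ = t * (t * s * t) * t := by simp only [mul_assoc]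
        _ = t := by rw [h0, hS.mul_self, one_mul]
    exact this ▸ hs.1
  set Y := (fun x => g * x * g⁻¹) '' X with hYdef
  have hfix : ∀ Z : Set G, Z ⊆ (((MulAction.stabilizer G a ⊓ MulAction.stabilizer G (t • a)) ⊓
      Subgroup.centralizer {t} : Subgroup G) : Set G) →
      ∃ b c d : Ω, b ≠ c ∧ b ≠ d ∧ c ≠ d ∧ ∀ x ∈ Z, x • b = b ∧ x • c = c ∧ x • d = d := by
    intro Z hZ
    refine ⟨a, t • a, r • (t • a), (Setup.tsmul_ne hS).symm, (Setup.smul_ne_a hS hr).symm,
      fun e => hr1 (Setup.eq_one_of_fix hS hr e.symm), fun x hx => ?_⟩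
    obtain ⟨hxD, hxt⟩ := hZ hx
    have hxr := (Setup.V_centralizes hS hs hr h hxD
      (Subgroup.mem_centralizer_singleton_iff.mp hxt)).2
    obtain ⟨h1, h2⟩ := Setup.mem_D.mp hxD
    exact ⟨h1, h2, by rw [smul_smul, hxr, mul_smul, h2]⟩
  have hYD : Y ⊆ ((MulAction.stabilizer G a ⊓ MulAction.stabilizer G (t • a) : Subgroup G) : Set G) :=
    fun y hy => (hY hy).1
  have hgfix : ∀ c : Ω, (∀ x ∈ X, x • c = c) → ∀ y ∈ Y, y • (g • c) = g • c := by
    rintro c hc _ ⟨x, hx, rfl⟩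
    rw [mul_smul, mul_smul, inv_smul_smul, hc x hx]
  have hXD : X ⊆ ((MulAction.stabilizer G a ⊓ MulAction.stabilizer G (t • a) : Subgroup G) : Set G) :=
    fun x hx => (hX hx).1
  obtain ⟨c, hc, hca, hct⟩ := Setup.cent_two_transitive hS hYD (hfix Y hY)
    (b₁ := g • a) (b₂ := g • (t • a)) (c₁ := a) (c₂ := t • a)
    (fun y hy => ⟨hgfix a (Setup.X_fix_a hXD) y hy, hgfix _ (Setup.X_fix_ta hXD) y hy,
      Setup.X_fix_a hYD y hy, Setup.X_fix_ta hYD y hy⟩)
    (fun e => Setup.tsmul_ne hS (smul_left_cancel g e).symm) (Setup.tsmul_ne hS).symm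
  have hdD : c * g ∈ MulAction.stabilizer G a ⊓ MulAction.stabilizer G (t • a) :=
    Setup.mem_D.mpr ⟨by rw [mul_smul, hca], by rw [mul_smul, hct]⟩
  have hnorm : ∀ x ∈ (MulAction.stabilizer G a ⊓ MulAction.stabilizer G (t • a)),
      t * x * t⁻¹ ∈ (MulAction.stabilizer G a ⊓ MulAction.stabilizer G (t • a)) := fun x hx => by
    rw [Setup.t_inv hS]; exact Setup.t_conj_mem_D hS hx
  obtain ⟨⟨y, z⟩, ⟨hy, hz, he⟩, -⟩ := existsUnique_factor hS.mul_self hS.odd_card hnorm hdD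
  refine ⟨y, hy, Set.image_congr fun x hx => ?_⟩
  have hcx : c * (g * x * g⁻¹) = g * x * g⁻¹ * c :=
    (Subgroup.mem_centralizer_iff.mp hc _ ⟨x, hx, rfl⟩).symm
  have hconj : y * (z * x * z⁻¹) * y⁻¹ = g * x * g⁻¹ := by
    calc y * (z * x * z⁻¹) * y⁻¹ = (y * z) * x * (y * z)⁻¹ := by group
      _ = c * (g * x * g⁻¹) * c⁻¹ := by rw [← he]; group
      _ = g * x * g⁻¹ := by rw [hcx, mul_inv_cancel_right]
  have hzx : Commute z x := by
    have hyt : t * y * t⁻¹ = y := by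
      rw [← Subgroup.mem_centralizer_singleton_iff.mp hy.2, mul_inv_cancel_right]
    have hxt : t * x * t⁻¹ = x := by
      rw [← Subgroup.mem_centralizer_singleton_iff.mp (hX hx).2, mul_inv_cancel_right]
    have hgt : t * (g * x * g⁻¹) * t⁻¹ = g * x * g⁻¹ := by
      rw [← Subgroup.mem_centralizer_singleton_iff.mp (hY ⟨x, hx, rfl⟩).2, mul_inv_cancel_right]
    have h1 : z⁻¹ * x * z = z * x * z⁻¹ := by
      apply mul_left_cancel (a := y)
      apply mul_right_cancel (b := y⁻¹)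
      rw [hconj, ← hgt]
      conv_rhs => rw [← hconj]
      symm
      calc t * (y * (z * x * z⁻¹) * y⁻¹) * t⁻¹
          = (t * y * t⁻¹) * ((t * z * t⁻¹) * (t * x * t⁻¹) * (t * z * t⁻¹)⁻¹) * (t * y * t⁻¹)⁻¹ := by
            group
        _ = y * (z⁻¹ * x * z) * y⁻¹ := by rw [hyt, hxt, hz.2, inv_inv]
    have h6 : Commute (z ^ 2) x := by
      show z ^ 2 * x = x * z ^ 2
      calc z ^ 2 * x = z * (z * x * z⁻¹) * z := by rw [sq]; group
        _ = z * (z⁻¹ * x * z) * z := by rw [h1]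
        _ = x * z ^ 2 := by rw [sq]; group
    have h7 := h6.pow_left ((orderOf z + 1) / 2)
    rwa [sq, (Commute.refl z).mul_pow, pow_half_mul_self
      (odd_orderOf_of_mem hS.odd_card hz.1)] at h7
  rw [← hconj, hzx.eq, mul_inv_cancel_right]

end Cfsg.Agent.S1134
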