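import Cfsg.Statements.S1135
import Cfsg.Agent.S1130

set_option autoImplicit false
open Cfsg

namespace Cfsg.Agent.S1135

open Cfsg.Agent.Lib.RankOne


/-- In the rank-one set-up (`G` finite and doubly transitive on `Ω`, `t` an involution moving `a`, `Q` normal in `G_a` with `G_a = Q D`, `Q ⊓ D = 1` for the two-point stabiliser `D = G_a ⊓ G_{t • a}`, `|Q|` even, `|D|` odd), with the action faithful and `G` containing two distinct commuting involutions: if `x = u v` with `u, v` involutions and `x² ≠ 1`, then `x` is conjugate to `u' t` for some involution `u'` of `G_a`, and `|C_G(x)|` is odd. -/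
theorem result {G Ω : Type*} [Group G] [Finite G] [MulAction G Ω] [FaithfulSMul G Ω] {a : Ω} {t : G} {Q : Subgroup G}
    (hS : Cfsg.IsRankOneSetup G Ω a t Q)
    (h2 : ∃ x y : G, x ≠ 1 ∧ y ≠ 1 ∧ x ≠ y ∧ x * x = 1 ∧ y * y = 1 ∧ x * y = y * x)
    (u v : G) (hu1 : u ≠ 1) (hu2 : u * u = 1) (hv1 : v ≠ 1) (hv2 : v * v = 1) (hx : (u * v) * (u * v) ≠ 1) :
    (∃ g : G, ∃ u' ∈ Cfsg.involutionsIn (MulAction.stabilizer G a : Set G), g * (u * v) * g⁻¹ = u' * t) ∧
      Odd (Nat.card ↥(Subgroup.centralizer {u * v})) := by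
  obtain ⟨cu, hcu, hcu'⟩ := Setup.existsUnique_fixed hS hu1 hu2
  obtain ⟨cv, hcv, hcv'⟩ := Setup.existsUnique_fixed hS hv1 hv2
  have hsame : ∀ (c : Ω) (u v : G), u ≠ 1 → u * u = 1 → v ≠ 1 → v * v = 1 → u • c = c → v • c = c →
      (u * v) * (u * v) = 1 := by
    intro c u v hu1 hu2 hv1 hv2 hu hv
    obtain ⟨g, hg⟩ := Setup.transitive hS c
    have hmem : ∀ w : G, w ≠ 1 → w * w = 1 → w • c = c →
        g⁻¹ * w * g ∈ Cfsg.involutionsIn (MulAction.stabilizer G a : Set G) := by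
      intro w hw1 hw2 hw
      refine ⟨MulAction.mem_stabilizer_iff.mpr ?_, fun h => hw1 ?_, ?_⟩
      · rw [mul_smul, mul_smul, hg, hw, ← hg, inv_smul_smul]
      · calc w = g * (g⁻¹ * w * g) * g⁻¹ := by group
          _ = 1 := by rw [h, mul_one, mul_inv_cancel]
      · calc g⁻¹ * w * g * (g⁻¹ * w * g) = g⁻¹ * (w * w) * g := by group
          _ = 1 := by rw [hw2, mul_one, inv_mul_cancel]
    have hc := S1130.central_of_setup hS h2 (hmem u hu1 hu2 hu) _
      (Setup.mem_Q_of_involution hS (hmem v hv1 hv2 hv))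
    have huv : Commute u v := by
      calc u * v = g * ((g⁻¹ * u * g) * (g⁻¹ * v * g)) * g⁻¹ := by group
        _ = g * ((g⁻¹ * v * g) * (g⁻¹ * u * g)) * g⁻¹ := by rw [hc]
        _ = v * u := by group
    calc u * v * (u * v) = u * (v * u) * v := by group
      _ = (u * u) * (v * v) := by rw [← huv.eq]; group
      _ = 1 := by rw [hu2, hv2, one_mul]
  have hne : cu ≠ cv := fun e => hx (hsame cu u v hu1 hu2 hv1 hv2 hcu (e ▸ hcv))
  refine ⟨?_, ?_⟩
  · obtain ⟨g, hg⟩ := Setup.transitive hS cu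
    set v₁ := g⁻¹ * v * g with hv₁
    have hv₁2 : v₁ * v₁ = 1 := by
      calc g⁻¹ * v * g * (g⁻¹ * v * g) = g⁻¹ * (v * v) * g := by group
        _ = 1 := by rw [hv2, mul_one, inv_mul_cancel]
    have hv₁H : v₁ ∉ MulAction.stabilizer G a := by
      intro h
      rw [MulAction.mem_stabilizer_iff, mul_smul, mul_smul, hg, inv_smul_eq_iff, hg] at h
      exact hne (hcv' cu h)
    obtain ⟨q, hq, k, hk, he⟩ := Setup.exists_decomp hS hv₁H hv₁2
    obtain ⟨j, hj, hjj⟩ := exists_sqrt_invertedBy hS.odd_card hk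
    have h3 : j * (t * k) * j⁻¹ = t := by rw [Setup.conj_t_mul_k hS hj, ← hjj]; group
    refine ⟨j * q⁻¹ * g⁻¹, (j * q⁻¹) * (g⁻¹ * u * g) * (j * q⁻¹)⁻¹, ?_, ?_⟩
    · refine Setup.conj_mem_involutions hS ⟨?_, fun h => hu1 ?_, ?_⟩
        (Subgroup.mul_mem _ hj.1.1 (Subgroup.inv_mem _ (hS.le hq)))
      · show g⁻¹ * u * g ∈ MulAction.stabilizer G a
        rw [MulAction.mem_stabilizer_iff, mul_smul, mul_smul, hg, inv_smul_eq_iff, hg]
        exact hcu
      · calc u = g * (g⁻¹ * u * g) * g⁻¹ := by group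
          _ = 1 := by rw [h, mul_one, mul_inv_cancel]
      · calc g⁻¹ * u * g * (g⁻¹ * u * g) = g⁻¹ * (u * u) * g := by group
          _ = 1 := by rw [hu2, mul_one, inv_mul_cancel]
    · calc j * q⁻¹ * g⁻¹ * (u * v) * (j * q⁻¹ * g⁻¹)⁻¹
          = (j * q⁻¹) * (g⁻¹ * u * g) * (j * q⁻¹)⁻¹ * ((j * q⁻¹) * v₁ * (j * q⁻¹)⁻¹) := by
            rw [hv₁]; group
        _ = (j * q⁻¹) * (g⁻¹ * u * g) * (j * q⁻¹)⁻¹ * (j * (t * k) * j⁻¹) := by rw [he]; group
        _ = _ := by rw [h3]
  · refine (Nat.even_or_odd _).resolve_left fun hev => ?_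
    haveI : Fact (Nat.Prime 2) := ⟨Nat.prime_two⟩
    obtain ⟨⟨w, hwc⟩, hw⟩ := exists_prime_orderOf_dvd_card'
      (G := ↥(Subgroup.centralizer ({u * v} : Set G))) 2 hev.two_dvd
    rw [Subgroup.orderOf_mk] at hw
    have hw1 : w ≠ 1 := fun e => by rw [e, orderOf_one] at hw; exact absurd hw (by decide)
    have hw2 : w * w = 1 := by rw [← sq, ← hw, pow_orderOf_eq_one]
    have hwx : w * (u * v) = u * v * w := Subgroup.mem_centralizer_singleton_iff.mp hwc
    obtain ⟨c, hc, hc'⟩ := Setup.existsUnique_fixed hS hw1 hw2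
    have hxc : (u * v) • c = c := hc' _ (by
      show w • (u * v) • c = (u * v) • c
      rw [smul_smul, hwx, mul_smul, show w • c = c from hc])
    by_cases huc : u • c = c
    · refine hx (hsame c u v hu1 hu2 hv1 hv2 huc ?_)
      rw [mul_smul] at hxc
      exact smul_left_cancel u (hxc.trans huc.symm)
    · obtain ⟨g, hg⟩ := Setup.transitive hS c
      have ho : Odd (orderOf (w * u)) := by
        have h1 : Odd (orderOf ((g⁻¹ * w * g) * (g⁻¹ * u * g))) := by
          refine Setup.odd_mul hS (MulAction.mem_stabilizer_iff.mpr ?_) (fun h => hw1 ?_) ?_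
            (fun h => huc ?_) ?_
          · rw [mul_smul, mul_smul, hg, show w • c = c from hc, ← hg, inv_smul_smul]
          · calc w = g * (g⁻¹ * w * g) * g⁻¹ := by group
              _ = 1 := by rw [h, mul_one, mul_inv_cancel]
          · calc g⁻¹ * w * g * (g⁻¹ * w * g) = g⁻¹ * (w * w) * g := by group
              _ = 1 := by rw [hw2, mul_one, inv_mul_cancel]
          · rw [MulAction.mem_stabilizer_iff, mul_smul, mul_smul, hg, inv_smul_eq_iff, hg] at h
            exact h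
          · calc g⁻¹ * u * g * (g⁻¹ * u * g) = g⁻¹ * (u * u) * g := by group
              _ = 1 := by rw [hu2, mul_one, inv_mul_cancel]
        rw [show (g⁻¹ * w * g) * (g⁻¹ * u * g) = MulAut.conj g⁻¹ (w * u) by simp [mul_assoc],
          MulEquiv.orderOf_eq] at h1
        exact h1
      refine hx (sq_eq_one_of_centralize_invert ho hwx ?_)
      rw [inv_eq_self_of_sq hu2, mul_inv_rev, inv_eq_self_of_sq hu2, inv_eq_self_of_sq hv2,
        ← mul_assoc u u v, hu2, one_mul]

end Cfsg.Agent.S1135
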