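import Cfsg.Statements.S1138
import Cfsg.Agent.Lib.Suzuki.Order

set_option autoImplicit false
open Cfsg

namespace Cfsg.Agent.S1138

open Cfsg.Agent.Lib.Suzuki



/-- Let `P` be a Suzuki 2-group with `|Z(P)| = q`. Then every square lies in `Z(P)` and `P/Z(P)` is abelian (so elementary abelian), `|P| = q²` or `|P| = q³`, and `P` has exponent 4. -/
theorem result {P : Type*} [Group P] (hP : Cfsg.IsSuzukiTwoGroup P) :
    (∀ x : P, x * x ∈ Subgroup.center P) ∧ (∀ x y : P, x⁻¹ * y⁻¹ * x * y ∈ Subgroup.center P) ∧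
      (Nat.card P = Nat.card (Subgroup.center P) ^ 2 ∨ Nat.card P = Nat.card (Subgroup.center P) ^ 3) ∧
      Monoid.exponent P = 4 := by
  obtain ⟨hfin, hp, κ, htr, hreg⟩ := exists_invTrans_reg hP
  haveI := hfin
  have hne : ∃ x y : P, x * y ≠ y * x := hP.2.2.1
  have hsq := sq_mem_center hp htr hreg hne
  have hZ2 := center_mul_self hp htr hne
  refine ⟨hsq, fun x y => ?_, card_eq hp htr hreg hne ?_, ?_⟩
  · rw [show x⁻¹ * y⁻¹ * x * y = (x * x)⁻¹ * ((x * y⁻¹) * (x * y⁻¹)) * (y * y) by group]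
    exact mul_mem (mul_mem (inv_mem (hsq x)) (hsq _)) (hsq y)
  · intro l hl
    obtain ⟨m, -, hm1, hκm, hfree⟩ := hreg
    obtain ⟨-, -, -, ⟨t, -, -, ht1, ht2, -, -⟩, -⟩ := hP
    have htZ : t ∈ Subgroup.center P := invol_central hp htr ht2
    have hd : m ∣ l := hfree l t ht1 (by rw [hl]; rfl)
    have hcard : Nat.card {z : Subgroup.center P // z ≠ 1} = m := by
      rw [← Nat.card_fin m]
      symm
      refine Nat.card_eq_of_bijective (fun j : Fin m => ⟨⟨(κ ^ (j : ℕ)) t, (inv_center κ).pow _ htZ⟩,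
        fun e => ht1 (by simpa using congrArg Subtype.val e)⟩) ⟨fun i j e => ?_, fun z => ?_⟩
      · have e' : (κ ^ (i : ℕ)) t = (κ ^ (j : ℕ)) t := congrArg Subtype.val (congrArg Subtype.val e)
        have key : ∀ a b : ℕ, a ≤ b → b < m → (κ ^ a) t = (κ ^ b) t → a = b := by
          intro a b hab hb h
          have h1 : (κ ^ (b - a)) t = t := by
            apply (κ ^ a).injective
            rw [← MulAut.mul_apply, ← pow_add, Nat.add_sub_cancel' hab, h]
          have := Nat.eq_zero_of_dvd_of_lt (hfree _ t ht1 h1) (by omega)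
          omega
        apply Fin.ext
        rcases le_total (i : ℕ) j with h | h
        · exact key i j h j.2 e'
        · exact (key j i h i.2 e'.symm).symm
      · obtain ⟨⟨z, hz⟩, hz1⟩ := z
        obtain ⟨j, hj⟩ := htr t z ht1 ht2 (fun e => hz1 (Subtype.ext e)) (hZ2 z hz)
        refine ⟨⟨j % m, Nat.mod_lt _ (by omega)⟩, Subtype.ext (Subtype.ext ?_)⟩
        change (κ ^ (j % m)) t = z
        rw [← hj, ← pow_eq_pow_mod j hκm]
    classical
    haveI : Fintype (Subgroup.center P) := Fintype.ofFinite _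
    rw [Nat.card_eq_fintype_card, Fintype.card_subtype_compl, Fintype.card_subtype_eq] at hcard
    rw [Nat.card_eq_fintype_card, hcard]
    exact hd
  · have h4 : Monoid.exponent P ∣ 2 ^ 2 := Monoid.exponent_dvd_of_forall_pow_eq_one fun x => by
      rw [pow_two 2, pow_mul, pow_two, pow_two]
      exact hZ2 _ (hsq x)
    obtain ⟨i, hi, he⟩ := (Nat.dvd_prime_pow Nat.prime_two).mp h4
    rcases (show i ≤ 1 ∨ i = 2 by omega) with h | rfl
    · exfalso
      have h2 : ∀ x : P, x * x = 1 := fun x => by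
        rw [← pow_two]
        exact orderOf_dvd_iff_pow_eq_one.mp ((Monoid.order_dvd_exponent x).trans
          (he ▸ (pow_dvd_pow 2 h).trans (by norm_num)))
      obtain ⟨x, y, hxy⟩ := hne
      exact hxy (Subgroup.mem_center_iff.mp (invol_central hp htr (h2 y)) x)
    · rw [he]; norm_num

end Cfsg.Agent.S1138
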