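import Cfsg.Statements.S1140
import Mathlib.FieldTheory.Fixed
import Mathlib.FieldTheory.Galois.Basic
import Mathlib.FieldTheory.Finite.GaloisField
import Mathlib.Algebra.Module.ZMod

set_option autoImplicit false
open Cfsg

namespace Cfsg.Agent.S1140

open Module

variable {F : Type*} [Field F] [Fintype F] [CharP F 2]

noncomputable instance autFintype : Fintype (F ≃+* F) :=
  haveI : Finite (F ≃+* F) := Finite.of_injective (fun σ : F ≃+* F => (σ : F → F)) DFunLike.coe_injective
  Fintype.ofFinite _

theorem linearIndependent_auts :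
    LinearIndependent F (fun σ : F ≃+* F => ((σ : F →+* F) : F → F)) := by
  exact (linearIndependent_monoidHom F F).comp (fun σ : F ≃+* F => ((σ : F →+* F) : F →* F))
    fun σ τ h => RingEquiv.ext fun x => DFunLike.congr_fun h x

theorem exists_coeffs :
    ∃ Φ : (F →+ F) →+ ((F ≃+* F) → F),
      ∀ f : F →+ F, ∀ x : F, f x = ∑ σ : F ≃+* F, Φ f σ * σ x := by
  letI : Algebra (ZMod 2) F := ZMod.algebra F 2
  haveI : Fact (Nat.Prime 2) := ⟨Nat.prime_two⟩
  let e : (F ≃+* F) ≃ (F ≃ₐ[ZMod 2] F) :=
    { toFun := fun σ => AlgEquiv.ofRingEquiv (f := σ) fun c =>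
        RingHom.congr_fun (Subsingleton.elim (σ.toRingHom.comp (algebraMap (ZMod 2) F))
          (algebraMap (ZMod 2) F)) c
      invFun := fun σ => σ.toRingEquiv
      left_inv := fun σ => by ext; rfl
      right_inv := fun σ => by ext; rfl }
  let v : (F ≃+* F) → (F →ₗ[ZMod 2] F) := fun σ => (e σ).toAlgHom.toLinearMap
  have hv : LinearIndependent F v :=
    (linearIndependent_toLinearMap (ZMod 2) F F).comp (fun σ : F ≃+* F => (e σ).toAlgHom)
      fun σ τ h => RingEquiv.ext fun x => DFunLike.congr_fun h x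
  have hcard : Fintype.card (F ≃+* F) = finrank F (F →ₗ[ZMod 2] F) := by
    rw [finrank_linearMap_self (ZMod 2) F F, ← IsGalois.card_aut_eq_finrank,
      ← Nat.card_eq_fintype_card]
    exact Nat.card_congr e
  let b := basisOfLinearIndependentOfCardEqFinrank hv hcard
  let L : (F →+ F) →+ (F →ₗ[ZMod 2] F) :=
    { toFun := fun f => f.toZModLinearMap 2
      map_zero' := rfl
      map_add' := fun _ _ => rfl }
  refine ⟨b.equivFun.toLinearMap.toAddMonoidHom.comp L, fun f x => ?_⟩
  have h := congrArg (fun g : F →ₗ[ZMod 2] F => g x) (b.sum_equivFun (L f))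
  simp only [LinearMap.coe_sum, Finset.sum_apply, LinearMap.smul_apply, smul_eq_mul] at h
  refine h.symm.trans (Finset.sum_congr rfl fun σ _ => ?_)
  rw [coe_basisOfLinearIndependentOfCardEqFinrank]
  rfl


/-- For a finite field `F` of characteristic 2, the automorphisms of `F`, viewed as additive maps `F → F`, are linearly independent over `F` (acting on values) every additive endomorphism of `F` is an `F`-linear combination of them, and every biadditive map `F → F → F` is an `F`-combination of the maps `(x, y) ↦ σ(x) τ(y)`. -/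
theorem result {F : Type*} [Field F] [Fintype F] [CharP F 2] :
    LinearIndependent F (fun σ : F ≃+* F => ((σ : F →+* F) : F → F)) ∧
      (∀ f : F →+ F, ∃ (s : Finset (F ≃+* F)) (c : (F ≃+* F) → F), ∀ x : F, f x = ∑ σ ∈ s, c σ * σ x) ∧
      ∀ B : F →+ F →+ F, ∃ (s : Finset ((F ≃+* F) × (F ≃+* F))) (c : (F ≃+* F) × (F ≃+* F) → F),
        ∀ x y : F, B x y = ∑ p ∈ s, c p * (p.1 x * p.2 y) := by
  obtain ⟨Φ, hΦ⟩ := exists_coeffs (F := F)
  refine ⟨linearIndependent_auts, fun f => ⟨Finset.univ, Φ f, hΦ f⟩, fun B => ?_⟩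
  classical
  let c : (F ≃+* F) → (F →+ F) := fun σ =>
    { toFun := fun x => Φ (B x) σ
      map_zero' := by simp
      map_add' := fun x y => by simp }
  refine ⟨Finset.univ, fun p => Φ (c p.2) p.1, fun x y => ?_⟩
  rw [hΦ (B x) y, Fintype.sum_prod_type_right]
  refine Finset.sum_congr rfl fun τ _ => ?_
  rw [show Φ (B x) τ = c τ x from rfl, hΦ (c τ) x, Finset.sum_mul]
  exact Finset.sum_congr rfl fun σ _ => mul_assoc _ _ _

end Cfsg.Agent.S1140
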