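import Cfsg.Statements.S1142
import Cfsg.Agent.Lib.FeitHigman.Spherical
import Cfsg.Agent.Lib.FeitHigman.Graph

set_option autoImplicit false
open Cfsg

namespace Cfsg.Agent.S1142

open Cfsg.Agent.Lib.BNPair Cfsg.Agent.Lib.BNPair.ExchangeData Cfsg.Agent.Lib.FeitHigman Matrix Real

variable {G : Type*} [Group G] [Finite G] (P : Cfsg.BNPair G)
  [hN : ((P.B ⊓ P.N).subgroupOf P.N).Normal]


/-- the Hecke operator of a generator -/
noncomputable abbrev A (s : P.S) : Matrix (G ⧸ P.B) (G ⧸ P.B) ℝ := hecke P (s : G)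

theorem word_eq (s t : P.S) : ∀ j : ℕ,
    heckeWord P (alt t s (2 * j + 1)) = word (A P s) (A P t) j := by
  intro j
  induction j with
  | zero => simp [heckeWord, alt, word]
  | succ j ih =>
    rw [show 2 * (j + 1) + 1 = 2 * j + 1 + 1 + 1 by ring, alt, alt]
    have : word (A P s) (A P t) (j + 1) = A P t * (A P s * word (A P s) (A P t) j) := by
      simp only [word, pow_succ', mul_assoc]
    rw [this, ← ih]
    simp [heckeWord]

theorem word_mul (s t : P.S) : ∀ j : ℕ,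
    heckeWord P (alt t s (2 * j + 2)) = word (A P s) (A P t) j * A P s := by
  intro j
  induction j with
  | zero => simp [heckeWord, alt, word]
  | succ j ih =>
    rw [show 2 * (j + 1) + 2 = 2 * j + 2 + 1 + 1 by ring, alt, alt]
    have : word (A P s) (A P t) (j + 1) * A P s =
        A P t * (A P s * (word (A P s) (A P t) j * A P s)) := by
      simp only [word, pow_succ', mul_assoc]
    rw [this, ← ih]
    simp [heckeWord]

theorem mul_word (s t : P.S) (j : ℕ) :
    heckeWord P (alt s t (2 * j + 2)) = A P s * word (A P s) (A P t) j := by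
  rw [← word_eq P s t j, show 2 * j + 2 = 2 * j + 1 + 1 by ring, alt]
  simp [heckeWord]

theorem mul_word_mul (s t : P.S) (j : ℕ) :
    heckeWord P (alt s t (2 * j + 3)) = A P s * word (A P s) (A P t) j * A P s := by
  rw [mul_assoc, ← word_mul P s t j, show 2 * j + 3 = 2 * j + 2 + 1 by ring, alt]
  simp [heckeWord]

variable {P}
variable {s t : P.S}

theorem rot_swap_order : orderOf (rot (exchangeData P) t s) = orderOf (rot (exchangeData P) s t) := by
  rw [rot_swap, orderOf_inv]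

theorem trace_word (hst : s ≠ t) (htwo : ∀ x, x = s ∨ x = t) {d : ℕ}
    (hd : 2 * d ≤ orderOf (rot (exchangeData P) s t)) (j : ℕ) (hj : j + 1 ≤ d) :
    Matrix.traceLinearMap (G ⧸ P.B) ℝ ℝ (word (A P s) (A P t) j) = 0 ∧
      Matrix.traceLinearMap (G ⧸ P.B) ℝ ℝ (A P s * word (A P s) (A P t) j) = 0 := by
  rw [← mul_word, ← word_eq, Matrix.traceLinearMap_apply, Matrix.traceLinearMap_apply]
  refine ⟨trace_heckeWord P (red_alt _ hst.symm (fun x => (htwo x).symm) ?_) ?_,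
    trace_heckeWord P (red_alt _ hst htwo (by omega)) ?_⟩
  · rw [rot_swap_order]; omega
  · simp [alt]
  · simp [alt]

theorem braid (hst : s ≠ t) (htwo : ∀ x, x = s ∨ x = t) {m : ℕ}
    (hm : orderOf (rot (exchangeData P) s t) = m) :
    heckeWord P (alt t s m) = heckeWord P (alt s t m) := by
  refine heckeWord_congr P (red_alt _ hst.symm (fun x => (htwo x).symm) ?_)
    (red_alt _ hst htwo hm.ge) (((exchangeData P).pw_alt_eq_iff t s m).2 ?_)
  · rw [rot_swap_order, hm]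
  · show rot (exchangeData P) t s ^ m = 1
    rw [← hm, ← rot_swap_order, pow_orderOf_eq_one]

theorem one_lt_valency (s : P.S) : (1 : ℝ) < (valency P (s : G) : ℝ) := by
  exact_mod_cast (two_le_valency P s.2)

/-- the parameters of an angle -/
noncomputable def params (s t : P.S) (θ : ℝ) (hs : sin θ ≠ 0) : Params :=
  ⟨valency P (s : G), valency P (t : G), θ, one_lt_valency s, one_lt_valency t, hs⟩

theorem trace_one_eq : Matrix.traceLinearMap (G ⧸ P.B) ℝ ℝ 1 = (Nat.card (G ⧸ P.B) : ℝ) := by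
  rw [Matrix.traceLinearMap_apply, Matrix.trace_one, Nat.card_eq_fintype_card]

theorem trace_gen (s : P.S) : Matrix.traceLinearMap (G ⧸ P.B) ℝ ℝ (A P s) = 0 :=
  trace_hecke P (s_not_mem P s.2)

theorem cos_rational_of_eq {θ : ℝ} {κ : ℚ} (hs : sin θ ≠ 0) (h : sin θ ^ 2 = κ) :
    ∃ q : ℚ, cos (2 * θ) = q := ⟨1 - 2 * κ, by
  push_cast
  rw [cos_two_mul, ← h, sin_sq]; ring⟩

theorem even_case (P : Cfsg.BNPair G) [((P.B ⊓ P.N).subgroupOf P.N).Normal] {s t : P.S}
    (hst : s ≠ t) (htwo : ∀ x, x = s ∨ x = t) {D : ℕ}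
    (hd3 : 3 ≤ D + 2) (hm : orderOf (rot (exchangeData P) s t) = 2 * (D + 2)) : D + 2 = 3 ∨ D + 2 = 4 := by
  by_contra hne
  have hpi := Real.pi_pos
  have hd2 : (2 : ℝ) ≤ (D + 2 : ℕ) := by exact_mod_cast (by omega : 2 ≤ D + 2)
  have htr := trace_word hst htwo (d := D + 2) hm.ge
  have hX : word (A P s) (A P t) (D + 1) * A P s = A P s * word (A P s) (A P t) (D + 1) := by
    rw [← word_mul, ← mul_word, show 2 * (D + 1) + 2 = 2 * (D + 2) by ring]
    exact braid hst htwo hm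
  have hrat : ∀ (i : ℕ), 0 < i → i < D + 2 → ∃ κ : ℚ,
      ((valency P (s : G) : ℝ) - 1) ^ 2 / valency P (s : G) +
      ((valency P (t : G) : ℝ) - 1) ^ 2 / valency P (t : G) +
      2 * ((valency P (s : G) : ℝ) - 1) * ((valency P (t : G) : ℝ) - 1) *
        cos (i * π / (D + 2 : ℕ)) / Real.sqrt (valency P (s : G) * valency P (t : G)) =
      (κ : ℝ) * sin (i * π / (D + 2 : ℕ)) ^ 2 := by
    intro i hi0 hi
    have hi0' : (0 : ℝ) < i := by exact_mod_cast hi0
    have hi' : (i : ℝ) < (D + 2 : ℕ) := by exact_mod_cast hi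
    have hs : sin (i * π / (D + 2 : ℕ)) ≠ 0 := by
      refine (sin_pos_of_pos_of_lt_pi (by positivity) ?_).ne'
      rw [div_lt_iff₀ (by linarith)]
      nlinarith
    have hθ : sin ((D + 2 : ℕ) * (i * π / (D + 2 : ℕ))) = 0 := by
      rw [mul_div_cancel₀ _ (by linarith : ((D + 2 : ℕ) : ℝ) ≠ 0)]
      exact sin_nat_mul_pi i
    exact (params s t _ hs).rational_even (S := A P s) (T := A P t) (hecke_sq P s.2) (hecke_sq P t.2)
      _ Matrix.trace_mul_comm trace_one_eq Nat.card_pos.ne' (trace_gen s)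
      (fun E hE => exists_trace_eq_natCast hE) htr hX hθ
  generalize ha : (valency P (s : G) : ℝ) = a at hrat
  generalize hb : (valency P (t : G) : ℝ) = b at hrat
  have ha1 : 1 < a := ha ▸ one_lt_valency s
  have hb1 : 1 < b := hb ▸ one_lt_valency t
  generalize hA : (a - 1) ^ 2 / a + (b - 1) ^ 2 / b = Av at hrat
  have hA0 : 0 < Av := by
    rw [← hA]
    have : 0 < (a - 1) ^ 2 / a := div_pos (pow_pos (by linarith) 2) (by linarith)
    have : 0 ≤ (b - 1) ^ 2 / b := div_nonneg (sq_nonneg _) (by linarith)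
    linarith
  have hAq : ∃ q : ℚ, Av = q := ⟨((valency P (s : G) : ℚ) - 1) ^ 2 / valency P (s : G) +
    ((valency P (t : G) : ℚ) - 1) ^ 2 / valency P (t : G), by rw [← hA, ← ha, ← hb]; push_cast; ring⟩
  generalize hB : 2 * (a - 1) * (b - 1) = Bv at hrat
  have hB0 : 0 < Bv := by
    rw [← hB]; exact mul_pos (mul_pos two_pos (by linarith)) (by linarith)
  have hBq : ∃ q : ℚ, Bv = q := ⟨2 * ((valency P (s : G) : ℚ) - 1) *
    ((valency P (t : G) : ℚ) - 1), by rw [← hB, ← ha, ← hb]; push_cast; ring⟩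
  obtain ⟨qA, hqA⟩ := hAq
  obtain ⟨qB, hqB⟩ := hBq
  obtain ⟨κ, hκ⟩ := hrat 1 one_pos (by omega)
  obtain ⟨κ', hκ'⟩ := hrat (D + 1) (by omega) (by omega)
  have hθ' : ((D + 1 : ℕ) : ℝ) * π / (D + 2 : ℕ) = π - ((1 : ℕ) : ℝ) * π / (D + 2 : ℕ) := by
    push_cast
    field_simp
    ring
  rw [hθ', sin_pi_sub, cos_pi_sub] at hκ'
  generalize hθ : ((1 : ℕ) : ℝ) * π / (D + 2 : ℕ) = θ at hκ hκ'
  have hs0 : sin θ ≠ 0 := by
    rw [← hθ]
    refine (sin_pos_of_pos_of_lt_pi (by positivity) ?_).ne'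
    rw [div_lt_iff₀ (by linarith), Nat.cast_one, one_mul]
    nlinarith
  have hsum : 2 * Av = ((κ + κ' : ℚ) : ℝ) * sin θ ^ 2 := by
    push_cast; linear_combination hκ + hκ'
  have hk : ((κ + κ' : ℚ) : ℝ) ≠ 0 := fun h => by rw [h, zero_mul] at hsum; linarith
  have hsq : sin θ ^ 2 = ((2 * qA / (κ + κ') : ℚ) : ℝ) := by
    push_cast at hsum hk ⊢
    rw [← hqA, eq_div_iff hk]
    linear_combination -hsum
  obtain ⟨q, hq⟩ := cos_rational_of_eq hs0 hsq
  have hform : (2 : ℝ) * θ = ((2 / (D + 2 : ℕ) : ℚ) : ℝ) * π := by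
    rw [← hθ]; push_cast; ring
  have hnv := niven_angle_div_pi_eq (r := (2 / (D + 2 : ℕ) : ℚ)) ⟨q, by rw [← hform]; exact hq⟩ ?_
  swap
  · constructor
    · positivity
    · rw [div_le_one (by positivity)]; exact_mod_cast (by omega : 2 ≤ D + 2)
  have hd0 : ((D + 2 : ℕ) : ℚ) ≠ 0 := by exact_mod_cast (by omega : D + 2 ≠ 0)
  simp only [Set.mem_insert_iff, Set.mem_singleton_iff] at hnv
  rcases hnv with h | h | h | h | h
  · exact absurd h (div_ne_zero two_ne_zero hd0)
  · -- `d = 6`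
    rw [div_eq_div_iff hd0 (by norm_num), one_mul] at h
    have h6 : D + 2 = 6 := by exact_mod_cast (h.symm.trans (by norm_num) : ((D + 2 : ℕ) : ℚ) = 6)
    obtain ⟨κ2, hκ2⟩ := hrat 2 two_pos (by omega)
    have e1 : θ = π / 6 := by rw [← hθ, h6]; push_cast; ring
    have e2 : ((2 : ℕ) : ℝ) * π / ((D + 2 : ℕ) : ℝ) = π / 3 := by rw [h6]; push_cast; ring
    rw [e1, cos_pi_div_six, sin_pi_div_six] at hκ
    rw [e2, cos_pi_div_three, sin_pi_div_three, div_pow, Real.sq_sqrt (by norm_num : (0 : ℝ) ≤ 3)] at hκ2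
    have hrr : Real.sqrt (a * b) ≠ 0 := (Real.sqrt_pos.mpr (mul_pos (by linarith) (by linarith))).ne'
    generalize Real.sqrt (a * b) = r at hκ hκ2 hrr
    -- `√3 = (κ/4 - A) / (3κ₂/4 - A)`
    have hv : ((κ2 : ℝ) * (3 / 2 ^ 2) - Av) = Bv / (2 * r) := by
      rw [← hκ2]; field_simp; ring
    have hu : ((κ : ℝ) * (1 / 2) ^ 2 - Av) = Real.sqrt 3 * (Bv / (2 * r)) := by
      rw [← hκ]; field_simp; ring
    have hv0 : Bv / (2 * r) ≠ 0 := div_ne_zero hB0.ne' (mul_ne_zero two_ne_zero hrr)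
    refine (Nat.Prime.irrational_sqrt Nat.prime_three)
      ⟨(κ * (1 / 2) ^ 2 - qA) / (κ2 * (3 / 2 ^ 2) - qA), ?_⟩
    push_cast
    rw [← hqA, hu, hv, mul_div_cancel_right₀ _ hv0]
  · rw [div_eq_div_iff hd0 (by norm_num), one_mul] at h
    have : D + 2 = 4 := by exact_mod_cast (h.symm.trans (by norm_num) : ((D + 2 : ℕ) : ℚ) = 4)
    exact hne (Or.inr this)
  · rw [div_eq_div_iff hd0 (by norm_num)] at h
    have h' : ((D + 2 : ℕ) : ℚ) = 3 := by linarith
    have : D + 2 = 3 := by exact_mod_cast h'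
    exact hne (Or.inl this)
  · rw [div_eq_one_iff_eq hd0] at h
    have : D + 2 = 2 := by exact_mod_cast h.symm
    omega

theorem odd_case (P : Cfsg.BNPair G) [((P.B ⊓ P.N).subgroupOf P.N).Normal] {s t : P.S}
    (hst : s ≠ t) (htwo : ∀ x, x = s ∨ x = t) {D : ℕ}
    (hm : orderOf (rot (exchangeData P) s t) = 2 * (D + 2) + 1) : False := by
  have hpi := Real.pi_pos
  have hm5 : (5 : ℝ) ≤ (2 * (D + 2) + 1 : ℕ) := by exact_mod_cast (by omega : 5 ≤ 2 * (D + 2) + 1)
  have htr := trace_word hst htwo (d := D + 2) (by omega)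
  have hX : word (A P s) (A P t) (D + 2) = A P s * word (A P s) (A P t) (D + 1) * A P s := by
    rw [← word_eq, ← mul_word_mul, show 2 * (D + 1) + 3 = 2 * (D + 2) + 1 by ring]
    exact braid hst htwo hm
  -- equal valencies
  have hrow : ∀ u v : P.S, ∀ j : ℕ, word (A P u) (A P v) j *ᵥ (fun _ => (1 : ℝ)) =
      ((valency P (v : G) : ℝ) ^ (j + 1) * (valency P (u : G) : ℝ) ^ j) • fun _ => (1 : ℝ) := by
    intro u v j
    induction j with
    | zero => simp [word, hecke_mulVec]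
    | succ j ih =>
      have e : word (A P u) (A P v) (j + 1) = A P v * (A P u * word (A P u) (A P v) j) := by
        simp only [word, pow_succ', mul_assoc]
      rw [e, ← Matrix.mulVec_mulVec, ← Matrix.mulVec_mulVec, ih, Matrix.mulVec_smul, hecke_mulVec,
        Matrix.mulVec_smul, Matrix.mulVec_smul, hecke_mulVec, smul_smul, smul_smul]
      congr 1; ring
  have hst' : (valency P (t : G) : ℝ) = valency P (s : G) := by
    have h := congrArg (fun M => M *ᵥ (fun _ : G ⧸ P.B => (1 : ℝ))) hX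
    simp only [← Matrix.mulVec_mulVec, hecke_mulVec, Matrix.mulVec_smul, hrow, smul_smul] at h
    have h' := congrFun h (QuotientGroup.mk 1)
    simp only [Pi.smul_apply, smul_eq_mul, mul_one] at h'
    have ha := one_lt_valency s
    have hb := one_lt_valency t
    generalize (valency P (s : G) : ℝ) = a at h' ha ⊢
    generalize (valency P (t : G) : ℝ) = b at h' hb ⊢
    have hne : b ^ (D + 2) * a ^ (D + 2) ≠ 0 :=
      mul_ne_zero (pow_ne_zero _ (by linarith)) (pow_ne_zero _ (by linarith))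
    refine mul_left_cancel₀ hne ?_
    linear_combination h'
  generalize hθ : 2 * π / ((2 * (D + 2) + 1 : ℕ) : ℝ) = θ
  have hs : sin θ ≠ 0 := by
    rw [← hθ]
    refine (sin_pos_of_pos_of_lt_pi (by positivity) ?_).ne'
    rw [div_lt_iff₀ (by linarith)]
    nlinarith
  have he : ((2 * (D + 2) + 1 : ℕ) : ℝ) * θ = 2 * π := by
    rw [← hθ, mul_div_cancel₀ _ (by linarith : ((2 * (D + 2) + 1 : ℕ) : ℝ) ≠ 0)]
  obtain ⟨κ, hκ⟩ := (params s t θ hs).rational_odd (S := A P s) (T := A P t) (hecke_sq P s.2)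
    (hecke_sq P t.2) _ Matrix.trace_mul_comm trace_one_eq Nat.card_pos.ne' (trace_gen s)
    (fun E hE => exists_trace_eq_natCast hE) hst' htr hX
    (by show sin (_ * θ) = 0; rw [he, sin_two_pi]) (by show cos (_ * θ) = 1; rw [he, cos_two_pi])
  change 2 * ((valency P (s : G) : ℝ) - 1) ^ 2 / valency P (s : G) * (1 + cos θ) =
    (κ : ℝ) * sin θ ^ 2 at hκ
  have ha := one_lt_valency s
  have hc1 : 1 + cos θ ≠ 0 := fun h => hs (by
    have := sin_sq_add_cos_sq θ
    have hc : cos θ = -1 := by linarith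
    rw [hc] at this
    nlinarith)
  have hk : (κ : ℝ) * (1 - cos θ) = 2 * ((valency P (s : G) : ℝ) - 1) ^ 2 / valency P (s : G) := by
    refine mul_right_cancel₀ hc1 ?_
    rw [sin_sq] at hκ
    linear_combination -hκ
  have hA0 : (0 : ℝ) < 2 * ((valency P (s : G) : ℝ) - 1) ^ 2 / valency P (s : G) :=
    div_pos (mul_pos two_pos (pow_pos (by linarith) 2)) (by linarith)
  have hκ0 : (κ : ℝ) ≠ 0 := fun h => by rw [h, zero_mul] at hk; linarith
  have hcos : ∃ q : ℚ, cos θ = q := by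
    refine ⟨1 - 2 * ((valency P (s : G) : ℚ) - 1) ^ 2 / valency P (s : G) / κ, ?_⟩
    push_cast
    rw [← hk, mul_div_cancel_left₀ _ hκ0]; ring
  have hform : θ = ((2 / (2 * (D + 2) + 1 : ℕ) : ℚ) : ℝ) * π := by
    rw [← hθ]; push_cast; ring
  obtain ⟨q, hq⟩ := hcos
  have hnv := niven_angle_div_pi_eq (r := (2 / (2 * (D + 2) + 1 : ℕ) : ℚ))
    ⟨q, by rw [← hform]; exact hq⟩ ?_
  swap
  · constructor
    · positivity
    · rw [div_le_one (by positivity)]; exact_mod_cast (by omega : 2 ≤ 2 * (D + 2) + 1)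
  have hd0 : ((2 * (D + 2) + 1 : ℕ) : ℚ) ≠ 0 := by exact_mod_cast (by omega : 2 * (D + 2) + 1 ≠ 0)
  simp only [Set.mem_insert_iff, Set.mem_singleton_iff] at hnv
  rcases hnv with h | h | h | h | h
  · exact absurd h (div_ne_zero two_ne_zero hd0)
  · rw [div_eq_div_iff hd0 (by norm_num), one_mul] at h
    have : (2 * (D + 2) + 1 : ℕ) = 2 * 3 := by exact_mod_cast h.symm
    omega
  · rw [div_eq_div_iff hd0 (by norm_num), one_mul] at h
    have : (2 * (D + 2) + 1 : ℕ) = 2 * 2 := by exact_mod_cast h.symm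
    omega
  · rw [div_eq_div_iff hd0 (by norm_num)] at h
    have : 2 * (2 * (D + 2) + 1 : ℕ) = 2 * 3 := by exact_mod_cast h.symm
    omega
  · rw [div_eq_one_iff_eq hd0] at h
    have : (2 * (D + 2) + 1 : ℕ) = 2 := by exact_mod_cast h.symm
    omega

/-- Feit–Higman: if a finite group has a (B,N)-pair of rank 2, its Weyl group `N/(B ⊓ N)` has order 4, 6, 8, 12 or 16. -/
theorem result {G : Type*} [Group G] [Finite G] (P : Cfsg.BNPair G)
    (h2 : P.rank = 2) :
    ((P.B ⊓ P.N).subgroupOf P.N).index ∈ ({4, 6, 8, 12, 16} : Set ℕ) := by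
  haveI hW : ((P.B ⊓ P.N).subgroupOf P.N).Normal := Cfsg.Agent.Lib.BNPair.weyl_normal P
  obtain ⟨s, t, hst, htwo⟩ : ∃ s t : P.S, s ≠ t ∧ ∀ x : P.S, x = s ∨ x = t := by
    obtain ⟨s, t, hst, he⟩ := Nat.card_eq_two_iff.mp (h2 : Nat.card P.S = 2)
    refine ⟨s, t, hst, fun x => ?_⟩
    have : x ∈ ({s, t} : Set P.S) := he ▸ Set.mem_univ x
    simpa using this
  generalize hm : orderOf (Cfsg.Agent.Lib.FeitHigman.rot (Cfsg.Agent.Lib.BNPair.exchangeData P) s t) = m
  have hidx : ((P.B ⊓ P.N).subgroupOf P.N).index = 2 * m := by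
    have h := (Subgroup.zpowers (Cfsg.Agent.Lib.FeitHigman.rot
      (Cfsg.Agent.Lib.BNPair.exchangeData P) s t)).card_mul_index
    rw [Cfsg.Agent.Lib.FeitHigman.index_zpowers_rot _ hst htwo, Nat.card_zpowers, hm] at h
    rw [Subgroup.index, mul_comm]
    exact h.symm
  have hm1 : 2 ≤ m := by
    have hfin : IsOfFinOrder (Cfsg.Agent.Lib.FeitHigman.rot
      (Cfsg.Agent.Lib.BNPair.exchangeData P) s t) := isOfFinOrder_of_finite _
    have h0 := hfin.orderOf_pos
    have h1 : m ≠ 1 := by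
      rintro rfl
      have h := orderOf_eq_one_iff.mp hm
      refine hst ((Cfsg.Agent.Lib.BNPair.exchangeData P).gen_inj ?_)
      rw [← inv_eq_of_mul_eq_one_right h, Cfsg.Agent.Lib.FeitHigman.inv_gen]
    omega
  rw [hidx]
  by_cases hsmall : m ≤ 4
  · interval_cases m <;> simp
  rcases Nat.even_or_odd' m with ⟨d, rfl | rfl⟩
  · obtain ⟨D, rfl⟩ : ∃ D, d = D + 2 := ⟨d - 2, by omega⟩
    rcases even_case P hst htwo (by omega) hm with h | h
    · simp [h]
    · simp [h]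
  · obtain ⟨D, rfl⟩ : ∃ D, d = D + 2 := ⟨d - 2, by omega⟩
    exact (odd_case P hst htwo hm).elim

end Cfsg.Agent.S1142
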