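import Cfsg.Statements.S1151
import Cfsg.Agent.Lib.RankOne.ReeBasic

set_option autoImplicit false
open Cfsg

namespace Cfsg.Agent.S1151

open Cfsg.Lie Cfsg.Agent.Lib.Chev Cfsg.Agent.Lib.Chev.Tw Cfsg.Agent.Lib.Chev.Tw.G2 Cfsg.Agent.Lib.RankOne.Ree


/-- In the small Ree group ²G₂(q), q = 3^(2m+1), realised as G¹ inside the Chevalley group G₂ over the field with q elements (θ the 3^m-th power map), with H¹ = G¹ ∩ H and U¹ = G¹ ∩ U the intersections with the ambient diagonal and positive unipotent subgroups: `H¹` has exactly `(q - 1)/2` elements of odd order, and each non-identity one centralises no non-identity element of `U¹`. -/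
theorem result {K : Type*} [Field K] [Fintype K] {m : ℕ} (hK : Fintype.card K = 3 ^ (2 * m + 1)) :
    2 * Nat.card {h : ↥(Cfsg.Lie.chevG2.diagonalSubgroup K ⊓ Cfsg.Lie.twistedG2 K (3 ^ m)) // Odd (orderOf h)} = 3 ^ (2 * m + 1) - 1 ∧
      ∀ h ∈ (Cfsg.Lie.chevG2.diagonalSubgroup K ⊓ Cfsg.Lie.twistedG2 K (3 ^ m)), h ≠ 1 → Odd (orderOf h) →
        (Cfsg.Lie.chevG2.posUnipotent K ⊓ Cfsg.Lie.twistedG2 K (3 ^ m)) ⊓ Subgroup.centralizer {h} = ⊥ := by
  obtain ⟨A⟩ := Lib.Chev.Tw.G2.exists_par (K := K) hK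
  set q := 3 ^ (2 * m + 1) with hq
  have hmod : q % 4 = 3 := by
    rw [hq, pow_succ, pow_mul, Nat.mul_mod, Nat.pow_mod]; norm_num
  set r := (q - 1) / 2 with hr
  have hrodd : Odd r := Nat.odd_iff.2 (by omega)
  have hc : Nat.card Kˣ = 2 * r := by
    rw [Nat.card_units, Nat.card_eq_fintype_card, hK]; omega
  set e : Kˣ ≃* ↥(chevG2.diagonalSubgroup K ⊓ twistedG2 K (3 ^ m)) :=
    (MonoidHom.ofInjective (torT_injective A)).trans (MulEquiv.subgroupCongr (torT_range A)) with he
  have hodd : ∀ t : Kˣ, Odd (orderOf (e t)) ↔ t ^ r = 1 := by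
    intro t
    rw [e.orderOf_eq]
    constructor
    · intro ho
      refine orderOf_dvd_iff_pow_eq_one.1 ?_
      have h : orderOf t ∣ 2 * r := hc ▸ orderOf_dvd_natCard t
      exact (Nat.Coprime.dvd_mul_left ((Nat.coprime_two_right).2 ho)).1 h
    · intro h
      exact hrodd.of_dvd_nat (orderOf_dvd_of_pow_eq_one h)
  refine ⟨?_, ?_⟩
  · rw [← Nat.card_congr (e.toEquiv.subtypeEquiv (p := fun t : Kˣ => t ^ r = 1) fun t => (hodd t).symm)]
    have : Nat.card {t : Kˣ // t ^ r = 1} = Nat.card ↥(powMonoidHom r : Kˣ →* Kˣ).ker :=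
      Nat.card_congr (Equiv.subtypeEquivRight fun t => by rw [MonoidHom.mem_ker, powMonoidHom_apply])
    rw [this, IsCyclic.card_powMonoidHom_ker, hc, Nat.gcd_mul_left_left]
    omega
  · intro h hh h1 ho
    rw [eq_bot_iff]
    rintro g ⟨hg, hcg⟩
    obtain ⟨t, ht⟩ := e.surjective ⟨h, hh⟩
    have hth : torT A t = h := congrArg Subtype.val ht
    have ho' : Odd (orderOf t) := by
      rw [← orderOf_injective _ (torT_injective A) t, hth]; exact ho
    have htt : t * t ≠ 1 := by
      intro e2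
      apply h1
      have hd : orderOf t ∣ 2 := orderOf_dvd_of_pow_eq_one (by rw [pow_two, e2])
      have : orderOf t = 1 := by
        rcases (Nat.dvd_prime Nat.prime_two).1 hd with e | e
        · exact e
        · exact absurd ho' (by rw [e]; decide)
      rw [← hth, orderOf_eq_one_iff.1 this, map_one]
    obtain ⟨x, u, v, rfl⟩ := (pos_iff A g).1 hg
    have hfix : torT A t * W A x u v * (torT A t)⁻¹ = W A x u v := by
      rw [hth, ← Subgroup.mem_centralizer_singleton_iff.1 hcg, mul_inv_cancel_right]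
    obtain ⟨rfl, rfl, rfl⟩ := eq_zero_of_fixed A hfix htt
    exact Subgroup.mem_bot.2 (W_zero A)

end Cfsg.Agent.S1151
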