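import Cfsg.Statements.S1153
import Cfsg.Agent.Lib.RankOne.ReeBasic

set_option autoImplicit false
open Cfsg

namespace Cfsg.Agent.S1153

open Cfsg.Lie Cfsg.Agent.Lib.Chev Cfsg.Agent.Lib.Chev.Tw Cfsg.Agent.Lib.Chev.Tw.G2 Cfsg.Agent.Lib.RankOne.Ree

section
variable {G α : Type*} [Group G] [MulAction G α]

theorem card_stab3 (g : G) (x y z : α) :
    Nat.card ↥(MulAction.stabilizer G (g • x) ⊓ MulAction.stabilizer G (g • y) ⊓ MulAction.stabilizer G (g • z)) =
    Nat.card ↥(MulAction.stabilizer G x ⊓ MulAction.stabilizer G y ⊓ MulAction.stabilizer G z) := by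
  have hi : Function.Injective (MulAut.conj g).toMonoidHom := (MulAut.conj g).injective
  simp only [MulAction.stabilizer_smul_eq_stabilizer_map_conj, ← Subgroup.map_inf _ _ _ hi]
  exact Subgroup.card_map_of_injective hi

end

section
variable {K : Type*} [Field K] [Fintype K] {m : ℕ}

set_option quotPrecheck false in
local notation "B₀" => (chevG2.borelSubgroup K ⊓ twistedG2 K (3 ^ m)).subgroupOf (twistedG2 K (3 ^ m))

/-- `n` inside the group -/
def nG (A : Par K m) : ↥(twistedG2 K (3 ^ m)) := ⟨(sys A).G.nl K (twG2.blk 0), n_mem A⟩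

variable (A : Par K m)
include A

/-- membership in the stabilisers of the standard points -/
theorem stab_std (w : ↥(twistedG2 K (3 ^ m))) (hw : (w : GL chevG2.Idx K) ∈ chevG2.posUnipotent K ⊓ twistedG2 K (3 ^ m))
    (h : ↥(twistedG2 K (3 ^ m))) :
    h ∈ MulAction.stabilizer ↥(twistedG2 K (3 ^ m)) ((1 : ↥(twistedG2 K (3 ^ m))) : _ ⧸ B₀) ⊓
      MulAction.stabilizer ↥(twistedG2 K (3 ^ m)) ((nG A : _) : _ ⧸ B₀) ⊓
      MulAction.stabilizer ↥(twistedG2 K (3 ^ m)) ((w * nG A : _) : _ ⧸ B₀) ↔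
    ∃ t : Kˣ, (h : GL chevG2.Idx K) = torT A t ∧ torT A t * w * (torT A t)⁻¹ = w := by
  set n := (sys A).G.nl K (twG2.blk 0)
  have hs : ∀ a : ↥(twistedG2 K (3 ^ m)), h ∈ MulAction.stabilizer ↥(twistedG2 K (3 ^ m)) ((a : _) : _ ⧸ B₀) ↔
      (a : GL chevG2.Idx K)⁻¹ * h * a ∈ chevG2.borelSubgroup K ⊓ twistedG2 K (3 ^ m) := by
    intro a
    rw [MulAction.mem_stabilizer_iff, MulAction.Quotient.smul_coe, smul_eq_mul, eq_comm, QuotientGroup.eq,
      Subgroup.mem_subgroupOf, mul_assoc]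
    rfl
  rw [Subgroup.mem_inf, Subgroup.mem_inf, hs, hs, hs, Subgroup.coe_mul, OneMemClass.coe_one, inv_one, one_mul, mul_one]
  constructor
  · rintro ⟨⟨h1, h2⟩, h3⟩
    have hd := B_inf_conj A h1 h2
    obtain ⟨t, ht⟩ := (torT_range A).ge hd
    refine ⟨t, ht.symm, ?_⟩
    rw [ht]
    set d := (h : GL chevG2.Idx K)
    have h4 : n⁻¹ * ((w : GL chevG2.Idx K)⁻¹ * (d * w * d⁻¹)) * n ∈ chevG2.borelSubgroup K ⊓ twistedG2 K (3 ^ m) := by
      have := Subgroup.mul_mem _ h3 (Subgroup.inv_mem _ h2)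
      refine Eq.subst (motive := (· ∈ chevG2.borelSubgroup K ⊓ twistedG2 K (3 ^ m))) ?_ this
      show ((w : GL chevG2.Idx K) * n)⁻¹ * d * (w * n) * (n⁻¹ * d * n)⁻¹ = _
      group
    have hu : (w : GL chevG2.Idx K)⁻¹ * (d * w * d⁻¹) ∈ chevG2.posUnipotent K ⊓ twistedG2 K (3 ^ m) :=
      Subgroup.mul_mem _ (Subgroup.inv_mem _ hw) (conj_B_U A h1 hw)
    exact (inv_mul_eq_one.1 (eq_one_of_conj_mem A hu h4)).symm
  · rintro ⟨t, ht, hc⟩
    rw [ht]
    have hd := torT_mem A t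
    have h2 := H_le_B A (conj_n_diag A hd).2
    refine ⟨⟨H_le_B A hd, h2⟩, ?_⟩
    refine Eq.subst (motive := (· ∈ chevG2.borelSubgroup K ⊓ twistedG2 K (3 ^ m))) ?_ h2
    have hc' : torT A t = (w : GL chevG2.Idx K)⁻¹ * torT A t * w := by
      rw [mul_assoc, mul_inv_eq_iff_eq_mul.1 hc, inv_mul_cancel_left]
    show n⁻¹ * torT A t * n = ((w : GL chevG2.Idx K) * n)⁻¹ * torT A t * (w * n)
    conv_lhs => rw [hc']
    group

end


set_option maxHeartbeats 1000000 in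
/-- In the small Ree group ²G₂(q), q = 3^(2m+1), realised as G¹ inside the Chevalley group G₂ over the field with q elements, with `B¹ = G¹ ∩ B`: in the action of `G¹` on the cosets of `B¹`, the joint stabiliser of any three distinct cosets has order at most 2, and for some three distinct cosets it has order exactly 2. -/
theorem result {K : Type*} [Field K] [Fintype K] {m : ℕ} (hK : Fintype.card K = 3 ^ (2 * m + 1)) :
    (∀ x y z : ↥(Cfsg.Lie.twistedG2 K (3 ^ m)) ⧸ ((Cfsg.Lie.chevG2.borelSubgroup K ⊓ Cfsg.Lie.twistedG2 K (3 ^ m))).subgroupOf (Cfsg.Lie.twistedG2 K (3 ^ m)), x ≠ y → x ≠ z → y ≠ z →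
        Nat.card ↥(MulAction.stabilizer ↥(Cfsg.Lie.twistedG2 K (3 ^ m)) x ⊓ MulAction.stabilizer ↥(Cfsg.Lie.twistedG2 K (3 ^ m)) y ⊓ MulAction.stabilizer ↥(Cfsg.Lie.twistedG2 K (3 ^ m)) z) ≤ 2) ∧
      ∃ x y z : ↥(Cfsg.Lie.twistedG2 K (3 ^ m)) ⧸ ((Cfsg.Lie.chevG2.borelSubgroup K ⊓ Cfsg.Lie.twistedG2 K (3 ^ m))).subgroupOf (Cfsg.Lie.twistedG2 K (3 ^ m)), x ≠ y ∧ x ≠ z ∧ y ≠ z ∧
        Nat.card ↥(MulAction.stabilizer ↥(Cfsg.Lie.twistedG2 K (3 ^ m)) x ⊓ MulAction.stabilizer ↥(Cfsg.Lie.twistedG2 K (3 ^ m)) y ⊓ MulAction.stabilizer ↥(Cfsg.Lie.twistedG2 K (3 ^ m)) z) = 2 := by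
  obtain ⟨A⟩ := Lib.Chev.Tw.G2.exists_par (K := K) hK
  set G := twistedG2 K (3 ^ m) with hG
  set B := (chevG2.borelSubgroup K ⊓ twistedG2 K (3 ^ m)).subgroupOf (twistedG2 K (3 ^ m)) with hB
  have h2 : (2 : K) ≠ 0 := fun e => one_ne_zero (by linear_combination A.h3 - e)
  have hne : torT A (-1) ≠ 1 := by
    intro e
    have := torT_injective A (e.trans (map_one _).symm)
    refine h2 ?_
    have h1 := congrArg Units.val this
    rw [Units.val_neg, Units.val_one] at h1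
    linear_combination -h1
  constructor
  · intro x y z hxy hxz hyz
    obtain ⟨a, rfl⟩ := QuotientGroup.mk_surjective x
    obtain ⟨b, rfl⟩ := QuotientGroup.mk_surjective y
    obtain ⟨c, rfl⟩ := QuotientGroup.mk_surjective z
    have hb : ((a⁻¹ * b : ↥G) : GL chevG2.Idx K) ∉ chevG2.borelSubgroup K ⊓ twistedG2 K (3 ^ m) :=
      fun h => hxy (QuotientGroup.eq.2 h)
    obtain ⟨u, hu, β, hβ, he⟩ := (bruhat A (a⁻¹ * b).2).resolve_left hb
    set g : ↥G := (a * ⟨u, hu.2⟩)⁻¹ with hg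
    have e1 : g • ((a : ↥G) : ↥G ⧸ B) = ((1 : ↥G) : ↥G ⧸ B) := by
      rw [MulAction.Quotient.smul_coe, smul_eq_mul, QuotientGroup.eq, mul_one, hg]
      show ((((a * ⟨u, hu.2⟩)⁻¹ * a)⁻¹ : ↥G) : GL chevG2.Idx K) ∈ chevG2.borelSubgroup K ⊓ twistedG2 K (3 ^ m)
      simpa [mul_assoc, G1] using U_le_B A hu
    have e2 : g • ((b : ↥G) : ↥G ⧸ B) = ((nG A : ↥G) : ↥G ⧸ B) := by
      rw [MulAction.Quotient.smul_coe, smul_eq_mul, QuotientGroup.eq, hg]
      refine Eq.subst (motive := (· ∈ chevG2.borelSubgroup K ⊓ twistedG2 K (3 ^ m))) ?_ (Subgroup.inv_mem _ hβ)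
      show β⁻¹ = (((a : GL chevG2.Idx K) * u)⁻¹ * b)⁻¹ * (sys A).G.nl K (twG2.blk 0)
      rw [Subgroup.coe_mul, InvMemClass.coe_inv] at he
      rw [inv_mul_eq_iff_eq_mul.1 he]
      group
    rw [← card_stab3 g, e1, e2]
    obtain ⟨c', hc'⟩ := QuotientGroup.mk_surjective (g • ((c : ↥G) : ↥G ⧸ B))
    have hc1 : (c' : GL chevG2.Idx K) ∉ chevG2.borelSubgroup K ⊓ twistedG2 K (3 ^ m) := fun h =>
      hxz (smul_left_cancel g (by rw [e1, ← hc', QuotientGroup.eq, inv_one, one_mul]; exact h))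
    obtain ⟨w, hw, γ, hγ, he3⟩ := (bruhat A c'.2).resolve_left hc1
    have e3 : g • ((c : ↥G) : ↥G ⧸ B) = ((⟨w, hw.2⟩ * nG A : ↥G) : ↥G ⧸ B) := by
      rw [← hc', QuotientGroup.eq]
      refine Eq.subst (motive := (· ∈ chevG2.borelSubgroup K ⊓ twistedG2 K (3 ^ m))) ?_ (Subgroup.inv_mem _ hγ)
      show γ⁻¹ = (c' : GL chevG2.Idx K)⁻¹ * (w * (sys A).G.nl K (twG2.blk 0))
      rw [he3]; group
    rw [e3]
    have hw1 : w ≠ 1 := by
      intro e
      refine hyz (smul_left_cancel g ?_)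
      rw [e2, e3]
      congr 1
      exact Subtype.ext (by show _ = w * _; rw [e, one_mul])
    set S := MulAction.stabilizer ↥G ((1 : ↥G) : ↥G ⧸ B) ⊓ MulAction.stabilizer ↥G ((nG A : ↥G) : ↥G ⧸ B) ⊓
      MulAction.stabilizer ↥G ((⟨w, hw.2⟩ * nG A : ↥G) : ↥G ⧸ B)
    have hsub : ∀ h : ↥S, ((h : ↥G) : GL chevG2.Idx K) = 1 ∨ ((h : ↥G) : GL chevG2.Idx K) = torT A (-1) := by
      rintro ⟨h, hh⟩
      obtain ⟨t, ht, hc⟩ := (stab_std A ⟨w, hw.2⟩ hw h).1 hh
      obtain ⟨x, u', v, rfl⟩ := (pos_iff A w).1 hw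
      by_cases htt : t * t = 1
      · have : (t : K) * t = 1 := by simpa using congrArg Units.val htt
        rcases mul_self_eq_one_iff.1 this with e | e
        · left; show (h : GL chevG2.Idx K) = 1; rw [ht, show t = 1 from Units.ext e, map_one]
        · right; show (h : GL chevG2.Idx K) = _; rw [ht, show t = -1 from Units.ext (by simpa using e)]
      · obtain ⟨rfl, rfl, rfl⟩ := eq_zero_of_fixed A hc htt
        exact absurd (W_zero A) hw1
    classical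
    refine (Nat.card_le_card_of_injective
      (fun h : ↥S => decide (((h : ↥G) : GL chevG2.Idx K) = 1)) ?_).trans (by simp)
    intro h h' e
    simp only [decide_eq_decide] at e
    apply Subtype.ext; apply Subtype.ext
    rcases hsub h with e1 | e1 <;> rcases hsub h' with e2 | e2
    · rw [e1, e2]
    · exact absurd (e.1 e1) (by rw [e2]; exact hne)
    · exact absurd (e.2 e2) (by rw [e1]; exact hne)
    · rw [e1, e2]
  · have hw : W A 0 1 0 ∈ chevG2.posUnipotent K ⊓ twistedG2 K (3 ^ m) := (pos_iff A _).2 ⟨0, 1, 0, rfl⟩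
    set w : ↥G := ⟨W A 0 1 0, hw.2⟩
    have hw1 : W A 0 1 0 ≠ 1 := fun e => one_ne_zero (W_eq_one A e).2.1
    refine ⟨((1 : ↥G) : ↥G ⧸ B), ((nG A : ↥G) : ↥G ⧸ B), ((w * nG A : ↥G) : ↥G ⧸ B), ?_, ?_, ?_, ?_⟩
    · intro h
      rw [QuotientGroup.eq, inv_one, one_mul] at h
      exact n_notMem A h
    · intro h
      rw [QuotientGroup.eq, inv_one, one_mul] at h
      refine n_notMem A ?_
      have := Subgroup.mul_mem _ (Subgroup.inv_mem _ (U_le_B A hw)) (h : W A 0 1 0 * (sys A).G.nl K (twG2.blk 0) ∈ _)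
      rwa [inv_mul_cancel_left] at this
    · intro h
      rw [QuotientGroup.eq] at h
      refine hw1 (eq_one_of_conj_mem A hw ?_)
      rw [mul_assoc]
      exact h
    · set S := MulAction.stabilizer ↥G ((1 : ↥G) : ↥G ⧸ B) ⊓ MulAction.stabilizer ↥G ((nG A : ↥G) : ↥G ⧸ B) ⊓
        MulAction.stabilizer ↥G ((w * nG A : ↥G) : ↥G ⧸ B) with hS
      have hfix : torT A (-1) * W A 0 1 0 * (torT A (-1))⁻¹ = W A 0 1 0 := by
        rw [conj_neg_one A, neg_zero]
      rw [Nat.card_eq_two_iff]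
      refine ⟨1, ⟨⟨torT A (-1), (torT_mem A (-1)).2⟩, (stab_std A w hw _).2 ⟨-1, rfl, hfix⟩⟩,
        fun e => hne (congrArg (fun z : ↥S => ((z : ↥G) : GL chevG2.Idx K)) e).symm, ?_⟩
      ext ⟨h, hh⟩
      simp only [Set.mem_insert_iff, Set.mem_singleton_iff, Set.mem_univ, iff_true]
      obtain ⟨t, ht, hc⟩ := (stab_std A w hw h).1 hh
      by_cases htt : t * t = 1
      · have : (t : K) * t = 1 := by simpa using congrArg Units.val htt
        rcases mul_self_eq_one_iff.1 this with e | e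
        · left; apply Subtype.ext; apply Subtype.ext
          show (h : GL chevG2.Idx K) = 1; rw [ht, show t = 1 from Units.ext e, map_one]
        · right; apply Subtype.ext; apply Subtype.ext
          show (h : GL chevG2.Idx K) = _; rw [ht, show t = -1 from Units.ext (by simpa using e)]
      · exact absurd (eq_zero_of_fixed A hc htt).2.1 one_ne_zero

end Cfsg.Agent.S1153
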