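import Cfsg.Statements.S1154
import Cfsg.Agent.Lib.RankOne.ReeBasic

set_option autoImplicit false
open Cfsg

namespace Cfsg.Agent.S1154

open Cfsg.Lie Cfsg.Agent.Lib.Chev Cfsg.Agent.Lib.Chev.Tw Cfsg.Agent.Lib.Chev.Tw.G2 Cfsg.Agent.Lib.RankOne.Ree

local instance : Fact (Nat.Prime 3) := ⟨Nat.prime_three⟩


/-- In the small Ree group ²G₂(q), q = 3^(2m+1) with m ≥ 1, realised as G¹ inside the Chevalley group G₂ over the field with q elements (θ the 3^m-th power map), with `U¹ = G¹ ∩ U` (U the positive unipotent subgroup of the ambient G₂): `U¹` has exactly `q² - 1` elements of order 3. -/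
theorem result {K : Type*} [Field K] [Fintype K] {m : ℕ} (hm : 1 ≤ m) (hK : Fintype.card K = 3 ^ (2 * m + 1)) :
    Nat.card {u : ↥(Cfsg.Lie.chevG2.posUnipotent K ⊓ Cfsg.Lie.twistedG2 K (3 ^ m)) // orderOf u = 3} = (3 ^ (2 * m + 1)) ^ 2 - 1 := by
  obtain ⟨A⟩ := Lib.Chev.Tw.G2.exists_par (K := K) hK
  let U := chevG2.posUnipotent K ⊓ twistedG2 K (3 ^ m)
  have hmem : ∀ p : K × K, W A 0 p.1 p.2 ∈ U := fun p => (pos_iff A _).2 ⟨0, p.1, p.2, rfl⟩
  have hord : ∀ u : ↥U, orderOf u = 3 ↔ u ^ 3 = 1 ∧ u ≠ 1 :=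
    fun u => orderOf_eq_prime_iff (p := 3)
  have hto : ∀ p : {p : K × K // p ≠ 0}, orderOf (⟨W A 0 p.1.1 p.1.2, hmem p.1⟩ : ↥U) = 3 := by
    intro p
    refine (hord _).2 ⟨Subtype.ext ((W_cube A).2 rfl), fun e => p.2 ?_⟩
    obtain ⟨-, h1, h2⟩ := W_eq_one A (congrArg Subtype.val e)
    exact Prod.ext h1 h2
  have e : Nat.card {p : K × K // p ≠ 0} = Nat.card {u : ↥U // orderOf u = 3} := by
    refine Nat.card_eq_of_bijective (fun p => ⟨⟨W A 0 p.1.1 p.1.2, hmem p.1⟩, hto p⟩) ⟨?_, ?_⟩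
    · intro p p' h
      obtain ⟨-, h1, h2⟩ := W_inj A (congrArg (fun z => z.1.1) h)
      exact Subtype.ext (Prod.ext h1 h2)
    · rintro ⟨⟨g, hg⟩, ho⟩
      obtain ⟨x, u, v, rfl⟩ := (pos_iff A g).1 hg
      obtain ⟨h1, h2⟩ := (hord _).1 ho
      obtain rfl := (W_cube A).1 (congrArg Subtype.val h1)
      refine ⟨⟨(u, v), fun e => h2 ?_⟩, rfl⟩
      obtain ⟨rfl, rfl⟩ := Prod.mk.injEq .. ▸ (e : (u, v) = (0, 0))
      exact Subtype.ext (W_zero A)
  classical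
  refine e.symm.trans ?_
  rw [Nat.card_eq_fintype_card, Fintype.card_subtype_compl, Fintype.card_subtype_eq,
    Fintype.card_prod, hK, pow_two]

end Cfsg.Agent.S1154
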