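import Cfsg.Statements.S1155
import Cfsg.Agent.Lib.RankOne.ReeBasic

set_option autoImplicit false
open Cfsg

namespace Cfsg.Agent.S1155

open Cfsg.Lie Cfsg.Agent.Lib.Chev Cfsg.Agent.Lib.Chev.Tw Cfsg.Agent.Lib.Chev.Tw.G2 Cfsg.Agent.Lib.RankOne.Ree

local instance : Fact (Nat.Prime 3) := ⟨Nat.prime_three⟩


/-- In the small Ree group ²G₂(q), q = 3^(2m+1) with m ≥ 1, realised as G¹ inside the Chevalley group G₂ over the field with q elements (θ the 3^m-th power map): distinct Sylow 3-subgroups of `G¹` meet trivially. -/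
theorem result {K : Type*} [Field K] [Fintype K] {m : ℕ} (hm : 1 ≤ m) (hK : Fintype.card K = 3 ^ (2 * m + 1))
    (P Q : Sylow 3 ↥(Cfsg.Lie.twistedG2 K (3 ^ m))) (hPQ : P ≠ Q) : (P : Subgroup ↥(Cfsg.Lie.twistedG2 K (3 ^ m))) ⊓ (Q : Subgroup ↥(Cfsg.Lie.twistedG2 K (3 ^ m))) = ⊥ := by
  obtain ⟨A⟩ := Lib.Chev.Tw.G2.exists_par (K := K) hK
  set q := 3 ^ (2 * m + 1) with hq
  let G := twistedG2 K (3 ^ m)
  let U := chevG2.posUnipotent K ⊓ twistedG2 K (3 ^ m)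
  have hUG : U ≤ G := inf_le_right
  have hcardH : Nat.card ↥(U.subgroupOf G) = q ^ 3 :=
    (Nat.card_congr (Subgroup.subgroupOfEquivOfLe hUG).toEquiv).trans (card_U A)
  have hcard : Nat.card ↥G = q ^ 3 * (q - 1) * (q ^ 3 + 1) := card_group A
  have hp : IsPGroup 3 ↥(U.subgroupOf G) :=
    IsPGroup.of_card (n := (2 * m + 1) * 3) (by rw [hcardH, hq, ← pow_mul])
  have hidx : ¬ 3 ∣ (U.subgroupOf G).index := by
    have h := (U.subgroupOf G).card_mul_index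
    rw [hcardH, hcard, mul_assoc] at h
    rw [Nat.eq_of_mul_eq_mul_left (pow_pos (pow_pos (by norm_num) _) 3) h]
    have h3 : 3 ∣ q := dvd_pow_self 3 (by omega)
    have h1 : 1 ≤ q := Nat.one_le_pow _ _ (by norm_num)
    intro hd
    rcases (Nat.prime_three.dvd_mul).1 hd with hd | hd
    · omega
    · have : 3 ∣ q ^ 3 := dvd_pow h3 (by norm_num)
      omega
  let S : Sylow 3 ↥G := hp.toSylow hidx
  obtain ⟨a, rfl⟩ := MulAction.exists_smul_eq ↥G S P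
  obtain ⟨c, rfl⟩ := MulAction.exists_smul_eq ↥G S Q
  have key : ∀ x : ↥G, x ∈ ((a • S : Sylow 3 ↥G) : Subgroup ↥G) ↔ ((a⁻¹ * x * a : ↥G) : GL chevG2.Idx K) ∈ U := by
    intro x
    rw [Sylow.coe_subgroup_smul, Subgroup.mem_pointwise_smul_iff_inv_smul_mem, MulAut.smul_def,
      MulAut.conj_inv_apply]
    rfl
  have key' : ∀ x : ↥G, x ∈ ((c • S : Sylow 3 ↥G) : Subgroup ↥G) ↔ ((c⁻¹ * x * c : ↥G) : GL chevG2.Idx K) ∈ U := by
    intro x
    rw [Sylow.coe_subgroup_smul, Subgroup.mem_pointwise_smul_iff_inv_smul_mem, MulAut.smul_def,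
      MulAut.conj_inv_apply]
    rfl
  rw [Subgroup.eq_bot_iff_forall]
  rintro x ⟨hx1, hx2⟩
  replace hx1 := (key x).1 hx1
  replace hx2 := (key' x).1 hx2
  by_cases hg : ((a⁻¹ * c : ↥G) : GL chevG2.Idx K) ∈ chevG2.borelSubgroup K ⊓ twistedG2 K (3 ^ m)
  · refine absurd (Sylow.ext ?_) hPQ
    ext y
    rw [key, key']
    set g := ((a⁻¹ * c : ↥G) : GL chevG2.Idx K)
    have e : ((a⁻¹ * y * a : ↥G) : GL chevG2.Idx K) = g * ((c⁻¹ * y * c : ↥G) : GL chevG2.Idx K) * g⁻¹ := by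
      simp only [g, Subgroup.coe_mul, InvMemClass.coe_inv]; group
    constructor
    · intro h
      have := conj_B_U A (Subgroup.inv_mem _ hg) h
      rwa [e, show g⁻¹ * (g * _ * g⁻¹) * g⁻¹⁻¹ = ((c⁻¹ * y * c : ↥G) : GL chevG2.Idx K) by group] at this
    · intro h
      rw [e]; exact conj_B_U A hg h
  · set g := ((a⁻¹ * c : ↥G) : GL chevG2.Idx K) with hgdef
    obtain ⟨u, hu, b, hb, he⟩ := (bruhat A (g := g) (a⁻¹ * c).2).resolve_left hg
    set y := b * ((c⁻¹ * x * c : ↥G) : GL chevG2.Idx K) * b⁻¹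
    have hy : y ∈ U := conj_B_U A hb hx2
    set n := (sys A).G.nl K (twG2.blk 0)
    have e : n * y * n⁻¹ = u⁻¹ * ((a⁻¹ * x * a : ↥G) : GL chevG2.Idx K) * u := by
      have e1 : ((a⁻¹ * x * a : ↥G) : GL chevG2.Idx K) = g * ((c⁻¹ * x * c : ↥G) : GL chevG2.Idx K) * g⁻¹ := by
        simp only [hgdef, Subgroup.coe_mul, InvMemClass.coe_inv]; group
      rw [e1, he]; simp only [y]; group
    have h1 : n * y * n⁻¹ ∈ chevG2.posUnipotent K := by
      rw [e]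
      exact Subgroup.mul_mem _ (Subgroup.mul_mem _ (Subgroup.inv_mem _ hu.1) hx1.1) hu.1
    have h2 : y = 1 := conj_eq_one_iff.1 ((sys A).pos_neg_trivial h1 (conj_U_neg A hy))
    have h3 : c⁻¹ * x * c = 1 := Subtype.ext (conj_eq_one_iff.1 h2)
    calc x = c * (c⁻¹ * x * c) * c⁻¹ := by group
      _ = 1 := by rw [h3]; group

end Cfsg.Agent.S1155
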