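import Cfsg.Statements.S1157
import Cfsg.Agent.Lib.RankOne.ReeCentralizer
import Cfsg.Agent.S1152

set_option autoImplicit false
open Cfsg

namespace Cfsg.Agent.S1157

open Cfsg.Lie Cfsg.Agent.Lib.Chev Cfsg.Agent.Lib.Chev.Tw Cfsg.Agent.Lib.Chev.Tw.G2 Cfsg.Agent.Lib.RankOne.Ree
open Cfsg.Agent.S1152 (wK wK_val mk_eq four center_offdiag not_center)

local instance : Fact (Nat.Prime 2) := ⟨Nat.prime_two⟩

section

/-- the abstract group of order eight -/
abbrev E3 : Type := Multiplicative (ZMod 2) × (Multiplicative (ZMod 2) × Multiplicative (ZMod 2))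

/-- the standard involution -/
def e0 : E3 := (Multiplicative.ofAdd 1, 1)

/-- the automorphism of order three -/
def sigma : E3 →* E3 :=
  MonoidHom.mk' (fun z => (z.1, (z.2.2, z.2.1 * z.2.2))) fun x y => by
    refine Prod.ext rfl (Prod.ext rfl ?_)
    exact mul_mul_mul_comm x.2.1 y.2.1 x.2.2 y.2.2

set_option synthInstance.maxSize 4000 in
set_option synthInstance.maxHeartbeats 200000 in
theorem orbit_sizes : ∀ O ∈ (Finset.univ : Finset E3).powerset, e0 ∈ O → (1 : E3) ∉ O → (∀ z ∈ O, sigma z ∈ O) →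
    O.card % 2 = 1 → O.card = 1 ∨ O.card = 7 := by decide +kernel

theorem pairs_six : Nat.card {u : E3 × E3 // u.1.1 = 1 ∧ u.2.1 = 1 ∧ u.1.2 ≠ 1 ∧ u.2.2 ≠ 1 ∧ u.1 ≠ u.2} = 6 := by
  rw [Nat.card_eq_fintype_card]
  decide +kernel

variable {K : Type*} [Field K] [Fintype K] {m : ℕ} (A : Par K m)
include A

/-- the Klein four group -/
theorem exists_kappa : ∃ κ : Multiplicative (ZMod 2) × Multiplicative (ZMod 2) →*
    Matrix.ProjectiveSpecialLinearGroup (Fin 2) K, Function.Injective κ ∧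
      κ (Multiplicative.ofAdd 1, 1) = ((sn : Matrix.SpecialLinearGroup (Fin 2) K) : Matrix.ProjectiveSpecialLinearGroup (Fin 2) K) ∧
      κ (1, Multiplicative.ofAdd 1) = ((wK A : Matrix.SpecialLinearGroup (Fin 2) K) : Matrix.ProjectiveSpecialLinearGroup (Fin 2) K) := by
  obtain ⟨e1, e2, e3⟩ := four A
  let s : Matrix.ProjectiveSpecialLinearGroup (Fin 2) K := ((sn : Matrix.SpecialLinearGroup (Fin 2) K) : _)
  let w : Matrix.ProjectiveSpecialLinearGroup (Fin 2) K := ((wK A : Matrix.SpecialLinearGroup (Fin 2) K) : _)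
  have hs : s * s = 1 := mk_eq A e1
  have hw : w * w = 1 := mk_eq A e2
  have hc : ∀ a b, Commute (z2Hom s hs a) (z2Hom w hw b) := by
    intro a b
    rcases z2_cases a with rfl | rfl
    · rw [map_one (z2Hom s hs)]; exact Commute.one_left _
    · rcases z2_cases b with rfl | rfl
      · rw [map_one (z2Hom w hw)]; exact Commute.one_right _
      · rw [z2Hom_one, z2Hom_one]; exact mk_eq A e3
  refine ⟨MonoidHom.noncommCoprod (z2Hom s hs) (z2Hom w hw) hc, ?_, ?_, ?_⟩
  · rw [injective_iff_map_eq_one]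
    rintro ⟨a, b⟩ h
    have h' : z2Hom s hs a * z2Hom w hw b = 1 := h
    rcases z2_cases a with rfl | rfl <;> rcases z2_cases b with rfl | rfl
    · rfl
    · rw [map_one (z2Hom s hs), one_mul, z2Hom_one] at h'
      exact absurd h' (not_center A (by simp [wK_val]))
    · rw [map_one (z2Hom w hw), mul_one, z2Hom_one] at h'
      exact absurd h' (not_center A (by simp [sn_val]))
    · rw [z2Hom_one, z2Hom_one] at h'
      exact absurd h' (not_center A (g := sn * wK A) (by simp [sn_val, wK_val, Matrix.mul_fin_two]))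
  · show z2Hom s hs (Multiplicative.ofAdd 1) * z2Hom w hw 1 = s
    rw [z2Hom_one, map_one (z2Hom w hw), mul_one]
  · show z2Hom s hs 1 * z2Hom w hw (Multiplicative.ofAdd 1) = w
    rw [z2Hom_one, map_one (z2Hom s hs), one_mul]

/-- scalar multiples agree in `PSL₂` -/
theorem mk_eq_of_smul {g M : Matrix.SpecialLinearGroup (Fin 2) K} {p : K}
    (h : (g : Matrix (Fin 2) (Fin 2) K) = p • (M : Matrix (Fin 2) (Fin 2) K)) :
    (g : Matrix.ProjectiveSpecialLinearGroup (Fin 2) K) = M := by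
  have hp : p * p = 1 := by
    have := congrArg Matrix.det h
    rw [g.det_coe, Matrix.det_smul, M.det_coe, mul_one, Fintype.card_fin, pow_two] at this
    exact this.symm
  rw [eq_comm, QuotientGroup.eq, Matrix.SpecialLinearGroup.mem_center_iff]
  refine ⟨p, by rw [Fintype.card_fin, pow_two]; exact hp, ?_⟩
  rw [Matrix.SpecialLinearGroup.coe_mul, h, Matrix.mul_smul, ← Matrix.SpecialLinearGroup.coe_mul,
    inv_mul_cancel, Matrix.SpecialLinearGroup.coe_one]
  ext i j
  fin_cases i <;> fin_cases j <;> simp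

theorem comm_scalar {g M : Matrix.SpecialLinearGroup (Fin 2) K}
    (h : (M : Matrix.ProjectiveSpecialLinearGroup (Fin 2) K) * g =
      (g : Matrix.ProjectiveSpecialLinearGroup (Fin 2) K) * M) :
    ∃ e : K, (e = 1 ∨ e = -1) ∧
      (M : Matrix (Fin 2) (Fin 2) K) * g = e • ((g : Matrix (Fin 2) (Fin 2) K) * M) := by
  rw [← QuotientGroup.mk_mul, ← QuotientGroup.mk_mul] at h
  have hc := QuotientGroup.eq.1 h.symm
  obtain ⟨r, hr, hr'⟩ := Matrix.SpecialLinearGroup.mem_center_iff.1 hc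
  rw [Fintype.card_fin, pow_two] at hr
  refine ⟨r, mul_self_eq_one_iff.1 hr, ?_⟩
  have e : ((g * M) * ((g * M)⁻¹ * (M * g)) : Matrix.SpecialLinearGroup (Fin 2) K) = M * g := by group
  have := congrArg (fun z : Matrix.SpecialLinearGroup (Fin 2) K => (z : Matrix (Fin 2) (Fin 2) K)) e
  rw [Matrix.SpecialLinearGroup.coe_mul, ← hr', Matrix.SpecialLinearGroup.coe_mul,
    Matrix.SpecialLinearGroup.coe_mul] at this
  rw [← this]
  ext i j
  fin_cases i <;> fin_cases j <;> simp [mul_comm]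

theorem cent_klein (g : Matrix.SpecialLinearGroup (Fin 2) K)
    (h1 : ((sn : Matrix.SpecialLinearGroup (Fin 2) K) : Matrix.ProjectiveSpecialLinearGroup (Fin 2) K) * g =
      (g : Matrix.ProjectiveSpecialLinearGroup (Fin 2) K) * (sn : Matrix.SpecialLinearGroup (Fin 2) K))
    (h2 : ((wK A : Matrix.SpecialLinearGroup (Fin 2) K) : Matrix.ProjectiveSpecialLinearGroup (Fin 2) K) * g =
      (g : Matrix.ProjectiveSpecialLinearGroup (Fin 2) K) * (wK A : Matrix.SpecialLinearGroup (Fin 2) K)) :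
    (g : Matrix.ProjectiveSpecialLinearGroup (Fin 2) K) = ((1 : Matrix.SpecialLinearGroup (Fin 2) K) : Matrix.ProjectiveSpecialLinearGroup (Fin 2) K) ∨
      (g : Matrix.ProjectiveSpecialLinearGroup (Fin 2) K) = (sn : Matrix.SpecialLinearGroup (Fin 2) K) ∨
      (g : Matrix.ProjectiveSpecialLinearGroup (Fin 2) K) = (wK A : Matrix.SpecialLinearGroup (Fin 2) K) ∨
      (g : Matrix.ProjectiveSpecialLinearGroup (Fin 2) K) = (sn * wK A : Matrix.SpecialLinearGroup (Fin 2) K) := by
  obtain ⟨e, he, k1⟩ := comm_scalar A h1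
  obtain ⟨d, hd, k2⟩ := comm_scalar A h2
  have h3 := A.h3
  have a00 := congrFun (congrFun k1 0) 0
  have a01 := congrFun (congrFun k1 0) 1
  have b00 := congrFun (congrFun k2 0) 0
  have b01 := congrFun (congrFun k2 0) 1
  simp [sn_val, Matrix.mul_apply, Fin.sum_univ_two] at a00 a01
  simp [wK_val, Matrix.mul_apply, Fin.sum_univ_two] at b00 b01
  rcases he with rfl | rfl <;> rcases hd with rfl | rfl
  · left
    have hq : (g : Matrix (Fin 2) (Fin 2) K) 0 1 = 0 := by linear_combination (g.1 0 1) * h3 + b00 - a00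
    refine mk_eq_of_smul A (p := g.1 0 0) ?_
    ext i j
    fin_cases i <;> fin_cases j <;> simp [hq]
    · linear_combination a00 - hq
    · linear_combination a01
  · right; left
    have hp : (g : Matrix (Fin 2) (Fin 2) K) 0 0 = 0 := by
      linear_combination (g.1 0 0) * h3 - b00 + a00
    refine mk_eq_of_smul A (p := g.1 0 1) ?_
    ext i j
    fin_cases i <;> fin_cases j <;> simp [sn_val, hp]
    · linear_combination a00
    · linear_combination a01 + hp
  · right; right; left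
    have hq : (g : Matrix (Fin 2) (Fin 2) K) 0 1 = g.1 0 0 := by
      linear_combination (g.1 0 1 - g.1 0 0) * h3 - b01 + a01
    refine mk_eq_of_smul A (p := g.1 0 0) ?_
    ext i j
    fin_cases i <;> fin_cases j <;> simp [wK_val, hq]
    · linear_combination a00 + hq
    · linear_combination a01
  · right; right; right
    have hq : (g : Matrix (Fin 2) (Fin 2) K) 0 1 = -(g.1 0 0) := by
      linear_combination (g.1 0 0 + g.1 0 1) * h3 - b00 + a00
    refine mk_eq_of_smul A (p := g.1 0 0) ?_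
    ext i j
    fin_cases i <;> fin_cases j <;> simp [sn_val, wK_val, Matrix.mul_fin_two, hq]
    · linear_combination a00 + hq
    · linear_combination a01

/-- The properties of one Sylow subgroup. -/
theorem main (hm : 1 ≤ m) : ∃ T : Sylow 2 ↥(twistedG2 K (3 ^ m)),
    Subgroup.centralizer ((T : Subgroup ↥(twistedG2 K (3 ^ m))) : Set ↥(twistedG2 K (3 ^ m))) = T ∧
      Nat.card (Subgroup.normalizer ((T : Subgroup ↥(twistedG2 K (3 ^ m))) : Set ↥(twistedG2 K (3 ^ m)))) = 168 := by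
  classical
  obtain ⟨κ, hκ, hκs, hκw⟩ := exists_kappa A
  set G := twistedG2 K (3 ^ m) with hG
  have hmemG : ∀ x, theta A x ∈ G := fun x => ((mem_CA A).1 ((theta_range A).le ⟨x, rfl⟩)).1
  set θ : Multiplicative (ZMod 2) × Matrix.ProjectiveSpecialLinearGroup (Fin 2) K →* ↥G :=
    (theta A).codRestrict G hmemG
  have hθ : Function.Injective θ := fun x y e => theta_inj A (congrArg Subtype.val e)
  set ι : E3 →* ↥G := θ.comp ((MonoidHom.id _).prodMap κ)
  have hι : Function.Injective ι := hθ.comp (Prod.map_injective.2 ⟨fun _ _ e => e, hκ⟩)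
  have hιa : (ι e0 : GL chevG2.Idx K) = torT A (-1) := by
    show theta A (Multiplicative.ofAdd 1, κ 1) = _
    rw [map_one κ]
    show z2Hom (torT A (-1)) (torT_neg_sq A) (Multiplicative.ofAdd 1) * psiBar A 1 = _
    rw [z2Hom_one, map_one, mul_one]
  have hcent : ∀ x : ↥G, x * ι e0 = ι e0 * x → ∃ y, x = θ y := by
    intro x hx
    obtain ⟨y, hy⟩ := (theta_range A).ge ((mem_CA A).2 ⟨x.2, by
      rw [← hιa]; exact (congrArg Subtype.val hx).symm⟩)
    exact ⟨y, Subtype.ext hy.symm⟩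
  have hcard : Nat.card ↥ι.range = 8 := by
    rw [← Nat.card_congr (MonoidHom.ofInjective hι).toEquiv]
    simp [Nat.card_prod]
  have hidx : ¬ 2 ∣ ι.range.index := by
    have h := ι.range.card_mul_index
    rw [hcard, card_group A] at h
    set q := 3 ^ (2 * m + 1) with hq
    have h8 : q % 8 = 3 := by rw [hq, pow_succ, pow_mul, Nat.mul_mod, Nat.pow_mod]; norm_num
    clear_value q
    obtain ⟨a', ha'⟩ : ∃ a', q - 1 = 2 * a' ∧ a' % 2 = 1 := ⟨(q - 1) / 2, by omega, by omega⟩
    have h3 : q ^ 3 % 8 = 3 := by rw [Nat.pow_mod, h8]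
    obtain ⟨b, hb⟩ : ∃ b, q ^ 3 + 1 = 4 * b ∧ b % 2 = 1 := ⟨(q ^ 3 + 1) / 4, by omega, by omega⟩
    rw [ha'.1, hb.1] at h
    rw [show ι.range.index = q ^ 3 * a' * b by linarith]
    intro hd
    rcases (Nat.prime_two.dvd_mul).1 hd with hd | hd
    · rcases (Nat.prime_two.dvd_mul).1 hd with hd | hd <;> omega
    · omega
  let T : Sylow 2 ↥G := (IsPGroup.of_card (n := 3) (by rw [hcard]; norm_num)).toSylow hidx
  have hT : (T : Subgroup ↥G) = ι.range := rfl
  -- centraliser
  have hC : ∀ x : ↥G, (∀ z, x * ι z = ι z * x) → x ∈ ι.range := by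
    intro x hx
    obtain ⟨⟨e, g'⟩, rfl⟩ := hcent x (hx e0)
    obtain ⟨g, rfl⟩ := QuotientGroup.mk_surjective g'
    have h : ∀ v, κ v * (g : Matrix.ProjectiveSpecialLinearGroup (Fin 2) K) = (g : Matrix.ProjectiveSpecialLinearGroup (Fin 2) K) * κ v := by
      intro v
      have := hx (1, v)
      change θ (e, _) * θ (1, κ v) = θ (1, κ v) * θ (e, _) at this
      rw [← map_mul, ← map_mul] at this
      exact (congrArg Prod.snd (hθ this)).symm
    have k1 := h (Multiplicative.ofAdd 1, 1)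
    have k2 := h (1, Multiplicative.ofAdd 1)
    rw [hκs] at k1
    rw [hκw] at k2
    rcases cent_klein A g k1 k2 with h | h | h | h <;> rw [h]
    · exact ⟨(e, 1), by show θ (e, κ 1) = _; rw [map_one κ]; rfl⟩
    · exact ⟨(e, (Multiplicative.ofAdd 1, 1)), congrArg (fun z => θ (e, z)) hκs⟩
    · exact ⟨(e, (1, Multiplicative.ofAdd 1)), congrArg (fun z => θ (e, z)) hκw⟩
    · refine ⟨(e, (Multiplicative.ofAdd 1, 1) * (1, Multiplicative.ofAdd 1)), ?_⟩
      show θ (e, κ ((Multiplicative.ofAdd 1, 1) * (1, Multiplicative.ofAdd 1))) = _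
      rw [map_mul κ, hκs, hκw]
      rfl
  have hab : ∀ z z' : E3, ι z * ι z' = ι z' * ι z := fun z z' => by rw [← map_mul, ← map_mul, mul_comm]
  have hCT : Subgroup.centralizer ((T : Subgroup ↥G) : Set ↥G) = T := by
    refine le_antisymm (fun x hx => ?_) ?_
    · exact hC x fun z => (Subgroup.mem_centralizer_iff.1 hx (ι z) ⟨z, rfl⟩).symm
    · rintro _ ⟨z, rfl⟩
      rw [Subgroup.mem_centralizer_iff]
      rintro _ ⟨z', rfl⟩
      exact hab z' z
  refine ⟨T, hCT, ?_⟩
  set N : Subgroup ↥G := Subgroup.normalizer ((T : Subgroup ↥G) : Set ↥G) with hN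
  set St : Subgroup ↥G := N ⊓ Subgroup.centralizer {ι e0}
  have hTN : (T : Subgroup ↥G) ≤ N := Subgroup.le_normalizer
  have hTSt : (T : Subgroup ↥G) ≤ St := le_inf hTN (by
    rintro _ ⟨z, rfl⟩
    rw [Subgroup.mem_centralizer_singleton_iff]
    exact hab z e0)
  -- the element of order three
  set r : ↥G := θ (1, ((su 1 : Matrix.SpecialLinearGroup (Fin 2) K) : Matrix.ProjectiveSpecialLinearGroup (Fin 2) K))
  have hsig : ∀ z : E3, r * ι z * r⁻¹ = ι (sigma z) := by
    obtain ⟨R, hR⟩ : ∃ R : Matrix.ProjectiveSpecialLinearGroup (Fin 2) K, R = ((su 1 : Matrix.SpecialLinearGroup (Fin 2) K) : Matrix.ProjectiveSpecialLinearGroup (Fin 2) K) := ⟨_, rfl⟩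
    have hv : ∀ v : Multiplicative (ZMod 2) × Multiplicative (ZMod 2), R * κ v * R⁻¹ = κ (v.2, v.1 * v.2) := by
      have e1 : R * κ (Multiplicative.ofAdd 1, 1) * R⁻¹ = κ (1, Multiplicative.ofAdd 1) := by
        rw [hκs, hκw, mul_inv_eq_iff_eq_mul, hR, ← QuotientGroup.mk_mul, ← QuotientGroup.mk_mul]
        refine mk_eq_of_smul A (p := (-1 : K)) ?_
        rw [Matrix.SpecialLinearGroup.coe_mul, Matrix.SpecialLinearGroup.coe_mul, sn_val, wK_val]
        simp [su, Matrix.mul_fin_two]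
        linear_combination A.h3
      have e2 : R * κ (1, Multiplicative.ofAdd 1) * R⁻¹ =
          κ (Multiplicative.ofAdd 1, 1) * κ (1, Multiplicative.ofAdd 1) := by
        rw [hκs, hκw, mul_inv_eq_iff_eq_mul, hR, ← QuotientGroup.mk_mul, ← QuotientGroup.mk_mul,
          ← QuotientGroup.mk_mul]
        refine mk_eq_of_smul A (p := (-1 : K)) ?_
        rw [Matrix.SpecialLinearGroup.coe_mul, Matrix.SpecialLinearGroup.coe_mul,
          Matrix.SpecialLinearGroup.coe_mul, sn_val, wK_val]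
        simp [su, Matrix.mul_fin_two]
        constructor <;> first | linear_combination A.h3 | linear_combination -A.h3
      rintro ⟨a, b⟩
      have ha : R * κ (a, 1) * R⁻¹ = κ (1, a) := by
        rcases z2_cases a with rfl | rfl
        · show R * κ 1 * R⁻¹ = κ 1
          rw [map_one κ, mul_one, mul_inv_cancel]
        · exact e1
      have hb : R * κ (1, b) * R⁻¹ = κ (b, b) := by
        rcases z2_cases b with rfl | rfl
        · show R * κ 1 * R⁻¹ = κ 1
          rw [map_one κ, mul_one, mul_inv_cancel]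
        · rw [e2, ← map_mul, Prod.mk_mul_mk, mul_one, one_mul]
      have hab' : (a, b) = ((a, 1) : Multiplicative (ZMod 2) × Multiplicative (ZMod 2)) * (1, b) := by
        rw [Prod.mk_mul_mk, mul_one, one_mul]
      rw [hab', map_mul κ, show R * (κ (a, 1) * κ (1, b)) * R⁻¹ = R * κ (a, 1) * R⁻¹ * (R * κ (1, b) * R⁻¹) by group,
        ha, hb, ← map_mul, Prod.mk_mul_mk]
      simp
    rintro ⟨e, v⟩
    show θ (1, _) * θ (e, κ v) * (θ (1, _))⁻¹ = θ (e, κ (v.2, v.1 * v.2))
    rw [← map_mul, ← map_inv, ← map_mul, ← hv v, hR]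
    congr 1
    simp
  have hr3 : orderOf r = 3 := by
    have : Fact (Nat.Prime 3) := ⟨Nat.prime_three⟩
    refine orderOf_eq_prime_iff.2 ⟨?_, ?_⟩
    · have e : (su 1 : Matrix.SpecialLinearGroup (Fin 2) K) ^ 3 = 1 := by
        rw [pow_succ, pow_two, su_add, su_add, show (1 : K) + 1 + 1 = 0 by linear_combination A.h3]
        refine Subtype.ext ?_
        simp [su, Matrix.one_fin_two]
      show θ _ ^ 3 = 1
      rw [← map_pow θ, Prod.pow_mk, one_pow, ← QuotientGroup.mk_pow, e]
      exact map_one θ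
    · intro h
      have := congrArg Prod.snd (hθ (h.trans (map_one θ).symm))
      exact not_center A (g := su 1) (by simp [su]) this
  have hrN : r ∈ N := by
    rw [hN, Subgroup.mem_normalizer_iff]
    intro x
    have hpow : ∀ z : E3, sigma (sigma (sigma z)) = z := by decide +kernel
    constructor
    · rintro ⟨z, rfl⟩
      exact ⟨sigma z, (hsig z).symm⟩
    · rintro ⟨z, hz⟩
      refine ⟨sigma (sigma z), ?_⟩
      have := hsig (sigma (sigma z))
      rw [hpow, hz] at this
      exact mul_left_cancel (mul_right_cancel this)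
  have hrSt : r ∈ St := ⟨hrN, Subgroup.mem_centralizer_singleton_iff.2 (by
    have := hsig e0
    rw [show sigma e0 = e0 by decide +kernel, mul_inv_eq_iff_eq_mul] at this
    exact this)⟩
  -- the stabiliser
  set k := (T : Subgroup ↥G).relIndex St with hk
  have hkSt : Nat.card ↥St = 8 * k := by
    have := Subgroup.card_mul_index ((T : Subgroup ↥G).subgroupOf St)
    rw [Nat.card_congr (Subgroup.subgroupOfEquivOfLe hTSt).toEquiv, hT, hcard] at this
    exact this.symm
  have hkodd : k % 2 = 1 := by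
    have : k ∣ (T : Subgroup ↥G).index := Subgroup.relIndex_dvd_index_of_le hTSt
    by_contra h
    exact hidx ((show 2 ∣ k by omega).trans this)
  have hk3 : 3 ∣ k := by
    have : 3 ∣ Nat.card ↥St := by
      rw [← hr3, ← Subgroup.orderOf_mk r hrSt]
      exact orderOf_dvd_natCard _
    rw [hkSt] at this
    exact (Nat.Coprime.dvd_mul_left (by norm_num)).1 this
  have hk6 : k ≤ 6 := by
    have hex : ∀ x : ↥St, ∀ z : E3, ∃ z' : E3, ι z' = (x : ↥G) * ι z * (x : ↥G)⁻¹ := fun x z =>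
      (Subgroup.mem_normalizer_iff.1 x.2.1 (ι z)).1 ⟨z, rfl⟩
    choose img himg using hex
    let z1 : E3 := (1, (Multiplicative.ofAdd 1, 1))
    let z2 : E3 := (1, (1, Multiplicative.ofAdd 1))
    have hfst : ∀ x z, z.1 = 1 → (img x z).1 = 1 := by
      intro x z hz
      obtain ⟨⟨e, g⟩, hx⟩ := hcent x.1 (Subgroup.mem_centralizer_singleton_iff.1 x.2.2)
      have h := himg x z
      rw [hx] at h
      change θ ((img x z).1, κ (img x z).2) = θ (e, g) * θ (z.1, κ z.2) * (θ (e, g))⁻¹ at h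
      rw [← map_mul, ← map_inv, ← map_mul] at h
      have := congrArg Prod.fst (hθ h)
      simpa [hz] using this
    have hne : ∀ x z, z ≠ 1 → img x z ≠ 1 := by
      intro x z hz h
      have := himg x z
      rw [h, map_one ι, eq_comm, conj_eq_one_iff] at this
      exact hz (hι (this.trans (map_one ι).symm))
    have hinj : ∀ x z z', img x z = img x z' → z = z' := fun x z z' h => by
      have := (himg x z).symm.trans ((congrArg ι h).trans (himg x z'))
      exact hι (mul_left_cancel (mul_right_cancel this))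
    have hmemP : ∀ x : ↥St, (img x z1, img x z2) ∈ {u : E3 × E3 | u.1.1 = 1 ∧ u.2.1 = 1 ∧ u.1.2 ≠ 1 ∧ u.2.2 ≠ 1 ∧ u.1 ≠ u.2} := by
      intro x
      refine ⟨hfst x z1 rfl, hfst x z2 rfl, ?_, ?_, ?_⟩
      · exact fun h => hne x z1 (by decide) (Prod.ext (hfst x z1 rfl) h)
      · exact fun h => hne x z2 (by decide) (Prod.ext (hfst x z2 rfl) h)
      · exact fun h => absurd (hinj x z1 z2 h) (by decide)
    have hgen : ∀ x y : ↥St, (img x z1, img x z2) = (img y z1, img y z2) → (x : ↥G)⁻¹ * y ∈ (T : Subgroup ↥G) := by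
      intro x y h
      obtain ⟨h1, h2⟩ := Prod.mk.injEq .. ▸ h
      have hcomm : ∀ z, img x z = img y z → ((x : ↥G)⁻¹ * y) * ι z = ι z * ((x : ↥G)⁻¹ * y) := by
        intro z hz
        have := (himg x z).symm.trans ((congrArg ι hz).trans (himg y z))
        calc (x : ↥G)⁻¹ * y * ι z = (x : ↥G)⁻¹ * ((y : ↥G) * ι z * (y : ↥G)⁻¹) * y := by group
          _ = _ := by rw [← this]; group
      have c0 : ((x : ↥G)⁻¹ * y) * ι e0 = ι e0 * ((x : ↥G)⁻¹ * y) :=
        Subgroup.mem_centralizer_singleton_iff.1 (mul_mem (inv_mem x.2.2) y.2.2)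
      refine hC _ fun z => ?_
      have hz : z = (z.1, 1) * ((1, (z.2.1, 1)) * (1, (1, z.2.2))) := by revert z; decide +kernel
      have d1 : ∀ e, Commute ((x : ↥G)⁻¹ * y) (ι (e, 1)) := fun e => by
        rcases z2_cases e with rfl | rfl
        · show Commute _ (ι 1); rw [map_one ι]; exact Commute.one_right _
        · exact c0
      have d2 : ∀ e, Commute ((x : ↥G)⁻¹ * y) (ι (1, (e, 1))) := fun e => by
        rcases z2_cases e with rfl | rfl
        · show Commute _ (ι 1); rw [map_one ι]; exact Commute.one_right _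
        · exact hcomm _ h1
      have d3 : ∀ e, Commute ((x : ↥G)⁻¹ * y) (ι (1, (1, e))) := fun e => by
        rcases z2_cases e with rfl | rfl
        · show Commute _ (ι 1); rw [map_one ι]; exact Commute.one_right _
        · exact hcomm _ h2
      rw [hz, map_mul, map_mul]
      exact (d1 _).mul_right ((d2 _).mul_right (d3 _))
    rw [hk, ← pairs_six]
    refine Nat.card_le_card_of_injective
      (fun c : ↥St ⧸ (T : Subgroup ↥G).subgroupOf St => (⟨_, hmemP c.out⟩ : {u : E3 × E3 // u.1.1 = 1 ∧ u.2.1 = 1 ∧ u.1.2 ≠ 1 ∧ u.2.2 ≠ 1 ∧ u.1 ≠ u.2})) ?_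
    intro c c' h
    rw [← c.out_eq', ← c'.out_eq', QuotientGroup.eq, Subgroup.mem_subgroupOf]
    exact hgen _ _ (congrArg Subtype.val h)
  have hk' : k = 3 := by omega
  -- the orbit
  let instN : MulAction ↥N ↥G := MulAction.compHom ↥G ((MulAut.conj).comp N.subtype)
  have hsmul : ∀ (n : ↥N) (x : ↥G), n • x = (n : ↥G) * x * (n : ↥G)⁻¹ := fun _ _ => rfl
  have hstab : MulAction.stabilizer ↥N (ι e0) = St.subgroupOf N := by
    ext n
    rw [MulAction.mem_stabilizer_iff, hsmul, Subgroup.mem_subgroupOf, mul_inv_eq_iff_eq_mul]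
    show _ ↔ (n : ↥G) ∈ N ⊓ Subgroup.centralizer {ι e0}
    rw [Subgroup.mem_inf, Subgroup.mem_centralizer_singleton_iff]
    exact ⟨fun h => ⟨n.2, h⟩, fun h => h.2⟩
  have horb := MulAction.index_stabilizer ↥N (ι e0)
  set O : Finset E3 := Finset.univ.filter fun z => ι z ∈ MulAction.orbit ↥N (ι e0) with hO
  have horbT : MulAction.orbit ↥N (ι e0) = ι '' (O : Set E3) := by
    ext x
    constructor
    · rintro ⟨n, rfl⟩
      obtain ⟨z, hz⟩ := (Subgroup.mem_normalizer_iff.1 n.2 (ι e0)).1 ⟨e0, rfl⟩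
      refine ⟨z, ?_, hz⟩
      simp only [hO, Finset.coe_filter, Finset.mem_univ, true_and, Set.mem_ofPred_eq]
      exact hz ▸ ⟨n, rfl⟩
    · rintro ⟨z, hz, rfl⟩
      simpa [hO] using hz
  rw [horbT, Set.ncard_image_of_injective _ hι, Set.ncard_coe_finset, hstab] at horb
  have hNcard : Nat.card ↥N = O.card * 24 := by
    rw [← (St.subgroupOf N).index_mul_card, horb,
      Nat.card_congr (Subgroup.subgroupOfEquivOfLe (inf_le_left : St ≤ N)).toEquiv, hkSt, hk']
  have hOodd : O.card % 2 = 1 := by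
    have h8 := Subgroup.card_mul_index ((T : Subgroup ↥G).subgroupOf N)
    rw [Nat.card_congr (Subgroup.subgroupOfEquivOfLe hTN).toEquiv, hT, hcard, hNcard] at h8
    have hd : (T : Subgroup ↥G).relIndex N ∣ (T : Subgroup ↥G).index := Subgroup.relIndex_dvd_index_of_le hTN
    by_contra h
    refine hidx ((show 2 ∣ (T : Subgroup ↥G).relIndex N from ?_).trans hd)
    rw [Subgroup.relIndex, hT]
    omega
  have he0 : e0 ∈ O := by simp [hO]
  rcases orbit_sizes O (by simp) he0 (by
      intro h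
      simp only [hO, Finset.mem_filter, Finset.mem_univ, true_and, map_one] at h
      obtain ⟨n, hn⟩ := h
      have hn' : (n : ↥G) * ι e0 * (n : ↥G)⁻¹ = 1 := hn
      rw [conj_eq_one_iff] at hn'
      exact absurd (hι (hn'.trans (map_one ι).symm)) (by decide)) (by
      intro z hz
      simp only [hO, Finset.mem_filter, Finset.mem_univ, true_and] at hz ⊢
      rw [← hsig z]
      obtain ⟨n, hn⟩ := hz
      exact ⟨⟨r, hrN⟩ * n, by
        show ((⟨r, hrN⟩ : ↥N) * n) • ι e0 = _
        rw [mul_smul, show n • ι e0 = ι z from hn, hsmul]⟩) hOodd with h1 | h7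
  · exfalso
    have hfix : ∀ n ∈ N, n * ι e0 * n⁻¹ = ι e0 := by
      intro n hn
      obtain ⟨z, hz, hz2⟩ := horbT.le (MulAction.mem_orbit (ι e0) (⟨n, hn⟩ : ↥N))
      obtain rfl := Finset.card_le_one.1 h1.le z hz e0 he0
      exact hz2.symm
    have : IsMulCommutative ↥(T : Subgroup ↥G) := ⟨⟨by
      rintro ⟨_, z, rfl⟩ ⟨_, z', rfl⟩
      exact Subtype.ext (hab z z')⟩⟩
    letI : CommGroup ↥(T : Subgroup ↥G) :=
      { (inferInstance : Group ↥(T : Subgroup ↥G)) with mul_comm := fun a b => mul_comm' a b }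
    set τ := MonoidHom.transfer (MonoidHom.id ↥(T : Subgroup ↥G))
    have hkey : ∀ (j : ℕ) (g₀ : ↥G), g₀⁻¹ * ι e0 ^ j * g₀ ∈ (T : Subgroup ↥G) → g₀⁻¹ * ι e0 ^ j * g₀ = ι e0 ^ j := by
      intro j g₀ h
      obtain ⟨n, hn, e⟩ := T.conj_eq_normalizer_conj_of_mem (ι e0 ^ j) g₀ (Subgroup.pow_mem _ (show ι e0 ∈ (T : Subgroup ↥G) from ⟨e0, rfl⟩) j) h
      rw [e]
      have h2 : n⁻¹ * ι e0 * n⁻¹⁻¹ = ι e0 := hfix _ (inv_mem hn)
      calc n⁻¹ * ι e0 ^ j * n = n⁻¹ * ι e0 ^ j * n⁻¹⁻¹ := by rw [inv_inv]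
        _ = (n⁻¹ * ι e0 * n⁻¹⁻¹) ^ j := (conj_pow).symm
        _ = _ := by rw [h2]
    have hperf := perfect A hm
    have h0 : τ (ι e0) = 1 :=
      (Abelianization.commutator_subset_ker τ) (hperf ▸ Subgroup.mem_top (ι e0))
    rw [MonoidHom.transfer_eq_pow (MonoidHom.id ↥(T : Subgroup ↥G)) (ι e0) hkey] at h0
    have hpw : ι e0 ^ (T : Subgroup ↥G).index = 1 := congrArg Subtype.val h0
    have h2 : orderOf (ι e0) = 2 := by
      rw [orderOf_injective ι hι]
      exact orderOf_eq_prime_iff.2 ⟨by decide, by decide⟩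
    exact hidx (by have := orderOf_dvd_of_pow_eq_one hpw; rwa [h2] at this)
  · rw [hNcard, h7]

omit A in
theorem centralizer_map {G : Type*} [Group G] (H : Subgroup G) (e : G ≃* G) :
    Subgroup.centralizer (H.map e.toMonoidHom : Set G) = (Subgroup.centralizer (H : Set G)).map e.toMonoidHom := by
  ext x
  rw [Subgroup.mem_map_equiv, Subgroup.mem_centralizer_iff, Subgroup.mem_centralizer_iff]
  constructor
  · intro h y hy
    apply e.injective
    simpa using h (e y) ⟨y, hy, rfl⟩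
  · rintro h _ ⟨y, hy, rfl⟩
    apply e.symm.injective
    simpa using h y hy


end

/-- In the small Ree group ²G₂(q), q = 3^(2m+1) with m ≥ 1, realised as G¹ inside the Chevalley group G₂ over the field with q elements (θ the 3^m-th power map): a Sylow 2-subgroup `S` of `G¹` satisfies `C(S) = S` and `|N(S)| = 168`. -/
theorem result {K : Type*} [Field K] [Fintype K] {m : ℕ} (hm : 1 ≤ m) (hK : Fintype.card K = 3 ^ (2 * m + 1))
    (S : Sylow 2 ↥(Cfsg.Lie.twistedG2 K (3 ^ m))) :
    Subgroup.centralizer ((S : Subgroup ↥(Cfsg.Lie.twistedG2 K (3 ^ m))) : Set ↥(Cfsg.Lie.twistedG2 K (3 ^ m))) = S ∧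
      Nat.card (Subgroup.normalizer ((S : Subgroup ↥(Cfsg.Lie.twistedG2 K (3 ^ m))) : Set ↥(Cfsg.Lie.twistedG2 K (3 ^ m)))) = 168 := by
  obtain ⟨A⟩ := Lib.Chev.Tw.G2.exists_par (K := K) hK
  obtain ⟨T, h1, h2⟩ := main A hm
  obtain ⟨g, rfl⟩ := MulAction.exists_smul_eq ↥(twistedG2 K (3 ^ m)) T S
  have e : ((g • T : Sylow 2 ↥(twistedG2 K (3 ^ m))) : Subgroup ↥(twistedG2 K (3 ^ m))) =
      (T : Subgroup ↥(twistedG2 K (3 ^ m))).map (MulAut.conj g).toMonoidHom := rfl
  refine ⟨?_, ?_⟩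
  · rw [e, centralizer_map, h1]
  · rw [e, ← Subgroup.map_equiv_normalizer_eq, Subgroup.card_map_of_injective (MulAut.conj g).injective, h2]

end Cfsg.Agent.S1157
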