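import Cfsg.Statements.S1160
import Cfsg.Agent.S0126
import Cfsg.Agent.Lib.Solvable.Nilpotent
import Cfsg.Agent.Lib.Frobenius.UniqueSubgroup

set_option autoImplicit false
open Cfsg

namespace Cfsg.Agent.S1160

open Subgroup Finset

variable {P E : Type*} [Group P] [AddCommGroup E] [DistribMulAction P E]

/-- the sum over the powers of `h` -/
def nsum (p : ℕ) (h : P) (x : E) : E := ∑ m ∈ range p, h ^ m • x

theorem smul_nsum {p : ℕ} {h : P} (hp : h ^ p = 1) (x : E) : h • nsum p h x = nsum p h x := by
  have h1 : h • nsum p h x = ∑ m ∈ range p, h ^ (m + 1) • x := by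
    simp only [nsum, smul_sum, smul_smul, pow_succ']
  have h2 := Finset.sum_range_succ' (fun m => h ^ m • x) p
  have h3 := Finset.sum_range_succ (fun m => h ^ m • x) p
  rw [h1]
  rw [hp, one_smul] at h3
  rw [pow_zero, one_smul] at h2
  exact add_right_cancel (h2.symm.trans h3)

theorem nsum_sub {p : ℕ} {h : P} (hp : h ^ p = 1) (y : E) : nsum p h (h • y - y) = 0 := by
  have h1 : nsum p h (h • y - y) = h • nsum p h y - nsum p h y := by
    simp only [nsum, smul_sub, sum_sub_distrib, smul_sum, smul_smul, ← pow_succ, ← pow_succ']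
  rw [h1, smul_nsum hp, sub_self]

theorem nsum_of_fixed {p : ℕ} {h : P} {x : E} (hx : h • x = x) : nsum p h x = p • x := by
  have : ∀ m : ℕ, h ^ m • x = x := fun m => by
    induction m with
    | zero => simp
    | succ m ih => rw [pow_succ, mul_smul, hx, ih]
  simp [nsum, this]

theorem eq_zero_of_nsmul {p q : ℕ} (hpq : p.Coprime q) {x : E} (hq : q • x = 0) (hp : p • x = 0) :
    x = 0 :=
  AddMonoid.addOrderOf_eq_one_iff.mp (Nat.eq_one_of_dvd_coprimes hpq
    (addOrderOf_dvd_of_nsmul_eq_zero hp) (addOrderOf_dvd_of_nsmul_eq_zero hq))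

theorem false_of_equal_stabilizers {p q : ℕ} [Finite P] [FaithfulSMul P E] (hpq : p.Coprime q)
    (hE : ∀ e : E, q • e = 0) {S : Subgroup P} (hS : S ≠ ⊥)
    (hfix : ∀ g ∈ S, ∀ x : E, g • (p • x) = p • x) : False := by
  obtain ⟨g, hg, hg1⟩ := S.bot_or_exists_ne_one.resolve_left hS
  refine hg1 (FaithfulSMul.eq_of_smul_eq_smul fun x : E => ?_)
  rw [one_smul]
  refine sub_eq_zero.mp (eq_zero_of_nsmul hpq (hE _) ?_)
  rw [nsmul_sub, ← hfix g hg x, smul_comm, sub_self]

theorem fixed_contra [Finite P] [Finite E] [FaithfulSMul P E]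
    {p q : ℕ} [Fact p.Prime] (hp2 : p ≠ 2) (hP : IsPGroup p P) (hq : q.Prime)
    (hE : ∀ e : E, q • e = 0)
    (hconst : ∀ a b : E, a ≠ 0 → b ≠ 0 →
      Nat.card (MulAction.stabilizer P a) = Nat.card (MulAction.stabilizer P b))
    {g : P} (hg : g ≠ 1) {a : E} (ha0 : a ≠ 0) (ha : g • a = a) : False := by
  classical
  have hpp := (Fact.out : p.Prime)
  -- all point stabilizers are non-trivial
  have hne : ∀ x : E, x ≠ 0 → MulAction.stabilizer P x ≠ ⊥ := by
    intro x hx h
    have h1 := hconst a x ha0 hx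
    rw [h, Subgroup.card_bot, Subgroup.card_eq_one] at h1
    exact hg (Subgroup.mem_bot.mp (h1 ▸ (MulAction.mem_stabilizer_iff.mpr ha)))
  have heq : ∀ x y : E, x ≠ 0 → y ≠ 0 → x + y ≠ 0 →
      MulAction.stabilizer P (x + y) ≤ MulAction.stabilizer P x ⊓ MulAction.stabilizer P y →
      MulAction.stabilizer P x = MulAction.stabilizer P y := by
    intro x y hx hy hxy hle
    rw [← Subgroup.eq_of_le_of_card_ge (hle.trans inf_le_left) (hconst x (x + y) hx hxy).le,
      Subgroup.eq_of_le_of_card_ge (hle.trans inf_le_right) (hconst y (x + y) hy hxy).le]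
  -- a global fixed point is impossible
  have hglob : ∀ x : E, x ≠ 0 → MulAction.stabilizer P x ≠ ⊤ := by
    intro x hx h
    refine hg (FaithfulSMul.eq_of_smul_eq_smul fun y : E => ?_)
    rw [one_smul]
    by_cases hy : y = 0
    · rw [hy, smul_zero]
    · have h1 := hconst x y hx hy
      rw [h, Subgroup.card_top] at h1
      have := Subgroup.eq_top_of_card_eq _ h1.symm
      exact MulAction.mem_stabilizer_iff.mp (this ▸ Subgroup.mem_top g)
  have hpq : p.Coprime q := by
    refine (Nat.coprime_primes hpp hq).mpr fun h => ?_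
    subst h
    have hdvd : p ∣ Nat.card E := by
      have hne1 : addOrderOf a ≠ 1 := fun h => ha0 (AddMonoid.addOrderOf_eq_one_iff.mp h)
      have := addOrderOf_dvd_natCard a
      rcases (Nat.dvd_prime hpp).mp (addOrderOf_dvd_of_nsmul_eq_zero (hE a)) with h | h
      · exact absurd h hne1
      · rwa [h] at this
    obtain ⟨b, hb, hb0⟩ := hP.exists_fixed_point_of_prime_dvd_card_of_fixed_point E hdvd
      (a := 0) (fun m => smul_zero m)
    exact hglob b hb0.symm (Subgroup.eq_top_iff' _ |>.mpr fun m => hb m)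
  have hcyc : ¬ IsCyclic P := by
    intro hc
    -- a cyclic group: the subgroup of order `p` lies in every stabilizer
    obtain ⟨c, hc'⟩ := IsCyclic.exists_ofOrder_eq_natCard (α := P)
    obtain ⟨n, hn⟩ := IsPGroup.iff_card.mp hP
    have hn0 : n ≠ 0 := fun h => hg (by
      haveI : Subsingleton P := (Nat.card_eq_one_iff_unique.mp (by rw [hn, h, pow_zero])).1
      exact Subsingleton.elim _ _)
    refine false_of_equal_stabilizers hpq hE (S := zpowers (c ^ p ^ (n - 1))) ?_ ?_
    · rw [Ne, zpowers_eq_bot]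
      intro h
      have := orderOf_dvd_of_pow_eq_one h
      rw [hc', hn] at this
      exact absurd (Nat.le_of_dvd (pow_pos hpp.pos _) this)
        (not_le.mpr (Nat.pow_lt_pow_right hpp.one_lt (by omega)))
    · intro h hh x
      by_cases hx : p • x = 0
      · rw [hx, smul_zero]
      refine MulAction.mem_stabilizer_iff.mp ((zpowers_le.mpr ?_ : _ ≤ MulAction.stabilizer P (p • x)) hh)
      obtain ⟨k, hk⟩ := (hP.to_subgroup (MulAction.stabilizer P (p • x))).exists_card_eq
      have hk0 : k ≠ 0 := fun h => hne _ hx (Subgroup.eq_bot_of_card_eq _ (by rw [hk, h, pow_zero]))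
      obtain ⟨w, hw⟩ := exists_prime_orderOf_dvd_card' (G := ↥(MulAction.stabilizer P (p • x))) p
        (hk ▸ dvd_pow_self p hk0)
      have hmem : c ^ p ^ (n - 1) ∈ zpowers (w : P) := by
        have h1 : orderOf (c ^ p ^ (n - 1)) = p := by
          rw [orderOf_pow' _ (pow_ne_zero _ hpp.ne_zero), hc', hn,
            Nat.gcd_eq_right (pow_dvd_pow p (Nat.sub_le n 1)),
            Nat.pow_div (Nat.sub_le n 1) hpp.pos, show n - (n - 1) = 1 by omega, pow_one]
        have htop : zpowers c = ⊤ := Subgroup.eq_top_of_card_eq _ (by rw [Nat.card_zpowers, hc'])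
        obtain ⟨t, ht⟩ := (isOfFinOrder_of_finite c).mem_powers_iff_mem_zpowers.mpr
          (htop ▸ Subgroup.mem_top (w : P))
        have hwp : (w : P) ^ p = 1 := orderOf_dvd_iff_pow_eq_one.mp
          (by rw [Subgroup.orderOf_coe, hw])
        simp only at ht
        rw [← ht, ← pow_mul] at hwp
        have hd := orderOf_dvd_of_pow_eq_one hwp
        rw [hc', hn, show p ^ n = p ^ (n - 1) * p by rw [← pow_succ]; congr 1; omega] at hd
        obtain ⟨s, hs⟩ := Nat.dvd_of_mul_dvd_mul_right hpp.pos hd
        have hle : zpowers (w : P) ≤ zpowers (c ^ p ^ (n - 1)) := by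
          rw [zpowers_le, ← ht, hs, pow_mul]
          exact pow_mem (mem_zpowers _) s
        rw [Subgroup.eq_of_le_of_card_ge hle
          (by rw [Nat.card_zpowers, Nat.card_zpowers, h1, Subgroup.orderOf_coe, hw])]
        exact mem_zpowers _
      exact (zpowers_le.mpr w.2) hmem
  obtain ⟨A, hAn, hA, hAc⟩ := Cfsg.Agent.S0126.result hp2 hP hcyc
  haveI := hAn
  haveI : Group.IsNilpotent P := hP.isNilpotent
  have hAne : A ≠ ⊥ := fun h => by
    rw [h, Subgroup.card_bot] at hAc
    exact (Nat.one_lt_pow two_ne_zero hpp.one_lt).ne hAc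
  obtain ⟨z, hzA, hz1⟩ := (Subgroup.bot_or_exists_ne_one _).resolve_left
    (Cfsg.Agent.Lib.Solvable.inf_center_ne_bot hAne : A ⊓ center P ≠ ⊥)
  have hz : orderOf z = p := orderOf_eq_prime (hA.2 z hzA.1) hz1
  have hzp : z ^ p = 1 := hA.2 z hzA.1
  have hzc : ∀ h : P, h * z = z * h := fun h => Subgroup.mem_center_iff.mp hzA.2 h
  -- `z` is fixed-point-free
  have hzf : ∀ x : E, z • x = x → x = 0 := by
    intro x hx
    by_contra hx0
    obtain ⟨y, hy⟩ : ∃ y : E, z • y - y ≠ 0 := by
      by_contra hno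
      push Not at hno
      exact hz1 (FaithfulSMul.eq_of_smul_eq_smul fun y : E => by
        rw [one_smul]; exact sub_eq_zero.mp (hno y))
    have hzn : ∀ h : P, ∀ u : E, z • u = u → z • h • u = h • u := fun h u hu => by
      rw [← mul_smul, ← hzc, mul_smul, hu]
    have key : ∀ w y : E, z • w = w → w ≠ 0 → z • y - y ≠ 0 →
        MulAction.stabilizer P w = MulAction.stabilizer P (z • y - y) := by
      intro w y hw hw0 hy
      have hsep : ∀ u v : E, z • u = u → u = z • v - v → u = 0 := fun u v hu huv => by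
        refine eq_zero_of_nsmul hpq (hE u) ?_
        rw [← nsum_of_fixed hu, huv, nsum_sub hzp]
      refine heq _ _ hw0 hy (fun h => ?_) fun h hh => ?_
      · refine hw0 (hsep w (-y) hw ?_)
        rw [eq_neg_of_add_eq_zero_left h, smul_neg]; abel
      · rw [MulAction.mem_stabilizer_iff, smul_add] at hh
        have h0 : h • w - w = 0 := by
          refine hsep _ (y - h • y) ?_ ?_
          · rw [smul_sub, hzn h w hw, hw]
          · have e : h • (z • y - y) = z • h • y - h • y := by
              rw [smul_sub, ← mul_smul, hzc, mul_smul]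
            rw [e] at hh
            have e2 : h • w - w = (z • y - y) - (z • h • y - h • y) := by
              rw [sub_eq_sub_iff_add_eq_add, hh, add_comm]
            rw [e2, smul_sub]; abel
        have h0' := sub_eq_zero.mp h0
        rw [h0', add_right_inj] at hh
        exact ⟨h0', hh⟩
    refine false_of_equal_stabilizers hpq hE (hne x hx0) fun h hh u => ?_
    have hdec : p • u = nsum p z u + ∑ m ∈ range p, (u - z ^ m • u) := by
      rw [sum_sub_distrib, sum_const, card_range, nsum]; abel
    rw [hdec, smul_add, smul_sum]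
    congr 1
    · by_cases hn : nsum p z u = 0
      · rw [hn, smul_zero]
      · rw [key x y hx hx0 hy, ← key (nsum p z u) y (smul_nsum hzp u) hn hy] at hh
        exact hh
    · refine sum_congr rfl fun m hm => ?_
      clear hm
      induction m with
      | zero => simp
      | succ m ih =>
        have e : u - z ^ (m + 1) • u = (u - z ^ m • u) - (z • (z ^ m • u) - z ^ m • u) := by
          rw [pow_succ', mul_smul]; abel
        rw [e, smul_sub, ih]
        congr 1
        by_cases hd : z • (z ^ m • u) - z ^ m • u = 0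
        · rw [hd, smul_zero]
        · rw [key x (z ^ m • u) hx hx0 hd] at hh; exact hh
  -- the lines of `A` other than `⟨z⟩`
  obtain ⟨b, hbA, hbz⟩ : ∃ b ∈ A, b ∉ zpowers z := by
    refine SetLike.not_le_iff_exists.mp fun hle => ?_
    have := card_dvd_of_le hle
    rw [hAc, Nat.card_zpowers, hz] at this
    exact absurd (Nat.le_of_dvd hpp.pos this) (not_le.mpr (lt_self_pow₀ hpp.one_lt one_lt_two))
  have hbz' : Commute b z := hzc b
  haveI : NeZero p := ⟨hpp.ne_zero⟩
  let l : ZMod p → P := fun i => b * z ^ i.val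
  have hlA : ∀ i, l i ∈ A := fun i => mul_mem hbA (pow_mem hzA.1 _)
  have hlp : ∀ i, l i ^ p = 1 := fun i => hA.2 _ (hlA i)
  have hzpow : ∀ k : ℕ, (k : ZMod p) ≠ 0 → z ∈ zpowers (z ^ k) := fun k hk => by
    obtain ⟨m, hm⟩ := exists_pow_eq_self_of_coprime (n := k) (x := z) (by
      rw [hz]
      refine Nat.Coprime.symm (hpp.coprime_iff_not_dvd.mpr fun hd => hk ?_)
      exact (ZMod.natCast_eq_zero_iff _ _).mpr hd)
    have := pow_mem (mem_zpowers (z ^ k)) m
    rwa [hm] at this
  have hpowmod : ∀ u v : ℕ, (u : ZMod p) = v → z ^ u = z ^ v := fun u v h => by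
    rw [pow_eq_pow_iff_modEq, hz]; exact (ZMod.natCast_eq_natCast_iff _ _ _).mp h
  -- `nsum` of one line on the fixed points of another
  have hkill : ∀ k i : ZMod p, k ≠ i → ∀ x : E, l i • x = x → nsum p (l k) x = 0 := by
    intro k i hki x hx
    have hd : l k = z ^ (k - i).val * l i := by
      show b * z ^ k.val = z ^ (k - i).val * (b * z ^ i.val)
      rw [← mul_assoc, (hbz'.pow_right _).symm.eq, mul_assoc, ← pow_add]
      congr 1
      exact hpowmod _ _ (by simp)
    have hw : ∀ m : ℕ, l k ^ m • x = (z ^ (k - i).val) ^ m • x := by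
      intro m
      have hc : Commute (z ^ (k - i).val) (l i) :=
        ((Commute.mul_left hbz' (Commute.pow_self z _)).pow_right _).symm
      rw [hd, hc.mul_pow, mul_smul]
      congr 1
      induction m with
      | zero => simp
      | succ m ih => rw [pow_succ, mul_smul, hx, ih]
    have e : nsum p (l k) x = nsum p (z ^ (k - i).val) x := sum_congr rfl fun m _ => hw m
    rw [e]
    refine hzf _ ?_
    have hstab : z ^ (k - i).val ∈ MulAction.stabilizer P (nsum p (z ^ (k - i).val) x) :=
      smul_nsum (by rw [← pow_mul, mul_comm, pow_mul, hzp, one_pow]) x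
    refine MulAction.mem_stabilizer_iff.mp ((zpowers_le.mpr hstab) (hzpow _ ?_))
    rw [ZMod.natCast_zmod_val]; exact sub_ne_zero.mpr hki
  have hmulp : ∀ x y : E, p • x = p • y → x = y := fun x y h =>
    sub_eq_zero.mp (eq_zero_of_nsmul hpq (hE _) (by rw [nsmul_sub, h, sub_self]))
  have hdisj : ∀ k i : ZMod p, k ≠ i → ∀ x : E, l k • x = x → l i • x = x → x = 0 :=
    fun k i hki x hk hi => eq_zero_of_nsmul hpq (hE x) (by rw [← nsum_of_fixed hk, hkill k i hki x hi])
  -- decomposition
  have hdec : ∀ x : E, p • x = ∑ i : ZMod p, nsum p (l i) x := by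
    intro x
    simp only [nsum]
    rw [sum_comm]
    have hterm : ∀ m ∈ range p, ∑ i : ZMod p, l i ^ m • x = if m = 0 then p • x else 0 := by
      intro m hm
      split_ifs with h
      · subst h; simp [ZMod.card]
      have hm0 : (m : ZMod p) ≠ 0 := fun h' =>
        h (Nat.eq_zero_of_dvd_of_lt ((ZMod.natCast_eq_zero_iff _ _).mp h') (mem_range.mp hm))
      have h1 : ∀ i : ZMod p, l i ^ m • x = b ^ m • (z ^ (i * m).val • x) := by
        intro i
        rw [← mul_smul, (hbz'.pow_right _).mul_pow, ← pow_mul]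
        congr 2
        exact hpowmod _ _ (by simp)
      simp only [h1, ← smul_sum]
      have h2 : (∑ i : ZMod p, z ^ (i * m).val • x) = ∑ j : ZMod p, z ^ j.val • x :=
        Fintype.sum_equiv (Equiv.mulRight₀ (m : ZMod p) hm0) _ _ fun i => rfl
      rw [h2]
      have h3 : (∑ j : ZMod p, z ^ j.val • x) = 0 := by
        refine hzf _ ?_
        rw [smul_sum]
        refine Fintype.sum_equiv (Equiv.addRight (1 : ZMod p)) _ _ fun j => ?_
        rw [← mul_smul, ← pow_succ']
        congr 1
        exact hpowmod _ _ (by simp)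
      rw [h3, smul_zero]
    rw [sum_congr rfl hterm, sum_ite_eq' (range p) 0 (fun _ => p • x),
      if_pos (mem_range.mpr hpp.pos)]
  -- `g` permutes the fixed point sets
  have hperm : ∀ h : P, ∀ i : ZMod p, ∃ j : ZMod p, ∀ x : E, l i • x = x → l j • (h • x) = h • x := by
    intro h i
    have hm : h * l i * h⁻¹ ∈ A := hAn.conj_mem _ (hlA i) h
    have hsup : A = zpowers b ⊔ zpowers z := by
      refine (Subgroup.eq_of_le_of_card_ge (sup_le (zpowers_le.mpr hbA) (zpowers_le.mpr hzA.1)) ?_).symm
      obtain ⟨k, hk⟩ := (hP.to_subgroup (zpowers b ⊔ zpowers z)).exists_card_eq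
      rw [hAc, hk]
      refine Nat.pow_le_pow_right hpp.pos ?_
      by_contra hlt
      have h1 : zpowers z = zpowers b ⊔ zpowers z := Subgroup.eq_of_le_of_card_ge le_sup_right (by
        rw [hk, Nat.card_zpowers, hz]
        calc p ^ k ≤ p ^ 1 := Nat.pow_le_pow_right hpp.pos (by omega)
          _ = p := pow_one p)
      exact hbz (h1.symm ▸ mem_sup_left (mem_zpowers b))
    rw [hsup] at hm
    haveI : (zpowers z).Normal := ⟨fun w hw u => by
        obtain ⟨k, rfl⟩ := mem_zpowers_iff.mp hw
        rw [((Commute.zpow_right (hzc u) k)).eq, mul_inv_cancel_right]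
        exact zpow_mem (mem_zpowers z) k⟩
    obtain ⟨b', hb', z', hz', he⟩ := Subgroup.mem_sup_of_normal_right.mp hm
    obtain ⟨u, rfl⟩ := (isOfFinOrder_of_finite b).mem_powers_iff_mem_zpowers.mpr hb'
    obtain ⟨v, rfl⟩ := (isOfFinOrder_of_finite z).mem_powers_iff_mem_zpowers.mpr hz'
    simp only at he
    have hu : (u : ZMod p) ≠ 0 := by
      intro h0
      obtain ⟨d, hd⟩ := (ZMod.natCast_eq_zero_iff u p).mp h0
      rw [hd, pow_mul, hA.2 b hbA, one_pow, one_mul] at he
      have : l i = h⁻¹ * z ^ v * h := by rw [he]; group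
      rw [mul_assoc, ← (Commute.pow_right (hzc h) v).eq, inv_mul_cancel_left] at this
      have hb : b = z ^ v * (z ^ i.val)⁻¹ := eq_mul_inv_of_mul_eq this
      exact hbz (hb ▸ mul_mem (pow_mem (mem_zpowers z) _) (inv_mem (pow_mem (mem_zpowers z) _)))
    refine ⟨(v : ZMod p) / u, fun x hx => ?_⟩
    have he' : l ((v : ZMod p) / u) ^ u = h * l i * h⁻¹ := by
      rw [← he, (hbz'.pow_right _).mul_pow, ← pow_mul]
      congr 1
      exact hpowmod _ _ (by simp [div_mul_cancel₀ _ hu])
    have hfix : l ((v : ZMod p) / u) ^ u • h • x = h • x := by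
      rw [he', ← mul_smul, inv_mul_cancel_right, mul_smul, hx]
    obtain ⟨m, hm⟩ := exists_pow_eq_self_of_coprime (n := u) (x := l ((v : ZMod p) / u))
      ((Nat.Coprime.symm (hpp.coprime_iff_not_dvd.mpr fun hd =>
        hu ((ZMod.natCast_eq_zero_iff _ _).mpr hd))).coprime_dvd_right
          (orderOf_dvd_of_pow_eq_one (hlp _)))
    have := (pow_mem (MulAction.mem_stabilizer_iff.mpr hfix) m : _ ∈ MulAction.stabilizer P (h • x))
    rw [hm] at this
    exact this
  have hkey : ∀ i j : ZMod p, i ≠ j → ∀ x y : E, l i • x = x → l j • y = y → x ≠ 0 → y ≠ 0 →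
      MulAction.stabilizer P x = MulAction.stabilizer P y := by
    intro i j hij x y hx hy hx0 hy0
    refine heq x y hx0 hy0 (fun h => hx0 (hdisj i j hij x hx ?_)) fun h hh => ?_
    · rw [eq_neg_of_add_eq_zero_left h, smul_neg, hy]
    rw [MulAction.mem_stabilizer_iff, smul_add] at hh
    obtain ⟨i', hi'⟩ := hperm h i
    obtain ⟨j', hj'⟩ := hperm h j
    have hu := hi' x hx
    have hv := hj' y hy
    have hN : ∀ k, nsum p (l k) (h • x) + nsum p (l k) (h • y) = nsum p (l k) x + nsum p (l k) y :=
      fun k => by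
        simp only [nsum, ← sum_add_distrib, ← smul_add, hh]
    by_cases hii : i' = i
    · by_cases hji : j' = i
      · exfalso
        rw [hji] at hv; rw [hii] at hu
        have hxy : l i • (x + y) = x + y := by rw [← hh, smul_add, hu, hv]
        rw [smul_add, hx, add_right_inj] at hxy
        exact hy0 (hdisj i j hij y hxy hy)
      rw [hii] at hu
      have h1 := hN i
      rw [nsum_of_fixed hu, hkill i j' (Ne.symm hji) _ hv, nsum_of_fixed hx, hkill i j hij _ hy,
        add_zero, add_zero] at h1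
      have hxx := hmulp _ _ h1
      rw [hxx, add_right_inj] at hh
      exact ⟨hxx, hh⟩
    · exfalso
      have hji : j' = i := by
        by_contra hji
        have h1 := hN i
        rw [hkill i i' (Ne.symm hii) _ hu, hkill i j' (Ne.symm hji) _ hv, nsum_of_fixed hx,
          hkill i j hij _ hy, add_zero, add_zero] at h1
        exact hx0 (eq_zero_of_nsmul hpq (hE x) h1.symm)
      rw [hji] at hv
      have h1 := hN i
      rw [hkill i i' (Ne.symm hii) _ hu, nsum_of_fixed hv, nsum_of_fixed hx, hkill i j hij _ hy,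
        zero_add, add_zero] at h1
      have hyx := hmulp _ _ h1
      rw [hyx, add_comm, add_right_inj] at hh
      have h2 : h ^ 2 ∈ MulAction.stabilizer P x := by
        rw [MulAction.mem_stabilizer_iff, pow_two, mul_smul, hh, hyx]
      obtain ⟨k, hk⟩ := IsPGroup.iff_orderOf.mp hP h
      obtain ⟨m, hm⟩ := exists_pow_eq_self_of_coprime (n := 2) (x := h)
        (by rw [hk]; exact Nat.Coprime.pow_right _ ((Nat.coprime_primes Nat.prime_two hpp).mpr (Ne.symm hp2)))
      have hxx : h • x = x := MulAction.mem_stabilizer_iff.mp (hm ▸ pow_mem h2 m)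
      rw [hh] at hxx
      exact hx0 (hdisj i j hij x hx (hxx ▸ hy))
  obtain ⟨x, hx⟩ : ∃ x : E, x ≠ 0 := ⟨a, ha0⟩
  obtain ⟨i, hi⟩ : ∃ i : ZMod p, nsum p (l i) x ≠ 0 := by
    by_contra hno
    push Not at hno
    exact hx (eq_zero_of_nsmul hpq (hE x) (by rw [hdec]; exact sum_eq_zero fun i _ => hno i))
  obtain ⟨j, y, hji, hy⟩ : ∃ (j : ZMod p) (y : E), j ≠ i ∧ nsum p (l j) y ≠ 0 := by
    by_contra hno
    push Not at hno
    have hone : l i = 1 := FaithfulSMul.eq_of_smul_eq_smul fun u : E => by
      rw [one_smul]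
      refine hmulp _ _ ?_
      have e : p • u = nsum p (l i) u := by
        rw [hdec, sum_eq_single i (fun j _ hj => hno j u hj) (by simp)]
      rw [smul_comm, e, smul_nsum (hlp i)]
    have hb : b = (z ^ i.val)⁻¹ := eq_inv_of_mul_eq_one_left hone
    exact hbz (hb ▸ inv_mem (pow_mem (mem_zpowers z) _))
  refine false_of_equal_stabilizers hpq hE (hne _ hi) fun h hh u => ?_
  rw [hdec, smul_sum]
  refine sum_congr rfl fun k _ => ?_
  by_cases hk : nsum p (l k) u = 0
  · rw [hk, smul_zero]
  by_cases hki : k = i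
  · subst hki
    rw [hkey k j hji.symm _ _ (smul_nsum (hlp k) x) (smul_nsum (hlp j) y) hi hy,
      ← hkey k j hji.symm _ _ (smul_nsum (hlp k) u) (smul_nsum (hlp j) y) hk hy] at hh
    exact hh
  · rw [hkey i k (Ne.symm hki) _ _ (smul_nsum (hlp i) x) (smul_nsum (hlp k) u) hi hk] at hh
    exact hh

/-- Let `p ≠ 2` be prime and `P` a finite `p`-group acting faithfully by additive automorphisms on a finite elementary abelian `q`-group `E` (`q` prime), such that `|P_a|` is the same for all `a ≠ 0`. Then `P` is cyclic and every non-identity element of `P` fixes only `0`. -/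
theorem result {P E : Type*} [Group P] [Finite P]
    [AddCommGroup E] [Finite E] [DistribMulAction P E] [FaithfulSMul P E]
    {p q : ℕ} [Fact p.Prime] (hp2 : p ≠ 2) (hP : IsPGroup p P) (hq : q.Prime) (hE : ∀ e : E, q • e = 0)
    (hconst : ∀ a b : E, a ≠ 0 → b ≠ 0 →
      Nat.card (MulAction.stabilizer P a) = Nat.card (MulAction.stabilizer P b)) :
    IsCyclic P ∧ ∀ g : P, g ≠ 1 → ∀ a : E, g • a = a → a = 0 := by
  classical
  have hpp := (Fact.out : p.Prime)
  by_cases hEs : Subsingleton E
  · haveI : Subsingleton P := ⟨fun a b => FaithfulSMul.eq_of_smul_eq_smul fun e : E =>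
      Subsingleton.elim _ _⟩
    exact ⟨inferInstance, fun g hg => absurd (Subsingleton.elim g 1) hg⟩
  haveI : Nontrivial E := not_subsingleton_iff_nontrivial.mp hEs
  have hfpf : ∀ g : P, g ≠ 1 → ∀ a : E, g • a = a → a = 0 := by
    intro g hg a ha
    by_contra ha0
    exact absurd (fixed_contra hp2 hP hq hE hconst hg ha0 ha) id
  refine ⟨?_, hfpf⟩
  let φ : P →* MulAut (Multiplicative E) := MonoidHom.mk'
    (fun g => AddEquiv.toMultiplicative (DistribMulAction.toAddEquiv E g))
    (fun g h => MulEquiv.ext fun x => by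
      show Multiplicative.ofAdd ((g * h) • x.toAdd) = _
      rw [mul_smul]; rfl)
  haveI : Finite (Multiplicative E) := Finite.of_equiv E Multiplicative.ofAdd
  have hc := Cfsg.Agent.Lib.Frobenius.isCyclic_or_quaternion_of_fixedPointFree φ
    (fun g hg x hx => by
      have := hfpf g hg x.toAdd (congrArg Multiplicative.toAdd hx)
      exact congrArg Multiplicative.ofAdd this)
    (⊤ : Subgroup P) (hP.to_subgroup ⊤) (p := p)
  haveI := hc.resolve_right fun h => hp2 h.1
  exact isCyclic_of_surjective (Subgroup.topEquiv : (⊤ : Subgroup P) ≃* P).toMonoidHom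
    Subgroup.topEquiv.surjective

end Cfsg.Agent.S1160
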