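import Cfsg.Statements.S1167
import Cfsg.Agent.Lib.OddLocal.ZassenhausDerive

set_option autoImplicit false
open Cfsg

namespace Cfsg.Agent.S1167

/-- Let `G` be a finite simple Zassenhaus group on `Ω`, `U` a normal subgroup of `G_a` regular on `Ω` minus `a` which is an abelian 2-group, and `v` an involution with `v • a ≠ a`. Then there is a unique `u₀ ∈ U`, `u₀ ≠ 1`, with `v u₀ v = u₀ v u₀`. -/
theorem result {G Ω : Type*} [Group G] [Finite G] [MulAction G Ω] [Finite Ω]
    (hZ : Cfsg.IsZassenhausGroup G Ω) [IsSimpleGroup G] {a : Ω}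
    (U : Subgroup G) (hUle : U ≤ MulAction.stabilizer G a)
    (hUn : ∀ h ∈ MulAction.stabilizer G a, ∀ u ∈ U, h * u * h⁻¹ ∈ U)
    (hreg : ∀ c d : Ω, c ≠ a → d ≠ a → ∃! u : U, (u : G) • c = d)
    (hU2 : IsPGroup 2 U) (hUab : ∀ u ∈ U, ∀ u' ∈ U, u * u' = u' * u)
    (v : G) (hv1 : v ≠ 1) (hv2 : v * v = 1) (hva : v • a ≠ a) :
    ∃! u₀ : G, u₀ ∈ U ∧ u₀ ≠ 1 ∧ v * u₀ * v = u₀ * v * u₀ := by
  classical
  haveI := Fintype.ofFinite Ω
  set b := v • a with hb
  have hab : a ≠ b := Ne.symm hva
  have hvb : v • b = a := by rw [hb, ← mul_smul, hv2, one_smul]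
  have K := Lib.OddLocal.ZassPSL.ker_of_reg hZ hab hUle hreg
  set e := Nat.card ↥(MulAction.stabilizer G a ⊓ MulAction.stabilizer G b : Subgroup G)
  have hUc : IsMulCommutative U := ⟨⟨fun x y => Subtype.ext (hUab x x.2 y y.2)⟩⟩
  have hle := Lib.OddLocal.ZassPSL.le_two_mul K hUc
  have hh := K.hh
  have hh1 := K.one_lt_h
  obtain ⟨-, p, f, hp, hexp, hΩ⟩ := Lib.Perm.kernel_elementary hZ hab
    (show Fintype.card Ω - 2 ≤ 2 * e by omega) U hUle (Lib.OddLocal.ZassPSL.normal_of_ker K) hreg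
  haveI : Fact (Nat.Prime 2) := ⟨Nat.prime_two⟩
  obtain ⟨m, hm⟩ := IsPGroup.iff_card.mp hU2
  have hm0 : m ≠ 0 := by
    rintro rfl
    rw [pow_zero, K.hHcard] at hm
    omega
  have hp2 : p = 2 := by
    obtain ⟨m', rfl⟩ := Nat.exists_eq_succ_of_ne_zero hm0
    have h1 : 2 ∣ p ^ f := ⟨2 ^ m', by rw [← pow_succ']; have := K.hHcard; omega⟩
    exact ((Nat.prime_dvd_prime_iff_eq Nat.prime_two hp).mp (Nat.prime_two.dvd_of_dvd_pow h1)).symm
  -- the fixed point of `v`
  obtain ⟨c, hc⟩ : ∃ c, v • c = c := by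
    by_contra hno
    push Not at hno
    let σ : Equiv.Perm Ω := MulAction.toPerm v
    have hσ : σ ^ 2 ^ 1 = 1 := Equiv.ext fun z => by
      show v • v • z = z
      rw [← mul_smul, hv2, one_smul]
    have hmod := σ.card_compl_support_modEq (p := 2) hσ
    have hcompl : σ.supportᶜ = ∅ := by
      rw [Finset.eq_empty_iff_forall_notMem]
      intro z hz
      rw [Finset.mem_compl, Equiv.Perm.mem_support, not_not] at hz
      exact hno z hz
    obtain ⟨m', rfl⟩ := Nat.exists_eq_succ_of_ne_zero hm0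
    rw [hcompl, Finset.card_empty, hh, ← K.hHcard, hm, pow_succ', Nat.ModEq] at hmod
    omega
  have hva' : v • a = b := hb.symm
  have hca : c ≠ a := fun e' => hab (by rw [e', hva'] at hc; exact hc.symm)
  have hcb : c ≠ b := fun e' => hab (by rw [e', hvb] at hc; exact hc)
  obtain ⟨u, hu, huniq⟩ := hreg b c hab.symm hca
  have huu : (u : G) * u = 1 := by
    have := hexp u u.2
    rwa [hp2, pow_two] at this
  have hua : (u : G) • a = a := hUle u.2
  have huc : (u : G) • c = b := by rw [← hu, ← mul_smul, huu, one_smul]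
  refine ⟨u, ⟨u.2, fun e' => hcb ?_, ?_⟩, ?_⟩
  · rw [← hu, e', one_smul]
  · refine inv_mul_eq_one.mp (K.three hab hcb.symm hca.symm ?_ ?_ ?_)
    · rw [mul_smul, mul_smul, mul_smul, hua, hva', hu, inv_smul_eq_iff, mul_smul, mul_smul, hva', hu, hc]
    · rw [mul_smul, mul_smul, mul_smul, hu, hc, huc, inv_smul_eq_iff, mul_smul, mul_smul, hvb, hua, hva']
    · rw [mul_smul, mul_smul, mul_smul, huc, hvb, hua, inv_smul_eq_iff, mul_smul, mul_smul, hc, huc, hvb]
  · rintro w ⟨hwU, -, hw⟩
    have hwa : w • a = a := hUle hwU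
    have h1 := congrArg (fun g : G => g • a) hw
    simp only [mul_smul, hva', hwa] at h1
    refine congrArg Subtype.val (huniq ⟨w, hwU⟩ ?_)
    show w • b = c
    by_contra hne
    -- `v` fixes `a`'s image only at `c`
    have hwb : w • b ≠ a := fun e' => hab (smul_left_cancel w (hwa.trans e'.symm))
    have hwbb : w • b ≠ b := fun e' => by
      rw [e', hvb] at h1
      exact hab h1
    have hv1' : v = 1 → False := hv1
    apply hv1
    have hfixc : v • (w • b) = w • b := h1
    by_contra hv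
    -- two fixed points and an odd number of points give a third
    let σ : Equiv.Perm Ω := MulAction.toPerm v
    have hσ : σ ^ 2 ^ 1 = 1 := Equiv.ext fun z => by
      show v • v • z = z
      rw [← mul_smul, hv2, one_smul]
    have hmod := σ.card_compl_support_modEq (p := 2) hσ
    have hcompl : σ.supportᶜ = {w • b, c} := by
      ext z
      rw [Finset.mem_compl, Equiv.Perm.mem_support, not_not, Finset.mem_insert, Finset.mem_singleton]
      refine ⟨fun hz => ?_, ?_⟩
      · by_contra hz'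
        push Not at hz'
        exact hv (K.three hne hz'.2.symm hz'.1.symm hfixc hc hz)
      · rintro (rfl | rfl)
        · exact hfixc
        · exact hc
    obtain ⟨m', rfl⟩ := Nat.exists_eq_succ_of_ne_zero hm0
    rw [hcompl, Finset.card_pair hne, hh, ← K.hHcard, hm, pow_succ', Nat.ModEq] at hmod
    omega

end Cfsg.Agent.S1167
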