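import Cfsg.Statements.S1168
import Cfsg.Agent.S1140
import Mathlib.LinearAlgebra.Dimension.Free
import Mathlib.Algebra.CharP.Two
import Mathlib.Tactic.LinearCombination

set_option autoImplicit false
open Cfsg

namespace Cfsg.Agent.S1168

theorem zmod2_cases : ∀ c : ZMod 2, c = 0 ∨ c = 1 := by decide


/-- For a finite field `F` of characteristic 2: if `q : F → F` is quadratic over the prime field, i.e. `(x, y) ↦ q (x + y) + q x + q y` is additive in each variable, then `q x = Σ c_{σ,τ} σ(x) τ(x)` for some coefficients indexed by pairs of field automorphisms. -/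
theorem result {F : Type*} [Field F] [Fintype F] [CharP F 2]
    (q : F → F)
    (hq : ∀ x y z : F, q (x + y + z) + q (x + y) + q (x + z) + q (y + z) + q x + q y + q z = 0) :
    ∃ (s : Finset ((F ≃+* F) × (F ≃+* F))) (c : (F ≃+* F) × (F ≃+* F) → F),
      ∀ x : F, q x = ∑ p ∈ s, c p * (p.1 x * p.2 x) := by
  classical
  obtain ⟨Φ, hΦ⟩ := S1140.exists_coeffs (F := F)
  letI : Algebra (ZMod 2) F := ZMod.algebra F 2
  haveI : Fact (Nat.Prime 2) := ⟨Nat.prime_two⟩
  let V : Submodule F (F → F) :=
    Submodule.span F (Set.range fun p : (F ≃+* F) × (F ≃+* F) => fun x => p.1 x * p.2 x)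
  suffices hq' : q ∈ V by
    obtain ⟨c, hc⟩ := (Submodule.mem_span_range_iff_exists_fun F).mp hq'
    refine ⟨Finset.univ, c, fun x => ?_⟩
    simpa [Finset.sum_apply] using (congrFun hc x).symm
  have hmul : ∀ f g : F →+ F, (fun x => f x * g x) ∈ V := by
    intro f g
    have : (fun x => f x * g x) = ∑ σ : F ≃+* F, ∑ τ : F ≃+* F,
        (Φ f σ * Φ g τ) • (fun x => σ x * τ x) := by
      funext x
      simp only [Finset.sum_apply, Pi.smul_apply, smul_eq_mul]
      rw [hΦ f x, hΦ g x, Finset.sum_mul_sum]
      exact Finset.sum_congr rfl fun σ _ => Finset.sum_congr rfl fun τ _ => by ring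
    rw [this]
    exact sum_mem fun σ _ => sum_mem fun τ _ => V.smul_mem _ (Submodule.subset_span ⟨(σ, τ), rfl⟩)
  have hq0 : q 0 = 0 := by
    have h := hq 0 0 0
    simp only [add_zero] at h
    linear_combination h - 3 * q 0 * CharTwo.two_eq_zero (R := F)
  have hadd : ∀ u v w : F, q (u + (v + w)) + q u + q (v + w) =
      (q (u + v) + q u + q v) + (q (u + w) + q u + q w) := by
    intro u v w
    have h := hq u v w
    rw [add_assoc u v w] at h
    linear_combination h - (q (u + v) + q (u + w) + q v + q w + q u) * CharTwo.two_eq_zero (R := F)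
  let B : F → F →+ F := fun u =>
    { toFun := fun v => q (u + v) + q u + q v
      map_zero' := by
        simp only [add_zero, hq0]
        exact CharTwo.add_self_eq_zero (q u)
      map_add' := fun v w => hadd u v w }
  let b := Module.finBasis (ZMod 2) F
  let ε : Fin (Module.finrank (ZMod 2) F) → (F →+ F) := fun i =>
    (Algebra.linearMap (ZMod 2) F ∘ₗ b.coord i).toAddMonoidHom
  have h01 := zmod2_cases
  have key : ∀ s : Finset (Fin (Module.finrank (ZMod 2) F)),
      (fun x => q (∑ i ∈ s, ε i x * b i)) ∈ V := by
    intro s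
    induction s using Finset.induction_on with
    | empty =>
      have : (fun x : F => q (∑ i ∈ (∅ : Finset (Fin (Module.finrank (ZMod 2) F))), ε i x * b i)) =
          0 := by funext x; simp [hq0]
      rw [this]
      exact V.zero_mem
    | insert i s hi ih =>
      have : (fun x => q (∑ j ∈ insert i s, ε j x * b j)) =
          ((q (b i) • fun x => ε i x * ε i x) + fun x => q (∑ j ∈ s, ε j x * b j)) +
          ∑ j ∈ s, B (b i) (b j) • fun x => ε i x * ε j x := by
        funext x
        simp only [Pi.add_apply, Finset.sum_apply, Pi.smul_apply, smul_eq_mul]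
        rw [Finset.sum_insert hi]
        have hlin : ∀ j, B (b i) (ε j x * b j) = B (b i) (b j) * ε j x := by
          intro j
          rcases h01 (b.coord j x) with h | h
          · rw [show ε j x = 0 by show algebraMap (ZMod 2) F (b.coord j x) = 0; rw [h, map_zero]]
            simp
          · rw [show ε j x = 1 by show algebraMap (ZMod 2) F (b.coord j x) = 1; rw [h, map_one]]
            simp
        rcases h01 (b.coord i x) with h | h
        · rw [show ε i x = 0 by show algebraMap (ZMod 2) F (b.coord i x) = 0; rw [h, map_zero]]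
          simp
        · rw [show ε i x = 1 by show algebraMap (ZMod 2) F (b.coord i x) = 1; rw [h, map_one]]
          simp only [one_mul, mul_one]
          have h2 : B (b i) (∑ j ∈ s, ε j x * b j) = ∑ j ∈ s, B (b i) (b j) * ε j x := by
            rw [map_sum]; exact Finset.sum_congr rfl fun j _ => hlin j
          rw [← h2]
          show _ = _ + (q (b i + ∑ j ∈ s, ε j x * b j) + q (b i) + q (∑ j ∈ s, ε j x * b j))
          linear_combination -(q (b i) + q (∑ j ∈ s, ε j x * b j)) * CharTwo.two_eq_zero (R := F)
      rw [this]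
      exact V.add_mem (V.add_mem (V.smul_mem _ (hmul _ _)) ih)
        (sum_mem fun j _ => V.smul_mem _ (hmul _ _))
  have hall := key Finset.univ
  have heq : (fun x => q (∑ i, ε i x * b i)) = q := by
    funext x
    refine congrArg q (Eq.trans ?_ (b.sum_repr x))
    exact Finset.sum_congr rfl fun i _ => (Algebra.smul_def (b.repr x i) (b i)).symm
  rwa [heq] at hall

end Cfsg.Agent.S1168
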