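import Cfsg.Statements.S1176
import Cfsg.Agent.Lib.Involutions.Basic
-- Template for statement S1176 (row 1176; see /opt/grader/pristine/manifest.json for weights).
-- Copy to Cfsg/Agent/S1176.lean and replace the sorry. The statement below is byte-identical to the frozen
-- statement Cfsg.CfsgFrozen.S1176 (Cfsg/Statements/S1176.lean; the theorem Cfsg.root_involution_condition_of_weak_closure_class_two);
-- the grader kernel-checks Cfsg.Agent.S1176.result against that frozen type. Keep the theorem IN THIS FILE
-- (a `result` declared elsewhere and merely imported here is not credited); helpers may live anywhere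
-- under Cfsg/Agent/.
-- import your own Cfsg.Agent.* helpers here

set_option autoImplicit false
open Cfsg

namespace Cfsg.Agent.S1176

open Cfsg.Agent.Lib.Involutions
open scoped commutatorElement

/-- Let x₀ be an involution of the finite group G and D its conjugacy class. Assume (a) for each x ∈ D the subgroup W(x) generated by the members of D commuting with x is a 2-group of nilpotency class at most 2, and (b) the product of two distinct commuting members of D again lies in D. Then for all x, y ∈ D, if xy has even order greater than 2, its order is 4. -/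
theorem result {G : Type*} [Group G] [Finite G] (x₀ : G) (hx₀ : orderOf x₀ = 2) (ha : ∀ x : G, IsConj x₀ x → IsPGroup 2 ↥(Subgroup.closure {y : G | IsConj x₀ y ∧ Commute y x}) ∧ ⁅⁅Subgroup.closure {y : G | IsConj x₀ y ∧ Commute y x}, Subgroup.closure {y : G | IsConj x₀ y ∧ Commute y x}⁆, Subgroup.closure {y : G | IsConj x₀ y ∧ Commute y x}⁆ = ⊥) (hb : ∀ x y : G, IsConj x₀ x → IsConj x₀ y → x ≠ y → Commute x y → IsConj x₀ (x * y)) (x y : G) (hx : IsConj x₀ x) (hy : IsConj x₀ y) (heven : Even (orderOf (x * y))) (hgt : 2 < orderOf (x * y)) : orderOf (x * y) = 4 := by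
  have hord : ∀ {u : G}, IsConj x₀ u → orderOf u = 2 := by
    intro u hu
    obtain ⟨g, rfl⟩ := isConj_iff.1 hu
    rw [orderOf_conj_eq, hx₀]
  have hx2 := hord hx
  have hy2 := hord hy
  set a := x * y with hadef
  obtain ⟨hz2, hzx, hzy⟩ := central_invol hx2 hy2 heven
  set k := orderOf a / 2 with hk
  have hk2 : orderOf a = 2 * k := (Nat.two_mul_div_two_of_even heven).symm
  set z := a ^ k with hzdef
  have hxz : x * z ≠ x := fun h => invol_ne_one hz2 (mul_left_cancel (h.trans (mul_one x).symm))
  have hzD : IsConj x₀ z := by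
    -- `z x` is conjugate to `x` or to `y`
    have hzxD : IsConj x₀ (z * x) := by
      rcases Nat.even_or_odd k with ⟨i, hi⟩ | ⟨i, hi⟩
      · refine hx.trans (isConj_iff.2 ⟨a ^ (i : ℤ), ?_⟩)
        rw [← zpow_neg, mul_assoc, invol_mul_zpow hx2 hy2, neg_neg, ← mul_assoc, ← zpow_add,
          hzdef, hi, ← zpow_natCast]
        norm_num
      · refine hy.trans (isConj_iff.2 ⟨a ^ ((i : ℤ) + 1), ?_⟩)
        conv_lhs => rw [invol_right_eq hx2 hy2]
        rw [← zpow_neg, mul_assoc, mul_assoc, invol_mul_zpow hx2 hy2, neg_neg, ← mul_assoc,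
          ← mul_assoc, ← zpow_add, ← zpow_add, hzdef, hi, ← zpow_natCast]
        congr 2
        push_cast
        ring
    have hne : z * x ≠ x := fun h => invol_ne_one hz2 (mul_right_cancel (h.trans (one_mul x).symm))
    have hcomm : Commute (z * x) x := hzx.mul_left (Commute.refl x)
    have := hb (z * x) x hzxD hx hne hcomm
    rwa [mul_assoc, invol_mul_self hx2, mul_one] at this
  obtain ⟨hpg, hcl⟩ := ha z hzD
  set W := Subgroup.closure {u : G | IsConj x₀ u ∧ Commute u z} with hW
  have hxW : x ∈ W := Subgroup.subset_closure ⟨hx, hzx.symm⟩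
  have hyW : y ∈ W := Subgroup.subset_closure ⟨hy, hzy.symm⟩
  have h1 : ⁅⁅x, y⁆, x⁆ = 1 := by
    have : ⁅⁅x, y⁆, x⁆ ∈ ⁅⁅W, W⁆, W⁆ :=
      Subgroup.commutator_mem_commutator (Subgroup.commutator_mem_commutator hxW hyW) hxW
    rwa [hcl, Subgroup.mem_bot] at this
  have hxy : ⁅x, y⁆ = a ^ (2 : ℤ) := by
    rw [commutatorElement_def, invol_inv hx2, invol_inv hy2, zpow_two, hadef, mul_assoc (x * y)]
  have h4 : a ^ (4 : ℤ) = 1 := by
    rw [hxy] at h1
    have h2 : a ^ (2 : ℤ) * x = x * a ^ (2 : ℤ) := commutatorElement_eq_one_iff_mul_comm.1 h1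
    rw [invol_mul_zpow hx2 hy2, mul_left_inj, eq_comm, zpow_neg, inv_eq_iff_mul_eq_one, ← zpow_add] at h2
    exact h2
  have hdvd : orderOf a ∣ 4 := orderOf_dvd_of_pow_eq_one (by exact_mod_cast h4)
  obtain ⟨c, hc⟩ := hdvd
  have h3 : c ≤ 4 := by nlinarith
  interval_cases c <;> omega

end Cfsg.Agent.S1176
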