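import Cfsg.Statements.S1177
import Cfsg.Agent.Lib.Involutions.StronglyEmbedded
-- Template for statement S1177 (row 1177; see /opt/grader/pristine/manifest.json for weights).
-- Copy to Cfsg/Agent/S1177.lean and replace the sorry. The statement below is byte-identical to the frozen
-- statement Cfsg.CfsgFrozen.S1177 (Cfsg/Statements/S1177.lean; the theorem Cfsg.ti_two_subgroup_weakly_closed_in_involution_centralizers);
-- the grader kernel-checks Cfsg.Agent.S1177.result against that frozen type. Keep the theorem IN THIS FILE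
-- (a `result` declared elsewhere and merely imported here is not credited); helpers may live anywhere
-- under Cfsg/Agent/.
-- import your own Cfsg.Agent.* helpers here

set_option autoImplicit false
open Cfsg

namespace Cfsg.Agent.S1177

open Cfsg.Agent.Lib.Involutions

/-- Let A be a nontrivial elementary abelian 2-subgroup of a finite group G which is a T.I. set (each conjugate of A meets A trivially or equals A) and which does not commute elementwise with any conjugate of A other than A itself. Then for every a ∈ A, a ≠ 1, every conjugate of A contained in C_G(a) is equal to A (A is weakly closed in C_G(a)). -/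
theorem result {G : Type*} [Group G] [Finite G] (A : Subgroup G) (hA : Cfsg.IsElementaryAbelian 2 A) (hA1 : A ≠ ⊥) (hTI : ∀ g : G, A.map (MulAut.conj g).toMonoidHom ⊓ A = ⊥ ∨ A.map (MulAut.conj g).toMonoidHom = A) (hb : ∀ g : G, (∀ a ∈ A, ∀ b ∈ A.map (MulAut.conj g).toMonoidHom, a * b = b * a) → A.map (MulAut.conj g).toMonoidHom = A) (a : G) (ha : a ∈ A) (ha1 : a ≠ 1) (g : G) (hg : A.map (MulAut.conj g).toMonoidHom ≤ Subgroup.centralizer ({a} : Set G)) : A.map (MulAut.conj g).toMonoidHom = A := by
  have : Fact (Nat.Prime 2) := ⟨Nat.prime_two⟩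
  by_contra hne
  set B := A.map (MulAut.conj g).toMonoidHom with hB
  have hAp : IsPGroup 2 A := fun x => ⟨1, Subtype.ext (hA.2 x x.2)⟩
  have hBA : B ≤ Subgroup.normalizer (A : Set G) := by
    intro b hb
    rw [mem_normalizer_iff_map_conj]
    rcases hTI b with h1 | h1
    · exfalso
      have hab : a * b = b * a := (Subgroup.mem_centralizer_singleton_iff.1 (hg hb)).symm
      have hmem : a ∈ A.map (MulAut.conj b).toMonoidHom ⊓ A := by
        refine ⟨?_, ha⟩
        show a ∈ A.map (MulAut.conj b).toMonoidHom
        rw [mem_conj_map_iff, mul_assoc, hab, inv_mul_cancel_left]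
        exact ha
      rw [h1, Subgroup.mem_bot] at hmem
      exact ha1 hmem
    · exact h1
  have hBp : IsPGroup 2 B := hAp.map _
  have hR : IsPGroup 2 (B ⊔ A : Subgroup G) := hBp.to_sup_of_normal_right' hAp hBA
  have hnorm : B ⊔ A ≤ Subgroup.normalizer (B : Set G) := by
    by_contra hcon
    obtain ⟨M, hlt, hMR, hMN⟩ := exists_gt_le_normalizer hR
      (lt_of_le_of_ne (inf_le_left : (B ⊔ A) ⊓ Subgroup.normalizer (B : Set G) ≤ B ⊔ A)
        fun h => hcon (inf_eq_left.1 h))
    obtain ⟨y, hyM, hy⟩ := SetLike.exists_of_lt hlt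
    have hBle : B ≤ (B ⊔ A) ⊓ Subgroup.normalizer (B : Set G) :=
      le_inf le_sup_left Subgroup.le_normalizer
    set B₂ := B.map (MulAut.conj y).toMonoidHom with hB₂
    have hB₂le : B₂ ≤ (B ⊔ A) ⊓ Subgroup.normalizer (B : Set G) :=
      (Subgroup.map_mono hBle).trans (mem_normalizer_iff_map_conj.1 (hMN hyM)).le
    have hB₁N : B ≤ Subgroup.normalizer (B₂ : Set G) := by
      intro b hb
      -- `b` normalizes `B ⊓ ...`; conjugate the relation by `y`
      rw [mem_normalizer_iff_map_conj, hB₂, map_conj_mul]
      have h1 : y⁻¹ * b * y ∈ (B ⊔ A) ⊓ Subgroup.normalizer (B : Set G) :=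
        ((Subgroup.mem_set_normalizer_iff''.1 (hMN hyM)) b).1 (hBle hb)
      have h2 := mem_normalizer_iff_map_conj.1 h1.2
      conv_rhs => rw [← h2, map_conj_mul]
      congr 2
      group
    have hint : B₂ ⊓ B = ⊥ ∨ B₂ = B := by
      rcases hTI (g⁻¹ * y * g) with h1 | h1
      · left
        have h2 := congrArg (fun K : Subgroup G => K.map (MulAut.conj g).toMonoidHom) h1
        rw [Subgroup.map_inf (hf := (MulAut.conj g).injective), Subgroup.map_bot, map_conj_mul] at h2
        rw [hB₂, hB, map_conj_mul]
        convert h2 using 3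
        group
      · right
        have h2 := congrArg (fun K : Subgroup G => K.map (MulAut.conj g).toMonoidHom) h1
        simp only [map_conj_mul] at h2
        rw [hB₂, hB, map_conj_mul]
        convert h2 using 2
        group
    rcases hint with h0 | h0
    · -- `B` and `B₂` commute, so they are equal
      have hcom : ∀ u ∈ B, ∀ v ∈ B₂, u * v = v * u := by
        intro u hu v hv
        have e1 : u * v * u⁻¹ * v⁻¹ ∈ B₂ ⊓ B := by
          refine Subgroup.mem_inf.2 ⟨mul_mem ((Subgroup.mem_set_normalizer_iff.1 (hB₁N hu) v).1 hv : u * v * u⁻¹ ∈ B₂) (inv_mem hv), ?_⟩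
          show u * v * u⁻¹ * v⁻¹ ∈ B
          rw [mul_assoc u v, mul_assoc u]
          exact mul_mem hu ((Subgroup.mem_set_normalizer_iff.1 (hB₂le hv).2 u⁻¹).1 (inv_mem hu))
        rw [h0, Subgroup.mem_bot, mul_inv_eq_one, mul_inv_eq_iff_eq_mul] at e1
        exact e1
      have := hb (g⁻¹ * y * g) (by
        intro u hu v hv
        rw [mem_conj_map_iff] at hv
        have h3 := hcom (g * u * g⁻¹) (conj_mem_map hu) (g * v * g⁻¹) (by
          rw [hB₂, hB, map_conj_mul, mem_conj_map_iff]
          convert hv using 1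
          group)
        simpa [mul_assoc] using congrArg (fun w => g⁻¹ * w * g) h3)
      have h2 := congrArg (fun K : Subgroup G => K.map (MulAut.conj g).toMonoidHom) this
      simp only [map_conj_mul] at h2
      refine hy ⟨hMR hyM, mem_normalizer_iff_map_conj.2 ?_⟩
      rw [hB, map_conj_mul]
      convert h2 using 2
      group
    · exact hy ⟨hMR hyM, mem_normalizer_iff_map_conj.2 h0⟩
  -- now `A` and `B` normalize each other
  refine hne (hb g fun u hu v hv => ?_)
  rcases hTI g with h0 | h0
  · have e1 : u * v * u⁻¹ * v⁻¹ ∈ B ⊓ A := by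
      refine Subgroup.mem_inf.2 ⟨mul_mem ((Subgroup.mem_set_normalizer_iff.1 (hnorm (le_sup_right (a := B) hu)) v).1 hv :
          u * v * u⁻¹ ∈ B) (inv_mem hv), ?_⟩
      show u * v * u⁻¹ * v⁻¹ ∈ A
      rw [mul_assoc u v, mul_assoc u]
      exact mul_mem hu ((Subgroup.mem_set_normalizer_iff.1 (hBA hv) u⁻¹).1 (inv_mem hu))
    rw [show B ⊓ A = ⊥ from h0, Subgroup.mem_bot, mul_inv_eq_one, mul_inv_eq_iff_eq_mul] at e1
    exact e1
  · exact absurd h0 hne

end Cfsg.Agent.S1177
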