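import Cfsg.Statements.S1178
import Cfsg.Agent.Lib.Involutions.StronglyEmbedded
-- Template for statement S1178 (row 1178; see /opt/grader/pristine/manifest.json for weights).
-- Copy to Cfsg/Agent/S1178.lean and replace the sorry. The statement below is byte-identical to the frozen
-- statement Cfsg.CfsgFrozen.S1178 (Cfsg/Statements/S1178.lean; the theorem Cfsg.weakly_closed_commutes_with_no_other_conjugate);
-- the grader kernel-checks Cfsg.Agent.S1178.result against that frozen type. Keep the theorem IN THIS FILE
-- (a `result` declared elsewhere and merely imported here is not credited); helpers may live anywhere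
-- under Cfsg/Agent/.
-- import your own Cfsg.Agent.* helpers here

set_option autoImplicit false
open Cfsg

namespace Cfsg.Agent.S1178

open Cfsg.Agent.Lib.Involutions

/-- Let A be a subgroup of a Sylow 2-subgroup S of the finite group G which is weakly closed in S. If a conjugate g A g⁻¹ commutes elementwise with A, then g A g⁻¹ = A. -/
theorem result {G : Type*} [Group G] [Finite G] (S : Sylow 2 G) (A : Subgroup G) (hW : Cfsg.IsWeaklyClosed A (S : Subgroup G)) (g : G) (hc : ∀ a ∈ A, ∀ b ∈ A.map (MulAut.conj g).toMonoidHom, a * b = b * a) : A.map (MulAut.conj g).toMonoidHom = A := by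
  have : Fact (Nat.Prime 2) := ⟨Nat.prime_two⟩
  set B := A.map (MulAut.conj g).toMonoidHom with hB
  have hAp : IsPGroup 2 A := S.2.to_le hW.1
  have hBA : B ≤ Subgroup.normalizer (A : Set G) := fun b hb => by
    rw [Subgroup.mem_set_normalizer_iff]
    intro a
    constructor
    · intro ha
      rwa [SetLike.mem_coe, ← hc a ha b hb, mul_inv_cancel_right]
    · intro ha
      have h1 := hc _ ha b hb
      rw [inv_mul_cancel_right, mul_assoc b a b⁻¹] at h1
      have h2 := mul_left_cancel h1
      exact (show a = b * a * b⁻¹ by rw [mul_assoc]; exact h2) ▸ ha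
  obtain ⟨Q, hQ⟩ := (IsPGroup.to_sup_of_normal_right' (hAp.map _) hAp hBA).exists_le_sylow
  obtain ⟨x, rfl⟩ := MulAction.exists_smul_eq G S Q
  rw [sylow_map_conj] at hQ
  have hback : ∀ K : Subgroup G, K ≤ (S : Subgroup G).map (MulAut.conj x).toMonoidHom →
      K.map (MulAut.conj x⁻¹).toMonoidHom ≤ S := fun K hK => by
    have h1 := Subgroup.map_mono (f := (MulAut.conj x⁻¹).toMonoidHom) hK
    rwa [map_conj_mul, inv_mul_cancel, map_conj_one] at h1
  have h1 := hW.2 x⁻¹ (hback A (le_sup_right.trans hQ))
  have h2 : B.map (MulAut.conj x⁻¹).toMonoidHom ≤ S := hback B (le_sup_left.trans hQ)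
  rw [hB, map_conj_mul] at h2
  have h3 := hW.2 _ h2
  rw [← map_conj_mul] at h3
  exact Subgroup.map_injective (MulAut.conj x⁻¹).injective (h3.trans h1.symm)

end Cfsg.Agent.S1178
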