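import Cfsg.Statements.S1180
import Cfsg.Agent.Lib.Involutions.Isolated
-- Template for statement S1180 (row 1180; see /opt/grader/pristine/manifest.json for weights).
-- Copy to Cfsg/Agent/S1180.lean and replace the sorry. The statement below is byte-identical to the frozen
-- statement Cfsg.CfsgFrozen.S1180 (Cfsg/Statements/S1180.lean; the theorem Cfsg.isolated_involution_fusion_controlled_by_overgroups);
-- the grader kernel-checks Cfsg.Agent.S1180.result against that frozen type. Keep the theorem IN THIS FILE
-- (a `result` declared elsewhere and merely imported here is not credited); helpers may live anywhere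
-- under Cfsg/Agent/.
-- import your own Cfsg.Agent.* helpers here

set_option autoImplicit false
open Cfsg

namespace Cfsg.Agent.S1180

open Cfsg.Agent.Lib.Involutions

/-- Let z be an isolated involution of the finite group G and H a subgroup containing z. Then every conjugate g z g⁻¹ that lies in H is conjugate to z by an element of H. -/
theorem result {G : Type*} [Group G] [Finite G] (z : G) (hz : Cfsg.IsIsolatedInvolution z) (H : Subgroup G) (hzH : z ∈ H) (g : G) (hg : g * z * g⁻¹ ∈ H) : ∃ h ∈ H, h * z * h⁻¹ = g * z * g⁻¹ := by
  exact exists_conj_mem hz hzH hg

end Cfsg.Agent.S1180
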