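import Cfsg.Statements.S1182
import Cfsg.Agent.Lib.Involutions.Isolated
-- Template for statement S1182 (row 1182; see /opt/grader/pristine/manifest.json for weights).
-- Copy to Cfsg/Agent/S1182.lean and replace the sorry. The statement below is byte-identical to the frozen
-- statement Cfsg.CfsgFrozen.S1182 (Cfsg/Statements/S1182.lean; the theorem Cfsg.isolated_involution_centralizer_controls_fusion);
-- the grader kernel-checks Cfsg.Agent.S1182.result against that frozen type. Keep the theorem IN THIS FILE
-- (a `result` declared elsewhere and merely imported here is not credited); helpers may live anywhere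
-- under Cfsg/Agent/.
-- import your own Cfsg.Agent.* helpers here

set_option autoImplicit false
open Cfsg

namespace Cfsg.Agent.S1182

open Cfsg.Agent.Lib.Involutions

/-- Let z be an isolated involution of the finite group G and H a subgroup normalized by z. If x, y ∈ H both commute with z and y = h x h⁻¹ for some h ∈ H, then y = c x c⁻¹ for some c ∈ H commuting with z. -/
theorem result {G : Type*} [Group G] [Finite G] (z : G) (hz : Cfsg.IsIsolatedInvolution z) (H : Subgroup G) (hzH : z ∈ Subgroup.normalizer (H : Set G)) (x y : G) (hx : x ∈ H) (hy : y ∈ H) (hxz : Commute x z) (hyz : Commute y z) (h : G) (hh : h ∈ H) (hconj : h * x * h⁻¹ = y) : ∃ c ∈ H, Commute c z ∧ c * x * c⁻¹ = y := by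
  have hz' : orderOf (h⁻¹ * z * h⁻¹⁻¹) = 2 := by rw [orderOf_conj_eq, hz.1]
  obtain ⟨m, hm⟩ := odd_mul_conj hz h⁻¹
  set t := h⁻¹ * z * h⁻¹⁻¹ with ht
  set d := (z * t) ^ (m : ℤ) with hd
  have hdc : d * z * d⁻¹ = t := conj_of_orderOf_mul_odd hz.1 hz' hm
  have hdH : d ∈ H := by
    refine zpow_mem ?_ _
    have h1 : z * h⁻¹ * z⁻¹ ∈ H := (Subgroup.mem_set_normalizer_iff.1 hzH h⁻¹).1 (inv_mem hh)
    rw [ht, inv_inv]
    have := mul_mem h1 hh
    rw [invol_inv hz.1] at this
    simpa [mul_assoc] using this
  have htx : Commute t x := by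
    have h1 : Commute z (h * x * h⁻¹) := by rw [hconj]; exact hyz.symm
    have h2 := h1.map (MulAut.conj h⁻¹).toMonoidHom
    rw [ht]
    simpa [mul_assoc] using h2
  have hdx : Commute d x := (hxz.symm.mul_left htx).zpow_left _
  refine ⟨h * d, mul_mem hh hdH, mul_inv_eq_iff_eq_mul.1 ?_, ?_⟩
  · rw [← conj_conj, hdc, ht, inv_inv]
    group
  · rw [← conj_conj, hdx.eq, mul_inv_cancel_right, hconj]

end Cfsg.Agent.S1182
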