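import Cfsg.Statements.S1242
import Cfsg.Agent.Lib.Involutions.Fusion
-- Template for statement S1242 (row 1242; see /opt/grader/pristine/manifest.json for weights).
-- Copy to Cfsg/Agent/S1242.lean and replace the sorry. The statement below is byte-identical to the frozen
-- statement Cfsg.CfsgFrozen.S1242 (Cfsg/Statements/S1242.lean; the theorem Cfsg.coprime_index_subgroup_controlling_p_fusion_controls_transfer);
-- the grader kernel-checks Cfsg.Agent.S1242.result against that frozen type. Keep the theorem IN THIS FILE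
-- (a `result` declared elsewhere and merely imported here is not credited); helpers may live anywhere
-- under Cfsg/Agent/.
-- import your own Cfsg.Agent.* helpers here

set_option autoImplicit false
open Cfsg

namespace Cfsg.Agent.S1242

open Cfsg.Agent.Lib.Involutions

/-- Let G be a finite group, p a prime and H a subgroup of index prime to p such that any two elements of H of p-power order that are conjugate in G are conjugate in H. Then (O^p(G)·G') ∩ H = O^p(H)·H', where O^p denotes the subgroup generated by the elements of order prime to p. -/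
theorem result {G : Type*} [Group G] [Finite G] {p : ℕ} [Fact p.Prime] (H : Subgroup G) (hidx : Nat.Coprime p H.index) (hfus : ∀ g ∈ H, (∃ k : ℕ, orderOf g = p ^ k) → ∀ a : G, a * g * a⁻¹ ∈ H → ∃ h ∈ H, h * g * h⁻¹ = a * g * a⁻¹) : (Cfsg.pResidual p G ⊔ commutator G) ⊓ H = (Cfsg.pResidual p ↥H ⊔ commutator ↥H).map H.subtype := by
  set N := Cfsg.pResidual p ↥H ⊔ commutator ↥H with hN
  refine le_antisymm ?_ (le_inf ?_ (Subgroup.map_subtype_le _))
  · rintro g ⟨hgG, hgH⟩
    have : N.Normal := inferInstance
    have hp2 : IsPGroup p (↥H ⧸ N) := by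
      intro x
      obtain ⟨y, rfl⟩ := QuotientGroup.mk_surjective x
      obtain ⟨k, hk⟩ :=
        Cfsg.Agent.Lib.Transfer.isPGroup_quotient_pResidual (p := p) (G := H) (QuotientGroup.mk y)
      refine ⟨k, ?_⟩
      rw [← QuotientGroup.mk_pow, QuotientGroup.eq_one_iff] at hk ⊢
      exact (le_sup_left : Cfsg.pResidual p ↥H ≤ N) hk
    have hcomm : IsMulCommutative (↥H ⧸ N) :=
      Subgroup.Normal.quotient_commutative_iff_commutator_le.2 le_sup_right
    open scoped IsMulCommutative in
    let φ : H →* ↥H ⧸ N := QuotientGroup.mk' _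
    let V := MonoidHom.transfer φ
    have hker : Cfsg.pResidual p G ⊔ commutator G ≤ V.ker :=
      sup_le (Cfsg.Agent.Lib.Transfer.pResidual_le_ker hp2 _)
        (Abelianization.commutator_subset_ker _)
    obtain ⟨a, b, ha, hb, hcop, ⟨j, hj⟩, hab⟩ :=
      Cfsg.Agent.Lib.Transfer.exists_pPart_decomp (p := p) (⟨g, hgH⟩ : H)
    have haN : a ∈ N :=
      (le_sup_left : Cfsg.pResidual p ↥H ≤ N) (Cfsg.Agent.Lib.Transfer.mem_pResidual_of_coprime hcop)
    have hVb : V (b : G) = φ b ^ H.index := by
      refine transfer_eq_pow_of_map_eq φ b fun k g₀ hk => ?_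
      rw [← map_pow]
      obtain ⟨h, hh, hhc⟩ := hfus ((b : G) ^ k) (pow_mem b.2 k)
        (by
          obtain ⟨i, -, hi⟩ := (Nat.dvd_prime_pow (Fact.out : p.Prime)).1
            ((orderOf_pow_dvd k).trans (by rw [Subgroup.orderOf_coe, hj] :
              orderOf (b : G) ∣ p ^ j))
          exact ⟨i, hi⟩)
        g₀⁻¹ (by rw [inv_inv]; exact hk)
      rw [inv_inv] at hhc
      have he : (⟨g₀⁻¹ * (b : G) ^ k * g₀, hk⟩ : H) = ⟨h, hh⟩ * b ^ k * (⟨h, hh⟩)⁻¹ :=
        Subtype.ext hhc.symm
      rw [he, map_mul, map_mul, map_inv, mul_right_comm, mul_inv_cancel, one_mul]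
    have hbker : V (b : G) = 1 := by
      have h1 : V g = 1 := hker hgG
      have h2 : V (a : G) = 1 :=
        hker ((le_sup_left : Cfsg.pResidual p G ≤ _)
          (Cfsg.Agent.Lib.Transfer.mem_pResidual_of_coprime (by rwa [Subgroup.orderOf_coe])))
      have h3 : g = (a : G) * b := congrArg Subtype.val hab
      rw [h3, map_mul, h2, one_mul] at h1
      exact h1
    have hb1 : φ b = 1 := by
      rw [hbker] at hVb
      have hd2 : orderOf (φ b) ∣ p ^ j := hj ▸ orderOf_map_dvd φ b
      exact orderOf_eq_one_iff.1 (Nat.eq_one_of_dvd_coprimes (Nat.Coprime.pow_left j hidx) hd2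
        (orderOf_dvd_of_pow_eq_one hVb.symm))
    exact ⟨⟨g, hgH⟩, by rw [hab]; exact mul_mem haN ((QuotientGroup.eq_one_iff _).1 hb1), rfl⟩
  · rw [Subgroup.map_sup]
    exact sup_le_sup (Cfsg.Agent.Lib.Transfer.pResidual_map_subtype_le H)
      (Subgroup.map_le_iff_le_comap.2 (Subgroup.map_le_iff_le_comap.1
        (by rw [commutator_def, Subgroup.map_commutator, commutator_def]
            exact Subgroup.commutator_mono le_top le_top)))

end Cfsg.Agent.S1242
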