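import Cfsg.Statements.S1183
import Cfsg.Agent.Lib.Involutions.Isolated
import Cfsg.Agent.Lib.Transfer.Basic
import Cfsg.Agent.S1182
import Cfsg.Agent.S1242
-- Template for statement S1183 (row 1183; see /opt/grader/pristine/manifest.json for weights).
-- Copy to Cfsg/Agent/S1183.lean and replace the sorry. The statement below is byte-identical to the frozen
-- statement Cfsg.CfsgFrozen.S1183 (Cfsg/Statements/S1183.lean; the theorem Cfsg.isolated_involution_two_residual);
-- the grader kernel-checks Cfsg.Agent.S1183.result against that frozen type. Keep the theorem IN THIS FILE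
-- (a `result` declared elsewhere and merely imported here is not credited); helpers may live anywhere
-- under Cfsg/Agent/.
-- import your own Cfsg.Agent.* helpers here

set_option autoImplicit false
open Cfsg

namespace Cfsg.Agent.S1183

open Cfsg.Agent.Lib.Involutions

/-- Let z be an isolated involution of the finite group G and C = C_G(z). Then the subgroup of G generated by its elements of odd order is all of G if and only if the subgroup of C generated by its elements of odd order is all of C. -/
theorem result {G : Type*} [Group G] [Finite G] (z : G) (hz : Cfsg.IsIsolatedInvolution z) : Cfsg.pResidual 2 G = ⊤ ↔ Cfsg.pResidual 2 ↥(Subgroup.centralizer ({z} : Set G)) = ⊤ := by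
  have : Fact (Nat.Prime 2) := ⟨Nat.prime_two⟩
  set C := Subgroup.centralizer ({z} : Set G) with hC
  obtain ⟨S, hS⟩ := (IsPGroup.iff_card.2 ⟨1, by rw [Nat.card_zpowers, hz.1, pow_one]⟩ :
    IsPGroup 2 (Subgroup.zpowers z)).exists_le_sylow
  have hzS : z ∈ (S : Subgroup G) := hS (Subgroup.mem_zpowers z)
  have hSC : (S : Subgroup G) ≤ C := fun s hs => Subgroup.mem_centralizer_singleton_iff.2
    (mul_inv_eq_iff_eq_mul.1 (eq_of_conj_mem hz S.2 hzS (mul_mem (mul_mem hs hzS) (inv_mem hs))))
  have hidx : Nat.Coprime 2 C.index :=
    Nat.prime_two.coprime_iff_not_dvd.2 fun h =>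
      S.not_dvd_index (h.trans (Subgroup.index_dvd_of_le hSC))
  have h1242 := Cfsg.Agent.S1242.result (p := 2) C hidx fun g hg _ a ha => by
    obtain ⟨c, -, hcz, hce⟩ := Cfsg.Agent.S1182.result z hz ⊤
      (by simp [Subgroup.mem_set_normalizer_iff]) g (a * g * a⁻¹) (Subgroup.mem_top _)
      (Subgroup.mem_top _) (Subgroup.mem_centralizer_singleton_iff.1 hg)
      (Subgroup.mem_centralizer_singleton_iff.1 ha) a (Subgroup.mem_top _) rfl
    exact ⟨c, Subgroup.mem_centralizer_singleton_iff.2 hcz.eq, hce⟩
  constructor
  · intro hG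
    have hK : Cfsg.pResidual 2 ↥C ⊔ commutator ↥C = ⊤ := by
      rw [hG, top_sup_eq, top_inf_eq] at h1242
      have h2 := congrArg (Subgroup.comap C.subtype) h1242
      rw [Subgroup.comap_map_eq_self_of_injective C.subtype_injective] at h2
      rw [← h2]
      ext x
      simp
    -- the quotient by `O^2(C)` is a perfect `2`-group
    by_contra hne
    have hQ := Cfsg.Agent.Lib.Transfer.isPGroup_quotient_pResidual (p := 2) (G := C)
    have hnil := hQ.isNilpotent
    have hnt : Nontrivial (↥C ⧸ Cfsg.pResidual 2 ↥C) := by
      refine Finite.one_lt_card_iff_nontrivial.1 ?_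
      rw [← Subgroup.index_eq_card]
      exact Subgroup.one_lt_index_of_ne_top hne
    have hlt := Group.IsSolvable.commutator_lt_top_of_nontrivial (G := ↥C ⧸ Cfsg.pResidual 2 ↥C)
    refine hlt.ne (top_le_iff.1 ?_)
    have h2 := congrArg (Subgroup.map (QuotientGroup.mk' (Cfsg.pResidual 2 ↥C))) hK
    rw [Subgroup.map_sup, QuotientGroup.map_mk'_self, bot_sup_eq,
      Subgroup.map_top_of_surjective _ (QuotientGroup.mk'_surjective _), commutator_def,
      Subgroup.map_commutator] at h2
    rw [← h2, commutator_def]
    exact Subgroup.commutator_mono le_top le_top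
  · intro hCtop
    have hle : C ≤ Cfsg.pResidual 2 G := by
      have h2 := Cfsg.Agent.Lib.Transfer.pResidual_map_subtype_le (p := 2) C
      rwa [hCtop, ← MonoidHom.range_eq_map, Subgroup.range_subtype] at h2
    have h3 := Cfsg.Agent.Lib.Transfer.sylow_sup_pResidual S
    rwa [sup_eq_right.2 (hSC.trans hle)] at h3

end Cfsg.Agent.S1183
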