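import Cfsg.Statements.S1184
import Cfsg.Agent.Lib.Involutions.Isolated
-- Template for statement S1184 (row 1184; see /opt/grader/pristine/manifest.json for weights).
-- Copy to Cfsg/Agent/S1184.lean and replace the sorry. The statement below is byte-identical to the frozen
-- statement Cfsg.CfsgFrozen.S1184 (Cfsg/Statements/S1184.lean; the theorem Cfsg.isolated_involution_product_of_conjugates_not_in_centralizer);
-- the grader kernel-checks Cfsg.Agent.S1184.result against that frozen type. Keep the theorem IN THIS FILE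
-- (a `result` declared elsewhere and merely imported here is not credited); helpers may live anywhere
-- under Cfsg/Agent/.
-- import your own Cfsg.Agent.* helpers here

set_option autoImplicit false
open Cfsg

namespace Cfsg.Agent.S1184

open Cfsg.Agent.Lib.Involutions

/-- Let z be an isolated involution of the finite group G. If s and t are distinct conjugates of z, then st does not commute with z. -/
theorem result {G : Type*} [Group G] [Finite G] (z : G) (hz : Cfsg.IsIsolatedInvolution z) (g h : G) (hne : g * z * g⁻¹ ≠ h * z * h⁻¹) : ¬ Commute (g * z * g⁻¹ * (h * z * h⁻¹)) z := by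
  intro hc
  set s := g * z * g⁻¹ with hs
  set t := h * z * h⁻¹ with ht
  have hs2 : orderOf s = 2 := by rw [hs, orderOf_conj_eq, hz.1]
  have ht2 : orderOf t = 2 := by rw [ht, orderOf_conj_eq, hz.1]
  have hodd : Odd (orderOf (s * t)) := by
    have h1 := odd_mul_conj (isIsolated_conj hz g) (h * g⁻¹)
    rwa [conj_conj, inv_mul_cancel_right] at h1
  set k := s * t with hk
  obtain ⟨m, hm⟩ := odd_mul_conj hz g
  rw [← hs] at hm
  have hdc := conj_of_orderOf_mul_odd hz.1 hs2 hm
  rw [zpow_natCast] at hdc
  set d := (z * s) ^ m with hd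
  have hsk : s * k * s⁻¹ = k⁻¹ := conj_mul_left_invol hs2 ht2
  have hzk : z * k * z⁻¹ = k := by rw [hc.symm.eq, mul_inv_cancel_right]
  have hzk' : z * k⁻¹ * z⁻¹ = k⁻¹ := by rw [← conj_inv, hzk]
  -- every power of `z s` maps `k` to `k` or `k⁻¹`
  have hact : ∀ i : ℕ, (z * s) ^ i * k * ((z * s) ^ i)⁻¹ = k ∨
      (z * s) ^ i * k * ((z * s) ^ i)⁻¹ = k⁻¹ := by
    intro i
    induction i with
    | zero => left; simp
    | succ i ih =>
      have hstep : (z * s) * k * (z * s)⁻¹ = k⁻¹ := by rw [← conj_conj, hsk, hzk']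
      rw [pow_succ, ← conj_conj, hstep, ← conj_inv]
      rcases ih with h1 | h1 <;> rw [h1] <;> simp
  have hfix : s * k * s⁻¹ = k := by
    have e1 : d⁻¹ * k * d = k ∨ d⁻¹ * k * d = k⁻¹ := by
      rcases hact m with h1 | h1
      · left
        conv_lhs => rw [← h1]
        rw [← hd]; group
      · right
        have : k = (d * k * d⁻¹)⁻¹ := by rw [h1, inv_inv]
        conv_lhs => rw [this]
        group
    have e2 : z * (d⁻¹ * k * d) * z⁻¹ = d⁻¹ * k * d := by
      rcases e1 with e | e <;> rw [e]
      · exact hzk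
      · exact hzk'
    calc s * k * s⁻¹ = d * (z * (d⁻¹ * k * d) * z⁻¹) * d⁻¹ := by rw [← hdc]; group
      _ = k := by rw [e2]; group
  rw [hsk] at hfix
  have h1 : orderOf k ∣ 2 :=
    orderOf_dvd_of_pow_eq_one (by rw [sq]; exact mul_eq_one_iff_inv_eq.2 hfix)
  rcases (Nat.dvd_prime Nat.prime_two).1 h1 with h2 | h2
  · rw [orderOf_eq_one_iff, hk, mul_eq_one_iff_eq_inv, invol_inv ht2] at h2
    exact hne h2
  · rw [h2] at hodd
    exact absurd hodd (by decide)

end Cfsg.Agent.S1184
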