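import Cfsg.Statements.S1185
import Cfsg.Agent.Lib.Involutions.Isolated
-- Template for statement S1185 (row 1185; see /opt/grader/pristine/manifest.json for weights).
-- Copy to Cfsg/Agent/S1185.lean and replace the sorry. The statement below is byte-identical to the frozen
-- statement Cfsg.CfsgFrozen.S1185 (Cfsg/Statements/S1185.lean; the theorem Cfsg.isolated_involution_coset_representatives_inverted);
-- the grader kernel-checks Cfsg.Agent.S1185.result against that frozen type. Keep the theorem IN THIS FILE
-- (a `result` declared elsewhere and merely imported here is not credited); helpers may live anywhere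
-- under Cfsg/Agent/.
-- import your own Cfsg.Agent.* helpers here

set_option autoImplicit false
open Cfsg

namespace Cfsg.Agent.S1185

open Cfsg.Agent.Lib.Involutions

/-- Let z be an isolated involution of the finite group G with centralizer C. Then for every g ∈ G there is exactly one element k in the coset gC that has odd order and is inverted by z. -/
theorem result {G : Type*} [Group G] [Finite G] (z : G) (hz : Cfsg.IsIsolatedInvolution z) (g : G) : ∃! k : G, (Odd (orderOf k) ∧ z * k * z⁻¹ = k⁻¹) ∧ g⁻¹ * k ∈ Subgroup.centralizer ({z} : Set G) := by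
  obtain ⟨k, hkodd, hkinv, hksq, -⟩ := exists_sqrt_conj hz g
  have hiff : ∀ k' : G, z * k' * z⁻¹ = k'⁻¹ →
      (g⁻¹ * k' ∈ Subgroup.centralizer ({z} : Set G) ↔ k' ^ 2 * z = g * z * g⁻¹) := fun k' hk' => by
    rw [Subgroup.mem_centralizer_singleton_iff, ← sq_mul_of_inverts hk']
    constructor
    · intro hc
      calc k' * z * k'⁻¹ = g * (g⁻¹ * k' * z) * k'⁻¹ := by group
        _ = g * z * g⁻¹ := by rw [hc]; group
    · intro hc
      calc g⁻¹ * k' * z = g⁻¹ * (k' * z * k'⁻¹) * k' := by group
        _ = z * (g⁻¹ * k') := by rw [hc]; group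
  refine ⟨k, ⟨⟨hkodd, hkinv⟩, (hiff k hkinv).2 hksq⟩, ?_⟩
  rintro k' ⟨⟨hodd', hinv'⟩, hc'⟩
  exact sq_inj_of_odd hodd' hkodd (mul_right_cancel (((hiff k' hinv').1 hc').trans hksq.symm))

end Cfsg.Agent.S1185
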