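import Cfsg.Statements.S1186
import Cfsg.Agent.Lib.Involutions.Isolated
-- Template for statement S1186 (row 1186; see /opt/grader/pristine/manifest.json for weights).
-- Copy to Cfsg/Agent/S1186.lean and replace the sorry. The statement below is byte-identical to the frozen
-- statement Cfsg.CfsgFrozen.S1186 (Cfsg/Statements/S1186.lean; the theorem Cfsg.isolated_involution_order_formula);
-- the grader kernel-checks Cfsg.Agent.S1186.result against that frozen type. Keep the theorem IN THIS FILE
-- (a `result` declared elsewhere and merely imported here is not credited); helpers may live anywhere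
-- under Cfsg/Agent/.
-- import your own Cfsg.Agent.* helpers here

set_option autoImplicit false
open Cfsg

namespace Cfsg.Agent.S1186

open Cfsg.Agent.Lib.Involutions

/-- Let z be an isolated involution of the finite group G, C = C_G(z), K the set of elements of odd order inverted by z, and s an involution of C. Then |G| = |C| · |C_K(sz)| · |C_K(s)|. -/
theorem result {G : Type*} [Group G] [Finite G] (z : G) (hz : Cfsg.IsIsolatedInvolution z) (s : G) (hs : orderOf s = 2) (hsz : Commute s z) : Nat.card G = Nat.card (Subgroup.centralizer ({z} : Set G)) * Nat.card {k : G // Odd (orderOf k) ∧ z * k * z⁻¹ = k⁻¹ ∧ Commute k (s * z)} * Nat.card {k : G // Odd (orderOf k) ∧ z * k * z⁻¹ = k⁻¹ ∧ Commute k s} := by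
  classical
  have := Fintype.ofFinite G
  set K : G → ℕ := fun y =>
    Nat.card {k : G // Odd (orderOf k) ∧ z * k * z⁻¹ = k⁻¹ ∧ Commute k y} with hK
  set D : G → ℕ := fun y => Nat.card {t : G // IsConj z t ∧ Commute t y} with hD
  -- commuting elements of `K` correspond to commuting conjugates
  have hKD : ∀ y : G, Commute z y → K y = D y := fun y hy => by
    have hconj : ∀ k : G, z * k * z⁻¹ = k⁻¹ → IsConj z (k ^ 2 * z) := fun k hk =>
      isConj_iff.2 ⟨k, sq_mul_of_inverts hk⟩
    refine Nat.card_eq_of_bijective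
      (fun k => ⟨k.1 ^ 2 * z, hconj k.1 k.2.2.1, (k.2.2.2.pow_left 2).mul_left hy⟩) ⟨?_, ?_⟩
    · intro k k' he
      have he' := congrArg Subtype.val he
      simp only at he'
      exact Subtype.ext (sq_inj_of_odd k.2.1 k'.2.1 (mul_right_cancel he'))
    · rintro ⟨t, ht, hty⟩
      obtain ⟨g, rfl⟩ := isConj_iff.1 ht
      obtain ⟨k, hk1, hk2, hk3, hk4⟩ := exists_sqrt_conj hz g
      refine ⟨⟨k, hk1, hk2, ?_⟩, Subtype.ext hk3⟩
      obtain ⟨i, rfl⟩ := hk4
      exact (hty.mul_left hy).zpow_left i
  -- the dihedral bijection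
  have hsum : Nat.card {t : G // IsConj z t} = D s * D (s * z) := by
    let A := {u : G // IsConj z u ∧ Commute u s}
    let f : (Σ u : A, {t : G // IsConj z t ∧ Commute t (s * u.1)}) → {t : G // IsConj z t} :=
      fun p => ⟨p.2.1, p.2.2.1⟩
    have hisoC : ∀ u : G, IsConj z u → orderOf u = 2 := fun u hu => by
      obtain ⟨g, rfl⟩ := isConj_iff.1 hu
      rw [orderOf_conj_eq, hz.1]
    have hcomm_conj : ∀ u v : G, IsConj z u → IsConj z v → Commute u v → v = u := fun u v hu hv hc => by
      obtain ⟨g, rfl⟩ := isConj_iff.1 hu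
      obtain ⟨g', rfl⟩ := isConj_iff.1 hv
      have h1 := (isIsolated_conj hz g).2 (g' * g⁻¹)
      rw [conj_conj, inv_mul_cancel_right] at h1
      exact h1 hc
    -- the distinguished element of `A` attached to a conjugate `t`
    have key : ∀ t : G, IsConj z t → ∃ u₀ : G, (IsConj z u₀ ∧ Commute u₀ s) ∧
        Commute t (s * u₀) ∧
        ∀ u : G, IsConj z u → Commute u s → Commute t (s * u) → u = u₀ := by
      intro t ht
      by_cases hsz' : IsConj z s
      · have hsz'' : s = z := hcomm_conj z s (IsConj.refl z) hsz' hsz.symm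
        subst hsz''
        exact ⟨s, ⟨IsConj.refl _, Commute.refl _⟩,
          by rw [invol_mul_self hz.1]; exact Commute.one_right t,
          fun u hu hus _ => hcomm_conj s u (IsConj.refl _) hu hus.symm⟩
      · have ht2 := hisoC t ht
        set a := t * s with ha
        have heven : Even (orderOf a) :=
          Nat.not_odd_iff_even.1 fun ho => hsz' (ht.trans (isConj_of_odd ht2 hs ho))
        obtain ⟨hw2, hwt, hws⟩ := central_invol ht2 hs heven
        obtain ⟨m, hm⟩ := heven
        rw [← ha, show orderOf a / 2 = m by omega] at hw2 hwt hws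
        have hmodd : Odd m := by
          rw [← Nat.not_even_iff_odd]
          rintro ⟨c, hc⟩
          obtain ⟨g, hg⟩ := isConj_iff.1 ht
          have hd : a ^ (c : ℤ) * t * (a ^ (c : ℤ))⁻¹ = a ^ m * t := by
            rw [← zpow_neg, mul_assoc, ha, invol_mul_zpow ht2 hs, neg_neg, ← mul_assoc,
              ← zpow_add, ← zpow_natCast, show ((c : ℤ) + c) = (m : ℕ) by omega]
          have h1 := hcomm_conj t (a ^ m * t) ht (ht.trans (isConj_iff.2 ⟨_, hd⟩))
            (hwt.symm.mul_right (Commute.refl t))
          rw [mul_eq_right] at h1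
          rw [h1] at hw2
          simp at hw2
        obtain ⟨c, hc⟩ := hmodd
        have hu₀ : IsConj z (s * a ^ m) := by
          refine ht.trans (isConj_iff.2 ⟨a ^ (-(c : ℤ) - 1), ?_⟩)
          have h1 : a ^ (-(c : ℤ) - 1) * t * (a ^ (-(c : ℤ) - 1))⁻¹ =
              a ^ (-((m : ℕ) : ℤ) - 1) * t := by
            rw [← zpow_neg, mul_assoc, ha, invol_mul_zpow ht2 hs, neg_neg, ← mul_assoc, ← zpow_add]
            congr 2
            rw [hc]; push_cast; ring
          have hs' : s = a ^ (-1 : ℤ) * t := invol_right_eq ht2 hs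
          rw [h1]
          conv_rhs => rw [hs', mul_assoc, ← hwt.eq, ← mul_assoc]
          rw [← zpow_natCast, ← zpow_add, sub_eq_add_neg, add_comm]
          congr 1
          rw [zpow_eq_zpow_iff_modEq, hm, Int.modEq_iff_dvd]
          exact ⟨1, by push_cast; ring⟩
        refine ⟨s * a ^ m, ⟨hu₀, (Commute.refl s).mul_left hws⟩, ?_, ?_⟩
        · rw [← mul_assoc, invol_mul_self hs, one_mul]
          exact hwt.symm
        · intro u hu hus htu
          have h2 : Commute s (s * u) := (Commute.refl s).mul_right hus.symm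
          have h3 : Commute (a ^ m) (s * u) := (htu.mul_left h2).pow_left m
          have h4 : Commute u (s * a ^ m) := by
            have h5 : Commute (s * u) (s * a ^ m) := h2.symm.mul_right h3.symm
            have h6 : Commute s (s * a ^ m) := (Commute.refl s).mul_right hws.symm
            have h7 := h6.mul_left h5
            rwa [← mul_assoc, invol_mul_self hs, one_mul] at h7
          exact hcomm_conj _ _ hu₀ hu h4.symm
    have hf : Function.Bijective f := by
      constructor
      · rintro ⟨⟨u, hu, hus⟩, t, ht, htu⟩ ⟨⟨u', hu', hus'⟩, t', ht', htu'⟩ h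
        obtain rfl : t = t' := congrArg Subtype.val h
        obtain ⟨u₀, -, -, huniq⟩ := key t ht
        obtain rfl : u = u' := (huniq u hu hus htu).trans (huniq u' hu' hus' htu').symm
        rfl
      · rintro ⟨t, ht⟩
        obtain ⟨u₀, hA, hc, -⟩ := key t ht
        exact ⟨⟨⟨u₀, hA⟩, t, ht, hc⟩, rfl⟩
    rw [← Nat.card_eq_of_bijective f hf, Nat.card_sigma]
    have hfib : ∀ u : A, Nat.card {t : G // IsConj z t ∧ Commute t (s * u.1)} = D (s * z) := by
      rintro ⟨u, hu, hus⟩
      obtain ⟨g, rfl⟩ := isConj_iff.1 hu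
      obtain ⟨c, hc, hcu⟩ := exists_conj_mem hz (H := Subgroup.centralizer ({s} : Set G))
        (Subgroup.mem_centralizer_singleton_iff.2 hsz.symm.eq)
        (g := g) (Subgroup.mem_centralizer_singleton_iff.2 hus.eq)
      have hcs : MulAut.conj c (s * z) = s * (g * z * g⁻¹) := by
        rw [MulAut.conj_apply, ← conj_mul, hcu]
        rw [(Subgroup.mem_centralizer_singleton_iff.1 hc), mul_inv_cancel_right]
      symm
      refine Nat.card_congr (Equiv.subtypeEquiv (MulAut.conj c).toEquiv fun t => ?_)
      constructor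
      · rintro ⟨h1, h2⟩
        refine ⟨h1.trans (isConj_iff.2 ⟨c, rfl⟩), ?_⟩
        simpa [hcs] using h2.map (MulAut.conj c).toMonoidHom
      · rintro ⟨h1, h2⟩
        refine ⟨h1.trans (isConj_iff.2 ⟨c⁻¹, by simp [mul_assoc]⟩), ?_⟩
        have h3 : Commute (MulAut.conj c t) (MulAut.conj c (s * z)) := by rw [hcs]; exact h2
        simpa [mul_assoc] using h3.map (MulAut.conj c).symm.toMonoidHom
    rw [Finset.sum_congr rfl fun u _ => hfib u, Finset.sum_const, smul_eq_mul, Finset.card_univ,
      ← Nat.card_eq_fintype_card]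
  show Nat.card G = Nat.card (Subgroup.centralizer ({z} : Set G)) * K (s * z) * K s
  rw [← card_conjugates_mul z, hsum, hKD s hsz.symm, hKD (s * z) (hsz.symm.mul_right (Commute.refl z))]
  ring

end Cfsg.Agent.S1186
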