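import Cfsg.Statements.S1187
import Mathlib
import Cfsg.Agent.Lib.Involutions.ZStar
-- import your own Cfsg.Agent.* helpers here

set_option autoImplicit false
open Cfsg

namespace Cfsg.Agent.S1187

open Cfsg.Agent.Lib.Involutions

/-- Let z be an isolated involution of the finite group G and p a prime. If Q is a p-subgroup normalized by z that is maximal among p-subgroups normalized by z, then Q is a Sylow p-subgroup of G. -/
theorem result {G : Type*} [Group G] [Finite G] (z : G) (hz : Cfsg.IsIsolatedInvolution z) {p : ℕ} [Fact p.Prime] (Q : Subgroup G) (hQ : IsPGroup p Q) (hzQ : z ∈ Subgroup.normalizer (Q : Set G)) (hmax : ∀ R : Subgroup G, IsPGroup p R → z ∈ Subgroup.normalizer (R : Set G) → Q ≤ R → R = Q) : ∃ P : Sylow p G, (P : Subgroup G) = Q := by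
  set H := Subgroup.normalizer (Q : Set G) with hH
  have hiso : Cfsg.IsIsolatedInvolution (⟨z, hzQ⟩ : H) :=
    ⟨by rw [Subgroup.orderOf_mk]; exact hz.1,
      fun g hc => Subtype.ext (hz.2 g (congrArg Subtype.val hc.eq))⟩
  obtain ⟨P, hP⟩ := exists_invariant_sylow hiso p
  have hQn : (Q.subgroupOf H).Normal := Subgroup.normal_in_normalizer
  have hle : Q.subgroupOf H ≤ (P : Subgroup H) := by
    obtain ⟨R, hR⟩ := (hQ.comap_subtype (H := Q) (K := H)).exists_le_sylow
    obtain ⟨c, hc⟩ := MulAction.exists_smul_eq H R P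
    intro x hx
    have h1 : c⁻¹ * x * c ∈ (R : Subgroup H) := hR (by
      simpa using hQn.conj_mem x hx c⁻¹)
    rw [← hc, sylow_map_conj]
    exact ⟨_, h1, show c * (c⁻¹ * x * c) * c⁻¹ = x by group⟩
  have heq := hmax ((P : Subgroup H).map H.subtype) (P.2.map _) (by
    refine Subgroup.le_normalizer_map H.subtype ⟨⟨z, hzQ⟩, hP, rfl⟩)
    fun x hx => ⟨⟨x, Subgroup.le_normalizer hx⟩, hle (Subgroup.mem_subgroupOf.2 hx), rfl⟩
  obtain ⟨T, hT⟩ := hQ.exists_le_sylow
  refine ⟨T, le_antisymm ?_ hT⟩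
  by_contra hne
  have hlt : Q < (T : Subgroup G) := lt_of_le_of_ne hT fun h => hne h.ge
  obtain ⟨M, hQM, hMT, hMN⟩ := exists_gt_le_normalizer T.2 hlt
  have hM' : IsPGroup p (M.subgroupOf H) := (T.2.to_le hMT).comap_subtype
  obtain ⟨R, hR⟩ := hM'.exists_le_sylow
  have hc1 : Nat.card M ≤ Nat.card (R : Subgroup H) := by
    rw [← Nat.card_congr (Subgroup.subgroupOfEquivOfLe hMN).toEquiv]
    exact Subgroup.card_le_of_le hR
  rw [Nat.card_congr (Sylow.equiv R P).toEquiv, ← Subgroup.card_map_of_injective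
    (K := (P : Subgroup H)) (f := H.subtype) H.subtype_injective, heq] at hc1
  exact hQM.ne (Subgroup.eq_of_le_of_card_ge hQM.le hc1)

end Cfsg.Agent.S1187
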