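import Cfsg.Statements.S1189
import Cfsg.Agent.Lib.Involutions.QuasiDihedral
import Cfsg.Agent.Lib.Involutions.Fusion
-- Template for statement S1189 (row 1189; see /opt/grader/pristine/manifest.json for weights).
-- Copy to Cfsg/Agent/S1189.lean and replace the sorry. The statement below is byte-identical to the frozen
-- statement Cfsg.CfsgFrozen.S1189 (Cfsg/Statements/S1189.lean; the theorem Cfsg.quasidihedral_conjugacy_classes_orders_two_and_four);
-- the grader kernel-checks Cfsg.Agent.S1189.result against that frozen type. Keep the theorem IN THIS FILE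
-- (a `result` declared elsewhere and merely imported here is not credited); helpers may live anywhere
-- under Cfsg/Agent/.
-- import your own Cfsg.Agent.* helpers here

set_option autoImplicit false
open Cfsg

namespace Cfsg.Agent.S1189

open Cfsg.Agent.Lib.Involutions

/-- A quasi-dihedral 2-group has exactly two conjugacy classes of elements of order 2 and exactly two conjugacy classes of elements of order 4. -/
theorem result {S : Type*} [Group S] [Finite S] (hS : Cfsg.IsQuasiDihedral S) : Nat.card {C : ConjClasses S // ∃ t : S, orderOf t = 2 ∧ ConjClasses.mk t = C} = 2 ∧ Nat.card {C : ConjClasses S // ∃ t : S, orderOf t = 4 ∧ ConjClasses.mk t = C} = 2 := by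
  obtain ⟨x, y, n, h⟩ := exists_qdGen hS
  have hz2 : orderOf (x ^ ((2 : ℤ) ^ (n - 1))) = 2 :=
    orderOf_eq_two_of_mul_self h.z_mul_self h.z_ne_one
  have hnorm : ∀ (g : S) (i : ℤ), ∃ j : ℤ, g * x ^ i * g⁻¹ = x ^ j := by
    intro g i
    obtain ⟨k, rfl | rfl⟩ := h.normal_form g
    · exact ⟨i, by rw [← zpow_add, ← zpow_neg, ← zpow_add]; congr 1; ring⟩
    · exact ⟨qdExp n * i, by
        rw [mul_inv_eq_iff_eq_mul, h.mul_yx, h.mul_xy]; congr 2; ring⟩
  have hneq : ∀ i j : ℤ, ¬ IsConj (x ^ i) (x ^ j * y) := fun i j hc => by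
    obtain ⟨g, hg⟩ := isConj_iff.1 hc
    obtain ⟨l, hl⟩ := hnorm g i
    exact h.zpow_y_ne_zpow j l (hg.symm.trans hl)
  constructor
  · refine card_classes_eq_of_reps ![x ^ ((2 : ℤ) ^ (n - 1)), x ^ (0 : ℤ) * y] ?_ ?_ ?_
    · intro i
      fin_cases i
      · exact hz2
      · exact h.orderOf_y_even Even.zero
    · intro i j hc
      fin_cases i <;> fin_cases j
      · rfl
      · exact absurd hc (hneq _ _)
      · exact absurd hc.symm (hneq _ _)
      · rfl
    · intro t ht
      obtain ⟨i, rfl | rfl⟩ := h.normal_form t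
      · refine ⟨0, ?_⟩
        rw [h.orderOf_zpow_two ht]
        exact IsConj.refl _
      · have hi : Even i := by
          by_contra hi
          rw [h.orderOf_y_odd (Int.not_even_iff_odd.1 hi)] at ht
          norm_num at ht
        obtain ⟨j, hj⟩ := h.exists_conj_zpow_y (i := 0) (i' := i) (by simpa using hi)
        exact ⟨1, isConj_iff.2 ⟨_, hj⟩⟩
  · refine card_classes_eq_of_reps ![x ^ ((2 : ℤ) ^ (n - 2)), x ^ (1 : ℤ) * y] ?_ ?_ ?_
    · intro i
      fin_cases i
      · exact h.orderOf_a
      · exact h.orderOf_y_odd odd_one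
    · intro i j hc
      fin_cases i <;> fin_cases j
      · rfl
      · exact absurd hc (hneq _ _)
      · exact absurd hc.symm (hneq _ _)
      · rfl
    · intro t ht
      obtain ⟨i, rfl | rfl⟩ := h.normal_form t
      · refine ⟨0, ?_⟩
        rcases h.orderOf_zpow_four ht with he | he <;> rw [he]
        · exact IsConj.refl _
        · exact isConj_iff.2 ⟨x ^ (0 : ℤ) * y, by rw [zpow_neg]; exact h.conj_a 0⟩
      · have hi : Odd i := by
          by_contra hi
          rw [h.orderOf_y_even (Int.not_odd_iff_even.1 hi)] at ht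
          norm_num at ht
        obtain ⟨j, hj⟩ := h.exists_conj_zpow_y (i := 1) (i' := i) (by
          obtain ⟨k, hk⟩ := hi
          exact ⟨k, by omega⟩)
        exact ⟨1, isConj_iff.2 ⟨_, hj⟩⟩

end Cfsg.Agent.S1189
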