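import Cfsg.Statements.S1192
import Cfsg.Agent.Lib.Involutions.QuasiDihedral
import Cfsg.Agent.Lib.Involutions.Fusion
import Cfsg.Agent.Lib.Transfer.PFrattini
-- Template for statement S1192 (row 1192; see /opt/grader/pristine/manifest.json for weights).
-- Copy to Cfsg/Agent/S1192.lean and replace the sorry. The statement below is byte-identical to the frozen
-- statement Cfsg.CfsgFrozen.S1192 (Cfsg/Statements/S1192.lean; the theorem Cfsg.quasidihedral_maximal_subgroups);
-- the grader kernel-checks Cfsg.Agent.S1192.result against that frozen type. Keep the theorem IN THIS FILE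
-- (a `result` declared elsewhere and merely imported here is not credited); helpers may live anywhere
-- under Cfsg/Agent/.
-- import your own Cfsg.Agent.* helpers here

set_option autoImplicit false
open Cfsg

namespace Cfsg.Agent.S1192

open Cfsg.Agent.Lib.Involutions

open scoped commutatorElement
theorem mul_mem_three {S : Type*} [Group S] {x y : S} {n : ℕ} (h : QDGen x y n) {H : Subgroup S}
    (hH : H.index = 2) : x ^ (2 : ℤ) ∈ H ∧ (H = Subgroup.zpowers x ∨ H = h.halfSub 0 ∨ H = h.halfSub 1) := by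
  have := h.finite
  have hsq : ∀ g : S, g * g ∈ H := fun g => (Subgroup.mul_mem_iff_of_index_two hH).2 Iff.rfl
  have hx2 : x ^ (2 : ℤ) ∈ H := by rw [zpow_two]; exact hsq x
  refine ⟨hx2, ?_⟩
  have hcard : Nat.card H = 2 ^ n := by
    have h2 := H.card_mul_index
    rw [hH, h.card, pow_succ] at h2
    exact Nat.eq_of_mul_eq_mul_right two_pos h2
  by_cases hxH : x ∈ H
  · left
    exact (Subgroup.eq_of_le_of_card_ge (Subgroup.zpowers_le.2 hxH)
      (by rw [Nat.card_zpowers, h.ox, hcard])).symm
  · right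
    by_cases hyH : y ∈ H
    · left
      refine (Subgroup.eq_of_le_of_card_ge ?_ (by rw [h.card_halfSub, hcard])).symm
      rintro g ⟨k, rfl | rfl⟩
      · rw [zpow_mul]; exact zpow_mem hx2 k
      · rw [add_zero, zpow_mul]; exact mul_mem (zpow_mem hx2 k) hyH
    · right
      refine (Subgroup.eq_of_le_of_card_ge ?_ (by rw [h.card_halfSub, hcard])).symm
      rintro g ⟨k, rfl | rfl⟩
      · rw [zpow_mul]; exact zpow_mem hx2 k
      · rw [zpow_add, zpow_one, mul_assoc, zpow_mul]
        exact mul_mem (zpow_mem hx2 k)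
          ((Subgroup.mul_mem_iff_of_index_two hH).2 (iff_of_false hxH hyH))

theorem index_zpowers {S : Type*} [Group S] {x y : S} {n : ℕ} (h : QDGen x y n) :
    (Subgroup.zpowers x).index = 2 := by
  have := h.finite
  have h2 := (Subgroup.zpowers x).card_mul_index
  rw [Nat.card_zpowers, h.ox, h.card, pow_succ] at h2
  exact Nat.eq_of_mul_eq_mul_left (by positivity) h2

theorem index_eq_of_coatom {S : Type*} [Group S] {x y : S} {n : ℕ} (h : QDGen x y n)
    {M : Subgroup S} (hM : IsCoatom M) : M.index = 2 := by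
  have := h.finite
  have : Fact (Nat.Prime 2) := ⟨Nat.prime_two⟩
  exact (Cfsg.Agent.Lib.Transfer.index_eq_of_isCoatom (IsPGroup.of_card h.card) hM).2

theorem isCoatom_of_index {S : Type*} [Group S] [Finite S] {M : Subgroup S} (hM : M.index = 2) :
    IsCoatom M := by
  refine ⟨fun h => by rw [h, Subgroup.index_top] at hM; norm_num at hM, fun K hK => ?_⟩
  have h1 := Subgroup.relIndex_mul_index hK.le
  rw [hM] at h1
  have hne : M.relIndex K ≠ 1 := fun h2 => hK.not_ge (Subgroup.relIndex_eq_one.1 h2)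
  have hdvd : M.relIndex K ∣ 2 := ⟨_, h1.symm⟩
  rcases (Nat.dvd_prime Nat.prime_two).1 hdvd with h2 | h2
  · exact absurd h2 hne
  · rw [h2] at h1
    exact Subgroup.index_eq_one.1 (by omega)

/-- A quasi-dihedral group S of order 2^(n+1) has exactly three maximal subgroups; one is cyclic, one is isomorphic to the generalized quaternion group of order 2^n and one to the dihedral group of order 2^n. -/
theorem result {S : Type*} [Group S] [Finite S] (hS : Cfsg.IsQuasiDihedral S) (n : ℕ) (hn : Nat.card S = 2 ^ (n + 1)) : ∃ M₁ M₂ M₃ : Subgroup S, IsCoatom M₁ ∧ IsCoatom M₂ ∧ IsCoatom M₃ ∧ M₁ ≠ M₂ ∧ M₁ ≠ M₃ ∧ M₂ ≠ M₃ ∧ (∀ M : Subgroup S, IsCoatom M → M = M₁ ∨ M = M₂ ∨ M = M₃) ∧ IsCyclic M₁ ∧ Nonempty (M₂ ≃* QuaternionGroup (2 ^ (n - 2))) ∧ Nonempty (M₃ ≃* DihedralGroup (2 ^ (n - 1))) := by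
  obtain ⟨x, y, m, h⟩ := exists_qdGen hS
  obtain rfl : m = n := Nat.succ_injective (Nat.pow_right_injective le_rfl (h.card.symm.trans hn))
  have := h.finite
  have hxe : x ∈ Subgroup.zpowers x := Subgroup.mem_zpowers x
  have hne : ∀ e : ℤ, Subgroup.zpowers x ≠ h.halfSub e := fun e he => by
    have h1 : x ^ (1 : ℤ) ∈ h.halfSub e := by rw [zpow_one, ← he]; exact hxe
    rw [h.zpow_mem_halfSub_iff] at h1
    exact Int.not_even_one h1
  refine ⟨Subgroup.zpowers x, h.halfSub 1, h.halfSub 0, isCoatom_of_index (index_zpowers h),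
    isCoatom_of_index (h.index_halfSub 1), isCoatom_of_index (h.index_halfSub 0), hne 1, hne 0,
    fun he => ?_, fun M hM => ?_, Subgroup.isCyclic_zpowers x, h.halfSub_quaternion, h.halfSub_dihedral⟩
  · have h1 : x ^ (0 : ℤ) * y ∈ h.halfSub 1 := by rw [he]; exact ⟨0, Or.inr rfl⟩
    rw [h.zpow_y_mem_halfSub_iff] at h1
    norm_num at h1
  · rcases (mul_mem_three h (index_eq_of_coatom h hM)).2 with he | he | he
    · exact Or.inl he
    · exact Or.inr (Or.inr he)
    · exact Or.inr (Or.inl he)

end Cfsg.Agent.S1192
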