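import Cfsg.Statements.S1193
import Cfsg.Agent.Lib.Involutions.QuasiDihedral
import Cfsg.Agent.Lib.Involutions.Fusion
import Cfsg.Agent.Lib.Transfer.PFrattini
-- Template for statement S1193 (row 1193; see /opt/grader/pristine/manifest.json for weights).
-- Copy to Cfsg/Agent/S1193.lean and replace the sorry. The statement below is byte-identical to the frozen
-- statement Cfsg.CfsgFrozen.S1193 (Cfsg/Statements/S1193.lean; the theorem Cfsg.quasidihedral_derived_frattini_omega);
-- the grader kernel-checks Cfsg.Agent.S1193.result against that frozen type. Keep the theorem IN THIS FILE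
-- (a `result` declared elsewhere and merely imported here is not credited); helpers may live anywhere
-- under Cfsg/Agent/.
-- import your own Cfsg.Agent.* helpers here

set_option autoImplicit false
open Cfsg

namespace Cfsg.Agent.S1193

open Cfsg.Agent.Lib.Involutions

open scoped commutatorElement
theorem mul_mem_three {S : Type*} [Group S] {x y : S} {n : ℕ} (h : QDGen x y n) {H : Subgroup S}
    (hH : H.index = 2) : x ^ (2 : ℤ) ∈ H ∧ (H = Subgroup.zpowers x ∨ H = h.halfSub 0 ∨ H = h.halfSub 1) := by
  have := h.finite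
  have hsq : ∀ g : S, g * g ∈ H := fun g => (Subgroup.mul_mem_iff_of_index_two hH).2 Iff.rfl
  have hx2 : x ^ (2 : ℤ) ∈ H := by rw [zpow_two]; exact hsq x
  refine ⟨hx2, ?_⟩
  have hcard : Nat.card H = 2 ^ n := by
    have h2 := H.card_mul_index
    rw [hH, h.card, pow_succ] at h2
    exact Nat.eq_of_mul_eq_mul_right two_pos h2
  by_cases hxH : x ∈ H
  · left
    exact (Subgroup.eq_of_le_of_card_ge (Subgroup.zpowers_le.2 hxH)
      (by rw [Nat.card_zpowers, h.ox, hcard])).symm
  · right
    by_cases hyH : y ∈ H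
    · left
      refine (Subgroup.eq_of_le_of_card_ge ?_ (by rw [h.card_halfSub, hcard])).symm
      rintro g ⟨k, rfl | rfl⟩
      · rw [zpow_mul]; exact zpow_mem hx2 k
      · rw [add_zero, zpow_mul]; exact mul_mem (zpow_mem hx2 k) hyH
    · right
      refine (Subgroup.eq_of_le_of_card_ge ?_ (by rw [h.card_halfSub, hcard])).symm
      rintro g ⟨k, rfl | rfl⟩
      · rw [zpow_mul]; exact zpow_mem hx2 k
      · rw [zpow_add, zpow_one, mul_assoc, zpow_mul]
        exact mul_mem (zpow_mem hx2 k)
          ((Subgroup.mul_mem_iff_of_index_two hH).2 (iff_of_false hxH hyH))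

theorem index_zpowers {S : Type*} [Group S] {x y : S} {n : ℕ} (h : QDGen x y n) :
    (Subgroup.zpowers x).index = 2 := by
  have := h.finite
  have h2 := (Subgroup.zpowers x).card_mul_index
  rw [Nat.card_zpowers, h.ox, h.card, pow_succ] at h2
  exact Nat.eq_of_mul_eq_mul_left (by positivity) h2

theorem index_eq_of_coatom {S : Type*} [Group S] {x y : S} {n : ℕ} (h : QDGen x y n)
    {M : Subgroup S} (hM : IsCoatom M) : M.index = 2 := by
  have := h.finite
  have : Fact (Nat.Prime 2) := ⟨Nat.prime_two⟩
  exact (Cfsg.Agent.Lib.Transfer.index_eq_of_isCoatom (IsPGroup.of_card h.card) hM).2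

theorem isCoatom_of_index {S : Type*} [Group S] [Finite S] {M : Subgroup S} (hM : M.index = 2) :
    IsCoatom M := by
  refine ⟨fun h => by rw [h, Subgroup.index_top] at hM; norm_num at hM, fun K hK => ?_⟩
  have h1 := Subgroup.relIndex_mul_index hK.le
  rw [hM] at h1
  have hne : M.relIndex K ≠ 1 := fun h2 => hK.not_ge (Subgroup.relIndex_eq_one.1 h2)
  have hdvd : M.relIndex K ∣ 2 := ⟨_, h1.symm⟩
  rcases (Nat.dvd_prime Nat.prime_two).1 hdvd with h2 | h2
  · exact absurd h2 hne
  · rw [h2] at h1
    exact Subgroup.index_eq_one.1 (by omega)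

/-- Let S be quasi-dihedral of order 2^(n+1). Then S' = Φ(S) is cyclic of order 2^(n-1), the centre of S has order 2, and the subgroup generated by the involutions of S is dihedral of order 2^n. -/
theorem result {S : Type*} [Group S] [Finite S] (hS : Cfsg.IsQuasiDihedral S) (n : ℕ) (hn : Nat.card S = 2 ^ (n + 1)) : commutator S = frattini S ∧ IsCyclic (commutator S) ∧ Nat.card (commutator S) = 2 ^ (n - 1) ∧ Nat.card (Subgroup.center S) = 2 ∧ Nonempty (↥(Subgroup.closure {x : S | orderOf x = 2}) ≃* DihedralGroup (2 ^ (n - 1))) := by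
  obtain ⟨x, y, m, h⟩ := exists_qdGen hS
  obtain rfl : m = n := Nat.succ_injective (Nat.pow_right_injective le_rfl (h.card.symm.trans hn))
  have := h.finite
  have hx2 : ∀ k : ℤ, x ^ (2 * k) ∈ commutator S := by
    have hc : x ^ (qdExp m - 1) ∈ commutator S := by
      have h1 : ⁅y, x⁆ = x ^ (qdExp m - 1) := by
        rw [commutatorElement_def, h.conj, zpow_sub_one]
      rw [← h1]
      exact Subgroup.commutator_mem_commutator (Subgroup.mem_top y) (Subgroup.mem_top x)
    intro k
    -- the coefficient `2^(m-2) - 1` is its own inverse modulo `2^(m-1)`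
    have h2 := zpow_mem hc (k * (2 ^ (m - 2) - 1))
    rw [← zpow_mul] at h2
    convert h2 using 1
    rw [h.pow_eq_iff, h.qdExp_sub_one]
    obtain ⟨j, rfl⟩ : ∃ j : ℕ, m = j + 3 := ⟨m - 3, by have := h.hn; omega⟩
    rw [show j + 3 - 2 = j + 1 by omega]
    exact ⟨-(k * (2 ^ j - 1)), by ring⟩
  have hfz : frattini S ≤ Subgroup.zpowers (x ^ (2 : ℤ)) := by
    intro g hg
    have hall : ∀ M : Subgroup S, M.index = 2 → g ∈ M := fun M hM =>
      frattini_le_coatom (isCoatom_of_index hM) hg
    obtain ⟨i, rfl | rfl⟩ := h.normal_form g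
    · obtain ⟨k, rfl⟩ := h.zpow_mem_halfSub_iff.1 (hall _ (h.index_halfSub 0))
      exact ⟨k, show (x ^ (2 : ℤ)) ^ k = _ by rw [← zpow_mul, two_mul]⟩
    · obtain ⟨j, hj⟩ := hall _ (index_zpowers h)
      exact absurd hj.symm (h.zpow_y_ne_zpow i j)
  have hcle : commutator S ≤ frattini S := by
    have : Fact (Nat.Prime 2) := ⟨Nat.prime_two⟩
    simp only [frattini, Order.radical, le_iInf_iff]
    intro M hM
    obtain ⟨hn', hi⟩ :=
      Cfsg.Agent.Lib.Transfer.index_eq_of_isCoatom (p := 2) (IsPGroup.of_card h.card) hM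
    have hcyc : IsCyclic (S ⧸ M) :=
      isCyclic_of_prime_card (p := 2) (by rw [← Subgroup.index_eq_card]; exact hi)
    exact Subgroup.Normal.quotient_commutative_iff_commutator_le.1
      (IsCyclic.isMulCommutative (α := S ⧸ M))
  have hzc : Subgroup.zpowers (x ^ (2 : ℤ)) = commutator S :=
    le_antisymm (Subgroup.zpowers_le.2 (by simpa using hx2 1)) (hcle.trans hfz)
  refine ⟨le_antisymm hcle (hfz.trans hzc.le), hzc ▸ Subgroup.isCyclic_zpowers _, ?_, ?_, ?_⟩
  · rw [← hzc, Nat.card_zpowers, h.orderOf_sq]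
  · have h1 : Subgroup.center S = Subgroup.zpowers (x ^ ((2 : ℤ) ^ (m - 1))) := by
      refine le_antisymm (fun g hg => ?_) (Subgroup.zpowers_le.2 ((h.center_le_iff _).2 (Or.inr rfl)))
      rcases (h.center_le_iff g).1 hg with rfl | rfl
      · exact one_mem _
      · exact Subgroup.mem_zpowers _
    rw [h1, Nat.card_zpowers, orderOf_eq_two_of_mul_self h.z_mul_self h.z_ne_one]
  · have h1 : Subgroup.closure {g : S | orderOf g = 2} = h.halfSub 0 := by
      apply le_antisymm
      · rw [Subgroup.closure_le]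
        intro g hg
        obtain ⟨i, rfl | rfl⟩ := h.normal_form g
        · rw [h.orderOf_zpow_two hg, SetLike.mem_coe, h.zpow_mem_halfSub_iff, h.two_pow_eq.2]
          exact even_two_mul _
        · rw [SetLike.mem_coe, h.zpow_y_mem_halfSub_iff, sub_zero]
          by_contra hi
          rw [Set.mem_ofPred_eq, h.orderOf_y_odd (Int.not_even_iff_odd.1 hi)] at hg
          norm_num at hg
      · have hmem : ∀ i : ℤ, Even i → x ^ i * y ∈ Subgroup.closure {g : S | orderOf g = 2} :=
          fun i hi => Subgroup.subset_closure (h.orderOf_y_even hi)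
        rintro g ⟨k, rfl | rfl⟩
        · have h2 := mul_mem (hmem (2 * k) (even_two_mul k)) (hmem 0 Even.zero)
          rwa [h.mul_yy, mul_zero, add_zero] at h2
        · exact hmem _ (by simp)
    rw [h1]
    exact h.halfSub_dihedral

end Cfsg.Agent.S1193
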