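import Cfsg.Statements.S1194
import Cfsg.Agent.Lib.Involutions.QuasiDihedral
import Cfsg.Agent.Lib.Involutions.Fusion
import Cfsg.Agent.Lib.Transfer.PFrattini
import Cfsg.Agent.S1193
-- Template for statement S1194 (row 1194; see /opt/grader/pristine/manifest.json for weights).
-- Copy to Cfsg/Agent/S1194.lean and replace the sorry. The statement below is byte-identical to the frozen
-- statement Cfsg.CfsgFrozen.S1194 (Cfsg/Statements/S1194.lean; the theorem Cfsg.quasidihedral_normal_subgroups);
-- the grader kernel-checks Cfsg.Agent.S1194.result against that frozen type. Keep the theorem IN THIS FILE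
-- (a `result` declared elsewhere and merely imported here is not credited); helpers may live anywhere
-- under Cfsg/Agent/.
-- import your own Cfsg.Agent.* helpers here

set_option autoImplicit false
open Cfsg

namespace Cfsg.Agent.S1194

open Cfsg.Agent.Lib.Involutions

open scoped commutatorElement
theorem mul_mem_three {S : Type*} [Group S] {x y : S} {n : ℕ} (h : QDGen x y n) {H : Subgroup S}
    (hH : H.index = 2) : x ^ (2 : ℤ) ∈ H ∧ (H = Subgroup.zpowers x ∨ H = h.halfSub 0 ∨ H = h.halfSub 1) := by
  have := h.finite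
  have hsq : ∀ g : S, g * g ∈ H := fun g => (Subgroup.mul_mem_iff_of_index_two hH).2 Iff.rfl
  have hx2 : x ^ (2 : ℤ) ∈ H := by rw [zpow_two]; exact hsq x
  refine ⟨hx2, ?_⟩
  have hcard : Nat.card H = 2 ^ n := by
    have h2 := H.card_mul_index
    rw [hH, h.card, pow_succ] at h2
    exact Nat.eq_of_mul_eq_mul_right two_pos h2
  by_cases hxH : x ∈ H
  · left
    exact (Subgroup.eq_of_le_of_card_ge (Subgroup.zpowers_le.2 hxH)
      (by rw [Nat.card_zpowers, h.ox, hcard])).symm
  · right
    by_cases hyH : y ∈ H
    · left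
      refine (Subgroup.eq_of_le_of_card_ge ?_ (by rw [h.card_halfSub, hcard])).symm
      rintro g ⟨k, rfl | rfl⟩
      · rw [zpow_mul]; exact zpow_mem hx2 k
      · rw [add_zero, zpow_mul]; exact mul_mem (zpow_mem hx2 k) hyH
    · right
      refine (Subgroup.eq_of_le_of_card_ge ?_ (by rw [h.card_halfSub, hcard])).symm
      rintro g ⟨k, rfl | rfl⟩
      · rw [zpow_mul]; exact zpow_mem hx2 k
      · rw [zpow_add, zpow_one, mul_assoc, zpow_mul]
        exact mul_mem (zpow_mem hx2 k)
          ((Subgroup.mul_mem_iff_of_index_two hH).2 (iff_of_false hxH hyH))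

theorem index_zpowers {S : Type*} [Group S] {x y : S} {n : ℕ} (h : QDGen x y n) :
    (Subgroup.zpowers x).index = 2 := by
  have := h.finite
  have h2 := (Subgroup.zpowers x).card_mul_index
  rw [Nat.card_zpowers, h.ox, h.card, pow_succ] at h2
  exact Nat.eq_of_mul_eq_mul_left (by positivity) h2

theorem index_eq_of_coatom {S : Type*} [Group S] {x y : S} {n : ℕ} (h : QDGen x y n)
    {M : Subgroup S} (hM : IsCoatom M) : M.index = 2 := by
  have := h.finite
  have : Fact (Nat.Prime 2) := ⟨Nat.prime_two⟩
  exact (Cfsg.Agent.Lib.Transfer.index_eq_of_isCoatom (IsPGroup.of_card h.card) hM).2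

theorem isCoatom_of_index {S : Type*} [Group S] [Finite S] {M : Subgroup S} (hM : M.index = 2) :
    IsCoatom M := by
  refine ⟨fun h => by rw [h, Subgroup.index_top] at hM; norm_num at hM, fun K hK => ?_⟩
  have h1 := Subgroup.relIndex_mul_index hK.le
  rw [hM] at h1
  have hne : M.relIndex K ≠ 1 := fun h2 => hK.not_ge (Subgroup.relIndex_eq_one.1 h2)
  have hdvd : M.relIndex K ∣ 2 := ⟨_, h1.symm⟩
  rcases (Nat.dvd_prime Nat.prime_two).1 hdvd with h2 | h2
  · exact absurd h2 hne
  · rw [h2] at h1
    exact Subgroup.index_eq_one.1 (by omega)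

/-- In a quasi-dihedral 2-group S, every proper normal subgroup is either a maximal subgroup or a cyclic subgroup contained in the derived subgroup S'. -/
theorem result {S : Type*} [Group S] [Finite S] (hS : Cfsg.IsQuasiDihedral S) (N : Subgroup S) [N.Normal] (hN : N ≠ ⊤) : IsCoatom N ∨ (IsCyclic N ∧ N ≤ commutator S) := by
  obtain ⟨x, y, n, h⟩ := exists_qdGen hS
  have := h.finite
  by_cases hle : N ≤ Subgroup.zpowers x
  · by_cases hcom : N ≤ commutator S
    · exact Or.inr ⟨((Subgroup.subgroupOfEquivOfLe hle).isCyclic).1 inferInstance, hcom⟩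
    · left
      obtain ⟨g, hg, hgc⟩ := SetLike.not_le_iff_exists.1 hcom
      obtain ⟨i, rfl⟩ := hle hg
      have hodd : Odd i := by
        by_contra hi
        rw [Int.not_odd_iff_even] at hi
        obtain ⟨k, rfl⟩ := hi
        apply hgc
        obtain ⟨-, hcyc, hcard, -⟩ := Cfsg.Agent.S1193.result hS n h.card
        -- `x^2` lies in the commutator subgroup, of index four
        have hc : x ^ (qdExp n - 1) ∈ commutator S := by
          have h1 : ⁅y, x⁆ = x ^ (qdExp n - 1) := by
            rw [commutatorElement_def, h.conj, zpow_sub_one]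
          rw [← h1]
          exact Subgroup.commutator_mem_commutator (Subgroup.mem_top y) (Subgroup.mem_top x)
        have h2 := zpow_mem hc (k * (2 ^ (n - 2) - 1))
        rw [← zpow_mul] at h2
        show x ^ (k + k) ∈ commutator S
        convert h2 using 1
        rw [h.pow_eq_iff, h.qdExp_sub_one]
        obtain ⟨j, rfl⟩ : ∃ j : ℕ, n = j + 3 := ⟨n - 3, by have := h.hn; omega⟩
        rw [show j + 3 - 2 = j + 1 by omega]
        exact ⟨-(k * (2 ^ j - 1)), by ring⟩
      have hNx : N = Subgroup.zpowers x := by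
        refine Subgroup.eq_of_le_of_card_ge hle ?_
        refine Nat.le_of_dvd Nat.card_pos ?_
        rw [Nat.card_zpowers, h.ox]
        have ho : orderOf (x ^ i) = 2 ^ n := by
          refine Nat.dvd_antisymm ?_ ?_
          · refine orderOf_dvd_of_pow_eq_one ?_
            rw [← zpow_natCast, ← zpow_mul, h.pow_eq_one_iff]
            push_cast
            exact dvd_mul_left _ _
          · have h1 : x ^ (i * (orderOf (x ^ i) : ℤ)) = 1 := by
              rw [zpow_mul, zpow_natCast, pow_orderOf_eq_one]
            rw [h.pow_eq_one_iff] at h1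
            have hcop : IsCoprime ((2 : ℤ) ^ n) i := by
              refine IsCoprime.pow_left ?_
              obtain ⟨m, rfl⟩ := hodd
              exact ⟨-m, 1, by ring⟩
            exact_mod_cast hcop.dvd_of_dvd_mul_left h1
        rw [← ho]
        exact Subgroup.orderOf_dvd_natCard _ hg
      rw [hNx]
      exact isCoatom_of_index (index_zpowers h)
  · left
    obtain ⟨g, hg, hgz⟩ := SetLike.not_le_iff_exists.1 hle
    obtain ⟨i, rfl | rfl⟩ := h.normal_form g
    · exact absurd (Subgroup.zpow_mem_zpowers x i) hgz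
    have hi : ∀ i' : ℤ, Even (i' - i) → x ^ i' * y ∈ N := fun i' hp => by
      obtain ⟨j, hj⟩ := h.exists_conj_zpow_y hp
      rw [← hj]
      exact Subgroup.Normal.conj_mem inferInstance _ hg _
    have hx2 : x ^ (2 : ℤ) ∈ N := by
      have h1 := mul_mem (hi (i + 2) (by simp)) (inv_mem hg)
      rwa [show x ^ (i + 2) = x ^ (2 : ℤ) * x ^ i by rw [← zpow_add, add_comm],
        mul_assoc (x ^ (2:ℤ)), mul_inv_cancel_right] at h1
    have hle2 : h.halfSub i ≤ N := by
      rintro g ⟨k, rfl | rfl⟩
      · rw [zpow_mul]; exact zpow_mem hx2 k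
      · rw [zpow_add, mul_assoc, zpow_mul]; exact mul_mem (zpow_mem hx2 k) hg
    have hidx := Subgroup.index_dvd_of_le hle2
    rw [h.index_halfSub] at hidx
    rcases (Nat.dvd_prime Nat.prime_two).1 hidx with h2 | h2
    · exact absurd (Subgroup.index_eq_one.1 h2) hN
    · exact isCoatom_of_index h2

end Cfsg.Agent.S1194
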