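import Cfsg.Statements.S1195
import Cfsg.Agent.Lib.Involutions.Wreathed
import Cfsg.Agent.Lib.Involutions.Fusion
-- Template for statement S1195 (row 1195; see /opt/grader/pristine/manifest.json for weights).
-- Copy to Cfsg/Agent/S1195.lean and replace the sorry. The statement below is byte-identical to the frozen
-- statement Cfsg.CfsgFrozen.S1195 (Cfsg/Statements/S1195.lean; the theorem Cfsg.wreathed_three_classes_of_involutions);
-- the grader kernel-checks Cfsg.Agent.S1195.result against that frozen type. Keep the theorem IN THIS FILE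
-- (a `result` declared elsewhere and merely imported here is not credited); helpers may live anywhere
-- under Cfsg/Agent/.
-- import your own Cfsg.Agent.* helpers here

set_option autoImplicit false
open Cfsg

namespace Cfsg.Agent.S1195

open Cfsg.Agent.Lib.Involutions

/-- A wreathed 2-group has exactly three conjugacy classes of elements of order 2. -/
theorem result {S : Type*} [Group S] [Finite S] (hS : Cfsg.IsWreathed S) : Nat.card {C : ConjClasses S // ∃ t : S, orderOf t = 2 ∧ ConjClasses.mk t = C} = 3 := by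
  obtain ⟨x, y, z, n, h⟩ := exists_wrGen hS
  have hne : ∀ (g : S) (i j : ℤ), ∃ a b : ℤ, g * el x y i j * g⁻¹ = el x y a b := fun g i j => by
    obtain ⟨k, l, rfl | rfl⟩ := h.normal_form g
    · exact ⟨i, j, h.conj_el_el k l i j⟩
    · exact ⟨j, i, h.conj_z_el k l i j⟩
  have hout : ∀ i j a b : ℤ, ¬ IsConj (el x y i j) (el x y a b * z) := fun i j a b hc => by
    obtain ⟨g, hg⟩ := isConj_iff.1 hc
    obtain ⟨u, v, huv⟩ := hne g i j
    exact h.el_z_ne_el a b u v (hg.symm.trans huv)
  set q : ℤ := 2 ^ (n - 1) with hq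
  have hqq : (2 : ℤ) ^ n ∣ q + q := ⟨1, by rw [h.two_pow_eq.1]; ring⟩
  have hac : ¬ IsConj (el x y q 0) (el x y q q) := fun hc => by
    obtain ⟨g, hg⟩ := isConj_iff.1 hc.symm
    have hcen : el x y q q ∈ Subgroup.center S := (h.center_iff _).2 ⟨q, rfl⟩
    rw [Subgroup.mem_center_iff.1 hcen g, mul_inv_cancel_right, h.el_eq_iff, sub_zero] at hg
    exact h.dvd_half_false hg.2
  refine card_classes_eq_of_reps ![el x y q 0, el x y q q, el x y 0 0 * z] ?_ ?_ ?_
  · intro i
    fin_cases i
    · show orderOf (el x y q 0) = 2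
      exact orderOf_eq_two_of_mul_self (by rw [h.el_mul, h.el_eq_one_iff]; exact ⟨hqq, by simp⟩)
        (h.el_half_ne_one 0)
    · show orderOf (el x y q q) = 2
      exact orderOf_eq_two_of_mul_self (by rw [h.el_mul, h.el_eq_one_iff]; exact ⟨hqq, hqq⟩)
        (h.el_half_ne_one q)
    · exact h.orderOf_el_z (by simp)
  · intro i j hc
    fin_cases i <;> fin_cases j <;> first
      | rfl
      | exact absurd hc hac
      | exact absurd hc.symm hac
      | exact absurd hc (hout _ _ _ _)
      | exact absurd hc.symm (hout _ _ _ _)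
  · intro t ht
    obtain ⟨i, j, rfl | rfl⟩ := h.normal_form t
    · rcases h.invol_el ht with he | he | he <;> rw [he]
      · exact ⟨0, IsConj.refl _⟩
      · exact ⟨0, isConj_iff.2 ⟨el x y 0 0 * z, h.conj_z_el 0 0 q 0⟩⟩
      · exact ⟨1, IsConj.refl _⟩
    · refine ⟨2, isConj_iff.2 ⟨el x y i 0, ?_⟩⟩
      refine (h.conj_el_z i 0 0 0).trans ?_
      rw [mul_left_inj, h.el_eq_iff]
      have h2 := h.orderOf_el_z_iff.1 ht
      exact ⟨by simp, by rw [← dvd_neg]; simpa [add_comm] using h2⟩

end Cfsg.Agent.S1195
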