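import Cfsg.Statements.S1198
import Cfsg.Agent.Lib.Involutions.Wreathed
import Cfsg.Agent.Lib.Involutions.BaerSuzuki
import Mathlib.GroupTheory.SpecificGroups.KleinFour
-- Template for statement S1198 (row 1198; see /opt/grader/pristine/manifest.json for weights).
-- Copy to Cfsg/Agent/S1198.lean and replace the sorry. The statement below is byte-identical to the frozen
-- statement Cfsg.CfsgFrozen.S1198 (Cfsg/Statements/S1198.lean; the theorem Cfsg.wreathed_four_subgroups);
-- the grader kernel-checks Cfsg.Agent.S1198.result against that frozen type. Keep the theorem IN THIS FILE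
-- (a `result` declared elsewhere and merely imported here is not credited); helpers may live anywhere
-- under Cfsg/Agent/.
-- import your own Cfsg.Agent.* helpers here

set_option autoImplicit false
open Cfsg

namespace Cfsg.Agent.S1198

open Cfsg.Agent.Lib.Involutions

theorem isKleinFour_of_card {S : Type*} [Group S] {T : Subgroup S} (hc : Nat.card T = 4)
    (hsq : ∀ g ∈ T, g * g = 1) : IsKleinFour T where
  card_four := hc
  exponent_two := by
    have : Finite T := Nat.finite_of_card_ne_zero (by rw [hc]; norm_num)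
    have : Nontrivial T := Finite.one_lt_card_iff_nontrivial.1 (by rw [hc]; norm_num)
    rw [Monoid.exponent_eq_prime_iff Nat.prime_two]
    intro g hg
    exact orderOf_eq_two_of_mul_self (Subtype.ext (hsq g g.2)) hg

theorem ncard_quad {S : Type*} {a b c d : S} (hab : a ≠ b) (hac : a ≠ c) (had : a ≠ d)
    (hbc : b ≠ c) (hbd : b ≠ d) (hcd : c ≠ d) : ({a, b, c, d} : Set S).ncard = 4 := by
  rw [Set.ncard_insert_of_notMem (by simp [hab, hac, had]),
    Set.ncard_insert_of_notMem (by simp [hbc, hbd]), Set.ncard_pair hcd]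

/-- A wreathed 2-group S has a normal Klein four-subgroup T such that every Klein four-subgroup of S other than T is conjugate in S to any other such subgroup; in particular S has exactly two conjugacy classes of Klein four-subgroups. -/
theorem result {S : Type*} [Group S] [Finite S] (hS : Cfsg.IsWreathed S) : ∃ T : Subgroup S, IsKleinFour T ∧ T.Normal ∧ (∃ T₀ : Subgroup S, IsKleinFour T₀ ∧ T₀ ≠ T) ∧ ∀ T₁ T₂ : Subgroup S, IsKleinFour T₁ → IsKleinFour T₂ → T₁ ≠ T → T₂ ≠ T → ∃ s : S, T₁.map (MulAut.conj s).toMonoidHom = T₂ := by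
  obtain ⟨x, y, z, n, h⟩ := exists_wrGen hS
  have := h.finite
  set q : ℤ := 2 ^ (n - 1) with hq
  have hqq : (2 : ℤ) ^ n ∣ q + q := ⟨1, by rw [h.two_pow_eq.1]; ring⟩
  have hqn : q ∣ 2 ^ n := ⟨2, by rw [h.two_pow_eq.1]; ring⟩
  have hcase : ∀ i : ℤ, q ∣ i → (2 : ℤ) ^ n ∣ i - 0 ∨ (2 : ℤ) ^ n ∣ i - q := by
    rintro i ⟨k, rfl⟩
    rcases Int.even_or_odd k with ⟨m, rfl⟩ | ⟨m, rfl⟩
    · exact Or.inl ⟨m, by rw [h.two_pow_eq.1]; ring⟩
    · exact Or.inr ⟨m, by rw [h.two_pow_eq.1]; ring⟩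
  -- the normal four-subgroup
  let T : Subgroup S :=
    { carrier := {g | ∃ i j : ℤ, g = el x y i j ∧ q ∣ i ∧ q ∣ j}
      one_mem' := ⟨0, 0, h.el_zero.symm, dvd_zero _, dvd_zero _⟩
      mul_mem' := by
        rintro a b ⟨i, j, rfl, hi, hj⟩ ⟨k, l, rfl, hk, hl⟩
        exact ⟨_, _, h.el_mul i j k l, dvd_add hi hk, dvd_add hj hl⟩
      inv_mem' := by
        rintro a ⟨i, j, rfl, hi, hj⟩
        exact ⟨_, _, h.el_inv i j, dvd_neg.2 hi, dvd_neg.2 hj⟩ }
  let c := el x y q q
  let t₀ := el x y 0 0 * z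
  have ht₀ : t₀ * t₀ = 1 := by rw [h.mul_zz, add_zero, h.el_zero]
  have hct : c * t₀ = t₀ * c := ((h.commute_el_z_iff q q 0 0).2 (by simp)).eq
  have hc : c * c = 1 := h.el_mul q q q q ▸ h.el_eq_one_iff.2 ⟨hqq, hqq⟩
  -- the other four-subgroups
  let T₀ : Subgroup S :=
    { carrier := {1, c, t₀, c * t₀}
      one_mem' := by simp
      mul_mem' := by
        have e1 : t₀ * (c * t₀) = c := by rw [hct, ← mul_assoc, ht₀, one_mul]
        have e2 : c * t₀ * c = t₀ := by rw [mul_assoc, ← hct, ← mul_assoc, hc, one_mul]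
        have e3 : c * t₀ * t₀ = c := by rw [mul_assoc, ht₀, mul_one]
        have e4 : c * t₀ * (c * t₀) = 1 := by rw [mul_assoc, e1, hc]
        have e5 : c * (c * t₀) = t₀ := by rw [← mul_assoc, hc, one_mul]
        rintro a b (rfl | rfl | rfl | rfl) (rfl | rfl | rfl | rfl) <;>
          simp [e1, e2, e3, e4, e5, hc, ht₀, hct.symm]
      inv_mem' := by
        rintro a (rfl | rfl | rfl | rfl)
        · simp
        · rw [inv_eq_of_mul_eq_one_right hc]; simp
        · rw [inv_eq_of_mul_eq_one_right ht₀]; simp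
        · have : c * t₀ * (c * t₀) = 1 := by
            rw [mul_assoc, ← mul_assoc t₀, ← hct, mul_assoc c t₀, ht₀, mul_one, hc]
          rw [inv_eq_of_mul_eq_one_right this]; simp }
  have hTset : (T : Set S) = {1, el x y q 0, el x y 0 q, c} := by
    ext g
    constructor
    · rintro ⟨i, j, rfl, hi, hj⟩
      rcases hcase i hi with hi' | hi' <;> rcases hcase j hj with hj' | hj'
      · rw [sub_zero] at hi' hj'
        exact Or.inl (h.el_eq_one_iff.2 ⟨hi', hj'⟩)
      · exact Or.inr (Or.inr (Or.inl (h.el_eq_iff.2 ⟨hi', hj'⟩)))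
      · exact Or.inr (Or.inl (h.el_eq_iff.2 ⟨hi', hj'⟩))
      · exact Or.inr (Or.inr (Or.inr (h.el_eq_iff.2 ⟨hi', hj'⟩)))
    · rintro (rfl | rfl | rfl | rfl)
      · exact T.one_mem
      · exact ⟨q, 0, rfl, dvd_rfl, dvd_zero _⟩
      · exact ⟨0, q, rfl, dvd_zero _, dvd_rfl⟩
      · exact ⟨q, q, rfl, dvd_rfl, dvd_rfl⟩
  have hnd : ¬ (2 : ℤ) ^ n ∣ q := h.dvd_half_false
  have hTcard : Nat.card T = 4 := by
    rw [show Nat.card T = Nat.card ↥(T : Set S) from rfl, Nat.card_coe_set_eq, hTset]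
    refine ncard_quad (h.el_half_ne_one 0).symm (h.el_half_ne_one' 0).symm (h.el_half_ne_one q).symm
      ?_ ?_ ?_ <;> intro he <;> rw [h.el_eq_iff] at he
    · exact hnd (by simpa using he.1)
    · exact hnd (by simpa using he.2)
    · exact hnd (by simpa using he.1)
  have hT : IsKleinFour T := isKleinFour_of_card hTcard (by
    rintro g ⟨i, j, rfl, ⟨k, rfl⟩, ⟨l, rfl⟩⟩
    rw [h.el_mul, h.el_eq_one_iff, h.two_pow_eq.1]
    exact ⟨⟨k, by ring⟩, ⟨l, by ring⟩⟩)
  have hTn : T.Normal := ⟨by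
    rintro g ⟨i, j, rfl, hi, hj⟩ u
    obtain ⟨k, l, rfl | rfl⟩ := h.normal_form u
    · exact ⟨i, j, h.conj_el_el k l i j, hi, hj⟩
    · exact ⟨j, i, h.conj_z_el k l i j, hj, hi⟩⟩
  have hT₀card : Nat.card T₀ = 4 := by
    rw [show Nat.card T₀ = Nat.card ↥({1, c, t₀, c * t₀} : Set S) from rfl, Nat.card_coe_set_eq]
    have hc1 : c ≠ 1 := h.el_half_ne_one q
    refine ncard_quad hc1.symm (fun he => h.el_z_ne_el 0 0 0 0 ((he.symm : t₀ = 1).trans h.el_zero.symm))
      (fun he => ?_) (fun he => h.el_z_ne_el 0 0 q q he.symm) (fun he => ?_)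
      (fun he => hc1 (mul_eq_right.1 he.symm))
    · exact h.el_z_ne_el 0 0 (-q) (-q) (by rw [← h.el_inv]; exact eq_inv_of_mul_eq_one_right he.symm)
    · exact h.el_z_ne_el 0 0 0 0 ((mul_eq_left.1 he.symm : t₀ = 1).trans h.el_zero.symm)
  have hT₀ : IsKleinFour T₀ := isKleinFour_of_card hT₀card (by
    rintro g (rfl | rfl | rfl | rfl)
    · exact one_mul 1
    · exact hc
    · exact ht₀
    · rw [mul_assoc, ← mul_assoc t₀, ← hct, mul_assoc c t₀, ht₀, mul_one, hc])
  -- every other four-subgroup is conjugate to `T₀`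
  have key : ∀ T' : Subgroup S, IsKleinFour T' → T' ≠ T →
      ∃ s : S, T₀.map (MulAut.conj s).toMonoidHom = T' := by
    intro T' hT' hne
    have hsq : ∀ u ∈ T', u * u = 1 := fun u hu =>
      congrArg Subtype.val (IsKleinFour.mul_self (⟨u, hu⟩ : T'))
    have hcard : Nat.card T' = 4 := IsKleinFour.card_four
    obtain ⟨i, j, hij⟩ : ∃ i j : ℤ, el x y i j * z ∈ T' := by
      by_contra hall
      push Not at hall
      refine hne (Subgroup.eq_of_le_of_card_ge (fun u hu => ?_) (by rw [hcard, hTcard]))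
      obtain ⟨i, j, rfl | rfl⟩ := h.normal_form u
      · have h1 := hsq _ hu
        rw [h.el_mul, h.el_eq_one_iff, h.two_pow_eq.1, ← two_mul, ← two_mul,
          mul_dvd_mul_iff_left two_ne_zero, mul_dvd_mul_iff_left two_ne_zero] at h1
        exact ⟨i, j, rfl, h1.1, h1.2⟩
      · exact absurd hu (hall i j)
    refine ⟨el x y i 0, (Subgroup.eq_of_le_of_card_ge ?_ ?_).symm⟩
    · have hji : (2 : ℤ) ^ n ∣ i + j := by
        have h1 := hsq _ hij
        rw [h.mul_zz, h.el_eq_one_iff] at h1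
        exact h1.1
      have ht : el x y i 0 * t₀ * (el x y i 0)⁻¹ = el x y i j * z := by
        refine (h.conj_el_z i 0 0 0).trans ?_
        rw [mul_left_inj, h.el_eq_iff]
        refine ⟨by simp, ?_⟩
        rw [show (0 : ℤ) - (i - 0) - j = -(i + j) by ring, dvd_neg]
        exact hji
      intro u hu
      have hbase : ∀ a b : ℤ, el x y a b ∈ T' → el x y a b ∈ T₀.map (MulAut.conj (el x y i 0)).toMonoidHom := by
        intro a b hab
        have hc' : Commute (el x y a b) (el x y i j * z) :=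
          congrArg Subtype.val (mul_comm_of_exponent_two IsKleinFour.exponent_two (⟨_, hab⟩ : T') ⟨_, hij⟩)
        rw [h.commute_el_z_iff] at hc'
        have h1 := hsq _ hab
        rw [h.el_mul, h.el_eq_one_iff, h.two_pow_eq.1, ← two_mul, ← two_mul,
          mul_dvd_mul_iff_left two_ne_zero, mul_dvd_mul_iff_left two_ne_zero] at h1
        rcases hcase a h1.1 with ha | ha
        · rw [show el x y a b = 1 from h.el_eq_one_iff.2
            ⟨by simpa using ha, by simpa using dvd_sub (by simpa using ha : (2 : ℤ) ^ n ∣ a) hc'⟩]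
          exact one_mem _
        · refine ⟨c, by simp [T₀], ?_⟩
          refine (h.conj_el_el i 0 q q).trans (h.el_eq_iff.2 ⟨?_, ?_⟩)
          · rw [← dvd_neg, neg_sub]; exact ha
          · rw [show q - b = (a - b) - (a - q) by ring]; exact dvd_sub hc' ha
      obtain ⟨a, b, rfl | rfl⟩ := h.normal_form u
      · exact hbase a b hu
      · have h2 := mul_mem hu hij
        rw [h.mul_zz] at h2
        have h3 := mul_mem (hbase _ _ h2)
          (⟨t₀, by simp [T₀], ht⟩ : el x y i j * z ∈ T₀.map (MulAut.conj (el x y i 0)).toMonoidHom)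
        rw [← h.mul_zz a b i j, mul_assoc, show el x y i j * z * (el x y i j * z) = 1 from hsq _ hij,
          mul_one] at h3
        exact h3
    · rw [Subgroup.card_map_of_injective (MulAut.conj _).injective, hcard, hT₀card]
  refine ⟨T, hT, hTn, ⟨T₀, hT₀, fun he => ?_⟩, fun T₁ T₂ h1 h2 hn1 hn2 => ?_⟩
  · obtain ⟨i, j, hij, -⟩ : t₀ ∈ T := he ▸ (show t₀ ∈ T₀ by simp [T₀])
    exact h.el_z_ne_el 0 0 i j hij
  · obtain ⟨s₁, rfl⟩ := key T₁ h1 hn1
    obtain ⟨s₂, rfl⟩ := key T₂ h2 hn2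
    refine ⟨s₂ * s₁⁻¹, ?_⟩
    rw [map_conj_mul, inv_mul_cancel_right]

end Cfsg.Agent.S1198
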