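import Cfsg.Statements.S1199
import Cfsg.Agent.Lib.Involutions.Wreathed
-- Template for statement S1199 (row 1199; see /opt/grader/pristine/manifest.json for weights).
-- Copy to Cfsg/Agent/S1199.lean and replace the sorry. The statement below is byte-identical to the frozen
-- statement Cfsg.CfsgFrozen.S1199 (Cfsg/Statements/S1199.lean; the theorem Cfsg.wreathed_unique_generalized_quaternion_subgroup);
-- the grader kernel-checks Cfsg.Agent.S1199.result against that frozen type. Keep the theorem IN THIS FILE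
-- (a `result` declared elsewhere and merely imported here is not credited); helpers may live anywhere
-- under Cfsg/Agent/.
-- import your own Cfsg.Agent.* helpers here

set_option autoImplicit false
open Cfsg

namespace Cfsg.Agent.S1199

open Cfsg.Agent.Lib.Involutions

theorem quaternion_gens {m : ℕ} [NeZero m] :
    orderOf (QuaternionGroup.a 1 : QuaternionGroup m) = 2 * m ∧
    (QuaternionGroup.xa 0 : QuaternionGroup m) * QuaternionGroup.xa 0 = QuaternionGroup.a 1 ^ m ∧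
    (QuaternionGroup.xa 0 : QuaternionGroup m) * QuaternionGroup.a 1 * (QuaternionGroup.xa 0)⁻¹ =
      (QuaternionGroup.a 1)⁻¹ ∧
    ∀ u : QuaternionGroup m, ∃ k : ℕ,
      u = QuaternionGroup.a 1 ^ k ∨ u = QuaternionGroup.xa 0 * QuaternionGroup.a 1 ^ k := by
  have : NeZero (2 * m) := ⟨by have := NeZero.ne m; omega⟩
  refine ⟨QuaternionGroup.orderOf_a_one, by simp, ?_, ?_⟩
  · rw [mul_inv_eq_iff_eq_mul]
    have h1 : (QuaternionGroup.a 1 : QuaternionGroup m)⁻¹ = QuaternionGroup.a (-1) :=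
      inv_eq_of_mul_eq_one_right (by simp)
    rw [h1]
    simp
  · rintro (i | i)
    · exact ⟨i.val, Or.inl (by rw [QuaternionGroup.a_one_pow, ZMod.natCast_zmod_val])⟩
    · refine ⟨i.val, Or.inr ?_⟩
      rw [QuaternionGroup.a_one_pow, ZMod.natCast_zmod_val, QuaternionGroup.xa_mul_a, zero_add]

theorem q8_gens : ∀ p : QuaternionGroup 2 × QuaternionGroup 2,
    p ∈ [(QuaternionGroup.xa 0, QuaternionGroup.a 1), (QuaternionGroup.xa (-1), QuaternionGroup.a 1)] →
    (p.1 ^ 4 = 1 ∧ p.1 ^ 2 ≠ 1) ∧ p.2 * p.2 = p.1 ^ 2 ∧ p.2 * p.1 * p.2⁻¹ = p.1⁻¹ ∧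
    ∀ u : QuaternionGroup 2, ∃ k : Fin 4, u = p.1 ^ k.val ∨ u = p.2 * p.1 ^ k.val := by decide

/-- A wreathed 2-group S of order 2^(2n+1) has exactly one subgroup of order 2^(n+1) isomorphic to a generalized quaternion group, and that subgroup is normal in S. -/
theorem result {S : Type*} [Group S] [Finite S] (hS : Cfsg.IsWreathed S) (n : ℕ) (hn : Nat.card S = 2 ^ (2 * n + 1)) : (∃! Y : Subgroup S, Nat.card Y = 2 ^ (n + 1) ∧ Nonempty (Y ≃* QuaternionGroup (2 ^ (n - 1)))) ∧ ∀ Y : Subgroup S, Nat.card Y = 2 ^ (n + 1) → Nonempty (Y ≃* QuaternionGroup (2 ^ (n - 1))) → Y.Normal := by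
  obtain ⟨x, y, z, m, h⟩ := exists_wrGen hS
  obtain rfl : m = n := by
    have := Nat.pow_right_injective le_rfl (h.card.symm.trans hn)
    omega
  have := h.finite
  set q : ℤ := 2 ^ (m - 1) with hq
  have hqn : (2 : ℤ) ^ m ∣ q + q := ⟨1, by rw [h.two_pow_eq.1]; ring⟩
  have : NeZero (2 ^ (m - 1) : ℕ) := ⟨by positivity⟩
  have hm2 : 2 * 2 ^ (m - 1) = 2 ^ m := by
    rw [← pow_succ']; congr 1; have := h.hn; omega
  let Y₀ : Subgroup S :=
    { carrier := {g | ∃ i j : ℤ, (g = el x y i j ∧ (2 : ℤ) ^ m ∣ i + j) ∨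
        (g = el x y i j * z ∧ (2 : ℤ) ^ m ∣ i + j - q)}
      one_mem' := ⟨0, 0, Or.inl ⟨h.el_zero.symm, by simp⟩⟩
      mul_mem' := by
        rintro a b ⟨i, j, ⟨rfl, h1⟩ | ⟨rfl, h1⟩⟩ ⟨k, l, ⟨rfl, h2⟩ | ⟨rfl, h2⟩⟩
        · refine ⟨_, _, Or.inl ⟨h.el_mul i j k l, ?_⟩⟩
          rw [show i + k + (j + l) = (i + j) + (k + l) by ring]; exact dvd_add h1 h2
        · refine ⟨_, _, Or.inr ⟨h.mul_ez i j k l, ?_⟩⟩
          rw [show i + k + (j + l) - q = (i + j) + (k + l - q) by ring]; exact dvd_add h1 h2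
        · refine ⟨_, _, Or.inr ⟨h.mul_ze i j k l, ?_⟩⟩
          rw [show i + l + (j + k) - q = (i + j - q) + (k + l) by ring]; exact dvd_add h1 h2
        · refine ⟨_, _, Or.inl ⟨h.mul_zz i j k l, ?_⟩⟩
          rw [show i + l + (j + k) = (i + j - q) + (k + l - q) + (q + q) by ring]
          exact dvd_add (dvd_add h1 h2) hqn
      inv_mem' := by
        rintro a ⟨i, j, ⟨rfl, h1⟩ | ⟨rfl, h1⟩⟩
        · refine ⟨_, _, Or.inl ⟨h.el_inv i j, ?_⟩⟩
          rw [show -i + -j = -(i + j) by ring, dvd_neg]; exact h1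
        · refine ⟨_, _, Or.inr ⟨h.inv_z i j, ?_⟩⟩
          rw [show -j + -i - q = -((i + j - q) + (q + q)) by ring, dvd_neg]
          exact dvd_add h1 hqn }
  have hn' : Y₀.Normal := ⟨by
    rintro g ⟨i, j, ⟨rfl, h1⟩ | ⟨rfl, h1⟩⟩ u <;> obtain ⟨k, l, rfl | rfl⟩ := h.normal_form u
    · exact ⟨i, j, Or.inl ⟨h.conj_el_el k l i j, h1⟩⟩
    · exact ⟨j, i, Or.inl ⟨h.conj_z_el k l i j, by rw [add_comm]; exact h1⟩⟩
    · exact ⟨_, _, Or.inr ⟨h.conj_el_z k l i j, by
        rw [show i + (k - l) + (j - (k - l)) - q = i + j - q by ring]; exact h1⟩⟩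
    · refine ⟨k + j - l, l + i - k, Or.inr ⟨?_, ?_⟩⟩
      · rw [h.mul_zz, h.inv_z, h.mul_ez]
        congr 2 <;> ring
      · rw [show k + j - l + (l + i - k) - q = i + j - q by ring]; exact h1⟩
  -- generators of `Y₀`
  set w := el x y 1 (-1) with hw
  set t := el x y q 0 * z with ht
  have hwY : w ∈ Y₀ := ⟨1, -1, Or.inl ⟨rfl, by simp⟩⟩
  have htY : t ∈ Y₀ := ⟨q, 0, Or.inr ⟨rfl, by simp⟩⟩
  have hword : orderOf w = 2 * 2 ^ (m - 1) := by rw [hw, h.orderOf_el_one, hm2]
  have hnq : t ∉ Subgroup.zpowers w := by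
    rintro ⟨k, hk⟩
    change w ^ k = t at hk
    rw [hw, h.el_anti_zpow] at hk
    exact h.el_z_ne_el _ _ _ _ hk.symm
  have htt : t * t = w ^ ((2 ^ (m - 1) : ℕ) : ℤ) := by
    rw [ht, hw, h.mul_zz, h.el_anti_zpow, h.el_eq_iff]
    push_cast
    exact ⟨by simp [hq], by simpa [hq] using hqn⟩
  have hconj : t * w * t⁻¹ = w⁻¹ := by
    rw [ht, hw, h.conj_z_el, h.el_inv, neg_neg]
  obtain ⟨F, hF, hF1, hF0⟩ := exists_quaternionHom (m := 2 ^ (m - 1)) hword htt hnq hconj
  have hYF : Y₀ = F.range := by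
    apply le_antisymm
    · rw [quaternionHom_range, hF1, hF0]
      have hw' : ∀ i j : ℤ, (2 : ℤ) ^ m ∣ i + j → el x y i j ∈ Subgroup.closure {w, t} := fun i j hij => by
        have : el x y i j = w ^ i := by
          rw [hw, h.el_anti_zpow]
          exact h.el_eq_iff.2 ⟨by simp, by rw [show j - -i = i + j by ring]; exact hij⟩
        rw [this]
        have hwc : w ∈ Subgroup.closure {w, t} := Subgroup.subset_closure (Or.inl rfl)
        exact zpow_mem hwc i
      rintro g ⟨i, j, ⟨rfl, h1⟩ | ⟨rfl, h1⟩⟩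
      · exact hw' i j h1
      · rw [show el x y i j * z = el x y (i - q) j * t by
          rw [ht, h.mul_ez, sub_add_cancel, add_zero]]
        exact mul_mem (hw' _ _ (by rw [show i - q + j = i + j - q by ring]; exact h1))
          (Subgroup.subset_closure (Or.inr rfl))
    · rw [quaternionHom_range, hF1, hF0, Subgroup.closure_le]
      exact Set.insert_subset hwY (Set.singleton_subset_iff.2 htY)
  have hcardY : Nat.card Y₀ = 2 ^ (m + 1) := by
    rw [hYF, ← Nat.card_congr (MonoidHom.ofInjective hF).toEquiv, Nat.card_eq_fintype_card,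
      QuaternionGroup.card, show (4 : ℕ) = 2 * 2 by rfl, mul_assoc, hm2, ← pow_succ']
  have hiso : Nonempty (Y₀ ≃* QuaternionGroup (2 ^ (m - 1))) :=
    ⟨((MonoidHom.ofInjective hF).trans (MulEquiv.subgroupCongr hYF.symm)).symm⟩
  have huniq : ∀ Y : Subgroup S, Nat.card Y = 2 ^ (m + 1) →
      Nonempty (Y ≃* QuaternionGroup (2 ^ (m - 1))) → Y = Y₀ := by
    rintro Y hYc ⟨e⟩
    -- generators with the cyclic one inside the base
    obtain ⟨X, Z, hX, hXo, hXX, hXZ, hgen⟩ : ∃ X Z : Y, (X : S) ∈ h.base ∧ orderOf X = 2 ^ m ∧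
        Z * Z = X ^ (2 ^ (m - 1)) ∧ Z * X * Z⁻¹ = X⁻¹ ∧
        ∀ u : Y, ∃ k : ℕ, u = X ^ k ∨ u = Z * X ^ k := by
      obtain ⟨g1, g2, g3, g4⟩ := quaternion_gens (m := 2 ^ (m - 1))
      have htr : ∀ a b : QuaternionGroup (2 ^ (m - 1)), ((e.symm a : Y) : S) ∈ h.base →
          orderOf a = 2 ^ m → b * b = a ^ (2 ^ (m - 1)) → b * a * b⁻¹ = a⁻¹ →
          (∀ u, ∃ k : ℕ, u = a ^ k ∨ u = b * a ^ k) → ∃ X Z : Y, (X : S) ∈ h.base ∧
          orderOf X = 2 ^ m ∧ Z * Z = X ^ (2 ^ (m - 1)) ∧ Z * X * Z⁻¹ = X⁻¹ ∧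
          ∀ u : Y, ∃ k : ℕ, u = X ^ k ∨ u = Z * X ^ k := by
        intro a b ha h1 h2 h3 h4
        refine ⟨e.symm a, e.symm b, ha, by rw [MulEquiv.orderOf_eq, h1],
          by rw [← map_mul, h2, map_pow], by rw [← map_mul, ← map_inv, ← map_mul, h3, map_inv],
          fun u => ?_⟩
        obtain ⟨k, hk | hk⟩ := h4 (e u)
        · exact ⟨k, Or.inl (by rw [← map_pow, ← hk, e.symm_apply_apply])⟩
        · exact ⟨k, Or.inr (by rw [← map_pow, ← map_mul, ← hk, e.symm_apply_apply])⟩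
      by_cases ha : ((e.symm (QuaternionGroup.a 1) : Y) : S) ∈ h.base
      · exact htr _ _ ha (g1.trans hm2) g2 g3 g4
      · rcases Nat.lt_or_ge 2 m with hm3 | hm3
        · -- the square of `X` would be central and inverted, too small for `m ≥ 3`
          exfalso
          set X := ((e.symm (QuaternionGroup.a 1) : Y) : S) with hX
          obtain ⟨i, j, hij | hij⟩ := h.normal_form X
          · exact ha ⟨i, j, hij⟩
          have hcen : X * X ∈ Subgroup.center S := by
            rw [hij, h.mul_zz, h.center_iff]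
            exact ⟨i + j, by rw [add_comm j i]⟩
          set Z := ((e.symm (QuaternionGroup.xa 0) : Y) : S) with hZ
          have h3 : Z * X * Z⁻¹ = X⁻¹ := by
            rw [hX, hZ]
            exact_mod_cast congrArg Subtype.val
              (show e.symm (QuaternionGroup.xa 0) * e.symm (QuaternionGroup.a 1) *
                (e.symm (QuaternionGroup.xa 0))⁻¹ = (e.symm (QuaternionGroup.a 1))⁻¹ by
                rw [← map_inv, ← map_inv, ← map_mul, ← map_mul, g3])
          have h4 : Z * (X * X) * Z⁻¹ = (X * X)⁻¹ := by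
            rw [mul_inv_rev, ← h3]; group
          rw [Subgroup.mem_center_iff.1 hcen Z, mul_inv_cancel_right, eq_inv_iff_mul_eq_one] at h4
          have h5 : orderOf X ∣ 4 := orderOf_dvd_of_pow_eq_one (by
            rw [show (4 : ℕ) = 2 * 2 by rfl, pow_mul, sq, sq]; exact h4)
          rw [hX, Subgroup.orderOf_coe, MulEquiv.orderOf_eq, g1, hm2] at h5
          have := Nat.le_of_dvd (by norm_num) h5
          have : 2 ^ 3 ≤ 2 ^ m := Nat.pow_le_pow_right two_pos hm3
          omega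
        · obtain rfl : m = 2 := le_antisymm hm3 h.hn
          by_cases hb : ((e.symm (QuaternionGroup.xa 0) : Y) : S) ∈ h.base
          · obtain ⟨q1, q2, q3, q4⟩ := q8_gens (QuaternionGroup.xa 0, QuaternionGroup.a 1) (by simp)
            have : Fact (Nat.Prime 2) := ⟨Nat.prime_two⟩
            exact htr _ _ hb (orderOf_eq_prime_pow (p := 2) (n := 1) (by simpa using q1.2)
              (by simpa using q1.1)) q2 q3 fun u => (q4 u).elim fun k hk => ⟨k, hk⟩
          · obtain ⟨q1, q2, q3, q4⟩ := q8_gens (QuaternionGroup.xa (-1), QuaternionGroup.a 1) (by simp)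
            have : Fact (Nat.Prime 2) := ⟨Nat.prime_two⟩
            refine htr _ _ ?_ (orderOf_eq_prime_pow (p := 2) (n := 1) (by simpa using q1.2)
              (by simpa using q1.1)) q2 q3 fun u => (q4 u).elim fun k hk => ⟨k, hk⟩
            have he : (QuaternionGroup.xa (-1) : QuaternionGroup (2 ^ (2 - 1))) =
                QuaternionGroup.a 1 * QuaternionGroup.xa 0 := by simp
            rw [he, map_mul, Subgroup.coe_mul]
            exact (Subgroup.mul_mem_iff_of_index_two h.index_base).2 (iff_of_false ha hb)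
    obtain ⟨i, j, hXe⟩ := hX
    have hdn : ∀ k : ℕ, (X : S) ^ k = 1 → 2 ^ m ∣ k := fun k hk => by
      rw [← hXo]
      exact orderOf_dvd_of_pow_eq_one (Subtype.ext hk)
    obtain ⟨a, b, hZe | hZe⟩ := h.normal_form (Z : S)
    · exfalso
      have h1 := congrArg Subtype.val hXZ
      simp only [Subgroup.coe_mul, Subgroup.coe_inv, hXe, hZe, h.conj_el_el] at h1
      have h2 : 2 ^ m ∣ 2 := hdn 2 (by rw [sq, hXe]; exact mul_eq_one_iff_eq_inv.2 h1)
      have := Nat.le_of_dvd two_pos h2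
      have : 2 ^ 2 ≤ 2 ^ m := Nat.pow_le_pow_right two_pos h.hn
      omega
    have h1 := congrArg Subtype.val hXZ
    simp only [Subgroup.coe_mul, Subgroup.coe_inv, hXe, hZe, h.conj_z_el, h.el_inv, h.el_eq_iff] at h1
    have hij : (2 : ℤ) ^ m ∣ i + j := by simpa [sub_neg_eq_add] using h1.2
    have hwi : ∀ k : ℕ, el x y i j ^ k = el x y (i * k) (-(i * k)) := fun k => by
      have he1 : el x y i j = el x y i (-i) :=
        h.el_eq_iff.2 ⟨by simp, by simpa [add_comm] using hij⟩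
      rw [he1.trans (h.el_anti_zpow i).symm, ← zpow_natCast, ← zpow_mul, h.el_anti_zpow]
    have hodd : Odd i := by
      rw [← Int.not_even_iff_odd]
      rintro ⟨c, hc⟩
      have h2 : (X : S) ^ (2 ^ (m - 1)) = 1 := by
        rw [hXe, hwi, h.el_eq_one_iff, dvd_neg, and_self, h.two_pow_eq.1, hc]
        push_cast
        exact ⟨c, by ring⟩
      have h3 := hdn _ h2
      rw [← hm2] at h3
      have := Nat.le_of_dvd (by positivity) h3
      have : 0 < 2 ^ (m - 1) := by positivity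
      omega
    have hab : (2 : ℤ) ^ m ∣ a + b - q := by
      have h2 := congrArg Subtype.val hXX
      simp only [Subgroup.coe_mul, SubgroupClass.coe_pow, hXe, hZe, h.mul_zz, hwi, h.el_eq_iff] at h2
      obtain ⟨c, hc⟩ := hodd
      have h3 := h2.1
      push_cast at h3
      rw [← hq, hc] at h3
      rw [show a + b - q = (a + b - (2 * c + 1) * q) + c * (q + q) by ring]
      exact dvd_add h3 (hqn.mul_left c)
    refine Subgroup.eq_of_le_of_card_ge (fun u hu => ?_) (by rw [hcardY, hYc])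
    have hXY : (X : S) ∈ Y₀ := ⟨i, j, Or.inl ⟨hXe, hij⟩⟩
    have hZY : (Z : S) ∈ Y₀ := ⟨a, b, Or.inr ⟨hZe, hab⟩⟩
    obtain ⟨k, hk | hk⟩ := hgen ⟨u, hu⟩
    · rw [show u = (X : S) ^ k from congrArg Subtype.val hk]
      exact pow_mem hXY k
    · rw [show u = (Z : S) * (X : S) ^ k from congrArg Subtype.val hk]
      exact mul_mem hZY (pow_mem hXY k)
  refine ⟨⟨Y₀, ⟨hcardY, hiso⟩, fun Y hY => huniq Y hY.1 hY.2⟩, fun Y h1 h2 => ?_⟩
  rw [huniq Y h1 h2]
  exact hn' 

end Cfsg.Agent.S1199
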