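import Cfsg.Statements.S1200
import Cfsg.Agent.Lib.Involutions.Wreathed
-- Template for statement S1200 (row 1200; see /opt/grader/pristine/manifest.json for weights).
-- Copy to Cfsg/Agent/S1200.lean and replace the sorry. The statement below is byte-identical to the frozen
-- statement Cfsg.CfsgFrozen.S1200 (Cfsg/Statements/S1200.lean; the theorem Cfsg.wreathed_omega_one);
-- the grader kernel-checks Cfsg.Agent.S1200.result against that frozen type. Keep the theorem IN THIS FILE
-- (a `result` declared elsewhere and merely imported here is not credited); helpers may live anywhere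
-- under Cfsg/Agent/.
-- import your own Cfsg.Agent.* helpers here

set_option autoImplicit false
open Cfsg

namespace Cfsg.Agent.S1200

open Cfsg.Agent.Lib.Involutions

/-- Let S be a wreathed 2-group of order 2^(2n+1) and Ω the subgroup generated by its involutions. Then Ω has order 2^(n+2) and S/Ω is cyclic: some s ∈ S together with Ω generates S. -/
theorem result {S : Type*} [Group S] [Finite S] (hS : Cfsg.IsWreathed S) (n : ℕ) (hn : Nat.card S = 2 ^ (2 * n + 1)) : Nat.card (Subgroup.closure {x : S | orderOf x = 2}) = 2 ^ (n + 2) ∧ ∃ s : S, Subgroup.closure {x : S | orderOf x = 2} ⊔ Subgroup.zpowers s = ⊤ := by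
  obtain ⟨x, y, z, m, h⟩ := exists_wrGen hS
  obtain rfl : m = n := by
    have := Nat.pow_right_injective le_rfl (h.card.symm.trans hn)
    omega
  have := h.finite
  set q : ℤ := 2 ^ (m - 1) with hq
  have hqn : q ∣ 2 ^ m := ⟨2, by rw [h.two_pow_eq.1]; ring⟩
  set C := Subgroup.closure {g : S | orderOf g = 2} with hC
  obtain ⟨ψ, hψ⟩ := h.exists_sumHom
  have hdvd : 2 ^ (m - 1) ∣ 2 ^ m := Nat.pow_dvd_pow 2 (by omega)
  let red : Multiplicative (ZMod (2 ^ m)) →* Multiplicative (ZMod (2 ^ (m - 1))) :=
    AddMonoidHom.toMultiplicative (ZMod.castHom hdvd (ZMod (2 ^ (m - 1)))).toAddMonoidHom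
  let φ := red.comp ψ
  have hφ : ∀ g : S, ∀ i j : ℤ, (g = el x y i j ∨ g = el x y i j * z) →
      φ g = Multiplicative.ofAdd ((i + j : ℤ) : ZMod (2 ^ (m - 1))) := by
    intro g i j hg
    rcases hg with rfl | rfl
    · show red (ψ _) = _
      rw [(hψ i j).1]
      exact congrArg Multiplicative.ofAdd (map_intCast (ZMod.castHom hdvd (ZMod (2 ^ (m - 1)))) (i + j))
    · show red (ψ _) = _
      rw [(hψ i j).2]
      exact congrArg Multiplicative.ofAdd (map_intCast (ZMod.castHom hdvd (ZMod (2 ^ (m - 1)))) (i + j))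
  have hker : ∀ g : S, ∀ i j : ℤ, (g = el x y i j ∨ g = el x y i j * z) →
      (g ∈ φ.ker ↔ q ∣ i + j) := by
    intro g i j hg
    rw [MonoidHom.mem_ker, hφ g i j hg, ofAdd_eq_one, ZMod.intCast_zmod_eq_zero_iff_dvd, hq]
    push_cast
    rfl
  have hanti : ∀ k : ℤ, el x y k (-k) ∈ C := fun k => by
    have hz : ∀ l : ℤ, el x y l (-l) * z ∈ C := fun l =>
      Subgroup.subset_closure (h.orderOf_el_z (by simp))
    have := mul_mem (hz k) (hz 0)
    rwa [h.mul_zz, neg_zero, add_zero, add_zero] at this
  have hCker : C = φ.ker := by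
    apply le_antisymm
    · rw [hC, Subgroup.closure_le]
      intro g hg
      obtain ⟨i, j, rfl | rfl⟩ := h.normal_form g
      · rcases h.invol_el hg with he | he | he <;> rw [he, SetLike.mem_coe, hker _ _ _ (Or.inl rfl)]
        · simp [hq]
        · simp [hq]
        · exact dvd_add dvd_rfl dvd_rfl
      · rw [SetLike.mem_coe, hker _ _ _ (Or.inr rfl)]
        exact hqn.trans (h.orderOf_el_z_iff.1 hg)
    · intro g hg
      obtain ⟨i, j, hgij⟩ := h.normal_form g
      obtain ⟨k, hk⟩ := (hker g i j hgij).1 hg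
      have hhalf : el x y 0 q ∈ C := Subgroup.subset_closure (orderOf_eq_two_of_mul_self (by
        rw [h.el_mul, h.el_eq_one_iff, h.two_pow_eq.1]
        exact ⟨by simp, ⟨1, by ring⟩⟩) (h.el_half_ne_one' 0))
      have hbase : el x y i j ∈ C := by
        have h2 : el x y 0 q ^ k = el x y 0 (q * k) := by
          simp [el, zpow_mul]
        have h1 : el x y i j = el x y i (-i) * el x y 0 q ^ k := by
          rw [h2, h.el_mul, ← hk, add_zero, neg_add_cancel_left]
        rw [h1]
        exact mul_mem (hanti i) (zpow_mem hhalf k)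
      rcases hgij with rfl | rfl
      · exact hbase
      · refine mul_mem hbase (Subgroup.subset_closure ?_)
        have h3 := h.orderOf_el_z (i := 0) (j := 0) (by simp)
        rwa [h.el_zero, one_mul] at h3
  have hsurj : Function.Surjective φ := by
    intro c
    refine ⟨el x y (c.toAdd.cast : ℤ) 0, ?_⟩
    rw [hφ _ _ _ (Or.inl rfl), add_zero, ZMod.intCast_zmod_cast]
    rfl
  constructor
  · rw [hCker]
    have h2 := φ.ker.card_mul_index
    rw [Subgroup.index_ker, MonoidHom.range_eq_top.2 hsurj, Subgroup.card_top,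
      Nat.card_congr Multiplicative.toAdd, Nat.card_zmod, h.card] at h2
    have hsplit : 2 ^ (2 * m + 1) = 2 ^ (m + 2) * 2 ^ (m - 1) := by
      rw [← pow_add]; congr 1; have := h.hn; omega
    rw [hsplit] at h2
    exact Nat.eq_of_mul_eq_mul_right (by positivity) h2
  · refine ⟨el x y 1 0, top_le_iff.1 fun g _ => ?_⟩
    obtain ⟨i, j, hg⟩ := h.normal_form g
    have hbase : el x y i j ∈ C ⊔ Subgroup.zpowers (el x y 1 0) := by
      have h1 : el x y i j = el x y (-j) j * el x y 1 0 ^ (i + j) := by
        rw [show el x y 1 0 ^ (i + j) = el x y (i + j) 0 by simp [el], h.el_mul]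
        congr 1 <;> ring
      rw [h1]
      refine mul_mem ((le_sup_left : C ≤ _) ?_) (zpow_mem ((le_sup_right : _ ≤ C ⊔ _) (Subgroup.mem_zpowers _)) _)
      have := hanti (-j)
      rwa [neg_neg] at this
    rcases hg with rfl | rfl
    · exact hbase
    · refine mul_mem hbase ((le_sup_left : C ≤ _) (Subgroup.subset_closure ?_))
      have h3 := h.orderOf_el_z (i := 0) (j := 0) (by simp)
      rwa [h.el_zero, one_mul] at h3

end Cfsg.Agent.S1200
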