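import Cfsg.Statements.S1201
import Cfsg.Agent.Lib.Involutions.Wreathed
-- Template for statement S1201 (row 1201; see /opt/grader/pristine/manifest.json for weights).
-- Copy to Cfsg/Agent/S1201.lean and replace the sorry. The statement below is byte-identical to the frozen
-- statement Cfsg.CfsgFrozen.S1201 (Cfsg/Statements/S1201.lean; the theorem Cfsg.wreathed_center_of_nonabelian_subgroup);
-- the grader kernel-checks Cfsg.Agent.S1201.result against that frozen type. Keep the theorem IN THIS FILE
-- (a `result` declared elsewhere and merely imported here is not credited); helpers may live anywhere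
-- under Cfsg/Agent/.
-- import your own Cfsg.Agent.* helpers here

set_option autoImplicit false
open Cfsg

namespace Cfsg.Agent.S1201

open Cfsg.Agent.Lib.Involutions

/-- If X is a non-commutative subgroup of a wreathed 2-group S, then Z(X) ≤ Z(S). -/
theorem result {S : Type*} [Group S] [Finite S] (hS : Cfsg.IsWreathed S) (X : Subgroup S) (hX : ¬ IsMulCommutative X) : (Subgroup.center X).map X.subtype ≤ Subgroup.center S := by
  obtain ⟨x, y, z, n, h⟩ := exists_wrGen hS
  rintro _ ⟨c, hc, rfl⟩
  have hcX : ∀ u ∈ X, Commute (u : S) c := fun u hu =>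
    congrArg Subtype.val (Subgroup.mem_center_iff.1 hc ⟨u, hu⟩)
  by_contra hcs
  have hbasecomm : ∀ a b c d : ℤ, Commute (el x y a b) (el x y c d) := fun a b c d => by
    rw [Commute, SemiconjBy, h.el_mul, h.el_mul, add_comm a, add_comm b]
  obtain ⟨i, j, hij | hij⟩ := h.normal_form (c : S)
  · -- the centralizer of a non-central base element is the base
    have hXb : ∀ u ∈ X, u ∈ h.base := by
      intro u hu
      obtain ⟨k, l, rfl | rfl⟩ := h.normal_form u
      · exact h.el_mem_base k l
      · exfalso
        have h1 := (hcX _ hu).symm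
        rw [hij, h.commute_el_z_iff] at h1
        exact hcs ((h.center_iff _).2 ⟨i, hij.trans (h.el_eq_iff.2
          ⟨by simp, by rw [← dvd_neg, neg_sub]; exact h1⟩)⟩)
    refine hX ⟨⟨fun a b => ?_⟩⟩
    obtain ⟨k, l, hkl⟩ := hXb a a.2
    obtain ⟨k', l', hkl'⟩ := hXb b b.2
    exact Subtype.ext (by rw [Subgroup.coe_mul, Subgroup.coe_mul, hkl, hkl']; exact hbasecomm _ _ _ _)
  · have hcen : ∀ u ∈ X, u ∈ h.base → u ∈ Subgroup.center S := by
      rintro u hu ⟨k, l, rfl⟩
      have h1 := hcX _ hu
      rw [hij, h.commute_el_z_iff] at h1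
      exact (h.center_iff _).2 ⟨k, h.el_eq_iff.2 ⟨by simp, by rw [← dvd_neg, neg_sub]; exact h1⟩⟩
    have key : ∀ u : X, ∃ d ∈ Subgroup.center S, ∃ e : Bool,
        (u : S) = if e then d * c else d := by
      intro u
      by_cases hu : (u : S) ∈ h.base
      · exact ⟨u, hcen _ u.2 hu, false, rfl⟩
      · refine ⟨(u : S) * (c : S)⁻¹, hcen _ (mul_mem u.2 (inv_mem c.2)) ?_, true, by simp⟩
        have hcb : (c : S) ∉ h.base := by
          rintro ⟨k, l, hkl⟩
          exact h.el_z_ne_el i j k l (hij.symm.trans hkl)
        exact (Subgroup.mul_mem_iff_of_index_two h.index_base).2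
          (iff_of_false hu fun h2 => hcb (by simpa using inv_mem h2))
    refine hX ⟨⟨fun a b => ?_⟩⟩
    obtain ⟨d, hd, e, hde⟩ := key a
    obtain ⟨d', hd', e', hde'⟩ := key b
    have hd1 : ∀ u : S, Commute d u := fun u => (Subgroup.mem_center_iff.1 hd u).symm
    have hd2 : ∀ u : S, Commute d' u := fun u => (Subgroup.mem_center_iff.1 hd' u).symm
    refine Subtype.ext ?_
    rw [Subgroup.coe_mul, Subgroup.coe_mul, hde, hde']
    cases e <;> cases e' <;> simp only [if_true, Bool.false_eq_true, if_false]
    · exact (hd1 d').eq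
    · exact (hd1 _).eq
    · exact ((hd2 _).symm).eq
    · exact ((hd1 _).mul_left (((hd2 _).symm).mul_right (Commute.refl _))).eq

end Cfsg.Agent.S1201
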