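import Cfsg.Statements.S1202
import Cfsg.Agent.Lib.Involutions.WreathedVSub

set_option autoImplicit false
open Cfsg

namespace Cfsg.Agent.S1202

open Cfsg.Agent.Lib.Involutions

theorem result {S : Type*} [Group S] [Finite S] (hS : Cfsg.IsWreathed S) (n : ℕ) (hn : Nat.card S = 2 ^ (2 * n + 1)) (X : Subgroup S) (hC : Subgroup.centralizer (X : Set S) ≤ X) (hA : ¬ IsPGroup 2 (MulAut X)) : X.relIndex (Subgroup.normalizer (X : Set S)) = 2 ∧ ((IsMulCommutative X ∧ Nat.card X = 2 ^ (2 * n)) ∨ ∃ Q : Subgroup S, Nonempty (Q ≃* QuaternionGroup 2) ∧ X = Q ⊔ Subgroup.center S) ∧ ∀ X' : Subgroup S, Subgroup.centralizer (X' : Set S) ≤ X' → ¬ IsPGroup 2 (MulAut X') → ¬ IsMulCommutative X → ¬ IsMulCommutative X' → ∃ s : S, X.map (MulAut.conj s).toMonoidHom = X' := by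
  obtain ⟨x, y, z, m, h⟩ := exists_wrGen hS
  obtain rfl : m = n := by
    have h1 := Nat.pow_right_injective le_rfl (h.card.symm.trans hn)
    omega
  have hcases : ∀ U : Subgroup S, Subgroup.centralizer (U : Set S) ≤ U → ¬ IsPGroup 2 (MulAut U) →
      U = h.base ∨ ∃ s : S, U = h.vsub.map (MulAut.conj s).toMonoidHom := by
    intro U hU hU'
    rcases h.centric_cases U hU with e | ⟨s, hs⟩ | hN
    · exact Or.inl e
    · refine Or.inr ⟨s⁻¹, ?_⟩
      rw [← hs, Subgroup.map_map]
      convert (Subgroup.map_id U).symm using 2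
      ext g; simp [MulAut.conj_apply]; group
    · exact absurd (isPGroup_mulAut_of_noOddAut hN) hU'
  have hcen : ∀ s : S, (Subgroup.center S).map (MulAut.conj s).toMonoidHom = Subgroup.center S := by
    intro s
    ext g
    rw [Subgroup.mem_map_equiv, MulAut.conj_symm_apply]
    rw [mul_assoc, Subgroup.Normal.mem_comm_iff inferInstance, mul_inv_cancel_right]
  refine ⟨?_, ?_, ?_⟩
  · rcases hcases X hC hA with rfl | ⟨s, rfl⟩
    · exact h.relIndex_base_normalizer
    · rw [← Subgroup.map_equiv_normalizer_eq, Subgroup.relIndex_map_map_of_injective _ _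
        (MulAut.conj s).injective]
      exact h.relIndex_vsub_normalizer
  · rcases hcases X hC hA with rfl | ⟨s, rfl⟩
    · exact Or.inl ⟨h.isMulCommutative_base, h.card_base⟩
    · obtain ⟨Q, ⟨e⟩, hQ⟩ := h.exists_quaternion_sup_center
      refine Or.inr ⟨Q.map (MulAut.conj s).toMonoidHom,
        ⟨(Q.equivMapOfInjective _ (MulAut.conj s).injective).symm.trans e⟩, ?_⟩
      rw [hQ, Subgroup.map_sup, hcen]
  · intro X' hC' hA' hX hX'
    rcases hcases X hC hA with rfl | ⟨s, rfl⟩
    · exact absurd h.isMulCommutative_base hX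
    rcases hcases X' hC' hA' with rfl | ⟨s', rfl⟩
    · exact absurd h.isMulCommutative_base hX'
    refine ⟨s' * s⁻¹, ?_⟩
    rw [Subgroup.map_map]
    congr 1
    ext g; simp [MulAut.conj_apply]; group

end Cfsg.Agent.S1202
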