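import Cfsg.Statements.S1203
import Cfsg.Agent.Lib.Involutions.QDFusion

set_option autoImplicit false
open Cfsg

namespace Cfsg.Agent.S1203

open Cfsg.Agent.Lib.Involutions

theorem result {G : Type*} [Group G] [Finite G] (S : Sylow 2 G) (hS : Cfsg.IsQuasiDihedral (S : Subgroup G)) (T : Subgroup G) (hT : IsKleinFour T) (hTS : T ≤ S) (Q : Subgroup G) (hQS : Q ≤ S) (eQ : Q ≃* QuaternionGroup 2) : ((Subgroup.centralizer (T : Set G)).relIndex (Subgroup.normalizer (T : Set G)) = 2 ∨ (Subgroup.centralizer (T : Set G)).relIndex (Subgroup.normalizer (T : Set G)) = 6) ∧ ((Q ⊔ Subgroup.centralizer (Q : Set G)).relIndex (Subgroup.normalizer (Q : Set G)) = 2 ∨ (Q ⊔ Subgroup.centralizer (Q : Set G)).relIndex (Subgroup.normalizer (Q : Set G)) = 6) := by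
  obtain ⟨x, y, n, h⟩ := exists_qdGen hS
  obtain ⟨tT, -, -, hT26, hTiff⟩ := QDFusion.klein_main S h hT hTS
  obtain ⟨tQ, -, -, hQ26, hQiff⟩ := QDFusion.quat_main S h hQS eQ
  rw [klein_sup_centralizer hT] at hT26 hTiff
  exact ⟨hT26, hQ26⟩

end Cfsg.Agent.S1203
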