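import Cfsg.Statements.S1204
import Cfsg.Agent.Lib.Involutions.QDFusion

set_option autoImplicit false
open Cfsg

namespace Cfsg.Agent.S1204

open Cfsg.Agent.Lib.Involutions

theorem result {G : Type*} [Group G] [Finite G] (S : Sylow 2 G) (hS : Cfsg.IsQuasiDihedral (S : Subgroup G)) (T : Subgroup G) (hT : IsKleinFour T) (hTS : T ≤ S) (Q : Subgroup G) (hQS : Q ≤ S) (eQ : Q ≃* QuaternionGroup 2) (h₁ : (Subgroup.centralizer (T : Set G)).relIndex (Subgroup.normalizer (T : Set G)) = 6) (h₂ : (Q ⊔ Subgroup.centralizer (Q : Set G)).relIndex (Subgroup.normalizer (Q : Set G)) = 6) : (∀ H : Subgroup G, H.index ≠ 2) ∧ Nat.card {C : ConjClasses G // ∃ t : G, orderOf t = 2 ∧ ConjClasses.mk t = C} = 1 ∧ Nat.card {C : ConjClasses G // ∃ t : G, orderOf t = 4 ∧ ConjClasses.mk t = C} = 1 := by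
  obtain ⟨x, y, n, h⟩ := exists_qdGen hS
  obtain ⟨tT, -, -, hT26, hTiff⟩ := QDFusion.klein_main S h hT hTS
  obtain ⟨tQ, -, -, hQ26, hQiff⟩ := QDFusion.quat_main S h hQS eQ
  rw [klein_sup_centralizer hT] at hT26 hTiff
  have hI := hTiff.1 h₁
  have hF := hQiff.1 h₂
  refine ⟨fun H hH => ?_, (QDFusion.classes_invol S h).1 hI, (QDFusion.classes_four S h).1 hF⟩
  set H' : Subgroup (⊤ : Subgroup G) := H.subgroupOf ⊤ with hH'def
  have hH' : H'.index = 2 := by
    rw [hH'def]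
    exact (Subgroup.relIndex_top_right H).trans hH
  have heven := fun (i : ℤ) (hi : Even i) => QDFusion.invol_mem_of_fused S h hT hTS hI (Or.inr rfl)
    (fun _ _ => Subgroup.mem_top _) hH' hi
  have hodd := fun (i : ℤ) (hi : Odd i) => QDFusion.four_mem_of_fused S h hQS eQ hF (Or.inr rfl)
    (Subgroup.mem_top _) (fun _ _ => Subgroup.mem_top _) hH' hi
  have hy : ∀ i : ℤ, ((x ^ i * y : (S : Subgroup G)) : G) ∈ H := fun i =>
    (Int.even_or_odd i).elim (heven i) (hodd i)
  refine QDFusion.not_sylow_part_le S hH' fun u hu => ?_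
  obtain ⟨i, e | e⟩ := h.normal_form ⟨_, hu⟩
  · have e' : (u : G) = ((x ^ i * y : (S : Subgroup G)) : G) *
        (((x ^ (0 : ℤ) * y : (S : Subgroup G)) : G))⁻¹ := by
      rw [← Subgroup.coe_inv, ← Subgroup.coe_mul, zpow_zero, one_mul, mul_inv_cancel_right]
      exact congrArg Subtype.val e
    rw [hH'def, Subgroup.mem_subgroupOf, e']
    exact mul_mem (hy i) (inv_mem (hy 0))
  · rw [hH'def, Subgroup.mem_subgroupOf, show (u : G) = _ from (congrArg Subtype.val e :)]
    exact hy i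

end Cfsg.Agent.S1204
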