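import Cfsg.Statements.S1205
import Cfsg.Agent.Lib.Involutions.QDFusion

set_option autoImplicit false
open Cfsg

namespace Cfsg.Agent.S1205

open Cfsg.Agent.Lib.Involutions

/-- The Sylow subgroups of a normal subgroup meeting `S` in `M` are isomorphic to `M`. -/
theorem sylow_equiv {G : Type*} [Group G] [Finite G] (S : Sylow 2 G) {M : Subgroup (S : Subgroup G)}
    {K : Subgroup G} [K.Normal] (hK : ∀ u : (S : Subgroup G), ((u : G) ∈ K ↔ u ∈ M))
    (P : Sylow 2 K) : Nonempty ((P : Subgroup K) ≃* M) := by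
  have : Fact (Nat.Prime 2) := ⟨Nat.prime_two⟩
  obtain ⟨R, hR⟩ := Cfsg.Agent.Lib.Fusion.exists_sylow_subgroupOf_normal S K
  refine ⟨((Sylow.equiv P R).trans (MulEquiv.subgroupCongr hR)).trans
    { toFun := fun u => ⟨⟨((u : K) : G), u.2⟩, (hK _).1 (u : K).2⟩
      invFun := fun v => ⟨⟨((v : (S : Subgroup G)) : G), (hK _).2 v.2⟩, (v : (S : Subgroup G)).2⟩
      left_inv := fun u => rfl
      right_inv := fun v => rfl
      map_mul' := fun u v => rfl }⟩

theorem result {G : Type*} [Group G] [Finite G] (S : Sylow 2 G) (hS : Cfsg.IsQuasiDihedral (S : Subgroup G)) (T : Subgroup G) (hT : IsKleinFour T) (hTS : T ≤ S) (Q : Subgroup G) (hQS : Q ≤ S) (eQ : Q ≃* QuaternionGroup 2) (h₁ : (Subgroup.centralizer (T : Set G)).relIndex (Subgroup.normalizer (T : Set G)) = 2) (h₂ : (Q ⊔ Subgroup.centralizer (Q : Set G)).relIndex (Subgroup.normalizer (Q : Set G)) = 6) : (∃ K : Subgroup G, K.Normal ∧ K.index = 2 ∧ (∀ P : Sylow 2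 ↥K, ∃ m : ℕ, 1 ≤ m ∧ Nonempty ((P : Subgroup ↥K) ≃* QuaternionGroup (2 ^ m))) ∧ (∀ H : Subgroup ↥K, H.index ≠ 2)) ∧ Cfsg.IsWeaklyClosed ((Subgroup.center (S : Subgroup G)).map (S : Subgroup G).subtype) (S : Subgroup G) ∧ Nat.card {C : ConjClasses G // ∃ t : G, orderOf t = 2 ∧ ConjClasses.mk t = C} = 2 ∧ Nat.card {C : ConjClasses G // ∃ t : G, orderOf t = 4 ∧ ConjClasses.mk t = C} = 1 := by
  obtain ⟨x, y, n, h⟩ := exists_qdGen hS
  obtain ⟨tT, -, -, hT26, hTiff⟩ := QDFusion.klein_main S h hT hTS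
  obtain ⟨tQ, -, -, hQ26, hQiff⟩ := QDFusion.quat_main S h hQS eQ
  rw [klein_sup_centralizer hT] at hT26 hTiff
  have hI : ¬ QDFusion.InvolFused S h := fun hf => by
    have := hTiff.2 hf; omega
  have hF := hQiff.1 h₂
  refine ⟨?_, ?_, (QDFusion.classes_invol S h).2 hI, (QDFusion.classes_four S h).1 hF⟩
  · obtain ⟨K, hKn, hK2, hK⟩ := QDFusion.exists_index_two_one S h hI
    refine ⟨K, hKn, hK2, fun P => ⟨n - 2, by have := h.hn; omega, ?_⟩, fun H hH => ?_⟩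
    · obtain ⟨e⟩ := sylow_equiv S hK P
      obtain ⟨e'⟩ := h.halfSub_quaternion
      exact ⟨e.trans e'⟩
    have hin : ∀ i : ℤ, Odd i → ((x ^ i * y : (S : Subgroup G)) : G) ∈ K := fun i hi =>
      (hK _).2 (h.zpow_y_mem_halfSub_iff.2 (hi.sub_odd odd_one))
    have hodd := fun (i : ℤ) (hi : Odd i) => QDFusion.four_mem_of_fused S h hQS eQ hF (Or.inl hK2)
      ((hK _).2 (h.zpow_mem_halfSub_iff.2 (Int.even_pow.2 ⟨even_two, by have := h.hn; omega⟩))) hin hH hi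
    refine QDFusion.not_sylow_part_le S hH fun u hu => ?_
    obtain ⟨k, e | e⟩ := (hK ⟨_, hu⟩).1 u.2
    · rw [show u = (⟨_, hin (2 * k + 1) ⟨k, rfl⟩⟩ : K) * (⟨_, hin 1 odd_one⟩ : K)⁻¹ from Subtype.ext (by
        show (u : G) = ((x ^ (2 * k + 1) * y * (x ^ (1 : ℤ) * y)⁻¹ : (S : Subgroup G)) : G)
        rw [mul_inv_rev, ← mul_assoc, mul_inv_cancel_right, ← zpow_neg, ← zpow_add,
          add_neg_cancel_right]
        exact congrArg Subtype.val e)]
      exact mul_mem (hodd _ ⟨k, rfl⟩) (inv_mem (hodd _ odd_one))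
    · rw [show u = (⟨_, hin (2 * k + 1) ⟨k, rfl⟩⟩ : K) from Subtype.ext (congrArg Subtype.val e :)]
      exact hodd _ ⟨k, rfl⟩
  · refine ⟨Subgroup.map_subtype_le _, fun g hg => ?_⟩
    have hzc : (x ^ ((2 : ℤ) ^ (n - 1)) : (S : Subgroup G)) ∈ Subgroup.center (S : Subgroup G) :=
      (h.center_le_iff _).2 (Or.inr rfl)
    set z : G := ((x ^ ((2 : ℤ) ^ (n - 1)) : (S : Subgroup G)) : G) with hz
    have hzS : g * z * g⁻¹ ∈ (S : Subgroup G) := hg ⟨z, ⟨_, hzc, rfl⟩, rfl⟩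
    have hfix : g * z * g⁻¹ = z := by
      have ho : orderOf (⟨_, hzS⟩ : (S : Subgroup G)) = 2 := by
        rw [← Subgroup.orderOf_coe]
        show orderOf (g * z * g⁻¹) = 2
        rw [orderOf_conj_eq, hz, Subgroup.orderOf_coe, h.orderOf_z]
      rcases h.invol_cases ho with e | ⟨i, hi, e⟩
      · exact congrArg Subtype.val e
      · exact absurd ((QDFusion.involFused_iff S h hi).2
          (isConj_iff.2 ⟨g, congrArg Subtype.val e⟩)) hI
    refine Subgroup.eq_of_le_of_card_ge ?_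
      (Subgroup.card_map_of_injective (MulAut.conj g).injective).ge
    rintro _ ⟨_, ⟨c, hc, rfl⟩, rfl⟩
    rcases (h.center_le_iff c).1 hc with rfl | rfl
    · simp
    · exact ⟨_, hzc, hfix.symm⟩

end Cfsg.Agent.S1205
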