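import Cfsg.Statements.S1206
import Cfsg.Agent.Lib.Involutions.QDFusion

set_option autoImplicit false
open Cfsg

namespace Cfsg.Agent.S1206

open Cfsg.Agent.Lib.Involutions

/-- The Sylow subgroups of a normal subgroup meeting `S` in `M` are isomorphic to `M`. -/
theorem sylow_equiv {G : Type*} [Group G] [Finite G] (S : Sylow 2 G) {M : Subgroup (S : Subgroup G)}
    {K : Subgroup G} [K.Normal] (hK : ∀ u : (S : Subgroup G), ((u : G) ∈ K ↔ u ∈ M))
    (P : Sylow 2 K) : Nonempty ((P : Subgroup K) ≃* M) := by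
  have : Fact (Nat.Prime 2) := ⟨Nat.prime_two⟩
  obtain ⟨R, hR⟩ := Cfsg.Agent.Lib.Fusion.exists_sylow_subgroupOf_normal S K
  refine ⟨((Sylow.equiv P R).trans (MulEquiv.subgroupCongr hR)).trans
    { toFun := fun u => ⟨⟨((u : K) : G), u.2⟩, (hK _).1 (u : K).2⟩
      invFun := fun v => ⟨⟨((v : (S : Subgroup G)) : G), (hK _).2 v.2⟩, (v : (S : Subgroup G)).2⟩
      left_inv := fun u => rfl
      right_inv := fun v => rfl
      map_mul' := fun u v => rfl }⟩

theorem result {G : Type*} [Group G] [Finite G] (S : Sylow 2 G) (hS : Cfsg.IsQuasiDihedral (S : Subgroup G)) (T : Subgroup G) (hT : IsKleinFour T) (hTS : T ≤ S) (Q : Subgroup G) (hQS : Q ≤ S) (eQ : Q ≃* QuaternionGroup 2) (h₁ : (Subgroup.centralizer (T : Set G)).relIndex (Subgroup.normalizer (T : Set G)) = 6) (h₂ : (Q ⊔ Subgroup.centralizer (Q : Set G)).relIndex (Subgroup.normalizer (Q : Set G)) = 2) : (∃ K : Subgroup G, K.Normal ∧ K.index = 2 ∧ (∀ P : Sylow 2 ↥K, ∃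 m : ℕ, Nonempty ((P : Subgroup ↥K) ≃* DihedralGroup m)) ∧ (∀ H : Subgroup ↥K, H.index ≠ 2)) ∧ Nat.card {C : ConjClasses G // ∃ t : G, orderOf t = 2 ∧ ConjClasses.mk t = C} = 1 ∧ Nat.card {C : ConjClasses G // ∃ t : G, orderOf t = 4 ∧ ConjClasses.mk t = C} = 2 := by
  obtain ⟨x, y, n, h⟩ := exists_qdGen hS
  obtain ⟨tT, -, -, hT26, hTiff⟩ := QDFusion.klein_main S h hT hTS
  obtain ⟨tQ, -, -, hQ26, hQiff⟩ := QDFusion.quat_main S h hQS eQ
  rw [klein_sup_centralizer hT] at hT26 hTiff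
  have hF : ¬ QDFusion.FourFused S h := fun hf => by
    have := hQiff.2 hf; omega
  have hI := hTiff.1 h₁
  refine ⟨?_, (QDFusion.classes_invol S h).1 hI, (QDFusion.classes_four S h).2 hF⟩
  obtain ⟨K, hKn, hK2, hK⟩ := QDFusion.exists_index_two_zero S h hF
  refine ⟨K, hKn, hK2, fun P => ⟨2 ^ (n - 1), ?_⟩, fun H hH => ?_⟩
  · obtain ⟨e⟩ := sylow_equiv S hK P
    obtain ⟨e'⟩ := h.halfSub_dihedral
    exact ⟨e.trans e'⟩
  have hin : ∀ i : ℤ, Even i → ((x ^ i * y : (S : Subgroup G)) : G) ∈ K := fun i hi =>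
    (hK _).2 (h.zpow_y_mem_halfSub_iff.2 (by simpa using hi))
  have heven := fun (i : ℤ) (hi : Even i) => QDFusion.invol_mem_of_fused S h hT hTS hI (Or.inl hK2)
    hin hH hi
  refine QDFusion.not_sylow_part_le S hH fun u hu => ?_
  obtain ⟨k, e | e⟩ := (hK ⟨_, hu⟩).1 u.2
  · rw [show u = (⟨_, hin (2 * k) (even_two_mul k)⟩ : K) * (⟨_, hin 0 Even.zero⟩ : K)⁻¹ from
      Subtype.ext (by
        show (u : G) = ((x ^ (2 * k) * y * (x ^ (0 : ℤ) * y)⁻¹ : (S : Subgroup G)) : G)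
        rw [zpow_zero, one_mul, mul_inv_cancel_right]
        exact congrArg Subtype.val e)]
    exact mul_mem (heven _ (even_two_mul k)) (inv_mem (heven _ Even.zero))
  · rw [add_zero] at e
    rw [show u = (⟨_, hin (2 * k) (even_two_mul k)⟩ : K) from Subtype.ext (congrArg Subtype.val e :)]
    exact heven _ (even_two_mul k)

end Cfsg.Agent.S1206
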