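import Cfsg.Statements.S1207
import Cfsg.Agent.Lib.Involutions.QDFusion
import Cfsg.Agent.Lib.Involutions.WreathedCentric
import Cfsg.Agent.Lib.Transfer.Frobenius

set_option autoImplicit false
open Cfsg

namespace Cfsg.Agent.S1207

open Cfsg.Agent.Lib.Involutions

theorem result {G : Type*} [Group G] [Finite G] (S : Sylow 2 G) (hS : Cfsg.IsQuasiDihedral (S : Subgroup G)) (T : Subgroup G) (hT : IsKleinFour T) (hTS : T ≤ S) (Q : Subgroup G) (hQS : Q ≤ S) (eQ : Q ≃* QuaternionGroup 2) (h₁ : (Subgroup.centralizer (T : Set G)).relIndex (Subgroup.normalizer (T : Set G)) = 2) (h₂ : (Q ⊔ Subgroup.centralizer (Q : Set G)).relIndex (Subgroup.normalizer (Q : Set G)) = 2) : Cfsg.HasNormalPComplement 2 G ∧ Nat.card {C : ConjClasses G // ∃ t : G, orderOf t = 2 ∧ ConjClasses.mk t = C} = 2 ∧ Nat.card {C : ConjClasses G // ∃ t : G, orderOf t = 4 ∧ ConjClasses.mk t = C} = 2 := by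
  obtain ⟨x, y, n, h⟩ := exists_qdGen hS
  obtain ⟨tT, -, -, hT26, hTiff⟩ := QDFusion.klein_main S h hT hTS
  obtain ⟨tQ, -, -, hQ26, hQiff⟩ := QDFusion.quat_main S h hQS eQ
  rw [klein_sup_centralizer hT] at hT26 hTiff
  have hI : ¬ QDFusion.InvolFused S h := fun hf => by
    have := hTiff.2 hf; omega
  have hF : ¬ QDFusion.FourFused S h := fun hf => by
    have := hQiff.2 hf; omega
  refine ⟨?_, (QDFusion.classes_invol S h).2 hI, (QDFusion.classes_four S h).2 hF⟩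
  obtain ⟨K, hKn, hK2, hK⟩ := QDFusion.exists_index_two_one S h hI
  obtain ⟨K', hKn', hK2', hK'⟩ := QDFusion.exists_index_two_zero S h hF
  refine Cfsg.Agent.Lib.Transfer.hasNormalPComplement_of_frobenius S fun Q' hQ' g hg hgo => ?_
  rw [Nat.coprime_two_right] at hgo
  set L := K ⊓ K' with hL
  have hgL : g ∈ L := ⟨mem_of_odd_orderOf hK2 hgo, mem_of_odd_orderOf hK2' hgo⟩
  -- `S ∩ L` is inside the cyclic subgroup
  set X : G := ((x : (S : Subgroup G)) : G) with hX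
  have hcyc : ∀ u ∈ (S : Subgroup G), u ∈ L → u ∈ Subgroup.zpowers X := by
    intro u hu huL
    obtain ⟨k, e | e⟩ := (hK ⟨u, hu⟩).1 huL.1
    · exact ⟨2 * k, (congrArg Subtype.val e).symm⟩
    · exfalso
      have h0 := (hK' ⟨u, hu⟩).1 huL.2
      rw [e, h.zpow_y_mem_halfSub_iff, sub_zero] at h0
      exact absurd h0 (by simp)
  set φ : MulAut Q' := Subgroup.normalizerMonoidHom Q' ⟨g, hg⟩ with hφ
  have hφodd : Odd (orderOf φ) := by
    refine hgo.of_dvd_nat ?_
    rw [← Subgroup.orderOf_mk g hg]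
    exact orderOf_map_dvd _ _
  have hQ2 : IsPGroup 2 Q' := S.2.to_le hQ'
  have hφv : ∀ v : Q', ((φ v : Q') : G) = g * (v : G) * g⁻¹ := fun v => rfl
  have hfixL : ∀ v : Q', (v : G) ∈ L → φ v = v := by
    intro v hv
    refine fix_cyclic hQ2 hφodd ?_
    have hv' : ((φ v : Q') : G) ∈ L := by
      rw [hφv]; exact mul_mem (mul_mem hgL hv) (inv_mem hgL)
    have hm := mem_zpowers_of_orderOf_eq (A := Subgroup.zpowers X)
      (a := ⟨(v : G), hcyc _ (hQ' v.2) hv⟩) (b := ⟨_, hcyc _ (hQ' (φ v).2) hv'⟩) (by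
        rw [← Subgroup.orderOf_coe, ← Subgroup.orderOf_coe]
        show orderOf ((φ v : Q') : G) = orderOf (v : G)
        rw [hφv, orderOf_conj_eq])
    obtain ⟨i, hi⟩ := hm
    exact ⟨i, Subtype.ext (by
      rw [Subgroup.coe_zpow]
      exact congrArg Subtype.val hi)⟩
  refine Subgroup.mem_centralizer_iff.2 fun v hv => ?_
  have hn : L.Normal := Subgroup.normal_inf_normal K K'
  set v' : Q' := ⟨v, hv⟩
  have hc : ((v'⁻¹ * φ v' : Q') : G) ∈ L := by
    rw [Subgroup.coe_mul, Subgroup.coe_inv, hφv,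
      show (v' : G)⁻¹ * (g * (v' : G) * g⁻¹) = ((v' : G)⁻¹ * g * (v' : G)) * g⁻¹ by group]
    exact mul_mem (by simpa using hn.conj_mem g hgL (v' : G)⁻¹) (inv_mem hgL)
  have := fix_of_moves_by_fixed hQ2 hφodd (g := v') (hfixL _ hc) (by rw [mul_inv_cancel_left])
  have e : g * v * g⁻¹ = v := congrArg Subtype.val this
  exact (mul_inv_eq_iff_eq_mul.1 e).symm

end Cfsg.Agent.S1207
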