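import Cfsg.Statements.S1209
import Cfsg.Agent.Lib.Involutions.WreathedFusion

set_option autoImplicit false
open Cfsg

namespace Cfsg.Agent.S1209

open Cfsg.Agent.Lib.Involutions

theorem result {G : Type*} [Group G] [Finite G] (S : Sylow 2 G) (hS : Cfsg.IsWreathed (S : Subgroup G)) (n : ℕ) (hn : Nat.card S = 2 ^ (2 * n + 1)) (U : Subgroup G) (hUS : U ≤ S) (hUab : IsMulCommutative U) (hUcard : Nat.card U = 2 ^ (2 * n)) (Q : Subgroup G) (hQS : Q ≤ S) (eQ : Q ≃* QuaternionGroup 2) (h₁ : (Subgroup.centralizer (U : Set G)).relIndex (Subgroup.normalizer (U : Set G)) = 6) (h₂ : ((Q ⊔ ((Subgroup.center (S : Subgroup G)).map (S : Subgroup G).subtype)) ⊔ Subgroup.centralizer ((Q ⊔ ((Subgroup.center (S : Subgroup G)).map (S : Subgroup G).subtype) : Subgroup G) : Set G)).relIndex (Subgroup.normalizer ((Q ⊔ ((Subgroup.center (S : Subgroup G)).map (S : Subgroup G).subtype) : Subgroup G) : Set G)) = 6) : (∀ H : Subgroup G, H.index ≠ 2) ∧ Nat.card {C : ConjClasses G // ∃ t : G, orderOf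 t = 2 ∧ ConjClasses.mk t = C} = 1 := by
  obtain ⟨x, y, z, m, h⟩ := exists_wrGen hS
  obtain rfl := h.n_eq hn
  rw [WRFusion.U_relIndex S h hUS hUab hUcard] at h₁
  rw [WRFusion.V_relIndex S h hQS eQ] at h₂
  obtain ⟨oc, oe, oz⟩ := WRFusion.reps_orders S h
  refine ⟨fun H hH => ?_, ?_⟩
  · set H' : Subgroup (⊤ : Subgroup G) := H.subgroupOf ⊤ with hH'def
    have hH' : H'.index = 2 := by
      rw [hH'def]
      exact (Subgroup.relIndex_top_right H).trans hH
    have hK : ∀ w : G, Odd (orderOf w) → w ∈ (⊤ : Subgroup G) := fun _ _ => Subgroup.mem_top _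
    have hbase : ∀ i j : ℤ, WRFusion.eg S h i j ∈ H := fun i j =>
      WRFusion.U_mem_of_six S h h₁ hK (fun _ _ => Subgroup.mem_top _) hH' i j
    have hout : ((el x y (2 ^ (m - 1)) 0 * z : (S : Subgroup G)) : G) ∈ H :=
      WRFusion.W_mem_of_six S h h₂ hK (Subgroup.mem_top _) (Subgroup.mem_top _) hH' (i := 2 ^ (m - 1))
        (j := 0) (by simp) (Subgroup.mem_top _)
    refine QDFusion.not_sylow_part_le S hH' fun u hu => ?_
    rw [hH'def, Subgroup.mem_subgroupOf]
    obtain ⟨i, j, e | e⟩ := h.normal_form ⟨_, hu⟩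
    · rw [show (u : G) = WRFusion.eg S h i j from (congrArg Subtype.val e :)]
      exact hbase i j
    · rw [show (u : G) = WRFusion.eg S h (i - 2 ^ (m - 1)) j *
        ((el x y (2 ^ (m - 1)) 0 * z : (S : Subgroup G)) : G) from by
          rw [WRFusion.eg, ← Subgroup.coe_mul, h.mul_ez, sub_add_cancel, add_zero]
          exact (congrArg Subtype.val e :)]
      exact mul_mem (hbase _ _) hout
  · have h12 := WRFusion.isConj_zc_e S h h₁
    have h23 := WRFusion.isConj_e_z S h h₂
    refine card_classes_eq_of_reps ![WRFusion.eg S h (2 ^ (m - 1)) (2 ^ (m - 1))]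
      (fun i => by fin_cases i; exact oc) (fun i j _ => Subsingleton.elim i j) (fun t ht => ⟨0, ?_⟩)
    rcases WRFusion.invol_reps S h ht with e | e | e
    · exact e
    · exact h12.trans e
    · exact (h12.trans h23).trans e

end Cfsg.Agent.S1209
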