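import Cfsg.Statements.S1210
import Cfsg.Agent.Lib.Involutions.WreathedFusion

set_option autoImplicit false
open Cfsg

namespace Cfsg.Agent.S1210

open Cfsg.Agent.Lib.Involutions

theorem result {G : Type*} [Group G] [Finite G] (S : Sylow 2 G) (hS : Cfsg.IsWreathed (S : Subgroup G)) (n : ℕ) (hn : Nat.card S = 2 ^ (2 * n + 1)) (U : Subgroup G) (hUS : U ≤ S) (hUab : IsMulCommutative U) (hUcard : Nat.card U = 2 ^ (2 * n)) (Q : Subgroup G) (hQS : Q ≤ S) (eQ : Q ≃* QuaternionGroup 2) (h₁ : (Subgroup.centralizer (U : Set G)).relIndex (Subgroup.normalizer (U : Set G)) = 2) (h₂ : ((Q ⊔ ((Subgroup.center (S : Subgroup G)).map (S : Subgroup G).subtype)) ⊔ Subgroup.centralizer ((Q ⊔ ((Subgroup.center (S : Subgroup G)).map (S : Subgroup G).subtype) : Subgroup G) : Set G)).relIndex (Subgroup.normalizer ((Q ⊔ ((Subgroup.center (S : Subgroup G)).map (S : Subgroup G).subtype) : Subgroup G) : Set G)) = 6) : (∃ K : Subgroup G, K.Normal ∧ K.index = 2 ^ n ∧ (∀ P : Sylow 2 ↥K,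 ∃ m : ℕ, 1 ≤ m ∧ Nonempty ((P : Subgroup ↥K) ≃* QuaternionGroup (2 ^ m))) ∧ (∀ H : Subgroup ↥K, H.index ≠ 2)) ∧ (∀ Z₀ : Subgroup G, Z₀ ≤ ((Subgroup.center (S : Subgroup G)).map (S : Subgroup G).subtype) → Cfsg.IsWeaklyClosed Z₀ (S : Subgroup G)) ∧ Nat.card {C : ConjClasses G // ∃ t : G, orderOf t = 2 ∧ ConjClasses.mk t = C} = 2 := by
  obtain ⟨x, y, z, m, h⟩ := exists_wrGen hS
  obtain rfl := h.n_eq hn
  rw [WRFusion.U_relIndex S h hUS hUab hUcard] at h₁
  rw [WRFusion.V_relIndex S h hQS eQ] at h₂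
  obtain ⟨oc, oe, oz⟩ := WRFusion.reps_orders S h
  obtain ⟨φ, hel, helz, hinv'⟩ := WRFusion.exists_invariant_hom S h
  have hinv := hinv' h₁
  refine ⟨?_, ?_, ?_⟩
  · set T := MonoidHom.transfer φ
    have hT : ∀ u : (S : Subgroup G), T (u : G) = φ u ^ (S : Subgroup G).index :=
      transfer_eq_pow_of_invariant S φ hinv
    have hodd : Odd (S : Subgroup G).index := Nat.odd_iff.2 (Nat.two_dvd_ne_zero.1 S.not_dvd_index)
    have hcop : Nat.Coprime (S : Subgroup G).index (2 ^ m) :=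
      Nat.Coprime.pow_right m (Nat.coprime_two_right.2 hodd)
    have hker : ∀ u : (S : Subgroup G), ((u : G) ∈ T.ker ↔ u ∈ φ.ker) := fun u => by
      rw [MonoidHom.mem_ker, MonoidHom.mem_ker, hT]
      refine ⟨fun e => ?_, fun e => by rw [e, one_pow]⟩
      rw [← orderOf_eq_one_iff]
      refine Nat.eq_one_of_dvd_coprimes hcop (orderOf_dvd_of_pow_eq_one e) ?_
      have hd := orderOf_dvd_natCard (φ u)
      rwa [Nat.card_congr Multiplicative.toAdd, Nat.card_zmod] at hd
    have hidx : T.ker.index = 2 ^ m := by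
      rw [Subgroup.index_ker]
      have htop : T.range = ⊤ := by
        refine top_le_iff.1 fun e _ => ?_
        set k : ZMod (2 ^ m) :=
          Multiplicative.toAdd e * ((ZMod.unitOfCoprime _ hcop)⁻¹ : (ZMod (2 ^ m))ˣ) with hk
        refine ⟨WRFusion.eg S h k.cast 0, ?_⟩
        rw [WRFusion.eg, hT, hel, ← ofAdd_nsmul, add_zero, ZMod.intCast_zmod_cast, nsmul_eq_mul,
          hk, mul_comm (Multiplicative.toAdd e), ← mul_assoc,
          ← ZMod.coe_unitOfCoprime _ hcop, Units.mul_inv, one_mul]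
        rfl
      rw [htop, Subgroup.card_top, Nat.card_congr Multiplicative.toAdd, Nat.card_zmod]
    refine ⟨T.ker, inferInstance, hidx, fun P => ⟨m - 1, by have := h.hn; omega, ?_⟩, fun H hH => ?_⟩
    · obtain ⟨e⟩ := sylow_equiv_of_inter S hker P
      refine (nonempty_mulEquiv_quaternion (H := φ.ker) (x := el x y 1 (-1))
        (y := h.qj) ?_ ?_ ?_ ?_ ?_ ?_ ?_).map e.trans
      · have h1 := φ.ker.card_mul_index
        rw [Subgroup.index_ker, MonoidHom.range_eq_top.2 ?_, Subgroup.card_top,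
          Nat.card_congr Multiplicative.toAdd, Nat.card_zmod, h.card] at h1
        · have h2 : 4 * 2 ^ (m - 1) = 2 ^ (m + 1) := by
            rw [show (4 : ℕ) = 2 ^ 2 from rfl, ← pow_add]; congr 1; have := h.hn; omega
          rw [h2]
          refine Nat.eq_of_mul_eq_mul_right (show 0 < 2 ^ m by positivity) (h1.trans ?_)
          rw [← pow_add]; congr 1; omega
        · exact fun e => ⟨el x y (Multiplicative.toAdd e).cast 0, by
            rw [hel, add_zero, ZMod.intCast_zmod_cast]; rfl⟩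
      · rw [MonoidHom.mem_ker, hel, add_neg_cancel, Int.cast_zero, ofAdd_zero]
      · rw [MonoidHom.mem_ker, WRGen.qj, helz, add_zero, ← two_mul, ← h.two_pow_eq.1,
          (ZMod.intCast_zmod_eq_zero_iff_dvd _ _).2 (by push_cast; exact dvd_rfl), ofAdd_zero]
      · rw [h.orderOf_el_one, ← pow_succ']; congr 1; have := h.hn; omega
      · rw [h.qj_sq, h.el_zpow, h.el_eq_iff]
        push_cast
        exact ⟨⟨0, by ring⟩, ⟨1, by rw [h.two_pow_eq.1]; ring⟩⟩
      · rintro ⟨k, hk⟩
        have hk' : el x y 1 (-1) ^ k = h.qj := hk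
        rw [h.el_anti_zpow] at hk'
        exact h.el_z_ne_el _ _ _ _ hk'.symm
      · rw [WRGen.qj, h.conj_z_el, h.el_inv, neg_neg]
    · have hK : ∀ w : G, Odd (orderOf w) → w ∈ T.ker := fun w hw => by
        rw [MonoidHom.mem_ker, ← orderOf_eq_one_iff]
        refine Nat.eq_one_of_dvd_coprimes (Nat.coprime_two_right.2 hw |>.pow_right m)
          (orderOf_map_dvd T w) ?_
        have hd := orderOf_dvd_natCard (T w)
        rwa [Nat.card_congr Multiplicative.toAdd, Nat.card_zmod] at hd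
      have h2m : (((2 : ℤ) ^ m : ℤ) : ZMod (2 ^ m)) = 0 :=
        (ZMod.intCast_zmod_eq_zero_iff_dvd _ _).2 (by push_cast; exact dvd_rfl)
      have hqj : ((h.qj : (S : Subgroup G)) : G) ∈ T.ker := (hker _).2 (by
        rw [MonoidHom.mem_ker, WRGen.qj, helz, add_zero, ← two_mul, ← h.two_pow_eq.1, h2m, ofAdd_zero])
      have hqi : ((h.qi : (S : Subgroup G)) : G) ∈ T.ker := (hker _).2 (by
        rw [MonoidHom.mem_ker, WRGen.qi, hel, add_neg_cancel, Int.cast_zero, ofAdd_zero])
      have hzz : ∀ (u : T.ker) (i j : ℤ), (u : G) = ((el x y i j * z : (S : Subgroup G)) : G) →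
          u ∈ H := by
        intro u i j e
        have hu' : ((el x y i j * z : (S : Subgroup G)) : G) ∈ T.ker := e ▸ u.2
        rw [show u = ⟨_, hu'⟩ from Subtype.ext e]
        refine WRFusion.W_mem_of_six S h h₂ hK hqi hqj hH ?_ hu'
        have h0 := (hker _).1 hu'
        rw [MonoidHom.mem_ker, helz, ofAdd_eq_one, ZMod.intCast_zmod_eq_zero_iff_dvd] at h0
        push_cast at h0
        have := dvd_sub h0 (dvd_refl ((2 : ℤ) ^ m))
        rwa [show i + j + 2 ^ (m - 1) - 2 ^ m = i + j - 2 ^ (m - 1) by rw [h.two_pow_eq.1]; ring] at this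
      refine QDFusion.not_sylow_part_le S hH fun u hu => ?_
      obtain ⟨i, j, e | e⟩ := h.normal_form ⟨_, hu⟩
      · have eu : (u : G) = WRFusion.eg S h i j := (congrArg Subtype.val e :)
        have e' : ((u * ⟨_, hqj⟩ : T.ker) : G) =
            ((el x y (i + 2 ^ (m - 1)) j * z : (S : Subgroup G)) : G) := by
          rw [Subgroup.coe_mul, eu, WRFusion.eg]
          refine congrArg Subtype.val (?_ : el x y i j * h.qj = _)
          rw [WRGen.qj, h.mul_ez, add_zero]
        exact (Subgroup.mul_mem_cancel_right _ (hzz ⟨_, hqj⟩ _ _ rfl)).1 (hzz _ _ _ e')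
      · exact hzz u i j (congrArg Subtype.val e :)
  · intro Z₀ hZ
    refine ⟨hZ.trans (Subgroup.map_subtype_le _), fun g hg => ?_⟩
    refine Subgroup.eq_of_le_of_card_ge ?_
      (Subgroup.card_map_of_injective (MulAut.conj g).injective).ge
    rintro _ ⟨w, hw, rfl⟩
    obtain ⟨d, hd, rfl⟩ := hZ hw
    obtain ⟨k, rfl⟩ := (h.center_iff d).1 hd
    have hgw : g * WRFusion.eg S h k k * g⁻¹ ∈ (S : Subgroup G) := hg ⟨_, hw, rfl⟩
    show g * WRFusion.eg S h k k * g⁻¹ ∈ Z₀
    rw [WRFusion.diag_fixed S h h₁ k hgw]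
    exact hw
  · have h23 := WRFusion.isConj_e_z S h h₂
    have hne : ¬ IsConj (WRFusion.eg S h (2 ^ (m - 1)) (2 ^ (m - 1)))
        (WRFusion.eg S h (2 ^ (m - 1)) 0) := by
      intro hc
      obtain ⟨g, hg⟩ := isConj_iff.1 hc
      have := WRFusion.diag_fixed S h h₁ _ (g := g) (by rw [hg]; exact (el x y (2 ^ (m - 1)) 0).2)
      rw [this] at hg
      have := h.el_eq_iff.1 (Subtype.ext hg)
      rw [sub_zero] at this
      exact h.half_not_dvd this.2
    refine card_classes_eq_of_reps ![WRFusion.eg S h (2 ^ (m - 1)) (2 ^ (m - 1)),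
      WRFusion.eg S h (2 ^ (m - 1)) 0]
      (fun i => by fin_cases i; exacts [oc, oe]) ?_ (fun t ht => ?_)
    · intro i j hij
      fin_cases i <;> fin_cases j <;> first | rfl | exact absurd hij hne | exact absurd hij.symm hne
    · rcases WRFusion.invol_reps S h ht with e | e | e
      · exact ⟨0, e⟩
      · exact ⟨1, e⟩
      · exact ⟨1, h23.trans e⟩

end Cfsg.Agent.S1210
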