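import Cfsg.Statements.S1211
import Cfsg.Agent.Lib.Involutions.WreathedFusion

set_option autoImplicit false
open Cfsg

namespace Cfsg.Agent.S1211

open Cfsg.Agent.Lib.Involutions

theorem result {G : Type*} [Group G] [Finite G] (S : Sylow 2 G) (hS : Cfsg.IsWreathed (S : Subgroup G)) (n : ℕ) (hn : Nat.card S = 2 ^ (2 * n + 1)) (U : Subgroup G) (hUS : U ≤ S) (hUab : IsMulCommutative U) (hUcard : Nat.card U = 2 ^ (2 * n)) (Q : Subgroup G) (hQS : Q ≤ S) (eQ : Q ≃* QuaternionGroup 2) (h₁ : (Subgroup.centralizer (U : Set G)).relIndex (Subgroup.normalizer (U : Set G)) = 6) (h₂ : ((Q ⊔ ((Subgroup.center (S : Subgroup G)).map (S : Subgroup G).subtype)) ⊔ Subgroup.centralizer ((Q ⊔ ((Subgroup.center (S : Subgroup G)).map (S : Subgroup G).subtype) : Subgroup G) : Set G)).relIndex (Subgroup.normalizer ((Q ⊔ ((Subgroup.center (S : Subgroup G)).map (S : Subgroup G).subtype) : Subgroup G) : Set G)) = 2) : (∃ K : Subgroup G, K.Normal ∧ K.index = 2 ∧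 U ≤ K ∧ (∀ H : Subgroup ↥K, H.index ≠ 2)) ∧ Nat.card {C : ConjClasses G // ∃ t : G, orderOf t = 2 ∧ ConjClasses.mk t = C} = 2 := by
  obtain ⟨x, y, z, m, h⟩ := exists_wrGen hS
  obtain rfl := h.n_eq hn
  rw [WRFusion.U_relIndex S h hUS hUab hUcard] at h₁
  rw [WRFusion.V_relIndex S h hQS eQ] at h₂
  obtain ⟨oc, oe, oz⟩ := WRFusion.reps_orders S h
  have h12 := WRFusion.isConj_zc_e S h h₁
  have hinv := WRFusion.base_invariant S h h₂
  refine ⟨?_, ?_⟩
  · obtain ⟨K, hKn, hK2, hK⟩ := QDFusion.exists_index_two_of_invariant S h.index_base hinv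
    refine ⟨K, hKn, hK2, ?_, fun H hH => ?_⟩
    · rw [WRFusion.UG_eq S h hUS hUab hUcard]
      rintro _ ⟨d, hd, rfl⟩
      exact (hK d).2 hd
    have hin : ∀ i j : ℤ, WRFusion.eg S h i j ∈ K := fun i j => (hK _).2 (h.el_mem_base i j)
    refine QDFusion.not_sylow_part_le S hH fun u hu => ?_
    obtain ⟨i, j, e⟩ := (hK ⟨_, hu⟩).1 u.2
    rw [show u = (⟨_, hin i j⟩ : K) from Subtype.ext (congrArg Subtype.val e :)]
    exact WRFusion.U_mem_of_six S h h₁ (fun w hw => mem_of_odd_orderOf hK2 hw) hin hH i j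
  · have hne : ¬ IsConj (WRFusion.eg S h (2 ^ (m - 1)) (2 ^ (m - 1)))
        ((el x y 0 0 * z : (S : Subgroup G)) : G) := fun hc =>
      h.z_mem_base_false 0 0 (hinv _ _ hc (h.el_mem_base _ _))
    refine card_classes_eq_of_reps ![WRFusion.eg S h (2 ^ (m - 1)) (2 ^ (m - 1)),
      ((el x y 0 0 * z : (S : Subgroup G)) : G)]
      (fun i => by fin_cases i; exacts [oc, oz]) ?_ (fun t ht => ?_)
    · intro i j hij
      fin_cases i <;> fin_cases j <;> first | rfl | exact absurd hij hne | exact absurd hij.symm hne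
    · rcases WRFusion.invol_reps S h ht with e | e | e
      · exact ⟨0, e⟩
      · exact ⟨0, h12.trans e⟩
      · exact ⟨1, e⟩

end Cfsg.Agent.S1211
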