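import Cfsg.Statements.S1212
import Cfsg.Agent.Lib.Involutions.WreathedFusion

set_option autoImplicit false
open Cfsg

namespace Cfsg.Agent.S1212

open Cfsg.Agent.Lib.Involutions

theorem result {G : Type*} [Group G] [Finite G] (S : Sylow 2 G) (hS : Cfsg.IsWreathed (S : Subgroup G)) (n : ℕ) (hn : Nat.card S = 2 ^ (2 * n + 1)) (U : Subgroup G) (hUS : U ≤ S) (hUab : IsMulCommutative U) (hUcard : Nat.card U = 2 ^ (2 * n)) (Q : Subgroup G) (hQS : Q ≤ S) (eQ : Q ≃* QuaternionGroup 2) (h₁ : (Subgroup.centralizer (U : Set G)).relIndex (Subgroup.normalizer (U : Set G)) = 2) (h₂ : ((Q ⊔ ((Subgroup.center (S : Subgroup G)).map (S : Subgroup G).subtype)) ⊔ Subgroup.centralizer ((Q ⊔ ((Subgroup.center (S : Subgroup G)).map (S : Subgroup G).subtype) : Subgroup G) : Set G)).relIndex (Subgroup.normalizer ((Q ⊔ ((Subgroup.center (S : Subgroup G)).map (S : Subgroup G).subtype) : Subgroup G) : Set G)) = 2) : Cfsg.HasNormalPComplement 2 G ∧ Nat.card {C : ConjClasses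 G // ∃ t : G, orderOf t = 2 ∧ ConjClasses.mk t = C} = 3 := by
  obtain ⟨x, y, z, m, h⟩ := exists_wrGen hS
  obtain rfl := h.n_eq hn
  rw [WRFusion.U_relIndex S h hUS hUab hUcard] at h₁
  rw [WRFusion.V_relIndex S h hQS eQ] at h₂
  obtain ⟨oc, oe, oz⟩ := WRFusion.reps_orders S h
  have hctl := fun (a : G) (ha : a ∈ (S : Subgroup G)) g hga =>
    WRFusion.controlled S h h₁ h₂ (a := a) ha g hga
  refine ⟨Cfsg.Agent.Lib.Transfer.hasNormalPComplement_of_controlsFusion S hctl, ?_⟩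
  have hconj : ∀ u v : (S : Subgroup G), IsConj (u : G) (v : G) →
      ∃ s : (S : Subgroup G), s * u * s⁻¹ = v := fun u v huv => by
    obtain ⟨g, hg⟩ := isConj_iff.1 huv
    obtain ⟨s, hs, e⟩ := hctl u u.2 g (hg.symm ▸ v.2)
    exact ⟨⟨s, hs⟩, Subtype.ext (e.trans hg)⟩
  have hc12 : ¬ IsConj (WRFusion.eg S h (2 ^ (m - 1)) (2 ^ (m - 1)))
      (WRFusion.eg S h (2 ^ (m - 1)) 0) := fun hc => by
    obtain ⟨s, hs⟩ := hconj _ _ hc
    rw [← h.diag_comm _ s, mul_inv_cancel_right, h.el_eq_iff, sub_zero] at hs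
    exact h.half_not_dvd hs.2
  have hb : ∀ u v : (S : Subgroup G), IsConj (u : G) (v : G) → u ∈ h.base → v ∈ h.base :=
    fun u v huv hu => by
      obtain ⟨s, rfl⟩ := hconj u v huv
      exact (Subgroup.normal_of_index_eq_two h.index_base).conj_mem u hu s
  have hc13 : ¬ IsConj (WRFusion.eg S h (2 ^ (m - 1)) (2 ^ (m - 1)))
      ((el x y 0 0 * z : (S : Subgroup G)) : G) := fun hc =>
    h.z_mem_base_false 0 0 (hb _ _ hc (h.el_mem_base _ _))
  have hc23 : ¬ IsConj (WRFusion.eg S h (2 ^ (m - 1)) 0)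
      ((el x y 0 0 * z : (S : Subgroup G)) : G) := fun hc =>
    h.z_mem_base_false 0 0 (hb _ _ hc (h.el_mem_base _ _))
  refine card_classes_eq_of_reps ![WRFusion.eg S h (2 ^ (m - 1)) (2 ^ (m - 1)),
    WRFusion.eg S h (2 ^ (m - 1)) 0, ((el x y 0 0 * z : (S : Subgroup G)) : G)]
    (fun i => by fin_cases i; exacts [oc, oe, oz]) ?_ (fun t ht => ?_)
  · intro i j hij
    fin_cases i <;> fin_cases j <;> first
      | rfl
      | exact absurd hij hc12
      | exact absurd hij.symm hc12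
      | exact absurd hij hc13
      | exact absurd hij.symm hc13
      | exact absurd hij hc23
      | exact absurd hij.symm hc23
  · rcases WRFusion.invol_reps S h ht with e | e | e
    · exact ⟨0, e⟩
    · exact ⟨1, e⟩
    · exact ⟨2, e⟩

end Cfsg.Agent.S1212
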