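import Cfsg.Statements.S1213
import Mathlib
import Cfsg.Agent.Lib.Involutions.OneClass
import Cfsg.Agent.Lib.Involutions.NormalFour
import Cfsg.Agent.S1205
import Cfsg.Agent.S1210
-- import your own Cfsg.Agent.* helpers here

set_option autoImplicit false
open Cfsg

namespace Cfsg.Agent.S1213

open Cfsg.Agent.Lib.Involutions

variable {G : Type*} [Group G] [Finite G]

theorem automizer_subgroupOf {V C : Subgroup G} (hVC : V ≤ C)
    (hN : Subgroup.normalizer (V : Set G) ≤ C) :
    (V.subgroupOf C ⊔ Subgroup.centralizer (V.subgroupOf C : Set C)).relIndex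
        (Subgroup.normalizer (V.subgroupOf C : Set C)) =
      (V ⊔ Subgroup.centralizer (V : Set G)).relIndex (Subgroup.normalizer (V : Set G)) := by
  have hcen : (Subgroup.centralizer (V.subgroupOf C : Set C)).map C.subtype =
      Subgroup.centralizer (V : Set G) := by
    refine le_antisymm ?_ fun g hg => ?_
    · rintro _ ⟨c, hc, rfl⟩
      exact Subgroup.mem_centralizer_iff.2 fun v hv =>
        congrArg Subtype.val (Subgroup.mem_centralizer_iff.1 hc ⟨v, hVC hv⟩ hv)
    · exact ⟨⟨g, hN (Subgroup.centralizer_le_normalizer _ hg)⟩, Subgroup.mem_centralizer_iff.2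
        fun v hv => Subtype.ext (Subgroup.mem_centralizer_iff.1 hg v hv), rfl⟩
  have hnor : (Subgroup.normalizer (V.subgroupOf C : Set C)).map C.subtype =
      Subgroup.normalizer (V : Set G) := by
    refine le_antisymm ?_ fun g hg => ?_
    · have h1 := Subgroup.le_normalizer_map (H := V.subgroupOf C) C.subtype
      rwa [Subgroup.map_subgroupOf_eq_of_le hVC] at h1
    · refine ⟨⟨g, hN hg⟩, Subgroup.mem_normalizer_iff.2 fun c => ?_, rfl⟩
      simp only [Subgroup.mem_subgroupOf, Subgroup.coe_mul, Subgroup.coe_inv]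
      exact Subgroup.mem_set_normalizer_iff.1 hg (c : G)
  rw [← Subgroup.relIndex_map_map_of_injective _ _ C.subtype_injective, Subgroup.map_sup,
    Subgroup.map_subgroupOf_eq_of_le hVC, hcen, hnor]

theorem map_center_subgroupOf {C : Subgroup G} (S : Sylow 2 G) (hSC : (S : Subgroup G) ≤ C) :
    ((Subgroup.center ((S.subtype hSC : Sylow 2 C) : Subgroup C)).map
      ((S.subtype hSC : Sylow 2 C) : Subgroup C).subtype).map C.subtype =
    (Subgroup.center (S : Subgroup G)).map (S : Subgroup G).subtype := by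
  refine le_antisymm ?_ ?_
  · rintro _ ⟨_, ⟨c, hc, rfl⟩, rfl⟩
    refine ⟨⟨((c : C) : G), c.2⟩, Subgroup.mem_center_iff.2 fun s => Subtype.ext ?_, rfl⟩
    exact congrArg (fun w => ((w : C) : G))
      (congrArg Subtype.val (Subgroup.mem_center_iff.1 hc ⟨⟨s, hSC s.2⟩, s.2⟩))
  · rintro _ ⟨c, hc, rfl⟩
    refine ⟨⟨c, hSC c.2⟩, ⟨⟨⟨c, hSC c.2⟩, c.2⟩, Subgroup.mem_center_iff.2 fun s => ?_, rfl⟩, rfl⟩
    exact Subtype.ext (Subtype.ext (congrArg Subtype.val
      (Subgroup.mem_center_iff.1 hc ⟨((s : C) : G), s.2⟩) :))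

/-- The centralizer of the central involution of a Sylow subgroup. -/
theorem core (S : Sylow 2 G)
    (hS : Cfsg.IsQuasiDihedral (S : Subgroup G) ∨ Cfsg.IsWreathed (S : Subgroup G))
    (hG : ∀ H : Subgroup G, H.index ≠ 2) (x : G) (hx : orderOf x = 2)
    (hxS : (S : Subgroup G) ≤ Subgroup.centralizer ({x} : Set G)) :
    ∃ R : Sylow 2 ↥(Subgroup.centralizer ({x} : Set G)), Nat.card R = Nat.card S ∧ (∃ K : Subgroup ↥(Subgroup.centralizer ({x} : Set G)), K.Normal ∧ (∃ a : ℕ, K.index = 2 ^ a) ∧ (∀ H : Subgroup ↥K, H.index ≠ 2) ∧ (∀ P : Sylow 2 ↥K, ∃ m : ℕ, 1 ≤ m ∧ Nonempty ((P : Subgroup ↥K) ≃* QuaternionGroup (2 ^ m)))) ∧ (∀ Z₀ : Subgroup ↥(Subgroup.centralizer ({x} : Set G)), Z₀ ≤ ((Subgroup.center (R : Subgroup ↥(Subgroup.centralizer ({x} : Set G)))).map (R : Subgroup ↥(Subgroup.centralizer ({x} : Set G))).subtype) → Cfsg.IsWeaklyClosed Z₀ (R : Subgroup ↥(Subgroup.centralizer ({x} : Set G)))) := by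
  classical
  have : Fact (Nat.Prime 2) := ⟨Nat.prime_two⟩
  set C := Subgroup.centralizer ({x} : Set G) with hC
  have hfix : ∀ g : C, (g : G) * x * (g : G)⁻¹ = x := fun g =>
    mul_inv_eq_iff_eq_mul.2 (Subgroup.mem_centralizer_singleton_iff.1 g.2)
  let R : Sylow 2 C := S.subtype hxS
  have eR : (R : Subgroup C) ≃* (S : Subgroup G) := Subgroup.subgroupOfEquivOfLe hxS
  refine ⟨R, Nat.card_congr eR.toEquiv, ?_⟩
  -- `x` lies in the centre of `S`
  have hp : IsPGroup 2 ↥((S : Subgroup G) ⊔ Subgroup.zpowers x) :=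
    IsPGroup.to_sup_of_normal_left' S.2 (IsPGroup.of_card (n := 1)
      (by rw [Nat.card_zpowers, hx, pow_one])) ((Subgroup.zpowers_le.2
        (Subgroup.centralizer_le_normalizer _ (Subgroup.mem_centralizer_iff.2 fun s hs =>
          Subgroup.mem_centralizer_singleton_iff.1 (hxS hs)))))
  have hxmem : x ∈ (S : Subgroup G) :=
    (S.3 hp le_sup_left).le (Subgroup.mem_sup_right (Subgroup.mem_zpowers x))
  have hxcen : (⟨x, hxmem⟩ : (S : Subgroup G)) ∈ Subgroup.center (S : Subgroup G) :=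
    Subgroup.mem_center_iff.2 fun s =>
      Subtype.ext (Subgroup.mem_centralizer_singleton_iff.1 (hxS s.2))
  have hxo : orderOf (⟨x, hxmem⟩ : (S : Subgroup G)) = 2 := by rw [Subgroup.orderOf_mk, hx]
  rcases hS with hQ | hW
  · obtain ⟨x₀, y, n, h⟩ := exists_qdGen hQ
    have hxz : x = ((x₀ ^ ((2 : ℤ) ^ (n - 1)) : (S : Subgroup G)) : G) :=
      congrArg Subtype.val (((h.center_le_iff _).1 hxcen).resolve_left (invol_ne_one hxo))
    -- a quaternion subgroup
    set a : (S : Subgroup G) := x₀ ^ ((2 : ℤ) ^ (n - 2)) with haDef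
    set b : (S : Subgroup G) := x₀ ^ (1 : ℤ) * y with hbDef
    obtain ⟨F, hF, -, -⟩ := exists_quaternionHom (m := 2) (x := a) (y := b)
      (by rw [haDef, h.orderOf_a])
      (by rw [hbDef, h.sq_y_odd odd_one, zpow_natCast, sq, haDef, h.a_sq])
      (fun hm => by
        obtain ⟨k, hk⟩ := Subgroup.mem_zpowers_iff.1 hm
        rw [haDef, ← zpow_mul] at hk
        exact h.zpow_y_ne_zpow _ _ hk.symm)
      (by rw [haDef, hbDef, h.conj_a])
    set Q : Subgroup G := F.range.map (S : Subgroup G).subtype with hQdef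
    have hQS : Q ≤ (S : Subgroup G) := Subgroup.map_subtype_le _
    let eQ : Q ≃* QuaternionGroup 2 := (F.range.equivMapOfInjective _
      (Subgroup.subtype_injective _)).symm.trans (MonoidHom.ofInjective hF).symm
    obtain ⟨tQ, h0, -, -, hQiff⟩ := QDFusion.quat_main S h hQS eQ
    have hfour : QDFusion.FourFused S h := by
      by_contra hf
      obtain ⟨K, -, hK, -⟩ := QDFusion.exists_index_two_zero S h hf
      exact hG K hK
    have hQ6 := hQiff.2 hfour
    -- the normalizer of `Q` centralizes `x`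
    have hxQ : x ∈ Q := by
      have h1 := mul_mem (tQ.mem 0) (tQ.mem 0)
      rw [h0, ← Subgroup.coe_mul, h.a_sq, ← hxz] at h1
      exact h1
    have hQuniq : ∀ q ∈ Q, orderOf q = 2 → q = x := by
      intro q hq hq2
      have key : ∀ u : QuaternionGroup 2, ∀ v : QuaternionGroup 2,
          u * u = 1 → v * v = 1 → u ≠ 1 → v ≠ 1 → u = v := by decide
      have hne : ∀ w : Q, orderOf (w : G) = 2 → eQ w * eQ w = 1 ∧ eQ w ≠ 1 := fun w hw => by
        refine ⟨by rw [← map_mul, show w * w = 1 from Subtype.ext (invol_mul_self hw), map_one],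
          fun h1 => invol_ne_one hw ?_⟩
        rw [← map_one eQ] at h1
        rw [eQ.injective h1, Subgroup.coe_one]
      obtain ⟨p1, p2⟩ := hne ⟨q, hq⟩ hq2
      obtain ⟨p3, p4⟩ := hne ⟨x, hxQ⟩ hx
      exact congrArg Subtype.val (eQ.injective (key _ _ p1 p3 p2 p4))
    have hNC : Subgroup.normalizer (Q : Set G) ≤ C := fun g hg =>
      Subgroup.mem_centralizer_singleton_iff.2 (mul_inv_eq_iff_eq_mul.1 (hQuniq _
        ((Subgroup.mem_set_normalizer_iff.1 hg x).1 hxQ) (by rw [orderOf_conj_eq, hx])))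
    have hQC : Q ≤ C := hQS.trans hxS
    -- a four-group
    have hy2 : orderOf (x₀ ^ (0 : ℤ) * y) = 2 := h.orderOf_y_even Even.zero
    obtain ⟨T₀, hT₀, hT₀mem⟩ := exists_klein_mem_iff (z := (⟨x, hxmem⟩ : (S : Subgroup G)))
      (v := x₀ ^ (0 : ℤ) * y) (invol_mul_self hxo) (invol_mul_self hy2)
      (invol_ne_one hxo) (invol_ne_one hy2)
      (fun he => h.zpow_y_ne_zpow 0 _ (he.trans (Subtype.ext hxz)))
      (Subgroup.mem_center_iff.1 hxcen _).symm
    set T := T₀.map (eR.symm.toMonoidHom) with hTdef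
    set TC := T.map (R : Subgroup C).subtype with hTC
    have hTk : IsKleinFour TC := by
      have h1 : IsKleinFour T := isKleinFour_map hT₀ _ eR.symm.injective
      exact isKleinFour_map h1 _ (Subgroup.subtype_injective _)
    have hQR : Q.subgroupOf C ≤ (R : Subgroup C) := fun q hq => hQS hq
    have eQC : Q.subgroupOf C ≃* QuaternionGroup 2 :=
      (Subgroup.subgroupOfEquivOfLe hQC).trans eQ
    have hR : Cfsg.IsQuasiDihedral (R : Subgroup C) := isQuasiDihedral_of_mulEquiv eR.symm hQ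
    obtain ⟨x₁, y₁, n₁, h'⟩ := exists_qdGen hR
    obtain ⟨tT, -, -, hT26, hTiff⟩ := QDFusion.klein_main R h' hTk (Subgroup.map_subtype_le _)
    rw [klein_sup_centralizer hTk] at hT26 hTiff
    have hI : ¬ QDFusion.InvolFused R h' := by
      intro hI
      have hone := fun {u v : C} (hu : orderOf u = 2) (hv : orderOf v = 2) =>
        isConj_of_card_classes_eq_one ((QDFusion.classes_invol R h').1 hI) hu hv
      obtain ⟨g, hg⟩ := isConj_iff.1 (hone (u := (⟨x, hxS hxmem⟩ : C))
        (v := ⟨((x₀ ^ (0 : ℤ) * y : (S : Subgroup G)) : G), hxS (x₀ ^ (0 : ℤ) * y).2⟩)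
        (by rw [Subgroup.orderOf_mk, hx]) (by rw [Subgroup.orderOf_mk, Subgroup.orderOf_coe, hy2]))
      have h1 : x = ((x₀ ^ (0 : ℤ) * y : (S : Subgroup G)) : G) :=
        (hfix g).symm.trans (congrArg Subtype.val hg :)
      exact h.zpow_y_ne_zpow 0 _ (Subtype.ext (h1.symm.trans hxz))
    obtain ⟨⟨K, hKn, hK2, hKP, hKI⟩, hwc, -, -⟩ := Cfsg.Agent.S1205.result R hR TC hTk
      (Subgroup.map_subtype_le _) (Q.subgroupOf C) hQR eQC
      (hT26.resolve_right fun h6 => hI (hTiff.1 h6))
      (by rw [automizer_subgroupOf hQC hNC]; exact hQ6)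
    refine ⟨⟨K, hKn, ⟨1, by rw [hK2, pow_one]⟩, hKI, hKP⟩, fun Z₀ hZ => ?_⟩
    -- subgroups of the centre of order two
    rcases eq_or_ne Z₀ ⊥ with rfl | hne
    · exact ⟨bot_le, fun g _ => Subgroup.map_bot _⟩
    · have heq : Z₀ = (Subgroup.center (R : Subgroup C)).map (R : Subgroup C).subtype := by
        refine le_antisymm hZ ?_
        rintro _ ⟨c, hc, rfl⟩
        obtain ⟨w, hw, hw1⟩ := (Subgroup.ne_bot_iff_exists_ne_one.1 hne : ∃ w : Z₀, w ≠ 1) |>
          fun ⟨w, hw⟩ => (⟨(w : C), w.2, fun h1 => hw (Subtype.ext h1)⟩ : ∃ w : C, w ∈ Z₀ ∧ w ≠ 1)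
        obtain ⟨d, hd, rfl⟩ := hZ hw
        rcases (h'.center_le_iff c).1 hc with rfl | rfl
        · exact one_mem _
        · rcases (h'.center_le_iff d).1 hd with rfl | rfl
          · exact absurd rfl hw1
          · exact hw
      rw [heq]; exact hwc
  · obtain ⟨x₀, y, z, n, h⟩ := exists_wrGen hW
    have hxz : x = WRFusion.eg S h (2 ^ (n - 1)) (2 ^ (n - 1)) := by
      rcases h.invol_classes hxo with e | e | e
      · exact congrArg Subtype.val e
      all_goals
        obtain ⟨s, hs⟩ := isConj_iff.1 e.symm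
        rw [Subgroup.mem_center_iff.1 hxcen s, mul_inv_cancel_right] at hs
        obtain ⟨k, hk⟩ := (h.center_iff _).1 hxcen
        rw [hk] at hs
      · have h2 := h.el_eq_iff.1 hs
        rw [sub_zero] at h2
        exact absurd (by simpa using dvd_sub h2.1 h2.2) h.half_not_dvd
      · exact absurd hs.symm (h.el_z_ne_el _ _ _ _)
    have hW6 : (WRFusion.WG S h ⊔ Subgroup.centralizer (WRFusion.WG S h : Set G)).relIndex
        (Subgroup.normalizer (WRFusion.WG S h : Set G)) = 6 := by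
      obtain ⟨tW, -, -, -, h26⟩ := WRFusion.exists_threeW S h
      refine h26.resolve_left fun h₂ => ?_
      obtain ⟨K, -, hK, -⟩ := QDFusion.exists_index_two_of_invariant S h.index_base
        (WRFusion.base_invariant S h h₂)
      exact hG K hK
    obtain ⟨Q, -, -, hQW, ⟨eQ⟩⟩ := WRFusion.exists_quatG S h
    have hQS : Q ≤ (S : Subgroup G) := hQW.trans (WRFusion.WG_le S h)
    set Z := (Subgroup.center (S : Subgroup G)).map (S : Subgroup G).subtype with hZdef
    have hV := WRFusion.V_relIndex S h hQS eQ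
    rw [← hZdef, hW6] at hV
    have hQC : Q ⊔ Z ≤ C := (sup_le hQS (Subgroup.map_subtype_le _)).trans hxS
    have hNC : Subgroup.normalizer ((Q ⊔ Z : Subgroup G) : Set G) ≤ C := by
      intro g hg
      obtain ⟨s, hs, hsW⟩ := WRFusion.VG_eq S h hQS eQ
      have hg' : s * g * s⁻¹ ∈ Subgroup.normalizer (WRFusion.WG S h : Set G) := by
        rw [← hsW, ← Subgroup.map_equiv_normalizer_eq]
        exact ⟨g, hg, rfl⟩
      have h1 := WRFusion.centralizes_diag S h hg' (2 ^ (n - 1))
      rw [← hxz] at h1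
      have hsx : Commute s x := Subgroup.mem_centralizer_singleton_iff.1 (hxS hs)
      have h2 : Commute (s * g * s⁻¹) x := mul_inv_eq_iff_eq_mul.1 h1
      have h3 := ((hsx.inv_left).mul_left h2).mul_left hsx
      rw [show s⁻¹ * (s * g * s⁻¹) * s = g by group] at h3
      exact Subgroup.mem_centralizer_singleton_iff.2 h3.eq
    have hR : Cfsg.IsWreathed (R : Subgroup C) := isWreathed_of_mulEquiv eR.symm hW
    obtain ⟨x₁, y₁, z₁, n₁, h'⟩ := exists_wrGen hR
    obtain ⟨tU, -, -, -, -, -, hU26⟩ := WRFusion.exists_threeU R h'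
    have hQC' : Q ≤ C := le_sup_left.trans hQC
    set Q' := Q.subgroupOf C
    set Z' := (Subgroup.center (R : Subgroup C)).map (R : Subgroup C).subtype with hZ'def
    have hVV : Q' ⊔ Z' = (Q ⊔ Z).subgroupOf C := by
      apply Subgroup.map_injective C.subtype_injective
      rw [Subgroup.map_sup, Subgroup.map_subgroupOf_eq_of_le hQC',
        Subgroup.map_subgroupOf_eq_of_le hQC, hZ'def, map_center_subgroupOf S hxS]
    have hU2 : (WRFusion.UG R h' ⊔ Subgroup.centralizer (WRFusion.UG R h' : Set C)).relIndex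
        (Subgroup.normalizer (WRFusion.UG R h' : Set C)) = 2 := by
      refine hU26.resolve_right fun h6 => ?_
      have hc := WRFusion.isConj_zc_e R h' h6
      obtain ⟨g, hg⟩ := isConj_iff.1 hc
      -- the central involution of `R` is `x`
      have hxR : (⟨⟨x, hxS hxmem⟩, hxmem⟩ : (R : Subgroup C)) ∈ Subgroup.center (R : Subgroup C) :=
        Subgroup.mem_center_iff.2 fun u => Subtype.ext (Subtype.ext
          (Subgroup.mem_centralizer_singleton_iff.1 (u : C).2))
      obtain ⟨k, hk⟩ := (h'.center_iff _).1 hxR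
      have hk2 : orderOf (el x₁ y₁ k k) = 2 := by
        rw [← hk, ← Subgroup.orderOf_coe, ← Subgroup.orderOf_coe]; exact hx
      have hxc : (⟨x, hxS hxmem⟩ : C) = WRFusion.eg R h' (2 ^ (n₁ - 1)) (2 ^ (n₁ - 1)) := by
        have e1 : (⟨⟨x, hxS hxmem⟩, hxmem⟩ : (R : Subgroup C)) =
            el x₁ y₁ (2 ^ (n₁ - 1)) (2 ^ (n₁ - 1)) := by
          rw [hk]
          rcases h'.invol_el hk2 with e | e | e
          all_goals have e' := h'.el_eq_iff.1 e
          · rw [sub_zero] at e'
            exact absurd (by simpa using dvd_sub e'.2 e'.1) h'.half_not_dvd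
          · rw [sub_zero] at e'
            exact absurd (by simpa using dvd_sub e'.1 e'.2) h'.half_not_dvd
          · exact e
        exact congrArg Subtype.val e1
      rw [← hxc] at hg
      have hcx : g * (⟨x, hxS hxmem⟩ : C) * g⁻¹ = ⟨x, hxS hxmem⟩ := Subtype.ext (hfix g)
      rw [hcx, hxc] at hg
      exact h'.half_not_dvd (by simpa using (h'.el_eq_iff.1 (Subtype.ext hg)).2)
    obtain ⟨⟨K, hKn, hKi, hKP, hKI⟩, hwc, -⟩ := Cfsg.Agent.S1210.result R hR n₁ h'.card
      (WRFusion.UG R h') (WRFusion.UG_le R h')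
      (by
        have := h'.isMulCommutative_base
        exact ⟨⟨fun u v => Subtype.ext (by
          obtain ⟨u', hu', hue⟩ := u.2
          obtain ⟨v', hv', hve⟩ := v.2
          show (u : C) * (v : C) = (v : C) * (u : C)
          rw [← hue, ← hve, ← map_mul, ← map_mul]
          exact congrArg _ (congrArg Subtype.val
            (this.is_comm.comm (⟨u', hu'⟩ : h'.base) ⟨v', hv'⟩)))⟩⟩)
      (by rw [WRFusion.UG, Subgroup.card_map_of_injective (Subgroup.subtype_injective _), h'.card_base])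
      Q' (fun q hq => hQS hq) ((Subgroup.subgroupOfEquivOfLe hQC').trans eQ)
      (by
        obtain ⟨t, -, -, -, -, hsup, -⟩ := WRFusion.exists_threeU R h'
        rw [← hsup]; exact hU2)
      (by rw [← hZ'def, hVV, automizer_subgroupOf hQC hNC]; exact hV)
    exact ⟨⟨K, hKn, ⟨_, hKi⟩, hKI, hKP⟩, hwc⟩

/-- Let G be a finite group with quasi-dihedral or wreathed Sylow 2-subgroups and no subgroup of index 2, and let x be an involution with centralizer C. Then C has a Sylow 2-subgroup R which is a Sylow 2-subgroup of G; C has a normal subgroup K of index a power of 2 which has no subgroup of index 2 and whose Sylow 2-subgroups are generalized quaternion; and every subgroup of the centre of R is weakly closed in R with respect to C. -/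
theorem result {G : Type*} [Group G] [Finite G] (S : Sylow 2 G) (hS : Cfsg.IsQuasiDihedral (S : Subgroup G) ∨ Cfsg.IsWreathed (S : Subgroup G)) (hG : ∀ H : Subgroup G, H.index ≠ 2) (x : G) (hx : orderOf x = 2) : ∃ R : Sylow 2 ↥(Subgroup.centralizer ({x} : Set G)), Nat.card R = Nat.card S ∧ (∃ K : Subgroup ↥(Subgroup.centralizer ({x} : Set G)), K.Normal ∧ (∃ a : ℕ, K.index = 2 ^ a) ∧ (∀ H : Subgroup ↥K, H.index ≠ 2) ∧ (∀ P : Sylow 2 ↥K, ∃ m : ℕ, 1 ≤ m ∧ Nonempty ((P : Subgroup ↥K) ≃* QuaternionGroup (2 ^ m)))) ∧ (∀ Z₀ : Subgroup ↥(Subgroup.centralizer ({x} : Set G)), Z₀ ≤ ((Subgroup.center (R : Subgroup ↥(Subgroup.centralizer ({x} : Set G)))).map (R : Subgroup ↥(Subgroup.centralizer ({x} : Set G))).subtype) → Cfsg.IsWeaklyClosed Z₀ (R : Subgroup ↥(Subgroup.centralizer ({x} : Set G)))) := by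
  have : Fact (Nat.Prime 2) := ⟨Nat.prime_two⟩
  -- a Sylow subgroup with `x` central
  obtain ⟨z, hz2, hz⟩ : ∃ z : G, orderOf z = 2 ∧
      (S : Subgroup G) ≤ Subgroup.centralizer ({z} : Set G) := by
    have hne : Nontrivial (S : Subgroup G) := by
      rw [← Finite.one_lt_card_iff_nontrivial]
      rcases hS with ⟨n, -, hc, -⟩ | ⟨n, -, hc, -⟩ <;> rw [hc] <;>
        exact Nat.one_lt_two_pow (Nat.succ_ne_zero _)
    have := S.2.center_nontrivial
    obtain ⟨c, hc⟩ := exists_prime_orderOf_dvd_card' 2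
      ((S.2.to_subgroup (Subgroup.center (S : Subgroup G))).card_eq_or_dvd.resolve_left
        (Finite.one_lt_card_iff_nontrivial.2 this).ne')
    rw [← Subgroup.orderOf_coe, ← Subgroup.orderOf_coe] at hc
    exact ⟨_, hc, fun s hs => Subgroup.mem_centralizer_singleton_iff.2
      (congrArg Subtype.val (Subgroup.mem_center_iff.1 c.2 ⟨s, hs⟩))⟩
  obtain ⟨g, rfl⟩ := isConj_iff.1 (invol_isConj S hS hG hz2 hx)
  have e : (S : Subgroup G) ≃* ((g • S : Sylow 2 G) : Subgroup G) := Sylow.equiv S (g • S)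
  obtain ⟨R, hR, h1, h2⟩ := core (g • S)
    (hS.imp (isQuasiDihedral_of_mulEquiv e) (isWreathed_of_mulEquiv e)) hG _ hx
    (by
      rintro _ ⟨s, hs, rfl⟩
      rw [Subgroup.mem_centralizer_singleton_iff]
      show g * s * g⁻¹ * (g * z * g⁻¹) = g * z * g⁻¹ * (g * s * g⁻¹)
      rw [conj_mul, conj_mul, Subgroup.mem_centralizer_singleton_iff.1 (hz hs)])
  exact ⟨R, hR.trans (Nat.card_congr e.symm.toEquiv), h1, h2⟩

end Cfsg.Agent.S1213
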