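import Cfsg.Statements.S1214
import Mathlib
import Cfsg.Agent.Lib.Involutions.OneClass
import Cfsg.Agent.Lib.Components.PComponent
import Cfsg.Agent.Lib.Cores
-- import your own Cfsg.Agent.* helpers here

set_option autoImplicit false
open Cfsg

namespace Cfsg.Agent.S1214

open Cfsg.Agent.Lib.Involutions

theorem shape_congr {A B : Type*} [Group A] [Group B] (e : A ≃* B)
    (h : Cfsg.IsQuasiDihedral A ∨ Cfsg.IsWreathed A) :
    Cfsg.IsQuasiDihedral B ∨ Cfsg.IsWreathed B := by
  rcases h with ⟨n, hn, hc, x, y, hx, hy, hxy⟩ | ⟨n, hn, hc, x, y, z, hx, hxy, hd, hz, hzx⟩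
  · exact Or.inl ⟨n, hn, by rw [← Nat.card_congr e.toEquiv, hc], e x, e y, by rw [e.orderOf_eq, hx],
      by rw [e.orderOf_eq, hy], by rw [← map_inv, ← map_mul, ← map_mul, hxy, map_pow]⟩
  · refine Or.inr ⟨n, hn, by rw [← Nat.card_congr e.toEquiv, hc], e x, e y, e z,
      by rw [e.orderOf_eq, hx], by rw [← map_mul, hxy, map_mul], ?_, by rw [e.orderOf_eq, hz],
      by rw [← map_inv, ← map_mul, ← map_mul, hzx]⟩
    have e1 : ∀ w : A, Subgroup.zpowers (e w) = (Subgroup.zpowers w).map e.toMonoidHom :=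
      fun w => (MonoidHom.map_zpowers e.toMonoidHom w).symm
    rw [e1, e1, ← Subgroup.map_inf _ _ _ e.injective, hd, Subgroup.map_bot]

/-- In these groups there are two involutions that do not commute, and the involutions together
with one more element generate. -/
theorem shape_facts {S : Type*} [Group S] (h : Cfsg.IsQuasiDihedral S ∨ Cfsg.IsWreathed S) :
    (∃ a b : S, orderOf a = 2 ∧ orderOf b = 2 ∧ ¬ Commute a b) ∧
      ∃ x : S, ∀ u : S, ∃ k : ℤ, ∃ v ∈ Subgroup.closure {t : S | orderOf t = 2}, u = x ^ k * v := by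
  rcases h with hQ | hW
  · obtain ⟨x, y, n, h⟩ := exists_qdGen hQ
    refine ⟨⟨x ^ (0 : ℤ) * y, x ^ (2 : ℤ) * y, h.orderOf_y_even Even.zero,
      h.orderOf_y_even even_two, fun hc => ?_⟩, x, fun u => ?_⟩
    · have h1 := (hc.symm).mul_left (Commute.refl (x ^ (0 : ℤ) * y))
      rw [h.mul_yy, mul_zero, add_zero, h.commute_zpow_iff] at h1
      have h2 := Int.le_of_dvd two_pos h1
      have h4 : (2 : ℤ) ^ 2 ≤ 2 ^ (n - 1) :=
        pow_le_pow_right₀ one_le_two (by have := h.hn; omega)
      omega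
    · obtain ⟨i, e | e⟩ := h.normal_form u
      · exact ⟨i, 1, one_mem _, by rw [e, mul_one]⟩
      · exact ⟨i, x ^ (0 : ℤ) * y, Subgroup.subset_closure (h.orderOf_y_even Even.zero),
          by rw [e, zpow_zero, one_mul]⟩
  · obtain ⟨x, y, z, n, h⟩ := exists_wrGen hW
    have hmem : ∀ i j : ℤ, (2 : ℤ) ^ n ∣ i + j →
        el x y i j * z ∈ Subgroup.closure {t : S | orderOf t = 2} :=
      fun i j hij => Subgroup.subset_closure (h.orderOf_el_z hij)
    refine ⟨⟨el x y (2 ^ (n - 1)) 0, el x y 0 0 * z, ?_, h.orderOf_el_z (by simp), fun hc => ?_⟩,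
      x, fun u => ?_⟩
    · refine orderOf_eq_two_of_mul_self ?_ (h.el_half_ne_one 0)
      rw [h.el_mul, h.el_eq_one_iff]
      exact ⟨⟨1, by rw [h.two_pow_eq.1]; ring⟩, by simp⟩
    · have hh := (h.commute_el_z_iff _ _ _ _).1 hc
      exact h.half_not_dvd (by simpa using hh)
    · have hz : z ∈ Subgroup.closure {t : S | orderOf t = 2} := Subgroup.subset_closure h.oz
      have hel : ∀ j : ℤ, el x y (-j) j ∈ Subgroup.closure {t : S | orderOf t = 2} := fun j => by
        have h1 := mul_mem (hmem (-j) j (by simp)) (inv_mem hz)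
        rwa [mul_inv_cancel_right] at h1
      obtain ⟨i, j, e | e⟩ := h.normal_form u
      · refine ⟨i + j, el x y (-j) j, hel j, ?_⟩
        rw [e, show x ^ (i + j) = el x y (i + j) 0 by simp [el], h.el_mul]
        congr 1 <;> ring
      · refine ⟨i + j, el x y (-j) j * z, mul_mem (hel j) hz, ?_⟩
        rw [e, show x ^ (i + j) = el x y (i + j) 0 by simp [el], ← mul_assoc, h.el_mul]
        congr 2 <;> ring

theorem core {G : Type*} [Group G] [Finite G] (hO : Cfsg.oddCore G = ⊥) (S : Sylow 2 G)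
    (hS : Cfsg.IsQuasiDihedral (S : Subgroup G) ∨ Cfsg.IsWreathed (S : Subgroup G))
    (hG : ∀ H : Subgroup G, H.index ≠ 2) :
    ∃ L : Subgroup G, L.Normal ∧ Odd L.index ∧ IsSimpleGroup L ∧ ¬ IsMulCommutative L := by
  classical
  have : Fact (Nat.Prime 2) := ⟨Nat.prime_two⟩
  obtain ⟨⟨a, b, ha, hb, hab⟩, x, hx⟩ := shape_facts hS
  have hone := fun {s t : G} (hs : orderOf s = 2) (ht : orderOf t = 2) => invol_isConj S hS hG hs ht
  rw [← Subgroup.orderOf_coe] at ha hb
  -- normal subgroups of even order contain all involutions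
  have hinv : ∀ N : Subgroup G, N.Normal → N ≠ ⊥ → ∀ t : G, orderOf t = 2 → t ∈ N := by
    intro N hN hne t ht
    have heven : 2 ∣ Nat.card N := by
      by_contra hodd
      exact hne (le_bot_iff.1 (hO ▸ Cfsg.Agent.Lib.Cores.le_oddCore hN
        (Nat.odd_iff.2 (Nat.two_dvd_ne_zero.1 hodd))))
    obtain ⟨s, hs⟩ := exists_prime_orderOf_dvd_card' 2 heven
    obtain ⟨g, hg⟩ := isConj_iff.1 (hone (s := (s : G)) (by rw [Subgroup.orderOf_coe, hs]) ht)
    exact hg ▸ hN.conj_mem s s.2 g
  -- there is no normal `2`-subgroup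
  have hO2 : ∀ N : Subgroup G, N.Normal → IsPGroup 2 N → N = ⊥ := by
    intro N hN hNp
    by_contra hne
    have : Nontrivial N := (Subgroup.nontrivial_iff_ne_bot N).2 hne
    have := hNp.center_nontrivial
    obtain ⟨c, hc⟩ := exists_prime_orderOf_dvd_card' 2
      ((hNp.to_subgroup (Subgroup.center N)).card_eq_or_dvd.resolve_left
        (Finite.one_lt_card_iff_nontrivial.2 this).ne')
    rw [← Subgroup.orderOf_coe, ← Subgroup.orderOf_coe] at hc
    obtain ⟨g, hg⟩ := isConj_iff.1 (hone hc ha)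
    have h1 : Commute ((c : N) : G) (g⁻¹ * (b : G) * g) := by
      have hm := hN.conj_mem _ (hinv N hN hne _ hb) g⁻¹
      rw [inv_inv] at hm
      exact (congrArg Subtype.val (Subgroup.mem_center_iff.1 c.2 ⟨_, hm⟩) :).symm
    have h2 := h1.map (MulAut.conj g).toMonoidHom
    simp only [MulEquiv.coe_toMonoidHom, MulAut.conj_apply, hg, mul_assoc, mul_inv_cancel_left,
      mul_inv_cancel, mul_one] at h2
    exact hab (Subtype.ext h2)
  -- a minimal normal subgroup
  obtain ⟨N, ⟨hN, hN1⟩, hNmin⟩ := wellFounded_lt.has_min {N : Subgroup G | N.Normal ∧ N ≠ ⊥}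
    ⟨⊤, inferInstance, fun h => invol_ne_one ha
      (Subgroup.mem_bot.1 ((h ▸ Subgroup.mem_top (a : G) : (a : G) ∈ (⊥ : Subgroup G))))⟩
  have hnt : Nontrivial N := (Subgroup.nontrivial_iff_ne_bot N).2 hN1
  have hincl := hinv N hN hN1
  have hnc : ¬ IsMulCommutative N := fun hc =>
    hab (Subtype.ext (congrArg Subtype.val
      (hc.is_comm.comm (⟨_, hincl _ ha⟩ : N) ⟨_, hincl _ hb⟩) :))
  have hsimple : IsSimpleGroup N := by
    refine ⟨fun W hW => ?_⟩
    by_contra hcon
    push Not at hcon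
    obtain ⟨W₀, ⟨hWn, hW1⟩, hWmin⟩ := wellFounded_lt.has_min
      {W : Subgroup N | W.Normal ∧ W ≠ ⊥} ⟨W, hW, hcon.1⟩
    let cj : G → (N ≃* N) := fun g => MulAut.conjNormal g
    -- some conjugate of `W₀` differs from it
    obtain ⟨g, hg⟩ : ∃ g : G, W₀.map (cj g).toMonoidHom ≠ W₀ := by
      by_contra hall
      push Not at hall
      have hn : (W₀.map N.subtype).Normal := ⟨fun w hw g => by
        obtain ⟨m, hm, rfl⟩ := hw
        exact ⟨cj g m, hall g ▸ Subgroup.mem_map_of_mem _ hm, MulAut.conjNormal_apply g m⟩⟩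
      have htop : W₀.map N.subtype = N := by
        by_contra hne
        exact hNmin _ ⟨hn, fun h => hW1 ((Subgroup.map_eq_bot_iff_of_injective _
          N.subtype_injective).1 h)⟩ (lt_of_le_of_ne (Subgroup.map_subtype_le _) hne)
      have hW0 : W₀ = ⊤ := Subgroup.map_injective N.subtype_injective
        (by rw [htop, ← MonoidHom.range_eq_map, Subgroup.range_subtype])
      exact hWmin W ⟨hW, hcon.1⟩ (hW0 ▸ lt_of_le_of_ne le_top hcon.2)
    have hdisj : ∀ k : G, W₀.map (cj k).toMonoidHom ≠ W₀ → W₀ ⊓ W₀.map (cj k).toMonoidHom = ⊥ := by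
      intro k hk
      by_contra hne
      have hn' : (W₀.map (cj k).toMonoidHom).Normal := hWn.map _ (cj k).surjective
      have h1 : ¬ W₀ ⊓ W₀.map (cj k).toMonoidHom < W₀ := hWmin _ ⟨inferInstance, hne⟩
      have h2 : W₀ ≤ W₀.map (cj k).toMonoidHom :=
        inf_eq_left.1 (eq_of_le_of_not_lt inf_le_left h1)
      exact hk (Subgroup.eq_of_le_of_card_ge h2
        (Subgroup.card_map_of_injective (cj k).injective).le).symm
    have hcomm : ∀ k : G, W₀.map (cj k).toMonoidHom ≠ W₀ → ∀ u ∈ W₀,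
        ∀ v ∈ W₀.map (cj k).toMonoidHom, Commute u v := fun k hk u hu v hv =>
      Subgroup.commute_of_normal_of_disjoint _ _ hWn (hWn.map _ (cj k).surjective)
        (disjoint_iff.2 (hdisj k hk)) u v hu hv
    have hsn : (W₀.map N.subtype).IsSubnormal :=
      (hWn.isSubnormal.trans' hN.isSubnormal)
    have heven : 2 ∣ Nat.card W₀ := by
      by_contra hodd
      have h1 := Cfsg.Agent.Lib.Components.le_pPrimeCore_of_subnormal (p := 2) hsn (by
        rw [Subgroup.card_map_of_injective N.subtype_injective]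
        exact (Nat.prime_two.coprime_iff_not_dvd.2 hodd).symm)
      rw [show Cfsg.pPrimeCore 2 G = ⊥ from hO, le_bot_iff,
        Subgroup.map_eq_bot_iff_of_injective _ N.subtype_injective] at h1
      exact hW1 h1
    obtain ⟨u, hu⟩ := exists_prime_orderOf_dvd_card' 2 heven
    rw [← Subgroup.orderOf_coe] at hu
    set v : N := cj g (u : N) with hv
    have hvW : v ∈ W₀.map (cj g).toMonoidHom := ⟨_, u.2, rfl⟩
    have hvo : orderOf v = 2 := by rw [hv, MulEquiv.orderOf_eq, hu]
    have huv : Commute (u : N) v := hcomm g hg _ u.2 _ hvW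
    have hne1 : (u : N) * v ≠ 1 := fun h => by
      have h1 : (u : N) = v := by
        rw [mul_eq_one_iff_eq_inv.1 h, invol_inv hvo]
      have h2 : (u : N) ∈ W₀ ⊓ W₀.map (cj g).toMonoidHom := ⟨u.2, h1 ▸ hvW⟩
      rw [hdisj g hg, Subgroup.mem_bot] at h2
      exact invol_ne_one hu h2
    have huvo : orderOf (((u : N) * v : N) : G) = 2 := by
      rw [Subgroup.orderOf_coe]
      exact orderOf_eq_two_of_mul_self
        (by rw [huv.symm.mul_mul_mul_comm, invol_mul_self hu, invol_mul_self hvo, one_mul]) hne1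
    obtain ⟨k, hk⟩ := isConj_iff.1 (hone (s := ((u : N) : G)) (by rw [Subgroup.orderOf_coe, hu]) huvo)
    have hk' : (u : N) * v ∈ W₀.map (cj k).toMonoidHom :=
      ⟨_, u.2, Subtype.ext ((MulAut.conjNormal_apply k (u : N)).trans hk)⟩
    have hkne : W₀.map (cj k).toMonoidHom ≠ W₀ := fun h => by
      rw [h] at hk'
      have h2 : v ∈ W₀ ⊓ W₀.map (cj g).toMonoidHom :=
        ⟨(Subgroup.mul_mem_cancel_left _ u.2).1 hk', hvW⟩
      rw [hdisj g hg, Subgroup.mem_bot] at h2
      exact invol_ne_one hvo h2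
    have hcen : ∀ w ∈ W₀, Commute w (u : N) := fun w hw => by
      have h1 := (hcomm k hkne w hw _ hk').mul_right ((hcomm g hg w hw _ hvW).inv_right)
      rwa [mul_inv_cancel_right] at h1
    have hZn : ((Subgroup.zpowers (u : N)).subgroupOf W₀).Normal := ⟨fun w hw c => by
      have hw' := Subgroup.mem_subgroupOf.1 hw
      obtain ⟨i, hi⟩ := Subgroup.mem_zpowers_iff.1 hw'
      rw [Subgroup.mem_subgroupOf, Subgroup.coe_mul, Subgroup.coe_mul, Subgroup.coe_inv, ← hi,
        ((hcen c c.2).zpow_right i).eq, mul_inv_cancel_right]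
      exact Subgroup.zpow_mem_zpowers _ i⟩
    have hsub : ((Subgroup.zpowers (u : N)).map N.subtype).IsSubnormal :=
      (hZn.isSubnormal.trans (Subgroup.zpowers_le.2 u.2) hWn.isSubnormal).trans' hN.isSubnormal
    have h1 := Cfsg.Agent.Lib.Components.le_pCore_of_subnormal (p := 2) hsub
      ((IsPGroup.of_card (n := 1) (by rw [Nat.card_zpowers, hu, pow_one])).map _)
    rw [hO2 _ inferInstance (Cfsg.Agent.Lib.Components.pCore_isPGroup 2), le_bot_iff,
      Subgroup.map_eq_bot_iff_of_injective _ N.subtype_injective, Subgroup.zpowers_eq_bot] at h1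
    exact invol_ne_one hu h1
  refine ⟨N, hN, ?_, hsimple, hnc⟩
  -- the index is odd
  rw [← Nat.not_even_iff_odd, even_iff_two_dvd, Subgroup.index_eq_card]
  intro hdvd
  let π := QuotientGroup.mk' N
  let P : Sylow 2 (G ⧸ N) := S.mapSurjective (QuotientGroup.mk'_surjective N)
  have hcyc : IsCyclic (P : Subgroup (G ⧸ N)) := by
    refine ⟨⟨⟨π (x : G), ⟨_, x.2, rfl⟩⟩, ?_⟩⟩
    rintro ⟨_, s, hs, rfl⟩
    obtain ⟨k, v, hv, e⟩ := hx ⟨s, hs⟩
    have hv1 : π (v : G) = 1 := by
      refine (QuotientGroup.eq_one_iff _).2 ?_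
      clear e
      induction hv using Subgroup.closure_induction with
      | mem t ht => exact hincl _ (by rw [Subgroup.orderOf_coe]; exact ht)
      | one => exact one_mem _
      | mul _ _ _ _ i j => exact mul_mem i j
      | inv _ _ i => exact inv_mem i
    refine Subgroup.mem_zpowers_iff.2 ⟨k, Subtype.ext ?_⟩
    have es : (s : G) = (x : G) ^ k * (v : G) := congrArg Subtype.val e
    show π (x : G) ^ k = π s
    rw [es, map_mul, map_zpow, hv1, mul_one]
  have hmin : (Nat.card (G ⧸ N)).minFac = 2 := (Nat.minFac_eq_two_iff _).2 hdvd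
  have hle := IsCyclic.normalizer_le_centralizer hmin hcyc
  obtain ⟨p, hp⟩ : ∃ p : (P : Subgroup (G ⧸ N)), p ≠ 1 := by
    have : Nontrivial (P : Subgroup (G ⧸ N)) := by
      rw [← Finite.one_lt_card_iff_nontrivial]
      exact lt_of_lt_of_le (by norm_num : 1 < 2) (Nat.le_of_dvd Nat.card_pos
        (by simpa using P.pow_dvd_card_of_pow_dvd_card (n := 1) (by simpa using hdvd)))
    exact exists_ne 1
  have hker := MonoidHom.ker_transferSylow_isComplement' P hle
  obtain ⟨H, hH⟩ := exists_index_two_of_hom P.2 (MonoidHom.transferSylow P hle)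
    (g := (p : G ⧸ N)) (fun h => hp (Subtype.ext (Subgroup.mem_bot.1
      (hker.disjoint.le_bot ⟨h, p.2⟩))))
  exact hG (H.comap π) (by
    rw [Subgroup.index_comap_of_surjective _ (QuotientGroup.mk'_surjective N), hH])

/-- Let G be a finite group with quasi-dihedral or wreathed Sylow 2-subgroups and no subgroup of index 2. Then G/O(G), the quotient by the largest normal subgroup of odd order, has a normal subgroup of odd index which is a non-abelian simple group. -/
theorem result {G : Type*} [Group G] [Finite G] (S : Sylow 2 G) (hS : Cfsg.IsQuasiDihedral (S : Subgroup G) ∨ Cfsg.IsWreathed (S : Subgroup G)) (hG : ∀ H : Subgroup G, H.index ≠ 2) : ∃ L : Subgroup (G ⧸ Cfsg.oddCore G), L.Normal ∧ Odd L.index ∧ IsSimpleGroup L ∧ ¬ IsMulCommutative L := by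
  have : Fact (Nat.Prime 2) := ⟨Nat.prime_two⟩
  set O := Cfsg.oddCore G
  let π := QuotientGroup.mk' O
  have hbot : (S : Subgroup G) ⊓ O = ⊥ := disjoint_iff.1 (Subgroup.disjoint_of_coprime_natCard (by
    obtain ⟨k, hk⟩ := IsPGroup.iff_card.1 S.2
    rw [hk]
    exact (Nat.coprime_two_left.2 (Cfsg.Agent.Lib.Cores.odd_card_oddCore G)).pow_left k))
  let e : (S : Subgroup G) ≃* ↥((S : Subgroup G).map π) :=
    MulEquiv.ofBijective (π.subgroupMap (S : Subgroup G))
      ⟨(injective_iff_map_eq_one _).2 fun s hs => Subtype.ext (Subgroup.mem_bot.1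
        (hbot.le ⟨s.2, (QuotientGroup.eq_one_iff _).1 (congrArg Subtype.val hs :)⟩)),
        π.subgroupMap_surjective _⟩
  exact core (Cfsg.Agent.Lib.Cores.pPrimeCore_quotient_pPrimeCore 2 G)
    (S.mapSurjective (QuotientGroup.mk'_surjective O)) (shape_congr e hS) fun H hH =>
      hG (H.comap π) (by
        rw [Subgroup.index_comap_of_surjective _ (QuotientGroup.mk'_surjective O), hH])

end Cfsg.Agent.S1214
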