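import Cfsg.Statements.S1215
import Mathlib
import Cfsg.Agent.Lib.Involutions.ZStar
-- import your own Cfsg.Agent.* helpers here

set_option autoImplicit false
open Cfsg

namespace Cfsg.Agent.S1215

open Cfsg.Agent.Lib.Involutions in
/-- An element of the centre of a Sylow `2`-subgroup generating a weakly closed subgroup is alone in
its fusion class. -/
theorem alone_of_weaklyClosed {G : Type*} [Group G] [Finite G] (S : Sylow 2 G) {u : G}
    (huS : u ∈ (S : Subgroup G)) (huc : u ∈ Subgroup.centralizer ((S : Subgroup G) : Set G))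
    (hw : Cfsg.IsWeaklyClosed (Subgroup.zpowers u) (S : Subgroup G)) (g : G)
    (hg : g * u * g⁻¹ ∈ (S : Subgroup G)) : g * u * g⁻¹ = u := by
  classical
  have : Fact (Nat.Prime 2) := ⟨Nat.prime_two⟩
  have hmap : (Subgroup.zpowers u).map (MulAut.conj g).toMonoidHom = Subgroup.zpowers u := by
    refine hw.2 g ?_
    rw [MonoidHom.map_zpowers, Subgroup.zpowers_le]
    exact hg
  have hmem : g * u * g⁻¹ ∈ Subgroup.zpowers u := hmap ▸ ⟨u, Subgroup.mem_zpowers u, rfl⟩
  have hcen : (g⁻¹)⁻¹ * u * g⁻¹ ∈ Subgroup.centralizer ((S : Subgroup G) : Set G) := by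
    rw [inv_inv]; exact (Subgroup.zpowers_le.2 huc) hmem
  obtain ⟨n, hn, hne⟩ := S.conj_eq_normalizer_conj_of_mem_centralizer u g⁻¹ huc hcen
  rw [inv_inv] at hne
  obtain ⟨i, hi⟩ := (mem_powers_iff_mem_zpowers.2 hmem)
  have hi' : n⁻¹ * u * n = u ^ i := hne ▸ hi.symm
  have hiter : ∀ j : ℕ, (n ^ j)⁻¹ * u * n ^ j = u ^ (i ^ j) := by
    intro j
    induction j with
    | zero => simp
    | succ j ih =>
      have e1 : (n ^ (j + 1))⁻¹ * u * n ^ (j + 1) = n⁻¹ * ((n ^ j)⁻¹ * u * n ^ j) * n := by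
        rw [pow_succ, mul_inv_rev]; simp only [mul_assoc]
      rw [e1, ih, pow_succ', pow_mul, ← hi']
      have := conj_pow (i := i ^ j) (a := n⁻¹) (b := u)
      rw [inv_inv] at this
      exact this.symm
  set N := Subgroup.normalizer ((S : Subgroup G) : Set G)
  have hSN : (S : Subgroup G) ≤ N := Subgroup.le_normalizer
  haveI : ((S : Subgroup G).subgroupOf N).Normal := Subgroup.normal_subgroupOf_iff_le_normalizer hSN |>.2 le_rfl
  set m := ((S : Subgroup G).subgroupOf N).index with hm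
  have hmodd : Odd m := by
    refine Nat.not_even_iff_odd.1 fun h => S.not_dvd_index ?_
    exact (even_iff_two_dvd.1 h).trans (Subgroup.relIndex_dvd_index_of_le hSN)
  have hnm : n ^ m ∈ (S : Subgroup G) :=
    ((S : Subgroup G).subgroupOf N).pow_index_mem ⟨n, hn⟩
  have hfix : u ^ (i ^ m) = u := by
    rw [← hiter m, mul_assoc, (Subgroup.mem_centralizer_iff.1 huc _ hnm).symm, inv_mul_cancel_left]
  obtain ⟨k, hk⟩ := IsPGroup.iff_orderOf.1 S.2 (⟨u, huS⟩ : (S : Subgroup G))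
  rw [Subgroup.orderOf_mk] at hk
  haveI : NeZero (2 ^ k) := ⟨pow_ne_zero _ two_ne_zero⟩
  have h1 : ((i : ZMod (2 ^ k))) ^ m = 1 := by
    have := pow_eq_pow_iff_modEq.1 (hfix.trans (pow_one u).symm)
    rw [hk, ← ZMod.natCast_eq_natCast_iff] at this
    simpa using this
  obtain ⟨v, hv⟩ : IsUnit (i : ZMod (2 ^ k)) := IsUnit.of_pow_eq_one h1 hmodd.pos.ne'
  have hv1 : v = 1 := by
    rw [← orderOf_eq_one_iff]
    have h2 : orderOf v ∣ m := orderOf_dvd_of_pow_eq_one (Units.ext (by simp [hv, h1]))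
    rcases Nat.eq_zero_or_pos k with hk0 | hk0
    · have := orderOf_dvd_natCard v
      have htot : (2 ^ k).totient = 1 := by rw [hk0, pow_zero, Nat.totient_one]
      rw [Nat.card_eq_fintype_card, ZMod.card_units_eq_totient, htot] at this
      exact Nat.dvd_one.1 this
    · have h3 : orderOf v ∣ 2 ^ (k - 1) := by
        have := orderOf_dvd_natCard v
        rwa [Nat.card_eq_fintype_card, ZMod.card_units_eq_totient, Nat.totient_prime_pow Nat.prime_two hk0,
          Nat.add_one_sub_one, mul_one] at this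
      exact Nat.eq_one_of_dvd_coprimes (Nat.Coprime.pow_left _ (Nat.coprime_two_left.2 hmodd)) h3 h2
  rw [hne, hi']
  have h4 : (i : ZMod (2 ^ k)) = ((1 : ℕ) : ZMod (2 ^ k)) := by rw [← hv, hv1]; simp
  rw [ZMod.natCast_eq_natCast_iff, ← hk] at h4
  exact (pow_eq_pow_iff_modEq.2 h4).trans (pow_one u)
/-- Let H be a finite group with quasi-dihedral or wreathed Sylow 2-subgroup S such that H has a normal subgroup K of index a power of 2 with no subgroup of index 2 and with generalized quaternion Sylow 2-subgroups, and such that every subgroup of Z(S) is weakly closed in S with respect to H. Then H = O(H) C_H(Z(S)): every element of H is the product of an element of the largest normal odd-order subgroup and an element centralizing Z(S). -/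
theorem result {H : Type*} [Group H] [Finite H] (S : Sylow 2 H) (hS : Cfsg.IsQuasiDihedral (S : Subgroup H) ∨ Cfsg.IsWreathed (S : Subgroup H)) (hQ : (∃ K : Subgroup H, K.Normal ∧ (∃ a : ℕ, K.index = 2 ^ a) ∧ (∀ M : Subgroup ↥K, M.index ≠ 2) ∧ (∀ P : Sylow 2 ↥K, ∃ m : ℕ, 1 ≤ m ∧ Nonempty ((P : Subgroup ↥K) ≃* QuaternionGroup (2 ^ m)))) ∧ (∀ Z₀ : Subgroup H, Z₀ ≤ ((Subgroup.center (S : Subgroup H)).map (S : Subgroup H).subtype) → Cfsg.IsWeaklyClosed Z₀ (S : Subgroup H))) (h : H) : ∃ o ∈ Cfsg.oddCore H, ∃ c ∈ Subgroup.centralizer (((Subgroup.center (S : Subgroup H)).map (S : Subgroup H).subtype : Subgroup H) : Set H), h = o * c := by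
  classical
  obtain ⟨-, hwc⟩ := hQ
  set Z := (Subgroup.center (S : Subgroup H)).map (S : Subgroup H).subtype with hZ
  set O := Cfsg.oddCore H with hO
  have hZS : Z ≤ (S : Subgroup H) := Subgroup.map_subtype_le _
  have hZc : ∀ u ∈ Z, u ∈ Subgroup.centralizer ((S : Subgroup H) : Set H) := by
    rintro _ ⟨a, ha, rfl⟩
    exact Subgroup.mem_centralizer_iff.2 fun s hs =>
      congrArg Subtype.val (Subgroup.mem_center_iff.1 ha ⟨s, hs⟩)
  have halone : ∀ u ∈ Z, ∀ (m : ℕ) (g : H), g * u ^ m * g⁻¹ ∈ (S : Subgroup H) →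
      g * u ^ m * g⁻¹ = u ^ m := fun u hu m g hg =>
    alone_of_weaklyClosed S (pow_mem (hZS hu) m) (pow_mem (hZc u hu) m)
      (hwc _ (Subgroup.zpowers_le.2 (pow_mem hu m))) g hg
  have hcomm : ∀ u ∈ Z, ∀ g : H, g * u * g⁻¹ * u⁻¹ ∈ O := fun u hu g =>
    Cfsg.Agent.Lib.Involutions.central_mod_core_of_alone S (hZS hu) (halone u hu) g
  -- `Z` is a Sylow 2-subgroup of `Z ⊔ O`
  have : Fact (Nat.Prime 2) := ⟨Nat.prime_two⟩
  set K := Z ⊔ O with hK
  have hZp : IsPGroup 2 Z := S.2.to_le hZS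
  have hnd : ¬ 2 ∣ (Z.subgroupOf K).index := by
    intro h2
    have h3 : Z.relIndex K ∣ Nat.card O := by
      have e1 : Nat.card Z * Z.relIndex K = Nat.card K := by
        rw [← Subgroup.relIndex_bot_left, ← Subgroup.relIndex_bot_left]
        exact Subgroup.relIndex_mul_relIndex _ _ _ bot_le le_sup_left
      have e2 : Nat.card O * O.relIndex K = Nat.card K := by
        rw [← Subgroup.relIndex_bot_left, ← Subgroup.relIndex_bot_left]
        exact Subgroup.relIndex_mul_relIndex _ _ _ bot_le le_sup_right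
      have e3 : O.relIndex K ∣ Nat.card Z := by
        rw [hK, sup_comm, Subgroup.relIndex_sup_left]
        exact Subgroup.relIndex_dvd_card _ _
      have e4 : Nat.card Z * Z.relIndex K ∣ Nat.card Z * Nat.card O := by
        rw [e1, ← e2, mul_comm (Nat.card Z)]
        exact mul_dvd_mul_left _ e3
      exact Nat.dvd_of_mul_dvd_mul_left Nat.card_pos e4
    exact (Nat.not_even_iff_odd.2 (Cfsg.Agent.Lib.Cores.odd_card_oddCore H))
      (even_iff_two_dvd.2 (h2.trans h3))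
  let P : Sylow 2 K := IsPGroup.toSylow (hZp.comap_subtype) hnd
  set Z' := Z.map (MulAut.conj h).toMonoidHom with hZ'
  have hZ'K : Z' ≤ K := by
    rintro _ ⟨u, hu, rfl⟩
    have := mul_mem (Subgroup.mem_sup_right (S := Z) (hcomm u hu h)) (Subgroup.mem_sup_left (T := O) hu)
    rwa [inv_mul_cancel_right] at this
  obtain ⟨Q, hQ⟩ := ((hZp.map _).comap_subtype (K := K) : IsPGroup 2 (Z'.subgroupOf K)).exists_le_sylow
  obtain ⟨k, hk⟩ := MulAction.exists_smul_eq K Q P
  obtain ⟨z, hz, o, ho, hzo⟩ := Subgroup.mem_sup_of_normal_right.1 k.2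
  have hmove : ∀ u ∈ Z, o * (h * u * h⁻¹) * o⁻¹ ∈ Z := by
    intro u hu
    have h1 : (⟨h * u * h⁻¹, hZ'K ⟨u, hu, rfl⟩⟩ : K) ∈ (Q : Subgroup K) := hQ ⟨u, hu, rfl⟩
    have h2 : k * (⟨h * u * h⁻¹, hZ'K ⟨u, hu, rfl⟩⟩ : K) * k⁻¹ ∈ (P : Subgroup K) := by
      rw [← hk, Cfsg.Agent.Lib.Involutions.sylow_map_conj]
      exact ⟨_, h1, rfl⟩
    have h3 : (k : H) * (h * u * h⁻¹) * (k : H)⁻¹ ∈ Z := h2
    rw [← hzo] at h3
    have h4 := mul_mem (mul_mem (inv_mem hz) h3) hz
    rwa [show z⁻¹ * ((z * o) * (h * u * h⁻¹) * (z * o)⁻¹) * z = o * (h * u * h⁻¹) * o⁻¹ by group] at h4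
  refine ⟨o⁻¹, inv_mem ho, o * h, Subgroup.mem_centralizer_iff.2 fun u hu => ?_, by group⟩
  have hu' : u ∈ Z := hu
  have h5 : (o * h) * u * (o * h)⁻¹ * u⁻¹ ∈ O := hcomm u hu' (o * h)
  have h6 : (o * h) * u * (o * h)⁻¹ * u⁻¹ ∈ Z := by
    have := mul_mem (hmove u hu') (inv_mem hu')
    rwa [show o * (h * u * h⁻¹) * o⁻¹ = (o * h) * u * (o * h)⁻¹ by group] at this
  obtain ⟨a, ha⟩ := hZp.exists_card_eq
  have hbot : Z ⊓ O = ⊥ := Subgroup.inf_eq_bot_of_coprime (ha ▸ Nat.Coprime.pow_left _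
    (Nat.coprime_two_left.2 (Cfsg.Agent.Lib.Cores.odd_card_oddCore H)))
  have h7 := (Subgroup.eq_bot_iff_forall _).1 hbot _ ⟨h6, h5⟩
  exact ((mul_inv_eq_iff_eq_mul.1 (mul_inv_eq_one.1 h7))).symm

end Cfsg.Agent.S1215
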