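import Cfsg.Statements.S1227
import Cfsg.Agent.Lib.Involutions.Zassenhaus
-- Template for statement S1227 (row 1227; see /opt/grader/pristine/manifest.json for weights).
-- Copy to Cfsg/Agent/S1227.lean and replace the sorry. The statement below is byte-identical to the frozen
-- statement Cfsg.CfsgFrozen.S1227 (Cfsg/Statements/S1227.lean; the theorem Cfsg.elementary_involution_centralizers_normalizer_structure);
-- the grader kernel-checks Cfsg.Agent.S1227.result against that frozen type. Keep the theorem IN THIS FILE
-- (a `result` declared elsewhere and merely imported here is not credited); helpers may live anywhere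
-- under Cfsg/Agent/.
-- import your own Cfsg.Agent.* helpers here

set_option autoImplicit false
open Cfsg

namespace Cfsg.Agent.S1227

open Cfsg.Agent.Lib.Involutions

/-- Let G be a finite group with a Sylow 2-subgroup T that is neither cyclic nor normal, such that the centralizer of every involution is an elementary abelian 2-group; put H = N_G(T), let u be an involution outside H and D = H ∩ uHu⁻¹. Then u inverts every element of D, |H| = |T|·(|T| − 1), and D is a complement to T in H. -/
theorem result {G : Type*} [Group G] [Finite G] (T : Sylow 2 G) (hnc : ¬ IsCyclic (T : Subgroup G)) (hnn : ¬ (T : Subgroup G).Normal) (hC : ∀ t : G, orderOf t = 2 → IsMulCommutative (Subgroup.centralizer ({t} : Set G)) ∧ ∀ c ∈ Subgroup.centralizer ({t} : Set G), c ^ 2 = 1) (u : G) (hu : orderOf u = 2) (huH : u ∉ Subgroup.normalizer ((T : Subgroup G) : Set G)) : (∀ d ∈ Subgroup.normalizer ((T : Subgroup G) : Set G) ⊓ (Subgroup.normalizer ((T : Subgroup G) : Set G)).map (MulAut.conj u).toMonoidHom, u * d * u⁻¹ = d⁻¹) ∧ Nat.card (Subgroup.normalizer ((T : Subgroup G) : Set G))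 = Nat.card T * (Nat.card T - 1) ∧ Subgroup.IsComplement' ((Subgroup.normalizer ((T : Subgroup G) : Set G) ⊓ (Subgroup.normalizer ((T : Subgroup G) : Set G)).map (MulAut.conj u).toMonoidHom).subgroupOf (Subgroup.normalizer ((T : Subgroup G) : Set G))) ((T : Subgroup G).subgroupOf (Subgroup.normalizer ((T : Subgroup G) : Set G))) := by
  set h : ElemCentralizers G := ⟨T, hnc, hnn, hC⟩ with hh
  set y : G ⧸ h.H := QuotientGroup.mk u with hy
  have hyne : y ≠ h.pt := by
    rw [hy, ElemCentralizers.pt, Ne, QuotientGroup.eq, mul_one]
    exact fun hm => huH (inv_mem_iff.1 hm)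
  have hmov : u ∈ involMoving h.pt y := ⟨hu, by
    rw [hy, ElemCentralizers.pt, MulAction.Quotient.smul_mk, smul_eq_mul, mul_one]⟩
  have hD : Subgroup.normalizer ((T : Subgroup G) : Set G) ⊓
      (Subgroup.normalizer ((T : Subgroup G) : Set G)).map (MulAut.conj u).toMonoidHom =
      h.two h.pt y := by
    ext d
    exact mem_inf_conj_iff.trans h.mem_two.symm
  rw [hD]
  refine ⟨fun d hd => h.inverts hyne.symm hmov hd, h.card_H hyne, ?_⟩
  have hle : h.two h.pt y ≤ Subgroup.normalizer ((T : Subgroup G) : Set G) := fun d hd =>
    h.smul_pt_iff.1 hd.1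
  refine Subgroup.isComplement'_of_card_mul_and_disjoint ?_ ?_
  · rw [Nat.card_congr (Subgroup.subgroupOfEquivOfLe hle).toEquiv,
      Nat.card_congr (Subgroup.subgroupOfEquivOfLe (Subgroup.le_normalizer (H := (T : Subgroup G)))).toEquiv,
      h.card_two_pt hyne, show Nat.card ↥(Subgroup.normalizer ((T : Subgroup G) : Set G)) = _ from
        h.card_H hyne, mul_comm]
  · rw [Subgroup.disjoint_def]
    intro x hx hxT
    exact Subtype.ext (h.two_inf_T hyne hx hxT)

end Cfsg.Agent.S1227
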