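import Cfsg.Statements.S1228
import Cfsg.Agent.Lib.Involutions.Zassenhaus
-- Template for statement S1228 (row 1228; see /opt/grader/pristine/manifest.json for weights).
-- Copy to Cfsg/Agent/S1228.lean and replace the sorry. The statement below is byte-identical to the frozen
-- statement Cfsg.CfsgFrozen.S1228 (Cfsg/Statements/S1228.lean; the theorem Cfsg.elementary_involution_centralizers_two_point_stabilizer);
-- the grader kernel-checks Cfsg.Agent.S1228.result against that frozen type. Keep the theorem IN THIS FILE
-- (a `result` declared elsewhere and merely imported here is not credited); helpers may live anywhere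
-- under Cfsg/Agent/.
-- import your own Cfsg.Agent.* helpers here

set_option autoImplicit false
open Cfsg

namespace Cfsg.Agent.S1228

open Cfsg.Agent.Lib.Involutions

/-- Let G be a finite group with a Sylow 2-subgroup T that is neither cyclic nor normal, such that the centralizer of every involution is an elementary abelian 2-group; put H = N_G(T), let u be an involution outside H and D = H ∩ uHu⁻¹. Then N_G(D) = D ⊔ ⟨u⟩, and a coset gH is fixed by every element of D exactly when gH = H or gH = uH. -/
theorem result {G : Type*} [Group G] [Finite G] (T : Sylow 2 G) (hnc : ¬ IsCyclic (T : Subgroup G)) (hnn : ¬ (T : Subgroup G).Normal) (hC : ∀ t : G, orderOf t = 2 → IsMulCommutative (Subgroup.centralizer ({t} : Set G)) ∧ ∀ c ∈ Subgroup.centralizer ({t} : Set G), c ^ 2 = 1) (u : G) (hu : orderOf u = 2) (huH : u ∉ Subgroup.normalizer ((T : Subgroup G) : Set G)) : Subgroup.normalizer ((Subgroup.normalizer ((T : Subgroup G) : Set G) ⊓ (Subgroup.normalizer ((T : Subgroup G) : Set G)).map (MulAut.conj u).toMonoidHom : Subgroup G) : Set G) = (Subgroup.normalizer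 ((T : Subgroup G) : Set G) ⊓ (Subgroup.normalizer ((T : Subgroup G) : Set G)).map (MulAut.conj u).toMonoidHom) ⊔ Subgroup.zpowers u ∧ ∀ g : G, ((∀ d ∈ Subgroup.normalizer ((T : Subgroup G) : Set G) ⊓ (Subgroup.normalizer ((T : Subgroup G) : Set G)).map (MulAut.conj u).toMonoidHom, d • (QuotientGroup.mk g : G ⧸ Subgroup.normalizer ((T : Subgroup G) : Set G)) = QuotientGroup.mk g) ↔ (QuotientGroup.mk g : G ⧸ Subgroup.normalizer ((T : Subgroup G) : Set G)) = QuotientGroup.mk 1 ∨ (QuotientGroup.mk g : G ⧸ Subgroup.normalizer ((T : Subgroup G) : Set G)) = QuotientGroup.mk u) := by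
  set h : ElemCentralizers G := ⟨T, hnc, hnn, hC⟩ with hh
  set y : G ⧸ h.H := QuotientGroup.mk u with hy
  have hyne : y ≠ h.pt := by
    rw [hy, ElemCentralizers.pt, Ne, QuotientGroup.eq, mul_one]
    exact fun hm => huH (inv_mem_iff.1 hm)
  have hmov : u ∈ involMoving h.pt y := ⟨hu, by
    rw [hy, ElemCentralizers.pt, MulAction.Quotient.smul_mk, smul_eq_mul, mul_one]⟩
  have hD : Subgroup.normalizer ((T : Subgroup G) : Set G) ⊓
      (Subgroup.normalizer ((T : Subgroup G) : Set G)).map (MulAut.conj u).toMonoidHom =
      h.two h.pt y := by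
    ext d
    exact mem_inf_conj_iff.trans h.mem_two.symm
  rw [hD]
  have huy : u • y = h.pt := by
    rw [← hmov.2, ← mul_smul, invol_mul_self hu, one_smul]
  refine ⟨le_antisymm (fun n hn => ?_) (sup_le Subgroup.le_normalizer ?_), fun g => ?_⟩
  · have hpts : ∀ z : G ⧸ h.H, (∀ d ∈ h.two h.pt y, d • z = z) →
        (∀ d ∈ h.two h.pt y, d • n • z = n • z) := by
      intro z hz d hd
      have := hz _ ((Subgroup.mem_normalizer_iff''.1 hn d).1 hd)
      rw [mul_smul, mul_smul, inv_smul_eq_iff] at this
      exact this
    have h1 := h.fixed_two hyne (hpts h.pt fun d hd => hd.1)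
    have h2 := h.fixed_two hyne (hpts y fun d hd => hd.2)
    rcases h1 with h1 | h1 <;> rcases h2 with h2 | h2
    · exact absurd (smul_left_cancel n (h2.trans h1.symm)) hyne
    · exact Subgroup.mem_sup_left (h.mem_two.2 ⟨h1, h2⟩)
    · rw [show n = u * (u * n) by rw [← mul_assoc, invol_mul_self hu, one_mul]]
      refine mul_mem (Subgroup.mem_sup_right (Subgroup.mem_zpowers u))
        (Subgroup.mem_sup_left (h.mem_two.2 ⟨?_, ?_⟩))
      · rw [mul_smul, h1, huy]
      · rw [mul_smul, h2, hmov.2]
    · exact absurd (smul_left_cancel n (h2.trans h1.symm)) hyne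
  · rw [Subgroup.zpowers_le, Subgroup.mem_normalizer_iff]
    intro d
    constructor
    · intro hd
      rw [h.inverts hyne.symm hmov hd]
      exact inv_mem hd
    · intro hd
      have := h.inverts hyne.symm hmov hd
      have hdd : u * (u * d * u⁻¹) * u⁻¹ = d := by
        rw [invol_inv hu]
        calc u * (u * d * u) * u = (u * u) * d * (u * u) := by group
          _ = d := by rw [invol_mul_self hu, one_mul, mul_one]
      rw [hdd] at this
      rw [this]
      exact inv_mem hd
  · show _ ↔ (QuotientGroup.mk g : G ⧸ h.H) = h.pt ∨ (QuotientGroup.mk g : G ⧸ h.H) = y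
    refine ⟨fun hg => h.fixed_two hyne hg, ?_⟩
    rintro (e | e) d hd <;> show d • (QuotientGroup.mk g : G ⧸ h.H) = QuotientGroup.mk g
    · rw [e]; exact hd.1
    · rw [e]; exact hd.2

end Cfsg.Agent.S1228
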