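import Cfsg.Statements.S1229
import Cfsg.Agent.Lib.Involutions.Zassenhaus
-- Template for statement S1229 (row 1229; see /opt/grader/pristine/manifest.json for weights).
-- Copy to Cfsg/Agent/S1229.lean and replace the sorry. The statement below is byte-identical to the frozen
-- statement Cfsg.CfsgFrozen.S1229 (Cfsg/Statements/S1229.lean; the theorem Cfsg.elementary_involution_centralizers_triply_transitive);
-- the grader kernel-checks Cfsg.Agent.S1229.result against that frozen type. Keep the theorem IN THIS FILE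
-- (a `result` declared elsewhere and merely imported here is not credited); helpers may live anywhere
-- under Cfsg/Agent/.
-- import your own Cfsg.Agent.* helpers here

set_option autoImplicit false
open Cfsg

namespace Cfsg.Agent.S1229

open Cfsg.Agent.Lib.Involutions

/-- Let G be a finite group with a Sylow 2-subgroup T that is neither cyclic nor normal, such that the centralizer of every involution is an elementary abelian 2-group; put H = N_G(T) and X = G/H. Then G is triply transitive on X, an element fixing three distinct points of X is the identity, and T acts regularly on X minus the point H. -/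
theorem result {G : Type*} [Group G] [Finite G] (T : Sylow 2 G) (hnc : ¬ IsCyclic (T : Subgroup G)) (hnn : ¬ (T : Subgroup G).Normal) (hC : ∀ t : G, orderOf t = 2 → IsMulCommutative (Subgroup.centralizer ({t} : Set G)) ∧ ∀ c ∈ Subgroup.centralizer ({t} : Set G), c ^ 2 = 1) : (∀ x₁ x₂ x₃ y₁ y₂ y₃ : G ⧸ Subgroup.normalizer ((T : Subgroup G) : Set G), x₁ ≠ x₂ → x₁ ≠ x₃ → x₂ ≠ x₃ → y₁ ≠ y₂ → y₁ ≠ y₃ → y₂ ≠ y₃ → ∃ g : G, g • x₁ = y₁ ∧ g • x₂ = y₂ ∧ g • x₃ = y₃) ∧ (∀ g : G, ∀ x₁ x₂ x₃ : G ⧸ Subgroup.normalizer ((T : Subgroup G) : Set G), x₁ ≠ x₂ → x₁ ≠ x₃ → x₂ ≠ x₃ → g • x₁ = x₁ → g • x₂ = x₂ → g • x₃ = x₃ → g = 1) ∧ (∀ x y : G ⧸ Subgroup.normalizer ((T : Subgroup G) : Set G), x ≠ QuotientGroup.mk 1 → y ≠ QuotientGroup.mk 1 → ∃! t : G, t ∈ T ∧ t • x = y) := by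
  set h : ElemCentralizers G := ⟨T, hnc, hnn, hC⟩ with hh
  refine ⟨fun x₁ x₂ x₃ y₁ y₂ y₃ a b c d e f => h.triply_transitive a b c d e f,
    fun g x₁ x₂ x₃ a b c d e f => h.three_fixed a b c d e f, fun x y hx hy => ?_⟩
  obtain ⟨t, ht, hty⟩ := h.T_transitive (y := x) (q := y) hx hy
  refine ⟨t, ⟨ht, hty⟩, ?_⟩
  rintro s ⟨hs, hsy⟩
  refine (inv_mul_eq_one.1 (h.T_semiregular (mul_mem (inv_mem ht) hs) (y := x) hx ?_)).symm
  exact (mul_smul _ _ _).trans (inv_smul_eq_iff.2 (hsy.trans hty.symm))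

end Cfsg.Agent.S1229
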