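import Cfsg.Statements.S1231
import Cfsg.Agent.Lib.Involutions.StronglyEmbedded
-- Template for statement S1231 (row 1231; see /opt/grader/pristine/manifest.json for weights).
-- Copy to Cfsg/Agent/S1231.lean and replace the sorry. The statement below is byte-identical to the frozen
-- statement Cfsg.CfsgFrozen.S1231 (Cfsg/Statements/S1231.lean; the theorem Cfsg.k_generated_core_in_subgroup_iff_intersections_low_rank);
-- the grader kernel-checks Cfsg.Agent.S1231.result against that frozen type. Keep the theorem IN THIS FILE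
-- (a `result` declared elsewhere and merely imported here is not credited); helpers may live anywhere
-- under Cfsg/Agent/.
-- import your own Cfsg.Agent.* helpers here

set_option autoImplicit false
open Cfsg

namespace Cfsg.Agent.S1231

open Cfsg.Agent.Lib.Involutions

/-- Let H be a subgroup of the finite group G, p a prime, k ≥ 1, and P a Sylow p-subgroup of H whose p-rank is at least k. Then N_G(X) ≤ H for every subgroup X of P of p-rank at least k if and only if H ∩ gHg⁻¹ has p-rank less than k for every g ∉ H. -/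
theorem result {G : Type*} [Group G] [Finite G] {p : ℕ} [Fact p.Prime] (k : ℕ) (hk : 1 ≤ k) (H : Subgroup G) (P : Sylow p ↥H) (hP : ¬ Cfsg.PRankLE p (k - 1) ↥(P : Subgroup ↥H)) : (∀ X : Subgroup G, X ≤ (P : Subgroup ↥H).map H.subtype → ¬ Cfsg.PRankLE p (k - 1) ↥X → Subgroup.normalizer (X : Set G) ≤ H) ↔ (∀ g : G, g ∉ H → Cfsg.PRankLE p (k - 1) ↥(H ⊓ H.map (MulAut.conj g).toMonoidHom)) := by
  have hiso : ∀ (A B : Subgroup G), A ≤ B → Cfsg.PRankLE p (k - 1) B → Cfsg.PRankLE p (k - 1) A := by
    intro A B hAB hB E hEc hEp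
    have hinj := Subgroup.inclusion_injective hAB
    rw [← Subgroup.card_map_of_injective hinj]
    exact hB _ (Subgroup.map_isMulCommutative E _) fun b hb => by
      obtain ⟨e, he, rfl⟩ := hb
      rw [← map_pow, hEp e he, map_one]
  have hconj : ∀ (A : Subgroup G) (g : G),
      Cfsg.PRankLE p (k - 1) ↥(A.map (MulAut.conj g).toMonoidHom) → Cfsg.PRankLE p (k - 1) A := by
    intro A g hA E hEc hEp
    set e := A.equivMapOfInjective (MulAut.conj g).toMonoidHom (MulAut.conj g).injective with he
    rw [← Subgroup.card_map_of_injective (f := e.toMonoidHom) e.injective]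
    exact hA _ (Subgroup.map_isMulCommutative E _) fun b hb => by
      obtain ⟨x, hx, rfl⟩ := hb
      rw [← map_pow, hEp x hx, map_one]
  constructor
  · intro hN g hg
    by_contra hR
    obtain ⟨E, hEc, hEp, hE⟩ : ∃ E : Subgroup ↥(H ⊓ H.map (MulAut.conj g).toMonoidHom),
        IsMulCommutative E ∧ (∀ a ∈ E, a ^ p = 1) ∧ ¬ Nat.card E ≤ p ^ (k - 1) := by
      simp only [Cfsg.PRankLE] at hR
      push Not at hR ⊢
      exact hR
    set X := E.map (H ⊓ H.map (MulAut.conj g).toMonoidHom).subtype with hX
    have hXp : IsPGroup p X := by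
      rintro ⟨_, ⟨a, ha, rfl⟩⟩
      refine ⟨1, Subtype.ext ?_⟩
      show ((H ⊓ H.map (MulAut.conj g).toMonoidHom).subtype a) ^ (p ^ 1) = 1
      rw [pow_one, ← map_pow, hEp a ha, map_one]
    refine no_good_of_normalizers_le P (fun Y => ¬ Cfsg.PRankLE p (k - 1) Y)
      (fun A B h hA hB => hA (hiso A B h hB)) (fun A g hA hB => hA (hconj A g hB))
      (fun Y hY hgood => hN Y hY hgood) hg hXp (fun hle => hE ?_) (Subgroup.map_subtype_le _)
    have hinj := (H ⊓ H.map (MulAut.conj g).toMonoidHom).subtype_injective
    have hXc : IsMulCommutative (⊤ : Subgroup X) := by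
      have : IsMulCommutative X := Subgroup.map_isMulCommutative E _
      exact ⟨⟨fun a b => Subtype.ext (this.is_comm.comm a.1 b.1)⟩⟩
    have := hle ⊤ hXc (fun a _ => by
      obtain ⟨a', ha', hae⟩ := a.2
      refine Subtype.ext ?_
      show (a : G) ^ p = 1
      rw [← hae, ← map_pow, hEp a' ha', map_one])
    rwa [Subgroup.card_top, hX, Subgroup.card_map_of_injective hinj] at this
  · intro h X hXP hgood x hx
    by_contra hxH
    have hXH : X ≤ H := hXP.trans (Subgroup.map_subtype_le _)
    refine hgood (hiso X _ (le_inf hXH ?_) (h x hxH))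
    intro y hy
    rw [mem_conj_map_iff]
    exact hXH ((Subgroup.mem_set_normalizer_iff''.1 hx y).1 hy)

end Cfsg.Agent.S1231
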