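import Cfsg.Statements.S1236
import Cfsg.Agent.Lib.Involutions.Dihedral
import Cfsg.Agent.S1190
-- Template for statement S1236 (row 1236; see /opt/grader/pristine/manifest.json for weights).
-- Copy to Cfsg/Agent/S1236.lean and replace the sorry. The statement below is byte-identical to the frozen
-- statement Cfsg.CfsgFrozen.S1236 (Cfsg/Statements/S1236.lean; the theorem Cfsg.elementary_eight_self_centralizing_in_central_mod_dihedral);
-- the grader kernel-checks Cfsg.Agent.S1236.result against that frozen type. Keep the theorem IN THIS FILE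
-- (a `result` declared elsewhere and merely imported here is not credited); helpers may live anywhere
-- under Cfsg/Agent/.
-- import your own Cfsg.Agent.* helpers here

set_option autoImplicit false
open Cfsg

namespace Cfsg.Agent.S1236

open Cfsg.Agent.Lib.Involutions

/-- Let R be a finite group, t a central involution of R such that R ⧸ ⟨t⟩ is dihedral (of order ≥ 4) or quasi-dihedral, and A ≤ R an elementary abelian subgroup of order 8 containing t. Then C_R(A) = A. -/
theorem result {R : Type*} [Group R] [Finite R] (t : R) (ht : orderOf t = 2) (htz : t ∈ Subgroup.center R) [(Subgroup.zpowers t).Normal] (hq : (∃ m : ℕ, 2 ≤ m ∧ Nonempty (R ⧸ Subgroup.zpowers t ≃* DihedralGroup m)) ∨ Cfsg.IsQuasiDihedral (R ⧸ Subgroup.zpowers t)) (A : Subgroup R) (hA : Cfsg.IsElementaryAbelian 2 A) (hA8 : Nat.card A = 8) (htA : t ∈ A) : Subgroup.centralizer (A : Set R) = A := by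
  set Z := Subgroup.zpowers t with hZdef
  set π := QuotientGroup.mk' Z with hπ
  have hZA : Z ≤ A := Subgroup.zpowers_le.2 htA
  have hker : π.ker = Z := QuotientGroup.ker_mk' Z
  have hcard : Nat.card (A.map π) = 4 := by
    have h1 : Nat.card Z * Nat.card (A.map π) = Nat.card A := by
      rw [← Subgroup.relIndex_ker, hker, ← Subgroup.relIndex_bot_left Z,
        Subgroup.relIndex_mul_relIndex ⊥ Z A bot_le hZA, Subgroup.relIndex_bot_left]
    have hZc : Nat.card Z = 2 := (Nat.card_zpowers t).trans ht
    rw [hA8, hZc] at h1
    omega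
  have hK : IsKleinFour (A.map π) := by
    refine isKleinFour_of_sq hcard ?_
    rintro _ ⟨a, ha, rfl⟩
    rw [← map_mul, ← sq, hA.2 a ha, map_one]
  have hself : Subgroup.centralizer (A.map π : Set (R ⧸ Z)) = A.map π := by
    rcases hq with ⟨m, hm, ⟨e⟩⟩ | hqd
    · have : NeZero m := ⟨by omega⟩
      have hK' : IsKleinFour ((A.map π).map e.toMonoidHom) := isKleinFour_map hK _ e.injective
      refine le_antisymm (fun g hg => ?_) ?_
      · have h : e g ∈ Subgroup.centralizer
            (((A.map π).map e.toMonoidHom : Subgroup (DihedralGroup m)) : Set (DihedralGroup m)) := by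
          rintro _ ⟨a, ha, rfl⟩
          show e a * e g = e g * e a
          rw [← map_mul, ← map_mul, hg a ha]
        rw [dihedral_klein_centralizer hK'] at h
        obtain ⟨a, ha, hae⟩ := h
        exact e.injective hae ▸ ha
      · intro g hg a ha
        exact isKleinFour_comm hK ha hg
    · exact ((Cfsg.Agent.S1190.result hqd).2 _ hK).1
  refine le_antisymm (fun g hg => ?_) ?_
  · have h : π g ∈ A.map π := by
      rw [← hself]
      rintro _ ⟨a, ha, rfl⟩
      rw [← map_mul, ← map_mul, hg a ha]
    obtain ⟨a, ha, hag⟩ := h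
    have hz : a⁻¹ * g ∈ A := hZA (QuotientGroup.eq.1 hag)
    simpa using mul_mem ha hz
  · have := hA.1
    intro g hg a ha
    exact congrArg Subtype.val (this.is_comm.comm (⟨a, ha⟩ : A) ⟨g, hg⟩)

end Cfsg.Agent.S1236
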