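import Cfsg.Statements.S1237
import Cfsg.Agent.Lib.Suzuki.RankTwoCase
import Cfsg.Agent.S1141

set_option autoImplicit false
open Cfsg

namespace Cfsg.Agent.S1237

open Cfsg.Agent.Lib.Suzuki

theorem homocyclic_of_abelian {T : Type*} [CommGroup T] [Finite T] (hT : IsPGroup 2 T)
    (φ : MulAut T) (htr : InvTrans φ) (h4 : Nat.card {x : T // x * x = 1} = 4) :
    ∃ n : ℕ, 1 ≤ n ∧ Nonempty (T ≃* Multiplicative (ZMod (2 ^ n) × ZMod (2 ^ n))) := by
  classical
  haveI : Fact (Nat.Prime 2) := ⟨Nat.prime_two⟩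
  obtain ⟨ι, hι, m, hm1, ⟨e⟩⟩ := CommGroup.equiv_prod_multiplicative_zmod_of_finite T
  haveI : ∀ i, NeZero (m i) := fun i => ⟨by have := hm1 i; omega⟩
  obtain ⟨N, hN⟩ := IsPGroup.iff_card.mp hT
  have hprod : ∏ i, m i = 2 ^ N := by
    rw [← hN, Nat.card_congr e.toEquiv, Nat.card_pi]
    exact Finset.prod_congr rfl fun i _ => by
      rw [Nat.card_congr (Multiplicative.toAdd (α := ZMod (m i))), Nat.card_zmod]
  have hk : ∀ i, ∃ k, 1 ≤ k ∧ m i = 2 ^ k := fun i => by
    obtain ⟨k, -, hk⟩ := (Nat.dvd_prime_pow Nat.prime_two).mp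
      (hprod ▸ Finset.dvd_prod_of_mem m (Finset.mem_univ i))
    refine ⟨k, ?_, hk⟩
    by_contra h
    have := hm1 i
    rw [hk, show k = 0 by omega] at this
    norm_num at this
  choose k hk1 hk using hk
  let g : ∀ i, Multiplicative (ZMod (m i)) := fun i => Multiplicative.ofAdd ((2 ^ (k i - 1) : ℕ) : ZMod (m i))
  have hg1 : ∀ i, g i ≠ 1 := fun i h => by
    have h' : ((2 ^ (k i - 1) : ℕ) : ZMod (m i)) = 0 := congrArg Multiplicative.toAdd h
    rw [ZMod.natCast_eq_zero_iff, hk, Nat.pow_dvd_pow_iff_le_right (by norm_num)] at h'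
    have := hk1 i
    omega
  have hg2 : ∀ i, g i * g i = 1 := fun i => by
    show Multiplicative.ofAdd (((2 ^ (k i - 1) : ℕ) : ZMod (m i)) + ((2 ^ (k i - 1) : ℕ) : ZMod (m i))) = 1
    rw [← Nat.cast_add, ← two_mul, ← pow_succ', Nat.sub_add_cancel (hk1 i), ← hk i, ZMod.natCast_self]
    rfl
  let tup : (ι → Bool) → {x : T // x * x = 1} := fun b =>
    ⟨e.symm fun i => if b i then g i else 1, by
      rw [← map_mul]
      convert map_one e.symm using 2
      funext i
      simp only [Pi.mul_apply, Pi.one_apply]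
      split_ifs
      · exact hg2 i
      · exact one_mul 1⟩
  have htup : Function.Injective tup := by
    intro b b' h
    have h' := congrFun (e.symm.injective (congrArg Subtype.val h))
    funext i
    have := h' i
    cases hb : b i <;> cases hb' : b' i <;> simp [hb, hb'] at this ⊢
    · exact hg1 i this.symm
    · exact hg1 i this
  have hcard := Nat.card_le_card_of_injective tup htup
  have hι2 : Fintype.card ι ≤ 2 := by
    rw [h4, Nat.card_fun, Nat.card_eq_fintype_card (α := ι), show Nat.card Bool = 2 by simp] at hcard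
    exact (Nat.pow_le_pow_iff_right (by norm_num : 1 < 2)).mp (by simpa using hcard)
  have hι2' : Fintype.card ι = 2 := by
    by_contra hne
    have hcyc : IsCyclic T := by
      rcases (show Fintype.card ι = 0 ∨ Fintype.card ι = 1 by omega) with h0 | h1
      · haveI : IsEmpty ι := Fintype.card_eq_zero_iff.mp h0
        haveI : Subsingleton T := e.toEquiv.subsingleton
        exact isCyclic_of_subsingleton
      · obtain ⟨i, hi⟩ := Fintype.card_eq_one_iff.mp h1
        refine ⟨e.symm (fun j => Multiplicative.ofAdd 1), fun x => ?_⟩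
        refine Subgroup.mem_zpowers_iff.mpr ⟨((e x i).toAdd.val : ℤ), ?_⟩
        apply e.injective
        rw [zpow_natCast, map_pow, e.apply_symm_apply]
        funext j
        obtain rfl : j = i := hi j
        rw [Pi.pow_apply, ← ofAdd_nsmul, nsmul_one, ZMod.natCast_zmod_val]
        rfl
    haveI := Fintype.ofFinite T
    have h := IsCyclic.card_pow_eq_one_le (α := T) (n := 2) (by norm_num)
    rw [show Nat.card {x : T // x * x = 1} = (Finset.univ.filter fun x : T => x ^ 2 = 1).card by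
      rw [Nat.card_eq_fintype_card, Fintype.card_subtype]
      simp only [pow_two]] at h4
    omega
  obtain ⟨i, j, hij, huniv⟩ : ∃ i j : ι, i ≠ j ∧ ∀ l, l = i ∨ l = j := by
    obtain ⟨i, j, hij, h⟩ := Finset.card_eq_two.mp (Finset.card_univ.trans hι2')
    exact ⟨i, j, hij, fun l => by have := h ▸ Finset.mem_univ l; simpa using this⟩
  have hle : ∀ i j : ι, k j ≤ k i := by
    intro i j
    by_contra hlt
    have hij' : i ≠ j := fun h => hlt (h ▸ le_rfl)
    obtain ⟨l, hl⟩ := htr (e.symm (Pi.mulSingle j (g j))) (e.symm (Pi.mulSingle i (g i)))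
      (fun h => hg1 j (by simpa using congrFun (e.symm.injective (h.trans (map_one e.symm).symm)) j))
      (by rw [← map_mul, ← Pi.mulSingle_mul, hg2, Pi.mulSingle_one, map_one])
      (fun h => hg1 i (by simpa using congrFun (e.symm.injective (h.trans (map_one e.symm).symm)) i))
      (by rw [← map_mul, ← Pi.mulSingle_mul, hg2, Pi.mulSingle_one, map_one])
    have hpow : Pi.mulSingle j (g j) =
        (Pi.mulSingle j (Multiplicative.ofAdd (1 : ZMod (m j))) : ∀ l, Multiplicative (ZMod (m l))) ^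
          2 ^ (k j - 1) := by
      rw [← Pi.mulSingle_pow, ← ofAdd_nsmul, nsmul_one]
    rw [hpow, map_pow, map_pow] at hl
    set w := (φ ^ l) (e.symm (Pi.mulSingle j (Multiplicative.ofAdd (1 : ZMod (m j)))))
    have h' := congrFun (congrArg e hl) i
    rw [map_pow, e.apply_symm_apply, Pi.pow_apply, Pi.mulSingle_eq_same] at h'
    refine hg1 i (h'.symm.trans ?_)
    refine orderOf_dvd_iff_pow_eq_one.mp (orderOf_dvd_natCard _ |>.trans ?_)
    rw [Nat.card_congr (Multiplicative.toAdd (α := ZMod (m i))), Nat.card_zmod, hk i]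
    exact pow_dvd_pow 2 (by omega)
  have hmi : ∀ l, m l = 2 ^ k i := fun l => by rw [hk l, le_antisymm (hle i l) (hle l i)]
  let ε : ∀ l, ZMod (m l) ≃+* ZMod (2 ^ k i) := fun l => ZMod.ringEquivCongr (hmi l)
  let F₂ : (∀ l, Multiplicative (ZMod (m l))) →* Multiplicative (ZMod (2 ^ k i) × ZMod (2 ^ k i)) :=
    MonoidHom.mk' (fun f => Multiplicative.ofAdd (ε i (f i).toAdd, ε j (f j).toAdd)) fun f f' => by
      simp [toAdd_mul, ← ofAdd_add]
  have hF₂ : Function.Injective F₂ := by
    intro f f' h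
    have h' : (ε i (f i).toAdd, ε j (f j).toAdd) = (ε i (f' i).toAdd, ε j (f' j).toAdd) :=
      congrArg Multiplicative.toAdd h
    rw [Prod.mk.injEq] at h'
    funext l
    rcases huniv l with rfl | rfl
    · exact Multiplicative.toAdd.injective ((ε _).injective h'.1)
    · exact Multiplicative.toAdd.injective ((ε _).injective h'.2)
  have hbij : Function.Bijective F₂ := (Nat.bijective_iff_injective_and_card F₂).mpr ⟨hF₂, by
    rw [Nat.card_congr Multiplicative.toAdd, Nat.card_prod, Nat.card_zmod, ← Nat.card_congr e.toEquiv,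
      hN, ← hprod, show (Finset.univ : Finset ι) = {i, j} by ext l; simpa using huniv l,
      Finset.prod_pair hij, hmi, hmi]⟩
  exact ⟨k i, hk1 i, ⟨e.trans (MulEquiv.ofBijective F₂ hbij)⟩⟩


/-- Let T be a finite 2-group of 2-rank exactly 2 (it has a Klein four-subgroup but no elementary abelian subgroup of order 8) admitting an automorphism φ such that any two involutions of T are carried to one another by a power of φ. Then T ≅ Z_{2^n} × Z_{2^n} for some n ≥ 1, or T is isomorphic to a Sylow 2-subgroup of PSU(3) over the field with 16 elements. -/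
theorem result {T : Type*} [Group T] [Finite T] (hT : IsPGroup 2 T) (h2 : Cfsg.PRankLE 2 2 T) (h1 : ¬ Cfsg.PRankLE 2 1 T) (φ : MulAut T) (htrans : ∀ s t : T, orderOf s = 2 → orderOf t = 2 → ∃ k : ℕ, (φ ^ k) s = t) {F : Type*} [Field F] [Fintype F] (hF : Fintype.card F = 16) (P : Sylow 2 (Cfsg.PSU 3 F 4)) : (∃ n : ℕ, 1 ≤ n ∧ Nonempty (T ≃* Multiplicative (ZMod (2 ^ n) × ZMod (2 ^ n)))) ∨ Nonempty (T ≃* (P : Subgroup (Cfsg.PSU 3 F 4))) := by
  classical
  haveI : Fact (Nat.Prime 2) := ⟨Nat.prime_two⟩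
  have hord : ∀ x : T, x ≠ 1 → x * x = 1 → orderOf x = 2 := fun x hx1 hx =>
    orderOf_eq_prime (by rw [pow_two]; exact hx) hx1
  have htr : InvTrans φ := fun x y hx1 hx hy1 hy => htrans x y (hord x hx1 hx) (hord y hy1 hy)
  have h4 : Nat.card (omega hT htr) = 4 := by
    have hle : Nat.card (omega hT htr) ≤ 2 ^ 2 := by
      refine h2 _ ⟨⟨fun a b => Subtype.ext ?_⟩⟩ (fun a ha => by rw [pow_two]; exact ha)
      exact (Subgroup.mem_center_iff.mp (invol_central hT htr a.2) b).symm
    obtain ⟨A, -, hA, hA1⟩ : ∃ A : Subgroup T, IsMulCommutative A ∧ (∀ a ∈ A, a ^ 2 = 1) ∧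
        2 ^ 1 < Nat.card A := by
      by_contra! hcon
      exact h1 hcon
    have hAO : A ≤ omega hT htr := fun a ha => by
      show a * a = 1
      rw [← pow_two]; exact hA a ha
    have := Subgroup.card_le_of_le hAO
    obtain ⟨k, hk⟩ := IsPGroup.iff_card.mp (hT.to_subgroup (omega hT htr))
    rw [hk] at hle this ⊢
    have hk2 : k ≤ 2 := (Nat.pow_le_pow_iff_right (by norm_num : 1 < 2)).mp hle
    interval_cases k <;> omega
  by_cases hc : ∀ x y : T, x * y = y * x
  · left
    letI : CommGroup T := { (inferInstance : Group T) with mul_comm := hc }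
    exact homocyclic_of_abelian hT φ htr h4
  right
  push Not at hc
  obtain ⟨d, hd, hcT⟩ := exists_smallRel hT htr hc h4
  have key : ∀ q : ℕ, q = 2 ^ 2 → ∀ P : Sylow 2 (Cfsg.PSU 3 F q),
      Cfsg.IsSuzukiTwoGroup ↥(P : Subgroup (Cfsg.PSU 3 F q)) ∧
        Nat.card (Subgroup.center ↥(P : Subgroup (Cfsg.PSU 3 F q))) = 4 := by
    rintro q rfl P
    obtain ⟨-, hc, hs⟩ := Cfsg.Agent.S1141.result (n := 2) le_rfl (by rw [hF]; norm_num) P
    exact ⟨hs, by rw [hc]; norm_num⟩
  obtain ⟨hs, hcP⟩ := key 4 (by norm_num) P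
  obtain ⟨hfin, hP2, κ, hκ⟩ := exists_invTrans hs
  haveI := hfin
  have hPne := hs.2.2.1
  have hOc : omega hP2 hκ = Subgroup.center _ := le_antisymm
    (fun x hx => invol_central hP2 hκ hx) (fun z hz => center_mul_self hP2 hκ hPne z hz)
  have hP4 : Nat.card (omega hP2 hκ) = 4 :=
    (congrArg (fun H : Subgroup ↥(P : Subgroup (Cfsg.PSU 3 F 4)) => Nat.card H) hOc).trans hcP
  obtain ⟨d', hd', hcP'⟩ := exists_smallRel hP2 hκ hPne hP4
  exact d.nonempty_mulEquiv d' hd hd' hcT hcP'

end Cfsg.Agent.S1237
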