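import Cfsg.Statements.S1239
import Mathlib
import Cfsg.Agent.Lib.Involutions.ZStar
import Cfsg.Agent.Lib.Involutions.WreathedFusion
import Cfsg.Agent.Lib.Involutions.QuasiDihedral
-- import your own Cfsg.Agent.* helpers here

set_option autoImplicit false
open Cfsg

namespace Cfsg.Agent.S1239

open Cfsg.Agent.Lib.Involutions

/-- Let X be a finite group whose Sylow 2-subgroup S is quasi-dihedral or wreathed, and suppose some involution of S is isolated in X. Then the product of the largest normal odd-order subgroup O(X) with the centre of S is normal in X. -/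
theorem result {X : Type*} [Group X] [Finite X] (S : Sylow 2 X) (hS : Cfsg.IsQuasiDihedral (S : Subgroup X) ∨ Cfsg.IsWreathed (S : Subgroup X)) (z : X) (hzS : z ∈ S) (hz : Cfsg.IsIsolatedInvolution z) : (Cfsg.oddCore X ⊔ (Subgroup.center (S : Subgroup X)).map (S : Subgroup X).subtype).Normal := by
  have : Fact (Nat.Prime 2) := ⟨Nat.prime_two⟩
  have hzc : ∀ s ∈ (S : Subgroup X), s * z = z * s := fun s hs =>
    mul_inv_eq_iff_eq_mul.1 (eq_of_conj_mem hz S.2 hzS (mul_mem (mul_mem hs hzS) (inv_mem hs)))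
  have hzcen : (⟨z, hzS⟩ : (S : Subgroup X)) ∈ Subgroup.center (S : Subgroup X) :=
    Subgroup.mem_center_iff.2 fun s => Subtype.ext (hzc s s.2)
  have hzo : orderOf (⟨z, hzS⟩ : (S : Subgroup X)) = 2 := by rw [Subgroup.orderOf_mk]; exact hz.1
  have halone : ∀ c ∈ Subgroup.center (S : Subgroup X), ∀ g : X,
      g * (c : X) * g⁻¹ ∈ (S : Subgroup X) → g * (c : X) * g⁻¹ = (c : X) := by
    rcases hS with hQD | hWR
    · obtain ⟨x, y, n, h⟩ := exists_qdGen hQD
      intro c hc g hg
      rcases (h.center_le_iff c).1 hc with e | e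
      · rw [e]; simp
      · rcases (h.center_le_iff _).1 hzcen with e' | e'
        · exact absurd e' (invol_ne_one hzo)
        · rw [show c = ⟨z, hzS⟩ from e.trans e'.symm] at hg ⊢
          exact eq_of_conj_mem hz S.2 hzS hg
    · obtain ⟨x, y, w, n, h⟩ := exists_wrGen hWR
      obtain ⟨k, hk⟩ := (h.center_iff _).1 hzcen
      have hzero : (⟨z, hzS⟩ : (S : Subgroup X)) =
          el x y (2 ^ (n - 1)) (2 ^ (n - 1)) := by
        rw [hk] at hzo ⊢
        rcases h.invol_el hzo with e | e | e
        all_goals have e' := h.el_eq_iff.1 e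
        · rw [sub_zero] at e'
          exact absurd (by simpa using dvd_sub e'.2 e'.1) h.half_not_dvd
        · rw [sub_zero] at e'
          exact absurd (by simpa using dvd_sub e'.1 e'.2) h.half_not_dvd
        · exact e
      obtain ⟨t, -, -, -, -, -, h26⟩ := WRFusion.exists_threeU S h
      have hU2 := h26.resolve_right fun h6 => by
        obtain ⟨g, hg⟩ := isConj_iff.1 (WRFusion.isConj_zc_e S h h6)
        have hze : WRFusion.eg S h (2 ^ (n - 1)) (2 ^ (n - 1)) = z :=
          (congrArg Subtype.val hzero).symm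
        rw [hze] at hg
        have h1 := eq_of_conj_mem hz S.2 hzS (g := g) (hg ▸ (el x y (2 ^ (n - 1)) 0).2)
        rw [hg, ← hze] at h1
        exact h.half_not_dvd (by simpa using (h.el_eq_iff.1 (Subtype.ext h1)).2)
      intro c hc g hg
      obtain ⟨j, rfl⟩ := (h.center_iff c).1 hc
      exact WRFusion.diag_fixed S h hU2 j hg
  have key : ∀ c ∈ (Subgroup.center (S : Subgroup X)).map (S : Subgroup X).subtype, ∀ g : X,
      g * c * g⁻¹ * c⁻¹ ∈ Cfsg.oddCore X := by
    rintro _ ⟨c, hc, rfl⟩ g
    exact central_mod_core_of_alone S c.2 (fun m g' => by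
      rw [← Subgroup.coe_pow]; exact halone _ (pow_mem hc m) g') g
  constructor
  intro w hw g
  obtain ⟨o, ho, c, hc, rfl⟩ := Subgroup.mem_sup_of_normal_left.1 hw
  rw [show g * (o * c) * g⁻¹ = (g * o * g⁻¹) * (g * c * g⁻¹ * c⁻¹) * c by group]
  exact mul_mem (Subgroup.mem_sup_left
    (mul_mem ((inferInstance : (Cfsg.oddCore X).Normal).conj_mem o ho g) (key c hc g)))
    (Subgroup.mem_sup_right hc)

end Cfsg.Agent.S1239
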