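import Cfsg.Statements.S1241
import Cfsg.Agent.Lib.Involutions.Fusion
-- Template for statement S1241 (row 1241; see /opt/grader/pristine/manifest.json for weights).
-- Copy to Cfsg/Agent/S1241.lean and replace the sorry. The statement below is byte-identical to the frozen
-- statement Cfsg.CfsgFrozen.S1241 (Cfsg/Statements/S1241.lean; the theorem Cfsg.transfer_nontrivial_on_p_element_with_controlled_powers);
-- the grader kernel-checks Cfsg.Agent.S1241.result against that frozen type. Keep the theorem IN THIS FILE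
-- (a `result` declared elsewhere and merely imported here is not credited); helpers may live anywhere
-- under Cfsg/Agent/.
-- import your own Cfsg.Agent.* helpers here

set_option autoImplicit false
open Cfsg

namespace Cfsg.Agent.S1241

open Cfsg.Agent.Lib.Involutions

/-- Let G be a finite group, p a prime, H a subgroup of index prime to p, K a subgroup of H normal in H with H/K commutative, and g ∈ H ∖ K an element of p-power order such that for all integers m and all a ∈ G with a g^m a⁻¹ ∈ H one has a g^m a⁻¹ ∈ g^m K. Then g ∉ G'. -/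
theorem result {G : Type*} [Group G] [Finite G] {p : ℕ} [Fact p.Prime] (H K : Subgroup G) (hHK : K ≤ H) (hKn : (K.subgroupOf H).Normal) (hab : ∀ x ∈ H, ∀ y ∈ H, x * y * x⁻¹ * y⁻¹ ∈ K) (hidx : Nat.Coprime p H.index) (g : G) (hgH : g ∈ H) (hgK : g ∉ K) (hgp : ∃ k : ℕ, orderOf g = p ^ k) (hctrl : ∀ (m : ℤ) (a : G), a * g ^ m * a⁻¹ ∈ H → (a * g ^ m * a⁻¹) * (g ^ m)⁻¹ ∈ K) : g ∉ commutator G := by
  have : (K.subgroupOf H).Normal := hKn
  have hcomm : IsMulCommutative (H ⧸ K.subgroupOf H) := by
    refine ⟨⟨fun a b => ?_⟩⟩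
    obtain ⟨x, rfl⟩ := QuotientGroup.mk_surjective a
    obtain ⟨y, rfl⟩ := QuotientGroup.mk_surjective b
    rw [← QuotientGroup.mk_mul, ← QuotientGroup.mk_mul, QuotientGroup.eq, Subgroup.mem_subgroupOf]
    have := hab _ (inv_mem y.2) _ (inv_mem x.2)
    simpa [mul_assoc] using this
  open scoped IsMulCommutative in
  let φ : H →* H ⧸ K.subgroupOf H := QuotientGroup.mk' _
  intro hg
  have hV : MonoidHom.transfer φ g = φ ⟨g, hgH⟩ ^ H.index := by
    refine transfer_eq_pow_of_map_eq φ ⟨g, hgH⟩ fun k g₀ hk => ?_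
    rw [← map_pow]
    refine (QuotientGroup.eq).2 (Subgroup.mem_subgroupOf.2 ?_)
    have h1 := hctrl k g₀⁻¹ (by rw [inv_inv, zpow_natCast]; exact hk)
    rw [inv_inv, zpow_natCast] at h1
    -- move the correction from the right to the left, using normality of `K` in `H`
    have hgk : g ^ k ∈ H := pow_mem hgH k
    have h2 := hKn.conj_mem ⟨_, hHK h1⟩ (Subgroup.mem_subgroupOf.2 h1) ⟨_, inv_mem hgk⟩
    rw [Subgroup.mem_subgroupOf] at h2
    have h3 := inv_mem h2
    simpa [mul_assoc] using h3
  have h1 : MonoidHom.transfer φ g = 1 := Abelianization.commutator_subset_ker _ hg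
  rw [h1] at hV
  obtain ⟨k, hk⟩ := hgp
  have hne : φ ⟨g, hgH⟩ ≠ 1 := fun h =>
    hgK (Subgroup.mem_subgroupOf.1 ((QuotientGroup.eq_one_iff _).1 h))
  have hd2 : orderOf (φ ⟨g, hgH⟩) ∣ p ^ k := by
    rw [← hk, ← Subgroup.orderOf_mk g hgH]
    exact orderOf_map_dvd φ _
  exact hne (orderOf_eq_one_iff.1 (Nat.eq_one_of_dvd_coprimes (Nat.Coprime.pow_left k hidx) hd2
    (orderOf_dvd_of_pow_eq_one hV.symm)))

end Cfsg.Agent.S1241
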