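import Cfsg.Statements.S1243
import Cfsg.Agent.Lib.Involutions.StronglyEmbedded
-- Template for statement S1243 (row 1243; see /opt/grader/pristine/manifest.json for weights).
-- Copy to Cfsg/Agent/S1243.lean and replace the sorry. The statement below is byte-identical to the frozen
-- statement Cfsg.CfsgFrozen.S1243 (Cfsg/Statements/S1243.lean; the theorem Cfsg.weakly_closed_subgroup_normalizer_controls_fusion_in_centralizer);
-- the grader kernel-checks Cfsg.Agent.S1243.result against that frozen type. Keep the theorem IN THIS FILE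
-- (a `result` declared elsewhere and merely imported here is not credited); helpers may live anywhere
-- under Cfsg/Agent/.
-- import your own Cfsg.Agent.* helpers here

set_option autoImplicit false
open Cfsg

namespace Cfsg.Agent.S1243

open Cfsg.Agent.Lib.Involutions

/-- Let T be a Sylow p-subgroup of the finite group G and W ≤ T a subgroup weakly closed in T. If d and g d g⁻¹ both centralize W, then g d g⁻¹ = h d h⁻¹ for some h ∈ N_G(W). -/
theorem result {G : Type*} [Group G] [Finite G] {p : ℕ} [Fact p.Prime] (T : Sylow p G) (W : Subgroup G) (hW : Cfsg.IsWeaklyClosed W (T : Subgroup G)) (d g : G) (hd : d ∈ Subgroup.centralizer (W : Set G)) (hgd : g * d * g⁻¹ ∈ Subgroup.centralizer (W : Set G)) : ∃ h ∈ Subgroup.normalizer (W : Set G), h * d * h⁻¹ = g * d * g⁻¹ := by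
  set C := Subgroup.centralizer ({g * d * g⁻¹} : Set G) with hC
  have hWp : IsPGroup p W := T.2.to_le hW.1
  have hWC : W ≤ C := fun w hw =>
    Subgroup.mem_centralizer_singleton_iff.2 (Subgroup.mem_centralizer_iff.1 hgd w hw)
  have hW'C : W.map (MulAut.conj g).toMonoidHom ≤ C := by
    rintro _ ⟨w, hw, rfl⟩
    rw [Subgroup.mem_centralizer_singleton_iff, MulEquiv.coe_toMonoidHom, MulAut.conj_apply,
      conj_mul, conj_mul, Subgroup.mem_centralizer_iff.1 hd w hw]
  obtain ⟨R, hR⟩ := (hWp.of_equiv (Subgroup.subgroupOfEquivOfLe hWC).symm).exists_le_sylow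
  obtain ⟨c, hcC, hc⟩ := exists_conj_le_sylow_of_le R (hWp.map _) hW'C
  obtain ⟨Q, hQ⟩ := (R.2.map C.subtype).exists_le_sylow
  obtain ⟨x, rfl⟩ := MulAction.exists_smul_eq G T Q
  rw [sylow_map_conj] at hQ
  rw [map_conj_mul] at hc
  have hback : ∀ K : Subgroup G, K ≤ (T : Subgroup G).map (MulAut.conj x).toMonoidHom →
      K.map (MulAut.conj x⁻¹).toMonoidHom ≤ T := fun K hK => by
    have h1 := Subgroup.map_mono (f := (MulAut.conj x⁻¹).toMonoidHom) hK
    rwa [map_conj_mul, inv_mul_cancel, map_conj_one] at h1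
  have h1 := hW.2 x⁻¹ (hback W (fun w hw => hQ ⟨⟨w, hWC hw⟩, hR hw, rfl⟩))
  have h2 := hback _ (hc.trans hQ)
  rw [map_conj_mul] at h2
  have h3 := hW.2 _ h2
  rw [← map_conj_mul] at h3
  refine ⟨c * g, mem_normalizer_iff_map_conj.2
    (Subgroup.map_injective (MulAut.conj x⁻¹).injective (h3.trans h1.symm)), ?_⟩
  rw [show (c * g) * d * (c * g)⁻¹ = c * (g * d * g⁻¹) * c⁻¹ by group,
    Subgroup.mem_centralizer_singleton_iff.1 hcC, mul_inv_cancel_right]

end Cfsg.Agent.S1243
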