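import Cfsg.Statements.S1244
import Mathlib
import Cfsg.Agent.Lib.Involutions.Fusion
import Cfsg.Agent.Lib.Involutions.Basic
import Cfsg.Agent.Lib.Involutions.Isolated
-- import your own Cfsg.Agent.* helpers here

set_option autoImplicit false
open Cfsg

namespace Cfsg.Agent.S1244

open Cfsg.Agent.Lib.Involutions
open scoped IsMulCommutative

theorem prod_not_mem {V : Type*} [CommGroup V] {W : Subgroup V} (hW : W.index = 2) {ι : Type*}
    (s : Finset ι) (f : ι → V) (hf : ∀ i ∈ s, f i ∉ W) :
    (∏ i ∈ s, f i) ∈ W ↔ Even s.card := by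
  classical
  induction s using Finset.induction with
  | empty => simp [one_mem]
  | insert a t ha ih =>
    rw [Finset.prod_insert ha, Subgroup.mul_mem_iff_of_index_two hW,
      Finset.card_insert_of_notMem ha, ih fun i hi => hf i (Finset.mem_insert_of_mem hi),
      Nat.even_add_one]
    exact ⟨fun h he => hf a (Finset.mem_insert_self a t) (h.2 he),
      fun h => ⟨fun hc => absurd hc (hf a (Finset.mem_insert_self a t)), fun he => absurd he h⟩⟩

/-- Let G be a finite group with no subgroup of index 2 whose Sylow 2-subgroup S is commutative, and let R ≤ S be a subgroup whose 2-rank is exactly one less than the 2-rank r of S. Then every involution of S is conjugate, by an element of N_G(S), to an element of R. -/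
theorem result {G : Type*} [Group G] [Finite G] (hG : ∀ H : Subgroup G, H.index ≠ 2) (S : Sylow 2 G) (hS : IsMulCommutative (S : Subgroup G)) (r : ℕ) (hr1 : 1 ≤ r) (hSr : Cfsg.PRankLE 2 r (S : Subgroup G) ∧ ¬ Cfsg.PRankLE 2 (r - 1) (S : Subgroup G)) (R : Subgroup G) (hRS : R ≤ S) (hRr : Cfsg.PRankLE 2 (r - 1) R ∧ (r = 1 ∨ ¬ Cfsg.PRankLE 2 (r - 2) R)) (t : G) (ht : orderOf t = 2) (htS : t ∈ S) : ∃ n ∈ Subgroup.normalizer ((S : Subgroup G) : Set G), n * t * n⁻¹ ∈ R := by
  classical
  have : Fact (Nat.Prime 2) := ⟨Nat.prime_two⟩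
  -- no nontrivial element of `S` is fixed by `N(S)`
  have hfix : ∀ s ∈ (S : Subgroup G),
      (∀ n ∈ Subgroup.normalizer ((S : Subgroup G) : Set G), n * s * n⁻¹ = s) → s = 1 := by
    intro s hs hn
    have : IsMulCommutative ↥(S : Subgroup G) := hS
    set f : G →* ↥(S : Subgroup G) := MonoidHom.transfer (MonoidHom.id ↥(S : Subgroup G)) with hf
    have htriv : f s = 1 := by
      by_contra hne
      have hnt : Nontrivial f.range := (Subgroup.nontrivial_iff_ne_bot _).2 fun h =>
        hne (Subgroup.mem_bot.1 (h.le (f.mem_range.2 ⟨s, rfl⟩)))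
      obtain ⟨k, hk⟩ := IsPGroup.iff_card.1 (S.2.to_subgroup f.range)
      have hkpos : 0 < k := Nat.pos_of_ne_zero fun h0 => by
        rw [h0, pow_zero, Nat.card_eq_one_iff_unique] at hk
        exact not_subsingleton _ hk.1
      obtain ⟨M, hM⟩ := Sylow.exists_subgroup_card_pow_prime (G := f.range) 2
        (n := k - 1) (hk ▸ pow_dvd_pow 2 (Nat.sub_le k 1))
      have hMi : M.index = 2 := by
        have h1 := M.card_mul_index
        rw [hM, hk] at h1
        exact Nat.eq_of_mul_eq_mul_left (pow_pos two_pos (k - 1))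
          (h1.trans (by rw [← pow_succ, Nat.sub_add_cancel hkpos]))
      exact hG (M.comap f.rangeRestrict)
        (by rw [Subgroup.index_comap_of_surjective _ f.rangeRestrict_surjective, hMi])
    have h1 := transfer_eq_pow_of_map_eq (MonoidHom.id ↥(S : Subgroup G)) (⟨s, hs⟩ : (S : Subgroup G))
      fun k g₀ hk => by
        apply Subtype.ext
        show g₀⁻¹ * s ^ k * g₀ = s ^ k
        obtain ⟨n, hn', hne⟩ := Sylow.conj_eq_normalizer_conj_of_mem S (s ^ k) g₀
          (pow_mem hs k) hk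
        rw [hne]
        have h2 : n⁻¹ * s * n = s := by simpa using hn n⁻¹ (inv_mem hn')
        calc n⁻¹ * s ^ k * n = (n⁻¹ * s * (n⁻¹)⁻¹) ^ k := by rw [conj_pow, inv_inv]
          _ = s ^ k := by rw [inv_inv, h2]
    rw [← hf, htriv] at h1
    have h2 : s ^ (S : Subgroup G).index = 1 := (congrArg Subtype.val h1.symm :)
    obtain ⟨j, hj⟩ := IsPGroup.iff_orderOf.1 S.2 ⟨s, hs⟩
    rw [Subgroup.orderOf_mk] at hj
    exact orderOf_eq_one_iff.1 (Nat.eq_one_of_dvd_coprimes
      (((Nat.prime_two.coprime_iff_not_dvd.2 S.not_dvd_index).pow_left j))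
      hj.dvd (orderOf_dvd_of_pow_eq_one h2))
  -- the involutions of `S` and of `R`
  have hcS : ∀ a ∈ (S : Subgroup G), ∀ b ∈ (S : Subgroup G), Commute a b := fun a ha b hb =>
    (congrArg Subtype.val (hS.is_comm.comm (⟨a, ha⟩ : (S : Subgroup G)) ⟨b, hb⟩) :)
  let V : Subgroup G :=
    { carrier := {x | x ∈ (S : Subgroup G) ∧ x * x = 1}
      one_mem' := ⟨one_mem _, one_mul _⟩
      mul_mem' := fun {a b} ha hb => ⟨mul_mem ha.1 hb.1, by
        rw [(hcS b hb.1 a ha.1).mul_mul_mul_comm, ha.2, hb.2, one_mul]⟩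
      inv_mem' := fun {a} ha => ⟨inv_mem ha.1, by rw [← mul_inv_rev, ha.2, inv_one]⟩ }
  have hmem : ∀ {x : G}, x ∈ V ↔ x ∈ (S : Subgroup G) ∧ x * x = 1 := Iff.rfl
  have : IsMulCommutative ↥V := ⟨⟨fun a b => Subtype.ext (hcS a a.2.1 b b.2.1)⟩⟩
  have htV : t ∈ V := hmem.2 ⟨htS, invol_mul_self ht⟩
  by_contra hcon
  push Not at hcon
  have hVcard : Nat.card V ≤ 2 ^ r := by
    rw [← Nat.card_congr (Subgroup.subgroupOfEquivOfLe (fun x hx => (hmem.1 hx).1 :
      V ≤ (S : Subgroup G))).toEquiv]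
    exact hSr.1 _ inferInstance fun a ha => Subtype.ext (by rw [sq]; exact (hmem.1 ha).2)
  set W := (V ⊓ R).subgroupOf V with hW
  have hWcard : 2 ^ (r - 1) ≤ Nat.card W := by
    rcases hRr.2 with h | h
    · subst h
      exact Nat.card_pos
    · simp only [Cfsg.PRankLE, not_forall, not_le] at h
      obtain ⟨B, hBc, hB2, hBcard⟩ := h
      have hB' : B.map R.subtype ≤ V ⊓ R := by
        rintro _ ⟨b, hb, rfl⟩
        exact ⟨hmem.2 ⟨hRS b.2, by have := congrArg Subtype.val (hB2 b hb); rwa [sq] at this⟩, b.2⟩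
      obtain ⟨j, hj⟩ := IsPGroup.iff_card.1 ((S.2.to_le hRS).to_subgroup B)
      have hge : 2 ^ (r - 1) ≤ Nat.card B := by
        rw [hj] at hBcard ⊢
        refine Nat.pow_le_pow_right two_pos ?_
        have := (Nat.pow_lt_pow_iff_right (by norm_num : 1 < 2)).1 hBcard
        omega
      rw [hW, Nat.card_congr (Subgroup.subgroupOfEquivOfLe inf_le_left).toEquiv]
      refine hge.trans ?_
      rw [← Subgroup.card_map_of_injective (K := B) (f := R.subtype) R.subtype_injective]
      exact Subgroup.card_le_of_le hB'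
  have htW : (⟨t, htV⟩ : V) ∉ W := fun h =>
    hcon 1 (one_mem _) (by simpa using (Subgroup.mem_subgroupOf.1 h).2)
  have hidx : W.index = 2 := by
    have h1 := W.card_mul_index
    have h2 : 2 ≤ W.index := by
      by_contra hlt
      have : W.index = 1 := by have := W.index_ne_zero_of_finite; omega
      exact htW (Subgroup.index_eq_one.1 this ▸ Subgroup.mem_top _)
    refine le_antisymm ?_ h2
    by_contra hlt
    push Not at hlt
    have h3 : 2 ^ r = 2 ^ (r - 1) * 2 := by rw [← pow_succ, Nat.sub_add_cancel hr1]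
    have h4 : 0 < 2 ^ (r - 1) := pow_pos two_pos _
    have := Nat.mul_le_mul hWcard hlt
    omega
  -- the orbit of `t` under `N(S)`
  set N := Subgroup.normalizer ((S : Subgroup G) : Set G) with hN
  let act : N →* MulAut G := MulAut.conj.comp N.subtype
  have hVn : ∀ n ∈ N, ∀ x ∈ V, n * x * n⁻¹ ∈ V := fun n hn x hx =>
    hmem.2 ⟨(Subgroup.mem_set_normalizer_iff.1 hn x).1 (hmem.1 hx).1, by
      rw [conj_mul, (hmem.1 hx).2]; group⟩
  have := Fintype.ofFinite V
  let O : Finset V := (Finset.univ : Finset V).filter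
    fun v => ∃ n ∈ N, n * t * n⁻¹ = (v : G)
  have hOW : ∀ v ∈ O, v ∉ W := by
    intro v hv hvW
    obtain ⟨n, hn, hnv⟩ := (Finset.mem_filter.1 hv).2
    exact hcon n hn (hnv ▸ (Subgroup.mem_subgroupOf.1 hvW).2)
  have hOodd : Odd O.card := by
    let : MulAction N G := MulAction.compHom G act
    have hcard : O.card = (MulAction.stabilizer N t).index := by
      rw [MulAction.index_stabilizer, ← Nat.card_eq_finsetCard, ← Nat.card_coe_set_eq]
      refine Nat.card_congr
        { toFun := fun v => ⟨((v : V) : G), by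
            obtain ⟨n, hn, hnv⟩ := (Finset.mem_filter.1 v.2).2
            exact ⟨⟨n, hn⟩, hnv⟩⟩
          invFun := fun x => ⟨⟨x, by
            obtain ⟨n, hnx⟩ := x.2
            rw [← hnx]; exact hVn n n.2 t htV⟩, Finset.mem_filter.2 ⟨Finset.mem_univ _, by
            obtain ⟨n, hnx⟩ := x.2
            exact ⟨n, n.2, hnx⟩⟩⟩
          left_inv := fun v => rfl
          right_inv := fun x => rfl }
    have hle : (S : Subgroup G).subgroupOf N ≤ MulAction.stabilizer N t := fun s hs => by
      show (s : G) * t * (s : G)⁻¹ = t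
      rw [(hcS s hs t htS).eq, mul_inv_cancel_right]
    have h2 : ¬ 2 ∣ O.card := fun h => S.not_dvd_index ((hcard ▸ h).trans
      ((Subgroup.index_dvd_of_le hle).trans
        (Subgroup.relIndex_dvd_index_of_le Subgroup.le_normalizer)))
    exact Nat.odd_iff.2 (by omega)
  have hprod : ((∏ v ∈ O, v : V) : G) = 1 := by
    refine hfix _ (hmem.1 (∏ v ∈ O, v : V).2).1 fun n hn => ?_
    let φ : V →* V :=
      { toFun := fun v => ⟨n * v * n⁻¹, hVn n hn v v.2⟩
        map_one' := Subtype.ext (by simp)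
        map_mul' := fun a b => Subtype.ext (by simp [mul_assoc]) }
    have h1 : φ (∏ v ∈ O, v) = ∏ v ∈ O, v := by
      rw [map_prod]
      refine Finset.prod_bij' (fun v _ => φ v) (fun v _ => ⟨n⁻¹ * v * (n⁻¹)⁻¹, hVn _ (inv_mem hn) v v.2⟩)
        ?_ ?_ ?_ ?_ (fun v _ => rfl)
      · intro v hv
        obtain ⟨m, hm, hmv⟩ := (Finset.mem_filter.1 hv).2
        exact Finset.mem_filter.2 ⟨Finset.mem_univ _, n * m, mul_mem hn hm, by
          rw [← conj_conj, hmv]; rfl⟩
      · intro v hv
        obtain ⟨m, hm, hmv⟩ := (Finset.mem_filter.1 hv).2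
        exact Finset.mem_filter.2 ⟨Finset.mem_univ _, n⁻¹ * m, mul_mem (inv_mem hn) hm, by
          rw [← conj_conj, hmv]⟩
      · intro v _
        refine Subtype.ext ?_
        show n⁻¹ * (n * (v : G) * n⁻¹) * (n⁻¹)⁻¹ = v
        group
      · intro v _
        refine Subtype.ext ?_
        show n * (n⁻¹ * (v : G) * (n⁻¹)⁻¹) * n⁻¹ = v
        group
    exact congrArg Subtype.val h1
  have h := (prod_not_mem hidx O (fun v => v) hOW).1 (by
    rw [show (∏ v ∈ O, v : V) = 1 from Subtype.ext hprod]; exact one_mem _)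
  exact (Nat.not_even_iff_odd.2 hOodd) h

end Cfsg.Agent.S1244
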