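import Cfsg.Statements.S1246
import Mathlib
import Cfsg.Agent.Lib.Components.Local
import Cfsg.Agent.Lib.Involutions.BaerSuzuki
-- import your own Cfsg.Agent.* helpers here

set_option autoImplicit false
open Cfsg

namespace Cfsg.Agent.S1246

open Cfsg.Agent.Lib.Components

theorem isPGroup_genFitting_congr {A B : Type*} [Group A] [Group B] {p : ℕ} (e : A ≃* B)
    (h : IsPGroup p ↥(Cfsg.generalizedFittingSubgroup A)) :
    IsPGroup p ↥(Cfsg.generalizedFittingSubgroup B) := by
  rw [← map_genFitting_mulEquiv e]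
  exact h.map _

theorem genFitting_eq_pCore {A : Type*} [Group A] [Finite A] {p : ℕ} [Fact p.Prime]
    (h : IsPGroup p ↥(Cfsg.generalizedFittingSubgroup A)) :
    Cfsg.generalizedFittingSubgroup A = Cfsg.pCore p A :=
  le_antisymm (le_pCore inferInstance h)
    ((pCore_le_fittingSubgroup p).trans fitting_le_genFitting)

theorem ext_of_normal {X : Type*} [Group X] [Finite X] {p : ℕ} [Fact p.Prime] (B : Subgroup X)
    [B.Normal] (hpow : IsPGroup p (X ⧸ B))
    (hB : IsPGroup p ↥(Cfsg.generalizedFittingSubgroup ↥B)) :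
    Cfsg.generalizedFittingSubgroup X = Cfsg.pCore p X := by
  have hB' := genFitting_eq_pCore hB
  refine genFitting_eq_pCore_of ?_ ?_
  · have hle : Cfsg.pPrimeCore p X ≤ B := by
      intro x hx
      rw [← QuotientGroup.eq_one_iff x]
      obtain ⟨k, hk⟩ := hpow (x : X ⧸ B)
      have h1 : orderOf (x : X ⧸ B) ∣ orderOf x := orderOf_map_dvd (QuotientGroup.mk' B) x
      have h2 : orderOf x ∣ Nat.card ↥(Cfsg.pPrimeCore p X) := by
        rw [← Subgroup.orderOf_mk x hx]; exact orderOf_dvd_natCard _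
      exact orderOf_eq_one_iff.1 (Nat.eq_one_of_dvd_coprimes
        ((pPrimeCore_coprime p).pow_right k) (h1.trans h2)
        (orderOf_dvd_of_pow_eq_one hk))
    have h1 : (Cfsg.pPrimeCore p X).subgroupOf B ≤ Cfsg.pPrimeCore p ↥B :=
      le_pPrimeCore inferInstance (by
        rw [Nat.card_congr (Subgroup.subgroupOfEquivOfLe hle).toEquiv]
        exact pPrimeCore_coprime p)
    rw [pPrimeCore_eq_bot_of_genFitting hB', le_bot_iff, Subgroup.subgroupOf_eq_bot,
      disjoint_iff, inf_eq_left.2 hle] at h1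
    exact h1
  · rw [layer_eq_bot_iff]
    intro K hK
    have hle : K ≤ B := by
      have h1 : K.map (QuotientGroup.mk' B) = ⊥ := by
        refine eq_bot_of_perfect_solvable (by rw [← Subgroup.map_commutator, Cfsg.Agent.Lib.Components.IsComponent.commutator_self hK]) ?_
        have := ((hpow.to_subgroup (K.map (QuotientGroup.mk' B)))).isNilpotent
        exact IsNilpotent.to_isSolvable
      intro x hx
      have h2 : QuotientGroup.mk' B x ∈ K.map (QuotientGroup.mk' B) := ⟨x, hx, rfl⟩
      rw [h1, Subgroup.mem_bot] at h2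
      exact (QuotientGroup.eq_one_iff x).1 h2
    exact layer_eq_bot_iff.1 (layer_eq_bot_of_genFitting hB') _ (Cfsg.Agent.Lib.Components.IsComponent.subgroupOf hK hle)

theorem step {G : Type*} [Group G] [Finite G] {p : ℕ} [Fact p.Prime] (M V : Subgroup G)
    (hM : IsPGroup p M) (hVM : V ≤ M) (hn : M ≤ Subgroup.normalizer (V : Set G))
    (hV : IsPGroup p ↥(Cfsg.generalizedFittingSubgroup ↥(Subgroup.centralizer (V : Set G)))) :
    IsPGroup p ↥(Cfsg.generalizedFittingSubgroup ↥(Subgroup.centralizer (M : Set G))) := by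
  set C := Subgroup.centralizer (V : Set G) with hC
  have hMC : M ≤ Subgroup.normalizer (C : Set G) :=
    hn.trans (fun g hg => Subgroup.mem_normalizer_iff.2 fun c => by
      simp only [hC, Subgroup.mem_centralizer_iff, SetLike.mem_coe]
      constructor
      · intro hc v hv
        have h1 := hc _ ((Subgroup.mem_set_normalizer_iff.1 (inv_mem hg) v).1 hv)
        rw [inv_inv] at h1
        calc v * (g * c * g⁻¹) = g * (g⁻¹ * v * g * c) * g⁻¹ := by group
          _ = g * c * g⁻¹ * v := by rw [h1]; group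
      · intro hc v hv
        have h1 := hc _ ((Subgroup.mem_set_normalizer_iff.1 hg v).1 hv)
        calc v * c = g⁻¹ * (g * v * g⁻¹ * (g * c * g⁻¹)) * g := by group
          _ = c * v := by rw [h1]; group)
  set X := C ⊔ M with hX
  have hCX : C ≤ X := le_sup_left
  have hMX : M ≤ X := le_sup_right
  have hBn : (C.subgroupOf X).Normal := by
    rw [hX, sup_comm]; exact Subgroup.normal_subgroupOf_sup_of_le_normalizer hMC
  have hpow : IsPGroup p (↥X ⧸ C.subgroupOf X) := by
    intro q
    obtain ⟨⟨x, hx⟩, rfl⟩ := QuotientGroup.mk_surjective q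
    have hx' : x ∈ ((C ⊔ M : Subgroup G) : Set G) := hx
    rw [Subgroup.coe_mul_of_right_le_normalizer_left _ _ hMC, Set.mem_mul] at hx'
    obtain ⟨c, hc, m, hm, rfl⟩ := hx'
    obtain ⟨k, hk⟩ := hM ⟨m, hm⟩
    refine ⟨k, ?_⟩
    have e : (⟨c * m, hx⟩ : X) = ⟨c, hCX hc⟩ * ⟨m, hMX hm⟩ := rfl
    rw [e, QuotientGroup.mk_mul, (QuotientGroup.eq_one_iff (⟨c, hCX hc⟩ : X)).2
      (Subgroup.mem_subgroupOf.2 hc), one_mul, ← QuotientGroup.mk_pow,
      show (⟨m, hMX hm⟩ : X) ^ p ^ k = 1 from Subtype.ext (congrArg Subtype.val hk :),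
      QuotientGroup.mk_one]
  have hF := ext_of_normal (C.subgroupOf X) hpow
    (isPGroup_genFitting_congr (Subgroup.subgroupOfEquivOfLe hCX).symm hV)
  set N := Subgroup.normalizer ((M.subgroupOf X : Subgroup X) : Set X) with hN
  have hF' : Cfsg.generalizedFittingSubgroup ↥N = Cfsg.pCore p ↥N := (genFitting_normalizer_eq_pCore hF (hM.comap_subtype (K := X))).2.2
  have hDX : Subgroup.centralizer (M : Set G) ≤ X :=
    (Subgroup.centralizer_le hVM).trans hCX
  set D := (Subgroup.centralizer (M : Set G)).subgroupOf X with hD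
  have hDN : D ≤ N := fun d hd => Subgroup.mem_normalizer_iff.2 fun m => by
    have hd' := Subgroup.mem_centralizer_iff.1 (Subgroup.mem_subgroupOf.1 hd)
    constructor
    · intro hm
      have e : ((d * m * d⁻¹ : X) : G) = m := by
        simp only [Subgroup.coe_mul, Subgroup.coe_inv]
        rw [← hd' _ (Subgroup.mem_subgroupOf.1 hm), mul_inv_cancel_right]
      exact Subgroup.mem_subgroupOf.2 (e.symm ▸ Subgroup.mem_subgroupOf.1 hm)
    · intro hm
      have h1 := hd' _ (Subgroup.mem_subgroupOf.1 hm)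
      simp only [Subgroup.coe_mul, Subgroup.coe_inv] at h1
      rw [inv_mul_cancel_right, mul_assoc (d : G) (m : G) (d : G)⁻¹] at h1
      have h2 := mul_left_cancel h1
      have e : ((d * m * d⁻¹ : X) : G) = m := by
        simp only [Subgroup.coe_mul, Subgroup.coe_inv]; rw [mul_assoc, ← h2]
      exact Subgroup.mem_subgroupOf.2 (e ▸ Subgroup.mem_subgroupOf.1 hm)
  have hDn : (D.subgroupOf N).Normal := by
    constructor
    intro d hd n
    rw [Subgroup.mem_subgroupOf, hD, Subgroup.mem_subgroupOf, Subgroup.mem_centralizer_iff] at hd ⊢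
    intro m hm
    have hn' := (Subgroup.mem_set_normalizer_iff.1 (inv_mem n.2) (⟨m, hMX hm⟩ : X)).1
      (Subgroup.mem_subgroupOf.2 hm)
    rw [SetLike.mem_coe, Subgroup.mem_subgroupOf] at hn'
    simp only [Subgroup.coe_mul, Subgroup.coe_inv, inv_inv] at hn' ⊢
    have h1 := hd _ hn'
    calc m * (((n : X) : G) * ((d : X) : G) * ((n : X) : G)⁻¹)
        = ((n : X) : G) * ((((n : X) : G)⁻¹ * m * ((n : X) : G)) * ((d : X) : G)) *
            ((n : X) : G)⁻¹ := by group
      _ = _ := by rw [h1]; group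
  refine isPGroup_genFitting_congr ((Subgroup.subgroupOfEquivOfLe hDN).trans
    (Subgroup.subgroupOfEquivOfLe hDX)) ?_
  have h1 := map_genFitting_subtype (B := D.subgroupOf N) hDn.isSubnormal
  refine IsPGroup.of_equiv ?_ ((Cfsg.generalizedFittingSubgroup ↥(D.subgroupOf N)).equivMapOfInjective
    _ (D.subgroupOf N).subtype_injective).symm
  rw [h1, hF']
  exact (pCore_isPGroup p).to_le inf_le_left

/-- Let V ≤ U be p-subgroups of the finite group G. If the generalized Fitting subgroup of C_G(V) is a p-group, then so is that of C_G(U). -/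
theorem result {G : Type*} [Group G] [Finite G] {p : ℕ} [Fact p.Prime] (U V : Subgroup G) (hVU : V ≤ U) (hU : IsPGroup p U) (hV : IsPGroup p ↥(Cfsg.generalizedFittingSubgroup ↥(Subgroup.centralizer (V : Set G)))) : IsPGroup p ↥(Cfsg.generalizedFittingSubgroup ↥(Subgroup.centralizer (U : Set G))) := by
  induction h : Nat.card U - Nat.card V using Nat.strong_induction_on generalizing V with
  | _ n ih =>
    rcases eq_or_lt_of_le hVU with rfl | hlt
    · exact hV
    obtain ⟨M, hVM, hMU, hMN⟩ := Cfsg.Agent.Lib.Involutions.exists_gt_le_normalizer hU hlt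
    refine ih (Nat.card U - Nat.card M) ?_ M hMU (step M V (hU.to_le hMU) hVM.le hMN hV) rfl
    have h1 : Nat.card V < Nat.card M := by
      by_contra hcon
      exact hVM.ne (Subgroup.eq_of_le_of_card_ge hVM.le (not_lt.1 hcon))
    have h2 := Subgroup.card_le_of_le hMU
    omega

end Cfsg.Agent.S1246
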