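import Cfsg.Statements.S1247
import Mathlib
import Cfsg.Agent.Lib.Components.Local
import Cfsg.Agent.Lib.Coprime.PxQ
import Cfsg.Agent.Lib.Cores
-- import your own Cfsg.Agent.* helpers here

set_option autoImplicit false
open Cfsg

namespace Cfsg.Agent.S1247

open Cfsg.Agent.Lib.Components

section Abstract

variable {X : Type*} [Group X] [Finite X] {p : ℕ} [hp : Fact p.Prime]

theorem commute_pCores {q r : ℕ} (hq : q.Prime) (hr : r.Prime) (hne : q ≠ r) {x y : X}
    (hx : x ∈ Cfsg.pCore q X) (hy : y ∈ Cfsg.pCore r X) : Commute x y := by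
  have : Fact q.Prime := ⟨hq⟩
  have : Fact r.Prime := ⟨hr⟩
  refine Subgroup.commute_of_normal_of_disjoint _ _ inferInstance inferInstance ?_ x y hx hy
  exact IsPGroup.disjoint_of_ne q r hne _ _ (pCore_isPGroup q) (pCore_isPGroup r)

theorem fitting_le_sup (p : ℕ) [Fact p.Prime] :
    Cfsg.fittingSubgroup X ≤
      Cfsg.pCore p X ⊔ ⨆ q : {q : ℕ // q.Prime ∧ q ≠ p}, Cfsg.pCore (q : ℕ) X := by
  refine fittingSubgroup_le_iSup_pCore.trans (iSup_le fun q => ?_)
  rcases eq_or_ne (q : ℕ) p with h | h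
  · exact h ▸ le_sup_left
  · exact le_sup_of_le_right
      (le_iSup (fun q : {q : ℕ // q.Prime ∧ q ≠ p} => Cfsg.pCore (q : ℕ) X) ⟨q, q.2, h⟩)

theorem exists_split {f : X} (hf : f ∈ Cfsg.fittingSubgroup X) :
    ∃ a b : X, a ∈ Cfsg.pCore p X ∧ a ∈ Subgroup.zpowers f ∧ f = a * b ∧
      ∀ x ∈ Cfsg.pCore p X, Commute b x := by
  have hle : Cfsg.fittingSubgroup X ≤ Cfsg.pCore p X ⊔ Cfsg.pPrimeCore p X := by
    refine (fitting_le_sup p).trans (sup_le le_sup_left (iSup_le fun q => ?_))
    have : Fact (q : ℕ).Prime := ⟨q.2.1⟩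
    refine le_sup_of_le_right (le_pPrimeCore inferInstance ?_)
    obtain ⟨n, hn⟩ := IsPGroup.iff_card.mp (pCore_isPGroup (G := X) (q : ℕ))
    rw [hn]
    exact ((Nat.coprime_primes q.2.1 hp.out).mpr q.2.2).pow_left n
  obtain ⟨a, ha, b, hb, rfl⟩ := Subgroup.mem_sup_of_normal_left.1 (hle hf)
  have hcomm : ∀ x ∈ Cfsg.pCore p X, Commute b x := fun x hx =>
    (Cfsg.Agent.Lib.Cores.commute_of_mem_pCore_of_mem_pPrimeCore hx hb).symm
  refine ⟨a, b, ha, ?_, rfl, hcomm⟩
  have hb' : (orderOf b).Coprime p :=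
    (pPrimeCore_coprime (G := X) p).coprime_dvd_left
      (by rw [← Subgroup.orderOf_mk b hb]; exact orderOf_dvd_natCard _)
  obtain ⟨k, hk⟩ := IsPGroup.iff_orderOf.1 (pCore_isPGroup (G := X) p) ⟨a, ha⟩
  rw [Subgroup.orderOf_mk] at hk
  obtain ⟨m, hm⟩ := exists_pow_eq_self_of_coprime (x := a) (n := orderOf b)
    (by rw [hk]; exact hb'.pow_right k)
  refine Subgroup.mem_zpowers_iff.2 ⟨((orderOf b * m : ℕ) : ℤ), ?_⟩
  rw [zpow_natCast, (hcomm a ha).symm.mul_pow, pow_mul b, pow_orderOf_eq_one, one_pow, mul_one,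
    pow_mul, hm]

variable {S : Subgroup X} (hSF : S ≤ Cfsg.generalizedFittingSubgroup X)
  (hSsn : (S.subgroupOf (Cfsg.generalizedFittingSubgroup X)).IsSubnormal)
  (hSC : Cfsg.generalizedFittingSubgroup X ⊓ Subgroup.centralizer (S : Set X) ≤ S)

include hSF hSsn hSC

omit hp in
theorem layer_le_S : Cfsg.layer X ≤ S := by
  rw [layer_le_iff]
  intro K hK
  have hKF : K ≤ Cfsg.generalizedFittingSubgroup X :=
    (Cfsg.Agent.Lib.Components.IsComponent.le_layer hK).trans layer_le_genFitting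
  rcases Cfsg.Agent.Lib.Components.IsComponent.le_or_commutator_eq_bot
    (Cfsg.Agent.Lib.Components.IsComponent.subgroupOf hK hKF) hSsn with h | h
  · intro x hx
    exact h (x := ⟨x, hKF hx⟩) hx
  · intro x hx
    refine hSC ⟨hKF hx, Subgroup.mem_centralizer_iff.2 fun s hs => ?_⟩
    exact (congrArg Subtype.val (commute_of_commutator_eq_bot h (a := ⟨x, hKF hx⟩)
      (b := ⟨s, hSF hs⟩) hx hs) :).symm

omit hSsn in
theorem center_pCore_le (q : ℕ) (hq : q.Prime) :
    Cfsg.pCore q X ⊓ Subgroup.centralizer (Cfsg.pCore q X : Set X) ≤ S := by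
  have : Fact q.Prime := ⟨hq⟩
  intro z hz
  have hzF : z ∈ Cfsg.generalizedFittingSubgroup X :=
    fitting_le_genFitting (pCore_le_fittingSubgroup q hz.1)
  refine hSC ⟨hzF, Subgroup.mem_centralizer_iff.2 ?_⟩
  have hc : Cfsg.generalizedFittingSubgroup X ≤ Subgroup.centralizer ({z} : Set X) := by
    refine sup_le (fun e he => ?_) (fittingSubgroup_le_iSup_pCore.trans (iSup_le fun r x hx => ?_))
    · exact Subgroup.mem_centralizer_singleton_iff.2
        (Subgroup.mem_centralizer_iff.1 (layer_le_centralizer_pCore (p := q) he) z hz.1).symm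
    · rw [Subgroup.mem_centralizer_singleton_iff]
      rcases eq_or_ne (r : ℕ) q with h | h
      · exact Subgroup.mem_centralizer_iff.1 hz.2 x (h ▸ hx)
      · exact commute_pCores r.2 hq h hx hz.1
  intro s hs
  exact Subgroup.mem_centralizer_singleton_iff.1 (hc (hSF hs))

theorem centralizer_inter_le (q : ℕ) (hq : q.Prime) :
    Cfsg.pCore q X ⊓ Subgroup.centralizer ((S ⊓ Cfsg.pCore q X : Subgroup X) : Set X) ≤ S := by
  have : Fact q.Prime := ⟨hq⟩
  intro x hx
  have hE := layer_le_S hSF hSsn hSC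
  refine hSC ⟨fitting_le_genFitting (pCore_le_fittingSubgroup q hx.1),
    Subgroup.mem_centralizer_iff.2 ?_⟩
  intro s hs
  obtain ⟨e, he, f, hf, rfl⟩ := Subgroup.mem_sup_of_normal_left.1
    (show s ∈ Cfsg.layer X ⊔ Cfsg.fittingSubgroup X from hSF hs)
  have hfS : f ∈ S := (Subgroup.mul_mem_cancel_left S (hE he)).1 hs
  obtain ⟨a, b, haq, haf, rfl, hb⟩ := exists_split (p := q) hf
  have hex : Commute x e :=
    Subgroup.mem_centralizer_iff.1 (layer_le_centralizer_pCore (p := q) he) x hx.1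
  have hax : Commute a x :=
    Subgroup.mem_centralizer_iff.1 hx.2 a ⟨(Subgroup.zpowers_le.2 hfS) haf, haq⟩
  exact (Commute.mul_left hex.symm (Commute.mul_left hax (hb x hx.1))).eq

omit hSF hSsn hSC hp in
theorem commutator_le_inter {Q N : Subgroup X} [N.Normal] 
    (hQS : S ≤ Subgroup.normalizer (Q : Set X)) {M : Subgroup X} (hMS : M ≤ S) (hMN : M ≤ N) :
    ⁅Q, M⁆ ≤ Q ⊓ N := by
  rw [Subgroup.commutator_le]
  intro a ha m hm
  refine ⟨?_, ?_⟩
  · rw [commutatorElement_def, mul_assoc, mul_assoc, ← mul_assoc m]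
    exact Q.mul_mem ha ((Subgroup.mem_set_normalizer_iff.1 (hQS (hMS hm)) a⁻¹).1 (Q.inv_mem ha))
  · rw [commutatorElement_def]
    exact N.mul_mem ((inferInstance : N.Normal).conj_mem m (hMN hm) a) (N.inv_mem (hMN hm))

theorem layer_centralizes {Q : Subgroup X} (hQ : IsPGroup p Q)
    (hQS : S ≤ Subgroup.normalizer (Q : Set X)) :
    Q ≤ Subgroup.centralizer (Cfsg.layer X : Set X) := by
  set E := Cfsg.layer X
  have hE := layer_le_S hSF hSsn hSC
  set D := Q ⊓ E
  have hDn : (D.subgroupOf E).Normal := by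
    refine ⟨fun d hd e => ?_⟩
    exact ⟨(Subgroup.mem_set_normalizer_iff.1 (hQS (hE e.2)) d).1 hd.1,
      E.mul_mem (E.mul_mem e.2 hd.2) (E.inv_mem e.2)⟩
  have hDp : D ≤ Cfsg.pCore p X :=
    le_pCore_of_subnormal (hDn.isSubnormal.trans inf_le_right
      (Subgroup.Normal.isSubnormal inferInstance)) (hQ.to_le inf_le_left)
  have h1 : ⁅⁅Q, E⁆, E⁆ = ⊥ := by
    rw [Subgroup.commutator_eq_bot_iff_le_centralizer]
    refine ((commutator_le_inter hQS hE le_rfl).trans hDp).trans ?_
    rw [Subgroup.le_centralizer_iff]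
    exact layer_le_centralizer_pCore
  have h2 : ⁅⁅E, Q⁆, E⁆ = ⊥ := by rw [Subgroup.commutator_comm E Q]; exact h1
  have h3 := Subgroup.commutator_commutator_eq_bot_of_rotate h2 h1
  rw [layer_commutator_self, Subgroup.commutator_comm,
    Subgroup.commutator_eq_bot_iff_le_centralizer] at h3
  exact h3

theorem pCore_centralizes {Q : Subgroup X} (hQ : IsPGroup p Q)
    (hQS : S ≤ Subgroup.normalizer (Q : Set X)) {q : ℕ} (hq : q.Prime) (hne : q ≠ p) :
    Q ≤ Subgroup.centralizer (Cfsg.pCore q X : Set X) := by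
  have : Fact q.Prime := ⟨hq⟩
  set P := S ⊓ Cfsg.pCore q X
  have hPQ : P ≤ Subgroup.centralizer (Q : Set X) := by
    rw [← Subgroup.commutator_eq_bot_iff_le_centralizer, Subgroup.commutator_comm, ← le_bot_iff]
    refine (commutator_le_inter hQS inf_le_left inf_le_right).trans ?_
    rw [(IsPGroup.disjoint_of_ne p q hne.symm _ _ hQ (pCore_isPGroup q)).eq_bot]
  obtain ⟨n, hn⟩ := IsPGroup.iff_card.mp hQ
  refine Cfsg.Agent.Lib.Coprime.le_centralizer_of_PxQ (p := q) (P := P)
    ((pCore_isPGroup q).to_le inf_le_right) ?_ (pCore_isPGroup q) hPQ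
    Subgroup.le_normalizer_of_normal Subgroup.le_normalizer_of_normal
    (le_trans (fun u hu => ?_) hPQ)
  · rw [hn]; exact ((Nat.coprime_primes hp.out hq).mpr hne.symm).pow_left n
  · exact ⟨centralizer_inter_le hSF hSsn hSC q hq hu, hu.1⟩

end Abstract

/-- Let G be a non-abelian finite simple group, A a maximal subgroup, F = F*(A) its generalized Fitting subgroup (viewed in G), and S ≤ F a subgroup subnormal in F with C_F(S) ≤ S. Let B be any subgroup of G containing S. Then (a) for every prime q not dividing |F(A)|, O_q(B) ∩ A = 1; and (b) for every prime p dividing |F(A)|, O_p(B) commutes elementwise with the subgroup of F generated by its elements of order prime to p. -/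
theorem result {G : Type*} [Group G] [Finite G] [IsSimpleGroup G] (hna : ¬ IsMulCommutative G) (A : Subgroup G) (hA : IsCoatom A) (S : Subgroup G) (hSF : S ≤ (Cfsg.generalizedFittingSubgroup ↥A).map A.subtype) (hSsn : (S.subgroupOf ((Cfsg.generalizedFittingSubgroup ↥A).map A.subtype)).IsSubnormal) (hSC : (Cfsg.generalizedFittingSubgroup ↥A).map A.subtype ⊓ Subgroup.centralizer (S : Set G) ≤ S) (B : Subgroup G) (hSB : S ≤ B) : (∀ q : ℕ, q.Prime → ¬ q ∣ Nat.card (Cfsg.fittingSubgroup ↥A) → (Cfsg.pCore q ↥B).map B.subtype ⊓ A = ⊥) ∧ (∀ p : ℕ, p.Prime → p ∣ Nat.card (Cfsg.fittingSubgroup ↥A) → ∀ x ∈ (Cfsg.pCore p ↥B).map B.subtype, ∀ y ∈ (Cfsg.pResidual p ↥(Cfsg.generalizedFittingSubgroup ↥A)).map ((Cfsg.generalizedFittingSubgroup ↥A).subtype) , x * (A.subtype y) = (A.subtype y) * x) := by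
  set X := ↥A
  set ι := A.subtype with hι
  set F := Cfsg.generalizedFittingSubgroup ↥A with hF
  set S' := S.subgroupOf A with hS'
  have hSA : S ≤ A := hSF.trans (Subgroup.map_subtype_le _)
  have hSF' : S' ≤ F := fun x hx => by
    obtain ⟨y, hy, hyx⟩ := hSF hx
    exact (Subtype.ext hyx : y = x) ▸ hy
  have hSsn' : (S'.subgroupOf F).IsSubnormal := by
    have h1 := hSsn.comap (F.equivMapOfInjective ι A.subtype_injective).toMonoidHom
    convert h1 using 1
    ext w
    exact Iff.rfl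
  have hSC' : F ⊓ Subgroup.centralizer (S' : Set ↥A) ≤ S' := fun x hx => by
    refine hSC ⟨⟨x, hx.1, rfl⟩, Subgroup.mem_centralizer_iff.2 fun s hs => ?_⟩
    exact congrArg Subtype.val (Subgroup.mem_centralizer_iff.1 hx.2 ⟨s, hSA hs⟩ hs)
  have hnorm : ∀ r : ℕ, S' ≤ Subgroup.normalizer
      ((((Cfsg.pCore r ↥B).map B.subtype).subgroupOf A : Subgroup ↥A) : Set ↥A) := by
    intro r s hs
    refine Subgroup.mem_normalizer_iff.2 fun x => ?_
    have hn : B ≤ Subgroup.normalizer (((Cfsg.pCore r ↥B).map B.subtype : Subgroup G) : Set G) := by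
      intro b hb
      exact Subgroup.le_normalizer_map B.subtype ⟨⟨b, hb⟩, by
        rw [Subgroup.normalizer_eq_top]; exact Subgroup.mem_top _, rfl⟩
    simp only [Subgroup.mem_subgroupOf, Subgroup.coe_mul, Subgroup.coe_inv]
    exact Subgroup.mem_set_normalizer_iff.1 (hn (hSB hs)) (x : G)
  have hQp : ∀ r : ℕ, r.Prime →
      IsPGroup r (((Cfsg.pCore r ↥B).map B.subtype).subgroupOf A) := fun r hr =>
    ((pCore_isPGroup r).map B.subtype).comap_subtype
  refine ⟨fun q hq hdvd => ?_, fun p hp hdvd x hx y hy => ?_⟩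
  · have : Fact q.Prime := ⟨hq⟩
    set Q := ((Cfsg.pCore q ↥B).map B.subtype).subgroupOf A with hQdef
    have hbot : Cfsg.pCore q ↥A = ⊥ := by
      obtain ⟨n, hn⟩ := IsPGroup.iff_card.mp (pCore_isPGroup (G := ↥A) q)
      rcases n.eq_zero_or_pos with rfl | hpos
      · exact Subgroup.card_eq_one.1 (by rw [hn, pow_zero])
      · exact absurd (((dvd_pow_self q hpos.ne').trans (hn ▸ dvd_rfl)).trans
          (Subgroup.card_dvd_of_le (pCore_le_fittingSubgroup q))) hdvd
    have hc : F ≤ Subgroup.centralizer (Q : Set ↥A) := by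
      refine sup_le (Subgroup.le_centralizer_iff.1
        (layer_centralizes hSF' hSsn' hSC' (hQp q hq) (hnorm q))) ?_
      refine (fitting_le_sup q).trans (sup_le (hbot ▸ bot_le) (iSup_le fun r => ?_))
      exact Subgroup.le_centralizer_iff.1
        (pCore_centralizes hSF' hSsn' hSC' (hQp q hq) (hnorm q) r.2.1 r.2.2)
    have hQF : Q ≤ Cfsg.fittingSubgroup ↥A :=
      (Subgroup.le_centralizer_iff.1 hc).trans centralizer_genFitting_le_fittingSubgroup
    have hQbot : Q = ⊥ := by
      refine eq_bot_of_isPGroup_of_coprime (hQp q hq) ?_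
      exact ((hq.coprime_iff_not_dvd.2 hdvd).symm).coprime_dvd_left (Subgroup.card_dvd_of_le hQF)
    rwa [hQdef, Subgroup.subgroupOf_eq_bot, disjoint_iff] at hQbot
  · have : Fact p.Prime := ⟨hp⟩
    set P := (Cfsg.pCore p ↥B).map B.subtype with hPdef
    have hPp : IsPGroup p P := (pCore_isPGroup p).map _
    set Q := P.subgroupOf A with hQdef
    have hE := layer_centralizes hSF' hSsn' hSC' (hQp p hp) (hnorm p)
    -- a nontrivial normal subgroup of `A` has normalizer `A`
    have hmax : ∀ N : Subgroup ↥A, N.Normal → N ≠ ⊥ →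
        Subgroup.centralizer ((N.map ι : Subgroup G) : Set G) ≤ A := by
      intro N hN hne
      have hAN : A ≤ Subgroup.normalizer ((N.map ι : Subgroup G) : Set G) := fun a ha =>
        Subgroup.le_normalizer_map ι ⟨⟨a, ha⟩, by
          rw [Subgroup.normalizer_eq_top]; exact Subgroup.mem_top _, rfl⟩
      rcases hA.le_iff.1 hAN with h | h
      · rcases IsSimpleGroup.eq_bot_or_eq_top_of_normal _ (Subgroup.normalizer_eq_top_iff.1 h)
          with e | e
        · exact absurd ((Subgroup.map_eq_bot_iff_of_injective _ A.subtype_injective).1 e) hne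
        · exact absurd (eq_top_iff.2 (e ▸ Subgroup.map_subtype_le N)) hA.1
      · exact (Subgroup.centralizer_le_normalizer _).trans h.le
    -- the centre of `O_p(A)`
    set R := Cfsg.pCore p ↥A ⊓ Subgroup.centralizer (Cfsg.pCore p ↥A : Set ↥A) with hR
    have hRne : R ≠ ⊥ := by
      have hne : Nontrivial ↥(Cfsg.pCore p ↥A) := by
        rw [Subgroup.nontrivial_iff_ne_bot]
        intro hb
        obtain ⟨f, hf⟩ := exists_prime_orderOf_dvd_card' p hdvd
        obtain ⟨a, b, ha, -, hab, -⟩ := exists_split (p := p) f.2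
        rw [hb, Subgroup.mem_bot] at ha
        have hle : Cfsg.fittingSubgroup ↥A ≤ Cfsg.pPrimeCore p ↥A := by
          refine (fitting_le_sup p).trans (sup_le (hb ▸ bot_le) (iSup_le fun q => ?_))
          have : Fact (q : ℕ).Prime := ⟨q.2.1⟩
          refine le_pPrimeCore inferInstance ?_
          obtain ⟨n, hn⟩ := IsPGroup.iff_card.mp (pCore_isPGroup (G := ↥A) (q : ℕ))
          rw [hn]
          exact ((Nat.coprime_primes q.2.1 hp).mpr q.2.2).pow_left n
        exact (hp.coprime_iff_not_dvd.1 ((pPrimeCore_coprime p).coprime_dvd_left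
          (Subgroup.card_dvd_of_le hle)).symm) hdvd
      have := (pCore_isPGroup (G := ↥A) p).center_nontrivial
      obtain ⟨z, hz⟩ := exists_ne (1 : Subgroup.center ↥(Cfsg.pCore p ↥A))
      intro hbot
      have hzR : ((z : ↥(Cfsg.pCore p ↥A)) : ↥A) ∈ R := ⟨z.1.2, Subgroup.mem_centralizer_iff.2
        fun w hw => congrArg Subtype.val (Subgroup.mem_center_iff.1 z.2 ⟨w, hw⟩)⟩
      rw [hbot, Subgroup.mem_bot] at hzR
      exact hz (Subtype.ext (Subtype.ext hzR))
    have hRn : R.Normal := inferInstance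
    have hRA := hmax R hRn hRne
    have hRS : R ≤ S' := center_pCore_le hSF' hSC' p hp
    -- `p'`-elements of `S` that commute with `R` and `P ∩ A` centralize `P`
    have hpxq : ∀ u : ↥A, u ∈ S' → (orderOf u).Coprime p → (∀ r ∈ R, Commute r u) →
        (∀ w ∈ Q, Commute w u) → ∀ w ∈ P, Commute (u : G) w := by
      intro u hu hcop hru hwu w hw
      have hPn : ∀ s ∈ S, s ∈ Subgroup.normalizer (P : Set G) := fun s hs =>
        Subgroup.le_normalizer_map B.subtype ⟨⟨s, hSB hs⟩, by
          rw [Subgroup.normalizer_eq_top]; exact Subgroup.mem_top _, rfl⟩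
      have h1 := Cfsg.Agent.Lib.Coprime.le_centralizer_of_PxQ (p := p) (P := R.map ι)
        (Q := Subgroup.zpowers (u : G)) (U := P)
        (((pCore_isPGroup (G := ↥A) p).to_le inf_le_left).map ι)
        (by rw [Nat.card_zpowers, Subgroup.orderOf_coe]; exact hcop) hPp
        (by
          rintro _ ⟨r, hr, rfl⟩
          refine Subgroup.mem_centralizer_iff.2 fun w hw => ?_
          obtain ⟨i, rfl⟩ := Subgroup.mem_zpowers_iff.1 hw
          exact (((hru r hr).map A.subtype).symm.zpow_left i).eq)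
        (by rintro _ ⟨r, hr, rfl⟩; exact hPn _ (hRS hr))
        (Subgroup.zpowers_le.2 (hPn _ hu))
        (by
          intro v hv
          have hvA : v ∈ A := hRA hv.2
          refine Subgroup.mem_centralizer_iff.2 fun w hw => ?_
          obtain ⟨i, rfl⟩ := Subgroup.mem_zpowers_iff.1 hw
          exact (((hwu ⟨v, hvA⟩ hv.1).map A.subtype).symm.zpow_left i).eq)
      exact ((Subgroup.mem_centralizer_iff.1 (h1 (Subgroup.mem_zpowers _)) w hw)).symm
    -- `P` centralizes the layer of `A` and the centres of the other `O_q(A)`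
    have hPE : ∀ e ∈ Cfsg.layer ↥A, ∀ w ∈ P, Commute (e : G) w := by
      intro e he
      have hle : Cfsg.layer ↥A ≤ (Subgroup.centralizer (P : Set G)).subgroupOf A := by
        refine le_of_forall_coprime_mem (p := p) (layer_commutator_self _) fun u hu hcop => ?_
        refine Subgroup.mem_subgroupOf.2 (Subgroup.mem_centralizer_iff.2 fun w hw => ?_)
        refine (hpxq u (layer_le_S hSF' hSsn' hSC' hu) hcop (fun r hr => ?_) (fun v hv => ?_) w hw).symm
        · exact Subgroup.mem_centralizer_iff.1 (layer_le_centralizer_pCore hu) r hr.1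
        · exact (Subgroup.mem_centralizer_iff.1 (hE hv) u hu).symm
      intro w hw
      exact ((Subgroup.mem_centralizer_iff.1 (hle he) w hw)).symm
    have hPZ : ∀ q : ℕ, q.Prime → q ≠ p →
        ∀ u ∈ Cfsg.pCore q ↥A ⊓ Subgroup.centralizer (Cfsg.pCore q ↥A : Set ↥A),
        ∀ w ∈ P, Commute (u : G) w := by
      intro q hq hne u hu
      have : Fact q.Prime := ⟨hq⟩
      refine hpxq u (center_pCore_le hSF' hSC' q hq hu) ?_ (fun r hr => ?_) (fun v hv => ?_)
      · obtain ⟨k, hk⟩ := IsPGroup.iff_orderOf.1 (pCore_isPGroup (G := ↥A) q) ⟨u, hu.1⟩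
        rw [Subgroup.orderOf_mk] at hk
        rw [hk]
        exact ((Nat.coprime_primes hq hp).mpr hne).pow_left k
      · exact commute_pCores hp hq hne.symm hr.1 hu.1
      · exact (Subgroup.mem_centralizer_iff.1
          (pCore_centralizes hSF' hSsn' hSC' (hQp p hp) (hnorm p) hq hne hv) u hu.1).symm
    -- the elements of order prime to `p` of `F*(A)`
    set L := Cfsg.layer ↥A ⊔ ⨆ q : {q : ℕ // q.Prime ∧ q ≠ p}, Cfsg.pCore (q : ℕ) ↥A with hL
    obtain ⟨y', hy', rfl⟩ := hy
    have hyL : ((y' : ↥(Cfsg.generalizedFittingSubgroup ↥A)) : ↥A) ∈ L := by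
      haveI : L.Normal := by
        haveI : (⨆ q : {q : ℕ // q.Prime ∧ q ≠ p}, Cfsg.pCore (q : ℕ) ↥A).Normal :=
          Subgroup.iSup_normal _
        exact Subgroup.sup_normal _ _
      have hle : Cfsg.pResidual p ↥(Cfsg.generalizedFittingSubgroup ↥A) ≤
          L.subgroupOf (Cfsg.generalizedFittingSubgroup ↥A) := by
        rw [Cfsg.pResidual, Subgroup.closure_le]
        intro g hg
        rw [SetLike.mem_coe, Subgroup.mem_subgroupOf, ← QuotientGroup.eq_one_iff]
        have hg2 : (g : ↥A) ∈ L ⊔ Cfsg.pCore p ↥A := by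
          refine (sup_le (le_sup_of_le_left le_sup_left) ((fitting_le_sup p).trans
            (sup_le le_sup_right (le_sup_of_le_left le_sup_right)))) g.2
        obtain ⟨l, hl, r, hr, hlr⟩ := Subgroup.mem_sup_of_normal_left.1 hg2
        have hgr : ((g : ↥A) : ↥A ⧸ L) = (r : ↥A ⧸ L) := by
          rw [← hlr, QuotientGroup.mk_mul, (QuotientGroup.eq_one_iff l).2 hl, one_mul]
        obtain ⟨k, hk⟩ := IsPGroup.iff_orderOf.1 (pCore_isPGroup (G := ↥A) p) ⟨r, hr⟩
        rw [Subgroup.orderOf_mk] at hk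
        refine orderOf_eq_one_iff.1 (Nat.eq_one_of_dvd_coprimes (hg.pow_right k) ?_ ?_)
        · exact (orderOf_map_dvd (QuotientGroup.mk' L) (g : ↥A)).trans
            (Subgroup.orderOf_coe g).dvd
        · rw [hgr, ← hk]
          exact orderOf_map_dvd (QuotientGroup.mk' L) r
      exact hle hy'
    by_cases hL0 : L = ⊥
    · rw [hL0, Subgroup.mem_bot] at hyL
      simp [hyL]
    -- `P` lies in `A`
    have hPA : P ≤ A := by
      by_cases hE0 : Cfsg.layer ↥A = ⊥
      · obtain ⟨q, hq⟩ : ∃ q : {q : ℕ // q.Prime ∧ q ≠ p}, Cfsg.pCore (q : ℕ) ↥A ≠ ⊥ := by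
          by_contra hcon
          push Not at hcon
          exact hL0 (by rw [hL, hE0, bot_sup_eq]; exact le_bot_iff.1 (iSup_le fun q => (hcon q).le))
        have : Fact (q : ℕ).Prime := ⟨q.2.1⟩
        set Z := Cfsg.pCore (q : ℕ) ↥A ⊓ Subgroup.centralizer (Cfsg.pCore (q : ℕ) ↥A : Set ↥A)
        have hZne : Z ≠ ⊥ := by
          have : Nontrivial ↥(Cfsg.pCore (q : ℕ) ↥A) := (Subgroup.nontrivial_iff_ne_bot _).2 hq
          have := (pCore_isPGroup (G := ↥A) (q : ℕ)).center_nontrivial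
          obtain ⟨z, hz⟩ := exists_ne (1 : Subgroup.center ↥(Cfsg.pCore (q : ℕ) ↥A))
          intro hbot
          have hzR : ((z : ↥(Cfsg.pCore (q : ℕ) ↥A)) : ↥A) ∈ Z :=
            ⟨z.1.2, Subgroup.mem_centralizer_iff.2
              fun w hw => congrArg Subtype.val (Subgroup.mem_center_iff.1 z.2 ⟨w, hw⟩)⟩
          rw [hbot, Subgroup.mem_bot] at hzR
          exact hz (Subtype.ext (Subtype.ext hzR))
        refine fun w hw => hmax Z inferInstance hZne ?_
        rw [Subgroup.mem_centralizer_iff]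
        rintro _ ⟨u, hu, rfl⟩
        exact (hPZ q q.2.1 q.2.2 u hu w hw).eq
      · refine fun w hw => hmax _ inferInstance hE0 ?_
        rw [Subgroup.mem_centralizer_iff]
        rintro _ ⟨u, hu, rfl⟩
        exact (hPE u hu w hw).eq
    have hxA : x ∈ A := hPA hx
    have hxQ : (⟨x, hxA⟩ : ↥A) ∈ Q := hx
    have hxL : L ≤ Subgroup.centralizer (Q : Set ↥A) := by
      refine sup_le (Subgroup.le_centralizer_iff.1 hE) (iSup_le fun q => ?_)
      exact Subgroup.le_centralizer_iff.1
        (pCore_centralizes hSF' hSsn' hSC' (hQp p hp) (hnorm p) q.2.1 q.2.2)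
    exact (congrArg Subtype.val (Subgroup.mem_centralizer_iff.1 (hxL hyL) ⟨x, hxA⟩ hxQ) :)

end Cfsg.Agent.S1247
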