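import Cfsg.Statements.S1248
import Mathlib
import Cfsg.Agent.Lib.Classical.HermCard
-- import your own Cfsg.Agent.* helpers here

set_option autoImplicit false
open Cfsg

namespace Cfsg.Agent.S1248

open Cfsg.Agent.Lib.Classical
open scoped Matrix commutatorElement

section

variable {F : Type*} [Field F] [Fintype F] (hF : Fintype.card F = 16)

include hF

theorem two_eq_zero : (2 : F) = 0 := by
  have h : ((Fintype.card F : ℕ) : F) = 0 := FiniteField.cast_card_eq_zero F
  rw [hF] at h
  have h4 : (2 : F) ^ 4 = 0 := by norm_num; exact_mod_cast h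
  exact pow_eq_zero_iff (n := 4) (by norm_num) |>.1 h4

theorem add_pow_four (x y : F) : (x + y) ^ 4 = x ^ 4 + y ^ 4 := by
  linear_combination (2 * x ^ 3 * y + 3 * x ^ 2 * y ^ 2 + 2 * x * y ^ 3) * two_eq_zero hF

theorem pow_sixteen (x : F) : x ^ 16 = x := by
  have := FiniteField.pow_card x
  rwa [hF] at this

/-- `F₄ ⊆ F₁₆` has four elements and is the image of the trace. -/
theorem trace_facts : Nat.card {b : F // b ^ 4 = b} = 4 ∧
    (∀ c : F, c ^ 4 = c → ∃ b : F, b + b ^ 4 = c) ∧ ∃ b : F, b ^ 4 ≠ b := by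
  classical
  let T : F →+ F :=
    { toFun := fun b => b + b ^ 4
      map_zero' := by simp
      map_add' := fun x y => by rw [add_pow_four hF]; ring }
  set K := Finset.univ.filter fun b : F => b ^ 4 = b with hK
  have hK4 : K.card ≤ 4 := by
    have h1 : K ⊆ (Polynomial.X ^ 4 - Polynomial.X : Polynomial F).roots.toFinset := by
      intro b hb
      rw [hK, Finset.mem_filter] at hb
      rw [Multiset.mem_toFinset, Polynomial.mem_roots (FiniteField.X_pow_card_sub_X_ne_zero F (by norm_num))]
      simp [hb.2]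
    exact (Finset.card_le_card h1).trans ((Multiset.toFinset_card_le _).trans
      ((Polynomial.card_roots' _).trans (by rw [FiniteField.X_pow_card_sub_X_natDegree_eq F (by norm_num)])))
  have hcard : Nat.card {b : F // b ^ 4 = b} = K.card := by
    rw [Nat.card_eq_fintype_card, Fintype.card_subtype]
  have hker : Nat.card T.ker ≤ 4 := by
    refine le_trans (le_of_eq (Eq.trans ?_ hcard)) hK4
    exact Nat.card_congr (Equiv.subtypeEquivRight fun b => by
      show b + b ^ 4 = 0 ↔ _
      constructor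
      · intro h; linear_combination h - b * two_eq_zero hF
      · intro h; linear_combination h + b * two_eq_zero hF)
  have hsub : (T.range : Set F) ⊆ (K : Set F) := by
    rintro _ ⟨b, rfl⟩
    simp only [hK, Finset.coe_filter, Finset.mem_univ, true_and, Set.mem_ofPred_eq]
    show (b + b ^ 4) ^ 4 = b + b ^ 4
    rw [add_pow_four hF, ← pow_mul, pow_sixteen hF]; ring
  have hran : Nat.card T.range ≤ K.card := by
    have := Set.ncard_le_ncard hsub K.finite_toSet
    rwa [Set.ncard_coe_finset, ← Nat.card_coe_set_eq] at this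
  have hmul : Nat.card T.ker * Nat.card T.range = 16 := by
    rw [← AddSubgroup.index_ker, AddSubgroup.card_mul_index, Nat.card_eq_fintype_card, hF]
  have h16 : 16 ≤ 4 * K.card := hmul ▸ Nat.mul_le_mul hker hran
  have hK' : K.card = 4 := by omega
  refine ⟨hcard.trans hK', fun c hc => ?_, ?_⟩
  · have hKr : K.card ≤ Nat.card T.range := by
      have : 16 ≤ 4 * Nat.card T.range := hmul ▸ Nat.mul_le_mul_right _ hker
      omega
    have heq : (T.range : Set F) = (K : Set F) := Set.eq_of_subset_of_ncard_le hsub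
      (by rwa [Set.ncard_coe_finset, ← Nat.card_coe_set_eq]) K.finite_toSet
    have : c ∈ (T.range : Set F) := by
      rw [heq]; simp [hK, hc]
    exact this
  · by_contra! h
    have : K = Finset.univ := Finset.ext fun b => by simp [hK, h b]
    rw [this, Finset.card_univ, hF] at hK'
    omega

end

/-- The group of pairs `(a, b)` with `b + b ^ 4 = a ^ 5`. -/
@[ext] structure UT (F : Type*) [Field F] where
  a : F
  b : F
  rel : b + b ^ 4 = a ^ 5

variable {F : Type*} [Field F] [Fintype F]

/-- The unipotent upper triangular matrix of `(a, b)`. -/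
def utMat (a b : F) : Matrix (Fin 3) (Fin 3) F := !![1, a, b; 0, 1, a ^ 4; 0, 0, 1]

def jMat : Matrix (Fin 3) (Fin 3) F := !![0, 0, 1; 0, 1, 0; 1, 0, 0]

set_option maxHeartbeats 800000 in
/-- Everything that is used about the Sylow `2`-subgroup. -/
theorem exists_model (hF : Fintype.card F = 16) :
    ∃ (W : Subgroup (Cfsg.PSU 3 F 4)) (e : W → UT F), Function.Bijective e ∧
      (∀ x y : W, (e (x * y)).a = (e x).a + (e y).a ∧
        (e (x * y)).b = (e x).b + (e y).b + (e x).a * (e y).a ^ 4) := by
  classical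
  have hF2 : Fintype.card F = 4 ^ 2 := by rw [hF]; norm_num
  have h2 := two_eq_zero hF
  let mul : UT F → UT F → UT F := fun u v => ⟨u.a + v.a, u.b + v.b + u.a * v.a ^ 4, by
    have e1 := u.rel
    have e2 := v.rel
    rw [add_pow_four hF, add_pow_four hF, mul_pow, ← pow_mul,
      show (v.a) ^ (4 * 4) = v.a from pow_sixteen hF v.a,
      show (u.a + v.a) ^ 5 = (u.a + v.a) ^ 4 * (u.a + v.a) by ring, add_pow_four hF]
    linear_combination e1 + e2⟩
  obtain ⟨t, ht⟩ := (trace_facts hF).2.1 1 (one_pow _)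
  set P : Matrix (Fin 3) (Fin 3) F := !![1, 0, t; 1, 0, t + 1; 0, 1, 0] with hP
  have hPdet : P.det = 1 := by
    rw [hP, Matrix.det_fin_three]
    simp only [Matrix.of_apply, Matrix.cons_val', Matrix.cons_val_zero, Matrix.cons_val_one,
      Matrix.cons_val, Matrix.empty_val', Matrix.cons_val_fin_one]
    linear_combination (-1 : F) * h2
  let Q : Matrix.SpecialLinearGroup (Fin 3) F := ⟨P, hPdet⟩
  let σ := conjHom hF2
  have hσ : ∀ x : F, σ x = x ^ 4 := conjHom_apply hF2
  have hPJ : Pᵀ * P.map σ = jMat := by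
    ext i j
    fin_cases i <;> fin_cases j <;>
      simp [hP, jMat, Matrix.mul_apply, Fin.sum_univ_succ, hσ, add_pow_four hF] <;>
      first
        | linear_combination ht
        | linear_combination ht + (t * t ^ 4) * h2
        | linear_combination (t ^ 4) * h2
        | linear_combination t * h2
        | linear_combination h2
        | linear_combination (t + t ^ 4) * h2
        | linear_combination (t ^ 5) * h2
        | linear_combination ht + (t ^ 5 + 1) * h2
  let U : UT F → Matrix.SpecialLinearGroup (Fin 3) F := fun u =>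
    ⟨utMat u.a u.b, by simp [utMat, Matrix.det_fin_three]⟩
  let L : UT F → Matrix.SpecialLinearGroup (Fin 3) F := fun u => Q * U u * Q⁻¹
  have hMJ : ∀ u : UT F, (utMat u.a u.b)ᵀ * jMat * (utMat u.a u.b).map σ = jMat := by
    intro u
    have e1 := u.rel
    ext i j
    fin_cases i <;> fin_cases j <;>
      simp [utMat, jMat, Matrix.mul_apply, Fin.sum_univ_succ, hσ, ← pow_mul, pow_sixteen hF] <;>
      first
        | ring1
        | linear_combination u.a * h2
        | linear_combination (u.a ^ 4) * h2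
        | linear_combination e1 + u.a ^ 5 * h2
  have hmem : ∀ u, L u ∈ Cfsg.SU 3 F 4 := by
    intro u
    rw [mem_SU_iff hF2]
    set M := utMat u.a u.b
    set P' : Matrix (Fin 3) (Fin 3) F := ((Q⁻¹ : Matrix.SpecialLinearGroup (Fin 3) F) : Matrix (Fin 3) (Fin 3) F)
    have hPP : P * P' = 1 := congrArg Subtype.val (mul_inv_cancel Q)
    show (P * M * P')ᵀ * (P * M * P').map σ = 1
    rw [Matrix.map_mul, Matrix.map_mul, Matrix.transpose_mul, Matrix.transpose_mul]
    calc P'ᵀ * (Mᵀ * Pᵀ) * (P.map σ * M.map σ * P'.map σ)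
        = P'ᵀ * (Mᵀ * (Pᵀ * P.map σ) * M.map σ) * P'.map σ := by simp only [Matrix.mul_assoc]
      _ = P'ᵀ * (Pᵀ * P.map σ) * P'.map σ := by rw [hPJ, hMJ]
      _ = (P * P')ᵀ * (P * P').map σ := by
          rw [Matrix.transpose_mul, Matrix.map_mul]; simp only [Matrix.mul_assoc]
      _ = 1 := by rw [hPP, Matrix.transpose_one, Matrix.map_one _ (map_zero σ) (map_one σ), one_mul]
  have hL : ∀ u v, L (mul u v) = L u * L v := by
    intro u v
    have hU : U (mul u v) = U u * U v := by
      refine Subtype.ext ?_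
      show utMat (u.a + v.a) (u.b + v.b + u.a * v.a ^ 4) = utMat u.a u.b * utMat v.a v.b
      ext i j
      fin_cases i <;> fin_cases j <;>
        simp [utMat, Matrix.mul_apply, Fin.sum_univ_succ, add_pow_four hF] <;> ring
    show Q * U (mul u v) * Q⁻¹ = Q * U u * Q⁻¹ * (Q * U v * Q⁻¹)
    rw [hU]; group
  let f : UT F → Cfsg.PSU 3 F 4 := fun u => QuotientGroup.mk (⟨L u, hmem u⟩ : Cfsg.SU 3 F 4)
  have hf : ∀ u v, f (mul u v) = f u * f v := fun u v =>
    congrArg QuotientGroup.mk (Subtype.ext (hL u v) : (⟨L (mul u v), hmem _⟩ : Cfsg.SU 3 F 4) =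
      ⟨L u, hmem u⟩ * ⟨L v, hmem v⟩)
  have hZ : Subgroup.center (Cfsg.SU 3 F 4) = ⊥ :=
    Subgroup.card_eq_one.1 (by rw [card_center_SU hF2 (by norm_num)]; decide)
  have hinj : Function.Injective f := by
    intro u v h
    have h1 := QuotientGroup.eq.1 h
    rw [hZ, Subgroup.mem_bot, inv_mul_eq_one] at h1
    have h4 : L u = L v := congrArg Subtype.val h1
    have h5 : U u = U v := mul_left_cancel (mul_right_cancel h4)
    have h3 : utMat u.a u.b = utMat v.a v.b := congrArg Subtype.val h5
    exact UT.ext (by simpa [utMat] using congrFun (congrFun h3 0) 1)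
      (by simpa [utMat] using congrFun (congrFun h3 0) 2)
  let one : UT F := ⟨0, 0, by simp⟩
  have hone : f one = 1 := by
    have := hf one one
    have h1 : mul one one = one := UT.ext (add_zero _) (by simp [mul, one])
    rw [h1] at this
    exact left_eq_mul.1 this
  let inv : UT F → UT F := fun u => ⟨u.a, u.b ^ 4, by
    have e1 := u.rel
    rw [← pow_mul, pow_sixteen hF]; linear_combination e1⟩
  have hinv : ∀ u, f (inv u) = (f u)⁻¹ := fun u => by
    refine eq_inv_of_mul_eq_one_left ?_
    rw [← hf, ← hone]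
    congr 1
    refine UT.ext ?_ ?_
    · show u.a + u.a = 0
      linear_combination u.a * h2
    · show u.b ^ 4 + u.b + u.a * u.a ^ 4 = 0
      linear_combination u.rel + u.a ^ 5 * h2
  let W : Subgroup (Cfsg.PSU 3 F 4) :=
    { carrier := Set.range f
      one_mem' := ⟨one, hone⟩
      mul_mem' := by rintro _ _ ⟨u, rfl⟩ ⟨v, rfl⟩; exact ⟨mul u v, hf u v⟩
      inv_mem' := by rintro _ ⟨u, rfl⟩; exact ⟨inv u, hinv u⟩ }
  let e : W → UT F := fun x => x.2.choose
  have he : ∀ x : W, f (e x) = x := fun x => x.2.choose_spec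
  refine ⟨W, e, ⟨fun x y h => Subtype.ext (by rw [← he x, ← he y, h]),
    fun u => ⟨⟨f u, u, rfl⟩, hinj (he _)⟩⟩, fun x y => ?_⟩
  have : e (x * y) = mul (e x) (e y) := hinj (by rw [he, hf, he, he]; rfl)
  rw [this]
  exact ⟨rfl, rfl⟩

theorem card_UT (hF : Fintype.card F = 16) : Nat.card (UT F) = 64 := by
  classical
  have h2 := two_eq_zero hF
  obtain ⟨hK, hsurj, -⟩ := trace_facts hF
  have hex : ∀ a : F, ∃ b : F, b + b ^ 4 = a ^ 5 := fun a => hsurj _ (by
    rw [← pow_mul, show 5 * 4 = 16 + 4 by norm_num, pow_add, pow_sixteen hF]; ring)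
  choose s hs using hex
  let toF : UT F → F × {b : F // b ^ 4 = b} := fun u => (u.a, ⟨u.b + s u.a, by
    rw [add_pow_four hF]
    linear_combination u.rel + hs u.a + (u.a ^ 5 - u.b - s u.a) * h2⟩)
  let inF : F × {b : F // b ^ 4 = b} → UT F := fun p => ⟨p.1, p.2.1 + s p.1, by
    rw [add_pow_four hF]
    linear_combination hs p.1 + p.2.2 + p.2.1 * h2⟩
  have hl : ∀ u, inF (toF u) = u := fun u => UT.ext rfl (by
    show u.b + s u.a + s u.a = u.b; linear_combination s u.a * h2)
  have hr : ∀ p, toF (inF p) = p := fun p => Prod.ext rfl (Subtype.ext (by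
    show p.2.1 + s p.1 + s p.1 = p.2.1; linear_combination s p.1 * h2))
  rw [Nat.card_congr (⟨toF, inF, hl, hr⟩ : UT F ≃ F × {b : F // b ^ 4 = b}),
    Nat.card_prod, hK, Nat.card_eq_fintype_card, hF]

theorem facts (hF : Fintype.card F = 16) {G : Type*} [Group G] [Finite G] (e : G → UT F)
    (he : Function.Bijective e)
    (hm : ∀ x y : G, (e (x * y)).a = (e x).a + (e y).a ∧
      (e (x * y)).b = (e x).b + (e y).b + (e x).a * (e y).a ^ 4) :
    Nat.card G = 64 ∧ IsKleinFour (Subgroup.center G) ∧
      Subgroup.center G = Subgroup.closure {x : G | orderOf x = 2} ∧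
      Subgroup.center G = commutator G ∧ Nat.card (G ⧸ Subgroup.center G) = 16 ∧
      ∀ x : G ⧸ Subgroup.center G, x ^ 2 = 1 := by
  classical
  have h2 := two_eq_zero hF
  obtain ⟨hK, hsurj, c₀, hc₀⟩ := trace_facts hF
  have hG : Nat.card G = 64 := (Nat.card_congr (Equiv.ofBijective e he)).trans (card_UT hF)
  have hone : (e 1).a = 0 ∧ (e 1).b = 0 := by
    obtain ⟨h1, h1'⟩ := hm 1 1
    rw [mul_one] at h1 h1'
    have ha : (e 1).a = 0 := by linear_combination -h1
    exact ⟨ha, by rw [ha] at h1'; linear_combination -h1'⟩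
  have hcen : ∀ x, x ∈ Subgroup.center G ↔ (e x).a = 0 := by
    intro x
    constructor
    · intro hx
      have hall : ∀ y : G, (e x).a * (e y).a ^ 4 = (e y).a * (e x).a ^ 4 := fun y => by
        have h1 := (hm x y).2
        rw [← Subgroup.mem_center_iff.1 hx y, (hm y x).2] at h1
        linear_combination -h1
      have hall' : ∀ a : F, (e x).a * a ^ 4 = a * (e x).a ^ 4 := fun a => by
        obtain ⟨b, hb⟩ := hsurj (a ^ 5) (by
          rw [← pow_mul, show 5 * 4 = 16 + 4 by norm_num, pow_add, pow_sixteen hF]; ring)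
        obtain ⟨y, hy⟩ := he.2 ⟨a, b, hb⟩
        simpa [hy] using hall y
      by_contra h
      have h1 := hall' 1
      rw [one_pow, mul_one, one_mul] at h1
      have h3 := hall' c₀
      rw [← h1, mul_comm c₀] at h3
      exact hc₀ (mul_left_cancel₀ h h3)
    · intro hx
      rw [Subgroup.mem_center_iff]
      intro y
      refine he.1 (UT.ext ?_ ?_)
      · rw [(hm y x).1, (hm x y).1, add_comm]
      · rw [(hm y x).2, (hm x y).2, hx]; ring
  have hsq : ∀ x : G, (e (x * x)).a = 0 ∧ (e (x * x)).b = (e x).a ^ 5 := fun x => by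
    refine ⟨?_, ?_⟩
    · rw [(hm x x).1]; linear_combination (e x).a * h2
    · rw [(hm x x).2]; linear_combination (e x).b * h2
  have hinv : ∀ x : G, orderOf x = 2 ↔ x ∈ Subgroup.center G ∧ x ≠ 1 := by
    intro x
    constructor
    · intro hx
      have hxx : x * x = 1 := by rw [← pow_two, ← hx]; exact pow_orderOf_eq_one x
      refine ⟨(hcen x).2 ?_, fun h => by rw [h, orderOf_one] at hx; exact absurd hx (by norm_num)⟩
      have := (hsq x).2
      rw [hxx, hone.2] at this
      exact pow_eq_zero_iff (by norm_num) |>.1 this.symm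
    · rintro ⟨hx, hx1⟩
      refine orderOf_eq_prime (he.1 (UT.ext ?_ ?_)) hx1
      · rw [pow_two, (hsq x).1, hone.1]
      · rw [pow_two, (hsq x).2, (hcen x).1 hx, hone.2]; ring
  have hZ4 : Nat.card (Subgroup.center G) = 4 := by
    rw [← hK]
    refine Nat.card_congr (Equiv.ofBijective (fun x => ⟨(e x.1).b, by
      have := (e x.1).rel
      rw [(hcen x.1).1 x.2] at this
      linear_combination this - (e x.1).b * h2⟩) ⟨?_, ?_⟩)
    · intro x y h
      exact Subtype.ext (he.1 (UT.ext (((hcen x.1).1 x.2).trans ((hcen y.1).1 y.2).symm)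
        (congrArg Subtype.val h)))
    · rintro ⟨b, hb⟩
      obtain ⟨x, hx⟩ := he.2 ⟨0, b, by linear_combination hb + b * h2⟩
      exact ⟨⟨x, (hcen x).2 (by rw [hx])⟩, Subtype.ext (by show (e x).b = b; rw [hx])⟩
  have hZsq : ∀ x : Subgroup.center G, x ^ 2 = 1 := fun x => by
    by_cases hx : (x : G) = 1
    · rw [show x = 1 from Subtype.ext hx, one_pow]
    · have h1 := pow_orderOf_eq_one (x : G)
      rw [(hinv _).2 ⟨x.2, hx⟩] at h1
      exact Subtype.ext h1
  refine ⟨hG, ?_, ?_, ?_, ?_, ?_⟩
  · refine ⟨hZ4, Nat.dvd_antisymm (Monoid.exponent_dvd_of_forall_pow_eq_one hZsq) ?_⟩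
    haveI : Nontrivial (Subgroup.center G) := Finite.one_lt_card_iff_nontrivial.1 (by omega)
    obtain ⟨x, hx⟩ := exists_ne (1 : Subgroup.center G)
    have hx2 := orderOf_eq_prime (hZsq x) hx
    exact hx2 ▸ Monoid.order_dvd_exponent x
  · refine le_antisymm (fun x hx => ?_) ((Subgroup.closure_le _).2 fun x hx => ((hinv x).1 hx).1)
    by_cases h : x = 1
    · exact h ▸ one_mem _
    · exact Subgroup.subset_closure ((hinv x).2 ⟨hx, h⟩)
  · refine le_antisymm (fun x hx => ?_) ?_
    · have hxa := (hcen x).1 hx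
      have hxb : (e x).b ^ 4 = (e x).b := by
        have := (e x).rel
        rw [hxa] at this
        linear_combination this - (e x).b * h2
      obtain ⟨c, hc⟩ := hsurj _ hxb
      obtain ⟨d, hd⟩ := hsurj ((1 : F) ^ 5) (by simp)
      obtain ⟨b, hb⟩ := hsurj (c ^ 5) (by
        rw [← pow_mul, show 5 * 4 = 16 + 4 by norm_num, pow_add, pow_sixteen hF]; ring)
      obtain ⟨g, hg⟩ := he.2 ⟨1, d, hd⟩
      obtain ⟨k, hk⟩ := he.2 ⟨c, b, hb⟩
      have hmem : ⁅g, k⁆ = x := by
        have hz : g * k = x * (k * g) := by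
          refine he.1 (UT.ext ?_ ?_)
          · rw [(hm g k).1, (hm x _).1, (hm k g).1, hxa]; ring
          · rw [(hm g k).2, (hm x _).2, (hm k g).2, (hm k g).1, hxa, hg, hk, ← hc]
            linear_combination (-c) * h2
        rw [commutatorElement_def, hz]; group
      exact hmem ▸ Subgroup.commutator_mem_commutator (Subgroup.mem_top g) (Subgroup.mem_top k)
    · rw [commutator_def, Subgroup.commutator_le]
      intro g _ k _
      rw [hcen]
      have h1 := (hm ⁅g, k⁆ (k * g)).1
      rw [show ⁅g, k⁆ * (k * g) = g * k by rw [commutatorElement_def]; group, (hm g k).1,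
        (hm k g).1] at h1
      linear_combination -h1
  · have := Subgroup.card_eq_card_quotient_mul_card_subgroup (Subgroup.center G)
    rw [hG, hZ4] at this
    omega
  · intro x
    induction x using QuotientGroup.induction_on with
    | _ g =>
      rw [← QuotientGroup.mk_pow, QuotientGroup.eq_one_iff, hcen, pow_two]
      exact (hsq g).1

theorem card_PSU_three_four (hF : Fintype.card F = 16) : Nat.card (Cfsg.PSU 3 F 4) = 62400 := by
  have hF2 : Fintype.card F = 4 ^ 2 := by rw [hF]; norm_num
  have h := card_center_mul_card_PSU hF2 (n := 3) (by norm_num)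
  rw [card_GU hF2] at h
  norm_num [Finset.prod_range_succ, Nat.even_iff] at h
  omega
/-- Let F be a field with 16 elements and S a Sylow 2-subgroup of PSU(3) over F (the unitary group U₃(4)). Then |S| = 64; the centre Z(S) is a Klein four-group and coincides with the subgroup generated by the involutions of S and with the derived subgroup; and every element of S ⧸ Z(S) squares to the identity, S ⧸ Z(S) having order 16. -/
theorem result {F : Type*} [Field F] [Fintype F] (hF : Fintype.card F = 16) (S : Sylow 2 (Cfsg.PSU 3 F 4)) : Nat.card S = 64 ∧ IsKleinFour (Subgroup.center (S : Subgroup (Cfsg.PSU 3 F 4))) ∧ Subgroup.center (S : Subgroup (Cfsg.PSU 3 F 4)) = Subgroup.closure {x : (S : Subgroup (Cfsg.PSU 3 F 4)) | orderOf x = 2} ∧ Subgroup.center (S : Subgroup (Cfsg.PSU 3 F 4)) = commutator (S : Subgroup (Cfsg.PSU 3 F 4)) ∧ Nat.card ((S : Subgroup (Cfsg.PSU 3 F 4)) ⧸ Subgroup.center (S : Subgroup (Cfsg.PSU 3 F 4))) = 16 ∧ ∀ x : (S : Subgroup (Cfsg.PSU 3 F 4)) ⧸ Subgroup.center (S : Subgroup (Cfsg.PSU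 3 F 4)), x ^ 2 = 1 := by
  classical
  obtain ⟨W, e, he, hm⟩ := exists_model hF
  haveI : Finite (Cfsg.PSU 3 F 4) := Quotient.finite _
  have hW : Nat.card W = 64 := (Nat.card_congr (Equiv.ofBijective e he)).trans (card_UT hF)
  haveI : Fact (Nat.Prime 2) := ⟨Nat.prime_two⟩
  have hfac : Nat.card W = 2 ^ (Nat.card (Cfsg.PSU 3 F 4)).factorization 2 := by
    rw [hW, card_PSU_three_four hF]
    have h : (62400 : ℕ).factorization 2 = 6 := by
      rw [show (62400 : ℕ) = 2 ^ 6 * 975 by norm_num,
        Nat.factorization_mul (by norm_num) (by norm_num), Finsupp.add_apply,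
        Nat.Prime.factorization_pow Nat.prime_two, Finsupp.single_eq_same,
        Nat.factorization_eq_zero_of_not_dvd (by norm_num : ¬ 2 ∣ 975)]
    rw [h]; norm_num
  let f : (S : Subgroup (Cfsg.PSU 3 F 4)) ≃* W := S.equiv (Sylow.ofCard W hfac)
  refine facts hF (e ∘ f) (he.comp f.bijective) fun x y => ?_
  simp only [Function.comp_apply, map_mul]
  exact hm _ _

end Cfsg.Agent.S1248
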