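import Cfsg.Statements.S1249
import Cfsg.Agent.Lib.Involutions.StronglyEmbedded
-- Template for statement S1249 (row 1249; see /opt/grader/pristine/manifest.json for weights).
-- Copy to Cfsg/Agent/S1249.lean and replace the sorry. The statement below is byte-identical to the frozen
-- statement Cfsg.CfsgFrozen.S1249 (Cfsg/Statements/S1249.lean; the theorem Cfsg.strongly_closed_independent_of_sylow);
-- the grader kernel-checks Cfsg.Agent.S1249.result against that frozen type. Keep the theorem IN THIS FILE
-- (a `result` declared elsewhere and merely imported here is not credited); helpers may live anywhere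
-- under Cfsg/Agent/.
-- import your own Cfsg.Agent.* helpers here

set_option autoImplicit false
open Cfsg

namespace Cfsg.Agent.S1249

open Cfsg.Agent.Lib.Involutions

/-- Let P and Q be Sylow p-subgroups of the finite group G both containing the subgroup A. If A is strongly closed in P, then A is strongly closed in Q. -/
theorem result {G : Type*} [Group G] [Finite G] {p : ℕ} [Fact p.Prime] (P Q : Sylow p G) (A : Subgroup G) (hAQ : A ≤ Q) (hA : Cfsg.IsStronglyClosed A (P : Subgroup G)) : Cfsg.IsStronglyClosed A (Q : Subgroup G) := by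
  obtain ⟨x, rfl⟩ := MulAction.exists_smul_eq G P Q
  rw [sylow_map_conj] at hAQ ⊢
  have hx : ∀ a ∈ A, x⁻¹ * a * x ∈ A := fun a ha => by
    have := hA.2 a ha x⁻¹ (by rw [inv_inv]; exact mem_conj_map_iff.1 (hAQ ha))
    rwa [inv_inv] at this
  have hx' : x⁻¹ ∈ Subgroup.normalizer (A : Set G) := by
    rw [mem_normalizer_iff_map_conj]
    refine Subgroup.eq_of_le_of_card_ge ?_
      (Subgroup.card_map_of_injective (MulAut.conj x⁻¹).injective).ge
    rintro _ ⟨a, ha, rfl⟩
    simpa using hx a ha
  refine ⟨hAQ, fun a ha g hg => ?_⟩
  rw [mem_conj_map_iff] at hg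
  have h1 := hA.2 a ha (x⁻¹ * g) (by simpa [mul_assoc] using hg)
  have h2 := (Subgroup.mem_set_normalizer_iff.1 (inv_mem hx') _).1 h1
  simpa [mul_assoc] using h2

end Cfsg.Agent.S1249
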