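import Cfsg.Statements.S1250
import Cfsg.Agent.Lib.Involutions.StronglyEmbedded
-- Template for statement S1250 (row 1250; see /opt/grader/pristine/manifest.json for weights).
-- Copy to Cfsg/Agent/S1250.lean and replace the sorry. The statement below is byte-identical to the frozen
-- statement Cfsg.CfsgFrozen.S1250 (Cfsg/Statements/S1250.lean; the theorem Cfsg.strongly_closed_image_in_quotient);
-- the grader kernel-checks Cfsg.Agent.S1250.result against that frozen type. Keep the theorem IN THIS FILE
-- (a `result` declared elsewhere and merely imported here is not credited); helpers may live anywhere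
-- under Cfsg/Agent/.
-- import your own Cfsg.Agent.* helpers here

set_option autoImplicit false
open Cfsg

namespace Cfsg.Agent.S1250

open Cfsg.Agent.Lib.Involutions

/-- Let S be a Sylow p-subgroup of the finite group G, A ≤ S strongly closed in S, and N a normal subgroup. Then the image of A in G ⧸ N is strongly closed in the image of S (which is a Sylow p-subgroup of G ⧸ N). -/
theorem result {G : Type*} [Group G] [Finite G] {p : ℕ} [Fact p.Prime] (S : Sylow p G) (A : Subgroup G) (hA : Cfsg.IsStronglyClosed A (S : Subgroup G)) (N : Subgroup G) [N.Normal] : Cfsg.IsStronglyClosed (A.map (QuotientGroup.mk' N)) ((S : Subgroup G).map (QuotientGroup.mk' N)) := by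
  refine ⟨Subgroup.map_mono hA.1, ?_⟩
  rintro _ ⟨a, ha, rfl⟩ x hx
  obtain ⟨g, rfl⟩ := QuotientGroup.mk_surjective x
  obtain ⟨s, hs, hsx⟩ := hx
  set y := g * a * g⁻¹ with hy
  have heq : QuotientGroup.mk' N y = QuotientGroup.mk' N s := by
    rw [hsx]; simp [y]
  have hyK : y ∈ (S : Subgroup G) ⊔ N := by
    have h1 : s⁻¹ * y ∈ N := QuotientGroup.eq.1 heq.symm
    have h2 := Subgroup.mul_mem_sup hs h1
    rwa [mul_inv_cancel_left] at h2
  have hyp : IsPGroup p (Subgroup.zpowers y) := by
    refine ((S.2.to_le hA.1).map (MulAut.conj g).toMonoidHom).to_le ?_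
    rw [Subgroup.zpowers_le]
    exact conj_mem_map ha
  obtain ⟨c, hc, hcS⟩ := exists_conj_le_of_sylow_le S le_sup_left hyp (Subgroup.zpowers_le.2 hyK)
  obtain ⟨s₁, hs₁, n, hn, rfl⟩ := Subgroup.mem_sup_of_normal_right.1 hc
  have h1 := hcS (conj_mem_map (Subgroup.mem_zpowers y))
  have h2 : n * y * n⁻¹ ∈ (S : Subgroup G) := by
    have := mul_mem (mul_mem (inv_mem hs₁) h1) hs₁
    simpa [mul_assoc] using this
  have h3 := hA.2 a ha (n * g) (by simpa [y, mul_assoc] using h2)
  refine ⟨_, h3, ?_⟩
  have hn' : (QuotientGroup.mk' N) n = 1 := (QuotientGroup.eq_one_iff n).2 hn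
  simp only [map_mul, map_inv, hn', one_mul]
  rfl

end Cfsg.Agent.S1250
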