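import Cfsg.Statements.S1251
import Mathlib
import Cfsg.Agent.Lib.Involutions.ZStar
import Cfsg.Agent.S1249
import Cfsg.Agent.Lib.Fusion.GroupSystem
-- import your own Cfsg.Agent.* helpers here

set_option autoImplicit false
set_option maxHeartbeats 400000
open Cfsg

namespace Cfsg.Agent.S1251

open Cfsg.Agent.Lib.Involutions

/-- Let S be a Sylow 2-subgroup of the finite group G and A ≤ S strongly closed in S. If H is a subgroup normalized by A with no nontrivial normal subgroup of odd order and A ∩ H = 1, then A ≤ C_G(H). -/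
theorem result {G : Type*} [Group G] [Finite G] (S : Sylow 2 G) (A : Subgroup G) (hA : Cfsg.IsStronglyClosed A (S : Subgroup G)) (H : Subgroup G) (hAH : A ≤ Subgroup.normalizer (H : Set G)) (hO : Cfsg.oddCore ↥H = ⊥) (hdisj : A ⊓ H = ⊥) : A ≤ Subgroup.centralizer (H : Set G) := by
  have : Fact (Nat.Prime 2) := ⟨Nat.prime_two⟩
  intro a ha
  rw [Subgroup.mem_centralizer_iff]
  intro h hh
  set K := H ⊔ Subgroup.zpowers a with hK
  have haK : a ∈ K := Subgroup.mem_sup_right (Subgroup.mem_zpowers a)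
  have hHK : H ≤ K := le_sup_left
  have hn : Subgroup.zpowers a ≤ Subgroup.normalizer (H : Set G) :=
    (Subgroup.zpowers_le.2 ha).trans hAH
  have hHn : (H.subgroupOf K).Normal := by
    rw [hK, sup_comm]; exact Subgroup.normal_subgroupOf_sup_of_le_normalizer hn
  have hdec : ∀ k : K, ∃ v ∈ H, ∃ i : ℤ, (k : G) = v * a ^ i := by
    intro k
    have hk : (k : G) ∈ ((H ⊔ Subgroup.zpowers a : Subgroup G) : Set G) := k.2
    rw [Subgroup.coe_mul_of_right_le_normalizer_left _ _ hn, Set.mem_mul] at hk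
    obtain ⟨v, hv, w, hw, hvw⟩ := hk
    obtain ⟨i, rfl⟩ := Subgroup.mem_zpowers_iff.1 hw
    exact ⟨v, hv, i, hvw.symm⟩
  -- a Sylow subgroup of `G` containing `A` and meeting `H` in a Sylow subgroup
  set K' := H ⊔ A with hK'
  have hAK' : A ≤ K' := le_sup_right
  obtain ⟨R, hR⟩ := ((S.2.to_le hA.1).comap_subtype (K := K')).exists_le_sylow
  obtain ⟨T, hT⟩ := (R.2.map K'.subtype).exists_le_sylow
  have hAT : A ≤ (T : Subgroup G) := fun b hb => hT ⟨⟨b, hAK' hb⟩, hR (Subgroup.mem_subgroupOf.2 hb), rfl⟩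
  have hAsc := Cfsg.Agent.S1249.result S T A hAT hA
  have hHn' : (H.subgroupOf K').Normal := by
    rw [hK', sup_comm]; exact Subgroup.normal_subgroupOf_sup_of_le_normalizer hAH
  obtain ⟨RH, hRH⟩ := Cfsg.Agent.Lib.Fusion.exists_sylow_subgroupOf_normal R (H.subgroupOf K')
  obtain ⟨U, hU⟩ := ((T.2.comap_subtype (K := K))).exists_le_sylow
  have haU : (⟨a, haK⟩ : K) ∈ (U : Subgroup K) := hU (Subgroup.mem_subgroupOf.2 (hAT ha))
  -- `U ⊓ H` is a `2`-subgroup containing a Sylow subgroup of `H`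
  set e : H.subgroupOf K' →* G := K'.subtype.comp (H.subgroupOf K').subtype with he
  have hUH : ∀ v ∈ H, ∀ hvK : v ∈ K, (⟨v, hvK⟩ : K) ∈ (U : Subgroup K) → v ∈ (T : Subgroup G) := by
    intro v hv hvK hvU
    set U' := ((U : Subgroup K).map K.subtype).comap e with hU'
    have hU'p : IsPGroup 2 U' := (U.2.map K.subtype).comap_of_injective e
      (K'.subtype_injective.comp (H.subgroupOf K').subtype_injective)
    have hle : (RH : Subgroup (H.subgroupOf K')) ≤ U' := by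
      intro w hw
      rw [hRH, Subgroup.mem_subgroupOf] at hw
      have hwT : ((w : K') : G) ∈ (T : Subgroup G) := hT ⟨_, hw, rfl⟩
      exact ⟨⟨_, hHK w.2⟩, hU (Subgroup.mem_subgroupOf.2 hwT), rfl⟩
    have heq : U' = (RH : Subgroup (H.subgroupOf K')) := RH.3 hU'p hle
    have hv' : (⟨⟨v, Subgroup.mem_sup_left hv⟩, hv⟩ : H.subgroupOf K') ∈ U' :=
      ⟨_, hvU, rfl⟩
    rw [heq, hRH, Subgroup.mem_subgroupOf] at hv'
    exact hT ⟨_, hv', rfl⟩
  have hUT : ∀ u ∈ (U : Subgroup K), (u : G) ∈ (T : Subgroup G) := by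
    intro u hu
    obtain ⟨v, hv, i, hvi⟩ := hdec u
    have hai : a ^ i ∈ (T : Subgroup G) := zpow_mem (hAT ha) i
    have hvU : (⟨v, hHK hv⟩ : K) ∈ (U : Subgroup K) := by
      have h1 := mul_mem hu (inv_mem (zpow_mem haU i))
      convert h1 using 1
      exact Subtype.ext (by simp [hvi])
    rw [hvi]
    exact mul_mem (hUH v hv _ hvU) hai
  have hrel : ∀ k : K, ∀ m : ℕ,
      k * (⟨a, haK⟩ : K) ^ m * k⁻¹ ∈ (U : Subgroup K) →
      k * (⟨a, haK⟩ : K) ^ m * k⁻¹ = (⟨a, haK⟩ : K) ^ m := by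
    intro k m hm
    apply Subtype.ext
    show (k : G) * a ^ m * (k : G)⁻¹ = a ^ m
    have hmemA : (k : G) * a ^ m * (k : G)⁻¹ ∈ A :=
      hAsc.2 _ (pow_mem ha m) k (hUT _ hm)
    obtain ⟨v, hv, i, hvi⟩ := hdec k
    have e : (k : G) * a ^ m * (k : G)⁻¹ = (v * a ^ m * v⁻¹ * (a ^ m)⁻¹) * a ^ m := by
      rw [hvi]; group
    have hH : v * a ^ m * v⁻¹ * (a ^ m)⁻¹ ∈ A ⊓ H := by
      refine ⟨?_, ?_⟩
      · have := mul_mem hmemA (inv_mem (pow_mem ha m))
        rwa [e, mul_inv_cancel_right] at this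
      · have h5 := (Subgroup.mem_set_normalizer_iff.1 (hAH (pow_mem ha m)) v⁻¹).1 (inv_mem hv)
        simpa [mul_assoc] using mul_mem hv h5
    rw [hdisj, Subgroup.mem_bot] at hH
    rw [e, hH, one_mul]
  have hcore := central_mod_core_of_alone U haU (fun m g => hrel g m) ⟨h, hHK hh⟩
  -- the commutator lies in `O(K) ∩ H`
  set N := ((Cfsg.oddCore K).map K.subtype).subgroupOf H with hN
  have hNn : N.Normal := ⟨fun w hw b => by
    obtain ⟨u, hu, hue⟩ := hw
    refine ⟨⟨b, hHK b.2⟩ * u * ⟨b, hHK b.2⟩⁻¹,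
      (inferInstance : (Cfsg.oddCore K).Normal).conj_mem u hu _, ?_⟩
    have hue' : (u : G) = (w : G) := hue
    simp [hue']⟩
  have hNodd : Odd (Nat.card N) := by
    refine (Cfsg.Agent.Lib.Cores.odd_card_oddCore K).of_dvd_nat ?_
    rw [← Subgroup.card_map_of_injective (K := Cfsg.oddCore K) (f := K.subtype) K.subtype_injective]
    exact Subgroup.card_comap_dvd_of_injective _ _ H.subtype_injective
  have hNbot : N = ⊥ := le_bot_iff.1 (hO ▸ Cfsg.Agent.Lib.Cores.le_oddCore hNn hNodd)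
  have hmemH : h * a * h⁻¹ * a⁻¹ ∈ H := by
    have h5 := (Subgroup.mem_set_normalizer_iff.1 (hAH ha) h⁻¹).1 (inv_mem hh)
    simpa [mul_assoc] using mul_mem hh h5
  have : (⟨_, hmemH⟩ : H) ∈ N := Subgroup.mem_subgroupOf.2 ⟨_, hcore, rfl⟩
  rw [hNbot, Subgroup.mem_bot] at this
  exact mul_inv_eq_iff_eq_mul.1 (mul_inv_eq_one.1 (congrArg Subtype.val this))

end Cfsg.Agent.S1251
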