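import Cfsg.Statements.S1253
import Mathlib
import Cfsg.Agent.Lib.Involutions.ZStar
import Cfsg.Agent.S1187
-- import your own Cfsg.Agent.* helpers here

set_option autoImplicit false
open Cfsg

namespace Cfsg.Agent.S1253

open Cfsg.Agent.Lib.Involutions

/-- Let z be an isolated involution of the finite group G with centralizer C, p an odd prime and P a Sylow p-subgroup of G normalized by z. Then P ∩ C has p-power-free index in C (it is a Sylow p-subgroup of C), and |P : C_P(z)| equals the number of elements x ∈ P with z x z⁻¹ = x⁻¹. -/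
theorem result {G : Type*} [Group G] [Finite G] (z : G) (hz : Cfsg.IsIsolatedInvolution z) {p : ℕ} [Fact p.Prime] (hp : p ≠ 2) (P : Sylow p G) (hzP : z ∈ Subgroup.normalizer ((P : Subgroup G) : Set G)) : ¬ p ∣ ((P : Subgroup G) ⊓ Subgroup.centralizer ({z} : Set G)).relIndex (Subgroup.centralizer ({z} : Set G)) ∧ ((P : Subgroup G) ⊓ Subgroup.centralizer ({z} : Set G)).relIndex (P : Subgroup G) = Nat.card {x : G // x ∈ P ∧ z * x * z⁻¹ = x⁻¹} := by
  classical
  set C := Subgroup.centralizer ({z} : Set G) with hC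
  have hodd : ∀ x ∈ (P : Subgroup G), Odd (orderOf x) := by
    intro x hx
    obtain ⟨k, hk⟩ := IsPGroup.iff_orderOf.1 P.2 ⟨x, hx⟩
    rw [← Subgroup.orderOf_coe] at hk
    rw [show orderOf x = p ^ k from hk]
    exact ((Fact.out : p.Prime).odd_of_ne_two hp).pow
  refine ⟨?_, ?_⟩
  · obtain ⟨R⟩ : Nonempty (Sylow p C) := inferInstance
    set R' := (R : Subgroup C).map C.subtype with hR'
    have hzR : z ∈ Subgroup.normalizer (R' : Set G) := Subgroup.mem_set_normalizer_iff.2 fun n => by
      constructor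
      · intro hn
        rw [← Subgroup.mem_centralizer_singleton_iff.1 (Subgroup.map_subtype_le _ hn),
          mul_inv_cancel_right]
        exact hn
      · intro hn
        have h1 := Subgroup.mem_centralizer_singleton_iff.1 (Subgroup.map_subtype_le _ hn)
        rw [inv_mul_cancel_right, mul_assoc z n z⁻¹] at h1
        have h2 := mul_left_cancel h1
        rwa [mul_assoc z n z⁻¹, ← h2] at hn
    obtain ⟨M, hRM, ⟨hMp, hzM⟩, hMmax⟩ := Finite.exists_le_maximal
      (p := fun M : Subgroup G => IsPGroup p M ∧ z ∈ Subgroup.normalizer (M : Set G))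
      ⟨R.2.map C.subtype, hzR⟩
    obtain ⟨T, hT⟩ := Cfsg.Agent.S1187.result z hz M hMp hzM fun N hN hzN hMN =>
      le_antisymm (hMmax ⟨hN, hzN⟩ hMN) hMN
    obtain ⟨c, hc, hcT⟩ := exists_centralizer_conj hz T P (hT ▸ hzM) hzP
    have hle : (R' : Subgroup G).map (MulAut.conj c).toMonoidHom ≤ (P : Subgroup G) ⊓ C := by
      rintro _ ⟨x, hx, rfl⟩
      refine ⟨?_, C.mul_mem (C.mul_mem hc (Subgroup.map_subtype_le _ hx)) (C.inv_mem hc)⟩
      rw [← hcT, sylow_map_conj]
      exact ⟨x, hT ▸ hRM hx, rfl⟩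
    set D := ((P : Subgroup G) ⊓ C).subgroupOf C
    have hD : IsPGroup p D := (P.2.to_le inf_le_left).comap_subtype
    obtain ⟨U, hU⟩ := hD.exists_le_sylow
    have hcard : Nat.card (R : Subgroup C) ≤ Nat.card D := by
      rw [← Subgroup.card_map_of_injective (K := (R : Subgroup C)) (f := C.subtype)
        C.subtype_injective, ← Subgroup.card_map_of_injective
        (K := (R : Subgroup C).map C.subtype) (f := (MulAut.conj c).toMonoidHom)
        (MulAut.conj c).injective,
        Nat.card_congr (Subgroup.subgroupOfEquivOfLe (inf_le_right : (P : Subgroup G) ⊓ C ≤ C)).toEquiv]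
      exact Subgroup.card_le_of_le hle
    have hDU : D = U := Subgroup.eq_of_le_of_card_ge hU (by
      rw [Nat.card_congr (Sylow.equiv U R).toEquiv]; exact hcard)
    show ¬ p ∣ D.index
    rw [hDU]
    exact U.not_dvd_index
  · let f : {x : G // x ∈ P ∧ z * x * z⁻¹ = x⁻¹} →
        ↥(P : Subgroup G) ⧸ ((P : Subgroup G) ⊓ C).subgroupOf (P : Subgroup G) :=
      fun x => QuotientGroup.mk ⟨x.1, x.2.1⟩
    refine (Nat.card_eq_of_bijective f ⟨?_, ?_⟩).symm
    · rintro ⟨x, hxP, hxi⟩ ⟨y, hyP, hyi⟩ hxy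
      have h1 := (Subgroup.mem_subgroupOf.1 (QuotientGroup.eq.1 hxy)).2
      simp only [Subgroup.coe_mul, Subgroup.coe_inv] at h1
      replace h1 : x⁻¹ * y * z = z * (x⁻¹ * y) := Subgroup.mem_centralizer_singleton_iff.1 h1
      have h2 : x * z * x⁻¹ = y * z * y⁻¹ := by
        calc x * z * x⁻¹ = x * (z * (x⁻¹ * y)) * y⁻¹ := by group
          _ = y * z * y⁻¹ := by rw [← h1]; group
      rw [sq_mul_of_inverts hxi, sq_mul_of_inverts hyi] at h2
      exact Subtype.ext (sq_inj_of_odd (hodd x hxP) (hodd y hyP) (mul_right_cancel h2))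
    · intro q
      obtain ⟨⟨g, hg⟩, rfl⟩ := QuotientGroup.mk_surjective q
      obtain ⟨k, -, hki, hksq, hk⟩ := exists_sqrt_conj hz g
      have hkP : k ∈ (P : Subgroup G) := by
        refine (Subgroup.zpowers_le.2 ?_) hk
        have h1 := (Subgroup.mem_set_normalizer_iff.1 hzP g⁻¹).1 (inv_mem hg)
        rw [invol_inv hz.1] at h1
        simpa [mul_assoc] using mul_mem hg h1
      refine ⟨⟨k, hkP, hki⟩, QuotientGroup.eq.2 (Subgroup.mem_subgroupOf.2
        ⟨(P : Subgroup G).mul_mem ((P : Subgroup G).inv_mem hkP) hg, ?_⟩)⟩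
      show k⁻¹ * g ∈ C
      rw [hC, Subgroup.mem_centralizer_singleton_iff]
      rw [← sq_mul_of_inverts hki] at hksq
      calc k⁻¹ * g * z = k⁻¹ * (g * z * g⁻¹) * g := by group
        _ = z * (k⁻¹ * g) := by rw [← hksq]; group

end Cfsg.Agent.S1253
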