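import Cfsg.Statements.S1254
import Cfsg.Agent.Lib.Involutions.DihedralKlein
import Cfsg.Agent.Lib.Involutions.BaerSuzuki
-- Template for statement S1254 (row 1254; see /opt/grader/pristine/manifest.json for weights).
-- Copy to Cfsg/Agent/S1254.lean and replace the sorry. The statement below is byte-identical to the frozen
-- statement Cfsg.CfsgFrozen.S1254 (Cfsg/Statements/S1254.lean; the theorem Cfsg.dihedral_sylow_normal_two_complement_iff_four_group_normalizers);
-- the grader kernel-checks Cfsg.Agent.S1254.result against that frozen type. Keep the theorem IN THIS FILE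
-- (a `result` declared elsewhere and merely imported here is not credited); helpers may live anywhere
-- under Cfsg/Agent/.
-- import your own Cfsg.Agent.* helpers here

set_option autoImplicit false
open Cfsg

namespace Cfsg.Agent.S1254

open Cfsg.Agent.Lib.Involutions

/-- Let X be a finite group whose Sylow 2-subgroup S is dihedral (of order at least 4). Then X has a normal 2-complement if and only if, for every Klein four-subgroup U ≤ S, the normalizer N_X(U) is generated by C_X(U) and N_S(U). -/
theorem result {X : Type*} [Group X] [Finite X] (S : Sylow 2 X) (m : ℕ) (hm : 2 ≤ m) (eS : (S : Subgroup X) ≃* DihedralGroup m) : Cfsg.HasNormalPComplement 2 X ↔ ∀ U : Subgroup X, U ≤ S → IsKleinFour U → Subgroup.normalizer (U : Set X) = Subgroup.centralizer (U : Set X) ⊔ ((S : Subgroup X) ⊓ Subgroup.normalizer (U : Set X)) := by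
  have : Fact (Nat.Prime 2) := ⟨Nat.prime_two⟩
  set d := DihSylow.ofEquiv S hm eS with hd
  constructor
  · intro h U hUS hU
    have hle : Subgroup.centralizer (U : Set X) ≤ Subgroup.normalizer (U : Set X) := fun x hx =>
      Subgroup.mem_normalizer_iff.2 fun u =>
        ⟨fun hu => by rw [← hx u hu, mul_inv_cancel_right]; exact hu, fun hu => by
          have hh := hx _ hu
          have : x * u * x⁻¹ = u := mul_left_cancel (hh.symm.trans (by group))
          rwa [this] at hu⟩
    refine le_antisymm (fun g hg => ?_) (sup_le hle inf_le_right)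
    set K := Cfsg.pResidual 2 X with hK
    have hKn : K.Normal := Cfsg.Agent.Lib.Transfer.pResidual_normal
    have hbot : (S : Subgroup X) ⊓ K = ⊥ :=
      (Cfsg.Agent.Lib.Transfer.hasNormalPComplement_iff_inf_eq_bot S).1 h
    have hg' : g ∈ (S : Subgroup X) ⊔ K := by
      rw [Cfsg.Agent.Lib.Transfer.sylow_sup_pResidual]; trivial
    obtain ⟨c, hc, k, hk, rfl⟩ := Subgroup.mem_sup_of_normal_right.1 hg'
    have key : ∀ u ∈ U, k * u * k⁻¹ = u := by
      intro u hu
      have h1 : k * u * k⁻¹ * u⁻¹ ∈ (S : Subgroup X) ⊓ K := by
        refine Subgroup.mem_inf.2 ⟨mul_mem ?_ (inv_mem (hUS hu)), ?_⟩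
        · have e : k * u * k⁻¹ = c⁻¹ * (c * k * u * (c * k)⁻¹) * c := by group
          rw [e]
          exact mul_mem (mul_mem (inv_mem hc) (hUS ((Subgroup.mem_normalizer_iff.1 hg u).1 hu))) hc
        · rw [show k * u * k⁻¹ * u⁻¹ = k * (u * k⁻¹ * u⁻¹) by group]
          exact mul_mem hk (hKn.conj_mem _ (inv_mem hk) u)
      rwa [hbot, Subgroup.mem_bot, mul_inv_eq_one] at h1
    have hkC : k ∈ Subgroup.centralizer (U : Set X) := fun u hu =>
      (mul_inv_eq_iff_eq_mul.1 (key u hu)).symm
    refine mul_mem (Subgroup.mem_sup_right (Subgroup.mem_inf.2 ⟨hc, ?_⟩)) (Subgroup.mem_sup_left hkC)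
    have : c = c * k * k⁻¹ := by group
    rw [this]
    exact mul_mem hg (inv_mem (hle hkC))
  · intro h
    refine d.hasNormalPComplement_of_not_fused fun i hi => ?_
    set z := d.ι (DihedralGroup.r (DihSylow.half m)) with hz
    obtain ⟨g, hg⟩ := isConj_iff.1 hi
    -- move the four-group of the reflection into the Sylow subgroup, fixing `z`
    have hSC : (d.S : Subgroup X) ≤ Subgroup.centralizer ({z} : Set X) := fun x hx =>
      Subgroup.mem_centralizer_singleton_iff.2 (d.half_central hx).symm
    have hV := d.isKleinFour_klein i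
    have hV' := isKleinFour_map hV (MulAut.conj g).toMonoidHom (MulAut.conj g).injective
    have hVC : (d.klein i).map (MulAut.conj g).toMonoidHom ≤ Subgroup.centralizer ({z} : Set X) := by
      rintro _ ⟨x, hx, rfl⟩
      rw [Subgroup.mem_centralizer_singleton_iff, ← hg]
      show MulAut.conj g x * MulAut.conj g (d.ι (DihedralGroup.sr i)) =
        MulAut.conj g (d.ι (DihedralGroup.sr i)) * MulAut.conj g x
      rw [← map_mul, ← map_mul, isKleinFour_comm hV hx (d.sr_mem_klein i)]
    obtain ⟨c, hcC, hc⟩ := exists_conj_le_of_sylow_le d.S hSC (klein_isPGroup hV') hVC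
    rw [map_conj_map_conj] at hc
    set g' := c * g with hg'
    have hgz : g' * d.ι (DihedralGroup.sr i) * g'⁻¹ = z := by
      calc g' * d.ι (DihedralGroup.sr i) * g'⁻¹ = c * (g * d.ι (DihedralGroup.sr i) * g⁻¹) * c⁻¹ := by
            rw [hg']; group
        _ = z := by rw [hg, Subgroup.mem_centralizer_singleton_iff.1 hcC, mul_inv_cancel_right]
    -- the image is conjugate to the original inside the Sylow subgroup
    obtain ⟨s, hs, hsV⟩ : ∃ s ∈ (d.S : Subgroup X),
        (d.klein i).map (MulAut.conj (s * g')).toMonoidHom = d.klein i := by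
      have hW := isKleinFour_map hV (MulAut.conj g').toMonoidHom (MulAut.conj g').injective
      obtain ⟨a, ha, hac⟩ := d.klein_class hW hc
      obtain ⟨b, hb, hbc⟩ := d.klein_class hV (d.klein_le i)
      refine ⟨b⁻¹ * a, mul_mem (inv_mem hb) ha, ?_⟩
      rw [← map_conj_map_conj, ← map_conj_map_conj (a := a)]
      rcases hac with hac | hac <;> rcases hbc with hbc | hbc
      · rw [hac, eq_map_conj_of_map_conj_eq hbc]
      · rcases Nat.lt_or_ge m 4 with hm4 | hm4
        · have hle : (d.klein 1 : Subgroup X) = d.klein 0 := by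
            refine (Subgroup.eq_of_le_of_card_ge (d.klein_le 1) ?_).trans
              (Subgroup.eq_of_le_of_card_ge (d.klein_le 0) ?_).symm <;>
            · rw [(d.isKleinFour_klein _).card_four, d.card_S]
              obtain ⟨k, hk⟩ := d.even_m
              omega
          rw [hac, ← hle, eq_map_conj_of_map_conj_eq hbc]
        · exfalso
          rw [map_conj_map_conj] at hac
          apply d.klein_not_conj hm4 (b * (a * g')⁻¹)
          rw [← map_conj_map_conj, eq_map_conj_of_map_conj_eq hac, hbc]
      · rcases Nat.lt_or_ge m 4 with hm4 | hm4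
        · have hle : (d.klein 1 : Subgroup X) = d.klein 0 := by
            refine (Subgroup.eq_of_le_of_card_ge (d.klein_le 1) ?_).trans
              (Subgroup.eq_of_le_of_card_ge (d.klein_le 0) ?_).symm <;>
            · rw [(d.isKleinFour_klein _).card_four, d.card_S]
              obtain ⟨k, hk⟩ := d.even_m
              omega
          rw [hac, hle, eq_map_conj_of_map_conj_eq hbc]
        · exfalso
          rw [map_conj_map_conj] at hac
          apply d.klein_not_conj hm4 (a * g' * b⁻¹)
          rw [← map_conj_map_conj, eq_map_conj_of_map_conj_eq hbc, hac]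
      · rw [hac, eq_map_conj_of_map_conj_eq hbc]
    have hN : s * g' ∈ Subgroup.normalizer (d.klein i : Set X) :=
      (mem_normalizer_iff_map_conj).2 hsV
    rw [h (d.klein i) (d.klein_le i) hV] at hN
    have hle : Subgroup.centralizer (d.klein i : Set X) ⊔
        ((S : Subgroup X) ⊓ Subgroup.normalizer (d.klein i : Set X)) ≤
        Subgroup.centralizer ({z} : Set X) :=
      sup_le (Subgroup.centralizer_le (Set.singleton_subset_iff.2 (d.half_mem_klein i)))
        (inf_le_left.trans hSC)
    have hg'C : g' ∈ Subgroup.centralizer ({z} : Set X) := by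
      have := mul_mem (inv_mem (hSC hs)) (hle hN)
      rwa [inv_mul_cancel_left] at this
    have heq : d.ι (DihedralGroup.sr i) = z := by
      have h1 : g' * z * g'⁻¹ = z := by
        rw [Subgroup.mem_centralizer_singleton_iff.1 hg'C, mul_inv_cancel_right]
      exact mul_left_cancel (mul_right_cancel (hgz.trans h1.symm))
    exact nomatch d.inj heq

end Cfsg.Agent.S1254
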