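import Cfsg.Statements.S1255
import Cfsg.Agent.Lib.Involutions.DihedralKlein
-- Template for statement S1255 (row 1255; see /opt/grader/pristine/manifest.json for weights).
-- Copy to Cfsg/Agent/S1255.lean and replace the sorry. The statement below is byte-identical to the frozen
-- statement Cfsg.CfsgFrozen.S1255 (Cfsg/Statements/S1255.lean; the theorem Cfsg.dihedral_sylow_fusion_simple_iff);
-- the grader kernel-checks Cfsg.Agent.S1255.result against that frozen type. Keep the theorem IN THIS FILE
-- (a `result` declared elsewhere and merely imported here is not credited); helpers may live anywhere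
-- under Cfsg/Agent/.
-- import your own Cfsg.Agent.* helpers here

set_option autoImplicit false
open Cfsg

namespace Cfsg.Agent.S1255

open Cfsg.Agent.Lib.Involutions

/-- Let X be a finite group whose Sylow 2-subgroup S is dihedral of order 2m ≥ 4. Then X has no subgroup of index 2 and no isolated involution if and only if either all involutions of X are conjugate, or for every Klein four-subgroup U ≤ S the index |N_X(U) : C_X(U)| equals 3 when |S| = 4 and equals 6 when |S| > 4. -/
theorem result {X : Type*} [Group X] [Finite X] (S : Sylow 2 X) (m : ℕ) (hm : 2 ≤ m) (eS : (S : Subgroup X) ≃* DihedralGroup m) : ((∀ H : Subgroup X, H.index ≠ 2) ∧ (∀ z : X, ¬ Cfsg.IsIsolatedInvolution z)) ↔ ((∀ a b : X, orderOf a = 2 → orderOf b = 2 → IsConj a b) ∨ (∀ U : Subgroup X, U ≤ S → IsKleinFour U → (Subgroup.centralizer (U : Set X)).relIndex (Subgroup.normalizer (U : Set X)) = (if Nat.card S = 4 then 3 else 6))) := by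
  classical
  have : Fact (Nat.Prime 2) := ⟨Nat.prime_two⟩
  set d := DihSylow.ofEquiv S hm eS with hd
  set z := d.ι (DihedralGroup.r (DihSylow.half m)) with hz
  have hconjS : ∀ a : X, orderOf a = 2 → ∃ g : X, g * a * g⁻¹ ∈ (d.S : Subgroup X) := by
    intro a ha
    have hp : IsPGroup 2 (Subgroup.zpowers a) :=
      IsPGroup.of_card (n := 1) (by rw [Nat.card_zpowers, ha, pow_one])
    obtain ⟨g, hg⟩ := conj_le_sylow d.S hp
    exact ⟨g, hg ⟨a, Subgroup.mem_zpowers a, rfl⟩⟩
  have hallz : (∀ i, IsConj (d.ι (DihedralGroup.sr i)) z) →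
      ∀ a b : X, orderOf a = 2 → orderOf b = 2 → IsConj a b := by
    intro h
    have haux : ∀ a : X, orderOf a = 2 → IsConj a z := by
      intro a ha
      obtain ⟨g, hg⟩ := hconjS a ha
      refine (isConj_iff.2 ⟨g, rfl⟩ : IsConj a (g * a * g⁻¹)).trans ?_
      rcases d.invol_cases ((orderOf_conj_eq g a).trans ha) hg with h' | ⟨i, h'⟩
      · rw [h']
      · rw [h']; exact h i
    exact fun a b ha hb => (haux a ha).trans (haux b hb).symm
  constructor
  · rintro ⟨hno, -⟩
    exact Or.inl (hallz fun i => (d.exists_index_two_or_conj i).resolve_left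
      fun ⟨M, _, hM, _⟩ => hno M hM)
  · intro h
    have hA : ∀ a b : X, orderOf a = 2 → orderOf b = 2 → IsConj a b := by
      rcases h with h | h
      · exact h
      · refine hallz fun i => ?_
        have hV := d.isKleinFour_klein i
        have h3 := h (d.klein i) (d.klein_le i) hV
        have h3' : 3 ∣ (Subgroup.centralizer (d.klein i : Set X)).relIndex
            (Subgroup.normalizer (d.klein i : Set X)) := by
          rw [h3]; split_ifs <;> norm_num
        set N := Subgroup.normalizer (d.klein i : Set X) with hN
        set C := (Subgroup.centralizer (d.klein i : Set X)).subgroupOf N with hC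
        have hCn : C.Normal := by
          refine ⟨fun c hc n => ?_⟩
          rw [hC, Subgroup.mem_subgroupOf] at hc ⊢
          intro w hw
          have hw' : (n : X)⁻¹ * w * n ∈ d.klein i :=
            (Subgroup.mem_normalizer_iff''.1 n.2 w).1 hw
          have := hc _ hw'
          simp only [Subgroup.coe_mul, Subgroup.coe_inv]
          calc w * ((n : X) * c * (n : X)⁻¹) = n * ((n : X)⁻¹ * w * n * c) * (n : X)⁻¹ := by group
            _ = n * (c * ((n : X)⁻¹ * w * n)) * (n : X)⁻¹ := by rw [this]
            _ = _ := by group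
        have : Fact (Nat.Prime 3) := ⟨Nat.prime_three⟩
        have h3q : 3 ∣ Nat.card (N ⧸ C) := by rwa [← Subgroup.index_eq_card]
        obtain ⟨q, hq⟩ := exists_prime_orderOf_dvd_card' 3 h3q
        obtain ⟨g, rfl⟩ := QuotientGroup.mk'_surjective C q
        refine klein_all_conj hV g.2 ?_ ?_ (d.sr_mem_klein i) (invol_ne_one (d.orderOf_sr i))
          (d.half_mem_klein i) (invol_ne_one d.orderOf_half)
        · intro hg
          rw [show (QuotientGroup.mk' C) g = 1 from (QuotientGroup.eq_one_iff g).2 hg,
            orderOf_one] at hq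
          omega
        · have h1 : (QuotientGroup.mk' C) (g ^ 3) = 1 := by
            rw [map_pow, ← hq, pow_orderOf_eq_one]
          exact (QuotientGroup.eq_one_iff (g ^ 3)).1 h1
    refine ⟨fun H hH => ?_, fun z₀ hz₀ => ?_⟩
    · have hn : H.Normal := Subgroup.normal_of_index_eq_two hH
      have hinv : ∀ a : X, orderOf a = 2 → a ∈ H := by
        -- some involution lies in `H`
        obtain ⟨b, hb, hbH⟩ : ∃ b : X, orderOf b = 2 ∧ b ∈ H := by
          by_contra hcon
          push Not at hcon
          have h0 := hcon _ (d.orderOf_sr 0)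
          have h1 := hcon _ (d.orderOf_sr (0 + DihSylow.half m))
          have : d.ι (DihedralGroup.sr 0) * d.ι (DihedralGroup.sr (0 + DihSylow.half m)) ∈ H :=
            (Subgroup.mul_mem_iff_of_index_two hH).2 (iff_of_false h0 h1)
          rw [← map_mul, DihedralGroup.sr_mul_sr, zero_add, sub_zero] at this
          exact hcon _ d.orderOf_half this
        intro a ha
        obtain ⟨g, rfl⟩ := isConj_iff.1 (hA b a hb ha)
        exact hn.conj_mem b hbH g
      have hle : (d.S : Subgroup X) ≤ H := by
        intro x hx
        obtain ⟨g, rfl⟩ := d.exists_ι hx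
        cases g with
        | r j =>
          have h := mul_mem (hinv _ (d.orderOf_sr 0)) (hinv _ (d.orderOf_sr j))
          rwa [← map_mul, DihedralGroup.sr_mul_sr, sub_zero] at h
        | sr j => exact hinv _ (d.orderOf_sr j)
      have h2 := Subgroup.index_dvd_of_le hle
      rw [hH] at h2
      exact d.S.not_dvd_index h2
    · obtain ⟨hz2, hiso⟩ := hz₀
      obtain ⟨a, ha⟩ := isConj_iff.1 (hA z₀ z hz2 d.orderOf_half)
      obtain ⟨b, hb⟩ := isConj_iff.1 (hA z₀ (d.ι (DihedralGroup.sr 0)) hz2 (d.orderOf_sr 0))
      have hc : Commute z₀ (a⁻¹ * b * z₀ * (a⁻¹ * b)⁻¹) := by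
        have hc' : Commute (a * z₀ * a⁻¹) (b * z₀ * b⁻¹) := by
          rw [ha, hb, hz]; exact d.half_central (d.ι_mem _)
        have := hc'.map (MulAut.conj a⁻¹).toMonoidHom
        simpa [mul_assoc] using this
      have := hiso _ hc
      have h' : b * z₀ * b⁻¹ = a * z₀ * a⁻¹ := by
        conv_rhs => rw [← this]
        group
      rw [ha, hb, hz] at h'
      exact nomatch d.inj h' 

end Cfsg.Agent.S1255
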