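import Cfsg.Statements.S1256
import Cfsg.Agent.Lib.Involutions.DihedralKlein
-- Template for statement S1256 (row 1256; see /opt/grader/pristine/manifest.json for weights).
-- Copy to Cfsg/Agent/S1256.lean and replace the sorry. The statement below is byte-identical to the frozen
-- statement Cfsg.CfsgFrozen.S1256 (Cfsg/Statements/S1256.lean; the theorem Cfsg.dihedral_sylow_classes_of_four_groups);
-- the grader kernel-checks Cfsg.Agent.S1256.result against that frozen type. Keep the theorem IN THIS FILE
-- (a `result` declared elsewhere and merely imported here is not credited); helpers may live anywhere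
-- under Cfsg/Agent/.
-- import your own Cfsg.Agent.* helpers here

set_option autoImplicit false
open Cfsg

namespace Cfsg.Agent.S1256

open Cfsg.Agent.Lib.Involutions

/-- Let X be a finite group whose Sylow 2-subgroup S is dihedral of order 2m ≥ 4. If |S| = 4, any two Klein four-subgroups of X are conjugate; if |S| > 4, there are Klein four-subgroups U₁, U₂ of X that are not conjugate, and every Klein four-subgroup of X is conjugate to U₁ or to U₂. -/
theorem result {X : Type*} [Group X] [Finite X] (S : Sylow 2 X) (m : ℕ) (hm : 2 ≤ m) (eS : (S : Subgroup X) ≃* DihedralGroup m) : (Nat.card S = 4 → ∀ U V : Subgroup X, IsKleinFour U → IsKleinFour V → (∃ x : X, U.map (MulAut.conj x).toMonoidHom = V)) ∧ (4 < Nat.card S → ∃ U₁ U₂ : Subgroup X, IsKleinFour U₁ ∧ IsKleinFour U₂ ∧ ¬ (∃ x : X, U₁.map (MulAut.conj x).toMonoidHom = U₂) ∧ ∀ V : Subgroup X, IsKleinFour V → (∃ x : X, V.map (MulAut.conj x).toMonoidHom = U₁) ∨ (∃ x : X, V.map (MulAut.conj x).toMonoidHom = U₂)) := by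
  set d := DihSylow.ofEquiv S hm eS with hd
  have hcard : Nat.card S = 2 * m := d.card_S
  constructor
  · intro h4 U V hU hV
    have : Fact (Nat.Prime 2) := ⟨Nat.prime_two⟩
    have hS : ∀ W : Subgroup X, IsKleinFour W → ∃ a : X, W.map (MulAut.conj a).toMonoidHom = (S : Subgroup X) := by
      intro W hW
      obtain ⟨a, ha⟩ := conj_le_sylow S (klein_isPGroup hW)
      refine ⟨a, Subgroup.eq_of_le_of_card_ge ha ?_⟩
      rw [Subgroup.card_map_of_injective (MulAut.conj a).injective, hW.card_four]
      exact h4.le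
    obtain ⟨a, ha⟩ := hS U hU
    obtain ⟨b, hb⟩ := hS V hV
    exact ⟨b⁻¹ * a, by rw [← map_conj_map_conj, ha, eq_map_conj_of_map_conj_eq hb]⟩
  · intro h4
    refine ⟨d.klein 0, d.klein 1, d.isKleinFour_klein 0, d.isKleinFour_klein 1, ?_, fun V hV => ?_⟩
    · rintro ⟨x, hx⟩
      refine d.klein_not_conj ?_ x hx
      obtain ⟨k, hk⟩ := d.even_m
      omega
    · obtain ⟨c, hc | hc⟩ := d.exists_conj_klein hV
      · exact Or.inl ⟨c, hc⟩
      · exact Or.inr ⟨c, hc⟩

end Cfsg.Agent.S1256
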