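import Cfsg.Statements.S1269
import Cfsg.Agent.Lib.Components.Balance2
import Cfsg.Agent.Lib.Components.Local

set_option autoImplicit false
open Cfsg

namespace Cfsg.Agent.S1269

open Cfsg.Agent.Lib.Components Subgroup
open scoped commutatorElement

variable {G : Type*} [Group G] [Finite G] {p : ℕ} [hp : Fact p.Prime]

/-- orbit join -/
def orbitJoin (L P : Subgroup G) : Subgroup G :=
  ⨆ π : P, L.map (MulAut.conj (π : G)).toMonoidHom

omit [Finite G] in
theorem map_conj_map_conj (L : Subgroup G) (a b : G) :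
    (L.map (MulAut.conj a).toMonoidHom).map (MulAut.conj b).toMonoidHom =
      L.map (MulAut.conj (b * a)).toMonoidHom := by
  rw [Subgroup.map_map]
  congr 1
  ext x
  simp [mul_assoc]

omit [Finite G] in
theorem le_orbitJoin (L P : Subgroup G) : L ≤ orbitJoin L P := by
  refine le_trans ?_ (le_iSup (fun π : P => L.map (MulAut.conj (π : G)).toMonoidHom) 1)
  intro x hx
  exact ⟨x, hx, by simp⟩

omit [Finite G] in
theorem le_normalizer_orbitJoin (L P : Subgroup G) : P ≤ normalizer (orbitJoin L P : Set G) := by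
  intro q hq
  rw [mem_normalizer_iff_map_conj, orbitJoin, Subgroup.map_iSup]
  simp only [map_conj_map_conj]
  refine Function.Surjective.iSup_congr (fun π : P => (⟨q, hq⟩ : P) * π) (fun π => ?_) fun π => rfl
  exact ⟨(⟨q, hq⟩ : P)⁻¹ * π, mul_inv_cancel_left _ _⟩

/-- conjugating the orbit join by an element commuting with `P` -/
theorem orbit_dichotomy {L P : Subgroup G} (hL : IsComponent L) {u : G} (hu : u ∈ centralizer (P : Set G)) :
    (∃ π ∈ P, L.map (MulAut.conj u).toMonoidHom = L.map (MulAut.conj π).toMonoidHom) ∨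
      ⁅orbitJoin L P, (orbitJoin L P).map (MulAut.conj u).toMonoidHom⁆ = ⊥ := by
  by_cases h : ∃ π ∈ P, L.map (MulAut.conj u).toMonoidHom = L.map (MulAut.conj π).toMonoidHom
  · exact Or.inl h
  right
  push Not at h
  rw [commutator_eq_bot_iff_le_centralizer]
  refine iSup_le fun π => ?_
  rw [le_centralizer_iff, orbitJoin, Subgroup.map_iSup]
  refine iSup_le fun ρ => le_centralizer_of_commutator_eq_bot ?_
  rw [map_conj_map_conj]
  refine IsComponent.commutator_eq_bot_of_ne (IsComponent.map_conj hL _) (IsComponent.map_conj hL _) ?_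
  intro he
  apply h ((ρ : G)⁻¹ * π) (mul_mem (inv_mem ρ.2) π.2)
  have hc : (ρ : G) * u = u * ρ := mem_centralizer_iff.mp hu ρ ρ.2
  have := congrArg (Subgroup.map (MulAut.conj ((ρ : G)⁻¹)).toMonoidHom) he
  rw [map_conj_map_conj, map_conj_map_conj, ← hc, inv_mul_cancel_left] at this
  exact this

/-- a non-central `p`-element of `W` fixed by `P` modulo the centre -/
theorem exists_fixed {W P : Subgroup G} (hP : IsPGroup p ↥P) (hWP : P ≤ normalizer (W : Set G))
    (hW : ∃ m ∈ W, (∃ k, m ^ p ^ k = 1) ∧ ∃ w ∈ W, w * m ≠ m * w) :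
    ∃ y ∈ W, (∃ k, y ^ p ^ k = 1) ∧ (∃ w ∈ W, w * y ≠ y * w) ∧
      ∀ π ∈ P, ∀ w ∈ W, w * (π * y * π⁻¹ * y⁻¹) = π * y * π⁻¹ * y⁻¹ * w := by
  set Z := W ⊓ centralizer (W : Set G) with hZdef
  set M := W ⊔ P with hM
  have hMn : M ≤ normalizer (W : Set G) := sup_le le_normalizer hWP
  have hPM : P ≤ M := le_sup_right
  obtain ⟨S, hS⟩ := (hP.of_equiv (subgroupOfEquivOfLe hPM).symm).exists_le_sylow
  set S' := (S : Subgroup ↥M).map M.subtype with hS'
  have hPS : P ≤ S' := fun x hx => ⟨⟨x, hPM hx⟩, hS hx, rfl⟩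
  have hSp : IsPGroup p ↥S' := S.2.map _
  have hnc : ¬ S' ⊓ W ≤ Z := by
    intro hle
    obtain ⟨m, hm, ⟨k, hk⟩, w, hw, hne⟩ := hW
    have hmM : m ∈ M := mem_sup_left hm
    obtain ⟨S₂, hS₂⟩ := (show IsPGroup p ↥(zpowers (⟨m, hmM⟩ : ↥M)) from by
      rintro ⟨z, hz⟩
      obtain ⟨i, rfl⟩ := Subgroup.mem_zpowers_iff.mp hz
      refine ⟨k, Subtype.ext (Subtype.ext ?_)⟩
      show (m ^ i) ^ p ^ k = 1
      rw [← zpow_natCast, ← zpow_mul, mul_comm, zpow_mul, zpow_natCast, hk, one_zpow]).exists_le_sylow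
    obtain ⟨g, hg⟩ := MulAction.exists_smul_eq ↥M S S₂
    have hm2 := hS₂ (mem_zpowers _)
    rw [← hg, Sylow.smul_def, Sylow.pointwise_smul_def] at hm2
    obtain ⟨s, hs, hse⟩ := hm2
    have hse' : (g : G) * s * (g : G)⁻¹ = m := congrArg Subtype.val hse
    have hsW : (s : G) ∈ W := (hMn g.2 _).mpr (by rw [hse']; exact hm)
    have hc := (hle ⟨⟨s, hs, rfl⟩, hsW⟩).2
    have hw' : (g : G)⁻¹ * w * g ∈ W := by
      have := ((Subgroup.inv_mem _ (hMn g.2)) w).mp hw
      rwa [inv_inv] at this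
    apply hne
    have h2 : (g : G)⁻¹ * w * g * (s : G) = (s : G) * ((g : G)⁻¹ * w * g) :=
      mem_centralizer_iff.mp hc _ hw'
    rw [← hse']
    calc w * ((g : G) * s * (g : G)⁻¹) = g * (((g : G)⁻¹ * w * g) * s) * (g : G)⁻¹ := by group
      _ = g * ((s : G) * ((g : G)⁻¹ * w * g)) * (g : G)⁻¹ := by rw [h2]
      _ = _ := by group
  obtain ⟨n, hn⟩ := (Subgroup.isNilpotent_iff_lowerCentralSeries _).mp
    (hSp.isNilpotent : Group.IsNilpotent ↥S')
  by_contra hno
  push Not at hno
  have key : ∀ n, ∃ y ∈ S'.lowerCentralSeries n, y ∈ W ∧ y ∉ Z := by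
    intro n
    induction n with
    | zero =>
      obtain ⟨y, hy, hyc⟩ := SetLike.not_le_iff_exists.mp hnc
      exact ⟨y, hy.1, hy.2, hyc⟩
    | succ n ih =>
      obtain ⟨y, hy, hyW, hyc⟩ := ih
      have hyS : y ∈ S' := S'.lowerCentralSeries_antitone (Nat.zero_le n) hy
      obtain ⟨k, hk⟩ := hSp ⟨y, hyS⟩
      have hex : ∃ w ∈ W, w * y ≠ y * w := by
        by_contra hn'
        push Not at hn'
        exact hyc ⟨hyW, mem_centralizer_iff.mpr hn'⟩
      obtain ⟨π, hπ, w, hw, hne⟩ := hno y hyW ⟨k, congrArg Subtype.val hk⟩ hex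
      have hmem : π * y * π⁻¹ * y⁻¹ ∈ W :=
        Subgroup.mul_mem _ ((hWP hπ y).mp hyW) (Subgroup.inv_mem _ hyW)
      refine ⟨⁅y, π⁆, ?_, ?_, fun hc => hne ?_⟩
      · rw [Subgroup.lowerCentralSeries_succ]; exact commutator_mem_commutator hy (hPS hπ)
      · rw [show ⁅y, π⁆ = (π * y * π⁻¹ * y⁻¹)⁻¹ by rw [commutatorElement_def]; group]
        exact inv_mem hmem
      · refine mem_centralizer_iff.mp ?_ w hw
        rw [show π * y * π⁻¹ * y⁻¹ = ⁅y, π⁆⁻¹ by rw [commutatorElement_def]; group]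
        exact inv_mem hc.2
  obtain ⟨y, hy, -, hyc⟩ := key n
  rw [hn, mem_bot] at hy
  exact hyc (hy ▸ one_mem _)

/-- the commutator trick -/
theorem normalizes_component (hO : pPrimeCore p G = ⊥) {P L : Subgroup G} (hP : IsPGroup p ↥P)
    (hL : IsComponent L) {u : G} (huP : u ∈ centralizer (P : Set G))
    (huO : u ∈ centralizer (pCore p G : Set G)) (huo : (orderOf u).Coprime p)
    (hcomm : ∀ e ∈ layer G, e ∈ centralizer (P : Set G) → (orderOf (u * e * u⁻¹ * e⁻¹)).Coprime p) :
    u ∈ normalizer (L : Set G) := by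
  rcases orbit_dichotomy hL huP with ⟨π, hπ, hπe⟩ | hdisj
  · have hk : ∀ k : ℕ, L.map (MulAut.conj (u ^ k)).toMonoidHom = L.map (MulAut.conj (π ^ k)).toMonoidHom := by
      intro k
      induction k with
      | zero => simp
      | succ k ih =>
        have hc : π ^ k * u = u * π ^ k := mem_centralizer_iff.mp huP _ (pow_mem hπ k)
        rw [pow_succ', ← map_conj_map_conj, ih, map_conj_map_conj, ← hc, ← map_conj_map_conj, hπe,
          map_conj_map_conj, ← pow_succ]
    obtain ⟨n, hn⟩ := hP ⟨π, hπ⟩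
    refine mem_of_pow_mem_of_coprime (m := p ^ n) (huo.pow_right n) ?_
    rw [mem_normalizer_iff_map_conj, hk, show π ^ p ^ n = 1 from congrArg Subtype.val hn]
    ext x
    simp
  exfalso
  set W := orbitJoin L P with hW
  set W' := W.map (MulAut.conj u).toMonoidHom with hW'
  set W'' := W'.map (MulAut.conj u).toMonoidHom with hW''
  have hnW : ⁅W, W⁆ ≠ ⊥ := by
    intro h
    apply IsComponent.not_isMulCommutative hL
    exact ⟨⟨fun a b => Subtype.ext
      (commute_of_commutator_eq_bot h (le_orbitJoin L P a.2) (le_orbitJoin L P b.2))⟩⟩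
  have hne : W' ≠ W := fun h => hnW (by rw [h] at hdisj; exact hdisj)
  have hWlay : W ≤ layer G := iSup_le fun π => IsComponent.le_layer (IsComponent.map_conj hL _)
  have hex : ∃ m ∈ W, (∃ k, m ^ p ^ k = 1) ∧ ∃ w ∈ W, w * m ≠ m * w := by
    by_contra hno
    push Not at hno
    apply IsQuasisimple.center_ne_top hL.2
    rw [eq_top_iff, ← IsQuasisimple.closure_pElements_eq_top hL.2 p (IsComponent.dvd_card hL p hO)]
    refine (Subgroup.closure_le _).mpr ?_
    rintro m ⟨-, k, hk⟩
    exact mem_center_iff.mpr fun w => Subtype.ext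
      (hno (m : G) (le_orbitJoin L P m.2) ⟨k, by rw [← Subgroup.coe_pow, hk, Subgroup.coe_one]⟩ w
        (le_orbitJoin L P w.2))
  obtain ⟨y, hy, ⟨k, hyk⟩, ⟨w₀, hw₀, hw₀y⟩, hfix⟩ :=
    exists_fixed hP (le_normalizer_orbitJoin L P) hex
  apply hw₀y
  set y' := u * y * u⁻¹ with hy'
  set y'' := u * y' * u⁻¹ with hy''
  have hy'W : y' ∈ W' := ⟨y, hy, rfl⟩
  have hy''W : y'' ∈ W'' := ⟨y', hy'W, rfl⟩
  have hdisj' : ⁅W', W''⁆ = ⊥ := by
    rw [hW'', hW', ← map_commutator, hdisj, Subgroup.map_bot]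
  have c01 : Commute y y' := commute_of_commutator_eq_bot hdisj hy hy'W
  have c12 : Commute y' y'' := commute_of_commutator_eq_bot hdisj' hy'W hy''W
  have hW'lay : W' ≤ layer G := by
    refine (map_mono hWlay).trans ?_
    exact (mem_normalizer_iff_map_conj.mp (Subgroup.normalizer_eq_top_iff.mpr
      (inferInstance : (layer G).Normal) |>.ge (mem_top u))).le
  have heP : y * y'⁻¹ ∈ centralizer (P : Set G) := by
    rw [mem_centralizer_iff]
    intro π hπ
    set z := π * y * π⁻¹ * y⁻¹ with hz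
    have hzW : z ∈ W := Subgroup.mul_mem _ (((le_normalizer_orbitJoin L P hπ) y).mp hy) (Subgroup.inv_mem _ hy)
    have hzO : z ∈ pCore p G := by
      refine (show (center ↥(layer G)).map (layer G).subtype ≤ pCore p G by
        rw [map_center_layer]
        exact iSup_le fun M => IsComponent.map_center_le_pCore M.2 hO) ?_
      refine mem_map_center_iff.mpr ⟨hWlay hzW, fun m hm => ?_⟩
      have : layer G ≤ centralizer ({z} : Set G) := by
        rw [layer_le_iff]
        intro K hK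
        by_cases hKW : K ≤ W
        · exact fun x hx => mem_centralizer_singleton_iff.mpr (hfix π hπ x (hKW hx))
        · have hKc : W ≤ centralizer (K : Set G) := iSup_le fun ρ => le_centralizer_of_commutator_eq_bot
            (IsComponent.commutator_eq_bot_of_ne (IsComponent.map_conj hL _) hK
              fun h => hKW (h ▸ le_iSup (fun π : P => L.map (MulAut.conj (π : G)).toMonoidHom) ρ))
          exact fun x hx => mem_centralizer_singleton_iff.mpr (mem_centralizer_iff.mp (hKc hzW) x hx)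
      exact mem_centralizer_singleton_iff.mp (this hm)
    have hzu : u * z = z * u := (mem_centralizer_iff.mp huO z hzO).symm
    have hπu : π * u = u * π := mem_centralizer_iff.mp huP π hπ
    have hzy' : Commute z y' := commute_of_commutator_eq_bot hdisj hzW hy'W
    have hzy : Commute z y := (hfix π hπ y hy).symm
    have e1 : π * y * π⁻¹ = z * y := by rw [hz]; group
    have e2 : π * y' * π⁻¹ = z * y' := by
      calc π * y' * π⁻¹ = (π * u) * y * (π * u)⁻¹ := by rw [hy']; group
        _ = (u * π) * y * (u * π)⁻¹ := by rw [hπu]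
        _ = u * (π * y * π⁻¹) * u⁻¹ := by group
        _ = (u * z) * y * u⁻¹ := by rw [e1]; group
        _ = _ := by rw [hzu, hy']; group
    have e3 : π * (y * y'⁻¹) * π⁻¹ = y * y'⁻¹ := by
      calc π * (y * y'⁻¹) * π⁻¹ = (π * y * π⁻¹) * (π * y' * π⁻¹)⁻¹ := by group
        _ = (y * z) * (y' * z)⁻¹ := by rw [e1, e2, hzy.eq, hzy'.eq]
        _ = _ := by group
    exact mul_inv_eq_iff_eq_mul.mp e3
  have hf := hcomm _ (mul_mem (hWlay hy) (inv_mem (hW'lay hy'W))) heP
  have hfe : u * (y * y'⁻¹) * u⁻¹ * (y * y'⁻¹)⁻¹ = (y' * y') * (y''⁻¹ * y⁻¹) := by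
    calc u * (y * y'⁻¹) * u⁻¹ * (y * y'⁻¹)⁻¹ = y' * (y''⁻¹ * y') * y⁻¹ := by
          rw [hy'', hy']; group
      _ = y' * (y' * y''⁻¹) * y⁻¹ := by rw [(c12.inv_right).eq]
      _ = _ := by group
  rw [hfe] at hf
  set f := (y' * y') * (y''⁻¹ * y⁻¹) with hfdef
  have hy'k : y' ^ p ^ k = 1 := by rw [hy', conj_pow, hyk]; group
  have hy''k : y'' ^ p ^ k = 1 := by rw [hy'', conj_pow, hy'k]; group
  have hb : Commute (y' * y') (y''⁻¹ * y⁻¹) :=
    (c12.inv_right.mul_right c01.symm.inv_right).mul_left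
      (c12.inv_right.mul_right c01.symm.inv_right)
  have hu2 : u ^ 2 ∈ centralizer (P : Set G) := pow_mem huP 2
  have hW2 : W'' = W.map (MulAut.conj (u ^ 2)).toMonoidHom := by
    rw [hW'', hW', map_conj_map_conj, sq]
  rcases orbit_dichotomy hL hu2 with ⟨π, hπ, hπe⟩ | hd2
  · have h02 : W'' = W := by
      rw [hW2, hW, orbitJoin, Subgroup.map_iSup]
      simp only [map_conj_map_conj]
      refine Function.Surjective.iSup_congr (fun ρ : P => ρ * ⟨π, hπ⟩)
        (fun ρ => ⟨ρ * ⟨π, hπ⟩⁻¹, inv_mul_cancel_right _ _⟩) fun ρ => ?_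
      rw [← mem_centralizer_iff.mp hu2 ρ ρ.2, ← map_conj_map_conj, hπe, map_conj_map_conj]
      rfl
    have hp2 : p ≠ 2 := by
      intro h2
      refine hne (mem_normalizer_iff_map_conj.mp
        (mem_of_pow_mem_of_coprime (m := 2) (h2 ▸ huo) ?_))
      rw [mem_normalizer_iff_map_conj, ← hW2, h02]
    have h1 : (y' * y') ^ orderOf f = ((y''⁻¹ * y⁻¹) ^ orderOf f)⁻¹ :=
      eq_inv_of_mul_eq_one_left (by rw [← hb.mul_pow, ← hfdef, pow_orderOf_eq_one])
    have h2 : (y' * y') ^ orderOf f ∈ W := by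
      rw [h1]
      exact inv_mem (pow_mem (mul_mem (inv_mem (h02.le hy''W)) (inv_mem hy)) _)
    have h4 : ∀ m ∈ W', Commute m (y' * y') := by
      intro m hm
      have hys : (y' * y') ^ p ^ k = 1 := by rw [(Commute.refl y').mul_pow, hy'k, one_mul]
      have hco : (orderOf (y' * y')).Coprime (orderOf f) := Nat.Coprime.coprime_dvd_left
        (orderOf_dvd_of_pow_eq_one hys) ((hf.pow_right k).symm)
      obtain ⟨i, hi⟩ := exists_pow_eq_self_of_coprime hco.symm
      rw [← hi]
      exact Commute.pow_right ((commute_of_commutator_eq_bot hdisj h2 hm).symm) i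
    have hodd : Odd p := hp.out.odd_of_ne_two hp2
    have hco2 : (orderOf y').Coprime 2 := Nat.Coprime.coprime_dvd_left
      (orderOf_dvd_of_pow_eq_one hy'k) (Nat.coprime_two_right.mpr hodd.pow)
    obtain ⟨i, hi⟩ := exists_pow_eq_self_of_coprime hco2.symm
    have h5 : Commute (u * w₀ * u⁻¹) y' := by
      rw [← hi, sq]
      exact (h4 _ ⟨w₀, hw₀, rfl⟩).pow_right i
    exact (MulAut.conj u).injective (by simp only [map_mul, MulAut.conj_apply]; exact h5.eq)
  · rw [← hW, ← hW2] at hd2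
    have c02 : Commute y y'' := commute_of_commutator_eq_bot hd2 hy hy''W
    have hfp : f ^ p ^ k = 1 := by
      have h1 : Commute (y''⁻¹) (y⁻¹) := c02.symm.inv_inv
      rw [hfdef, hb.mul_pow, h1.mul_pow, (Commute.refl y').mul_pow, hy'k, inv_pow, inv_pow, hy''k,
        hyk]
      group
    have hf1 : f = 1 := eq_one_of_pow_eq_one_of_coprime hf hfp
    have hyeq : y = y' * y' * y''⁻¹ := by
      rw [hfdef, ← mul_assoc] at hf1
      exact (mul_inv_eq_one.mp hf1).symm
    have d1 : Commute w₀ y' := commute_of_commutator_eq_bot hdisj hw₀ hy'W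
    have d2 : Commute w₀ y'' := commute_of_commutator_eq_bot hd2 hw₀ hy''W
    rw [hyeq]
    exact ((d1.mul_right d1).mul_right d2.inv_right).eq


/-- Let G be finite with O_{p'}(G) = 1, P a p-subgroup, N = N_G(P), and x an element of the preimage in N of E(N / O_{p'}(N)). Then x normalizes every component L of G. -/
theorem result {G : Type*} [Group G] [Finite G] (p : ℕ) [Fact p.Prime] (hO : Cfsg.pPrimeCore p G = ⊥) (P : Subgroup G) (hP : IsPGroup p ↥P) (L : Subgroup G) (hL : Cfsg.IsComponent L) (x : G) (hx : x ∈ (((Cfsg.layer (↥(Subgroup.normalizer ((P : Subgroup G) : Set G)) ⧸ Cfsg.pPrimeCore p ↥(Subgroup.normalizer ((P : Subgroup G) : Set G)))).comap (QuotientGroup.mk' (Cfsg.pPrimeCore p ↥(Subgroup.normalizer ((P : Subgroup G) : Set G))))).map (Subgroup.normalizer ((P : Subgroup G) : Set G)).subtype)) : L.map (MulAut.conj x).toMonoidHom = L := by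

  set N := Subgroup.normalizer (P : Set G) with hN
  set U := (layer G).subgroupOf N with hU
  haveI hUn : U.Normal := (inferInstance : (layer G).Normal).comap _
  haveI hOn : (pPrimeCore p ↥N).Normal := pPrimeCore_normal p ↥N
  have hoO : ∀ o ∈ pPrimeCore p ↥N, (orderOf (o : G)).Coprime p := fun o ho => by
    rw [Subgroup.orderOf_coe]
    exact (pPrimeCore_coprime p).coprime_dvd_left (Subgroup.orderOf_dvd_natCard _ ho)
  have hOP : (pPrimeCore p ↥N).map N.subtype ≤ Subgroup.centralizer (P : Set G) :=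
    ((Subgroup.map_mono pPrimeCore_le_centralizer_pCore).trans
      (map_centralizer_pCore_normalizer_le hP)).trans inf_le_left
  have hOZ : (pPrimeCore p ↥N).map N.subtype ≤ Subgroup.centralizer (pCore p G : Set G) :=
    pPrimeCore_normalizer_le_centralizer hP
  have hmain : ∀ a : ↥N, (orderOf (a : G)).Coprime p → (a : G) ∈ Subgroup.centralizer (P : Set G) →
      (a : G) ∈ Subgroup.centralizer (pCore p G : Set G) → (∀ e ∈ U, ⁅a, e⁆ ∈ pPrimeCore p ↥N) →
      (a : G) ∈ Subgroup.normalizer (L : Set G) := fun a h1 h2 h3 h4 =>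
    normalizes_component hO hP hL h2 h3 h1 fun e he heP => by
      have := hoO _ (h4 ⟨e, Subgroup.centralizer_le_normalizer _ heP⟩ he)
      rwa [commutatorElement_def, Subgroup.coe_mul, Subgroup.coe_mul, Subgroup.coe_mul,
        Subgroup.coe_inv, Subgroup.coe_inv] at this
  set T := (Subgroup.normalizer (L : Set G)).comap N.subtype with hT
  have hUT : U ≤ T := fun x hx => IsComponent.layer_le_normalizer hL hx
  have hOT : pPrimeCore p ↥N ≤ T := fun o ho => hmain o (hoO o ho) (hOP ⟨o, ho, rfl⟩) (hOZ ⟨o, ho, rfl⟩)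
    fun e _ => by
      rw [commutatorElement_def, mul_assoc, mul_assoc, ← mul_assoc e]
      exact mul_mem ho (hOn.conj_mem _ (inv_mem ho) e)
  have hLT : pLayer p ↥N ≤ T := pLayer_le_iff.mpr fun K hK => by
    rcases IsComponent.le_or_commutator_eq_bot hK.2.1
      ((hUn.map _ (QuotientGroup.mk'_surjective (pPrimeCore p ↥N))).isSubnormal) with h | h
    · rw [Subgroup.map_le_iff_le_comap, Subgroup.comap_map_eq, QuotientGroup.ker_mk'] at h
      exact h.trans (sup_le hUT hOT)
    · refine le_of_forall_coprime_mem (p := p) (IsPComponent.commutator_self hK) fun a ha hao => ?_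
      have haL : a ∈ pLayer p ↥N := IsPComponent.le_pLayer hK ha
      refine hmain a (by rwa [Subgroup.orderOf_coe]) ?_ ?_ fun e he => ?_
      · exact (((Subgroup.map_mono pLayer_le_centralizer_pCore).trans
          (map_centralizer_pCore_normalizer_le hP)).trans inf_le_left) ⟨a, haL, rfl⟩
      · exact pLayer_normalizer_le_centralizer hP ⟨a, haL, rfl⟩
      · rw [← Subgroup.map_commutator, Subgroup.map_eq_bot_iff, QuotientGroup.ker_mk'] at h
        exact h (Subgroup.commutator_mem_commutator ha he)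
  obtain ⟨a, ha, rfl⟩ := hx
  rw [SetLike.mem_coe, comap_layer_quotient] at ha
  exact mem_normalizer_iff_map_conj.mp (sup_le hLT hOT ha)

end Cfsg.Agent.S1269
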