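import Cfsg.Statements.S1270
import Cfsg.Agent.Lib.Components.Balance2

set_option autoImplicit false
open Cfsg

namespace Cfsg.Agent.S1270

open Subgroup Cfsg.Agent.Lib.Components


/-- Let G be finite with O_{p'}(G) = 1, x of order p, and L a component with ⁅L, ⟨x⟩⁆ ≠ L. Then ⁅L, O_{p'}(C_G(x))⁆ = 1. -/
theorem result {G : Type*} [Group G] [Finite G] (p : ℕ) [Fact p.Prime] (hO : Cfsg.pPrimeCore p G = ⊥) (x : G) (hx : orderOf x = p) (L : Subgroup G) (hL : Cfsg.IsComponent L) (hne : ⁅L, Subgroup.zpowers x⁆ ≠ L) : ⁅L, Cfsg.centralizerPPrimeCore p x⁆ = ⊥ := by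
  rw [Subgroup.commutator_comm, commutator_eq_bot_iff_le_centralizer]
  by_cases hxL : x ∈ normalizer (L : Set G)
  · refine centralizerPPrimeCore_le_centralizer_of_centralizing hL hO
      (mem_centralizer_of_perfect (IsComponent.commutator_self hL) fun l hl => ?_)
    set M := ⁅L, Subgroup.zpowers x⁆ with hM
    have hMle : M ≤ L := le_normalizer_iff_commutator_le_left.mp (zpowers_le_normalizer_of_mem hxL)
    haveI : (M.subgroupOf L).Normal :=
      normal_subgroupOf_of_le_normalizer (normalizer_commutator_ge_left L (Subgroup.zpowers x))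
    have hmem : x * l * x⁻¹ * l⁻¹ ∈ M := by
      rw [hM, Subgroup.commutator_comm]
      exact commutator_mem_commutator (mem_zpowers x) hl
    rcases IsQuasisimple.normal_eq_top_or_le_center hL.2 (M.subgroupOf L) with h | h
    · exact absurd (le_antisymm hMle (subgroupOf_eq_top.mp h)) hne
    · exact ⟨⟨_, hMle hmem⟩, h (mem_subgroupOf.mpr hmem), rfl⟩
  · exact centralizerPPrimeCore_le_centralizer_of_moving hL hO hx hxL

end Cfsg.Agent.S1270
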