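import Cfsg.Statements.S1271
import Cfsg.Agent.Lib.Components.Balance2

set_option autoImplicit false
open Cfsg

namespace Cfsg.Agent.S1271

open Subgroup Cfsg.Agent.Lib.Components


/-- Let G be finite with O_{p'}(G) = 1. Suppose that for every component L of G and every subgroup H ≥ L in which L is normal, the quotient H / C_H(L) is balanced for the prime p. Then G is balanced for p. -/
theorem result {G : Type*} [Group G] [Finite G] (p : ℕ) [Fact p.Prime] (hO : Cfsg.pPrimeCore p G = ⊥) (h : ∀ L : Subgroup G, Cfsg.IsComponent L → ∀ H : Subgroup G, L ≤ H → (L.subgroupOf H).Normal → ∀ [((Subgroup.centralizer (L : Set G)).subgroupOf H).Normal], Cfsg.IsBalancedFor p (↥H ⧸ (Subgroup.centralizer (L : Set G)).subgroupOf H)) : Cfsg.IsBalancedFor p G := by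
  intro x hx
  have hp1 : p ≠ 1 := (Fact.out : p.Prime).ne_one
  set A := Subgroup.zpowers x
  have hA : Cfsg.IsElementaryAbelian p A := by
    refine ⟨inferInstance, fun a ha => ?_⟩
    obtain ⟨i, rfl⟩ := Subgroup.mem_zpowers_iff.mp ha
    rw [← zpow_natCast, ← zpow_mul, mul_comm, zpow_mul, zpow_natCast, ← hx, pow_orderOf_eq_one,
      one_zpow]
  set W := Cfsg.centralizerPPrimeCore p x
  have hxc : x ∈ centralizer ({x} : Set G) := mem_centralizer_singleton_iff.mpr rfl
  have hW : ∀ a ∈ A, a ≠ 1 → W ≤ Cfsg.centralizerPPrimeCore p a := by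
    intro a ha ha1
    have hge : centralizer ({a} : Set G) = centralizer ({x} : Set G) := by
      obtain ⟨i, rfl⟩ := Subgroup.mem_zpowers_iff.mp ha
      have hxa : x ∈ Subgroup.zpowers (x ^ i) := by
        have h1 : Subgroup.zpowers (x ^ i) ≤ Subgroup.zpowers x :=
          Subgroup.zpowers_le.mpr (zpow_mem (mem_zpowers x) i)
        have hc : Nat.card ↥(Subgroup.zpowers (x ^ i)) = p := by
          rw [Nat.card_zpowers]
          exact orderOf_eq_prime (hA.2 _ ha) ha1
        rw [Subgroup.eq_of_le_of_card_ge h1 (by rw [hc, Nat.card_zpowers, hx])]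
        exact mem_zpowers x
      obtain ⟨j, hj⟩ := Subgroup.mem_zpowers_iff.mp hxa
      refine le_antisymm (fun g hg => ?_) (fun g hg => ?_) <;>
        rw [mem_centralizer_singleton_iff] at hg ⊢
      · rw [← hj]; exact (Commute.zpow_right hg j).eq
      · exact (Commute.zpow_right hg i).eq
    show W ≤ (Cfsg.pPrimeCore p _).map _
    rw [hge]
    exact le_rfl
  have hA1 : A ≠ ⊥ := fun h => hp1 (by
    rw [← hx, Subgroup.zpowers_eq_bot.mp h, orderOf_one])
  have hWn : A ≤ normalizer (W : Set G) :=
    Subgroup.zpowers_le.mpr (centralizer_le_normalizer_centralizerPPrimeCore x hxc)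
  have hWbot : W = ⊥ := by
    refine eq_bot_of_le_cores hO hA hA1 hW fun L hL hAn hWn' hfaith => ?_
    obtain ⟨H, hH⟩ : ∃ H, H = L ⊔ (W ⊔ A) := ⟨_, rfl⟩
    have hHn : H ≤ normalizer (L : Set G) := hH ▸ sup_le le_normalizer (sup_le hWn' hAn)
    have hLH : L ≤ H := hH ▸ le_sup_left
    have hxH : x ∈ H := hH ▸ mem_sup_right (mem_sup_right (mem_zpowers x))
    haveI hnC : ((centralizer (L : Set G)).subgroupOf H).Normal := by
      exact (show ((centralizer (L : Set G)).subgroupOf (normalizer (L : Set G))).Normal from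
        (ker_normalizerQuotHom (IsComponent.commutator_self hL)) ▸
          MonoidHom.normal_ker _).comap (Subgroup.inclusion hHn)
    set φ := QuotientGroup.mk' ((centralizer (L : Set G)).subgroupOf H) with hφ
    have hker : φ.ker = (centralizer (L : Set G)).subgroupOf H := QuotientGroup.ker_mk' _
    have hbal := h L hL H hLH (normal_subgroupOf_of_le_normalizer hHn)
    have hxord : orderOf (φ ⟨x, hxH⟩) = p := by
      refine orderOf_eq_prime ?_ ?_
      · rw [← map_pow, show (⟨x, hxH⟩ : ↥H) ^ p = 1 from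
          Subtype.ext (hA.2 x (mem_zpowers x)), map_one]
      · intro h1
        rw [← MonoidHom.mem_ker, hker, mem_subgroupOf] at h1
        exact hfaith x (mem_zpowers x) (fun e => hp1 (by rw [← hx, e, orderOf_one])) h1
    obtain ⟨-, -, hle, hfin⟩ := map_le_cores_of_component hL hO hA hW hWn hAn hWn' hfaith hH φ
      (QuotientGroup.mk'_surjective _) hker
    refine hfin (le_bot_iff.mp (hle.trans ?_))
    rw [← pPrimeCore_eq_bot_of_ker (p := p) hL hO hLH hHn φ (QuotientGroup.mk'_surjective _) hker]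
    refine le_trans (iInf_le _ ⟨φ ⟨x, hxH⟩, ⟨⟨x, hxH⟩, mem_zpowers x, rfl⟩, ?_⟩) (hbal _ hxord)
    intro e
    rw [e, orderOf_one] at hxord
    exact hp1 hxord.symm
  rw [hWbot]
  exact bot_le

end Cfsg.Agent.S1271
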