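import Cfsg.Statements.S1278
import Cfsg.Agent.Lib.Components.Constrained

set_option autoImplicit false
open Cfsg

namespace Cfsg.Agent.S1278

/-- Let K ≠ L be 2-components of the finite group X. Then ⁅K, L⁆ ≤ O(K) ⊓ O(L), and if K is quasisimple then ⁅K, L⁆ = 1. -/
theorem result {X : Type*} [Group X] [Finite X] (K L : Subgroup X) (hK : Cfsg.IsPComponent 2 K) (hL : Cfsg.IsPComponent 2 L) (hne : K ≠ L) : ⁅K, L⁆ ≤ ((Cfsg.oddCore ↥K).map K.subtype) ⊓ ((Cfsg.oddCore ↥L).map L.subtype) ∧ (Cfsg.IsQuasisimple ↥K → ⁅K, L⁆ = ⊥) := by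
  open Cfsg.Agent.Lib.Components Subgroup in
  exact (by
    have hKL : ⁅K, L⁆ ≤ K ⊓ L := le_inf
      (le_normalizer_iff_commutator_le_left.mp
        ((IsPComponent.le_pLayer hL).trans (IsPComponent.pLayer_le_normalizer hK)))
      (le_normalizer_iff_commutator_le_right.mp
        ((IsPComponent.le_pLayer hK).trans (IsPComponent.pLayer_le_normalizer hL)))
    have hW : ⁅K, L⁆ ≤ pPrimeCore 2 X := IsPComponent.commutator_le_pPrimeCore hK hL hne
    have h1 : ⁅K, L⁆ ≤ (oddCore ↥K).map K.subtype := by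
      rw [oddCore, map_pPrimeCore_subtype 2 hK.1]
      exact le_inf (hKL.trans inf_le_left) hW
    refine ⟨le_inf h1 ?_, fun hq => ?_⟩
    · rw [oddCore, map_pPrimeCore_subtype 2 hL.1]
      exact le_inf (hKL.trans inf_le_right) hW
    · refine commutator_eq_bot_of_perfect (IsPComponent.commutator_self hK) ?_
      rw [eq_bot_iff, ← (IsPComponent.quasisimple_iff hK).mp hq]
      exact (commutator_mono h1 le_rfl).trans (commutator_comm _ _).le)

end Cfsg.Agent.S1278
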