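import Cfsg.Statements.S1279
import Cfsg.Agent.Lib.Components.Local

set_option autoImplicit false
open Cfsg

namespace Cfsg.Agent.S1279

open Subgroup Cfsg.Agent.Lib.Components

theorem centralizerPPrimeCore_isSignalizerFunctor {G : Type*} [Group G] [Finite G] (p : ℕ)
    [hp : Fact p.Prime] (A : Subgroup G) (hA : IsElementaryAbelian p A)
    (hsolv : ∀ a ∈ A, a ≠ 1 → Group.IsSolvable ↥(centralizer ({a} : Set G))) :
    IsSignalizerFunctor p A (fun a => centralizerPPrimeCore p a) := by
  have hAc : ∀ a ∈ A, ∀ b ∈ A, a * b = b * a := fun a ha b hb =>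
    congrArg Subtype.val (hA.1.is_comm.comm ⟨a, ha⟩ ⟨b, hb⟩)
  refine ⟨fun a _ _ => map_subtype_le _, fun a _ _ hd => ?_, fun a ha _ b hb x hx => ?_,
    fun a ha ha1 b hb hb1 x hx => ?_⟩
  · simp only [centralizerPPrimeCore, Subgroup.card_map_of_injective (Subgroup.subtype_injective _)] at hd
    exact hp.out.coprime_iff_not_dvd.mp (pPrimeCore_coprime p).symm hd
  · have hbC : b ∈ centralizer ({a} : Set G) :=
      mem_centralizer_singleton_iff.mpr (hAc b hb a ha)
    obtain ⟨y, hy, rfl⟩ := hx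
    exact ⟨⟨b, hbC⟩ * y * ⟨b, hbC⟩⁻¹,
      (inferInstance : (pPrimeCore p ↥(centralizer ({a} : Set G))).Normal).conj_mem y hy _, rfl⟩
  · set Cb := centralizer ({b} : Set G) with hCb
    set Ca := centralizer ({a} : Set G) with hCa
    have hap : IsPGroup p ↥((zpowers a).subgroupOf Cb) := by
      refine (IsPGroup.of_equiv ?_ (Subgroup.subgroupOfEquivOfLe ?_).symm)
      · intro z
        obtain ⟨k, hk⟩ := Subgroup.mem_zpowers_iff.mp z.2
        refine ⟨1, Subtype.ext ?_⟩
        rw [pow_one, Subgroup.coe_pow, ← hk, ← zpow_natCast, ← zpow_mul, mul_comm, zpow_mul,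
          zpow_natCast, hA.2 a ha, one_zpow]
        rfl
      · rw [zpowers_le, mem_centralizer_singleton_iff]; exact hAc a ha b hb
    have hL : pLayer p ↥Cb = ⊥ := pLayer_eq_bot_of_solvable (hsolv b hb hb1)
    have hmain := pPrimeCore_centralizer_le hL hap
    obtain ⟨hxa, hxb⟩ := hx
    set D := centralizer (((zpowers a).subgroupOf Cb : Subgroup ↥Cb) : Set ↥Cb) with hD
    set X := ((centralizerPPrimeCore p a).subgroupOf Cb).subgroupOf D with hX
    have hXn : X.Normal := by
      refine ⟨fun y hy d => ?_⟩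
      have hd : (((d : ↥Cb) : G)) ∈ Ca := by
        rw [hCa, mem_centralizer_singleton_iff]
        have haD := (mem_centralizer_iff.mp d.2)
          ⟨a, mem_centralizer_singleton_iff.mpr (hAc a ha b hb)⟩ (mem_zpowers a)
        exact (congrArg Subtype.val haD).symm
      simp only [hX, mem_subgroupOf] at hy ⊢
      obtain ⟨z, hz, hzy⟩ := hy
      refine ⟨⟨_, hd⟩ * z * ⟨_, hd⟩⁻¹,
        (inferInstance : (pPrimeCore p ↥Ca).Normal).conj_mem z hz _, ?_⟩
      simp only [Subgroup.coe_subtype, Subgroup.coe_mul, Subgroup.coe_inv] at hzy ⊢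
      rw [hzy]
    have hXc : (Nat.card ↥X).Coprime p := by
      refine Nat.Coprime.coprime_dvd_left ?_ (pPrimeCore_coprime (G := ↥Ca) p)
      refine (card_comap_dvd_of_injective _ _ D.subtype_injective).trans
        ((card_comap_dvd_of_injective _ _ Cb.subtype_injective).trans ?_)
      rw [centralizerPPrimeCore, Subgroup.card_map_of_injective (Subgroup.subtype_injective _)]
    have hxD : (⟨x, hxb⟩ : ↥Cb) ∈ D := by
      rw [hD, mem_centralizer_iff]
      intro z hz
      obtain ⟨k, hk⟩ := Subgroup.mem_zpowers_iff.mp hz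
      refine Subtype.ext ?_
      have hxa' : Commute x a := mem_centralizer_singleton_iff.mp (map_subtype_le _ hxa)
      have h2 := hxa'.zpow_right k
      rw [hk] at h2
      exact h2.eq.symm
    refine ⟨⟨x, hxb⟩, hmain ?_, rfl⟩
    exact ⟨⟨⟨x, hxb⟩, hxD⟩, le_pPrimeCore hXn hXc hxa, rfl⟩


/-- Let A be a noncyclic elementary abelian p-subgroup of the finite group G such that C_G(a) is solvable for every non-identity a ∈ A. Then a ↦ O_{p'}(C_G(a)) is a solvable A-signalizer functor on G. -/
theorem result {G : Type*} [Group G] [Finite G] (p : ℕ) [Fact p.Prime] (A : Subgroup G) (hA : Cfsg.IsElementaryAbelian p A) (hA2 : p ^ 2 ≤ Nat.card ↥A) (hsolv : ∀ a ∈ A, a ≠ 1 → Group.IsSolvable ↥(Subgroup.centralizer ({a} : Set G))) : Cfsg.IsSolvableSignalizerFunctor p A (fun a => Cfsg.centralizerPPrimeCore p a) := by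
  exact ⟨centralizerPPrimeCore_isSignalizerFunctor p A hA hsolv, fun a ha ha1 =>
    Cfsg.Agent.Lib.Components.isSolvable_of_le (Subgroup.map_subtype_le _) (hsolv a ha ha1)⟩

end Cfsg.Agent.S1279
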