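import Cfsg.Statements.S1281
import Cfsg.Agent.Lib.Components.Signalizer

set_option autoImplicit false
open Cfsg

namespace Cfsg.Agent.S1281

open Subgroup Cfsg.Agent.Lib.Components

theorem image_inf_centralizer_le {G : Type*} [Group G] [Finite G] {p : ℕ} [hp : Fact p.Prime]
    {A : Subgroup G} (hA : IsElementaryAbelian p A) {θ : G → Subgroup G}
    (hθ : IsSolvableSignalizerFunctor p A θ) (N : Subgroup G) [N.Normal]
    (hN : ¬ p ∣ Nat.card ↥N) {a b : G} (ha : a ∈ A) (ha1 : a ≠ 1) (hb : b ∈ A) (hb1 : b ≠ 1) :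
    (θ a).map (QuotientGroup.mk' N) ⊓ centralizer {QuotientGroup.mk' N b} ≤
      (θ b).map (QuotientGroup.mk' N) := by
  rintro _ ⟨⟨x, hx, rfl⟩, hxb⟩
  have hxb' : QuotientGroup.mk' N x * QuotientGroup.mk' N b =
      QuotientGroup.mk' N b * QuotientGroup.mk' N x := mem_centralizer_singleton_iff.mp hxb
  have hfam := family_normalizer (theta_mem_family hθ ha ha1)
  set M := N ⊓ θ a with hM
  have hAM : A ≤ normalizer (M : Set G) := fun c hc => by
    rw [Subgroup.mem_normalizer_iff]
    intro z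
    exact and_congr ⟨fun h => (inferInstance : N.Normal).conj_mem z h c, fun h => by
      have := (inferInstance : N.Normal).conj_mem _ h c⁻¹
      simpa [mul_assoc] using this⟩ (Subgroup.mem_normalizer_iff.mp (hfam hc) z)
  have hfix : ∀ c ∈ zpowers b, c * x * c⁻¹ * x⁻¹ ∈ M := by
    intro c hc
    obtain ⟨k, rfl⟩ := mem_zpowers_iff.mp hc
    refine ⟨(QuotientGroup.eq_one_iff _).mp ?_, (θ a).mul_mem
      ((Subgroup.mem_normalizer_iff.mp (hfam (A.zpow_mem hb k)) x).mp hx) ((θ a).inv_mem hx)⟩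
    change QuotientGroup.mk' N (b ^ k * x * (b ^ k)⁻¹ * x⁻¹) = 1
    have hc' : Commute (QuotientGroup.mk' N x) (QuotientGroup.mk' N b ^ k) :=
      Commute.zpow_right hxb' k
    rw [map_mul, map_mul, map_mul, map_inv, map_inv, map_zpow, ← hc'.eq]
    group
  have hxM : x ∈ normalizer (M : Set G) := by
    rw [Subgroup.mem_normalizer_iff]
    intro z
    exact and_congr ⟨fun h => (inferInstance : N.Normal).conj_mem z h x, fun h => by
      have := (inferInstance : N.Normal).conj_mem _ h x⁻¹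
      simpa [mul_assoc] using this⟩ (Subgroup.mem_normalizer_iff.mp (le_normalizer hx) z)
  obtain ⟨n, hn, hxn⟩ := Cfsg.Agent.Lib.Coprime.exists_mem_centralizer_of_fixed_coset (A := zpowers b) (N := M)
    ((zpowers_le.mpr hb).trans hAM)
    (coprime_card_of_not_dvd ((elemAb_isPGroup hA).to_le (zpowers_le.mpr hb))
      (fun h => hN (h.trans (card_dvd_of_le (inf_le_left : M ≤ N)))))
    (Or.inl (Cfsg.Agent.Lib.Coprime.isSolvable_zpowers b)) hxM hfix
  refine ⟨x * n, hθ.1.2.2.2 a ha ha1 b hb hb1 ⟨(θ a).mul_mem hx hn.2,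
    centralizer_singleton_of_le (mem_zpowers b) hxn⟩, ?_⟩
  rw [map_mul, show QuotientGroup.mk' N n = 1 from (QuotientGroup.eq_one_iff n).mpr hn.1, mul_one]


/-- Let θ be a solvable A-signalizer functor on the finite group G (A a noncyclic elementary abelian p-subgroup) and N a normal subgroup of order prime to p. Then for all non-identity a, b ∈ A, the image of θ a in G / N meets the centralizer of the image of b inside the image of θ b. -/
theorem result {G : Type*} [Group G] [Finite G] (p : ℕ) [Fact p.Prime] (A : Subgroup G) (hA : Cfsg.IsElementaryAbelian p A) (hA2 : p ^ 2 ≤ Nat.card ↥A) (θ : G → Subgroup G) (hθ : Cfsg.IsSolvableSignalizerFunctor p A θ) (N : Subgroup G) [N.Normal] (hN : ¬ p ∣ Nat.card ↥N) (a b : G) (ha : a ∈ A) (ha1 : a ≠ 1) (hb : b ∈ A) (hb1 : b ≠ 1) : (θ a).map (QuotientGroup.mk' N) ⊓ Subgroup.centralizer {QuotientGroup.mk' N b} ≤ (θ b).map (QuotientGroup.mk' N) := by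
  exact image_inf_centralizer_le hA hθ N hN ha ha1 hb hb1

end Cfsg.Agent.S1281
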