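import Cfsg.Statements.S1282
import Cfsg.Agent.Lib.Components.Signalizer

set_option autoImplicit false
open Cfsg

namespace Cfsg.Agent.S1282

open Subgroup Cfsg.Agent.Lib.Components

theorem exists_hyperplane_moving {G : Type*} [Group G] [Finite G] {p : ℕ} [hp : Fact p.Prime]
    {A : Subgroup G} (hA : IsElementaryAbelian p A) {q : ℕ} [hq : Fact q.Prime] (hqp : q ≠ p)
    {Q D : Subgroup G} (hQ : IsPGroup q ↥Q) (hAQ : A ≤ normalizer (Q : Set G))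
    (hAD : A ≤ normalizer (D : Set G)) (hDQ : D ≤ Q) (hne : D ≠ Q) :
    ∃ B : Subgroup G, B ≤ A ∧ B.relIndex A ≤ p ∧
      ¬ normalizer (D : Set G) ⊓ Q ⊓ centralizer (B : Set G) ≤ D := by
  set N := normalizer (D : Set G) ⊓ Q with hN
  have := hQ.isNilpotent
  have hlt : D.subgroupOf Q < ⊤ := by
    rw [lt_top_iff_ne_top, Ne, subgroupOf_eq_top]
    exact fun h => hne (le_antisymm hDQ h)
  obtain ⟨y, hy, hyD⟩ := SetLike.exists_of_lt (Group.normalizerCondition_of_isNilpotent _ hlt)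
  have hyN : (y : G) ∈ N := by
    refine ⟨?_, y.2⟩
    change (y : G) ∈ normalizer (D : Set G)
    rw [Subgroup.mem_normalizer_iff]
    intro z
    constructor
    · intro hz
      exact (Subgroup.mem_normalizer_iff.mp hy ⟨z, hDQ hz⟩).mp hz
    · intro hz
      have hzQ : z ∈ Q := by
        have h1 := Q.mul_mem (Q.mul_mem (Q.inv_mem y.2) (hDQ hz)) y.2
        simpa [mul_assoc] using h1
      exact (Subgroup.mem_normalizer_iff.mp hy ⟨z, hzQ⟩).mpr hz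
  by_contra hcon
  simp only [not_exists, not_and, not_not] at hcon
  have hAN : A ≤ normalizer (N : Set G) := fun b hb => by
    rw [Subgroup.mem_normalizer_iff]
    intro z
    refine and_congr ?_ (Subgroup.mem_normalizer_iff.mp (hAQ hb) z)
    exact Subgroup.mem_normalizer_iff.mp (le_normalizer (H := normalizer (D : Set G)) (hAD hb)) z
  have hpN : ¬ p ∣ Nat.card ↥N := fun h => by
    obtain ⟨n, hn⟩ := IsPGroup.iff_card.mp hQ
    have h2 := h.trans (card_dvd_of_le (inf_le_right : N ≤ Q))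
    rw [hn] at h2
    exact hqp ((Nat.prime_dvd_prime_iff_eq hp.out hq.out).mp (hp.out.dvd_of_dvd_pow h2)).symm
  have hle : N ≤ D := by
    rw [eq_iSup_hyperplane hA (K := N) hpN hAN]
    exact iSup_le fun B => hcon B B.2.1 B.2.2
  exact hyD (hle hyN)

theorem exists_common {G : Type*} [Group G] [Finite G] {p : ℕ} [hp : Fact p.Prime]
    {A : Subgroup G} (hA : IsElementaryAbelian p A) (hA3 : p ^ 3 ≤ Nat.card ↥A) {q : ℕ}
    [hq : Fact q.Prime] (hqp : q ≠ p) {Q₁ Q₂ : Subgroup G} (h₁ : IsPGroup q ↥Q₁)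
    (h₂ : IsPGroup q ↥Q₂) (hA₁ : A ≤ normalizer (Q₁ : Set G)) (hA₂ : A ≤ normalizer (Q₂ : Set G))
    (hD₁ : Q₁ ⊓ Q₂ ≠ Q₁) (hD₂ : Q₁ ⊓ Q₂ ≠ Q₂) :
    ∃ a ∈ A, a ≠ 1 ∧
      ¬ (normalizer ((Q₁ ⊓ Q₂ : Subgroup G) : Set G) ⊓ Q₁ ⊓ centralizer {a} ≤ Q₁ ⊓ Q₂) ∧
      ¬ (normalizer ((Q₁ ⊓ Q₂ : Subgroup G) : Set G) ⊓ Q₂ ⊓ centralizer {a} ≤ Q₁ ⊓ Q₂) := by
  have hAD : A ≤ normalizer ((Q₁ ⊓ Q₂ : Subgroup G) : Set G) := fun b hb => by
    rw [Subgroup.mem_normalizer_iff]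
    intro z
    exact and_congr (Subgroup.mem_normalizer_iff.mp (hA₁ hb) z)
      (Subgroup.mem_normalizer_iff.mp (hA₂ hb) z)
  obtain ⟨B₁, hB₁, hB₁i, hB₁D⟩ := exists_hyperplane_moving hA hqp h₁ hA₁ hAD inf_le_left hD₁
  obtain ⟨B₂, hB₂, hB₂i, hB₂D⟩ := exists_hyperplane_moving hA hqp h₂ hA₂ hAD inf_le_right hD₂
  obtain ⟨a, ⟨ha₁, ha₂⟩, ha1⟩ := exists_ne_one_mem_inf hA hA3 hB₁ hB₂ hB₁i hB₂i
  exact ⟨a, hB₁ ha₁, ha1,
    fun h => hB₁D (le_trans (inf_le_inf_left _ (centralizer_singleton_of_le ha₁)) h),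
    fun h => hB₂D (le_trans (inf_le_inf_left _ (centralizer_singleton_of_le ha₂)) h)⟩


/-- Let A be an elementary abelian p-subgroup of rank at least 3 of the finite group G, q ≠ p a prime, and Q₁, Q₂ q-subgroups normalized by A with D = Q₁ ∩ Q₂ different from both. Then there is a non-identity a ∈ A such that, for i = 1 and i = 2, N_{Q_i}(D) ∩ C_G(a) is not contained in D. -/
theorem result {G : Type*} [Group G] [Finite G] (p : ℕ) [Fact p.Prime] (A : Subgroup G) (hA : Cfsg.IsElementaryAbelian p A) (hA3 : p ^ 3 ≤ Nat.card ↥A) (q : ℕ) [Fact q.Prime] (hqp : q ≠ p) (Q₁ Q₂ : Subgroup G) (h₁ : IsPGroup q ↥Q₁) (h₂ : IsPGroup q ↥Q₂) (hA₁ : A ≤ Subgroup.normalizer (Q₁ : Set G)) (hA₂ : A ≤ Subgroup.normalizer (Q₂ : Set G)) (hD₁ : Q₁ ⊓ Q₂ ≠ Q₁) (hD₂ : Q₁ ⊓ Q₂ ≠ Q₂) : ∃ a ∈ A, a ≠ 1 ∧ ¬ (Subgroup.normalizer ((Q₁ ⊓ Q₂ : Subgroup G) : Set G) ⊓ Q₁ ⊓ Subgroup.centralizer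 {a} ≤ Q₁ ⊓ Q₂) ∧ ¬ (Subgroup.normalizer ((Q₁ ⊓ Q₂ : Subgroup G) : Set G) ⊓ Q₂ ⊓ Subgroup.centralizer {a} ≤ Q₁ ⊓ Q₂) := by
  exact exists_common hA hA3 hqp h₁ h₂ hA₁ hA₂ hD₁ hD₂

end Cfsg.Agent.S1282
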