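import Cfsg.Statements.S1284
import Cfsg.Agent.Lib.Components.Signalizer

set_option autoImplicit false
open Cfsg

namespace Cfsg.Agent.S1284

open Subgroup Cfsg.Agent.Lib.Components

theorem sylow_of_max {G : Type*} [Group G] [Finite G] {p : ℕ} [hp : Fact p.Prime]
    {A : Subgroup G} (hA : IsElementaryAbelian p A) (hA3 : p ^ 3 ≤ Nat.card ↥A)
    {θ : G → Subgroup G} (hθ : IsSolvableSignalizerFunctor p A θ) {q : ℕ} [hq : Fact q.Prime]
    {Q : Subgroup G} (hQ : IsMaxSignalizer p A θ q Q) :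
    (∀ H : Subgroup G, H ∈ signalizerFamily p A θ → ∃ c ∈ signalizerInf A θ, ∃ S : Sylow q ↥H,
      (S : Subgroup ↥H).map H.subtype = Q.map (MulAut.conj c).toMonoidHom ⊓ H) ∧
    (∀ B : Subgroup G, B ≤ A → B ≠ ⊥ → ∃ S : Sylow q ↥(signalizerInf B θ),
      (S : Subgroup ↥(signalizerInf B θ)).map (signalizerInf B θ).subtype =
        Q ⊓ centralizer (B : Set G)) := by
  have part1 : ∀ H : Subgroup G, H ∈ signalizerFamily p A θ → ∃ c ∈ signalizerInf A θ,
      ∃ S : Sylow q ↥H,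
        (S : Subgroup ↥H).map H.subtype = Q.map (MulAut.conj c).toMonoidHom ⊓ H := by
    intro H hH
    obtain ⟨S, hS⟩ := Cfsg.Agent.Lib.Coprime.exists_invariant_sylow (family_normalizer hH)
      (coprime_card_of_not_dvd (elemAb_isPGroup hA) hH.2.1) (Or.inr hH.1) q
    have hSmem := mem_family_of_le hH (map_subtype_le _) hS
    obtain ⟨Q', hle, hQ'⟩ := exists_isMaxSignalizer_ge hSmem (S.isPGroup'.map _)
    obtain ⟨c, hc, hcQ⟩ := exists_conj_eq_of_isMaxSignalizer hA hθ hA3 hQ hQ'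
    refine ⟨c, hc, S, le_antisymm (le_inf (hle.trans hcQ.ge) (map_subtype_le _)) ?_⟩
    have hqgrp : IsPGroup q ↥((Q.map (MulAut.conj c).toMonoidHom ⊓ H).subgroupOf H) :=
      ((hQ.2.1.map _).to_le inf_le_left).of_equiv (subgroupOfEquivOfLe inf_le_right).symm
    have hmax := S.is_maximal' hqgrp (fun x hx => ⟨(hle.trans hcQ.ge) ⟨x, hx, rfl⟩, x.2⟩)
    exact ((map_subgroupOf_eq_of_le inf_le_right).symm.trans (congrArg (map H.subtype) hmax)).le
  refine ⟨part1, fun B hB hne => ?_⟩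
  have hmemB := signalizerInf_mem_family hθ hB hne
  have hfix : Q ⊓ centralizer (B : Set G) = Q ⊓ signalizerInf B θ := le_antisymm
    (le_inf inf_le_left (family_inf_centralizer_le hQ.1 hB))
    (inf_le_inf_left _ (signalizerInf_le_centralizer hθ hB))
  rw [hfix]
  have hcB : ∀ c ∈ signalizerInf A θ, c ∈ signalizerInf B θ := fun c hc =>
    mem_signalizerInf.mpr fun b hb hb1 => mem_signalizerInf.mp hc b (hB hb) hb1
  generalize signalizerInf B θ = H at hmemB hcB ⊢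
  obtain ⟨c, hc, S, hS⟩ := part1 H hmemB
  have hcH : c ∈ H := hcB c hc
  refine ⟨MulAut.conj (⟨c, hcH⟩ : ↥H)⁻¹ • S, ?_⟩
  rw [Cfsg.Agent.Lib.Coprime.sylow_map_conj_smul, hS]
  ext x
  rw [Cfsg.Agent.Lib.Coprime.mem_conj_smul]
  simp only [mem_inf, InvMemClass.coe_inv, inv_inv]
  constructor
  · rintro ⟨⟨y, hy, hyx⟩, h2⟩
    simp only [MulEquiv.coe_toMonoidHom, MulAut.conj_apply] at hyx
    have e : y = x := mul_left_cancel (mul_right_cancel hyx)
    refine ⟨e ▸ hy, ?_⟩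
    have := H.mul_mem (H.mul_mem (H.inv_mem hcH) h2) hcH
    simpa [mul_assoc] using this
  · rintro ⟨h1, h2⟩
    exact ⟨⟨x, h1, rfl⟩, H.mul_mem (H.mul_mem hcH h2) (H.inv_mem hcH)⟩


/-- Let θ be a solvable A-signalizer functor on the finite group G, A elementary abelian of rank at least 3, q a prime dividing some |θ a|, and Q maximal among the q-subgroups in the family of θ. Then (a) for every member H of the family, some c in the intersection of the θ a (a ∈ A non-identity) makes c Q c⁻¹ ∩ H a Sylow q-subgroup of H; and (b) for every nontrivial subgroup B ≤ A, C_Q(B) is a Sylow q-subgroup of the intersection of the θ b over the non-identity b ∈ B. -/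
theorem result {G : Type*} [Group G] [Finite G] (p : ℕ) [Fact p.Prime] (A : Subgroup G) (hA : Cfsg.IsElementaryAbelian p A) (hA3 : p ^ 3 ≤ Nat.card ↥A) (θ : G → Subgroup G) (hθ : Cfsg.IsSolvableSignalizerFunctor p A θ) (q : ℕ) [Fact q.Prime] (hq : ∃ a ∈ A, a ≠ 1 ∧ q ∣ Nat.card ↥(θ a)) (Q : Subgroup G) (hQW : Q ∈ Cfsg.signalizerFamily p A θ) (hQq : IsPGroup q ↥Q) (hQmax : ∀ R ∈ Cfsg.signalizerFamily p A θ, IsPGroup q ↥R → Q ≤ R → R = Q) : (∀ H : Subgroup G, H ∈ Cfsg.signalizerFamily p A θ → ∃ c ∈ Cfsg.signalizerInf A θ, ∃ S : Sylow q ↥H, (S : Subgroup ↥H).map H.subtype = Q.map (MulAut.conj c).toMonoidHom ⊓ H) ∧ (∀ B : Subgroup G, B ≤ A → B ≠ ⊥ → ∃ S : Sylow q ↥(Cfsg.signalizerInf B θ), (S : Subgroup ↥(Cfsg.signalizerInf B θ)).map (Cfsg.signalizerInf B θ).subtype = Q ⊓ Subgroup.centralizer (B : Set G)) := by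
  exact sylow_of_max hA hA3 hθ ⟨hQW, hQq, hQmax⟩

end Cfsg.Agent.S1284
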