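import Cfsg.Statements.S1285
import Cfsg.Agent.Lib.Components.Signalizer

set_option autoImplicit false
open Cfsg

namespace Cfsg.Agent.S1285

open Subgroup Cfsg.Agent.Lib.Components

theorem complete {G : Type*} [Group G] [Finite G] {p : ℕ} [hp : Fact p.Prime]
    {A : Subgroup G} (hA : IsElementaryAbelian p A) (hA3 : p ^ 3 ≤ Nat.card ↥A)
    {θ : G → Subgroup G} (hθ : IsSolvableSignalizerFunctor p A θ) {q : ℕ} [hq' : Fact q.Prime]
    (hq : ∀ a ∈ A, a ≠ 1 → IsPGroup q ↥(θ a)) : IsCompleteSignalizerFunctor p A θ := by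
  refine ⟨hθ.1, ?_⟩
  have hA2 : p ^ 2 ≤ Nat.card ↥A :=
    (Nat.pow_le_pow_right hp.out.pos (by norm_num)).trans hA3
  have hne := elemAb_ne_bot hA hA2
  obtain ⟨a₀, ha₀, ha₀1⟩ := (Subgroup.bot_or_exists_ne_one A).resolve_left hne
  have hinfq : IsPGroup q ↥(signalizerInf A θ) :=
    (hq a₀ ha₀ ha₀1).to_le fun x hx => mem_signalizerInf.mp hx a₀ ha₀ ha₀1
  obtain ⟨Q, hle, hQ⟩ := exists_isMaxSignalizer_ge (signalizerInf_mem_family hθ le_rfl hne) hinfq
  refine ⟨Q, hQ.1.2.2.1, hQ.1.2.1, fun a ha ha1 =>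
    le_antisymm (hQ.1.2.2.2 a ha ha1) (le_inf ?_ (hθ.1.1 a ha ha1))⟩
  obtain ⟨Q', hle', hQ'⟩ := exists_isMaxSignalizer_ge (theta_mem_family hθ ha ha1) (hq a ha ha1)
  obtain ⟨c, hc, hcQ⟩ := exists_conj_eq_of_isMaxSignalizer hA hθ hA3 hQ hQ'
  have e : Q' = Q := by
    rw [← hcQ]
    ext x
    constructor
    · rintro ⟨y, hy, rfl⟩
      exact Q.mul_mem (Q.mul_mem (hle hc) hy) (Q.inv_mem (hle hc))
    · intro hx
      exact ⟨c⁻¹ * x * c, Q.mul_mem (Q.mul_mem (Q.inv_mem (hle hc)) hx) (hle hc),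
        by simp [mul_assoc]⟩
  exact e ▸ hle'


/-- Let θ be a solvable A-signalizer functor on the finite group G with A elementary abelian of rank at least 3, and suppose that for some prime q every θ a (a ∈ A non-identity) is a q-group. Then θ is complete. -/
theorem result {G : Type*} [Group G] [Finite G] (p : ℕ) [Fact p.Prime] (A : Subgroup G) (hA : Cfsg.IsElementaryAbelian p A) (hA3 : p ^ 3 ≤ Nat.card ↥A) (θ : G → Subgroup G) (hθ : Cfsg.IsSolvableSignalizerFunctor p A θ) (q : ℕ) [Fact q.Prime] (hq : ∀ a ∈ A, a ≠ 1 → IsPGroup q ↥(θ a)) : Cfsg.IsCompleteSignalizerFunctor p A θ := by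
  exact complete hA hA3 hθ hq

end Cfsg.Agent.S1285
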