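import Cfsg.Statements.S1286
import Mathlib.GroupTheory.Perm.Fin
import Mathlib.Data.Fintype.Perm

set_option autoImplicit false
open Cfsg

namespace Cfsg.Agent.S1286

open Equiv

/-- The involutions and 3-cycles of the example. -/
def ia : Equiv.Perm (Fin 5) := swap 0 1
def ib : Equiv.Perm (Fin 5) := swap 2 3
def cc : Equiv.Perm (Fin 5) := swap 2 3 * swap 3 4
def dd : Equiv.Perm (Fin 5) := swap 0 1 * swap 1 4

/-- The four-group. -/
def fourA : Subgroup (Equiv.Perm (Fin 5)) where
  carrier := {g | g = 1 ∨ g = ia ∨ g = ib ∨ g = ia * ib}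
  one_mem' := Or.inl rfl
  mul_mem' := by
    rintro x y (rfl | rfl | rfl | rfl) (rfl | rfl | rfl | rfl) <;>
      simp only [Set.mem_setOf_eq] <;> decide
  inv_mem' := by
    rintro x (rfl | rfl | rfl | rfl) <;> simp only [Set.mem_setOf_eq] <;> decide

/-- The group of order 3 centralized by `ia`. -/
def threeC : Subgroup (Equiv.Perm (Fin 5)) where
  carrier := {g | g = 1 ∨ g = cc ∨ g = cc * cc}
  one_mem' := Or.inl rfl
  mul_mem' := by
    rintro x y (rfl | rfl | rfl) (rfl | rfl | rfl) <;> simp only [Set.mem_setOf_eq] <;> decide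
  inv_mem' := by
    rintro x (rfl | rfl | rfl) <;> simp only [Set.mem_setOf_eq] <;> decide

/-- The group of order 3 centralized by `ib`. -/
def threeD : Subgroup (Equiv.Perm (Fin 5)) where
  carrier := {g | g = 1 ∨ g = dd ∨ g = dd * dd}
  one_mem' := Or.inl rfl
  mul_mem' := by
    rintro x y (rfl | rfl | rfl) (rfl | rfl | rfl) <;> simp only [Set.mem_setOf_eq] <;> decide
  inv_mem' := by
    rintro x (rfl | rfl | rfl) <;> simp only [Set.mem_setOf_eq] <;> decide

/-- The functor. -/
def theta (g : Equiv.Perm (Fin 5)) : Subgroup (Equiv.Perm (Fin 5)) :=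
  if g = ia then threeC else if g = ib then threeD else ⊥

theorem mem_fourA {g : Equiv.Perm (Fin 5)} :
    g ∈ fourA ↔ (g = 1 ∨ g = ia ∨ g = ib ∨ g = ia * ib) := Iff.rfl

theorem mem_threeC {g : Equiv.Perm (Fin 5)} :
    g ∈ threeC ↔ (g = 1 ∨ g = cc ∨ g = cc * cc) := Iff.rfl

theorem mem_threeD {g : Equiv.Perm (Fin 5)} :
    g ∈ threeD ↔ (g = 1 ∨ g = dd ∨ g = dd * dd) := Iff.rfl

theorem theta_ia : theta ia = threeC := by simp [theta]

theorem theta_ib : theta ib = threeD := by
  rw [theta, if_neg (by decide), if_pos rfl]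

theorem theta_iab : theta (ia * ib) = ⊥ := by
  rw [theta, if_neg (by decide), if_neg (by decide)]

theorem fourA_elemAb : Cfsg.IsElementaryAbelian 2 fourA := by
  refine ⟨⟨⟨fun x y => Subtype.ext ?_⟩⟩, fun x hx => ?_⟩
  · rcases mem_fourA.mp x.2 with h | h | h | h <;> rcases mem_fourA.mp y.2 with h' | h' | h' | h' <;>
      simp only [Subgroup.coe_mul, h, h'] <;> decide
  · rcases mem_fourA.mp hx with h | h | h | h <;> rw [h] <;> decide

theorem fourA_card : Nat.card ↥fourA = 4 := by
  have h : (fourA : Set (Equiv.Perm (Fin 5))) =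
      ↑({1, ia, ib, ia * ib} : Finset (Equiv.Perm (Fin 5))) := by
    ext g; simp [mem_fourA]
  rw [← SetLike.coe_sort_coe, h, Nat.card_coe_set_eq, Set.ncard_coe_finset]
  decide

theorem three_card (H : Subgroup (Equiv.Perm (Fin 5))) (u : Equiv.Perm (Fin 5))
    (hu : ({1, u, u * u} : Finset (Equiv.Perm (Fin 5))).card = 3)
    (h : ∀ g, g ∈ H ↔ (g = 1 ∨ g = u ∨ g = u * u)) : Nat.card ↥H = 3 := by
  have h' : (H : Set (Equiv.Perm (Fin 5))) = ↑({1, u, u * u} : Finset (Equiv.Perm (Fin 5))) := by
    ext g; simp [h]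
  rw [← SetLike.coe_sort_coe, h', Nat.card_coe_set_eq, Set.ncard_coe_finset, hu]

theorem theta_functor : Cfsg.IsSolvableSignalizerFunctor 2 fourA theta := by
  have cases : ∀ a ∈ fourA, a ≠ 1 → a = ia ∨ a = ib ∨ a = ia * ib := fun a ha ha1 =>
    (mem_fourA.mp ha).resolve_left ha1
  refine ⟨⟨fun a ha ha1 => ?_, fun a ha ha1 => ?_, fun a ha ha1 b hb x hx => ?_,
    fun a ha ha1 b hb hb1 x hx => ?_⟩, fun a ha ha1 => ?_⟩
  · intro x hx
    rw [Subgroup.mem_centralizer_singleton_iff]
    rcases cases a ha ha1 with rfl | rfl | rfl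
    · rw [theta_ia] at hx; rcases mem_threeC.mp hx with rfl | rfl | rfl <;> decide
    · rw [theta_ib] at hx; rcases mem_threeD.mp hx with rfl | rfl | rfl <;> decide
    · rw [theta_iab, Subgroup.mem_bot] at hx; subst hx; simp
  · rcases cases a ha ha1 with rfl | rfl | rfl
    · rw [theta_ia, three_card _ cc (by decide) fun g => mem_threeC]; decide
    · rw [theta_ib, three_card _ dd (by decide) fun g => mem_threeD]; decide
    · rw [theta_iab, Subgroup.card_bot]; decide
  · rcases cases a ha ha1 with rfl | rfl | rfl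
    · rw [theta_ia] at hx ⊢
      rcases mem_threeC.mp hx with rfl | rfl | rfl <;>
        rcases mem_fourA.mp hb with rfl | rfl | rfl | rfl <;> rw [mem_threeC] <;> decide
    · rw [theta_ib] at hx ⊢
      rcases mem_threeD.mp hx with rfl | rfl | rfl <;>
        rcases mem_fourA.mp hb with rfl | rfl | rfl | rfl <;> rw [mem_threeD] <;> decide
    · rw [theta_iab, Subgroup.mem_bot] at hx ⊢; subst hx; simp
  · obtain ⟨hxa, hxb⟩ := hx
    replace hxb : x * b = b * x := Subgroup.mem_centralizer_singleton_iff.mp hxb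
    rcases eq_or_ne x 1 with rfl | hx1
    · exact (theta b).one_mem
    rcases cases a ha ha1 with rfl | rfl | rfl
    · rw [theta_ia] at hxa
      rcases cases b hb hb1 with rfl | rfl | rfl
      · rw [theta_ia]; exact hxa
      · rcases mem_threeC.mp hxa with rfl | rfl | rfl <;>
          first | exact absurd rfl hx1 | exact absurd hxb (by decide)
      · rcases mem_threeC.mp hxa with rfl | rfl | rfl <;>
          first | exact absurd rfl hx1 | exact absurd hxb (by decide)
    · rw [theta_ib] at hxa
      rcases cases b hb hb1 with rfl | rfl | rfl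
      · rcases mem_threeD.mp hxa with rfl | rfl | rfl <;>
          first | exact absurd rfl hx1 | exact absurd hxb (by decide)
      · rw [theta_ib]; exact hxa
      · rcases mem_threeD.mp hxa with rfl | rfl | rfl <;>
          first | exact absurd rfl hx1 | exact absurd hxb (by decide)
    · rw [theta_iab] at hxa; exact absurd (Subgroup.mem_bot.mp hxa) hx1
  · have h3 : ∀ H : Subgroup (Equiv.Perm (Fin 5)), Nat.card ↥H = 3 → Group.IsSolvable ↥H := by
      intro H hH
      have : Fact (Nat.Prime 3) := ⟨Nat.prime_three⟩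
      have := (IsPGroup.of_card (p := 3) (n := 1) (by rw [hH, pow_one])).isNilpotent (G := ↥H)
      exact IsNilpotent.to_isSolvable
    rcases cases a ha ha1 with rfl | rfl | rfl
    · rw [theta_ia]; exact h3 _ (three_card _ cc (by decide) fun g => mem_threeC)
    · rw [theta_ib]; exact h3 _ (three_card _ dd (by decide) fun g => mem_threeD)
    · rw [theta_iab]; infer_instance

theorem theta_not_complete : ¬ Cfsg.IsCompleteSignalizerFunctor 2 fourA theta := by
  rintro ⟨-, X, -, hodd, hX⟩
  have hc : cc ∈ X := by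
    have h := hX ia (Or.inr (Or.inl rfl)) (by decide)
    rw [theta_ia] at h
    have : cc ∈ threeC := Or.inr (Or.inl rfl)
    rw [← h] at this
    exact this.1
  have hd : dd ∈ X := by
    have h := hX ib (Or.inr (Or.inr (Or.inl rfl))) (by decide)
    rw [theta_ib] at h
    have : dd ∈ threeD := Or.inr (Or.inl rfl)
    rw [← h] at this
    exact this.1
  have hw : cc * cc * dd * cc * dd ∈ X :=
    X.mul_mem (X.mul_mem (X.mul_mem (X.mul_mem hc hc) hd) hc) hd
  have h2 : orderOf (cc * cc * dd * cc * dd) = 2 :=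
    orderOf_eq_prime (by decide) (by decide)
  exact hodd (h2 ▸ Subgroup.orderOf_dvd_natCard X hw)


/-- There exist a finite group X, an elementary abelian subgroup A of order 4 and a solvable A-signalizer functor θ on X for the prime 2 which is not complete. -/
theorem result : ∃ (X : Type) (_ : Group X) (_ : Finite X) (A : Subgroup X) (θ : X → Subgroup X), Cfsg.IsElementaryAbelian 2 A ∧ Nat.card ↥A = 4 ∧ Cfsg.IsSolvableSignalizerFunctor 2 A θ ∧ ¬ Cfsg.IsCompleteSignalizerFunctor 2 A θ := by
  exact ⟨Equiv.Perm (Fin 5), inferInstance, inferInstance, fourA, theta, fourA_elemAb, fourA_card,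
    theta_functor, theta_not_complete⟩

end Cfsg.Agent.S1286
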