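import Cfsg.Statements.S1287
import Cfsg.Agent.Lib.Components.Signalizer
import Cfsg.Agent.Lib.Coprime.PxQ

set_option autoImplicit false
open scoped Pointwise commutatorElement
open Cfsg

namespace Cfsg.Agent.S1287

open Subgroup Cfsg.Agent.Lib.Components
open scoped Pointwise commutatorElement

variable {G : Type*} [Group G] [Finite G]

theorem card_setMul_mul_card_inf (H L : Subgroup G) :
    Nat.card ↥((H : Set G) * (L : Set G)) * Nat.card ↥(H ⊓ L) = Nat.card ↥H * Nat.card ↥L := by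
  rw [Subgroup.card_mul_eq_card_subgroup_mul_card_quotient]
  let f : ↥H ⧸ L.subgroupOf H → ↥(QuotientGroup.mk (s := L) '' (H : Set G)) :=
    Quotient.lift (fun h => ⟨QuotientGroup.mk (h : G), (h : G), h.2, rfl⟩) fun a b hab => by
      have hab' := QuotientGroup.leftRel_apply.mp hab
      exact Subtype.ext (QuotientGroup.eq.mpr hab')
  have hf : Function.Bijective f := by
    constructor
    · intro a b
      induction a using QuotientGroup.induction_on
      induction b using QuotientGroup.induction_on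
      intro hab
      exact QuotientGroup.eq.mpr (QuotientGroup.eq.mp (congrArg Subtype.val hab) :)
    · rintro ⟨_, h, hh, rfl⟩
      exact ⟨QuotientGroup.mk (⟨h, hh⟩ : ↥H), rfl⟩
  have h1 : Nat.card ↥(QuotientGroup.mk (s := L) '' (H : Set G)) = L.relIndex H :=
    (Nat.card_eq_of_bijective f hf).symm
  rw [h1]
  have h2 := (L.subgroupOf H).card_mul_index
  have h3 : Nat.card ↥(L.subgroupOf H) = Nat.card ↥(H ⊓ L) := by
    rw [← inf_subgroupOf_left, Nat.card_congr (subgroupOfEquivOfLe inf_le_left).toEquiv]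
  rw [h3] at h2
  rw [Subgroup.relIndex]
  calc Nat.card ↥L * (L.subgroupOf H).index * Nat.card ↥(H ⊓ L)
      = (Nat.card ↥(H ⊓ L) * (L.subgroupOf H).index) * Nat.card ↥L := by ring
    _ = Nat.card ↥H * Nat.card ↥L := by rw [h2]

variable {p : ℕ} [hp : Fact p.Prime] {A : Subgroup G}

omit [Finite G] hp in
theorem conj_mem_iff {H : Subgroup G} {g : G} (hg : g ∈ normalizer (H : Set G)) {x : G} :
    x ∈ H ↔ g * x * g⁻¹ ∈ H := Subgroup.mem_normalizer_iff.mp hg x

/-- The case of an `r`-group. -/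
theorem eq_mul_of_isPGroup (hA : IsElementaryAbelian p A) (hA2 : p ^ 2 ≤ Nat.card ↥A) {r : ℕ}
    [hr : Fact r.Prime] {P X Y : Subgroup G} (hP : IsPGroup r ↥P) (hPp : ¬ p ∣ Nat.card ↥P)
    (hAP : A ≤ normalizer (P : Set G)) (hX : X ≤ P) (hY : Y ≤ P)
    (hfac : ∀ a ∈ A, a ≠ 1 → ∀ x ∈ P ⊓ centralizer ({a} : Set G),
      ∃ u ∈ X, ∃ v ∈ Y, x = u * v) :
    ∀ g ∈ P, ∃ u ∈ X, ∃ v ∈ Y, g = u * v := by
  suffices key : ∀ N : Subgroup G, N ≤ P → P ≤ normalizer (N : Set G) → A ≤ normalizer (N : Set G) →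
      (∀ g ∈ P, ∃ u ∈ X, ∃ n ∈ N, ∃ v ∈ Y, g = u * n * v) → ∀ g ∈ P, ∃ u ∈ X, ∃ v ∈ Y, g = u * v by
    exact key P le_rfl le_normalizer hAP fun g hg =>
      ⟨1, X.one_mem, g, hg, 1, Y.one_mem, by group⟩
  intro N
  induction hn : Nat.card ↥N using Nat.strong_induction_on generalizing N with
  | _ n ih =>
    subst hn
    intro hNP hPN hAN hgen
    rcases eq_or_ne N ⊥ with rfl | hne
    · intro g hg
      obtain ⟨u, hu, m, hm, v, hv, rfl⟩ := hgen g hg
      rw [Subgroup.mem_bot] at hm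
      exact ⟨u, hu, v, hv, by rw [hm, mul_one]⟩
    set M := ⁅N, P⁆ with hM
    have hlt : M < N := Cfsg.Agent.Lib.Coprime.commutator_lt_of_isPGroup (hP.to_le hNP) hP hPN hne
    have hPM : P ≤ normalizer (M : Set G) := normalizer_commutator_ge_right N P
    have hAM : A ≤ normalizer (M : Set G) := by
      intro b hb
      have h1 : M.map (MulAut.conj b).toMonoidHom = M := by
        have e1 : N.map (MulAut.conj b).toMonoidHom = N := by
          refine Subgroup.eq_of_le_of_card_ge ?_ (card_map_of_injective (MulAut.conj b).injective).ge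
          rintro _ ⟨x, hx, rfl⟩
          exact (conj_mem_iff (hAN hb)).mp hx
        have e2 : P.map (MulAut.conj b).toMonoidHom = P := by
          refine Subgroup.eq_of_le_of_card_ge ?_ (card_map_of_injective (MulAut.conj b).injective).ge
          rintro _ ⟨x, hx, rfl⟩
          exact (conj_mem_iff (hAP hb)).mp hx
        rw [hM, map_commutator, e1, e2]
      rw [Subgroup.mem_normalizer_iff]
      intro x
      constructor
      · intro hx
        rw [← h1]
        exact ⟨x, hx, rfl⟩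
      · intro hx
        rw [← h1] at hx
        obtain ⟨y, hy, hyx⟩ := hx
        simp only [MulEquiv.coe_toMonoidHom, MulAut.conj_apply] at hyx
        exact (mul_left_cancel (mul_right_cancel hyx)) ▸ hy
    refine ih _ ?_ M rfl (hlt.le.trans hNP) hPM hAM ?_
    · refine lt_of_not_ge fun hge => hlt.ne (Subgroup.eq_of_le_of_card_ge hlt.le hge)
    -- every element of `N` can be absorbed
    have absorb : ∀ m ∈ N, ∀ x ∈ X, ∀ y ∈ Y,
        ∃ u ∈ X, ∃ k ∈ M, ∃ v ∈ Y, x * m * y = u * k * v := by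
      have hNgen : N = closure (⋃ a ∈ {a : G | a ∈ A ∧ a ≠ 1},
          ((N ⊓ centralizer ({a} : Set G) : Subgroup G) : Set G)) := by
        have := hA.1
        conv_lhs => rw [← Cfsg.Agent.Lib.Coprime.iSup_centralizer_eq (elemAb_not_isCyclic hA hA2) hAN
          (coprime_card_of_not_dvd (elemAb_isPGroup hA)
            (fun h => hPp (h.trans (card_dvd_of_le hNP))))]
        rw [Subgroup.closure_iUnion]
        refine iSup_congr fun a => ?_
        rw [Subgroup.closure_iUnion]
        simp only [Subgroup.closure_eq]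
      intro m hm
      rw [hNgen] at hm
      have step : ∀ g ∈ (⋃ a ∈ {a : G | a ∈ A ∧ a ≠ 1},
          ((N ⊓ centralizer ({a} : Set G) : Subgroup G) : Set G)), ∀ m' : G, m' ∈ N →
          (∀ x ∈ X, ∀ y ∈ Y, ∃ u ∈ X, ∃ k ∈ M, ∃ v ∈ Y, x * m' * y = u * k * v) →
          ∀ x ∈ X, ∀ y ∈ Y, ∃ u ∈ X, ∃ k ∈ M, ∃ v ∈ Y, x * (g * m') * y = u * k * v := by
        intro g hg m' hm' IH x hx y hy
        simp only [Set.mem_iUnion, SetLike.mem_coe] at hg
        obtain ⟨a, ⟨ha, ha1⟩, hgN, hga⟩ := hg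
        obtain ⟨x₁, hx₁, y₁, hy₁, rfl⟩ := hfac a ha ha1 g ⟨hNP hgN, hga⟩
        -- `y₁ m' y₁⁻¹ = m' μ`
        set μ := m'⁻¹ * (y₁ * m' * y₁⁻¹) with hμ
        have hμM : μ ∈ M := by
          have h1 : ⁅m'⁻¹, y₁⁆ ∈ M := commutator_mem_commutator (N.inv_mem hm') (hY hy₁)
          have e : μ = ⁅m'⁻¹, y₁⁆ := by rw [hμ, commutatorElement_def]; group
          rw [e]; exact h1
        obtain ⟨u, hu, k, hk, v, hv, huv⟩ := IH (x * x₁) (X.mul_mem hx hx₁) (y₁ * y) (Y.mul_mem hy₁ hy)
        refine ⟨u, hu, k * (v * ((y₁ * y)⁻¹ * μ * (y₁ * y)) * v⁻¹), ?_, v, hv, ?_⟩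
        · refine M.mul_mem hk ((conj_mem_iff (hPM (hY hv))).mp ?_)
          have := (conj_mem_iff (hPM (P.inv_mem (hY (Y.mul_mem hy₁ hy))))).mp hμM
          simpa using this
        · calc x * (x₁ * y₁ * m') * y = (x * x₁) * m' * (y₁ * y) * ((y₁ * y)⁻¹ * μ * (y₁ * y)) := by
                rw [hμ]; group
            _ = u * k * v * ((y₁ * y)⁻¹ * μ * (y₁ * y)) := by rw [huv]
            _ = u * (k * (v * ((y₁ * y)⁻¹ * μ * (y₁ * y)) * v⁻¹)) * v := by group
      induction hm using Subgroup.closure_induction_left with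
      | one => intro x hx y hy; exact ⟨x, hx, 1, M.one_mem, y, hy, by group⟩
      | mul_left g hg m' hm' IH => exact step g hg m' (by rw [hNgen]; exact hm') IH
      | inv_mul_cancel g hg m' hm' IH =>
        refine step g⁻¹ ?_ m' (by rw [hNgen]; exact hm') IH
        simp only [Set.mem_iUnion, SetLike.mem_coe] at hg ⊢
        obtain ⟨a, ha, hga⟩ := hg
        exact ⟨a, ha, inv_mem hga⟩
    intro g hg
    obtain ⟨x, hx, m, hm, y, hy, rfl⟩ := hgen g hg
    exact absorb m hm x hx y hy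

theorem eq_mul (hA : IsElementaryAbelian p A) (hA2 : p ^ 2 ≤ Nat.card ↥A) {K X Y : Subgroup G}
    (hK : ¬ p ∣ Nat.card ↥K) (hAK : A ≤ normalizer (K : Set G)) (hX : X ≤ K) (hY : Y ≤ K)
    (hAX : A ≤ normalizer (X : Set G)) (hAY : A ≤ normalizer (Y : Set G))
    (hCX : K ⊓ centralizer (A : Set G) ≤ normalizer (X : Set G))
    (hfac : ∀ a ∈ A, a ≠ 1 → ((K ⊓ centralizer {a} : Subgroup G) : Set G) =
      ((X ⊓ centralizer {a} : Subgroup G) : Set G) * ((Y ⊓ centralizer {a} : Subgroup G) : Set G)) :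
    (K : Set G) = (X : Set G) * (Y : Set G) := by
  have hsub : (X : Set G) * (Y : Set G) ⊆ K := by
    rintro _ ⟨x, hx, y, hy, rfl⟩
    exact K.mul_mem (hX hx) (hY hy)
  have hcop : ∀ H : Subgroup G, H ≤ K → (Nat.card ↥A).Coprime (Nat.card ↥H) := fun H hH =>
    coprime_card_of_not_dvd (elemAb_isPGroup hA) fun h => hK (h.trans (card_dvd_of_le hH))
  have hAc := hA.1
  have hsolv : Group.IsSolvable ↥A := by
    have := (elemAb_isPGroup hA).isNilpotent
    exact IsNilpotent.to_isSolvable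
  have hAI : A ≤ normalizer ((X ⊓ Y : Subgroup G) : Set G) := fun b hb => by
    rw [Subgroup.mem_normalizer_iff]
    intro z
    exact and_congr (conj_mem_iff (hAX hb)) (conj_mem_iff (hAY hb))
  have hI : 0 < Nat.card ↥(X ⊓ Y) := Nat.card_pos
  have hprod := card_setMul_mul_card_inf X Y
  -- it suffices that `|K| |X ∩ Y| ∣ |X| |Y|`
  suffices hdvd : Nat.card ↥K * Nat.card ↥(X ⊓ Y) ∣ Nat.card ↥X * Nat.card ↥Y by
    refine (Set.eq_of_subset_of_ncard_le hsub ?_ (Set.toFinite _)).symm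
    rw [← Nat.card_coe_set_eq, ← Nat.card_coe_set_eq]
    rw [← hprod] at hdvd
    exact Nat.le_of_mul_le_mul_right (Nat.le_of_dvd (Nat.mul_pos (Nat.card_pos_iff.mpr
      ⟨⟨⟨1, ⟨1, X.one_mem, 1, Y.one_mem, one_mul 1⟩⟩⟩, inferInstance⟩) hI) hdvd) hI
  rw [← Nat.factorization_prime_le_iff_dvd (Nat.mul_pos Nat.card_pos Nat.card_pos).ne'
    (Nat.mul_pos Nat.card_pos Nat.card_pos).ne']
  intro r hr
  have : Fact r.Prime := ⟨hr⟩
  obtain ⟨T, hT⟩ := Cfsg.Agent.Lib.Coprime.exists_invariant_sylow hAI (hcop _ (inf_le_left.trans hX)) (Or.inl hsolv) r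
  obtain ⟨Q, hTQ, hQ⟩ := Cfsg.Agent.Lib.Coprime.exists_invariant_sylow_ge hAY (hcop _ hY) (Or.inl hsolv) r _
    ((map_subtype_le _).trans inf_le_right) (T.isPGroup'.map _) hT
  obtain ⟨P₁, hQP₁, hP₁⟩ := Cfsg.Agent.Lib.Coprime.exists_invariant_sylow_ge hAK (hcop _ le_rfl) (Or.inl hsolv) r _
    ((map_subtype_le _).trans hY) (Q.isPGroup'.map _) hQ
  obtain ⟨S, hS⟩ := Cfsg.Agent.Lib.Coprime.exists_invariant_sylow hAX (hcop _ hX) (Or.inl hsolv) r
  obtain ⟨P₂, hSP₂, hP₂⟩ := Cfsg.Agent.Lib.Coprime.exists_invariant_sylow_ge hAK (hcop _ le_rfl) (Or.inl hsolv) r _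
    ((map_subtype_le _).trans hX) (S.isPGroup'.map _) hS
  obtain ⟨c, hcA, hc⟩ := Cfsg.Agent.Lib.Coprime.exists_centralizer_conj_sylow hAK (hcop _ le_rfl) (Or.inl hsolv)
    P₂ P₁ hP₂ hP₁
  set P := (P₁ : Subgroup ↥K).map K.subtype with hPdef
  have hPK : P ≤ K := map_subtype_le _
  have hPr : IsPGroup r ↥P := P₁.isPGroup'.map _
  have hcX : (c : G) ∈ normalizer (X : Set G) := hCX ⟨c.2, hcA⟩
  have hScard : Nat.card ↥((S : Subgroup ↥X).map X.subtype) ≤ Nat.card ↥(X ⊓ P) := by
    have h0 : Nat.card ↥(((S : Subgroup ↥X).map X.subtype).map (MulAut.conj (c : G)).toMonoidHom) =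
        Nat.card ↥((S : Subgroup ↥X).map X.subtype) :=
      card_map_of_injective (MulAut.conj (c : G)).injective
    refine le_trans h0.ge (card_le_of_le ?_)
    rintro _ ⟨x, hx, rfl⟩
    refine ⟨(conj_mem_iff hcX).mp (map_subtype_le _ hx), ?_⟩
    change (MulAut.conj (c : G)) x ∈ P
    rw [hPdef, ← hc, Cfsg.Agent.Lib.Coprime.sylow_map_conj_smul, Cfsg.Agent.Lib.Coprime.mem_conj_smul]
    simpa [mul_assoc] using hSP₂ hx
  have hQcard : Nat.card ↥((Q : Subgroup ↥Y).map Y.subtype) ≤ Nat.card ↥(Y ⊓ P) :=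
    card_le_of_le (le_inf (map_subtype_le _) hQP₁)
  have hrp : ∀ H : Subgroup G, ∃ n, Nat.card ↥(H ⊓ P) = r ^ n := fun H =>
    IsPGroup.iff_card.mp (hPr.to_le inf_le_right)
  -- for a subgroup containing a Sylow subgroup inside `P`, the intersection with `P` is Sylow
  have hval : ∀ (H : Subgroup G) (m : ℕ), r ^ m ≤ Nat.card ↥(H ⊓ P) →
      m = (Nat.card ↥H).factorization r →
      Nat.card ↥(H ⊓ P) = r ^ (Nat.card ↥H).factorization r := by
    intro H m hm hmeq
    obtain ⟨n, hn⟩ := hrp H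
    refine le_antisymm ?_ (hmeq ▸ hm)
    rw [hn]
    refine Nat.pow_le_pow_right hr.pos ?_
    rw [← hr.pow_dvd_iff_le_factorization Nat.card_pos.ne', ← hn]
    exact card_dvd_of_le inf_le_left
  have hvS := hval X _ (by
    rw [← S.card_eq_multiplicity, ← card_map_of_injective X.subtype_injective]
    exact hScard) rfl
  have hvQ := hval Y _ (by
    rw [← Q.card_eq_multiplicity, ← card_map_of_injective Y.subtype_injective]
    exact hQcard) rfl
  have hvT := hval (X ⊓ Y) _ (by
    rw [← T.card_eq_multiplicity, ← card_map_of_injective (X ⊓ Y).subtype_injective]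
    exact card_le_of_le (le_inf (map_subtype_le _) (hTQ.trans hQP₁))) rfl
  have hvP : Nat.card ↥P = r ^ (Nat.card ↥K).factorization r := by
    rw [hPdef, card_map_of_injective K.subtype_injective, P₁.card_eq_multiplicity]
  -- the centralizers of the elements of `A` in `P` factorise
  have hPfac : ∀ a ∈ A, a ≠ 1 → ∀ x ∈ P ⊓ centralizer ({a} : Set G),
      ∃ u ∈ X ⊓ P, ∃ v ∈ Y ⊓ P, x = u * v := by
    intro a ha ha1
    have haC : IsPGroup p ↥(zpowers a) := (elemAb_isPGroup hA).to_le (zpowers_le.mpr ha)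
    -- `C_{H ∩ P}(a)` is a Sylow `r`-subgroup of `C_H(a)`
    have hsyl : ∀ H : Subgroup G, H ≤ K → A ≤ normalizer (H : Set G) →
        Nat.card ↥(H ⊓ P) = r ^ (Nat.card ↥H).factorization r →
        Nat.card ↥(H ⊓ P ⊓ centralizer ({a} : Set G)) =
          r ^ (Nat.card ↥(H ⊓ centralizer ({a} : Set G))).factorization r := by
      intro H hH hAH hcard
      set C := H ⊓ centralizer ({a} : Set G) with hC
      obtain ⟨n, hn⟩ : ∃ n, Nat.card ↥(H ⊓ P ⊓ centralizer ({a} : Set G)) = r ^ n :=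
        IsPGroup.iff_card.mp (hPr.to_le (inf_le_left.trans inf_le_right))
      refine le_antisymm ?_ ?_
      · rw [hn]
        refine Nat.pow_le_pow_right hr.pos ?_
        rw [← hr.pow_dvd_iff_le_factorization Nat.card_pos.ne', ← hn]
        exact card_dvd_of_le (le_inf (inf_le_left.trans inf_le_left) inf_le_right)
      · obtain ⟨U⟩ : Nonempty (Sylow r ↥C) := inferInstance
        set U' := (U : Subgroup ↥C).map C.subtype
        have hzH : zpowers a ≤ normalizer (H : Set G) := (zpowers_le.mpr ha).trans hAH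
        have hcop' : (Nat.card ↥(zpowers a)).Coprime (Nat.card ↥H) :=
          coprime_card_of_not_dvd haC fun h => hK (h.trans (card_dvd_of_le hH))
        have hUa : zpowers a ≤ normalizer (U' : Set G) := by
          refine le_trans ?_ (centralizer_le_normalizer _)
          rw [le_centralizer_iff]
          intro u hu
          rw [mem_centralizer_iff]
          intro z hz
          obtain ⟨k, rfl⟩ := mem_zpowers_iff.mp hz
          exact ((show Commute u a from mem_centralizer_singleton_iff.mp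
            ((map_subtype_le _ hu : u ∈ C).2)).zpow_right k).eq.symm
        obtain ⟨R, hUR, hR⟩ := Cfsg.Agent.Lib.Coprime.exists_invariant_sylow_ge hzH hcop'
          (Or.inl (Cfsg.Agent.Lib.Coprime.isSolvable_zpowers a)) r U' ((map_subtype_le _).trans inf_le_left)
          (U.isPGroup'.map _) hUa
        obtain ⟨R', hR'⟩ := ((hPr.to_le inf_le_right).of_equiv
          (subgroupOfEquivOfLe (inf_le_left : H ⊓ P ≤ H)).symm).exists_le_sylow
        have hR'eq : (R' : Subgroup ↥H).map H.subtype = H ⊓ P := by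
          refine (Subgroup.eq_of_le_of_card_ge ?_ ?_).symm
          · intro x hx
            exact ⟨⟨x, hx.1⟩, hR' hx, rfl⟩
          · rw [card_map_of_injective H.subtype_injective, R'.card_eq_multiplicity, hcard]
        have hR'a : zpowers a ≤ normalizer ((R' : Subgroup ↥H).map H.subtype : Set G) := by
          rw [hR'eq]
          intro z hz
          rw [Subgroup.mem_normalizer_iff]
          intro w
          exact and_congr (conj_mem_iff (hzH hz))
            (conj_mem_iff (hP₁ (zpowers_le.mpr ha hz)))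
        obtain ⟨d, hda, hd⟩ := Cfsg.Agent.Lib.Coprime.exists_centralizer_conj_sylow hzH hcop'
          (Or.inl (Cfsg.Agent.Lib.Coprime.isSolvable_zpowers a)) R R' hR hR'a
        have hle : U'.map (MulAut.conj (d : G)).toMonoidHom ≤
            H ⊓ P ⊓ centralizer ({a} : Set G) := by
          rintro _ ⟨u, hu, rfl⟩
          have huC : u ∈ C := map_subtype_le _ hu
          have hdC : (d : G) ∈ centralizer ({a} : Set G) :=
            centralizer_singleton_of_le (mem_zpowers a) hda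
          refine ⟨?_, (centralizer ({a} : Set G)).mul_mem
            ((centralizer ({a} : Set G)).mul_mem hdC huC.2) ((centralizer ({a} : Set G)).inv_mem hdC)⟩
          change (MulAut.conj (d : G)) u ∈ H ⊓ P
          rw [← hR'eq, ← hd, Cfsg.Agent.Lib.Coprime.sylow_map_conj_smul, Cfsg.Agent.Lib.Coprime.mem_conj_smul]
          simpa [mul_assoc] using hUR hu
        refine le_trans (le_of_eq ?_) (card_le_of_le hle)
        rw [card_map_of_injective (MulAut.conj (d : G)).injective,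
          card_map_of_injective C.subtype_injective, U.card_eq_multiplicity]
    set CX := X ⊓ centralizer ({a} : Set G) with hCXd
    set CY := Y ⊓ centralizer ({a} : Set G) with hCYd
    set CK := K ⊓ centralizer ({a} : Set G) with hCKd
    set U₁ := X ⊓ P ⊓ centralizer ({a} : Set G) with hU₁
    set U₂ := Y ⊓ P ⊓ centralizer ({a} : Set G) with hU₂
    have h1 := card_setMul_mul_card_inf U₁ U₂
    have h2 := card_setMul_mul_card_inf CX CY
    rw [← hfac a ha ha1] at h2
    have hKP : K ⊓ P = P := inf_eq_right.mpr hPK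
    have e3 := hsyl K le_rfl hAK (by rw [hKP]; exact hvP)
    rw [hKP] at e3
    have e1 : Nat.card ↥U₁ = r ^ (Nat.card ↥CX).factorization r := hsyl X hX hAX hvS
    have e2 : Nat.card ↥U₂ = r ^ (Nat.card ↥CY).factorization r := hsyl Y hY hAY hvQ
    obtain ⟨i, hi⟩ := IsPGroup.iff_card.mp (hPr.to_le
      ((inf_le_left.trans (inf_le_left.trans inf_le_right)) : U₁ ⊓ U₂ ≤ P))
    have hile : i ≤ (Nat.card ↥(CX ⊓ CY)).factorization r := by
      rw [← hr.pow_dvd_iff_le_factorization Nat.card_pos.ne', ← hi]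
      exact card_dvd_of_le (inf_le_inf (le_inf (inf_le_left.trans inf_le_left) inf_le_right)
        (le_inf (inf_le_left.trans inf_le_left) inf_le_right))
    change Nat.card ↥(K ⊓ centralizer ({a} : Set G)) * _ = _ at h2
    have hfz := congrArg (fun n : ℕ => n.factorization r) h2
    simp only [Nat.factorization_mul Nat.card_pos.ne' Nat.card_pos.ne',
      Finsupp.coe_add, Pi.add_apply] at hfz
    have hsub2 : (U₁ : Set G) * (U₂ : Set G) ⊆ ((P ⊓ centralizer ({a} : Set G) : Subgroup G) : Set G) := by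
      rintro _ ⟨u, hu, v, hv, rfl⟩
      exact Subgroup.mul_mem _ ⟨hu.1.2, hu.2⟩ ⟨hv.1.2, hv.2⟩
    have heq : (U₁ : Set G) * (U₂ : Set G) = ((P ⊓ centralizer ({a} : Set G) : Subgroup G) : Set G) := by
      refine Set.eq_of_subset_of_ncard_le hsub2 ?_ (Set.toFinite _)
      rw [← Nat.card_coe_set_eq, ← Nat.card_coe_set_eq]
      change Nat.card ↥(P ⊓ centralizer ({a} : Set G)) ≤ _
      refine Nat.le_of_mul_le_mul_right ?_ (pow_pos hr.pos i)
      rw [e3, ← hi, h1, e1, e2, hi, ← pow_add, ← pow_add]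
      exact Nat.pow_le_pow_right hr.pos (by omega)
    intro x hx
    have hx' : x ∈ (U₁ : Set G) * (U₂ : Set G) := heq ▸ hx
    obtain ⟨u, hu, v, hv, rfl⟩ := hx'
    exact ⟨u, hu.1, v, hv.1, rfl⟩
  have hall := eq_mul_of_isPGroup hA hA2 hPr (fun h => hK (h.trans (card_dvd_of_le hPK))) hP₁
    (inf_le_right : X ⊓ P ≤ P) (inf_le_right : Y ⊓ P ≤ P) hPfac
  have heqP : ((X ⊓ P : Subgroup G) : Set G) * ((Y ⊓ P : Subgroup G) : Set G) = (P : Set G) := by
    refine Set.Subset.antisymm ?_ fun g hg => ?_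
    · rintro _ ⟨u, hu, v, hv, rfl⟩
      exact P.mul_mem hu.2 hv.2
    · obtain ⟨u, hu, v, hv, rfl⟩ := hall g hg
      exact ⟨u, hu, v, hv, rfl⟩
  have h3 := card_setMul_mul_card_inf (X ⊓ P) (Y ⊓ P)
  rw [heqP, show (X ⊓ P) ⊓ (Y ⊓ P) = X ⊓ Y ⊓ P by ac_rfl] at h3
  change Nat.card ↥P * _ = _ at h3
  rw [hvP, hvT, hvS, hvQ, ← pow_add, ← pow_add] at h3
  have h4 := Nat.pow_right_injective hr.two_le h3
  simp only [Nat.factorization_mul Nat.card_pos.ne' Nat.card_pos.ne', Finsupp.coe_add, Pi.add_apply]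
  omega


/-- Let A be a noncyclic elementary abelian p-subgroup of a finite group H normalizing a subgroup K of order prime to p, and X, Y ≤ K subgroups normalized by A with C_K(a) = C_X(a) C_Y(a) (as sets) for every non-identity a ∈ A, where X is also normalized by C_K(A). Then K = XY as sets. -/
theorem result {H : Type*} [Group H] [Finite H] (p : ℕ) [Fact p.Prime] (A K X Y : Subgroup H) (hA : Cfsg.IsElementaryAbelian p A) (hA2 : p ^ 2 ≤ Nat.card ↥A) (hK : ¬ p ∣ Nat.card ↥K) (hAK : A ≤ Subgroup.normalizer (K : Set H)) (hX : X ≤ K) (hY : Y ≤ K) (hAX : A ≤ Subgroup.normalizer (X : Set H)) (hAY : A ≤ Subgroup.normalizer (Y : Set H)) (hCX : K ⊓ Subgroup.centralizer (A : Set H) ≤ Subgroup.normalizer (X : Set H)) (hfac : ∀ a ∈ A, a ≠ 1 → ((K ⊓ Subgroup.centralizer {a} : Subgroup H) : Set H) = ((X ⊓ Subgroup.centralizer {a} : Subgroup H) : Set H) * ((Y ⊓ Subgroup.centralizer {a} : Subgroup H) : Set H)) : (K : Set H) = (X : Set H) * (Y : Set H) := by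
  exact eq_mul hA hA2 hK hAK hX hY hAX hAY hCX hfac

end Cfsg.Agent.S1287
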