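import Cfsg.Statements.S1288
import Cfsg.Agent.Lib.Components.Constrained
import Cfsg.Agent.Lib.Components.Transport
import Cfsg.Agent.Lib.Components.Balance
import Cfsg.Agent.Lib.Components.Signalizer
import Cfsg.Agent.Lib.Cores.Fitting

set_option autoImplicit false
open Cfsg

namespace Cfsg.Agent.S1288

open Subgroup Cfsg Cfsg.Agent.Lib.Components
open scoped commutatorElement

theorem mem_pPrimePCore_of_mulEquiv {X : Type*} [Group X] (q : ℕ) (e : X ≃* X) {x : X}
    (hx : x ∈ pPrimePCore q X) : e x ∈ pPrimePCore q X :=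
  map_pCore_le q (QuotientGroup.congr _ _ e (map_pPrimeCore_mulEquiv q e)) ⟨_, hx, rfl⟩

/-- Let A be a noncyclic elementary abelian p-subgroup of a finite group H normalizing a solvable subgroup K of order prime to p, q a prime dividing |K|, and U ≤ K a subgroup of order prime to q such that ⁅U, C_K(B)⁆ has order prime to q for every subgroup B of index p in A. Then U ≤ O_{q'}(K). -/
theorem result {H : Type*} [Group H] [Finite H] (p : ℕ) [Fact p.Prime] (A K : Subgroup H) (hA : Cfsg.IsElementaryAbelian p A) (hA2 : p ^ 2 ≤ Nat.card ↥A) (hK : ¬ p ∣ Nat.card ↥K) (hKs : Group.IsSolvable ↥K) (hAK : A ≤ Subgroup.normalizer (K : Set H)) (q : ℕ) [Fact q.Prime] (hqK : q ∣ Nat.card ↥K) (U : Subgroup H) (hU : U ≤ K) (hUq : ¬ q ∣ Nat.card ↥U) (hcomm : ∀ B : Subgroup H, B ≤ A → B.relIndex A = p → ¬ q ∣ Nat.card ↥⁅U, K ⊓ Subgroup.centralizer (B : Set H)⁆) : U ≤ (Cfsg.pPrimeCore q ↥K).map K.subtype := by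
  haveI hKs' := hKs
  set π := QuotientGroup.mk' (Cfsg.pPrimeCore q ↥K) with hπ
  set M := (Cfsg.pPrimePCore q ↥K).map K.subtype with hM
  have hMK : M ≤ K := map_subtype_le _
  have hAM : A ≤ normalizer (M : Set H) := by
    intro a ha
    have hn := Subgroup.mem_normalizer_iff.mp (hAK ha)
    let e : ↥K ≃* ↥K :=
      { toFun := fun y => ⟨a * y * a⁻¹, (hn y).mp y.2⟩
        invFun := fun y => ⟨a⁻¹ * y * a, (hn _).mpr (by simpa [mul_assoc] using y.2)⟩
        left_inv := fun y => Subtype.ext (by simp [mul_assoc])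
        right_inv := fun y => Subtype.ext (by simp [mul_assoc])
        map_mul' := fun y z => Subtype.ext (by simp [mul_assoc]) }
    rw [Subgroup.mem_normalizer_iff]
    intro n
    constructor
    · rintro ⟨y, hy, rfl⟩
      exact ⟨e y, mem_pPrimePCore_of_mulEquiv q e hy, rfl⟩
    · rintro ⟨y, hy, he⟩
      refine ⟨e.symm y, mem_pPrimePCore_of_mulEquiv q e.symm hy, ?_⟩
      show a⁻¹ * (y : H) * a = n
      rw [show (y : H) = a * n * a⁻¹ from he]; group
  have hMp : ¬ p ∣ Nat.card ↥M := fun h => hK (h.trans (card_dvd_of_le hMK))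
  haveI : (Cfsg.pPrimePCore q ↥K).Normal := pPrimePCore_normal' q
  have hUC : (U.subgroupOf K).map π ≤
      centralizer ((Cfsg.pCore q (↥K ⧸ Cfsg.pPrimeCore q ↥K)) : Set (↥K ⧸ Cfsg.pPrimeCore q ↥K)) := by
    rintro _ ⟨u, hu, rfl⟩
    rw [mem_centralizer_iff]
    intro w hw
    obtain ⟨y, rfl⟩ := QuotientGroup.mk'_surjective (Cfsg.pPrimeCore q ↥K) w
    let S : Subgroup H := ((centralizer ({π u} : Set (↥K ⧸ Cfsg.pPrimeCore q ↥K))).comap π).map K.subtype
    have hMS : M ≤ S := by
      rw [eq_iSup_hyperplane hA hMp hAM]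
      rintro z hz
      refine iSup_le (a := S) (fun B => ?_) hz
      rintro c ⟨hcM, hcB⟩
      obtain ⟨c', hc', rfl⟩ := hcM
      refine ⟨c', ?_, rfl⟩
      have hle : ∀ B' : Subgroup H, B' ≤ A → B'.relIndex A = p →
          (c' : H) ∈ centralizer (B' : Set H) → π c' ∈ centralizer ({π u} : Set _) := by
        intro B' hB' hBi hcB'
        rw [mem_centralizer_singleton_iff]
        have hmem : (⁅u, c'⁆ : ↥K) ∈ Cfsg.pPrimeCore q ↥K := by
          have h1 : ((⁅u, c'⁆ : ↥K) : H) ∈ ⁅U, K ⊓ centralizer (B' : Set H)⁆ :=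
            commutator_mem_commutator hu ⟨c'.2, hcB'⟩
          have h2 : (⁅u, c'⁆ : ↥K) ∈ Cfsg.pPrimePCore q ↥K := by
            rw [commutatorElement_def]
            exact mul_mem ((inferInstance : (Cfsg.pPrimePCore q ↥K).Normal).conj_mem c' hc' u)
              (inv_mem hc')
          have h3 : (orderOf (⁅u, c'⁆ : ↥K)).Coprime q := by
            rw [← Subgroup.orderOf_coe]
            exact Nat.Coprime.symm ((Nat.Prime.coprime_iff_not_dvd Fact.out).mpr fun hd =>
              hcomm B' hB' hBi (hd.trans (Subgroup.orderOf_dvd_natCard _ h1)))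
          obtain ⟨n, hn⟩ := pCore_isPGroup (G := ↥K ⧸ Cfsg.pPrimeCore q ↥K) q
            ⟨π ⁅u, c'⁆, h2⟩
          refine mem_of_pow_mem_of_coprime (m := q ^ n) (h3.pow_right n) ?_
          rw [← QuotientGroup.eq_one_iff]
          exact congrArg Subtype.val hn
        rw [← QuotientGroup.eq_one_iff] at hmem
        change π ⁅u, c'⁆ = 1 at hmem
        rw [map_commutatorElement, commutatorElement_eq_one_iff_mul_comm] at hmem
        exact hmem.symm
      have hpp := (Fact.out : p.Prime)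
      by_cases hBi : (B : Subgroup H).relIndex A = p
      · exact hle B B.2.1 hBi hcB
      · -- `B = A`, pass to a hyperplane
        obtain ⟨B', -, hB'A, hB'i⟩ := exists_hyperplane_ge hA (bot_le (a := A))
          (elemAb_ne_bot hA hA2).symm
        refine hle B' hB'A hB'i ?_
        have hBA : (B : Subgroup H) = A := by
          refine le_antisymm B.2.1 (Subgroup.relIndex_eq_one.mp ?_)
          obtain ⟨m, hm⟩ := IsPGroup.iff_card.mp (elemAb_isPGroup hA)
          obtain ⟨j, -, hj⟩ := (Nat.dvd_prime_pow hpp).mp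
            (hm ▸ Subgroup.relIndex_dvd_card (B : Subgroup H) A)
          rcases j with _ | _ | j
          · simpa using hj
          · exact absurd (by simpa using hj) hBi
          · have h2 : (B : Subgroup H).relIndex A ≤ p := B.2.2
            rw [hj] at h2
            have : p ^ 1 < p ^ (j + 1 + 1) := Nat.pow_lt_pow_right hpp.one_lt (by omega)
            rw [pow_one] at this
            omega
        rw [hBA] at hcB
        exact centralizer_le hB'A hcB
    obtain ⟨y', hy', he⟩ := hMS ⟨y, (hw : y ∈ Cfsg.pPrimePCore q ↥K), rfl⟩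
    rw [Subtype.ext he] at hy'
    exact mem_centralizer_singleton_iff.mp hy'
  have hF : centralizer ((Cfsg.pCore q (↥K ⧸ Cfsg.pPrimeCore q ↥K)) : Set (↥K ⧸ Cfsg.pPrimeCore q ↥K)) ≤
      Cfsg.pCore q (↥K ⧸ Cfsg.pPrimeCore q ↥K) := by
    have h := Cfsg.Agent.Lib.Cores.centralizer_fittingSubgroup_le
      (G := ↥K ⧸ Cfsg.pPrimeCore q ↥K) inferInstance
    rwa [fittingSubgroup_eq_pCore q (pPrimeCore_quotient_eq_bot q)] at h
  have hcop : (Nat.card ↥((U.subgroupOf K).map π)).Coprime q := by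
    refine Nat.Coprime.coprime_dvd_left ((Subgroup.card_map_dvd _ _).trans ?_)
      (Nat.Coprime.symm ((Nat.Prime.coprime_iff_not_dvd Fact.out).mpr hUq))
    rw [Nat.card_congr (Subgroup.subgroupOfEquivOfLe hU).toEquiv]
  have hbot := eq_bot_of_isPGroup_of_coprime ((pCore_isPGroup q).to_le (hUC.trans hF)) hcop
  rw [Subgroup.map_eq_bot_iff, hπ, QuotientGroup.ker_mk'] at hbot
  intro u hu
  exact ⟨⟨u, hU hu⟩, hbot (Subgroup.mem_subgroupOf.mpr hu), rfl⟩

end Cfsg.Agent.S1288
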