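import Cfsg.Statements.S1289
import Cfsg.Agent.Lib.Components.Constrained

set_option autoImplicit false
open Cfsg

namespace Cfsg.Agent.S1289

/-- A p-component K of the finite group X is subnormal, perfect, of order divisible by p, and minimal among the subnormal perfect subgroups of X of order divisible by p. -/
theorem result {X : Type*} [Group X] [Finite X] (p : ℕ) [Fact p.Prime] (K : Subgroup X) (hK : Cfsg.IsPComponent p K) : K.IsSubnormal ∧ ⁅K, K⁆ = K ∧ p ∣ Nat.card ↥K ∧ ∀ H : Subgroup X, H ≤ K → H.IsSubnormal → ⁅H, H⁆ = H → p ∣ Nat.card ↥H → H = K := by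
  open Cfsg.Agent.Lib.Components Subgroup in
  exact (by
    refine ⟨hK.1, IsPComponent.commutator_self hK, IsPComponent.dvd_card hK,
      fun H hle hH hperf hdvd => ?_⟩
    set q := QuotientGroup.mk' (pPrimeCore p X) with hq
    rcases IsQuasisimple.subnormal_eq_top_or_le_center hK.2.1.2
        ((H.map q).subgroupOf (K.map q)) (hH.quotient.subgroupOf) with ht | hc
    · exact hK.2.2 H hH hle (le_antisymm (map_mono hle) (subgroupOf_eq_top.mp ht))
    · exfalso
      have hb : H.map q = ⊥ := by
        rw [← hperf, map_commutator, commutator_self_eq_bot_iff]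
        refine ⟨⟨fun a b => Subtype.ext ?_⟩⟩
        have := mem_center_iff.mp
          (hc (x := (⟨a, map_mono hle a.2⟩ : ↥(K.map q))) a.2) ⟨b, map_mono hle b.2⟩
        exact (congrArg Subtype.val this).symm
      rw [Subgroup.map_eq_bot_iff, hq, QuotientGroup.ker_mk'] at hb
      exact (Fact.out : p.Prime).coprime_iff_not_dvd.mp
        (Nat.Coprime.coprime_dvd_left (card_dvd_of_le hb) (pPrimeCore_coprime p)).symm hdvd)

end Cfsg.Agent.S1289
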