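import Cfsg.Statements.S1292
import Cfsg.Agent.Lib.Components.Local

set_option autoImplicit false
open Cfsg

namespace Cfsg.Agent.S1292

open Subgroup Cfsg.Agent.Lib.Components

theorem genFitting_normalizer_eq {G : Type*} [Group G] [Finite G] (p : ℕ) [hp : Fact p.Prime]
    (h : ∀ t : G, orderOf t = p → generalizedFittingSubgroup ↥(centralizer ({t} : Set G)) =
      pCore p ↥(centralizer ({t} : Set G)))
    (T : Subgroup G) (hT : IsPGroup p ↥T) (hT1 : T ≠ ⊥) :
    generalizedFittingSubgroup ↥(normalizer (T : Set G)) =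
      pCore p ↥(normalizer (T : Set G)) := by
  set H := normalizer (T : Set G) with hH
  have : Nontrivial ↥T := (Subgroup.nontrivial_iff_ne_bot T).mpr hT1
  have hZ : Nontrivial ↥(center ↥T) := hT.center_nontrivial
  obtain ⟨n, hn⟩ := IsPGroup.iff_card.mp (hT.to_subgroup (center ↥T))
  have hn0 : n ≠ 0 := fun h0 => by
    rw [h0, pow_zero] at hn
    exact (Finite.one_lt_card (α := ↥(center ↥T))).ne' hn
  obtain ⟨z, hz⟩ := exists_prime_orderOf_dvd_card' (G := ↥(center ↥T)) p
    (hn ▸ dvd_pow_self p hn0)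
  set t : G := ((z : ↥T) : G) with ht
  have htord : orderOf t = p := by rw [ht, Subgroup.orderOf_coe, Subgroup.orderOf_coe, hz]
  set C := centralizer ({t} : Set G) with hC
  have hTC : T ≤ C := fun y hy => mem_centralizer_singleton_iff.mpr
    (congrArg Subtype.val (mem_center_iff.mp z.2 ⟨y, hy⟩))
  obtain ⟨hW, hE, -⟩ := genFitting_normalizer_eq_pCore (h t htord)
    (hT.of_equiv (Subgroup.subgroupOfEquivOfLe hTC).symm)
  set M := normalizer ((T.subgroupOf C : Subgroup ↥C) : Set ↥C) with hM
  have hcent : centralizer (pCore p ↥H : Set ↥H) ≤ C.subgroupOf H := by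
    intro x hx
    rw [mem_subgroupOf, hC, mem_centralizer_singleton_iff]
    exact (congrArg Subtype.val (mem_centralizer_iff.mp hx ⟨t, le_normalizer (z : ↥T).2⟩
      (subgroupOf_normalizer_le_pCore hT (mem_subgroupOf.mpr (z : ↥T).2)))).symm
  let f : ↥(C.subgroupOf H) →* ↥M :=
    { toFun := fun x => ⟨⟨((x : ↥H) : G), x.2⟩, by
        rw [hM, Subgroup.mem_normalizer_iff]
        exact fun y => Subgroup.mem_normalizer_iff.mp (x : ↥H).2 (y : G)⟩
      map_one' := rfl
      map_mul' := fun _ _ => rfl }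
  have hfi : Function.Injective f := fun x y hxy =>
    Subtype.ext (Subtype.ext (congrArg (fun w : ↥M => ((w : ↥C) : G)) hxy))
  have hfs : Function.Surjective f := by
    intro y
    have hy : ((y : ↥C) : G) ∈ H := by
      rw [hH, Subgroup.mem_normalizer_iff]
      intro w
      constructor
      · intro hw
        exact (Subgroup.mem_normalizer_iff.mp y.2 ⟨w, hTC hw⟩).mp hw
      · intro hw
        have hwC : w ∈ C := by
          have e : w = (y : G)⁻¹ * ((y : G) * w * (y : G)⁻¹) * (y : G) := by group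
          rw [e]
          exact C.mul_mem (C.mul_mem (C.inv_mem (y : ↥C).2) (hTC hw)) (y : ↥C).2
        exact (Subgroup.mem_normalizer_iff.mp y.2 ⟨w, hwC⟩).mpr hw
    exact ⟨⟨⟨_, hy⟩, (y : ↥C).2⟩, rfl⟩
  let e : ↥(C.subgroupOf H) ≃* ↥M := MulEquiv.ofBijective f ⟨hfi, hfs⟩
  have hWC : pPrimeCore p ↥(C.subgroupOf H) = ⊥ := by
    apply map_injective (f := e.toMonoidHom) e.injective
    rw [Subgroup.map_bot, eq_bot_iff, ← hW]
    exact map_pPrimeCore_le p e
  have hEC : layer ↥(C.subgroupOf H) = ⊥ := by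
    apply map_injective (f := e.toMonoidHom) e.injective
    rw [Subgroup.map_bot, map_layer_mulEquiv, hE]
  apply genFitting_eq_pCore_of
  · have hle : pPrimeCore p ↥H ≤ C.subgroupOf H := pPrimeCore_le_centralizer_pCore.trans hcent
    rw [eq_bot_iff, ← map_subgroupOf_eq_of_le hle, ← Subgroup.map_bot (C.subgroupOf H).subtype,
      ← hWC]
    refine map_mono (le_pPrimeCore ((inferInstance : (pPrimeCore p ↥H).Normal).comap _) ?_)
    rw [Nat.card_congr (Subgroup.subgroupOfEquivOfLe hle).toEquiv]
    exact pPrimeCore_coprime p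
  · rw [layer_eq_bot_iff]
    intro K hK
    exact layer_eq_bot_iff.mp hEC _ (IsComponent.subgroupOf hK
      ((IsComponent.le_layer hK).trans (layer_le_centralizer_pCore.trans hcent)))


/-- Let G be a finite group such that F*(C_G(t)) = O_2(C_G(t)) for every involution t. Then F*(N_G(T)) = O_2(N_G(T)) for every nontrivial 2-subgroup T of G. -/
theorem result {G : Type*} [Group G] [Finite G] (h : ∀ t : G, orderOf t = 2 → Cfsg.generalizedFittingSubgroup ↥(Subgroup.centralizer ({t} : Set G)) = Cfsg.pCore 2 ↥(Subgroup.centralizer ({t} : Set G))) (T : Subgroup G) (hT : IsPGroup 2 ↥T) (hT1 : T ≠ ⊥) : Cfsg.generalizedFittingSubgroup ↥(Subgroup.normalizer (T : Set G)) = Cfsg.pCore 2 ↥(Subgroup.normalizer (T : Set G)) := by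
  exact genFitting_normalizer_eq 2 h T hT hT1

end Cfsg.Agent.S1292
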