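import Cfsg.Statements.S1297
import Cfsg.Agent.Lib.Components.Balance2

set_option autoImplicit false
open Cfsg

namespace Cfsg.Agent.S1297

open Subgroup Cfsg.Agent.Lib.Components


/-- Let G be finite. Suppose that for every involution x, writing C = C_G(x), every component K of C / O(C) has K / Z(K) locally balanced. Then G is balanced. -/
theorem result {G : Type*} [Group G] [Finite G] (h : ∀ x : G, orderOf x = 2 → ∀ K : Subgroup (↥(Subgroup.centralizer ({x} : Set G)) ⧸ Cfsg.oddCore ↥(Subgroup.centralizer ({x} : Set G))), Cfsg.IsComponent K → Cfsg.IsLocallyBalanced (↥K ⧸ Subgroup.center ↥K)) : Cfsg.IsBalanced G := by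
  haveI : Fact (Nat.Prime 2) := ⟨Nat.prime_two⟩
  have key : ∀ x y : G, orderOf x = 2 → orderOf y = 2 → x * y = y * x →
      Cfsg.centralizerPPrimeCore 2 x ⊓ centralizer {y} ≤ Cfsg.centralizerPPrimeCore 2 y := by
    intro x y hx hy hxy
    set C := centralizer ({y} : Set G) with hC
    set q := QuotientGroup.mk' (Cfsg.pPrimeCore 2 ↥C) with hq
    have hxC : x ∈ C := mem_centralizer_singleton_iff.mpr hxy
    set x' : ↥C := ⟨x, hxC⟩ with hx'
    have hx'o : orderOf x' = 2 := by rw [hx', Subgroup.orderOf_mk, hx]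
    have h2x : x' ^ 2 = 1 := Subtype.ext (by show x ^ 2 = 1; rw [← hx, pow_orderOf_eq_one])
    set A := Subgroup.zpowers (q x') with hAdef
    have hxb : orderOf (q x') = 2 := by
      refine orderOf_eq_prime (by rw [← map_pow, h2x, map_one]) ?_
      intro h1
      have h2 := Subgroup.orderOf_dvd_natCard _ ((QuotientGroup.eq_one_iff x').mp h1)
      rw [hx'o] at h2
      exact Nat.prime_two.coprime_iff_not_dvd.mp (pPrimeCore_coprime 2).symm h2
    have hel : ∀ a ∈ A, a = 1 ∨ a = q x' := by
      intro a ha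
      obtain ⟨i, rfl⟩ := Subgroup.mem_zpowers_iff.mp ha
      rw [← zpow_mod_orderOf, hxb]
      rcases Int.emod_two_eq_zero_or_one i with h0 | h0
      · left; rw [show i % ((2 : ℕ) : ℤ) = 0 from h0, zpow_zero]
      · right; rw [show i % ((2 : ℕ) : ℤ) = 1 from h0, zpow_one]
    have hA : Cfsg.IsElementaryAbelian 2 A :=
      ⟨inferInstance, fun a ha => by
        rcases hel a ha with rfl | rfl
        · exact one_pow 2
        · rw [← map_pow, h2x, map_one]⟩
    set W₁ := (Cfsg.centralizerPPrimeCore 2 x).subgroupOf C with hW₁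
    have hOq : Cfsg.pPrimeCore 2 (↥C ⧸ Cfsg.pPrimeCore 2 ↥C) = ⊥ := pPrimeCore_quotient_eq_bot 2
    have hWle : ∀ a ∈ A, a ≠ 1 → W₁.map q ≤ Cfsg.centralizerPPrimeCore 2 a := by
      intro a ha ha1
      obtain rfl := (hel a ha).resolve_left ha1
      exact (Subgroup.map_mono (subgroupOf_centralizerPPrimeCore_le hxC)).trans
        (map_centralizerPPrimeCore_quotient_le _ (pPrimeCore_coprime 2) hx'o)
    have hxn : x ∈ normalizer (Cfsg.centralizerPPrimeCore 2 x : Set G) :=
      centralizer_le_normalizer_centralizerPPrimeCore x (mem_centralizer_singleton_iff.mpr rfl)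
    have hWn : A ≤ normalizer ((W₁.map q : Subgroup _) : Set _) := by
      refine Subgroup.zpowers_le.mpr (le_normalizer_map q ⟨x', fun w => ?_, rfl⟩)
      exact hxn (w : G)
    have hWbar : W₁.map q = ⊥ := by
      refine eq_bot_of_le_cores hOq hA ?_ hWle fun L hL hAn hWn' hfaith => ?_
      · intro h0
        rw [hAdef, Subgroup.zpowers_eq_bot] at h0
        rw [h0, orderOf_one] at hxb
        exact absurd hxb (by decide)
      obtain ⟨H, hH⟩ : ∃ H, H = L ⊔ (W₁.map q ⊔ A) := ⟨_, rfl⟩
      have hHn : H ≤ normalizer (L : Set _) := hH ▸ sup_le le_normalizer (sup_le hWn' hAn)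
      set ψ := (normalizerQuotHom L).comp (Subgroup.inclusion hHn) with hψ
      have hker : ψ.rangeRestrict.ker = (centralizer (L : Set _)).subgroupOf H := by
        rw [MonoidHom.ker_rangeRestrict, hψ, ← MonoidHom.comap_ker,
          ker_normalizerQuotHom (IsComponent.commutator_self hL)]
        rfl
      have hxH : q x' ∈ H := hH ▸ mem_sup_right (mem_sup_right (mem_zpowers _))
      obtain ⟨hea, -, hle, hfin⟩ := map_le_cores_of_component hL hOq hA hWle hWn hAn hWn' hfaith hH
        ψ.rangeRestrict ψ.rangeRestrict_surjective hker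
      have ho : orderOf (ψ.rangeRestrict ⟨q x', hxH⟩) = 2 := by
        refine orderOf_eq_prime (hea.2 _ ⟨_, mem_zpowers _, rfl⟩) ?_
        intro h1
        rw [← MonoidHom.mem_ker, hker, mem_subgroupOf] at h1
        exact hfaith _ (mem_zpowers _) (fun e => by
          rw [e, orderOf_one] at hxb; exact absurd hxb (by decide)) h1
      refine hfin (le_bot_iff.mp (hle.trans ?_))
      refine le_trans (iInf_le _ ⟨ψ.rangeRestrict ⟨q x', hxH⟩, ⟨⟨q x', hxH⟩, mem_zpowers _, rfl⟩,
        fun e => by rw [e, orderOf_one] at ho; exact absurd ho (by decide)⟩) (le_of_eq ?_)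
      exact h y hy L hL ψ.range (range_conj_le_range_normalizerQuotHom (hH ▸ le_sup_left) hHn)
          _ ho
    rintro w ⟨hw, hwC⟩
    rw [Subgroup.map_eq_bot_iff, hq, QuotientGroup.ker_mk'] at hWbar
    exact ⟨⟨w, hwC⟩, hWbar (show (⟨w, hwC⟩ : ↥C) ∈ W₁ from hw), rfl⟩
  intro x y hx hy hxy
  exact le_antisymm (le_inf (key x y hx hy hxy) (inf_le_left.trans (centralizerPPrimeCore_le_centralizer x)))
    (le_inf (key y x hy hx hxy.symm) (inf_le_left.trans (centralizerPPrimeCore_le_centralizer y)))

end Cfsg.Agent.S1297
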