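import Cfsg.Statements.S1298
import Cfsg.Agent.Lib.Components.Balance2

set_option autoImplicit false
open Cfsg

namespace Cfsg.Agent.S1298

open Subgroup Cfsg.Agent.Lib.Components


/-- Let G be finite and k ≥ 1. Suppose that for every x of order p, writing C = C_G(x), every component K of C / O_{p'}(C) has K / Z(K) locally k-balanced for p. Then G is k-balanced for p. -/
theorem result {G : Type*} [Group G] [Finite G] (p k : ℕ) [Fact p.Prime] (hk : 1 ≤ k) (h : ∀ x : G, orderOf x = p → ∀ K : Subgroup (↥(Subgroup.centralizer ({x} : Set G)) ⧸ Cfsg.pPrimeCore p ↥(Subgroup.centralizer ({x} : Set G))), Cfsg.IsComponent K → Cfsg.IsLocallyKBalanced p k (↥K ⧸ Subgroup.center ↥K)) : Cfsg.IsKBalanced p k G := by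
  intro A hA hAk b hb hab
  have hpp : p.Prime := Fact.out
  set C := centralizer ({b} : Set G) with hC
  set q := QuotientGroup.mk' (Cfsg.pPrimeCore p ↥C) with hq
  set W := Cfsg.signalizerDelta p A ⊓ C with hW
  have hAC : A ≤ C := fun a ha => mem_centralizer_singleton_iff.mpr (hab a ha)
  have hA1 : A ≠ ⊥ := by
    rintro rfl
    rw [Subgroup.card_bot] at hAk
    exact absurd hAk (Nat.one_lt_pow (by omega) hpp.one_lt).ne
  have hdelta : ∀ a ∈ A, a ≠ 1 → Cfsg.signalizerDelta p A ≤ Cfsg.centralizerPPrimeCore p a :=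
    fun a ha ha1 => iInf_le (fun a : {a : G // a ∈ A ∧ a ≠ 1} =>
      Cfsg.centralizerPPrimeCore p (a : G)) ⟨a, ha, ha1⟩
  have hAnW : ∀ u ∈ A, ∀ w ∈ W, u * w * u⁻¹ ∈ W := by
    intro u hu w hw
    refine ⟨?_, C.mul_mem (C.mul_mem (hAC hu) hw.2) (C.inv_mem (hAC hu))⟩
    show u * w * u⁻¹ ∈ Cfsg.signalizerDelta p A
    rw [Cfsg.signalizerDelta, Subgroup.mem_iInf]
    rintro ⟨a, ha, ha1⟩
    refine (centralizer_le_normalizer_centralizerPPrimeCore a ?_ w).mp (hdelta a ha ha1 hw.1)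
    exact mem_centralizer_singleton_iff.mpr
      (congrArg Subtype.val (hA.1.is_comm.comm ⟨u, hu⟩ ⟨a, ha⟩))
  set A₁ := A.subgroupOf C with hA₁
  set W₁ := W.subgroupOf C with hW₁
  have hordA : ∀ u : ↥C, u ∈ A₁ → u ≠ 1 → orderOf u = p := fun u hu hu1 =>
    orderOf_eq_prime (Subtype.ext (hA.2 u hu)) hu1
  have hO : (Nat.card ↥(Cfsg.pPrimeCore p ↥C)).Coprime p := pPrimeCore_coprime p
  have hinj : ∀ u ∈ A₁, q u = 1 → u = 1 := by
    intro u hu h1
    by_contra hne
    have h2 := Subgroup.orderOf_dvd_natCard _ ((QuotientGroup.eq_one_iff u).mp h1)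
    rw [hordA u hu hne] at h2
    exact hpp.coprime_iff_not_dvd.mp hO.symm h2
  have hAbar : Cfsg.IsElementaryAbelian p (A₁.map q) := by
    refine ⟨⟨⟨?_⟩⟩, ?_⟩
    · rintro ⟨_, u, hu, rfl⟩ ⟨_, v, hv, rfl⟩
      refine Subtype.ext ?_
      show q u * q v = q v * q u
      rw [← map_mul, ← map_mul]
      exact congrArg q (Subtype.ext (show (u : G) * v = v * u from
        congrArg Subtype.val (hA.1.is_comm.comm (⟨(u : G), hu⟩ : ↥A) ⟨(v : G), hv⟩)))
    · rintro _ ⟨u, hu, rfl⟩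
      rw [← map_pow, show u ^ p = 1 from Subtype.ext (hA.2 u hu), map_one]
  have hcardA : Nat.card ↥(A₁.map q) = p ^ k := by
    rw [← hAk, ← Nat.card_congr (Subgroup.subgroupOfEquivOfLe hAC).toEquiv]
    refine (Nat.card_congr (Equiv.ofBijective (fun u : ↥A₁ => (⟨q u, _, u.2, rfl⟩ : ↥(A₁.map q)))
      ⟨?_, ?_⟩)).symm
    · intro u v huv
      have h1 : q ((u : ↥C)⁻¹ * v) = 1 := by
        rw [map_mul, map_inv, show q u = q v from congrArg Subtype.val huv, inv_mul_cancel]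
      exact Subtype.ext (inv_mul_eq_one.mp (hinj _ (A₁.mul_mem (A₁.inv_mem u.2) v.2) h1))
    · rintro ⟨_, u, hu, rfl⟩; exact ⟨⟨u, hu⟩, rfl⟩
  have hOq : Cfsg.pPrimeCore p (↥C ⧸ Cfsg.pPrimeCore p ↥C) = ⊥ := pPrimeCore_quotient_eq_bot p
  have hWbar : W₁.map q = ⊥ := by
    have hA1' : A₁.map q ≠ ⊥ := fun h => by
      rw [h, Subgroup.card_bot] at hcardA
      exact absurd hcardA (Nat.one_lt_pow (by omega) hpp.one_lt).ne
    have hWle : ∀ a ∈ A₁.map q, a ≠ 1 → W₁.map q ≤ Cfsg.centralizerPPrimeCore p a := by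
      rintro _ ⟨u, hu, rfl⟩ hu1
      have hu1' : u ≠ 1 := fun e => hu1 (by rw [e, map_one])
      refine le_trans (Subgroup.map_mono ?_)
        (map_centralizerPPrimeCore_quotient_le _ hO (hordA u hu hu1'))
      refine le_trans ?_ (subgroupOf_centralizerPPrimeCore_le u.2)
      exact fun w hw => hdelta (u : G) hu (fun e => hu1' (Subtype.ext e)) hw.1
    have hWn : A₁.map q ≤ normalizer ((W₁.map q : Subgroup _) : Set _) := by
      refine (Subgroup.map_mono (fun u hu => ?_)).trans (le_normalizer_map q)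
      intro w
      refine ⟨fun hw => hAnW (u : G) hu _ hw, fun hw => ?_⟩
      have := hAnW (u : G)⁻¹ (inv_mem hu) _ hw
      show (w : G) ∈ W
      simpa [mul_assoc] using this
    refine eq_bot_of_le_cores hOq hAbar hA1' hWle fun L hL hAn hWn' hfaith => ?_
    obtain ⟨H, hH⟩ : ∃ H, H = L ⊔ (W₁.map q ⊔ A₁.map q) := ⟨_, rfl⟩
    have hHn : H ≤ normalizer (L : Set _) := hH ▸ sup_le le_normalizer (sup_le hWn' hAn)
    set ψ := (normalizerQuotHom L).comp (Subgroup.inclusion hHn) with hψ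
    have hker : ψ.rangeRestrict.ker = (centralizer (L : Set _)).subgroupOf H := by
      rw [MonoidHom.ker_rangeRestrict, hψ, ← MonoidHom.comap_ker,
        ker_normalizerQuotHom (IsComponent.commutator_self hL)]
      rfl
    obtain ⟨hea, hc, hle, hfin⟩ := map_le_cores_of_component hL hOq hAbar hWle hWn hAn hWn' hfaith hH
      ψ.rangeRestrict ψ.rangeRestrict_surjective hker
    refine hfin (le_bot_iff.mp (hle.trans (le_of_eq ?_)))
    exact h b hb L hL ψ.range (range_conj_le_range_normalizerQuotHom (hH ▸ le_sup_left) hHn) _ hea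
      (hc.trans hcardA)
  intro w hw
  rw [Subgroup.map_eq_bot_iff, hq, QuotientGroup.ker_mk'] at hWbar
  exact ⟨⟨w, hw.2⟩, hWbar (show (⟨w, hw.2⟩ : ↥C) ∈ W₁ from hw), rfl⟩

end Cfsg.Agent.S1298
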