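import Cfsg.Statements.S1299
import Cfsg.Agent.Lib.Components.Signalizer
import Cfsg.Agent.Lib.Components.Balance

set_option autoImplicit false
open Cfsg

namespace Cfsg.Agent.S1299

open Subgroup Cfsg.Agent.Lib.Components
open scoped commutatorElement

variable {G : Type*} [Group G] [Finite G] {p k : ℕ} [hp : Fact p.Prime] {A : Subgroup G}

omit [Finite G] hp in
theorem delta_le_cpc {S : Subgroup G} {d : G} (hd : d ∈ S) (hd1 : d ≠ 1) :
    signalizerDelta p S ≤ centralizerPPrimeCore p d :=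
  iInf_le (fun a : {a : G // a ∈ S ∧ a ≠ 1} => centralizerPPrimeCore p (a : G)) ⟨d, hd, hd1⟩

omit [Finite G] hp in
theorem delta_mono {S B : Subgroup G} (h : S ≤ B) : signalizerDelta p B ≤ signalizerDelta p S :=
  le_iInf fun a => delta_le_cpc (h a.2.1) a.2.2

omit [Finite G] hp in
theorem delta_le_centralizer {S : Subgroup G} :
    signalizerDelta p S ≤ centralizer (S : Set G) := by
  intro x hx
  rw [mem_centralizer_iff]
  intro s hs
  rcases eq_or_ne s 1 with rfl | h1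
  · simp
  · exact (mem_centralizer_singleton_iff.mp
      (map_subtype_le _ (delta_le_cpc hs h1 hx))).symm

omit [Finite G] hp in
theorem conj_mem_delta (hA : IsElementaryAbelian p A) {B : Subgroup G} (hB : B ≤ A) {u x : G}
    (hu : u ∈ A) (hx : x ∈ signalizerDelta p B) : u * x * u⁻¹ ∈ signalizerDelta p B := by
  rw [signalizerDelta, Subgroup.mem_iInf]
  rintro ⟨d, hd, hd1⟩
  obtain ⟨m, hm, rfl⟩ := delta_le_cpc hd hd1 hx
  have huc : u ∈ centralizer ({d} : Set G) :=
    mem_centralizer_singleton_iff.mpr (elemAb_commute hA hu (hB hd))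
  exact ⟨⟨u, huc⟩ * m * ⟨u, huc⟩⁻¹, (pPrimeCore_normal p _).conj_mem m hm _, rfl⟩

theorem compat (hbal : IsKBalanced p k G) (hA : IsElementaryAbelian p A) {S B : Subgroup G}
    (hS : S ≤ A) (hSk : p ^ k ≤ Nat.card ↥S) (hB : B ≤ A) :
    signalizerDelta p S ⊓ centralizer (B : Set G) ≤ signalizerDelta p B := by
  obtain ⟨n, hn⟩ := IsPGroup.iff_card.mp (elemAb_isPGroup (elemAb_mono hA hS))
  have hkn : k ≤ n := (Nat.pow_le_pow_iff_right hp.out.one_lt).mp (hn ▸ hSk)
  obtain ⟨D, hD⟩ := Sylow.exists_subgroup_card_pow_prime p (G := ↥S) (hn ▸ pow_dvd_pow p hkn)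
  set D' := D.map S.subtype with hD'
  have hD'S : D' ≤ S := map_subtype_le D
  have hD'c : Nat.card ↥D' = p ^ k := by
    rw [hD', Subgroup.card_map_of_injective S.subtype_injective, hD]
  refine le_iInf ?_
  rintro ⟨b, hb, hb1⟩ x ⟨hx, hxc⟩
  exact hbal D' (elemAb_mono hA (hD'S.trans hS)) hD'c b
    (orderOf_eq_prime (hA.2 b (hB hb)) hb1)
    (fun d hd => elemAb_commute hA (hS (hD'S hd)) (hB hb))
    ⟨delta_mono hD'S hx, centralizer_le (Set.singleton_subset_iff.mpr hb) hxc⟩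

theorem card_inf_ge (hA : IsElementaryAbelian p A) (hAk : p ^ (k + 2) ≤ Nat.card ↥A)
    {B C : Subgroup G} (hB : B ≤ A) (hC : C ≤ A) (hBi : B.relIndex A ≤ p)
    (hCi : C.relIndex A ≤ p) : p ^ k ≤ Nat.card ↥(B ⊓ C) := by
  have h2 : (B ⊓ C).relIndex A ≤ p * p :=
    le_trans Subgroup.relIndex_inf_le (Nat.mul_le_mul hBi hCi)
  have h1 := Cfsg.Agent.Lib.Coprime.relIndex_mul_card (inf_le_left.trans hB : B ⊓ C ≤ A)
  by_contra hlt
  rw [not_le] at hlt
  have h4 : (B ⊓ C).relIndex A * Nat.card ↥(B ⊓ C) ≤ p * p * Nat.card ↥(B ⊓ C) :=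
    Nat.mul_le_mul_right _ h2
  have h5 : p * p * Nat.card ↥(B ⊓ C) < p * p * p ^ k :=
    Nat.mul_lt_mul_of_pos_left hlt (Nat.mul_pos hp.out.pos hp.out.pos)
  have h6 : p ^ (k + 2) = p * p * p ^ k := by ring
  rw [mul_comm] at h1
  rw [h1] at h4
  omega

theorem centralizer_le_delta (hbal : IsKBalanced p k G) (hA : IsElementaryAbelian p A)
    (hAk : p ^ (k + 2) ≤ Nat.card ↥A) : ∀ n, ∀ Y : Subgroup G, Nat.card ↥Y = n →
      Group.IsSolvable ↥Y → ¬ p ∣ Nat.card ↥Y → A ≤ normalizer (Y : Set G) →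
      Y ≤ (⨆ B : {B : Subgroup G // B ≤ A ∧ B.relIndex A ≤ p},
        Y ⊓ signalizerDelta p (B : Subgroup G)) →
      ∀ S ≤ A, p ^ k ≤ Nat.card ↥S → Y ⊓ centralizer (S : Set G) ≤ signalizerDelta p S := by
  intro n
  induction n using Nat.strong_induction_on with
  | _ n ih =>
  intro Y hn hsol hp' hAY hgen S hS hSk
  by_cases hY : Y = ⊥
  · subst hY; simp
  set Z : Subgroup G := ⁅Y, Y⁆ with hZ
  have hZY : Z ≤ Y := commutator_le.mpr fun a ha b hb => by
    rw [commutatorElement_def]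
    exact mul_mem (mul_mem (mul_mem ha hb) (inv_mem ha)) (inv_mem hb)
  set g : {B : Subgroup G // B ≤ A ∧ B.relIndex A ≤ p} → Subgroup G :=
    fun B => Y ⊓ signalizerDelta p (B : Subgroup G) with hg
  set Y₁ : Subgroup G := ⨆ B : {B : Subgroup G // B ≤ A ∧ B.relIndex A ≤ p},
    Z ⊓ signalizerDelta p (B : Subgroup G) with hY₁
  have hY₁Z : Y₁ ≤ Z := iSup_le fun B => inf_le_left
  have hZA : A ≤ normalizer (Z : Set G) := fun u hu => by
    rw [mem_normalizer_iff_map_conj, hZ, map_commutator,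
      mem_normalizer_iff_map_conj.mp (hAY hu)]
  have hcomm : ∀ B C, ⁅g B, g C⁆ ≤ Y₁ := by
    intro B C
    set S' := (B : Subgroup G) ⊓ (C : Subgroup G) with hS'
    have hS'k : p ^ k ≤ Nat.card ↥S' := card_inf_ge hA hAk B.2.1 C.2.1 B.2.2 C.2.2
    have hle : ⁅g B, g C⁆ ≤ Z ⊓ signalizerDelta p S' := by
      refine le_inf (commutator_mono inf_le_left inf_le_left) (commutator_le.mpr ?_)
      intro a ha b hb
      have ha' : a ∈ signalizerDelta p S' := delta_mono inf_le_left ha.2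
      have hb' : b ∈ signalizerDelta p S' := delta_mono inf_le_right hb.2
      rw [commutatorElement_def]
      exact mul_mem (mul_mem (mul_mem ha' hb') (inv_mem ha')) (inv_mem hb')
    refine hle.trans ?_
    have hW : A ≤ normalizer ((Z ⊓ signalizerDelta p S' : Subgroup G) : Set G) := fun u hu x =>
      ⟨fun hx => ⟨(hZA hu x).mp hx.1, conj_mem_delta hA (inf_le_left.trans B.2.1) hu hx.2⟩,
        fun hx => ⟨(hZA hu x).mpr hx.1, by
          simpa [mul_assoc] using conj_mem_delta hA (inf_le_left.trans B.2.1) (inv_mem hu) hx.2⟩⟩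
    have hWp : ¬ p ∣ Nat.card ↥(Z ⊓ signalizerDelta p S' : Subgroup G) := fun h =>
      hp' (h.trans (card_dvd_of_le (inf_le_left.trans hZY)))
    rw [eq_iSup_hyperplane hA hWp hW]
    exact iSup_le fun D => le_iSup_of_le D (le_inf (inf_le_left.trans inf_le_left)
      ((inf_le_inf_right _ inf_le_right).trans
        (compat hbal hA (inf_le_left.trans B.2.1) hS'k D.2.1)))
  -- `Y₁` is normalised by `Y`
  have hYn : Y ≤ normalizer (Y₁ : Set G) := by
    refine hgen.trans (iSup_le fun C => ?_)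
    intro c hc
    have key : ∀ c ∈ g C, ∀ x ∈ Y₁, c * x * c⁻¹ ∈ Y₁ := by
      intro c hc x hx
      have : Y₁ ≤ Y₁.comap (MulAut.conj c).toMonoidHom := by
        refine iSup_le fun B w hw => ?_
        show c * w * c⁻¹ ∈ Y₁
        rw [show c * w * c⁻¹ = ⁅c, w⁆ * w by rw [commutatorElement_def]; group]
        exact mul_mem (hcomm C B (commutator_mem_commutator hc ⟨hZY hw.1, hw.2⟩))
          ((le_iSup (fun B : {B : Subgroup G // B ≤ A ∧ B.relIndex A ≤ p} =>
            Z ⊓ signalizerDelta p (B : Subgroup G)) B) hw)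
      exact this hx
    exact fun x => ⟨key c hc x, fun hx => by simpa [mul_assoc] using key c⁻¹ (inv_mem hc) _ hx⟩
  have hY₁Y : Y₁ ≤ Y := hY₁Z.trans hZY
  haveI hnor : (Y₁.subgroupOf Y).Normal := normal_subgroupOf_of_le_normalizer hYn
  set mk := QuotientGroup.mk' (Y₁.subgroupOf Y) with hmk
  have hmk1 : ∀ y : ↥Y, mk y = 1 ↔ (y : G) ∈ Y₁ := fun y => QuotientGroup.eq_one_iff y
  -- the quotient is commutative
  have hab : ∀ a b : ↥Y, mk a * mk b = mk b * mk a := by
    have h1 : ∀ B C, ∀ a b : ↥Y, (a : G) ∈ g B → (b : G) ∈ g C → mk a * mk b = mk b * mk a := by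
      intro B C a b ha hb
      have : mk ⁅a, b⁆ = 1 := (hmk1 _).mpr (hcomm B C (commutator_mem_commutator ha hb))
      rw [map_commutatorElement, commutatorElement_eq_one_iff_mul_comm] at this
      exact this
    have h2 : ∀ b : ↥Y, (∀ B, ∀ a : ↥Y, (a : G) ∈ g B → mk a * mk b = mk b * mk a) →
        ∀ a : ↥Y, mk a * mk b = mk b * mk a := by
      intro b hb a
      have : Y ≤ (((centralizer ({mk b} : Set _)).comap mk).map Y.subtype) := by
        refine hgen.trans (iSup_le fun B x hx => ⟨⟨x, hx.1⟩, ?_, rfl⟩)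
        exact mem_centralizer_singleton_iff.mpr (hb B ⟨x, hx.1⟩ hx)
      obtain ⟨a', ha', he⟩ := this a.2
      obtain rfl : a' = a := Subtype.ext he
      exact mem_centralizer_singleton_iff.mp ha'
    exact fun a b => h2 b (fun B a' ha' => (h2 a' (fun C a'' ha'' => h1 C B a'' a' ha'' ha') b).symm) a
  have hZY₁ : Z ≤ Y₁ := by
    refine commutator_le.mpr fun a ha b hb => ?_
    have : mk ⁅(⟨a, ha⟩ : ↥Y), ⟨b, hb⟩⁆ = 1 := by
      rw [map_commutatorElement, commutatorElement_eq_one_iff_mul_comm]; exact hab _ _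
    exact (hmk1 _).mp this
  have hlt : Nat.card ↥Y₁ < n := by
    rw [← hn]
    refine lt_of_not_ge fun hge => hY ?_
    have h := Subgroup.eq_of_le_of_card_ge hY₁Y hge
    exact eq_bot_of_perfect_solvable (le_antisymm hZY (h.ge.trans hY₁Z)) hsol
  -- recursion for `Y₁`
  have hrec : ∀ S' ≤ A, p ^ k ≤ Nat.card ↥S' →
      Y₁ ⊓ centralizer (S' : Set G) ≤ signalizerDelta p S' := by
    refine ih _ hlt Y₁ rfl (isSolvable_of_le hY₁Y hsol)
      (fun h => hp' (h.trans (card_dvd_of_le hY₁Y))) ?_ ?_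
    · rw [show Y₁ = Z from le_antisymm hY₁Z hZY₁]; exact hZA
    · conv_lhs => rw [hY₁]
      refine iSup_le fun B => le_iSup_of_le B (le_inf ?_ inf_le_right)
      exact le_iSup (fun B : {B : Subgroup G // B ≤ A ∧ B.relIndex A ≤ p} =>
        Z ⊓ signalizerDelta p (B : Subgroup G)) B
  have hY₁A : A ≤ normalizer (Y₁ : Set G) := by
    rw [show Y₁ = Z from le_antisymm hY₁Z hZY₁]; exact hZA
  -- the norm map
  letI : CommGroup (↥Y ⧸ Y₁.subgroupOf Y) :=
    { (inferInstance : Group (↥Y ⧸ Y₁.subgroupOf Y)) with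
      mul_comm := fun u v => by
        obtain ⟨a, rfl⟩ := QuotientGroup.mk'_surjective (Y₁.subgroupOf Y) u
        obtain ⟨b, rfl⟩ := QuotientGroup.mk'_surjective (Y₁.subgroupOf Y) v
        exact hab a b }
  letI : Fintype ↥S := Fintype.ofFinite _
  let c : ↥S → ↥Y →* ↥Y := fun s =>
    { toFun := fun y => ⟨(s : G) * y * (s : G)⁻¹, (hAY (hS s.2) _).mp y.2⟩
      map_one' := Subtype.ext (by simp)
      map_mul' := fun u v => Subtype.ext (by simp [mul_assoc]) }
  let ν : ↥Y →* ↥Y ⧸ Y₁.subgroupOf Y :=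
    { toFun := fun y => ∏ s : ↥S, mk (c s y)
      map_one' := by simp
      map_mul' := fun u v => by simp [Finset.prod_mul_distrib] }
  have hν : ∀ y, ν y = ∏ s : ↥S, mk (c s y) := fun _ => rfl
  have hcop : (Nat.card ↥S).Coprime (Nat.card ↥Y) :=
    coprime_card_of_not_dvd (elemAb_isPGroup (elemAb_mono hA hS)) hp'
  set T : Subgroup (↥Y ⧸ Y₁.subgroupOf Y) :=
    ((Y ⊓ signalizerDelta p S).subgroupOf Y).map mk with hT
  -- the norm of a generator lies in `T`
  have hνT : ∀ y, ν y ∈ T := by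
    intro y
    have : Y ≤ (T.comap ν).map Y.subtype := by
      refine hgen.trans (iSup_le fun B => ?_)
      intro x hx
      have hgS : S ≤ normalizer ((g B : Subgroup G) : Set G) := fun u hu w =>
        ⟨fun hw => ⟨(hAY (hS hu) w).mp hw.1, conj_mem_delta hA B.2.1 (hS hu) hw.2⟩,
          fun hw => ⟨(hAY (hS hu) w).mpr hw.1, by
            simpa [mul_assoc] using conj_mem_delta hA B.2.1 (hS (inv_mem hu)) hw.2⟩⟩
      have hdec := Cfsg.Agent.Lib.Coprime.commutator_sup_centralizer_eq hgS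
        (hcop.coprime_dvd_right (card_dvd_of_le (inf_le_left : g B ≤ Y)))
        (Or.inr (isSolvable_of_le (inf_le_left : g B ≤ Y) hsol))
      refine (show g B ≤ _ from hdec ▸ sup_le ?_ ?_) hx
      · refine commutator_le.mpr fun a ha s hs => ?_
        have hY' : ⁅a, s⁆ ∈ Y := by
          rw [commutatorElement_def, mul_assoc, mul_assoc, ← mul_assoc s]
          exact mul_mem ha.1 ((hAY (hS hs) _).mp (inv_mem ha.1))
        refine ⟨⟨⁅a, s⁆, hY'⟩, ?_, rfl⟩
        have e : (⟨⁅a, s⁆, hY'⟩ : ↥Y) = ⟨a, ha.1⟩ * c ⟨s, hs⟩ ⟨a, ha.1⟩⁻¹ :=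
          Subtype.ext (by show ⁅a, s⁆ = a * (s * a⁻¹ * s⁻¹); rw [commutatorElement_def]; group)
        have hinv : ν (c ⟨s, hs⟩ ⟨a, ha.1⟩⁻¹) = (ν ⟨a, ha.1⟩)⁻¹ := by
          rw [← map_inv, hν, hν]
          refine Fintype.prod_equiv (Equiv.mulRight (⟨s, hs⟩ : ↥S)) _ _ fun u => ?_
          refine congrArg mk (Subtype.ext ?_)
          show (u : G) * (s * a⁻¹ * s⁻¹) * (u : G)⁻¹ = ((u : G) * s) * a⁻¹ * ((u : G) * s)⁻¹
          group
        rw [SetLike.mem_coe, mem_comap, e, map_mul, hinv, mul_inv_cancel]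
        exact one_mem _
      · rintro a ⟨ha, haS⟩
        refine ⟨⟨a, ha.1⟩, ?_, rfl⟩
        have haD : a ∈ signalizerDelta p S := by
          have hBk : p ^ k ≤ Nat.card ↥(B : Subgroup G) := by
            refine le_trans (card_inf_ge hA hAk B.2.1 B.2.1 B.2.2 B.2.2) ?_
            rw [inf_idem]
          exact compat hbal hA B.2.1 hBk hS ⟨ha.2, haS⟩
        rw [SetLike.mem_coe, mem_comap, hν]
        refine Subgroup.prod_mem _ fun s _ => ⟨⟨a, ha.1⟩, ⟨ha.1, haD⟩, congrArg mk (Subtype.ext ?_)⟩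
        show a = (s : G) * a * (s : G)⁻¹
        rw [mem_centralizer_iff.mp haS s s.2, mul_inv_cancel_right]
    obtain ⟨y', hy', he⟩ := this y.2
    obtain rfl : y' = y := Subtype.ext he
    exact hy'
  rintro y ⟨hy, hyS⟩
  have h1 : ν ⟨y, hy⟩ = mk ⟨y, hy⟩ ^ Nat.card ↥S := by
    rw [hν, Nat.card_eq_fintype_card, ← Finset.card_univ, ← Finset.prod_const]
    refine Finset.prod_congr rfl fun s _ => congrArg mk (Subtype.ext ?_)
    show (s : G) * y * (s : G)⁻¹ = y
    rw [mem_centralizer_iff.mp hyS s s.2, mul_inv_cancel_right]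
  have h2 : mk ⟨y, hy⟩ ∈ T := by
    refine mem_of_pow_mem_of_coprime ?_ (h1 ▸ hνT _)
    exact (hcop.symm).coprime_dvd_left ((orderOf_map_dvd mk _).trans (orderOf_dvd_natCard _))
  obtain ⟨w, hw, hwe⟩ := h2
  have hwD : (w : G) ∈ signalizerDelta p S := hw.2
  have h3 : (w : G)⁻¹ * y ∈ Y₁ := by
    have : mk (w⁻¹ * ⟨y, hy⟩) = 1 := by rw [map_mul, map_inv, hwe, inv_mul_cancel]
    exact (hmk1 _).mp this
  have h4 : (w : G)⁻¹ * y ∈ signalizerDelta p S :=
    hrec S hS hSk ⟨h3, Subgroup.mul_mem _ (Subgroup.inv_mem _ (delta_le_centralizer hwD)) hyS⟩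
  simpa using mul_mem hwD h4


/-- Let G be finite and k-balanced for the prime p (k ≥ 1), A an elementary abelian p-subgroup of order at least p^(k+2) such that O_{p'}(C_G(a)) is solvable for every non-identity a ∈ A. For a ∈ A put θ a = the subgroup generated by the Δ_G(D) ∩ C_G(a) over the subgroups D ≤ A of order p^k. Then θ is an A-signalizer functor. -/
theorem result {G : Type*} [Group G] [Finite G] (p k : ℕ) [Fact p.Prime] (hk : 1 ≤ k) (hbal : Cfsg.IsKBalanced p k G) (A : Subgroup G) (hA : Cfsg.IsElementaryAbelian p A) (hAk : p ^ (k + 2) ≤ Nat.card ↥A) (hsolv : ∀ a ∈ A, a ≠ 1 → Group.IsSolvable ↥(Cfsg.centralizerPPrimeCore p a)) : Cfsg.IsSignalizerFunctor p A (fun a => ⨆ D : {D : Subgroup G // D ≤ A ∧ Nat.card ↥D = p ^ k}, Cfsg.signalizerDelta p (D : Subgroup G) ⊓ Subgroup.centralizer {a}) := by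
  have hcpc : ∀ a ∈ A, a ≠ 1 → (⨆ D : {D : Subgroup G // D ≤ A ∧ Nat.card ↥D = p ^ k},
      Cfsg.signalizerDelta p (D : Subgroup G) ⊓ centralizer {a}) ≤
        Cfsg.centralizerPPrimeCore p a := fun a ha ha1 => iSup_le fun D =>
    hbal D (elemAb_mono hA D.2.1) D.2.2 a (orderOf_eq_prime (hA.2 a ha) ha1)
      fun d hd => elemAb_commute hA (D.2.1 hd) ha
  have hconj : ∀ a ∈ A, ∀ b ∈ A, ∀ x ∈ (⨆ D : {D : Subgroup G // D ≤ A ∧ Nat.card ↥D = p ^ k},
      Cfsg.signalizerDelta p (D : Subgroup G) ⊓ centralizer {a}),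
      b * x * b⁻¹ ∈ (⨆ D : {D : Subgroup G // D ≤ A ∧ Nat.card ↥D = p ^ k},
        Cfsg.signalizerDelta p (D : Subgroup G) ⊓ centralizer {a}) := by
    intro a ha b hb x hx
    have h1 : (⨆ D : {D : Subgroup G // D ≤ A ∧ Nat.card ↥D = p ^ k},
        Cfsg.signalizerDelta p (D : Subgroup G) ⊓ centralizer {a}) ≤
        (⨆ D : {D : Subgroup G // D ≤ A ∧ Nat.card ↥D = p ^ k},
        Cfsg.signalizerDelta p (D : Subgroup G) ⊓ centralizer {a}).comap
          (MulAut.conj b).toMonoidHom := by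
      refine iSup_le fun D w hw => le_iSup (fun D : {D : Subgroup G // D ≤ A ∧ Nat.card ↥D = p ^ k} =>
        Cfsg.signalizerDelta p (D : Subgroup G) ⊓ centralizer {a}) D ?_
      have hba : b ∈ centralizer ({a} : Set G) :=
        mem_centralizer_singleton_iff.mpr (elemAb_commute hA hb ha)
      exact ⟨conj_mem_delta hA D.2.1 hb hw.1,
        Subgroup.mul_mem _ (Subgroup.mul_mem _ hba hw.2) (Subgroup.inv_mem _ hba)⟩
    exact h1 hx
  refine ⟨fun a ha ha1 => iSup_le fun D => inf_le_right, fun a ha ha1 h => ?_,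
    fun a ha ha1 b hb x hx => hconj a ha b hb x hx, fun a ha ha1 b hb hb1 => ?_⟩
  · exact (Fact.out : p.Prime).coprime_iff_not_dvd.mp (coprime_card_centralizerPPrimeCore a).symm
      (h.trans (card_dvd_of_le (hcpc a ha ha1)))
  set θ := fun a : G => ⨆ D : {D : Subgroup G // D ≤ A ∧ Nat.card ↥D = p ^ k},
    Cfsg.signalizerDelta p (D : Subgroup G) ⊓ centralizer {a} with hθ
  show θ a ⊓ centralizer {b} ≤ θ b
  have hp' : ¬ p ∣ Nat.card ↥(θ a) := fun h =>
    (Fact.out : p.Prime).coprime_iff_not_dvd.mp (coprime_card_centralizerPPrimeCore a).symm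
      (h.trans (card_dvd_of_le (hcpc a ha ha1)))
  have hsol : Group.IsSolvable ↥(θ a) := isSolvable_of_le (hcpc a ha ha1) (hsolv a ha ha1)
  have hAn : A ≤ normalizer (θ a : Set G) := fun u hu x =>
    ⟨hconj a ha u hu x, fun hx => by simpa [mul_assoc] using hconj a ha u⁻¹ (inv_mem hu) _ hx⟩
  have hgen : θ a ≤ ⨆ B : {B : Subgroup G // B ≤ A ∧ B.relIndex A ≤ p},
      θ a ⊓ Cfsg.signalizerDelta p (B : Subgroup G) := by
    refine iSup_le fun D => ?_
    set W := Cfsg.signalizerDelta p (D : Subgroup G) ⊓ centralizer {a} with hW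
    have hWθ : W ≤ θ a := le_iSup (fun D : {D : Subgroup G // D ≤ A ∧ Nat.card ↥D = p ^ k} =>
      Cfsg.signalizerDelta p (D : Subgroup G) ⊓ centralizer {a}) D
    have hWn : A ≤ normalizer (W : Set G) := fun u hu x => by
      have hua : u ∈ centralizer ({a} : Set G) :=
        mem_centralizer_singleton_iff.mpr (elemAb_commute hA hu ha)
      refine ⟨fun hx => ⟨conj_mem_delta hA D.2.1 hu hx.1,
        Subgroup.mul_mem _ (Subgroup.mul_mem _ hua hx.2) (Subgroup.inv_mem _ hua)⟩, fun hx => ⟨?_, ?_⟩⟩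
      · simpa [mul_assoc] using conj_mem_delta hA D.2.1 (inv_mem hu) hx.1
      · simpa [mul_assoc] using
          Subgroup.mul_mem _ (Subgroup.mul_mem _ (Subgroup.inv_mem _ hua) hx.2) hua
    rw [eq_iSup_hyperplane hA (fun h => hp' (h.trans (card_dvd_of_le hWθ))) hWn]
    exact iSup_le fun B => le_iSup_of_le B (le_inf (inf_le_left.trans hWθ)
      ((inf_le_inf_right _ inf_le_left).trans (compat hbal hA D.2.1 D.2.2.ge B.2.1)))
  set U := θ a ⊓ centralizer {b} with hU
  have hUn : A ≤ normalizer (U : Set G) := fun u hu x => by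
    have hub : u ∈ centralizer ({b} : Set G) :=
      mem_centralizer_singleton_iff.mpr (elemAb_commute hA hu hb)
    refine ⟨fun hx => ⟨(hAn hu x).mp hx.1,
      Subgroup.mul_mem _ (Subgroup.mul_mem _ hub hx.2) (Subgroup.inv_mem _ hub)⟩, fun hx =>
      ⟨(hAn hu x).mpr hx.1, ?_⟩⟩
    simpa [mul_assoc] using
      Subgroup.mul_mem _ (Subgroup.mul_mem _ (Subgroup.inv_mem _ hub) hx.2) hub
  rw [eq_iSup_hyperplane (K := U) hA (fun h => hp' (h.trans (card_dvd_of_le inf_le_left))) hUn]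
  refine iSup_le fun B => ?_
  have hBk : p ^ k ≤ Nat.card ↥(B : Subgroup G) := by
    refine le_trans (card_inf_ge hA hAk B.2.1 B.2.1 B.2.2 B.2.2) ?_
    rw [inf_idem]
  have h1 : U ⊓ centralizer ((B : Subgroup G) : Set G) ≤ Cfsg.signalizerDelta p (B : Subgroup G) :=
    (inf_le_inf_right _ inf_le_left).trans
      (centralizer_le_delta hbal hA hAk _ (θ a) rfl hsol hp' hAn hgen B B.2.1 hBk)
  obtain ⟨n, hn⟩ := IsPGroup.iff_card.mp (elemAb_isPGroup (elemAb_mono hA B.2.1))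
  obtain ⟨D, hD⟩ := Sylow.exists_subgroup_card_pow_prime p (G := ↥(B : Subgroup G))
    (n := k) (hn ▸ pow_dvd_pow p ((Nat.pow_le_pow_iff_right (Fact.out : p.Prime).one_lt).mp (hn ▸ hBk)))
  refine le_iSup_of_le ⟨D.map (B : Subgroup G).subtype, (map_subtype_le D).trans B.2.1,
    by rw [Subgroup.card_map_of_injective (subtype_injective _), hD]⟩ ?_
  exact fun w hw => ⟨delta_mono (map_subtype_le D) (h1 hw), hw.1.2⟩

end Cfsg.Agent.S1299
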