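import Cfsg.Statements.S1300
import Cfsg.Agent.Lib.Components.Transport
import Cfsg.Agent.Lib.Components.GenFitting

set_option autoImplicit false
open Cfsg

namespace Cfsg.Agent.S1300

open Subgroup

theorem delta_eq {G : Type*} [Group G] (p : ℕ) {A : Subgroup G} {a : G} (ha : a ∈ A) (ha1 : a ≠ 1)
    (h : ∀ b ∈ A, b ≠ 1 → b = a) : signalizerDelta p A = centralizerPPrimeCore p a :=
  le_antisymm (iInf_le (fun x : {a : G // a ∈ A ∧ a ≠ 1} => centralizerPPrimeCore p (x : G))
    ⟨a, ha, ha1⟩) (le_iInf fun x => by rw [h x x.2.1 x.2.2])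

theorem isBalanced_iff {G : Type*} [Group G] : IsBalanced G ↔ IsKBalanced 2 1 G := by
  constructor
  · intro h A hA hcard b hb hcomm
    rw [pow_one] at hcard
    obtain ⟨a, b', hab, hu⟩ := Nat.card_eq_two_iff.mp hcard
    obtain ⟨a', ha'⟩ : ∃ a' : ↥A, a' ≠ 1 := by
      rcases eq_or_ne a 1 with rfl | ha
      · exact ⟨b', hab.symm⟩
      · exact ⟨a, ha⟩
    have huniq : ∀ c ∈ A, c ≠ 1 → c = (a' : G) := by
      intro c hc hc1
      have h1 : ∀ x : ↥A, x = a ∨ x = b' := fun x => by
        have := hu.symm ▸ Set.mem_univ x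
        simpa using this
      have hc' : (⟨c, hc⟩ : ↥A) ≠ 1 := fun e => hc1 (congrArg Subtype.val e)
      have key : (⟨c, hc⟩ : ↥A) = a' := by
        rcases h1 ⟨c, hc⟩ with e1 | e1 <;> rcases h1 a' with e2 | e2 <;> rcases h1 1 with e3 | e3 <;>
          first
          | exact e1.trans e2.symm
          | exact absurd (e1.trans e3.symm) hc'
          | exact absurd (e2.trans e3.symm) ha'
      exact congrArg Subtype.val key
    have hao : orderOf (a' : G) = 2 := by
      rw [orderOf_eq_prime_iff]
      exact ⟨hA.2 _ a'.2, fun e => ha' (Subtype.ext e)⟩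
    rw [delta_eq 2 a'.2 (fun e => ha' (Subtype.ext e)) huniq, h _ b hao hb (hcomm _ a'.2)]
    exact inf_le_left
  · intro h
    have key : ∀ x y : G, orderOf x = 2 → orderOf y = 2 → x * y = y * x →
        centralizerPPrimeCore 2 x ⊓ centralizer {y} ≤
          centralizerPPrimeCore 2 y ⊓ centralizer {x} := by
      intro x y hx hy hxy
      have hmem : ∀ z ∈ zpowers x, z ≠ 1 → z = x := by
        intro z hz hz1
        have hfo : IsOfFinOrder x := orderOf_pos_iff.mp (by omega)
        obtain ⟨k, hk⟩ := hfo.mem_powers_iff_mem_zpowers.mpr hz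
        simp only at hk
        rw [← pow_mod_orderOf, hx] at hk
        rcases Nat.mod_two_eq_zero_or_one k with e | e <;> rw [e] at hk <;> simp at hk
        · exact absurd hk.symm hz1
        · exact hk.symm
      have hx1 : x ≠ 1 := fun e => by simp [e] at hx
      have hA : IsElementaryAbelian 2 (zpowers x) := by
        refine ⟨inferInstance, fun z hz => ?_⟩
        rcases eq_or_ne z 1 with rfl | hz1
        · simp
        · rw [hmem z hz hz1, ← hx]; exact pow_orderOf_eq_one x
      have hk := h (zpowers x) hA (by rw [Nat.card_zpowers, hx, pow_one]) y hy (fun z hz => by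
        rcases eq_or_ne z 1 with rfl | hz1
        · simp
        · rw [hmem z hz hz1]; exact hxy)
      rw [delta_eq 2 (mem_zpowers x) hx1 hmem] at hk
      exact le_inf hk (inf_le_left.trans (map_subtype_le _))
    intro x y hx hy hxy
    exact le_antisymm (key x y hx hy hxy) (key y x hy hx hxy.symm)


/-- For a finite group G, balance in the sense of commuting involutions is the same as 1-balance for the prime 2. -/
theorem result {G : Type*} [Group G] [Finite G] : Cfsg.IsBalanced G ↔ Cfsg.IsKBalanced 2 1 G := by
  exact isBalanced_iff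

end Cfsg.Agent.S1300
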