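import Cfsg.Statements.S1302
import Cfsg.Agent.Lib.Components.Constrained
import Cfsg.Agent.Lib.Components.Balance
import Cfsg.Agent.Lib.Coprime.Hall
import Cfsg.Agent.Lib.Coprime.PxQ
import Cfsg.Agent.Lib.OddLocal.Coprime

set_option autoImplicit false
open Cfsg

namespace Cfsg.Agent.S1302

open Subgroup Cfsg Cfsg.Agent.Lib.Components
open scoped commutatorElement

section
variable {G : Type*} [Group G]

theorem eq_one_commutator_of_commute {a b : G} (h : a * b = b * a) : a * b * a⁻¹ * b⁻¹ = 1 := by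
  rw [h]; group

/-- An `A`-fixed coset of `W ∩ C(Q)` in a class two group of odd exponent `p` contains,
after the Baer projection, an `A`-fixed point outside `C(Q)`. -/
theorem exists_fixed_not_centralized [Finite G] {p : ℕ} [Fact p.Prime] (hp : p ≠ 2)
    {W Q A : Subgroup G} (hexp : ∀ w ∈ W, w ^ p = 1)
    (hQW : Q ≤ normalizer (W : Set G)) (hAW : A ≤ normalizer (W : Set G))
    (hAQ : A ≤ normalizer (Q : Set G)) (hQ : (Nat.card ↥Q).Coprime p)
    (hWW : ⁅W, W⁆ ≤ centralizer (Q : Set G))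
    (hZ : W ⊓ centralizer (Q : Set G) ≤ centralizer (W : Set G))
    {x : G} (hx : x ∈ W) (hxQ : x ∉ centralizer (Q : Set G))
    (hxA : ∀ a ∈ A, x⁻¹ * (a * x * a⁻¹) ∈ centralizer (Q : Set G)) :
    ∃ y ∈ W, y ∉ centralizer (Q : Set G) ∧ ∀ a ∈ A, a * y = y * a := by
  classical
  have hpp := (Fact.out : p.Prime)
  haveI : Fintype ↥Q := Fintype.ofFinite _
  obtain ⟨k, hk⟩ : ∃ k, 2 * k = p + 1 := by
    obtain ⟨m, hm⟩ := hpp.odd_of_ne_two hp
    exact ⟨m + 1, by omega⟩
  -- commutators in `W`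
  let c : ↥W → ↥W → ↥W := fun b a => b * a * b⁻¹ * a⁻¹
  have hcZ : ∀ b a w : ↥W, w * c b a = c b a * w := by
    intro b a w
    have hm : (c b a : G) ∈ ⁅W, W⁆ := by
      have := commutator_mem_commutator b.2 a.2
      simpa [c, commutatorElement_def] using this
    exact Subtype.ext (mem_centralizer_iff.mp (hZ ⟨(c b a).2, hWW hm⟩) w w.2)
  have hc1 : ∀ b a z : ↥W, c b (a * z) = c b a * c b z := by
    intro b a z
    show b * (a * z) * b⁻¹ * (a * z)⁻¹ = b * a * b⁻¹ * a⁻¹ * (c b z)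
    have e : b * (a * z) * b⁻¹ * (a * z)⁻¹ = b * a * b⁻¹ * ((c b z) * a⁻¹) := by
      simp only [c]; group
    rw [e, ← hcZ b z a⁻¹]; group
  have hc2 : ∀ b d a : ↥W, c (b * d) a = c b a * c d a := by
    intro b d a
    show b * d * a * (b * d)⁻¹ * a⁻¹ = _
    have e : b * d * a * (b * d)⁻¹ * a⁻¹ = (b * c d a) * (a * b⁻¹ * a⁻¹) := by
      simp only [c]; group
    rw [e, hcZ]
    calc c d a * b * (a * b⁻¹ * a⁻¹) = c d a * c b a := by simp only [c]; group
      _ = c b a * c d a := hcZ b a (c d a)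
  have hcone : ∀ b : ↥W, c b b = 1 := fun b => by simp only [c]; group
  have hcinv : ∀ b a : ↥W, c b a = (c a b)⁻¹ := fun b a => by simp only [c]; group
  have hcc : ∀ b a d e : ↥W, Commute (c b a) (c d e) := fun b a d e => (hcZ d e (c b a))
  have hcp : ∀ b a : ↥W, c b a ^ p = 1 := fun b a => Subtype.ext (hexp _ (c b a).2)
  have hcone' : ∀ b a : ↥W, b * a = a * b → c b a = 1 := fun b a h =>
    eq_one_commutator_of_commute h
  let op : ↥W → ↥W → ↥W := fun a b => a * b * c b a ^ k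
  have hpowc : ∀ (n : ℕ) (b a w : ↥W), w * c b a ^ n = c b a ^ n * w := fun n b a w =>
    (Commute.pow_right (hcZ b a w) n)
  have hcpow0 : ∀ (n : ℕ) (b a d e : ↥W), c (c b a ^ n) (d * e) = 1 := fun n b a d e =>
    hcone' _ _ (hpowc n b a _).symm
  have hop_assoc : ∀ a b d, op (op a b) d = op a (op b d) := by
    intro a b d
    have e1 : c d (a * b * c b a ^ k) = c d a * c d b := by
      rw [hc1, hcone' d (c b a ^ k) (hpowc k b a d), mul_one, hc1]
    have e2 : c (b * d * c d b ^ k) a = c b a * c d a := by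
      rw [hc2, hcone' (c d b ^ k) a (hpowc k d b a).symm, mul_one, hc2]
    show a * b * c b a ^ k * d * c d (a * b * c b a ^ k) ^ k =
      a * (b * d * c d b ^ k) * c (b * d * c d b ^ k) a ^ k
    rw [e1, e2, (hcc d a d b).mul_pow, (hcc b a d a).mul_pow,
      mul_assoc (a * b) (c b a ^ k) d, ← hpowc k b a d]
    calc a * b * (d * c b a ^ k) * (c d a ^ k * c d b ^ k)
        = a * (b * d) * ((c b a ^ k * c d a ^ k) * c d b ^ k) := by group
      _ = a * (b * d) * (c d b ^ k * (c b a ^ k * c d a ^ k)) := by rw [hpowc k d b]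
      _ = _ := by group
  have hop_comm : ∀ a b, op a b = op b a := by
    intro a b
    show a * b * c b a ^ k = b * a * c a b ^ k
    have e : a * b = c a b * (b * a) := by simp only [c]; group
    have e2 : c a b * c b a ^ k = c a b ^ k := by
      rw [hcinv b a, inv_pow, mul_inv_eq_iff_eq_mul, ← pow_add, ← two_mul, hk, pow_succ, hcp,
        one_mul]
    rw [e, ← hcZ a b, mul_assoc, e2]
  letI : Zero ↥W := ⟨1⟩
  letI : Add ↥W := ⟨op⟩
  letI : Neg ↥W := ⟨fun a => a⁻¹⟩
  letI : AddCommGroup ↥W :=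
    { add := op, add_assoc := hop_assoc, zero := 1
      zero_add := fun a => by show op 1 a = a; simp [op, c]
      add_zero := fun a => by show op a 1 = a; simp [op, c]
      neg := fun a => a⁻¹
      neg_add_cancel := fun a => by show op a⁻¹ a = 1; simp [op, c]
      add_comm := hop_comm
      nsmul := nsmulRec, zsmul := zsmulRec }
  have hnsmul : ∀ (n : ℕ) (a : ↥W), n • a = a ^ n := by
    intro n a
    induction n with
    | zero => rw [zero_nsmul, pow_zero]; rfl
    | succ n ih =>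
      rw [succ_nsmul, ih]
      show a ^ n * a * c a (a ^ n) ^ k = _
      rw [hcone' a (a ^ n) (Commute.self_pow a n), one_pow, mul_one, pow_succ]
  -- the action of the normalizer
  let f : ↥(normalizer (W : Set G)) → ↥W → ↥W := fun g w =>
    ⟨(g : G) * w * (g : G)⁻¹, (Subgroup.mem_normalizer_iff.mp g.2 w).mp w.2⟩
  have hfadd : ∀ g a b, f g (a + b) = f g a + f g b := by
    intro g a b
    let φ : ↥W →* ↥W := MonoidHom.mk' (f g) fun u v => Subtype.ext (by simp [f, mul_assoc])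
    show φ (op a b) = op (φ a) (φ b)
    simp only [op, c, map_mul, map_pow, map_inv]
  let F : ↥(normalizer (W : Set G)) → (↥W →+ ↥W) := fun g => AddMonoidHom.mk' (f g) (hfadd g)
  let x₀ : ↥W := ⟨x, hx⟩
  let q' : ↥Q → ↥(normalizer (W : Set G)) := fun q => ⟨q, hQW q.2⟩
  let T : ↥W → ↥W := fun w => ∑ q : ↥Q, f (q' q) w
  let y : ↥W := Fintype.card ↥Q • x₀ + -T x₀
  have hTQ : ∀ r : ↥Q, f (q' r) (T x₀) = T x₀ := by
    intro r
    show F (q' r) (∑ q : ↥Q, f (q' q) x₀) = _
    rw [map_sum]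
    exact Fintype.sum_equiv (Equiv.mulLeft r) _ _ fun q => Subtype.ext (by
      simp [F, f, q', mul_assoc])
  refine ⟨(y : G), y.2, fun hyQ => hxQ ?_, fun a ha => ?_⟩
  · have hyfix : ∀ r : ↥Q, f (q' r) y = y := fun r => Subtype.ext (by
      show (r : G) * (y : G) * (r : G)⁻¹ = y
      rw [mem_centralizer_iff.mp hyQ r r.2, mul_inv_cancel_right])
    have hxn : ∀ r : ↥Q, f (q' r) (Fintype.card ↥Q • x₀) = Fintype.card ↥Q • x₀ := by
      intro r
      have e : Fintype.card ↥Q • x₀ = y + T x₀ := by simp [y]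
      rw [e, hfadd, hyfix, hTQ]
    have hmem : x ^ Fintype.card ↥Q ∈ centralizer (Q : Set G) := by
      refine mem_centralizer_iff.mpr fun r hr => ?_
      have := congrArg Subtype.val (hxn ⟨r, hr⟩)
      rw [hnsmul] at this
      exact mul_inv_eq_iff_eq_mul.mp this
    refine mem_of_pow_mem_of_coprime ?_ hmem
    rw [← Nat.card_eq_fintype_card]
    exact (hQ.symm).coprime_dvd_left (orderOf_dvd_of_pow_eq_one (hexp x hx))
  · let a' : ↥(normalizer (W : Set G)) := ⟨a, hAW ha⟩
    have hz : (x⁻¹ * (a * x * a⁻¹)) ∈ W ⊓ centralizer (Q : Set G) :=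
      ⟨Subgroup.mul_mem _ (Subgroup.inv_mem _ hx) ((Subgroup.mem_normalizer_iff.mp (hAW ha) x).mp hx), hxA a ha⟩
    let z : ↥W := ⟨x⁻¹ * (a * x * a⁻¹), hz.1⟩
    have hz1 : f a' x₀ = x₀ + z := by
      show f a' x₀ = x₀ * z * c z x₀ ^ k
      rw [hcone' z x₀ (Subtype.ext (mem_centralizer_iff.mp (hZ hz) x hx).symm), one_pow, mul_one]
      exact Subtype.ext (mul_inv_cancel_left x (a * x * a⁻¹)).symm
    have hzfix : ∀ r : ↥Q, f (q' r) z = z := fun r => Subtype.ext (by
      show (r : G) * (x⁻¹ * (a * x * a⁻¹)) * (r : G)⁻¹ = x⁻¹ * (a * x * a⁻¹)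
      rw [mem_centralizer_iff.mp hz.2 r r.2, mul_inv_cancel_right])
    let e : ↥Q ≃ ↥Q :=
      { toFun := fun r => ⟨a * r * a⁻¹, (Subgroup.mem_normalizer_iff.mp (hAQ ha) r).mp r.2⟩
        invFun := fun r => ⟨a⁻¹ * r * a,
          (Subgroup.mem_normalizer_iff.mp (hAQ ha) _).mpr (by simp [mul_assoc])⟩
        left_inv := fun r => Subtype.ext (by simp [mul_assoc])
        right_inv := fun r => Subtype.ext (by simp [mul_assoc]) }
    have hTa : f a' (T x₀) = T (f a' x₀) := by
      show F a' (∑ q : ↥Q, f (q' q) x₀) = _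
      rw [map_sum]
      exact Fintype.sum_equiv e _ _ fun q => Subtype.ext (by
        simp [F, f, q', e, a', mul_assoc])
    have hTz : T (f a' x₀) = T x₀ + Fintype.card ↥Q • z := by
      simp only [T, hz1, hfadd, hzfix, Finset.sum_add_distrib, Finset.sum_const, Finset.card_univ]
    have hy : f a' y = y := by
      show F a' (Fintype.card ↥Q • x₀ + -T x₀) = _
      rw [map_add, map_nsmul, map_neg]
      show Fintype.card ↥Q • f a' x₀ + -f a' (T x₀) = _
      rw [hTa, hTz, hz1, nsmul_add]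
      show _ = Fintype.card ↥Q • x₀ + -T x₀
      abel
    exact mul_inv_eq_iff_eq_mul.mp (congrArg Subtype.val hy)

theorem normalizer_inf_le' (X Y : Subgroup G) :
    normalizer (X : Set G) ⊓ normalizer (Y : Set G) ≤ normalizer ((X ⊓ Y : Subgroup G) : Set G) := by
  intro g hg
  obtain ⟨h1, h2⟩ := hg
  rw [Subgroup.mem_normalizer_iff]
  exact fun n => and_congr (Subgroup.mem_normalizer_iff.mp h1 n) (Subgroup.mem_normalizer_iff.mp h2 n)

/-- Coprime action on a `p`-group, `p` odd, trivial on the `A`-fixed elements of order `p`. -/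
theorem le_centralizer_of_omega [Finite G] {p : ℕ} [Fact p.Prime] (hp : p ≠ 2)
    {R Q A : Subgroup G} (hR : IsPGroup p ↥R) (hQ : (Nat.card ↥Q).Coprime p)
    (hA : IsPGroup p ↥A) (hAQ : A ≤ normalizer (Q : Set G))
    (hQR : Q ≤ normalizer (R : Set G)) (hAR : A ≤ normalizer (R : Set G))
    (hfix : ∀ r ∈ R, r ∈ centralizer (A : Set G) → r ^ p = 1 → r ∈ centralizer (Q : Set G)) :
    Q ≤ centralizer (R : Set G) := by
  by_contra hnc
  obtain ⟨W, ⟨hWR, hQW, hAW, hWnc⟩, hmin⟩ := (Set.toFinite {W : Subgroup G | W ≤ R ∧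
    Q ≤ normalizer (W : Set G) ∧ A ≤ normalizer (W : Set G) ∧
    ¬ Q ≤ centralizer (W : Set G)}).exists_minimalFor id _ ⟨R, le_rfl, hQR, hAR, hnc⟩
  have hlt : ∀ U : Subgroup G, U < W → Q ≤ normalizer (U : Set G) → A ≤ normalizer (U : Set G) →
      U ≤ centralizer (Q : Set G) := by
    intro U hU h1 h2
    rw [le_centralizer_iff]
    by_contra h3
    exact hU.not_ge (hmin ⟨hU.le.trans hWR, h1, h2, h3⟩ hU.le)
  have hWp : IsPGroup p ↥W := hR.to_le hWR
  have hW0 : W ≠ ⊥ := fun h => hWnc (by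
    subst h; intro q _; rw [mem_centralizer_iff]; intro w hw
    rw [Subgroup.coe_bot, Set.mem_singleton_iff] at hw; simp [hw])
  have hcopW : ∀ U : Subgroup G, U ≤ W → (Nat.card ↥Q).Coprime (Nat.card ↥U) := by
    intro U hU
    obtain ⟨n, hn⟩ := IsPGroup.iff_card.mp (hWp.to_le hU)
    rw [hn]; exact hQ.pow_right n
  -- the derived subgroup is central
  have hD : ⁅W, W⁆ < W :=
    Cfsg.Agent.Lib.Coprime.commutator_lt_of_isPGroup hWp hWp Subgroup.le_normalizer hW0
  have hDn : ∀ S : Subgroup G, S ≤ normalizer (W : Set G) → S ≤ normalizer ((⁅W, W⁆ : Subgroup G) : Set G) := by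
    intro S hS s hs
    exact Cfsg.Agent.Lib.Coprime.mem_normalizer_of_conj_smul_eq (by
      rw [Cfsg.Agent.Lib.Coprime.conj_smul_commutator,
        Cfsg.Agent.Lib.Coprime.conj_smul_eq_of_mem_normalizer (hS hs)])
  have hWW : ⁅W, W⁆ ≤ centralizer (Q : Set G) := hlt _ hD (hDn Q hQW) (hDn A hAW)
  have hWQ : ⁅W, Q⁆ = W := by
    refine le_antisymm (Cfsg.Agent.Lib.Coprime.commutator_le_of_le_normalizer hQW) ?_
    by_contra hle
    have hlt' : ⁅W, Q⁆ < W := lt_of_le_of_ne (Cfsg.Agent.Lib.Coprime.commutator_le_of_le_normalizer hQW)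
      fun h => hle h.ge
    have hAn : A ≤ normalizer ((⁅W, Q⁆ : Subgroup G) : Set G) := fun a ha =>
      Cfsg.Agent.Lib.Coprime.mem_normalizer_of_conj_smul_eq (by
        rw [Cfsg.Agent.Lib.Coprime.conj_smul_commutator,
          Cfsg.Agent.Lib.Coprime.conj_smul_eq_of_mem_normalizer (hAW ha),
          Cfsg.Agent.Lib.Coprime.conj_smul_eq_of_mem_normalizer (hAQ ha)])
    exact hWnc (Cfsg.Agent.Lib.OddLocal.le_centralizer_of_coprime_stab le_rfl
      (le_centralizer_iff.mp (hlt _ hlt' (Subgroup.normalizer_commutator_ge_right _ _) hAn))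
      (hcopW _ hlt'.le))
  have hZ : W ⊓ centralizer (Q : Set G) ≤ centralizer (W : Set G) := by
    have h1 : ⁅⁅Q, W ⊓ centralizer (Q : Set G)⁆, W⁆ = ⊥ := by
      rw [commutator_eq_bot_iff_le_centralizer.mpr (le_centralizer_iff.mp inf_le_right),
        commutator_bot_left]
    have h2 : ⁅⁅W ⊓ centralizer (Q : Set G), W⁆, Q⁆ = ⊥ := by
      rw [commutator_eq_bot_iff_le_centralizer]
      exact (commutator_mono inf_le_left le_rfl).trans hWW
    have h3 := commutator_commutator_eq_bot_of_rotate h1 h2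
    rw [hWQ] at h3
    exact le_centralizer_iff.mp (commutator_eq_bot_iff_le_centralizer.mp h3)
  -- exponent `p`
  have hmul : ∀ a ∈ W, ∀ b ∈ W, a ^ p = 1 → b ^ p = 1 → (a * b) ^ p = 1 := by
    intro a ha b hb hap hbp
    have hcm : b * a * b⁻¹ * a⁻¹ ∈ centralizer (W : Set G) := by
      have := commutator_mem_commutator (H₁ := W) (H₂ := W) hb ha
      exact hZ ⟨commutator_le.mpr (fun u hu v hv => by
        rw [commutatorElement_def]; exact mul_mem (mul_mem (mul_mem hu hv) (inv_mem hu)) (inv_mem hv))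
        this, hWW this⟩
    have hca : Commute a (b * a * b⁻¹ * a⁻¹) := mem_centralizer_iff.mp hcm a ha
    have hcb : Commute b (b * a * b⁻¹ * a⁻¹) := mem_centralizer_iff.mp hcm b hb
    have hc : (b * a * b⁻¹ * a⁻¹) ^ p = 1 := by
      have := Cfsg.Agent.Lib.OddLocal.conj_pow_eq (a := b) (h := a) (z := b * a * b⁻¹ * a⁻¹)
        (by group) (by rw [hcb.eq, mul_inv_cancel_right]) p
      rw [hbp, one_mul, inv_one, mul_one] at this
      exact mul_eq_right.mp this.symm
    rw [Cfsg.Agent.Lib.OddLocal.mul_pow_of_central_commutator hca hcb (by group) p, hap, hbp]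
    obtain ⟨j, hj⟩ := Nat.Prime.dvd_choose_self (Fact.out : p.Prime) two_ne_zero
      (lt_of_le_of_ne (Fact.out : p.Prime).two_le fun h => hp h.symm)
    rw [hj, pow_mul, hc, one_pow, one_mul, one_mul]
  have hexp : ∀ w ∈ W, w ^ p = 1 := by
    let S : Subgroup G :=
      { carrier := {w | w ∈ W ∧ w ^ p = 1}
        mul_mem' := fun ha hb => ⟨mul_mem ha.1 hb.1, hmul _ ha.1 _ hb.1 ha.2 hb.2⟩
        one_mem' := ⟨one_mem _, one_pow _⟩
        inv_mem' := fun ha => ⟨inv_mem ha.1, by rw [inv_pow, ha.2, inv_one]⟩ }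
    have hSn : ∀ U : Subgroup G, U ≤ normalizer (W : Set G) → U ≤ normalizer (S : Set G) := by
      intro U hU u hu
      rw [Subgroup.mem_normalizer_iff]
      intro n
      refine and_congr (Subgroup.mem_normalizer_iff.mp (hU hu) n) ?_
      rw [conj_pow, conj_eq_one_iff]
    by_cases hS : S = W
    · intro w hw; exact ((hS.symm ▸ hw : w ∈ S)).2
    have h1 : S ≤ centralizer (Q : Set G) :=
      hlt S (lt_of_le_of_ne (fun w hw => hw.1) hS) (hSn Q hQW) (hSn A hAW)
    refine absurd (Cfsg.Agent.Lib.OddLocal.le_centralizer_of_fixes_pow_eq_one hp hQ W hWp hQW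
      fun w hw hwp q hq => ?_) hWnc
    exact mem_centralizer_singleton_iff.mpr (mem_centralizer_iff.mp (h1 ⟨hw, hwp⟩) q hq)
  -- an `A`-fixed coset
  obtain ⟨K, ⟨hKW, hAK, hKnc⟩, hKmin⟩ := (Set.toFinite {K : Subgroup G | K ≤ W ∧
    A ≤ normalizer (K : Set G) ∧ ¬ K ≤ centralizer (Q : Set G)}).exists_minimalFor id _
    ⟨W, le_rfl, hAW, fun h => hWnc (le_centralizer_iff.mp h)⟩
  have hKlt : ⁅K, A⁆ < K := Cfsg.Agent.Lib.Coprime.commutator_lt_of_isPGroup (hWp.to_le hKW) hA hAK
    fun h => hKnc (h ▸ bot_le)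
  have hKA : ⁅K, A⁆ ≤ centralizer (Q : Set G) := by
    by_contra h
    exact hKlt.not_ge (hKmin ⟨hKlt.le.trans hKW, Subgroup.normalizer_commutator_ge_right _ _, h⟩
      hKlt.le)
  obtain ⟨x, hxK, hxQ⟩ := SetLike.not_le_iff_exists.mp hKnc
  obtain ⟨y, hyW, hyQ, hyA⟩ := exists_fixed_not_centralized hp hexp hQW hAW hAQ hQ hWW hZ
    (hKW hxK) hxQ fun a ha => by
      have := hKA (commutator_mem_commutator (inv_mem hxK) ha)
      simpa [commutatorElement_def, mul_assoc] using this
  exact hyQ (hfix y (hWR hyW) (mem_centralizer_iff.mpr fun a ha => hyA a ha) (hexp y hyW))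

end

/-- Let X be a finite p-constrained group, p an odd prime, and A an abelian p-subgroup of X containing every element of order p of C_X(A). Then every subgroup of X of order prime to p that is normalized by A lies in O_{p'}(X). -/
theorem result {X : Type*} [Group X] [Finite X] (p : ℕ) [Fact p.Prime] (hp : p ≠ 2) (hX : Cfsg.IsPConstrained p X) (A : Subgroup X) (hA : IsMulCommutative ↥A) (hAp : IsPGroup p ↥A) (hΩ : ∀ x ∈ Subgroup.centralizer (A : Set X), orderOf x = p → x ∈ A) (Q : Subgroup X) (hQ : ¬ p ∣ Nat.card ↥Q) (hAQ : A ≤ Subgroup.normalizer (Q : Set X)) : Q ≤ Cfsg.pPrimeCore p X := by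
  haveI hpp := (Fact.out : p.Prime)
  set W := Cfsg.pPrimeCore p X with hW
  haveI : W.Normal := by rw [hW]; infer_instance
  set π := QuotientGroup.mk' W with hπ
  set R := Cfsg.pCore p (X ⧸ W) with hR
  have hcQ : (Nat.card ↥(Q.map π)).Coprime p :=
    (Nat.Coprime.symm (hpp.coprime_iff_not_dvd.mpr hQ)).coprime_dvd_left (Subgroup.card_map_dvd _ _)
  have hAQ' : A.map π ≤ normalizer ((Q.map π : Subgroup (X ⧸ W)) : Set (X ⧸ W)) := by
    rintro _ ⟨a, ha, rfl⟩
    exact Subgroup.le_normalizer_map π ⟨a, hAQ ha, rfl⟩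
  have hkey : ∀ x ∈ centralizer ((A.map π : Subgroup (X ⧸ W)) : Set (X ⧸ W)), x ^ p = 1 →
      x ∈ A.map π := by
    intro x hx hxp
    obtain ⟨y, rfl⟩ := QuotientGroup.mk'_surjective W x
    have hWA : (Nat.card ↥A).Coprime (Nat.card ↥W) := by
      obtain ⟨n, hn⟩ := IsPGroup.iff_card.mp hAp
      rw [hn]; exact (pPrimeCore_coprime (G := X) p).symm.pow_left n
    obtain ⟨n, hn, hc⟩ := Cfsg.Agent.Lib.Coprime.exists_mem_centralizer_of_fixed_coset (k := y)
      le_normalizer_of_normal hWA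
      (Or.inl (Cfsg.Agent.Lib.Coprime.isSolvable_of_isMulCommutative A))
      (le_normalizer_of_normal (Subgroup.mem_top y)) (fun a ha => by
        rw [← QuotientGroup.eq_one_iff]
        show π (a * y * a⁻¹ * y⁻¹) = 1
        simp only [map_mul, map_inv]
        have hc := mem_centralizer_iff.mp hx (π a) ⟨a, ha, rfl⟩
        change π a * π y = π y * π a at hc
        rw [hc]; group)
    have hπy : π (y * n) = π y := by
      rw [map_mul, show π n = 1 from (QuotientGroup.eq_one_iff n).mpr hn, mul_one]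
    rw [← hπy] at hxp ⊢
    have hp1 : ((y * n) ^ Nat.card ↥W) ^ p = 1 := by
      rw [← pow_mul, mul_comm, pow_mul]
      have : (y * n) ^ p ∈ W := by rw [← QuotientGroup.eq_one_iff]; exact hxp
      exact congrArg Subtype.val (pow_card_eq_one' (G := W) (x := ⟨_, this⟩))
    have hmem : (y * n) ^ Nat.card ↥W ∈ A := by
      by_cases h1 : (y * n) ^ Nat.card ↥W = 1
      · rw [h1]; exact one_mem _
      · exact hΩ _ (Subgroup.pow_mem _ hc _) (orderOf_eq_prime hp1 h1)
    refine mem_of_pow_mem_of_coprime (m := Nat.card ↥W) ?_ ?_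
    · exact (pPrimeCore_coprime (G := X) p).symm.coprime_dvd_left (orderOf_dvd_of_pow_eq_one hxp)
    · rw [← map_pow]; exact ⟨_, hmem, rfl⟩
  have hfin : Q.map π ≤ centralizer (R : Set (X ⧸ W)) := by
    refine le_centralizer_of_omega hp (pCore_isPGroup p) hcQ (hAp.map π) hAQ'
      le_normalizer_of_normal le_normalizer_of_normal (fun r hr hrA hrp => ?_)
    -- an element of order `p` of `R ∩ C(A)` lies in `A`, so it centralizes `Q`
    refine mem_centralizer_iff.mpr fun q hq => ?_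
    have hrA' := hkey r hrA hrp
    have h1 : q * r * q⁻¹ * r⁻¹ ∈ R ⊓ Q.map π := by
      refine ⟨Subgroup.mul_mem _ ((inferInstance : R.Normal).conj_mem r hr q) (Subgroup.inv_mem _ hr), ?_⟩
      rw [mul_assoc, mul_assoc q, ← mul_assoc r]
      exact mul_mem hq ((Subgroup.mem_normalizer_iff.mp (hAQ' hrA') _).mp (inv_mem hq))
    rw [eq_bot_of_isPGroup_of_coprime ((pCore_isPGroup p).to_le inf_le_left)
      (hcQ.coprime_dvd_left (card_dvd_of_le inf_le_right)), mem_bot] at h1
    exact mul_inv_eq_iff_eq_mul.mp (mul_inv_eq_one.mp h1)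
  have hcR : centralizer (R : Set (X ⧸ W)) ≤ R := by
    obtain ⟨P⟩ : Nonempty (Sylow p ↥(Cfsg.pPrimePCore p X)) := inferInstance
    rw [← Subgroup.comap_le_comap_of_surjective (QuotientGroup.mk'_surjective W)]
    exact (comap_centralizer_pCore_quotient p P).le.trans
      (sup_le (hX P) (pPrimeCore_le_pPrimePCore p))
  have hbot : Q.map π = ⊥ :=
    eq_bot_of_isPGroup_of_coprime ((pCore_isPGroup p).to_le (hfin.trans hcR)) hcQ
  rw [Subgroup.map_eq_bot_iff, hπ, QuotientGroup.ker_mk'] at hbot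
  exact hbot

end Cfsg.Agent.S1302
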