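import Cfsg.Statements.S1303
import Cfsg.Agent.Lib.Components.Constrained
import Cfsg.Agent.Lib.Components.Local
import Mathlib.Data.ZMod.Basic

set_option autoImplicit false
open Cfsg

namespace Cfsg.Agent.S1303

open Subgroup Cfsg.Agent.Lib.Components

abbrev SL23 := Matrix.SpecialLinearGroup (Fin 2) (ZMod 3)

/-- The quaternion subgroup. -/
def quat : Subgroup SL23 where
  carrier := {g | g * g * g * g = 1}
  one_mem' := by simp
  mul_mem' := by
    have h : ∀ x y : SL23, x * x * x * x = 1 → y * y * y * y = 1 →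
        x * y * (x * y) * (x * y) * (x * y) = 1 := by decide +kernel
    exact fun {x y} hx hy => h x y hx hy
  inv_mem' := by
    have h : ∀ x : SL23, x * x * x * x = 1 → x⁻¹ * x⁻¹ * x⁻¹ * x⁻¹ = 1 := by decide +kernel
    exact fun {x} hx => h x hx

theorem quat_normal : quat.Normal :=
  ⟨by
    have h : ∀ g x : SL23, x * x * x * x = 1 →
        g * x * g⁻¹ * (g * x * g⁻¹) * (g * x * g⁻¹) * (g * x * g⁻¹) = 1 := by decide +kernel
    exact fun x hx g => h g x hx⟩

theorem quat_isPGroup : IsPGroup 2 ↥quat := fun x => ⟨2, Subtype.ext (by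
  rw [Subgroup.coe_pow, OneMemClass.coe_one]
  have := x.2
  change (x : SL23) * x * x * x = 1 at this
  rw [show (2 : ℕ) ^ 2 = 4 from rfl, pow_succ, pow_succ, pow_two]
  exact this)⟩

theorem pPrimeCore_eq_bot : pPrimeCore 2 SL23 = ⊥ := by
  rw [eq_bot_iff]
  intro x hx
  rw [Subgroup.mem_bot]
  have h1 : ∀ y ∈ quat, y * x = x * y := fun y hy =>
    mem_centralizer_iff.mp (pPrimeCore_le_centralizer_pCore hx) y
      (le_pCore quat_normal quat_isPGroup hy)
  have h : ∀ x : SL23, (∀ y : SL23, y * y * y * y = 1 → y * x = x * y) → x * x = 1 := by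
    decide +kernel
  have h2 := h x fun y hy => h1 y hy
  have hd : orderOf x ∣ 2 := orderOf_dvd_of_pow_eq_one (by rw [pow_two]; exact h2)
  have hc : (orderOf x).Coprime 2 :=
    Nat.Coprime.coprime_dvd_left (Subgroup.orderOf_dvd_natCard _ hx) (pPrimeCore_coprime 2)
  exact orderOf_eq_one_iff.mp (Nat.dvd_one.mp (hc.gcd_eq_one ▸ Nat.dvd_gcd dvd_rfl hd))

theorem isSolvable_SL23 : Group.IsSolvable SL23 := by
  have := quat_normal
  have h2 : Group.IsSolvable ↥quat := by
    have : Fact (Nat.Prime 2) := ⟨Nat.prime_two⟩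
    have := quat_isPGroup.isNilpotent
    exact IsNilpotent.to_isSolvable
  have hcomm : commutator SL23 ≤ quat := by
    rw [_root_.commutator_def, Subgroup.commutator_le]
    have h : ∀ a b : SL23, (a * b * a⁻¹ * b⁻¹) * (a * b * a⁻¹ * b⁻¹) * (a * b * a⁻¹ * b⁻¹) *
        (a * b * a⁻¹ * b⁻¹) = 1 := by decide +kernel
    exact fun a _ b _ => h a b
  have h3 : Group.IsSolvable ↥(commutator SL23) :=
    Group.isSolvable_of_isSolvable_injective (Subgroup.inclusion_injective hcomm)
  obtain ⟨n, hn⟩ := h3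
  refine ⟨⟨n + 1, ?_⟩⟩
  have key : ∀ k, derivedSeries SL23 (k + 1) =
      (derivedSeries ↥(commutator SL23) k).map (commutator SL23).subtype := by
    intro k
    induction k with
    | zero => rw [derivedSeries_zero, ← MonoidHom.range_eq_map, range_subtype]; rfl
    | succ k ih => rw [derivedSeries_succ, ih, derivedSeries_succ, Subgroup.map_commutator]
  rw [key, hn, Subgroup.map_bot]

theorem sl23 : IsPConstrained 2 SL23 ∧ pPrimeCore 2 SL23 = ⊥ ∧
    (∀ t : SL23, orderOf t = 2 → t ∈ Subgroup.center SL23) ∧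
    ∃ Q : Subgroup SL23, Nat.card ↥Q = 3 ∧ ¬ (Q ≤ pPrimeCore 2 SL23) := by
  have : Fact (Nat.Prime 2) := ⟨Nat.prime_two⟩
  refine ⟨isPConstrained_of_solvable isSolvable_SL23, pPrimeCore_eq_bot, fun t ht => ?_, ?_⟩
  · rw [Subgroup.mem_center_iff]
    intro g
    have h : ∀ t g : SL23, t * t = 1 → g * t = t * g := by decide +kernel
    exact h t g (by
      have := pow_orderOf_eq_one t
      rw [ht, pow_two] at this
      exact this)
  · have hz : ∃ z : SL23, z * z * z = 1 ∧ z ≠ 1 := by decide +kernel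
    obtain ⟨z, hz3, hz1⟩ := hz
    have h3 : orderOf z = 3 := by
      have : Fact (Nat.Prime 3) := ⟨Nat.prime_three⟩
      exact orderOf_eq_prime (by rw [pow_succ, pow_two]; exact hz3) hz1
    refine ⟨zpowers z, by rw [Nat.card_zpowers, h3], fun hle => hz1 ?_⟩
    rw [pPrimeCore_eq_bot] at hle
    exact Subgroup.mem_bot.mp (hle (mem_zpowers z))


/-- The group X = SL(2, 3): it is 2-constrained, O_{2'}(X) = 1, its centre A = Z(X) contains every involution of X = C_X(A), and X has a subgroup of order 3 (normalized by A) not contained in O_{2'}(X). -/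
theorem result : Cfsg.IsPConstrained 2 (Matrix.SpecialLinearGroup (Fin 2) (ZMod 3)) ∧ Cfsg.pPrimeCore 2 (Matrix.SpecialLinearGroup (Fin 2) (ZMod 3)) = ⊥ ∧ (∀ t : Matrix.SpecialLinearGroup (Fin 2) (ZMod 3), orderOf t = 2 → t ∈ Subgroup.center (Matrix.SpecialLinearGroup (Fin 2) (ZMod 3))) ∧ ∃ Q : Subgroup (Matrix.SpecialLinearGroup (Fin 2) (ZMod 3)), Nat.card ↥Q = 3 ∧ ¬ (Q ≤ Cfsg.pPrimeCore 2 (Matrix.SpecialLinearGroup (Fin 2) (ZMod 3))) := by
  exact sl23

end Cfsg.Agent.S1303
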