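import Cfsg.Statements.S1305
import Cfsg.Agent.Lib.LBalance.Trichotomy

set_option autoImplicit false
set_option linter.style.haveILetI false
open Cfsg

namespace Cfsg.Agent.S1305

open Cfsg.Agent.Lib.Components Cfsg.Agent.Lib.LBalance in
/-- A component of `C(a)` centralized by `b` lies in the layer of `C(b)`. -/
theorem le_layer_centralizer {G : Type*} [Group G] [Finite G] (hO : Cfsg.oddCore G = ⊥)
    (hB : Cfsg.HasBProperty G) {a b : G} (ha : orderOf a = 2) (hb : orderOf b = 2) {K : Subgroup G}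
    {Y : Subgroup G} (hY : Y = Subgroup.centralizer ({b} : Set G)) (hKb : K ≤ Y)
    (T : ↥Y) (hT : (T : G) = a)
    (hL : Cfsg.IsComponent ((K.subgroupOf Y).subgroupOf
      (Subgroup.centralizer ({T} : Set ↥Y))))
    (hLT : K.subgroupOf Y ≤
      Subgroup.centralizer ({T} : Set ↥Y))
    (h2K : 2 ∣ Nat.card ↥K) :
    K.subgroupOf Y ≤
      Cfsg.layer ↥Y := by
  haveI : Fact (Nat.Prime 2) := ⟨Nat.prime_two⟩
  have hT2 : T ^ 2 ^ 1 = 1 := Subtype.ext (by
    rw [SubmonoidClass.coe_pow, hT, pow_one, ← ha, pow_orderOf_eq_one]; rfl)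
  have h2 := pLayer_centralizer_le (Subgroup.zpowers T) (isPGroup_zpowers hT2)
  rw [Subgroup.zpowers_eq_closure, Subgroup.centralizer_closure] at h2
  have hdvd : 2 ∣ Nat.card ↥((K.subgroupOf Y).subgroupOf (Subgroup.centralizer ({T} : Set ↥Y))) := by
    rwa [Nat.card_congr (Subgroup.subgroupOfEquivOfLe hLT).toEquiv,
      Nat.card_congr (Subgroup.subgroupOfEquivOfLe hKb).toEquiv]
  have hLp : K.subgroupOf Y ≤ Cfsg.pLayer 2 ↥Y := by
    refine le_trans ?_ h2
    rw [← Subgroup.map_subgroupOf_eq_of_le hLT]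
    exact Subgroup.map_mono (IsPComponent.le_pLayer (IsComponent.isPComponent hL hdvd))
  -- the B-property
  have hbot : ⁅Cfsg.pLayer 2 ↥Y, Cfsg.oddCore ↥Y⁆ = ⊥ := by
    subst hY
    have h := hB b hb
    rw [hO, le_bot_iff] at h
    exact (Subgroup.map_eq_bot_iff_of_injective _ (Subgroup.subtype_injective _)).mp h
  refine hLp.trans ?_
  rw [pLayer_le_iff]
  intro M hM
  refine IsComponent.le_layer ⟨hM.1, (IsPComponent.quasisimple_iff hM).2 ?_⟩
  exact eq_bot_iff.mpr ((Subgroup.commutator_mono (IsPComponent.le_pLayer hM)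
    (map_pPrimeCore_subtype_le 2 hM.1)).trans hbot.le)

open Cfsg.Agent.Lib.LBalance in
/-- The cocentralizer cannot swap two components covering `K`. -/
theorem diagonal_contradiction {G : Type*} [Group G] [Finite G] {a b : G} {K B D : Subgroup G}
    (hBle : B ≤ Subgroup.centralizer ({a} : Set G) ⊓ Subgroup.centralizer (K : Set G))
    (hBel : Cfsg.IsElementaryAbelian 2 B) (hb : b ∈ B) (hDb : D ≤ Subgroup.centralizer ({b} : Set G))
    (ha : a * a = 1)
    (χ : ↥D →* G) (hχd : ∀ d : ↥D, χ d = (d : G) * (a * (d : G) * a⁻¹)) (hχ : χ.range = K)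
    (hinj : Function.Injective χ)
    (hcm : ∀ x ∈ D, ∀ y ∈ D, Commute x (a * y * a⁻¹))
    (hcases : ∀ u ∈ B, u ∈ Subgroup.normalizer (D : Set G) ∨
      a * u ∈ Subgroup.normalizer (D : Set G) ∨
      ∀ x ∈ D, ∀ y ∈ D, Commute (u * x * u⁻¹) y ∧ Commute (u * x * u⁻¹) (a * y * a⁻¹))
    (hDna : ¬ IsMulCommutative ↥D)
    {A : Subgroup ↥K} (hAc : IsMulCommutative A) (hA2 : ∀ x ∈ A, x ^ 2 = 1) (hAcard : 2 < Nat.card ↥A)
    (hrankD : ∀ k : ℕ,
      Cfsg.PRankLE 2 k ↥(Subgroup.centralizer ({a} : Set G) ⊓ Subgroup.centralizer (K : Set G)) →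
      Cfsg.PRankLE 2 k ↥(Subgroup.centralizer ({b} : Set G) ⊓ Subgroup.centralizer (D : Set G)))
    (hBmax : ∀ B' : Subgroup G,
      B' ≤ Subgroup.centralizer ({a} : Set G) ⊓ Subgroup.centralizer (K : Set G) →
      Cfsg.IsElementaryAbelian 2 B' → Nat.card ↥B' ≤ Nat.card ↥B) : False := by
  classical
  haveI : Fact (Nat.Prime 2) := ⟨Nat.prime_two⟩
  have hBa : ∀ u ∈ B, u * a = a * u := fun u hu =>
    Subgroup.mem_centralizer_singleton_iff.mp (hBle hu).1
  have hai : a⁻¹ = a := inv_eq_of_mul_eq_one_right ha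
  have hBK : ∀ u ∈ B, ∀ d : ↥D,
      (u * (d : G) * u⁻¹) * (a * (u * (d : G) * u⁻¹) * a⁻¹) = χ d := by
    intro u hu d
    have h1 : χ d * u = u * χ d :=
      Subgroup.mem_centralizer_iff.mp (hBle hu).2 _ (hχ ▸ ⟨d, rfl⟩)
    have h2 : u * χ d * u⁻¹ = χ d := mul_inv_eq_iff_eq_mul.mpr h1.symm
    calc (u * (d : G) * u⁻¹) * (a * (u * (d : G) * u⁻¹) * a⁻¹)
        = u * (d : G) * u⁻¹ * ((a * u) * (d : G) * (a * u)⁻¹) := by group
      _ = u * (d : G) * u⁻¹ * ((u * a) * (d : G) * (u * a)⁻¹) := by rw [hBa u hu]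
      _ = u * ((d : G) * (a * (d : G) * a⁻¹)) * u⁻¹ := by group
      _ = χ d := by rw [← hχd, h2]
  have hfix : ∀ u ∈ B, u ∈ Subgroup.normalizer (D : Set G) → ∀ d ∈ D, u * d = d * u := by
    intro u hu hn d hd
    have h1 : χ ⟨u * d * u⁻¹, (hn d).mp hd⟩ = χ ⟨d, hd⟩ := by
      rw [hχd]; exact hBK u hu ⟨d, hd⟩
    exact mul_inv_eq_iff_eq_mul.mp (congrArg Subtype.val (hinj h1))
  set B₀ := B ⊓ Subgroup.normalizer (D : Set G) with hB₀
  have hidx : ∀ u ∈ B, u ∈ B₀ ∨ a * u ∈ Subgroup.normalizer (D : Set G) := by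
    intro u hu
    rcases hcases u hu with h | h | h
    · exact Or.inl (Subgroup.mem_inf.mpr ⟨hu, h⟩)
    · exact Or.inr h
    · exfalso
      apply hDna
      have hMK : ∀ x ∈ D, ∀ d : ↥D, Commute (u * x * u⁻¹) (χ d) := fun x hx d => by
        rw [hχd]; exact (h x hx _ d.2).1.mul_right (h x hx _ d.2).2
      refine ⟨⟨fun x y => Subtype.ext ?_⟩⟩
      have hua : u⁻¹ * a = a * u⁻¹ := by
        rw [inv_mul_eq_iff_eq_mul, ← mul_assoc, hBa u hu, mul_inv_cancel_right]
      have h3 : Commute (u * (x : G) * u⁻¹) (a * (u * (y : G) * u⁻¹) * a⁻¹) := by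
        have := (hcm _ x.2 _ y.2).map (MulAut.conj u).toMonoidHom
        change Commute (u * (x : G) * u⁻¹) (u * (a * (y : G) * a⁻¹) * u⁻¹) at this
        have e : u * (a * (y : G) * a⁻¹) * u⁻¹ = a * (u * (y : G) * u⁻¹) * a⁻¹ := by
          calc u * (a * (y : G) * a⁻¹) * u⁻¹ = (u * a) * (y : G) * (u * a)⁻¹ := by group
            _ = (a * u) * (y : G) * (a * u)⁻¹ := by rw [hBa u hu]
            _ = _ := by group
        rwa [e] at this
      have h4 := (hMK _ x.2 y)
      rw [← hBK u hu y] at h4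
      have h5 : Commute (u * (x : G) * u⁻¹) (u * (y : G) * u⁻¹) := by
        have := h4.mul_right h3.inv_right
        rwa [mul_inv_cancel_right] at this
      have := h5.map (MulAut.conj u⁻¹).toMonoidHom
      simpa [mul_assoc] using this.eq
  -- the index of `B₀` is at most two
  have hBcard : Nat.card ↥B ≤ Nat.card ↥B₀ * 2 := by
    by_cases hBB : B ≤ B₀
    · exact le_trans (Subgroup.card_le_of_le hBB) (by omega)
    obtain ⟨u₀, hu₀, hu₀'⟩ := Set.not_subset.mp hBB
    have h2 := (hidx u₀ hu₀).resolve_left hu₀'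
    let f : ↥B → ↥B₀ × Bool := fun v =>
      if hv : (v : G) ∈ B₀ then (⟨v, hv⟩, false)
      else (⟨u₀⁻¹ * v, Subgroup.mem_inf.mpr ⟨B.mul_mem (B.inv_mem hu₀) v.2, by
        have h3 := (hidx v v.2).resolve_left hv
        have := (Subgroup.normalizer (D : Set G)).mul_mem
          ((Subgroup.normalizer (D : Set G)).inv_mem h2) h3
        rwa [show (a * u₀)⁻¹ * (a * (v : G)) = u₀⁻¹ * v by group] at this⟩⟩, true)
    have hf : Function.Injective f := by
      intro v w hvw
      simp only [f] at hvw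
      split_ifs at hvw with h3 h4 h4
      · exact Subtype.ext (congrArg (fun z => ((z.1 : ↥B₀) : G)) hvw)
      · simp at hvw
      · simp at hvw
      · have h5 := congrArg (fun z => ((z.1 : ↥B₀) : G)) hvw
        exact Subtype.ext (mul_left_cancel h5)
    refine (Nat.card_le_card_of_injective f hf).trans ?_
    simp [Nat.card_prod]
  -- the elementary subgroup of the other component
  set A₀ := A.map K.subtype with hA₀
  set ψ : ↥D →* G := (MulAut.conj a).toMonoidHom.comp D.subtype with hψ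
  set E := (A₀.comap χ).map ψ with hE
  have hψinj : Function.Injective ψ := (MulAut.conj a).injective.comp D.subtype_injective
  have hEcard : 2 < Nat.card ↥E := by
    rw [hE, Subgroup.card_map_of_injective hψinj, ← Subgroup.card_map_of_injective hinj,
      Subgroup.map_comap_eq, hχ, inf_eq_right.mpr (Subgroup.map_subtype_le A),
      Subgroup.card_map_of_injective K.subtype_injective]
    exact hAcard
  have hEcomm : ∀ x ∈ E, ∀ y ∈ E, x * y = y * x := by
    rintro _ ⟨x, ⟨p, hp, hpx⟩, rfl⟩ _ ⟨y, ⟨q, hq, hqy⟩, rfl⟩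
    rw [← map_mul, ← map_mul]
    congr 1
    apply hinj
    rw [map_mul, map_mul, ← hpx, ← hqy, ← map_mul, ← map_mul]
    exact congrArg _ (congrArg Subtype.val (hAc.is_comm.comm (⟨p, hp⟩ : ↥A) ⟨q, hq⟩))
  have hE2 : ∀ x ∈ E, x ^ 2 = 1 := by
    rintro _ ⟨x, ⟨p, hp, hpx⟩, rfl⟩
    rw [← map_pow, show x ^ 2 = 1 from hinj (by rw [map_pow, ← hpx, ← map_pow, hA2 p hp, map_one, map_one]),
      map_one]
  have hED : ∀ x ∈ E, ∃ d : ↥D, x = a * (d : G) * a⁻¹ := by
    rintro _ ⟨d, -, rfl⟩; exact ⟨d, rfl⟩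
  have hdec : ∀ u ∈ B₀, ∀ x ∈ E, Commute u x := by
    intro u hu x hx
    obtain ⟨d, rfl⟩ := hED x hx
    have h1 : Commute u (d : G) := hfix u hu.1 hu.2 d d.2
    exact ((show Commute u a from hBa u hu.1).mul_right h1).mul_right
      (show Commute u a from hBa u hu.1).inv_right
  have hdisj : ∀ x ∈ E, x ∈ B₀ → x = 1 := by
    intro x hx hxB
    obtain ⟨d, rfl⟩ := hED x hx
    have h1 : a * (a * (d : G) * a⁻¹) * a⁻¹ = a * (d : G) * a⁻¹ :=
      mul_inv_eq_iff_eq_mul.mpr (hBa _ hxB.1).symm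
    have h2 : a * (a * (d : G) * a⁻¹) * a⁻¹ = (d : G) := by
      rw [hai, show a * (a * (d : G) * a) * a = (a * a) * (d : G) * (a * a) by group, ha, one_mul, mul_one]
    have h3 : (d : G) = a * (d : G) * a⁻¹ := h2.symm.trans h1
    have h4 : d = 1 := hinj (by
      rw [hχd, map_one, ← h3, ← pow_two]
      have h5 := hE2 _ hx
      rwa [← h3] at h5)
    rw [h4]; simp
  let g : ↥B₀ × ↥E →* G :=
    { toFun := fun z => (z.1 : G) * (z.2 : G)
      map_one' := by simp
      map_mul' := fun z w => by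
        simp only [Prod.fst_mul, Prod.snd_mul, Subgroup.coe_mul]
        calc (z.1 : G) * w.1 * (z.2 * w.2) = z.1 * (w.1 * z.2) * w.2 := by simp only [mul_assoc]
          _ = z.1 * (z.2 * w.1) * w.2 := by rw [(hdec _ w.1.2 _ z.2.2).eq]
          _ = _ := by simp only [mul_assoc] }
  have hg : Function.Injective g := by
    rw [injective_iff_map_eq_one]
    rintro ⟨u, x⟩ hux
    have hux' : (u : G) * (x : G) = 1 := hux
    have h1 : (x : G) = 1 := hdisj _ x.2 (by
      rw [eq_inv_of_mul_eq_one_right hux']; exact B₀.inv_mem u.2)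
    rw [h1, mul_one] at hux'
    exact Prod.ext (Subtype.ext hux') (Subtype.ext h1)
  -- the rank bound
  have hB2 : IsPGroup 2 ↥B := fun u => ⟨1, Subtype.ext (hBel.2 u u.2)⟩
  obtain ⟨n, hn⟩ := IsPGroup.iff_card.mp hB2
  have hPB : Cfsg.PRankLE 2 n
      ↥(Subgroup.centralizer ({a} : Set G) ⊓ Subgroup.centralizer (K : Set G)) := by
    intro Q hQc hQ2
    rw [← hn]
    refine (Subgroup.card_map_of_injective (K := Q) (Subgroup.subtype_injective _)).symm.trans_le ?_
    refine hBmax _ (Subgroup.map_subtype_le Q) ⟨⟨⟨fun v w => Subtype.ext ?_⟩⟩, ?_⟩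
    · obtain ⟨p, hp, hpv⟩ := v.2
      obtain ⟨q, hq, hqw⟩ := w.2
      show (v : G) * (w : G) = (w : G) * (v : G)
      rw [← hpv, ← hqw, ← map_mul, ← map_mul]
      exact congrArg _ (congrArg Subtype.val (hQc.is_comm.comm (⟨p, hp⟩ : ↥Q) ⟨q, hq⟩))
    · rintro _ ⟨p, hp, rfl⟩
      rw [← map_pow, hQ2 p hp, map_one]
  have hgle : g.range ≤ Subgroup.centralizer ({b} : Set G) ⊓ Subgroup.centralizer (D : Set G) := by
    rintro _ ⟨⟨u, x⟩, rfl⟩
    obtain ⟨d, hd⟩ := hED _ x.2
    have hbB : Commute b a := hBa b hb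
    have h1 : ∀ v ∈ B, Commute v b := fun v hv =>
      congrArg Subtype.val (hBel.1.is_comm.comm (⟨v, hv⟩ : ↥B) ⟨b, hb⟩)
    have hdb : Commute (d : G) b := Subgroup.mem_centralizer_singleton_iff.mp (hDb d.2)
    refine Subgroup.mem_inf.mpr ⟨Subgroup.mem_centralizer_singleton_iff.mpr ?_,
      Subgroup.mem_centralizer_iff.mpr fun e he => ?_⟩
    · show (u : G) * (x : G) * b = b * ((u : G) * (x : G))
      rw [hd]
      exact ((h1 _ u.2.1).mul_left ((hbB.symm.mul_left hdb).mul_left hbB.symm.inv_left)).eq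
    · show e * ((u : G) * (x : G)) = (u : G) * (x : G) * e
      rw [hd]
      exact ((show Commute e (u : G) from (hfix _ u.2.1 u.2.2 e he).symm).mul_right
        (hcm e he _ d.2)).eq
  have hfin := hrankD n hPB (g.range.subgroupOf _)
    ⟨⟨fun v' w' => by
      obtain ⟨⟨u, x⟩, hv⟩ := v'.2
      obtain ⟨⟨v, y⟩, hw⟩ := w'.2
      refine Subtype.ext (Subtype.ext ?_)
      show v'.1.1 * w'.1.1 = w'.1.1 * v'.1.1
      refine (congrArg₂ (· * ·) hv.symm hw.symm).trans (Eq.trans ?_ (congrArg₂ (· * ·) hw hv))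
      show g (u, x) * g (v, y) = g (v, y) * g (u, x)
      rw [← map_mul, ← map_mul]
      congr 1
      exact Prod.ext (Subtype.ext (congrArg Subtype.val
        (hBel.1.is_comm.comm (⟨u, u.2.1⟩ : ↥B) ⟨v, v.2.1⟩) :))
        (Subtype.ext (hEcomm _ x.2 _ y.2))⟩⟩
    (by
      intro v' hv'
      obtain ⟨⟨u, x⟩, hv⟩ := hv'
      refine Subtype.ext ?_
      refine (congrArg (· ^ 2) hv.symm).trans ?_
      show g (u, x) ^ 2 = 1
      rw [← map_pow, show ((u, x) : ↥B₀ × ↥E) ^ 2 = 1 from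
        Prod.ext (Subtype.ext (hBel.2 u u.2.1)) (Subtype.ext (hE2 x x.2)), map_one])
  rw [Nat.card_congr (Subgroup.subgroupOfEquivOfLe hgle).toEquiv, ← hn,
    ← Nat.card_congr (MonoidHom.ofInjective hg).toEquiv, Nat.card_prod] at hfin
  have h0 : 0 < Nat.card ↥B₀ := Nat.card_pos
  nlinarith [Nat.mul_le_mul_left (Nat.card ↥B₀) hEcard]

/-- Let G be a finite group of component type with the B-property and no nontrivial normal subgroup of odd order. Let a be an involution and K a component of C_G(a) such that (a) |K| is maximal among the orders of components of centralizers of involutions of G, (b) subject to (a) the 2-rank of the centralizer of K in C_G(a) is as large as possible, and (c) K has 2-rank at least 2. If B is an elementary abelian 2-subgroup of that centralizer of the largest possible order, then K is a component of C_G(b) for every non-identity b ∈ B. -/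
theorem result {G : Type*} [Group G] [Finite G] (hO : Cfsg.oddCore G = ⊥) (hB : Cfsg.HasBProperty G) (hct : Cfsg.IsComponentType G) (a : G) (ha : orderOf a = 2) (K : Subgroup G) (hKa : K ≤ Subgroup.centralizer ({a} : Set G)) (hK : Cfsg.IsComponent (K.subgroupOf (Subgroup.centralizer ({a} : Set G)))) (hmax : ∀ y : G, orderOf y = 2 → ∀ K' : Subgroup G, K' ≤ Subgroup.centralizer ({y} : Set G) → Cfsg.IsComponent (K'.subgroupOf (Subgroup.centralizer ({y} : Set G))) → Nat.card ↥K' ≤ Nat.card ↥K ∧ (Nat.card ↥K' = Nat.card ↥K → ∀ k : ℕ, Cfsg.PRankLE 2 k ↥(Subgroup.centralizer ({a} : Set G) ⊓ Subgroup.centralizer (K : Set G)) → Cfsg.PRankLE 2 k ↥(Subgroup.centralizer ({y} : Set G) ⊓ Subgroup.centralizer (K' : Set G)))) (hrk : ¬ Cfsg.PRankLE 2 1 ↥K) (B : Subgroup G) (hBle : B ≤ Subgroup.centralizer ({a} : Set G) ⊓ Subgroup.centralizer (K : Set G)) (hBel : Cfsg.IsElementaryAbelian 2 B) (hBmax : ∀ B' : Subgroup G, B' ≤ Subgroup.centralizer ({a} : Set G) ⊓ Subgroup.centralizer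 (K : Set G) → Cfsg.IsElementaryAbelian 2 B' → Nat.card ↥B' ≤ Nat.card ↥B) (b : G) (hb : b ∈ B) (hb1 : b ≠ 1) : K ≤ Subgroup.centralizer ({b} : Set G) ∧ Cfsg.IsComponent (K.subgroupOf (Subgroup.centralizer ({b} : Set G))) := by
  classical
  haveI : Fact (Nat.Prime 2) := ⟨Nat.prime_two⟩
  set Ca := Subgroup.centralizer ({a} : Set G) with hCa
  set Y := Subgroup.centralizer ({b} : Set G) with hY
  have hbC := hBle hb
  have hKY : K ≤ Y := fun k hk => Subgroup.mem_centralizer_singleton_iff.mpr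
    (Subgroup.mem_centralizer_iff.mp hbC.2 k hk)
  refine ⟨hKY, ?_⟩
  have hob : orderOf b = 2 := orderOf_eq_prime (hBel.2 b hb) hb1
  have haY : a ∈ Y := Subgroup.mem_centralizer_singleton_iff.mpr
    (Subgroup.mem_centralizer_singleton_iff.mp hbC.1).symm
  set T : ↥Y := ⟨a, haY⟩ with hT
  set CT := Subgroup.centralizer ({T} : Set ↥Y) with hCT
  set L := K.subgroupOf Y with hL
  have hCTmap : CT.map Y.subtype = Ca ⊓ Y := by
    ext x
    rw [Subgroup.mem_map, Subgroup.mem_inf]
    constructor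
    · rintro ⟨y, hy, rfl⟩
      exact ⟨Subgroup.mem_centralizer_singleton_iff.mpr
        (congrArg Subtype.val (Subgroup.mem_centralizer_singleton_iff.mp hy)), y.2⟩
    · rintro ⟨h1, h2⟩
      exact ⟨⟨x, h2⟩, Subgroup.mem_centralizer_singleton_iff.mpr
        (Subtype.ext (Subgroup.mem_centralizer_singleton_iff.mp h1)), rfl⟩
  have hLT : L ≤ CT := fun y hy => Subgroup.mem_centralizer_singleton_iff.mpr
    (Subtype.ext (Subgroup.mem_centralizer_singleton_iff.mp (hKa hy)))
  have hLc : Cfsg.IsComponent (L.subgroupOf CT) := by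
    have h1 : Cfsg.IsComponent (K.subgroupOf (CT.map Y.subtype)) := by
      rw [hCTmap]
      exact Cfsg.Agent.Lib.LBalance.isComponent_subgroupOf_of_le (le_inf hKa hKY) inf_le_left hK
    have h2 := Cfsg.Agent.Lib.Components.IsComponent.map_mulEquiv
      (CT.equivMapOfInjective Y.subtype Y.subtype_injective).symm h1
    have e : (K.subgroupOf (CT.map Y.subtype)).map
        (CT.equivMapOfInjective Y.subtype Y.subtype_injective).symm.toMonoidHom = L.subgroupOf CT := by
      ext y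
      rw [Subgroup.mem_map_equiv, MulEquiv.symm_symm]
      rfl
    rwa [e] at h2
  -- an elementary abelian subgroup of `K` of order at least four
  obtain ⟨A, hAc, hA2, hAcard⟩ : ∃ A : Subgroup ↥K, IsMulCommutative A ∧ (∀ x ∈ A, x ^ 2 = 1) ∧
      2 < Nat.card ↥A := by
    unfold Cfsg.PRankLE at hrk
    push Not at hrk
    obtain ⟨A, h1, h2, h3⟩ := hrk
    exact ⟨A, h1, h2, by simpa using h3⟩
  have h2K : 2 ∣ Nat.card ↥K := by
    have : Nontrivial ↥A := Finite.one_lt_card_iff_nontrivial.mp (by omega)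
    obtain ⟨x, hx⟩ := exists_ne (1 : ↥A)
    have ho : orderOf (x : ↥K) = 2 := orderOf_eq_prime (hA2 _ x.2) (fun h => hx (Subtype.ext h))
    exact ho ▸ orderOf_dvd_natCard (x : ↥K)
  have hLE : L ≤ Cfsg.layer ↥Y :=
    le_layer_centralizer hO hB ha hob hY hKY T rfl hLc hLT h2K
  have hTT : T * T = 1 := Subtype.ext (by
    show a * a = 1
    rw [← pow_two, ← ha, pow_orderOf_eq_one])
  obtain ⟨D, hD, h | ⟨hlt, -⟩ | ⟨hDne, -, χ, hχ, hχd, hχker⟩⟩ :=
    Cfsg.Agent.Lib.LBalance.component_trichotomy hTT hLT hLc hLE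
  · exact h ▸ hD
  all_goals exfalso
  all_goals
    have hDY : D.map Y.subtype ≤ Y := Subgroup.map_subtype_le D
    have hDc : Cfsg.IsComponent ((D.map Y.subtype).subgroupOf Y) := by
      rw [Subgroup.subgroupOf, Subgroup.comap_map_eq_self_of_injective Y.subtype_injective]
      exact hD
    have hm := hmax b hob (D.map Y.subtype) hDY hDc
    have hcD : Nat.card ↥(D.map Y.subtype) = Nat.card ↥D :=
      Subgroup.card_map_of_injective Y.subtype_injective
    have hcL : Nat.card ↥L = Nat.card ↥K :=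
      Nat.card_congr (Subgroup.subgroupOfEquivOfLe hKY).toEquiv
    rw [hcD] at hm
  · -- a larger component
    exact hlt.ne (Subgroup.eq_of_le_of_card_ge hlt.le (by omega))
  · -- a diagonal component
    have hχcard : Nat.card ↥χ.range ≤ Nat.card ↥D :=
      Nat.card_le_card_of_surjective χ.rangeRestrict χ.rangeRestrict_surjective
    have hcard : Nat.card ↥D = Nat.card ↥K := le_antisymm hm.1 (by rw [← hcL, ← hχ]; exact hχcard)
    have hinj : Function.Injective χ := by
      have hb := (Nat.bijective_iff_surjective_and_card χ.rangeRestrict).mpr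
        ⟨χ.rangeRestrict_surjective, by rw [hcard, ← hcL, ← hχ]⟩
      intro x y hxy
      exact hb.1 (Subtype.ext hxy)
    refine diagonal_contradiction (a := a) (b := b) (D := D.map Y.subtype) hBle hBel hb hDY
      (by rw [← pow_two, ← ha, pow_orderOf_eq_one])
      ((Y.subtype.comp χ).comp (D.equivMapOfInjective Y.subtype Y.subtype_injective).symm.toMonoidHom)
      ?_ ?_ ?_ ?_ ?_ ?_ hAc hA2 hAcard (hm.2 hcard) hBmax
    · intro d
      obtain ⟨y, rfl⟩ := (D.equivMapOfInjective Y.subtype Y.subtype_injective).surjective d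
      show Y.subtype (χ ((D.equivMapOfInjective Y.subtype Y.subtype_injective).symm
        (D.equivMapOfInjective Y.subtype Y.subtype_injective y))) = _
      rw [MulEquiv.symm_apply_apply, hχd]
      rfl
    · rw [MonoidHom.range_comp, MonoidHom.range_eq_top.mpr (MulEquiv.surjective _),
        ← MonoidHom.range_eq_map, MonoidHom.range_comp, hχ, Subgroup.map_subgroupOf_eq_of_le hKY]
    · exact (Y.subtype_injective.comp hinj).comp (MulEquiv.injective _)
    · rintro _ ⟨x, hx, rfl⟩ _ ⟨y, hy, rfl⟩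
      exact Commute.map (Cfsg.Agent.Lib.Components.commute_of_commutator_eq_bot
        (Cfsg.Agent.Lib.Components.IsComponent.commutator_eq_bot_of_ne hD
          (Cfsg.Agent.Lib.Components.IsComponent.map_conj hD T) (Ne.symm hDne)) hx
        (⟨y, hy, rfl⟩ : T * y * T⁻¹ ∈ D.map (MulAut.conj T).toMonoidHom)) Y.subtype
    · intro u hu
      have huY : u ∈ Y := Subgroup.mem_centralizer_singleton_iff.mpr
        (congrArg Subtype.val (hBel.1.is_comm.comm (⟨u, hu⟩ : ↥B) ⟨b, hb⟩))
      have hmapN : ∀ v : ↥Y, v ∈ Subgroup.normalizer (D : Set ↥Y) →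
          (v : G) ∈ Subgroup.normalizer ((D.map Y.subtype : Subgroup G) : Set G) :=
        fun v hv => Subgroup.le_normalizer_map _ ⟨v, hv, rfl⟩
      by_cases h1 : D.map (MulAut.conj (⟨u, huY⟩ : ↥Y)).toMonoidHom = D
      · exact Or.inl (hmapN ⟨u, huY⟩ (Cfsg.Agent.Lib.Components.mem_normalizer_iff_map_conj.mpr h1))
      by_cases h2 : D.map (MulAut.conj (⟨u, huY⟩ : ↥Y)).toMonoidHom =
          D.map (MulAut.conj T).toMonoidHom
      · refine Or.inr (Or.inl (hmapN (T * ⟨u, huY⟩)
          (Cfsg.Agent.Lib.Components.mem_normalizer_iff_map_conj.mpr ?_)))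
        have e : (MulAut.conj (T * ⟨u, huY⟩ : ↥Y)).toMonoidHom =
            (MulAut.conj T).toMonoidHom.comp (MulAut.conj (⟨u, huY⟩ : ↥Y)).toMonoidHom :=
          MonoidHom.ext fun z => by simp [mul_assoc]
        have e2 : (MulAut.conj T).toMonoidHom.comp (MulAut.conj T).toMonoidHom = MonoidHom.id ↥Y :=
          MonoidHom.ext fun z => by
            show T * (T * z * T⁻¹) * T⁻¹ = z
            rw [inv_eq_of_mul_eq_one_right hTT, show T * (T * z * T) * T = (T * T) * z * (T * T) by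
              simp only [mul_assoc], hTT, one_mul, mul_one]
        rw [e, ← Subgroup.map_map, h2, Subgroup.map_map, e2, Subgroup.map_id]
      · refine Or.inr (Or.inr ?_)
        rintro _ ⟨x, hx, rfl⟩ _ ⟨y, hy, rfl⟩
        have hM := Cfsg.Agent.Lib.Components.IsComponent.map_conj hD (⟨u, huY⟩ : ↥Y)
        exact ⟨Commute.map (Cfsg.Agent.Lib.Components.commute_of_commutator_eq_bot
          (Cfsg.Agent.Lib.Components.IsComponent.commutator_eq_bot_of_ne hM hD h1)
            (⟨x, hx, rfl⟩ : _ ∈ D.map (MulAut.conj (⟨u, huY⟩ : ↥Y)).toMonoidHom) hy) Y.subtype,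
          Commute.map (Cfsg.Agent.Lib.Components.commute_of_commutator_eq_bot
          (Cfsg.Agent.Lib.Components.IsComponent.commutator_eq_bot_of_ne hM
            (Cfsg.Agent.Lib.Components.IsComponent.map_conj hD T) h2)
            (⟨x, hx, rfl⟩ : _ ∈ D.map (MulAut.conj (⟨u, huY⟩ : ↥Y)).toMonoidHom)
            (⟨y, hy, rfl⟩ : _ ∈ D.map (MulAut.conj T).toMonoidHom)) Y.subtype⟩
    · intro hc
      apply Cfsg.Agent.Lib.Components.IsComponent.not_isMulCommutative hD
      refine ⟨⟨fun x y => Subtype.ext (Y.subtype_injective ?_)⟩⟩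
      have := congrArg Subtype.val
        (hc.is_comm.comm (⟨_, x, x.2, rfl⟩ : ↥(D.map Y.subtype)) ⟨_, y, y.2, rfl⟩)
      simpa using this

end Cfsg.Agent.S1305
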