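import Cfsg.Statements.S1306
import Cfsg.Agent.Lib.Components.Transport
import Cfsg.Agent.Lib.Components.GenFitting

set_option autoImplicit false
open Cfsg

namespace Cfsg.Agent.S1306

open Subgroup Cfsg.Agent.Lib.Components

theorem isStandard {G : Type*} [Group G] [Finite G] (x : G) (hx : orderOf x = 2) (L : Subgroup G)
    (hLx : L ≤ centralizer ({x} : Set G))
    (hL : IsComponent (L.subgroupOf (centralizer ({x} : Set G))))
    (hne : ∀ y : G, orderOf y = 2 → y ∈ centralizer (L : Set G) →
      L ≤ centralizer ({y} : Set G) ∧ IsComponent (L.subgroupOf (centralizer ({y} : Set G))))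
    (hnc : ∀ g : G, L.map (MulAut.conj g).toMonoidHom ≠ L →
      ⁅L, L.map (MulAut.conj g).toMonoidHom⁆ ≠ ⊥) : IsStandardSubgroup L := by
  have hxC : x ∈ centralizer (L : Set G) := mem_centralizer_iff.mpr fun l hl =>
    mem_centralizer_singleton_iff.mp (hLx hl)
  -- if `y` and `g y g⁻¹` are involutions centralizing `L`, then `g` normalizes `L`
  have key : ∀ g y : G, orderOf y = 2 → y ∈ centralizer (L : Set G) →
      g * y * g⁻¹ ∈ centralizer (L : Set G) → g ∈ normalizer (L : Set G) := by
    intro g y hy hyL hgy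
    have hgy2 : orderOf (g * y * g⁻¹) = 2 := by
      rw [← hy, ← MulAut.conj_apply]
      exact MulEquiv.orderOf_eq _ y
    obtain ⟨h1, h2⟩ := hne y hy hyL
    obtain ⟨h3, h4⟩ := hne _ hgy2 hgy
    rw [mem_normalizer_iff_map_conj]
    by_contra hcon
    apply hnc g hcon
    have h5 := isComponent_subgroupOf_map (MulAut.conj g) h1 h2
    rw [map_centralizer_conj_singleton] at h5
    have h6 : L.map (MulAut.conj g).toMonoidHom ≤ centralizer ({g * y * g⁻¹} : Set G) := by
      rw [← map_centralizer_conj_singleton]; exact map_mono h1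
    have h7 := IsComponent.commutator_eq_bot_of_ne h4 h5 fun e => hcon
      (subgroupOf_inj.mp e |> fun e' => by
        rwa [inf_eq_left.mpr h3, inf_eq_left.mpr h6, eq_comm] at e')
    have h8 := congrArg (Subgroup.map (centralizer ({g * y * g⁻¹} : Set G)).subtype) h7
    rwa [map_commutator, map_subgroupOf_eq_of_le h3, map_subgroupOf_eq_of_le h6,
      Subgroup.map_bot] at h8
  have hNN : normalizer (L : Set G) = normalizer (centralizer (L : Set G) : Set G) := by
    refine le_antisymm (fun g hg => ?_) (fun g hg => ?_)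
    · rw [mem_normalizer_iff_map_conj] at hg ⊢
      rw [map_centralizer_subgroup_mulEquiv, hg]
    · exact key g x hx hxC ((Subgroup.mem_normalizer_iff.mp hg x).mp hxC)
  refine ⟨IsQuasisimple.of_mulEquiv (Subgroup.subgroupOfEquivOfLe hLx) hL.2, ⟨?_, fun g hg => ?_⟩,
    hnc, hNN⟩
  · rw [even_iff_two_dvd]
    exact hx ▸ Subgroup.orderOf_dvd_natCard _ hxC
  · rw [← Nat.not_even_iff_odd, even_iff_two_dvd]
    intro hdvd
    have : Fact (Nat.Prime 2) := ⟨Nat.prime_two⟩
    obtain ⟨z, hz⟩ := exists_prime_orderOf_dvd_card'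
      (G := ↥(centralizer (L : Set G) ⊓
        (centralizer (L : Set G)).map (MulAut.conj g).toMonoidHom)) 2 hdvd
    obtain ⟨hz1, y, hy, hyz⟩ := z.2
    have hz2 : orderOf (z : G) = 2 := by rw [Subgroup.orderOf_coe, hz]
    have hy2 : orderOf y = 2 := by
      rw [← hz2, ← hyz]
      exact (MulEquiv.orderOf_eq (MulAut.conj g) y).symm
    apply hg
    rw [← hNN]
    refine key g y hy2 hy ?_
    have e : g * y * g⁻¹ = (z : G) := hyz
    rw [e]
    exact hz1


/-- Let G be finite, x an involution and L ≤ C_G(x) a component of C_G(x). Suppose L is a component of C_G(y) for every involution y ∈ C_G(L), and ⁅L, g L g⁻¹⁆ ≠ 1 whenever g L g⁻¹ ≠ L. Then L is a standard subgroup of G. -/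
theorem result {G : Type*} [Group G] [Finite G] (x : G) (hx : orderOf x = 2) (L : Subgroup G) (hLx : L ≤ Subgroup.centralizer ({x} : Set G)) (hL : Cfsg.IsComponent (L.subgroupOf (Subgroup.centralizer ({x} : Set G)))) (hne : ∀ y : G, orderOf y = 2 → y ∈ Subgroup.centralizer (L : Set G) → L ≤ Subgroup.centralizer ({y} : Set G) ∧ Cfsg.IsComponent (L.subgroupOf (Subgroup.centralizer ({y} : Set G)))) (hnc : ∀ g : G, L.map (MulAut.conj g).toMonoidHom ≠ L → ⁅L, L.map (MulAut.conj g).toMonoidHom⁆ ≠ ⊥) : Cfsg.IsStandardSubgroup L := by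
  exact isStandard x hx L hLx hL hne hnc

end Cfsg.Agent.S1306
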