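import Cfsg.Statements.S1307
import Cfsg.Agent.Lib.Components.PComponent
import Cfsg.Agent.Lib.Components.Balance
import Cfsg.Agent.Lib.Frobenius.UniqueSubgroup
import Cfsg.Agent.S0219
import Cfsg.Agent.S0201

set_option autoImplicit false
open Cfsg

namespace Cfsg.Agent.S1307

open Cfsg.Agent.Lib.Components

/-- an involution of `Z(L)` and the shape of the Sylow subgroup -/
theorem center_involution {L : Type*} [Group L] [Finite L] (hL : IsQuasisimple L) (heven : Even (Nat.card L))
    (hrk : PRankLE 2 1 L) :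
    ∃ t : L, t ∈ Subgroup.center L ∧ orderOf t = 2 ∧ ∃ S : Sylow 2 L, ∃ n : ℕ,
      Nonempty (↥(S : Subgroup L) ≃* QuaternionGroup (2 ^ (n + 1))) := by
  haveI : Fact (Nat.Prime 2) := ⟨Nat.prime_two⟩
  obtain ⟨S⟩ : Nonempty (Sylow 2 L) := inferInstance
  obtain ⟨c₀, hc₀, hcc⟩ : ∃ c : L, orderOf c = 2 ∧ ∀ s ∈ (S : Subgroup L), s * c = c * s := by
    haveI : Nontrivial (S : Subgroup L) := (Subgroup.nontrivial_iff_ne_bot _).mpr
      (S.ne_bot_of_dvd_card (even_iff_two_dvd.mp heven))
    obtain ⟨c, hc⟩ := exists_prime_orderOf_dvd_card' 2 (G := Subgroup.center (S : Subgroup L)) (by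
      obtain ⟨n, hn⟩ := IsPGroup.iff_card.mp (S.2.to_subgroup (Subgroup.center (S : Subgroup L)))
      have := S.2.center_nontrivial
      have h1 : 1 < Nat.card (Subgroup.center (S : Subgroup L)) := Finite.one_lt_card
      rw [hn] at h1 ⊢
      exact dvd_pow_self 2 (by rintro rfl; simp at h1))
    refine ⟨(c.1 : L), by rwa [Subgroup.orderOf_coe, Subgroup.orderOf_coe], fun s hs => ?_⟩
    exact congrArg Subtype.val (Subgroup.mem_center_iff.mp c.2 ⟨s, hs⟩)
  have hone : ∀ x : L, x ∈ (S : Subgroup L) → orderOf x = 2 → x = c₀ := by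
    intro x hx hx2
    by_contra hne
    have hx1 : x ≠ 1 := fun h => by simp [h] at hx2
    have hc1 : c₀ ≠ 1 := fun h => by simp [h] at hc₀
    have hxx : x ^ 2 = 1 := by rw [← hx2, pow_orderOf_eq_one]
    have hcc' : c₀ ^ 2 = 1 := by rw [← hc₀, pow_orderOf_eq_one]
    have hcomm : Commute x c₀ := hcc x hx
    set A : Subgroup L := Subgroup.closure {x, c₀} with hA
    have hAc : IsMulCommutative A := Subgroup.isMulCommutative_closure (by
      rintro a (rfl | rfl) b (rfl | rfl)
      · rfl
      · exact hcomm.eq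
      · exact hcomm.eq.symm
      · rfl)
    have hAe : ∀ a ∈ A, a ^ 2 = 1 := fun a ha => by
      induction ha using Subgroup.closure_induction with
      | mem b hb => rcases hb with rfl | rfl <;> assumption
      | one => simp
      | mul a b ha hb h1 h2 =>
        have := congrArg Subtype.val (hAc.is_comm.comm ⟨a, ha⟩ ⟨b, hb⟩)
        rw [(show Commute a b from this).mul_pow, h1, h2, one_mul]
      | inv a _ h1 => rw [inv_pow, h1, inv_one]
    have h2le := hrk A hAc hAe
    have hmem : x ∈ A := Subgroup.subset_closure (Set.mem_insert _ _)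
    have hmem' : c₀ ∈ A := Subgroup.subset_closure (Set.mem_insert_of_mem _ rfl)
    have h3 : ({1, x, c₀} : Set L).ncard ≤ Nat.card A := by
      rw [← SetLike.coe_sort_coe, Nat.card_coe_set_eq]
      refine Set.ncard_le_ncard ?_ (Set.toFinite _)
      rintro a (rfl | rfl | rfl)
      exacts [A.one_mem, hmem, hmem']
    rw [Set.ncard_insert_of_notMem (by simp [Ne.symm hx1, Ne.symm hc1]) (Set.toFinite _),
      Set.ncard_pair hne] at h3
    norm_num at h2le
    omega
  have huniq : ∀ a b : (S : Subgroup L), orderOf a = 2 → orderOf b = 2 → a ∈ Subgroup.zpowers b := by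
    intro a b ha hb
    have : a = b := Subtype.ext ((hone a a.2 (by rwa [Subgroup.orderOf_coe])).trans
      (hone b b.2 (by rwa [Subgroup.orderOf_coe])).symm)
    exact this ▸ Subgroup.mem_zpowers b
  rcases Cfsg.Agent.Lib.Frobenius.isCyclic_or_quaternion_of_unique S.2 huniq with hcyc | ⟨-, n, ⟨e⟩⟩
  · exfalso
    haveI := hcyc
    obtain ⟨H, hH⟩ := Cfsg.Agent.S0219.result heven S inferInstance
    haveI : H.Normal := Subgroup.normal_of_index_eq_two hH
    rcases IsQuasisimple.normal_eq_top_or_le_center hL H with h | h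
    · rw [h, Subgroup.index_top] at hH; omega
    · apply IsQuasisimple.center_ne_top hL
      rcases eq_or_ne (Subgroup.center L) ⊤ with h' | h'
      · exact h'
      exfalso
      have heq : H = Subgroup.center L := by
        refine le_antisymm h ?_
        have hd := Subgroup.index_dvd_of_le h
        rw [hH] at hd
        rcases (Nat.dvd_prime Nat.prime_two).mp hd with h2 | h2
        · exact absurd (Subgroup.index_eq_one.mp h2) h'
        · refine (Subgroup.eq_of_le_of_card_ge h (le_of_eq ?_)).ge
          have e1 := Subgroup.card_mul_index H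
          have e2 := Subgroup.card_mul_index (Subgroup.center L)
          rw [hH] at e1
          rw [h2] at e2
          omega
      haveI : IsCyclic (L ⧸ Subgroup.center L) := by
        haveI : Fact (Nat.Prime 2) := ⟨Nat.prime_two⟩
        exact isCyclic_of_prime_card (p := 2) (by rw [← Subgroup.index_eq_card, ← heq, hH])
      apply IsQuasisimple.not_isMulCommutative hL
      exact ⟨⟨commutative_of_cyclic_center_quotient (QuotientGroup.mk' (Subgroup.center L)) (by simp)⟩⟩
  -- Brauer–Suzuki in `L / O(L)`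
  set N := oddCore L with hN
  haveI : N.Normal := pPrimeCore_normal 2 L
  have hNodd : (Nat.card N).Coprime 2 := pPrimeCore_coprime 2
  have hNc : N ≤ Subgroup.center L := by
    rcases IsQuasisimple.normal_eq_top_or_le_center hL N with h | h
    · exfalso
      rw [h, Subgroup.card_top] at hNodd
      have := Nat.Coprime.eq_one_of_dvd hNodd.symm (even_iff_two_dvd.mp heven)
      omega
    · exact h
  let π := QuotientGroup.mk' N
  let S' : Sylow 2 (L ⧸ N) := S.mapSurjective (QuotientGroup.mk'_surjective N)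
  have hinj : Function.Injective (π.comp (S : Subgroup L).subtype) := by
    rw [← MonoidHom.ker_eq_bot_iff, eq_bot_iff]
    intro s hs
    have hsN : (s : L) ∈ N := (QuotientGroup.eq_one_iff _).mp (MonoidHom.mem_ker.mp hs)
    obtain ⟨k, hk⟩ := S.2 s
    refine Subgroup.mem_bot.mpr (Subtype.ext ?_)
    exact eq_one_of_pow_eq_one_of_coprime (hNodd.coprime_dvd_left (Subgroup.orderOf_dvd_natCard _ hsN))
      (congrArg Subtype.val hk)
  let e' : (S' : Subgroup (L ⧸ N)) ≃* QuaternionGroup (2 ^ (n + 1)) :=
    (((MonoidHom.ofInjective hinj).trans (MulEquiv.subgroupCongr (by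
      rw [MonoidHom.range_comp, Subgroup.range_subtype]; rfl))).symm).trans e
  have hO : ∀ M : Subgroup (L ⧸ N), M.Normal → Odd (Nat.card M) → M = ⊥ := by
    intro M hM hodd
    have := le_pPrimeCore (p := 2) hM (Nat.coprime_two_right.mpr hodd)
    rw [pPrimeCore_quotient_eq_bot 2] at this
    exact le_bot_iff.mp this
  have hc2 := Cfsg.Agent.S0201.result S' n e' hO
  set Z := (Subgroup.center (L ⧸ N)).comap π with hZ
  have hZc : Z ≤ Subgroup.center L := by
    rcases IsQuasisimple.normal_eq_top_or_le_center hL Z with h | h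
    · exfalso
      have htop : Subgroup.center (L ⧸ N) = ⊤ :=
        Subgroup.comap_injective (QuotientGroup.mk'_surjective N) (h.trans (Subgroup.comap_top π).symm)
      rw [htop, Subgroup.card_top] at hc2
      have h2 : Nat.card (S' : Subgroup (L ⧸ N)) ≤ 2 := (Subgroup.card_le_card_group _).trans hc2.le
      rw [Nat.card_congr e'.toEquiv, Nat.card_eq_fintype_card, QuaternionGroup.card] at h2
      have : 1 ≤ 2 ^ n := Nat.one_le_two_pow
      rw [pow_succ] at h2
      omega
    · exact h
  have hZ2 : 2 ∣ Nat.card (Subgroup.center L) := by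
    refine Nat.dvd_trans ?_ (Subgroup.card_dvd_of_le hZc)
    have := card_eq_card_map_mul π Z
    rw [Subgroup.map_comap_eq_self_of_surjective (QuotientGroup.mk'_surjective N), hc2] at this
    exact this ▸ dvd_mul_right 2 _
  obtain ⟨t, ht⟩ := exists_prime_orderOf_dvd_card' 2 hZ2
  exact ⟨t, t.2, by rwa [Subgroup.orderOf_coe], S, n, ⟨e⟩⟩


/-- Let G be finite, x an involution and L ≤ C_G(x) a component of C_G(x) of even order and 2-rank 1, such that L is a component of C_G(y) for every involution y ∈ C_G(L). Then some involution of L is a classical involution of G. -/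
theorem result {G : Type*} [Group G] [Finite G] (x : G) (hx : orderOf x = 2) (L : Subgroup G) (hLx : L ≤ Subgroup.centralizer ({x} : Set G)) (hL : Cfsg.IsComponent (L.subgroupOf (Subgroup.centralizer ({x} : Set G)))) (heven : Even (Nat.card ↥L)) (hrk : Cfsg.PRankLE 2 1 ↥L) (hne : ∀ y : G, orderOf y = 2 → y ∈ Subgroup.centralizer (L : Set G) → L ≤ Subgroup.centralizer ({y} : Set G) ∧ Cfsg.IsComponent (L.subgroupOf (Subgroup.centralizer ({y} : Set G)))) : ∃ t ∈ L, Cfsg.IsClassicalInvolution t := by

  have hq : IsQuasisimple ↥L := IsQuasisimple.of_mulEquiv (Subgroup.subgroupOfEquivOfLe hLx) hL.2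
  obtain ⟨t, htc, ht2, S, n, ⟨e⟩⟩ := center_involution hq heven hrk
  have htC : (t : G) ∈ Subgroup.centralizer (L : Set G) := Subgroup.mem_centralizer_iff.mpr fun l hl =>
    congrArg Subtype.val (Subgroup.mem_center_iff.mp htc ⟨l, hl⟩)
  have ht2' : orderOf (t : G) = 2 := by rwa [Subgroup.orderOf_coe]
  obtain ⟨hle, hcomp⟩ := hne t ht2' htC
  exact ⟨t, t.2, ht2', L, hle, t.2, hcomp.1, S, n, ⟨e⟩⟩

end Cfsg.Agent.S1307
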