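import Cfsg.Statements.S1312
import Cfsg.Agent.Lib.Components.PComponent
import Cfsg.Agent.Lib.Components.Balance
import Cfsg.Agent.Lib.Coprime.Basic
import Cfsg.Agent.Lib.Cores.Basic

set_option autoImplicit false
open Cfsg

namespace Cfsg.Agent.S1312

open Cfsg.Agent.Lib.Components Subgroup
open scoped commutatorElement

variable {G : Type*} [Group G]

def E (M : Subgroup G) : Subgroup G := (layer ↥M).map M.subtype
def O (M : Subgroup G) (q : ℕ) : Subgroup G := (pCore q ↥M).map M.subtype

theorem le_normalizer_E (M : Subgroup G) : M ≤ normalizer (E M : Set G) :=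
  le_normalizer.trans (Cfsg.Agent.Lib.Cores.normalizer_le_normalizer_map_subtype _ _)

theorem le_normalizer_O (M : Subgroup G) (q : ℕ) : M ≤ normalizer (O M q : Set G) :=
  le_normalizer.trans (Cfsg.Agent.Lib.Cores.normalizer_le_normalizer_map_subtype _ _)

theorem eq_bot_of_normalized [IsSimpleGroup G] {M N K : Subgroup G} (hM : IsCoatom M) (hN : IsCoatom N)
    (hne : M ≠ N) (hK : K ≤ M) (h1 : M ≤ normalizer (K : Set G)) (h2 : N ≤ normalizer (K : Set G)) :
    K = ⊥ := by
  have htop : normalizer (K : Set G) = ⊤ := by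
    rw [eq_top_iff, ← hM.sup_eq_top_of_ne hN hne]
    exact sup_le h1 h2
  rcases (Subgroup.normalizer_eq_top_iff.mp htop).eq_bot_or_eq_top with h | h
  · exact h
  · exact absurd (top_le_iff.mp (h.symm.le.trans hK)) hM.1

theorem normalizer_le [IsSimpleGroup G] {M K : Subgroup G} (hM : IsCoatom M) (hK : K ≤ M)
    (hK1 : K ≠ ⊥) (h1 : M ≤ normalizer (K : Set G)) : normalizer (K : Set G) ≤ M := by
  rcases hM.le_iff.mp h1 with h | h
  · exfalso
    rcases (Subgroup.normalizer_eq_top_iff.mp h).eq_bot_or_eq_top with h' | h'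
    · exact hK1 h'
    · exact hM.1 (top_le_iff.mp (h'.symm.le.trans hK))
  · exact h.le

variable [Finite G]

theorem isPGroup_O (M : Subgroup G) (q : ℕ) : IsPGroup q ↥(O M q) := (pCore_isPGroup q).map _

theorem commute_O {M N : Subgroup G} {r q : ℕ} [hr : Fact r.Prime] [hq : Fact q.Prime] (hne : r ≠ q)
    (h1 : O M r ≤ N) (h2 : O N q ≤ M) :
    ∀ a ∈ O M r, ∀ b ∈ O N q, a * b = b * a := fun a ha b hb => by
  have hbot : O M r ⊓ O N q = ⊥ := by
    obtain ⟨i, hi⟩ := IsPGroup.iff_card.mp (isPGroup_O M r)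
    obtain ⟨j, hj⟩ := IsPGroup.iff_card.mp (isPGroup_O N q)
    exact Cfsg.Agent.Lib.Coprime.inf_eq_bot_of_coprime_card
      (by rw [hi, hj]; exact Nat.Coprime.pow _ _ ((Nat.coprime_primes hr.out hq.out).mpr hne))
  rw [← commutatorElement_eq_one_iff_mul_comm, ← Subgroup.mem_bot, ← hbot]
  constructor
  · rw [commutatorElement_def, mul_assoc, mul_assoc, ← mul_assoc b]
    exact mul_mem ha ((mem_normalizer_iff.mp (le_normalizer_O M r (h2 hb)) _).mp (inv_mem ha))
  · rw [commutatorElement_def]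
    exact Subgroup.mul_mem _ ((mem_normalizer_iff.mp (le_normalizer_O N q (h1 ha)) _).mp hb) (Subgroup.inv_mem _ hb)

theorem E_eq {M N : Subgroup G} (hMN : E M ≤ N) (hNM : E N ≤ M)
    (hF : ∀ q : ℕ, q.Prime → O N q ≤ M) : E M ≤ E N := by
  rw [E, map_le_iff_le_comap, layer_le_iff]
  intro L hL
  rw [← map_le_iff_le_comap]
  have hLM : L.map M.subtype ≤ M ⊓ N := le_inf (map_subtype_le _)
    ((map_mono (IsComponent.le_layer hL)).trans hMN)
  have hLe : (L.map M.subtype).subgroupOf M = L :=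
    comap_map_eq_self_of_injective M.subtype_injective L
  set L' := L.map M.subtype with hL'
  have hLc : IsComponent L := hL
  set I := M ⊓ N with hI
  have hcompI : ∀ (X : Subgroup G), X ≤ I → ∀ H : Subgroup G, (H = M ∨ H = N) →
      IsComponent (X.subgroupOf H) → IsComponent (X.subgroupOf I) := by
    intro X hX H hH hXc
    have hIH : I ≤ H := by rcases hH with rfl | rfl; exacts [inf_le_left, inf_le_right]
    have h := IsComponent.map_mulEquiv (Subgroup.subgroupOfEquivOfLe hIH)
      (IsComponent.subgroupOf hXc (H := I.subgroupOf H) (fun x hx => hX hx))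
    convert h using 1
    ext x
    constructor
    · intro hx; exact ⟨⟨⟨x, hIH x.2⟩, x.2⟩, hx, Subtype.ext rfl⟩
    · rintro ⟨y, hy, rfl⟩; exact hy
  have hLI : IsComponent (L'.subgroupOf I) := hcompI L' hLM M (Or.inl rfl) (by rw [hLe]; exact hLc)
  by_contra hnot
  have hcomm : ∀ x ∈ L', x ∈ centralizer (E N : Set G) := by
    intro x hx
    rw [mem_centralizer_iff]
    intro y hy
    obtain ⟨y, hy, rfl⟩ := hy
    revert hy
    refine fun hy => (?_ : layer ↥N ≤ (centralizer ({x} : Set G)).comap N.subtype) hy |>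
      mem_centralizer_singleton_iff.mp
    rw [layer_le_iff]
    intro K hK k hk
    have hKI : K.map N.subtype ≤ I := le_inf ((map_mono (IsComponent.le_layer hK)).trans hNM)
      (map_subtype_le _)
    have hKI' := hcompI (K.map N.subtype) hKI N (Or.inr rfl)
      (by rw [show (K.map N.subtype).subgroupOf N = K from comap_map_eq_self_of_injective N.subtype_injective K]; exact hK)
    have hne : L'.subgroupOf I ≠ (K.map N.subtype).subgroupOf I := fun h => hnot (by
      have h2 := congrArg (Subgroup.map I.subtype) h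
      rw [map_subgroupOf_eq_of_le hLM, map_subgroupOf_eq_of_le hKI] at h2
      exact h2.le.trans (map_mono (IsComponent.le_layer hK)))
    exact mem_centralizer_singleton_iff.mpr (congrArg Subtype.val
      (commute_of_commutator_eq_bot (IsComponent.commutator_eq_bot_of_ne hLI hKI' hne)
        (show (⟨x, hLM hx⟩ : ↥I) ∈ L'.subgroupOf I from hx)
        (show (⟨_, hKI ⟨k, hk, rfl⟩⟩ : ↥I) ∈ (K.map N.subtype).subgroupOf I from ⟨k, hk, rfl⟩))).symm
  have hcommO : ∀ q : ℕ, q.Prime → ∀ x ∈ L', x ∈ centralizer (O N q : Set G) := by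
    intro q hq x hx
    haveI := Fact.mk hq
    have hle : O N q ≤ I := le_inf (hF q hq) (map_subtype_le _)
    haveI : ((O N q).subgroupOf I).Normal := normal_subgroupOf_of_le_normalizer
      (inf_le_right.trans (le_normalizer_O N q))
    have hsol : Group.IsSolvable ↥((O N q).subgroupOf I) :=
      haveI := ((isPGroup_O N q).of_equiv (subgroupOfEquivOfLe hle).symm).isNilpotent
      IsNilpotent.to_isSolvable
    rw [mem_centralizer_iff]
    intro y hy
    exact (congrArg Subtype.val (commute_of_commutator_eq_bot (commutator_layer_eq_bot_of_solvable hsol)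
      (IsComponent.le_layer hLI (show (⟨x, hLM hx⟩ : ↥I) ∈ L'.subgroupOf I from hx))
      (show (⟨y, hle hy⟩ : ↥I) ∈ (O N q).subgroupOf I from hy))).symm
  have hLN : L'.subgroupOf N ≤ fittingSubgroup ↥N := by
    refine le_trans ?_ centralizer_genFitting_le_fittingSubgroup
    rw [le_centralizer_iff]
    refine sup_le ?_ (fittingSubgroup_le_iSup_pCore.trans (iSup_le fun q => ?_))
    · intro y hy
      rw [mem_centralizer_iff]
      intro x hx
      exact Subtype.ext (mem_centralizer_iff.mp (hcomm x hx) y ⟨y, hy, rfl⟩).symm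
    · intro y hy
      rw [mem_centralizer_iff]
      intro x hx
      exact Subtype.ext (mem_centralizer_iff.mp (hcommO q q.2 x hx) y ⟨y, hy, rfl⟩).symm
  have hs : Group.IsSolvable ↥(L'.subgroupOf N) := isSolvable_of_le hLN fittingSubgroup_isSolvable
  haveI := hs
  have : Group.IsSolvable ↥L' := Group.isSolvable_of_surjective
    (f := (subgroupOfEquivOfLe (hLM.trans inf_le_right)).toMonoidHom) (MulEquiv.surjective _)
  haveI := this
  exact IsComponent.not_isSolvable hLc (Group.isSolvable_of_isSolvable_injective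
    (f := (L.equivMapOfInjective M.subtype M.subtype_injective).toMonoidHom) (MulEquiv.injective _))

theorem O_le [IsSimpleGroup G] {M N : Subgroup G} (hM : IsCoatom M) (hlN : layer ↥N = ⊥)
    (hMN : ∀ q : ℕ, q.Prime → O M q ≤ N) (hNM : ∀ q : ℕ, q.Prime → O N q ≤ M)
    {r q : ℕ} [Fact r.Prime] [Fact q.Prime] (hrq : r ≠ q) (hQ : O M q ≠ ⊥) : O M r ≤ O N r := by
  classical
  let Cr : Subgroup ↥N :=
    ⨅ s : {s : ℕ // s.Prime ∧ s ≠ r}, centralizer (pCore (s : ℕ) ↥N : Set ↥N)
  haveI hCrn : Cr.Normal := Subgroup.normal_iInf_normal fun s => inferInstance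
  have hRCr : ∀ x ∈ O M r, ∀ hx : x ∈ N, (⟨x, hx⟩ : ↥N) ∈ Cr := by
    intro x hxR hx
    refine mem_iInf.mpr fun s => mem_centralizer_iff.mpr fun y hy => Subtype.ext ?_
    haveI := Fact.mk s.2.1
    exact (commute_O (Ne.symm s.2.2) (hMN r Fact.out) (hNM s s.2.1) x hxR y ⟨y, hy, rfl⟩).symm
  let S : Set ↥N := {y | y ∈ Cr ∧ (orderOf y).Coprime q}
  have hcomm : ∀ y ∈ S, ∀ g ∈ O M q, (y : G) * g * (y : G)⁻¹ = g := by
    rintro y ⟨hyC, hyo⟩ g hg
    have hgN : g ∈ N := hMN q Fact.out hg
    let g' : ↥N := ⟨g, hgN⟩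
    have hg' : ∀ s : ℕ, s.Prime → s ≠ q → g' ∈ centralizer (pCore s ↥N : Set ↥N) := by
      intro s hs hsq
      haveI := Fact.mk hs
      exact mem_centralizer_iff.mpr fun w hw => Subtype.ext
        (commute_O (Ne.symm hsq) (hMN q Fact.out) (hNM s hs) g hg w ⟨w, hw, rfl⟩).symm
    set z := y * g' * y⁻¹ * g'⁻¹ with hz
    have hzF : z ∈ fittingSubgroup ↥N := by
      refine centralizer_genFitting_le_fittingSubgroup ?_
      rw [generalizedFittingSubgroup, hlN, bot_sup_eq]
      refine centralizer_le (fittingSubgroup_le_iSup_pCore) ?_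
      have key : ∀ s : {s : ℕ // s.Prime}, z ∈ centralizer (pCore (s : ℕ) ↥N : Set ↥N) := by
        intro s
        haveI hn : (centralizer (pCore (s : ℕ) ↥N : Set ↥N)).Normal := inferInstance
        by_cases hsr : (s : ℕ) = r
        · have h1 := hg' s s.2 (hsr ▸ hrq)
          exact mul_mem (hn.conj_mem _ h1 y) (inv_mem h1)
        · have h1 := mem_iInf.mp hyC ⟨s, s.2, hsr⟩
          rw [hz, mul_assoc, mul_assoc, ← mul_assoc g']
          exact mul_mem h1 (hn.conj_mem _ (inv_mem h1) g')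
      rw [mem_centralizer_iff]
      intro w hw
      have : (⨆ s : {s : ℕ // s.Prime}, pCore (s : ℕ) ↥N) ≤ centralizer ({z} : Set ↥N) :=
        iSup_le fun s w hw => mem_centralizer_singleton_iff.mpr (mem_centralizer_iff.mp (key s) w hw)
      exact mem_centralizer_singleton_iff.mp (this hw)
    set W : Subgroup ↥N := ⨆ s : {s : ℕ // s.Prime ∧ s ≠ q}, pCore (s : ℕ) ↥N with hW
    have hWle : W ≤ pPrimeCore q ↥N := iSup_le fun s => le_pPrimeCore inferInstance (by
      haveI := Fact.mk s.2.1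
      obtain ⟨n, hn⟩ := IsPGroup.iff_card.mp (pCore_isPGroup (G := ↥N) (s : ℕ))
      rw [hn]
      exact ((Nat.coprime_primes s.2.1 (Fact.out : q.Prime)).mpr s.2.2).pow_left n)
    have hgW : W ≤ centralizer ({g'} : Set ↥N) := iSup_le fun s w hw =>
      mem_centralizer_singleton_iff.mpr (mem_centralizer_iff.mp (hg' s s.2.1 s.2.2) w hw)
    have hFle : fittingSubgroup ↥N ≤ pCore q ↥N ⊔ W :=
      fittingSubgroup_le_iSup_pCore.trans (iSup_le fun s => by
        by_cases h : (s : ℕ) = q
        · exact h ▸ le_sup_left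
        · exact le_sup_of_le_right (le_iSup (fun s : {s : ℕ // s.Prime ∧ s ≠ q} => pCore (s : ℕ) ↥N)
            ⟨s, s.2, h⟩))
    obtain ⟨a, ha, b, hb, hzab⟩ := Cfsg.Agent.Lib.Coprime.exists_mul_of_mem_sup
      (le_top.trans (Subgroup.normalizer_eq_top_iff.mpr inferInstance).ge) (hFle hzF)
    have hab : Commute a b := Cfsg.Agent.Lib.Coprime.eq_one_of_mem_of_mem
      (N := pCore q ↥N) (H := pPrimeCore q ↥N) (by
        obtain ⟨n, hn⟩ := IsPGroup.iff_card.mp (pCore_isPGroup (G := ↥N) q)
        rw [hn]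
        exact (pPrimeCore_coprime (G := ↥N) q).symm.pow_left n)
      (show ⁅a, b⁆ ∈ pCore q ↥N by
        rw [commutatorElement_def, mul_assoc, mul_assoc, ← mul_assoc b]
        exact mul_mem ha ((pCore_normal q ↥N).conj_mem _ (inv_mem ha) b))
      (show ⁅a, b⁆ ∈ pPrimeCore q ↥N by
        rw [commutatorElement_def]
        exact mul_mem ((pPrimeCore_normal q ↥N).conj_mem _ (hWle hb) a) (inv_mem (hWle hb)))
      |> commutatorElement_eq_one_iff_commute.mp
    have hgb : Commute b g' := mem_centralizer_singleton_iff.mp (hgW hb)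
    have hQ' : IsPGroup q ↥((O M q).subgroupOf N) :=
      (isPGroup_O M q).of_equiv (subgroupOfEquivOfLe (hMN q Fact.out)).symm
    have hagp : IsPGroup q ↥(pCore q ↥N ⊔ (O M q).subgroupOf N : Subgroup ↥N) :=
      IsPGroup.to_sup_of_normal_left (pCore_isPGroup q) hQ'
    obtain ⟨n, hn⟩ := hagp ⟨a * g', mul_mem (mem_sup_left ha) (mem_sup_right hg)⟩
    have hn' : (a * g') ^ q ^ n = 1 := congrArg Subtype.val hn
    obtain ⟨m, hm⟩ := hQ' ⟨g', hg⟩
    have hm' : (y * g' * y⁻¹) ^ q ^ m = 1 := by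
      rw [conj_pow, show g' ^ q ^ m = 1 from congrArg Subtype.val hm, mul_one, mul_inv_cancel]
    have heq : y * g' * y⁻¹ = b * (a * g') := by
      calc y * g' * y⁻¹ = z * g' := by rw [hz]; group
        _ = a * b * g' := by rw [hzab]
        _ = b * (a * g') := by rw [hab.eq, mul_assoc]
    have hb1 : b = 1 := by
      have h1 : b ^ q ^ (n + m) = 1 := by
        have h3 := (hab.symm.mul_right hgb).mul_pow (q ^ (n + m))
        rw [← heq, show (a * g') ^ q ^ (n + m) = 1 by rw [pow_add, pow_mul, hn', one_pow],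
          mul_one, show (y * g' * y⁻¹) ^ q ^ (n + m) = 1 by
            rw [pow_add, mul_comm, pow_mul, hm', one_pow]] at h3
        exact h3.symm
      exact eq_one_of_pow_eq_one_of_coprime ((pPrimeCore_coprime (G := ↥N) q).coprime_dvd_left
        (Subgroup.orderOf_dvd_natCard _ (hWle hb))) h1
    rw [hb1, one_mul] at heq
    have hya : Commute y a :=
      ((mem_centralizer_iff.mp (mem_iInf.mp hyC ⟨q, Fact.out, Ne.symm hrq⟩) a ha)).symm
    have hk : ∀ k : ℕ, y ^ k * g' * (y ^ k)⁻¹ = a ^ k * g' := by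
      intro k
      induction k with
      | zero => simp
      | succ k ih =>
        calc y ^ (k + 1) * g' * (y ^ (k + 1))⁻¹ = y * (y ^ k * g' * (y ^ k)⁻¹) * y⁻¹ := by
              rw [pow_succ']; group
          _ = (y * a ^ k) * g' * y⁻¹ := by rw [ih]; group
          _ = a ^ k * (y * g' * y⁻¹) := by rw [(hya.pow_right k).eq]; group
          _ = _ := by rw [heq, pow_succ]; group
    have hao : a ^ orderOf y = 1 := by
      have := hk (orderOf y)
      rw [pow_orderOf_eq_one, one_mul, inv_one, mul_one] at this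
      exact mul_eq_right.mp this.symm
    obtain ⟨l, hl⟩ := pCore_isPGroup q ⟨a, ha⟩
    have ha1 : a = 1 := by
      refine orderOf_eq_one_iff.mp (Nat.Coprime.eq_one_of_dvd ?_ (orderOf_dvd_of_pow_eq_one hao))
      exact Nat.Coprime.coprime_dvd_left (orderOf_dvd_of_pow_eq_one (congrArg Subtype.val hl))
        (hyo.symm.pow_left l)
    rw [ha1, one_mul] at heq
    exact congrArg Subtype.val heq
  let K := closure S
  haveI hKn : K.Normal := by
    refine ⟨fun x hx g => ?_⟩
    have : K ≤ K.comap (MulAut.conj g).toMonoidHom := (closure_le _).mpr fun y hy => by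
      refine subset_closure ⟨hCrn.conj_mem y hy.1 g, ?_⟩
      have e : orderOf (g * y * g⁻¹) = orderOf y :=
        orderOf_injective (MulAut.conj g).toMonoidHom (MulAut.conj g).injective y
      change (orderOf (g * y * g⁻¹)).Coprime q
      rw [e]; exact hy.2
    exact this hx
  have hKM : ∀ x ∈ K, (x : G) ∈ M := by
    intro x hx
    refine closure_induction (fun y hy => ?_) (one_mem M) (fun a b _ _ ha hb => mul_mem ha hb)
      (fun a _ ha => inv_mem ha) hx
    refine normalizer_le hM (map_subtype_le _) hQ (le_normalizer_O M q) (centralizer_le_normalizer _ ?_)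
    exact mem_centralizer_iff.mpr fun g hg => (mul_inv_eq_iff_eq_mul.mp (hcomm y hy g hg)).symm
  set R := (O M r).subgroupOf N with hR
  have hRp : IsPGroup r ↥R := (isPGroup_O M r).of_equiv (subgroupOfEquivOfLe (hMN r Fact.out)).symm
  have hRK : R ≤ K := fun x hx => subset_closure ⟨hRCr x hx x.2, by
    obtain ⟨n, hn⟩ := hRp ⟨x, hx⟩
    exact Nat.Coprime.coprime_dvd_left (orderOf_dvd_of_pow_eq_one (congrArg Subtype.val hn))
      (((Nat.coprime_primes Fact.out Fact.out).mpr hrq).pow_left n)⟩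
  haveI : (R.subgroupOf K).Normal := ⟨fun x hx k =>
    (mem_normalizer_iff.mp (le_normalizer_O M r (hKM k k.2)) _).mp hx⟩
  have hRs : R.IsSubnormal :=
    Subgroup.IsSubnormal.step _ K hRK hKn.isSubnormal inferInstance
  intro x hx
  exact ⟨⟨x, hMN r Fact.out hx⟩, le_pCore_of_subnormal hRs hRp hx, rfl⟩


/-- Let G be a non-abelian finite simple group and M ≠ N maximal subgroups of G with F*(M) ≤ N and F*(N) ≤ M. Then there is a prime p such that F*(M) and F*(N) are both p-groups. -/
theorem result {G : Type*} [Group G] [Finite G] [IsSimpleGroup G] (hna : ¬ IsMulCommutative G) (M N : Subgroup G) (hM : IsCoatom M) (hN : IsCoatom N) (hMN : M ≠ N) (h1 : (Cfsg.generalizedFittingSubgroup ↥M).map M.subtype ≤ N) (h2 : (Cfsg.generalizedFittingSubgroup ↥N).map N.subtype ≤ M) : ∃ p : ℕ, p.Prime ∧ IsPGroup p ↥(Cfsg.generalizedFittingSubgroup ↥M) ∧ IsPGroup p ↥(Cfsg.generalizedFittingSubgroup ↥N) := by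

  have hMf : ∀ q : ℕ, q.Prime → O M q ≤ N := fun q hq => by
    haveI := Fact.mk hq
    exact (Subgroup.map_mono ((pCore_le_fittingSubgroup q).trans fitting_le_genFitting)).trans h1
  have hNf : ∀ q : ℕ, q.Prime → O N q ≤ M := fun q hq => by
    haveI := Fact.mk hq
    exact (Subgroup.map_mono ((pCore_le_fittingSubgroup q).trans fitting_le_genFitting)).trans h2
  have hEM : E M ≤ N := (Subgroup.map_mono layer_le_genFitting).trans h1
  have hEN : E N ≤ M := (Subgroup.map_mono layer_le_genFitting).trans h2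
  have hE : E M = E N := le_antisymm (E_eq hEM hEN hNf) (E_eq hEN hEM hMf)
  have hE0 : E M = ⊥ := eq_bot_of_normalized hM hN hMN (Subgroup.map_subtype_le _) (le_normalizer_E M)
    (hE ▸ le_normalizer_E N)
  have hlM : layer ↥M = ⊥ := (Subgroup.map_eq_bot_iff_of_injective _ M.subtype_injective).mp hE0
  have hlN : layer ↥N = ⊥ :=
    (Subgroup.map_eq_bot_iff_of_injective _ N.subtype_injective).mp (hE.symm.trans hE0)
  have hex : ∀ X : Subgroup G, IsCoatom X → layer ↥X = ⊥ → ∃ p : ℕ, p.Prime ∧ O X p ≠ ⊥ := by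
    intro X hX hl
    by_contra hno
    push Not at hno
    have hF : generalizedFittingSubgroup ↥X = ⊥ := by
      rw [generalizedFittingSubgroup, hl, bot_sup_eq, eq_bot_iff]
      exact fittingSubgroup_le_iSup_pCore.trans (iSup_le fun q =>
        ((Subgroup.map_eq_bot_iff_of_injective _ X.subtype_injective).mp (hno q q.2)).le)
    have hX0 : X = ⊥ := by
      rw [eq_bot_iff]
      intro x hx
      have h := centralizer_genFitting_le (G := ↥X) (show (⟨x, hx⟩ : ↥X) ∈ _ by
        rw [hF, Subgroup.coe_bot, Subgroup.mem_centralizer_iff]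
        rintro y rfl
        simp)
      rw [hF, Subgroup.mem_bot] at h
      exact congrArg Subtype.val h
    subst hX0
    obtain ⟨g, hg⟩ : ∃ g : G, g ≠ 1 := exists_ne 1
    have htop : Subgroup.zpowers g = ⊤ := hX.2 _ (bot_lt_iff_ne_bot.mpr (by simpa using hg))
    apply hna
    refine ⟨⟨fun a b => ?_⟩⟩
    obtain ⟨i, rfl⟩ := Subgroup.mem_zpowers_iff.mp (htop.symm ▸ Subgroup.mem_top a)
    obtain ⟨j, rfl⟩ := Subgroup.mem_zpowers_iff.mp (htop.symm ▸ Subgroup.mem_top b)
    exact (Commute.refl g).zpow_zpow i j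
  have huniq : ∀ (X Y : Subgroup G), IsCoatom X → IsCoatom Y → X ≠ Y → layer ↥X = ⊥ → layer ↥Y = ⊥ →
      (∀ q : ℕ, q.Prime → O X q ≤ Y) → (∀ q : ℕ, q.Prime → O Y q ≤ X) →
      ∀ r q : ℕ, r.Prime → q.Prime → O X r ≠ ⊥ → O X q ≠ ⊥ → r = q := by
    intro X Y hX hY hXY hlX hlY hXf hYf r q hr hq hr1 hq1
    by_contra hne
    haveI := Fact.mk hr
    haveI := Fact.mk hq
    have a1 := O_le hX hlY hXf hYf hne hq1
    have a2 := O_le hX hlY hXf hYf (Ne.symm hne) hr1
    have hYq : O Y q ≠ ⊥ := fun h => hq1 (le_bot_iff.mp (h ▸ a2))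
    have a3 := O_le hY hlX hYf hXf hne hYq
    have heq : O X r = O Y r := le_antisymm a1 a3
    exact hr1 (eq_bot_of_normalized hX hY hXY (Subgroup.map_subtype_le _) (le_normalizer_O X r)
      (heq ▸ le_normalizer_O Y r))
  obtain ⟨p, hp, hp1⟩ := hex M hM hlM
  obtain ⟨q, hq, hq1⟩ := hex N hN hlN
  haveI := Fact.mk hp
  haveI := Fact.mk hq
  have hgf : ∀ (X : Subgroup G) (r : ℕ), r.Prime → layer ↥X = ⊥ →
      (∀ s : ℕ, s.Prime → O X s ≠ ⊥ → s = r) → generalizedFittingSubgroup ↥X ≤ pCore r ↥X := by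
    intro X r hr hl hu
    rw [generalizedFittingSubgroup, hl, bot_sup_eq]
    refine fittingSubgroup_le_iSup_pCore.trans (iSup_le fun s => ?_)
    by_cases h : O X s = ⊥
    · rw [(Subgroup.map_eq_bot_iff_of_injective _ X.subtype_injective).mp h]
      exact bot_le
    · rw [hu s s.2 h]
  have hFM := hgf M p hp hlM fun s hs h => huniq M N hM hN hMN hlM hlN hMf hNf s p hs hp h hp1
  have hFN := hgf N q hq hlN fun s hs h => huniq N M hN hM (Ne.symm hMN) hlN hlM hNf hMf s q hs hq h hq1
  have hpq : p = q := by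
    by_contra hne
    apply hp1
    have hsub : (O M p).subgroupOf N ≤ pCore q ↥N := by
      refine le_trans ?_ ((centralizer_genFitting_le (G := ↥N)).trans hFN)
      rw [Subgroup.le_centralizer_iff]
      refine hFN.trans fun y hy => Subgroup.mem_centralizer_iff.mpr fun x hx => Subtype.ext ?_
      exact commute_O hne (hMf p hp) (hNf q hq) x hx y ⟨y, hy, rfl⟩
    have h0 : (O M p).subgroupOf N = ⊥ := by
      have hc : Nat.card ↥((O M p).subgroupOf N) = 1 := by
        obtain ⟨i, hi⟩ := IsPGroup.iff_card.mp ((pCore_isPGroup q).to_le hsub)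
        obtain ⟨j, hj⟩ := IsPGroup.iff_card.mp
          ((isPGroup_O M p).of_equiv (Subgroup.subgroupOfEquivOfLe (hMf p hp)).symm)
        have hc : (p ^ j).Coprime (q ^ i) := Nat.Coprime.pow _ _ ((Nat.coprime_primes hp hq).mpr hne)
        rw [← hi, ← hj, Nat.coprime_self] at hc
        exact hc
      exact Subgroup.eq_bot_of_card_eq _ hc
    have := congrArg (Subgroup.map N.subtype) h0
    rwa [Subgroup.map_subgroupOf_eq_of_le (hMf p hp), Subgroup.map_bot] at this
  subst hpq
  exact ⟨p, hp, (pCore_isPGroup p).to_le hFM, (pCore_isPGroup p).to_le hFN⟩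

end Cfsg.Agent.S1312
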