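import Cfsg.Statements.S1313
import Cfsg.Agent.Lib.Components.Transport
import Cfsg.Agent.Lib.Components.GenFitting

set_option autoImplicit false
open Cfsg

namespace Cfsg.Agent.S1313

open Subgroup Cfsg.Agent.Lib.Components

theorem card_le_factorial {H : Type*} [Group H] [Finite H] :
    Nat.card H ≤ Nat.factorial (Nat.card ↥(generalizedFittingSubgroup H)) := by
  classical
  set F := generalizedFittingSubgroup H with hF
  let toPerm : MulAut ↥F →* Equiv.Perm {x : ↥F // x ≠ 1} :=
    { toFun := fun a => (a : ↥F ≃* ↥F).toEquiv.subtypeEquiv fun x => by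
        simp
      map_one' := by ext x; rfl
      map_mul' := fun a b => by ext x; rfl }
  let f := toPerm.comp (MulAut.conjNormal (H := F))
  have hker : f.ker ≤ F := by
    intro g hg
    refine centralizer_genFitting_le ?_
    rw [mem_centralizer_iff]
    intro y hy
    rcases eq_or_ne y 1 with rfl | hy1
    · simp
    have h1 : f g ⟨⟨y, hy⟩, fun e => hy1 (congrArg Subtype.val e)⟩ =
        ⟨⟨y, hy⟩, fun e => hy1 (congrArg Subtype.val e)⟩ := by
      rw [MonoidHom.mem_ker.mp hg]; rfl
    have h2 : g * y * g⁻¹ = y := congrArg (fun w : {x : ↥F // x ≠ 1} => ((w : ↥F) : H)) h1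
    calc y * g = g * y * g⁻¹ * g := by rw [h2]
      _ = g * y := by group
  have hn : 0 < Nat.card ↥F := Nat.card_pos
  have hcard : Nat.card {x : ↥F // x ≠ 1} = Nat.card ↥F - 1 := by
    have : Fintype ↥F := Fintype.ofFinite _
    rw [Nat.card_eq_fintype_card, Nat.card_eq_fintype_card, Fintype.card_subtype_compl]
    simp
  calc Nat.card H = Nat.card ↥f.ker * Nat.card ↥f.range := by
        rw [← Subgroup.card_mul_index f.ker, Subgroup.index_ker]
    _ ≤ Nat.card ↥F * Nat.card (Equiv.Perm {x : ↥F // x ≠ 1}) :=
        Nat.mul_le_mul (Nat.card_le_card_of_injective _ (Subgroup.inclusion_injective hker))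
          (Subgroup.card_le_card_group _)
    _ = Nat.factorial (Nat.card ↥F) := by
        rw [Nat.card_perm, hcard, Nat.mul_factorial_pred hn.ne']


/-- For a finite group H, |H| ≤ |F*(H)|!. -/
theorem result {H : Type*} [Group H] [Finite H] : Nat.card H ≤ Nat.factorial (Nat.card ↥(Cfsg.generalizedFittingSubgroup H)) := by
  exact card_le_factorial

end Cfsg.Agent.S1313
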