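import Cfsg.Statements.S1314
import Cfsg.Agent.Lib.Components.Basic

set_option autoImplicit false
open Cfsg

namespace Cfsg.Agent.S1314

open Subgroup Cfsg.Agent.Lib.Components
open scoped Pointwise commutatorElement


/-- Let x be an involution of a group G and L a perfect subgroup with ⁅L, x L x⁻¹⁆ = 1. Then l ↦ l (x l x⁻¹) is a group homomorphism π from L to G whose kernel is central in L and whose image lies in C_G(x); and the commutator subgroup of C_{L ⊔ xLx⁻¹}(x) equals the image of π. -/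
theorem result {G : Type*} [Group G] [Finite G] (x : G) (hx : orderOf x = 2) (L : Subgroup G) (hperf : ⁅L, L⁆ = L) (hcomm : ⁅L, L.map (MulAut.conj x).toMonoidHom⁆ = ⊥) : ∃ π : ↥L →* G, (∀ l : ↥L, π l = (l : G) * (x * (l : G) * x⁻¹)) ∧ π.ker ≤ Subgroup.center ↥L ∧ π.range ≤ Subgroup.centralizer ({x} : Set G) ∧ ⁅(L ⊔ L.map (MulAut.conj x).toMonoidHom) ⊓ Subgroup.centralizer ({x} : Set G), (L ⊔ L.map (MulAut.conj x).toMonoidHom) ⊓ Subgroup.centralizer ({x} : Set G)⁆ = π.range := by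
  set L' := L.map (MulAut.conj x).toMonoidHom with hL'
  have hx2 : x * x = 1 := by rw [← sq, ← hx, pow_orderOf_eq_one]
  have hxx : ∀ g : G, x * (x * g * x⁻¹) * x⁻¹ = g := fun g => by
    rw [show x * (x * g * x⁻¹) * x⁻¹ = (x * x) * g * (x * x)⁻¹ by group, hx2]; group
  have hLL : ∀ a ∈ L, ∀ b ∈ L, a * (x * b * x⁻¹) = x * b * x⁻¹ * a := fun a ha b hb =>
    commute_of_commutator_eq_bot hcomm ha ⟨b, hb, rfl⟩
  let π : ↥L →* G :=
    { toFun := fun l => (l : G) * (x * (l : G) * x⁻¹)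
      map_one' := by simp
      map_mul' := fun a b => by
        simp only [Subgroup.coe_mul]
        calc (a : G) * b * (x * ((a : G) * b) * x⁻¹)
            = a * ((b : G) * (x * a * x⁻¹)) * (x * b * x⁻¹) := by group
          _ = a * (x * a * x⁻¹ * b) * (x * b * x⁻¹) := by rw [hLL b b.2 a a.2]
          _ = _ := by group }
  have hπx : ∀ l : ↥L, x * π l * x⁻¹ = π l := fun l => by
    show x * ((l : G) * (x * (l : G) * x⁻¹)) * x⁻¹ = (l : G) * (x * (l : G) * x⁻¹)
    calc x * ((l : G) * (x * (l : G) * x⁻¹)) * x⁻¹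
        = (x * l * x⁻¹) * (x * (x * (l : G) * x⁻¹) * x⁻¹) := by group
      _ = (x * l * x⁻¹) * l := by rw [hxx]
      _ = _ := (hLL l l.2 l l.2).symm
  refine ⟨π, fun l => rfl, ?_, ?_, ?_⟩
  · intro l hl
    rw [mem_center_iff]
    intro b
    apply Subtype.ext
    have hl1 : (l : G) * (x * (l : G) * x⁻¹) = 1 := hl
    have hl2 : (l : G) = x * (l : G)⁻¹ * x⁻¹ :=
      (eq_inv_of_mul_eq_one_left hl1).trans (by group)
    show (b : G) * l = l * b
    rw [hl2]
    exact hLL b b.2 _ (inv_mem l.2)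
  · rintro _ ⟨l, rfl⟩
    rw [mem_centralizer_singleton_iff]
    conv_lhs => rw [← hπx l]
    rw [inv_mul_cancel_right]
  set C := (L ⊔ L') ⊓ centralizer ({x} : Set G) with hC
  have hπC : π.range ≤ C := by
    rintro _ ⟨l, rfl⟩
    refine ⟨mul_mem_sup l.2 ⟨l, l.2, rfl⟩, mem_centralizer_singleton_iff.mpr ?_⟩
    conv_lhs => rw [← hπx l]
    rw [inv_mul_cancel_right]
  have hperf' : ⁅π.range, π.range⁆ = π.range := by
    have htop : ⁅(⊤ : Subgroup ↥L), (⊤ : Subgroup ↥L)⁆ = ⊤ := by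
      apply map_injective L.subtype_injective
      rw [map_commutator, ← MonoidHom.range_eq_map, range_subtype, hperf]
    rw [MonoidHom.range_eq_map, ← map_commutator, htop]
  refine le_antisymm ?_ (hperf'.ge.trans (commutator_mono hπC hπC))
  have hcen : L' ≤ centralizer (L : Set G) := le_centralizer_of_commutator_eq_bot
    (by rw [Subgroup.commutator_comm]; exact hcomm)
  have hdec : ∀ c ∈ C, ∃ l : ↥L, ∀ d ∈ L ⊔ L', Commute ((π l)⁻¹ * c) d := by
    rintro c ⟨hc, hcx⟩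
    have hset : ((L ⊔ L' : Subgroup G) : Set G) = (L : Set G) * (L' : Set G) :=
      coe_mul_of_right_le_normalizer_left _ _ (hcen.trans (centralizer_le_normalizer _))
    change c ∈ ((L ⊔ L' : Subgroup G) : Set G) at hc
    rw [hset] at hc
    obtain ⟨a, ha, _, ⟨b, hb, rfl⟩, rfl⟩ := hc
    have hcx' : a * (x * b * x⁻¹) = b * (x * a * x⁻¹) := by
      have h := mem_centralizer_singleton_iff.mp hcx
      calc a * (x * b * x⁻¹) = x * (a * (x * b * x⁻¹)) * x⁻¹ := by
            conv_rhs => rw [show x * (a * (x * b * x⁻¹)) = a * (x * b * x⁻¹) * x from h.symm]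
            rw [mul_inv_cancel_right]
        _ = (x * a * x⁻¹) * (x * (x * b * x⁻¹) * x⁻¹) := by group
        _ = (x * a * x⁻¹) * b := by rw [hxx]
        _ = b * (x * a * x⁻¹) := (hLL b hb a ha).symm
    set z := x * (a⁻¹ * b) * x⁻¹ with hz
    have hzL : z ∈ L := by
      have h1 : b⁻¹ * a = x * (a * b⁻¹) * x⁻¹ := by
        calc b⁻¹ * a = b⁻¹ * (a * (x * b * x⁻¹)) * (x * b * x⁻¹)⁻¹ := by group
          _ = _ := by rw [hcx']; group
      rw [hz, show x * (a⁻¹ * b) * x⁻¹ = (x * (b⁻¹ * a) * x⁻¹)⁻¹ by group, h1, hxx]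
      exact inv_mem (mul_mem ha (inv_mem hb))
    refine ⟨⟨a, ha⟩, fun d hd => ?_⟩
    have he : (π ⟨a, ha⟩)⁻¹ * (a * (x * b * x⁻¹)) = z := by
      show ((a : G) * (x * a * x⁻¹))⁻¹ * (a * (x * b * x⁻¹)) = z
      rw [hz]; group
    show Commute ((π ⟨a, ha⟩)⁻¹ * (a * (MulAut.conj x).toMonoidHom b)) d
    rw [show (MulAut.conj x).toMonoidHom b = x * b * x⁻¹ from rfl, he]
    have hle : L ⊔ L' ≤ centralizer ({z} : Set G) := by
      refine sup_le (fun w hw => mem_centralizer_singleton_iff.mpr ?_) ?_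
      · exact hLL w hw _ (mul_mem (inv_mem ha) hb)
      · rintro _ ⟨w, hw, rfl⟩
        exact mem_centralizer_singleton_iff.mpr (hLL z hzL w hw).symm
    exact (mem_centralizer_singleton_iff.mp (hle hd)).symm
  rw [commutator_le]
  intro c hc d hd
  obtain ⟨l, hl⟩ := hdec c hc
  obtain ⟨k, hk⟩ := hdec d hd
  set u := (π l)⁻¹ * c with hu
  set w := (π k)⁻¹ * d with hw
  have hu1 : ∀ y ∈ π.range, Commute u y := fun y hy => hl y (hπC hy).1
  have hw1 : ∀ y ∈ π.range, Commute w y := fun y hy => hk y (hπC hy).1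
  have huw : Commute u w := hl w (mul_mem (inv_mem (hπC ⟨k, rfl⟩).1) hd.1)
  have hce : c = π l * u := by rw [hu]; group
  have hde : d = π k * w := by rw [hw]; group
  have a1 := (hu1 _ ⟨k, rfl⟩).eq
  have a2 := (hw1 _ ⟨l, rfl⟩).eq
  have : ⁅c, d⁆ = ⁅π l, π k⁆ := by
    have e1 : u * (π k) * u⁻¹ = π k := by rw [a1, mul_inv_cancel_right]
    have e2 : u * w * u⁻¹ = w := by rw [huw.eq, mul_inv_cancel_right]
    have e3 : w * (π l)⁻¹ * w⁻¹ = (π l)⁻¹ := by
      rw [show w * (π l)⁻¹ * w⁻¹ = (w * π l * w⁻¹)⁻¹ by group, a2, mul_inv_cancel_right]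
    rw [hce, hde, commutatorElement_def, commutatorElement_def]
    calc π l * u * (π k * w) * (π l * u)⁻¹ * (π k * w)⁻¹
        = π l * (u * π k * u⁻¹) * (u * w * u⁻¹) * (π l)⁻¹ * w⁻¹ * (π k)⁻¹ := by group
      _ = π l * π k * (w * (π l)⁻¹ * w⁻¹) * (π k)⁻¹ := by rw [e1, e2]; group
      _ = _ := by rw [e3]
  rw [this, ← map_commutatorElement]
  exact ⟨_, rfl⟩

end Cfsg.Agent.S1314
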