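import Cfsg.Statements.S1316
import Cfsg.Agent.Lib.Components.GenFitting

set_option autoImplicit false
open Cfsg

namespace Cfsg.Agent.S1316

open Subgroup Cfsg.Agent.Lib.Components
open scoped commutatorElement

theorem layer_eq_iInf_derivedSeries {X : Type*} [Group X] [Finite X] :
    (⨅ n : ℕ, (derivedSeries ↥(generalizedFittingSubgroup X) n).map
      (generalizedFittingSubgroup X).subtype) = layer X := by
  set F := generalizedFittingSubgroup X
  refine le_antisymm ?_ (le_iInf fun n => ?_)
  · have := fittingSubgroup_isSolvable (G := X)
    obtain ⟨n, hn⟩ := Group.IsSolvable.solvable (G := ↥(fittingSubgroup X))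
    refine (iInf_le _ n).trans ?_
    have key : ∀ k, (derivedSeries ↥F k).map F.subtype ≤
        layer X ⊔ (derivedSeries ↥(fittingSubgroup X) k).map (fittingSubgroup X).subtype := by
      intro k
      induction k with
      | zero =>
        rw [derivedSeries_zero, derivedSeries_zero, ← MonoidHom.range_eq_map, range_subtype,
          ← MonoidHom.range_eq_map, range_subtype]
        exact le_rfl
      | succ k ih =>
        rw [derivedSeries_succ, derivedSeries_succ, map_commutator, map_commutator]
        set D := (derivedSeries ↥(fittingSubgroup X) k).map (fittingSubgroup X).subtype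
        refine (commutator_mono ih ih).trans ?_
        rw [Subgroup.commutator_le]
        intro a ha b hb
        rw [mem_sup_of_normal_left] at ha hb ⊢
        obtain ⟨e, he, u, hu, rfl⟩ := ha
        obtain ⟨f, hf, v, hv, rfl⟩ := hb
        have hc : ∀ y ∈ layer X, ∀ w ∈ D, Commute y w := fun y hy w hw =>
          commute_of_commutator_eq_bot commutator_layer_fittingSubgroup hy (map_subtype_le _ hw)
        refine ⟨⁅e, f⁆, ?_, ⁅u, v⁆, commutator_mem_commutator hu hv, ?_⟩
        · rw [← layer_commutator_self X]; exact commutator_mem_commutator he hf
        · have h1 : ⁅e, f * v⁆ = ⁅e, f⁆ := by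
            rw [commutatorElement_mul_right_eq_mul_conj, (hc e he v hv).commutator_eq]; group
          have h2 : ⁅u, f * v⁆ = ⁅u, v⁆ := by
            rw [commutatorElement_mul_right_eq_mul_conj, (hc f hf u hu).symm.commutator_eq, one_mul,
              ((hc f hf ⁅u, v⁆ (D.mul_mem (D.mul_mem (D.mul_mem hu hv) (D.inv_mem hu))
                (D.inv_mem hv))).eq)]
            group
          rw [commutatorElement_mul_left_eq_conj_mul, h1, h2,
            ((hc e he ⁅u, v⁆ (D.mul_mem (D.mul_mem (D.mul_mem hu hv) (D.inv_mem hu))
              (D.inv_mem hv))).eq)]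
          have h3 := (hc ⁅e, f⁆ (by rw [← layer_commutator_self X]; exact
              commutator_mem_commutator he hf) ⁅u, v⁆ (D.mul_mem (D.mul_mem (D.mul_mem hu hv)
                (D.inv_mem hu)) (D.inv_mem hv))).eq
          rw [h3]
          group
    refine (key n).trans ?_
    rw [hn, Subgroup.map_bot, sup_bot_eq]
  · induction n with
    | zero => rw [derivedSeries_zero, ← MonoidHom.range_eq_map, range_subtype]; exact le_sup_left
    | succ k ih =>
      rw [derivedSeries_succ, map_commutator]
      exact (layer_commutator_self X).ge.trans (commutator_mono ih ih)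

/-- For a finite group X, E(X) equals the intersection of the derived series of F*(X) (its last term). -/
theorem result {X : Type*} [Group X] [Finite X] : (⨅ n : ℕ, (derivedSeries ↥(Cfsg.generalizedFittingSubgroup X) n).map (Cfsg.generalizedFittingSubgroup X).subtype) = Cfsg.layer X := by
  open Cfsg.Agent.Lib.Components in
  exact layer_eq_iInf_derivedSeries

end Cfsg.Agent.S1316
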