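import Cfsg.Statements.S1321
import Cfsg.Agent.Lib.Components.Transport
import Cfsg.Agent.Lib.Components.GenFitting

set_option autoImplicit false
open Cfsg

namespace Cfsg.Agent.S1321

open Subgroup Cfsg.Agent.Lib.Components

theorem layer_eq_sup {X : Type*} [Group X] [Finite X] (U : Subgroup X) :
    layer X = (layer X ⊓ centralizer (U : Set X)) ⊔ ⁅layer X, U⁆ ∧ ⁅layer X, U⁆ ≤ layer X := by
  have hle : ⁅layer X, U⁆ ≤ layer X := commutator_le_left _ _
  refine ⟨le_antisymm (layer_le_iff.mpr fun L hL => ?_) (sup_le inf_le_left hle), hle⟩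
  have hs : ⁅layer X, U⁆.IsSubnormal :=
    Subgroup.IsSubnormal.step _ _ hle (Subgroup.Normal.isSubnormal layer_normal)
      (normal_subgroupOf_of_le_normalizer (normalizer_commutator_ge_left _ _))
  rcases IsComponent.le_or_commutator_eq_bot hL hs with h | h
  · exact h.trans le_sup_right
  · refine le_sup_of_le_left (le_inf (IsComponent.le_layer hL) ?_)
    refine le_centralizer_of_commutator_eq_bot
      (commutator_eq_bot_of_perfect (IsComponent.commutator_self hL) ?_)
    rw [eq_bot_iff, ← h, commutator_comm L ⁅layer X, U⁆]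
    exact commutator_mono (commutator_mono (IsComponent.le_layer hL) le_rfl) le_rfl


/-- Let X be finite and U ≤ X. Then E(X) is generated by C_{E(X)}(U) together with ⁅E(X), U⁆ (indeed it is their product, ⁅E(X), U⁆ being normal in E(X)). -/
theorem result {X : Type*} [Group X] [Finite X] (U : Subgroup X) : Cfsg.layer X = (Cfsg.layer X ⊓ Subgroup.centralizer (U : Set X)) ⊔ ⁅Cfsg.layer X, U⁆ ∧ ⁅Cfsg.layer X, U⁆ ≤ Cfsg.layer X := by
  exact layer_eq_sup U

end Cfsg.Agent.S1321
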