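import Cfsg.Statements.S1323
import Cfsg.Agent.Lib.Components.Quasisimple
import Mathlib.GroupTheory.SpecificGroups.Alternating.Simple

set_option autoImplicit false
open Cfsg

namespace Cfsg.Agent.S1323

open Subgroup Cfsg Cfsg.Agent.Lib.Components Equiv

variable {n : ℕ}

theorem normalizer_le_normalizer_centralizer {G : Type*} [Group G] (L : Subgroup G) :
    normalizer (L : Set G) ≤ normalizer (centralizer (L : Set G) : Set G) := by
  intro g hg
  rw [Subgroup.mem_normalizer_iff]
  intro x
  simp only [mem_centralizer_iff]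
  refine ⟨fun h l hl => ?_, fun h l hl => ?_⟩
  · have := h _ ((Subgroup.mem_normalizer_iff''.mp hg l).mp hl)
    calc l * (g * x * g⁻¹) = g * (g⁻¹ * l * g * x) * g⁻¹ := by group
      _ = g * (x * (g⁻¹ * l * g)) * g⁻¹ := by rw [this]
      _ = g * x * g⁻¹ * l := by group
  · have := h _ ((Subgroup.mem_normalizer_iff.mp hg l).mp hl)
    calc l * x = g⁻¹ * (g * l * g⁻¹ * (g * x * g⁻¹)) * g := by group
      _ = g⁻¹ * (g * x * g⁻¹ * (g * l * g⁻¹)) * g := by rw [this]
      _ = x * l := by group

theorem inv_app (g : Perm (Fin n)) (x : Fin n) : g⁻¹ (g x) = x := g.symm_apply_apply x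

theorem app_inv (g : Perm (Fin n)) (x : Fin n) : g (g⁻¹ x) = x := g.apply_symm_apply x

/-- the three-cycle `i ↦ k ↦ j` -/
def cyc3 (i j k : Fin n) (hij : i ≠ j) (hik : i ≠ k) : ↥(alternatingGroup (Fin n)) :=
  ⟨swap i j * swap i k, by
    rw [Perm.mem_alternatingGroup, map_mul, Perm.sign_swap hij, Perm.sign_swap hik]; decide⟩

theorem exists_ge_avoiding (hn : 9 ≤ n) (s : Finset (Fin n)) (hs : s.card ≤ 4) :
    ∃ x : Fin n, 4 ≤ (x : ℕ) ∧ x ∉ s := by
  by_contra hno
  push Not at hno
  let f : Fin (n - 4) → Fin n := fun i => ⟨i + 4, by omega⟩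
  have hf : Function.Injective f := fun a b h => Fin.ext (by simpa [f] using congrArg Fin.val h)
  have h1 : (Finset.univ.image f).card = n - 4 := by
    rw [Finset.card_image_of_injective _ hf, Finset.card_univ, Fintype.card_fin]
  have h2 : Finset.univ.image f ⊆ s := by
    intro x hx
    obtain ⟨i, -, rfl⟩ := Finset.mem_image.mp hx
    exact hno _ (by simp [f])
  have := Finset.card_le_card h2
  omega

theorem main (n : ℕ) (hn : 9 ≤ n) (L : Subgroup ↥(alternatingGroup (Fin n)))
    (hL : ∀ x, x ∈ L ↔ ∀ s : Fin n, (s : ℕ) < 4 → (x : Perm (Fin n)) s = s) :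
    IsStandardSubgroup L := by
  classical
  -- every point outside the four is moved by `L`, and three-cycles on them lie in `L`
  have hcyc : ∀ i j k : Fin n, ∀ hij : i ≠ j, ∀ hik : i ≠ k, 4 ≤ (i : ℕ) → 4 ≤ (j : ℕ) → 4 ≤ (k : ℕ) →
      cyc3 i j k hij hik ∈ L := by
    intro i j k hij hik hi hj hk
    rw [hL]
    intro s hs
    have h1 : s ≠ i := fun h => by subst h; omega
    have h2 : s ≠ j := fun h => by subst h; omega
    have h3 : s ≠ k := fun h => by subst h; omega
    show swap i j (swap i k s) = s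
    rw [swap_apply_of_ne_of_ne h1 h3, swap_apply_of_ne_of_ne h1 h2]
  have hmove : ∀ i : Fin n, 4 ≤ (i : ℕ) → ∃ l ∈ L, (l : Perm (Fin n)) i ≠ i := by
    intro i hi
    obtain ⟨j, hj, hji⟩ := exists_ge_avoiding hn {i} (by simp)
    obtain ⟨k, hk, hk'⟩ := exists_ge_avoiding hn {i, j} (Finset.card_le_two.trans (by omega))
    simp only [Finset.mem_insert, Finset.mem_singleton, not_or] at hji hk'
    refine ⟨_, hcyc i j k (Ne.symm hji) (Ne.symm hk'.1) hi hj hk, ?_⟩
    show swap i j (swap i k i) ≠ i
    rw [swap_apply_left, swap_apply_of_ne_of_ne hk'.1 hk'.2]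
    exact hk'.1
  -- the centralizer
  generalize hK : centralizer (L : Set ↥(alternatingGroup (Fin n))) = K
  have hmemK : ∀ x, x ∈ K ↔ ∀ i : Fin n, 4 ≤ (i : ℕ) → (x : Perm (Fin n)) i = i := by
    intro x
    rw [← hK, mem_centralizer_iff]
    constructor
    · intro h i hi
      obtain ⟨j, hj, hji⟩ := exists_ge_avoiding hn {i} (by simp)
      obtain ⟨k, hk, hk'⟩ := exists_ge_avoiding hn {i, j} (Finset.card_le_two.trans (by omega))
      obtain ⟨l, hl, hl'⟩ := exists_ge_avoiding hn {i, j, k} (Finset.card_le_three.trans (by omega))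
      obtain ⟨m, hm, hm'⟩ := exists_ge_avoiding hn {i, j, k, l}
        (Finset.card_le_four.trans (by omega))
      simp only [Finset.mem_insert, Finset.mem_singleton, not_or] at hji hk' hl' hm'
      have key : ∀ j k : Fin n, ∀ hij : i ≠ j, ∀ hik : i ≠ k, k ≠ j → 4 ≤ (j : ℕ) → 4 ≤ (k : ℕ) →
          (x : Perm (Fin n)) i = i ∨ (x : Perm (Fin n)) i = j ∨ (x : Perm (Fin n)) i = k := by
        intro j k hij hik hkj hj hk
        by_contra hno
        simp only [not_or] at hno
        have hc := congrArg (fun y : ↥(alternatingGroup (Fin n)) => (y : Perm (Fin n)) i)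
          (h _ (hcyc i j k hij hik hi hj hk))
        change swap i j (swap i k ((x : Perm (Fin n)) i)) =
          (x : Perm (Fin n)) (swap i j (swap i k i)) at hc
        rw [swap_apply_of_ne_of_ne hno.1 hno.2.2, swap_apply_of_ne_of_ne hno.1 hno.2.1,
          swap_apply_left, swap_apply_of_ne_of_ne (Ne.symm hik) hkj] at hc
        exact hik ((x : Perm (Fin n)).injective hc)
      rcases key j k (Ne.symm hji) (Ne.symm hk'.1) hk'.2 hj hk with h1 | h1 | h1 <;>
        rcases key l m (Ne.symm hl'.1) (Ne.symm hm'.1) hm'.2.2.2 hl hm with h2 | h2 | h2 <;>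
        first
          | exact h1
          | exact h2
          | exact absurd (h1.symm.trans h2) (Ne.symm hl'.2.1)
          | exact absurd (h1.symm.trans h2) (Ne.symm hl'.2.2)
          | exact absurd (h1.symm.trans h2) (Ne.symm hm'.2.1)
          | exact absurd (h1.symm.trans h2) (Ne.symm hm'.2.2.1)
    · intro h l hl
      refine Subtype.ext (Equiv.ext fun s => ?_)
      show (l : Perm (Fin n)) ((x : Perm (Fin n)) s) = (x : Perm (Fin n)) ((l : Perm (Fin n)) s)
      by_cases hs : (s : ℕ) < 4
      · rw [(hL l).mp hl s hs]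
        refine (hL l).mp hl _ ?_
        by_contra hge
        push Not at hge
        have := (x : Perm (Fin n)).injective (h _ hge)
        rw [this] at hge; omega
      · rw [h s (by omega)]
        symm
        refine h _ ?_
        by_contra hlt
        push Not at hlt
        have := (l : Perm (Fin n)).injective ((hL l).mp hl _ hlt)
        rw [this] at hlt; omega
  -- `K` moves each of the four points
  have hV : ∀ s : Fin n, (s : ℕ) < 4 → ∃ k ∈ K, (k : Perm (Fin n)) s ≠ s ∧ orderOf k = 2 := by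
    let a : Fin n := ⟨0, by omega⟩
    let b : Fin n := ⟨1, by omega⟩
    let c : Fin n := ⟨2, by omega⟩
    let d : Fin n := ⟨3, by omega⟩
    have hab : a ≠ b := by simp [a, b]
    have hcd : c ≠ d := by simp [c, d]
    let v : ↥(alternatingGroup (Fin n)) := ⟨swap a b * swap c d, by
      rw [Perm.mem_alternatingGroup, map_mul, Perm.sign_swap hab, Perm.sign_swap hcd]; decide⟩
    have hac : a ≠ c := by simp [a, c]
    have had : a ≠ d := by simp [a, d]
    have hbc : b ≠ c := by simp [b, c]
    have hbd : b ≠ d := by simp [b, d]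
    have hv : ∀ s : Fin n, (s : ℕ) < 4 → (v : Perm (Fin n)) s ≠ s := by
      intro s hs
      show swap a b (swap c d s) ≠ s
      have hcases : s = a ∨ s = b ∨ s = c ∨ s = d := by
        simp only [a, b, c, d, Fin.ext_iff]; omega
      rcases hcases with rfl | rfl | rfl | rfl
      · rw [swap_apply_of_ne_of_ne hac had, swap_apply_left]; exact hab.symm
      · rw [swap_apply_of_ne_of_ne hbc hbd, swap_apply_right]; exact hab
      · rw [swap_apply_left, swap_apply_of_ne_of_ne had.symm hbd.symm]; exact hcd.symm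
      · rw [swap_apply_right, swap_apply_of_ne_of_ne hac.symm hbc.symm]; exact hcd
    intro s hs
    refine ⟨v, (hmemK v).mpr fun i hi => ?_, hv s hs, ?_⟩
    · show swap a b (swap c d i) = i
      have hne : ∀ e : Fin n, (e : ℕ) < 4 → i ≠ e := fun e he h => by subst h; omega
      rw [swap_apply_of_ne_of_ne (hne c (by simp [c])) (hne d (by simp [d])),
        swap_apply_of_ne_of_ne (hne a (by simp [a])) (hne b (by simp [b]))]
    · refine orderOf_eq_prime ?_ fun h => hv s hs (by rw [h]; rfl)
      have hcomm : Commute (swap a b) (swap c d) :=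
        (Perm.disjoint_iff_eq_or_eq.mpr fun i => by
          by_cases h1 : i = c
          · exact Or.inl (h1 ▸ swap_apply_of_ne_of_ne hac.symm hbc.symm)
          by_cases h2 : i = d
          · exact Or.inl (h2 ▸ swap_apply_of_ne_of_ne had.symm hbd.symm)
          · exact Or.inr (swap_apply_of_ne_of_ne h1 h2)).commute
      refine Subtype.ext ?_
      show (swap a b * swap c d) ^ 2 = 1
      rw [hcomm.mul_pow, pow_two, pow_two, swap_mul_self, swap_mul_self, one_mul]
  -- normalizer of `K` preserves the four points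
  have hpres : ∀ g ∈ normalizer (K : Set ↥(alternatingGroup (Fin n))), ∀ s : Fin n,
      ((g : Perm (Fin n)) s : ℕ) < 4 → (s : ℕ) < 4 := by
    intro g hg s hs
    by_contra hge
    obtain ⟨k, hk, hks, -⟩ := hV _ hs
    have hk' : g⁻¹ * k * g ∈ K := (Subgroup.mem_normalizer_iff''.mp hg k).mp hk
    have h1 := (hmemK _).mp hk' s (by omega)
    change (g : Perm (Fin n))⁻¹ ((k : Perm (Fin n)) ((g : Perm (Fin n)) s)) = s at h1
    rw [Perm.inv_eq_iff_eq] at h1
    exact hks h1
  refine ⟨?_, ⟨?_, fun g hg => ?_⟩, fun g _ hcomm => ?_, ?_⟩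
  · -- quasisimple
    have hcard : 5 ≤ Nat.card {i : Fin n // 4 ≤ (i : ℕ)} := by
      let f : Fin 5 → {i : Fin n // 4 ≤ (i : ℕ)} := fun i => ⟨⟨i + 4, by omega⟩, by simp⟩
      have := Nat.card_le_card_of_injective f fun a b h => Fin.ext (by simpa [f] using h)
      simpa using this
    let f : ↥(alternatingGroup {i : Fin n // 4 ≤ (i : ℕ)}) →* ↥(alternatingGroup (Fin n)) :=
      (Perm.ofSubtype.comp (alternatingGroup {i : Fin n // 4 ≤ (i : ℕ)}).subtype).codRestrict _
        fun x => by
          rw [Perm.mem_alternatingGroup]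
          exact (Perm.sign_ofSubtype _).trans (Perm.mem_alternatingGroup.mp x.2)
    have hf : Function.Injective f := fun x y h =>
      Subtype.ext (Perm.ofSubtype_injective (congrArg Subtype.val h))
    have hrange : f.range = L := by
      ext x
      constructor
      · rintro ⟨y, rfl⟩
        exact (hL _).mpr fun s hs => Perm.ofSubtype_apply_of_not_mem _ (by omega)
      · intro hx
        have h1 : ∀ i : Fin n, 4 ≤ ((x : Perm (Fin n)) i : ℕ) ↔ 4 ≤ (i : ℕ) := by
          intro i
          constructor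
          · intro h
            by_contra hlt
            rw [(hL x).mp hx i (by omega)] at h
            exact hlt h
          · intro h
            by_contra hlt
            have := (x : Perm (Fin n)).injective ((hL x).mp hx _ (by omega : (((x : Perm (Fin n)) i : ℕ) < 4)))
            rw [this] at hlt
            exact hlt h
        have h2 : Perm.ofSubtype (Perm.subtypePerm (p := fun i : Fin n => 4 ≤ (i : ℕ)) (x : Perm (Fin n)) h1) = (x : Perm (Fin n)) :=
          Perm.ofSubtype_subtypePerm (p := fun i : Fin n => 4 ≤ (i : ℕ)) h1 fun i hi => by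
            by_contra hlt
            exact hi ((hL x).mp hx i (by omega))
        have h3 : Perm.subtypePerm (p := fun i : Fin n => 4 ≤ (i : ℕ)) (x : Perm (Fin n)) h1 ∈
            alternatingGroup {i : Fin n // 4 ≤ (i : ℕ)} := by
          rw [Perm.mem_alternatingGroup, ← Perm.sign_ofSubtype, h2]
          exact Perm.mem_alternatingGroup.mp x.2
        exact ⟨⟨_, h3⟩, Subtype.ext h2⟩
    let e := (MonoidHom.ofInjective hf).trans (MulEquiv.subgroupCongr hrange)
    haveI hs := alternatingGroup.isSimpleGroup (α := {i : Fin n // 4 ≤ (i : ℕ)}) hcard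
    haveI : Nontrivial ↥L := e.symm.toEquiv.nontrivial
    haveI : IsSimpleGroup ↥L := IsSimpleGroup.isSimpleGroup_of_surjective e.toMonoidHom e.surjective
    refine isQuasisimple_of_simple fun hc => ?_
    obtain ⟨i, hi, -⟩ := exists_ge_avoiding hn ∅ (by simp)
    obtain ⟨j, hj, hji⟩ := exists_ge_avoiding hn {i} (by simp)
    obtain ⟨k, hk, hk'⟩ := exists_ge_avoiding hn {i, j} (Finset.card_le_two.trans (by omega))
    obtain ⟨l, hl, hl'⟩ := exists_ge_avoiding hn {i, j, k} (Finset.card_le_three.trans (by omega))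
    simp only [Finset.mem_insert, Finset.mem_singleton, not_or] at hji hk' hl'
    have h1 := hc.is_comm.comm ⟨_, hcyc i j k (Ne.symm hji) (Ne.symm hk'.1) hi hj hk⟩
      ⟨_, hcyc i j l (Ne.symm hji) (Ne.symm hl'.1) hi hj hl⟩
    have h2 := congrArg (fun y : ↥L => ((y : ↥(alternatingGroup (Fin n))) : Perm (Fin n)) i) h1
    change swap i j (swap i k (swap i j (swap i l i))) = swap i j (swap i l (swap i j (swap i k i))) at h2
    rw [swap_apply_left, swap_apply_of_ne_of_ne hl'.1 hl'.2.1, swap_apply_of_ne_of_ne hl'.1 hl'.2.2,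
      swap_apply_of_ne_of_ne hl'.1 hl'.2.1, swap_apply_left,
      swap_apply_of_ne_of_ne hk'.1 hk'.2, swap_apply_of_ne_of_ne hk'.1 (Ne.symm hl'.2.2),
      swap_apply_of_ne_of_ne hk'.1 hk'.2] at h2
    exact hl'.2.2 h2
  · rw [hK]
    obtain ⟨k, hk, -, hk2⟩ := hV ⟨0, by omega⟩ (by simp)
    exact even_iff_two_dvd.mpr (hk2 ▸ K.orderOf_dvd_natCard hk)
  · rw [hK] at hg ⊢
    -- some of the four points is fixed by the intersection
    obtain ⟨i, hi, hgi⟩ : ∃ i : Fin n, 4 ≤ (i : ℕ) ∧ ((g : Perm (Fin n)) i : ℕ) < 4 := by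
      by_contra hno
      push Not at hno
      refine hg ?_
      have hto : Set.MapsTo (g : Perm (Fin n)) {i : Fin n | 4 ≤ (i : ℕ)} {i | 4 ≤ (i : ℕ)} :=
        fun i hi => hno i hi
      have hiff : ∀ i : Fin n, 4 ≤ ((g : Perm (Fin n)) i : ℕ) ↔ 4 ≤ (i : ℕ) := fun i => by
        refine ⟨fun h => ?_, hno i⟩
        obtain ⟨j, hj, he⟩ := ((Set.toFinite _).injOn_iff_bijOn_of_mapsTo hto).mp
          (g : Perm (Fin n)).injective.injOn |>.surjOn h
        exact (g : Perm (Fin n)).injective he ▸ hj
      rw [Subgroup.mem_normalizer_iff'']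
      intro x
      rw [hmemK, hmemK]
      refine ⟨fun h i hi => ?_, fun h i hi => ?_⟩
      · show (g : Perm (Fin n))⁻¹ ((x : Perm (Fin n)) ((g : Perm (Fin n)) i)) = i
        rw [h _ (hno i hi), inv_app]
      · have hj : 4 ≤ (((g : Perm (Fin n))⁻¹ i : Fin n) : ℕ) := by
          rw [← hiff, app_inv]; exact hi
        have := h _ hj
        change (g : Perm (Fin n))⁻¹ ((x : Perm (Fin n)) ((g : Perm (Fin n)) ((g : Perm (Fin n))⁻¹ i))) = _ at this
        rw [app_inv] at this
        exact (g : Perm (Fin n))⁻¹.injective this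
    rw [← Nat.not_even_iff_odd]
    intro heven
    obtain ⟨w, hw⟩ := exists_prime_orderOf_dvd_card' (G := ↥(K ⊓ K.map (MulAut.conj g).toMonoidHom)) 2
      (even_iff_two_dvd.mp heven)
    obtain ⟨hwK, x, hx, hxw⟩ := w.2
    generalize hσ : ((w : ↥(alternatingGroup (Fin n))) : Perm (Fin n)) = σ at *
    have hσ2 : orderOf σ = 2 := by rw [← hσ, Subgroup.orderOf_coe, Subgroup.orderOf_coe, hw]
    have hσfix : ∀ t : Fin n, 4 ≤ (t : ℕ) ∨ t = (g : Perm (Fin n)) i → σ t = t := by
      rintro t (ht | rfl)
      · rw [← hσ]; exact (hmemK _).mp hwK t ht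
      · rw [← hσ, ← hxw]
        show (g : Perm (Fin n)) ((x : Perm (Fin n)) ((g : Perm (Fin n))⁻¹ ((g : Perm (Fin n)) i))) = _
        rw [inv_app, (hmemK x).mp hx i hi]
    have hsupp : σ.support.card ≤ 3 := by
      let emb : Fin 4 → Fin n := Fin.castLE (by omega)
      have hsub : σ.support ⊆ (Finset.univ.image emb).erase ((g : Perm (Fin n)) i) := by
        intro t ht
        rw [Perm.mem_support] at ht
        refine Finset.mem_erase.mpr ⟨fun h => ht (hσfix t (Or.inr h)), Finset.mem_image.mpr ?_⟩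
        have htlt : (t : ℕ) < 4 := by
          by_contra h; exact ht (hσfix t (Or.inl (by omega)))
        exact ⟨⟨t, htlt⟩, Finset.mem_univ _, rfl⟩
      refine (Finset.card_le_card hsub).trans ?_
      have hgmem : (g : Perm (Fin n)) i ∈ Finset.univ.image emb :=
        Finset.mem_image.mpr ⟨⟨((g : Perm (Fin n)) i : ℕ), hgi⟩, Finset.mem_univ _, rfl⟩
      rw [Finset.card_erase_of_mem hgmem]
      have := Finset.card_image_le (s := Finset.univ) (f := emb)
      rw [Finset.card_univ, Fintype.card_fin] at this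
      omega
    obtain ⟨m, hm⟩ := Perm.cycleType_prime_order (σ := σ) (by rw [hσ2]; exact Nat.prime_two)
    rw [hσ2] at hm
    rw [← Perm.sum_cycleType, hm, Multiset.sum_replicate, smul_eq_mul] at hsupp
    have hm0 : m = 0 := by omega
    have hsgn : Perm.sign σ = 1 := by rw [← hσ]; exact Perm.mem_alternatingGroup.mp (w : ↥(alternatingGroup (Fin n))).2
    rw [Perm.sign_of_cycleType, hm, hm0] at hsgn
    exact absurd hsgn (by decide)
  · rw [commutator_eq_bot_iff_le_centralizer, le_centralizer_iff, hK] at hcomm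
    -- each of the `n - 4` points is fixed by a conjugate of `L`
    let emb : {i : Fin n // 4 ≤ (i : ℕ)} → Fin 4 := fun i =>
      ⟨(((g : Perm (Fin n))⁻¹ i.1 : Fin n) : ℕ), by
        by_contra hge
        obtain ⟨l, hl, hli⟩ := hmove _ (not_lt.mp hge)
        have h1 := (hmemK _).mp (hcomm ⟨l, hl, rfl⟩) i.1 i.2
        change (g : Perm (Fin n)) ((l : Perm (Fin n)) ((g : Perm (Fin n))⁻¹ i.1)) = i.1 at h1
        exact hli ((Perm.eq_inv_iff_eq).mpr h1)⟩
    have hemb : Function.Injective emb := fun a b h =>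
      Subtype.ext ((g : Perm (Fin n))⁻¹.injective (Fin.ext (Fin.mk.inj_iff.mp h)))
    let f : Fin 5 → {i : Fin n // 4 ≤ (i : ℕ)} := fun i => ⟨⟨i + 4, by omega⟩, by simp⟩
    have := Fintype.card_le_of_injective (emb ∘ f) (hemb.comp fun a b h => Fin.ext (by simpa [f] using h))
    simp at this
  · rw [hK]
    refine le_antisymm ?_ fun g hg => ?_
    · rw [← hK]; exact normalizer_le_normalizer_centralizer L
    · have hiff : ∀ s : Fin n, ((g : Perm (Fin n)) s : ℕ) < 4 ↔ (s : ℕ) < 4 := fun s => by
        refine ⟨hpres g hg s, fun hs => ?_⟩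
        by_contra hge
        have := hpres g⁻¹ (inv_mem hg) ((g : Perm (Fin n)) s) (by
          change ((((g : Perm (Fin n))⁻¹) ((g : Perm (Fin n)) s) : Fin n) : ℕ) < 4
          rw [inv_app]; exact hs)
        exact hge this
      rw [Subgroup.mem_normalizer_iff'']
      intro x
      rw [hL, hL]
      refine ⟨fun h s hs => ?_, fun h s hs => ?_⟩
      · show (g : Perm (Fin n))⁻¹ ((x : Perm (Fin n)) ((g : Perm (Fin n)) s)) = s
        rw [h _ ((hiff s).mpr hs), inv_app]
      · have hj : (((g : Perm (Fin n))⁻¹ s : Fin n) : ℕ) < 4 := by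
          rw [← hiff, app_inv]; exact hs
        have := h _ hj
        change (g : Perm (Fin n))⁻¹ ((x : Perm (Fin n)) ((g : Perm (Fin n)) ((g : Perm (Fin n))⁻¹ s))) = _ at this
        rw [app_inv] at this
        exact (g : Perm (Fin n))⁻¹.injective this

/-- For n ≥ 9, the subgroup of the alternating group on Fin n fixing each of the points 0, 1, 2, 3 is a standard subgroup. -/
theorem result (n : ℕ) (h4 : 4 ≤ n) (hn : 9 ≤ n) : Cfsg.IsStandardSubgroup (⨅ i : Fin 4, MulAction.stabilizer ↥(alternatingGroup (Fin n)) (Fin.castLE h4 i : Fin n)) := by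
  have hmemL : ∀ x : ↥(alternatingGroup (Fin n)),
      x ∈ (⨅ i : Fin 4, MulAction.stabilizer ↥(alternatingGroup (Fin n)) (Fin.castLE h4 i : Fin n)) ↔
        ∀ s : Fin n, (s : ℕ) < 4 → (x : Equiv.Perm (Fin n)) s = s := by
    intro x
    rw [Subgroup.mem_iInf]
    constructor
    · intro h s hs
      exact MulAction.mem_stabilizer_iff.mp (h ⟨s, hs⟩)
    · exact fun h i => MulAction.mem_stabilizer_iff.mpr (h _ i.2)
  generalize hLdef : (⨅ i : Fin 4, MulAction.stabilizer ↥(alternatingGroup (Fin n)) (Fin.castLE h4 i : Fin n)) = L at hmemL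
  exact main n hn L hmemL

end Cfsg.Agent.S1323
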