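import Cfsg.Statements.S1328
import Cfsg.Agent.Lib.Components.Balance2
import Cfsg.Agent.Lib.Coprime.Basic
import Cfsg.Agent.Lib.Cores.Basic

set_option autoImplicit false
open Cfsg

namespace Cfsg.Agent.S1328

open Cfsg.Agent.Lib.Components Subgroup

theorem aux {M : Type*} [Group M] [Finite M] {H : Subgroup M} [H.Normal] (hO : oddCore ↥H = ⊥)
    (hOM : oddCore M = ⊥) {t : M} (ht : orderOf t = 2) {Y : Subgroup M} (hY1 : Y ≠ ⊥)
    (hY : Y ≤ centralizerPPrimeCore 2 t) (hYH : Y ≤ H) :
    ∃ E : Subgroup ↥H, IsComponent E ∧ t ∈ normalizer (E.map H.subtype : Set M) ∧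
      Y ≤ normalizer (E.map H.subtype : Set M) ∧ t ∉ centralizer (E.map H.subtype : Set M) ∧
      ¬ Y ≤ centralizer (E.map H.subtype : Set M) := by
  haveI : Fact (Nat.Prime 2) := ⟨Nat.prime_two⟩
  have hHs : H.IsSubnormal := ‹H.Normal›.isSubnormal
  obtain ⟨E, hE, hYE⟩ : ∃ E : Subgroup ↥H, IsComponent E ∧
      ¬ Y ≤ centralizer (E.map H.subtype : Set M) := by
    by_contra hno
    push Not at hno
    apply hY1
    have hYC : Y.subgroupOf H ≤ centralizer (generalizedFittingSubgroup ↥H : Set ↥H) := by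
      rw [le_centralizer_iff]
      refine sup_le ((layer_le_iff).mpr fun K hK => ?_) ?_
      · intro k hk
        rw [mem_centralizer_iff]
        intro y hy
        exact Subtype.ext (mem_centralizer_iff.mp (hno K hK hy) (k : M) ⟨k, hk, rfl⟩).symm
      · rw [fittingSubgroup_eq_pCore 2 hO]
        intro k hk
        rw [mem_centralizer_iff]
        intro y hy
        exact Subtype.ext (mem_centralizer_iff.mp (centralizerPPrimeCore_le_centralizer_pCore ht (hY hy))
          (k : M) (map_pCore_subtype_le 2 hHs ⟨k, hk, rfl⟩)).symm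
    have hYF := hYC.trans centralizer_genFitting_le_fittingSubgroup
    rw [fittingSubgroup_eq_pCore 2 hO] at hYF
    have h0 : Y.subgroupOf H = ⊥ := eq_bot_of_isPGroup_of_coprime (p := 2)
      ((pCore_isPGroup 2).to_le hYF) (by
        rw [Nat.card_congr (subgroupOfEquivOfLe hYH).toEquiv]
        exact (coprime_card_centralizerPPrimeCore t).coprime_dvd_left (card_dvd_of_le hY))
    have := congrArg (Subgroup.map H.subtype) h0
    rwa [map_subgroupOf_eq_of_le hYH, Subgroup.map_bot] at this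
  have hEM : IsComponent (E.map H.subtype) := IsComponent.map_subtype hHs hE
  have htE : t ∈ normalizer (E.map H.subtype : Set M) := by
    by_contra h
    exact hYE (hY.trans (centralizerPPrimeCore_le_centralizer_of_moving hEM hOM ht h))
  exact ⟨E, hE, htE, hY.trans (centralizerPPrimeCore_le_normalizer hEM hOM ht htE),
    fun h => hYE (hY.trans (centralizerPPrimeCore_le_centralizer_of_centralizing hEM hOM h)), hYE⟩


/-- Let G be finite, H ≤ G with O(H) = 1, t an involution of G normalizing H, and Y a nontrivial subgroup of O(C_H(t)). Then some component E of H is normalized by t and by Y and centralized by neither t nor Y. -/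
theorem result {G : Type*} [Group G] [Finite G] (H : Subgroup G) (hO : Cfsg.oddCore ↥H = ⊥) (t : G) (ht : orderOf t = 2) (htH : t ∈ Subgroup.normalizer (H : Set G)) (Y : Subgroup G) (hY1 : Y ≠ ⊥) (hY : Y ≤ (Cfsg.oddCore ↥(H ⊓ Subgroup.centralizer ({t} : Set G))).map (H ⊓ Subgroup.centralizer ({t} : Set G)).subtype) : ∃ E : Subgroup ↥H, Cfsg.IsComponent E ∧ (E.map H.subtype).map (MulAut.conj t).toMonoidHom = E.map H.subtype ∧ Y ≤ Subgroup.normalizer ((E.map H.subtype : Subgroup G) : Set G) ∧ ¬ (t ∈ Subgroup.centralizer ((E.map H.subtype : Subgroup G) : Set G)) ∧ ¬ (Y ≤ Subgroup.centralizer ((E.map H.subtype : Subgroup G) : Set G)) := by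

  haveI : Fact (Nat.Prime 2) := ⟨Nat.prime_two⟩
  set M : Subgroup G := H ⊔ Subgroup.zpowers t with hM
  have htM : t ∈ M := Subgroup.mem_sup_right (Subgroup.mem_zpowers t)
  have hHM : H ≤ M := le_sup_left
  have hMN : M ≤ Subgroup.normalizer (H : Set G) := sup_le Subgroup.le_normalizer (Subgroup.zpowers_le.mpr htH)
  haveI hn : (H.subgroupOf M).Normal := Subgroup.normal_subgroupOf_of_le_normalizer hMN
  let e : ↥(H.subgroupOf M) ≃* ↥H := Subgroup.subgroupOfEquivOfLe hHM
  have hO' : oddCore ↥(H.subgroupOf M) = ⊥ := by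
    rw [← Subgroup.map_eq_bot_iff_of_injective _ (f := e.toMonoidHom) e.injective, eq_bot_iff]
    exact (map_pPrimeCore_le 2 e).trans hO.le
  have hOM : oddCore ↥M = ⊥ := by
    have hle : oddCore ↥M ≤ H.subgroupOf M := by
      intro x hx
      obtain ⟨h, hh, z, hz, hxe⟩ := Cfsg.Agent.Lib.Coprime.exists_mul_of_mem_sup
        (Subgroup.zpowers_le.mpr htH) x.2
      have hxx : x ^ 2 ∈ H.subgroupOf M := by
        rw [Subgroup.mem_subgroupOf, Subgroup.coe_pow, hxe]
        obtain ⟨i, rfl⟩ := Subgroup.mem_zpowers_iff.mp hz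
        have hz2 : (t ^ i) * (t ^ i) = 1 := by
          rw [← zpow_add, ← two_mul, zpow_mul, show t ^ (2 : ℤ) = 1 by
            rw [show (2 : ℤ) = ((2 : ℕ) : ℤ) from rfl, zpow_natCast, ← ht, pow_orderOf_eq_one], one_zpow]
        have hc : (t ^ i) * h * (t ^ i)⁻¹ ∈ H :=
          (Subgroup.mem_normalizer_iff.mp (Subgroup.zpow_mem _ htH i) h).mp hh
        rw [show (h * t ^ i) ^ 2 = h * ((t ^ i) * h * (t ^ i)⁻¹) * ((t ^ i) * (t ^ i)) by
          rw [pow_two]; group, hz2, mul_one]
        exact mul_mem hh hc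
      exact mem_of_pow_mem_of_coprime (m := 2) ((pPrimeCore_coprime 2).coprime_dvd_left
        (Subgroup.orderOf_dvd_natCard _ hx)) hxx
    have h1 : (oddCore ↥M).subgroupOf (H.subgroupOf M) ≤ oddCore ↥(H.subgroupOf M) :=
      le_pPrimeCore ((pPrimeCore_normal 2 ↥M).comap _) (by
        rw [Nat.card_congr (Subgroup.subgroupOfEquivOfLe hle).toEquiv]
        exact pPrimeCore_coprime 2)
    rw [hO', le_bot_iff] at h1
    have := congrArg (Subgroup.map (H.subgroupOf M).subtype) h1
    rwa [Subgroup.map_subgroupOf_eq_of_le hle, Subgroup.map_bot] at this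
  have hYH : Y ≤ H := fun y hy => by
    obtain ⟨x, -, rfl⟩ := hY hy
    exact x.2.1
  have hYt : Y.subgroupOf M ≤ centralizerPPrimeCore 2 (⟨t, htM⟩ : ↥M) := by
    set C := Subgroup.centralizer ({(⟨t, htM⟩ : ↥M)} : Set ↥M) with hC
    set O := (oddCore ↥(H ⊓ Subgroup.centralizer ({t} : Set G))).map
      (H ⊓ Subgroup.centralizer ({t} : Set G)).subtype with hOdef
    have hOH : O ≤ H ⊓ Subgroup.centralizer ({t} : Set G) := Subgroup.map_subtype_le _
    haveI : (pPrimeCore 2 ↥(H ⊓ Subgroup.centralizer ({t} : Set G))).Characteristic :=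
      Subgroup.characteristic_iff_map_le.mpr fun φ => map_pPrimeCore_le 2 φ
    have hOn : M ⊓ Subgroup.centralizer ({t} : Set G) ≤ Subgroup.normalizer (O : Set G) := by
      refine le_trans ?_ (Cfsg.Agent.Lib.Cores.normalizer_le_normalizer_map_subtype _ _)
      intro c hc
      rw [Subgroup.mem_normalizer_iff]
      intro x
      constructor
      · rintro ⟨hx1, hx2⟩
        exact ⟨(Subgroup.mem_normalizer_iff.mp (hMN hc.1) x).mp hx1,
          Subgroup.mul_mem _ (Subgroup.mul_mem _ hc.2 hx2) (Subgroup.inv_mem _ hc.2)⟩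
      · rintro ⟨hx1, hx2⟩
        refine ⟨(Subgroup.mem_normalizer_iff.mp (hMN hc.1) x).mpr hx1, ?_⟩
        have := Subgroup.mul_mem _ (Subgroup.mul_mem _ (Subgroup.inv_mem _ hc.2) hx2) hc.2
        simpa [mul_assoc] using this
    have hle : O.subgroupOf M ≤ C := fun x hx => Subgroup.mem_centralizer_singleton_iff.mpr
      (Subtype.ext (Subgroup.mem_centralizer_singleton_iff.mp (hOH hx).2))
    have hcard : (Nat.card ↥((O.subgroupOf M).subgroupOf C)).Coprime 2 := by
      rw [Nat.card_congr (Subgroup.subgroupOfEquivOfLe hle).toEquiv,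
        Nat.card_congr (Subgroup.subgroupOfEquivOfLe (hOH.trans (inf_le_left.trans hHM))).toEquiv,
        Subgroup.card_map_of_injective Subtype.val_injective]
      exact pPrimeCore_coprime 2
    have hnorm : ((O.subgroupOf M).subgroupOf C).Normal := ⟨fun x hx c =>
      (Subgroup.mem_normalizer_iff.mp (hOn ⟨c.1.2, Subgroup.mem_centralizer_singleton_iff.mpr
        (congrArg Subtype.val (Subgroup.mem_centralizer_singleton_iff.mp c.2))⟩) _).mp hx⟩
    intro y hy
    exact ⟨⟨y, hle (hY hy)⟩, le_pPrimeCore hnorm hcard (hY hy), rfl⟩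
  have hY1' : Y.subgroupOf M ≠ ⊥ := fun h => hY1 (by
    have := congrArg (Subgroup.map M.subtype) h
    rwa [Subgroup.map_subgroupOf_eq_of_le (hYH.trans hHM), Subgroup.map_bot] at this)
  obtain ⟨E, hE, htE, hYE, htc, hYc⟩ := aux hO' hOM (t := ⟨t, htM⟩)
    (by rw [← Subgroup.orderOf_coe]; exact ht) hY1' hYt (fun y hy => hYH hy)
  refine ⟨E.map e.toMonoidHom, IsComponent.map_mulEquiv e hE, ?_⟩
  set E' := E.map (H.subgroupOf M).subtype with hE'
  have hEeq : (E.map e.toMonoidHom).map H.subtype = E'.map M.subtype := by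
    rw [hE', Subgroup.map_map, Subgroup.map_map]; rfl
  rw [hEeq]
  refine ⟨?_, ?_, ?_, ?_⟩
  · rw [Subgroup.map_map]
    conv_rhs => rw [← mem_normalizer_iff_map_conj.mp htE, Subgroup.map_map]
    rfl
  · intro y hy
    rw [mem_normalizer_iff_map_conj, Subgroup.map_map]
    conv_rhs => rw [← mem_normalizer_iff_map_conj.mp
      (hYE (show (⟨y, hHM (hYH hy)⟩ : ↥M) ∈ Y.subgroupOf M from hy)), Subgroup.map_map]
    rfl
  · intro h
    apply htc
    rw [Subgroup.mem_centralizer_iff]
    intro x hx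
    exact Subtype.ext (Subgroup.mem_centralizer_iff.mp h (x : G) ⟨x, hx, rfl⟩)
  · intro h
    apply hYc
    intro y hy
    rw [Subgroup.mem_centralizer_iff]
    intro x hx
    exact Subtype.ext (Subgroup.mem_centralizer_iff.mp (h hy) (x : G) ⟨x, hx, rfl⟩)

end Cfsg.Agent.S1328
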