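import Cfsg.Statements.S1335
import Cfsg.Agent.Lib.Components.Transport
import Cfsg.Agent.Lib.Components.GenFitting

set_option autoImplicit false
open Cfsg

namespace Cfsg.Agent.S1335

open Subgroup

theorem exists_sylow_eq {G : Type*} [Group G] [Finite G] {p : ℕ} [hp : Fact p.Prime] (k : ℕ)
    (H : Subgroup G) (P : Sylow p ↥H) (hP : ¬ PRankLE p (k - 1) ↥(P : Subgroup ↥H))
    (hΓ : ∀ X : Subgroup G, X ≤ (P : Subgroup ↥H).map H.subtype → ¬ PRankLE p (k - 1) ↥X →
      normalizer (X : Set G) ≤ H) :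
    ∃ Q : Sylow p G, (Q : Subgroup G) = (P : Subgroup ↥H).map H.subtype := by
  set S := (P : Subgroup ↥H).map H.subtype with hS
  have hrk : ¬ PRankLE p (k - 1) ↥S := by
    intro h
    apply hP
    intro A hA hAp
    let e := (P : Subgroup ↥H).equivMapOfInjective H.subtype H.subtype_injective
    have h2 := h (A.map e.toMonoidHom) (Subgroup.map_isMulCommutative A _) (by
      rintro _ ⟨a, ha, rfl⟩
      rw [← map_pow, hAp a ha, map_one])
    rwa [Subgroup.card_map_of_injective e.injective] at h2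
  have hN := hΓ S le_rfl hrk
  obtain ⟨Q, hQ⟩ := (P.isPGroup'.map H.subtype).exists_le_sylow
  refine ⟨Q, ?_⟩
  by_contra hne
  have := Q.isPGroup'.isNilpotent
  have hlt : S.subgroupOf (Q : Subgroup G) < ⊤ := by
    rw [lt_top_iff_ne_top, Ne, subgroupOf_eq_top]
    exact fun h => hne (le_antisymm h hQ)
  have hnc := Group.normalizerCondition_of_isNilpotent (S.subgroupOf (Q : Subgroup G)) hlt
  obtain ⟨y, hy, hyS⟩ := SetLike.exists_of_lt hnc
  have hyN : (y : G) ∈ normalizer (S : Set G) := by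
    rw [Subgroup.mem_normalizer_iff]
    intro z
    constructor
    · intro hz
      exact (Subgroup.mem_normalizer_iff.mp hy ⟨z, hQ hz⟩).mp hz
    · intro hz
      have hzQ : z ∈ (Q : Subgroup G) := by
        have e : z = (y : G)⁻¹ * ((y : G) * z * (y : G)⁻¹) * (y : G) := by group
        rw [e]
        exact mul_mem (mul_mem (inv_mem y.2) (hQ hz)) y.2
      exact (Subgroup.mem_normalizer_iff.mp hy ⟨z, hzQ⟩).mpr hz
  have hle : S ≤ H := map_subtype_le _
  have hp' : IsPGroup p ↥((Q : Subgroup G).subgroupOf H) :=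
    Q.isPGroup'.of_injective
      ((H.subtype.comp ((Q : Subgroup G).subgroupOf H).subtype).codRestrict
        (Q : Subgroup G) fun w => w.2)
      (fun a b hab => Subtype.ext (Subtype.ext (congrArg (fun w : ↥(Q : Subgroup G) => (w : G)) hab)))
  have hmax : (Q : Subgroup G).subgroupOf H = (P : Subgroup ↥H) :=
    P.is_maximal' hp' fun w hw => hQ ⟨w, hw, rfl⟩
  apply hyS
  refine ⟨⟨(y : G), hN hyN⟩, ?_, rfl⟩
  rw [SetLike.mem_coe, ← hmax]
  exact y.2


/-- Let H be a subgroup of the finite group G, p a prime, k ≥ 1, P a Sylow p-subgroup of H of p-rank at least k, and suppose N_G(X) ≤ H for every subgroup X ≤ P of p-rank at least k. Then P is a Sylow p-subgroup of G. -/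
theorem result {G : Type*} [Group G] [Finite G] {p : ℕ} [Fact p.Prime] (k : ℕ) (hk : 1 ≤ k) (H : Subgroup G) (P : Sylow p ↥H) (hP : ¬ Cfsg.PRankLE p (k - 1) ↥(P : Subgroup ↥H)) (hΓ : (∀ X : Subgroup G, X ≤ (P : Subgroup ↥H).map H.subtype → ¬ Cfsg.PRankLE p (k - 1) ↥X → Subgroup.normalizer (X : Set G) ≤ H)) : ∃ Q : Sylow p G, (Q : Subgroup G) = (P : Subgroup ↥H).map H.subtype := by
  exact exists_sylow_eq k H P hP hΓ

end Cfsg.Agent.S1335
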