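import Cfsg.Statements.S1336
import Cfsg.Agent.Lib.Components.Signalizer
import Mathlib.GroupTheory.PGroup
import Mathlib.GroupTheory.Sylow

set_option autoImplicit false
open Cfsg

namespace Cfsg.Agent.S1336

open Subgroup Cfsg.Agent.Lib.Components
open scoped Pointwise commutatorElement


/-- Let G be finite and p prime. Then G has a proper subgroup H with p ∣ |H| and p ∤ |H ∩ gHg⁻¹| for every g ∉ H (a strongly p-embedded subgroup) if and only if G is not 1-connected for p. -/
theorem result {G : Type*} [Group G] [Finite G] (p : ℕ) [Fact p.Prime] : (∃ H : Subgroup G, H ≠ ⊤ ∧ p ∣ Nat.card ↥H ∧ ∀ g : G, g ∉ H → ¬ p ∣ Nat.card ↥(H ⊓ H.map (MulAut.conj g).toMonoidHom)) ↔ ¬ Cfsg.IsKConnected p 1 G := by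
  have hp : p.Prime := Fact.out
  have hzp : ∀ x : G, orderOf x = p → Cfsg.IsElementaryAbelian p (Subgroup.zpowers x) ∧
      p ^ 1 ≤ Nat.card ↥(Subgroup.zpowers x) := fun x hx => by
    refine ⟨⟨⟨⟨fun a b => Subtype.ext ?_⟩⟩, fun a ha => ?_⟩, by rw [Nat.card_zpowers, hx, pow_one]⟩
    · obtain ⟨m, hm⟩ := Subgroup.mem_zpowers_iff.mp a.2
      obtain ⟨n, hn⟩ := Subgroup.mem_zpowers_iff.mp b.2
      show (a : G) * b = b * a
      rw [← hm, ← hn, ← zpow_add, ← zpow_add, add_comm]
    · obtain ⟨m, rfl⟩ := Subgroup.mem_zpowers_iff.mp ha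
      rw [← zpow_natCast, ← zpow_mul, mul_comm, zpow_mul, zpow_natCast, ← hx, pow_orderOf_eq_one,
        one_zpow]
  have hex : ∀ E : Subgroup G, Cfsg.IsElementaryAbelian p E → p ^ 1 ≤ Nat.card ↥E →
      ∃ y ∈ E, orderOf y = p := fun E hE hEc => by
    have hne : ¬ ∀ y ∈ E, y = 1 := fun h => by
      rw [(Subgroup.eq_bot_iff_forall E).mpr h, Subgroup.card_bot, pow_one] at hEc
      exact absurd hEc (not_le.mpr hp.one_lt)
    simp only [not_forall] at hne
    obtain ⟨y, hy, hy1⟩ := hne
    exact ⟨y, hy, elemAb_orderOf hE hy hy1⟩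
  constructor
  · rintro ⟨H, hne, hdvd, hH⟩ hconn
    obtain ⟨⟨x, hxH⟩, hx⟩ := exists_prime_orderOf_dvd_card' (G := ↥H) p hdvd
    rw [Subgroup.orderOf_mk] at hx
    have key : ∀ y z : G, orderOf y = p → y ∈ H → y * z = z * y → z ∈ H := by
      intro y z hy hyH hc
      by_contra hzH
      refine hH z hzH ?_
      rw [← hy]
      refine Subgroup.orderOf_dvd_natCard _ ⟨hyH, y, hyH, ?_⟩
      show z * y * z⁻¹ = y
      rw [← hc, mul_inv_cancel_right]
    have all : ∀ y : G, orderOf y = p → y ∈ H := by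
      intro y hy
      have hstep : ∀ E', Relation.ReflTransGen (fun A B : Subgroup G =>
          Cfsg.IsElementaryAbelian p A ∧ p ^ 1 ≤ Nat.card ↥A ∧ Cfsg.IsElementaryAbelian p B ∧
          p ^ 1 ≤ Nat.card ↥B ∧ ∀ a ∈ A, ∀ b ∈ B, a * b = b * a) (Subgroup.zpowers x) E' →
          E' ≤ H := by
        intro E' h
        induction h with
        | refl => rwa [Subgroup.zpowers_le]
        | tail _ hstep ih =>
          obtain ⟨hA, hAc, hB, hBc, hcomm⟩ := hstep
          obtain ⟨a, ha, hap⟩ := hex _ hA hAc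
          exact fun b hb => key a b hap (ih ha) (hcomm a ha b hb)
      exact hstep _ (hconn _ _ (hzp x hx).1 (hzp x hx).2 (hzp y hy).1 (hzp y hy).2)
        (Subgroup.mem_zpowers y)
    obtain ⟨g, hg⟩ : ∃ g, g ∉ H := by
      by_contra! h
      exact hne (eq_top_iff.mpr fun g _ => h g)
    refine hH g hg ?_
    rw [← hx]
    refine Subgroup.orderOf_dvd_natCard _ ⟨hxH, g⁻¹ * x * g, all _ ?_, ?_⟩
    · rw [← hx]
      simpa using MulEquiv.orderOf_eq (MulAut.conj g⁻¹) x
    · show g * (g⁻¹ * x * g) * g⁻¹ = x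
      group
  · intro hconn
    let R := fun A B : Subgroup G => Cfsg.IsElementaryAbelian p A ∧ p ^ 1 ≤ Nat.card ↥A ∧
      Cfsg.IsElementaryAbelian p B ∧ p ^ 1 ≤ Nat.card ↥B ∧ ∀ a ∈ A, ∀ b ∈ B, a * b = b * a
    let S := Relation.ReflTransGen R
    have hsymm : ∀ {A B}, S A B → S B A := by
      intro A B h
      induction h with
      | refl => exact Relation.ReflTransGen.refl
      | tail _ hs ih =>
        obtain ⟨h1, h2, h3, h4, h5⟩ := hs
        exact Relation.ReflTransGen.head ⟨h3, h4, h1, h2, fun a ha b hb => (h5 b hb a ha).symm⟩ ih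
    let c : G → Subgroup G → Subgroup G := fun g A => A.map (MulAut.conj g).toMonoidHom
    have hcc : ∀ g k A, c g (c k A) = c (g * k) A := fun g k A => by
      simp only [c, Subgroup.map_map]
      congr 1
      ext w
      simp [mul_assoc]
    have hc1 : ∀ A, c 1 A = A := fun A => by
      simp only [c]
      convert Subgroup.map_id A
      ext w
      simp
    have hmap : ∀ (g : G) {A B}, S A B → S (c g A) (c g B) := by
      intro g A B h
      refine Relation.ReflTransGen.lift (fun A => c g A) ?_ A B h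
      rintro A B ⟨h1, h2, h3, h4, h5⟩
      have hea : ∀ {A : Subgroup G}, Cfsg.IsElementaryAbelian p A →
          Cfsg.IsElementaryAbelian p (c g A) := by
        intro A hA
        refine ⟨⟨⟨?_⟩⟩, ?_⟩
        · rintro ⟨_, u, hu, rfl⟩ ⟨_, v, hv, rfl⟩
          refine Subtype.ext ?_
          show MulAut.conj g u * MulAut.conj g v = MulAut.conj g v * MulAut.conj g u
          rw [← map_mul, ← map_mul, elemAb_commute hA hu hv]
        · rintro _ ⟨u, hu, rfl⟩
          rw [← map_pow, hA.2 u hu, map_one]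
      have hcard : ∀ A : Subgroup G, Nat.card ↥(c g A) = Nat.card ↥A := fun A =>
        Subgroup.card_map_of_injective (MulAut.conj g).injective
      refine ⟨hea h1, by rw [hcard]; exact h2, hea h3, by rw [hcard]; exact h4, ?_⟩
      rintro _ ⟨u, hu, rfl⟩ _ ⟨v, hv, rfl⟩
      show MulAut.conj g u * MulAut.conj g v = MulAut.conj g v * MulAut.conj g u
      rw [← map_mul, ← map_mul, h5 u hu v hv]
    -- a pair of vertices in different components
    obtain ⟨E₁, E₂, hE₁, hE₁c, hE₂, hE₂c, hne⟩ : ∃ E₁ E₂ : Subgroup G,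
        Cfsg.IsElementaryAbelian p E₁ ∧ p ^ 1 ≤ Nat.card ↥E₁ ∧ Cfsg.IsElementaryAbelian p E₂ ∧
        p ^ 1 ≤ Nat.card ↥E₂ ∧ ¬ S E₁ E₂ := by
      by_contra! h
      exact hconn fun A B h1 h2 h3 h4 => h A B h1 h2 h3 h4
    obtain ⟨P, hP⟩ := (elemAb_isPGroup hE₁).exists_le_sylow
    have hdvd : p ∣ Nat.card G := by
      obtain ⟨y, -, hy⟩ := hex _ hE₁ hE₁c
      exact hy ▸ orderOf_dvd_natCard y
    haveI : Nontrivial ↥(P : Subgroup G) := P.2.nontrivial_iff_card.mpr
      ⟨(Nat.card G).factorization p, hp.factorization_pos_of_dvd Nat.card_pos.ne' hdvd,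
        P.card_eq_multiplicity⟩
    obtain ⟨z, hzc, hz⟩ : ∃ z : G, z ∈ (P : Subgroup G) ∧ orderOf z = p ∧
        ∀ w ∈ (P : Subgroup G), w * z = z * w := by
      have hcen : Nontrivial ↥(Subgroup.center ↥(P : Subgroup G)) := P.2.center_nontrivial
      have hd : p ∣ Nat.card ↥(Subgroup.center ↥(P : Subgroup G)) := by
        obtain ⟨n, hn, h⟩ := (P.2.to_subgroup (Subgroup.center _)).nontrivial_iff_card.mp hcen
        rw [h]; exact dvd_pow_self p (by omega)
      obtain ⟨z, hz⟩ := exists_prime_orderOf_dvd_card' p hd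
      refine ⟨((z : ↥(P : Subgroup G)) : G), (z : ↥(P : Subgroup G)).2, ?_, fun w hw => ?_⟩
      · rw [Subgroup.orderOf_coe, Subgroup.orderOf_coe, hz]
      · exact congrArg Subtype.val (Subgroup.mem_center_iff.mp z.2 ⟨w, hw⟩)
    obtain ⟨hz, hzcomm⟩ := hz
    set Z := Subgroup.zpowers z with hZ
    have hZv := hzp z hz
    have hle : ∀ E : Subgroup G, Cfsg.IsElementaryAbelian p E → p ^ 1 ≤ Nat.card ↥E →
        E ≤ (P : Subgroup G) → S E Z := fun E hE hEc hEP =>
      Relation.ReflTransGen.single ⟨hE, hEc, hZv.1, hZv.2, fun a ha b hb => by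
        obtain ⟨m, rfl⟩ := Subgroup.mem_zpowers_iff.mp hb
        exact (Commute.zpow_right (hzcomm a (hEP ha)) m).eq⟩
    -- every vertex is connected to a conjugate of `Z`
    have hall : ∀ E : Subgroup G, Cfsg.IsElementaryAbelian p E → p ^ 1 ≤ Nat.card ↥E →
        ∃ g : G, S E (c g Z) := by
      intro E hE hEc
      obtain ⟨P', hP'⟩ := (elemAb_isPGroup hE).exists_le_sylow
      obtain ⟨g, hg⟩ := MulAction.exists_smul_eq G P P'
      refine ⟨g, ?_⟩
      have hEg : c g⁻¹ E ≤ (P : Subgroup G) := by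
        rintro _ ⟨u, hu, rfl⟩
        have := hP' hu
        rw [← hg, Sylow.smul_def, Sylow.pointwise_smul_def] at this
        obtain ⟨v, hv, rfl⟩ := this
        show g⁻¹ * (g * v * g⁻¹) * g⁻¹⁻¹ ∈ (P : Subgroup G)
        rw [show g⁻¹ * (g * v * g⁻¹) * g⁻¹⁻¹ = v by group]
        exact hv
      have h := hmap g (hle _ (by
        refine ⟨⟨⟨?_⟩⟩, ?_⟩
        · rintro ⟨_, u, hu, rfl⟩ ⟨_, v, hv, rfl⟩
          refine Subtype.ext ?_
          show MulAut.conj g⁻¹ u * MulAut.conj g⁻¹ v = MulAut.conj g⁻¹ v * MulAut.conj g⁻¹ u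
          rw [← map_mul, ← map_mul, elemAb_commute hE hu hv]
        · rintro _ ⟨u, hu, rfl⟩
          rw [← map_pow, hE.2 u hu, map_one]) (by
        rw [Subgroup.card_map_of_injective (MulAut.conj g⁻¹).injective]; exact hEc) hEg)
      rwa [hcc, mul_inv_cancel, hc1] at h
    let H : Subgroup G :=
      { carrier := {g | S (c g Z) Z}
        one_mem' := by show S (c 1 Z) Z; rw [hc1]
        mul_mem' := by
          intro g k hg hk
          show S (c (g * k) Z) Z
          rw [← hcc]
          exact (hmap g hk).trans hg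
        inv_mem' := by
          intro g hg
          show S (c g⁻¹ Z) Z
          have h := hmap g⁻¹ hg
          rw [hcc, inv_mul_cancel, hc1] at h
          exact hsymm h }
    have hPH : (P : Subgroup G) ≤ H := by
      intro w hw
      show S (c w Z) Z
      refine hle _ ?_ ?_ ?_
      · refine ⟨⟨⟨?_⟩⟩, ?_⟩
        · rintro ⟨_, u, hu, rfl⟩ ⟨_, v, hv, rfl⟩
          refine Subtype.ext ?_
          show MulAut.conj w u * MulAut.conj w v = MulAut.conj w v * MulAut.conj w u
          rw [← map_mul, ← map_mul, elemAb_commute hZv.1 hu hv]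
        · rintro _ ⟨u, hu, rfl⟩
          rw [← map_pow, hZv.1.2 u hu, map_one]
      · rw [Subgroup.card_map_of_injective (MulAut.conj w).injective]; exact hZv.2
      · rintro _ ⟨u, hu, rfl⟩
        exact mul_mem (mul_mem hw (Subgroup.zpowers_le.mpr hzc hu)) (inv_mem hw)
    -- elements of order `p` of `H` give vertices in the component of `Z`
    have horder : ∀ y ∈ H, orderOf y = p → S (Subgroup.zpowers y) Z := by
      intro y hyH hy
      have hyp : IsPGroup p ↥(Subgroup.zpowers (⟨y, hyH⟩ : ↥H)) :=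
        IsPGroup.of_card (n := 1) (by rw [Nat.card_zpowers, Subgroup.orderOf_mk, hy, pow_one])
      obtain ⟨T, hT⟩ := hyp.exists_le_sylow
      obtain ⟨k, hk⟩ := MulAction.exists_smul_eq ↥H (P.subtype hPH) T
      have hmem : (k : G)⁻¹ * y * (k : G) ∈ (P : Subgroup G) := by
        have := hT (Subgroup.mem_zpowers _)
        rw [← hk, Sylow.smul_def, Sylow.pointwise_smul_def] at this
        obtain ⟨v, hv, hve⟩ := this
        have hv' : (v : G) ∈ (P : Subgroup G) := hv
        have hve' : (k : G) * v * (k : G)⁻¹ = y := congrArg Subtype.val hve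
        rw [← hve']
        simpa [mul_assoc] using hv'
      have hord : orderOf ((k : G)⁻¹ * y * (k : G)) = p := by
        rw [← hy]
        simpa using MulEquiv.orderOf_eq (MulAut.conj (k : G)⁻¹) y
      have h1 := hmap (k : G) (hle _ (hzp _ hord).1 (hzp _ hord).2 (Subgroup.zpowers_le.mpr hmem))
      have h2 : c (k : G) (Subgroup.zpowers ((k : G)⁻¹ * y * (k : G))) = Subgroup.zpowers y := by
        simp only [c, MonoidHom.map_zpowers]
        congr 1
        show (k : G) * ((k : G)⁻¹ * y * (k : G)) * (k : G)⁻¹ = y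
        group
      rw [h2] at h1
      exact h1.trans k.2
    refine ⟨H, fun htop => hne ?_, ?_, fun g hg hpd => hg ?_⟩
    · obtain ⟨g₁, h₁⟩ := hall E₁ hE₁ hE₁c
      obtain ⟨g₂, h₂⟩ := hall E₂ hE₂ hE₂c
      have e₁ : g₁ ∈ H := htop ▸ Subgroup.mem_top _
      have e₂ : g₂ ∈ H := htop ▸ Subgroup.mem_top _
      exact (h₁.trans e₁).trans (hsymm (h₂.trans e₂))
    · rw [← hz]
      exact Subgroup.orderOf_dvd_natCard _ (hPH hzc)
    · obtain ⟨w, hy⟩ := exists_prime_orderOf_dvd_card' p hpd
      rw [← Subgroup.orderOf_coe] at hy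
      obtain ⟨hyH, y', hy'H, hyy⟩ := w.2
      generalize (w : G) = y at hy hyH hyy
      change g * y' * g⁻¹ = y at hyy
      have hy' : orderOf y' = p := by
        rw [← hy, ← hyy]
        exact (MulEquiv.orderOf_eq (MulAut.conj g) y').symm
      show S (c g Z) Z
      have h1 := hmap g (horder y' hy'H hy')
      have h2 : c g (Subgroup.zpowers y') = Subgroup.zpowers y := by
        simp only [c, MonoidHom.map_zpowers]
        congr 1
      rw [h2] at h1
      exact (hsymm h1).trans (horder y hyH hy)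

end Cfsg.Agent.S1336
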