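import Cfsg.Statements.S1337
import Cfsg.Agent.Lib.Components.PRank

set_option autoImplicit false
open Cfsg

namespace Cfsg.Agent.S1337

open Cfsg.Agent.Lib.Components



/-- Let P be a finite p-group of p-rank greater than 2. Then P has a normal elementary abelian subgroup U of order p², and for every elementary abelian X ≤ P with |X| ≥ p²: X is joined to U by a chain of pairwise commuting elementary abelian subgroups of order ≥ p² if and only if C_P(X) has p-rank greater than 2. -/
theorem result {P : Type*} [Group P] [Finite P] (p : ℕ) [Fact p.Prime] (hP : IsPGroup p P) (hrk : ¬ Cfsg.PRankLE p 2 P) : ∃ U : Subgroup P, U.Normal ∧ Cfsg.IsElementaryAbelian p U ∧ Nat.card ↥U = p ^ 2 ∧ ∀ X : Subgroup P, Cfsg.IsElementaryAbelian p X → p ^ 2 ≤ Nat.card ↥X → (Relation.ReflTransGen (fun A B : Subgroup P => Cfsg.IsElementaryAbelian p A ∧ p ^ 2 ≤ Nat.card ↥A ∧ Cfsg.IsElementaryAbelian p B ∧ p ^ 2 ≤ Nat.card ↥B ∧ ∀ a ∈ A, ∀ b ∈ B, a * b = b * a) X U ↔ ¬ Cfsg.PRankLE p 2 ↥(Subgroup.centralizer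 (X : Set P))) := by
  have hpp : p.Prime := Fact.out
  obtain ⟨U, hUn, hU, hUc⟩ := exists_normal_sq hP hrk
  haveI := hUn
  have hp23 : p ^ 2 < p ^ 3 := Nat.pow_lt_pow_right hpp.one_lt (by omega)
  have hstep : ∀ H : Subgroup P, p ^ 2 < Nat.card H → p ^ 3 ≤ Nat.card H := by
    intro H hH
    obtain ⟨n, hn⟩ := IsPGroup.iff_card.mp (hP.to_subgroup H)
    rw [hn] at hH ⊢
    exact Nat.pow_le_pow_right hpp.pos ((Nat.pow_lt_pow_iff_right hpp.one_lt).mp hH)
  have hrank : ∀ (X B : Subgroup P), IsElementaryAbelian p B → B ≤ Subgroup.centralizer (X : Set P) →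
      p ^ 2 < Nat.card B → ¬ PRankLE p 2 ↥(Subgroup.centralizer (X : Set P)) := by
    intro X B hB hle hc h
    have := h (B.subgroupOf _) ⟨⟨fun a b => Subtype.ext (Subtype.ext (eab_commute hB a.2 b.2))⟩⟩
      (fun a ha => Subtype.ext (hB.2 _ ha))
    rw [Nat.card_congr (Subgroup.subgroupOfEquivOfLe hle).toEquiv] at this
    omega
  obtain ⟨E, hEc, hEe, hE⟩ : ∃ E : Subgroup P, IsMulCommutative E ∧ (∀ a ∈ E, a ^ p = 1) ∧
      p ^ 2 < Nat.card E := by
    simpa only [PRankLE, not_forall, not_le, exists_prop] using hrk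
  refine ⟨U, hUn, hU, hUc, fun X hX hXc => ⟨fun h => ?_, fun h => ?_⟩⟩
  · have hUbase : ¬ PRankLE p 2 ↥(Subgroup.centralizer (U : Set P)) := by
      have hmul := card_le_inf_centralizer_mul hP (E := E) hUc
      set E₀ := E ⊓ Subgroup.centralizer (U : Set P) with hE₀
      have hE₀e : IsElementaryAbelian p E₀ :=
        eab_of_commute (fun a ha b hb => eab_commute ⟨hEc, hEe⟩ ha.1 hb.1) (fun a ha => hEe a ha.1)
      have hsup := eab_sup hE₀e hU fun a ha b hb => (Subgroup.mem_centralizer_iff.mp ha.2 b hb).symm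
      have hle : E₀ ⊔ U ≤ Subgroup.centralizer (U : Set P) := sup_le inf_le_right
        fun a ha => Subgroup.mem_centralizer_iff.mpr fun b hb => eab_commute hU hb ha
      by_cases hc : p ^ 2 < Nat.card ↥(E₀ ⊔ U : Subgroup P)
      · exact hrank U _ hsup hle hc
      have hUeq : U = E₀ ⊔ U := Subgroup.eq_of_le_of_card_ge le_sup_right (by omega)
      have hE₀U : E₀ ≤ U := hUeq ▸ le_sup_left
      have h3 := hstep E hE
      have hge : p ^ 2 ≤ Nat.card E₀ := by
        have : p ^ 2 * p ≤ Nat.card E₀ * p := by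
          calc p ^ 2 * p = p ^ 3 := by ring
            _ ≤ Nat.card E := h3
            _ ≤ _ := hmul
        exact Nat.le_of_mul_le_mul_right this hpp.pos
      have heq : E₀ = U := Subgroup.eq_of_le_of_card_ge hE₀U (by omega)
      refine hrank U E ⟨hEc, hEe⟩ (fun a ha => Subgroup.mem_centralizer_iff.mpr fun b hb => ?_) hE
      exact eab_commute ⟨hEc, hEe⟩ (heq.symm.le hb).1 ha
    induction h using Relation.ReflTransGen.head_induction_on with
    | refl => exact hUbase
    | @head X Y hXY _ ih =>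
      obtain ⟨hXe, hX2, hYe, hY2, hcomm⟩ := hXY
      have hsup := eab_sup hXe hYe hcomm
      have hle : X ⊔ Y ≤ Subgroup.centralizer (X : Set P) := sup_le
        (fun a ha => Subgroup.mem_centralizer_iff.mpr fun b hb => eab_commute hXe hb ha)
        (fun a ha => Subgroup.mem_centralizer_iff.mpr fun b hb => hcomm b hb a ha)
      by_cases hc : p ^ 2 < Nat.card ↥(X ⊔ Y : Subgroup P)
      · exact hrank X _ hsup hle hc
      have hX' : X = X ⊔ Y := Subgroup.eq_of_le_of_card_ge le_sup_left (by omega)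
      have hY' : Y = X ⊔ Y := Subgroup.eq_of_le_of_card_ge le_sup_right (by omega)
      rw [hX'.trans hY'.symm]
      exact ih hYe hY2
  · obtain ⟨B, hBc, hBe, hB⟩ : ∃ B : Subgroup ↥(Subgroup.centralizer (X : Set P)), IsMulCommutative B ∧
        (∀ a ∈ B, a ^ p = 1) ∧ p ^ 2 < Nat.card B := by
      simpa only [PRankLE, not_forall, not_le, exists_prop] using h
    set B' := B.map (Subgroup.centralizer (X : Set P)).subtype with hB'
    have hB'c : Nat.card B' = Nat.card B := Subgroup.card_map_of_injective Subtype.val_injective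
    have hB'e : IsElementaryAbelian p B' := eab_of_commute
      (by
        rintro _ ⟨a, ha, rfl⟩ _ ⟨b, hb, rfl⟩
        exact congrArg Subtype.val (eab_commute (⟨hBc, hBe⟩ : IsElementaryAbelian p B) ha hb))
      (by rintro _ ⟨a, ha, rfl⟩; exact congrArg Subtype.val (hBe a ha))
    have hXB : ∀ a ∈ X, ∀ b ∈ B', a * b = b * a := by
      rintro a ha _ ⟨b, hb, rfl⟩
      exact Subgroup.mem_centralizer_iff.mp b.2 a ha
    have hmul := card_le_inf_centralizer_mul hP (E := B') hUc
    set Y := B' ⊓ Subgroup.centralizer (U : Set P) with hY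
    have hYe : IsElementaryAbelian p Y :=
      eab_of_commute (fun a ha b hb => eab_commute hB'e ha.1 hb.1) (fun a ha => hB'e.2 a ha.1)
    have hY2 : p ^ 2 ≤ Nat.card Y := by
      have h3 := hstep B' (hB'c ▸ hB)
      have : p ^ 2 * p ≤ Nat.card Y * p := by
        calc p ^ 2 * p = p ^ 3 := by ring
          _ ≤ Nat.card B' := h3
          _ ≤ _ := hmul
      exact Nat.le_of_mul_le_mul_right this hpp.pos
    have hB2 : p ^ 2 ≤ Nat.card B' := (hB'c ▸ hB).le
    refine Relation.ReflTransGen.head ⟨hX, hXc, hB'e, hB2, hXB⟩ (Relation.ReflTransGen.head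
      ⟨hB'e, hB2, hYe, hY2, fun a ha b hb => eab_commute hB'e ha hb.1⟩ (Relation.ReflTransGen.single
        ⟨hYe, hY2, hU, hUc.ge, fun a ha b hb => (Subgroup.mem_centralizer_iff.mp ha.2 b hb).symm⟩))

end Cfsg.Agent.S1337
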