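import Cfsg.Statements.S1338
import Cfsg.Agent.S1337
import Cfsg.Agent.Lib.Components.PRank3

set_option autoImplicit false
open Cfsg

namespace Cfsg.Agent.S1338

open Cfsg.Agent.Lib.Components

theorem three_identity {A : Type*} [CommGroup A] (a b c : A) :
    a * c⁻¹ * b * c⁻¹ * (c * b⁻¹ * a * b⁻¹)⁻¹ = (c * c * c)⁻¹ * (b * b * b) := by
  apply Additive.ofMul.injective
  simp only [ofMul_mul, ofMul_inv]
  abel


/-- A finite 3-group of 3-rank at least 4 is 2-connected for the prime 3: its commuting graph on elementary abelian subgroups of order ≥ 9 is connected. -/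
theorem result {P : Type*} [Group P] [Finite P] (hP : IsPGroup 3 P) (hrk : ¬ Cfsg.PRankLE 3 3 P) : Cfsg.IsKConnected 3 2 P := by

  haveI : Fact (Nat.Prime 3) := ⟨Nat.prime_three⟩
  obtain ⟨E₀, hE₀c, hE₀e, hE₀⟩ : ∃ E : Subgroup P, IsMulCommutative E ∧ (∀ a ∈ E, a ^ 3 = 1) ∧
      3 ^ 3 < Nat.card E := by
    simpa only [PRankLE, not_forall, not_le, exists_prop] using hrk
  have hrk2 : ¬ PRankLE 3 2 P := fun h => by
    have := h E₀ hE₀c hE₀e
    omega
  have h4 : 3 ^ 4 ≤ Nat.card E₀ := by
    obtain ⟨i, hi⟩ := IsPGroup.iff_card.mp (hP.to_subgroup E₀)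
    rw [hi] at hE₀ ⊢
    exact Nat.pow_le_pow_right (by omega) ((Nat.pow_lt_pow_iff_right (by omega)).mp hE₀)
  obtain ⟨N, hNn, hN, hN4⟩ := exists_normal_four_odd (p := 3) (by omega) hP ⟨hE₀c, hE₀e⟩ h4
  obtain ⟨U, -, hU, hUc, hiff⟩ := Cfsg.Agent.S1337.result 3 hP hrk2
  have hto : ∀ X : Subgroup P, IsElementaryAbelian 3 X → 3 ^ 2 ≤ Nat.card X →
      ¬ PRankLE 3 2 ↥(Subgroup.centralizer (X : Set P)) := fun X hX hXc hle => by
    set C := Subgroup.centralizer (X : Set P) with hC
    have hsmall : ∀ A : Subgroup P, IsElementaryAbelian 3 A → A ≤ C → Nat.card A ≤ 3 ^ 2 := by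
      intro A hA hAC
      have := hle (A.subgroupOf C) ⟨⟨fun a b => Subtype.ext (Subtype.ext (eab_commute hA a.2 b.2))⟩⟩
        (fun a ha => Subtype.ext (hA.2 _ ha))
      rwa [Nat.card_congr (Subgroup.subgroupOfEquivOfLe hAC).toEquiv] at this
    have hXC : X ≤ C := fun a ha => Subgroup.mem_centralizer_iff.mpr fun b hb => eab_commute hX hb ha
    set K := N ⊓ C with hK
    have hKX : K ≤ X := by
      have hKe : IsElementaryAbelian 3 K :=
        eab_of_commute (fun a ha b hb => eab_commute hN ha.1 hb.1) (fun a ha => hN.2 a ha.1)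
      have hs := eab_sup hKe hX fun a ha b hb => (Subgroup.mem_centralizer_iff.mp ha.2 b hb).symm
      have heq : X = K ⊔ X := Subgroup.eq_of_le_of_card_ge le_sup_right
        ((hsmall _ hs (sup_le inf_le_right hXC)).trans hXc)
      exact heq.symm ▸ le_sup_left
    have hX9 : Nat.card X = 3 ^ 2 := le_antisymm (hsmall X hX hXC) hXc
    obtain ⟨i, hi⟩ := IsPGroup.iff_card.mp (hP.to_subgroup K)
    have hK3 : Nat.card K ≤ 3 := by
      have h := Subgroup.card_le_of_le hKX
      rw [hi, hX9, Nat.pow_le_pow_iff_right (by omega)] at h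
      rcases Nat.lt_or_ge i 2 with h2 | h2
      · rw [hi]
        calc 3 ^ i ≤ 3 ^ 1 := Nat.pow_le_pow_right (by omega) (by omega)
          _ = 3 := pow_one 3
      exfalso
      have hKX' : K = X := Subgroup.eq_of_le_of_card_ge hKX (by
        rw [hi, hX9]; exact Nat.pow_le_pow_right (by omega) h2)
      have hNC : N ≤ C := fun a ha => Subgroup.mem_centralizer_iff.mpr fun b hb =>
        eab_commute hN (hKX'.symm.le hb).1 ha
      have := hsmall N hN hNC
      omega
    haveI := hNn
    haveI : Group.IsNilpotent P := hP.isNilpotent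
    have hNne : N ≠ ⊥ := fun h => by rw [h, Subgroup.card_bot] at hN4; omega
    obtain ⟨z, hz, hz1⟩ :=
      (Subgroup.bot_or_exists_ne_one _).resolve_left (Cfsg.Agent.Lib.Solvable.inf_center_ne_bot hNne)
    have hzX : z ∈ X := hKX ⟨hz.1, Subgroup.mem_centralizer_iff.mpr fun b _ => Subgroup.mem_center_iff.mp hz.2 b⟩
    obtain ⟨x, hx, hxz⟩ : ∃ x ∈ X, x ∉ Subgroup.zpowers z := by
      by_contra h
      push Not at h
      have h1 := Subgroup.card_le_of_le (show X ≤ Subgroup.zpowers z from h)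
      rw [Nat.card_zpowers, hX9] at h1
      have h2 := Nat.le_of_dvd (by omega) (orderOf_dvd_of_pow_eq_one (hX.2 z hzX))
      omega
    have hgen : X ≤ Subgroup.closure {z, x} := by
      have hle' : Subgroup.closure {z, x} ≤ X := (Subgroup.closure_le _).mpr (by
        rintro y (rfl | rfl)
        · exact hzX
        · exact hx)
      refine (Subgroup.eq_of_le_of_card_ge hle' ?_).ge
      obtain ⟨j, hj⟩ := IsPGroup.iff_card.mp (hP.to_subgroup (Subgroup.closure ({z, x} : Set P)))
      have hlt : Nat.card (Subgroup.zpowers z) < Nat.card (Subgroup.closure ({z, x} : Set P)) := by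
        by_contra h
        have e := Subgroup.eq_of_le_of_card_ge
          (Subgroup.zpowers_le.mpr (Subgroup.subset_closure (Set.mem_insert z _))) (not_lt.mp h)
        exact hxz (e.symm ▸ Subgroup.subset_closure (Set.mem_insert_of_mem _ rfl))
      rw [Nat.card_zpowers, orderOf_eq_prime (hX.2 z hzX) hz1, hj] at hlt
      rw [hX9, hj]
      refine Nat.pow_le_pow_right (by omega) ?_
      by_contra hc
      have : 3 ^ j ≤ 3 ^ 1 := Nat.pow_le_pow_right (by omega) (by omega)
      omega
    have hker : ∀ a ∈ N, x * a * x⁻¹ * a⁻¹ = 1 → a ∈ K := by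
      intro a ha h
      refine ⟨ha, Subgroup.mem_centralizer_iff.mpr fun b hb => ?_⟩
      have hxa : x * a = a * x := by
        have := mul_inv_eq_one.mp h
        exact mul_inv_eq_iff_eq_mul.mp this
      have hle2 : Subgroup.closure {z, x} ≤ Subgroup.centralizer {a} := (Subgroup.closure_le _).mpr (by
        rintro y (rfl | rfl)
        · exact Subgroup.mem_centralizer_singleton_iff.mpr (Subgroup.mem_center_iff.mp hz.2 a).symm
        · exact Subgroup.mem_centralizer_singleton_iff.mpr hxa)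
      exact Subgroup.mem_centralizer_singleton_iff.mp (hle2 (hgen hb))
    have hb := card_le_of_three (N := N) (K := K) (fun a => x * a * x⁻¹ * a⁻¹)
      (fun a ha => mul_mem (hNn.conj_mem a ha x) (inv_mem ha))
      (fun a ha b hb => by
        have h1 : x * b * x⁻¹ * b⁻¹ * a⁻¹ = a⁻¹ * (x * b * x⁻¹ * b⁻¹) :=
          eab_commute hN (mul_mem (hNn.conj_mem b hb x) (inv_mem hb)) (inv_mem ha)
        calc x * (a * b) * x⁻¹ * (a * b)⁻¹ = x * a * x⁻¹ * (x * b * x⁻¹ * b⁻¹ * a⁻¹) := by group
          _ = _ := by rw [h1]; group)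
      hker
      (fun a ha => by
        have hx3 : x * x * x = 1 := by
          have := hX.2 x hx
          rwa [pow_succ, pow_two] at this
        let b : N := ⟨x * a * x⁻¹, hNn.conj_mem a ha x⟩
        let c : N := ⟨x * (x * a * x⁻¹) * x⁻¹, hNn.conj_mem _ b.2 x⟩
        let a' : N := ⟨a, ha⟩
        have hcomm : ∀ u v : N, u * v = v * u := fun u v => Subtype.ext (eab_commute hN u.2 v.2)
        letI : CommGroup N := { (inferInstance : Group N) with mul_comm := hcomm }
        have hex : ∀ u : N, u * u * u = 1 := fun u => Subtype.ext (by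
          have := hN.2 u u.2
          rw [pow_succ, pow_two] at this
          exact this)
        have key := three_identity a' b c
        rw [hex, hex, inv_one, one_mul] at key
        have key' : a * (x * (x * a * x⁻¹) * x⁻¹)⁻¹ * (x * a * x⁻¹) * (x * (x * a * x⁻¹) * x⁻¹)⁻¹ *
            ((x * (x * a * x⁻¹) * x⁻¹) * (x * a * x⁻¹)⁻¹ * a * (x * a * x⁻¹)⁻¹)⁻¹ = 1 :=
          congrArg Subtype.val key
        have hback : x * (x * (x * a * x⁻¹) * x⁻¹) * x⁻¹ = a := by
          calc x * (x * (x * a * x⁻¹) * x⁻¹) * x⁻¹ = (x * x * x) * a * (x * x * x)⁻¹ := by group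
            _ = a := by rw [hx3]; group
        refine Eq.trans ?_ key'
        conv_rhs => arg 1; arg 1; arg 1; arg 1; rw [← hback]
        group)
    have : Nat.card N ≤ 3 ^ 3 := hb.trans (Nat.pow_le_pow_left hK3 3)
    omega
  intro E E' hE hEc hE' hE'c
  refine (hiff E hE hEc).mpr (hto E hE hEc) |>.trans ?_
  haveI : Std.Symm (fun A B : Subgroup P => IsElementaryAbelian 3 A ∧ 3 ^ 2 ≤ Nat.card A ∧
      IsElementaryAbelian 3 B ∧ 3 ^ 2 ≤ Nat.card B ∧ ∀ a ∈ A, ∀ b ∈ B, a * b = b * a) :=
    ⟨fun A B h => ⟨h.2.2.1, h.2.2.2.1, h.1, h.2.1, fun a ha b hb => (h.2.2.2.2 b hb a ha).symm⟩⟩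
  exact Std.Symm.symm _ _ ((hiff E' hE' hE'c).mpr (hto E' hE' hE'c))

end Cfsg.Agent.S1338
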