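import Cfsg.Statements.S1339
import Cfsg.Agent.Lib.Components.GenFitting
import Cfsg.Agent.Lib.Components.Fitting
import Mathlib.LinearAlgebra.Matrix.Transvection

set_option autoImplicit false
open Cfsg

namespace Cfsg.Agent.S1339

open Subgroup Matrix
open Cfsg.Agent.Lib.Components

/-- a normal `p`-subgroup containing its centraliser forces `F* = O_p` -/
theorem genFitting_eq_pCore {G : Type*} [Group G] [Finite G] {p : ℕ} [Fact p.Prime] {Q : Subgroup G}
    [hQn : Q.Normal] (hQ : IsPGroup p ↥Q) (hC : centralizer (Q : Set G) ≤ Q) :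
    generalizedFittingSubgroup G = pCore p G := by
  have hQO : Q ≤ pCore p G := le_pCore hQn hQ
  refine le_antisymm ?_ ((pCore_le_fittingSubgroup p).trans fitting_le_genFitting)
  refine genFitting_le_of_centralizer_le (fittingSubgroup_le_iSup_pCore.trans (iSup_le fun r => ?_))
    ((centralizer_le hQO).trans (hC.trans hQO))
  by_cases hr : (r : ℕ) = p
  · exact le_of_eq (by rw [hr])
  haveI : Fact (r : ℕ).Prime := ⟨r.2⟩
  have hd : Disjoint (pCore (r : ℕ) G) Q :=
    IsPGroup.disjoint_of_ne (r : ℕ) p hr _ _ (pCore_isPGroup _) hQ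
  have hle : pCore (r : ℕ) G ≤ centralizer (Q : Set G) := fun x hx => mem_centralizer_iff.mpr fun y hy =>
    (Subgroup.commute_of_normal_of_disjoint _ _ inferInstance hQn hd x y hx hy).eq.symm
  exact (hle.trans hC).trans hQO

variable {F : Type*} [Field F] [Fintype F] [DecidableEq F]

theorem one_of_ne_zero (hF : Fintype.card F = 2) {x : F} (hx : x ≠ 0) : x = 1 := by
  have h := FiniteField.pow_card_sub_one_eq_one x hx
  rw [hF] at h
  simpa [pow_one] using h

theorem result {F : Type*} [Field F] [Fintype F] [DecidableEq F] (hF : Fintype.card F = 2) (n : ℕ) (hn : 3 ≤ n) (i j : Fin n) (hij : i ≠ j) (t : Matrix.SpecialLinearGroup (Fin n) F) (ht : (t : Matrix (Fin n) (Fin n) F) = Matrix.transvection i j 1) : Cfsg.generalizedFittingSubgroup ↥(Subgroup.centralizer ({t} : Set (Matrix.SpecialLinearGroup (Fin n) F))) = Cfsg.pCore 2 ↥(Subgroup.centralizer ({t} : Set (Matrix.SpecialLinearGroup (Fin n) F))) := by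
  classical
  haveI : Fact (Nat.Prime 2) := ⟨Nat.prime_two⟩
  haveI : CharP F 2 := charP_of_card_eq_prime_pow (f := 1) (by rw [hF, pow_one])
  have h2 := CharTwo.two_eq_zero (R := F)
  let m : ↥(centralizer ({t} : Set (Matrix.SpecialLinearGroup (Fin n) F))) → Matrix (Fin n) (Fin n) F := fun g => ((g : (Matrix.SpecialLinearGroup (Fin n) F)) : Matrix (Fin n) (Fin n) F)
  have hmmul : ∀ g h : ↥(centralizer ({t} : Set (Matrix.SpecialLinearGroup (Fin n) F))), m (g * h) = m g * m h := fun g h => rfl
  have hm1 : m 1 = 1 := rfl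
  have hminj : Function.Injective m := fun g h e => Subtype.ext (Subtype.ext e)
  -- the entries of an element of the centraliser
  have hcomm : ∀ g : ↥(centralizer ({t} : Set (Matrix.SpecialLinearGroup (Fin n) F))), m g * single i j 1 = single i j 1 * m g := by
    intro g
    have h := congrArg (fun x : (Matrix.SpecialLinearGroup (Fin n) F) => (x : Matrix (Fin n) (Fin n) F)) (mem_centralizer_iff.mp g.2 t rfl)
    simp only [Matrix.SpecialLinearGroup.coe_mul, ht, Matrix.transvection, add_mul, mul_add, one_mul,
      mul_one] at h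
    exact (add_left_cancel h).symm
  have hcol : ∀ (g : ↥(centralizer ({t} : Set (Matrix.SpecialLinearGroup (Fin n) F)))) (k : Fin n), k ≠ i → m g k i = 0 := by
    intro g k hk
    have h := congrFun (congrFun (hcomm g) k) j
    rw [mul_single_apply_same, single_mul_apply_of_ne _ _ _ _ _ hk, mul_one] at h
    exact h
  have hrow : ∀ (g : ↥(centralizer ({t} : Set (Matrix.SpecialLinearGroup (Fin n) F)))) (l : Fin n), l ≠ j → m g j l = 0 := by
    intro g l hl
    have h := congrFun (congrFun (hcomm g) i) l
    rw [mul_single_apply_of_ne _ _ _ _ _ hl, single_mul_apply_same, one_mul] at h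
    exact h.symm
  have hdet : ∀ g : ↥(centralizer ({t} : Set (Matrix.SpecialLinearGroup (Fin n) F))), m g i i ≠ 0 := by
    intro g h0
    have h1 : (m g).det = 1 := (g : (Matrix.SpecialLinearGroup (Fin n) F)).2
    rw [Matrix.det_eq_zero_of_column_eq_zero i fun k => if e : k = i then e ▸ h0 else hcol g k e] at h1
    exact zero_ne_one h1
  have hdiag : ∀ g : ↥(centralizer ({t} : Set (Matrix.SpecialLinearGroup (Fin n) F))), m g i i = 1 ∧ m g j j = 1 := by
    intro g
    refine ⟨one_of_ne_zero hF (hdet g), one_of_ne_zero hF fun h0 => ?_⟩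
    have h1 : (m g).det = 1 := (g : (Matrix.SpecialLinearGroup (Fin n) F)).2
    rw [Matrix.det_eq_zero_of_row_eq_zero j fun l => if e : l = j then e ▸ h0 else hrow g l e] at h1
    exact zero_ne_one h1
  -- `X` vanishes off row `i` and column `j`, and on the corners
  let Sup : Matrix (Fin n) (Fin n) F → Prop := fun X =>
    (∀ k l, k ≠ i → l ≠ j → X k l = 0) ∧ X i i = 0 ∧ X j j = 0
  have hSadd : ∀ X Y, Sup X → Sup Y → Sup (X + Y) := fun X Y hX hY =>
    ⟨fun k l hk hl => by rw [Matrix.add_apply, hX.1 k l hk hl, hY.1 k l hk hl, add_zero],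
      by rw [Matrix.add_apply, hX.2.1, hY.2.1, add_zero], by rw [Matrix.add_apply, hX.2.2, hY.2.2, add_zero]⟩
  have hSneg : ∀ X, Sup X → Sup (-X) := fun X hX =>
    ⟨fun k l hk hl => by rw [Matrix.neg_apply, hX.1 k l hk hl, neg_zero],
      by rw [Matrix.neg_apply, hX.2.1, neg_zero], by rw [Matrix.neg_apply, hX.2.2, neg_zero]⟩
  have hXcol : ∀ X, Sup X → ∀ k, X k i = 0 := fun X hX k =>
    if e : k = i then by rw [e]; exact hX.2.1 else hX.1 k i e hij
  have hXrow : ∀ X, Sup X → ∀ l, X j l = 0 := fun X hX l =>
    if e : l = j then by rw [e]; exact hX.2.2 else hX.1 j l hij.symm e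
  have hSmulL : ∀ (g : ↥(centralizer ({t} : Set (Matrix.SpecialLinearGroup (Fin n) F)))) X, Sup X → Sup (m g * X) := by
    intro g X hX
    refine ⟨fun k l hk hl => ?_, ?_, ?_⟩
    · rw [mul_apply]
      refine Finset.sum_eq_zero fun r _ => ?_
      by_cases hr : r = i
      · rw [hr, hcol g k hk, zero_mul]
      · rw [hX.1 r l hr hl, mul_zero]
    · rw [mul_apply]
      exact Finset.sum_eq_zero fun r _ => by rw [hXcol X hX r, mul_zero]
    · rw [mul_apply]
      refine Finset.sum_eq_zero fun r _ => ?_
      by_cases hr : r = j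
      · rw [hr, hX.2.2, mul_zero]
      · rw [hrow g r hr, zero_mul]
  have hSmulR : ∀ (g : ↥(centralizer ({t} : Set (Matrix.SpecialLinearGroup (Fin n) F)))) X, Sup X → Sup (X * m g) := by
    intro g X hX
    refine ⟨fun k l hk hl => ?_, ?_, ?_⟩
    · rw [mul_apply]
      refine Finset.sum_eq_zero fun r _ => ?_
      by_cases hr : r = j
      · rw [hr, hrow g l hl, mul_zero]
      · rw [hX.1 k r hk hr, zero_mul]
    · rw [mul_apply]
      refine Finset.sum_eq_zero fun r _ => ?_
      by_cases hr : r = i
      · rw [hr, hX.2.1, zero_mul]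
      · rw [hcol g r hr, mul_zero]
    · rw [mul_apply]
      exact Finset.sum_eq_zero fun r _ => by rw [hXrow X hX r, zero_mul]
  let Q : Subgroup ↥(centralizer ({t} : Set (Matrix.SpecialLinearGroup (Fin n) F))) :=
    { carrier := {g | Sup (m g - 1)}
      mul_mem' := fun {a b} ha hb => by
        have e : m (a * b) - 1 = m a * (m b - 1) + (m a - 1) := by rw [hmmul, mul_sub, mul_one]; abel
        change Sup _
        rw [e]; exact hSadd _ _ (hSmulL a _ hb) ha
      one_mem' := by
        change Sup _
        rw [hm1, sub_self]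
        exact ⟨fun _ _ _ _ => rfl, rfl, rfl⟩
      inv_mem' := fun {a} ha => by
        have e : m a⁻¹ - 1 = -(m a⁻¹ * (m a - 1)) := by
          rw [mul_sub, mul_one, ← hmmul, inv_mul_cancel, hm1]; abel
        change Sup _
        rw [e]; exact hSneg _ (hSmulL _ _ ha) }
  haveI : Q.Normal := ⟨fun a ha g => by
    have e : m (g * a * g⁻¹) - 1 = m g * (m a - 1) * m g⁻¹ := by
      rw [mul_sub, sub_mul, mul_one, ← hmmul, ← hmmul, ← hmmul, mul_inv_cancel, hm1]
    change Sup _
    rw [e]; exact hSmulR _ _ (hSmulL _ _ ha)⟩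
  refine genFitting_eq_pCore (Q := Q) ?_ ?_
  · intro g
    refine ⟨2, Subtype.ext (hminj ?_)⟩
    have hX : Sup (m (g : ↥(centralizer ({t} : Set (Matrix.SpecialLinearGroup (Fin n) F)))) - 1) := g.2
    set X := m (g : ↥(centralizer ({t} : Set (Matrix.SpecialLinearGroup (Fin n) F)))) - 1 with hXdef
    have hpt : ∀ k l, k ≠ i → (X * X) k l = 0 := by
      intro k l hk
      rw [mul_apply]
      refine Finset.sum_eq_zero fun r _ => ?_
      by_cases hr : r = j
      · rw [hr, hXrow X hX l, mul_zero]
      · rw [hX.1 k r hk hr, zero_mul]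
    have h3 : X * (X * X) = 0 := by
      ext k l
      rw [mul_apply, Matrix.zero_apply]
      refine Finset.sum_eq_zero fun r _ => ?_
      by_cases hr : r = i
      · rw [hr, hXcol X hX k, zero_mul]
      · rw [hpt r l hr, mul_zero]
    have hsq : m (g : ↥(centralizer ({t} : Set (Matrix.SpecialLinearGroup (Fin n) F)))) * m (g : ↥(centralizer ({t} : Set (Matrix.SpecialLinearGroup (Fin n) F)))) = 1 + X * X := by
      have e : m (g : ↥(centralizer ({t} : Set (Matrix.SpecialLinearGroup (Fin n) F)))) = 1 + X := by rw [hXdef]; abel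
      have hXX : X + X = 0 := by
        ext k l
        rw [Matrix.add_apply, Matrix.zero_apply]
        exact CharTwo.add_self_eq_zero _
      rw [e, add_mul, mul_add, mul_add, one_mul, one_mul, mul_one,
        show 1 + X + (X + X * X) = 1 + (X + X) + X * X by abel, hXX, add_zero]
    rw [Subgroup.coe_pow, Subgroup.coe_one, hm1, show (2 : ℕ) ^ 2 = 2 + 2 from rfl, pow_add, pow_two, hmmul,
      hmmul, hsq, add_mul, mul_add, mul_add, one_mul, one_mul, mul_one,
      show X * X * (X * X) = X * (X * X) * X by simp only [mul_assoc], h3, zero_mul, add_zero]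
    ext k l
    rw [Matrix.add_apply, Matrix.add_apply, one_apply, add_assoc, CharTwo.add_self_eq_zero, add_zero]
  · -- the centraliser of `Q`
    intro x hx
    rw [mem_centralizer_iff] at hx
    have hel : ∀ (k l : Fin n), k ≠ l → ((k = i ∧ True) ∨ l = j) → k ≠ j → l ≠ i →
        ∃ g : ↥(centralizer ({t} : Set (Matrix.SpecialLinearGroup (Fin n) F))), g ∈ Q ∧ m g = Matrix.transvection k l 1 := by
      intro k l hkl hor hkj hli
      let g₀ : (Matrix.SpecialLinearGroup (Fin n) F) := ⟨Matrix.transvection k l 1, Matrix.det_transvection_of_ne k l hkl 1⟩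
      have hg : g₀ ∈ centralizer ({t} : Set (Matrix.SpecialLinearGroup (Fin n) F)) := by
        rw [mem_centralizer_iff]
        intro y hy
        rw [Set.mem_singleton_iff] at hy
        subst hy
        apply Subtype.ext
        rw [Matrix.SpecialLinearGroup.coe_mul, Matrix.SpecialLinearGroup.coe_mul, ht]
        change Matrix.transvection i j 1 * Matrix.transvection k l 1 =
          Matrix.transvection k l 1 * Matrix.transvection i j 1
        have e1 : single i j (1 : F) * single k l 1 = 0 := single_mul_single_of_ne (c := (1 : F)) i j k hkj.symm 1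
        have e2 : single k l (1 : F) * single i j 1 = 0 := single_mul_single_of_ne (c := (1 : F)) k l i hli 1
        simp only [Matrix.transvection, add_mul, mul_add, one_mul, mul_one, e1, e2]
        abel
      refine ⟨⟨g₀, hg⟩, ?_, rfl⟩
      change Sup (Matrix.transvection k l 1 - 1)
      rw [Matrix.transvection, add_sub_cancel_left]
      refine ⟨fun a b ha hb => ?_, ?_, ?_⟩
      · rw [single_apply, if_neg]
        rintro ⟨rfl, rfl⟩
        rcases hor with ⟨h, -⟩ | h
        · exact ha h
        · exact hb h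
      · rw [single_apply, if_neg]; rintro ⟨rfl, rfl⟩; exact hkl rfl
      · rw [single_apply, if_neg]; rintro ⟨rfl, rfl⟩; exact hkl rfl
    have hcommx : ∀ (k l : Fin n), k ≠ l → ((k = i ∧ True) ∨ l = j) → k ≠ j → l ≠ i →
        m x * single k l 1 = single k l 1 * m x := by
      intro k l h1 h2 h3 h4
      obtain ⟨g, hg, hgm⟩ := hel k l h1 h2 h3 h4
      have h := congrArg m (hx g hg)
      rw [hmmul, hmmul, hgm] at h
      simp only [Matrix.transvection, add_mul, mul_add, one_mul, mul_one] at h
      exact (add_left_cancel h).symm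
    change Sup (m x - 1)
    refine ⟨fun a b ha hb => ?_, ?_, ?_⟩
    · by_cases hbi : b = i
      · subst hbi
        rw [Matrix.sub_apply, Matrix.one_apply_ne ha, hcol x a ha, sub_zero]
      · have h := congrFun (congrFun (hcommx i b (fun e => hbi e.symm) (Or.inl ⟨rfl, trivial⟩) hij hbi) i) b
        rw [mul_single_apply_same, single_mul_apply_same, one_mul, mul_one, (hdiag x).1] at h
        by_cases hab : a = b
        · subst hab
          rw [Matrix.sub_apply, Matrix.one_apply_eq, ← h, sub_self]
        · rw [Matrix.sub_apply, Matrix.one_apply_ne hab, sub_zero]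
          by_cases haj : a = j
          · rw [haj]; exact hrow x b hb
          · have h' := congrFun (congrFun (hcommx i a (fun e => ha e.symm) (Or.inl ⟨rfl, trivial⟩) hij ha) i) b
            rw [mul_single_apply_of_ne _ _ _ _ _ (fun e => hab e.symm), single_mul_apply_same, one_mul] at h'
            exact h'.symm
    · rw [Matrix.sub_apply, Matrix.one_apply_eq, (hdiag x).1, sub_self]
    · rw [Matrix.sub_apply, Matrix.one_apply_eq, (hdiag x).2, sub_self]

end Cfsg.Agent.S1339
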