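import Cfsg.Statements.S1340
import Cfsg.Agent.Lib.Components.BlockSL
import Cfsg.Agent.Lib.Components.Balance

set_option autoImplicit false
open Cfsg

namespace Cfsg.Agent.S1340

open Cfsg.Agent.Lib.Components


/-- Let F be a finite field of odd order and n ≥ 3 with (n, |F|) ≠ (3, 3). Then GL(n, F) has a non-central involution t such that C(t) / O(C(t)) has a component. -/
theorem result {F : Type*} [Field F] [Fintype F] [DecidableEq F] (hF : Odd (Fintype.card F)) (n : ℕ) (hn : 3 ≤ n) (h33 : ¬ (n = 3 ∧ Fintype.card F = 3)) : ∃ t : Matrix.GeneralLinearGroup (Fin n) F, orderOf t = 2 ∧ t ∉ Subgroup.center (Matrix.GeneralLinearGroup (Fin n) F) ∧ Cfsg.HasComponent (↥(Subgroup.centralizer ({t} : Set (Matrix.GeneralLinearGroup (Fin n) F))) ⧸ Cfsg.oddCore ↥(Subgroup.centralizer ({t} : Set (Matrix.GeneralLinearGroup (Fin n) F)))) := by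

  classical
  haveI : Fact (Nat.Prime 2) := ⟨Nat.prime_two⟩
  obtain ⟨m, rfl⟩ : ∃ m, n = m + 1 := ⟨n - 1, by omega⟩
  have h2 := two_ne_zero_of_odd hF
  have hm : 2 ≤ m := by omega
  have hqs : IsQuasisimple (Matrix.SpecialLinearGroup (Fin m) F) := isQuasisimple_SL hm fun h =>
    card_four_of_odd hF fun h3 => h33 ⟨by omega, h3⟩
  have hsq : cdMat m (-1 : F) 1 * cdMat m (-1) 1 = 1 := by
    rw [cdMat, Matrix.diagonal_mul_diagonal, ← Matrix.diagonal_one]
    congr 1; funext i; split_ifs <;> simp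
  let t : Matrix.GeneralLinearGroup (Fin (m + 1)) F := ⟨cdMat m (-1) 1, cdMat m (-1) 1, hsq, hsq⟩
  set C := Subgroup.centralizer ({t} : Set (Matrix.GeneralLinearGroup (Fin (m + 1)) F)) with hC
  let ι : Matrix.SpecialLinearGroup (Fin m) F →* Matrix.GeneralLinearGroup (Fin (m + 1)) F :=
    Matrix.SpecialLinearGroup.toGL.comp (Cfsg.Agent.Lib.KnownA.blockSL (finSumFinEquiv (m := m) (n := 1)))
  have hι : ∀ A, ι A ∈ C := fun A => Subgroup.mem_centralizer_singleton_iff.mpr
    (Units.ext (commute_cdMat_blkMat (-1 : F) 1 (A : Matrix (Fin m) (Fin m) F)).eq.symm)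
  let ι' : Matrix.SpecialLinearGroup (Fin m) F →* ↥C := ι.codRestrict C hι
  have hinj : Function.Injective ι := by
    intro A B h
    exact Cfsg.Agent.Lib.KnownA.blockSL_injective _ (Subtype.ext (congrArg Units.val h))
  have hinj' : Function.Injective ι' := fun A B h => hinj (congrArg Subtype.val h)
  set L := ι'.range with hL
  have hLn : L.Normal := by
    refine ⟨fun x hx g => ?_⟩
    obtain ⟨A, rfl⟩ := hx
    have hg : ∀ u : ↥C, Commute (u.1 : Matrix (Fin (m + 1)) (Fin (m + 1)) F) (cdMat m (-1) 1) :=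
      fun u => congrArg Units.val (Subgroup.mem_centralizer_singleton_iff.mp u.2)
    obtain ⟨A', hdet, hA'⟩ := conj_blk h2 (g := (g.1 : Matrix (Fin (m + 1)) (Fin (m + 1)) F))
      (g' := ((g⁻¹).1 : Matrix (Fin (m + 1)) (Fin (m + 1)) F)) (Units.mul_inv g.1) (hg g) (hg g⁻¹)
      (A : Matrix (Fin m) (Fin m) F)
    exact ⟨⟨A', hdet.trans A.2⟩, Subtype.ext (Units.ext hA'.symm)⟩
  have hLq : IsQuasisimple ↥L := IsQuasisimple.of_mulEquiv (MonoidHom.ofInjective hinj') hqs 
  refine ⟨t, ?_, ?_, ?_⟩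
  · refine orderOf_eq_prime (Units.ext ?_) ?_
    · rw [Units.val_pow_eq_pow_val, pow_two]; exact hsq
    · intro h
      have this : cdMat m (-1 : F) 1 0 0 = (1 : Matrix (Fin (m + 1)) (Fin (m + 1)) F) 0 0 :=
        congrArg (fun u : Matrix.GeneralLinearGroup (Fin (m + 1)) F => (u : Matrix (Fin (m + 1)) (Fin (m + 1)) F) 0 0) h
      rw [cdMat_diag_of_ne _ _ (by simp; omega), Matrix.one_apply_eq] at this
      exact h2 (by linear_combination -this)
  · intro h
    have hc := Subgroup.mem_center_iff.mp h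
    have hi : (0 : Fin (m + 1)) ≠ Fin.last m := by
      intro e; have := congrArg Fin.val e; simp at this; omega
    let T : Matrix.GeneralLinearGroup (Fin (m + 1)) F :=
      Matrix.SpecialLinearGroup.toGL (Matrix.SpecialLinearGroup.transvection hi (1 : F))
    have key : (Matrix.transvection 0 (Fin.last m) (1 : F) * cdMat m (-1) 1 : Matrix (Fin (m + 1)) (Fin (m + 1)) F) 0 (Fin.last m) =
        (cdMat m (-1) 1 * Matrix.transvection 0 (Fin.last m) (1 : F) : Matrix (Fin (m + 1)) (Fin (m + 1)) F) 0 (Fin.last m) :=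
      congrArg (fun u : Matrix.GeneralLinearGroup (Fin (m + 1)) F =>
        (u : Matrix (Fin (m + 1)) (Fin (m + 1)) F) 0 (Fin.last m)) (hc T)
    simp [Matrix.transvection, Matrix.add_mul, Matrix.mul_add, cdMat_offdiag _ _ hi, cdMat_diag_last,
      cdMat_diag_of_ne (-1 : F) 1 (show ((0 : Fin (m + 1)) : ℕ) + 1 ≠ m + 1 by simp; omega)] at key
    exact h2 (by linear_combination key)
  · set O := oddCore ↥C with hO
    haveI : O.Normal := pPrimeCore_normal 2 ↥C
    have hnle : ¬ L ≤ O := by
      intro hle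
      let A : Matrix.SpecialLinearGroup (Fin m) F :=
        Matrix.SpecialLinearGroup.diag2n (show (⟨0, by omega⟩ : Fin m) ≠ ⟨1, by omega⟩ by simp) (-1) (by simp)
      have hA2 : A * A = 1 := by
        apply Subtype.ext
        rw [Matrix.SpecialLinearGroup.coe_mul, Matrix.SpecialLinearGroup.diag2n_coe, Matrix.diagonal_mul_diagonal,
          Matrix.SpecialLinearGroup.coe_one, ← Matrix.diagonal_one]
        congr 1; funext i; split_ifs <;> simp
      have hA1 : A ≠ 1 := fun h => by
        have := congrFun (congrFun (congrArg Subtype.val h) (⟨0, by omega⟩ : Fin m)) ⟨0, by omega⟩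
        simp [A, Matrix.SpecialLinearGroup.diag2n_coe] at this
        exact h2 (by linear_combination -this)
      apply hA1
      refine hinj' ?_
      rw [map_one]
      refine eq_one_of_pow_eq_one_of_coprime (p := 2) (n := 1) ((pPrimeCore_coprime 2).coprime_dvd_left
        (Subgroup.orderOf_dvd_natCard _ (hle ⟨A, rfl⟩))) ?_
      rw [pow_one, ← map_pow, pow_two, hA2, map_one]
    have hnt : Nontrivial ↥(L.map (QuotientGroup.mk' O)) := by
      rw [Subgroup.nontrivial_iff_ne_bot, ne_eq, Subgroup.map_eq_bot_iff, QuotientGroup.ker_mk']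
      exact hnle
    exact ⟨L.map (QuotientGroup.mk' O), (hLn.map _ (QuotientGroup.mk'_surjective O)).isSubnormal,
      (IsQuasisimple.map hLq _).resolve_left ((Subgroup.nontrivial_iff_ne_bot _).mp hnt)⟩

end Cfsg.Agent.S1340
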