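import Cfsg.Statements.S1341
import Cfsg.Agent.Lib.Components.Transport
import Cfsg.Agent.Lib.Components.PComponent

set_option autoImplicit false
open Cfsg

namespace Cfsg.Agent.S1341

open Subgroup Cfsg.Agent.Lib.Components
open scoped Pointwise commutatorElement

theorem isPGroup_map_pPrimePCore {X : Type*} [Group X] [Finite X] {y : X}
    (hy : y ∈ pPrimePCore 2 X) : ∃ k : ℕ, y ^ 2 ^ k ∈ pPrimeCore 2 X := by
  haveI : Fact (Nat.Prime 2) := ⟨Nat.prime_two⟩
  obtain ⟨k, hk⟩ := pCore_isPGroup 2 (G := X ⧸ pPrimeCore 2 X) ⟨_, hy⟩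
  refine ⟨k, (QuotientGroup.eq_one_iff _).mp ?_⟩
  have := congrArg Subtype.val hk
  simpa using this

abbrev MM (X : Type*) [Group X] : Subgroup X := pLayer 2 X ⊔ pPrimePCore 2 X

theorem extendedTwoLayer_eq {X : Type*} [Group X] [Finite X]
    (T : Sylow 2 ↥(MM X)) :
    extendedTwoLayer X = pLayer 2 X ⊔ oddCore X ⊔ ((oddCore ↥(centralizer (((T : Subgroup ↥(MM X)).map (MM X).subtype : Subgroup X) : Set X))).map (centralizer (((T : Subgroup ↥(MM X)).map (MM X).subtype : Subgroup X) : Set X)).subtype) := by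
  haveI : Fact (Nat.Prime 2) := ⟨Nat.prime_two⟩
  set Tm := (T : Subgroup ↥(MM X)).map (MM X).subtype with hTm
  set R := (oddCore ↥(centralizer (Tm : Set X))).map (centralizer (Tm : Set X)).subtype with hR
  set N := pLayer 2 X ⊔ oddCore X with hN
  haveI hNn : N.Normal := by
    haveI := pLayer_normal (G := X) 2
    haveI : (oddCore X).Normal := pPrimeCore_normal 2 X
    exact Subgroup.sup_normal _ _
  refine le_antisymm ?_ (sup_le le_sup_left
    ((le_iSup (fun T' : Sylow 2 ↥(MM X) => (oddCore ↥(centralizer (((T' : Subgroup ↥(MM X)).map (MM X).subtype : Subgroup X) : Set X))).map (centralizer (((T' : Subgroup ↥(MM X)).map (MM X).subtype : Subgroup X) : Set X)).subtype) T).trans (le_sup_right (a := N))))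
  refine sup_le le_sup_left (iSup_le fun T' => ?_)
  obtain ⟨m, hm⟩ := MulAction.exists_smul_eq ↥(MM X) T T'
  have hTT : (T' : Subgroup ↥(MM X)).map (MM X).subtype = Tm.map (MulAut.conj (m : X)).toMonoidHom := by
    rw [← hm, hTm, Sylow.smul_def, Sylow.pointwise_smul_def, Subgroup.map_map]
    refine Eq.trans (Subgroup.map_map _ _ _) ?_
    rfl
  have hR' : (oddCore ↥(centralizer (((T' : Subgroup ↥(MM X)).map (MM X).subtype : Subgroup X) : Set X))).map
      (centralizer (((T' : Subgroup ↥(MM X)).map (MM X).subtype : Subgroup X) : Set X)).subtype =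
      R.map (MulAut.conj (m : X)).toMonoidHom := by
    rw [hR, oddCore, oddCore, map_map_pPrimeCore_subgroup, map_centralizer_subgroup_mulEquiv, ← hTT]
  rw [hR']
  have hTN : Tm ≤ normalizer ((N ⊔ R : Subgroup X) : Set X) := by
    intro t ht
    rw [mem_normalizer_iff_map_conj, Subgroup.map_sup]
    have h1 : N.map (MulAut.conj t).toMonoidHom = N :=
      mem_normalizer_iff_map_conj.mp (by rw [Subgroup.normalizer_eq_top]; trivial)
    have h2 : R.map (MulAut.conj t).toMonoidHom = R := by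
      have hc : ∀ r ∈ R, t * r * t⁻¹ = r := by
        intro r hr
        have := mem_centralizer_iff.mp (Subgroup.map_subtype_le _ hr) t ht
        rw [this, mul_inv_cancel_right]
      ext r
      constructor
      · rintro ⟨r', hr', rfl⟩
        simpa [hc r' hr'] using hr'
      · exact fun hr => ⟨r, hr, by simpa using hc r hr⟩
    rw [h1, h2]
  have hMle : (MM X) ≤ N ⊔ Tm := by
    have hNM : N ≤ (MM X) := sup_le le_sup_left (le_sup_of_le_right (fun y hy => by
      show QuotientGroup.mk' _ y ∈ pCore 2 _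
      rw [QuotientGroup.mk'_apply, (QuotientGroup.eq_one_iff y).mpr hy]
      exact one_mem _))
    have hP : IsPGroup 2 (↥(MM X) ⧸ N.subgroupOf (MM X)) := by
      intro z
      induction z using QuotientGroup.induction_on with
      | H w =>
        obtain ⟨w, hw⟩ := w
        have hw' : w ∈ N ⊔ pPrimePCore 2 X :=
          (sup_le_sup_right le_sup_left _ : (MM X) ≤ N ⊔ pPrimePCore 2 X) hw
        rw [← SetLike.mem_coe, Subgroup.normal_mul] at hw'
        obtain ⟨n, hn, y, hy, rfl⟩ := hw'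
        obtain ⟨k, hk⟩ := isPGroup_map_pPrimePCore hy
        refine ⟨k, ?_⟩
        rw [← QuotientGroup.mk_pow, QuotientGroup.eq_one_iff, Subgroup.mem_subgroupOf]
        rw [← QuotientGroup.eq_one_iff (N := N), Subgroup.coe_pow, QuotientGroup.mk_pow]
        show ((n * y : X) : X ⧸ N) ^ 2 ^ k = 1
        rw [QuotientGroup.mk_mul, (QuotientGroup.eq_one_iff n).mpr hn, one_mul,
          ← QuotientGroup.mk_pow, QuotientGroup.eq_one_iff]
        exact (le_sup_right : oddCore X ≤ N) hk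
    have htop : N.subgroupOf (MM X) ⊔ (T : Subgroup ↥(MM X)) = ⊤ := by
      rw [← Subgroup.index_eq_one]
      obtain ⟨n, hn⟩ := IsPGroup.iff_card.mp hP
      rw [← Subgroup.index_eq_card] at hn
      have hd1 : (N.subgroupOf (MM X) ⊔ (T : Subgroup ↥(MM X))).index ∣ 2 ^ n :=
        hn ▸ Subgroup.index_dvd_of_le le_sup_left
      have hd2 := Subgroup.index_dvd_of_le (le_sup_right : (T : Subgroup ↥(MM X)) ≤ N.subgroupOf (MM X) ⊔ T)
      obtain ⟨j, -, hj⟩ := (Nat.dvd_prime_pow Nat.prime_two).mp hd1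
      rcases j with _ | j
      · rw [hj, pow_zero]
      · exact absurd (dvd_trans (hj ▸ dvd_pow_self 2 (Nat.succ_ne_zero j)) hd2) T.not_dvd_index
    intro w hw
    have : w ∈ (N.subgroupOf (MM X) ⊔ (T : Subgroup ↥(MM X))).map (MM X).subtype := ⟨⟨w, hw⟩, htop ▸ mem_top _, rfl⟩
    rwa [Subgroup.map_sup, Subgroup.map_subgroupOf_eq_of_le hNM] at this
  have hmN : (m : X) ∈ normalizer ((N ⊔ R : Subgroup X) : Set X) :=
    sup_le (le_sup_left.trans le_normalizer) hTN (hMle m.2)
  exact (Subgroup.map_mono le_sup_right).trans (mem_normalizer_iff_map_conj.mp hmN).le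


/-- Let X be finite and T a Sylow 2-subgroup of L_{2'}(X) O_{2',2}(X). Then L*_{2'}(X) = L_{2'}(X) ⊔ O(X) ⊔ O(C_X(T)). -/
theorem result {X : Type*} [Group X] [Finite X] (T : Sylow 2 ↥(Cfsg.pLayer 2 X ⊔ Cfsg.pPrimePCore 2 X)) : Cfsg.extendedTwoLayer X = Cfsg.pLayer 2 X ⊔ Cfsg.oddCore X ⊔ ((Cfsg.oddCore ↥(Subgroup.centralizer (((T : Subgroup ↥(Cfsg.pLayer 2 X ⊔ Cfsg.pPrimePCore 2 X)).map (Cfsg.pLayer 2 X ⊔ Cfsg.pPrimePCore 2 X).subtype : Subgroup X) : Set X))).map (Subgroup.centralizer (((T : Subgroup ↥(Cfsg.pLayer 2 X ⊔ Cfsg.pPrimePCore 2 X)).map (Cfsg.pLayer 2 X ⊔ Cfsg.pPrimePCore 2 X).subtype : Subgroup X) : Set X)).subtype) := by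
  exact extendedTwoLayer_eq T

end Cfsg.Agent.S1341
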