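import Cfsg.Statements.S1342
import Cfsg.Agent.Lib.Components.Transport
import Cfsg.Agent.Lib.Components.GenFitting

set_option autoImplicit false
open Cfsg

namespace Cfsg.Agent.S1342

open Subgroup Cfsg.Agent.Lib.Components

theorem extendedTwoLayer_normal {X : Type*} [Group X] [Finite X] :
    (extendedTwoLayer X).Normal := by
  have : Fact (Nat.Prime 2) := ⟨Nat.prime_two⟩
  refine ⟨fun x hx g => ?_⟩
  have key : (extendedTwoLayer X).map (MulAut.conj g).toMonoidHom ≤ extendedTwoLayer X := by
    rw [extendedTwoLayer, Subgroup.map_sup, Subgroup.map_iSup, Subgroup.map_sup]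
    set U := pLayer 2 X ⊔ pPrimePCore 2 X
    refine sup_le_sup (sup_le_sup ?_ ?_) (iSup_le fun T => ?_)
    · rintro _ ⟨y, hy, rfl⟩
      exact (pLayer_normal (G := X) 2).conj_mem y hy g
    · rintro _ ⟨y, hy, rfl⟩
      exact (pPrimeCore_normal 2 X).conj_mem y hy g
    · have hPn : (pPrimePCore 2 X).Normal :=
        (pCore_normal 2 (X ⧸ pPrimeCore 2 X)).comap _
      have hUn : U.Normal := Subgroup.sup_normal _ _
      let φ : ↥U ≃* ↥U := MulAut.conjNormal g
      let T' : Sylow 2 ↥U := T.mapSurjective (f := φ.toMonoidHom) φ.surjective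
      refine le_iSup_of_le T' (le_of_eq ?_)
      have hTT : ((T : Subgroup ↥U).map U.subtype).map (MulAut.conj g).toMonoidHom =
          (T' : Subgroup ↥U).map U.subtype := by
        rw [Subgroup.map_map]
        refine Eq.trans ?_ (Subgroup.map_map _ _ _).symm
        rfl
      rw [oddCore, map_map_pPrimeCore_subgroup, map_centralizer_subgroup_mulEquiv, hTT]
  exact key ⟨x, hx, by simp⟩


/-- For a finite group X, L*_{2'}(X) is normal in X. -/
theorem result {X : Type*} [Group X] [Finite X] : (Cfsg.extendedTwoLayer X).Normal := by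
  exact extendedTwoLayer_normal

end Cfsg.Agent.S1342
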