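import Cfsg.Statements.S1343
import Cfsg.Agent.Lib.Components.Constrained
import Cfsg.Agent.Lib.Components.Transport

set_option autoImplicit false
open Cfsg

namespace Cfsg.Agent.S1343

open Subgroup Cfsg Cfsg.Agent.Lib.Components
open scoped Pointwise

variable {X : Type*} [Group X]

theorem map_conj_eq_iff {H : Subgroup X} {g : X} :
    H.map (MulAut.conj g).toMonoidHom = H ↔ g ∈ normalizer (H : Set X) := by
  rw [Subgroup.mem_normalizer_iff]
  constructor
  · intro h n
    constructor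
    · intro hn; rw [← h]; exact ⟨n, hn, rfl⟩
    · intro hn
      rw [← h] at hn
      obtain ⟨m, hm, he⟩ := hn
      simp only [MulEquiv.coe_toMonoidHom, MulAut.conj_apply, mul_left_inj, mul_right_inj] at he
      exact he ▸ hm
  · intro h
    apply le_antisymm
    · rintro _ ⟨n, hn, rfl⟩; exact (h n).mp hn
    · intro n hn
      exact ⟨g⁻¹ * n * g, (h _).mpr (by simpa [mul_assoc] using hn), by simp [mul_assoc]⟩

theorem map_conj_eq {H : Subgroup X} {g : X} (h : g ∈ normalizer (H : Set X)) :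
    H.map (MulAut.conj g).toMonoidHom = H := map_conj_eq_iff.mpr h

/-- the odd core of the centralizer of `T`, as a subgroup of `X` -/
def oC (T : Subgroup X) : Subgroup X :=
  (oddCore ↥(centralizer (T : Set X))).map (centralizer (T : Set X)).subtype

theorem oC_conj (T : Subgroup X) (g : X) :
    (oC T).map (MulAut.conj g).toMonoidHom = oC (T.map (MulAut.conj g).toMonoidHom) := by
  unfold oC oddCore
  rw [map_map_pPrimeCore_subgroup, map_centralizer_subgroup_mulEquiv]

theorem coprime_oC [Finite X] (T : Subgroup X) : (Nat.card ↥(oC T)).Coprime 2 := by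
  unfold oC oddCore
  rw [Subgroup.card_map_of_injective (Subgroup.subtype_injective _)]
  exact pPrimeCore_coprime 2

/-- `L O_{2',2}(X) = L O(X) T` for a Sylow `2`-subgroup `T`. -/
theorem M_le_sup_sylow [Finite X] (T : Sylow 2 ↥(pLayer 2 X ⊔ pPrimePCore 2 X)) :
    pLayer 2 X ⊔ pPrimePCore 2 X ≤ (pLayer 2 X ⊔ oddCore X) ⊔
      (T : Subgroup ↥(pLayer 2 X ⊔ pPrimePCore 2 X)).map
        (pLayer 2 X ⊔ pPrimePCore 2 X).subtype := by
  revert T
  generalize hM : pLayer 2 X ⊔ pPrimePCore 2 X = M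
  intro T
  haveI : (pLayer 2 X ⊔ oddCore X).Normal := inferInstance
  generalize hN : pLayer 2 X ⊔ oddCore X = N
  haveI : N.Normal := by rw [← hN]; infer_instance
  have hNM : N ≤ M := by
    rw [← hM, ← hN]; exact sup_le_sup_left (pPrimeCore_le_pPrimePCore 2) _
  have hp : IsPGroup 2 ↥(M.map (QuotientGroup.mk' N)) := by
    rintro ⟨y, hy⟩
    rw [← hM, Subgroup.map_sup, (Subgroup.map_eq_bot_iff (pLayer 2 X)).mpr
      (by rw [QuotientGroup.ker_mk', ← hN]; exact le_sup_left), bot_sup_eq] at hy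
    obtain ⟨u, hu, rfl⟩ := hy
    obtain ⟨n, hn⟩ := pCore_isPGroup (G := X ⧸ pPrimeCore 2 X) 2
      ⟨QuotientGroup.mk' (pPrimeCore 2 X) u, hu⟩
    refine ⟨n, Subtype.ext ?_⟩
    have h1 : u ^ 2 ^ n ∈ pPrimeCore 2 X := by
      rw [← QuotientGroup.eq_one_iff]
      exact congrArg Subtype.val hn
    have h2 : u ^ 2 ^ n ∈ N := hN ▸ mem_sup_right h1
    show (QuotientGroup.mk' N u) ^ 2 ^ n = 1
    rw [← map_pow]
    exact (QuotientGroup.eq_one_iff _).mpr h2
  have hTM : (T : Subgroup ↥M).map M.subtype ≤ M := map_subtype_le _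
  generalize hT' : (T : Subgroup ↥M).map M.subtype = T' at hTM ⊢
  have h1 : ((T'.map (QuotientGroup.mk' N)).relIndex (M.map (QuotientGroup.mk' N))) ∣
      T'.relIndex M := by
    rw [Subgroup.relIndex_map_map, QuotientGroup.ker_mk', sup_eq_left.mpr hNM]
    exact Subgroup.relIndex_dvd_of_le_left M le_sup_left
  have h2 : ¬ 2 ∣ T'.relIndex M := by
    rw [← hT', Subgroup.relIndex, show ((T : Subgroup ↥M).map M.subtype).subgroupOf M =
      (T : Subgroup ↥M) from Subgroup.comap_map_eq_self_of_injective M.subtype_injective _]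
    exact T.not_dvd_index
  obtain ⟨k, hk⟩ := IsPGroup.iff_card.mp hp
  have h3 : (T'.map (QuotientGroup.mk' N)).relIndex (M.map (QuotientGroup.mk' N)) ∣ 2 ^ k := by
    rw [← hk]; exact Subgroup.relIndex_dvd_card _ _
  obtain ⟨j, hj, hje⟩ := (Nat.dvd_prime_pow Nat.prime_two).mp h3
  rw [hje] at h1
  have hj0 : j = 0 := by
    by_contra hne
    exact h2 ((dvd_pow_self 2 hne).trans h1)
  rw [hj0, pow_zero, Subgroup.relIndex_eq_one] at hje
  calc M ≤ M ⊔ N := le_sup_left
    _ = (M.map (QuotientGroup.mk' N)).comap (QuotientGroup.mk' N) := by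
      rw [Subgroup.comap_map_eq, QuotientGroup.ker_mk']
    _ ≤ (T'.map (QuotientGroup.mk' N)).comap (QuotientGroup.mk' N) := comap_mono hje
    _ = N ⊔ T' := by rw [Subgroup.comap_map_eq, QuotientGroup.ker_mk', sup_comm]

/-- Let X be finite. Then L*_{2'}(X) = L_{2'}(X) ⊔ F for some subgroup F of odd order normalized by a Sylow 2-subgroup of X. -/
theorem result {X : Type*} [Group X] [Finite X] : ∃ F : Subgroup X, Odd (Nat.card ↥F) ∧ (∃ S : Sylow 2 X, (S : Subgroup X) ≤ Subgroup.normalizer (F : Set X)) ∧ Cfsg.extendedTwoLayer X = Cfsg.pLayer 2 X ⊔ F := by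
  set M := Cfsg.pLayer 2 X ⊔ Cfsg.pPrimePCore 2 X with hM
  haveI hMn : M.Normal := by rw [hM]; infer_instance
  obtain ⟨T0⟩ : Nonempty (Sylow 2 ↥M) := inferInstance
  set T := (T0 : Subgroup ↥M).map M.subtype with hT
  obtain ⟨S, hS⟩ := (T0.isPGroup'.map M.subtype).exists_le_sylow
  have hSM : (S : Subgroup X) ⊓ M = T := by
    refine le_antisymm ?_ (le_inf hS (map_subtype_le _))
    have h1 : IsPGroup 2 ↥(((S : Subgroup X) ⊓ M).subgroupOf M) :=
      (S.isPGroup'.to_le inf_le_left).of_equiv (Subgroup.subgroupOfEquivOfLe inf_le_right).symm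
    have h2 : (T0 : Subgroup ↥M) ≤ ((S : Subgroup X) ⊓ M).subgroupOf M := fun x hx =>
      ⟨hS ⟨x, hx, rfl⟩, x.2⟩
    intro x hx
    exact ⟨⟨x, hx.2⟩, (T0.is_maximal' h1 h2).le hx, rfl⟩
  refine ⟨Cfsg.oddCore X ⊔ oC T, ?_, ⟨S, ?_⟩, ?_⟩
  · have h1 : Nat.Coprime (Nat.card ↥(oC T) * Nat.card ↥(Cfsg.oddCore X)) 2 :=
      Nat.Coprime.mul_left (coprime_oC T) (pPrimeCore_coprime 2)
    have h2 := card_sup_dvd (oC T) (Cfsg.oddCore X)
    rw [sup_comm] at h2
    exact Nat.coprime_two_right.mp (h1.coprime_dvd_left h2)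
  · intro s hs
    have hsT : T.map (MulAut.conj s).toMonoidHom = T := by
      rw [← hSM, Subgroup.map_inf _ _ _ (MulAut.conj s).injective,
        Cfsg.Agent.S1343.map_conj_eq (Subgroup.le_normalizer hs),
        Cfsg.Agent.S1343.map_conj_eq (H := M) (by simp [Subgroup.normalizer_eq_top])]
    rw [← Cfsg.Agent.S1343.map_conj_eq_iff, Subgroup.map_sup, oC_conj, hsT,
      Cfsg.Agent.S1343.map_conj_eq (H := Cfsg.oddCore X) (by simp [Subgroup.normalizer_eq_top])]
  · rw [show Cfsg.extendedTwoLayer X = Cfsg.pLayer 2 X ⊔ Cfsg.oddCore X ⊔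
      ⨆ T : Sylow 2 ↥M, oC ((T : Subgroup ↥M).map M.subtype) from rfl, ← sup_assoc]
    apply le_antisymm
    · refine sup_le le_sup_left (iSup_le fun T' => ?_)
      obtain ⟨g, hg⟩ := MulAction.exists_smul_eq ↥M T0 T'
      set N := Cfsg.pLayer 2 X ⊔ Cfsg.oddCore X with hN
      haveI : N.Normal := by rw [hN]; infer_instance
      obtain ⟨w, hw, τ, hτ, hgw⟩ := Subgroup.mem_sup_of_normal_left.mp
        (M_le_sup_sylow T0 (g.2 : (g : X) ∈ M))
      have hconj : (T' : Subgroup ↥M).map M.subtype = T.map (MulAut.conj w).toMonoidHom := by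
        rw [← hg, Sylow.coe_subgroup_smul]
        have hh : ((MulAut.conj g • (T0 : Subgroup ↥M)).map M.subtype) =
            T.map (MulAut.conj (g : X)).toMonoidHom := by
          rw [hT, Subgroup.map_map]; exact Subgroup.map_map _ _ _
        refine hh.trans ?_
        rw [← hgw, map_mul, show ((MulAut.conj w * MulAut.conj τ : MulAut X)).toMonoidHom =
          (MulAut.conj w).toMonoidHom.comp (MulAut.conj τ).toMonoidHom from rfl,
          ← Subgroup.map_map, Cfsg.Agent.S1343.map_conj_eq (H := T) (Subgroup.le_normalizer hτ)]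
      rw [hconj, ← oC_conj]
      rintro _ ⟨x, hx, rfl⟩
      have hwm : w ∈ N ⊔ oC T := mem_sup_left hw
      exact mul_mem (mul_mem hwm (mem_sup_right hx)) (inv_mem hwm)
    · exact sup_le le_sup_left (le_sup_of_le_right (le_iSup_of_le T0 le_rfl))

end Cfsg.Agent.S1343
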