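import Cfsg.Statements.S1344
import Cfsg.Agent.S1341
import Cfsg.Agent.Lib.Components.PComponent

set_option autoImplicit false
open Cfsg

namespace Cfsg.Agent.S1344

open Subgroup Cfsg.Agent.Lib.Components
open scoped Pointwise commutatorElement


/-- Let K be a 2-component of the finite group X. Then K ≤ L*_{2'}(X) and K is normal in L*_{2'}(X). -/
theorem result {X : Type*} [Group X] [Finite X] (K : Subgroup X) (hK : Cfsg.IsPComponent 2 K) : K ≤ Cfsg.extendedTwoLayer X ∧ (K.subgroupOf (Cfsg.extendedTwoLayer X)).Normal := by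
  haveI : Fact (Nat.Prime 2) := ⟨Nat.prime_two⟩
  set q := QuotientGroup.mk' (Cfsg.pPrimeCore 2 X) with hq
  refine ⟨(IsPComponent.le_pLayer hK).trans (le_sup_of_le_left le_sup_left),
    normal_subgroupOf_of_le_normalizer ?_⟩
  set M := Cfsg.pLayer 2 X ⊔ Cfsg.pPrimePCore 2 X with hM
  have hKM : K ≤ M := (IsPComponent.le_pLayer hK).trans le_sup_left
  have hPP : Cfsg.pPrimePCore 2 X ≤ normalizer (K : Set X) := by
    intro y hy
    refine IsPComponent.normalizer_map_le hK ?_
    have hc : ⁅Cfsg.pCore 2 (X ⧸ Cfsg.pPrimeCore 2 X), K.map q⁆ = ⊥ := by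
      rw [Subgroup.commutator_comm]
      refine IsComponent.commutator_eq_bot_of_solvable hK.2.1 ?_ ?_
      · haveI := (pCore_isPGroup 2 (G := X ⧸ Cfsg.pPrimeCore 2 X)).isNilpotent
        exact IsNilpotent.to_isSolvable
      · haveI := pCore_normal 2 (X ⧸ Cfsg.pPrimeCore 2 X)
        rw [Subgroup.normalizer_eq_top]; exact le_top
    exact centralizer_le_normalizer _ (le_centralizer_of_commutator_eq_bot hc hy)
  have hMK : M ≤ normalizer (K : Set X) := sup_le (IsPComponent.pLayer_le_normalizer hK) hPP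
  have hO : Cfsg.oddCore X ≤ normalizer (K : Set X) := fun y hy =>
    IsPComponent.normalizer_map_le hK (by
      rw [show q y = 1 from (QuotientGroup.eq_one_iff y).mpr hy]; exact one_mem _)
  obtain ⟨T⟩ : Nonempty (Sylow 2 ↥M) := inferInstance
  rw [S1341.extendedTwoLayer_eq T]
  refine sup_le (sup_le (IsPComponent.pLayer_le_normalizer hK) hO) ?_
  rintro x hx
  have hxc := Subgroup.map_subtype_le _ hx
  rw [mem_normalizer_iff_map_conj]
  by_contra hne
  set K' := K.map (MulAut.conj x).toMonoidHom with hK'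
  have hcomm : ⁅K, K'⁆ ≤ Cfsg.pPrimeCore 2 X :=
    IsPComponent.commutator_le_pPrimeCore hK (IsPComponent.map_conj hK x) (Ne.symm hne)
  -- all two-elements of `K` centralise the image of `K`
  have key : ∀ k ∈ K, (∃ n : ℕ, k ^ 2 ^ n = 1) → ∀ l ∈ K, q l * q k = q k * q l := by
    intro k hk ⟨n, hn⟩ l hl
    obtain ⟨T', hT'⟩ := (show IsPGroup 2 ↥(Subgroup.zpowers (⟨k, hKM hk⟩ : ↥M)) from by
      rintro ⟨z, hz⟩
      obtain ⟨i, rfl⟩ := Subgroup.mem_zpowers_iff.mp hz
      refine ⟨n, Subtype.ext (Subtype.ext ?_)⟩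
      show (k ^ i) ^ 2 ^ n = 1
      rw [← zpow_natCast, ← zpow_mul, mul_comm, zpow_mul, zpow_natCast, hn, one_zpow]).exists_le_sylow
    obtain ⟨m, hm⟩ := MulAction.exists_smul_eq ↥M T T'
    have := hT' (Subgroup.mem_zpowers _)
    rw [← hm, Sylow.smul_def, Sylow.pointwise_smul_def] at this
    obtain ⟨s, hs, hse⟩ := this
    have hse' : (m : X) * s * (m : X)⁻¹ = k := congrArg Subtype.val hse
    have hsK : (s : X) ∈ K := (mem_normalizer_iff.mp (hMK m.2) _).mpr (by rw [hse']; exact hk)
    have hsx : x * s * x⁻¹ = s := by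
      rw [← mem_centralizer_iff.mp hxc (s : X) ⟨s, hs, rfl⟩, mul_inv_cancel_right]
    have hsK' : (s : X) ∈ K' := ⟨s, hsK, by simpa using hsx⟩
    obtain ⟨l', hl'⟩ : ∃ l', l' = (m : X)⁻¹ * l * (m : X) := ⟨_, rfl⟩
    have hl'K : l' ∈ K := (mem_normalizer_iff.mp (hMK m.2) _).mpr (by
      rw [hl', show (m : X) * ((m : X)⁻¹ * l * (m : X)) * (m : X)⁻¹ = l by group]; exact hl)
    have h1 : q (l' * (s : X)) = q ((s : X) * l') := by
      have h2 := hcomm (commutator_mem_commutator hl'K hsK')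
      rw [← QuotientGroup.eq_one_iff] at h2
      have h3 : q ⁅l', (s : X)⁆ = 1 := h2
      rw [commutatorElement_def, map_mul, map_mul, map_mul, map_inv, map_inv, mul_inv_eq_one,
        mul_inv_eq_iff_eq_mul] at h3
      rw [map_mul, map_mul, h3]
    have h4 := congrArg (fun w => q (m : X) * w * (q (m : X))⁻¹) h1
    simp only [← map_inv, ← map_mul] at h4 ⊢
    rw [← hse', show l = (m : X) * l' * (m : X)⁻¹ by rw [hl']; group]
    convert h4 using 2 <;> group
  have hKgen : K ≤ (centralizer ((K.map q : Subgroup (X ⧸ Cfsg.pPrimeCore 2 X)) : Set (X ⧸ Cfsg.pPrimeCore 2 X))).comap q := by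
    have hgen : genPElements 2 K = K := by
      refine le_antisymm (genPElements_le _ _) ?_
      conv_lhs => rw [IsPComponent.eq_genPElements hK]
      refine (Subgroup.closure_le _).mpr fun w hw => Subgroup.subset_closure ⟨?_, hw.2⟩
      rw [IsPComponent.eq_genPElements hK]
      exact Subgroup.subset_closure hw
    conv_lhs => rw [← hgen]
    refine (Subgroup.closure_le _).mpr ?_
    rintro k ⟨hk, hn⟩
    rw [SetLike.mem_coe, mem_comap, mem_centralizer_iff]
    rintro _ ⟨l, hl, rfl⟩
    exact key k hk hn l hl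
  have hab : ⁅K, K⁆.map q = ⊥ := by
    rw [map_commutator, commutator_eq_bot_iff_le_centralizer]
    exact Subgroup.map_le_iff_le_comap.mpr hKgen
  rw [IsPComponent.commutator_self hK, Subgroup.map_eq_bot_iff, QuotientGroup.ker_mk'] at hab
  exact IsPComponent.not_le_pPrimeCore hK hab

end Cfsg.Agent.S1344
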