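import Cfsg.Statements.S1348
import Cfsg.Agent.Lib.Components.BlockSL
import Cfsg.Agent.Lib.Components.Basic

set_option autoImplicit false
open Cfsg

namespace Cfsg.Agent.S1348

open Cfsg.Agent.Lib.Components


/-- Let F be a finite field of odd order, n ≥ 7 odd, and t ∈ SL(n, F) the diagonal matrix with entries −1, …, −1, 1. Then E(C(t)) is a standard subgroup of SL(n, F). -/
theorem result {F : Type*} [Field F] [Fintype F] [DecidableEq F] (hF : Odd (Fintype.card F)) (n : ℕ) (hn : 7 ≤ n) (hodd : Odd n) (t : Matrix.SpecialLinearGroup (Fin n) F) (ht : (t : Matrix (Fin n) (Fin n) F) = Matrix.diagonal (fun i : Fin n => if (i : ℕ) + 1 = n then (1 : F) else -1)) : Cfsg.IsStandardSubgroup ((Cfsg.layer ↥(Subgroup.centralizer ({t} : Set (Matrix.SpecialLinearGroup (Fin n) F)))).map (Subgroup.centralizer ({t} : Set (Matrix.SpecialLinearGroup (Fin n) F))).subtype) := by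

  classical
  obtain ⟨m, rfl⟩ : ∃ m, n = m + 1 := ⟨n - 1, by omega⟩
  have h2 := two_ne_zero_of_odd hF
  have hm : 2 ≤ m := by omega
  have hqs : IsQuasisimple (Matrix.SpecialLinearGroup (Fin m) F) := isQuasisimple_SL hm (by omega)
  have htD : (t : Matrix (Fin (m + 1)) (Fin (m + 1)) F) = cdMat m (-1) 1 := ht
  set C := Subgroup.centralizer ({t} : Set (Matrix.SpecialLinearGroup (Fin (m + 1)) F)) with hC
  have hmemC : ∀ g : Matrix.SpecialLinearGroup (Fin (m + 1)) F, g ∈ C ↔
      Commute (g : Matrix (Fin (m + 1)) (Fin (m + 1)) F) (cdMat m (-1) 1) := fun g => by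
    rw [← htD, Subgroup.mem_centralizer_singleton_iff]
    exact ⟨fun h => congrArg Subtype.val h, fun h => Subtype.ext h⟩
  let ι := Cfsg.Agent.Lib.KnownA.blockSL (R := F) (finSumFinEquiv (m := m) (n := 1))
  set L := ι.range with hLdef
  have hLC : L ≤ C := by
    rintro _ ⟨A, rfl⟩
    exact (hmemC _).mpr (commute_cdMat_blkMat (-1 : F) 1 (A : Matrix (Fin m) (Fin m) F)).symm
  have hCL : C ≤ Subgroup.normalizer (L : Set (Matrix.SpecialLinearGroup (Fin (m + 1)) F)) := by
    have key : ∀ g ∈ C, ∀ x ∈ L, g * x * g⁻¹ ∈ L := by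
      rintro g hg _ ⟨A, rfl⟩
      obtain ⟨A', hdet, hA'⟩ := conj_blk h2 (g := (g : Matrix (Fin (m + 1)) (Fin (m + 1)) F))
        (g' := ((g⁻¹ : Matrix.SpecialLinearGroup (Fin (m + 1)) F) : Matrix (Fin (m + 1)) (Fin (m + 1)) F))
        (congrArg Subtype.val (mul_inv_cancel g)) ((hmemC g).mp hg) ((hmemC _).mp (C.inv_mem hg))
        (A : Matrix (Fin m) (Fin m) F)
      exact ⟨⟨A', hdet.trans A.2⟩, Subtype.ext hA'.symm⟩
    intro g hg
    rw [Subgroup.mem_normalizer_iff]
    intro x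
    exact ⟨key g hg x, fun h => by simpa [mul_assoc] using key g⁻¹ (C.inv_mem hg) _ h⟩
  have hinj : Function.Injective ι := Cfsg.Agent.Lib.KnownA.blockSL_injective _
  have hLq : IsQuasisimple ↥L := IsQuasisimple.of_mulEquiv (MonoidHom.ofInjective hinj) hqs
  set K := Subgroup.centralizer (L : Set (Matrix.SpecialLinearGroup (Fin (m + 1)) F)) with hK
  have hKshape : ∀ g ∈ K, ∃ c d : F, (g : Matrix (Fin (m + 1)) (Fin (m + 1)) F) = cdMat m c d ∧ c ^ m * d = 1 := by
    intro g hg
    obtain ⟨c, d, hcd⟩ := eq_cdMat_of_commute hm (M := (g : Matrix (Fin (m + 1)) (Fin (m + 1)) F)) fun A =>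
      congrArg Subtype.val (Subgroup.mem_centralizer_iff.mp hg (ι A) ⟨A, rfl⟩)
    refine ⟨c, d, hcd, ?_⟩
    have hdet := g.2
    rw [hcd, cdMat, Matrix.det_diagonal, Fin.prod_univ_castSucc] at hdet
    rw [← hdet]
    congr 1
    · have : ∀ i : Fin m, (if ((i.castSucc : Fin (m + 1)) : ℕ) + 1 = m + 1 then d else c) = c := fun i =>
        if_neg (by have := i.isLt; simp only [Fin.val_castSucc]; omega)
      rw [Finset.prod_congr rfl (fun i _ => this i), Finset.prod_const, Finset.card_univ, Fintype.card_fin]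
    · exact (if_pos rfl).symm
  have h0 : ((0 : Fin (m + 1)) : ℕ) + 1 ≠ m + 1 := by simp; omega
  let ψ : ↥K →* F := MonoidHom.mk
    { toFun := fun g => (g : Matrix.SpecialLinearGroup (Fin (m + 1)) F).1 0 0
      map_one' := by simp }
    (fun a b => by
      obtain ⟨c, d, ha, -⟩ := hKshape a a.2
      obtain ⟨c', d', hb, -⟩ := hKshape b b.2
      show ((a : Matrix.SpecialLinearGroup (Fin (m + 1)) F).1 * (b : Matrix.SpecialLinearGroup (Fin (m + 1)) F).1) 0 0 =
        (a : Matrix.SpecialLinearGroup (Fin (m + 1)) F).1 0 0 * (b : Matrix.SpecialLinearGroup (Fin (m + 1)) F).1 0 0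
      rw [ha, hb, show (cdMat m c d * cdMat m c' d') 0 0 = c * c' by
        rw [cdMat, cdMat, Matrix.diagonal_mul_diagonal, Matrix.diagonal_apply_eq, if_neg h0, if_neg h0],
        cdMat_diag_of_ne c d h0, cdMat_diag_of_ne c' d' h0])
  have hψ : Function.Injective ψ := by
    intro a b h
    obtain ⟨c, d, ha, hcd⟩ := hKshape a a.2
    obtain ⟨c', d', hb, hcd'⟩ := hKshape b b.2
    have hc : c = c' := by
      have : (a : Matrix.SpecialLinearGroup (Fin (m + 1)) F).1 0 0 =
          (b : Matrix.SpecialLinearGroup (Fin (m + 1)) F).1 0 0 := h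
      rwa [ha, hb, cdMat_diag_of_ne c d h0, cdMat_diag_of_ne c' d' h0] at this
    subst hc
    have hd : d = d' := by
      have hc0 : c ^ m ≠ 0 := left_ne_zero_of_mul_eq_one hcd
      exact mul_left_cancel₀ hc0 (hcd.trans hcd'.symm)
    exact Subtype.ext (Subtype.ext (by rw [ha, hb, hd]))
  have hKc : ∀ a b : ↥K, a * b = b * a := fun a b => hψ (by rw [map_mul, map_mul, mul_comm])
  have ht2 : orderOf t = 2 := by
    refine orderOf_eq_prime (Subtype.ext ?_) fun h => ?_
    · rw [pow_two, Matrix.SpecialLinearGroup.coe_mul, htD]; exact cdMat_sq_neg_one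
    · have := congrArg (fun u : Matrix.SpecialLinearGroup (Fin (m + 1)) F => u.1 0 0) h
      simp only [htD, cdMat_diag_of_ne (-1 : F) 1 h0, Matrix.SpecialLinearGroup.coe_one, Matrix.one_apply_eq] at this
      exact h2 (by linear_combination -this)
  have htK : t ∈ K := Subgroup.mem_centralizer_iff.mpr fun x hx =>
    Subgroup.mem_centralizer_singleton_iff.mp (hLC hx)
  have huniq : ∀ x ∈ K, x ≠ 1 → x * x = 1 → x = t := by
    intro x hx hx1 hxx
    have e : ψ ⟨x, hx⟩ * ψ ⟨x, hx⟩ = 1 := by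
      rw [← map_mul]
      exact (congrArg ψ (Subtype.ext hxx : (⟨x, hx⟩ * ⟨x, hx⟩ : ↥K) = 1)).trans (map_one ψ)
    rcases mul_self_eq_one_iff.mp e with h | h
    · exact absurd (congrArg Subtype.val (hψ (h.trans (map_one ψ).symm))) hx1
    · refine congrArg Subtype.val (hψ (h.trans ?_) : (⟨x, hx⟩ : ↥K) = ⟨t, htK⟩)
      show (-1 : F) = t.1 0 0
      rw [htD, cdMat_diag_of_ne _ _ h0]
  have hlayer : (layer ↥C).map C.subtype = L := by
    have hLc : IsComponent (L.subgroupOf C) :=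
      ⟨(Subgroup.normal_subgroupOf_of_le_normalizer hCL).isSubnormal,
        IsQuasisimple.of_mulEquiv (Subgroup.subgroupOfEquivOfLe hLC).symm hLq⟩
    have : layer ↥C = L.subgroupOf C := by
      refine le_antisymm (layer_le_iff.mpr fun X hX => ?_) (IsComponent.le_layer hLc)
      by_contra hne
      have hcomm := IsComponent.commutator_eq_bot_of_ne hX hLc fun h => hne h.le
      apply IsComponent.not_isMulCommutative hX
      have hmem : ∀ a : ↥X, ((a : ↥C) : Matrix.SpecialLinearGroup (Fin (m + 1)) F) ∈ K := fun a =>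
        Subgroup.mem_centralizer_iff.mpr fun l hl => (congrArg Subtype.val
          (commute_of_commutator_eq_bot hcomm a.2 (show (⟨l, hLC hl⟩ : ↥C) ∈ L.subgroupOf C from hl))).symm
      refine ⟨⟨fun a b => ?_⟩⟩
      have hab : ((a : ↥C) : Matrix.SpecialLinearGroup (Fin (m + 1)) F) * ((b : ↥C) : Matrix.SpecialLinearGroup (Fin (m + 1)) F) =
          ((b : ↥C) : Matrix.SpecialLinearGroup (Fin (m + 1)) F) * ((a : ↥C) : Matrix.SpecialLinearGroup (Fin (m + 1)) F) :=
        congrArg Subtype.val (hKc (⟨_, hmem a⟩ : ↥K) ⟨_, hmem b⟩)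
      exact Subtype.ext (Subtype.ext hab)
    rw [this, Subgroup.map_subgroupOf_eq_of_le hLC]
  rw [hlayer]
  have hconjK : ∀ g, g ∈ Subgroup.normalizer (L : Set (Matrix.SpecialLinearGroup (Fin (m + 1)) F)) →
      g ∈ Subgroup.normalizer (K : Set (Matrix.SpecialLinearGroup (Fin (m + 1)) F)) := by
    intro g hg
    have := Subgroup.mem_normalizer_iff.mp hg
    rw [Subgroup.mem_normalizer_iff]
    intro x
    simp only [K, Subgroup.mem_centralizer_iff]
    constructor
    · intro hx y hy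
      have h1 : g⁻¹ * y * g ∈ L := (this _).mpr (by simpa [mul_assoc] using hy)
      have h2 := hx _ h1
      calc y * (g * x * g⁻¹) = g * ((g⁻¹ * y * g) * x) * g⁻¹ := by group
        _ = g * (x * (g⁻¹ * y * g)) * g⁻¹ := by rw [h2]
        _ = _ := by group
    · intro hx y hy
      have h2 := hx _ ((this y).mp hy)
      calc y * x = g⁻¹ * ((g * y * g⁻¹) * (g * x * g⁻¹)) * g := by group
        _ = g⁻¹ * ((g * x * g⁻¹) * (g * y * g⁻¹)) * g := by rw [h2]
        _ = _ := by group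
  have hfix : ∀ g, g * t * g⁻¹ = t → g ∈ C := fun g h =>
    Subgroup.mem_centralizer_singleton_iff.mpr (mul_inv_eq_iff_eq_mul.mp h)
  have ht1 : t ≠ 1 := fun h => by simp [h] at ht2
  have htt : t * t = 1 := by rw [← pow_two, ← ht2, pow_orderOf_eq_one]
  have hN : ∀ g, g ∈ Subgroup.normalizer (K : Set (Matrix.SpecialLinearGroup (Fin (m + 1)) F)) → g ∈ C := fun g hg =>
    hfix g (huniq _ ((Subgroup.mem_normalizer_iff.mp hg t).mp htK) (fun h => ht1 (conj_eq_one_iff.mp h))
      (by rw [show g * t * g⁻¹ * (g * t * g⁻¹) = g * (t * t) * g⁻¹ by group, htt, mul_one, mul_inv_cancel]))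
  refine ⟨hLq, ⟨?_, fun g hg => ?_⟩, fun g hg hcomm => ?_, le_antisymm hconjK fun g hg => hCL (hN g hg)⟩
  · rw [even_iff_two_dvd, ← ht2]
    exact Subgroup.orderOf_dvd_natCard _ htK
  · rw [← Nat.not_even_iff_odd, even_iff_two_dvd]
    intro hdvd
    haveI : Fact (Nat.Prime 2) := ⟨Nat.prime_two⟩
    obtain ⟨x, hx⟩ := exists_prime_orderOf_dvd_card' 2 hdvd
    have hx2 : orderOf (x : Matrix.SpecialLinearGroup (Fin (m + 1)) F) = 2 := by rwa [Subgroup.orderOf_coe]
    have hxt : (x : Matrix.SpecialLinearGroup (Fin (m + 1)) F) = t := huniq _ x.2.1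
      (fun h => by simp [h] at hx2) (by rw [← pow_two, ← hx2, pow_orderOf_eq_one])
    obtain ⟨y, hy, hyx⟩ := x.2.2
    have hy' : g * y * g⁻¹ = t := hyx.trans hxt
    have hyt : y = t := huniq y hy (fun h => ht1 (by rw [← hy', h]; group))
      (by rw [show y * y = g⁻¹ * ((g * y * g⁻¹) * (g * y * g⁻¹)) * g by group, hy', htt]; group)
    rw [hyt] at hy'
    exact hg (hconjK g (hCL (hfix g hy')))
  · apply IsQuasisimple.not_isMulCommutative hLq
    have hle : L.map (MulAut.conj g).toMonoidHom ≤ K := by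
      rw [hK, ← Subgroup.commutator_eq_bot_iff_le_centralizer, Subgroup.commutator_comm]
      exact hcomm
    refine ⟨⟨fun a b => Subtype.ext ((MulAut.conj g).injective ?_)⟩⟩
    rw [Subgroup.coe_mul, Subgroup.coe_mul, map_mul, map_mul]
    exact congrArg Subtype.val (hKc (⟨_, hle ⟨a, a.2, rfl⟩⟩ : ↥K) ⟨_, hle ⟨b, b.2, rfl⟩⟩)

end Cfsg.Agent.S1348
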