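import Cfsg.Statements.S1349
import Cfsg.Agent.Lib.Components.Signalizer
import Cfsg.Agent.Lib.Components.Fitting
import Cfsg.Agent.Lib.Cores.Fitting
import Cfsg.Agent.Lib.SylowCounting.DoubleCoverA

set_option autoImplicit false
open Cfsg

namespace Cfsg.Agent.S1349

open Subgroup Cfsg Cfsg.Agent.Lib.Components

variable {G : Type*} [Group G]

theorem eq_one_of_mul_self {L : Subgroup G} (hL : Odd (Nat.card ↥L)) {w : G} (hw : w ∈ L)
    (h : w * w = 1) : w = 1 := by
  have h1 := L.orderOf_dvd_natCard hw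
  have h2 : orderOf w ∣ 2 := orderOf_dvd_of_pow_eq_one (by rw [pow_two, h])
  exact orderOf_eq_one_iff.mp (Nat.eq_one_of_dvd_coprimes (Nat.coprime_two_right.mpr hL) h1 h2)

/-- a dihedral group generated by an involution and an element of odd order inverted by it -/
theorem dihedral_sup [Finite G] {a x : G} (ha2 : a * a = 1) (ha1 : a ≠ 1)
    (hinv : a * x * a = x⁻¹) (hodd : Odd (orderOf x)) :
    Nonempty (↥(zpowers a ⊔ zpowers x) ≃* DihedralGroup (orderOf x)) := by
  haveI : NeZero (orderOf x) := ⟨(orderOf_pos x).ne'⟩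
  let φ : DihedralGroup (orderOf x) →* G := MonoidHom.mk'
    (Cfsg.Agent.Lib.SylowCounting.dihFun a x)
    (Cfsg.Agent.Lib.SylowCounting.dihFun_mul a x ha2 (pow_orderOf_eq_one x) hinv)
  have hax : a ∉ zpowers x := fun h => by
    have h1 : orderOf a ∣ orderOf x := by
      rw [← Nat.card_zpowers x]; exact (zpowers x).orderOf_dvd_natCard h
    rw [orderOf_eq_prime (by rw [pow_two, ha2]) ha1] at h1
    exact Nat.not_even_iff_odd.mpr hodd (even_iff_two_dvd.mpr h1)
  have hinj : Function.Injective φ := by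
    rintro (i | i) (j | j) h
    · rw [ZMod.val_injective _ (pow_injOn_Iio_orderOf (ZMod.val_lt i) (ZMod.val_lt j) h)]
    · refine absurd ?_ hax
      have h' : a = x ^ i.val * (x ^ j.val)⁻¹ := eq_mul_inv_of_mul_eq h.symm
      exact h' ▸ mul_mem (pow_mem (mem_zpowers x) _) (inv_mem (pow_mem (mem_zpowers x) _))
    · refine absurd ?_ hax
      have h' : a = x ^ j.val * (x ^ i.val)⁻¹ := eq_mul_inv_of_mul_eq h
      exact h' ▸ mul_mem (pow_mem (mem_zpowers x) _) (inv_mem (pow_mem (mem_zpowers x) _))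
    · rw [ZMod.val_injective _ (pow_injOn_Iio_orderOf (ZMod.val_lt i) (ZMod.val_lt j)
        (mul_left_cancel h))]
  have hrange : φ.range = zpowers a ⊔ zpowers x := by
    apply le_antisymm
    · rintro _ ⟨i | i, rfl⟩
      · exact mem_sup_right (pow_mem (mem_zpowers x) _)
      · exact mul_mem (mem_sup_left (mem_zpowers a)) (mem_sup_right (pow_mem (mem_zpowers x) _))
    · refine sup_le (zpowers_le.mpr ⟨.sr 0, ?_⟩) (zpowers_le.mpr ⟨.r 1, ?_⟩)
      · show a * x ^ (0 : ZMod (orderOf x)).val = a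
        rw [ZMod.val_zero, pow_zero, mul_one]
      · show x ^ (1 : ZMod (orderOf x)).val = x
        rw [ZMod.val_one_eq_one_mod]
        exact (pow_mod_orderOf x 1).trans (pow_one x)
  exact ⟨((MonoidHom.ofInjective hinj).trans (MulEquiv.subgroupCongr hrange)).symm⟩

theorem comm_of_comm_commutator {L : Subgroup G} (hLodd : Odd (Nat.card ↥L)) {a y : G}
    (ha2 : a * a = 1) (hw : y⁻¹ * (a * y * a) ∈ L)
    (h : a * (y⁻¹ * (a * y * a)) = y⁻¹ * (a * y * a) * a) : a * y = y * a := by
  have hai : a⁻¹ = a := inv_eq_of_mul_eq_one_right ha2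
  have hc : ∀ z : G, a * (a * z) = z := fun z => by rw [← mul_assoc, ha2, one_mul]
  have h3 : (y⁻¹ * (a * y * a))⁻¹ = a * (y⁻¹ * (a * y * a)) * a := by
    simp [mul_assoc, hai, ha2]
  rw [h, mul_assoc (y⁻¹ * (a * y * a)) a a, ha2, mul_one] at h3
  have h4 : y⁻¹ * (a * y * a) = 1 :=
    eq_one_of_mul_self hLodd hw (inv_eq_iff_mul_eq_one.mp h3)
  rw [inv_mul_eq_one] at h4
  calc a * y = a * y * (a * a) := by rw [ha2, mul_one]
    _ = y * a := by rw [← mul_assoc, ← h4]

/-- If `a` centralizes `C_L(C)` where `C = C_L(a)`, then `C_L(a)` is self-normalizing; for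
nilpotent `L` it follows that `a` centralizes `L`. -/
theorem le_centralizer_of_double [Finite G] {L : Subgroup G} (hLn : Group.IsNilpotent ↥L)
    (hLodd : Odd (Nat.card ↥L)) {a : G} (ha2 : a * a = 1) (haL : a ∈ normalizer (L : Set G))
    (h : ∀ y ∈ L, (∀ c ∈ L, a * c = c * a → c * y = y * c) → a * y = y * a) :
    ∀ y ∈ L, a * y = y * a := by
  haveI := hLn
  have hai : a⁻¹ = a := inv_eq_of_mul_eq_one_right ha2
  have key : ∀ y ∈ L, (∀ c ∈ L, a * c = c * a → a * (y * c * y⁻¹) = (y * c * y⁻¹) * a) →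
      a * y = y * a := by
    intro y hy hn
    have hay : a * y * a ∈ L := by
      have := (Subgroup.mem_normalizer_iff.mp haL y).mp hy
      rwa [hai] at this
    have hw : y⁻¹ * (a * y * a) ∈ L := mul_mem (inv_mem hy) hay
    have h1 := h _ hw (fun c hc hac => by
      have e1 : a * c * a = c := by rw [hac, mul_assoc, ha2, mul_one]
      have e2 : a * (y * c * y⁻¹) * a = y * c * y⁻¹ := by
        rw [hn c hc hac, mul_assoc, ha2, mul_one]
      have e3 : (a * y * a) * c * (a * y * a)⁻¹ = y * c * y⁻¹ := by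
        rw [mul_inv_rev, mul_inv_rev, hai]
        calc a * y * a * c * (a * (y⁻¹ * a)) = a * (y * (a * c * a) * y⁻¹) * a := by group
          _ = y * c * y⁻¹ := by rw [e1, e2]
      calc c * (y⁻¹ * (a * y * a)) = y⁻¹ * (y * c * y⁻¹) * (a * y * a) := by group
        _ = y⁻¹ * ((a * y * a) * c * (a * y * a)⁻¹) * (a * y * a) := by rw [e3]
        _ = y⁻¹ * (a * y * a) * c := by group)
    exact comm_of_comm_commutator hLodd ha2 hw h1
  have htop : (centralizer ({a} : Set G)).subgroupOf L = ⊤ := by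
    by_contra hne
    obtain ⟨y, hy, hyn⟩ := SetLike.exists_of_lt
      (Group.normalizerCondition_of_isNilpotent (G := ↥L) _ (lt_top_iff_ne_top.mpr hne))
    refine hyn (mem_centralizer_singleton_iff.mpr ?_)
    refine (key y y.2 fun c hc hac => ?_).symm
    have := (Subgroup.mem_normalizer_iff.mp hy ⟨c, hc⟩).mp
      (mem_centralizer_singleton_iff.mpr hac.symm)
    exact (mem_centralizer_singleton_iff.mp this).symm
  intro y hy
  have : (⟨y, hy⟩ : L) ∈ (centralizer ({a} : Set G)).subgroupOf L := htop ▸ mem_top _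
  exact (mem_centralizer_singleton_iff.mp this).symm

theorem normalizer_inf_le (X Y : Subgroup G) :
    normalizer (X : Set G) ⊓ normalizer (Y : Set G) ≤ normalizer ((X ⊓ Y : Subgroup G) : Set G) := by
  intro g hg
  obtain ⟨h1, h2⟩ := hg
  rw [Subgroup.mem_normalizer_iff]
  intro n
  exact and_congr (Subgroup.mem_normalizer_iff.mp h1 n) (Subgroup.mem_normalizer_iff.mp h2 n)

theorem centralizer_le_normalizer_centralizer {A : Subgroup G} {a s : G} (ha : a ∈ A)
    (hA : IsElementaryAbelian 2 A) (hs : s ∈ A) :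
    s ∈ normalizer (centralizer ({a} : Set G) : Set G) :=
  Subgroup.le_normalizer (mem_centralizer_singleton_iff.mpr (elemAb_commute hA hs ha))

theorem mem_normalizer_of_map_le [Finite G] {H : Subgroup G} {g : G}
    (h : ∀ n ∈ H, g * n * g⁻¹ ∈ H) : g ∈ normalizer (H : Set G) := by
  rw [Subgroup.mem_normalizer_iff]
  intro n
  refine ⟨h n, fun hn => ?_⟩
  let f : H → H := fun x => ⟨g * x * g⁻¹, h x x.2⟩
  have hf : Function.Injective f := fun x y e => Subtype.ext (by
    simpa [f] using congrArg Subtype.val e)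
  obtain ⟨x, hx⟩ := (Finite.injective_iff_surjective.mp hf) ⟨_, hn⟩
  have : g * (x : G) * g⁻¹ = g * n * g⁻¹ := congrArg Subtype.val hx
  have hxn : (x : G) = n := by simpa using this
  exact hxn ▸ x.2

/-- a hyperplane of `A` avoiding `a` -/
theorem exists_complement_of_mem [Finite G] {A : Subgroup G} (hA : IsElementaryAbelian 2 A)
    {a : G} (ha : a ∈ A) (ha1 : a ≠ 1) :
    ∃ S : Subgroup G, S ≤ A ∧ a ∉ S ∧ A = S ⊔ zpowers a ∧
      Nat.card ↥A = Nat.card ↥S * 2 := by
  obtain ⟨S, ⟨hSA, haS⟩, hmax⟩ := (Set.toFinite {S : Subgroup G | S ≤ A ∧ a ∉ S}).exists_maximalFor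
    id _ ⟨⊥, bot_le, by simpa using ha1⟩
  have heq : A = S ⊔ zpowers a := by
    refine le_antisymm (fun y hy => ?_) (sup_le hSA (zpowers_le.mpr ha))
    by_cases hy' : y ∈ S
    · exact mem_sup_left hy'
    have h1 : a ∈ S ⊔ zpowers y := by
      by_contra hn
      exact hy' (hmax ⟨sup_le hSA (zpowers_le.mpr hy), hn⟩ le_sup_left (mem_sup_right (mem_zpowers y)))
    have h2 : S ⊔ zpowers y ≤ S ⊔ zpowers a ∨ True := Or.inr trivial
    have hyS : zpowers y ≤ normalizer (S : Set G) := by
      refine zpowers_le.mpr (centralizer_le_normalizer _ ?_)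
      exact mem_centralizer_iff.mpr fun s hs => elemAb_commute hA (hSA hs) hy
    obtain ⟨s, hs, t, ht, hst⟩ := Cfsg.Agent.Lib.Coprime.exists_mul_of_mem_sup hyS h1
    have ho : orderOf y = 2 := by
      have hy1 : y ≠ 1 := fun h => hy' (h ▸ one_mem S)
      exact orderOf_eq_prime (hA.2 y hy) hy1
    rw [mem_zpowers_iff] at ht
    obtain ⟨k, rfl⟩ := ht
    rcases Int.even_or_odd k with ⟨j, hj⟩ | ⟨j, hj⟩
    · have : y ^ k = 1 := by
        rw [hj, ← two_mul, zpow_mul, zpow_ofNat, hA.2 y hy, one_zpow]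
      rw [this, mul_one] at hst
      exact absurd (hst ▸ hs) haS
    · have : y ^ k = y := by
        rw [hj, zpow_add, zpow_mul, zpow_ofNat, hA.2 y hy, one_zpow, one_mul, zpow_one]
      rw [this] at hst
      have : y = s⁻¹ * a := by rw [hst]; group
      exact this ▸ mul_mem (mem_sup_left (inv_mem hs)) (mem_sup_right (mem_zpowers a))
  refine ⟨S, hSA, haS, heq, ?_⟩
  have hn : zpowers a ≤ normalizer (S : Set G) :=
    zpowers_le.mpr (centralizer_le_normalizer _
      (mem_centralizer_iff.mpr fun s hs => elemAb_commute hA (hSA hs) ha))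
  have h3 := Cfsg.Agent.Lib.Coprime.card_sup_mul_card_inf hn
  have h4 : S ⊓ zpowers a = ⊥ := by
    rw [eq_bot_iff]
    rintro w ⟨hwS, hw⟩
    obtain ⟨k, rfl⟩ := mem_zpowers_iff.mp hw
    rcases Int.even_or_odd k with ⟨j, hj⟩ | ⟨j, hj⟩
    · rw [hj, ← two_mul, zpow_mul, zpow_ofNat, hA.2 a ha, one_zpow]; exact one_mem _
    · have : a ^ k = a := by
        rw [hj, zpow_add, zpow_mul, zpow_ofNat, hA.2 a ha, one_zpow, one_mul, zpow_one]
      exact absurd (this ▸ hwS) haS
  rw [h4, Subgroup.card_bot, mul_one, ← heq, Nat.card_zpowers,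
    orderOf_eq_prime (hA.2 a ha) ha1] at h3
  exact h3

/-- Thompson's lemma for nilpotent groups -/
theorem exists_family_nilpotent [Finite G] : ∀ (d : ℕ) (L A : Subgroup G), Group.IsNilpotent ↥L →
    Odd (Nat.card ↥L) → IsElementaryAbelian 2 A → Nat.card ↥A = 2 ^ d →
    A ≤ normalizer (L : Set G) → A ⊓ centralizer (L : Set G) = ⊥ →
    ∃ a x : Fin d → G, (∀ i, a i ∈ A ∧ x i ∈ L ∧ x i ≠ 1 ∧ a i * a i = 1 ∧
      a i * x i * a i = (x i)⁻¹ ∧ (∀ j, j ≠ i → a i * x j = x j * a i) ∧
      ∀ j, x i * x j = x j * x i) ∧ closure (Set.range a) = A := by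
  haveI : Fact (Nat.Prime 2) := ⟨Nat.prime_two⟩
  intro d
  induction d with
  | zero =>
    intro L A _ _ _ hAd _ _
    refine ⟨Fin.elim0, Fin.elim0, fun i => i.elim0, ?_⟩
    rw [Subgroup.eq_bot_of_card_eq A (by simpa using hAd)]
    simp
  | succ d ih =>
    intro L A hLn hLodd hA hAd hAL hfaith
    have hfa : ∀ b ∈ A, (∀ y ∈ L, b * y = y * b) → b = 1 := fun b hb h => by
      have : b ∈ A ⊓ centralizer (L : Set G) :=
        ⟨hb, mem_centralizer_iff.mpr fun y hy => (h y hy).symm⟩
      rwa [hfaith, mem_bot] at this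
    have hne : A ≠ ⊥ := fun h => by
      rw [h, Subgroup.card_bot] at hAd
      exact (Nat.one_lt_two_pow (n := d + 1) (by omega)).ne hAd
    obtain ⟨a₀, ha₀, ha₀1⟩ := (Subgroup.bot_or_exists_ne_one A).resolve_left hne
    obtain ⟨a, ⟨ha, ha1⟩, hmax⟩ := (Set.toFinite {b : G | b ∈ A ∧ b ≠ 1}).exists_maximalFor
      (fun b : G => L ⊓ centralizer ({b} : Set G)) _ ⟨a₀, ha₀, ha₀1⟩
    have ha2 : a * a = 1 := by rw [← pow_two]; exact hA.2 a ha
    replace hmax : ∀ e ∈ A, e ≠ 1 → L ⊓ centralizer ({a} : Set G) ≤ L ⊓ centralizer ({e} : Set G) →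
        L ⊓ centralizer ({e} : Set G) ≤ L ⊓ centralizer ({a} : Set G) :=
      fun e he he1 h => hmax ⟨he, he1⟩ h
    generalize hC : L ⊓ centralizer ({a} : Set G) = C at hmax
    have hmemC : ∀ y, y ∈ C ↔ y ∈ L ∧ a * y = y * a := fun y => by
      rw [← hC, Subgroup.mem_inf, mem_centralizer_singleton_iff, eq_comm (a := y * a)]
    -- only `a` centralizes `C`
    have hK : ∀ b ∈ A, (∀ y ∈ C, b * y = y * b) → b ≠ 1 → b = a := by
      intro b hb hbC hb1
      by_contra hba
      have hle : ∀ e ∈ A, e ≠ 1 → (∀ y ∈ C, e * y = y * e) → L ⊓ centralizer ({e} : Set G) ≤ C :=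
        fun e he he1 heC => hmax e he he1 fun y hy => ⟨((hmemC y).mp hy).1,
          mem_centralizer_singleton_iff.mpr (heC y hy).symm⟩
      have hab1 : a * b ≠ 1 := fun h => hba <| by
        rw [← inv_eq_of_mul_eq_one_right h, inv_eq_of_mul_eq_one_right ha2]
      have hE : zpowers a ⊔ zpowers b ≤ A := sup_le (zpowers_le.mpr ha) (zpowers_le.mpr hb)
      have hEc : zpowers a ⊔ zpowers b ≤ centralizer (C : Set G) := sup_le
        (zpowers_le.mpr (mem_centralizer_iff.mpr fun y hy => ((hmemC y).mp hy).2.symm))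
        (zpowers_le.mpr (mem_centralizer_iff.mpr fun y hy => (hbC y hy).symm))
      haveI : IsMulCommutative ↥(zpowers a ⊔ zpowers b) := (elemAb_mono hA hE).1
      have hncyc : ¬ IsCyclic ↥(zpowers a ⊔ zpowers b) := by
        intro hcyc
        have h2 := elemAb_card_le_of_isCyclic (elemAb_mono hA hE) hcyc
        have hsub : ({1, a, b} : Set G) ⊆ (zpowers a ⊔ zpowers b : Subgroup G) := by
          rintro y (rfl | rfl | rfl)
          · exact one_mem _
          · exact mem_sup_left (mem_zpowers _)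
          · exact mem_sup_right (mem_zpowers _)
        have h3 := Set.ncard_le_ncard hsub (Set.toFinite _)
        rw [Set.ncard_eq_three.mpr ⟨1, a, b, Ne.symm ha1, Ne.symm hb1, Ne.symm hba, rfl⟩] at h3
        rw [← Nat.card_coe_set_eq] at h3
        exact absurd (h3.trans h2) (by omega)
      have hgen := Cfsg.Agent.Lib.Coprime.iSup_centralizer_eq (K := L) hncyc (hE.trans hAL)
        ((Nat.Coprime.pow_left (d + 1) (Nat.coprime_two_left.mpr hLodd)).coprime_dvd_left
          (hAd ▸ card_dvd_of_le hE))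
      have hLC : L ≤ C := hgen.symm.le.trans <| iSup₂_le fun e he =>
        hle e (hE he.1) he.2 fun y hy => (mem_centralizer_iff.mp (hEc he.1) y hy).symm
      exact ha1 (hfa a ha fun y hy => ((hmemC y).mp (hLC hy)).2)
    obtain ⟨S, hSA, haS, hAS, hcard⟩ := exists_complement_of_mem hA ha ha1
    have hSd : Nat.card ↥S = 2 ^ d := by rw [pow_succ] at hAd; omega
    have hSC : S ≤ normalizer (C : Set G) := by
      rw [← hC]
      refine le_trans (le_inf (hSA.trans hAL) ?_) (Cfsg.Agent.S1349.normalizer_inf_le _ _)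
      exact fun s hs => centralizer_le_normalizer_centralizer ha hA (hSA hs)
    have hfS : S ⊓ centralizer (C : Set G) = ⊥ := by
      rw [eq_bot_iff]
      intro s hs
      rw [mem_bot]
      by_contra hs1
      exact haS (hK s (hSA hs.1) (fun y hy => (mem_centralizer_iff.mp hs.2 y hy).symm) hs1 ▸ hs.1)
    haveI : Group.IsNilpotent ↥L := hLn
    have hCn : Group.IsNilpotent ↥C := by
      have hle : C ≤ L := fun y hy => ((hmemC y).mp hy).1
      exact Group.nilpotent_of_mulEquiv (Subgroup.subgroupOfEquivOfLe hle)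
    have hCodd : Odd (Nat.card ↥C) :=
      hLodd.of_dvd_nat (card_dvd_of_le fun y hy => ((hmemC y).mp hy).1)
    obtain ⟨a', x', hax, hgen⟩ := ih C S hCn hCodd (elemAb_mono hA hSA) hSd hSC hfS
    generalize hY : L ⊓ centralizer (Set.range x') = Y
    have hAY : A ≤ normalizer (Y : Set G) := by
      have hconj : ∀ b ∈ A, (∀ i, b * x' i * b⁻¹ ∈ zpowers (x' i)) → b ∈ normalizer (Y : Set G) := by
        intro b hb hbx
        refine mem_normalizer_of_map_le fun y hy => ?_
        rw [← hY] at hy ⊢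
        refine ⟨(Subgroup.mem_normalizer_iff.mp (hAL hb) y).mp hy.1, mem_centralizer_iff.mpr ?_⟩
        rintro _ ⟨i, rfl⟩
        have hb2 : b⁻¹ = b := inv_eq_of_mul_eq_one_right (by rw [← pow_two]; exact hA.2 b hb)
        obtain ⟨k, hk⟩ := mem_zpowers_iff.mp (hbx i)
        have hc : Commute (b * x' i * b⁻¹) y := hk ▸ Commute.zpow_left
          (mem_centralizer_iff.mp hy.2 _ ⟨i, rfl⟩) k
        have e : b⁻¹ * x' i * b = b * x' i * b⁻¹ := by rw [hb2]
        calc x' i * (b * y * b⁻¹) = b * ((b⁻¹ * x' i * b) * y) * b⁻¹ := by group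
          _ = b * (y * (b⁻¹ * x' i * b)) * b⁻¹ := by rw [e, hc.eq]
          _ = b * y * b⁻¹ * x' i := by group
      rw [hAS]
      refine sup_le ?_ (zpowers_le.mpr (hconj a ha fun i => ?_))
      · rw [← hgen, closure_le]
        rintro _ ⟨i, rfl⟩
        obtain ⟨h1, -, -, h4, h5, h6, -⟩ := hax i
        refine hconj _ (hSA h1) fun j => ?_
        rw [inv_eq_of_mul_eq_one_right h4]
        by_cases hji : j = i
        · subst hji; rw [h5]; exact inv_mem (mem_zpowers _)
        · rw [h6 j hji, mul_assoc, h4, mul_one]; exact mem_zpowers _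
      · rw [((hmemC _).mp (hax i).2.1).2, mul_assoc, mul_inv_cancel, mul_one]
        exact mem_zpowers _
    have hYodd : ¬ 2 ∣ Nat.card ↥Y := fun h => Nat.not_even_iff_odd.mpr hLodd
      (even_iff_two_dvd.mpr (h.trans (card_dvd_of_le (hY ▸ inf_le_left))))
    obtain ⟨B, hBA, hBi, y0, hy0Y, hy0B, hy0a⟩ : ∃ B : Subgroup G, B ≤ A ∧ B.relIndex A ≤ 2 ∧
        ∃ y0 ∈ Y, y0 ∈ centralizer (B : Set G) ∧ a * y0 ≠ y0 * a := by
      by_contra hno
      push Not at hno
      refine ha1 (hfa a ha (le_centralizer_of_double hLn hLodd ha2 (hAL ha) fun y hy hyc => ?_))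
      have hyY : y ∈ Y := hY ▸ ⟨hy, mem_centralizer_iff.mpr (by
        rintro _ ⟨i, rfl⟩
        exact hyc _ ((hmemC _).mp (hax i).2.1).1 ((hmemC _).mp (hax i).2.1).2)⟩
      have hYC : Y ≤ centralizer ({a} : Set G) := by
        rw [eq_iSup_hyperplane hA hYodd hAY]
        exact iSup_le fun B z hz => mem_centralizer_singleton_iff.mpr
          (hno B.1 B.2.1 B.2.2 z hz.1 hz.2).symm
      exact (mem_centralizer_singleton_iff.mp (hYC hyY)).symm
    have haB : a ∉ B := fun h => hy0a (mem_centralizer_iff.mp hy0B a h)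
    have hai : a⁻¹ = a := inv_eq_of_mul_eq_one_right ha2
    have hay0Y : a * y0 * a ∈ Y := by
      have := (Subgroup.mem_normalizer_iff.mp (hAY ha) y0).mp hy0Y
      rwa [hai] at this
    have hay0B : a * y0 * a ∈ centralizer (B : Set G) := by
      refine mem_centralizer_iff.mpr fun b hb => ?_
      have e1 := elemAb_commute hA (hBA hb) ha
      have e2 := mem_centralizer_iff.mp hy0B b hb
      calc b * (a * y0 * a) = (b * a) * y0 * a := by group
        _ = a * (b * y0) * a := by rw [e1]; group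
        _ = a * y0 * (b * a) := by rw [e2]; group
        _ = a * y0 * a * b := by rw [e1]; group
    generalize hy : y0⁻¹ * (a * y0 * a) = y
    have hyY : y ∈ Y := hy ▸ mul_mem (inv_mem hy0Y) hay0Y
    have hyB : y ∈ centralizer (B : Set G) := hy ▸ mul_mem (inv_mem hy0B) hay0B
    have hy1 : y ≠ 1 := fun h => by
      rw [← hy, inv_mul_eq_one] at h
      exact hy0a (by
        calc a * y0 = a * y0 * (a * a) := by rw [ha2, mul_one]
          _ = (a * y0 * a) * a := by group
          _ = y0 * a := by rw [← h])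
    have hyinv : a * y * a = y⁻¹ := by
      rw [← hy, mul_inv_rev, inv_inv, mul_inv_rev, mul_inv_rev, hai]
      calc a * (y0⁻¹ * (a * y0 * a)) * a = a * y0⁻¹ * a * y0 * (a * a) := by group
        _ = a * (y0⁻¹ * a) * y0 := by rw [ha2]; group
    have hyx : ∀ i, x' i * y = y * x' i := fun i =>
      mem_centralizer_iff.mp ((hY ▸ hyY : y ∈ L ⊓ centralizer (Set.range x')).2) _ ⟨i, rfl⟩
    have hyL : y ∈ L := (hY ▸ hyY : y ∈ L ⊓ centralizer (Set.range x')).1
    -- replace `a' i` by a representative in `B`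
    have hrep : ∀ i, ∃ c, c ∈ B ∧ (c = a' i ∨ c = a' i * a) := by
      intro i
      by_cases h : a' i ∈ B
      · exact ⟨_, h, Or.inl rfl⟩
      refine ⟨_, ?_, Or.inr rfl⟩
      have h2 : (B.subgroupOf A).index = 2 := by
        refine le_antisymm hBi (?_ : 2 ≤ _)
        have : (B.subgroupOf A).index ≠ 1 := fun h1 =>
          haB (Subgroup.relIndex_eq_one.mp h1 ha)
        have := Subgroup.index_ne_zero_of_finite (H := B.subgroupOf A)
        omega
      have := Subgroup.mul_mem_iff_of_index_two h2 (a := (⟨a' i, hSA (hax i).1⟩ : A)) (b := ⟨a, ha⟩)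
      exact mem_subgroupOf.mp (this.mpr (by simp [mem_subgroupOf, h, haB]))
    choose c hcB hc using hrep
    refine ⟨Fin.cons a c, Fin.cons y x', ?_, ?_⟩
    · intro i
      have hxa : ∀ j, a * x' j = x' j * a := fun j => ((hmemC _).mp (hax j).2.1).2
      induction i using Fin.cases with
      | zero =>
        simp only [Fin.cons_zero]
        refine ⟨ha, hyL, hy1, ha2, hyinv, fun j hj => ?_, fun j => ?_⟩
        · induction j using Fin.cases with
          | zero => exact absurd rfl hj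
          | succ k => rw [Fin.cons_succ]; exact hxa k
        · induction j using Fin.cases with
          | zero => rw [Fin.cons_zero]
          | succ k => rw [Fin.cons_succ]; exact (hyx k).symm
      | succ i =>
        simp only [Fin.cons_succ]
        obtain ⟨h1, h2, h3, h4, h5, h6, h7⟩ := hax i
        have hcA : c i ∈ A := hBA (hcB i)
        refine ⟨hcA, ((hmemC _).mp h2).1, h3, by rw [← pow_two]; exact hA.2 _ hcA, ?_,
          fun j hj => ?_, fun j => ?_⟩
        · rcases hc i with h | h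
          · rw [h]; exact h5
          · have e := elemAb_commute hA (hSA h1) ha
            calc c i * x' i * c i = a' i * (a * x' i) * (a' i * a) := by rw [h]; group
              _ = a' i * x' i * (a * a' i * a) := by rw [hxa]; group
              _ = (x' i)⁻¹ := by
                rw [← e, mul_assoc (a' i) a a, ha2, mul_one, h5]
        · induction j using Fin.cases with
          | zero => rw [Fin.cons_zero]; exact mem_centralizer_iff.mp hyB _ (hcB i)
          | succ k =>
            rw [Fin.cons_succ]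
            have hj' : k ≠ i := fun h => hj (h ▸ rfl)
            rcases hc i with h | h
            · rw [h]; exact h6 k hj'
            · rw [h, mul_assoc, hxa, ← mul_assoc, h6 k hj', mul_assoc]
        · induction j using Fin.cases with
          | zero => rw [Fin.cons_zero]; exact hyx i
          | succ k => rw [Fin.cons_succ]; exact h7 k
    · apply le_antisymm
      · rw [closure_le]
        rintro _ ⟨i, rfl⟩
        induction i using Fin.cases with
        | zero => simpa using ha
        | succ j => simpa using hBA (hcB j)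
      · have hr : ∀ i, (Fin.cons a c : Fin (d + 1) → G) i ∈ closure (Set.range (Fin.cons a c : Fin (d + 1) → G)) :=
          fun i => subset_closure ⟨i, rfl⟩
        rw [hAS]
        refine sup_le ?_ (zpowers_le.mpr (by simpa using hr 0))
        rw [← hgen, closure_le]
        rintro _ ⟨i, rfl⟩
        have h0 : a ∈ closure (Set.range (Fin.cons a c : Fin (d + 1) → G)) := by simpa using hr 0
        have hi : c i ∈ closure (Set.range (Fin.cons a c : Fin (d + 1) → G)) := by simpa using hr i.succ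
        rcases hc i with h | h
        · exact h ▸ hi
        · have h' : a' i = c i * a⁻¹ := by rw [h]; group
          exact h' ▸ mul_mem hi (inv_mem h0)

theorem exists_family [Finite G] (L A : Subgroup G) {d : ℕ} (hLs : Group.IsSolvable ↥L)
    (hLodd : Odd (Nat.card ↥L)) (hA : IsElementaryAbelian 2 A) (hAd : Nat.card ↥A = 2 ^ d)
    (hAL : A ≤ normalizer (L : Set G)) (hfaith : A ⊓ centralizer (L : Set G) = ⊥) :
    ∃ a x : Fin d → G, (∀ i, a i ∈ A ∧ x i ∈ L ∧ x i ≠ 1 ∧ a i * a i = 1 ∧
      a i * x i * a i = (x i)⁻¹ ∧ (∀ j, j ≠ i → a i * x j = x j * a i) ∧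
      ∀ j, x i * x j = x j * x i) ∧ closure (Set.range a) = A := by
  generalize hF : (fittingSubgroup ↥L).map L.subtype = F
  have hFL : F ≤ L := hF ▸ map_subtype_le _
  have hFn : Group.IsNilpotent ↥F := by
    subst hF
    haveI := Cfsg.Agent.Lib.Components.fittingSubgroup_isNilpotent (G := ↥L)
    exact Group.nilpotent_of_mulEquiv
      ((fittingSubgroup ↥L).equivMapOfInjective L.subtype L.subtype_injective)
  have hAF : A ≤ normalizer (F : Set G) := by
    intro b hb
    refine mem_normalizer_of_map_le fun f hf => ?_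
    rw [← hF] at hf ⊢
    obtain ⟨g, hg, rfl⟩ := hf
    have hn := Subgroup.mem_normalizer_iff.mp (hAL hb)
    let e : ↥L ≃* ↥L :=
      { toFun := fun y => ⟨b * y * b⁻¹, (hn y).mp y.2⟩
        invFun := fun y => ⟨b⁻¹ * y * b, (hn _).mpr (by simpa [mul_assoc] using y.2)⟩
        left_inv := fun y => Subtype.ext (by simp [mul_assoc])
        right_inv := fun y => Subtype.ext (by simp [mul_assoc])
        map_mul' := fun y z => Subtype.ext (by simp [mul_assoc]) }
    exact ⟨e g, Cfsg.Agent.Lib.Components.map_fittingSubgroup_le e ⟨g, hg, rfl⟩, rfl⟩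
  have hfF : A ⊓ centralizer (F : Set G) = ⊥ := by
    rw [eq_bot_iff]
    intro b hb
    have hb2 : b * b = 1 := by rw [← pow_two]; exact hA.2 b hb.1
    have hbi : b⁻¹ = b := inv_eq_of_mul_eq_one_right hb2
    have hbc : ∀ f ∈ F, b * f = f * b := fun f hf => (mem_centralizer_iff.mp hb.2 f hf).symm
    have hall : ∀ y ∈ L, b * y = y * b := by
      intro y hy
      have hby : b * y * b ∈ L := by
        have := (Subgroup.mem_normalizer_iff.mp (hAL hb.1) y).mp hy
        rwa [hbi] at this
      have hw : y⁻¹ * (b * y * b) ∈ L := mul_mem (inv_mem hy) hby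
      have hwC : (⟨_, hw⟩ : ↥L) ∈ centralizer (fittingSubgroup ↥L : Set ↥L) := by
        rw [mem_centralizer_iff]
        intro g hg
        apply Subtype.ext
        have hgF : (g : G) ∈ F := hF ▸ ⟨g, hg, rfl⟩
        have hyF : y * g * y⁻¹ ∈ F := by
          rw [← hF]
          exact ⟨⟨y, hy⟩ * g * ⟨y, hy⟩⁻¹,
            (inferInstance : (fittingSubgroup ↥L).Normal).conj_mem g hg _, rfl⟩
        show (g : G) * (y⁻¹ * (b * y * b)) = y⁻¹ * (b * y * b) * g
        calc (g : G) * (y⁻¹ * (b * y * b)) = y⁻¹ * ((y * g * y⁻¹) * b) * y * b := by group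
          _ = y⁻¹ * b * y * (g * b) := by rw [← hbc _ hyF]; group
          _ = y⁻¹ * b * y * (b * g) := by rw [hbc _ hgF]
          _ = y⁻¹ * (b * y * b) * g := by group
      have hwF : y⁻¹ * (b * y * b) ∈ F :=
        hF ▸ ⟨_, Cfsg.Agent.Lib.Cores.centralizer_fittingSubgroup_le hLs hwC, rfl⟩
      exact comm_of_comm_commutator hLodd hb2 hw (hbc _ hwF)
    have : b ∈ A ⊓ centralizer (L : Set G) :=
      ⟨hb.1, mem_centralizer_iff.mpr fun y hy => (hall y hy).symm⟩
    rwa [hfaith] at this
  obtain ⟨a, x, hax, hgen⟩ := exists_family_nilpotent d F A hFn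
    (hLodd.of_dvd_nat (card_dvd_of_le hFL)) hA hAd hAF hfF
  refine ⟨a, x, fun i => ?_, hgen⟩
  obtain ⟨h1, h2, h3⟩ := hax i
  exact ⟨h1, hFL h2, h3⟩

/-- Let G be finite, L ≤ G solvable of odd order, and A an elementary abelian 2-subgroup of order 2^d (d ≥ 1) normalizing L with C_A(L) = 1. Then there are subgroups A_1, …, A_d of A of order 2 generating A and subgroups L_1, …, L_d of L such that each A_i ⊔ L_i is dihedral of order 2 n_i with n_i odd and at least 3, and A_i ⊔ L_i commutes elementwise with A_j ⊔ L_j for i ≠ j. -/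
theorem result {G : Type*} [Group G] [Finite G] (L A : Subgroup G) (hLs : Group.IsSolvable ↥L) (hLodd : Odd (Nat.card ↥L)) (hA : Cfsg.IsElementaryAbelian 2 A) (d : ℕ) (hd : 1 ≤ d) (hAd : Nat.card ↥A = 2 ^ d) (hAL : A ≤ Subgroup.normalizer (L : Set G)) (hfaith : A ⊓ Subgroup.centralizer (L : Set G) = ⊥) : ∃ (Ai : Fin d → Subgroup G) (Li : Fin d → Subgroup G) (n : Fin d → ℕ), (∀ i, Ai i ≤ A ∧ Nat.card ↥(Ai i) = 2 ∧ Li i ≤ L ∧ Odd (n i) ∧ 3 ≤ n i ∧ Nonempty (↥(Ai i ⊔ Li i) ≃* DihedralGroup (n i))) ∧ (⨆ i, Ai i) = A ∧ ∀ i j, i ≠ j → ∀ x ∈ Ai i ⊔ Li i, ∀ y ∈ Ai j ⊔ Li j, x * y = y * x := by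
  obtain ⟨a, x, hax, hgen⟩ := exists_family L A hLs hLodd hA hAd hAL hfaith
  refine ⟨fun i => zpowers (a i), fun i => zpowers (x i), fun i => orderOf (x i), fun i => ?_, ?_, ?_⟩
  · obtain ⟨haA, hxL, hx1, ha2, hinv, -, -⟩ := hax i
    have ha1 : a i ≠ 1 := fun h => by
      rw [h, one_mul, mul_one] at hinv
      exact hx1 (eq_one_of_mul_self hLodd hxL (by nth_rewrite 2 [hinv]; exact mul_inv_cancel _))
    have hodd : Odd (orderOf (x i)) := hLodd.of_dvd_nat (L.orderOf_dvd_natCard hxL)
    refine ⟨zpowers_le.mpr haA, ?_, zpowers_le.mpr hxL, hodd, ?_,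
      dihedral_sup ha2 ha1 hinv hodd⟩
    · rw [Nat.card_zpowers]
      exact orderOf_eq_prime (by rw [pow_two, ha2]) ha1
    · show 3 ≤ orderOf (x i)
      have h1 : orderOf (x i) ≠ 1 := fun h => hx1 (orderOf_eq_one_iff.mp h)
      obtain ⟨k, hk⟩ := hodd
      omega
  · rw [← hgen]
    simp only [zpowers_eq_closure, ← Subgroup.closure_iUnion, Set.iUnion_singleton_eq_range]
  · intro i j hij
    obtain ⟨haA, hxL, hx1, ha2, hinv, hac, hxc⟩ := hax i
    obtain ⟨hbA, -, -, -, -, hbc, -⟩ := hax j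
    have h1 : zpowers (a j) ⊔ zpowers (x j) ≤ centralizer ({a i} : Set G) := sup_le
      (zpowers_le.mpr (mem_centralizer_singleton_iff.mpr (elemAb_commute hA hbA haA)))
      (zpowers_le.mpr (mem_centralizer_singleton_iff.mpr (hac j (Ne.symm hij)).symm))
    have h2 : zpowers (a j) ⊔ zpowers (x j) ≤ centralizer ({x i} : Set G) := sup_le
      (zpowers_le.mpr (mem_centralizer_singleton_iff.mpr (hbc i hij)))
      (zpowers_le.mpr (mem_centralizer_singleton_iff.mpr (hxc j).symm))
    have h3 : zpowers (a i) ⊔ zpowers (x i) ≤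
        centralizer ((zpowers (a j) ⊔ zpowers (x j) : Subgroup G) : Set G) := sup_le
      (zpowers_le.mpr (mem_centralizer_iff.mpr fun y hy =>
        mem_centralizer_singleton_iff.mp (h1 hy)))
      (zpowers_le.mpr (mem_centralizer_iff.mpr fun y hy =>
        mem_centralizer_singleton_iff.mp (h2 hy)))
    exact fun y hy z hz => (mem_centralizer_iff.mp (h3 hy) z hz).symm

end Cfsg.Agent.S1349
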