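import Cfsg.Statements.S1350
import Cfsg.Agent.Lib.OddLocal.SigmaCore

set_option autoImplicit false
open Cfsg

namespace Cfsg.Agent.S1350

/-- Let G be a minimal simple group of odd order and M a maximal subgroup. Then M_σ (the largest normal σ(M)-subgroup of M) is a Hall σ(M)-subgroup of M and also of G, and every Hall σ(M)-subgroup of M that is normal in M equals M_σ. -/
theorem result {G : Type*} [Group G] [Finite G] (hG : Cfsg.IsMinSimpleOddOrder G)
    (M : Subgroup G) (hM : IsCoatom M) :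
    Cfsg.IsPiHallOf (Cfsg.sigma M) (Cfsg.sigmaCore M) M ∧ Cfsg.IsPiHall (Cfsg.sigma M) (Cfsg.sigmaCore M) ∧
      ∀ N : Subgroup G, M ≤ Subgroup.normalizer (N : Set G) → Cfsg.IsPiHallOf (Cfsg.sigma M) N M →
        N = Cfsg.sigmaCore M := by
  have hle : Cfsg.sigmaCore M ≤ M := Subgroup.map_subtype_le _
  have hidx : (Cfsg.sigmaCore M).relIndex M = (Cfsg.piCore (Cfsg.sigma M) M).index := by
    rw [Cfsg.sigmaCore, Subgroup.relIndex, Subgroup.subgroupOf,
      Subgroup.comap_map_eq_self_of_injective M.subtype_injective]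
  have hπ : ∀ q : ℕ, q.Prime → q ∣ Nat.card (Cfsg.sigmaCore M) → q ∈ Cfsg.sigma M := fun q hq h =>
    Lib.OddLocal.mem_of_prime_dvd_card_piCoreOf hq h
  refine ⟨⟨hle, hπ, fun p hp hpσ hd => ?_⟩, ⟨hπ, fun p hp hpσ hd => ?_⟩, fun N hN hNH => ?_⟩
  · exact Lib.OddLocal.not_dvd_index_piCore_sigma hG hM hp hpσ (hidx ▸ hd)
  · have := Fact.mk hp
    obtain ⟨S, hS⟩ := Lib.OddLocal.sylow_le_sigmaCore hG hM hpσ
    exact S.not_dvd_index (hd.trans (Subgroup.index_dvd_of_le hS))
  · refine le_antisymm (Lib.OddLocal.le_piCoreOf hNH.1 hN hNH.2.1) ?_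
    rintro _ ⟨x, hx, rfl⟩
    have hn : (N.subgroupOf M).Normal := (Subgroup.normal_subgroupOf_iff_le_normalizer hNH.1).mpr hN
    refine (QuotientGroup.eq_one_iff (N := N.subgroupOf M) x).mp (orderOf_eq_one_iff.mp ?_)
    by_contra hne
    obtain ⟨q, hq, hqd⟩ := Nat.exists_prime_and_dvd hne
    refine hNH.2.2 q hq (Lib.Cores.mem_of_prime_dvd_card_piCore hq
      ((hqd.trans (orderOf_map_dvd (QuotientGroup.mk' _) x)).trans (Subgroup.orderOf_dvd_natCard _ hx))) ?_
    rw [Subgroup.relIndex, Subgroup.index_eq_card]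
    exact hqd.trans (orderOf_dvd_natCard _)

end Cfsg.Agent.S1350
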