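import Cfsg.Statements.S1386
import Cfsg.Agent.Lib.Coprime.Basic

set_option autoImplicit false
open Cfsg

namespace Cfsg.Agent.S1386

/-- Let G be a finite group, W₁, W₂ subgroups forming a self-normalizing cyclic pair, S a subgroup with W₂ ≤ S and W₁ a complement to S' in S, and (W₁, U, W₂') type-P data for S. Then W₂' = W₂ (that is, C_{S'}(W₁) = W₂). -/
theorem result {G : Type*} [Group G] [Finite G] (W₁ W₂ S U W₂' : Subgroup G) (hW : Cfsg.IsSelfNormalizingCyclic W₁ W₂)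
    (hSW : Cfsg.IsComplIn ⁅S, S⁆ W₁ S) (hW₂S : W₂ ≤ S) (hP : Cfsg.IsTypePWith S W₁ U W₂') :
    W₂' = W₂ := by
  obtain ⟨hW1, hW2, hW12, hcomm, hcyc, hN⟩ := hW
  obtain ⟨x, hx, hx1⟩ : ∃ x ∈ W₁, x ≠ 1 := by
    by_contra! h
    exact hW1 ((Subgroup.eq_bot_iff_forall _).mpr h)
  obtain ⟨w0, hw0, hw01⟩ : ∃ x ∈ W₂, x ≠ 1 := by
    by_contra! h
    exact hW2 ((Subgroup.eq_bot_iff_forall _).mpr h)
  haveI := hcyc
  have hcop : (Nat.card W₁).Coprime (Nat.card W₂) := by
    refine Nat.coprime_of_dvd fun r hr h1 h2 => ?_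
    haveI := Fact.mk hr
    classical
    haveI := Fintype.ofFinite ↥(W₁ ⊔ W₂)
    obtain ⟨a, ha⟩ := exists_prime_orderOf_dvd_card' r h1
    obtain ⟨b, hb⟩ := exists_prime_orderOf_dvd_card' r h2
    let a' : ↥(W₁ ⊔ W₂) := ⟨a, Subgroup.mem_sup_left a.2⟩
    let b' : ↥(W₁ ⊔ W₂) := ⟨b, Subgroup.mem_sup_right b.2⟩
    have ha' : orderOf a' = r := by rw [← Subgroup.orderOf_coe]; exact (Subgroup.orderOf_coe a).trans ha
    have hb' : orderOf b' = r := by rw [← Subgroup.orderOf_coe]; exact (Subgroup.orderOf_coe b).trans hb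
    have hle := IsCyclic.card_pow_eq_one_le (α := ↥(W₁ ⊔ W₂)) hr.pos
    let T : Finset ↥(W₁ ⊔ W₂) := (Finset.range r).image (a' ^ ·)
    have hT : T.card = r := by
      rw [Finset.card_image_of_injOn, Finset.card_range]
      intro i hi j hj hij
      exact pow_injOn_Iio_orderOf (by simpa [ha'] using hi) (by simpa [ha'] using hj) hij
    have hbT : b' ∈ T := by
      by_contra hbn
      have hsub : insert b' T ⊆ Finset.univ.filter (fun y => y ^ r = 1) := by
        intro y hy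
        rw [Finset.mem_filter]
        refine ⟨Finset.mem_univ _, ?_⟩
        rcases Finset.mem_insert.mp hy with rfl | hy
        · rw [← hb']; exact pow_orderOf_eq_one _
        · obtain ⟨i, -, rfl⟩ := Finset.mem_image.mp hy
          rw [← pow_mul, mul_comm, pow_mul, ← ha', pow_orderOf_eq_one, one_pow]
      have := Finset.card_le_card hsub
      rw [Finset.card_insert_of_notMem hbn, hT] at this
      omega
    obtain ⟨i, -, hi⟩ := Finset.mem_image.mp hbT
    have hbW : (b : G) ∈ W₁ := by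
      rw [show (b : G) = (a : G) ^ i from (congrArg Subtype.val hi).symm]
      exact W₁.pow_mem a.2 _
    have hb1 : (b : G) ∈ W₁ ⊓ W₂ := ⟨hbW, b.2⟩
    rw [hW12, Subgroup.mem_bot] at hb1
    rw [show b = 1 from Subtype.ext hb1, orderOf_one] at hb
    exact hr.one_lt.ne hb
  have hW₂S' : W₂ ≤ ⁅S, S⁆ := by
    intro w hw
    obtain ⟨s, hs, v, hv, he⟩ := hSW.2.2.2 w (hW₂S hw)
    have hs' : s = v⁻¹ * w := by
      rw [show v⁻¹ * w = w * v⁻¹ from hcomm _ (inv_mem hv) _ hw, he, mul_inv_cancel_right]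
    have hwc : w ^ Nat.card W₁ ∈ ⁅S, S⁆ := by
      have := pow_mem hs (Nat.card W₁)
      rw [hs', (Commute.mul_pow (hcomm _ (inv_mem hv) _ hw)),
        show v⁻¹ ^ Nat.card W₁ = 1 from congrArg Subtype.val
          (pow_card_eq_one' (G := W₁) (x := ⟨_, inv_mem hv⟩)), one_mul] at this
      exact this
    obtain ⟨k, hk⟩ := exists_pow_eq_self_of_coprime (x := w) (n := Nat.card W₁)
      (hcop.coprime_dvd_right (Subgroup.orderOf_dvd_natCard _ hw))
    rw [← hk]; exact pow_mem hwc k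
  have hle : W₂ ≤ W₂' := by
    intro w hw
    rw [← hP.W₂_centralizer x hx hx1]
    refine ⟨hW₂S' hw, ?_⟩
    exact Subgroup.mem_centralizer_singleton_iff.mpr (hcomm x hx w hw).symm
  refine le_antisymm (fun y hy => ?_) hle
  have hyx : y * x = x * y := by
    have h1 : y ∈ ⁅S, S⁆ ⊓ Subgroup.centralizer ({x} : Set G) := by
      rw [hP.W₂_centralizer x hx hx1]; exact hy
    exact Subgroup.mem_centralizer_singleton_iff.mp h1.2
  have hyw : y * w0 = w0 * y := by
    haveI := hP.selfNormalizing.2.2.2.2.1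
    letI := IsCyclic.commGroup (α := ↥(W₁ ⊔ W₂'))
    exact congrArg Subtype.val (mul_comm (⟨y, Subgroup.mem_sup_right hy⟩ : ↥(W₁ ⊔ W₂'))
      ⟨w0, Subgroup.mem_sup_right (hle hw0)⟩)
  have hz : x * w0 ∈ (↑(W₁ ⊔ W₂) : Set G) \ (↑W₁ ∪ ↑W₂) := by
    refine ⟨mul_mem (Subgroup.mem_sup_left hx) (Subgroup.mem_sup_right hw0), ?_⟩
    rintro (h | h)
    · have : w0 ∈ W₁ ⊓ W₂ := ⟨by simpa using mul_mem (inv_mem hx) h, hw0⟩
      exact hw01 (by simpa [hW12] using this)
    · have : x ∈ W₁ ⊓ W₂ := ⟨hx, by simpa using mul_mem h (inv_mem hw0)⟩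
      exact hx1 (by simpa [hW12] using this)
  have hyz : y * (x * w0) = (x * w0) * y := by
    rw [← mul_assoc, hyx, mul_assoc, hyw, ← mul_assoc]
  have hyW : y ∈ W₁ ⊔ W₂ := by
    rw [← hN {x * w0} (Set.singleton_subset_iff.mpr hz) (Set.singleton_nonempty _)]
    exact Subgroup.centralizer_le_normalizer _
      (Subgroup.mem_centralizer_singleton_iff.mpr hyz)
  obtain ⟨v, hv, w, hw, rfl⟩ : ∃ v ∈ W₁, ∃ w ∈ W₂, y = v * w := by
    refine Cfsg.Agent.Lib.Coprime.exists_mul_of_mem_sup ?_ hyW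
    intro b hb
    refine Subgroup.centralizer_le_normalizer _ (Subgroup.mem_centralizer_iff.mpr fun a ha => ?_)
    exact hcomm a ha b hb
  have hvS : v ∈ ⁅S, S⁆ ⊓ W₁ := ⟨by
    simpa using mul_mem ((hP.W₂_le hy).2 |> fun h => Subgroup.commutator_le_self ⁅S, S⁆ h)
      (inv_mem (hW₂S' hw)), hv⟩
  rw [hSW.2.2.1, Subgroup.mem_bot] at hvS
  rw [hvS, one_mul]
  exact hw

end Cfsg.Agent.S1386
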