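import Cfsg.Statements.S1387
import Cfsg.Agent.Lib.OddLocal.FittingHall
import Cfsg.Agent.S1459

set_option autoImplicit false
open Cfsg

namespace Cfsg.Agent.S1387

/-- Let M be a subgroup of a finite group G with type-P data (W₁, U, W₂) and H = M_F. Then the Fitting subgroup F(M) is generated by H and the centralizer of H in U. -/
theorem result {G : Type*} [Group G] [Finite G] (M W₁ U W₂ : Subgroup G) (hP : Cfsg.IsTypePWith M W₁ U W₂) :
    Cfsg.fittingOf M = Cfsg.fittingHallOf M ⊔ (U ⊓ Subgroup.centralizer (Cfsg.fittingHallOf M : Set G)) := by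
  open Cfsg.Agent.Lib.OddLocal in
  have hM' : ⁅M, M⁆ ≤ M := Subgroup.commutator_le_self M
  have hcop := coprime_card_fittingHallOf (hP.U_compl.2.1.trans hM') hP.U_compl.2.2.1
  have hH : Cfsg.fittingHallOf M ≤ Cfsg.fittingOf M := hP.fitting_eq ▸ le_sup_left
  refine le_antisymm ?_ (sup_le hH ?_)
  · conv_lhs => rw [← hP.fitting_eq]
    refine sup_le le_sup_left fun c hc => ?_
    have hcF : c ∈ Cfsg.fittingOf M := hP.fitting_eq ▸ Subgroup.mem_sup_right hc
    obtain ⟨h, hh, u, hu, rfl⟩ := hP.U_compl.2.2.2 c (hP.fitting_le hcF)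
    have huF : u ∈ Cfsg.fittingOf M := by simpa using mul_mem (inv_mem (hH hh)) hcF
    refine mul_mem (Subgroup.mem_sup_left hh) (Subgroup.mem_sup_right ⟨hu, Subgroup.mem_centralizer_iff.mpr fun y hy => ?_⟩)
    haveI := fittingOf_isNilpotent M
    refine congrArg Subtype.val (Cfsg.Agent.S1459.commute_of_coprime_orderOf
      (⟨y, hH hy⟩ : Cfsg.fittingOf M) ⟨u, huF⟩ ?_)
    rw [Subgroup.orderOf_mk, Subgroup.orderOf_mk]
    exact (hcop.symm.coprime_dvd_left (Subgroup.orderOf_dvd_natCard _ hy)).coprime_dvd_right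
      (Subgroup.orderOf_dvd_natCard _ hu)
  · conv_rhs => rw [← hP.fitting_eq]
    exact le_sup_of_le_right (inf_le_inf (hP.U_compl.2.1.trans hM') le_rfl)

end Cfsg.Agent.S1387
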