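import Cfsg.Statements.S1388
import Cfsg.Agent.Lib.OddLocal.FittingHall
import Cfsg.Agent.S1387
import Cfsg.Agent.Lib.Coprime.Basic

set_option autoImplicit false
open Cfsg

namespace Cfsg.Agent.S1388

/-- Let M be a subgroup of a finite group G with type-P data (W₁, U, W₂) and H = M_F. Then the derived subgroup of U centralizes H, and if U ≠ 1 then U does not centralize H. -/
theorem result {G : Type*} [Group G] [Finite G] (M W₁ U W₂ : Subgroup G) (hP : Cfsg.IsTypePWith M W₁ U W₂) :
    ⁅U, U⁆ ≤ Subgroup.centralizer (Cfsg.fittingHallOf M : Set G) ∧ (U ≠ ⊥ → ¬ U ≤ Subgroup.centralizer (Cfsg.fittingHallOf M : Set G)) := by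
  open Cfsg.Agent.Lib.OddLocal in
  have hF := Cfsg.Agent.S1387.result M W₁ U W₂ hP
  have hM' : ⁅M, M⁆ ≤ M := Subgroup.commutator_le_self M
  constructor
  · intro x hx
    have hxF : x ∈ Cfsg.fittingHallOf M ⊔ (U ⊓ Subgroup.centralizer (Cfsg.fittingHallOf M : Set G)) := by
      rw [← hF, ← hP.fitting_eq]
      exact hP.derived_two_le (Subgroup.commutator_mono hP.U_compl.2.1 hP.U_compl.2.1 hx)
    obtain ⟨h, hh, c, hc, rfl⟩ := Cfsg.Agent.Lib.Coprime.exists_mul_of_mem_sup
      (N := Cfsg.fittingHallOf M) (H := U ⊓ Subgroup.centralizer (Cfsg.fittingHallOf M : Set G))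
      (inf_le_right.trans (Subgroup.centralizer_le_normalizer _)) hxF
    have : h ∈ Cfsg.fittingHallOf M ⊓ U :=
      ⟨hh, by simpa using mul_mem (Subgroup.commutator_le_self U hx) (inv_mem hc.1)⟩
    rw [hP.U_compl.2.2.1, Subgroup.mem_bot] at this
    rw [this, one_mul]
    exact hc.2
  · intro hU hle
    refine hU ?_
    have hMF : ⁅M, M⁆ = Cfsg.fittingOf M := by
      refine le_antisymm (fun m hm => ?_) hP.fitting_le
      obtain ⟨h, hh, u, hu, rfl⟩ := hP.U_compl.2.2.2 m hm
      rw [hF]
      exact mul_mem (Subgroup.mem_sup_left hh) (Subgroup.mem_sup_right ⟨hu, hle hu⟩)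
    let D := (⁅M, M⁆).subgroupOf M
    have hDle : D ≤ Cfsg.fittingHall M := by
      refine le_fittingHall (Subgroup.normal_subgroupOf_of_le_normalizer
        (Subgroup.normalizer_commutator_ge_left M M)) ?_ ?_
      · haveI := fittingOf_isNilpotent M
        haveI : Group.IsNilpotent (⁅M, M⁆ : Subgroup G) := by rw [hMF]; infer_instance
        exact Group.nilpotent_of_surjective (Subgroup.subgroupOfEquivOfLe hM').symm.toMonoidHom
          (Subgroup.subgroupOfEquivOfLe hM').symm.surjective
      · have hc : D.IsComplement' (W₁.subgroupOf M) := by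
          haveI : D.Normal := Subgroup.normal_subgroupOf_of_le_normalizer
            (Subgroup.normalizer_commutator_ge_left M M)
          refine Subgroup.isComplement'_of_disjoint_and_mul_eq_univ ?_ ?_
          · rw [disjoint_iff, Subgroup.eq_bot_iff_forall]
            intro x hx
            have : (x : G) ∈ ⁅M, M⁆ ⊓ W₁ := ⟨hx.1, hx.2⟩
            rw [hP.W₁_compl.2.2.1, Subgroup.mem_bot] at this
            exact Subtype.ext this
          · refine Set.eq_univ_of_forall fun x => ?_
            obtain ⟨a, ha, b, hb, he⟩ := hP.W₁_compl.2.2.2 x x.2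
            exact ⟨⟨a, hM' ha⟩, ha, ⟨b, hP.W₁_compl.2.1 hb⟩, hb, Subtype.ext he.symm⟩
        rw [hc.symm.index_eq_card, Nat.card_congr (Subgroup.subgroupOfEquivOfLe hP.W₁_compl.2.1).toEquiv]
        have h := hP.W₁_hall
        rw [Subgroup.relIndex, hc.index_eq_card] at h
        exact h.symm
    rw [eq_bot_iff, ← hP.U_compl.2.2.1]
    exact le_inf (fun u hu => ⟨⟨u, hM' (hP.U_compl.2.1 hu)⟩, hDle (hP.U_compl.2.1 hu), rfl⟩) le_rfl

end Cfsg.Agent.S1388
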