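import Cfsg.Statements.S1395
import Cfsg.Agent.Lib.OddLocal.TransitivityExt

set_option autoImplicit false
open Cfsg

open Pointwise
open scoped commutatorElement

namespace Cfsg.Agent.S1395

universe v

/-- An element of `L` in `[KL, KL]` of order prime to `K` lies in `[L, L]`. -/
theorem mem_commutator_of_coprime {G : Type v} [Group G] [Finite G] {M K L : Subgroup G}
    (hMK : M ≤ Subgroup.normalizer (K : Set G)) (hgen : M = K ⊔ L) {x : G}
    (hcop : ∀ r : ℕ, r.Prime → r ∣ orderOf x → ¬ r ∣ Nat.card K) (hxL : x ∈ L)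
    (hxM : x ∈ ⁅M, M⁆) : x ∈ ⁅L, L⁆ := by
  set D := (⁅L, L⁆ : Subgroup G) with hD
  have hLM : L ≤ M := hgen ▸ le_sup_right
  have hLK : L ≤ Subgroup.normalizer (K : Set G) := hLM.trans hMK
  have hDL : D ≤ L := Subgroup.commutator_le_self L
  have hle : ⁅M, M⁆ ≤ K ⊔ D := by
    refine Subgroup.commutator_le.mpr fun a ha b hb => ?_
    rw [hgen] at ha hb
    obtain ⟨k₁, hk₁, l₁, hl₁, rfl⟩ := Lib.Coprime.exists_mul_of_mem_sup hLK ha
    obtain ⟨k₂, hk₂, l₂, hl₂, rfl⟩ := Lib.Coprime.exists_mul_of_mem_sup hLK hb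
    have hKM : K ≤ M := hgen ▸ le_sup_left
    have : (K.subgroupOf M).Normal := Subgroup.normal_subgroupOf_of_le_normalizer hMK
    let f : M →* M ⧸ K.subgroupOf M := QuotientGroup.mk' (K.subgroupOf M)
    have hfk : ∀ k (hk : k ∈ K), f ⟨k, hKM hk⟩ = 1 := fun k hk =>
      (QuotientGroup.eq_one_iff (N := K.subgroupOf M) ⟨k, hKM hk⟩).mpr hk
    set A : M := ⟨k₁, hKM hk₁⟩ * ⟨l₁, hLM hl₁⟩
    set B : M := ⟨k₂, hKM hk₂⟩ * ⟨l₂, hLM hl₂⟩
    set C : M := ⁅(⟨l₁, hLM hl₁⟩ : M), (⟨l₂, hLM hl₂⟩ : M)⁆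
    have h1 : f (⁅A, B⁆ * C⁻¹) = 1 := by
      simp only [A, B, C, map_mul, map_inv, map_commutatorElement]
      rw [hfk k₁ hk₁, hfk k₂ hk₂, one_mul, one_mul, mul_inv_cancel]
    have h2 : ((⁅A, B⁆ * C⁻¹ : M) : G) ∈ K :=
      Subgroup.mem_subgroupOf.mp ((QuotientGroup.eq_one_iff _).mp h1)
    have h3 := mul_mem (Subgroup.mem_sup_left h2 : _ ∈ K ⊔ D)
      (Subgroup.mem_sup_right (Subgroup.commutator_mem_commutator hl₁ hl₂))
    simpa [A, B, C, commutatorElement_def, mul_assoc] using h3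
  obtain ⟨k, hk, d, hd, hkd⟩ :=
    Lib.Coprime.exists_mul_of_mem_sup (hDL.trans hLK) (hle hxM)
  have hkL : k ∈ L := by
    have := L.mul_mem hxL (L.inv_mem (hDL hd))
    rwa [hkd, mul_inv_cancel_right] at this
  have hn : (D.subgroupOf L).Normal := by
    refine Subgroup.normal_subgroupOf_of_le_normalizer ?_
    exact Subgroup.normalizer_commutator_ge_left L L
  set g := QuotientGroup.mk' (D.subgroupOf L)
  have he : g ⟨x, hxL⟩ = g ⟨k, hkL⟩ := by
    have : (⟨x, hxL⟩ : L) = ⟨k, hkL⟩ * ⟨d, hDL hd⟩ := Subtype.ext hkd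
    rw [this, map_mul, show g ⟨d, hDL hd⟩ = 1 from
      (QuotientGroup.eq_one_iff _).mpr (Subgroup.mem_subgroupOf.mpr hd), mul_one]
  have h1 : orderOf (g ⟨x, hxL⟩) ∣ orderOf x := by
    have := orderOf_map_dvd g ⟨x, hxL⟩
    rwa [← Subgroup.orderOf_coe] at this
  have h2 : orderOf (g ⟨x, hxL⟩) ∣ Nat.card K := by
    rw [he]
    have := orderOf_map_dvd g ⟨k, hkL⟩
    rw [← Subgroup.orderOf_coe] at this
    exact this.trans (Subgroup.orderOf_dvd_natCard _ hk)
  have h3 : orderOf (g ⟨x, hxL⟩) = 1 := by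
    by_contra hne
    obtain ⟨r, hr, hrd⟩ := Nat.exists_prime_and_dvd hne
    exact hcop r hr (hrd.trans h1) (hrd.trans h2)
  exact Subgroup.mem_subgroupOf.mp ((QuotientGroup.eq_one_iff _).mp (orderOf_eq_one_iff.mp h3))


/-- Let G be a minimal simple group of odd order, A a subgroup satisfying the transitivity hypothesis with K = O_{π(A)'}(C_G(A)), q a prime not dividing the order of A, and P a proper subgroup all of whose prime divisors divide the order of A, containing A as a subnormal subgroup, such that any two maximal A-invariant q-subgroups are conjugate under K. Then (a) K ∩ C_G(P) = O_{π(A)'}(C_G(P)); (b) any two maximal P-invariant q-subgroups are conjugate under O_{π(A)'}(C_G(P)); (c) every maximal P-invariant q-subgroup is a maximal A-invariant q-subgroup; (d) for every maximal P-invariant q-subgroup Q, P ∩ N_G(P)' ≤ N_G(Q)' and N_G(P) is generated by O_{π(A)'}(C_G(P)) and N_G(P) ∩ N_G(Q). -/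
theorem result {G : Type*} [Group G] [Finite G] (hG : Cfsg.IsMinSimpleOddOrder G)
    (A : Subgroup G) (hA : Cfsg.TransitivityHypothesis A) (q : ℕ) (hq : q.Prime) (hqA : ¬ q ∣ Nat.card A)
    (P : Subgroup G) (hP : P ≠ ⊤) (hPπ : (∀ r : ℕ, r.Prime → r ∣ Nat.card P → r ∣ Nat.card A)) (hAP : A ≤ P) (hsn : (A.subgroupOf P).IsSubnormal)
    (htr : ∀ Q₁ ∈ Cfsg.maxInvSubgroups ⊤ A {q}, ∀ Q₂ ∈ Cfsg.maxInvSubgroups ⊤ A {q}, ∃ k ∈ Cfsg.piCoreOf (Cfsg.primesNotDvd (Nat.card A)) (Subgroup.centralizer (A : Set G)), Q₂ = Q₁.map (MulAut.conj k).toMonoidHom) :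
    Cfsg.piCoreOf (Cfsg.primesNotDvd (Nat.card A)) (Subgroup.centralizer (A : Set G)) ⊓ Subgroup.centralizer (P : Set G) = Cfsg.piCoreOf (Cfsg.primesNotDvd (Nat.card A)) (Subgroup.centralizer (P : Set G)) ∧
      (∀ Q₁ ∈ Cfsg.maxInvSubgroups ⊤ P {q}, ∀ Q₂ ∈ Cfsg.maxInvSubgroups ⊤ P {q}, ∃ k ∈ Cfsg.piCoreOf (Cfsg.primesNotDvd (Nat.card A)) (Subgroup.centralizer (P : Set G)), Q₂ = Q₁.map (MulAut.conj k).toMonoidHom) ∧
      Cfsg.maxInvSubgroups ⊤ P {q} ⊆ Cfsg.maxInvSubgroups ⊤ A {q} ∧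
      ∀ Q ∈ Cfsg.maxInvSubgroups ⊤ P {q},
        P ⊓ ⁅Subgroup.normalizer (P : Set G), Subgroup.normalizer (P : Set G)⁆ ≤ ⁅Subgroup.normalizer (Q : Set G), Subgroup.normalizer (Q : Set G)⁆ ∧
        Subgroup.normalizer (P : Set G) = Cfsg.piCoreOf (Cfsg.primesNotDvd (Nat.card A)) (Subgroup.centralizer (P : Set G)) ⊔ (Subgroup.normalizer (P : Set G) ⊓ Subgroup.normalizer (Q : Set G)) := by
  have := Fact.mk hq
  set π := Cfsg.primesNotDvd (Nat.card A) with hπ
  have hmain : ∀ H : Subgroup P, H.IsSubnormal → A ≤ H.map P.subtype →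
      ((∀ Q₁ ∈ Cfsg.maxInvSubgroups ⊤ (H.map P.subtype) {q}, ∀ Q₂ ∈ Cfsg.maxInvSubgroups ⊤ (H.map P.subtype) {q},
          ∃ k ∈ Cfsg.piCoreOf π (Subgroup.centralizer ((H.map P.subtype : Subgroup G) : Set G)),
            Q₂ = Q₁.map (MulAut.conj k).toMonoidHom) ∧
        Cfsg.maxInvSubgroups ⊤ (H.map P.subtype) {q} ⊆ Cfsg.maxInvSubgroups ⊤ A {q}) →
      ((∀ Q₁ ∈ Cfsg.maxInvSubgroups ⊤ P {q}, ∀ Q₂ ∈ Cfsg.maxInvSubgroups ⊤ P {q},
          ∃ k ∈ Cfsg.piCoreOf π (Subgroup.centralizer (P : Set G)),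
            Q₂ = Q₁.map (MulAut.conj k).toMonoidHom) ∧
        Cfsg.maxInvSubgroups ⊤ P {q} ⊆ Cfsg.maxInvSubgroups ⊤ A {q}) := by
    intro H hH
    induction hH with
    | top =>
      intro _ h
      have e : (⊤ : Subgroup P).map P.subtype = P := by
        rw [← MonoidHom.range_eq_map, Subgroup.range_subtype]
      rwa [e] at h
    | step H K hle hK hN ih =>
      intro hAH h
      refine ih (hAH.trans (Subgroup.map_mono hle))
        (Lib.OddLocal.transitivity_step hG hA hqA hP hPπ hAH (Subgroup.map_mono hle)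
          (Subgroup.map_subtype_le _) ?_ h.1 h.2)
      exact (Subgroup.map_mono ((Subgroup.normal_subgroupOf_iff_le_normalizer hle).mp hN)).trans
        (Subgroup.le_normalizer_map _)
  obtain ⟨hb, hc⟩ := hmain _ hsn (Subgroup.map_subgroupOf_eq_of_le hAP).ge (by
    rw [Subgroup.map_subgroupOf_eq_of_le hAP]
    exact ⟨htr, subset_rfl⟩)
  refine ⟨Lib.OddLocal.piCore_inf_centralizer hG hA hAP, hb, hc, fun Q hQ => ?_⟩
  set M := Subgroup.normalizer (P : Set G) with hM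
  set K := Cfsg.piCoreOf π (Subgroup.centralizer (P : Set G)) with hK
  have hKM : K ≤ M :=
    (Lib.OddLocal.piCoreOf_le _ _).trans (Subgroup.centralizer_le_normalizer _)
  have hMK : M ≤ Subgroup.normalizer (K : Set G) := by
    refine le_trans ?_ (Lib.Cores.normalizer_le_normalizer_map_subtype _ _)
    intro d hd
    refine Subgroup.mem_normalizer_iff.mpr fun x => ?_
    simp only [Subgroup.mem_centralizer_iff]
    constructor
    · intro h b hb
      have := h (d⁻¹ * b * d) ((Subgroup.mem_normalizer_iff''.mp hd b).mp hb)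
      calc b * (d * x * d⁻¹) = d * ((d⁻¹ * b * d) * x) * d⁻¹ := by group
        _ = d * (x * (d⁻¹ * b * d)) * d⁻¹ := by rw [this]
        _ = _ := by group
    · intro h b hb
      have := h (d * b * d⁻¹) ((Subgroup.mem_normalizer_iff.mp hd b).mp hb)
      calc b * x = d⁻¹ * ((d * b * d⁻¹) * (d * x * d⁻¹)) * d := by group
        _ = d⁻¹ * ((d * x * d⁻¹) * (d * b * d⁻¹)) * d := by rw [this]
        _ = _ := by group
  have hgen : M = K ⊔ (M ⊓ Subgroup.normalizer (Q : Set G)) := by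
    refine le_antisymm (fun g hg => ?_) (sup_le hKM inf_le_left)
    obtain ⟨k, hk, e⟩ := hb Q hQ _ (Lib.OddLocal.map_conj_mem_maxInv_of_normalizer hg hQ)
    have h1 : k⁻¹ * g ∈ M ⊓ Subgroup.normalizer (Q : Set G) := by
      refine ⟨M.mul_mem (M.inv_mem (hKM hk)) hg, ?_⟩
      refine Lib.Coprime.mem_normalizer_of_conj_smul_eq ?_
      rw [Lib.Coprime.conj_mul_smul, show MulAut.conj g • Q = MulAut.conj k • Q from e,
        ← Lib.Coprime.conj_mul_smul, inv_mul_cancel, Lib.Coprime.conj_one_smul]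
    simpa using mul_mem (Subgroup.mem_sup_left hk : k ∈ K ⊔ (M ⊓ Subgroup.normalizer (Q : Set G)))
      (Subgroup.mem_sup_right h1)
  refine ⟨?_, hgen⟩
  set L := M ⊓ Subgroup.normalizer (Q : Set G) with hL
  rintro x ⟨hxP, hxM⟩
  have hxL : x ∈ L := ⟨Subgroup.le_normalizer hxP, hQ.1.2.2 hxP⟩
  refine Subgroup.commutator_mono (inf_le_right : L ≤ _) (inf_le_right : L ≤ _) ?_
  exact mem_commutator_of_coprime (hMK) hgen
    (fun r hr h1 h2 => (Lib.OddLocal.mem_of_prime_dvd_card_piCoreOf hr h2).2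
      (hPπ r hr (h1.trans (Subgroup.orderOf_dvd_natCard _ hxP)))) hxL hxM

end Cfsg.Agent.S1395
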