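import Cfsg.Statements.S1396
import Cfsg.Agent.Lib.OddLocal.TransitivityHyp
import Cfsg.Agent.Lib.OddLocal.Transitivity

set_option autoImplicit false
open Cfsg

namespace Cfsg.Agent.S1396

/-- Let G be a minimal simple group of odd order, p a prime dividing the order of G and A an abelian p-subgroup. Suppose either (1) A consists exactly of the elements x of C_G(A) with x^p = 1, and every proper subgroup of G has p-length at most one, or (2) A is normal and self-centralizing in some Sylow p-subgroup of G and has rank at least 2. Then A satisfies the transitivity hypothesis. -/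
theorem result {G : Type*} [Group G] [Finite G] (hG : Cfsg.IsMinSimpleOddOrder G)
    (p : ℕ) [Fact p.Prime] (hp : p ∣ Nat.card G) (A : Subgroup G) (hAp : IsPGroup p A) (hAc : IsMulCommutative A)
    (h : (∀ x ∈ Subgroup.centralizer (A : Set G), x ^ p = 1 ↔ x ∈ A) ∧ (∀ H : Subgroup G, H ≠ ⊤ → Cfsg.PLengthLE p 1 H) ∨
      ∃ P : Sylow p G, Cfsg.IsSCN (P : Subgroup G) A ∧ ¬ Cfsg.PRankLE p 1 A) :
    Cfsg.TransitivityHypothesis A := by
  have hodd : p ≠ 2 := fun e => by
    subst e
    exact (Nat.not_even_iff_odd.mpr hG.1) ((even_iff_two_dvd).mpr hp)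
  have hAt : A ≠ ⊤ := Lib.OddLocal.eq_top_of_isPGroup_absurd hG hAp
  rcases h with ⟨hfull, hlen⟩ | ⟨P, hscn, hrk⟩
  · refine Lib.OddLocal.transitivityHypothesis_of_le_pPrimeCore hAp (fun e => ?_) hAt ?_
    · obtain ⟨x, hx⟩ := exists_prime_orderOf_dvd_card' p hp
      have h1 : x ∈ A := (hfull x (Subgroup.mem_centralizer_iff.mpr fun a ha => by
        rw [SetLike.mem_coe, e, Subgroup.mem_bot] at ha
        simp [ha])).mp (hx ▸ pow_orderOf_eq_one x)
      rw [e, Subgroup.mem_bot] at h1
      rw [h1, orderOf_one] at hx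
      exact (Fact.out : p.Prime).ne_one hx.symm
    · intro X hX hAX Y hAY hY
      refine Lib.OddLocal.le_pPrimeCore_of_omega hodd
        (Lib.Components.isPConstrained_of_solvable (hG.2.2.2 X hX)) (hlen X hX)
        (hAp.of_equiv (Subgroup.subgroupOfEquivOfLe hAX).symm) (fun x hx hxp => ?_) hAY hY
      exact (hfull x (Subgroup.mem_centralizer_iff.mpr fun a ha =>
        congrArg Subtype.val (Subgroup.mem_centralizer_iff.mp hx ⟨a, hAX ha⟩ ha))).mp
        (congrArg Subtype.val hxp)
  · refine Lib.OddLocal.transitivityHypothesis_of_le_pPrimeCore hAp (fun e => ?_) hAt ?_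
    · refine hrk fun B _ _ => ?_
      rw [pow_one]
      refine (Subgroup.card_le_card_group B).trans ?_
      rw [e, Subgroup.card_bot]
      exact (Fact.out : p.Prime).one_le
    · intro X hX hAX Y hAY hY
      refine Lib.OddLocal.le_pPrimeCore_of_constrained
        (Lib.Components.isPConstrained_of_solvable (hG.2.2.2 X hX))
        (hAp.of_equiv (Subgroup.subgroupOfEquivOfLe hAX).symm)
        ⟨⟨fun a b => Subtype.ext (Subtype.ext (congrArg (fun z : A => (z : G))
          (hAc.is_comm.comm ⟨((a : X) : G), a.2⟩ ⟨((b : X) : G), b.2⟩) :))⟩⟩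
        (fun x hx hxp => ?_) (fun e => absurd e hodd) hAY hY
      refine Lib.OddLocal.mem_of_centralizer_of_isSCN P hAc hscn
        (Subgroup.mem_centralizer_iff.mpr fun a ha =>
          congrArg Subtype.val (Subgroup.mem_centralizer_iff.mp hx ⟨a, hAX ha⟩ ha)) ?_
      have := hxp.map X.subtype
      rwa [MonoidHom.map_zpowers] at this

end Cfsg.Agent.S1396
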