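import Cfsg.Statements.S1400
import Cfsg.Agent.Lib.OddLocal.UniquenessPassing

set_option autoImplicit false
open Cfsg

namespace Cfsg.Agent.S1400

/-- Let G be a minimal simple group of odd order, p a prime, A an abelian p-subgroup containing an elementary abelian subgroup of order p ^ 3 and lying in exactly one maximal subgroup, and B a noncyclic p-subgroup whose centralizer contains an elementary abelian subgroup of order p ^ 3. Then B lies in exactly one maximal subgroup of G. -/
theorem result {G : Type*} [Group G] [Finite G] (hG : Cfsg.IsMinSimpleOddOrder G)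
    (p : ℕ) [Fact p.Prime] (A B : Subgroup G) (hAp : IsPGroup p A) (hAc : IsMulCommutative A) (hA3 : ¬ Cfsg.PRankLE p 2 ↥A)
    (hAU : Cfsg.InUniqueMaximal A) (hBp : IsPGroup p B) (hBnc : ¬ IsCyclic B) (hB3 : ¬ Cfsg.PRankLE p 2 ↥(Subgroup.centralizer (B : Set G))) :
    Cfsg.InUniqueMaximal B := by
  obtain ⟨F₁, hF₁A, hF₁e, hF₁c⟩ := Lib.OddLocal.exists_elementary_of_not_pRankLE hA3
  obtain ⟨F, hFB, hFe, hFc⟩ := Lib.OddLocal.exists_elementary_of_not_pRankLE hB3
  have hF₁ := Lib.OddLocal.inUniqueMaximal_elementary_of_abelian hG hAU hAc hF₁e hF₁c hF₁A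
  exact Lib.OddLocal.inUniqueMaximal_noncyclic_of_centralizing hG
    (Lib.OddLocal.inUniqueMaximal_elementary_transfer hG hF₁e hF₁c hF₁ hFe hFc) hBp hBnc
    (Subgroup.le_centralizer_iff.mp hFB)

end Cfsg.Agent.S1400
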