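import Cfsg.Statements.S1403
import Cfsg.Agent.Lib.OddLocal.ScnUniqueness

set_option autoImplicit false
open Cfsg

namespace Cfsg.Agent.S1403

/-- Every elementary abelian subgroup of rank three is unique. -/
theorem unique_elementary {G : Type*} [Group G] [Finite G] (hG : Cfsg.IsMinSimpleOddOrder G)
    {q : ℕ} [Fact q.Prime] {F : Subgroup G} (hF : Cfsg.IsElementaryAbelian q F)
    (hFc : q ^ 2 < Nat.card F) : Cfsg.InUniqueMaximal F := by
  obtain ⟨S⟩ : Nonempty (Sylow q G) := inferInstance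
  obtain ⟨A, hA, hAc, hA3⟩ := Lib.OddLocal.exists_scn_three hG S
    fun h => not_lt.mpr (h F hF.1 hF.2) hFc
  obtain ⟨F₁, hF₁A, hF₁e, hF₁c⟩ := Lib.OddLocal.exists_elementary_of_not_pRankLE hA3
  exact Lib.OddLocal.inUniqueMaximal_elementary_transfer hG hF₁e hF₁c
    (Lib.OddLocal.inUniqueMaximal_elementary_of_abelian hG
      (Lib.OddLocal.inUniqueMaximal_scn hG S hA hAc hA3) hAc hF₁e hF₁c hF₁A) hF hFc


/-- Let G be a minimal simple group of odd order and K a proper subgroup having an elementary abelian subgroup of order p ^ 2 for some prime p. If K, or its centralizer C_G(K), has an elementary abelian subgroup of order q ^ 3 for some prime q, then K lies in exactly one maximal subgroup of G. -/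
theorem result {G : Type*} [Group G] [Finite G] (hG : Cfsg.IsMinSimpleOddOrder G)
    (K : Subgroup G) (hK : K ≠ ⊤) (hK2 : ¬ Cfsg.RankLE 1 K)
    (hK3 : ¬ Cfsg.RankLE 2 K ∨ ¬ Cfsg.RankLE 2 (Subgroup.centralizer (K : Set G))) :
    Cfsg.InUniqueMaximal K := by
  simp only [Cfsg.RankLE] at hK2 hK3
  push Not at hK2 hK3
  obtain ⟨p, hp, hpK⟩ := hK2
  have := Fact.mk hp
  obtain ⟨B, hBK, hBe, hBc⟩ := Lib.OddLocal.exists_elementary_of_not_pRankLE hpK
  rw [pow_one] at hBc
  rcases hK3 with ⟨q, hq, hqK⟩ | ⟨q, hq, hqK⟩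
  · have := Fact.mk hq
    obtain ⟨F, hFK, hFe, hFc⟩ := Lib.OddLocal.exists_elementary_of_not_pRankLE hqK
    exact Lib.OddLocal.inUniqueMaximal_of_le hG (unique_elementary hG hFe hFc) hFK hK
  · have := Fact.mk hq
    obtain ⟨F, hFK, hFe, hFc⟩ := Lib.OddLocal.exists_elementary_of_not_pRankLE hqK
    exact Lib.OddLocal.inUniqueMaximal_of_le hG (Lib.OddLocal.inUniqueMaximal_of_centralizing hG
      (unique_elementary hG hFe hFc) hBe hBc (hBK.trans (Subgroup.le_centralizer_iff.mp hFK))) hBK hK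

end Cfsg.Agent.S1403
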