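import Cfsg.Statements.S1405
import Cfsg.Agent.Lib.OddLocal.AlphaCore

set_option autoImplicit false
open Cfsg

namespace Cfsg.Agent.S1405

/-- Let G be a minimal simple group of odd order and M a maximal subgroup, α(M) the set of primes p with M of p-rank at least 3, and M_α = O_{α(M)}(M). Then M_α is a Hall α(M)-subgroup of M and of G, M_α ≤ M_σ, the quotient M/M_α has no elementary abelian subgroup of order p ^ 3 for any prime p, and the image of M' in M/M_α is nilpotent. -/
theorem result {G : Type*} [Group G] [Finite G] (hG : Cfsg.IsMinSimpleOddOrder G)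
    (M : Subgroup G) (hM : IsCoatom M) :
    Cfsg.IsPiHallOf (Cfsg.alpha M) (Cfsg.alphaCore M) M ∧ Cfsg.IsPiHall (Cfsg.alpha M) (Cfsg.alphaCore M) ∧
      Cfsg.alphaCore M ≤ Cfsg.sigmaCore M ∧ Cfsg.RankLE 2 (↥M ⧸ Cfsg.piCore (Cfsg.alpha M) ↥M) ∧
      Group.IsNilpotent ↥((commutator ↥M).map (QuotientGroup.mk' (Cfsg.piCore (Cfsg.alpha M) ↥M))) := by
  obtain ⟨hsyl, hcomm, hrank⟩ := Lib.OddLocal.alphaCore_data hG hM
  set N := Cfsg.piCore (Cfsg.alpha M) M with hN
  have hπ : ∀ q : ℕ, q.Prime → q ∣ Nat.card (Cfsg.alphaCore M) → q ∈ Cfsg.alpha M := by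
    intro q hq h
    rw [Cfsg.alphaCore, Subgroup.card_map_of_injective M.subtype_injective] at h
    exact Lib.Cores.mem_of_prime_dvd_card_piCore hq h
  have hle : Cfsg.alphaCore M ≤ M := Subgroup.map_subtype_le _
  refine ⟨⟨hle, hπ, fun p hp hpα hd => ?_⟩, ⟨hπ, fun p hp hpα hd => ?_⟩, ?_, hrank, ?_⟩
  · have := Fact.mk hp
    obtain ⟨P⟩ : Nonempty (Sylow p M) := inferInstance
    have hidx : (Cfsg.alphaCore M).relIndex M = N.index := by
      rw [Cfsg.alphaCore, Subgroup.relIndex, Subgroup.subgroupOf,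
        Subgroup.comap_map_eq_self_of_injective M.subtype_injective]
    rw [hidx] at hd
    exact P.not_dvd_index (hd.trans (Subgroup.index_dvd_of_le (hsyl p hp hpα P)))
  · have := Fact.mk hp
    obtain ⟨S, hS⟩ := Lib.OddLocal.sylow_le_alphaCore hG hM hp hpα
    exact S.not_dvd_index (hd.trans (Subgroup.index_dvd_of_le hS))
  · exact Subgroup.map_mono (sSup_le_sSup fun K hK =>
      ⟨hK.1, fun q hq h => Lib.OddLocal.alpha_subset_sigma hG hM (hK.2 q hq h)⟩)
  · have := Lib.Cores.fittingSubgroup_isNilpotent (M ⧸ N)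
    refine Lib.OddLocal.isNilpotent_of_le ?_ this
    refine le_trans ?_ hcomm
    rw [commutator_def, commutator_def, Subgroup.map_commutator]
    exact Subgroup.commutator_mono le_top le_top

end Cfsg.Agent.S1405
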