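import Cfsg.Statements.S1408
import Cfsg.Agent.Lib.OddLocal.TauTwo

set_option autoImplicit false
open Cfsg

namespace Cfsg.Agent.S1408

/-- Let G be a minimal simple group of odd order, M a maximal subgroup, and p a prime not in σ(M) such that M has p-rank exactly 2. Then p is not an ideal prime for G, and every elementary abelian subgroup of M of order p ^ 2 is maximal among elementary abelian p-subgroups of G. -/
theorem result {G : Type*} [Group G] [Finite G] (hG : Cfsg.IsMinSimpleOddOrder G)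
    (M : Subgroup G) (hM : IsCoatom M) (p : ℕ) [Fact p.Prime] (hp : p ∉ Cfsg.sigma M) (hr2 : Cfsg.PRankLE p 2 M) (hr1 : ¬ Cfsg.PRankLE p 1 M) :
    ¬ Cfsg.IsIdealPrime p G ∧ ∀ A : Subgroup G, A ≤ M → Cfsg.IsElementaryAbelian p A → Nat.card A = p ^ 2 →
        ∀ B : Subgroup G, Cfsg.IsElementaryAbelian p B → A ≤ B → B = A := by
  open Cfsg.Agent.Lib.OddLocal in
  refine ⟨?_, fun A hA hAe hAc B hB hAB => maximal_elementary_of_rank_two hG hM hr2 hA hAe hAc hB hAB⟩
  obtain ⟨F, hFM, hFe, hFc⟩ := exists_elementary_of_not_pRankLE hr1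
  rw [pow_one] at hFc
  obtain ⟨k, hk⟩ := (isPGroup_of_elementary hFe).exists_card_eq
  haveI := hFe.1
  have hFle : Nat.card F ≤ p ^ 2 := by
    have h := hr2 (F.subgroupOf M) inferInstance (fun z hz => Subtype.ext (hFe.2 _ hz))
    rwa [Nat.card_congr (Subgroup.subgroupOfEquivOfLe hFM).toEquiv] at h
  refine not_isIdealPrime_of_rank_two hG hM hr2 hFM hFe ?_
  rw [hk] at hFc hFle ⊢
  have h1 : k ≤ 2 := (Nat.pow_le_pow_iff_right (Fact.out : p.Prime).one_lt).mp hFle
  have h2 : 1 < k := (Nat.pow_lt_pow_iff_right (Fact.out : p.Prime).one_lt).mp (by rwa [pow_one])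
  rw [show k = 2 by omega]
end Cfsg.Agent.S1408
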