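import Cfsg.Statements.S1409
import Cfsg.Agent.Lib.OddLocal.TauTwo
import Cfsg.Agent.Lib.OddLocal.PLengthOne
import Cfsg.Agent.Lib.Coprime.PxQ

set_option autoImplicit false
open Cfsg

namespace Cfsg.Agent.S1409

/-- Let G be a minimal simple group of odd order, M a maximal subgroup, p a prime not in σ(M), and X a subgroup of order p with N_G(X) ≤ M. Then M has p-rank exactly 2, p is not an ideal prime for G, and X is contained in some elementary abelian subgroup of G of order p ^ 2. -/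
theorem result {G : Type*} [Group G] [Finite G] (hG : Cfsg.IsMinSimpleOddOrder G)
    (M : Subgroup G) (hM : IsCoatom M) (p : ℕ) [Fact p.Prime] (hp : p ∉ Cfsg.sigma M) (X : Subgroup G) (hX : Nat.card X = p)
    (hNX : Subgroup.normalizer (X : Set G) ≤ M) :
    (Cfsg.PRankLE p 2 M ∧ ¬ Cfsg.PRankLE p 1 M) ∧ ¬ Cfsg.IsIdealPrime p G ∧
      ∃ A : Subgroup G, Cfsg.IsElementaryAbelian p A ∧ Nat.card A = p ^ 2 ∧ X ≤ A := by
  open Cfsg.Agent.Lib.OddLocal in
  have hp' : p.Prime := Fact.out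
  have hr2 : Cfsg.PRankLE p 2 M := by
    by_contra h
    exact hp (alpha_subset_sigma hG hM ⟨hp', h⟩)
  have hXp : IsPGroup p X := IsPGroup.of_card (n := 1) (by rw [hX, pow_one])
  have hXM : X ≤ M := Subgroup.le_normalizer.trans hNX
  obtain ⟨P, hP⟩ := (hXp.comap_of_injective M.subtype Subtype.val_injective).exists_le_sylow
  set P₀ := (P : Subgroup M).map M.subtype with hP₀
  have hP₀p : IsPGroup p P₀ := P.2.map _
  have hXP : X ≤ P₀ := fun z hz => ⟨⟨z, hXM hz⟩, hP (show (⟨z, hXM hz⟩ : M) ∈ X.subgroupOf M from hz), rfl⟩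
  have hpX : p ∣ Nat.card X := dvd_of_eq hX.symm
  have hP₀nc : ¬ IsCyclic P₀ := by
    intro hc
    refine hp ⟨hp', hpX.trans (Subgroup.card_dvd_of_le hXM), P, le_trans (fun g hg => ?_) hNX⟩
    rw [Subgroup.mem_normalizer_iff_map_conj_eq]
    refine Subgroup.eq_of_le_of_card_ge ?_ (Subgroup.card_map_of_injective (MulAut.conj g).injective).ge
    rintro _ ⟨z, hz, rfl⟩
    by_cases hz1 : z = 1
    · subst hz1; simp
    obtain ⟨y, hy, hy1⟩ : ∃ y ∈ X, y ≠ 1 := ⟨z, hz, hz1⟩
    have hyp : ∀ w ∈ X, w ^ p = 1 := fun w hw => by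
      have := congrArg Subtype.val (pow_card_eq_one' (x := (⟨w, hw⟩ : X)))
      rwa [hX] at this
    obtain ⟨m, hm⟩ := exists_pow_eq_of_isCyclic hc hp' (hXP hy) ((Subgroup.mem_normalizer_iff.mp hg z).mp (hXP hz))
      (hyp y hy) (by rw [conj_pow, hyp z hz, mul_one, mul_inv_cancel]) hy1
    show g * z * g⁻¹ ∈ X
    rw [← hm]
    exact pow_mem hy m
  have hp2 : p ≠ 2 := prime_ne_two_of_dvd hG (hpX.trans (Subgroup.card_subgroup_dvd_card X))
  obtain ⟨F, hFP, hFe, hFc⟩ := exists_elementary_sq_of_not_cyclic hp2 P₀ hP₀p hP₀nc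
  have hFM : F ≤ M := hFP.trans (Subgroup.map_subtype_le _)
  refine ⟨⟨hr2, fun h => ?_⟩, not_isIdealPrime_of_rank_two hG hM hr2 hFM hFe hFc, ?_⟩
  · haveI := hFe.1
    have h1 := h (F.subgroupOf M) inferInstance (fun z hz => Subtype.ext (hFe.2 _ hz))
    rw [Nat.card_congr (Subgroup.subgroupOfEquivOfLe hFM).toEquiv, hFc, pow_one] at h1
    exact absurd h1 (not_le.mpr (lt_self_pow₀ hp'.one_lt one_lt_two))
  have hFe' : Cfsg.IsElementaryAbelian p (F.subgroupOf P₀) := by
    haveI := hFe.1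
    exact ⟨inferInstance, fun z hz => Subtype.ext (hFe.2 _ hz)⟩
  obtain ⟨E, hEn, hEe, hEc⟩ := exists_normal_elementary_sq hp2 hP₀p hFe'
    (by rw [Nat.card_congr (Subgroup.subgroupOfEquivOfLe hFP).toEquiv, hFc]; exact lt_self_pow₀ hp'.one_lt one_lt_two)
  set E₀ := E.map P₀.subtype with hE₀
  have hE₀e : Cfsg.IsElementaryAbelian p E₀ := isElementaryAbelian_map hEe _
  have hE₀c : Nat.card E₀ = p ^ 2 := by rw [hE₀, Subgroup.card_map_of_injective P₀.subtype_injective, hEc]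
  by_cases hXE : X ≤ E₀
  · exact ⟨E₀, hE₀e, hE₀c, hXE⟩
  -- a nontrivial fixed point of `X` on `E₀`
  have hXn : X ≤ Subgroup.normalizer (E₀ : Set G) := by
    refine le_trans hXP ?_
    have h1 := Subgroup.le_normalizer_map (H := E) P₀.subtype
    rwa [Subgroup.normalizer_eq_top_iff.mpr hEn, ← MonoidHom.range_eq_map, Subgroup.range_subtype] at h1
  obtain ⟨a, ⟨haE, haX⟩, ha1⟩ : ∃ a ∈ E₀ ⊓ Subgroup.centralizer (X : Set G), a ≠ 1 := by
    refine (Subgroup.bot_or_exists_ne_one _).resolve_left fun h0 => ?_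
    have hlt := Cfsg.Agent.Lib.Coprime.commutator_lt_of_isPGroup (isPGroup_of_elementary hE₀e) hXp hXn (fun h => by
      rw [h, Subgroup.card_bot] at hE₀c
      exact absurd hE₀c.symm (Nat.one_lt_pow two_ne_zero hp'.one_lt).ne')
    by_cases hC : ⁅E₀, X⁆ = ⊥
    · rw [Subgroup.commutator_eq_bot_iff_le_centralizer] at hC
      rw [inf_eq_left.mpr hC] at h0
      rw [h0, Subgroup.card_bot] at hE₀c
      exact absurd hE₀c.symm (Nat.one_lt_pow two_ne_zero hp'.one_lt).ne'
    have hC2 : ⁅⁅E₀, X⁆, X⁆ = ⊥ := by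
      by_contra hC2
      have hlt2 := Cfsg.Agent.Lib.Coprime.commutator_lt_of_isPGroup ((isPGroup_of_elementary hE₀e).to_le hlt.le)
        hXp (Subgroup.normalizer_commutator_ge_right E₀ X) hC
      have e1 := Subgroup.card_dvd_of_le hlt.le
      have e2 := Subgroup.card_dvd_of_le hlt2.le
      rw [hE₀c] at e1
      obtain ⟨i, hi, hci⟩ := (Nat.dvd_prime_pow hp').mp e1
      obtain ⟨j, hj, hcj⟩ := (Nat.dvd_prime_pow hp').mp (hci ▸ e2)
      have hi2 : i ≠ 2 := fun h => hlt.ne (Subgroup.eq_of_le_of_card_ge hlt.le (by rw [hci, h, hE₀c]))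
      have hji : j ≠ i := fun h => hlt2.ne (Subgroup.eq_of_le_of_card_ge hlt2.le (by rw [hci, hcj, h]))
      refine hC2 (Subgroup.card_eq_one.mp ?_)
      rw [hcj, show j = 0 by omega, pow_zero]
    rw [Subgroup.commutator_eq_bot_iff_le_centralizer] at hC2
    exact hC (eq_bot_iff.mpr ((le_inf hlt.le hC2).trans h0.le))
  have hsup : Cfsg.IsElementaryAbelian p (X ⊔ Subgroup.zpowers a) := by
    have hXc : ∀ u ∈ X, ∀ v ∈ X, u * v = v * u := by
      haveI : Fact (Nat.card X).Prime := ⟨hX ▸ hp'⟩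
      haveI : IsCyclic X := isCyclic_of_prime_card rfl
      intro u hu v hv
      exact congrArg Subtype.val (IsCyclic.commGroup.mul_comm (⟨u, hu⟩ : X) ⟨v, hv⟩)
    have hc : IsMulCommutative ↥(X ⊔ Subgroup.zpowers a) := by
      rw [← Subgroup.le_centralizer_iff_isMulCommutative]
      have h1 : Subgroup.zpowers a ≤ Subgroup.centralizer (X : Set G) := Subgroup.zpowers_le.mpr haX
      refine sup_le (Subgroup.le_centralizer_iff.mp (sup_le ?_ h1))
        (Subgroup.le_centralizer_iff.mp (sup_le (Subgroup.le_centralizer_iff.mp h1)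
          (Subgroup.le_centralizer_iff_isMulCommutative.mpr inferInstance)))
      exact fun u hu => Subgroup.mem_centralizer_iff.mpr fun v hv => hXc v hv u hu
    have hle : X ⊔ Subgroup.zpowers a ≤ (X ⊔ Subgroup.zpowers a) ⊓ Subgroup.centralizer ((X ⊔ Subgroup.zpowers a : Subgroup G) : Set G) :=
      le_inf le_rfl (le_centralizer_self hc)
    refine ⟨hc, fun w hw => ?_⟩
    obtain ⟨u, hu, v, hv, rfl⟩ := Cfsg.Agent.Lib.Coprime.exists_mul_of_mem_sup (N := X) (H := Subgroup.zpowers a)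
      (fun g hg => Subgroup.centralizer_le_normalizer _ (Subgroup.zpowers_le.mpr haX hg)) hw
    have hap : ∀ v ∈ Subgroup.zpowers a, v ^ p = 1 := fun v hv => hE₀e.2 v (Subgroup.zpowers_le.mpr haE hv)
    have hup : u ^ p = 1 := by
      have := congrArg Subtype.val (pow_card_eq_one' (x := (⟨u, hu⟩ : X)))
      rwa [hX] at this
    rw [(show Commute u v from Subgroup.mem_centralizer_iff.mp
      ((Subgroup.zpowers_le.mpr haX) hv) u hu).mul_pow, hup, hap v hv, one_mul]
  refine ⟨X ⊔ Subgroup.zpowers a, hsup, ?_, le_sup_left⟩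
  have hXM' : X ⊔ Subgroup.zpowers a ≤ M := sup_le hXM (Subgroup.zpowers_le.mpr
    ((Subgroup.map_subtype_le E).trans (Subgroup.map_subtype_le _) haE))
  haveI := hsup.1
  have h1 := hr2 ((X ⊔ Subgroup.zpowers a).subgroupOf M) inferInstance (fun z hz => Subtype.ext (hsup.2 _ hz))
  rw [Nat.card_congr (Subgroup.subgroupOfEquivOfLe hXM').toEquiv] at h1
  obtain ⟨k, hk⟩ := (isPGroup_of_elementary hsup).exists_card_eq
  have hlt : Nat.card X < Nat.card ↥(X ⊔ Subgroup.zpowers a) := by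
    refine lt_of_le_of_ne (Subgroup.card_le_of_le le_sup_left) fun h => hXE ?_
    have haX' : a ∈ X := by
      rw [Subgroup.eq_of_le_of_card_ge (le_sup_left : X ≤ X ⊔ Subgroup.zpowers a) h.ge]
      exact Subgroup.mem_sup_right (Subgroup.mem_zpowers a)
    have hcard : Subgroup.zpowers a = X := by
      refine Subgroup.eq_of_le_of_card_ge (Subgroup.zpowers_le.mpr haX') (Nat.le_of_dvd Nat.card_pos ?_)
      rcases hp'.eq_one_or_self_of_dvd _ (hX ▸ Subgroup.orderOf_dvd_natCard X haX') with h2 | h2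
      · exact absurd (orderOf_eq_one_iff.mp h2) ha1
      · rw [Nat.card_zpowers, h2, hX]
    exact hcard ▸ Subgroup.zpowers_le.mpr haE
  rw [hX, hk] at hlt
  rw [hk] at h1 ⊢
  have e1 : k ≤ 2 := (Nat.pow_le_pow_iff_right hp'.one_lt).mp h1
  have e2 : 1 < k := (Nat.pow_lt_pow_iff_right hp'.one_lt).mp (by rwa [pow_one])
  rw [show k = 2 by omega]
end Cfsg.Agent.S1409
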