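import Cfsg.Statements.S1412
import Cfsg.Agent.Lib.OddLocal.OddOperators
import Cfsg.Agent.Lib.OddLocal.SylowFusion

set_option autoImplicit false
open Cfsg

namespace Cfsg.Agent.S1412

/-- Let G be a minimal simple group of odd order, p a prime and P a Sylow p-subgroup of G with no elementary abelian subgroup of order p ^ 3. Then either P is abelian, or P is generated by two elementwise-commuting subgroups P₁, P₂ with P₁ nonabelian of order p ^ 3 and exponent p, P₂ cyclic, and the elements of P₂ of order dividing p generating exactly the centre of P₁. -/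
theorem result {G : Type*} [Group G] [Finite G] (hG : Cfsg.IsMinSimpleOddOrder G) (p : ℕ) [Fact p.Prime] (P : Sylow p G) (hr : Cfsg.PRankLE p 2 (P : Subgroup G)) :
    IsMulCommutative (P : Subgroup G) ∨ ∃ P₁ P₂ : Subgroup G, P₁ ⊔ P₂ = (P : Subgroup G) ∧ (∀ a ∈ P₁, ∀ b ∈ P₂, a * b = b * a) ∧
        ¬ IsMulCommutative P₁ ∧ Nat.card P₁ = p ^ 3 ∧ Monoid.exponent P₁ = p ∧ IsCyclic P₂ ∧
        Subgroup.closure {x : G | x ∈ P₂ ∧ x ^ p = 1} = P₁ ⊓ Subgroup.centralizer (P₁ : Set G) := by
  by_cases hab : IsMulCommutative (P : Subgroup G)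
  · exact Or.inl hab
  right
  set N := Subgroup.normalizer ((P : Subgroup G) : Set G) with hN
  have hPN : (P : Subgroup G) ≤ N := Subgroup.le_normalizer
  have hpG : p ∣ Nat.card G := by
    obtain ⟨n, hn⟩ := IsPGroup.iff_card.mp P.2
    rcases n with _ | n
    · refine absurd ⟨⟨fun a b => ?_⟩⟩ hab
      haveI : Subsingleton (P : Subgroup G) := (Nat.card_eq_one_iff_unique.mp (by simpa using hn)).1
      exact Subsingleton.elim _ _
    · exact (hn ▸ dvd_pow_self p n.succ_ne_zero).trans (Subgroup.card_subgroup_dvd_card _)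
  have hp2 : p ≠ 2 := fun h => Nat.not_even_iff_odd.mpr hG.1 (even_iff_two_dvd.mpr (h ▸ hpG))
  haveI : ((P : Subgroup G).subgroupOf N).Normal := Subgroup.normal_in_normalizer
  have hcop : (Nat.card ((P : Subgroup G).subgroupOf N)).Coprime ((P : Subgroup G).subgroupOf N).index := by
    rw [Nat.card_congr (Subgroup.subgroupOfEquivOfLe hPN).toEquiv]
    exact P.card_coprime_index.coprime_dvd_right (Subgroup.relIndex_dvd_index_of_le hPN)
  obtain ⟨V', hV'⟩ := Subgroup.exists_right_complement'_of_coprime hcop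
  set V := V'.map N.subtype with hV
  have hVN : V ≤ N := Subgroup.map_subtype_le _
  have hcompl : Cfsg.IsComplIn (P : Subgroup G) V N := by
    refine ⟨hPN, hVN, ?_, fun m hm => ?_⟩
    · rw [eq_bot_iff]
      rintro _ ⟨hx, v, hv, rfl⟩
      have : v ∈ ((P : Subgroup G).subgroupOf N) ⊓ V' := ⟨hx, hv⟩
      rw [disjoint_iff.mp hV'.disjoint, Subgroup.mem_bot] at this
      rw [this]; exact one_mem _
    · obtain ⟨⟨a, b⟩, hab', -⟩ := hV'.existsUnique ⟨m, hm⟩
      exact ⟨(a : N), a.2, ((b : N) : G), ⟨b, b.2, rfl⟩, (congrArg Subtype.val hab').symm⟩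
  have hcV : (Nat.card V).Coprime p := by
    obtain ⟨n, hn⟩ := IsPGroup.iff_card.mp P.2
    rw [Subgroup.card_map_of_injective N.subtype_injective, ← hV'.symm.index_eq_card]
    rw [Nat.card_congr (Subgroup.subgroupOfEquivOfLe hPN).toEquiv, hn] at hcop
    rcases n with _ | n
    · refine absurd ⟨⟨fun a b => ?_⟩⟩ hab
      haveI : Subsingleton (P : Subgroup G) := (Nat.card_eq_one_iff_unique.mp (by simpa using hn)).1
      exact Subsingleton.elim _ _
    · exact (Nat.Coprime.coprime_dvd_left (dvd_pow_self p n.succ_ne_zero) hcop).symm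
  have hVo : Odd (Nat.card V) := Odd.of_dvd_nat hG.1 (Subgroup.card_subgroup_dvd_card V)
  have hPV := Cfsg.Agent.Lib.OddLocal.commutator_sylow_complement hG P hcompl
  have hP1 : (P : Subgroup G) ≠ ⊥ := fun h => hab (by
    rw [h]; exact ⟨⟨fun a b => Subsingleton.elim _ _⟩⟩)
  have h3 := Cfsg.Agent.Lib.OddLocal.three_lt_of_odd_operators hp2 P.2 hP1 hr hVN hcV hVo hPV
  obtain ⟨P₁, P₂, h1, h2, h4, h5, h6, h7, h8⟩ :=
    Cfsg.Agent.Lib.OddLocal.odd_operators_structure hp2 P.2 h3 hr hVN hcV hVo hPV hab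
  exact ⟨P₁, P₂, h1, h2, h4, h5, h6, h7,
    h8.trans (Cfsg.Agent.Lib.OddLocal.commutator_eq_center_of_cube h5 h4).1⟩

end Cfsg.Agent.S1412
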