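import Cfsg.Statements.S1413
import Cfsg.Agent.Lib.OddLocal.SylowFusion

set_option autoImplicit false
open Cfsg

namespace Cfsg.Agent.S1413

/-- Let G be a minimal simple group of odd order, p a prime and P a Sylow p-subgroup. (c) If Q ≤ P and xQx⁻¹ ≤ P then xQx⁻¹ = yQy⁻¹ for some y ∈ N_G(P). (d) For every Q ≤ P, p does not divide the index of N_P(Q) in N_G(Q). (e) If R is a p-subgroup and Q ≤ P ∩ R is normal in N_G(P), then Q is normal in N_G(R). -/
theorem result {G : Type*} [Group G] [Finite G] (hG : Cfsg.IsMinSimpleOddOrder G) (p : ℕ) [Fact p.Prime] (P : Sylow p G) :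
    (∀ (Q : Subgroup G) (x : G), Q ≤ (P : Subgroup G) → Q.map (MulAut.conj x).toMonoidHom ≤ (P : Subgroup G) →
        ∃ y ∈ Subgroup.normalizer ((P : Subgroup G) : Set G), Q.map (MulAut.conj x).toMonoidHom = Q.map (MulAut.conj y).toMonoidHom) ∧
      (∀ Q : Subgroup G, Q ≤ (P : Subgroup G) →
        ¬ p ∣ ((P : Subgroup G) ⊓ Subgroup.normalizer (Q : Set G)).relIndex (Subgroup.normalizer (Q : Set G))) ∧
      (∀ (R Q : Subgroup G), IsPGroup p R → Q ≤ (P : Subgroup G) ⊓ R →
        Subgroup.normalizer ((P : Subgroup G) : Set G) ≤ Subgroup.normalizer (Q : Set G) →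
        Subgroup.normalizer (R : Set G) ≤ Subgroup.normalizer (Q : Set G)) := by
  open Cfsg.Agent.Lib.OddLocal in
  have hc : ∀ (Q : Subgroup G) (x : G), Q ≤ (P : Subgroup G) → Q.map (MulAut.conj x).toMonoidHom ≤ (P : Subgroup G) →
      ∃ y ∈ Subgroup.normalizer ((P : Subgroup G) : Set G), Q.map (MulAut.conj x).toMonoidHom = Q.map (MulAut.conj y).toMonoidHom := by
    intro Q x hQ hx
    obtain ⟨y, hy, c, hc, rfl⟩ := exists_normalizer_mul_centralizer hG P hQ (x := x) fun w hw => hx ⟨w, hw, rfl⟩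
    refine ⟨y, hy, ?_⟩
    ext w
    rw [mem_map_conj_iff, mem_map_conj_iff]
    constructor
    · intro h
      have h1 := Subgroup.mem_centralizer_iff.mp hc _ h
      have e : y⁻¹ * w * y = c * ((y * c)⁻¹ * w * (y * c)) * c⁻¹ := by group
      rw [e, ← h1, mul_inv_cancel_right]; exact h
    · intro h
      have h1 := Subgroup.mem_centralizer_iff.mp hc _ h
      have e : (y * c)⁻¹ * w * (y * c) = c⁻¹ * ((y⁻¹ * w * y) * c) := by group
      rw [e, h1, inv_mul_cancel_left]; exact h
  refine ⟨hc, ?_, ?_⟩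
  · intro Q hQ
    set N := Subgroup.normalizer (Q : Set G) with hN
    set R := (P : Subgroup G) ⊓ N with hR
    have hRp : IsPGroup p (R.subgroupOf N) :=
      (P.2.to_le inf_le_left).comap_of_injective N.subtype Subtype.val_injective
    obtain ⟨S, hS⟩ := hRp.exists_le_sylow
    have hle : (S : Subgroup N).map N.subtype ≤ (P : Subgroup G) := by
      have hRS : R ≤ (S : Subgroup N).map N.subtype := fun v hv =>
        ⟨⟨v, hv.2⟩, hS (show (⟨v, hv.2⟩ : N) ∈ R.subgroupOf N from hv), rfl⟩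
      by_cases hQ1 : Q = ⊥
      · have hPN : (P : Subgroup G) ≤ N := by
          rw [hN, hQ1]; exact fun g _ => by rw [Subgroup.normalizer_eq_top]; trivial
        rw [hR, inf_eq_left.mpr hPN] at hRS
        exact (P.3 (S.2.map _) hRS).le
      · exact (sylow_fusion hG P _ Q hQ rfl hQ1).1 _ (S.2.map _) hRS (Subgroup.map_subtype_le _)
    have hSeq : (S : Subgroup N) = R.subgroupOf N :=
      le_antisymm (fun w hw => Subgroup.mem_inf.mpr ⟨hle ⟨w, hw, rfl⟩, w.2⟩) hS
    show ¬ p ∣ (R.subgroupOf N).index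
    rw [← hSeq]
    exact S.not_dvd_index
  · intro R Q hR hQ hNP u hu
    obtain ⟨S, hS⟩ := hR.exists_le_sylow
    obtain ⟨g, hg⟩ := MulAction.exists_smul_eq G S P
    have hweak : ∀ x : G, (∀ w ∈ Q, x * w * x⁻¹ ∈ (P : Subgroup G)) → ∀ w ∈ Q, x * w * x⁻¹ ∈ Q := by
      intro x hx w hw
      obtain ⟨y, hy, c, hc', rfl⟩ := exists_normalizer_mul_centralizer hG P (hQ.trans inf_le_left) hx
      have h1 := Subgroup.mem_centralizer_iff.mp hc' w hw
      rw [show y * c * w * (y * c)⁻¹ = y * ((c * w) * c⁻¹) * y⁻¹ by group, ← h1, mul_inv_cancel_right]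
      exact (Subgroup.mem_normalizer_iff.mp (hNP hy) w).mp hw
    have hgR : ∀ w ∈ R, g * w * g⁻¹ ∈ (P : Subgroup G) := fun w hw => by
      rw [← hg]; exact ⟨w, hS hw, rfl⟩
    have hgN : g ∈ Subgroup.normalizer (Q : Set G) := by
      rw [Subgroup.mem_normalizer_iff_map_conj_eq]
      refine Subgroup.eq_of_le_of_card_ge ?_ (Subgroup.card_map_of_injective (MulAut.conj g).injective).ge
      rintro _ ⟨w, hw, rfl⟩
      exact hweak g (fun w hw => hgR w (hQ hw).2) w hw
    have hgu : g * u ∈ Subgroup.normalizer (Q : Set G) := by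
      rw [Subgroup.mem_normalizer_iff_map_conj_eq]
      refine Subgroup.eq_of_le_of_card_ge ?_ (Subgroup.card_map_of_injective (MulAut.conj (g * u)).injective).ge
      rintro _ ⟨w, hw, rfl⟩
      refine hweak (g * u) (fun w hw => ?_) w hw
      rw [show g * u * w * (g * u)⁻¹ = g * (u * w * u⁻¹) * g⁻¹ by group]
      exact hgR _ ((Subgroup.mem_normalizer_iff.mp hu w).mp (hQ hw).2)
    simpa using mul_mem (inv_mem hgN) hgu
end Cfsg.Agent.S1413
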