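import Cfsg.Statements.S1414
import Cfsg.Agent.Lib.OddLocal.BetaCore

set_option autoImplicit false
open Cfsg

namespace Cfsg.Agent.S1414

/-- Let G be a minimal simple group of odd order, M a maximal subgroup, β(M) the set of ideal primes in α(M), and M_β = O_{β(M)}(M). Then M_β is a Hall β(M)-subgroup of M and of G; M' and M_σ each have a nilpotent Hall β(M)'-subgroup; and for each prime p dividing the order of M with p ∉ β(M), both M' and M_σ have normal p-complements and every prime dividing the index of O_{p'}(M) in M is at most p. -/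
theorem result {G : Type*} [Group G] [Finite G] (hG : Cfsg.IsMinSimpleOddOrder G)
    (M : Subgroup G) (hM : IsCoatom M) :
    Cfsg.IsPiHallOf (Cfsg.beta M) (Cfsg.piCoreOf (Cfsg.beta M) M) M ∧ Cfsg.IsPiHall (Cfsg.beta M) (Cfsg.piCoreOf (Cfsg.beta M) M) ∧
      (∃ H : Subgroup G, Cfsg.IsPiHallOf {q | q.Prime ∧ q ∉ Cfsg.beta M} H ⁅M, M⁆ ∧ Group.IsNilpotent H) ∧
      (∃ H : Subgroup G, Cfsg.IsPiHallOf {q | q.Prime ∧ q ∉ Cfsg.beta M} H (Cfsg.sigmaCore M) ∧ Group.IsNilpotent H) ∧
      ∀ p : ℕ, p.Prime → p ∣ Nat.card M → p ∉ Cfsg.beta M →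
        Cfsg.HasNormalPComplement p ↥⁅M, M⁆ ∧ Cfsg.HasNormalPComplement p ↥(Cfsg.sigmaCore M) ∧
        ∀ q : ℕ, q.Prime → q ∣ (Cfsg.pPrimeCore p ↥M).index → q ≤ p := by
  classical
  haveI : Group.IsSolvable M := Lib.OddLocal.isSolvable_of_ne_top hG hM.1
  obtain ⟨hsyl, hnil⟩ := Lib.OddLocal.beta_kernel hG hM
  have hcomm : ⁅M, M⁆ = (commutator M).map M.subtype := by
    rw [commutator_def, Subgroup.map_commutator, ← MonoidHom.range_eq_map, Subgroup.range_subtype]
  have hσle : Cfsg.piCore (Cfsg.sigma M) M ≤ commutator M := fun x hx =>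
    Lib.OddLocal.mem_commutator_of_sigma_number hG hM fun q hq hqx =>
      Lib.Cores.mem_of_prime_dvd_card_piCore hq (hqx.trans (Subgroup.orderOf_dvd_natCard _ hx))
  have hall : ∀ X : Subgroup M, X ≤ commutator M →
      ∃ H : Subgroup G, Cfsg.IsPiHallOf {q | q.Prime ∧ q ∉ Cfsg.beta M} H (X.map M.subtype) ∧
        Group.IsNilpotent H := by
    intro X hX
    obtain ⟨H₀, hH₀, hidx⟩ := Lib.Coprime.exists_hall_of_solvable (G := X) (fun q => q ∉ Cfsg.beta M)
    refine ⟨(H₀.map X.subtype).map M.subtype,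
      ⟨Subgroup.map_mono (Subgroup.map_subtype_le _), fun q hq hd => ⟨hq, ?_⟩, fun q hq hqπ hd => ?_⟩, ?_⟩
    · rw [Subgroup.card_map_of_injective M.subtype_injective,
        Subgroup.card_map_of_injective X.subtype_injective] at hd
      exact hH₀ q hq hd
    · rw [Subgroup.relIndex_map_map_of_injective _ _ M.subtype_injective, Subgroup.relIndex,
        Subgroup.subgroupOf, Subgroup.comap_map_eq_self_of_injective X.subtype_injective] at hd
      exact hidx q hq hd hqπ.2
    · have := hnil (H₀.map X.subtype) ((Subgroup.map_subtype_le _).trans hX) (fun q hq hd => by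
        rw [Subgroup.card_map_of_injective X.subtype_injective] at hd
        exact hH₀ q hq hd)
      exact Lib.Cores.isNilpotent_map M.subtype (H₀.map X.subtype)
  refine ⟨⟨Subgroup.map_subtype_le _, fun q hq hd => Lib.OddLocal.mem_of_prime_dvd_card_piCoreOf hq hd,
    fun p hp hpβ hd => ?_⟩, ⟨fun q hq hd => Lib.OddLocal.mem_of_prime_dvd_card_piCoreOf hq hd,
    fun p hp hpβ hd => ?_⟩, ?_, ?_, fun p hp hdp hpβ => ?_⟩
  · have := Fact.mk hp
    obtain ⟨P⟩ : Nonempty (Sylow p M) := inferInstance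
    rw [Cfsg.piCoreOf, Subgroup.relIndex, Subgroup.subgroupOf,
      Subgroup.comap_map_eq_self_of_injective M.subtype_injective] at hd
    exact P.not_dvd_index (hd.trans (Subgroup.index_dvd_of_le (hsyl p hpβ P)))
  · have := Fact.mk hp
    obtain ⟨P⟩ : Nonempty (Sylow p M) := inferInstance
    obtain ⟨S, hS⟩ := Lib.OddLocal.exists_sylow_of_normalizer_le hG P
      (Lib.OddLocal.normalizer_sylow_le_of_alpha hG hM hpβ.1.2 P)
    refine S.not_dvd_index (hd.trans (Subgroup.index_dvd_of_le ?_))
    rw [hS]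
    exact Subgroup.map_mono (hsyl p hpβ P)
  · rw [hcomm]
    exact hall _ le_rfl
  · exact hall _ hσle
  · have := Fact.mk hp
    obtain ⟨hidx, hcompl, -, -⟩ := Lib.OddLocal.p_structure_not_beta hG hM hdp hpβ
    refine ⟨?_, ?_, hidx⟩
    · let e : ↥⁅M, M⁆ ≃* ↥(commutator M) := (MulEquiv.subgroupCongr hcomm).trans
        ((commutator M).equivMapOfInjective M.subtype M.subtype_injective).symm
      exact Lib.Transfer.hasNormalPComplement_of_injective e.toMonoidHom e.injective hcompl
    · exact Lib.Transfer.hasNormalPComplement_of_injective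
        ((Subgroup.inclusion hσle).comp
          ((Cfsg.piCore (Cfsg.sigma M) M).equivMapOfInjective M.subtype M.subtype_injective).symm.toMonoidHom)
        ((Subgroup.inclusion_injective hσle).comp (MulEquiv.injective _)) hcompl

end Cfsg.Agent.S1414
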