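import Cfsg.Statements.S1415
import Cfsg.Agent.Lib.OddLocal.SigmaComplement

set_option autoImplicit false
open Cfsg

namespace Cfsg.Agent.S1415

/-- Let G be a minimal simple group of odd order, M a maximal subgroup and E a complement to M_σ in M. Then the derived subgroup E' is nilpotent; every Hall τ₁(M)-subgroup of E is cyclic; and every Hall τ₃(M)-subgroup E₃ of E is cyclic, contained in E' and normal in E. -/
theorem result {G : Type*} [Group G] [Finite G] (hG : Cfsg.IsMinSimpleOddOrder G)
    (M : Subgroup G) (hM : IsCoatom M) (E : Subgroup G) (hE : Cfsg.IsComplIn E (Cfsg.sigmaCore M) M) :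
    Group.IsNilpotent ↥⁅E, E⁆ ∧
      (∀ E₁ : Subgroup G, Cfsg.IsPiHallOf (Cfsg.tau1 M) E₁ E → IsCyclic E₁) ∧
      ∀ E₃ : Subgroup G, Cfsg.IsPiHallOf (Cfsg.tau3 M) E₃ E → IsCyclic E₃ ∧ E₃ ≤ ⁅E, E⁆ ∧ E ≤ Subgroup.normalizer (E₃ : Set G) := by
  have hcomm : ⁅E, E⁆ = (commutator E).map E.subtype := by
    rw [commutator_def, Subgroup.map_commutator, ← MonoidHom.range_eq_map, Subgroup.range_subtype]
  have hnil := Lib.OddLocal.isNilpotent_commutator_compl hG hM hE
  have hnilE : Group.IsNilpotent ↥⁅E, E⁆ := hcomm ▸ Lib.Cores.isNilpotent_map E.subtype (commutator E)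
  have hrk : ∀ H : Subgroup G, H ≤ E → (∀ q : ℕ, q.Prime → q ∣ Nat.card H → Cfsg.PRankLE q 1 M) → IsZGroup H :=
    fun H hH h => Lib.OddLocal.isZGroup_of_rank_one hG fun q hq hd =>
      Lib.OddLocal.pRankLE_of_injective (Subgroup.inclusion (hH.trans hE.1))
        (Subgroup.inclusion_injective _) (h q hq hd)
  refine ⟨hnilE, fun E₁ hE₁ => ?_, fun E₃ hE₃ => ?_⟩
  · have := hrk E₁ hE₁.1 fun q hq hd => (hE₁.2.1 q hq hd).2.2.2.2
    have hbot : ⁅E₁, E₁⁆ = ⊥ := by
      rw [← Subgroup.card_eq_one]
      refine Nat.eq_one_of_dvd_coprimes (Nat.coprime_of_dvd fun q hq hd1 hd2 =>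
        (hE₁.2.1 q hq hd1).2.2.2.1 hd2) (Subgroup.card_dvd_of_le (Subgroup.commutator_le_self _))
        (Subgroup.card_dvd_of_le (Subgroup.commutator_mono (hE₁.1.trans hE.1) (hE₁.1.trans hE.1)))
    have : Group.IsNilpotent E₁ := by
      have hc : ∀ a b : E₁, a * b = b * a := fun a b => Subtype.ext
        (Subgroup.mem_centralizer_iff.mp (Subgroup.commutator_eq_bot_iff_le_centralizer.mp hbot b.2) a a.2)
      letI : CommGroup E₁ := { mul_comm := hc }
      infer_instance
    infer_instance
  · have := hrk E₃ hE₃.1 fun q hq hd => (hE₃.2.1 q hq hd).2.2.2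
    have hE₃M' : ∀ x : E, (x : G) ∈ E₃ → x ∈ commutator E := by
      intro x hx
      refine Lib.OddLocal.isThreeStep_of_no_normal_sylow.mem_of_primeParts fun q hq hqx => ?_
      have := Fact.mk hq
      set y := x ^ (orderOf x / q ^ (orderOf x).factorization q) with hy
      have hqE : q ∣ Nat.card E₃ := hqx.trans
        (by rw [← Subgroup.orderOf_coe]; exact Subgroup.orderOf_dvd_natCard _ hx)
      obtain ⟨-, -, hq', hr⟩ := hE₃.2.1 q hq hqE
      obtain ⟨P, hP⟩ := (IsPGroup.of_card (n := _) (by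
        rw [Nat.card_zpowers, orderOf_injective (Subgroup.inclusion hE.1) (Subgroup.inclusion_injective _) y,
          hy, Lib.OddLocal.orderOf_pPart q x]) :
          IsPGroup q (Subgroup.zpowers (Subgroup.inclusion hE.1 y))).exists_le_sylow
      refine Lib.OddLocal.mem_commutator_compl hE ?_
      have hq2 : q ≠ 2 := fun e => by
        have := hG.1.of_dvd_nat (hqE.trans E₃.card_subgroup_dvd_card)
        rw [e] at this
        exact absurd this (by decide)
      have : IsCyclic (P : Subgroup M) := Lib.OddLocal.isCyclic_of_pRankLE_one hq2 P.isPGroup'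
        (Lib.OddLocal.pRankLE_of_injective (P : Subgroup M).subtype (Subgroup.subtype_injective _) hr)
      have hidx : ¬ q ∣ (commutator M).index := by
        refine P.not_dvd_card_commutator_or_not_dvd_index_commutator.resolve_left (not_not.mpr ?_)
        refine hq'.trans (dvd_of_eq ?_)
        rw [← Subgroup.map_subtype_commutator, Subgroup.card_map_of_injective M.subtype_injective]
      refine (QuotientGroup.eq_one_iff (N := commutator M) _).mp (orderOf_eq_one_iff.mp ?_)
      by_contra hne
      obtain ⟨r, hr, hrd⟩ := Nat.exists_prime_and_dvd hne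
      have h1 := hrd.trans (orderOf_map_dvd (QuotientGroup.mk' (commutator M)) (Subgroup.inclusion hE.1 y))
      rw [orderOf_injective (Subgroup.inclusion hE.1) (Subgroup.inclusion_injective _) y,
        hy, Lib.OddLocal.orderOf_pPart q x] at h1
      have h2 := (Nat.prime_dvd_prime_iff_eq hr hq).mp (hr.dvd_of_dvd_pow h1)
      subst h2
      exact hidx (hrd.trans ((orderOf_dvd_natCard _).trans (dvd_of_eq (Subgroup.index_eq_card _).symm)))
    have hle : E₃ ≤ ⁅E, E⁆ := fun x hx => hcomm ▸ ⟨⟨x, hE₃.1 hx⟩, hE₃M' _ hx, rfl⟩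
    have : Group.IsNilpotent E₃ := Lib.OddLocal.isNilpotent_of_le hle hnilE
    refine ⟨inferInstance, hle, ?_⟩
    set H := (E₃.subgroupOf E).subgroupOf (commutator E) with hH
    have hpart : ∀ y : commutator E, (∀ q : ℕ, q.Prime → q ∣ orderOf y → q ∈ Cfsg.tau3 M) → y ∈ H := by
      intro y hy
      refine Lib.OddLocal.isThreeStep_of_no_normal_sylow.mem_of_primeParts fun q hq hqy => ?_
      have := Fact.mk hq
      obtain ⟨T⟩ : Nonempty (Sylow q H) := inferInstance
      have hidx : ¬ q ∣ H.index := fun h => hE₃.2.2 q hq (hy q hq hqy)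
        (h.trans (by rw [hH]; exact Subgroup.relIndex_dvd_index_of_le fun x hx => hE₃M' x hx))
      have hTidx : ¬ q ∣ ((T : Subgroup H).map H.subtype).index := by
        rw [Subgroup.index_map_subtype]
        exact fun h => (hq.dvd_mul.mp h).elim T.not_dvd_index hidx
      set S := (T.isPGroup'.map H.subtype).toSylow hTidx with hS
      have : Unique (Sylow q (commutator E)) := Sylow.unique_of_normal S
        (Sylow.normal_of_normalizerCondition Group.normalizerCondition_of_isNilpotent S)
      obtain ⟨S', hS'⟩ := (IsPGroup.of_card (n := _) (by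
        rw [Nat.card_zpowers, Lib.OddLocal.orderOf_pPart q y]) :
          IsPGroup q (Subgroup.zpowers (y ^ (orderOf y / q ^ (orderOf y).factorization q)))).exists_le_sylow
      rw [Subsingleton.elim S' S] at hS'
      exact Subgroup.map_subtype_le _ (hS' (Subgroup.mem_zpowers _))
    intro e he
    refine Subgroup.mem_normalizer_iff.mpr fun x => ?_
    have key : ∀ e' : E, ∀ z : E, (z : G) ∈ E₃ → ((e' * z * e'⁻¹ : E) : G) ∈ E₃ := by
      intro e' z hz
      have hz' := hE₃M' z hz
      have hc := (inferInstance : (commutator E).Normal).conj_mem z hz' e'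
      refine hpart ⟨_, hc⟩ fun q hq hqd => hE₃.2.1 q hq ?_
      rw [Subgroup.orderOf_mk, show orderOf (e' * z * e'⁻¹) = orderOf z from MulEquiv.orderOf_eq (MulAut.conj e') z,
        ← Subgroup.orderOf_coe] at hqd
      exact hqd.trans (Subgroup.orderOf_dvd_natCard _ hz)
    refine ⟨fun hx => key ⟨e, he⟩ ⟨x, hE₃.1 hx⟩ hx, fun hx => ?_⟩
    have := key ⟨e, he⟩⁻¹ ⟨_, hE₃.1 hx⟩ hx
    simpa [mul_assoc] using this

end Cfsg.Agent.S1415
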