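import Cfsg.Statements.S1441
import Cfsg.Agent.Lib.OddLocal.Coprime

set_option autoImplicit false
open Cfsg

namespace Cfsg.Agent.S1441

/-- Let G be a finite group, H a solvable subgroup and A a subgroup normalizing H. Suppose there is a chain H = H₀ ≥ H₁ ≥ ⋯ ≥ H_n = 1 of subgroups normal in H and normalized by A such that A acts trivially on each factor H_{i-1}/H_i (that is, [H_{i-1}, A] ≤ H_i). Then every prime dividing the index of C_A(H) in A divides the order of H. -/
theorem result {G : Type*} [Group G] [Finite G] (H A : Subgroup G) (hH : Group.IsSolvable H) (hA : (A ≤ Subgroup.normalizer (H : Set G)))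
    (n : ℕ) (c : Fin (n + 1) → Subgroup G) (hc0 : c 0 = H) (hcn : c (Fin.last n) = ⊥) (hanti : Antitone c)
    (hcN : ∀ i, H ≤ Subgroup.normalizer ((c i : Subgroup G) : Set G)) (hcA : ∀ i, A ≤ Subgroup.normalizer ((c i : Subgroup G) : Set G))
    (htriv : ∀ i : Fin n, ⁅c i.castSucc, A⁆ ≤ c i.succ) :
    ∀ p : ℕ, p.Prime → p ∣ (A ⊓ Subgroup.centralizer (H : Set G)).relIndex A → p ∣ Nat.card H := by
  classical
  open Cfsg.Agent.Lib.OddLocal in
  intro p hp hdvd
  have hk : ∀ k : ℕ, ∀ i : Fin (n + 1), n - i.val = k → ∀ a ∈ A,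
      a ^ Nat.card H ^ k ∈ Subgroup.centralizer (c i : Set G) := by
    intro k
    induction k with
    | zero =>
      intro i hi a _
      have : i = Fin.last n := by ext; simp; omega
      subst this
      refine mem_centralizer_of_conj_eq fun x hx => ?_
      rw [hcn] at hx
      simp [Subgroup.mem_bot.mp hx]
    | succ k ih =>
      intro i hi a ha
      obtain ⟨j, rfl⟩ : ∃ j : Fin n, j.castSucc = i := ⟨⟨i.val, by omega⟩, by ext; rfl⟩
      have h1 := ih j.succ (by simp at hi ⊢; omega) a ha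
      have h2 := pow_card_centralizes_of_stab (htriv j) (A.pow_mem ha _) h1
      obtain ⟨d, hd⟩ : Nat.card (c j.succ) ∣ Nat.card H :=
        Subgroup.card_dvd_of_le (hc0 ▸ hanti (Fin.zero_le _))
      rw [pow_succ, pow_mul, show (a ^ Nat.card H ^ k) ^ Nat.card H =
        ((a ^ Nat.card H ^ k) ^ Nat.card (c j.succ)) ^ d by rw [← pow_mul _ (Nat.card (c j.succ)), ← hd]]
      exact Subgroup.pow_mem _ h2 d
  let C := (A ⊓ Subgroup.centralizer (H : Set G)).subgroupOf A
  have hCn : C.Normal := by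
    refine ⟨fun x hx g => ?_⟩
    simp only [C, Subgroup.mem_subgroupOf, Subgroup.mem_inf, SetLike.coe_mem, true_and] at hx ⊢
    refine mem_centralizer_of_conj_eq fun h hh => ?_
    have hgh : ((g : G))⁻¹ * h * g ∈ H := by
      simpa using conj_mem_of_le_normalizer hA (A.inv_mem g.2) hh
    have := conj_eq_of_mem_centralizer hx hgh
    calc ((g * x * g⁻¹ : A) : G) * h * ((g * x * g⁻¹ : A) : G)⁻¹
        = (g : G) * ((x : G) * ((g : G)⁻¹ * h * g) * (x : G)⁻¹) * (g : G)⁻¹ := by push_cast; group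
      _ = h := by rw [this]; group
  haveI := Fact.mk hp
  obtain ⟨q, hq⟩ := exists_prime_orderOf_dvd_card' (G := A ⧸ C) p hdvd
  obtain ⟨a, rfl⟩ := QuotientGroup.mk'_surjective C q
  have h1 : (QuotientGroup.mk' C a) ^ Nat.card H ^ n = 1 := by
    rw [← map_pow, QuotientGroup.mk'_apply, QuotientGroup.eq_one_iff]
    simp only [C, Subgroup.mem_subgroupOf, Subgroup.mem_inf, SetLike.coe_mem, true_and]
    have := hk n 0 (by simp) a a.2
    rwa [hc0] at this
  exact hp.dvd_of_dvd_pow (hq ▸ orderOf_dvd_of_pow_eq_one h1)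

end Cfsg.Agent.S1441
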