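import Cfsg.Statements.S1443
import Cfsg.Agent.Lib.OddLocal.Coprime

set_option autoImplicit false
open Cfsg

namespace Cfsg.Agent.S1443

/-- Let G be a finite group, p an odd prime, H a p-subgroup, E an elementary abelian subgroup of H, and A a subgroup of order coprime to p normalizing H. If A centralizes every element of order p in H ∩ C_G(E), then A centralizes H. -/
theorem result {G : Type*} [Group G] [Finite G] (p : ℕ) [Fact p.Prime] (hp : p ≠ 2) (H E A : Subgroup G) (hH : IsPGroup p H) (hE : E ≤ H) (hEe : Cfsg.IsElementaryAbelian p E)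
    (hA : (A ≤ Subgroup.normalizer (H : Set G))) (hcop : (Nat.card A).Coprime p)
    (hfix : ∀ x ∈ (H ⊓ Subgroup.centralizer (E : Set G)), orderOf x = p → A ≤ Subgroup.centralizer ({x} : Set G)) :
    A ≤ Subgroup.centralizer (H : Set G) := by
  open Cfsg.Agent.Lib.OddLocal in
  obtain ⟨hEc, hEp⟩ := hEe
  let D : Subgroup G := H ⊓ Subgroup.centralizer (E : Set G)
  have hfix' : ∀ x ∈ D, x ^ p = 1 → A ≤ Subgroup.centralizer ({x} : Set G) := by
    intro x hx hxp
    rcases eq_or_ne x 1 with rfl | hne
    · intro a _; exact mem_centralizer_of_conj_eq fun y hy => by simp [Set.mem_singleton_iff.mp hy]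
    · exact hfix x hx (orderOf_eq_prime hxp hne)
  have hED : E ≤ D := le_inf hE (Subgroup.le_centralizer_iff_isMulCommutative.mpr hEc)
  have hAE : A ≤ Subgroup.centralizer (E : Set G) := by
    intro a ha
    refine mem_centralizer_of_conj_eq fun e he => ?_
    exact conj_eq_of_mem_centralizer (hfix' e (hED he) (hEp e he) ha) (Set.mem_singleton e)
  have hAD : A ≤ Subgroup.normalizer (D : Set G) := by
    intro a ha
    have key : ∀ b ∈ A, ∀ x ∈ D, b * x * b⁻¹ ∈ D := by
      intro b hb x hx
      refine ⟨conj_mem_of_le_normalizer hA hb hx.1, ?_⟩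
      refine (Subgroup.centralizer (E : Set G)).mul_mem
        ((Subgroup.centralizer (E : Set G)).mul_mem (hAE hb) hx.2) (inv_mem (hAE hb))
    refine Subgroup.mem_normalizer_iff.mpr fun x => ⟨key a ha x, fun hx => ?_⟩
    simpa [mul_assoc] using key a⁻¹ (A.inv_mem ha) _ hx
  have hDc : A ≤ Subgroup.centralizer (D : Set G) :=
    le_centralizer_of_fixes_pow_eq_one hp hcop D (hH.to_le inf_le_left) hAD hfix'
  obtain ⟨m, hm⟩ := hH.exists_card_eq
  refine le_centralizer_of_centralizer_fixed_le hH.isNilpotent hA (by rw [hm]; exact hcop.pow_right m) ?_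
  have hEC : E ≤ H ⊓ Subgroup.centralizer (A : Set G) :=
    le_inf hE (Subgroup.le_centralizer_iff.mp hAE)
  intro x hx
  refine ⟨hx.1, Subgroup.le_centralizer_iff.mp hDc ?_⟩
  exact ⟨hx.1, Subgroup.centralizer_le hEC hx.2⟩

end Cfsg.Agent.S1443
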