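import Cfsg.Statements.S1444
import Cfsg.Agent.Lib.OddLocal.PLengthOne

set_option autoImplicit false
open Cfsg

namespace Cfsg.Agent.S1444

/-- Let G be a solvable group of odd order, H a normal subgroup of order coprime to its index, R a complement to H in G, and R₀ ≤ R a subgroup of prime order such that every Sylow subgroup of H ∩ C_G(R₀) is cyclic. Then for every prime p the commutator subgroup [H, R] satisfies [H,R] = O_{p',p,p'}([H,R]). -/
theorem result {G : Type*} [Group G] [Finite G] [Group.IsSolvable G] (hodd : Odd (Nat.card G)) (H R R₀ : Subgroup G) [H.Normal] (hHall : (Nat.card H).Coprime H.index)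
    (hR : Subgroup.IsComplement' H R) (hR₀ : R₀ ≤ R) (hR₀p : (Nat.card R₀).Prime) (hZ : IsZGroup ↥(H ⊓ Subgroup.centralizer (R₀ : Set G)))
    (p : ℕ) [Fact p.Prime] :
    Cfsg.PLengthLE p 1 ↥⁅H, R⁆ := by
  obtain ⟨y, hy⟩ : ∃ y : G, R₀ = Subgroup.zpowers y ∧ orderOf y = Nat.card R₀ := by
    have : Fact (Nat.card R₀).Prime := ⟨hR₀p⟩
    haveI : IsCyclic R₀ := isCyclic_of_prime_card rfl
    obtain ⟨g, hg⟩ := IsCyclic.exists_generator (α := R₀)
    refine ⟨g, le_antisymm (fun z hz => ?_) (Subgroup.zpowers_le.mpr g.2), ?_⟩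
    · obtain ⟨k, hk⟩ := Subgroup.mem_zpowers_iff.mp (hg ⟨z, hz⟩)
      exact Subgroup.mem_zpowers_iff.mpr ⟨k, congrArg Subtype.val hk⟩
    · rw [Subgroup.orderOf_coe, orderOf_eq_card_of_forall_mem_zpowers hg]
  have hdvd : Nat.card R₀ ∣ H.index := by
    rw [hR.symm.index_eq_card]; exact Subgroup.card_dvd_of_le hR₀
  have hrH : ¬ orderOf y ∣ Nat.card H := by
    rw [hy.2]
    exact fun h => hR₀p.not_dvd_one (hHall ▸ Nat.dvd_gcd h hdvd)
  have hle : ⁅H, R⁆ ≤ H := Subgroup.commutator_le_left H R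
  haveI hn : ⁅H, R⁆.Normal := by
    refine Subgroup.normalizer_eq_top_iff.mp (top_le_iff.mp ?_)
    rw [← hR.sup_eq_top]
    exact sup_le (Subgroup.normalizer_commutator_ge_left H R) (Subgroup.normalizer_commutator_ge_right H R)
  refine Cfsg.Agent.Lib.OddLocal.pLengthLE_one_of_fixed_zgroup hodd ⁅H, R⁆ ?_ (hy.2.symm ▸ hR₀p) y rfl
    (fun h => hrH (h.trans (Subgroup.card_dvd_of_le hle))) ?_
  · rw [commutator_def]; exact Subgroup.commutator_mono le_top le_top
  · haveI := hZ
    have hsub : ⁅H, R⁆ ⊓ Subgroup.centralizer ({y} : Set G) ≤ H ⊓ Subgroup.centralizer (R₀ : Set G) := by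
      refine inf_le_inf hle ?_
      rw [hy.1, Subgroup.zpowers_eq_closure, Subgroup.centralizer_closure]
    exact IsZGroup.of_injective (f := Subgroup.inclusion hsub) (Subgroup.inclusion_injective hsub)
end Cfsg.Agent.S1444
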