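import Cfsg.Statements.S1446
import Cfsg.Agent.Lib.OddLocal.FrobeniusOperators
import Cfsg.Agent.Lib.PLocal.PGroupBasic

set_option autoImplicit false
open Cfsg
open scoped commutatorElement

namespace Cfsg.Agent.S1446

open Cfsg.Agent.Lib Cfsg.Agent.Lib.OddLocal

/-- Two commuting automorphisms of prime order, all whose products have the same fixed points. -/
theorem fixed_of_commuting {U : Type*} [CommGroup U] [Finite U] {r : ℕ} (hr : r.Prime)
    (hrU : r.Coprime (Nat.card U)) (Z B : MulAut U) (hZ : Z ^ r = 1) (hB : B ^ r = 1) (hc : Commute Z B)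
    (hfix1 : ∀ (i : ℕ) (v : U), (Z * B ^ i) v = v → Z v = v)
    (hfix2 : ∀ t : ℕ, ¬ r ∣ t → ∀ v : U, (B ^ t) v = v → Z v = v) : ∀ v, Z v = v := by
  intro v
  have hnorm : ∀ f : MulAut U, f ^ r = 1 → ∀ w, f (∏ t ∈ Finset.range r, (f ^ t) w) =
      ∏ t ∈ Finset.range r, (f ^ t) w := by
    intro f hf w
    rw [map_prod]
    have h1 := Finset.prod_range_succ (fun t => (f ^ t) w) r
    rw [Finset.prod_range_succ', hf, pow_zero] at h1
    simp only [← MulAut.mul_apply, ← pow_succ']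
    exact mul_right_cancel h1
  have hmem : ∀ i, (∏ t ∈ Finset.range r, ((Z * B ^ i) ^ t) v) ∈ fixPts Z := fun i =>
    hfix1 i _ (hnorm _ (by
      rw [(hc.pow_right i).mul_pow, hZ, ← pow_mul, mul_comm, pow_mul, hB, one_pow, mul_one]) v)
  have h1 : ∏ i ∈ Finset.range r, ∏ t ∈ Finset.range r, ((Z * B ^ i) ^ t) v ∈ fixPts Z :=
    Subgroup.prod_mem _ fun i _ => hmem i
  rw [Finset.prod_comm, ← Finset.mul_prod_erase _ _ (Finset.mem_range.mpr hr.pos)] at h1
  simp only [pow_zero, MulAut.one_apply, Finset.prod_const, Finset.card_range] at h1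
  have h2 : ∏ t ∈ (Finset.range r).erase 0, ∏ i ∈ Finset.range r, ((Z * B ^ i) ^ t) v ∈ fixPts Z := by
    refine Subgroup.prod_mem _ fun t ht => ?_
    obtain ⟨ht0, htr⟩ := Finset.mem_erase.mp ht
    have htd : ¬ r ∣ t := fun hd => by
      have := Nat.le_of_dvd (Nat.pos_of_ne_zero ht0) hd
      have := Finset.mem_range.mp htr
      omega
    have h3 : ∀ i, ((Z * B ^ i) ^ t) v = (Z ^ t) (((B ^ t) ^ i) v) := fun i => by
      rw [← MulAut.mul_apply, (hc.pow_right i).mul_pow, ← pow_mul, ← pow_mul, mul_comm i t]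
    simp only [h3, ← map_prod]
    set w := ∏ i ∈ Finset.range r, ((B ^ t) ^ i) v with hw
    have hwZ : Z w = w := hfix2 t htd w (hnorm _ (by rw [← pow_mul, mul_comm, pow_mul, hB, one_pow]) v)
    have hle : Subgroup.zpowers Z ≤ MulAction.stabilizer (MulAut U) w := Subgroup.zpowers_le.mpr hwZ
    have hw2 : (Z ^ t) w = w := hle (pow_mem (Subgroup.mem_zpowers Z) t)
    rw [hw2]
    exact hwZ
  have h4 : v ^ r ∈ fixPts Z := by
    have := (fixPts Z).mul_mem h1 ((fixPts Z).inv_mem h2)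
    rwa [mul_inv_cancel_right] at this
  by_cases hv : v ∈ fixPts Z
  · exact hv
  exfalso
  apply hv
  obtain ⟨e, he⟩ := exists_pow_eq_self_of_coprime
    (hrU.coprime_dvd_right (orderOf_dvd_natCard v))
  rw [← he]
  exact pow_mem h4 e

/-- An automorphism without fixed points on a group has none on its image. -/
theorem eq_one_of_fixed_quot {Γ H : Type*} [Group Γ] [Finite Γ] [Group H] (φ : Γ →* H)
    (K : Subgroup Γ) (Y : Γ) (hY : Y ∈ Subgroup.normalizer (K : Set Γ))
    (hfpf : ∀ w ∈ K, Y * w * Y⁻¹ = w → w = 1) (k : Γ) (hk : k ∈ K)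
    (hk' : φ (Y * k * Y⁻¹) = φ k) : φ k = 1 := by
  set L := K ⊓ φ.ker with hL
  have hconj : ∀ w ∈ K, Y * w * Y⁻¹ ∈ K := fun w hw => (Subgroup.mem_normalizer_iff.mp hY w).mp hw
  have hinj : ∀ a ∈ K, ∀ b ∈ K, a⁻¹ * (Y * a * Y⁻¹) = b⁻¹ * (Y * b * Y⁻¹) → a = b := by
    intro a ha b hb hab
    have h2 : Y * (b * a⁻¹) * Y⁻¹ = b * a⁻¹ := by
      have h3 : Y * a * Y⁻¹ = a * (b⁻¹ * (Y * b * Y⁻¹)) := by rw [← hab]; group
      calc Y * (b * a⁻¹) * Y⁻¹ = (Y * b * Y⁻¹) * (Y * a * Y⁻¹)⁻¹ := by group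
        _ = _ := by rw [h3]; group
    exact (mul_inv_eq_one.mp (hfpf _ (mul_mem hb (inv_mem ha)) h2)).symm
  have hmem : ∀ l : L, (l : Γ)⁻¹ * (Y * l * Y⁻¹) ∈ L := fun l =>
    ⟨K.mul_mem (K.inv_mem l.2.1) (hconj _ l.2.1),
      φ.ker.mul_mem (φ.ker.inv_mem l.2.2) ((inferInstance : φ.ker.Normal).conj_mem _ l.2.2 Y)⟩
  let δ : L → L := fun l => ⟨_, hmem l⟩
  have hbij : Function.Bijective δ := Finite.injective_iff_bijective.mp fun a b hab =>
    Subtype.ext (hinj _ a.2.1 _ b.2.1 (congrArg Subtype.val hab))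
  obtain ⟨l, hl⟩ := hbij.2 ⟨k⁻¹ * (Y * k * Y⁻¹), Subgroup.mem_inf.mpr
    ⟨K.mul_mem (K.inv_mem hk) (hconj _ hk), by
      rw [MonoidHom.mem_ker, map_mul, map_inv, hk', inv_mul_cancel]⟩⟩
  exact hinj _ l.2.1 _ hk (congrArg Subtype.val hl) ▸ l.2.2

/-- Let X be a finite group with subgroups K, R, M such that: K and R are nontrivial, K ∩ R = 1, R normalizes K, no non-identity element of R centralizes a non-identity element of K, K ⊔ R is solvable of odd order; M is nilpotent and nontrivial, normalized by K and by R, with order coprime to that of K ⊔ R, M ∩ C(K) = 1, and M ∩ C(x) = M ∩ C(R) for all non-identity x ∈ R. Then R has prime order p, #M = #(M ∩ C(R)) ^ p, and if M ∩ C(R) is cyclic then [K, K] centralizes M. -/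
theorem result {X : Type*} [Group X] [Finite X] (K R M : Subgroup X) (hK1 : K ≠ ⊥) (hR1 : R ≠ ⊥) (hKR : K ⊓ R = ⊥)
    (hRK : R ≤ Subgroup.normalizer (K : Set X)) (hfrob : ∀ r ∈ R, r ≠ 1 → K ⊓ Subgroup.centralizer ({r} : Set X) = ⊥)
    (hsolv : Group.IsSolvable ↥(K ⊔ R)) (hodd : Odd (Nat.card ↥(K ⊔ R)))
    (hM1 : M ≠ ⊥) (hMn : Group.IsNilpotent M) (hKM : K ≤ Subgroup.normalizer (M : Set X)) (hRM : R ≤ Subgroup.normalizer (M : Set X))
    (hcop : (Nat.card ↥(K ⊔ R)).Coprime (Nat.card M)) (hCK : M ⊓ Subgroup.centralizer (K : Set X) = ⊥)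
    (hpr : ∀ x ∈ R, x ≠ 1 → M ⊓ Subgroup.centralizer ({x} : Set X) = M ⊓ Subgroup.centralizer (R : Set X)) :
    (Nat.card R).Prime ∧ Nat.card M = Nat.card ↥(M ⊓ Subgroup.centralizer (R : Set X)) ^ Nat.card R ∧
      (IsCyclic ↥(M ⊓ Subgroup.centralizer (R : Set X)) → ⁅K, K⁆ ≤ Subgroup.centralizer (M : Set X)) := by
  set Γ := K ⊔ R with hΓ
  set φ : Γ →* MulAut M := M.normalizerMonoidHom.comp (Subgroup.inclusion (sup_le hKM hRM)) with hφ
  have hcoe : ∀ (g : Γ) (m : M), ((φ g m : M) : X) = g * m * (g : X)⁻¹ := fun g m => rfl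
  set K' := K.subgroupOf Γ with hK'
  have hKc : ∀ y ∈ R, y ≠ 1 → ∀ k ∈ K, y * k * y⁻¹ = k → k = 1 := fun y hy hy1 k hk hyk =>
    Subgroup.mem_bot.mp (hfrob y hy hy1 ▸ (⟨hk, Subgroup.mem_centralizer_singleton_iff.mpr
      (mul_inv_eq_iff_eq_mul.mp hyk).symm⟩ : k ∈ K ⊓ Subgroup.centralizer ({y} : Set X)))
  have hfix : ∀ y ∈ R, y ≠ 1 → ∀ m : M, y * m * y⁻¹ = (m : X) →
      (m : X) ∈ M ⊓ Subgroup.centralizer (R : Set X) := fun y hy hy1 m hm =>
    hpr y hy hy1 ▸ ⟨m.2, Subgroup.mem_centralizer_singleton_iff.mpr (mul_inv_eq_iff_eq_mul.mp hm).symm⟩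
  have hfix' : ∀ y ∈ R, ∀ m : M, (m : X) ∈ M ⊓ Subgroup.centralizer (R : Set X) →
      y * m * y⁻¹ = (m : X) := fun y hy m hm => by
    rw [Subgroup.mem_centralizer_iff.mp hm.2 y hy, mul_inv_cancel_right]
  -- coprimality of `K` and the elements of `R`
  have hcopR : ∀ r : ℕ, r.Prime → r ∣ Nat.card R → ¬ r ∣ Nat.card K := by
    intro r hr hrR hrK
    haveI := Fact.mk hr
    obtain ⟨y, hy⟩ := exists_prime_orderOf_dvd_card' (G := R) r hrR
    let act : MulAction (Subgroup.zpowers y) K :=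
      { smul := fun g k => ⟨((g : R) : X) * k * ((g : R) : X)⁻¹,
          (Subgroup.mem_normalizer_iff.mp (hRK (g : R).2) _).mp k.2⟩
        one_smul := fun k => Subtype.ext (by
          show ((1 : R) : X) * k * ((1 : R) : X)⁻¹ = k
          simp)
        mul_smul := fun g g' k => Subtype.ext (by
          show (((g : R) * (g' : R) : R) : X) * k * (((g : R) * (g' : R) : R) : X)⁻¹ = _
          rw [Subgroup.coe_mul, mul_inv_rev]
          show _ = ((g : R) : X) * (((g' : R) : X) * k * ((g' : R) : X)⁻¹) * ((g : R) : X)⁻¹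
          group) }
    have hp : IsPGroup r (Subgroup.zpowers y) :=
      IsPGroup.of_card (n := 1) (by rw [Nat.card_zpowers, hy, pow_one])
    obtain ⟨k, hk, hk1⟩ := hp.exists_fixed_point_of_prime_dvd_card_of_fixed_point K hrK
      (a := 1) (fun g => Subtype.ext (by
        show ((g : R) : X) * ((1 : K) : X) * ((g : R) : X)⁻¹ = ((1 : K) : X)
        simp))
    refine hk1 (Subtype.ext (hKc y y.2 (fun h1 => ?_) k k.2
      (congrArg Subtype.val (hk ⟨y, Subgroup.mem_zpowers y⟩))).symm)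
    rw [← Subgroup.orderOf_coe, h1, orderOf_one] at hy
    exact hr.ne_one hy.symm
  -- the general hypothesis
  have hops : ∀ (x : X) (hx : x ∈ R), x ≠ 1 →
      FrobOps φ K' ⟨x, Subgroup.mem_sup_right hx⟩ (orderOf x) := by
    intro x hx hx1
    refine ⟨?_, Subtype.ext (pow_orderOf_eq_one x), orderOf_pos x, ?_, fun j hj k hk hk' => ?_,
      fun m hm => ?_⟩
    · rw [Subgroup.mem_normalizer_iff]
      intro y
      exact Subgroup.mem_normalizer_iff.mp (hRK hx) _
    · rw [hK', Nat.card_congr (Subgroup.subgroupOfEquivOfLe (le_sup_left : K ≤ Γ)).toEquiv]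
      refine Nat.coprime_of_dvd fun r hr h1 h2 => hcopR r hr ?_ h1
      exact h2.trans (Subgroup.orderOf_coe (⟨x, hx⟩ : R) ▸ orderOf_dvd_natCard _)
    · set y := x ^ j with hy
      have hy1 : y ≠ 1 := fun h => hj (orderOf_dvd_of_pow_eq_one h)
      have hyR : y ∈ R := pow_mem hx j
      set Y : Γ := ⟨x, Subgroup.mem_sup_right hx⟩ ^ j with hY
      have hYx : (Y : X) = y := by rw [hY, SubgroupClass.coe_pow]
      have hYK : Y ∈ Subgroup.normalizer (K' : Set Γ) := by
        rw [Subgroup.mem_normalizer_iff]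
        intro w
        rw [hK', Subgroup.mem_subgroupOf, Subgroup.mem_subgroupOf, Subgroup.coe_mul, Subgroup.coe_mul,
          InvMemClass.coe_inv, hYx]
        exact Subgroup.mem_normalizer_iff.mp (hRK hyR) _
      refine eq_one_of_fixed_quot φ K' Y hYK (fun w hw hwY => ?_) k hk hk'
      apply Subtype.ext
      refine hKc y hyR hy1 w hw ?_
      have h2 := congrArg Subtype.val hwY
      rwa [Subgroup.coe_mul, Subgroup.coe_mul, InvMemClass.coe_inv, hYx] at h2
    · have h1 : (m : X) ∈ M ⊓ Subgroup.centralizer (K : Set X) :=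
        ⟨m.2, Subgroup.mem_centralizer_iff.mpr fun k hk => by
          have h2 := congrArg Subtype.val (hm ⟨k, Subgroup.mem_sup_left hk⟩ hk)
          exact mul_inv_eq_iff_eq_mul.mp h2⟩
      rw [hCK, Subgroup.mem_bot] at h1
      exact Subtype.ext h1
  have hfeq : ∀ (x : X) (hx : x ∈ R), x ≠ 1 →
      fixPts (φ ⟨x, Subgroup.mem_sup_right hx⟩) = (M ⊓ Subgroup.centralizer (R : Set X)).subgroupOf M := by
    intro x hx hx1
    ext m
    rw [mem_fixPts, Subgroup.mem_subgroupOf]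
    exact ⟨fun h => hfix x hx hx1 m (congrArg Subtype.val h), fun h => Subtype.ext (hfix' x hx m h)⟩
  set c := Nat.card ↥(M ⊓ Subgroup.centralizer (R : Set X)) with hc
  have hmain : ∀ (x : X) (hx : x ∈ R), x ≠ 1 → Nat.card M = c ^ orderOf x ∧
      ((orderOf x).Prime → IsCyclic ↥(M ⊓ Subgroup.centralizer (R : Set X)) →
        ∀ k ∈ K', ∀ l ∈ K', Commute (φ k) (φ l)) := by
    intro x hx hx1
    obtain ⟨h1, h2⟩ := frobOps_main (Nat.card M) le_rfl hMn hcop (hops x hx hx1)
    rw [hfeq x hx hx1, Nat.card_congr (Subgroup.subgroupOfEquivOfLe inf_le_left).toEquiv] at h1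
    refine ⟨h1, fun hp hcyc => h2 hp ?_⟩
    haveI := hcyc
    rw [hfeq x hx hx1]
    exact isCyclic_of_surjective _
      (Subgroup.subgroupOfEquivOfLe (inf_le_left : M ⊓ Subgroup.centralizer (R : Set X) ≤ M)).symm.surjective
  haveI : Nontrivial M := (Subgroup.nontrivial_iff_ne_bot M).mpr hM1
  obtain ⟨x₀, hx₀, hx₀1⟩ : ∃ x ∈ R, x ≠ 1 := by
    by_contra! h
    exact hR1 (eq_bot_iff.mpr fun x hx => Subgroup.mem_bot.mpr (h x hx))
  have hc1 : 1 < c := by
    by_contra h
    have h1 : c = 1 := by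
      have : 0 < c := Nat.card_pos
      omega
    have h2 := (hmain x₀ hx₀ hx₀1).1
    rw [h1, one_pow] at h2
    exact (Finite.one_lt_card (α := M)).ne' h2
  have hsame : ∀ (x : X), x ∈ R → x ≠ 1 → orderOf x = orderOf x₀ := fun x hx hx1 =>
    Nat.pow_right_injective hc1 ((hmain x hx hx1).1.symm.trans (hmain x₀ hx₀ hx₀1).1)
  set r := orderOf x₀ with hr_def
  have hr : r.Prime := by
    obtain ⟨q, hq, hqd⟩ := Nat.exists_prime_and_dvd (mt orderOf_eq_one_iff.mp hx₀1)
    have ho : orderOf (x₀ ^ (r / q)) = q := orderOf_pow_orderOf_div (orderOf_pos x₀).ne' hqd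
    have h1 := hsame _ (pow_mem hx₀ (r / q)) (fun h => hq.ne_one (by rw [← ho, h, orderOf_one]))
    rw [ho] at h1
    exact h1 ▸ hq
  haveI := Fact.mk hr
  have hexpR : ∀ x : R, x ^ r = 1 := by
    intro x
    by_cases hx : (x : X) = 1
    · rw [show x = 1 from Subtype.ext hx, one_pow]
    · rw [← hsame x x.2 hx, Subgroup.orderOf_coe, pow_orderOf_eq_one]
  have hRp : IsPGroup r R := fun x => ⟨1, by rw [pow_one]; exact hexpR x⟩
  have hcard : Nat.card R = r := by
    by_contra hne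
    haveI : Nontrivial R := (Subgroup.nontrivial_iff_ne_bot R).mpr hR1
    obtain ⟨z, -, hzo, hzc⟩ := PLocal.exists_central_prime_mem hRp (top_ne_bot : (⊤ : Subgroup R) ≠ ⊥)
    obtain ⟨b, hb⟩ : ∃ b : R, b ∉ Subgroup.zpowers z := by
      by_contra! h
      apply hne
      rw [← hzo, ← Nat.card_zpowers, ← Subgroup.card_top (G := R), show Subgroup.zpowers z = ⊤ from
        eq_top_iff.mpr fun w _ => h w]
    -- the centre of `M`
    set U := Subgroup.center M with hU
    have hinv : ∀ (g : Γ), ∀ m ∈ U, φ g m ∈ U := by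
      intro g m hm
      rw [Subgroup.mem_center_iff]
      intro w
      obtain ⟨w, rfl⟩ := (φ g).surjective w
      rw [← map_mul, ← map_mul, Subgroup.mem_center_iff.mp hm w]
    letI : CommGroup U := { (inferInstance : Group U) with
      mul_comm := fun a a' => Subtype.ext (Subgroup.mem_center_iff.mp a'.2 a) }
    let ψ : R →* MulAut U := (subAct φ U).comp
      ((Subgroup.inclusion (le_sup_right : R ≤ Γ)).codRestrict (opStab φ U)
        fun g => mem_opStab φ U (hinv _))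
    have hψ : ∀ (g : R) (v : U), ((ψ g v : U) : M) = φ (Subgroup.inclusion (le_sup_right : R ≤ Γ) g) v :=
      fun g v => rfl
    have hfz : ∀ g : R, g ≠ 1 → ∀ v, ψ g v = v → ψ z v = v := by
      intro g hg v hv
      have h1 := congrArg (fun w : U => ((w : M) : X)) hv
      have h2 := hfix g g.2 (fun e => hg (Subtype.ext e)) (v : M) h1
      exact Subtype.ext (Subtype.ext (hfix' z z.2 (v : M) h2))
    have hz1 : z ≠ 1 := fun h => by rw [h, orderOf_one] at hzo; exact hr.ne_one hzo.symm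
    have hall := fixed_of_commuting (U := U) hr
      ((hcop.coprime_dvd_left ((hsame x₀ hx₀ hx₀1 ▸ Subgroup.orderOf_coe (⟨x₀, hx₀⟩ : R) ▸
        orderOf_dvd_natCard (⟨x₀, hx₀⟩ : R) : r ∣ Nat.card R).trans
          (Subgroup.card_dvd_of_le le_sup_right))).coprime_dvd_right (Subgroup.card_subgroup_dvd_card U))
      (ψ z) (ψ b) (by rw [← map_pow, hexpR, map_one]) (by rw [← map_pow, hexpR, map_one])
      ((show Commute z b from (Subgroup.mem_center_iff.mp hzc b).symm).map ψ)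
      (fun i v hv => hfz (z * b ^ i) (fun h => by
        by_cases hri : r ∣ i
        · obtain ⟨e, rfl⟩ := hri
          rw [pow_mul, hexpR, one_pow, mul_one] at h
          exact hz1 h
        · obtain ⟨e, he⟩ := pow_mem_of_not_dvd hr (hexpR b) hri
          refine hb (he ▸ pow_mem ?_ e)
          rw [show b ^ i = z⁻¹ from (eq_inv_of_mul_eq_one_right h)]
          exact inv_mem (Subgroup.mem_zpowers z)) v (by rw [map_mul, map_pow]; exact hv))
      (fun t ht v hv => hfz (b ^ t) (fun h => ht (by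
        have hb1 : b ≠ 1 := fun e => hb (e ▸ one_mem _)
        rw [← orderOf_eq_prime (hexpR b) hb1]
        exact orderOf_dvd_of_pow_eq_one h)) v (by rw [map_pow]; exact hv))
    have hz' : (z : X) ≠ 1 := fun e => hz1 (Subtype.ext e)
    have h1 := (frobOps_main (Nat.card U) le_rfl inferInstance
      ((hcop.coprime_dvd_left (Subgroup.card_subgroup_dvd_card _)).coprime_dvd_right
        (Subgroup.card_subgroup_dvd_card U))
      ((hops z z.2 hz').sub (N := U) (fun k _ => hinv k) (hinv _))).1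
    have htop : fixPts (subAct φ U ⟨⟨(z : X), Subgroup.mem_sup_right z.2⟩, mem_opStab φ U (hinv _)⟩) = ⊤ :=
      eq_top_iff.mpr fun v _ => hall v
    rw [htop, Subgroup.card_top, hsame z z.2 hz'] at h1
    have h2 : Nat.card U = 1 := by
      by_contra h2
      have h3 : 1 < Nat.card U := by
        have : 0 < Nat.card U := Nat.card_pos
        omega
      have h4 : Nat.card U ^ 1 = Nat.card U ^ r := by rw [pow_one]; exact h1
      exact hr.ne_one (Nat.pow_right_injective h3 h4).symm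
    exact Group.IsNilpotent.center_ne_bot M (Subgroup.card_eq_one.mp h2)
  refine ⟨hcard ▸ hr, hcard ▸ (hmain x₀ hx₀ hx₀1).1, fun hcyc => ?_⟩
  refine Subgroup.commutator_le.mpr fun k hk l hl => Subgroup.mem_centralizer_iff.mpr fun m hm => ?_
  have h1 := (hmain x₀ hx₀ hx₀1).2 hr hcyc ⟨k, Subgroup.mem_sup_left hk⟩ hk ⟨l, Subgroup.mem_sup_left hl⟩ hl
  have h2 : φ ⁅(⟨k, Subgroup.mem_sup_left hk⟩ : Γ), ⟨l, Subgroup.mem_sup_left hl⟩⁆ = 1 := by
    rw [map_commutatorElement, commutatorElement_eq_one_iff_commute]; exact h1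
  have h3 := congrArg (fun f : MulAut M => ((f ⟨m, hm⟩ : M) : X)) h2
  change ⁅k, l⁆ * m * ⁅k, l⁆⁻¹ = m at h3
  exact (mul_inv_eq_iff_eq_mul.mp h3).symm

end Cfsg.Agent.S1446
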