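import Cfsg.Statements.S1447
import Cfsg.Agent.Lib.OddLocal.GoodGroups
import Cfsg.Agent.Lib.OddLocal.CriticalAction
import Cfsg.Agent.S0638

set_option autoImplicit false
open Cfsg
open scoped commutatorElement

namespace Cfsg.Agent.S1447

open Cfsg.Agent.Lib

theorem metacyclic_of_injective {R S : Type*} [Group R] [Group S] (f : S →* R)
    (hf : Function.Injective f) (h : Cfsg.IsMetacyclic R) : Cfsg.IsMetacyclic S := by
  obtain ⟨N, hN, hNc, hQc⟩ := h
  haveI := hN
  haveI := hNc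
  haveI := hQc
  refine ⟨N.comap f, inferInstance, ?_, ?_⟩
  · exact isCyclic_of_injective ((f.comp (N.comap f).subtype).codRestrict N fun x => x.2)
      fun a b hab => Subtype.ext (hf (congrArg Subtype.val hab))
  · refine isCyclic_of_injective (QuotientGroup.map (N.comap f) N f le_rfl) ?_
    rw [← MonoidHom.ker_eq_bot_iff, QuotientGroup.ker_map, QuotientGroup.map_mk'_self]

theorem good_of_metacyclic {S : Type*} [Group S] [Finite S] {p : ℕ} [Fact p.Prime]
    (h : Cfsg.IsMetacyclic S) (M : Subgroup S) [M.Normal] (hM : ∀ x : S, x ^ p ∈ M) :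
    M.index ≤ p ^ 2 := by
  obtain ⟨N, hN, hNc, hQc⟩ := h
  haveI := hN
  haveI := hNc
  haveI := hQc
  have hsmall : ∀ {K : Type _} [Group K] [Finite K], IsCyclic K → (∀ k : K, k ^ p = 1) →
      Nat.card K ≤ p := by
    intro K _ _ hK hexpK
    obtain ⟨g, hg⟩ := hK.exists_generator
    rw [← orderOf_eq_card_of_forall_mem_zpowers hg]
    exact Nat.le_of_dvd (Fact.out (p := p.Prime)).pos (orderOf_dvd_of_pow_eq_one (hexpK g))
  set π := QuotientGroup.mk' M with hπ
  have hπp : ∀ x, π x ^ p = 1 := fun x => by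
    rw [← map_pow, hπ, QuotientGroup.mk'_apply, QuotientGroup.eq_one_iff]; exact hM x
  have h1 : Nat.card (N.map π) ≤ p := by
    refine hsmall (isCyclic_of_surjective _ (MonoidHom.subgroupMap_surjective π N)) ?_
    rintro ⟨_, x, -, rfl⟩
    exact Subtype.ext (hπp x)
  haveI : (N.map π).Normal := hN.map π (QuotientGroup.mk'_surjective M)
  have h2 : (N.map π).index ≤ p := by
    refine hsmall (K := (S ⧸ M) ⧸ N.map π) (isCyclic_of_surjective
      (QuotientGroup.map N (N.map π) π (Subgroup.le_comap_map _ _)) ?_) ?_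
    · intro q
      induction q using QuotientGroup.induction_on with
      | _ y =>
        obtain ⟨x, rfl⟩ := QuotientGroup.mk'_surjective M y
        exact ⟨x, rfl⟩
    · intro q
      induction q using QuotientGroup.induction_on with
      | _ y =>
        obtain ⟨x, rfl⟩ := QuotientGroup.mk'_surjective M y
        rw [← QuotientGroup.mk_pow, ← hπ, hπp x]; rfl
  rw [Subgroup.index_eq_card, ← Subgroup.card_mul_index (N.map π), sq]
  exact Nat.mul_le_mul h1 h2

/-- Let G be a finite group, p an odd prime, R a metacyclic p-subgroup and A a subgroup of order coprime to p normalizing R. Then [R, A] is abelian; R is generated by [R, A] and R ∩ C_G(A), which meet trivially; and if R is non-abelian and A does not centralize R, then [R, A] and R ∩ C_G(A) are nontrivial cyclic groups and [R, R] ≤ [R, A]. -/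
theorem result {G : Type*} [Group G] [Finite G] (p : ℕ) [Fact p.Prime] (hp : p ≠ 2) (R A : Subgroup G) (hR : IsPGroup p R) (hRm : Cfsg.IsMetacyclic R)
    (hA : (A ≤ Subgroup.normalizer (R : Set G))) (hcop : (Nat.card A).Coprime p) :
    IsMulCommutative ↥⁅R, A⁆ ∧ ⁅R, A⁆ ⊔ (R ⊓ Subgroup.centralizer (A : Set G)) = R ∧ ⁅R, A⁆ ⊓ (R ⊓ Subgroup.centralizer (A : Set G)) = ⊥ ∧
      (¬ IsMulCommutative R → ¬ A ≤ Subgroup.centralizer (R : Set G) →
        ⁅R, A⁆ ≠ ⊥ ∧ IsCyclic ↥⁅R, A⁆ ∧ (R ⊓ Subgroup.centralizer (A : Set G)) ≠ ⊥ ∧ IsCyclic ↥(R ⊓ Subgroup.centralizer (A : Set G)) ∧ ⁅R, R⁆ ≤ ⁅R, A⁆) := by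
  set T := ⁅R, A⁆ with hT
  set C := R ⊓ Subgroup.centralizer (A : Set G) with hC
  haveI := hR.isNilpotent
  have hsol : Group.IsSolvable A ∨ Group.IsSolvable R := Or.inr inferInstance
  have hcopR : (Nat.card A).Coprime (Nat.card R) := by
    obtain ⟨k, hk⟩ := IsPGroup.iff_card.mp hR
    exact hk ▸ hcop.pow_right k
  have hTR : T ≤ R := Coprime.commutator_le_of_le_normalizer hA
  have hAT : A ≤ Subgroup.normalizer (T : Set G) := Subgroup.normalizer_commutator_ge_right R A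
  have hTA : ⁅T, A⁆ = T := Coprime.commutator_commutator_eq hA hcopR hsol
  have hsub : ∀ S : Subgroup G, S ≤ R → Cfsg.IsMetacyclic S := fun S hS =>
    metacyclic_of_injective (Subgroup.inclusion hS) (Subgroup.inclusion_injective hS) hRm
  have hTc : IsMulCommutative T := OddLocal.commute_of_good_subgroup hp (hR.to_le hTR) hAT hcop hTA
    fun N hN hNp => by haveI := hN; exact good_of_metacyclic (hsub T hTR) N hNp
  have hsup : T ⊔ C = R := Coprime.commutator_sup_centralizer_eq hA hcopR hsol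
  have hinf : T ⊓ C = ⊥ := by
    have h1 := OddLocal.inf_centralizer_commutator_eq_bot (V := T) (Q := A)
      (fun u hu v hv => congrArg Subtype.val (hTc.is_comm.comm ⟨u, hu⟩ ⟨v, hv⟩)) hAT
      (hcopR.coprime_dvd_right (Subgroup.card_dvd_of_le hTR))
    rw [hTA] at h1
    exact eq_bot_iff.mpr (le_trans (inf_le_inf_left T inf_le_right) h1.le)
  refine ⟨hTc, hsup, hinf, fun hnab hnc => ?_⟩
  have hT1 : T ≠ ⊥ := fun h => hnc (Subgroup.le_centralizer_iff.mp
    (Subgroup.commutator_eq_bot_iff_le_centralizer.mp h))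
  have hC1 : C ≠ ⊥ := fun h => by
    rw [h, sup_bot_eq] at hsup
    exact hnab (hsup ▸ hTc)
  have hRnc : ¬ IsCyclic R := fun h => hnab (by
    obtain ⟨g, hg⟩ := h.exists_generator
    refine ⟨⟨fun a b => ?_⟩⟩
    obtain ⟨j, rfl⟩ := Subgroup.mem_zpowers_iff.mp (hg a)
    obtain ⟨l, rfl⟩ := Subgroup.mem_zpowers_iff.mp (hg b)
    rw [← zpow_add, ← zpow_add, add_comm])
  have hΩ := S0638.result hp hR hRm hRnc
  set Ω := (Cfsg.omegaOne p (⊤ : Subgroup R)).map R.subtype with hΩdef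
  have hΩc : Nat.card Ω = p ^ 2 := by
    rw [hΩdef, Subgroup.card_map_of_injective R.subtype_injective]; exact hΩ.2
  have hord : ∀ S : Subgroup G, S ≤ R → S ≠ ⊥ → ∃ x ∈ S, x ∈ Ω ∧ x ≠ 1 := by
    intro S hS hS1
    haveI : Nontrivial S := (Subgroup.nontrivial_iff_ne_bot S).mpr hS1
    obtain ⟨k, hk0, hk⟩ := (hR.to_le hS).nontrivial_iff_card.mp ‹_›
    obtain ⟨t, ht⟩ := exists_prime_orderOf_dvd_card' (G := S) p (hk ▸ dvd_pow_self p (by omega))
    have h1 : (t : G) ^ p = 1 := by rw [← ht, ← Subgroup.orderOf_coe, pow_orderOf_eq_one]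
    refine ⟨t, t.2, ⟨⟨t, hS t.2⟩, Subgroup.subset_closure ⟨trivial, Subtype.ext h1⟩, rfl⟩, fun h => ?_⟩
    rw [← Subgroup.orderOf_coe, h, orderOf_one] at ht
    exact (Fact.out (p := p.Prime)).ne_one ht.symm
  have hbig : ∀ S : Subgroup G, S ≤ R → ¬ IsCyclic S → Ω ≤ S := by
    intro S hS hSc
    have hS2 := S0638.result hp (hR.to_le hS) (hsub S hS) hSc
    have hle : (Cfsg.omegaOne p (⊤ : Subgroup S)).map S.subtype ≤ Ω := by
      rw [Subgroup.map_le_iff_le_comap]
      refine (Subgroup.closure_le _).mpr fun x hx => ?_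
      exact ⟨⟨x, hS x.2⟩, Subgroup.subset_closure ⟨trivial, Subtype.ext (by
        simpa using congrArg Subtype.val hx.2)⟩, rfl⟩
    have heq := Subgroup.eq_of_le_of_card_ge hle
      (by rw [hΩc, Subgroup.card_map_of_injective S.subtype_injective, hS2.2])
    rw [← heq]
    exact Subgroup.map_subtype_le _
  have hTcyc : IsCyclic T := by
    by_contra h
    obtain ⟨x, hx, hxΩ, hx1⟩ := hord C inf_le_left hC1
    exact hx1 (Subgroup.mem_bot.mp (hinf ▸ (⟨hbig T hTR h hxΩ, hx⟩ : x ∈ T ⊓ C)))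
  have hCcyc : IsCyclic C := by
    by_contra h
    obtain ⟨x, hx, hxΩ, hx1⟩ := hord T hTR hT1
    exact hx1 (Subgroup.mem_bot.mp (hinf ▸ (⟨hx, hbig C inf_le_left h hxΩ⟩ : x ∈ T ⊓ C)))
  refine ⟨hT1, hTcyc, hC1, hCcyc, Subgroup.commutator_le.mpr fun x hx y hy => ?_⟩
  have hCn : C ≤ Subgroup.normalizer (T : Set G) := inf_le_left.trans (Subgroup.normalizer_commutator_ge_left R A)
  rw [← hsup] at hx hy
  obtain ⟨t1, ht1, c1, hc1, rfl⟩ := Coprime.exists_mul_of_mem_sup hCn hx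
  obtain ⟨t2, ht2, c2, hc2, rfl⟩ := Coprime.exists_mul_of_mem_sup hCn hy
  have hcc : c1 * c2 = c2 * c1 := by
    obtain ⟨g, hg⟩ := hCcyc.exists_generator
    obtain ⟨j, hj⟩ := Subgroup.mem_zpowers_iff.mp (hg ⟨c1, hc1⟩)
    obtain ⟨l, hl⟩ := Subgroup.mem_zpowers_iff.mp (hg ⟨c2, hc2⟩)
    have := congrArg Subtype.val ((Commute.refl g).zpow_zpow j l).eq
    rwa [hj, hl] at this
  have hconj : ∀ c ∈ C, ∀ t ∈ T, c * t * c⁻¹ ∈ T := fun c hc t ht =>
    (Subgroup.mem_normalizer_iff.mp (hCn hc) t).mp ht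
  have e : ⁅t1 * c1, t2 * c2⁆ = t1 * (c1 * t2 * c1⁻¹) * (c2 * t1⁻¹ * c2⁻¹) * t2⁻¹ := by
    calc ⁅t1 * c1, t2 * c2⁆ = t1 * (c1 * t2 * c1⁻¹) * ((c1 * c2) * c1⁻¹ * t1⁻¹ * c2⁻¹) * t2⁻¹ := by
          simp only [commutatorElement_def]; group
      _ = _ := by rw [hcc]; group
  rw [e]
  exact mul_mem (mul_mem (mul_mem ht1 (hconj _ hc1 _ ht2)) (hconj _ hc2 _ (inv_mem ht1))) (inv_mem ht2)

end Cfsg.Agent.S1447
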