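import Cfsg.Statements.S1449
import Cfsg.Agent.Lib.OddLocal.RankTwoStructure

set_option autoImplicit false
open Cfsg

namespace Cfsg.Agent.S1449

/-- Let G be a finite group, p an odd prime, R a p-subgroup with no elementary abelian subgroup of order p ^ 3, and A a solvable subgroup of odd order normalizing R with A ∩ C_G(R) = 1. Then the derived subgroup [A, A] is a p-group. -/
theorem result {G : Type*} [Group G] [Finite G] (p : ℕ) [Fact p.Prime] (hp : p ≠ 2) (R A : Subgroup G) (hR : IsPGroup p R) (hr : Cfsg.PRankLE p 2 R)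
    (hA : (A ≤ Subgroup.normalizer (R : Set G))) (hAs : Group.IsSolvable A) (hAodd : Odd (Nat.card A)) (hfaith : A ⊓ Subgroup.centralizer (R : Set G) = ⊥) :
    IsPGroup p ↥⁅A, A⁆ := by
  have := hAs
  obtain ⟨ψ, hψ⟩ := Lib.OddLocal.exists_twoDim hp hR hr hA
  have h := (Lib.OddLocal.derived_isPGroup_of_twoDim hp hAodd ψ fun a ha hc => by
    rw [← Subgroup.orderOf_coe] at hc
    exact Subtype.ext (Subgroup.mem_bot.mp (hfaith ▸ ⟨a.2, hψ a ha hc⟩))).1
  have he : ⁅A, A⁆ = (commutator A).map A.subtype := by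
    rw [commutator_def, Subgroup.map_commutator, ← MonoidHom.range_eq_map, Subgroup.range_subtype]
  rw [he]
  exact h.map _

end Cfsg.Agent.S1449
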