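import Cfsg.Statements.S1450
import Cfsg.Agent.Lib.OddLocal.RankTwoStructure

set_option autoImplicit false
open Cfsg

namespace Cfsg.Agent.S1450

/-- Let G be a solvable group of odd order, p a prime dividing its order with G having no elementary abelian subgroup of order p ^ 3. Then every prime dividing the index of O_{p'}(G) is at most p; if p = 3 or p is the smallest prime divisor of #G then G has a normal p-complement; the derived subgroup G' has a normal p-complement; every subgroup of G' of order coprime to p lies in O_{p'}(G'); and G/O_{p',p}(G) is abelian of order coprime to p. -/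
theorem result {G : Type*} [Group G] [Finite G] [Group.IsSolvable G] (hodd : Odd (Nat.card G)) (p : ℕ) [Fact p.Prime] (hpG : p ∣ Nat.card G) (hr : Cfsg.PRankLE p 2 G) :
    (∀ q : ℕ, q.Prime → q ∣ (Cfsg.pPrimeCore p G).index → q ≤ p) ∧
      ((p = 3 ∨ ∀ q : ℕ, q.Prime → q ∣ Nat.card G → p ≤ q) → Cfsg.HasNormalPComplement p G) ∧
      Cfsg.HasNormalPComplement p ↥(commutator G) ∧
      (∀ L : Subgroup ↥(commutator G), (Nat.card L).Coprime p → L ≤ Cfsg.pPrimeCore p ↥(commutator G)) ∧
      commutator G ≤ Cfsg.pPrimePCore p G ∧ ((Cfsg.pPrimePCore p G).index).Coprime p := by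
  have hp2 : p ≠ 2 := fun h => by
    have := hodd.of_dvd_nat hpG
    rw [h] at this
    exact absurd this (by decide)
  set N := Cfsg.pPrimeCore p G with hNdef
  have hN : (Nat.card N).Coprime p := Lib.Cores.pPrimeCore_coprime p G
  obtain ⟨hc, hcop, hle⟩ := Lib.OddLocal.commutator_le_pCore_of_rank_two (X := G ⧸ N) hp2
    (hodd.of_dvd_nat (Subgroup.card_quotient_dvd_card N)) (Lib.Cores.pPrimeCore_quotient_pPrimeCore p G)
    (Lib.OddLocal.pRankLE_quotient N hN hr)
  have hmap : ∀ g ∈ commutator G, QuotientGroup.mk' N g ∈ Cfsg.pCore p (G ⧸ N) := by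
    intro g hg
    refine hc ?_
    have h : (commutator G).map (QuotientGroup.mk' N) ≤ commutator (G ⧸ N) := by
      rw [commutator_def, commutator_def, Subgroup.map_commutator]
      exact Subgroup.commutator_mono le_top le_top
    exact h ⟨g, hg, rfl⟩
  set M := commutator G with hM
  set f := (QuotientGroup.mk' N).comp M.subtype with hf
  have hK : (Nat.card f.ker).Coprime p := by
    refine hN.coprime_dvd_left ?_
    rw [← Subgroup.card_map_of_injective (f := M.subtype) M.subtype_injective]
    refine Subgroup.card_dvd_of_le ?_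
    rintro _ ⟨x, hx, rfl⟩
    exact (QuotientGroup.eq_one_iff _).mp (MonoidHom.mem_ker.mp hx)
  refine ⟨fun q hq hd => (hle q hq (by rwa [← Subgroup.index_eq_card])).1, fun h => ?_, ?_, ?_, hmap, ?_⟩
  · have hX : IsPGroup p (G ⧸ N) := by
      have hq : ∀ q : ℕ, q.Prime → q ∣ Nat.card (G ⧸ N) → q = p := by
        intro q hq hd
        obtain ⟨h1, h2⟩ := hle q hq hd
        rcases h with h | h
        · subst h
          rcases h2 with rfl | h2 | h2
          · rfl
          · have h3 := Nat.le_of_dvd (by norm_num) h2
            have h4 : q = 2 := le_antisymm h3 hq.two_le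
            subst h4
            exact absurd (hodd.of_dvd_nat (hd.trans (Subgroup.card_quotient_dvd_card N))) (by decide)
          · have h3 := Nat.le_of_dvd (by norm_num) h2
            interval_cases q
            all_goals first
              | rfl
              | exact absurd hq (by decide)
              | exact absurd (hodd.of_dvd_nat (hd.trans (Subgroup.card_quotient_dvd_card N))) (by decide)
        · exact le_antisymm h1 (h q hq (hd.trans (Subgroup.card_quotient_dvd_card N)))
      exact IsPGroup.of_card (Nat.eq_prime_pow_of_unique_prime_dvd Nat.card_pos.ne' fun {q} hd' hd => hq q hd' hd)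
    obtain ⟨k, hk⟩ := IsPGroup.iff_card.mp hX
    exact Lib.Transfer.hasNormalPComplement_of_coprime_of_index N hN (k := k) (by rw [Subgroup.index_eq_card, hk])
  · have hr : IsPGroup p f.range := (Lib.Cores.pCore_isPGroup p (G ⧸ N)).to_le
      (by rintro _ ⟨x, rfl⟩; exact hmap x x.2)
    obtain ⟨k, hk⟩ := IsPGroup.iff_card.mp hr
    exact Lib.Transfer.hasNormalPComplement_of_coprime_of_index f.ker hK (k := k) (by rw [Subgroup.index_ker, hk])
  · intro L hL x hx
    refine Lib.Cores.le_pPrimeCore inferInstance hK (MonoidHom.mem_ker.mpr ?_)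
    refine Lib.Transfer.eq_one_of_isPGroup_of_coprime (Lib.Cores.pCore_isPGroup p (G ⧸ N)) (hmap x x.2) ?_
    exact Nat.Coprime.coprime_dvd_left (orderOf_map_dvd f x) (Lib.Transfer.coprime_orderOf_of_mem hL hx)
  · show ((Cfsg.pCore p (G ⧸ N)).comap (QuotientGroup.mk' N)).index.Coprime p
    rwa [Subgroup.index_comap_of_surjective _ (QuotientGroup.mk'_surjective N)]

end Cfsg.Agent.S1450
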