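import Cfsg.Statements.S1451
import Cfsg.Agent.Lib.OddLocal.RankTwoFitting

set_option autoImplicit false
open Cfsg
open scoped commutatorElement

namespace Cfsg.Agent.S1451

/-- Let G be a solvable group of odd order such that G, or its Fitting subgroup, has no elementary abelian subgroup of order q ^ 3 for any prime q. Then G' is nilpotent; for every Sylow subgroup S of G, every characteristic subgroup T of S with T ≤ [S, S] is normal in G; and for every prime p, G has a characteristic subgroup that is a Hall subgroup for the set of primes greater than p. -/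
theorem result {G : Type*} [Group G] [Finite G] [Group.IsSolvable G] (hodd : Odd (Nat.card G)) (hr : Cfsg.RankLE 2 G ∨ Cfsg.RankLE 2 (Cfsg.fittingSubgroup G)) :
    Group.IsNilpotent ↥(commutator G) ∧
      (∀ (q : ℕ) [Fact q.Prime] (S : Sylow q G) (T : Subgroup ↥(S : Subgroup G)), T.Characteristic → T.map (S : Subgroup G).subtype ≤ ⁅(S : Subgroup G), (S : Subgroup G)⁆ →
        (T.map (S : Subgroup G).subtype).Normal) ∧
      ∀ p : ℕ, ∃ N : Subgroup G, N.Characteristic ∧ Cfsg.IsPiHall {q | q.Prime ∧ p < q} N := by
  have hrO : ∀ q : ℕ, q.Prime → Cfsg.PRankLE q 2 (Cfsg.pCore q G) := by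
    intro q hq
    have := Fact.mk hq
    rcases hr with h | h
    · exact Lib.OddLocal.pRankLE_of_injective _ (Subgroup.subtype_injective _) (h q hq)
    · exact Lib.OddLocal.pRankLE_of_injective _
        (Subgroup.inclusion_injective (Lib.Cores.pCore_le_fittingSubgroup q)) (h q hq)
  have hc := Lib.OddLocal.commutator_le_fitting_of_rank_two hodd hrO
  refine ⟨Lib.Cores.isNilpotent_of_le hc, fun q _ S T hT hTS => ?_,
    Lib.OddLocal.exists_characteristic_hall_gt hodd hrO⟩
  set F := Cfsg.fittingSubgroup G with hF
  have hFn : Group.IsNilpotent F := Lib.Cores.fittingSubgroup_isNilpotent G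
  set T₀ := T.map (S : Subgroup G).subtype with hT₀
  set L := F ⊔ (S : Subgroup G) with hL
  have hLn : L.Normal := ⟨fun x hx g => by
    have h : ⁅g, x⁆ ∈ L := Subgroup.mem_sup_left (hc
      (Subgroup.commutator_mem_commutator (Subgroup.mem_top g) (Subgroup.mem_top x)))
    have := mul_mem h hx
    simpa [commutatorElement_def] using this⟩
  have hfr := Sylow.normalizer_sup_eq_top' (N := L) S le_sup_right
  have hNS : Subgroup.normalizer ((S : Subgroup G) : Set G) ≤ Subgroup.normalizer (T₀ : Set G) :=
    Lib.Cores.normalizer_le_normalizer_map_subtype (S : Subgroup G) T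
  have hTq : T₀ ≤ Lib.OddLocal.pPartOf q F := by
    intro t ht
    refine Lib.OddLocal.mem_pPartOf hFn (hc ?_) ?_
    · exact Subgroup.commutator_mono le_top le_top (hTS ht)
    · exact Lib.OddLocal.exists_orderOf_of_mem S.isPGroup' (Subgroup.map_subtype_le T ht)
  have hFN : F ≤ Subgroup.normalizer (T₀ : Set G) := by
    refine Lib.Cores.fittingSubgroup_le_of_pCore_le fun r hr' => ?_
    have := Fact.mk hr'
    by_cases hrq : r = q
    · subst hrq
      exact (Lib.Cores.pCore_le_sylow S).trans (Subgroup.le_normalizer.trans hNS)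
    · refine le_trans ?_ (Subgroup.centralizer_le_normalizer _)
      intro x hx
      rw [Subgroup.mem_centralizer_iff]
      intro t ht
      refine (Subgroup.mem_centralizer_iff.mp
        (Lib.OddLocal.pPartOf_le_centralizer_pComplOf q F (hTq ht)) x ?_).symm
      refine Lib.OddLocal.mem_pComplOf hFn (Lib.Cores.pCore_le_fittingSubgroup r hx) ?_
      obtain ⟨k, hk⟩ := Lib.OddLocal.exists_orderOf_of_mem (Lib.Cores.pCore_isPGroup r G) hx
      exact hk ▸ ((Nat.coprime_primes hr' Fact.out).mpr hrq).pow_left k
  refine Subgroup.normalizer_eq_top_iff.mp (top_le_iff.mp ?_)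
  rw [← hfr]
  exact sup_le hNS (sup_le hFN (Subgroup.le_normalizer.trans hNS))

end Cfsg.Agent.S1451
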