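import Cfsg.Statements.S1454
import Cfsg.Agent.Lib.OddLocal.RankTwoStructure
import Cfsg.Agent.Lib.OddLocal.Narrow
import Cfsg.Agent.Lib.OddLocal.RankTwoPrime

set_option autoImplicit false
open Cfsg
open scoped commutatorElement

namespace Cfsg.Agent.S1454

/-- Let G be a finite group, p an odd prime, R a narrow p-subgroup and A a solvable subgroup of odd order normalizing R with A ∩ C_G(R) = 1. Then [A, A] ≤ O_p(A) and the index of O_p(A) in A is coprime to p; if R has an elementary abelian subgroup of order p ^ 3 then the order of every element of A of order coprime to p divides p − 1; and if the order of A is a prime not dividing p(p − 1), then 2·#A divides p + 1, and if in addition [R, A] = R and R is non-abelian then #R = p ^ 3. -/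
theorem result {G : Type*} [Group G] [Finite G] (p : ℕ) [Fact p.Prime] (hp : p ≠ 2) (R A : Subgroup G) (hR : IsPGroup p R) (hRn : Cfsg.IsNarrow p R)
    (hA : (A ≤ Subgroup.normalizer (R : Set G))) (hAs : Group.IsSolvable A) (hAodd : Odd (Nat.card A)) (hfaith : A ⊓ Subgroup.centralizer (R : Set G) = ⊥) :
    (commutator ↥A ≤ Cfsg.pCore p ↥A ∧ ((Cfsg.pCore p ↥A).index).Coprime p) ∧
      (¬ Cfsg.PRankLE p 2 R → ∀ a ∈ A, (orderOf a).Coprime p → orderOf a ∣ p - 1) ∧
      ((Nat.card A).Prime → ¬ Nat.card A ∣ p * (p - 1) →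
        2 * Nat.card A ∣ p + 1 ∧ (⁅R, A⁆ = R → ¬ IsMulCommutative R → Nat.card R = p ^ 3)) := by
  have := hAs
  have hfaith' : ∀ a ∈ A, a ∈ Subgroup.centralizer (R : Set G) → a = 1 := fun a ha hc =>
    Subgroup.mem_bot.mp (hfaith ▸ (show a ∈ A ⊓ Subgroup.centralizer (R : Set G) from ⟨ha, hc⟩))
  have hlarge := fun h => Lib.OddLocal.narrow_operators hp hR hRn h hA
  have hdp : IsPGroup p (commutator A) := by
    by_cases hr : Cfsg.PRankLE p 2 R
    · obtain ⟨ψ, hψ⟩ := Lib.OddLocal.exists_twoDim hp hR hr hA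
      exact (Lib.OddLocal.derived_isPGroup_of_twoDim hp hAodd ψ fun a ha hc => by
        rw [← Subgroup.orderOf_coe] at hc
        exact Subtype.ext (hfaith' a a.2 (hψ a ha hc))).1
    · intro c
      have hn : orderOf (c : G) ≠ 0 := (orderOf_pos _).ne'
      refine ⟨(orderOf (c : G)).factorization p, Subtype.ext (Subtype.ext ?_)⟩
      have hcA : ((c : A) : G) ∈ ⁅A, A⁆ := by
        rw [← Subgroup.map_subtype_commutator A]
        exact ⟨c.1, c.2, rfl⟩
      refine hfaith' _ (pow_mem (c : A).2 _) ((hlarge hr).1 _ (pow_mem hcA _) ?_)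
      simp only [SubmonoidClass.coe_pow]
      rw [orderOf_pow_of_dvd (pow_ne_zero _ (Fact.out : p.Prime).ne_zero) (Nat.ordProj_dvd _ _)]
      exact (Nat.coprime_ordCompl Fact.out hn).symm
  have hc : commutator A ≤ Cfsg.pCore p A := Lib.Cores.le_pCore inferInstance hdp
  refine ⟨⟨hc, ?_⟩, fun hr a ha hcop => ?_, fun hq hndvd => ?_⟩
  · obtain ⟨S⟩ : Nonempty (Sylow p A) := inferInstance
    have hPS : Cfsg.pCore p A ≤ S := Lib.Cores.pCore_le_sylow S
    have hSn : (S : Subgroup A).Normal := ⟨fun s hs g => by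
      have h : ⁅g, s⁆ ∈ (S : Subgroup A) :=
        hPS (hc (Subgroup.commutator_mem_commutator (Subgroup.mem_top g) (Subgroup.mem_top s)))
      have := mul_mem h hs
      simpa [commutatorElement_def] using this⟩
    rw [← le_antisymm (Lib.Cores.le_pCore hSn S.isPGroup') hPS]
    exact ((Fact.out : p.Prime).coprime_iff_not_dvd.mpr S.not_dvd_index).symm
  · exact orderOf_dvd_of_pow_eq_one (hfaith' _ (pow_mem ha _) ((hlarge hr).2 a ha hcop))
  · have hcard : (Nat.card A).Coprime p := hq.coprime_iff_not_dvd.mpr fun h => hndvd (h.mul_right _)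
    obtain ⟨a, hao⟩ := exists_prime_orderOf_dvd_card' (hp := Fact.mk hq) (Nat.card A) dvd_rfl
    have hr : Cfsg.PRankLE p 2 R := by
      by_contra hr
      refine hndvd (Dvd.dvd.mul_left ?_ p)
      have h := orderOf_dvd_of_pow_eq_one (hfaith' _ (pow_mem a.2 _) ((hlarge hr).2 (a : G) a.2
        (by rw [Subgroup.orderOf_coe, hao]; exact hcard)))
      rwa [Subgroup.orderOf_coe, hao] at h
    refine ⟨?_, fun hRA hnc => Lib.OddLocal.card_eq_cube_of_prime_operators hp hR hr hA hq hndvd hRA hnc⟩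
    obtain ⟨ψ, hψ⟩ := Lib.OddLocal.exists_twoDim hp hR hr hA
    have h := ((Lib.OddLocal.derived_isPGroup_of_twoDim hp hAodd ψ fun a ha hc => by
      rw [← Subgroup.orderOf_coe] at hc
      exact Subtype.ext (hfaith' a a.2 (hψ a ha hc))).2 _ hq dvd_rfl).2
    rcases h with h | h | h
    · exact absurd (h ▸ dvd_mul_right p (p - 1)) hndvd
    · exact absurd (h.mul_left p) hndvd
    · refine Nat.Coprime.mul_dvd_of_dvd_of_dvd (Nat.coprime_two_left.mpr hAodd) ?_ h
      exact ((Fact.out : p.Prime).odd_of_ne_two hp).add_one.two_dvd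

end Cfsg.Agent.S1454
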