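import Cfsg.Statements.S1455
import Cfsg.Agent.Lib.OddLocal.NarrowStructure
import Cfsg.Agent.Lib.OddLocal.RankTwoFitting

set_option autoImplicit false
open Cfsg

namespace Cfsg.Agent.S1455

/-- Let G be a solvable group of odd order, p a prime dividing its order, and S a Sylow p-subgroup of G that is narrow; if S has an elementary abelian subgroup of order p ^ 3 assume also G = O_{p',p,p'}(G). Then every prime dividing the index of O_{p'}(G) is at most p; if p = 3 or p is the smallest prime divisor of #G then G has a normal p-complement; G' has a normal p-complement; every subgroup of G' of order coprime to p lies in O_{p'}(G'); and G' ≤ O_{p',p}(G) with the index of O_{p',p}(G) coprime to p. -/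
theorem result {G : Type*} [Group G] [Finite G] [Group.IsSolvable G] (hodd : Odd (Nat.card G)) (p : ℕ) [Fact p.Prime] (hpG : p ∣ Nat.card G) (S : Sylow p G) (hS : Cfsg.IsNarrow p ↥(S : Subgroup G))
    (hpl : ¬ Cfsg.PRankLE p 2 ↥(S : Subgroup G) → Cfsg.PLengthLE p 1 G) :
    (∀ q : ℕ, q.Prime → q ∣ (Cfsg.pPrimeCore p G).index → q ≤ p) ∧
      ((p = 3 ∨ ∀ q : ℕ, q.Prime → q ∣ Nat.card G → p ≤ q) → Cfsg.HasNormalPComplement p G) ∧
      Cfsg.HasNormalPComplement p ↥(commutator G) ∧
      (∀ L : Subgroup ↥(commutator G), (Nat.card L).Coprime p → L ≤ Cfsg.pPrimeCore p ↥(commutator G)) ∧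
      commutator G ≤ Cfsg.pPrimePCore p G ∧ ((Cfsg.pPrimePCore p G).index).Coprime p := by
  have hp2 : p ≠ 2 := fun h => by
    have := hodd.of_dvd_nat hpG
    rw [h] at this
    exact absurd this (by decide)
  set N := Cfsg.pPrimeCore p G with hNdef
  have hN : (Nat.card N).Coprime p := Lib.Cores.pPrimeCore_coprime p G
  have hoddX : Odd (Nat.card (G ⧸ N)) := hodd.of_dvd_nat (Subgroup.card_quotient_dvd_card N)
  have hX := Lib.Cores.pPrimeCore_quotient_pPrimeCore p G
  by_cases hr : Cfsg.PRankLE p 2 ↥(S : Subgroup G)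
  · have hrG : Cfsg.PRankLE p 2 G := by
      intro B hB hBp
      have hBP : IsPGroup p B := fun b => ⟨1, Subtype.ext (by rw [pow_one]; exact hBp b b.2)⟩
      obtain ⟨T, hT⟩ := hBP.exists_le_sylow
      obtain ⟨g, hg⟩ := MulAction.exists_smul_eq G T S
      let e : (T : Subgroup G) ≃* (S : Subgroup G) := hg ▸ T.equivSMul g
      have h := hr ((B.subgroupOf (T : Subgroup G)).map e.toMonoidHom) (by
        haveI : IsMulCommutative (B.subgroupOf (T : Subgroup G)) :=
          ⟨⟨fun a b => Subtype.ext (Subtype.ext (congrArg Subtype.val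
            (hB.is_comm.comm ⟨a.1.1, a.2⟩ ⟨b.1.1, b.2⟩) :))⟩⟩
        infer_instance) (by
        rintro _ ⟨x, hx, rfl⟩
        rw [← map_pow, show x ^ p = 1 from Subtype.ext (hBp x.1 hx), map_one])
      rwa [Subgroup.card_map_of_injective e.injective,
        Nat.card_congr (Subgroup.subgroupOfEquivOfLe hT).toEquiv] at h
    obtain ⟨hc, hcop, hle⟩ := Lib.OddLocal.commutator_le_pCore_of_rank_two (X := G ⧸ N) hp2 hoddX hX
      (Lib.OddLocal.pRankLE_quotient N hN hrG)
    exact Lib.OddLocal.p_structure_of_quotient hodd hc hcop hle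
  · obtain ⟨K, -, hKcop, hKS, -, hKN⟩ := Lib.OddLocal.exists_of_pLengthLE_one (hpl hr) S
    set π := QuotientGroup.mk' N with hπ
    have hπs : Function.Surjective π := QuotientGroup.mk'_surjective N
    let T : Sylow p (G ⧸ N) := S.mapSurjective hπs
    have hT : (T : Subgroup (G ⧸ N)) = (S : Subgroup G).map π := rfl
    have hTn : (T : Subgroup (G ⧸ N)).Normal := by
      rw [hT]
      have h : (K ⊔ (S : Subgroup G)).map π = (S : Subgroup G).map π := by
        rw [Subgroup.map_sup, (Subgroup.map_eq_bot_iff _).mpr (by rw [QuotientGroup.ker_mk']; exact hKN),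
          bot_sup_eq]
      exact h ▸ hKS.map π hπs
    have hinj : Function.Injective (π.subgroupMap (S : Subgroup G)) := by
      rw [injective_iff_map_eq_one]
      intro x hx
      have h1 : (x : G) ∈ N := (QuotientGroup.eq_one_iff _).mp (congrArg Subtype.val hx)
      exact Subtype.ext (Lib.Transfer.eq_one_of_isPGroup_of_coprime S.isPGroup' x.2
        (Lib.Transfer.coprime_orderOf_of_mem hN h1))
    let e : (S : Subgroup G) ≃* (T : Subgroup (G ⧸ N)) := MulEquiv.ofBijective (π.subgroupMap (S : Subgroup G))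
      ⟨hinj, MonoidHom.subgroupMap_surjective π (S : Subgroup G)⟩
    obtain ⟨hc, hcop, hle⟩ := Lib.OddLocal.commutator_le_pCore_of_narrow hp2 hX T hTn
      (Lib.OddLocal.isNarrow_congr e hS)
      (fun h => hr (Lib.OddLocal.pRankLE_of_injective e.toMonoidHom e.injective h))
    exact Lib.OddLocal.p_structure_of_quotient hodd hc hcop hle

end Cfsg.Agent.S1455
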