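import Cfsg.Statements.S1456
import Cfsg.Agent.Lib.OddLocal.RankTwoFitting
import Cfsg.Agent.Lib.OddLocal.Narrow
import Cfsg.Agent.Lib.OddLocal.NarrowCriterion

set_option autoImplicit false
open Cfsg

namespace Cfsg.Agent.S1456

/-- Let G be a solvable group of odd order, p a prime, and E an elementary abelian p-subgroup of the Fitting subgroup F(G) such that F(G) ∩ C_G(E) has no elementary abelian subgroup of order q ^ 3 for any prime q. Then the derived subgroup of G is contained in F(G). -/
theorem result {G : Type*} [Group G] [Finite G] [Group.IsSolvable G] (hodd : Odd (Nat.card G)) (p : ℕ) [Fact p.Prime] (E : Subgroup G) (hE : E ≤ Cfsg.fittingSubgroup G) (hEe : Cfsg.IsElementaryAbelian p E)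
    (hr : Cfsg.RankLE 2 ↥(Cfsg.fittingSubgroup G ⊓ Subgroup.centralizer (E : Set G))) :
    commutator G ≤ Cfsg.fittingSubgroup G := by
  set F := Cfsg.fittingSubgroup G with hFdef
  have hFn : Group.IsNilpotent F := Lib.Cores.fittingSubgroup_isNilpotent G
  refine Lib.OddLocal.commutator_le_fitting_of_centralizes fun q hq c hc hcop => ?_
  have := Fact.mk hq
  set P := Cfsg.pCore q G with hP
  have hPp : IsPGroup q P := Lib.Cores.pCore_isPGroup q G
  have hPF : P ≤ F := Lib.Cores.pCore_le_fittingSubgroup q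
  by_cases hqr : Cfsg.PRankLE q 2 P
  · exact (Lib.OddLocal.centralizes_of_rank_two hodd q P hPp hqr).1 c hc hcop
  have hEC : ∀ x ∈ P, x ∈ Subgroup.centralizer (E : Set G) → x ∈ F ⊓ Subgroup.centralizer (E : Set G) :=
    fun x hx hxc => ⟨hPF hx, hxc⟩
  have hqp : q = p := by
    by_contra hne
    refine hqr ?_
    have hle : P ≤ F ⊓ Subgroup.centralizer (E : Set G) := by
      refine le_inf hPF fun x hx => Subgroup.mem_centralizer_iff.mpr fun e he => ?_
      obtain ⟨k, hk⟩ := Lib.OddLocal.exists_orderOf_of_mem hPp hx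
      have hxq : x ∈ Lib.OddLocal.pPartOf q F := Lib.OddLocal.mem_pPartOf hFn (hPF hx) ⟨k, hk⟩
      refine Subgroup.mem_centralizer_iff.mp (Lib.OddLocal.pPartOf_le_centralizer_pComplOf q F hxq) e ?_
      refine Lib.OddLocal.mem_pComplOf hFn (hE he) (Nat.Coprime.coprime_dvd_left
        (orderOf_dvd_of_pow_eq_one (hEe.2 e he)) ?_)
      exact (Nat.coprime_primes Fact.out hq).mpr (Ne.symm hne)
    exact Lib.OddLocal.pRankLE_of_injective _ (Subgroup.inclusion_injective hle) (hr q hq)
  subst hqp
  have hq2 : q ≠ 2 := fun h => hqr fun B hB hBp => by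
    obtain ⟨k, hk⟩ := IsPGroup.iff_card.mp (hPp.to_subgroup B)
    rcases k with _ | k
    · rw [hk, pow_zero]; exact Nat.one_le_pow _ _ hq.pos
    · have h2 := hodd.of_dvd_nat ((dvd_pow_self q k.succ_ne_zero).trans
        (hk ▸ ((Subgroup.card_subgroup_dvd_card B).trans (Subgroup.card_subgroup_dvd_card P))))
      rw [h] at h2
      exact absurd h2 (by decide)
  have hEP : E ≤ P := fun e he => by
    have h : e ∈ Lib.OddLocal.pPartOf q F := Lib.OddLocal.mem_pPartOf hFn (hE he)
      (by
        obtain ⟨j, -, hj⟩ := (Nat.dvd_prime_pow hq).mp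
          (orderOf_dvd_of_pow_eq_one (hEe.2 e he) |>.trans (pow_one q).symm.dvd)
        exact ⟨j, hj⟩)
    exact Lib.Cores.map_subtype_pCore_le F h
  have hn : Cfsg.IsNarrow q P := by
    refine Lib.OddLocal.isNarrow_of_centralizer_rank_two hq2 hPp (E.subgroupOf P)
      ⟨⟨⟨fun a b => Subtype.ext (Subtype.ext (congrArg Subtype.val
        (hEe.1.is_comm.comm ⟨a.1.1, a.2⟩ ⟨b.1.1, b.2⟩) :))⟩⟩, fun a ha => Subtype.ext (hEe.2 a.1 ha)⟩ ?_
    let f : Subgroup.centralizer ((E.subgroupOf P : Subgroup P) : Set P) →*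
        (F ⊓ Subgroup.centralizer (E : Set G) : Subgroup G) :=
      { toFun := fun x => ⟨((x : P) : G), hEC _ x.1.2 (Subgroup.mem_centralizer_iff.mpr fun e he =>
          congrArg Subtype.val (Subgroup.mem_centralizer_iff.mp x.2 ⟨e, hEP he⟩ he))⟩
        map_one' := rfl
        map_mul' := fun _ _ => rfl }
    exact Lib.OddLocal.pRankLE_of_injective f (fun a b h => Subtype.ext (Subtype.ext
      (congrArg Subtype.val h :))) (hr q hq)
  exact (Lib.OddLocal.narrow_operators hq2 hPp hn hqr (A := ⊤)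
    (fun g _ => by rw [Subgroup.normalizer_eq_top]; trivial)).1 c (by rw [← commutator_def]; exact hc) hcop

end Cfsg.Agent.S1456
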