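import Cfsg.Statements.S1462
import Cfsg.Agent.S1443
import Cfsg.Agent.Lib.OddLocal.PStable
import Cfsg.Agent.Lib.OddLocal.PCore

set_option autoImplicit false
open Cfsg

namespace Cfsg.Agent.S1462

/-- Let G be a finite solvable group, p an odd prime with G = O_{p',p,p'}(G), E an elementary abelian p-subgroup contained in no larger elementary abelian p-subgroup of G, and L a subgroup of order coprime to p normalized by E. Then L ≤ O_{p'}(G). -/
theorem result {G : Type*} [Group G] [Finite G] [Group.IsSolvable G] (p : ℕ) [Fact p.Prime] (hp : p ≠ 2) (hpl : Cfsg.PLengthLE p 1 G) (E L : Subgroup G) (hE : Cfsg.IsElementaryAbelian p E)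
    (hEmax : ∀ B : Subgroup G, Cfsg.IsElementaryAbelian p B → E ≤ B → B = E) (hL : (Nat.card L).Coprime p) (hEL : E ≤ Subgroup.normalizer (L : Set G)) :
    L ≤ Cfsg.pPrimeCore p G := by
  open Cfsg.Agent.Lib.OddLocal in
  have hEp : IsPGroup p E := fun x => ⟨1, Subtype.ext (by simpa using hE.2 x x.2)⟩
  obtain ⟨S, hES⟩ := hEp.exists_le_sylow
  obtain ⟨K, hKn, hKp, hKS, -, hKle⟩ := exists_of_pLengthLE_one hpl S
  set O := Cfsg.pPrimeCore p G
  set π := QuotientGroup.mk' O
  haveI : Group.IsSolvable (G ⧸ O) := Group.isSolvable_of_surjective (QuotientGroup.mk'_surjective _)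
  have hT : Cfsg.pCore p (G ⧸ O) = (S : Subgroup G).map π := by
    refine le_antisymm (Cfsg.Agent.Lib.Cores.pCore_le_sylow (S.mapSurjective (QuotientGroup.mk'_surjective _))) ?_
    refine Cfsg.Agent.Lib.Cores.le_pCore ?_ (S.2.map π)
    have h := hKS.map π (QuotientGroup.mk'_surjective _)
    rwa [Subgroup.map_sup, (Subgroup.map_eq_bot_iff K).mpr (by rw [QuotientGroup.ker_mk']; exact hKle),
      bot_sup_eq] at h
  have hTp := Cfsg.Agent.Lib.Cores.pCore_isPGroup p (G ⧸ O)
  have hcopL : (Nat.card (L.map π)).Coprime p := hL.coprime_dvd_left (Subgroup.card_map_dvd _ _)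
  have hET : E.map π ≤ Cfsg.pCore p (G ⧸ O) := hT ▸ Subgroup.map_mono hES
  have hcE : L.map π ≤ Subgroup.centralizer (E.map π : Set (G ⧸ O)) := by
    rw [← Subgroup.commutator_eq_bot_iff_le_centralizer, eq_bot_iff]
    have h1 : ⁅L.map π, E.map π⁆ ≤ L.map π := by
      rw [← Subgroup.map_commutator]
      exact Subgroup.map_mono (Subgroup.le_normalizer_iff_commutator_le_left.mp hEL)
    have h2 : ⁅L.map π, E.map π⁆ ≤ Cfsg.pCore p (G ⧸ O) :=
      (Subgroup.commutator_mono le_rfl hET).trans (Subgroup.commutator_le_right _ _)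
    refine (le_inf h1 h2).trans (le_of_eq ?_)
    obtain ⟨j, hj⟩ := hTp.exists_card_eq
    exact Cfsg.Agent.Lib.Coprime.inf_eq_bot_of_coprime_card (by rw [hj]; exact hcopL.pow_right j)
  have hcT : L.map π ≤ Subgroup.centralizer (Cfsg.pCore p (G ⧸ O) : Set (G ⧸ O)) := by
    refine Cfsg.Agent.S1443.result p hp _ (E.map π) _ hTp hET ?_
      (by rw [Subgroup.normalizer_eq_top]; exact le_top) hcopL ?_
    · refine ⟨?_, ?_⟩
      · rw [← Subgroup.le_centralizer_iff_isMulCommutative]
        rintro _ ⟨x, hx, rfl⟩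
        rw [Subgroup.mem_centralizer_iff]
        rintro _ ⟨y, hy, rfl⟩
        rw [← map_mul, ← map_mul, show y * x = x * y from congrArg Subtype.val (hE.1.is_comm.comm (⟨y, hy⟩ : E) ⟨x, hx⟩)]
      · rintro _ ⟨x, hx, rfl⟩; rw [← map_pow, hE.2 x hx, map_one]
    · rintro x ⟨hxT, hxc⟩ hxo
      rw [hT] at hxT
      obtain ⟨s, hs, rfl⟩ := hxT
      have hker : ∀ z ∈ (S : Subgroup G), π z = 1 → z = 1 := by
        intro z hz hz1
        obtain ⟨j, hj⟩ := S.2.exists_card_eq
        exact Cfsg.Agent.Lib.Coprime.eq_one_of_mem_of_mem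
          (by rw [hj]; exact (Cfsg.Agent.Lib.Cores.pPrimeCore_coprime p G).pow_right j)
          ((QuotientGroup.eq_one_iff z).mp hz1) hz
      have hsp : s ^ p = 1 := hker _ (pow_mem hs p) (by rw [map_pow]; exact orderOf_dvd_iff_pow_eq_one.mp (dvd_of_eq hxo))
      have hse : ∀ e ∈ E, e * s = s * e := by
        intro e he
        refine mul_inv_eq_one.mp (hker _ (mul_mem (mul_mem (hES he) hs) (inv_mem (mul_mem hs (hES he)))) ?_)
        rw [map_mul, map_inv, map_mul, map_mul, mul_inv_eq_one]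
        exact Subgroup.mem_centralizer_iff.mp hxc _ (Subgroup.mem_map_of_mem π he)
      have hB : Cfsg.IsElementaryAbelian p (E ⊔ Subgroup.zpowers s) := by
        have hEs : E ≤ Subgroup.centralizer (Subgroup.zpowers s : Set G) :=
          Subgroup.le_centralizer_iff.mp (Subgroup.zpowers_le.mpr (Subgroup.mem_centralizer_iff.mpr hse))
        have hc : IsMulCommutative ↥(E ⊔ Subgroup.zpowers s) := by
          rw [← Subgroup.le_centralizer_iff_isMulCommutative]
          exact sup_le (Subgroup.le_centralizer_iff.mp (sup_le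
              (Subgroup.le_centralizer_iff_isMulCommutative.mpr hE.1) (Subgroup.le_centralizer_iff.mp hEs)))
            (Subgroup.le_centralizer_iff.mp (sup_le hEs
              (Subgroup.le_centralizer_iff_isMulCommutative.mpr inferInstance)))
        refine ⟨hc, fun x hx => ?_⟩
        obtain ⟨e, he, w, hw, rfl⟩ := Cfsg.Agent.Lib.Coprime.exists_mul_of_mem_sup (N := E)
          (fun w hw => Subgroup.centralizer_le_normalizer _ (Subgroup.le_centralizer_iff.mp hEs hw)) hx
        obtain ⟨k, rfl⟩ := Subgroup.mem_zpowers_iff.mp hw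
        rw [(Commute.zpow_right (show Commute e s from hse e he) k).mul_pow, hE.2 e he,
          ← zpow_natCast (s ^ k), ← zpow_mul, mul_comm, zpow_mul, zpow_natCast, hsp, one_zpow, one_mul]
      have hsE : s ∈ E := (hEmax _ hB le_sup_left) ▸ Subgroup.mem_sup_right (Subgroup.mem_zpowers s)
      intro l hl
      rw [Subgroup.mem_centralizer_singleton_iff]
      exact (Subgroup.mem_centralizer_iff.mp (hcE hl) _ (Subgroup.mem_map_of_mem π hsE)).symm
  have hle := hcT.trans (centralizer_pCore_le (Cfsg.Agent.Lib.Cores.pPrimeCore_quotient_pPrimeCore p G))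
  intro l hl
  obtain ⟨j, hj⟩ := hTp.exists_card_eq
  have := Cfsg.Agent.Lib.Coprime.eq_one_of_mem_of_mem (H := Cfsg.pCore p (G ⧸ O))
    (by rw [hj]; exact hcopL.pow_right j) (Subgroup.mem_map_of_mem π hl) (hle (Subgroup.mem_map_of_mem π hl))
  exact (QuotientGroup.eq_one_iff l).mp this

end Cfsg.Agent.S1462
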