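import Cfsg.Statements.S1464
import Cfsg.Agent.Lib.OddLocal.PStable

set_option autoImplicit false
open Cfsg

namespace Cfsg.Agent.S1464

/-- Let p be an odd prime and G a solvable group of odd order, P a p-subgroup with O_{p'}(G)P normal in G, and A a p-subgroup of N_G(P) with [[P, A], A] = 1. Then the image of A in the quotient N_G(P)/C_G(P) is contained in the p-core of that quotient. -/
theorem result {G : Type*} [Group G] [Finite G] [Group.IsSolvable G] (hodd : Odd (Nat.card G)) (p : ℕ) [Fact p.Prime] (hp : p ≠ 2) (P A : Subgroup G) (hP : IsPGroup p P) (hPn : (Cfsg.pPrimeCore p G ⊔ P).Normal)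
    (hA : IsPGroup p A) (hAN : A ≤ Subgroup.normalizer (P : Set G)) (hquad : ⁅⁅P, A⁆, A⁆ = ⊥) :
    (A.subgroupOf (Subgroup.normalizer (P : Set G))).map
        (QuotientGroup.mk' ((Subgroup.centralizer (P : Set G)).subgroupOf (Subgroup.normalizer (P : Set G))))
      ≤ Cfsg.pCore p _ := by
  open Cfsg.Agent.Lib.OddLocal in
  set N := Subgroup.normalizer (P : Set G)
  haveI hP' : (P.subgroupOf N).Normal := Subgroup.normal_in_normalizer
  intro q hq
  obtain ⟨a, ha, rfl⟩ := hq
  rw [SetLike.mem_coe, Subgroup.mem_subgroupOf] at ha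
  refine mem_pCore_of_quadratic hp (hodd.of_dvd_nat (Subgroup.card_subgroup_dvd_card N))
    (P := P.subgroupOf N) (hP.comap_of_injective N.subtype N.subtype_injective) _ ?_ ?_ ?_
  · intro x hx
    rw [Subgroup.mem_subgroupOf, Subgroup.mem_centralizer_iff]
    intro y hy
    exact congrArg Subtype.val
      (Subgroup.mem_centralizer_iff.mp hx ⟨y, Subgroup.le_normalizer hy⟩ (Subgroup.mem_subgroupOf.mpr hy))
  · obtain ⟨k, hk⟩ := hA ⟨a, ha⟩
    exact ⟨k, Subtype.ext (show ((a : G)) ^ p ^ k = 1 from congrArg Subtype.val hk)⟩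
  · intro x hx
    open scoped commutatorElement in
    refine Subtype.ext ?_
    open scoped commutatorElement in
    have h1 : ⁅(⁅(x : G), (a : G)⁆ : G), (a : G)⁆ ∈ (⊥ : Subgroup G) := hquad ▸
      Subgroup.commutator_mem_commutator (Subgroup.commutator_mem_commutator hx ha) ha
    rw [Subgroup.mem_bot, commutatorElement_eq_one_iff_mul_comm] at h1
    exact h1.symm

end Cfsg.Agent.S1464
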