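import Cfsg.Statements.S1466
import Cfsg.Agent.Lib.OddLocal.Coprime
import Cfsg.Agent.Lib.OddLocal.Puig

set_option autoImplicit false
open Cfsg

namespace Cfsg.Agent.S1466

/-- Let p be a prime and R a nontrivial finite p-group. Then for every i > 0, Z(R) ≤ C_R(L_i(R)) ≤ L_i(R); likewise Z(R) ≤ C_R(L_*(R)) ≤ L_*(R) and Z(R) ≤ C_R(L(R)) ≤ L(R); and L(R) ≠ 1, L_*(R) ≠ 1. -/
theorem result {R : Type*} [Group R] [Finite R] (p : ℕ) [Fact p.Prime] (hR : IsPGroup p R) [Nontrivial R] :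
    (∀ i : ℕ, 0 < i → Subgroup.center R ≤ Subgroup.centralizer ((Cfsg.puigSeq R i : Subgroup R) : Set R) ∧
        Subgroup.centralizer ((Cfsg.puigSeq R i : Subgroup R) : Set R) ≤ Cfsg.puigSeq R i) ∧
      (Subgroup.center R ≤ Subgroup.centralizer ((Cfsg.puigLower R : Subgroup R) : Set R) ∧ Subgroup.centralizer ((Cfsg.puigLower R : Subgroup R) : Set R) ≤ Cfsg.puigLower R) ∧
      (Subgroup.center R ≤ Subgroup.centralizer ((Cfsg.puigSubgroup R : Subgroup R) : Set R) ∧ Subgroup.centralizer ((Cfsg.puigSubgroup R : Subgroup R) : Set R) ≤ Cfsg.puigSubgroup R) ∧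
      Cfsg.puigSubgroup R ≠ ⊥ ∧ Cfsg.puigLower R ≠ ⊥ := by
  open Cfsg.Agent.Lib.OddLocal in
  haveI : Group.IsNilpotent R := hR.isNilpotent
  obtain ⟨A, hAn, hAc, hCA⟩ := exists_normal_abelian_centralizer_le R
  have hA1 : ∀ X : Subgroup R, A ≤ Cfsg.puigStep X := fun X =>
    le_puigStep hAc (by rw [Subgroup.normalizer_eq_top]; exact le_top)
  have key : ∀ X : Subgroup R, A ≤ X → Subgroup.center R ≤ Subgroup.centralizer (X : Set R) ∧
      Subgroup.centralizer (X : Set R) ≤ X := fun X hX =>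
    ⟨Subgroup.center_le_centralizer _, ((Subgroup.centralizer_le hX).trans hCA).trans hX⟩
  have hAne : A ≠ ⊥ := by
    rintro rfl
    have : (⊤ : Subgroup R) ≤ ⊥ := by
      refine le_trans ?_ hCA
      intro x _
      exact mem_centralizer_of_conj_eq fun y hy => by simp [Subgroup.mem_bot.mp hy]
    exact top_ne_bot (le_bot_iff.mp this)
  have hL : A ≤ Cfsg.puigSubgroup R := le_iInf fun n => hA1 _
  have hL' : A ≤ Cfsg.puigLower R := le_trans (hA1 _) (le_iSup (fun n => Cfsg.puigSeq R (2 * n)) 1)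
  exact ⟨fun i hi => by obtain ⟨j, rfl⟩ := Nat.exists_eq_succ_of_ne_zero hi.ne'; exact key _ (hA1 _),
    key _ hL', key _ hL, ne_bot_of_le_ne_bot hAne hL, ne_bot_of_le_ne_bot hAne hL'⟩

end Cfsg.Agent.S1466
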