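import Cfsg.Statements.S1469
import Cfsg.Agent.Lib.OddLocal.PuigTheorem

set_option autoImplicit false
open Cfsg

namespace Cfsg.Agent.S1469

/-- Let p be an odd prime, G a solvable group of odd order and S a Sylow p-subgroup, and let Z be the centre of the Puig subgroup L(S), viewed inside G. Then G is generated by O_{p'}(G) and N_G(Z); and if O_{p'}(G) = 1 then Z is normal in G. -/
theorem result {G : Type*} [Group G] [Finite G] [Group.IsSolvable G] (hodd : Odd (Nat.card G)) (p : ℕ) [Fact p.Prime] (hp : p ≠ 2) (S : Sylow p G) :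
    Cfsg.pPrimeCore p G ⊔ Subgroup.normalizer ((((Subgroup.center ↥(Cfsg.puigSubgroup ↥(S : Subgroup G))).map (Cfsg.puigSubgroup ↥(S : Subgroup G)).subtype).map (S : Subgroup G).subtype : Subgroup G) : Set G) = ⊤ ∧
      (Cfsg.pPrimeCore p G = ⊥ → (((Subgroup.center ↥(Cfsg.puigSubgroup ↥(S : Subgroup G))).map (Cfsg.puigSubgroup ↥(S : Subgroup G)).subtype).map (S : Subgroup G).subtype).Normal) := by
  open Cfsg.Agent.Lib.OddLocal in
  have hZ : (((Subgroup.center ↥(Cfsg.puigSubgroup ↥(S : Subgroup G))).map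
      (Cfsg.puigSubgroup ↥(S : Subgroup G)).subtype).map (S : Subgroup G).subtype) =
      puigCenterIn (S : Subgroup G) := by
    refine le_antisymm ?_ ?_
    · rintro _ ⟨_, ⟨z, hz, rfl⟩, rfl⟩
      refine ⟨Subgroup.mem_map_of_mem _ z.2, Subgroup.mem_centralizer_iff.mpr ?_⟩
      rintro _ ⟨y, hy, rfl⟩
      exact congrArg Subtype.val (congrArg Subtype.val (Subgroup.mem_center_iff.mp hz ⟨y, hy⟩))
    · rintro _ ⟨⟨z, hz, rfl⟩, hzc⟩
      refine ⟨z, ⟨⟨z, hz⟩, Subgroup.mem_center_iff.mpr fun y => ?_, rfl⟩, rfl⟩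
      exact Subtype.ext (Subtype.ext
        (Subgroup.mem_centralizer_iff.mp hzc _ (Subgroup.mem_map_of_mem _ y.2)))
  rw [hZ]
  refine ⟨?_, fun hO => puigCenterIn_normal hodd p hp hO S⟩
  set K := Cfsg.pPrimeCore p G with hK
  set Z := puigCenterIn (S : Subgroup G)
  set π := QuotientGroup.mk' K
  have hKp : (Nat.card K).Coprime p := Cfsg.Agent.Lib.Cores.pPrimeCore_coprime p G
  have hZS : Z ≤ (S : Subgroup G) := inf_le_left.trans (Subgroup.map_subtype_le _)
  have hcopS : ∀ H : Subgroup G, H ≤ (S : Subgroup G) → (Nat.card K).Coprime (Nat.card H) := by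
    intro H hH
    obtain ⟨j, hj⟩ := (S.2.to_le hH).exists_card_eq
    rw [hj]; exact hKp.pow_right j
  have hinj : Function.Injective (π.comp (S : Subgroup G).subtype) := by
    rw [← MonoidHom.ker_eq_bot_iff, Subgroup.eq_bot_iff_forall]
    intro x hx
    have : (x : G) ∈ K := (QuotientGroup.eq_one_iff (x : G)).mp hx
    exact Subtype.ext (Cfsg.Agent.Lib.Coprime.eq_one_of_mem_of_mem (hcopS _ le_rfl) this x.2)
  haveI : Group.IsSolvable (G ⧸ K) := Group.isSolvable_of_surjective (QuotientGroup.mk'_surjective _)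
  have hn := puigCenterIn_normal (hodd.of_dvd_nat (Subgroup.card_quotient_dvd_card _)) p hp
    (Cfsg.Agent.Lib.Cores.pPrimeCore_quotient_pPrimeCore p G) (S.mapSurjective (QuotientGroup.mk'_surjective K))
  rw [Sylow.coe_mapSurjective, ← map_puigCenterIn π (S : Subgroup G) hinj] at hn
  have hKZ : (K ⊔ Z).Normal := by
    have := hn.comap π
    rwa [Subgroup.comap_map_eq, QuotientGroup.ker_mk', sup_comm] at this
  rw [← top_le_iff]
  intro g _
  open scoped Pointwise in
  obtain ⟨n, hn, hnc⟩ := Cfsg.Agent.Lib.Coprime.exists_conj_eq_of_le_sup (N := K) (H := Z)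
    (K := MulAut.conj g • Z) Subgroup.le_normalizer_of_normal (hcopS Z hZS) (Or.inl inferInstance)
    (Cfsg.Agent.Lib.Coprime.card_conj_smul g Z) (fun x hx => by
      rw [Cfsg.Agent.Lib.Coprime.mem_conj_smul] at hx
      simpa [mul_assoc] using hKZ.conj_mem _ (Subgroup.mem_sup_right hx) g)
  have hN : n⁻¹ * g ∈ Subgroup.normalizer (Z : Set G) := by
    apply Cfsg.Agent.Lib.Coprime.mem_normalizer_of_conj_smul_eq
    open scoped Pointwise in
    rw [Cfsg.Agent.Lib.Coprime.conj_mul_smul, ← hnc, ← Cfsg.Agent.Lib.Coprime.conj_mul_smul,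
      inv_mul_cancel, Cfsg.Agent.Lib.Coprime.conj_one_smul]
  simpa using mul_mem (Subgroup.mem_sup_left hn : n ∈ K ⊔ Subgroup.normalizer (Z : Set G))
    (Subgroup.mem_sup_right hN)

end Cfsg.Agent.S1469
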