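import Cfsg.Statements.S1470
import Mathlib.FieldTheory.Finite.Trace
import Mathlib.FieldTheory.Finite.GaloisField

set_option autoImplicit false
open Cfsg

namespace Cfsg.Agent.S1470

/-- Let p and q be odd primes with (p^q − 1)/(p − 1) coprime to p − 1, and let E be the set of elements a of the field with p ^ q elements whose norm to the prime field is 1 and for which 2 − a also has norm 1. If a⁻¹ ∈ E for every a ∈ E and E has at least two elements, then p ≤ q. -/
theorem result (p q : ℕ) [Fact p.Prime] [Fact q.Prime] (hp : p ≠ 2) (hq : q ≠ 2) (hA : Nat.Coprime ((p ^ q - 1) / (p - 1)) (p - 1))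
    (hinv : ∀ a ∈ {a : GaloisField p q | Algebra.norm (ZMod p) a = 1 ∧ Algebra.norm (ZMod p) (2 - a) = 1}, a⁻¹ ∈ {a : GaloisField p q | Algebra.norm (ZMod p) a = 1 ∧ Algebra.norm (ZMod p) (2 - a) = 1})
    (h2 : 2 ≤ Set.ncard {a : GaloisField p q | Algebra.norm (ZMod p) a = 1 ∧ Algebra.norm (ZMod p) (2 - a) = 1}) :
    p ≤ q := by
  classical
  set E := {a : GaloisField p q | Algebra.norm (ZMod p) a = 1 ∧ Algebra.norm (ZMod p) (2 - a) = 1}
    with hEdef
  have hq0 : q ≠ 0 := (Fact.out : q.Prime).ne_zero
  obtain ⟨a, ha, ha1⟩ : ∃ a ∈ E, a ≠ 1 := by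
    by_contra! h
    have : E.ncard ≤ ({1} : Set (GaloisField p q)).ncard :=
      Set.ncard_le_ncard (fun x hx => Set.mem_singleton_iff.mpr (h x hx)) (Set.finite_singleton 1)
    rw [Set.ncard_singleton] at this
    omega
  have hne : ∀ x ∈ E, x ≠ 0 := by
    rintro x hx rfl
    simpa [Algebra.norm_zero] using hx.1
  have hseq : ∀ k : ℕ, ∀ x ∈ E, Algebra.norm (ZMod p) ((k : GaloisField p q) + 1 - k * x) = 1 := by
    intro k
    induction k with
    | zero => intro x _; simp
    | succ k ih =>
      intro x hx
      have h2x : 2 - x ∈ E := ⟨hx.2, by rw [sub_sub_cancel]; exact hx.1⟩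
      have hy : (2 - x)⁻¹ ∈ E := hinv _ h2x
      have hne2 : (2 : GaloisField p q) - x ≠ 0 := hne _ h2x
      have e : (2 - x) * ((k : GaloisField p q) + 1 - k * (2 - x)⁻¹)
          = ((k + 1 : ℕ) : GaloisField p q) + 1 - ((k + 1 : ℕ) : GaloisField p q) * x := by
        push_cast; field_simp; ring
      rw [← e, map_mul, hx.2, ih _ hy, one_mul]
  let b : GaloisField p q := 1 - a
  have hb : b ≠ 0 := sub_ne_zero.mpr ha1.symm
  let P : Polynomial (GaloisField p q) :=
    (∏ i ∈ Finset.range q, (Polynomial.C (b ^ p ^ i) * Polynomial.X + Polynomial.C 1)) - 1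
  have hfac : ∀ i, (Polynomial.C (b ^ p ^ i) * Polynomial.X + Polynomial.C 1).natDegree = 1 :=
    fun i => Polynomial.natDegree_linear (pow_ne_zero _ hb)
  have hdeg : P.natDegree = q := by
    have h1 : (∏ i ∈ Finset.range q,
        (Polynomial.C (b ^ p ^ i) * Polynomial.X + Polynomial.C 1)).natDegree = q := by
      rw [Polynomial.natDegree_prod]
      · rw [Finset.sum_congr rfl (fun i _ => hfac i)]; simp
      · intro i _ h0
        have := hfac i
        rw [h0] at this
        simp at this
    show (_ - (1 : Polynomial (GaloisField p q))).natDegree = q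
    rw [Polynomial.natDegree_sub_eq_left_of_natDegree_lt (by rw [h1, Polynomial.natDegree_one]; omega)]
    exact h1
  have hP0 : P ≠ 0 := fun h0 => hq0 (by rw [← hdeg, h0, Polynomial.natDegree_zero])
  let S : Finset (GaloisField p q) :=
    Finset.univ.image (algebraMap (ZMod p) (GaloisField p q))
  have hS : S.card = p := by
    rw [Finset.card_image_of_injective _ (algebraMap (ZMod p) (GaloisField p q)).injective,
      Finset.card_univ, ZMod.card]
  have hroot : S.val ≤ P.roots := by
    rw [Multiset.le_iff_subset S.nodup]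
    intro x hx
    obtain ⟨t, -, rfl⟩ := Finset.mem_image.mp hx
    rw [Polynomial.mem_roots hP0, Polynomial.IsRoot, Polynomial.eval_sub, Polynomial.eval_one,
      Polynomial.eval_prod, sub_eq_zero]
    obtain ⟨k, rfl⟩ := ZMod.natCast_zmod_surjective t
    have := congrArg (algebraMap (ZMod p) (GaloisField p q)) (hseq k a ha)
    rw [FiniteField.algebraMap_norm_eq_prod_pow, GaloisField.finrank p hq0, Nat.card_zmod,
      map_one] at this
    refine (Finset.prod_congr rfl fun i _ => ?_).trans this
    simp only [Polynomial.eval_add, Polynomial.eval_mul, Polynomial.eval_C, Polynomial.eval_X,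
      map_natCast, b]
    rw [show (k : GaloisField p q) + 1 - k * a = (k : GaloisField p q) * (1 - a) + 1 by ring,
      add_pow_char_pow, mul_pow, one_pow]
    rw [← map_natCast (algebraMap (ZMod p) (GaloisField p q)) k, ← map_pow, ZMod.pow_card_pow]
    ring
  have := (Multiset.card_le_card hroot).trans (Polynomial.card_roots' P)
  simpa [hS, hdeg] using this

end Cfsg.Agent.S1470
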