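import Cfsg.Statements.S1471


set_option autoImplicit false
open Cfsg

namespace Cfsg.Agent.S1471

open Polynomial

theorem norm_of_root {p : ℕ} [Fact p.Prime] (h : (ZMod p)[X]) (hm : h.Monic) (hi : Irreducible h)
    (hd : h.natDegree = 3) (a : GaloisField p 3) (ha : aeval a h = 0) :
    Algebra.norm (ZMod p) a = -h.coeff 0 := by
  haveI : Fact (Irreducible h) := ⟨hi⟩
  let pb := AdjoinRoot.powerBasis hi.ne_zero
  let φ : AdjoinRoot h →ₐ[ZMod p] GaloisField p 3 :=
    AdjoinRoot.liftAlgHom h (Algebra.ofId _ _) a ha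
  have hfin : Module.finrank (ZMod p) (AdjoinRoot h) = 3 := by
    rw [pb.finrank, AdjoinRoot.powerBasis_dim, hd]
  haveI := pb.finite
  have hbij : Function.Bijective φ := by
    have hinj : Function.Injective φ := φ.toRingHom.injective
    exact ⟨hinj, (LinearMap.injective_iff_surjective_of_finrank_eq_finrank
      (f := φ.toLinearMap) (hfin.trans (GaloisField.finrank p (by norm_num)).symm)).mp hinj⟩
  have h1 := Algebra.norm_eq_of_algEquiv (AlgEquiv.ofBijective φ hbij) (AdjoinRoot.root h)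
  have h2 : AlgEquiv.ofBijective φ hbij (AdjoinRoot.root h) = a :=
    AdjoinRoot.liftAlgHom_root h (Algebra.ofId _ _) a ha
  rw [h2] at h1
  rw [h1, ← AdjoinRoot.powerBasis_gen hi.ne_zero,
    Algebra.PowerBasis.norm_gen_eq_coeff_zero_minpoly, AdjoinRoot.powerBasis_dim, hd]
  rw [show minpoly (ZMod p) (AdjoinRoot.powerBasis hi.ne_zero).gen = h from ?_]
  · ring
  · rw [AdjoinRoot.powerBasis_gen, AdjoinRoot.minpoly_root hi.ne_zero, hm.leadingCoeff]
    simp

theorem cubic_case (p : ℕ) [Fact p.Prime] (hp : p ≠ 2) :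
    ∃ a : GaloisField p 3, a ≠ 1 ∧ Algebra.norm (ZMod p) a = 1 ∧
      Algebra.norm (ZMod p) (2 - a) = 1 := by
  classical
  have h2 : (2 : ZMod p) ≠ 0 := by
    intro h
    have : ((2 : ℕ) : ZMod p) = 0 := by exact_mod_cast h
    rw [ZMod.natCast_eq_zero_iff] at this
    exact hp ((Nat.prime_dvd_prime_iff_eq Fact.out Nat.prime_two).mp this)
  let D : Finset (ZMod p) := (Finset.univ.erase 0).erase 2
  let φ : ZMod p → ZMod p := fun x => (x ^ 3 - 3 * x - 1) / (x ^ 2 - 2 * x)
  obtain ⟨s, hs⟩ : ∃ s, s ∉ D.image φ := by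
    by_contra! h
    have h1 : Finset.univ.card ≤ (D.image φ).card := Finset.card_le_card fun x _ => h x
    have h3 : D.card < (Finset.univ : Finset (ZMod p)).card :=
      Finset.card_lt_card ⟨Finset.subset_univ _, fun hle => by simpa [D] using hle (Finset.mem_univ (0 : ZMod p))⟩
    exact absurd (h1.trans Finset.card_image_le) (not_le.mpr h3)
  let f : (ZMod p)[X] := X ^ 3 + C (-s) * X ^ 2 + C (2 * s - 3) * X + C (-1)
  let g : (ZMod p)[X] := X ^ 3 + C (s - 6) * X ^ 2 + C (9 - 2 * s) * X + C (-1)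
  have hfd : f.natDegree = 3 := by unfold f; compute_degree!
  have hgd : g.natDegree = 3 := by unfold g; compute_degree!
  have hfm : f.Monic := by unfold f; monicity!
  have hgm : g.Monic := by unfold g; monicity!
  have hfr : ∀ x, ¬ IsRoot f x := by
    intro x hx
    have hx' : x ^ 3 + -s * x ^ 2 + (2 * s - 3) * x + -1 = 0 := by simpa [f, IsRoot] using hx
    by_cases h0 : x = 0
    · subst h0
      exact one_ne_zero (α := ZMod p) (by linear_combination -hx')
    by_cases hx2 : x = 2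
    · subst hx2
      exact one_ne_zero (α := ZMod p) (by linear_combination hx')
    have hne : x ^ 2 - 2 * x ≠ 0 := by
      rw [show x ^ 2 - 2 * x = x * (x - 2) by ring]
      exact mul_ne_zero h0 (sub_ne_zero.mpr hx2)
    refine hs (Finset.mem_image.mpr ⟨x, by simp [D, h0, hx2], ?_⟩)
    show (x ^ 3 - 3 * x - 1) / (x ^ 2 - 2 * x) = s
    rw [div_eq_iff hne]
    linear_combination hx'
  have hgr : ∀ x, ¬ IsRoot g x := by
    intro x hx
    have hx' : x ^ 3 + (s - 6) * x ^ 2 + (9 - 2 * s) * x + -1 = 0 := by simpa [g, IsRoot] using hx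
    apply hfr (2 - x)
    simp [f, IsRoot]
    linear_combination -hx'
  have hfi : Irreducible f :=
    irreducible_of_degree_le_three_of_not_isRoot (by rw [hfd]; simp) hfr
  have hgi : Irreducible g :=
    irreducible_of_degree_le_three_of_not_isRoot (by rw [hgd]; simp) hgr
  haveI : Fact (Irreducible f) := ⟨hfi⟩
  haveI := (AdjoinRoot.powerBasis hfi.ne_zero).finite
  haveI : Finite (AdjoinRoot f) := Module.finite_of_finite (ZMod p)
  have hcard : Nat.card (AdjoinRoot f) = p ^ 3 := by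
    rw [Module.natCard_eq_pow_finrank (K := ZMod p), Nat.card_zmod,
      (AdjoinRoot.powerBasis hfi.ne_zero).finrank, AdjoinRoot.powerBasis_dim, hfd]
  let e := GaloisField.algEquivGaloisField p 3 hcard
  let a := e (AdjoinRoot.root f)
  have ha : aeval a f = 0 := by
    rw [aeval_algHom_apply e, AdjoinRoot.aeval_eq, AdjoinRoot.mk_self, map_zero]
  have hga : aeval (2 - a) g = 0 := by
    have e0 : a ^ 3 + -algebraMap (ZMod p) _ s * a ^ 2 +
        (2 * algebraMap (ZMod p) _ s - 3) * a + -1 = 0 := by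
      simpa [f, map_ofNat] using ha
    simp [g, map_ofNat]
    linear_combination -e0
  refine ⟨a, ?_, ?_, ?_⟩
  · intro h1
    refine hfr 1 ?_
    rw [h1] at ha
    have : algebraMap (ZMod p) (GaloisField p 3) (f.eval 1) = 0 := by
      rw [← ha, ← aeval_algebraMap_apply_eq_algebraMap_eval, map_one]
    exact (map_eq_zero _).mp this
  · rw [norm_of_root f hfm hfi hfd a ha]; simp [f]
  · rw [norm_of_root g hgm hgi hgd _ hga]; simp [g]

theorem big_case (p q : ℕ) [Fact p.Prime] (hp : p ≠ 2) (hq : 5 ≤ q) :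
    2 ≤ Set.ncard {a : GaloisField p q |
      Algebra.norm (ZMod p) a = 1 ∧ Algebra.norm (ZMod p) (2 - a) = 1} := by
  classical
  haveI := Fintype.ofFinite (GaloisField p q)
  set F := GaloisField p q
  obtain ⟨ψ, hψ⟩ := (AddChar.exists_apply_ne_zero (a := (1 : F))).mpr one_ne_zero
  have hψ1 : ψ ≠ 1 := fun h => hψ (by rw [h]; rfl)
  have hprim := AddChar.IsPrimitive.of_ne_one hψ1
  have hchar : 0 < ringChar F := by
    rw [ringChar.eq F p]; exact (Fact.out : p.Prime).pos
  let U : Finset F := Finset.univ.filter fun u => Algebra.norm (ZMod p) u = 1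
  have hU : ∀ u, u ∈ U ↔ Algebra.norm (ZMod p) u = 1 := fun u => by simp [U]
  have hUne : ∀ u ∈ U, u ≠ 0 := by
    intro u hu h
    rw [hU, h, Algebra.norm_zero] at hu
    exact zero_ne_one hu
  have hUmul : ∀ u ∈ U, ∀ w ∈ U, u * w ∈ U := by
    intro u hu w hw
    rw [hU] at hu hw ⊢
    rw [map_mul, hu, hw, mul_one]
  have hUbij : ∀ u ∈ U, U.image (u * ·) = U := by
    intro u hu
    refine Finset.eq_of_subset_of_card_le (Finset.image_subset_iff.mpr fun w hw => hUmul u hu w hw) ?_
    rw [Finset.card_image_of_injective _ (mul_right_injective₀ (hUne u hu))]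
  set n := U.card with hn
  set Q := Fintype.card F with hQdef
  have hQ : Q = p ^ q := by
    rw [hQdef, ← Nat.card_eq_fintype_card, GaloisField.card p q (by omega)]
  -- lower bound on n
  have hnQ : Q - 1 ≤ n * (p - 1) := by
    have h1 := Finset.card_le_mul_card_image (f := fun x : F => Algebra.norm (ZMod p) x)
      (Finset.univ.erase (0 : F)) n ?_
    · rw [Finset.card_erase_of_mem (Finset.mem_univ _), Finset.card_univ] at h1
      refine h1.trans (Nat.mul_le_mul_left n ?_)
      have h2 : ((Finset.univ.erase (0 : F)).image fun x => Algebra.norm (ZMod p) x) ⊆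
          Finset.univ.erase 0 := by
        intro c hc
        simp only [Finset.mem_image, Finset.mem_erase] at hc
        obtain ⟨x, ⟨hx, -⟩, rfl⟩ := hc
        simp [hx]
      refine (Finset.card_le_card h2).trans ?_
      rw [Finset.card_erase_of_mem (Finset.mem_univ _), Finset.card_univ, ZMod.card]
    · intro c hc
      simp only [Finset.mem_image, Finset.mem_erase] at hc
      obtain ⟨x, ⟨hx, -⟩, rfl⟩ := hc
      refine Finset.card_le_card_of_injOn (fun y => y / x) ?_ ?_
      · intro y hy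
        simp only [Finset.coe_filter, Set.mem_setOf_eq] at hy
        simp only [Finset.mem_coe, hU]
        rw [div_eq_mul_inv, map_mul, hy.2, ← map_mul, mul_inv_cancel₀ hx, map_one]
      · intro y _ z _ h
        exact (div_left_inj' hx).mp h
  -- character sums
  let S : F → ℂ := fun t => ∑ u ∈ U, ψ (t * u)
  have hS0 : S 0 = n := by simp [S, hn]
  have hSu : ∀ u ∈ U, ∀ t, S (t * u) = S t := by
    intro u hu t
    calc S (t * u) = ∑ w ∈ U, ψ (t * (u * w)) := by simp [S, mul_assoc]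
      _ = ∑ w ∈ U.image (u * ·), ψ (t * w) := by
          rw [Finset.sum_image fun x _ y _ h => mul_right_injective₀ (hUne u hu) h]
      _ = S t := by rw [hUbij u hu]
  have horth : ∀ b : F, ∑ t, ψ (t * b) = if b = 0 then (Q : ℂ) else 0 := by
    intro b
    rw [AddChar.sum_mulShift b hprim]
    split <;> simp [hQdef]
  have hsq : ∑ t, ‖S t‖ ^ 2 = (Q * n : ℝ) := by
    have : ∑ t, (starRingEnd ℂ) (S t) * S t = (Q * n : ℂ) := by
      calc ∑ t, (starRingEnd ℂ) (S t) * S t
          = ∑ t, ∑ u ∈ U, ∑ w ∈ U, ψ (t * (w - u)) := by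
            refine Finset.sum_congr rfl fun t _ => ?_
            simp only [S, map_sum, Finset.sum_mul_sum]
            refine Finset.sum_congr rfl fun u _ => Finset.sum_congr rfl fun w _ => ?_
            rw [AddChar.starComp_apply hchar, AddChar.inv_apply, ← AddChar.map_add_eq_mul]
            congr 1
            ring
        _ = ∑ u ∈ U, ∑ w ∈ U, ∑ t, ψ (t * (w - u)) := by
            rw [Finset.sum_comm]
            exact Finset.sum_congr rfl fun u _ => Finset.sum_comm
        _ = ∑ u ∈ U, (Q : ℂ) := by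
            refine Finset.sum_congr rfl fun u hu => ?_
            simp [horth, sub_eq_zero, hu]
        _ = (Q * n : ℂ) := by rw [Finset.sum_const, nsmul_eq_mul, ← hn]; ring
    have h' : ((∑ t, ‖S t‖ ^ 2 : ℝ) : ℂ) = ((Q * n : ℝ) : ℂ) := by
      push_cast
      rw [← this]
      exact Finset.sum_congr rfl fun t _ => (Complex.conj_mul' _).symm
    exact_mod_cast h'
  have hbound : ∀ t : F, t ≠ 0 → ‖S t‖ ≤ Real.sqrt Q := by
    intro t ht
    refine Real.le_sqrt_of_sq_le ?_
    have hn0 : 0 < n := Finset.card_pos.mpr ⟨1, (hU 1).mpr (map_one _)⟩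
    have h1 : (n : ℝ) * ‖S t‖ ^ 2 ≤ ∑ x, ‖S x‖ ^ 2 := by
      calc (n : ℝ) * ‖S t‖ ^ 2 = ∑ u ∈ U, ‖S (t * u)‖ ^ 2 := by
            rw [Finset.sum_congr rfl fun u hu => by rw [hSu u hu], Finset.sum_const, nsmul_eq_mul]
        _ = ∑ x ∈ U.image (t * ·), ‖S x‖ ^ 2 := by
            rw [Finset.sum_image fun x _ y _ h => mul_right_injective₀ ht h]
        _ ≤ _ := Finset.sum_le_univ_sum_of_nonneg (fun x => sq_nonneg _)
    rw [hsq] at h1
    exact le_of_mul_le_mul_left (by linarith) (show (0 : ℝ) < n by exact_mod_cast hn0)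
  let E := U.filter fun u => 2 - u ∈ U
  have hA : ∑ t, S t ^ 2 * ψ (-2 * t) = (Q : ℂ) * E.card := by
    calc ∑ t, S t ^ 2 * ψ (-2 * t) = ∑ t, ∑ u ∈ U, ∑ w ∈ U, ψ (t * (w - (2 - u))) := by
          refine Finset.sum_congr rfl fun t _ => ?_
          simp only [S, sq, Finset.sum_mul_sum]
          rw [Finset.sum_mul]
          refine Finset.sum_congr rfl fun u _ => ?_
          rw [Finset.sum_mul]
          refine Finset.sum_congr rfl fun w _ => ?_
          rw [← AddChar.map_add_eq_mul, ← AddChar.map_add_eq_mul]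
          congr 1
          ring
      _ = ∑ u ∈ U, ∑ w ∈ U, ∑ t, ψ (t * (w - (2 - u))) := by
          rw [Finset.sum_comm]
          exact Finset.sum_congr rfl fun u _ => Finset.sum_comm
      _ = ∑ u ∈ U, (if 2 - u ∈ U then (Q : ℂ) else 0) := by
          refine Finset.sum_congr rfl fun u _ => ?_
          simp [horth, sub_eq_zero]
      _ = _ := by
          rw [← Finset.sum_filter, Finset.sum_const, nsmul_eq_mul]; ring
  have hsym : (n : ℂ) * ((Q : ℂ) * E.card) = ∑ t, S t ^ 2 * S (-2 * t) := by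
    calc (n : ℂ) * ((Q : ℂ) * E.card) = ∑ u ∈ U, ∑ t, S t ^ 2 * ψ (-2 * t) := by
          rw [hA, Finset.sum_const, nsmul_eq_mul]
      _ = ∑ u ∈ U, ∑ t, S t ^ 2 * ψ (-2 * t * u) := by
          refine Finset.sum_congr rfl fun u hu => ?_
          rw [← Equiv.sum_comp (Equiv.mulRight₀ u (hUne u hu))]
          refine Finset.sum_congr rfl fun t _ => ?_
          simp [hSu u hu, mul_assoc]
      _ = _ := by
          rw [Finset.sum_comm]
          exact Finset.sum_congr rfl fun t _ => by simp [S, Finset.mul_sum]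
  have hsplit : (n : ℂ) * ((Q : ℂ) * E.card) - (n : ℂ) ^ 3 =
      ∑ t ∈ Finset.univ.erase 0, S t ^ 2 * S (-2 * t) := by
    rw [hsym, ← Finset.add_sum_erase _ _ (Finset.mem_univ (0 : F))]
    simp [hS0]
    ring
  have h20 : (2 : F) ≠ 0 := by
    intro h
    have : ((2 : ℕ) : F) = 0 := by exact_mod_cast h
    rw [CharP.cast_eq_zero_iff F p] at this
    exact hp ((Nat.prime_dvd_prime_iff_eq Fact.out Nat.prime_two).mp this)
  have hmain : |(n : ℝ) * ((Q : ℝ) * E.card) - (n : ℝ) ^ 3| ≤ Real.sqrt Q * (Q * n) := by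
    have e1 : |(n : ℝ) * ((Q : ℝ) * E.card) - (n : ℝ) ^ 3| =
        ‖(n : ℂ) * ((Q : ℂ) * E.card) - (n : ℂ) ^ 3‖ := by
      rw [← Real.norm_eq_abs, ← Complex.norm_real]; push_cast; rfl
    rw [e1, hsplit, ← hsq, Finset.mul_sum]
    refine (norm_sum_le _ _).trans ?_
    refine le_trans (Finset.sum_le_sum fun t ht => ?_)
      (Finset.sum_le_univ_sum_of_nonneg fun t => mul_nonneg (Real.sqrt_nonneg _) (sq_nonneg _))
    rw [norm_mul, norm_pow, mul_comm]
    exact mul_le_mul_of_nonneg_right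
      (hbound _ (mul_ne_zero (neg_ne_zero.mpr h20) (Finset.ne_of_mem_erase ht))) (sq_nonneg _)
  by_contra hcon
  have hE : E.card ≤ 1 := by
    have : E.card = Set.ncard {a : F |
        Algebra.norm (ZMod p) a = 1 ∧ Algebra.norm (ZMod p) (2 - a) = 1} := by
      rw [← Set.ncard_coe_finset]
      congr 1
      ext a
      simp [E, hU]
    rw [this]
    exact Nat.le_of_lt_succ (not_le.mp hcon)
  -- arithmetic
  have hp3 : 3 ≤ p := by
    have := (Fact.out : p.Prime).two_le; omega
  obtain ⟨k, rfl⟩ : ∃ k, q = k + 5 := ⟨q - 5, by omega⟩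
  set P : ℕ := p ^ (k + 4) with hP
  have hQP : Q = P * p := by rw [hQ, hP, ← pow_succ]
  have hP1 : 1 ≤ P := Nat.one_le_pow _ _ (by omega)
  have hnP : P ≤ n := by
    have h1 : P * (p - 1) ≤ Q - 1 := by
      rw [hQP, Nat.mul_sub, mul_one]; omega
    exact Nat.le_of_mul_le_mul_right (h1.trans hnQ) (by omega)
  have hPbig : 9 * p ^ 3 ≤ 4 * P := by
    have h1 : p ^ 4 ≤ P := Nat.pow_le_pow_right (by omega) (by omega)
    have h2 : 3 * p ^ 3 ≤ p ^ 4 := by
      rw [show p ^ 4 = p * p ^ 3 by ring]; exact Nat.mul_le_mul_right _ hp3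
    omega
  have hnr : (0 : ℝ) < n := by exact_mod_cast (show 0 < n by omega)
  have hQr : (0 : ℝ) < Q := by exact_mod_cast (show 0 < Q from Fintype.card_pos)
  have hx : (n : ℝ) ^ 2 - (Q : ℝ) ≤ Real.sqrt Q * Q := by
    have hEr : (E.card : ℝ) ≤ 1 := by exact_mod_cast hE
    have h2 : (n : ℝ) ^ 3 - (n : ℝ) * ((Q : ℝ) * E.card) ≤ Real.sqrt Q * (Q * n) :=
      le_trans (by rw [← neg_sub]; exact neg_le_abs _) hmain
    have h3 : (Q : ℝ) * E.card ≤ Q := mul_le_of_le_one_right hQr.le hEr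
    refine le_of_mul_le_mul_left ?_ hnr
    have := mul_le_mul_of_nonneg_left h3 hnr.le
    linear_combination h2 + this
  have hP3 : (Q : ℝ) * 3 ≤ (n : ℝ) ^ 2 := by
    have : Q * 3 ≤ n ^ 2 := by
      calc Q * 3 = P * (p * 3) := by rw [hQP]; ring
        _ ≤ P * P := by
            refine Nat.mul_le_mul_left _ ?_
            have : p * 9 ≤ p ^ 3 := by
              rw [show p ^ 3 = p * (p * p) by ring]
              exact Nat.mul_le_mul_left p (Nat.mul_le_mul hp3 hp3)
            omega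
        _ ≤ n ^ 2 := by rw [sq]; exact Nat.mul_le_mul hnP hnP
    exact_mod_cast this
  have h9 : (n : ℝ) ^ 2 * 2 ≤ 3 * (Real.sqrt Q * Q) := by linear_combination 3 * hx + hP3
  have h4 : 4 * (n : ℝ) ^ 4 ≤ 9 * (Q : ℝ) ^ 3 := by
    have := pow_le_pow_left₀ (by positivity) h9 2
    rw [mul_pow, mul_pow, mul_pow, Real.sq_sqrt hQr.le] at this
    linear_combination this
  have h5 : 4 * n ^ 4 ≤ 9 * Q ^ 3 := by exact_mod_cast h4
  have h6 : 4 * P ^ 4 ≤ 9 * Q ^ 3 :=
    (Nat.mul_le_mul_left 4 (Nat.pow_le_pow_left hnP 4)).trans h5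
  rw [hQP] at h6
  have h7 : P ^ 3 * (9 * p ^ 3) ≤ P ^ 3 * (4 * P) := Nat.mul_le_mul_left _ hPbig
  have h8 : P ^ 3 * (4 * P) ≤ P ^ 3 * (9 * p ^ 3) := by
    rw [show P ^ 3 * (4 * P) = 4 * P ^ 4 by ring,
      show P ^ 3 * (9 * p ^ 3) = 9 * (P * p) ^ 3 by ring]
    exact h6
  have h10 : 4 * P = 9 * p ^ 3 :=
    Nat.eq_of_mul_eq_mul_left (by positivity) (le_antisymm h8 h7)
  have hodd : p % 2 = 1 := (Nat.Prime.eq_two_or_odd Fact.out).resolve_left hp
  have : (9 * p ^ 3) % 2 = 1 := by simp [Nat.mul_mod, Nat.pow_mod, hodd]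
  omega

/-- Let p and q be odd primes with (p^q − 1)/(p − 1) coprime to p − 1. Then there are at least two elements a of the field with p ^ q elements such that both a and 2 − a have norm 1 to the prime field. -/
theorem result (p q : ℕ) [Fact p.Prime] [Fact q.Prime] (hp : p ≠ 2) (hq : q ≠ 2) (hA : Nat.Coprime ((p ^ q - 1) / (p - 1)) (p - 1)) :
    2 ≤ Set.ncard {a : GaloisField p q | Algebra.norm (ZMod p) a = 1 ∧ Algebra.norm (ZMod p) (2 - a) = 1} := by
  classical
  have hq2 := (Fact.out : q.Prime).two_le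
  rcases (show q = 3 ∨ q = 4 ∨ 5 ≤ q by omega) with rfl | rfl | h5
  · obtain ⟨a, ha1, ha, ha2⟩ := cubic_case p hp
    have : ({1, a} : Set (GaloisField p 3)) ⊆ {a : GaloisField p 3 |
        Algebra.norm (ZMod p) a = 1 ∧ Algebra.norm (ZMod p) (2 - a) = 1} := by
      rintro x (rfl | rfl)
      · exact ⟨map_one _, by rw [show (2 : GaloisField p 3) - 1 = 1 by ring, map_one]⟩
      · exact ⟨ha, ha2⟩
    have h2 := Set.ncard_le_ncard this (Set.toFinite _)
    rwa [Set.ncard_pair ha1.symm] at h2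
  · exact absurd (Fact.out : Nat.Prime 4) (by norm_num)
  · exact big_case p q hp h5

end Cfsg.Agent.S1471
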