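import Cfsg.Statements.S1472
import Cfsg.Agent.Lib.AppC.Contra
import Cfsg.Agent.S1471

set_option autoImplicit false
open Cfsg

namespace Cfsg.Agent.S1472

/-- Let p, q be primes with (p^q − 1)/(p − 1) coprime to p − 1, G a finite group, F a field with p ^ q elements, and P, U, Q subgroups of G with: f : G → F bijective from P onto F and additive on P; U normalizing P and acting through ψ : G → F, injective and multiplicative on U with ψ(u) ≠ 0 and f(uxu⁻¹) = ψ(u) f(x); #U · (p − 1) = p^q − 1; Q abelian of order coprime to p, normalized by every x ∈ P with f(x) in the prime field; and some y ∈ Q such that y x y⁻¹ normalizes U for every such x. Then p ≤ q. -/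
theorem result {G : Type*} [Group G] [Finite G] (p q : ℕ) [Fact p.Prime] [Fact q.Prime] (hA : Nat.Coprime ((p ^ q - 1) / (p - 1)) (p - 1))
    (F : Type*) [Field F] [Fintype F] (hF : Fintype.card F = p ^ q) (P U Q : Subgroup G) (f ψ : G → F)
    (hf : Set.BijOn f (P : Set G) Set.univ) (hfadd : ∀ x ∈ P, ∀ z ∈ P, f (x * z) = f x + f z)
    (hUP : U ≤ Subgroup.normalizer (P : Set G)) (hψ : ∀ u ∈ U, ψ u ≠ 0 ∧ ∀ x ∈ P, f (u * x * u⁻¹) = ψ u * f x)
    (hψmul : ∀ u ∈ U, ∀ v ∈ U, ψ (u * v) = ψ u * ψ v) (hψinj : Set.InjOn ψ (U : Set G)) (hUcard : Nat.card U * (p - 1) = p ^ q - 1)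
    (hQ : IsMulCommutative Q) (hQp : (Nat.card Q).Coprime p) (hP0Q : ∀ x ∈ P, f x ^ p = f x → x ∈ Subgroup.normalizer (Q : Set G))
    (y : G) (hy : y ∈ Q) (hP0U : ∀ x ∈ P, f x ^ p = f x → y * x * y⁻¹ ∈ Subgroup.normalizer (U : Set G)) :
    p ≤ q := by
  classical
  by_contra hpq
  push Not at hpq
  have hpp : p.Prime := Fact.out
  have hqq : q.Prime := Fact.out
  have hp2 : p ≠ 2 := by
    intro h; subst h; have := hqq.two_le; omega
  have hpodd : p % 2 = 1 := hpp.eq_two_or_odd.resolve_left hp2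
  have hq2 : q ≠ 2 := by
    intro h; subst h
    have h1 : (p ^ 2 - 1) / (p - 1) = p + 1 := by
      rw [show p ^ 2 - 1 = (p + 1) * (p - 1) by rw [← Nat.sq_sub_sq, one_pow],
        Nat.mul_div_cancel _ (by omega)]
    rw [h1] at hA
    exact absurd (Nat.eq_one_of_dvd_coprimes hA (show 2 ∣ p + 1 by omega) (show 2 ∣ p - 1 by omega))
      (by norm_num)
  have hqodd : q % 2 = 1 := hqq.eq_two_or_odd.resolve_left hq2
  have hchar : CharP F p := charP_of_card_eq_prime_pow hF
  haveI : ExpChar F p := ExpChar.prime hpp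
  have hpF : ∀ k : ℤ, ((k : F)) ^ p = k := fun k => map_intCast (frobenius F p) k
  -- the inverse of `f` on `P`
  choose e heP hfe using fun x : F => hf.surjOn (Set.mem_univ x)
  have einj : Function.Injective e := fun a b h => by rw [← hfe a, h, hfe b]
  have eadd : ∀ x z, e (x + z) = e x * e z := fun x z => by
    refine hf.injOn (heP _) (P.mul_mem (heP x) (heP z)) ?_
    rw [hfe, hfadd _ (heP x) _ (heP z), hfe, hfe]
  have econj : ∀ u ∈ U, ∀ x, u * e x * u⁻¹ = e (ψ u * x) := fun u hu x => by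
    refine hf.injOn ((Subgroup.mem_normalizer_iff.mp (hUP hu) (e x)).mp (heP x)) (heP _) ?_
    rw [(hψ u hu).2 _ (heP x), hfe, hfe]
  -- the group `U`
  set n := Nat.card U with hn
  have hn1 : 1 < n := by
    by_contra h
    push Not at h
    have h2 : p ^ 2 ≤ p ^ q := Nat.pow_le_pow_right hpp.pos hqq.two_le
    have h3 : n * (p - 1) ≤ 1 * (p - 1) := Nat.mul_le_mul_right _ h
    have h4 : p * 2 ≤ p ^ 2 := by rw [pow_two]; exact Nat.mul_le_mul_left _ hpp.two_le
    have := hpp.two_le
    omega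
  have hndiv : (p ^ q - 1) / (p - 1) = n := by
    rw [← hUcard, Nat.mul_div_cancel _ (by omega)]
  have hψ1 : ψ 1 = 1 := by
    have h := hψmul 1 U.one_mem 1 U.one_mem
    rw [one_mul] at h
    exact (mul_eq_left₀ (hψ 1 U.one_mem).1).mp h.symm
  have hψk : ∀ u ∈ U, ∀ k : ℕ, ψ (u ^ k) = ψ u ^ k := fun u hu k => by
    induction k with
    | zero => simp [hψ1]
    | succ k ih => rw [pow_succ, hψmul _ (pow_mem hu k) _ hu, ih, pow_succ]
  have ψpow : ∀ u ∈ U, ψ u ^ n = 1 := fun u hu => by
    rw [← hψk u hu, hn]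
    have h : (⟨u, hu⟩ : U) ^ Nat.card U = 1 := pow_card_eq_one'
    have h' : u ^ Nat.card U = 1 := congrArg Subtype.val h
    rw [h', hψ1]
  have ψsurj : ∀ x : F, x ^ n = 1 → ∃ u ∈ U, ψ u = x := by
    intro x hx
    haveI : Fintype U := Fintype.ofFinite U
    let A : Finset F := Finset.univ.image (fun u : U => ψ u)
    have hA1 : A.card = n := by
      have hinj : Function.Injective (fun u : U => ψ u) :=
        fun u v h => Subtype.ext (hψinj u.2 v.2 h)
      show (Finset.univ.image _).card = n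
      rw [Finset.card_image_of_injective _ hinj, Finset.card_univ, ← Nat.card_eq_fintype_card]
    have hA2 : A ⊆ (Polynomial.nthRoots n (1 : F)).toFinset := by
      intro z hz
      obtain ⟨u, -, rfl⟩ := Finset.mem_image.mp hz
      rw [Multiset.mem_toFinset, Polynomial.mem_nthRoots (by omega)]
      exact ψpow u u.2
    have hA3 := Finset.eq_of_subset_of_card_le hA2
      ((Multiset.toFinset_card_le _).trans ((Polynomial.card_nthRoots n 1).trans hA1.ge))
    have : x ∈ A := by
      rw [hA3, Multiset.mem_toFinset, Polynomial.mem_nthRoots (by omega)]; exact hx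
    obtain ⟨u, -, rfl⟩ := Finset.mem_image.mp this
    exact ⟨u, u.2, rfl⟩
  have prime_field : ∀ x : F, x ^ p = x → ∃ k : ℤ, (k : F) = x := by
    intro x hx
    exact (mem_bot_iff_intCast p F).mp ((Subfield.mem_bot_iff_pow_eq_self F p).mpr hx)
  have hQp' : ∀ a ∈ Q, a ^ p = 1 → a = 1 := by
    intro a ha h
    have h1 : orderOf a ∣ p := orderOf_dvd_of_pow_eq_one h
    have h2 : orderOf a ∣ Nat.card Q := Subgroup.orderOf_dvd_natCard Q ha
    exact orderOf_eq_one_iff.mp (Nat.eq_one_of_dvd_coprimes hQp h2 h1)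
  let C : Cfsg.Agent.AppC.Config G F :=
    { p := p, q := q, hp := hpp, hq := hqq, hp2 := hp2, hpq := by omega
      charF := hchar, e := e, einj := einj, eadd := eadd, U := U, Q := Q, ψ := ψ
      econj := econj, ψmul := hψmul, ψinj := hψinj, n := n, hn := hUcard, hn1 := hn1, hUn := rfl
      ncop := hndiv ▸ hA
      ψsurj := ψsurj, ψpow := ψpow
      fermat := fun x hx => hF ▸ FiniteField.pow_card_sub_one_eq_one x hx
      prime_field := prime_field
      hQc := fun a ha b hb => congrArg Subtype.val (hQ.is_comm.comm ⟨a, ha⟩ ⟨b, hb⟩)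
      hQp := hQp', y := y, hy := hy
      hQn := fun k a ha => (Subgroup.mem_normalizer_iff.mp
        (hP0Q _ (heP _) (by rw [hfe]; exact hpF k)) a).mp ha
      hUnorm := fun k u hu => (Subgroup.mem_normalizer_iff.mp
        (hP0U _ (heP _) (by rw [hfe]; exact hpF k)) u).mp hu }
  -- a non-trivial pair
  letI : Algebra (ZMod p) F := ZMod.algebra F p
  have h2 := Cfsg.Agent.S1471.result p q hp2 hq2 hA
  obtain ⟨a', ha', ha1⟩ := Set.exists_ne_of_one_lt_ncard (show 1 < _ from h2) (1 : GaloisField p q)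
  let φ := GaloisField.algEquivGaloisFieldOfFintype p q hF
  have hnorm : ∀ z : GaloisField p q, Algebra.norm (ZMod p) z = 1 → (φ.symm z) ^ n = 1 := by
    intro z hz
    have h3 := FiniteField.algebraMap_norm_eq_pow (K := ZMod p) (x := z)
    rw [hz, map_one, GaloisField.card p q hqq.ne_zero, Nat.card_zmod, hndiv] at h3
    rw [← map_pow, ← h3, map_one]
  obtain ⟨ua, hua, hψa⟩ := ψsurj _ (hnorm a' ha'.1)
  obtain ⟨ub, hub, hψb⟩ := ψsurj _ (hnorm (2 - a') ha'.2)
  have h1 : C.ψ ua = 1 := C.pair_trivial hua hub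
    (by show ψ ua + ψ ub = 2; rw [hψa, hψb, ← map_add, add_sub_cancel, map_ofNat])
  apply ha1
  have : φ.symm a' = 1 := by rw [← hψa]; exact h1
  simpa using congrArg φ this

end Cfsg.Agent.S1472
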