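import Cfsg.Statements.S1475
import Cfsg.Agent.Lib.Coprime
import Cfsg.Agent.Lib.Frobenius.Structure

set_option autoImplicit false
open Cfsg

namespace Cfsg.Agent.S1475

section

variable {G : Type*} [Group G] [Finite G]

theorem eq_one_of_commute {p r : ℕ} [Fact p.Prime] [Fact r.Prime] (hpr : p ≠ r)
    (h : ∀ g : G, IsPrimePow (orderOf g) ∨ g = 1) {u w : G} (hu : ∃ k, orderOf u = p ^ k)
    (hw : orderOf w = r) (huw : Commute u w) : u = 1 := by
  by_contra hu1
  obtain ⟨k, hk⟩ := hu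
  have hk0 : k ≠ 0 := fun h0 => hu1 (orderOf_eq_one_iff.mp (by rw [hk, h0, pow_zero]))
  have hcop : (orderOf u).Coprime (orderOf w) := by
    rw [hk, hw]
    exact Nat.Coprime.pow_left k ((Nat.coprime_primes Fact.out Fact.out).mpr hpr)
  have ho := huw.orderOf_mul_eq_mul_orderOf_of_coprime hcop
  rcases h (u * w) with h1 | h1
  · rw [ho, hk, hw] at h1
    obtain ⟨s, j, hs, -, hj⟩ := h1
    have hps : p ∣ s := (Fact.out : p.Prime).dvd_of_dvd_pow
      (hj ▸ dvd_mul_of_dvd_left (dvd_pow_self p hk0) r)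
    have hrs : r ∣ s := (Fact.out : r.Prime).dvd_of_dvd_pow (hj ▸ dvd_mul_left r (p ^ k))
    have hs' := Nat.prime_iff.mpr hs
    exact hpr (((Nat.prime_dvd_prime_iff_eq Fact.out hs').mp hps).trans
      ((Nat.prime_dvd_prime_iff_eq Fact.out hs').mp hrs).symm)
  · rw [h1, orderOf_one, hk, hw] at ho
    exact (Fact.out : r.Prime).ne_one (Nat.eq_one_of_mul_eq_one_left ho.symm)

theorem not_frobenius_fixedPointFree (h : ∀ g : G, IsPrimePow (orderOf g) ∨ g = 1)
    {p r q : ℕ} [Fact p.Prime] [Fact r.Prime] [Fact q.Prime] (hpr : p ≠ r) (hpq : p ≠ q) (hrq : r ≠ q)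
    (N R : Subgroup G) [N.Normal] (hNc : IsMulCommutative N) (hNp : IsPGroup p N) (hN : N ≠ ⊥)
    (hRr : ∀ y ∈ R, y ^ r = 1) (hR : R ≠ ⊥) (hRp : IsPGroup r R) (x : G) (hx : orderOf x = q)
    (hxR : x ∈ Subgroup.normalizer (R : Set G)) : False := by
  have hXR : Subgroup.zpowers x ≤ Subgroup.normalizer (R : Set G) := Subgroup.zpowers_le.mpr hxR
  set S := R ⊔ Subgroup.zpowers x with hS
  let _ : CommGroup N := { (inferInstance : Group N) with mul_comm := fun a b => hNc.is_comm.comm a b }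
  let φ : S →* MulAut N :=
    { toFun := fun s => MulAut.conjNormal (s : G)
      map_one' := by simp
      map_mul' := fun a b => by simp [map_mul] }
  have hfix : ∀ (s : S) (v : N), φ s v = v → Commute (v : G) (s : G) := by
    intro s v hv
    have h1 : (s : G) * (v : G) * (s : G)⁻¹ = v := congrArg Subtype.val hv
    exact (mul_inv_eq_iff_eq_mul.mp h1).symm
  have hvord : ∀ v : N, ∃ k, orderOf (v : G) = p ^ k := fun v => by
    obtain ⟨k, hk⟩ := (IsPGroup.iff_orderOf.mp hNp) v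
    exact ⟨k, by rw [Subgroup.orderOf_coe, hk]⟩
  have hcopRN : (Nat.card (R.subgroupOf S)).Coprime (Nat.card N) := by
    rw [Nat.card_congr (Subgroup.subgroupOfEquivOfLe le_sup_left).toEquiv]
    obtain ⟨i, hi⟩ := IsPGroup.iff_card.mp hNp
    obtain ⟨j, hj⟩ := IsPGroup.iff_card.mp hRp
    rw [hi, hj]
    exact Nat.Coprime.pow _ _ ((Nat.coprime_primes Fact.out Fact.out).mpr (Ne.symm hpr))
  have hcR : ∀ n : ℕ, ∀ y ∈ R, x ^ n * y * (x ^ n)⁻¹ = y → x ^ n = 1 ∨ y = 1 := by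
    intro n y hy hc
    by_cases hy1 : y = 1
    · exact Or.inr hy1
    refine Or.inl (eq_one_of_commute (p := q) (r := r) (Ne.symm hrq) h ?_
      (orderOf_eq_prime (hRr y hy) hy1) (mul_inv_eq_iff_eq_mul.mp hc))
    have hd : orderOf (x ^ n) ∣ q ^ 1 := by rw [pow_one, ← hx]; exact orderOf_pow_dvd n
    obtain ⟨j, -, hj⟩ := (Nat.dvd_prime_pow (Fact.out : q.Prime)).mp hd
    exact ⟨j, hj⟩
  have hdisj : R.subgroupOf S ⊓ (Subgroup.zpowers x).subgroupOf S = ⊥ := by
    rw [Subgroup.eq_bot_iff_forall]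
    rintro ⟨y, hyS⟩ ⟨hyR, hyX⟩
    refine Subtype.ext (Cfsg.Agent.Lib.Coprime.eq_one_of_mem_of_mem (N := R) (H := Subgroup.zpowers x)
      ?_ hyR hyX)
    obtain ⟨j, hj⟩ := IsPGroup.iff_card.mp hRp
    rw [hj, Nat.card_zpowers, hx]
    exact Nat.Coprime.pow_left j ((Nat.coprime_primes Fact.out Fact.out).mpr hrq)
  have hcover : ∀ a : S, a ∉ R.subgroupOf S →
      ∃! f : R.subgroupOf S, (f : S)⁻¹ * a * f ∈ (Subgroup.zpowers x).subgroupOf S := by
    rintro ⟨a, haS⟩ ha
    obtain ⟨y, hy, z, hz, rfl⟩ := Cfsg.Agent.Lib.Coprime.exists_mul_of_mem_sup hXR haS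
    obtain ⟨n, rfl⟩ := (Submonoid.mem_powers_iff _ _).mp
      (mem_powers_iff_mem_zpowers.mpr hz)
    have hn1 : x ^ n ≠ 1 := fun e => ha (by
      show y * x ^ n ∈ R
      rw [e, mul_one]; exact hy)
    have hconj : ∀ f ∈ R, x ^ n * f * (x ^ n)⁻¹ ∈ R := fun f hf =>
      (Subgroup.mem_normalizer_iff.mp (pow_mem hxR n) f).mp hf
    let ψ : R → R := fun f => f * ⟨x ^ n * (f : G)⁻¹ * (x ^ n)⁻¹, hconj _ (inv_mem f.2)⟩
    have hψ : Function.Injective ψ := by
      intro f g e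
      have e' : (f : G) * (x ^ n * (f : G)⁻¹ * (x ^ n)⁻¹) = g * (x ^ n * (g : G)⁻¹ * (x ^ n)⁻¹) :=
        congrArg Subtype.val e
      have e2 : x ^ n * ((g : G)⁻¹ * f) * (x ^ n)⁻¹ = (g : G)⁻¹ * f := by
        have := congrArg (fun t => (g : G)⁻¹ * t * (x ^ n * f * (x ^ n)⁻¹)) e'
        simp only [mul_assoc, inv_mul_cancel_left, mul_inv_cancel_left, mul_inv_cancel,
          mul_one] at this ⊢
        exact this.symm
      rcases hcR n _ (mul_mem (inv_mem g.2) f.2) e2 with h1 | h1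
      · exact absurd h1 hn1
      · exact Subtype.ext (inv_mul_eq_one.mp h1).symm
    obtain ⟨f, hf⟩ := Finite.injective_iff_surjective.mp hψ ⟨y, hy⟩
    have hf' : (f : G) * (x ^ n * (f : G)⁻¹ * (x ^ n)⁻¹) = y := congrArg Subtype.val hf
    refine ⟨⟨⟨f, Subgroup.mem_sup_left f.2⟩, f.2⟩, ?_, ?_⟩
    · show (f : G)⁻¹ * (y * x ^ n) * f ∈ Subgroup.zpowers x
      rw [← hf']
      simp only [mul_assoc, inv_mul_cancel_left, inv_mul_cancel, mul_one]
      exact pow_mem (Subgroup.mem_zpowers x) n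
    · rintro ⟨⟨g, hgS⟩, hg : g ∈ R⟩ (hgx : g⁻¹ * (y * x ^ n) * g ∈ Subgroup.zpowers x)
      have hmem : g⁻¹ * (y * x ^ n) * g * (x ^ n)⁻¹ ∈ R := by
        rw [show g⁻¹ * (y * x ^ n) * g * (x ^ n)⁻¹ = g⁻¹ * y * (x ^ n * g * (x ^ n)⁻¹) by group]
        exact mul_mem (mul_mem (inv_mem hg) hy) (hconj g hg)
      have hbot := Cfsg.Agent.Lib.Coprime.eq_one_of_mem_of_mem (N := R) (H := Subgroup.zpowers x)
        (by
          obtain ⟨j, hj⟩ := IsPGroup.iff_card.mp hRp
          rw [hj, Nat.card_zpowers, hx]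
          exact Nat.Coprime.pow_left j ((Nat.coprime_primes Fact.out Fact.out).mpr hrq))
        hmem (mul_mem hgx (inv_mem (pow_mem (Subgroup.mem_zpowers x) n)))
      have e3 : ψ ⟨g, hg⟩ = ψ f := by
        rw [hf]
        apply Subtype.ext
        show g * (x ^ n * g⁻¹ * (x ^ n)⁻¹) = y
        have := congrArg (fun t => g * t * (x ^ n * g⁻¹ * (x ^ n)⁻¹)) hbot
        simp only [mul_assoc, mul_inv_cancel_left, inv_mul_cancel_left, mul_inv_cancel,
          one_mul, mul_one] at this ⊢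
        exact this.symm
      have := congrArg Subtype.val (hψ e3)
      exact Subtype.ext (Subtype.ext this)
  obtain ⟨v, hv⟩ : ∃ v : N, v ≠ 1 := by
    by_contra! hall
    exact hN ((Subgroup.eq_bot_iff_forall _).mpr fun z hz => congrArg Subtype.val (hall ⟨z, hz⟩))
  obtain ⟨y0, hy0, hy1⟩ : ∃ y ∈ R, y ≠ 1 := by
    by_contra! hall
    exact hR ((Subgroup.eq_bot_iff_forall _).mpr hall)
  refine hv (Cfsg.Agent.Lib.Frobenius.eq_one_of_frobenius_partition φ (R.subgroupOf S)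
    ((Subgroup.zpowers x).subgroupOf S) hcopRN hcover hdisj ?_ ?_ v)
  · intro w hw
    refine Subtype.ext (eq_one_of_commute (p := p) (r := r) hpr h (hvord w)
      (orderOf_eq_prime (hRr y0 hy0) hy1) (hfix ⟨y0, Subgroup.mem_sup_left hy0⟩ w (hw _ hy0)))
  · intro w hw
    refine Subtype.ext (eq_one_of_commute (p := p) (r := q) hpq h (hvord w) hx
      (hfix ⟨x, Subgroup.mem_sup_right (Subgroup.mem_zpowers x)⟩ w (hw _ (Subgroup.mem_zpowers x))))

end

theorem two_primes {G : Type*} [Group G] [Finite G] [Group.IsSolvable G]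
    (h : ∀ g : G, IsPrimePow (orderOf g) ∨ g = 1) : (Nat.card G).primeFactors.card ≤ 2 := by
  classical
  by_contra hlt
  rw [not_le] at hlt
  have : Nontrivial G := by
    rw [← Finite.one_lt_card_iff_nontrivial]
    by_contra h1
    have : Nat.card G = 1 := le_antisymm (not_lt.mp h1) Nat.card_pos
    simp [this] at hlt
  obtain ⟨p, N, hp, hNn, hN, hNc, hNp, -⟩ :=
    Cfsg.Agent.Lib.Coprime.exists_normal_isPGroup_isMulCommutative G
  have := hNn
  have := Fact.mk hp
  obtain ⟨K, hK, hKi⟩ := Cfsg.Agent.Lib.Coprime.exists_hall_of_solvable (G := G) (fun r => r ≠ p)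
  have hmemK : ∀ r ∈ (Nat.card G).primeFactors.erase p, r ∈ (Nat.card K).primeFactors := by
    intro r hr
    obtain ⟨hrp, hr⟩ := Finset.mem_erase.mp hr
    obtain ⟨hr', hdvd, -⟩ := Nat.mem_primeFactors.mp hr
    refine Nat.mem_primeFactors.mpr ⟨hr', ?_, Nat.card_pos.ne'⟩
    rw [← K.card_mul_index] at hdvd
    exact (hr'.dvd_mul.mp hdvd).resolve_right fun hd => hKi r hr' hd hrp
  have hKcard : 1 < ((Nat.card G).primeFactors.erase p).card := by
    have := Finset.pred_card_le_card_erase (a := p) (s := (Nat.card G).primeFactors)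
    omega
  have : Nontrivial K := by
    obtain ⟨r, hr⟩ := Finset.card_pos.mp (zero_lt_one.trans hKcard)
    obtain ⟨hr', hd, -⟩ := Nat.mem_primeFactors.mp (hmemK r hr)
    rw [← Finite.one_lt_card_iff_nontrivial]
    exact lt_of_lt_of_le hr'.one_lt (Nat.le_of_dvd Nat.card_pos hd)
  obtain ⟨r, R, hr, hRn, hR, -, hRp, hRr⟩ :=
    Cfsg.Agent.Lib.Coprime.exists_normal_isPGroup_isMulCommutative K
  have := Fact.mk hr
  have hrK : r ∣ Nat.card K := by
    obtain ⟨j, hj⟩ := IsPGroup.iff_card.mp hRp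
    have hj0 : j ≠ 0 := fun e => hR (Subgroup.card_eq_one.mp (by rw [hj, e, pow_zero]))
    exact (dvd_pow_self r hj0).trans (hj ▸ Subgroup.card_subgroup_dvd_card R)
  have hrp : r ≠ p := hK r hr hrK
  obtain ⟨q, hqm, hqr⟩ := Finset.exists_mem_ne hKcard r
  obtain ⟨hq, hqK, -⟩ := Nat.mem_primeFactors.mp (hmemK q hqm)
  have hqp : q ≠ p := (Finset.mem_erase.mp hqm).1
  have := Fact.mk hq
  obtain ⟨x, hx⟩ := exists_prime_orderOf_dvd_card' q hqK
  refine not_frobenius_fixedPointFree (p := p) (r := r) (q := q) h (Ne.symm hrp) (Ne.symm hqp)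
    (Ne.symm hqr) N (R.map K.subtype) hNc hNp hN ?_ ?_ (hRp.map K.subtype) (x : G)
    (by rw [Subgroup.orderOf_coe, hx]) ?_
  · rintro _ ⟨y, hy, rfl⟩
    rw [← map_pow, hRr y hy, map_one]
  · intro e
    rw [Subgroup.map_eq_bot_iff, Subgroup.ker_subtype, le_bot_iff] at e
    exact hR e
  · rw [Subgroup.mem_normalizer_iff]
    intro z
    constructor
    · rintro ⟨y, hy, rfl⟩
      exact ⟨x * y * x⁻¹, hRn.conj_mem y hy x, rfl⟩
    · rintro ⟨y, hy, hyz⟩
      exact ⟨x⁻¹ * y * x, by simpa using hRn.conj_mem y hy x⁻¹, by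
        show (x : G)⁻¹ * y * x = z
        rw [show ((y : K) : G) = x * z * (x : G)⁻¹ from hyz]; group⟩

/-- Let G be a finite solvable group such that the order of every element is a prime power (1 included). Then at most two distinct primes divide the order of G. -/
theorem result {G : Type*} [Group G] [Finite G] [Group.IsSolvable G] (h : ∀ g : G, IsPrimePow (orderOf g) ∨ g = 1) :
    (Nat.card G).primeFactors.card ≤ 2 := by
  exact two_primes h

end Cfsg.Agent.S1475
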