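import Cfsg.Statements.S1476
import Cfsg.Agent.Lib.OddLocal.CNSolvable
import Cfsg.Agent.S1474

set_option autoImplicit false
open Cfsg

namespace Cfsg.Agent.S1476

/-- Let G be a finite solvable group in which every non-identity element has nilpotent centralizer. Then either G is nilpotent; or G has a normal subgroup K with a Frobenius complement E (K E = G, K ∩ E = 1, E meets its conjugates by outside elements trivially) such that E is cyclic or E is generated by two elementwise-commuting subgroups, one cyclic of odd order and one isomorphic to a generalized quaternion group; or G is a three-step group with respect to some prime p. -/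
theorem result {G : Type*} [Group G] [Finite G] [Group.IsSolvable G] (hCN : Cfsg.IsCNGroup G) :
    Group.IsNilpotent G ∨
      (∃ K E : Subgroup G, K.Normal ∧ Subgroup.IsComplement' K E ∧ Cfsg.IsFrobeniusComplement E ∧
        (IsCyclic E ∨ ∃ C Q : Subgroup G, C ⊔ Q = E ∧ (∀ a ∈ C, ∀ b ∈ Q, a * b = b * a) ∧ IsCyclic C ∧ Odd (Nat.card C) ∧
          ∃ n : ℕ, Nonempty (↥Q ≃* QuaternionGroup (2 ^ n)))) ∨
      ∃ p : ℕ, p.Prime ∧ Cfsg.IsThreeStepGroup p G := by
  classical
  by_cases hn : Group.IsNilpotent G
  · exact Or.inl hn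
  right
  have : Nontrivial G := by
    by_contra h
    rw [not_nontrivial_iff_subsingleton] at h
    exact hn inferInstance
  by_cases hs : ∃ (p : ℕ) (_ : Fact p.Prime) (S : Sylow p G), (S : Subgroup G) ≠ ⊥ ∧ (S : Subgroup G).Normal
  · left
    obtain ⟨p, hp, S, hS1, hSn⟩ := hs
    obtain ⟨hb, -, ⟨E, hE, hEf, hfix⟩, hq⟩ := Cfsg.Agent.S1474.result hCN hn p S hS1 hSn
    set H := Cfsg.fittingHall G
    refine ⟨H, E, inferInstance, hE, hEf, ?_⟩
    have hEn : Group.IsNilpotent E := Group.nilpotent_of_mulEquiv (hE.symm.QuotientMulEquiv)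
    have : Nontrivial H := (Subgroup.nontrivial_iff_ne_bot H).mpr hb
    let φ : E →* MulAut H := (MulAut.conjNormal (H := H)).comp E.subtype
    exact Cfsg.Agent.Lib.OddLocal.nilpotent_fixedPointFree_structure hEn φ fun a ha v hv => by
      have h1 : (v : G) ∈ H ⊓ Subgroup.centralizer ({(a : G)} : Set G) :=
        ⟨v.2, Subgroup.mem_centralizer_singleton_iff.mpr
          (mul_inv_eq_iff_eq_mul.mp (congrArg Subtype.val hv)).symm⟩
      rw [hfix a a.2 (fun h => ha (Subtype.ext h)), Subgroup.mem_bot] at h1
      exact Subtype.ext h1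
  · right
    push Not at hs
    exact Cfsg.Agent.Lib.OddLocal.isThreeStep_of_no_normal_sylow hCN fun p hp S hne => hs p hp S hne

end Cfsg.Agent.S1476
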