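import Cfsg.Statements.S1483
import Cfsg.Agent.Lib.OddLocal.CNMinimal2

set_option autoImplicit false
open Cfsg

namespace Cfsg.Agent.S1483

universe v

theorem Commute.isMulCommutative_pair {G : Type v} [Group G] {x y : G} (h : x * y = y * x) :
    IsMulCommutative (Subgroup.closure ({x, y} : Set G)) :=
  Subgroup.isMulCommutative_closure (by
    rintro a (rfl | rfl) b (rfl | rfl) <;> first | rfl | exact h | exact h.symm)

theorem exists_pair_le {G : Type v} [Group G] [Finite G] {x y : G}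
    (hc : IsMulCommutative (Subgroup.closure ({x, y} : Set G)))
    (hG : Cfsg.IsMinSimpleOddOrder G) (hCN : Cfsg.IsCNGroup G) :
    ∃ H : Subgroup G, x ∈ H ∧ y ∈ H ∧ Group.IsNilpotent H ∧
      ∀ L : Subgroup G, Group.IsNilpotent L → H ≤ L → L = H := by
  obtain ⟨H, hle, hH⟩ := Lib.OddLocal.exists_maxNilpotent_ge hG hCN
    (Cfsg.Agent.Lib.Cores.isNilpotent_of_isMulCommutative (Subgroup.closure ({x, y} : Set G)))
  exact ⟨H, hle (Subgroup.subset_closure (Set.mem_insert x _)),
    hle (Subgroup.subset_closure (Set.mem_insert_of_mem _ rfl)), hH⟩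

theorem dvd_card_of_mem {G : Type v} [Group G] [Finite G] {H : Subgroup G} {y : G} {q : ℕ}
    [Fact q.Prime] (hy : y ∈ H) (hy1 : y ≠ 1) (hq : IsPGroup q (Subgroup.zpowers y)) :
    q ∣ Nat.card H := by
  obtain ⟨j, hj⟩ := IsPGroup.iff_card.mp hq
  have hj0 : j ≠ 0 := fun e =>
    hy1 (Subgroup.zpowers_eq_bot.mp (Subgroup.card_eq_one.mp (by rw [hj, e, pow_zero])))
  exact (hj ▸ dvd_pow_self q hj0).trans (Subgroup.card_dvd_of_le (Subgroup.zpowers_le.mpr hy))


/-- Let G be a minimal simple group of odd order in which every non-identity element has nilpotent centralizer. Then any two nilpotent subgroups each contained in no larger nilpotent subgroup are either conjugate or of coprime orders; and for primes p, q, r: if some elements x, y ≠ 1 of p-power and q-power order commute, and some elements y', z ≠ 1 of q-power and r-power order commute, then some elements of p-power and r-power order, both ≠ 1, commute. -/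
theorem result {G : Type*} [Group G] [Finite G] (hG : Cfsg.IsMinSimpleOddOrder G) (hCN : Cfsg.IsCNGroup G) :
    (∀ H₁ H₂ : Subgroup G, (Group.IsNilpotent ↥H₁ ∧ ∀ L : Subgroup G, Group.IsNilpotent L → H₁ ≤ L → L = H₁) → (Group.IsNilpotent ↥H₂ ∧ ∀ L : Subgroup G, Group.IsNilpotent L → H₂ ≤ L → L = H₂) → (∃ g : G, H₂ = H₁.map (MulAut.conj g).toMonoidHom) ∨ (Nat.card H₁).Coprime (Nat.card H₂)) ∧
      ∀ (p q r : ℕ), p.Prime → q.Prime → r.Prime → ∀ (x y y' z : G), x ≠ 1 → y ≠ 1 → y' ≠ 1 → z ≠ 1 →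
        IsPGroup p (Subgroup.zpowers x) → IsPGroup q (Subgroup.zpowers y) → IsPGroup q (Subgroup.zpowers y') → IsPGroup r (Subgroup.zpowers z) →
        x * y = y * x → y' * z = z * y' →
        ∃ x' z' : G, x' ≠ 1 ∧ z' ≠ 1 ∧ IsPGroup p (Subgroup.zpowers x') ∧ IsPGroup r (Subgroup.zpowers z') ∧ x' * z' = z' * x' := by
  constructor
  · intro H₁ H₂ h₁ h₂
    by_cases hc : (Nat.card H₁).Coprime (Nat.card H₂)
    · exact Or.inr hc
    · obtain ⟨p, hp, d₁, d₂⟩ := Nat.Prime.not_coprime_iff_dvd.mp hc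
      have := Fact.mk hp
      exact Or.inl (Lib.OddLocal.maxNilpotent_conj_of_dvd hG hCN h₁ h₂ d₁ d₂)
  · intro p q r hp hq hr x y y' z hx1 hy1 hy'1 hz1 hxp hyq hy'q hzr hxy hyz
    obtain ⟨H₁, hxH, hyH, hH₁⟩ := exists_pair_le (Commute.isMulCommutative_pair hxy) hG hCN
    obtain ⟨H₂, hy'H, hzH, hH₂⟩ := exists_pair_le (Commute.isMulCommutative_pair hyz) hG hCN
    have := Fact.mk hq
    obtain ⟨g, hg⟩ := Lib.OddLocal.maxNilpotent_conj_of_dvd hG hCN hH₁ hH₂
      (dvd_card_of_mem hyH hy1 hyq) (dvd_card_of_mem hy'H hy'1 hy'q)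
    obtain ⟨w, hw, rfl⟩ : z ∈ H₁.map (MulAut.conj g).toMonoidHom := hg ▸ hzH
    have hworder : orderOf (MulAut.conj g w) = orderOf w :=
      orderOf_injective (MulAut.conj g).toMonoidHom (MulAut.conj g).injective w
    have hwr : IsPGroup r (Subgroup.zpowers w) := by
      obtain ⟨j, hj⟩ := (have := Fact.mk hr; IsPGroup.iff_card.mp hzr)
      refine IsPGroup.of_card (n := j) ?_
      rw [Nat.card_zpowers] at hj ⊢
      rw [← hj, ← hworder]
      rfl
    have hw1 : w ≠ 1 := fun e => hz1 (by simp [e])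
    by_cases hpr : p = r
    · subst hpr
      exact ⟨x, x, hx1, hx1, hxp, hxp, rfl⟩
    refine ⟨x, w, hx1, hw1, hxp, hwr, Lib.OddLocal.commute_of_mem_nilpotent hH₁.1 hxH hw ?_⟩
    have hip := Fact.mk hp
    have hir := Fact.mk hr
    obtain ⟨i, hi⟩ := IsPGroup.iff_card.mp hxp
    obtain ⟨j, hj⟩ := IsPGroup.iff_card.mp hwr
    rw [← Nat.card_zpowers, hi, ← Nat.card_zpowers, hj]
    exact Nat.Coprime.pow i j ((Nat.coprime_primes hp hr).mpr hpr)

end Cfsg.Agent.S1483
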