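import Cfsg.Statements.S1485
import Cfsg.Agent.Lib.Characters.Clifford

set_option autoImplicit false
open Cfsg

namespace Cfsg.Agent.S1485

open Cfsg.Agent.Lib.Characters

/-- Let H be a normal subgroup of the finite group G and θ an irreducible character of H. On H, the function induced from θ equals r times the sum of the distinct G-conjugates of θ, where r is the number of elements of G fixing θ under conjugation divided by the order of H (the index of H in the inertia group). -/
theorem result {G : Type*} [Group G] [Fintype G] (H : Subgroup G) [hN : H.Normal] (θ : H → ℂ) (hθ : Cfsg.IsIrrCharacter H θ) : (fun h : H => Cfsg.indFun H θ h) = ((Nat.card {g : G // ∀ h : H, θ ⟨g * h * g⁻¹, hN.conj_mem h h.2 g⟩ = θ h} : ℂ) / (Nat.card H : ℂ)) • ∑ᶠ ψ ∈ {ψ : H → ℂ | ∃ g : G, ψ = fun h : H => θ ⟨g * h * g⁻¹, hN.conj_mem h h.2 g⟩}, ψ := by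
  classical
  funext h
  have h0 := congrFun (indFun_restrict H θ) h
  rw [h0]
  set r : G → (H → ℂ) := fun g => Cfsg.Agent.Lib.Characters.conjFun H g θ with hr
  have hset : {ψ : H → ℂ | ∃ g : G, ψ = fun h : H => θ ⟨g * h * g⁻¹, hN.conj_mem h h.2 g⟩} =
      ((Finset.univ.image r : Finset (H → ℂ)) : Set (H → ℂ)) := by
    ext ψ
    simp only [Set.mem_setOf_eq, Finset.coe_image, Finset.coe_univ, Set.image_univ, Set.mem_range]
    exact ⟨fun ⟨g, hg⟩ => ⟨g, hg.symm⟩, fun ⟨g, hg⟩ => ⟨g, hg.symm⟩⟩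
  rw [hset, finsum_mem_coe_finset]
  have hfib : ∀ ψ ∈ Finset.univ.image r,
      (Finset.univ.filter fun x => r x = ψ).card =
        Nat.card {g : G // ∀ h : H, θ ⟨g * h * g⁻¹, hN.conj_mem h h.2 g⟩ = θ h} := by
    intro ψ hψ
    obtain ⟨g, -, rfl⟩ := Finset.mem_image.mp hψ
    rw [← Fintype.card_subtype, ← Nat.card_eq_fintype_card]
    refine Nat.card_congr
      { toFun := fun x => ⟨x.1 * g⁻¹, congrFun ((mem_inertia_iff H).mp ((conjFun_eq_iff H).mp x.2))⟩
        invFun := fun i => ⟨i.1 * g, (conjFun_eq_iff H).mpr ?_⟩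
        left_inv := fun x => Subtype.ext (by simp)
        right_inv := fun i => Subtype.ext (by simp) }
    rw [mul_inv_cancel_right, mem_inertia_iff]
    exact funext i.2
  have hsum : ∑ x : G, Cfsg.Agent.Lib.Characters.conjFun H x θ =
      (Nat.card {g : G // ∀ h : H, θ ⟨g * h * g⁻¹, hN.conj_mem h h.2 g⟩ = θ h} : ℂ) •
        ∑ ψ ∈ Finset.univ.image r, ψ := by
    rw [Finset.smul_sum, ← Finset.sum_fiberwise_of_maps_to (g := r) (t := Finset.univ.image r)
      (fun x _ => Finset.mem_image_of_mem r (Finset.mem_univ x))]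
    refine Finset.sum_congr rfl fun ψ hψ => ?_
    rw [Finset.sum_congr rfl (g := fun _ => ψ) (fun x hx => (Finset.mem_filter.mp hx).2),
      Finset.sum_const, hfib ψ hψ, ← Nat.cast_smul_eq_nsmul ℂ]
  rw [hsum, smul_smul, div_eq_inv_mul]

end Cfsg.Agent.S1485
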