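import Cfsg.Statements.S1486
import Cfsg.Agent.Lib.Characters.Clifford

set_option autoImplicit false
open Cfsg

namespace Cfsg.Agent.S1486

open Cfsg.Agent.Lib.Characters

/-- Let H be a normal subgroup of the finite group G and θ, φ irreducible characters of H. If φ is a G-conjugate of θ then the functions induced from θ and φ coincide; if φ is not a G-conjugate of θ then the induced functions are orthogonal. -/
theorem result {G : Type*} [Group G] [Fintype G] (H : Subgroup G) [hN : H.Normal] (θ φ : H → ℂ) (hθ : Cfsg.IsIrrCharacter H θ) (hφ : Cfsg.IsIrrCharacter H φ) : ((∃ g : G, φ = fun h : H => θ ⟨g * h * g⁻¹, hN.conj_mem h h.2 g⟩) → Cfsg.indFun H φ = Cfsg.indFun H θ) ∧ ((¬ ∃ g : G, φ = fun h : H => θ ⟨g * h * g⁻¹, hN.conj_mem h h.2 g⟩) → Cfsg.classInner (Cfsg.indFun H φ) (Cfsg.indFun H θ) = 0) := by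
  classical
  refine ⟨fun ⟨g, hg⟩ => ?_, fun hne => ?_⟩
  · subst hg
    funext y
    rw [indFun_apply, indFun_apply]
    refine congrArg _ (Fintype.sum_equiv (Equiv.mulRight g⁻¹) _ _ fun x => ?_)
    have e : (x * g⁻¹)⁻¹ * y * (x * g⁻¹) = g * (x⁻¹ * y * x) * g⁻¹ := by group
    show _ = extendByZero H θ ((x * g⁻¹)⁻¹ * y * (x * g⁻¹))
    rw [e]
    by_cases hm : x⁻¹ * y * x ∈ H
    · rw [extendByZero_of_mem _ _ hm, extendByZero_of_mem _ _ (hN.conj_mem _ hm g)]
    · rw [extendByZero_of_not_mem _ _ hm, extendByZero_of_not_mem]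
      intro hm'
      refine hm ?_
      simpa [mul_assoc] using hN.conj_mem _ hm' g⁻¹
  · rw [classInner_indFun H φ (isClassFunction_indFun H θ), ← classInner_conj_symm,
      classInner_indFun_restrict H hθ hφ]
    haveI : IsEmpty {x : G // Cfsg.Agent.Lib.Characters.conjFun H x θ = φ} := ⟨fun x => hne ⟨x.1, x.2.symm⟩⟩
    simp

end Cfsg.Agent.S1486
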