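import Cfsg.Statements.S1487
import Cfsg.Agent.Lib.Characters.Clifford

set_option autoImplicit false
open Cfsg

namespace Cfsg.Agent.S1487

open Cfsg.Agent.Lib.Characters

/-- Let A ≤ H be normal subgroups of the finite group G and θ an irreducible character of H. Then θ takes the value θ 1 on all of A if and only if the function induced from θ to G takes its value at 1 on all of A. -/
theorem result {G : Type*} [Group G] [Fintype G] (A H : Subgroup G) [A.Normal] [H.Normal] (hAH : A ≤ H) (θ : H → ℂ) (hθ : Cfsg.IsIrrCharacter H θ) : (∀ a : H, (a : G) ∈ A → θ a = θ 1) ↔ (∀ a : G, a ∈ A → Cfsg.indFun H θ a = Cfsg.indFun H θ 1) := by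
  classical
  have hmem : ∀ a ∈ A, ∀ x : G, x⁻¹ * a * x ∈ A := fun a ha x => by
    simpa using (inferInstance : A.Normal).conj_mem a ha x⁻¹
  have hval : ∀ (a : G) (ha : a ∈ A) (x : G), extendByZero H θ (x⁻¹ * a * x) = θ ⟨x⁻¹ * a * x, hAH (hmem a ha x)⟩ :=
    fun a ha x => extendByZero_of_mem _ _ _
  constructor
  · intro h a ha
    rw [indFun_apply, indFun_apply]
    refine congrArg _ (Finset.sum_congr rfl fun x _ => ?_)
    rw [hval a ha x, hval 1 A.one_mem x, h ⟨_, hAH (hmem a ha x)⟩ (hmem a ha x), h ⟨_, hAH (hmem 1 A.one_mem x)⟩ (hmem 1 A.one_mem x)]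
  · intro h a ha
    have h0 := h a ha
    rw [indFun_apply, indFun_apply] at h0
    have h1 := mul_left_cancel₀ (inv_ne_zero natCard_ne_zero_complex) h0
    have hone : ∀ x : G, extendByZero H θ (x⁻¹ * 1 * x) = θ 1 := fun x => by
      have : x⁻¹ * 1 * x = ((1 : H) : G) := by simp
      rw [this, extendByZero_coe]
    rw [Finset.sum_congr rfl fun x _ => hone x, Finset.sum_congr rfl fun x _ => hval _ ha x] at h1
    have hc := IsIrrCharacter.isCharacter hθ
    have h2 := congrArg Complex.re h1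
    rw [Complex.re_sum, Complex.re_sum] at h2
    have hle : ∀ u : H, (θ u).re ≤ (θ 1).re := fun u =>
      (Complex.re_le_norm _).trans (IsCharacter.norm_le_re hc u)
    have h3 := (Finset.sum_eq_sum_iff_of_le (fun x _ => hle ⟨x⁻¹ * (a : G) * x, hAH (hmem _ ha x)⟩)).mp h2 1
      (Finset.mem_univ _)
    have e : (⟨(1 : G)⁻¹ * (a : G) * 1, hAH (hmem _ ha 1)⟩ : H) = a := Subtype.ext (by simp)
    rw [e] at h3
    obtain ⟨d, hd⟩ := IsCharacter.exists_apply_one hc
    have h4 := IsCharacter.norm_le_re hc a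
    have h5 : ‖θ a‖ = (θ a).re := le_antisymm (h3 ▸ h4) (Complex.re_le_norm _)
    have h6 : (θ a).im = 0 := by
      have h7 : (θ a).re ^ 2 + (θ a).im ^ 2 = ‖θ a‖ ^ 2 := by
        rw [Complex.sq_norm, Complex.normSq_apply]; ring
      rw [h5] at h7
      nlinarith
    refine Complex.ext h3 ?_
    rw [h6, hd]; simp

end Cfsg.Agent.S1487
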