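import Cfsg.Statements.S1489
import Cfsg.Agent.Lib.Characters.Clifford

set_option autoImplicit false
open Cfsg

namespace Cfsg.Agent.S1489

open Cfsg.Agent.Lib.Characters

/-- Let H be a normal subgroup of the finite group G, θ an irreducible character of H, and T the inertia group of θ (the elements g with θ(g h g⁻¹) = θ(h) for all h ∈ H). If ψ and ψ' are irreducible characters of T having nonzero inner product with the function induced from θ to T, then the function induced from ψ to G is an irreducible character of G, and it equals the one induced from ψ' only if ψ = ψ'. -/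
theorem result {G : Type*} [Group G] [Fintype G] (H T : Subgroup G) [hN : H.Normal] [Fintype T] (θ : H → ℂ) (hθ : Cfsg.IsIrrCharacter H θ) (hT : ∀ g : G, g ∈ T ↔ ∀ h : H, θ ⟨g * h * g⁻¹, hN.conj_mem h h.2 g⟩ = θ h) (hHT : H ≤ T) (ψ ψ' : T → ℂ) (hψ : Cfsg.IsIrrCharacter T ψ) (hψ' : Cfsg.IsIrrCharacter T ψ') (hc : Cfsg.classInner (Cfsg.indFun (H.subgroupOf T) (fun x => θ ⟨(x : T), Subgroup.mem_subgroupOf.mp x.2⟩)) ψ ≠ 0) (hc' : Cfsg.classInner (Cfsg.indFun (H.subgroupOf T) (fun x => θ ⟨(x : T), Subgroup.mem_subgroupOf.mp x.2⟩)) ψ' ≠ 0) : Cfsg.IsIrrCharacter G (Cfsg.indFun T ψ) ∧ (Cfsg.indFun T ψ = Cfsg.indFun T ψ' → ψ = ψ') := by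
  classical
  haveI := Fintype.ofFinite H
  haveI := Fintype.ofFinite (H.subgroupOf T)
  have hTI : inertia H θ = T := by
    ext g
    rw [mem_inertia_iff, hT g]
    exact funext_iff
  let e : H.subgroupOf T ≃* H := Subgroup.subgroupOfEquivOfLe hHT
  have key : ∀ φ : T → ℂ, Cfsg.IsIrrCharacter T φ →
      classInner (indFun (H.subgroupOf T) (fun x => θ ⟨(x : T), Subgroup.mem_subgroupOf.mp x.2⟩)) φ ≠ 0 →
      classInner (fun n : H => φ ⟨n, hHT n.2⟩) θ ≠ 0 := by
    intro φ hφ h
    rw [classInner_indFun _ _ (IsCharacter.isClassFunction (IsIrrCharacter.isCharacter hφ))] at h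
    intro h0
    apply h
    rw [← classInner_conj_symm]
    have h2 := classInner_comp_equiv e (fun n : H => φ ⟨n, hHT n.2⟩) θ
    rw [h0] at h2
    have h3 : classInner (fun z : H.subgroupOf T => φ z)
        (fun x : H.subgroupOf T => θ ⟨(x : T), Subgroup.mem_subgroupOf.mp x.2⟩) = 0 := h2
    rw [h3, map_zero]
  have main : ∀ φ : T → ℂ, Cfsg.IsIrrCharacter T φ → classInner (fun n : H => φ ⟨n, hHT n.2⟩) θ ≠ 0 →
      ∀ φ' : T → ℂ, Cfsg.IsIrrCharacter T φ' → ∀ χ, Cfsg.IsIrrCharacter G χ → indFun T φ' = χ →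
      classInner (fun n : H => φ' ⟨n, hHT n.2⟩) θ = classInner (fun n : H => χ n) θ →
      classInner (indFun T φ) χ ≠ 0 → φ = φ' := by
    intro φ hφ hφθ φ' hφ' χ hχ hind heq hne
    by_contra hd
    have hres := IsCharacter.restrict (IsIrrCharacter.isCharacter hχ) T
    have hm : classInner (fun t : T => χ t) φ ≠ 0 := by
      intro h0
      apply hne
      rw [classInner_indFun T φ (IsCharacter.isClassFunction (IsIrrCharacter.isCharacter hχ)),
        ← classInner_conj_symm, h0, map_zero]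
    have hm' : classInner (fun t : T => χ t) φ' ≠ 0 := by
      intro h0
      have h1 := IsIrrCharacter.classInner_self hχ
      rw [← hind] at h1
      rw [classInner_indFun T φ' (isClassFunction_indFun T φ'), hind, ← classInner_conj_symm, h0,
        map_zero] at h1
      exact zero_ne_one h1
    obtain ⟨r, hr, hdec⟩ := IsCharacter.exists_add_of_classInner_ne_zero hres hφ' hm'
    have hrφ : classInner r φ ≠ 0 := by
      rw [hdec, classInner_add_left, IsIrrCharacter.classInner_ne hφ' hφ (Ne.symm hd), zero_add] at hm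
      exact hm
    obtain ⟨r', hr', hdec'⟩ := IsCharacter.exists_add_of_classInner_ne_zero hr hφ hrφ
    have hsum : (fun n : H => χ n) = (fun n : H => φ' ⟨n, hHT n.2⟩) +
        ((fun n : H => φ ⟨n, hHT n.2⟩) + fun n : H => r' ⟨n, hHT n.2⟩) := by
      funext n
      have := congrFun hdec ⟨n, hHT n.2⟩
      rw [hdec'] at this
      simpa using this
    have hθc := IsIrrCharacter.isCharacter hθ
    obtain ⟨i, hi⟩ := IsCharacter.exists_classInner_nat
      (IsCharacter.comp (IsIrrCharacter.isCharacter hφ) (Subgroup.inclusion hHT)) hθc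
    obtain ⟨j, hj⟩ := IsCharacter.exists_classInner_nat
      (IsCharacter.comp hr' (Subgroup.inclusion hHT)) hθc
    have hi' : classInner (fun n : H => φ ⟨n, hHT n.2⟩) θ = i := hi
    have hj' : classInner (fun n : H => r' ⟨n, hHT n.2⟩) θ = j := hj
    rw [hsum, classInner_add_left, classInner_add_left, hi', hj', left_eq_add] at heq
    have : i + j = 0 := by exact_mod_cast heq
    exact hφθ (by rw [hi', show i = 0 by omega, Nat.cast_zero])
  have step : ∀ φ : T → ℂ, Cfsg.IsIrrCharacter T φ → classInner (fun n : H => φ ⟨n, hHT n.2⟩) θ ≠ 0 →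
      Cfsg.IsIrrCharacter G (indFun T φ) ∧ ∀ φ' : T → ℂ, Cfsg.IsIrrCharacter T φ' →
        classInner (fun n : H => φ' ⟨n, hHT n.2⟩) θ ≠ 0 → indFun T φ' = indFun T φ → φ' = φ := by
    intro φ hφ hφθ
    have hc := IsCharacter.indFun T (IsIrrCharacter.isCharacter hφ)
    obtain ⟨χ, hχ⟩ := IsCharacter.exists_constituent hc (fun e => IsIrrCharacter.apply_one_ne_zero hφ (by
      have h1 := congrFun e 1
      rw [indFun_one] at h1
      simpa [T.index_ne_zero_of_finite] using h1))
    have hcθ : classInner (fun n : H => (χ : G → ℂ) n) θ ≠ 0 := by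
      have hm : classInner (fun t : T => (χ : G → ℂ) t) φ ≠ 0 := by
        intro h0
        apply hχ
        rw [classInner_indFun T φ (irr_isClassFunction χ), ← classInner_conj_symm, h0, map_zero]
      obtain ⟨r, hr, hdec⟩ := IsCharacter.exists_add_of_classInner_ne_zero
        (IsCharacter.restrict (irr_isCharacter χ) T) hφ hm
      have e : (fun n : H => (χ : G → ℂ) n) =
          (fun n : H => φ ⟨n, hHT n.2⟩) + fun n : H => r ⟨n, hHT n.2⟩ := by
        funext n; exact congrFun hdec ⟨n, hHT n.2⟩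
      rw [e]
      exact IsCharacter.classInner_ne_zero_of_add
        (IsCharacter.comp (IsIrrCharacter.isCharacter hφ) (Subgroup.inclusion hHT))
        (IsCharacter.comp hr (Subgroup.inclusion hHT)) (IsIrrCharacter.isCharacter hθ) hφθ
    obtain ⟨φ₀, hφ₀, hind, heq⟩ := exists_clifford_correspondent H χ.2 hθ hcθ T hTI hHT
    have hφ0 : φ = φ₀ := main φ hφ hφθ φ₀ hφ₀ χ χ.2 hind heq hχ
    have hφχ : indFun T φ = (χ : G → ℂ) := hφ0 ▸ hind
    refine ⟨hφχ ▸ χ.2, fun φ' hφ' hφ'θ he => ?_⟩
    refine (main φ' hφ' hφ'θ φ₀ hφ₀ χ χ.2 hind heq ?_).trans hφ0.symm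
    rw [he]; exact hχ
  exact ⟨(step ψ hψ (key ψ hψ hc)).1,
    fun h => (step ψ' hψ' (key ψ' hψ' hc')).2 ψ hψ (key ψ hψ hc) h⟩

end Cfsg.Agent.S1489
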