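import Cfsg.Statements.S1490
import Cfsg.Agent.Lib.OddChar.InertiaInduce

set_option autoImplicit false
open Cfsg

namespace Cfsg.Agent.S1490

open Cfsg.Agent.Lib.Characters Cfsg.Agent.Lib.OddChar

/-- Let H be a normal subgroup of the finite group G, θ an irreducible character of H with inertia group T, and suppose the commutator of any two elements of T lies in H (T/H abelian). Then there are a positive integer e and a finite set C of irreducible characters of G with e ^ 2 * |C| * |H| = |T|, such that the function induced from θ is e times the sum of the members of C and every member of C has degree [G:T] * e * θ(1). -/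
theorem result {G : Type*} [Group G] [Fintype G] (H T : Subgroup G) [hN : H.Normal] (θ : H → ℂ) (hθ : Cfsg.IsIrrCharacter H θ) (hT : ∀ g : G, g ∈ T ↔ ∀ h : H, θ ⟨g * h * g⁻¹, hN.conj_mem h h.2 g⟩ = θ h) (hab : ∀ x ∈ T, ∀ y ∈ T, x * y * x⁻¹ * y⁻¹ ∈ H) : ∃ (e : ℕ) (C : Finset (G → ℂ)), 0 < e ∧ (∀ χ ∈ C, Cfsg.IsIrrCharacter G χ) ∧ e ^ 2 * C.card * Nat.card H = Nat.card T ∧ Cfsg.indFun H θ = (e : ℂ) • ∑ χ ∈ C, χ ∧ ∀ χ ∈ C, χ 1 = (T.index : ℂ) * e * θ 1 := by
  classical
  have hHT : H ≤ T := fun g hg => (hT g).mpr fun h =>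
    congrFun (conjFun_of_mem H (IsCharacter.isClassFunction (IsIrrCharacter.isCharacter hθ)) hg) h
  have hTi : inertia H θ = T := Subgroup.ext fun g => by
    rw [mem_inertia_iff, hT g, funext_iff]
    rfl
  have hcomm : ∀ x y : T, x * y * x⁻¹ * y⁻¹ ∈ H.subgroupOf T := fun x y =>
    Subgroup.mem_subgroupOf.mpr (hab x x.2 y y.2)
  let eN : H.subgroupOf T ≃* H := Subgroup.subgroupOfEquivOfLe hHT
  have hθ' : Cfsg.IsIrrCharacter (H.subgroupOf T) (θ ∘ eN) := IsIrrCharacter.comp_equiv hθ eN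
  have hinv : ∀ g : T, Cfsg.Agent.Lib.Characters.conjFun (H.subgroupOf T) g (θ ∘ eN) = θ ∘ eN :=
    fun g => funext fun x => (hT g).mp g.2 (eN x)
  obtain ⟨e, C, he, hirr, hcard, hdec, hdeg⟩ :=
    exists_decomp_of_abelian_quot (H.subgroupOf T) hcomm hθ' hinv
  obtain ⟨D, hD, hDc, hDdec, hDdeg⟩ := induce_decomp H hθ T hTi hHT (θ ∘ eN) rfl he hirr hcard hdec
    (fun φ hφ => by rw [hdeg φ hφ, Function.comp_apply, map_one])
  refine ⟨e, D, he, hD, ?_, hDdec, hDdeg⟩
  rw [hDc, hcard, mul_comm, ← Nat.card_congr (Subgroup.subgroupOfEquivOfLe hHT).toEquiv,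
    Subgroup.card_mul_index]

end Cfsg.Agent.S1490
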