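import Cfsg.Statements.S1491
import Cfsg.Agent.Lib.OddChar.InertiaInduce

set_option autoImplicit false
open Cfsg

namespace Cfsg.Agent.S1491

open Cfsg.Agent.Lib.Characters Cfsg.Agent.Lib.OddChar

/-- Let H be a normal subgroup of the finite group G and θ an irreducible character of H with inertia group T, where T/H is abelian (commutators of T lie in H) and the index of H in T is coprime to the order of H. Then the function induced from θ is the sum of a set of exactly [T:H] irreducible characters of G, each of degree [G:T] * θ(1). -/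
theorem result {G : Type*} [Group G] [Fintype G] (H T : Subgroup G) [hN : H.Normal] (θ : H → ℂ) (hθ : Cfsg.IsIrrCharacter H θ) (hT : ∀ g : G, g ∈ T ↔ ∀ h : H, θ ⟨g * h * g⁻¹, hN.conj_mem h h.2 g⟩ = θ h) (hab : ∀ x ∈ T, ∀ y ∈ T, x * y * x⁻¹ * y⁻¹ ∈ H) (hcop : Nat.Coprime (Nat.card H) (H.relIndex T)) : ∃ C : Finset (G → ℂ), (∀ χ ∈ C, Cfsg.IsIrrCharacter G χ) ∧ C.card = H.relIndex T ∧ Cfsg.indFun H θ = ∑ χ ∈ C, χ ∧ ∀ χ ∈ C, χ 1 = (T.index : ℂ) * θ 1 := by
  classical
  have hHT : H ≤ T := fun g hg => (hT g).mpr fun h =>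
    congrFun (conjFun_of_mem H (IsCharacter.isClassFunction (IsIrrCharacter.isCharacter hθ)) hg) h
  have hTi : inertia H θ = T := Subgroup.ext fun g => by
    rw [mem_inertia_iff, hT g, funext_iff]
    rfl
  have hcomm : ∀ x y : T, x * y * x⁻¹ * y⁻¹ ∈ H.subgroupOf T := fun x y =>
    Subgroup.mem_subgroupOf.mpr (hab x x.2 y y.2)
  let eN : H.subgroupOf T ≃* H := Subgroup.subgroupOfEquivOfLe hHT
  have hθ' : Cfsg.IsIrrCharacter (H.subgroupOf T) (θ ∘ eN) := IsIrrCharacter.comp_equiv hθ eN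
  have hinv : ∀ g : T, Cfsg.Agent.Lib.Characters.conjFun (H.subgroupOf T) g (θ ∘ eN) = θ ∘ eN :=
    fun g => funext fun x => (hT g).mp g.2 (eN x)
  have hcop' : Nat.Coprime (Nat.card (H.subgroupOf T)) (H.subgroupOf T).index := by
    rw [Nat.card_congr eN.toEquiv]; exact hcop
  obtain ⟨C, hirr, hcard, hdec, hdeg⟩ := exists_decomp_coprime (H.subgroupOf T) hcomm hcop' hθ' hinv
  obtain ⟨D, hD, hDc, hDdec, hDdeg⟩ := induce_decomp H hθ T hTi hHT (θ ∘ eN) rfl one_pos hirr
    (by simpa using hcard) (by simpa using hdec)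
    (fun φ hφ => by rw [hdeg φ hφ, Function.comp_apply, map_one]; simp)
  refine ⟨D, hD, hDc.trans hcard, by simpa using hDdec, fun χ hχ => by simpa using hDdeg χ hχ⟩

end Cfsg.Agent.S1491
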