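import Cfsg.Statements.S1492
import Cfsg.Agent.Lib.Characters.Clifford

set_option autoImplicit false
open Cfsg

namespace Cfsg.Agent.S1492

open Cfsg.Agent.Lib.Characters

/-- Let ψ be an irreducible character of the finite group G and B ≤ D ≤ C subgroups with B normal in C, every commutator of an element of D with an element of C lying in B (so D/B is central in C/B), and ψ constant equal to ψ 1 on B. Then ψ(1) ^ 2 * |C| * |D| ≤ |G| ^ 2. -/
theorem result {G : Type*} [Group G] [Finite G] (ψ : G → ℂ) (hψ : Cfsg.IsIrrCharacter G ψ) (B C D : Subgroup G) (hBD : B ≤ D) (hDC : D ≤ C) (hBn : ∀ c ∈ C, ∀ b ∈ B, c * b * c⁻¹ ∈ B) (hcent : ∀ d ∈ D, ∀ c ∈ C, d * c * d⁻¹ * c⁻¹ ∈ B) (hker : ∀ b ∈ B, ψ b = ψ 1) : ‖ψ 1‖ ^ 2 * (Nat.card C : ℝ) * (Nat.card D : ℝ) ≤ (Nat.card G : ℝ) ^ 2 := by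
  classical
  haveI := Fintype.ofFinite G
  haveI := Fintype.ofFinite C
  have hψc := IsIrrCharacter.isCharacter hψ
  have hres : Cfsg.IsCharacter C (fun c : C => ψ c) := IsCharacter.restrict hψc C
  obtain ⟨ξ, hξ⟩ := IsCharacter.exists_constituent hres (fun e => IsIrrCharacter.apply_one_ne_zero hψ
    (by simpa using congrFun e 1))
  obtain ⟨rest, hrest, hdec⟩ := IsCharacter.exists_add_of_classInner_ne_zero hres ξ.2 hξ
  -- the degree is at most the index times the degree of the constituent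
  have hind : classInner (indFun C (ξ : C → ℂ)) ψ ≠ 0 := by
    rw [classInner_indFun C _ (IsCharacter.isClassFunction hψc), ← classInner_conj_symm]
    exact (map_ne_zero _).mpr hξ
  obtain ⟨rest', hrest', hdec'⟩ := IsCharacter.exists_add_of_classInner_ne_zero
    (IsCharacter.indFun C (irr_isCharacter ξ)) hψ hind
  have hdeg : ‖ψ 1‖ ≤ (C.index : ℝ) * ((ξ : C → ℂ) 1).re := by
    obtain ⟨a, -, ha⟩ := IsIrrCharacter.exists_apply_one hψ
    obtain ⟨b, hb⟩ := IsCharacter.exists_apply_one hrest'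
    obtain ⟨c, hc⟩ := IsCharacter.exists_apply_one (irr_isCharacter ξ)
    have h1 := congrFun hdec' 1
    rw [indFun_one, Pi.add_apply, ha, hb, hc] at h1
    have h2 : C.index * c = a + b := by exact_mod_cast h1
    rw [ha, hc, Complex.natCast_re, Complex.norm_natCast]
    exact_mod_cast (by omega : a ≤ C.index * c)
  -- kernel
  obtain ⟨n, ρ, hρ, hρc⟩ := ξ.2
  have hB : ∀ b : C, (b : G) ∈ B → ρ b = LinearMap.id := by
    intro b hb
    rw [← char_eq_finrank_iff, ← ρ.char_one, hρc]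
    have h1 : (ξ : C → ℂ) b + rest b = (ξ : C → ℂ) 1 + rest 1 := by
      have e1 := congrFun hdec b
      have e2 := congrFun hdec 1
      simp only [Pi.add_apply] at e1 e2
      rw [← e1, ← e2]
      simpa using hker b hb
    obtain ⟨c, hc⟩ := IsCharacter.exists_apply_one (irr_isCharacter ξ)
    have h2 := IsCharacter.norm_le_re (irr_isCharacter ξ) b
    have h3 := IsCharacter.norm_le_re hrest b
    have h4 := congrArg Complex.re h1
    simp only [Complex.add_re] at h4
    have h5 := Complex.re_le_norm ((ξ : C → ℂ) b)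
    have h6 := Complex.re_le_norm (rest b)
    have h7 : ((ξ : C → ℂ) b).re = ((ξ : C → ℂ) 1).re := by linarith
    have h8 : ‖(ξ : C → ℂ) b‖ = ((ξ : C → ℂ) b).re := le_antisymm (by linarith) h5
    have h9 : ((ξ : C → ℂ) b).im = 0 := by
      have h10 : ((ξ : C → ℂ) b).re ^ 2 + ((ξ : C → ℂ) b).im ^ 2 = ‖(ξ : C → ℂ) b‖ ^ 2 := by
        rw [Complex.sq_norm, Complex.normSq_apply]; ring
      rw [h8] at h10
      nlinarith
    exact Complex.ext h7 (by rw [h9, hc]; simp)
  -- `D` acts by scalars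
  have hD : ∀ d : C, (d : G) ∈ D → ‖(ξ : C → ℂ) d‖ = ((ξ : C → ℂ) 1).re := by
    intro d hd
    obtain ⟨c, hc⟩ := exists_smul_of_commute ρ (ρ d) (fun g => by
      have hb := hB (d * g * d⁻¹ * g⁻¹) (hcent d hd g g.2)
      calc ρ d * ρ g = ρ ((d * g * d⁻¹ * g⁻¹) * (g * d)) := by rw [← map_mul]; congr 1; group
        _ = ρ g * ρ d := by rw [map_mul, hb, map_mul]; rfl)
    rw [← hρc, ρ.char_one, (norm_char_eq_iff ρ d).mpr ⟨c, hc⟩, Complex.natCast_re]
  have hsum := IsIrrCharacter.classInner_self ξ.2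
  rw [classInner, inv_mul_eq_iff_eq_mul₀ natCard_ne_zero_complex, mul_one] at hsum
  have hsum' : ∑ c : C, ‖(ξ : C → ℂ) c‖ ^ 2 = (Nat.card C : ℝ) := by
    have h := congrArg Complex.re hsum
    rw [Complex.re_sum, Complex.natCast_re] at h
    rw [← h]
    refine Finset.sum_congr rfl fun c _ => ?_
    rw [Complex.mul_conj, Complex.ofReal_re, Complex.sq_norm]
  have hlow : (Nat.card D : ℝ) * ((ξ : C → ℂ) 1).re ^ 2 ≤ Nat.card C := by
    rw [← hsum']
    calc (Nat.card D : ℝ) * ((ξ : C → ℂ) 1).re ^ 2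
        = ∑ c ∈ Finset.univ.filter (fun c : C => (c : G) ∈ D), ‖(ξ : C → ℂ) c‖ ^ 2 := by
          rw [Finset.sum_congr rfl fun c hc => by rw [hD c (Finset.mem_filter.mp hc).2],
            Finset.sum_const, nsmul_eq_mul, ← Fintype.card_subtype, ← Nat.card_eq_fintype_card]
          rw [Nat.card_congr (Subgroup.subgroupOfEquivOfLe hDC).toEquiv.symm]
          rfl
      _ ≤ _ := Finset.sum_le_sum_of_subset_of_nonneg (Finset.filter_subset _ _) fun c _ _ => by positivity
  have hidx : (C.index : ℝ) * Nat.card C = Nat.card G := by exact_mod_cast C.index_mul_card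
  calc ‖ψ 1‖ ^ 2 * (Nat.card C : ℝ) * (Nat.card D : ℝ)
      ≤ ((C.index : ℝ) * ((ξ : C → ℂ) 1).re) ^ 2 * (Nat.card C : ℝ) * (Nat.card D : ℝ) := by gcongr
    _ = (C.index : ℝ) ^ 2 * (Nat.card C : ℝ) * ((Nat.card D : ℝ) * ((ξ : C → ℂ) 1).re ^ 2) := by ring
    _ ≤ (C.index : ℝ) ^ 2 * (Nat.card C : ℝ) * (Nat.card C : ℝ) := by gcongr
    _ = (Nat.card G : ℝ) ^ 2 := by rw [← hidx]; ring

end Cfsg.Agent.S1492
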