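import Cfsg.Statements.S1494
import Cfsg.Agent.Lib.Characters.Kernel
import Mathlib.GroupTheory.NoncommCoprod
import Mathlib.RingTheory.RootsOfUnity.Complex

set_option autoImplicit false
open Cfsg

namespace Cfsg.Agent.S1494

open Cfsg.Agent.Lib.Characters

/-- Let χ be a generalized character of the finite group G, p a prime, x an element of order p and y an element commuting with x. Then χ(x * y) − χ(y) = (1 − ε) * ω for some algebraic integer ω, where ε = exp(2πi/p). -/
theorem result {G : Type*} [Group G] [Finite G] (χ : G → ℂ) (hχ : Cfsg.IsGeneralizedCharacter G χ) (p : ℕ) (hp : p.Prime) (x y : G) (hx : orderOf x = p) (hxy : x * y = y * x) : ∃ ω : ℂ, IsIntegral ℤ ω ∧ χ (x * y) - χ y = (1 - Complex.exp (2 * Real.pi * Complex.I / p)) * ω := by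
  classical
  set ε : ℂ := Complex.exp (2 * Real.pi * Complex.I / p) with hεdef
  have hprim : IsPrimitiveRoot ε p := Complex.isPrimitiveRoot_exp p hp.ne_zero
  have hεi : IsIntegral ℤ ε := IsIntegral.of_pow hp.pos (hprim.pow_eq_one ▸ isIntegral_one)
  let A := Subgroup.zpowers x × Subgroup.zpowers y
  let f : A →* G := MonoidHom.noncommCoprod (Subgroup.zpowers x).subtype (Subgroup.zpowers y).subtype
    fun a b => by
      obtain ⟨i, hi⟩ := Subgroup.mem_zpowers_iff.mp a.2
      obtain ⟨j, hj⟩ := Subgroup.mem_zpowers_iff.mp b.2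
      show Commute (a : G) (b : G)
      rw [← hi, ← hj]
      exact (show Commute x y from hxy).zpow_zpow i j
  have hcomm : ∀ a b : A, a * b = b * a := fun a b =>
    Prod.ext (mul_comm' a.1 b.1) (mul_comm' a.2 b.2)
  let u : A := (⟨x, Subgroup.mem_zpowers x⟩, 1)
  let v : A := (1, ⟨y, Subgroup.mem_zpowers y⟩)
  have hfu : f (u * v) = x * y := by
    show x * 1 * (1 * y) = x * y
    simp
  have hfv : f v = y := by
    show 1 * y = y
    exact one_mul y
  have key : ∀ ξ : A → ℂ, Cfsg.IsCharacter A ξ →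
      ∃ ω : ℂ, IsIntegral ℤ ω ∧ ξ (u * v) - ξ v = (1 - ε) * ω := by
    intro ξ hξ
    haveI := Fintype.ofFinite A
    haveI := Fintype.ofFinite (IrrCharacter A)
    obtain ⟨m, hm, -⟩ := IsCharacter.exists_nat_decomp hξ
    have hψ : ∀ ψ : IrrCharacter A, ∃ ω : ℂ, IsIntegral ℤ ω ∧
        (ψ : A → ℂ) (u * v) - (ψ : A → ℂ) v = (1 - ε) * ω := by
      intro ψ
      obtain ⟨lam, hlam⟩ := IsCharacter.exists_hom_of_apply_one (irr_isCharacter ψ)
        (IsIrrCharacter.apply_one_of_comm hcomm ψ.2)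
      have hu : u ^ p = 1 := Prod.ext (Subtype.ext (show x ^ p = 1 by rw [← hx, pow_orderOf_eq_one])) (one_pow p)
      have hl : (lam u : ℂ) ^ p = 1 := by rw [← Units.val_pow_eq_pow_val, ← map_pow, hu]; simp
      haveI : NeZero p := ⟨hp.ne_zero⟩
      obtain ⟨k, -, hk⟩ := hprim.eq_pow_of_pow_eq_one hl
      refine ⟨-(∑ i ∈ Finset.range k, ε ^ i) * (lam v : ℂ),
        ((IsIntegral.sum _ fun i _ => hεi.pow i).neg).mul ?_, ?_⟩
      · have := IsCharacter.isIntegral (irr_isCharacter ψ) v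
        rwa [hlam] at this
      · have hg := geom_sum_mul ε k
        simp only [hlam, map_mul, Units.val_mul, ← hk]
        linear_combination -(lam v : ℂ) * hg
    choose w hw1 hw2 using hψ
    refine ⟨∑ ψ : IrrCharacter A, (m ψ : ℂ) * w ψ,
      IsIntegral.sum _ fun ψ _ => (isIntegral_algebraMap (R := ℤ) (x := (m ψ : ℤ))).mul (hw1 ψ), ?_⟩
    rw [hm]
    simp only [Finset.sum_apply, Pi.smul_apply, smul_eq_mul]
    rw [← Finset.sum_sub_distrib, Finset.mul_sum]
    refine Finset.sum_congr rfl fun ψ _ => ?_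
    rw [← mul_sub, hw2]; ring
  obtain ⟨α, β, hα, hβ, rfl⟩ := hχ
  obtain ⟨w1, hi1, he1⟩ := key _ (IsCharacter.comp hα f)
  obtain ⟨w2, hi2, he2⟩ := key _ (IsCharacter.comp hβ f)
  refine ⟨w1 - w2, hi1.sub hi2, ?_⟩
  simp only [Function.comp_apply, hfu, hfv] at he1 he2
  simp only [Pi.sub_apply]
  linear_combination he1 - he2

end Cfsg.Agent.S1494
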