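import Cfsg.Statements.S1495
import Cfsg.Agent.Lib.Characters.Integrality
import Mathlib.Algebra.CharP.Lemmas
import Mathlib.RingTheory.RootsOfUnity.Complex

set_option autoImplicit false
open Cfsg

namespace Cfsg.Agent.S1495

open Cfsg.Agent.Lib.Characters

/-- Let p be a prime, ε = exp(2πi/p), and n an integer such that n = (1 − ε) * ω for some algebraic integer ω. Then p divides n. -/
theorem result (p : ℕ) (hp : p.Prime) (n : ℤ) (ω : ℂ) (hω : IsIntegral ℤ ω) (h : (n : ℂ) = (1 - Complex.exp (2 * Real.pi * Complex.I / p)) * ω) : (p : ℤ) ∣ n := by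
  set ε : ℂ := Complex.exp (2 * Real.pi * Complex.I / p) with hεdef
  have hp1 : ε ^ p = 1 := (Complex.isPrimitiveRoot_exp p hp.ne_zero).pow_eq_one
  have hεi : IsIntegral ℤ ε := IsIntegral.of_pow hp.pos (hp1 ▸ isIntegral_one)
  let A := integralClosure ℤ ℂ
  let δ : A := ⟨1 - ε, isIntegral_one.sub hεi⟩
  obtain ⟨r, hr⟩ := exists_add_pow_prime_eq hp (1 : A) (-δ)
  have hr' : (1 : ℂ) = 1 + (-(1 - ε)) ^ p + p * -(1 - ε) * (r : ℂ) := by
    have := congrArg (fun z : A => (z : ℂ)) hr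
    simp only [δ, one_pow, mul_one] at this
    push_cast at this
    rw [show (1 : ℂ) + -(1 - ε) = ε by ring, hp1] at this
    exact this
  have h2 : (((-n) ^ p : ℤ) : ℂ) = p * ((1 - ε) * (r : ℂ) * ω ^ p) := by
    push_cast
    rw [h, ← neg_mul, mul_pow]
    linear_combination -(ω ^ p) * hr'
  have hint : IsIntegral ℤ ((1 - ε) * (r : ℂ) * ω ^ p) :=
    ((isIntegral_one.sub hεi).mul r.2).mul (hω.pow p)
  obtain ⟨z, hz⟩ := exists_int_of_isIntegral_rat (q := (((-n) ^ p : ℤ) : ℚ) / p) (by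
    push_cast at h2 ⊢
    rw [h2, mul_div_cancel_left₀ _ (by exact_mod_cast hp.ne_zero)]
    exact hint)
  have h3 : (p : ℤ) ∣ (-n) ^ p := ⟨z, by
    have hp0 : (p : ℚ) ≠ 0 := by exact_mod_cast hp.ne_zero
    rw [div_eq_iff hp0] at hz
    have := hz.trans (mul_comm _ _)
    exact_mod_cast this⟩
  exact (Int.dvd_neg).mp ((Nat.prime_iff_prime_int.mp hp).dvd_of_dvd_pow h3)

end Cfsg.Agent.S1495
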