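import Cfsg.Statements.S1497


set_option autoImplicit false
open Cfsg

namespace Cfsg.Agent.S1497

/-- Let A be a nonempty subset of the finite group G not containing 1 and L a subgroup. Then A is a TI-subset whose normaliser is L if and only if the Dade hypothesis holds for A, L and the constant choice H(a) = ⊥. -/
theorem result {G : Type*} [Group G] [Finite G] (A : Set G) (hA : A.Nonempty) (h1 : (1 : G) ∉ A) (L : Subgroup G) : (Cfsg.IsTISubset A ∧ Subgroup.normalizer A = L) ↔ Cfsg.DadeHypothesis A L (fun _ => ⊥) := by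
  constructor
  · rintro ⟨hTI, hL⟩
    have hfus : ∀ a ∈ A, ∀ g : G, g * a * g⁻¹ ∈ A → g ∈ L := by
      intro a ha g hga
      by_contra hg
      exact h1 ((hTI g (hL ▸ hg) a ha hga) ▸ ha)
    have hC : ∀ a ∈ A, Subgroup.centralizer ({a} : Set G) ≤ L := by
      intro a ha c hc
      refine hfus a ha c ?_
      rw [Subgroup.mem_centralizer_singleton_iff] at hc
      rwa [hc, mul_inv_cancel_right]
    refine ⟨h1, fun a ha => hfus a ha a (by simpa using ha), ?_, ?_, fun a ha => bot_le, ?_, ?_, ?_, ?_⟩
    · intro x hx a ha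
      rw [← hL] at hx
      exact (Subgroup.mem_set_normalizer_iff.mp hx a).mp ha
    · exact fun a ha g hga => ⟨g, hfus a ha g hga, rfl⟩
    · intro a _ c _ u hu
      rw [Subgroup.mem_bot] at hu
      simp [hu]
    · simp
    · intro a ha
      rw [bot_sup_eq, inf_eq_right.mpr (hC a ha)]
    · simp
  · intro hD
    have hC : ∀ a ∈ A, Subgroup.centralizer ({a} : Set G) ≤ L := fun a ha => by
      have := hD.sup_eq a ha
      rw [bot_sup_eq] at this
      exact this ▸ inf_le_left
    have hfus : ∀ a ∈ A, ∀ g : G, g * a * g⁻¹ ∈ A → g ∈ L := by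
      intro a ha g hga
      obtain ⟨x, hx, he⟩ := hD.fusion a ha g hga
      have hm : x⁻¹ * g ∈ Subgroup.centralizer ({a} : Set G) := by
        rw [Subgroup.mem_centralizer_singleton_iff]
        calc x⁻¹ * g * a = x⁻¹ * (g * a * g⁻¹) * g := by group
          _ = x⁻¹ * (x * a * x⁻¹) * g := by rw [he]
          _ = a * (x⁻¹ * g) := by group
      simpa using L.mul_mem hx (hC a ha hm)
    have hL : Subgroup.normalizer A = L := by
      apply le_antisymm
      · intro g hg
        obtain ⟨a, ha⟩ := hA
        exact hfus a ha g ((Subgroup.mem_set_normalizer_iff.mp hg a).mp ha)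
      · intro x hx
        rw [Subgroup.mem_set_normalizer_iff]
        intro a
        refine ⟨hD.conj_mem x hx a, fun ha => ?_⟩
        simpa [mul_assoc] using hD.conj_mem x⁻¹ (L.inv_mem hx) _ ha
    exact ⟨fun g hg a ha hga => absurd (hL.symm ▸ hfus a ha g hga) hg, hL⟩

end Cfsg.Agent.S1497
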