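import Cfsg.Statements.S1499
import Mathlib.GroupTheory.OrderOfElement
import Mathlib.Data.Nat.ChineseRemainder
import Mathlib.Tactic

set_option autoImplicit false
open Cfsg

namespace Cfsg.Agent.S1499

/-- Under the Dade hypothesis for (A, L, H), let a, b ∈ A. If an element of the coset a·H(a) is conjugate in G to an element of b·H(b), then a and b are conjugate by an element of L. Moreover the set normaliser of the coset a·H(a) is the centraliser of a. -/
theorem result {G : Type*} [Group G] [Finite G] (A : Set G) (L : Subgroup G) (H : G → Subgroup G) (hD : Cfsg.DadeHypothesis A L H) (a b : G) (ha : a ∈ A) (hb : b ∈ A) : ((∃ u ∈ H a, ∃ v ∈ H b, ∃ g : G, g * (a * u) * g⁻¹ = b * v) → ∃ x ∈ L, x * a * x⁻¹ = b) ∧ Subgroup.normalizer ((fun u : G => a * u) '' (H a : Set G)) = Subgroup.centralizer ({a} : Set G) := by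
  have hmemD : ∀ a ∈ A, a ∈ L ⊓ Subgroup.centralizer ({a} : Set G) := fun a ha =>
    ⟨hD.subset ha, Subgroup.mem_centralizer_singleton_iff.mpr rfl⟩
  have key : ∀ a ∈ A, ∀ b ∈ A, ∀ u ∈ H a, ∀ v ∈ H b, ∀ g : G,
      g * (a * u) * g⁻¹ = b * v → g * a * g⁻¹ = b := by
    intro a ha b hb u hu v hv g he
    have hcop : ∀ c ∈ A, ∀ d ∈ A, ∀ w ∈ H c, Nat.Coprime (orderOf d) (orderOf w) := fun c hc d hd w hw =>
      (((hD.coprime c hc d hd).coprime_dvd_left ((H c).orderOf_dvd_natCard hw)).coprime_dvd_right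
        (Subgroup.orderOf_dvd_natCard _ (hmemD d hd))).symm
    obtain ⟨n, hn1, hn2⟩ := Nat.chineseRemainder
      (Nat.Coprime.mul_left (Nat.Coprime.mul_right (hcop a ha a ha u hu) (hcop b hb a ha v hv))
        (Nat.Coprime.mul_right (hcop a ha b hb u hu) (hcop b hb b hb v hv))) 1 0
    have hp : ∀ c w : G, Commute c w → orderOf c ∣ orderOf a * orderOf b →
        orderOf w ∣ orderOf u * orderOf v → (c * w) ^ n = c := by
      intro c w hcw hc hw
      rw [hcw.mul_pow]
      have e1 : c ^ n = c := by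
        conv_rhs => rw [← pow_one c]
        exact pow_eq_pow_iff_modEq.mpr (hn1.of_dvd hc)
      have e2 : w ^ n = 1 := by
        rw [← orderOf_dvd_iff_pow_eq_one]
        exact hw.trans (Nat.modEq_zero_iff_dvd.mp hn2)
      rw [e1, e2, mul_one]
    have hau : Commute a u := (Subgroup.mem_centralizer_singleton_iff.mp (hD.le_centralizer a ha hu)).symm
    have hbv : Commute b v := (Subgroup.mem_centralizer_singleton_iff.mp (hD.le_centralizer b hb hv)).symm
    calc g * a * g⁻¹ = (g * (a * u) * g⁻¹) ^ n := by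
          rw [conj_pow, hp a u hau (dvd_mul_right _ _) (dvd_mul_right _ _)]
      _ = b := by rw [he, hp b v hbv (dvd_mul_left _ _) (dvd_mul_left _ _)]
  refine ⟨?_, ?_⟩
  · rintro ⟨u, hu, v, hv, g, he⟩
    have h1 := key a ha b hb u hu v hv g he
    obtain ⟨x, hx, hxe⟩ := hD.fusion a ha g (h1.symm ▸ hb)
    exact ⟨x, hx, hxe.trans h1⟩
  · apply le_antisymm
    · intro g hg
      obtain ⟨u, hu, he⟩ := (Subgroup.mem_set_normalizer_iff.mp hg (a * 1)).mp ⟨1, (H a).one_mem, rfl⟩
      have := key a ha a ha 1 (H a).one_mem u hu g he.symm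
      rw [Subgroup.mem_centralizer_singleton_iff]
      exact mul_inv_eq_iff_eq_mul.mp this
    · intro c hc
      rw [Subgroup.mem_set_normalizer_iff]
      have hstep : ∀ c ∈ Subgroup.centralizer ({a} : Set G), ∀ y,
          y ∈ (fun u : G => a * u) '' (H a : Set G) → c * y * c⁻¹ ∈ (fun u : G => a * u) '' (H a : Set G) := by
        rintro c hc _ ⟨u, hu, rfl⟩
        refine ⟨c * u * c⁻¹, hD.conj_mem_H a ha c hc u hu, ?_⟩
        show a * (c * u * c⁻¹) = c * (a * u) * c⁻¹
        rw [← mul_assoc c a u, Subgroup.mem_centralizer_singleton_iff.mp hc]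
        group
      intro y
      refine ⟨hstep c hc y, fun hy => ?_⟩
      simpa [mul_assoc] using hstep c⁻¹ (Subgroup.inv_mem _ hc) _ hy

end Cfsg.Agent.S1499
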