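import Cfsg.Statements.S1502
import Cfsg.Agent.Lib.OddChar.CyclicTI
import Cfsg.Agent.Lib.OddChar.CyclicTIGrid
import Cfsg.Agent.Lib.Characters.TI
import Cfsg.Agent.Lib.Characters.Ortho
-- import your own Cfsg.Agent.* helpers here

set_option autoImplicit false
open Cfsg

namespace Cfsg.Agent.S1502

open Cfsg.Agent.Lib.Characters Cfsg.Agent.Lib.OddChar
open scoped ComplexConjugate

universe u

variable {G : Type u} [Group G]

theorem centralizer_eq (W₁ W₂ : Subgroup G) (hW : Cfsg.IsSelfNormalizingCyclic W₁ W₂) {t : G}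
    (ht : t ∈ (↑(W₁ ⊔ W₂) : Set G) \ (↑W₁ ∪ ↑W₂)) {g : G} :
    g ∈ W₁ ⊔ W₂ ↔ g * t = t * g := by
  have h := hW.2.2.2.2.2 {t} (Set.singleton_subset_iff.mpr ht) (Set.singleton_nonempty t)
  rw [← h, Subgroup.mem_set_normalizer_iff]
  simp only [Set.mem_singleton_iff]
  constructor
  · intro hg
    exact mul_inv_eq_iff_eq_mul.mp ((hg t).mp rfl)
  · intro hg n
    constructor
    · rintro rfl; rw [hg, mul_inv_cancel_right]
    · intro hn
      have : g * n = g * t := by rw [hg, ← hn]; group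
      exact mul_left_cancel this

theorem ti (W₁ W₂ : Subgroup G) (hW : Cfsg.IsSelfNormalizingCyclic W₁ W₂) {t x : G}
    (ht : t ∈ (↑(W₁ ⊔ W₂) : Set G) \ (↑W₁ ∪ ↑W₂))
    (hs : x⁻¹ * t * x ∈ (↑(W₁ ⊔ W₂) : Set G) \ (↑W₁ ∪ ↑W₂)) : x ∈ W₁ ⊔ W₂ := by
  have hconj : ∀ w : G, x * w * x⁻¹ ∈ W₁ ⊔ W₂ ↔ w ∈ W₁ ⊔ W₂ := by
    intro w
    rw [centralizer_eq W₁ W₂ hW ht, centralizer_eq W₁ W₂ hW hs]
    constructor <;> intro h
    · calc w * (x⁻¹ * t * x) = x⁻¹ * (x * w * x⁻¹ * t) * x := by group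
        _ = x⁻¹ * t * x * w := by rw [h]; group
    · calc x * w * x⁻¹ * t = x * (w * (x⁻¹ * t * x)) * x⁻¹ := by group
        _ = t * (x * w * x⁻¹) := by rw [h]; group
  haveI : IsCyclic ↥(W₁ ⊔ W₂) := hW.2.2.2.2.1
  let σ : ↥(W₁ ⊔ W₂) →* ↥(W₁ ⊔ W₂) :=
    { toFun := fun w => ⟨x * w * x⁻¹, (hconj w).mpr w.2⟩
      map_one' := Subtype.ext (by simp)
      map_mul' := fun a b => Subtype.ext (by
        show x * ((a : G) * (b : G)) * x⁻¹ = x * (a : G) * x⁻¹ * (x * (b : G) * x⁻¹); group) }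
  let τ : ↥(W₁ ⊔ W₂) →* ↥(W₁ ⊔ W₂) :=
    { toFun := fun w => ⟨x⁻¹ * w * x, (hconj _).mp (by
        rw [show x * (x⁻¹ * (w : G) * x) * x⁻¹ = w by group]; exact w.2)⟩
      map_one' := Subtype.ext (by simp)
      map_mul' := fun a b => Subtype.ext (by
        show x⁻¹ * ((a : G) * (b : G)) * x = x⁻¹ * (a : G) * x * (x⁻¹ * (b : G) * x); group) }
  obtain ⟨m, hm⟩ := σ.map_cyclic
  obtain ⟨k, hk⟩ := τ.map_cyclic
  have key : ∀ H : Subgroup G, H ≤ W₁ ⊔ W₂ → ∀ w, x * w * x⁻¹ ∈ H ↔ w ∈ H := by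
    intro H hH w
    constructor
    · intro h
      have h' : x⁻¹ * (x * w * x⁻¹) * x = (x * w * x⁻¹) ^ k := by
        have := congrArg Subtype.val (hk ⟨_, hH h⟩)
        simpa [τ] using this
      have : w = (x * w * x⁻¹) ^ k := by rw [← h']; group
      rw [this]; exact H.zpow_mem h k
    · intro h
      have h' : x * w * x⁻¹ = w ^ m := by
        have := congrArg Subtype.val (hm ⟨_, hH h⟩)
        simpa [σ] using this
      rw [h']; exact H.zpow_mem h m
  rw [← hW.2.2.2.2.2 _ Set.Subset.rfl ⟨t, ht⟩, Subgroup.mem_set_normalizer_iff]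
  intro w
  simp only [Set.mem_sdiff, Set.mem_union, SetLike.mem_coe]
  rw [key _ le_rfl, key _ le_sup_left, key _ le_sup_right]

theorem construction [Fintype G] (W₁ W₂ : Subgroup G) (hW : Cfsg.IsSelfNormalizingCyclic W₁ W₂)
    (hodd : Odd (Nat.card ↥(W₁ ⊔ W₂))) :
    ∃ χ : (↥(W₁ ⊔ W₂) →* ℂˣ) → (G → ℂ), Cfsg.IsCyclicTIFamily W₁ W₂ χ := by
  classical
  haveI := Fintype.ofFinite ↥(W₁ ⊔ W₂)
  have hW' := hW
  obtain ⟨hW₁, hW₂, hdisj, hcomm, hcyc, -⟩ := hW
  have hWc : ∀ a b : ↥(W₁ ⊔ W₂), a * b = b * a := fun a b =>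
    (IsCyclic.isMulCommutative (α := ↥(W₁ ⊔ W₂))).is_comm.comm a b
  obtain ⟨p₁, p₂, hp, hp₁, hp₂⟩ := exists_proj W₁ W₂ hdisj hcomm
  have hA₁ : ∀ a b : W₁, a * b = b * a := fun a b => Subtype.ext (congrArg Subtype.val
    (hWc (Subgroup.inclusion le_sup_left a) (Subgroup.inclusion le_sup_left b)) :)
  have hA₂ : ∀ a b : W₂, a * b = b * a := fun a b => Subtype.ext (congrArg Subtype.val
    (hWc (Subgroup.inclusion le_sup_right a) (Subgroup.inclusion le_sup_right b)) :)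
  haveI := finite_hom hA₁
  haveI := finite_hom hA₂
  haveI := finite_hom hWc
  haveI := Fintype.ofFinite (W₁ →* ℂˣ)
  haveI := Fintype.ofFinite (W₂ →* ℂˣ)
  haveI := Fintype.ofFinite (IrrCharacter G)
  -- the sizes
  have hc₁ : Fintype.card {l : W₁ →* ℂˣ // l ≠ 1} = Nat.card W₁ - 1 := by
    rw [Fintype.card_subtype_compl, Fintype.card_subtype_eq, ← Nat.card_eq_fintype_card, card_hom hA₁]
  have hc₂ : Fintype.card {l : W₂ →* ℂˣ // l ≠ 1} = Nat.card W₂ - 1 := by
    rw [Fintype.card_subtype_compl, Fintype.card_subtype_eq, ← Nat.card_eq_fintype_card, card_hom hA₂]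
  obtain ⟨a₁, ha₁⟩ := hodd.of_dvd_nat (Subgroup.card_dvd_of_le (le_sup_left : W₁ ≤ W₁ ⊔ W₂))
  obtain ⟨a₂, ha₂⟩ := hodd.of_dvd_nat (Subgroup.card_dvd_of_le (le_sup_right : W₂ ≤ W₁ ⊔ W₂))
  have h1 : Nat.card W₁ ≠ 1 := fun e => hW₁ (Subgroup.card_eq_one.mp e)
  have h2 : Nat.card W₂ ≠ 1 := fun e => hW₂ (Subgroup.card_eq_one.mp e)
  have h33 : ¬ (Nat.card W₁ = 3 ∧ Nat.card W₂ = 3) := by
    rintro ⟨e1, e2⟩
    have hbij : Function.Bijective fun w : ↥(W₁ ⊔ W₂) => (p₁ w, p₂ w) := by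
      refine ⟨fun a b e => ?_, fun ab => ?_⟩
      · simp only [Prod.mk.injEq] at e
        exact Subtype.ext (by rw [← hp a, ← hp b, e.1, e.2])
      · refine ⟨Subgroup.inclusion le_sup_left ab.1 * Subgroup.inclusion le_sup_right ab.2, ?_⟩
        simp [(hp₁ ab.1).1, (hp₁ ab.1).2, (hp₂ ab.2).1, (hp₂ ab.2).2]
    have hcard : Nat.card ↥(W₁ ⊔ W₂) = 9 := by
      rw [Nat.card_eq_of_bijective _ hbij, Nat.card_prod, e1, e2]
    have hexp : Monoid.exponent ↥(W₁ ⊔ W₂) ∣ 3 := by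
      refine Monoid.exponent_dvd_of_forall_pow_eq_one fun w => hbij.1 ?_
      have q1 : p₁ w ^ 3 = 1 := by rw [← e1]; exact pow_card_eq_one'
      have q2 : p₂ w ^ 3 = 1 := by rw [← e2]; exact pow_card_eq_one'
      simp [q1, q2]
    haveI := hcyc
    rw [IsCyclic.exponent_eq_card, hcard] at hexp
    omega
  -- linear characters of `W`
  let om : (W₁ →* ℂˣ) × (W₂ →* ℂˣ) → (↥(W₁ ⊔ W₂) →* ℂˣ) := fun p => p.1.comp p₁ * p.2.comp p₂
  let co : (↥(W₁ ⊔ W₂) →* ℂˣ) → (W₁ →* ℂˣ) × (W₂ →* ℂˣ) := fun w =>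
    (w.comp (Subgroup.inclusion le_sup_left), w.comp (Subgroup.inclusion le_sup_right))
  have hco : ∀ p, co (om p) = p := by
    intro p
    refine Prod.ext (MonoidHom.ext fun a => ?_) (MonoidHom.ext fun b => ?_)
    · simp [co, om, (hp₁ a).1, (hp₁ a).2]
    · simp [co, om, (hp₂ b).1, (hp₂ b).2]
  have hom_co : ∀ w, om (co w) = w := by
    intro w
    refine hom_ext (fun x hx => ?_) (fun x hx => ?_)
    · have e : x = Subgroup.inclusion le_sup_left ⟨(x : G), hx⟩ := rfl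
      rw [e]; simp [co, om, (hp₁ _).1, (hp₁ _).2]
    · have e : x = Subgroup.inclusion le_sup_right ⟨(x : G), hx⟩ := rfl
      rw [e]; simp [co, om, (hp₂ _).1, (hp₂ _).2]
  let fn : (W₁ →* ℂˣ) × (W₂ →* ℂˣ) → ↥(W₁ ⊔ W₂) → ℂ := fun p w => (om p w : ℂ)
  have hirr : ∀ p, IsIrrCharacter ↥(W₁ ⊔ W₂) (fn p) := fun p => isIrrCharacter_unitsHom (om p)
  have hfn : ∀ p q, classInner (fn p) (fn q) = if p = q then 1 else 0 := by
    intro p q
    by_cases e : p = q
    · subst e; rw [if_pos rfl]; exact IsIrrCharacter.classInner_self (hirr p)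
    · rw [if_neg e]
      refine IsIrrCharacter.classInner_ne (hirr p) (hirr q) fun h => e ?_
      have : om p = om q := MonoidHom.ext fun w => Units.ext (congrFun h w)
      rw [← hco p, ← hco q, this]
  let al : (W₁ →* ℂˣ) → (W₂ →* ℂˣ) → ↥(W₁ ⊔ W₂) → ℂ := fun l m =>
    fn (1, 1) - fn (l, 1) - fn (1, m) + fn (l, m)
  have hal : ∀ l m, al l m = fun w => 1 - (om (l, 1) w : ℂ) - (om (1, m) w : ℂ)
      + (om (l, 1) w : ℂ) * (om (1, m) w : ℂ) := by
    intro l m; funext w; simp [al, fn, om]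
  have hal0 : ∀ l m, ∀ w : ↥(W₁ ⊔ W₂), (w : G) ∉ (↑(W₁ ⊔ W₂) : Set G) \ (↑W₁ ∪ ↑W₂) →
      al l m w = 0 := by
    intro l m w hw
    have : (w : G) ∈ W₁ ∨ (w : G) ∈ W₂ := by
      by_contra hc; exact hw ⟨w.2, by simpa using hc⟩
    rw [hal]
    rcases this with h | h
    · simp [om, (mem_left_iff hp hp₁ w).mp h]
    · simp [om, (mem_right_iff hp hp₂ w).mp h]
  let be : (W₁ →* ℂˣ) → (W₂ →* ℂˣ) → G → ℂ := fun l m => indFun (W₁ ⊔ W₂) (al l m)
  have hgenal : ∀ l m, IsGeneralizedCharacter ↥(W₁ ⊔ W₂) (al l m) := fun l m => by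
    have hg : ∀ p, IsGeneralizedCharacter ↥(W₁ ⊔ W₂) (fn p) := fun p =>
      IsCharacter.isGeneralizedCharacter (IsIrrCharacter.isCharacter (hirr p))
    exact IsGeneralizedCharacter.add
      (IsGeneralizedCharacter.sub (IsGeneralizedCharacter.sub (hg _) (hg _)) (hg _)) (hg _)
  have hiso : ∀ l m l' m', classInner (be l m) (be l' m') = classInner (al l m) (al l' m') := by
    intro l m l' m'
    refine classInner_indFun_indFun_eq (W₁ ⊔ W₂) ((↑(W₁ ⊔ W₂) : Set G) \ (↑W₁ ∪ ↑W₂))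
      (fun a b => congrArg _ (by rw [hWc b a, mul_inv_cancel_right]))
      (hal0 l' m') fun t ht x hx hmem => hx (ti W₁ W₂ hW' ?_ hmem)
    by_contra hc
    exact ht (hal0 l m t hc)
  let one : G → ℂ := fun _ => 1
  have hone : IsIrrCharacter G one := isIrrCharacter_one
  have hfn1 : fn (1, 1) = fun _ => (1 : ℂ) := by funext w; simp [fn, om]
  have hbe1 : ∀ l m, l ≠ 1 → m ≠ 1 → classInner (be l m) one = 1 := by
    intro l m hl hm
    show classInner (indFun _ _) _ = _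
    rw [classInner_indFun (W₁ ⊔ W₂) _ (IsCharacter.isClassFunction (IsIrrCharacter.isCharacter hone))]
    show classInner (al l m) (fun _ => (1 : ℂ)) = 1
    rw [← hfn1]
    simp [al, classInner_add_left, classInner_sub_left, hfn, hl, hm]
  let ga : (W₁ →* ℂˣ) → (W₂ →* ℂˣ) → G → ℂ := fun l m => be l m - one
  have hgen : ∀ l m, IsGeneralizedCharacter G (ga l m) := fun l m =>
    IsGeneralizedCharacter.sub (IsGeneralizedCharacter.indFun _ (hgenal l m))
      (IsCharacter.isGeneralizedCharacter (IsIrrCharacter.isCharacter hone))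
  have hga : ∀ l m l' m', l ≠ 1 → m ≠ 1 → l' ≠ 1 → m' ≠ 1 → classInner (ga l m) (ga l' m') =
      classInner (al l m) (al l' m') - 1 := by
    intro l m l' m' hl hm hl' hm'
    simp only [ga, classInner_sub_left, classInner_sub_right]
    have e : classInner one (be l' m') = 1 := by
      rw [← classInner_conj_symm, hbe1 l' m' hl' hm', map_one]
    rw [hiso, hbe1 l m hl hm, e, IsIrrCharacter.classInner_self hone]; ring
  have hint : ∀ l m (x : IrrCharacter G), ∃ k : ℤ, classInner (ga l m) (x : G → ℂ) = k := by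
    intro l m x
    obtain ⟨f, g, hf, hg, e⟩ := hgen l m
    obtain ⟨a, ha⟩ := IsCharacter.exists_classInner_nat hf (irr_isCharacter x)
    obtain ⟨b, hb⟩ := IsCharacter.exists_classInner_nat hg (irr_isCharacter x)
    exact ⟨(a : ℤ) - b, by rw [e, classInner_sub_left, ha, hb]; push_cast; ring⟩
  choose v hv using hint
  have hdegx : ∀ x : IrrCharacter G, ∃ n : ℤ, 0 < n ∧ (x : G → ℂ) 1 = n := by
    intro x
    obtain ⟨n, hn0, hn⟩ := IsIrrCharacter.exists_apply_one x.2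
    exact ⟨n, by exact_mod_cast hn0, by simp [hn]⟩
  choose deg hdeg0 hdeg using hdegx
  have hsum : ∀ l m, ga l m = ∑ x : IrrCharacter G, (v l m x : ℂ) • (x : G → ℂ) := by
    intro l m
    conv_lhs => rw [eq_sum_classInner (IsGeneralizedCharacter.isClassFunction (hgen l m))]
    simp only [hv]
  have hcomp : ∀ l m l' m', ((∑ x, v l m x * v l' m' x : ℤ) : ℂ) = classInner (ga l m) (ga l' m') := by
    intro l m l' m'
    rw [hsum l m, hsum l' m', classInner_sum_sum]
    push_cast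
    simp
  let Γ : TIGrid.Grid {l : W₁ →* ℂˣ // l ≠ 1} {m : W₂ →* ℂˣ // m ≠ 1} (IrrCharacter G) :=
    { v := fun i j => v i.1 j.1
      deg := deg
      deg_pos := hdeg0
      norm := fun i j => by
        have : ((∑ x, v i.1 j.1 x * v i.1 j.1 x : ℤ) : ℂ) = (3 : ℂ) := by
          rw [hcomp, hga _ _ _ _ i.2 j.2 i.2 j.2]
          simp [al, classInner_add_left, classInner_sub_left, classInner_add_right,
            classInner_sub_right, hfn, i.2, j.2, Ne.symm i.2, Ne.symm j.2]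
          norm_num
        exact_mod_cast this
      col := fun i i' j h => by
        have hne : i.1 ≠ i'.1 := fun e => h (Subtype.ext e)
        have : ((∑ x, v i.1 j.1 x * v i'.1 j.1 x : ℤ) : ℂ) = (1 : ℂ) := by
          rw [hcomp, hga _ _ _ _ i.2 j.2 i'.2 j.2]
          simp [al, classInner_add_left, classInner_sub_left, classInner_add_right,
            classInner_sub_right, hfn, i.2, j.2, Ne.symm i.2, Ne.symm j.2, i'.2, Ne.symm i'.2, hne]
        exact_mod_cast this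
      row := fun i j j' h => by
        have hne : j.1 ≠ j'.1 := fun e => h (Subtype.ext e)
        have : ((∑ x, v i.1 j.1 x * v i.1 j'.1 x : ℤ) : ℂ) = (1 : ℂ) := by
          rw [hcomp, hga _ _ _ _ i.2 j.2 i.2 j'.2]
          simp [al, classInner_add_left, classInner_sub_left, classInner_add_right,
            classInner_sub_right, hfn, i.2, j.2, Ne.symm i.2, Ne.symm j.2, j'.2, Ne.symm j'.2, hne]
        exact_mod_cast this
      orth := fun i i' j j' h h' => by
        have hne : i.1 ≠ i'.1 := fun e => h (Subtype.ext e)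
        have hne' : j.1 ≠ j'.1 := fun e => h' (Subtype.ext e)
        have : ((∑ x, v i.1 j.1 x * v i'.1 j'.1 x : ℤ) : ℂ) = (0 : ℂ) := by
          rw [hcomp, hga _ _ _ _ i.2 j.2 i'.2 j'.2]
          simp [al, classInner_add_left, classInner_sub_left, classInner_add_right,
            classInner_sub_right, hfn, i.2, j.2, Ne.symm i.2, Ne.symm j.2, i'.2, Ne.symm i'.2,
            j'.2, Ne.symm j'.2, hne, hne']
        exact_mod_cast this
      degree := fun i j => by
        have h0 : ga i.1 j.1 1 = -1 := by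
          simp [ga, be, one, indFun_one, al, fn]
        rw [hsum] at h0
        simp [hdeg] at h0
        exact_mod_cast h0 }
  obtain ⟨a, z, b, c, d, y, ha, hb, hd, hzi, hci, hyi, hzc, hzy, hcy, hvv⟩ :=
    Γ.solved (by rw [hc₁]; omega) (by rw [hc₂]; omega) ⟨a₁, by rw [hc₁]; omega⟩
      ⟨a₂, by rw [hc₂]; omega⟩ (by rw [hc₁, hc₂]; omega)
  let t0 : IrrCharacter G := ⟨one, hone⟩
  have hv0 : ∀ i j, Γ.v i j t0 = 0 := by
    intro i j
    have : classInner (ga i.1 j.1) (t0 : G → ℂ) = 0 := by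
      show classInner (ga i.1 j.1) one = 0
      simp only [ga, classInner_sub_left, hbe1 _ _ i.2 j.2, IsIrrCharacter.classInner_self hone, sub_self]
    rw [hv] at this
    exact_mod_cast this
  have ht : ∀ i j, z i ≠ t0 ∧ c j ≠ t0 ∧ y i j ≠ t0 := by
    intro i j
    refine ⟨fun e => ?_, fun e => ?_, fun e => ?_⟩
    · have := hv0 i j
      rw [hvv, ← e, if_pos rfl, if_neg (hzc i j), if_neg (hzy i i j)] at this
      rcases ha i with h | h <;> omega
    · have := hv0 i j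
      rw [hvv, ← e, if_neg (hzc i j).symm, if_pos rfl, if_neg (hcy j i j)] at this
      rcases hb j with h | h <;> omega
    · have := hv0 i j
      rw [hvv, ← e, if_neg (hzy i i j).symm, if_neg (hcy j i j).symm, if_pos rfl] at this
      rcases hd i j with h | h <;> omega
  let kap : (W₁ →* ℂˣ) × (W₂ →* ℂˣ) → IrrCharacter G := fun p =>
    if h : p.1 = 1 then (if h' : p.2 = 1 then t0 else c ⟨p.2, h'⟩)
    else (if h' : p.2 = 1 then z ⟨p.1, h⟩ else y ⟨p.1, h⟩ ⟨p.2, h'⟩)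
  let eps : (W₁ →* ℂˣ) × (W₂ →* ℂˣ) → ℤ := fun p =>
    if h : p.1 = 1 then (if h' : p.2 = 1 then 1 else -b ⟨p.2, h'⟩)
    else (if h' : p.2 = 1 then -a ⟨p.1, h⟩ else d ⟨p.1, h⟩ ⟨p.2, h'⟩)
  have heps : ∀ p, eps p = 1 ∨ eps p = -1 := by
    intro p
    simp only [eps]
    split_ifs with h h' h'
    · exact Or.inl rfl
    · rcases hb ⟨p.2, h'⟩ with e | e <;> rw [e] <;> norm_num
    · rcases ha ⟨p.1, h⟩ with e | e <;> rw [e] <;> norm_num
    · exact hd _ _
  haveI : Nonempty {l : W₁ →* ℂˣ // l ≠ 1} := Fintype.card_pos_iff.mp (by rw [hc₁]; omega)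
  haveI : Nonempty {m : W₂ →* ℂˣ // m ≠ 1} := Fintype.card_pos_iff.mp (by rw [hc₂]; omega)
  let i₀ := Classical.arbitrary {l : W₁ →* ℂˣ // l ≠ 1}
  let j₀ := Classical.arbitrary {m : W₂ →* ℂˣ // m ≠ 1}
  have hkinj : Function.Injective kap := by
    rintro ⟨l, m⟩ ⟨l', m'⟩ e
    by_cases hl : l = 1 <;> by_cases hm : m = 1 <;> by_cases hl' : l' = 1 <;>
      by_cases hm' : m' = 1 <;> simp only [kap, hl, hm, hl', hm', dite_true, dite_false] at e ⊢ <;>
      first
      | rfl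
      | exact absurd e (ht i₀ _).2.1
      | exact absurd e.symm (ht i₀ _).2.1
      | exact absurd e (ht _ j₀).1
      | exact absurd e.symm (ht _ j₀).1
      | exact absurd e (ht _ _).2.2
      | exact absurd e.symm (ht _ _).2.2
      | exact absurd e (hzc _ _)
      | exact absurd e.symm (hzc _ _)
      | exact absurd e (hzy _ _ _)
      | exact absurd e.symm (hzy _ _ _)
      | exact absurd e (hcy _ _ _)
      | exact absurd e.symm (hcy _ _ _)
      | (have := hci e; simp only [Subtype.mk.injEq] at this; rw [this])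
      | (have := hzi e; simp only [Subtype.mk.injEq] at this; rw [this])
      | (have := hyi (a₁ := (⟨l, hl⟩, ⟨m, hm⟩)) (a₂ := (⟨l', hl'⟩, ⟨m', hm'⟩)) e
         simp only [Prod.mk.injEq, Subtype.mk.injEq] at this; rw [this.1, this.2])
  let X : (W₁ →* ℂˣ) × (W₂ →* ℂˣ) → G → ℂ := fun p => (eps p : ℂ) • (kap p : G → ℂ)
  have hX : ∀ p q, classInner (X p) (X q) = if p = q then 1 else 0 := by
    intro p q
    simp only [X, classInner_smul_left, classInner_smul_right, classInner_irr, hkinj.eq_iff]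
    by_cases e : p = q
    · subst e
      rcases heps p with e | e <;> simp [e]
    · simp [e]
  have hX1 : X (1, 1) = one := by simp [X, eps, kap, t0]
  have hbeX : ∀ l m, l ≠ 1 → m ≠ 1 → be l m = X (1, 1) - X (l, 1) - X (1, m) + X (l, m) := by
    intro l m hl hm
    have hh : ga l m = (a ⟨l, hl⟩ : ℂ) • (z ⟨l, hl⟩ : G → ℂ) + (b ⟨m, hm⟩ : ℂ) • (c ⟨m, hm⟩ : G → ℂ)
        + (d ⟨l, hl⟩ ⟨m, hm⟩ : ℂ) • (y ⟨l, hl⟩ ⟨m, hm⟩ : G → ℂ) := by
      rw [hsum]
      have : ∀ x, v l m x = (if x = z ⟨l, hl⟩ then a ⟨l, hl⟩ else 0)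
          + (if x = c ⟨m, hm⟩ then b ⟨m, hm⟩ else 0)
          + (if x = y ⟨l, hl⟩ ⟨m, hm⟩ then d ⟨l, hl⟩ ⟨m, hm⟩ else 0) := fun x =>
        hvv ⟨l, hl⟩ ⟨m, hm⟩ x
      simp [this, add_smul, Finset.sum_add_distrib, ite_smul]
    have hb' : be l m = ga l m + one := by simp [ga]
    rw [hb', hh, hX1]
    simp only [X, eps, kap, hl, hm, dite_true, dite_false]
    funext g
    simp [one]
    ring
  have hXc : ∀ p, IsClassFunction G (X p) := fun p =>
    IsClassFunction.smul (irr_isClassFunction _) _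
  refine ⟨fun w => X (co w), ?_, ?_, ?_, ?_, ?_⟩
  · intro w
    rcases heps (co w) with e | e
    · left; simp [X, e]; exact (kap (co w)).2
    · right; simp [X, e]; exact (kap (co w)).2
  · intro w w'
    rw [hX]
    by_cases e : w = w'
    · subst e; simp
    · rw [if_neg e, if_neg fun h => e (by rw [← hom_co w, ← hom_co w', h])]
  · show X (co 1) = _
    rw [show co 1 = (1, 1) from by ext <;> simp [co], hX1]
  · intro w x hx₁ hx₂
    have h0 : X (co w) (x : G) - fn (co w) x = 0 := by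
      refine vanish_of_orth hdisj hcomm hWc (fun x => X (co w) (x : G) - fn (co w) x)
        (fun φ ψ hφ hψ hφ₂ hψ₁ => ?_) x hx₁ hx₂
      set l := (co φ).1 with hl
      set m := (co ψ).2 with hm
      have eφ : co φ = (l, 1) := Prod.ext rfl (MonoidHom.ext fun b => hφ₂ _ b.2)
      have eψ : co ψ = (1, m) := Prod.ext (MonoidHom.ext fun a => hψ₁ _ a.2) rfl
      have fφ : om (l, 1) = φ := by rw [← eφ, hom_co]
      have fψ : om (1, m) = ψ := by rw [← eψ, hom_co]
      have hl1 : l ≠ 1 := fun e => hφ (by rw [← fφ, e]; ext x; simp [om])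
      have hm1 : m ≠ 1 := fun e => hψ (by rw [← fψ, e]; ext x; simp [om])
      have e2 : (fun x => 1 - (φ x : ℂ) - (ψ x : ℂ) + (φ x : ℂ) * (ψ x : ℂ)) = al l m := by
        rw [hal, fφ, fψ]
      rw [e2, show (fun x : ↥(W₁ ⊔ W₂) => X (co w) (x : G) - fn (co w) x)
          = (fun x : ↥(W₁ ⊔ W₂) => X (co w) (x : G)) - fn (co w) from rfl, classInner_sub_left,
        ← classInner_indFun_right (W₁ ⊔ W₂) _ (hXc _)]
      show classInner _ (be l m) - _ = 0
      rw [hbeX l m hl1 hm1]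
      simp [al, classInner_add_right, classInner_sub_right, hfn, hX]
    have := sub_eq_zero.mp h0
    show X (co w) (x : G) = _
    rw [this]
    simp only [fn, hom_co]
  · intro φ ψ hφ hψ hφ₂ hψ₁
    set l := (co φ).1 with hl
    set m := (co ψ).2 with hm
    have eφ : co φ = (l, 1) := Prod.ext rfl (MonoidHom.ext fun b => hφ₂ _ b.2)
    have eψ : co ψ = (1, m) := Prod.ext (MonoidHom.ext fun a => hψ₁ _ a.2) rfl
    have fφ : om (l, 1) = φ := by rw [← eφ, hom_co]
    have fψ : om (1, m) = ψ := by rw [← eψ, hom_co]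
    have hl1 : l ≠ 1 := fun e => hφ (by rw [← fφ, e]; ext x; simp [om])
    have hm1 : m ≠ 1 := fun e => hψ (by rw [← fψ, e]; ext x; simp [om])
    have e2 : (fun x => 1 - (φ x : ℂ) - (ψ x : ℂ) + (φ x : ℂ) * (ψ x : ℂ)) = al l m := by
      rw [hal, fφ, fψ]
    have e3 : co (φ * ψ) = (l, m) := by
      rw [← fφ, ← fψ, show om (l, 1) * om (1, m) = om (l, m) from by ext x; simp [om], hco]
    rw [e2]
    show be l m = _
    rw [hbeX l m hl1 hm1, eφ, eψ, e3, hX1]
    funext g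
    simp [one]


/-- Let W₁, W₂ be nontrivial subgroups of the finite group G generating a cyclic subgroup W = W₁ ⊔ W₂ of odd order that is the normaliser of every nonempty set of its elements outside W₁ ∪ W₂. Then there is a family attaching to each linear character ω of W an irreducible character of G up to sign, orthonormal, sending the trivial character to the principal character, with χ ω = ω on W outside W₁ ∪ W₂, and such that inducing (1 − φ)(1 − ψ) to G gives 1 − χ φ − χ ψ + χ (φψ) whenever φ ≠ 1 is trivial on W₂ and ψ ≠ 1 is trivial on W₁. -/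
theorem result {G : Type*} [Group G] [Fintype G] (W₁ W₂ : Subgroup G) (hW : Cfsg.IsSelfNormalizingCyclic W₁ W₂) (hodd : Odd (Nat.card ↥(W₁ ⊔ W₂))) : ∃ χ : (↥(W₁ ⊔ W₂) →* ℂˣ) → (G → ℂ), Cfsg.IsCyclicTIFamily W₁ W₂ χ := by
  classical
  exact construction W₁ W₂ hW hodd

end Cfsg.Agent.S1502
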