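import Cfsg.Statements.S1504
import Cfsg.Agent.Lib.OddChar.CyclicTI

set_option autoImplicit false
open Cfsg

namespace Cfsg.Agent.S1504

open Cfsg.Agent.Lib.Characters Cfsg.Agent.Lib.OddChar

open scoped Classical in
theorem prod_unique {G : Type*} [Group G] {W₁ W₂ : Subgroup G} {φ ψ φ' ψ' : ↥(W₁ ⊔ W₂) →* ℂˣ}
    (hφ : ∀ w : ↥(W₁ ⊔ W₂), (w : G) ∈ W₂ → φ w = 1) (hψ : ∀ w : ↥(W₁ ⊔ W₂), (w : G) ∈ W₁ → ψ w = 1)
    (hφ' : ∀ w : ↥(W₁ ⊔ W₂), (w : G) ∈ W₂ → φ' w = 1) (hψ' : ∀ w : ↥(W₁ ⊔ W₂), (w : G) ∈ W₁ → ψ' w = 1)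
    (h : φ * ψ = φ' * ψ') : φ = φ' ∧ ψ = ψ' := by
  constructor
  · refine hom_ext (fun w hw => ?_) (fun w hw => by rw [hφ w hw, hφ' w hw])
    simpa [hψ w hw, hψ' w hw] using DFunLike.congr_fun h w
  · refine hom_ext (fun w hw => by rw [hψ w hw, hψ' w hw]) (fun w hw => ?_)
    simpa [hφ w hw, hφ' w hw] using DFunLike.congr_fun h w

/-- Let W₁, W₂ be subgroups of a finite group with W₁ ⊓ W₂ = ⊥ whose elements commute, and W = W₁ ⊔ W₂. For linear characters φ, ψ of W with φ trivial on W₂ and ψ trivial on W₁, the function (1 − φ)(1 − ψ) vanishes on W₁ ∪ W₂; and the family of these functions, indexed by pairs (φ, ψ) with φ ≠ 1 ≠ ψ, is linearly independent over ℂ. -/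
theorem result {G : Type*} [Group G] [Finite G] (W₁ W₂ : Subgroup G) (hdisj : W₁ ⊓ W₂ = ⊥) (hcomm : ∀ a ∈ W₁, ∀ b ∈ W₂, a * b = b * a) : (∀ φ ψ : ↥(W₁ ⊔ W₂) →* ℂˣ, (∀ w : ↥(W₁ ⊔ W₂), (w : G) ∈ W₂ → φ w = 1) → (∀ w : ↥(W₁ ⊔ W₂), (w : G) ∈ W₁ → ψ w = 1) → ∀ w : ↥(W₁ ⊔ W₂), ((w : G) ∈ W₁ ∨ (w : G) ∈ W₂) → (1 - (φ w : ℂ) - (ψ w : ℂ) + (φ w : ℂ) * (ψ w : ℂ)) = 0) ∧ LinearIndependent ℂ (fun p : {p : (↥(W₁ ⊔ W₂) →* ℂˣ) × (↥(W₁ ⊔ W₂) →* ℂˣ) // p.1 ≠ 1 ∧ p.2 ≠ 1 ∧ (∀ w : ↥(W₁ ⊔ W₂), (w : G) ∈ W₂ → p.1 w = 1) ∧ (∀ w : ↥(W₁ ⊔ W₂), (w : G) ∈ W₁ → p.2 w = 1)} => fun w : ↥(W₁ ⊔ W₂) => 1 - (p.1.1 w : ℂ) - (p.1.2 w : ℂ) + (p.1.1 w : ℂ) * (p.1.2 w : ℂ)) := by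
  classical
  refine ⟨fun φ ψ hφ hψ w hw => ?_, ?_⟩
  · rcases hw with hw | hw
    · simp [hψ w hw]
    · simp [hφ w hw]
  · haveI := Fintype.ofFinite ↥(W₁ ⊔ W₂)
    rw [linearIndependent_iff']
    intro s c hsum p hp
    obtain ⟨⟨φ₀, ψ₀⟩, h1, h2, hφ₀, hψ₀⟩ := p
    dsimp only at h1 h2 hφ₀ hψ₀
    let L : (↥(W₁ ⊔ W₂) →* ℂˣ) → (↥(W₁ ⊔ W₂) → ℂ) := fun l w => (l w : ℂ)
    have hin : ∀ l l' : ↥(W₁ ⊔ W₂) →* ℂˣ, classInner (L l) (L l') = if l = l' then 1 else 0 := by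
      intro l l'
      split_ifs with h
      · subst h; exact IsIrrCharacter.classInner_self (isIrrCharacter_unitsHom l)
      · exact IsIrrCharacter.classInner_ne (isIrrCharacter_unitsHom l) (isIrrCharacter_unitsHom l')
          fun e => h (MonoidHom.ext fun w => Units.ext (congrFun e w))
    have h0 := congrArg (fun F => classInner F (L (φ₀ * ψ₀))) hsum
    simp only [classInner_sum_left, classInner_smul_left] at h0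
    rw [Finset.sum_eq_single_of_mem _ hp] at h0
    · have e : (fun w : ↥(W₁ ⊔ W₂) => 1 - (φ₀ w : ℂ) - (ψ₀ w : ℂ) + (φ₀ w : ℂ) * (ψ₀ w : ℂ)) =
          L 1 - L φ₀ - L ψ₀ + L (φ₀ * ψ₀) := by funext w; simp [L]
      have n1 : (1 : ↥(W₁ ⊔ W₂) →* ℂˣ) ≠ φ₀ * ψ₀ := fun e => h1 (prod_unique (φ := 1) (ψ := 1)
        (fun _ _ => rfl) (fun _ _ => rfl) hφ₀ hψ₀ ((MonoidHom.ext fun w => one_mul _).trans e)).1.symm
      have n2 : φ₀ ≠ φ₀ * ψ₀ := fun e => h2 (prod_unique (φ := φ₀) (ψ := 1)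
        hφ₀ (fun _ _ => rfl) hφ₀ hψ₀ ((MonoidHom.ext fun w => mul_one _).trans e)).2.symm
      have n3 : ψ₀ ≠ φ₀ * ψ₀ := fun e => h1 (prod_unique (φ := 1) (ψ := ψ₀)
        (fun _ _ => rfl) hψ₀ hφ₀ hψ₀ ((MonoidHom.ext fun w => one_mul _).trans e)).1.symm
      simp only [e, classInner_add_left, classInner_sub_left, hin, if_neg n1, if_neg n2, if_neg n3,
        if_pos] at h0
      simpa [classInner] using h0
    · rintro ⟨⟨φ, ψ⟩, g1, g2, hφ, hψ⟩ - hne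
      dsimp only at g1 g2 hφ hψ
      have e : (fun w : ↥(W₁ ⊔ W₂) => 1 - (φ w : ℂ) - (ψ w : ℂ) + (φ w : ℂ) * (ψ w : ℂ)) =
          L 1 - L φ - L ψ + L (φ * ψ) := by funext w; simp [L]
      have n1 : (1 : ↥(W₁ ⊔ W₂) →* ℂˣ) ≠ φ₀ * ψ₀ := fun e => h1 (prod_unique (φ := 1) (ψ := 1)
        (fun _ _ => rfl) (fun _ _ => rfl) hφ₀ hψ₀ ((MonoidHom.ext fun w => one_mul _).trans e)).1.symm
      have n2 : φ ≠ φ₀ * ψ₀ := fun e => h2 (prod_unique (φ := φ) (ψ := 1)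
        hφ (fun _ _ => rfl) hφ₀ hψ₀ ((MonoidHom.ext fun w => mul_one _).trans e)).2.symm
      have n3 : ψ ≠ φ₀ * ψ₀ := fun e => h1 (prod_unique (φ := 1) (ψ := ψ)
        (fun _ _ => rfl) hψ hφ₀ hψ₀ ((MonoidHom.ext fun w => one_mul _).trans e)).1.symm
      have n4 : φ * ψ ≠ φ₀ * ψ₀ := fun e => hne (by
        obtain ⟨rfl, rfl⟩ := prod_unique hφ hψ hφ₀ hψ₀ e
        rfl)
      simp only [e, classInner_add_left, classInner_sub_left, hin, if_neg n1, if_neg n2, if_neg n3,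
        if_neg n4]
      simp

end Cfsg.Agent.S1504
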