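import Cfsg.Statements.S1505
import Cfsg.Agent.Lib.OddChar.CyclicTI
import Cfsg.Agent.S1504
import Cfsg.Agent.Lib.Characters.TI
import Mathlib.GroupTheory.SpecificGroups.Cyclic

set_option autoImplicit false
open Cfsg

namespace Cfsg.Agent.S1505

open Cfsg.Agent.Lib.Characters Cfsg.Agent.Lib.OddChar

open Classical in
/-- Let W₁, W₂ ≤ G form a self-normalising cyclic subgroup W = W₁ ⊔ W₂. For nontrivial linear characters φ, φ' of W trivial on W₂ and ψ, ψ' trivial on W₁, put α = (1 − φ)(1 − ψ) and α' = (1 − φ')(1 − ψ'). Then the function induced from α to G has inner product 1 with the principal character, and the inner product of the functions induced from α and α' is 1 + a + b + ab where a = 1 if φ = φ' (else 0) and b = 1 if ψ = ψ' (else 0). -/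
theorem result {G : Type*} [Group G] [Fintype G] (W₁ W₂ : Subgroup G) (hW : Cfsg.IsSelfNormalizingCyclic W₁ W₂) (φ φ' ψ ψ' : ↥(W₁ ⊔ W₂) →* ℂˣ) (hφ : φ ≠ 1) (hφ' : φ' ≠ 1) (hψ : ψ ≠ 1) (hψ' : ψ' ≠ 1) (hφ₂ : ∀ w : ↥(W₁ ⊔ W₂), (w : G) ∈ W₂ → φ w = 1 ∧ φ' w = 1) (hψ₁ : ∀ w : ↥(W₁ ⊔ W₂), (w : G) ∈ W₁ → ψ w = 1 ∧ ψ' w = 1) : Cfsg.classInner (Cfsg.indFun (W₁ ⊔ W₂) (fun w => 1 - (φ w : ℂ) - (ψ w : ℂ) + (φ w : ℂ) * (ψ w : ℂ))) (fun _ => 1) = 1 ∧ Cfsg.classInner (Cfsg.indFun (W₁ ⊔ W₂) (fun w => 1 - (φ w : ℂ) - (ψ w : ℂ) + (φ w : ℂ) * (ψ w : ℂ))) (Cfsg.indFun (W₁ ⊔ W₂) (fun w => 1 - (φ' w : ℂ) - (ψ' w : ℂ) + (φ' w : ℂ) * (ψ' w : ℂ))) = 1 + (if φ = φ' then 1 else 0) + (if ψ = ψ' then 1 else 0) + (if φ = φ' then 1 else 0) * (if ψ = ψ' then 1 else 0) := by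
  classical
  haveI := Fintype.ofFinite ↥(W₁ ⊔ W₂)
  obtain ⟨hb1, hb2, hdisj, hcomm, hcyc, hnorm⟩ := hW
  have hWc : ∀ a ∈ W₁ ⊔ W₂, ∀ b ∈ W₁ ⊔ W₂, a * b = b * a := fun a ha b hb =>
    congrArg Subtype.val ((IsCyclic.isMulCommutative (α := ↥(W₁ ⊔ W₂))).is_comm.comm ⟨a, ha⟩ ⟨b, hb⟩)
  let V : Set G := (↑(W₁ ⊔ W₂) : Set G) \ (↑W₁ ∪ ↑W₂)
  -- subgroups of a cyclic group are invariant
  have hinv : ∀ K : Subgroup G, K ≤ (W₁ ⊔ W₂) → ∀ x : G, (∀ w ∈ (W₁ ⊔ W₂), x⁻¹ * w * x ∈ (W₁ ⊔ W₂)) →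
      ∀ w ∈ K, x⁻¹ * w * x ∈ K := by
    intro K hK x hx w hw
    haveI := Fintype.ofFinite ↥(W₁ ⊔ W₂)
    have hpow : ∀ v ∈ K, v ^ Nat.card K = 1 := fun v hv =>
      orderOf_dvd_iff_pow_eq_one.mp (K.orderOf_dvd_natCard hv)
    have hle := hcyc.card_pow_eq_one_le (n := Nat.card K) Nat.card_pos
    let F : Finset ↥(W₁ ⊔ W₂) := Finset.univ.filter fun v : ↥(W₁ ⊔ W₂) => (v : G) ∈ K
    have hF : F.card = Nat.card K := by
      rw [← Fintype.card_subtype, ← Nat.card_eq_fintype_card]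
      exact Nat.card_congr (Subgroup.subgroupOfEquivOfLe hK).toEquiv
    have hFeq : F = Finset.univ.filter fun v : ↥(W₁ ⊔ W₂) => v ^ Nat.card K = 1 := by
      refine Finset.eq_of_subset_of_card_le (fun v hv => ?_) (hF.symm ▸ hle)
      simp only [F, Finset.mem_filter, Finset.mem_univ, true_and] at hv ⊢
      exact Subtype.ext (hpow v hv)
    have : (⟨x⁻¹ * w * x, hx w (hK hw)⟩ : ↥(W₁ ⊔ W₂)) ∈ Finset.univ.filter fun v : ↥(W₁ ⊔ W₂) => v ^ Nat.card K = 1 := by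
      simp only [Finset.mem_filter, Finset.mem_univ, true_and]
      refine Subtype.ext ?_
      rw [SubgroupClass.coe_pow]
      have e : x⁻¹ * w * x = x⁻¹ * w * x⁻¹⁻¹ := by group
      rw [Subgroup.coe_mk, e, conj_pow, hpow w hw]
      simp
    rw [← hFeq] at this
    simpa [F] using this
  have hC : ∀ t ∈ V, ∀ g : G, g * t = t * g → g ∈ (W₁ ⊔ W₂) := by
    intro t ht g hg
    rw [← hnorm {t} (Set.singleton_subset_iff.mpr ht) (Set.singleton_nonempty t),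
      Subgroup.mem_set_normalizer_iff]
    intro y
    constructor
    · rintro rfl
      rw [Set.mem_singleton_iff, hg]; group
    · intro hy
      rw [Set.mem_singleton_iff] at hy ⊢
      calc y = g⁻¹ * (g * y * g⁻¹) * g := by group
        _ = t := by rw [hy, mul_assoc, ← hg]; group
  have hTI : ∀ t ∈ V, ∀ x : G, x⁻¹ * t * x ∈ V → x ∈ (W₁ ⊔ W₂) := by
    intro t ht x hxt
    have hWx : ∀ w ∈ (W₁ ⊔ W₂), x⁻¹ * w * x ∈ (W₁ ⊔ W₂) := by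
      intro w hw
      refine hC _ hxt _ ?_
      calc x⁻¹ * w * x * (x⁻¹ * t * x) = x⁻¹ * (w * t) * x := by group
        _ = x⁻¹ * (t * w) * x := by rw [hWc w hw t ht.1]
        _ = _ := by group
    have hWx' : ∀ w ∈ (W₁ ⊔ W₂), x⁻¹⁻¹ * w * x⁻¹ ∈ (W₁ ⊔ W₂) := by
      intro w hw
      refine hC t ht _ ?_
      calc x⁻¹⁻¹ * w * x⁻¹ * t = x * (w * (x⁻¹ * t * x)) * x⁻¹ := by group
        _ = x * ((x⁻¹ * t * x) * w) * x⁻¹ := by rw [hWc w hw _ hxt.1]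
        _ = _ := by group
    have hV : ∀ z : G, (∀ w ∈ (W₁ ⊔ W₂), z⁻¹ * w * z ∈ (W₁ ⊔ W₂)) → (∀ w ∈ (W₁ ⊔ W₂), z⁻¹⁻¹ * w * z⁻¹ ∈ (W₁ ⊔ W₂)) →
        ∀ v ∈ V, z⁻¹ * v * z ∈ V := by
      rintro z hz hz' v ⟨hv, hvn⟩
      refine ⟨hz v hv, fun hc => hvn ?_⟩
      rcases hc with hc | hc
      · left; have := hinv W₁ le_sup_left z⁻¹ hz' _ hc; simpa [mul_assoc] using this
      · right; have := hinv W₂ le_sup_right z⁻¹ hz' _ hc; simpa [mul_assoc] using this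
    have hN := hnorm V subset_rfl ⟨t, ht⟩
    rw [← hN, Subgroup.mem_set_normalizer_iff]
    intro v
    constructor
    · intro hv
      have := hV x⁻¹ hWx' (by simpa using hWx) v hv
      simpa using this
    · intro hv
      have := hV x hWx hWx' _ hv
      simpa [mul_assoc] using this
  have hp2 : ∀ w : ↥(W₁ ⊔ W₂), (w : G) ∈ W₂ → φ w = 1 := fun w hw => (hφ₂ w hw).1
  have hp2' : ∀ w : ↥(W₁ ⊔ W₂), (w : G) ∈ W₂ → φ' w = 1 := fun w hw => (hφ₂ w hw).2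
  have hp1 : ∀ w : ↥(W₁ ⊔ W₂), (w : G) ∈ W₁ → ψ w = 1 := fun w hw => (hψ₁ w hw).1
  have hp1' : ∀ w : ↥(W₁ ⊔ W₂), (w : G) ∈ W₁ → ψ' w = 1 := fun w hw => (hψ₁ w hw).2
  let Lc : (↥(W₁ ⊔ W₂) →* ℂˣ) → (↥(W₁ ⊔ W₂) → ℂ) := fun l w => (l w : ℂ)
  have hin : ∀ l l' : ↥(W₁ ⊔ W₂) →* ℂˣ, classInner (Lc l) (Lc l') = if l = l' then 1 else 0 := by
    intro l l'
    split_ifs with h
    · subst h; exact IsIrrCharacter.classInner_self (isIrrCharacter_unitsHom l)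
    · exact IsIrrCharacter.classInner_ne (isIrrCharacter_unitsHom l) (isIrrCharacter_unitsHom l')
        fun e => h (MonoidHom.ext fun w => Units.ext (congrFun e w))
  have eα : ∀ a b : ↥(W₁ ⊔ W₂) →* ℂˣ,
      (fun w : ↥(W₁ ⊔ W₂) => 1 - (a w : ℂ) - (b w : ℂ) + (a w : ℂ) * (b w : ℂ)) = Lc 1 - Lc a - Lc b + Lc (a * b) :=
    fun a b => by funext w; simp [Lc]
  have one' : ∀ w : ↥(W₁ ⊔ W₂), (w : G) ∈ W₂ → (1 : ↥(W₁ ⊔ W₂) →* ℂˣ) w = 1 := fun _ _ => rfl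
  have one'' : ∀ w : ↥(W₁ ⊔ W₂), (w : G) ∈ W₁ → (1 : ↥(W₁ ⊔ W₂) →* ℂˣ) w = 1 := fun _ _ => rfl
  have m1 : ∀ l : ↥(W₁ ⊔ W₂) →* ℂˣ, 1 * l = l := fun l => MonoidHom.ext fun w => one_mul _
  have m2 : ∀ l : ↥(W₁ ⊔ W₂) →* ℂˣ, l * 1 = l := fun l => MonoidHom.ext fun w => mul_one _
  have u := fun {a b a' b' : ↥(W₁ ⊔ W₂) →* ℂˣ} => Cfsg.Agent.S1504.prod_unique (W₁ := W₁) (W₂ := W₂)
    (φ := a) (ψ := b) (φ' := a') (ψ' := b')
  have n1 : φ ≠ ψ := fun e => hφ (u hp2 one'' one' hp1 (by rw [m1, m2]; exact e)).1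
  have n1' : φ ≠ ψ' := fun e => hφ (u hp2 one'' one' hp1' (by rw [m1, m2]; exact e)).1
  have n2 : ψ ≠ φ' := fun e => hφ' (u hp2' one'' one' hp1 (by rw [m1, m2]; exact e.symm)).1
  have n3 : φ ≠ φ' * ψ' := fun e => hψ' (u hp2 one'' hp2' hp1' (by rw [m2]; exact e)).2.symm
  have n3' : φ ≠ φ * ψ := fun e => hψ (u hp2 one'' hp2 hp1 (by rw [m2]; exact e)).2.symm
  have n4 : ψ ≠ φ' * ψ' := fun e => hφ' (u one' hp1 hp2' hp1' (by rw [m1]; exact e)).1.symm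
  have n5 : φ * ψ ≠ φ' := fun e => hψ (u hp2 hp1 hp2' one'' (by rw [m2]; exact e)).2
  have n6 : φ * ψ ≠ ψ' := fun e => hφ (u hp2 hp1 one' hp1' (by rw [m1]; exact e)).1
  have n7 : φ * ψ ≠ 1 := fun e => hφ (u hp2 hp1 one' one'' (by rw [m1]; exact e)).1
  have n8 : φ' * ψ' ≠ 1 := fun e => hφ' (u hp2' hp1' one' one'' (by rw [m1]; exact e)).1
  have n9 : (φ * ψ = φ' * ψ') ↔ (φ = φ' ∧ ψ = ψ') :=
    ⟨fun e => u hp2 hp1 hp2' hp1' e, fun ⟨a, b⟩ => by rw [a, b]⟩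
  constructor
  · rw [classInner_indFun (W₁ ⊔ W₂) _ (fun _ _ => rfl)]
    have e : (fun _ : ↥(W₁ ⊔ W₂) => (1 : ℂ)) = Lc 1 := by funext w; simp [Lc]
    rw [e, eα]
    simp only [classInner_add_left, classInner_sub_left, hin, if_neg hφ, if_neg hψ, if_neg n7,
      if_pos rfl]
    norm_num
  · have hz : ∀ a b : ↥(W₁ ⊔ W₂) →* ℂˣ, (∀ w : ↥(W₁ ⊔ W₂), (w : G) ∈ W₂ → a w = 1) → (∀ w : ↥(W₁ ⊔ W₂), (w : G) ∈ W₁ → b w = 1) →
        ∀ x : ↥(W₁ ⊔ W₂), (x : G) ∉ V → (fun w : ↥(W₁ ⊔ W₂) => 1 - (a w : ℂ) - (b w : ℂ) + (a w : ℂ) * (b w : ℂ)) x = 0 := by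
      intro a b ha hb x hx
      by_cases h1 : (x : G) ∈ W₁
      · simp [hb x h1]
      by_cases h2 : (x : G) ∈ W₂
      · simp [ha x h2]
      exact absurd ⟨x.2, by simp [h1, h2]⟩ hx
    rw [classInner_indFun_indFun_eq (W₁ ⊔ W₂) V ?_ (hz φ' ψ' hp2' hp1') ?_]
    · rw [eα φ ψ, eα φ' ψ']
      simp only [classInner_add_left, classInner_sub_left, classInner_add_right, classInner_sub_right,
        hin, if_neg hφ, if_neg hψ, if_neg n7, if_neg (Ne.symm hφ'), if_neg (Ne.symm hψ'), if_neg n1',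
        if_neg n2, if_neg n3, if_neg n4, if_neg n5, if_neg n6, if_neg (Ne.symm n8), if_pos rfl]
      by_cases h1 : φ = φ' <;> by_cases h2 : ψ = ψ' <;> simp [h1, h2, n9]
    · intro g h
      have e : h * g * h⁻¹ = g := by
        rw [Subtype.ext (hWc h h.2 g g.2) (a1 := h * g) (a2 := g * h)]
        group
      show (fun w : ↥(W₁ ⊔ W₂) => _) (h * g * h⁻¹) = _
      rw [e]
    · intro t ht x hx hxt
      exact hx (hTI t (by
        by_contra h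
        exact ht (hz φ ψ hp2 hp1 t h)) x hxt)

end Cfsg.Agent.S1505
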