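import Cfsg.Statements.S1507
import Cfsg.Agent.Lib.OddChar.CyclicTI

set_option autoImplicit false
open Cfsg

namespace Cfsg.Agent.S1507

open Cfsg.Agent.Lib.Characters Cfsg.Agent.Lib.OddChar

open scoped Classical in
theorem additive_dichotomy {A B : Type*} [Finite A] [Finite B] [Nonempty A] [Nonempty B] (f : A → ℂ)
    (g : B → ℂ) (hcard : Nat.card A + 2 ≤ Nat.card B)
    (hfew : Nat.card {p : A × B // f p.1 + g p.2 ≠ 0} < 2 * Nat.card A) :
    (∀ a b, f a + g b = 0) ∨ (∃ b₀ c, ∀ a b, f a + g b = if b = b₀ then c else 0) ∨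
      (∃ a₀ c, ∀ a b, f a + g b = if a = a₀ then c else 0) := by
  haveI := Fintype.ofFinite A
  haveI := Fintype.ofFinite B
  rw [Nat.card_eq_fintype_card, Nat.card_eq_fintype_card] at hcard
  rw [Nat.card_eq_fintype_card, Nat.card_eq_fintype_card] at hfew
  by_cases hg : ∀ b b', g b = g b'
  · obtain ⟨b₁⟩ := (inferInstance : Nonempty B)
    by_cases h0 : ∀ a, f a + g b₁ = 0
    · exact Or.inl fun a b => by rw [hg b b₁, h0]
    push Not at h0
    obtain ⟨a₀, ha₀⟩ := h0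
    refine Or.inr (Or.inr ⟨a₀, f a₀ + g b₁, fun a b => ?_⟩)
    rw [hg b b₁]
    split_ifs with h
    · rw [h]
    by_contra hne
    let k : B ⊕ B → {p : A × B // f p.1 + g p.2 ≠ 0} :=
      Sum.elim (fun b => ⟨(a₀, b), by rw [hg b b₁]; exact ha₀⟩) (fun b => ⟨(a, b), by rw [hg b b₁]; exact hne⟩)
    have hk : Function.Injective k := by
      rintro (x | x) (y | y) e <;> simp [k, h, Ne.symm h] at e ⊢ <;> exact e
    have := Fintype.card_le_of_injective k hk
    rw [Fintype.card_sum] at this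
    omega
  by_cases hf : ∀ a a', f a = f a'
  · obtain ⟨a₁⟩ := (inferInstance : Nonempty A)
    by_cases h0 : ∀ b, f a₁ + g b = 0
    · exact Or.inl fun a b => by rw [hf a a₁, h0]
    push Not at h0
    obtain ⟨b₀, hb₀⟩ := h0
    refine Or.inr (Or.inl ⟨b₀, f a₁ + g b₀, fun a b => ?_⟩)
    rw [hf a a₁]
    split_ifs with h
    · rw [h]
    by_contra hne
    let k : A ⊕ A → {p : A × B // f p.1 + g p.2 ≠ 0} :=
      Sum.elim (fun a => ⟨(a, b₀), by rw [hf a a₁]; exact hb₀⟩) (fun a => ⟨(a, b), by rw [hf a a₁]; exact hne⟩)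
    have hk : Function.Injective k := by
      rintro (x | x) (y | y) e <;> simp [k, h, Ne.symm h] at e ⊢ <;> exact e
    have := Fintype.card_le_of_injective k hk
    rw [Fintype.card_sum] at this
    omega
  exfalso
  push Not at hg hf
  obtain ⟨b₁, b₂, hb⟩ := hg
  obtain ⟨a₁, a₂, ha⟩ := hf
  have hrow : ∀ a, ∃ b, f a + g b ≠ 0 := fun a => by
    by_contra hc
    push Not at hc
    exact hb (add_left_cancel ((hc b₁).trans (hc b₂).symm))
  choose r hr using hrow
  have hcol : ∀ b, f a₁ + g b = 0 → f a₂ + g b ≠ 0 := fun b e1 e2 =>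
    ha (add_right_cancel (e1.trans e2.symm))
  let k : B ⊕ {a : A // a ∉ ({a₁, a₂} : Finset A)} → {p : A × B // f p.1 + g p.2 ≠ 0} :=
    Sum.elim (fun b => if h : f a₁ + g b = 0 then ⟨(a₂, b), hcol b h⟩ else ⟨(a₁, b), h⟩)
      (fun a => ⟨(a.1, r a.1), hr a.1⟩)
  have hk1 : ∀ b, ((k (Sum.inl b)).1.1 = a₁ ∨ (k (Sum.inl b)).1.1 = a₂) ∧ (k (Sum.inl b)).1.2 = b := by
    intro b
    simp only [k, Sum.elim_inl]
    split_ifs <;> simp
  have hk : Function.Injective k := by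
    rintro (x | x) (y | y) e
    · have : (k (Sum.inl x)).1.2 = (k (Sum.inl y)).1.2 :=
        congrArg (fun z : {p : A × B // f p.1 + g p.2 ≠ 0} => z.1.2) e
      rw [(hk1 x).2, (hk1 y).2] at this
      rw [this]
    · exfalso
      have h1 := (hk1 x).1
      rw [e] at h1
      exact y.2 (by simpa [k] using h1)
    · exfalso
      have h1 := (hk1 y).1
      rw [← e] at h1
      exact x.2 (by simpa [k] using h1)
    · have := congrArg (fun z : {p : A × B // f p.1 + g p.2 ≠ 0} => z.1.1) e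
      exact congrArg Sum.inr (Subtype.ext this)
  have h1 := Fintype.card_le_of_injective k hk
  rw [Fintype.card_sum, Fintype.card_subtype_compl] at h1
  simp only [Fintype.card_coe] at h1
  have h2 : ({a₁, a₂} : Finset A).card ≤ 2 := Finset.card_le_two
  omega

open Classical in
/-- Let W₁, W₂ ≤ G form a self-normalising cyclic subgroup W = W₁ ⊔ W₂ of odd order with Nat.card W₁ < Nat.card W₂, and χ an orthonormal family of irreducible characters of G up to sign, indexed by the linear characters ω of W, with χ_1 = 1, χ_ω = ω on W outside W₁ ∪ W₂, and the induction identity for (1 − φ)(1 − ψ). Let θ be a class function of G vanishing on W outside W₁ ∪ W₂, and suppose fewer than 2 · Nat.card W₁ linear characters ω of W have ⟨θ, χ ω⟩ ≠ 0. Then one of: all ⟨θ, χ ω⟩ vanish; or there are ψ₀ and a with ⟨θ, χ ω⟩ = a when ω ψ₀⁻¹ is trivial on W₂ and 0 otherwise; or there are φ₀ and a with ⟨θ, χ ω⟩ = a when ω φ₀⁻¹ is trivial on W₁ and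 0 otherwise. -/
theorem result {G : Type*} [Group G] [Fintype G] (W₁ W₂ : Subgroup G) (hW : Cfsg.IsSelfNormalizingCyclic W₁ W₂) (hodd : Odd (Nat.card ↥(W₁ ⊔ W₂))) (χ : (↥(W₁ ⊔ W₂) →* ℂˣ) → (G → ℂ)) (hχ : Cfsg.IsCyclicTIFamily W₁ W₂ χ) (hlt : Nat.card W₁ < Nat.card W₂) (θ : G → ℂ) (hθ : Cfsg.IsClassFunction G θ) (hθV : ∀ w : ↥(W₁ ⊔ W₂), (w : G) ∉ W₁ → (w : G) ∉ W₂ → θ w = 0) (hfew : Nat.card {ω : ↥(W₁ ⊔ W₂) →* ℂˣ // Cfsg.classInner θ (χ ω) ≠ 0} < 2 * Nat.card W₁) : (∀ ω, Cfsg.classInner θ (χ ω) = 0) ∨ (∃ (ψ₀ : ↥(W₁ ⊔ W₂) →* ℂˣ) (a : ℂ), ∀ ω, Cfsg.classInner θ (χ ω) = if (∀ w : ↥(W₁ ⊔ W₂), (w : G) ∈ W₂ → (ω * ψ₀⁻¹) w = 1) then a else 0) ∨ (∃ (φ₀ : ↥(W₁ ⊔ W₂) →* ℂˣ) (a : ℂ), ∀ ω, Cfsg.classInner θ (χ ω) = if (∀ w : ↥(W₁ ⊔ W₂), (w : G) ∈ W₁ → (ω * φ₀⁻¹) w = 1) then a else 0) := by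
  classical
  obtain ⟨-, -, hdisj, hcomm, hcyc, -⟩ := hW
  have hWc : ∀ a b : ↥(W₁ ⊔ W₂), a * b = b * a := fun a b =>
    (IsCyclic.isMulCommutative (α := ↥(W₁ ⊔ W₂))).is_comm.comm a b
  have hA₁ : ∀ a b : W₁, a * b = b * a := fun a b => Subtype.ext (congrArg Subtype.val
    (hWc (Subgroup.inclusion le_sup_left a) (Subgroup.inclusion le_sup_left b)) :)
  have hA₂ : ∀ a b : W₂, a * b = b * a := fun a b => Subtype.ext (congrArg Subtype.val
    (hWc (Subgroup.inclusion le_sup_right a) (Subgroup.inclusion le_sup_right b)) :)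
  haveI := finite_hom hA₁
  haveI := finite_hom hA₂
  obtain ⟨p₁, p₂, hp, hp₁, hp₂⟩ := exists_proj W₁ W₂ hdisj hcomm
  let E : (↥(W₁ ⊔ W₂) →* ℂˣ) ≃ (W₁ →* ℂˣ) × (W₂ →* ℂˣ) :=
    { toFun := fun ω => (ω.comp (Subgroup.inclusion le_sup_left), ω.comp (Subgroup.inclusion le_sup_right))
      invFun := fun l => l.1.comp p₁ * l.2.comp p₂
      left_inv := fun ω => MonoidHom.ext fun w => by
        simp only [MonoidHom.mul_apply, MonoidHom.comp_apply]
        rw [← map_mul]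
        exact congrArg ω (Subtype.ext (hp w))
      right_inv := fun l => Prod.ext
        (MonoidHom.ext fun a => by simp [(hp₁ a).1, (hp₁ a).2])
        (MonoidHom.ext fun b => by simp [(hp₂ b).1, (hp₂ b).2]) }
  set a₁ := classInner θ (χ 1) with ha₁
  set f : (W₁ →* ℂˣ) → ℂ := fun l => classInner θ (χ (l.comp p₁)) with hf
  set g : (W₂ →* ℂˣ) → ℂ := fun l => classInner θ (χ (l.comp p₂)) - a₁ with hg
  have hadd : ∀ l : (W₁ →* ℂˣ) × (W₂ →* ℂˣ), classInner θ (χ (E.symm l)) = f l.1 + g l.2 := by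
    intro l
    show classInner θ (χ (l.1.comp p₁ * l.2.comp p₂)) = _
    rw [coord_add hχ hθ hθV
      (fun x hx => by rw [MonoidHom.comp_apply, (mem_right_iff hp hp₂ x).mp hx, map_one])
      (fun x hx => by rw [MonoidHom.comp_apply, (mem_left_iff hp hp₁ x).mp hx, map_one])]
    simp only [hf, hg]
    ring
  have hval : ∀ ω, classInner θ (χ ω) = f (E ω).1 + g (E ω).2 := fun ω => by
    rw [← hadd, E.symm_apply_apply]
  have hn1 : Nat.card (W₁ →* ℂˣ) = Nat.card W₁ := card_hom hA₁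
  have hn2 : Nat.card (W₂ →* ℂˣ) = Nat.card W₂ := card_hom hA₂
  have ho1 : Odd (Nat.card W₁) := hodd.of_dvd_nat (Subgroup.card_dvd_of_le le_sup_left)
  have ho2 : Odd (Nat.card W₂) := hodd.of_dvd_nat (Subgroup.card_dvd_of_le le_sup_right)
  rw [Nat.card_congr (E.subtypeEquiv
    (q := fun l => f l.1 + g l.2 ≠ 0) fun ω => by rw [hval]), ← hn1] at hfew
  obtain ⟨i, hi⟩ := ho1
  obtain ⟨j, hj⟩ := ho2
  rcases additive_dichotomy f g (by omega) hfew with h | ⟨m₀, c, h⟩ | ⟨l₀, c, h⟩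
  · exact Or.inl fun ω => by rw [hval, h]
  · refine Or.inr (Or.inl ⟨m₀.comp p₂, c, fun ω => ?_⟩)
    have hiff : (∀ w : ↥(W₁ ⊔ W₂), (w : G) ∈ W₂ → (ω * (m₀.comp p₂)⁻¹) w = 1) ↔ (E ω).2 = m₀ := by
      constructor
      · intro h'
        refine MonoidHom.ext fun b => ?_
        have := h' (Subgroup.inclusion le_sup_right b) b.2
        rw [MonoidHom.mul_apply, MonoidHom.inv_apply, mul_inv_eq_one, MonoidHom.comp_apply, (hp₂ b).2] at this
        exact this
      · intro h' w hw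
        rw [MonoidHom.mul_apply, MonoidHom.inv_apply, mul_inv_eq_one, MonoidHom.comp_apply, ← h']
        show ω w = ω (Subgroup.inclusion le_sup_right (p₂ w))
        congr 1
        exact Subtype.ext (by simpa [(mem_right_iff hp hp₂ w).mp hw] using (hp w).symm)
    rw [hval, h]
    by_cases hc : (E ω).2 = m₀
    · rw [if_pos hc, if_pos (hiff.mpr hc)]
    · rw [if_neg hc, if_neg (fun e => hc (hiff.mp e))]
  · refine Or.inr (Or.inr ⟨l₀.comp p₁, c, fun ω => ?_⟩)
    have hiff : (∀ w : ↥(W₁ ⊔ W₂), (w : G) ∈ W₁ → (ω * (l₀.comp p₁)⁻¹) w = 1) ↔ (E ω).1 = l₀ := by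
      constructor
      · intro h'
        refine MonoidHom.ext fun b => ?_
        have := h' (Subgroup.inclusion le_sup_left b) b.2
        rw [MonoidHom.mul_apply, MonoidHom.inv_apply, mul_inv_eq_one, MonoidHom.comp_apply, (hp₁ b).1] at this
        exact this
      · intro h' w hw
        rw [MonoidHom.mul_apply, MonoidHom.inv_apply, mul_inv_eq_one, MonoidHom.comp_apply, ← h']
        show ω w = ω (Subgroup.inclusion le_sup_left (p₁ w))
        congr 1
        exact Subtype.ext (by simpa [(mem_left_iff hp hp₁ w).mp hw] using (hp w).symm)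
    rw [hval, h]
    by_cases hc : (E ω).1 = l₀
    · rw [if_pos hc, if_pos (hiff.mpr hc)]
    · rw [if_neg hc, if_neg (fun e => hc (hiff.mp e))]

end Cfsg.Agent.S1507
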