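import Cfsg.Statements.S1508
import Cfsg.Agent.Lib.OddChar.CyclicTI
import Cfsg.Agent.Lib.OddChar.GaloisConj
import Cfsg.Agent.Lib.BlockHeights.Galois
import Mathlib.Data.ZMod.Units

set_option autoImplicit false
open Cfsg

namespace Cfsg.Agent.S1508

open Cfsg.Agent.Lib.Characters Cfsg.Agent.Lib.BlockHeights Cfsg.Agent.Lib.OddChar

/-- An irreducible character up to sign which agrees with the linear character on the TI set is the
corresponding member of the family. -/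
theorem eq_of_eq_on {G : Type*} [Group G] [Fintype G] (W₁ W₂ : Subgroup G)
    (hW : Cfsg.IsSelfNormalizingCyclic W₁ W₂) (hodd : Odd (Nat.card ↥(W₁ ⊔ W₂)))
    (χ : (↥(W₁ ⊔ W₂) →* ℂˣ) → (G → ℂ)) (hχ : Cfsg.IsCyclicTIFamily W₁ W₂ χ)
    (ω : ↥(W₁ ⊔ W₂) →* ℂˣ) (θ : G → ℂ) (hθ : IsIrrCharacter G θ ∨ IsIrrCharacter G (-θ))
    (hon : ∀ w : ↥(W₁ ⊔ W₂), (w : G) ∉ W₁ → (w : G) ∉ W₂ → θ w = (ω w : ℂ)) : θ = χ ω := by
  classical
  obtain ⟨h1, h2, hdisj, hcomm, hcyc, -⟩ := hW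
  obtain ⟨p₁, p₂, hp, hp₁, hp₂⟩ := exists_proj W₁ W₂ hdisj hcomm
  haveI := hcyc
  let _ : CommGroup ↥(W₁ ⊔ W₂) := IsCyclic.commGroup
  have hA₁ : ∀ a b : W₁, a * b = b * a := fun a b => Subtype.ext (congrArg Subtype.val
    (mul_comm (Subgroup.inclusion (le_sup_left : W₁ ≤ W₁ ⊔ W₂) a) (Subgroup.inclusion le_sup_left b)) :)
  have hA₂ : ∀ a b : W₂, a * b = b * a := fun a b => Subtype.ext (congrArg Subtype.val
    (mul_comm (Subgroup.inclusion (le_sup_right : W₂ ≤ W₁ ⊔ W₂) a) (Subgroup.inclusion le_sup_right b)) :)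
  have hthree : ∀ K : Subgroup G, K ≠ ⊥ → K ≤ W₁ ⊔ W₂ → 3 ≤ Nat.card K := by
    intro K hK hle
    have hlt : 1 < Nat.card K := Subgroup.one_lt_card_iff_ne_bot K |>.mpr hK
    obtain ⟨t, ht⟩ := Odd.of_dvd_nat hodd (Subgroup.card_dvd_of_le hle)
    omega
  have hcases : ∀ ω', classInner θ (χ ω') ≠ 0 → θ = χ ω' ∨ θ = -χ ω' := by
    intro ω' hne
    obtain ⟨ε, ξ, hξ, rfl⟩ : ∃ (ε : Bool) (ξ : G → ℂ), IsIrrCharacter G ξ ∧ θ = (if ε then ξ else -ξ) := by
      rcases hθ with h | h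
      exacts [⟨true, θ, h, by simp⟩, ⟨false, -θ, h, by simp⟩]
    obtain ⟨δ, η, hη, hη'⟩ : ∃ (δ : Bool) (η : G → ℂ), IsIrrCharacter G η ∧ χ ω' = (if δ then η else -η) := by
      rcases hχ.irr_or_neg ω' with h | h
      exacts [⟨true, χ ω', h, by simp⟩, ⟨false, -χ ω', h, by simp⟩]
    have he : ξ = η := by
      by_contra h
      apply hne
      have h0 : classInner ξ η = 0 := IsIrrCharacter.classInner_ne hξ hη h
      have hn : ∀ (a b : G → ℂ), classInner (-a) b = -classInner a b ∧ classInner a (-b) = -classInner a b := by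
        intro a b; constructor <;> simp [classInner]
      rw [hη']
      cases ε <;> cases δ <;> simp [(hn _ _).1, (hn _ _).2, h0]
    subst he
    rw [hη']
    cases ε <;> cases δ <;> simp
  haveI := finite_hom hA₁
  haveI := finite_hom hA₂
  haveI := Fintype.ofFinite (W₁ →* ℂˣ)
  haveI := Fintype.ofFinite (W₂ →* ℂˣ)
  -- an element outside both factors
  obtain ⟨⟨a, ha⟩, ha1'⟩ := Subgroup.ne_bot_iff_exists_ne_one.mp h1
  obtain ⟨⟨b, hb⟩, hb1'⟩ := Subgroup.ne_bot_iff_exists_ne_one.mp h2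
  have ha1 : a ≠ 1 := fun h => ha1' (Subtype.ext h)
  have hb1 : b ≠ 1 := fun h => hb1' (Subtype.ext h)
  have hn1 : a * b ∉ W₁ := fun h => hb1 (by
    have : b ∈ W₁ ⊓ W₂ := ⟨by simpa using W₁.mul_mem (W₁.inv_mem ha) h, hb⟩
    rwa [hdisj, Subgroup.mem_bot] at this)
  have hn2 : a * b ∉ W₂ := fun h => ha1 (by
    have : a ∈ W₁ ⊓ W₂ := ⟨ha, by simpa using W₂.mul_mem h (W₂.inv_mem hb)⟩
    rwa [hdisj, Subgroup.mem_bot] at this)
  set v : ↥(W₁ ⊔ W₂) := ⟨a * b, Subgroup.mul_mem_sup ha hb⟩ with hv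
  by_cases hω : classInner θ (χ ω) ≠ 0
  · rcases hcases ω hω with h | h
    · exact h
    · exfalso
      have e1 := hon v hn1 hn2
      rw [h, Pi.neg_apply, hχ.eq_on ω v hn1 hn2] at e1
      exact (ω v).ne_zero (by linear_combination (-1 / 2 : ℂ) * e1)
  rw [not_not] at hω
  exfalso
  set D : G → ℂ := θ - χ ω with hD
  have hcl : ∀ ξ : G → ℂ, (IsIrrCharacter G ξ ∨ IsIrrCharacter G (-ξ)) → IsClassFunction G ξ := by
    rintro ξ (h | h)
    · exact IsCharacter.isClassFunction (IsIrrCharacter.isCharacter h)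
    · intro g k
      exact neg_injective (IsCharacter.isClassFunction (IsIrrCharacter.isCharacter h) g k)
  have hDcl : IsClassFunction G D := fun g k => by
    simp only [hD, Pi.sub_apply]
    rw [hcl θ hθ g k, hcl _ (hχ.irr_or_neg ω) g k]
  have hDV : ∀ w : ↥(W₁ ⊔ W₂), (w : G) ∉ W₁ → (w : G) ∉ W₂ → D w = 0 := fun w hw1 hw2 => by
    simp [hD, hon w hw1 hw2, hχ.eq_on ω w hw1 hw2]
  -- the only other member of the family seen by θ
  obtain ⟨ω₀, hω₀⟩ : ∃ ω₀, ∀ ω', classInner θ (χ ω') ≠ 0 → ω' = ω₀ := by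
    by_cases h : ∃ ω', classInner θ (χ ω') ≠ 0
    · obtain ⟨ω₀, h₀⟩ := h
      refine ⟨ω₀, fun ω' h' => by_contra fun hne => h₀ ?_⟩
      rcases hcases ω' h' with e | e <;>
        · rw [e]
          simp [classInner, ← Finset.sum_neg_distrib]
          have := hχ.orthonormal ω' ω₀
          rw [if_neg hne] at this
          simpa [classInner] using this
    · exact ⟨1, fun ω' h' => absurd ⟨ω', h'⟩ h⟩
  let i₁ : W₁ →* ↥(W₁ ⊔ W₂) := Subgroup.inclusion le_sup_left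
  let i₂ : W₂ →* ↥(W₁ ⊔ W₂) := Subgroup.inclusion le_sup_right
  obtain ⟨l, hl⟩ : ∃ l : W₁ →* ℂˣ, l ∉ ({ω.comp i₁, ω₀.comp i₁} : Finset _) :=
    (Finset.exists_mem_notMem_of_card_lt_card (s := ({ω.comp i₁, ω₀.comp i₁} : Finset (W₁ →* ℂˣ))) (t := Finset.univ) (Finset.card_le_two.trans_lt (by
      rw [Finset.card_univ, ← Nat.card_eq_fintype_card, card_hom hA₁]
      have := hthree W₁ h1 le_sup_left
      omega))).imp fun _ => And.right
  obtain ⟨m, hm⟩ : ∃ m : W₂ →* ℂˣ, m ∉ ({ω.comp i₂, ω₀.comp i₂} : Finset _) :=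
    (Finset.exists_mem_notMem_of_card_lt_card (s := ({ω.comp i₂, ω₀.comp i₂} : Finset (W₂ →* ℂˣ))) (t := Finset.univ) (Finset.card_le_two.trans_lt (by
      rw [Finset.card_univ, ← Nat.card_eq_fintype_card, card_hom hA₂]
      have := hthree W₂ h2 le_sup_right
      omega))).imp fun _ => And.right
  simp only [Finset.mem_insert, Finset.mem_singleton, not_or] at hl hm
  have hA : ∀ (x : W₁ →* ℂˣ) (w : ↥(W₁ ⊔ W₂)), (w : G) ∈ W₂ → x.comp p₁ w = 1 := fun x w hw => by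
    rw [MonoidHom.comp_apply, (mem_right_iff hp hp₂ w).mp hw, map_one]
  have hB : ∀ (x : W₂ →* ℂˣ) (w : ↥(W₁ ⊔ W₂)), (w : G) ∈ W₁ → x.comp p₂ w = 1 := fun x w hw => by
    rw [MonoidHom.comp_apply, (mem_left_iff hp hp₁ w).mp hw, map_one]
  have hr1 : ∀ (x : W₁ →* ℂˣ) (y : W₂ →* ℂˣ), (x.comp p₁ * y.comp p₂).comp i₁ = x := fun x y => MonoidHom.ext fun c => by
    simp [i₁, (hp₁ c).1, (hp₁ c).2]
  have hr2 : ∀ (x : W₁ →* ℂˣ) (y : W₂ →* ℂˣ), (x.comp p₁ * y.comp p₂).comp i₂ = y := fun x y => MonoidHom.ext fun c => by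
    simp [i₂, (hp₂ c).1, (hp₂ c).2]
  have hωeq : (ω.comp i₁).comp p₁ * (ω.comp i₂).comp p₂ = ω := MonoidHom.ext fun w => by
    simp only [MonoidHom.mul_apply, MonoidHom.comp_apply, ← map_mul]
    exact congrArg ω (Subtype.ext (hp w))
  have hzero : ∀ (x : W₁ →* ℂˣ) (y : W₂ →* ℂˣ), (x ≠ ω.comp i₁ ∨ y ≠ ω.comp i₂) → (x ≠ ω₀.comp i₁ ∨ y ≠ ω₀.comp i₂) →
      classInner D (χ (x.comp p₁ * y.comp p₂)) = 0 := by
    intro x y hne hne₀
    rw [hD, classInner_sub_left, hχ.orthonormal, if_neg, sub_zero]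
    · by_contra h
      have := hω₀ _ h
      rcases hne₀ with h' | h'
      · exact h' (by rw [← this, hr1])
      · exact h' (by rw [← this, hr2])
    · intro this
      rcases hne with h' | h'
      · exact h' (by rw [this, hr1])
      · exact h' (by rw [this, hr2])
  have E1 := coord_add hχ hDcl hDV (hA (ω.comp i₁)) (hB (ω.comp i₂))
  have E2 := coord_add hχ hDcl hDV (hA l) (hB m)
  have E3 := coord_add hχ hDcl hDV (hA (ω.comp i₁)) (hB m)
  have E4 := coord_add hχ hDcl hDV (hA l) (hB (ω.comp i₂))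
  rw [hzero l m (Or.inl hl.1) (Or.inl hl.2)] at E2
  rw [hzero _ m (Or.inr hm.1) (Or.inr hm.2)] at E3
  rw [hzero l _ (Or.inl hl.1) (Or.inl hl.2)] at E4
  rw [hωeq, hD, classInner_sub_left, hω, hχ.orthonormal, if_pos rfl, ← hD] at E1
  exact one_ne_zero (α := ℂ) (by linear_combination -E1 - E2 + E3 + E4)

/-- Let W₁, W₂ ≤ G form a self-normalising cyclic subgroup W = W₁ ⊔ W₂ of odd order and χ an orthonormal family of irreducible characters of G up to sign, indexed by the linear characters ω of W, with χ_1 = 1, χ_ω = ω on W outside W₁ ∪ W₂, and the induction identity for (1 − φ)(1 − ψ). Let ω be a linear character of W and g an element of G whose order is coprime to the order of ω. Then χ ω g is an integer. -/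
theorem result {G : Type*} [Group G] [Fintype G] (W₁ W₂ : Subgroup G) (hW : Cfsg.IsSelfNormalizingCyclic W₁ W₂) (hodd : Odd (Nat.card ↥(W₁ ⊔ W₂))) (χ : (↥(W₁ ⊔ W₂) →* ℂˣ) → (G → ℂ)) (hχ : Cfsg.IsCyclicTIFamily W₁ W₂ χ) (ω : ↥(W₁ ⊔ W₂) →* ℂˣ) (g : G) (hg : Nat.Coprime (orderOf g) (orderOf ω)) : ∃ n : ℤ, χ ω g = n := by
  classical
  haveI : NeZero (Nat.card G) := ⟨Nat.card_pos.ne'⟩
  obtain ⟨ε, ξ, hξ, hεξ⟩ : ∃ ε : ℤ, ∃ ξ, IsIrrCharacter G ξ ∧ ∀ x, χ ω x = (ε : ℂ) * ξ x := by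
    rcases hχ.irr_or_neg ω with h | h
    · exact ⟨1, _, h, fun x => by simp⟩
    · exact ⟨-1, _, h, fun x => by simp⟩
  have hξc := IsIrrCharacter.isCharacter hξ
  suffices h : ∃ n : ℤ, ξ g = n by
    obtain ⟨n, hn⟩ := h
    exact ⟨ε * n, by rw [hεξ, hn]; push_cast; rfl⟩
  have hfix : ∀ σ : cycField (Nat.card G) ≃ₐ[ℚ] cycField (Nat.card G),
      σ ⟨ξ g, apply_mem_cycField hξc g⟩ = ⟨ξ g, apply_mem_cycField hξc g⟩ := by
    intro σ
    obtain ⟨k, hk, hσ⟩ := exists_galPow σ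
    rw [hσ ξ hξc g]
    apply Subtype.ext
    show ξ (g ^ k) = ξ g
    have hωW : orderOf ω ∣ Nat.card ↥(W₁ ⊔ W₂) := orderOf_dvd_of_pow_eq_one (MonoidHom.ext fun w => by
      simp [← map_pow, pow_card_eq_one'])
    have hdvd : orderOf g * orderOf ω ∣ Nat.card G :=
      hg.mul_dvd_of_dvd_of_dvd (orderOf_dvd_natCard g) (hωW.trans (Subgroup.card_subgroup_dvd_card _))
    obtain ⟨a, ha1, ha2⟩ := Nat.chineseRemainder hg k 1
    have hco : Nat.Coprime a (orderOf g * orderOf ω) := by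
      refine Nat.Coprime.mul_right ?_ ?_
      · rw [Nat.Coprime, ha1.gcd_eq]
        exact hk.coprime_dvd_right (orderOf_dvd_natCard g)
      · rw [Nat.Coprime, ha2.gcd_eq]
        simp
    obtain ⟨u, hu⟩ := ZMod.unitsMap_surjective hdvd (ZMod.unitOfCoprime a hco)
    set k' := (u : ZMod (Nat.card G)).val with hk'
    have hk'co : Nat.Coprime k' (Nat.card G) := ZMod.val_coe_unit_coprime u
    have hk'a : k' ≡ a [MOD orderOf g * orderOf ω] := by
      rw [← ZMod.natCast_eq_natCast_iff, hk', ZMod.natCast_val, ← ZMod.coe_unitOfCoprime a hco, ← hu,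
        ZMod.unitsMap_val]
    have hgk : g ^ k' = g ^ k := pow_eq_pow_iff_modEq.mpr ((hk'a.of_mul_right _).trans ha1)
    have hωk : ω ^ k' = ω := by
      refine (pow_mod_orderOf ω k').symm.trans ?_
      rw [show k' % orderOf ω = 1 % orderOf ω from (hk'a.of_mul_left _).trans ha2, pow_mod_orderOf, pow_one]
    have hθ : IsIrrCharacter G (fun x => χ ω (x ^ k')) ∨ IsIrrCharacter G (-fun x => χ ω (x ^ k')) := by
      rcases hχ.irr_or_neg ω with h | h
      · exact Or.inl (isIrrCharacter_comp_pow hk'co h)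
      · exact Or.inr (isIrrCharacter_comp_pow hk'co h)
    have hroot : ∀ (K : Subgroup G) (w : G), w ^ k' ∈ K → w ∈ K := by
      intro K w hw
      obtain ⟨j, hj⟩ := exists_pow_eq_self_of_coprime (x := w)
        (hk'co.coprime_dvd_right (orderOf_dvd_natCard w))
      rw [← hj]
      exact K.pow_mem hw j
    have heq := eq_of_eq_on W₁ W₂ hW hodd χ hχ ω _ hθ fun w hw1 hw2 => by
      show χ ω ((w : G) ^ k') = _
      rw [← SubgroupClass.coe_pow, hχ.eq_on ω (w ^ k') (fun h => hw1 (hroot _ _ (by simpa using h)))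
        (fun h => hw2 (hroot _ _ (by simpa using h)))]
      conv_rhs => rw [← hωk]
      rw [MonoidHom.pow_apply, map_pow]
    have h' := congrFun heq g
    simp only [hεξ, hgk] at h'
    refine mul_left_cancel₀ ?_ h'
    intro h0
    have := hχ.orthonormal ω ω
    rw [if_pos rfl, show χ ω = 0 from funext fun x => by simp [hεξ, h0]] at this
    simp [classInner] at this
  obtain ⟨q, hq⟩ := exists_rat_of_fixed hfix
  simp only at hq
  obtain ⟨n, hn⟩ := exists_int_of_isIntegral_rat (q := q) (hq ▸ IsCharacter.isIntegral hξc g)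
  exact ⟨n, by rw [hq, hn]; simp⟩

end Cfsg.Agent.S1508
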