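import Cfsg.Statements.S1509
import Cfsg.Agent.Lib.Characters.Ortho

set_option autoImplicit false
open Cfsg

namespace Cfsg.Agent.S1509

open Cfsg.Agent.Lib.Characters

theorem signed_irr_cases {X : Type*} [Group X] [Fintype X] {α γ : X → ℂ}
    (hα : Cfsg.IsIrrCharacter X α ∨ Cfsg.IsIrrCharacter X (-α))
    (hγ : Cfsg.IsIrrCharacter X γ ∨ Cfsg.IsIrrCharacter X (-γ)) :
    classInner α γ = 0 ∨ ∃ s : ℤ, (s = 1 ∨ s = -1) ∧ γ = (s : ℂ) • α ∧ classInner α γ = (s : ℂ) := by
  have self : classInner α α = 1 := by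
    rcases hα with h | h
    · exact IsIrrCharacter.classInner_self h
    · have := IsIrrCharacter.classInner_self h
      rwa [classInner_neg_left, classInner_neg_right, neg_neg] at this
  by_cases h1 : γ = α
  · exact Or.inr ⟨1, Or.inl rfl, by simp [h1], by rw [h1, self]; simp⟩
  by_cases h2 : γ = -α
  · exact Or.inr ⟨-1, Or.inr rfl, by simp [h2], by rw [h2, classInner_neg_right, self]; simp⟩
  left
  have h3 : α ≠ γ := fun e => h1 e.symm
  rcases hα with ha | ha <;> rcases hγ with hc | hc
  · exact IsIrrCharacter.classInner_ne ha hc h3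
  · have := IsIrrCharacter.classInner_ne ha hc (fun e => h2 (by rw [e, neg_neg]))
    rwa [classInner_neg_right, neg_eq_zero] at this
  · have := IsIrrCharacter.classInner_ne ha hc (fun e => h2 e.symm)
    rwa [classInner_neg_left, neg_eq_zero] at this
  · have := IsIrrCharacter.classInner_ne ha hc (fun e => h3 (neg_injective e))
    rwa [classInner_neg_left, classInner_neg_right, neg_neg] at this

/-- Let α, β, γ, δ be functions on a finite group X each of which is an irreducible character or the negative of one, and u, v nonzero real numbers. Suppose ⟨α, β⟩ = ⟨γ, δ⟩ = 0, ⟨α − β, uγ − vδ⟩ = 0, α 1 = β 1 and u γ 1 = v δ 1. Then also ⟨α, γ⟩ = ⟨α, δ⟩ = ⟨β, γ⟩ = ⟨β, δ⟩ = 0. -/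
theorem result {X : Type*} [Group X] [Fintype X] (α β γ δ : X → ℂ) (hα : Cfsg.IsIrrCharacter X α ∨ Cfsg.IsIrrCharacter X (-α)) (hβ : Cfsg.IsIrrCharacter X β ∨ Cfsg.IsIrrCharacter X (-β)) (hγ : Cfsg.IsIrrCharacter X γ ∨ Cfsg.IsIrrCharacter X (-γ)) (hδ : Cfsg.IsIrrCharacter X δ ∨ Cfsg.IsIrrCharacter X (-δ)) (u v : ℝ) (hu : u ≠ 0) (hv : v ≠ 0) (hab : Cfsg.classInner α β = 0) (hcd : Cfsg.classInner γ δ = 0) (hmix : Cfsg.classInner (α - β) ((u : ℂ) • γ - (v : ℂ) • δ) = 0) (h1 : α 1 = β 1) (h2 : (u : ℂ) * γ 1 = (v : ℂ) * δ 1) : Cfsg.classInner α γ = 0 ∧ Cfsg.classInner α δ = 0 ∧ Cfsg.classInner β γ = 0 ∧ Cfsg.classInner β δ = 0 := by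
  have hu' : (u : ℂ) ≠ 0 := Complex.ofReal_ne_zero.mpr hu
  have hv' : (v : ℂ) ≠ 0 := Complex.ofReal_ne_zero.mpr hv
  have hne : α 1 ≠ 0 := by
    rcases hα with h | h
    · exact IsIrrCharacter.apply_one_ne_zero h
    · intro e; exact IsIrrCharacter.apply_one_ne_zero h (by simp [e])
  rw [classInner_sub_left, classInner_sub_right, classInner_sub_right, classInner_smul_right,
    classInner_smul_right, classInner_smul_right, classInner_smul_right, Complex.conj_ofReal,
    Complex.conj_ofReal] at hmix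
  rcases signed_irr_cases hα hγ with hac | ⟨s, hs, rfl, hac⟩
  · rcases signed_irr_cases hα hδ with had | ⟨s, hs, rfl, had⟩
    · rcases signed_irr_cases hβ hγ with hbc | ⟨t, ht, rfl, hbc⟩
      · refine ⟨hac, had, hbc, ?_⟩
        rw [hac, had, hbc] at hmix
        simpa [hv'] using hmix
      · exfalso
        have hbd : classInner β δ = 0 := by
          rw [classInner_smul_left, mul_eq_zero] at hcd
          exact hcd.resolve_left (by rcases ht with rfl | rfl <;> simp)
        rw [hac, had, hbc, hbd] at hmix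
        rcases ht with rfl | rfl <;> simp [hu'] at hmix
    · exfalso
      have hbd : classInner β ((s : ℂ) • α) = 0 := by
        rw [classInner_smul_right, ← classInner_conj_symm α β, hab]; simp
      rw [hac, had, hbd] at hmix
      rcases signed_irr_cases hβ hγ with hbc | ⟨t, ht, rfl, hbc⟩
      · rw [hbc] at hmix
        rcases hs with rfl | rfl <;> simp [hv'] at hmix
      · rw [hbc] at hmix
        simp only [Pi.smul_apply, smul_eq_mul, ← h1] at h2
        have e : (v : ℂ) * (s : ℂ) = -((u : ℂ) * (t : ℂ)) := by linear_combination -hmix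
        have : (u : ℂ) * (t : ℂ) * α 1 * 2 = 0 := by linear_combination h2 + α 1 * e
        rcases ht with rfl | rfl <;> simp [hu', hne] at this
  · exfalso
    have had : classInner α δ = 0 := by
      rw [classInner_smul_left, mul_eq_zero] at hcd
      exact hcd.resolve_left (by rcases hs with rfl | rfl <;> simp)
    have hbc : classInner β ((s : ℂ) • α) = 0 := by
      rw [classInner_smul_right, ← classInner_conj_symm α β, hab]; simp
    rw [hac, had, hbc] at hmix
    rcases signed_irr_cases hβ hδ with hbd | ⟨t, ht, rfl, hbd⟩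
    · rw [hbd] at hmix
      rcases hs with rfl | rfl <;> simp [hu'] at hmix
    · rw [hbd] at hmix
      simp only [Pi.smul_apply, smul_eq_mul, ← h1] at h2
      have e : (v : ℂ) * (t : ℂ) = -((u : ℂ) * (s : ℂ)) := by linear_combination hmix
      have : (u : ℂ) * (s : ℂ) * α 1 * 2 = 0 := by linear_combination h2 + α 1 * e
      rcases hs with rfl | rfl <;> simp [hu', hne] at this

end Cfsg.Agent.S1509
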