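import Cfsg.Statements.S1510
import Cfsg.Agent.Lib.OddChar.CyclicTI
import Mathlib.Data.Nat.ChineseRemainder

set_option autoImplicit false
open Cfsg

namespace Cfsg.Agent.S1510

open Cfsg.Agent.Lib.OddChar

/-- Let L be a finite group with a normal subgroup K and a nontrivial cyclic subgroup W₁ of order coprime to its index, K ⊓ W₁ = ⊥ and K ⊔ W₁ = ⊤; let W₂ ≠ ⊥ be a cyclic subgroup of K with K ⊓ C_L(x) = W₂ for every non-identity x ∈ W₁, and suppose W₁ ⊔ W₂ has odd order. Then (W₁, W₂) is a self-normalising cyclic pair in L. -/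
theorem result {L : Type*} [Group L] [Fintype L] (K W₁ W₂ : Subgroup L) [hK : K.Normal] (hKW₁ : K ⊓ W₁ = ⊥) (hKW₁' : K ⊔ W₁ = ⊤) (hW₁ : W₁ ≠ ⊥) (hW₁c : IsCyclic W₁) (hHall : Nat.Coprime (Nat.card W₁) W₁.index) (hW₂ : W₂ ≠ ⊥) (hW₂c : IsCyclic W₂) (hW₂K : W₂ ≤ K) (hC : ∀ x ∈ W₁, x ≠ 1 → K ⊓ Subgroup.centralizer ({x} : Set L) = W₂) (hodd : Odd (Nat.card ↥(W₁ ⊔ W₂))) : Cfsg.IsSelfNormalizingCyclic W₁ W₂ := by
  have hdisj : W₁ ⊓ W₂ = ⊥ := le_bot_iff.mp (hKW₁ ▸ le_inf (inf_le_right.trans hW₂K) inf_le_left)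
  have hcomm : ∀ a ∈ W₁, ∀ b ∈ W₂, a * b = b * a := by
    intro a ha b hb
    by_cases h1 : a = 1
    · simp [h1]
    have := (hC a ha h1).ge hb
    exact (Subgroup.mem_centralizer_singleton_iff.mp this.2).symm
  obtain ⟨p₁, p₂, hp, hp₁, hp₂⟩ := exists_proj W₁ W₂ hdisj hcomm
  have hcard : Nat.card ↥(W₁ ⊔ W₂) = Nat.card W₁ * Nat.card W₂ := by
    rw [← Nat.card_prod]
    refine Nat.card_congr
      { toFun := fun w => (p₁ w, p₂ w)
        invFun := fun x => Subgroup.inclusion le_sup_left x.1 * Subgroup.inclusion le_sup_right x.2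
        left_inv := fun w => Subtype.ext (hp w)
        right_inv := fun x => Prod.ext (by simp [(hp₁ x.1).1, (hp₂ x.2).1]) (by simp [(hp₁ x.1).2, (hp₂ x.2).2]) }
  have hidx : W₁.index = Nat.card K := by
    have hc : Subgroup.IsComplement' K W₁ := Subgroup.isComplement'_of_disjoint_and_mul_eq_univ
      (disjoint_iff.mpr hKW₁) (by rw [← Subgroup.normal_mul, hKW₁', Subgroup.coe_top])
    exact hc.index_eq_card
  have hcop : Nat.Coprime (Nat.card W₁) (Nat.card W₂) :=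
    hHall.coprime_dvd_right (hidx ▸ Subgroup.card_dvd_of_le hW₂K)
  haveI := hW₁c
  haveI := hW₂c
  obtain ⟨a₀, ha₀⟩ := IsCyclic.exists_ofOrder_eq_natCard (α := W₁)
  obtain ⟨b₀, hb₀⟩ := IsCyclic.exists_ofOrder_eq_natCard (α := W₂)
  have hcyc : IsCyclic ↥(W₁ ⊔ W₂) := by
    refine isCyclic_of_orderOf_eq_card
      (Subgroup.inclusion le_sup_left a₀ * Subgroup.inclusion le_sup_right b₀) ?_
    rw [Commute.orderOf_mul_eq_mul_orderOf_of_coprime, hcard,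
      orderOf_injective _ (Subgroup.inclusion_injective _), orderOf_injective _ (Subgroup.inclusion_injective _),
      ha₀, hb₀]
    · exact Subtype.ext (hcomm a₀ a₀.2 b₀ b₀.2)
    · rwa [orderOf_injective _ (Subgroup.inclusion_injective _),
        orderOf_injective _ (Subgroup.inclusion_injective _), ha₀, hb₀]
  refine ⟨hW₁, hW₂, hdisj, hcomm, hcyc, fun X hX hne => ?_⟩
  have hWc : ∀ a ∈ W₁ ⊔ W₂, ∀ b ∈ W₁ ⊔ W₂, a * b = b * a := fun a ha b hb =>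
    congrArg Subtype.val ((IsCyclic.isMulCommutative (α := ↥(W₁ ⊔ W₂))).is_comm.comm ⟨a, ha⟩ ⟨b, hb⟩)
  apply le_antisymm
  · intro g hg
    obtain ⟨x, hx⟩ := hne
    obtain ⟨hxW, hxn⟩ := hX hx
    obtain ⟨hx'W, -⟩ := hX ((Subgroup.mem_set_normalizer_iff.mp hg x).mp hx)
    obtain ⟨k, hk, a, ha, rfl⟩ : ∃ k ∈ K, ∃ a ∈ W₁, k * a = g := by
      have : g ∈ ((K ⊔ W₁ : Subgroup L) : Set L) := by rw [hKW₁']; trivial
      rw [Subgroup.normal_mul] at this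
      obtain ⟨k, hk, a, ha, e⟩ := Set.mem_mul.mp this
      exact ⟨k, hk, a, ha, e⟩
    have hax : a * x * a⁻¹ = x := by
      rw [hWc a (Subgroup.mem_sup_left ha) x hxW]; group
    have he : k * x * k⁻¹ = k * a * x * (k * a)⁻¹ := by
      calc k * x * k⁻¹ = k * (a * x * a⁻¹) * k⁻¹ := by rw [hax]
        _ = _ := by group
    set w : ↥(W₁ ⊔ W₂) := ⟨x, hxW⟩
    set w' : ↥(W₁ ⊔ W₂) := ⟨k * a * x * (k * a)⁻¹, hx'W⟩
    have hxd : (p₁ w : L) * (p₂ w : L) = x := hp w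
    have hxd' : (p₁ w' : L) * (p₂ w' : L) = k * x * k⁻¹ := (hp w').trans he.symm
    have hsame : (p₁ w' : L) = p₁ w := by
      have hm : (p₁ w : L)⁻¹ * p₁ w' ∈ K := by
        have e : (p₁ w : L)⁻¹ * p₁ w' =
            ((p₁ w : L)⁻¹ * k * p₁ w) * ((p₂ w : L) * k⁻¹ * (p₂ w' : L)⁻¹) := by
          calc (p₁ w : L)⁻¹ * p₁ w' = (p₁ w : L)⁻¹ * ((p₁ w' : L) * p₂ w') * (p₂ w' : L)⁻¹ := by group
            _ = (p₁ w : L)⁻¹ * (k * ((p₁ w : L) * p₂ w) * k⁻¹) * (p₂ w' : L)⁻¹ := by rw [hxd', hxd]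
            _ = _ := by group
        rw [e]
        refine K.mul_mem ?_ (K.mul_mem (K.mul_mem (hW₂K (p₂ w).2) (K.inv_mem hk)) (K.inv_mem (hW₂K (p₂ w').2)))
        simpa using hK.conj_mem k hk (p₁ w : L)⁻¹
      have : (p₁ w : L)⁻¹ * p₁ w' ∈ K ⊓ W₁ := ⟨hm, W₁.mul_mem (W₁.inv_mem (p₁ w).2) (p₁ w').2⟩
      rw [hKW₁, Subgroup.mem_bot] at this
      exact (inv_mul_eq_one.mp this).symm
    obtain ⟨n, hn1, hn2⟩ := Nat.chineseRemainder hcop 1 0
    have hpow : ∀ v : ↥(W₁ ⊔ W₂), ((p₁ v : L) * p₂ v) ^ n = p₁ v := by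
      intro v
      rw [(show Commute (p₁ v : L) (p₂ v) from hcomm _ (p₁ v).2 _ (p₂ v).2).mul_pow]
      have e1 : (p₁ v : L) ^ n = p₁ v := by
        conv_rhs => rw [← pow_one (p₁ v : L)]
        exact pow_eq_pow_iff_modEq.mpr (hn1.of_dvd (W₁.orderOf_dvd_natCard (p₁ v).2))
      have e2 : (p₂ v : L) ^ n = 1 := by
        rw [← orderOf_dvd_iff_pow_eq_one]
        exact (W₂.orderOf_dvd_natCard (p₂ v).2).trans (Nat.modEq_zero_iff_dvd.mp hn2)
      rw [e1, e2, mul_one]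
    have hk1 : k * (p₁ w : L) * k⁻¹ = p₁ w := by
      calc k * (p₁ w : L) * k⁻¹ = (k * x * k⁻¹) ^ n := by rw [conj_pow, ← hxd, hpow]
        _ = p₁ w := by rw [← hxd', hpow, hsame]
    have hne1 : (p₁ w : L) ≠ 1 := fun e => hxn (Or.inr (by
      rw [← hxd, e, one_mul]; exact (p₂ w).2))
    have hkW : k ∈ W₂ := by
      rw [← hC _ (p₁ w).2 hne1]
      exact ⟨hk, Subgroup.mem_centralizer_singleton_iff.mpr (mul_inv_eq_iff_eq_mul.mp hk1)⟩
    exact (W₁ ⊔ W₂).mul_mem (Subgroup.mem_sup_right hkW) (Subgroup.mem_sup_left ha)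
  · intro v hv
    rw [Subgroup.mem_set_normalizer_iff]
    have hfix : ∀ y ∈ X, v * y * v⁻¹ = y := fun y hy => by
      rw [hWc v hv y (hX hy).1]; group
    intro y
    refine ⟨fun hy => (hfix y hy).symm ▸ hy, fun hy => ?_⟩
    have h1 := hfix _ hy
    have : v * y * v⁻¹ = y := by
      calc v * y * v⁻¹ = v⁻¹ * (v * (v * y * v⁻¹) * v⁻¹) * v := by group
        _ = v⁻¹ * (v * y * v⁻¹) * v := by rw [h1]
        _ = y := by group
    rwa [this] at hy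

end Cfsg.Agent.S1510
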