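import Cfsg.Statements.S1511
import Cfsg.Agent.Lib.OddChar.CyclicTI
import Cfsg.Agent.Lib.Characters.Gram
import Cfsg.Agent.Lib.Characters.TI
import Cfsg.Agent.Lib.Characters.Induced

set_option autoImplicit false
set_option linter.style.haveILetI false
open Cfsg

namespace Cfsg.Agent.S1511

open Cfsg.Agent.Lib.Characters Cfsg.Agent.Lib.OddChar
open scoped ComplexConjugate

section Abel

variable {A : Type*} [Group A] [Fintype A]

theorem inner_hom [DecidableEq (A →* ℂˣ)] (φ ψ : A →* ℂˣ) :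
    classInner (fun a => (φ a : ℂ)) (fun a => (ψ a : ℂ)) = if φ = ψ then 1 else 0 := by
  split_ifs with h
  · subst h; exact IsIrrCharacter.classInner_self (isIrrCharacter_unitsHom φ)
  · exact IsIrrCharacter.classInner_ne (isIrrCharacter_unitsHom φ) (isIrrCharacter_unitsHom ψ)
      fun e => h (MonoidHom.ext fun a => Units.ext (congrFun e a))

theorem conj_hom (φ : A →* ℂˣ) (t : A) : conj (φ t : ℂ) = (φ t⁻¹ : ℂ) :=
  (IsCharacter.apply_inv (IsIrrCharacter.isCharacter (isIrrCharacter_unitsHom φ)) t).symm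

theorem fourier (hA : ∀ a b : A, a * b = b * a) [Fintype (A →* ℂˣ)] (f : A → ℂ) (w : A) :
    ∑ ω : A →* ℂˣ, classInner f (fun t => (ω t : ℂ)) * (ω w : ℂ) = f w := by
  classical
  unfold classInner
  simp only [conj_hom, Finset.mul_sum, Finset.sum_mul]
  rw [Finset.sum_comm]
  have e : ∀ t : A, ∑ ω : A →* ℂˣ, (Nat.card A : ℂ)⁻¹ * (f t * (ω t⁻¹ : ℂ)) * (ω w : ℂ) =
      (Nat.card A : ℂ)⁻¹ * f t * ∑ ω : A →* ℂˣ, (ω (t⁻¹ * w) : ℂ) := by
    intro t
    rw [Finset.mul_sum]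
    refine Finset.sum_congr rfl fun ω _ => ?_
    rw [map_mul, Units.val_mul]
    ring
  rw [Finset.sum_congr rfl fun t _ => e t, Finset.sum_eq_single w]
  · rw [sum_hom_apply hA, if_pos (inv_mul_cancel w), card_hom hA]
    have := natCard_ne_zero_complex (G := A)
    field_simp
  · intro t _ ht
    rw [sum_hom_apply hA, if_neg (fun h => ht (inv_mul_eq_one.mp h)), mul_zero]
  · simp

/-- A function whose Fourier coefficients are invariant under a character vanishes off its kernel. -/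
theorem vanish (hA : ∀ a b : A, a * b = b * a) (f : A → ℂ) (φ : A →* ℂˣ) {w : A}
    (hd : ∀ ω : A →* ℂˣ, classInner f (fun t => (ω t : ℂ)) =
      classInner f (fun t => ((φ * ω) t : ℂ))) (hw : φ w ≠ 1) : f w = 0 := by
  haveI := finite_hom hA
  haveI := Fintype.ofFinite (A →* ℂˣ)
  have h : (φ w : ℂ) * f w = f w := by
    rw [← fourier hA f w, Finset.mul_sum]
    refine Fintype.sum_equiv (Equiv.mulLeft φ) _ _ fun ω => ?_
    show _ = classInner f (fun t => ((φ * ω) t : ℂ)) * ((φ * ω) w : ℂ)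
    rw [← hd ω, MonoidHom.mul_apply, Units.val_mul]
    ring
  have h' : ((φ w : ℂ) - 1) * f w = 0 := by linear_combination h
  exact (mul_eq_zero.mp h').resolve_left fun e => hw (Units.ext (sub_eq_zero.mp e))

end Abel

/-- Let L be a finite group with K normal with complement W₁ ≠ 1 a cyclic Hall subgroup, and W₂ ≠ 1 a cyclic subgroup of K equal to C_K(x) for every non-identity x ∈ W₁, with W₁W₂ of odd order. Then there are a map μ from the linear characters of W = W₁ ⊔ W₂ to irreducible characters of L, injective, and a sign δ(ω) ∈ {1, −1} depending only on the values of ω on W₂, such that: for ω, ω' agreeing on W₂, the function induced to L from ω − ω' equals δ(ω) • (μ ω − μ ω'); μ ω x = δ(ω) ω x for x ∈ W outside W₂; every irreducible character of L not of the form μ ω vanishes on W outside W₂; and μ ω 1 − δ(ω) is an integer multiple of Nat.card W₁. -/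
theorem result {L : Type*} [Group L] [Fintype L] (K W₁ W₂ : Subgroup L) [hK : K.Normal] (hKW₁ : K ⊓ W₁ = ⊥) (hKW₁' : K ⊔ W₁ = ⊤) (hW₁ : W₁ ≠ ⊥) (hW₁c : IsCyclic W₁) (hHall : Nat.Coprime (Nat.card W₁) W₁.index) (hW₂ : W₂ ≠ ⊥) (hW₂c : IsCyclic W₂) (hW₂K : W₂ ≤ K) (hC : ∀ x ∈ W₁, x ≠ 1 → K ⊓ Subgroup.centralizer ({x} : Set L) = W₂) (hodd : Odd (Nat.card ↥(W₁ ⊔ W₂))) : ∃ (μ : (↥(W₁ ⊔ W₂) →* ℂˣ) → (L → ℂ)) (δ : (↥(W₁ ⊔ W₂) →* ℂˣ) → ℂ), Function.Injective μ ∧ (∀ ω, Cfsg.IsIrrCharacter L (μ ω)) ∧ (∀ ω, δ ω = 1 ∨ δ ω = -1) ∧ (∀ ω ω' : ↥(W₁ ⊔ W₂) →* ℂˣ, (∀ w : ↥(W₁ ⊔ W₂), (w : L) ∈ W₂ → ω w = ω' w) → δ ω = δ ω' ∧ Cfsg.indFun (W₁ ⊔ W₂) (fun w => (ω w : ℂ) - (ω' w : ℂ)) = δ ω • (μ ω - μ ω')) ∧ (∀ ω, ∀ w : ↥(W₁ ⊔ W₂), (w : L) ∉ W₂ → μ ω w = δ ω * (ω w : ℂ)) ∧ (∀ θ : L → ℂ, Cfsg.IsIrrCharacter L θ → (∀ ω, θ ≠ μ ω) → ∀ w : ↥(W₁ ⊔ W₂), (w : L) ∉ W₂ → θ w = 0) ∧ (∀ ω, ∃ n : ℤ, μ ω 1 - δ ω = n * (Nat.card W₁ : ℂ)) := by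
  classical
  -- structure
  have hA₁ : ∀ a b : W₁, a * b = b * a := fun a b => mul_comm' a b
  have hA₂ : ∀ a b : W₂, a * b = b * a := fun a b => mul_comm' a b
  have hmemC : ∀ a ∈ W₁, a ≠ 1 → ∀ x : L, x ∈ W₂ ↔ x ∈ K ∧ x * a = a * x := fun a ha ha1 x => by
    rw [← hC a ha ha1, Subgroup.mem_inf, Subgroup.mem_centralizer_singleton_iff]
  have hcomm : ∀ a ∈ W₁, ∀ b ∈ W₂, a * b = b * a := fun a ha b hb => by
    by_cases h1 : a = 1
    · simp [h1]
    · exact ((hmemC a ha h1 b).1 hb).2.symm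
  have hdisj : W₁ ⊓ W₂ = ⊥ := by
    rw [eq_bot_iff, ← hKW₁]
    exact fun x hx => ⟨hW₂K hx.2, hx.1⟩
  obtain ⟨p₁, p₂, hp, hp₁, hp₂⟩ := exists_proj W₁ W₂ hdisj hcomm
  haveI := Fintype.ofFinite ↥(W₁ ⊔ W₂)
  have hW : ∀ a b : ↥(W₁ ⊔ W₂), a * b = b * a := fun a b => by
    refine Subtype.ext ?_
    rw [Subgroup.coe_mul, Subgroup.coe_mul, ← hp a, ← hp b]
    have e1 : (p₁ a : L) * p₁ b = p₁ b * p₁ a := congrArg Subtype.val (hA₁ _ _)
    have e2 : (p₂ a : L) * p₂ b = p₂ b * p₂ a := congrArg Subtype.val (hA₂ _ _)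
    exact Commute.mul_left
      (Commute.mul_right e1 (hcomm _ (p₁ a).2 _ (p₂ b).2))
      (Commute.mul_right (hcomm _ (p₁ b).2 _ (p₂ a).2).symm e2)
  haveI := finite_hom hW
  haveI := finite_hom hA₁
  -- the trivial intersection property
  have hKidx : W₁.index = Nat.card K :=
    (Subgroup.isComplement'_of_disjoint_and_mul_eq_univ (disjoint_iff.mpr hKW₁)
      (by rw [← Subgroup.normal_mul, hKW₁', Subgroup.coe_top])).index_eq_card
  have hcop : (Nat.card W₁).Coprime (Nat.card W₂) :=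
    (hKidx ▸ hHall).coprime_dvd_right (Subgroup.card_dvd_of_le hW₂K)
  obtain ⟨m, hm1, hm0⟩ := Nat.chineseRemainder hcop 1 0
  have hpowp : ∀ t : ↥(W₁ ⊔ W₂), (t : L) ^ m = (p₁ t : L) := fun t => by
    rw [← hp t, Commute.mul_pow (hcomm _ (p₁ t).2 _ (p₂ t).2)]
    have e1 : (p₁ t) ^ m = p₁ t := by
      conv_rhs => rw [← pow_one (p₁ t)]
      exact pow_eq_pow_of_modEq hm1 pow_card_eq_one'
    have e2 : (p₂ t) ^ m = 1 := by
      rw [← pow_zero (p₂ t)]
      exact pow_eq_pow_of_modEq hm0 pow_card_eq_one'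
    have f1 := congrArg Subtype.val e1
    have f2 := congrArg Subtype.val e2
    simp only [SubgroupClass.coe_pow, OneMemClass.coe_one] at f1 f2
    rw [f1, f2, mul_one]
  have hTI : ∀ (t : ↥(W₁ ⊔ W₂)) (x : L), (t : L) ∉ W₂ → x⁻¹ * (t : L) * x ∈ W₁ ⊔ W₂ →
      x ∈ W₁ ⊔ W₂ := by
    intro t x ht hx
    have ha1 : (p₁ t : L) ≠ 1 := fun e => ht (by rw [← hp t, e, one_mul]; exact (p₂ t).2)
    set a : L := (p₁ t : L) with hadef
    set a' : L := (p₁ ⟨_, hx⟩ : L) with ha'def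
    have haa' : x⁻¹ * a * x = a' := by
      rw [hadef, ← hpowp t, ha'def, ← hpowp ⟨_, hx⟩]
      show _ = (x⁻¹ * (t : L) * x) ^ m
      simpa using (conj_pow (a := x⁻¹) (b := (t : L)) (i := m)).symm
    obtain ⟨k, hk, v, hv, rfl⟩ : ∃ k ∈ K, ∃ v ∈ W₁, k * v = x :=
      Set.mem_mul.mp (by rw [← Subgroup.normal_mul, hKW₁']; trivial)
    have ha : a ∈ W₁ := (p₁ t).2
    have e : k⁻¹ * a * k = v * a' * v⁻¹ := by rw [← haa']; group
    have h1 : a⁻¹ * (k⁻¹ * a * k) ∈ K ⊓ W₁ := by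
      refine ⟨?_, W₁.mul_mem (W₁.inv_mem ha)
        (e ▸ W₁.mul_mem (W₁.mul_mem hv (p₁ ⟨_, hx⟩).2) (W₁.inv_mem hv))⟩
      have : a⁻¹ * (k⁻¹ * a * k) = a⁻¹ * k⁻¹ * a⁻¹⁻¹ * k := by group
      rw [this]
      exact K.mul_mem (hK.conj_mem _ (K.inv_mem hk) _) hk
    rw [hKW₁, Subgroup.mem_bot] at h1
    have h2 : k * a = a * k := by
      have : k * a = k * a * (a⁻¹ * (k⁻¹ * a * k)) := by rw [h1, mul_one]
      rw [this]; group
    exact Subgroup.mul_mem _ (Subgroup.mem_sup_right ((hmemC a ha ha1 k).2 ⟨hk, h2⟩))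
      (Subgroup.mem_sup_left hv)
  -- the fibres
  let res : (↥(W₁ ⊔ W₂) →* ℂˣ) → (W₂ →* ℂˣ) := fun ω => ω.comp (Subgroup.inclusion le_sup_right)
  let res₁ : (↥(W₁ ⊔ W₂) →* ℂˣ) → (W₁ →* ℂˣ) := fun ω => ω.comp (Subgroup.inclusion le_sup_left)
  haveI := Fintype.ofFinite (W₁ →* ℂˣ)
  let e := Fintype.equivFin (W₁ →* ℂˣ)
  let mk : (W₂ →* ℂˣ) → Fin (Fintype.card (W₁ →* ℂˣ)) → (↥(W₁ ⊔ W₂) →* ℂˣ) :=
    fun η i => (e.symm i).comp p₁ * η.comp p₂
  have hmk_res : ∀ η i, res (mk η i) = η := fun η i => MonoidHom.ext fun b => by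
    simp [res, mk, (hp₂ b).1, (hp₂ b).2]
  have hmk_res₁ : ∀ η i, res₁ (mk η i) = e.symm i := fun η i => MonoidHom.ext fun a => by
    simp [res₁, mk, (hp₁ a).1, (hp₁ a).2]
  have hmk : ∀ ω, mk (res ω) (e (res₁ ω)) = ω := fun ω => by
    refine hom_ext (fun w hw => ?_) (fun w hw => ?_)
    · exact DFunLike.congr_fun (hmk_res₁ (res ω) (e (res₁ ω))) ⟨w, hw⟩ |>.trans
        (by rw [Equiv.symm_apply_apply]; try rfl)
    · exact DFunLike.congr_fun (hmk_res (res ω) (e (res₁ ω))) ⟨w, hw⟩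
  have hmk_agree : ∀ η i j (w : ↥(W₁ ⊔ W₂)), (w : L) ∈ W₂ → mk η i w = mk η j w :=
    fun η i j w hw => (DFunLike.congr_fun (hmk_res η i) ⟨w, hw⟩).trans
      (DFunLike.congr_fun (hmk_res η j) ⟨w, hw⟩).symm
  -- isometry
  let V : (↥(W₁ ⊔ W₂) →* ℂˣ) → ↥(W₁ ⊔ W₂) → ℂ := fun ω w => (ω w : ℂ)
  have hcl : ∀ f : ↥(W₁ ⊔ W₂) → ℂ, IsClassFunction _ f := fun f g h => by
    rw [hW h g, mul_inv_cancel_right]
  have hiso : ∀ a b c d : ↥(W₁ ⊔ W₂) →* ℂˣ, res a = res b → res c = res d →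
      classInner (indFun (W₁ ⊔ W₂) (V a - V b)) (indFun (W₁ ⊔ W₂) (V c - V d)) =
        ((if a = c then 1 else 0) - (if a = d then 1 else 0)) -
          ((if b = c then 1 else 0) - (if b = d then 1 else 0)) := by
    intro a b c d hab hcd
    have hS : ∀ (a b : ↥(W₁ ⊔ W₂) →* ℂˣ), res a = res b →
        ∀ x : ↥(W₁ ⊔ W₂), (x : L) ∈ W₂ → (V a - V b) x = 0 := by
      intro a b h x hx
      simp only [Pi.sub_apply, V, sub_eq_zero]
      exact congrArg Units.val (DFunLike.congr_fun h ⟨x, hx⟩)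
    rw [classInner_indFun_indFun_eq (W₁ ⊔ W₂) {g | g ∈ W₁ ⊔ W₂ ∧ g ∉ W₂} (hcl _)
      (fun x hx => hS c d hcd x (by by_contra h; exact hx ⟨x.2, h⟩))
      (fun t ht x hx hmem => hx (hTI t x (fun h => ht (hS a b hab t h)) hmem.1))]
    simp only [classInner_sub_left, classInner_sub_right, V, inner_hom]
    ring
  let i₀ := e 1
  let τ : (W₂ →* ℂˣ) → Fin (Fintype.card (W₁ →* ℂˣ)) → L → ℂ :=
    fun η i => indFun (W₁ ⊔ W₂) (V (mk η i) - V (mk η i₀))
  have hmk_inj : ∀ η i j, mk η i = mk η j → i = j := fun η i j h => by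
    have := congrArg res₁ h
    rwa [hmk_res₁, hmk_res₁, EmbeddingLike.apply_eq_iff_eq] at this
  have hgen : ∀ η i, IsGeneralizedCharacter L (τ η i) := fun η i =>
    IsGeneralizedCharacter.indFun _ ⟨_, _, IsIrrCharacter.isCharacter (isIrrCharacter_unitsHom _),
      IsIrrCharacter.isCharacter (isIrrCharacter_unitsHom _), rfl⟩
  choose ε hε m' hm'i hm'inj hτ using fun η => exists_sign_of_gram _ i₀ (τ η)
    (by simp only [τ, sub_self]; exact sub_self (indFun (W₁ ⊔ W₂) (V (mk η i₀))) ▸ by rw [← indFun_sub, sub_self])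
    (hgen η) (fun i => by simp [τ, V, indFun_one])
    (fun i j hi hj => by
      show classInner (indFun _ _) (indFun _ _) = _
      rw [hiso _ _ _ _ (by rw [hmk_res, hmk_res]) (by rw [hmk_res, hmk_res])]
      have h1 : mk η i ≠ mk η i₀ := fun h => hi (hmk_inj _ _ _ h)
      have h2 : mk η i₀ ≠ mk η j := fun h => hj (hmk_inj _ _ _ h).symm
      by_cases hij : i = j
      · subst hij; simp [h1, h2]; norm_num
      · have h3 : mk η i ≠ mk η j := fun h => hij (hmk_inj _ _ _ h)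
        simp [h1, h2, h3, hij])
  let μ : (↥(W₁ ⊔ W₂) →* ℂˣ) → L → ℂ := fun ω => m' (res ω) (e (res₁ ω))
  let δ : (↥(W₁ ⊔ W₂) →* ℂˣ) → ℂ := fun ω => ε (res ω)
  have hind : ∀ ω ω', res ω = res ω' → indFun (W₁ ⊔ W₂) (V ω - V ω') = δ ω • (μ ω - μ ω') := by
    intro ω ω' h
    have e1 : indFun (W₁ ⊔ W₂) (V ω - V (mk (res ω) i₀)) =
        ε (res ω) • (m' (res ω) (e (res₁ ω)) - m' (res ω) i₀) := by
      rw [← hτ (res ω) (e (res₁ ω))]
      simp only [τ, hmk]
    have e2 : indFun (W₁ ⊔ W₂) (V ω' - V (mk (res ω) i₀)) =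
        ε (res ω) • (m' (res ω) (e (res₁ ω')) - m' (res ω) i₀) := by
      rw [← hτ (res ω) (e (res₁ ω'))]
      simp only [τ]
      rw [show mk (res ω) (e (res₁ ω')) = ω' by rw [h]; exact hmk ω']
    rw [show V ω - V ω' = (V ω - V (mk (res ω) i₀)) - (V ω' - V (mk (res ω) i₀)) by abel,
      indFun_sub, e1, e2]
    simp only [μ, δ, ← h, ← smul_sub]
    congr 1
    abel
  have hδ : ∀ ω, δ ω = 1 ∨ δ ω = -1 := fun ω => hε _
  have hirr : ∀ ω, IsIrrCharacter L (μ ω) := fun ω => hm'i _ _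
  have hnt : ∀ j : Fin (Fintype.card (W₁ →* ℂˣ)), ∃ i, i ≠ j := by
    haveI : Nontrivial (W₁ →* ℂˣ) := by
      rw [← Finite.one_lt_card_iff_nontrivial, card_hom hA₁]
      exact (Subgroup.one_lt_card_iff_ne_bot W₁).mpr hW₁
    haveI : Nontrivial (Fin (Fintype.card (W₁ →* ℂˣ))) := e.symm.nontrivial
    exact fun j => exists_ne j
  have hμinj : Function.Injective μ := by
    intro a c hac
    by_cases hres : res a = res c
    · simp only [μ, hres] at hac
      rw [← hmk a, ← hmk c, hres, hm'inj _ hac]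
    exfalso
    obtain ⟨k, hk⟩ := hnt (e (res₁ a))
    obtain ⟨l, hl⟩ := hnt (e (res₁ c))
    set b := mk (res a) k with hb
    set d := mk (res c) l with hd
    have hrb : res a = res b := (hmk_res _ _).symm
    have hrd : res c = res d := (hmk_res _ _).symm
    have hne : ∀ x y, res x ≠ res y → (if x = y then (1 : ℂ) else 0) = 0 := fun x y h =>
      if_neg fun e' => h (congrArg res e')
    have h0 := hiso a b c d hrb hrd
    rw [hne a c hres, hne a d (hrd ▸ hres), hne b c (hrb ▸ hres), hne b d (hrb ▸ hrd ▸ hres),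
      hind a b hrb, hind c d hrd, classInner_smul_left, classInner_smul_right] at h0
    have hs : classInner (μ a - μ b) (μ c - μ d) = 0 := by
      rcases hδ a with h1 | h1 <;> rcases hδ c with h2 | h2 <;> simpa [h1, h2] using h0
    have hab : μ a ≠ μ b := by
      simp only [μ, hb, hmk_res, hmk_res₁, Equiv.apply_symm_apply]
      exact fun h => hk (hm'inj _ h).symm
    have hcd : μ c ≠ μ d := by
      simp only [μ, hd, hmk_res, hmk_res₁, Equiv.apply_symm_apply]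
      exact fun h => hl (hm'inj _ h).symm
    have hval : ∀ x y, classInner (μ x) (μ y) = if μ x = μ y then 1 else 0 := fun x y => by
      split_ifs with h
      · rw [h]; exact IsIrrCharacter.classInner_self (hirr y)
      · exact IsIrrCharacter.classInner_ne (hirr x) (hirr y) h
    simp only [classInner_sub_left, classInner_sub_right, hval] at hs
    have h1 : μ a ≠ μ d := fun h => hcd (hac.symm.trans h)
    have h2 : μ b ≠ μ c := fun h => hab (hac.trans h.symm)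
    simp only [if_pos hac, if_neg h1, if_neg h2] at hs
    split_ifs at hs <;> norm_num at hs
  -- coefficients on W
  have hsign : ∀ ω, conj (δ ω) = δ ω := fun ω => by rcases hδ ω with h | h <;> simp [h]
  have hcoef : ∀ (θ : L → ℂ), IsIrrCharacter L θ → ∀ ω ω', res ω = res ω' →
      classInner (fun t : ↥(W₁ ⊔ W₂) => θ t) (V ω) - classInner (fun t : ↥(W₁ ⊔ W₂) => θ t) (V ω') =
        δ ω * (classInner θ (μ ω) - classInner θ (μ ω')) := by
    intro θ hθ ω ω' h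
    rw [← classInner_sub_right, ← classInner_indFun_right _ _
      (IsCharacter.isClassFunction (IsIrrCharacter.isCharacter hθ)), hind ω ω' h,
      classInner_smul_right, classInner_sub_right, hsign]
  have hres_mul : ∀ (l : W₁ →* ℂˣ) ω, res (l.comp p₁ * ω) = res ω := fun l ω =>
    MonoidHom.ext fun b => by simp [res, (hp₂ b).1]
  have hsep : ∀ w : ↥(W₁ ⊔ W₂), (w : L) ∉ W₂ → ∃ l : W₁ →* ℂˣ, l (p₁ w) ≠ 1 := fun w hw => by
    let _ : CommGroup W₁ := { (inferInstance : Group W₁) with mul_comm := hA₁ }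
    haveI : NeZero (Monoid.exponent W₁) := ⟨Monoid.exponent_ne_zero_of_finite⟩
    exact CommGroup.exists_apply_ne_one_of_hasEnoughRootsOfUnity W₁ ℂ
      fun h => hw ((mem_right_iff hp hp₂ w).mpr h)
  have hvalue : ∀ ω₀ (w : ↥(W₁ ⊔ W₂)), (w : L) ∉ W₂ → μ ω₀ w = δ ω₀ * (ω₀ w : ℂ) := by
    intro ω₀ w hw
    obtain ⟨l, hl⟩ := hsep w hw
    refine sub_eq_zero.mp (vanish hW (fun t => μ ω₀ t - δ ω₀ * (ω₀ t : ℂ)) (l.comp p₁)
      (fun ω => sub_eq_zero.mp ?_) hl)
    have hres : res ω = res (l.comp p₁ * ω) := (hres_mul l ω).symm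
    have key := hcoef (μ ω₀) (hirr ω₀) ω (l.comp p₁ * ω) hres
    generalize l.comp p₁ * ω = ω' at hres key ⊢
    have e1 : ∀ x, classInner (μ ω₀) (μ x) = if ω₀ = x then 1 else 0 := fun x => by
      split_ifs with h
      · rw [h]; exact IsIrrCharacter.classInner_self (hirr x)
      · exact IsIrrCharacter.classInner_ne (hirr ω₀) (hirr x) fun h' => h (hμinj h')
    rw [e1, e1] at key
    have e2 : ∀ x : ↥(W₁ ⊔ W₂) →* ℂˣ,
        classInner (fun t : ↥(W₁ ⊔ W₂) => μ ω₀ t - δ ω₀ * (ω₀ t : ℂ)) (fun t => (x t : ℂ)) =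
          classInner (fun t : ↥(W₁ ⊔ W₂) => μ ω₀ t) (V x) - δ ω₀ * if ω₀ = x then 1 else 0 := by
      intro x
      rw [← inner_hom ω₀ x, ← classInner_smul_left, ← classInner_sub_left]
      rfl
    rw [e2, e2]
    by_cases h1 : ω₀ = ω
    · subst h1
      by_cases h2 : ω₀ = ω'
      · subst h2; ring
      · rw [if_pos rfl, if_neg h2] at key ⊢
        linear_combination key
    · by_cases h2 : ω₀ = ω'
      · subst h2
        have hδe : δ ω = δ ω₀ := by simp only [δ, hres]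
        rw [hδe] at key
        rw [if_pos rfl, if_neg h1] at key ⊢
        linear_combination key
      · rw [if_neg h1, if_neg h2] at key ⊢
        linear_combination key
  refine ⟨μ, δ, hμinj, hirr, hδ, fun ω ω' h => ?_, hvalue, fun θ hθ hne w hw => ?_, fun ω => ?_⟩
  · have hres : res ω = res ω' := MonoidHom.ext fun b => h _ b.2
    exact ⟨by simp only [δ, hres], hind ω ω' hres⟩
  · obtain ⟨l, hl⟩ := hsep w hw
    refine vanish hW (fun t => θ t) (l.comp p₁) (fun ω => sub_eq_zero.mp ?_) hl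
    rw [hcoef θ hθ ω _ (hres_mul l ω).symm, IsIrrCharacter.classInner_ne hθ (hirr _) (hne _),
      IsIrrCharacter.classInner_ne hθ (hirr _) (hne _)]
    ring
  · haveI := Fintype.ofFinite W₁
    obtain ⟨k, hk⟩ := IsCharacter.exists_classInner_nat
      (IsCharacter.restrict (IsIrrCharacter.isCharacter (hirr ω)) W₁) (isCharacter_one (G := W₁))
    obtain ⟨k', hk'⟩ := IsCharacter.exists_classInner_nat
      (IsCharacter.comp (IsIrrCharacter.isCharacter (isIrrCharacter_unitsHom ω))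
        (Subgroup.inclusion (le_sup_left : W₁ ≤ W₁ ⊔ W₂))) (isCharacter_one (G := W₁))
    set f : W₁ → ℂ := fun a => μ ω (a : L) - δ ω * (ω (Subgroup.inclusion le_sup_left a) : ℂ)
    have hf : classInner f (fun _ => 1) = (Nat.card W₁ : ℂ)⁻¹ * (μ ω 1 - δ ω) := by
      unfold classInner
      rw [Finset.sum_eq_single (1 : W₁)]
      · simp [f]
      · intro a _ ha
        have : ((Subgroup.inclusion le_sup_left a : ↥(W₁ ⊔ W₂)) : L) ∉ W₂ := fun h => ha <| by
          have h' : (a : L) ∈ W₁ ⊓ W₂ := ⟨a.2, h⟩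
          rw [hdisj, Subgroup.mem_bot] at h'
          exact Subtype.ext h'
        rw [show f a = 0 from sub_eq_zero.mpr (hvalue ω _ this), zero_mul]
      · simp
    have hf' : classInner f (fun _ => 1) = (k : ℂ) - δ ω * k' := by
      rw [← hk, ← hk', ← classInner_smul_left, ← classInner_sub_left]
      rfl
    have hw0 : (Nat.card W₁ : ℂ) ≠ 0 := natCard_ne_zero_complex
    rw [hf] at hf'
    field_simp at hf'
    rcases hδ ω with h | h <;> rw [h] at hf' ⊢
    · exact ⟨(k : ℤ) - k', by push_cast; linear_combination hf'⟩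
    · exact ⟨(k : ℤ) + k', by push_cast; linear_combination hf'⟩

end Cfsg.Agent.S1511
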