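import Cfsg.Statements.S1512
import Cfsg.Agent.S1496
import Mathlib.Data.Nat.ChineseRemainder

set_option autoImplicit false
open Cfsg

namespace Cfsg.Agent.S1512

/-- Let K be a normal subgroup of the finite group L and x a non-identity element whose order is coprime to the order of K, such that K ⊓ C_L(y) = W₂ for every non-identity element y of the cyclic group generated by x. Then the number of conjugacy classes of K mapped to themselves by conjugation by x is at most Nat.card W₂. -/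
theorem result {L : Type*} [Group L] [Finite L] (K W₂ : Subgroup L) [hK : K.Normal] (x : L) (hx1 : x ≠ 1) (hx : Nat.Coprime (orderOf x) (Nat.card K)) (hC : ∀ y ∈ Subgroup.zpowers x, y ≠ 1 → K ⊓ Subgroup.centralizer ({y} : Set L) = W₂) : Nat.card {C : ConjClasses K // ConjClasses.map (MulEquiv.toMonoidHom ((MulAut.conjNormal x : MulAut K))) C = C} ≤ Nat.card W₂ := by
  classical
  have hxn : x ∈ Subgroup.normalizer (K : Set L) := by
    rw [Subgroup.normalizer_eq_top_iff.mpr hK]; trivial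
  have hW : ∀ c : L, c ∈ W₂ ↔ c ∈ K ∧ c * x = x * c := fun c => by
    rw [← hC x (Subgroup.mem_zpowers x) hx1, Subgroup.mem_inf, Subgroup.mem_centralizer_singleton_iff]
  have hrep : ∀ C : ConjClasses K,
      ConjClasses.map (MulEquiv.toMonoidHom ((MulAut.conjNormal x : MulAut K))) C = C →
      ∃ w : K, (w : L) ∈ W₂ ∧ ConjClasses.mk w = C := by
    intro C hCfix
    obtain ⟨c, rfl⟩ := ConjClasses.mk_surjective C
    obtain ⟨k, hk⟩ := isConj_iff.mp (ConjClasses.mk_eq_mk_iff_isConj.mp hCfix).symm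
    have hk' : (k : L) * c * (k : L)⁻¹ = x * c * x⁻¹ := by
      simpa [MulAut.conjNormal_apply] using congrArg Subtype.val hk
    obtain ⟨y, hy, d, hd, hdx, he⟩ := Cfsg.Agent.S1496.result K x hxn hx (k : L)⁻¹ (K.inv_mem k.2)
    have hcz : ((k : L)⁻¹ * x) * c = c * ((k : L)⁻¹ * x) := by
      calc ((k : L)⁻¹ * x) * c = (k : L)⁻¹ * (x * c * x⁻¹) * x := by group
        _ = c * ((k : L)⁻¹ * x) := by rw [← hk']; group
    refine ⟨⟨y * c * y⁻¹, K.mul_mem (K.mul_mem hy c.2) (K.inv_mem hy)⟩, ?_,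
      ConjClasses.mk_eq_mk_iff_isConj.mpr (isConj_iff.mpr ⟨⟨y, hy⟩⁻¹, Subtype.ext (by simp [mul_assoc])⟩)⟩
    have h1 : Commute (y * (c : L) * y⁻¹) (d * x) := by
      rw [← he, commute_iff_eq]
      calc y * (c : L) * y⁻¹ * (y * ((k : L)⁻¹ * x) * y⁻¹) = y * ((c : L) * ((k : L)⁻¹ * x)) * y⁻¹ := by group
        _ = y * (((k : L)⁻¹ * x) * c) * y⁻¹ := by rw [hcz]
        _ = _ := by group
    obtain ⟨n, hn1, hn2⟩ := Nat.chineseRemainder hx 1 0
    have e : (d * x) ^ n = x := by
      rw [(show Commute d x from hdx).mul_pow]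
      have e1 : x ^ n = x := by
        conv_rhs => rw [← pow_one x]
        exact pow_eq_pow_iff_modEq.mpr hn1
      have e2 : d ^ n = 1 := by
        rw [← orderOf_dvd_iff_pow_eq_one]
        exact (K.orderOf_dvd_natCard hd).trans (Nat.modEq_zero_iff_dvd.mp hn2)
      rw [e1, e2, one_mul]
    exact (hW _).mpr ⟨K.mul_mem (K.mul_mem hy c.2) (K.inv_mem hy), e ▸ h1.pow_right n⟩
  choose r hr1 hr2 using hrep
  refine Nat.card_le_card_of_injective (fun C => (⟨(r C.1 C.2 : L), hr1 C.1 C.2⟩ : W₂)) ?_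
  intro C D hCD
  apply Subtype.ext
  rw [← hr2 C.1 C.2, ← hr2 D.1 D.2]
  exact congrArg ConjClasses.mk (Subtype.ext (congrArg (fun w : W₂ => (w : L)) hCD))

end Cfsg.Agent.S1512
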