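import Cfsg.Statements.S1513
import Cfsg.Agent.Lib.OddChar.ClassFix
import Cfsg.Agent.Lib.OddChar.AbelianQuot
import Mathlib.GroupTheory.Complement

set_option autoImplicit false
open Cfsg

namespace Cfsg.Agent.S1513

open Cfsg.Agent.Lib.Characters Cfsg.Agent.Lib.OddChar

/-- Let L be a finite group with K normal with complement W₁ ≠ 1 a cyclic Hall subgroup, and W₂ ≠ 1 a cyclic subgroup of K equal to C_K(x) for every non-identity x ∈ W₁, with W₁W₂ of odd order. For an irreducible character θ of K: if θ is not fixed under conjugation by some element of W₁, then the function induced from θ to L is an irreducible character of L; and the irreducible characters of K fixed by all of W₁ are exactly Nat.card W₂ in number, each inducing to the sum of Nat.card W₁ pairwise distinct irreducible characters of L. -/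
theorem result {L : Type*} [Group L] [Fintype L] (K W₁ W₂ : Subgroup L) [hK : K.Normal] (hKW₁ : K ⊓ W₁ = ⊥) (hKW₁' : K ⊔ W₁ = ⊤) (hW₁ : W₁ ≠ ⊥) (hW₁c : IsCyclic W₁) (hHall : Nat.Coprime (Nat.card W₁) W₁.index) (hW₂ : W₂ ≠ ⊥) (hW₂c : IsCyclic W₂) (hW₂K : W₂ ≤ K) (hC : ∀ x ∈ W₁, x ≠ 1 → K ⊓ Subgroup.centralizer ({x} : Set L) = W₂) (hodd : Odd (Nat.card ↥(W₁ ⊔ W₂))) : (∀ θ : K → ℂ, Cfsg.IsIrrCharacter K θ → (∃ x ∈ W₁, (fun k : K => θ ⟨x * k * x⁻¹, hK.conj_mem (k : L) k.2 x⟩) ≠ θ) → Cfsg.IsIrrCharacter L (Cfsg.indFun K θ)) ∧ Nat.card {θ : Cfsg.IrrCharacter K // ∀ x ∈ W₁, (fun k : K => (θ : K → ℂ) ⟨x * k * x⁻¹, hK.conj_mem (k : L) k.2 x⟩) = θ} = Nat.card W₂ ∧ (∀ θ : K → ℂ, Cfsg.IsIrrCharacter K θ → (∀ x ∈ W₁, (fun k : K => θ ⟨x * k * x⁻¹, hK.conj_mem (k : L) k.2 x⟩) = θ) → ∃ C : Finset (L → ℂ), C.card = Nat.card W₁ ∧ (∀ μ ∈ C, Cfsg.IsIrrCharacter L μ) ∧ Cfsg.indFun K θ = ∑ μ ∈ C, μ) := by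
  classical
  haveI := Fintype.ofFinite K
  haveI : Finite (ConjClasses K) := Finite.of_surjective _ ConjClasses.mk_surjective
  have hprod : ∀ g : L, ∃ k ∈ K, ∃ x ∈ W₁, g = k * x := by
    intro g
    have hn : W₁ ≤ Subgroup.normalizer (K : Set L) := by
      rw [Subgroup.normalizer_eq_top_iff.mpr hK]; exact le_top
    have hg : g ∈ ((K ⊔ W₁ : Subgroup L) : Set L) := by rw [hKW₁']; trivial
    rw [Subgroup.coe_mul_of_right_le_normalizer_left K W₁ hn] at hg
    obtain ⟨k, hk, x, hx, rfl⟩ := Set.mem_mul.mp hg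
    exact ⟨k, hk, x, hx, rfl⟩
  have hcompl : Subgroup.IsComplement' W₁ K := by
    refine Subgroup.isComplement'_of_disjoint_and_mul_eq_univ (disjoint_iff.mpr (by rwa [inf_comm])) ?_
    rw [← Subgroup.coe_mul_of_left_le_normalizer_right W₁ K
      (by rw [Subgroup.normalizer_eq_top_iff.mpr hK]; exact le_top), sup_comm, hKW₁', Subgroup.coe_top]
  have hKi : W₁.index = Nat.card K := hcompl.symm.index_eq_card
  have hWi : K.index = Nat.card W₁ := hcompl.index_eq_card
  have hcop : ∀ x ∈ W₁, Nat.Coprime (orderOf x) (Nat.card K) := fun x hx =>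
    (hKi ▸ hHall).coprime_dvd_left (W₁.orderOf_dvd_natCard hx)
  have hcen : ∀ x ∈ W₁, ∀ w ∈ W₂, Commute x w := by
    intro x hx w hw
    by_cases h1 : x = 1
    · subst h1; exact Commute.one_left w
    · rw [← hC x hx h1] at hw
      exact (Subgroup.mem_centralizer_singleton_iff.mp hw.2).symm
  have hinj : ∀ w ∈ W₂, ∀ w' ∈ W₂, ∀ k ∈ K, k * w * k⁻¹ = w' → w = w' := by
    intro w hw w' hw' k hk he
    obtain ⟨x, hx, hx1⟩ : ∃ x ∈ W₁, x ≠ 1 := by
      by_contra h
      push Not at h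
      exact hW₁ ((Subgroup.eq_bot_iff_forall _).mpr h)
    set N := K ⊓ Subgroup.centralizer ({w} : Set L)
    have hxw := hcen x hx w hw
    have hcopN : Nat.Coprime (orderOf x) (Nat.card N) :=
      (hcop x hx).coprime_dvd_right (Subgroup.card_dvd_of_le inf_le_left)
    have hxN : x ∈ Subgroup.normalizer (N : Set L) := by
      rw [Subgroup.mem_set_normalizer_iff]
      intro y
      simp only [N, SetLike.mem_coe, Subgroup.mem_inf, Subgroup.mem_centralizer_singleton_iff]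
      constructor
      · rintro ⟨h1, h2⟩
        refine ⟨hK.conj_mem y h1 x, ?_⟩
        calc x * y * x⁻¹ * w = x * y * (x⁻¹ * w) := by group
          _ = x * (y * w) * x⁻¹ := by rw [(Commute.inv_left hxw).eq]; group
          _ = (x * w) * y * x⁻¹ := by rw [h2]; group
          _ = w * (x * y * x⁻¹) := by rw [hxw.eq]; group
      · rintro ⟨h1, h2⟩
        refine ⟨by simpa [mul_assoc] using hK.conj_mem _ h1 x⁻¹, ?_⟩
        calc y * w = x⁻¹ * (x * y * x⁻¹) * (x * w) := by group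
          _ = x⁻¹ * (x * y * x⁻¹ * w) * x := by rw [hxw.eq]; group
          _ = (x⁻¹ * w) * (x * y * x⁻¹) * x := by rw [h2]; group
          _ = w * y := by rw [(Commute.inv_left hxw).eq]; group
    have hxw' := hcen x hx w' hw'
    set c := k⁻¹ * (x * k * x⁻¹) with hc
    have hcN : c ∈ N := by
      refine ⟨K.mul_mem (K.inv_mem hk) (hK.conj_mem k hk x), ?_⟩
      refine Subgroup.mem_centralizer_singleton_iff.mpr ?_
      have h1 : x * k * x⁻¹ * w * (x * k * x⁻¹)⁻¹ = w' := by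
        calc x * k * x⁻¹ * w * (x * k * x⁻¹)⁻¹ = x * k * (x⁻¹ * w) * x * k⁻¹ * x⁻¹ := by group
          _ = x * (k * w * k⁻¹) * x⁻¹ := by rw [(Commute.inv_left hxw).eq]; group
          _ = w' := by rw [he, hxw'.eq]; group
      calc c * w = k⁻¹ * (x * k * x⁻¹ * w * (x * k * x⁻¹)⁻¹) * (x * k * x⁻¹) := by rw [hc]; group
        _ = w * c := by rw [h1, hc, ← he]; group
    obtain ⟨y, hy, d, hd, hdx, hyd⟩ := Cfsg.Agent.S1496.result N x hxN hcopN c hcN
    have hd1 : d = 1 := by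
      have h1 : orderOf (d * x) = orderOf x := by
        rw [← hyd, ← MulAut.conj_apply, MulEquiv.orderOf_eq,
          show c * x = k⁻¹ * x * k⁻¹⁻¹ by rw [hc]; group, ← MulAut.conj_apply, MulEquiv.orderOf_eq]
      have hdc : Commute d x := hdx
      have hco : Nat.Coprime (orderOf d) (orderOf x) :=
        (hcopN.coprime_dvd_right (N.orderOf_dvd_natCard hd)).symm
      rw [hdc.orderOf_mul_eq_mul_orderOf_of_coprime hco] at h1
      exact orderOf_eq_one_iff.mp ((Nat.mul_eq_right (orderOf_pos x).ne').mp h1)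
    rw [hd1, one_mul] at hyd
    have hky : k * y⁻¹ ∈ W₂ := by
      rw [← hC x hx hx1]
      refine ⟨K.mul_mem hk (K.inv_mem hy.1), ?_⟩
      refine Subgroup.mem_centralizer_singleton_iff.mpr ?_
      calc k * y⁻¹ * x = k * y⁻¹ * (y * (c * x) * y⁻¹) := by rw [hyd]
        _ = x * (k * y⁻¹) := by rw [hc]; group
    have hyw := Subgroup.mem_centralizer_singleton_iff.mp hy.2
    have hab := congrArg Subtype.val
      ((IsCyclic.isMulCommutative (α := W₂)).is_comm.comm ⟨k * y⁻¹, hky⟩ ⟨w, hw⟩)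
    simp only [Subgroup.coe_mul] at hab
    calc w = (w * (k * y⁻¹)) * (k * y⁻¹)⁻¹ := by group
      _ = k * (y⁻¹ * (w * y)) * k⁻¹ := by rw [← hab]; group
      _ = w' := by rw [← hyw, ← he]; group
  have hfix : ∀ x ∈ W₁, x ≠ 1 →
      Nat.card {θ : Cfsg.IrrCharacter K // Cfsg.Agent.Lib.Characters.conjFun K x (θ : K → ℂ) = θ} =
        Nat.card W₂ := by
    intro x hx hx1
    rw [card_fixed_irr_eq]
    refine (Nat.card_congr (Equiv.ofBijective (fun w : W₂ =>
      (⟨ConjClasses.mk ⟨w, hW₂K w.2⟩, ?_⟩ : {C : ConjClasses K //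
        ∀ n, ConjClasses.mk n = C → IsConj (conjMap K x n) n})) ⟨?_, ?_⟩)).symm
    · intro n hn
      obtain ⟨d, hd⟩ := isConj_iff.mp (ConjClasses.mk_eq_mk_iff_isConj.mp hn)
      have hd' : (d : L) * n * (d : L)⁻¹ = w := congrArg Subtype.val hd
      refine IsConj.trans (isConj_iff.mpr ⟨conjMap K x d, Subtype.ext ?_⟩)
        (isConj_iff.mpr ⟨d, hd⟩ : IsConj n ⟨(w : L), hW₂K w.2⟩).symm
      show x * (d : L) * x⁻¹ * (x * n * x⁻¹) * (x * (d : L) * x⁻¹)⁻¹ = w
      calc _ = x * ((d : L) * n * (d : L)⁻¹) * x⁻¹ := by group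
        _ = w := by rw [hd', (hcen x hx w w.2).eq]; group
    · intro w w' h
      obtain ⟨d, hd⟩ := isConj_iff.mp (ConjClasses.mk_eq_mk_iff_isConj.mp (congrArg Subtype.val h))
      exact Subtype.ext (hinj w w.2 w' w'.2 d d.2 (congrArg Subtype.val hd))
    · rintro ⟨C, hCfix⟩
      obtain ⟨c, rfl⟩ := ConjClasses.mk_surjective C
      obtain ⟨y, hy, hcomm⟩ := exists_fixed_rep K (hcop x hx) (hCfix c rfl)
      have hmem : y * (c : L) * y⁻¹ ∈ W₂ := by
        rw [← hC x hx hx1]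
        exact ⟨K.mul_mem (K.mul_mem hy c.2) (K.inv_mem hy),
          Subgroup.mem_centralizer_singleton_iff.mpr hcomm.eq.symm⟩
      refine ⟨⟨_, hmem⟩, Subtype.ext ?_⟩
      exact (ConjClasses.mk_eq_mk_iff_isConj.mpr (isConj_iff.mpr ⟨⟨y, hy⟩, Subtype.ext rfl⟩)).symm
  obtain ⟨g₀, hg₀⟩ := hW₁c.exists_generator
  have hg1 : (g₀ : L) ≠ 1 := by
    intro h
    refine hW₁ ((Subgroup.eq_bot_iff_forall _).mpr fun x hx => ?_)
    obtain ⟨i, hi⟩ := Subgroup.mem_zpowers_iff.mp (hg₀ ⟨x, hx⟩)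
    simpa [h] using (congrArg Subtype.val hi).symm
  have hall : ∀ θ : K → ℂ, Cfsg.Agent.Lib.Characters.conjFun K g₀ θ = θ →
      ∀ x ∈ W₁, Cfsg.Agent.Lib.Characters.conjFun K x θ = θ := by
    intro θ h x hx
    obtain ⟨i, hi⟩ := Subgroup.mem_zpowers_iff.mp (hg₀ ⟨x, hx⟩)
    rw [← mem_inertia_iff, show x = (g₀ : L) ^ i by simpa using (congrArg Subtype.val hi).symm]
    exact Subgroup.zpow_mem _ ((mem_inertia_iff K).mpr h) i
  have hcardall : Nat.card {θ : Cfsg.IrrCharacter K //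
      ∀ x ∈ W₁, Cfsg.Agent.Lib.Characters.conjFun K x (θ : K → ℂ) = θ} = Nat.card W₂ := by
    rw [← hfix g₀ g₀.2 hg1]
    exact Nat.card_congr (Equiv.subtypeEquivRight fun θ => ⟨fun h => h g₀ g₀.2, fun h => hall θ h⟩)
  refine ⟨?_, hcardall, ?_⟩
  · intro θ hθ hmove
    refine isIrrCharacter_indFun_of_inertia K hθ fun g hg => ?_
    obtain ⟨k, hk, x, hx, rfl⟩ := hprod g
    by_cases h1 : x = 1
    · subst h1; simpa using hk
    exfalso
    rw [conjFun_mul, conjFun_of_mem K (IsCharacter.isClassFunction (IsIrrCharacter.isCharacter hθ)) hk] at hg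
    let incl : {φ : Cfsg.IrrCharacter K // ∀ z ∈ W₁, Cfsg.Agent.Lib.Characters.conjFun K z (φ : K → ℂ) = φ} →
        {φ : Cfsg.IrrCharacter K // Cfsg.Agent.Lib.Characters.conjFun K x (φ : K → ℂ) = φ} :=
      fun φ => ⟨φ.1, φ.2 x hx⟩
    have hbij : Function.Bijective incl :=
      (Nat.bijective_iff_injective_and_card incl).mpr
        ⟨fun a b h => Subtype.ext (congrArg (fun t : {φ : Cfsg.IrrCharacter K //
          Cfsg.Agent.Lib.Characters.conjFun K x (φ : K → ℂ) = φ} => t.1) h),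
          by rw [hcardall, hfix x hx h1]⟩
    obtain ⟨φ, hφ⟩ := hbij.2 ⟨⟨θ, hθ⟩, hg⟩
    obtain ⟨z, hz, hne⟩ := hmove
    refine hne ?_
    have := φ.2 z hz
    rw [show (φ.1 : K → ℂ) = θ from congrArg (fun t : {φ : Cfsg.IrrCharacter K //
          Cfsg.Agent.Lib.Characters.conjFun K x (φ : K → ℂ) = φ} => (t.1 : K → ℂ)) hφ] at this
    exact this
  · intro θ hθ hfixall
    have hθc := IsCharacter.isClassFunction (IsIrrCharacter.isCharacter hθ)
    have hinv : ∀ g : L, Cfsg.Agent.Lib.Characters.conjFun K g θ = θ := by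
      intro g
      obtain ⟨k, hk, x, hx, rfl⟩ := hprod g
      rw [conjFun_mul, conjFun_of_mem K hθc hk]
      exact hfixall x hx
    have hcomm : ∀ x y : L, x * y * x⁻¹ * y⁻¹ ∈ K := by
      intro x y
      obtain ⟨k, hk, a, ha, rfl⟩ := hprod x
      obtain ⟨k', hk', b, hb, rfl⟩ := hprod y
      rw [← QuotientGroup.eq_one_iff]
      simp only [QuotientGroup.mk_mul, QuotientGroup.mk_inv, (QuotientGroup.eq_one_iff k).mpr hk,
        (QuotientGroup.eq_one_iff k').mpr hk', one_mul, mul_one]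
      rw [← QuotientGroup.mk_mul, ← QuotientGroup.mk_inv, ← QuotientGroup.mk_mul, ← QuotientGroup.mk_inv,
        ← QuotientGroup.mk_mul, QuotientGroup.eq_one_iff]
      have hab := congrArg Subtype.val
        ((IsCyclic.isMulCommutative (α := W₁)).is_comm.comm ⟨a, ha⟩ ⟨b, hb⟩)
      simp only [Subgroup.coe_mul] at hab
      rw [hab, show b * a * a⁻¹ * b⁻¹ = 1 by group]
      exact K.one_mem
    have hcop' : Nat.Coprime (Nat.card K) K.index := by
      rw [hWi, ← hKi]; exact hHall.symm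
    obtain ⟨C, hirr, hcard, hdec, -⟩ := exists_decomp_coprime K hcomm hcop' hθ hinv
    exact ⟨C, hcard.trans hWi, hirr, hdec⟩

end Cfsg.Agent.S1513
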