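import Cfsg.Statements.S1514
import Cfsg.Agent.Lib.Characters.Gram
import Cfsg.Agent.Lib.Characters.Kernel

set_option autoImplicit false
open Cfsg

namespace Cfsg.Agent.S1514

open Cfsg.Agent.Lib.Characters

/-- Let S be a nonempty set of irreducible characters of the finite group L, closed under complex conjugation and containing no real-valued member, and τ a linear isometry on the integer combinations of S vanishing at 1, with values virtual characters of G vanishing at 1. Then there is a choice R making (S, τ, R) a coherence system. -/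
theorem result {L : Type*} [Group L] [Fintype L] {G : Type*} [Group G] [Fintype G] (S : Set (L → ℂ)) (hS : S.Nonempty) (hirr : ∀ χ ∈ S, Cfsg.IsIrrCharacter L χ) (hconj : ∀ χ ∈ S, Cfsg.conjFun χ ∈ S ∧ Cfsg.conjFun χ ≠ χ) (τ : (L → ℂ) → (G → ℂ)) (hτ : Cfsg.IsLinearIsometryOn (Cfsg.zspanOn S {1}ᶜ) τ) (hτ1 : ∀ α ∈ Cfsg.zspanOn S {1}ᶜ, τ α 1 = 0) : ∃ R : (L → ℂ) → Finset (G → ℂ), Cfsg.IsCoherenceSystem S τ R := by
  classical
  have horth : ∀ χ ∈ S, ∀ φ ∈ S, χ ≠ φ → classInner χ φ = 0 := fun χ hχ φ hφ h =>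
    IsIrrCharacter.classInner_ne (hirr χ hχ) (hirr φ hφ) h
  have hα : ∀ χ ∈ S, χ - Cfsg.conjFun χ ∈ zspanOn S {1}ᶜ := by
    intro χ hχ
    refine ⟨Submodule.sub_mem _ (Submodule.subset_span hχ) (Submodule.subset_span (hconj χ hχ).1),
      fun x hx => ?_⟩
    have hx1 : x = 1 := by simpa using hx
    subst hx1
    obtain ⟨a, -, ha⟩ := IsIrrCharacter.exists_apply_one (hirr χ hχ)
    simp [Cfsg.conjFun, ha]
  have hnorm : ∀ χ ∈ S, classInner (χ - Cfsg.conjFun χ) (χ - Cfsg.conjFun χ) = 2 := by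
    intro χ hχ
    have h1 := horth χ hχ _ (hconj χ hχ).1 (hconj χ hχ).2.symm
    have h2 := horth _ (hconj χ hχ).1 χ hχ (hconj χ hχ).2
    rw [classInner_sub_left, classInner_sub_right, classInner_sub_right, h1, h2,
      IsIrrCharacter.classInner_self (hirr χ hχ), IsIrrCharacter.classInner_self (hirr _ (hconj χ hχ).1)]
    norm_num
  choose a b hab hdec using fun (χ : L → ℂ) (hχ : χ ∈ S) =>
    IsGeneralizedCharacter.eq_irr_sub (hτ.2.2.2 _ (hα χ hχ))
      ((hτ.2.2.1 _ (hα χ hχ) _ (hα χ hχ)).trans (hnorm χ hχ)) (hτ1 _ (hα χ hχ))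
  refine ⟨fun χ => if h : χ ∈ S then ({(a χ h : G → ℂ), -(b χ h : G → ℂ)} : Finset (G → ℂ)) else ∅,
    ⟨hS, fun χ hχ => IsIrrCharacter.isCharacter (hirr χ hχ), fun χ hχ => (hconj χ hχ).1,
      fun χ hχ => (hconj χ hχ).2, hτ, hτ1, horth, ?_, ?_, ?_, ?_⟩⟩
  · intro χ hχ α hα' β hβ'
    rw [dif_pos hχ, Finset.mem_insert, Finset.mem_singleton] at hα' hβ'
    have hne : (a χ hχ : G → ℂ) ≠ -(b χ hχ : G → ℂ) := fun e => by
      obtain ⟨m, hm0, hm⟩ := IsIrrCharacter.exists_apply_one (a χ hχ).2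
      obtain ⟨n, hn0, hn⟩ := IsIrrCharacter.exists_apply_one (b χ hχ).2
      have h1 := congrFun e 1
      rw [Pi.neg_apply, hm, hn, eq_neg_iff_add_eq_zero] at h1
      have : m + n = 0 := by exact_mod_cast h1
      omega
    rcases hα' with rfl | rfl <;> rcases hβ' with rfl | rfl
    · simp [classInner_irr]
    · rw [if_neg hne, classInner_neg_right, classInner_irr, if_neg (hab χ hχ), neg_zero]
    · rw [if_neg hne.symm, classInner_neg_left, classInner_irr, if_neg (hab χ hχ).symm, neg_zero]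
    · simp [classInner_neg_left, classInner_neg_right, classInner_irr]
  · intro χ hχ α hα'
    rw [dif_pos hχ, Finset.mem_insert, Finset.mem_singleton] at hα'
    rcases hα' with rfl | rfl
    · exact IsCharacter.isGeneralizedCharacter (irr_isCharacter _)
    · exact IsGeneralizedCharacter.neg (IsCharacter.isGeneralizedCharacter (irr_isCharacter _))
  · intro χ hχ
    rw [dif_pos hχ, Finset.sum_pair, hdec χ hχ, sub_eq_add_neg]
    intro e
    obtain ⟨m, hm0, hm⟩ := IsIrrCharacter.exists_apply_one (a χ hχ).2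
    obtain ⟨n, hn0, hn⟩ := IsIrrCharacter.exists_apply_one (b χ hχ).2
    have h1 := congrFun e 1
    rw [Pi.neg_apply, hm, hn, eq_neg_iff_add_eq_zero] at h1
    have : m + n = 0 := by exact_mod_cast h1
    omega
  · intro χ hχ φ hφ h1 h2 α hα' β hβ'
    rw [dif_pos hφ, Finset.mem_insert, Finset.mem_singleton] at hα'
    rw [dif_pos hχ, Finset.mem_insert, Finset.mem_singleton] at hβ'
    have hne1 : Cfsg.conjFun φ ≠ χ := fun e => by
      have : φ = Cfsg.conjFun χ := by rw [← e]; funext x; simp [Cfsg.conjFun]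
      rw [← this, IsIrrCharacter.classInner_self (hirr φ hφ)] at h2
      exact one_ne_zero h2
    have hne2 : Cfsg.conjFun φ ≠ Cfsg.conjFun χ := fun e => by
      have : φ = χ := by
        funext x
        exact (starRingEnd ℂ).injective (congrFun e x)
      rw [this, IsIrrCharacter.classInner_self (hirr χ hχ)] at h1
      exact one_ne_zero h1
    have h0 := hτ.2.2.1 _ (hα φ hφ) _ (hα χ hχ)
    rw [hdec φ hφ, hdec χ hχ, classInner_diff, classInner_sub_left, classInner_sub_right,
      classInner_sub_right, h1, h2, horth _ (hconj φ hφ).1 χ hχ hne1,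
      horth _ (hconj φ hφ).1 _ (hconj χ hχ).1 hne2] at h0
    have hA := hab φ hφ
    have hB := hab χ hχ
    have h0' : ((if a φ hφ = a χ hχ then 1 else 0) - (if a φ hφ = b χ hχ then 1 else 0) -
        (if b φ hφ = a χ hχ then 1 else 0) + (if b φ hφ = b χ hχ then 1 else 0) : ℤ) = 0 := by
      have h3 := h0
      simp only [sub_zero] at h3
      exact_mod_cast h3
    have hall : a φ hφ ≠ a χ hχ ∧ a φ hφ ≠ b χ hχ ∧ b φ hφ ≠ a χ hχ ∧ b φ hφ ≠ b χ hχ := by
      by_cases e1 : a φ hφ = a χ hχ <;> by_cases e2 : a φ hφ = b χ hχ <;>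
        by_cases e3 : b φ hφ = a χ hχ <;> by_cases e4 : b φ hφ = b χ hχ <;> simp_all
    rcases hα' with rfl | rfl <;> rcases hβ' with rfl | rfl <;>
      simp [classInner_neg_left, classInner_neg_right, classInner_irr, hall.1, hall.2.1, hall.2.2.1, hall.2.2.2]

end Cfsg.Agent.S1514
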