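import Cfsg.Statements.S1515
import Cfsg.Agent.Lib.Characters.Gram

set_option autoImplicit false
open Cfsg

namespace Cfsg.Agent.S1515

open Cfsg.Agent.Lib.Characters

/-- Let (S, τ, R) be a coherence system from L to G, χ ∈ S, and ψ an integer combination of S with ⟨χ, ψ⟩ = ⟨conj χ, ψ⟩ = 0. Let τ₁ be a linear isometry on the integer combinations of χ − ψ and χ − conj χ, with virtual-character values, agreeing with τ on integer multiples of χ − conj χ. Then the sum over α ∈ R χ of the squared absolute values of ⟨τ₁(χ − ψ), α⟩ is at least ⟨χ, χ⟩; and if ⟨τ₁(χ − ψ), τ₁(χ − ψ)⟩ minus that sum is at least ⟨ψ, ψ⟩, then the sum equals ⟨χ, χ⟩ and every ⟨τ₁(χ − ψ), α⟩ with α ∈ R χ is 0 or 1. -/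
theorem result {L : Type*} [Group L] [Fintype L] {G : Type*} [Group G] [Fintype G] (S : Set (L → ℂ)) (τ : (L → ℂ) → (G → ℂ)) (R : (L → ℂ) → Finset (G → ℂ)) (hS : Cfsg.IsCoherenceSystem S τ R) (χ : L → ℂ) (hχ : χ ∈ S) (ψ : L → ℂ) (hψ : ψ ∈ Cfsg.zspan S) (h1 : Cfsg.classInner χ ψ = 0) (h2 : Cfsg.classInner (Cfsg.conjFun χ) ψ = 0) (τ₁ : (L → ℂ) → (G → ℂ)) (hτ₁ : Cfsg.IsLinearIsometryOn (Cfsg.zspan {χ - ψ, χ - Cfsg.conjFun χ}) τ₁) (hagree : ∀ n : ℤ, τ₁ (n • (χ - Cfsg.conjFun χ)) = τ (n • (χ - Cfsg.conjFun χ))) : (Cfsg.classInner χ χ).re ≤ ∑ α ∈ R χ, ‖Cfsg.classInner (τ₁ (χ - ψ)) α‖ ^ 2 ∧ ((Cfsg.classInner ψ ψ).re ≤ (Cfsg.classInner (τ₁ (χ - ψ)) (τ₁ (χ - ψ))).re - ∑ α ∈ R χ, ‖Cfsg.classInner (τ₁ (χ - ψ)) α‖ ^ 2 → (∑ α ∈ R χ, ‖Cfsg.classInner (τ₁ (χ - ψ)) α‖ ^ 2 = (Cfsg.classInner χ χ).re ∧ ∀ α ∈ R χ, Cfsg.classInner (τ₁ (χ - ψ)) α = 0 ∨ Cfsg.classInner (τ₁ (χ - ψ)) α = 1)) := by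
  classical
  set β := τ₁ (χ - ψ) with hβ
  have hχc := hS.isCharacter χ hχ
  have hm1 : χ - ψ ∈ zspan {χ - ψ, χ - Cfsg.conjFun χ} := Submodule.subset_span (by simp)
  have hm2 : χ - Cfsg.conjFun χ ∈ zspan {χ - ψ, χ - Cfsg.conjFun χ} := Submodule.subset_span (by simp)
  have hβg : IsGeneralizedCharacter G β := hτ₁.2.2.2 _ hm1
  choose a ha using fun α : {α // α ∈ R χ} =>
    IsGeneralizedCharacter.exists_classInner_int hβg (hS.virtual χ hχ α α.2)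
  obtain ⟨n, hn⟩ := IsCharacter.exists_classInner_nat hχc hχc
  have hsum : ∑ α : {α // α ∈ R χ}, a α = n := by
    have h := hτ₁.2.2.1 _ hm1 _ hm2
    have e : τ₁ (χ - Cfsg.conjFun χ) = ∑ α ∈ R χ, α := by
      have := hagree 1
      rwa [one_smul, hS.sum_eq χ hχ] at this
    rw [e, classInner_sum_right, classInner_sub_left, classInner_sub_right, classInner_sub_right,
      hS.orthogonal χ hχ _ (hS.conj_mem χ hχ) (hS.conj_ne χ hχ).symm,
      ← classInner_conj_symm χ ψ, h1, ← classInner_conj_symm (Cfsg.conjFun χ) ψ, h2, map_zero, hn,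
      ← Finset.sum_coe_sort] at h
    have h' : ((∑ α : {α // α ∈ R χ}, a α : ℤ) : ℂ) = ((n : ℤ) : ℂ) := by
      push_cast
      rw [Finset.sum_congr rfl fun α _ => (ha α).symm]
      simpa using h
    exact_mod_cast h'
  have hsq : ∑ α ∈ R χ, ‖classInner β α‖ ^ 2 = ((∑ α : {α // α ∈ R χ}, a α ^ 2 : ℤ) : ℝ) := by
    rw [← Finset.sum_coe_sort]
    push_cast
    refine Finset.sum_congr rfl fun α _ => ?_
    rw [ha, ← Complex.ofReal_intCast, Complex.norm_real, Real.norm_eq_abs, sq_abs]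
  have hle : ∀ z : ℤ, z ≤ z ^ 2 := fun z => by
    rcases le_or_gt z 0 with h | h
    · exact h.trans (sq_nonneg z)
    · nlinarith
  have hge : (n : ℤ) ≤ ∑ α : {α // α ∈ R χ}, a α ^ 2 :=
    hsum ▸ Finset.sum_le_sum fun α _ => hle (a α)
  have hnre : (classInner χ χ).re = (n : ℝ) := by rw [hn, Complex.natCast_re]
  rw [hsq, hnre]
  refine ⟨by exact_mod_cast hge, fun hineq => ?_⟩
  have hββ : classInner β β = classInner χ χ + classInner ψ ψ := by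
    rw [hτ₁.2.2.1 _ hm1 _ hm1, classInner_sub_left, classInner_sub_right, classInner_sub_right, h1,
      ← classInner_conj_symm χ ψ, h1, map_zero]
    ring
  rw [hββ, Complex.add_re, hnre] at hineq
  have heq : ∑ α : {α // α ∈ R χ}, a α ^ 2 = (n : ℤ) := by
    refine le_antisymm ?_ hge
    have : ((∑ α : {α // α ∈ R χ}, a α ^ 2 : ℤ) : ℝ) ≤ ((n : ℤ) : ℝ) := by push_cast at hineq ⊢; linarith
    exact_mod_cast this
  refine ⟨by exact_mod_cast heq, fun α hα => ?_⟩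
  have h01 := (Finset.sum_eq_sum_iff_of_le (fun α _ => hle (a α))).mp (hsum.trans heq.symm)
    ⟨α, hα⟩ (Finset.mem_univ _)
  have hα' : classInner β α = (a ⟨α, hα⟩ : ℂ) := ha ⟨α, hα⟩
  rw [hα']
  have : a ⟨α, hα⟩ * (a ⟨α, hα⟩ - 1) = 0 := by linear_combination -h01
  rcases mul_eq_zero.mp this with h | h
  · exact Or.inl (by simp [h])
  · exact Or.inr (by rw [sub_eq_zero.mp h]; simp)

end Cfsg.Agent.S1515
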