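import Cfsg.Statements.S1518
import Cfsg.Agent.Lib.OddChar.DadeInt
import Cfsg.Agent.Lib.Characters.Gram
import Cfsg.Agent.Lib.Characters.Kernel

set_option autoImplicit false
open Cfsg

namespace Cfsg.Agent.S1518

open Cfsg.Agent.Lib.Characters Cfsg.Agent.Lib.OddChar

/-- Under the Dade hypothesis for (A, L, H): if χ is an irreducible character of L vanishing at every non-identity element of L outside A, then the Dade image of χ − conj χ equals μ − conj μ for some irreducible character μ of G. -/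
theorem result {G : Type*} [Group G] [Fintype G] (A : Set G) (L : Subgroup G) [Fintype L] (H : G → Subgroup G) (hD : Cfsg.DadeHypothesis A L H) (χ : L → ℂ) (hχ : Cfsg.IsIrrCharacter L χ) (hsupp : ∀ x : L, x ≠ 1 → (x : G) ∉ A → χ x = 0) : ∃ μ : G → ℂ, Cfsg.IsIrrCharacter G μ ∧ Cfsg.dadeIsometry A L H (χ - Cfsg.conjFun χ) = μ - Cfsg.conjFun μ := by
  classical
  have hc := IsIrrCharacter.isCharacter hχ
  have hcc : Cfsg.IsCharacter L (Cfsg.conjFun χ) := IsCharacter.conjugate hc
  by_cases hreal : Cfsg.conjFun χ = χ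
  · refine ⟨fun _ => 1, isIrrCharacter_one, ?_⟩
    funext g
    simp [hreal, Cfsg.dadeIsometry, Cfsg.conjFun]
  set α := χ - Cfsg.conjFun χ with hα
  have hgen : Cfsg.IsGeneralizedCharacter L α := ⟨χ, _, hc, hcc, rfl⟩
  have hcl := IsGeneralizedCharacter.isClassFunction hgen
  obtain ⟨d, hd0, hd⟩ := IsIrrCharacter.exists_apply_one hχ
  have hαA : ∀ x : L, (x : G) ∉ A → α x = 0 := by
    intro x hx
    by_cases h1 : x = 1
    · subst h1; simp [α, Cfsg.conjFun, hd]
    · simp [α, Cfsg.conjFun, hsupp x h1 hx]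
  have hnorm : Cfsg.classInner α α = 2 := by
    have h1 := IsIrrCharacter.classInner_self hχ
    have h2 : Cfsg.classInner (Cfsg.conjFun χ) (Cfsg.conjFun χ) = 1 := by
      have := classInner_conj_conj χ χ
      unfold Cfsg.conjFun
      rw [this, h1]
    have hirr : Cfsg.IsIrrCharacter L (Cfsg.conjFun χ) := (IsCharacter.isIrr_iff hcc).mpr h2
    rw [hα]
    simp only [classInner_sub_left, classInner_sub_right, h1, h2,
      IsIrrCharacter.classInner_ne hχ hirr (Ne.symm hreal),
      IsIrrCharacter.classInner_ne hirr hχ hreal]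
    norm_num
  set θ := Cfsg.dadeIsometry A L H α with hθ
  have hθgen : Cfsg.IsGeneralizedCharacter G θ := dade_generalized hD hαA hgen
  have hθ2 : Cfsg.classInner θ θ = 2 := by rw [hθ, dade_isometry hD hcl hαA hcl, hnorm]
  have hθ1 : θ 1 = 0 := by
    refine dade_eq_zero hD ?_
    rintro ⟨a, ha, x, u, hu, he⟩
    rw [mul_one, mul_inv_cancel] at he
    have hau : (a : G) = u⁻¹ := eq_inv_of_mul_eq_one_left he.symm
    have h : (a : G) ∈ H (a : G) ⊓ (L ⊓ Subgroup.centralizer ({(a : G)} : Set G)) :=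
      ⟨hau.symm ▸ (H (a : G)).inv_mem hu, dade_mem_inf hD ha⟩
    rw [hD.inf_eq_bot _ ha, Subgroup.mem_bot] at h
    exact hD.one_not_mem (h ▸ ha)
  have hanti : ∀ g, (starRingEnd ℂ) (θ g) = -θ g := by
    intro g
    by_cases h : ∃ a : L, (a : G) ∈ A ∧ ∃ x : G, ∃ u ∈ H (a : G), x * g * x⁻¹ = (a : G) * u
    · obtain ⟨a, ha, x, u, hu, he⟩ := h
      rw [hθ, dade_apply hD hcl ha hu he]
      simp [α, Cfsg.conjFun]
    · rw [hθ, dade_eq_zero hD h]; simp
  obtain ⟨a, b, hab, he⟩ := IsGeneralizedCharacter.eq_irr_sub hθgen hθ2 hθ1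
  have hair : ∀ t : Cfsg.IrrCharacter G, Cfsg.IsIrrCharacter G (Cfsg.conjFun (t : G → ℂ)) := fun t =>
    (IsCharacter.isIrr_iff (IsCharacter.conjugate (irr_isCharacter t))).mpr (by
      rw [classInner_conj_conj, IsIrrCharacter.classInner_self t.2])
  let a' : Cfsg.IrrCharacter G := ⟨_, hair a⟩
  let b' : Cfsg.IrrCharacter G := ⟨_, hair b⟩
  have h1 : (a : G → ℂ) - (b : G → ℂ) = (b' : G → ℂ) - (a' : G → ℂ) := by
    funext g
    have := hanti g
    rw [he, Pi.sub_apply, map_sub] at this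
    simp only [Pi.sub_apply, a', b', Cfsg.conjFun]
    linear_combination this
  have h2 : b' = a := by
    by_contra hne
    have := congrArg (fun f => Cfsg.classInner f (a : G → ℂ)) h1
    simp only [classInner_sub_left, classInner_irr, if_pos rfl, if_neg (Ne.symm hab), if_neg hne] at this
    split_ifs at this <;> norm_num at this
  refine ⟨a, a.2, ?_⟩
  rw [he]
  funext g
  simp [← h2, b', Cfsg.conjFun]

end Cfsg.Agent.S1518
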