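import Cfsg.Statements.S1519
import Cfsg.Agent.Lib.OddChar.CohGrow

set_option autoImplicit false
open Cfsg

namespace Cfsg.Agent.S1519

open Cfsg.Agent.Lib.Characters Cfsg.Agent.Lib.OddChar

/-- Let K be a solvable normal subgroup of the finite group L and (S, τ, R) a coherence system from L to G where S is the set of functions induced from non-principal irreducible characters of K; write S(A) for those induced from characters whose kernel contains A. Let A, B, C, D be normal subgroups of L with A < K, B < K, B ≤ D ≤ C ≤ K and every commutator of D with C in B. If S(A) is coherent and 4 * [L:C]^2 * [C:D] < ([K:A] − 1)^2, then S(B) is coherent. -/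
theorem result {L : Type*} [Group L] [Fintype L] {G : Type*} [Group G] [Fintype G] (K : Subgroup L) [hK : K.Normal] (hsolv : Group.IsSolvable K) (τ : (L → ℂ) → (G → ℂ)) (R : (L → ℂ) → Finset (G → ℂ)) (hS : Cfsg.IsCoherenceSystem (Cfsg.inducedIrrAbove K ⊥) τ R) (A B C D : Subgroup L) [A.Normal] [B.Normal] [C.Normal] [D.Normal] (hAK : A < K) (hBK : B < K) (hBD : B ≤ D) (hDC : D ≤ C) (hCK : C ≤ K) (hcent : ∀ x ∈ D, ∀ y ∈ C, x * y * x⁻¹ * y⁻¹ ∈ B) (hA : Cfsg.IsCoherent (Cfsg.inducedIrrAbove K A) {1}ᶜ τ) (hlt : 4 * C.index ^ 2 * D.relIndex C < (A.relIndex K - 1) ^ 2) : Cfsg.IsCoherent (Cfsg.inducedIrrAbove K B) {1}ᶜ τ := by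
  classical
  haveI := Fintype.ofFinite (IrrCharacter K)
  let TA := (aboveSet (K := K) A).image fun θ : IrrCharacter K => Cfsg.indFun K (θ : K → ℂ)
  let TB := (aboveSet (K := K) B).image fun θ : IrrCharacter K => Cfsg.indFun K (θ : K → ℂ)
  have hTA : (TA : Set (L → ℂ)) = Cfsg.inducedIrrAbove K A := coe_image_aboveSet A
  have hTB : (TB : Set (L → ℂ)) = Cfsg.inducedIrrAbove K B := coe_image_aboveSet B
  have hmemA : ∀ φ, φ ∈ TA ↔ φ ∈ Cfsg.inducedIrrAbove K A := fun φ => by rw [← hTA, Finset.mem_coe]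
  have hmemB : ∀ φ, φ ∈ TB ↔ φ ∈ Cfsg.inducedIrrAbove K B := fun φ => by rw [← hTB, Finset.mem_coe]
  obtain ⟨θ₁, hθ₁, hθ₁d⟩ := exists_linear_above hsolv A hAK.not_ge
  obtain ⟨θ₂, hθ₂, -⟩ := exists_linear_above hsolv B hBK.not_ge
  have hgrow : Cfsg.IsCoherent ((TA ∪ TB : Finset (L → ℂ)) : Set (L → ℂ)) {1}ᶜ τ := by
    refine coherent_grow hS (TA ∪ TB) ?_ ?_ TA Finset.subset_union_left ?_ (hTA.symm ▸ hA)
      _ (Finset.mem_image_of_mem _ hθ₁) K.index ?_ ?_
    · rw [Finset.coe_union, hTA, hTB]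
      exact Set.union_subset (inducedIrrAbove_subset_bot A) (inducedIrrAbove_subset_bot B)
    · intro φ hφ
      rcases Finset.mem_union.mp hφ with h | h
      · exact Finset.mem_union_left _ ((hmemA _).mpr (conjFun_mem_inducedIrrAbove ((hmemA _).mp h)))
      · exact Finset.mem_union_right _ ((hmemB _).mpr (conjFun_mem_inducedIrrAbove ((hmemB _).mp h)))
    · exact fun φ h => (hmemA _).mpr (conjFun_mem_inducedIrrAbove ((hmemA _).mp h))
    · rw [indFun_degree, hθ₁d, mul_one]
    intro φ hφ hφA X h0 _ _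
    have hφB : φ ∈ TB := (Finset.mem_union.mp hφ).resolve_left hφA
    obtain ⟨θ, hθ, rfl⟩ := Finset.mem_image.mp hφB
    refine ⟨degNat θ, by rw [indFun_degree, mul_comm], ?_⟩
    refine lt_of_lt_of_le ?_ (Finset.sum_le_sum_of_subset_of_nonneg h0 fun ψ _ _ => wt_nonneg ψ)
    rw [sum_wt_above, indFun_degree, Complex.natCast_re, Nat.cast_mul]
    have h1 := degSq_le θ B C D hBD hDC hCK (mem_aboveSet.mp hθ).2 hcent
    have hidx : C.index = C.relIndex K * K.index := (Subgroup.relIndex_mul_index hCK).symm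
    have hrel : 1 ≤ A.relIndex K := Nat.one_le_iff_ne_zero.mpr Subgroup.index_ne_zero_of_finite
    have h2 : (2 * (K.index * degNat θ)) ^ 2 < (A.relIndex K - 1) ^ 2 := by
      refine lt_of_le_of_lt ?_ hlt
      calc (2 * (K.index * degNat θ)) ^ 2 = 4 * K.index ^ 2 * degNat θ ^ 2 := by ring
        _ ≤ 4 * K.index ^ 2 * (C.relIndex K ^ 2 * D.relIndex C) := Nat.mul_le_mul le_rfl h1
        _ = 4 * C.index ^ 2 * D.relIndex C := by rw [hidx]; ring
    have h3 := lt_of_pow_lt_pow_left₀ 2 (Nat.zero_le _) h2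
    have h4 : ((2 * (K.index * degNat θ) : ℕ) : ℝ) < ((A.relIndex K - 1 : ℕ) : ℝ) := by exact_mod_cast h3
    rw [Nat.cast_sub hrel] at h4
    push_cast at h4
    have hpos : (0 : ℝ) < K.index := by exact_mod_cast Nat.pos_of_ne_zero Subgroup.index_ne_zero_of_finite
    have := mul_lt_mul_of_pos_left h4 hpos
    linarith
  have hBmem := (hmemB _).mp (Finset.mem_image_of_mem _ hθ₂)
  refine coherent_mono (U := ((TA ∪ TB : Finset (L → ℂ)) : Set (L → ℂ))) ?_ hgrow
    (exists_ne_zero_of_mem hS (inducedIrrAbove_subset_bot B) hBmem (conjFun_mem_inducedIrrAbove hBmem))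
  rw [Finset.coe_union, hTB]
  exact Set.subset_union_right

end Cfsg.Agent.S1519
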