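import Cfsg.Statements.S1520
import Cfsg.Agent.Lib.OddChar.IndSys
import Cfsg.Agent.S1519
import Mathlib.GroupTheory.Nilpotent

set_option autoImplicit false
open Cfsg

namespace Cfsg.Agent.S1520

open Cfsg.Agent.Lib.Characters Cfsg.Agent.Lib.OddChar

/-- A nontrivial subgroup of a nilpotent group is not its own commutator with the group. -/
theorem eq_bot_of_le_commutator {Q : Type*} [Group Q] [hQ : Group.IsNilpotent Q] (A : Subgroup Q)
    (h : A ≤ ⁅A, (⊤ : Subgroup Q)⁆) : A = ⊥ := by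
  obtain ⟨n, hn⟩ := Subgroup.nilpotent_iff_lowerCentralSeries.mp hQ
  rw [eq_bot_iff, ← hn]
  clear hn
  induction n with
  | zero => exact le_top
  | succ n ih => exact h.trans (Subgroup.commutator_mono ih le_rfl)

/-- Normal subgroups maximal below another one give central sections of a nilpotent quotient. -/
theorem commutator_le_of_maximal {L : Type*} [Group L] (M B A H : Subgroup L) [B.Normal] [A.Normal]
    [H.Normal] [(M.subgroupOf H).Normal] (hnil : Group.IsNilpotent (↥H ⧸ M.subgroupOf H))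
    (hMB : M ≤ B) (hBA : B < A) (hAH : A ≤ H)
    (hmax : ∀ B' : Subgroup L, B'.Normal → B ≤ B' → B' < A → B' ≤ B) : ⁅A, H⁆ ≤ B := by
  set B' := B ⊔ ⁅A, H⁆ with hB'
  have hle : B' ≤ A := sup_le hBA.le (Subgroup.commutator_le_left A H)
  by_contra hnot
  have heq : B' = A := by
    by_contra hne
    exact hnot (le_sup_right.trans (hmax B' inferInstance le_sup_left (lt_of_le_of_ne hle hne)))
  haveI : (B.subgroupOf H).Normal := Subgroup.normal_subgroupOf
  let q := QuotientGroup.mk' (B.subgroupOf H)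
  haveI := hnil
  haveI : Group.IsNilpotent (↥H ⧸ B.subgroupOf H) :=
    Group.nilpotent_of_surjective (QuotientGroup.map (M.subgroupOf H) (B.subgroupOf H) (MonoidHom.id H)
      (fun x hx => hMB hx)) (fun y => by
        obtain ⟨x, rfl⟩ := QuotientGroup.mk_surjective y
        exact ⟨QuotientGroup.mk x, rfl⟩)
  have hbot := eq_bot_of_le_commutator ((A.subgroupOf H).map q) ?_
  · apply hBA.not_ge
    intro a ha
    have : q ⟨a, hAH ha⟩ ∈ (A.subgroupOf H).map q := Subgroup.mem_map_of_mem q ha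
    rw [hbot, Subgroup.mem_bot] at this
    exact (QuotientGroup.eq_one_iff (⟨a, hAH ha⟩ : H)).mp this
  rw [← Subgroup.map_top_of_surjective q (QuotientGroup.mk'_surjective _), ← Subgroup.map_commutator]
  rintro _ ⟨a, ha, rfl⟩
  have ha' : (a : L) ∈ B ⊔ ⁅A, H⁆ := by rw [← hB', heq]; exact ha
  obtain ⟨b, hb, c, hc, hbc⟩ := Subgroup.mem_sup_of_normal_left.mp ha'
  have hc' : c ∈ (⁅A.subgroupOf H, (⊤ : Subgroup H)⁆).map H.subtype := by
    rw [Subgroup.map_commutator, Subgroup.map_subgroupOf_eq_of_le hAH, ← MonoidHom.range_eq_map,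
      Subgroup.range_subtype]
    exact hc
  obtain ⟨c', hc', rfl⟩ := hc'
  refine ⟨c', hc', ?_⟩
  refine (QuotientGroup.eq (s := B.subgroupOf H)).mpr ?_
  rw [Subgroup.mem_subgroupOf]
  have : ((c'⁻¹ * a : H) : L) = (c' : L)⁻¹ * b * (c' : L) := by
    simp [← hbc, mul_assoc]
  rw [this]
  simpa using (inferInstance : B.Normal).conj_mem b hb (c' : L)⁻¹

/-- Let K be a solvable normal subgroup of the finite group L and (S, τ, R) a coherence system from L to G with S the functions induced from non-principal irreducible characters of K; S(A) the members of S induced from characters whose kernel contains A. Let M ≤ H₁ ≤ H ≤ K be normal subgroups of L such that every term of the lower central series of H eventually lies in M (H/M nilpotent), S(H₁) is coherent and [H:H₁] > 4 * [L:K]^2 + 1. Then S(M) is coherent. -/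
theorem result {L : Type*} [Group L] [Fintype L] {G : Type*} [Group G] [Fintype G] (K : Subgroup L) [hK : K.Normal] (hsolv : Group.IsSolvable K) (τ : (L → ℂ) → (G → ℂ)) (R : (L → ℂ) → Finset (G → ℂ)) (hS : Cfsg.IsCoherenceSystem (Cfsg.inducedIrrAbove K ⊥) τ R) (M H₁ H : Subgroup L) [M.Normal] [H₁.Normal] [H.Normal] (hMH₁ : M ≤ H₁) (hH₁H : H₁ ≤ H) (hHK : H ≤ K) [(M.subgroupOf H).Normal] (hnil : Group.IsNilpotent (↥H ⧸ M.subgroupOf H)) (hcoh : Cfsg.IsCoherent (Cfsg.inducedIrrAbove K H₁) {1}ᶜ τ) (hbig : 4 * K.index ^ 2 + 1 < H₁.relIndex H) : Cfsg.IsCoherent (Cfsg.inducedIrrAbove K M) {1}ᶜ τ := by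
  classical
  suffices h : ∀ (n : ℕ) (A : Subgroup L), Nat.card A = n → A.Normal → M ≤ A → A ≤ H₁ →
      Cfsg.IsCoherent (Cfsg.inducedIrrAbove K A) {1}ᶜ τ → Cfsg.IsCoherent (Cfsg.inducedIrrAbove K M) {1}ᶜ τ from
    h _ H₁ rfl inferInstance hMH₁ le_rfl hcoh
  intro n
  induction n using Nat.strong_induction_on with
  | _ n ih =>
  intro A hn hA hMA hAH₁ hAcoh
  rcases eq_or_lt_of_le hMA with rfl | hlt
  · exact hAcoh
  obtain ⟨B, ⟨hBn, hMB, hBA⟩, hBmax⟩ := Set.Finite.exists_maximal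
    (s := {B : Subgroup L | B.Normal ∧ M ≤ B ∧ B < A}) (Set.toFinite _) ⟨M, inferInstance, le_rfl, hlt⟩
  have hAH : A ≤ H := hAH₁.trans hH₁H
  have hcomm : ⁅A, H⁆ ≤ B := commutator_le_of_maximal M B A H hnil hMB hBA hAH fun B' h1 h2 h3 =>
    hBmax ⟨h1, hMB.trans h2, h3⟩ h2
  have hx : 4 * K.index ^ 2 + 1 < A.relIndex H := by
    refine lt_of_lt_of_le hbig (Nat.le_of_dvd ?_ (Subgroup.relIndex_dvd_of_le_left H hAH₁))
    exact Nat.pos_of_ne_zero Subgroup.index_ne_zero_of_finite
  have hAK : A < K := lt_of_lt_of_le (lt_of_le_of_ne hAH fun e => by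
    rw [e, Subgroup.relIndex_self] at hx; omega) hHK
  refine ih (Nat.card B) (hn ▸ ?_) B rfl hBn hMB (hBA.le.trans hAH₁) ?_
  · exact Set.ncard_lt_ncard (SetLike.coe_ssubset_coe.mpr hBA) (Set.toFinite _)
  refine Cfsg.Agent.S1519.result K hsolv τ R hS A B H A hAK (hBA.trans hAK) hBA.le hAH hHK
    (fun x hx y hy => hcomm (Subgroup.commutator_mem_commutator hx hy)) hAcoh ?_
  have hk : 1 ≤ H.relIndex K := Nat.one_le_iff_ne_zero.mpr Subgroup.index_ne_zero_of_finite
  rw [← Subgroup.relIndex_mul_relIndex A H K hAH hHK, ← Subgroup.relIndex_mul_index hHK]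
  generalize hxdef : A.relIndex H = x at hx
  generalize H.relIndex K = k at hk
  obtain ⟨y, rfl⟩ : ∃ y, x = y + 2 := ⟨x - 2, by omega⟩
  have h1 : 4 * K.index ^ 2 ≤ y := by omega
  obtain ⟨z, hz⟩ : ∃ z, (y + 2) * k = z + 1 := ⟨(y + 2) * k - 1, by have : 1 ≤ (y+2)*k := by nlinarith
                                                                    omega⟩
  rw [hz, Nat.add_sub_cancel]
  have h2 : k * (y + 1) ≤ z := by nlinarith
  calc 4 * (k * K.index) ^ 2 * (y + 2) = k ^ 2 * (4 * K.index ^ 2 * (y + 2)) := by ring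
    _ ≤ k ^ 2 * (y * (y + 2)) := by gcongr
    _ < k ^ 2 * ((y + 1) * (y + 1)) := by
        refine Nat.mul_lt_mul_of_pos_left ?_ (by positivity)
        nlinarith
    _ = (k * (y + 1)) ^ 2 := by ring
    _ ≤ z ^ 2 := by gcongr

end Cfsg.Agent.S1520
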