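import Cfsg.Statements.S1521
import Cfsg.Agent.Lib.OddChar.FrobKernel
import Cfsg.Agent.S1520

set_option autoImplicit false
open Cfsg

namespace Cfsg.Agent.S1521

open Cfsg.Agent.Lib.Characters Cfsg.Agent.Lib.OddChar

/-- Let K be a solvable normal subgroup of the finite group L of odd order and (S, τ, R) a coherence system from L to G with S the functions induced from non-principal irreducible characters of K; S(A) as before. Let M ≤ K be normal in L with K/M nilpotent, H₁ = [K, K] ⊔ M, H₁ < K < L, and suppose every element of K outside H₁ is centralised modulo H₁ only from inside K (L/H₁ is a Frobenius group with kernel K/H₁). Suppose one of the following: some normal subgroup of L lies strictly between H₁ and K; or [K:H₁] > 4[L:K]^2 + 1; or [K:M] is not a prime power; or [K,K] ≤ M; or [K:M] is a power of a prime p with [L:K] dividing p − 1. Then S(M) is coherent. -/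
theorem result {L : Type*} [Group L] [Fintype L] {G : Type*} [Group G] [Fintype G] (K : Subgroup L) [hK : K.Normal] (hsolv : Group.IsSolvable K) (τ : (L → ℂ) → (G → ℂ)) (R : (L → ℂ) → Finset (G → ℂ)) (hS : Cfsg.IsCoherenceSystem (Cfsg.inducedIrrAbove K ⊥) τ R) (hodd : Odd (Nat.card L)) (M : Subgroup L) [M.Normal] (hMK : M ≤ K) [(M.subgroupOf K).Normal] (hnil : Group.IsNilpotent (↥K ⧸ M.subgroupOf K)) (H₁ : Subgroup L) (hH₁ : H₁ = ⁅K, K⁆ ⊔ M) (hH₁K : H₁ < K) (hKL : K < ⊤) (hfrob : ∀ k ∈ K, k ∉ H₁ → ∀ x : L, x * k * x⁻¹ * k⁻¹ ∈ H₁ → x ∈ K) (hgood : (∃ N : Subgroup L, N.Normal ∧ H₁ < N ∧ N < K) ∨ 4 * K.index ^ 2 + 1 < H₁.relIndex K ∨ (¬ ∃ p m : ℕ, p.Prime ∧ M.relIndex K = p ^ m) ∨ ⁅K, K⁆ ≤ M ∨ (∃ p m : ℕ, p.Prime ∧ M.relIndex K = p ^ m ∧ K.index ∣ p - 1)) : Cfsg.IsCoherent (Cfsg.inducedIrrAbove K M) {1}ᶜ τ := by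
  classical
  haveI hH₁n : H₁.Normal := hH₁ ▸ inferInstance
  have hab : ∀ a ∈ K, ∀ b ∈ K, a * b * a⁻¹ * b⁻¹ ∈ H₁ := fun a ha b hb =>
    hH₁ ▸ Subgroup.mem_sup_left (Subgroup.commutator_mem_commutator ha hb)
  have hMH₁ : M ≤ H₁ := hH₁ ▸ le_sup_right
  have hcoh1 := coherent_linear K hsolv hS H₁ hH₁K.not_ge hab
  have hbigcase : 4 * K.index ^ 2 + 1 < H₁.relIndex K →
      Cfsg.IsCoherent (Cfsg.inducedIrrAbove K M) {1}ᶜ τ := fun h =>
    Cfsg.Agent.S1520.result K hsolv τ R hS M H₁ K hMH₁ hH₁K.le le_rfl hnil hcoh1 h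
  have hmid : (∃ N : Subgroup L, N.Normal ∧ H₁ < N ∧ N < K) →
      Cfsg.IsCoherent (Cfsg.inducedIrrAbove K M) {1}ᶜ τ := by
    rintro ⟨N, hN, h1, h2⟩
    refine hbigcase ?_
    have ha := two_mul_index_lt_relIndex K H₁ N hodd h1 h2.le hab hfrob
    have hb : 2 * K.index < N.relIndex K := by
      obtain ⟨t, ht⟩ := index_dvd_relIndex_sub_one K H₁ K hH₁K.le le_rfl hab hfrob
      obtain ⟨r, hr⟩ := index_dvd_relIndex_sub_one K H₁ N h1.le h2.le hab hfrob
      rw [← Subgroup.relIndex_mul_relIndex H₁ N K h1.le h2.le] at ht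
      obtain ⟨w, hw⟩ : ∃ w, H₁.relIndex N = K.index * r + 1 := ⟨0, by
        have : H₁.relIndex N ≠ 0 := Subgroup.index_ne_zero_of_finite
        omega⟩
      have hne : N.relIndex K ≠ 1 := fun h => h2.not_ge (Subgroup.relIndex_eq_one.mp h)
      have h0 : N.relIndex K ≠ 0 := Subgroup.index_ne_zero_of_finite
      obtain ⟨v, hv⟩ := Odd.of_dvd_nat hodd ((Subgroup.relIndex_dvd_index_of_le h2.le).trans N.index_dvd_card)
      obtain ⟨u, hu⟩ := Odd.of_dvd_nat hodd K.index_dvd_card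
      have hdiv : K.index ∣ N.relIndex K - 1 := by
        rw [hw, show (K.index * r + 1) * N.relIndex K - 1 = K.index * r * N.relIndex K + (N.relIndex K - 1) by
          rw [add_mul, one_mul]; omega] at ht
        exact (Nat.dvd_add_right (Dvd.dvd.mul_right (dvd_mul_right _ _) _)).mp ⟨t, ht⟩
      obtain ⟨q, hq⟩ := hdiv
      rcases q with _ | _ | q
      · omega
      · omega
      · nlinarith [show N.relIndex K = K.index * (q + 1 + 1) + 1 by omega]
    rw [← Subgroup.relIndex_mul_relIndex H₁ N K h1.le h2.le]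
    calc 4 * K.index ^ 2 + 1 < (2 * K.index + 1) * (2 * K.index + 1) := by
          have : 0 < K.index := Nat.pos_of_ne_zero Subgroup.index_ne_zero_of_finite
          nlinarith
      _ ≤ H₁.relIndex N * N.relIndex K := Nat.mul_le_mul ha hb
  rcases hgood with hN | hb | hnp | hM | ⟨p, m, hp, hpm, he⟩
  · exact hmid hN
  · exact hbigcase hb
  · refine hmid ?_
    set c := H₁.relIndex K with hc
    have hc1 : c ≠ 1 := fun h => hH₁K.not_ge (Subgroup.relIndex_eq_one.mp h)
    obtain ⟨p, hp, hpc⟩ := Nat.exists_prime_and_dvd hc1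
    haveI := Fact.mk hp
    set Q := ↥K ⧸ H₁.subgroupOf K with hQ
    have hcomm : ∀ a b : Q, a * b = b * a := by
      intro a b
      obtain ⟨a, rfl⟩ := QuotientGroup.mk'_surjective (H₁.subgroupOf K) a
      obtain ⟨b, rfl⟩ := QuotientGroup.mk'_surjective (H₁.subgroupOf K) b
      rw [← map_mul, ← map_mul]
      refine QuotientGroup.eq.mpr ?_
      rw [Subgroup.mem_subgroupOf]
      have := hab _ (inv_mem b.2) _ (inv_mem a.2)
      simpa [mul_assoc] using this
    have hpow : ∀ k : K, ((k : L) ^ p ∈ H₁) ↔ (QuotientGroup.mk' (H₁.subgroupOf K) k) ^ p = 1 := fun k => by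
      rw [← map_pow]
      exact ((QuotientGroup.eq_one_iff _).trans (by rw [Subgroup.mem_subgroupOf, SubgroupClass.coe_pow])).symm
    let N : Subgroup L :=
      { carrier := {x | x ∈ K ∧ x ^ p ∈ H₁}
        one_mem' := ⟨K.one_mem, by rw [one_pow]; exact H₁.one_mem⟩
        mul_mem' := fun {a b} ha hb => by
          refine ⟨K.mul_mem ha.1 hb.1, ?_⟩
          refine (hpow ⟨a * b, K.mul_mem ha.1 hb.1⟩).mpr ?_
          rw [show (⟨a * b, K.mul_mem ha.1 hb.1⟩ : K) = ⟨a, ha.1⟩ * ⟨b, hb.1⟩ from rfl, map_mul,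
            Commute.mul_pow (hcomm _ _), (hpow ⟨a, ha.1⟩).mp ha.2, (hpow ⟨b, hb.1⟩).mp hb.2, one_mul]
        inv_mem' := fun {a} ha => ⟨K.inv_mem ha.1, by rw [inv_pow]; exact H₁.inv_mem ha.2⟩ }
    refine ⟨N, ⟨fun x hx g => ⟨hK.conj_mem x hx.1 g, by rw [conj_pow]; exact hH₁n.conj_mem _ hx.2 g⟩⟩, ?_, ?_⟩
    · refine lt_of_le_of_ne (fun x hx => ⟨hH₁K.le hx, H₁.pow_mem hx p⟩) fun heq => ?_
      obtain ⟨y, hy⟩ := exists_prime_orderOf_dvd_card' (G := Q) p (by rw [← Subgroup.index_eq_card]; exact hpc)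
      obtain ⟨k, rfl⟩ := QuotientGroup.mk'_surjective (H₁.subgroupOf K) y
      have hkN : (k : L) ∈ N := ⟨k.2, (hpow k).mpr (hy ▸ pow_orderOf_eq_one _)⟩
      rw [← heq] at hkN
      rw [show QuotientGroup.mk' (H₁.subgroupOf K) k = 1 from
        (QuotientGroup.eq_one_iff k).mpr (Subgroup.mem_subgroupOf.mpr hkN), orderOf_one] at hy
      exact hp.ne_one hy.symm
    · refine lt_of_le_of_ne (fun x hx => hx.1) fun heq => hnp ?_
      have hQp : IsPGroup p Q := fun y => by
        obtain ⟨k, rfl⟩ := QuotientGroup.mk'_surjective (H₁.subgroupOf K) y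
        exact ⟨1, by rw [pow_one]; exact (hpow k).mp (show (k : L) ∈ N by rw [heq]; exact k.2).2⟩
      obtain ⟨m, hm⟩ := IsPGroup.iff_card.mp hQp
      set q := QuotientGroup.mk' (M.subgroupOf K) with hq
      have hqs := QuotientGroup.mk'_surjective (M.subgroupOf K)
      have hker : (commutator (↥K ⧸ M.subgroupOf K)).comap q = H₁.subgroupOf K := by
        rw [commutator_def, ← Subgroup.map_top_of_surjective q hqs, ← Subgroup.map_commutator,
          Subgroup.comap_map_eq, QuotientGroup.ker_mk', ← commutator_def]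
        refine (Subgroup.map_injective K.subtype_injective ?_)
        rw [Subgroup.map_sup, Subgroup.map_subtype_commutator, Subgroup.map_subgroupOf_eq_of_le hMK,
          Subgroup.map_subgroupOf_eq_of_le hH₁K.le, hH₁]
      have hidx : (commutator (↥K ⧸ M.subgroupOf K)).index = p ^ m := by
        rw [← Subgroup.index_comap_of_surjective _ hqs, hker, Subgroup.index_eq_card]
        exact hm
      obtain ⟨r, hr⟩ := IsPGroup.iff_card.mp (isPGroup_of_abelianization hnil hidx)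
      exact ⟨p, r, hp, by rw [Subgroup.relIndex, Subgroup.index_eq_card]; exact hr⟩
  · rwa [show H₁ = M by rw [hH₁]; exact sup_eq_right.mpr hM] at hcoh1
  · exact coherent_prime_power K hsolv hodd hS M (lt_of_le_of_lt hMH₁ hH₁K) (hH₁ ▸ hH₁K.not_ge) hp hpm he

end Cfsg.Agent.S1521
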