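import Cfsg.Statements.S1522
import Cfsg.Agent.Lib.OddChar.CentralCoherence
import Cfsg.Agent.S1521

set_option autoImplicit false
open Cfsg

namespace Cfsg.Agent.S1522

open Cfsg.Agent.Lib.Characters Cfsg.Agent.Lib.OddChar

/-- Let K be a nilpotent normal subgroup of the finite group L of odd order with [K,K] < K < L and L/[K,K] a Frobenius group with kernel K/[K,K] (elements of K outside [K,K] are centralised modulo [K,K] only from inside K); let (S, τ, R) be a coherence system from L to G with S the functions induced from non-principal irreducible characters of K. Let Z be a nontrivial normal subgroup of L contained in the centre of K, and suppose every member of S outside S(Z) is an irreducible character of L. Then S minus S(Z) is the set of irreducible characters χ of L with χ z ≠ χ 1 for some z ∈ Z, and it is coherent. -/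
theorem result {L : Type*} [Group L] [Fintype L] {G : Type*} [Group G] [Fintype G] (K : Subgroup L) [hK : K.Normal] (hsolv : Group.IsSolvable K) (τ : (L → ℂ) → (G → ℂ)) (R : (L → ℂ) → Finset (G → ℂ)) (hS : Cfsg.IsCoherenceSystem (Cfsg.inducedIrrAbove K ⊥) τ R) (hodd : Odd (Nat.card L)) (hnil : Group.IsNilpotent K) (hH₁K : ⁅K, K⁆ < K) (hKL : K < ⊤) (hfrob : ∀ k ∈ K, k ∉ ⁅K, K⁆ → ∀ x : L, x * k * x⁻¹ * k⁻¹ ∈ ⁅K, K⁆ → x ∈ K) (Z : Subgroup L) [Z.Normal] (hZ1 : Z ≠ ⊥) (hZK : Z ≤ K) (hZc : ∀ z ∈ Z, ∀ k ∈ K, z * k = k * z) (hirr : ∀ χ ∈ Cfsg.inducedIrrAbove K ⊥ \ Cfsg.inducedIrrAbove K Z, Cfsg.IsIrrCharacter L χ) : Cfsg.inducedIrrAbove K ⊥ \ Cfsg.inducedIrrAbove K Z = {χ | Cfsg.IsIrrCharacter L χ ∧ ∃ z ∈ Z, χ z ≠ χ 1} ∧ Cfsg.IsCoherent (Cfsg.inducedIrrAbove K ⊥ \ Cfsg.inducedIrrAbove K Z) {1}ᶜ τ := by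
  classical
  haveI := Fintype.ofFinite (IrrCharacter K)
  set S := Cfsg.inducedIrrAbove K ⊥ with hSdef
  set SZ := Cfsg.inducedIrrAbove K Z with hSZ
  have hoff : ∀ θ : IrrCharacter K, ¬ Above Z (θ : K → ℂ) →
      Cfsg.indFun K (θ : K → ℂ) ∈ S \ SZ := by
    intro θ hθ
    refine ⟨(indFun_mem_iff θ).mpr ⟨fun h => hθ ?_, fun a ha => ?_⟩, fun h => hθ ((indFun_mem_iff θ).mp h).2⟩
    · subst h; exact fun a _ => rfl
    · rw [show a = 1 from Subtype.ext (Subgroup.mem_bot.mp ha)]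
  have hirr' : ∀ θ : IrrCharacter K, ¬ Above Z (θ : K → ℂ) →
      Cfsg.IsIrrCharacter L (Cfsg.indFun K (θ : K → ℂ)) := fun θ hθ => hirr _ (hoff θ hθ)
  have heq : S \ SZ = (offSet K Z : Set (L → ℂ)) := by
    ext φ
    simp only [offSet, Finset.coe_image, Set.mem_image, Finset.mem_coe, Finset.mem_filter, Finset.mem_univ,
      true_and]
    constructor
    · rintro ⟨h1, h2⟩
      obtain ⟨θ, hne, -, rfl⟩ := mem_inducedIrrAbove.mp h1
      exact ⟨θ, fun hA => h2 ((indFun_mem_iff θ).mpr ⟨hne, hA⟩), rfl⟩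
    · rintro ⟨θ, hθ, rfl⟩
      exact hoff θ hθ
  have hset := heq.trans (coe_offSet hZK hirr')
  refine ⟨hset, ?_⟩
  have hnezero : ∃ α ∈ Cfsg.zspanOn (S \ SZ) {1}ᶜ, α ≠ 0 := by
    obtain ⟨z, hz, hz1⟩ : ∃ z ∈ Z, z ≠ (1 : L) := by
      by_contra h
      push Not at h
      exact hZ1 ((Subgroup.eq_bot_iff_forall _).mpr h)
    obtain ⟨θz, hne⟩ := exists_irr_ne_apply_one (G := K) (g := ⟨z, hZK hz⟩) fun h => hz1 (congrArg Subtype.val h)
    have hmem := hoff θz fun hA => hne (hA _ hz)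
    refine exists_ne_zero_of_mem hS Set.sdiff_subset hmem ⟨hS.conj_mem _ hmem.1, fun h => hmem.2 ?_⟩
    simpa [conjFun_conjFun] using conjFun_mem_inducedIrrAbove (A := Z) h
  haveI hbn : ((⊥ : Subgroup L).subgroupOf K).Normal := inferInstance
  haveI := hnil
  have hq : Group.IsNilpotent (↥K ⧸ (⊥ : Subgroup L).subgroupOf K) :=
    Group.nilpotent_of_surjective _ (QuotientGroup.mk'_surjective ((⊥ : Subgroup L).subgroupOf K))
  by_cases hpp : ∃ p m : ℕ, p.Prime ∧ (⊥ : Subgroup L).relIndex K = p ^ m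
  · obtain ⟨p, m, hp, hpm⟩ := hpp
    rw [Subgroup.relIndex_bot_left] at hpm
    have hcop : Nat.Coprime K.index p := by
      haveI : (⁅K, K⁆ : Subgroup L).Normal := inferInstance
      have hd := index_dvd_relIndex_sub_one K ⁅K, K⁆ K hH₁K.le le_rfl
        (fun a ha b hb => Subgroup.commutator_mem_commutator ha hb) hfrob
      have hne : (⁅K, K⁆ : Subgroup L).relIndex K ≠ 1 := fun h => hH₁K.not_ge (Subgroup.relIndex_eq_one.mp h)
      have h0 : (⁅K, K⁆ : Subgroup L).relIndex K ≠ 0 := Subgroup.index_ne_zero_of_finite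
      obtain ⟨c, -, hc⟩ := (Nat.dvd_prime_pow hp).mp (hpm ▸ Subgroup.relIndex_dvd_card (⁅K, K⁆ : Subgroup L) K)
      refine (hp.coprime_iff_not_dvd.mpr fun hpe => ?_).symm
      have h1 : p ∣ (⁅K, K⁆ : Subgroup L).relIndex K := by
        rw [hc] at hne ⊢
        exact dvd_pow_self p fun h => hne (by rw [h, pow_zero])
      have h2 := (Nat.dvd_sub h1 (hpe.trans hd))
      rw [Nat.sub_sub_self (Nat.one_le_iff_ne_zero.mpr h0)] at h2
      exact hp.ne_one (Nat.dvd_one.mp h2)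
    rw [heq]
    have hsub : Cfsg.zspanOn (offSet K Z : Set (L → ℂ)) {1}ᶜ ⊆ Cfsg.zspanOn S {1}ᶜ :=
      zspanOn_mono (heq ▸ Set.sdiff_subset)
    exact coherent_offSet hodd hp hpm hcop hZK hZ1 hZc hirr' τ (isometryOn_mono hsub hS.isometry)
      fun α hα => hS.map_one α (hsub hα)
  · exact coherent_mono Set.sdiff_subset (Cfsg.Agent.S1521.result K hsolv τ R hS hodd ⊥ bot_le hq ⁅K, K⁆
      (sup_bot_eq _).symm hH₁K hKL hfrob (Or.inr (Or.inr (Or.inl hpp)))) hnezero

end Cfsg.Agent.S1522
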