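import Cfsg.Statements.S1524
import Cfsg.Agent.S1534
import Cfsg.Agent.Lib.OddChar.SibleyCases

set_option autoImplicit false
open Cfsg

namespace Cfsg.Agent.S1524

open Cfsg.Agent.Lib.Characters Cfsg.Agent.Lib.OddChar

/-- Centralizers of kernel elements lie in the kernel. -/
theorem centralizer_le_kernel {G : Type*} [Group G] [Finite G] (H L W₁ : Subgroup G) (hHL : H ≤ L)
    (hW₁L : W₁ ≤ L) (hHn : ∀ x ∈ L, ∀ h ∈ H, x * h * x⁻¹ ∈ H) (hsup : H ⊔ W₁ = L)
    (hfpf : ∀ w ∈ W₁, w ≠ 1 → ∀ h ∈ H, w * h = h * w → h = 1)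
    (hTI : Cfsg.IsTISubset (H : Set G)) (hN : Subgroup.normalizer (H : Set G) = L) :
    ∀ k ∈ H, k ≠ 1 → Subgroup.centralizer ({k} : Set G) ≤ H := by
  intro k hk hk1 g hg
  have hgk := Subgroup.mem_centralizer_singleton_iff.mp hg
  have hgL : g ∈ L := by
    rw [← hN]
    by_contra hn
    exact hk1 (hTI g hn k hk (by rw [hgk, mul_inv_cancel_right]; exact hk))
  have hle : W₁ ≤ Subgroup.normalizer (H : Set G) := hN ▸ hW₁L
  rw [← hsup, ← SetLike.mem_coe, Subgroup.coe_mul_of_right_le_normalizer_left H W₁ hle] at hgL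
  obtain ⟨a, ha, w, hw, rfl⟩ := Set.mem_mul.mp hgL
  by_cases hw1 : w = 1
  · rw [hw1, mul_one]; exact ha
  exfalso
  let f : H → H := fun n => ⟨(n : G) * (w * (n : G)⁻¹ * w⁻¹),
    H.mul_mem n.2 (hHn w (hW₁L hw) _ (H.inv_mem n.2))⟩
  have hinj : Function.Injective f := by
    intro n m h
    have h' : (n : G) * (w * (n : G)⁻¹ * w⁻¹) = (m : G) * (w * (m : G)⁻¹ * w⁻¹) := congrArg Subtype.val h
    have h'' : ((m : G)⁻¹ * n) = 1 := by
      refine hfpf w hw hw1 _ (H.mul_mem (H.inv_mem m.2) n.2) ?_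
      calc w * ((m : G)⁻¹ * n) = (m : G)⁻¹ * ((m : G) * (w * (m : G)⁻¹ * w⁻¹)) * (w * n) := by group
        _ = (m : G)⁻¹ * n * w := by rw [← h']; group
    exact Subtype.ext (inv_mul_eq_one.mp h'').symm
  obtain ⟨n, hn⟩ := Finite.injective_iff_surjective.mp hinj ⟨a, ha⟩
  have hn' : (n : G) * (w * (n : G)⁻¹ * w⁻¹) = a := congrArg Subtype.val hn
  rw [← hn'] at hgk
  have hmem : (n : G)⁻¹ * k * n ∈ H := H.mul_mem (H.mul_mem (H.inv_mem n.2) hk) n.2
  have h1 := hfpf w hw hw1 _ hmem (by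
    calc w * ((n : G)⁻¹ * k * n) = (n : G)⁻¹ * ((n : G) * (w * (n : G)⁻¹ * w⁻¹) * w * k) * n := by group
      _ = (n : G)⁻¹ * k * n * w := by rw [hgk]; group)
  exact hk1 (by
    calc k = (n : G) * ((n : G)⁻¹ * k * n) * (n : G)⁻¹ := by group
      _ = 1 := by rw [h1]; group)

/-- Let G be a finite group and H ≤ L subgroups with L of odd order, H ≠ ⊥ nilpotent and normal in L with a nontrivial complement W₁ in L (H ⊓ W₁ = ⊥, H ⊔ W₁ = L) acting on H without non-identity fixed points (L is a Frobenius group with kernel H), and suppose the underlying set of H is a TI-subset of G whose normaliser is L. Let S be the set of functions on L induced from the non-principal irreducible characters of H. Then (S, L minus 1, induction to G) is coherent. -/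
theorem result {G : Type*} [Group G] [Fintype G] (H L W₁ : Subgroup G) [Fintype L] (hodd : Odd (Nat.card L)) (hHL : H ≤ L) (hW₁L : W₁ ≤ L) (hH1 : H ≠ ⊥) (hW1 : W₁ ≠ ⊥) (hnil : Group.IsNilpotent H) (hHn : ∀ x ∈ L, ∀ h ∈ H, x * h * x⁻¹ ∈ H) (hinf : H ⊓ W₁ = ⊥) (hsup : H ⊔ W₁ = L) (hfpf : ∀ w ∈ W₁, w ≠ 1 → ∀ h ∈ H, w * h = h * w → h = 1) (hTI : Cfsg.IsTISubset (H : Set G)) (hN : Subgroup.normalizer (H : Set G) = L) : Cfsg.IsCoherent (Cfsg.inducedIrrAbove (H.subgroupOf L) ⊥) {1}ᶜ (fun α : L → ℂ => Cfsg.indFun L α) := by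
  have hC := centralizer_le_kernel H L W₁ hHL hW₁L hHn hsup hfpf hTI hN
  subst hN
  haveI : (H.subgroupOf (Subgroup.normalizer (H : Set G))).Normal := Subgroup.normal_in_normalizer
  haveI := Fintype.ofFinite (H.subgroupOf (Subgroup.normalizer (H : Set G)))
  have hlt : H < Subgroup.normalizer (H : Set G) := by
    refine lt_of_le_of_ne hHL fun h => hW1 ?_
    have h' : W₁ ≤ H := by
      intro w hw
      rw [h]
      exact hW₁L hw
    rwa [inf_eq_right.mpr h'] at hinf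
  have hHodd : Odd (Nat.card H) := Odd.of_dvd_nat hodd (Subgroup.card_dvd_of_le hHL)
  rcases sibley_cases H _ rfl hH1 hTI hlt hC with h | ⟨h, -⟩ | h
  · exfalso
    obtain ⟨a, ha⟩ := hHodd
    obtain ⟨b, hb⟩ := Odd.of_dvd_nat hodd (H.subgroupOf (Subgroup.normalizer (H : Set G))).index_dvd_card
    omega
  · exfalso
    rcases Nat.eq_zero_or_pos ((Nat.card G).factorization 2) with h0 | h0
    · rw [h0, pow_zero] at h; exact hH1 (Subgroup.card_eq_one.mp h)
    · obtain ⟨a, ha⟩ := hHodd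
      obtain ⟨b, hb⟩ := h ▸ dvd_pow_self 2 h0.ne'
      omega
  · rwa [relSet_eq _ (frobTI_centralizer H hC)] at h

end Cfsg.Agent.S1524
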