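import Cfsg.Statements.S1525
import Cfsg.Agent.Lib.OddChar.Dade
import Mathlib.Algebra.Order.Chebyshev

set_option autoImplicit false
open Cfsg

namespace Cfsg.Agent.S1525

open Cfsg.Agent.Lib.OddChar

/-- Under the Dade hypothesis for (A, L, H), let χ be a class function of G and let ψ be a function on L whose value at each a ∈ A is the average of χ over the coset a·H(a). Then (1/|G|) Σ |χ g|² over the elements g of G conjugate into some coset a·H(a) with a ∈ A is at least (1/|L|) Σ_{a ∈ A ∩ L} |ψ a|². -/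
theorem result {G : Type*} [Group G] [Fintype G] (A : Set G) (L : Subgroup G) [Fintype L] (H : G → Subgroup G) (hD : Cfsg.DadeHypothesis A L H) (χ : G → ℂ) (hχ : Cfsg.IsClassFunction G χ) (ψ : L → ℂ) (hψ : ∀ a : L, (a : G) ∈ A → ψ a = (Nat.card (H a) : ℂ)⁻¹ * ∑ᶠ u ∈ (H a : Set G), χ (a * u)) : (Nat.card L : ℝ)⁻¹ * ∑ᶠ a ∈ {a : L | (a : G) ∈ A}, ‖ψ a‖ ^ 2 ≤ (Nat.card G : ℝ)⁻¹ * ∑ᶠ g ∈ {g : G | ∃ a ∈ A, ∃ u ∈ H a, ∃ x : G, x * g * x⁻¹ = a * u}, ‖χ g‖ ^ 2 := by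
  classical
  have hone : Cfsg.IsClassFunction L (fun _ => (1 : ℂ)) := fun _ _ => rfl
  have hF : Cfsg.IsClassFunction G (fun g => ((‖χ g‖ ^ 2 : ℝ) : ℂ)) := fun g k => by
    show ((‖χ (k * g * k⁻¹)‖ ^ 2 : ℝ) : ℂ) = _
    rw [hχ g k]
  have hid := dade_sum hD hone hF
  set D : Set G := {g : G | ∃ a ∈ A, ∃ u ∈ H a, ∃ x : G, x * g * x⁻¹ = a * u}
  have hd : ∀ g, Cfsg.dadeIsometry A L H (fun _ => (1 : ℂ)) g = if g ∈ D then 1 else 0 := by
    intro g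
    split_ifs with h
    · obtain ⟨a, ha, u, hu, x, he⟩ := h
      exact dade_apply hD hone (a := ⟨a, hD.subset ha⟩) ha hu he
    · refine dade_eq_zero hD ?_
      rintro ⟨a, ha, x, u, hu, he⟩
      exact h ⟨a, ha, u, hu, x, he⟩
  simp only [hd, ite_mul, one_mul, zero_mul] at hid
  set T := ∑ g : G, (if g ∈ D then ‖χ g‖ ^ 2 else 0) with hT
  set S := ∑ a : L, (if (a : G) ∈ A then
    (Nat.card (H (a : G)) : ℝ)⁻¹ * ∑ u : H (a : G), ‖χ ((a : G) * u)‖ ^ 2 else 0) with hS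
  have hTS : (Nat.card L : ℝ) * T = (Nat.card G : ℝ) * S := by
    have h1 : ((T : ℝ) : ℂ) = ∑ g : G, (if g ∈ D then ((‖χ g‖ ^ 2 : ℝ) : ℂ) else 0) := by
      rw [hT, Complex.ofReal_sum]
      exact Finset.sum_congr rfl fun g _ => by split_ifs <;> simp
    have h2 : ((S : ℝ) : ℂ) = ∑ a : L, (if (a : G) ∈ A then (Nat.card (H (a : G)) : ℂ)⁻¹ *
        ∑ u : H (a : G), ((‖χ ((a : G) * u)‖ ^ 2 : ℝ) : ℂ) else 0) := by
      rw [hS, Complex.ofReal_sum]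
      exact Finset.sum_congr rfl fun a _ => by split_ifs <;> simp
    rw [← h1, ← h2] at hid
    exact_mod_cast hid
  have hlhs : ∑ᶠ a ∈ {a : L | (a : G) ∈ A}, ‖ψ a‖ ^ 2 = ∑ a : L, (if (a : G) ∈ A then ‖ψ a‖ ^ 2 else 0) := by
    rw [finsum_mem_eq_toFinset_sum, ← Finset.sum_filter]
    exact Finset.sum_congr (by ext; simp) fun _ _ => rfl
  have hrhs : ∑ᶠ g ∈ D, ‖χ g‖ ^ 2 = T := by
    rw [finsum_mem_eq_toFinset_sum, hT, ← Finset.sum_filter]
    exact Finset.sum_congr (by ext; simp) fun _ _ => rfl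
  have hle : ∑ a : L, (if (a : G) ∈ A then ‖ψ a‖ ^ 2 else 0) ≤ S := by
    refine Finset.sum_le_sum fun a _ => ?_
    split_ifs with ha
    swap
    · exact le_rfl
    have hsum : ∑ᶠ u ∈ (H (a : G) : Set G), χ ((a : G) * u) = ∑ u : H (a : G), χ ((a : G) * u) := by
      rw [← finsum_set_coe_eq_finsum_mem, finsum_eq_sum_of_fintype]
      rfl
    rw [hψ a ha, hsum, norm_mul, norm_inv, Complex.norm_natCast]
    set c : ℝ := (Nat.card (H (a : G)) : ℝ)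
    have hc : 0 < c := by simp only [c]; exact_mod_cast Nat.card_pos
    have h1 := norm_sum_le Finset.univ fun u : H (a : G) => χ ((a : G) * u)
    have h2 := sq_sum_le_card_mul_sum_sq (s := Finset.univ) (f := fun u : H (a : G) => ‖χ ((a : G) * u)‖)
    rw [Finset.card_univ, ← Nat.card_eq_fintype_card] at h2
    calc (c⁻¹ * ‖∑ u : H (a : G), χ ((a : G) * u)‖) ^ 2
        = c⁻¹ * (c⁻¹ * ‖∑ u : H (a : G), χ ((a : G) * u)‖ ^ 2) := by ring
      _ ≤ c⁻¹ * (c⁻¹ * (c * ∑ u : H (a : G), ‖χ ((a : G) * u)‖ ^ 2)) := by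
          gcongr
          exact (pow_le_pow_left₀ (norm_nonneg _) h1 2).trans h2
      _ = _ := by rw [← mul_assoc c⁻¹ c, inv_mul_cancel₀ hc.ne', one_mul]
  rw [hlhs, hrhs]
  have hL : (0 : ℝ) < Nat.card L := by exact_mod_cast Nat.card_pos
  have hG : (0 : ℝ) < Nat.card G := by exact_mod_cast Nat.card_pos
  rw [inv_mul_eq_div, inv_mul_eq_div, div_le_div_iff₀ hL hG]
  nlinarith [hTS, mul_le_mul_of_nonneg_left hle hG.le]

end Cfsg.Agent.S1525
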