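import Mathlib
import Cfsg.Statements.S1526
import Cfsg.Agent.Lib.Characters.OddTICover
import Cfsg.Agent.Lib.Solvable.FrobeniusAux
import Cfsg.Agent.Lib.Solvable.Nilpotent

set_option autoImplicit false
open Cfsg

namespace Cfsg.Agent.S1526

/-- Let G be a finite group of odd order and (L i, H i), i in a finite index type with at least two elements, pairs of subgroups with H i a nontrivial proper normal subgroup of L i such that every non-identity element of H i has its centraliser within L i contained in H i (L i is a Frobenius group with kernel H i), the orders of the H i pairwise coprime, and the underlying set of each H i a TI-subset of G with normaliser L i. If every non-identity element of G is conjugate to an element of some H i, we reach a contradiction. -/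
theorem result {G : Type*} [Group G] [Finite G] (hodd : Odd (Nat.card G)) {ι : Type*} [Fintype ι] (hι : 2 ≤ Fintype.card ι) (L H : ι → Subgroup G) (hHL : ∀ i, H i < L i) (hH1 : ∀ i, H i ≠ ⊥) (hHn : ∀ i, ∀ x ∈ L i, ∀ h ∈ H i, x * h * x⁻¹ ∈ H i) (hfrob : ∀ i, ∀ h ∈ H i, h ≠ 1 → L i ⊓ Subgroup.centralizer ({h} : Set G) ≤ H i) (hcop : ∀ i j, i ≠ j → Nat.Coprime (Nat.card (H i)) (Nat.card (H j))) (hTI : ∀ i, Cfsg.IsTISubset (H i : Set G) ∧ Subgroup.normalizer (H i : Set G) = L i) (hcover : ∀ g : G, g ≠ 1 → ∃ i, ∃ x : G, x * g * x⁻¹ ∈ H i) : False := by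
  classical
  haveI := Fintype.ofFinite G
  have hnorm : ∀ i, ((H i).subgroupOf (L i)).Normal := fun i =>
    ⟨fun h hh x => hHn i x x.2 h (Subgroup.mem_subgroupOf.1 hh)⟩
  have hcent : ∀ i, ∀ k ∈ H i, k ≠ 1 → Subgroup.centralizer ({k} : Set G) ≤ H i := by
    intro i k hk hk1 x hx
    have hxk := Subgroup.mem_centralizer_singleton_iff.1 hx
    refine hfrob i k hk hk1 ⟨?_, hx⟩
    by_contra hxL
    refine hk1 ((hTI i).1 x ((hTI i).2 ▸ hxL) k hk ?_)
    rwa [hxk, mul_inv_cancel_right]
  have hnil : ∀ i, Group.IsNilpotent (H i) := by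
    intro i
    haveI := hnorm i
    set K := (H i).subgroupOf (L i) with hK
    obtain ⟨q, hq, hqd⟩ := Nat.exists_prime_and_dvd (n := K.index) (fun h => (hHL i).ne
      (le_antisymm (hHL i).le (Subgroup.subgroupOf_eq_top.mp (Subgroup.index_eq_one.mp h))))
    have := Fact.mk hq
    let Q : Sylow q ↥(L i) := default
    have hQ : ∀ a ∈ (Q : Subgroup ↥(L i)), a ≠ 1 → ∀ n ∈ K, a * n = n * a → n = 1 := by
      intro a ha ha1 n hn he
      by_contra hn1
      have haK : a ∈ K := Subgroup.mem_subgroupOf.2 (hcent i n (Subgroup.mem_subgroupOf.1 hn)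
        (fun h => hn1 (Subtype.ext h)) (Subgroup.mem_centralizer_singleton_iff.2
          (congrArg Subtype.val he)))
      have hne : (K.subgroupOf (Q : Subgroup ↥(L i))) ≠ ⊥ := fun h => ha1 (by
        have h2 : (⟨a, ha⟩ : ↥(Q : Subgroup ↥(L i))) = 1 :=
          (Subgroup.eq_bot_iff_forall _).1 h _ (Subgroup.mem_subgroupOf.2 haK)
        exact congrArg Subtype.val h2)
      haveI := Q.isPGroup'.isNilpotent
      obtain ⟨⟨z, hz⟩, hz1⟩ := Subgroup.ne_bot_iff_exists_ne_one.1
        (Cfsg.Agent.Lib.Solvable.inf_center_ne_bot hne)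
      have hle : (Q : Subgroup ↥(L i)) ≤ K := by
        intro b hb
        refine Subgroup.mem_subgroupOf.2 (hcent i ((z : ↥(L i)) : G)
          (Subgroup.mem_subgroupOf.1 (Subgroup.mem_subgroupOf.1 hz.1)) ?_ ?_)
        · exact fun h => hz1 (Subtype.ext (Subtype.ext (Subtype.ext h)))
        · rw [Subgroup.mem_centralizer_singleton_iff]
          exact congrArg (fun w : ↥(Q : Subgroup ↥(L i)) => ((w : ↥(L i)) : G))
            (Subgroup.mem_center_iff.1 hz.2 ⟨b, hb⟩)
      exact Q.not_dvd_index (hqd.trans (Subgroup.index_dvd_of_le hle))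
    have hQne : (Q : Subgroup ↥(L i)) ≠ ⊥ :=
      Q.ne_bot_of_dvd_card (hqd.trans K.index_dvd_card)
    haveI := Cfsg.Agent.Lib.Solvable.FrobeniusAux.isNilpotent_of_fpf hQne hQ
    exact Group.nilpotent_of_mulEquiv (Subgroup.subgroupOfEquivOfLe (hHL i).le)
  let D : ι → Cfsg.Agent.Lib.Characters.TIDatum G := fun i =>
    { K := H i
      M := L i
      le := (hHL i).le
      normal := hnorm i
      ti := fun g hg => (hTI i).1 g ((hTI i).2 ▸ hg)
      cent := hcent i }
  obtain ⟨i0⟩ : Nonempty ι := Fintype.card_pos_iff.1 (by omega)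
  haveI : Nontrivial G := by
    obtain ⟨⟨h, hh⟩, hne⟩ := Subgroup.ne_bot_iff_exists_ne_one.1 (hH1 i0)
    exact ⟨⟨h, 1, fun e => hne (Subtype.ext e)⟩⟩
  refine Cfsg.Agent.Lib.Characters.no_odd_TI_partition hodd D hnil hH1 (fun i => (hHL i).ne)
    (fun i hi => ?_) hcop fun x hx => ?_
  · -- a normal kernel covers everything, so it equals every other kernel
    have hi' : L i = ⊤ := hi
    obtain ⟨j, hji⟩ := Fintype.exists_ne_of_one_lt_card (by omega : 1 < Fintype.card ι) i
    haveI : (H i).Normal := Subgroup.normalizer_eq_top_iff.1 ((hTI i).2.trans hi')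
    have hdisj : H j ⊓ H i = ⊥ := Subgroup.inf_eq_bot_of_coprime (hcop j i hji)
    have hdisj' : ∀ z ∈ H j, z ∈ H i → z = 1 := fun z hz hz' => by
      have : z ∈ H j ⊓ H i := ⟨hz, hz'⟩
      rwa [hdisj] at this
    have hLH : ∀ z ∈ L j, z ∈ H i → z = 1 := by
      intro z hz hz'
      obtain ⟨⟨k, hk⟩, hk1⟩ := Subgroup.ne_bot_iff_exists_ne_one.1 (hH1 j)
      have h1 : z * k * z⁻¹ * k⁻¹ = 1 := hdisj' _ ((H j).mul_mem (hHn j z hz k hk) ((H j).inv_mem hk))
        (by
          have e : z * k * z⁻¹ * k⁻¹ = z * (k * z⁻¹ * k⁻¹) := by group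
          rw [e]
          exact (H i).mul_mem hz' (Subgroup.Normal.conj_mem inferInstance _ ((H i).inv_mem hz') k))
      refine hdisj' z (hcent j k hk (fun e => hk1 (Subtype.ext e))
        (Subgroup.mem_centralizer_singleton_iff.2 ?_)) hz'
      exact mul_inv_eq_iff_eq_mul.1 (mul_inv_eq_one.1 h1)
    obtain ⟨y, hy, hyH⟩ : ∃ y ∈ L j, y ∉ H j := SetLike.exists_of_lt (hHL j)
    let C : Subgroup G := (Subgroup.center ↥(H i)).map (H i).subtype
    have hCn : C.Normal := inferInstance
    have hCH : C ≤ H i := Subgroup.map_subtype_le _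
    have hCc : ∀ a ∈ C, ∀ b ∈ C, a * b = b * a := by
      rintro _ ⟨a, ha, rfl⟩ _ ⟨b, -, rfl⟩
      exact congrArg Subtype.val (Subgroup.mem_center_iff.1 ha b).symm
    letI : CommGroup C := { (inferInstance : Group C) with
      mul_comm := fun a b => Subtype.ext (hCc a a.2 b b.2) }
    obtain ⟨⟨v, hv1⟩, hv⟩ : ∃ v : {v : C // v ≠ 1}, True := by
      have hCne : C ≠ ⊥ := by
        rw [Ne, Subgroup.map_eq_bot_iff_of_injective _ (H i).subtype_injective]
        haveI : Nontrivial ↥(H i) := (Subgroup.nontrivial_iff_ne_bot _).2 (hH1 i)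
        haveI := hnil i
        intro hz
        exact Cfsg.Agent.Lib.Solvable.inf_center_ne_bot (N := (⊤ : Subgroup ↥(H i))) top_ne_bot
          (by rw [hz, inf_bot_eq])
      obtain ⟨v, hv⟩ := Subgroup.ne_bot_iff_exists_ne_one.1 hCne
      exact ⟨⟨v, hv⟩, trivial⟩
    -- conjugation on `C`
    let act : G → C → C := fun a w => ⟨a * w * a⁻¹, hCn.conj_mem _ w.2 a⟩
    let actH : G → (C →* C) := fun a =>
      { toFun := act a
        map_one' := Subtype.ext (by simp [act])
        map_mul' := fun p q => Subtype.ext (by simp [act, mul_assoc]) }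
    have actH_eq : ∀ a w, act a w = actH a w := fun _ _ => rfl
    have act_mul : ∀ (a b : G) (w : C), act a (act b w) = act (a * b) w := fun a b w =>
      Subtype.ext (by simp [act, mul_assoc])
    have act_fix : ∀ a ∈ L j, a ≠ 1 → ∀ w : C, act a w = w → w = 1 := by
      intro a ha ha1 w hw
      by_contra hw1
      apply ha1
      refine hLH a ha (hcent i w (hCH w.2) (fun e => hw1 (Subtype.ext e))
        (Subgroup.mem_centralizer_singleton_iff.2 ?_))
      exact mul_inv_eq_iff_eq_mul.1 (congrArg Subtype.val hw)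
    set m := orderOf y with hm
    have hypow : ∀ k, y ^ k ∈ L j := fun k => (L j).pow_mem hy k
    have hynot : ∀ k, k < m → k ≠ 0 → y ^ k ∉ H j := fun k hk hk0 hmem =>
      hyH (hcent j _ hmem (fun e => absurd (orderOf_le_of_pow_eq_one (Nat.pos_of_ne_zero hk0) e)
        (by omega)) (Subgroup.mem_centralizer_singleton_iff.2 (pow_mul_comm' y k).symm))
    let P : ℕ → C := fun k => ∏ f : ↥(H j), act ((f : G) * y ^ k * (f : G)⁻¹) v
    have hPk : ∀ k, k < m → k ≠ 0 → P k = 1 := by
      intro k hk hk0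
      let β : ↥(H j) → ↥(H j) := fun f => ⟨(f : G) * (y ^ k * (f : G)⁻¹ * (y ^ k)⁻¹),
        (H j).mul_mem f.2 (hHn j _ (hypow k) _ ((H j).inv_mem f.2))⟩
      have hβ : Function.Bijective β := by
        rw [Finite.injective_iff_bijective.symm]
        intro f f' h
        have h' : (f : G) * (y ^ k * (f : G)⁻¹ * (y ^ k)⁻¹) = f' * (y ^ k * (f' : G)⁻¹ * (y ^ k)⁻¹) :=
          congrArg Subtype.val h
        by_contra hne
        have hc : (y ^ k) * ((f' : G)⁻¹ * f) = ((f' : G)⁻¹ * f) * y ^ k := by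
          calc y ^ k * ((f' : G)⁻¹ * f)
              = (f' : G)⁻¹ * (f' * (y ^ k * (f' : G)⁻¹ * (y ^ k)⁻¹)) * y ^ k * f := by group
            _ = (f' : G)⁻¹ * (f * (y ^ k * (f : G)⁻¹ * (y ^ k)⁻¹)) * y ^ k * f := by rw [h']
            _ = _ := by group
        exact hynot k hk hk0 (hcent j _ ((H j).mul_mem ((H j).inv_mem f'.2) f.2)
          (fun e => hne (Subtype.ext (inv_mul_eq_one.1 e).symm))
          (Subgroup.mem_centralizer_singleton_iff.2 hc))
      have e1 : P k = ∏ n : ↥(H j), act ((n : G) * y ^ k) v :=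
        Fintype.prod_bijective β hβ _ _ fun f => by
          congr 1
          simp [β, mul_assoc]
      rw [e1]
      obtain ⟨⟨a, ha⟩, ha1⟩ := Subgroup.ne_bot_iff_exists_ne_one.1 (hH1 j)
      refine act_fix a ((hHL j).le ha) (fun e => ha1 (Subtype.ext e)) _ ?_
      rw [actH_eq, map_prod]; simp only [← actH_eq]
      refine Fintype.prod_bijective _ (Group.mulLeft_bijective ⟨a, ha⟩) _ _ fun n => ?_
      rw [act_mul]
      simp [mul_assoc]
    have hm0 : 0 < m := orderOf_pos y
    have hm1 : 1 < m := by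
      by_contra h
      exact hyH (orderOf_eq_one_iff.1 (by omega : orderOf y = 1) ▸ (H j).one_mem)
    have hswap : ∏ k ∈ Finset.range m, P k = 1 := by
      rw [Finset.prod_comm]
      refine Finset.prod_eq_one fun f _ => ?_
      refine act_fix ((f : G) * y * (f : G)⁻¹) ?_ ?_ _ ?_
      · exact (L j).mul_mem ((L j).mul_mem ((hHL j).le f.2) hy) ((L j).inv_mem ((hHL j).le f.2))
      · exact fun e => hyH (by rw [conj_eq_one_iff.1 e]; exact (H j).one_mem)
      · rw [actH_eq, map_prod]; simp only [← actH_eq]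
        have e : ∀ k, act ((f : G) * y * (f : G)⁻¹) (act ((f : G) * y ^ k * (f : G)⁻¹) v)
            = act ((f : G) * y ^ (k + 1) * (f : G)⁻¹) v := fun k => by
          rw [act_mul]; congr 1; rw [pow_succ']; group
        simp only [e]
        obtain ⟨m', hm'⟩ : ∃ m', m = m' + 1 := ⟨m - 1, by omega⟩
        rw [hm']
        conv_rhs => rw [Finset.prod_range_succ']
        rw [Finset.prod_range_succ]
        congr 2
        rw [← hm', hm, pow_orderOf_eq_one, pow_zero]
    obtain ⟨m', hm'⟩ : ∃ m', m = m' + 1 := ⟨m - 1, by omega⟩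
    rw [hm', Finset.prod_range_succ', Finset.prod_eq_one fun k hk =>
      hPk (k + 1) (by rw [Finset.mem_range] at hk; omega) (by omega), one_mul] at hswap
    have hpow : (v : G) ^ Nat.card ↥(H j) = 1 := by
      have e : ∀ f : ↥(H j), act ((f : G) * y ^ 0 * (f : G)⁻¹) v = v := fun f =>
        Subtype.ext (by simp [act])
      simp only [P, e, Finset.prod_const, Finset.card_univ] at hswap
      rw [Nat.card_eq_fintype_card]
      exact congrArg Subtype.val hswap
    apply hv1
    apply Subtype.ext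
    exact orderOf_eq_one_iff.1 (Nat.eq_one_of_dvd_coprimes (hcop i j hji.symm)
      (Subgroup.orderOf_dvd_natCard (H i) (hCH v.2)) (orderOf_dvd_of_pow_eq_one hpow))
  · obtain ⟨i, t, ht⟩ := hcover x hx
    exact ⟨i, t⁻¹, by rw [inv_inv]; exact ht⟩

end Cfsg.Agent.S1526
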