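import Cfsg.Statements.S1527
import Cfsg.Agent.Lib.OddChar.CyclicTI

set_option autoImplicit false
open Cfsg

namespace Cfsg.Agent.S1527

/-- Let G be a finite group and H i (i in a finite index type) subgroups of pairwise coprime orders, each of whose underlying sets is a TI-subset of G, such that every non-identity element of G is conjugate to an element of some H i. Then Nat.card G − 1 = Σ_i [G : N_G(H i)] · (Nat.card (H i) − 1). -/
theorem result {G : Type*} [Group G] [Finite G] {ι : Type*} [Fintype ι] (H : ι → Subgroup G) (hcop : ∀ i j, i ≠ j → Nat.Coprime (Nat.card (H i)) (Nat.card (H j))) (hTI : ∀ i, Cfsg.IsTISubset (H i : Set G)) (hcover : ∀ g : G, g ≠ 1 → ∃ i, ∃ x : G, x * g * x⁻¹ ∈ H i) : Nat.card G - 1 = ∑ i, (Subgroup.normalizer (H i : Set G)).index * (Nat.card (H i) - 1) := by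
  classical
  have hinj : ∀ {i j : ι} {a b : G}, a ∈ H i → b ∈ H j → a ≠ 1 → IsConj a b → i = j := by
    intro i j a b ha hb ha1 hab
    by_contra hij
    obtain ⟨c, rfl⟩ := isConj_iff.mp hab
    have h1 : orderOf (c * a * c⁻¹) = orderOf a := by simpa using (MulAut.conj c).orderOf_eq a
    have h2 := Nat.dvd_gcd ((H i).orderOf_dvd_natCard ha) (h1 ▸ (H j).orderOf_dvd_natCard hb)
    rw [(hcop i j hij), Nat.dvd_one, orderOf_eq_one_iff] at h2
    exact ha1 h2
  let T := Σ i, (G ⧸ Subgroup.normalizer (H i : Set G)) × {h : H i // h ≠ 1}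
  let F : T → {g : G // g ≠ 1} := fun t =>
    ⟨t.2.1.out * (t.2.2.1 : G) * t.2.1.out⁻¹, fun e => t.2.2.2 (Subtype.ext (conj_eq_one_iff.mp e))⟩
  have hF : Function.Bijective F := by
    constructor
    · rintro ⟨i, q, ⟨a, ha⟩, ha1⟩ ⟨j, r, ⟨b, hb⟩, hb1⟩ he
      have he' : q.out * a * q.out⁻¹ = r.out * b * r.out⁻¹ := congrArg Subtype.val he
      have ha1' : a ≠ 1 := fun e => ha1 (Subtype.ext e)
      have hconj : (r.out⁻¹ * q.out) * a * (r.out⁻¹ * q.out)⁻¹ = b := by
        calc (r.out⁻¹ * q.out) * a * (r.out⁻¹ * q.out)⁻¹ = r.out⁻¹ * (q.out * a * q.out⁻¹) * r.out := by group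
          _ = b := by rw [he']; group
      obtain rfl := hinj ha hb ha1' (isConj_iff.mpr ⟨_, hconj⟩)
      have hn : r.out⁻¹ * q.out ∈ Subgroup.normalizer (H i : Set G) := by
        by_contra hn
        exact ha1' (hTI i _ hn a ha (hconj.symm ▸ hb))
      have hqr : r = q := by
        rw [← QuotientGroup.out_eq' r, ← QuotientGroup.out_eq' q]
        exact QuotientGroup.eq.mpr hn
      subst hqr
      have : a = b := by simpa using hconj
      subst this
      rfl
    · rintro ⟨g, hg⟩
      obtain ⟨i, x, hx⟩ := hcover g hg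
      set q : G ⧸ Subgroup.normalizer (H i : Set G) := QuotientGroup.mk x⁻¹
      obtain ⟨n, hn⟩ := QuotientGroup.mk_out_eq_mul (Subgroup.normalizer (H i : Set G)) x⁻¹
      have hm : q.out⁻¹ * g * q.out ∈ H i := by
        have e : q.out⁻¹ * g * q.out = (n : G)⁻¹ * (x * g * x⁻¹) * n := by rw [hn]; group
        rw [e]
        simpa using (Subgroup.mem_set_normalizer_iff.mp (Subgroup.inv_mem _ n.2) (x * g * x⁻¹)).mp hx
      refine ⟨⟨i, q, ⟨⟨_, hm⟩, fun e => hg ?_⟩⟩, Subtype.ext (show q.out * (q.out⁻¹ * g * q.out) * q.out⁻¹ = g by group)⟩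
      have e' : q.out⁻¹ * g * q.out = 1 := congrArg Subtype.val e
      calc g = q.out * (q.out⁻¹ * g * q.out) * q.out⁻¹ := by group
        _ = 1 := by rw [e']; simp
  haveI := Fintype.ofFinite G
  have hne : ∀ (α : Type _) [Finite α] (a : α), Nat.card {b : α // b ≠ a} = Nat.card α - 1 := by
    intro α _ a
    have := Nat.card_congr (Equiv.optionSubtypeNe a)
    rw [Finite.card_option] at this
    omega
  rw [← hne G 1, ← Nat.card_congr (Equiv.ofBijective F hF), Nat.card_sigma]
  refine Finset.sum_congr rfl fun i _ => ?_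
  rw [Nat.card_prod, Subgroup.index_eq_card]
  congr 1
  exact hne (H i) 1

end Cfsg.Agent.S1527
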