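import Cfsg.Statements.S1528
import Cfsg.Agent.Lib.OddChar.ClassFix

set_option autoImplicit false
open Cfsg

namespace Cfsg.Agent.S1528

open Cfsg.Agent.Lib.Characters Cfsg.Agent.Lib.OddChar

/-- Let N be a normal subgroup of the finite group G such that every element of G commuting with a non-identity element of N lies in N. If χ is an irreducible character of G with χ n ≠ χ 1 for some n ∈ N, then χ is the function induced from some irreducible character of N. -/
theorem result {G : Type*} [Group G] [Fintype G] (N : Subgroup G) [N.Normal] (hC : ∀ n ∈ N, n ≠ 1 → Subgroup.centralizer ({n} : Set G) ≤ N) (χ : G → ℂ) (hχ : Cfsg.IsIrrCharacter G χ) (hker : ∃ n ∈ N, χ n ≠ χ 1) : ∃ φ : N → ℂ, Cfsg.IsIrrCharacter N φ ∧ χ = Cfsg.indFun N φ := by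
  classical
  haveI := Fintype.ofFinite N
  haveI := Fintype.ofFinite (IrrCharacter N)
  obtain ⟨n₀, hn₀, hne⟩ := hker
  have hχc := IsIrrCharacter.isCharacter hχ
  obtain ⟨m, hm, hm'⟩ := IsCharacter.exists_nat_decomp (IsCharacter.restrict hχc N)
  obtain ⟨φ, hφm, hφ1⟩ : ∃ φ : IrrCharacter N, m φ ≠ 0 ∧ φ ≠ trivIrr N := by
    by_contra hc
    push Not at hc
    refine hne ?_
    have hv : ∀ z : N, χ z = (m (trivIrr N) : ℂ) := by
      intro z
      have := congrFun hm z
      simp only [Finset.sum_apply, Pi.smul_apply, smul_eq_mul] at this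
      rw [this, Finset.sum_eq_single (trivIrr N)]
      · simp
      · intro b _ hb
        have : m b = 0 := by
          by_contra h0
          exact hb (hc b h0)
        simp [this]
      · intro h; exact absurd (Finset.mem_univ _) h
    exact (hv ⟨n₀, hn₀⟩).trans (hv 1).symm
  refine ⟨φ, φ.2, ?_⟩
  have hirr : Cfsg.IsIrrCharacter G (indFun N (φ : N → ℂ)) := by
    refine isIrrCharacter_indFun_of_inertia N φ.2 fun g hg => ?_
    by_contra hgN
    refine hφ1 (Subtype.ext (eq_one_of_fixed N (x := g) (fun c hc => ?_) φ.2 hg))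
    by_contra hc1
    obtain ⟨k, hk, hcomm⟩ := exists_comm_of_fixed N hc
    have := hC c c.2 (fun e => hc1 (Subtype.ext e))
      (Subgroup.mem_centralizer_singleton_iff.mpr hcomm.eq)
    exact hgN (by simpa using N.mul_mem (N.inv_mem hk) this)
  by_contra hne'
  have h0 := IsIrrCharacter.classInner_ne hirr hχ (Ne.symm hne')
  rw [classInner_indFun N _ (IsCharacter.isClassFunction hχc), ← classInner_conj_symm, hm' φ,
    map_natCast, Nat.cast_eq_zero] at h0
  exact hφm h0

end Cfsg.Agent.S1528
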