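import Cfsg.Statements.S1529
import Cfsg.Agent.Lib.Characters.Gram

set_option autoImplicit false
open Cfsg

namespace Cfsg.Agent.S1529

open Cfsg.Agent.Lib.Characters

/-- Let N be a subgroup of the finite group G, S a set of irreducible characters of N with at least two members, and τ₁ a linear isometry on the integer combinations of S with virtual-character values such that τ₁ α vanishes at 1 whenever α ∈ ℤ[S] does. Then there is ε ∈ {1, −1} such that ε • τ₁ χ is an irreducible character of G for every χ ∈ S, and distinct members of S give distinct characters. -/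
theorem result {G : Type*} [Group G] [Fintype G] (N : Subgroup G) [Fintype N] (S : Set (N → ℂ)) (hirr : ∀ χ ∈ S, Cfsg.IsIrrCharacter N χ) (htwo : ∃ χ ∈ S, ∃ ψ ∈ S, χ ≠ ψ) (τ₁ : (N → ℂ) → (G → ℂ)) (hτ₁ : Cfsg.IsLinearIsometryOn (Cfsg.zspan S) τ₁) (h0 : ∀ α ∈ Cfsg.zspan S, α 1 = 0 → τ₁ α 1 = 0) : ∃ ε : ℂ, (ε = 1 ∨ ε = -1) ∧ (∀ χ ∈ S, Cfsg.IsIrrCharacter G (ε • τ₁ χ)) ∧ (∀ χ ∈ S, ∀ ψ ∈ S, τ₁ χ = τ₁ ψ → χ = ψ) := by
  classical
  have hmem : ∀ χ ∈ S, χ ∈ zspan S := fun χ hχ => Submodule.subset_span hχ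
  have hnorm : ∀ χ ∈ S, classInner (τ₁ χ) (τ₁ χ) = 1 := fun χ hχ => by
    rw [hτ₁.2.2.1 χ (hmem χ hχ) χ (hmem χ hχ), IsIrrCharacter.classInner_self (hirr χ hχ)]
  choose μ hμ using fun χ : S =>
    IsGeneralizedCharacter.eq_pm_irr (hτ₁.2.2.2 χ (hmem χ χ.2)) (hnorm χ χ.2)
  choose σ hσ using fun χ : S => (show ∃ s : ℤ, (s = 1 ∨ s = -1) ∧ τ₁ χ = (s : ℂ) • (μ χ : G → ℂ) from by
    rcases hμ χ with h | h
    · exact ⟨1, Or.inl rfl, by simp [h]⟩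
    · exact ⟨-1, Or.inr rfl, by simp [h]⟩)
  have hsame : ∀ χ ψ : S, σ χ = σ ψ := by
    intro χ ψ
    obtain ⟨a, ha0, ha⟩ := IsIrrCharacter.exists_apply_one (hirr χ χ.2)
    obtain ⟨b, hb0, hb⟩ := IsIrrCharacter.exists_apply_one (hirr ψ ψ.2)
    have hz1 : (b : ℤ) • (χ : N → ℂ) ∈ zspan S := Submodule.smul_mem _ _ (hmem χ χ.2)
    have hz2 : (-(a : ℤ)) • (ψ : N → ℂ) ∈ zspan S := Submodule.smul_mem _ _ (hmem ψ ψ.2)
    have h := h0 _ (Submodule.add_mem _ hz1 hz2) (by simp [ha, hb, mul_comm])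
    rw [hτ₁.1 _ hz1 _ hz2, hτ₁.2.1 _ (hmem χ χ.2), hτ₁.2.1 _ (hmem ψ ψ.2), (hσ χ).2, (hσ ψ).2] at h
    obtain ⟨c, hc0, hc⟩ := IsIrrCharacter.exists_apply_one (μ χ).2
    obtain ⟨d, hd0, hd⟩ := IsIrrCharacter.exists_apply_one (μ ψ).2
    simp [hc, hd] at h
    have h' : (b : ℤ) * (σ χ * c) + -((a : ℤ) * (σ ψ * d)) = 0 := by
      refine Int.cast_injective (α := ℂ) ?_
      push_cast
      linear_combination h
    have p1 : 0 < (b : ℤ) * c := by positivity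
    have p2 : 0 < (a : ℤ) * d := by positivity
    rcases (hσ χ).1 with h1 | h1 <;> rcases (hσ ψ).1 with h2 | h2 <;> rw [h1, h2] at h' ⊢ <;>
      (exfalso; linarith)
  obtain ⟨χ₀, hχ₀, -⟩ := htwo
  refine ⟨(σ ⟨χ₀, hχ₀⟩ : ℂ), ?_, fun χ hχ => ?_, fun χ hχ ψ hψ he => ?_⟩
  · rcases (hσ ⟨χ₀, hχ₀⟩).1 with h | h <;> simp [h]
  · rw [hsame ⟨χ₀, hχ₀⟩ ⟨χ, hχ⟩, (hσ ⟨χ, hχ⟩).2, smul_smul]
    rcases (hσ ⟨χ, hχ⟩).1 with h | h <;> simp [h, (μ ⟨χ, hχ⟩).2]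
  · by_contra hne
    have h1 := hτ₁.2.2.1 χ (hmem χ hχ) ψ (hmem ψ hψ)
    rw [IsIrrCharacter.classInner_ne (hirr χ hχ) (hirr ψ hψ) hne, ← he, hnorm χ hχ] at h1
    exact one_ne_zero h1

end Cfsg.Agent.S1529
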