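import Cfsg.Statements.S1531
import Cfsg.Agent.Lib.OddChar.CohExt

set_option autoImplicit false
open Cfsg

namespace Cfsg.Agent.S1531

open Cfsg.Agent.Lib.Characters Cfsg.Agent.Lib.OddChar

universe u

theorem pm_pair {G : Type u} [Group G] [Fintype G] {A B : G → ℂ}
    (hA : Cfsg.IsGeneralizedCharacter G A) (hB : Cfsg.IsGeneralizedCharacter G B)
    (hA1 : Cfsg.classInner A A = 1) (hB1 : Cfsg.classInner B B = 1) :
    A 1 ≠ 0 ∧ (Cfsg.classInner A B = 0 ∨ ∃ t : ℂ, (t = 1 ∨ t = -1) ∧ B = t • A) := by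
  obtain ⟨μ, hμ⟩ := IsGeneralizedCharacter.eq_pm_irr hA hA1
  obtain ⟨ν, hν⟩ := IsGeneralizedCharacter.eq_pm_irr hB hB1
  refine ⟨by rcases hμ with e | e <;> rw [e] <;> simp [IsIrrCharacter.apply_one_ne_zero μ.2], ?_⟩
  by_cases he : μ = ν
  · subst he
    refine Or.inr ?_
    rcases hμ with e | e <;> rcases hν with e' | e'
    · exact ⟨1, Or.inl rfl, by rw [e, e', one_smul]⟩
    · exact ⟨-1, Or.inr rfl, by rw [e, e', neg_one_smul]⟩
    · exact ⟨-1, Or.inr rfl, by rw [e, e', neg_one_smul, neg_neg]⟩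
    · exact ⟨1, Or.inl rfl, by rw [e, e', one_smul]⟩
  · refine Or.inl ?_
    rcases hμ with e | e <;> rcases hν with e' | e' <;> rw [e, e'] <;>
      simp [classInner_neg_left, classInner_neg_right, classInner_irr, he]

/-- Let N be a subgroup of the finite group G, S a set of irreducible characters of N, and α a linear isometry on the integer combinations of S vanishing at 1 with values virtual characters of G vanishing at 1. Let X, Y ⊆ S be disjoint, each with at least two members, and σ, τ linear isometries on ℤ[X], ℤ[Y] into virtual characters agreeing with α on the members vanishing at 1. Then ⟨σ χ, τ η⟩ = 0 for χ ∈ X, η ∈ Y; and if for some χ₀ ∈ X, η₀ ∈ Y with degrees c = χ₀ 1, e = η₀ 1 one has α (c • η₀ − e • χ₀) = c • τ η₀ − e • σ χ₀, then (X ∪ Y, N minus 1, α) is coherent. -/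
theorem result {G : Type*} [Group G] [Fintype G] (N : Subgroup G) [Fintype N] (S X Y : Set (N → ℂ)) (hirr : ∀ ξ ∈ S, Cfsg.IsIrrCharacter N ξ) (hXS : X ⊆ S) (hYS : Y ⊆ S) (hXY : Disjoint X Y) (hX2 : ∃ a ∈ X, ∃ b ∈ X, a ≠ b) (hY2 : ∃ a ∈ Y, ∃ b ∈ Y, a ≠ b) (α : (N → ℂ) → (G → ℂ)) (hα : Cfsg.IsLinearIsometryOn (Cfsg.zspanOn S {1}ᶜ) α) (hα1 : ∀ θ ∈ Cfsg.zspanOn S {1}ᶜ, α θ 1 = 0) (σ τ : (N → ℂ) → (G → ℂ)) (hσ : Cfsg.IsLinearIsometryOn (Cfsg.zspan X) σ) (hσα : ∀ θ ∈ Cfsg.zspanOn X {1}ᶜ, σ θ = α θ) (hτ : Cfsg.IsLinearIsometryOn (Cfsg.zspan Y) τ) (hτα : ∀ θ ∈ Cfsg.zspanOn Y {1}ᶜ, τ θ = α θ) : (∀ χ ∈ X, ∀ η ∈ Y, Cfsg.classInner (σ χ) (τ η) = 0) ∧ ((∃ χ₀ ∈ X, ∃ η₀ ∈ Y, α (χ₀ 1 • η₀ - η₀ 1 • χ₀) = χ₀ 1 • τ η₀ - η₀ 1 • σ χ₀) → Cfsg.IsCoherent (X ∪ Y) {1}ᶜ α) := by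
  classical
  have hd : ∀ ξ ∈ S, ∃ d : ℕ, 0 < d ∧ ξ 1 = (d : ℂ) := fun ξ hξ =>
    IsIrrCharacter.exists_apply_one (hirr ξ hξ)
  have horth : ∀ ξ ∈ S, ∀ η ∈ S, ξ ≠ η → Cfsg.classInner ξ η = 0 := fun ξ hξ η hη h =>
    IsIrrCharacter.classInner_ne (hirr ξ hξ) (hirr η hη) h
  have hself : ∀ ξ ∈ S, Cfsg.classInner ξ ξ = 1 := fun ξ hξ => IsIrrCharacter.classInner_self (hirr ξ hξ)
  have hcross : ∀ χ ∈ X, ∀ η ∈ Y, Cfsg.classInner χ η = 0 := fun χ hχ η hη =>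
    horth χ (hXS hχ) η (hYS hη) fun e => Set.disjoint_left.mp hXY hχ (e ▸ hη)
  have hdiff : ∀ (Z : Set (N → ℂ)) (f : (N → ℂ) → (G → ℂ)), Z ⊆ S →
      Cfsg.IsLinearIsometryOn (Cfsg.zspan Z) f → (∀ θ ∈ Cfsg.zspanOn Z {1}ᶜ, f θ = α θ) →
      ∀ a ∈ Z, ∀ b ∈ Z, ∀ (i j : ℕ), a 1 = (i : ℂ) → b 1 = (j : ℂ) →
      (j : ℂ) • a - (i : ℂ) • b ∈ Cfsg.zspanOn Z {1}ᶜ ∧
      α ((j : ℂ) • a - (i : ℂ) • b) = (j : ℂ) • f a - (i : ℂ) • f b := by
    intro Z f _ hf hfα a ha b hb i j hi hj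
    have hma : a ∈ Cfsg.zspan Z := Submodule.subset_span ha
    have hmb : b ∈ Cfsg.zspan Z := Submodule.subset_span hb
    have hz1 : (j : ℂ) • a ∈ Cfsg.zspan Z := by
      simpa [← Int.cast_smul_eq_zsmul ℂ, Cfsg.zspan] using Submodule.smul_mem _ (j : ℤ) hma
    have hz2 : (i : ℂ) • b ∈ Cfsg.zspan Z := by
      simpa [← Int.cast_smul_eq_zsmul ℂ, Cfsg.zspan] using Submodule.smul_mem _ (i : ℤ) hmb
    have hz : (j : ℂ) • a - (i : ℂ) • b ∈ Cfsg.zspanOn Z {1}ᶜ :=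
      mem_zspanOn_one.mpr ⟨Submodule.sub_mem _ hz1 hz2, by simp [hi, hj, mul_comm]⟩
    exact ⟨hz, by rw [← hfα _ hz, iso_sub hf hz1 hz2 (Submodule.neg_mem _ hz2), iso_smul_nat hf hma,
      iso_smul_nat hf hmb]⟩
  have part1 : ∀ χ ∈ X, ∀ η ∈ Y, Cfsg.classInner (σ χ) (τ η) = 0 := by
    intro χ hχ η hη
    obtain ⟨χ', hχ', hne⟩ : ∃ χ' ∈ X, χ' ≠ χ := by
      obtain ⟨a, ha, b, hb, hab⟩ := hX2
      by_cases h : a = χ
      · exact ⟨b, hb, fun e => hab (h.trans e.symm)⟩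
      · exact ⟨a, ha, h⟩
    obtain ⟨η', hη', hne'⟩ : ∃ η' ∈ Y, η' ≠ η := by
      obtain ⟨a, ha, b, hb, hab⟩ := hY2
      by_cases h : a = η
      · exact ⟨b, hb, fun e => hab (h.trans e.symm)⟩
      · exact ⟨a, ha, h⟩
    have mX : ∀ x ∈ X, x ∈ Cfsg.zspan X := fun x hx => Submodule.subset_span hx
    have mY : ∀ x ∈ Y, x ∈ Cfsg.zspan Y := fun x hx => Submodule.subset_span hx
    obtain ⟨i, hi0, hi⟩ := hd χ (hXS hχ)
    obtain ⟨i', hi0', hi'⟩ := hd χ' (hXS hχ')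
    obtain ⟨j, hj0, hj⟩ := hd η (hYS hη)
    obtain ⟨j', hj0', hj'⟩ := hd η' (hYS hη')
    obtain ⟨hz1, he1⟩ := hdiff X σ hXS hσ hσα χ hχ χ' hχ' i i' hi hi'
    obtain ⟨hz2, he2⟩ := hdiff Y τ hYS hτ hτα η hη η' hη' j j' hj hj'
    have h0 := hα.2.2.1 _ (zspanOn_mono hXS hz1) _ (zspanOn_mono hYS hz2)
    have hv1 := hα1 _ (zspanOn_mono hXS hz1)
    have hv2 := hα1 _ (zspanOn_mono hYS hz2)
    rw [he1, he2] at h0
    rw [he1] at hv1
    rw [he2] at hv2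
    simp only [classInner_sub_left, classInner_sub_right, classInner_smul_left, classInner_smul_right,
      map_natCast, hcross χ hχ η hη, hcross χ hχ η' hη', hcross χ' hχ' η hη, hcross χ' hχ' η' hη'] at h0
    simp only [Pi.sub_apply, Pi.smul_apply, smul_eq_mul] at hv1 hv2
    have gA := hσ.2.2.2 _ (mX χ hχ)
    have gA' := hσ.2.2.2 _ (mX χ' hχ')
    have gB := hτ.2.2.2 _ (mY η hη)
    have gB' := hτ.2.2.2 _ (mY η' hη')
    have nA := (hσ.2.2.1 _ (mX χ hχ) _ (mX χ hχ)).trans (hself χ (hXS hχ))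
    have nA' := (hσ.2.2.1 _ (mX χ' hχ') _ (mX χ' hχ')).trans (hself χ' (hXS hχ'))
    have nB := (hτ.2.2.1 _ (mY η hη) _ (mY η hη)).trans (hself η (hYS hη))
    have nB' := (hτ.2.2.1 _ (mY η' hη') _ (mY η' hη')).trans (hself η' (hYS hη'))
    obtain ⟨hA1, h⟩ := pm_pair gA gB nA nB
    rcases h with h | ⟨t, ht, hB⟩
    · exact h
    exfalso
    have htc : (starRingEnd ℂ) t = t := by rcases ht with rfl | rfl <;> simp
    have hAA' := (hσ.2.2.1 _ (mX χ hχ) _ (mX χ' hχ')).trans (horth χ (hXS hχ) χ' (hXS hχ') (Ne.symm hne))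
    have hBB' := (hτ.2.2.1 _ (mY η hη) _ (mY η' hη')).trans (horth η (hYS hη) η' (hYS hη') (Ne.symm hne'))
    have ht0 : t ≠ 0 := by rcases ht with rfl | rfl <;> simp
    have hAB' : Cfsg.classInner (σ χ) (τ η') = 0 := by
      rw [hB, classInner_smul_left] at hBB'
      exact (mul_eq_zero.mp hBB').resolve_left ht0
    have hA'B : Cfsg.classInner (σ χ') (τ η) = 0 := by
      rw [hB, classInner_smul_right, ← classInner_conj_symm (σ χ) (σ χ'), hAA', map_zero, mul_zero]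
    have hAB : Cfsg.classInner (σ χ) (τ η) = t := by
      rw [hB, classInner_smul_right, nA, htc, mul_one]
    rw [hAB, hAB', hA'B] at h0
    obtain ⟨hA1', h⟩ := pm_pair gA' gB' nA' nB'
    rcases h with h | ⟨t', ht', hB'⟩
    · rw [h] at h0
      have e : (i' : ℂ) * j' * t = 0 := by linear_combination h0
      simp [ht0, hi0'.ne', hj0'.ne'] at e
    · have htc' : (starRingEnd ℂ) t' = t' := by rcases ht' with rfl | rfl <;> simp
      have hA'B' : Cfsg.classInner (σ χ') (τ η') = t' := by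
        rw [hB', classInner_smul_right, nA', htc', mul_one]
      rw [hA'B'] at h0
      rw [hB, hB', Pi.smul_apply, Pi.smul_apply, smul_eq_mul, smul_eq_mul] at hv2
      have e : (σ χ 1 * ((i : ℂ) ^ 2 + (i' : ℂ) ^ 2)) * ((j' : ℂ) * t) = 0 := by
        linear_combination ((i : ℂ) ^ 2) * hv2 + (i' * σ χ 1) * h0 - (i * j * t') * hv1
      have hsum : ((i : ℂ) ^ 2 + (i' : ℂ) ^ 2) ≠ 0 := by
        exact_mod_cast (by positivity : i ^ 2 + i' ^ 2 ≠ 0)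
      simp [hA1, hsum, hj0'.ne', ht0] at e
  refine ⟨part1, ?_⟩
  rintro ⟨χ₀, hχ₀, η₀, hη₀, hglue⟩
  have hXYS : X ∪ Y ⊆ S := Set.union_subset hXS hYS
  obtain ⟨T, hT⟩ := exists_linear_ext (S := X ∪ Y)
    (fun φ hφ ψ hψ h => horth φ (hXYS hφ) ψ (hXYS hψ) h)
    (fun φ hφ => IsIrrCharacter.ne_zero (hirr φ (hXYS hφ)))
    (fun φ => if φ ∈ X then σ φ else τ φ)
  have hTX : ∀ x ∈ X, T x = σ x := fun x hx => by rw [hT x (Or.inl hx), if_pos hx]
  have hTY : ∀ x ∈ Y, T x = τ x := fun x hx => by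
    rw [hT x (Or.inr hx), if_neg (Set.disjoint_right.mp hXY hx)]
  obtain ⟨c, hc0, hc⟩ := hd χ₀ (hXS hχ₀)
  obtain ⟨e, he0, he⟩ := hd η₀ (hYS hη₀)
  refine ⟨?_, T, isometry_of_gens T ?_ ?_, ?_⟩
  · obtain ⟨a, ha, b, hb, hab⟩ := hX2
    obtain ⟨i, hi0, hi⟩ := hd a (hXS ha)
    obtain ⟨j, hj0, hj⟩ := hd b (hXS hb)
    refine ⟨_, zspanOn_mono Set.subset_union_left (hdiff X σ hXS hσ hσα a ha b hb i j hi hj).1, fun h => ?_⟩
    have h' := congrArg (fun f => Cfsg.classInner f a) h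
    simp only [classInner_sub_left, classInner_smul_left, classInner_zero_left, hself a (hXS ha),
      horth b (hXS hb) a (hXS ha) (Ne.symm hab)] at h'
    simp [hj0.ne'] at h'
  · intro φ hφ ψ hψ
    rcases hφ with hp | hp <;> rcases hψ with hq | hq
    · rw [hTX _ hp, hTX _ hq]; exact hσ.2.2.1 _ (Submodule.subset_span hp) _ (Submodule.subset_span hq)
    · rw [hTX _ hp, hTY _ hq, part1 _ hp _ hq, hcross _ hp _ hq]
    · rw [hTY _ hp, hTX _ hq, ← classInner_conj_symm, part1 _ hq _ hp, ← classInner_conj_symm ψ φ,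
        hcross _ hq _ hp]
    · rw [hTY _ hp, hTY _ hq]; exact hτ.2.2.1 _ (Submodule.subset_span hp) _ (Submodule.subset_span hq)
  · intro φ hφ
    rcases hφ with hp | hp
    · rw [hTX _ hp]; exact hσ.2.2.2 _ (Submodule.subset_span hp)
    · rw [hTY _ hp]; exact hτ.2.2.2 _ (Submodule.subset_span hp)
  · intro θ hθ
    have key : ∀ (Z : Set (N → ℂ)) (f : (N → ℂ) → (G → ℂ)), Cfsg.IsLinearIsometryOn (Cfsg.zspan Z) f →
        (∀ z ∈ Z, T z = f z) → ∀ z₀ ∈ Z, ∀ β ∈ Cfsg.zspan Z, T β = f β := by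
      intro Z f hf hZ z₀ hz₀ β hβ
      induction hβ using Submodule.span_induction with
      | mem x hx => exact hZ x hx
      | zero =>
        rw [map_zero]
        simpa using (hf.2.1 _ (Submodule.subset_span hz₀) 0).symm
      | add y z hy' hz' hy hz => rw [map_add, hy, hz, hf.1 _ hy' _ hz']
      | smul k y hy' hy => rw [map_zsmul, hy, hf.2.1 _ hy']
    obtain ⟨hθz, hθ1⟩ := mem_zspanOn_one.mp hθ
    rw [Cfsg.zspan, Submodule.span_union, SetLike.mem_coe, Submodule.mem_sup] at hθz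
    obtain ⟨u, hu, v, hv, rfl⟩ := hθz
    have hv1 : ∀ β ∈ Submodule.span ℤ Y, ∃ k : ℤ, β 1 = (k : ℂ) := by
      intro β hβ
      induction hβ using Submodule.span_induction with
      | mem x hx =>
        obtain ⟨d, -, hd'⟩ := hd x (hYS hx)
        exact ⟨d, by simpa using hd'⟩
      | zero => exact ⟨0, by simp⟩
      | add y z _ _ hy hz =>
        obtain ⟨p, hp⟩ := hy
        obtain ⟨q, hq⟩ := hz
        exact ⟨p + q, by simp [hp, hq]⟩
      | smul m y _ hy =>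
        obtain ⟨p, hp⟩ := hy
        exact ⟨m * p, by simp [hp]⟩
    obtain ⟨k, hk⟩ := hv1 v hv
    have hu1 : u 1 = -(k : ℂ) := by
      rw [Pi.add_apply, hk] at hθ1
      exact eq_neg_of_add_eq_zero_left hθ1
    set u' := (c : ℤ) • u + k • χ₀ with hu'
    set v' := (e : ℤ) • v - k • η₀ with hv'
    set w := (c : ℂ) • η₀ - (e : ℂ) • χ₀ with hw
    have hu'm : u' ∈ Cfsg.zspanOn X {1}ᶜ := mem_zspanOn_one.mpr ⟨Submodule.add_mem _
      (Submodule.smul_mem _ _ hu) (Submodule.smul_mem _ _ (Submodule.subset_span hχ₀)),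
      by simp [hu', hu1, hc, mul_comm]⟩
    have hv'm : v' ∈ Cfsg.zspanOn Y {1}ᶜ := mem_zspanOn_one.mpr ⟨Submodule.sub_mem _
      (Submodule.smul_mem _ _ hv) (Submodule.smul_mem _ _ (Submodule.subset_span hη₀)),
      by simp [hv', hk, he, mul_comm]⟩
    have hwm : w ∈ Cfsg.zspanOn S {1}ᶜ := by
      refine mem_zspanOn_one.mpr ⟨?_, by simp [hw, hc, he, mul_comm]⟩
      have := Submodule.sub_mem (Submodule.span ℤ S) (Submodule.smul_mem _ (c : ℤ) (Submodule.subset_span (hYS hη₀)))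
        (Submodule.smul_mem _ (e : ℤ) (Submodule.subset_span (hXS hχ₀)))
      simpa [← Int.cast_smul_eq_zsmul ℂ, Cfsg.zspan] using this
    have hTw : T w = α w := by
      rw [hc, he, ← hw] at hglue
      rw [hglue, hw, map_sub, map_smul, map_smul, hTY _ hη₀, hTX _ hχ₀]
    have hdec : ((c : ℤ) * e) • (u + v) = (e : ℤ) • u' + ((c : ℤ) • v' + k • w) := by
      funext x
      simp only [hu', hv', hw, Pi.add_apply, Pi.sub_apply, Pi.smul_apply, zsmul_eq_mul, smul_eq_mul,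
        Pi.mul_apply, Pi.intCast_apply]
      push_cast
      ring
    have hm1 : (e : ℤ) • u' ∈ Cfsg.zspanOn S {1}ᶜ := zspanOn_smul _ (zspanOn_mono hXS hu'm)
    have hm2 : (c : ℤ) • v' ∈ Cfsg.zspanOn S {1}ᶜ := zspanOn_smul _ (zspanOn_mono hYS hv'm)
    have h1 : ((c : ℤ) * e) • T (u + v) = ((c : ℤ) * e) • α (u + v) := by
      rw [← map_zsmul T, ← hα.2.1 _ (zspanOn_mono hXYS hθ), hdec,
        hα.1 _ hm1 _ (zspanOn_add hm2 (zspanOn_smul k hwm)), hα.1 _ hm2 _ (zspanOn_smul k hwm),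
        hα.2.1 _ (zspanOn_mono hXS hu'm), hα.2.1 _ (zspanOn_mono hYS hv'm), hα.2.1 _ hwm, map_add, map_add,
        map_zsmul, map_zsmul, map_zsmul, hTw, key X σ hσ hTX χ₀ hχ₀ u' hu'm.1, key Y τ hτ hTY η₀ hη₀ v' hv'm.1,
        hσα _ hu'm, hτα _ hv'm]
    funext g
    have h2 := congrFun h1 g
    simp only [Pi.smul_apply, zsmul_eq_mul] at h2
    refine mul_left_cancel₀ ?_ h2
    push_cast
    exact mul_ne_zero (Nat.cast_ne_zero.mpr hc0.ne') (Nat.cast_ne_zero.mpr he0.ne')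

end Cfsg.Agent.S1531
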