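import Cfsg.Statements.S1532
import Cfsg.Agent.Lib.OddChar.SibleyCases

set_option autoImplicit false
open Cfsg

namespace Cfsg.Agent.S1532

open Cfsg.Agent.Lib.Characters Cfsg.Agent.Lib.OddChar

/-- Let G be a finite group, p an odd prime and P a Sylow p-subgroup that is non-abelian, whose underlying set is a TI-subset of G, with P properly contained in its set normaliser N and C_G(x) ≤ P for every non-identity x ∈ P. Let Z be a nontrivial subgroup of the centre of P normalised by N. Then the set of irreducible characters χ of N with χ z ≠ χ 1 for some z ∈ Z is coherent for the map induced by induction from N to G. -/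
theorem result {G : Type*} [Group G] [Fintype G] (p : ℕ) [Fact p.Prime] (hp : p ≠ 2) (P : Sylow p G) (hna : ¬ IsMulCommutative (P : Subgroup G)) (hTI : Cfsg.IsTISubset ((P : Subgroup G) : Set G)) (hlt : (P : Subgroup G) < Subgroup.normalizer ((P : Subgroup G) : Set G)) (hC : ∀ k ∈ (P : Subgroup G), k ≠ 1 → Subgroup.centralizer ({k} : Set G) ≤ (P : Subgroup G)) [Fintype ↥(Subgroup.normalizer ((P : Subgroup G) : Set G))] (Z : Subgroup G) (hZ1 : Z ≠ ⊥) (hZP : ∀ z ∈ Z, z ∈ (P : Subgroup G) ∧ ∀ y ∈ (P : Subgroup G), z * y = y * z) (hZn : ∀ x ∈ Subgroup.normalizer ((P : Subgroup G) : Set G), ∀ z ∈ Z, x * z * x⁻¹ ∈ Z) : Cfsg.IsCoherent {χ : ↥(Subgroup.normalizer ((P : Subgroup G) : Set G)) → ℂ | Cfsg.IsIrrCharacter ↥(Subgroup.normalizer ((P : Subgroup G) : Set G)) χ ∧ ∃ z : ↥(Subgroup.normalizer ((P : Subgroup G) : Set G)), (z : G) ∈ Z ∧ χ z ≠ χ 1} {1}ᶜ (fun α => Cfsg.indFun (Subgroup.normalizer ((P : Subgroup G) : Set G)) α) := by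
  classical
  have hna' : ∃ a ∈ (P : Subgroup G), ∃ b ∈ (P : Subgroup G), a * b ≠ b * a := by
    by_contra hall
    push Not at hall
    exact hna ⟨⟨fun a b => Subtype.ext (hall a a.2 b b.2)⟩⟩
  have hHodd : Odd (Nat.card (P : Subgroup G)) := by
    obtain ⟨m, hm⟩ := IsPGroup.iff_card.mp P.2
    rw [hm]
    exact ((Fact.out : p.Prime).odd_of_ne_two hp).pow
  have hodd := odd_index_of_nonabelian (P : Subgroup G) _ rfl hlt hC hHodd hna'
  have hS := sibley_nonabelian (P : Subgroup G) _ rfl P rfl hTI hlt hC hodd hna'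
  have hsub : {χ : ↥(Subgroup.normalizer ((P : Subgroup G) : Set G)) → ℂ | Cfsg.IsIrrCharacter _ χ ∧
      ∃ z : ↥(Subgroup.normalizer ((P : Subgroup G) : Set G)), (z : G) ∈ Z ∧ χ z ≠ χ 1} ⊆
      relSet ((P : Subgroup G).subgroupOf (Subgroup.normalizer ((P : Subgroup G) : Set G))) := by
    rintro χ ⟨h1, z, hz, hne⟩
    exact ⟨h1, z, (hZP z hz).1, hne⟩
  obtain ⟨-, τ₁, hτ₁, hag⟩ := hS
  refine ⟨?_, τ₁, ⟨fun α hα β hβ => hτ₁.1 α (Submodule.span_mono hsub hα) β (Submodule.span_mono hsub hβ),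
    fun α hα n => hτ₁.2.1 α (Submodule.span_mono hsub hα) n,
    fun α hα β hβ => hτ₁.2.2.1 α (Submodule.span_mono hsub hα) β (Submodule.span_mono hsub hβ),
    fun α hα => hτ₁.2.2.2 α (Submodule.span_mono hsub hα)⟩, fun α hα => hag α (zspanOn_mono hsub hα)⟩
  obtain ⟨z, hz, hz1⟩ : ∃ z ∈ Z, z ≠ (1 : G) := by
    by_contra h
    push Not at h
    exact hZ1 ((Subgroup.eq_bot_iff_forall _).mpr h)
  set zN : ↥(Subgroup.normalizer ((P : Subgroup G) : Set G)) := ⟨z, hlt.le (hZP z hz).1⟩ with hzN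
  obtain ⟨χ, hne⟩ := exists_irr_ne_apply_one (G := ↥(Subgroup.normalizer ((P : Subgroup G) : Set G))) (g := zN)
    fun h => hz1 (congrArg Subtype.val h)
  obtain ⟨d, hd⟩ := IsCharacter.exists_apply_one (irr_isCharacter χ)
  refine ⟨(χ : ↥(Subgroup.normalizer ((P : Subgroup G) : Set G)) → ℂ) - Cfsg.conjFun (χ : ↥(Subgroup.normalizer ((P : Subgroup G) : Set G)) → ℂ),
    mem_zspanOn_one.mpr ⟨Submodule.sub_mem _ (Submodule.subset_span ⟨χ.2, zN, hz, hne⟩)
      (Submodule.subset_span ⟨IsIrrCharacter.conjugate χ.2, zN, hz, fun e => hne (RingHom.injective _ e)⟩),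
      by simp [Cfsg.conjFun, hd]⟩, ?_⟩
  rw [sub_ne_zero]
  exact (relSet_conj_ne _ hodd (hsub ⟨χ.2, zN, hz, hne⟩)).symm

end Cfsg.Agent.S1532
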