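import Cfsg.Statements.S1533
import Cfsg.Agent.S1534
import Cfsg.Agent.Lib.Characters.Basic

set_option autoImplicit false
open Cfsg

namespace Cfsg.Agent.S1533

/-- Let G be a finite group, p an odd prime, and P a nontrivial Sylow p-subgroup whose underlying set is a TI-subset of G, with P properly contained in its set normaliser N and C_G(x) ≤ P for every non-identity x ∈ P. Let S be the set of irreducible characters χ of N with χ x ≠ χ 1 for some x ∈ P. Then either S has exactly one member, P is elementary abelian and Nat.card P = [N:P] + 1; or (S, N minus 1, induction to G) is coherent. -/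
theorem result {G : Type*} [Group G] [Fintype G] (p : ℕ) [Fact p.Prime] (hp : p ≠ 2) (P : Sylow p G) (hP1 : (P : Subgroup G) ≠ ⊥) (hTI : Cfsg.IsTISubset ((P : Subgroup G) : Set G)) (hlt : (P : Subgroup G) < Subgroup.normalizer ((P : Subgroup G) : Set G)) (hC : ∀ k ∈ (P : Subgroup G), k ≠ 1 → Subgroup.centralizer ({k} : Set G) ≤ (P : Subgroup G)) [Fintype ↥(Subgroup.normalizer ((P : Subgroup G) : Set G))] : (Nat.card {χ : ↥(Subgroup.normalizer ((P : Subgroup G) : Set G)) → ℂ // Cfsg.IsIrrCharacter ↥(Subgroup.normalizer ((P : Subgroup G) : Set G)) χ ∧ ∃ x : ↥(Subgroup.normalizer ((P : Subgroup G) : Set G)), (x : G) ∈ (P : Subgroup G) ∧ χ x ≠ χ 1} = 1 ∧ Cfsg.IsElementaryAbelian p (P : Subgroup G) ∧ Nat.card (P : Subgroup G) = ((P : Subgroup G).subgroupOf (Subgroup.normalizer ((P : Subgroup G) : Set G))).index + 1) ∨ Cfsg.IsCoherent {χ : ↥(Subgroup.normalizer ((P : Subgroup G) : Set G)) → ℂ | Cfsg.IsIrrCharacter ↥(Subgroup.normalizer ((P : Subgroup G) : Set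 G)) χ ∧ ∃ x : ↥(Subgroup.normalizer ((P : Subgroup G) : Set G)), (x : G) ∈ (P : Subgroup G) ∧ χ x ≠ χ 1} {1}ᶜ (fun α => Cfsg.indFun (Subgroup.normalizer ((P : Subgroup G) : Set G)) α) := by
  have hnil : Group.IsNilpotent (P : Subgroup G) := P.2.isNilpotent
  rcases Cfsg.Agent.S1534.result (P : Subgroup G) hP1 hnil hTI hlt hC with ⟨h1, h2, q, hq, hel⟩ | ⟨h, -⟩ | h
  · refine Or.inl ⟨h1, ⟨hel.1, fun a ha => ?_⟩, h2⟩
    by_cases ha1 : a = 1
    · rw [ha1, one_pow]
    have hd : orderOf a = q := by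
      rcases (Nat.dvd_prime hq).mp (orderOf_dvd_of_pow_eq_one (hel.2 a ha)) with h | h
      · exact absurd (orderOf_eq_one_iff.mp h) ha1
      · exact h
    obtain ⟨k, hk⟩ := P.2 ⟨a, ha⟩
    have hk' : a ^ p ^ k = 1 := by simpa using congrArg Subtype.val hk
    have : q ∣ p := hq.dvd_of_dvd_pow (hd ▸ orderOf_dvd_of_pow_eq_one hk')
    rw [← (Nat.prime_dvd_prime_iff_eq hq Fact.out).mp this]
    exact hel.2 a ha
  · exfalso
    obtain ⟨m, hm⟩ := IsPGroup.iff_card.mp P.2
    rw [hm] at h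
    rcases Nat.eq_zero_or_pos m with rfl | hm0
    · exact hP1 (Subgroup.card_eq_one.mp (by rw [hm, pow_zero]))
    · have h2 : p ∣ 2 := (Fact.out : p.Prime).dvd_of_dvd_pow (h ▸ dvd_pow_self p hm0.ne')
      exact hp ((Nat.prime_dvd_prime_iff_eq Fact.out Nat.prime_two).mp h2)
  · exact Or.inr h

end Cfsg.Agent.S1533
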