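import Cfsg.Statements.S1536
import Cfsg.Agent.Lib.OddChar.ClassFix

set_option autoImplicit false
open Cfsg

namespace Cfsg.Agent.S1536

open Cfsg.Agent.Lib.Characters Cfsg.Agent.Lib.OddChar

/-- Let H be a normal subgroup of the finite group M whose order is coprime to its index. For x ∈ M: some non-principal irreducible character of H is unchanged under h ↦ θ(x h x⁻¹) if and only if some non-identity element of H commutes with x. -/
theorem result {M : Type*} [Group M] [Finite M] (H : Subgroup M) [hN : H.Normal] (hHall : Nat.Coprime (Nat.card H) H.index) (x : M) : (∃ θ : H → ℂ, Cfsg.IsIrrCharacter H θ ∧ θ ≠ (fun _ => 1) ∧ (fun h : H => θ ⟨x * h * x⁻¹, hN.conj_mem h h.2 x⟩) = θ) ↔ ∃ h ∈ H, h ≠ 1 ∧ x * h = h * x := by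
  haveI := Fintype.ofFinite H
  haveI : Finite (ConjClasses H) := Finite.of_surjective _ ConjClasses.mk_surjective
  constructor
  · rintro ⟨θ, hθ, hne, hfix⟩
    obtain ⟨k, hk1, hk2⟩ := Nat.chineseRemainder hHall 1 0
    obtain ⟨l, hl1, hl2⟩ := Nat.chineseRemainder hHall 0 1
    have hM : H.index * Nat.card H = Nat.card M := H.index_mul_card
    have hyz : x ^ k * x ^ l = x := by
      rw [← pow_add]
      conv_rhs => rw [← pow_one x]
      refine pow_eq_pow_iff_modEq.mpr (Nat.ModEq.of_dvd (orderOf_dvd_natCard x) ?_)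
      rw [← hM, mul_comm]
      refine (Nat.modEq_and_modEq_iff_modEq_mul hHall).mp ⟨?_, ?_⟩
      · simpa using hk1.add hl1
      · simpa using hk2.add hl2
    have hy : x ^ k ∈ H := by
      rw [← QuotientGroup.eq_one_iff, ← orderOf_eq_one_iff]
      have h1 : orderOf ((x ^ k : M) : M ⧸ H) ∣ H.index := by
        rw [Subgroup.index_eq_card]; exact orderOf_dvd_natCard _
      have h2 : orderOf ((x ^ k : M) : M ⧸ H) ∣ Nat.card H := by
        refine (orderOf_map_dvd (QuotientGroup.mk' H) (x ^ k)).trans (orderOf_dvd_of_pow_eq_one ?_)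
        rw [← pow_mul, ← orderOf_dvd_iff_pow_eq_one]
        refine (orderOf_dvd_natCard x).trans ?_
        rw [← hM]
        exact Nat.mul_dvd_mul_right (Nat.modEq_zero_iff_dvd.mp hk2) _
      exact Nat.eq_one_of_dvd_coprimes hHall h2 h1
    have hz : Nat.Coprime (orderOf (x ^ l)) (Nat.card H) := by
      refine Nat.Coprime.coprime_dvd_left (orderOf_dvd_of_pow_eq_one ?_) hHall.symm
      rw [← pow_mul, ← orderOf_dvd_iff_pow_eq_one]
      refine (orderOf_dvd_natCard x).trans ?_
      rw [← hM, mul_comm H.index]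
      exact Nat.mul_dvd_mul_right (Nat.modEq_zero_iff_dvd.mp hl1) _
    by_cases h1 : x ^ k = 1
    · rw [h1, one_mul] at hyz
      rw [hyz] at hz
      by_contra hno
      push Not at hno
      refine hne (eq_one_of_fixed H (x := x) (fun c hc => ?_) hθ hfix)
      obtain ⟨y, hy, hcomm⟩ := exists_fixed_rep H hz hc
      by_contra hc1
      refine hno _ (H.mul_mem (H.mul_mem hy c.2) (H.inv_mem hy)) ?_ hcomm.eq
      intro e
      exact hc1 (Subtype.ext (conj_eq_one_iff.mp e))
    · exact ⟨x ^ k, hy, h1, ((Commute.refl x).pow_right k).eq⟩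
  · rintro ⟨h, hh, hne, hcomm⟩
    have h2 : 2 ≤ Nat.card {C : ConjClasses H // ∀ n, ConjClasses.mk n = C → IsConj (conjMap H x n) n} := by
      have hfix : ∀ c : H, x * (c : M) * x⁻¹ = c → ∀ n, ConjClasses.mk n = ConjClasses.mk c →
          IsConj (conjMap H x n) n := by
        intro c hc n hn
        have hn' := ConjClasses.mk_eq_mk_iff_isConj.mp hn
        obtain ⟨d, hd⟩ := isConj_iff.mp hn'
        have e : IsConj (conjMap H x n) c := by
          refine isConj_iff.mpr ⟨conjMap H x d, Subtype.ext ?_⟩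
          show x * (d : M) * x⁻¹ * (x * n * x⁻¹) * (x * (d : M) * x⁻¹)⁻¹ = c
          have hd' : (d : M) * n * (d : M)⁻¹ = c := congrArg Subtype.val hd
          calc _ = x * ((d : M) * n * (d : M)⁻¹) * x⁻¹ := by group
            _ = c := by rw [hd', hc]
        exact e.trans hn'.symm
      refine le_trans (le_of_eq (Nat.card_eq_two_iff.mpr ⟨false, true, by simp, by
        ext b; cases b <;> simp⟩ : Nat.card Bool = 2).symm) (Nat.card_le_card_of_injective
        (fun b : Bool => if b then (⟨ConjClasses.mk 1, hfix 1 (by simp)⟩ : {C : ConjClasses H //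
          ∀ n, ConjClasses.mk n = C → IsConj (conjMap H x n) n})
          else ⟨ConjClasses.mk ⟨h, hh⟩, hfix ⟨h, hh⟩ (by rw [hcomm]; group)⟩) ?_)
      have hne' : ConjClasses.mk (⟨h, hh⟩ : H) ≠ ConjClasses.mk 1 := fun e => by
        have := ConjClasses.mk_eq_mk_iff_isConj.mp e
        rw [isConj_one_left] at this
        exact hne (congrArg Subtype.val this)
      intro a b hab
      cases a <;> cases b <;> simp at hab ⊢ <;> first | exact hne' hab | exact hne' hab.symm
    rw [← card_fixed_irr_eq] at h2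
    haveI : Nontrivial {θ : IrrCharacter H // Cfsg.Agent.Lib.Characters.conjFun H x (θ : H → ℂ) = θ} :=
      Finite.one_lt_card_iff_nontrivial.mp h2
    obtain ⟨t, ht⟩ := exists_ne (⟨trivIrr H, funext fun n => rfl⟩ :
      {θ : IrrCharacter H // Cfsg.Agent.Lib.Characters.conjFun H x (θ : H → ℂ) = θ})
    exact ⟨(t.1 : H → ℂ), t.1.2, fun e => ht (Subtype.ext (Subtype.ext e)), t.2⟩

end Cfsg.Agent.S1536
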