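import Cfsg.Statements.S1545
import Cfsg.Agent.Lib.OddChar.FrobeniusFixed
import Cfsg.Agent.Lib.Coprime.Basic

set_option autoImplicit false
open Cfsg

namespace Cfsg.Agent.S1545

open Cfsg.Agent.Lib.OddChar

/-- Let X be a finite group with subgroups U, E and H such that U and E generate a subgroup UE = U ⊔ E normalising H, with U normal in UE, U ⊓ E = ⊥, U ≠ ⊥, E ≠ ⊥, every non-identity element of E commuting with no non-identity element of U (UE is a Frobenius group with kernel U acting on H by conjugation), H solvable, H ⊓ (U ⊔ E) = ⊥ and the orders of H and U ⊔ E coprime. Then Nat.card (H ⊓ C(U ⊔ E)) ^ Nat.card E * Nat.card H = Nat.card (H ⊓ C(E)) ^ Nat.card E * Nat.card (H ⊓ C(U)), where C(·) denotes the centraliser. -/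
theorem result {X : Type*} [Group X] [Finite X] (U E H : Subgroup X) (hU1 : U ≠ ⊥) (hE1 : E ≠ ⊥) (hUE : U ⊓ E = ⊥) (hUn : ∀ e ∈ E, ∀ u ∈ U, e * u * e⁻¹ ∈ U) (hfpf : ∀ e ∈ E, e ≠ 1 → ∀ u ∈ U, e * u = u * e → u = 1) (hHn : ∀ x ∈ U ⊔ E, ∀ h ∈ H, x * h * x⁻¹ ∈ H) (hdisj : H ⊓ (U ⊔ E) = ⊥) (hsolv : Group.IsSolvable H) (hcop : Nat.Coprime (Nat.card H) (Nat.card ↥(U ⊔ E))) : Nat.card ↥(H ⊓ Subgroup.centralizer ((U ⊔ E : Subgroup X) : Set X)) ^ Nat.card E * Nat.card H = Nat.card ↥(H ⊓ Subgroup.centralizer (E : Set X)) ^ Nat.card E * Nat.card ↥(H ⊓ Subgroup.centralizer (U : Set X)) := by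
  classical
  set Y : Subgroup X := U ⊔ E with hY
  haveI := Fintype.ofFinite Y
  set U' := U.subgroupOf Y
  set E' := E.subgroupOf Y
  haveI := Fintype.ofFinite U'
  haveI := Fintype.ofFinite E'
  have hEn : E ≤ Subgroup.normalizer (U : Set X) := by
    intro e he
    rw [Subgroup.mem_set_normalizer_iff]
    intro u
    refine ⟨hUn e he u, fun hu => ?_⟩
    simpa [mul_assoc] using hUn e⁻¹ (E.inv_mem he) _ hu
  haveI : U'.Normal := by
    have hYn : Y ≤ Subgroup.normalizer (U : Set X) := sup_le Subgroup.le_normalizer hEn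
    exact Subgroup.normal_subgroupOf_of_le_normalizer hYn
  have hUY : U ≤ Y := le_sup_left
  have hEY : E ≤ Y := le_sup_right
  have hU'c : Fintype.card U' = Nat.card U := by
    rw [← Nat.card_eq_fintype_card, Nat.card_congr (Subgroup.subgroupOfEquivOfLe hUY).toEquiv]
  have hE'c : Fintype.card E' = Nat.card E := by
    rw [← Nat.card_eq_fintype_card, Nat.card_congr (Subgroup.subgroupOfEquivOfLe hEY).toEquiv]
  have hcard : Fintype.card Y = Fintype.card U' * Fintype.card E' := by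
    rw [hU'c, hE'c, ← Nat.card_eq_fintype_card, hY]
    have := Cfsg.Agent.Lib.Coprime.card_sup_mul_card_inf (N := U) (H := E) hEn
    rw [hUE, Subgroup.card_bot, mul_one] at this
    exact this
  have hUE' : U' ⊓ E' = ⊥ := by
    rw [eq_bot_iff]
    rintro x ⟨h1, h2⟩
    have : (x : X) ∈ U ⊓ E := ⟨Subgroup.mem_subgroupOf.mp h1, Subgroup.mem_subgroupOf.mp h2⟩
    rw [hUE, Subgroup.mem_bot] at this
    exact Subgroup.mem_bot.mpr (Subtype.ext this)
  have hfpf' : ∀ e ∈ E', e ≠ 1 → ∀ u ∈ U', e * u = u * e → u = 1 := fun e he hne u hu h =>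
    Subtype.ext (hfpf e (Subgroup.mem_subgroupOf.mp he) (fun h1 => hne (Subtype.ext h1)) u
      (Subgroup.mem_subgroupOf.mp hu) (congrArg Subtype.val h))
  let φ : Y →* MulAut H := MonoidHom.mk' (fun y =>
    { toFun := fun h => ⟨(y : X) * h * (y : X)⁻¹, hHn y y.2 h h.2⟩
      invFun := fun h => ⟨(y : X)⁻¹ * h * (y : X)⁻¹⁻¹, hHn _ (Y.inv_mem y.2) h h.2⟩
      left_inv := fun h => Subtype.ext (by simp [mul_assoc])
      right_inv := fun h => Subtype.ext (by simp [mul_assoc])
      map_mul' := fun a b => Subtype.ext (by simp [mul_assoc]) })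
    fun a b => MulEquiv.ext fun h => Subtype.ext (by simp [mul_assoc])
  have hfix : ∀ S : Subgroup X, S ≤ Y →
      Nat.card (fixSub φ (S.subgroupOf Y)) = Nat.card ↥(H ⊓ Subgroup.centralizer (S : Set X)) := by
    intro S hS
    refine Nat.card_congr
      { toFun := fun h => ⟨(h.1 : X), h.1.2, Subgroup.mem_centralizer_iff.mpr fun s hs =>
          mul_inv_eq_iff_eq_mul.mp (congrArg Subtype.val (h.2 ⟨s, hS hs⟩ (Subgroup.mem_subgroupOf.mpr hs)))⟩
        invFun := fun h => ⟨⟨h, h.2.1⟩, fun s hs => Subtype.ext ?_⟩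
        left_inv := fun h => rfl
        right_inv := fun h => rfl }
    show (s : X) * h * (s : X)⁻¹ = h
    rw [Subgroup.mem_centralizer_iff.mp h.2.2 s (Subgroup.mem_subgroupOf.mp hs), mul_inv_cancel_right]
  have key := formula_solvable U' E' hUE' hcard hfpf' (Nat.card H) H rfl hsolv
    (by rw [← Nat.card_eq_fintype_card]; exact hcop.symm) φ
  rw [hE'c, hfix U hUY, hfix E hEY, ← Subgroup.subgroupOf_self Y, hfix Y le_rfl] at key
  exact key

end Cfsg.Agent.S1545
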