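import Cfsg.Statements.S1546
import Mathlib.Algebra.Ring.GeomSum
import Mathlib.FieldTheory.Finite.Basic
import Mathlib.RingTheory.Multiplicity
import Mathlib.Tactic

set_option autoImplicit false
open Cfsg

namespace Cfsg.Agent.S1546

/-- Let p and q be odd primes and N = (p ^ q − 1) / (p − 1) = 1 + p + ⋯ + p^(q−1). Then N is odd; if p ≡ 1 (mod q) then q ∣ N; and if p is not ≡ 1 (mod q) then N is coprime to p − 1 and every divisor of N is ≡ 1 (mod q). -/
theorem result (p q : ℕ) (hp : p.Prime) (hq : q.Prime) (hp2 : p ≠ 2) (hq2 : q ≠ 2) : Odd ((p ^ q - 1) / (p - 1)) ∧ (p % q = 1 → q ∣ (p ^ q - 1) / (p - 1)) ∧ (p % q ≠ 1 → Nat.Coprime ((p ^ q - 1) / (p - 1)) (p - 1) ∧ ∀ x : ℕ, x ∣ (p ^ q - 1) / (p - 1) → x % q = 1) := by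
  have hp1 : 1 < p := hp.one_lt
  set N := (p ^ q - 1) / (p - 1) with hN
  have hsum : N = ∑ i ∈ Finset.range q, p ^ i := (Nat.geomSum_eq hp.two_le q).symm
  have hmul : N * (p - 1) = p ^ q - 1 := by
    rw [hsum]; exact geom_sum_mul_of_one_le hp1.le q
  have hcast : ∀ r : ℕ, (p : ZMod r) = 1 → (N : ZMod r) = (q : ZMod r) := fun r h => by
    rw [hsum, Nat.cast_sum]
    simp [h]
  have hodd : Odd N := by
    rw [← ZMod.natCast_eq_one_iff_odd, hcast 2 (ZMod.natCast_eq_one_iff_odd.mpr (hp.odd_of_ne_two hp2))]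
    exact ZMod.natCast_eq_one_iff_odd.mpr (hq.odd_of_ne_two hq2)
  refine ⟨hodd, fun h1 => ?_, fun h1 => ?_⟩
  · have hp' : (p : ZMod q) = 1 := by
      rw [← Nat.cast_one, ZMod.natCast_eq_natCast_iff', h1, Nat.mod_eq_of_lt hq.one_lt]
    have := hcast q hp'
    rw [ZMod.natCast_self] at this
    exact (ZMod.natCast_eq_zero_iff N q).mp this
  · have hprime : ∀ r : ℕ, r.Prime → r ∣ N → r % q = 1 ∧ ¬ r ∣ p - 1 := by
      intro r hr hrN
      haveI := Fact.mk hr
      have hN0 : (N : ZMod r) = 0 := (ZMod.natCast_eq_zero_iff N r).mpr hrN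
      have hne : ¬ r ∣ p - 1 := by
        intro hd
        have hp' : (p : ZMod r) = 1 := by
          obtain ⟨k, hk⟩ := hd
          rw [show p = 1 + r * k by omega]; simp
        have h2 := (hcast r hp').symm.trans hN0
        rw [ZMod.natCast_eq_zero_iff, Nat.prime_dvd_prime_iff_eq hr hq] at h2
        subst h2
        obtain ⟨k, hk⟩ := hd
        exact h1 (by rw [show p = 1 + r * k by omega, Nat.add_mul_mod_self_left, Nat.mod_eq_of_lt hq.one_lt])
      refine ⟨?_, hne⟩
      have hpq : (p : ZMod r) ^ q = 1 := by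
        have h3 : p ^ q = N * (p - 1) + 1 := by
          rw [hmul]; have := Nat.one_le_pow q p hp.pos; omega
        rw [← Nat.cast_pow, h3]; simp [hN0]
      have hne1 : (p : ZMod r) ≠ 1 := by
        intro h
        apply hne
        have : ((p - 1 : ℕ) : ZMod r) = 0 := by
          rw [Nat.cast_sub hp1.le, h]; simp
        exact (ZMod.natCast_eq_zero_iff _ r).mp this
      have hp0 : (p : ZMod r) ≠ 0 := fun h => by simp [h, hq.ne_zero] at hpq
      have hord : orderOf (p : ZMod r) = q := by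
        rcases hq.eq_one_or_self_of_dvd _ (orderOf_dvd_of_pow_eq_one hpq) with h | h
        · exact absurd (orderOf_eq_one_iff.mp h) hne1
        · exact h
      obtain ⟨k, hk⟩ : q ∣ r - 1 := by
        rw [← hord]
        exact orderOf_dvd_of_pow_eq_one (ZMod.pow_card_sub_one_eq_one hp0)
      have := hr.two_le
      rw [show r = 1 + q * k by omega, Nat.add_mul_mod_self_left, Nat.mod_eq_of_lt hq.one_lt]
    refine ⟨Nat.coprime_of_dvd fun r hr h2 h3 => (hprime r hr h2).2 h3, fun x hx => ?_⟩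
    induction x using Nat.recOnMul with
    | zero => exact absurd (Nat.eq_zero_of_zero_dvd hx ▸ hodd) (by decide)
    | one => exact Nat.mod_eq_of_lt hq.one_lt
    | prime r hr => exact (hprime r hr hx).1
    | mul a b iha ihb =>
      rw [Nat.mul_mod, iha (dvd_trans (dvd_mul_right a b) hx), ihb (dvd_trans (dvd_mul_left b a) hx)]
      simp [Nat.mod_eq_of_lt hq.one_lt]

end Cfsg.Agent.S1546
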