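import Cfsg.Statements.S1551
import Cfsg.Agent.Lib.Golay.StabIso
import Cfsg.Agent.Lib.Golay.StabStructData
-- import your own Cfsg.Agent.* helpers here

set_option autoImplicit false
open scoped Pointwise
open Cfsg

namespace Cfsg.Agent.S1551

open Cfsg.Agent.Lib.Compute Cfsg.Agent.Lib.GolayOrbit Cfsg.Agent.Lib.M24Geom Equiv

theorem sextet_facts : chk 24 sexNCert = true ∧ certOrder sexNCert = 64 ∧ elemAbelOk sexNCert = true ∧
    normOk sexCertGens sexNCert sexNCertConj = true ∧ certOrder sexCert = 138240 ∧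
    patternCount 24 (fixPts 0) ((unpack 6 sex0).map fun m => (m, m)) m24Cert id = 192 := by
  decide +kernel

theorem sexN_sub : (gensOf sexNCert).all (fun P => (List.range 24).all (fun i => app P (app P i) == i) &&
    (unpack 6 sex0).all (fun m => imgMask P m == m) && presOk P) = true := by
  decide +kernel

theorem sexN_le : gpGrp sexNCert ≤ gpGrp sexCert := by
  refine gpGrp_le_of_gens fun P hP => ?_
  have h := List.all_eq_true.1 sexN_sub P hP
  simp only [Bool.and_eq_true, List.all_eq_true, beq_iff_eq] at h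
  obtain ⟨hv, hm⟩ := valid_gensOf sextet_facts.1 hP
  refine mem_sexCert.2 ⟨toGP_mem_M24_of_presOk hv.repr h.2, ?_⟩
  refine Finset.eq_of_subset_of_card_le (fun s hs => ?_) (by rw [Finset.card_smul_finset])
  obtain ⟨t, ht, rfl⟩ := Finset.mem_smul_finset.1 hs
  obtain ⟨m, hm', rfl⟩ := mem_family.1 ht
  refine mem_family.2 ⟨m, hm', ?_⟩
  rw [← setOf24_imgMask hv m, h.1.2 m hm']

/-- Structure of a sextet stabiliser: it induces every permutation of the six tetrads, the subgroup fixing each tetrad setwise has order 192, and there is a normal subgroup of order 64 consisting of elements squaring to the identity. -/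
theorem result (S : Finset (Finset Cfsg.GolayPt)) (hS : S ∈ Cfsg.sextets) : (∀ e : Equiv.Perm ↥S, ∃ g ∈ MulAction.stabilizer Cfsg.M24 S, ∀ t : ↥S, (g : Equiv.Perm Cfsg.GolayPt) • (t : Finset Cfsg.GolayPt) = ((e t : ↥S) : Finset Cfsg.GolayPt)) ∧ Nat.card {g : ↥(MulAction.stabilizer Cfsg.M24 S) // ∀ t ∈ S, ((g : Cfsg.M24) : Equiv.Perm Cfsg.GolayPt) • t = t} = 192 ∧ ∃ N : Subgroup ↥(MulAction.stabilizer Cfsg.M24 S), N.Normal ∧ Nat.card N = 64 ∧ ∀ x ∈ N, x * x = 1 := by
  obtain ⟨hchk, hN64, hA, hW, hord, hcount⟩ := sextet_facts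
  obtain ⟨g, hg, hgS⟩ := exists_to_baseSextet hS
  obtain ⟨f, hf⟩ := exists_stab_iso hg hgS fun σ => mem_sexCert
  have hcardH : Nat.card ↥(MulAction.stabilizer M24 S) = 138240 := by
    rw [Nat.card_congr f.toEquiv, card_gpGrp sexCert_stab.chk_c', hord]
  have h192 : Nat.card {a : ↥(MulAction.stabilizer M24 S) //
      ∀ t ∈ S, ((a : M24) : Perm GolayPt) • t = t} = 192 := by
    rw [← hcount, ← card_pointFits]
    have key : ∀ σ : Perm GolayPt, (∀ t ∈ S, σ • t = t) ↔
        ∀ m ∈ unpack 6 sex0, (g * σ * g⁻¹) • setOf24 m = setOf24 m := by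
      intro σ
      constructor
      · intro h m hm
        have : setOf24 m ∈ g • S := hgS ▸ mem_family.2 ⟨m, hm, rfl⟩
        obtain ⟨t, ht, hte⟩ := Finset.mem_smul_finset.1 this
        rw [← hte, mul_smul, inv_smul_smul, mul_smul, h t ht]
      · intro h t ht
        have : g • t ∈ baseSextet := hgS ▸ Finset.smul_mem_smul_finset ht
        obtain ⟨m, hm, hme⟩ := mem_family.1 this
        have h1 := h m hm
        rw [hme, mul_smul, inv_smul_smul, mul_smul, smul_left_cancel_iff] at h1
        exact h1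
    have hp : ∀ τ : Perm GolayPt, PointFits (fixPts 0) ((unpack 6 sex0).map fun m => (m, m)) τ ↔
        ∀ m ∈ unpack 6 sex0, τ • setOf24 m = setOf24 m := fun τ => by
      rw [pointFits_fix, setOf24_zero]
      exact and_iff_right fun p hp => absurd hp (Finset.notMem_empty p)
    refine Nat.card_congr (Equiv.ofBijective (fun a => ⟨(f a.1 : Perm GolayPt),
      (mem_sexCert.1 (f a.1).2).1, (hp _).2 (by rw [hf]; exact (key _).1 a.2)⟩) ⟨fun a b h => ?_, ?_⟩)
    · exact Subtype.ext (f.injective (Subtype.ext (congrArg Subtype.val h :)))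
    · rintro ⟨τ, hτ, hτm⟩
      have hfix := (hp τ).1 hτm
      have hτS : τ ∈ gpGrp sexCert := by
        refine mem_sexCert.2 ⟨hτ, Finset.eq_of_subset_of_card_le (fun s hs => ?_)
          (by rw [Finset.card_smul_finset])⟩
        obtain ⟨t, ht, rfl⟩ := Finset.mem_smul_finset.1 hs
        obtain ⟨m, hm, rfl⟩ := mem_family.1 ht
        rw [hfix m hm]; exact ht
      refine ⟨⟨f.symm ⟨τ, hτS⟩, (key _).2 ?_⟩, Subtype.ext ?_⟩
      · rw [← hf, f.apply_symm_apply]; exact hfix
      · show ((f (f.symm ⟨τ, hτS⟩) : ↥(gpGrp sexCert)) : Perm GolayPt) = τ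
        rw [f.apply_symm_apply]
  refine ⟨?_, h192, ?_⟩
  · have hmem : ∀ (a : ↥(MulAction.stabilizer M24 S)) (t : Finset GolayPt),
        ((a : M24) : Perm GolayPt) • t ∈ S ↔ t ∈ S := by
      intro a t
      have h := Finset.smul_mem_smul_finset_iff (s := S) ((a : M24) : Perm GolayPt) (b := t)
      rwa [show ((a : M24) : Perm GolayPt) • S = S from a.2] at h
    let ρ : ↥(MulAction.stabilizer M24 S) →* Perm ↥S := MonoidHom.mk'
      (fun a => (MulAction.toPerm ((a : M24) : Perm GolayPt)).subtypePerm (fun t => hmem a t))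
      fun a b => Equiv.ext fun t => Subtype.ext (mul_smul ((a : M24) : Perm GolayPt) ((b : M24) : Perm GolayPt) t.1)
    have hker : Nat.card ρ.ker = 192 := by
      rw [← h192]
      refine Nat.card_congr (Equiv.subtypeEquivRight fun a => ?_)
      exact ⟨fun h t ht => congrArg Subtype.val (DFunLike.congr_fun h (⟨t, ht⟩ : ↥S)),
        fun h => Equiv.ext fun t => Subtype.ext (h t.1 t.2)⟩
    have hsurj : Function.Surjective ρ := by
      have h := Subgroup.card_mul_index ρ.ker
      rw [Subgroup.index_ker, hker, hcardH] at h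
      rw [← MonoidHom.range_eq_top, ← Subgroup.card_eq_iff_eq_top, Nat.card_perm,
        Nat.card_eq_fintype_card (α := ↥S), Fintype.card_coe, hS.1]
      simp only [Nat.factorial]
      omega
    intro e
    obtain ⟨a, ha⟩ := hsurj e
    exact ⟨a.1, a.2, fun t => congrArg Subtype.val (DFunLike.congr_fun ha t)⟩
  · refine ⟨((gpGrp sexNCert).subgroupOf (gpGrp sexCert)).comap f.toMonoidHom, ?_, ?_, ?_⟩
    · refine ⟨fun a ha b => ?_⟩
      rw [Subgroup.mem_comap, Subgroup.mem_subgroupOf] at ha ⊢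
      rw [map_mul, map_mul, map_inv, Subgroup.coe_mul, Subgroup.coe_mul, Subgroup.coe_inv]
      exact conj_mem_of_normOk sexCert_stab.gensFor' hchk hW (f b).2 ha
    · rw [Nat.card_congr (Equiv.subtypeEquiv f.toEquiv (fun a => Iff.rfl) :
          ↥(((gpGrp sexNCert).subgroupOf (gpGrp sexCert)).comap f.toMonoidHom) ≃
            ↥((gpGrp sexNCert).subgroupOf (gpGrp sexCert))),
        Nat.card_congr (Subgroup.subgroupOfEquivOfLe sexN_le).toEquiv, card_gpGrp hchk, hN64]
    · intro a ha
      apply f.injective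
      apply Subtype.ext
      rw [map_mul, map_one, Subgroup.coe_mul, Subgroup.coe_one]
      exact mul_self_eq_one_of_elemAbelOk hchk hA ha

end Cfsg.Agent.S1551
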