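import Cfsg.Statements.S1552
import Cfsg.Agent.Lib.Golay.Suborbit
import Cfsg.Agent.Lib.Golay.Sextets
import Cfsg.Agent.Lib.Golay.SextetSub

set_option autoImplicit false
open scoped Pointwise
open Cfsg

namespace Cfsg.Agent.S1552

open Cfsg.Agent.Lib.Compute Cfsg.Agent.Lib.GolayOrbit

/-- A sextet stabiliser has four orbits on the 1771 sextets, of sizes 1, 90, 240, 1440; and the stabiliser is a maximal proper subgroup. -/
theorem result (S : Finset (Finset Cfsg.GolayPt)) (hS : S ∈ Cfsg.sextets) : ∃ X₁ ∈ Cfsg.sextets, ∃ X₂ ∈ Cfsg.sextets, ∃ X₃ ∈ Cfsg.sextets, (MulAction.orbit ↥(MulAction.stabilizer Cfsg.M24 S) X₁).ncard = 90 ∧ (MulAction.orbit ↥(MulAction.stabilizer Cfsg.M24 S) X₂).ncard = 240 ∧ (MulAction.orbit ↥(MulAction.stabilizer Cfsg.M24 S) X₃).ncard = 1440 ∧ Cfsg.sextets = {S} ∪ MulAction.orbit ↥(MulAction.stabilizer Cfsg.M24 S) X₁ ∪ MulAction.orbit ↥(MulAction.stabilizer Cfsg.M24 S) X₂ ∪ MulAction.orbit ↥(MulAction.stabilizer Cfsg.M24 S) X₃ ∧ IsCoatom (MulAction.stabilizer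 Cfsg.M24 S) := by
  obtain ⟨g, hg, hgS⟩ := exists_to_baseSextet hS
  have hall : Cfsg.sextets = g⁻¹ • ((familyCoding 6).dec '' {k | k ∈ sexTree.keys}) := by
    ext X
    rw [Set.mem_smul_set_iff_inv_smul_mem, inv_inv, sexCert_stab.mem_dec_image]
    refine ⟨fun hX => ?_, fun ⟨σ, hσ, he⟩ => ?_⟩
    · rw [← sexCert_stab.mem_dec_image]
      obtain ⟨k, hk, hke⟩ := exists_sextet_key (smul_mem_sextets hg hX)
      exact ⟨k, hk, hke⟩
    · have := smul_mem_sextets (inv_mem hg) (smul_mem_sextets (mem_gpGrp_m24.1 hσ) baseSextet_mem)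
      rwa [show σ • baseSextet = g • X from he, inv_smul_smul] at this
  have hkeys := keys_eq_union (x0 := sex0) (t := sexTree) [sextetOrb1, sextetOrb2, sextetOrb3]
    (by decide +kernel) (by decide +kernel) (by decide +kernel)
  have hX1 : g⁻¹ • (familyCoding 6).dec 11150419558403180716445210652446611810058640 ∈ Cfsg.sextets := by
    rw [hall]
    refine Set.smul_mem_smul_set ⟨11150419558403180716445210652446611810058640, ?_, rfl⟩
    rw [hkeys]
    exact Or.inr ⟨sextetOrb1, by simp, orb_start (familyCoding 6) sextetOrb1_ok⟩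
  have hX2 : g⁻¹ • (familyCoding 6).dec 11150382242010895008167239022564679587348520 ∈ Cfsg.sextets := by
    rw [hall]
    refine Set.smul_mem_smul_set ⟨11150382242010895008167239022564679587348520, ?_, rfl⟩
    rw [hkeys]
    exact Or.inr ⟨sextetOrb2, by simp, orb_start (familyCoding 6) sextetOrb2_ok⟩
  have hX3 : g⁻¹ • (familyCoding 6).dec 11150398192745892532567903276847130220724640 ∈ Cfsg.sextets := by
    rw [hall]
    refine Set.smul_mem_smul_set ⟨11150398192745892532567903276847130220724640, ?_, rfl⟩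
    rw [hkeys]
    exact Or.inr ⟨sextetOrb3, by simp, orb_start (familyCoding 6) sextetOrb3_ok⟩
  refine ⟨_, hX1, _, hX2, _, hX3, ?_, ?_, ?_, ?_, ?_⟩
  · rw [sexCert_stab.ncard_orbit_conj hg hgS sextetOrb1_ok sextetOrb1_incr, sextetOrb1_length]
  · rw [sexCert_stab.ncard_orbit_conj hg hgS sextetOrb2_ok sextetOrb2_incr, sextetOrb2_length]
  · rw [sexCert_stab.ncard_orbit_conj hg hgS sextetOrb3_ok sextetOrb3_incr, sextetOrb3_length]
  · rw [hall, hkeys, sexCert_stab.orbit_conj hg hgS sextetOrb1_ok, sexCert_stab.orbit_conj hg hgS sextetOrb2_ok, sexCert_stab.orbit_conj hg hgS sextetOrb3_ok,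
      show ({S} : Set (Finset (Finset Cfsg.GolayPt))) = g⁻¹ • ({baseSextet} : Set _) by
        rw [Set.smul_set_singleton, ← hgS, inv_smul_smul]]
    simp only [← Set.smul_set_union]
    congr 1
    ext y
    simp only [Set.mem_image, Set.mem_union, Set.mem_singleton_iff, List.mem_cons, List.not_mem_nil,
      or_false, Set.mem_setOf_eq, or_and_right, exists_or, exists_eq_left, or_assoc, baseSextet]
    exact ⟨fun h => h.imp_left Eq.symm, fun h => h.imp_left Eq.symm⟩
  · exact sexCert_stab.isCoatom_conj hg hgS sextetSubs sextetSubs_ok sextetSubs_cover (by decide +kernel)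

end Cfsg.Agent.S1552
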