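import Cfsg.Statements.S1555
import Cfsg.Agent.Lib.Golay.Octads

set_option autoImplicit false
open scoped Pointwise
open Cfsg

namespace Cfsg.Agent.S1555

open Cfsg.Agent.Lib.Compute Cfsg.Agent.Lib.GolayOrbit


/-- Bottom row of the Leech triangle: an octad is met in a prescribed pair of its points by exactly 16 octads and in a prescribed 4-subset by exactly 4 octads. -/
theorem result (o : Finset Cfsg.GolayPt) (ho : o ∈ Cfsg.octads) (s : Finset Cfsg.GolayPt) (hs : s ⊆ o) : (s.card = 2 → {o' : Finset Cfsg.GolayPt | o' ∈ Cfsg.octads ∧ o ∩ o' = s}.ncard = 16) ∧ (s.card = 4 → {o' : Finset Cfsg.GolayPt | o' ∈ Cfsg.octads ∧ o ∩ o' = s}.ncard = 4) := by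
  obtain ⟨g, hg, hgo⟩ := exists_to_baseOctad ho
  have hcount : {o' : Finset GolayPt | o' ∈ octads ∧ o ∩ o' = s}.ncard =
      octadList.countP fun m => oct0 &&& m == maskOf (g • s) := by
    rw [ncard_transport g (fun o' => o' ∈ octads ∧ o ∩ o' = s)
      (fun o' => o' ∈ octads ∧ baseOctad ∩ o' = g • s) (fun x => by
        rw [mem_octads_smul_iff hg, ← hgo, ← Finset.smul_finset_inter, smul_left_cancel_iff])]
    exact ncard_octads_filter _ _ fun m hm => by
      conv_lhs => rw [baseOctad, ← setOf24_and, ← setOf24_maskOf (g • s)]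
      rw [beq_iff_eq]
      exact ⟨fun h => setOf24_injOn (lt_of_le_of_lt Nat.and_le_left (by decide)) (maskOf_lt _) h,
        fun h => by rw [h]⟩
  have hsub : maskOf (g • s) &&& oct0 = maskOf (g • s) := by
    rw [← setOf24_subset (maskOf_lt _), setOf24_maskOf]
    show g • s ⊆ baseOctad
    rw [← hgo]
    exact Finset.smul_finset_subset_smul_finset hs
  have hpop : popN (maskOf (g • s)) = s.card := by
    rw [popN_eq, ← card_setOf24, setOf24_maskOf, Finset.card_smul_finset]
  have hlt : maskOf (g • s) < oct0 + 1 := by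
    have := Nat.and_le_right (n := maskOf (g • s)) (m := oct0)
    omega
  have table : ((List.range (oct0 + 1)).all fun u => !(u &&& oct0 == u) ||
      (bif popN u == 2 then (octadList.countP fun m => oct0 &&& m == u) == 16 else true) &&
      (bif popN u == 4 then (octadList.countP fun m => oct0 &&& m == u) == 4 else true)) = true := by
    decide +kernel
  have h := List.all_eq_true.1 table _ (List.mem_range.2 hlt)
  simp only [hsub, beq_self_eq_true, Bool.not_true, Bool.false_or, Bool.and_eq_true, hpop] at h
  refine ⟨fun h2 => ?_, fun h4 => ?_⟩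
  · rw [hcount]
    simpa [h2] using h.1
  · rw [hcount]
    simpa [h4] using h.2

end Cfsg.Agent.S1555
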