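import Cfsg.Statements.S1556
import Cfsg.Agent.Lib.Golay.Octads

set_option autoImplicit false
open scoped Pointwise
open Cfsg

namespace Cfsg.Agent.S1556

open Cfsg.Agent.Lib.Compute Cfsg.Agent.Lib.GolayOrbit


/-- Two octads meeting a fixed octad in equally many points are in the same orbit of its stabiliser. -/
theorem result (o o' o'' : Finset Cfsg.GolayPt) (ho : o ∈ Cfsg.octads) (ho' : o' ∈ Cfsg.octads) (ho'' : o'' ∈ Cfsg.octads) (h : (o ∩ o').card = (o ∩ o'').card) : ∃ g : Equiv.Perm Cfsg.GolayPt, g ∈ Cfsg.M24 ∧ g • o = o ∧ g • o' = o'' := by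
  obtain ⟨g, hg, hgo⟩ := exists_to_baseOctad ho
  obtain ⟨k, hk, hk0, hke⟩ := octad_rel (smul_mem_octads hg ho') (smul_mem_octads hg ho'')
    (by rw [← hgo, card_inter_smul, card_inter_smul]; exact h)
  refine ⟨g⁻¹ * k * g, mul_mem (mul_mem (inv_mem hg) hk) hg, ?_, ?_⟩
  · rw [mul_smul, mul_smul, hgo, hk0, ← hgo, inv_smul_smul]
  · rw [mul_smul, mul_smul, hke, inv_smul_smul]

end Cfsg.Agent.S1556
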