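import Cfsg.Statements.S1557
import Cfsg.Agent.Lib.Golay.Trios

set_option autoImplicit false
open scoped Pointwise
open Cfsg

namespace Cfsg.Agent.S1557

open Cfsg.Agent.Lib.Compute Cfsg.Agent.Lib.GolayOrbit


/-- The complement of the union of two disjoint octads is an octad, and the code has exactly 3795 trios of pairwise disjoint octads. -/
theorem result : (∀ o o' : Finset Cfsg.GolayPt, o ∈ Cfsg.octads → o' ∈ Cfsg.octads → Disjoint o o' → (o ∪ o')ᶜ ∈ Cfsg.octads) ∧ Cfsg.trios.ncard = 3795 := by
  have key : (octadList.all fun m => !(oct0 &&& m == 0) ||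
      octadList.contains ((oct0 ||| m) ^^^ 16777215)) = true := by decide +kernel
  refine ⟨fun o o' ho ho' hd => ?_, ?_⟩
  · obtain ⟨g, hg, hgo⟩ := exists_to_baseOctad ho
    obtain ⟨m, hm, hme⟩ := exists_octad_mask (smul_mem_octads hg ho')
    have hd' : oct0 &&& m = 0 := by
      rw [← disjoint_setOf24 (lt_of_mem_octadList oct0_mem), hme]
      show Disjoint baseOctad _
      rw [← hgo, Finset.disjoint_iff_inter_eq_empty, ← Finset.smul_finset_inter,
        Finset.disjoint_iff_inter_eq_empty.1 hd, Finset.smul_finset_empty]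
    have h := List.all_eq_true.1 key m hm
    rw [hd'] at h
    simp only [beq_self_eq_true, Bool.not_true, Bool.false_or, List.contains_iff_mem] at h
    have h2 := mem_octads_of_mask h
    rw [setOf24_compl, setOf24_or, hme, show setOf24 oct0 = g • o from hgo.symm] at h2
    rw [← mem_octads_smul_iff hg]
    have e : g • (o ∪ o')ᶜ = (g • o ∪ g • o')ᶜ := by
      ext x
      simp [← Finset.inv_smul_mem_iff, Finset.mem_compl]
    rwa [e]
  · exact trios_ncard

end Cfsg.Agent.S1557
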