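import Cfsg.Statements.S1558
import Cfsg.Agent.Lib.Golay.StabIso
import Cfsg.Agent.Lib.Golay.StabStructData
-- import your own Cfsg.Agent.* helpers here

set_option autoImplicit false
open scoped Pointwise
open Cfsg

namespace Cfsg.Agent.S1558

open Cfsg.Agent.Lib.Compute Cfsg.Agent.Lib.GolayOrbit Equiv

/-- The code of an object. -/
def objCode (i : Fin 11) : ℕ × ℕ := trioObjList.getD i.val (0, 0)

/-- The eleven objects: the trio, seven sextets refining it, the three octads. -/
def obj (i : Fin 11) : Finset (Finset GolayPt) := (familyCoding (objCode i).1).dec (objCode i).2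

/-- The check on the action of the two generators. -/
def actOk : Bool :=
  Nat.beq trioCertGens.length 2 && Nat.beq trioActList.length 2 &&
    (List.range 2).all fun j => (List.range 11).all fun i =>
      match trioCertGens[j]?, trioActList[j]?, trioObjList[i]? with
      | some g, some P, some o => decide (app P i < 11) &&
          Nat.beq (trioObjList.getD (app P i) (0, 0)).1 o.1 &&
          Nat.beq ((familyCoding o.1).img g o.2) (trioObjList.getD (app P i) (0, 0)).2
      | _, _, _ => false

theorem act_ok : actOk = true := by decide +kernel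

theorem obj_good : trioObjList.length = 11 ∧
    trioObjList.all (fun o => (familyCoding o.1).good o.2) = true ∧
    decide trioObjList.Nodup = true ∧ trioObjList.getD 0 (0, 0) = (3, trio0) ∧
    (List.range 3).map (fun j => trioObjList.getD (8 + j) (0, 0)) = (unpack 3 trio0).map (fun m => (1, m)) ∧
    Nat.beq trioNCert.length 2 = true := by
  decide +kernel

theorem quot_ok : chk 11 trioQuotCert = true ∧ slpOk 11 trioQuotBase trioQuotSteps = true ∧
    slpCovers trioQuotBase trioQuotSteps trioQuotCert = true ∧ certOrder trioQuotCert = 1008 ∧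
    trioQuotBase = trioActList := by
  decide +kernel

theorem n_ok : chk 24 trioNCert = true ∧ certOrder trioNCert = 64 ∧ elemAbelOk trioNCert = true ∧
    certOrder trioCert = 64512 ∧
    (gensOf trioNCert).all (fun P => presOk P && trioObjList.all fun o =>
      (unpack o.1 o.2).all fun m => (unpack o.1 o.2).contains (imgMask P m)) = true := by
  decide +kernel

theorem objCode_good (i : Fin 11) : (familyCoding (objCode i).1).good (objCode i).2 = true := by
  have hi : (i : ℕ) < trioObjList.length := by rw [obj_good.1]; exact i.isLt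
  rw [objCode, List.getD_eq_getElem _ _ hi]
  exact List.all_eq_true.1 obj_good.2.1 _ (List.getElem_mem hi)

theorem card_obj (i : Fin 11) : (obj i).card = (objCode i).1 := card_family (objCode_good i)

theorem obj_injective : Function.Injective obj := by
  intro i j h
  have hn : (objCode i).1 = (objCode j).1 := by rw [← card_obj, ← card_obj, h]
  have hk : (objCode i).2 = (objCode j).2 := by
    refine (familyCoding (objCode i).1).inj _ _ (objCode_good i) (hn ▸ objCode_good j) ?_
    rw [obj, obj, ← hn] at h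
    exact h
  have hnd : trioObjList.Nodup := of_decide_eq_true obj_good.2.2.1
  have hi : (i : ℕ) < trioObjList.length := by rw [obj_good.1]; exact i.isLt
  have hj : (j : ℕ) < trioObjList.length := by rw [obj_good.1]; exact j.isLt
  have he : objCode i = objCode j := Prod.ext hn hk
  rw [objCode, objCode, List.getD_eq_getElem _ _ hi, List.getD_eq_getElem _ _ hj] at he
  exact Fin.ext (hnd.getElem_inj_iff.1 he)

theorem obj_gen {j : ℕ} (hj : j < trioCertGens.length) :
    ∃ P, trioActList[j]? = some P ∧ ∀ i : Fin 11, ∃ h : app P i < 11,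
      genPerm trioCertGens[j] • obj i = obj ⟨app P i, h⟩ := by
  have h := act_ok
  simp only [actOk, Bool.and_eq_true, List.all_eq_true, List.mem_range] at h
  obtain ⟨⟨hl, hl'⟩, hall⟩ := h
  have hj2 : j < 2 := Nat.eq_of_beq_eq_true hl ▸ hj
  have hjl : j < trioActList.length := by rw [Nat.eq_of_beq_eq_true hl']; exact hj2
  refine ⟨trioActList[j], List.getElem?_eq_getElem hjl, fun i => ?_⟩
  have hi : (i : ℕ) < trioObjList.length := by rw [obj_good.1]; exact i.isLt
  have hc := hall j hj2 i i.isLt
  rw [List.getElem?_eq_getElem hj, List.getElem?_eq_getElem hjl, List.getElem?_eq_getElem hi] at hc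
  simp only [Bool.and_eq_true, decide_eq_true_eq] at hc
  obtain ⟨⟨hlt, hn⟩, hk⟩ := hc
  refine ⟨hlt, ?_⟩
  have hoi : objCode i = trioObjList[(i : ℕ)] := List.getD_eq_getElem _ _ hi
  rw [obj, ← (familyCoding (objCode i).1).spec _ _ (trioCert_gensFor.valid _ (List.getElem_mem hj))
    (objCode_good i), hoi, Nat.eq_of_beq_eq_true hk, obj, objCode, Nat.eq_of_beq_eq_true hn]

/-- The stabiliser of the base trio. -/
noncomputable abbrev H : Subgroup (Perm GolayPt) := gpGrp trioCert

theorem maps_obj (σ : H) (i : Fin 11) : ∃ j, (σ : Perm GolayPt) • obj i = obj j := by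
  have hle : H ≤ MulAction.stabilizer (Perm GolayPt) (Set.range obj) := by
    refine gpGrp_le_of_gensFor trioCert_gensFor fun g hg => ?_
    obtain ⟨j, hj, rfl⟩ := List.getElem_of_mem hg
    obtain ⟨P, -, hP⟩ := obj_gen hj
    refine Set.eq_of_subset_of_ncard_le (fun s hs => ?_) (by rw [Set.ncard_smul_set]) (Set.finite_range _)
    obtain ⟨_, ⟨i, rfl⟩, rfl⟩ := Set.mem_smul_set.1 hs
    obtain ⟨h, he⟩ := hP i
    exact ⟨_, he.symm⟩
  have := Set.smul_mem_smul_set (a := (σ : Perm GolayPt)) (Set.mem_range_self (f := obj) i)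
  rw [show (σ : Perm GolayPt) • Set.range obj = Set.range obj from hle σ.2] at this
  obtain ⟨j, hj⟩ := this
  exact ⟨j, hj.symm⟩

/-- The induced map of the eleven objects. -/
noncomputable def imgIdx (σ : H) (i : Fin 11) : Fin 11 := (maps_obj σ i).choose

theorem obj_imgIdx (σ : H) (i : Fin 11) : obj (imgIdx σ i) = (σ : Perm GolayPt) • obj i :=
  (maps_obj σ i).choose_spec.symm

theorem imgIdx_bijective (σ : H) : Function.Bijective (imgIdx σ) :=
  Finite.injective_iff_bijective.1 fun a b h => obj_injective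
    (smul_left_cancel (σ : Perm GolayPt) (by rw [← obj_imgIdx, ← obj_imgIdx, h]))

/-- The action on the eleven objects. -/
noncomputable def act : H →* Perm (Fin 11) :=
  MonoidHom.mk' (fun σ => Equiv.ofBijective _ (imgIdx_bijective σ)) fun σ τ => Equiv.ext fun i =>
    obj_injective (by
      show obj (imgIdx (σ * τ) i) = obj (imgIdx σ (imgIdx τ i))
      rw [obj_imgIdx, obj_imgIdx, obj_imgIdx, Subgroup.coe_mul, mul_smul])

theorem obj_act (σ : H) (i : Fin 11) : obj (act σ i) = (σ : Perm GolayPt) • obj i := obj_imgIdx σ i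

theorem act_gen {j : ℕ} (hj : j < trioCertGens.length) :
    ∃ P, trioActList[j]? = some P ∧
      act ⟨genPerm trioCertGens[j], trioCert_gensFor.genPerm_mem (List.getElem_mem hj)⟩ = toPerm 11 P := by
  obtain ⟨P, hP, hall⟩ := obj_gen hj
  refine ⟨P, hP, (repr_toPerm_of_repr fun i => ?_).symm⟩
  obtain ⟨h, he⟩ := hall i
  have := obj_injective ((obj_act ⟨genPerm trioCertGens[j],
    trioCert_gensFor.genPerm_mem (List.getElem_mem hj)⟩ i).trans he)
  exact congrArg Fin.val this

/-- An invertible matrix as a permutation of the vectors. -/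
noncomputable def vecPerm : GL (Fin 3) (ZMod 2) →* Perm (Fin 3 → ZMod 2) :=
  MonoidHom.mk' (fun M =>
    { toFun := fun v => Matrix.mulVec M.1 v
      invFun := fun v => Matrix.mulVec (M⁻¹).1 v
      left_inv := fun v => by simp [Matrix.mulVec_mulVec, ← Units.val_mul]
      right_inv := fun v => by simp [Matrix.mulVec_mulVec, ← Units.val_mul] })
    fun M N => Equiv.ext fun v => (Matrix.mulVec_mulVec v M.1 N.1).symm

/-- Vectors and three further points as eleven points. -/
def lbl : (Fin 3 → ZMod 2) ⊕ Fin 3 ≃ Fin 11 :=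
  ((finFunctionFinEquiv : (Fin 3 → Fin 2) ≃ Fin (2 ^ 3)).sumCongr (Equiv.refl (Fin 3))).trans
    finSumFinEquiv

/-- `GL(3,2) × S₃` on eleven points. -/
noncomputable def model : GL (Fin 3) (ZMod 2) × Perm (Fin 3) →* Perm (Fin 11) :=
  lbl.permCongrHom.toMonoidHom.comp
    ((Perm.sumCongrHom (Fin 3 → ZMod 2) (Fin 3)).comp (vecPerm.prodMap (MonoidHom.id _)))

theorem model_apply (x : GL (Fin 3) (ZMod 2) × Perm (Fin 3)) (i : Fin 11) :
    model x i = lbl (Sum.map (fun v => Matrix.mulVec x.1.1 v) x.2 (lbl.symm i)) := rfl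

theorem model_injective : Function.Injective model := by
  intro x y h
  have h' : ∀ s, Sum.map (fun v => Matrix.mulVec x.1.1 v) x.2 s =
      Sum.map (fun v => Matrix.mulVec y.1.1 v) y.2 s := fun s => by
    have := congrFun (congrArg (fun e : Perm (Fin 11) => (e : Fin 11 → Fin 11)) h) (lbl s)
    simpa [model_apply] using this
  refine Prod.ext (Units.ext (Matrix.ext_of_mulVec_single fun j => ?_)) (Equiv.ext fun j => ?_)
  · exact Sum.inl.inj (h' (Sum.inl _))
  · exact Sum.inr.inj (h' (Sum.inr j))

theorem card_model : Nat.card (GL (Fin 3) (ZMod 2) × Perm (Fin 3)) = 1008 := by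
  rw [Nat.card_prod, Matrix.card_GL_field, Nat.card_perm, Nat.card_eq_fintype_card (α := Fin 3)]
  simp [Fin.prod_univ_three, Nat.factorial, ZMod.card]

theorem model_gens : ∀ j, j < trioCertGens.length → ∀ P, trioActList[j]? = some P →
    ∃ x, model x = toPerm 11 P := by
  intro j hj P hP
  have hj2 : j < 2 := by
    have : trioCertGens.length = 2 := by decide +kernel
    omega
  obtain rfl | rfl : j = 0 ∨ j = 1 := by omega
  · refine ⟨(⟨!![0, 1, 1; 0, 0, 1; 1, 0, 0], !![0, 0, 1; 1, 1, 0; 0, 1, 0], by decide, by decide⟩,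
      Equiv.swap 0 1), (repr_toPerm_of_repr fun i => ?_).symm⟩
    rw [← Option.some.inj hP, model_apply]
    revert i
    decide +kernel
  · refine ⟨(⟨!![1, 1, 0; 0, 1, 0; 0, 0, 1], !![1, 1, 0; 0, 1, 0; 0, 0, 1], by decide, by decide⟩,
      Equiv.swap 0 1 * Equiv.swap 1 2), (repr_toPerm_of_repr fun i => ?_).symm⟩
    rw [← Option.some.inj hP, model_apply]
    revert i
    decide +kernel

theorem act_range : act.range = model.range := by
  have hle : act.range ≤ model.range := by
    rintro _ ⟨σ, rfl⟩
    have h : H ≤ (model.range.comap act).map H.subtype := by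
      refine gpGrp_le_of_gensFor trioCert_gensFor fun g hg => ?_
      obtain ⟨j, hj, rfl⟩ := List.getElem_of_mem hg
      obtain ⟨P, hP, he⟩ := act_gen hj
      obtain ⟨x, hx⟩ := model_gens j hj P hP
      exact ⟨⟨genPerm trioCertGens[j], trioCert_gensFor.genPerm_mem (List.getElem_mem hj)⟩,
        ⟨x, hx.trans he.symm⟩, rfl⟩
    obtain ⟨τ, hτ, he⟩ := h σ.2
    exact Subtype.ext he ▸ hτ
  refine Subgroup.eq_of_le_of_card_ge hle ?_
  obtain ⟨hc, hslp, hcov, hord, hbase⟩ := quot_ok
  have hgens : ∀ P ∈ trioQuotBase, Valid 11 P ∧ toPerm 11 P ∈ act.range := by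
    intro P hP
    rw [hbase] at hP
    obtain ⟨j, hj, rfl⟩ := List.getElem_of_mem hP
    have hlen : trioCertGens.length = trioActList.length := by decide +kernel
    obtain ⟨P', hP', he⟩ := act_gen (j := j) (hlen ▸ hj)
    rw [List.getElem?_eq_getElem hj, Option.some.injEq] at hP'
    refine ⟨?_, hP' ▸ ⟨_, he⟩⟩
    obtain ⟨Q, hQ, hall⟩ := obj_gen (j := j) (hlen ▸ hj)
    rw [List.getElem?_eq_getElem hj, Option.some.injEq] at hQ
    subst hQ
    refine ⟨act ⟨genPerm (trioCertGens[j]'(hlen ▸ hj)),
      trioCert_gensFor.genPerm_mem (List.getElem_mem _)⟩, fun i => ?_⟩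
    obtain ⟨h, heq⟩ := hall i
    exact congrArg Fin.val (obj_injective ((obj_act ⟨genPerm (trioCertGens[j]'(hlen ▸ hj)),
      trioCert_gensFor.genPerm_mem (List.getElem_mem _)⟩ i).trans heq))
  have hg : grp 11 trioQuotCert ≤ act.range :=
    (grp_le_closure (fun P hP => (hgens P hP).1) hslp hcov).trans ((Subgroup.closure_le _).2 (by
      rintro _ ⟨P, hP, rfl⟩
      exact (hgens P hP).2))
  calc Nat.card model.range = Nat.card (GL (Fin 3) (ZMod 2) × Perm (Fin 3)) :=
        (Nat.card_congr (MonoidHom.ofInjective model_injective).toEquiv).symm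
    _ = Nat.card (grp 11 trioQuotCert) := by rw [card_model, card_grp hc, hord]
    _ ≤ Nat.card act.range := Subgroup.card_le_of_le hg

/-- The quotient map. -/
noncomputable def quotMap : H →* GL (Fin 3) (ZMod 2) × Perm (Fin 3) :=
  (MonoidHom.ofInjective model_injective).symm.toMonoidHom.comp
    ((MulEquiv.subgroupCongr act_range).toMonoidHom.comp act.rangeRestrict)

theorem model_quotMap (σ : H) : model (quotMap σ) = act σ :=
  congrArg Subtype.val ((MonoidHom.ofInjective model_injective).apply_symm_apply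
    ((MulEquiv.subgroupCongr act_range) (act.rangeRestrict σ)))

theorem quotMap_surjective : Function.Surjective quotMap :=
  (MonoidHom.ofInjective model_injective).symm.surjective.comp
    ((MulEquiv.subgroupCongr act_range).surjective.comp act.rangeRestrict_surjective)

theorem card_ker_quotMap : Nat.card quotMap.ker = 64 := by
  have h := Subgroup.card_mul_index quotMap.ker
  have hi : quotMap.ker.index = 1008 := by
    rw [Subgroup.index_ker, MonoidHom.range_eq_top.2 quotMap_surjective, Subgroup.card_top]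
    exact card_model
  have hH : Nat.card H = 64512 := (card_gpGrp trioCert_chk).trans n_ok.2.2.2.1
  rw [hi, hH] at h
  exact Nat.eq_of_mul_eq_mul_right (by norm_num : 0 < 1008) (h.trans (by norm_num))

theorem mul_self_of_mem_ker {σ : H} (hσ : σ ∈ quotMap.ker) : σ * σ = 1 := by
  obtain ⟨hc, h64, hA, -, hN⟩ := n_ok
  simp only [List.all_eq_true, Bool.and_eq_true, List.contains_iff_mem] at hN
  have hfix : ∀ τ ∈ gpGrp trioNCert, ∀ i, τ • obj i = obj i := by
    intro τ hτ i
    refine gpGrp_le_of_gens (K := MulAction.stabilizer (Perm GolayPt) (obj i)) (fun P hP => ?_) hτ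
    obtain ⟨hv, -⟩ := valid_gensOf hc hP
    refine Finset.eq_of_subset_of_card_le (fun s hs => ?_) (by rw [Finset.card_smul_finset])
    obtain ⟨t, ht, rfl⟩ := Finset.mem_smul_finset.1 hs
    obtain ⟨m, hm, rfl⟩ := mem_family.1 ht
    refine mem_family.2 ⟨imgMask P m, (hN P hP).2 (objCode i) ?_ m hm, setOf24_imgMask hv m⟩
    have hi : (i : ℕ) < trioObjList.length := by rw [obj_good.1]; exact i.isLt
    rw [objCode, List.getD_eq_getElem _ _ hi]
    exact List.getElem_mem hi
  have hle : gpGrp trioNCert ≤ H := fun τ hτ => by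
    have h0 := hfix τ hτ 0
    rw [show obj 0 = baseTrio from by rw [obj, objCode, show trioObjList.getD ((0 : Fin 11) : ℕ) (0, 0) =
      (3, trio0) from obj_good.2.2.2.1]; rfl] at h0
    refine mem_trioCert.2 ⟨?_, h0⟩
    refine gpGrp_le_of_gens (fun P hP => ?_) hτ
    obtain ⟨hv, -⟩ := valid_gensOf hc hP
    exact toGP_mem_M24_of_presOk hv.repr (hN P hP).1
  have hsub : (gpGrp trioNCert).subgroupOf H ≤ quotMap.ker := by
    intro τ hτ
    refine model_injective ?_
    rw [model_quotMap, map_one]
    exact Equiv.ext fun i => obj_injective (by rw [obj_act]; exact hfix τ.1 hτ i)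
  have heq := Subgroup.eq_of_le_of_card_ge hsub (by
    rw [card_ker_quotMap, Nat.card_congr (Subgroup.subgroupOfEquivOfLe hle).toEquiv, card_gpGrp hc, h64])
  rw [← heq] at hσ
  exact Subtype.ext (mul_self_eq_one_of_elemAbelOk hc hA hσ)

theorem induces_base (e : Perm ↥baseTrio) :
    ∃ σ : H, ∀ o : ↥baseTrio, (σ : Perm GolayPt) • (o : Finset GolayPt) = (e o : Finset GolayPt) := by
  let oct : Fin 3 → ↥baseTrio := fun j => ⟨setOf24 ((unpack 3 trio0).getD j.val 0),
    mem_family.2 ⟨_, by
      rw [List.getD_eq_getElem _ _ (by rw [length_unpack]; exact j.isLt)]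
      exact List.getElem_mem _, rfl⟩⟩
  have hbij : Function.Bijective oct := by
    refine (Fintype.bijective_iff_surjective_and_card oct).2 ⟨fun o => ?_, by
      rw [Fintype.card_coe, baseTrio_mem.1, Fintype.card_fin]⟩
    obtain ⟨m, hm, hme⟩ := mem_family.1 o.2
    obtain ⟨j, hj, rfl⟩ := List.getElem_of_mem hm
    refine ⟨⟨j, by rw [length_unpack] at hj; exact hj⟩, Subtype.ext ?_⟩
    show setOf24 _ = _
    rw [List.getD_eq_getElem _ _ hj, hme]
  have hobj : ∀ j : Fin 3, obj (lbl (Sum.inr j)) = {(oct j : Finset GolayPt)} := by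
    intro j
    have hl : ∀ j : Fin 3, trioObjList.getD (lbl (Sum.inr j)).val (0, 0) =
        (1, (unpack 3 trio0).getD j.val 0) := by decide +kernel
    have hlt : ∀ j : Fin 3, (unpack 3 trio0).getD j.val 0 % 16777216 = (unpack 3 trio0).getD j.val 0 := by
      decide +kernel
    rw [obj, objCode, hl j]
    ext s
    rw [mem_family, Finset.mem_singleton]
    show (∃ m ∈ [(unpack 3 trio0).getD j.val 0 % 16777216], setOf24 m = s) ↔ s = setOf24 _
    rw [hlt j]
    simp [eq_comm]
  let E : Fin 3 ≃ ↥baseTrio := Equiv.ofBijective oct hbij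
  obtain ⟨σ, hσ⟩ := quotMap_surjective (1, E.symm.permCongr e)
  refine ⟨σ, fun o => ?_⟩
  obtain ⟨j, rfl⟩ := E.surjective o
  have h := obj_act σ (lbl (Sum.inr j))
  rw [← model_quotMap, hσ, model_apply, Equiv.symm_apply_apply, Sum.map_inr, hobj, hobj,
    Finset.smul_finset_singleton, Finset.singleton_inj] at h
  rw [show ((E j : ↥baseTrio) : Finset GolayPt) = oct j from rfl, ← h]
  show (E (E.symm.permCongr e j) : Finset GolayPt) = _
  simp [Equiv.permCongr_apply]

/-- Structure of a trio stabiliser: every permutation of the three octads is induced, and there is a normal subgroup of order 64 of elements squaring to the identity whose quotient is isomorphic to the product of GL(3, 2) with the symmetric group of degree 3. -/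
theorem result (T : Finset (Finset Cfsg.GolayPt)) (hT : T ∈ Cfsg.trios) : (∀ e : Equiv.Perm ↥T, ∃ g ∈ MulAction.stabilizer Cfsg.M24 T, ∀ o : ↥T, (g : Equiv.Perm Cfsg.GolayPt) • (o : Finset Cfsg.GolayPt) = ((e o : ↥T) : Finset Cfsg.GolayPt)) ∧ ∃ (N : Subgroup ↥(MulAction.stabilizer Cfsg.M24 T)) (_ : N.Normal), Nat.card N = 64 ∧ (∀ x ∈ N, x * x = 1) ∧ Nonempty (↥(MulAction.stabilizer Cfsg.M24 T) ⧸ N ≃* GL (Fin 3) (ZMod 2) × Equiv.Perm (Fin 3)) := by
  obtain ⟨g, hg, hgT⟩ := exists_to_baseTrio hT
  obtain ⟨f, hf⟩ := exists_stab_iso hg hgT fun σ => mem_trioCert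
  refine ⟨fun e => ?_, (quotMap.comp f.toMonoidHom).ker, inferInstance, ?_, ?_, ?_⟩
  · let k : ↥T ≃ ↥baseTrio :=
      { toFun := fun o => ⟨g • o.1, hgT ▸ Finset.smul_mem_smul_finset o.2⟩
        invFun := fun o => ⟨g⁻¹ • o.1, by
          rw [← Finset.smul_mem_smul_finset_iff g, smul_inv_smul, hgT]; exact o.2⟩
        left_inv := fun o => Subtype.ext (inv_smul_smul g o.1)
        right_inv := fun o => Subtype.ext (smul_inv_smul g o.1) }
    obtain ⟨σ, hσ⟩ := induces_base (k.permCongr e)
    refine ⟨(f.symm σ).1, (f.symm σ).2, fun o => ?_⟩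
    have h := hσ (k o)
    rw [Equiv.permCongr_apply, Equiv.symm_apply_apply, ← f.apply_symm_apply σ, hf] at h
    change (g * _ * g⁻¹) • (g • (o : Finset GolayPt)) = g • ((e o : ↥T) : Finset GolayPt) at h
    rwa [mul_smul, inv_smul_smul, mul_smul, smul_left_cancel_iff] at h
  · rw [← card_ker_quotMap]
    exact Nat.card_congr (Equiv.subtypeEquiv f.toEquiv fun a => Iff.rfl)
  · intro a ha
    apply f.injective
    rw [map_mul, map_one]
    exact mul_self_of_mem_ker ha
  · exact ⟨QuotientGroup.quotientKerEquivOfSurjective _ (quotMap_surjective.comp f.surjective)⟩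

end Cfsg.Agent.S1558
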