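import Cfsg.Statements.S1559
import Cfsg.Agent.Lib.Golay.Suborbit
import Cfsg.Agent.Lib.Golay.Trios
import Cfsg.Agent.Lib.Golay.TrioSub

set_option autoImplicit false
open scoped Pointwise
open Cfsg

namespace Cfsg.Agent.S1559

open Cfsg.Agent.Lib.Compute Cfsg.Agent.Lib.GolayOrbit

/-- A trio stabiliser has five orbits on the 3795 trios, of sizes 1, 42, 56, 1008, 2688; and the stabiliser is a maximal proper subgroup. -/
theorem result (T : Finset (Finset Cfsg.GolayPt)) (hT : T ∈ Cfsg.trios) : ∃ X₁ ∈ Cfsg.trios, ∃ X₂ ∈ Cfsg.trios, ∃ X₃ ∈ Cfsg.trios, ∃ X₄ ∈ Cfsg.trios, (MulAction.orbit ↥(MulAction.stabilizer Cfsg.M24 T) X₁).ncard = 42 ∧ (MulAction.orbit ↥(MulAction.stabilizer Cfsg.M24 T) X₂).ncard = 56 ∧ (MulAction.orbit ↥(MulAction.stabilizer Cfsg.M24 T) X₃).ncard = 1008 ∧ (MulAction.orbit ↥(MulAction.stabilizer Cfsg.M24 T) X₄).ncard = 2688 ∧ Cfsg.trios = {T} ∪ MulAction.orbit ↥(MulAction.stabilizer Cfsg.M24 T) X₁ ∪ MulAction.orbit ↥(MulAction.stabilizer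 Cfsg.M24 T) X₂ ∪ MulAction.orbit ↥(MulAction.stabilizer Cfsg.M24 T) X₃ ∪ MulAction.orbit ↥(MulAction.stabilizer Cfsg.M24 T) X₄ ∧ IsCoatom (MulAction.stabilizer Cfsg.M24 T) := by
  obtain ⟨g, hg, hgS⟩ := exists_to_baseTrio hT
  have hall : Cfsg.trios = g⁻¹ • ((familyCoding 3).dec '' {k | k ∈ trioTree.keys}) := by
    ext X
    rw [Set.mem_smul_set_iff_inv_smul_mem, inv_inv, trioCert_stab.mem_dec_image]
    refine ⟨fun hX => ?_, fun ⟨σ, hσ, he⟩ => ?_⟩
    · rw [← trioCert_stab.mem_dec_image]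
      obtain ⟨k, hk, hke⟩ := exists_trio_key (smul_mem_trios hg hX)
      exact ⟨k, hk, hke⟩
    · have := smul_mem_trios (inv_mem hg) (smul_mem_trios (mem_gpGrp_m24.1 hσ) baseTrio_mem)
      rwa [show σ • baseTrio = g • X from he, inv_smul_smul] at this
  have hkeys := keys_eq_union (x0 := trio0) (t := trioTree) [trioOrb1, trioOrb2, trioOrb3, trioOrb4]
    (by decide +kernel) (by decide +kernel) (by decide +kernel)
  have hX1 : g⁻¹ • (familyCoding 3).dec 2370529178326540445760 ∈ Cfsg.trios := by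
    rw [hall]
    refine Set.smul_mem_smul_set ⟨2370529178326540445760, ?_, rfl⟩
    rw [hkeys]
    exact Or.inr ⟨trioOrb1, by simp, orb_start (familyCoding 3) trioOrb1_ok⟩
  have hX2 : g⁻¹ • (familyCoding 3).dec 2370529182811358450700 ∈ Cfsg.trios := by
    rw [hall]
    refine Set.smul_mem_smul_set ⟨2370529182811358450700, ?_, rfl⟩
    rw [hkeys]
    exact Or.inr ⟨trioOrb2, by simp, orb_start (familyCoding 3) trioOrb2_ok⟩
  have hX3 : g⁻¹ • (familyCoding 3).dec 2362080938057826935040 ∈ Cfsg.trios := by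
    rw [hall]
    refine Set.smul_mem_smul_set ⟨2362080938057826935040, ?_, rfl⟩
    rw [hkeys]
    exact Or.inr ⟨trioOrb3, by simp, orb_start (familyCoding 3) trioOrb3_ok⟩
  have hX4 : g⁻¹ • (familyCoding 3).dec 2362080946430730961800 ∈ Cfsg.trios := by
    rw [hall]
    refine Set.smul_mem_smul_set ⟨2362080946430730961800, ?_, rfl⟩
    rw [hkeys]
    exact Or.inr ⟨trioOrb4, by simp, orb_start (familyCoding 3) trioOrb4_ok⟩
  refine ⟨_, hX1, _, hX2, _, hX3, _, hX4, ?_, ?_, ?_, ?_, ?_, ?_⟩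
  · rw [trioCert_stab.ncard_orbit_conj hg hgS trioOrb1_ok trioOrb1_incr, trioOrb1_length]
  · rw [trioCert_stab.ncard_orbit_conj hg hgS trioOrb2_ok trioOrb2_incr, trioOrb2_length]
  · rw [trioCert_stab.ncard_orbit_conj hg hgS trioOrb3_ok trioOrb3_incr, trioOrb3_length]
  · rw [trioCert_stab.ncard_orbit_conj hg hgS trioOrb4_ok trioOrb4_incr, trioOrb4_length]
  · rw [hall, hkeys, trioCert_stab.orbit_conj hg hgS trioOrb1_ok, trioCert_stab.orbit_conj hg hgS trioOrb2_ok, trioCert_stab.orbit_conj hg hgS trioOrb3_ok, trioCert_stab.orbit_conj hg hgS trioOrb4_ok,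
      show ({T} : Set (Finset (Finset Cfsg.GolayPt))) = g⁻¹ • ({baseTrio} : Set _) by
        rw [Set.smul_set_singleton, ← hgS, inv_smul_smul]]
    simp only [← Set.smul_set_union]
    congr 1
    ext y
    simp only [Set.mem_image, Set.mem_union, Set.mem_singleton_iff, List.mem_cons, List.not_mem_nil,
      or_false, Set.mem_setOf_eq, or_and_right, exists_or, exists_eq_left, or_assoc, baseTrio]
    exact ⟨fun h => h.imp_left Eq.symm, fun h => h.imp_left Eq.symm⟩
  · exact trioCert_stab.isCoatom_conj hg hgS trioSubs trioSubs_ok trioSubs_cover (by decide +kernel)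

end Cfsg.Agent.S1559
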