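import Cfsg.Statements.S1560
import Cfsg.Agent.Lib.Golay.Octads

set_option autoImplicit false
open scoped Pointwise
open Cfsg

namespace Cfsg.Agent.S1560

open Cfsg.Agent.Lib.Compute Cfsg.Agent.Lib.GolayOrbit


/-- Intersection numbers of dodecads: a dodecad meets every other dodecad in 0, 4, 6 or 8 points, meeting 495 of them in 4 points, 1584 in 6 points and 495 in 8 points. -/
theorem result (d : Finset Cfsg.GolayPt) (hd : d ∈ Cfsg.dodecads) : (∀ d' ∈ Cfsg.dodecads, d' ≠ d → (d ∩ d').card = 0 ∨ (d ∩ d').card = 4 ∨ (d ∩ d').card = 6 ∨ (d ∩ d').card = 8) ∧ {d' : Finset Cfsg.GolayPt | d' ∈ Cfsg.dodecads ∧ (d ∩ d').card = 4}.ncard = 495 ∧ {d' : Finset Cfsg.GolayPt | d' ∈ Cfsg.dodecads ∧ (d ∩ d').card = 6}.ncard = 1584 ∧ {d' : Finset Cfsg.GolayPt | d' ∈ Cfsg.dodecads ∧ (d ∩ d').card = 8}.ncard = 495 := by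
  obtain ⟨g, hg, hgo⟩ := exists_to_baseDodecad hd
  have hcount : ∀ k : ℕ, {d' : Finset GolayPt | d' ∈ dodecads ∧ (d ∩ d').card = k}.ncard =
      dodecadList.countP fun m => popN (dod0 &&& m) == k := by
    intro k
    rw [ncard_transport g (fun d' => d' ∈ dodecads ∧ (d ∩ d').card = k)
      (fun d' => d' ∈ dodecads ∧ (baseDodecad ∩ d').card = k) (fun x => by
        rw [mem_dodecads_smul_iff hg, ← hgo, card_inter_smul])]
    exact ncard_dodecads_filter _ _ fun m _ => by
      rw [baseDodecad, card_setOf24_and]; simp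
  refine ⟨fun d' hd' hne => ?_, by rw [hcount]; decide +kernel, by rw [hcount]; decide +kernel,
    by rw [hcount]; decide +kernel⟩
  obtain ⟨m, hm, hme⟩ := exists_dodecad_mask (smul_mem_dodecads hg hd')
  have key : (dodecadList.all fun m => m == dod0 || [0, 4, 6, 8].contains (popN (dod0 &&& m))) = true := by
    decide +kernel
  have h := List.all_eq_true.1 key m hm
  rw [Bool.or_eq_true, beq_iff_eq] at h
  rcases h with h | h
  · exact absurd (smul_left_cancel g (by rw [← hme, hgo, h, baseDodecad])) hne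
  · have hc : (d ∩ d').card = popN (dod0 &&& m) := by
      rw [← card_inter_smul g, hgo, ← hme, baseDodecad, card_setOf24_and]
    rw [hc]
    simpa using h

end Cfsg.Agent.S1560
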