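import Cfsg.Statements.S1561
import Cfsg.Agent.Lib.Golay.Octads

set_option autoImplicit false
open scoped Pointwise
open Cfsg

namespace Cfsg.Agent.S1561

open Cfsg.Agent.Lib.Compute Cfsg.Agent.Lib.GolayOrbit


/-- Two dodecads meeting a fixed dodecad in equally many points lie in one orbit of its stabiliser. -/
theorem result (d d' d'' : Finset Cfsg.GolayPt) (hd : d ∈ Cfsg.dodecads) (hd' : d' ∈ Cfsg.dodecads) (hd'' : d'' ∈ Cfsg.dodecads) (h : (d ∩ d').card = (d ∩ d'').card) : ∃ g : Equiv.Perm Cfsg.GolayPt, g ∈ Cfsg.M24 ∧ g • d = d ∧ g • d' = d'' := by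
  obtain ⟨g, hg, hgo⟩ := exists_to_baseDodecad hd
  obtain ⟨k, hk, hk0, hke⟩ := dodecad_rel (smul_mem_dodecads hg hd') (smul_mem_dodecads hg hd'')
    (by rw [← hgo, card_inter_smul, card_inter_smul]; exact h)
  refine ⟨g⁻¹ * k * g, mul_mem (mul_mem (inv_mem hg) hk) hg, ?_, ?_⟩
  · rw [mul_smul, mul_smul, hgo, hk0, ← hgo, inv_smul_smul]
  · rw [mul_smul, mul_smul, hke, inv_smul_smul]

end Cfsg.Agent.S1561
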