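import Cfsg.Statements.S1562
import Cfsg.Agent.Lib.Golay.SmallSets

set_option autoImplicit false
open scoped Pointwise
open Cfsg

namespace Cfsg.Agent.S1562

open Cfsg.Agent.Lib.Compute Cfsg.Agent.Lib.GolayOrbit

/-- Orbits of a triad stabiliser on the triads disjoint from it: the 210 triads inside a common octad with it form one orbit and the remaining 1120 another. -/
theorem result (T : Finset Cfsg.GolayPt) (hT : T.card = 3) : {U : Finset Cfsg.GolayPt | U.card = 3 ∧ Disjoint T U ∧ (∃ o ∈ Cfsg.octads, T ∪ U ⊆ o)}.ncard = 210 ∧ {U : Finset Cfsg.GolayPt | U.card = 3 ∧ Disjoint T U ∧ ¬ (∃ o ∈ Cfsg.octads, T ∪ U ⊆ o)}.ncard = 1120 ∧ ∀ U U' : Finset Cfsg.GolayPt, U.card = 3 → U'.card = 3 → Disjoint T U → Disjoint T U' → ((∃ o ∈ Cfsg.octads, T ∪ U ⊆ o) ↔ (∃ o ∈ Cfsg.octads, T ∪ U' ⊆ o)) → ∃ g : Equiv.Perm Cfsg.GolayPt, g ∈ Cfsg.M24 ∧ g • T = T ∧ g • U = U' := by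
  obtain ⟨g, hg, he⟩ := exists_smul_small (t := setOf24 triad0) (by rw [hT, card_setOf24_three]) (by omega)
  have hP : ∀ U : Finset Cfsg.GolayPt, (∃ o ∈ Cfsg.octads, T ∪ U ⊆ o) ↔
      ∃ o ∈ Cfsg.octads, setOf24 triad0 ∪ g • U ⊆ o := by
    intro U
    constructor
    · rintro ⟨o, ho, hs⟩
      exact ⟨g • o, (mem_octads_smul_iff hg o).2 ho, by
        rw [← he, ← Finset.smul_finset_union]; exact Finset.smul_finset_subset_smul_finset_iff.2 hs⟩
    · rintro ⟨o, ho, hs⟩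
      refine ⟨g⁻¹ • o, (mem_octads_smul_iff (inv_mem hg) o).2 ho, ?_⟩
      rw [← he, ← Finset.smul_finset_union] at hs
      exact Finset.subset_smul_finset_iff.2 (by rwa [inv_inv])
  have hD : ∀ U : Finset Cfsg.GolayPt, Disjoint T U ↔ Disjoint (setOf24 triad0) (g • U) := by
    intro U
    rw [← he, Finset.disjoint_iff_inter_eq_empty, Finset.disjoint_iff_inter_eq_empty,
      ← Finset.smul_finset_inter, Finset.smul_finset_eq_empty]
  have hset : ∀ b : Bool, ∀ U : Finset Cfsg.GolayPt,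
      (U.card = 3 ∧ Disjoint T U ∧ ((∃ o ∈ Cfsg.octads, T ∪ U ⊆ o) ↔ b = true)) ↔
      g • U ∈ {V : Finset Cfsg.GolayPt | V.card = 3 ∧ Disjoint (setOf24 triad0) V ∧
        ((∃ o ∈ Cfsg.octads, setOf24 triad0 ∪ V ⊆ o) ↔ b = true)} := by
    intro b U
    rw [Set.mem_setOf_eq, Finset.card_smul_finset, hD, hP]
  refine ⟨?_, ?_, ?_⟩
  · rw [ncard_transport g _ (fun V => V ∈ setOf24 '' {k | k ∈ triadOrb2.keys}) (fun U => by
      have := hset true U
      rw [triad_set_eq true] at this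
      simpa using this)]
    exact (ncard_dec_mask triadCert_gensFor triadOrb2_ok triadOrb2_incr).trans triadOrb2_length
  · rw [ncard_transport g _ (fun V => V ∈ setOf24 '' {k | k ∈ triadOrb4.keys}) (fun U => by
      have := hset false U
      rw [triad_set_eq false] at this
      simpa using this)]
    exact (ncard_dec_mask triadCert_gensFor triadOrb4_ok triadOrb4_incr).trans triadOrb4_length
  · intro U U' h3 h3' hd hd' hiff
    obtain ⟨b, hb⟩ : ∃ b : Bool, ((∃ o ∈ Cfsg.octads, T ∪ U ⊆ o) ↔ b = true) := by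
      classical
      exact ⟨decide (∃ o ∈ Cfsg.octads, T ∪ U ⊆ o), by simp⟩
    have h1 := (hset b U).1 ⟨h3, hd, hb⟩
    have h2 := (hset b U').1 ⟨h3', hd', hiff.symm.trans hb⟩
    rw [triad_set_eq b] at h1 h2
    obtain ⟨k, hk, hke⟩ := h1
    obtain ⟨k', hk', hke'⟩ := h2
    obtain ⟨τ, hτ, hτe⟩ : ∃ τ ∈ gpGrp triadCert, τ • setOf24 k = setOf24 k' := by
      cases b
      all_goals
        simp only [Bool.false_eq_true, if_false, if_true] at hk hk'
      · obtain ⟨σ, hσ, h1⟩ := (orbit_iff maskCoding triadCert_gensFor triadOrb4_ok (setOf24 k)).2 ⟨k, hk, rfl⟩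
        obtain ⟨ρ, hρ, h2⟩ := (orbit_iff maskCoding triadCert_gensFor triadOrb4_ok (setOf24 k')).2 ⟨k', hk', rfl⟩
        exact ⟨ρ * σ⁻¹, mul_mem hρ (inv_mem hσ), by rw [← h1, mul_smul, inv_smul_smul, h2]⟩
      · obtain ⟨σ, hσ, h1⟩ := (orbit_iff maskCoding triadCert_gensFor triadOrb2_ok (setOf24 k)).2 ⟨k, hk, rfl⟩
        obtain ⟨ρ, hρ, h2⟩ := (orbit_iff maskCoding triadCert_gensFor triadOrb2_ok (setOf24 k')).2 ⟨k', hk', rfl⟩
        exact ⟨ρ * σ⁻¹, mul_mem hρ (inv_mem hσ), by rw [← h1, mul_smul, inv_smul_smul, h2]⟩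
    obtain ⟨hτM, hτ0⟩ := triadCert_stab.mem_M24_iff'.1 hτ
    refine ⟨g⁻¹ * τ * g, mul_mem (mul_mem (inv_mem hg) hτM) hg, ?_, ?_⟩
    · rw [mul_smul, mul_smul, he, show τ • setOf24 triad0 = setOf24 triad0 from hτ0, ← he, inv_smul_smul]
    · rw [mul_smul, mul_smul, ← hke, hτe, hke', inv_smul_smul]

end Cfsg.Agent.S1562
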