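import Cfsg.Statements.S1565
import Cfsg.Agent.Lib.Golay.Octads

set_option autoImplicit false
open scoped Pointwise
open Cfsg

namespace Cfsg.Agent.S1565

open Cfsg.Agent.Lib.Compute Cfsg.Agent.Lib.GolayOrbit


/-- The stabiliser of an octad is a maximal proper subgroup of the group of the length-24 code. -/
theorem result (o : Finset Cfsg.GolayPt) (ho : o ∈ Cfsg.octads) : IsCoatom (MulAction.stabilizer Cfsg.M24 o) := by
  obtain ⟨g, hg, hgo⟩ := exists_to_baseOctad ho
  refine isCoatom_stabilizer_smul (⟨g⁻¹, inv_mem hg⟩ : ↥M24) (x := baseOctad)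
    (show g⁻¹ • baseOctad = o by rw [← hgo, inv_smul_smul]) ?_
  exact octCert_stab.isCoatom_stabilizer octadSubs octadSubs_ok octadSubs_cover (by decide +kernel)

end Cfsg.Agent.S1565
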