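import Cfsg.Statements.S1566
import Cfsg.Agent.Lib.Golay.Octads
import Cfsg.Agent.Lib.Golay.DuumSub
import Cfsg.Agent.Lib.Golay.Suborbit

set_option autoImplicit false
open scoped Pointwise
open Cfsg

namespace Cfsg.Agent.S1566

open Cfsg.Agent.Lib.Compute Cfsg.Agent.Lib.GolayOrbit

/-- The setwise stabiliser of a dodecad together with its complement is a maximal proper subgroup of the group of the length-24 code. -/
theorem result (d : Finset Cfsg.GolayPt) (hd : d ∈ Cfsg.dodecads) : IsCoatom (MulAction.stabilizer Cfsg.M24 ({d, dᶜ} : Finset (Finset Cfsg.GolayPt))) := by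
  obtain ⟨g, hg, he⟩ := exists_to_baseDodecad hd
  refine duumCert_stab.isCoatom_conj hg (x := ({d, dᶜ} : Finset (Finset Cfsg.GolayPt))) ?_ duumSubs duumSubs_ok
    duumSubs_cover (by decide +kernel)
  have hc : g • dᶜ = baseDodecadᶜ := by
    ext x
    simp [← he, Finset.mem_compl, ← Finset.inv_smul_mem_iff]
  have hu : unpack 2 duum0 = [340831, 16436384] := by decide +kernel
  have h2 : baseDodecadᶜ = setOf24 16436384 := by
    rw [show (16436384 : ℕ) = dod0 ^^^ 16777215 by decide +kernel, setOf24_compl]
    rfl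
  ext S
  rw [mem_family, hu, Finset.mem_smul_finset]
  constructor
  · rintro ⟨a, ha, rfl⟩
    rcases Finset.mem_insert.1 ha with rfl | ha
    · exact ⟨340831, by simp, by rw [he]; rfl⟩
    · rw [Finset.mem_singleton] at ha
      subst ha
      exact ⟨16436384, by simp, by rw [hc, h2]⟩
  · rintro ⟨m, hm, rfl⟩
    simp only [List.mem_cons, List.not_mem_nil, or_false] at hm
    rcases hm with rfl | rfl
    · exact ⟨d, by simp, by rw [he]; rfl⟩
    · exact ⟨dᶜ, by simp, by rw [hc, h2]⟩

end Cfsg.Agent.S1566
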