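import Cfsg.Statements.S1567
import Cfsg.Agent.Lib.Leech.Order
import Cfsg.Prelude.Def_Spor_Conway
-- import your own Cfsg.Agent.* helpers here

set_option autoImplicit false
open Cfsg

namespace Cfsg.Agent.S1567

/-- The rank-24 lattice is the additive subgroup generated by its 196560 minimal vectors. -/
theorem result : AddSubgroup.closure {x : Cfsg.GolayPt → ℤ | x ∈ Cfsg.leechLattice ∧ Cfsg.sqNorm x = 32} = Cfsg.leechLattice := by
  refine le_antisymm ((AddSubgroup.closure_le _).mpr fun x hx => hx.1) ?_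
  have hpair : ∀ i : Cfsg.GolayPt, i ≠ none → Cfsg.Agent.Lib.ThreeTransp.pairFun i none ∈
      AddSubgroup.closure {x : Cfsg.GolayPt → ℤ | x ∈ Cfsg.leechLattice ∧ Cfsg.sqNorm x = 32} := fun i hi =>
    AddSubgroup.subset_closure ⟨Cfsg.Agent.Lib.ThreeTransp.pairFun_mem i none, by revert i; decide +kernel⟩
  refine Cfsg.Agent.Lib.ThreeTransp.leech_le
    (AddSubgroup.subset_closure ⟨Cfsg.Agent.Lib.ThreeTransp.oddVec_mem, by decide +kernel⟩) (fun i => ?_)
    fun b hb => AddSubgroup.subset_closure ⟨?_, ?_⟩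
  · rcases eq_or_ne i none with rfl | hi
    · have h1 := hpair (some 0) (by decide)
      have h2 : (fun p : Cfsg.GolayPt => if p = none then (4 : ℤ) else if p = some 0 then -4 else 0) ∈
          AddSubgroup.closure {x : Cfsg.GolayPt → ℤ | x ∈ Cfsg.leechLattice ∧ Cfsg.sqNorm x = 32} :=
        AddSubgroup.subset_closure ⟨AddSubgroup.subset_closure Cfsg.Spor.vecU'_mem_leechSet, by decide +kernel⟩
      have e : Cfsg.Agent.Lib.ThreeTransp.pairFun none none
          = Cfsg.Agent.Lib.ThreeTransp.pairFun (some 0) none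
            + fun p : Cfsg.GolayPt => if p = none then (4 : ℤ) else if p = some 0 then -4 else 0 := by
        funext p; revert p; decide +kernel
      rw [e]
      exact add_mem h1 h2
    · exact hpair i hi
  · obtain ⟨hc, h8⟩ := Cfsg.Agent.Lib.Compute.basis_octads b hb
    exact Cfsg.Agent.Lib.Leech.two_ind_leech (Cfsg.Agent.Lib.Compute.setOf24_mem_octads hc h8)
  · revert b; decide +kernel

end Cfsg.Agent.S1567
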