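import Cfsg.Statements.S1568
import Mathlib
import Cfsg.Agent.Lib.Leech.Totals

set_option autoImplicit false
open Cfsg

namespace Cfsg.Agent.S1568

set_option maxRecDepth 100000

/-- Squared length, penalising the values outside `0, ±2`. -/
def wTwo : ℕ → ℤ → ℕ := fun _ x => (x ^ 2).toNat + if x = 0 ∨ x = 2 ∨ x = -2 then 0 else 64

/-- Squared length, marking the values `±3`. -/
def wThree : ℕ → ℤ → ℕ := fun _ x => (x ^ 2).toNat + if x.natAbs = 3 then 2048 else 0

/-- Squared length, penalising the values `±a`. -/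
def wAvoid (a : ℕ) : ℕ → ℤ → ℕ := fun _ x => (x ^ 2).toNat + if x.natAbs = a then 64 else 0

open Cfsg.Agent.Lib.Leech Cfsg.Agent.Lib.Compute in
theorem count_pred (P : ℤ → Prop) [DecidablePred P] (W : ℕ → ℤ → ℕ)
    (hW : ∀ x : ℤ, W 0 x = (x ^ 2).toNat + if P x then 0 else 64) :
    {x : Cfsg.GolayPt → ℤ | x ∈ Cfsg.leechLattice ∧ Cfsg.sqNorm x = 48 ∧ ∀ i, P (x i)}.ncard =
      total W clOne 48 histOne := by
  have hok : histOk clOne 1 histOne = true := by decide +kernel
  rw [← ncard_eq_total W clOne 1 48 histOne hok]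
  refine congrArg Set.ncard (Set.ext fun x => ?_)
  simp only [Set.mem_ofPred_eq, clOne, hW, Finset.sum_add_distrib]
  have hs := sum_natAbs_sq x
  constructor
  · rintro ⟨hx, h, hP⟩
    refine ⟨hx, coord_sq_le h (by norm_num), ?_⟩
    rw [Finset.sum_eq_zero (f := fun q => if P (x q) then 0 else 64) (fun q _ => if_pos (hP q))]
    omega
  · rintro ⟨hx, -, h⟩
    have hP : ∀ q, P (x q) := fun q => by
      by_contra hq
      have : 64 ≤ ∑ p, if P (x p) then 0 else 64 :=
        le_trans (le_of_eq (if_neg hq).symm)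
          (Finset.single_le_sum (fun p _ => Nat.zero_le (if P (x p) then 0 else 64)) (Finset.mem_univ q))
      omega
    rw [Finset.sum_eq_zero (f := fun q => if P (x q) then 0 else 64) (fun q _ => if_pos (hP q))] at h
    exact ⟨hx, by omega, hP⟩

open Cfsg.Agent.Lib.Leech Cfsg.Agent.Lib.Compute in
theorem count_avoid (a : ℕ) :
    {x : Cfsg.GolayPt → ℤ | x ∈ Cfsg.leechLattice ∧ Cfsg.sqNorm x = 48 ∧ ∃ i, |x i| = (a : ℤ)}.ncard +
      total (wAvoid a) clOne 48 histOne = 16773120 := by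
  have h := count_pred (fun x => x.natAbs ≠ a) (wAvoid a) (fun x => by
    by_cases hx : x.natAbs = a <;> simp [wAvoid, hx])
  rw [← h, ← ncard_three]
  have hfin : {x : Cfsg.GolayPt → ℤ | x ∈ Cfsg.leechLattice ∧ Cfsg.sqNorm x = 48}.Finite :=
    Set.finite_of_ncard_ne_zero (by rw [ncard_three]; norm_num)
  rw [← Set.ncard_union_eq ?_ (hfin.subset fun x hx => ⟨hx.1, hx.2.1⟩) (hfin.subset fun x hx => ⟨hx.1, hx.2.1⟩)]
  · refine congrArg Set.ncard (Set.ext fun x => ?_)
    simp only [Set.mem_union, Set.mem_ofPred_eq]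
    constructor
    · rintro (⟨h1, h2, -⟩ | ⟨h1, h2, -⟩) <;> exact ⟨h1, h2⟩
    · rintro ⟨h1, h2⟩
      by_cases he : ∃ i, |x i| = (a : ℤ)
      · exact Or.inl ⟨h1, h2, he⟩
      · push Not at he
        refine Or.inr ⟨h1, h2, fun i hi => he i ?_⟩
        rw [Int.abs_eq_natAbs, hi]
  · rw [Set.disjoint_left]
    rintro x ⟨-, -, i, hi⟩ ⟨-, -, hall⟩
    exact hall i (by rw [Int.abs_eq_natAbs] at hi; exact_mod_cast hi)

open Cfsg.Agent.Lib.Leech Cfsg.Agent.Lib.Compute in
theorem count_three_threes :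
    {x : Cfsg.GolayPt → ℤ | x ∈ Cfsg.leechLattice ∧ Cfsg.sqNorm x = 48 ∧ ∃ i j k, i ≠ j ∧ j ≠ k ∧ i ≠ k ∧
      |x i| = 3 ∧ |x j| = 3 ∧ |x k| = 3}.ncard = total wThree clOne 6192 histOne := by
  classical
  have hok : histOk clOne 1 histOne = true := by decide +kernel
  rw [← ncard_eq_total wThree clOne 1 6192 histOne hok]
  refine congrArg Set.ncard (Set.ext fun x => ?_)
  simp only [Set.mem_ofPred_eq, wThree, Finset.sum_add_distrib, Finset.sum_ite, Finset.sum_const_zero,
    add_zero, Finset.sum_const, smul_eq_mul]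
  set S := Finset.univ.filter fun q => (x q).natAbs = 3 with hS
  have hs := sum_natAbs_sq x
  have hi : ∀ {i}, |x i| = 3 → (x i).natAbs = 3 := fun {i} h => by
    rw [Int.abs_eq_natAbs] at h; exact_mod_cast h
  constructor
  · rintro ⟨hx, h, i, j, k, hij, hjk, hik, h1, h2, h3⟩
    refine ⟨hx, coord_sq_le h (by norm_num), ?_⟩
    have hge : 3 ≤ S.card := by
      rw [← Finset.card_eq_three.mpr ⟨i, j, k, hij, hik, hjk, rfl⟩]
      refine Finset.card_le_card fun q hq => ?_
      simp only [Finset.mem_insert, Finset.mem_singleton] at hq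
      rcases hq with rfl | rfl | rfl <;> simp [hS, hi, h1, h2, h3]
    obtain ⟨p, hp, m, -, h4, -⟩ := form_of_lattice hx
    have hodd : ∀ q, x q ≠ 0 := by
      intro q hq
      have e1 := h4 i
      have e2 := h4 q
      have e3 := hi h1
      rw [hq] at e2
      simp only [res] at e1 e2
      generalize hu1 : (if m.testBit (Cfsg.Agent.Lib.Compute.enc i) = true then 2 else 0 : ℕ) = w1 at e1
      generalize hu2 : (if m.testBit (Cfsg.Agent.Lib.Compute.enc q) = true then 2 else 0 : ℕ) = w2 at e2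
      have b1 : w1 = 0 ∨ w1 = 2 := by rw [← hu1]; split_ifs <;> simp
      have b2 : w2 = 0 ∨ w2 = 2 := by rw [← hu2]; split_ifs <;> simp
      omega
    have hlb : ∀ q, (if (x q).natAbs = 3 then 8 else 0) + 1 ≤ (x q ^ 2).toNat := by
      intro q
      have h0 := hodd q
      have hsq : (x q ^ 2).toNat = (x q).natAbs ^ 2 := by
        rw [← Int.natAbs_sq, ← Int.natCast_pow, Int.toNat_natCast]
      rw [hsq]
      split_ifs with he
      · rw [he]; norm_num
      · exact Nat.one_le_pow _ _ (Int.natAbs_pos.mpr h0)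
    have hle := Finset.sum_le_sum fun q (_ : q ∈ Finset.univ) => hlb q
    rw [Finset.sum_add_distrib, Finset.sum_ite, Finset.sum_const_zero, add_zero, Finset.sum_const,
      Finset.sum_const, smul_eq_mul, smul_eq_mul, mul_one, ← hS, Finset.card_univ,
      show Fintype.card Cfsg.GolayPt = 24 by decide] at hle
    omega
  · rintro ⟨hx, hb, h⟩
    have hub : ∑ q, (x q ^ 2).toNat ≤ 24 * 64 := by
      refine le_trans (Finset.sum_le_card_nsmul _ _ 64 fun q _ => ?_) (le_of_eq ?_)
      · have := hb q; omega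
      · rw [Finset.card_univ, show Fintype.card Cfsg.GolayPt = 24 by decide, smul_eq_mul]
    have hc : S.card = 3 := by omega
    obtain ⟨i, j, k, hij, hik, hjk, he⟩ := Finset.card_eq_three.mp hc
    have hm : ∀ q ∈ ({i, j, k} : Finset Cfsg.GolayPt), |x q| = 3 := fun q hq => by
      rw [← he, hS, Finset.mem_filter] at hq
      rw [Int.abs_eq_natAbs, hq.2]; rfl
    exact ⟨hx, by omega, i, j, k, hij, hjk, hik, hm i (by simp), hm j (by simp), hm k (by simp)⟩

open Cfsg.Agent.Lib.Leech in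
theorem totals : total wTwo clOne 48 histOne = 5275648 ∧ total wThree clOne 6192 histOne = 8290304 ∧
    total (wAvoid 4) clOne 48 histOne = 13664256 ∧
    total (wAvoid 5) clOne 48 histOne = 16674816 := by
  refine ⟨?_, ?_, ?_, ?_⟩ <;> decide +kernel


/-- Shape census of the lattice vectors of sum of squares 48 (customary norm 6): the four families (2^12, 0^12), (±3^3, ±1^21), (±4, ±2^8, 0^15) and (±5, ±1^23) have 5275648, 8290304, 3108864 and 98304 members. -/
theorem result : {x : Cfsg.GolayPt → ℤ | x ∈ Cfsg.leechLattice ∧ Cfsg.sqNorm x = 48 ∧ ∀ i, x i = 0 ∨ x i = 2 ∨ x i = -2}.ncard = 5275648 ∧ {x : Cfsg.GolayPt → ℤ | x ∈ Cfsg.leechLattice ∧ Cfsg.sqNorm x = 48 ∧ ∃ i j k, i ≠ j ∧ j ≠ k ∧ i ≠ k ∧ |x i| = 3 ∧ |x j| = 3 ∧ |x k| = 3}.ncard = 8290304 ∧ {x : Cfsg.GolayPt → ℤ | x ∈ Cfsg.leechLattice ∧ Cfsg.sqNorm x = 48 ∧ ∃ i, |x i| = 4}.ncard = 3108864 ∧ {x : Cfsg.GolayPt → ℤ | x ∈ Cfsg.leechLattice ∧ Cfsg.sqNorm x = 48 ∧ ∃ i, |x i| = 5}.ncard = 98304 :=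 by
  obtain ⟨t1, t2, t3, t4⟩ := totals
  refine ⟨?_, count_three_threes.trans t2, ?_, ?_⟩
  · rw [← t1, count_pred (fun x => x = 0 ∨ x = 2 ∨ x = -2) wTwo fun _ => rfl]
  · have h := count_avoid 4
    rw [t3] at h
    exact Nat.add_right_cancel (m := 13664256) (h.trans (by norm_num))
  · have h := count_avoid 5
    rw [t4] at h
    exact Nat.add_right_cancel (m := 16674816) (h.trans (by norm_num))

end Cfsg.Agent.S1568
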