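import Cfsg.Statements.S1581
import Cfsg.Agent.Lib.Leech.Conway
import Cfsg.Agent.Lib.Leech.ConfigsA

set_option autoImplicit false
open Cfsg Cfsg.Agent.Lib.Leech

namespace Cfsg.Agent.S1581

/-- The McLaughlin group acts with rank 3 and subdegrees 1, 112, 162 on its 275 points: the point stabiliser has two orbits on the remaining points, distinguished by customary inner product 1 or 2 with the fixed point. -/
theorem result (u v x : ↥Cfsg.leechLattice) (hu : Cfsg.sqNorm (u : Cfsg.GolayPt → ℤ) = 48) (hv : Cfsg.sqNorm (v : Cfsg.GolayPt → ℤ) = 32 ∧ Cfsg.sqNorm ((u - v) : Cfsg.GolayPt → ℤ) = 32) (hx : x ∈ {x : ↥Cfsg.leechLattice | Cfsg.sqNorm (x : Cfsg.GolayPt → ℤ) = 32 ∧ Cfsg.sqNorm ((u - x) : Cfsg.GolayPt → ℤ) = 32 ∧ Cfsg.dotInt (v : Cfsg.GolayPt → ℤ) (x : Cfsg.GolayPt → ℤ) = 16}) : {y : ↥Cfsg.leechLattice | y ∈ {x : ↥Cfsg.leechLattice | Cfsg.sqNorm (x : Cfsg.GolayPt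 → ℤ) = 32 ∧ Cfsg.sqNorm ((u - x) : Cfsg.GolayPt → ℤ) = 32 ∧ Cfsg.dotInt (v : Cfsg.GolayPt → ℤ) (x : Cfsg.GolayPt → ℤ) = 16} ∧ Cfsg.dotInt (x : Cfsg.GolayPt → ℤ) (y : Cfsg.GolayPt → ℤ) = 8}.ncard = 112 ∧ {y : ↥Cfsg.leechLattice | y ∈ {x : ↥Cfsg.leechLattice | Cfsg.sqNorm (x : Cfsg.GolayPt → ℤ) = 32 ∧ Cfsg.sqNorm ((u - x) : Cfsg.GolayPt → ℤ) = 32 ∧ Cfsg.dotInt (v : Cfsg.GolayPt → ℤ) (x : Cfsg.GolayPt → ℤ) = 16} ∧ y ≠ x ∧ Cfsg.dotInt (x : Cfsg.GolayPt → ℤ) (y : Cfsg.GolayPt → ℤ) = 16}.ncard = 162 ∧ ∀ y ∈ {x : ↥Cfsg.leechLattice | Cfsg.sqNorm (x : Cfsg.GolayPt → ℤ) = 32 ∧ Cfsg.sqNorm ((u - x) : Cfsg.GolayPt → ℤ) = 32 ∧ Cfsg.dotInt (v : Cfsg.GolayPt → ℤ) (x : Cfsg.GolayPt → ℤ) = 16}, ∀ y' ∈ {x : ↥Cfsg.leechLattice | Cfsg.sqNorm (x : Cfsg.GolayPt → ℤ) = 32 ∧ Cfsg.sqNorm ((u - x) : Cfsg.GolayPt → ℤ) = 32 ∧ Cfsg.dotInt (v : Cfsg.GolayPt → ℤ) (x : Cfsg.GolayPt → ℤ)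 = 16}, y ≠ x → y' ≠ x → Cfsg.dotInt (x : Cfsg.GolayPt → ℤ) (y : Cfsg.GolayPt → ℤ) = Cfsg.dotInt (x : Cfsg.GolayPt → ℤ) (y' : Cfsg.GolayPt → ℤ) → ∃ g : ↥Cfsg.Co0, g • u = u ∧ g • v = v ∧ g • x = x ∧ g • y = y' := by
  obtain ⟨k₀, hk₀⟩ := moves_three u hu
  obtain ⟨k, hk⟩ := transPairThree.extend hk₀ (x := v) (by rw [← summand_set u hu]; exact hv)
  have hk : Moves k [u, v] [bU, bV] := hk
  rw [mcl_set u v hu] at hx ⊢
  obtain ⟨k', hk'⟩ := transTripleThree.extend hk hx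
  have hk' : Moves k' [u, v, x] [bU, bV, bX] := hk'
  have hS := transTripleThree.ncard_sub hk
  have h8 := transNbrEight.ncard_sub hk'
  have h16 := transNbrSixteen.ncard_sub hk'
  have h32 : (subSet [u, v, x] [24, 16, 32]).ncard = 1 := (ncard_subSet hk').trans countSelf275
  have f : ∀ d : ℤ, {y ∈ subSet [u, v] [24, 16] | dotInt (x : GolayPt → ℤ) (y : GolayPt → ℤ) = d}
      = subSet [u, v, x] [24, 16, d] := fun d => subSet_fibre _ _ x d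
  have hval := value_mem_of_count (S := subSet [u, v] [24, 16])
    (fun y => dotInt (x : GolayPt → ℤ) (y : GolayPt → ℤ)) {32, 8, 16} hS (by norm_num)
    (by simp [f, h8, h16, h32])
  have hxx : dotInt (x : GolayPt → ℤ) (x : GolayPt → ℤ) = 32 := (dotInt_self_norm x).trans hx.1
  have hx32 : x ∈ subSet [u, v, x] [24, 16, 32] := by
    rw [← f]; exact ⟨hx, hxx⟩
  obtain ⟨a, ha⟩ := Set.ncard_eq_one.mp h32
  have hne : ∀ y ∈ subSet [u, v] [24, 16], y ≠ x → dotInt (x : GolayPt → ℤ) (y : GolayPt → ℤ) = 8 ∨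
      dotInt (x : GolayPt → ℤ) (y : GolayPt → ℤ) = 16 := by
    intro y hy hyx
    have := hval y hy
    simp only [Finset.mem_insert, Finset.mem_singleton] at this
    refine this.resolve_left fun e => hyx ?_
    have h1 : y ∈ subSet [u, v, x] [24, 16, 32] := by rw [← f]; exact ⟨hy, e⟩
    rw [ha] at h1 hx32
    exact h1.trans hx32.symm
  refine ⟨?_, ?_, ?_⟩
  · exact ((congrArg Set.ncard (f 8)).trans h8)
  · refine Eq.trans (congrArg Set.ncard ?_) ((congrArg Set.ncard (f 16)).trans h16)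
    ext y
    simp only [Set.mem_ofPred_eq]
    refine ⟨fun h => ⟨h.1, h.2.2⟩, fun h => ⟨h.1, fun e => ?_, h.2⟩⟩
    have h2 := h.2
    rw [e, hxx] at h2
    norm_num at h2
  · intro y hy y' hy' hyx hy'x he
    rcases hne y hy hyx with e | e
    · obtain ⟨g, hg, hgy⟩ := transNbrEight.transitive hk' (x := y) (y := y')
        (by rw [← f]; exact ⟨hy, e⟩) (by rw [← f]; exact ⟨hy', he ▸ e⟩)
      exact ⟨g, hg u (by simp), hg v (by simp), hg x (by simp), hgy⟩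
    · obtain ⟨g, hg, hgy⟩ := transNbrSixteen.transitive hk' (x := y) (y := y')
        (by rw [← f]; exact ⟨hy, e⟩) (by rw [← f]; exact ⟨hy', he ▸ e⟩)
      exact ⟨g, hg u (by simp), hg v (by simp), hg x (by simp), hgy⟩

end Cfsg.Agent.S1581
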