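import Cfsg.Statements.S1582
import Cfsg.Agent.Lib.Recognition.U43Iso
-- import your own Cfsg.Agent.* helpers here

set_option autoImplicit false
open Cfsg

namespace Cfsg.Agent.S1582

open Cfsg Cfsg.Agent.Lib.Leech Cfsg.Agent.Lib.Recognition.U43
open Cfsg.Agent.Lib.Recognition.McLOut (uVec vVec)
open Cfsg.Agent.Lib.Classical (conjHom conjHom_apply mem_SU_iff)
open Cfsg.Agent.G2TwoU33 (K9 card_K9)
open MulAction (stabilizer mem_stabilizer_iff)
open scoped Matrix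

theorem su_map {A B : Type*} [Field A] [Fintype A] [Field B] [Fintype B] {q n : ℕ}
    (hA : Fintype.card A = q ^ 2) (hB : Fintype.card B = q ^ 2) (f : A →+* B)
    (M : Matrix.SpecialLinearGroup (Fin n) A) (hM : M ∈ Cfsg.SU n A q) :
    Matrix.SpecialLinearGroup.map f M ∈ Cfsg.SU n B q := by
  rw [mem_SU_iff hA] at hM
  rw [mem_SU_iff hB]
  have h := congrArg f.mapMatrix hM
  rw [map_mul, map_one] at h
  refine Eq.trans ?_ h
  congr 1
  ext i j
  simp [Matrix.SpecialLinearGroup.map_apply_coe, conjHom_apply]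

theorem psu_equiv {A B : Type*} [Field A] [Fintype A] [Field B] [Fintype B] {q n : ℕ}
    (hA : Fintype.card A = q ^ 2) (hB : Fintype.card B = q ^ 2) (e : A ≃+* B) :
    Nonempty (Cfsg.PSU n A q ≃* Cfsg.PSU n B q) := by
  let E : ↥(Cfsg.SU n A q) ≃* ↥(Cfsg.SU n B q) :=
  { toFun := fun M => ⟨_, su_map hA hB e.toRingHom M.1 M.2⟩
    invFun := fun M => ⟨_, su_map hB hA e.symm.toRingHom M.1 M.2⟩
    left_inv := fun M => Subtype.ext (Subtype.ext (by ext i j; simp [Matrix.SpecialLinearGroup.map_apply_coe]))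
    right_inv := fun M => Subtype.ext (Subtype.ext (by ext i j; simp [Matrix.SpecialLinearGroup.map_apply_coe]))
    map_mul' := fun M N => Subtype.ext (map_mul _ _ _) }
  refine ⟨QuotientGroup.congr _ _ E ?_⟩
  ext y
  simp only [Subgroup.mem_map, Subgroup.mem_center_iff]
  constructor
  · rintro ⟨x, hx, rfl⟩ g
    obtain ⟨g, rfl⟩ := E.surjective g
    exact (map_mul E g x).symm.trans ((congrArg E (hx g)).trans (map_mul E x g))
  · intro h
    exact ⟨E.symm y, fun g => E.injective (by simpa using h (E g)), E.apply_symm_apply y⟩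

/-- The point stabiliser in the rank-3 action of the McLaughlin group on 275 points is isomorphic to PSU(4, 3). -/
theorem result (u v x : ↥Cfsg.leechLattice) (hu : Cfsg.sqNorm (u : Cfsg.GolayPt → ℤ) = 48) (hv : Cfsg.sqNorm (v : Cfsg.GolayPt → ℤ) = 32 ∧ Cfsg.sqNorm ((u - v) : Cfsg.GolayPt → ℤ) = 32) (hx : x ∈ {x : ↥Cfsg.leechLattice | Cfsg.sqNorm (x : Cfsg.GolayPt → ℤ) = 32 ∧ Cfsg.sqNorm ((u - x) : Cfsg.GolayPt → ℤ) = 32 ∧ Cfsg.dotInt (v : Cfsg.GolayPt → ℤ) (x : Cfsg.GolayPt → ℤ) = 16}) (F : Type) [Field F] [Fintype F] (hF : Fintype.card F = 9) : Nonempty (↥(MulAction.stabilizer ↥Cfsg.Co0 u ⊓ MulAction.stabilizer ↥Cfsg.Co0 v ⊓ MulAction.stabilizer ↥Cfsg.Co0 x) ≃* Cfsg.PSU 4 F 3) := by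
  rw [mcl_set u v hu] at hx
  obtain ⟨k₀, hk₀⟩ := moves_three u hu
  obtain ⟨k, hk⟩ := transPairThree.extend hk₀ (x := v) (by rw [← summand_set u hu]; exact hv)
  have hk : Moves k [u, v] [bU, bV] := hk
  obtain ⟨k', hk'⟩ := transTripleThree.extend hk hx
  have hk' : Moves k' [u, v, x] [bU, bV, bX] := hk'
  simp only [Moves, List.map_cons, List.map_nil, List.cons.injEq, and_true] at hk'
  have h1 : k' • u = uVec := Subtype.ext hk'.1
  have h2 : k' • v = vVec := Subtype.ext hk'.2.1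
  have h3 : k' • x = xVec := Subtype.ext hk'.2.2
  have hiff : ∀ g : ↥Co0, g ∈ stabilizer ↥Co0 u ⊓ stabilizer ↥Co0 v ⊓ stabilizer ↥Co0 x ↔
      k' * g * k'⁻¹ ∈ St := by
    intro g
    simp only [Subgroup.mem_inf, mem_stabilizer_iff, ← h1, ← h2, ← h3, mul_smul, inv_smul_smul,
      smul_left_cancel_iff]
  obtain ⟨e⟩ := exists_iso
  have hF' : Fintype.card F = 3 ^ 2 := by rw [hF]; norm_num
  obtain ⟨eF⟩ := psu_equiv (n := 4) card_K9 hF'
    (FiniteField.ringEquivOfCardEq (K := K9) (K' := F) (by rw [card_K9, hF']))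
  let c : ↥(stabilizer ↥Co0 u ⊓ stabilizer ↥Co0 v ⊓ stabilizer ↥Co0 x) ≃* ↥St :=
    { toFun := fun g => ⟨k' * g.1 * k'⁻¹, (hiff g.1).mp g.2⟩
      invFun := fun g => ⟨k'⁻¹ * g.1 * k', (hiff _).mpr (by simpa [mul_assoc] using g.2)⟩
      left_inv := fun g => Subtype.ext (show k'⁻¹ * (k' * g.1 * k'⁻¹) * k' = g.1 by group)
      right_inv := fun g => Subtype.ext (show k' * (k'⁻¹ * g.1 * k') * k'⁻¹ = g.1 by group)
      map_mul' := fun g h => Subtype.ext
        (show k' * (g.1 * h.1) * k'⁻¹ = k' * g.1 * k'⁻¹ * (k' * h.1 * k'⁻¹) by group) }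
  exact ⟨(c.trans e).trans eF⟩

end Cfsg.Agent.S1582
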