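import Cfsg.Statements.S1584
import Cfsg.Agent.Lib.Leech.Conway
import Cfsg.Agent.Lib.Leech.ConfigsA
import Cfsg.Agent.Lib.Leech.ConfigsN

set_option autoImplicit false
open Cfsg Cfsg.Agent.Lib.Leech

namespace Cfsg.Agent.S1584

/-- The Higman–Sims group acts with rank 3 and subdegrees 1, 22, 77 on its 100 points, the orbits of a point stabiliser being distinguished by customary inner product 1 with the fixed point. -/
theorem result (v w x : ↥Cfsg.leechLattice) (hv : Cfsg.sqNorm (v : Cfsg.GolayPt → ℤ) = 48) (hw : Cfsg.sqNorm (w : Cfsg.GolayPt → ℤ) = 48) (hvw : Cfsg.dotInt (v : Cfsg.GolayPt → ℤ) (w : Cfsg.GolayPt → ℤ) = -32) (hx : x ∈ {x : ↥Cfsg.leechLattice | Cfsg.sqNorm (x : Cfsg.GolayPt → ℤ) = 32 ∧ Cfsg.dotInt (v : Cfsg.GolayPt → ℤ) (x : Cfsg.GolayPt → ℤ) = 24 ∧ Cfsg.dotInt (w : Cfsg.GolayPt → ℤ) (x : Cfsg.GolayPt → ℤ) = -24}) : {y : ↥Cfsg.leechLattice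 | y ∈ {x : ↥Cfsg.leechLattice | Cfsg.sqNorm (x : Cfsg.GolayPt → ℤ) = 32 ∧ Cfsg.dotInt (v : Cfsg.GolayPt → ℤ) (x : Cfsg.GolayPt → ℤ) = 24 ∧ Cfsg.dotInt (w : Cfsg.GolayPt → ℤ) (x : Cfsg.GolayPt → ℤ) = -24} ∧ Cfsg.dotInt (x : Cfsg.GolayPt → ℤ) (y : Cfsg.GolayPt → ℤ) = 8}.ncard = 22 ∧ {y : ↥Cfsg.leechLattice | y ∈ {x : ↥Cfsg.leechLattice | Cfsg.sqNorm (x : Cfsg.GolayPt → ℤ) = 32 ∧ Cfsg.dotInt (v : Cfsg.GolayPt → ℤ) (x : Cfsg.GolayPt → ℤ) = 24 ∧ Cfsg.dotInt (w : Cfsg.GolayPt → ℤ) (x : Cfsg.GolayPt → ℤ) = -24} ∧ y ≠ x ∧ Cfsg.dotInt (x : Cfsg.GolayPt → ℤ) (y : Cfsg.GolayPt → ℤ) ≠ 8}.ncard = 77 ∧ ∀ y ∈ {x : ↥Cfsg.leechLattice | Cfsg.sqNorm (x : Cfsg.GolayPt → ℤ) = 32 ∧ Cfsg.dotInt (v : Cfsg.GolayPt → ℤ) (x : Cfsg.GolayPt → ℤ) = 24 ∧ Cfsg.dotInt (w : Cfsg.GolayPt → ℤ) (x : Cfsg.GolayPt → ℤ) = -24}, ∀ y' ∈ {x : ↥Cfsg.leechLattice | Cfsg.sqNorm (x : Cfsg.GolayPt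 → ℤ) = 32 ∧ Cfsg.dotInt (v : Cfsg.GolayPt → ℤ) (x : Cfsg.GolayPt → ℤ) = 24 ∧ Cfsg.dotInt (w : Cfsg.GolayPt → ℤ) (x : Cfsg.GolayPt → ℤ) = -24}, y ≠ x → y' ≠ x → (Cfsg.dotInt (x : Cfsg.GolayPt → ℤ) (y : Cfsg.GolayPt → ℤ) = 8 ↔ Cfsg.dotInt (x : Cfsg.GolayPt → ℤ) (y' : Cfsg.GolayPt → ℤ) = 8) → ∃ g : ↥Cfsg.Co0, g • v = v ∧ g • w = w ∧ g • x = x ∧ g • y = y' := by
  obtain ⟨k, hk⟩ := moves_hs transDotNeg rfl v w hv hw hvw
  have hS : {x : ↥Cfsg.leechLattice | Cfsg.sqNorm (x : Cfsg.GolayPt → ℤ) = 32 ∧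
      Cfsg.dotInt (v : Cfsg.GolayPt → ℤ) (x : Cfsg.GolayPt → ℤ) = 24 ∧
      Cfsg.dotInt (w : Cfsg.GolayPt → ℤ) (x : Cfsg.GolayPt → ℤ) = -24} = subSet [v, w] [24, -24] :=
    Set.ext fun y => (subSet_two (u := v) (v := w)).symm
  rw [hS] at hx ⊢
  obtain ⟨k', hk'⟩ := transHSHundred.extend hk hx
  have hk' : Moves k' [v, w, x] [bU, bW, bH] := hk'
  have hn := transHSHundred.ncard_sub hk
  have h8 := transHSEight.ncard_sub hk'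
  have h16 := transHSSixteen.ncard_sub hk'
  have h32 : (subSet [v, w, x] [24, -24, 32]).ncard = 1 := (ncard_subSet hk').trans countSelf100
  have f : ∀ d : ℤ, {y ∈ subSet [v, w] [24, -24] | dotInt (x : GolayPt → ℤ) (y : GolayPt → ℤ) = d}
      = subSet [v, w, x] [24, -24, d] := fun d => subSet_fibre _ _ x d
  have hval := value_mem_of_count (S := subSet [v, w] [24, -24])
    (fun y => dotInt (x : GolayPt → ℤ) (y : GolayPt → ℤ)) {32, 8, 16} hn (by norm_num)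
    (by simp [f, h8, h16, h32])
  have hxx : dotInt (x : GolayPt → ℤ) (x : GolayPt → ℤ) = 32 := (dotInt_self_norm x).trans hx.1
  have hx32 : x ∈ subSet [v, w, x] [24, -24, 32] := by
    rw [← f]; exact ⟨hx, hxx⟩
  obtain ⟨a, ha⟩ := Set.ncard_eq_one.mp h32
  have hne : ∀ y ∈ subSet [v, w] [24, -24], y ≠ x → dotInt (x : GolayPt → ℤ) (y : GolayPt → ℤ) ≠ 8 →
      dotInt (x : GolayPt → ℤ) (y : GolayPt → ℤ) = 16 := by
    intro y hy hyx h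
    have := hval y hy
    simp only [Finset.mem_insert, Finset.mem_singleton] at this
    refine (this.resolve_left fun e => hyx ?_).resolve_left h
    have h1 : y ∈ subSet [v, w, x] [24, -24, 32] := by rw [← f]; exact ⟨hy, e⟩
    rw [ha] at h1 hx32
    exact h1.trans hx32.symm
  refine ⟨?_, ?_, ?_⟩
  · exact (congrArg Set.ncard (f 8)).trans h8
  · refine Eq.trans (congrArg Set.ncard ?_) ((congrArg Set.ncard (f 16)).trans h16)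
    ext y
    simp only [Set.mem_ofPred_eq]
    refine ⟨fun h => ⟨h.1, hne y h.1 h.2.1 h.2.2⟩, fun h => ⟨h.1, fun e => ?_, by rw [h.2]; norm_num⟩⟩
    have h2 := h.2
    rw [e, hxx] at h2
    norm_num at h2
  · intro y hy y' hy' hyx hy'x he
    by_cases e : dotInt (x : GolayPt → ℤ) (y : GolayPt → ℤ) = 8
    · obtain ⟨g, hg, hgy⟩ := transHSEight.transitive hk' (x := y) (y := y')
        (by rw [← f]; exact ⟨hy, e⟩) (by rw [← f]; exact ⟨hy', he.mp e⟩)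
      exact ⟨g, hg v (by simp), hg w (by simp), hg x (by simp), hgy⟩
    · obtain ⟨g, hg, hgy⟩ := transHSSixteen.transitive hk' (x := y) (y := y')
        (by rw [← f]; exact ⟨hy, hne y hy hyx e⟩)
        (by rw [← f]; exact ⟨hy', hne y' hy' hy'x fun h => e (he.mpr h)⟩)
      exact ⟨g, hg v (by simp), hg w (by simp), hg x (by simp), hgy⟩

end Cfsg.Agent.S1584
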