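import Cfsg.Statements.S1585
import Cfsg.Agent.Lib.Leech.Conway
import Cfsg.Agent.Lib.Leech.ConfigsN

set_option autoImplicit false
open Cfsg Cfsg.Agent.Lib.Leech

namespace Cfsg.Agent.S1585

/-- Two vectors of customary norm 6 with inner product −4 are exchanged by some automorphism of the lattice. -/
theorem result (v w : ↥Cfsg.leechLattice) (hv : Cfsg.sqNorm (v : Cfsg.GolayPt → ℤ) = 48) (hw : Cfsg.sqNorm (w : Cfsg.GolayPt → ℤ) = 48) (hvw : Cfsg.dotInt (v : Cfsg.GolayPt → ℤ) (w : Cfsg.GolayPt → ℤ) = -32) : ∃ g : ↥Cfsg.Co0, g • v = w ∧ g • w = v := by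
  obtain ⟨k, hk⟩ := moves_hs transDotNeg rfl v w hv hw hvw
  obtain ⟨l, hl⟩ := moves_hs transDotNeg rfl w v hw hv (by rw [dotInt_symm]; exact hvw)
  simp only [Moves, List.map_cons, List.map_nil, List.cons.injEq, and_true] at hk hl
  exact ⟨l⁻¹ * k, by rw [mul_smul, inv_smul_eq_iff]; exact Subtype.ext (hk.1.trans hl.1.symm),
    by rw [mul_smul, inv_smul_eq_iff]; exact Subtype.ext (hk.2.trans hl.2.symm)⟩

end Cfsg.Agent.S1585
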