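import Cfsg.Statements.S1587

set_option autoImplicit false
open Matrix
open Cfsg

namespace Cfsg.Agent.S1587

theorem norm_add (B : Matrix (Fin 24) (Fin 24) ℤ) (hsymm : B.IsSymm) (u v : Fin 24 → ℤ) :
    (u + v) ⬝ᵥ (B *ᵥ (u + v)) = u ⬝ᵥ (B *ᵥ u) + 2 * (u ⬝ᵥ (B *ᵥ v)) + v ⬝ᵥ (B *ᵥ v) := by
  have h : v ⬝ᵥ (B *ᵥ u) = u ⬝ᵥ (B *ᵥ v) := by
    rw [dotProduct_mulVec, ← mulVec_transpose, hsymm.eq, dotProduct_comm]
  rw [mulVec_add, add_dotProduct, dotProduct_add, dotProduct_add, h]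
  ring


/-- First step of the characterisation of the rank-24 lattice: in an even lattice without roots, norm-8 vectors congruent modulo 2 are equal, opposite or orthogonal. -/
theorem result (B : Matrix (Fin 24) (Fin 24) ℤ) (hsymm : B.IsSymm) (hpos : ∀ x : Fin 24 → ℤ, x ≠ 0 → 0 < x ⬝ᵥ (B *ᵥ x)) (heven : ∀ x : Fin 24 → ℤ, (2 : ℤ) ∣ x ⬝ᵥ (B *ᵥ x)) (h2 : ∀ x : Fin 24 → ℤ, x ⬝ᵥ (B *ᵥ x) ≠ 2) (x y : Fin 24 → ℤ) (hx : x ⬝ᵥ (B *ᵥ x) = 8) (hy : y ⬝ᵥ (B *ᵥ y) = 8) (hc : ∀ i, (2 : ℤ) ∣ (x - y) i) : y = x ∨ y = -x ∨ x ⬝ᵥ (B *ᵥ y) = 0 := by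
  by_cases hxy : y = x
  · exact Or.inl hxy
  by_cases hxy' : y = -x
  · exact Or.inr (Or.inl hxy')
  refine Or.inr (Or.inr ?_)
  have big : ∀ z : Fin 24 → ℤ, z ≠ 0 → 4 ≤ z ⬝ᵥ (B *ᵥ z) := by
    intro z hz
    have := hpos z hz; have := heven z; have := h2 z; omega
  have hneg : x ⬝ᵥ (B *ᵥ (-y)) = -(x ⬝ᵥ (B *ᵥ y)) := by rw [mulVec_neg, dotProduct_neg]
  have e1 : (x - y) ⬝ᵥ (B *ᵥ (x - y)) = 16 - 2 * (x ⬝ᵥ (B *ᵥ y)) := by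
    rw [sub_eq_add_neg x y, norm_add B hsymm, hx, hneg, mulVec_neg, dotProduct_neg, neg_dotProduct,
      neg_neg, hy]
    ring
  have e2 : (x + y) ⬝ᵥ (B *ᵥ (x + y)) = 16 + 2 * (x ⬝ᵥ (B *ᵥ y)) := by
    rw [norm_add B hsymm, hx, hy]; ring
  have div4 : ∀ w : Fin 24 → ℤ, w ≠ 0 → (∀ i, (2 : ℤ) ∣ w i) → 16 ≤ w ⬝ᵥ (B *ᵥ w) := by
    intro w hw hd
    choose z hz using hd
    have hwz : w = (2 : ℤ) • z := funext fun i => by simp [hz i]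
    have hz0 : z ≠ 0 := fun h => hw (by rw [hwz, h, smul_zero])
    have := big z hz0
    rw [hwz, mulVec_smul, dotProduct_smul, smul_dotProduct, smul_eq_mul, smul_eq_mul]
    omega
  have a := div4 (x - y) (sub_ne_zero.2 (Ne.symm hxy)) hc
  have b := div4 (x + y) (fun h => hxy' (eq_neg_of_add_eq_zero_right h)) (fun i => by
    have hh := hc i
    simp only [Pi.sub_apply, Pi.add_apply] at hh ⊢
    omega)
  omega

end Cfsg.Agent.S1587
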