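import Cfsg.Statements.S1588
-- import your own Cfsg.Agent.* helpers here

set_option autoImplicit false
open Matrix
open Cfsg

namespace Cfsg.Agent.S1588

variable {B : Matrix (Fin 24) (Fin 24) ℤ}

theorem form_comm (hsymm : B.IsSymm) (u v : Fin 24 → ℤ) : v ⬝ᵥ (B *ᵥ u) = u ⬝ᵥ (B *ᵥ v) := by
  rw [dotProduct_mulVec, ← mulVec_transpose, hsymm.eq, dotProduct_comm]

theorem norm_add (hsymm : B.IsSymm) (u v : Fin 24 → ℤ) :
    (u + v) ⬝ᵥ (B *ᵥ (u + v)) = u ⬝ᵥ (B *ᵥ u) + 2 * (u ⬝ᵥ (B *ᵥ v)) + v ⬝ᵥ (B *ᵥ v) := by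
  rw [mulVec_add, add_dotProduct, dotProduct_add, dotProduct_add, form_comm hsymm u v]
  ring

theorem norm_sub (hsymm : B.IsSymm) (u v : Fin 24 → ℤ) :
    (u - v) ⬝ᵥ (B *ᵥ (u - v)) = u ⬝ᵥ (B *ᵥ u) - 2 * (u ⬝ᵥ (B *ᵥ v)) + v ⬝ᵥ (B *ᵥ v) := by
  rw [mulVec_sub, sub_dotProduct, dotProduct_sub, dotProduct_sub, form_comm hsymm u v]
  ring

/-- Reduction of an integer vector modulo 2. -/
def red (u : Fin 24 → ℤ) : Fin 24 → ZMod 2 := fun i => (u i : ZMod 2)

theorem red_eq_iff (u v : Fin 24 → ℤ) : red u = red v ↔ ∀ i, (2 : ℤ) ∣ (u - v) i := by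
  constructor
  · intro h i
    have := congrFun h i
    simp only [red] at this
    exact (ZMod.intCast_zmod_eq_zero_iff_dvd _ 2).1 (by rw [Pi.sub_apply, Int.cast_sub, this, sub_self])
  · intro h
    funext i
    have := (ZMod.intCast_zmod_eq_zero_iff_dvd ((u - v) i) 2).2 (h i)
    rw [Pi.sub_apply, Int.cast_sub, sub_eq_zero] at this
    exact this

theorem short_class (hsymm : B.IsSymm) (hpos : ∀ x : Fin 24 → ℤ, x ≠ 0 → 0 < x ⬝ᵥ (B *ᵥ x))
    (heven : ∀ x : Fin 24 → ℤ, (2 : ℤ) ∣ x ⬝ᵥ (B *ᵥ x))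
    (h2 : ∀ x : Fin 24 → ℤ, x ⬝ᵥ (B *ᵥ x) ≠ 2) (u v : Fin 24 → ℤ) (hu : u ⬝ᵥ (B *ᵥ u) ≤ 8)
    (hv : v ⬝ᵥ (B *ᵥ v) ≤ 8) (h : red u = red v) :
    v = u ∨ v = -u ∨
      (u ⬝ᵥ (B *ᵥ u) = 8 ∧ v ⬝ᵥ (B *ᵥ v) = 8 ∧ u ⬝ᵥ (B *ᵥ v) = 0) := by
  by_cases h1 : v = u
  · exact Or.inl h1
  by_cases h3 : v = -u
  · exact Or.inr (Or.inl h3)
  have div : ∀ w : Fin 24 → ℤ, w ≠ 0 → (∀ i, (2 : ℤ) ∣ w i) → 16 ≤ w ⬝ᵥ (B *ᵥ w) := by
    intro w hw hd
    choose z hz using hd
    have hwz : w = (2 : ℤ) • z := funext fun i => by simp [hz i]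
    have hz0 : z ≠ 0 := fun h => hw (by rw [hwz, h, smul_zero])
    have := hpos z hz0; have := heven z; have := h2 z
    rw [hwz, mulVec_smul, dotProduct_smul, smul_dotProduct, smul_eq_mul, smul_eq_mul]
    omega
  have hd := (red_eq_iff u v).1 h
  have a := div (u - v) (sub_ne_zero.2 (Ne.symm h1)) hd
  have b := div (u + v) (fun h => h3 (eq_neg_of_add_eq_zero_right h)) (fun i => by
    have hh := hd i
    simp only [Pi.sub_apply, Pi.add_apply] at hh ⊢
    omega)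
  rw [norm_sub hsymm] at a
  rw [norm_add hsymm] at b
  exact Or.inr (Or.inr (by omega))

theorem frame_card_le (hsymm : B.IsSymm) (S : Finset (Fin 24 → ℤ))
    (h8 : ∀ u ∈ S, u ⬝ᵥ (B *ᵥ u) = 8)
    (horth : ∀ u ∈ S, ∀ v ∈ S, v = u ∨ v = -u ∨ u ⬝ᵥ (B *ᵥ v) = 0) : S.card ≤ 48 := by
  classical
  let p : (Fin 24 → ℤ) → Finset (Fin 24 → ℤ) := fun u => {u, -u}
  have hP : (S.image p).card ≤ 24 := by
    have hmem : ∀ P : ↥(S.image p), ∃ u ∈ S, p u = P.1 := fun P => Finset.mem_image.1 P.2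
    choose c hc hpc using hmem
    have hli : LinearIndependent ℤ c := by
      rw [Fintype.linearIndependent_iff]
      intro g hg P
      have h0 : (∑ Q, g Q • c Q) ⬝ᵥ (B *ᵥ c P) = 0 := by rw [hg, zero_dotProduct]
      rw [sum_dotProduct, Finset.sum_eq_single P] at h0
      · rw [smul_dotProduct, h8 _ (hc P), smul_eq_mul] at h0
        omega
      · intro Q _ hQ
        rw [smul_dotProduct]
        rcases horth _ (hc Q) _ (hc P) with e | e | e
        · exact absurd (Subtype.ext ((hpc P).symm.trans ((congrArg p e).trans (hpc Q)))) (Ne.symm hQ)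
        · have : p (c P) = p (c Q) := by
            rw [e]; simp only [p, neg_neg]; exact Finset.pair_comm _ _
          exact absurd (Subtype.ext ((hpc P).symm.trans (this.trans (hpc Q)))) (Ne.symm hQ)
        · rw [e, smul_zero]
      · intro hP; exact absurd (Finset.mem_univ P) hP
    have := hli.fintype_card_le_finrank
    simpa using this
  have := Finset.card_le_mul_card_image (f := p) S 2 (fun P hP => by
    obtain ⟨u, hu, rfl⟩ := Finset.mem_image.1 hP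
    refine le_trans (Finset.card_le_card (t := {u, -u}) ?_) Finset.card_le_two
    intro v hv
    obtain ⟨-, hv⟩ := Finset.mem_filter.1 hv
    have : v ∈ p u := hv ▸ Finset.mem_insert_self v _
    exact this)
  omega


/-- Second step of the characterisation: under the vector counts of the rank-24 lattice, the norm-8 vectors fall into congruence classes of exactly 48 modulo twice the lattice. -/
theorem result (B : Matrix (Fin 24) (Fin 24) ℤ) (hsymm : B.IsSymm) (hpos : ∀ x : Fin 24 → ℤ, x ≠ 0 → 0 < x ⬝ᵥ (B *ᵥ x)) (heven : ∀ x : Fin 24 → ℤ, (2 : ℤ) ∣ x ⬝ᵥ (B *ᵥ x)) (h2 : ∀ x : Fin 24 → ℤ, x ⬝ᵥ (B *ᵥ x) ≠ 2) (h4 : {x : Fin 24 → ℤ | x ⬝ᵥ (B *ᵥ x) = 4}.ncard = 196560) (h6 : {x : Fin 24 → ℤ | x ⬝ᵥ (B *ᵥ x) = 6}.ncard = 16773120) (h8 : {x : Fin 24 → ℤ | x ⬝ᵥ (B *ᵥ x) = 8}.ncard = 398034000) (x : Fin 24 → ℤ) (hx : x ⬝ᵥ (B *ᵥ x) = 8) : {y : Fin 24 → ℤ | y ⬝ᵥ (B *ᵥ y) = 8 ∧ ∀ i, (2 : ℤ) ∣ (x - y) i}.ncard = 48 := by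
  classical
  have hsc := short_class (B := B) hsymm hpos heven h2
  let V : ℤ → Set (Fin 24 → ℤ) := fun n => {x | x ⬝ᵥ (B *ᵥ x) = n}
  have f4 : (V 4).Finite := Set.finite_of_ncard_pos (by change 0 < Set.ncard _; rw [h4]; norm_num)
  have f6 : (V 6).Finite := Set.finite_of_ncard_pos (by change 0 < Set.ncard _; rw [h6]; norm_num)
  have f8 : (V 8).Finite := Set.finite_of_ncard_pos (by change 0 < Set.ncard _; rw [h8]; norm_num)
  let F4 := f4.toFinset
  let F6 := f6.toFinset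
  let F8 := f8.toFinset
  have m4 : ∀ u, u ∈ F4 ↔ u ⬝ᵥ (B *ᵥ u) = 4 := fun u => f4.mem_toFinset
  have m6 : ∀ u, u ∈ F6 ↔ u ⬝ᵥ (B *ᵥ u) = 6 := fun u => f6.mem_toFinset
  have m8 : ∀ u, u ∈ F8 ↔ u ⬝ᵥ (B *ᵥ u) = 8 := fun u => f8.mem_toFinset
  have c4 : F4.card = 196560 := by rw [← h4, Set.ncard_eq_toFinset_card _ f4]
  have c6 : F6.card = 16773120 := by rw [← h6, Set.ncard_eq_toFinset_card _ f6]
  have c8 : F8.card = 398034000 := by rw [← h8, Set.ncard_eq_toFinset_card _ f8]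
  have small : ∀ (F : Finset (Fin 24 → ℤ)) (n : ℤ), n < 8 → (∀ u, u ∈ F ↔ u ⬝ᵥ (B *ᵥ u) = n) →
      F.card ≤ 2 * (F.image red).card := by
    intro F n hn hF
    refine Finset.card_le_mul_card_image (f := red) F 2 (fun P hP => ?_)
    obtain ⟨u, hu, rfl⟩ := Finset.mem_image.1 hP
    refine le_trans (Finset.card_le_card (t := {u, -u}) ?_) Finset.card_le_two
    intro v hv
    obtain ⟨hv, hred⟩ := Finset.mem_filter.1 hv
    rcases hsc u v (by rw [(hF u).1 hu]; omega) (by rw [(hF v).1 hv]; omega) hred.symm with e | e | e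
    · simp [e]
    · simp [e]
    · exact absurd e.1 (by rw [(hF u).1 hu]; omega)
  have fib : ∀ P ∈ F8.image red, (F8.filter fun u => red u = P).card ≤ 48 := by
    intro P hP
    refine frame_card_le hsymm _ (fun u hu => (m8 u).1 (Finset.mem_filter.1 hu).1) ?_
    intro u hu v hv
    obtain ⟨hu, eu⟩ := Finset.mem_filter.1 hu
    obtain ⟨hv, ev⟩ := Finset.mem_filter.1 hv
    rcases hsc u v (le_of_eq ((m8 u).1 hu)) (le_of_eq ((m8 v).1 hv)) (eu.trans ev.symm) with e | e | e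
    · exact Or.inl e
    · exact Or.inr (Or.inl e)
    · exact Or.inr (Or.inr e.2.2)
  have b8 := Finset.card_le_mul_card_image (f := red) F8 48 fib
  have b4 := small F4 4 (by norm_num) m4
  have b6 := small F6 6 (by norm_num) m6
  have disj : ∀ (F G : Finset (Fin 24 → ℤ)) (a b : ℤ), a < 8 → b ≤ 8 → a ≠ b →
      (∀ u, u ∈ F ↔ u ⬝ᵥ (B *ᵥ u) = a) → (∀ u, u ∈ G ↔ u ⬝ᵥ (B *ᵥ u) = b) →
      Disjoint (F.image red) (G.image red) := by
    intro F G a b ha hb hab hF hG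
    rw [Finset.disjoint_left]
    intro P hP hQ
    obtain ⟨u, hu, rfl⟩ := Finset.mem_image.1 hP
    obtain ⟨v, hv, e⟩ := Finset.mem_image.1 hQ
    have qu := (hF u).1 hu
    have qv := (hG v).1 hv
    rcases hsc u v (by omega) (by omega) e.symm with e | e | e
    · rw [e] at qv; omega
    · rw [e, mulVec_neg, dotProduct_neg, neg_dotProduct, neg_neg] at qv; omega
    · omega
  have hzero : ∀ (F : Finset (Fin 24 → ℤ)) (a : ℤ), 0 < a → a ≤ 8 →
      (∀ u, u ∈ F ↔ u ⬝ᵥ (B *ᵥ u) = a) → red 0 ∉ F.image red := by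
    intro F a ha ha' hF hm
    obtain ⟨u, hu, e⟩ := Finset.mem_image.1 hm
    have qu := (hF u).1 hu
    have h0 : (0 : Fin 24 → ℤ) ⬝ᵥ (B *ᵥ 0) = 0 := zero_dotProduct _
    rcases hsc u 0 (by omega) (by omega) e with e | e | e
    · rw [← e] at qu; omega
    · rw [zero_eq_neg] at e; rw [e] at qu; omega
    · omega
  have htot : 1 + ((F4.image red).card + (F6.image red).card + (F8.image red).card) ≤ 2 ^ 24 := by
    have h46 := disj F4 F6 4 6 (by norm_num) (by norm_num) (by norm_num) m4 m6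
    have h48 := disj F4 F8 4 8 (by norm_num) (by norm_num) (by norm_num) m4 m8
    have h68 := disj F6 F8 6 8 (by norm_num) (by norm_num) (by norm_num) m6 m8
    have hn : red 0 ∉ F4.image red ∪ F6.image red ∪ F8.image red := by
      simp only [Finset.mem_union, not_or]
      exact ⟨⟨hzero F4 4 (by norm_num) (by norm_num) m4, hzero F6 6 (by norm_num) (by norm_num) m6⟩,
        hzero F8 8 (by norm_num) (by norm_num) m8⟩
    have hle := Finset.card_le_univ (insert (red 0) (F4.image red ∪ F6.image red ∪ F8.image red))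
    rw [Finset.card_insert_of_notMem hn,
      Finset.card_union_of_disjoint (Finset.disjoint_union_left.2 ⟨h48, h68⟩),
      Finset.card_union_of_disjoint h46, Fintype.card_fun, ZMod.card, Fintype.card_fin] at hle
    omega
  have himg : (F8.image red).card ≤ 8292375 := by
    rw [show (2 : ℕ) ^ 24 = 16777216 from by norm_num] at htot
    omega
  have hP : red x ∈ F8.image red := Finset.mem_image_of_mem _ ((m8 x).2 hx)
  have hset : {y : Fin 24 → ℤ | y ⬝ᵥ (B *ᵥ y) = 8 ∧ ∀ i, (2 : ℤ) ∣ (x - y) i} =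
      ↑(F8.filter fun u => red u = red x) := by
    ext y
    simp only [Set.mem_setOf_eq, Finset.coe_filter, m8]
    rw [← red_eq_iff]
    exact and_congr_right fun _ => eq_comm
  rw [hset, Set.ncard_coe_finset]
  refine le_antisymm (fib _ hP) ?_
  by_contra hlt
  push Not at hlt
  have hlt2 : ∑ P ∈ F8.image red, (F8.filter fun u => red u = P).card <
      ∑ _P ∈ F8.image red, 48 :=
    Finset.sum_lt_sum fib ⟨red x, hP, hlt⟩
  rw [← Finset.card_eq_sum_card_image, Finset.sum_const, smul_eq_mul, c8] at hlt2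
  omega

end Cfsg.Agent.S1588
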