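import Cfsg.Statements.S1589
import Cfsg.Agent.Lib.MathieuMax.M24Trans
import Cfsg.Agent.Lib.MathieuMax.M24Pair
-- import your own Cfsg.Agent.* helpers here

set_option autoImplicit false
open scoped Pointwise
open Cfsg

namespace Cfsg.Agent.S1589

open Cfsg.Agent.Lib.Compute Cfsg.Agent.Lib.GolayOrbit Cfsg.Agent.Lib.MathieuMax Cfsg.Agent.Lib.MathieuOut

theorem exists_conj_le {G : Type*} [Group G] [Finite G] {p : ℕ} [Fact p.Prime] (P K : Subgroup G)
    (hP : IsPGroup p P) (hK : (Nat.card K).factorization p = (Nat.card G).factorization p) :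
    ∃ g : G, P ≤ K.map (MulAut.conj g).toMonoidHom := by
  obtain ⟨Q, hQ⟩ := hP.exists_le_sylow
  let R : Sylow p K := default
  let R' : Sylow p G := Sylow.ofCard ((R : Subgroup K).map K.subtype)
    (by rw [Subgroup.card_map_of_injective K.subtype_injective, Sylow.card_eq_multiplicity, hK])
  obtain ⟨g, hg⟩ := MulAction.exists_smul_eq G R' Q
  refine ⟨g, fun x hx => ?_⟩
  have h1 : x ∈ (g • R' : Sylow p G).toSubgroup := hg ▸ hQ hx
  rw [Sylow.smul_def, Sylow.pointwise_smul_def] at h1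
  obtain ⟨y, hy, rfl⟩ := h1
  obtain ⟨z, -, rfl⟩ := hy
  exact ⟨z, z.2, rfl⟩

theorem syl_le_M24 : gpGrp m23Syl2 ≤ Cfsg.M24 := syl_le.trans inf_le_left

theorem fixes_transport {α : Type} [MulAction (Equiv.Perm Cfsg.GolayPt) α]
    {H : Subgroup ↥Cfsg.M24} {g : ↥Cfsg.M24} {a : α}
    (h : ∀ σ ∈ (H.map (MulAut.conj g).toMonoidHom).map Cfsg.M24.subtype, σ • a = a) :
    H ≤ MulAction.stabilizer Cfsg.M24 ((g⁻¹ : ↥Cfsg.M24) • a) := by
  intro x hx
  have h1 : ((g * x * g⁻¹ : ↥Cfsg.M24) : Equiv.Perm Cfsg.GolayPt) • a = a :=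
    h _ ⟨_, ⟨x, hx, rfl⟩, rfl⟩
  rw [MulAction.mem_stabilizer_iff]
  calc x • (g⁻¹ • a) = g⁻¹ • ((g * x * g⁻¹) • a) := by rw [smul_smul, smul_smul]; group
    _ = g⁻¹ • a := by
      rw [show (g * x * g⁻¹) • a = a from h1]

theorem fixes_big (H : Subgroup ↥Cfsg.M24) (hc : Nat.card H = 967680 ∨ Nat.card H = 322560 ∨ Nat.card H = 138240) :
    (∃ o ∈ Cfsg.octads, H ≤ MulAction.stabilizer Cfsg.M24 o) ∨
      ∃ S ∈ Cfsg.sextets, H ≤ MulAction.stabilizer Cfsg.M24 S := by
  have : Fact (Nat.Prime 2) := ⟨Nat.prime_two⟩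
  have hfac : ∀ n, n = 967680 ∨ n = 322560 ∨ n = 138240 ∨ n = 244823040 → n.factorization 2 = 10 := by
    intro n hn
    have h0 : n ≠ 0 := by omega
    have h7 : 10 ≤ n.factorization 2 :=
      (Nat.prime_two.pow_dvd_iff_le_factorization h0).1 (by rcases hn with rfl | rfl | rfl | rfl <;> norm_num)
    by_contra hne
    have h8 : 2 ^ 11 ∣ n := (Nat.prime_two.pow_dvd_iff_le_factorization h0).2 (by omega)
    rcases hn with rfl | rfl | rfl | rfl <;> norm_num at h8
  obtain ⟨g, hg⟩ := exists_conj_le (p := 2) ((gpGrp m23Syl2).subgroupOf Cfsg.M24) H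
    (IsPGroup.of_card (n := 7) (by
      rw [Nat.card_congr (Subgroup.subgroupOfEquivOfLe syl_le_M24).toEquiv, card_syl]; rfl))
    (by rw [card_M24, hfac 244823040 (by simp), hfac]; tauto)
  set K := (H.map (MulAut.conj g).toMonoidHom).map Cfsg.M24.subtype with hK
  have hcK : Nat.card K = Nat.card H := by
    rw [hK, Subgroup.card_map_of_injective Cfsg.M24.subtype_injective,
      Subgroup.card_map_of_injective (MulAut.conj g).injective]
  have hP : gpGrp m23Syl2 ≤ K := fun σ hσ => ⟨⟨σ, syl_le_M24 hσ⟩, hg hσ, rfl⟩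
  rcases exists_fixed (Subgroup.map_subtype_le _) hP
    (by rw [hcK]; rcases hc with h | h | h <;> rw [h]; all_goals norm_num)
    (by rw [hcK]; omega) with ⟨o, ho, h⟩ | ⟨S, hS, h⟩
  · exact Or.inl ⟨_, smul_mem_octads (g⁻¹).2 ho, fixes_transport h⟩
  · exact Or.inr ⟨_, smul_mem_sextets (g⁻¹).2 hS, fixes_transport h⟩

theorem fixes_pair (H : Subgroup ↥Cfsg.M24) (hc : Nat.card H = 887040) :
    ∃ s : Finset Cfsg.GolayPt, s.card = 2 ∧ H ≤ MulAction.stabilizer Cfsg.M24 s := by
  have : Fact (Nat.Prime 11) := ⟨by norm_num⟩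
  have hfac : ∀ n, n = 887040 ∨ n = 244823040 → n.factorization 11 = 1 := by
    intro n hn
    have h0 : n ≠ 0 := by omega
    have h7 : 1 ≤ n.factorization 11 :=
      ((by norm_num : Nat.Prime 11).pow_dvd_iff_le_factorization h0).1 (by rcases hn with rfl | rfl <;> norm_num)
    by_contra hne
    have h8 : 11 ^ 2 ∣ n := ((by norm_num : Nat.Prime 11).pow_dvd_iff_le_factorization h0).2 (by omega)
    rcases hn with rfl | rfl <;> norm_num at h8
  have hdbl : dbl ∈ Cfsg.M24 := dbl_mem_M23.1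
  obtain ⟨g, hg⟩ := exists_conj_le (p := 11) (Subgroup.zpowers (⟨dbl, hdbl⟩ : ↥Cfsg.M24)) H
    (IsPGroup.of_card (n := 1) (by
      rw [Nat.card_zpowers, ← Subgroup.orderOf_coe, pow_one]; exact orderOf_dbl))
    (by rw [card_M24, hc, hfac _ (Or.inl rfl), hfac _ (Or.inr rfl)])
  obtain ⟨s, hs, h⟩ := exists_pair (Subgroup.map_subtype_le (H.map (MulAut.conj g).toMonoidHom))
    ⟨⟨dbl, hdbl⟩, hg (Subgroup.mem_zpowers _), rfl⟩
    (by rw [Subgroup.card_map_of_injective Cfsg.M24.subtype_injective,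
      Subgroup.card_map_of_injective (MulAut.conj g).injective, hc])
  refine ⟨(g⁻¹ : ↥Cfsg.M24) • s, ?_, fixes_transport h⟩
  show (((g⁻¹ : ↥Cfsg.M24) : Equiv.Perm Cfsg.GolayPt) • s).card = 2
  rw [Finset.card_smul_finset, hs]

/-- Subgroups of the group of the length-24 code of index 759, 276 and 1771 are exactly the octad, duad and sextet stabilisers, and no subgroup has index 253. -/
theorem result : (∀ H : Subgroup ↥Cfsg.M24, H.index = 759 → ∃ o ∈ Cfsg.octads, H = MulAction.stabilizer Cfsg.M24 o) ∧ (∀ H : Subgroup ↥Cfsg.M24, H.index = 276 → ∃ s : Finset Cfsg.GolayPt, s.card = 2 ∧ H = MulAction.stabilizer Cfsg.M24 s) ∧ (∀ H : Subgroup ↥Cfsg.M24, H.index = 1771 → ∃ S ∈ Cfsg.sextets, H = MulAction.stabilizer Cfsg.M24 S) ∧ ∀ H : Subgroup ↥Cfsg.M24, H.index ≠ 253 := by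
  have hcard : ∀ H : Subgroup ↥Cfsg.M24, Nat.card H * H.index = 244823040 := fun H => by
    rw [Subgroup.card_mul_index, card_M24]
  refine ⟨fun H h => ?_, fun H h => ?_, fun H h => ?_, fun H => ?_⟩
  · have hc : Nat.card H = 322560 := by have := hcard H; rw [h] at this; omega
    rcases fixes_big H (Or.inr (Or.inl hc)) with ⟨o, ho, hle⟩ | ⟨S, hS, hle⟩
    · exact ⟨o, ho, Subgroup.eq_of_le_of_card_ge hle (by rw [card_stabilizer_octad ho, hc])⟩
    · have := Subgroup.card_le_of_le hle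
      rw [card_stabilizer_sextet hS, hc] at this
      omega
  · have hc : Nat.card H = 887040 := by have := hcard H; rw [h] at this; omega
    obtain ⟨s, hs, hle⟩ := fixes_pair H hc
    refine ⟨s, hs, Subgroup.eq_of_le_of_card_ge hle ?_⟩
    have := card_stabilizer_small 2 (by norm_num) hs
    rw [show Nat.choose 24 2 = 276 from by decide +kernel] at this
    omega
  · have hc : Nat.card H = 138240 := by have := hcard H; rw [h] at this; omega
    rcases fixes_big H (Or.inr (Or.inr hc)) with ⟨o, ho, hle⟩ | ⟨S, hS, hle⟩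
    · have := Subgroup.card_dvd_of_le hle
      rw [card_stabilizer_octad ho, hc] at this
      norm_num at this
    · exact ⟨S, hS, Subgroup.eq_of_le_of_card_ge hle (by rw [card_stabilizer_sextet hS, hc])⟩
  · intro h
    have hc : Nat.card H = 967680 := by have := hcard H; rw [h] at this; omega
    rcases fixes_big H (Or.inl hc) with ⟨o, ho, hle⟩ | ⟨S, hS, hle⟩
    · have := Subgroup.card_le_of_le hle
      rw [card_stabilizer_octad ho, hc] at this
      omega
    · have := Subgroup.card_le_of_le hle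
      rw [card_stabilizer_sextet hS, hc] at this
      omega

end Cfsg.Agent.S1589
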