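import Cfsg.Statements.S1590
import Cfsg.Agent.Lib.SmallCodes.Ternary

set_option autoImplicit false
open Cfsg

namespace Cfsg.Agent.S1590

/-- The length-12 ternary code has 729 words with weight distribution 0^1 6^264 9^440 12^24. -/
theorem result : Nat.card ↥Cfsg.ternaryGolayCode = 729 ∧ (∀ x ∈ Cfsg.ternaryGolayCode, x ≠ 0 → (Cfsg.ternarySupport x).card = 6 ∨ (Cfsg.ternarySupport x).card = 9 ∨ (Cfsg.ternarySupport x).card = 12) ∧ {x : Cfsg.ArrayPt → ZMod 3 | x ∈ Cfsg.ternaryGolayCode ∧ (Cfsg.ternarySupport x).card = 6}.ncard = 264 ∧ {x : Cfsg.ArrayPt → ZMod 3 | x ∈ Cfsg.ternaryGolayCode ∧ (Cfsg.ternarySupport x).card = 9}.ncard = 440 ∧ {x : Cfsg.ArrayPt → ZMod 3 | x ∈ Cfsg.ternaryGolayCode ∧ (Cfsg.ternarySupport x).card = 12}.ncard = 24 := by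
  open Cfsg.Agent.Lib.SmallCodes in
  refine ⟨?_, ?_, ?_, ?_, ?_⟩
  · rw [← Nat.card_congr (Equiv.ofBijective
      (fun n => (⟨tWord n, (mem_code_iff_tWord _).2 ⟨n, rfl⟩⟩ : Cfsg.ternaryGolayCode))
      ⟨fun m n h => tWord_injective (congrArg Subtype.val h), fun x => by
        obtain ⟨n, hn⟩ := (mem_code_iff_tWord x.1).1 x.2
        exact ⟨n, Subtype.ext hn⟩⟩), Nat.card_fin]
  · intro x hx hx0
    have key : ∀ n, (Cfsg.ternarySupport (tWord n)).card = 6 ∨ (Cfsg.ternarySupport (tWord n)).card = 9 ∨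
        (Cfsg.ternarySupport (tWord n)).card = 12 ∨ n = 0 := by decide +kernel
    obtain ⟨n, rfl⟩ := (mem_code_iff_tWord x).1 hx
    rcases key n with h | h | h | h
    · exact Or.inl h
    · exact Or.inr (Or.inl h)
    · exact Or.inr (Or.inr h)
    · exact absurd (by rw [h]; decide +kernel) hx0
  · rw [ncard_code_pred]; decide +kernel
  · rw [ncard_code_pred]; decide +kernel
  · rw [ncard_code_pred]; decide +kernel

end Cfsg.Agent.S1590
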