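import Cfsg.Statements.S1593
import Cfsg.Agent.Lib.SmallCodes.Ternary

set_option autoImplicit false
open Cfsg

namespace Cfsg.Agent.S1593

open Cfsg.Agent.Lib.SmallCodes in
/-- Coefficients expressing `c p - c (0, 0)` through the orthogonality relations. -/
def lam : Fin 12 → Fin 6 → Fin 6 → ZMod 3 :=
  ![![![0, 0, 0, 0, 0, 0], ![0, 0, 0, 0, 0, 0], ![0, 0, 0, 0, 0, 0], ![0, 0, 0, 0, 0, 0], ![0, 0, 0, 0, 0, 0], ![0, 0, 0, 0, 0, 0]],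
    ![![2, 1, 1, 2, 1, 0], ![0, 1, 1, 0, 0, 0], ![0, 0, 0, 0, 0, 0], ![0, 0, 0, 0, 0, 0], ![0, 0, 0, 0, 0, 0], ![0, 0, 0, 0, 0, 0]],
    ![![2, 0, 1, 0, 2, 0], ![0, 0, 1, 0, 0, 0], ![0, 0, 1, 0, 0, 0], ![0, 0, 0, 0, 0, 0], ![0, 0, 0, 0, 0, 0], ![0, 0, 0, 0, 0, 0]],
    ![![2, 1, 2, 1, 0, 0], ![0, 0, 1, 0, 0, 0], ![0, 0, 0, 0, 0, 0], ![0, 0, 0, 1, 0, 0], ![0, 0, 0, 0, 0, 0], ![0, 0, 0, 0, 0, 0]],
    ![![2, 2, 0, 1, 2, 0], ![0, 0, 1, 0, 0, 0], ![0, 0, 0, 0, 0, 0], ![0, 0, 0, 0, 0, 0], ![0, 0, 0, 0, 1, 0], ![0, 0, 0, 0, 0, 0]],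
    ![![2, 2, 2, 1, 1, 0], ![0, 0, 0, 0, 0, 0], ![0, 0, 0, 0, 0, 0], ![0, 0, 0, 0, 0, 0], ![0, 0, 0, 0, 0, 0], ![0, 0, 0, 0, 0, 0]],
    ![![2, 2, 2, 0, 1, 0], ![0, 0, 1, 0, 0, 0], ![0, 0, 0, 0, 0, 0], ![0, 0, 0, 0, 0, 0], ![0, 0, 0, 0, 0, 0], ![0, 0, 0, 0, 0, 1]],
    ![![2, 0, 0, 1, 0, 0], ![0, 0, 2, 0, 0, 0], ![0, 0, 0, 0, 0, 0], ![0, 0, 0, 0, 0, 0], ![0, 0, 0, 0, 0, 0], ![0, 0, 0, 0, 0, 0]],
    ![![2, 0, 1, 1, 2, 0], ![0, 0, 0, 0, 0, 0], ![0, 0, 0, 0, 0, 0], ![0, 0, 0, 0, 0, 0], ![0, 0, 0, 0, 0, 0], ![0, 0, 0, 0, 0, 0]],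
    ![![2, 2, 0, 2, 2, 0], ![0, 0, 0, 0, 0, 0], ![0, 0, 0, 0, 0, 0], ![0, 0, 0, 0, 0, 0], ![0, 0, 0, 0, 0, 0], ![0, 0, 0, 0, 0, 0]],
    ![![2, 1, 1, 0, 1, 0], ![0, 0, 0, 0, 0, 0], ![0, 0, 0, 0, 0, 0], ![0, 0, 0, 0, 0, 0], ![0, 0, 0, 0, 0, 0], ![0, 0, 0, 0, 0, 0]],
    ![![2, 1, 2, 2, 0, 0], ![0, 0, 0, 0, 0, 0], ![0, 0, 0, 0, 0, 0], ![0, 0, 0, 0, 0, 0], ![0, 0, 0, 0, 0, 0], ![0, 0, 0, 0, 0, 0]]]

open Cfsg.Agent.Lib.SmallCodes in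
theorem lam_spec : ∀ p q : Cfsg.ArrayPt, ∑ i, ∑ j, lam (pidx p) i j * (tGen i q * tGen j q) =
    (if q = p then 1 else 0) - (if q = (0, 0) then 1 else 0) := by decide +kernel

open Cfsg.Agent.Lib.SmallCodes in
theorem gen_orth : ∀ i j, ∑ p, tGen i p * tGen j p = 0 := by decide +kernel


/-- The only sign changes preserving the length-12 ternary code are the identity and negation of all coordinates. -/
theorem result (c : Cfsg.ArrayPt → (ZMod 3)ˣ) (h : (∀ x ∈ Cfsg.ternaryGolayCode, Cfsg.monomialMap 1 c x ∈ Cfsg.ternaryGolayCode)) : (∀ p, c p = 1) ∨ (∀ p, c p = -1) := by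
  open Cfsg.Agent.Lib.SmallCodes in
  have horth : ∀ i j, ∑ q, (c q : ZMod 3) * (tGen i q * tGen j q) = 0 := by
    intro i j
    obtain ⟨a, ha⟩ := (mem_code_iff _).1 (h _ (tGen_mem i))
    have hrw : ∀ q, (c q : ZMod 3) * (tGen i q * tGen j q) = tComb a q * tGen j q := fun q => by
      rw [ha]
      show _ = (c q : ZMod 3) * tGen i q * tGen j q
      ring
    simp only [hrw, tComb, Finset.sum_mul]
    rw [Finset.sum_comm]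
    refine Finset.sum_eq_zero fun k _ => ?_
    simp only [mul_assoc]
    rw [← Finset.mul_sum, gen_orth, mul_zero]
  have hconst : ∀ p, (c p : ZMod 3) = c (0, 0) := by
    intro p
    have e : ∑ q, (c q : ZMod 3) * ((if q = p then 1 else 0) - (if q = (0, 0) then 1 else 0)) = 0 := by
      simp only [← lam_spec, Finset.mul_sum]
      rw [Finset.sum_comm]
      refine Finset.sum_eq_zero fun i _ => ?_
      rw [Finset.sum_comm]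
      refine Finset.sum_eq_zero fun j _ => ?_
      simp only [mul_left_comm _ (lam _ i j)]
      rw [← Finset.mul_sum, horth, mul_zero]
    simpa [mul_sub, sub_eq_zero] using e
  have hu : c (0, 0) = 1 ∨ c (0, 0) = -1 := by generalize c (0, 0) = u; revert u; decide
  rcases hu with e | e
  · exact Or.inl fun p => Units.ext (by rw [hconst p, e])
  · exact Or.inr fun p => Units.ext (by rw [hconst p, e])

end Cfsg.Agent.S1593
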