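import Cfsg.Statements.S1594
import Cfsg.Agent.Lib.SmallCodes.TernaryAut
import Cfsg.Agent.S1593

set_option autoImplicit false
open Cfsg

namespace Cfsg.Agent.S1594

/-- The monomial automorphism group of the length-12 ternary code has order 190080 and its permutation parts are exactly the automorphisms of its hexad system. -/
theorem result : Nat.card {f : Equiv.Perm Cfsg.ArrayPt × (Cfsg.ArrayPt → (ZMod 3)ˣ) // (∀ x ∈ Cfsg.ternaryGolayCode, Cfsg.monomialMap f.1 f.2 x ∈ Cfsg.ternaryGolayCode)} = 190080 ∧ {σ : Equiv.Perm Cfsg.ArrayPt | ∃ c : Cfsg.ArrayPt → (ZMod 3)ˣ, (∀ x ∈ Cfsg.ternaryGolayCode, Cfsg.monomialMap σ c x ∈ Cfsg.ternaryGolayCode)} = (Cfsg.setSystemAut {h : Finset Cfsg.ArrayPt | ∃ x ∈ Cfsg.ternaryGolayCode, Cfsg.ternarySupport x = h ∧ h.card = 6} : Set (Equiv.Perm Cfsg.ArrayPt)) := by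
  open Cfsg.Agent.Lib.SmallCodes in
  refine ⟨?_, Set.ext fun σ => tProj_eq_aut σ⟩
  classical
  have hl : ∀ σ : setSystemAut tBlocks, ∃ c, ((σ : Equiv.Perm ArrayPt), c) ∈ tMono :=
    fun σ => (tProj_eq_aut σ.1).2 σ.2
  choose c hc using hl
  let sgn : Bool → (ZMod 3)ˣ := fun b => if b then -1 else 1
  let F : setSystemAut tBlocks × Bool →
      {f : Equiv.Perm Cfsg.ArrayPt × (Cfsg.ArrayPt → (ZMod 3)ˣ) // (∀ x ∈ Cfsg.ternaryGolayCode, Cfsg.monomialMap f.1 f.2 x ∈ Cfsg.ternaryGolayCode)} :=
    fun σb => ⟨((σb.1 : Equiv.Perm ArrayPt), fun p => sgn σb.2 * c σb.1 p), fun x hx => by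
      have hrw : monomialMap (σb.1 : Equiv.Perm ArrayPt) (fun p => sgn σb.2 * c σb.1 p) x =
          (sgn σb.2 : ZMod 3) • monomialMap (σb.1 : Equiv.Perm ArrayPt) (c σb.1) x := by
        funext p
        simp [monomialMap, mul_assoc]
      rw [hrw]
      exact Submodule.smul_mem _ _ (hc σb.1 x hx)⟩
  have hF : Function.Bijective F := by
    constructor
    · rintro ⟨σ, b⟩ ⟨τ, b'⟩ h
      have h1 : σ = τ := Subtype.ext (congrArg (fun f => f.1.1) h)
      subst h1
      have h2 := congrFun (congrArg (fun f => f.1.2) h) (0, 0)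
      simp only [F, mul_left_inj] at h2
      have : ∀ b b' : Bool, sgn b = sgn b' → b = b' := by decide
      rw [this b b' h2]
    · rintro ⟨⟨σ, d⟩, hd⟩
      let σ' : setSystemAut tBlocks := ⟨σ, (tProj_eq_aut σ).1 ⟨d, hd⟩⟩
      -- the ratio of two lifts is a diagonal automorphism
      have hsurj : ∀ x ∈ Cfsg.ternaryGolayCode, ∃ y ∈ Cfsg.ternaryGolayCode,
          monomialMap σ (c σ') y = x := by
        intro x hx
        let g : Cfsg.ternaryGolayCode → Cfsg.ternaryGolayCode :=
          fun y => ⟨monomialMap σ (c σ') y.1, hc σ' y.1 y.2⟩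
        have hg : Function.Injective g := by
          intro a b hab
          apply Subtype.ext
          funext p
          have := congrFun (congrArg Subtype.val hab) (σ p)
          simpa [g, monomialMap] using this
        obtain ⟨y, hy⟩ := Finite.surjective_of_injective hg ⟨x, hx⟩
        exact ⟨y.1, y.2, congrArg Subtype.val hy⟩
      have hu : ∀ x ∈ Cfsg.ternaryGolayCode,
          monomialMap 1 (fun p => d p * (c σ' p)⁻¹) x ∈ Cfsg.ternaryGolayCode := by
        intro x hx
        obtain ⟨y, hy, rfl⟩ := hsurj x hx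
        have : monomialMap 1 (fun p => d p * (c σ' p)⁻¹) (monomialMap σ (c σ') y) = monomialMap σ d y := by
          funext p
          show ((d p * (c σ' p)⁻¹ : (ZMod 3)ˣ) : ZMod 3) * ((c σ' p : ZMod 3) * y (σ.symm p)) = _
          rw [← mul_assoc, ← Units.val_mul, inv_mul_cancel_right]
          rfl
        rw [this]
        exact hd y hy
      rcases Cfsg.Agent.S1593.result _ hu with hu1 | hu1
      · refine ⟨(σ', false), Subtype.ext (Prod.ext rfl (funext fun p => ?_))⟩
        simp only [F, sgn, Bool.false_eq_true, if_false, one_mul]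
        exact (mul_inv_eq_one.1 (hu1 p)).symm
      · refine ⟨(σ', true), Subtype.ext (Prod.ext rfl (funext fun p => ?_))⟩
        simp only [F, sgn, if_true]
        exact (mul_inv_eq_iff_eq_mul.1 (hu1 p)).symm
  rw [← Nat.card_eq_of_bijective F hF, Nat.card_prod, card_aut]
  simp

end Cfsg.Agent.S1594
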