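import Cfsg.Statements.S1595

set_option autoImplicit false
open Cfsg

namespace Cfsg.Agent.S1595

section

variable {α : Type*} [Fintype α] [DecidableEq α]

open scoped Classical in
/-- The blocks through a set of points, counted by five-element supersets. -/
theorem steiner_count (hα : Fintype.card α = 12) {B : Set (Finset α)}
    (hB : Cfsg.IsSteinerSystem 5 6 B) (s : Finset α) (hs : s.card ≤ 5) :
    (Finset.univ.filter fun c => c ∈ B ∧ s ⊆ c).card * Nat.choose (6 - s.card) (5 - s.card) =
      Nat.choose (12 - s.card) (5 - s.card) := by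
  have hU : ((Finset.univ \ s).powersetCard (5 - s.card)).card =
      Nat.choose (12 - s.card) (5 - s.card) := by
    rw [Finset.card_powersetCard, Finset.card_sdiff_of_subset (Finset.subset_univ s), Finset.card_univ, hα]
  choose blk hblk huniq using fun t (ht : t ∈ (Finset.univ \ s).powersetCard (5 - s.card)) =>
    hB.2 (s ∪ t) (by
      rw [Finset.mem_powersetCard] at ht
      rw [Finset.card_union_of_disjoint (Finset.disjoint_left.2 fun a ha hat => (Finset.mem_sdiff.1 (ht.1 hat)).2 ha), ht.2]
      omega)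
  have hsig : ((Finset.univ \ s).powersetCard (5 - s.card)).card =
      ((Finset.univ.filter fun c => c ∈ B ∧ s ⊆ c).sigma fun c => (c \ s).powersetCard (5 - s.card)).card := by
    refine Finset.card_bij (fun t ht => (⟨blk t ht, t⟩ : Σ _ : Finset α, Finset α)) ?_ ?_ ?_
    · intro t ht
      rw [Finset.mem_sigma, Finset.mem_filter, Finset.mem_powersetCard]
      obtain ⟨h1, h2⟩ := hblk t ht
      rw [Finset.mem_powersetCard] at ht
      refine ⟨⟨Finset.mem_univ _, h1, Finset.union_subset_left h2⟩, fun a ha => ?_, ht.2⟩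
      exact Finset.mem_sdiff.2 ⟨Finset.union_subset_right h2 ha, (Finset.mem_sdiff.1 (ht.1 ha)).2⟩
    · intro a _ b _ h
      simp at h
      exact h.2
    · rintro ⟨c, t⟩ hct
      rw [Finset.mem_sigma, Finset.mem_filter, Finset.mem_powersetCard] at hct
      obtain ⟨⟨-, hc, hsc⟩, htc, htn⟩ := hct
      have ht : t ∈ (Finset.univ \ s).powersetCard (5 - s.card) :=
        Finset.mem_powersetCard.2 ⟨fun a ha => Finset.mem_sdiff.2 ⟨Finset.mem_univ a,
          (Finset.mem_sdiff.1 (htc ha)).2⟩, htn⟩
      refine ⟨t, ht, ?_⟩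
      rw [← huniq t ht c ⟨hc, Finset.union_subset hsc (fun a ha => (Finset.mem_sdiff.1 (htc ha)).1)⟩]
  rw [← hU, hsig, Finset.card_sigma, Finset.sum_congr rfl (g := fun _ => Nat.choose (6 - s.card) (5 - s.card)),
    Finset.sum_const, smul_eq_mul]
  intro c hc
  obtain ⟨-, hcB, hsc⟩ := Finset.mem_filter.1 hc
  rw [Finset.card_powersetCard, Finset.card_sdiff_of_subset hsc, hB.1 c hcB]

open scoped Classical in
/-- Blocks through `s` split by their intersection with `b`. -/
theorem split_count {B : Set (Finset α)} (b s : Finset α) (hs : s ⊆ b) :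
    (Finset.univ.filter fun c => c ∈ B ∧ s ⊆ c).card =
      ∑ t ∈ b.powerset.filter (fun t => s ⊆ t), (Finset.univ.filter fun c => c ∈ B ∧ b ∩ c = t).card := by
  rw [Finset.card_eq_sum_card_fiberwise (f := fun c => b ∩ c) (t := b.powerset.filter (fun t => s ⊆ t))]
  · refine Finset.sum_congr rfl fun t ht => ?_
    rw [Finset.mem_filter] at ht
    congr 1
    ext c
    simp only [Finset.mem_filter, Finset.mem_univ, true_and]
    constructor
    · exact fun h => ⟨h.1.1, h.2⟩
    · rintro ⟨h1, h2⟩
      refine ⟨⟨h1, ?_⟩, h2⟩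
      rw [← h2] at ht
      exact ht.2.trans Finset.inter_subset_right
  · intro c hc
    simp only [Finset.mem_coe, Finset.mem_filter, Finset.mem_univ, true_and] at hc
    simp only [Finset.mem_coe, Finset.mem_filter, Finset.mem_powerset]
    exact ⟨Finset.inter_subset_left, Finset.subset_inter hs hc.2⟩

end


/-- Leech triangle of S(5, 6, 12): blocks meet in 0, 2, 3 or 4 points, and a block is met exactly in a given 2-, 3- or 4-subset by 3, 2, 3 blocks respectively. -/
theorem result {α : Type*} [Fintype α] [DecidableEq α] (hα : Fintype.card α = 12) {B : Set (Finset α)} (hB : Cfsg.IsSteinerSystem 5 6 B) (b : Finset α) (hb : b ∈ B) : (∀ c ∈ B, c ≠ b → (b ∩ c).card = 0 ∨ (b ∩ c).card = 2 ∨ (b ∩ c).card = 3 ∨ (b ∩ c).card = 4) ∧ ∀ s ⊆ b, (s.card = 2 → {c : Finset α | c ∈ B ∧ b ∩ c = s}.ncard = 3) ∧ (s.card = 3 → {c : Finset α | c ∈ B ∧ b ∩ c = s}.ncard = 2) ∧ (s.card = 4 → {c : Finset α | c ∈ B ∧ b ∩ c = s}.ncard = 3) := by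
  classical
  have h6 : b.card = 6 := hB.1 b hb
  let N : Finset α → ℕ := fun t => (Finset.univ.filter fun c => c ∈ B ∧ b ∩ c = t).card
  let K : Finset α → ℕ := fun s => (Finset.univ.filter fun c => c ∈ B ∧ s ⊆ c).card
  have hsplit : ∀ s ⊆ b, K s = ∑ t ∈ b.powerset.filter (fun t => s ⊆ t), N t :=
    fun s hs => split_count b s hs
  have hK : ∀ s : Finset α, s.card ≤ 5 → K s * Nat.choose (6 - s.card) (5 - s.card) =
      Nat.choose (12 - s.card) (5 - s.card) := fun s hs => steiner_count hα hB s hs
  -- exactly `b` has intersection `b`, none has five points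
  have hN6 : N b = 1 := by
    rw [Finset.card_eq_one]
    refine ⟨b, ?_⟩
    ext c
    simp only [Finset.mem_filter, Finset.mem_univ, true_and, Finset.mem_singleton]
    constructor
    · rintro ⟨hc, h⟩
      exact (Finset.eq_of_subset_of_card_le (h ▸ Finset.inter_subset_right) (by rw [hB.1 c hc, h6])).symm
    · rintro rfl; exact ⟨hb, Finset.inter_self c⟩
  have hN5 : ∀ t ⊆ b, t.card = 5 → N t = 0 := by
    intro t ht h5
    rw [Finset.card_eq_zero, Finset.filter_eq_empty_iff]
    rintro c - ⟨hc, h⟩
    obtain ⟨x, -, hu⟩ := hB.2 t h5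
    have h1 := hu b ⟨hb, ht⟩
    have h2 := hu c ⟨hc, h ▸ Finset.inter_subset_right⟩
    rw [h2, ← h1, Finset.inter_self] at h
    rw [← h] at h5
    omega
  -- sum over supersets, by size
  have hsum : ∀ s ⊆ b, ∀ f : ℕ → ℕ, (∀ t ⊆ b, s ⊂ t → N t = f t.card) →
      K s = N s + ∑ k ∈ Finset.range (6 - s.card), Nat.choose (6 - s.card) (k + 1) * f (s.card + (k + 1)) := by
    intro s hs f hf
    rw [hsplit s hs]
    have hbij : ∑ t ∈ b.powerset.filter (fun t => s ⊆ t), N t = ∑ u ∈ (b \ s).powerset, N (s ∪ u) := by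
      refine Finset.sum_bij' (fun t _ => t \ s) (fun u _ => s ∪ u) ?_ ?_ ?_ ?_ ?_
      · intro t ht
        simp only [Finset.mem_filter, Finset.mem_powerset] at ht ⊢
        exact Finset.sdiff_subset_sdiff ht.1 subset_rfl
      · intro u hu
        simp only [Finset.mem_filter, Finset.mem_powerset] at hu ⊢
        exact ⟨Finset.union_subset hs (hu.trans Finset.sdiff_subset), Finset.subset_union_left⟩
      · intro t ht
        exact Finset.union_sdiff_of_subset (Finset.mem_filter.1 ht).2
      · intro u hu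
        rw [Finset.mem_powerset] at hu
        refine Finset.union_sdiff_cancel_left (Finset.disjoint_left.2 fun a ha hau => (Finset.mem_sdiff.1 (hu hau)).2 ha)
      · intro t ht
        rw [Finset.union_sdiff_of_subset (Finset.mem_filter.1 ht).2]
    rw [hbij, Finset.sum_powerset, Finset.card_sdiff_of_subset hs, h6, Finset.sum_range_succ']
    rw [add_comm]
    congr 1
    · simp
    · refine Finset.sum_congr rfl fun k _ => ?_
      rw [Finset.sum_congr rfl (g := fun _ => f (s.card + (k + 1))), Finset.sum_const,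
        Finset.card_powersetCard, Finset.card_sdiff_of_subset hs, h6, smul_eq_mul]
      intro u hu
      rw [Finset.mem_powersetCard] at hu
      have hd : Disjoint s u := Finset.disjoint_left.2 fun a ha hau => (Finset.mem_sdiff.1 (hu.1 hau)).2 ha
      have hc : (s ∪ u).card = s.card + (k + 1) := by rw [Finset.card_union_of_disjoint hd, hu.2]
      rw [hf (s ∪ u) (Finset.union_subset hs (hu.1.trans Finset.sdiff_subset))
        (lt_of_le_of_ne (by simp) (fun h => by rw [← h] at hc; omega)), hc]
  have hN6' : ∀ t ⊆ b, t.card = 6 → N t = 1 := fun t ht h => by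
    rw [Finset.eq_of_subset_of_card_le ht (by omega), hN6]
  have ssc : ∀ {s t : Finset α}, t ⊆ b → s ⊂ t → s.card < t.card ∧ t.card ≤ 6 := fun ht hst =>
    ⟨Finset.card_lt_card hst, h6 ▸ Finset.card_le_card ht⟩
  have hN4 : ∀ s ⊆ b, s.card = 4 → N s = 3 := by
    intro s hs h
    have h1 := hsum s hs (fun k => if k = 6 then 1 else 0) (fun t ht hst => by
      obtain ⟨h2, h3⟩ := ssc ht hst
      by_cases e : t.card = 6
      · rw [hN6' t ht e, if_pos e]
      · rw [hN5 t ht (by omega), if_neg e])
    have h2 := hK s (by omega)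
    rw [h] at h1 h2
    norm_num [Finset.sum_range_succ, Nat.choose] at h1 h2
    omega
  have hN3 : ∀ s ⊆ b, s.card = 3 → N s = 2 := by
    intro s hs h
    have h1 := hsum s hs (fun k => if k = 6 then 1 else if k = 4 then 3 else 0) (fun t ht hst => by
      obtain ⟨h2, h3⟩ := ssc ht hst
      by_cases e : t.card = 6
      · rw [hN6' t ht e, if_pos e]
      · by_cases e4 : t.card = 4
        · rw [hN4 t ht e4, if_neg e, if_pos e4]
        · rw [hN5 t ht (by omega), if_neg e, if_neg e4])
    have h2 := hK s (by omega)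
    rw [h] at h1 h2
    norm_num [Finset.sum_range_succ, Nat.choose] at h1 h2
    omega
  have hN2 : ∀ s ⊆ b, s.card = 2 → N s = 3 := by
    intro s hs h
    have h1 := hsum s hs (fun k => if k = 6 then 1 else if k = 4 then 3 else if k = 3 then 2 else 0)
      (fun t ht hst => by
      obtain ⟨h2, h3⟩ := ssc ht hst
      by_cases e : t.card = 6
      · rw [hN6' t ht e, if_pos e]
      · by_cases e4 : t.card = 4
        · rw [hN4 t ht e4, if_neg e, if_pos e4]
        · by_cases e3 : t.card = 3
          · rw [hN3 t ht e3, if_neg e, if_neg e4, if_pos e3]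
          · rw [hN5 t ht (by omega), if_neg e, if_neg e4, if_neg e3])
    have h2 := hK s (by omega)
    rw [h] at h1 h2
    norm_num [Finset.sum_range_succ, Nat.choose] at h1 h2
    omega
  have hN1 : ∀ s ⊆ b, s.card = 1 → N s = 0 := by
    intro s hs h
    have h1 := hsum s hs
      (fun k => if k = 6 then 1 else if k = 4 then 3 else if k = 3 then 2 else if k = 2 then 3 else 0)
      (fun t ht hst => by
      obtain ⟨h2, h3⟩ := ssc ht hst
      by_cases e : t.card = 6
      · rw [hN6' t ht e, if_pos e]
      · by_cases e4 : t.card = 4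
        · rw [hN4 t ht e4, if_neg e, if_pos e4]
        · by_cases e3 : t.card = 3
          · rw [hN3 t ht e3, if_neg e, if_neg e4, if_pos e3]
          · by_cases e2 : t.card = 2
            · rw [hN2 t ht e2, if_neg e, if_neg e4, if_neg e3, if_pos e2]
            · rw [hN5 t ht (by omega), if_neg e, if_neg e4, if_neg e3, if_neg e2])
    have h2 := hK s (by omega)
    rw [h] at h1 h2
    norm_num [Finset.sum_range_succ, Nat.choose] at h1 h2
    omega
  have hset : ∀ s, {c : Finset α | c ∈ B ∧ b ∩ c = s}.ncard = N s := by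
    intro s
    show _ = Finset.card _
    rw [← Set.ncard_coe_finset]
    congr 1
    ext c
    simp
  refine ⟨?_, fun s hs => ⟨fun h => (hset s).trans (hN2 s hs h), fun h => (hset s).trans (hN3 s hs h),
    fun h => (hset s).trans (hN4 s hs h)⟩⟩
  intro c hc hne
  have hsub : b ∩ c ⊆ b := Finset.inter_subset_left
  have hpos : N (b ∩ c) ≠ 0 := by
    refine Finset.card_ne_zero.2 ⟨c, ?_⟩
    simp [hc]
  have hle : (b ∩ c).card ≤ 6 := h6 ▸ Finset.card_le_card hsub
  have h5 : (b ∩ c).card ≠ 5 := fun h => hpos (hN5 _ hsub h)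
  have h1 : (b ∩ c).card ≠ 1 := fun h => hpos (hN1 _ hsub h)
  have h6' : (b ∩ c).card ≠ 6 := fun h => hne (by
    have e := Finset.eq_of_subset_of_card_le hsub (by omega)
    exact (Finset.eq_of_subset_of_card_le (e ▸ Finset.inter_subset_right) (by rw [hB.1 c hc, h6])).symm)
  omega

end Cfsg.Agent.S1595
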