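import Cfsg.Statements.S1596
import Cfsg.Agent.Lib.M24Geom.Quartets
-- import your own Cfsg.Agent.* helpers here

set_option autoImplicit false
open scoped Pointwise
open Cfsg

namespace Cfsg.Agent.S1596

open Cfsg.Agent.Lib.M24Geom Cfsg.Agent.Lib.GolayOrbit Cfsg.Agent.Lib.Compute
open scoped Pointwise

/-- A quartet of a dodecad is determined by any two of its triples: two disjoint triples uniting to a hexad extend to exactly one quartet. -/
theorem result (d : Finset Cfsg.GolayPt) (hd : d ∈ Cfsg.dodecads) (t u : Finset Cfsg.GolayPt) (ht : t.card = 3) (hu : u.card = 3) (htu : Disjoint t u) (hh : t ∪ u ∈ Cfsg.hexadsOn d) : ∃! Q : Finset (Finset Cfsg.GolayPt), Q ∈ Cfsg.quartets d ∧ t ∈ Q ∧ u ∈ Q := by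
  obtain ⟨g, hg, he⟩ := exists_to_baseDodecad hd
  have hsub : t ∪ u ⊆ d := by
    obtain ⟨-, o, -, ho⟩ := hh
    exact ho ▸ Finset.inter_subset_right
  have hs : ∀ {x : Finset GolayPt}, x ⊆ d → g • x ⊆ baseDodecad := fun hx => by
    rw [← he]; exact Finset.smul_finset_subset_smul_finset hx
  obtain ⟨a, ha, hat⟩ := exists_triple_mask (t := g • t) (by rw [Finset.card_smul_finset, ht])
    (hs (Finset.subset_union_left.trans hsub))
  obtain ⟨b, hb, hbu⟩ := exists_triple_mask (t := g • u) (by rw [Finset.card_smul_finset, hu])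
    (hs (Finset.subset_union_right.trans hsub))
  have hh' : setOf24 a ∪ setOf24 b ∈ hexadsOn baseDodecad := by
    rw [hat, hbu, ← Finset.smul_finset_union, ← he]
    exact (mem_hexadsOn_smul_iff hg d _).2 hh
  obtain ⟨k, hk, hak, hbk, huniq⟩ := pair_key ha hb
    (disjoint_of_hexad (tripleList_spec ha).1 (tripleList_spec hb).1 hh') hh'
  rw [hat] at hak huniq
  rw [hbu] at hbk huniq
  refine ⟨g⁻¹ • (familyCoding 4).dec k, ⟨?_, ?_, ?_⟩, fun Q ⟨hQ, htQ, huQ⟩ => ?_⟩
  · rw [← mem_quartets_smul_iff hg, smul_inv_smul, he]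
    exact key_quartet hk
  · exact Finset.mem_inv_smul_finset_iff.2 hak
  · exact Finset.mem_inv_smul_finset_iff.2 hbk
  · rw [eq_inv_smul_iff]
    refine huniq _ ?_ (Finset.smul_mem_smul_finset htQ) (Finset.smul_mem_smul_finset huQ)
    rw [← he]
    exact (mem_quartets_smul_iff hg d Q).2 hQ

end Cfsg.Agent.S1596
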