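import Cfsg.Statements.S1597
import Cfsg.Agent.Lib.M24Geom.Quartets
-- import your own Cfsg.Agent.* helpers here

set_option autoImplicit false
open scoped Pointwise
open Cfsg

namespace Cfsg.Agent.S1597

open Cfsg.Agent.Lib.M24Geom Cfsg.Agent.Lib.GolayOrbit Cfsg.Agent.Lib.Compute
open scoped Pointwise

/-- A dodecad has 220 quartets and its stabiliser is transitive on them. -/
theorem result (d : Finset Cfsg.GolayPt) (hd : d ∈ Cfsg.dodecads) : (Cfsg.quartets d).ncard = 220 ∧ ∀ Q ∈ Cfsg.quartets d, ∀ Q' ∈ Cfsg.quartets d, ∃ g : Equiv.Perm Cfsg.GolayPt, g ∈ Cfsg.M24 ∧ g • d = d ∧ g • Q = Q' := by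
  obtain ⟨g, hg, he⟩ := exists_to_baseDodecad hd
  refine ⟨?_, fun Q hQ Q' hQ' => ?_⟩
  · have h := ncard_transport g (fun Q => Q ∈ quartets d) (fun Q => Q ∈ quartets baseDodecad)
      fun Q => by rw [← he, mem_quartets_smul_iff hg]
    exact h.trans quartets_base_ncard
  · have h : ∀ R, R ∈ quartets d → ∃ k ∈ quartTree.keys, (familyCoding 4).dec k = g • R := by
      intro R hR
      have := (mem_quartets_smul_iff hg d R).2 hR
      rwa [he, quartets_base] at this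
    obtain ⟨k, hk, hke⟩ := h Q hQ
    obtain ⟨l, hl, hle⟩ := h Q' hQ'
    obtain ⟨σ, hσ, h1⟩ := quartCert_stab.exists_to_base hk
    obtain ⟨τ, hτ, h2⟩ := quartCert_stab.exists_to_base hl
    obtain ⟨hρM, hρd⟩ := mem_dodCert.1 (mul_mem (inv_mem hτ) hσ)
    refine ⟨g⁻¹ * (τ⁻¹ * σ) * g, mul_mem (mul_mem (inv_mem hg) hρM) hg, ?_, ?_⟩
    · rw [mul_smul, mul_smul, he, hρd, ← he, inv_smul_smul]
    · rw [mul_smul, mul_smul, ← hke, mul_smul, h1, ← h2, inv_smul_smul, hle, inv_smul_smul]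

end Cfsg.Agent.S1597
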