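import Cfsg.Statements.S1598
import Cfsg.Agent.Lib.M24Geom.QuartetGroup
-- import your own Cfsg.Agent.* helpers here

set_option autoImplicit false
open scoped Pointwise
open Cfsg

namespace Cfsg.Agent.S1598

open Cfsg.Agent.Lib.M24Geom Cfsg.Agent.Lib.GolayOrbit Cfsg.Agent.Lib.Compute
open scoped Pointwise

/-- A quartet stabiliser inside the dodecad stabiliser has order 432, a normal subgroup of order 9 with quotient GL(2, 3), and is transitive on the dodecad. -/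
theorem result (d : Finset Cfsg.GolayPt) (hd : d ∈ Cfsg.dodecads) (Q : Finset (Finset Cfsg.GolayPt)) (hQ : Q ∈ Cfsg.quartets d) : Nat.card ↥(MulAction.stabilizer Cfsg.M24 d ⊓ MulAction.stabilizer Cfsg.M24 Q) = 432 ∧ (∃ (N : Subgroup ↥(MulAction.stabilizer Cfsg.M24 d ⊓ MulAction.stabilizer Cfsg.M24 Q)) (_ : N.Normal), Nat.card N = 9 ∧ Nonempty (↥(MulAction.stabilizer Cfsg.M24 d ⊓ MulAction.stabilizer Cfsg.M24 Q) ⧸ N ≃* GL (Fin 2) (ZMod 3))) ∧ ∀ p ∈ d, ∀ q ∈ d, ∃ g ∈ (MulAction.stabilizer Cfsg.M24 d ⊓ MulAction.stabilizer Cfsg.M24 Q), ((g : ↥Cfsg.M24) : Equiv.Perm Cfsg.GolayPt) p = q := by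
  obtain ⟨g, hg, hgd, hgQ⟩ := exists_to_base_quartet hd hQ
  set H := MulAction.stabilizer Cfsg.M24 d ⊓ MulAction.stabilizer Cfsg.M24 Q with hH
  have hmap : (H.map M24.subtype).map (MulAut.conj g).toMonoidHom = gpGrp quartCert := by
    ext σ
    rw [mem_quartCert_iff]
    simp only [Subgroup.mem_map, MulEquiv.coe_toMonoidHom, MulAut.conj_apply, Subgroup.coe_subtype]
    constructor
    · rintro ⟨_, ⟨⟨x, hx⟩, ⟨hxd, hxQ⟩, rfl⟩, rfl⟩
      have h1 : x • d = d := hxd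
      have h2 : x • Q = Q := hxQ
      exact ⟨⟨mul_mem (mul_mem hg hx) (inv_mem hg),
        by rw [mul_smul, mul_smul, ← hgd, inv_smul_smul, h1]⟩,
        by rw [mul_smul, mul_smul, ← hgQ, inv_smul_smul, h2]⟩
    · rintro ⟨⟨hσ, hσd⟩, hσQ⟩
      refine ⟨g⁻¹ * σ * g, ⟨⟨g⁻¹ * σ * g, mul_mem (mul_mem (inv_mem hg) hσ) hg⟩, ?_, rfl⟩, by group⟩
      rw [hH, Subgroup.mem_inf]
      refine ⟨?_, ?_⟩
      · show (g⁻¹ * σ * g) • d = d
        rw [mul_smul, mul_smul, hgd, hσd, ← hgd, inv_smul_smul]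
      · show (g⁻¹ * σ * g) • Q = Q
        rw [mul_smul, mul_smul, hgQ, hσQ, ← hgQ, inv_smul_smul]
  let e : H ≃* grp 24 quartCert :=
    (H.equivMapOfInjective M24.subtype M24.subtype_injective).trans
      (((MulAut.conj g).subgroupMap _).trans ((MulEquiv.subgroupCongr hmap).trans
        ((grp 24 quartCert).equivMapOfInjective _ toGP.injective).symm))
  refine ⟨?_, ?_, fun p hp q hq => ?_⟩
  · rw [Nat.card_congr e.toEquiv, card_grp quartCert_chk]
    decide +kernel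
  · obtain ⟨N, hN, hc, ⟨f⟩⟩ := quartCert_structure
    refine ⟨N.comap e.toMonoidHom, inferInstance, ?_, ⟨?_⟩⟩
    · rw [← hc]
      exact Nat.card_congr (e.toEquiv.subtypeEquiv fun _ => Iff.rfl)
    · exact (QuotientGroup.congr _ N e
        (Subgroup.map_comap_eq_self_of_surjective (f := e.toMonoidHom) e.surjective N)).trans f
  · have hm : ∀ {x : GolayPt}, x ∈ d → g x ∈ baseDodecad := fun hx => by
      rw [← hgd]; exact (smul_mem_smul_pt g _ d).2 hx
    obtain ⟨σ, hσ, hσp⟩ := exists_quartCert_apply (hm hp) (hm hq)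
    rw [← hmap] at hσ
    obtain ⟨_, ⟨x, hx, rfl⟩, rfl⟩ := hσ
    refine ⟨x, hx, ?_⟩
    simp only [MulEquiv.coe_toMonoidHom, MulAut.conj_apply, Subgroup.coe_subtype,
      Equiv.Perm.mul_apply, Equiv.Perm.inv_def, Equiv.symm_apply_apply, EmbeddingLike.apply_eq_iff_eq] at hσp
    exact hσp

end Cfsg.Agent.S1598
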