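import Cfsg.Statements.S1599
import Cfsg.Agent.Lib.M24Geom.Quartets
import Cfsg.Agent.Lib.Golay.QuartetSub
import Cfsg.Agent.Lib.Golay.Suborbit
-- import your own Cfsg.Agent.* helpers here

set_option autoImplicit false
open scoped Pointwise
open Cfsg

namespace Cfsg.Agent.S1599

open Cfsg.Agent.Lib.Compute Cfsg.Agent.Lib.GolayOrbit Cfsg.Agent.Lib.M24Geom Equiv

variable {d : Finset GolayPt} {Q : Finset (Finset GolayPt)} {g : Perm GolayPt}

theorem orbit_conj (hg : g ∈ M24) (hd : g • d = baseDodecad)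
    (hQ : g • Q = (familyCoding 4).dec quart0) {r : ℕ} {s : OTree}
    (ho : orbOk (familyCoding 4).img (familyCoding 4).good quartCertGens r s = true) :
    MulAction.orbit ↥(MulAction.stabilizer M24 d ⊓ MulAction.stabilizer M24 Q)
        (g⁻¹ • (familyCoding 4).dec r) = g⁻¹ • ((familyCoding 4).dec '' {k | k ∈ s.keys}) := by
  ext y
  rw [MulAction.mem_orbit_iff, Set.mem_smul_set_iff_inv_smul_mem, inv_inv]
  constructor
  · rintro ⟨⟨⟨σ, hσM⟩, hσd, hσQ⟩, rfl⟩
    have hm : g * σ * g⁻¹ ∈ gpGrp quartCert := by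
      refine mem_quartCert_iff.2 ⟨⟨mul_mem (mul_mem hg hσM) (inv_mem hg), ?_⟩, ?_⟩
      · rw [← hd, mul_smul, inv_smul_smul, mul_smul]; exact congrArg (g • ·) hσd
      · rw [← hQ, mul_smul, inv_smul_smul, mul_smul]; exact congrArg (g • ·) hσQ
    obtain ⟨k, hk, he⟩ := (orbit_iff _ quartCert_gensFor ho _).1 ⟨_, hm, rfl⟩
    refine ⟨k, hk, ?_⟩
    rw [he]
    simp only [mul_smul]
    rfl
  · rintro ⟨k, hk, he⟩
    obtain ⟨τ, hτ, hτe⟩ := (orbit_iff _ quartCert_gensFor ho _).2 ⟨k, hk, he⟩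
    obtain ⟨⟨hM, hτd⟩, hτQ⟩ := mem_quartCert_iff.1 hτ
    have h1 : (g⁻¹ * τ * g) • d = d := by rw [mul_smul, mul_smul, hd, hτd, ← hd, inv_smul_smul]
    have h2 : (g⁻¹ * τ * g) • Q = Q := by rw [mul_smul, mul_smul, hQ, hτQ, ← hQ, inv_smul_smul]
    refine ⟨⟨⟨g⁻¹ * τ * g, mul_mem (mul_mem (inv_mem hg) hM) hg⟩, h1, h2⟩, ?_⟩
    show (g⁻¹ * τ * g) • g⁻¹ • (familyCoding 4).dec r = y
    rw [mul_smul, mul_smul, smul_inv_smul, hτe, inv_smul_smul]

theorem ncard_orbit_conj (hg : g ∈ M24) (hd : g • d = baseDodecad)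
    (hQ : g • Q = (familyCoding 4).dec quart0) {r n : ℕ} {s : OTree}
    (ho : orbOk (familyCoding 4).img (familyCoding 4).good quartCertGens r s = true)
    (hi : incr s.keys = true) (hl : s.keys.length = n) :
    (MulAction.orbit ↥(MulAction.stabilizer M24 d ⊓ MulAction.stabilizer M24 Q)
        (g⁻¹ • (familyCoding 4).dec r)).ncard = n := by
  rw [orbit_conj hg hd hQ ho, Set.ncard_smul_set, Set.InjOn.ncard_image, ← List.coe_toFinset,
    Set.ncard_coe_finset, List.toFinset_card_of_nodup (nodup_of_incr hi), hl]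
  intro a ha b hb e
  exact (familyCoding 4).inj a b (good_keys _ quartCert_gensFor ho ha) (good_keys _ quartCert_gensFor ho hb) e

/-- A quartet stabiliser has five orbits on the quartets of its dodecad, of sizes 1, 12, 27, 72, 108. -/
theorem result (d : Finset Cfsg.GolayPt) (hd : d ∈ Cfsg.dodecads) (Q : Finset (Finset Cfsg.GolayPt)) (hQ : Q ∈ Cfsg.quartets d) : ∃ X₁ ∈ Cfsg.quartets d, ∃ X₂ ∈ Cfsg.quartets d, ∃ X₃ ∈ Cfsg.quartets d, ∃ X₄ ∈ Cfsg.quartets d, (MulAction.orbit ↥(MulAction.stabilizer Cfsg.M24 d ⊓ MulAction.stabilizer Cfsg.M24 Q) X₁).ncard = 12 ∧ (MulAction.orbit ↥(MulAction.stabilizer Cfsg.M24 d ⊓ MulAction.stabilizer Cfsg.M24 Q) X₂).ncard = 27 ∧ (MulAction.orbit ↥(MulAction.stabilizer Cfsg.M24 d ⊓ MulAction.stabilizer Cfsg.M24 Q) X₃).ncard = 72 ∧ (MulAction.orbit ↥(MulAction.stabilizer Cfsg.M24 d ⊓ MulAction.stabilizer Cfsg.M24 Q) X₄).ncard = 108 ∧ Cfsg.quartets d = {Q} ∪ MulAction.orbit ↥(MulAction.stabilizer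 Cfsg.M24 d ⊓ MulAction.stabilizer Cfsg.M24 Q) X₁ ∪ MulAction.orbit ↥(MulAction.stabilizer Cfsg.M24 d ⊓ MulAction.stabilizer Cfsg.M24 Q) X₂ ∪ MulAction.orbit ↥(MulAction.stabilizer Cfsg.M24 d ⊓ MulAction.stabilizer Cfsg.M24 Q) X₃ ∪ MulAction.orbit ↥(MulAction.stabilizer Cfsg.M24 d ⊓ MulAction.stabilizer Cfsg.M24 Q) X₄ := by
  obtain ⟨g, hg, hgd, hgQ⟩ := exists_to_base_quartet hd hQ
  have hmem : ∀ r, r ∈ quartTree.keys → g⁻¹ • (familyCoding 4).dec r ∈ quartets d := fun r hr => by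
    rw [← mem_quartets_smul_iff hg, smul_inv_smul, hgd, quartets_base]
    exact ⟨r, hr, rfl⟩
  have hset : quartets d = g⁻¹ • quartets baseDodecad := by
    ext R
    rw [Set.mem_smul_set_iff_inv_smul_mem, inv_inv, ← hgd, mem_quartets_smul_iff hg]
  have hbase : g⁻¹ • (familyCoding 4).dec quart0 = Q := by rw [← hgQ, inv_smul_smul]
  have hroot : ∀ {r : ℕ} {s : OTree}, s ∈ quartOrbs →
      orbOk (familyCoding 4).img (familyCoding 4).good quartCertGens r s = true → r ∈ quartTree.keys := by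
    intro r s hs ho
    obtain ⟨p, a, b, hn⟩ := OTree.mem_keys_iff.1 (orb_start (familyCoding 4) ho)
    exact OTree.mem_keys_of_mem (OTree.of_allNodes (List.all_eq_true.1 quartOrbs_sub.1 s hs) hn)
  refine ⟨_, hmem _ (hroot (r := 1237982559036099825273671746) (s := quartOrb1) (by simp [quartOrbs]) quartOrb1_ok), ?_⟩
  refine ⟨_, hmem _ (hroot (r := 1237954224850713470709006616) (s := quartOrb2) (by simp [quartOrbs]) quartOrb2_ok), ?_⟩
  refine ⟨_, hmem _ (hroot (r := 1237954225988998199418815296) (s := quartOrb3) (by simp [quartOrbs]) quartOrb3_ok), ?_⟩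
  refine ⟨_, hmem _ (hroot (r := 1237954224977940084214993156) (s := quartOrb4) (by simp [quartOrbs]) quartOrb4_ok), ?_⟩
  refine ⟨ncard_orbit_conj hg hgd hgQ quartOrb1_ok quartOrb1_incr quartOrb1_length,
    ncard_orbit_conj hg hgd hgQ quartOrb2_ok quartOrb2_incr quartOrb2_length,
    ncard_orbit_conj hg hgd hgQ quartOrb3_ok quartOrb3_incr quartOrb3_length,
    ncard_orbit_conj hg hgd hgQ quartOrb4_ok quartOrb4_incr quartOrb4_length, ?_⟩
  rw [hset, quartets_base, keys_eq_union quartOrbs quartOrbs_sub.2 quartOrbs_cover quartOrbs_sub.1,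
    orbit_conj hg hgd hgQ quartOrb1_ok, orbit_conj hg hgd hgQ quartOrb2_ok,
    orbit_conj hg hgd hgQ quartOrb3_ok, orbit_conj hg hgd hgQ quartOrb4_ok, ← hbase,
    ← Set.smul_set_singleton, ← Set.smul_set_union, ← Set.smul_set_union, ← Set.smul_set_union,
    ← Set.smul_set_union, ← Set.image_singleton, ← Set.image_union, ← Set.image_union,
    ← Set.image_union, ← Set.image_union]
  congr 2
  ext k
  simp [quartOrbs, or_assoc]

end Cfsg.Agent.S1599
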