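import Cfsg.Statements.S5619
import Cfsg.Agent.Lib.M24Geom.SymSix
import Cfsg.Agent.Lib.M24Geom.Conj
import Cfsg.Agent.Lib.Golay.Pointed
-- import your own Cfsg.Agent.* helpers here

set_option autoImplicit false
open scoped Pointwise
open Cfsg

namespace Cfsg.Agent.S5619

open Cfsg.Agent.Lib.Compute Cfsg.Agent.Lib.GolayOrbit Cfsg.Agent.Lib.M24Geom

def nTab : ZMod 3 → ZMod 3 → ℕ := fun i j =>
  [0x170016001500140013001200110010000f000e000d000c000b000a0009000800070006000500040003000200010000,
    0x170016000e00150005000c000a00040013001400100008000b00070006001200110003000f000d0009000200010000,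
    0x1700160014000e000f00080007000d0005001500040012000b00110003000c000a0009001300100006000200010000,
    0x16000b0014000e00130004000a0003000f00150006000d00170007001200100011000c000500090008000200010000,
    0x16000b001500140005000d000700090013000e0003001000170011000c0004000a0008000f00060012000200010000,
    0x16000b000e0015000f00100011000600050014000900040017000a0008000d0007001200130003000c000200010000,
    0xb0017000e00150013000900070008000f0014000c00060016001100040003000a000d000500120010000200010000,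
    0xb00170014000e000500060011001200130015000800030016000a000d000900070010000f000c0004000200010000,
    0xb001700150014000f0003000a000c0005000e0012000900160007001000060011000400130008000d000200010000].getD (3 * i.val + j.val) 0

def qList : List ℕ := [0x170016001500140013001200110010000f000e000d000c000b000a0009000800070006000500040003000200010000,
    0x5000f000a000700160004000e0006000b0011000c00120013001400100009001500080017000d0003000200010000,
    0x17000b00140015000f000d001100080013000e001200040016000700060010000a00090005000c0003000200010000,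
    0x500130007000a000b000c000e0009001600110004000d000f00150008000600140010001700120003000200010000,
    0xe0015000b0016000a00060005000c00070017000900080014000f001200040013000d001100100003000200010000,
    0x110007000f0013001500100017000d0014000500080006000a0016000c0012000b0004000e00090003000200010000,
    0xe00140016000b0007000900050004000a00170006001000150013000d000c000f0012001100080003000200010000,
    0x11000a0013000f001400080017001200150005001000090007000b0004000d0016000c000e00060003000200010000]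

/-- The quaternion subgroup. -/
def qTab : QuaternionGroup 2 → ℕ
  | .a i => qList.getD i.val 0
  | .xa i => qList.getD (4 + i.val) 0

/-- Fixes the three base points and stabilises the base dodecad. -/
def inH (P : ℕ) : Bool :=
  (List.range 24).all fun k => (decide (2 < k) || app P k == k) &&
    (dod0.testBit k == dod0.testBit (app P k))

theorem nTab_ok : ∀ x : ZMod 3 × ZMod 3,
    elemOk 3 (nTab x.1 x.2) = true ∧ inH (nTab x.1 x.2) = true := by decide +kernel

theorem qTab_ok : ∀ x : QuaternionGroup 2, elemOk 4 (qTab x) = true ∧ inH (qTab x) = true := by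
  decide +kernel

theorem nTab_mul : ∀ x y : ZMod 3 × ZMod 3, (List.range 24).all (fun k =>
    app (nTab (x + y).1 (x + y).2) k == app (nTab x.1 x.2) (app (nTab y.1 y.2) k)) = true := by
  decide +kernel

theorem qTab_mul : ∀ x y : QuaternionGroup 2, (List.range 24).all (fun k =>
    app (qTab (x * y)) k == app (qTab x) (app (qTab y) k)) = true := by
  decide +kernel

theorem nTab_inj : ∀ x y : ZMod 3 × ZMod 3,
    (List.range 24).all (fun k => app (nTab x.1 x.2) k == app (nTab y.1 y.2) k) = true → x = y := by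
  decide +kernel

theorem qTab_inj : ∀ x y : QuaternionGroup 2,
    (List.range 24).all (fun k => app (qTab x) k == app (qTab y) k) = true → x = y := by
  decide +kernel

theorem qTab_norm : ∀ x : QuaternionGroup 2, ∀ n : ZMod 3 × ZMod 3, ∃ m : ZMod 3 × ZMod 3,
    (List.range 24).all (fun k => app (qTab x) (app (nTab n.1 n.2) k) ==
      app (nTab m.1 m.2) (app (qTab x) k)) = true := by
  decide +kernel

theorem count72 : patternCount 24 (fixPts 7) [(dod0, dod0)] m24Cert id = 72 := by decide +kernel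

theorem triples_card : (((setOf24 dod0) ×ˢ (setOf24 dod0) ×ˢ (setOf24 dod0)).filter fun t =>
    t.1 ≠ t.2.1 ∧ t.1 ≠ t.2.2 ∧ t.2.1 ≠ t.2.2).card = 1320 := by decide +kernel

theorem base_points : (∀ i : Fin 3, (enc.symm (Fin.castLE (by norm_num) i) : GolayPt) ∈ setOf24 dod0) ∧
    certOrder dodCert = 95040 := by decide +kernel

theorem gperm_comp {P Q R : ℕ} (hP : Valid 24 P) (hQ : Valid 24 Q) (hR : Valid 24 R)
    (h : (List.range 24).all (fun k => app R k == app P (app Q k)) = true) :
    gperm R = gperm P * gperm Q := by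
  refine Equiv.ext fun p => enc.injective (Fin.ext ?_)
  rw [Equiv.Perm.mul_apply, gperm_apply hR, gperm_apply hP, gperm_apply hQ]
  simpa using List.all_eq_true.1 h _ (List.mem_range.2 (enc p).isLt)

theorem gperm_inj {P Q : ℕ} (hP : Valid 24 P) (hQ : Valid 24 Q) (h : gperm P = gperm Q) :
    (List.range 24).all (fun k => app P k == app Q k) = true := by
  rw [List.all_eq_true]
  intro k hk
  rw [beq_iff_eq]
  have := gperm_apply hP (enc.symm ⟨k, List.mem_range.1 hk⟩)
  rw [h, gperm_apply hQ] at this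
  simpa using this.symm

/-- Fixes the base points and the base dodecad. -/
def InBase (σ : Equiv.Perm GolayPt) : Prop :=
  σ ∈ M24 ∧ PointFits (fixPts 7) [(dod0, dod0)] σ

theorem inBase_iff {σ : Equiv.Perm GolayPt} : InBase σ ↔ σ ∈ M24 ∧
    ((σ (enc.symm 0) = enc.symm 0 ∧ σ (enc.symm 1) = enc.symm 1 ∧ σ (enc.symm 2) = enc.symm 2) ∧
      σ • setOf24 dod0 = setOf24 dod0) := by
  rw [InBase, show [(dod0, dod0)] = [dod0].map (fun m => (m, m)) from rfl, pointFits_fix]
  simp only [List.forall_mem_singleton]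
  have hs : setOf24 7 = {enc.symm 0, enc.symm 1, enc.symm 2} := by decide +kernel
  simp only [hs, Finset.mem_insert, Finset.mem_singleton, forall_eq_or_imp, forall_eq]

theorem inBase_gperm {p P : ℕ} (hp : 0 < p) (h : elemOk p P = true ∧ inH P = true) :
    InBase (gperm P) := by
  obtain ⟨hv, hm, -⟩ := elemOk_spec hp h.1
  have h2 := h.2
  simp only [inH, List.all_eq_true, List.mem_range, Bool.and_eq_true, Bool.or_eq_true, beq_iff_eq,
    decide_eq_true_eq] at h2
  refine ⟨hm, fun e he q hq => ?_, fun e he q => ?_⟩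
  · simp only [fixPts, List.mem_map, List.mem_filter, List.mem_range] at he
    obtain ⟨i, ⟨hi, hb⟩, rfl⟩ := he
    rw [gperm_apply hv, hq]
    refine ((h2 i hi).1).resolve_left fun hlt => ?_
    have : (7 : ℕ).testBit i = false :=
      Nat.testBit_eq_false_of_lt (lt_of_lt_of_le (by norm_num : 7 < 2 ^ 3) (Nat.pow_le_pow_right (by norm_num) hlt))
    rw [this] at hb
    exact Bool.noConfusion hb
  · rw [List.mem_singleton] at he
    subst he
    rw [mem_setOf24, mem_setOf24, gperm_apply hv, (h2 _ (enc q).isLt).2]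

/-- Transitivity of the dodecad stabiliser on ordered triples of its points. -/
theorem exists_to_base {d : Finset GolayPt} (hd : d ∈ dodecads) {p q r : GolayPt} (hp : p ∈ d)
    (hq : q ∈ d) (hr : r ∈ d) (hpq : p ≠ q) (hpr : p ≠ r) (hqr : q ≠ r) :
    ∃ g ∈ M24, g • d = setOf24 dod0 ∧ g p = enc.symm 0 ∧ g q = enc.symm 1 ∧ g r = enc.symm 2 := by
  obtain ⟨g, hg, he⟩ := exists_to_baseDodecad hd
  have he : g • d = setOf24 dod0 := he
  set D := gpGrp dodCert with hD
  set t : GolayPt × GolayPt × GolayPt := (enc.symm 0, enc.symm 1, enc.symm 2) with ht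
  set T := ((setOf24 dod0) ×ˢ (setOf24 dod0) ×ˢ (setOf24 dod0)).filter
    fun t => t.1 ≠ t.2.1 ∧ t.1 ≠ t.2.2 ∧ t.2.1 ≠ t.2.2 with hT
  have hst : Nat.card (MulAction.stabilizer D t) = 72 := by
    rw [← count72, ← card_pointFits]
    refine Nat.card_congr
      { toFun := fun σ => ⟨σ.1.1, ?_⟩
        invFun := fun σ => ⟨⟨σ.1, ?_⟩, ?_⟩
        left_inv := fun _ => rfl
        right_inv := fun _ => rfl }
    · have hm := mem_dodCert.1 σ.1.2
      have hf : σ.1.1 • t = t := σ.2
      simp only [ht, Prod.smul_mk, Prod.mk.injEq, Equiv.Perm.smul_def] at hf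
      exact inBase_iff.2 ⟨hm.1, hf, hm.2⟩
    · exact mem_dodCert.2 ⟨(inBase_iff.1 σ.2).1, (inBase_iff.1 σ.2).2.2⟩
    · obtain ⟨a, b, c⟩ := (inBase_iff.1 σ.2).2.1
      show σ.1 • t = t
      simp [ht, Prod.smul_mk, Equiv.Perm.smul_def, a, b, c]
  have hsub : MulAction.orbit D t ⊆ (T : Set _) := by
    rintro _ ⟨σ, rfl⟩
    have hfix : σ.1 • setOf24 dod0 = setOf24 dod0 := (mem_dodCert.1 σ.2).2
    have hmem : ∀ i : Fin 3, σ.1 (enc.symm (Fin.castLE (by norm_num) i)) ∈ setOf24 dod0 := fun i => by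
      rw [← hfix]; exact Finset.smul_mem_smul_finset (base_points.1 i)
    simp only [hT, Finset.coe_filter, Finset.mem_product, Set.mem_ofPred_eq]
    refine ⟨⟨hmem 0, hmem 1, hmem 2⟩, ?_, ?_, ?_⟩ <;>
      exact fun h => absurd (enc.symm.injective (σ.1.injective h)) (by decide)
  have heq : MulAction.orbit D t = (T : Set _) := by
    refine Set.eq_of_subset_of_ncard_le hsub ?_ T.finite_toSet
    rw [Set.ncard_coe_finset, hT, triples_card]
    have h := Subgroup.card_mul_index (MulAction.stabilizer D t)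
    rw [MulAction.index_stabilizer, hst,
      show Nat.card D = 95040 from (card_gpGrp dodCert_chk).trans base_points.2] at h
    omega
  have hmem : (g p, g q, g r) ∈ MulAction.orbit D t := by
    rw [heq, hT, ← he]
    simp only [Finset.coe_filter, Finset.mem_product, Set.mem_ofPred_eq]
    exact ⟨⟨Finset.smul_mem_smul_finset hp, Finset.smul_mem_smul_finset hq,
      Finset.smul_mem_smul_finset hr⟩, g.injective.ne hpq, g.injective.ne hpr, g.injective.ne hqr⟩
  obtain ⟨σ, hσ⟩ := hmem
  obtain ⟨hσM, hσd⟩ := mem_dodCert.1 (inv_mem σ.2)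
  have hσ' : σ.1 • t = (g p, g q, g r) := hσ
  simp only [ht, Prod.smul_mk, Prod.mk.injEq, Equiv.Perm.smul_def] at hσ'
  refine ⟨σ.1⁻¹ * g, mul_mem hσM hg, by rw [mul_smul, he]; exact hσd, ?_, ?_, ?_⟩ <;>
    rw [Equiv.Perm.mul_apply] <;> simp [← hσ'.1, ← hσ'.2.1, ← hσ'.2.2]

/-- The group facts. -/
theorem sylow_facts {K : Type} [Group K] [Finite K] (h72 : Nat.card K = 72)
    (f : K →* Equiv.Perm GolayPt) (hf : Function.Injective f)
    (hsurj : ∀ σ, InBase σ → ∃ k, f k = σ) :
    (∀ Q : Sylow 3 K, (Q : Subgroup K).Normal ∧ Nat.card Q = 9 ∧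
      ∀ x ∈ (Q : Subgroup K), x ^ 3 = 1) ∧
    ∀ P : Sylow 2 K, Nonempty (P ≃* QuaternionGroup 2) := by
  choose F hF using hsurj
  let nF : ZMod 3 × ZMod 3 → K := fun x => F _ (inBase_gperm (by norm_num) (nTab_ok x))
  let qF : QuaternionGroup 2 → K := fun x => F _ (inBase_gperm (by norm_num) (qTab_ok x))
  have hn : ∀ x, f (nF x) = gperm (nTab x.1 x.2) := fun x => hF _ _
  have hq : ∀ x, f (qF x) = gperm (qTab x) := fun x => hF _ _
  have hnv : ∀ x : ZMod 3 × ZMod 3, Valid 24 (nTab x.1 x.2) :=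
    fun x => (elemOk_spec (by norm_num) (nTab_ok x).1).1
  have hqv : ∀ x, Valid 24 (qTab x) := fun x => (elemOk_spec (by norm_num) (qTab_ok x).1).1
  let ψ : Multiplicative (ZMod 3 × ZMod 3) →* K := MonoidHom.mk' (fun x => nF x.toAdd) fun x y =>
    hf (show f (nF (x.toAdd + y.toAdd)) = f (nF x.toAdd * nF y.toAdd) by
      rw [map_mul, hn, hn, hn]; exact gperm_comp (hnv _) (hnv _) (hnv _) (nTab_mul _ _))
  let φ : QuaternionGroup 2 →* K := MonoidHom.mk' qF fun x y =>
    hf (by rw [map_mul, hq, hq, hq]; exact gperm_comp (hqv _) (hqv _) (hqv _) (qTab_mul x y))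
  have hψ : Function.Injective ψ := fun x y h => Multiplicative.toAdd.injective
    (nTab_inj _ _ (gperm_inj (hnv _) (hnv _) (by rw [← hn, ← hn]; exact congrArg f h)))
  have hφ : Function.Injective φ := fun x y h =>
    qTab_inj _ _ (gperm_inj (hqv _) (hqv _) (by rw [← hq, ← hq]; exact congrArg f h))
  set N := ψ.range with hN
  have h9 : Nat.card N = 9 := by
    rw [hN, ← Nat.card_congr (MonoidHom.ofInjective hψ).toEquiv]
    simp
  have h8 : Nat.card φ.range = 8 := by
    rw [← Nat.card_congr (MonoidHom.ofInjective hφ).toEquiv, Nat.card_eq_fintype_card]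
    decide
  have h3 : ∀ x ∈ N, x ^ 3 = 1 := by
    rintro _ ⟨x, rfl⟩
    exact hf (by rw [map_pow, map_one, show f (ψ x) = _ from hn _]; exact (elemOk_spec (by norm_num) (nTab_ok _).1).2.2)
  have hle : φ.range ≤ Subgroup.normalizer (N : Set K) := by
    rintro _ ⟨x, rfl⟩
    have hc : Subgroup.map (MulAut.conj (φ x)).toMonoidHom N = N := by
      refine Subgroup.eq_of_le_of_card_ge ?_ ?_
      · rintro _ ⟨_, ⟨n, rfl⟩, rfl⟩
        obtain ⟨m, hm⟩ := qTab_norm x n.toAdd
        refine ⟨Multiplicative.ofAdd m, hf ?_⟩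
        show f (nF m) = f (φ x * ψ n * (φ x)⁻¹)
        rw [map_mul, map_mul, map_inv, show f (φ x) = _ from hq x, show f (ψ n) = _ from hn _, hn,
          eq_mul_inv_iff_mul_eq]
        refine Equiv.ext fun p => enc.injective (Fin.ext ?_)
        simp only [Equiv.Perm.mul_apply, gperm_apply (hnv _), gperm_apply (hqv _)]
        simpa using (beq_iff_eq.1 (List.all_eq_true.1 hm _ (List.mem_range.2 (enc p).isLt))).symm
      · rw [Subgroup.card_map_of_injective (MulAut.conj (φ x)).injective]
    rw [Subgroup.mem_normalizer_iff]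
    intro h
    constructor
    · intro hh; rw [← hc]; exact ⟨h, hh, rfl⟩
    · intro hh
      rw [← hc] at hh
      obtain ⟨y, hy, hye⟩ := hh
      rwa [show y = h from (MulAut.conj (φ x)).injective hye] at hy
  have htop : Subgroup.normalizer (N : Set K) = ⊤ := by
    refine Subgroup.eq_top_of_card_eq _ (Nat.dvd_antisymm (Subgroup.card_subgroup_dvd_card _) ?_)
    rw [h72]
    have a := Subgroup.card_dvd_of_le (Subgroup.le_normalizer (H := N))
    have b := Subgroup.card_dvd_of_le hle
    rw [h9] at a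
    rw [h8] at b
    exact (show Nat.Coprime 9 8 by norm_num).mul_dvd_of_dvd_of_dvd a b
  have hnorm : N.Normal := Subgroup.normalizer_eq_top_iff.1 htop
  have : Fact (Nat.Prime 3) := ⟨by norm_num⟩
  have : Fact (Nat.Prime 2) := ⟨Nat.prime_two⟩
  have hf3 : Nat.card N = 3 ^ (Nat.card K).factorization 3 := by
    rw [h9, h72, show Nat.factorization 72 3 = 2 by decide +kernel]; norm_num
  have hf2 : Nat.card φ.range = 2 ^ (Nat.card K).factorization 2 := by
    rw [h8, h72, show Nat.factorization 72 2 = 3 by decide +kernel]; norm_num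
  let P₃ : Sylow 3 K := Sylow.ofCard N hf3
  let P₂ : Sylow 2 K := Sylow.ofCard φ.range hf2
  refine ⟨fun Q => ?_, fun P => ?_⟩
  · obtain ⟨g, hg⟩ := MulAction.exists_smul_eq K P₃ Q
    have : (P₃ : Subgroup K).Normal := hnorm
    have hQ : Q = P₃ := hg ▸ Sylow.smul_eq_of_normal
    subst hQ
    exact ⟨hnorm, h9, h3⟩
  · obtain ⟨g, hg⟩ := MulAction.exists_smul_eq K P₂ P
    subst hg
    exact ⟨((P₂.equivSMul g).symm.trans (MonoidHom.ofInjective hφ).symm)⟩


/-- In the group of the length-24 code, the subgroup fixing a dodecad setwise and three of its points individually (a group of order 72) has a normal Sylow 3-subgroup that is elementary abelian of order 9, and its Sylow 2-subgroups are quaternion of order 8. -/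
theorem result (d : Finset Cfsg.GolayPt) (hd : d ∈ Cfsg.dodecads) (p q r : Cfsg.GolayPt) (hp : p ∈ d) (hq : q ∈ d) (hr : r ∈ d) (hpq : p ≠ q) (hpr : p ≠ r) (hqr : q ≠ r) : (∀ Q : Sylow 3 ↥(MulAction.stabilizer Cfsg.M24 d ⊓ MulAction.stabilizer Cfsg.M24 p ⊓ MulAction.stabilizer Cfsg.M24 q ⊓ MulAction.stabilizer Cfsg.M24 r), (Q : Subgroup ↥(MulAction.stabilizer Cfsg.M24 d ⊓ MulAction.stabilizer Cfsg.M24 p ⊓ MulAction.stabilizer Cfsg.M24 q ⊓ MulAction.stabilizer Cfsg.M24 r)).Normal ∧ Nat.card ↥Q = 9 ∧ ∀ x ∈ (Q : Subgroup ↥(MulAction.stabilizer Cfsg.M24 d ⊓ MulAction.stabilizer Cfsg.M24 p ⊓ MulAction.stabilizer Cfsg.M24 q ⊓ MulAction.stabilizer Cfsg.M24 r)), x ^ 3 = 1) ∧ ∀ P : Sylow 2 ↥(MulAction.stabilizer Cfsg.M24 d ⊓ MulAction.stabilizer Cfsg.M24 p ⊓ MulAction.stabilizer Cfsg.M24 q ⊓ MulAction.stabilizer Cfsg.M24 r), Nonempty (↥P ≃* QuaternionGroup 2) := by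
  obtain ⟨g, hg, hgd, hgp, hgq, hgr⟩ := exists_to_base hd hp hq hr hpq hpr hqr
  let f : ↥(MulAction.stabilizer Cfsg.M24 d ⊓ MulAction.stabilizer Cfsg.M24 p ⊓
      MulAction.stabilizer Cfsg.M24 q ⊓ MulAction.stabilizer Cfsg.M24 r) →* Equiv.Perm Cfsg.GolayPt :=
    ((MulAut.conj g).toMonoidHom.comp Cfsg.M24.subtype).comp (Subgroup.subtype _)
  have hfinj : Function.Injective f := fun a b h =>
    Subtype.ext (Subtype.ext ((MulAut.conj g).injective h))
  have hdi : g⁻¹ • setOf24 dod0 = d := by rw [inv_smul_eq_iff, hgd]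
  have hiff : ∀ σ : Equiv.Perm Cfsg.GolayPt, InBase (g * σ * g⁻¹) ↔
      σ ∈ Cfsg.M24 ∧ ((σ p = p ∧ σ q = q ∧ σ r = r) ∧ σ • d = d) := by
    intro σ
    rw [inBase_iff]
    refine and_congr ⟨fun h => ?_, fun h => mul_mem (mul_mem hg h) (inv_mem hg)⟩ ?_
    · simpa [mul_assoc] using mul_mem (mul_mem (inv_mem hg) h) hg
    · simp only [← hgp, ← hgq, ← hgr, ← hgd, Equiv.Perm.mul_apply, mul_smul,
        Equiv.Perm.coe_inv, Equiv.symm_apply_apply, g.injective.eq_iff, inv_smul_smul,
        smul_left_cancel_iff]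
  have hsurj : ∀ σ, InBase σ → ∃ k, f k = σ := by
    intro σ hσ
    obtain ⟨hM, ⟨a, b, c⟩, e⟩ := (hiff (g⁻¹ * σ * g)).1 (by simpa [mul_assoc] using hσ)
    exact ⟨⟨⟨g⁻¹ * σ * g, hM⟩, ⟨⟨e, a⟩, b⟩, c⟩, by simp [f, mul_assoc]⟩
  have hrange : ∀ k, InBase (f k) := fun k => (hiff _).2 ⟨k.1.2, ⟨k.2.1.1.2, k.2.1.2, k.2.2⟩, k.2.1.1.1⟩
  refine sylow_facts ?_ f hfinj hsurj
  rw [← count72, ← card_pointFits]
  exact Nat.card_congr (Equiv.ofBijective (fun k => (⟨f k, hrange k⟩ : {σ // InBase σ}))
    ⟨fun a b h => hfinj (congrArg Subtype.val h),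
      fun σ => (hsurj σ.1 σ.2).imp fun k hk => Subtype.ext hk⟩)

end Cfsg.Agent.S5619
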