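import Cfsg.Statements.S1600
import Cfsg.Agent.Lib.M24Geom.SymSix
import Cfsg.Agent.Lib.M24Geom.Conj
import Cfsg.Agent.Lib.Golay.Pointed
import Cfsg.Agent.S5619
-- import your own Cfsg.Agent.* helpers here

set_option autoImplicit false
open scoped Pointwise
open Cfsg

namespace Cfsg.Agent.S1600

open Cfsg.Agent.Lib.Compute Cfsg.Agent.Lib.GolayOrbit Cfsg.Agent.Lib.M24Geom

open Cfsg.Agent.S5619

theorem trans_facts : patternCount 24 (fixPts 39) [(dod0, dod0)] m24Cert id = 6 ∧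
    (Finset.univ \ setOf24 dod0).card = 12 ∧ (enc.symm 5 : GolayPt) ∉ setOf24 dod0 ∧
    setOf24 39 = insert (enc.symm 5) (setOf24 7) := by decide +kernel

theorem inBase39_iff {σ : Equiv.Perm GolayPt} :
    (σ ∈ M24 ∧ PointFits (fixPts 39) [(dod0, dod0)] σ) ↔ InBase σ ∧ σ (enc.symm 5) = enc.symm 5 := by
  rw [InBase, show [(dod0, dod0)] = [dod0].map (fun m => (m, m)) from rfl, pointFits_fix,
    pointFits_fix, trans_facts.2.2.2]
  simp only [Finset.forall_mem_insert]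
  tauto


/-- The pointwise stabiliser of three points of a dodecad inside the dodecad stabiliser (order 72) is transitive on the complementary dodecad. -/
theorem result (d : Finset Cfsg.GolayPt) (hd : d ∈ Cfsg.dodecads) (p q r : Cfsg.GolayPt) (hp : p ∈ d) (hq : q ∈ d) (hr : r ∈ d) (hpq : p ≠ q) (hpr : p ≠ r) (hqr : q ≠ r) : Nat.card ↥(MulAction.stabilizer Cfsg.M24 d ⊓ MulAction.stabilizer Cfsg.M24 p ⊓ MulAction.stabilizer Cfsg.M24 q ⊓ MulAction.stabilizer Cfsg.M24 r) = 72 ∧ ∀ x ∉ d, ∀ y ∉ d, ∃ g ∈ (MulAction.stabilizer Cfsg.M24 d ⊓ MulAction.stabilizer Cfsg.M24 p ⊓ MulAction.stabilizer Cfsg.M24 q ⊓ MulAction.stabilizer Cfsg.M24 r), ((g : ↥Cfsg.M24) : Equiv.Perm Cfsg.GolayPt) x = y := by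
  obtain ⟨g, hg, hgd, hgp, hgq, hgr⟩ := exists_to_base hd hp hq hr hpq hpr hqr
  set H := MulAction.stabilizer Cfsg.M24 d ⊓ MulAction.stabilizer Cfsg.M24 p ⊓
      MulAction.stabilizer Cfsg.M24 q ⊓ MulAction.stabilizer Cfsg.M24 r with hH
  let f : ↥H →* Equiv.Perm Cfsg.GolayPt :=
    ((MulAut.conj g).toMonoidHom.comp Cfsg.M24.subtype).comp (Subgroup.subtype _)
  have hfinj : Function.Injective f := fun a b h =>
    Subtype.ext (Subtype.ext ((MulAut.conj g).injective h))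
  have hiff : ∀ σ : Equiv.Perm Cfsg.GolayPt, InBase (g * σ * g⁻¹) ↔
      σ ∈ Cfsg.M24 ∧ ((σ p = p ∧ σ q = q ∧ σ r = r) ∧ σ • d = d) := by
    intro σ
    rw [inBase_iff]
    refine and_congr ⟨fun h => ?_, fun h => mul_mem (mul_mem hg h) (inv_mem hg)⟩ ?_
    · simpa [mul_assoc] using mul_mem (mul_mem (inv_mem hg) h) hg
    · simp only [← hgp, ← hgq, ← hgr, ← hgd, Equiv.Perm.mul_apply, mul_smul,
        Equiv.Perm.coe_inv, Equiv.symm_apply_apply, g.injective.eq_iff, inv_smul_smul,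
        smul_left_cancel_iff]
  have hsurj : ∀ σ, InBase σ → ∃ k, f k = σ := by
    intro σ hσ
    obtain ⟨hM, ⟨a, b, c⟩, e⟩ := (hiff (g⁻¹ * σ * g)).1 (by simpa [mul_assoc] using hσ)
    exact ⟨⟨⟨g⁻¹ * σ * g, hM⟩, ⟨⟨e, a⟩, b⟩, c⟩, by simp [f, mul_assoc]⟩
  have hrange : ∀ k, InBase (f k) := fun k => (hiff _).2 ⟨k.1.2, ⟨k.2.1.1.2, k.2.1.2, k.2.2⟩, k.2.1.1.1⟩
  have h72 : Nat.card H = 72 := by
    rw [← count72, ← card_pointFits]
    exact Nat.card_congr (Equiv.ofBijective (fun k => (⟨f k, hrange k⟩ : {σ // InBase σ}))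
      ⟨fun a b h => hfinj (congrArg Subtype.val h),
        fun σ => (hsurj σ.1 σ.2).imp fun k hk => Subtype.ext hk⟩)
  refine ⟨h72, fun x hx y hy => ?_⟩
  set z : Cfsg.GolayPt := g⁻¹ (enc.symm 5) with hz
  have hfz : ∀ k : H, k • z = z ↔ f k (enc.symm 5) = enc.symm 5 := fun k => by
    show (k.1 : Equiv.Perm Cfsg.GolayPt) z = z ↔ g ((k.1 : Equiv.Perm Cfsg.GolayPt) (g⁻¹ (enc.symm 5))) = _
    rw [← hz, hz]
    exact ⟨fun h => by rw [h]; simp, fun h => g.injective (by simpa using h)⟩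
  have h6 : Nat.card (MulAction.stabilizer H z) = 6 := by
    rw [← trans_facts.1, ← card_pointFits]
    refine Nat.card_congr (Equiv.ofBijective
      (fun k => (⟨f k.1, inBase39_iff.2 ⟨hrange _, (hfz _).1 k.2⟩⟩ :
        {σ // σ ∈ Cfsg.M24 ∧ PointFits (fixPts 39) [(dod0, dod0)] σ}))
      ⟨fun a b h => Subtype.ext (hfinj (congrArg Subtype.val h)), fun σ => ?_⟩)
    obtain ⟨hb, h5⟩ := inBase39_iff.1 σ.2
    obtain ⟨k, hk⟩ := hsurj _ hb
    exact ⟨⟨k, (hfz k).2 (hk ▸ h5)⟩, Subtype.ext hk⟩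
  have hzd : z ∉ d := fun h => trans_facts.2.2.1 (by
    rw [← hgd]; simpa [hz] using Finset.smul_mem_smul_finset (a := g) h)
  have hfix : ∀ k : H, (k.1 : Equiv.Perm Cfsg.GolayPt) • d = d := fun k => k.2.1.1.1
  have hsub : MulAction.orbit H z ⊆ ((Finset.univ \ d : Finset Cfsg.GolayPt) : Set _) := by
    rintro _ ⟨k, rfl⟩
    simp only [Finset.coe_sdiff, Finset.coe_univ, Set.mem_diff, Set.mem_univ, true_and, Finset.mem_coe]
    intro h
    exact hzd (Finset.smul_mem_smul_finset_iff (k.1 : Equiv.Perm Cfsg.GolayPt) |>.1 (by rw [hfix]; exact h))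
  have h12 : (Finset.univ \ d).card = 12 := by
    rw [← Finset.card_smul_finset g, Finset.smul_finset_sdiff, Finset.smul_finset_univ, hgd]
    exact trans_facts.2.1
  have heq : MulAction.orbit H z = ((Finset.univ \ d : Finset Cfsg.GolayPt) : Set _) := by
    refine Set.eq_of_subset_of_ncard_le hsub ?_ (Finset.finite_toSet _)
    rw [Set.ncard_coe_finset, h12]
    have h := Subgroup.card_mul_index (MulAction.stabilizer H z)
    rw [MulAction.index_stabilizer, h6, h72] at h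
    omega
  have hmem : ∀ w ∉ d, w ∈ MulAction.orbit H z := fun w hw => by
    rw [heq]; simpa using hw
  obtain ⟨a, ha⟩ := hmem x hx
  obtain ⟨b, hb⟩ := hmem y hy
  refine ⟨((b * a⁻¹ : H) : Cfsg.M24), (b * a⁻¹).2, ?_⟩
  show (b * a⁻¹) • x = y
  rw [mul_smul, ← ha, inv_smul_smul]
  exact hb

end Cfsg.Agent.S1600
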