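import Cfsg.Statements.S1601
import Cfsg.Agent.Lib.M24Geom.SymSix
import Cfsg.Agent.Lib.M24Geom.TableIso
import Cfsg.Agent.Lib.Classical.SLTwo
-- import your own Cfsg.Agent.* helpers here

set_option autoImplicit false
open scoped Pointwise
open Cfsg

namespace Cfsg.Agent.S1601

open Cfsg.Agent.Lib.Compute Cfsg.Agent.Lib.GolayOrbit Cfsg.Agent.Lib.M24Geom

/-- The images of the upper unipotent matrices. -/
def lUList : List ℕ := [0x170016001500140013001200110010000f000e000d000c000b000a0009000800070006000500040003000200010000,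
  0xf000b0014000e0011000200170003001600070006000d000a001500100012001300090005000c0001000400080000,
  0x16000a000e000700170004000f0001000b0013000900060015001400030002001100100005000d0008000c00120000,
  0xb001500070013000f000c00160008000a0011001000090014000e0001000400170003000500060012000d00020000,
  0xa0014001300110016000d000b00120015001700030010000e00070008000c000f0001000500090002000600040000,
  0x15000e00110017000b0006000a00020014000f00010003000700130012000d001600080005001000040009000c0000,
  0x1400070017000f000a000900150004000e0016000800010013001100020006000b001200050003000c0010000d0000,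
  0xe0013000f0016001500100014000c0007000b001200080011001700040009000a000200050001000d000300060000,
  0x700110016000b00140003000e000d0013000a000200120017000f000c001000150004000500080006000100090000,
  0x130017000b000a000e0001000700060011001500040002000f0016000d00030014000c000500120009000800100000,
  0x11000f000a0015000700080013000900170014000c00040016000b00060001000e000d000500020010001200030000]

/-- The image of the Weyl matrix. -/
def lW : ℕ := 0x11000b000f0013001400080017000d0015000e001000040016000a00090012000700060005000c0002000300010000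

/-- A matrix as a tuple of rows. -/
abbrev Quad : Type := ZMod 11 × ZMod 11 × ZMod 11 × ZMod 11

/-- Product of tuples as matrices. -/
def qm (x y : Quad) : Quad :=
  (x.1 * y.1 + x.2.1 * y.2.2.1, x.1 * y.2.1 + x.2.1 * y.2.2.2,
    x.2.2.1 * y.1 + x.2.2.2 * y.2.2.1, x.2.2.1 * y.2.1 + x.2.2.2 * y.2.2.2)

/-- Image of a unipotent element. -/
def lU (k : ZMod 11) : ℕ → ℕ := app (lUList.getD k.val 0)

/-- Image of an element with nonzero lower left entry. -/
def lBig (x : Quad) (i : ℕ) : ℕ :=
  lU ((x.1 - 1) * x.2.2.1 ^ 9) (app lW (lU (-x.2.2.1) (app lW (lU ((x.2.2.2 - 1) * x.2.2.1 ^ 9) i))))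

/-- The map on tuples. -/
def lMap (x : Quad) (i : ℕ) : ℕ :=
  if x.2.2.1 = 0 then app lW (lBig (x.2.2.1, x.2.2.2, -x.1, -x.2.1) i) else lBig x i

/-- All checks on one element. -/
def lCheck (x : Quad) : Bool :=
  ((List.range 24).all fun i => (lMap (qm x (0, 10, 1, 0)) i == lMap x (app lW i)) &&
    (lMap (qm x (1, 1, 0, 1)) i == lMap x (lU 1 i))) &&
  ((!(List.range 24).all fun i => lMap x i == i) ||
    (decide (x.2.1 = 0) && decide (x.2.2.1 = 0) && decide (x.2.2.2 = x.1)))

theorem lCheck_all : ∀ a b c d : ZMod 11, a * d - b * c = 1 → lCheck (a, b, c, d) = true := by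
  decide +kernel

theorem l_gen : ∀ a b c d : ZMod 11, a * d - b * c = 1 → c ≠ 0 →
    (a, b, c, d) = qm (qm (1, (a - 1) * c ^ 9, 0, 1)
      (qm (qm (0, 10, 1, 0) (1, -c, 0, 1)) (qm (0, 10, 1, 0) (qm (0, 10, 1, 0) (0, 10, 1, 0)))))
      (1, (d - 1) * c ^ 9, 0, 1) := by
  decide +kernel

theorem l_facts : ([(11, lUList.getD 1 0), (2, lW)].all fun e => powOk 24 e.1 e.2 && inM11 e.2 &&
      (app e.2 5 == 5) && decide (0 < e.1)) = true ∧
    (List.range 24).all (fun i => (lMap (0, 10, 1, 0) i == app lW i) &&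
      (lMap (1, 1, 0, 1) i == app (lUList.getD 1 0) i) && (lMap (1, 0, 0, 1) i == i) &&
      (lU 1 i == app (lUList.getD 1 0) i) && (lMap (-1, 0, 0, -1) i == i)) = true ∧
    ((idxLists dodPtCert).countP fun js => sift dodPtCert js 5 == 5) = 660 ∧
    certOrder dodPtCert = 7920 ∧ ((Finset.univ : Finset GolayPt) \ setOf24 dod0).card = 12 ∧
    (enc.symm 5 : GolayPt) ∉ setOf24 dod0 ∧ ((0 : ZMod 11) * 0 - 10 * 1 = 1) := by
  decide +kernel

theorem scalar_cases : ∀ r : ZMod 11, r * r = 1 → r = 1 ∨ r = -1 := by decide +kernel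

/-- The stabiliser of the base outer point in the base group of degree 11. -/
noncomputable def ptGrp : Subgroup (Equiv.Perm GolayPt) :=
  gpGrp dodPtCert ⊓ MulAction.stabilizer (Equiv.Perm GolayPt) (enc.symm 5 : GolayPt)

theorem fix_iff {σ : Equiv.Perm GolayPt} {f : ℕ → ℕ}
    (hf : ∀ q, ((enc (σ q) : Fin 24) : ℕ) = f (enc q)) :
    (f 5 == 5) = true ↔ σ • (enc.symm 5 : GolayPt) = enc.symm 5 := by
  rw [beq_iff_eq, show f 5 = ((enc (σ (enc.symm 5)) : Fin 24) : ℕ) by rw [hf]; simp,
    show (5 : ℕ) = ((5 : Fin 24) : ℕ) from rfl, Fin.val_inj, Equiv.Perm.smul_def, Equiv.eq_symm_apply]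

theorem card_ptGrp : Nat.card ptGrp = 660 := by
  rw [← l_facts.2.2.1, ← card_gpGrp_filter dodPtCert_chk
    (fun σ => σ • (enc.symm 5 : GolayPt) = enc.symm 5) (fun f => f 5 == 5) fun σ f h => fix_iff h]
  rfl

/-- The tuple of an element. -/
def slQ (g : Matrix.SpecialLinearGroup (Fin 2) (ZMod 11)) : Quad := (g 0 0, g 0 1, g 1 0, g 1 1)

theorem det_slQ (g : Matrix.SpecialLinearGroup (Fin 2) (ZMod 11)) :
    g 0 0 * g 1 1 - g 0 1 * g 1 0 = 1 := by
  have h := g.2
  rwa [Matrix.det_fin_two] at h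

theorem slQ_mul (g h : Matrix.SpecialLinearGroup (Fin 2) (ZMod 11)) :
    slQ (g * h) = qm (slQ g) (slQ h) := by
  simp [slQ, qm, Matrix.mul_apply, Fin.sum_univ_two]

theorem slQ_injective : Function.Injective slQ := by
  intro g h e
  simp only [slQ, Prod.mk.injEq] at e
  obtain ⟨e1, e2, e3, e4⟩ := e
  ext i j
  fin_cases i <;> fin_cases j <;> assumption

theorem ptGrp_iso : Nonempty (ptGrp ≃* Matrix.ProjectiveSpecialLinearGroup (Fin 2) (ZMod 11)) := by
  have : Fact (Nat.Prime 11) := ⟨by norm_num⟩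
  obtain ⟨hgens, hval, -, -, -, -, hdet⟩ := l_facts
  simp only [List.all_eq_true, List.mem_range, Bool.and_eq_true, beq_iff_eq, decide_eq_true_eq] at hgens hval
  have hmem : ∀ e ∈ [(11, lUList.getD 1 0), (2, lW)], Valid 24 e.2 ∧ gperm e.2 ∈ ptGrp := by
    intro e he
    obtain ⟨⟨⟨h1, h2⟩, h3⟩, h4⟩ := hgens e he
    obtain ⟨hv, -⟩ := valid_of_powOk h4 h1
    refine ⟨hv, gperm_mem_M11 hv h2, ?_⟩
    show gperm e.2 • (enc.symm 5 : GolayPt) = enc.symm 5
    exact (fix_iff (gperm_apply hv)).1 (by simpa using h3)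
  let w : Matrix.SpecialLinearGroup (Fin 2) (ZMod 11) :=
    ⟨!![0, 10; 1, 0], (Matrix.det_fin_two_of _ _ _ _).trans hdet⟩
  let u : ZMod 11 → Matrix.SpecialLinearGroup (Fin 2) (ZMod 11) :=
    fun k => ⟨!![1, k; 0, 1], by rw [Matrix.det_fin_two_of]; simp⟩
  have hw : slQ w = (0, 10, 1, 0) := by simp [slQ, w]
  have hu : ∀ k, slQ (u k) = (1, k, 0, 1) := fun k => by simp [slQ, u]
  have h1 : slQ 1 = (1, 0, 0, 1) := by simp [slQ]
  have hS : Subgroup.closure ({w, u 1} : Set (Matrix.SpecialLinearGroup (Fin 2) (ZMod 11))) = ⊤ := by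
    set M := Subgroup.closure ({w, u 1} : Set (Matrix.SpecialLinearGroup (Fin 2) (ZMod 11))) with hM
    have hwM : w ∈ M := Subgroup.subset_closure (by simp)
    have huM : ∀ k, u k ∈ M := by
      intro k
      have hk : ∀ n : ℕ, u (n : ZMod 11) = u 1 ^ n := by
        intro n
        induction n with
        | zero =>
          apply slQ_injective
          rw [hu, pow_zero, h1, Nat.cast_zero]
        | succ n ih =>
          apply slQ_injective
          rw [pow_succ, slQ_mul, ← ih, hu, hu, hu]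
          simp [qm, add_comm]
      rw [← ZMod.natCast_zmod_val k, hk]
      exact pow_mem (Subgroup.subset_closure (by simp)) _
    have hbig : ∀ g : Matrix.SpecialLinearGroup (Fin 2) (ZMod 11), g 1 0 ≠ 0 → g ∈ M := by
      intro g hc
      have : g = u ((g 0 0 - 1) * g 1 0 ^ 9) * (w * u (-g 1 0) * (w * (w * w))) *
          u ((g 1 1 - 1) * g 1 0 ^ 9) := by
        apply slQ_injective
        simp only [slQ_mul, hu, hw]
        exact l_gen _ _ _ _ (det_slQ g) hc
      rw [this]
      exact mul_mem (mul_mem (huM _) (mul_mem (mul_mem hwM (huM _))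
        (mul_mem hwM (mul_mem hwM hwM)))) (huM _)
    rw [eq_top_iff]
    intro g _
    by_cases hc : g 1 0 = 0
    · have h2 : (w * g) 1 0 ≠ 0 := by
        have e : (w * g) 1 0 = g 0 0 := by
          have := congrArg (fun q : Quad => q.2.2.1) (slQ_mul w g)
          rw [hw] at this
          simpa [slQ, qm] using this
        rw [e]
        intro h0
        have := det_slQ g
        rw [hc, h0] at this
        simp at this
      have := mul_mem (inv_mem hwM) (hbig _ h2)
      simpa using this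
    · exact hbig g hc
  have hchk : ∀ g : Matrix.SpecialLinearGroup (Fin 2) (ZMod 11), lCheck (slQ g) = true :=
    fun g => lCheck_all _ _ _ _ (det_slQ g)
  obtain ⟨F, hF⟩ := exists_hom_of_table ptGrp.subtype ptGrp.subtype_injective
    (fun g => lMap (slQ g)) {w, u 1} hS
    (fun i hi => by rw [h1]; exact (hval i hi).1.1.2)
    (by
      intro s hs
      rcases hs with rfl | rfl
      · obtain ⟨hv, hm⟩ := hmem (2, lW) (by simp)
        exact ⟨⟨_, hm⟩, fun q => by
          rw [hw, (hval _ (enc q).isLt).1.1.1.1]; exact gperm_apply hv q⟩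
      · obtain ⟨hv, hm⟩ := hmem (11, lUList.getD 1 0) (by simp)
        exact ⟨⟨_, hm⟩, fun q => by
          rw [hu, (hval _ (enc q).isLt).1.1.1.2]; exact gperm_apply hv q⟩)
    (fun x s hs i hi => by
      have h := hchk x
      simp only [lCheck, Bool.and_eq_true, List.all_eq_true, List.mem_range, beq_iff_eq] at h
      show lMap (slQ (x * s)) i = lMap (slQ x) (lMap (slQ s) i)
      rw [slQ_mul]
      rcases hs with rfl | rfl
      · rw [hw, (hval i hi).1.1.1.1]; exact (h.1 i hi).1
      · rw [hu, (hval i hi).1.1.1.2, ← (hval i hi).1.2]; exact (h.1 i hi).2)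
  have hker : F.ker = Subgroup.center (Matrix.SpecialLinearGroup (Fin 2) (ZMod 11)) := by
    ext g
    rw [MonoidHom.mem_ker, Matrix.SpecialLinearGroup.mem_center_iff]
    constructor
    · intro hg
      have h := hchk g
      simp only [lCheck, Bool.and_eq_true, Bool.or_eq_true, Bool.not_eq_true'] at h
      have hall : (List.range 24).all (fun i => lMap (slQ g) i == i) = true :=
        List.all_eq_true.2 fun i hi => beq_iff_eq.2 (by
          have := hF g (enc.symm ⟨i, List.mem_range.1 hi⟩)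
          rw [hg] at this
          simpa using this.symm)
      obtain ⟨⟨hb, hc⟩, hd⟩ : (g 0 1 = 0 ∧ g 1 0 = 0) ∧ g 1 1 = g 0 0 := by
        rcases h.2 with h' | h'
        · rw [hall] at h'; exact Bool.noConfusion h'
        · exact ⟨⟨of_decide_eq_true h'.1.1, of_decide_eq_true h'.1.2⟩, of_decide_eq_true h'.2⟩
      refine ⟨g 0 0, ?_, ?_⟩
      · have := det_slQ g
        rw [hb, hc, hd] at this
        rw [Fintype.card_fin, pow_two]
        simpa using this
      · ext i j
        fin_cases i <;> fin_cases j <;> simp [hb, hc, hd]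
    · rintro ⟨r, hr, hg⟩
      rw [Fintype.card_fin, pow_two] at hr
      have hq : slQ g = (r, 0, 0, r) := by
        simp only [slQ, ← hg, Matrix.scalar_apply]
        simp
      apply Subtype.ext
      refine Equiv.ext fun q => enc.injective (Fin.ext ?_)
      have hFg := hF g q
      refine hFg.trans ?_
      show lMap (slQ g) _ = _
      rw [hq]
      rcases scalar_cases r hr with rfl | rfl
      · exact (hval _ (enc q).isLt).1.1.2
      · exact (hval _ (enc q).isLt).2
  have hsurj : Function.Surjective F := by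
    rw [← MonoidHom.range_eq_top]
    apply Subgroup.eq_top_of_card_eq
    have h1 : Nat.card (Matrix.SpecialLinearGroup (Fin 2) (ZMod 11) ⧸ F.ker) = 660 := by
      rw [hker]
      have h := Cfsg.Agent.Lib.Classical.card_PSL2_mul (F := ZMod 11)
      rw [ZMod.card] at h
      rw [show Nat.gcd 2 (11 - 1) = 2 from rfl, show 11 * (11 ^ 2 - 1) = 1320 from rfl] at h
      show Nat.card (Matrix.ProjectiveSpecialLinearGroup (Fin 2) (ZMod 11)) = 660
      omega
    rw [← Nat.card_congr (QuotientGroup.quotientKerEquivRange F).toEquiv, h1, card_ptGrp]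
  exact ⟨((QuotientGroup.quotientMulEquivOfEq hker.symm).trans
    (QuotientGroup.quotientKerEquivOfSurjective F hsurj)).symm⟩

theorem exists_to_outer {d : Finset GolayPt} (hd : d ∈ dodecads) {p q : GolayPt} (hp : p ∈ d)
    (hq : q ∉ d) : ∃ g ∈ M24, g • d = baseDodecad ∧ g p = pointCoding.dec dodIn0 ∧
      g q = enc.symm 5 := by
  obtain ⟨g, hg, hgd, hgp⟩ := exists_to_dodPt hd hp
  have hfix : ∀ σ : gpGrp dodPtCert, (σ : Equiv.Perm GolayPt) • setOf24 dod0 = setOf24 dod0 :=
    fun σ => (mem_dodPtCert.1 σ.2).2.1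
  have hst : Nat.card (MulAction.stabilizer (gpGrp dodPtCert) (enc.symm 5 : GolayPt)) = 660 := by
    rw [← card_ptGrp]
    exact Nat.card_congr
      { toFun := fun σ => ⟨σ.1.1, σ.1.2, σ.2⟩
        invFun := fun σ => ⟨⟨σ.1, σ.2.1⟩, σ.2.2⟩
        left_inv := fun _ => rfl
        right_inv := fun _ => rfl }
  obtain ⟨σ, hσ⟩ := exists_smul_of_card (G := gpGrp dodPtCert) (a := (enc.symm 5 : GolayPt))
    ((Finset.univ : Finset GolayPt) \ setOf24 dod0) (fun σ => by
      rw [Finset.mem_sdiff]
      refine ⟨Finset.mem_univ _, ?_⟩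
      rw [← hfix σ]
      exact fun h => l_facts.2.2.2.2.2.1 ((Finset.smul_mem_smul_finset_iff _).1 h))
    (by rw [l_facts.2.2.2.2.1, hst, card_gpGrp dodPtCert_chk, l_facts.2.2.2.1])
    (y := g q) (by
      rw [Finset.mem_sdiff, show setOf24 dod0 = g • d from hgd.symm]
      exact ⟨Finset.mem_univ _, fun h => hq ((Finset.smul_mem_smul_finset_iff g).1 h)⟩)
  obtain ⟨hM, hdd, hpp⟩ := mem_dodPtCert.1 (inv_mem σ.2)
  refine ⟨(σ : Equiv.Perm GolayPt)⁻¹ * g, mul_mem hM hg, by rw [mul_smul, hgd, hdd],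
    by rw [Equiv.Perm.mul_apply, hgp, hpp], ?_⟩
  rw [Equiv.Perm.mul_apply, Equiv.Perm.inv_eq_iff_eq]
  exact hσ.symm


/-- In the 3-transitive action of the smallest Mathieu group on the complementary dodecad, a point stabiliser is isomorphic to PSL(2, 11). -/
theorem result (d : Finset Cfsg.GolayPt) (hd : d ∈ Cfsg.dodecads) (p q : Cfsg.GolayPt) (hp : p ∈ d) (hq : q ∉ d) : Nonempty (↥(MulAction.stabilizer Cfsg.M24 d ⊓ MulAction.stabilizer Cfsg.M24 p ⊓ MulAction.stabilizer Cfsg.M24 q) ≃* Matrix.ProjectiveSpecialLinearGroup (Fin 2) (ZMod 11)) := by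
  obtain ⟨g, hg, hgd, hgp, hgq⟩ := exists_to_outer hd hp hq
  obtain ⟨e⟩ := ptGrp_iso
  obtain ⟨e'⟩ := nonempty_mulEquiv_inter hg hgd hgp (MulAction.stabilizer Cfsg.M24 q)
    (MulAction.stabilizer (Equiv.Perm Cfsg.GolayPt) (enc.symm 5 : Cfsg.GolayPt)) (fun x => by
      show g ((x : Equiv.Perm Cfsg.GolayPt) (g⁻¹ (enc.symm 5))) = enc.symm 5 ↔
        (x : Equiv.Perm Cfsg.GolayPt) q = q
      rw [← hgq]
      simp)
  exact ⟨e'.trans e⟩

end Cfsg.Agent.S1601
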