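import Cfsg.Statements.S1603
import Cfsg.Agent.Lib.M24Geom.TableIso
-- import your own Cfsg.Agent.* helpers here

set_option autoImplicit false
open scoped Pointwise
open Cfsg

namespace Cfsg.Agent.S1603

open Cfsg.Agent.Lib.Compute Cfsg.Agent.Lib.GolayOrbit Cfsg.Agent.Lib.M24Geom

/-- The table of the map from the general linear group. -/
def glData : List (ℕ × ℕ) := [(12, 0x160017000e0014000f0006000a00100013001500040009000b0011000c0003000700120005000d0008000200010000),
  (13, 0x150011000e001700050006000a000400130007000d0008000f0014000c000100160003000b00100002000900120000),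
  (14, 0x70014000e0011000b0006000a000d001300160010000200050017000c001200150001000f00040009000800030000),
  (15, 0x70014000a0017000f0006000e001000130015000d001200050011000c000200160009000b00040001000300080000),
  (16, 0x160017000a001100050006000e00040013000700100003000b0014000c000900150008000f000d0012000100020000),
  (17, 0x150011000a0014000b0006000e000d0013001600040001000f0017000c000800070002000500100003001200090000),
  (21, 0x140007000e0016000f000c000a001000130011000d0009000500150006000100170012000b00040002000800030000),
  (22, 0x110015000e0007000b000c000a000d0013001700040002000f00160006000300140001000500100008000900120000),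
  (23, 0x170016000e00150005000c000a00040013001400100008000b00070006001200110003000f000d0009000200010000),
  (24, 0x170016000a0007000f000c000e00100013001100040012000b001500060008001400090005000d0003000100020000),
  (25, 0x140007000a0015000b000c000e000d0013001700100001000500160006000900110002000f00040012000300080000),
  (26, 0x110015000a00160005000c000e000400130014000d0003000f00070006000200170008000b00100001001200090000),
  (28, 0x170016001500140013001200110010000f000e000d000c000b000a0009000800070006000500040003000200010000),
  (29, 0x140007001500170013000900110010000f000a0004000c0005000e0012000100160006000b000d0002000300080000),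
  (31, 0x1100150007001700130003001400040005000e0010000c000f000a0008000200160006000b000d0001000900120000),
  (32, 0x1700160007001100130008001400040005000a000d000c000b000e0003001200150006000f00100009000100020000),
  (34, 0x14000700160011001300010017000d000b000e0004000c0005000a0002000900150006000f00100012000800030000),
  (35, 0x11001500160014001300020017000d000b000a0010000c000f000e0001000300070006000500040008001200090000),
  (37, 0xe000a00150016000500120011000d000f000700040003001300140009000100170008000b00100002000c00060000),
  (38, 0xa000e00150007000b000900110004000f0016000d0002001300170012000800140001000500100003000c00060000),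
  (39, 0xa000e00070016000f00080014000d0005001500100009001300110003000200170012000b00040001000c00060000),
  (41, 0xe000a00070015000b00030014001000050016000d0001001300170008001200110002000f00040009000c00060000),
  (42, 0xe000a00160007000f000100170004000b0015001000120013001100020003001400090005000d0008000c00060000),
  (43, 0xa000e001600150005000200170010000b000700040008001300140001000900110003000f000d0012000c00060000),
  (46, 0x700140015000a000b001200110004000f0017001000020005001600090006000e00010013000d000c000300080000),
  (47, 0x1600170015000e000500090011000d000f001400100003000b000700120006000a000800130004000c000200010000),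
  (48, 0x1600170007000a000f00030014000d0005001100040009000b001500080006000e001200130010000c000100020000),
  (49, 0x1500110007000e000b0008001400100005001700040001000f001600030006000a00020013000d000c000900120000),
  (51, 0x700140016000e000f000200170004000b0011000d00120005001500010006000a000900130010000c000800030000),
  (53, 0x1500110016000a0005000100170010000b0014000d0008000f000700020006000e000300130004000c001200090000),
  (55, 0x70014001100160013001200150010000f000e000400060005000a000900020017000c000b000d0001000800030000),
  (56, 0x160017001100070013000900150010000f000a000d0006000b000e001200030014000c000500040008000100020000),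
  (58, 0x15001100170007001300010016000d000b000e00100006000f000a000200080014000c000500040003000900120000),
  (59, 0x7001400170015001300020016000d000b000a000400060005000e000100120011000c000f00100009000300080000),
  (61, 0x1600170014001500130003000700040005000e000d0006000b000a000800090011000c000f00100012000200010000),
  (62, 0x1500110014001600130008000700040005000a00100006000f000e000300010017000c000b000d0002001200090000),
  (64, 0x1700160011000a000500120015000d000f000700100008000b00140009000c000e0003001300040006000100020000),
  (65, 0x1400070011000e000b000900150004000f001600100001000500170012000c000a00020013000d0006000800030000),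
  (66, 0x1400070017000a000f000100160004000b0015000d0009000500110002000c000e0012001300100006000300080000),
  (67, 0x1100150017000e0005000200160010000b0007000d0003000f00140001000c000a0008001300040006000900120000),
  (69, 0x1700160014000e000f00080007000d0005001500040012000b00110003000c000a0009001300100006000200010000),
  (71, 0x1100150014000a000b0003000700100005001600040002000f00170008000c000e00010013000d0006001200090000),
  (73, 0xe000a00110014000b001200150004000f0017000d00010013001600090003000700020005001000080006000c0000),
  (74, 0xa000e00110017000500090015000d000f001400040008001300070012000200160003000b001000010006000c0000),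
  (75, 0xa000e00170014000f000200160004000b0011001000090013001500010008000700120005000d00030006000c0000),
  (77, 0xe000a001700110005000100160010000b001400040003001300070002001200150008000f000d00090006000c0000),
  (78, 0xe000a00140017000f00030007000d0005001100100012001300150008000100160009000b000400020006000c0000),
  (79, 0xa000e00140011000b00080007001000050017000d0002001300160003000900150001000f000400120006000c0000)]

/-- The base involution. -/
def invP : ℕ := 0x160017001100070013000900150010000f000a000d0006000b000e001200030014000c000500040008000100020000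

/-- A matrix as a tuple of rows. -/
abbrev Quad3 : Type := ZMod 3 × ZMod 3 × ZMod 3 × ZMod 3

/-- Product of tuples as matrices. -/
def qm3 (x y : Quad3) : Quad3 :=
  (x.1 * y.1 + x.2.1 * y.2.2.1, x.1 * y.2.1 + x.2.1 * y.2.2.2,
    x.2.2.1 * y.1 + x.2.2.2 * y.2.2.1, x.2.2.1 * y.2.1 + x.2.2.2 * y.2.2.2)

/-- The table. -/
def glTab (x : Quad3) : ℕ :=
  (List.lookup (x.1.val + 3 * x.2.1.val + 9 * x.2.2.1.val + 27 * x.2.2.2.val) glData).getD 0

/-- All checks on one element. -/
def glCheck (x : Quad3) : Bool :=
  powOk 24 24 (glTab x) && inM11 (glTab x) &&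
    ((List.range 24).all fun i => app (glTab x) (app invP i) == app invP (app (glTab x) i)) &&
    ((!(List.range 24).all fun i => app (glTab x) i == i) || decide (x = (1, 0, 0, 1)))

theorem glCheck_all : ∀ a b c d : ZMod 3, a * d - b * c ≠ 0 → glCheck (a, b, c, d) = true := by
  decide +kernel

theorem gl_mul : ∀ a b c d : ZMod 3, a * d - b * c ≠ 0 → ∀ e f g h : ZMod 3, e * h - f * g ≠ 0 →
    (List.range 24).all (fun i => app (glTab (qm3 (a, b, c, d) (e, f, g, h))) i ==
      app (glTab (a, b, c, d)) (app (glTab (e, f, g, h)) i)) = true := by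
  decide +kernel

theorem gl_facts : (powOk 24 2 invP && inM11 invP && (List.range 24).any (fun i => !(app invP i == i))) = true ∧
    (List.range 24).all (fun i => app (glTab (1, 0, 0, 1)) i == i) = true ∧
    ((idxLists dodPtCert).countP fun js =>
      (List.range 24).all fun i => sift dodPtCert js (app invP i) == app invP (sift dodPtCert js i)) = 48 ∧
    ((idxLists dodPtCert).countP fun js =>
      (List.range 24).all (fun i => sift dodPtCert js (sift dodPtCert js i) == i) &&
        !(List.range 24).all (fun i => sift dodPtCert js i == i)) = 165 ∧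
    certOrder dodPtCert = 7920 := by
  decide +kernel

theorem invP_valid : Valid 24 invP := by
  have h := gl_facts.1
  simp only [Bool.and_eq_true] at h
  exact (valid_of_powOk (by norm_num) h.1.1).1

/-- The centraliser of the base involution in the base group of degree 11. -/
noncomputable def centGrp : Subgroup (Equiv.Perm GolayPt) :=
  gpGrp dodPtCert ⊓ Subgroup.centralizer {gperm invP}

theorem commute_iff {σ : Equiv.Perm GolayPt} {f : ℕ → ℕ}
    (hf : ∀ q, ((enc (σ q) : Fin 24) : ℕ) = f (enc q)) :
    ((List.range 24).all fun i => f (app invP i) == app invP (f i)) = true ↔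
      σ ∈ Subgroup.centralizer ({gperm invP} : Set (Equiv.Perm GolayPt)) := by
  rw [Subgroup.mem_centralizer_singleton_iff]
  constructor
  · intro h
    refine Equiv.ext fun q => enc.injective (Fin.ext ?_)
    have h' := beq_iff_eq.1 (List.all_eq_true.1 h _ (List.mem_range.2 (enc q).isLt))
    simp only [Equiv.Perm.mul_apply, hf, gperm_apply invP_valid, h']
  · intro h
    refine List.all_eq_true.2 fun i hi => beq_iff_eq.2 ?_
    have h' := congrArg (fun τ : Equiv.Perm GolayPt => ((enc (τ (enc.symm ⟨i, List.mem_range.1 hi⟩)) : Fin 24) : ℕ)) h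
    simpa [Equiv.Perm.mul_apply, hf, gperm_apply invP_valid] using h'

theorem card_centGrp : Nat.card centGrp = 48 := by
  rw [← gl_facts.2.2.1, ← card_gpGrp_filter dodPtCert_chk
    (fun σ => σ ∈ Subgroup.centralizer ({gperm invP} : Set (Equiv.Perm GolayPt)))
    (fun f => (List.range 24).all fun i => f (app invP i) == app invP (f i))
    fun σ f h => commute_iff h]
  rfl

theorem card_invs : Nat.card {σ : Equiv.Perm GolayPt // σ ∈ gpGrp dodPtCert ∧ (σ * σ = 1 ∧ σ ≠ 1)} = 165 := by
  rw [← gl_facts.2.2.2.1, ← card_gpGrp_filter dodPtCert_chk (fun σ => σ * σ = 1 ∧ σ ≠ 1)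
    (fun f => (List.range 24).all (fun i => f (f i) == i) && !(List.range 24).all (fun i => f i == i))
    fun σ f hf => ?_]
  have h2 : ((List.range 24).all fun i => f (f i) == i) = true ↔ σ * σ = 1 := by
    refine ⟨fun h => Equiv.ext fun q => enc.injective (Fin.ext ?_), fun h => ?_⟩
    · rw [Equiv.Perm.mul_apply, hf, hf]
      exact beq_iff_eq.1 (List.all_eq_true.1 h _ (List.mem_range.2 (enc q).isLt))
    · refine List.all_eq_true.2 fun i hi => beq_iff_eq.2 ?_
      have h' := congrArg (fun τ : Equiv.Perm GolayPt => ((enc (τ (enc.symm ⟨i, List.mem_range.1 hi⟩)) : Fin 24) : ℕ)) h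
      simpa [Equiv.Perm.mul_apply, hf] using h'
  have h1 : ((List.range 24).all fun i => f i == i) = true ↔ σ = 1 := by
    refine ⟨fun h => Equiv.ext fun q => enc.injective (Fin.ext ?_), fun h => ?_⟩
    · rw [hf]
      exact beq_iff_eq.1 (List.all_eq_true.1 h _ (List.mem_range.2 (enc q).isLt))
    · refine List.all_eq_true.2 fun i hi => beq_iff_eq.2 ?_
      have h' := congrArg (fun τ : Equiv.Perm GolayPt => ((enc (τ (enc.symm ⟨i, List.mem_range.1 hi⟩)) : Fin 24) : ℕ)) h
      simpa [hf] using h'
  rw [Bool.and_eq_true, h2, Bool.not_eq_true', ← Bool.not_eq_true, h1]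

/-- The tuple of an element. -/
def glQ (g : GL (Fin 2) (ZMod 3)) : Quad3 :=
  ((g : Matrix (Fin 2) (Fin 2) (ZMod 3)) 0 0, (g : Matrix (Fin 2) (Fin 2) (ZMod 3)) 0 1,
    (g : Matrix (Fin 2) (Fin 2) (ZMod 3)) 1 0, (g : Matrix (Fin 2) (Fin 2) (ZMod 3)) 1 1)

theorem det_glQ [Fact (Nat.Prime 3)] (g : GL (Fin 2) (ZMod 3)) :
    (g : Matrix (Fin 2) (Fin 2) (ZMod 3)) 0 0 * (g : Matrix (Fin 2) (Fin 2) (ZMod 3)) 1 1 -
      (g : Matrix (Fin 2) (Fin 2) (ZMod 3)) 0 1 * (g : Matrix (Fin 2) (Fin 2) (ZMod 3)) 1 0 ≠ 0 := by
  rw [← Matrix.det_fin_two]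
  exact ((Matrix.isUnit_iff_isUnit_det _).1 g.isUnit).ne_zero

theorem centGrp_iso : Nonempty (centGrp ≃* GL (Fin 2) (ZMod 3)) := by
  have : Fact (Nat.Prime 3) := ⟨by norm_num⟩
  have hone : glQ 1 = (1, 0, 0, 1) := by simp [glQ]
  have hmulQ : ∀ g h : GL (Fin 2) (ZMod 3), glQ (g * h) = qm3 (glQ g) (glQ h) := fun g h => by
    simp [glQ, qm3, Matrix.mul_apply, Fin.sum_univ_two]
  have hchk : ∀ g : GL (Fin 2) (ZMod 3), glCheck (glQ g) = true :=
    fun g => glCheck_all _ _ _ _ (det_glQ g)
  obtain ⟨F, hF⟩ := exists_hom_of_table centGrp.subtype centGrp.subtype_injective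
    (fun g => app (glTab (glQ g))) Set.univ Subgroup.closure_univ
    (fun i hi => by
      rw [hone]
      exact beq_iff_eq.1 (List.all_eq_true.1 gl_facts.2.1 i (List.mem_range.2 hi)))
    (by
      intro s _
      have h := hchk s
      simp only [glCheck, Bool.and_eq_true] at h
      obtain ⟨hv, -⟩ := valid_of_powOk (by norm_num) h.1.1.1
      exact ⟨⟨_, gperm_mem_M11 hv h.1.1.2, (commute_iff (gperm_apply hv)).1 h.1.2⟩,
        fun q => gperm_apply hv q⟩)
    (fun x s _ i hi => by
      show app (glTab (glQ (x * s))) i = app (glTab (glQ x)) (app (glTab (glQ s)) i)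
      rw [hmulQ]
      exact beq_iff_eq.1 (List.all_eq_true.1
        (gl_mul _ _ _ _ (det_glQ x) _ _ _ _ (det_glQ s)) i (List.mem_range.2 hi)))
  have hFinj : Function.Injective F := by
    rw [injective_iff_map_eq_one]
    intro g hg
    have h := hchk g
    simp only [glCheck, Bool.and_eq_true, Bool.or_eq_true, Bool.not_eq_true'] at h
    have hall : (List.range 24).all (fun i => app (glTab (glQ g)) i == i) = true :=
      List.all_eq_true.2 fun i hi => beq_iff_eq.2 (by
        have := hF g (enc.symm ⟨i, List.mem_range.1 hi⟩)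
        rw [hg] at this
        simpa using this.symm)
    rcases h.2 with h' | h'
    · rw [hall] at h'; exact Bool.noConfusion h'
    · have h2 := of_decide_eq_true h'
      simp only [glQ, Prod.mk.injEq] at h2
      obtain ⟨e1, e2, e3, e4⟩ := h2
      ext i j
      fin_cases i <;> fin_cases j <;> simp [e1, e2, e3, e4]
  exact ⟨(MulEquiv.ofBijective F ((Nat.bijective_iff_injective_and_card _).2 ⟨hFinj, by
    rw [card_centGrp, Matrix.card_GL_field]
    simp [Fin.prod_univ_two]⟩)).symm⟩

theorem exists_conj_base {τ : Equiv.Perm GolayPt} (hτ : τ ∈ gpGrp dodPtCert) (h2 : τ * τ = 1)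
    (hne : τ ≠ 1) : ∃ σ ∈ gpGrp dodPtCert, σ * τ * σ⁻¹ = gperm invP := by
  classical
  have h := gl_facts.1
  simp only [Bool.and_eq_true] at h
  obtain ⟨⟨hp, hin⟩, hmove⟩ := h
  obtain ⟨hv, hpow⟩ := valid_of_powOk (by norm_num) hp
  have hPm : gperm invP ∈ gpGrp dodPtCert := gperm_mem_M11 hv hin
  have hP2 : gperm invP * gperm invP = 1 := by
    rw [← pow_two, gperm, ← map_pow, hpow, map_one]
  have hP1 : gperm invP ≠ 1 := fun e => by
    obtain ⟨i, hi, hm⟩ := List.any_eq_true.1 hmove
    have := gperm_apply hv (enc.symm ⟨i, List.mem_range.1 hi⟩)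
    rw [e] at this
    simp at this hm
    exact hm this.symm
  set T : Finset (gpGrp dodPtCert) := Finset.univ.filter fun x => x * x = 1 ∧ x ≠ 1
  have hTc : T.card = 165 := by
    rw [← card_invs, ← Nat.card_eq_finsetCard]
    exact Nat.card_congr
      { toFun := fun x => ⟨x.1.1, x.1.2, by
          obtain ⟨-, a, b⟩ := Finset.mem_filter.1 x.2
          exact ⟨congrArg Subtype.val a, fun e => b (Subtype.ext e)⟩⟩
        invFun := fun x => ⟨⟨x.1, x.2.1⟩, Finset.mem_filter.2 ⟨Finset.mem_univ _,
          Subtype.ext x.2.2.1, fun e => x.2.2.2 (congrArg Subtype.val e)⟩⟩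
        left_inv := fun _ => rfl
        right_inv := fun _ => rfl }
  set t : gpGrp dodPtCert := ⟨gperm invP, hPm⟩
  have hst : Nat.card (MulAction.stabilizer (ConjAct (gpGrp dodPtCert)) t) = 48 := by
    rw [← card_centGrp]
    refine Nat.card_congr
      { toFun := fun x => ⟨(ConjAct.ofConjAct x.1).1, (ConjAct.ofConjAct x.1).2, ?_⟩
        invFun := fun x => ⟨ConjAct.toConjAct ⟨x.1, x.2.1⟩, ?_⟩
        left_inv := fun _ => rfl
        right_inv := fun _ => rfl }
    · have hx : ConjAct.ofConjAct x.1 * t * (ConjAct.ofConjAct x.1)⁻¹ = t := x.2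
      rw [mul_inv_eq_iff_eq_mul] at hx
      exact Subgroup.mem_centralizer_singleton_iff.2 (congrArg Subtype.val hx)
    · show (⟨x.1, x.2.1⟩ : gpGrp dodPtCert) * t * (⟨x.1, x.2.1⟩ : gpGrp dodPtCert)⁻¹ = t
      rw [mul_inv_eq_iff_eq_mul]
      exact Subtype.ext (Subgroup.mem_centralizer_singleton_iff.1 x.2.2)
  obtain ⟨σ, hσ⟩ := exists_smul_of_card (G := ConjAct (gpGrp dodPtCert)) (a := t) T (fun σ => by
      rw [Finset.mem_filter, ConjAct.smul_def]
      refine ⟨Finset.mem_univ _, ?_, fun e => hP1 ?_⟩
      · have ht : t * t = 1 := Subtype.ext hP2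
        calc _ = ConjAct.ofConjAct σ * (t * t) * (ConjAct.ofConjAct σ)⁻¹ := by group
          _ = 1 := by rw [ht]; group
      · exact congrArg Subtype.val (conj_eq_one_iff.1 e : t = 1))
    (by
      rw [hTc, hst, show Nat.card (ConjAct (gpGrp dodPtCert)) = 7920 from
        (card_gpGrp dodPtCert_chk).trans gl_facts.2.2.2.2])
    (y := ⟨τ, hτ⟩) (Finset.mem_filter.2 ⟨Finset.mem_univ _, Subtype.ext h2,
      fun e => hne (congrArg Subtype.val e)⟩)
  refine ⟨((ConjAct.ofConjAct σ)⁻¹ : gpGrp dodPtCert), ((ConjAct.ofConjAct σ)⁻¹).2, ?_⟩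
  have hσ' : ConjAct.ofConjAct σ * t * (ConjAct.ofConjAct σ)⁻¹ = ⟨τ, hτ⟩ := hσ
  have := congrArg Subtype.val hσ'
  simp only [Subgroup.coe_mul, Subgroup.coe_inv, t] at this ⊢
  rw [← this]
  group


/-- Involution centralisers in the smallest Mathieu group are isomorphic to GL(2, 3). -/
theorem result (d : Finset Cfsg.GolayPt) (hd : d ∈ Cfsg.dodecads) (p : Cfsg.GolayPt) (hp : p ∈ d) (x : ↥(MulAction.stabilizer Cfsg.M24 d ⊓ MulAction.stabilizer Cfsg.M24 p)) (hx : orderOf x = 2) : Nonempty (↥(Subgroup.centralizer ({x} : Set ↥(MulAction.stabilizer Cfsg.M24 d ⊓ MulAction.stabilizer Cfsg.M24 p))) ≃* GL (Fin 2) (ZMod 3)) := by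
  obtain ⟨g, hg, hgd, hgp⟩ := exists_to_dodPt hd hp
  set e := toBaseM11 hg hgd hgp with he
  have hx2 : x * x = 1 := by rw [← pow_two, ← hx]; exact pow_orderOf_eq_one x
  have hx1 : x ≠ 1 := fun h => by rw [h, orderOf_one] at hx; norm_num at hx
  obtain ⟨σ, hσ, hσe⟩ := exists_conj_base (e x).2
    (congrArg (fun t : ↥(gpGrp dodPtCert) => (t : Equiv.Perm Cfsg.GolayPt))
      (show e x * e x = 1 by rw [← map_mul, hx2, map_one]))
    (fun h => hx1 (e.injective (by rw [map_one]; exact Subtype.ext h)))
  obtain ⟨i⟩ := centGrp_iso
  let e2 := e.trans (MulAut.conj (⟨σ, hσ⟩ : ↥(gpGrp dodPtCert)))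
  have hval : ((e2 x : ↥(gpGrp dodPtCert)) : Equiv.Perm Cfsg.GolayPt) = gperm invP := hσe
  let ψ : ↥(Subgroup.centralizer ({x} : Set _)) →* centGrp :=
    { toFun := fun y => ⟨e2 y.1, (e2 y.1).2, Subgroup.mem_centralizer_singleton_iff.2 (by
        have h := congrArg e2 (Subgroup.mem_centralizer_singleton_iff.1 y.2)
        rw [map_mul, map_mul] at h
        have h' := congrArg (fun t : ↥(gpGrp dodPtCert) => (t : Equiv.Perm Cfsg.GolayPt)) h
        simp only [Subgroup.coe_mul, hval] at h'
        exact h')⟩
      map_one' := by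
        apply Subtype.ext
        exact congrArg (fun t : ↥(gpGrp dodPtCert) => (t : Equiv.Perm Cfsg.GolayPt)) (map_one e2)
      map_mul' := fun a b => by
        apply Subtype.ext
        exact congrArg (fun t : ↥(gpGrp dodPtCert) => (t : Equiv.Perm Cfsg.GolayPt)) (map_mul e2 a.1 b.1) }
  refine ⟨(MulEquiv.ofBijective ψ ⟨fun a b h => ?_, fun z => ?_⟩).trans i⟩
  · exact Subtype.ext (e2.injective (Subtype.ext (congrArg (fun t : ↥centGrp => (t : Equiv.Perm Cfsg.GolayPt)) h)))
  · obtain ⟨w, hw⟩ := e2.surjective ⟨z.1, z.2.1⟩
    have hwz : ((e2 w : ↥(gpGrp dodPtCert)) : Equiv.Perm Cfsg.GolayPt) = (z : Equiv.Perm Cfsg.GolayPt) :=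
      congrArg (fun t : ↥(gpGrp dodPtCert) => (t : Equiv.Perm Cfsg.GolayPt)) hw
    refine ⟨⟨w, Subgroup.mem_centralizer_singleton_iff.2 (e2.injective (Subtype.ext ?_))⟩, Subtype.ext hwz⟩
    rw [map_mul, map_mul]
    simp only [Subgroup.coe_mul, hval, hwz]
    exact Subgroup.mem_centralizer_singleton_iff.1 z.2.2

end Cfsg.Agent.S1603
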