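import Cfsg.Statements.S1604
import Cfsg.Agent.Lib.Golay.Pointed

set_option autoImplicit false
open scoped Pointwise
open Cfsg

namespace Cfsg.Agent.S1604

open Cfsg.Agent.Lib.Compute Cfsg.Agent.Lib.GolayOrbit

/-- A hexad stabiliser in the two-point stabiliser has orbits of sizes 1, 16, 60 on the 77 hexads: the 16 hexads disjoint from it and the 60 meeting it in two points. -/
theorem result (p q : Cfsg.GolayPt) (hpq : p ≠ q) (o o' o'' : Finset Cfsg.GolayPt) (ho : o ∈ Cfsg.octads) (ho' : o' ∈ Cfsg.octads) (ho'' : o'' ∈ Cfsg.octads) (hp : p ∈ o ∧ p ∈ o' ∧ p ∈ o'') (hq : q ∈ o ∧ q ∈ o' ∧ q ∈ o'') (h : (o ∩ o').card = (o ∩ o'').card) : {x : Finset Cfsg.GolayPt | x ∈ Cfsg.octads ∧ p ∈ x ∧ q ∈ x ∧ (o ∩ x).card = 2}.ncard = 16 ∧ {x : Finset Cfsg.GolayPt | x ∈ Cfsg.octads ∧ p ∈ x ∧ q ∈ x ∧ (o ∩ x).card = 4}.ncard = 60 ∧ ∃ g : Equiv.Perm Cfsg.GolayPt, g ∈ Cfsg.M24 ∧ g p = p ∧ g q = q ∧ g • o = o ∧ g • o' = o'' := by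
  obtain ⟨g, hg, hgo, hgp, hgq⟩ := exists_to_octPtPt ho hp.1 hq.1 hpq
  refine ⟨?_, ?_, ?_⟩
  · rw [ncard_transport g _ (fun y => y ∈ Cfsg.octads ∧ pointCoding.dec octIn0 ∈ y ∧ pointCoding.dec octInIn0 ∈ y ∧ (baseOctad ∩ y).card = 2) (fun x => by
        rw [mem_octads_smul_iff hg, ← hgp, ← hgq, smul_mem_smul_pt, smul_mem_smul_pt, ← hgo, card_inter_smul]),
      ncard_octads_filter (fun y => pointCoding.dec octIn0 ∈ y ∧ pointCoding.dec octInIn0 ∈ y ∧ (baseOctad ∩ y).card = 2) (fun m => m.testBit octIn0 && m.testBit octInIn0 && popN (m &&& oct0) == 2) (fun m _ => by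
        simp [dec_mem_setOf24, show octIn0 < 24 by decide +kernel, show octInIn0 < 24 by decide +kernel, baseOctad, card_setOf24_and, Nat.and_comm oct0, and_assoc])]
    decide +kernel
  · rw [ncard_transport g _ (fun y => y ∈ Cfsg.octads ∧ pointCoding.dec octIn0 ∈ y ∧ pointCoding.dec octInIn0 ∈ y ∧ (baseOctad ∩ y).card = 4) (fun x => by
        rw [mem_octads_smul_iff hg, ← hgp, ← hgq, smul_mem_smul_pt, smul_mem_smul_pt, ← hgo, card_inter_smul]),
      ncard_octads_filter (fun y => pointCoding.dec octIn0 ∈ y ∧ pointCoding.dec octInIn0 ∈ y ∧ (baseOctad ∩ y).card = 4) (fun m => m.testBit octIn0 && m.testBit octInIn0 && popN (m &&& oct0) == 4) (fun m _ => by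
        simp [dec_mem_setOf24, show octIn0 < 24 by decide +kernel, show octInIn0 < 24 by decide +kernel, baseOctad, card_setOf24_and, Nat.and_comm oct0, and_assoc])]
    decide +kernel
  · have ha := ho'
    have hb := ho''
    have hc := h
    obtain ⟨τ, hτ, hτe⟩ := octad_class_rel octPtPtCert_gensFor (q := fun m => m.testBit octIn0 && m.testBit octInIn0) octPtPtParts_ok
      (by decide +kernel) (by decide +kernel) (smul_mem_octads hg ha) (smul_mem_octads hg hb)
      (fun m _ hme => by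
        try simp only [Bool.and_eq_true, Bool.not_eq_true', ← Bool.not_eq_true]
        simp only [← dec_mem_setOf24 (m := m) (show octIn0 < 24 by decide +kernel), ← dec_mem_setOf24 (m := m) (show octInIn0 < 24 by decide +kernel), hme, ← hgp, ← hgq, smul_mem_smul_pt]
        exact ⟨hp.2.1, hq.2.1⟩)
      (fun m _ hme => by
        try simp only [Bool.and_eq_true, Bool.not_eq_true', ← Bool.not_eq_true]
        simp only [← dec_mem_setOf24 (m := m) (show octIn0 < 24 by decide +kernel), ← dec_mem_setOf24 (m := m) (show octInIn0 < 24 by decide +kernel), hme, ← hgp, ← hgq, smul_mem_smul_pt]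
        exact ⟨hp.2.2, hq.2.2⟩)
      (by rw [← hgo, card_inter_smul, card_inter_smul]; exact hc)
    obtain ⟨hM, hb0, hfp, hfq⟩ := mem_octPtPtCert.1 hτ
    refine ⟨g⁻¹ * τ * g, mul_mem (mul_mem (inv_mem hg) hM) hg, ?_, ?_, ?_, ?_⟩
    · simp only [Equiv.Perm.mul_apply]
      rw [hgp, hfp, ← hgp, Equiv.Perm.inv_def, Equiv.symm_apply_apply]
    · simp only [Equiv.Perm.mul_apply]
      rw [hgq, hfq, ← hgq, Equiv.Perm.inv_def, Equiv.symm_apply_apply]
    · rw [mul_smul, mul_smul, hgo, hb0, ← hgo, inv_smul_smul]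
    · rw [mul_smul, mul_smul, hτe, inv_smul_smul]

end Cfsg.Agent.S1604
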