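import Cfsg.Statements.S1605
import Cfsg.Agent.Lib.Golay.Pointed

set_option autoImplicit false
open scoped Pointwise
open Cfsg

namespace Cfsg.Agent.S1605

open Cfsg.Agent.Lib.Compute Cfsg.Agent.Lib.GolayOrbit

/-- The two-point stabiliser acts on the 176 octads through the first point avoiding the second with rank 3 and subdegrees 1, 70, 105 (intersections 8, 2, 4). -/
theorem result (p q : Cfsg.GolayPt) (hpq : p ≠ q) : {x : Finset Cfsg.GolayPt | (x ∈ Cfsg.octads ∧ p ∈ x ∧ q ∉ x)}.ncard = 176 ∧ (∀ o o' : Finset Cfsg.GolayPt, (o ∈ Cfsg.octads ∧ p ∈ o ∧ q ∉ o) → (o' ∈ Cfsg.octads ∧ p ∈ o' ∧ q ∉ o') → ∃ g : Equiv.Perm Cfsg.GolayPt, g ∈ Cfsg.M24 ∧ g p = p ∧ g q = q ∧ g • o = o') ∧ ∀ o : Finset Cfsg.GolayPt, (o ∈ Cfsg.octads ∧ p ∈ o ∧ q ∉ o) → {x : Finset Cfsg.GolayPt | (x ∈ Cfsg.octads ∧ p ∈ x ∧ q ∉ x) ∧ (o ∩ x).card = 2}.ncard = 70 ∧ {x : Finset Cfsg.GolayPt | (x ∈ Cfsg.octads ∧ p ∈ x ∧ q ∉ x) ∧ (o ∩ x).card = 4}.ncard = 105 ∧ ∀ o'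 o'' : Finset Cfsg.GolayPt, (o' ∈ Cfsg.octads ∧ p ∈ o' ∧ q ∉ o') → (o'' ∈ Cfsg.octads ∧ p ∈ o'' ∧ q ∉ o'') → (o ∩ o').card = (o ∩ o'').card → ∃ g : Equiv.Perm Cfsg.GolayPt, g ∈ Cfsg.M24 ∧ g p = p ∧ g q = q ∧ g • o = o ∧ g • o' = o'' := by
  refine ⟨?_, ?_, ?_⟩
  · obtain ⟨g, hg, hgp, hgq⟩ := exists_smul_pair hpq (i := (0 : Fin 24)) (j := (5 : Fin 24)) (by decide)
    replace hgp : g p = pointCoding.dec octIn0 := hgp
    replace hgq : g q = pointCoding.dec octInOut0 := hgq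
    rw [ncard_transport g _ (fun y => y ∈ Cfsg.octads ∧ pointCoding.dec octIn0 ∈ y ∧ pointCoding.dec octInOut0 ∉ y) (fun x => by
        rw [mem_octads_smul_iff hg, ← hgp, ← hgq, smul_mem_smul_pt, smul_mem_smul_pt]),
      ncard_octads_filter (fun y => pointCoding.dec octIn0 ∈ y ∧ pointCoding.dec octInOut0 ∉ y) (fun m => m.testBit octIn0 && !m.testBit octInOut0) (fun m _ => by
        simp [dec_mem_setOf24, show octIn0 < 24 by decide +kernel, show octInOut0 < 24 by decide +kernel, baseOctad, card_setOf24_and, Nat.and_comm oct0, and_assoc])]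
    decide +kernel
  · intro o o' ho ho'
    obtain ⟨g, hg, hgo, hgp, hgq⟩ := exists_to_octPtOut ho.1 ho.2.1 ho.2.2
    obtain ⟨g', hg', hgo', hgp', hgq'⟩ := exists_to_octPtOut ho'.1 ho'.2.1 ho'.2.2
    refine ⟨g'⁻¹ * g, mul_mem (inv_mem hg') hg, ?_, ?_, ?_⟩
    · rw [Equiv.Perm.mul_apply, hgp, ← hgp', Equiv.Perm.inv_def, Equiv.symm_apply_apply]
    · rw [Equiv.Perm.mul_apply, hgq, ← hgq', Equiv.Perm.inv_def, Equiv.symm_apply_apply]
    · rw [mul_smul, hgo, ← hgo', inv_smul_smul]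
  · intro o ho
    obtain ⟨g, hg, hgo, hgp, hgq⟩ := exists_to_octPtOut ho.1 ho.2.1 ho.2.2
    refine ⟨?_, ?_, ?_⟩
    · rw [ncard_transport g _ (fun y => y ∈ Cfsg.octads ∧ pointCoding.dec octIn0 ∈ y ∧ pointCoding.dec octInOut0 ∉ y ∧ (baseOctad ∩ y).card = 2) (fun x => by
          rw [and_assoc, and_assoc, mem_octads_smul_iff hg, ← hgp, ← hgq, smul_mem_smul_pt, smul_mem_smul_pt, ← hgo, card_inter_smul]),
        ncard_octads_filter (fun y => pointCoding.dec octIn0 ∈ y ∧ pointCoding.dec octInOut0 ∉ y ∧ (baseOctad ∩ y).card = 2) (fun m => m.testBit octIn0 && !m.testBit octInOut0 && popN (m &&& oct0) == 2) (fun m _ => by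
          simp [dec_mem_setOf24, show octIn0 < 24 by decide +kernel, show octInOut0 < 24 by decide +kernel, baseOctad, card_setOf24_and, Nat.and_comm oct0, and_assoc])]
      decide +kernel
    · rw [ncard_transport g _ (fun y => y ∈ Cfsg.octads ∧ pointCoding.dec octIn0 ∈ y ∧ pointCoding.dec octInOut0 ∉ y ∧ (baseOctad ∩ y).card = 4) (fun x => by
          rw [and_assoc, and_assoc, mem_octads_smul_iff hg, ← hgp, ← hgq, smul_mem_smul_pt, smul_mem_smul_pt, ← hgo, card_inter_smul]),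
        ncard_octads_filter (fun y => pointCoding.dec octIn0 ∈ y ∧ pointCoding.dec octInOut0 ∉ y ∧ (baseOctad ∩ y).card = 4) (fun m => m.testBit octIn0 && !m.testBit octInOut0 && popN (m &&& oct0) == 4) (fun m _ => by
          simp [dec_mem_setOf24, show octIn0 < 24 by decide +kernel, show octInOut0 < 24 by decide +kernel, baseOctad, card_setOf24_and, Nat.and_comm oct0, and_assoc])]
      decide +kernel
    · intro o' o'' ⟨ha, ha'⟩ ⟨hb, hb'⟩ hc
      obtain ⟨τ, hτ, hτe⟩ := octad_class_rel octPtOutCert_gensFor (q := fun m => m.testBit octIn0 && !m.testBit octInOut0) octPtOutParts_ok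
        (by decide +kernel) (by decide +kernel) (smul_mem_octads hg ha) (smul_mem_octads hg hb)
        (fun m _ hme => by
          try simp only [Bool.and_eq_true, Bool.not_eq_true', ← Bool.not_eq_true]
          simp only [← dec_mem_setOf24 (m := m) (show octIn0 < 24 by decide +kernel), ← dec_mem_setOf24 (m := m) (show octInOut0 < 24 by decide +kernel), hme, ← hgp, ← hgq, smul_mem_smul_pt]
          exact ha')
        (fun m _ hme => by
          try simp only [Bool.and_eq_true, Bool.not_eq_true', ← Bool.not_eq_true]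
          simp only [← dec_mem_setOf24 (m := m) (show octIn0 < 24 by decide +kernel), ← dec_mem_setOf24 (m := m) (show octInOut0 < 24 by decide +kernel), hme, ← hgp, ← hgq, smul_mem_smul_pt]
          exact hb')
        (by rw [← hgo, card_inter_smul, card_inter_smul]; exact hc)
      obtain ⟨hM, hb0, hfp, hfq⟩ := mem_octPtOutCert.1 hτ
      refine ⟨g⁻¹ * τ * g, mul_mem (mul_mem (inv_mem hg) hM) hg, ?_, ?_, ?_, ?_⟩
      · simp only [Equiv.Perm.mul_apply]
        rw [hgp, hfp, ← hgp, Equiv.Perm.inv_def, Equiv.symm_apply_apply]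
      · simp only [Equiv.Perm.mul_apply]
        rw [hgq, hfq, ← hgq, Equiv.Perm.inv_def, Equiv.symm_apply_apply]
      · rw [mul_smul, mul_smul, hgo, hb0, ← hgo, inv_smul_smul]
      · rw [mul_smul, mul_smul, hτe, inv_smul_smul]

end Cfsg.Agent.S1605
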