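import Cfsg.Statements.S1606
import Cfsg.Agent.Lib.MathieuMax.M22

set_option autoImplicit false
open scoped Pointwise
open Cfsg

namespace Cfsg.Agent.S1606

/-- The stabiliser of two points in the group of the length-24 code has no subgroups of index 56 or 210. -/
theorem result (p q : Cfsg.GolayPt) (hpq : p ≠ q) (H : Subgroup ↥(MulAction.stabilizer Cfsg.M24 p ⊓ MulAction.stabilizer Cfsg.M24 q)) : H.index ≠ 56 ∧ H.index ≠ 210 := by
  obtain ⟨e₁⟩ := Cfsg.Agent.Lib.Compute.stabilizer_two_equiv hpq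
  obtain ⟨e₂⟩ := Cfsg.Agent.Lib.Compute.stabilizer_two_equiv
    (show (none : Cfsg.GolayPt) ≠ some 0 by simp)
  have e : ↥(MulAction.stabilizer Cfsg.M24 p ⊓ MulAction.stabilizer Cfsg.M24 q) ≃* Spor.M22 :=
    (e₁.symm.trans e₂).trans
      { toFun := fun σ => ⟨σ.1.1, ⟨σ.1.2, σ.2.1⟩, σ.2.2⟩
        invFun := fun σ => ⟨⟨σ.1, σ.2.1.1⟩, σ.2.1.2, σ.2.2⟩
        left_inv := fun _ => rfl
        right_inv := fun _ => rfl
        map_mul' := fun _ _ => rfl }
  have h1 := Cfsg.Agent.Lib.MathieuMax.no_subgroup_M22 (H.map e.toMonoidHom)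
  rw [Subgroup.card_map_of_injective e.injective] at h1
  have hc := H.index_mul_card
  rw [Cfsg.Agent.S0378.result p q hpq] at hc
  exact ⟨fun h => h1.1 (by rw [h] at hc; omega), fun h => h1.2 (by rw [h] at hc; omega)⟩

end Cfsg.Agent.S1606
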