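import Cfsg.Statements.S1608
import Cfsg.Agent.Lib.Golay.Pointed

set_option autoImplicit false
open scoped Pointwise
open Cfsg

namespace Cfsg.Agent.S1608

open Cfsg.Agent.Lib.Compute Cfsg.Agent.Lib.GolayOrbit

/-- The point stabiliser acts on the 506 octads avoiding the point with rank 4 and subdegrees 1, 15, 210, 280, the suborbits being given by intersection size with the fixed octad. -/
theorem result (x : Cfsg.GolayPt) (o : Finset Cfsg.GolayPt) (ho : o ∈ Cfsg.octads) (hx : x ∉ o) : {o' : Finset Cfsg.GolayPt | o' ∈ Cfsg.octads ∧ x ∉ o' ∧ (o ∩ o').card = 0}.ncard = 15 ∧ {o' : Finset Cfsg.GolayPt | o' ∈ Cfsg.octads ∧ x ∉ o' ∧ (o ∩ o').card = 4}.ncard = 210 ∧ {o' : Finset Cfsg.GolayPt | o' ∈ Cfsg.octads ∧ x ∉ o' ∧ (o ∩ o').card = 2}.ncard = 280 ∧ ∀ o' o'' : Finset Cfsg.GolayPt, o' ∈ Cfsg.octads → o'' ∈ Cfsg.octads → x ∉ o' → x ∉ o'' → (o ∩ o').card = (o ∩ o'').card → ∃ g : Equiv.Perm Cfsg.GolayPt, g ∈ Cfsg.M24 ∧ g x = x ∧ g • o = o ∧ g • o' = o'' := by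
  obtain ⟨g, hg, hgo, hgx⟩ := exists_to_octOut ho hx
  refine ⟨?_, ?_, ?_, ?_⟩
  · rw [ncard_transport g _ (fun y => y ∈ Cfsg.octads ∧ pointCoding.dec octOut0 ∉ y ∧ (baseOctad ∩ y).card = 0) (fun x => by
        rw [mem_octads_smul_iff hg, ← hgx, smul_mem_smul_pt, ← hgo, card_inter_smul]),
      ncard_octads_filter (fun y => pointCoding.dec octOut0 ∉ y ∧ (baseOctad ∩ y).card = 0) (fun m => !m.testBit octOut0 && popN (m &&& oct0) == 0) (fun m _ => by
        simp [dec_mem_setOf24, show octOut0 < 24 by decide +kernel, baseOctad, card_setOf24_and, Nat.and_comm oct0, and_assoc])]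
    decide +kernel
  · rw [ncard_transport g _ (fun y => y ∈ Cfsg.octads ∧ pointCoding.dec octOut0 ∉ y ∧ (baseOctad ∩ y).card = 4) (fun x => by
        rw [mem_octads_smul_iff hg, ← hgx, smul_mem_smul_pt, ← hgo, card_inter_smul]),
      ncard_octads_filter (fun y => pointCoding.dec octOut0 ∉ y ∧ (baseOctad ∩ y).card = 4) (fun m => !m.testBit octOut0 && popN (m &&& oct0) == 4) (fun m _ => by
        simp [dec_mem_setOf24, show octOut0 < 24 by decide +kernel, baseOctad, card_setOf24_and, Nat.and_comm oct0, and_assoc])]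
    decide +kernel
  · rw [ncard_transport g _ (fun y => y ∈ Cfsg.octads ∧ pointCoding.dec octOut0 ∉ y ∧ (baseOctad ∩ y).card = 2) (fun x => by
        rw [mem_octads_smul_iff hg, ← hgx, smul_mem_smul_pt, ← hgo, card_inter_smul]),
      ncard_octads_filter (fun y => pointCoding.dec octOut0 ∉ y ∧ (baseOctad ∩ y).card = 2) (fun m => !m.testBit octOut0 && popN (m &&& oct0) == 2) (fun m _ => by
        simp [dec_mem_setOf24, show octOut0 < 24 by decide +kernel, baseOctad, card_setOf24_and, Nat.and_comm oct0, and_assoc])]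
    decide +kernel
  · intro o' o'' ha hb ha' hb' hc
    obtain ⟨τ, hτ, hτe⟩ := octad_class_rel octOutCert_gensFor (q := fun m => !m.testBit octOut0) octOutParts_ok
      (by decide +kernel) (by decide +kernel) (smul_mem_octads hg ha) (smul_mem_octads hg hb)
      (fun m _ hme => by
        try simp only [Bool.and_eq_true, Bool.not_eq_true', ← Bool.not_eq_true]
        simp only [← dec_mem_setOf24 (m := m) (show octOut0 < 24 by decide +kernel), hme, ← hgx, smul_mem_smul_pt]
        exact ha')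
      (fun m _ hme => by
        try simp only [Bool.and_eq_true, Bool.not_eq_true', ← Bool.not_eq_true]
        simp only [← dec_mem_setOf24 (m := m) (show octOut0 < 24 by decide +kernel), hme, ← hgx, smul_mem_smul_pt]
        exact hb')
      (by rw [← hgo, card_inter_smul, card_inter_smul]; exact hc)
    obtain ⟨hM, hb0, hfx⟩ := mem_octOutCert.1 hτ
    refine ⟨g⁻¹ * τ * g, mul_mem (mul_mem (inv_mem hg) hM) hg, ?_, ?_, ?_⟩
    · simp only [Equiv.Perm.mul_apply]
      rw [hgx, hfx, ← hgx, Equiv.Perm.inv_def, Equiv.symm_apply_apply]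
    · rw [mul_smul, mul_smul, hgo, hb0, ← hgo, inv_smul_smul]
    · rw [mul_smul, mul_smul, hτe, inv_smul_smul]

end Cfsg.Agent.S1608
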