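import Cfsg.Statements.S1609
import Cfsg.Agent.Lib.MathieuMax.M23Sub

set_option autoImplicit false
open scoped Pointwise
open Cfsg

namespace Cfsg.Agent.S1609

/-- Subgroups of index 253 in the Mathieu group of degree 23 are exactly the duad stabilisers and the heptad stabilisers. -/
theorem result (x : Cfsg.GolayPt) (H : Subgroup ↥(MulAction.stabilizer Cfsg.M24 x)) (hH : H.index = 253) : (∃ s : Finset Cfsg.GolayPt, s.card = 2 ∧ x ∉ s ∧ H = (MulAction.stabilizer Cfsg.M24 s).subgroupOf (MulAction.stabilizer Cfsg.M24 x)) ∨ ∃ o ∈ Cfsg.octads, x ∈ o ∧ H = (MulAction.stabilizer Cfsg.M24 o).subgroupOf (MulAction.stabilizer Cfsg.M24 x) := by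
  classical
  let f : ↥(MulAction.stabilizer Cfsg.M24 x) →* Equiv.Perm Cfsg.GolayPt :=
    Cfsg.M24.subtype.comp (MulAction.stabilizer Cfsg.M24 x).subtype
  have hf : Function.Injective f := fun a b e => Subtype.ext (Subtype.ext e)
  have hc : Nat.card H = 40320 := by
    have := H.index_mul_card
    rw [hH, Cfsg.Agent.S0376.result x] at this
    omega
  obtain ⟨A, hA, hfix⟩ := Cfsg.Agent.Lib.MathieuMax.exists_pairOrOctad (x := x) (H := H.map f)
    (by rintro _ ⟨a, -, rfl⟩; exact ⟨a.1.2, a.2⟩)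
    (by rw [Subgroup.card_map_of_injective hf, hc])
  have heq : H = (MulAction.stabilizer Cfsg.M24 A).subgroupOf (MulAction.stabilizer Cfsg.M24 x) :=
    Subgroup.eq_of_le_of_card_ge (fun a ha => hfix _ ⟨a, ha, rfl⟩)
      (hc ▸ Cfsg.Agent.Lib.MathieuMax.card_stabilizer_le hA)
  rcases hA with ⟨h2, hx⟩ | ⟨ho, hx⟩
  · exact Or.inl ⟨A, h2, hx, heq⟩
  · exact Or.inr ⟨A, ho, hx, heq⟩

end Cfsg.Agent.S1609
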