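import Cfsg.Statements.S1610
import Cfsg.Agent.Lib.SmallCodes.Hexacode

set_option autoImplicit false
open Cfsg

namespace Cfsg.Agent.S1610

/-- The hexacode has 64 words, minimum weight 4, and weight distribution 0^1 4^45 6^18. -/
theorem result (F : Type*) [Field F] [Fintype F] [DecidableEq F] (hF : Fintype.card F = 4) (ω : F) (hω : ω ^ 2 + ω + 1 = 0) : Nat.card ↥(Cfsg.hexacode F ω) = 64 ∧ (∀ x ∈ Cfsg.hexacode F ω, x ≠ 0 → (Finset.univ.filter fun i => x i ≠ 0).card = 4 ∨ (Finset.univ.filter fun i => x i ≠ 0).card = 6) ∧ {x : Fin 6 → F | x ∈ Cfsg.hexacode F ω ∧ (Finset.univ.filter fun i => x i ≠ 0).card = 4}.ncard = 45 ∧ {x : Fin 6 → F | x ∈ Cfsg.hexacode F ω ∧ (Finset.univ.filter fun i => x i ≠ 0).card = 6}.ncard = 18 := by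
  open Cfsg.Agent.Lib.SmallCodes in
  have hinj := f4Val_comp_injective hF hω
  have hcount : ∀ k : ℕ, ∀ n, ((Finset.univ.filter fun i => (f4Val ω ∘ hexWord n) i ≠ 0).card = k ↔
      (Finset.univ.filter fun i => hexWord n i ≠ 0).card = k) := by
    intro k n
    rw [Finset.filter_congr (s := Finset.univ) (p := fun i => (f4Val ω ∘ hexWord n) i ≠ 0)
      (q := fun i => hexWord n i ≠ 0) (fun i _ => ?_)]
    rw [Function.comp_apply, ← show f4Val ω 0 = 0 from rfl]
    exact (f4Val_injective hF hω).ne_iff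
  have hset : ∀ k : ℕ, {x : Fin 6 → F | x ∈ Cfsg.hexacode F ω ∧ (Finset.univ.filter fun i => x i ≠ 0).card = k}.ncard =
      (Finset.univ.filter fun n => (Finset.univ.filter fun i => hexWord n i ≠ 0).card = k).card := by
    intro k
    have h : {x : Fin 6 → F | x ∈ Cfsg.hexacode F ω ∧ (Finset.univ.filter fun i => x i ≠ 0).card = k} =
        (fun n => f4Val ω ∘ hexWord n) '' ↑(Finset.univ.filter fun n =>
          (Finset.univ.filter fun i => hexWord n i ≠ 0).card = k) := by
      ext x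
      simp only [Set.mem_image, Finset.coe_filter, Finset.mem_univ, true_and, Set.mem_setOf_eq,
        mem_hexacode_iff hF hω]
      constructor
      · rintro ⟨⟨n, rfl⟩, hk⟩
        exact ⟨n, (hcount k n).1 hk, rfl⟩
      · rintro ⟨n, hk, rfl⟩
        exact ⟨⟨n, rfl⟩, (hcount k n).2 hk⟩
    rw [h, Set.ncard_image_of_injective _ (show Function.Injective fun n => f4Val ω ∘ hexWord n from
      hinj.comp hexWord_injective), Set.ncard_coe_finset]
  refine ⟨?_, ?_, ?_, ?_⟩
  · rw [← Nat.card_congr (Equiv.ofBijective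
      (fun n => (⟨f4Val ω ∘ hexWord n, (mem_hexacode_iff hF hω _).2 ⟨n, rfl⟩⟩ : Cfsg.hexacode F ω))
      ⟨fun m n h => hexWord_injective (hinj (congrArg Subtype.val h)), fun x => by
        obtain ⟨n, hn⟩ := (mem_hexacode_iff hF hω x.1).1 x.2
        exact ⟨n, Subtype.ext hn⟩⟩), Nat.card_fin]
  · intro x hx hx0
    obtain ⟨n, rfl⟩ := (mem_hexacode_iff hF hω x).1 hx
    have key : ∀ n, (Finset.univ.filter fun i => hexWord n i ≠ 0).card = 4 ∨
        (Finset.univ.filter fun i => hexWord n i ≠ 0).card = 6 ∨ ∀ i, hexWord n i = 0 := by decide +kernel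
    rcases key n with h | h | h
    · exact Or.inl ((hcount 4 n).2 h)
    · exact Or.inr ((hcount 6 n).2 h)
    · exact absurd (funext fun i => by simp [h i, f4Val]) hx0
  · rw [hset]; decide +kernel
  · rw [hset]; decide +kernel

end Cfsg.Agent.S1610
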