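import Cfsg.Statements.S1611
import Cfsg.Agent.Lib.SmallCodes.Hexacode

set_option autoImplicit false
open Cfsg

namespace Cfsg.Agent.S1611

/-- The monomial automorphism group of the hexacode has order 1080: its diagonal part is the scalars and its permutation parts form the alternating group of degree 6. -/
theorem result (F : Type*) [Field F] [Fintype F] [DecidableEq F] (hF : Fintype.card F = 4) (ω : F) (hω : ω ^ 2 + ω + 1 = 0) : Nat.card {f : Equiv.Perm (Fin 6) × (Fin 6 → Fˣ) // (∀ x ∈ Cfsg.hexacode F ω, Cfsg.monomialMap f.1 f.2 x ∈ Cfsg.hexacode F ω)} = 1080 ∧ (∀ c : Fin 6 → Fˣ, (∀ x ∈ Cfsg.hexacode F ω, Cfsg.monomialMap 1 c x ∈ Cfsg.hexacode F ω) → ∀ i j, c i = c j) ∧ {σ : Equiv.Perm (Fin 6) | ∃ c : Fin 6 → Fˣ, (∀ x ∈ Cfsg.hexacode F ω, Cfsg.monomialMap σ c x ∈ Cfsg.hexacode F ω)} = (alternatingGroup (Fin 6) : Set (Equiv.Perm (Fin 6))) := by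
  open Cfsg.Agent.Lib.SmallCodes in
  classical
  have hd : ∀ c : Fin 6 → Fˣ, ∃ m, ∀ i, f4Val ω (diag729 m i) = c i := by
    intro c
    choose d hd using fun i => (f4Val_bijective hF hω).2 (c i : F)
    obtain ⟨m, rfl⟩ := diag729_surj d (fun i h => (c i).ne_zero (by rw [← hd i, h]; rfl))
    exact ⟨m, hd⟩
  have hdiag : ∀ c : Fin 6 → Fˣ, (∀ x ∈ Cfsg.hexacode F ω, Cfsg.monomialMap 1 c x ∈ Cfsg.hexacode F ω) →
      ∀ i j, c i = c j := by
    intro c hc i j
    obtain ⟨m, hm⟩ := hd c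
    have h := hex_diag_check m ((hexPres_iff hF hω 1 c _ hm).1 hc)
    apply Units.ext
    rw [← hm i, ← hm j, h i, h j]
  let P : Submonoid (Equiv.Perm (Fin 6)) :=
    { carrier := {σ | ∃ c : Fin 6 → Fˣ, (∀ x ∈ Cfsg.hexacode F ω, Cfsg.monomialMap σ c x ∈ Cfsg.hexacode F ω)}
      one_mem' := ⟨fun _ => 1, fun x hx => by
        have : Cfsg.monomialMap (1 : Equiv.Perm (Fin 6)) (fun _ => (1 : Fˣ)) x = x := by
          funext p; simp [Cfsg.monomialMap]; rfl
        rw [this]; exact hx⟩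
      mul_mem' := by
        rintro σ τ ⟨c, hc⟩ ⟨d, hd⟩
        refine ⟨fun p => c p * d (σ.symm p), fun x hx => ?_⟩
        convert hc _ (hd x hx) using 1
        funext p
        simp [Cfsg.monomialMap, mul_assoc, Equiv.Perm.mul_def] }
  set s : Equiv.Perm (Fin 6) := Equiv.swap 0 1 with hs
  have hsP : s ∉ P := by
    rintro ⟨c, hc⟩
    obtain ⟨m, hm⟩ := hd c
    have h := (hexPres_iff hF hω s c _ hm).1 hc
    have hs' : (⇑s.symm : Fin 6 → Fin 6) = ![1, 0, 2, 3, 4, 5] := by rw [hs]; decide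
    rw [hs', hex_swap_check m] at h
    exact Bool.noConfusion h
  have hinv : ∀ σ, σ ∈ P → σ⁻¹ ∈ P := by
    intro σ hσ
    have h : σ⁻¹ = σ ^ (orderOf σ - 1) := by
      rw [inv_eq_iff_mul_eq_one, ← pow_succ', Nat.sub_add_cancel (orderOf_pos σ), pow_orderOf_eq_one]
    rw [h]
    exact pow_mem hσ _
  have hgen : ∀ a b : Fin 6, a ≠ b → s * Equiv.swap a b ∈ P := by
    intro a b hab
    obtain ⟨h1, h2⟩ := hexLift_check a b hab
    refine ⟨fun i => Units.mk0 (f4Val ω (hexLift a b i))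
      (fun e => h2 i (f4Val_injective hF hω (e.trans rfl))), ?_⟩
    refine (hexPres_iff hF hω _ _ (hexLift a b) (fun i => rfl)).2 ?_
    have : (⇑(s * Equiv.swap a b).symm : Fin 6 → Fin 6) = fun i => Equiv.swap a b (Equiv.swap 0 1 i) := by
      funext i
      rw [Equiv.symm_apply_eq]
      simp [hs, Equiv.Perm.mul_apply, Equiv.swap_apply_self]
    rw [this]
    exact h1
  have hQ : ∀ σ : Equiv.Perm (Fin 6), (Equiv.Perm.sign σ = 1 → σ ∈ P) ∧
      (Equiv.Perm.sign σ = -1 → s * σ ∈ P) := by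
    intro σ
    induction σ using Equiv.Perm.swap_induction_on with
    | one => exact ⟨fun _ => one_mem _, fun h => absurd h (by simp)⟩
    | swap_mul σ a b hab ih =>
      rw [Equiv.Perm.sign_mul, Equiv.Perm.sign_swap hab]
      constructor
      · intro h
        have h2 : s * σ ∈ P := ih.2 (neg_eq_iff_eq_neg.1 (by rw [← neg_one_mul]; exact h))
        have h3 : Equiv.swap a b * s ∈ P := by
          have := hinv _ (hgen a b hab)
          rwa [mul_inv_rev, hs, Equiv.swap_inv, Equiv.swap_inv] at this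
        have := mul_mem h3 h2
        rwa [hs, mul_assoc, Equiv.swap_mul_self_mul] at this
      · intro h
        have h2 : σ ∈ P := ih.1 (by simpa using h)
        have := mul_mem (hgen a b hab) h2
        rwa [mul_assoc] at this
  have hP : ∀ σ, σ ∈ P ↔ σ ∈ alternatingGroup (Fin 6) := by
    intro σ
    rw [Equiv.Perm.mem_alternatingGroup]
    refine ⟨fun h => ?_, (hQ σ).1⟩
    rcases Int.units_eq_one_or (Equiv.Perm.sign σ) with e | e
    · exact e
    · refine absurd ?_ hsP
      have := mul_mem ((hQ σ).2 e) (hinv σ h)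
      rwa [mul_assoc, mul_inv_cancel, mul_one] at this
  refine ⟨?_, hdiag, Set.ext hP⟩
  choose c hc using fun σ : alternatingGroup (Fin 6) => (hP σ.1).2 σ.2
  let T : alternatingGroup (Fin 6) × Fˣ →
      {f : Equiv.Perm (Fin 6) × (Fin 6 → Fˣ) // (∀ x ∈ Cfsg.hexacode F ω, Cfsg.monomialMap f.1 f.2 x ∈ Cfsg.hexacode F ω)} :=
    fun p => ⟨((p.1 : Equiv.Perm (Fin 6)), fun i => p.2 * c p.1 i), fun x hx => by
      have hrw : Cfsg.monomialMap (p.1 : Equiv.Perm (Fin 6)) (fun i => p.2 * c p.1 i) x =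
          (p.2 : F) • Cfsg.monomialMap (p.1 : Equiv.Perm (Fin 6)) (c p.1) x := by
        funext i
        simp [Cfsg.monomialMap, mul_assoc]
      rw [hrw]
      exact Submodule.smul_mem _ _ (hc p.1 x hx)⟩
  have hT : Function.Bijective T := by
    constructor
    · rintro ⟨σ, u⟩ ⟨τ, u'⟩ h
      have h1 : σ = τ := Subtype.ext (congrArg (fun f => f.1.1) h)
      subst h1
      have h2 := congrFun (congrArg (fun f => f.1.2) h) 0
      simp only [T, mul_left_inj] at h2
      rw [h2]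
    · rintro ⟨⟨σ, d⟩, hd'⟩
      let σ' : alternatingGroup (Fin 6) := ⟨σ, (hP σ).1 ⟨d, hd'⟩⟩
      have hu : ∀ x ∈ Cfsg.hexacode F ω,
          Cfsg.monomialMap 1 (fun i => d i * (c σ' i)⁻¹) x ∈ Cfsg.hexacode F ω := by
        intro x hx
        let g : Cfsg.hexacode F ω → Cfsg.hexacode F ω :=
          fun y => ⟨Cfsg.monomialMap σ (c σ') y.1, hc σ' y.1 y.2⟩
        have hg : Function.Injective g := by
          intro a b hab
          apply Subtype.ext
          funext p
          have := congrFun (congrArg Subtype.val hab) (σ p)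
          simpa [g, Cfsg.monomialMap] using this
        obtain ⟨y, hy⟩ := Finite.surjective_of_injective hg ⟨x, hx⟩
        have hy' : Cfsg.monomialMap σ (c σ') y.1 = x := congrArg Subtype.val hy
        have : Cfsg.monomialMap 1 (fun i => d i * (c σ' i)⁻¹) x = Cfsg.monomialMap σ d y.1 := by
          rw [← hy']
          funext p
          show ((d p * (c σ' p)⁻¹ : Fˣ) : F) * ((c σ' p : F) * y.1 (σ.symm p)) = _
          rw [← mul_assoc, ← Units.val_mul, inv_mul_cancel_right]
          rfl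
        rw [this]
        exact hd' y.1 y.2
      refine ⟨(σ', d 0 * (c σ' 0)⁻¹), Subtype.ext (Prod.ext rfl (funext fun i => ?_))⟩
      show d 0 * (c σ' 0)⁻¹ * c σ' i = d i
      have h0 : d 0 * (c σ' 0)⁻¹ = d i * (c σ' i)⁻¹ := hdiag _ hu 0 i
      rw [h0, inv_mul_cancel_right]
  rw [← Nat.card_eq_of_bijective T hT, Nat.card_prod, Nat.card_units, Nat.card_eq_fintype_card,
    Nat.card_eq_fintype_card, hF]
  decide +kernel

end Cfsg.Agent.S1611
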