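import Cfsg.Statements.S1612
import Cfsg.Agent.Lib.ThreeTransp.NbrClasses

set_option autoImplicit false
open Cfsg

namespace Cfsg.Agent.S1612

/-- In a 3-transposition group (no solvable normal subgroup, perfect derived group), the normaliser of a commuting set of transpositions of maximum size contains a Sylow 2-subgroup and is doubly transitive on the set. -/
theorem result {G : Type*} [Group G] [Finite G] (hsol : ∀ N : Subgroup G, N.Normal → Group.IsSolvable ↥N → N = ⊥) (hperf : ⁅commutator G, commutator G⁆ = commutator G) {D : Set G} (hD : Cfsg.IsThreeTranspositionClass D) {E : Set G} (hE : E ⊆ D) (hc : ∀ a ∈ E, ∀ b ∈ E, Commute a b) (hmax : ∀ E' : Set G, E' ⊆ D → (∀ a ∈ E', ∀ b ∈ E', Commute a b) → E'.ncard ≤ E.ncard) : (∃ P : Sylow 2 G, (P : Subgroup G) ≤ Subgroup.normalizer E) ∧ ∀ a ∈ E, ∀ b ∈ E, ∀ c ∈ E, ∀ d ∈ E, a ≠ b → c ≠ d → ∃ g ∈ Subgroup.normalizer E, g * a * g⁻¹ = c ∧ g * b * g⁻¹ = d := by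
  have hc' := hc
  clear hc
  classical
  obtain ⟨⟨hS, hc, hgen⟩, htr⟩ := Cfsg.Agent.Lib.ThreeTransp.class_data hD
  haveI : Fact (Nat.Prime 2) := ⟨Nat.prime_two⟩
  have hgen_two : ∀ F : Set G, F ⊆ D → (∀ a ∈ F, ∀ b ∈ F, Commute a b) →
      IsPGroup 2 (Subgroup.closure F) := by
    intro F hF hcF
    rintro ⟨g, hg⟩
    suffices h : g ^ 2 = 1 ∧ ∀ b ∈ F, Commute g b from ⟨1, Subtype.ext h.1⟩
    induction hg using Subgroup.closure_induction_left with
    | one => exact ⟨one_pow 2, fun b _ => Commute.one_left b⟩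
    | mul_left a ha g _ ih =>
      have ha2 : a ^ 2 = 1 := by rw [← hS.1 a (hF ha)]; exact pow_orderOf_eq_one a
      exact ⟨by rw [((ih.2 a ha).symm).mul_pow, ha2, ih.1, one_mul],
        fun b hb => (hcF a ha b hb).mul_left (ih.2 b hb)⟩
    | inv_mul_cancel a ha g _ ih =>
      have ha2 : a⁻¹ ^ 2 = 1 := by
        rw [inv_pow, show a ^ 2 = 1 by rw [← hS.1 a (hF ha)]; exact pow_orderOf_eq_one a, inv_one]
      exact ⟨by rw [(((ih.2 a ha).symm).inv_left).mul_pow, ha2, ih.1, one_mul],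
        fun b hb => (hcF a ha b hb).inv_left.mul_left (ih.2 b hb)⟩
  -- members of a 2-subgroup commute
  have hpcomm : ∀ P : Subgroup G, IsPGroup 2 P → ∀ a ∈ D, ∀ b ∈ D, a ∈ P → b ∈ P → Commute a b := by
    intro P hP a ha b hb hap hbp
    by_contra h
    have h3 := (Cfsg.Agent.Lib.ThreeTransp.tt_comm_or_braid hS ha hb h).2
    obtain ⟨k, hk⟩ := hP ⟨a * b, mul_mem hap hbp⟩
    have hk' : (a * b) ^ 2 ^ k = 1 := congrArg Subtype.val hk
    have h1 : orderOf (a * b) = 1 := Nat.eq_one_of_dvd_coprimes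
      (Nat.Coprime.pow_left k (by norm_num)) (orderOf_dvd_of_pow_eq_one hk') (orderOf_dvd_of_pow_eq_one h3)
    rw [orderOf_eq_one_iff, mul_eq_one_iff_eq_inv, Cfsg.Agent.Lib.ThreeTransp.inv_inv_self (hS.1 b hb)] at h1
    exact h (by rw [h1])
  -- a maximal commuting set is the trace of any 2-subgroup containing it
  have htrace : ∀ (F : Set G) (P : Subgroup G), IsPGroup 2 P → F ⊆ D → F ⊆ P → F.ncard = E.ncard →
      F = {d | d ∈ D ∧ d ∈ P} := by
    intro F P hP hF hFP hn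
    refine Set.eq_of_subset_of_ncard_le (fun d hd => ⟨hF hd, hFP hd⟩) ?_ (Set.toFinite _)
    rw [hn]
    exact hmax _ (fun d hd => hd.1) fun a ha b hb => hpcomm P hP a ha.1 b hb.1 ha.2 hb.2
  obtain ⟨P, hP⟩ := (hgen_two E hE hc').exists_le_sylow
  have hEP : E = {d | d ∈ D ∧ d ∈ (P : Subgroup G)} :=
    htrace E P P.2 hE (fun d hd => hP (Subgroup.subset_closure hd)) rfl
  refine ⟨⟨P, fun g hg => ?_⟩, ?_⟩
  · rw [Subgroup.mem_set_normalizer_iff]
    intro n
    rw [hEP]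
    refine ⟨fun h => ⟨hc g n h.1, mul_mem (mul_mem hg h.2) (inv_mem hg)⟩, fun h => ⟨?_, ?_⟩⟩
    · simpa [mul_assoc] using hc g⁻¹ _ h.1
    · simpa [mul_assoc] using mul_mem (mul_mem (inv_mem hg) h.2) hg
  intro a ha b hb c hc₁ d hd hab hcd
  -- move the first pair to the second
  obtain ⟨g, hg⟩ := htr a (hE ha) c (hE hc₁)
  have hb' : g * b * g⁻¹ ∈ Cfsg.Agent.Lib.ThreeTransp.nbr D c := by
    rw [hg, Cfsg.Agent.Lib.ThreeTransp.nbr_conj hc]
    rw [show g⁻¹ * (g * b * g⁻¹) * g = b by group]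
    exact ⟨hE hb, Ne.symm hab, hc' a ha b hb⟩
  obtain ⟨h, hh, hhb⟩ := Cfsg.Agent.Lib.ThreeTransp.mem_cls_of_nbr hsol hD (hE hc₁) hb'
    (⟨hE hd, Ne.symm hcd, hc' c hc₁ d hd⟩ : d ∈ Cfsg.Agent.Lib.ThreeTransp.nbr D c)
  have hhc : h * c * h⁻¹ = c := by
    have hle : Subgroup.closure (Cfsg.Agent.Lib.ThreeTransp.nbr D c) ≤
        Subgroup.centralizer ({c} : Set G) :=
      (Subgroup.closure_le _).2 fun e he => Subgroup.mem_centralizer_singleton_iff.2 he.2.2.symm
    rw [Subgroup.mem_centralizer_singleton_iff.1 (hle hh), mul_inv_cancel_right]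
  set k := h * g with hk
  have hka : k * a * k⁻¹ = c := by
    rw [hk, ← hhc, hg]; group
  have hkb : k * b * k⁻¹ = d := by
    rw [hk, ← hhb]; group
  -- inside the centraliser of both
  set F : Set G := (fun e => k * e * k⁻¹) '' E with hF
  have hFD : F ⊆ D := by rintro _ ⟨e, he, rfl⟩; exact hc k e (hE he)
  have hFcomm : ∀ u ∈ F, ∀ v ∈ F, Commute u v := by
    rintro _ ⟨u, hu, rfl⟩ _ ⟨v, hv, rfl⟩
    exact Cfsg.Agent.Lib.ThreeTransp.commute_conj.2 (hc' u hu v hv)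
  have hFn : F.ncard = E.ncard :=
    Set.ncard_image_of_injective _ (fun u v e => by simpa using e)
  have hcF : c ∈ F := ⟨a, ha, hka⟩
  have hdF : d ∈ F := ⟨b, hb, hkb⟩
  set C : Subgroup G := Subgroup.centralizer ({c, d} : Set G) with hC
  have hle : ∀ S : Set G, (∀ u ∈ S, Commute u c ∧ Commute u d) → Subgroup.closure S ≤ C := by
    intro S hS'
    rw [Subgroup.closure_le]
    intro u hu
    rw [hC, SetLike.mem_coe, Subgroup.mem_centralizer_iff]
    rintro w (rfl | rfl)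
    · exact (hS' u hu).1.symm.eq
    · exact (hS' u hu).2.symm.eq
  have hEC : Subgroup.closure E ≤ C := hle E fun u hu => ⟨hc' u hu c hc₁, hc' u hu d hd⟩
  have hFC : Subgroup.closure F ≤ C := hle F fun u hu => ⟨hFcomm u hu c hcF, hFcomm u hu d hdF⟩
  obtain ⟨Q1, hQ1⟩ := (IsPGroup.comap_subtype (hgen_two F hFD hFcomm) (K := C)).exists_le_sylow
  obtain ⟨Q2, hQ2⟩ := (IsPGroup.comap_subtype (hgen_two E hE hc') (K := C)).exists_le_sylow
  obtain ⟨m, hm⟩ := MulAction.exists_smul_eq C Q1 Q2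
  set Q : Subgroup G := (Q2 : Subgroup C).map C.subtype with hQ
  have hQp : IsPGroup 2 Q := Q2.2.map _
  have h1 : E = {e | e ∈ D ∧ e ∈ Q} := htrace E Q hQp hE
    (fun e he => ⟨⟨e, hEC (Subgroup.subset_closure he)⟩, hQ2 (Subgroup.subset_closure he), rfl⟩) rfl
  have h2 : (fun e => (m : G) * e * (m : G)⁻¹) '' F = {e | e ∈ D ∧ e ∈ Q} := by
    refine htrace _ Q hQp (by rintro _ ⟨e, he, rfl⟩; exact hc m e (hFD he)) ?_
      (by rw [Set.ncard_image_of_injective _ (fun u v e => by simpa using e), hFn])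
    rintro _ ⟨e, he, rfl⟩
    refine ⟨m * ⟨e, hFC (Subgroup.subset_closure he)⟩ * m⁻¹, ?_, rfl⟩
    rw [← hm, Sylow.coe_subgroup_smul]
    exact Subgroup.smul_mem_pointwise_smul _ (MulAut.conj m) _ (hQ1 (Subgroup.subset_closure he))
  have hmfix : (m : G) * c * (m : G)⁻¹ = c ∧ (m : G) * d * (m : G)⁻¹ = d := by
    have hm' := Subgroup.mem_centralizer_iff.1 m.2
    exact ⟨by rw [← hm' c (by simp), mul_inv_cancel_right],
      by rw [← hm' d (by simp), mul_inv_cancel_right]⟩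
  refine ⟨(m : G) * k, ?_, ?_, ?_⟩
  · rw [Subgroup.mem_set_normalizer_iff]
    intro n
    constructor
    · intro hn
      have : (m : G) * (k * n * k⁻¹) * (m : G)⁻¹ ∈ (fun e => (m : G) * e * (m : G)⁻¹) '' F :=
        ⟨_, ⟨n, hn, rfl⟩, rfl⟩
      rw [h2, ← h1] at this
      convert this using 1
      group
    · intro hn
      rw [h1, ← h2] at hn
      obtain ⟨_, ⟨e, he, rfl⟩, heq⟩ := hn
      have : e = n := by
        have h' : (m : G) * k * e * ((m : G) * k)⁻¹ = (m : G) * k * n * ((m : G) * k)⁻¹ := by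
          rw [← heq]; group
        exact mul_left_cancel (mul_right_cancel h')
      exact this ▸ he
  · calc (m : G) * k * a * ((m : G) * k)⁻¹ = (m : G) * (k * a * k⁻¹) * (m : G)⁻¹ := by group
      _ = c := by rw [hka, hmfix.1]
  · calc (m : G) * k * b * ((m : G) * k)⁻¹ = (m : G) * (k * b * k⁻¹) * (m : G)⁻¹ := by group
      _ = d := by rw [hkb, hmfix.2]

end Cfsg.Agent.S1612
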