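import Mathlib
import Cfsg.Statements.S1618
import Cfsg.Agent.Lib.InvChar.ZStarTheorem
import Cfsg.Agent.Lib.Coprime.Action
import Cfsg.Agent.Lib.Cores.PCore
import Cfsg.Agent.Lib.Involutions.Basic

set_option autoImplicit false
open Cfsg
open scoped Pointwise

namespace Cfsg.Agent.S1618

/-- A group generated by a class of involutions whose pairwise products (of distinct members) have p-power order for a fixed odd prime p has nilpotent derived subgroup. -/
theorem result {G : Type*} [Group G] [Finite G] (p : ℕ) (hp : p.Prime) (hodd : p ≠ 2) {D : Set G} (hinv : ∀ d ∈ D, orderOf d = 2) (hconj : ∃ d ∈ D, D = conjugatesOf d) (hgen : Subgroup.closure D = ⊤) (hprod : ∀ x ∈ D, ∀ y ∈ D, x ≠ y → ∃ k : ℕ, orderOf (x * y) = p ^ k) : Group.IsNilpotent ↥(commutator G) := by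
  classical
  have : Fact (Nat.Prime 2) := ⟨Nat.prime_two⟩
  have : Fact p.Prime := ⟨hp⟩
  obtain ⟨d, hdD, hD⟩ := hconj
  have hDmem : ∀ y, y ∈ D ↔ IsConj d y := fun y => by rw [hD]; rfl
  have hd2 := hinv d hdD
  have hpodd : ∀ {a : G} {k : ℕ}, orderOf a = p ^ k → Odd (orderOf a) := fun h =>
    h ▸ (hp.odd_of_ne_two hodd).pow
  have hdd : d * d = 1 := Cfsg.Agent.Lib.Involutions.invol_mul_self hd2
  have hdi : d⁻¹ = d := Cfsg.Agent.Lib.Involutions.invol_inv hd2
  have hiso : Cfsg.IsIsolated d := by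
    intro g hc
    by_contra hne
    have hy : g * d * g⁻¹ ∈ D := (hDmem _).2 (isConj_iff.2 ⟨g, rfl⟩)
    obtain ⟨k, hk⟩ := hprod _ hdD _ hy (Ne.symm hne)
    have h2 : (d * (g * d * g⁻¹)) ^ 2 = 1 := by
      rw [hc.mul_pow, sq, sq, hdd, Cfsg.Agent.Lib.Involutions.invol_mul_self (hinv _ hy), one_mul]
    have h1 : orderOf (d * (g * d * g⁻¹)) = 1 := by
      rcases (Nat.dvd_prime Nat.prime_two).1 (orderOf_dvd_of_pow_eq_one h2) with h | h
      · exact h
      · exact absurd (h ▸ hpodd hk : Odd 2) (by decide)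
    have := eq_inv_of_mul_eq_one_right (orderOf_eq_one_iff.1 h1)
    exact hne (this.trans hdi)
  have hZ := Cfsg.Agent.Lib.InvChar.inZStar_of_isIsolated hd2 hiso
  set O := Cfsg.pPrimeCore 2 G with hOdef
  haveI : O.Characteristic := Cfsg.Agent.Lib.Cores.pPrimeCore_characteristic 2 G
  haveI : O.Normal := Subgroup.normal_of_characteristic O
  have hOodd : Odd (Nat.card O) := Cfsg.Agent.Lib.Cores.odd_card_oddCore G
  have hGen : O ⊔ Subgroup.zpowers d = ⊤ := top_le_iff.1 (hgen ▸ (Subgroup.closure_le _).2 (by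
    intro y hy
    obtain ⟨g, rfl⟩ := isConj_iff.1 ((hDmem _).1 hy)
    have := mul_mem (Subgroup.mem_sup_left (T := Subgroup.zpowers d) (hZ g))
      (Subgroup.mem_sup_right (S := O) (Subgroup.mem_zpowers d))
    simpa using this))
  have hcommd : ∀ e ∈ Subgroup.zpowers d, e * d * e⁻¹ = d := fun e he => by
    obtain ⟨k, rfl⟩ := Subgroup.mem_zpowers_iff.1 he
    rw [((Commute.refl d).zpow_left k).eq, mul_inv_cancel_right]
  have hDO : ∀ y ∈ D, ∃ o ∈ O, y = o * d * o⁻¹ := by
    intro y hy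
    obtain ⟨g, rfl⟩ := isConj_iff.1 ((hDmem _).1 hy)
    have hg : g ∈ (O : Set G) * (Subgroup.zpowers d : Set G) :=
      Subgroup.normal_mul O (Subgroup.zpowers d) ▸ (show g ∈ O ⊔ Subgroup.zpowers d from hGen ▸ Subgroup.mem_top g)
    obtain ⟨o, ho, e, he, rfl⟩ := hg
    refine ⟨o, ho, ?_⟩
    calc o * e * d * (o * e)⁻¹ = o * (e * d * e⁻¹) * o⁻¹ := by group
      _ = _ := by rw [hcommd e he]
  have hord : ∀ o : G, ∃ k, orderOf (o * d * o⁻¹ * d) = p ^ k := by
    intro o
    by_cases h : o * d * o⁻¹ = d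
    · exact ⟨0, by rw [h, hdd, orderOf_one, pow_zero]⟩
    · exact hprod _ ((hDmem _).2 (isConj_iff.2 ⟨o, rfl⟩)) _ hdD h
  have hAN : ∀ H : Subgroup G, Subgroup.zpowers d ≤ Subgroup.normalizer (H : Set G) →
      ∀ x ∈ H, d * x * d⁻¹ ∈ H := fun H hH x hx =>
    (Subgroup.mem_normalizer_iff.1 (hH (Subgroup.mem_zpowers d)) x).1 hx
  have hiH : ∀ H : Subgroup G, Subgroup.zpowers d ≤ Subgroup.normalizer (H : Set G) →
      ∀ x ∈ H, x * d * x⁻¹ * d ∈ H := by
    intro H hH x hx
    have := mul_mem hx (hAN H hH _ (H.inv_mem hx))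
    rw [hdi] at this
    simpa [mul_assoc] using this
  have hnorm : Subgroup.zpowers d ≤ Subgroup.normalizer (O : Set G) :=
    Subgroup.le_normalizer_of_normal_subgroupOf le_top |>.trans' le_top
  have hcop : (Nat.card (Subgroup.zpowers d)).Coprime (Nat.card O) := by
    rw [Nat.card_zpowers, hd2]; exact Nat.coprime_two_left.2 hOodd
  have hsol : Group.IsSolvable ↥(Subgroup.zpowers d) := inferInstance
  have hsyl := fun (q : ℕ) (hq : q.Prime) =>
    haveI := Fact.mk hq
    Cfsg.Agent.Lib.Coprime.exists_invariant_sylow hnorm hcop (Or.inl hsol) q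
  obtain ⟨P, hP⟩ := hsyl p hp
  set C : Subgroup O := (Subgroup.centralizer ({d} : Set G)).subgroupOf O with hCdef
  have hCmem : ∀ x : O, x ∈ C ↔ Commute (x : G) d := fun x => Subgroup.mem_centralizer_singleton_iff
  -- Sylow subgroups for the other primes centralize `d`
  have hidx : ∀ q : ℕ, q.Prime → q ≠ p → ¬ q ∣ C.index := by
    intro q hq hqp
    haveI := Fact.mk hq
    obtain ⟨Q, hQ⟩ := hsyl q hq
    have hQC : (Q : Subgroup O) ≤ C := by
      intro x hx
      rw [hCmem]
      have hm := hiH _ hQ (x : G) (Subgroup.mem_map_of_mem _ hx)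
      obtain ⟨k, hk⟩ := hord (x : G)
      obtain ⟨y, hy, hy'⟩ := hm
      obtain ⟨j, hj⟩ := IsPGroup.iff_orderOf.1 Q.2 ⟨y, hy⟩
      rw [Subgroup.orderOf_mk, ← Subgroup.orderOf_coe] at hj
      have hy'' : (y : G) = x * d * (x : G)⁻¹ * d := hy'
      rw [hy'', hk] at hj
      rcases Nat.eq_zero_or_pos k with rfl | hk0
      · rw [pow_zero, orderOf_eq_one_iff, mul_eq_one_iff_eq_inv, hdi, mul_inv_eq_iff_eq_mul] at hk
        exact hk
      · exfalso
        refine hqp ((Nat.prime_dvd_prime_iff_eq hp hq).1 (hp.dvd_of_dvd_pow (n := j) ?_)).symm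
        exact hj ▸ dvd_pow_self p hk0.ne'
    exact fun h => Q.not_dvd_index (h.trans (Subgroup.index_dvd_of_le hQC))
  -- hence `O = P C`
  have hPC : ∀ o : O, ∃ x ∈ (P : Subgroup O), ∃ c ∈ C, o = x * c := by
    have hb : C.index ∣ C.relIndex (P : Subgroup O) := by
      obtain ⟨a, ha⟩ : ∃ a, C.index = p ^ a :=
        ⟨_, Nat.eq_prime_pow_of_unique_prime_dvd Subgroup.index_ne_zero_of_finite
          fun {r} hr hrd => by_contra fun hne => hidx r hr hne hrd⟩
      rw [ha]
      have h1 : (C ⊓ P).relIndex (P : Subgroup O) = C.relIndex (P : Subgroup O) :=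
        Subgroup.inf_relIndex_right _ _
      have h2 : (C ⊓ P).index = C.relIndex (P : Subgroup O) * (P : Subgroup O).index := by
        rw [← h1, Subgroup.relIndex_mul_index inf_le_right]
      refine (Nat.Coprime.dvd_of_dvd_mul_right ?_
        (h2 ▸ ha ▸ Subgroup.index_dvd_of_le (inf_le_left : C ⊓ P ≤ C)))
      exact ((hp.coprime_iff_not_dvd).2 P.not_dvd_index).pow_left a
    intro o
    let f : ↥(P : Subgroup O) ⧸ C.subgroupOf (P : Subgroup O) → O ⧸ C :=
        Quotient.map' (fun x => (x : O)) (fun x y h => by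
          rw [QuotientGroup.leftRel_apply] at h ⊢
          exact h)
    have hfinj : Function.Injective f := by
      rintro ⟨x⟩ ⟨y⟩ h
      refine Quotient.sound' ?_
      rw [QuotientGroup.leftRel_apply]
      have := Quotient.exact' h
      rw [QuotientGroup.leftRel_apply] at this
      exact this
    have hfsurj : Function.Surjective f := by
      refine ((Nat.bijective_iff_injective_and_card f).2 ⟨hfinj, le_antisymm ?_ ?_⟩).2
      · exact Nat.card_le_card_of_injective f hfinj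
      · exact Nat.le_of_dvd Nat.card_pos hb
    obtain ⟨⟨x⟩, hx⟩ := hfsurj (QuotientGroup.mk o)
    have := QuotientGroup.eq.1 hx
    exact ⟨(x : O), x.2, _, this, by group⟩
  set P' : Subgroup G := (P : Subgroup O).map O.subtype with hP'
  have hiP : ∀ o ∈ O, o * d * o⁻¹ * d ∈ P' := by
    intro o ho
    obtain ⟨x, hx, c, hc, he⟩ := hPC ⟨o, ho⟩
    have he' : o = (x : G) * (c : G) := congrArg Subtype.val he
    have hc' : (c : G) * d * (c : G)⁻¹ = d := mul_inv_eq_iff_eq_mul.2 ((hCmem c).1 hc).eq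
    have : o * d * o⁻¹ = x * d * (x : G)⁻¹ := by
      rw [he']
      calc (x : G) * c * d * ((x : G) * c)⁻¹ = x * (c * d * (c : G)⁻¹) * (x : G)⁻¹ := by group
        _ = _ := by rw [hc']
    rw [this]
    exact hiH P' hP _ (Subgroup.mem_map_of_mem _ hx)
  set K := Subgroup.closure ((fun y => y * d) '' D) with hK
  have hKP : K ≤ P' := (Subgroup.closure_le _).2 (by
    rintro _ ⟨y, hy, rfl⟩
    obtain ⟨o, ho, rfl⟩ := hDO y hy
    exact hiP o ho)
  have hKn : K.Normal := by
    refine ⟨fun a ha g => ?_⟩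
    have hmap : K ≤ K.comap (MulAut.conj g).toMonoidHom := by
      refine (Subgroup.closure_le _).2 ?_
      rintro _ ⟨y, hy, rfl⟩
      show g * (y * d) * g⁻¹ ∈ K
      have hy' : g * y * g⁻¹ ∈ D := by
        exact (hDmem _).2 (((hDmem _).1 hy).trans (isConj_iff.2 ⟨g, rfl⟩))
      have hd' : g * d * g⁻¹ ∈ D := (hDmem _).2 (isConj_iff.2 ⟨g, rfl⟩)
      have h1 : (g * y * g⁻¹ * d) * (g * d * g⁻¹ * d)⁻¹ ∈ K :=
        K.mul_mem (Subgroup.subset_closure ⟨_, hy', rfl⟩)
          (K.inv_mem (Subgroup.subset_closure ⟨_, hd', rfl⟩))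
      have e : g * (y * d) * g⁻¹ = (g * y * g⁻¹ * d) * (g * d * g⁻¹ * d)⁻¹ := by
        calc g * (y * d) * g⁻¹ = g * (y * d⁻¹) * g⁻¹ := by rw [hdi]
          _ = _ := by group
      exact e ▸ h1
    exact hmap ha
  haveI := hKn
  have hle : commutator G ≤ K := by
    have hyc : ∀ g : G, QuotientGroup.mk' K g ∈ Subgroup.zpowers (QuotientGroup.mk' K d) := by
      have : (⊤ : Subgroup G) ≤ (Subgroup.zpowers (QuotientGroup.mk' K d)).comap (QuotientGroup.mk' K) := by
        rw [← hgen, Subgroup.closure_le]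
        intro y hy
        refine ⟨1, ?_⟩
        show QuotientGroup.mk' K d ^ (1 : ℤ) = _
        rw [zpow_one]
        refine (QuotientGroup.eq.2 ?_)
        have := Subgroup.subset_closure (k := (fun y => y * d) '' D) ⟨y, hy, rfl⟩
        have := hKn.conj_mem _ this d
        rw [hdi] at this ⊢
        simpa [mul_assoc, hdd] using this
      exact fun g => this (Subgroup.mem_top g)
    rw [commutator_def, Subgroup.commutator_le]
    intro a _ b _
    rw [← QuotientGroup.ker_mk' K, MonoidHom.mem_ker, map_commutatorElement]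
    obtain ⟨i, hi⟩ := hyc a
    obtain ⟨j, hj⟩ := hyc b
    rw [← hi, ← hj]
    exact commutatorElement_eq_one_iff_commute.2 ((Commute.refl _).zpow_zpow i j)
  exact ((P.2.map O.subtype).to_le (hle.trans hKP)).isNilpotent

end Cfsg.Agent.S1618
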