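import Cfsg.Statements.S1626
import Cfsg.Agent.Lib.J3.LineOrbit
import Cfsg.Agent.Lib.J3.LinesIso

set_option autoImplicit false
open scoped MatrixGroups
open Matrix
open Cfsg

namespace Cfsg.Agent.S1626

/-- Orbits of the triple cover of the third Janko group on lines of its 9-space over the field with 4 elements: the line through the first basis vector has exactly 23256 images, and the isotropic lines (nonzero v with Σ v_z³ = 0) form a single orbit. -/
theorem result (F : Type) [Field F] [Fintype F] (hF : Fintype.card F = 4) (ω : F) (hω : ω ^ 2 + ω + 1 = 0) : {L : Submodule F (Cfsg.Spor.F9 → F) | ∃ g ∈ Cfsg.Spor.threeJ3 F ω, L = F ∙ ((g : Matrix Cfsg.Spor.F9 Cfsg.Spor.F9 F) *ᵥ (Pi.single (0 : Cfsg.Spor.F9) (1 : F) : Cfsg.Spor.F9 → F))}.ncard = 23256 ∧ ∀ v w : Cfsg.Spor.F9 → F, v ≠ 0 → w ≠ 0 → ∑ z, (v z) ^ 3 = 0 → ∑ z, (w z) ^ 3 = 0 → ∃ g ∈ Cfsg.Spor.threeJ3 F ω, ∃ c : F, c ≠ 0 ∧ (g : Matrix Cfsg.Spor.F9 Cfsg.Spor.F9 F) *ᵥ v = c • w := by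
  have h2 := Lib.J3.two_eq_zero hF
  obtain ⟨C⟩ := Lib.J3.exists_chain (ω := ω) h2 hω
  have hG := C.grp_eq h2 hω
  classical
  constructor
  · have hall : ∀ i < Lib.J3.lineTblZero.n, Lib.J3.lineTblZero.ok i = true := Lib.J3.lineZero_spec
    obtain ⟨hne, hinj⟩ := Lib.J3.LineTbl.vec_facts hω h2 hall
    have he0 : Lib.J3.vecOf ω (Lib.J3.lineTblZero.vec 0) =
        (Pi.single (0 : Cfsg.Spor.F9) (1 : F) : Cfsg.Spor.F9 → F) := by
      rw [Lib.J3.lineZero_first]
      funext z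
      rcases eq_or_ne z 0 with rfl | hz
      · rw [Pi.single_eq_same]
        simp [Lib.J3.vecOf, Lib.J3.el, show Lib.J3.ix (0 : Cfsg.Spor.F9) = 0 from rfl,
          show Nat.testBit 1 9 = false from rfl]
      · rw [Pi.single_eq_of_ne hz]
        have hz' : Lib.J3.ix z ≠ 0 := fun e => hz (Lib.J3.ix_inj z 0 e)
        obtain ⟨k, hk⟩ := Nat.exists_eq_succ_of_ne_zero hz'
        simp [Lib.J3.vecOf, Lib.J3.el, hk, show 9 + (k + 1) = (9 + k) + 1 from rfl,
          show ∀ n, Nat.testBit 1 (n + 1) = false from fun n => by simp [Nat.testBit_succ]]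
    have hset : {L : Submodule F (Cfsg.Spor.F9 → F) | ∃ g ∈ Cfsg.Spor.threeJ3 F ω, L = F ∙
        ((g : Matrix Cfsg.Spor.F9 Cfsg.Spor.F9 F) *ᵥ (Pi.single (0 : Cfsg.Spor.F9) (1 : F) :
          Cfsg.Spor.F9 → F))} = Set.range fun i : Fin Lib.J3.lineTblZero.n =>
        (F ∙ Lib.J3.vecOf ω (Lib.J3.lineTblZero.vec i)) := by
      ext L
      constructor
      · rintro ⟨g, hg, rfl⟩
        rw [hG] at hg
        obtain ⟨j, hj, c, hc, e⟩ :=
          Lib.J3.LineTbl.closed h2 hω hall C hg 0 (by decide)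
        rw [he0] at e
        refine ⟨⟨j, hj⟩, ?_⟩
        rw [e]
        exact (Submodule.span_singleton_smul_eq (IsUnit.mk0 c hc) _).symm
      · rintro ⟨i, rfl⟩
        obtain ⟨g, hg, c, hc, e⟩ := Lib.J3.LineTbl.reach h2 hω hall C i i.2
        refine ⟨g, hG.symm ▸ hg, ?_⟩
        rw [← he0, e]
        exact (Submodule.span_singleton_smul_eq (IsUnit.mk0 c hc) _).symm
    rw [hset, Set.ncard_range_of_injective, Nat.card_fin]
    · rfl
    intro i j e
    obtain ⟨c, hc⟩ := Submodule.span_singleton_eq_span_singleton.mp e.symm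
    exact Fin.ext (hinj i i.2 j j.2 (c : F) c.ne_zero (by rw [← hc, Units.smul_def])).2
  · have hall : ∀ i < Lib.J3.lineTblIso.n, Lib.J3.lineTblIso.ok i = true :=
      Lib.J3.lineIso_ok_spec
    obtain ⟨hne, hinj⟩ := Lib.J3.LineTbl.vec_facts hω h2 hall
    let S : Finset (Cfsg.Spor.F9 → F) :=
      Finset.univ.filter fun v => v ≠ 0 ∧ ∑ z, v z ^ 3 = 0
    let f : Fˣ × Fin Lib.J3.lineTblIso.n → (Cfsg.Spor.F9 → F) := fun x =>
      (x.1 : F) • Lib.J3.vecOf ω (Lib.J3.lineTblIso.vec x.2)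
    have hfi : Function.Injective f := by
      rintro ⟨c, i⟩ ⟨d, j⟩ e
      have e' : Lib.J3.vecOf ω (Lib.J3.lineTblIso.vec i) =
          ((c : F)⁻¹ * d) • Lib.J3.vecOf ω (Lib.J3.lineTblIso.vec j) := by
        rw [mul_smul]
        exact (eq_inv_smul_iff₀ c.ne_zero).mpr e
      obtain ⟨h1, h3⟩ := hinj i i.2 j j.2 _ (mul_ne_zero (inv_ne_zero c.ne_zero) d.ne_zero) e'
      obtain rfl : i = j := Fin.ext h3
      rw [inv_mul_eq_one₀ c.ne_zero] at h1
      rw [Units.ext h1]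
    have hfS : ∀ x, f x ∈ S := by
      rintro ⟨c, i⟩
      refine Finset.mem_filter.mpr ⟨Finset.mem_univ _,
        smul_ne_zero c.ne_zero (hne i i.2), ?_⟩
      simp only [f, Pi.smul_apply, smul_eq_mul, mul_pow, ← Finset.mul_sum,
        Lib.J3.parity_spec h2 hω (Lib.J3.lineIso_parity_spec i i.2), mul_zero]
    have hcardS : S.card = 130815 := by
      let e : Cfsg.Spor.F9 ≃ Fin 9 := Fintype.equivFinOfCardEq (by simp)
      have h := Lib.J3.card_cube_sum_zero hF h2 9
      have hmap : (Finset.univ.filter fun v : Fin 9 → F => ∑ i, v i ^ 3 = 0) =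
          (insert (0 : Cfsg.Spor.F9 → F) S).map (Equiv.arrowCongr e (Equiv.refl F)).toEmbedding := by
        ext v
        simp only [Finset.mem_filter, Finset.mem_univ, true_and, Finset.mem_map_equiv,
          Finset.mem_insert, S]
        have hs : ∑ z, ((Equiv.arrowCongr e (Equiv.refl F)).symm v) z ^ 3 = ∑ i, v i ^ 3 :=
          Fintype.sum_equiv e _ _ fun z => rfl
        rw [hs]
        constructor
        · intro hv
          by_cases h0 : (Equiv.arrowCongr e (Equiv.refl F)).symm v = 0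
          · exact Or.inl h0
          · exact Or.inr ⟨h0, hv⟩
        · rintro (h0 | ⟨_, hv⟩)
          · rw [← hs, h0]; simp
          · exact hv
      rw [hmap, Finset.card_map, Finset.card_insert_of_notMem (by simp [S])] at h
      norm_num at h
      omega
    have himg : Finset.univ.image f = S := by
      apply Finset.eq_of_subset_of_card_le
      · intro v hv
        obtain ⟨x, -, rfl⟩ := Finset.mem_image.mp hv
        exact hfS x
      · rw [hcardS, Finset.card_image_of_injective _ hfi, Finset.card_univ, Fintype.card_prod,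
          Fintype.card_fin, Fintype.card_units, hF]
        exact le_refl _
    intro v w hv hw hv0 hw0
    obtain ⟨⟨a, i⟩, -, rfl⟩ :=
      Finset.mem_image.mp (himg.symm ▸ Finset.mem_filter.mpr ⟨Finset.mem_univ v, hv, hv0⟩ :
        v ∈ Finset.univ.image f)
    obtain ⟨⟨b, j⟩, -, rfl⟩ :=
      Finset.mem_image.mp (himg.symm ▸ Finset.mem_filter.mpr ⟨Finset.mem_univ w, hw, hw0⟩ :
        w ∈ Finset.univ.image f)
    obtain ⟨g, hg, c, hc, e⟩ := Lib.J3.LineTbl.reach h2 hω hall C i i.2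
    obtain ⟨k, hk, d, hd, e'⟩ := Lib.J3.LineTbl.reach h2 hω hall C j j.2
    refine ⟨k * g⁻¹, hG.symm ▸ mul_mem hk (inv_mem hg), (a : F) * c⁻¹ * d * (b : F)⁻¹, ?_, ?_⟩
    · exact mul_ne_zero (mul_ne_zero (mul_ne_zero a.ne_zero (inv_ne_zero hc)) hd)
        (inv_ne_zero b.ne_zero)
    have e1 : Lib.J3.vecOf ω (Lib.J3.lineTblIso.vec i) =
        c⁻¹ • ((g : Matrix Cfsg.Spor.F9 Cfsg.Spor.F9 F) *ᵥ
          Lib.J3.vecOf ω (Lib.J3.lineTblIso.vec 0)) := by
      rw [e, smul_smul, inv_mul_cancel₀ hc, one_smul]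
    simp only [f]
    rw [e1, Matrix.mulVec_smul, Matrix.mulVec_smul, Matrix.mulVec_mulVec, ← Units.val_mul,
      inv_mul_cancel_right, e', smul_smul, smul_smul, smul_smul]
    congr 1
    field_simp

end Cfsg.Agent.S1626
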