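import Cfsg.Statements.S1628
import Cfsg.Agent.Lib.RuMin.Main

set_option autoImplicit false
open Cfsg

namespace Cfsg.Agent.S1628

open Cfsg.Agent.Lib.RuMin

/-- The Conway–Wales lattice as stored is even with no vectors of true norm 2: stored norms are multiples of 8, never equal to 8, and the minimum over nonzero vectors is 16. -/
theorem result : (∀ x ∈ Cfsg.Spor.ruLattice, (8 : ℤ) ∣ Cfsg.Spor.ruNorm x) ∧ (∀ x ∈ Cfsg.Spor.ruLattice, Cfsg.Spor.ruNorm x ≠ 8) ∧ (∀ x ∈ Cfsg.Spor.ruLattice, x ≠ 0 → 16 ≤ Cfsg.Spor.ruNorm x) ∧ ∃ x ∈ Cfsg.Spor.ruLattice, Cfsg.Spor.ruNorm x = 16 := by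
  refine ⟨fun x hx => ?_, fun x hx => ?_, fun x hx hne => ?_, ?_⟩
  · rw [ruNorm_eq]; exact ip_self_dvd (lattice_le hx)
  · rw [ruNorm_eq]; exact ne_eight (lattice_le hx)
  · rw [ruNorm_eq]
    have h8 := ne_eight (lattice_le hx)
    obtain ⟨k, hk⟩ := ip_self_dvd (lattice_le hx)
    have h0 : ip x x ≠ 0 := by
      intro h
      apply hne
      have hz : ∀ i ∈ Finset.range 56, co x i * co x i = 0 :=
        (Finset.sum_eq_zero_iff_of_nonneg fun i _ => mul_self_nonneg _).1 h
      rw [← toVec_toL x]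
      funext p
      unfold toVec
      rw [toL_getD x _ (by omega), toL_getD x _ (by omega),
        mul_self_eq_zero.1 (hz _ (Finset.mem_range.2 (by omega))),
        mul_self_eq_zero.1 (hz _ (Finset.mem_range.2 (by omega)))]
      rfl
    have hn : 0 ≤ ip x x := Finset.sum_nonneg fun i _ => mul_self_nonneg _
    omega
  · refine ⟨Spor.ruTable.headI, ?_, ?_⟩
    · rw [Spor.ruLattice, AddSubgroup.mem_sInf]
      intro L hL
      exact hL.1 _ List.mem_cons_self
    · decide +kernel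

end Cfsg.Agent.S1628
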