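import Cfsg.Statements.S1631
import Cfsg.Agent.Lib.MaxSub.UnitaryStd
-- import your own Cfsg.Agent.* helpers here

set_option autoImplicit false
open scoped MatrixGroups
open Cfsg

namespace Cfsg.Agent.S1631

open Matrix
open Cfsg.Agent.Lib.MaxSub

variable {F : Type} [Field F] [Fintype F] [DecidableEq F] {n : ℕ}

theorem card_eq {hF : Fintype.card F = 4} : Fintype.card F = 2 ^ 2 := hF

theorem two_zero (hF : Fintype.card F = 4) : (2 : F) = 0 := by
  have h : ((Fintype.card F : ℕ) : F) = 0 := by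
    obtain ⟨p, hp⟩ := CharP.exists F
    haveI := hp
    exact Nat.cast_card_eq_zero F
  rw [hF] at h
  have h4 : (2 : F) * 2 = 0 := by
    rw [← h]; norm_num
  exact mul_self_eq_zero.mp h4

theorem add_self (hF : Fintype.card F = 4) (a : F) : a + a = 0 := by
  rw [← two_mul, two_zero hF, zero_mul]

theorem sigma_eq (hF : Fintype.card F = 4) (a : F) :
    (stdHerm n (card_eq (hF := hF))).σ a = a ^ 2 := rfl

theorem pow_three (hF : Fintype.card F = 4) {a : F} (ha : a ≠ 0) : a ^ 3 = 1 := by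
  have := FiniteField.pow_card_sub_one_eq_one a ha
  rwa [hF] at this

/-- The transvection with coefficient one. -/
noncomputable def T (hF : Fintype.card F = 4) (v : Fin n → F)
    (hv : (stdHerm n (card_eq (hF := hF))).Iso v) : Matrix.GeneralLinearGroup (Fin n) F :=
  (stdHerm n (card_eq (hF := hF))).trans v hv 1

theorem T_mulVec (hF : Fintype.card F = 4) (v : Fin n → F)
    (hv : (stdHerm n (card_eq (hF := hF))).Iso v) (x : Fin n → F) :
    (T hF v hv : Matrix (Fin n) (Fin n) F) *ᵥ x = x + (stdHerm n (card_eq (hF := hF))).B v x • v := by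
  rw [T, HermF.trans_mulVec, one_mul]

theorem T_preserves (hF : Fintype.card F = 4) (v : Fin n → F)
    (hv : (stdHerm n (card_eq (hF := hF))).Iso v) :
    (stdHerm n (card_eq (hF := hF))).Preserves (T hF v hv) :=
  HermF.trans_preserves _ v hv (by rw [map_one, add_self hF])

theorem T_det (hF : Fintype.card F = 4) (v : Fin n → F)
    (hv : (stdHerm n (card_eq (hF := hF))).Iso v) :
    (T hF v hv : Matrix (Fin n) (Fin n) F).det = 1 := by
  show (tvMat v ((1 : F) • (stdHerm n (card_eq (hF := hF))).psi v)).det = 1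
  rw [tvMat, Matrix.vecMulVec_eq Unit, Matrix.det_one_add_replicateCol_mul_replicateRow,
    HermF.iso_dot _ hv, add_zero]

theorem rank_le_one {v : Fin n → F} {A : Matrix (Fin n) (Fin n) F} {φ : Fin n → F}
    (hA : ∀ x, A *ᵥ x = x + (φ ⬝ᵥ x) • v) : (A - 1).rank ≤ 1 := by
  have : A - 1 = Matrix.vecMulVec v φ := Matrix.ext_iff_mulVec.mpr fun x => by
    rw [Matrix.sub_mulVec, Matrix.one_mulVec, hA, add_sub_cancel_left, Matrix.vecMulVec_mulVec,
      op_smul_eq_smul]
  rw [this]
  exact Matrix.rank_vecMulVec_le _ _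

theorem rank_ne_zero {A : Matrix (Fin n) (Fin n) F} (hA : A ≠ 1) : (A - 1).rank ≠ 0 := fun h0 => by
  refine hA ?_
  have h1 : (A - 1).mulVecLin = 0 := LinearMap.range_eq_bot.mp (Submodule.finrank_eq_zero.mp h0)
  refine Matrix.ext_iff_mulVec.mpr fun y => ?_
  have h2 := LinearMap.congr_fun h1 y
  rwa [Matrix.mulVecLin_apply, Matrix.sub_mulVec, LinearMap.zero_apply, sub_eq_zero] at h2

theorem T_ne_one (hF : Fintype.card F = 4) {v : Fin n → F}
    (hv : (stdHerm n (card_eq (hF := hF))).Iso v) (hv0 : v ≠ 0) : T hF v hv ≠ 1 := by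
  intro h
  obtain ⟨y, -, hy⟩ := (stdHerm n (card_eq (hF := hF))).exists_perp_eq_one ⊥ (x := v) (by simpa using hv0)
  have h1 := T_mulVec hF v hv y
  rw [h, Units.val_one, Matrix.one_mulVec, ← HermF.herm _ y v, hy, map_one, one_smul, left_eq_add] at h1
  exact hv0 h1

theorem T_rank (hF : Fintype.card F = 4) {v : Fin n → F}
    (hv : (stdHerm n (card_eq (hF := hF))).Iso v) (hv0 : v ≠ 0) :
    ((T hF v hv : Matrix (Fin n) (Fin n) F) - 1).rank = 1 := by
  refine le_antisymm (rank_le_one (v := v) (φ := (stdHerm n (card_eq (hF := hF))).psi v) fun x => ?_)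
    (Nat.one_le_iff_ne_zero.mpr (rank_ne_zero fun h => T_ne_one hF hv hv0 (Units.ext h)))
  rw [T_mulVec, HermF.psi_dot]

/-- Determinant-one isometries with `g - 1` of rank one. -/
theorem eq_T_of_rank (hF : Fintype.card F = 4) {g : Matrix (Fin n) (Fin n) F} (hdet : g.det = 1)
    (hpres : ∀ u v, (stdHerm n (card_eq (hF := hF))).B (g *ᵥ u) (g *ᵥ v) =
      (stdHerm n (card_eq (hF := hF))).B u v)
    (h : (g - 1).rank = 1) : ∃ v, ∃ hv : (stdHerm n (card_eq (hF := hF))).Iso v,
      v ≠ 0 ∧ g = (T hF v hv : Matrix (Fin n) (Fin n) F) := by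
  set f := stdHerm n (card_eq (hF := hF)) with hf
  set N := (g - 1).mulVecLin with hN
  have hN1 : Module.finrank F (LinearMap.range N) = 1 := h
  obtain ⟨⟨v, hv⟩, hv0, hspan⟩ := finrank_eq_one_iff'.mp hN1
  have hv0' : v ≠ 0 := fun e => hv0 (Subtype.ext e)
  have key : ∀ j, ∃ c : F, g *ᵥ Pi.single j 1 = Pi.single j 1 + c • v := fun j => by
    obtain ⟨c, hc⟩ := hspan ⟨N (Pi.single j 1), LinearMap.mem_range_self _ _⟩
    refine ⟨c, ?_⟩
    have hc' : c • v = N (Pi.single j 1) := congrArg Subtype.val hc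
    rw [hc', hN, Matrix.mulVecLin_apply, Matrix.sub_mulVec, Matrix.one_mulVec, add_sub_cancel]
  choose φ hφ using key
  have hg : g = 1 + Matrix.vecMulVec v φ := Matrix.ext fun i j => by
    have h1 := congrFun (hφ j) i
    simp only [Matrix.mulVec_single, MulOpposite.op_one, one_smul, Pi.add_apply, Pi.smul_apply,
      smul_eq_mul] at h1
    rw [show g i j = g.col j i from rfl, h1, Matrix.add_apply, Matrix.vecMulVec_apply, mul_comm (φ j),
      Matrix.one_apply, Pi.single_apply]
  have hgx : ∀ x, g *ᵥ x = x + (φ ⬝ᵥ x) • v := fun x => by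
    rw [hg, Matrix.add_mulVec, Matrix.one_mulVec, Matrix.vecMulVec_mulVec, op_smul_eq_smul]
  have hφv : φ ⬝ᵥ v = 0 := by
    rw [hg, Matrix.vecMulVec_eq Unit, Matrix.det_one_add_replicateCol_mul_replicateRow] at hdet
    simpa using hdet
  have hφ0 : φ ≠ 0 := fun e => by
    rw [hg, e, Matrix.vecMulVec_zero, add_zero, sub_self, Matrix.rank_zero] at h
    exact zero_ne_one h
  obtain ⟨y₁, hy₁⟩ : ∃ y, φ ⬝ᵥ y ≠ 0 := by
    by_contra hall
    push Not at hall
    exact hφ0 (dotProduct_eq_zero φ hall)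
  have hiso : f.B v v = 0 := by
    have h1 := hpres v y₁
    rw [hgx, hφv, zero_smul, add_zero, hgx, map_add, map_smul, smul_eq_mul, add_eq_left] at h1
    exact (mul_eq_zero.mp h1).resolve_left hy₁
  obtain ⟨y₀, -, hy₀'⟩ := f.exists_perp_eq_one ⊥ (x := v) (by simpa using hv0')
  have hy₀ : f.B v y₀ = 1 := by rw [← f.herm y₀ v, hy₀', map_one]
  set c := φ ⬝ᵥ y₀ with hc
  have key2 : ∀ x, f.σ (φ ⬝ᵥ x) + c * f.B x v = 0 := fun x => by
    have h1 := hpres x y₀
    simp only [hgx, map_add, LinearMap.map_smulₛₗ, LinearMap.add_apply, LinearMap.smul_apply, map_smul,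
      smul_eq_mul, hiso, hy₀, mul_zero, add_zero, mul_one, ← hc] at h1
    linear_combination h1
  have hφx : ∀ x, φ ⬝ᵥ x = f.σ c * f.B v x := fun x => by
    have h1 : f.σ (φ ⬝ᵥ x) = c * f.B x v := by
      linear_combination key2 x - add_self hF (c * f.B x v)
    have h2 := congrArg f.σ h1
    rwa [f.invol, map_mul, f.herm] at h2
  have hc1 : c = 1 := by
    have h1 : c = c ^ 2 := by
      have := hφx y₀
      rwa [hy₀, mul_one, ← hc, hf, sigma_eq hF] at this
    rcases eq_or_ne c 0 with e | e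
    · exact absurd (by rw [hφx y₁, e, map_zero, zero_mul]) hy₁
    · exact (mul_left_cancel₀ e (show c * c = c * 1 by rw [mul_one, ← pow_two]; exact h1.symm))
  have hvI : (stdHerm n (card_eq (hF := hF))).Iso v := hiso
  refine ⟨v, hvI, hv0', Matrix.ext_iff_mulVec.mpr fun x => ?_⟩
  rw [hgx, T_mulVec hF v hvI x, hφx x, hc1, map_one, one_mul]

theorem T_congr (hF : Fintype.card F = 4) {v w : Fin n → F}
    (hv : (stdHerm n (card_eq (hF := hF))).Iso v) (hw : (stdHerm n (card_eq (hF := hF))).Iso w)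
    {a : F} (ha : a ≠ 0) (h : w = a • v) : T hF v hv = T hF w hw := by
  subst h
  refine Units.ext (Matrix.ext_iff_mulVec.mpr fun x => ?_)
  rw [T_mulVec, T_mulVec, LinearMap.map_smulₛₗ, LinearMap.smul_apply, smul_smul, smul_eq_mul, sigma_eq hF]
  congr 2
  linear_combination -((stdHerm n (card_eq (hF := hF))).B v x) * pow_three hF ha

/-- The unitary transvections of SU(n, 2), n ≥ 4, form a generating conjugacy class of 3-transpositions. -/
theorem result (F : Type) [Field F] [Fintype F] [DecidableEq F] (hF : Fintype.card F = 4) (n : ℕ) (hn : 4 ≤ n) : Cfsg.IsThreeTranspositionClass {g : ↥(Cfsg.SU n F 2) | (((g : Matrix.SpecialLinearGroup (Fin n) F) : Matrix (Fin n) (Fin n) F) - 1).rank = 1} := by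
  set f := stdHerm n (card_eq (hF := hF)) with hf
  have hF' : Fintype.card F = 2 ^ 2 := hF
  let toGL : ↥(Cfsg.SU n F 2) →* Matrix.GeneralLinearGroup (Fin n) F :=
    Matrix.SpecialLinearGroup.toGL.comp (Cfsg.SU n F 2).subtype
  have hinjGL : Function.Injective toGL := fun a b h =>
    Subtype.ext (Subtype.ext (congrArg Units.val h))
  have hpres : ∀ a : ↥(Cfsg.SU n F 2), f.Preserves (toGL a) := fun a u v => a.2 v u
  let tS : ∀ v, f.Iso v → ↥(Cfsg.SU n F 2) := fun v hv =>
    ⟨⟨(T hF v hv : Matrix (Fin n) (Fin n) F), T_det hF v hv⟩, fun u w => T_preserves hF v hv w u⟩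
  have htS : ∀ v hv, toGL (tS v hv) = T hF v hv := fun v hv => Units.ext rfl
  have hD : ∀ d : ↥(Cfsg.SU n F 2),
      (((d : Matrix.SpecialLinearGroup (Fin n) F) : Matrix (Fin n) (Fin n) F) - 1).rank = 1 →
      ∃ v, ∃ hv : f.Iso v, v ≠ 0 ∧ toGL d = T hF v hv := fun d hd => by
    obtain ⟨v, hv, hv0, h⟩ := eq_T_of_rank hF d.1.2 (fun u w => hpres d u w) hd
    exact ⟨v, hv, hv0, Units.ext h⟩
  have hconj : ∀ (a : Matrix.GeneralLinearGroup (Fin n) F) (ha : f.Preserves a) v (hv : f.Iso v),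
      a * T hF v hv * a⁻¹ = T hF ((a : Matrix (Fin n) (Fin n) F) *ᵥ v) ((f.iso_mulVec ha).mpr hv) :=
    fun a ha v hv => f.conj_trans ha v hv 1
  have hsq : ∀ v hv, T hF v hv * T hF v hv = 1 := fun v hv => Units.ext (Matrix.ext_iff_mulVec.mpr fun x => by
    rw [Units.val_mul, ← Matrix.mulVec_mulVec, T_mulVec, T_mulVec, map_add, map_smul,
      show f.B v v = 0 from hv, smul_zero, add_zero, add_assoc, ← add_smul, add_self hF, zero_smul, add_zero,
      Units.val_one, Matrix.one_mulVec])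
  obtain ⟨e₀, -, e₁, -, he₀, -, he₀₁⟩ := f.exists_hyperbolic ⊥ (by simp; omega)
  have he₀0 : e₀ ≠ 0 := fun e => by
    rw [e, map_zero, LinearMap.zero_apply] at he₀₁
    exact zero_ne_one he₀₁
  refine ⟨⟨fun d hd => ?_, fun d hd e he => ?_⟩, ⟨tS e₀ he₀, T_rank hF he₀ he₀0, ?_⟩, ?_⟩
  · obtain ⟨v, hv, hv0, hdv⟩ := hD d hd
    refine orderOf_eq_prime (hinjGL ?_) fun e => T_ne_one hF hv hv0 ?_
    · rw [map_pow, map_one, hdv, pow_two, hsq]
    · rw [← hdv, e, map_one]
  · obtain ⟨v, hv, hv0, hdv⟩ := hD d hd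
    obtain ⟨w, hw, hw0, hew⟩ := hD e he
    have hinv : ∀ u hu, (T hF u hu)⁻¹ = T hF u hu := fun u hu => inv_eq_of_mul_eq_one_right (hsq u hu)
    have c1 := hconj _ (T_preserves hF v hv) w hw
    rw [hinv] at c1
    rcases eq_or_ne (f.B v w) 0 with h | h
    · left
      apply hinjGL
      rw [map_pow, map_mul, map_one, hdv, hew, pow_two, ← mul_assoc, c1]
      rw [← T_congr hF hw _ one_ne_zero (by rw [one_smul, T_mulVec, h, zero_smul, add_zero])]
      exact hsq w hw
    · right
      have c2 := hconj _ (T_preserves hF w hw) v hv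
      rw [hinv] at c2
      apply hinjGL
      rw [map_pow, map_mul, map_one, hdv, hew]
      calc (T hF v hv * T hF w hw) ^ 3
          = (T hF v hv * T hF w hw * T hF v hv) * (T hF w hw * T hF v hv * T hF w hw) := by
            simp [pow_succ, mul_assoc]
        _ = 1 := by
            rw [c1, c2, T_congr hF _ ((f.iso_mulVec (T_preserves hF w hw)).mpr hv) (a := f.B w v)
              (fun e => h (f.eq_zero_comm e)) ?_]
            · exact hsq _ _
            rw [T_mulVec, T_mulVec, smul_add, smul_smul, ← f.herm v w, hf, sigma_eq hF, add_comm v]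
            congr 1
            rw [show (f.B v w) ^ 2 * f.B v w = 1 from by rw [← pow_succ]; exact pow_three hF h, one_smul]
  · ext d
    constructor
    · intro hd
      obtain ⟨v, hv, hv0, hdv⟩ := hD d hd
      obtain ⟨g, hg, hgd, hgv⟩ := f.exists_special_map_one (by simpa using hn) he₀ hv he₀0 hv0
      let s : Matrix.SpecialLinearGroup (Fin n) F :=
        ⟨(g : Matrix (Fin n) (Fin n) F), congrArg Units.val (MonoidHom.mem_ker.mp hgd)⟩
      obtain ⟨s', hs'⟩ : ∃ s' : ↥(Cfsg.SU n F 2), toGL s' = g := ⟨⟨s, fun u w => hg w u⟩, Units.ext rfl⟩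
      refine isConj_iff.mpr ⟨s', hinjGL ?_⟩
      rw [map_mul, map_mul, map_inv, htS, hs', hconj g hg e₀ he₀, hdv]
      exact T_congr hF _ hv one_ne_zero (by rw [one_smul, hgv])
    · intro hd
      obtain ⟨c, hc⟩ := isConj_iff.mp hd
      have hc' := congrArg toGL hc
      rw [map_mul, map_mul, map_inv, htS, hconj _ (hpres c) e₀ he₀] at hc'
      show ((toGL d : Matrix (Fin n) (Fin n) F) - 1).rank = 1
      rw [← hc']
      refine T_rank hF _ fun e => he₀0 ?_
      have h2 := congrArg (((toGL c)⁻¹ : Matrix.GeneralLinearGroup (Fin n) F).1 *ᵥ ·) e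
      simpa [Matrix.mulVec_mulVec] using h2
  · rw [eq_top_iff, ← Cfsg.Agent.Lib.Geometry.closure_unitaryTransvections_eq_top hF' (by omega) (by omega),
      Subgroup.closure_le]
    rintro A ⟨v, c, -, hA⟩
    rcases eq_or_ne A 1 with rfl | hne
    · exact one_mem _
    refine Subgroup.subset_closure ?_
    show _ = 1
    refine le_antisymm ?_ (Nat.one_le_iff_ne_zero.mpr (rank_ne_zero fun h => hne (Subtype.ext (Subtype.ext h))))
    rw [hA, Cfsg.unitaryTransvection, add_sub_cancel_left, ← Matrix.vecMulVec_smul]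
    exact Matrix.rank_vecMulVec_le _ _

end Cfsg.Agent.S1631
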