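import Cfsg.Statements.S1632
import Cfsg.Agent.Lib.LatticeTheta.Theta

set_option autoImplicit false
open Matrix
open Cfsg

namespace Cfsg.Agent.S1632

open Matrix UpperHalfPlane ModularForm MatrixGroups EisensteinSeries ArithmeticFunction

open Cfsg.Agent.Lib.LatticeTheta

theorem e4_coeff :
    (qExpansion 1 E₄).coeff 0 = 1 ∧ (qExpansion 1 E₄).coeff 1 = 240 ∧
    (qExpansion 1 E₄).coeff 2 = 2160 ∧ (qExpansion 1 E₄).coeff 3 = 6720 ∧
    (qExpansion 1 E₄).coeff 4 = 17520 := by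
  norm_num [E_qExpansion_coeff _ ⟨2, rfl⟩, show bernoulli 4 = -1 / 30 by decide +kernel,
    show ArithmeticFunction.sigma 3 1 = 1 by decide +kernel, show ArithmeticFunction.sigma 3 2 = 9 by decide +kernel,
    show ArithmeticFunction.sigma 3 3 = 28 by decide +kernel, show ArithmeticFunction.sigma 3 4 = 73 by decide +kernel]

theorem e6_coeff :
    (qExpansion 1 E₆).coeff 0 = 1 ∧ (qExpansion 1 E₆).coeff 1 = -504 ∧
    (qExpansion 1 E₆).coeff 2 = -16632 ∧ (qExpansion 1 E₆).coeff 3 = -122976 ∧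
    (qExpansion 1 E₆).coeff 4 = -532728 := by
  norm_num [E_qExpansion_coeff _ ⟨3, rfl⟩, show bernoulli 6 = 1 / 42 by decide +kernel,
    show ArithmeticFunction.sigma 5 1 = 1 by decide +kernel, show ArithmeticFunction.sigma 5 2 = 33 by decide +kernel,
    show ArithmeticFunction.sigma 5 3 = 244 by decide +kernel, show ArithmeticFunction.sigma 5 4 = 1057 by decide +kernel]

/-- The weight twelve form with constant term one and no linear term. -/
noncomputable def target : ModularForm 𝒮ℒ 12 :=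
  (7 / 12 : ℂ) • ModularForm.mcast (by decide) (E₄.pow 3) +
    (5 / 12 : ℂ) • ModularForm.mcast (by decide) (E₆.pow 2)

theorem target_coeff :
    (qExpansion 1 target).coeff 0 = 1 ∧ (qExpansion 1 target).coeff 1 = 0 ∧
    (qExpansion 1 target).coeff 2 = 196560 ∧ (qExpansion 1 target).coeff 3 = 16773120 ∧
    (qExpansion 1 target).coeff 4 = 398034000 := by
  have h : qExpansion 1 target = (7 / 12 : ℂ) • (qExpansion 1 E₄ * qExpansion 1 E₄ * qExpansion 1 E₄) +
      (5 / 12 : ℂ) • (qExpansion 1 E₆ * qExpansion 1 E₆) := by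
    rw [target, FunLike.coe_add, ModularForm.qExpansion_add one_pos one_mem_strictPeriods_SL,
      FunLike.coe_smul, FunLike.coe_smul, ModularForm.qExpansion_smul one_pos one_mem_strictPeriods_SL,
      ModularForm.qExpansion_smul one_pos one_mem_strictPeriods_SL]
    simp only [coe_mcast, ModularForm.qExpansion_pow one_pos one_mem_strictPeriods_SL, pow_succ, pow_zero, one_mul]
  obtain ⟨a0, a1, a2, a3, a4⟩ := e4_coeff
  obtain ⟨b0, b1, b2, b3, b4⟩ := e6_coeff
  rw [h]
  norm_num [PowerSeries.coeff_mul, PowerSeries.coeff_smul, Finset.Nat.antidiagonal_succ,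
    -PowerSeries.coeff_zero_eq_constantCoeff, a0, a1, a2, a3, a4, b0, b1, b2, b3, b4]

/-- An even unimodular lattice of rank 24 without roots has 196560, 16773120 and 398034000 vectors of norms 4, 6 and 8. -/
theorem result (B : Matrix (Fin 24) (Fin 24) ℤ) (hsymm : B.IsSymm) (hpos : ∀ x : Fin 24 → ℤ, x ≠ 0 → 0 < x ⬝ᵥ (B *ᵥ x)) (heven : ∀ x : Fin 24 → ℤ, (2 : ℤ) ∣ x ⬝ᵥ (B *ᵥ x)) (hdet : B.det = 1) (h2 : ∀ x : Fin 24 → ℤ, x ⬝ᵥ (B *ᵥ x) ≠ 2) : {x : Fin 24 → ℤ | x ⬝ᵥ (B *ᵥ x) = 4}.ncard = 196560 ∧ {x : Fin 24 → ℤ | x ⬝ᵥ (B *ᵥ x) = 6}.ncard = 16773120 ∧ {x : Fin 24 → ℤ | x ⬝ᵥ (B *ᵥ x) = 8}.ncard = 398034000 := by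
  have hg : IsGood B := ⟨hsymm, hpos, heven, hdet⟩
  obtain ⟨t0, t1, t2, t3, t4⟩ := target_coeff
  have c0 : (qExpansion 1 (thetaForm hg)).coeff 0 = 1 := by
    rw [thetaForm_coeff hg]
    have : {x : Fin 24 → ℤ | qf B x = 2 * ((0 : ℕ) : ℤ)} = {0} := by
      ext x
      refine ⟨fun hx => ?_, fun hx => ?_⟩
      · by_contra hne
        exact absurd (hpos x hne) (by simpa [qf] using hx.le)
      · simp [Set.mem_singleton_iff.1 hx, qf]
    rw [this, Set.ncard_singleton, Nat.cast_one]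
  have c1 : (qExpansion 1 (thetaForm hg)).coeff 1 = 0 := by
    rw [thetaForm_coeff hg]
    have : {x : Fin 24 → ℤ | qf B x = 2 * ((1 : ℕ) : ℤ)} = ∅ :=
      Set.eq_empty_iff_forall_notMem.2 fun x hx => h2 x (by simpa [qf] using hx)
    rw [this, Set.ncard_empty, Nat.cast_zero]
  have hF : thetaForm hg - target = 0 := by
    refine ModularForm.sturm_bound_levelOne ?_
    refine lt_of_lt_of_le (b := ((2 : ℕ) : ℕ∞)) (by norm_num <;> decide) (PowerSeries.nat_le_order _ _ fun i hi => ?_)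
    rw [FunLike.coe_sub, ModularForm.qExpansion_sub one_pos one_mem_strictPeriods_SL, map_sub]
    interval_cases i
    · rw [c0, t0, sub_self]
    · rw [c1, t1, sub_self]
  have hcount : ∀ m : ℕ, ({x : Fin 24 → ℤ | qf B x = 2 * (m : ℤ)}.ncard : ℂ) = (qExpansion 1 target).coeff m := fun m => by
    rw [← thetaForm_coeff hg, sub_eq_zero.1 hF]
  refine ⟨?_, ?_, ?_⟩
  · exact Nat.cast_injective (R := ℂ) ((hcount 2).trans (t2.trans (by norm_num)))
  · exact Nat.cast_injective (R := ℂ) ((hcount 3).trans (t3.trans (by norm_num)))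
  · exact Nat.cast_injective (R := ℂ) ((hcount 4).trans (t4.trans (by norm_num)))

end Cfsg.Agent.S1632
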