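import Cfsg.Statements.S1633
import Cfsg.Agent.Lib.Leech.HSU35
import Cfsg.Agent.S0405
-- import your own Cfsg.Agent.* helpers here

set_option autoImplicit false
open Cfsg

namespace Cfsg.Agent.S1633

open Cfsg.Agent.Lib.Leech Cfsg.Agent.Lib.Leech.HSU35

theorem base_facts : sqNorm (vecOf bU) = 48 ∧ sqNorm (vecOf bW) = 48 ∧ dotInt (vecOf bU) (vecOf bW) = -32 ∧
    sqNorm (vecOf tX) = 32 ∧ dotInt (vecOf bU) (vecOf tX) = 16 ∧ dotInt (vecOf bW) (vecOf tX) = -24 ∧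
    -vecOf tgtOrb352 = vecOf tX ∧ vecOf bW = -vecOf bZ - vecOf bU := by
  decide +kernel

theorem dot_sub_left (a b x : GolayPt → ℤ) : dotInt (-a - b) x = -dotInt a x - dotInt b x := by
  simp only [dotInt, Pi.sub_apply, Pi.neg_apply, ← Finset.sum_sub_distrib, ← Finset.sum_neg_distrib]
  exact Finset.sum_congr rfl fun q _ => by ring

/-- The configuration set. -/
def cset (v w : ↥leechLattice) : Set ↥leechLattice :=
  {x | sqNorm (x : GolayPt → ℤ) = 32 ∧ dotInt (v : GolayPt → ℤ) (x : GolayPt → ℤ) = 16 ∧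
    dotInt (w : GolayPt → ℤ) (x : GolayPt → ℤ) = -24}

theorem mem_dotSet_iff {v w : ↥leechLattice} {k : ↥Co0} (hv : ((k • v : ↥leechLattice) : GolayPt → ℤ) = vecOf bU)
    (hw : ((k • w : ↥leechLattice) : GolayPt → ℤ) = vecOf bW) (x : ↥leechLattice) :
    -((k • x : ↥leechLattice) : GolayPt → ℤ) ∈ dotSet [bU, bZ] [-16, -8] ↔ x ∈ cset v w := by
  have h1 := co0_dot k v x
  have h2 := co0_dot k w x
  rw [hv] at h1
  rw [hw, base_facts.2.2.2.2.2.2.2, dot_sub_left] at h2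
  have h0 : sqNorm (-((k • x : ↥leechLattice) : GolayPt → ℤ)) = sqNorm (x : GolayPt → ℤ) := by
    rw [← co0_sqNorm k x]; simp [sqNorm]
  constructor
  · rintro ⟨-, hn, hd⟩
    simp only [List.map_cons, List.map_nil, List.cons.injEq, and_true, dotInt_neg_right] at hd
    exact ⟨h0 ▸ hn, by omega, by omega⟩
  · rintro ⟨hn, hd1, hd2⟩
    refine ⟨neg_mem (k • x : ↥leechLattice).2, h0.trans hn, ?_⟩
    simp only [List.map_cons, List.map_nil, List.cons.injEq, and_true, dotInt_neg_right]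
    omega

theorem exists_move {v w : ↥leechLattice} {k : ↥Co0} (hv : k • v = uB) (hw : k • w = wB)
    {x : ↥leechLattice} (hx : x ∈ cset v w) : ∃ m : ↥Co0, m • v = uB ∧ m • w = wB ∧ m • x = xB := by
  have hm := (mem_dotSet_iff (congrArg Subtype.val hv) (congrArg Subtype.val hw) x).mpr hx
  obtain ⟨g, hg, hgx⟩ := transOrb352.2 (-(k • x)) hm
  have hgU : g • uB = uB := hg bU (by simp) uB rfl
  have hgZ : g • (⟨vecOf bZ, bZ_mem⟩ : ↥leechLattice) = ⟨vecOf bZ, bZ_mem⟩ := hg bZ (by simp) _ rfl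
  have hW : wB = -((⟨vecOf bZ, bZ_mem⟩ : ↥leechLattice) + uB) := Subtype.ext (by
    show vecOf bW = -(vecOf bZ + vecOf bU)
    rw [base_facts.2.2.2.2.2.2.2]; abel)
  have hgW : g • wB = wB := by
    have hadd : g • ((⟨vecOf bZ, bZ_mem⟩ : ↥leechLattice) + uB)
        = g • (⟨vecOf bZ, bZ_mem⟩ : ↥leechLattice) + g • uB := g.2.1 _ _
    rw [hW, co0_neg, hadd, hgU, hgZ]
  refine ⟨g * k, by rw [mul_smul, hv, hgU], by rw [mul_smul, hw, hgW], Subtype.ext ?_⟩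
  rw [co0_neg, AddSubgroup.coe_neg] at hgx
  rw [mul_smul, ← neg_neg ((g • (k • x) : ↥leechLattice) : GolayPt → ℤ), hgx]
  exact base_facts.2.2.2.2.2.2.1

theorem card_base : Nat.card ↥(MulAction.stabilizer ↥Co0 uB ⊓ MulAction.stabilizer ↥Co0 wB
    ⊓ MulAction.stabilizer ↥Co0 xB) = 126000 := by
  haveI := finite_co0
  obtain ⟨hU, hW, hUW, hn, hd1, hd2, -, -⟩ := base_facts
  have hM := (Cfsg.Agent.S0405.result uB wB hU hW hUW).2
  set M := MulAction.stabilizer ↥Co0 uB ⊓ MulAction.stabilizer ↥Co0 wB with hMdef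
  have hx : xB ∈ cset uB wB := ⟨hn, hd1, hd2⟩
  have horb : MulAction.orbit ↥M xB = cset uB wB := by
    refine orbit_eq hx (fun g hg y hy => ⟨(co0_sqNorm g y).trans hy.1, ?_, ?_⟩) fun y hy => ?_
    · have h := co0_dot g uB y
      rw [hg.1] at h; exact h.trans hy.2.1
    · have h := co0_dot g wB y
      rw [hg.2] at h; exact h.trans hy.2.2
    · obtain ⟨m, h1, h2, h3⟩ := exists_move (one_smul ↥Co0 uB) (one_smul ↥Co0 wB) hy
      refine ⟨m⁻¹, inv_mem ⟨h1, h2⟩, ?_⟩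
      rw [inv_smul_eq_iff, h3]
  have hn352 : (cset uB wB).ncard = 352 := by
    rw [← transOrb352.1]
    refine Set.ncard_congr (fun x _ => -(((1 : ↥Co0) • x : ↥leechLattice) : GolayPt → ℤ))
      (fun x hx => (mem_dotSet_iff (k := 1) (congrArg Subtype.val (one_smul ↥Co0 uB))
        (congrArg Subtype.val (one_smul ↥Co0 wB)) x).mpr hx)
      (fun x y _ _ e => by
        simp only [one_smul] at e
        exact Subtype.ext (neg_injective e)) fun y hy => ?_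
    refine ⟨-⟨y, hy.1⟩, ?_, by simp⟩
    refine (mem_dotSet_iff (k := 1) (congrArg Subtype.val (one_smul ↥Co0 uB))
        (congrArg Subtype.val (one_smul ↥Co0 wB)) _).mp ?_
    simpa using hy
  have hst : MulAction.stabilizer ↥M xB = (MulAction.stabilizer ↥Co0 xB).subgroupOf M := rfl
  have h := (MulAction.stabilizer ↥M xB).card_mul_index
  rw [MulAction.index_stabilizer, horb, hn352, hM, hst, ← Subgroup.inf_subgroupOf_left,
    Nat.card_congr (Subgroup.subgroupOfEquivOfLe (inf_le_left : M ⊓ MulAction.stabilizer ↥Co0 xB ≤ M)).toEquiv] at h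
  omega

theorem stab_conj (m : ↥Co0) (v w x : ↥leechLattice) :
    (MulAction.stabilizer ↥Co0 v ⊓ MulAction.stabilizer ↥Co0 w ⊓ MulAction.stabilizer ↥Co0 x).map
        (MulAut.conj m).toMonoidHom =
      MulAction.stabilizer ↥Co0 (m • v) ⊓ MulAction.stabilizer ↥Co0 (m • w) ⊓ MulAction.stabilizer ↥Co0 (m • x) := by
  simp only [Subgroup.map_inf _ _ _ (show Function.Injective (MulAut.conj m).toMonoidHom from (MulAut.conj m).injective), MulAction.stabilizer_smul_eq_stabilizer_map_conj]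

/-- The Higman–Sims group acts transitively on 352 vectors, a set closed under x ↦ −w − x, with vector stabiliser isomorphic to PSU(3, 5). -/
theorem result (v w : ↥Cfsg.leechLattice) (hv : Cfsg.sqNorm (v : Cfsg.GolayPt → ℤ) = 48) (hw : Cfsg.sqNorm (w : Cfsg.GolayPt → ℤ) = 48) (hvw : Cfsg.dotInt (v : Cfsg.GolayPt → ℤ) (w : Cfsg.GolayPt → ℤ) = -32) (F : Type) [Field F] [Fintype F] (hF : Fintype.card F = 25) : {x : ↥Cfsg.leechLattice | Cfsg.sqNorm (x : Cfsg.GolayPt → ℤ) = 32 ∧ Cfsg.dotInt (v : Cfsg.GolayPt → ℤ) (x : Cfsg.GolayPt → ℤ) = 16 ∧ Cfsg.dotInt (w : Cfsg.GolayPt → ℤ) (x : Cfsg.GolayPt → ℤ) = -24}.ncard = 352 ∧ (∀ x ∈ {x : ↥Cfsg.leechLattice | Cfsg.sqNorm (x : Cfsg.GolayPt → ℤ) = 32 ∧ Cfsg.dotInt (v : Cfsg.GolayPt → ℤ) (x : Cfsg.GolayPt → ℤ) = 16 ∧ Cfsg.dotInt (w : Cfsg.GolayPt → ℤ) (x : Cfsg.GolayPt → ℤ) = -24}, -w - x ∈ {x : ↥Cfsg.leechLattice | Cfsg.sqNorm (x : Cfsg.GolayPt → ℤ)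 = 32 ∧ Cfsg.dotInt (v : Cfsg.GolayPt → ℤ) (x : Cfsg.GolayPt → ℤ) = 16 ∧ Cfsg.dotInt (w : Cfsg.GolayPt → ℤ) (x : Cfsg.GolayPt → ℤ) = -24}) ∧ (∀ x ∈ {x : ↥Cfsg.leechLattice | Cfsg.sqNorm (x : Cfsg.GolayPt → ℤ) = 32 ∧ Cfsg.dotInt (v : Cfsg.GolayPt → ℤ) (x : Cfsg.GolayPt → ℤ) = 16 ∧ Cfsg.dotInt (w : Cfsg.GolayPt → ℤ) (x : Cfsg.GolayPt → ℤ) = -24}, ∀ x' ∈ {x : ↥Cfsg.leechLattice | Cfsg.sqNorm (x : Cfsg.GolayPt → ℤ) = 32 ∧ Cfsg.dotInt (v : Cfsg.GolayPt → ℤ) (x : Cfsg.GolayPt → ℤ) = 16 ∧ Cfsg.dotInt (w : Cfsg.GolayPt → ℤ) (x : Cfsg.GolayPt → ℤ) = -24}, ∃ g : ↥Cfsg.Co0, g • v = v ∧ g • w = w ∧ g • x = x') ∧ ∀ x ∈ {x : ↥Cfsg.leechLattice | Cfsg.sqNorm (x : Cfsg.GolayPt → ℤ) = 32 ∧ Cfsg.dotInt (v : Cfsg.GolayPt → ℤ) (x : Cfsg.GolayPt → ℤ) = 16 ∧ Cfsg.dotInt (w : Cfsg.GolayPt → ℤ) (x : Cfsg.GolayPt → ℤ) = -24}, Nonempty (↥(MulAction.stabilizer ↥Cfsg.Co0 v ⊓ MulAction.stabilizer ↥Cfsg.Co0 w ⊓ MulAction.stabilizer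 ↥Cfsg.Co0 x) ≃* Cfsg.PSU 3 F 5) := by
  haveI := finite_co0
  obtain ⟨k, hk⟩ := moves_hs transDotNeg (by decide +kernel) v w hv hw hvw
  simp only [Moves, List.map_cons, List.map_nil, List.cons.injEq, and_true] at hk
  have hkv : k • v = uB := Subtype.ext hk.1
  have hkw : k • w = wB := Subtype.ext hk.2
  refine ⟨?_, ?_, ?_, ?_⟩
  · rw [← transOrb352.1]
    refine Set.ncard_congr (fun x _ => -((k • x : ↥leechLattice) : GolayPt → ℤ))
      (fun x hx => (mem_dotSet_iff hk.1 hk.2 x).mpr hx)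
      (fun x y _ _ e => smul_left_cancel k (Subtype.ext (neg_injective e))) fun y hy => ?_
    refine ⟨k⁻¹ • -⟨y, hy.1⟩, ?_, by simp [smul_inv_smul]⟩
    refine (mem_dotSet_iff hk.1 hk.2 _).mp ?_
    simpa [smul_inv_smul] using hy
  · rintro x ⟨hn, hd1, hd2⟩
    have hww : dotInt (w : GolayPt → ℤ) (w : GolayPt → ℤ) = 48 := (dotInt_self_norm w).trans hw
    have e : ((-w - x : ↥leechLattice) : GolayPt → ℤ) = -(w : GolayPt → ℤ) - (x : GolayPt → ℤ) := rfl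
    refine ⟨?_, ?_, ?_⟩ <;> rw [e]
    · have : sqNorm (-(w : GolayPt → ℤ) - (x : GolayPt → ℤ))
          = sqNorm (w : GolayPt → ℤ) + 2 * dotInt (w : GolayPt → ℤ) x + sqNorm (x : GolayPt → ℤ) := by
        simp only [sqNorm, dotInt, Pi.sub_apply, Pi.neg_apply, Finset.mul_sum, ← Finset.sum_add_distrib]
        exact Finset.sum_congr rfl fun q _ => by ring
      rw [this, hw, hd2, hn]; norm_num
    · rw [sub_eq_add_neg, ← neg_add, dotInt_neg_right]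
      have : dotInt (v : GolayPt → ℤ) ((w : GolayPt → ℤ) + (x : GolayPt → ℤ))
          = dotInt (v : GolayPt → ℤ) w + dotInt (v : GolayPt → ℤ) x := by
        simp [dotInt, mul_add, Finset.sum_add_distrib]
      rw [this, hvw, hd1]; norm_num
    · rw [sub_eq_add_neg, ← neg_add, dotInt_neg_right]
      have : dotInt (w : GolayPt → ℤ) ((w : GolayPt → ℤ) + (x : GolayPt → ℤ))
          = dotInt (w : GolayPt → ℤ) w + dotInt (w : GolayPt → ℤ) x := by
        simp [dotInt, mul_add, Finset.sum_add_distrib]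
      rw [this, hww, hd2]; norm_num
  · intro x hx y hy
    obtain ⟨m, h1, h2, h3⟩ := exists_move hkv hkw hx
    obtain ⟨m', h1', h2', h3'⟩ := exists_move hkv hkw hy
    refine ⟨m'⁻¹ * m, ?_, ?_, ?_⟩ <;> rw [mul_smul, inv_smul_eq_iff]
    · rw [h1, h1']
    · rw [h2, h2']
    · rw [h3, h3']
  · intro x hx
    obtain ⟨m, h1, h2, h3⟩ := exists_move hkv hkw hx
    have hmap := stab_conj m v w x
    rw [h1, h2, h3] at hmap
    obtain ⟨e⟩ := stab_iso card_base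
    obtain ⟨e'⟩ := Cfsg.Agent.Lib.Classical.U35.psu_iso (F := F) hF
    exact ⟨((Subgroup.equivMapOfInjective _ _ (MulAut.conj m).injective).trans
      ((MulEquiv.subgroupCongr hmap).trans e)).trans e'.symm⟩

end Cfsg.Agent.S1633
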