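import Cfsg.Statements.S1634
import Cfsg.Agent.Lib.Leech.Conway
import Cfsg.Agent.Lib.Leech.ConfigsS

set_option autoImplicit false
open Cfsg Cfsg.Agent.Lib.Leech

namespace Cfsg.Agent.S1634

/-- The McLaughlin group acts on 2025 points (minimal vectors orthogonal to v with customary inner product 2 with w) transitively with rank 4 and subdegrees 1, 330, 462, 1232. -/
theorem result (v w : ↥Cfsg.leechLattice) (hv : Cfsg.sqNorm (v : Cfsg.GolayPt → ℤ) = 32) (hw : Cfsg.sqNorm (w : Cfsg.GolayPt → ℤ) = 32) (hvw : Cfsg.dotInt (v : Cfsg.GolayPt → ℤ) (w : Cfsg.GolayPt → ℤ) = -8) : {x : ↥Cfsg.leechLattice | Cfsg.sqNorm (x : Cfsg.GolayPt → ℤ) = 32 ∧ Cfsg.dotInt (v : Cfsg.GolayPt → ℤ) (x : Cfsg.GolayPt → ℤ) = 0 ∧ Cfsg.dotInt (w : Cfsg.GolayPt → ℤ) (x : Cfsg.GolayPt → ℤ) = 16}.ncard = 2025 ∧ (∀ x ∈ {x : ↥Cfsg.leechLattice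 | Cfsg.sqNorm (x : Cfsg.GolayPt → ℤ) = 32 ∧ Cfsg.dotInt (v : Cfsg.GolayPt → ℤ) (x : Cfsg.GolayPt → ℤ) = 0 ∧ Cfsg.dotInt (w : Cfsg.GolayPt → ℤ) (x : Cfsg.GolayPt → ℤ) = 16}, ∀ x' ∈ {x : ↥Cfsg.leechLattice | Cfsg.sqNorm (x : Cfsg.GolayPt → ℤ) = 32 ∧ Cfsg.dotInt (v : Cfsg.GolayPt → ℤ) (x : Cfsg.GolayPt → ℤ) = 0 ∧ Cfsg.dotInt (w : Cfsg.GolayPt → ℤ) (x : Cfsg.GolayPt → ℤ) = 16}, ∃ g : ↥Cfsg.Co0, g • v = v ∧ g • w = w ∧ g • x = x') ∧ ∀ x ∈ {x : ↥Cfsg.leechLattice | Cfsg.sqNorm (x : Cfsg.GolayPt → ℤ) = 32 ∧ Cfsg.dotInt (v : Cfsg.GolayPt → ℤ) (x : Cfsg.GolayPt → ℤ) = 0 ∧ Cfsg.dotInt (w : Cfsg.GolayPt → ℤ) (x : Cfsg.GolayPt → ℤ) = 16}, ∃ y₁ ∈ {x : ↥Cfsg.leechLattice | Cfsg.sqNorm (x : Cfsg.GolayPt → ℤ) = 32 ∧ Cfsg.dotInt (v : Cfsg.GolayPt → ℤ) (x : Cfsg.GolayPt → ℤ) = 0 ∧ Cfsg.dotInt (w : Cfsg.GolayPt → ℤ) (x : Cfsg.GolayPt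 → ℤ) = 16}, ∃ y₂ ∈ {x : ↥Cfsg.leechLattice | Cfsg.sqNorm (x : Cfsg.GolayPt → ℤ) = 32 ∧ Cfsg.dotInt (v : Cfsg.GolayPt → ℤ) (x : Cfsg.GolayPt → ℤ) = 0 ∧ Cfsg.dotInt (w : Cfsg.GolayPt → ℤ) (x : Cfsg.GolayPt → ℤ) = 16}, ∃ y₃ ∈ {x : ↥Cfsg.leechLattice | Cfsg.sqNorm (x : Cfsg.GolayPt → ℤ) = 32 ∧ Cfsg.dotInt (v : Cfsg.GolayPt → ℤ) (x : Cfsg.GolayPt → ℤ) = 0 ∧ Cfsg.dotInt (w : Cfsg.GolayPt → ℤ) (x : Cfsg.GolayPt → ℤ) = 16}, (MulAction.orbit ↥(MulAction.stabilizer ↥Cfsg.Co0 v ⊓ MulAction.stabilizer ↥Cfsg.Co0 w ⊓ MulAction.stabilizer ↥Cfsg.Co0 x) y₁).ncard = 330 ∧ (MulAction.orbit ↥(MulAction.stabilizer ↥Cfsg.Co0 v ⊓ MulAction.stabilizer ↥Cfsg.Co0 w ⊓ MulAction.stabilizer ↥Cfsg.Co0 x) y₂).ncard = 462 ∧ (MulAction.orbit ↥(MulAction.stabilizer ↥Cfsg.Co0 v ⊓ MulAction.stabilizer ↥Cfsg.Co0 w ⊓ MulAction.stabilizer ↥Cfsg.Co0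 x) y₃).ncard = 1232 := by
  obtain ⟨k₁, hk₁⟩ := exists_co0_min v ⟨vecOf baseFour, baseFour_mem⟩ hv (by decide +kernel)
  have hd : dotInt (vecOf baseFour) ((k₁ • w : ↥leechLattice) : GolayPt → ℤ) = -8 := by
    rw [show vecOf baseFour = ((k₁ • v : ↥leechLattice) : GolayPt → ℤ) from (congrArg Subtype.val hk₁).symm,
      co0_dot]
    exact hvw
  obtain ⟨h, hh, hhw⟩ := exists_co0_eight ⟨vecOf baseFour, baseFour_mem⟩ (k₁ • w) ⟨vecOf bEight, bEight_mem⟩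
    (by decide +kernel) (by rw [co0_sqNorm]; exact hw) (by decide +kernel) hd baseFour_bEight
  have hk : Moves (h * k₁) [v, w] [baseFour, bEight] := by
    simp only [Moves, List.map_cons, List.map_nil, mul_smul, hk₁, hh, hhw]
  have hS : {x : ↥Cfsg.leechLattice | Cfsg.sqNorm (x : Cfsg.GolayPt → ℤ) = 32 ∧
      Cfsg.dotInt (v : Cfsg.GolayPt → ℤ) (x : Cfsg.GolayPt → ℤ) = 0 ∧
      Cfsg.dotInt (w : Cfsg.GolayPt → ℤ) (x : Cfsg.GolayPt → ℤ) = 16} = subSet [v, w] [0, 16] :=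
    Set.ext fun y => (subSet_two (u := v) (v := w)).symm
  rw [hS]
  refine ⟨transPerpTwo.ncard_sub hk, fun x hx y hy => ?_, fun x hx => ?_⟩
  · obtain ⟨g, hg, hgx⟩ := transPerpTwo.transitive hk hx hy
    exact ⟨g, hg v (by simp), hg w (by simp), hgx⟩
  obtain ⟨k, hk'⟩ := transPerpTwo.extend hk hx
  have hk' : Moves k [v, w, x] [baseFour, bEight, bQ] := hk'
  have f : ∀ d : ℤ, {y ∈ subSet [v, w] [0, 16] | dotInt (x : GolayPt → ℤ) (y : GolayPt → ℤ) = d}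
      = subSet [v, w, x] [0, 16, d] := fun d => subSet_fibre _ _ x d
  have orb : ∀ {d : ℤ} {t : List ℤ} {n : ℕ}, Trans [baseFour, bEight, bQ] [0, 16, d] t n → n ≠ 0 →
      ∃ y ∈ subSet [v, w] [0, 16], MulAction.orbit
        ↥(MulAction.stabilizer ↥Co0 v ⊓ MulAction.stabilizer ↥Co0 w ⊓ MulAction.stabilizer ↥Co0 x) y
          = subSet [v, w, x] [0, 16, d] := by
    intro d t n hT hn
    obtain ⟨y, hy⟩ := Set.nonempty_of_ncard_ne_zero (hT.ncard_sub hk' ▸ hn)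
    refine ⟨y, (show y ∈ {y ∈ subSet [v, w] [0, 16] | _} from (f d).symm ▸ hy).1, orbit_eq hy ?_ ?_⟩
    · intro g hg z hz
      refine subSet_smul (fun a ha => ?_) hz
      simp only [List.mem_cons, List.not_mem_nil, or_false] at ha
      rcases ha with rfl | rfl | rfl
      exacts [hg.1.1, hg.1.2, hg.2]
    · intro z hz
      obtain ⟨g, hg, hgz⟩ := hT.transitive hk' hy hz
      exact ⟨g, ⟨⟨hg v (by simp), hg w (by simp)⟩, hg x (by simp)⟩, hgz⟩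
  obtain ⟨y₁, hy₁, e₁⟩ := orb transOrb330 (by norm_num)
  obtain ⟨y₂, hy₂, e₂⟩ := orb transOrb462 (by norm_num)
  obtain ⟨y₃, hy₃, e₃⟩ := orb transOrb1232 (by norm_num)
  refine ⟨y₁, hy₁, y₂, hy₂, y₃, hy₃, ?_, ?_, ?_⟩
  · rw [e₁]; exact transOrb330.ncard_sub hk'
  · rw [e₂]; exact transOrb462.ncard_sub hk'
  · rw [e₃]; exact transOrb1232.ncard_sub hk'

end Cfsg.Agent.S1634
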