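import Cfsg.Statements.S1635
import Cfsg.Agent.Lib.M24Geom.Punctured
import Cfsg.Agent.Lib.ThreeTransp.AbstractGolay
import Cfsg.Agent.S0358
import Cfsg.Agent.S0362
-- import your own Cfsg.Agent.* helpers here

set_option autoImplicit false
open Cfsg

namespace Cfsg.Agent.S1635

open Cfsg Cfsg.Agent.Lib.Compute Cfsg.Agent.Lib.GolayOrbit Cfsg.Agent.Lib.M24Geom
open Cfsg.Agent.Lib.ThreeTransp.AbstractGolay

/-- The coordinate change to `Fin 24`. -/
def reindex : (GolayPt → ZMod 2) ≃ₗ[ZMod 2] (Fin 24 → ZMod 2) := LinearEquiv.funCongrLeft (ZMod 2) (ZMod 2) enc.symm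

theorem norm_reindex (v : GolayPt → ZMod 2) : hammingNorm (reindex v) = hammingNorm v := by
  simp only [hammingNorm]
  rw [← Finset.card_map enc.toEmbedding (s := Finset.univ.filter fun p => v p ≠ 0)]
  congr 1
  ext i
  simp [reindex, LinearEquiv.funCongrLeft, LinearMap.funLeft]
  exact Finset.mem_filter.trans (by simp)

theorem isGolay_reindex : IsGolay (golayCode.map reindex.toLinearMap) := by
  refine ⟨?_, ?_, ?_⟩
  · exact (LinearEquiv.finrank_map_eq reindex golayCode).trans Cfsg.Agent.S0358.result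
  · rintro _ ⟨v, hv, rfl⟩ _ ⟨w, hw, rfl⟩
    rw [← Cfsg.Agent.S0362.result v w hv hw]
    exact Equiv.sum_comp enc.symm fun p => v p * w p
  · rintro _ ⟨v, hv, rfl⟩ hne
    have h := hammingNorm_mem_golayCode hv
    rw [LinearEquiv.coe_coe, norm_reindex]
    have : hammingNorm v ≠ 0 := fun e => hne (by rw [hammingNorm_eq_zero.1 e, map_zero])
    omega

theorem light_eq (w : GolayPt → ZMod 2) :
    reindex '' {v | hammingNorm v ≤ 4 ∧ w - v ∈ golayCode} =
      {u | u - reindex w ∈ golayCode.map reindex.toLinearMap ∧ hammingNorm u ≤ 4} := by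
  ext u
  constructor
  · rintro ⟨v, ⟨hv, hc⟩, rfl⟩
    refine ⟨⟨v - w, ?_, map_sub _ _ _⟩, by rw [norm_reindex]; exact hv⟩
    rw [← neg_sub]
    exact neg_mem hc
  · rintro ⟨⟨c, hc, hce⟩, hu⟩
    have e : reindex (w + c) = u := by
      rw [map_add]
      rw [LinearEquiv.coe_coe] at hce
      rw [hce]
      abel
    refine ⟨w + c, ⟨by rw [← norm_reindex, e]; exact hu, ?_⟩, e⟩
    rw [sub_add_cancel_left]
    exact neg_mem hc



/-- Coset leaders of the length-24 code: a coset contains a unique word of weight ≤ 3, or else exactly six words of weight 4 and none lighter. -/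
theorem result (w : Cfsg.GolayPt → ZMod 2) : ({v : Cfsg.GolayPt → ZMod 2 | hammingNorm v ≤ 4 ∧ w - v ∈ Cfsg.golayCode}.ncard = 1 ∧ ∃ v : Cfsg.GolayPt → ZMod 2, hammingNorm v ≤ 3 ∧ w - v ∈ Cfsg.golayCode) ∨ ({v : Cfsg.GolayPt → ZMod 2 | hammingNorm v ≤ 4 ∧ w - v ∈ Cfsg.golayCode}.ncard = 6 ∧ ∀ v : Cfsg.GolayPt → ZMod 2, w - v ∈ Cfsg.golayCode → hammingNorm v ≤ 4 → hammingNorm v = 4) := by
  have hinj := (reindex).injective
  rcases coset_cases isGolay_reindex (reindex w) with ⟨u, hu, hu3⟩ | ⟨h6, h4⟩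
  · refine Or.inl ⟨?_, ?_⟩
    · rw [← Set.ncard_image_of_injective _ hinj, light_eq]
      exact (congrArg Set.ncard hu).trans (Set.ncard_singleton u)
    · obtain ⟨v, ⟨-, hv⟩, rfl⟩ : u ∈ reindex '' {v | hammingNorm v ≤ 4 ∧ w - v ∈ Cfsg.golayCode} := by
        rw [light_eq]
        exact (hu ▸ Set.mem_singleton u : u ∈ lightSet (Cfsg.golayCode.map reindex.toLinearMap) (reindex w))
      exact ⟨v, by rwa [norm_reindex] at hu3, hv⟩
  · refine Or.inr ⟨?_, fun v hv hv4 => ?_⟩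
    · rw [← Set.ncard_image_of_injective _ hinj, light_eq]
      exact h6
    · rw [← norm_reindex]
      refine (h4 _ ?_).1
      have : reindex v ∈ reindex '' {v | hammingNorm v ≤ 4 ∧ w - v ∈ Cfsg.golayCode} := ⟨v, ⟨hv4, hv⟩, rfl⟩
      rw [light_eq] at this
      exact this

end Cfsg.Agent.S1635
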