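import Cfsg.Statements.S1636
import Cfsg.Agent.Lib.M24Geom.Punctured
-- import your own Cfsg.Agent.* helpers here

set_option autoImplicit false
open Cfsg

namespace Cfsg.Agent.S1636

open Cfsg Cfsg.Agent.Lib.Compute Cfsg.Agent.Lib.GolayOrbit Cfsg.Agent.Lib.M24Geom
theorem counts : [7, 8, 11, 12, 15, 16].map (fun k => codeList.countP fun m => pop23 m == k) =
      [253, 506, 1288, 1288, 506, 253] ∧
    codeList.all (fun m => decide (7 ≤ pop23 m) || decide (pop23 m = 0)) = true := by decide +kernel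



/-- The punctured length-23 code has weight distribution 0^1 7^253 8^506 11^1288 12^1288 15^506 16^253 23^1. -/
theorem result : {u : ZMod 23 → ZMod 2 | ∃ w ∈ Cfsg.golayCode, ∀ x : ZMod 23, u x = w (some x)}.ncard = 4096 ∧ {u : ZMod 23 → ZMod 2 | u ∈ {u : ZMod 23 → ZMod 2 | ∃ w ∈ Cfsg.golayCode, ∀ x : ZMod 23, u x = w (some x)} ∧ hammingNorm u = 7}.ncard = 253 ∧ {u : ZMod 23 → ZMod 2 | u ∈ {u : ZMod 23 → ZMod 2 | ∃ w ∈ Cfsg.golayCode, ∀ x : ZMod 23, u x = w (some x)} ∧ hammingNorm u = 8}.ncard = 506 ∧ {u : ZMod 23 → ZMod 2 | u ∈ {u : ZMod 23 → ZMod 2 | ∃ w ∈ Cfsg.golayCode, ∀ x : ZMod 23, u x = w (some x)} ∧ hammingNorm u = 11}.ncard = 1288 ∧ {u : ZMod 23 → ZMod 2 | u ∈ {u : ZMod 23 → ZMod 2 | ∃ w ∈ Cfsg.golayCode, ∀ x : ZMod 23, u x = w (some x)} ∧ hammingNorm u = 12}.ncard = 1288 ∧ {u : ZMod 23 → ZMod 2 | u ∈ {u : ZMod 23 → ZMod 2 | ∃ w ∈ Cfsg.golayCode, ∀ x : ZMod 23, u x = w (some x)} ∧ hammingNorm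 u = 15}.ncard = 506 ∧ {u : ZMod 23 → ZMod 2 | u ∈ {u : ZMod 23 → ZMod 2 | ∃ w ∈ Cfsg.golayCode, ∀ x : ZMod 23, u x = w (some x)} ∧ hammingNorm u = 16}.ncard = 253 ∧ ∀ u ∈ {u : ZMod 23 → ZMod 2 | ∃ w ∈ Cfsg.golayCode, ∀ x : ZMod 23, u x = w (some x)}, u ≠ 0 → 7 ≤ hammingNorm u := by
  obtain ⟨hc, hmin⟩ := counts
  simp only [List.map_cons, List.map_nil, List.cons.injEq, and_true] at hc
  obtain ⟨h7, h8, h11, h12, h15, h16⟩ := hc
  refine ⟨?_, by rw [ncard_weight, h7], by rw [ncard_weight, h8], by rw [ncard_weight, h11],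
    by rw [ncard_weight, h12], by rw [ncard_weight, h15], by rw [ncard_weight, h16], fun u hu hne => ?_⟩
  · rw [show {u : ZMod 23 → ZMod 2 | ∃ w ∈ Cfsg.golayCode, ∀ x : ZMod 23, u x = w (some x)} =
      ((codeList.toFinset.image fun m => punct (wordOf m)) : Set (ZMod 23 → ZMod 2)) from
        Set.ext fun u => mem_punct_iff.trans Finset.mem_coe.symm, Set.ncard_coe_finset,
      Finset.card_image_of_injOn injOn_punct,
      List.toFinset_card_of_nodup (nodup_of_incr codeList_incr.1), codeList_incr.2]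
  · obtain ⟨m, hm, rfl⟩ := Finset.mem_image.1 (mem_punct_iff.1 hu)
    have h := List.all_eq_true.1 hmin m (List.mem_toFinset.1 hm)
    simp only [Bool.or_eq_true, decide_eq_true_eq] at h
    rw [← hammingNorm_ne_zero_iff, pop23_spec] at hne
    rw [pop23_spec]
    omega

end Cfsg.Agent.S1636
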