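import Cfsg.Statements.S1637
import Cfsg.Agent.Lib.M24Geom.Punctured
import Cfsg.Agent.S1635
-- import your own Cfsg.Agent.* helpers here

set_option autoImplicit false
open Cfsg

namespace Cfsg.Agent.S1637

open Cfsg Cfsg.Agent.Lib.Compute Cfsg.Agent.Lib.GolayOrbit Cfsg.Agent.Lib.M24Geom
theorem parity (w : GolayPt → ZMod 2) : ((hammingNorm w : ℕ) : ZMod 2) = ∑ p, w p := by
  have h : ∀ x : ZMod 2, x = if x = 0 then 0 else 1 := by decide
  rw [hammingNorm, Finset.card_filter, Nat.cast_sum]
  refine Finset.sum_congr rfl fun p _ => ?_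
  rw [apply_ite (Nat.cast : ℕ → ZMod 2)]
  rcases zmod2_cases (w p) with e | e <;> simp [e]



/-- The punctured length-23 code is a perfect 3-error-correcting code: each word of length 23 is within distance 3 of exactly one codeword. -/
theorem result (u : ZMod 23 → ZMod 2) : ∃! c : ZMod 23 → ZMod 2, c ∈ {u : ZMod 23 → ZMod 2 | ∃ w ∈ Cfsg.golayCode, ∀ x : ZMod 23, u x = w (some x)} ∧ hammingDist u c ≤ 3 := by
  -- the extension of `u` with odd weight
  set w : Cfsg.GolayPt → ZMod 2 := fun p => Option.elim p (1 + ∑ x, u x) u with hw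
  have hodd : ∑ p, w p = 1 := by
    rw [Fintype.sum_option]
    simp only [hw, Option.elim]
    rw [add_assoc, CharTwo.add_self_eq_zero, add_zero]
  have hpar : ∀ v : Cfsg.GolayPt → ZMod 2, w - v ∈ Cfsg.golayCode → hammingNorm v ≠ 4 := by
    intro v hv h4
    have hsum : ∑ p, (w - v) p = 0 := by
      rw [← parity]
      rcases hammingNorm_mem_golayCode hv with e | e | e | e | e <;> rw [e] <;> decide
    simp only [Pi.sub_apply, Finset.sum_sub_distrib, hodd, ← parity, h4] at hsum
    exact absurd hsum (by decide)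
  obtain ⟨v, hv, hvc⟩ : ∃ v : Cfsg.GolayPt → ZMod 2, hammingNorm v ≤ 3 ∧ w - v ∈ Cfsg.golayCode := by
    rcases Cfsg.Agent.S1635.result w with h | ⟨h6, h4⟩
    · exact h.2
    · obtain ⟨v, hv, hvc⟩ := Set.nonempty_of_ncard_ne_zero (show _ ≠ 0 by rw [h6]; norm_num)
      exact absurd (h4 v hvc hv) (hpar v hvc)
  have hdist : hammingDist u (punct (w - v)) ≤ 3 := by
    rw [hammingDist_eq_hammingNorm, show -u + punct (w - v) = -punct v from ?_]
    · have h1 : hammingNorm (-punct v) = hammingNorm (punct v) := by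
        rw [show -punct v = punct v from funext fun x => CharTwo.neg_eq _]
      rw [h1]
      have := hammingNorm_split v
      omega
    · funext x
      simp [punct, hw, sub_eq_add_neg, ← add_assoc, CharTwo.add_self_eq_zero]
  refine ⟨punct (w - v), ⟨⟨w - v, hvc, fun x => rfl⟩, hdist⟩, ?_⟩
  rintro c ⟨⟨z, hz, hcz⟩, hc⟩
  have hc' : c = punct z := funext hcz
  subst hc'
  have hd : hammingDist (punct z) (punct (w - v)) ≤ 6 :=
    (hammingDist_triangle_left _ _ u).trans (by omega)
  rw [hammingDist_eq_hammingNorm] at hd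
  have hzv : -z + (w - v) ∈ Cfsg.golayCode := add_mem (neg_mem hz) hvc
  have hs := hammingNorm_split (-z + (w - v))
  have hp : punct (-z + (w - v)) = -punct z + punct (w - v) := rfl
  rw [hp] at hs
  have h8 := hammingNorm_mem_golayCode hzv
  have : hammingNorm (-z + (w - v)) = 0 := by split at hs <;> omega
  rw [hammingNorm_eq_zero, neg_add_eq_zero] at this
  rw [this]

end Cfsg.Agent.S1637
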