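import Cfsg.Statements.S1638
import Cfsg.Agent.Lib.Golay.SmallSets

set_option autoImplicit false
open scoped Pointwise
open Cfsg

namespace Cfsg.Agent.S1638

open Cfsg.Agent.Lib.Compute Cfsg.Agent.Lib.GolayOrbit

theorem tree_complete : pairTree.allNodes
    (fun k _ _ _ => !(k &&& 3 == 0) || pointPairTree.mem k) = true := by decide +kernel

theorem tree_sound : pointPairTree.allNodes
    (fun k _ _ _ => pairTree.mem k && k &&& 3 == 0) = true := by decide +kernel

theorem classes : pointPairTree.allNodes (fun k _ _ _ => k == 12 ||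
    (popN (k &&& 12) == 1 && pointPairOrb2.mem k) ||
    (k &&& 12 == 0 && (if tetradOctads.any (fun m => m &&& k == k) then pointPairOrb1.mem k
      else pointPairOrb3.mem k))) = true := by decide +kernel

theorem classes_sub : (pointPairOrb1.allNodes (fun k _ _ _ => pointPairTree.mem k && k &&& 12 == 0 &&
    tetradOctads.any (fun m => m &&& k == k)) && pointPairOrb3.allNodes (fun k _ _ _ =>
    pointPairTree.mem k && k &&& 12 == 0 && !tetradOctads.any (fun m => m &&& k == k))) = true := by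
  decide +kernel

/-- The condition of lying in an octad with the base configuration. -/
theorem inOct_iff {k : ℕ} (hk : k < 2 ^ 24) :
    (∃ o ∈ Cfsg.octads, pointCoding.dec pt0 ∈ o ∧ pointCoding.dec pt1 ∈ o ∧
      setOf24 ptPair0 ∪ setOf24 k ⊆ o) ↔ tetradOctads.any (fun m => m &&& k == k) = true := by
  rw [← exists_octad_superset tetradOctads_eq (by norm_num) hk]
  have h15 : setOf24 15 = {pointCoding.dec pt0, pointCoding.dec pt1} ∪ setOf24 ptPair0 := by
    rw [show pointCoding.dec pt0 = Cfsg.Agent.Lib.Compute.enc.symm 0 from rfl,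
      show pointCoding.dec pt1 = Cfsg.Agent.Lib.Compute.enc.symm 1 from rfl, Finset.insert_eq,
      ← setOf24_singleton, ← setOf24_singleton, ← setOf24_or, ← setOf24_or]
    congr 1
  constructor
  · rintro ⟨o, ho, h0, h1, h2⟩
    refine ⟨o, ho, ?_⟩
    rw [h15]
    simp only [Finset.union_subset_iff, Finset.insert_subset_iff, Finset.singleton_subset_iff] at h2 ⊢
    exact ⟨⟨⟨h0, h1⟩, h2.1⟩, h2.2⟩
  · rintro ⟨o, ho, h⟩
    rw [h15] at h
    simp only [Finset.union_subset_iff, Finset.insert_subset_iff, Finset.singleton_subset_iff] at h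
    exact ⟨o, ho, h.1.1.1, h.1.1.2, Finset.union_subset h.1.2 h.2⟩

theorem pt_mem_setOf24 (k : ℕ) :
    k &&& 3 = 0 ↔ pointCoding.dec pt0 ∉ setOf24 k ∧ pointCoding.dec pt1 ∉ setOf24 k := by
  have h3 : setOf24 3 = {pointCoding.dec pt0, pointCoding.dec pt1} := by
    rw [show pointCoding.dec pt0 = Cfsg.Agent.Lib.Compute.enc.symm 0 from rfl,
      show pointCoding.dec pt1 = Cfsg.Agent.Lib.Compute.enc.symm 1 from rfl, Finset.insert_eq,
      ← setOf24_singleton, ← setOf24_singleton, ← setOf24_or]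
    congr 1
  rw [Nat.and_comm, ← disjoint_setOf24 (a := 3) (b := k) (by norm_num), h3]
  simp

theorem exists_key {t : Finset Cfsg.GolayPt} (ht : t.card = 2 ∧ pointCoding.dec pt0 ∉ t ∧
    pointCoding.dec pt1 ∉ t) : ∃ k ∈ pointPairTree.keys, setOf24 k = t := by
  obtain ⟨k, hk, rfl⟩ := exists_small_key pairCert_stab (s := t) (by rw [ht.1, card_setOf24_two])
    (by omega)
  obtain ⟨a, g, d, hn⟩ := OTree.mem_keys_iff.1 hk
  have := OTree.of_allNodes tree_complete hn
  simp only [(beq_iff_eq).2 ((pt_mem_setOf24 k).2 ht.2), Bool.not_true, Bool.false_or] at this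
  exact ⟨k, OTree.mem_keys_of_mem this, rfl⟩

theorem key_facts {k : ℕ} (hk : k ∈ pointPairTree.keys) :
    ((setOf24 k).card = 2 ∧ pointCoding.dec pt0 ∉ setOf24 k ∧ pointCoding.dec pt1 ∉ setOf24 k) ∧
      k < 2 ^ 24 := by
  obtain ⟨a, g, d, hn⟩ := OTree.mem_keys_iff.1 hk
  have := OTree.of_allNodes tree_sound hn
  simp only [Bool.and_eq_true, beq_iff_eq] at this
  have h := OTree.mem_keys_of_mem this.1
  exact ⟨⟨by rw [card_of_key pairCert_stab h, card_setOf24_two], (pt_mem_setOf24 k).1 this.2⟩,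
    lt_of_tree_key m24Gens_gensFor pairCert_stab.orb h⟩

/-- The base configuration's classes of disjoint pairs. -/
theorem base_set_eq (b : Bool) :
    {t : Finset Cfsg.GolayPt | (t.card = 2 ∧ pointCoding.dec pt0 ∉ t ∧ pointCoding.dec pt1 ∉ t) ∧
      Disjoint (setOf24 ptPair0) t ∧ ((∃ o ∈ Cfsg.octads, pointCoding.dec pt0 ∈ o ∧
        pointCoding.dec pt1 ∈ o ∧ setOf24 ptPair0 ∪ t ⊆ o) ↔ b = true)} =
    setOf24 '' {k | k ∈ (if b then pointPairOrb1 else pointPairOrb3).keys} := by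
  ext t
  constructor
  · rintro ⟨ht, hd, hb⟩
    obtain ⟨k, hk, rfl⟩ := exists_key ht
    obtain ⟨a, g, d, hn⟩ := OTree.mem_keys_iff.1 hk
    have h12 : k &&& 12 = 0 := by
      have h := (disjoint_setOf24 (a := ptPair0) (b := k) (by decide +kernel)).1 hd
      rwa [Nat.and_comm]
    rw [inOct_iff (key_facts hk).2] at hb
    have := OTree.of_allNodes classes hn
    have hk12 : (k == 12) = false := by
      rw [beq_eq_false_iff_ne]; rintro rfl; simp at h12
    rw [h12, hk12] at this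
    refine ⟨k, ?_, rfl⟩
    simp only [show (popN 0 == 1) = false from rfl, Bool.false_and, Bool.false_or, beq_self_eq_true,
      Bool.true_and] at this
    cases b <;> simp_all [OTree.mem_keys_of_mem]
  · rintro ⟨k, hk, rfl⟩
    have hboth := classes_sub
    simp only [Bool.and_eq_true] at hboth
    obtain ⟨a, g, d, hn⟩ := OTree.mem_keys_iff.1 hk
    have hfact : pointPairTree.mem k = true ∧ k &&& 12 = 0 ∧
        (tetradOctads.any (fun m => m &&& k == k) = true ↔ b = true) := by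
      cases b
      · have := OTree.of_allNodes hboth.2 hn
        simp only [Bool.and_eq_true, Bool.not_eq_true', beq_iff_eq] at this
        exact ⟨this.1.1, this.1.2, by simp [this.2]⟩
      · have := OTree.of_allNodes hboth.1 hn
        simp only [Bool.and_eq_true, beq_iff_eq] at this
        exact ⟨this.1.1, this.1.2, by simp [this.2]⟩
    obtain ⟨h1, h2, h3⟩ := hfact
    obtain ⟨hf, hlt⟩ := key_facts (OTree.mem_keys_of_mem h1)
    refine ⟨hf, (disjoint_setOf24 (by decide +kernel)).2 (by rw [Nat.and_comm]; exact h2), ?_⟩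
    rw [inOct_iff hlt]
    exact h3

/-- Pairs with equal invariants lie in the same base class. -/
theorem base_rel {t t' : Finset Cfsg.GolayPt}
    (ht : t.card = 2 ∧ pointCoding.dec pt0 ∉ t ∧ pointCoding.dec pt1 ∉ t)
    (ht' : t'.card = 2 ∧ pointCoding.dec pt0 ∉ t' ∧ pointCoding.dec pt1 ∉ t')
    (hne : t ≠ setOf24 ptPair0) (hne' : t' ≠ setOf24 ptPair0)
    (hc : (setOf24 ptPair0 ∩ t).card = (setOf24 ptPair0 ∩ t').card)
    (hiff : (∃ o ∈ Cfsg.octads, pointCoding.dec pt0 ∈ o ∧ pointCoding.dec pt1 ∈ o ∧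
        setOf24 ptPair0 ∪ t ⊆ o) ↔ ∃ o ∈ Cfsg.octads, pointCoding.dec pt0 ∈ o ∧
        pointCoding.dec pt1 ∈ o ∧ setOf24 ptPair0 ∪ t' ⊆ o) :
    ∃ τ ∈ gpGrp pointPairCert, τ • t = t' := by
  obtain ⟨k, hk, rfl⟩ := exists_key ht
  obtain ⟨k', hk', rfl⟩ := exists_key ht'
  obtain ⟨a, g, d, hn⟩ := OTree.mem_keys_iff.1 hk
  obtain ⟨a', g', d', hn'⟩ := OTree.mem_keys_iff.1 hk'
  have h1 := OTree.of_allNodes classes hn
  have h2 := OTree.of_allNodes classes hn'
  rw [Finset.inter_comm, card_setOf24_and, Finset.inter_comm, card_setOf24_and] at hc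
  rw [inOct_iff (key_facts hk).2, inOct_iff (key_facts hk').2] at hiff
  have e1 : (k == 12) = false := beq_eq_false_iff_ne.2 fun e => hne (by rw [e]; rfl)
  have e2 : (k' == 12) = false := beq_eq_false_iff_ne.2 fun e => hne' (by rw [e]; rfl)
  rw [e1, Bool.false_or] at h1
  rw [e2, Bool.false_or] at h2
  simp only [Bool.or_eq_true, Bool.and_eq_true, beq_iff_eq] at h1 h2
  have hz : ∀ x : ℕ, x &&& 12 = 0 → popN (x &&& 12) = 0 := fun x hx => by rw [hx]; rfl
  rcases h1 with ⟨c1, m1⟩ | ⟨z1, m1⟩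
  · rcases h2 with ⟨-, m2⟩ | ⟨z2, -⟩
    · exact exists_smul_eq maskCoding pointPairCert_gensFor pointPairOrb2_ok m1 m2
    · rw [show (ptPair0 : ℕ) = 12 from rfl, hz k' z2] at hc; omega
  · rcases h2 with ⟨c2, -⟩ | ⟨z2, m2⟩
    · rw [show (ptPair0 : ℕ) = 12 from rfl, hz k z1] at hc; omega
    · cases hb : tetradOctads.any (fun m => m &&& k == k)
      · rw [hb] at m1 hiff
        have hb' : tetradOctads.any (fun m => m &&& k' == k') = false := by simpa using hiff
        rw [hb'] at m2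
        exact exists_smul_eq maskCoding pointPairCert_gensFor pointPairOrb3_ok m1 m2
      · rw [hb] at m1 hiff
        have hb' : tetradOctads.any (fun m => m &&& k' == k') = true := by simpa using hiff
        rw [hb'] at m2
        exact exists_smul_eq maskCoding pointPairCert_gensFor pointPairOrb1_ok m1 m2

/-- Fix two points p ≠ q and a pair s of two further points. Among the pairs avoiding p, q and disjoint from s, exactly 30 lie in an octad together with p, q and s and exactly 160 do not; and any two pairs other than s that meet s in equally many points and agree on that octad property are carried to one another by an element of the group of the length-24 code fixing p, q and s. -/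
theorem result (p q : Cfsg.GolayPt) (hpq : p ≠ q) (s : Finset Cfsg.GolayPt) (hs : (s.card = 2 ∧ p ∉ s ∧ q ∉ s)) : {t : Finset Cfsg.GolayPt | (t.card = 2 ∧ p ∉ t ∧ q ∉ t) ∧ Disjoint s t ∧ (∃ o ∈ Cfsg.octads, p ∈ o ∧ q ∈ o ∧ s ∪ t ⊆ o)}.ncard = 30 ∧ {t : Finset Cfsg.GolayPt | (t.card = 2 ∧ p ∉ t ∧ q ∉ t) ∧ Disjoint s t ∧ ¬ (∃ o ∈ Cfsg.octads, p ∈ o ∧ q ∈ o ∧ s ∪ t ⊆ o)}.ncard = 160 ∧ ∀ t t' : Finset Cfsg.GolayPt, (t.card = 2 ∧ p ∉ t ∧ q ∉ t) → (t'.card = 2 ∧ p ∉ t' ∧ q ∉ t') → t ≠ s → t' ≠ s → (s ∩ t).card = (s ∩ t').card → ((∃ o ∈ Cfsg.octads, p ∈ o ∧ q ∈ o ∧ s ∪ t ⊆ o) ↔ (∃ o ∈ Cfsg.octads, p ∈ o ∧ q ∈ o ∧ s ∪ t' ⊆ o)) → ∃ g : Equiv.Perm Cfsg.GolayPt, g ∈ Cfsg.M24 ∧ g p = p ∧ g q = q ∧ g • s = s ∧ g • t = t' := by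
  obtain ⟨g, hg, hgp, hgq, hgs⟩ := exists_to_pointPair hpq hs.1 hs.2.1 hs.2.2
  have hA : ∀ t : Finset Cfsg.GolayPt, (t.card = 2 ∧ p ∉ t ∧ q ∉ t) ↔ ((g • t).card = 2 ∧
      pointCoding.dec pt0 ∉ g • t ∧ pointCoding.dec pt1 ∉ g • t) := by
    intro t
    rw [Finset.card_smul_finset, ← hgp, ← hgq, smul_mem_smul_pt, smul_mem_smul_pt]
  have hO : ∀ t : Finset Cfsg.GolayPt, (∃ o ∈ Cfsg.octads, p ∈ o ∧ q ∈ o ∧ s ∪ t ⊆ o) ↔
      ∃ o ∈ Cfsg.octads, pointCoding.dec pt0 ∈ o ∧ pointCoding.dec pt1 ∈ o ∧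
        setOf24 ptPair0 ∪ g • t ⊆ o := by
    intro t
    constructor
    · rintro ⟨o, ho, h1, h2, h3⟩
      refine ⟨g • o, (mem_octads_smul_iff hg o).2 ho, ?_, ?_, ?_⟩
      · rw [← hgp, smul_mem_smul_pt]; exact h1
      · rw [← hgq, smul_mem_smul_pt]; exact h2
      · rw [← hgs, ← Finset.smul_finset_union]; exact Finset.smul_finset_subset_smul_finset_iff.2 h3
    · rintro ⟨o, ho, h1, h2, h3⟩
      refine ⟨g⁻¹ • o, (mem_octads_smul_iff (inv_mem hg) o).2 ho, ?_, ?_, ?_⟩
      · rw [← hgp] at h1; rw [← smul_mem_smul_pt g, smul_inv_smul]; exact h1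
      · rw [← hgq] at h2; rw [← smul_mem_smul_pt g, smul_inv_smul]; exact h2
      · rw [← hgs, ← Finset.smul_finset_union] at h3
        exact Finset.subset_smul_finset_iff.2 (by rwa [inv_inv])
  have hD : ∀ t : Finset Cfsg.GolayPt, Disjoint s t ↔ Disjoint (setOf24 ptPair0) (g • t) := by
    intro t
    rw [← hgs, Finset.disjoint_iff_inter_eq_empty, Finset.disjoint_iff_inter_eq_empty,
      ← Finset.smul_finset_inter, Finset.smul_finset_eq_empty]
  refine ⟨?_, ?_, ?_⟩
  · rw [ncard_transport g _ (fun V => V ∈ setOf24 '' {k | k ∈ pointPairOrb1.keys}) (fun t => by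
      have h := Set.ext_iff.1 (base_set_eq true) (g • t)
      simp only [if_true, Set.mem_setOf_eq, iff_true] at h
      rw [← h, hA, hD, hO])]
    exact (ncard_dec_mask pointPairCert_gensFor pointPairOrb1_ok pointPairOrb1_incr).trans
      pointPairOrb1_length
  · rw [ncard_transport g _ (fun V => V ∈ setOf24 '' {k | k ∈ pointPairOrb3.keys}) (fun t => by
      have h := Set.ext_iff.1 (base_set_eq false) (g • t)
      simp only [Bool.false_eq_true, if_false, Set.mem_setOf_eq, iff_false] at h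
      rw [← h, hA, hD, hO])]
    exact (ncard_dec_mask pointPairCert_gensFor pointPairOrb3_ok pointPairOrb3_incr).trans
      pointPairOrb3_length
  · intro t t' ht ht' hne hne' hc hiff
    obtain ⟨τ, hτ, hτe⟩ := base_rel ((hA t).1 ht) ((hA t').1 ht')
      (fun e => hne (MulAction.injective g (e.trans hgs.symm)))
      (fun e => hne' (MulAction.injective g (e.trans hgs.symm)))
      (by rw [← hgs, card_inter_smul, card_inter_smul, hc]) (by rw [← hO, ← hO]; exact hiff)
    obtain ⟨hτM, h0, h1, h2⟩ := mem_pointPairCert.1 hτ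
    refine ⟨g⁻¹ * τ * g, mul_mem (mul_mem (inv_mem hg) hτM) hg, ?_, ?_, ?_, ?_⟩
    · simp only [Equiv.Perm.mul_apply]
      rw [hgp, h0, ← hgp, Equiv.Perm.inv_def, Equiv.symm_apply_apply]
    · simp only [Equiv.Perm.mul_apply]
      rw [hgq, h1, ← hgq, Equiv.Perm.inv_def, Equiv.symm_apply_apply]
    · rw [mul_smul, mul_smul, hgs, h2, ← hgs, inv_smul_smul]
    · rw [mul_smul, mul_smul, hτe, inv_smul_smul]

end Cfsg.Agent.S1638
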