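import Cfsg.Statements.S1639
import Cfsg.Agent.Lib.Golay.Pointed

set_option autoImplicit false
open scoped Pointwise
open Cfsg

namespace Cfsg.Agent.S1639

open Cfsg.Agent.Lib.Compute Cfsg.Agent.Lib.GolayOrbit

/-- The point stabiliser acts on the 1288 dodecads through the point with rank 4 and subdegrees 1, 165, 330, 792, distinguished by intersection 4, 8, 6 with the fixed dodecad. -/
theorem result (x : Cfsg.GolayPt) (d : Finset Cfsg.GolayPt) (hd : d ∈ Cfsg.dodecads) (hx : x ∈ d) : {d' : Finset Cfsg.GolayPt | d' ∈ Cfsg.dodecads ∧ x ∈ d' ∧ (d ∩ d').card = 4}.ncard = 165 ∧ {d' : Finset Cfsg.GolayPt | d' ∈ Cfsg.dodecads ∧ x ∈ d' ∧ (d ∩ d').card = 8}.ncard = 330 ∧ {d' : Finset Cfsg.GolayPt | d' ∈ Cfsg.dodecads ∧ x ∈ d' ∧ (d ∩ d').card = 6}.ncard = 792 ∧ ∀ d' d'' : Finset Cfsg.GolayPt, d' ∈ Cfsg.dodecads → d'' ∈ Cfsg.dodecads → x ∈ d' → x ∈ d'' → (d ∩ d').card = (d ∩ d'').card → ∃ g : Equiv.Perm Cfsg.GolayPt, g ∈ Cfsg.M24 ∧ g x = x ∧ g • d = d ∧ g • d'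 = d'' := by
  obtain ⟨g, hg, hgo, hgx⟩ := exists_to_dodPt hd hx
  refine ⟨?_, ?_, ?_, ?_⟩
  · rw [ncard_transport g _ (fun y => y ∈ Cfsg.dodecads ∧ pointCoding.dec dodIn0 ∈ y ∧ (baseDodecad ∩ y).card = 4) (fun x => by
        rw [mem_dodecads_smul_iff hg, ← hgx, smul_mem_smul_pt, ← hgo, card_inter_smul]),
      ncard_dodecads_filter (fun y => pointCoding.dec dodIn0 ∈ y ∧ (baseDodecad ∩ y).card = 4) (fun m => m.testBit dodIn0 && popN (m &&& dod0) == 4) (fun m _ => by
        simp [dec_mem_setOf24, show dodIn0 < 24 by decide +kernel, baseDodecad, card_setOf24_and, Nat.and_comm dod0, and_assoc])]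
    decide +kernel
  · rw [ncard_transport g _ (fun y => y ∈ Cfsg.dodecads ∧ pointCoding.dec dodIn0 ∈ y ∧ (baseDodecad ∩ y).card = 8) (fun x => by
        rw [mem_dodecads_smul_iff hg, ← hgx, smul_mem_smul_pt, ← hgo, card_inter_smul]),
      ncard_dodecads_filter (fun y => pointCoding.dec dodIn0 ∈ y ∧ (baseDodecad ∩ y).card = 8) (fun m => m.testBit dodIn0 && popN (m &&& dod0) == 8) (fun m _ => by
        simp [dec_mem_setOf24, show dodIn0 < 24 by decide +kernel, baseDodecad, card_setOf24_and, Nat.and_comm dod0, and_assoc])]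
    decide +kernel
  · rw [ncard_transport g _ (fun y => y ∈ Cfsg.dodecads ∧ pointCoding.dec dodIn0 ∈ y ∧ (baseDodecad ∩ y).card = 6) (fun x => by
        rw [mem_dodecads_smul_iff hg, ← hgx, smul_mem_smul_pt, ← hgo, card_inter_smul]),
      ncard_dodecads_filter (fun y => pointCoding.dec dodIn0 ∈ y ∧ (baseDodecad ∩ y).card = 6) (fun m => m.testBit dodIn0 && popN (m &&& dod0) == 6) (fun m _ => by
        simp [dec_mem_setOf24, show dodIn0 < 24 by decide +kernel, baseDodecad, card_setOf24_and, Nat.and_comm dod0, and_assoc])]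
    decide +kernel
  · intro d' d'' ha hb ha' hb' hc
    obtain ⟨τ, hτ, hτe⟩ := dodecad_class_rel dodPtCert_gensFor (q := fun m => m.testBit dodIn0) dodPtParts_ok
      (by decide +kernel) (by decide +kernel) (smul_mem_dodecads hg ha) (smul_mem_dodecads hg hb)
      (fun m _ hme => by
        try simp only [Bool.and_eq_true, Bool.not_eq_true', ← Bool.not_eq_true]
        simp only [← dec_mem_setOf24 (m := m) (show dodIn0 < 24 by decide +kernel), hme, ← hgx, smul_mem_smul_pt]
        exact ha')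
      (fun m _ hme => by
        try simp only [Bool.and_eq_true, Bool.not_eq_true', ← Bool.not_eq_true]
        simp only [← dec_mem_setOf24 (m := m) (show dodIn0 < 24 by decide +kernel), hme, ← hgx, smul_mem_smul_pt]
        exact hb')
      (by rw [← hgo, card_inter_smul, card_inter_smul]; exact hc)
    obtain ⟨hM, hb0, hfx⟩ := mem_dodPtCert.1 hτ
    refine ⟨g⁻¹ * τ * g, mul_mem (mul_mem (inv_mem hg) hM) hg, ?_, ?_, ?_⟩
    · simp only [Equiv.Perm.mul_apply]
      rw [hgx, hfx, ← hgx, Equiv.Perm.inv_def, Equiv.symm_apply_apply]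
    · rw [mul_smul, mul_smul, hgo, hb0, ← hgo, inv_smul_smul]
    · rw [mul_smul, mul_smul, hτe, inv_smul_smul]

end Cfsg.Agent.S1639
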