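import Cfsg.Statements.S1641
import Cfsg.Agent.Lib.Leech.Conway
import Cfsg.Agent.Lib.Leech.ConfigsN

set_option autoImplicit false
open Cfsg Cfsg.Agent.Lib.Leech

namespace Cfsg.Agent.S1641

/-- The third Conway group acts on the 11178 cosets of the Higman–Sims group with rank 5 and subdegrees 1, 352, 1100, 4125, 5600. -/
theorem result (u x : ↥Cfsg.leechLattice) (hu : Cfsg.sqNorm (u : Cfsg.GolayPt → ℤ) = 48) (hx : x ∈ {x : ↥Cfsg.leechLattice | Cfsg.sqNorm (x : Cfsg.GolayPt → ℤ) = 32 ∧ Cfsg.dotInt (u : Cfsg.GolayPt → ℤ) (x : Cfsg.GolayPt → ℤ) = -16}) : ∃ y₁ ∈ {x : ↥Cfsg.leechLattice | Cfsg.sqNorm (x : Cfsg.GolayPt → ℤ) = 32 ∧ Cfsg.dotInt (u : Cfsg.GolayPt → ℤ) (x : Cfsg.GolayPt → ℤ) = -16}, ∃ y₂ ∈ {x : ↥Cfsg.leechLattice | Cfsg.sqNorm (x : Cfsg.GolayPt → ℤ) = 32 ∧ Cfsg.dotInt (u : Cfsg.GolayPt → ℤ) (x : Cfsg.GolayPt → ℤ) = -16}, ∃ y₃ ∈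 {x : ↥Cfsg.leechLattice | Cfsg.sqNorm (x : Cfsg.GolayPt → ℤ) = 32 ∧ Cfsg.dotInt (u : Cfsg.GolayPt → ℤ) (x : Cfsg.GolayPt → ℤ) = -16}, ∃ y₄ ∈ {x : ↥Cfsg.leechLattice | Cfsg.sqNorm (x : Cfsg.GolayPt → ℤ) = 32 ∧ Cfsg.dotInt (u : Cfsg.GolayPt → ℤ) (x : Cfsg.GolayPt → ℤ) = -16}, (MulAction.orbit ↥(MulAction.stabilizer ↥Cfsg.Co0 u ⊓ MulAction.stabilizer ↥Cfsg.Co0 x) y₁).ncard = 352 ∧ (MulAction.orbit ↥(MulAction.stabilizer ↥Cfsg.Co0 u ⊓ MulAction.stabilizer ↥Cfsg.Co0 x) y₂).ncard = 1100 ∧ (MulAction.orbit ↥(MulAction.stabilizer ↥Cfsg.Co0 u ⊓ MulAction.stabilizer ↥Cfsg.Co0 x) y₃).ncard = 4125 ∧ (MulAction.orbit ↥(MulAction.stabilizer ↥Cfsg.Co0 u ⊓ MulAction.stabilizer ↥Cfsg.Co0 x) y₄).ncard = 5600 ∧ {x : ↥Cfsg.leechLattice | Cfsg.sqNorm (x : Cfsg.GolayPt → ℤ) = 32 ∧ Cfsg.dotInt (u : Cfsg.GolayPt → ℤ) (x : Cfsg.GolayPt → ℤ) = -16} = {x} ∪ MulAction.orbit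 ↥(MulAction.stabilizer ↥Cfsg.Co0 u ⊓ MulAction.stabilizer ↥Cfsg.Co0 x) y₁ ∪ MulAction.orbit ↥(MulAction.stabilizer ↥Cfsg.Co0 u ⊓ MulAction.stabilizer ↥Cfsg.Co0 x) y₂ ∪ MulAction.orbit ↥(MulAction.stabilizer ↥Cfsg.Co0 u ⊓ MulAction.stabilizer ↥Cfsg.Co0 x) y₃ ∪ MulAction.orbit ↥(MulAction.stabilizer ↥Cfsg.Co0 u ⊓ MulAction.stabilizer ↥Cfsg.Co0 x) y₄ := by
  obtain ⟨k₀, hk₀⟩ := moves_three u hu
  have hS : {x : ↥Cfsg.leechLattice | Cfsg.sqNorm (x : Cfsg.GolayPt → ℤ) = 32 ∧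
      Cfsg.dotInt (u : Cfsg.GolayPt → ℤ) (x : Cfsg.GolayPt → ℤ) = -16} = subSet [u] [-16] :=
    Set.ext fun y => (subSet_one (u := u)).symm
  rw [hS] at hx ⊢
  obtain ⟨k, hk⟩ := transDotNeg.extend hk₀ hx
  have hk : Moves k [u, x] [bU, bZ] := hk
  have f : ∀ d : ℤ, {y ∈ subSet [u] [-16] | dotInt (x : GolayPt → ℤ) (y : GolayPt → ℤ) = d}
      = subSet [u, x] [-16, d] := fun d => subSet_fibre _ _ x d
  have orb : ∀ {d : ℤ} {t : List ℤ} {n : ℕ}, Trans [bU, bZ] [-16, d] t n → n ≠ 0 → ∃ y ∈ subSet [u] [-16],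
      MulAction.orbit ↥(MulAction.stabilizer ↥Co0 u ⊓ MulAction.stabilizer ↥Co0 x) y = subSet [u, x] [-16, d] := by
    intro d t n hT hn
    obtain ⟨y, hy⟩ := Set.nonempty_of_ncard_ne_zero (hT.ncard_sub hk ▸ hn)
    refine ⟨y, (show y ∈ {y ∈ subSet [u] [-16] | _} from (f d).symm ▸ hy).1, orbit_eq hy ?_ ?_⟩
    · intro g hg z hz
      refine subSet_smul (fun a ha => ?_) hz
      simp only [List.mem_cons, List.not_mem_nil, or_false] at ha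
      rcases ha with rfl | rfl
      exacts [hg.1, hg.2]
    · intro z hz
      obtain ⟨g, hg, hgz⟩ := hT.transitive hk hy hz
      exact ⟨g, ⟨hg u (by simp), hg x (by simp)⟩, hgz⟩
  obtain ⟨y₁, hy₁, e₁⟩ := orb transOrb352 (by norm_num)
  obtain ⟨y₂, hy₂, e₂⟩ := orb transOrb1100 (by norm_num)
  obtain ⟨y₃, hy₃, e₃⟩ := orb transOrb4125 (by norm_num)
  obtain ⟨y₄, hy₄, e₄⟩ := orb transOrb5600 (by norm_num)
  have n₁ := transOrb352.ncard_sub hk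
  have n₂ := transOrb1100.ncard_sub hk
  have n₃ := transOrb4125.ncard_sub hk
  have n₄ := transOrb5600.ncard_sub hk
  have n₀ : (subSet [u, x] [-16, 32]).ncard = 1 := (ncard_subSet hk).trans countSelf11178
  refine ⟨y₁, hy₁, y₂, hy₂, y₃, hy₃, y₄, hy₄, ?_, ?_, ?_, ?_, ?_⟩
  · rw [e₁]; exact n₁
  · rw [e₂]; exact n₂
  · rw [e₃]; exact n₃
  · rw [e₄]; exact n₄
  rw [e₁, e₂, e₃, e₄]
  have hxx : dotInt (x : GolayPt → ℤ) (x : GolayPt → ℤ) = 32 := (dotInt_self_norm x).trans hx.1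
  obtain ⟨a, ha⟩ := Set.ncard_eq_one.mp n₀
  have hax : x = a := by
    have : x ∈ subSet [u, x] [-16, 32] := by rw [← f]; exact ⟨hx, hxx⟩
    rw [ha] at this
    exact this
  subst hax
  have hval := value_mem_of_count (S := subSet [u] [-16])
    (fun y => dotInt (x : GolayPt → ℤ) (y : GolayPt → ℤ)) {32, -8, 16, 0, 8}
    (transDotNeg.ncard_sub hk₀) (by norm_num) (by simp [f, n₀, n₁, n₂, n₃, n₄])
  rw [← ha]
  simp only [← f]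
  ext y
  constructor
  · intro hy
    have := hval y hy
    simp only [Finset.mem_insert, Finset.mem_singleton] at this
    simp only [Set.mem_union, Set.mem_ofPred_eq]
    tauto
  · simp only [Set.mem_union, Set.mem_ofPred_eq]
    tauto

end Cfsg.Agent.S1641
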