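import Cfsg.Statements.S1642
import Cfsg.Agent.Lib.Leech.ThreePair

set_option autoImplicit false
set_option maxRecDepth 8000
open Cfsg

namespace Cfsg.Agent.S1642

open Cfsg.Agent.Lib.Leech Cfsg.Agent.Lib.Compute

/-- A vector of the second length supported on twelve points. -/
def vL : List ℤ := [0, 0, -2, 0, 0, 0, 0, 0, 0, -2, 0, 0, 2, 2, 2, 2, 2, 2, 2, 2, 0, 2, 0, 2]

/-- A shortest vector inside the same support. -/
def uL : List ℤ := [0, 0, 4, 0, 0, 0, 0, 0, 0, 4, 0, 0, 0, 0, 0, 0, 0, 0, 0, 0, 0, 0, 0, 0]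

theorem flip_facts : sqNorm (vecOf vL) = 48 ∧ sqNorm (vecOf uL) = 32 ∧
    dotInt (vecOf vL) (vecOf uL) = -16 ∧
    (∀ q, (0x500dfb : ℕ).testBit (enc q) = true → vecOf vL q = 0 ∧ vecOf uL q = 0) ∧
    (∀ q, (vecOf vL q).natAbs ≤ 2) ∧ pop (0xaff204 : ℕ) = 12 ∧
    (0x500dfb : ℕ).testBit 0 = true ∧
    (codeList.all fun m => !((m &&& 0x500dfb) == 0) || (m == 0 || m == 0xaff204)) = true := by
  decide +kernel

theorem vL_mem : vecOf vL ∈ leechLattice :=
  lattice_of_form (p := 0) (m := 0xaff204) (by norm_num) (mem_codeList_of_inCode (by decide +kernel))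
    (by decide +kernel) (by decide +kernel)

theorem uL_mem : vecOf uL ∈ leechLattice :=
  lattice_of_form (p := 0) (m := 0) (by norm_num) (mem_codeList_of_inCode (by decide +kernel))
    (by decide +kernel) (by decide +kernel)

/-- The first vector. -/
noncomputable abbrev cV : ↥leechLattice := ⟨vecOf vL, vL_mem⟩

/-- The second vector. -/
noncomputable abbrev cU : ↥leechLattice := ⟨vecOf uL, uL_mem⟩

theorem aux_ineq (z y : ℤ) (h : z.natAbs ≤ 2) : z * (4 * y) * 2 ≤ (4 * y) ^ 2 := by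
  have h1 : -2 ≤ z := by omega
  have h2 : z ≤ 2 := by omega
  rcases le_or_gt y 0 with hy0 | hy0
  · rcases eq_or_lt_of_le hy0 with rfl | hy1
    · simp
    · nlinarith [mul_le_mul_of_nonneg_left h1 (by omega : (0 : ℤ) ≤ -y), sq_nonneg (y + 1)]
  · nlinarith [mul_le_mul_of_nonneg_left h2 (by omega : (0 : ℤ) ≤ y), sq_nonneg (y - 1)]

theorem aux_two (t : ℤ) (h : t % 4 = 2) : 4 ≤ t ^ 2 := by
  have : 2 ≤ t ∨ t ≤ -2 := by omega
  rcases this with h | h <;> nlinarith

/-- The sign change on a twelve point word fixes both vectors and no shortest vector of inner product 24. -/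
theorem exists_flip : ∃ g : ↥Co0, g • cV = cV ∧ g • cU = cU ∧ orderOf g = 2 ∧
    ∀ x : ↥leechLattice, sqNorm (x : GolayPt → ℤ) = 32 →
      dotInt (cV : GolayPt → ℤ) (x : GolayPt → ℤ) = 24 → g • x ≠ x := by
  obtain ⟨-, -, -, hzero, habs, hpop, h0, hall⟩ := flip_facts
  have hmem : setOf24 0x500dfb ∈ supports (golayCode : Set (GolayPt → ZMod 2)) := by
    rw [supports_golayCode]
    exact ⟨0x500dfb, mem_codeList_of_inCode (by decide +kernel), rfl⟩
  obtain ⟨g, hg⟩ := exists_mono 1 (one_mem _) (setOf24 0x500dfb) hmem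
  have happ : ∀ (v : ↥leechLattice) (q : GolayPt), ((g • v : ↥leechLattice) : GolayPt → ℤ) q =
      if (0x500dfb : ℕ).testBit (enc q) then -(v : GolayPt → ℤ) q else (v : GolayPt → ℤ) q := fun v q => by
    rw [hg v]
    simp only [signedPerm, Equiv.Perm.one_symm, Equiv.Perm.coe_one, id_eq, mem_setOf24]
  have hfix : ∀ v : ↥leechLattice, (∀ q, (0x500dfb : ℕ).testBit (enc q) = true → (v : GolayPt → ℤ) q = 0) →
      g • v = v := fun v hv => Subtype.ext (funext fun q => by
    rw [happ]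
    by_cases h : (0x500dfb : ℕ).testBit (enc q) = true
    · rw [if_pos h, hv q h, neg_zero]
    · rw [if_neg h])
  refine ⟨g, hfix _ fun q h => (hzero q h).1, hfix _ fun q h => (hzero q h).2, ?_, ?_⟩
  · refine orderOf_eq_prime (p := 2) ?_ fun e => ?_
    · refine Subtype.ext (Equiv.ext fun v => Subtype.ext (funext fun q => ?_))
      show ((g • g • v : ↥leechLattice) : GolayPt → ℤ) q = (v : GolayPt → ℤ) q
      rw [happ, happ]
      split_ifs <;> simp
    · have hb : (0x500dfb : ℕ).testBit (enc (enc.symm (0 : Fin 24))) = true := by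
        rw [Equiv.apply_symm_apply]; exact h0
      let s : ↥leechLattice := ⟨vecOf [4, 4, 0, 0, 0, 0, 0, 0, 0, 0, 0, 0, 0, 0, 0, 0, 0, 0, 0, 0, 0, 0, 0, 0],
        lattice_of_form (p := 0) (m := 0) (by norm_num) (mem_codeList_of_inCode (by decide +kernel))
          (by decide +kernel) (by decide +kernel)⟩
      have h := happ s (enc.symm (0 : Fin 24))
      rw [e, one_smul, if_pos hb] at h
      simp [s, vecOf] at h
  · intro x hn hd hgx
    obtain ⟨p, hp, m, hm, h4, -⟩ := form_of_lattice x.2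
    have hx0 : ∀ q, (0x500dfb : ℕ).testBit (enc q) = true → (x : GolayPt → ℤ) q = 0 := fun q h => by
      have e := happ x q
      rw [hgx, if_pos h] at e
      omega
    have hres : ∀ q, (0x500dfb : ℕ).testBit (enc q) = true → p = 0 ∧ m.testBit (enc q) = false := fun q h => by
      have e := h4 q
      rw [hx0 q h] at e
      interval_cases p <;> cases hb : m.testBit (enc q) <;> rw [hb] at e <;> simp [res] at e ⊢
    have hp0 : p = 0 := (hres (enc.symm (0 : Fin 24)) (by rw [Equiv.apply_symm_apply]; exact h0)).1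
    subst hp0
    have hand : m &&& 0x500dfb = 0 := by
      refine Nat.eq_of_testBit_eq fun i => ?_
      rw [Nat.testBit_and, Nat.zero_testBit]
      cases hi : (0x500dfb : ℕ).testBit i with
      | false => simp
      | true =>
        have hlt : i < 24 := by
          by_contra hge
          rw [Nat.testBit_lt_two_pow (lt_of_lt_of_le (by norm_num : (0x500dfb : ℕ) < 2 ^ 24)
            (Nat.pow_le_pow_right (by norm_num) (by omega)))] at hi
          exact absurd hi (by simp)
        have := (hres (enc.symm ⟨i, hlt⟩) (by rw [Equiv.apply_symm_apply]; exact hi)).2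
        rw [Equiv.apply_symm_apply] at this
        simp only at this
        simp [this]
    have hc := List.all_eq_true.1 hall m hm
    simp only [Bool.or_eq_true, Bool.not_eq_true', beq_eq_false_iff_ne, beq_iff_eq] at hc
    rcases hc.resolve_left (fun hne => hne hand) with rfl | rfl
    · have hle : dotInt (cV : GolayPt → ℤ) (x : GolayPt → ℤ) * 2 ≤ sqNorm (x : GolayPt → ℤ) := by
        rw [dotInt, sqNorm, Finset.sum_mul]
        refine Finset.sum_le_sum fun q _ => ?_
        have e := h4 q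
        simp [res] at e
        obtain ⟨y, hy⟩ := Int.dvd_of_emod_eq_zero (show (x : GolayPt → ℤ) q % 4 = 0 by omega)
        have ha := habs q
        show vecOf vL q * (x : GolayPt → ℤ) q * 2 ≤ _
        rw [hy]
        exact aux_ineq _ y ha
      omega
    · have hle : ∀ q, (if (0xaff204 : ℕ).testBit (enc q) then (4 : ℤ) else 0) ≤ (x : GolayPt → ℤ) q ^ 2 := by
        intro q
        split_ifs with hq
        · have e := h4 q
          rw [hq] at e
          simp [res] at e
          exact aux_two _ (by omega)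
        · exact sq_nonneg _
      have h48 : (48 : ℤ) = ∑ q : GolayPt, (if (0xaff204 : ℕ).testBit (enc q) then (4 : ℤ) else 0) := by
        decide +kernel
      have := Finset.sum_le_sum (s := Finset.univ) fun q _ => hle q
      rw [← h48] at this
      change (48 : ℤ) ≤ sqNorm (x : GolayPt → ℤ) at this
      omega

/-- Some involution of the Higman–Sims group acts without fixed points on its 100 points. -/
theorem result (v w : ↥Cfsg.leechLattice) (hv : Cfsg.sqNorm (v : Cfsg.GolayPt → ℤ) = 48) (hw : Cfsg.sqNorm (w : Cfsg.GolayPt → ℤ) = 48) (hvw : Cfsg.dotInt (v : Cfsg.GolayPt → ℤ) (w : Cfsg.GolayPt → ℤ) = -32) : ∃ g : ↥Cfsg.Co0, g • v = v ∧ g • w = w ∧ orderOf g = 2 ∧ ∀ x ∈ {x : ↥Cfsg.leechLattice | Cfsg.sqNorm (x : Cfsg.GolayPt → ℤ) = 32 ∧ Cfsg.dotInt (v : Cfsg.GolayPt → ℤ) (x : Cfsg.GolayPt → ℤ) = 24 ∧ Cfsg.dotInt (w : Cfsg.GolayPt → ℤ) (x : Cfsg.GolayPt → ℤ) = -24}, g • x ≠ x := by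
  obtain ⟨g, hg1, hg2, hg3, hg4⟩ := exists_flip
  have hpre : ∀ a b : ↥leechLattice, sqNorm (a : GolayPt → ℤ) = 48 → sqNorm (b : GolayPt → ℤ) = 48 →
      dotInt (a : GolayPt → ℤ) (b : GolayPt → ℤ) = -32 →
      sqNorm ((-(a + b) : ↥leechLattice) : GolayPt → ℤ) = 32 ∧
      dotInt (a : GolayPt → ℤ) ((-(a + b) : ↥leechLattice) : GolayPt → ℤ) = -16 := by
    intro a b ha hb hab
    have e := sqNorm_add (a : GolayPt → ℤ) (b : GolayPt → ℤ)
    rw [AddSubgroup.coe_neg, AddSubgroup.coe_add]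
    simp only [sqNorm, dotInt, Pi.neg_apply, Pi.add_apply, neg_sq, mul_neg, mul_add, Finset.sum_neg_distrib,
      Finset.sum_add_distrib, ← pow_two] at ha hb hab e ⊢
    constructor <;> linarith
  obtain ⟨hn, hd⟩ := hpre v w hv hw hvw
  let V : ↥leechLattice := ⟨vecOf baseFive, baseFive_mem⟩
  obtain ⟨a, ha⟩ := exists_co0_three v V hv baseFive_facts.1
  obtain ⟨b, hb⟩ := exists_co0_three cV V flip_facts.1 baseFive_facts.1
  have hd1 : dotInt (vecOf baseFive) ((a • -(v + w) : ↥leechLattice) : GolayPt → ℤ) = -16 := by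
    have h := co0_dot a v (-(v + w)); rw [ha, hd] at h; exact h
  have hd2 : dotInt (vecOf baseFive) ((b • cU : ↥leechLattice) : GolayPt → ℤ) = -16 := by
    have h := co0_dot b cV cU; rw [hb, flip_facts.2.2.1] at h; exact h
  obtain ⟨c, hc1, hc2⟩ := exists_co0_five_sixteen (a • -(v + w)) (b • cU)
    ((co0_sqNorm a _).trans hn) ((co0_sqNorm b cU).trans flip_facts.2.1) hd1 hd2
  let k : ↥Co0 := b⁻¹ * c * a
  have hk1 : k • v = cV := by
    show (b⁻¹ * c * a) • v = cV
    rw [mul_smul, ha, mul_smul, show c • V = V from hc1, inv_smul_eq_iff, hb]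
  have hk2 : k • -(v + w) = cU := by
    show (b⁻¹ * c * a) • -(v + w) = cU
    rw [mul_smul, mul_smul, hc2, inv_smul_smul]
  have hv' : (k⁻¹ * g * k) • v = v := by rw [mul_smul, hk1, mul_smul, hg1, inv_smul_eq_iff, hk1]
  have hz' : (k⁻¹ * g * k) • -(v + w) = -(v + w) := by
    rw [mul_smul, hk2, mul_smul, hg2, inv_smul_eq_iff, hk2]
  refine ⟨k⁻¹ * g * k, hv', ?_, ?_, ?_⟩
  · have hadd : (k⁻¹ * g * k) • (v + w) = (k⁻¹ * g * k) • v + (k⁻¹ * g * k) • w := (k⁻¹ * g * k).2.1 v w
    rw [co0_neg, neg_inj, hadd, hv'] at hz'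
    exact add_left_cancel hz'
  · have h := MulEquiv.orderOf_eq (MulAut.conj k⁻¹) g
    rw [MulAut.conj_apply, inv_inv] at h
    rw [h, hg3]
  · rintro x ⟨hx, hxv, -⟩ hfix
    refine hg4 (k • x) ((co0_sqNorm k x).trans hx) ?_ ?_
    · rw [← hk1, co0_dot, hxv]
    · rw [mul_smul, mul_smul, inv_smul_eq_iff] at hfix
      exact hfix

end Cfsg.Agent.S1642
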