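import Cfsg.Statements.S1643
import Cfsg.Agent.Lib.MathieuMax.Basic

set_option autoImplicit false
open scoped Pointwise
open Cfsg

namespace Cfsg.Agent.S1643

open Cfsg.Agent.Lib.MathieuOut Cfsg.Agent.Lib.MathieuMax Cfsg.Agent.Lib.Compute

/-- The dilations by nonzero squares. -/
def mults : Set (Equiv.Perm GolayPt) :=
  {g | ∃ u : (ZMod 23)ˣ, IsSquare u ∧ g = Equiv.optionCongr (Units.mulLeft u)}

/-- The group generated by the translations and the dilations by squares. -/
def borel : Subgroup (Equiv.Perm GolayPt) := Subgroup.closure ({shift} ∪ mults)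

/-- The copy of PSL(2, 23). -/
def psl : Subgroup (Equiv.Perm GolayPt) := Subgroup.closure ({shift, projInv} ∪ mults)

theorem sq_dbl : ∀ x : ZMod 23, x ≠ 0 →
    ∃ i : Fin 11, ∀ p : GolayPt, p.map (fun y => x * x * y) = (dbl ^ (i : ℕ)) p := by
  decide +kernel

theorem mults_pow {g : Equiv.Perm GolayPt} (h : g ∈ mults) : ∃ i : ℕ, g = dbl ^ i := by
  obtain ⟨u, ⟨r, rfl⟩, rfl⟩ := h
  obtain ⟨i, hi⟩ := sq_dbl (r : ZMod 23) r.ne_zero
  refine ⟨i, Equiv.ext fun p => ?_⟩
  rw [← hi p]
  cases p <;> simp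

theorem dbl_mem_mults : dbl ∈ mults := by
  refine ⟨Units.mk (2 : ZMod 23) 12 (by decide) (by decide), ⟨Units.mk 5 14 (by decide) (by decide), ?_⟩, ?_⟩
  · exact Units.ext (by decide +kernel)
  · ext p
    cases p <;> rfl

theorem closure_union (S : Set (Equiv.Perm GolayPt)) :
    Subgroup.closure (S ∪ mults) = Subgroup.closure (S ∪ {dbl}) := by
  refine le_antisymm ((Subgroup.closure_le _).2 ?_) ?_
  · rintro x (hx | hx)
    · exact Subgroup.subset_closure (Or.inl hx)
    · obtain ⟨i, rfl⟩ := mults_pow hx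
      exact Subgroup.pow_mem (Subgroup.closure (S ∪ {dbl})) (Subgroup.subset_closure (Or.inr rfl)) i
  · exact Subgroup.closure_mono (Set.union_subset_union_right _
      (by rintro x rfl; exact dbl_mem_mults))

theorem borel_eq : borel = Subgroup.closure ({shift} ∪ {dbl}) := closure_union _

theorem psl_eq : psl = Subgroup.closure ({shift, projInv} ∪ {dbl}) := closure_union _

theorem borel_le : borel ≤ Spor.M23 := by
  rw [borel_eq, Subgroup.closure_le]
  rintro x (rfl | rfl)
  exacts [shift_mem_M23, dbl_mem_M23]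

theorem psl_le : psl ≤ M24 := by
  rw [psl_eq, Subgroup.closure_le]
  rintro x ((rfl | rfl) | rfl)
  exacts [shift_mem, projInv_mem, dbl_mem]

theorem shift_borel : shift ∈ borel := Subgroup.subset_closure (Or.inl rfl)
theorem dbl_borel : dbl ∈ borel := Subgroup.subset_closure (Or.inr dbl_mem_mults)
theorem shift_psl : shift ∈ psl := Subgroup.subset_closure (Or.inl (Or.inl rfl))
theorem dbl_psl : dbl ∈ psl := Subgroup.subset_closure (Or.inr dbl_mem_mults)
theorem projInv_psl : projInv ∈ psl := Subgroup.subset_closure (Or.inl (Or.inr rfl))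

theorem ctw_not_norm : ∀ i : Fin 23, ctw * shift * ctw⁻¹ ≠ shift ^ (i : ℕ) := by decide +kernel

theorem card_borel : Nat.card borel = 253 := by
  obtain ⟨d, hd, rfl | rfl⟩ := (orders_of_le (borel_le.trans inf_le_left) shift_borel dbl_borel).2
    fun σ hσ => (borel_le hσ).2
  · simpa using hd
  · exfalso
    have h : borel = Spor.M23 := Subgroup.eq_of_le_of_card_ge borel_le (by rw [hd, card_M23])
    have hN : borel ≤ Subgroup.normalizer (Subgroup.zpowers shift : Set (Equiv.Perm GolayPt)) := by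
      rw [borel_eq, Subgroup.closure_le]
      rintro x (rfl | rfl)
      · exact Subgroup.le_normalizer (Subgroup.mem_zpowers _)
      · have hle : (Subgroup.zpowers shift).map (MulAut.conj dbl).toMonoidHom
            = Subgroup.zpowers shift := by
          rw [MonoidHom.map_zpowers]
          refine Subgroup.eq_of_le_of_card_ge ?_ ?_
          · rw [Subgroup.zpowers_le]
            exact ⟨(2 : ℕ), by simpa [zpow_natCast] using pow22_conj.2.1.symm⟩
          · rw [Nat.card_zpowers, Nat.card_zpowers]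
            exact le_of_eq (MulEquiv.orderOf_eq (MulAut.conj dbl) shift).symm
        exact Subgroup.mem_normalizer_iff.2 fun w => by
          conv_rhs => rw [← hle]
          exact (Subgroup.mem_map_iff_mem (MulAut.conj dbl).injective).symm
    have h1 := (Subgroup.mem_normalizer_iff.1 (hN (h ▸ ctw_mem_M23)) shift).1
      (Subgroup.mem_zpowers shift)
    rw [mem_zpowers_iff_mem_range_orderOf, orderOf_shift] at h1
    simp only [Finset.mem_image, Finset.mem_range] at h1
    obtain ⟨a, ha, hax⟩ := h1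
    exact ctw_not_norm ⟨a, ha⟩ hax.symm

theorem shift_zero : ∀ x : ZMod 23, (shift ^ x.val) (projInv none) = some x := by decide +kernel

theorem card_over_psl {H : Subgroup (Equiv.Perm GolayPt)} (hH : H ≤ M24) (hK : psl ≤ H) :
    Nat.card H = 6072 ∨ Nat.card H = 244823040 := by
  have horb : MulAction.orbit H (none : GolayPt) = Set.univ := by
    refine Set.eq_univ_iff_forall.2 fun p => ?_
    cases p with
    | none => exact MulAction.mem_orbit_self _
    | some x => exact ⟨⟨shift ^ x.val * projInv,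
        mul_mem (pow_mem (hK shift_psl) _) (hK projInv_psl)⟩, shift_zero x⟩
  set S := H ⊓ MulAction.stabilizer (Equiv.Perm GolayPt) (none : GolayPt) with hS
  have hstab : Nat.card (MulAction.stabilizer H (none : GolayPt)) = Nat.card S :=
    Nat.card_congr
      { toFun := fun σ => ⟨σ.1.1, σ.1.2, σ.2⟩
        invFun := fun σ => ⟨⟨σ.1, σ.2.1⟩, σ.2.2⟩
        left_inv := fun _ => rfl
        right_inv := fun _ => rfl }
  have h24 : Nat.card H = 24 * Nat.card S := by
    rw [← hstab, ← (MulAction.stabilizer H (none : GolayPt)).index_mul_card,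
      MulAction.index_stabilizer, horb, Set.ncard_univ]
    congr 1
    simp
  obtain ⟨d, hd, h | h⟩ := (orders_of_le (H := S) (inf_le_left.trans hH)
    ⟨hK shift_psl, rfl⟩ ⟨hK dbl_psl, rfl⟩).2 fun σ hσ => hσ.2
  · left; rw [h24, hd, h]
  · right; rw [h24, hd, h]

theorem card_psl : Nat.card psl = 6072 := by
  refine (card_over_psl psl_le le_rfl).resolve_right fun h => ?_
  have he : psl = M24 := Subgroup.eq_of_le_of_card_ge psl_le (by rw [h, card_M24])
  have hinv : negPt⁻¹ = negPt := inv_eq_of_mul_eq_one_right negPt_conj.1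
  have hle : psl ≤ psl.comap (MulAut.conj negPt).toMonoidHom := by
    conv_lhs => rw [psl_eq]
    rw [Subgroup.closure_le]
    rintro x ((rfl | rfl) | rfl) <;>
      simp only [SetLike.mem_coe, Subgroup.mem_comap, MulEquiv.coe_toMonoidHom, MulAut.conj_apply,
        hinv]
    · rw [negPt_conj.2.1]; exact pow_mem shift_psl _
    · rw [negPt_conj.2.2.2.1]; exact projInv_psl
    · rw [negPt_conj.2.2.1]; exact dbl_psl
  have h1 : ctw ∈ psl.comap (MulAut.conj negPt).toMonoidHom := hle (he ▸ ctw_mem)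
  simp only [Subgroup.mem_comap, MulEquiv.coe_toMonoidHom, MulAut.conj_apply, hinv, he] at h1
  exact negPt_ctw h1

theorem coatom_comap {A G : Type*} [Group A] [Group G] [Finite A] [Finite G] (f : A →* G)
    (hf : Function.Injective f) (K : Subgroup G) (hK : K ≤ f.range)
    (hlt : Nat.card K < Nat.card A)
    (h : ∀ H : Subgroup G, K ≤ H → H ≤ f.range → Nat.card H = Nat.card K ∨ Nat.card H = Nat.card A) :
    IsCoatom (K.comap f) := by
  have hc : Nat.card (K.comap f) = Nat.card K := by
    conv_rhs => rw [← Subgroup.map_comap_eq_self hK]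
    exact (Subgroup.card_map_of_injective hf).symm
  refine ⟨fun e => ?_, fun b hb => ?_⟩
  · rw [e, Subgroup.card_top] at hc
    omega
  · have hKb : K ≤ b.map f := by
      rw [← Subgroup.map_comap_eq_self hK]; exact Subgroup.map_mono hb.le
    rcases h _ hKb (Subgroup.map_le_range f b) with e | e <;>
      rw [Subgroup.card_map_of_injective hf] at e
    · exact absurd (Subgroup.eq_of_le_of_card_ge hb.le (by rw [hc, e])) hb.ne
    · exact Subgroup.eq_top_of_card_eq b e


/-- PSL(2, 23) = ⟨t ↦ t+1, t ↦ u t (u square), t ↦ −1/t⟩ is maximal of order 6072 in the group of the length-24 code, and its point stabiliser 23:11 (order 253) is maximal in the Mathieu group of degree 23. -/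
theorem result : (Subgroup.closure ({Equiv.optionCongr (Equiv.addRight (1 : ZMod 23)), Cfsg.projInv} ∪ {g : Equiv.Perm Cfsg.GolayPt | ∃ u : (ZMod 23)ˣ, IsSquare u ∧ g = Equiv.optionCongr (Units.mulLeft u)}) ≤ Cfsg.M24 ∧ Nat.card ↥(Subgroup.closure ({Equiv.optionCongr (Equiv.addRight (1 : ZMod 23)), Cfsg.projInv} ∪ {g : Equiv.Perm Cfsg.GolayPt | ∃ u : (ZMod 23)ˣ, IsSquare u ∧ g = Equiv.optionCongr (Units.mulLeft u)})) = 6072 ∧ IsCoatom ((Subgroup.closure ({Equiv.optionCongr (Equiv.addRight (1 : ZMod 23)), Cfsg.projInv} ∪ {g : Equiv.Perm Cfsg.GolayPt | ∃ u : (ZMod 23)ˣ, IsSquare u ∧ g = Equiv.optionCongr (Units.mulLeft u)})).subgroupOf Cfsg.M24)) ∧ (Subgroup.closure ({Equiv.optionCongr (Equiv.addRight (1 : ZMod 23))} ∪ {g : Equiv.Perm Cfsg.GolayPt | ∃ u : (ZMod 23)ˣ, IsSquare u ∧ g = Equiv.optionCongr (Units.mulLeft u)}) ≤ Cfsg.M24 ⊓ MulAction.stabilizer (Equiv.Perm Cfsg.GolayPt) (none : Cfsg.GolayPt) ∧ Nat.card ↥(Subgroup.closure ({Equiv.optionCongr (Equiv.addRight (1 : ZMod 23))} ∪ {g :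 Equiv.Perm Cfsg.GolayPt | ∃ u : (ZMod 23)ˣ, IsSquare u ∧ g = Equiv.optionCongr (Units.mulLeft u)})) = 253 ∧ IsCoatom (((Subgroup.closure ({Equiv.optionCongr (Equiv.addRight (1 : ZMod 23))} ∪ {g : Equiv.Perm Cfsg.GolayPt | ∃ u : (ZMod 23)ˣ, IsSquare u ∧ g = Equiv.optionCongr (Units.mulLeft u)})).subgroupOf Cfsg.M24).subgroupOf (MulAction.stabilizer Cfsg.M24 (none : Cfsg.GolayPt)))) := by
  refine ⟨⟨psl_le, card_psl, ?_⟩, borel_le, card_borel, ?_⟩
  · refine coatom_comap M24.subtype M24.subtype_injective psl ?_ ?_ fun H h1 h2 => ?_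
    · rw [Subgroup.range_subtype]; exact psl_le
    · rw [card_psl, card_M24]; norm_num
    · rw [Subgroup.range_subtype] at h2
      rw [card_psl, card_M24]
      exact card_over_psl h2 h1
  · set A := MulAction.stabilizer M24 (none : GolayPt) with hA
    have hr : (M24.subtype.comp A.subtype).range = Spor.M23 := by
      ext σ
      exact ⟨fun ⟨a, ha⟩ => ha ▸ ⟨a.1.2, a.2⟩, fun hσ => ⟨⟨⟨σ, hσ.1⟩, hσ.2⟩, rfl⟩⟩
    have hcA : Nat.card A = 10200960 := Cfsg.Agent.S0376.result none
    show IsCoatom ((borel.comap M24.subtype).comap A.subtype)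
    rw [Subgroup.comap_comap]
    refine coatom_comap _ (fun a b e => A.subtype_injective (M24.subtype_injective e)) borel ?_ ?_
      fun H h1 h2 => ?_
    · rw [hr]; exact borel_le
    · rw [card_borel, hcA]; norm_num
    · rw [hr] at h2
      obtain ⟨d, hd, rfl | rfl⟩ := (orders_of_le (h2.trans inf_le_left) (h1 shift_borel)
        (h1 dbl_borel)).2 fun σ hσ => (h2 hσ).2
      · left; rw [card_borel, hd]
      · right; rw [hcA, hd]

end Cfsg.Agent.S1643
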