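import Cfsg.Statements.S1680
import Cfsg.Agent.Lib.CosetEnum.SuzG2.Checked
import Cfsg.Agent.Lib.CosetEnum.SuzG2.OrbitData
import Cfsg.Agent.Lib.CosetEnum.Pres
import Cfsg.Prelude.Def_Spor_Suz

set_option autoImplicit false
open Cfsg

namespace Cfsg.Agent.S1680

open Cfsg.Spor Cfsg.Agent.Lib.CosetEnum

/-- the letters of the table -/
def lts : List (Cfsg.Spor.Suz.Gen × Bool) := [(.a, true), (.b, true), (.c, true), (.d, true), (.e, true), (.f, true), (.g, true)]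

/-- all generators -/
def gens : List Cfsg.Spor.Suz.Gen := [.a, .b, .c, .d, .e, .f, .g]

theorem gens_all : ∀ g : Cfsg.Spor.Suz.Gen, g ∈ gens := fun g => by cases g <;> decide

/-- the generators of the subgroup -/
abbrev subs : List (FreeGroup Cfsg.Spor.Suz.Gen) :=
  [Cfsg.Spor.Suz.a, Cfsg.Spor.Suz.b, Cfsg.Spor.Suz.c, Cfsg.Spor.Suz.d, Cfsg.Spor.Suz.e, Cfsg.Spor.Suz.f]

theorem set_eq : ({Cfsg.Spor.Suz.a, Cfsg.Spor.Suz.b, Cfsg.Spor.Suz.c, Cfsg.Spor.Suz.d, Cfsg.Spor.Suz.e, Cfsg.Spor.Suz.f} : Set (FreeGroup Cfsg.Spor.Suz.Gen)) = {x | x ∈ subs} := by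
  ext x
  simp [subs]

theorem data : presOk Cfsg.Agent.Lib.CosetEnum.SuzG2.cert lts Cfsg.Spor.Suz.edges gens ∧
    Cfsg.Agent.Lib.CosetEnum.SuzG2.cert.rels = presWords lts Cfsg.Spor.Suz.edges Cfsg.Spor.Suz.extra ∧
    Cfsg.Agent.Lib.CosetEnum.SuzG2.cert.subs = subs.map (wordOfFree lts) := by
  refine ⟨?_, ?_, ?_⟩ <;> decide +kernel

/-- In the presented sporadic Suzuki group, let H be the subgroup generated by the images of a, …, f. Then H has index 1782, H has orbits of sizes 416 and 1365 on the cosets of H other than H itself (with the index 1782 this makes the action rank 3). -/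
theorem result : (((Subgroup.closure ({Cfsg.Spor.Suz.a, Cfsg.Spor.Suz.b, Cfsg.Spor.Suz.c, Cfsg.Spor.Suz.d, Cfsg.Spor.Suz.e, Cfsg.Spor.Suz.f} : Set (FreeGroup Cfsg.Spor.Suz.Gen))).map (PresentedGroup.mk (Cfsg.Spor.coxRelators Cfsg.Spor.Suz.edges ∪ {r | r ∈ Cfsg.Spor.Suz.extra})))).index = 1782 ∧ ∃ q₁ q₂ : Cfsg.Spor.Suz ⧸ (((Subgroup.closure ({Cfsg.Spor.Suz.a, Cfsg.Spor.Suz.b, Cfsg.Spor.Suz.c, Cfsg.Spor.Suz.d, Cfsg.Spor.Suz.e, Cfsg.Spor.Suz.f} : Set (FreeGroup Cfsg.Spor.Suz.Gen))).map (PresentedGroup.mk (Cfsg.Spor.coxRelators Cfsg.Spor.Suz.edges ∪ {r | r ∈ Cfsg.Spor.Suz.extra})))), (MulAction.orbit (((Subgroup.closure ({Cfsg.Spor.Suz.a, Cfsg.Spor.Suz.b, Cfsg.Spor.Suz.c, Cfsg.Spor.Suz.d, Cfsg.Spor.Suz.e, Cfsg.Spor.Suz.f} : Set (FreeGroup Cfsg.Spor.Suz.Gen))).map (PresentedGroup.mk (Cfsg.Spor.coxRelators Cfsg.Spor.Suz.edges ∪ {r | r ∈ Cfsg.Spor.Suz.extra}))))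 q₁).ncard = 416 ∧ (MulAction.orbit (((Subgroup.closure ({Cfsg.Spor.Suz.a, Cfsg.Spor.Suz.b, Cfsg.Spor.Suz.c, Cfsg.Spor.Suz.d, Cfsg.Spor.Suz.e, Cfsg.Spor.Suz.f} : Set (FreeGroup Cfsg.Spor.Suz.Gen))).map (PresentedGroup.mk (Cfsg.Spor.coxRelators Cfsg.Spor.Suz.edges ∪ {r | r ∈ Cfsg.Spor.Suz.extra})))) q₂).ncard = 1365 := by
  obtain ⟨hidx, ρ, e, he0, heq, hρ⟩ := pres_coset_equiv (extra := Cfsg.Spor.Suz.extra) data.1 gens_all data.2.1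
    subs data.2.2 Cfsg.Agent.Lib.CosetEnum.SuzG2.checked
  rw [set_eq]
  have key := fun r hr => orbit_ncard_of_labels subs data.2.2 Cfsg.Agent.Lib.CosetEnum.SuzG2.checked ρ _ rfl e heq hρ
    Cfsg.Agent.Lib.CosetEnum.SuzG2.lab Cfsg.Agent.Lib.CosetEnum.SuzG2.par Cfsg.Agent.Lib.CosetEnum.SuzG2.roots Cfsg.Agent.Lib.CosetEnum.SuzG2.orbit_all (by decide +kernel) r hr
  obtain ⟨ho2, hn2⟩ := key ⟨137, by decide +kernel⟩ (by decide +kernel)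
  rw [show CE.labelAt Cfsg.Agent.Lib.CosetEnum.SuzG2.lab ((137 : ℕ)) = 2 by decide +kernel] at hn2
  obtain ⟨ho1, hn1⟩ := key ⟨1, by decide +kernel⟩ (by decide +kernel)
  rw [show CE.labelAt Cfsg.Agent.Lib.CosetEnum.SuzG2.lab ((1 : ℕ)) = 1 by decide +kernel] at hn1
  refine ⟨hidx, e ⟨137, by decide +kernel⟩, e ⟨1, by decide +kernel⟩, hn2.trans Cfsg.Agent.Lib.CosetEnum.SuzG2.count2, hn1.trans Cfsg.Agent.Lib.CosetEnum.SuzG2.count1⟩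

end Cfsg.Agent.S1680
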