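import Cfsg.Statements.S1681
import Cfsg.Agent.Lib.CosetEnum.SuzIdx.Checked
import Cfsg.Agent.Lib.CosetEnum.Pres
import Cfsg.Prelude.Def_Spor_Suz
-- import your own Cfsg.Agent.* helpers here

set_option autoImplicit false
open Cfsg

namespace Cfsg.Agent.S1681

open Cfsg.Spor Cfsg.Agent.Lib.CosetEnum

/-- the letters of the table -/
def lts : List (Cfsg.Spor.Suz.Gen × Bool) := [(.a, true), (.b, true), (.c, true), (.d, true), (.e, true), (.f, true), (.g, true)]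

/-- all generators -/
def gens : List Cfsg.Spor.Suz.Gen := [.a, .b, .c, .d, .e, .f, .g]

theorem gens_all : ∀ g : Cfsg.Spor.Suz.Gen, g ∈ gens := fun g => by cases g <;> decide

/-- the generators of the subgroup -/
abbrev subs : List (FreeGroup Cfsg.Spor.Suz.Gen) :=
  [Cfsg.Spor.Suz.a, Cfsg.Spor.Suz.b, Cfsg.Spor.Suz.c, Cfsg.Spor.Suz.d, Cfsg.Spor.Suz.f, Cfsg.Spor.Suz.g]

theorem set_eq : ({Cfsg.Spor.Suz.a, Cfsg.Spor.Suz.b, Cfsg.Spor.Suz.c, Cfsg.Spor.Suz.d, Cfsg.Spor.Suz.f, Cfsg.Spor.Suz.g} : Set (FreeGroup Cfsg.Spor.Suz.Gen)) = {x | x ∈ subs} := by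
  ext x
  simp [subs]

theorem data : presOk Cfsg.Agent.Lib.CosetEnum.SuzIdx.cert lts Cfsg.Spor.Suz.edges gens ∧
    Cfsg.Agent.Lib.CosetEnum.SuzIdx.cert.rels = presWords lts Cfsg.Spor.Suz.edges Cfsg.Spor.Suz.extra ∧
    Cfsg.Agent.Lib.CosetEnum.SuzIdx.cert.subs = subs.map (wordOfFree lts) := by
  refine ⟨?_, ?_, ?_⟩ <;> decide +kernel

/-- In the presented sporadic Suzuki group (generators a, …, g), the subgroup generated by the images of a, b, c, d, f, g has index 22880. -/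
theorem result : (((Subgroup.closure ({Cfsg.Spor.Suz.a, Cfsg.Spor.Suz.b, Cfsg.Spor.Suz.c, Cfsg.Spor.Suz.d, Cfsg.Spor.Suz.f, Cfsg.Spor.Suz.g} : Set (FreeGroup Cfsg.Spor.Suz.Gen))).map (PresentedGroup.mk (Cfsg.Spor.coxRelators Cfsg.Spor.Suz.edges ∪ {r | r ∈ Cfsg.Spor.Suz.extra})))).index = 22880 := by
  obtain ⟨hidx, -⟩ := pres_coset_equiv (extra := Cfsg.Spor.Suz.extra) data.1 gens_all data.2.1
    subs data.2.2 Cfsg.Agent.Lib.CosetEnum.SuzIdx.checked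
  rw [set_eq]
  exact hidx

end Cfsg.Agent.S1681
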