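import Cfsg.Statements.S1683
import Cfsg.Agent.Lib.CosetEnum.HeIdx.Checked
import Cfsg.Agent.Lib.CosetEnum.HeIdx.OrbitData
import Cfsg.Agent.Lib.CosetEnum.Pres
import Cfsg.Prelude.Def_Spor_He

set_option autoImplicit false
open Cfsg

namespace Cfsg.Agent.S1683

open Cfsg.Spor Cfsg.Agent.Lib.CosetEnum

/-- the letters of the table -/
def lts : List (Cfsg.Spor.He.Gen × Bool) := [(.a, true), (.b, true), (.c, true), (.d, true), (.e, true), (.f, true), (.g, true)]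

/-- all generators -/
def gens : List Cfsg.Spor.He.Gen := [.a, .b, .c, .d, .e, .f, .g]

theorem gens_all : ∀ g : Cfsg.Spor.He.Gen, g ∈ gens := fun g => by cases g <;> decide

/-- the generators of the subgroup -/
abbrev subs : List (FreeGroup Cfsg.Spor.He.Gen) :=
  [Cfsg.Spor.He.a, Cfsg.Spor.He.c, Cfsg.Spor.He.d, Cfsg.Spor.He.e, Cfsg.Spor.He.f, (Cfsg.Spor.He.a * Cfsg.Spor.He.b) ^ 2, (Cfsg.Spor.He.b * Cfsg.Spor.He.c * Cfsg.Spor.He.d * Cfsg.Spor.He.e) ^ 7]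

theorem set_eq : ({Cfsg.Spor.He.a, Cfsg.Spor.He.c, Cfsg.Spor.He.d, Cfsg.Spor.He.e, Cfsg.Spor.He.f, (Cfsg.Spor.He.a * Cfsg.Spor.He.b) ^ 2, (Cfsg.Spor.He.b * Cfsg.Spor.He.c * Cfsg.Spor.He.d * Cfsg.Spor.He.e) ^ 7} : Set (FreeGroup Cfsg.Spor.He.Gen)) = {x | x ∈ subs} := by
  ext x
  simp [subs]

theorem data : presOk Cfsg.Agent.Lib.CosetEnum.HeIdx.cert lts Cfsg.Spor.He.edges gens ∧
    Cfsg.Agent.Lib.CosetEnum.HeIdx.cert.rels = presWords lts Cfsg.Spor.He.edges Cfsg.Spor.He.extra ∧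
    Cfsg.Agent.Lib.CosetEnum.HeIdx.cert.subs = subs.map (wordOfFree lts) := by
  refine ⟨?_, ?_, ?_⟩ <;> decide +kernel

/-- In the presented Held group, let H be the subgroup generated by the images of a, c, d, e, f, (ab)^2 and (bcde)^7. Then H has index 2058, there are four distinct H-orbits on the cosets of H other than H itself, of sizes 136, 136, 425 and 1360. -/
theorem result : (((Subgroup.closure ({Cfsg.Spor.He.a, Cfsg.Spor.He.c, Cfsg.Spor.He.d, Cfsg.Spor.He.e, Cfsg.Spor.He.f, (Cfsg.Spor.He.a * Cfsg.Spor.He.b) ^ 2, (Cfsg.Spor.He.b * Cfsg.Spor.He.c * Cfsg.Spor.He.d * Cfsg.Spor.He.e) ^ 7} : Set (FreeGroup Cfsg.Spor.He.Gen))).map (PresentedGroup.mk (Cfsg.Spor.coxRelators Cfsg.Spor.He.edges ∪ {r | r ∈ Cfsg.Spor.He.extra})))).index = 2058 ∧ ∃ q₁ q₂ q₃ q₄ : Cfsg.Spor.He ⧸ (((Subgroup.closure ({Cfsg.Spor.He.a, Cfsg.Spor.He.c,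 Cfsg.Spor.He.d, Cfsg.Spor.He.e, Cfsg.Spor.He.f, (Cfsg.Spor.He.a * Cfsg.Spor.He.b) ^ 2, (Cfsg.Spor.He.b * Cfsg.Spor.He.c * Cfsg.Spor.He.d * Cfsg.Spor.He.e) ^ 7} : Set (FreeGroup Cfsg.Spor.He.Gen))).map (PresentedGroup.mk (Cfsg.Spor.coxRelators Cfsg.Spor.He.edges ∪ {r | r ∈ Cfsg.Spor.He.extra})))), MulAction.orbit (((Subgroup.closure ({Cfsg.Spor.He.a, Cfsg.Spor.He.c, Cfsg.Spor.He.d, Cfsg.Spor.He.e, Cfsg.Spor.He.f, (Cfsg.Spor.He.a * Cfsg.Spor.He.b) ^ 2, (Cfsg.Spor.He.b * Cfsg.Spor.He.c * Cfsg.Spor.He.d * Cfsg.Spor.He.e) ^ 7} : Set (FreeGroup Cfsg.Spor.He.Gen))).map (PresentedGroup.mk (Cfsg.Spor.coxRelators Cfsg.Spor.He.edges ∪ {r | r ∈ Cfsg.Spor.He.extra})))) q₁ ≠ MulAction.orbit (((Subgroup.closure ({Cfsg.Spor.He.a, Cfsg.Spor.He.c, Cfsg.Spor.He.d, Cfsg.Spor.He.e, Cfsg.Spor.He.f, (Cfsg.Spor.He.a * Cfsg.Spor.He.b) ^ 2, (Cfsg.Spor.He.b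 * Cfsg.Spor.He.c * Cfsg.Spor.He.d * Cfsg.Spor.He.e) ^ 7} : Set (FreeGroup Cfsg.Spor.He.Gen))).map (PresentedGroup.mk (Cfsg.Spor.coxRelators Cfsg.Spor.He.edges ∪ {r | r ∈ Cfsg.Spor.He.extra})))) q₂ ∧ (MulAction.orbit (((Subgroup.closure ({Cfsg.Spor.He.a, Cfsg.Spor.He.c, Cfsg.Spor.He.d, Cfsg.Spor.He.e, Cfsg.Spor.He.f, (Cfsg.Spor.He.a * Cfsg.Spor.He.b) ^ 2, (Cfsg.Spor.He.b * Cfsg.Spor.He.c * Cfsg.Spor.He.d * Cfsg.Spor.He.e) ^ 7} : Set (FreeGroup Cfsg.Spor.He.Gen))).map (PresentedGroup.mk (Cfsg.Spor.coxRelators Cfsg.Spor.He.edges ∪ {r | r ∈ Cfsg.Spor.He.extra})))) q₁).ncard = 136 ∧ (MulAction.orbit (((Subgroup.closure ({Cfsg.Spor.He.a, Cfsg.Spor.He.c, Cfsg.Spor.He.d, Cfsg.Spor.He.e, Cfsg.Spor.He.f, (Cfsg.Spor.He.a * Cfsg.Spor.He.b) ^ 2, (Cfsg.Spor.He.b * Cfsg.Spor.He.c * Cfsg.Spor.He.d * Cfsg.Spor.He.e) ^ 7} : Set (FreeGroup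 Cfsg.Spor.He.Gen))).map (PresentedGroup.mk (Cfsg.Spor.coxRelators Cfsg.Spor.He.edges ∪ {r | r ∈ Cfsg.Spor.He.extra})))) q₂).ncard = 136 ∧ (MulAction.orbit (((Subgroup.closure ({Cfsg.Spor.He.a, Cfsg.Spor.He.c, Cfsg.Spor.He.d, Cfsg.Spor.He.e, Cfsg.Spor.He.f, (Cfsg.Spor.He.a * Cfsg.Spor.He.b) ^ 2, (Cfsg.Spor.He.b * Cfsg.Spor.He.c * Cfsg.Spor.He.d * Cfsg.Spor.He.e) ^ 7} : Set (FreeGroup Cfsg.Spor.He.Gen))).map (PresentedGroup.mk (Cfsg.Spor.coxRelators Cfsg.Spor.He.edges ∪ {r | r ∈ Cfsg.Spor.He.extra})))) q₃).ncard = 425 ∧ (MulAction.orbit (((Subgroup.closure ({Cfsg.Spor.He.a, Cfsg.Spor.He.c, Cfsg.Spor.He.d, Cfsg.Spor.He.e, Cfsg.Spor.He.f, (Cfsg.Spor.He.a * Cfsg.Spor.He.b) ^ 2, (Cfsg.Spor.He.b * Cfsg.Spor.He.c * Cfsg.Spor.He.d * Cfsg.Spor.He.e) ^ 7} : Set (FreeGroup Cfsg.Spor.He.Gen))).map (PresentedGroup.mk (Cfsg.Spor.coxRelators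 Cfsg.Spor.He.edges ∪ {r | r ∈ Cfsg.Spor.He.extra})))) q₄).ncard = 1360 := by
  obtain ⟨hidx, ρ, e, he0, heq, hρ⟩ := pres_coset_equiv (extra := Cfsg.Spor.He.extra) data.1 gens_all data.2.1
    subs data.2.2 Cfsg.Agent.Lib.CosetEnum.HeIdx.checked
  rw [set_eq]
  have key := fun r hr => orbit_ncard_of_labels subs data.2.2 Cfsg.Agent.Lib.CosetEnum.HeIdx.checked ρ _ rfl e heq hρ
    Cfsg.Agent.Lib.CosetEnum.HeIdx.lab Cfsg.Agent.Lib.CosetEnum.HeIdx.par Cfsg.Agent.Lib.CosetEnum.HeIdx.roots Cfsg.Agent.Lib.CosetEnum.HeIdx.orbit_all (by decide +kernel) r hr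
  obtain ⟨ho3, hn3⟩ := key ⟨37, by decide +kernel⟩ (by decide +kernel)
  rw [show CE.labelAt Cfsg.Agent.Lib.CosetEnum.HeIdx.lab ((37 : ℕ)) = 3 by decide +kernel] at hn3
  obtain ⟨ho4, hn4⟩ := key ⟨217, by decide +kernel⟩ (by decide +kernel)
  rw [show CE.labelAt Cfsg.Agent.Lib.CosetEnum.HeIdx.lab ((217 : ℕ)) = 4 by decide +kernel] at hn4
  obtain ⟨ho2, hn2⟩ := key ⟨8, by decide +kernel⟩ (by decide +kernel)
  rw [show CE.labelAt Cfsg.Agent.Lib.CosetEnum.HeIdx.lab ((8 : ℕ)) = 2 by decide +kernel] at hn2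
  obtain ⟨ho1, hn1⟩ := key ⟨1, by decide +kernel⟩ (by decide +kernel)
  rw [show CE.labelAt Cfsg.Agent.Lib.CosetEnum.HeIdx.lab ((1 : ℕ)) = 1 by decide +kernel] at hn1
  refine ⟨hidx, e ⟨37, by decide +kernel⟩, e ⟨217, by decide +kernel⟩, e ⟨8, by decide +kernel⟩, e ⟨1, by decide +kernel⟩, ?_, hn3.trans Cfsg.Agent.Lib.CosetEnum.HeIdx.count3, hn4.trans Cfsg.Agent.Lib.CosetEnum.HeIdx.count4, hn2.trans Cfsg.Agent.Lib.CosetEnum.HeIdx.count2, hn1.trans Cfsg.Agent.Lib.CosetEnum.HeIdx.count1⟩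
  intro hEq
  rw [ho3, ho4] at hEq
  have := (Set.image_injective.2 e.injective hEq).le (show (⟨37, by decide +kernel⟩ : Fin Cfsg.Agent.Lib.CosetEnum.HeIdx.cert.N) ∈ _ from rfl)
  revert this
  show CE.labelAt _ _ = CE.labelAt _ _ → False
  decide +kernel

end Cfsg.Agent.S1683
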