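import Cfsg.Statements.S1687
import Cfsg.Agent.Lib.CosetEnum.Fi22U6.Checked
import Cfsg.Agent.Lib.CosetEnum.Fi22U6.OrbitData
import Cfsg.Agent.Lib.CosetEnum.Pres
import Cfsg.Prelude.Def_Spor_Fi22

set_option autoImplicit false
open Cfsg

namespace Cfsg.Agent.S1687

open Cfsg.Spor Cfsg.Agent.Lib.CosetEnum

/-- the letters of the table -/
def lts : List (Cfsg.Spor.Fi22.Gen × Bool) := [(.a, true), (.b, true), (.c, true), (.d, true), (.e, true), (.f, true), (.g, true), (.h, true), (.i, true)]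

/-- all generators -/
def gens : List Cfsg.Spor.Fi22.Gen := [.a, .b, .c, .d, .e, .f, .g, .h, .i]

theorem gens_all : ∀ g : Cfsg.Spor.Fi22.Gen, g ∈ gens := fun g => by cases g <;> decide

/-- the generators of the subgroup -/
abbrev subs : List (FreeGroup Cfsg.Spor.Fi22.Gen) :=
  [Cfsg.Spor.Fi22.a, Cfsg.Spor.Fi22.c, Cfsg.Spor.Fi22.d, Cfsg.Spor.Fi22.e, Cfsg.Spor.Fi22.f, Cfsg.Spor.Fi22.g, Cfsg.Spor.Fi22.h, Cfsg.Spor.Fi22.i, (Cfsg.Spor.Fi22.a * Cfsg.Spor.Fi22.b * Cfsg.Spor.Fi22.c * Cfsg.Spor.Fi22.d * Cfsg.Spor.Fi22.e * Cfsg.Spor.Fi22.h) ^ 5]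

theorem set_eq : ({Cfsg.Spor.Fi22.a, Cfsg.Spor.Fi22.c, Cfsg.Spor.Fi22.d, Cfsg.Spor.Fi22.e, Cfsg.Spor.Fi22.f, Cfsg.Spor.Fi22.g, Cfsg.Spor.Fi22.h, Cfsg.Spor.Fi22.i, (Cfsg.Spor.Fi22.a * Cfsg.Spor.Fi22.b * Cfsg.Spor.Fi22.c * Cfsg.Spor.Fi22.d * Cfsg.Spor.Fi22.e * Cfsg.Spor.Fi22.h) ^ 5} : Set (FreeGroup Cfsg.Spor.Fi22.Gen)) = {x | x ∈ subs} := by
  ext x
  simp [subs]

theorem data : presOk Cfsg.Agent.Lib.CosetEnum.Fi22U6.cert lts Cfsg.Spor.Fi22.edges gens ∧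
    Cfsg.Agent.Lib.CosetEnum.Fi22U6.cert.rels = presWords lts Cfsg.Spor.Fi22.edges Cfsg.Spor.Fi22.extra ∧
    Cfsg.Agent.Lib.CosetEnum.Fi22U6.cert.subs = subs.map (wordOfFree lts) := by
  refine ⟨?_, ?_, ?_⟩ <;> decide +kernel

/-- In the presented Fischer group Fi₂₂, let H be the subgroup generated by the images of a, c, d, e, f, g, h, i and (abcdeh)^5. Then H has index 3510, H has orbits of sizes 693 and 2816 on the cosets of H other than H itself. -/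
theorem result : (((Subgroup.closure ({Cfsg.Spor.Fi22.a, Cfsg.Spor.Fi22.c, Cfsg.Spor.Fi22.d, Cfsg.Spor.Fi22.e, Cfsg.Spor.Fi22.f, Cfsg.Spor.Fi22.g, Cfsg.Spor.Fi22.h, Cfsg.Spor.Fi22.i, (Cfsg.Spor.Fi22.a * Cfsg.Spor.Fi22.b * Cfsg.Spor.Fi22.c * Cfsg.Spor.Fi22.d * Cfsg.Spor.Fi22.e * Cfsg.Spor.Fi22.h) ^ 5} : Set (FreeGroup Cfsg.Spor.Fi22.Gen))).map (PresentedGroup.mk (Cfsg.Spor.coxRelators Cfsg.Spor.Fi22.edges ∪ {r | r ∈ Cfsg.Spor.Fi22.extra})))).index = 3510 ∧ ∃ q₁ q₂ : Cfsg.Spor.Fi22 ⧸ (((Subgroup.closure ({Cfsg.Spor.Fi22.a, Cfsg.Spor.Fi22.c, Cfsg.Spor.Fi22.d, Cfsg.Spor.Fi22.e, Cfsg.Spor.Fi22.f, Cfsg.Spor.Fi22.g, Cfsg.Spor.Fi22.h, Cfsg.Spor.Fi22.i, (Cfsg.Spor.Fi22.a * Cfsg.Spor.Fi22.b * Cfsg.Spor.Fi22.c * Cfsg.Spor.Fi22.d * Cfsg.Spor.Fi22.e * Cfsg.Spor.Fi22.h) ^ 5} : Set (FreeGroup Cfsg.Spor.Fi22.Gen))).map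 (PresentedGroup.mk (Cfsg.Spor.coxRelators Cfsg.Spor.Fi22.edges ∪ {r | r ∈ Cfsg.Spor.Fi22.extra})))), (MulAction.orbit (((Subgroup.closure ({Cfsg.Spor.Fi22.a, Cfsg.Spor.Fi22.c, Cfsg.Spor.Fi22.d, Cfsg.Spor.Fi22.e, Cfsg.Spor.Fi22.f, Cfsg.Spor.Fi22.g, Cfsg.Spor.Fi22.h, Cfsg.Spor.Fi22.i, (Cfsg.Spor.Fi22.a * Cfsg.Spor.Fi22.b * Cfsg.Spor.Fi22.c * Cfsg.Spor.Fi22.d * Cfsg.Spor.Fi22.e * Cfsg.Spor.Fi22.h) ^ 5} : Set (FreeGroup Cfsg.Spor.Fi22.Gen))).map (PresentedGroup.mk (Cfsg.Spor.coxRelators Cfsg.Spor.Fi22.edges ∪ {r | r ∈ Cfsg.Spor.Fi22.extra})))) q₁).ncard = 693 ∧ (MulAction.orbit (((Subgroup.closure ({Cfsg.Spor.Fi22.a, Cfsg.Spor.Fi22.c, Cfsg.Spor.Fi22.d, Cfsg.Spor.Fi22.e, Cfsg.Spor.Fi22.f, Cfsg.Spor.Fi22.g, Cfsg.Spor.Fi22.h, Cfsg.Spor.Fi22.i, (Cfsg.Spor.Fi22.a * Cfsg.Spor.Fi22.b * Cfsg.Spor.Fi22.c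 * Cfsg.Spor.Fi22.d * Cfsg.Spor.Fi22.e * Cfsg.Spor.Fi22.h) ^ 5} : Set (FreeGroup Cfsg.Spor.Fi22.Gen))).map (PresentedGroup.mk (Cfsg.Spor.coxRelators Cfsg.Spor.Fi22.edges ∪ {r | r ∈ Cfsg.Spor.Fi22.extra})))) q₂).ncard = 2816 := by
  obtain ⟨hidx, ρ, e, he0, heq, hρ⟩ := pres_coset_equiv (extra := Cfsg.Spor.Fi22.extra) data.1 gens_all data.2.1
    subs data.2.2 Cfsg.Agent.Lib.CosetEnum.Fi22U6.checked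
  rw [set_eq]
  have key := fun r hr => orbit_ncard_of_labels subs data.2.2 Cfsg.Agent.Lib.CosetEnum.Fi22U6.checked ρ _ rfl e heq hρ
    Cfsg.Agent.Lib.CosetEnum.Fi22U6.lab Cfsg.Agent.Lib.CosetEnum.Fi22U6.par Cfsg.Agent.Lib.CosetEnum.Fi22U6.roots Cfsg.Agent.Lib.CosetEnum.Fi22U6.orbit_all (by decide +kernel) r hr
  obtain ⟨ho2, hn2⟩ := key ⟨7, by decide +kernel⟩ (by decide +kernel)
  rw [show CE.labelAt Cfsg.Agent.Lib.CosetEnum.Fi22U6.lab ((7 : ℕ)) = 2 by decide +kernel] at hn2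
  obtain ⟨ho1, hn1⟩ := key ⟨1, by decide +kernel⟩ (by decide +kernel)
  rw [show CE.labelAt Cfsg.Agent.Lib.CosetEnum.Fi22U6.lab ((1 : ℕ)) = 1 by decide +kernel] at hn1
  refine ⟨hidx, e ⟨7, by decide +kernel⟩, e ⟨1, by decide +kernel⟩, hn2.trans Cfsg.Agent.Lib.CosetEnum.Fi22U6.count2, hn1.trans Cfsg.Agent.Lib.CosetEnum.Fi22U6.count1⟩

end Cfsg.Agent.S1687
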