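import Cfsg.Statements.S1691

set_option autoImplicit false
open Cfsg

namespace Cfsg.Agent.S1691

open Cfsg.Spor

/-- The sign of each generator in `Multiplicative (ZMod 2)`. -/
def sgnGen : Fi24.Gen → Multiplicative (ZMod 2) := fun _ => Multiplicative.ofAdd 1

theorem sgn_rels : ∀ r ∈ (coxRelators Fi24.edges ∪ {r | r ∈ Fi24.extra}),
    FreeGroup.lift sgnGen r = 1 := by
  intro r hr
  rcases hr with ⟨x, hx, y, hy, rfl⟩ | hr
  · simp only [map_pow, map_mul, FreeGroup.lift_apply_of]
    have : sgnGen x * sgnGen y = 1 := by simp only [sgnGen]; decide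
    rw [this, one_pow]
  · simp only [Set.mem_setOf_eq, Fi24.extra, List.mem_cons, List.not_mem_nil, or_false] at hr
    rcases hr with rfl | rfl <;>
      · simp only [map_pow, map_mul, map_inv, FreeGroup.lift_apply_of, sgnGen]
        decide

/-- The sign homomorphism. -/
def sgnHom : Fi24 →* Multiplicative (ZMod 2) := PresentedGroup.toGroup sgn_rels

theorem gen_eq (x : Fi24.Gen) :
    (Abelianization.of (PresentedGroup.of x : Fi24)) =
      Abelianization.of (PresentedGroup.of Fi24.Gen.d : Fi24) := by
  have key : ∀ (u v : Fi24.Gen) (k : ℕ), u ∈ coxNodes Fi24.edges → v ∈ coxNodes Fi24.edges →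
      coxLabel Fi24.edges u v = k →
      (Abelianization.of (PresentedGroup.of u : Fi24) *
        Abelianization.of (PresentedGroup.of v : Fi24)) ^ k = 1 := by
    intro u v k hu hv hk
    have h1 : ((PresentedGroup.of u : Fi24) * PresentedGroup.of v) ^ k = 1 :=
      (QuotientGroup.eq_one_iff _).2 (Subgroup.subset_normalClosure
        (Or.inl ⟨u, hu, v, hv, by rw [hk]⟩))
    rw [← map_mul, ← map_pow, h1, map_one]
  have sq : ∀ u : Fi24.Gen, u ∈ coxNodes Fi24.edges →
      Abelianization.of (PresentedGroup.of u : Fi24) *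
        Abelianization.of (PresentedGroup.of u : Fi24) = 1 := by
    intro u hu
    have := key u u 1 hu hu (by simp [coxLabel])
    simpa using this
  have braid : ∀ u v : Fi24.Gen, u ∈ coxNodes Fi24.edges → v ∈ coxNodes Fi24.edges →
      coxLabel Fi24.edges u v = 3 →
      Abelianization.of (PresentedGroup.of u : Fi24) =
        Abelianization.of (PresentedGroup.of v : Fi24) := by
    intro u v hu hv h
    have h3 := key u v 3 hu hv h
    rw [mul_pow, pow_succ, pow_two, sq u hu, one_mul, pow_succ, pow_two, sq v hv, one_mul] at h3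
    calc Abelianization.of (PresentedGroup.of u : Fi24)
        = Abelianization.of (PresentedGroup.of u : Fi24) *
          (Abelianization.of (PresentedGroup.of v : Fi24) *
            Abelianization.of (PresentedGroup.of v : Fi24)) := by rw [sq v hv, mul_one]
      _ = _ := by rw [← mul_assoc, h3, one_mul]
  have hc := braid .c .d (by decide) (by decide) (by decide)
  have hb := (braid .b .c (by decide) (by decide) (by decide)).trans hc
  have ha := (braid .a .b (by decide) (by decide) (by decide)).trans hb
  have hk := (braid .k .a (by decide) (by decide) (by decide)).trans ha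
  have hl := (braid .l .k (by decide) (by decide) (by decide)).trans hk
  have he := braid .e .d (by decide) (by decide) (by decide)
  have hf := (braid .f .e (by decide) (by decide) (by decide)).trans he
  have hg := (braid .g .f (by decide) (by decide) (by decide)).trans hf
  have hj := (braid .j .g (by decide) (by decide) (by decide)).trans hg
  have hh := braid .h .d (by decide) (by decide) (by decide)
  have hi := (braid .i .h (by decide) (by decide) (by decide)).trans hh
  cases x <;> first | assumption | rfl


/-- The commutator subgroup of the presented group Fi₂₄ has index 2 (the presented group is Fi₂₄′:2 with Fi₂₄′ its derived subgroup). -/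
theorem result : (commutator Cfsg.Spor.Fi24).index = 2 := by
  have hker : commutator Cfsg.Spor.Fi24 = sgnHom.ker := by
    apply le_antisymm (Abelianization.commutator_subset_ker _)
    intro g hg
    rw [MonoidHom.mem_ker] at hg
    have hgen : ∀ g : Cfsg.Spor.Fi24, ∃ n : ℤ,
        Abelianization.of g = Abelianization.of (PresentedGroup.of Cfsg.Spor.Fi24.Gen.d : Cfsg.Spor.Fi24) ^ n := by
      intro g
      have hmem : g ∈ (Subgroup.zpowers
          (Abelianization.of (PresentedGroup.of Cfsg.Spor.Fi24.Gen.d : Cfsg.Spor.Fi24))).comap Abelianization.of :=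
        PresentedGroup.generated_by _ _ (fun x => by
          rw [Subgroup.mem_comap, gen_eq x]; exact Subgroup.mem_zpowers _) g
      obtain ⟨n, hn⟩ := Subgroup.mem_zpowers_iff.1 hmem
      exact ⟨n, hn.symm⟩
    obtain ⟨n, hn⟩ := hgen g
    have hsg : sgnHom g = (Abelianization.lift sgnHom) (Abelianization.of g) :=
      (Abelianization.lift_apply_of sgnHom g).symm
    rw [hsg, hn, map_zpow, Abelianization.lift_apply_of] at hg
    have hd : sgnHom (PresentedGroup.of Cfsg.Spor.Fi24.Gen.d) = Multiplicative.ofAdd (1 : ZMod 2) :=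
      PresentedGroup.toGroup.of _
    rw [hd, ← ofAdd_zsmul, ofAdd_eq_one, zsmul_one] at hg
    obtain ⟨k, hk⟩ := (ZMod.intCast_zmod_eq_zero_iff_dvd n 2).1 hg
    have hsq : Abelianization.of (PresentedGroup.of Cfsg.Spor.Fi24.Gen.d : Cfsg.Spor.Fi24) ^ (2 : ℤ) = 1 := by
      rw [show (2 : ℤ) = ((2 : ℕ) : ℤ) from rfl, zpow_natCast, ← map_pow]
      have h1 : (PresentedGroup.of Cfsg.Spor.Fi24.Gen.d : Cfsg.Spor.Fi24) ^ 2 = 1 := by
        have h := (QuotientGroup.eq_one_iff _).2 (Subgroup.subset_normalClosure
          (s := Cfsg.Spor.coxRelators Cfsg.Spor.Fi24.edges ∪ {r | r ∈ Cfsg.Spor.Fi24.extra})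
          (Or.inl ⟨Cfsg.Spor.Fi24.Gen.d, by decide, Cfsg.Spor.Fi24.Gen.d, by decide, rfl⟩))
        rw [show Cfsg.Spor.coxLabel Cfsg.Spor.Fi24.edges .d .d = 1 by decide, pow_one] at h
        rw [pow_two]
        exact h
      rw [h1, map_one]
    have h1 : Abelianization.of g = 1 := by
      rw [hn, hk, Nat.cast_ofNat, zpow_mul, hsq, one_zpow]
    exact (QuotientGroup.eq_one_iff g).1 h1
  rw [hker, Subgroup.index_ker]
  have hsurj : sgnHom.range = ⊤ := by
    rw [MonoidHom.range_eq_top]
    intro x
    have : x = 1 ∨ x = Multiplicative.ofAdd (1 : ZMod 2) := by revert x; decide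
    rcases this with rfl | rfl
    · exact ⟨1, map_one _⟩
    · exact ⟨PresentedGroup.of Cfsg.Spor.Fi24.Gen.d, PresentedGroup.toGroup.of _⟩
  rw [hsurj, Subgroup.card_top, Nat.card_eq_fintype_card]
  rfl

end Cfsg.Agent.S1691
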