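import Cfsg.Statements.S1717
-- import your own Cfsg.Agent.* helpers here

set_option autoImplicit false
open Cfsg

namespace Cfsg.Agent.S1717

open Matrix

local notation "SL5" => Matrix.SpecialLinearGroup (Fin 5) (ZMod 2)

/-- The underlying matrix. -/
abbrev mat (M : SL5) : Matrix (Fin 5) (Fin 5) (ZMod 2) := M.1

theorem mat_mul (M N : SL5) : mat (M * N) = mat M * mat N := rfl

theorem mat_one : mat (1 : SL5) = 1 := rfl

/-- The rank of an index in the ordering 0, 2, 3, 4, 1. -/
def rk : Fin 5 → Fin 5 := ![0, 4, 1, 2, 3]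

/-- The same ordering as an equivalence. -/
def ord : Fin 5 ≃ Fin 5 where
  toFun := rk
  invFun := ![0, 2, 3, 4, 1]
  left_inv := by decide
  right_inv := by decide

/-- Unitriangular matrices for the ordering 0, 2, 3, 4, 1. -/
def uniMonoid : Submonoid SL5 :=
    { carrier := {M | (mat M).BlockTriangular rk ∧
        ∀ i, (mat M) i i = 1}
      one_mem' := ⟨by rw [mat_one]; exact blockTriangular_one,
        fun i => by rw [mat_one, one_apply_eq]⟩
      mul_mem' := by
        rintro M N ⟨hM, hM1⟩ ⟨hN, hN1⟩
        refine ⟨by rw [mat_mul]; exact hM.mul hN, fun i => ?_⟩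
        rw [mat_mul, mul_apply, Finset.sum_eq_single i]
        · rw [hM1, hN1, one_mul]
        · intro j _ hj
          rcases lt_trichotomy (rk j) (rk i) with hlt | heq | hgt
          · rw [hM hlt, zero_mul]
          · exact absurd (ord.injective heq) hj
          · rw [hN hgt, mul_zero]
        · intro hi; exact absurd (Finset.mem_univ i) hi }

/-- Unitriangular matrices as a subgroup. -/
def uni : Subgroup SL5 :=
  { uniMonoid with
    inv_mem' := fun {x} hx => by
      have h : x⁻¹ = x ^ (orderOf x - 1) := by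
        rw [inv_eq_iff_mul_eq_one, ← pow_succ', Nat.sub_add_cancel (orderOf_pos x), pow_orderOf_eq_one]
      rw [h]
      exact pow_mem (S := uniMonoid) hx _ }

theorem mem_uni {M : SL5} : M ∈ uni ↔ (mat M).BlockTriangular rk ∧
    ∀ i, (mat M) i i = 1 := Iff.rfl

theorem det_uni (M : Matrix (Fin 5) (Fin 5) (ZMod 2)) (h : M.BlockTriangular rk)
    (h1 : ∀ i, M i i = 1) : M.det = 1 := by
  have hup : (M.submatrix ord.symm ord.symm).BlockTriangular id := by
    intro i j hij
    exact h (show rk (ord.symm j) < rk (ord.symm i) by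
      rw [show rk (ord.symm j) = j from ord.apply_symm_apply j,
        show rk (ord.symm i) = i from ord.apply_symm_apply i]
      exact hij)
  rw [← det_submatrix_equiv_self ord.symm M, det_of_isUpperTriangular hup]
  exact Finset.prod_eq_one fun i _ => h1 _

/-- The free positions. -/
abbrev Pos : Type := {p : Fin 5 × Fin 5 // rk p.1 < rk p.2}

theorem card_uni : Nat.card uni = 2 ^ 10 := by
  classical
  have e : uni ≃ (Pos → ZMod 2) :=
    { toFun := fun M p => mat (M : SL5) p.1.1 p.1.2
      invFun := fun f =>
        let M : Matrix (Fin 5) (Fin 5) (ZMod 2) := Matrix.of fun i j =>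
          if h : rk i < rk j then f ⟨(i, j), h⟩ else if i = j then 1 else 0
        have hb : M.BlockTriangular rk := fun i j hij => by
          simp only [M, of_apply]
          rw [dif_neg (not_lt.2 hij.le), if_neg (fun h => by rw [h] at hij; exact lt_irrefl _ hij)]
        have hd : ∀ i, M i i = 1 := fun i => by simp [M]
        ⟨⟨M, det_uni M hb hd⟩, hb, hd⟩
      left_inv := fun M => by
        obtain ⟨M, hb, hd⟩ := M
        apply Subtype.ext
        apply Subtype.ext
        ext i j
        simp only [of_apply]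
        split_ifs with h1 h2
        · rfl
        · subst h2; exact (hd i).symm
        · exact (hb (lt_of_le_of_ne (not_lt.1 h1) (fun h => h2 (ord.injective h.symm)))).symm
      right_inv := fun f => funext fun p => by
        show (if h : rk p.1.1 < rk p.1.2 then f ⟨(p.1.1, p.1.2), h⟩ else _) = f p
        rw [dif_pos p.2] }
  rw [Nat.card_congr e, Nat.card_eq_fintype_card, Fintype.card_fun, ZMod.card]
  congr 1

theorem transvection_mem (a b : Fin 5) (h : rk a < rk b) :
    ∃ u ∈ uni, (mat u) = transvection a b 1 := by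
  have hab : a ≠ b := fun e => by rw [e] at h; exact lt_irrefl _ h
  refine ⟨⟨transvection a b 1, det_transvection_of_ne a b hab 1⟩, ⟨?_, ?_⟩, rfl⟩
  · exact (blockTriangular_transvection (b := rk) h.le 1)
  · intro i
    show transvection a b (1 : ZMod 2) i i = 1
    simp only [transvection, Matrix.add_apply, one_apply_eq]
    rw [single_apply_of_ne]
    · simp
    · rintro ⟨rfl, rfl⟩; exact hab rfl

theorem uni_le (s : SL5) (hs : (mat s) = transvection 0 1 1) :
    uni ≤ Subgroup.centralizer {s} := by
  intro u hu
  rw [Subgroup.mem_centralizer_iff]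
  rintro x rfl
  obtain ⟨hb, hd⟩ := hu
  apply Subtype.ext
  show mat x * mat u = mat u * mat x
  rw [show mat x = transvection 0 1 1 from hs]
  ext i j
  simp only [transvection, add_mul, mul_add, one_mul, mul_one, Matrix.add_apply]
  congr 1
  by_cases hi : i = 0 <;> by_cases hj : j = 1
  · subst hi; subst hj
    rw [single_mul_apply_same, mul_single_apply_same, hd, hd]
  · subst hi
    rw [single_mul_apply_same, mul_single_apply_of_ne _ _ _ _ _ (Ne.intro fun h => hj h)]
    rw [hb, mul_zero]
    revert hj; revert j; decide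
  · subst hj
    rw [single_mul_apply_of_ne _ _ _ _ _ hi, mul_single_apply_same, hb, zero_mul]
    revert hi; revert i; decide
  · rw [single_mul_apply_of_ne _ _ _ _ _ hi, mul_single_apply_of_ne _ _ _ _ _ hj]

theorem commuting_with_uni (s : SL5)
    (hs : (mat s) = transvection 0 1 1) (M : SL5)
    (h : ∀ u ∈ uni, M * u = u * M) : M = 1 ∨ M = s := by
  have hc : ∀ a b : Fin 5, rk a < rk b → ∀ i j,
      (if j = b then (mat M) i a else 0) =
        if i = a then (mat M) b j else 0 := by
    intro a b hab i j
    obtain ⟨u, hu, hu'⟩ := transvection_mem a b hab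
    have := congrArg mat (h u hu)
    simp only [mat_mul, hu', transvection, add_mul, mul_add, one_mul,
      mul_one] at this
    have h1 := add_left_cancel this
    have h2 := congrFun (congrFun h1 i) j
    by_cases hj : j = b <;> by_cases hi : i = a <;>
      simp [hi, hj] at h2 ⊢ <;> exact h2
  set A : Matrix (Fin 5) (Fin 5) (ZMod 2) := (mat M) with hA
  have hdiag : ∀ a, A a a = A 1 1 := by
    intro a
    by_cases ha : a = 1
    · rw [ha]
    · have := hc a 1 (by revert ha; revert a; decide) a 1
      simpa using this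
  have hoff : ∀ i j, i ≠ j → (i ≠ 0 ∨ j ≠ 1) → A i j = 0 := by
    intro i j hij hor
    rcases hor with hi | hj
    · have := hc 0 i (by clear hij; revert hi; revert i; decide) 0 j
      simpa [Ne.symm hij] using this.symm
    · have := hc j 1 (by clear hij; revert hj; revert j; decide) i 1
      simpa [hij] using this
  have h11 : A 1 1 = 1 := by
    by_contra hne
    have h0 : A 1 1 = 0 := by
      generalize A 1 1 = x at hne
      revert x; decide
    have hdet : A.det = 1 := M.2
    have hrow : ∀ j, A 2 j = 0 := fun j => by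
      by_cases hj : j = 2
      · rw [hj, hdiag, h0]
      · exact hoff 2 j (Ne.symm hj) (Or.inl (by decide))
    rw [det_eq_zero_of_row_eq_zero 2 hrow] at hdet
    exact zero_ne_one hdet
  have hval : A 0 1 = 0 ∨ A 0 1 = 1 := by generalize A 0 1 = x; revert x; decide
  rcases hval with h0 | h0
  · left
    apply Subtype.ext
    ext i j
    show A i j = (1 : Matrix (Fin 5) (Fin 5) (ZMod 2)) i j
    by_cases hij : i = j
    · rw [hij, one_apply_eq, hdiag, h11]
    · rw [one_apply_ne hij]
      by_cases hh : i = 0 ∧ j = 1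
      · rw [hh.1, hh.2, h0]
      · exact hoff i j hij (not_and_or.1 hh)
  · right
    apply Subtype.ext
    ext i j
    show A i j = mat s i j
    rw [show mat s = transvection 0 1 1 from hs]
    simp only [transvection, Matrix.add_apply]
    by_cases hij : i = j
    · rw [hij, one_apply_eq, hdiag, h11, single_apply_of_ne]
      · simp
      · rintro ⟨e1, e2⟩; rw [← e1] at e2; exact absurd e2 (by decide)
    · rw [one_apply_ne hij, zero_add]
      by_cases hh : i = 0 ∧ j = 1
      · rw [hh.1, hh.2, h0, single_apply_same]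
      · rw [single_apply_of_ne _ _ _ _ _ (fun e => hh ⟨e.1.symm, e.2.symm⟩)]
        exact hoff i j hij (not_and_or.1 hh)

theorem card_SL5_dvd : Nat.card SL5 ∣ 9999360 := by
  have h := Subgroup.card_dvd_of_injective (SpecialLinearGroup.toGL (n := Fin 5) (R := ZMod 2))
    SpecialLinearGroup.toGL_injective
  rw [Matrix.card_GL_field] at h
  simpa [Fin.prod_univ_five] using h


/-- Let G be a finite group with an involution z whose centraliser C is isomorphic to the centraliser of a transvection of SL(5, 2). Then a Sylow 2-subgroup of C, viewed in G, is a Sylow 2-subgroup of G (its index in G is odd). -/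
theorem result {G : Type*} [Group G] [Finite G] (s : Matrix.SpecialLinearGroup (Fin 5) (ZMod 2)) (hs : (s : Matrix (Fin 5) (Fin 5) (ZMod 2)) = Matrix.transvection 0 1 1) (z : G) (hz : orderOf z = 2) (e : (Subgroup.centralizer ({z} : Set G)) ≃* Subgroup.centralizer ({s} : Set (Matrix.SpecialLinearGroup (Fin 5) (ZMod 2)))) (T : Sylow 2 (Subgroup.centralizer ({z} : Set G))) : ¬ 2 ∣ ((T : Subgroup (Subgroup.centralizer ({z} : Set G))).map (Subgroup.subtype (Subgroup.centralizer ({z} : Set G)))).index := by
  classical
  let C := Subgroup.centralizer ({z} : Set G)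
  set D := Subgroup.centralizer ({s} : Set SL5) with hD
  set Ts : Sylow 2 D := T.comapOfInjective e.symm.toMonoidHom e.symm.injective
    (by rw [MonoidHom.range_eq_top.2 e.symm.surjective]; exact le_top) with hTs
  -- the Sylow subgroup from unitriangular matrices
  have hUcard : Nat.card (uni.subgroupOf D) = 2 ^ 10 := by
    rw [Nat.card_congr (Subgroup.subgroupOfEquivOfLe (uni_le s hs)).toEquiv, card_uni]
  obtain ⟨P0, hP0⟩ := (IsPGroup.of_card hUcard).exists_le_sylow
  have hP0eq : (P0 : Subgroup D) = uni.subgroupOf D := by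
    refine (Subgroup.eq_of_le_of_card_ge hP0 ?_).symm
    obtain ⟨k, hk⟩ := P0.2.exists_card_eq
    have hdvd : 2 ^ k ∣ 9999360 := by
      rw [← hk]
      exact ((Subgroup.card_subgroup_dvd_card _).trans (Subgroup.card_subgroup_dvd_card _)).trans
        card_SL5_dvd
    rw [hk, hUcard]
    by_contra hlt
    have : 11 ≤ k := by
      by_contra h; exact hlt (Nat.pow_le_pow_right (by norm_num) (by omega))
    exact absurd ((pow_dvd_pow 2 this).trans hdvd) (by norm_num)
  obtain ⟨c, hc⟩ := MulAction.exists_smul_eq D Ts P0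
  have hs_central : ∀ d : D, (d : SL5) * s = s * d := fun d =>
    (Subgroup.mem_centralizer_singleton_iff.1 d.2)
  -- an element of C commuting with T is 1 or z
  have hez : ∀ x : C, (∀ t ∈ (T : Subgroup C), x * t = t * x) →
      (e x : SL5) = 1 ∨ (e x : SL5) = s := by
    intro x hx
    have hcomm : ∀ u ∈ uni, ((c * e x * c⁻¹ : D) : SL5) * u = u * ((c * e x * c⁻¹ : D) : SL5) := by
      intro u hu
      have hmem : (⟨u, uni_le s hs hu⟩ : D) ∈ (P0 : Subgroup D) := by
        rw [hP0eq]; exact hu
      rw [← hc, Sylow.coe_subgroup_smul, Subgroup.mem_pointwise_smul_iff_inv_smul_mem] at hmem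
      have ht : e.symm ((MulAut.conj c)⁻¹ • (⟨u, uni_le s hs hu⟩ : D)) ∈ (T : Subgroup C) := hmem
      have := congrArg e (hx _ ht)
      rw [map_mul, map_mul, e.apply_symm_apply] at this
      have h2 : ((MulAut.conj c)⁻¹ • (⟨u, uni_le s hs hu⟩ : D)) = c⁻¹ * ⟨u, uni_le s hs hu⟩ * c := by
        simp [MulAut.smul_def]
      rw [h2] at this
      have h3 : c * e x * c⁻¹ * ⟨u, uni_le s hs hu⟩ = ⟨u, uni_le s hs hu⟩ * (c * e x * c⁻¹) := by
        calc c * e x * c⁻¹ * ⟨u, uni_le s hs hu⟩
            = c * (e x * (c⁻¹ * ⟨u, uni_le s hs hu⟩ * c)) * c⁻¹ := by group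
          _ = c * ((c⁻¹ * ⟨u, uni_le s hs hu⟩ * c) * e x) * c⁻¹ := by rw [this]
          _ = _ := by group
      exact congrArg (fun d : D => (d : SL5)) h3
    have hcs : c * (e x) * c⁻¹ = 1 ∨ ((c * e x * c⁻¹ : D) : SL5) = s := by
      rcases commuting_with_uni s hs _ hcomm with h | h
      · exact Or.inl (Subtype.ext h)
      · exact Or.inr h
    rcases hcs with h | h
    · left
      rw [conj_eq_one_iff] at h
      rw [h]; rfl
    · right
      have : ((e x : D) : SL5) = (c : SL5)⁻¹ * ((c * e x * c⁻¹ : D) : SL5) * c := by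
        push_cast; group
      rw [this, h, mul_assoc, ← hs_central c, inv_mul_cancel_left]
  have hzC : z ∈ C := Subgroup.mem_centralizer_singleton_iff.2 rfl
  let z' : C := ⟨z, hzC⟩
  have hzc : ∀ x : C, z' * x = x * z' := fun x =>
    Subtype.ext (Subgroup.mem_centralizer_singleton_iff.1 x.2).symm
  have hez' : (e z' : SL5) = s := by
    rcases hez z' (fun t _ => hzc t) with h | h
    · exfalso
      have : e z' = e 1 := by rw [map_one]; exact Subtype.ext h
      have hz1 : z = 1 := congrArg (fun x : C => (x : G)) (e.injective this)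
      rw [hz1, orderOf_one] at hz; omega
    · exact h
  have hzT : z' ∈ (T : Subgroup C) := by
    have hnormal : (Subgroup.zpowers z').Normal := ⟨fun n hn g => by
      obtain ⟨k, rfl⟩ := Subgroup.mem_zpowers_iff.1 hn
      have : Commute g (z' ^ k) := (show Commute g z' from (hzc g).symm).zpow_right k
      rw [this.eq, mul_inv_cancel_right]; exact Subgroup.mem_zpowers_iff.2 ⟨k, rfl⟩⟩
    have hp : IsPGroup 2 (Subgroup.zpowers z') := IsPGroup.of_card (n := 1) (by
      rw [Nat.card_zpowers, pow_one, ← hz, ← Subgroup.orderOf_coe])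
    have hle := T.3 (T.2.to_sup_of_normal_right hp) le_sup_left
    rw [← hle]
    exact Subgroup.mem_sup_right (Subgroup.mem_zpowers z')
  set T' : Subgroup G := (T : Subgroup C).map C.subtype with hT'
  have hT'p : IsPGroup 2 T' := T.2.map _
  obtain ⟨P, hP⟩ := hT'p.exists_le_sylow
  have hPT : (P : Subgroup G) = T' := by
    by_contra hne
    have hlt : T' < (P : Subgroup G) := lt_of_le_of_ne hP (Ne.symm hne)
    have hnc : Group.IsNilpotent (P : Subgroup G) := P.2.isNilpotent
    have hsub : T'.subgroupOf (P : Subgroup G) < ⊤ := lt_top_iff_ne_top.2 (fun h =>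
      not_le_of_gt hlt (Subgroup.subgroupOf_eq_top.1 h))
    obtain ⟨g, hgN, hgT⟩ := SetLike.exists_of_lt
      (Group.normalizerCondition_of_isNilpotent (G := (P : Subgroup G)) _ hsub)
    have hconj : ∀ t : G, t ∈ T' → (g : G)⁻¹ * t * g ∈ T' ∧ (g : G) * t * (g : G)⁻¹ ∈ T' := by
      intro t ht
      have htP : t ∈ (P : Subgroup G) := hP ht
      constructor
      · have := (Subgroup.mem_normalizer_iff''.1 hgN ⟨t, htP⟩).1 ht
        exact this
      · have := (Subgroup.mem_normalizer_iff.1 hgN ⟨t, htP⟩).1 ht
        exact this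
    have hzT' : z ∈ T' := ⟨z', hzT, rfl⟩
    obtain ⟨y, hyT, hy⟩ := (hconj z hzT').2
    have hycomm : ∀ t ∈ (T : Subgroup C), y * t = t * y := by
      intro t ht
      obtain ⟨t2, ht2, ht2e⟩ := (hconj (t : G) ⟨t, ht, rfl⟩).1
      apply Subtype.ext
      change (y : G) * (t : G) = (t : G) * (y : G)
      have hz2 : z * ((g : G)⁻¹ * t * g) = ((g : G)⁻¹ * t * g) * z := by
        rw [← ht2e]; exact congrArg (fun x : C => (x : G)) (hzc t2)
      rw [show (y : G) = (g : G) * z * (g : G)⁻¹ from hy]
      calc (g : G) * z * (g : G)⁻¹ * t = g * (z * ((g : G)⁻¹ * t * g)) * (g : G)⁻¹ := by group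
        _ = g * ((g : G)⁻¹ * t * g * z) * (g : G)⁻¹ := by rw [hz2]
        _ = _ := by group
    have hyz : y = z' := by
      rcases hez y hycomm with h | h
      · exfalso
        have : e y = e 1 := by rw [map_one]; exact Subtype.ext h
        have hy1 : (y : G) = 1 := congrArg (fun x : C => (x : G)) (e.injective this)
        rw [show (y : G) = (g : G) * z * (g : G)⁻¹ from hy, conj_eq_one_iff] at hy1
        rw [hy1, orderOf_one] at hz; omega
      · exact e.injective (Subtype.ext (h.trans hez'.symm))
    have hgC : (g : G) ∈ C := by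
      rw [Subgroup.mem_centralizer_singleton_iff]
      have h1 : (g : G) * z * (g : G)⁻¹ = z := by
        rw [← show (y : G) = (g : G) * z * (g : G)⁻¹ from hy, hyz]
      rwa [mul_inv_eq_iff_eq_mul] at h1
    have hpc : IsPGroup 2 ((P : Subgroup G).subgroupOf C) :=
      P.2.comap_of_injective C.subtype C.subtype_injective
    have hTle : (T : Subgroup C) ≤ (P : Subgroup G).subgroupOf C := fun t ht => hP ⟨t, ht, rfl⟩
    have hTe := T.3 hpc hTle
    apply hgT
    refine ⟨⟨g, hgC⟩, ?_, rfl⟩
    change (⟨(g : G), hgC⟩ : C) ∈ (T : Subgroup C)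
    rw [← hTe]
    exact g.2
  have hnd := P.not_dvd_index
  rw [hPT] at hnd
  exact hnd

end Cfsg.Agent.S1717
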