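import Cfsg.Statements.S1755
import Cfsg.Agent.Lib.Classification.Symplectic

set_option autoImplicit false
open Cfsg

namespace Cfsg.Agent.S1755

/-- Let G be a finite group and let z be an involution of G such that Q, the generalized Fitting subgroup of the centralizer C of z, is a 2-group of symplectic type (every characteristic abelian subgroup of Q is cyclic). Let B be a characteristic abelian subgroup of Q, viewed as a subgroup of G. Then for every g in G, the conjugate of B by g either equals B or meets B trivially. -/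
theorem result {G : Type*} [Group G] [Finite G] (z : G) (hz : orderOf z = 2) (hQ : Cfsg.IsOfSymplecticType ↥(Cfsg.generalizedFittingSubgroup ↥(Subgroup.centralizer ({z} : Set G))))
    (B : Subgroup ↥(Cfsg.generalizedFittingSubgroup ↥(Subgroup.centralizer ({z} : Set G)))) (hBc : B.Characteristic) (hBa : IsMulCommutative ↥B) (g : G) :
    ((B.map (Cfsg.generalizedFittingSubgroup ↥(Subgroup.centralizer ({z} : Set G))).subtype).map (Subgroup.centralizer ({z} : Set G)).subtype).map (MulAut.conj g).toMonoidHom =
        (B.map (Cfsg.generalizedFittingSubgroup ↥(Subgroup.centralizer ({z} : Set G))).subtype).map (Subgroup.centralizer ({z} : Set G)).subtype ∨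
      ((B.map (Cfsg.generalizedFittingSubgroup ↥(Subgroup.centralizer ({z} : Set G))).subtype).map (Subgroup.centralizer ({z} : Set G)).subtype).map (MulAut.conj g).toMonoidHom ⊓
        (B.map (Cfsg.generalizedFittingSubgroup ↥(Subgroup.centralizer ({z} : Set G))).subtype).map (Subgroup.centralizer ({z} : Set G)).subtype = ⊥ := by
  open Cfsg.Agent.Lib.Classification in
  haveI := hBc
  set B' := (B.map (Cfsg.generalizedFittingSubgroup ↥(Subgroup.centralizer ({z} : Set G))).subtype).map (Subgroup.centralizer ({z} : Set G)).subtype with hB'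
  by_cases h : B'.map (MulAut.conj g).toMonoidHom ⊓ B' = ⊥
  · exact Or.inr h
  refine Or.inl ?_
  have hB2 : IsPGroup 2 ↥B' := ((hQ.1.to_subgroup B).map _).map _
  obtain ⟨w, ⟨hwg, hwB⟩, hw2⟩ := exists_involution_mem (hB2.to_le inf_le_right) h
  have huniq : ∀ v ∈ B', orderOf v = 2 → v = z := by
    rintro _ ⟨_, ⟨v, hv, rfl⟩, rfl⟩ hv2
    refine congrArg Subtype.val (eq_z_of_char_abelian z hz hQ B hBc hBa (b := ⟨v, hv⟩) ?_)
    rw [← Subgroup.orderOf_coe, ← Subgroup.orderOf_coe, ← Subgroup.orderOf_coe]
    exact hv2
  have hwz := huniq w hwB hw2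
  rw [hwz] at hwg hwB hw2
  have hgz : g⁻¹ * z * g = z := huniq _ (mem_map_conj_iff.mp hwg) (by
    rw [show g⁻¹ * z * g = (MulAut.conj g⁻¹) z by simp]
    exact (orderOf_injective (MulAut.conj g⁻¹).toMonoidHom (MulAut.conj g⁻¹).injective z).trans hw2)
  have hgC : g ∈ Subgroup.centralizer ({z} : Set G) := Subgroup.mem_centralizer_singleton_iff.mpr (by
    calc g * z = g * (g⁻¹ * z * g) := by rw [hgz]
      _ = z * g := by group)
  haveI : (B.map (Cfsg.generalizedFittingSubgroup ↥(Subgroup.centralizer ({z} : Set G))).subtype).Normal := inferInstance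
  rw [map_conj_eq_iff_mem_normalizer]
  refine Subgroup.le_normalizer_map (Subgroup.centralizer ({z} : Set G)).subtype ⟨⟨g, hgC⟩, ?_, rfl⟩
  rw [Subgroup.normalizer_eq_top]
  exact Subgroup.mem_top _

end Cfsg.Agent.S1755
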