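import Cfsg.Statements.S1756
import Cfsg.Agent.S5395

set_option autoImplicit false
open Cfsg

namespace Cfsg.Agent.S1756

/-- Let Q be an extraspecial 2-subgroup of the finite group G (special with centre of order 2) and t an involution of G normalizing Q such that the centralizer of t in Q has index at most 2 in Q. Then t lies in the product of Q with the centralizer of Q. -/
theorem result {G : Type*} [Group G] [Finite G] (Q : Subgroup G)
    (hQ : Cfsg.IsExtraspecial 2 ↥Q) (t : G) (ht : orderOf t = 2) (htN : t ∈ Subgroup.normalizer (Q : Set G))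
    (hi : (Subgroup.centralizer ({t} : Set G) ⊓ Q).relIndex Q ≤ 2) :
    t ∈ Q ⊔ Subgroup.centralizer (Q : Set G) := by
  set M := Subgroup.centralizer ({t} : Set G) ⊓ Q with hMdef
  have ht2 : t * t = 1 := by rw [← pow_two, ← ht, pow_orderOf_eq_one]
  have htinv : t⁻¹ = t := inv_eq_of_mul_eq_one_left ht2
  have htQ : ∀ x ∈ Q, t * x * t⁻¹ ∈ Q := fun x hx =>
    (Subgroup.mem_set_normalizer_iff.mp htN x).mp hx
  let φ : Q ≃* Q :=
    { toFun := fun x => ⟨t * x * t⁻¹, htQ x x.2⟩
      invFun := fun x => ⟨t * x * t⁻¹, htQ x x.2⟩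
      left_inv := fun x => Subtype.ext (by
        calc t * (t * (x : G) * t⁻¹) * t⁻¹ = (t * t) * x * (t * t)⁻¹ := by group
          _ = x := by rw [ht2]; group)
      right_inv := fun x => Subtype.ext (by
        calc t * (t * (x : G) * t⁻¹) * t⁻¹ = (t * t) * x * (t * t)⁻¹ := by group
          _ = x := by rw [ht2]; group)
      map_mul' := fun x y => Subtype.ext (by
        show t * ((x : G) * y) * t⁻¹ = t * x * t⁻¹ * (t * y * t⁻¹)
        group) }
  have hfix : ∀ m ∈ M, t * m * t⁻¹ = m := fun m hm => by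
    rw [← Subgroup.mem_centralizer_singleton_iff.mp hm.1, mul_inv_cancel_right]
  have hidx : (M.subgroupOf Q).index ≤ 2 := hi
  have hinn : ∀ x : Q, φ x * x⁻¹ ∈ Subgroup.center Q := by
    intro x
    have hval : ∀ y : Q, ((φ y * y⁻¹ : Q) : G) = t * y * t⁻¹ * (y : G)⁻¹ := fun y => rfl
    rw [Subgroup.mem_center_iff]
    by_cases hx : (x : G) ∈ M
    · have h : φ x * x⁻¹ = 1 := Subtype.ext (by rw [hval, hfix _ hx, mul_inv_cancel]; rfl)
      simp [h]
    have hne : M.subgroupOf Q ≠ ⊤ := fun e => hx (Subgroup.subgroupOf_eq_top.mp e x.2)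
    have h2 : (M.subgroupOf Q).index = 2 := by
      have := Subgroup.index_ne_zero_of_finite (H := M.subgroupOf Q)
      have := mt Subgroup.index_eq_one.mp hne
      omega
    haveI := Subgroup.normal_of_index_eq_two h2
    set a : Q := x with ha
    set c : G := t * a * t⁻¹ * (a : G)⁻¹ with hc
    have hmul := fun {u v : Q} => Subgroup.mul_mem_iff_of_index_two h2 (a := u) (b := v)
    have hta : φ a ∉ M.subgroupOf Q := by
      intro h
      apply hx
      have e := hfix _ (show ((φ a : Q) : G) ∈ M from h)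
      have e' : t * (t * (a : G) * t⁻¹) * t⁻¹ = a := congrArg Subtype.val (φ.left_inv a)
      rw [← e', show t * (t * (a : G) * t⁻¹) * t⁻¹ = ((φ a : Q) : G) from e]
      exact h
    have hcM : c ∈ M := by
      have : φ a * a⁻¹ ∈ M.subgroupOf Q :=
        hmul.mpr ⟨fun h => absurd h hta, fun h => absurd ((Subgroup.inv_mem_iff _).mp h) hx⟩
      exact this
    have hsq : t * ((a : G) * a) * t⁻¹ = a * a := hfix _ (show a * a ∈ M.subgroupOf Q from
      Subgroup.mul_self_mem_of_index_two h2 a)
    have hc2 : c * c = 1 := by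
      have h := hfix c hcM
      have e : t * c * t⁻¹ = c⁻¹ := by
        calc t * c * t⁻¹ = (t * t) * a * t⁻¹ * (a : G)⁻¹ * t⁻¹ := by rw [hc]; group
          _ = (a : G) * t * (a : G)⁻¹ * t⁻¹ := by rw [ht2, one_mul, htinv]
          _ = c⁻¹ := by rw [hc]; group
      rw [e] at h
      calc c * c = c * c⁻¹ := by rw [h]
        _ = 1 := mul_inv_cancel c
    have hca : c * a = a * c := by
      have e1 : t * ((a : G) * a) * t⁻¹ = c * a * (c * a) := by rw [hc]; group
      rw [e1] at hsq
      have e2 : c * a * c = a := mul_right_cancel (b := (a : G)) (by rw [← hsq]; group)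
      calc c * a = c * a * (c * c) := by rw [hc2, mul_one]
        _ = (c * a * c) * c := by group
        _ = a * c := by rw [e2]
    have hcm : ∀ m ∈ M, c * m = m * c := by
      intro m hm
      have hmc : (a : G)⁻¹ * m * a ∈ M := by
        have := Subgroup.Normal.conj_mem ‹(M.subgroupOf Q).Normal› ⟨m, hm.2⟩ hm a⁻¹
        simpa [Subgroup.mem_subgroupOf] using this
      have e := hfix _ hmc
      calc c * m = t * a * t⁻¹ * ((a : G)⁻¹ * m * a) * (a : G)⁻¹ := by rw [hc]; group
        _ = t * a * t⁻¹ * (t * ((a : G)⁻¹ * m * a) * t⁻¹) * (a : G)⁻¹ := by rw [e]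
        _ = t * m * t⁻¹ * c := by rw [hc]; group
        _ = m * c := by rw [hfix m hm]
    intro y
    apply Subtype.ext
    show (y : G) * c = c * y
    by_cases hy : (y : G) ∈ M
    · exact (hcm y hy).symm
    · have hm : y * a⁻¹ ∈ M.subgroupOf Q :=
        hmul.mpr ⟨fun h => absurd h hy, fun h => absurd ((Subgroup.inv_mem_iff _).mp h) hx⟩
      have e : (y : G) = ((y : G) * (a : G)⁻¹) * a := by group
      rw [e]
      exact (Commute.mul_left (hcm _ hm).symm hca.symm).eq
  obtain ⟨g, hg⟩ := Cfsg.Agent.S5395.result hQ φ hinn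
  have hC : (g : G)⁻¹ * t ∈ Subgroup.centralizer (Q : Set G) := by
    rw [Subgroup.mem_centralizer_iff]
    intro y hy
    have h : t * y * t⁻¹ = (g : G) * y * (g : G)⁻¹ := congrArg Subtype.val (hg ⟨y, hy⟩)
    calc y * ((g : G)⁻¹ * t) = (g : G)⁻¹ * ((g : G) * y * (g : G)⁻¹) * t := by group
      _ = (g : G)⁻¹ * (t * y * t⁻¹) * t := by rw [h]
      _ = (g : G)⁻¹ * t * y := by group
  have := Subgroup.mul_mem_sup (g.2) hC
  simpa using this

end Cfsg.Agent.S1756
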