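import Cfsg.Statements.S1774
import Cfsg.Agent.Lib.Classification.Symplectic
import Cfsg.Agent.Lib.Classification.Basic
import Cfsg.Agent.Lib.Cores.Fitting
import Cfsg.Agent.Lib.Classification.SymplecticFour

set_option autoImplicit false
open Cfsg

namespace Cfsg.Agent.S1774

private theorem genFitting_eq_top_of_isPGroup {G : Type*} [Group G] [Finite G] (h : IsPGroup 2 G) :
    Cfsg.generalizedFittingSubgroup G = ⊤ := by
  haveI : Fact (Nat.Prime 2) := ⟨Nat.prime_two⟩
  exact eq_top_iff.mpr ((Cfsg.Agent.Lib.Cores.fittingSubgroup_eq_top_iff.mpr h.isNilpotent).ge.trans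
    Cfsg.Agent.Lib.Components.fitting_le_genFitting)

/-- The properties of `Q = F*(C(z))` that are used. -/
private structure ZData {G : Type*} [Group G] (z : G) (Q : Subgroup G) : Prop where
  ne : z ≠ 1
  sq : z * z = 1
  mem : z ∈ Q
  comm : ∀ q ∈ Q, q * z = z * q
  sqs : ∀ q ∈ Q, q ^ 2 = 1 ∨ q ^ 2 = z
  cent : ∀ e ∈ Q, e * e = 1 → (∀ q ∈ Q, q * e = e * q) → e = 1 ∨ e = z
  self : ∀ x, x * z = z * x → (∀ q ∈ Q, x * q = q * x) → x ∈ Q
  norm : ∀ x, x * z = z * x → ∀ q ∈ Q, x * q * x⁻¹ ∈ Q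
  whole : (∀ x, x * z = z * x → Odd (orderOf x) → x = 1) → ∀ x, x * z = z * x → x ∈ Q

section ZD

variable {G : Type*} [Group G] {z : G} {Q : Subgroup G}

private theorem ZData.conj (h : ZData z Q) (g : G) :
    ZData (g * z * g⁻¹) (Q.map (MulAut.conj g).toMonoidHom) := by
  have hz : ∀ x, x * (g * z * g⁻¹) = g * z * g⁻¹ * x ↔ (g⁻¹ * x * g) * z = z * (g⁻¹ * x * g) := by
    intro x
    constructor
    · intro e
      calc g⁻¹ * x * g * z = g⁻¹ * (x * (g * z * g⁻¹)) * g := by group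
        _ = g⁻¹ * (g * z * g⁻¹ * x) * g := by rw [e]
        _ = _ := by group
    · intro e
      calc x * (g * z * g⁻¹) = g * (g⁻¹ * x * g * z) * g⁻¹ := by group
        _ = g * (z * (g⁻¹ * x * g)) * g⁻¹ := by rw [e]
        _ = _ := by group
  refine ⟨fun e => h.ne (conj_eq_one_iff.mp e), ?_, Cfsg.Agent.Lib.Classification.mul_mem_map_conj h.mem,
    ?_, ?_, ?_, ?_, ?_, ?_⟩
  · rw [show g * z * g⁻¹ * (g * z * g⁻¹) = g * (z * z) * g⁻¹ by group, h.sq]; group
  · rintro _ ⟨q, hq, rfl⟩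
    show g * q * g⁻¹ * (g * z * g⁻¹) = g * z * g⁻¹ * (g * q * g⁻¹)
    rw [show g * q * g⁻¹ * (g * z * g⁻¹) = g * (q * z) * g⁻¹ by group, h.comm q hq]
    group
  · rintro _ ⟨q, hq, rfl⟩
    rcases h.sqs q hq with e | e
    · left; show (g * q * g⁻¹) ^ 2 = 1; rw [conj_pow, e]; group
    · right; show (g * q * g⁻¹) ^ 2 = _; rw [conj_pow, e]
  · rintro _ ⟨u, hu, rfl⟩ huu hc
    rcases h.cent u hu (by
        have e : g * u * g⁻¹ * (g * u * g⁻¹) = 1 := huu
        rw [show g * u * g⁻¹ * (g * u * g⁻¹) = g * (u * u) * g⁻¹ by group] at e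
        exact conj_eq_one_iff.mp e)
      (fun q hq => by
        have e : g * q * g⁻¹ * (g * u * g⁻¹) = g * u * g⁻¹ * (g * q * g⁻¹) :=
          hc _ (Cfsg.Agent.Lib.Classification.mul_mem_map_conj hq)
        have := congrArg (fun t => g⁻¹ * t * g) e
        simpa [mul_assoc] using this) with e | e
    · left; show g * u * g⁻¹ = 1; rw [e]; group
    · right; show g * u * g⁻¹ = _; rw [e]
  · intro x hx hq
    rw [Cfsg.Agent.Lib.Classification.mem_map_conj_iff]
    refine h.self _ ((hz x).mp hx) fun q hq' => ?_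
    have e := hq _ (Cfsg.Agent.Lib.Classification.mul_mem_map_conj (g := g) hq')
    calc g⁻¹ * x * g * q = g⁻¹ * (x * (g * q * g⁻¹)) * g := by group
      _ = g⁻¹ * (g * q * g⁻¹ * x) * g := by rw [e]
      _ = _ := by group
  · rintro x hx _ ⟨q, hq, rfl⟩
    rw [Cfsg.Agent.Lib.Classification.mem_map_conj_iff]
    have := h.norm _ ((hz x).mp hx) q hq
    simpa [mul_assoc] using this
  · intro hodd x hx
    rw [Cfsg.Agent.Lib.Classification.mem_map_conj_iff]
    refine h.whole (fun y hy ho => ?_) _ ((hz x).mp hx)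
    have := hodd (g * y * g⁻¹) ((hz _).mpr (by simpa [mul_assoc] using hy))
      (by
        have e : orderOf ((MulAut.conj g).toMonoidHom y) = orderOf y :=
          orderOf_injective _ (MulAut.conj g).injective y
        simpa using e.symm ▸ ho)
    exact conj_eq_one_iff.mp this

private theorem ZData.comm_cases (h : ZData z Q) {x y : G} (hx : x ∈ Q) (hy : y ∈ Q) :
    x * y = y * x ∨ x * y * x⁻¹ * y⁻¹ = z := by
  have hm : ∀ a ∈ Q, a ^ 2 ∈ Subgroup.zpowers z := fun a ha => by
    rcases h.sqs a ha with e | e <;> rw [e]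
    · exact Subgroup.one_mem _
    · exact Subgroup.mem_zpowers z
  have hmem : x * y * x⁻¹ * y⁻¹ ∈ Subgroup.zpowers z := by
    rw [Cfsg.Agent.Lib.Classification.comm_eq_sq]
    refine Subgroup.mul_mem _ (Subgroup.mul_mem _ (hm _ (Q.mul_mem hx hy)) ?_)
      (Subgroup.inv_mem _ (hm y hy))
    obtain ⟨k, hk⟩ := Subgroup.mem_zpowers_iff.mp (Subgroup.inv_mem _ (hm x hx))
    rw [← hk]
    have hyz : Commute y⁻¹ (z ^ k) := ((show Commute y z from h.comm y hy).inv_left).zpow_right k
    rw [hyz.eq, inv_mul_cancel_right]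
    exact ⟨k, rfl⟩
  obtain ⟨k, hk⟩ := Subgroup.mem_zpowers_iff.mp hmem
  have hz2 : z ^ (2 : ℤ) = 1 := by rw [zpow_ofNat, pow_two]; exact h.sq
  rcases Int.even_or_odd k with ⟨m, rfl⟩ | ⟨m, rfl⟩
  · left
    rw [← two_mul, zpow_mul, hz2, one_zpow] at hk
    calc x * y = x * y * x⁻¹ * y⁻¹ * (y * x) := by group
      _ = y * x := by rw [← hk, one_mul]
  · right
    rw [zpow_add, zpow_mul, hz2, one_zpow, one_mul, zpow_one] at hk
    exact hk.symm

private theorem ZData.inv_eq (h : ZData z Q) : z⁻¹ = z := inv_eq_of_mul_eq_one_right h.sq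

/-- A conjugate `z' ≠ z` of `z` inside `Q` is moved to `z * z'` by an element of `Q`. -/
private theorem ZData.exists_swap (h : ZData z Q) {z' : G} (hz' : z' ∈ Q) (h1 : z' ≠ 1) (h2 : z' ≠ z)
    (hsq : z' * z' = 1) : ∃ q ∈ Q, q * z' * q⁻¹ = z * z' := by
  by_contra hall
  push_neg at hall
  rcases h.cent z' hz' hsq (fun q hq => (h.comm_cases hq hz').resolve_right fun e =>
    hall q hq (by rw [← e]; group)) with e | e
  · exact h1 e
  · exact h2 e

/-- The main lemma: `z ∈ F*(C(g z g⁻¹))`. -/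
private theorem ZData.mem_conj [Finite G] (h : ZData z Q) {g : G} (hne : g * z * g⁻¹ ≠ z)
    (hin : g * z * g⁻¹ ∈ Q) : z ∈ Q.map (MulAut.conj g).toMonoidHom := by
  have h' := h.conj g
  set z' := g * z * g⁻¹
  set Q' := Q.map (MulAut.conj g).toMonoidHom with hQ'def
  by_contra hz
  have hc : z * z' = z' * z := (h.comm z' hin).symm
  obtain ⟨q₀, hq₀, hq₀z'⟩ := h.exists_swap hin h'.ne hne h'.sq
  have hzm : z * z' ∈ Q := Q.mul_mem h.mem hin
  have hzz' : z * z' ∉ Q' := fun e => hz (by simpa using Q'.mul_mem e (Q'.inv_mem h'.mem))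
  -- no element of `Q'` moves `z` to `z' * z`
  have hno : ∀ x ∈ Q', x * z * x⁻¹ ≠ z' * z := by
    intro x hx e
    apply hz
    have hxx : x * z' * x⁻¹ = z' := by rw [h'.comm x hx, mul_inv_cancel_right]
    -- `z` lies in the `Q` of `z' * z`
    have h1 : z ∈ Q.map (MulAut.conj x).toMonoidHom := by
      have m1 : x * z' * x⁻¹ ∈ Q.map (MulAut.conj x).toMonoidHom :=
        Cfsg.Agent.Lib.Classification.mul_mem_map_conj hin
      have m2 : x * z * x⁻¹ ∈ Q.map (MulAut.conj x).toMonoidHom :=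
        Cfsg.Agent.Lib.Classification.mul_mem_map_conj h.mem
      rw [hxx] at m1
      rw [e] at m2
      simpa using Subgroup.mul_mem _ (Subgroup.inv_mem _ m1) m2
    have h2 : z ∈ Q.map (MulAut.conj (q₀ * x)).toMonoidHom := by
      obtain ⟨u, hu, hux⟩ := h1
      refine ⟨u, hu, ?_⟩
      show q₀ * x * u * (q₀ * x)⁻¹ = z
      rw [show q₀ * x * u * (q₀ * x)⁻¹ = q₀ * (x * u * x⁻¹) * q₀⁻¹ by group,
        show x * u * x⁻¹ = z from hux, h.comm q₀ hq₀, mul_inv_cancel_right]
    have hk : q₀ * x * z * (q₀ * x)⁻¹ = z' := by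
      rw [show q₀ * x * z * (q₀ * x)⁻¹ = q₀ * (x * z * x⁻¹) * q₀⁻¹ by group, e,
        show q₀ * (z' * z) * q₀⁻¹ = (q₀ * z' * q₀⁻¹) * (q₀ * z * q₀⁻¹) by group, hq₀z',
        h.comm q₀ hq₀, mul_inv_cancel_right, hc, mul_assoc, h.sq, mul_one]
    have hcz : (g⁻¹ * (q₀ * x)) * z = z * (g⁻¹ * (q₀ * x)) := by
      calc g⁻¹ * (q₀ * x) * z = g⁻¹ * (q₀ * x * z * (q₀ * x)⁻¹) * (q₀ * x) := by group
        _ = g⁻¹ * (g * z * g⁻¹) * (q₀ * x) := by rw [hk]
        _ = _ := by group
    obtain ⟨u, hu, huz⟩ := h2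
    rw [Cfsg.Agent.Lib.Classification.mem_map_conj_iff, ← huz]
    have := h.norm _ hcz u hu
    simpa [mul_assoc] using this
  have hfix : ∀ x ∈ Q', z * x * z⁻¹ * x⁻¹ = z' → False := by
    intro x hx e
    apply hno x hx
    have e' : z * x = z' * x * z := by
      calc z * x = z * x * z⁻¹ * x⁻¹ * (x * z) := by group
        _ = z' * (x * z) := by rw [e]
        _ = _ := by group
    calc x * z * x⁻¹ = z'⁻¹ * (z' * x * z) * x⁻¹ := by group
      _ = z'⁻¹ * z := by rw [← e']; group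
      _ = z' * z := by rw [h'.inv_eq]
  have hnz : ∀ x ∈ Q', z * x * z⁻¹ ∈ Q' := fun x hx => h'.norm z hc x hx
  -- `R = C_Q(z')` and `R' = C_Q'(z)` commute modulo `z'`
  have hJ : ∀ u ∈ Q, u ∈ Q' → u = 1 ∨ u = z' := by
    intro u hu hu'
    have hu2 : u * u = 1 := by
      rcases h.sqs u hu with e | e
      · rwa [pow_two] at e
      · exact absurd (e ▸ Q'.pow_mem hu' 2) hz
    have hR : ∀ r ∈ Q, r * z' = z' * r → r * u = u * r := by
      intro r hr hrz
      refine (h.comm_cases hr hu).resolve_right fun e => hz ?_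
      rw [← e]
      exact Q'.mul_mem (h'.norm r hrz u hu') (Q'.inv_mem hu')
    have hall : ∀ w ∈ Q, q₀ * w = w * q₀ → (∀ r ∈ Q, r * z' = z' * r → r * w = w * r) →
        ∀ q ∈ Q, q * w = w * q := by
      intro w hw hq₀w hrw q hq
      rcases h.comm_cases hq hin with e | e
      · exact hrw q hq e
      · have hq' : q * z' * q⁻¹ = z * z' := by rw [← e]; group
        have hr : (q₀⁻¹ * q) * z' = z' * (q₀⁻¹ * q) := by
          calc q₀⁻¹ * q * z' = q₀⁻¹ * (q * z' * q⁻¹) * q := by group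
            _ = q₀⁻¹ * (q₀ * z' * q₀⁻¹) * q := by rw [hq', hq₀z']
            _ = _ := by group
        have := (show Commute q₀ w from hq₀w).mul_left
          (show Commute (q₀⁻¹ * q) w from hrw _ (Q.mul_mem (Q.inv_mem hq₀) hq) hr)
        rw [mul_inv_cancel_left] at this
        exact this.eq
    rcases h.comm_cases hq₀ hu with e | e
    · rcases h.cent u hu hu2 (hall u hu e hR) with k | k
      · exact Or.inl k
      · exact absurd (k ▸ hu') hz
    · -- `u * z'` is then central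
      have hq₀u : q₀ * u * q₀⁻¹ = z * u := by rw [← e]; group
      have hw : q₀ * (u * z') = u * z' * q₀ := by
        have : q₀ * (u * z') * q₀⁻¹ = u * z' := by
          rw [show q₀ * (u * z') * q₀⁻¹ = (q₀ * u * q₀⁻¹) * (q₀ * z' * q₀⁻¹) by group, hq₀u, hq₀z',
            show z * u * (z * z') = z * (u * z) * z' by group, h.comm u hu]
          rw [show z * (z * u) * z' = (z * z) * (u * z') by group, h.sq, one_mul]
        exact mul_inv_eq_iff_eq_mul.mp this
      have hzu : z' * u = u * z' := (h'.comm u hu').symm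
      have huz2 : u * z' * (u * z') = 1 := by
        rw [show u * z' * (u * z') = u * (z' * u) * z' by group, hzu,
          show u * (u * z') * z' = u * u * (z' * z') by group, hu2, h'.sq, one_mul]
      rcases h.cent (u * z') (Q.mul_mem hu hin) huz2 (hall _ (Q.mul_mem hu hin) hw
        (fun r hr hrz => ((show Commute r u from hR r hr hrz).mul_right hrz).eq)) with k | k
      · exact Or.inr (by rw [eq_inv_of_mul_eq_one_left k, h'.inv_eq])
      · exact absurd (k ▸ Q'.mul_mem hu' h'.mem) hz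
  have hRR' : ∀ r ∈ Q, r * z' = z' * r → ∀ s ∈ Q', s * z = z * s →
      r * s * r⁻¹ * s⁻¹ = 1 ∨ r * s * r⁻¹ * s⁻¹ = z' := by
    intro r hr hrz s hs hsz
    refine hJ _ ?_ (Q'.mul_mem (h'.norm r hrz s hs) (Q'.inv_mem hs))
    have := Q.mul_mem hr (h.norm s hsz r⁻¹ (Q.inv_mem hr))
    rwa [show r * (s * r⁻¹ * s⁻¹) = r * s * r⁻¹ * s⁻¹ by group] at this
  -- `z` displaces `Q'` into `C_Q'(z)`
  have hy : ∀ x ∈ Q', (z * x * z⁻¹ * x⁻¹) * z = z * (z * x * z⁻¹ * x⁻¹) := by
    intro x hx
    set y := z * x * z⁻¹ * x⁻¹ with hy'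
    have hyQ : y ∈ Q' := Q'.mul_mem (hnz x hx) (Q'.inv_mem hx)
    have hzy : z * y * z⁻¹ = y⁻¹ := by
      calc z * y * z⁻¹ = (z * z) * x * z⁻¹ * x⁻¹ * z⁻¹ := by rw [hy']; group
        _ = x * z⁻¹ * x⁻¹ * z⁻¹ := by rw [h.sq, one_mul]
        _ = x * z * x⁻¹ * z⁻¹ := by rw [h.inv_eq]
        _ = y⁻¹ := by rw [hy']; group
    rcases h'.sqs y hyQ with e | e
    · rw [pow_two] at e
      rw [inv_eq_of_mul_eq_one_right e] at hzy
      exact (mul_inv_eq_iff_eq_mul.mp hzy).symm
    · exfalso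
      refine hfix y hyQ ?_
      rw [hzy, show y⁻¹ * y⁻¹ = (y ^ 2)⁻¹ by rw [pow_two]; group, e, h'.inv_eq]
  -- an element of `C_Q(z')` squaring to `z` fixes `Q'` modulo `z'`
  have hsq : ∀ r ∈ Q, r * z' = z' * r → r ^ 2 = z → False := by
    intro r hr hrz hr2
    apply hz
    refine h'.self z hc fun x hx => ?_
    by_contra hne'
    set w := r * x * r⁻¹ * x⁻¹ with hw
    have hwQ : w ∈ Q' := Q'.mul_mem (h'.norm r hrz x hx) (Q'.inv_mem hx)
    have hwz : w * z = z * w := by
      set y := z * x * z⁻¹ * x⁻¹ with hy'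
      have hyQ : y ∈ Q' := Q'.mul_mem (hnz x hx) (Q'.inv_mem hx)
      by_contra hcon
      refine hfix w hwQ ?_
      have hrzc : r * z = z * r := h.comm r hr
      have e1 : z * w * z⁻¹ = r * y * r⁻¹ * w * y⁻¹ := by
        calc z * w * z⁻¹ = (z * r) * x * r⁻¹ * x⁻¹ * z⁻¹ := by rw [hw]; group
          _ = r * z * x * r⁻¹ * x⁻¹ * z⁻¹ := by rw [hrzc]
          _ = r * (y * x) * (z * r⁻¹) * x⁻¹ * z⁻¹ := by rw [hy']; group
          _ = r * (y * x) * (r⁻¹ * z) * x⁻¹ * z⁻¹ := by
              rw [(show Commute r z from hrzc).inv_left.eq]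
          _ = r * y * r⁻¹ * w * ((x * z⁻¹) * x⁻¹ * z⁻¹)⁻¹⁻¹ := by rw [hw, h.inv_eq]; group
          _ = r * y * r⁻¹ * w * y⁻¹ := by
              rw [hy', h.inv_eq]; group; simp only [zpow_neg, zpow_one, h.inv_eq]
      have hcy : r * y * r⁻¹ * y⁻¹ = 1 ∨ r * y * r⁻¹ * y⁻¹ = z' := hRR' r hr hrz y hyQ (hy x hx)
      have e2 : z * w * z⁻¹ * w⁻¹ = (r * y * r⁻¹ * y⁻¹) * (y * w * y⁻¹ * w⁻¹) := by rw [e1]; group
      have hcases : ∀ a b : G, (a = 1 ∨ a = z') → (b = 1 ∨ b = z') → a * b = 1 ∨ a * b = z' := by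
        rintro a b (rfl | rfl) (rfl | rfl) <;> simp [h'.sq]
      rcases hcases _ _ hcy (show y * w * y⁻¹ * w⁻¹ = 1 ∨ _ = z' from
        (h'.comm_cases hyQ hwQ).imp (fun e => by rw [e]; group) id) with e | e
      · exact absurd (mul_inv_eq_iff_eq_mul.mp (mul_inv_eq_one.mp (e2.trans e))).symm hcon
      · exact e2.trans e
    have e1 : r ^ 2 * x * (r ^ 2)⁻¹ * x⁻¹ = (r * w * r⁻¹ * w⁻¹) * w ^ 2 := by
      rw [hw]; simp only [pow_two]; group
    have hfin : z * x * z⁻¹ * x⁻¹ = 1 ∨ z * x * z⁻¹ * x⁻¹ = z' := by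
      rw [← hr2, e1]
      rcases hRR' r hr hrz w hwQ hwz with e | e <;> rcases h'.sqs w hwQ with k | k <;>
        rw [e, k] <;> simp [h'.sq]
    rcases hfin with e | e
    · exact hne' (mul_inv_eq_iff_eq_mul.mp (mul_inv_eq_one.mp e))
    · exact hfix x hx e
  -- so `C_Q(z')` is elementary, `Q` has order 8 and `C(z) = Q`
  have hel : ∀ r ∈ Q, r * z' = z' * r → r * r = 1 := fun r hr hrz => by
    rcases h.sqs r hr with e | e
    · rwa [pow_two] at e
    · exact (hsq r hr hrz e).elim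
  have hRab : ∀ r ∈ Q, r * z' = z' * r → ∀ s ∈ Q, s * z' = z' * s → r * s = s * r := by
    intro r hr hrz s hs hsz
    have e := hel _ (Q.mul_mem hr hs) ((show Commute r z' from hrz).mul_left hsz).eq
    have e' := eq_inv_of_mul_eq_one_left e
    rw [mul_inv_rev, inv_eq_of_mul_eq_one_right (hel r hr hrz),
      inv_eq_of_mul_eq_one_right (hel s hs hsz)] at e'
    exact e'
  obtain ⟨w, hw, hww, hw'⟩ : ∃ w ∈ Q, w * w = z ∧ w * z' ≠ z' * w := by
    have hq₀ne : q₀ * z' ≠ z' * q₀ := fun e => h.ne (by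
      rw [e, mul_inv_cancel_right] at hq₀z'
      exact mul_eq_right.mp hq₀z'.symm)
    rcases h.sqs q₀ hq₀ with e | e
    · refine ⟨q₀ * z', Q.mul_mem hq₀ hin, ?_, fun k => hq₀ne ?_⟩
      · rw [pow_two] at e
        rw [show q₀ * z' * (q₀ * z') = (q₀ * z' * q₀⁻¹) * (q₀ * q₀) * z' by group, hq₀z', e, mul_one,
          mul_assoc, h'.sq, mul_one]
      · calc q₀ * z' = q₀ * z' * z' * z'⁻¹ := by group
          _ = z' * (q₀ * z') * z'⁻¹ := by rw [k]
          _ = z' * q₀ := by group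
    · exact ⟨q₀, hq₀, by rwa [pow_two] at e, hq₀ne⟩
  have hfour : ∀ r ∈ Q, r * z' = z' * r → r = 1 ∨ r = z ∨ r = z' ∨ r = z * z' := by
    intro r hr hrz
    have hall : ∀ s ∈ Q, s * z' = z' * s → w * s = s * w → s = 1 ∨ s = z := by
      intro s hs hsz hws
      refine h.cent s hs (hel s hs hsz) fun q hq => ?_
      rcases h.comm_cases hq hin with e | e
      · exact hRab q hq e s hs hsz
      · have hwz' : w * z' * w⁻¹ * z'⁻¹ = z := (h.comm_cases hw hin).resolve_left hw'
        have hr : (w⁻¹ * q) * z' = z' * (w⁻¹ * q) := by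
          calc w⁻¹ * q * z' = w⁻¹ * (q * z' * q⁻¹ * z'⁻¹) * z' * q := by group
            _ = w⁻¹ * (w * z' * w⁻¹ * z'⁻¹) * z' * q := by rw [e, hwz']
            _ = _ := by group
        have := (show Commute w s from hws).mul_left
          (show Commute (w⁻¹ * q) s from hRab _ (Q.mul_mem (Q.inv_mem hw) hq) hr s hs hsz)
        rw [mul_inv_cancel_left] at this
        exact this.eq
    rcases h.comm_cases hw hr with e | e
    · rcases hall r hr hrz e with k | k
      · exact Or.inl k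
      · exact Or.inr (Or.inl k)
    · have hwz' : w * z' * w⁻¹ * z'⁻¹ = z := (h.comm_cases hw hin).resolve_left hw'
      have hw1 : w * (r * z') = r * z' * w := by
        calc w * (r * z') = (w * r * w⁻¹ * r⁻¹) * r * (w * z' * w⁻¹ * z'⁻¹) * z' * w := by group
          _ = z * (r * z) * z' * w := by rw [e, hwz']; group
          _ = (z * z) * r * z' * w := by rw [h.comm r hr]; group
          _ = r * z' * w := by rw [h.sq, one_mul]
      rcases hall _ (Q.mul_mem hr hin) ((show Commute r z' from hrz).mul_left (Commute.refl z')).eq hw1 with k | k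
      · exact Or.inr (Or.inr (Or.inl (by rw [eq_inv_of_mul_eq_one_left k, h'.inv_eq])))
      · exact Or.inr (Or.inr (Or.inr (by rw [← k, mul_assoc, h'.sq, mul_one])))
  have hQC : ∀ x, x * z = z * x → x ∈ Q := by
    refine h.whole fun c hcz ho => ?_
    have hodd2 : ∀ {v : G}, Commute (c ^ 4) v → Commute c v := by
      intro v hv
      obtain ⟨m, hm⟩ := exists_pow_eq_self_of_coprime (x := c) (n := 4)
        (Nat.Coprime.pow_left 2 (ho.coprime_two_left))
      rw [← hm]
      exact hv.pow_left m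
    -- `c` fixes `w`
    have hwcases : ∀ q ∈ Q, q ^ 2 = z → q = w ∨ q = w * z := by
      intro q hq hq2
      rcases h.comm_cases hq hin with e | e
      · exact (hsq q hq e hq2).elim
      · have hwz' : w * z' * w⁻¹ * z'⁻¹ = z := (h.comm_cases hw hin).resolve_left hw'
        have hr : (w⁻¹ * q) * z' = z' * (w⁻¹ * q) := by
          calc w⁻¹ * q * z' = w⁻¹ * (q * z' * q⁻¹ * z'⁻¹) * z' * q := by group
            _ = w⁻¹ * (w * z' * w⁻¹ * z'⁻¹) * z' * q := by rw [e, hwz']
            _ = _ := by group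
        have hwinv : w * (z * z') * w = z' * (z * z) * z := by
          calc w * (z * z') * w = (w * z) * z' * w := by group
            _ = z * (w * z' * w⁻¹ * z'⁻¹) * z' * (w * w) := by rw [h.comm w hw]; group
            _ = z * z * z' * z := by rw [hwz', hww]
            _ = _ := by rw [h.sq]; group
        have hbad : ∀ r, r = w * z' ∨ r = w * (z * z') → r ^ 2 = z → False := by
          rintro r (rfl | rfl) k <;> rw [pow_two] at k
          · rw [show w * z' * (w * z') = (w * z' * w⁻¹ * z'⁻¹) * z' * (w * w) * z' by group, hwz', hww,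
              show z * z' * z * z' = z * (z' * z) * z' by group, ← hc,
              show z * (z * z') * z' = z * z * (z' * z') by group, h.sq, h'.sq, one_mul] at k
            exact h.ne k.symm
          · rw [show w * (z * z') * (w * (z * z')) = (w * (z * z') * w) * (z * z') by group, hwinv, h.sq,
              mul_one, show z' * z * (z * z') = z' * (z * z) * z' by group, h.sq, mul_one, h'.sq] at k
            exact h.ne k.symm
        rcases hfour _ (Q.mul_mem (Q.inv_mem hw) hq) hr with k | k | k | k <;>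
          rw [inv_mul_eq_iff_eq_mul] at k
        · exact Or.inl (by rw [k, mul_one])
        · exact Or.inr k
        · exact (hbad q (Or.inl k) hq2).elim
        · exact (hbad q (Or.inr k) hq2).elim
    have hcw : Commute c w := by
      refine hodd2 ?_
      have key : c ^ 2 * w * (c ^ 2)⁻¹ = w := by
        have hconj : ∀ v ∈ Q, v ^ 2 = z → c * v * c⁻¹ = w ∨ c * v * c⁻¹ = w * z := fun v hv hv2 =>
          hwcases _ (h.norm c hcz v hv) (by rw [conj_pow, hv2, hcz, mul_inv_cancel_right])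
        rw [show c ^ 2 * w * (c ^ 2)⁻¹ = c * (c * w * c⁻¹) * c⁻¹ by simp only [pow_two]; group]
        rcases hconj w hw (by rw [pow_two, hww]) with k | k
        · rw [k, k]
        · rw [k, show c * (w * z) * c⁻¹ = (c * w * c⁻¹) * (c * z * c⁻¹) by group, k, hcz,
            mul_inv_cancel_right, mul_assoc, h.sq, mul_one]
      have : Commute (c ^ 2) w := mul_inv_eq_iff_eq_mul.mp key
      rw [show (4 : ℕ) = 2 * 2 from rfl, pow_mul]
      exact this.pow_left 2
    have hcz' : Commute c z' := by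
      have hshift : ∀ v ∈ Q, c * v * c⁻¹ ∈ Q := h.norm c hcz
      have hquo : ∀ q ∈ Q, ∃ a, (a = 1 ∨ a = z ∨ a = w ∨ a = z * w) ∧ (q = a ∨ q = a * z') := by
        intro q hq
        rcases h.comm_cases hq hin with e | e
        · rcases hfour q hq e with k | k | k | k
          · exact ⟨1, Or.inl rfl, Or.inl k⟩
          · exact ⟨z, Or.inr (Or.inl rfl), Or.inl k⟩
          · exact ⟨1, Or.inl rfl, Or.inr (by rw [k, one_mul])⟩
          · exact ⟨z, Or.inr (Or.inl rfl), Or.inr k⟩
        · have hwz' : w * z' * w⁻¹ * z'⁻¹ = z := (h.comm_cases hw hin).resolve_left hw'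
          have hr : (w⁻¹ * q) * z' = z' * (w⁻¹ * q) := by
            calc w⁻¹ * q * z' = w⁻¹ * (q * z' * q⁻¹ * z'⁻¹) * z' * q := by group
              _ = w⁻¹ * (w * z' * w⁻¹ * z'⁻¹) * z' * q := by rw [e, hwz']
              _ = _ := by group
          have hwzc : w * z = z * w := h.comm w hw
          rcases hfour _ (Q.mul_mem (Q.inv_mem hw) hq) hr with k | k | k | k <;>
            rw [inv_mul_eq_iff_eq_mul] at k
          · exact ⟨w, Or.inr (Or.inr (Or.inl rfl)), Or.inl (by rw [k, mul_one])⟩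
          · exact ⟨z * w, Or.inr (Or.inr (Or.inr rfl)), Or.inl (by rw [k, hwzc])⟩
          · exact ⟨w, Or.inr (Or.inr (Or.inl rfl)), Or.inr k⟩
          · exact ⟨z * w, Or.inr (Or.inr (Or.inr rfl)), Or.inr (by rw [k, ← hwzc]; group)⟩
      obtain ⟨a, ha, k⟩ := hquo _ (hshift z' hin)
      have hca : Commute c a := by
        rcases ha with rfl | rfl | rfl | rfl
        · exact Commute.one_right c
        · exact hcz
        · exact hcw
        · exact (show Commute c z from hcz).mul_right hcw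
      rcases k with k | k
      · exfalso
        have e : z' = a := by
          calc z' = c⁻¹ * (c * z' * c⁻¹) * c := by group
            _ = c⁻¹ * a * c := by rw [k]
            _ = a := by rw [mul_assoc, ← hca.eq, inv_mul_cancel_left]
        rcases ha with j | j | j | j <;> rw [j] at e
        · exact h'.ne e
        · exact hne e
        · exact hw' (by rw [e])
        · exact hw' (by rw [e, ← mul_assoc, h.comm w hw, mul_assoc])
      · have ha4 : a ^ 4 = 1 := by
          rw [show (4 : ℕ) = 2 * 2 from rfl, pow_mul]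
          rcases ha with j | j | j | j <;> rw [j]
          · simp
          · rw [pow_two z, h.sq, one_pow]
          · rw [pow_two w, hww, pow_two, h.sq]
          · rw [(show Commute z w from (h.comm w hw).symm).mul_pow, pow_two z, h.sq, one_mul, pow_two w,
              hww, pow_two, h.sq]
        refine hodd2 ?_
        have step : ∀ n : ℕ, c ^ n * z' * (c ^ n)⁻¹ = a ^ n * z' := by
          intro n
          induction n with
          | zero => simp
          | succ n ih =>
            rw [pow_succ', show c * c ^ n * z' * (c * c ^ n)⁻¹ = c * (c ^ n * z' * (c ^ n)⁻¹) * c⁻¹ by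
              group, ih, show c * (a ^ n * z') * c⁻¹ = (c * a ^ n) * c⁻¹ * (c * z' * c⁻¹) by group, k,
              (hca.pow_right n).eq, mul_inv_cancel_right, ← mul_assoc, ← pow_succ]
        have := step 4
        rw [ha4, one_mul] at this
        exact mul_inv_eq_iff_eq_mul.mp this
    have hcQ : c ∈ Q := by
      refine h.self c hcz fun q hq => ?_
      rcases h.comm_cases hq hin with e | e
      · rcases hfour q hq e with k | k | k | k <;> rw [k]
        · simp
        · exact hcz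
        · exact hcz'.eq
        · exact ((show Commute c z from hcz).mul_right hcz').eq
      · have hwz' : w * z' * w⁻¹ * z'⁻¹ = z := (h.comm_cases hw hin).resolve_left hw'
        have hr : (w⁻¹ * q) * z' = z' * (w⁻¹ * q) := by
          calc w⁻¹ * q * z' = w⁻¹ * (q * z' * q⁻¹ * z'⁻¹) * z' * q := by group
            _ = w⁻¹ * (w * z' * w⁻¹ * z'⁻¹) * z' * q := by rw [e, hwz']
            _ = _ := by group
        have : Commute c (w⁻¹ * q) := by
          rcases hfour _ (Q.mul_mem (Q.inv_mem hw) hq) hr with k | k | k | k <;> rw [k]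
          · exact Commute.one_right c
          · exact hcz
          · exact hcz'
          · exact (show Commute c z from hcz).mul_right hcz'
        have := hcw.mul_right this
        rw [mul_inv_cancel_left] at this
        exact this.eq
    have h4c : c ^ 4 = 1 := by
      rw [show (4 : ℕ) = 2 * 2 from rfl, pow_mul]
      rcases h.sqs c hcQ with e | e <;> rw [e]
      · simp
      · rw [pow_two, h.sq]
    obtain ⟨m, hm⟩ := exists_pow_eq_self_of_coprime (x := c) (n := 4)
      (Nat.Coprime.pow_left 2 (ho.coprime_two_left))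
    rw [← hm, h4c, one_pow]
  -- hence `C(z') = Q'` contains `z`
  apply hz
  rw [hQ'def, Cfsg.Agent.Lib.Classification.mem_map_conj_iff]
  refine hQC _ ?_
  calc g⁻¹ * z * g * z = g⁻¹ * (z * (g * z * g⁻¹)) * g := by group
    _ = g⁻¹ * ((g * z * g⁻¹) * z) * g := by rw [hc]
    _ = _ := by group

end ZD

/-- Let G be a finite group and let z be an involution of G such that Q, the generalized Fitting subgroup of the centralizer C of z, is a 2-group of symplectic type (every characteristic abelian subgroup of Q is cyclic); suppose every element of Q has order dividing 4. Let g ∈ G with z' = g z g⁻¹ ≠ z and z' ∈ Q. Then z lies in the conjugate g Q g⁻¹, and the subgroup X generated by Q and g Q g⁻¹ induces every automorphism of the four-group generated by z and z': for any two distinct non-identity elements u, v of that four-group there is x ∈ X with x z x⁻¹ = u and x z' x⁻¹ = v. -/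
theorem result {G : Type*} [Group G] [Finite G] (z : G) (hz : orderOf z = 2) (hQ : Cfsg.IsOfSymplecticType ↥(Cfsg.generalizedFittingSubgroup ↥(Subgroup.centralizer ({z} : Set G))))
    (h4 : ∀ q ∈ (Cfsg.generalizedFittingSubgroup ↥(Subgroup.centralizer ({z} : Set G))).map (Subgroup.centralizer ({z} : Set G)).subtype, q ^ 4 = 1) (g : G) (hne : g * z * g⁻¹ ≠ z) (hin : g * z * g⁻¹ ∈ (Cfsg.generalizedFittingSubgroup ↥(Subgroup.centralizer ({z} : Set G))).map (Subgroup.centralizer ({z} : Set G)).subtype) :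
    z ∈ ((Cfsg.generalizedFittingSubgroup ↥(Subgroup.centralizer ({z} : Set G))).map (Subgroup.centralizer ({z} : Set G)).subtype).map (MulAut.conj g).toMonoidHom ∧
      ∀ u ∈ Subgroup.closure ({z, g * z * g⁻¹} : Set G), ∀ v ∈ Subgroup.closure ({z, g * z * g⁻¹} : Set G),
        u ≠ 1 → v ≠ 1 → u ≠ v →
          ∃ x ∈ (Cfsg.generalizedFittingSubgroup ↥(Subgroup.centralizer ({z} : Set G))).map (Subgroup.centralizer ({z} : Set G)).subtype ⊔ ((Cfsg.generalizedFittingSubgroup ↥(Subgroup.centralizer ({z} : Set G))).map (Subgroup.centralizer ({z} : Set G)).subtype).map (MulAut.conj g).toMonoidHom, x * z * x⁻¹ = u ∧ x * (g * z * g⁻¹) * x⁻¹ = v := by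
  set C := Subgroup.centralizer ({z} : Set G) with hCdef
  set F := Cfsg.generalizedFittingSubgroup ↥C with hF
  set Q : Subgroup G := F.map C.subtype with hQdef
  have hC : ∀ x, x ∈ C ↔ x * z = z * x := fun x => Subgroup.mem_centralizer_singleton_iff
  have hz1 : z ≠ 1 := by
    rintro rfl
    simp at hz
  have hzz : z * z = 1 := by rw [← pow_two, ← hz]; exact pow_orderOf_eq_one z
  have hexp : ∀ x : ↥F, x ^ 4 = 1 := fun x =>
    Subtype.ext (Subtype.ext (h4 _ (Subgroup.mem_map_of_mem C.subtype x.2)))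
  obtain ⟨e, hec, hee, hsq⟩ :=
    Cfsg.Agent.Lib.Classification.squares_central _ ↥F rfl hQ.1 hQ.2 hexp
  haveI : F.Characteristic := Cfsg.Agent.Lib.Cores.characteristic_of_map_le fun φ =>
    (Cfsg.Agent.Lib.Components.map_genFitting_mulEquiv φ).le
  have he : (((e : ↥C) : G)) = 1 ∨ (((e : ↥C) : G)) = z := by
    by_cases he1 : e = 1
    · left; rw [he1]; rfl
    · right
      have ho : orderOf (⟨e, hec⟩ : ↥(Subgroup.center ↥F)) = 2 := by
        rw [← Subgroup.orderOf_coe]
        exact orderOf_eq_prime (by rw [pow_two]; exact hee) he1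
      exact congrArg Subtype.val
        (Cfsg.Agent.Lib.Classification.eq_z_of_char_abelian z hz hQ _ inferInstance inferInstance ho)
  have hD : ZData z Q := by
    refine ⟨hz1, hzz, ⟨_, Cfsg.Agent.Lib.Classification.mem_genFitting_centralizer z, rfl⟩, ?_, ?_, ?_,
      ?_, ?_, ?_⟩
    · rintro _ ⟨q, _, rfl⟩
      exact (hC _).mp q.2
    · rintro _ ⟨q, hq, rfl⟩
      rcases hsq ⟨q, hq⟩ with k | k
      · exact Or.inl (congrArg (fun t : ↥F => ((t : ↥C) : G)) k)
      · rcases he with j | j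
        · exact Or.inl ((congrArg (fun t : ↥F => ((t : ↥C) : G)) k).trans j)
        · exact Or.inr ((congrArg (fun t : ↥F => ((t : ↥C) : G)) k).trans j)
    · rintro _ ⟨u, hu, rfl⟩ huu hcomm
      by_cases hu1 : u = 1
      · left; rw [hu1]; rfl
      · right
        have huc : (⟨u, hu⟩ : ↥F) ∈ Subgroup.center ↥F := Subgroup.mem_center_iff.mpr fun q =>
          Subtype.ext (Subtype.ext (hcomm _ (Subgroup.mem_map_of_mem C.subtype q.2)))
        have ho : orderOf (⟨_, huc⟩ : ↥(Subgroup.center ↥F)) = 2 := by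
          rw [← Subgroup.orderOf_coe, ← Subgroup.orderOf_coe]
          exact orderOf_eq_prime (Subtype.ext (by rw [pow_two]; exact huu)) hu1
        exact congrArg Subtype.val
          (Cfsg.Agent.Lib.Classification.eq_z_of_char_abelian z hz hQ _ inferInstance inferInstance ho)
    · intro x hx hcomm
      refine ⟨⟨x, (hC x).mpr hx⟩, Cfsg.Agent.Lib.Components.centralizer_genFitting_le ?_, rfl⟩
      rw [Subgroup.mem_centralizer_iff]
      intro q hq
      exact Subtype.ext (hcomm _ (Subgroup.mem_map_of_mem C.subtype hq)).symm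
    · rintro x hx _ ⟨q, hq, rfl⟩
      exact ⟨⟨x, (hC x).mpr hx⟩ * q * ⟨x, (hC x).mpr hx⟩⁻¹,
        (inferInstance : F.Normal).conj_mem q hq _, rfl⟩
    · intro hodd x hx
      have hC2 : IsPGroup 2 ↥C := by
        intro y
        obtain ⟨k, m, hm, hem⟩ := Nat.exists_eq_two_pow_mul_odd (orderOf_pos (y : G)).ne'
        refine ⟨k, Subtype.ext ?_⟩
        rw [SubmonoidClass.coe_pow, OneMemClass.coe_one]
        refine hodd _ ?_ ?_
        · exact ((show Commute (y : G) z from (hC _).mp y.2).pow_left _).eq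
        · rwa [orderOf_pow, hem, Nat.gcd_eq_right (Dvd.intro m rfl),
            Nat.mul_div_cancel_left _ (Nat.two_pow_pos k)]
      refine ⟨⟨x, (hC x).mpr hx⟩, ?_, rfl⟩
      rw [SetLike.mem_coe, hF, genFitting_eq_top_of_isPGroup hC2]
      trivial
  have hzQ' := hD.mem_conj hne hin
  refine ⟨hzQ', ?_⟩
  have hD' := hD.conj g
  obtain ⟨q₀, hq₀, hq₀z⟩ := hD.exists_swap hin hD'.ne hne hD'.sq
  obtain ⟨q₁, hq₁, hq₁z⟩ := hD'.exists_swap hzQ' hz1 (Ne.symm hne) hzz
  set z' := g * z * g⁻¹ with hz'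
  set S : Subgroup G := Q ⊔ Q.map (MulAut.conj g).toMonoidHom
  have m₀ : q₀ ∈ S := Subgroup.mem_sup_left hq₀
  have m₁ : q₁ ∈ S := Subgroup.mem_sup_right hq₁
  have hc : z * z' = z' * z := (hD.comm z' hin).symm
  have f₀ : q₀ * z * q₀⁻¹ = z := by rw [hD.comm q₀ hq₀, mul_inv_cancel_right]
  have f₁ : q₁ * z' * q₁⁻¹ = z' := by rw [hD'.comm q₁ hq₁, mul_inv_cancel_right]
  have f₂ : q₀ * (z * z') * q₀⁻¹ = z' := by
    rw [show q₀ * (z * z') * q₀⁻¹ = (q₀ * z * q₀⁻¹) * (q₀ * z' * q₀⁻¹) by group, f₀, hq₀z, ← mul_assoc,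
      hzz, one_mul]
  have f₃ : q₁ * (z * z') * q₁⁻¹ = z := by
    rw [show q₁ * (z * z') * q₁⁻¹ = (q₁ * z * q₁⁻¹) * (q₁ * z' * q₁⁻¹) by group, f₁, hq₁z, ← hc,
      mul_assoc, hD'.sq, mul_one]
  have hE : ∀ u ∈ Subgroup.closure ({z, z'} : Set G), u = 1 ∨ u = z ∨ u = z' ∨ u = z * z' := by
    intro u hu
    obtain ⟨i, j, rfl⟩ : ∃ i j : ℤ, z ^ i * z' ^ j = u := by
      induction hu using Subgroup.closure_induction with
      | mem y hy =>
        rcases hy with rfl | hy
        · exact ⟨1, 0, by simp⟩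
        · rw [Set.mem_singleton_iff] at hy
          exact ⟨0, 1, by simp [hy]⟩
      | one => exact ⟨0, 0, by simp⟩
      | mul y y' _ _ h1 h2 =>
        obtain ⟨i, j, rfl⟩ := h1
        obtain ⟨i', j', rfl⟩ := h2
        refine ⟨i + i', j + j', ?_⟩
        have k : Commute (z ^ i') (z' ^ j) := (show Commute z z' from hc).zpow_zpow _ _
        calc z ^ (i + i') * z' ^ (j + j') = z ^ i * (z ^ i' * z' ^ j) * z' ^ j' := by
              rw [zpow_add, zpow_add]; group
          _ = z ^ i * (z' ^ j * z ^ i') * z' ^ j' := by rw [k.eq]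
          _ = _ := by group
      | inv y _ h1 =>
        obtain ⟨i, j, rfl⟩ := h1
        refine ⟨-i, -j, ?_⟩
        have k : Commute (z ^ (-i)) (z' ^ (-j)) := (show Commute z z' from hc).zpow_zpow _ _
        rw [k.eq, mul_inv_rev, zpow_neg, zpow_neg]
    have hp : ∀ (v : G), v * v = 1 → ∀ k : ℤ, v ^ k = 1 ∨ v ^ k = v := by
      intro v hv k
      have hv2 : v ^ (2 : ℤ) = 1 := by rw [zpow_ofNat, pow_two]; exact hv
      rcases Int.even_or_odd k with ⟨m, rfl⟩ | ⟨m, rfl⟩
      · left; rw [← two_mul, zpow_mul, hv2, one_zpow]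
      · right; rw [zpow_add, zpow_mul, hv2, one_zpow, one_mul, zpow_one]
    rcases hp z hzz i with a | a <;> rcases hp z' hD'.sq j with b | b <;> rw [a, b] <;> simp
  intro u hu v hv hu1 hv1 huv
  have mk : ∀ {x a b : G}, x ∈ S → x * z * x⁻¹ = a → x * z' * x⁻¹ = b →
      ∃ x ∈ S, x * z * x⁻¹ = a ∧ x * z' * x⁻¹ = b := fun hx h1 h2 => ⟨_, hx, h1, h2⟩
  rcases hE u hu with a | a | a | a <;> rcases hE v hv with b | b | b | b <;>
    first | exact absurd a hu1 | exact absurd b hv1 | exact absurd (a.trans b.symm) huv | skip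
  all_goals rw [a, b]
  · exact mk S.one_mem (by group) (by group)
  · exact mk m₀ f₀ hq₀z
  · refine mk (S.mul_mem (S.mul_mem m₀ m₁) m₀) ?_ ?_
    · rw [show q₀ * q₁ * q₀ * z * (q₀ * q₁ * q₀)⁻¹ = q₀ * (q₁ * (q₀ * z * q₀⁻¹) * q₁⁻¹) * q₀⁻¹ by group,
        f₀, hq₁z, ← hc, f₂]
    · rw [show q₀ * q₁ * q₀ * z' * (q₀ * q₁ * q₀)⁻¹ = q₀ * (q₁ * (q₀ * z' * q₀⁻¹) * q₁⁻¹) * q₀⁻¹ by group,
        hq₀z, f₃, f₀]
  · refine mk (S.mul_mem m₀ m₁) ?_ ?_
    · rw [show q₀ * q₁ * z * (q₀ * q₁)⁻¹ = q₀ * (q₁ * z * q₁⁻¹) * q₀⁻¹ by group, hq₁z, ← hc, f₂]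
    · rw [show q₀ * q₁ * z' * (q₀ * q₁)⁻¹ = q₀ * (q₁ * z' * q₁⁻¹) * q₀⁻¹ by group, f₁, hq₀z]
  · refine mk (S.mul_mem m₁ m₀) ?_ ?_
    · rw [show q₁ * q₀ * z * (q₁ * q₀)⁻¹ = q₁ * (q₀ * z * q₀⁻¹) * q₁⁻¹ by group, f₀, hq₁z, hc]
    · rw [show q₁ * q₀ * z' * (q₁ * q₀)⁻¹ = q₁ * (q₀ * z' * q₀⁻¹) * q₁⁻¹ by group, hq₀z, f₃]
  · exact mk m₁ (by rw [hq₁z, hc]) f₁

end Cfsg.Agent.S1774
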