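import Cfsg.Statements.S1775
import Cfsg.Agent.Lib.Classification.PTerminal
import Cfsg.Agent.Lib.Classification.Basic
import Cfsg.Agent.Lib.Cores.Fitting

set_option autoImplicit false
open Cfsg

namespace Cfsg.Agent.S1775

open Cfsg.Agent.Lib.Components in
/-- A `2`-component of a subnormal subgroup maps onto a `2`-component under a surjection with odd
kernel. -/
private theorem isPComponent_map {G : Type*} [Group G] [Finite G] {G' : Type*} [Group G'] [Finite G']
    {D : Subgroup G} (hD : D.IsSubnormal) {J : Subgroup ↥D} (hJ : Cfsg.IsPComponent 2 J)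
    (φ : G →* G') (hφ : Function.Surjective φ) (hker : Odd (Nat.card ↥φ.ker)) :
    Cfsg.IsPComponent 2 ((J.map D.subtype).map φ) := by
  haveI : Fact (Nat.Prime 2) := ⟨Nat.prime_two⟩
  set J' := J.map D.subtype with hJ'
  have hJ'sub : J'.IsSubnormal := hJ.1.trans' hD
  let e : ↥J ≃* ↥J' := J.equivMapOfInjective D.subtype D.subtype_injective
  have hJ'q : Cfsg.IsQuasisimple (↥J' ⧸ Cfsg.pPrimeCore 2 ↥J') :=
    IsQuasisimple.of_mulEquiv
      (QuotientGroup.congr _ _ e (Cfsg.Agent.Lib.Cores.map_pPrimeCore_equiv e))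
      (IsPComponent.isQuasisimple_quotient hJ)
  set q := QuotientGroup.mk' (Cfsg.pPrimeCore 2 G') with hq
  -- the preimage of the core
  have hkerf : (q.comp φ).ker = Cfsg.pPrimeCore 2 G := by
    refine le_antisymm (Cfsg.Agent.Lib.Cores.le_pPrimeCore inferInstance ?_) fun x hx => ?_
    · have h1 := card_eq_card_map_mul φ (q.comp φ).ker
      have h2 : (q.comp φ).ker.map φ ≤ Cfsg.pPrimeCore 2 G' := by
        rintro _ ⟨x, hx, rfl⟩
        exact (QuotientGroup.eq_one_iff _).mp (MonoidHom.mem_ker.mp hx)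
      rw [h1]
      refine Nat.Coprime.mul_left ?_ ?_
      · exact (Cfsg.Agent.Lib.Cores.pPrimeCore_coprime 2 G').coprime_dvd_left
          (Subgroup.card_dvd_of_le h2)
      · refine (Nat.coprime_two_right.mpr hker).coprime_dvd_left ?_
        rw [← Subgroup.card_map_of_injective (q.comp φ).ker.subtype_injective]
        exact Subgroup.card_dvd_of_le (by rw [Subgroup.subgroupOf_map_subtype]; exact inf_le_left)
    · show q (φ x) = 1
      exact (QuotientGroup.eq_one_iff _).mpr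
        (Cfsg.Agent.Lib.Cores.map_pPrimeCore_le φ hφ (Subgroup.mem_map_of_mem φ hx))
  have hcomp : Cfsg.IsComponent ((J'.map φ).map q) := by
    refine ⟨(hJ'sub.map hφ).map (QuotientGroup.mk'_surjective _), ?_⟩
    rw [Subgroup.map_map]
    let f := (q.comp φ).subgroupMap J'
    have hf : Function.Surjective f := MonoidHom.subgroupMap_surjective _ J'
    have hk : f.ker = Cfsg.pPrimeCore 2 ↥J' := by
      apply Subgroup.map_injective J'.subtype_injective
      rw [map_pPrimeCore_subtype 2 hJ'sub, ← hkerf]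
      ext x
      constructor
      · rintro ⟨y, hy, rfl⟩
        exact ⟨y.2, congrArg Subtype.val hy⟩
      · intro hx
        exact ⟨⟨x, hx.1⟩, Subtype.ext hx.2, rfl⟩
    exact IsQuasisimple.of_mulEquiv
      ((QuotientGroup.quotientMulEquivOfEq hk.symm).trans (QuotientGroup.quotientKerEquivOfSurjective f hf))
      hJ'q
  refine ⟨hJ'sub.map hφ, hcomp, fun H hH hle heq => le_antisymm hle ?_⟩
  have hgen : genPElements 2 (J'.map φ) = J'.map φ := by
    rw [← map_genPElements 2 φ, hJ', ← map_genPElements 2 D.subtype]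
    congr 2
    have h1 := IsPComponent.eq_genPElements hJ
    refine le_antisymm (genPElements_le 2 J) ?_
    conv_lhs => rw [h1]
    refine (Subgroup.closure_le _).mpr fun x hx => Subgroup.subset_closure ⟨?_, hx.2⟩
    rw [h1]
    exact Subgroup.subset_closure hx
  calc J'.map φ = genPElements 2 (J'.map φ) := hgen.symm
    _ ≤ genPElements 2 (((J'.map φ).map q).comap q) :=
        Subgroup.closure_mono fun x hx => ⟨Subgroup.mem_map_of_mem q hx.1, hx.2⟩
    _ ≤ H := genPElements_le_of_map_eq hH heq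

/-- Let G be a finite group whose generalized Fitting subgroup is a non-abelian simple group and in which every proper section (every quotient H/N of a proper subgroup H, or of G by a nontrivial normal subgroup) has the B-property. Let x, y be commuting involutions, let D be the intersection of the 2-layer of C_G(x) with C_G(y), and let J be a 2-component of D. Write Q for the quotient of C_G(y) by its largest normal odd-order subgroup. Then (i) the image of J in Q is a component of the centralizer in Q of the image of x; and (ii) for every J-invariant subgroup E of odd order of C_G(x) ∩ C_G(y), the commutator subgroup [J, E] lies in the largest normal odd-order subgroup of C_G(y). -/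
theorem result {G : Type*} [Group G] [Finite G]
    (hF : IsSimpleGroup ↥(Cfsg.generalizedFittingSubgroup G)) (hF' : ¬ IsMulCommutative ↥(Cfsg.generalizedFittingSubgroup G))
    (hsec : ∀ (H : Subgroup G) (N : Subgroup ↥H) [N.Normal], (H ≠ ⊤ ∨ N ≠ ⊥) → Cfsg.HasBProperty (↥H ⧸ N))
    (x y : G) (hx : orderOf x = 2) (hy : orderOf y = 2) (hxy : x * y = y * x)
    (J : Subgroup ↥((Cfsg.pLayer 2 ↥(Subgroup.centralizer ({x} : Set G))).map (Subgroup.centralizer ({x} : Set G)).subtype ⊓ Subgroup.centralizer ({y} : Set G)))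
    (hJ : Cfsg.IsPComponent 2 J) :
    Cfsg.IsComponent
        ((((J.map (Subgroup.subtype _)).subgroupOf (Subgroup.centralizer ({y} : Set G))).map (QuotientGroup.mk' (Cfsg.oddCore ↥(Subgroup.centralizer ({y} : Set G))))).subgroupOf
          (Subgroup.centralizer ({(QuotientGroup.mk' (Cfsg.oddCore ↥(Subgroup.centralizer ({y} : Set G))) ⟨x, Subgroup.mem_centralizer_singleton_iff.mpr hxy⟩ : ↥(Subgroup.centralizer ({y} : Set G)) ⧸ Cfsg.oddCore ↥(Subgroup.centralizer ({y} : Set G)))} : Set _))) ∧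
      ∀ E : Subgroup G, E ≤ Subgroup.centralizer ({x} : Set G) ⊓ Subgroup.centralizer ({y} : Set G) → Odd (Nat.card ↥E) →
        (∀ j ∈ J.map (Subgroup.subtype _), ∀ e ∈ E, j * e * j⁻¹ ∈ E) →
          ⁅J.map (Subgroup.subtype _), E⁆ ≤ (Cfsg.oddCore ↥(Subgroup.centralizer ({y} : Set G))).map (Subgroup.centralizer ({y} : Set G)).subtype := by
  haveI : Fact (Nat.Prime 2) := ⟨Nat.prime_two⟩
  revert J hJ
  set Cy := Subgroup.centralizer ({y} : Set G) with hCy
  set O := Cfsg.oddCore ↥Cy with hO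
  set π := QuotientGroup.mk' O with hπ
  set L := (Cfsg.pLayer 2 ↥(Subgroup.centralizer ({x} : Set G))).map
    (Subgroup.centralizer ({x} : Set G)).subtype with hL
  set D := L ⊓ Cy with hDdef
  intro J hJ
  let x' : ↥Cy := ⟨x, Subgroup.mem_centralizer_singleton_iff.mpr hxy⟩
  set CQ := Subgroup.centralizer ({π x'} : Set (↥Cy ⧸ O)) with hCQ
  -- `C_G(y)` is proper
  have hCyne : Cy ≠ ⊤ := by
    intro htop
    haveI := hF
    have hyc : y ∈ Subgroup.center G := Subgroup.mem_center_iff.mpr fun g =>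
      Subgroup.mem_centralizer_singleton_iff.mp (htop.ge (Subgroup.mem_top g))
    have hyF : y ∈ Cfsg.generalizedFittingSubgroup G :=
      Cfsg.Agent.Lib.Components.fitting_le_genFitting (Cfsg.Agent.Lib.Cores.center_le_fittingSubgroup hyc)
    rcases (inferInstance : (Subgroup.center ↥(Cfsg.generalizedFittingSubgroup G)).Normal).eq_bot_or_eq_top with h | h
    · have hm : (⟨y, hyF⟩ : ↥(Cfsg.generalizedFittingSubgroup G)) ∈ Subgroup.center _ :=
        Subgroup.mem_center_iff.mpr fun g => Subtype.ext (Subgroup.mem_center_iff.mp hyc g)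
      rw [h, Subgroup.mem_bot] at hm
      rw [show y = 1 from congrArg Subtype.val hm] at hy
      simp at hy
    · exact hF' ⟨⟨fun a b => Subgroup.mem_center_iff.mp (h.ge (Subgroup.mem_top b)) a⟩⟩
  have hB : Cfsg.HasBProperty (↥Cy ⧸ O) := hsec Cy O (Or.inl hCyne)
  have hOodd : (Nat.card ↥O).Coprime 2 := Cfsg.Agent.Lib.Cores.pPrimeCore_coprime 2 ↥Cy
  have hbot : Cfsg.oddCore (↥Cy ⧸ O) = ⊥ := Cfsg.Agent.Lib.Components.pPrimeCore_quotient_eq_bot 2
  have hx2 : x' ^ 2 = 1 := Subtype.ext (by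
    show x ^ 2 = 1
    rw [← hx]; exact pow_orderOf_eq_one x)
  have hxb : orderOf (π x') = 2 := by
    refine orderOf_eq_prime (by rw [← map_pow, hx2, map_one]) fun h1 => ?_
    have hmem : x' ∈ O := (QuotientGroup.eq_one_iff x').mp h1
    have ho : orderOf (⟨x', hmem⟩ : ↥O) = 2 := by
      rw [← Subgroup.orderOf_coe, ← Subgroup.orderOf_coe]; exact hx
    have hd : 2 ∣ Nat.card ↥O := ho ▸ orderOf_dvd_natCard _
    exact Nat.prime_two.ne_one (Nat.Coprime.eq_one_of_dvd hOodd.symm hd)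
  -- the surjection `C(x) ∩ C(y) → C(x̄)`
  set Hy := Subgroup.centralizer ({x'} : Set ↥Cy) with hHy
  let φ : ↥Hy →* ↥CQ := (π.comp Hy.subtype).codRestrict CQ fun h => by
    show π h ∈ CQ
    rw [hCQ, Subgroup.mem_centralizer_singleton_iff, ← map_mul, ← map_mul,
      Subgroup.mem_centralizer_singleton_iff.mp h.2]
  have hφsurj : Function.Surjective φ := by
    rintro ⟨c, hc⟩
    obtain ⟨k, rfl⟩ := QuotientGroup.mk'_surjective O c
    have hyk : k⁻¹ * (x' * k * x'⁻¹) ∈ O := by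
      apply (QuotientGroup.eq_one_iff _).mp
      show π (k⁻¹ * (x' * k * x'⁻¹)) = 1
      rw [map_mul, map_mul, map_mul, map_inv, map_inv,
        ← Subgroup.mem_centralizer_singleton_iff.mp hc]
      simp [mul_assoc, hπ]
    obtain ⟨n, hn, hfix⟩ := Cfsg.Agent.Lib.Classification.exists_fixed_in_coset (p := 2) (N := O)
      hOodd hx2 (fun n hn => (inferInstance : O.Normal).conj_mem n hn x') hyk
    refine ⟨⟨k * n, Subgroup.mem_centralizer_singleton_iff.mpr hfix.symm⟩, Subtype.ext ?_⟩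
    show π (k * n) = π k
    rw [map_mul, show π n = 1 from (QuotientGroup.eq_one_iff n).mpr hn, mul_one]
  have hφker : Odd (Nat.card ↥φ.ker) := by
    have h1 : φ.ker.map Hy.subtype ≤ O := by
      rintro _ ⟨h, hh, rfl⟩
      exact (QuotientGroup.eq_one_iff _).mp (congrArg Subtype.val (MonoidHom.mem_ker.mp hh))
    rw [← Nat.coprime_two_right, ← Subgroup.card_map_of_injective Hy.subtype_injective]
    exact hOodd.coprime_dvd_left (Subgroup.card_dvd_of_le h1)
  -- `D` inside `Hy`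
  set D' := (D.subgroupOf Cy).subgroupOf Hy with hD'
  have hDCy : D ≤ Cy := inf_le_right
  have hDH : D.subgroupOf Cy ≤ Hy := by
    intro d hd
    rw [hHy, Subgroup.mem_centralizer_singleton_iff]
    have h1 : (d : G) ∈ L := hd.1
    obtain ⟨l, _, hl⟩ := h1
    refine Subtype.ext ?_
    show (d : G) * x = x * d
    rw [← hl]
    exact Subgroup.mem_centralizer_singleton_iff.mp l.2
  haveI hD'n : D'.Normal := by
    refine ⟨fun d hd h => ?_⟩
    have hLd : ((d : ↥Cy) : G) ∈ L := hd.1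
    obtain ⟨l, hl, hl'⟩ := hLd
    have hhx : ((h : ↥Cy) : G) ∈ Subgroup.centralizer ({x} : Set G) := by
      rw [Subgroup.mem_centralizer_singleton_iff]
      exact congrArg Subtype.val (Subgroup.mem_centralizer_singleton_iff.mp h.2)
    refine Subgroup.mem_subgroupOf.mpr (Subgroup.mem_subgroupOf.mpr ⟨?_, ((h * d * h⁻¹ : ↥Hy) : ↥Cy).2⟩)
    refine ⟨⟨_, hhx⟩ * l * ⟨_, hhx⟩⁻¹,
      (inferInstance : (Cfsg.pLayer 2 ↥(Subgroup.centralizer ({x} : Set G))).Normal).conj_mem l hl _, ?_⟩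
    show ((h : ↥Cy) : G) * (l : G) * ((h : ↥Cy) : G)⁻¹ = _
    rw [show (l : G) = ((d : ↥Cy) : G) from hl']
    rfl
  let e : ↥D ≃* ↥D' :=
    (Subgroup.subgroupOfEquivOfLe hDCy).symm.trans (Subgroup.subgroupOfEquivOfLe hDH).symm
  have hJ'' := Cfsg.Agent.Lib.Classification.isPComponent_map_mulEquiv 2 e hJ
  have hP := isPComponent_map (Subgroup.Normal.isSubnormal hD'n) hJ'' φ hφsurj hφker
  set Jbar := ((J.map e.toMonoidHom).map D'.subtype).map φ with hJbar
  -- it is a component by the B-property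
  have hcomp : Cfsg.IsComponent Jbar := by
    rw [Cfsg.Agent.Lib.Classification.isComponent_iff_commutator_pPrimeCore hP, eq_bot_iff]
    have h1 := hB (π x') hxb
    rw [hbot, le_bot_iff, Subgroup.map_eq_bot_iff, Subgroup.ker_subtype] at h1
    exact (Subgroup.commutator_mono (Cfsg.Agent.Lib.Components.IsPComponent.le_pLayer hP) le_rfl).trans h1
  have hmemJ : ∀ c : ↥CQ, c ∈ Jbar ↔ ∃ j ∈ J, π ⟨(j : G), hDCy j.2⟩ = c := by
    intro c
    constructor
    · rintro ⟨_, ⟨_, ⟨j, hj, rfl⟩, rfl⟩, rfl⟩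
      exact ⟨j, hj, rfl⟩
    · rintro ⟨j, hj, hjc⟩
      exact ⟨_, ⟨_, ⟨j, hj, rfl⟩, rfl⟩, Subtype.ext hjc⟩
  have heq : (((J.map D.subtype).subgroupOf Cy).map π).subgroupOf CQ = Jbar := by
    ext c
    rw [hmemJ, Subgroup.mem_subgroupOf]
    constructor
    · rintro ⟨d, ⟨j, hj, hjd⟩, hdc⟩
      exact ⟨j, hj, by rw [← hdc]; congr 1; exact Subtype.ext hjd⟩
    · rintro ⟨j, hj, hjc⟩
      exact ⟨⟨(j : G), hDCy j.2⟩, ⟨j, hj, rfl⟩, hjc⟩
  refine ⟨heq ▸ hcomp, ?_⟩
  intro E hE hodd hinv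
  have hEy : E ≤ Cy := hE.trans inf_le_right
  have hEx : E ≤ Subgroup.centralizer ({x} : Set G) := hE.trans inf_le_left
  have hEH : E.subgroupOf Cy ≤ Hy := fun w hw => by
    rw [hHy, Subgroup.mem_centralizer_singleton_iff]
    exact Subtype.ext (Subgroup.mem_centralizer_singleton_iff.mp (hEx hw))
  set Ebar := ((E.subgroupOf Cy).subgroupOf Hy).map φ with hEbar
  have hEodd : Odd (Nat.card ↥Ebar) := by
    have h1 : Nat.card ↥((E.subgroupOf Cy).subgroupOf Hy) = Nat.card ↥E :=
      (Nat.card_congr (Subgroup.subgroupOfEquivOfLe hEH).toEquiv).trans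
        (Nat.card_congr (Subgroup.subgroupOfEquivOfLe hEy).toEquiv)
    exact hodd.of_dvd_nat (h1 ▸ Subgroup.card_map_dvd _ φ)
  have hnorm : Jbar ≤ Subgroup.normalizer (Ebar : Set ↥CQ) := by
    intro c hc
    obtain ⟨j, hj, hjc⟩ := (hmemJ c).mp hc
    apply Cfsg.Agent.Lib.Classification.map_conj_eq_iff_mem_normalizer.mp
    refine Subgroup.eq_of_le_of_card_ge ?_
      (Cfsg.Agent.Lib.Classification.card_map_conj _ _).ge
    rintro _ ⟨_, ⟨w, hw, rfl⟩, rfl⟩
    have hwE : ((w : ↥Cy) : G) ∈ E := hw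
    have hmem := hinv (j : G) ⟨j, hj, rfl⟩ _ hwE
    refine ⟨⟨⟨_, hEy hmem⟩, hEH (Subgroup.mem_subgroupOf.mpr hmem)⟩, hmem, Subtype.ext ?_⟩
    show π ⟨(j : G) * ((w : ↥Cy) : G) * (j : G)⁻¹, _⟩ = (c : ↥Cy ⧸ O) * π (w : ↥Cy) * (c : ↥Cy ⧸ O)⁻¹
    rw [← hjc, ← map_inv, ← map_mul, ← map_mul]
    rfl
  have hzero : ⁅Jbar, Ebar⁆ = ⊥ := by
    have hJ0 := Cfsg.Agent.Lib.Components.IsComponent.subgroupOf hcomp
      (le_sup_left : Jbar ≤ Jbar ⊔ Ebar)
    haveI hE0 : (Ebar.subgroupOf (Jbar ⊔ Ebar)).Normal :=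
      Subgroup.normal_subgroupOf_of_le_normalizer (sup_le hnorm Subgroup.le_normalizer)
    rcases Cfsg.Agent.Lib.Components.IsComponent.le_or_commutator_eq_bot hJ0
      (Subgroup.Normal.isSubnormal hE0) with h | h
    · exfalso
      have hle : Jbar ≤ Ebar := fun c hc =>
        h (x := (⟨c, Subgroup.mem_sup_left hc⟩ : ↥(Jbar ⊔ Ebar))) hc
      have := hEodd.of_dvd_nat ((Cfsg.Agent.Lib.Components.IsPComponent.dvd_card hP).trans
        (Subgroup.card_dvd_of_le hle))
      exact (by decide : ¬ Odd 2) this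
    · rw [Cfsg.Agent.Lib.Classification.commutator_eq_bot_iff_commute] at h ⊢
      intro a ha b hb
      exact congrArg Subtype.val (h ⟨a, Subgroup.mem_sup_left ha⟩ ha ⟨b, Subgroup.mem_sup_right hb⟩ hb)
  rw [Subgroup.commutator_le]
  rintro _ ⟨j, hj, rfl⟩ w hw
  have hjc : φ ((e j : ↥D') : ↥Hy) ∈ Jbar := ⟨_, ⟨_, ⟨j, hj, rfl⟩, rfl⟩, rfl⟩
  have hwc : φ ⟨⟨w, hEy hw⟩, hEH (Subgroup.mem_subgroupOf.mpr hw)⟩ ∈ Ebar := ⟨_, hw, rfl⟩
  have hc := congrArg Subtype.val
    (Cfsg.Agent.Lib.Classification.commutator_eq_bot_iff_commute.mp hzero _ hjc _ hwc)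
  refine ⟨⟨(j : G), hDCy j.2⟩ * ⟨w, hEy hw⟩ * ⟨(j : G), hDCy j.2⟩⁻¹ * ⟨w, hEy hw⟩⁻¹, ?_, by
    simp [commutatorElement_def]⟩
  apply (QuotientGroup.eq_one_iff _).mp
  show π _ = 1
  rw [map_mul, map_mul, map_mul, map_inv, map_inv, mul_inv_eq_one, mul_inv_eq_iff_eq_mul]
  exact hc

end Cfsg.Agent.S1775
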