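import Cfsg.Statements.S1781
import Cfsg.Agent.Lib.Classification.TIGroups

set_option autoImplicit false
open Cfsg

namespace Cfsg.Agent.S1781

/-- Let A be an abelian 2-subgroup of the finite group G such that every conjugate of A equals A or meets A trivially, and let g ∈ G with g A g⁻¹ ≠ A. Then either the subgroup of those elements of A that normalize g A g⁻¹ is an elementary abelian 2-group, or A and g A g⁻¹ commute elementwise. -/
theorem result {G : Type*} [Group G] [Finite G] (A : Subgroup G)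
    (hA2 : IsPGroup 2 ↥A) (hAa : IsMulCommutative ↥A)
    (hti : ∀ h : G, A.map (MulAut.conj h).toMonoidHom = A ∨ A.map (MulAut.conj h).toMonoidHom ⊓ A = ⊥)
    (g : G) (hg : A.map (MulAut.conj g).toMonoidHom ≠ A) :
    Cfsg.IsElementaryAbelian 2 (A ⊓ Subgroup.normalizer ((A.map (MulAut.conj g).toMonoidHom : Subgroup G) : Set G)) ∨
      ⁅A, A.map (MulAut.conj g).toMonoidHom⁆ = ⊥ := by
  open Cfsg.Agent.Lib.Classification in
  haveI := hAa
  set A' := A.map (MulAut.conj g).toMonoidHom with hA'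
  by_cases hel : Cfsg.IsElementaryAbelian 2
      (A ⊓ Subgroup.normalizer ((A' : Subgroup G) : Set G))
  · exact Or.inl hel
  right
  have htriv : A ⊓ A' = ⊥ := by rw [inf_comm]; exact (hti g).resolve_left hg
  have hcomm : ∀ a ∈ A, ∀ a' ∈ A, a * a' = a' * a := fun a ha a' ha' =>
    congrArg Subtype.val (mul_comm' (⟨a, ha⟩ : A) ⟨a', ha'⟩)
  obtain ⟨b, hb, hb2⟩ : ∃ b ∈ A ⊓ Subgroup.normalizer ((A' : Subgroup G) : Set G), b ^ 2 ≠ 1 := by
    by_contra h
    push_neg at h
    exact hel ⟨⟨⟨fun x y => Subtype.ext (hcomm _ x.2.1 _ y.2.1)⟩⟩, h⟩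
  obtain ⟨hbA, hbN⟩ := hb
  have hb1 : b ≠ 1 := fun h => hb2 (by rw [h, one_pow])
  have hnorm : ∀ x : G, ∀ a ∈ A, a ≠ 1 → x * a = a * x → x ∈ Subgroup.normalizer (A : Set G) := by
    intro x a ha ha1 hxa
    rw [← map_conj_eq_iff_mem_normalizer]
    refine (hti x).resolve_right fun h => ha1 ?_
    have : a ∈ A.map (MulAut.conj x).toMonoidHom ⊓ A := ⟨⟨a, ha, by simp [hxa]⟩, ha⟩
    rwa [h, Subgroup.mem_bot] at this
  have hA'comm : ∀ u ∈ A', ∀ v ∈ A', u * v = v * u := by
    rintro _ ⟨u, hu, rfl⟩ _ ⟨v, hv, rfl⟩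
    rw [← map_mul, ← map_mul, hcomm u hu v hv]
  letI : CommGroup A' :=
    { (inferInstance : Group A') with mul_comm := fun u v => Subtype.ext (hA'comm u u.2 v v.2) }
  have hmem : ∀ u ∈ A', b * u * b⁻¹ ∈ A' := fun u hu => (Subgroup.mem_set_normalizer_iff.mp hbN u).mp hu
  have hmem' : ∀ u ∈ A', b⁻¹ * u * b ∈ A' := fun u hu => by
    have := (Subgroup.mem_set_normalizer_iff.mp ((Subgroup.normalizer (A' : Set G)).inv_mem hbN) u).mp hu
    simpa using this
  let t : MulAut A' :=
    { toFun := fun u => ⟨b * u * b⁻¹, hmem u u.2⟩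
      invFun := fun u => ⟨b⁻¹ * u * b, hmem' u u.2⟩
      left_inv := fun u => Subtype.ext (by simp [mul_assoc])
      right_inv := fun u => Subtype.ext (by simp [mul_assoc])
      map_mul' := fun u v => Subtype.ext (by simp [mul_assoc]) }
  have hA'2 : IsPGroup 2 A' := hA2.map _
  obtain ⟨k, hk⟩ := hA2 ⟨b, hbA⟩
  have hbk : b ^ 2 ^ k = 1 := congrArg Subtype.val hk
  have ht : ∃ j : ℕ, orderOf t = 2 ^ j := by
    have hpow : ∀ n : ℕ, ∀ u : A', ((t ^ n) u : G) = b ^ n * u * (b ^ n)⁻¹ := by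
      intro n
      induction n with
      | zero => intro u; simp
      | succ n ih =>
        intro u
        rw [pow_succ, MulAut.mul_apply, ih]
        show b ^ n * (b * u * b⁻¹) * (b ^ n)⁻¹ = _
        rw [pow_succ]; group
    have : t ^ 2 ^ k = 1 := MulEquiv.ext fun u => Subtype.ext (by simp [hpow, hbk])
    obtain ⟨j, -, hj⟩ := (Nat.dvd_prime_pow Nat.prime_two).mp (orderOf_dvd_of_pow_eq_one this)
    exact ⟨j, hj⟩
  -- fixed points of `t²` are fixed by `t`
  have hfix : ∀ u : A', t (t u) = u → t u = u := by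
    intro u hu
    have e : b * (b * u * b⁻¹) * b⁻¹ = (u : G) := congrArg Subtype.val hu
    have e2 : (u : G) * (b * b) = (b * b) * u := by
      calc (u : G) * (b * b) = b * (b * u * b⁻¹) * b⁻¹ * (b * b) := by rw [e]
        _ = (b * b) * u := by group
    have hun : (u : G) ∈ Subgroup.normalizer (A : Set G) :=
      hnorm u (b * b) (A.mul_mem hbA hbA) (by rwa [← pow_two]) e2
    have h1 : b * u * b⁻¹ * (u : G)⁻¹ ∈ A ⊓ A' := by
      constructor
      · have := A.mul_mem hbA ((Subgroup.mem_set_normalizer_iff.mp hun b⁻¹).mp (A.inv_mem hbA))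
        simpa [mul_assoc] using this
      · exact A'.mul_mem (hmem u u.2) (A'.inv_mem u.2)
    rw [htriv, Subgroup.mem_bot, mul_inv_eq_one] at h1
    exact Subtype.ext h1
  have htriv' := mulAut_two_fixed_trivial hA'2 t ht hfix
  have hA'N : A' ≤ Subgroup.normalizer (A : Set G) := by
    intro u hu
    refine hnorm u b hbA hb1 ?_
    have : b * u * b⁻¹ = u := congrArg Subtype.val (htriv' ⟨u, hu⟩)
    calc u * b = (b * u * b⁻¹) * b := by rw [this]
      _ = b * u := by group
  haveI : Fact (Nat.Prime 2) := ⟨Nat.prime_two⟩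
  refine commute_of_ti_normalizing 2 hA2 (hA2.map _) (fun x _ => ?_) (card_map_conj A g).ge htriv hA'N
  have e : A'.map (MulAut.conj x).toMonoidHom =
      (A.map (MulAut.conj (g⁻¹ * x * g)).toMonoidHom).map (MulAut.conj g).toMonoidHom := by
    rw [hA', Subgroup.map_map, Subgroup.map_map]
    congr 1
    ext q
    simp [mul_assoc]
  rcases hti (g⁻¹ * x * g) with h | h
  · exact Or.inl (by rw [e, h])
  · refine Or.inr ?_
    rw [e, hA', ← Subgroup.map_inf _ _ _ (MulAut.conj g).injective, h, Subgroup.map_bot]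

end Cfsg.Agent.S1781
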