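import Cfsg.Statements.S1782
import Cfsg.Agent.Lib.Classification.TIGroups

set_option autoImplicit false
open Cfsg

namespace Cfsg.Agent.S1782

open Cfsg.Agent.Lib.Classification

/-- A finite group of exponent 2 has trivial Frattini subgroup. -/
theorem frattini_eq_bot_of_sq {H : Type*} [Group H] [Finite H] (h : ∀ x : H, x ^ 2 = 1) :
    frattini H = ⊥ := by
  have hinv : ∀ x : H, x⁻¹ = x := fun x => inv_eq_of_mul_eq_one_left (by rw [← pow_two, h])
  have hcomm : ∀ x y : H, x * y = y * x := fun x y => by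
    have := hinv (x * y)
    rwa [mul_inv_rev, hinv, hinv, eq_comm] at this
  rw [Subgroup.eq_bot_iff_forall]
  intro x hx
  by_contra hx1
  obtain ⟨M, hxM, hmax⟩ := (Set.toFinite {M : Subgroup H | x ∉ M}).exists_maximal
    ⟨⊥, by simpa using hx1⟩
  have htop : ∀ N : Subgroup H, M ≤ N → x ∈ N → N = ⊤ := by
    intro N hMN hxN
    rw [eq_top_iff]
    intro y _
    by_cases hyM : y ∈ M
    · exact hMN hyM
    let M' : Subgroup H :=
      { carrier := {z | z ∈ M ∨ z * y ∈ M}
        one_mem' := Or.inl M.one_mem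
        mul_mem' := by
          rintro a b (ha | ha) (hb | hb)
          · exact Or.inl (M.mul_mem ha hb)
          · exact Or.inr (by simpa [mul_assoc] using M.mul_mem ha hb)
          · refine Or.inr ?_
            rw [mul_assoc, hcomm b y, ← mul_assoc]
            exact M.mul_mem ha hb
          · refine Or.inl ?_
            have e : a * y * (b * y) = a * b := by
              calc a * y * (b * y) = a * y * (y * b) := by rw [hcomm b y]
                _ = a * (y * y) * b := by group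
                _ = a * b := by rw [← pow_two, h, mul_one]
            rw [← e]
            exact M.mul_mem ha hb
        inv_mem' := by
          intro a ha
          rwa [hinv] }
    have hle : M ≤ M' := fun z hz => Or.inl hz
    have hyM' : y ∈ M' := Or.inr (by rw [← pow_two, h]; exact M.one_mem)
    have hxM' : x ∈ M' := by
      by_contra hxn
      exact hyM (hmax hxn hle hyM')
    have hxy : x * y ∈ M := hxM'.resolve_left hxM
    have : y = x * (x * y) := by rw [← mul_assoc, ← pow_two, h, one_mul]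
    rw [this]
    exact N.mul_mem hxN (hMN hxy)
  have hco : IsCoatom M := by
    refine ⟨fun e => hxM (e ▸ Subgroup.mem_top x), fun N hN => htop N hN.le ?_⟩
    by_contra hxn
    exact hN.not_ge (hmax hxn hN.le)
  exact hxM (frattini_le_coatom hco hx)

/-- Let S be a finite 2-group and Δ a set of subgroups of S closed under conjugation by S, all of the same order, each with nontrivial Frattini subgroup, and such that two distinct members of Δ meet trivially. Then any two distinct members of Δ commute elementwise. -/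
theorem result {S : Type*} [Group S] [Finite S] (hS : IsPGroup 2 S)
    (Δ : Set (Subgroup S)) (hinv : ∀ s : S, ∀ R ∈ Δ, R.map (MulAut.conj s).toMonoidHom ∈ Δ)
    (hΦ : ∀ R ∈ Δ, frattini ↥R ≠ ⊥) (hord : ∀ R ∈ Δ, ∀ T ∈ Δ, Nat.card ↥R = Nat.card ↥T)
    (hti : ∀ R ∈ Δ, ∀ T ∈ Δ, R = T ∨ R ⊓ T = ⊥) :
    ∀ R ∈ Δ, ∀ T ∈ Δ, R ≠ T → ⁅R, T⁆ = ⊥ := by
  haveI : Fact (Nat.Prime 2) := ⟨Nat.prime_two⟩
  suffices hmain : ∀ (n : ℕ) (M : Subgroup S), Nat.card M = n → ∀ R ∈ Δ, ∀ T ∈ Δ, R ≤ M → T ≤ M →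
      R ≠ T → ⁅R, T⁆ = ⊥ by
    intro R hR T hT hne
    exact hmain _ ⊤ rfl R hR T hT le_top le_top hne
  intro n
  induction n using Nat.strong_induction_on with
  | _ n ih =>
    intro M hn R hR T hT hRM hTM hne
    have hbot : R ⊓ T = ⊥ := (hti R hR T hT).resolve_left hne
    have hnorm : ∀ A ∈ Δ, ∀ B ∈ Δ, A ≠ B → B ≤ Subgroup.normalizer (A : Set S) → ⁅A, B⁆ = ⊥ := by
      intro A hA B hB hAB hN
      refine commute_of_ti_normalizing 2 (hS.to_subgroup A) (hS.to_subgroup B) (fun g _ => ?_)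
        (hord A hA B hB).le ((hti A hA B hB).resolve_left hAB) hN
      exact hti _ (hinv g B hB) B hB
    -- conjugates of a member inside `M` commute with it
    have hconj : ∀ A ∈ Δ, A ≤ M → A ≠ M → ∀ g ∈ M, A.map (MulAut.conj g).toMonoidHom ≠ A →
        ∀ a ∈ A, ∀ b ∈ A.map (MulAut.conj g).toMonoidHom, a * b = b * a := by
      intro A hA hAM hAne g hg hgA
      have hlt : A.subgroupOf M < ⊤ := by
        rw [lt_top_iff_ne_top, ne_eq, Subgroup.subgroupOf_eq_top]
        exact fun h => hAne (le_antisymm hAM h)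
      obtain ⟨M₁, hM₁, hAM₁⟩ : ∃ M₁ : Subgroup ↥M, IsCoatom M₁ ∧ A.subgroupOf M ≤ M₁ := by
        obtain h | ⟨M₁, h₁, h₂⟩ := eq_top_or_exists_le_coatom (A.subgroupOf M)
        · exact absurd h hlt.ne
        · exact ⟨M₁, h₁, h₂⟩
      haveI := (hS.to_subgroup M).isNilpotent
      haveI : M₁.Normal :=
        Subgroup.NormalizerCondition.normal_of_coatom M₁ Group.normalizerCondition_of_isNilpotent hM₁
      have hcard : Nat.card ↥(M₁.map M.subtype) < n := by
        rw [Subgroup.card_map_of_injective M.subtype_injective, ← hn]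
        exact lt_of_le_of_ne (Subgroup.card_le_card_group M₁)
          (fun e => hM₁.1 ((Subgroup.card_eq_iff_eq_top M₁).mp e))
      refine commutator_eq_bot_iff_commute.mp (ih _ hcard _ rfl A hA _ (hinv g A hA)
        (fun a ha => ⟨⟨a, hAM ha⟩, hAM₁ ha, rfl⟩) ?_ hgA.symm)
      rintro _ ⟨a, ha, rfl⟩
      exact ⟨_, Subgroup.Normal.conj_mem inferInstance _
        (hAM₁ (show (⟨a, hAM ha⟩ : M) ∈ A.subgroupOf M from ha)) ⟨g, hg⟩, by simp⟩
    have hne' : ∀ A ∈ Δ, A ≠ ⊥ := by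
      rintro A hA rfl
      haveI : Subsingleton ↥(⊥ : Subgroup S) := inferInstance
      exact hΦ ⊥ hA (Subsingleton.elim _ _)
    have hRne : R ≠ M := fun e => hne' T hT (by rw [← hbot, e]; exact (inf_eq_right.mpr hTM).symm)
    have hTne : T ≠ M := fun e => hne' R hR (by rw [← hbot, e]; exact (inf_eq_left.mpr hRM).symm)
    -- `t ∈ T` moves `R`
    by_cases hTN : T ≤ Subgroup.normalizer (R : Set S)
    · exact hnorm R hR T hT hne hTN
    by_cases hRN : R ≤ Subgroup.normalizer (T : Set S)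
    · rw [Subgroup.commutator_comm]
      exact hnorm T hT R hR hne.symm hRN
    exfalso
    obtain ⟨r₀, hr₀, hr₀n⟩ := SetLike.not_le_iff_exists.mp hRN
    -- elements of `R` outside `N(T)` are involutions
    have hinvol : ∀ r ∈ R, r ∉ Subgroup.normalizer (T : Set S) → r ^ 2 = 1 := by
      intro r hr hrn
      obtain ⟨t₁, ht₁, ht₁n⟩ := SetLike.not_le_iff_exists.mp hTN
      obtain ⟨K, hK⟩ := hS t₁
      obtain ⟨s, hs, hsn, hs2⟩ : ∃ s ∈ T, s ∉ Subgroup.normalizer (R : Set S) ∧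
          s ^ 2 ∈ Subgroup.normalizer (R : Set S) := by
        clear hr hrn
        induction K generalizing t₁ with
        | zero => exact absurd (by simpa using hK) (fun e : t₁ = 1 => ht₁n (e ▸ one_mem _))
        | succ K ihK =>
          by_cases h2 : t₁ ^ 2 ∈ Subgroup.normalizer (R : Set S)
          · exact ⟨t₁, ht₁, ht₁n, h2⟩
          · exact ihK (t₁ ^ 2) (T.pow_mem ht₁ 2) h2 (by rw [← pow_mul, ← pow_succ']; exact hK)
      have hRs : R.map (MulAut.conj s).toMonoidHom ≠ R :=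
        fun e => hsn (map_conj_eq_iff_mem_normalizer.mp e)
      have hTr : T.map (MulAut.conj r).toMonoidHom ≠ T :=
        fun e => hrn (map_conj_eq_iff_mem_normalizer.mp e)
      have hc1 : r * (s * r * s⁻¹) = s * r * s⁻¹ * r :=
        hconj R hR hRM hRne s (hTM hs) hRs r hr _ (mul_mem_map_conj hr)
      have hc2 : s * (r * s * r⁻¹) = r * s * r⁻¹ * s :=
        hconj T hT hTM hTne r (hRM hr) hTr s hs _ (mul_mem_map_conj hs)
      have h1 : r * (s ^ 2 * r * (s ^ 2)⁻¹) = (s * r * s⁻¹) ^ 2 := by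
        have hc : s * (r * s * r⁻¹ * s⁻¹) * s⁻¹ = r * s * r⁻¹ * s⁻¹ := by
          calc s * (r * s * r⁻¹ * s⁻¹) * s⁻¹ = (s * (r * s * r⁻¹)) * (s⁻¹ * s⁻¹) := by group
            _ = r * s * r⁻¹ * s⁻¹ := by rw [hc2]; group
        have hd : s * r * s⁻¹ * (s ^ 2 * r * (s ^ 2)⁻¹)⁻¹ = r * (s * r * s⁻¹)⁻¹ := by
          calc s * r * s⁻¹ * (s ^ 2 * r * (s ^ 2)⁻¹)⁻¹ = s * (r * s * r⁻¹ * s⁻¹) * s⁻¹ := by
                rw [pow_two]; group
            _ = r * (s * r * s⁻¹)⁻¹ := by rw [hc]; group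
        have hcomm : Commute r (s * r * s⁻¹) := hc1
        calc r * (s ^ 2 * r * (s ^ 2)⁻¹)
            = r * ((s * r * s⁻¹ * (s ^ 2 * r * (s ^ 2)⁻¹)⁻¹)⁻¹ * (s * r * s⁻¹)) := by group
          _ = r * ((s * r * s⁻¹) * r⁻¹ * (s * r * s⁻¹)) := by rw [hd]; group
          _ = (r * (s * r * s⁻¹)) * r⁻¹ * (s * r * s⁻¹) := by group
          _ = (s * r * s⁻¹) ^ 2 := by rw [hcomm.eq, pow_two]; group
      have h2 : (s * r * s⁻¹) ^ 2 ∈ R ⊓ R.map (MulAut.conj s).toMonoidHom := by
        refine ⟨h1 ▸ R.mul_mem hr ((Subgroup.mem_set_normalizer_iff.mp hs2 r).mp hr), ?_⟩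
        rw [conj_pow]
        exact mul_mem_map_conj (R.pow_mem hr 2)
      rw [(hti R hR _ (hinv s R hR)).resolve_left hRs.symm, Subgroup.mem_bot, conj_pow,
        conj_eq_one_iff] at h2
      exact h2
    -- so they invert `R₀ = N_R(T)`, and some element of `R₀` has order 4
    have hinv0 : ∀ x ∈ R, x ∈ Subgroup.normalizer (T : Set S) → r₀ * x * r₀⁻¹ = x⁻¹ := by
      intro x hx hxn
      have h := hinvol (r₀ * x) (R.mul_mem hr₀ hx) (fun hh => hr₀n (by
        have := mul_mem hh ((Subgroup.normalizer (T : Set S)).inv_mem hxn)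
        simpa using this))
      have h0 : r₀⁻¹ = r₀ := inv_eq_of_mul_eq_one_left (by rw [← pow_two]; exact hinvol r₀ hr₀ hr₀n)
      have : r₀ * x * r₀ * x = 1 := by
        calc r₀ * x * r₀ * x = (r₀ * x) ^ 2 := by rw [pow_two]; group
          _ = 1 := h
      rw [h0]
      exact eq_inv_of_mul_eq_one_left this
    obtain ⟨x, hx, hxn, hx2, hx4⟩ : ∃ x ∈ R, x ∈ Subgroup.normalizer (T : Set S) ∧
        x ^ 2 ≠ 1 ∧ x ^ 4 = 1 := by
      obtain ⟨x₀, hx₀R, hx₀⟩ : ∃ x ∈ R, x ^ 2 ≠ 1 := by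
        by_contra hcon
        apply hΦ R hR
        refine frattini_eq_bot_of_sq fun y => Subtype.ext ?_
        by_contra hne
        exact hcon ⟨y, y.2, hne⟩
      have hx₀n : x₀ ∈ Subgroup.normalizer (T : Set S) := by
        by_contra hh
        exact hx₀ (hinvol x₀ hx₀R hh)
      obtain ⟨K, hK⟩ := hS x₀
      induction K generalizing x₀ with
      | zero => exact absurd (by simpa using hK) (fun e : x₀ = 1 => hx₀ (by rw [e, one_pow]))
      | succ K ihK =>
        by_cases h4 : x₀ ^ 4 = 1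
        · exact ⟨x₀, hx₀R, hx₀n, hx₀, h4⟩
        · exact ihK (x₀ ^ 2) (R.pow_mem hx₀R 2) (by rwa [← pow_mul])
            (pow_mem hx₀n 2) (by rw [← pow_mul, ← pow_succ']; exact hK)
    obtain ⟨t, ht, htn⟩ := SetLike.not_le_iff_exists.mp hTN
    have hRt : R.map (MulAut.conj t).toMonoidHom ≠ R :=
      fun e => htn (map_conj_eq_iff_mem_normalizer.mp e)
    have hTr : T.map (MulAut.conj r₀).toMonoidHom ≠ T :=
      fun e => hr₀n (map_conj_eq_iff_mem_normalizer.mp e)
    set u := x * t * x⁻¹ * t⁻¹ with hu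
    set y := t * x * t⁻¹ with hy
    have huT : u ∈ T := T.mul_mem ((Subgroup.mem_set_normalizer_iff.mp hxn t).mp ht) (T.inv_mem ht)
    have hyR : y ∈ R.map (MulAut.conj t).toMonoidHom := mul_mem_map_conj hx
    have hcR := hconj R hR hRM hRne t (hTM ht) hRt
    have hxy : Commute x y := hcR x hx y hyR
    have hry : r₀ * y⁻¹ * r₀⁻¹ = y⁻¹ := by
      rw [hcR r₀ hr₀ y⁻¹ (inv_mem hyR)]; group
    have hu1 : u = x * y⁻¹ := by rw [hu, hy]; group
    have hu2 : r₀ * u * r₀⁻¹ = x⁻¹ * y⁻¹ := by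
      calc r₀ * u * r₀⁻¹ = (r₀ * x * r₀⁻¹) * (r₀ * y⁻¹ * r₀⁻¹) := by rw [hu1]; group
        _ = x⁻¹ * y⁻¹ := by rw [hinv0 x hx hxn, hry]
    have hxx : (x⁻¹) ^ 2 = x ^ 2 := by
      rw [inv_pow]
      refine inv_eq_of_mul_eq_one_left ?_
      rw [← pow_add]
      exact hx4
    have h3 : u ^ 2 = r₀ * u ^ 2 * r₀⁻¹ := by
      rw [← conj_pow, hu2, hu1, hxy.inv_right.mul_pow, hxy.inv_inv.mul_pow, hxx]
    have h4 : u ^ 2 ∈ T.map (MulAut.conj r₀).toMonoidHom ⊓ T :=
      ⟨h3 ▸ mul_mem_map_conj (T.pow_mem huT 2), T.pow_mem huT 2⟩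
    rw [(hti _ (hinv r₀ T hT) T hT).resolve_left hTr, Subgroup.mem_bot, hu1,
      hxy.inv_right.mul_pow, inv_pow, mul_inv_eq_one] at h4
    have h5 : x ^ 2 ∈ R ⊓ R.map (MulAut.conj t).toMonoidHom :=
      ⟨R.pow_mem hx 2, h4 ▸ pow_mem hyR 2⟩
    rw [(hti R hR _ (hinv t R hR)).resolve_left hRt.symm, Subgroup.mem_bot] at h5
    exact hx2 h5

end Cfsg.Agent.S1782
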