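import Cfsg.Statements.S1783
import Cfsg.Agent.Lib.Classification.Basic
import Cfsg.Agent.Lib.Cores.PCore
import Cfsg.Agent.Lib.Coprime.Action
import Cfsg.Agent.Lib.Components.GenFitting
import Mathlib.Tactic.Rename

set_option autoImplicit false
open Cfsg

namespace Cfsg.Agent.S1783

variable {X : Type*} [Group X]

private theorem isSimpleGroup_quotient_coatom {H : Type*} [Group H] (M : Subgroup H) [M.Normal]
    (hM : IsCoatom M) : IsSimpleGroup (H ⧸ M) := by
  haveI : Nontrivial (H ⧸ M) := by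
    by_contra hc
    rw [not_nontrivial_iff_subsingleton] at hc
    exact hM.1 (eq_top_iff.mpr fun x _ => (QuotientGroup.eq_one_iff x).mp (Subsingleton.elim _ _))
  refine ⟨fun N _ => ?_⟩
  have hle : M ≤ N.comap (QuotientGroup.mk' M) := fun x hx => by
    rw [Subgroup.mem_comap, QuotientGroup.mk'_apply, (QuotientGroup.eq_one_iff x).mpr hx]
    exact N.one_mem
  have hsurj := QuotientGroup.mk'_surjective M
  rcases hM.le_iff.mp hle with h | h
  · right
    rw [← Subgroup.map_comap_eq_self_of_surjective hsurj N, h, Subgroup.map_top_of_surjective _ hsurj]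
  · left
    rw [← Subgroup.map_comap_eq_self_of_surjective hsurj N, h]
    exact QuotientGroup.map_mk'_self M

/-- The basic consequence of the TI hypothesis. -/
private theorem ti_normalizes {A : Subgroup X}
    (hti : ∀ h : X, A.map (MulAut.conj h).toMonoidHom = A ∨
      A.map (MulAut.conj h).toMonoidHom ⊓ A = ⊥)
    {e c : X} (he : e ∈ A) (hne : e ≠ 1) (hce : c * e = e * c) {a : X} (ha : a ∈ A) :
    c * a * c⁻¹ ∈ A := by
  rcases hti c with h | h
  · exact h ▸ Cfsg.Agent.Lib.Classification.mul_mem_map_conj ha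
  · exfalso
    have hm := Cfsg.Agent.Lib.Classification.mul_mem_map_conj (g := c) he
    rw [hce, mul_inv_cancel_right] at hm
    have h' := Subgroup.mem_inf.mpr ⟨hm, he⟩
    rw [h, Subgroup.mem_bot] at h'
    exact hne h'

/-- Elements of two TI subgroups meeting trivially commute once they normalize each other. -/
private theorem commute_of_normalize {A A' : Subgroup X} (h : A' ⊓ A = ⊥) {x y : X}
    (hx : x ∈ A) (hy : y ∈ A') (hxy : x * y * x⁻¹ ∈ A') (hyx : y * x⁻¹ * y⁻¹ ∈ A) :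
    x * y = y * x := by
  have h1 : x * y * x⁻¹ * y⁻¹ ∈ A' ⊓ A := by
    refine ⟨A'.mul_mem hxy (A'.inv_mem hy), ?_⟩
    have := A.mul_mem hx hyx
    rw [show x * y * x⁻¹ * y⁻¹ = x * (y * x⁻¹ * y⁻¹) by group]
    exact this
  rw [h, Subgroup.mem_bot] at h1
  calc x * y = x * y * x⁻¹ * y⁻¹ * (y * x) := by group
    _ = y * x := by rw [h1, one_mul]

/-- A nontrivial finite `2`-group has a proper subgroup containing all squares. -/
private theorem closure_sq_lt [Finite X] {R : Subgroup X} (hR : IsPGroup 2 ↥R) (hne : R ≠ ⊥) :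
    Subgroup.closure ((fun r : X => r ^ 2) '' (R : Set X)) < R := by
  haveI : Fact (Nat.Prime 2) := ⟨Nat.prime_two⟩
  haveI : Nontrivial ↥R := (Subgroup.nontrivial_iff_ne_bot R).mpr hne
  obtain ⟨M, hM, -⟩ := (eq_top_or_exists_le_coatom (⊥ : Subgroup ↥R)).resolve_left bot_ne_top
  haveI : Group.IsNilpotent ↥R := hR.isNilpotent
  haveI hn : M.Normal := Subgroup.NormalizerCondition.normal_of_coatom M
    Group.normalizerCondition_of_isNilpotent hM
  have hidx : M.index = 2 := by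
    haveI : IsSimpleGroup (↥R ⧸ M) :=
      isSimpleGroup_quotient_coatom M hM
    have hp : IsPGroup 2 (↥R ⧸ M) := hR.to_quotient M
    haveI : Group.IsNilpotent (↥R ⧸ M) := hp.isNilpotent
    haveI : Nontrivial (Subgroup.center (↥R ⧸ M)) := hp.center_nontrivial
    haveI : IsMulCommutative (↥R ⧸ M) := by
      rcases (inferInstance : (Subgroup.center (↥R ⧸ M)).Normal).eq_bot_or_eq_top with h | h
      · exact absurd h ((Subgroup.nontrivial_iff_ne_bot _).mp inferInstance)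
      · exact ⟨⟨fun x y => (Subgroup.mem_center_iff.mp (h.symm ▸ Subgroup.mem_top x :) y).symm⟩⟩
    have hprime : (Nat.card (↥R ⧸ M)).Prime := IsSimpleGroup.prime_card
    obtain ⟨n, hn⟩ := IsPGroup.iff_card.mp hp
    rw [Subgroup.index_eq_card]
    rw [hn] at hprime ⊢
    rw [(Nat.Prime.eq_one_of_pow hprime : n = 1), pow_one]
  refine lt_of_le_of_ne ((Subgroup.closure_le _).mpr ?_) ?_
  · rintro _ ⟨r, hr, rfl⟩
    exact R.pow_mem hr 2
  · intro heq
    have hle : Subgroup.closure ((fun r : X => r ^ 2) '' (R : Set X)) ≤ M.map R.subtype := by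
      refine (Subgroup.closure_le _).mpr ?_
      rintro _ ⟨r, hr, rfl⟩
      exact ⟨⟨r, hr⟩ ^ 2, Subgroup.sq_mem_of_index_two hidx _, rfl⟩
    rw [heq] at hle
    exact hM.1 (eq_top_iff.mpr fun r _ => by
      obtain ⟨m, hm, hmr⟩ := hle r.2
      rwa [← Subtype.ext hmr])

section Key

variable {A R D : Subgroup X}

private theorem comm_elem_mem (hD : D.Normal) (hsq : ∀ r ∈ R, r ^ 2 ∈ D) {x y : X} (hx : x ∈ R)
    (hy : y ∈ R) : x * y * x⁻¹ * y⁻¹ ∈ D := by
  have h1 := hsq _ (R.mul_mem hx hy)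
  have h2 := hD.conj_mem _ (D.inv_mem (hsq x hx)) y⁻¹
  have h3 := D.inv_mem (hsq y hy)
  have := D.mul_mem (D.mul_mem h1 h2) h3
  rwa [show (x * y) ^ 2 * (y⁻¹ * (x ^ 2)⁻¹ * y⁻¹⁻¹) * (y ^ 2)⁻¹ = x * y * x⁻¹ * y⁻¹ by
    simp only [pow_two]; group] at this

private theorem comm_elem_mul_left (hD : D.Normal) (hsq : ∀ r ∈ R, r ^ 2 ∈ D)
    (hDc : ∀ d ∈ D, ∀ r ∈ R, d * r = r * d) {x x' y : X} (hx : x ∈ R) (hx' : x' ∈ R) (hy : y ∈ R) :
    x * x' * y * (x * x')⁻¹ * y⁻¹ = x' * y * x'⁻¹ * y⁻¹ * (x * y * x⁻¹ * y⁻¹) := by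
  have h := hDc _ (comm_elem_mem hD hsq hx' hy) x hx
  calc x * x' * y * (x * x')⁻¹ * y⁻¹ = x * (x' * y * x'⁻¹ * y⁻¹) * (y * x⁻¹ * y⁻¹) := by group
    _ = x' * y * x'⁻¹ * y⁻¹ * x * (y * x⁻¹ * y⁻¹) := by rw [h]
    _ = x' * y * x'⁻¹ * y⁻¹ * (x * y * x⁻¹ * y⁻¹) := by group

private theorem comm_elem_sq (hD : D.Normal) (hsq : ∀ r ∈ R, r ^ 2 ∈ D)
    (hDc : ∀ d ∈ D, ∀ r ∈ R, d * r = r * d) {x y : X} (hx : x ∈ R) (hy : y ∈ R) :
    (x * y * x⁻¹ * y⁻¹) * (x * y * x⁻¹ * y⁻¹) = 1 := by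
  rw [← comm_elem_mul_left hD hsq hDc hx hx hy,
    show x * x = x ^ 2 from (pow_two x).symm, hDc _ (hsq x hx) y hy]
  group

private theorem comm_elem_symm (hD : D.Normal) (hsq : ∀ r ∈ R, r ^ 2 ∈ D)
    (hDc : ∀ d ∈ D, ∀ r ∈ R, d * r = r * d) {x y : X} (hx : x ∈ R) (hy : y ∈ R) :
    y * x * y⁻¹ * x⁻¹ = x * y * x⁻¹ * y⁻¹ := by
  rw [eq_inv_of_mul_eq_one_left (comm_elem_sq hD hsq hDc hx hy)]
  group

private theorem comm_elem_mul_right (hD : D.Normal) (hsq : ∀ r ∈ R, r ^ 2 ∈ D)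
    (hDc : ∀ d ∈ D, ∀ r ∈ R, d * r = r * d) {x y y' : X} (hx : x ∈ R) (hy : y ∈ R) (hy' : y' ∈ R) :
    x * (y * y') * x⁻¹ * (y * y')⁻¹ = x * y' * x⁻¹ * y'⁻¹ * (x * y * x⁻¹ * y⁻¹) := by
  rw [comm_elem_symm hD hsq hDc (R.mul_mem hy hy') hx, comm_elem_mul_left hD hsq hDc hy hy' hx,
    comm_elem_symm hD hsq hDc hx hy', comm_elem_symm hD hsq hDc hx hy]

/-- If `a r a⁻¹ r⁻¹` commutes with `a`, then `a ^ 2` moves `r` by a square. -/
private theorem sq_conj_eq {a r : X} (hf : Commute a (a * r * a⁻¹ * r⁻¹)) :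
    a ^ 2 * r * (a ^ 2)⁻¹ * r⁻¹ = (a * r * a⁻¹ * r⁻¹) ^ 2 := by
  calc a ^ 2 * r * (a ^ 2)⁻¹ * r⁻¹
      = a * (a * r * a⁻¹ * r⁻¹) * a⁻¹ * (a * r * a⁻¹ * r⁻¹) := by simp only [pow_two]; group
    _ = (a * r * a⁻¹ * r⁻¹) ^ 2 := by rw [hf.eq, mul_inv_cancel_right, pow_two]

variable (hAa : ∀ a ∈ A, ∀ b ∈ A, a * b = b * a)
  (hti : ∀ h : X, A.map (MulAut.conj h).toMonoidHom = A ∨
    A.map (MulAut.conj h).toMonoidHom ⊓ A = ⊥)

include hAa hti in
/-- The commutator `a r a⁻¹ r⁻¹` commutes with `a` if some element of `A` links `A` and its conjugate. -/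
private theorem commute_of_link {a r e : X} (ha : a ∈ A) (he : e ∈ A) (hne : e ≠ 1)
    (h1 : r * e * r⁻¹ * a = a * (r * e * r⁻¹)) (h2 : e * (r * a * r⁻¹) = r * a * r⁻¹ * e) :
    Commute a (a * r * a⁻¹ * r⁻¹) := by
  have key : Commute a (r * a⁻¹ * r⁻¹) := by
    rcases hti r with h | h
    · exact hAa _ ha _ (h ▸ Cfsg.Agent.Lib.Classification.mul_mem_map_conj (g := r) (A.inv_mem ha))
    · have hay : a * (r * a⁻¹ * r⁻¹) * a⁻¹ ∈ A.map (MulAut.conj r).toMonoidHom := by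
        rw [Cfsg.Agent.Lib.Classification.mem_map_conj_iff]
        have hc : r⁻¹ * a * r * e = e * (r⁻¹ * a * r) := by
          calc r⁻¹ * a * r * e = r⁻¹ * (a * (r * e * r⁻¹)) * r := by group
            _ = r⁻¹ * (r * e * r⁻¹ * a) * r := by rw [h1]
            _ = e * (r⁻¹ * a * r) := by group
        have := ti_normalizes hti he hne hc (A.inv_mem ha)
        rwa [show r⁻¹ * a * r * a⁻¹ * (r⁻¹ * a * r)⁻¹ = r⁻¹ * (a * (r * a⁻¹ * r⁻¹) * a⁻¹) * r by
          group] at this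
      have hya : r * a⁻¹ * r⁻¹ * a⁻¹ * (r * a⁻¹ * r⁻¹)⁻¹ ∈ A := by
        have hc : r * a⁻¹ * r⁻¹ * e = e * (r * a⁻¹ * r⁻¹) := by
          have h2' : Commute e (r * a * r⁻¹) := h2
          rw [show r * a⁻¹ * r⁻¹ = (r * a * r⁻¹)⁻¹ by group]
          exact h2'.inv_right.eq.symm
        exact ti_normalizes hti he hne hc (A.inv_mem ha)
      exact commute_of_normalize h ha
        (Cfsg.Agent.Lib.Classification.mul_mem_map_conj (A.inv_mem ha)) hay hya
  have := (Commute.refl a).mul_right key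
  rwa [show a * (r * a⁻¹ * r⁻¹) = a * r * a⁻¹ * r⁻¹ by group] at this

include hAa hti in
private theorem sq_conj_mem (hA2 : IsPGroup 2 ↥A) (hR : R.Normal) (hD : D.Normal) (hDR : D ≤ R)
    (hD2 : IsPGroup 2 ↥D) (hDc : ∀ d ∈ D, ∀ r ∈ R, d * r = r * d) (hsq : ∀ r ∈ R, r ^ 2 ∈ D)
    {a r : X} (ha : a ∈ A) (hr : r ∈ R) :
    a ^ 2 * r * (a ^ 2)⁻¹ * r⁻¹ ∈ D := by
  have conjR : ∀ (g : X) {x : X}, x ∈ R → g * x * g⁻¹ ∈ R := fun g x hx => hR.conj_mem x hx g
  have fR : ∀ (g : X) {x : X}, x ∈ R → g * x * g⁻¹ * x⁻¹ ∈ R := fun g x hx =>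
    R.mul_mem (conjR g hx) (R.inv_mem hx)
  have done : ∀ {a r : X}, r ∈ R → Commute a (a * r * a⁻¹ * r⁻¹) →
      a ^ 2 * r * (a ^ 2)⁻¹ * r⁻¹ ∈ D := fun {a r} hr h => by
    rw [sq_conj_eq h]; exact hsq _ (fR a hr)
  by_cases hAD : ∃ e ∈ A, e ∈ D ∧ e ≠ 1
  · obtain ⟨e, he, heD, hne⟩ := hAD
    have hmem : r * a⁻¹ * r⁻¹ ∈ A := ti_normalizes hti he hne (hDc e heD r hr).symm (A.inv_mem ha)
    refine done hr ?_
    show a * _ = _ * a
    have := A.mul_mem ha hmem
    rw [show a * (r * a⁻¹ * r⁻¹) = a * r * a⁻¹ * r⁻¹ by group] at this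
    exact hAa _ ha _ this
  push_neg at hAD
  by_cases ha2 : a ^ 2 = 1
  · rw [ha2]; simp
  -- `A` centralizes `D`
  have hfixD : ∀ {d e : X}, d ∈ D → e ∈ A → e ≠ 1 → d * e = e * d → ∀ b ∈ A, b * d = d * b := by
    intro d e hd he hne hde b hb
    have h1 : d * b⁻¹ * d⁻¹ ∈ A := ti_normalizes hti he hne hde (A.inv_mem hb)
    have h2 := A.mul_mem hb h1
    have h3 : b * (d * b⁻¹ * d⁻¹) ∈ D := by
      have := D.mul_mem (hD.conj_mem d hd b) (D.inv_mem hd)
      rwa [show b * d * b⁻¹ * d⁻¹ = b * (d * b⁻¹ * d⁻¹) by group] at this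
    have h4 := hAD _ h2 h3
    calc b * d = b * (d * b⁻¹ * d⁻¹) * (d * b) := by group
      _ = d * b := by rw [h4, one_mul]
  have hDA : ∀ d ∈ D, ∀ b ∈ A, b * d = d * b := by
    obtain ⟨s, hsA, hsne, hs2⟩ : ∃ s, s ∈ A ∧ s ≠ 1 ∧ s * s = 1 ∧ a * s = s * a := by
      obtain ⟨k, hk⟩ := hA2 ⟨a, ha⟩
      replace hk : a ^ 2 ^ k = 1 := by simpa using congrArg Subtype.val hk
      induction k with
      | zero => exact absurd (by simpa using hk : a = 1) (fun h => ha2 (by simp [h]))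
      | succ n ih =>
        by_cases h : a ^ 2 ^ n = 1
        · exact ih h
        · refine ⟨a ^ 2 ^ n, A.pow_mem ha _, h, ?_, ((Commute.refl a).pow_right _).eq⟩
          rw [← pow_add, ← two_mul, ← pow_succ', hk]
    have hDD : ∀ {x y : X}, x ∈ D → y ∈ D → x * y = y * x := fun {x y} hx hy => hDc x hx y (hDR hy)
    have hinv : ∀ d ∈ D, d * d = 1 → ∀ b ∈ A, b * d = d * b := by
      intro d hd hdd
      let g := s * d * s⁻¹ * d⁻¹
      have hg : g ∈ D := D.mul_mem (hD.conj_mem d hd s) (D.inv_mem hd)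
      have hdinv : d⁻¹ = d := inv_eq_of_mul_eq_one_right hdd
      have hsg : g * s = s * g := by
        have hsinv : s⁻¹ = s := inv_eq_of_mul_eq_one_right hs2.1
        have hsd : s * d * s⁻¹ * d = d * (s * d * s⁻¹) := hDD (hD.conj_mem d hd s) hd
        show s * d * s⁻¹ * d⁻¹ * s = s * (s * d * s⁻¹ * d⁻¹)
        rw [hdinv, hsinv]
        rw [hsinv] at hsd
        calc s * d * s * d * s = d * (s * d * s) * s := by rw [hsd]
          _ = d * s * d * (s * s) := by group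
          _ = s * s * (d * s * d) := by rw [hs2.1, mul_one, one_mul]
          _ = _ := by simp only [mul_assoc]
      have hag : a * g = g * a := hfixD hg hsA hsne hsg a ha
      let h := a * d * a⁻¹ * d⁻¹
      have hh : h ∈ D := D.mul_mem (hD.conj_mem d hd a) (D.inv_mem hd)
      have hhh : h * h = 1 := by
        have e1 := hDD (hD.conj_mem d hd a) (D.inv_mem hd)
        show a * d * a⁻¹ * d⁻¹ * (a * d * a⁻¹ * d⁻¹) = 1
        nth_rewrite 2 [e1]
        rw [hdinv]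
        calc a * d * a⁻¹ * d * (d * (a * d * a⁻¹)) = a * d * a⁻¹ * (d * d) * a * d * a⁻¹ := by group
          _ = a * (d * d) * a⁻¹ := by rw [hdd]; group; rw [mul_assoc a d d, hdd]; group
          _ = 1 := by rw [hdd]; group
      have hsh : h * s = s * h := by
        have e1 : s * h * s⁻¹ * h⁻¹ = 1 := by
          have hcs : s * a = a * s := hs2.2.symm
          have hsa' : s * a⁻¹ = a⁻¹ * s := (Commute.inv_right (hcs : Commute s a)).eq
          have e2 : s * h * s⁻¹ = a * (g * d) * a⁻¹ * (g * d)⁻¹ := by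
            show s * (a * d * a⁻¹ * d⁻¹) * s⁻¹ = a * (s * d * s⁻¹ * d⁻¹ * d) * a⁻¹ * (s * d * s⁻¹ * d⁻¹ * d)⁻¹
            calc s * (a * d * a⁻¹ * d⁻¹) * s⁻¹ = (s * a) * d * a⁻¹ * d⁻¹ * s⁻¹ := by group
              _ = a * s * d * a⁻¹ * d⁻¹ * s⁻¹ := by rw [hcs]
              _ = a * s * d * s⁻¹ * (s * a⁻¹) * d⁻¹ * s⁻¹ := by group
              _ = a * s * d * s⁻¹ * (a⁻¹ * s) * d⁻¹ * s⁻¹ := by rw [hsa']
              _ = _ := by group
          rw [e2]
          calc a * (g * d) * a⁻¹ * (g * d)⁻¹ * h⁻¹ = (a * g) * d * a⁻¹ * d⁻¹ * g⁻¹ * h⁻¹ := by group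
            _ = g * a * d * a⁻¹ * d⁻¹ * g⁻¹ * h⁻¹ := by rw [hag]
            _ = (g * h) * g⁻¹ * h⁻¹ := by show _ = g * (a * d * a⁻¹ * d⁻¹) * g⁻¹ * h⁻¹; group
            _ = 1 := by rw [hDD hg hh]; group
        calc h * s = 1 * (h * s) := (one_mul _).symm
          _ = s * h * s⁻¹ * h⁻¹ * (h * s) := by rw [e1]
          _ = s * h := by group
      have hah : Commute a h := hfixD hh hsA hsne hsh a ha
      have := sq_conj_eq (a := a) (r := d) hah
      rw [pow_two (a * d * a⁻¹ * d⁻¹), hhh] at this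
      refine hfixD hd (A.pow_mem ha 2) ha2 ?_
      calc d * a ^ 2 = 1 * (d * a ^ 2) := (one_mul _).symm
        _ = a ^ 2 * d * (a ^ 2)⁻¹ * d⁻¹ * (d * a ^ 2) := by rw [this]
        _ = a ^ 2 * d := by group
    intro d hd
    obtain ⟨k, hk⟩ := hD2 ⟨d, hd⟩
    replace hk : d ^ 2 ^ k = 1 := by simpa using congrArg Subtype.val hk
    induction k generalizing d with
    | zero => intro b _; rw [show d = 1 by simpa using hk]; simp
    | succ n ih =>
      have hd2 : ∀ b ∈ A, b * (d * d) = d * d * b :=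
        ih (d * d) (D.mul_mem hd hd) (by rw [← pow_two, ← pow_mul, ← pow_succ']; exact hk)
      have hh : a * d * a⁻¹ * d⁻¹ ∈ D := D.mul_mem (hD.conj_mem d hd a) (D.inv_mem hd)
      have hhh : a * d * a⁻¹ * d⁻¹ * (a * d * a⁻¹ * d⁻¹) = 1 := by
        have e1 : Commute (a * d * a⁻¹) d⁻¹ := hDD (hD.conj_mem d hd a) (D.inv_mem hd)
        rw [← pow_two, e1.mul_pow, pow_two, pow_two,
          show a * d * a⁻¹ * (a * d * a⁻¹) = a * (d * d) * a⁻¹ by group, hd2 a ha]
        group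
      have hah : Commute a (a * d * a⁻¹ * d⁻¹) := hinv _ hh hhh a ha
      have := sq_conj_eq hah
      rw [pow_two (a * d * a⁻¹ * d⁻¹), hhh] at this
      refine hfixD hd (A.pow_mem ha 2) ha2 ?_
      calc d * a ^ 2 = 1 * (d * a ^ 2) := (one_mul _).symm
        _ = a ^ 2 * d * (a ^ 2)⁻¹ * d⁻¹ * (d * a ^ 2) := by rw [this]
        _ = a ^ 2 * d := by group
  by_cases hAR : ∃ e ∈ A, e ∈ R ∧ e ≠ 1
  · obtain ⟨e, he, heR, hne⟩ := hAR
    have hc : r * e * r⁻¹ * e⁻¹ ∈ D := comm_elem_mem hD hsq hr heR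
    refine done hr (commute_of_link hAa hti ha he hne ?_ ?_)
    · have k1 : Commute a (r * e * r⁻¹ * e⁻¹) := hDA _ hc a ha
      have k2 : Commute a e := hAa a ha e he
      have := k1.mul_right k2
      rw [inv_mul_cancel_right] at this
      exact this.eq.symm
    · have k1 : Commute (r * a * r⁻¹) (r * e * r⁻¹) := by
        show _ = _
        calc r * a * r⁻¹ * (r * e * r⁻¹) = r * (a * e) * r⁻¹ := by group
          _ = r * (e * a) * r⁻¹ := by rw [hAa a ha e he]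
          _ = r * e * r⁻¹ * (r * a * r⁻¹) := by group
      have k2 : Commute (r * a * r⁻¹) (r * e * r⁻¹ * e⁻¹)⁻¹ := by
        have hd' := hDA _ (hD.conj_mem _ (D.inv_mem hc) r⁻¹) a ha
        show _ = _
        calc r * a * r⁻¹ * (r * e * r⁻¹ * e⁻¹)⁻¹
            = r * (a * (r⁻¹ * (r * e * r⁻¹ * e⁻¹)⁻¹ * r⁻¹⁻¹)) * r⁻¹ := by group
          _ = r * (r⁻¹ * (r * e * r⁻¹ * e⁻¹)⁻¹ * r⁻¹⁻¹ * a) * r⁻¹ := by rw [hd']
          _ = _ := by group
      have := k2.mul_right k1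
      rw [show (r * e * r⁻¹ * e⁻¹)⁻¹ * (r * e * r⁻¹) = e by group] at this
      exact this.eq.symm
  push_neg at hAR
  have hfixR : ∀ {x e : X}, x ∈ R → e ∈ A → e ≠ 1 → x * e = e * x → ∀ b ∈ A, b * x = x * b := by
    intro x e hx he hne hxe b hb
    have h1 : x * b⁻¹ * x⁻¹ ∈ A := ti_normalizes hti he hne hxe (A.inv_mem hb)
    have h3 : b * (x * b⁻¹ * x⁻¹) ∈ R := by
      have := fR b hx
      rwa [show b * x * b⁻¹ * x⁻¹ = b * (x * b⁻¹ * x⁻¹) by group] at this
    have h4 := hAR _ (A.mul_mem hb h1) h3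
    calc b * x = b * (x * b⁻¹ * x⁻¹) * (x * b) := by group
      _ = x * b := by rw [h4, one_mul]
  -- if `b ^ 2` fixes `x` modulo `D`, the displacement is a square of a `b`-fixed element
  have L1 : ∀ {b x : X}, b ∈ A → b ^ 2 ≠ 1 → x ∈ R → b ^ 2 * x * (b ^ 2)⁻¹ * x⁻¹ ∈ D →
      Commute b (b * x * b⁻¹ * x⁻¹) := by
    intro b x hb hb2 hx hd
    refine commute_of_link hAa hti hb (A.pow_mem hb 2) hb2 ?_ ?_
    · have k1 : Commute b (b ^ 2 * x * (b ^ 2)⁻¹ * x⁻¹)⁻¹ := hDA _ (D.inv_mem hd) b hb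
      have := k1.mul_right ((Commute.refl b).pow_right 2)
      rw [show (b ^ 2 * x * (b ^ 2)⁻¹ * x⁻¹)⁻¹ * b ^ 2 = x * b ^ 2 * x⁻¹ by group] at this
      exact this.eq.symm
    · have k1 : Commute (x * b * x⁻¹) (x * b ^ 2 * x⁻¹) := by
        show _ = _
        simp only [pow_two]; group
      have k2 : Commute (x * b * x⁻¹) (b ^ 2 * x * (b ^ 2)⁻¹ * x⁻¹) := by
        have hd' := hDA _ (hD.conj_mem _ hd x⁻¹) b hb
        show _ = _
        calc x * b * x⁻¹ * (b ^ 2 * x * (b ^ 2)⁻¹ * x⁻¹)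
            = x * (b * (x⁻¹ * (b ^ 2 * x * (b ^ 2)⁻¹ * x⁻¹) * x⁻¹⁻¹)) * x⁻¹ := by group
          _ = x * (x⁻¹ * (b ^ 2 * x * (b ^ 2)⁻¹ * x⁻¹) * x⁻¹⁻¹ * b) * x⁻¹ := by rw [hd']
          _ = _ := by group
      have := k2.mul_right k1
      rw [show b ^ 2 * x * (b ^ 2)⁻¹ * x⁻¹ * (x * b ^ 2 * x⁻¹) = b ^ 2 by group] at this
      exact this.eq.symm
  obtain ⟨k, hk⟩ := hA2 ⟨a, ha⟩
  replace hk : a ^ 2 ^ k = 1 := by simpa using congrArg Subtype.val hk
  clear ha2
  induction k generalizing a r with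
  | zero => rw [show a = 1 by simpa using hk]; simp
  | succ n ih =>
    rename' r => u
    by_cases ha2 : a ^ 2 = 1
    · rw [ha2]; simp
    have h4 : ∀ x ∈ R, (a ^ 2) ^ 2 * x * ((a ^ 2) ^ 2)⁻¹ * x⁻¹ ∈ D := fun x hx =>
      ih (a := a ^ 2) (r := x) (A.pow_mem ha 2) hx (by rw [← pow_mul, ← pow_succ']; exact hk)
    -- conjugation by `a`
    set σ : MulAut X := MulAut.conj a with hσdef
    have σapp : ∀ x, σ x = a * x * a⁻¹ := fun x => rfl
    have σR : ∀ {x}, x ∈ R → σ x ∈ R := fun {x} hx => conjR a hx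
    have σD : ∀ x ∈ D, σ x = x := fun x hx => by
      rw [σapp, hDA x hx a ha, mul_inv_cancel_right]
    have σσ : ∀ x, a ^ 2 * x * (a ^ 2)⁻¹ = σ (σ x) := fun x => by
      simp only [σapp, pow_two]; group
    let c : X → X → X := fun x y => x * y * x⁻¹ * y⁻¹
    have cσ : ∀ {x y}, x ∈ R → y ∈ R → c (σ x) (σ y) = c x y := fun {x y} hx hy => by
      have := σD _ (comm_elem_mem hD hsq hx hy)
      simpa [c, map_mul, map_inv] using this
    have csymm : ∀ {x y}, x ∈ R → y ∈ R → c y x = c x y := fun hx hy =>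
      comm_elem_symm hD hsq hDc hx hy
    have csq : ∀ {x y}, x ∈ R → y ∈ R → c x y * c x y = 1 := fun hx hy =>
      comm_elem_sq hD hsq hDc hx hy
    have cquad : ∀ {p q x y}, p ∈ R → q ∈ R → x ∈ R → y ∈ R →
        c (p * q) (x * y) = c q y * c q x * (c p y * c p x) := fun {p q x y} hp hq hx hy => by
      show _ = _
      simp only [c]
      rw [comm_elem_mul_left hD hsq hDc hp hq (R.mul_mem hx hy),
        comm_elem_mul_right hD hsq hDc hq hx hy, comm_elem_mul_right hD hsq hDc hp hx hy]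
    -- `f ^ 2` as a value of `c`
    have hf2 : ∀ {x}, x ∈ R → (σ x * x⁻¹) ^ 2 = c (σ x) x := fun {x} hx => by
      have e1 : σ (x ^ 2) = x ^ 2 := σD _ (hsq x hx)
      have e2 := comm_elem_symm hD hsq hDc (σR hx) (R.inv_mem hx)
      have e3 : σ x * x⁻¹ * (σ x)⁻¹ * x⁻¹⁻¹ = c (σ x) x := by
        have := comm_elem_mul_right hD hsq hDc (σR hx) hx (R.inv_mem hx)
        rw [mul_inv_cancel, mul_one, mul_inv_cancel, one_mul, inv_one] at this
        exact mul_right_cancel (b := c (σ x) x) (this.symm.trans (csq (σR hx) hx).symm)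
      calc (σ x * x⁻¹) ^ 2
          = σ x * σ x * ((σ x)⁻¹ * x⁻¹ * σ x * x) * (x⁻¹ * x⁻¹) := by rw [pow_two]; group
        _ = σ x * σ x * (c (σ x) x) * (x⁻¹ * x⁻¹) := by
          congr 2
          rw [← e3, ← e2]
          have hz := hDc _ (comm_elem_mem hD hsq (R.inv_mem (σR hx)) (R.inv_mem hx)) (σ x) (σR hx)
          calc (σ x)⁻¹ * x⁻¹ * σ x * x
              = (σ x)⁻¹ * x⁻¹ * (σ x)⁻¹⁻¹ * x⁻¹⁻¹ * σ x * (σ x)⁻¹ := by group
            _ = σ x * ((σ x)⁻¹ * x⁻¹ * (σ x)⁻¹⁻¹ * x⁻¹⁻¹) * (σ x)⁻¹ := by rw [hz]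
            _ = x⁻¹ * σ x * x⁻¹⁻¹ * (σ x)⁻¹ := by group
        _ = x ^ 2 * c (σ x) x * (x⁻¹ * x⁻¹) := by rw [← map_mul, ← pow_two, e1]
        _ = c (σ x) x * (x ^ 2) * (x⁻¹ * x⁻¹) := by
          rw [hDc _ (hsq x hx) _ (hDR (comm_elem_mem hD hsq (σR hx) hx))]
        _ = c (σ x) x := by rw [pow_two]; group
    -- a fixed element
    have fixed_of : ∀ {x}, x ∈ R → σ (σ x) * x⁻¹ ∈ D → c (σ x) x = 1 → σ x = x := by
      intro x hx hd hc
      have hd' : a ^ 2 * x * (a ^ 2)⁻¹ * x⁻¹ ∈ D := by rw [σσ]; exact hd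
      have e1 := sq_conj_eq (L1 ha ha2 hx hd')
      rw [← σapp, hf2 hx, hc, σσ] at e1
      have hcomm : x * a ^ 2 = a ^ 2 * x := by
        have := mul_inv_eq_one.mp e1
        rw [← σσ] at this
        calc x * a ^ 2 = a ^ 2 * x * (a ^ 2)⁻¹ * a ^ 2 := by rw [this]
          _ = a ^ 2 * x := by group
      rw [σapp, hfixR hx (A.pow_mem ha 2) ha2 hcomm a ha, mul_inv_cancel_right]
    -- the final step
    suffices hj : σ (σ u * u) = σ u * u by
      rw [σσ]
      rw [map_mul] at hj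
      rw [show σ (σ u) = σ u * u * (σ u)⁻¹ from eq_mul_inv_of_mul_eq hj]
      exact comm_elem_mem hD hsq (σR hr) hr
    by_cases ha4 : (a ^ 2) ^ 2 = 1
    · have hper : ∀ x, σ (σ (σ (σ x))) = x := fun x => by
        simp only [σapp]
        calc a * (a * (a * (a * x * a⁻¹) * a⁻¹) * a⁻¹) * a⁻¹
            = (a ^ 2) ^ 2 * x * ((a ^ 2) ^ 2)⁻¹ := by simp only [pow_two]; group
          _ = x := by rw [ha4]; group
      have hu1 := σR hr
      have hu2 := σR hu1
      have hu3 := σR hu2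
      set β := c (σ u) u with hβ
      have b1 : c (σ (σ (σ u))) (σ (σ u)) = β := by rw [cσ hu2 hu1, cσ hu1 hr]
      have b2 : c (σ (σ u)) (σ u) = β := cσ hu1 hr
      have b3 : c (σ u) (σ (σ u)) = β := by rw [← csymm hu2 hu1] at b2; exact b2
      have b4 : c (σ (σ (σ u))) u = β := by
        rw [← cσ hu3 hr, hper, csymm hu1 hr]
      have hv : σ (σ (σ u)) * σ u = σ (σ u) * u := by
        rw [← map_mul]
        refine fixed_of (R.mul_mem hu2 hr) ?_ ?_
        · rw [map_mul, map_mul, hper]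
          have := comm_elem_mem hD hsq hr hu2
          rwa [show u * σ (σ u) * u⁻¹ * (σ (σ u))⁻¹ = u * σ (σ u) * (σ (σ u) * u)⁻¹ by group] at this
        · rw [map_mul, cquad hu3 hu1 hu2 hr, b1, b3, b4]
          rw [csq hu1 hr, mul_one]
      have hγ : c u (σ (σ u)) = 1 := by
        have h1 := congrArg σ hv
        rw [map_mul, map_mul, hper, hv] at h1
        show u * σ (σ u) * u⁻¹ * (σ (σ u))⁻¹ = 1
        rw [h1]
        group
      refine fixed_of (R.mul_mem hu1 hr) ?_ ?_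
      · rw [map_mul, map_mul, show σ (σ (σ u)) = σ (σ u) * u * (σ u)⁻¹ from eq_mul_inv_of_mul_eq hv]
        have h1 := hsq _ (R.mul_mem (R.mul_mem hu2 hr) (R.inv_mem hu1))
        have h2 := hD.conj_mem _ (D.inv_mem (hsq u hr)) (σ u)
        have := D.mul_mem h1 h2
        rwa [show (σ (σ u) * u * (σ u)⁻¹) ^ 2 * (σ u * (u ^ 2)⁻¹ * (σ u)⁻¹) =
            σ (σ u) * u * (σ u)⁻¹ * σ (σ u) * (σ u * u)⁻¹ by simp only [pow_two]; group] at this
      · rw [map_mul, cquad hu2 hu1 hu1 hr, b2, csymm hr hu2, hγ, one_mul]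
        show β * (σ u * σ u * (σ u)⁻¹ * (σ u)⁻¹) * β = 1
        rw [show σ u * σ u * (σ u)⁻¹ * (σ u)⁻¹ = 1 by group, mul_one]
        exact csq hu1 hr
    · -- `a ^ 4 ≠ 1` already fixes `σ u * u`
      set t := (a ^ 2) ^ 2 with ht
      set d := t * u * t⁻¹ * u⁻¹ with hdd
      have hd : d ∈ D := h4 u hr
      have htu : t * u * t⁻¹ = d * u := by rw [hdd]; group
      have htσ : t * σ u * t⁻¹ = d * σ u := by
        have := congrArg σ htu
        rw [map_mul σ d u, σD d hd] at this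
        rw [← this, σapp, σapp]
        simp only [ht, pow_two]; group
      have hd2 : d * d = 1 := by
        have e1 : Commute t (u ^ 2) := hDA _ (hsq u hr) t (A.pow_mem (A.pow_mem ha 2) 2)
        have e2 : (d * u) ^ 2 = u ^ 2 := by
          rw [← htu, conj_pow, e1.eq, mul_inv_cancel_right]
        rw [(show Commute d u from hDc d hd u hr).mul_pow] at e2
        have := mul_eq_right.mp e2
        rwa [pow_two] at this
      have hcomm : σ u * u * t = t * (σ u * u) := by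
        have e : t * (σ u * u) * t⁻¹ = σ u * u := by
          calc t * (σ u * u) * t⁻¹ = (t * σ u * t⁻¹) * (t * u * t⁻¹) := by group
            _ = d * (σ u * d) * u := by rw [htσ, htu]; group
            _ = d * (d * σ u) * u := by rw [hDc d hd _ (σR hr)]
            _ = d * d * (σ u * u) := by group
            _ = σ u * u := by rw [hd2, one_mul]
        exact (mul_inv_eq_iff_eq_mul.mp e).symm
      rw [σapp (σ u * u), hfixR (R.mul_mem (σR hr) hr) (A.pow_mem (A.pow_mem ha 2) 2) ha4 hcomm a ha,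
        mul_inv_cancel_right]

end Key

open scoped commutatorElement in
/-- Squares of elements of a TI abelian `2`-subgroup lie in `O₂`. -/
private theorem sq_mem_pCore [Finite X]
    (hX : Cfsg.generalizedFittingSubgroup X = Cfsg.pCore 2 X) {A : Subgroup X} (hA2 : IsPGroup 2 ↥A)
    (hAa : ∀ a ∈ A, ∀ b ∈ A, a * b = b * a)
    (hti : ∀ h : X, A.map (MulAut.conj h).toMonoidHom = A ∨
      A.map (MulAut.conj h).toMonoidHom ⊓ A = ⊥) {a : X} (ha : a ∈ A) :
    a ^ 2 ∈ Cfsg.pCore 2 X := by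
  haveI : Fact (Nat.Prime 2) := ⟨Nat.prime_two⟩
  set Q := Cfsg.pCore 2 X with hQdef
  have hQ2 : IsPGroup 2 ↥Q := Cfsg.Agent.Lib.Cores.pCore_isPGroup 2 X
  have hCQ : Subgroup.centralizer (Q : Set X) ≤ Q := by
    have := Cfsg.Agent.Lib.Components.centralizer_genFitting_le (G := X)
    rwa [hX] at this
  set N := Subgroup.normalClosure ({a ^ 2} : Set X)
  haveI hNn : N.Normal := Subgroup.normalClosure_normal
  -- the subgroup generated by the elements of odd order of `N`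
  set P := Subgroup.closure {n : X | n ∈ N ∧ Odd (orderOf n)} with hPdef
  haveI hPn : P.Normal := by
    rw [hPdef]
    refine Subgroup.normalizer_eq_top_iff.mp (eq_top_iff.mpr fun g _ => ?_)
    apply Cfsg.Agent.Lib.Classification.map_conj_eq_iff_mem_normalizer.mp
    rw [MonoidHom.map_closure]
    congr 1
    ext x
    constructor
    · rintro ⟨n, ⟨hn, ho⟩, rfl⟩
      refine ⟨hNn.conj_mem n hn g, ?_⟩
      have : orderOf ((MulAut.conj g).toMonoidHom n) = orderOf n :=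
        orderOf_injective _ (MulAut.conj g).injective n
      rwa [this]
    · rintro ⟨hx, ho⟩
      refine ⟨g⁻¹ * x * g, ⟨?_, ?_⟩, by simp [mul_assoc]⟩
      · have := hNn.conj_mem x hx g⁻¹
        rwa [inv_inv] at this
      · have : orderOf ((MulAut.conj g⁻¹).toMonoidHom x) = orderOf x :=
          orderOf_injective _ (MulAut.conj g⁻¹).injective x
        rw [← this] at ho
        simpa using ho
  -- `P` centralizes every normal subgroup inside `Q`
  have key : ∀ m : ℕ, ∀ R : Subgroup X, Nat.card ↥R = m → R.Normal → R ≤ Q →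
      P ≤ Subgroup.centralizer (R : Set X) := by
    intro m
    induction m using Nat.strong_induction_on with
    | _ m ih =>
      intro R hm hR hRQ
      haveI := hR
      have hR2 : IsPGroup 2 ↥R := hQ2.to_le hRQ
      by_cases hRb : R = ⊥
      · subst hRb
        intro x _
        rw [Subgroup.mem_centralizer_iff]
        intro y hy
        simp [Subgroup.mem_bot.mp hy]
      have hlt : ∀ S : Subgroup X, S < R → S.Normal → P ≤ Subgroup.centralizer (S : Set X) := by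
        intro S hS hSn
        refine ih _ ?_ S rfl hSn (hS.le.trans hRQ)
        rw [← hm]
        by_contra hcard
        exact hS.ne (Cfsg.Agent.Lib.Coprime.eq_of_le_of_card_le hS.le (not_lt.mp hcard))
      have hcop : ∀ {n : X} {S : Subgroup X}, Odd (orderOf n) → S ≤ R →
          (Nat.card ↥(Subgroup.zpowers n)).Coprime (Nat.card ↥S) := by
        intro n S ho hS
        obtain ⟨k, hk⟩ := IsPGroup.iff_card.mp (hR2.to_le hS)
        rw [Nat.card_zpowers, hk]
        exact Nat.Coprime.pow_right _ ho.coprime_two_right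
      by_cases hK : ⁅R, P⁆ = R
      · set D := Subgroup.closure ((fun r : X => r ^ 2) '' (R : Set X)) with hDdef
        have hDR : D < R := closure_sq_lt hR2 hRb
        haveI hD : D.Normal := by
          rw [hDdef]
          refine Subgroup.normalizer_eq_top_iff.mp (eq_top_iff.mpr fun g _ => ?_)
          apply Cfsg.Agent.Lib.Classification.map_conj_eq_iff_mem_normalizer.mp
          rw [MonoidHom.map_closure]
          congr 1
          ext x
          constructor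
          · rintro ⟨_, ⟨r, hr, rfl⟩, rfl⟩
            exact ⟨g * r * g⁻¹, hR.conj_mem r hr g, by simp [conj_pow]⟩
          · rintro ⟨r, hr, rfl⟩
            refine ⟨(g⁻¹ * r * g) ^ 2, ⟨_, ?_, rfl⟩, by simp [pow_two, mul_assoc]⟩
            have := hR.conj_mem r hr g⁻¹
            rwa [inv_inv] at this
        have hPD := hlt D hDR hD
        have hDR' : ⁅D, R⁆ ≤ D := Subgroup.commutator_le_left _ _
        have hDc : ∀ d ∈ D, ∀ r ∈ R, d * r = r * d := by
          have hPD' : ⁅P, D⁆ = ⊥ := Subgroup.commutator_eq_bot_iff_le_centralizer.mpr hPD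
          have h1 : ⁅⁅D, R⁆, P⁆ = ⊥ := le_bot_iff.mp <|
            (Subgroup.commutator_mono hDR' le_rfl).trans (by rw [Subgroup.commutator_comm, hPD'])
          have h2 : ⁅⁅P, D⁆, R⁆ = ⊥ := by rw [hPD', Subgroup.commutator_bot_left]
          have h3 : ⁅⁅R, P⁆, D⁆ = ⊥ :=
            Subgroup.commutator_commutator_eq_bot_of_rotate (by rw [hPD', Subgroup.commutator_bot_left]) h1
          rw [hK, Subgroup.commutator_comm] at h3
          exact Cfsg.Agent.Lib.Classification.commutator_eq_bot_iff_commute.mp h3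
        have hsq : ∀ r ∈ R, r ^ 2 ∈ D := fun r hr => Subgroup.subset_closure ⟨r, hr, rfl⟩
        -- every element of `N` moves `R` only inside `D`
        have hNR : ∀ n ∈ N, ∀ r ∈ R, n * r * n⁻¹ * r⁻¹ ∈ D := by
          let N' : Subgroup X :=
            { carrier := {n | ∀ r ∈ R, n * r * n⁻¹ * r⁻¹ ∈ D}
              one_mem' := fun r _ => by simp
              mul_mem' := fun {x y} hx hy r hr => by
                have h1 := hD.conj_mem _ (hy r hr) x
                have h2 := D.mul_mem h1 (hx r hr)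
                rwa [show x * (y * r * y⁻¹ * r⁻¹) * x⁻¹ * (x * r * x⁻¹ * r⁻¹) = x * y * r * (x * y)⁻¹ * r⁻¹ by
                  group] at h2
              inv_mem' := fun {x} hx r hr => by
                have h1 := hD.conj_mem _ (D.inv_mem (hx r hr)) x⁻¹
                rwa [show x⁻¹ * (x * r * x⁻¹ * r⁻¹)⁻¹ * x⁻¹⁻¹ = x⁻¹ * r * x⁻¹⁻¹ * r⁻¹ by group] at h1 }
          haveI : N'.Normal := ⟨fun n hn g r hr => by
            have := hD.conj_mem _ (hn (g⁻¹ * r * g⁻¹⁻¹) (hR.conj_mem r hr g⁻¹)) g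
            rwa [show g * (n * (g⁻¹ * r * g⁻¹⁻¹) * n⁻¹ * (g⁻¹ * r * g⁻¹⁻¹)⁻¹) * g⁻¹ =
              g * n * g⁻¹ * r * (g * n * g⁻¹)⁻¹ * r⁻¹ by group] at this⟩
          intro n hn
          exact (Subgroup.normalClosure_le_normal (Set.singleton_subset_iff.mpr (show a ^ 2 ∈ N' from
            fun r hr => sq_conj_mem hAa hti hA2 hR hD hDR.le (hR2.to_le hDR.le) hDc hsq ha hr)) :
              N ≤ N') hn
        refine (Subgroup.closure_le _).mpr fun n ⟨hn, ho⟩ => ?_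
        exact Cfsg.Agent.Lib.Coprime.le_centralizer_of_stabilizes (A := Subgroup.zpowers n) (N := D)
          (fun b _ => by rw [Subgroup.normalizer_eq_top]; trivial)
          (fun b _ => by rw [Subgroup.normalizer_eq_top]; trivial) (hcop ho hDR.le)
          (fun b hb r hr => hNR b (Subgroup.zpowers_le.mpr hn hb) r hr)
          (Subgroup.zpowers_le.mpr (hPD (Subgroup.subset_closure ⟨hn, ho⟩)))
          (Subgroup.mem_zpowers n)
      · have hle : ⁅R, P⁆ ≤ R := Subgroup.commutator_le_left _ _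
        have hPS := hlt ⁅R, P⁆ (lt_of_le_of_ne hle hK) inferInstance
        refine (Subgroup.closure_le _).mpr fun n ⟨hn, ho⟩ => ?_
        have hnP : n ∈ P := Subgroup.subset_closure ⟨hn, ho⟩
        exact Cfsg.Agent.Lib.Coprime.le_centralizer_of_stabilizes (A := Subgroup.zpowers n) (N := ⁅R, P⁆)
          (fun b _ => by rw [Subgroup.normalizer_eq_top]; trivial)
          (fun b _ => by rw [Subgroup.normalizer_eq_top]; trivial) (hcop ho hle)
          (fun b hb r hr => by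
            rw [Subgroup.commutator_comm]
            exact Subgroup.commutator_mem_commutator (Subgroup.zpowers_le.mpr hnP hb) hr)
          (Subgroup.zpowers_le.mpr (hPS hnP)) (Subgroup.mem_zpowers n)
  have hPQ : P ≤ Q := (key _ Q rfl inferInstance le_rfl).trans hCQ
  have hN2 : IsPGroup 2 ↥N := by
    intro x
    obtain ⟨e, m, hm, hem⟩ := Nat.exists_eq_two_pow_mul_odd (orderOf_pos (x : X)).ne'
    refine ⟨e, Subtype.ext ?_⟩
    rw [SubmonoidClass.coe_pow, OneMemClass.coe_one]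
    have ho : orderOf ((x : X) ^ 2 ^ e) = m := by
      rw [orderOf_pow, hem, Nat.gcd_eq_right (Dvd.intro m rfl), Nat.mul_div_cancel_left _ (Nat.two_pow_pos e)]
    have hmem : (x : X) ^ 2 ^ e ∈ Q := hPQ (Subgroup.subset_closure ⟨N.pow_mem x.2 _, by rwa [ho]⟩)
    obtain ⟨k, hk⟩ := hQ2 ⟨_, hmem⟩
    replace hk : ((x : X) ^ 2 ^ e) ^ 2 ^ k = 1 := by simpa using congrArg Subtype.val hk
    have hdvd : m ∣ 2 ^ k := ho ▸ orderOf_dvd_of_pow_eq_one hk
    have : m = 1 := Nat.eq_one_of_dvd_coprimes ((hm.coprime_two_right).pow_right k) dvd_rfl hdvd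
    exact orderOf_eq_one_iff.mp (ho.trans this)
  exact Cfsg.Agent.Lib.Cores.le_pCore hNn hN2 (Subgroup.subset_normalClosure rfl)

private theorem exists_involution [Finite X] {T : Subgroup X} {b : X} (hb : b ∈ T) (hb2 : b ^ 2 ≠ 1)
    (hT : IsPGroup 2 ↥T) : ∃ e ∈ T, e ≠ 1 ∧ e ^ 2 = 1 := by
  obtain ⟨k, hk⟩ := hT ⟨b, hb⟩
  replace hk : b ^ 2 ^ k = 1 := by simpa using congrArg Subtype.val hk
  induction k with
  | zero => exact absurd (by simpa using hk : b = 1) (fun h => hb2 (by simp [h]))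
  | succ n ih =>
    by_cases h : b ^ 2 ^ n = 1
    · exact ih h
    · exact ⟨b ^ 2 ^ n, T.pow_mem hb _, h, by rw [← pow_mul, ← pow_succ, hk]⟩

/-- Two abelian subgroups normalizing each other and sitting in TI subgroups commute when both have
exponent at least `4`. -/
private theorem commute_pair [Finite X] {A A' T T' R₁ R₂ : Subgroup X}
    (hT : IsPGroup 2 ↥T) (hT' : IsPGroup 2 ↥T')
    (hti : ∀ h : X, A.map (MulAut.conj h).toMonoidHom = A ∨
      A.map (MulAut.conj h).toMonoidHom ⊓ A = ⊥)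
    (hti' : ∀ h : X, A'.map (MulAut.conj h).toMonoidHom = A' ∨
      A'.map (MulAut.conj h).toMonoidHom ⊓ A' = ⊥)
    (hmeet : A' ⊓ A = ⊥) (hTA : T ≤ A) (hTA' : T' ≤ A') (hTR : T ≤ R₁) (hTR' : T' ≤ R₂)
    (h₁ : ∀ x ∈ R₁, ∀ y ∈ R₁, x * y = y * x) (h₂ : ∀ x ∈ R₂, ∀ y ∈ R₂, x * y = y * x)
    (h₁₂ : R₂ ≤ Subgroup.normalizer (R₁ : Set X)) (h₂₁ : R₁ ≤ Subgroup.normalizer (R₂ : Set X))
    {b b' : X} (hb : b ∈ T) (hb2 : b ^ 2 ≠ 1) (hb' : b' ∈ T') (hb2' : b' ^ 2 ≠ 1)
    {x y : X} (hx : x ∈ T) (hy : y ∈ T') : x * y = y * x := by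
  have hcen : ∀ {x y : X}, x ∈ T → y ∈ T' → x * y * x⁻¹ * y⁻¹ ∈ R₁ ⊓ R₂ := by
    intro x y hx hy
    refine ⟨?_, R₂.mul_mem ((Subgroup.mem_set_normalizer_iff.mp (h₂₁ (hTR hx)) _).mp (hTR' hy))
      (R₂.inv_mem (hTR' hy))⟩
    have := R₁.mul_mem (hTR hx)
      ((Subgroup.mem_set_normalizer_iff.mp (h₁₂ (hTR' hy)) _).mp (R₁.inv_mem (hTR hx)))
    rwa [show x * (y * x⁻¹ * y⁻¹) = x * y * x⁻¹ * y⁻¹ by group] at this
  have hsqc : ∀ {x y : X}, x ∈ T → y ∈ T' →
      x ^ 2 * y * (x ^ 2)⁻¹ * y⁻¹ = x * y ^ 2 * x⁻¹ * (y ^ 2)⁻¹ := by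
    intro x y hx hy
    have hx' : x * (x * y * x⁻¹ * y⁻¹) = x * y * x⁻¹ * y⁻¹ * x :=
      h₁ x (hTR hx) _ (hcen hx hy).1
    have hy' : y * (x * y * x⁻¹ * y⁻¹) = x * y * x⁻¹ * y⁻¹ * y :=
      h₂ y (hTR' hy) _ (hcen hx hy).2
    calc x ^ 2 * y * (x ^ 2)⁻¹ * y⁻¹
        = x * (x * y * x⁻¹ * y⁻¹) * (y * x⁻¹ * y⁻¹) := by simp only [pow_two]; group
      _ = x * y * x⁻¹ * y⁻¹ * x * (y * x⁻¹ * y⁻¹) := by rw [hx']
      _ = x * y * x⁻¹ * y⁻¹ * (x * y * x⁻¹ * y⁻¹) := by group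
      _ = x * y * x⁻¹ * y⁻¹ * (x * y * x⁻¹ * y⁻¹) * y * y⁻¹ := by group
      _ = x * y * x⁻¹ * y⁻¹ * (y * (x * y * x⁻¹ * y⁻¹)) * y⁻¹ := by rw [hy']; group
      _ = _ := by simp only [pow_two]; group
  have mem_conj : ∀ {B : Subgroup X} {u z : X}, (∀ w ∈ B, u * w * u⁻¹ ∈ B) → z ∈ B →
      u * z * u⁻¹ * z⁻¹ ∈ B := fun {B} {u} {z} hu hz => B.mul_mem (hu z hz) (B.inv_mem hz)
  -- both `T` and `T'` normalize the other TI subgroup
  have fin : (∀ x ∈ T, ∀ a ∈ A', x * a * x⁻¹ ∈ A') → (∀ y ∈ T', ∀ a ∈ A, y * a * y⁻¹ ∈ A) →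
      x * y = y * x := fun n1 n2 =>
    commute_of_normalize hmeet (hTA hx) (hTA' hy) (n1 x hx y (hTA' hy))
      (n2 y hy x⁻¹ (A.inv_mem (hTA hx)))
  -- squares of `T'` normalize `A`, squares of `T` normalize `A'`
  have hone : ∀ {z : X}, z ∈ T' → ∀ a ∈ A, z ^ 2 * a * (z ^ 2)⁻¹ ∈ A := by
    intro z hz a ha
    obtain ⟨e, heT, hne, he2⟩ : ∃ e ∈ T, e ≠ 1 ∧ e ^ 2 = 1 := exists_involution hb hb2 hT
    have h1 : e * z ^ 2 * e⁻¹ * (z ^ 2)⁻¹ = 1 := by rw [← hsqc heT hz, he2]; group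
    have hc : z ^ 2 * e = e * z ^ 2 := by
      calc z ^ 2 * e = 1 * (z ^ 2 * e) := (one_mul _).symm
        _ = e * z ^ 2 * e⁻¹ * (z ^ 2)⁻¹ * (z ^ 2 * e) := by rw [h1]
        _ = e * z ^ 2 := by group
    exact ti_normalizes hti (hTA heT) hne hc ha
  have htwo : ∀ {z : X}, z ∈ T → ∀ a ∈ A', z ^ 2 * a * (z ^ 2)⁻¹ ∈ A' := by
    intro z hz a ha
    obtain ⟨e, heT, hne, he2⟩ : ∃ e ∈ T', e ≠ 1 ∧ e ^ 2 = 1 := exists_involution hb' hb2' hT'
    have h1 : z ^ 2 * e * (z ^ 2)⁻¹ * e⁻¹ = 1 := by rw [hsqc hz heT, he2]; group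
    have hc : z ^ 2 * e = e * z ^ 2 := by
      calc z ^ 2 * e = z ^ 2 * e * (z ^ 2)⁻¹ * e⁻¹ * (e * z ^ 2) := by group
        _ = e * z ^ 2 := by rw [h1, one_mul]
    exact ti_normalizes hti' (hTA' heT) hne hc ha
  by_cases hw : ∃ u ∈ T, ∃ v ∈ T', u ^ 2 * v * (u ^ 2)⁻¹ * v⁻¹ ≠ 1
  · obtain ⟨u, hu, v, hv, hw⟩ := hw
    have hwA' : u ^ 2 * v * (u ^ 2)⁻¹ * v⁻¹ ∈ A' :=
      mem_conj (htwo hu) (hTA' hv)
    have hwA : u * v ^ 2 * u⁻¹ * (v ^ 2)⁻¹ ∈ A := by
      have := A.mul_mem (hTA hu) (hone hv u⁻¹ (A.inv_mem (hTA hu)))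
      rwa [show u * (v ^ 2 * u⁻¹ * (v ^ 2)⁻¹) = u * v ^ 2 * u⁻¹ * (v ^ 2)⁻¹ by group] at this
    rw [← hsqc hu hv] at hwA
    exact absurd (Subgroup.mem_bot.mp (hmeet ▸ Subgroup.mem_inf.mpr ⟨hwA', hwA⟩)) hw
  · push_neg at hw
    refine fin (fun x hx a ha => ti_normalizes hti' (hTA' (T'.pow_mem hb' 2)) hb2' ?_ ha)
      (fun y hy a ha => ti_normalizes hti (hTA (T.pow_mem hb 2)) hb2 ?_ ha)
    · have h1 := hw x hx b' hb'
      rw [hsqc hx hb'] at h1
      calc x * b' ^ 2 = x * b' ^ 2 * x⁻¹ * (b' ^ 2)⁻¹ * (b' ^ 2 * x) := by group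
        _ = b' ^ 2 * x := by rw [h1, one_mul]
    · calc y * b ^ 2 = 1 * (y * b ^ 2) := (one_mul _).symm
        _ = b ^ 2 * y * (b ^ 2)⁻¹ * y⁻¹ * (y * b ^ 2) := by rw [hw b hb y hy]
        _ = b ^ 2 * y := by group

/-- The conjugates of `T` under a `2`-subgroup `P` containing it commute with each other. -/
private theorem conj_commute [Finite X] {A T : Subgroup X}
    (hti : ∀ h : X, A.map (MulAut.conj h).toMonoidHom = A ∨
      A.map (MulAut.conj h).toMonoidHom ⊓ A = ⊥)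
    (hTA : T ≤ A) (hT : IsPGroup 2 ↥T) (hAa : ∀ a ∈ A, ∀ b ∈ A, a * b = b * a)
    {b : X} (hb : b ∈ T) (hb2 : b ^ 2 ≠ 1) :
    (∀ (R₁ R₂ : Subgroup X) (p q : X), T.map (MulAut.conj p).toMonoidHom ≤ R₁ →
      T.map (MulAut.conj q).toMonoidHom ≤ R₂ → (∀ x ∈ R₁, ∀ y ∈ R₁, x * y = y * x) →
      (∀ x ∈ R₂, ∀ y ∈ R₂, x * y = y * x) → R₂ ≤ Subgroup.normalizer (R₁ : Set X) →
      R₁ ≤ Subgroup.normalizer (R₂ : Set X) →
      ∀ x ∈ T.map (MulAut.conj p).toMonoidHom, ∀ y ∈ T.map (MulAut.conj q).toMonoidHom,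
        x * y = y * x) := by
  intro R₁ R₂ p q h1 h2 ha1 ha2 h12 h21 x hx y hy
  set A₁ := A.map (MulAut.conj p).toMonoidHom
  set A₂ := A.map (MulAut.conj q).toMonoidHom
  have hconj : ∀ p h : X, (A.map (MulAut.conj p).toMonoidHom).map (MulAut.conj h).toMonoidHom =
      (A.map (MulAut.conj (p⁻¹ * h * p)).toMonoidHom).map (MulAut.conj p).toMonoidHom := by
    intro p h
    rw [Subgroup.map_map, Subgroup.map_map]
    congr 1
    ext z
    simp [mul_assoc]
  have hti' : ∀ p h : X, (A.map (MulAut.conj p).toMonoidHom).map (MulAut.conj h).toMonoidHom =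
      A.map (MulAut.conj p).toMonoidHom ∨
      (A.map (MulAut.conj p).toMonoidHom).map (MulAut.conj h).toMonoidHom ⊓
        A.map (MulAut.conj p).toMonoidHom = ⊥ := by
    intro p h
    rw [hconj]
    rcases hti (p⁻¹ * h * p) with e | e
    · exact Or.inl (by rw [e])
    · exact Or.inr (by
        rw [← Subgroup.map_inf _ _ _ (MulAut.conj p).injective, e, Subgroup.map_bot])
  have hTA₁ : T.map (MulAut.conj p).toMonoidHom ≤ A₁ := Subgroup.map_mono hTA
  have hTA₂ : T.map (MulAut.conj q).toMonoidHom ≤ A₂ := Subgroup.map_mono hTA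
  by_cases heq : A₁ = A₂
  · obtain ⟨u, hu, rfl⟩ := hTA₁ hx
    obtain ⟨v, hv, rfl⟩ : y ∈ A₁ := heq.symm ▸ hTA₂ hy
    rw [← map_mul, ← map_mul, hAa u hu v hv]
  · have hmeet : A₂ ⊓ A₁ = ⊥ := by
      have e := hti' p (q * p⁻¹)
      rw [show (A₁.map (MulAut.conj (q * p⁻¹)).toMonoidHom) = A₂ by
        rw [hconj]
        simp only [A₁, A₂]
        rw [Subgroup.map_map]
        congr 1
        ext z
        simp [mul_assoc]] at e
      exact e.resolve_left fun h => heq h.symm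
    exact commute_pair (hT.map _) (hT.map _) (hti' p) (hti' q) hmeet hTA₁ hTA₂ h1 h2 ha1 ha2 h12 h21
      (Cfsg.Agent.Lib.Classification.mul_mem_map_conj (g := p) hb)
      (by rw [conj_pow]; simpa using hb2)
      (Cfsg.Agent.Lib.Classification.mul_mem_map_conj (g := q) hb)
      (by rw [conj_pow]; simpa using hb2) hx hy

/-- The subgroup generated by the conjugates of `T` by elements of `P`. -/
private theorem closure_conj_commute {T P : Subgroup X} (h : ∀ p ∈ P, ∀ q ∈ P,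
    ∀ x ∈ T.map (MulAut.conj p).toMonoidHom, ∀ y ∈ T.map (MulAut.conj q).toMonoidHom,
      x * y = y * x) :
    ∀ x ∈ Subgroup.closure {z : X | ∃ p ∈ P, z ∈ T.map (MulAut.conj p).toMonoidHom},
      ∀ y ∈ Subgroup.closure {z : X | ∃ p ∈ P, z ∈ T.map (MulAut.conj p).toMonoidHom},
        x * y = y * x := by
  intro x hx y hy
  induction hx, hy using Subgroup.closure_induction₂ with
  | mem a b ha hb =>
    obtain ⟨p, hp, ha⟩ := ha
    obtain ⟨q, hq, hb⟩ := hb
    exact h p hp q hq a ha b hb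
  | one_left => simp
  | one_right => simp
  | mul_left a b c _ _ _ h1 h2 => exact (Commute.mul_left h1 h2).eq
  | mul_right a b c _ _ _ h1 h2 => exact (Commute.mul_right h1 h2).eq
  | inv_left a b _ _ h1 => exact (Commute.inv_left h1).eq
  | inv_right a b _ _ h1 => exact (Commute.inv_right h1).eq

/-- The conjugate by `g` of that subgroup is normalized by a normalizer of `P`. -/
private theorem conj_closure_normalized [Finite X] {T P : Subgroup X} {g : X}
    (hg : g ∈ Subgroup.normalizer (P : Set X)) :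
    P ≤ Subgroup.normalizer
      ((Subgroup.closure {z : X | ∃ p ∈ P, z ∈ T.map (MulAut.conj p).toMonoidHom}).map
        (MulAut.conj g).toMonoidHom : Set X) := by
  set R := Subgroup.closure {z : X | ∃ p ∈ P, z ∈ T.map (MulAut.conj p).toMonoidHom} with hR
  have hnorm : ∀ m ∈ P, R.map (MulAut.conj m).toMonoidHom ≤ R := by
    intro m hm
    rw [hR, MonoidHom.map_closure]
    refine Subgroup.closure_mono ?_
    rintro _ ⟨z, ⟨p, hp, t, ht, rfl⟩, rfl⟩
    exact ⟨m * p, P.mul_mem hm hp, t, ht, by simp [mul_assoc]⟩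
  intro m hm
  apply Cfsg.Agent.Lib.Classification.map_conj_eq_iff_mem_normalizer.mp
  have hm' : g⁻¹ * m * g ∈ P := by
    have := (Subgroup.mem_set_normalizer_iff.mp (Subgroup.inv_mem _ hg) m).mp hm
    rwa [inv_inv] at this
  have e : R.map (MulAut.conj (g⁻¹ * m * g)).toMonoidHom = R :=
    Cfsg.Agent.Lib.Coprime.eq_of_le_of_card_le (hnorm _ hm')
      (Cfsg.Agent.Lib.Classification.card_map_conj _ _).ge
  conv_rhs => rw [← e]
  rw [Subgroup.map_map, Subgroup.map_map]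
  congr 1
  ext z
  simp [mul_assoc]

private theorem normalClosure_sq_commutative [Finite X]
    (hX : Cfsg.generalizedFittingSubgroup X = Cfsg.pCore 2 X) {A : Subgroup X} (hA2 : IsPGroup 2 ↥A)
    (hAa : ∀ a ∈ A, ∀ b ∈ A, a * b = b * a)
    (hti : ∀ h : X, A.map (MulAut.conj h).toMonoidHom = A ∨
      A.map (MulAut.conj h).toMonoidHom ⊓ A = ⊥)
    {b : X} (hb : b ∈ A) (hbQ : b ∈ Cfsg.pCore 2 X) (hb2 : b ^ 2 ≠ 1) :
    IsMulCommutative ↥(Subgroup.normalClosure ((fun a : X => a ^ 2) '' (A : Set X))) := by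
  haveI : Fact (Nat.Prime 2) := ⟨Nat.prime_two⟩
  set Q := Cfsg.pCore 2 X with hQdef
  have hQ2 : IsPGroup 2 ↥Q := Cfsg.Agent.Lib.Cores.pCore_isPGroup 2 X
  set T := A ⊓ Q
  have hT : IsPGroup 2 ↥T := hA2.to_le inf_le_left
  have hc := conj_commute hti (inf_le_left : T ≤ A) hT hAa ⟨hb, hbQ⟩ hb2
  -- inductively, the `P`-conjugates of `T` commute
  have key : ∀ m : ℕ, ∀ P : Subgroup X, Nat.card ↥P = m → T ≤ P → P ≤ Q → ∀ p ∈ P, ∀ q ∈ P,
      ∀ x ∈ T.map (MulAut.conj p).toMonoidHom, ∀ y ∈ T.map (MulAut.conj q).toMonoidHom,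
        x * y = y * x := by
    intro m
    induction m using Nat.strong_induction_on with
    | _ m ih =>
      intro P hm hTP hPQ
      by_cases hTtop : T.subgroupOf P = ⊤
      · intro p hp q hq x hx y hy
        have hPT : P ≤ T := Subgroup.subgroupOf_eq_top.mp hTtop
        obtain ⟨u, hu, rfl⟩ := hx
        obtain ⟨v, hv, rfl⟩ := hy
        have e : ∀ z ∈ P, ∀ w ∈ T, (MulAut.conj z).toMonoidHom w = w := fun z hz w hw => by
          simp [hAa z (inf_le_left (a := A) (b := Q) (hPT hz)) w hw.1, mul_assoc]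
        rw [e p hp u hu, e q hq v hv, hAa u hu.1 v hv.1]
      obtain ⟨M, hM, hTM⟩ := (eq_top_or_exists_le_coatom (T.subgroupOf P)).resolve_left hTtop
      haveI : Group.IsNilpotent ↥P := (hQ2.to_le hPQ).isNilpotent
      haveI hMn : M.Normal := Subgroup.NormalizerCondition.normal_of_coatom M
        Group.normalizerCondition_of_isNilpotent hM
      set P₀ := M.map P.subtype
      have hP₀P : P₀ ≤ P := Subgroup.map_subtype_le M
      have hTP₀ : T ≤ P₀ := fun t ht => ⟨⟨t, hTP ht⟩, hTM ht, rfl⟩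
      have hnorm : P ≤ Subgroup.normalizer (P₀ : Set X) := by
        intro z hz
        apply Cfsg.Agent.Lib.Classification.map_conj_eq_iff_mem_normalizer.mp
        refine Cfsg.Agent.Lib.Coprime.eq_of_le_of_card_le ?_
          (Cfsg.Agent.Lib.Classification.card_map_conj _ _).ge
        rintro _ ⟨_, ⟨w, hw, rfl⟩, rfl⟩
        exact ⟨⟨z, hz⟩ * w * ⟨z, hz⟩⁻¹, hMn.conj_mem w hw _, by simp⟩
      have hlt : Nat.card ↥P₀ < m := by
        rw [← hm]
        by_contra hcard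
        have e := Cfsg.Agent.Lib.Coprime.eq_of_le_of_card_le hP₀P (not_lt.mp hcard)
        exact hM.1 (eq_top_iff.mpr fun w _ => by
          obtain ⟨w', hw', e'⟩ := (e.symm ▸ w.2 : (w : X) ∈ P₀)
          rwa [← Subtype.ext e'])
      have hab := closure_conj_commute (ih _ hlt P₀ rfl hTP₀ (hP₀P.trans hPQ))
      intro p hp q hq
      set R := Subgroup.closure {z : X | ∃ r ∈ P₀, z ∈ T.map (MulAut.conj r).toMonoidHom}
      have hRP : ∀ g ∈ P, R.map (MulAut.conj g).toMonoidHom ≤ P₀ := by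
        intro g hg
        rw [MonoidHom.map_closure, Subgroup.closure_le]
        rintro _ ⟨_, ⟨r, hr, t, ht, rfl⟩, rfl⟩
        exact (Subgroup.mem_set_normalizer_iff.mp (hnorm hg) _).mp
          ((Subgroup.mem_set_normalizer_iff.mp (hnorm (hP₀P hr)) _).mp (hTP₀ ht))
      have hTR : ∀ g : X, T.map (MulAut.conj g).toMonoidHom ≤ R.map (MulAut.conj g).toMonoidHom :=
        fun g => Subgroup.map_mono fun t ht =>
          Subgroup.subset_closure ⟨1, P₀.one_mem, t, ht, by simp⟩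
      have hcomm : ∀ g : X, ∀ x ∈ R.map (MulAut.conj g).toMonoidHom,
          ∀ y ∈ R.map (MulAut.conj g).toMonoidHom, x * y = y * x := by
        rintro g _ ⟨u, hu, rfl⟩ _ ⟨v, hv, rfl⟩
        rw [← map_mul, ← map_mul, hab u hu v hv]
      exact hc _ _ p q (hTR p) (hTR q) (hcomm p) (hcomm q)
        ((hRP q hq).trans (conj_closure_normalized (hnorm hp)))
        ((hRP p hp).trans (conj_closure_normalized (hnorm hq)))
  have hab := closure_conj_commute (key _ Q rfl inf_le_right le_rfl)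
  set R := Subgroup.closure {z : X | ∃ r ∈ Q, z ∈ T.map (MulAut.conj r).toMonoidHom}
  have hQn : ∀ g : X, g ∈ Subgroup.normalizer (Q : Set X) := fun g => by
    rw [Subgroup.normalizer_eq_top]; trivial
  have hRQ : ∀ g : X, R.map (MulAut.conj g).toMonoidHom ≤ Q := by
    intro g
    rw [MonoidHom.map_closure, Subgroup.closure_le]
    rintro _ ⟨_, ⟨r, hr, t, ht, rfl⟩, rfl⟩
    exact (Subgroup.mem_set_normalizer_iff.mp (hQn g) _).mp
      ((Subgroup.mem_set_normalizer_iff.mp (hQn r) _).mp ht.2)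
  have hTR : ∀ g : X, T.map (MulAut.conj g).toMonoidHom ≤ R.map (MulAut.conj g).toMonoidHom :=
    fun g => Subgroup.map_mono fun t ht =>
      Subgroup.subset_closure ⟨1, Q.one_mem, t, ht, by simp⟩
  have hcomm : ∀ g : X, ∀ x ∈ R.map (MulAut.conj g).toMonoidHom,
      ∀ y ∈ R.map (MulAut.conj g).toMonoidHom, x * y = y * x := by
    rintro g _ ⟨u, hu, rfl⟩ _ ⟨v, hv, rfl⟩
    rw [← map_mul, ← map_mul, hab u hu v hv]
  have hall := closure_conj_commute (T := T) (P := ⊤) fun p _ q _ =>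
    hc _ _ p q (hTR p) (hTR q) (hcomm p) (hcomm q)
      ((hRQ q).trans (conj_closure_normalized (hQn p)))
      ((hRQ p).trans (conj_closure_normalized (hQn q)))
  set S := Subgroup.closure {z : X | ∃ r ∈ (⊤ : Subgroup X), z ∈ T.map (MulAut.conj r).toMonoidHom}
  have hle : Subgroup.normalClosure ((fun a : X => a ^ 2) '' (A : Set X)) ≤ S := by
    refine (Subgroup.closure_le _).mpr fun z hz => ?_
    obtain ⟨w, ⟨a, ha, rfl⟩, hwz⟩ := Group.mem_conjugatesOfSet_iff.mp hz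
    obtain ⟨g, rfl⟩ := isConj_iff.mp hwz
    exact Subgroup.subset_closure ⟨g, trivial, a ^ 2, ⟨A.pow_mem ha 2,
      sq_mem_pCore hX hA2 hAa hti ha⟩, rfl⟩
  exact ⟨⟨fun x y => Subtype.ext (hall x (hle x.2) y (hle y.2))⟩⟩

/-- Let X be a finite group whose generalized Fitting subgroup equals its largest normal 2-subgroup Q, and let A be an abelian 2-subgroup of X such that every conjugate of A equals A or meets A trivially. Let B be the subgroup generated by the squares of the elements of A. Then B lies in Q, and if B is not an elementary abelian 2-group then the normal closure of B in X is commutative. -/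
theorem result {X : Type*} [Group X] [Finite X]
    (hX : Cfsg.generalizedFittingSubgroup X = Cfsg.pCore 2 X) (A : Subgroup X) (hA2 : IsPGroup 2 ↥A) (hAa : IsMulCommutative ↥A)
    (hti : ∀ h : X, A.map (MulAut.conj h).toMonoidHom = A ∨ A.map (MulAut.conj h).toMonoidHom ⊓ A = ⊥) :
    Subgroup.closure ((fun a : X => a ^ 2) '' (A : Set X)) ≤ Cfsg.pCore 2 X ∧
      (¬ Cfsg.IsElementaryAbelian 2 (Subgroup.closure ((fun a : X => a ^ 2) '' (A : Set X))) →
        IsMulCommutative ↥(Subgroup.normalClosure ((fun a : X => a ^ 2) '' (A : Set X)))) := by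
  have hAc : ∀ a ∈ A, ∀ b ∈ A, a * b = b * a := fun a ha b hb =>
    congrArg Subtype.val (hAa.is_comm.comm (⟨a, ha⟩ : ↥A) ⟨b, hb⟩)
  have h1 : Subgroup.closure ((fun a : X => a ^ 2) '' (A : Set X)) ≤ Cfsg.pCore 2 X := by
    refine (Subgroup.closure_le _).mpr ?_
    rintro _ ⟨a, ha, rfl⟩
    exact sq_mem_pCore hX hA2 hAc hti ha
  refine ⟨h1, fun hne => ?_⟩
  by_contra hcon
  apply hne
  have hle : Subgroup.closure ((fun a : X => a ^ 2) '' (A : Set X)) ≤ A := by
    refine (Subgroup.closure_le _).mpr ?_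
    rintro _ ⟨a, ha, rfl⟩
    exact A.pow_mem ha 2
  have hgen : ∀ a ∈ A, (a ^ 2) ^ 2 = 1 := fun a ha => by
    by_contra h
    exact hcon (normalClosure_sq_commutative hX hA2 hAc hti (A.pow_mem ha 2)
      (sq_mem_pCore hX hA2 hAc hti ha) h)
  refine ⟨⟨⟨fun x y => Subtype.ext (hAc x (hle x.2) y (hle y.2))⟩⟩, fun z hz => ?_⟩
  induction hz using Subgroup.closure_induction with
  | mem w hw => obtain ⟨a, ha, rfl⟩ := hw; exact hgen a ha
  | one => simp
  | mul u v hu hv h1 h2 =>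
    rw [(show Commute u v from hAc u (hle hu) v (hle hv)).mul_pow, h1, h2, one_mul]
  | inv u hu h1 => rw [inv_pow, h1, inv_one]

end Cfsg.Agent.S1783
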