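import Cfsg.Statements.S1784
import Cfsg.Agent.Lib.Classification.Extraspecial
import Cfsg.Agent.Lib.Classification.Symplectic
import Cfsg.Agent.Lib.Components.GenFitting

set_option autoImplicit false
open Cfsg

namespace Cfsg.Agent.S1784

open Cfsg.Agent.Lib.Classification

theorem main {G : Type*} [Group G] [Finite G] {Q Q₀ : Subgroup G} {z α : G}
    (h : TwoExtraData Q z) (hα : α * α = 1) (hαz : α * z = z * α)
    (hN : ∀ q ∈ Q, α * q * α⁻¹ ∈ Q) (hnc : ¬ ∀ q ∈ Q, α * q = q * α)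
    (hQ₀ : ∀ q : G, q ∈ Q₀ ↔ q ∈ Q ∧ α * q * α⁻¹ * q⁻¹ ∈ Subgroup.zpowers z) :
    Subgroup.closure ((fun q : G => α * q * α⁻¹ * q⁻¹) '' (Q : Set G)) =
      Q₀ ⊓ Subgroup.centralizer (Q₀ : Set G) := by
  classical
  set φ := fun q : G => α * q * α⁻¹ * q⁻¹ with hφ
  set S := Subgroup.closure (φ '' (Q : Set G)) with hS
  have hαinv : α⁻¹ = α := inv_eq_of_mul_eq_one_left hα
  have hφQ : ∀ q ∈ Q, φ q ∈ Q := fun q hq => Q.mul_mem (hN q hq) (Q.inv_mem hq)
  have hQ₀Q : Q₀ ≤ Q := fun q hq => ((hQ₀ q).mp hq).1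
  have hzQ₀ : z ∈ Q₀ := (hQ₀ z).mpr ⟨h.mem, by
    have : α * z * α⁻¹ * z⁻¹ = 1 := by rw [hαz]; group
    rw [this]; exact one_mem _⟩
  -- `α` inverts every commutator
  have hinv : ∀ q, α * φ q * α⁻¹ = (φ q)⁻¹ := fun q => by
    calc α * φ q * α⁻¹ = (α * α) * q * (α⁻¹ * q⁻¹ * α⁻¹) := by simp only [hφ]; group
      _ = q * (α * q⁻¹ * α⁻¹) := by rw [hα, one_mul, hαinv]
      _ = (φ q)⁻¹ := by simp only [hφ]; group
  have hsq : ∀ a ∈ Q, a * a ∈ Subgroup.zpowers z := fun a ha => by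
    rcases h.sq_mem a ha with e | e <;> rw [e]
    · exact one_mem _
    · exact Subgroup.mem_zpowers z
  have hφQ₀ : ∀ q ∈ Q, φ q ∈ Q₀ := fun q hq => (hQ₀ _).mpr ⟨hφQ q hq, by
    rw [hinv]
    have := (Subgroup.zpowers z).inv_mem (hsq _ (hφQ q hq))
    rwa [mul_inv_rev] at this⟩
  have hφC : ∀ q ∈ Q, ∀ r ∈ Q₀, r * φ q = φ q * r := by
    intro q hq r hr
    obtain ⟨hrQ, hrz⟩ := (hQ₀ r).mp hr
    obtain ⟨d, hd, hdr⟩ : ∃ d, (d = 1 ∨ d = z) ∧ α * r * α⁻¹ = d * r :=
      ⟨α * r * α⁻¹ * r⁻¹, h.mem_zpowers hrz, by group⟩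
    obtain ⟨c, hc, hcq⟩ : ∃ c, (c = 1 ∨ c = z) ∧ q * r * q⁻¹ = c * r :=
      ⟨q * r * q⁻¹ * r⁻¹, h.comm q hq r hrQ, by group⟩
    have hdd : d * d = 1 := by rcases hd with rfl | rfl <;> simp [h.sq]
    have hdc : ∀ x ∈ Q, d * x = x * d := fun x hx => by
      rcases hd with rfl | rfl
      · simp
      · exact h.central x hx
    have hcα : α * c * α⁻¹ = c := by
      rcases hc with rfl | rfl
      · simp
      · rw [hαz]; group
    have hdα : α * d * α⁻¹ = d := by
      rcases hd with rfl | rfl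
      · simp
      · rw [hαz]; group
    have hcQ : c ∈ Q := by
      rcases hc with rfl | rfl
      · exact Q.one_mem
      · exact h.mem
    have hrd : r = α * (d * r) * α⁻¹ := by
      rw [← hdr]
      calc r = (α * α) * r * (α * α)⁻¹ := by rw [hα]; group
        _ = α * (α * r * α⁻¹) * α⁻¹ := by group
    have e : (α * q * α⁻¹) * r * (α * q * α⁻¹)⁻¹ = c * r := by
      calc (α * q * α⁻¹) * r * (α * q * α⁻¹)⁻¹
          = (α * q * α⁻¹) * (α * (d * r) * α⁻¹) * (α * q * α⁻¹)⁻¹ := by rw [← hrd]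
        _ = α * ((q * d) * r * q⁻¹) * α⁻¹ := by group
        _ = α * ((d * q) * r * q⁻¹) * α⁻¹ := by rw [hdc q hq]
        _ = α * (d * (q * r * q⁻¹)) * α⁻¹ := by group
        _ = (α * d * α⁻¹) * (α * c * α⁻¹) * (α * r * α⁻¹) := by rw [hcq]; group
        _ = d * (c * d) * r := by rw [hdα, hcα, hdr]; group
        _ = (d * d) * c * r := by rw [← hdc c hcQ]; group
        _ = c * r := by rw [hdd, one_mul]
    rw [← hcq] at e
    have key : φ q * (q * r * q⁻¹) * (φ q)⁻¹ = q * r * q⁻¹ := by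
      calc φ q * (q * r * q⁻¹) * (φ q)⁻¹
          = (α * q * α⁻¹) * r * (α * q * α⁻¹)⁻¹ := by simp only [hφ]; group
        _ = q * r * q⁻¹ := e
    rw [hcq] at key
    have hcc : c * φ q = φ q * c := by
      rcases hc with rfl | rfl
      · simp
      · exact h.central _ (hφQ q hq)
    have key2 : c * (φ q * r * (φ q)⁻¹) = c * r := by
      calc c * (φ q * r * (φ q)⁻¹) = (c * φ q) * r * (φ q)⁻¹ := by group
        _ = φ q * (c * r) * (φ q)⁻¹ := by rw [hcc]; group
        _ = c * r := key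
    have key3 : φ q * r * (φ q)⁻¹ = r := mul_left_cancel key2
    calc r * φ q = φ q * r * (φ q)⁻¹ * φ q := by rw [key3]
      _ = φ q * r := by group
  have hSle : S ≤ Q₀ ⊓ Subgroup.centralizer (Q₀ : Set G) := by
    rw [hS, Subgroup.closure_le]
    rintro _ ⟨q, hq, rfl⟩
    exact ⟨hφQ₀ q hq, Subgroup.mem_centralizer_iff.mpr fun r hr => hφC q hq r hr⟩
  -- `z` is a product of commutators
  have hzS : z ∈ S := by
    by_contra hz
    apply hnc
    have hS1 : ∀ c ∈ S, (c = 1 ∨ c = z) → c = 1 := fun c hc e =>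
      e.resolve_right fun e' => hz (e' ▸ hc)
    have hcS : ∀ q ∈ Q, ∀ r ∈ Q, q * φ r = φ r * q := by
      intro q hq r hr
      have e : φ (q * r) = φ q * (q * φ r * q⁻¹) := by simp only [hφ]; group
      have hm : q * φ r * q⁻¹ * (φ r)⁻¹ ∈ S := by
        have h1 : φ q ∈ S := Subgroup.subset_closure ⟨q, hq, rfl⟩
        have h2 : φ r ∈ S := Subgroup.subset_closure ⟨r, hr, rfl⟩
        have h3 : φ (q * r) ∈ S := Subgroup.subset_closure ⟨q * r, Q.mul_mem hq hr, rfl⟩
        have := S.mul_mem (S.mul_mem (S.inv_mem h1) h3) (S.inv_mem h2)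
        rwa [e, inv_mul_cancel_left] at this
      have := hS1 _ hm (h.comm q hq _ (hφQ r hr))
      calc q * φ r = (q * φ r * q⁻¹ * (φ r)⁻¹) * (φ r * q) := by group
        _ = φ r * q := by rw [this, one_mul]
    intro q hq
    have hfix : φ q = 1 := by
      refine hS1 _ (Subgroup.subset_closure ⟨q, hq, rfl⟩) ?_
      exact h.center_le _ (hφQ q hq) fun x hx => (hcS x hx q hq).symm
    calc α * q = φ q * q * α := by simp only [hφ]; group
      _ = q * α := by rw [hfix, one_mul]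
  -- counting
  have hQ₀C : Q₀ ⊓ Subgroup.centralizer (Q₀ : Set G) ≤ Q ⊓ Subgroup.centralizer (Q₀ : Set G) :=
    inf_le_inf_right _ hQ₀Q
  have hcount : 2 * Nat.card Q ≤ Nat.card S * Nat.card Q₀ := by
    have hrep : ∀ w : G, (∃ r ∈ Q, (φ r)⁻¹ * w ∈ Subgroup.zpowers z) →
        ∃ r ∈ Q, (φ r)⁻¹ * w ∈ Subgroup.zpowers z := fun _ hw => hw
    choose! rep hrepQ hrepz using hrep
    have hmem : ∀ x : Q × Subgroup.zpowers z, φ (x.1 : G) * x.2 ∈ S ∧
        (rep (φ (x.1 : G) * x.2))⁻¹ * x.1 ∈ Q₀ := by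
      rintro ⟨⟨q, hq⟩, ⟨i, hi⟩⟩
      refine ⟨S.mul_mem (Subgroup.subset_closure ⟨q, hq, rfl⟩) ((Subgroup.zpowers_le.mpr hzS) hi), ?_⟩
      have hw : ∃ r ∈ Q, (φ r)⁻¹ * (φ q * i) ∈ Subgroup.zpowers z :=
        ⟨q, hq, by rwa [inv_mul_cancel_left]⟩
      set r := rep (φ q * i) with hr
      have hrQ : r ∈ Q := hrepQ _ hw
      have hz' : (φ r)⁻¹ * φ q ∈ Subgroup.zpowers z := by
        have := (Subgroup.zpowers z).mul_mem (hrepz _ hw) ((Subgroup.zpowers z).inv_mem hi)
        rw [← hr] at this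
        simpa [mul_assoc] using this
      refine (hQ₀ _).mpr ⟨Q.mul_mem (Q.inv_mem hrQ) hq, ?_⟩
      show φ (r⁻¹ * q) ∈ Subgroup.zpowers z
      have e : φ (r⁻¹ * q) = r⁻¹ * ((φ r)⁻¹ * φ q) * r := by simp only [hφ]; group
      rw [e]
      rcases h.mem_zpowers hz' with e' | e' <;> rw [e']
      · simp
      · rw [← inv_inv r, ← h.central _ (Q.inv_mem (Q.inv_mem (Q.inv_mem hrQ))), inv_inv]
        simp [Subgroup.mem_zpowers]
    let f : Q × Subgroup.zpowers z → S × Q₀ := fun x => (⟨_, (hmem x).1⟩, ⟨_, (hmem x).2⟩)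
    have hf : Function.Injective f := by
      intro x y hxy
      have e1 : φ (x.1 : G) * x.2 = φ (y.1 : G) * y.2 := congrArg (fun w => (w.1 : G)) hxy
      have e2 : (rep (φ (x.1 : G) * x.2))⁻¹ * (x.1 : G) = (rep (φ (y.1 : G) * y.2))⁻¹ * y.1 :=
        congrArg (fun w => (w.2 : G)) hxy
      rw [e1] at e2
      have hq := mul_left_cancel e2
      rw [hq] at e1
      exact Prod.ext (Subtype.ext hq) (Subtype.ext (mul_left_cancel e1))
    have := Nat.card_le_card_of_injective f hf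
    rwa [Nat.card_prod, Nat.card_prod, h.card_zpowers_eq, mul_comm (Nat.card Q) 2] at this
  have hmul := h.card_mul_card_centralizer hQ₀Q hzQ₀
  have hpos : 0 < Nat.card Q₀ := Nat.card_pos
  have hge : Nat.card ↥(Q ⊓ Subgroup.centralizer (Q₀ : Set G)) ≤ Nat.card S := by
    refine Nat.le_of_mul_le_mul_right ?_ hpos
    rw [mul_comm, hmul]
    exact hcount
  exact le_antisymm hSle (hQ₀C.trans
    (Subgroup.eq_of_le_of_card_ge (hSle.trans hQ₀C) hge).ge)

/-- Let G be a finite group and let z be an involution of G such that Q, the generalized Fitting subgroup of the centralizer C of z, is a 2-group of symplectic type (every characteristic abelian subgroup of Q is cyclic); suppose Q is extraspecial, and view Q inside G. Let α be an involution of C that is not in Q, and let Q₀ be the subgroup of those q ∈ Q whose commutator with α lies in the subgroup generated by z. Then (a) the subgroup generated by the commutators α q α⁻¹ q⁻¹, q ∈ Q, equals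 the centre of Q₀; and (b) if Q₀ is not contained in the product of the centralizer of α in Q with the subgroup generated by z, then some element of Q conjugates α to α z. -/
theorem result {G : Type*} [Group G] [Finite G] (z : G) (hz : orderOf z = 2) (hQ : Cfsg.IsOfSymplecticType ↥(Cfsg.generalizedFittingSubgroup ↥(Subgroup.centralizer ({z} : Set G)))) (hE : Cfsg.IsExtraspecial 2 ↥(Cfsg.generalizedFittingSubgroup ↥(Subgroup.centralizer ({z} : Set G))))
    (α : G) (hα : orderOf α = 2) (hαC : α ∈ Subgroup.centralizer ({z} : Set G)) (hαQ : α ∉ (Cfsg.generalizedFittingSubgroup ↥(Subgroup.centralizer ({z} : Set G))).map (Subgroup.centralizer ({z} : Set G)).subtype)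
    (Q₀ : Subgroup G) (hQ₀ : ∀ q : G, q ∈ Q₀ ↔ (q ∈ (Cfsg.generalizedFittingSubgroup ↥(Subgroup.centralizer ({z} : Set G))).map (Subgroup.centralizer ({z} : Set G)).subtype ∧ α * q * α⁻¹ * q⁻¹ ∈ Subgroup.zpowers z)) :
    Subgroup.closure ((fun q : G => α * q * α⁻¹ * q⁻¹) '' ((Cfsg.generalizedFittingSubgroup ↥(Subgroup.centralizer ({z} : Set G))).map (Subgroup.centralizer ({z} : Set G)).subtype : Set G)) = (Subgroup.center ↥Q₀).map Q₀.subtype ∧
      (¬ Q₀ ≤ ((Cfsg.generalizedFittingSubgroup ↥(Subgroup.centralizer ({z} : Set G))).map (Subgroup.centralizer ({z} : Set G)).subtype ⊓ Subgroup.centralizer ({α} : Set G)) ⊔ Subgroup.zpowers z →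
        ∃ q ∈ (Cfsg.generalizedFittingSubgroup ↥(Subgroup.centralizer ({z} : Set G))).map (Subgroup.centralizer ({z} : Set G)).subtype, q * α * q⁻¹ = α * z) := by
  set C := Subgroup.centralizer ({z} : Set G) with hCdef
  set F := Cfsg.generalizedFittingSubgroup ↥C with hF
  set Q := F.map C.subtype with hQdef
  have hQC : Q ≤ C := Subgroup.map_subtype_le _
  have hzQ : z ∈ Q := ⟨⟨z, _⟩, Cfsg.Agent.Lib.Classification.mem_genFitting_centralizer z, rfl⟩
  have hE' : Cfsg.IsExtraspecial 2 ↥Q :=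
    Cfsg.Agent.Lib.Classification.isExtraspecial_of_mulEquiv
      (F.equivMapOfInjective C.subtype C.subtype_injective) hE
  have h := Cfsg.Agent.Lib.Classification.TwoExtraData.of_isExtraspecial hE' hzQ hz
    (fun q hq => (Subgroup.mem_centralizer_singleton_iff.mp (hQC hq)).symm)
  have hα2 : α * α = 1 := by rw [← pow_two, ← hα, pow_orderOf_eq_one]
  have hαz : α * z = z * α := Subgroup.mem_centralizer_singleton_iff.mp hαC
  have hN : ∀ q ∈ Q, α * q * α⁻¹ ∈ Q := by
    rintro _ ⟨f, hf, rfl⟩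
    haveI : F.Normal := by rw [hF]; infer_instance
    exact ⟨⟨α, hαC⟩ * f * ⟨α, hαC⟩⁻¹, Subgroup.Normal.conj_mem inferInstance f hf _, rfl⟩
  have hnc : ¬ ∀ q ∈ Q, α * q = q * α := by
    intro hall
    apply hαQ
    refine ⟨⟨α, hαC⟩, Cfsg.Agent.Lib.Components.centralizer_genFitting_le ?_, rfl⟩
    exact Subgroup.mem_centralizer_iff.mpr fun f hf => Subtype.ext (hall f ⟨f, hf, rfl⟩).symm
  constructor
  · rw [main h hα2 hαz hN hnc hQ₀]
    exact (Cfsg.Agent.Lib.Components.map_center_eq_inf Q₀).symm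
  · intro hnot
    obtain ⟨q, hq, hqn⟩ := SetLike.not_le_iff_exists.mp hnot
    obtain ⟨hqQ, hqz⟩ := (hQ₀ q).mp hq
    rcases h.mem_zpowers hqz with e | e
    · exfalso
      apply hqn
      refine Subgroup.mem_sup_left ⟨hqQ, Subgroup.mem_centralizer_singleton_iff.mpr ?_⟩
      calc q * α = (α * q * α⁻¹ * q⁻¹) * q * α := by rw [e, one_mul]
        _ = α * q := by group
    · refine ⟨q, hqQ, ?_⟩
      have hi : α⁻¹ = α := inv_eq_of_mul_eq_one_left hα2
      calc q * α * q⁻¹ = α * (α⁻¹ * q * (α⁻¹)⁻¹ * q⁻¹) := by group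
        _ = α * z := by rw [hi, e]

end Cfsg.Agent.S1784
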