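import Cfsg.Statements.S1785
import Cfsg.Agent.Lib.Classification.ElemAbTwo

set_option autoImplicit false
open Cfsg

namespace Cfsg.Agent.S1785

open Cfsg.Agent.Lib.Classification

variable {X : Type*} [Group X] [Finite X]

/-- A proper subgroup of an elementary abelian 2-group can be doubled inside it. -/
theorem exists_double {A D : Subgroup X} (hA : ∀ a ∈ A, a ^ 2 = 1) (hDA : D ≤ A) (hne : D ≠ A) :
    ∃ t ∈ A, t ∉ D ∧ ∃ D' : Subgroup X, D ≤ D' ∧ t ∈ D' ∧ D' ≤ A ∧ Nat.card D' = 2 * Nat.card D ∧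
      ∀ c : X, c * t = t * c → (∀ d ∈ D, c * d = d * c) → ∀ d ∈ D', c * d = d * c := by
  obtain ⟨t, htA, htD⟩ := SetLike.not_le_iff_exists.mp (fun h : A ≤ D => hne (le_antisymm hDA h))
  have hc : ∀ d ∈ D, t * d = d * t := fun d hd => commute_of_sq_eq_one hA t htA d (hDA hd)
  refine ⟨t, htA, htD, adjoinSubgroup D t (hA t htA) hc, le_adjoinSubgroup, self_mem_adjoinSubgroup,
    ?_, card_adjoinSubgroup htD, ?_⟩
  · rintro z (hz | hz)
    · exact hDA hz
    · have h := A.mul_mem (A.inv_mem htA) (hDA hz)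
      rwa [inv_mul_cancel_left] at h
  · intro c hct hcD d hd
    rcases hd with hd | hd
    · exact hcD d hd
    · have e : d = t⁻¹ * (t * d) := by group
      rw [e]
      exact (Commute.mul_right (Commute.inv_right hct) (hcD _ hd)).eq

/-- The part of the normal subgroup `E` centralizing a doubled subgroup. -/
theorem card_fixed_step (E : Subgroup X) [E.Normal] (hE : ∀ e ∈ E, e ^ 2 = 1) {A D D' : Subgroup X}
    (hA : ∀ a ∈ A, a ^ 2 = 1) (hDA : D ≤ A) {t : X} (htA : t ∈ A)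
    (hD' : ∀ c : X, c * t = t * c → (∀ d ∈ D, c * d = d * c) → ∀ d ∈ D', c * d = d * c) :
    Nat.card ↥(E ⊓ Subgroup.centralizer (D : Set X)) ≤
      Nat.card ↥(E ⊓ Subgroup.centralizer (D' : Set X)) ^ 2 := by
  have h := card_le_sq_card_inf_centralizer (A := E ⊓ Subgroup.centralizer (D : Set X))
    (x := t) (fun a ha => hE a ha.1) (hA t htA) ?_
  · refine h.trans (Nat.pow_le_pow_left (Subgroup.card_le_of_le ?_) 2)
    rintro c ⟨⟨hcE, hcD⟩, hct⟩
    refine ⟨hcE, Subgroup.mem_centralizer_iff.mpr fun d hd => (hD' c ?_ ?_ d hd).symm⟩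
    · exact Subgroup.mem_centralizer_singleton_iff.mp hct
    · exact fun d hd => (Subgroup.mem_centralizer_iff.mp hcD d hd).symm
  · rintro c ⟨hcE, hcD⟩
    refine ⟨Subgroup.Normal.conj_mem ‹_› c hcE t, Subgroup.mem_centralizer_iff.mpr fun d hd => ?_⟩
    have h1 : Commute t d := commute_of_sq_eq_one hA t htA d (hDA hd)
    have h2 : Commute c d := (Subgroup.mem_centralizer_iff.mp hcD d hd).symm
    exact ((h1.mul_left h2).mul_left h1.inv_left).eq.symm

theorem card_fixed_base (E : Subgroup X) (hE : ∀ e ∈ E, e ^ 2 = 1) {D : Subgroup X} (hD : D ≤ E) :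
    E ⊓ Subgroup.centralizer (D : Set X) = E := by
  refine inf_eq_left.mpr fun e he => Subgroup.mem_centralizer_iff.mpr fun d hd => ?_
  exact commute_of_sq_eq_one hE d (hD hd) e he

/-- One step towards `E`: an order-8 elementary group outside `E` is adjacent to one with larger
intersection with `E`. -/
theorem exists_adjacent (E : Subgroup X) [E.Normal] (hE : ∀ e ∈ E, e ^ 2 = 1)
    (hE32 : 32 ≤ Nat.card E) (A : Subgroup X) (hA : ∀ a ∈ A, a ^ 2 = 1) (hA8 : Nat.card A = 8)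
    (hAE : ¬ A ≤ E) :
    ∃ B : Subgroup X, (∀ b ∈ B, b ^ 2 = 1) ∧ Nat.card B = 8 ∧
      (∀ a ∈ A, ∀ b ∈ B, a * b = b * a) ∧
      Nat.card ↥(A ⊓ E) < Nat.card ↥(B ⊓ E) := by
  have hdvd : Nat.card ↥(A ⊓ E) ∣ 2 ^ 3 := by
    rw [show 2 ^ 3 = 8 from rfl, ← hA8]; exact Subgroup.card_dvd_of_le inf_le_left
  have hne0 : A ⊓ E ≠ A := fun h => hAE (h ▸ inf_le_right)
  -- a maximal subgroup `H` above `A ⊓ E`, and an element of `E` centralizing `A` outside `A`
  suffices hex : (∃ H : Subgroup X, A ⊓ E ≤ H ∧ H ≤ A ∧ Nat.card H = 4) ∧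
      ∃ e ∈ E, e ∉ A ∧ ∀ a ∈ A, e * a = a * e by
    obtain ⟨⟨H, hEH, hHA, hH4⟩, e, heE, heA, hec⟩ := hex
    let B := adjoinSubgroup H e (hE e heE) (fun h hh => hec h (hHA hh))
    refine ⟨B, sq_eq_one_of_mem_adjoinSubgroup (fun h hh => hA h (hHA hh)),
      by rw [card_adjoinSubgroup (fun h => heA (hHA h)), hH4], ?_, ?_⟩
    · intro a ha b hb
      rcases hb with hb | hb
      · exact commute_of_sq_eq_one hA a ha b (hHA hb)
      · have e' : b = e⁻¹ * (e * b) := by group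
        rw [e']
        exact (Commute.mul_right (Commute.inv_right (hec a ha).symm)
          (commute_of_sq_eq_one hA a ha _ (hHA hb))).eq
    · refine lt_of_le_of_ne (Subgroup.card_le_of_le (le_inf (hEH.trans le_adjoinSubgroup) inf_le_right)) ?_
      intro heq
      have h := Subgroup.eq_of_le_of_card_ge
        (le_inf (hEH.trans le_adjoinSubgroup) inf_le_right : A ⊓ E ≤ B ⊓ E) heq.ge
      have : e ∈ B ⊓ E := ⟨self_mem_adjoinSubgroup, heE⟩
      rw [← h] at this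
      exact heA this.1
  obtain ⟨t, htA, -, D₁, hD01, -, hD1A, hc1, hD1⟩ := exists_double hA inf_le_left hne0
  have s1 := card_fixed_step E hE hA inf_le_left htA hD1
  rw [card_fixed_base E hE inf_le_right] at s1
  have s1' : 6 ≤ Nat.card ↥(E ⊓ Subgroup.centralizer (D₁ : Set X)) := by nlinarith
  have fin : ∀ D : Subgroup X, D = A → Nat.card ↥(A ⊓ E) < Nat.card ↥(E ⊓ Subgroup.centralizer (D : Set X)) →
      ∃ e ∈ E, e ∉ A ∧ ∀ a ∈ A, e * a = a * e := by
    intro D hD hlt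
    subst hD
    by_contra hcon
    push Not at hcon
    have hle : E ⊓ Subgroup.centralizer (D : Set X) ≤ D ⊓ E := fun e he =>
      ⟨by
        by_contra heA
        obtain ⟨a, ha, hne⟩ := hcon e he.1 heA
        exact hne ((Subgroup.mem_centralizer_iff.mp he.2 a ha).symm), he.1⟩
    exact absurd (Subgroup.card_le_of_le hle) (not_le.mpr hlt)
  have hcase : Nat.card ↥(A ⊓ E) = 4 ∨ Nat.card ↥(A ⊓ E) = 2 ∨ Nat.card ↥(A ⊓ E) = 1 := by
    obtain ⟨k, hk, hk'⟩ := (Nat.dvd_prime_pow Nat.prime_two).mp hdvd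
    interval_cases k
    · exact Or.inr (Or.inr hk')
    · exact Or.inr (Or.inl hk')
    · exact Or.inl hk'
    · exact absurd (Subgroup.eq_of_le_of_card_ge inf_le_left (by rw [hA8, hk']; rfl)) hne0
  by_cases h1 : D₁ = A
  · have h4 : Nat.card ↥(A ⊓ E) = 4 := by rw [h1, hA8] at hc1; omega
    exact ⟨⟨A ⊓ E, le_rfl, inf_le_left, h4⟩, fin D₁ h1 (by omega)⟩
  obtain ⟨u, huA, -, D₂, hD12, -, hD2A, hc2, hD2⟩ := exists_double hA hD1A h1
  have s2 := card_fixed_step E hE hA hD1A huA hD2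
  have s2' : 3 ≤ Nat.card ↥(E ⊓ Subgroup.centralizer (D₂ : Set X)) := by nlinarith
  by_cases h2 : D₂ = A
  · have h4 : Nat.card ↥(A ⊓ E) = 2 := by rw [h2, hA8] at hc2; omega
    exact ⟨⟨D₁, hD01, hD1A, by omega⟩, fin D₂ h2 (by omega)⟩
  obtain ⟨v, hvA, -, D₃, -, -, hD3A, hc3, hD3⟩ := exists_double hA hD2A h2
  have s3 := card_fixed_step E hE hA hD2A hvA hD3
  have s3' : 2 ≤ Nat.card ↥(E ⊓ Subgroup.centralizer (D₃ : Set X)) := by nlinarith
  have h8 := Subgroup.card_le_of_le hD3A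
  have h3 : D₃ = A := Subgroup.eq_of_le_of_card_ge hD3A (by omega)
  exact ⟨⟨D₂, hD01.trans hD12, hD2A, by omega⟩, fin D₃ h3 (by omega)⟩

def Adj (C D : Subgroup X) : Prop :=
  Cfsg.IsElementaryAbelian 2 C ∧ Nat.card ↥C = 8 ∧ Cfsg.IsElementaryAbelian 2 D ∧ Nat.card ↥D = 8 ∧ ⁅C, D⁆ = ⊥

theorem adj_of_commute {C D : Subgroup X} (hC : ∀ a ∈ C, a ^ 2 = 1) (hC8 : Nat.card C = 8)
    (hD : ∀ a ∈ D, a ^ 2 = 1) (hD8 : Nat.card D = 8) (hc : ∀ a ∈ C, ∀ b ∈ D, a * b = b * a) :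
    Adj C D ∧ Adj D C :=
  ⟨⟨isElementaryAbelian_two_iff.mpr hC, hC8, isElementaryAbelian_two_iff.mpr hD, hD8,
      Subgroup.commutator_eq_bot_iff_le_centralizer.mpr fun a ha =>
        Subgroup.mem_centralizer_iff.mpr fun b hb => (hc a ha b hb).symm⟩,
    ⟨isElementaryAbelian_two_iff.mpr hD, hD8, isElementaryAbelian_two_iff.mpr hC, hC8,
      Subgroup.commutator_eq_bot_iff_le_centralizer.mpr fun b hb =>
        Subgroup.mem_centralizer_iff.mpr fun a ha => hc a ha b hb⟩⟩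

theorem exists_connected_in (E : Subgroup X) [E.Normal] (hE : ∀ e ∈ E, e ^ 2 = 1)
    (hE32 : 32 ≤ Nat.card E) (n : ℕ) :
    ∀ A : Subgroup X, (∀ a ∈ A, a ^ 2 = 1) → Nat.card A = 8 → 8 - Nat.card ↥(A ⊓ E) ≤ n →
      ∃ B : Subgroup X, B ≤ E ∧ (∀ b ∈ B, b ^ 2 = 1) ∧ Nat.card B = 8 ∧
        Relation.ReflTransGen Adj A B ∧ Relation.ReflTransGen Adj B A := by
  induction n with
  | zero =>
    intro A hA hA8 hn
    refine ⟨A, ?_, hA, hA8, .refl, .refl⟩
    exact inf_eq_left.mp (Subgroup.eq_of_le_of_card_ge inf_le_left (by omega))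
  | succ n ih =>
    intro A hA hA8 hn
    by_cases hAE : A ≤ E
    · exact ⟨A, hAE, hA, hA8, .refl, .refl⟩
    obtain ⟨A', hA', hA'8, hc, hlt⟩ := exists_adjacent E hE hE32 A hA hA8 hAE
    obtain ⟨B, hBE, hB, hB8, h1, h2⟩ := ih A' hA' hA'8 (by omega)
    obtain ⟨e1, e2⟩ := adj_of_commute hA hA8 hA' hA'8 hc
    exact ⟨B, hBE, hB, hB8, (Relation.ReflTransGen.single e1).trans h1, h2.tail e2⟩

theorem main_b (E : Subgroup X) [E.Normal] (hE : ∀ e ∈ E, e ^ 2 = 1)
    (hE32 : 32 ≤ Nat.card E) (V : Subgroup X) (hV : ∀ v ∈ V, v ^ 2 = 1) (hV4 : Nat.card V = 4) :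
    ∃ A : Subgroup X, V ≤ A ∧ Cfsg.IsElementaryAbelian 2 A ∧ Nat.card ↥A = 8 := by
  obtain ⟨e, heV, hec, he2⟩ : ∃ e, e ∉ V ∧ (∀ v ∈ V, e * v = v * e) ∧ e ^ 2 = 1 := by
    suffices h : ¬ E ⊓ Subgroup.centralizer (V : Set X) ≤ V by
      obtain ⟨e, ⟨heE, hec⟩, heV⟩ := SetLike.not_le_iff_exists.mp h
      exact ⟨e, heV, fun v hv => (Subgroup.mem_centralizer_iff.mp hec v hv).symm, hE e heE⟩
    intro hle
    have hV0 : V ⊓ E ≠ V := fun h => by
      rw [card_fixed_base E hE (h ▸ inf_le_right)] at hle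
      have := Subgroup.card_le_of_le hle
      omega
    obtain ⟨t, htV, -, D₁, hD01, -, hD1V, hc1, hD1⟩ := exists_double hV inf_le_left hV0
    have s1 := card_fixed_step E hE hV inf_le_left htV hD1
    rw [card_fixed_base E hE inf_le_right] at s1
    have s1' : 6 ≤ Nat.card ↥(E ⊓ Subgroup.centralizer (D₁ : Set X)) := by nlinarith
    by_cases h1 : D₁ = V
    · rw [h1] at s1'
      have := Subgroup.card_le_of_le hle
      omega
    obtain ⟨u, huV, -, D₂, hD12, -, hD2V, hc2, hD2⟩ := exists_double hV hD1V h1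
    have s2 := card_fixed_step E hE hV hD1V huV hD2
    have s2' : 3 ≤ Nat.card ↥(E ⊓ Subgroup.centralizer (D₂ : Set X)) := by nlinarith
    have h4 := Subgroup.card_le_of_le hD2V
    have hpos : 0 < Nat.card ↥(V ⊓ E) := Nat.card_pos
    have h2 : D₂ = V := Subgroup.eq_of_le_of_card_ge hD2V (by omega)
    rw [h2] at s2'
    have hle' : E ⊓ Subgroup.centralizer (V : Set X) ≤ V ⊓ E := fun z hz => ⟨hle hz, hz.1⟩
    have := Subgroup.card_le_of_le hle'
    omega
  exact ⟨adjoinSubgroup V e he2 hec, le_adjoinSubgroup,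
    isElementaryAbelian_two_iff.mpr (sq_eq_one_of_mem_adjoinSubgroup hV),
    by rw [card_adjoinSubgroup heV, hV4]⟩

/-- Let X be a finite 2-group having a normal elementary abelian subgroup of order at least 32. Then (a) for any two elementary abelian subgroups A, B of X of order 8 there is a chain A = A₁, A₂, …, Aₙ = B of elementary abelian subgroups of order 8 in which consecutive members commute elementwise; and (b) every elementary abelian subgroup of X of order 4 is contained in an elementary abelian subgroup of order 8. -/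
theorem result {X : Type*} [Group X] [Finite X]
    (hX : IsPGroup 2 X) (E : Subgroup X) [E.Normal] (hE : Cfsg.IsElementaryAbelian 2 E) (hE32 : 32 ≤ Nat.card ↥E) :
    (∀ A B : Subgroup X, Cfsg.IsElementaryAbelian 2 A → Nat.card ↥A = 8 → Cfsg.IsElementaryAbelian 2 B → Nat.card ↥B = 8 →
        Relation.ReflTransGen
          (fun C D : Subgroup X => Cfsg.IsElementaryAbelian 2 C ∧ Nat.card ↥C = 8 ∧ Cfsg.IsElementaryAbelian 2 D ∧ Nat.card ↥D = 8 ∧ ⁅C, D⁆ = ⊥)
          A B) ∧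
      (∀ V : Subgroup X, Cfsg.IsElementaryAbelian 2 V → Nat.card ↥V = 4 →
        ∃ A : Subgroup X, V ≤ A ∧ Cfsg.IsElementaryAbelian 2 A ∧ Nat.card ↥A = 8) := by
  refine ⟨fun A B hA hA8 hB hB8 => ?_, fun V hV hV4 => main_b E hE.2 hE32 V hV.2 hV4⟩
  obtain ⟨A', hA'E, hA', hA'8, h1, -⟩ := exists_connected_in E hE.2 hE32 8 A hA.2 hA8 (by omega)
  obtain ⟨B', hB'E, hB', hB'8, -, h2⟩ := exists_connected_in E hE.2 hE32 8 B hB.2 hB8 (by omega)
  have h := (adj_of_commute hA' hA'8 hB' hB'8 fun a ha b hb =>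
    Cfsg.Agent.Lib.Classification.commute_of_sq_eq_one hE.2 a (hA'E ha) b (hB'E hb)).1
  exact (h1.tail h).trans h2

end Cfsg.Agent.S1785
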