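import Cfsg.Statements.S1786
import Cfsg.Agent.S1265
import Cfsg.Agent.Lib.Cores.PCore
import Cfsg.Agent.Lib.Cores.Frattini
import Cfsg.Agent.Lib.LocalEven.Subnormal
import Cfsg.Agent.Lib.TIRoot.SL2

set_option autoImplicit false
open Cfsg

namespace Cfsg.Agent.S1786

open Cfsg.Agent.Lib.TIRoot
open scoped commutatorElement

theorem root_of_hyp {G : Type*} [Group G] [Finite G] (V : Subgroup G)
    (hV : Cfsg.IsElementaryAbelian 2 V)
    (h1 : (Cfsg.generalizedFittingSubgroup ↥(Subgroup.normalizer (V : Set G))).map (Subgroup.normalizer (V : Set G)).subtype =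
      (Cfsg.pCore 2 ↥(Subgroup.normalizer (V : Set G))).map (Subgroup.normalizer (V : Set G)).subtype)
    (h2 : ∀ A : Subgroup G, V ≤ A → A ≤ Subgroup.normalizer (V : Set G) → IsMulCommutative ↥A →
      (∀ m ∈ Subgroup.normalizer (V : Set G), ∀ a ∈ A, m * a * m⁻¹ ∈ A) → A = V)
    (hti : ∀ x : G, V.map (MulAut.conj x).toMonoidHom = V ∨ V.map (MulAut.conj x).toMonoidHom ⊓ V = ⊥) :
    Root V ((Cfsg.pCore 2 ↥(Subgroup.normalizer (V : Set G))).map (Subgroup.normalizer (V : Set G)).subtype) := by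
  set M := Subgroup.normalizer (V : Set G) with hM
  have h1' : Cfsg.generalizedFittingSubgroup ↥M = Cfsg.pCore 2 ↥M :=
    Subgroup.map_injective M.subtype_injective h1
  have hmax : ∀ N : Subgroup G, N ≤ M → (∀ m ∈ M, ∀ y ∈ N, m * y * m⁻¹ ∈ N) → IsPGroup 2 N →
      N ≤ (Cfsg.pCore 2 ↥M).map M.subtype := by
    intro N hN hn hp y hy
    have hnorm : (N.subgroupOf M).Normal := ⟨fun a ha b => by
      rw [Subgroup.mem_subgroupOf] at ha ⊢
      exact hn b b.2 a ha⟩
    exact ⟨⟨y, hN hy⟩, Cfsg.Agent.Lib.Cores.le_pCore hnorm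
      (hp.comap_of_injective _ M.subtype_injective) hy, rfl⟩
  have hsq : ∀ v ∈ V, v * v = 1 := fun v hv => by rw [← pow_two]; exact hV.2 v hv
  refine ⟨hsq, Subgroup.map_subtype_le _, ?_, ?_, ?_, hmax, ?_, ?_, hti⟩
  · refine hmax V Subgroup.le_normalizer (fun m hm v hv => (Subgroup.mem_normalizer_iff.mp hm v).mp hv) ?_
    intro v
    exact ⟨1, Subtype.ext (by rw [SubgroupClass.coe_pow, pow_one, pow_two, hsq _ v.2]; rfl)⟩
  · rintro m hm _ ⟨q, hq, rfl⟩
    exact ⟨⟨m, hm⟩ * q * ⟨m, hm⟩⁻¹, (Cfsg.pCore_normal 2 ↥M).conj_mem q hq _, rfl⟩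
  · exact (Cfsg.Agent.Lib.Cores.pCore_isPGroup 2 ↥M).map _
  · intro c hc hcy
    refine ⟨⟨c, hc⟩, ?_, rfl⟩
    rw [← h1']
    refine Cfsg.Agent.S1265.result (Subgroup.mem_centralizer_iff.mpr fun y hy => Subtype.ext ?_)
    rw [h1'] at hy
    exact (hcy y ⟨y, hy, rfl⟩).symm
  · intro A h3 h4 h5 h6
    exact h2 A h3 h4 ⟨⟨fun a b => Subtype.ext (h5 a a.2 b b.2)⟩⟩ h6

theorem comm_inst {G : Type*} [Group G] {V Q : Subgroup G} (R : Root V Q) : IsMulCommutative ↥V :=
  ⟨⟨fun a b => Subtype.ext (R.comm a.2 b.2)⟩⟩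

theorem le_commutator {G : Type*} [Group G] [Finite G] {V Q U : Subgroup G} (R : Root V Q)
    (hU : Partner V Q U) (hPQ : Ph V Q = Q) : V ≤ (commutator ↥Q).map Q.subtype := by
  obtain ⟨X, hX, hnc⟩ := R.exists_noncommuting hU
  obtain ⟨w, hw, hw1⟩ := R.mem_conjV hU
  intro v hv
  obtain ⟨x, hx, hxw⟩ := (R.decompose hU hX hnc hw hw1).1 v hv
  have hxQ : x ∈ Q := hX.2.2 hx
  have hwQ : w ∈ Q := hU.2.2 hw
  refine ⟨⁅(⟨x, hxQ⟩ : Q), ⟨w, hwQ⟩⁆, ?_, ?_⟩
  · rw [commutator_def]
    exact Subgroup.commutator_mem_commutator (Subgroup.mem_top _) (Subgroup.mem_top _)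
  · show x * w * x⁻¹ * w⁻¹ = v
    rw [hxw]; group

/-- Let G be a finite group, V an elementary abelian 2-subgroup of G and M the normalizer of V; write Q for the largest normal 2-subgroup of M. Suppose (1) the generalized Fitting subgroup of M equals Q; (2) V is a maximal abelian normal subgroup of M; (3) every conjugate of V equals V or meets V trivially, and for some g ∈ G the conjugate V' = g V g⁻¹ is different from V and contained in Q. Let P be the centralizer of V in Q, W the subgroup generated by V and V', and H the subgroup generated by P and g P g⁻¹. Then: (a) V is contained in g Q g⁻¹; (b) every non-identity element of W lies in exactly one conjugate of V contained in W, H normalizes W, and H modulo the centralizer of W in H is isomorphic to the special linear group of dimension 2 over the field with |V| elements; (c) P = Q, and V equals the Frattini subgroup, the centre and the commutator subgroup of Q. -/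
theorem result {G : Type*} [Group G] [Finite G] (V : Subgroup G)
    (hV : Cfsg.IsElementaryAbelian 2 V)
    (h1 : (Cfsg.generalizedFittingSubgroup ↥(Subgroup.normalizer (V : Set G))).map (Subgroup.normalizer (V : Set G)).subtype =
      (Cfsg.pCore 2 ↥(Subgroup.normalizer (V : Set G))).map (Subgroup.normalizer (V : Set G)).subtype)
    (h2 : ∀ A : Subgroup G, V ≤ A → A ≤ Subgroup.normalizer (V : Set G) → IsMulCommutative ↥A →
      (∀ m ∈ Subgroup.normalizer (V : Set G), ∀ a ∈ A, m * a * m⁻¹ ∈ A) → A = V)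
    (hti : ∀ x : G, V.map (MulAut.conj x).toMonoidHom = V ∨ V.map (MulAut.conj x).toMonoidHom ⊓ V = ⊥)
    (g : G) (hg : V.map (MulAut.conj g).toMonoidHom ≠ V)
    (hgQ : V.map (MulAut.conj g).toMonoidHom ≤ (Cfsg.pCore 2 ↥(Subgroup.normalizer (V : Set G))).map (Subgroup.normalizer (V : Set G)).subtype) :
    let Q : Subgroup G := (Cfsg.pCore 2 ↥(Subgroup.normalizer (V : Set G))).map (Subgroup.normalizer (V : Set G)).subtype
    let P : Subgroup G := Q ⊓ Subgroup.centralizer (V : Set G)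
    let W : Subgroup G := V ⊔ V.map (MulAut.conj g).toMonoidHom
    let H : Subgroup G := P ⊔ P.map (MulAut.conj g).toMonoidHom
    V ≤ Q.map (MulAut.conj g).toMonoidHom ∧
      (∀ w ∈ W, w ≠ 1 → ∃! U : Subgroup G, (∃ x : G, U = V.map (MulAut.conj x).toMonoidHom) ∧ U ≤ W ∧ w ∈ U) ∧
      H ≤ Subgroup.normalizer (W : Set G) ∧
      (∀ hN : ((Subgroup.centralizer (W : Set G)).subgroupOf H).Normal, ∃ (F : Type) (_ : Field F) (_ : Fintype F), Fintype.card F = Nat.card ↥V ∧
        Nonempty (↥H ⧸ (Subgroup.centralizer (W : Set G)).subgroupOf H ≃* Matrix.SpecialLinearGroup (Fin 2) F)) ∧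
      P = Q ∧ (frattini ↥Q).map Q.subtype = V ∧ (Subgroup.center ↥Q).map Q.subtype = V ∧ (commutator ↥Q).map Q.subtype = V := by
  intro Q P W H
  have R : Root V Q := root_of_hyp V hV h1 h2 hti
  have hU : Partner V Q (cj g V) := ⟨⟨g, rfl⟩, hg, hgQ⟩
  have hle : V ≤ cj g Q := R.le_cj_radical hU
  have hU' := R.partner_symm hU hle
  have R' := R.conjugate g
  have hPQ : Ph V Q = Q := R.Ph_eq hU
  have hP' : Ph (cj g V) (cj g Q) = cj g Q :=
    R'.Ph_eq (g := g⁻¹) (by rw [cj_cj, inv_mul_cancel, cj_one]; exact hU')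
  have hrad : ∀ h : G, cj h (cj g V) = V → cj h (cj g Q) = Q := by
    intro h hh
    rw [cj_cj] at hh ⊢
    apply Subgroup.eq_of_le_of_card_ge
    · rintro _ ⟨q, hq, rfl⟩
      exact R.qnorm _ (cj_eq_self_iff.mp hh) q hq
    · exact (card_cj _ _).ge
  haveI := comm_inst R
  haveI := comm_inst R'
  have pr : Pair V Q (cj g V) (cj g Q) := ⟨R, R', hU, hU', hPQ, hP', hrad⟩
  have hH : H = Q ⊔ cj g Q := by
    show Ph V Q ⊔ cj g (Ph V Q) = _
    rw [hPQ]
  have hW : W = cj g V ⊔ V := sup_comm _ _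
  refine ⟨hle, ?_, ?_, pr.recognition H W hH hW, hPQ, ?_, ?_, ?_⟩
  · intro w hw hw1
    obtain ⟨U, hU1, hU2⟩ : ∃ U : Subgroup G, ((∃ x : G, U = cj x V) ∧ U ≤ W) ∧ w ∈ U := by
      rw [hW] at hw
      rcases R.line_cover hU hw with h | ⟨y, hy, h⟩
      · exact ⟨V, ⟨⟨1, (cj_one V).symm⟩, le_sup_left⟩, h⟩
      · exact ⟨cj y (cj g V), ⟨⟨y * g, cj_cj _ _ _⟩, hW ▸ R.cj_le_line hU hy⟩, h⟩
    exact ⟨U, ⟨hU1.1, hU1.2, hU2⟩, fun C hC => R.ti_eq hC.1 hU1.1 hC.2.2 hU2 hw1⟩
  · rw [hH, hW]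
    refine sup_le pr.le_normalizer_line ?_
    rw [sup_comm]
    exact pr.symm'.le_normalizer_line
  · haveI := Fact.mk Nat.prime_two
    haveI := R.q2.isNilpotent
    have hmem : ∀ {y : G}, y ∈ Q → y ∈ Ph V Q := fun h => hPQ.ge h
    refine le_antisymm ?_ ?_
    · have h3 : frattini ↥Q ≤ V.subgroupOf Q := by
        refine Cfsg.Agent.Lib.LocalEven.frattini_le_of_quotient_elementary (p := 2) ?_ fun x => ?_
        · rw [commutator_def, Subgroup.commutator_le]
          intro a _ b _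
          rw [Subgroup.mem_subgroupOf]
          simpa [commutatorElement_def] using R.comm_mem (hmem a.2) (hmem b.2)
        · rw [Subgroup.mem_subgroupOf, SubgroupClass.coe_pow, pow_two]
          exact R.sq_mem (hmem x.2)
      rintro _ ⟨x, hx, rfl⟩
      exact h3 hx
    · refine le_trans ?_ (Subgroup.map_mono Cfsg.Agent.Lib.Cores.commutator_le_frattini)
      exact le_commutator R hU hPQ
  · refine le_antisymm ?_ ?_
    · rintro _ ⟨x, hx, rfl⟩
      refine R.mem_of_central (hPQ.ge x.2) fun z hz => ?_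
      exact congrArg Subtype.val (Subgroup.mem_center_iff.mp hx ⟨z, hPQ.le hz⟩).symm
    · intro v hv
      refine ⟨⟨v, R.vle hv⟩, Subgroup.mem_center_iff.mpr fun z => Subtype.ext ?_, rfl⟩
      exact ((mem_Ph.mp (hPQ.ge z.2)).2 v hv).symm
  · refine le_antisymm ?_ (le_commutator R hU hPQ)
    rw [commutator_def, Subgroup.map_commutator, Subgroup.commutator_le]
    rintro _ ⟨a, -, rfl⟩ _ ⟨b, -, rfl⟩
    exact R.comm_mem (hPQ.ge a.2) (hPQ.ge b.2)

end Cfsg.Agent.S1786
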