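import Cfsg.Statements.S1851
import Cfsg.Agent.Lib.Classification.CharTwoType
import Cfsg.Agent.Lib.Classification.Symplectic
import Cfsg.Agent.Lib.Classification.PerfectSubnormal

set_option autoImplicit false
open Cfsg

namespace Cfsg.Agent.S1851

open Cfsg.Agent.Lib.Classification

theorem charTwo_of_sylow_le {G : Type*} [Group G] [Finite G] (hE : Cfsg.IsOfEvenCharacteristic G)
    (T : Sylow 2 G) {H : Subgroup G} (hTH : (T : Subgroup G) ≤ H) (hO : Cfsg.pCore 2 ↥H ≠ ⊥) :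
    Cfsg.IsOfCharacteristicTwo ↥H := by
  haveI : Fact (Nat.Prime 2) := ⟨Nat.prime_two⟩
  set Q := (Cfsg.pCore 2 ↥H).map H.subtype with hQ
  have hQT : Q ≤ (T : Subgroup G) := by
    rintro _ ⟨x, hx, rfl⟩
    exact Lib.Cores.pCore_le_sylow (T.subtype hTH) hx
  have hne : Q.subgroupOf (T : Subgroup G) ≠ ⊥ := by
    intro h
    apply hO
    have h2 := congrArg (Subgroup.map (T : Subgroup G).subtype) h
    rw [Subgroup.subgroupOf_map_subtype, inf_eq_left.mpr hQT, Subgroup.map_bot] at h2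
    exact (Subgroup.map_eq_bot_iff_of_injective _ H.subtype_injective).mp h2
  haveI : (Q.subgroupOf (T : Subgroup G)).Normal := by
    refine (Subgroup.normal_subgroupOf_iff_le_normalizer hQT).mpr fun t ht => ?_
    exact Subgroup.le_normalizer_map H.subtype
      ⟨⟨t, hTH ht⟩, by rw [Subgroup.normalizer_eq_top]; exact Subgroup.mem_top _, rfl⟩
  obtain ⟨c, hcQ, hc2, hcc⟩ := exists_central_involution_of_normal T.isPGroup' _ hne
  have hc : ∀ s ∈ (T : Subgroup G), s * (c : G) = c * s := fun s hs =>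
    congrArg Subtype.val (Subgroup.mem_center_iff.mp hcc ⟨s, hs⟩)
  refine isOfCharacteristicTwo_over_sylow T hTH c hc
    (isOfCharacteristicTwo_centralizer_of_evenChar hE T ?_ hc) hcQ
  rw [Subgroup.orderOf_coe]
  exact hc2

theorem genFitting_mulEquiv_eq_pCore {A B : Type*} [Group A] [Group B] (e : A ≃* B)
    (h : Cfsg.generalizedFittingSubgroup A = Cfsg.pCore 2 A) :
    Cfsg.generalizedFittingSubgroup B = Cfsg.pCore 2 B := by
  rw [← Lib.Components.map_genFitting_mulEquiv e, h, Lib.Cores.map_pCore_equiv]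

/-- A subnormal subgroup of a group of characteristic 2 has `F* = O₂`. -/
theorem genFitting_of_subnormal {H : Type*} [Group H] [Finite H]
    (hH : Cfsg.IsOfCharacteristicTwo H) {B : Subgroup H} (hB : B.IsSubnormal) :
    Cfsg.generalizedFittingSubgroup ↥B = Cfsg.pCore 2 ↥B := by
  haveI : Fact (Nat.Prime 2) := ⟨Nat.prime_two⟩
  refine le_antisymm ?_ ((Lib.Cores.pCore_le_fittingSubgroup 2).trans Lib.Components.fitting_le_genFitting)
  refine Lib.Cores.le_pCore inferInstance ?_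
  have h1 : IsPGroup 2 ↥((Cfsg.generalizedFittingSubgroup ↥B).map B.subtype) := by
    rw [Lib.Components.map_genFitting_subtype hB, genFitting_eq_pCore_of_charTwo hH]
    exact (Lib.Cores.pCore_isPGroup 2 H).to_le inf_le_left
  exact h1.of_equiv ((Cfsg.generalizedFittingSubgroup ↥B).equivMapOfInjective _ B.subtype_injective).symm

/-- The `V(K) ≠ 1` transfer. -/
theorem moduleV_ne_bot {G : Type*} [Group G] [Finite G] (hE : Cfsg.IsOfEvenCharacteristic G)
    (T : Sylow 2 G) {L K : Subgroup G} (hL : L ∈ Cfsg.calL (T : Subgroup G))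
    (hK : K ∈ Cfsg.calL (T : Subgroup G)) (hLK : L ≤ K) (hV : Cfsg.moduleV L ≠ ⊥) :
    Cfsg.moduleV K ≠ ⊥ := by
  haveI : Fact (Nat.Prime 2) := ⟨Nat.prime_two⟩
  obtain ⟨⟨hLne, hLperf, hLsn, -⟩, -, hL2⟩ := hL
  obtain ⟨⟨hKne, hKperf, hKsn, -⟩, -, hK2⟩ := hK
  set H1 := L ⊔ (T : Subgroup G) with hH1
  set H2 := K ⊔ (T : Subgroup G) with hH2
  have h12 : H1 ≤ H2 := sup_le_sup_right hLK _
  have hc1 := charTwo_of_sylow_le hE T (le_sup_right : (T : Subgroup G) ≤ H1) hL2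
  have hc2 := charTwo_of_sylow_le hE T (le_sup_right : (T : Subgroup G) ≤ H2) hK2
  set R := (Cfsg.pCore 2 ↥H1).map H1.subtype with hR
  set R' := (Cfsg.pCore 2 ↥H2).map H2.subtype with hR'
  have hR'R : R' ≤ R := by
    intro x hx
    have hxH1 : x ∈ H1 := by
      obtain ⟨x', hx', rfl⟩ := hx
      exact le_sup_right (a := L) (Lib.Cores.pCore_le_sylow (T.subtype (le_sup_right : _ ≤ H2)) hx')
    refine ⟨⟨x, hxH1⟩, Lib.Cores.le_pCore (N := R'.subgroupOf H1) ?_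
      (pCore_two_isPGroup_map H2).comap_subtype hx, rfl⟩
    refine ⟨fun n hn g => ?_⟩
    exact mem_map_subtype_conj (h12 g.2) hn
  have hRH1 : R ≤ H1 := Subgroup.map_subtype_le _
  have hLp : ⁅L, L⁆ = L := by
    have := congrArg (Subgroup.map H1.subtype) hLperf
    rwa [Subgroup.map_commutator, Subgroup.subgroupOf_map_subtype, inf_eq_left.mpr le_sup_left] at this
  have hKp : ⁅K, K⁆ = K := by
    have := congrArg (Subgroup.map H2.subtype) hKperf
    rwa [Subgroup.map_commutator, Subgroup.subgroupOf_map_subtype, inf_eq_left.mpr le_sup_left] at this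
  have hnR : ∀ {H : Subgroup G} {A : Subgroup G}, A ≤ H →
      A ≤ Subgroup.normalizer (((Cfsg.pCore 2 ↥H).map H.subtype : Subgroup G) : Set G) := by
    intro H A hA a ha
    exact Subgroup.le_normalizer_map H.subtype
      ⟨⟨a, hA ha⟩, by rw [Subgroup.normalizer_eq_top]; exact Subgroup.mem_top _, rfl⟩
  have hsolv : ∀ H : Subgroup G, Group.IsSolvable ↥((Cfsg.pCore 2 ↥H).map H.subtype) := fun H => by
    haveI := (pCore_two_isPGroup_map H).isNilpotent
    infer_instance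
  have hRL : R ≤ Subgroup.normalizer (L : Set G) :=
    le_normalizer_of_perfect_subnormal hLp (hsolv H1) (hnR le_sup_left)
      (hLsn.comap (Subgroup.inclusion (sup_le le_sup_left hRH1)))
  have hR'K : R' ≤ Subgroup.normalizer (K : Set G) :=
    le_normalizer_of_perfect_subnormal hKp (hsolv H2) (hnR le_sup_left)
      (hKsn.comap (Subgroup.inclusion (sup_le le_sup_left (Subgroup.map_subtype_le _))))
  -- elements of `O₂(L)` and the action
  set U := Cfsg.pCoreTwoOf L with hU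
  have hUR : ∀ l ∈ L, ∀ r ∈ R, l * r * l⁻¹ * r⁻¹ ∈ U := by
    intro l hl r hr
    have h1 : l * r * l⁻¹ * r⁻¹ ∈ L := by
      have := L.mul_mem hl ((Subgroup.mem_set_normalizer_iff.mp (hRL hr) _).mp (L.inv_mem hl))
      simpa [mul_assoc] using this
    have h2 : l * r * l⁻¹ * r⁻¹ ∈ R :=
      R.mul_mem ((Subgroup.mem_set_normalizer_iff.mp (hnR (A := L) le_sup_left hl) r).mp hr) (R.inv_mem hr)
    refine ⟨⟨_, h1⟩, Lib.Cores.le_pCore (N := R.subgroupOf L) ?_
      (pCore_two_isPGroup_map H1).comap_subtype h2, rfl⟩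
    refine ⟨fun n hn g => ?_⟩
    exact mem_map_subtype_conj (le_sup_left (b := (T : Subgroup G)) g.2) hn
  -- `W = {w ∈ Z(O₂(L)) | w² = 1}`
  set ZU := U ⊓ Subgroup.centralizer (U : Set G) with hZU
  have hZUc : ∀ a ∈ ZU, ∀ b ∈ ZU, a * b = b * a := fun a ha b hb => hb.2 a ha.1
  -- `O₂(L)` is normalised by `R` and by `L`
  have hUn : ∀ g ∈ Subgroup.normalizer (L : Set G), ∀ u ∈ U, g * u * g⁻¹ ∈ U := by
    intro g hg u hu
    obtain ⟨u', hu', rfl⟩ := hu
    have hmap : L.map (MulAut.conj g).toMonoidHom = L := by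
      exact Subgroup.mem_normalizer_iff_map_conj_eq.mp hg
    let e : ↥L ≃* ↥L := (L.equivMapOfInjective (MulAut.conj g).toMonoidHom (MulAut.conj g).injective).trans
      (MulEquiv.subgroupCongr hmap)
    refine ⟨e u', ?_, rfl⟩
    rw [← Lib.Cores.map_pCore_equiv e]
    exact ⟨u', hu', rfl⟩
  have hZn : ∀ g ∈ Subgroup.normalizer (L : Set G), ∀ u ∈ ZU, g * u * g⁻¹ ∈ ZU := by
    intro g hg u hu
    refine ⟨hUn g hg u hu.1, fun v hv => ?_⟩
    have h := hu.2 _ (hUn g⁻¹ ((Subgroup.normalizer (L : Set G)).inv_mem hg) v hv)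
    have h' := congrArg (fun y => g * y * g⁻¹) h
    simpa [mul_assoc] using h'
  obtain ⟨a, haZ, ha2, l, hl, hal⟩ : ∃ a ∈ ZU, a ^ 2 = 1 ∧ ∃ l ∈ L, a * l ≠ l * a := by
    by_contra hcon
    apply hV
    rw [Cfsg.moduleV, Subgroup.commutator_eq_bot_iff_le_centralizer, Cfsg.omegaOne, Subgroup.closure_le]
    rintro x ⟨hx, hx2⟩ l hl
    by_contra hne
    exact hcon ⟨x, hx, hx2, l, hl, fun e => hne e.symm⟩
  obtain ⟨x, ⟨hxL, hxo⟩, hax⟩ : ∃ x ∈ {y : G | y ∈ L ∧ Odd (orderOf y)}, a * x ≠ x * a := by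
    by_contra hcon
    apply hal
    have hle : L ≤ Subgroup.centralizer {a} := by
      conv_lhs => rw [← oddGenerated_eq_self_of_perfect hLp]
      refine (Subgroup.closure_le _).mpr fun y hy => ?_
      rw [SetLike.mem_coe, Subgroup.mem_centralizer_singleton_iff]
      by_contra hne
      exact hcon ⟨y, hy, fun e => hne e.symm⟩
    exact (Subgroup.mem_centralizer_singleton_iff.mp (hle hl)).symm
  -- the subgroup `M = [W, x]`
  have hcommW : ∀ w ∈ ZU, ∀ r ∈ R, x * (r * w * r⁻¹) * x⁻¹ = r * (x * w * x⁻¹) * r⁻¹ := by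
    intro w hw r hr
    have hk := hUR x⁻¹ (L.inv_mem hxL) r hr
    -- `x⁻¹ r = k r x⁻¹` with `k ∈ O₂(L)`, centralizing `w`
    set k := x⁻¹ * r * x⁻¹⁻¹ * r⁻¹ with hkdef
    have hkw : k * (r * w * r⁻¹) = r * w * r⁻¹ * k := (hZn r (hRL hr) w hw).2 k hk
    have e : r * (x * w * x⁻¹) * r⁻¹ = x * (k * (r * w * r⁻¹) * k⁻¹) * x⁻¹ := by
      rw [hkdef]; group
    rw [e, hkw]; group
  let M : Subgroup G :=
  { carrier := {m | ∃ w ∈ ZU, w ^ 2 = 1 ∧ m = x * w * x⁻¹ * w⁻¹}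
    one_mem' := ⟨1, ZU.one_mem, by simp, by simp⟩
    mul_mem' := by
      rintro _ _ ⟨w, hw, hw2, rfl⟩ ⟨v, hv, hv2, rfl⟩
      refine ⟨w * v, ZU.mul_mem hw hv, ?_, ?_⟩
      · rw [(show Commute w v from hZUc w hw v hv).mul_pow, hw2, hv2, one_mul]
      · have hxv : x * v * x⁻¹ ∈ ZU := hZn x (Subgroup.le_normalizer hxL) v hv
        calc x * w * x⁻¹ * w⁻¹ * (x * v * x⁻¹ * v⁻¹)
            = x * w * x⁻¹ * (w⁻¹ * (x * v * x⁻¹)) * v⁻¹ := by group
          _ = x * w * x⁻¹ * ((x * v * x⁻¹) * w⁻¹) * v⁻¹ := by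
            rw [hZUc _ (ZU.inv_mem hw) _ hxv]
          _ = x * (w * v) * x⁻¹ * (w⁻¹ * v⁻¹) := by group
          _ = x * (w * v) * x⁻¹ * (w * v)⁻¹ := by
            rw [hZUc _ (ZU.inv_mem hw) _ (ZU.inv_mem hv)]; group
    inv_mem' := by
      rintro _ ⟨w, hw, hw2, rfl⟩
      refine ⟨w⁻¹, ZU.inv_mem hw, by rw [inv_pow, hw2, inv_one], ?_⟩
      have hxw : x * w * x⁻¹ ∈ ZU := hZn x (Subgroup.le_normalizer hxL) w hw
      calc (x * w * x⁻¹ * w⁻¹)⁻¹ = w * (x * w * x⁻¹)⁻¹ := by group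
        _ = (x * w * x⁻¹)⁻¹ * w := hZUc _ hw _ (ZU.inv_mem hxw)
        _ = x * w⁻¹ * x⁻¹ * w⁻¹⁻¹ := by group }
  have hMZ : M ≤ ZU := by
    rintro _ ⟨w, hw, -, rfl⟩
    exact ZU.mul_mem (hZn x (Subgroup.le_normalizer hxL) w hw) (ZU.inv_mem hw)
  have hM2 : ∀ m ∈ M, m ^ 2 = 1 := by
    rintro _ ⟨w, hw, hw2, rfl⟩
    have hc : Commute (x * w * x⁻¹) w⁻¹ :=
      hZUc _ (hZn x (Subgroup.le_normalizer hxL) w hw) _ (ZU.inv_mem hw)
    rw [hc.mul_pow, conj_pow, inv_pow, hw2]; simp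
  have hMn : ∀ r ∈ R, ∀ m ∈ M, r * m * r⁻¹ ∈ M := by
    rintro r hr _ ⟨w, hw, hw2, rfl⟩
    refine ⟨r * w * r⁻¹, hZn r (hRL hr) w hw, by rw [conj_pow, hw2]; simp, ?_⟩
    rw [hcommW w hw r hr]
    group
  have hMdvd : 2 ∣ Nat.card M := by
    have hm : x * a * x⁻¹ * a⁻¹ ∈ M := ⟨a, haZ, ha2, rfl⟩
    have hne : x * a * x⁻¹ * a⁻¹ ≠ 1 := by
      intro e
      rw [mul_inv_eq_one, mul_inv_eq_iff_eq_mul] at e
      exact hax e.symm
    have h2 : orderOf (x * a * x⁻¹ * a⁻¹) = 2 := orderOf_eq_prime (hM2 _ hm) hne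
    have := orderOf_dvd_natCard (⟨_, hm⟩ : M)
    rwa [← Subgroup.orderOf_coe, h2] at this
  letI : MulAction ↥R ↥M :=
    { smul := fun r m => ⟨r * m * (r : G)⁻¹, hMn r r.2 m m.2⟩
      one_smul := fun m => Subtype.ext (by show (1 : G) * m * 1⁻¹ = m; simp)
      mul_smul := fun r s m => Subtype.ext (by
        show (r : G) * s * m * ((r : G) * s)⁻¹ = r * (s * m * (s : G)⁻¹) * (r : G)⁻¹; group) }
  have hone : (1 : M) ∈ MulAction.fixedPoints ↥R ↥M := fun r => Subtype.ext (by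
    show (r : G) * 1 * (r : G)⁻¹ = 1; simp)
  obtain ⟨m, hmfix, hm1⟩ := (pCore_two_isPGroup_map H1).exists_fixed_point_of_prime_dvd_card_of_fixed_point
    M hMdvd hone
  have hmR : ∀ r ∈ R, r * (m : G) = m * r := fun r hr =>
    mul_inv_eq_iff_eq_mul.mp (congrArg Subtype.val (hmfix ⟨r, hr⟩))
  have hmx : (m : G) * x ≠ x * m := by
    intro e
    obtain ⟨w, hw, hw2, hmw⟩ := m.2
    have hcm : Commute (m : G) x := e
    have h : ∀ n : ℕ, x ^ n * w * (x ^ n)⁻¹ = (m : G) ^ n * w := by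
      intro n
      induction n with
      | zero => simp
      | succ n ih =>
        calc x ^ (n + 1) * w * (x ^ (n + 1))⁻¹ = x * (x ^ n * w * (x ^ n)⁻¹) * x⁻¹ := by
              rw [pow_succ']; group
          _ = x * ((m : G) ^ n * w) * x⁻¹ := by rw [ih]
          _ = (m : G) ^ n * (x * w * x⁻¹) := by
            rw [← mul_assoc, ← (hcm.pow_left n).eq]; group
          _ = (m : G) ^ n * ((m : G) * w) := by rw [hmw]; group
          _ = (m : G) ^ (n + 1) * w := by rw [pow_succ]; group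
    have h1 := h (orderOf x)
    rw [pow_orderOf_eq_one, one_mul, inv_one, mul_one] at h1
    have h2 : (m : G) ^ orderOf x = 1 := by simpa using h1.symm
    have h3 : orderOf (m : G) = 1 := Nat.eq_one_of_dvd_coprimes (Nat.coprime_two_left.mpr hxo)
      (orderOf_dvd_of_pow_eq_one (hM2 _ m.2)) (orderOf_dvd_of_pow_eq_one h2)
    exact hm1 (Subtype.ext (orderOf_eq_one_iff.mp h3).symm)
  -- `m ∈ Z(R)`, hence in `Z(R')`
  have hmH1 : (m : G) ∈ H1 := le_sup_left (b := (T : Subgroup G)) (by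
    obtain ⟨u, hu, he⟩ := (hMZ m.2).1
    exact he ▸ u.2)
  have hmR' : (m : G) ∈ R' := by
    refine ⟨⟨m, h12 hmH1⟩, hc2 fun q hq => Subtype.ext ?_, rfl⟩
    exact hmR _ (hR'R ⟨q, hq, rfl⟩)
  -- `[R', K] ≤ O₂(K)`, and `m ∈ Ω₁ Z(R')` is not centralized by `K`
  set S := {y : G | y ∈ R' ∧ y ^ 2 = 1 ∧ ∀ r ∈ R', r * y = y * r} with hS
  have hmS : (m : G) ∈ S := ⟨hmR', hM2 _ m.2, fun r hr => hmR r (hR'R hr)⟩
  intro hVK
  -- conjugation commutators of `S` with `K` lie in `Ω₁ Z(O₂ K)`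
  have hO2K : Cfsg.pCoreTwoOf K ≤ R' := by
    rintro _ ⟨u, hu, rfl⟩
    let u' : ↥(K.subgroupOf H2) := (Subgroup.subgroupOfEquivOfLe (le_sup_left : K ≤ H2)).symm u
    refine ⟨(u' : ↥H2), ?_, rfl⟩
    refine Lib.Cores.map_subtype_pCore_le_of_isSubnormal hKsn ⟨u', ?_, rfl⟩
    rw [← Lib.Cores.map_pCore_equiv (Subgroup.subgroupOfEquivOfLe (le_sup_left : K ≤ H2)).symm]
    exact ⟨u, hu, rfl⟩
  have hkey : ∀ k ∈ K, ∀ y ∈ S, y * k * y⁻¹ * k⁻¹ ∈
      Cfsg.omegaOne 2 (Cfsg.pCoreTwoOf K ⊓ Subgroup.centralizer (Cfsg.pCoreTwoOf K : Set G)) := by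
    rintro k hk y ⟨hy, hy2, hyc⟩
    have hky : k * y * k⁻¹ ∈ R' := mem_map_subtype_conj (le_sup_left (b := (T : Subgroup G)) hk) hy
    have hkc : ∀ r ∈ R', r * (k * y * k⁻¹) = k * y * k⁻¹ * r := by
      intro r hr
      have hr' : k⁻¹ * r * k⁻¹⁻¹ ∈ R' :=
        mem_map_subtype_conj (H2.inv_mem (le_sup_left (b := (T : Subgroup G)) hk)) hr
      have h' := congrArg (fun v => k * v * k⁻¹) (hyc _ hr')
      simpa [mul_assoc] using h'
    have h1 : y * k * y⁻¹ * k⁻¹ ∈ K :=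
      K.mul_mem ((Subgroup.mem_set_normalizer_iff.mp (hR'K hy) k).mp hk) (K.inv_mem hk)
    have heq : y * k * y⁻¹ * k⁻¹ = y * (k * y * k⁻¹)⁻¹ := by group
    have h2 : y * k * y⁻¹ * k⁻¹ ∈ R' := heq ▸ R'.mul_mem hy (R'.inv_mem hky)
    have hcy : ∀ r ∈ R', r * (y * k * y⁻¹ * k⁻¹) = y * k * y⁻¹ * k⁻¹ * r := by
      intro r hr
      rw [heq]
      exact (Commute.mul_right (hyc r hr) (Commute.inv_right (hkc r hr))).eq
    refine Subgroup.subset_closure ⟨⟨⟨⟨_, h1⟩, Lib.Cores.le_pCore (N := R'.subgroupOf K) ?_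
      (pCore_two_isPGroup_map H2).comap_subtype h2, rfl⟩, fun v hv => hcy v (hO2K hv)⟩, ?_⟩
    · exact ⟨fun n hn g => mem_map_subtype_conj (le_sup_left (b := (T : Subgroup G)) g.2) hn⟩
    · rw [heq, (Commute.inv_right (show Commute y (k * y * k⁻¹) from hkc y hy)).mul_pow,
        inv_pow, conj_pow, hy2]
      simp
  -- so `K` centralizes all these commutators, hence centralizes `m`
  rw [Cfsg.moduleV, Subgroup.commutator_eq_bot_iff_le_centralizer] at hVK
  have hcomm : ∀ k ∈ K, ∀ y ∈ S, ∀ k' ∈ K, k' * (y * k * y⁻¹ * k⁻¹) = y * k * y⁻¹ * k⁻¹ * k' :=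
    fun k hk y hy k' hk' => hVK (hkey k hk y hy) k' hk'
  let f : ↥K →* ↥K :=
    { toFun := fun k => ⟨(m : G) * k * (m : G)⁻¹, (Subgroup.mem_set_normalizer_iff.mp (hR'K hmR') _).mp k.2⟩
      map_one' := Subtype.ext (by simp)
      map_mul' := fun k k' => Subtype.ext (by simp [mul_assoc]) }
  haveI : Group.IsPerfect ↥K := Subgroup.isPerfect_iff.mpr hKp
  have hf := Lib.Components.apply_eq_self_of_perfect_of_central f (fun k => ?_) ⟨x, hLK hxL⟩
  · exact hmx (by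
      have := congrArg Subtype.val hf
      exact mul_inv_eq_iff_eq_mul.mp this)
  · rw [Subgroup.mem_center_iff]
    intro k'
    refine Subtype.ext ?_
    have hh := hcomm k k.2 m hmS k' k'.2
    show (k' : G) * (((m : G) * k * (m : G)⁻¹) * (k : G)⁻¹) = ((m : G) * k * (m : G)⁻¹) * (k : G)⁻¹ * k'
    simpa [mul_assoc] using hh

/-- Let G be a non-abelian finite simple QTKE-group and T a Sylow 2-subgroup of G, and let L be a member of ℒ_f(G, T) (a member of ℒ(G, T) that lies in 𝒳 — L ≠ 1, L = O²(L), F*(L) = O₂(L) — and acts nontrivially on Ω₁(Z(O₂(L)))). Then (1) every member K of ℒ(G, T) containing L is again in ℒ_f(G, T) (a sharper form of (1) also compares the modules [Ω₁(Z(R)), L] and [Ω₁(Z(R')), K] for suitable 2-subgroups R, R'; that comparison is not included); and (2) if L is maximal under inclusion among the members of ℒ_f(G, T), then L is a maximal member of ℒ(G, T), hence a member of ℒ_f*(G, T). -/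
theorem result {G : Type*} [Group G] [Finite G] [IsSimpleGroup G]
    (hG : ¬ IsMulCommutative G) (hQ : Cfsg.IsQTKE G) (T : Sylow 2 G) (L : Subgroup G)
    (hL : L ∈ Cfsg.calLf (T : Subgroup G)) :
    (∀ K ∈ Cfsg.calL (T : Subgroup G), L ≤ K → K ∈ Cfsg.calLf (T : Subgroup G)) ∧
    ((∀ K ∈ Cfsg.calLf (T : Subgroup G), L ≤ K → K = L) → L ∈ Cfsg.calLfMax (T : Subgroup G)) := by
  have h1 : ∀ K ∈ Cfsg.calL (T : Subgroup G), L ≤ K → K ∈ Cfsg.calLf (T : Subgroup G) := by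
    intro K hK hLK
    have hK' := hK
    obtain ⟨⟨hKne, hKperf, hKsn, -⟩, -, hK2⟩ := hK'
    have hKp : ⁅K, K⁆ = K := by
      have := congrArg (Subgroup.map (K ⊔ (T : Subgroup G)).subtype) hKperf
      rwa [Subgroup.map_commutator, Subgroup.subgroupOf_map_subtype, inf_eq_left.mpr le_sup_left] at this
    refine ⟨hK, ⟨?_, Lib.Classification.oddGenerated_eq_self_of_perfect hKp, ?_⟩,
      moduleV_ne_bot hQ.2.2 T hL.1 hK hLK hL.2.2⟩
    · rintro rfl
      exact hKne (Subgroup.bot_subgroupOf _)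
    · exact genFitting_mulEquiv_eq_pCore (Subgroup.subgroupOfEquivOfLe le_sup_left)
        (genFitting_of_subnormal (charTwo_of_sylow_le hQ.2.2 T le_sup_right hK2) hKsn)
  exact ⟨h1, fun hmax => ⟨⟨hL.1, fun K hK hLK => hmax K (h1 K hK hLK) hLK⟩, hL.2⟩⟩

end Cfsg.Agent.S1851
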