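import Cfsg.Statements.S1892
import Mathlib
import Cfsg.Agent.Lib.Blocks.PSolvable
import Cfsg.Agent.Lib.Coprime
-- import your own Cfsg.Agent.* helpers here

set_option autoImplicit false
open Cfsg

namespace Cfsg.Agent.S1892

open Cfsg.Agent.Lib.Coprime
open scoped commutatorElement

/-- The elements normalizing `W` and `X` and acting trivially on `W` modulo `X`. -/
def trivialMod {S : Type*} [Group S] (W X : Subgroup S) : Subgroup S where
  carrier := {g | g ∈ Subgroup.normalizer (W : Set S) ∧ g ∈ Subgroup.normalizer (X : Set S) ∧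
    ∀ w ∈ W, g * w * g⁻¹ * w⁻¹ ∈ X}
  one_mem' := ⟨one_mem _, one_mem _, fun w _ => by simp⟩
  mul_mem' := by
    rintro g₁ g₂ ⟨h1, h1', h1''⟩ ⟨h2, h2', h2''⟩
    refine ⟨mul_mem h1 h2, mul_mem h1' h2', fun w hw => ?_⟩
    have := mul_mem ((Subgroup.mem_normalizer_iff.1 h1' _).1 (h2'' w hw)) (h1'' w hw)
    rwa [show g₁ * (g₂ * w * g₂⁻¹ * w⁻¹) * g₁⁻¹ * (g₁ * w * g₁⁻¹ * w⁻¹) =
      g₁ * g₂ * w * (g₁ * g₂)⁻¹ * w⁻¹ by group] at this
  inv_mem' := by
    rintro g ⟨h1, h1', h1''⟩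
    refine ⟨inv_mem h1, inv_mem h1', fun w hw => ?_⟩
    have := (Subgroup.mem_normalizer_iff''.1 h1' _).1 (inv_mem (h1'' w hw))
    rwa [show g⁻¹ * (g * w * g⁻¹ * w⁻¹)⁻¹ * g = g⁻¹ * w * g⁻¹⁻¹ * w⁻¹ by group] at this
/-- Let S be a finite p-solvable group with no nontrivial normal subgroup of order prime to p, A a p-subgroup of S, and Q a nontrivial A-invariant subgroup of order prime to p with [A, Q] = Q. Then the commutator [O_p(S), A, Q] is nontrivial. -/
theorem result {S : Type*} [Group S] [Finite S] {p : ℕ} [Fact p.Prime]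
    (hS : Cfsg.IsPSolvable p S) (hred : Cfsg.pPrimeCore p S = ⊥)
    (A Q : Subgroup S) (hA : IsPGroup p A) (hQ : ¬ p ∣ Nat.card Q) (hQ1 : Q ≠ ⊥)
    (hinv : ∀ a ∈ A, ∀ x ∈ Q, a * x * a⁻¹ ∈ Q) (hAQ : ⁅A, Q⁆ = Q) :
    ⁅⁅Cfsg.pCore p S, A⁆, Q⁆ ≠ ⊥ := by
  classical
  intro h
  set P := Cfsg.pCore p S with hP
  have hPp : IsPGroup p P := Cfsg.Agent.Lib.Cores.pCore_isPGroup p S
  haveI : P.Normal := by haveI := Cfsg.Agent.Lib.Cores.pCore_characteristic p S; exact Subgroup.normal_of_characteristic _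
  obtain ⟨n, hn⟩ := hPp.exists_card_eq
  have hcop : (Nat.card Q).Coprime (Nat.card P) := by
    rw [hn]; exact Nat.Coprime.pow_right _ ((Fact.out : p.Prime).coprime_iff_not_dvd.2 hQ).symm
  have hsolv : Group.IsSolvable Q ∨ Group.IsSolvable P := Or.inr (by
    haveI := hPp.isNilpotent; infer_instance)
  have hQP : Q ≤ Subgroup.normalizer (P : Set S) := fun _ _ => Subgroup.le_normalizer_of_normal (K := ⊤) trivial
  have hAP : A ≤ Subgroup.normalizer (P : Set S) := fun _ _ => Subgroup.le_normalizer_of_normal (K := ⊤) trivial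
  have hAQ' : A ≤ Subgroup.normalizer (Q : Set S) := Subgroup.le_normalizer_iff.2 hinv
  set W := ⁅P, Q⁆ with hW
  have hWP : W ≤ P := commutator_le_of_le_normalizer hQP
  have hWW : ⁅W, Q⁆ = W := commutator_commutator_eq hQP hcop hsolv
  set X := ⁅W, A⁆ with hX
  have hAW : A ≤ Subgroup.normalizer (W : Set S) := fun a ha => mem_normalizer_of_conj_smul_eq (by
    rw [hW, conj_smul_commutator, conj_smul_eq_of_mem_normalizer (hAP ha),
      conj_smul_eq_of_mem_normalizer (hAQ' ha)])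
  have hQW : Q ≤ Subgroup.normalizer (W : Set S) := Subgroup.normalizer_commutator_ge_right P Q
  have hXQ : X ≤ Subgroup.centralizer (Q : Set S) :=
    (Subgroup.commutator_mono hWP le_rfl).trans (Subgroup.commutator_eq_bot_iff_le_centralizer.1 h)
  have hXW : X ≤ W := commutator_le_of_le_normalizer hAW
  have hAK : A ≤ trivialMod W X := fun a ha => ⟨hAW ha, Subgroup.normalizer_commutator_ge_right W A ha,
    fun w hw => by
      have := inv_mem (Subgroup.commutator_mem_commutator hw ha)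
      rwa [commutatorElement_def, show (w * a * w⁻¹ * a⁻¹)⁻¹ = a * w * a⁻¹ * w⁻¹ by group] at this⟩
  have hQX : Q ≤ Subgroup.normalizer (X : Set S) :=
    (Subgroup.le_centralizer_iff.1 hXQ).trans (Subgroup.centralizer_le_normalizer _)
  have hconj : ∀ q ∈ Q, ∀ a ∈ trivialMod W X, q * a * q⁻¹ ∈ trivialMod W X := by
    intro q hq a ha
    refine ⟨mul_mem (mul_mem (hQW hq) ha.1) (inv_mem (hQW hq)),
      mul_mem (mul_mem (hQX hq) ha.2.1) (inv_mem (hQX hq)), fun w hw => ?_⟩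
    have hw' := (Subgroup.mem_normalizer_iff''.1 (hQW hq) w).1 hw
    have := (Subgroup.mem_normalizer_iff.1 (hQX hq) _).1 (ha.2.2 _ hw')
    rwa [show q * (a * (q⁻¹ * w * q) * a⁻¹ * (q⁻¹ * w * q)⁻¹) * q⁻¹ =
      q * a * q⁻¹ * w * (q * a * q⁻¹)⁻¹ * w⁻¹ by group] at this
  have hQK : Q ≤ trivialMod W X := by
    rw [← hAQ, Subgroup.commutator_le]
    intro a ha q hq
    rw [commutatorElement_def, mul_assoc, mul_assoc, ← mul_assoc q]
    exact mul_mem (hAK ha) (hconj q hq _ (inv_mem (hAK ha)))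
  have hWX : W ≤ X := by
    conv_lhs => rw [← hWW]
    rw [Subgroup.commutator_le]
    intro w hw q hq
    have := inv_mem ((hQK hq).2.2 w hw)
    rwa [show (q * w * q⁻¹ * w⁻¹)⁻¹ = w * q * w⁻¹ * q⁻¹ by group] at this
  have hbot : ⁅⁅P, Q⁆, Q⁆ = ⊥ :=
    Subgroup.commutator_eq_bot_iff_le_centralizer.2 (hWX.trans hXQ)
  have hQc := le_centralizer_of_commutator_commutator_eq_bot hQP hcop hbot
  have hQle : Q ≤ P :=
    hQc.trans (Cfsg.Agent.Lib.Blocks.centralizer_pCore_le_of_isPSolvable p hS hred)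
  exact hQ1 ((Subgroup.eq_bot_iff_forall _).2 fun x hx => eq_one_of_mem_of_mem hcop hx (hQle hx))

end Cfsg.Agent.S1892
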