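import Cfsg.Statements.S1893
import Cfsg.Agent.Lib.FusionControl.SolvableStable
import Cfsg.Agent.Lib.OddLocal.NilpotentParts
import Cfsg.Agent.Lib.Cores.PiCore
import Cfsg.Agent.Lib.Coprime.PxQ
import Cfsg.Agent.Lib.Components.GenFitting
import Cfsg.Agent.Lib.Components.PComponent

set_option autoImplicit false
open Cfsg

namespace Cfsg.Agent.S1893

open Subgroup Cfsg.Agent.Lib
open scoped commutatorElement

/-- an element centralizing a subgroup's image that is self-centralizing in every nilpotent part -/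
lemma mem_fitting_of_quadratic.{u} {X : Type u} [Group X] [Finite X] (hs : Group.IsSolvable X) {p : ℕ}
    [Fact p.Prime] (hp5 : 5 ≤ p) {x : X} (hxp : ∃ k : ℕ, x ^ p ^ k = 1)
    (hR : ∀ r : ℕ, ∀ [Fact r.Prime], r ≠ p → zpowers x ≤ centralizer (Cfsg.pCore r X : Set X))
    (hq : ∀ v ∈ Cfsg.pCore p X, Commute x ⁅v, x⁆) : x ∈ Cfsg.pCore p X := by
  set P0 := Cfsg.pCore p X with hP0
  set F := Cfsg.fittingSubgroup X with hF
  have hP0p : IsPGroup p P0 := Cores.pCore_isPGroup p X
  set C := centralizer (P0 : Set X) with hC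
  have hN : normalizer (P0 : Set X) = ⊤ := normalizer_eq_top_iff.2 (by rw [hP0]; infer_instance)
  -- transport stability to `X / C(P0)`
  set R := ⨆ r : {r : ℕ // r.Prime ∧ r ≠ p}, Cfsg.pCore (r : ℕ) X with hRdef
  set π := QuotientGroup.mk' C with hπ
  set Y := (Cfsg.pCore p (X ⧸ C)).comap π ⊓ centralizer (R : Set X) with hY
  have hRn : R.Normal := by rw [hRdef]; infer_instance
  have hYn : Y.Normal := by rw [hY]; infer_instance
  have hxY : x ∈ Y := by
    refine Subgroup.mem_inf.2 ⟨mem_comap.2 ?_, ?_⟩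
    · have hst := FusionControl.isNormalizerPStable_of_isSolvable hs hp5 P0 hP0p x (hN ▸ mem_top x) ?_
      · let f : ↥(normalizer (P0 : Set X)) ⧸ C.subgroupOf (normalizer (P0 : Set X)) →* X ⧸ C :=
          QuotientGroup.map _ C (normalizer (P0 : Set X)).subtype fun a ha => ha
        have hf : Function.Surjective f := fun z => by
          obtain ⟨z, rfl⟩ := QuotientGroup.mk'_surjective C z
          exact ⟨QuotientGroup.mk ⟨z, hN ▸ mem_top z⟩, rfl⟩
        exact Cores.map_pCore_le f hf ⟨_, hst, rfl⟩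
      · rw [commutator_eq_bot_iff_le_centralizer]
        refine commutator_le.2 fun v hv y hy => ?_
        obtain ⟨i, rfl⟩ := hy
        rw [mem_centralizer_iff]
        rintro _ ⟨j, rfl⟩
        have hc : Commute x ⁅v, x⁆ := hq v hv
        have key : ∀ i : ℤ, Commute x ⁅v, x ^ i⁆ := by
          have h2 : ∀ i : ℤ, v * x ^ i * v⁻¹ = ⁅v, x⁆ ^ i * x ^ i := fun i => by
            rw [← conj_zpow, show v * x * v⁻¹ = ⁅v, x⁆ * x by rw [commutatorElement_def]; group, hc.symm.mul_zpow]
          intro i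
          rw [commutatorElement_def, h2, mul_inv_cancel_right]
          exact hc.zpow_right i
        exact ((key i).zpow_left j).eq
    · have h : R ≤ centralizer ({x} : Set X) := iSup_le fun r => by
        have : Fact (r : ℕ).Prime := ⟨r.2.1⟩
        exact fun a ha => mem_centralizer_singleton_iff.2
          (mem_centralizer_iff.1 (hR r r.2.2 (mem_zpowers x)) a ha)
      exact mem_centralizer_iff.2 fun a ha => mem_centralizer_singleton_iff.1 (h ha)
  have hFsup : F ≤ P0 ⊔ R := Components.fittingSubgroup_le_iSup_pCore.trans (iSup_le fun r => by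
    by_cases h : (r : ℕ) = p
    · rw [h]; exact le_sup_left
    · exact le_trans (le_iSup (fun r : {r : ℕ // r.Prime ∧ r ≠ p} => Cfsg.pCore (r : ℕ) X) ⟨r, r.2, h⟩) le_sup_right)
  set Z := R.subgroupOf Y with hZ
  have hZc : Z ≤ center Y := fun c hc => mem_center_iff.2 fun g => Subtype.ext
    (mem_centralizer_iff.1 (Subgroup.mem_inf.1 g.2).2 c hc).symm
  have hYq : IsPGroup p (Y ⧸ Z) := by
    intro u
    obtain ⟨y, rfl⟩ := QuotientGroup.mk'_surjective Z u
    obtain ⟨k, hk⟩ := Cores.pCore_isPGroup p (X ⧸ C) ⟨π y, (Subgroup.mem_inf.1 y.2).1⟩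
    have h1 : ((y : X)) ^ p ^ k ∈ C := by
      have := congrArg Subtype.val hk
      simp only [SubmonoidClass.coe_pow, OneMemClass.coe_one, ← map_pow] at this
      exact (QuotientGroup.eq_one_iff _).1 this
    -- it centralizes `F`, so lies in `F`
    have h2 : ((y : X)) ^ p ^ k ∈ F := by
      refine Cores.centralizer_fittingSubgroup_le hs ?_
      rw [mem_centralizer_iff]
      intro a ha
      obtain ⟨a, ha', b, hb, rfl⟩ := mem_sup_of_normal_right.1 (hFsup ha)
      have e1 : Commute a ((y : X) ^ p ^ k) := mem_centralizer_iff.1 h1 a ha'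
      have e2 : Commute b ((y : X) ^ p ^ k) :=
        (show Commute b (y : X) from mem_centralizer_iff.1 (Subgroup.mem_inf.1 y.2).2 b hb).pow_right _
      exact (e1.mul_left e2).eq
    obtain ⟨a, ha, b, hb, hab⟩ := mem_sup_of_normal_right.1 (hFsup h2)
    obtain ⟨l, hl⟩ := hP0p ⟨a, ha⟩
    refine ⟨k + l, ?_⟩
    rw [← map_pow, QuotientGroup.mk'_apply, QuotientGroup.eq_one_iff, hZ, mem_subgroupOf,
      SubmonoidClass.coe_pow, pow_add, pow_mul, ← hab]
    have hcab : Commute a b := by
      have hRF : R ≤ centralizer (P0 : Set X) := iSup_le fun r => by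
        have : Fact (r : ℕ).Prime := ⟨r.2.1⟩
        intro c hc
        rw [mem_centralizer_iff]
        intro d hd
        exact (commute_of_normal_of_disjoint _ _ inferInstance inferInstance (IsPGroup.disjoint_of_ne p r
          (fun e => r.2.2 e.symm) _ _ hP0p (Cores.pCore_isPGroup r X)) d c hd hc).eq
      exact mem_centralizer_iff.1 (hRF hb) a ha
    rw [hcab.mul_pow, show a ^ p ^ l = 1 from congrArg Subtype.val hl, one_mul]
    exact pow_mem hb _
  have hYnil : Group.IsNilpotent ↥Y := by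
    have := hYq.isNilpotent
    exact Subgroup.isNilpotent_of_ker_le_center (QuotientGroup.mk' Z) (by rwa [QuotientGroup.ker_mk'])
  obtain ⟨k, hk⟩ := hxp
  have hxF : x ∈ F := Cores.le_fittingSubgroup hYn hYnil hxY
  obtain ⟨a, ha, b, hb, hab⟩ := mem_sup_of_normal_right.1 (Cores.fittingSubgroup_le_pCore_sup_pPrimeCore p hxF)
  have hab' : Commute a b := Cores.commute_of_mem_pCore_of_mem_pPrimeCore ha hb
  obtain ⟨l, hl⟩ := hP0p ⟨a, ha⟩
  have hb1 : b = 1 := by
    refine Transfer.eq_one_of_isPGroup_of_coprime (p := p) (P := zpowers b) ?_ (mem_zpowers b)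
      ((Cores.pPrimeCore_coprime p X).coprime_dvd_left (orderOf_dvd_natCard _ hb))
    intro z
    refine ⟨k + l, ?_⟩
    obtain ⟨z, i, rfl⟩ := z
    have h : b ^ p ^ (k + l) = 1 := by
      have hx' : x ^ p ^ (k + l) = 1 := by rw [pow_add, pow_mul, hk, one_pow]
      rw [← hab, hab'.mul_pow, add_comm, pow_add, pow_mul a, show a ^ p ^ l = 1 from congrArg Subtype.val hl,
        one_pow, one_mul, mul_comm] at hx'
      rw [add_comm, pow_add, mul_comm]; exact hx'
    refine Subtype.ext ?_
    simp only [SubmonoidClass.coe_pow, OneMemClass.coe_one]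
    rw [← zpow_natCast, ← zpow_mul, mul_comm, zpow_mul, zpow_natCast, h, one_zpow]
  rw [hb1, mul_one] at hab
  exact hab ▸ ha

/-- Let S be a finite solvable group, π a set of primes containing neither 2 nor 3, H a Hall π-subgroup of S, and A a self-centralizing normal subgroup of the Fitting subgroup F(H). Then C_S(A) = A × D for a normal subgroup D of C_S(A) whose order has no prime divisor in π. -/
theorem result {S : Type*} [Group S] [Finite S] [Group.IsSolvable S]
    (π : Set ℕ) (h2 : 2 ∉ π) (h3 : 3 ∉ π) (H : Subgroup S) (hH : Cfsg.IsPiHall π H)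
    (A : Subgroup S) (hA : Cfsg.IsSCN ((Cfsg.fittingSubgroup H).map H.subtype) A) :
    ∃ D : Subgroup S, D ≤ Subgroup.centralizer (A : Set S) ∧
      (∀ c ∈ Subgroup.centralizer (A : Set S), ∀ d ∈ D, c * d * c⁻¹ ∈ D) ∧
      A ⊓ D = ⊥ ∧ A ⊔ D = Subgroup.centralizer (A : Set S) ∧
      ∀ q : ℕ, q.Prime → q ∣ Nat.card D → q ∉ π := by
  classical
  set F := (Cfsg.fittingSubgroup H).map H.subtype with hF
  obtain ⟨hAF, hFA, hAcent⟩ := hA
  have hFH : F ≤ H := Subgroup.map_subtype_le _
  have hFnil : Group.IsNilpotent ↥F := by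
    have := Cores.fittingSubgroup_isNilpotent H
    exact Group.nilpotent_of_surjective (H.subtype.subgroupMap (Cfsg.fittingSubgroup H))
      (H.subtype.subgroupMap_surjective _)
  have hAab : ∀ a ∈ A, ∀ b ∈ A, Commute a b := fun a ha b hb => by
    rw [← hAcent] at hb
    exact mem_centralizer_iff.1 (Subgroup.mem_inf.1 hb).2 a ha
  -- the largest normal subgroup prime to `π`
  set W := Cfsg.piCore πᶜ S with hW
  have hWπ : ∀ q : ℕ, q.Prime → q ∣ Nat.card W → q ∉ π := fun q hq h => Cores.mem_of_prime_dvd_card_piCore hq h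
  have hHW : H ⊓ W = ⊥ := by
    rw [← Subgroup.card_eq_one, ← Nat.dvd_one]
    by_contra h
    obtain ⟨q, hq, hqd⟩ := Nat.exists_prime_and_dvd (fun h' => h (h' ▸ dvd_rfl))
    exact hWπ q hq (hqd.trans (card_dvd_of_le inf_le_right)) (hH.1 q hq (hqd.trans (card_dvd_of_le inf_le_left)))
  set f := QuotientGroup.mk' W with hf
  have hfs : Function.Surjective f := QuotientGroup.mk'_surjective W
  have hfinj : ∀ u ∈ H, f u = 1 → u = 1 := fun u hu h => by
    have : u ∈ H ⊓ W := ⟨hu, (QuotientGroup.eq_one_iff u).1 h⟩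
    rwa [hHW, mem_bot] at this
  -- the `r`-cores of the quotient
  have hcore : ∀ (r : ℕ) [Fact r.Prime], ∀ v ∈ Cfsg.pCore r (S ⧸ W), v ≠ 1 → r ∈ π ∧ ∃ u ∈ F, (∃ k : ℕ, u ^ r ^ k = 1) ∧ f u = v := by
    intro r _ v hv hv1
    have hrπ : r ∈ π := by
      by_contra hr
      apply hv1
      have hle : (Cfsg.pCore r (S ⧸ W)).comap f ≤ W := by
        refine Cores.le_piCore inferInstance fun q hq hqd => ?_
        have hc : Nat.card ((Cfsg.pCore r (S ⧸ W)).comap f) = Nat.card W * Nat.card (Cfsg.pCore r (S ⧸ W)) := by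
          rw [← Subgroup.relIndex_bot_left, ← Subgroup.relIndex_mul_relIndex ⊥ W _ bot_le
            (fun w hw => by rw [mem_comap, hf, QuotientGroup.mk'_apply, (QuotientGroup.eq_one_iff w).2 hw]; exact one_mem _),
            Subgroup.relIndex_bot_left]
          congr 1
          have h := Subgroup.relIndex_ker (K := (Cfsg.pCore r (S ⧸ W)).comap f) f
          rw [Subgroup.map_comap_eq_self_of_surjective hfs, hf, QuotientGroup.ker_mk'] at h
          exact h
        rw [hc] at hqd
        rcases (Nat.Prime.dvd_mul hq).1 hqd with h | h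
        · exact hWπ q hq h
        · obtain ⟨n, hn⟩ := IsPGroup.iff_card.1 (Cores.pCore_isPGroup r (S ⧸ W))
          rw [hn] at h
          rw [(Nat.prime_dvd_prime_iff_eq hq Fact.out).1 (hq.dvd_of_dvd_pow h)]
          exact hr
      obtain ⟨s, rfl⟩ := hfs v
      exact (QuotientGroup.eq_one_iff s).2 (hle hv)
    refine ⟨hrπ, ?_⟩
    -- `O_r` lies in the image of `H`
    have hr : Cfsg.pCore r (S ⧸ W) ≤ H.map f := by
      let Q : Sylow r H := default
      have hcard : Nat.card ((Q : Subgroup H).map H.subtype) = r ^ (Nat.card S).factorization r := by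
        rw [Subgroup.card_map_of_injective H.subtype_injective, Q.card_eq_multiplicity, ← H.card_mul_index,
          Nat.factorization_mul Nat.card_pos.ne' Subgroup.index_ne_zero_of_finite, Finsupp.add_apply,
          Nat.factorization_eq_zero_of_not_dvd (hH.2 r Fact.out hrπ), add_zero]
      let T : Sylow r S := Sylow.ofCard _ hcard
      intro w hw
      have h := Cores.pCore_le_sylow (T.mapSurjective hfs) hw
      obtain ⟨t, ht, rfl⟩ := h
      exact ⟨t, map_subtype_le _ ht, rfl⟩
    obtain ⟨u, hu, rfl⟩ := hr hv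
    refine ⟨u, ?_, ?_, rfl⟩
    · have hpre : ((Cfsg.pCore r (S ⧸ W)).comap f).subgroupOf H ≤ Cfsg.pCore r H := by
        refine Cores.le_pCore inferInstance fun z => ?_
        obtain ⟨k, hk⟩ := Cores.pCore_isPGroup r (S ⧸ W) ⟨f (z : H), z.2⟩
        refine ⟨k, Subtype.ext (Subtype.ext (hfinj _ (pow_mem (z : H).2 _) ?_))⟩
        exact (map_pow f ((z : H) : S) _).trans (congrArg Subtype.val hk)
      exact ⟨⟨u, hu⟩, Cores.pCore_le_fittingSubgroup r (hpre (show (⟨u, hu⟩ : H) ∈ _ from hv)), rfl⟩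
    · obtain ⟨k, hk⟩ := Cores.pCore_isPGroup r (S ⧸ W) ⟨f u, hv⟩
      exact ⟨k, hfinj _ (pow_mem hu _) (by rw [map_pow]; exact congrArg Subtype.val hk)⟩
  -- elements of `F` fixed by `A` modulo `W` lie in `A`
  have hmemA : ∀ u ∈ F, (∀ a ∈ A, Commute (f u) (f a)) → u ∈ A := fun u hu h => by
    rw [← hAcent]
    refine ⟨hu, mem_centralizer_iff.2 fun a ha => ?_⟩
    rw [← commutatorElement_eq_one_iff_mul_comm]
    refine hfinj _ ?_ ?_
    · rw [commutatorElement_def]
      have := hFH hu; have := hFH (hAF ha)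
      exact mul_mem (mul_mem (mul_mem (hFH (hAF ha)) (hFH hu)) (inv_mem (hFH (hAF ha)))) (inv_mem (hFH hu))
    · rw [map_commutatorElement, commutatorElement_eq_one_iff_mul_comm]
      exact (h a ha).symm.eq
  -- the `π`-elements of `C(A)` lie in `A`
  set Cs := Subgroup.centralizer (A : Set S) with hCs
  have hAC : A ≤ Cs := fun a ha => mem_centralizer_iff.2 fun b hb => (hAab b hb a ha).eq
  have hel : ∀ p : ℕ, ∀ [Fact p.Prime], p ∈ π → ∀ x ∈ Cs, (∃ k : ℕ, x ^ p ^ k = 1) → x ∈ A := by
    intro p hpf hpπ x hx hxp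
    obtain ⟨k, hk⟩ := hxp
    have hp5 : 5 ≤ p := by
      have h := hpf.out.two_le
      have h4 : p ≠ 4 := fun h => by rw [h] at hpf; exact absurd hpf.out (by norm_num)
      rcases (by omega : p = 2 ∨ p = 3 ∨ 5 ≤ p) with rfl | rfl | h
      · exact absurd hpπ h2
      · exact absurd hpπ h3
      · exact h
    have hxA : ∀ a ∈ A, Commute (f x) (f a) := fun a ha =>
      ((show Commute a x from mem_centralizer_iff.1 hx a ha).map f).symm
    have hfx : (f x) ^ p ^ k = 1 := by rw [← map_pow, hk, map_one]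
    have hR : ∀ r : ℕ, ∀ [Fact r.Prime], r ≠ p → zpowers (f x) ≤ centralizer (Cfsg.pCore r (S ⧸ W) : Set (S ⧸ W)) := by
      intro r _ hrp
      refine Coprime.le_centralizer_of_PxQ (p := r) (P := (OddLocal.pPartOf r A).map f)
        ((OddLocal.isPGroup_pPartOf r A).map f) ?_ (Cores.pCore_isPGroup r _) ?_ le_normalizer_of_normal
        le_normalizer_of_normal ?_
      · rw [Nat.card_zpowers]
        exact Nat.Coprime.coprime_dvd_left (orderOf_dvd_of_pow_eq_one hfx)
          (((Nat.coprime_primes hpf.out Fact.out).2 (Ne.symm hrp)).pow_left k)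
      · rintro _ ⟨a, ha, rfl⟩
        rw [mem_centralizer_iff]
        rintro _ ⟨i, rfl⟩
        exact ((hxA a (OddLocal.pPartOf_le r A ha)).zpow_left i).eq
      · intro v hv
        obtain ⟨hv1, hv2⟩ := Subgroup.mem_inf.1 hv
        rcases eq_or_ne v 1 with rfl | hne
        · exact one_mem _
        obtain ⟨-, u, hu, ⟨j, huj⟩, rfl⟩ := hcore r v hv1 hne
        have huA : u ∈ A := by
          refine hmemA u hu fun a ha => ?_
          have hAnil : Group.IsNilpotent ↥A :=
            Group.nilpotent_of_mulEquiv (Subgroup.subgroupOfEquivOfLe hAF)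
          -- `a` is a product of an `r`-part and an `r'`-part
          have hsplit : A ≤ (centralizer ({f u} : Set (S ⧸ W))).comap f := by
            intro a ha
            have h1 : (⟨a, ha⟩ : A) ∈ ((centralizer ({f u} : Set (S ⧸ W))).comap f).subgroupOf A := by
              refine OddLocal.isThreeStep_of_no_normal_sylow.mem_of_primeParts fun q hq hqz => ?_
              have := Fact.mk hq
              rw [mem_subgroupOf, mem_comap, mem_centralizer_singleton_iff]
              by_cases hqr : q = r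
              · subst hqr
                exact (mem_centralizer_iff.1 hv2 _ ⟨_, ⟨_, OddLocal.mem_pCore_of_isNilpotent hAnil q
                  ⟨_, OddLocal.orderOf_pPart q _⟩, rfl⟩, rfl⟩)
              · refine (Commute.map ?_ f).eq
                set z := (((⟨a, ha⟩ : A) ^ (orderOf (⟨a, ha⟩ : A) / q ^ (orderOf (⟨a, ha⟩ : A)).factorization q) : A) : S)
                have hz : z ∈ F := hAF (SetLike.coe_mem _)
                obtain ⟨i, hi⟩ : ∃ i, orderOf z = q ^ i := ⟨_, by
                  rw [Subgroup.orderOf_coe]; exact OddLocal.orderOf_pPart q _⟩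
                obtain ⟨i', -, hi'⟩ := (Nat.dvd_prime_pow Fact.out).1 (orderOf_dvd_of_pow_eq_one huj)
                exact mem_centralizer_iff.1 (OddLocal.pPartOf_le_centralizer_pComplOf r F
                  (OddLocal.mem_pPartOf hFnil hu ⟨i', hi'⟩)) z (OddLocal.mem_pComplOf hFnil hz (by
                    rw [hi]; exact ((Nat.coprime_primes hq Fact.out).2 hqr).pow_left i))
            exact h1
          exact (show Commute (f a) (f u) from mem_centralizer_singleton_iff.1 (hsplit ha)).symm
        rw [mem_centralizer_iff]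
        rintro _ ⟨i, rfl⟩
        exact ((hxA u huA).zpow_left i).eq
    have hq : ∀ v ∈ Cfsg.pCore p (S ⧸ W), Commute (f x) ⁅v, f x⁆ := by
      intro v hv
      rcases eq_or_ne v 1 with rfl | hne
      · rw [commutatorElement_one_left]; exact Commute.one_right _
      obtain ⟨-, u, hu, -, rfl⟩ := hcore p v hv hne
      set c := ⁅f u, f x⁆ with hc
      have hcP : c ∈ Cfsg.pCore p (S ⧸ W) := by
        rw [hc, show ⁅f u, f x⁆ = f u * (f x * (f u)⁻¹ * (f x)⁻¹) by rw [commutatorElement_def]; group]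
        exact mul_mem hv ((inferInstance : (Cfsg.pCore p (S ⧸ W)).Normal).conj_mem _ (inv_mem hv) _)
      rcases eq_or_ne c 1 with h1 | hne'
      · rw [h1]; exact Commute.one_right _
      obtain ⟨-, w, hw, -, hwc⟩ := hcore p c hcP hne'
      have hwA : w ∈ A := by
        refine hmemA w hw fun a ha => ?_
        rw [hwc, hc, commutatorElement_def]
        have h1 : Commute (f x) (f a) := hxA a ha
        have ha' : u⁻¹ * a * u ∈ A := (mem_normalizer_iff''.1 (hFA hu) a).1 ha
        have h2 : Commute (f u * f x * (f u)⁻¹) (f a) := by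
          have := (hxA _ ha').map (MulAut.conj (f u)).toMonoidHom
          simpa [mul_assoc] using this
        exact h2.mul_left h1.inv_left
      rw [← hwc]
      exact hxA w hwA
    have hsol : Group.IsSolvable (S ⧸ W) := inferInstance
    have hfxP := mem_fitting_of_quadratic hsol hp5 ⟨k, hfx⟩ (fun r _ h => hR r h) hq
    obtain ⟨a, haA, hfa⟩ : ∃ a ∈ A, f a = f x := by
      rcases eq_or_ne (f x) 1 with h | hne
      · exact ⟨1, one_mem _, by rw [h, map_one]⟩
      obtain ⟨-, u, hu, -, hux⟩ := hcore p _ hfxP hne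
      exact ⟨u, hmemA u hu (fun a ha => hux ▸ hxA a ha), hux⟩
    set w := a⁻¹ * x with hw
    have hwW : w ∈ W := (QuotientGroup.eq_one_iff w).1 (by
      show f w = 1
      rw [hw, map_mul, map_inv, hfa, inv_mul_cancel])
    have hcw : Commute a⁻¹ x := (show Commute a x from mem_centralizer_iff.1 hx a haA).inv_left
    have hw1 : w = 1 := by
      rw [← orderOf_eq_one_iff]
      by_contra hne
      obtain ⟨q, hq', hqd⟩ := Nat.exists_prime_and_dvd hne
      have h1 : w ^ (orderOf a * p ^ k) = 1 := by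
        rw [hw, hcw.mul_pow, pow_mul a⁻¹, inv_pow, pow_orderOf_eq_one, inv_one, one_pow, one_mul, mul_comm, pow_mul, hk, one_pow]
      have h2 : q ∈ π := by
        rcases (Nat.Prime.dvd_mul hq').1 (hqd.trans (orderOf_dvd_of_pow_eq_one h1)) with h | h
        · exact hH.1 q hq' (h.trans (Subgroup.orderOf_dvd_natCard _ (hFH (hAF haA))))
        · exact (Nat.prime_dvd_prime_iff_eq hq' hpf.out).1 (hq'.dvd_of_dvd_pow h) ▸ hpπ
      exact hWπ q hq' (hqd.trans (Subgroup.orderOf_dvd_natCard _ hwW)) h2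
    rw [hw, inv_mul_eq_one] at hw1
    exact hw1 ▸ haA
  -- `A` is a central Hall subgroup of `C(A)`
  set A' := A.subgroupOf Cs with hA'
  have hcen : A' ≤ center Cs := fun a ha => mem_center_iff.2 fun g => Subtype.ext
    (mem_centralizer_iff.1 g.2 a ha).symm
  have hA'n : A'.Normal := ⟨fun a ha g => by
    rw [mem_center_iff.1 (hcen ha) g, mul_inv_cancel_right]; exact ha⟩
  have hcardA : Nat.card A' = Nat.card A := Nat.card_congr (Subgroup.subgroupOfEquivOfLe hAC).toEquiv
  have hidx : ∀ q : ℕ, q.Prime → q ∈ π → ¬ q ∣ A'.index := by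
    intro q hq hqπ hd
    have : Fact q.Prime := ⟨hq⟩
    let P : Sylow q Cs := default
    refine P.not_dvd_index (hd.trans (Subgroup.index_dvd_of_le fun y hy => ?_))
    obtain ⟨i, hi⟩ := P.isPGroup' ⟨y, hy⟩
    exact hel q hqπ y y.2 ⟨i, congrArg (fun z : (P : Subgroup Cs) => ((z : Cs) : S)) hi⟩
  have hcop : (Nat.card A').Coprime A'.index := by
    refine Nat.coprime_of_dvd fun q hq h1 h2 => hidx q hq ?_ h2
    rw [hcardA] at h1
    exact hH.1 q hq (h1.trans (card_dvd_of_le (hAF.trans hFH)))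
  obtain ⟨D, hD⟩ := Subgroup.exists_right_complement'_of_coprime hcop
  refine ⟨D.map Cs.subtype, map_subtype_le D, ?_, ?_, ?_, fun q hq hqd => ?_⟩
  · rintro c hc _ ⟨d, hd, rfl⟩
    refine ⟨⟨c, hc⟩ * d * ⟨c, hc⟩⁻¹, ?_, rfl⟩
    obtain ⟨a, ha, e, he, hae⟩ : ∃ a ∈ A', ∃ e ∈ D, a * e = ⟨c, hc⟩ := by
      have h : (⟨c, hc⟩ : Cs) ∈ A' ⊔ D := by rw [hD.sup_eq_top]; exact mem_top _
      exact mem_sup_of_normal_left.1 h
    have hca : ∀ z : Cs, Commute z a := fun z => mem_center_iff.1 (hcen ha) z
    rw [← hae, SetLike.mem_coe, show a * e * d * (a * e)⁻¹ = a * (e * d * e⁻¹) * a⁻¹ by group, ← (hca _).eq,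
      mul_inv_cancel_right]
    exact mul_mem (mul_mem he hd) (inv_mem he)
  · rw [eq_bot_iff]
    rintro _ ⟨hyA, ⟨d, hd, rfl⟩⟩
    have h : d ∈ A' ⊓ D := ⟨hyA, hd⟩
    rw [hD.disjoint.eq_bot, mem_bot] at h
    rw [h]; exact one_mem _
  · refine le_antisymm (sup_le hAC (map_subtype_le D)) fun c hc => ?_
    have h : (⟨c, hc⟩ : Cs) ∈ A' ⊔ D := by rw [hD.sup_eq_top]; exact mem_top _
    obtain ⟨a, ha, e, he, hae⟩ := mem_sup_of_normal_left.1 h
    rw [show c = (a : S) * (e : S) from (congrArg Subtype.val hae).symm]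
    exact mul_mem_sup ha ⟨e, he, rfl⟩
  · intro hqπ
    rw [Subgroup.card_map_of_injective Cs.subtype_injective] at hqd
    rw [hD.symm.index_eq_card] at hidx
    exact hidx q hq hqπ hqd

end Cfsg.Agent.S1893
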