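import Cfsg.Statements.S1894
import Cfsg.Agent.Lib.Transfer.Tate

set_option autoImplicit false
open Cfsg

namespace Cfsg.Agent.S1894

/-- Let P be a finite p-group, A a normal subgroup of P and B an abelian subgroup of A that is normal in P. Then some subgroup C of A containing B is normal in P and is self-centralizing and normal in A (C ∈ SCN(A)). -/
theorem result {P : Type*} [Group P] [Finite P] {p : ℕ} [Fact p.Prime] (hP : IsPGroup p P)
    (A : Subgroup P) [A.Normal] (B : Subgroup P) [B.Normal] (hBA : B ≤ A) (hB : IsMulCommutative B) :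
    ∃ C : Subgroup P, C.Normal ∧ B ≤ C ∧ Cfsg.IsSCN A C := by
  haveI := hB
  classical
  haveI : Fintype (Subgroup P) := Fintype.ofFinite _
  let 𝒮 : Set (Subgroup P) := {C | C.Normal ∧ B ≤ C ∧ C ≤ A ∧ IsMulCommutative C}
  obtain ⟨C, ⟨hCn, hBC, hCA, hCc⟩, hmax⟩ :=
    (Set.toFinite 𝒮).exists_maximalFor id 𝒮 ⟨B, inferInstance, le_refl _, hBA, hB⟩
  haveI := hCn
  haveI := hCc
  refine ⟨C, hCn, hBC, hCA, fun a _ => ?_, ?_⟩
  · rw [Subgroup.normalizer_eq_top]; exact Subgroup.mem_top a
  apply le_antisymm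
  · by_contra hnle
    let D := A ⊓ Subgroup.centralizer (C : Set P)
    haveI : D.Normal := inferInstance
    haveI : (D.map (QuotientGroup.mk' C)).Normal := Subgroup.Normal.map ‹D.Normal› _ (QuotientGroup.mk'_surjective C)
    have hne : D.map (QuotientGroup.mk' C) ≠ ⊥ := by
      rw [Ne, Subgroup.map_eq_bot_iff, QuotientGroup.ker_mk']; exact hnle
    haveI : Group.IsNilpotent (P ⧸ C) := (hP.to_quotient C).isNilpotent
    obtain ⟨z, ⟨⟨w, hwD, hwz⟩, hzc⟩, hz1⟩ : ∃ z, (z ∈ D.map (QuotientGroup.mk' C) ∧ z ∈ Subgroup.center (P ⧸ C)) ∧ z ≠ 1 := by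
      obtain ⟨z, hz, hzc', hzo⟩ := Cfsg.Agent.Lib.Transfer.exists_central_orderOf_eq (hP.to_quotient C) _ hne
      exact ⟨z, ⟨hz, hzc'⟩, fun h => by rw [h, orderOf_one] at hzo; exact (Fact.out : p.Prime).ne_one hzo.symm⟩
    let C' := C ⊔ Subgroup.zpowers w
    have hC'n : C'.Normal := by
      have : C' = ((Subgroup.zpowers z)).comap (QuotientGroup.mk' C) := by
        rw [← hwz, ← MonoidHom.map_zpowers, Subgroup.comap_map_eq, QuotientGroup.ker_mk', sup_comm]
      rw [this]
      refine Subgroup.Normal.comap ⟨fun x hx g => ?_⟩ _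
      have hxc : x ∈ Subgroup.center (P ⧸ C) := (Subgroup.zpowers_le.2 hzc) hx
      rw [Subgroup.mem_center_iff.1 hxc g, mul_inv_cancel_right]
      exact hx
    have hC'A : C' ≤ A := sup_le hCA (Subgroup.zpowers_le.2 hwD.1)
    have hC'c : IsMulCommutative C' := by
      have hcl : C' = Subgroup.closure ((C : Set P) ∪ {w}) := by
        rw [Subgroup.closure_union, Subgroup.closure_eq]; simp [C', Subgroup.zpowers_eq_closure]
      rw [hcl]
      apply Subgroup.isMulCommutative_closure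
      rintro x (hx | rfl) y (hy | rfl)
      · exact congrArg Subtype.val (mul_comm' (⟨x, hx⟩ : C) ⟨y, hy⟩)
      · exact Subgroup.mem_centralizer_iff.1 hwD.2 x hx
      · exact (Subgroup.mem_centralizer_iff.1 hwD.2 y hy).symm
      · rfl
    have := hmax (show C' ∈ 𝒮 from ⟨hC'n, hBC.trans le_sup_left, hC'A, hC'c⟩) (le_sup_left : C ≤ C')
    have hwC : w ∈ C := this (Subgroup.mem_sup_right (Subgroup.mem_zpowers w))
    exact hz1 (hwz ▸ (QuotientGroup.eq_one_iff w).2 hwC)
  · exact le_inf hCA (Subgroup.le_centralizer_iff_isMulCommutative.2 hCc)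

end Cfsg.Agent.S1894
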