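import Cfsg.Statements.S1895
import Cfsg.Agent.Lib.FusionControl.RankTwoChief

set_option autoImplicit false
open Cfsg

namespace Cfsg.Agent.S1895

/-- Let p be an odd prime and G a finite p-solvable group with no elementary abelian subgroup of order p³. Then every chief factor H/K of G (H, K normal in G with no normal subgroup of G strictly between them) whose order is a power of p has order p or p². -/
theorem result {G : Type*} [Group G] [Finite G] {p : ℕ} [Fact p.Prime] (hp : p ≠ 2)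
    (hG : Cfsg.IsPSolvable p G) (hr : Cfsg.PRankLE p 2 G)
    (H K : Subgroup G) [H.Normal] [K.Normal] (hKH : K < H) (hpow : ∃ n : ℕ, K.relIndex H = p ^ n)
    (hchief : ∀ L : Subgroup G, L.Normal → K ≤ L → L ≤ H → L = K ∨ L = H) :
    K.relIndex H = p ∨ K.relIndex H = p ^ 2 := by
  obtain ⟨n, hn⟩ := hpow
  let T : Sylow p H := default
  set S := (T : Subgroup H).map H.subtype with hS
  have hSH : S ≤ H := Subgroup.map_subtype_le _
  have hSp : IsPGroup p S := T.isPGroup'.map _
  have hKSH : K ⊔ S = H := by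
    refine le_antisymm (sup_le hKH.le hSH) ?_
    have h1 : (K.subgroupOf H ⊔ (T : Subgroup H)).index = 1 := by
      have ha : (K.subgroupOf H ⊔ (T : Subgroup H)).index ∣ p ^ n := by
        have := Subgroup.index_dvd_of_le (le_sup_left : K.subgroupOf H ≤ K.subgroupOf H ⊔ (T : Subgroup H))
        rwa [← Subgroup.relIndex, hn] at this
      obtain ⟨i, -, hi⟩ := (Nat.dvd_prime_pow (Fact.out : p.Prime)).1 ha
      rcases Nat.eq_zero_or_pos i with h0 | h0
      · rw [hi, h0, pow_zero]
      · exfalso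
        have hd := Subgroup.index_dvd_of_le (le_sup_right : (T : Subgroup H) ≤ K.subgroupOf H ⊔ (T : Subgroup H))
        exact T.not_dvd_index ((dvd_pow_self p h0.ne').trans (hi ▸ hd))
    intro x hx
    have h2 : (⟨x, hx⟩ : H) ∈ K.subgroupOf H ⊔ (T : Subgroup H) := by
      rw [Subgroup.index_eq_one.1 h1]; exact Subgroup.mem_top _
    obtain ⟨y, hy, z, hz, h3⟩ := Subgroup.mem_sup_of_normal_left.1 h2
    have h4 : (y : G) * z = x := congrArg Subtype.val h3
    rw [← h4]
    exact mul_mem (Subgroup.mem_sup_left hy) (Subgroup.mem_sup_right ⟨z, hz, rfl⟩)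
  set X := Subgroup.normalizer (S : Set G) with hX
  have hSX : S ≤ X := Subgroup.le_normalizer
  have hXK : X ⊔ K = ⊤ := by
    rw [eq_top_iff, ← Sylow.normalizer_sup_eq_top T]
    refine sup_le (le_sup_left : X ≤ X ⊔ K) ?_
    rw [← hKSH]
    exact sup_le le_sup_right (hSX.trans le_sup_left)
  let S₀ := S.subgroupOf X
  let K₀ := (S ⊓ K).subgroupOf X
  have hS₀n : S₀.Normal := Subgroup.normal_in_normalizer
  have hK₀n : K₀.Normal := by
    show (S ⊓ K).subgroupOf X |>.Normal
    have : (K.subgroupOf X).Normal := Subgroup.Normal.subgroupOf inferInstance _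
    exact Subgroup.normal_inf_normal S₀ (K.subgroupOf X)
  have hlt : K₀ < S₀ := by
    refine lt_of_le_not_ge (fun x hx => (Subgroup.mem_inf.1 hx).1) fun h => hKH.not_ge ?_
    rw [← hKSH]
    exact sup_le le_rfl fun x hx => (Subgroup.mem_inf.1 (h (show (⟨x, hSX hx⟩ : X) ∈ S₀ from hx))).2
  have hch : Cfsg.IsChiefFactor S₀ K₀ := by
    refine ⟨hlt, hS₀n, hK₀n, fun L hL h1 h2 => ?_⟩
    set L' := L.map X.subtype with hL'
    have hL'S : L' ≤ S := by rintro _ ⟨l, hl, rfl⟩; exact h2 hl
    have hnorm : (L' ⊔ K).Normal := by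
      refine Subgroup.normalizer_eq_top_iff.1 (eq_top_iff.2 ?_)
      rw [← hXK]
      refine sup_le (fun g hg => ?_) ((le_sup_right : K ≤ L' ⊔ K).trans Subgroup.le_normalizer)
      have hcj : ∀ g ∈ X, ∀ x ∈ L' ⊔ K, g * x * g⁻¹ ∈ L' ⊔ K := by
        intro g hg x hx
        obtain ⟨_, ⟨l, hl, rfl⟩, k, hk, rfl⟩ := Subgroup.mem_sup_of_normal_right.1 hx
        rw [show g * (X.subtype l * k) * g⁻¹ = g * X.subtype l * g⁻¹ * (g * k * g⁻¹) by group]
        exact mul_mem (Subgroup.mem_sup_left ⟨_, hL.conj_mem l hl ⟨g, hg⟩, rfl⟩)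
          (Subgroup.mem_sup_right (Subgroup.Normal.conj_mem inferInstance k hk g))
      exact Subgroup.mem_normalizer_iff.2 fun x => ⟨hcj g hg x, fun h => by
        simpa [mul_assoc] using hcj g⁻¹ (inv_mem hg) _ h⟩
    rcases hchief (L' ⊔ K) hnorm le_sup_right (sup_le (hL'S.trans hSH) hKH.le) with h | h
    · refine Or.inl (le_antisymm (fun x hx => ?_) h1)
      exact Subgroup.mem_inf.2 ⟨h2 hx, h.le (Subgroup.mem_sup_left ⟨x, hx, rfl⟩)⟩
    · refine Or.inr (le_antisymm h2 fun x hx => ?_)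
      obtain ⟨_, ⟨l, hl, rfl⟩, k, hk, hlk⟩ := Subgroup.mem_sup_of_normal_right.1 (h.ge (hSH hx))
      have hk' : k = ((l : G))⁻¹ * x := eq_inv_mul_of_mul_eq hlk
      have : l⁻¹ * x ∈ L := h1 (Subgroup.mem_inf.2 ⟨mul_mem (inv_mem (h2 hl)) hx, by
        show ((l : G))⁻¹ * x ∈ K
        rw [← hk']; exact hk⟩)
      simpa using mul_mem hl this
  have hr' : Cfsg.PRankLE p 2 X := fun A hA hAp => by
    rw [← Subgroup.card_map_of_injective (K := A) X.subtype_injective]
    refine hr _ ?_ ?_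
    · exact Subgroup.map_isMulCommutative A X.subtype
    · rintro _ ⟨a, ha, rfl⟩
      rw [← map_pow, hAp a ha, map_one]
  have := hS₀n
  have key := Cfsg.Agent.Lib.FusionControl.chief_le_sq (X := X) (S := S₀) hp hr' (hSp.comap_subtype) hch le_rfl
  rw [Subgroup.relIndex_subgroupOf hSX, Subgroup.inf_relIndex_left,
    ← Subgroup.relIndex_sup_right, sup_comm, hKSH, hn] at key
  have hn0 : n ≠ 0 := fun h => hKH.not_ge (Subgroup.relIndex_eq_one.1 (by rw [hn, h, pow_zero]))
  have := (Nat.pow_le_pow_iff_right (Fact.out : p.Prime).one_lt).1 key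
  rcases (by omega : n = 1 ∨ n = 2) with rfl | rfl
  · exact Or.inl (by rw [hn, pow_one])
  · exact Or.inr hn

end Cfsg.Agent.S1895
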