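import Cfsg.Statements.S1896
import Cfsg.Agent.Lib.PGroups.BurnsideBasis
import Cfsg.Agent.Lib.Coprime.Generation
import Cfsg.Agent.Lib.Cores.Frattini
import Cfsg.Agent.Lib.Involutions.TwoGroupRec

set_option autoImplicit false
open Cfsg

namespace Cfsg.Agent.S1896

open Subgroup
open scoped commutatorElement

variable {X : Type*} [Group X] [Finite X]

/-- An element of odd order fixes every element of a cyclic `2`-group it normalizes, at the level of automorphisms. -/
theorem fix_cyclic {C : Subgroup X} (hX : IsPGroup 2 X) (hC : IsCyclic ↥C) (β : MulAut X)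
    (hβ : Odd (orderOf β)) (hinv : ∀ x ∈ C, β x ∈ C) : ∀ x ∈ C, β x = x := by
  intro x hx
  obtain ⟨g, hg⟩ := hC.exists_generator
  obtain ⟨i, hi⟩ := mem_zpowers_iff.mp (hg ⟨_, hinv _ g.2⟩)
  have hi' : (g : X) ^ i = β g := congrArg Subtype.val hi
  have hpow : ∀ k : ℕ, (β ^ k) (g : X) = (g : X) ^ (i ^ k) := by
    intro k
    induction k with
    | zero => simp
    | succ k ih => rw [pow_succ', MulAut.mul_apply, ih, map_zpow, ← hi', ← zpow_mul, pow_succ']
  obtain ⟨e, he⟩ := (IsPGroup.iff_orderOf.mp hX) (g : X)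
  have hfix : β (g : X) = g := by
    have h := hpow (orderOf β)
    rw [pow_orderOf_eq_one, MulAut.one_apply] at h
    rw [← hi']
    conv_rhs => rw [← zpow_one (g : X)]
    rw [zpow_eq_zpow_iff_modEq]
    have h1 : i ^ orderOf β ≡ 1 [ZMOD (orderOf (g : X) : ℤ)] := by
      rw [← zpow_eq_zpow_iff_modEq, zpow_one]; exact h.symm
    rw [he] at h1 ⊢
    rw [← ZMod.intCast_eq_intCast_iff] at h1 ⊢
    push_cast at h1 ⊢
    rcases Nat.eq_zero_or_pos e with rfl | he0
    · exact Subsingleton.elim (α := ZMod 1) _ _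
    set u : (ZMod (2 ^ e))ˣ := Units.ofPowEqOne _ _ h1 (hβ.pos).ne' with hu
    have hu1 : orderOf u ∣ orderOf β := orderOf_dvd_of_pow_eq_one (Units.pow_ofPowEqOne _ _)
    have hu2 : orderOf u ∣ 2 ^ (e - 1) := by
      haveI : NeZero (2 ^ e) := ⟨(Nat.two_pow_pos e).ne'⟩
      have := orderOf_dvd_card (x := u)
      rwa [ZMod.card_units_eq_totient, Nat.totient_prime_pow Nat.prime_two he0, show (2 : ℕ) - 1 = 1 from rfl,
        mul_one] at this
    have : orderOf u = 1 := Nat.eq_one_of_dvd_coprimes (Nat.Coprime.pow_left _ (Nat.coprime_two_left.mpr hβ)) hu2 hu1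
    rw [orderOf_eq_one_iff] at this
    have h2 := congrArg Units.val this
    rwa [Units.val_one, hu] at h2
  obtain ⟨j, hj⟩ := mem_zpowers_iff.mp (hg ⟨x, hx⟩)
  have hj' : (g : X) ^ j = x := congrArg Subtype.val hj
  rw [← hj', map_zpow, hfix]

theorem exists_gen (hm : Cfsg.IsMetacyclic X) : ∃ g h : X, closure ({g, h} : Set X) = ⊤ := by
  obtain ⟨N, hN, hNc, hQc⟩ := hm
  obtain ⟨g, hg⟩ := hNc.exists_generator
  obtain ⟨c, hc⟩ := hQc.exists_generator
  obtain ⟨h, rfl⟩ := QuotientGroup.mk_surjective c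
  refine ⟨g, h, eq_top_iff.mpr fun x _ => ?_⟩
  obtain ⟨i, hi⟩ := mem_zpowers_iff.mp (hc (QuotientGroup.mk x))
  rw [← QuotientGroup.mk_zpow, QuotientGroup.eq] at hi
  obtain ⟨j, hj⟩ := mem_zpowers_iff.mp (hg ⟨_, hi⟩)
  have hj' : (g : X) ^ j = (h ^ i)⁻¹ * x := congrArg Subtype.val hj
  rw [show x = h ^ i * ((h ^ i)⁻¹ * x) by group, ← hj']
  exact mul_mem (zpow_mem (Subgroup.subset_closure (show h ∈ ({(g : X), h} : Set X) from Or.inr rfl)) _)
    (zpow_mem (Subgroup.subset_closure (show (g : X) ∈ ({(g : X), h} : Set X) from Or.inl rfl)) _)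

theorem commutator_le_cyclic (hm : Cfsg.IsMetacyclic X) : ∃ (N : Subgroup X) (_ : N.Normal),
    IsCyclic ↥N ∧ IsCyclic (X ⧸ N) ∧ commutator X ≤ N := by
  obtain ⟨N, hN, hNc, hQc⟩ := hm
  refine ⟨N, hN, hNc, hQc, ?_⟩
  haveI := hN
  haveI := hQc
  exact Subgroup.Normal.quotient_commutative_iff_commutator_le.mp ⟨⟨fun a b => (IsCyclic.commutative (α := X ⧸ N)).is_comm.comm a b⟩⟩

/-- A subgroup closed under an automorphism without fixed points on the Frattini quotient. -/
structure Mixing (β : MulAut X) : Prop where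
  gen : ∀ x, x ∉ frattini X → closure ({x, β x} : Set X) = ⊤
  rank : ∃ a, a ∉ frattini X ∧ a * β a ∉ frattini X

theorem exists_mixing (hX : IsPGroup 2 X) (hm : Cfsg.IsMetacyclic X) (hA : ¬ IsPGroup 2 (MulAut X)) :
    ∃ β : MulAut X, Odd (orderOf β) ∧ Mixing β := by
  haveI : Fact (Nat.Prime 2) := ⟨Nat.prime_two⟩
  obtain ⟨α, hα⟩ : ∃ α : MulAut X, ∀ k, orderOf α ≠ 2 ^ k := by
    by_contra hcon
    push Not at hcon
    exact hA (IsPGroup.iff_orderOf.mpr hcon)
  obtain ⟨k, m, hm2, hkm⟩ := Nat.exists_eq_pow_mul_and_not_dvd (orderOf_pos α).ne' 2 (by norm_num)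
  have hm1 : m ≠ 1 := fun h => hα k (by rw [hkm, h, mul_one])
  have hmp : 0 < m := Nat.pos_of_ne_zero fun h => hm2 (h ▸ dvd_zero 2)
  set β := α ^ (2 ^ k) with hβdef
  have hβo : orderOf β = m := by
    rw [hβdef, orderOf_pow, hkm, Nat.gcd_eq_right (dvd_mul_right _ _), Nat.mul_div_cancel_left _ (by positivity)]
  have hodd : Odd (orderOf β) := hβo ▸ Nat.odd_iff.mpr (Nat.two_dvd_ne_zero.mp hm2)
  refine ⟨β, hodd, ?_⟩
  obtain ⟨g, h, hgh⟩ := exists_gen hm
  -- some element moves modulo the Frattini subgroup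
  obtain ⟨a, ha⟩ : ∃ a : X, β a * a⁻¹ ∉ frattini X := by
    by_contra hcon
    push Not at hcon
    have hA' : ∀ γ ∈ zpowers β, ∀ x : X, γ x * x⁻¹ ∈ frattini X := by
      intro γ hγ
      obtain ⟨i, rfl⟩ := (isOfFinOrder_of_finite β).mem_powers_iff_mem_zpowers.mpr hγ
      intro x
      clear hγ
      induction i with
      | zero => simp
      | succ i ih =>
        dsimp only at ih ⊢
        rw [pow_succ', MulAut.mul_apply,
          show β ((β ^ i) x) * x⁻¹ = (β ((β ^ i) x) * ((β ^ i) x)⁻¹) * ((β ^ i) x * x⁻¹) by group]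
        exact mul_mem (hcon _) ih
    have hgen : closure (Set.range ![(g : X ⧸ frattini X), (h : X ⧸ frattini X)]) = ⊤ := by
      rw [eq_top_iff]
      intro y _
      obtain ⟨x, rfl⟩ := QuotientGroup.mk_surjective y
      have : (x : X ⧸ frattini X) ∈ (closure ({g, h} : Set X)).map (QuotientGroup.mk' (frattini X)) :=
        mem_map_of_mem _ (hgh ▸ mem_top x)
      rw [MonoidHom.map_closure, Set.image_insert_eq, Set.image_singleton] at this
      refine Subgroup.closure_mono ?_ this
      rintro _ (rfl | rfl)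
      · exact ⟨0, rfl⟩
      · exact ⟨1, rfl⟩
    have hdvd := Cfsg.Agent.Lib.PGroups.card_dvd_frattini_pow _ hgen (zpowers β) hA'
    rw [Nat.card_zpowers, hβo] at hdvd
    obtain ⟨e, he⟩ := (hX.to_subgroup (frattini X)).exists_card_eq
    rw [he, ← pow_mul] at hdvd
    exact hm1 (Nat.eq_one_of_dvd_coprimes (Nat.Coprime.pow_left _ ((Nat.Prime.coprime_iff_not_dvd Nat.prime_two).mpr hm2)) hdvd dvd_rfl)
  -- the Frattini quotient has at most four elements
  set q := QuotientGroup.mk' (frattini X) with hq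
  have hq2 : ∀ y : X ⧸ frattini X, y * y = 1 := by
    intro y
    obtain ⟨x, rfl⟩ := QuotientGroup.mk_surjective y
    rw [← QuotientGroup.mk_mul, QuotientGroup.eq_one_iff, ← pow_two]
    exact Cfsg.Agent.Lib.Cores.pow_mem_frattini hX x
  have hinv : ∀ y : X ⧸ frattini X, y⁻¹ = y := fun y => inv_eq_of_mul_eq_one_right (hq2 y)
  have hcomm : ∀ y z : X ⧸ frattini X, y * z = z * y := fun y z => by
    rw [← hinv (y * z), mul_inv_rev, hinv, hinv]
  have hfour : ∀ x : X, q x = 1 ∨ q x = q g ∨ q x = q h ∨ q x = q g * q h := by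
    have e1 : q h * q g = q g * q h := hcomm _ _
    have e2 : q g * (q g * q h) = q h := by rw [← mul_assoc, hq2, one_mul]
    have e3 : q h * (q g * q h) = q g := by rw [← mul_assoc, e1, mul_assoc, hq2, mul_one]
    have e4 : q g * q h * q g = q h := by rw [hcomm, e2]
    have e5 : q g * q h * q h = q g := by rw [mul_assoc, hq2, mul_one]
    let T : Subgroup (X ⧸ frattini X) :=
      { carrier := {y | y = 1 ∨ y = q g ∨ y = q h ∨ y = q g * q h}
        one_mem' := Or.inl rfl
        mul_mem' := by
          intro y z hy hz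
          simp only [Set.mem_setOf_eq] at hy hz ⊢
          rcases hy with rfl | rfl | rfl | rfl <;> rcases hz with rfl | rfl | rfl | rfl <;>
            simp [hq2, e1, e2, e3, e4, e5]
        inv_mem' := by
          intro y hy
          rwa [hinv] }
    intro x
    have hle : closure ({g, h} : Set X) ≤ T.comap q := by
      rw [Subgroup.closure_le]
      rintro _ (rfl | rfl)
      · exact Or.inr (Or.inl rfl)
      · exact Or.inr (Or.inr (Or.inl rfl))
    exact hle (hgh ▸ mem_top x)
  -- the induced permutation of the quotient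
  have hβΦ : ∀ x, x ∈ frattini X → β x ∈ frattini X := fun x hx => by
    have := Subgroup.Characteristic.fixed (inferInstance : (frattini X).Characteristic) β
    exact (this.ge hx : x ∈ (frattini X).comap β.toMonoidHom)
  let f : X ⧸ frattini X →* X ⧸ frattini X := QuotientGroup.map _ _ β.toMonoidHom (fun x hx => hβΦ x hx)
  have hfq : ∀ x, f (q x) = q (β x) := fun x => rfl
  have hfi : ∀ y, f^[orderOf β] y = y := by
    intro y
    obtain ⟨x, rfl⟩ := QuotientGroup.mk_surjective y
    have : ∀ k, f^[k] (q x) = q ((β ^ k) x) := by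
      intro k
      induction k with
      | zero => simp
      | succ k ih => rw [Function.iterate_succ_apply', ih, hfq, pow_succ', MulAut.mul_apply]
    have h' := this (orderOf β)
    rwa [pow_orderOf_eq_one, MulAut.one_apply] at h'
  have hfinj : Function.Injective f := by
    intro y z hyz
    obtain ⟨j, hj⟩ := hodd
    have : f^[orderOf β] y = f^[orderOf β] z := by
      rw [hj, Function.iterate_add_apply, Function.iterate_add_apply, Function.iterate_one, hyz]
    rwa [hfi, hfi] at this
  have ha0 : q (β a) ≠ q a := fun he => ha (by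
    rw [← QuotientGroup.eq_one_iff]
    show q (β a * a⁻¹) = 1
    rw [map_mul, map_inv, he, mul_inv_cancel])
  have ha1 : q a ≠ 1 := fun he => ha0 (by rw [← hfq, he, map_one])
  have hb1 : q (β a) ≠ 1 := fun he => ha1 (hfinj (by rw [hfq, he, map_one]))
  have hab1 : q a * q (β a) ≠ 1 := fun he => ha0 (by
    rw [← hinv (q a)]
    exact eq_inv_of_mul_eq_one_right he)
  -- the four classes
  have four_eq : ∀ A B : X ⧸ frattini X, A ≠ 1 → B ≠ 1 → A ≠ B →
      ∀ y, y = 1 ∨ y = A ∨ y = B ∨ y = A * B := by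
    classical
    intro A B hA hB hne y
    haveI := Fintype.ofFinite (X ⧸ frattini X)
    by_contra hy
    push Not at hy
    obtain ⟨y1, y2, y3, y4⟩ := hy
    have hAB1 : A * B ≠ 1 := fun h => hne (by rw [← hinv A]; exact (eq_inv_of_mul_eq_one_right h).symm)
    have hABA : A * B ≠ A := fun h => hB (mul_eq_left.mp h)
    have hABB : A * B ≠ B := fun h => hA (mul_eq_right.mp h)
    have hle : (Finset.univ : Finset (X ⧸ frattini X)) ⊆ {1, q g, q h, q g * q h} := by
      intro w _
      obtain ⟨x, rfl⟩ := QuotientGroup.mk'_surjective _ w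
      simp only [Finset.mem_insert, Finset.mem_singleton]
      exact hfour x
    have h5 : ({1, A, B, A * B, y} : Finset (X ⧸ frattini X)).card = 5 := by
      rw [Finset.card_insert_of_notMem (by simp [Ne.symm hA, Ne.symm hB, Ne.symm hAB1, Ne.symm y1]),
        Finset.card_insert_of_notMem (by simp [hne, Ne.symm hABA, Ne.symm y2]),
        Finset.card_insert_of_notMem (by simp [Ne.symm hABB, Ne.symm y3]),
        Finset.card_pair (Ne.symm y4)]
    have := (Finset.card_le_card ((Finset.subset_univ ({1, A, B, A * B, y} : Finset _)).trans hle)).trans Finset.card_le_four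
    omega
  have hall : ∀ x : X, q x = 1 ∨ q x = q a ∨ q x = q (β a) ∨ q x = q a * q (β a) :=
    fun x => four_eq _ _ ha1 hb1 (Ne.symm ha0) (q x)
  have hmove : ∀ x, x ∉ frattini X → q (β x) ≠ q x := by
    intro x hx he
    have hx1 : q x ≠ 1 := fun h => hx ((QuotientGroup.eq_one_iff x).mp h)
    rcases hall x with e | e | e | e
    · exact hx1 e
    · exact ha0 (by rw [← hfq, ← e, hfq, he])
    · refine ha0 (hfinj ?_)
      rw [hfq a, ← e, hfq, he]
    · -- the third class is fixed, so `f` swaps the first two, against odd order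
      have hsum : f (q (β a)) = q a := by
        have h1 := he
        rw [← hfq, e, map_mul, hfq] at h1
        calc f (q (β a)) = (q (β a))⁻¹ * (q (β a) * f (q (β a))) := by group
          _ = (q (β a))⁻¹ * (q a * q (β a)) := by rw [h1]
          _ = q a := by rw [hcomm (q a), inv_mul_cancel_left]
      obtain ⟨j, hj⟩ := hodd
      have hev : ∀ i, f^[2 * i] (q a) = q a := by
        intro i
        induction i with
        | zero => rfl
        | succ i ih =>
          rw [show 2 * (i + 1) = 1 + (1 + 2 * i) by ring, Function.iterate_add_apply, Function.iterate_one,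
            Function.iterate_add_apply, Function.iterate_one, ih, hfq, hsum]
      have h2 := hfi (q a)
      rw [hj, add_comm, Function.iterate_add_apply, Function.iterate_one, hev, hfq] at h2
      exact ha0 h2
  refine ⟨fun x hx => ?_, a, fun h => ha1 ((QuotientGroup.eq_one_iff a).mpr h), fun h => hab1 ?_⟩
  · refine frattini_nongenerating (eq_top_iff.mpr fun y _ => ?_)
    have hx1 : q x ≠ 1 := fun h => hx ((QuotientGroup.eq_one_iff x).mp h)
    have hbx1 : q (β x) ≠ 1 := fun h => hx1 (hfinj (by rw [hfq, h, map_one]))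
    have hne := hmove x hx
    have hcl : ∀ w ∈ closure ({x, β x} : Set X), q y = q w → y ∈ closure ({x, β x} : Set X) ⊔ frattini X := by
      intro w hw he
      rw [show y = w * (w⁻¹ * y) by group]
      refine mul_mem_sup hw ?_
      rw [← QuotientGroup.eq]
      exact he.symm
    have hx' := Subgroup.subset_closure (show x ∈ ({x, β x} : Set X) from Or.inl rfl)
    have hbx' := Subgroup.subset_closure (show β x ∈ ({x, β x} : Set X) from Or.inr rfl)
    rcases four_eq _ _ hx1 hbx1 (Ne.symm hne) (q y) with hy | hy | hy | hy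
    · exact hcl 1 (one_mem _) (by rw [hy, map_one])
    · exact hcl x hx' hy
    · exact hcl (β x) hbx' hy
    · exact hcl (x * β x) (mul_mem hx' hbx') (by rw [hy, map_mul])
  · rw [← map_mul]; exact (QuotientGroup.eq_one_iff _).mpr h

/-- A finite metacyclic 2-group whose automorphism group is not a 2-group is isomorphic to the quaternion group of order 8 or to a homocyclic abelian group Z_{2^n} × Z_{2^n}. -/
theorem result {X : Type*} [Group X] [Finite X] (hX : IsPGroup 2 X)
    (hm : Cfsg.IsMetacyclic X) (hA : ¬ IsPGroup 2 (MulAut X)) :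
    Nonempty (X ≃* QuaternionGroup 2) ∨
      ∃ n : ℕ, Nonempty (X ≃* Multiplicative (ZMod (2 ^ n)) × Multiplicative (ZMod (2 ^ n))) := by
  haveI : Fact (Nat.Prime 2) := ⟨Nat.prime_two⟩
  obtain ⟨β, hodd, hmix⟩ := exists_mixing hX hm hA
  obtain ⟨a, ha, hab⟩ := hmix.rank
  set b := β a with hb
  have htop : closure ({a, b} : Set X) = ⊤ := hmix.gen a ha
  obtain ⟨N, hNn, hNc, hQc, hXN⟩ := commutator_le_cyclic hm
  have hX' : IsCyclic ↥(commutator X) := by
    haveI := hNc
    exact isCyclic_of_injective (Subgroup.inclusion hXN) (Subgroup.inclusion_injective hXN)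
  have hβX : ∀ x ∈ commutator X, β x ∈ commutator X := fun x hx => by
    have := Subgroup.Characteristic.fixed (inferInstance : (commutator X).Characteristic) β
    exact (this.ge hx : x ∈ (commutator X).comap β.toMonoidHom)
  have hfix := fix_cyclic hX hX' β hodd hβX
  have hbetaq : ∀ x, x ∈ commutator X ↔ β x ∈ commutator X := fun x =>
    ⟨hβX x, fun h => by
      have h' := hfix _ h
      have : β x = x := β.injective h'
      rwa [this] at h⟩
  -- exponent of the abelianization
  obtain ⟨n, hn⟩ := (IsPGroup.iff_orderOf.mp (hX.to_quotient (commutator X))) (QuotientGroup.mk a)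
  have han : a ^ 2 ^ n ∈ commutator X := by
    rw [← QuotientGroup.eq_one_iff, QuotientGroup.mk_pow, ← hn, pow_orderOf_eq_one]
  have hbn : b ^ 2 ^ n ∈ commutator X := by rw [hb, ← map_pow]; exact hβX _ han
  have hlow : ∀ k, k < n → a ^ 2 ^ k ∉ commutator X := fun k hk h => by
    rw [← QuotientGroup.eq_one_iff, QuotientGroup.mk_pow] at h
    have := Nat.le_of_dvd (by positivity) (orderOf_dvd_of_pow_eq_one h)
    rw [hn] at this
    exact absurd ((Nat.pow_le_pow_iff_right (by norm_num)).mp this) (by omega)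
  have hΦ : commutator X ≤ frattini X := Cfsg.Agent.Lib.Coprime.commutator_le_frattini_of_isPGroup hX
  have hn0 : n ≠ 0 := fun h => ha (hΦ (by simpa [h] using han))
  -- the homomorphism test: an invariant subgroup containing an element outside the Frattini subgroup is everything
  have htest : ∀ L : Subgroup X, (∀ x ∈ L, β x ∈ L) → ∀ x ∈ L, x ∉ frattini X → L = ⊤ := by
    intro L hL x hx hxΦ
    rw [eq_top_iff, ← hmix.gen x hxΦ, Subgroup.closure_le]
    rintro _ (rfl | rfl)
    · exact hx
    · exact hL x hx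
  by_cases hab' : commutator X = ⊥
  · -- abelian
    right
    have hcomm : ∀ x y : X, x * y = y * x := fun x y => by
      have : ⁅x, y⁆ ∈ commutator X := Subgroup.commutator_mem_commutator (mem_top x) (mem_top y)
      rw [hab', mem_bot] at this
      exact commutatorElement_eq_one_iff_mul_comm.mp this
    rw [hab', Subgroup.mem_bot] at han hbn
    have hao : orderOf a = 2 ^ n := by
      obtain ⟨k, hk, hke⟩ := (Nat.dvd_prime_pow Nat.prime_two).mp (orderOf_dvd_of_pow_eq_one han)
      rcases hk.lt_or_eq with hlt | rfl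
      · exfalso
        refine hlow k hlt ?_
        rw [← hke, pow_orderOf_eq_one]; exact one_mem _
      · exact hke
    have hbo : orderOf b = 2 ^ n := by rw [hb, MulEquiv.orderOf_eq, hao]
    refine ⟨n, ?_⟩
    letI : CommGroup X := { (inferInstance : Group X) with mul_comm := hcomm }
    let φ : Multiplicative (ZMod (2 ^ n)) × Multiplicative (ZMod (2 ^ n)) →* X :=
      (AddMonoidHom.toMultiplicativeLeft (ZMod.lift (2 ^ n) ⟨(zmultiplesHom (Additive X) (Additive.ofMul a)), by
          show ((2 ^ n : ℕ) : ℤ) • Additive.ofMul a = 0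
          rw [← ofMul_zpow, zpow_natCast, han]; rfl⟩)).coprod
      (AddMonoidHom.toMultiplicativeLeft (ZMod.lift (2 ^ n) ⟨(zmultiplesHom (Additive X) (Additive.ofMul b)), by
          show ((2 ^ n : ℕ) : ℤ) • Additive.ofMul b = 0
          rw [← ofMul_zpow, zpow_natCast, hbn]; rfl⟩))
    have hφ : ∀ i j : ℤ, φ (Multiplicative.ofAdd (i : ZMod (2 ^ n)), Multiplicative.ofAdd (j : ZMod (2 ^ n))) = a ^ i * b ^ j := by
      intro i j
      simp only [φ, MonoidHom.coprod_apply, AddMonoidHom.coe_toMultiplicativeLeft, Function.comp_apply,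
        toAdd_ofAdd, ZMod.lift_coe, zmultiplesHom_apply, toMul_zsmul, toMul_ofMul]
    have hsurj : Function.Surjective φ := by
      intro x
      have hle : closure ({a, b} : Set X) ≤ φ.range := by
        rw [Subgroup.closure_le]
        rintro _ (rfl | rfl)
        · exact ⟨_, by simpa using hφ 1 0⟩
        · exact ⟨_, by simpa using hφ 0 1⟩
      exact hle (htop ▸ mem_top x)
    refine ⟨(MulEquiv.ofBijective φ ⟨?_, hsurj⟩).symm⟩
    rw [injective_iff_map_eq_one]
    rintro ⟨u, v⟩ huv
    obtain ⟨i, hi⟩ := ZMod.intCast_surjective (Multiplicative.toAdd u)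
    obtain ⟨j, hj⟩ := ZMod.intCast_surjective (Multiplicative.toAdd v)
    have hu : u = Multiplicative.ofAdd (i : ZMod (2 ^ n)) := by rw [hi]; rfl
    have hv : v = Multiplicative.ofAdd (j : ZMod (2 ^ n)) := by rw [hj]; rfl
    rw [hu, hv] at huv ⊢
    rw [hφ] at huv
    -- the cyclic subgroups meet trivially
    by_cases hai : a ^ i = 1
    · rw [hai, one_mul] at huv
      rw [← orderOf_dvd_iff_zpow_eq_one, hao] at hai
      rw [← orderOf_dvd_iff_zpow_eq_one, hbo] at huv
      rw [(ZMod.intCast_zmod_eq_zero_iff_dvd _ _).mpr hai, (ZMod.intCast_zmod_eq_zero_iff_dvd _ _).mpr huv]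
      rfl
    · exfalso
      set w : X := a ^ 2 ^ (n - 1) with hw
      have hw1 : w ≠ 1 := fun h => hlow (n - 1) (by omega) (by rw [← hw, h]; exact one_mem _)
      -- both generators have the same involution
      have hwb : b ^ 2 ^ (n - 1) = w := by
        have hinvol : ∀ c : X, orderOf c = 2 ^ n → ∀ y ∈ zpowers c, y ≠ 1 → y * y = 1 → y = c ^ 2 ^ (n - 1) := by
          intro c hc y hy hy1 hy2
          obtain ⟨k, rfl⟩ := mem_zpowers_iff.mp hy
          rw [← zpow_add, ← orderOf_dvd_iff_zpow_eq_one, hc] at hy2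
          have hk1 : ((2 ^ (n - 1) : ℕ) : ℤ) ∣ k := by
            have h22 : ((2 ^ n : ℕ) : ℤ) = 2 * ((2 ^ (n - 1) : ℕ) : ℤ) := by
              rw [show (2 ^ n : ℕ) = 2 * 2 ^ (n - 1) by rw [← pow_succ']; congr 1; omega]
              push_cast; rfl
            rw [h22, ← two_mul] at hy2
            exact Int.dvd_of_mul_dvd_mul_left (by norm_num) hy2
          obtain ⟨l, rfl⟩ := hk1
          rcases Int.even_or_odd l with ⟨s, rfl⟩ | ⟨s, rfl⟩
          · exfalso; apply hy1
            rw [← orderOf_dvd_iff_zpow_eq_one, hc]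
            refine ⟨s, ?_⟩
            rw [show (2 ^ n : ℕ) = 2 * 2 ^ (n - 1) by rw [← pow_succ']; congr 1; omega]
            push_cast; ring
          · rw [← zpow_natCast c, zpow_eq_zpow_iff_modEq, hc, Int.modEq_iff_dvd]
            refine ⟨-s, ?_⟩
            rw [show (2 ^ n : ℕ) = 2 * 2 ^ (n - 1) by rw [← pow_succ']; congr 1; omega]
            push_cast; ring
        -- an involution in the intersection
        have hy : a ^ i ∈ zpowers b := by
          rw [eq_inv_of_mul_eq_one_left huv]
          exact inv_mem (zpow_mem_zpowers _ _)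
        obtain ⟨y, hyo⟩ := exists_prime_orderOf_dvd_card' (G := ↥(zpowers (a ^ i))) 2 (by
          rw [Nat.card_zpowers]
          obtain ⟨t, ht⟩ := (IsPGroup.iff_orderOf.mp hX) (a ^ i)
          rw [ht]
          refine dvd_pow_self 2 fun h0 => hai ?_
          rw [h0, pow_zero] at ht
          exact orderOf_eq_one_iff.mp ht)
        rw [← Subgroup.orderOf_coe] at hyo
        have hy1 : (y : X) ≠ 1 := fun h => by rw [h, orderOf_one] at hyo; norm_num at hyo
        have hy2 : (y : X) * y = 1 := by rw [← pow_two, ← hyo, pow_orderOf_eq_one]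
        rw [← hinvol b hbo y (zpowers_le.mpr hy y.2) hy1 hy2]
        exact hinvol a hao y (zpowers_le.mpr (zpow_mem_zpowers a i) y.2) hy1 hy2
      -- the kernel of the power map is invariant
      set p := powMonoidHom (α := X) (2 ^ (n - 1)) with hp
      have hinvL : ∀ x ∈ p.ker, β x ∈ p.ker := fun x hx => by
        rw [MonoidHom.mem_ker, hp, powMonoidHom_apply] at hx ⊢
        rw [← map_pow, hx, map_one]
      have hab2 : a * b ∈ p.ker := by
        rw [MonoidHom.mem_ker, hp, powMonoidHom_apply, mul_pow, hwb, ← pow_two, ← pow_mul,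
          ← pow_succ, show n - 1 + 1 = n by omega, han]
      have := htest p.ker hinvL _ hab2 hab
      have ha' : a ∈ p.ker := this ▸ mem_top a
      exact hw1 ha'
  left
  -- the squares of the derived subgroup
  obtain ⟨c0, hc0⟩ := hX'.exists_generator
  have hgen0 : ∀ x ∈ commutator X, ∃ k : ℤ, (c0 : X) ^ k = x := fun x hx => by
    obtain ⟨k, hk⟩ := mem_zpowers_iff.mp (hc0 ⟨x, hx⟩)
    exact ⟨k, congrArg Subtype.val hk⟩
  set K : Subgroup X := zpowers ((c0 : X) * c0) with hKdef
  haveI hKn : K.Normal := by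
    refine ⟨fun x hx y => ?_⟩
    obtain ⟨i, rfl⟩ := mem_zpowers_iff.mp hx
    obtain ⟨k, hk⟩ := hgen0 (y * c0 * y⁻¹) ((inferInstance : (commutator X).Normal).conj_mem _ c0.2 y)
    rw [← MulAut.conj_apply, map_zpow, map_mul, MulAut.conj_apply, ← hk, ← zpow_add, ← two_mul, zpow_mul,
      show (c0 : X) ^ (2 : ℤ) = c0 * c0 from zpow_two _]
    exact zpow_mem (zpow_mem_zpowers _ _) _
  have hc0K : (c0 : X) ∉ K := by
    intro h
    obtain ⟨i, hi⟩ := mem_zpowers_iff.mp h
    have hi' : (c0 : X) ^ (2 * i - 1) = 1 := by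
      rw [zpow_sub, zpow_one, zpow_mul, show (c0 : X) ^ (2 : ℤ) = c0 * c0 from zpow_two _, hi, mul_inv_cancel]
    obtain ⟨e, he⟩ := (IsPGroup.iff_orderOf.mp hX) (c0 : X)
    rw [← orderOf_dvd_iff_zpow_eq_one, he] at hi'
    rcases Nat.eq_zero_or_pos e with rfl | he0
    · refine hab' (eq_bot_iff.mpr fun x hx => ?_)
      obtain ⟨k, rfl⟩ := hgen0 x hx
      rw [pow_zero, orderOf_eq_one_iff] at he
      simp [he]
    · have : ((2 : ℕ) : ℤ) ∣ 2 * i - 1 :=
        dvd_trans (Int.natCast_dvd_natCast.mpr (dvd_pow_self 2 he0.ne')) hi'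
      omega
  set π := QuotientGroup.mk' K with hπ
  set c := π (c0 : X) with hc
  have hc2 : c * c = 1 := by
    rw [hc, ← map_mul]
    exact (QuotientGroup.eq_one_iff _).mpr (mem_zpowers _)
  have hc1 : c ≠ 1 := fun h => hc0K ((QuotientGroup.eq_one_iff _).mp h)
  have hcX : ∀ x ∈ commutator X, π x = 1 ∨ π x = c := by
    intro x hx
    obtain ⟨k, rfl⟩ := hgen0 x hx
    rw [map_zpow, ← hc]
    rcases Int.even_or_odd k with ⟨s, rfl⟩ | ⟨s, rfl⟩
    · exact Or.inl (by rw [zpow_add, ← (Commute.refl c).mul_zpow, hc2, one_zpow])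
    · exact Or.inr (by rw [zpow_add, zpow_one, two_mul, zpow_add, ← (Commute.refl c).mul_zpow, hc2, one_zpow, one_mul])
  have hcz : ∀ y : X ⧸ K, y * c = c * y := by
    intro y
    obtain ⟨x, rfl⟩ := QuotientGroup.mk'_surjective K y
    rcases hcX _ ((inferInstance : (commutator X).Normal).conj_mem _ c0.2 x) with h | h
    · exfalso
      rw [map_mul, map_mul, map_inv, ← hc, conj_eq_one_iff] at h
      exact hc1 h
    · rw [map_mul, map_mul, map_inv, ← hc, mul_inv_eq_iff_eq_mul] at h
      exact h
  have hcomW : ∀ y z : X ⧸ K, ⁅y, z⁆ = 1 ∨ ⁅y, z⁆ = c := by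
    intro y z
    obtain ⟨x, rfl⟩ := QuotientGroup.mk'_surjective K y
    obtain ⟨x', rfl⟩ := QuotientGroup.mk'_surjective K z
    rw [← map_commutatorElement]
    exact hcX _ (Subgroup.commutator_mem_commutator (mem_top x) (mem_top x'))
  have hsqc : ∀ y z : X ⧸ K, y * y * z = z * (y * y) := by
    intro y z
    rcases hcomW y z with h | h
    · have h' := commutatorElement_eq_one_iff_mul_comm.mp h
      rw [mul_assoc, h', ← mul_assoc, h', mul_assoc]
    · have h' : y * z = c * (z * y) := by
        rw [← h, commutatorElement_def]; group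
      calc y * y * z = y * (y * z) := mul_assoc _ _ _
        _ = y * c * (z * y) := by rw [h']; group
        _ = c * (y * z) * y := by rw [hcz y]; group
        _ = c * c * (z * (y * y)) := by rw [h']; group
        _ = z * (y * y) := by rw [hc2, one_mul]
  by_cases hn2 : 2 ≤ n
  · exfalso
    have hpowc : ∀ (y : X ⧸ K) (m : ℕ), Even m → ∀ z, y ^ m * z = z * y ^ m := by
      rintro y m ⟨s, rfl⟩ z
      rw [← two_mul, pow_mul, pow_two]
      exact ((show Commute (y * y) z from hsqc y z).pow_left s).eq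
    -- the top power map is a homomorphism
    have hmul : ∀ y z : X ⧸ K, (y * z) ^ 2 ^ n = y ^ 2 ^ n * z ^ 2 ^ n := by
      intro y z
      rw [show 2 ^ n = 2 * 2 ^ (n - 1) by rw [← pow_succ']; congr 1; omega, pow_mul, pow_mul, pow_mul,
        pow_two, pow_two, pow_two]
      have hcd : z⁻¹ * ⁅z⁻¹, y⁻¹⁆ * z = ⁅z⁻¹, y⁻¹⁆ := by
        rcases hcomW z⁻¹ y⁻¹ with h | h <;> rw [h]
        · rw [mul_one, inv_mul_cancel]
        · rw [mul_assoc, ← hcz z, inv_mul_cancel_left]
      have h1 : y * z * (y * z) = y * y * (z * z) * ⁅z⁻¹, y⁻¹⁆ := by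
        rw [← hcd, commutatorElement_def]; group
      have hd : ⁅z⁻¹, y⁻¹⁆ ^ 2 ^ (n - 1) = 1 := by
        rw [show 2 ^ (n - 1) = 2 * 2 ^ (n - 2) by rw [← pow_succ']; congr 1; omega, pow_mul, pow_two]
        rcases hcomW z⁻¹ y⁻¹ with h | h <;> rw [h] <;> simp [hc2]
      rw [h1, (show Commute (y * y * (z * z)) ⁅z⁻¹, y⁻¹⁆ from Commute.mul_left (hsqc y _) (hsqc z _)).mul_pow,
        (show Commute (y * y) (z * z) from hsqc y _).mul_pow, hd, mul_one]
    set L := (MonoidHom.mk' (fun y : X ⧸ K => y ^ 2 ^ n) hmul).comp π with hL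
    have hLker : ∀ x, x ∈ L.ker ↔ π (x ^ 2 ^ n) = 1 := fun x => by
      rw [MonoidHom.mem_ker, map_pow]; rfl
    have hinvL : ∀ x ∈ L.ker, β x ∈ L.ker := by
      intro x hx
      rw [hLker, ← map_pow] at *
      rw [hπ, QuotientGroup.mk'_apply, QuotientGroup.eq_one_iff] at hx ⊢
      rw [hfix _ (zpowers_le.mpr (mul_mem c0.2 c0.2) hx)]
      exact hx
    have hπb : π (b ^ 2 ^ n) = π (a ^ 2 ^ n) := by rw [hb, ← map_pow β, hfix _ han]
    have haL : a ∈ L.ker := by
      by_contra haL
      have hav := (hcX _ han).resolve_left (fun h => haL ((hLker a).mpr h))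
      have habL : a * b ∈ L.ker := by
        rw [MonoidHom.mem_ker, map_mul]
        show π a ^ 2 ^ n * π b ^ 2 ^ n = 1
        rw [← map_pow, ← map_pow, hπb, hav, hc2]
      exact haL ((htest _ hinvL _ habL hab).ge (mem_top a))
    have hA1 : π (a ^ 2 ^ n) = 1 := (hLker a).mp haL
    have hB1 : π (b ^ 2 ^ n) = 1 := hπb.trans hA1
    set A := π a ^ 2 ^ (n - 1) with hA'
    set B := π b ^ 2 ^ (n - 1) with hB'
    have hAA : A * A = 1 := by
      rw [hA', ← pow_two, ← pow_mul, ← pow_succ, show n - 1 + 1 = n by omega, ← map_pow, hA1]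
    have hBB : B * B = 1 := by
      rw [hB', ← pow_two, ← pow_mul, ← pow_succ, show n - 1 + 1 = n by omega, ← map_pow, hB1]
    have hAc : A * B = B * A := hpowc _ _ (Nat.even_pow.mpr ⟨even_two, by omega⟩) B
    -- involutions inside the image of `N`
    have hNinv : ∀ y ∈ N.map π, y * y = 1 → y = 1 ∨ y = c := by
      haveI := hNc
      have hcyc : IsCyclic ↥(N.map π) := isCyclic_of_surjective (π.subgroupMap N) (π.subgroupMap_surjective N)
      intro y hy hy2
      by_contra hcon
      push Not at hcon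
      haveI := Fintype.ofFinite ↥(N.map π)
      classical
      have hle := hcyc.card_pow_eq_one_le (α := ↥(N.map π)) (n := 2) (by norm_num)
      have hsub : ({1, ⟨c, mem_map_of_mem π (hXN c0.2)⟩, ⟨y, hy⟩} : Finset ↥(N.map π)) ⊆
          Finset.univ.filter (fun u => u ^ 2 = 1) := by
        intro u hu
        simp only [Finset.mem_insert, Finset.mem_singleton] at hu
        rcases hu with rfl | rfl | rfl <;> simp [pow_two, Subtype.ext_iff, hc2, hy2]
      have := (Finset.card_le_card hsub).trans hle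
      rw [Finset.card_insert_of_notMem (by simp [Subtype.ext_iff, Ne.symm hc1, Ne.symm hcon.1]),
        Finset.card_pair (by simp [Subtype.ext_iff, Ne.symm hcon.2])] at this
      omega
    have hback : ∀ x : X, π x = 1 ∨ π x = c → x ∈ commutator X := by
      intro x hx
      rcases hx with h | h
      · rw [hπ, QuotientGroup.mk'_apply, QuotientGroup.eq_one_iff] at h
        exact zpowers_le.mpr (mul_mem c0.2 c0.2) h
      · rw [hc, hπ, QuotientGroup.mk'_apply, QuotientGroup.mk'_apply, QuotientGroup.eq] at h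
        have h' := zpowers_le.mpr (mul_mem c0.2 c0.2) h
        have h'' := inv_mem h'
        rw [mul_inv_rev, inv_inv] at h''
        simpa using mul_mem c0.2 h''
    have hAN : A ∉ N.map π := fun h => by
      have := hNinv A h hAA
      rw [hA', ← map_pow] at this
      exact hlow (n - 1) (by omega) (hback _ this)
    have hBN : B ∉ N.map π := fun h => by
      have := hNinv B h hBB
      rw [hB', ← map_pow] at this
      have h2 : b ^ 2 ^ (n - 1) ∈ commutator X := hback _ this
      rw [hb, ← map_pow, ← hbetaq] at h2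
      exact hlow (n - 1) (by omega) h2
    haveI := hNn
    haveI : (N.map π).Normal := hNn.map π (QuotientGroup.mk'_surjective K)
    have hABN : A * B ∈ N.map π := by
      by_contra hAB
      -- the quotient by `N` is cyclic
      let g' : X ⧸ N →* (X ⧸ K) ⧸ N.map π := QuotientGroup.map N (N.map π) π (le_comap_map π N)
      have hg' : Function.Surjective g' := by
        intro y
        obtain ⟨z, rfl⟩ := QuotientGroup.mk_surjective y
        obtain ⟨x, rfl⟩ := QuotientGroup.mk'_surjective K z
        exact ⟨QuotientGroup.mk x, rfl⟩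
      haveI := hQc
      have hcyc : IsCyclic ((X ⧸ K) ⧸ N.map π) := isCyclic_of_surjective g' hg'
      haveI := Fintype.ofFinite ((X ⧸ K) ⧸ N.map π)
      classical
      have hle := hcyc.card_pow_eq_one_le (α := (X ⧸ K) ⧸ N.map π) (n := 2) (by norm_num)
      set r := QuotientGroup.mk' (N.map π)
      have hne : r A ≠ r B := fun h => hAB (by
        rw [QuotientGroup.mk'_apply, QuotientGroup.mk'_apply, QuotientGroup.eq] at h
        rwa [inv_eq_of_mul_eq_one_right hAA] at h)
      have hrA : r A ≠ 1 := fun h => hAN ((QuotientGroup.eq_one_iff A).mp h)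
      have hrB : r B ≠ 1 := fun h => hBN ((QuotientGroup.eq_one_iff B).mp h)
      have hsub : ({1, r A, r B} : Finset ((X ⧸ K) ⧸ N.map π)) ⊆ Finset.univ.filter (fun u => u ^ 2 = 1) := by
        intro u hu
        simp only [Finset.mem_insert, Finset.mem_singleton] at hu
        rcases hu with rfl | rfl | rfl <;> simp [pow_two, ← map_mul, hAA, hBB]
      have := (Finset.card_le_card hsub).trans hle
      rw [Finset.card_insert_of_notMem (by simp [Ne.symm hrA, Ne.symm hrB]), Finset.card_pair hne] at this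
      omega
    have hABi : A * B * (A * B) = 1 := by
      rw [mul_assoc, ← mul_assoc B, ← hAc, mul_assoc A, hBB, mul_one, hAA]
    have hAB1 : π (a ^ 2 ^ (n - 1) * b ^ 2 ^ (n - 1)) = 1 ∨ π (a ^ 2 ^ (n - 1) * b ^ 2 ^ (n - 1)) = c := by
      rw [map_mul, map_pow, map_pow]
      exact hNinv _ hABN hABi
    have hab3 := hback _ hAB1
    -- work in the abelianization
    set q := (powMonoidHom (α := Abelianization X) (2 ^ (n - 1))).comp Abelianization.of with hq
    have hqker : ∀ x, x ∈ q.ker ↔ x ^ 2 ^ (n - 1) ∈ commutator X := fun x => by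
      rw [MonoidHom.mem_ker, hq, MonoidHom.comp_apply, powMonoidHom_apply, ← map_pow, ← MonoidHom.mem_ker,
        Abelianization.ker_of]
    have habq : a * b ∈ q.ker := by
      rw [MonoidHom.mem_ker, map_mul, hq, MonoidHom.comp_apply, MonoidHom.comp_apply, powMonoidHom_apply,
        powMonoidHom_apply, ← map_pow, ← map_pow, ← map_mul, ← MonoidHom.mem_ker, Abelianization.ker_of]
      exact hab3
    have hinvq : ∀ x ∈ q.ker, β x ∈ q.ker := fun x hx => by
      rw [hqker] at hx ⊢
      rw [← map_pow]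
      exact hβX _ hx
    exact hlow (n - 1) (by omega) ((hqker a).mp ((htest _ hinvq _ habq hab).ge (mem_top a)))
  -- exponent two abelianization
  have hn1 : n = 1 := by omega
  subst hn1
  rw [pow_one] at han hbn
  have hsqX : ∀ x : X, x * x ∈ commutator X := by
    set q := (powMonoidHom (α := Abelianization X) 2).comp Abelianization.of with hq
    have hqker : ∀ x, x ∈ q.ker ↔ x ^ 2 ∈ commutator X := fun x => by
      rw [MonoidHom.mem_ker, hq, MonoidHom.comp_apply, powMonoidHom_apply, ← map_pow, ← MonoidHom.mem_ker,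
        Abelianization.ker_of]
    intro x
    have hle : closure ({a, b} : Set X) ≤ q.ker := by
      rw [Subgroup.closure_le]
      rintro _ (rfl | rfl)
      · exact (hqker _).mpr han
      · exact (hqker _).mpr hbn
    rw [← pow_two]
    exact (hqker x).mp (hle (htop ▸ mem_top x))
  haveI := hNn
  have hNtop : N ≠ ⊤ := by
    intro h
    refine hab' ?_
    rw [_root_.commutator_def, eq_bot_iff, Subgroup.commutator_le]
    intro y _ x _
    rw [mem_bot, commutatorElement_eq_one_iff_mul_comm]
    haveI := hNc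
    exact congrArg Subtype.val ((IsCyclic.commutative (α := ↥N)).is_comm.comm (⟨y, h.ge (mem_top y)⟩ : ↥N) ⟨x, h.ge (mem_top x)⟩)
  -- `N` contains an element outside the Frattini subgroup
  obtain ⟨g, hgN, hgΦ⟩ : ∃ g ∈ N, g ∉ frattini X := by
    by_contra hcon
    push Not at hcon
    obtain ⟨d, hd⟩ := hQc.exists_generator
    have hone : ∀ x : X, (x : X ⧸ N) = 1 ∨ (x : X ⧸ N) = d := by
      intro x
      obtain ⟨k, hk⟩ := mem_zpowers_iff.mp (hd x)
      obtain ⟨d', hd'⟩ := QuotientGroup.mk_surjective d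
      have hdd : d * d = 1 := by
        rw [← hd', ← QuotientGroup.mk_mul, QuotientGroup.eq_one_iff]
        exact hXN (hsqX d')
      rw [← hk]
      rcases Int.even_or_odd k with ⟨s, rfl⟩ | ⟨s, rfl⟩
      · exact Or.inl (by rw [zpow_add, ← (Commute.refl d).mul_zpow, hdd, one_zpow])
      · exact Or.inr (by rw [zpow_add, zpow_one, two_mul, zpow_add, ← (Commute.refl d).mul_zpow, hdd, one_zpow, one_mul])
    have hbΦ : b ∉ frattini X := fun h => ha (by
      have hinvb : ∀ x ∈ frattini X, β.symm x ∈ frattini X := fun x hx => by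
        have := Subgroup.Characteristic.fixed (inferInstance : (frattini X).Characteristic) β.symm
        exact (this.ge hx : x ∈ (frattini X).comap β.symm.toMonoidHom)
      simpa [hb] using hinvb b h)
    rcases hone a with ea | ea
    · exact ha (hcon a ((QuotientGroup.eq_one_iff a).mp ea))
    rcases hone b with eb | eb
    · exact hbΦ (hcon b ((QuotientGroup.eq_one_iff b).mp eb))
    refine hab (hcon _ ((QuotientGroup.eq_one_iff (a * b)).mp ?_))
    obtain ⟨d', hd'⟩ := QuotientGroup.mk_surjective d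
    rw [QuotientGroup.mk_mul, ea, eb, ← hd', ← QuotientGroup.mk_mul, QuotientGroup.eq_one_iff]
    exact hXN (hsqX d')
  set g' := β g with hg'
  have hgtop : closure ({g, g'} : Set X) = ⊤ := hmix.gen g hgΦ
  have hcen : ∀ x ∈ commutator X, ∀ y, y * x = x * y := by
    intro x hx
    have hle : closure ({g, g'} : Set X) ≤ centralizer ({x} : Set X) := by
      rw [Subgroup.closure_le]
      haveI := hNc
      have h1 : g * x = x * g := congrArg Subtype.val ((IsCyclic.commutative (α := ↥N)).is_comm.comm (⟨g, hgN⟩ : ↥N) ⟨x, hXN hx⟩)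
      rintro _ (rfl | rfl)
      · exact mem_centralizer_singleton_iff.mpr h1
      · refine mem_centralizer_singleton_iff.mpr ?_
        have := congrArg β h1
        rwa [map_mul, map_mul, hfix x hx] at this
    exact fun y => mem_centralizer_singleton_iff.mp (hle (hgtop ▸ mem_top y))
  set c1 := ⁅g, g'⁆ with hc1def
  have hc1X : c1 ∈ commutator X := Subgroup.commutator_mem_commutator (mem_top g) (mem_top g')
  have hc11 : c1 * c1 = 1 := by
    have h1 : g * g' = c1 * (g' * g) := by rw [hc1def, commutatorElement_def]; group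
    have h2 : g * g * g' = g' * (g * g) := (hcen _ (hsqX g) g').symm
    have h3 : g * g * g' = c1 * c1 * (g' * (g * g)) := by
      calc g * g * g' = g * (g * g') := mul_assoc _ _ _
        _ = g * c1 * (g' * g) := by rw [h1]; group
        _ = c1 * (g * g') * g := by rw [hcen c1 hc1X g]; group
        _ = c1 * c1 * (g' * (g * g)) := by rw [h1]; group
    rw [h2] at h3
    exact mul_eq_right.mp h3.symm
  have hX'le : commutator X ≤ zpowers c1 := by
    haveI : (zpowers c1).Normal := ⟨fun x hx y => by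
      rwa [hcen x (zpowers_le.mpr hc1X hx) y, mul_inv_cancel_right]⟩
    refine Subgroup.Normal.quotient_commutative_iff_commutator_le.mp ⟨⟨fun u v => ?_⟩⟩
    obtain ⟨u, rfl⟩ := QuotientGroup.mk_surjective u
    obtain ⟨v, rfl⟩ := QuotientGroup.mk_surjective v
    set q := QuotientGroup.mk' (zpowers c1)
    have hgg : q g * q g' = q g' * q g := by
      rw [← commutatorElement_eq_one_iff_mul_comm, ← map_commutatorElement]
      exact (QuotientGroup.eq_one_iff _).mpr (mem_zpowers c1)
    have hcl : ∀ w, q w * q g = q g * q w ∧ q w * q g' = q g' * q w := by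
      intro w
      have : closure ({g, g'} : Set X) ≤ (centralizer ({q g, q g'} : Set (X ⧸ zpowers c1))).comap q := by
        rw [Subgroup.closure_le]
        rintro _ (rfl | rfl) <;> rw [SetLike.mem_coe, Subgroup.mem_comap, mem_centralizer_iff] <;>
          rintro _ (rfl | rfl) <;> first | rfl | exact hgg | exact hgg.symm
      have hw := mem_centralizer_iff.mp (this (hgtop ▸ mem_top w))
      exact ⟨(hw _ (Or.inl rfl)).symm, (hw _ (Or.inr rfl)).symm⟩
    have : closure ({g, g'} : Set X) ≤ (centralizer ({q u} : Set (X ⧸ zpowers c1))).comap q := by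
      rw [Subgroup.closure_le]
      rintro _ (rfl | rfl) <;> rw [SetLike.mem_coe, Subgroup.mem_comap, mem_centralizer_singleton_iff]
      · exact (hcl u).1.symm
      · exact (hcl u).2.symm
    exact (mem_centralizer_singleton_iff.mp (this (hgtop ▸ mem_top v))).symm
  have hcases : ∀ x ∈ commutator X, x = 1 ∨ x = c1 := by
    intro x hx
    obtain ⟨k, rfl⟩ := mem_zpowers_iff.mp (hX'le hx)
    rcases Int.even_or_odd k with ⟨s, rfl⟩ | ⟨s, rfl⟩
    · exact Or.inl (by rw [zpow_add, ← (Commute.refl c1).mul_zpow, hc11, one_zpow])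
    · exact Or.inr (by rw [zpow_add, zpow_one, two_mul, zpow_add, ← (Commute.refl c1).mul_zpow, hc11, one_zpow, one_mul])
  have hc1ne : c1 ≠ 1 := fun h => hab' (eq_bot_iff.mpr fun x hx => by
    rcases hcases x hx with e | e
    · simp [e]
    · simp [e, h])
  have hg2 : g * g = c1 := by
    refine (hcases _ (hsqX g)).resolve_left fun h => hgΦ ?_
    haveI := hNc
    classical
    haveI := Fintype.ofFinite ↥N
    by_contra hg
    have hne : g ≠ c1 := fun e => hg (e ▸ hΦ hc1X)
    have hg1 : g ≠ 1 := fun e => hg (e ▸ one_mem _)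
    have hle := hNc.card_pow_eq_one_le (α := ↥N) (n := 2) (by norm_num)
    have hsub : ({1, ⟨c1, hXN hc1X⟩, ⟨g, hgN⟩} : Finset ↥N) ⊆ Finset.univ.filter (fun u => u ^ 2 = 1) := by
      intro u hu
      simp only [Finset.mem_insert, Finset.mem_singleton] at hu
      rcases hu with rfl | rfl | rfl <;> simp [pow_two, Subtype.ext_iff, hc11, h]
    have := (Finset.card_le_card hsub).trans hle
    rw [Finset.card_insert_of_notMem (by simp [Subtype.ext_iff, Ne.symm hc1ne, Ne.symm hg1]),
      Finset.card_pair (by simp [Subtype.ext_iff, Ne.symm hne])] at this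
    omega
  have hg'2 : g' * g' = c1 := by rw [hg', ← map_mul, hg2, hfix c1 hc1X]
  have hgo : orderOf g = 2 * 2 := by
    rw [show (2 : ℕ) * 2 = 2 ^ (1 + 1) from rfl]
    refine orderOf_eq_prime_pow ?_ ?_
    · rw [pow_one, pow_two, hg2]; exact hc1ne
    · rw [show (2 : ℕ) ^ (1 + 1) = 2 * 2 from rfl, pow_mul, pow_two g, hg2, pow_two, hc11]
  have hg'g : g' ∉ zpowers g := by
    intro h
    refine hab' (eq_bot_iff.mpr fun x hx => ?_)
    rcases hcases x hx with e | e
    · simp [e]
    · obtain ⟨k, hk⟩ := mem_zpowers_iff.mp h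
      rw [e, hc1def, ← hk, Subgroup.mem_bot, commutatorElement_eq_one_iff_mul_comm]
      exact ((Commute.refl g).zpow_right k).eq
  have hconj : g' * g * g'⁻¹ = g⁻¹ := by
    have h1 : g * g' = c1 * (g' * g) := by rw [hc1def, commutatorElement_def]; group
    have h2 : g' * g * g'⁻¹ = c1⁻¹ * g := by
      rw [mul_inv_eq_iff_eq_mul, mul_assoc, h1, inv_mul_cancel_left]
    rw [h2, ← hg2]; group
  obtain ⟨F, hF, hF1, hF0⟩ := Cfsg.Agent.Lib.Involutions.exists_quaternionHom (m := 2) hgo
    (by rw [hg'2, ← hg2, zpow_natCast, pow_two]) hg'g hconj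
  refine ⟨(MulEquiv.ofBijective F ⟨hF, fun x => ?_⟩).symm⟩
  have hr : closure ({g, g'} : Set X) ≤ F.range := by
    rw [Subgroup.closure_le]
    rintro _ (rfl | rfl)
    · exact ⟨_, hF1⟩
    · exact ⟨_, hF0⟩
  exact hr (hgtop ▸ mem_top x)

end Cfsg.Agent.S1896
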