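import Cfsg.Statements.S1898
-- import your own Cfsg.Agent.* helpers here

set_option autoImplicit false
open scoped commutatorElement
open Cfsg

namespace Cfsg.Agent.S1898

/-- Let X be a finite 2-group whose derived subgroup is elementary abelian and central. Then the subgroup generated by the elements of order dividing 4 has exponent dividing 4, and every automorphism of X fixing each element of order dividing 4 has 2-power order. -/
theorem result {X : Type*} [Group X] [Finite X] (hX : IsPGroup 2 X)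
    (hel : Cfsg.IsElementaryAbelian 2 (commutator X)) (hcen : commutator X ≤ Subgroup.center X) :
    (∀ x ∈ Subgroup.closure {g : X | g ^ 4 = 1}, x ^ 4 = 1) ∧
      ∀ φ : MulAut X, (∀ g : X, g ^ 4 = 1 → φ g = g) → ∃ k : ℕ, φ ^ (2 ^ k) = 1 := by
  haveI := hel.1
  have hcs : ∀ a b : X, ⁅a, b⁆ * ⁅a, b⁆ = 1 := by
    intro a b
    rw [← sq]; exact hel.2 _ (Subgroup.commutator_mem_commutator (Subgroup.mem_top _) (Subgroup.mem_top _))
  have hcc : ∀ a b y : X, y * ⁅a, b⁆ = ⁅a, b⁆ * y := fun a b y =>
    Subgroup.mem_center_iff.1 (hcen (Subgroup.commutator_mem_commutator (Subgroup.mem_top _) (Subgroup.mem_top _))) y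
  have hsq : ∀ a b : X, (a * b) ^ 2 = a ^ 2 * b ^ 2 * ⁅a⁻¹, b⁆ := by
    intro a b
    calc (a * b) ^ 2 = a * a * ⁅a⁻¹, b⁆ * (b * b) := by rw [commutatorElement_def, sq]; group
      _ = a * a * ((b * b) * ⁅a⁻¹, b⁆) := by rw [mul_assoc, hcc a⁻¹ b (b * b)]
      _ = _ := by simp only [sq, mul_assoc]
  have hp4 : ∀ a b : X, (a * b) ^ 4 = a ^ 4 * b ^ 4 := by
    intro a b
    have e : (a * b) ^ 4 = ((a * b) ^ 2) ^ 2 := by rw [← pow_mul]
    rw [e, hsq]
    have h1 : Commute (a ^ 2 * b ^ 2) ⁅a⁻¹, b⁆ := hcc _ _ _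
    rw [h1.mul_pow, sq ⁅a⁻¹, b⁆, hcs, mul_one, hsq, ← pow_mul, ← pow_mul]
    have : ⁅(a ^ 2)⁻¹, b ^ 2⁆ = 1 := by
      have key : ∀ u v : X, ⁅u, v ^ 2⁆ = 1 := by
        intro u v
        have : ⁅u, v ^ 2⁆ = ⁅u, v⁆ * (v * ⁅u, v⁆ * v⁻¹) := by
          simp only [commutatorElement_def, sq]; group
        rw [this, hcc u v v]; simp [mul_assoc, hcs]
      exact key _ _
    rw [this, mul_one]
  refine ⟨fun x hx => ?_, fun φ hφ => ?_⟩
  · induction hx using Subgroup.closure_induction with
    | mem y hy => exact hy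
    | one => simp
    | mul a b _ _ ha hb => rw [hp4, ha, hb, one_mul]
    | inv a _ ha => rw [inv_pow, ha, inv_one]
  · obtain ⟨k, m, hm, hkm⟩ := Nat.exists_eq_two_pow_mul_odd (n := orderOf φ) (orderOf_pos φ).ne'
    refine ⟨k, ?_⟩
    set ψ := φ ^ 2 ^ k with hψd
    have hψm : ψ ^ m = 1 := by rw [hψd, ← pow_mul, ← hkm, pow_orderOf_eq_one]
    have hψfix : ∀ g : X, g ^ 4 = 1 → ψ g = g := by
      intro g hg
      have : ∀ j : ℕ, (φ ^ j) g = g := by
        intro j; induction j with
        | zero => rfl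
        | succ j ih => rw [pow_succ, MulAut.mul_apply, hφ g hg, ih]
      exact this _
    have key : ∀ j, ∀ x : X, x ^ 2 ^ j = 1 → ψ x = x := by
      intro j
      induction j with
      | zero => intro x hx; simp at hx; simp [hx]
      | succ j ih =>
        intro x hx
        have hx2 : ψ (x ^ 2) = x ^ 2 := ih _ (by rw [← pow_mul, ← pow_succ']; exact hx)
        set c := x⁻¹ * ψ x with hc
        have hψx : ψ x = x * c := by rw [hc]; group
        rw [map_pow, hψx, hsq, mul_assoc] at hx2
        have hc2 : c ^ 2 * ⁅x⁻¹, c⁆ = 1 := mul_left_cancel (a := x ^ 2) (by rw [hx2, mul_one])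
        have hc4 : c ^ 4 = 1 := by
          rw [show c ^ 4 = (c ^ 2) ^ 2 by rw [← pow_mul], eq_inv_of_mul_eq_one_left hc2, inv_pow, sq, hcs, inv_one]
        have hpow : ∀ i : ℕ, (ψ ^ i) x = x * c ^ i := by
          intro i
          induction i with
          | zero => simp
          | succ i ih => rw [pow_succ', MulAut.mul_apply, ih, map_mul, hψx, map_pow, hψfix c hc4, pow_succ', mul_assoc]
        have hcm : c ^ m = 1 := by
          have := hpow m
          rw [hψm, MulAut.one_apply] at this
          exact mul_left_cancel (a := x) (by rw [← this, mul_one])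
        have hco : Nat.Coprime 4 m := by
          have : Nat.Coprime 2 m := Nat.coprime_two_left.2 hm
          exact Nat.Coprime.pow_left 2 this
        have : c = 1 := by
          have := (pow_gcd_eq_one).2 ⟨hc4, hcm⟩
          rwa [hco.gcd_eq_one, pow_one] at this
        rw [hψx, this, mul_one]
    ext x
    obtain ⟨j, hj⟩ := hX x
    exact key j x hj

end Cfsg.Agent.S1898
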