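import Cfsg.Statements.S1899
-- import your own Cfsg.Agent.* helpers here

set_option autoImplicit false
open Cfsg

namespace Cfsg.Agent.S1899

/-- Let a dihedral group of order 2n, n odd and n > 1, act on a finite abelian 2-group A through automorphisms d and t with d^n = 1, t² = 1 and t d t⁻¹ = d⁻¹, and suppose that d fixes only the identity. Then A is the internal direct product of C_A(t) and its image under d. -/
theorem result {A : Type*} [CommGroup A] [Finite A] (hA : IsPGroup 2 A)
    {n : ℕ} (hn : Odd n) (hn1 : 1 < n) (d t : MulAut A) (hd : d ^ n = 1) (ht : t ^ 2 = 1) (hdt : t * d * t⁻¹ = d⁻¹)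
    (hfix : ∀ a : A, d a = a → a = 1) :
    (MulEquiv.toMonoidHom t).eqLocus (MonoidHom.id A) ⊓ ((MulEquiv.toMonoidHom t).eqLocus (MonoidHom.id A)).map d.toMonoidHom = ⊥ ∧
      (MulEquiv.toMonoidHom t).eqLocus (MonoidHom.id A) ⊔ ((MulEquiv.toMonoidHom t).eqLocus (MonoidHom.id A)).map d.toMonoidHom = ⊤ := by
  set C := (MulEquiv.toMonoidHom t).eqLocus (MonoidHom.id A) with hCdef
  have memC : ∀ a, a ∈ C ↔ t a = a := fun a => Iff.rfl
  have htt : ∀ a, t (t a) = a := by
    intro a
    have := congrArg (fun f : MulAut A => f a) ht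
    simpa [sq] using this
  have htd : ∀ a, t (d a) = d⁻¹ (t a) := by
    intro a
    have := congrArg (fun f : MulAut A => f (t a)) hdt
    simp only [MulAut.mul_apply] at this
    have hi : t⁻¹ (t a) = a := by simp
    rw [hi] at this
    exact this
  have memD : ∀ b, b ∈ C.map d.toMonoidHom ↔ d (d (t b)) = b := by
    intro b
    constructor
    · rintro ⟨c, hc, rfl⟩
      show d (d (t (d c))) = d c
      rw [htd, (memC c).1 hc]; simp
    · intro hb
      refine ⟨d⁻¹ b, ?_, by simp⟩
      show d⁻¹ b ∈ C
      rw [memC]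
      apply d.injective
      have h1 : d⁻¹ (d (d (t b))) = d⁻¹ b := by rw [hb]
      have h2 : t (d⁻¹ b) = d (t b) := by
        have := htd (d⁻¹ b)
        simp only [MulAut.apply_inv_self] at this
        rw [this]; simp
      rw [h2, hb]; simp
  have hd2 : ∀ a, d (d a) = a → a = 1 := by
    intro a ha
    apply hfix
    obtain ⟨j, rfl⟩ := hn
    have hpow : ∀ i : ℕ, (d ^ (2 * i)) a = a := by
      intro i; induction i with
      | zero => rfl
      | succ i ih => rw [Nat.mul_succ, pow_add, MulAut.mul_apply, sq, MulAut.mul_apply, ha, ih]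
    have := congrArg (fun f : MulAut A => f a) hd
    simp only [MulAut.one_apply] at this
    rw [pow_succ', MulAut.mul_apply, hpow] at this
    exact this
  have hbot : C ⊓ C.map d.toMonoidHom = ⊥ := by
    rw [eq_bot_iff]
    rintro a ⟨ha, ha'⟩
    have h := (memD a).1 ha'
    rw [(memC a).1 ha] at h
    exact hd2 a h
  refine ⟨hbot, ?_⟩
  let f : A → C × (C.map d.toMonoidHom) := fun a =>
    (⟨a * t a, by rw [memC, map_mul, htt, mul_comm]⟩,
     ⟨a * d (d (t a)), by
        rw [memD, map_mul, map_mul, map_mul]
        have : d (d (t (d (d (t a))))) = a := by rw [htd, htd, htt]; simp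
        rw [this, mul_comm]⟩)
  have hf : Function.Injective f := by
    intro a b hab
    have e1 : a * t a = b * t b := congrArg Subtype.val (congrArg Prod.fst hab)
    have e2 : a * d (d (t a)) = b * d (d (t b)) := congrArg Subtype.val (congrArg Prod.snd hab)
    have g1 : a / b * t (a / b) = 1 := by rw [map_div, div_mul_div_comm, e1, div_self']
    have g2 : a / b * d (d (t (a / b))) = 1 := by rw [map_div, map_div, map_div, div_mul_div_comm, e2, div_self']
    have : d (d (t (a / b))) = t (a / b) := mul_left_cancel (g2.trans g1.symm)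
    have h1 : t (a / b) = 1 := hd2 _ this
    rw [h1, mul_one] at g1
    exact div_eq_one.1 g1
  apply Subgroup.eq_top_of_le_card
  have h1 : Nat.card A ≤ Nat.card (C × (C.map d.toMonoidHom)) := Nat.card_le_card_of_injective f hf
  let g : C × (C.map d.toMonoidHom) → ↥(C ⊔ C.map d.toMonoidHom) :=
    fun x => ⟨(x.1 : A) * x.2, Subgroup.mul_mem_sup x.1.2 x.2.2⟩
  have hg : Function.Injective g := by
    intro x y h
    have := Subgroup.mul_injective_of_disjoint (disjoint_iff.2 hbot) (congrArg Subtype.val h)
    exact this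
  exact h1.trans (Nat.card_le_card_of_injective g hg)

end Cfsg.Agent.S1899
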