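import Cfsg.Statements.S1900
import Mathlib
import Cfsg.Agent.Lib.Coprime
-- import your own Cfsg.Agent.* helpers here

set_option autoImplicit false
open Cfsg

namespace Cfsg.Agent.S1900

open Cfsg.Agent.Lib.Coprime

universe u

section

variable {G : Type u} [Group G] [Finite G] {p q : ℕ} [Fact q.Prime]

theorem zpowers_eq_of_card_prime {X : Subgroup G} (hX : Nat.card X = q) {a : G} (ha : a ∈ X)
    (ha1 : a ≠ 1) : Subgroup.zpowers a = X := by
  refine Subgroup.eq_of_le_of_card_ge (Subgroup.zpowers_le.2 ha) ?_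
  rw [Nat.card_zpowers, hX]
  have h := Subgroup.orderOf_dvd_natCard X ha
  rw [hX] at h
  rcases (Fact.out : q.Prime).eq_one_or_self_of_dvd _ h with h1 | h1
  · exact absurd (orderOf_eq_one_iff.1 h1) ha1
  · exact h1.ge

theorem centralizer_eq_of_card_prime {X : Subgroup G} (hX : Nat.card X = q) {a : G} (ha : a ∈ X)
    (ha1 : a ≠ 1) : Subgroup.centralizer ({a} : Set G) = Subgroup.centralizer (X : Set G) := by
  rw [← zpowers_eq_of_card_prime hX ha ha1, Subgroup.zpowers_eq_closure, Subgroup.centralizer_closure]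

/-- The hypotheses on `Q`, `X₁`, `X₂` acting on `P`. -/
structure Setup (p q : ℕ) (P Q X₁ X₂ : Subgroup G) : Prop where
  normal : P.Normal
  pgroup : IsPGroup p P
  comm : ∀ a ∈ Q, ∀ b ∈ Q, a * b = b * a
  expo : ∀ a ∈ Q, a ^ q = 1
  card : Nat.card Q = q ^ 2
  le₁ : X₁ ≤ Q
  le₂ : X₂ ≤ Q
  ne : X₁ ≠ X₂
  card₁ : Nat.card X₁ = q
  card₂ : Nat.card X₂ = q
  fpf : ∀ y ∈ Q, y ∉ X₁ → y ∉ X₂ → P ⊓ Subgroup.centralizer ({y} : Set G) = ⊥

theorem Setup.symm {P Q X₁ X₂ : Subgroup G} (h : Setup p q P Q X₁ X₂) : Setup p q P Q X₂ X₁ :=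
  ⟨h.normal, h.pgroup, h.comm, h.expo, h.card, h.le₂, h.le₁, h.ne.symm, h.card₂, h.card₁,
    fun y hy h2 h1 => h.fpf y hy h1 h2⟩

theorem Setup.disjoint {P Q X₁ X₂ : Subgroup G} (h : Setup p q P Q X₁ X₂) {z : G} (hz : z ∈ P)
    (h1 : z ∈ Subgroup.centralizer (X₁ : Set G)) (h2 : z ∈ Subgroup.centralizer (X₂ : Set G)) :
    z = 1 := by
  haveI : Nontrivial X₁ := Finite.one_lt_card_iff_nontrivial.1 (h.card₁ ▸ (Fact.out : q.Prime).one_lt)
  haveI : Nontrivial X₂ := Finite.one_lt_card_iff_nontrivial.1 (h.card₂ ▸ (Fact.out : q.Prime).one_lt)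
  obtain ⟨⟨a, ha⟩, ha1⟩ := exists_ne (1 : X₁)
  obtain ⟨⟨b, hb⟩, hb1⟩ := exists_ne (1 : X₂)
  have ha1' : a ≠ 1 := fun e => ha1 (Subtype.ext e)
  have hb1' : b ≠ 1 := fun e => hb1 (Subtype.ext e)
  have hna : a * b ∉ X₁ := fun e => h.ne (by
    rw [← zpowers_eq_of_card_prime h.card₂ hb hb1']
    refine (zpowers_eq_of_card_prime h.card₁ ?_ hb1').symm
    have := mul_mem (inv_mem ha) e
    rwa [inv_mul_cancel_left] at this)
  have hnb : a * b ∉ X₂ := fun e => h.ne (by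
    rw [← zpowers_eq_of_card_prime h.card₁ ha ha1']
    refine zpowers_eq_of_card_prime h.card₂ ?_ ha1'
    have := mul_mem e (inv_mem hb)
    rwa [mul_inv_cancel_right] at this)
  have hmem : z ∈ P ⊓ Subgroup.centralizer ({a * b} : Set G) := by
    refine Subgroup.mem_inf.2 ⟨hz, Subgroup.mem_centralizer_singleton_iff.2 ?_⟩
    have e1 : a * z = z * a := Subgroup.mem_centralizer_iff.1 h1 a ha
    have e2 : b * z = z * b := Subgroup.mem_centralizer_iff.1 h2 b hb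
    calc z * (a * b) = a * z * b := by rw [e1, mul_assoc]
      _ = a * b * z := by rw [mul_assoc, ← e2, mul_assoc]
  rwa [h.fpf _ (mul_mem (h.le₁ ha) (h.le₂ hb)) hna hnb, Subgroup.mem_bot] at hmem

theorem Setup.coprime [Fact p.Prime] {P Q X₁ X₂ : Subgroup G} (h : Setup p q P Q X₁ X₂) (hpq : p ≠ q) :
    (Nat.card Q).Coprime (Nat.card P) := by
  obtain ⟨n, hn⟩ := h.pgroup.exists_card_eq
  rw [h.card, hn]
  exact Nat.Coprime.pow _ _ ((Nat.coprime_primes Fact.out Fact.out).2 hpq.symm)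

/-- `K = C_K(X₁) C_K(X₂)` for `Q`-invariant `K ≤ P`. -/
theorem Setup.generate [Fact p.Prime] {P Q X₁ X₂ : Subgroup G} (h : Setup p q P Q X₁ X₂) (hpq : p ≠ q)
    {K : Subgroup G} (hK : K ≤ P) (hQK : Q ≤ Subgroup.normalizer (K : Set G)) :
    (K ⊓ Subgroup.centralizer (X₁ : Set G)) ⊔ (K ⊓ Subgroup.centralizer (X₂ : Set G)) = K := by
  refine le_antisymm (sup_le inf_le_left inf_le_left) ?_
  haveI : IsMulCommutative Q := ⟨⟨fun a b => Subtype.ext (h.comm a a.2 b b.2)⟩⟩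
  have hnc : ¬ IsCyclic Q := by
    intro hc
    obtain ⟨g, hg⟩ := IsCyclic.exists_generator (α := Q)
    have h1 := orderOf_eq_card_of_forall_mem_zpowers hg
    have h2 : orderOf g ∣ q := orderOf_dvd_of_pow_eq_one (Subtype.ext (h.expo g g.2))
    rw [h1, h.card] at h2
    have := Nat.le_of_dvd (Fact.out : q.Prime).pos h2
    have := (Fact.out : q.Prime).two_le
    nlinarith
  conv_lhs => rw [← iSup_centralizer_eq hnc hQK
    ((h.coprime hpq).coprime_dvd_right (Subgroup.card_dvd_of_le hK))]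
  refine iSup₂_le fun a ha => ?_
  obtain ⟨haQ, ha1⟩ := ha
  by_cases h1 : a ∈ X₁
  · rw [centralizer_eq_of_card_prime h.card₁ h1 ha1]; exact le_sup_left
  by_cases h2 : a ∈ X₂
  · rw [centralizer_eq_of_card_prime h.card₂ h2 ha1]; exact le_sup_right
  refine le_trans (inf_le_inf_right _ hK) ?_
  rw [h.fpf a haQ h1 h2]
  exact bot_le

end

theorem commute_fixed {p q : ℕ} [Fact p.Prime] [Fact q.Prime] (hpq : p ≠ q) :
    ∀ (m : ℕ) {G : Type u} [Group G] [Finite G] {P Q X₁ X₂ : Subgroup G}, Nat.card G = m →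
      Setup p q P Q X₁ X₂ → ∀ c₁ ∈ P ⊓ Subgroup.centralizer (X₁ : Set G),
        ∀ c₂ ∈ P ⊓ Subgroup.centralizer (X₂ : Set G), Commute c₁ c₂ := by
  intro m
  induction m using Nat.strong_induction_on with
  | _ m ih =>
  intro G _ _ P Q X₁ X₂ hm h
  classical
  haveI := h.normal
  set ZP := P ⊓ Subgroup.centralizer (P : Set G) with hZP
  haveI : ZP.Normal := inferInstance
  by_cases hP : P = ⊥
  · intro c₁ hc₁ c₂ _
    have := (Subgroup.mem_inf.1 hc₁).1
    rw [hP, Subgroup.mem_bot] at this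
    rw [this]; exact Commute.one_left _
  suffices key : ∀ {Y₁ Y₂ : Subgroup G}, Setup p q P Q Y₁ Y₂ → ∀ z ∈ ZP,
      z ∈ Subgroup.centralizer (Y₁ : Set G) → z ≠ 1 → ∀ c₁ ∈ P ⊓ Subgroup.centralizer (Y₁ : Set G),
        ∀ c₂ ∈ P ⊓ Subgroup.centralizer (Y₂ : Set G), Commute c₁ c₂ by
    have hgen := h.generate hpq (inf_le_left : ZP ≤ P)
      (fun _ _ => Subgroup.le_normalizer_of_normal (K := ⊤) trivial)
    have hne : ZP ≠ ⊥ := by
      have : Nontrivial P := (Subgroup.nontrivial_iff_ne_bot P).2 hP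
      have := h.pgroup.center_nontrivial
      obtain ⟨⟨z, hz⟩, hz1⟩ := exists_ne (1 : Subgroup.center P)
      refine fun hb => hz1 (Subtype.ext (Subtype.ext ?_))
      have h1 : (z : G) ∈ ZP := ⟨z.2, Subgroup.mem_centralizer_iff.2 fun w hw =>
        congrArg Subtype.val (Subgroup.mem_center_iff.1 hz ⟨w, hw⟩)⟩
      rwa [hb, Subgroup.mem_bot] at h1
    by_cases hb : ZP ⊓ Subgroup.centralizer (X₁ : Set G) = ⊥
    · rw [hb, bot_sup_eq] at hgen
      obtain ⟨⟨z, hz⟩, hz1⟩ := Subgroup.ne_bot_iff_exists_ne_one.1 hne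
      intro c₁ hc₁ c₂ hc₂
      exact (key h.symm z hz (hgen.ge hz).2 (fun e => hz1 (Subtype.ext e)) c₂ hc₂ c₁ hc₁).symm
    · obtain ⟨⟨z, hz⟩, hz1⟩ := Subgroup.ne_bot_iff_exists_ne_one.1 hb
      exact key h z hz.1 hz.2 (fun e => hz1 (Subtype.ext e))
  intro Y₁ Y₂ h z hzZ hzY hz1 c₁ hc₁ c₂ hc₂
  set Z₀ := ZP ⊓ Subgroup.centralizer (Y₁ : Set G) with hZ₀
  -- `Z₀` is normalized by `P` and `Q`: work in `H = P ⊔ Q`
  set H := P ⊔ Q with hH
  have hHn : H ≤ Subgroup.normalizer (Z₀ : Set G) := by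
    refine sup_le (fun x hx => ?_) (fun x hx => ?_)
    · refine Subgroup.centralizer_le_normalizer _ (Subgroup.mem_centralizer_iff.2 fun w hw => ?_)
      exact ((Subgroup.mem_centralizer_iff.1 hw.1.2 x hx)).symm
    · refine mem_normalizer_of_conj_smul_eq ?_
      rw [hZ₀, Subgroup.smul_inf, conj_smul_eq_of_mem_normalizer (H := ZP)
        (Subgroup.le_normalizer_of_normal (K := ⊤) trivial)]
      congr 1
      refine conj_smul_eq_of_mem_normalizer (Subgroup.le_normalizer ?_)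
      exact Subgroup.mem_centralizer_iff.2 fun w hw => h.comm w (h.le₁ hw) x hx
  set ι := H.subtype with hι
  set N := Z₀.subgroupOf H with hN
  haveI : N.Normal := Subgroup.normal_subgroupOf_of_le_normalizer hHn
  let π := QuotientGroup.mk' N
  let im : Subgroup G → Subgroup (H ⧸ N) := fun R => (R.subgroupOf H).map π
  have hlt : Nat.card (H ⧸ N) < m := by
    have h1 : 1 < Nat.card N := by
      rw [Subgroup.one_lt_card_iff_ne_bot]
      intro hb
      have : (⟨z, Subgroup.mem_sup_left hzZ.1⟩ : H) ∈ N := ⟨hzZ, hzY⟩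
      rw [hb, Subgroup.mem_bot] at this
      exact hz1 (congrArg Subtype.val this)
    calc Nat.card (H ⧸ N) < Nat.card H := by
          rw [Subgroup.card_eq_card_quotient_mul_card_subgroup N]
          exact lt_mul_of_one_lt_right Nat.card_pos h1
      _ ≤ Nat.card G := Subgroup.card_le_card_group H
      _ = m := hm
  have hcop := h.coprime hpq
  have hker : ∀ x : H, (x : G) ∈ Q → π x = 1 → (x : G) = 1 := fun x hx hx1 =>
    eq_one_of_mem_of_mem hcop hx (((QuotientGroup.eq_one_iff x).1 hx1 : (x : G) ∈ Z₀).1.1)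
  have hcard : ∀ R : Subgroup G, R ≤ Q → Nat.card (im R) = Nat.card R := by
    intro R hR
    rw [← Nat.card_congr (Subgroup.subgroupOfEquivOfLe (hR.trans le_sup_right : R ≤ H)).toEquiv]
    refine (Nat.card_congr (Equiv.ofBijective (fun r : R.subgroupOf H => (⟨π r, (r : H), r.2, rfl⟩ : im R)) ⟨?_, ?_⟩)).symm
    · intro r s e
      have e1 : π ((r : H)⁻¹ * s) = 1 := by
        rw [map_mul, map_inv, show π r = π s from congrArg Subtype.val e, inv_mul_cancel]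
      have e2 := hker _ (mul_mem (inv_mem (hR r.2)) (hR s.2)) e1
      refine Subtype.ext (Subtype.ext ?_)
      exact inv_mul_eq_one.1 e2
    · rintro ⟨_, r, hr, rfl⟩
      exact ⟨⟨r, hr⟩, rfl⟩
  have hmem : ∀ (R : Subgroup G), R ≤ Q → ∀ x : H, (x : G) ∈ Q → π x ∈ im R → (x : G) ∈ R := by
    intro R hR x hx ⟨r, hr, hre⟩
    have e1 : π (x⁻¹ * r) = 1 := by rw [map_mul, map_inv, hre, inv_mul_cancel]
    have e2 := hker _ (mul_mem (inv_mem hx) (hR hr)) e1
    have e3 : (x : G) = r := inv_mul_eq_one.1 e2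
    rw [e3]; exact hr
  have hset : Setup p q (im P) (im Q) (im Y₁) (im Y₂) := by
    refine ⟨((h.normal).comap H.subtype).map _ (QuotientGroup.mk'_surjective N),
      (h.pgroup.comap_subtype).map π, ?_, ?_, by rw [hcard Q le_rfl, h.card],
      Subgroup.map_mono (Subgroup.comap_mono h.le₁), Subgroup.map_mono (Subgroup.comap_mono h.le₂),
      ?_, by rw [hcard _ h.le₁, h.card₁], by rw [hcard _ h.le₂, h.card₂], ?_⟩
    · rintro _ ⟨a, ha, rfl⟩ _ ⟨b, hb, rfl⟩
      rw [← map_mul, ← map_mul]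
      exact congrArg π (Subtype.ext (h.comm a ha b hb))
    · rintro _ ⟨a, ha, rfl⟩
      rw [← map_pow, show a ^ q = 1 from Subtype.ext (h.expo a ha), map_one]
    · intro e
      refine h.ne (Subgroup.eq_of_le_of_card_ge (fun x hx => ?_) (by rw [h.card₁, h.card₂]))
      refine hmem Y₂ h.le₂ ⟨x, Subgroup.mem_sup_right (h.le₁ hx)⟩ (h.le₁ hx) ?_
      rw [← e]; exact ⟨_, hx, rfl⟩
    · rintro _ ⟨y, hy, rfl⟩ hy1 hy2
      rw [eq_bot_iff]
      rintro _ ⟨⟨x, hx, rfl⟩, hxc⟩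
      have hfix : ∀ a ∈ Subgroup.zpowers (y : G), a * x * a⁻¹ * (x : G)⁻¹ ∈ Z₀ := by
        intro a ha
        obtain ⟨i, rfl⟩ := Subgroup.mem_zpowers_iff.1 ha
        have e1 : Commute (π x) (π y) := Subgroup.mem_centralizer_singleton_iff.1 hxc
        have e2 : π (y ^ i * x * (y ^ i)⁻¹ * x⁻¹) = 1 := by
          rw [map_mul, map_mul, map_mul, map_inv, map_inv, map_zpow, ← (e1.zpow_right i).eq,
            mul_inv_cancel_right, mul_inv_cancel]
        simpa [hN, Subgroup.mem_subgroupOf] using (QuotientGroup.eq_one_iff _).1 e2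
      obtain ⟨n, hn, hc⟩ := exists_mem_centralizer_of_fixed_coset (A := Subgroup.zpowers (y : G))
        (N := Z₀) ((Subgroup.zpowers_le.2 y.2).trans hHn)
        ((hcop.coprime_dvd_left (Subgroup.card_dvd_of_le
          (Subgroup.zpowers_le.2 (show (y : G) ∈ Q from hy)))).coprime_dvd_right
          (Subgroup.card_dvd_of_le (inf_le_left.trans inf_le_left)))
        (Or.inl (isSolvable_zpowers _)) (hHn x.2) hfix
      have h0 : (x : G) * n ∈ P ⊓ Subgroup.centralizer ({(y : G)} : Set G) :=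
        Subgroup.mem_inf.2 ⟨mul_mem hx hn.1.1, Subgroup.centralizer_le
          (Set.singleton_subset_iff.2 (Subgroup.mem_zpowers _)) hc⟩
      have h5 := h.fpf (y : G) hy (fun e => hy1 ⟨y, e, rfl⟩) (fun e => hy2 ⟨y, e, rfl⟩)
      rw [h5, Subgroup.mem_bot] at h0
      rw [Subgroup.mem_bot]
      refine (QuotientGroup.eq_one_iff x).2 ?_
      show (x : G) ∈ Z₀
      rw [eq_inv_of_mul_eq_one_left h0]
      exact inv_mem hn
  have hcent : ∀ {Y : Subgroup G}, Y ≤ Q → ∀ c : H, (c : G) ∈ P ⊓ Subgroup.centralizer (Y : Set G) →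
      π c ∈ im P ⊓ Subgroup.centralizer (im Y : Set (H ⧸ N)) := fun {Y} hY c hc => by
    refine Subgroup.mem_inf.2 ⟨⟨c, hc.1, rfl⟩, Subgroup.mem_centralizer_iff.2 ?_⟩
    rintro _ ⟨r, hr, rfl⟩
    rw [← map_mul, ← map_mul]
    exact congrArg π (Subtype.ext (Subgroup.mem_centralizer_iff.1 hc.2 r hr))
  -- all commutators lie in `Z₀`
  have hcom : ∀ a ∈ P ⊓ Subgroup.centralizer (Y₁ : Set G),
      ∀ b ∈ P ⊓ Subgroup.centralizer (Y₂ : Set G), a * b * a⁻¹ * b⁻¹ ∈ Z₀ := by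
    intro a ha b hb
    let a' : H := ⟨a, Subgroup.mem_sup_left (Subgroup.mem_inf.1 ha).1⟩
    let b' : H := ⟨b, Subgroup.mem_sup_left (Subgroup.mem_inf.1 hb).1⟩
    have hc := ih _ hlt rfl hset (π a') (hcent h.le₁ a' ha) (π b') (hcent h.le₂ b' hb)
    have e2 : π (a' * b' * a'⁻¹ * b'⁻¹) = 1 := by
      rw [map_mul, map_mul, map_mul, map_inv, map_inv, hc.eq, mul_inv_cancel_right, mul_inv_cancel]
    have e3 : a' * b' * a'⁻¹ * b'⁻¹ ∈ N := (QuotientGroup.eq_one_iff _).1 e2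
    exact e3
  -- a generator of `Y₁` acts without fixed points on `C_P(Y₂)`
  haveI : Nontrivial Y₁ := Finite.one_lt_card_iff_nontrivial.1 (h.card₁ ▸ (Fact.out : q.Prime).one_lt)
  obtain ⟨⟨x, hx⟩, hx1⟩ := exists_ne (1 : Y₁)
  have hx1' : x ≠ 1 := fun e => hx1 (Subtype.ext e)
  set C₂ := P ⊓ Subgroup.centralizer (Y₂ : Set G) with hC₂
  have hmapsC : ∀ b ∈ C₂, x * b * x⁻¹ ∈ C₂ := fun b hb => by
    refine Subgroup.mem_inf.2 ⟨h.normal.conj_mem _ hb.1 x, Subgroup.mem_centralizer_iff.2 fun w hw => ?_⟩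
    have e1 := h.comm w (h.le₂ hw) x (h.le₁ hx)
    have e2 : w * b = b * w := Subgroup.mem_centralizer_iff.1 hb.2 w hw
    have e3 : w * x⁻¹ = x⁻¹ * w := (Commute.inv_right e1).eq
    calc w * (x * b * x⁻¹) = x * (w * b) * x⁻¹ := by simp only [← mul_assoc, e1]
      _ = x * b * (w * x⁻¹) := by rw [e2]; simp only [mul_assoc]
      _ = _ := by rw [e3]; simp only [mul_assoc]
  let f : C₂ → C₂ := fun b => ⟨(b : G)⁻¹ * (x * b * x⁻¹), mul_mem (inv_mem b.2) (hmapsC _ b.2)⟩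
  have hf : Function.Injective f := by
    intro a b e
    have e1 : (a : G)⁻¹ * (x * a * x⁻¹) = (b : G)⁻¹ * (x * b * x⁻¹) := congrArg Subtype.val e
    have e2 : x * ((a : G) * (b : G)⁻¹) * x⁻¹ = (a : G) * (b : G)⁻¹ := by
      calc x * ((a : G) * (b : G)⁻¹) * x⁻¹
          = (a : G) * ((a : G)⁻¹ * (x * a * x⁻¹)) * (x * b * x⁻¹)⁻¹ := by group
        _ = (a : G) * ((b : G)⁻¹ * (x * b * x⁻¹)) * (x * b * x⁻¹)⁻¹ := by rw [e1]
        _ = _ := by group
    have e3 : (a : G) * (b : G)⁻¹ ∈ C₂ := mul_mem a.2 (inv_mem b.2)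
    have e4 := h.disjoint e3.1 (by
      rw [← centralizer_eq_of_card_prime h.card₁ hx hx1', Subgroup.mem_centralizer_singleton_iff]
      exact (mul_inv_eq_iff_eq_mul.1 e2).symm) e3.2
    exact Subtype.ext (mul_inv_eq_one.1 e4)
  obtain ⟨b, hb⟩ := Finite.injective_iff_surjective.1 hf ⟨c₂, hc₂⟩
  have hb' : (b : G)⁻¹ * (x * b * x⁻¹) = c₂ := congrArg Subtype.val hb
  set w := c₁ * (b : G) * c₁⁻¹ * (b : G)⁻¹ with hw
  have hwZ := hcom c₁ hc₁ b b.2
  have hwx : x * w * x⁻¹ = w := mul_inv_eq_iff_eq_mul.2 (Subgroup.mem_centralizer_iff.1 hwZ.2 x hx)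
  have hcx : x * c₁ * x⁻¹ = c₁ := mul_inv_eq_iff_eq_mul.2 (Subgroup.mem_centralizer_iff.1 hc₁.2 x hx)
  have h1 : c₁ * (x * b * x⁻¹) * c₁⁻¹ = w * (x * b * x⁻¹) := by
    calc c₁ * (x * b * x⁻¹) * c₁⁻¹ = (x * c₁ * x⁻¹) * (x * b * x⁻¹) * (x * c₁ * x⁻¹)⁻¹ := by rw [hcx]
      _ = (x * w * x⁻¹) * (x * b * x⁻¹) := by rw [hw]; group
      _ = _ := by rw [hwx]
  refine mul_inv_eq_iff_eq_mul.1 ?_
  rw [← hb']
  calc c₁ * ((b : G)⁻¹ * (x * b * x⁻¹)) * c₁⁻¹
      = (c₁ * (b : G) * c₁⁻¹)⁻¹ * (c₁ * (x * b * x⁻¹) * c₁⁻¹) := by group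
    _ = (w * (b : G))⁻¹ * (w * (x * b * x⁻¹)) := by rw [h1, hw, inv_mul_cancel_right]
    _ = _ := by group
/-- Let S = PQ be a finite group with P a normal Sylow p-subgroup and Q elementary abelian of order q², q a prime different from p. If exactly two subgroups X₁, X₂ of order q in Q have a nontrivial centralizer in P, then P is the internal direct product of C_P(X₁) and C_P(X₂): they commute elementwise, meet trivially and generate P. -/
theorem result {S : Type*} [Group S] [Finite S] {p q : ℕ} [Fact p.Prime] [Fact q.Prime] (hpq : p ≠ q)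
    (P : Sylow p S) [(P : Subgroup S).Normal] (Q : Subgroup S) (hQ : Cfsg.IsElementaryAbelian q Q) (hQc : Nat.card Q = q ^ 2)
    (hS : (P : Subgroup S) ⊔ Q = ⊤)
    (X₁ X₂ : Subgroup S) (h₁ : X₁ ≤ Q) (h₂ : X₂ ≤ Q) (h₁₂ : X₁ ≠ X₂) (hc₁ : Nat.card X₁ = q) (hc₂ : Nat.card X₂ = q)
    (hf₁ : (P : Subgroup S) ⊓ Subgroup.centralizer (X₁ : Set S) ≠ ⊥)
    (hf₂ : (P : Subgroup S) ⊓ Subgroup.centralizer (X₂ : Set S) ≠ ⊥)
    (honly : ∀ X : Subgroup S, X ≤ Q → Nat.card X = q →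
      (P : Subgroup S) ⊓ Subgroup.centralizer (X : Set S) ≠ ⊥ → X = X₁ ∨ X = X₂) :
    ⁅(P : Subgroup S) ⊓ Subgroup.centralizer (X₁ : Set S), (P : Subgroup S) ⊓ Subgroup.centralizer (X₂ : Set S)⁆ = ⊥ ∧
      ((P : Subgroup S) ⊓ Subgroup.centralizer (X₁ : Set S)) ⊓ ((P : Subgroup S) ⊓ Subgroup.centralizer (X₂ : Set S)) = ⊥ ∧
      ((P : Subgroup S) ⊓ Subgroup.centralizer (X₁ : Set S)) ⊔ ((P : Subgroup S) ⊓ Subgroup.centralizer (X₂ : Set S)) = P := by
  classical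
  have h : Setup p q (P : Subgroup S) Q X₁ X₂ := by
    refine ⟨inferInstance, P.2, fun a ha b hb => ?_, hQ.2, hQc, h₁, h₂, h₁₂, hc₁, hc₂,
      fun y hy hy1 hy2 => ?_⟩
    · exact congrArg Subtype.val (hQ.1.is_comm.comm (⟨a, ha⟩ : Q) ⟨b, hb⟩)
    · by_contra hne
      have hord : Nat.card (Subgroup.zpowers y) = q := by
        rw [Nat.card_zpowers]
        exact orderOf_eq_prime (hQ.2 y hy) fun e => hy1 (e ▸ one_mem _)
      have hcz : Subgroup.centralizer ({y} : Set S) =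
          Subgroup.centralizer ((Subgroup.zpowers y : Subgroup S) : Set S) := by
        rw [Subgroup.zpowers_eq_closure, Subgroup.centralizer_closure]
      rcases honly _ (Subgroup.zpowers_le.2 hy) hord (hcz ▸ hne) with e | e
      · exact hy1 (e ▸ Subgroup.mem_zpowers y)
      · exact hy2 (e ▸ Subgroup.mem_zpowers y)
  refine ⟨?_, ?_, ?_⟩
  · rw [Subgroup.commutator_eq_bot_iff_le_centralizer]
    exact fun a ha => Subgroup.mem_centralizer_iff.2 fun b hb =>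
      (commute_fixed hpq _ rfl h a ha b hb).symm.eq
  · exact (Subgroup.eq_bot_iff_forall _).2 fun z hz => h.disjoint hz.1.1 hz.1.2 hz.2.2
  · exact h.generate hpq le_rfl (fun _ _ => Subgroup.le_normalizer_of_normal (K := ⊤) trivial)

end Cfsg.Agent.S1900
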