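import Cfsg.Statements.S3744
import Cfsg.Agent.Lib.Coprime.SchurZassenhaus
import Cfsg.Agent.Lib.Involutions.BaerSuzuki
import Cfsg.Agent.Lib.Cores.Basic
import Mathlib.GroupTheory.SchurZassenhaus

set_option autoImplicit false
open Cfsg

namespace Cfsg.Agent.S3744

universe u

open scoped Pointwise

/-- `p`-complement. -/
def IsC {H : Type u} [Group H] (p : ℕ) (A : Subgroup H) : Prop :=
  (Nat.card A).Coprime p ∧ ∃ n : ℕ, A.index = p ^ n

theorem pSolvable_quotient {H : Type u} [Group H] {p : ℕ} [hp : Fact p.Prime]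
    (h : Cfsg.IsPSolvable p H) (N : Subgroup H) [N.Normal] : Cfsg.IsPSolvable p (H ⧸ N) := by
  obtain ⟨n, C, h0, hl, hm, hn, hs⟩ := h
  refine ⟨n, fun i => (C i).map (QuotientGroup.mk' N), by simp [h0], ?_, fun i j hij => Subgroup.map_mono (hm hij),
    fun i => (hn i).map _ (QuotientGroup.mk'_surjective N), fun i => ?_⟩
  · show (C (Fin.last n)).map _ = ⊤
    rw [hl, Subgroup.map_top_of_surjective _ (QuotientGroup.mk'_surjective N)]
  have hd : ((C i.castSucc).map (QuotientGroup.mk' N)).relIndex ((C i.succ).map (QuotientGroup.mk' N)) ∣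
      (C i.castSucc).relIndex (C i.succ) := by
    rw [Subgroup.relIndex_map_map, QuotientGroup.ker_mk', sup_comm (C i.succ) N]
    have := hn i.succ
    rw [show ((C i.castSucc) ⊔ N).relIndex (N ⊔ C i.succ) = ((C i.castSucc) ⊔ N).relIndex (C i.succ) by
      rw [← Subgroup.inf_relIndex_right ((C i.castSucc) ⊔ N) (C i.succ)]
      have hN : ((C i.castSucc) ⊔ N).Normal := by
        have := hn i.castSucc; infer_instance
      rw [sup_comm N, Subgroup.inf_relIndex_right]
      have h1 : (C i.succ ⊔ ((C i.castSucc) ⊔ N)) = C i.succ ⊔ N := by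
        rw [← sup_assoc, sup_eq_left.mpr (hm (Fin.castSucc_le_succ i))]
      rw [← h1, Subgroup.relIndex_sup_right]]
    exact Subgroup.relIndex_dvd_of_le_left _ le_sup_left
  rcases hs i with ⟨m, hm'⟩ | hc
  · obtain ⟨k, -, hk⟩ := (Nat.dvd_prime_pow hp.out).mp (hm' ▸ hd)
    exact Or.inl ⟨k, hk⟩
  · exact Or.inr (hc.coprime_dvd_left hd)

theorem exists_first {H : Type u} [Group H] [Finite H] [Nontrivial H] {p : ℕ} [hp : Fact p.Prime]
    (h : Cfsg.IsPSolvable p H) :
    ∃ N : Subgroup H, N.Normal ∧ N ≠ ⊥ ∧ (IsPGroup p N ∨ (Nat.card N).Coprime p) := by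
  classical
  obtain ⟨n, C, h0, hl, hm, hn, hs⟩ := h
  have hex : ∃ i, C i ≠ ⊥ := ⟨Fin.last n, hl ▸ top_ne_bot⟩
  obtain ⟨i, hi, hmin⟩ : ∃ i, C i ≠ ⊥ ∧ ∀ j < i, C j = ⊥ := by
    obtain ⟨i, hi⟩ := Set.Finite.exists_minimal (s := {i | C i ≠ ⊥}) (Set.toFinite _) hex
    exact ⟨i, hi.1, fun j hj => by_contra fun hne => absurd (hi.2 hne hj.le) (not_le.mpr hj)⟩
  obtain ⟨j, rfl⟩ : ∃ j : Fin n, j.succ = i := Fin.exists_succ_eq.mpr (fun h => hi (h ▸ h0))
  have hbot := hmin j.castSucc (Fin.castSucc_lt_succ)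
  have := hs j
  rw [hbot, Subgroup.relIndex_bot_left] at this
  exact ⟨_, hn _, hi, this.imp (fun ⟨m, hm⟩ => IsPGroup.of_card hm) id⟩

theorem index_mul_card {H : Type u} [Group H] [Finite H] (A : Subgroup H) :
    Nat.card A * A.index = Nat.card H := A.card_mul_index

theorem main {p : ℕ} [hp : Fact p.Prime] : ∀ (m : ℕ) (H : Type u) [Group H] [Finite H],
    Nat.card H = m → Cfsg.IsPSolvable p H →
    (∃ A : Subgroup H, IsC p A) ∧
      ∀ U A : Subgroup H, (Nat.card U).Coprime p → IsC p A →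
        ∃ g : H, U ≤ A.map (MulAut.conj g).toMonoidHom := by
  intro m
  induction m using Nat.strong_induction_on with
  | _ m ih =>
    intro H _ _ hm hH
    rcases subsingleton_or_nontrivial H with hs | hnt
    · have htop : ∀ A : Subgroup H, A = ⊤ := fun A => eq_top_iff.mpr fun x _ => by
        rw [Subsingleton.elim x 1]; exact one_mem _
      refine ⟨⟨⊤, ?_, 0, by simp⟩, fun U A _ _ => ⟨1, fun x _ => ?_⟩⟩
      · rw [Subgroup.card_top, Nat.card_unique]; exact Nat.coprime_one_left p
      · rw [htop (A.map _)]; exact Subgroup.mem_top x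
    obtain ⟨N, hN, hN1, hNor⟩ := exists_first hH
    have hlt : Nat.card (H ⧸ N) < m := by
      rw [← hm, Subgroup.card_eq_card_quotient_mul_card_subgroup N]
      exact lt_mul_of_one_lt_right Nat.card_pos ((Subgroup.one_lt_card_iff_ne_bot N).mpr hN1)
    obtain ⟨⟨Ab, hAb, nb, hAbi⟩, hD⟩ := ih _ hlt (H ⧸ N) rfl (pSolvable_quotient hH N)
    set f := QuotientGroup.mk' N with hf
    have hfs : Function.Surjective f := QuotientGroup.mk'_surjective N
    have himg : ∀ A : Subgroup H, IsC p A → IsC p (A.map f) := by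
      rintro A ⟨hA, n, hAi⟩
      refine ⟨hA.coprime_dvd_left (Subgroup.card_map_dvd A f), ?_⟩
      obtain ⟨k, -, hk⟩ := (Nat.dvd_prime_pow hp.out).mp (hAi ▸ A.index_map_dvd hfs)
      exact ⟨k, hk⟩
    have hUA : ∀ U A : Subgroup H, (Nat.card U).Coprime p → IsC p A →
        ∃ g : H, U ≤ N ⊔ A.map (MulAut.conj g).toMonoidHom := by
      intro U A hU hA
      obtain ⟨gb, hgb⟩ := hD (U.map f) (A.map f) (hU.coprime_dvd_left (Subgroup.card_map_dvd U f)) (himg A hA)
      obtain ⟨g, rfl⟩ := hfs gb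
      refine ⟨g, ?_⟩
      have hmap : (A.map f).map (MulAut.conj (f g)).toMonoidHom =
          (A.map (MulAut.conj g).toMonoidHom).map f := by
        rw [Subgroup.map_map, Subgroup.map_map]
        rfl
      rw [hmap, Subgroup.map_le_map_iff, QuotientGroup.ker_mk', sup_comm] at hgb
      exact hgb
    rcases hNor with hNp | hNc
    · obtain ⟨k, hk⟩ := hNp.exists_card_eq
      have hcopN : ∀ X : Subgroup H, (Nat.card X).Coprime p → (Nat.card N).Coprime (Nat.card X) :=
        fun X hX => hk ▸ (hX.symm.pow_left k)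
      refine ⟨?_, fun U A hU hA => ?_⟩
      · set K := Ab.comap f
        have hNK : N ≤ K := fun x hx => Subgroup.mem_comap.mpr (by
          rw [show f x = 1 from (QuotientGroup.eq_one_iff x).mpr hx]; exact one_mem _)
        have hKcard : Nat.card K = Nat.card N * Nat.card Ab := by
          have h1 := index_mul_card K
          rw [Subgroup.index_comap_of_surjective _ hfs, Subgroup.card_eq_card_quotient_mul_card_subgroup N,
            ← index_mul_card Ab] at h1
          exact Nat.eq_of_mul_eq_mul_right (Nat.pos_of_ne_zero (Subgroup.index_ne_zero_of_finite (H := Ab)))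
            (by linarith [h1])
        have hN'c : Nat.card (N.subgroupOf K) = Nat.card N :=
          Nat.card_congr (Subgroup.subgroupOfEquivOfLe hNK).toEquiv
        have hcop : (Nat.card (N.subgroupOf K)).Coprime (N.subgroupOf K).index := by
          have h1 := (N.subgroupOf K).card_mul_index
          rw [hN'c, hKcard] at h1
          rw [hN'c, Nat.eq_of_mul_eq_mul_left Nat.card_pos h1, hk]
          exact hAb.symm.pow_left k
        obtain ⟨Cc, hCc⟩ := Subgroup.exists_right_complement'_of_coprime hcop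
        refine ⟨Cc.map K.subtype, ?_, k + nb, ?_⟩
        · rw [Subgroup.card_map_of_injective K.subtype_injective]
          have h1 := hCc.card_mul
          rw [hN'c, hKcard] at h1
          rwa [Nat.eq_of_mul_eq_mul_left Nat.card_pos h1]
        · have h1 := hCc.card_mul
          rw [hN'c, hKcard] at h1
          have h2 := index_mul_card (Cc.map K.subtype)
          rw [Subgroup.card_map_of_injective K.subtype_injective, Nat.eq_of_mul_eq_mul_left Nat.card_pos h1,
            Subgroup.card_eq_card_quotient_mul_card_subgroup N, ← index_mul_card Ab, hk, hAbi] at h2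
          refine Nat.eq_of_mul_eq_mul_left (Nat.card_pos : 0 < Nat.card Ab) ?_
          rw [h2, pow_add]; ring
      · obtain ⟨g, hg⟩ := hUA U A hU hA
        have hAg : (Nat.card ↥(A.map (MulAut.conj g).toMonoidHom)).Coprime p :=
          hA.1.coprime_dvd_left (Subgroup.card_map_dvd A _)
        have := hNp.isNilpotent
        obtain ⟨n, -, hn⟩ := Cfsg.Agent.Lib.Coprime.exists_le_conj_of_le_sup
          Subgroup.le_normalizer_of_normal (hcopN _ hAg) (Or.inl inferInstance) (hcopN _ hU) hg
        refine ⟨n * g, hn.trans (le_of_eq ?_)⟩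
        rw [← Cfsg.Agent.Lib.Involutions.map_conj_mul]
        rfl
    · refine ⟨⟨Ab.comap f, ?_, nb, by rw [Subgroup.index_comap_of_surjective _ hfs]; exact hAbi⟩,
        fun U A hU hA => ?_⟩
      · have h1 := index_mul_card (Ab.comap f)
        rw [Subgroup.index_comap_of_surjective _ hfs, Subgroup.card_eq_card_quotient_mul_card_subgroup N,
          ← index_mul_card Ab] at h1
        rw [Nat.eq_of_mul_eq_mul_right (Nat.pos_of_ne_zero (Subgroup.index_ne_zero_of_finite (H := Ab)))
          (show Nat.card (Ab.comap f) * Ab.index = Nat.card N * Nat.card Ab * Ab.index by linarith [h1])]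
        exact hNc.mul_left hAb
      · obtain ⟨g, hg⟩ := hUA U A hU hA
        refine ⟨g, hg.trans (sup_le ?_ le_rfl)⟩
        obtain ⟨hAc, n, hAi⟩ := hA
        have hNA : N ≤ A := by
          have h1 : Nat.card ↥(A ⊔ N) ∣ Nat.card A * Nat.card N :=
            ⟨_, (Cfsg.Agent.Lib.Cores.card_sup_mul_card_inf A N).symm⟩
          have h2 : Nat.card ↥(A ⊔ N) ∣ Nat.card A * A.index :=
            (index_mul_card A).symm ▸ Subgroup.card_subgroup_dvd_card _
          have h3 : Nat.card ↥(A ⊔ N) ∣ Nat.card A := by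
            rw [hAi] at h2
            exact (((hAc.mul_left hNc).coprime_dvd_left h1).pow_right n).dvd_of_dvd_mul_right h2
          exact le_sup_right.trans
            (Subgroup.eq_of_le_of_card_ge le_sup_left (Nat.le_of_dvd Nat.card_pos h3)).ge
        intro x hx
        exact ⟨g⁻¹ * x * g, hNA (by simpa using hN.conj_mem x hx g⁻¹), by simp [mul_assoc]⟩

/-- A finite p-soluble group has a p-complement, all its p-complements are conjugate, and every subgroup of order prime to p lies in one of them. Here a p-complement is a subgroup of order prime to p whose index is a power of p. -/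
theorem result {G : Type*} [Group G] [Finite G] {p : ℕ} [Fact p.Prime] (hG : Cfsg.IsPSolvable p G) : (∃ H : Subgroup G, (Nat.card H).Coprime p ∧ ∃ n : ℕ, H.index = p ^ n) ∧ (∀ H₁ H₂ : Subgroup G, (Nat.card H₁).Coprime p → (∃ n : ℕ, H₁.index = p ^ n) → (Nat.card H₂).Coprime p → (∃ n : ℕ, H₂.index = p ^ n) → ∃ g : G, H₂ = H₁.map (MulAut.conj g).toMonoidHom) ∧ (∀ U : Subgroup G, (Nat.card U).Coprime p → ∃ H : Subgroup G, (Nat.card H).Coprime p ∧ (∃ n : ℕ, H.index = p ^ n) ∧ ∃ g : G, U.map (MulAut.conj g).toMonoidHom ≤ H) := by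
  obtain ⟨⟨A, hA⟩, hD⟩ := main (p := p) _ G rfl hG
  refine ⟨⟨A, hA⟩, fun H₁ H₂ h1 h1i h2 h2i => ?_, fun U hU => ?_⟩
  · obtain ⟨g, hg⟩ := hD H₂ H₁ h2 ⟨h1, h1i⟩
    refine ⟨g, Subgroup.eq_of_le_of_card_ge hg ?_⟩
    rw [Subgroup.card_map_of_injective (MulEquiv.injective _)]
    obtain ⟨a, ha⟩ := h1i
    obtain ⟨b, hb⟩ := h2i
    refine Nat.le_of_dvd Nat.card_pos ?_
    have h3 : Nat.card H₁ ∣ Nat.card H₂ * H₂.index := H₂.card_mul_index.symm ▸ Subgroup.card_subgroup_dvd_card H₁
    rw [hb] at h3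
    exact (h1.pow_right b).dvd_of_dvd_mul_right h3
  · obtain ⟨g, hg⟩ := hD U A hU hA
    refine ⟨A, hA.1, hA.2, g⁻¹, (Subgroup.map_mono hg).trans (le_of_eq ?_)⟩
    rw [Cfsg.Agent.Lib.Involutions.map_conj_mul, inv_mul_cancel, Cfsg.Agent.Lib.Involutions.map_conj_one]

end Cfsg.Agent.S3744
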