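import Cfsg.Statements.S1901
import Mathlib
import Cfsg.Agent.S3744
import Cfsg.Agent.Lib.Coprime
import Cfsg.Agent.Lib.Cores.Basic
import Cfsg.Agent.Lib.Cores.PCore
-- import your own Cfsg.Agent.* helpers here

set_option autoImplicit false
open Cfsg

namespace Cfsg.Agent.S1901

open Cfsg.Agent.Lib.Coprime
open scoped Pointwise

universe u

/-- If `Q` normalizes the Sylow subgroup `P` of a `p`-solvable group, a `p`-subgroup normalizing `Q`
is no larger than `C_P(Q)`. -/
theorem card_le_centralizer {p : ℕ} [Fact p.Prime] : ∀ (m : ℕ) {G : Type u} [Group G] [Finite G],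
    Nat.card G = m → Cfsg.IsPSolvable p G → ∀ (P : Sylow p G) (Q R : Subgroup G),
      ¬ p ∣ Nat.card Q → Q ≤ Subgroup.normalizer ((P : Subgroup G) : Set G) → IsPGroup p R →
      R ≤ Subgroup.normalizer (Q : Set G) →
      Nat.card R ≤ Nat.card ((P : Subgroup G) ⊓ Subgroup.centralizer (Q : Set G) : Subgroup G) := by
  intro m
  induction m using Nat.strong_induction_on with
  | _ m ih =>
    intro G _ _ hm hG P Q R hQ hQP hR hRQ
    classical
    rcases subsingleton_or_nontrivial G with hs | hnt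
    · rw [show R = (P : Subgroup G) ⊓ Subgroup.centralizer (Q : Set G) from Subsingleton.elim _ _]
    obtain ⟨M, hM, hM1, hMor⟩ := Cfsg.Agent.S3744.exists_first hG
    set π := QuotientGroup.mk' M with hπ
    have hlt : Nat.card (G ⧸ M) < m := by
      rw [← hm, Subgroup.card_eq_card_quotient_mul_card_subgroup M]
      exact lt_mul_of_one_lt_right Nat.card_pos ((Subgroup.one_lt_card_iff_ne_bot M).2 hM1)
    have hQPm : Q.map π ≤ Subgroup.normalizer
        ((P.mapSurjective (QuotientGroup.mk'_surjective M) : Sylow p (G ⧸ M)) : Set (G ⧸ M)) :=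
      (Subgroup.map_mono hQP).trans (Subgroup.le_normalizer_map π)
    have key := ih _ hlt rfl (Cfsg.Agent.S3744.pSolvable_quotient hG M)
      (P.mapSurjective (QuotientGroup.mk'_surjective M)) (Q.map π) (R.map π)
      (fun h => hQ (h.trans (Subgroup.card_map_dvd Q π))) hQPm (hR.map π)
      ((Subgroup.map_mono hRQ).trans (Subgroup.le_normalizer_map π))
    set C := (P : Subgroup G) ⊓ Subgroup.centralizer (Q : Set G) with hC
    obtain ⟨a, ha⟩ := P.2.exists_card_eq
    have hQp : (Nat.card Q).Coprime (Nat.card (P : Subgroup G)) := by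
      rw [ha]; exact Nat.Coprime.pow_right _ ((Fact.out : p.Prime).coprime_iff_not_dvd.2 hQ).symm
    -- commutators of `Q` with elements of `P` and of `M`
    have hcom : ∀ x ∈ (P : Subgroup G), ∀ q ∈ Q, q * x * q⁻¹ * x⁻¹ ∈ (P : Subgroup G) := fun x hx q hq =>
      mul_mem ((Subgroup.mem_normalizer_iff.1 (hQP hq) x).1 hx) (inv_mem hx)
    have hcov : ((P : Subgroup G).map π) ⊓ Subgroup.centralizer ((Q.map π : Subgroup (G ⧸ M)) : Set (G ⧸ M))
        ≤ C.map π := by
      rintro _ ⟨⟨x, hx, rfl⟩, hxc⟩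
      have hfix : ∀ q ∈ Q, q * x * q⁻¹ * x⁻¹ ∈ M := fun q hq => by
        refine (QuotientGroup.eq_one_iff _).1 ?_
        show π (q * x * q⁻¹ * x⁻¹) = 1
        rw [map_mul, map_mul, map_mul, map_inv, map_inv,
          Subgroup.mem_centralizer_iff.1 hxc (π q) ⟨q, hq, rfl⟩, mul_inv_cancel_right, mul_inv_cancel]
      rcases hMor with hMp | hMc
      · have hMP : M ≤ (P : Subgroup G) := (Cfsg.Agent.Lib.Cores.le_pCore hM hMp).trans (Cfsg.Agent.Lib.Cores.pCore_le_sylow P)
        obtain ⟨n, hn, hc⟩ := exists_mem_centralizer_of_fixed_coset (A := Q) (N := M)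
          (fun _ _ => Subgroup.le_normalizer_of_normal (K := ⊤) trivial)
          (hQp.coprime_dvd_right (Subgroup.card_dvd_of_le hMP))
          (Or.inr (by haveI := hMp.isNilpotent; infer_instance))
          (Subgroup.le_normalizer_of_normal (K := ⊤) trivial) hfix
        refine ⟨x * n, Subgroup.mem_inf.2 ⟨mul_mem hx (hMP hn), hc⟩, ?_⟩
        rw [map_mul, show π n = 1 from (QuotientGroup.eq_one_iff n).2 hn, mul_one]
      · refine ⟨x, Subgroup.mem_inf.2 ⟨hx, Subgroup.mem_centralizer_iff.2 fun q hq => ?_⟩, rfl⟩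
        have h1 := eq_one_of_mem_of_mem (N := (P : Subgroup G)) (H := M)
          (by rw [ha]; exact Nat.Coprime.pow_left _ hMc.symm) (hcom x hx q hq) (hfix q hq)
        rw [mul_inv_eq_one, mul_inv_eq_iff_eq_mul] at h1
        exact h1
    have h1 : Nat.card (R.map π) ≤ Nat.card (C.map π) := key.trans (Subgroup.card_le_of_le hcov)
    have h2 : Nat.card ↥(R ⊓ π.ker) ≤ Nat.card ↥(C ⊓ π.ker) := by
      rw [hπ, QuotientGroup.ker_mk']
      rcases hMor with hMp | hMc
      · refine Subgroup.card_le_of_le fun r hr => Subgroup.mem_inf.2 ⟨Subgroup.mem_inf.2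
          ⟨((Cfsg.Agent.Lib.Cores.le_pCore hM hMp).trans (Cfsg.Agent.Lib.Cores.pCore_le_sylow P)) hr.2, Subgroup.mem_centralizer_iff.2 fun q hq => ?_⟩, hr.2⟩
        have hcop : (Nat.card Q).Coprime (Nat.card M) :=
          hQp.coprime_dvd_right (Subgroup.card_dvd_of_le ((Cfsg.Agent.Lib.Cores.le_pCore hM hMp).trans (Cfsg.Agent.Lib.Cores.pCore_le_sylow P)))
        have h1 : q * r * q⁻¹ * r⁻¹ ∈ M := mul_mem (hM.conj_mem _ hr.2 q) (M.inv_mem hr.2)
        have h2 : q * r * q⁻¹ * r⁻¹ ∈ Q := by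
          rw [mul_assoc, mul_assoc, ← mul_assoc r]
          exact mul_mem hq ((Subgroup.mem_normalizer_iff.1 (hRQ hr.1) _).1 (inv_mem hq))
        have h3 := eq_one_of_mem_of_mem hcop h2 h1
        rw [mul_inv_eq_one, mul_inv_eq_iff_eq_mul] at h3
        exact h3
      · have hRM : R ⊓ M = ⊥ := inf_eq_bot_of_coprime_card (by
          obtain ⟨b, hb⟩ := hR.exists_card_eq
          rw [hb]; exact Nat.Coprime.pow_left _ hMc.symm)
        rw [hRM, Subgroup.card_bot]
        exact Nat.card_pos
    rw [← Cfsg.Agent.Lib.Cores.card_map_mul_card_inf_ker π R,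
      ← Cfsg.Agent.Lib.Cores.card_map_mul_card_inf_ker π C]
    exact Nat.mul_le_mul h1 h2
/-- Let G be a finite p-solvable group and Q a subgroup of order prime to p such that p divides the index of C_G(Q) in N_G(Q). Then Q normalizes no Sylow p-subgroup of G. -/
theorem result {G : Type*} [Group G] [Finite G] {p : ℕ} [Fact p.Prime]
    (hG : Cfsg.IsPSolvable p G) (Q : Subgroup G) (hQ : ¬ p ∣ Nat.card Q)
    (hA : p ∣ (Subgroup.centralizer (Q : Set G)).relIndex (Subgroup.normalizer (Q : Set G)))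
    (P : Sylow p G) : ¬ Q ≤ Subgroup.normalizer ((P : Subgroup G) : Set G) := by
  classical
  intro hQP
  set N := Subgroup.normalizer (Q : Set G) with hN
  set C := Subgroup.centralizer (Q : Set G) with hC
  obtain ⟨R⟩ : Nonempty (Sylow p N) := inferInstance
  have hle := card_le_centralizer _ rfl hG P Q ((R : Subgroup N).map N.subtype) hQ hQP
    (R.2.map _) (Subgroup.map_subtype_le _)
  obtain ⟨a, ha⟩ := (P.2.to_le inf_le_left : IsPGroup p ((P : Subgroup G) ⊓ C : Subgroup G)).exists_card_eq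
  rw [ha, Subgroup.card_map_of_injective N.subtype_injective, R.card_eq_multiplicity] at hle
  have hle' := (Nat.pow_le_pow_iff_right (Fact.out : p.Prime).one_lt).1 hle
  have hdvd : p ^ a ∣ Nat.card C := ha ▸ Subgroup.card_dvd_of_le inf_le_right
  have hCN : C ≤ N := Subgroup.centralizer_le_normalizer _
  have hbig : p ^ (a + 1) ∣ Nat.card N := by
    rw [← Cfsg.Agent.Lib.Coprime.relIndex_mul_card hCN, pow_succ]
    exact mul_dvd_mul hdvd hA
  have := ((Fact.out : p.Prime).pow_dvd_iff_le_factorization Nat.card_pos.ne').1 hbig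
  omega

end Cfsg.Agent.S1901
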