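import Cfsg.Statements.S1902
import Cfsg.Agent.Lib.FusionControl.FixedPointFree
import Cfsg.Agent.Lib.FusionControl.Section
import Cfsg.Agent.Lib.OddLocal.TransitivityHyp
import Cfsg.Agent.Lib.Blocks.PSolvable
import Cfsg.Agent.Lib.Cores.PCore
import Cfsg.Agent.S3744

set_option autoImplicit false
open Cfsg

namespace Cfsg.Agent.S1902

open Cfsg.Agent.Lib.FusionControl
open scoped commutatorElement

universe u

variable {G : Type u} [Group G] [Finite G] {p : ℕ} [Fact p.Prime]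

lemma coprime_isPGroup {H : Type*} [Group H] [Finite H] {P Q : Subgroup H} (hP : IsPGroup p P)
    (hQ : (Nat.card Q).Coprime p) : (Nat.card P).Coprime (Nat.card Q) := by
  obtain ⟨n, hn⟩ := IsPGroup.iff_card.1 hP
  exact hn ▸ (hQ.pow_right n).symm

/-- the configuration in the quotient by the `p'`-core -/
theorem eq_bot_of_omega {H : Type u} [Group H] [Finite H] (hp : p ≠ 2)
    (hC : Subgroup.centralizer (Cfsg.pCore p H : Set H) ≤ Cfsg.pCore p H) {B Qb : Subgroup H} {b : H}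
    (hb : b ^ p = 1) (hbB : b ∈ B) (hBc : IsMulCommutative B) (hBcard : Nat.card B ∣ p ^ 2)
    (hΩ : ∀ x ∈ Cfsg.pCore p H, x ^ p = 1 → Commute x b → x ∈ B)
    (hQ : (Nat.card Qb).Coprime p) (hBQ : B ≤ Subgroup.normalizer (Qb : Set H)) : Qb = ⊥ := by
  set R := Cfsg.pCore p H with hR
  have hRn : R.Normal := by rw [hR]; infer_instance
  have hRp : IsPGroup p R := Cfsg.Agent.Lib.Cores.pCore_isPGroup p H
  have hRQ : R ⊓ Qb = ⊥ := Cfsg.Agent.Lib.Coprime.inf_eq_bot_of_coprime_card (coprime_isPGroup hRp hQ)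
  set I := B ⊓ R with hI
  have hQI : ∀ q ∈ Qb, ∀ x ∈ I, q * x = x * q := by
    intro q hq x hx
    obtain ⟨hxB, hxR⟩ := Subgroup.mem_inf.1 hx
    refine commutatorElement_eq_one_iff_mul_comm.1 (Subgroup.mem_bot.1 (hRQ ▸ Subgroup.mem_inf.2 ⟨?_, ?_⟩))
    · rw [commutatorElement_def]; exact mul_mem (hRn.conj_mem x hxR q) (inv_mem hxR)
    · have := mul_mem hq ((Subgroup.mem_normalizer_iff.1 (hBQ hxB) _).1 (inv_mem hq))
      simpa [commutatorElement_def, mul_assoc] using this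
  set Zb := Subgroup.zpowers b with hZb
  have hZp : IsPGroup p Zb := IsPGroup.of_card_dvd_pow (n := 1) (by
    rw [Nat.card_zpowers, pow_one]; exact orderOf_dvd_of_pow_eq_one hb)
  have hcomm : ∀ {x : H}, x ∈ Subgroup.centralizer (Zb : Set H) → Commute x b := fun hx =>
    (Subgroup.mem_centralizer_iff.1 hx b (Subgroup.mem_zpowers b)).symm
  -- the centralizer of `b` in `Qb`
  have hD0 : Qb ⊓ Subgroup.centralizer (Zb : Set H) = ⊥ := by
    set D0 := Qb ⊓ Subgroup.centralizer (Zb : Set H) with hD0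
    have hD0p : (Nat.card D0).Coprime p := hQ.coprime_dvd_left (Subgroup.card_dvd_of_le inf_le_left)
    set X := R ⊓ Subgroup.centralizer (Zb : Set H) with hX
    have hDR : D0 ≤ Subgroup.normalizer (R : Set H) := Subgroup.le_normalizer_of_normal
    have hDX : D0 ≤ Subgroup.normalizer (X : Set H) := by
      refine le_trans (le_inf hDR ?_) Subgroup.inf_normalizer_le_normalizer_inf
      exact inf_le_right.trans Subgroup.le_normalizer
    have hDcX : D0 ≤ Subgroup.centralizer (X : Set H) := by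
      refine Cfsg.Agent.Lib.OddLocal.le_centralizer_of_fixes_pow_eq_one hp hD0p X (hRp.to_le inf_le_left) hDX ?_
      intro x hx hxp q hq
      exact Subgroup.mem_centralizer_singleton_iff.2 (hQI q (Subgroup.mem_inf.1 hq).1 x
        (Subgroup.mem_inf.2 ⟨hΩ x hx.1 hxp (hcomm hx.2), hx.1⟩))
    have h1 : D0 ≤ Subgroup.centralizer (R : Set H) := Cfsg.Agent.Lib.Coprime.le_centralizer_of_PxQ hZp hD0p hRp
      (Subgroup.le_centralizer_iff.1 inf_le_right) Subgroup.le_normalizer_of_normal hDR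
      (Subgroup.le_centralizer_iff.1 hDcX)
    exact eq_bot_iff.2 fun x hx => hRQ ▸ Subgroup.mem_inf.2 ⟨hC (h1 hx), (Subgroup.mem_inf.1 hx).1⟩
  by_cases hbR : b ∈ R
  · rw [eq_bot_iff, ← hD0]
    refine le_inf le_rfl ?_
    intro q hq
    rw [Subgroup.mem_centralizer_iff]
    rintro _ ⟨i, rfl⟩
    exact ((show Commute q b from hQI q hq b (Subgroup.mem_inf.2 ⟨hbB, hbR⟩)).zpow_right i).eq.symm
  have hIcard : Nat.card I ≤ p := by
    obtain ⟨i, hi, hie⟩ := (Nat.dvd_prime_pow (Fact.out : p.Prime)).1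
      ((Subgroup.card_dvd_of_le (inf_le_left : I ≤ B)).trans hBcard)
    have hlt : Nat.card I < Nat.card B := Cfsg.Agent.Lib.FusionControl.card_lt_of_lt
      (lt_of_le_not_ge inf_le_left fun h => hbR (Subgroup.mem_inf.1 (h hbB)).2)
    have h2 : Nat.card I < p ^ 2 := hlt.trans_le (Nat.le_of_dvd (pow_pos (Fact.out : p.Prime).pos 2) hBcard)
    rw [hie] at h2 ⊢
    have : i < 2 := (Nat.pow_lt_pow_iff_right (Fact.out : p.Prime).one_lt).1 h2
    calc p ^ i ≤ p ^ 1 := Nat.pow_le_pow_right (Fact.out : p.Prime).pos (by omega)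
      _ = p := pow_one p
  by_contra hne
  -- an invariant abelian subgroup
  obtain ⟨q, hq, hqd⟩ := Nat.exists_prime_and_dvd (show Nat.card Qb ≠ 1 from fun h => hne (Subgroup.card_eq_one.1 h))
  have := Fact.mk hq
  have hZQ : Zb ≤ Subgroup.normalizer (Qb : Set H) := Subgroup.zpowers_le.2 (hBQ hbB)
  obtain ⟨Sq, hSq⟩ := Cfsg.Agent.Lib.Coprime.exists_invariant_sylow hZQ (coprime_isPGroup hZp hQ)
    (Or.inl (have := hZp.isNilpotent; inferInstance)) q
  set S := (Sq : Subgroup Qb).map Qb.subtype with hS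
  have hSnt : Nontrivial S := by
    rw [Subgroup.nontrivial_iff_ne_bot, hS, Ne, Subgroup.map_eq_bot_iff_of_injective _ Qb.subtype_injective]
    exact Sq.ne_bot_of_dvd_card hqd
  have hSp : IsPGroup q S := Sq.2.map _
  set D := (Subgroup.center S).map S.subtype with hD
  have hDQ : D ≤ Qb := (Subgroup.map_subtype_le _).trans (Subgroup.map_subtype_le _)
  have hDne : D ≠ ⊥ := by
    rw [hD, Ne, Subgroup.map_eq_bot_iff_of_injective _ S.subtype_injective]
    have := hSp.center_nontrivial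
    exact (Subgroup.nontrivial_iff_ne_bot _).1 this
  have hbD : b ∈ Subgroup.normalizer (D : Set H) :=
    Cfsg.Agent.Lib.Cores.normalizer_le_normalizer_map_subtype S _ (hSq (Subgroup.mem_zpowers b))
  have hDp : (Nat.card D).Coprime p := hQ.coprime_dvd_left (Subgroup.card_dvd_of_le hDQ)
  have hDfpf : ∀ d ∈ D, Commute b d → d = 1 := fun d hd hc => Subgroup.mem_bot.1 (hD0 ▸ Subgroup.mem_inf.2
    ⟨hDQ hd, Subgroup.mem_centralizer_iff.2 (by rintro _ ⟨i, rfl⟩; exact (hc.symm.zpow_right i).eq.symm)⟩)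
  obtain ⟨R1, ⟨hR1R, hDR1, hbR1, hR1ne⟩, hR1min⟩ := exists_minimal_of_wellFoundedLT
    (fun U : Subgroup H => U ≤ R ∧ D ≤ Subgroup.normalizer (U : Set H) ∧ b ∈ Subgroup.normalizer (U : Set H) ∧
      ¬ D ≤ Subgroup.centralizer (U : Set H))
    ⟨R, le_rfl, Subgroup.le_normalizer_of_normal, by rw [Subgroup.normalizer_eq_top]; trivial, fun h =>
      hDne (eq_bot_iff.2 fun x hx => hRQ ▸ Subgroup.mem_inf.2 ⟨hC (h hx), hDQ hx⟩)⟩
  refine hR1ne ?_
  set N := Subgroup.normalizer (R1 : Set H) with hN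
  have hc : ∀ (g : N) (x : R1), ((R1.normalizerMonoidHom g x : R1) : H) = g * x * (g : H)⁻¹ := fun g x => rfl
  have key := fixed_of_minimal hp (hRp.to_le hR1R) R1.normalizerMonoidHom (D.subgroupOf N) ?_ ?_ ⟨b, hbR1⟩
    (Subtype.ext hb) ?_ ?_ ?_ (I.subgroupOf R1) ?_ ?_ ?_
  · intro d hd
    rw [Subgroup.mem_centralizer_iff]
    intro x hx
    have h1 : d * x * d⁻¹ = x := congrArg Subtype.val (key ⟨d, hDR1 hd⟩ (Subgroup.mem_subgroupOf.2 hd) ⟨x, hx⟩)
    exact (mul_inv_eq_iff_eq_mul.1 h1).symm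
  · rintro d hd e he
    obtain ⟨d', hd', hde⟩ := Subgroup.mem_subgroupOf.1 hd
    obtain ⟨e', he', hee⟩ := Subgroup.mem_subgroupOf.1 he
    refine Subtype.ext ?_
    show (d : H) * e = e * d
    rw [← hde, ← hee]
    exact congrArg Subtype.val (Subgroup.mem_center_iff.1 he' d')
  · rw [Nat.card_congr (Subgroup.subgroupOfEquivOfLe hDR1).toEquiv]; exact hDp
  · rw [Subgroup.mem_normalizer_iff]
    intro x
    exact Subgroup.mem_normalizer_iff.1 hbD x
  · intro d hd hcd
    exact Subtype.ext (hDfpf d hd (congrArg Subtype.val hcd.eq))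
  · intro U hU hUD hUb d hd x hx
    set U' := U.map R1.subtype with hU'
    have hnorm : ∀ g (hg : g ∈ N), (∀ x ∈ U, R1.normalizerMonoidHom ⟨g, hg⟩ x ∈ U) → g ∈ Subgroup.normalizer (U' : Set H) :=
      fun g hg hinv => mem_normalizer_of_cj_le (cj_le_iff.2 (by
        rintro _ ⟨x, hx, rfl⟩
        exact ⟨_, hinv x hx, rfl⟩))
    have h1 : D ≤ Subgroup.centralizer (U' : Set H) := by
      by_contra h
      have hle : R1 ≤ U' := hR1min ⟨(Subgroup.map_subtype_le _).trans hR1R,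
        fun g hg => hnorm g (hDR1 hg) (hUD _ (Subgroup.mem_subgroupOf.2 hg)),
        hnorm b hbR1 hUb, h⟩ (Subgroup.map_subtype_le _)
      exact hU (eq_top_iff.2 fun y _ => by
        obtain ⟨z, hz, hzy⟩ := hle y.2
        exact Subtype.ext hzy ▸ hz)
    refine Subtype.ext ?_
    rw [hc]
    rw [← Subgroup.mem_centralizer_iff.1 (h1 (Subgroup.mem_subgroupOf.1 hd)) x ⟨x, hx, rfl⟩, mul_inv_cancel_right]
  · refine le_trans ?_ hIcard
    exact Nat.card_le_card_of_injective (fun x : I.subgroupOf R1 => (⟨x.1.1, x.2⟩ : I))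
      fun x y h => Subtype.ext (Subtype.ext (congrArg (fun z : I => (z : H)) h))
  · intro d hd x hx
    refine Subtype.ext ?_
    rw [hc, hQI _ (hDQ (Subgroup.mem_subgroupOf.1 hd)) x (Subgroup.mem_subgroupOf.1 hx), mul_inv_cancel_right]
  · intro x hxp hfix
    have h1 : b * x * b⁻¹ = x := congrArg Subtype.val hfix
    exact Subgroup.mem_subgroupOf.2 (Subgroup.mem_inf.2 ⟨hΩ x (hR1R x.2) (congrArg Subtype.val hxp)
      (mul_inv_eq_iff_eq_mul.1 h1).symm, hR1R x.2⟩)

/-- Let p be an odd prime, G a finite p-solvable group, and B an elementary abelian subgroup of order p² such that B is the subgroup generated by the elements of order p of some Sylow p-subgroup of C_G(b₀), for some nontrivial b₀ ∈ B. Then every B-invariant subgroup of G of order prime to p lies in O_{p'}(G). -/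
theorem result {G : Type*} [Group G] [Finite G] {p : ℕ} [Fact p.Prime] (hp : p ≠ 2)
    (hG : Cfsg.IsPSolvable p G) (B : Subgroup G) (hB : Cfsg.IsElementaryAbelian p B) (hBc : Nat.card B = p ^ 2)
    (b₀ : G) (hb₀ : b₀ ∈ B) (hb₁ : b₀ ≠ 1) (P : Sylow p ↥(Subgroup.centralizer ({b₀} : Set G)))
    (hBP : B = Subgroup.closure {x : G | x ∈ ((P : Subgroup ↥(Subgroup.centralizer ({b₀} : Set G))).map
      (Subgroup.centralizer ({b₀} : Set G)).subtype : Subgroup G) ∧ orderOf x = p})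
    (Q : Subgroup G) (hQ : ¬ p ∣ Nat.card Q) (hinv : ∀ b ∈ B, ∀ x ∈ Q, b * x * b⁻¹ ∈ Q) :
    Q ≤ Cfsg.pPrimeCore p G := by
  open Cfsg.Agent.Lib.FusionControl in
  classical
  set N := Cfsg.pPrimeCore p G with hN
  set f := QuotientGroup.mk' N with hf
  set Pg := (P : Subgroup (Subgroup.centralizer ({b₀} : Set G))).map (Subgroup.centralizer ({b₀} : Set G)).subtype with hPg
  have hPp : IsPGroup p Pg := P.2.map _
  have hPC : Pg ≤ (Subgroup.centralizer ({b₀} : Set G)) := Subgroup.map_subtype_le _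
  have hPi : ¬ p ∣ Pg.relIndex (Subgroup.centralizer ({b₀} : Set G)) := by
    rw [Subgroup.relIndex, hPg, Subgroup.subgroupOf, Subgroup.comap_map_eq_self_of_injective (Subgroup.centralizer ({b₀} : Set G)).subtype_injective]
    exact P.not_dvd_index
  set O := Cfsg.pPrimePCore p G with hO
  have hOn : O.Normal := Cfsg.Agent.Lib.Components.pPrimePCore_normal' p
  set T := Pg ⊓ (O ⊓ (Subgroup.centralizer ({b₀} : Set G))) with hT
  have hTi : ¬ p ∣ T.relIndex (O ⊓ (Subgroup.centralizer ({b₀} : Set G))) := by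
    refine Cfsg.Agent.Lib.FusionControl.not_dvd_relIndex_inf hPC hPp hPi inf_le_right ?_
    intro c hc
    rw [Cfsg.Agent.Lib.FusionControl.mem_normalizer_iff_cj, Cfsg.Agent.Lib.FusionControl.cj_inf,
      Cfsg.Agent.Lib.FusionControl.mem_normalizer_iff_cj.1 (show c ∈ Subgroup.normalizer (O : Set G) by
        rw [Subgroup.normalizer_eq_top]; trivial),
      Cfsg.Agent.Lib.FusionControl.mem_normalizer_iff_cj.1 (Subgroup.le_normalizer hc)]
  have hTp : IsPGroup p T := hPp.to_le inf_le_left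
  have hTinj : ∀ t ∈ T, f t = 1 → t = 1 := fun t ht h => by
    have : t ∈ T ⊓ N := Subgroup.mem_inf.2 ⟨ht, (QuotientGroup.eq_one_iff t).1 h⟩
    rwa [Cfsg.Agent.Lib.Components.isPGroup_inf_pPrimeCore_eq_bot hTp, Subgroup.mem_bot] at this
  have hXT : (O ⊓ (Subgroup.centralizer ({b₀} : Set G))).map f ≤ T.map f := by
    have hle : T.map f ≤ (O ⊓ (Subgroup.centralizer ({b₀} : Set G))).map f := Subgroup.map_mono inf_le_right
    have hXp : IsPGroup p ↥((O ⊓ (Subgroup.centralizer ({b₀} : Set G))).map f) := (Cfsg.Agent.Lib.Cores.pCore_isPGroup p (G ⧸ N)).to_le (by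
      rintro _ ⟨x, hx, rfl⟩; exact hx.1)
    obtain ⟨e, he⟩ := IsPGroup.iff_card.1 hXp
    have h1 : Nat.card ↥((O ⊓ (Subgroup.centralizer ({b₀} : Set G))).map f) ∣ Nat.card T := by
      have h2 : Nat.card ↥((O ⊓ (Subgroup.centralizer ({b₀} : Set G))).map f) ∣ Nat.card ↥(O ⊓ (Subgroup.centralizer ({b₀} : Set G))) := Subgroup.card_map_dvd _ _
      rw [← Cfsg.Agent.Lib.Coprime.relIndex_mul_card (inf_le_right : T ≤ O ⊓ (Subgroup.centralizer ({b₀} : Set G)))] at h2
      refine Nat.Coprime.dvd_of_dvd_mul_right ?_ h2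
      rw [he]
      exact Nat.Coprime.pow_left e ((Nat.Prime.coprime_iff_not_dvd Fact.out).2 hTi)
    refine (Subgroup.eq_of_le_of_card_ge hle ((Nat.le_of_dvd Nat.card_pos h1).trans ?_)).ge
    exact Nat.card_le_card_of_injective (fun t : T => (⟨f t, ⟨t, t.2, rfl⟩⟩ : T.map f)) fun t t' h => by
      have h2 : f (t : G) = f t' := congrArg Subtype.val h
      exact Subtype.ext (inv_mul_eq_one.1 (hTinj _ (mul_mem (inv_mem t.2) t'.2) (by
        rw [map_mul, map_inv, h2, inv_mul_cancel])))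
  have hb₀C : b₀ ∈ (Subgroup.centralizer ({b₀} : Set G)) := Subgroup.mem_centralizer_singleton_iff.2 rfl
  have hΩ : ∀ x ∈ Cfsg.pCore p (G ⧸ N), x ^ p = 1 → Commute x (f b₀) → x ∈ B.map f := by
    intro x hx hxp hxc
    obtain ⟨z, hzC, hzp, hzx⟩ := Cfsg.Agent.Lib.OddLocal.exists_lift_fixed
      (A := Subgroup.zpowers b₀) (IsPGroup.of_card_dvd_pow (n := 1) (by
        rw [Nat.card_zpowers, pow_one]; exact orderOf_dvd_of_pow_eq_one (hB.2 b₀ hb₀))) hx (by
      rw [MonoidHom.map_zpowers, Subgroup.mem_centralizer_iff]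
      rintro _ ⟨i, rfl⟩
      exact (hxc.zpow_right i).eq.symm)
    obtain ⟨t, ht, htx⟩ := hXT (⟨z, Subgroup.mem_inf.2 ⟨show f z ∈ Cfsg.pCore p (G ⧸ N) by rw [hzx]; exact hx,
      Subgroup.mem_centralizer_singleton_iff.2 (Subgroup.mem_centralizer_iff.1 hzC b₀ (Subgroup.mem_zpowers b₀)).symm⟩,
      hzx⟩ : x ∈ (O ⊓ (Subgroup.centralizer ({b₀} : Set G))).map f)
    refine ⟨t, ?_, htx⟩
    have htp : t ^ p = 1 := hTinj _ (pow_mem ht p) (by rw [map_pow, htx, hxp])
    by_cases ht1 : t = 1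
    · rw [ht1]; exact one_mem _
    rw [hBP]
    exact Subgroup.subset_closure ⟨(Subgroup.mem_inf.1 ht).1, orderOf_eq_prime htp ht1⟩
  have hsol := Cfsg.Agent.S3744.pSolvable_quotient hG N
  have hcc := Cfsg.Agent.Lib.Blocks.centralizer_pCore_le_of_isPSolvable p hsol
    (Cfsg.Agent.Lib.Cores.pPrimeCore_quotient_pPrimeCore p G)
  have := hB.1
  have key := eq_bot_of_omega hp hcc (B := B.map f) (Qb := Q.map f) (b := f b₀)
    (by rw [← map_pow, hB.2 b₀ hb₀, map_one]) ⟨b₀, hb₀, rfl⟩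
    ⟨⟨fun u v => by
      obtain ⟨a, ha, ea⟩ := u.2
      obtain ⟨c, hc, ec⟩ := v.2
      refine Subtype.ext ?_
      show (u : G ⧸ N) * v = v * u
      rw [← ea, ← ec, ← map_mul, ← map_mul,
        show a * c = c * a from congrArg Subtype.val (this.is_comm.comm ⟨a, ha⟩ ⟨c, hc⟩)]⟩⟩
    ((Subgroup.card_map_dvd _ _).trans hBc.dvd) hΩ
    ((((Nat.Prime.coprime_iff_not_dvd Fact.out).2 hQ).symm).coprime_dvd_left (Subgroup.card_map_dvd _ _))
    ((Subgroup.map_mono (fun b hb => Cfsg.Agent.Lib.FusionControl.mem_normalizer_of_cj_le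
      (Cfsg.Agent.Lib.FusionControl.cj_le_iff.2 (hinv b hb)))).trans (Subgroup.le_normalizer_map f))
  rwa [Subgroup.map_eq_bot_iff, hf, QuotientGroup.ker_mk'] at key

end Cfsg.Agent.S1902
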