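import Cfsg.Statements.S1903
import Mathlib
import Cfsg.Agent.Lib.Classical.HermCard
import Cfsg.Agent.S1248

/-!
A group `G` of order 320 with `|G'| = 64` and `Z(G')` a four-group is generated by two elements
`x`, `a` subject to relations which bound the order of any group by 320; the involution centralizer
in `PSU(3,4)` satisfies the same hypotheses.
-/

set_option autoImplicit false
set_option linter.all false
open Cfsg

namespace Cfsg.Agent.S1903

open scoped commutatorElement Matrix

/-! ### The relations -/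

section Bound

variable {K : Type*} [Group K]

/-- The relations satisfied by the two generators. -/
structure Rel (x a : K) : Prop where
  hx : x ^ 5 = 1
  hax : (a * x) ^ 5 = 1
  xb1 : Commute x ⁅a, x * a * x⁻¹⁆
  xb2 : Commute x ⁅a, x * (x * a * x⁻¹) * x⁻¹⁆
  ab1 : Commute a ⁅a, x * a * x⁻¹⁆
  ab2 : Commute a ⁅a, x * (x * a * x⁻¹) * x⁻¹⁆
  xs : Commute x (a * a)
  sqb1 : ⁅a, x * a * x⁻¹⁆ * ⁅a, x * a * x⁻¹⁆ = 1
  sqb2 : ⁅a, x * (x * a * x⁻¹) * x⁻¹⁆ * ⁅a, x * (x * a * x⁻¹) * x⁻¹⁆ = 1
  sqs : (a * a) * (a * a) = 1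

theorem card_zpowers_sup_le [Finite K] {H : Subgroup K} {g : K} {n : ℕ} (hn : 0 < n)
    (hN : g ∈ Subgroup.normalizer (H : Set K)) (hg : g ^ n ∈ H) :
    Nat.card (Subgroup.zpowers g ⊔ H : Subgroup K) ≤ n * Nat.card H := by
  have hcarrier := Subgroup.coe_mul_of_left_le_normalizer_right (Subgroup.zpowers g) H
    (Subgroup.zpowers_le.mpr hN)
  let f : Fin n × H → K := fun p => g ^ (p.1 : ℕ) * p.2.1
  have hsub : ((Subgroup.zpowers g ⊔ H : Subgroup K) : Set K) ⊆ Set.range f := by
    rw [hcarrier]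
    rintro _ ⟨p, hp, h, hh, rfl⟩
    obtain ⟨k, rfl⟩ := (mem_powers_iff_mem_zpowers (G := K)).mpr hp
    refine ⟨(⟨k % n, Nat.mod_lt _ hn⟩, ⟨(g ^ n) ^ (k / n) * h, mul_mem (pow_mem hg _) hh⟩), ?_⟩
    show g ^ (k % n) * ((g ^ n) ^ (k / n) * h) = g ^ k * h
    rw [← mul_assoc, ← pow_mul, ← pow_add, Nat.mod_add_div]
  calc Nat.card (Subgroup.zpowers g ⊔ H : Subgroup K)
      ≤ Nat.card (Set.range f) := by
        rw [Nat.card_coe_set_eq, ← SetLike.coe_sort_coe, Nat.card_coe_set_eq]
        exact Set.ncard_le_ncard hsub (Set.toFinite _)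
    _ ≤ Nat.card (Fin n × H) := Finite.card_range_le f
    _ = n * Nat.card H := by rw [Nat.card_prod, Nat.card_fin]

theorem mem_normalizer_of_gens [Finite K] {S : Set K} {g : K}
    (h : ∀ s ∈ S, g * s * g⁻¹ ∈ Subgroup.closure S) :
    g ∈ Subgroup.normalizer (Subgroup.closure S : Set K) := by
  rw [Subgroup.mem_normalizer_iff]
  have hle : Subgroup.closure S ≤ (Subgroup.closure S).comap (MulAut.conj g).toMonoidHom := by
    rw [Subgroup.closure_le]
    intro s hs
    exact h s hs
  have hmap : (Subgroup.closure S).map (MulAut.conj g).toMonoidHom = Subgroup.closure S := by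
    refine Subgroup.eq_of_le_of_card_ge (Subgroup.map_le_iff_le_comap.mpr hle) ?_
    rw [Subgroup.card_map_of_injective (MulAut.conj g).injective]
  intro y
  constructor
  · intro hy
    exact hle hy
  · intro hy
    have hy' : (MulAut.conj g).toMonoidHom y ∈ Subgroup.closure S := hy
    rw [← hmap, Subgroup.mem_map] at hy'
    obtain ⟨z, hz, e⟩ := hy'
    rwa [← (MulAut.conj g).injective e]

/-- The relations bound the order by `320`. -/
theorem Rel.card_le [Finite K] {x a : K} (R : Rel x a) :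
    Nat.card (Subgroup.closure ({x, a} : Set K)) ≤ 320 := by
  set a1 := x * a * x⁻¹ with ha1
  set a2 := x * a1 * x⁻¹ with ha2
  set a3 := x * a2 * x⁻¹ with ha3
  set a4 := x * a3 * x⁻¹ with ha4
  have ha5 : x * a4 * x⁻¹ = a := by
    rw [ha4, ha3, ha2, ha1]
    calc x * (x * (x * (x * (x * a * x⁻¹) * x⁻¹) * x⁻¹) * x⁻¹) * x⁻¹
        = x ^ 5 * a * (x ^ 5)⁻¹ := by
          simp only [pow_succ, pow_zero, one_mul, mul_inv_rev, mul_assoc]
      _ = a := by rw [R.hx, one_mul, inv_one, mul_one]
  have hprod : a * a1 * a2 * a3 * a4 = 1 := by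
    have e : (a * x) ^ 5 = a * a1 * a2 * a3 * a4 * x ^ 5 := by
      rw [ha4, ha3, ha2, ha1]
      simp only [pow_succ, pow_zero, one_mul, mul_assoc, inv_mul_cancel_left]
    rw [R.hax, R.hx, mul_one] at e
    exact e.symm
  set b1 := ⁅a, a1⁆ with hb1
  set b2 := ⁅a, a2⁆ with hb2
  set s := a * a with hs
  have xb1 : Commute x b1 := R.xb1
  have xb2 : Commute x b2 := R.xb2
  have xs : Commute x s := R.xs
  have sqb1 : b1 * b1 = 1 := R.sqb1
  have sqb2 : b2 * b2 = 1 := R.sqb2
  have sqs : s * s = 1 := R.sqs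
  have xinv : ∀ {b : K}, Commute x b → x * b * x⁻¹ = b := fun h => by
    rw [h.eq, mul_inv_cancel_right]
  have shift : ∀ {b y : K}, Commute x b → Commute y b → Commute (x * y * x⁻¹) b := fun h h' =>
    (h.mul_left h').mul_left h.inv_left
  -- all generators commute with `b1`, `b2`, `s`
  have c0 : Commute a s := (Commute.refl a).mul_right (Commute.refl a)
  have hcent : ∀ b, Commute x b → Commute a b →
      Commute a b ∧ Commute a1 b ∧ Commute a2 b ∧ Commute a3 b ∧ Commute a4 b := fun b h h' =>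
    ⟨h', shift h h', shift h (shift h h'), shift h (shift h (shift h h')),
      shift h (shift h (shift h (shift h h')))⟩
  obtain ⟨p0, p1, p2, p3, -⟩ := hcent b1 xb1 R.ab1
  obtain ⟨q0, q1, q2, q3, -⟩ := hcent b2 xb2 R.ab2
  obtain ⟨r0, r1, r2, r3, -⟩ := hcent s xs c0
  have rb1 : Commute s b1 := p0.mul_left p0
  have rb2 : Commute s b2 := q0.mul_left q0
  have b12 : Commute b1 b2 := by
    rw [hb1, commutatorElement_def]
    exact ((q0.mul_left q1).mul_left q0.inv_left).mul_left q1.inv_left
  -- squares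
  have sq1 : a1 * a1 = s := by rw [ha1, conj_mul, ← hs, xinv xs]
  have sq2 : a2 * a2 = s := by rw [ha2, conj_mul, sq1, xinv xs]
  have sq3 : a3 * a3 = s := by rw [ha3, conj_mul, sq2, xinv xs]
  have sq4 : a4 * a4 = s := by rw [ha4, conj_mul, sq3, xinv xs]
  -- commutators
  have binv1 : b1⁻¹ = b1 := inv_eq_of_mul_eq_one_right sqb1
  have binv2 : b2⁻¹ = b2 := inv_eq_of_mul_eq_one_right sqb2
  have conjC : ∀ u v : K, x * ⁅u, v⁆ * x⁻¹ = ⁅x * u * x⁻¹, x * v * x⁻¹⁆ := fun u v => by
    simp [commutatorElement_def, mul_assoc]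
  have k21 : ⁅a1, a2⁆ = b1 := by rw [ha2]; nth_rewrite 1 [ha1]; rw [← conjC, ← hb1, xinv xb1]
  have k32 : ⁅a2, a3⁆ = b1 := by rw [ha3]; nth_rewrite 1 [ha2]; rw [← conjC, k21, xinv xb1]
  have k31 : ⁅a1, a3⁆ = b2 := by rw [ha3]; nth_rewrite 1 [ha1]; rw [← conjC, ← hb2, xinv xb2]
  have k42 : ⁅a2, a4⁆ = b2 := by rw [ha4]; nth_rewrite 1 [ha2]; rw [← conjC, k31, xinv xb2]
  have k03 : ⁅a3, a⁆ = b2 := by rw [← ha5]; nth_rewrite 1 [ha3]; rw [← conjC, k42, xinv xb2]
  have sw : ∀ {u v b : K}, ⁅u, v⁆ = b → b⁻¹ = b → v * u = b * (u * v) := fun {u v b} h hb => by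
    rw [← hb, ← h, commutatorElement_def]; group
  have w10 : a1 * a = b1 * (a * a1) := sw hb1.symm binv1
  have w20 : a2 * a = b2 * (a * a2) := sw hb2.symm binv2
  have w30 : a3 * a = b2 * (a * a3) := by
    have : ⁅a, a3⁆ = b2 := by rw [← commutatorElement_inv, k03, binv2]
    exact sw this binv2
  have w21 : a2 * a1 = b1 * (a1 * a2) := sw k21 binv1
  have w31 : a3 * a1 = b2 * (a1 * a3) := sw k31 binv2
  have w32 : a3 * a2 = b1 * (a2 * a3) := sw k32 binv1
  -- `s = b1 * b2`
  have hsb : s = b1 * b2 := by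
    have as2 : ∀ {u v w : K}, u * v = w → ∀ r, u * (v * r) = w * r := fun h r => by
      rw [← mul_assoc, h]
    have L := fun {u b : K} (h : Commute u b) => as2 h.eq
    have hsq : (a * a1 * a2 * a3) * (a * a1 * a2 * a3) = b1 * b2 := by
      simp only [mul_assoc, w10, w20, w30, w21, w31, w32, as2 w10, as2 w20, as2 w30, as2 w21,
        as2 w31, as2 w32, ← hs, as2 hs.symm, sq1, sq2, sq3, as2 sq1, as2 sq2, as2 sq3,
        p0.eq, p1.eq, p2.eq, p3.eq, q0.eq, q1.eq, q2.eq, q3.eq, r0.eq, r1.eq, r2.eq, r3.eq,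
        L p0, L p1, L p2, L p3, L q0, L q1, L q2, L q3, L r0, L r1, L r2, L r3,
        rb1.eq, rb2.eq, b12.symm.eq, L rb1, L rb2, L b12.symm,
        sqb1, sqb2, sqs, as2 sqb1, as2 sqb2, as2 sqs, one_mul, mul_one]
    have h4 : a * a1 * a2 * a3 = a4⁻¹ := eq_inv_of_mul_eq_one_left hprod
    rw [h4, ← mul_inv_rev, sq4, inv_eq_of_mul_eq_one_right sqs] at hsq
    exact hsq
  -- the normal subgroup of order at most `64`
  set Z := Subgroup.closure ({b1, b2} : Set K) with hZ
  have zb1 : b1 ∈ Z := Subgroup.subset_closure (by simp)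
  have zb2 : b2 ∈ Z := Subgroup.subset_closure (by simp)
  have hZ4 : Nat.card Z ≤ 4 := by
    have e : Z = Subgroup.zpowers b1 ⊔ Subgroup.zpowers b2 := by
      rw [hZ, Set.insert_eq, Subgroup.closure_union, Subgroup.zpowers_eq_closure,
        Subgroup.zpowers_eq_closure]
    rw [e]
    refine (card_zpowers_sup_le (n := 2) (by norm_num) ?_ (by rw [pow_two, sqb1]; exact one_mem _)).trans ?_
    · rw [Subgroup.zpowers_eq_closure]
      refine mem_normalizer_of_gens fun t ht => ?_
      rw [Set.mem_singleton_iff] at ht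
      rw [ht, b12.eq, mul_inv_cancel_right]
      exact Subgroup.subset_closure rfl
    · have : Nat.card (Subgroup.zpowers b2) ≤ 2 := by
        rw [Nat.card_zpowers]; exact orderOf_le_of_pow_eq_one (by norm_num) (by rw [pow_two, sqb2])
      omega
  set H1 := Subgroup.closure ({a, b1, b2} : Set K) with hH1
  set H2 := Subgroup.closure ({a1, a, b1, b2} : Set K) with hH2
  set H3 := Subgroup.closure ({a2, a1, a, b1, b2} : Set K) with hH3
  set H4 := Subgroup.closure ({a3, a2, a1, a, b1, b2} : Set K) with hH4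
  have ins : ∀ (g : K) (S : Set K),
      Subgroup.closure (insert g S) = Subgroup.zpowers g ⊔ Subgroup.closure S := fun g S => by
    rw [Set.insert_eq, Subgroup.closure_union, Subgroup.zpowers_eq_closure]
  have cj : ∀ {g t b : K}, g * t = b * (t * g) → g * t * g⁻¹ = b * t := fun h => by
    rw [h, mul_assoc, mul_inv_cancel_right]
  have cc : ∀ {g t : K}, Commute g t → g * t * g⁻¹ = t := fun h => by
    rw [h.eq, mul_inv_cancel_right]
  have m1 : Nat.card H1 ≤ 8 := by
    rw [hH1, ins]
    refine (card_zpowers_sup_le (n := 2) (by norm_num) ?_ ?_).trans (by rw [hZ] at hZ4; omega)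
    · refine mem_normalizer_of_gens ?_
      rintro t (rfl | rfl)
      · rw [cc p0]; exact zb1
      · rw [cc q0]; exact zb2
    · rw [pow_two, ← hs, hsb]; exact mul_mem zb1 zb2
  have g1 : ∀ {S : Set K}, b1 ∈ S → b2 ∈ S → s ∈ Subgroup.closure S := fun h h' => by
    rw [hsb]; exact mul_mem (Subgroup.subset_closure h) (Subgroup.subset_closure h')
  have m2 : Nat.card H2 ≤ 16 := by
    rw [hH2, ins]
    refine (card_zpowers_sup_le (n := 2) (by norm_num) ?_ ?_).trans (by rw [hH1] at m1; omega)
    · refine mem_normalizer_of_gens ?_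
      rintro t (rfl | rfl | rfl)
      · rw [cj w10]
        exact mul_mem (Subgroup.subset_closure (by simp)) (Subgroup.subset_closure (by simp))
      · rw [cc p1]; exact Subgroup.subset_closure (by simp)
      · rw [cc q1]; exact Subgroup.subset_closure (by simp)
    · rw [pow_two, sq1]; exact g1 (by simp) (by simp)
  have m3 : Nat.card H3 ≤ 32 := by
    rw [hH3, ins]
    refine (card_zpowers_sup_le (n := 2) (by norm_num) ?_ ?_).trans (by rw [hH2] at m2; omega)
    · refine mem_normalizer_of_gens ?_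
      rintro t (rfl | rfl | rfl | rfl)
      · rw [cj w21]
        exact mul_mem (Subgroup.subset_closure (by simp)) (Subgroup.subset_closure (by simp))
      · rw [cj w20]
        exact mul_mem (Subgroup.subset_closure (by simp)) (Subgroup.subset_closure (by simp))
      · rw [cc p2]; exact Subgroup.subset_closure (by simp)
      · rw [cc q2]; exact Subgroup.subset_closure (by simp)
    · rw [pow_two, sq2]; exact g1 (by simp) (by simp)
  have m4 : Nat.card H4 ≤ 64 := by
    rw [hH4, ins]
    refine (card_zpowers_sup_le (n := 2) (by norm_num) ?_ ?_).trans (by rw [hH3] at m3; omega)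
    · refine mem_normalizer_of_gens ?_
      rintro t (rfl | rfl | rfl | rfl | rfl)
      · rw [cj w32]
        exact mul_mem (Subgroup.subset_closure (by simp)) (Subgroup.subset_closure (by simp))
      · rw [cj w31]
        exact mul_mem (Subgroup.subset_closure (by simp)) (Subgroup.subset_closure (by simp))
      · rw [cj w30]
        exact mul_mem (Subgroup.subset_closure (by simp)) (Subgroup.subset_closure (by simp))
      · rw [cc p3]; exact Subgroup.subset_closure (by simp)
      · rw [cc q3]; exact Subgroup.subset_closure (by simp)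
    · rw [pow_two, sq3]; exact g1 (by simp) (by simp)
  have g4 : ∀ t ∈ ({a3, a2, a1, a, b1, b2} : Set K), t ∈ H4 := fun t ht => Subgroup.subset_closure ht
  have hxN : x ∈ Subgroup.normalizer (H4 : Set K) := by
    rw [hH4]
    refine mem_normalizer_of_gens ?_
    rintro t (rfl | rfl | rfl | rfl | rfl | rfl)
    · rw [← ha4, eq_inv_of_mul_eq_one_right hprod]
      exact inv_mem (mul_mem (mul_mem (mul_mem (g4 _ (by simp)) (g4 _ (by simp)))
        (g4 _ (by simp))) (g4 _ (by simp)))
    · rw [← ha3]; exact g4 _ (by simp)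
    · rw [← ha2]; exact g4 _ (by simp)
    · rw [← ha1]; exact g4 _ (by simp)
    · rw [xinv xb1]; exact g4 _ (by simp)
    · rw [xinv xb2]; exact g4 _ (by simp)
  have hle : Subgroup.closure ({x, a} : Set K) ≤ Subgroup.zpowers x ⊔ H4 := by
    rw [Subgroup.closure_le]
    rintro t (rfl | rfl)
    · exact Subgroup.mem_sup_left (Subgroup.mem_zpowers _)
    · exact Subgroup.mem_sup_right (g4 _ (by simp))
  refine (Subgroup.card_le_of_le hle).trans ((card_zpowers_sup_le (n := 5) (by norm_num) hxN
    (by rw [R.hx]; exact one_mem _)).trans ?_)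
  omega

end Bound

/-! ### The two generators of a group with the hypotheses -/

theorem gens {G : Type*} [Group G] [Finite G] (hG : Nat.card G = 320) (T : Subgroup G) [T.Normal]
    (hT : Nat.card T = 64) (hZ : IsKleinFour (Subgroup.center T)) (hTG : T ≤ commutator G) :
    ∃ x a : G, Rel x a ∧ Subgroup.closure ({x, a} : Set G) = ⊤ := by
  classical
  haveI : Fact (Nat.Prime 5) := ⟨by norm_num⟩
  haveI : Fact (Nat.Prime 2) := ⟨Nat.prime_two⟩
  obtain ⟨x, hx⟩ := exists_prime_orderOf_dvd_card' 5 (by rw [hG]; norm_num)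
  have hx5 : x ^ 5 = 1 := hx ▸ pow_orderOf_eq_one x
  -- `x` and `T` generate
  have hxT : x ∉ T := fun h => by
    have h1 := Subgroup.orderOf_dvd_natCard T h
    rw [hx, hT] at h1
    norm_num at h1
  have hgen : ∀ K : Subgroup G, x ∈ K → T ≤ K → K = ⊤ := by
    intro K hxK hTK
    refine Subgroup.eq_top_of_card_eq _ ?_
    have h5 : 5 ∣ Nat.card K := by
      have := Subgroup.orderOf_dvd_natCard K hxK; rwa [hx] at this
    have h64 : 64 ∣ Nat.card K := hT ▸ Subgroup.card_dvd_of_le hTK
    refine Nat.dvd_antisymm (Subgroup.card_subgroup_dvd_card K) ?_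
    rw [hG]; exact Nat.Coprime.mul_dvd_of_dvd_of_dvd (by norm_num) h5 h64
  set Z : Subgroup G := (Subgroup.center T).map T.subtype with hZdef
  haveI : Z.Normal := ConjAct.normal_of_characteristic_of_normal
  have hZ4 : Nat.card Z = 4 := by
    rw [hZdef, Subgroup.card_map_of_injective T.subtype_injective]; exact hZ.card_four
  have hZT : Z ≤ T := Subgroup.map_subtype_le _
  have hZc : ∀ z ∈ Z, ∀ t ∈ T, Commute t z := by
    rintro _ ⟨z, hz, rfl⟩ t ht
    exact congrArg Subtype.val (Subgroup.mem_center_iff.mp hz ⟨t, ht⟩)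
  have hZ2 : ∀ z ∈ Z, z * z = 1 := by
    rintro _ ⟨z, hz, rfl⟩
    have h1 : (⟨z, hz⟩ : Subgroup.center T) ^ 2 = 1 := by
      rw [← hZ.exponent_two]; exact Monoid.pow_exponent_eq_one _
    rw [pow_two] at h1
    exact congrArg (fun w : Subgroup.center T => ((w : T) : G)) h1
  -- fixed points modulo 5
  have fixmod : ∀ {H : Type _} [Group H] [Finite H] (y : H) (_ : y ^ 5 = 1) (U : Subgroup H)
      (_ : ∀ u ∈ U, y * u * y⁻¹ ∈ U),
      Nat.card (U ⊓ Subgroup.centralizer {y} : Subgroup H) ≡ Nat.card U [MOD 5] := by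
    intro H _ _ y hy U hU
    haveI := Fintype.ofFinite H
    let σ : Equiv.Perm U := Equiv.ofBijective (fun u => ⟨y * u.1 * y⁻¹, hU _ u.2⟩)
      (Finite.injective_iff_bijective.mp fun u v h => Subtype.ext (by
        simpa using congrArg Subtype.val h))
    have hσ : ∀ (n : ℕ) (u : U), ((σ ^ n) u : H) = y ^ n * u * (y ^ n)⁻¹ := by
      intro n
      induction n with
      | zero => intro u; simp
      | succ n ih =>
        intro u
        rw [pow_succ', Equiv.Perm.mul_apply]
        show y * ((σ ^ n) u : H) * y⁻¹ = _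
        rw [ih, pow_succ']; group
    have hσ5 : σ ^ 5 ^ 1 = 1 := Equiv.ext fun u => Subtype.ext (by
      rw [pow_one, hσ, hy]; simp)
    have h := Equiv.Perm.card_compl_support_modEq hσ5
    rw [← Nat.card_eq_fintype_card] at h
    unfold Nat.ModEq at h ⊢
    rw [← h]
    congr 1
    rw [← Nat.card_eq_finsetCard]
    refine Nat.card_congr
      { toFun := fun u => ⟨⟨u.1, u.2.1⟩, ?_⟩
        invFun := fun u => ⟨u.1.1, u.1.2, ?_⟩
        left_inv := fun u => rfl
        right_inv := fun u => rfl }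
    · rw [Finset.mem_compl, Equiv.Perm.mem_support, not_not]
      refine Subtype.ext ?_
      show y * u.1 * y⁻¹ = u.1
      rw [Subgroup.mem_centralizer_singleton_iff.mp u.2.2 |>.symm, mul_inv_cancel_right]
    · have h1 := u.2
      rw [Finset.mem_compl, Equiv.Perm.mem_support, not_not] at h1
      have h2 : y * (u.1 : H) * y⁻¹ = u.1 := congrArg Subtype.val h1
      exact Subgroup.mem_centralizer_singleton_iff.mpr (mul_inv_eq_iff_eq_mul.mp h2).symm
  -- `x` centralizes `Z`
  have hxZ : ∀ z ∈ Z, Commute x z := by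
    have h := fixmod x hx5 Z (fun u hu => Subgroup.Normal.conj_mem inferInstance u hu x)
    have hle : Nat.card (Z ⊓ Subgroup.centralizer {x} : Subgroup G) ≤ 4 :=
      hZ4 ▸ Subgroup.card_le_of_le inf_le_left
    rw [hZ4] at h
    have h4 : Nat.card (Z ⊓ Subgroup.centralizer {x} : Subgroup G) = 4 := by
      unfold Nat.ModEq at h; omega
    have he := Subgroup.eq_of_le_of_card_ge (inf_le_left : Z ⊓ Subgroup.centralizer {x} ≤ Z)
      (by omega)
    intro z hz
    rw [← he] at hz
    exact (Subgroup.mem_centralizer_singleton_iff.mp hz.2).symm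
  -- the quotient by `Z`
  set π := QuotientGroup.mk' Z with hπ
  have hker : ∀ g, π g = 1 ↔ g ∈ Z := fun g => QuotientGroup.eq_one_iff g
  set W : Subgroup (G ⧸ Z) := T.map π with hW
  have hW16 : Nat.card W = 16 := by
    have h1 := Subgroup.card_map_dvd π (H := T)
    have hQ : Nat.card (G ⧸ Z) = 80 := by
      have := Subgroup.card_eq_card_quotient_mul_card_subgroup Z
      rw [hG, hZ4] at this; omega
    have h2 : Nat.card (G ⧸ T) = 5 := by
      have := Subgroup.card_eq_card_quotient_mul_card_subgroup T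
      rw [hG, hT] at this; omega
    have h3 : W.index = 5 := by
      rw [hW, Subgroup.index_map, QuotientGroup.ker_mk', sup_eq_left.mpr hZT,
        MonoidHom.range_eq_top.mpr (QuotientGroup.mk'_surjective Z), Subgroup.index_top, mul_one,
        Subgroup.index_eq_card, h2]
    have := W.card_mul_index
    rw [h3, hQ] at this; omega
  haveI hWn : W.Normal := Subgroup.Normal.map inferInstance π (QuotientGroup.mk'_surjective Z)
  have hy5 : π x ^ 5 = 1 := by rw [← map_pow, hx5, map_one]
  have dvd16 : ∀ n, n ∣ 16 → n % 5 = 1 → n = 1 ∨ n = 16 := by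
    intro n hn h
    have : n ≤ 16 := Nat.le_of_dvd (by norm_num) hn
    interval_cases n <;> omega
  -- `x` acts without fixed points
  have hfix : W ⊓ Subgroup.centralizer {π x} = ⊥ := by
    have h := fixmod (π x) hy5 W (fun u hu => hWn.conj_mem u hu _)
    rw [hW16] at h
    have hd : Nat.card (W ⊓ Subgroup.centralizer {π x} : Subgroup (G ⧸ Z)) ∣ 16 :=
      hW16 ▸ Subgroup.card_dvd_of_le inf_le_left
    rcases dvd16 _ hd h with h1 | h1
    · exact Subgroup.card_eq_one.mp h1
    · exfalso
      have he := Subgroup.eq_of_le_of_card_ge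
        (inf_le_left : W ⊓ Subgroup.centralizer {π x} ≤ W) (by omega)
      -- then `x` centralizes `T`
      have hxT' : ∀ t ∈ T, Commute x t := by
        intro t ht
        have h2 : π t ∈ W ⊓ Subgroup.centralizer {π x} := by
          rw [he]; exact Subgroup.mem_map_of_mem π ht
        set c := x * t * x⁻¹ * t⁻¹ with hc
        have hcZ : c ∈ Z := by
          rw [← hker, hc, map_mul, map_mul, map_mul, map_inv, map_inv,
            ← Subgroup.mem_centralizer_singleton_iff.mp h2.2]
          group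
        have hxc : x * c * x⁻¹ = c := by rw [(hxZ c hcZ).eq, mul_inv_cancel_right]
        have e : x * t * x⁻¹ = c * t := by rw [hc]; group
        have hn : ∀ n : ℕ, x ^ n * t * (x ^ n)⁻¹ = c ^ n * t := by
          intro n
          induction n with
          | zero => simp
          | succ n ih =>
            calc x ^ (n + 1) * t * (x ^ (n + 1))⁻¹ = x * (x ^ n * t * (x ^ n)⁻¹) * x⁻¹ := by
                  rw [pow_succ']; group
              _ = x * c ^ n * x⁻¹ * (x * t * x⁻¹) := by rw [ih]; group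
              _ = c ^ (n + 1) * t := by
                  rw [((hxZ c hcZ).pow_right n).eq, mul_inv_cancel_right, e, ← mul_assoc, pow_succ]
        have h5 := hn 5
        rw [hx5, one_mul, inv_one, mul_one, eq_comm, mul_eq_right] at h5
        have h1c : c = 1 := by
          have h2c := hZ2 c hcZ
          calc c = c ^ 5 * (c * c)⁻¹ * (c * c)⁻¹ := by group
            _ = 1 := by rw [h5, h2c]; group
        rw [h1c, one_mul] at e
        exact mul_inv_eq_iff_eq_mul.mp e
      have hpT : IsPGroup 2 T := IsPGroup.of_card (n := 6) (by rw [hT]; norm_num)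
      haveI := hpT.isNilpotent
      haveI : Nontrivial T := Finite.one_lt_card_iff_nontrivial.mp (by omega)
      have hlt := IsSolvable.commutator_lt_top_of_nontrivial T
      set D := (commutator T).map T.subtype with hD
      have hDT : D ≤ T := Subgroup.map_subtype_le _
      haveI : D.Normal := ConjAct.normal_of_characteristic_of_normal
      have hcomm : commutator G ≤ D := by
        set φ := QuotientGroup.mk' D with hφ
        have hK : ∀ g, φ g ∈ Subgroup.center (G ⧸ D) := by
          have hTc : ∀ t ∈ T, φ t ∈ Subgroup.center (G ⧸ D) := by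
            intro t ht
            have hK' : (⊤ : Subgroup G) ≤ (Subgroup.centralizer {φ t}).comap φ := by
              refine (hgen _ ?_ ?_).ge
              · rw [Subgroup.mem_comap, Subgroup.mem_centralizer_singleton_iff, ← map_mul, ← map_mul,
                  (hxT' t ht).eq]
              · intro u hu
                rw [Subgroup.mem_comap, Subgroup.mem_centralizer_singleton_iff]
                refine commutatorElement_eq_one_iff_mul_comm.mp ?_
                rw [← map_commutatorElement]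
                exact (QuotientGroup.eq_one_iff _).mpr ⟨⁅(⟨u, hu⟩ : T), ⟨t, ht⟩⁆,
                  Subgroup.commutator_mem_commutator (Subgroup.mem_top _) (Subgroup.mem_top _), rfl⟩
            rw [Subgroup.mem_center_iff]
            intro q
            obtain ⟨g, rfl⟩ := QuotientGroup.mk'_surjective D q
            exact Subgroup.mem_centralizer_singleton_iff.mp (hK' (Subgroup.mem_top g))
          intro g
          have hK' : (⊤ : Subgroup G) ≤ (Subgroup.center (G ⧸ D)).comap φ := by
            refine (hgen _ ?_ (fun t ht => hTc t ht)).ge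
            rw [Subgroup.mem_comap, Subgroup.mem_center_iff]
            intro q
            obtain ⟨u, rfl⟩ := QuotientGroup.mk'_surjective D q
            have hK'' : (⊤ : Subgroup G) ≤ (Subgroup.centralizer {φ x}).comap φ := by
              refine (hgen _ ?_ ?_).ge
              · rw [Subgroup.mem_comap, Subgroup.mem_centralizer_singleton_iff]
              · intro v hv
                rw [Subgroup.mem_comap, Subgroup.mem_centralizer_singleton_iff]
                exact (Subgroup.mem_center_iff.mp (hTc v hv) (φ x)).symm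
            exact Subgroup.mem_centralizer_singleton_iff.mp (hK'' (Subgroup.mem_top u))
          exact hK' (Subgroup.mem_top g)
        rw [commutator_def, Subgroup.commutator_le]
        intro g _ h _
        refine (QuotientGroup.eq_one_iff _).mp ?_
        show φ ⁅g, h⁆ = 1
        rw [map_commutatorElement, commutatorElement_eq_one_iff_mul_comm]
        exact Subgroup.mem_center_iff.mp (hK h) (φ g)
      refine hlt.ne (Subgroup.eq_top_iff' _ |>.mpr fun t => ?_)
      obtain ⟨u, hu, e⟩ := hcomm (hTG t.2)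
      rwa [← Subtype.ext (a1 := u) (a2 := t) e]
  have hfpf : ∀ {w}, w ∈ W → π x * w * (π x)⁻¹ = w → w = 1 := by
    intro w hw h
    have : w ∈ W ⊓ Subgroup.centralizer {π x} :=
      ⟨hw, Subgroup.mem_centralizer_singleton_iff.mpr (mul_inv_eq_iff_eq_mul.mp h).symm⟩
    rw [hfix] at this
    exact this
  -- invariant subgroups of `W`
  have whole : ∀ U : Subgroup (G ⧸ Z), U ≤ W → U ≠ ⊥ → (∀ u ∈ U, π x * u * (π x)⁻¹ ∈ U) → U = W := by
    intro U hUW hne hinv
    have h := fixmod (π x) hy5 U hinv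
    have hb : U ⊓ Subgroup.centralizer {π x} = ⊥ :=
      le_bot_iff.mp (hfix ▸ inf_le_inf_right _ hUW)
    rw [hb, Subgroup.card_bot] at h
    rcases dvd16 _ (hW16 ▸ Subgroup.card_dvd_of_le hUW) h.symm with h1 | h1
    · exact absurd (Subgroup.card_eq_one.mp h1) hne
    · exact Subgroup.eq_of_le_of_card_ge hUW (by omega)
  -- `W` is elementary abelian
  have hWp : IsPGroup 2 W := IsPGroup.of_card (n := 4) (by rw [hW16]; norm_num)
  haveI : Nontrivial W := Finite.one_lt_card_iff_nontrivial.mp (by omega)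
  have hab : ∀ u ∈ W, ∀ v ∈ W, u * v = v * u := by
    have hC : (Subgroup.center W).map W.subtype = W := by
      refine whole _ (Subgroup.map_subtype_le _) ?_ ?_
      · have := hWp.center_nontrivial
        intro h
        rw [Subgroup.map_eq_bot_iff_of_injective _ W.subtype_injective] at h
        exact (Subgroup.nontrivial_iff_ne_bot _).mp this h
      · rintro _ ⟨u, hu, rfl⟩
        haveI : ((Subgroup.center W).map W.subtype).Normal :=
          ConjAct.normal_of_characteristic_of_normal
        exact Subgroup.Normal.conj_mem this _ (Subgroup.mem_map_of_mem _ hu) _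
    intro u hu v hv
    rw [← hC] at hv
    obtain ⟨c, hc, rfl⟩ := hv
    exact congrArg Subtype.val (Subgroup.mem_center_iff.mp hc ⟨u, hu⟩)
  have hsq : ∀ u ∈ W, u * u = 1 := by
    let V : Subgroup (G ⧸ Z) :=
      { carrier := {u | u ∈ W ∧ u * u = 1}
        one_mem' := ⟨one_mem _, one_mul 1⟩
        mul_mem' := fun {u v} hu hv => ⟨mul_mem hu.1 hv.1, by
          rw [mul_assoc, ← mul_assoc v, hab v hv.1 u hu.1, mul_assoc u v v, hv.2, mul_one, hu.2]⟩
        inv_mem' := fun {u} hu => ⟨inv_mem hu.1, by rw [← mul_inv_rev, hu.2, inv_one]⟩ }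
    have hV : V = W := by
      refine whole V (fun u hu => hu.1) ?_ ?_
      · obtain ⟨u, hu⟩ := exists_prime_orderOf_dvd_card' (G := W) 2 (by rw [hW16]; norm_num)
        intro h
        have h1 : (u : G ⧸ Z) ∈ V := ⟨u.2, by
          have := pow_orderOf_eq_one u
          rw [hu, pow_two] at this
          exact congrArg Subtype.val this⟩
        rw [h, Subgroup.mem_bot] at h1
        rw [show u = 1 from Subtype.ext h1, orderOf_one] at hu
        norm_num at hu
      · rintro u ⟨hu, hu2⟩
        refine ⟨hWn.conj_mem u hu _, ?_⟩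
        rw [conj_mul, hu2]; group
    intro u hu
    rw [← hV] at hu
    exact hu.2
  have hmapT : ∀ {t}, t ∈ T → π t ∈ W := fun ht => Subgroup.mem_map_of_mem π ht
  have hconj : ∀ {t}, t ∈ T → x * t * x⁻¹ ∈ T := fun ht => Subgroup.Normal.conj_mem inferInstance _ ht x
  have hcZ : ∀ {u v}, u ∈ T → v ∈ T → ⁅u, v⁆ ∈ Z := fun {u v} hu hv => by
    rw [← hker, map_commutatorElement, commutatorElement_eq_one_iff_mul_comm]
    exact hab _ (hmapT hu) _ (hmapT hv)
  -- the second generator
  obtain ⟨w, hwT, hwZ⟩ : ∃ w ∈ T, w ∉ Z := by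
    by_contra! hne
    have := Subgroup.card_le_of_le (show T ≤ Z from hne)
    omega
  set a := w * x * w⁻¹ * x⁻¹ with ha
  have haT : a ∈ T := by
    have : a = w * (x * w⁻¹ * x⁻¹) := by rw [ha]; group
    rw [this]; exact mul_mem hwT (hconj (inv_mem hwT))
  have haZ : a ∉ Z := by
    intro h
    refine hwZ ((hker w).mp (hfpf (hmapT hwT) ?_))
    have h1 := (hker a).mpr h
    rw [ha, map_mul, map_mul, map_mul, map_inv, map_inv, mul_inv_eq_one, mul_inv_eq_iff_eq_mul] at h1
    rw [← h1, mul_inv_cancel_right]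
  have hZrel : ∀ {z}, z ∈ Z → Commute x z ∧ Commute a z ∧ z * z = 1 := fun hz =>
    ⟨hxZ _ hz, hZc _ hz a haT, hZ2 _ hz⟩
  have hz1 := hZrel (hcZ haT (hconj haT))
  have hz2 := hZrel (hcZ haT (hconj (hconj haT)))
  have hz3 := hZrel (show a * a ∈ Z by rw [← hker, map_mul]; exact hsq _ (hmapT haT))
  refine ⟨x, a, ⟨hx5, ?_, hz1.1, hz2.1, hz1.2.1, hz2.2.1, hz3.1, hz1.2.2, hz2.2.2, hz3.2.2⟩, ?_⟩
  · have : a * x = MulAut.conj w x := by rw [ha, MulAut.conj_apply]; group
    rw [this, ← map_pow, hx5, map_one]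
  -- generation
  set K := Subgroup.closure ({x, a} : Set G) with hK
  have hxK : x ∈ K := Subgroup.subset_closure (by simp)
  have haK : a ∈ K := Subgroup.subset_closure (by simp)
  have hU : (K ⊓ T).map π = W := by
    refine whole _ (Subgroup.map_mono inf_le_right) ?_ ?_
    · intro h
      refine haZ ((hker a).mp ?_)
      rw [← Subgroup.mem_bot, ← h]
      exact Subgroup.mem_map_of_mem π ⟨haK, haT⟩
    · rintro _ ⟨u, ⟨hu1, hu2⟩, rfl⟩
      rw [← map_inv, ← map_mul, ← map_mul]
      exact Subgroup.mem_map_of_mem π (Subgroup.mem_inf.mpr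
        ⟨K.mul_mem (K.mul_mem hxK hu1) (K.inv_mem hxK), hconj hu2⟩)
  have hKZ : ∀ g : G, ∃ k ∈ K, k⁻¹ * g ∈ Z := by
    have hKn : K ⊔ Z = ⊤ := by
      refine hgen _ (Subgroup.mem_sup_left hxK) fun t ht => ?_
      obtain ⟨u, hu, e⟩ := Subgroup.mem_map.mp (hU.ge (hmapT ht))
      have : u⁻¹ * t ∈ Z := by rw [← hker, map_mul, map_inv, e, inv_mul_cancel]
      rw [← mul_inv_cancel_left u t]
      exact Subgroup.mul_mem_sup hu.1 this
    intro g
    have hg : g ∈ K ⊔ Z := hKn ▸ Subgroup.mem_top g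
    rw [Subgroup.mem_sup_of_normal_right] at hg
    obtain ⟨k, hk, z, hz, rfl⟩ := hg
    exact ⟨k, hk, by rwa [inv_mul_cancel_left]⟩
  have hcen : ∀ z ∈ Z, z ∈ Subgroup.center G := by
    intro z hz
    have : (⊤ : Subgroup G) ≤ Subgroup.centralizer {z} := by
      refine (hgen _ ?_ (fun t ht => ?_)).ge
      · exact Subgroup.mem_centralizer_singleton_iff.mpr (hxZ z hz).eq
      · exact Subgroup.mem_centralizer_singleton_iff.mpr (hZc z hz t ht).eq
    rw [Subgroup.mem_center_iff]
    exact fun g => Subgroup.mem_centralizer_singleton_iff.mp (this (Subgroup.mem_top g))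
  have hTK : T ≤ K := by
    refine hTG.trans ?_
    rw [commutator_def, Subgroup.commutator_le]
    intro g _ h _
    obtain ⟨k, hk, hz⟩ := hKZ g
    obtain ⟨l, hl, hz'⟩ := hKZ h
    have eg : g = k * (k⁻¹ * g) := by group
    have eh : h = l * (l⁻¹ * h) := by group
    generalize k⁻¹ * g = z at eg hz
    generalize l⁻¹ * h = z' at eh hz'
    have e1 : ⁅k * z, l * z'⁆ = ⁅k, l⁆ := by
      have cz : ∀ v, z * v = v * z := fun v => (Subgroup.mem_center_iff.mp (hcen z hz) v).symm
      have cz' : ∀ v, z' * v = v * z' := fun v => (Subgroup.mem_center_iff.mp (hcen z' hz') v).symm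
      rw [commutatorElement_def, commutatorElement_def, mul_inv_rev, mul_inv_rev]
      calc k * z * (l * z') * (z⁻¹ * k⁻¹) * (z'⁻¹ * l⁻¹)
          = k * (z * l) * (z' * z⁻¹) * (k⁻¹ * z'⁻¹) * l⁻¹ := by group
        _ = k * (l * z) * (z⁻¹ * z') * (k⁻¹ * z'⁻¹) * l⁻¹ := by rw [cz l, cz' z⁻¹]
        _ = k * l * (z' * k⁻¹) * z'⁻¹ * l⁻¹ := by group
        _ = k * l * (k⁻¹ * z') * z'⁻¹ * l⁻¹ := by rw [cz' k⁻¹]
        _ = k * l * k⁻¹ * l⁻¹ := by group
    rw [eg, eh, e1, commutatorElement_def]
    exact mul_mem (mul_mem (mul_mem hk hl) (inv_mem hk)) (inv_mem hl)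
  exact hgen K hxK hTK

theorem bij_proj {R P : Type*} [Group R] [Finite R] [Group P] [Finite P] {u v : R}
    (hle : Nat.card (Subgroup.closure ({u, v} : Set R)) ≤ 320) (f : R →* P) (hP : Nat.card P = 320)
    (hgen : Subgroup.closure ({f u, f v} : Set P) = ⊤) :
    Function.Bijective (f.comp (Subgroup.closure ({u, v} : Set R)).subtype) := by
  have hsurj : Function.Surjective (f.comp (Subgroup.closure ({u, v} : Set R)).subtype) := by
    rw [← MonoidHom.range_eq_top, eq_top_iff, ← hgen, Subgroup.closure_le]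
    rintro p (rfl | rfl)
    · exact ⟨⟨u, Subgroup.subset_closure (by simp)⟩, rfl⟩
    · exact ⟨⟨v, Subgroup.subset_closure (by simp)⟩, rfl⟩
  refine (Nat.bijective_iff_surjective_and_card _).mpr ⟨hsurj, ?_⟩
  have := Nat.card_le_card_of_surjective _ hsurj
  omega

/-- Two groups with the hypotheses are isomorphic. -/
theorem iso {G M : Type*} [Group G] [Finite G] [Group M] [Finite M]
    (hG : Nat.card G = 320) (hM : Nat.card M = 320)
    {x a : G} (R : Rel x a) (hgenG : Subgroup.closure ({x, a} : Set G) = ⊤)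
    {x' a' : M} (R' : Rel x' a') (hgenM : Subgroup.closure ({x', a'} : Set M) = ⊤) :
    Nonempty (G ≃* M) := by
  have RK : Rel (x, x') (a, a') :=
    ⟨Prod.ext R.hx R'.hx, Prod.ext R.hax R'.hax, Prod.ext R.xb1.eq R'.xb1.eq,
      Prod.ext R.xb2.eq R'.xb2.eq, Prod.ext R.ab1.eq R'.ab1.eq, Prod.ext R.ab2.eq R'.ab2.eq,
      Prod.ext R.xs.eq R'.xs.eq, Prod.ext R.sqb1 R'.sqb1, Prod.ext R.sqb2 R'.sqb2,
      Prod.ext R.sqs R'.sqs⟩
  set K := Subgroup.closure ({(x, x'), (a, a')} : Set (G × M)) with hK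
  have hle : Nat.card K ≤ 320 := RK.card_le
  exact ⟨(MulEquiv.ofBijective _ (bij_proj hle (MonoidHom.fst G M) hG hgenG)).symm.trans
    (MulEquiv.ofBijective _ (bij_proj hle (MonoidHom.snd G M) hM hgenM))⟩

/-! ### The involution centralizer in `PSU(3,4)` -/

open Cfsg.Agent.S1248 Cfsg.Agent.Lib.Classical

set_option maxHeartbeats 1000000 in
theorem exists_centralizer {F : Type*} [Field F] [Fintype F] (hF : Fintype.card F = 16) :
    ∃ t : Cfsg.PSU 3 F 4, orderOf t = 2 ∧
      ∃ T : Subgroup (Subgroup.centralizer ({t} : Set (Cfsg.PSU 3 F 4))),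
        T.Normal ∧ Nat.card (Subgroup.centralizer ({t} : Set (Cfsg.PSU 3 F 4))) = 320 ∧
        Nat.card T = 64 ∧ IsKleinFour (Subgroup.center T) ∧
        T ≤ commutator (Subgroup.centralizer ({t} : Set (Cfsg.PSU 3 F 4))) := by
  classical
  have hF2 : Fintype.card F = 4 ^ 2 := by rw [hF]; norm_num
  have h2 := two_eq_zero hF
  have h16 := pow_sixteen hF
  have add4 := add_pow_four hF
  let σ := conjHom hF2
  have hσ : ∀ x : F, σ x = x ^ 4 := conjHom_apply hF2
  obtain ⟨c, hc⟩ := (trace_facts hF).2.1 1 (one_pow _)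
  set P : Matrix (Fin 3) (Fin 3) F := !![1, 0, c; 1, 0, c + 1; 0, 1, 0] with hP
  have hPdet : P.det = 1 := by
    rw [hP, Matrix.det_fin_three]
    simp only [Matrix.of_apply, Matrix.cons_val', Matrix.cons_val_zero, Matrix.cons_val_one,
      Matrix.cons_val, Matrix.empty_val', Matrix.cons_val_fin_one]
    linear_combination (-1 : F) * h2
  have hPJ : Pᵀ * P.map σ = jMat := by
    ext i j
    fin_cases i <;> fin_cases j <;>
      simp [hP, jMat, Matrix.mul_apply, Fin.sum_univ_succ, hσ, add4] <;>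
      first
        | linear_combination hc
        | linear_combination hc + (c * c ^ 4) * h2
        | linear_combination (c ^ 4) * h2
        | linear_combination c * h2
        | linear_combination h2
        | linear_combination (c + c ^ 4) * h2
        | linear_combination (c ^ 5) * h2
        | linear_combination hc + (c ^ 5 + 1) * h2
  let Q : Matrix.SpecialLinearGroup (Fin 3) F := ⟨P, hPdet⟩
  set P' : Matrix (Fin 3) (Fin 3) F := ((Q⁻¹ : Matrix.SpecialLinearGroup (Fin 3) F) : Matrix (Fin 3) (Fin 3) F)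
    with hP'
  have hPP : P * P' = 1 := congrArg Subtype.val (mul_inv_cancel Q)
  have hPP' : P' * P = 1 := congrArg Subtype.val (inv_mul_cancel Q)
  -- the group of the form `J`
  let SJ : Subgroup (Matrix.SpecialLinearGroup (Fin 3) F) :=
    (Cfsg.SU 3 F 4).comap (MulAut.conj Q).toMonoidHom
  have hSJ : ∀ g : Matrix.SpecialLinearGroup (Fin 3) F, g ∈ SJ ↔
      g.1ᵀ * jMat * g.1.map σ = jMat := by
    intro g
    show Q * g * Q⁻¹ ∈ Cfsg.SU 3 F 4 ↔ _
    rw [mem_SU_iff hF2]
    show (P * g.1 * P')ᵀ * (P * g.1 * P').map σ = 1 ↔ _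
    have e : (P * g.1 * P')ᵀ * (P * g.1 * P').map σ = P'ᵀ * (g.1ᵀ * jMat * g.1.map σ) * P'.map σ := by
      rw [Matrix.map_mul, Matrix.map_mul, Matrix.transpose_mul, Matrix.transpose_mul, ← hPJ]
      simp only [Matrix.mul_assoc]
    have e2 : P'ᵀ * jMat * P'.map σ = 1 := by
      rw [← hPJ]
      calc P'ᵀ * (Pᵀ * P.map σ) * P'.map σ = (P * P')ᵀ * (P * P').map σ := by
            rw [Matrix.transpose_mul, Matrix.map_mul]; simp only [Matrix.mul_assoc]
        _ = 1 := by rw [hPP, Matrix.transpose_one, Matrix.map_one _ (map_zero σ) (map_one σ), one_mul]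
    rw [e]
    constructor
    · intro h
      have h3 := congrArg (fun M => Pᵀ * M * P.map σ) h
      simp only [mul_one, hPJ] at h3
      calc g.1ᵀ * jMat * g.1.map σ
          = (P' * P)ᵀ * (g.1ᵀ * jMat * g.1.map σ) * (P' * P).map σ := by
            rw [hPP', Matrix.transpose_one, Matrix.map_one _ (map_zero σ) (map_one σ), one_mul, mul_one]
        _ = Pᵀ * (P'ᵀ * (g.1ᵀ * jMat * g.1.map σ) * P'.map σ) * P.map σ := by
            rw [Matrix.transpose_mul, Matrix.map_mul]; simp only [Matrix.mul_assoc]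
        _ = jMat := h3
    · intro h
      rw [h, e2]
  let i : SJ →* Cfsg.SU 3 F 4 :=
    { toFun := fun g => ⟨Q * g.1 * Q⁻¹, g.2⟩
      map_one' := Subtype.ext (by simp)
      map_mul' := fun g h => Subtype.ext (show Q * (g.1 * h.1) * Q⁻¹ =
        (Q * g.1 * Q⁻¹) * (Q * h.1 * Q⁻¹) by group) }
  have hi : Function.Bijective i := by
    refine ⟨fun g h e => Subtype.ext (mul_left_cancel (mul_right_cancel (congrArg Subtype.val e))), fun g => ?_⟩
    refine ⟨⟨Q⁻¹ * g.1 * Q, ?_⟩, Subtype.ext ?_⟩
    · show Q * (Q⁻¹ * g.1 * Q) * Q⁻¹ ∈ Cfsg.SU 3 F 4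
      have : Q * (Q⁻¹ * g.1 * Q) * Q⁻¹ = g.1 := by group
      rw [this]; exact g.2
    · show Q * (Q⁻¹ * g.1 * Q) * Q⁻¹ = g.1
      group
  have hcenter : Subgroup.center (Cfsg.SU 3 F 4) = ⊥ :=
    Subgroup.card_eq_one.1 (by rw [card_center_SU hF2 (by norm_num)]; decide)
  let φ : SJ ≃* Cfsg.PSU 3 F 4 := MulEquiv.ofBijective
    ((QuotientGroup.mk' (Subgroup.center (Cfsg.SU 3 F 4))).comp i) (by
      refine ⟨fun g h e => hi.1 ?_, (QuotientGroup.mk'_surjective _).comp hi.2⟩
      have e1 := QuotientGroup.eq.mp e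
      rwa [hcenter, Subgroup.mem_bot, inv_mul_eq_one] at e1)
  haveI : Finite (Cfsg.PSU 3 F 4) := Finite.of_equiv _ φ.toEquiv
  -- unipotent and diagonal elements
  have hu : ∀ u : UT F, (⟨utMat u.a u.b, by simp [utMat, Matrix.det_fin_three]⟩ :
      Matrix.SpecialLinearGroup (Fin 3) F) ∈ SJ := by
    intro u
    refine (hSJ _).mpr ?_
    have e1 := u.rel
    show (utMat u.a u.b)ᵀ * jMat * (utMat u.a u.b).map σ = jMat
    ext i j
    fin_cases i <;> fin_cases j <;>
      simp [utMat, jMat, Matrix.mul_apply, Fin.sum_univ_succ, hσ, ← pow_mul, h16] <;>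
      first
        | ring1
        | linear_combination u.a * h2
        | linear_combination (u.a ^ 4) * h2
        | linear_combination e1 + u.a ^ 5 * h2
  let U : UT F → SJ := fun u => ⟨_, hu u⟩
  have hUmul : ∀ u v w : UT F, w.a = u.a + v.a → w.b = u.b + v.b + u.a * v.a ^ 4 → U w = U u * U v := by
    intro u v w ha hb
    refine Subtype.ext (Subtype.ext ?_)
    show utMat w.a w.b = utMat u.a u.b * utMat v.a v.b
    rw [ha, hb]
    ext i j
    fin_cases i <;> fin_cases j <;>
      simp [utMat, Matrix.mul_apply, Fin.sum_univ_succ, add4] <;> ring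
  have hUinj : Function.Injective U := fun u v h => by
    have h3 : utMat u.a u.b = utMat v.a v.b := congrArg (fun g : SJ => g.1.1) h
    exact UT.ext (by simpa [utMat] using congrFun (congrFun h3 0) 1)
      (by simpa [utMat] using congrFun (congrFun h3 0) 2)
  have hd : ∀ d : F, d ^ 5 = 1 → ∃ g : SJ, g.1.1 = !![d, 0, 0; 0, d ^ 3, 0; 0, 0, d] := by
    intro d hd5
    refine ⟨⟨⟨!![d, 0, 0; 0, d ^ 3, 0; 0, 0, d], ?_⟩, ?_⟩, rfl⟩
    · rw [Matrix.det_fin_three]
      simp only [Matrix.of_apply, Matrix.cons_val', Matrix.cons_val_zero, Matrix.cons_val_one,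
        Matrix.cons_val, Matrix.empty_val', Matrix.cons_val_fin_one]
      linear_combination hd5
    · refine (hSJ _).mpr ?_
      show (!![d, 0, 0; 0, d ^ 3, 0; 0, 0, d])ᵀ * jMat * (!![d, 0, 0; 0, d ^ 3, 0; 0, 0, d]).map σ = jMat
      have h15 : d ^ 15 = 1 := by rw [show 15 = 5 * 3 by norm_num, pow_mul, hd5, one_pow]
      ext i j
      fin_cases i <;> fin_cases j <;>
        simp [jMat, Matrix.mul_apply, Fin.sum_univ_succ, hσ] <;>
        first
          | linear_combination hd5
          | linear_combination h15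
  choose D hD using hd
  -- the involution
  have hrel0 : (1 : F) + 1 ^ 4 = 0 ^ 5 := by linear_combination h2
  set t0 : SJ := U ⟨0, 1, hrel0⟩ with ht0
  have ht1 : t0 ≠ 1 := fun h => by
    have := congrFun (congrFun (congrArg (fun g : SJ => g.1.1) h) 0) 2
    simp [t0, U, utMat] at this
  have ht2 : t0 ^ 2 = 1 := by
    refine Subtype.ext (Subtype.ext ?_)
    show (utMat (0 : F) 1) ^ 2 = 1
    rw [pow_two]
    ext i j
    fin_cases i <;> fin_cases j <;> simp [utMat, Matrix.mul_apply, Fin.sum_univ_succ] <;>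
      linear_combination h2
  set C := Subgroup.centralizer ({t0} : Set SJ) with hC
  have hUC : ∀ u, U u ∈ C := fun u => by
    rw [hC, Subgroup.mem_centralizer_singleton_iff]
    refine Subtype.ext (Subtype.ext ?_)
    show utMat u.a u.b * utMat (0 : F) 1 = utMat (0 : F) 1 * utMat u.a u.b
    ext i j
    fin_cases i <;> fin_cases j <;> simp [utMat, Matrix.mul_apply, Fin.sum_univ_succ, add_comm]
  have hDC : ∀ d (h : d ^ 5 = 1), D d h ∈ C := fun d h => by
    rw [hC, Subgroup.mem_centralizer_singleton_iff]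
    refine Subtype.ext (Subtype.ext ?_)
    show (D d h).1.1 * utMat (0 : F) 1 = utMat (0 : F) 1 * (D d h).1.1
    rw [hD]
    ext i j
    fin_cases i <;> fin_cases j <;> simp [utMat, Matrix.mul_apply, Fin.sum_univ_succ]
  have hdecomp : ∀ g ∈ C, ∃ (u : UT F) (d : F) (h : d ^ 5 = 1), g = U u * D d h := by
    intro g hg
    rw [hC, Subgroup.mem_centralizer_singleton_iff] at hg
    have e : g.1.1 * utMat (0 : F) 1 = utMat (0 : F) 1 * g.1.1 :=
      congrArg (fun g : SJ => g.1.1) hg
    set M := g.1.1 with hM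
    have e00 := congrFun (congrFun e 0) 0
    have e01 := congrFun (congrFun e 0) 1
    have e02 := congrFun (congrFun e 0) 2
    have e12 := congrFun (congrFun e 1) 2
    simp [utMat, Matrix.mul_apply, Fin.sum_univ_succ] at e00 e01 e02 e12
    have hJ := (hSJ g.1).mp g.2
    rw [← hM] at hJ
    have j02 := congrFun (congrFun hJ 0) 2
    have j11 := congrFun (congrFun hJ 1) 1
    have j21 := congrFun (congrFun hJ 2) 1
    have j22 := congrFun (congrFun hJ 2) 2
    simp [jMat, Matrix.mul_apply, Fin.sum_univ_succ, hσ, e00, e01, e12] at j02 j11 j21 j22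
    have hdet : M.det = 1 := g.1.2
    rw [Matrix.det_fin_three] at hdet
    simp [e00, e01, e12] at hdet
    set d := M 0 0 with hdd
    have e22 : M 2 2 = d := by linear_combination -e02
    rw [e22] at j02 j21 j22 hdet
    have hd5 : d ^ 5 = 1 := by linear_combination j02
    have hd0 : d ≠ 0 := fun h => by rw [h] at hd5; simp at hd5
    have hm : M 1 1 = d ^ 3 := by
      linear_combination d ^ 3 * hdet - M 1 1 * hd5
    rw [hm] at j21
    have hz : M 1 2 = (M 0 1 / d ^ 3) ^ 4 * d := by
      have h3 : M 1 2 * d ^ 12 = d * M 0 1 ^ 4 := by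
        linear_combination j21 + (-(d * M 0 1 ^ 4)) * h2
      rw [div_pow, div_mul_eq_mul_div, eq_div_iff (pow_ne_zero _ (pow_ne_zero _ hd0)), ← pow_mul]
      linear_combination h3
    have hrel : M 0 2 / d + (M 0 2 / d) ^ 4 = (M 0 1 / d ^ 3) ^ 5 := by
      rw [hz] at j22
      have h5 : ∀ k : ℕ, (d ^ 5) ^ k = 1 := fun k => by rw [hd5, one_pow]
      rw [mul_pow, ← pow_mul, show (M 0 1 / d ^ 3) ^ (4 * 4) = M 0 1 / d ^ 3 from h16 _] at j22
      set p := M 0 1 / d ^ 3
      set q := M 0 2 / d with hq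
      have hMq : M 0 2 = q * d := by rw [hq, div_mul_cancel₀ _ hd0]
      rw [hMq] at j22
      linear_combination j22 - (q + q ^ 4 + p ^ 5) * hd5 + (-(p ^ 5)) * h2
    refine ⟨⟨M 0 1 / d ^ 3, M 0 2 / d, hrel⟩, d, hd5, Subtype.ext (Subtype.ext ?_)⟩
    show M = utMat (M 0 1 / d ^ 3) (M 0 2 / d) * (D d hd5).1.1
    rw [hD]
    ext i j
    fin_cases i <;> fin_cases j <;>
      simp [utMat, Matrix.mul_apply, Fin.sum_univ_succ, e00, e01, e12, e22, hm, ← hdd, hd0] <;>
      exact hz
  -- the unipotent subgroup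
  have hone : U ⟨0, 0, by simp⟩ = 1 := by
    refine Subtype.ext (Subtype.ext ?_)
    show utMat (0 : F) 0 = 1
    ext i j
    fin_cases i <;> fin_cases j <;> simp [utMat]
  have hclosed : ∀ u v : UT F, ∃ w, U w = U u * U v := fun u v =>
    ⟨⟨u.a + v.a, u.b + v.b + u.a * v.a ^ 4, by
      have e1 := u.rel
      have e2 := v.rel
      rw [add4, add4, mul_pow, ← pow_mul, show (v.a) ^ (4 * 4) = v.a from h16 v.a,
        show (u.a + v.a) ^ 5 = (u.a + v.a) ^ 4 * (u.a + v.a) by ring, add4]
      linear_combination e1 + e2⟩, hUmul u v _ rfl rfl⟩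
  let T : Subgroup C :=
    { carrier := {g | ∃ u, g.1 = U u}
      one_mem' := ⟨⟨0, 0, by simp⟩, hone.symm⟩
      mul_mem' := by
        rintro g h ⟨u, hu⟩ ⟨v, hv⟩
        obtain ⟨w, hw⟩ := hclosed u v
        exact ⟨w, by rw [Subgroup.coe_mul, hu, hv, hw]⟩
      inv_mem' := by
        rintro g ⟨u, hu⟩
        refine ⟨⟨u.a, u.b ^ 4, by rw [← pow_mul, h16]; linear_combination u.rel⟩, ?_⟩
        rw [Subgroup.coe_inv, hu]
        refine inv_eq_of_mul_eq_one_right ?_
        rw [← hone]
        refine (hUmul _ _ _ ?_ ?_).symm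
        · show (0 : F) = u.a + u.a
          linear_combination -u.a * h2
        · show (0 : F) = u.b + u.b ^ 4 + u.a * u.a ^ 4
          linear_combination -u.rel - u.a ^ 5 * h2 }
  let e : T → UT F := fun g => g.2.choose
  have he : ∀ g : T, g.1.1 = U (e g) := fun g => g.2.choose_spec
  have hebij : Function.Bijective e := by
    refine ⟨fun g h k => Subtype.ext (Subtype.ext (by rw [he, he, k])), fun u => ?_⟩
    exact ⟨⟨⟨U u, hUC u⟩, u, rfl⟩, hUinj (he _).symm⟩
  have hem : ∀ g h : T, (e (g * h)).a = (e g).a + (e h).a ∧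
      (e (g * h)).b = (e g).b + (e h).b + (e g).a * (e h).a ^ 4 := by
    intro g h
    have h1 : (e (g * h)) = (⟨(e g).a + (e h).a, (e g).b + (e h).b + (e g).a * (e h).a ^ 4, by
        have e1 := (e g).rel
        have e2 := (e h).rel
        rw [add4, add4, mul_pow, ← pow_mul, show ((e h).a) ^ (4 * 4) = (e h).a from h16 _,
          show ((e g).a + (e h).a) ^ 5 = ((e g).a + (e h).a) ^ 4 * ((e g).a + (e h).a) by ring, add4]
        linear_combination e1 + e2⟩ : UT F) := by
      refine hUinj ((he (g * h)).symm.trans ?_)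
      rw [hUmul (e g) (e h) _ rfl rfl, ← he, ← he]
      rfl
    rw [h1]
    exact ⟨rfl, rfl⟩
  obtain ⟨hT64, hTK, -, hTcc, -, -⟩ := facts hF e hebij hem
  -- conjugation by the diagonal elements
  have hconjD : ∀ (u v : UT F) (d : F) (h : d ^ 5 = 1), v.a = d ^ 3 * u.a → v.b = u.b →
      D d h * U u = U v * D d h := by
    intro u v d h ha hb
    refine Subtype.ext (Subtype.ext ?_)
    show (D d h).1.1 * utMat u.a u.b = utMat v.a v.b * (D d h).1.1
    rw [hD, ha, hb]
    ext i j
    fin_cases i <;> fin_cases j <;> simp [utMat, Matrix.mul_apply, Fin.sum_univ_succ] <;>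
      first
        | ring1
        | linear_combination (-(d * u.a)) * h
        | linear_combination (-(d ^ 3 * u.a ^ 4) * (d ^ 5 + 1)) * h
  have hconjU : ∀ (u : UT F) (d : F) (h : d ^ 5 = 1), ∃ v : UT F, v.a = d ^ 3 * u.a ∧ v.b = u.b := by
    intro u d h
    refine ⟨⟨d ^ 3 * u.a, u.b, ?_⟩, rfl, rfl⟩
    rw [mul_pow, ← pow_mul, show d ^ (3 * 5) = (d ^ 5) ^ 3 by ring, h, one_pow, one_mul]
    exact u.rel
  have hTn : T.Normal := by
    refine ⟨fun g hg k => ?_⟩
    obtain ⟨v, hv⟩ := hg
    obtain ⟨u, d, h, hk⟩ := hdecomp k.1 k.2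
    obtain ⟨v', h1, h2'⟩ := hconjU v d h
    obtain ⟨w, hw⟩ := hclosed u v'
    have hUinv : ∃ u', (U u)⁻¹ = U u' := by
      obtain ⟨u', hu'⟩ := T.inv_mem (show (⟨U u, hUC u⟩ : C) ∈ T from ⟨u, rfl⟩)
      exact ⟨u', hu'⟩
    obtain ⟨u', hu'⟩ := hUinv
    obtain ⟨w', hw'⟩ := hclosed w u'
    refine ⟨w', ?_⟩
    rw [hw', hw, ← hu']
    show k.1 * g.1 * k.1⁻¹ = _
    rw [hk, hv, mul_inv_rev, mul_assoc (U u) (D d h) (U v), hconjD v v' d h h1 h2']
    group
  obtain ⟨d, hd5, hd1⟩ : ∃ d : F, d ^ 5 = 1 ∧ d ≠ 1 := by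
    haveI : Fact (Nat.Prime 5) := ⟨by norm_num⟩
    obtain ⟨r, hr⟩ := exists_prime_orderOf_dvd_card (G := Fˣ) 5 (by rw [Fintype.card_units, hF]; norm_num)
    refine ⟨r, ?_, fun h => ?_⟩
    · rw [← Units.val_pow_eq_pow_val, ← hr, pow_orderOf_eq_one, Units.val_one]
    · rw [Units.val_eq_one] at h
      rw [h, orderOf_one] at hr; norm_num at hr
  have hd31 : d ^ 3 + 1 ≠ 0 := fun h => hd1 (by
    have h3 : d ^ 3 = 1 := by linear_combination h - h2
    calc d = (d ^ 3) ^ 2 * d / d ^ 5 * d ^ 0 := by rw [h3, hd5]; simp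
      _ = 1 := by
        rw [hd5]
        have : (d ^ 3) ^ 2 = d := by linear_combination d * hd5
        rw [this]
        have : d * d = d ^ 2 := (pow_two d).symm
        have h6 : d = 1 := by linear_combination (d ^ 3 + 1) * h3 - d * hd5
        rw [h6]; simp)
  have hTcomm : T ≤ commutator C := by
    have hZ : (Subgroup.center T).map T.subtype ≤ commutator C := by
      rw [hTcc, commutator_def, Subgroup.map_commutator, commutator_def]
      exact Subgroup.commutator_mono le_top le_top
    intro g hg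
    -- split off a commutator with the same first coordinate
    set a := (e ⟨g, hg⟩).a with ha
    set a' := a / (d ^ 3 + 1) with ha'
    obtain ⟨b', hb'⟩ := (trace_facts hF).2.1 (a' ^ 5) (by
      rw [← pow_mul, show 5 * 4 = 16 + 4 by norm_num, pow_add, h16]; ring)
    set k : C := ⟨D d hd5, hDC d hd5⟩
    set v : T := ⟨⟨U ⟨a', b', hb'⟩, hUC _⟩, _, rfl⟩ with hv
    have hcT : ⁅k, (v : C)⁆ ∈ T := by
      rw [commutatorElement_def]
      exact mul_mem (hTn.conj_mem _ v.2 k) (inv_mem v.2)
    obtain ⟨v', h1, h2'⟩ := hconjU ⟨a', b', hb'⟩ d hd5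
    set c : T := ⟨⁅k, (v : C)⁆, hcT⟩ with hcdef
    have hcv : e (c * v) = v' := by
      refine hUinj ((he (c * v)).symm.trans ?_)
      show (⁅k, (v : C)⁆ * (v : C) : C).1 = U v'
      rw [commutatorElement_def, inv_mul_cancel_right]
      show D d hd5 * U ⟨a', b', hb'⟩ * (D d hd5)⁻¹ = U v'
      rw [hconjD _ _ d hd5 h1 h2', mul_inv_cancel_right]
    have hev : e v = ⟨a', b', hb'⟩ := hUinj (he v).symm
    have hca : (e c).a = a := by
      have h3 := (hem c v).1
      rw [hcv, h1, hev] at h3
      have h4 : a' * (d ^ 3 + 1) = a := by rw [ha', div_mul_cancel₀ _ hd31]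
      linear_combination -h3 + h4 - a' * h2
    have hcen : c⁻¹ * ⟨g, hg⟩ ∈ Subgroup.center T := by
      set z := c⁻¹ * (⟨g, hg⟩ : T) with hz
      have h5 : (e z).a = 0 := by
        have h6 := (hem c z).1
        rw [hz, mul_inv_cancel_left, ← ha, hca] at h6
        linear_combination -h6
      rw [Subgroup.mem_center_iff]
      intro y
      refine hebij.1 (UT.ext ?_ ?_)
      · rw [(hem y z).1, (hem z y).1, add_comm]
      · rw [(hem y z).2, (hem z y).2, h5]; ring
    have hgc : g = ⁅k, (v : C)⁆ * ((c⁻¹ * ⟨g, hg⟩ : T) : C) := by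
      show g = ⁅k, (v : C)⁆ * (⁅k, (v : C)⁆⁻¹ * g)
      rw [mul_inv_cancel_left]
    rw [hgc]
    exact mul_mem (Subgroup.commutator_mem_commutator (Subgroup.mem_top _) (Subgroup.mem_top _))
      (hZ (Subgroup.mem_map_of_mem _ hcen))
  -- cardinality
  have hC320 : Nat.card C = 320 := by
    have hle : Nat.card C ≤ 320 := by
      let Φ : UT F × {d : F // d ^ 5 = 1} → C := fun p =>
        ⟨U p.1 * D p.2.1 p.2.2, mul_mem (hUC _) (hDC _ _)⟩
      have hs : Function.Surjective Φ := by
        rintro ⟨g, hg⟩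
        obtain ⟨u, r, h, rfl⟩ := hdecomp g hg
        exact ⟨(u, ⟨r, h⟩), rfl⟩
      haveI : Finite (UT F) := Finite.of_injective (fun u => (u.a, u.b)) fun u v h =>
        UT.ext (congrArg Prod.fst h) (congrArg Prod.snd h)
      refine (Nat.card_le_card_of_surjective Φ hs).trans ?_
      rw [Nat.card_prod, card_UT hF]
      have h5 : Nat.card {d : F // d ^ 5 = 1} ≤ 5 := by
        rw [Nat.card_eq_fintype_card, Fintype.card_subtype]
        refine le_trans (Finset.card_le_card (t := (Polynomial.nthRoots 5 (1 : F)).toFinset) ?_) ?_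
        · intro r hr
          rw [Finset.mem_filter] at hr
          rw [Multiset.mem_toFinset, Polynomial.mem_nthRoots (by norm_num)]
          exact hr.2
        · exact (Multiset.toFinset_card_le _).trans (Polynomial.card_nthRoots 5 1)
      omega
    have h5 : orderOf (⟨D d hd5, hDC d hd5⟩ : C) = 5 := by
      haveI : Fact (Nat.Prime 5) := ⟨by norm_num⟩
      have h15 : (d ^ 3) ^ 5 = 1 := by rw [← pow_mul, show 3 * 5 = 5 * 3 by norm_num, pow_mul, hd5, one_pow]
      refine orderOf_eq_prime (Subtype.ext (Subtype.ext (Subtype.ext ?_))) fun h => hd1 ?_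
      · show (D d hd5).1.1 ^ 5 = 1
        rw [hD, pow_succ, pow_succ, pow_succ, pow_two]
        ext i j
        fin_cases i <;> fin_cases j <;> simp [Matrix.mul_apply, Fin.sum_univ_succ] <;>
          first
            | linear_combination hd5
            | linear_combination h15
      · have h' := congrFun (congrFun (congrArg (fun g : C => g.1.1.1) h) 0) 0
        simp [hD] at h'
        exact h'
    have hd1 : 64 ∣ Nat.card C := hT64 ▸ Subgroup.card_subgroup_dvd_card T
    have hd2 : 5 ∣ Nat.card C := h5 ▸ orderOf_dvd_natCard _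
    have hd3 : 64 * 5 ∣ Nat.card C := Nat.Coprime.mul_dvd_of_dvd_of_dvd (by norm_num) hd1 hd2
    have := Nat.le_of_dvd Nat.card_pos hd3
    omega
  -- transport to `PSU`
  refine ⟨φ t0, ?_, ?_⟩
  · rw [MulEquiv.orderOf_eq]
    exact orderOf_eq_prime ht2 ht1
  let ψ : C ≃* Subgroup.centralizer ({φ t0} : Set (Cfsg.PSU 3 F 4)) :=
    { toFun := fun g => ⟨φ g.1, by
        rw [Subgroup.mem_centralizer_singleton_iff, ← map_mul, ← map_mul,
          Subgroup.mem_centralizer_singleton_iff.mp g.2]⟩
      invFun := fun g => ⟨φ.symm g.1, by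
        have h := Subgroup.mem_centralizer_singleton_iff.mp g.2
        rw [hC, Subgroup.mem_centralizer_singleton_iff]
        apply φ.injective
        rw [map_mul, map_mul, φ.apply_symm_apply, h]⟩
      left_inv := fun g => Subtype.ext (φ.symm_apply_apply _)
      right_inv := fun g => Subtype.ext (φ.apply_symm_apply _)
      map_mul' := fun g h => Subtype.ext (map_mul φ g.1 h.1) }
  refine ⟨T.map ψ.toMonoidHom, Subgroup.Normal.map hTn _ ψ.surjective, ?_, ?_, ?_, ?_⟩
  · rw [← Nat.card_congr ψ.toEquiv, hC320]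
  · rw [Subgroup.card_map_of_injective ψ.injective, hT64]
  · let eT := T.equivMapOfInjective ψ.toMonoidHom ψ.injective
    let eZ := Subgroup.centerCongr eT
    exact ⟨by rw [← Nat.card_congr eZ.toEquiv]; exact hTK.card_four,
      by rw [← Monoid.exponent_eq_of_mulEquiv eZ]; exact hTK.exponent_two⟩
  · rintro _ ⟨g, hg, rfl⟩
    have h := Subgroup.mem_map_of_mem ψ.toMonoidHom (hTcomm hg)
    rw [commutator_def, Subgroup.map_commutator] at h
    rw [commutator_def]
    exact Subgroup.commutator_mono le_top le_top h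

/-- A finite group of order 320 whose derived subgroup has order 64 and has centre a Klein four-group is isomorphic to the centralizer of an involution in PSU₃(4). -/
theorem result {G : Type*} [Group G] [Finite G] (hG : Nat.card G = 320) (hD : Nat.card (commutator G) = 64)
    (hZ : IsKleinFour (Subgroup.center (commutator G)))
    {F : Type*} [Field F] [Fintype F] (hF : Fintype.card F = 16) :
    ∃ t : Cfsg.PSU 3 F 4, orderOf t = 2 ∧ Nonempty (G ≃* Subgroup.centralizer ({t} : Set (Cfsg.PSU 3 F 4))) := by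
  obtain ⟨t, ht, T, hTn, hC, hT, hTZ, hTc⟩ := exists_centralizer hF
  haveI : Finite (Cfsg.PSU 3 F 4) := Quotient.finite _
  obtain ⟨x, a, R, hg⟩ := gens hG (commutator G) hD hZ le_rfl
  obtain ⟨x', a', R', hg'⟩ := gens hC T hT hTZ hTc
  exact ⟨t, ht, iso hG hC R hg R' hg'⟩

end Cfsg.Agent.S1903
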