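import Cfsg.Statements.S1904
import Cfsg.Agent.Lib.ScnTwo.Endgame

set_option autoImplicit false
open Cfsg
open scoped commutatorElement

namespace Cfsg.Agent.S1904

/-- Let X be a finite nonabelian 2-group with no normal abelian subgroup that is self-centralizing and contains an elementary abelian subgroup of order 8. Suppose a group A of automorphisms of X of odd order satisfies [X, A] = X. Then X is the quaternion group of order 8, or X is special of order 64 with exactly three involutions, all central, or X is extraspecial of order 32 with exactly eleven involutions (the central product of a quaternion group and a dihedral group of order 8). -/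
theorem result {X : Type*} [Group X] [Finite X] (hX : IsPGroup 2 X) (hna : ¬ IsMulCommutative X)
    (hscn : ¬ ∃ A : Subgroup X, A.Normal ∧ Subgroup.centralizer (A : Set X) = A ∧
      ∃ E : Subgroup X, E ≤ A ∧ Cfsg.IsElementaryAbelian 2 E ∧ Nat.card E = 8)
    (A : Subgroup (MulAut X)) (hA : Odd (Nat.card A))
    (hXA : Subgroup.closure {g : X | ∃ φ ∈ A, ∃ x : X, g = x⁻¹ * φ x} = ⊤) :
    Nonempty (X ≃* QuaternionGroup 2) ∨
      (Cfsg.IsSpecial 2 X ∧ Nat.card X = 64 ∧ Nat.card {x : X // orderOf x = 2} = 3 ∧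
        ∀ x : X, orderOf x = 2 → x ∈ Subgroup.center X) ∨
      (Cfsg.IsExtraspecial 2 X ∧ Nat.card X = 32 ∧ Nat.card {x : X // orderOf x = 2} = 11) := by
  have hgen : Subgroup.closure {y | ∃ γ ∈ A, ∃ x : X, γ x * x⁻¹ = y} = ⊤ := by
    rw [eq_top_iff, ← hXA, Subgroup.closure_le]
    rintro _ ⟨φ, hφ, x, rfl⟩
    rw [show x⁻¹ * φ x = (φ x⁻¹ * x⁻¹⁻¹)⁻¹ by rw [map_inv, inv_inv, mul_inv_rev, inv_inv]]
    exact Subgroup.inv_mem _ (Subgroup.subset_closure ⟨φ, hφ, x⁻¹, rfl⟩)
  have S : Lib.ScnTwo.Setup A := ⟨hX, hA, hgen, Lib.ScnTwo.rank_of_no_scn hX hscn⟩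
  obtain ⟨hsq, hcomm, hexp⟩ := S.shape hna
  have H : Lib.ScnTwo.Sp X := ⟨hsq, hcomm, hexp⟩
  have hnil := hX.isNilpotent
  haveI : Fact (Nat.Prime 2) := ⟨Nat.prime_two⟩
  have hspecial : Cfsg.IsSpecial 2 X :=
    ⟨hX, le_antisymm (Lib.LocalEven.frattini_le_of_quotient_elementary (p := 2) hcomm.le hsq)
      (hcomm.ge.trans Lib.Cores.commutator_le_frattini), hcomm⟩
  rcases Lib.MinNC8.card_le_one_or_two_or_ge_four (hX.to_subgroup (Subgroup.center X)) with h | h | h
  · refine absurd ⟨⟨fun a b => commutatorElement_eq_one_iff_mul_comm.1 (Subgroup.mem_bot.1 ?_)⟩⟩ hna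
    rw [← (Subgroup.eq_bot_iff_card _).2 h]
    exact H.mem_center a b
  · rcases Lib.ScnTwo.classify_two S H hna h with hq | ⟨h32, h11⟩
    · exact Or.inl hq
    · exact Or.inr (Or.inr ⟨⟨hspecial, h⟩, h32, h11⟩)
  · obtain ⟨h64, h3, hcen⟩ := Lib.ScnTwo.classify_four S H hna
      (le_antisymm (Lib.ScnTwo.card_center_le S H) h)
    exact Or.inr (Or.inl ⟨hspecial, h64, h3, hcen⟩)

end Cfsg.Agent.S1904
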