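import Cfsg.Statements.S1905
import Mathlib
import Cfsg.Agent.Lib.Involutions.SEAction
import Cfsg.Agent.S1225
-- import your own Cfsg.Agent.* helpers here

set_option autoImplicit false
open Cfsg

namespace Cfsg.Agent.S1905

open Cfsg.Agent.Lib.Involutions

/-- Let M be a subgroup of even order of a finite group S such that M contains the centralizer in S of each of its involutions and the normal core of M in S has odd order. Then all involutions of S are conjugate. If moreover N_S(X) ≤ M for a Sylow 2-subgroup X of M and I is an involution in the centre of X, then all involutions of M are conjugate in M and M = M₀ C_M(I) for some subgroup M₀ of M of odd order. -/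
theorem result {S : Type*} [Group S] [Finite S] (M : Subgroup S) (hM : Even (Nat.card M))
    (hC : ∀ i ∈ M, orderOf i = 2 → Subgroup.centralizer ({i} : Set S) ≤ M) (hcore : Odd (Nat.card M.normalCore)) :
    (∀ x y : S, orderOf x = 2 → orderOf y = 2 → IsConj x y) ∧
      ∀ (X : Sylow 2 M) (I : M), I ∈ (Subgroup.center ↥(X : Subgroup ↥M)).map (X : Subgroup ↥M).subtype → orderOf I = 2 →
        Subgroup.normalizer (((X : Subgroup M).map M.subtype : Subgroup S) : Set S) ≤ M →
        (∀ x y : M, orderOf x = 2 → orderOf y = 2 → IsConj x y) ∧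
          ∃ M₀ : Subgroup M, Odd (Nat.card M₀) ∧
            ∀ m : M, ∃ a ∈ M₀, ∃ c ∈ Subgroup.centralizer ({I} : Set M), m = a * c := by
  classical
  have hne : ∀ i ∈ M, orderOf i = 2 → ∃ g : S, g * i * g⁻¹ ∉ M := by
    intro i hi hio
    by_contra! h
    have hle : i ∈ M.normalCore := fun g => h g
    have h2 := Subgroup.orderOf_dvd_natCard _ hle
    rw [hio] at h2
    exact Nat.not_even_iff_odd.2 hcore (even_iff_two_dvd.2 h2)
  have hcent : ∀ x i : S, i ∈ M → orderOf i = 2 → ∀ {w : S}, orderOf w = 2 → Commute w i →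
      Commute w x → x ∈ M := by
    intro x i hi hio w hw hwi hwx
    have hwM : w ∈ M := hC i hi hio (Subgroup.mem_centralizer_singleton_iff.2 hwi.eq)
    exact hC w hwM hw (Subgroup.mem_centralizer_singleton_iff.2 hwx.symm.eq)
  obtain ⟨i₀, hi₀⟩ := exists_invol_of_even (G := M) hM
  have hi₀' : orderOf (i₀ : S) = 2 := by rw [Subgroup.orderOf_coe, hi₀]
  have hconj : ∀ {a b : S}, orderOf a = 2 → orderOf b = 2 → Odd (orderOf (a * b)) → IsConj a b :=
    fun ha hb hodd => by
      obtain ⟨d, -, hd⟩ := exists_conj_of_odd ha hb hodd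
      exact isConj_iff.2 ⟨d, hd⟩
  have hall0 : ∀ x : S, orderOf x = 2 → IsConj x (i₀ : S) := by
    intro x hx
    by_contra hn
    have hxM : ∀ g : S, g * x * g⁻¹ ∈ M := by
      intro g
      have hxg : orderOf (g * x * g⁻¹) = 2 := by rw [orderOf_conj_eq, hx]
      rcases Nat.even_or_odd (orderOf ((i₀ : S) * (g * x * g⁻¹))) with he | ho
      · obtain ⟨hw, hwi, hwx⟩ := central_invol hi₀' hxg he
        exact hcent _ _ i₀.2 hi₀' hw hwi hwx
      · exact absurd ((isConj_iff.2 ⟨g, rfl⟩ : IsConj x (g * x * g⁻¹)).trans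
          (hconj hi₀' hxg ho).symm) hn
    obtain ⟨g, hg⟩ := hne x (by simpa using hxM 1) hx
    exact hg (hxM g)
  have hall : ∀ x y : S, orderOf x = 2 → orderOf y = 2 → IsConj x y :=
    fun x y hx hy => (hall0 x hx).trans (hall0 y hy).symm
  refine ⟨hall, fun X I hI hIo hN => ?_⟩
  have : Fact (Nat.Prime 2) := ⟨Nat.prime_two⟩
  set X' := (X : Subgroup M).map M.subtype with hX'
  have hX'M : X' ≤ M := Subgroup.map_subtype_le _
  obtain ⟨a, ha, hac⟩ := hI
  have hIX : (I : S) ∈ X' := ⟨I, hac ▸ a.2, rfl⟩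
  have hIo' : orderOf (I : S) = 2 := by rw [Subgroup.orderOf_coe, hIo]
  have hXI : ∀ z ∈ X', z * (I : S) = I * z := by
    rintro _ ⟨z, hz, rfl⟩
    have := congrArg (fun w : (X : Subgroup M) => ((w : M) : S))
      (Subgroup.mem_center_iff.1 ha ⟨z, hz⟩)
    rw [← hac]
    exact this
  -- `M` is strongly embedded
  have hkey : ∀ h : S, h * I * h⁻¹ ∈ M → h ∈ M := by
    intro h hh
    obtain ⟨m, hm, hle⟩ := exists_conj_le_sylow_of_le (H := M) X
      (Y := Subgroup.zpowers (h * I * h⁻¹))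
      (IsPGroup.of_card (n := 1) (by rw [Nat.card_zpowers, orderOf_conj_eq, hIo', pow_one]))
      (Subgroup.zpowers_le.2 hh)
    have hx : m * (h * I * h⁻¹) * m⁻¹ ∈ X' := hle ⟨_, Subgroup.mem_zpowers _, rfl⟩
    set h' := m * h with hh'
    have hx' : h' * I * h'⁻¹ ∈ X' := by
      rwa [show h' * I * h'⁻¹ = m * (h * I * h⁻¹) * m⁻¹ by rw [hh']; group]
    have hcM : X'.map (MulAut.conj h').toMonoidHom ≤ M := by
      rintro _ ⟨z, hz, rfl⟩
      refine hC _ (hX'M hx') (by rw [orderOf_conj_eq, hIo']) (Subgroup.mem_centralizer_singleton_iff.2 ?_)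
      show h' * z * h'⁻¹ * (h' * I * h'⁻¹) = h' * I * h'⁻¹ * (h' * z * h'⁻¹)
      calc _ = h' * (z * I) * h'⁻¹ := by group
        _ = h' * (I * z) * h'⁻¹ := by rw [hXI z hz]
        _ = _ := by group
    obtain ⟨m', hm', hle'⟩ := exists_conj_le_sylow_of_le (H := M) X ((X.2.map _).map _) hcM
    have hn : m' * h' ∈ Subgroup.normalizer (X' : Set S) := by
      rw [mem_normalizer_iff_map_conj]
      rw [map_conj_mul] at hle'
      exact Subgroup.eq_of_le_of_card_ge hle'
        (Nat.card_congr (X'.equivMapOfInjective (MulAut.conj (m' * h')).toMonoidHom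
          (MulAut.conj (m' * h')).injective).toEquiv).le
    have hh'M : h' ∈ M := by
      have := mul_mem (inv_mem hm') (hN hn)
      rwa [inv_mul_cancel_left] at this
    have := mul_mem (inv_mem hm) hh'M
    rwa [hh', inv_mul_cancel_left] at this
  have hse : Cfsg.IsStronglyEmbedded M := by
    refine isStronglyEmbedded_of_conj_mem ?_ hM fun t ht hto g hg => ?_
    · intro htop
      obtain ⟨g, hg⟩ := hne _ i₀.2 hi₀'
      exact hg ((Subgroup.eq_top_iff' M).1 htop _)
    obtain ⟨c, hc, hle⟩ := exists_conj_le_sylow_of_le (H := M) X (Y := Subgroup.zpowers t)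
      (IsPGroup.of_card (n := 1) (by rw [Nat.card_zpowers, hto, pow_one])) (Subgroup.zpowers_le.2 ht)
    have hct : c * t * c⁻¹ ∈ X' := hle ⟨_, Subgroup.mem_zpowers _, rfl⟩
    have hgc : g * c⁻¹ * I * (g * c⁻¹)⁻¹ ∈ M := by
      refine hC _ hg (by rw [orderOf_conj_eq, hto]) (Subgroup.mem_centralizer_singleton_iff.2 ?_)
      have h2 := hXI _ hct
      calc g * c⁻¹ * I * (g * c⁻¹)⁻¹ * (g * t * g⁻¹)
          = g * c⁻¹ * (I * (c * t * c⁻¹)) * c * g⁻¹ := by group
        _ = g * c⁻¹ * (c * t * c⁻¹ * I) * c * g⁻¹ := by rw [h2]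
        _ = _ := by group
    have := mul_mem (hkey _ hgc) hc
    rwa [inv_mul_cancel_right] at this
  refine ⟨fun x y hx hy => ?_, ?_⟩
  · obtain ⟨g, hg⟩ := isConj_iff.1 (hall (x : S) y (by rw [Subgroup.orderOf_coe, hx])
      (by rw [Subgroup.orderOf_coe, hy]))
    exact isConj_iff.2 ⟨⟨g, mem_of_conj_mem hse (by rw [Subgroup.orderOf_coe, hx]) x.2 (hg ▸ y.2)⟩,
      Subtype.ext hg⟩
  obtain ⟨u₀, hu₀⟩ := hne _ i₀.2 hi₀'
  set u := u₀ * i₀ * u₀⁻¹ with hu
  have huo : orderOf u = 2 := by rw [hu, orderOf_conj_eq, hi₀']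
  refine ⟨(M ⊓ M.map (MulAut.conj u).toMonoidHom).subgroupOf M, ?_, fun m => ?_⟩
  · rw [Nat.card_congr (Subgroup.subgroupOfEquivOfLe inf_le_left).toEquiv]
    exact hse.2.2 u hu₀
  obtain ⟨⟨d, hd, hde⟩, -⟩ := Cfsg.Agent.S1225.result M hse u huo hu₀ (I : S)
    ((m : S) * I * (m : S)⁻¹) hIo' I.2 (by rw [orderOf_conj_eq, hIo'])
    (mul_mem (mul_mem m.2 I.2) (inv_mem m.2))
  let d' : M := ⟨d, (Subgroup.mem_inf.1 hd).1⟩
  refine ⟨d', Subgroup.mem_subgroupOf.2 hd, d'⁻¹ * m, Subgroup.mem_centralizer_singleton_iff.2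
    (Subtype.ext ?_), by group⟩
  show d⁻¹ * (m : S) * I = I * (d⁻¹ * m)
  calc d⁻¹ * (m : S) * I = d⁻¹ * ((m : S) * I * (m : S)⁻¹) * m := by group
    _ = d⁻¹ * (d * I * d⁻¹) * m := by rw [hde]
    _ = _ := by group

end Cfsg.Agent.S1905
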