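import Cfsg.Statements.S1906
import Mathlib
import Cfsg.Agent.Lib.FusionControl.CentralInvolution

set_option autoImplicit false
open Cfsg

namespace Cfsg.Agent.S1906

set_option maxHeartbeats 1000000 in
open Matrix in
theorem exists_block {X : Type*} [Group X] [Finite X] (hX : IsPGroup 2 X)
    {F : Type*} [Field F] [Fintype F] (hF : Odd (Fintype.card F))
    (f : X →* GL (Fin 3) F) (hf : Function.Injective f) :
    ∃ g : X →* GL (Fin 3) F, Function.Injective g ∧ ∀ x : X,
      (g x).1 0 2 = 0 ∧ (g x).1 1 2 = 0 ∧ (g x).1 2 0 = 0 ∧ (g x).1 2 1 = 0 := by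
  classical
  have := Fintype.ofFinite X
  let inst : DistribMulAction X (Fin 3 → F) :=
    { smul := fun x v => (f x).1 *ᵥ v
      one_smul := fun v => by change (f 1).1 *ᵥ v = v; simp
      mul_smul := fun x y v => by
        change (f (x * y)).1 *ᵥ v = (f x).1 *ᵥ ((f y).1 *ᵥ v)
        rw [map_mul, Units.val_mul, Matrix.mulVec_mulVec]
      smul_zero := fun x => Matrix.mulVec_zero _
      smul_add := fun x v w => Matrix.mulVec_add _ v w }
  have : SMulCommClass X F (Fin 3 → F) := ⟨fun x c v => Matrix.mulVec_smul _ c v⟩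
  have hq : Nat.card F % 2 = 1 := by rw [Nat.card_eq_fintype_card]; exact Nat.odd_iff.1 hF
  have hcard : ¬ 2 ∣ Nat.card (Projectivization F (Fin 3 → F)) := by
    rw [Projectivization.card_of_finrank F (Fin 3 → F) (Module.finrank_fin_fun F)]
    simp only [Finset.sum_range_succ, Finset.sum_range_zero, pow_zero, pow_one]
    have : Nat.card F ^ 2 % 2 = 1 := by rw [Nat.pow_mod, hq]
    omega
  obtain ⟨p, hp⟩ := hX.nonempty_fixed_point_of_prime_not_dvd_card (Projectivization F (Fin 3 → F)) hcard
  induction p using Projectivization.ind with | _ v hv => ?_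
  have hev : ∀ x : X, ∃ c : F, c • v = x • v := by
    intro x
    have := hp x
    rw [Projectivization.smul_mk, Projectivization.mk_eq_mk_iff'] at this
    exact this
  choose c hc using hev
  have hcmul : ∀ x y, c (x * y) = c x * c y := by
    intro x y
    refine smul_left_injective F hv ?_
    change c (x * y) • v = (c x * c y) • v
    rw [hc, mul_smul, ← hc y, smul_comm x (c y) v, ← hc x, smul_smul, mul_comm]
  have hc1 : c 1 = 1 := smul_left_injective F hv (by simp [hc])
  have hc0 : ∀ x, c x ≠ 0 := fun x h => by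
    have := hcmul x x⁻¹
    rw [mul_inv_cancel, hc1, h, zero_mul] at this
    exact one_ne_zero this
  obtain ⟨i, hi⟩ : ∃ i, v i ≠ 0 := Function.ne_iff.1 hv
  let lam : (Fin 3 → F) → F := fun w => ∑ x, (c x)⁻¹ * ((x • w) i / v i)
  have hladd : ∀ w w', lam (w + w') = lam w + lam w' := fun w w' => by
    simp only [lam, smul_add, Pi.add_apply, add_div, mul_add, Finset.sum_add_distrib]
  have hlsmul : ∀ (a : F) w, lam (a • w) = a * lam w := fun a w => by
    simp only [lam, Finset.mul_sum]
    refine Finset.sum_congr rfl (fun x _ => ?_)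
    rw [smul_comm x a w, Pi.smul_apply, smul_eq_mul]
    ring
  have hlv : lam v = (Nat.card X : F) := by
    simp only [lam, ← hc, Pi.smul_apply, smul_eq_mul, mul_div_cancel_right₀ _ hi]
    rw [Finset.sum_congr rfl (fun x _ => inv_mul_cancel₀ (hc0 x))]
    simp [Nat.card_eq_fintype_card]
  have hlv0 : lam v ≠ 0 := by
    rw [hlv]
    obtain ⟨k, hk⟩ := IsPGroup.iff_card.1 hX
    rw [hk, Nat.cast_pow]
    refine pow_ne_zero k ?_
    obtain ⟨r, hr⟩ := CharP.exists F
    have hr2 : r ≠ 2 := by
      rintro rfl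
      obtain ⟨n, -, hn⟩ := FiniteField.card F 2
      rw [hn] at hF
      simp [Nat.odd_iff, Nat.pow_mod] at hF
    exact_mod_cast Ring.two_ne_zero (by rwa [ringChar.eq F r])
  have hlinv : ∀ (y : X) w, lam (y • w) = c y * lam w := fun y w => by
    simp only [lam, Finset.mul_sum]
    rw [← Equiv.sum_comp (Equiv.mulRight y) (fun x => c y * ((c x)⁻¹ * ((x • w) i / v i)))]
    refine Finset.sum_congr rfl (fun x _ => ?_)
    simp only [Equiv.coe_mulRight, hcmul, ← mul_smul, mul_inv]
    rw [← mul_assoc (c y), mul_comm (c x)⁻¹ (c y)⁻¹, ← mul_assoc (c y), mul_inv_cancel₀ (hc0 y),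
      one_mul]
  obtain ⟨j, k, hji, hki, hjk⟩ : ∃ j k : Fin 3, j ≠ i ∧ k ≠ i ∧ j ≠ k := by
    exact (show ∀ i : Fin 3, ∃ j k : Fin 3, j ≠ i ∧ k ≠ i ∧ j ≠ k by decide) i
  let w : Fin 3 → (Fin 3 → F) :=
    ![Pi.single j 1 - (lam (Pi.single j 1) / lam v) • v,
      Pi.single k 1 - (lam (Pi.single k 1) / lam v) • v, v]
  let P : Matrix (Fin 3) (Fin 3) F := Matrix.of fun r s => w s r
  have hPmul : ∀ a : Fin 3 → F, P *ᵥ a = a 0 • w 0 + a 1 • w 1 + a 2 • w 2 := fun a => by
    funext r
    simp [P, Matrix.mulVec, dotProduct, Fin.sum_univ_three]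
    ring
  have hlw : ∀ s, lam (w s) = if s = 2 then lam v else 0 := by
    intro s
    fin_cases s
    · rw [if_neg (by decide)]
      simp [w, sub_eq_add_neg, hladd, ← neg_smul, hlsmul, div_mul_cancel₀ _ hlv0]
    · rw [if_neg (by decide)]
      simp [w, sub_eq_add_neg, hladd, ← neg_smul, hlsmul, div_mul_cancel₀ _ hlv0]
    · simp [w]
  have hlP : ∀ a : Fin 3 → F, lam (P *ᵥ a) = a 2 * lam v := fun a => by
    rw [hPmul, hladd, hladd, hlsmul, hlsmul, hlsmul, hlw, hlw, hlw]
    simp
  have hPinj : Function.Injective P.mulVec := by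
    intro a b hab
    have h : P *ᵥ (a - b) = 0 := by rw [Matrix.mulVec_sub]; exact sub_eq_zero.2 hab
    set d := a - b with hd
    have h2 : d 2 = 0 := by
      have := hlP d
      rw [h] at this
      have h00 : lam 0 = 0 := by simpa using hlsmul 0 0
      rw [h00] at this
      exact (mul_eq_zero.1 this.symm).resolve_right hlv0
    rw [hPmul, h2] at h
    have hI := congrFun h i
    have hJ := congrFun h j
    have hK := congrFun h k
    simp [w, Pi.single_eq_of_ne hji.symm, Pi.single_eq_of_ne hki.symm] at hI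
    simp [w, Pi.single_eq_of_ne hjk, Pi.single_eq_of_ne hjk.symm] at hJ hK
    set α := lam (Pi.single j 1) / lam v
    set β := lam (Pi.single k 1) / lam v
    have hg : d 0 * α + d 1 * β = 0 := by
      have : (d 0 * α + d 1 * β) * v i = 0 := by linear_combination -hI
      exact (mul_eq_zero.1 this).resolve_right hi
    have h0 : d 0 = 0 := by linear_combination hJ + v j * hg
    have h1 : d 1 = 0 := by linear_combination hK + v k * hg
    refine sub_eq_zero.1 (funext fun s => ?_)
    rw [← hd]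
    fin_cases s <;> simpa
  obtain ⟨Pu, hPu⟩ := Matrix.mulVec_injective_iff_isUnit.1 hPinj
  refine ⟨(MulAut.conj Pu⁻¹).toMonoidHom.comp f, (MulAut.conj Pu⁻¹).injective.comp hf, fun x => ?_⟩
  set M := (((MulAut.conj Pu⁻¹).toMonoidHom.comp f) x).1 with hMdef
  have hM : P * M = (f x).1 * P := by
    rw [hMdef, ← hPu, ← Units.val_mul, ← Units.val_mul]
    congr 1
    simp [mul_assoc]
  have hcol : ∀ s, P *ᵥ (fun r => M r s) = x • w s := by
    intro s
    funext r
    have := congrFun (congrFun hM r) s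
    simp only [Matrix.mul_apply] at this
    exact this.trans rfl
  have e2 : P *ᵥ (fun r => M r 2) = P *ᵥ ![0, 0, c x] := by
    rw [hcol, hPmul]
    simp [w, hc]
  have e2' := hPinj e2
  have e20 : ∀ s, s ≠ 2 → M 2 s = 0 := by
    intro s hs
    have := hlP (fun r => M r s)
    rw [hcol, hlinv, hlw, if_neg hs, mul_zero] at this
    exact (mul_eq_zero.1 this.symm).resolve_right hlv0
  exact ⟨by simpa using congrFun e2' 0, by simpa using congrFun e2' 1, e20 0 (by decide),
    e20 1 (by decide)⟩

section Entries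

variable {X : Type*} [Group X] {F : Type*} [Field F] (g : X →* GL (Fin 3) F)
  (hb : ∀ x : X, (g x).1 0 2 = 0 ∧ (g x).1 1 2 = 0 ∧ (g x).1 2 0 = 0 ∧ (g x).1 2 1 = 0)

/-- an entry -/
abbrev en (x : X) (r s : Fin 3) : F := (g x).1 r s

include hb in
theorem en_mul (x y : X) :
    en g (x * y) 0 0 = en g x 0 0 * en g y 0 0 + en g x 0 1 * en g y 1 0 ∧
    en g (x * y) 0 1 = en g x 0 0 * en g y 0 1 + en g x 0 1 * en g y 1 1 ∧
    en g (x * y) 1 0 = en g x 1 0 * en g y 0 0 + en g x 1 1 * en g y 1 0 ∧
    en g (x * y) 1 1 = en g x 1 0 * en g y 0 1 + en g x 1 1 * en g y 1 1 ∧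
    en g (x * y) 2 2 = en g x 2 2 * en g y 2 2 := by
  obtain ⟨a1, a2, a3, a4⟩ := hb x
  obtain ⟨b1, b2, b3, b4⟩ := hb y
  simp only [en, map_mul, Units.val_mul, Matrix.mul_apply, Fin.sum_univ_three, a1, a2, a3, a4]
  simp

include hb in
theorem en_ext (hinj : Function.Injective g) {x y : X} (h00 : en g x 0 0 = en g y 0 0)
    (h01 : en g x 0 1 = en g y 0 1) (h10 : en g x 1 0 = en g y 1 0)
    (h11 : en g x 1 1 = en g y 1 1) (h22 : en g x 2 2 = en g y 2 2) : x = y := by
  obtain ⟨a1, a2, a3, a4⟩ := hb x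
  obtain ⟨b1, b2, b3, b4⟩ := hb y
  refine hinj (Units.ext ?_)
  ext r s
  fin_cases r <;> fin_cases s <;>
    first
    | exact h00
    | exact h01
    | exact h10
    | exact h11
    | exact h22
    | exact a1.trans b1.symm
    | exact a2.trans b2.symm
    | exact a3.trans b3.symm
    | exact a4.trans b4.symm

theorem en_one : en g 1 0 0 = 1 ∧ en g 1 0 1 = 0 ∧ en g 1 1 0 = 0 ∧ en g 1 1 1 = 1 ∧ en g 1 2 2 = 1 := by
  simp [en]

/-- the determinant of the block and the corner entry -/
def detHom : X →* F × F where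
  toFun x := (en g x 0 0 * en g x 1 1 - en g x 0 1 * en g x 1 0, en g x 2 2)
  map_one' := by obtain ⟨a, b, c, d, e⟩ := en_one g; simp [a, b, c, d, e]
  map_mul' x y := by
    obtain ⟨a, b, c, d, e⟩ := en_mul g hb x y
    simp only [a, b, c, d, e, Prod.mk_mul_mk, Prod.mk.injEq]
    exact ⟨by ring, trivial⟩

include hb in
theorem inv_scalar (h2 : (2 : F) ≠ 0) {x : X} (hx : x * x = 1)
    (hdet : en g x 0 0 * en g x 1 1 - en g x 0 1 * en g x 1 0 = 1) :
    en g x 0 1 = 0 ∧ en g x 1 0 = 0 ∧ en g x 0 0 = en g x 1 1 ∧ en g x 0 0 * en g x 0 0 = 1 := by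
  obtain ⟨a, b, c, d, -⟩ := en_mul g hb x x
  obtain ⟨a', b', c', d', -⟩ := en_one g
  rw [hx] at a b c d
  rw [a'] at a; rw [b'] at b; rw [c'] at c; rw [d'] at d
  set A := en g x 0 0
  set B := en g x 0 1
  set C := en g x 1 0
  set D := en g x 1 1
  have ht : A * (A + D) = 2 := by linear_combination -a + hdet
  have ht0 : A + D ≠ 0 := fun h => h2 (by rw [← ht, h, mul_zero])
  have hB : B = 0 := (mul_eq_zero.1 (show B * (A + D) = 0 by linear_combination -b)).resolve_right ht0
  have hC : C = 0 := (mul_eq_zero.1 (show C * (A + D) = 0 by linear_combination -c)).resolve_right ht0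
  have hA : A * A = 1 := by rw [hB] at a; linear_combination -a
  refine ⟨hB, hC, ?_, hA⟩
  have hAD : A * D = 1 := by rw [hB] at hdet; linear_combination hdet
  have : A * (A - D) = 0 := by linear_combination hA - hAD
  exact sub_eq_zero.1 ((mul_eq_zero.1 this).resolve_left (fun h => by rw [h] at hA; simp at hA))

include hb in
theorem commute_of_nonscalar (hinj : Function.Injective g) {w : X} (hw : ∀ x, x * w = w * x)
    (hns : ¬ (en g w 0 1 = 0 ∧ en g w 1 0 = 0 ∧ en g w 0 0 = en g w 1 1)) (x y : X) :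
    x * y = y * x := by
  obtain ⟨x00, x01, x10, -, -⟩ := en_mul g hb x w
  obtain ⟨z00, z01, z10, -, -⟩ := en_mul g hb w x
  obtain ⟨y00, y01, y10, -, -⟩ := en_mul g hb y w
  obtain ⟨v00, v01, v10, -, -⟩ := en_mul g hb w y
  rw [hw x] at x00 x01 x10
  rw [hw y] at y00 y01 y10
  rw [z00] at x00; rw [z01] at x01; rw [z10] at x10
  rw [v00] at y00; rw [v01] at y01; rw [v10] at y10
  set p := en g w 0 1 with hp
  set q := en g w 1 0 with hq
  set r := en g w 0 0 - en g w 1 1 with hr
  set a := en g x 0 1 with ha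
  set b := en g x 1 0 with hb'
  set c := en g x 0 0 - en g x 1 1 with hc
  set a' := en g y 0 1 with ha'
  set b'' := en g y 1 0 with hb''
  set c' := en g y 0 0 - en g y 1 1 with hc'
  have e1 : p * b = q * a := by linear_combination x00
  have e2 : p * c = r * a := by rw [hc, hr]; linear_combination -x01
  have e3 : q * c = r * b := by rw [hc, hr]; linear_combination x10
  have f1 : p * b'' = q * a' := by linear_combination y00
  have f2 : p * c' = r * a' := by rw [hc', hr]; linear_combination -y01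
  have f3 : q * c' = r * b'' := by rw [hc', hr]; linear_combination y10
  have key : a * b'' = b * a' ∧ a * c' = c * a' ∧ b * c' = c * b'' := by
    by_cases hp0 : p = 0
    · by_cases hq0 : q = 0
      · have hr0 : r ≠ 0 := fun h => hns ⟨hp0, hq0, sub_eq_zero.1 h⟩
        have A0 : a = 0 := (mul_eq_zero.1 (show r * a = 0 by rw [← e2, hp0, zero_mul])).resolve_left hr0
        have B0 : b = 0 := (mul_eq_zero.1 (show r * b = 0 by rw [← e3, hq0, zero_mul])).resolve_left hr0
        have A1 : a' = 0 := (mul_eq_zero.1 (show r * a' = 0 by rw [← f2, hp0, zero_mul])).resolve_left hr0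
        have B1 : b'' = 0 := (mul_eq_zero.1 (show r * b'' = 0 by rw [← f3, hq0, zero_mul])).resolve_left hr0
        simp [A0, B0, A1, B1]
      · have A0 : a = 0 := (mul_eq_zero.1 (show q * a = 0 by rw [← e1, hp0, zero_mul])).resolve_left hq0
        have A1 : a' = 0 := (mul_eq_zero.1 (show q * a' = 0 by rw [← f1, hp0, zero_mul])).resolve_left hq0
        refine ⟨by simp [A0, A1], by simp [A0, A1], mul_left_cancel₀ hq0 ?_⟩
        linear_combination b * f3 - b'' * e3
    · refine ⟨mul_left_cancel₀ hp0 ?_, mul_left_cancel₀ hp0 ?_, mul_left_cancel₀ hp0 ?_⟩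
      · linear_combination a * f1 - a' * e1
      · linear_combination a * f2 - a' * e2
      · by_cases hq0 : q = 0
        · have B0 : b = 0 := (mul_eq_zero.1 (show p * b = 0 by rw [e1, hq0, zero_mul])).resolve_left hp0
          have B1 : b'' = 0 := (mul_eq_zero.1 (show p * b'' = 0 by rw [f1, hq0, zero_mul])).resolve_left hp0
          simp [B0, B1]
        · have := mul_left_cancel₀ hq0 (show q * (b * c') = q * (c * b'') by
            linear_combination b * f3 - b'' * e3)
          rw [this]
  obtain ⟨k1, k2, k3⟩ := key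
  obtain ⟨A, B, C, D, E⟩ := en_mul g hb x y
  obtain ⟨A', B', C', D', E'⟩ := en_mul g hb y x
  refine en_ext g hb hinj ?_ ?_ ?_ ?_ ?_
  · rw [A, A']; linear_combination k1
  · rw [B, B']; rw [hc, hc'] at k2; linear_combination -k2
  · rw [C, C']; rw [hc, hc'] at k3; linear_combination k3
  · rw [D, D']; linear_combination -k1
  · rw [E, E']; ring

end Entries

theorem two_ne_zero' {F : Type*} [Field F] [Fintype F] (hF : Odd (Fintype.card F)) : (2 : F) ≠ 0 := by
  intro h
  have : CharP F 2 := CharTwo.of_one_ne_zero_of_two_eq_zero one_ne_zero h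
  obtain ⟨n, -, hn⟩ := FiniteField.card F 2
  rw [hn] at hF
  simp [Nat.odd_iff, Nat.pow_mod] at hF

theorem sign_of_sq {F : Type*} [Field F] {a : F} (h : a * a = 1) : a = 1 ∨ a = -1 :=
  mul_self_eq_one_iff.1 h

set_option maxHeartbeats 1600000 in
theorem elements {X : Type*} [Group X] [Finite X] {F : Type*} [Field F] (h2 : (2 : F) ≠ 0)
    (g : X →* GL (Fin 3) F)
    (hb : ∀ x : X, (g x).1 0 2 = 0 ∧ (g x).1 1 2 = 0 ∧ (g x).1 2 0 = 0 ∧ (g x).1 2 1 = 0)
    (hinj : Function.Injective g) (E : Subgroup X) (hE : ∀ e ∈ E, e * e = 1)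
    (hE8 : Nat.card E = 8) :
    ∃ u z : X, u * u = 1 ∧
      (en g u 0 0 = 1 ∧ en g u 0 1 = 0 ∧ en g u 1 0 = 0 ∧ en g u 1 1 = 1 ∧ en g u 2 2 = -1) ∧
      (en g z 0 0 = -1 ∧ en g z 0 1 = 0 ∧ en g z 1 0 = 0 ∧ en g z 1 1 = -1 ∧ en g z 2 2 = 1) := by
  classical
  let π : E →* F × F := (detHom g hb).comp E.subtype
  have hpm : ∀ e : E, ((π e).1 = 1 ∨ (π e).1 = -1) ∧ ((π e).2 = 1 ∨ (π e).2 = -1) := by
    intro e
    have h : π e * π e = 1 := by
      rw [← map_mul, ← map_one π]
      exact congrArg π (Subtype.ext (hE e e.2))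
    exact ⟨sign_of_sq (congrArg Prod.fst h), sign_of_sq (congrArg Prod.snd h)⟩
  let π' : E →* (F × F)ˣ := π.toHomUnits
  have hker : ∀ e : E, e ∈ π'.ker → (en g e.1 0 1 = 0 ∧ en g e.1 1 0 = 0 ∧
      en g e.1 0 0 = en g e.1 1 1 ∧ (en g e.1 0 0 = 1 ∨ en g e.1 0 0 = -1)) ∧ en g e.1 2 2 = 1 := by
    intro e he
    have he' : π e = 1 := congrArg Units.val (MonoidHom.mem_ker.1 he)
    obtain ⟨a, b, c, d⟩ := inv_scalar g hb h2 (hE e e.2) (congrArg Prod.fst he')
    exact ⟨⟨a, b, c, sign_of_sq d⟩, congrArg Prod.snd he'⟩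
  have hne : (-1 : F) ≠ 1 := fun h => h2 (by linear_combination -h)
  have hk2 : Nat.card π'.ker ≤ 2 := by
    refine (Nat.card_le_card_of_injective (β := Bool)
      (fun e : π'.ker => decide (en g e.1.1 0 0 = 1)) ?_).trans (le_of_eq (by simp))
    intro e e' h
    obtain ⟨⟨a, b, c, d⟩, k⟩ := hker e.1 e.2
    obtain ⟨⟨a', b', c', d'⟩, k'⟩ := hker e'.1 e'.2
    have h00 : en g e.1.1 0 0 = en g e'.1.1 0 0 := by
      simp only [decide_eq_decide] at h
      rcases d with d | d
      · rw [d, h.1 d]
      · rcases d' with d' | d'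
        · exact absurd (h.2 d') (by rw [d]; exact hne)
        · rw [d, d']
    exact Subtype.ext (Subtype.ext (en_ext g hb hinj h00 (a.trans a'.symm) (b.trans b'.symm)
      (c.symm.trans (h00.trans c')) (k.trans k'.symm)))
  have hr4 : Nat.card π'.range ≤ 4 := by
    refine (Nat.card_le_card_of_injective (β := Bool × Bool)
      (fun r : π'.range => (decide ((r.1 : F × F).1 = 1), decide ((r.1 : F × F).2 = 1))) ?_).trans
      (le_of_eq (by simp))
    rintro ⟨_, e, rfl⟩ ⟨_, e', rfl⟩ h
    simp only [Prod.mk.injEq, decide_eq_decide] at h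
    refine Subtype.ext (Units.ext (Prod.ext ?_ ?_))
    · change ((π e).1 = 1 ↔ (π e').1 = 1) ∧ _ at h
      change (π e).1 = (π e').1
      rcases (hpm e).1 with d | d
      · rw [d, h.1.1 d]
      · rcases (hpm e').1 with d' | d'
        · exact absurd (h.1.2 d') (by rw [d]; exact hne)
        · rw [d, d']
    · change _ ∧ ((π e).2 = 1 ↔ (π e').2 = 1) at h
      change (π e).2 = (π e').2
      rcases (hpm e).2 with d | d
      · rw [d, h.2.1 d]
      · rcases (hpm e').2 with d' | d'
        · exact absurd (h.2.2 d') (by rw [d]; exact hne)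
        · rw [d, d']
  have hmul : 8 = Nat.card π'.ker * Nat.card π'.range := by
    rw [← hE8, ← Subgroup.card_mul_index π'.ker, Subgroup.index_ker]
  have hk : Nat.card π'.ker = 2 := by
    have := Nat.mul_le_mul_left (Nat.card π'.ker) hr4
    omega
  have hr : Nat.card π'.range = 4 := by rw [hk] at hmul; omega
  -- the element of the kernel
  have : Nontrivial π'.ker := Finite.one_lt_card_iff_nontrivial.1 (by omega)
  obtain ⟨e, he⟩ := exists_ne (1 : π'.ker)
  obtain ⟨⟨a, b, c, d⟩, k⟩ := hker e.1 e.2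
  obtain ⟨o1, o2, o3, o4, o5⟩ := en_one g
  have hz0 : en g e.1.1 0 0 = -1 := by
    refine d.resolve_left (fun d => he (Subtype.ext (Subtype.ext ?_)))
    exact en_ext g hb hinj (d.trans o1.symm) (a.trans o2.symm) (b.trans o3.symm)
      ((c.symm.trans d).trans o4.symm) (k.trans o5.symm)
  -- an element with the values (1, -1)
  obtain ⟨e', he1, he2⟩ : ∃ e' : E, (π e').1 = 1 ∧ (π e').2 = -1 := by
    by_contra hcon
    push Not at hcon
    have : Nat.card π'.range ≤ 3 := by
      refine (Nat.card_le_card_of_injective (β := Fin 3)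
        (fun r : π'.range => if (r.1 : F × F).1 = 1 then 0 else if (r.1 : F × F).2 = 1 then 1 else 2)
        ?_).trans (le_of_eq (by simp))
      rintro ⟨_, x, rfl⟩ ⟨_, y, rfl⟩ h
      refine Subtype.ext (Units.ext ?_)
      change π x = π y
      change (if (π x).1 = 1 then (0 : Fin 3) else if (π x).2 = 1 then 1 else 2) =
        (if (π y).1 = 1 then (0 : Fin 3) else if (π y).2 = 1 then 1 else 2) at h
      have X1 : (π x).1 = 1 → (π x).2 = 1 := fun h1 => ((hpm x).2).resolve_right (hcon x h1)
      have Y1 : (π y).1 = 1 → (π y).2 = 1 := fun h1 => ((hpm y).2).resolve_right (hcon y h1)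
      by_cases a : (π x).1 = 1
      · by_cases b : (π y).1 = 1
        · exact Prod.ext (a.trans b.symm) ((X1 a).trans (Y1 b).symm)
        · rw [if_pos a, if_neg b] at h
          split_ifs at h <;> exact absurd h (by decide)
      · by_cases b : (π y).1 = 1
        · rw [if_neg a, if_pos b] at h
          split_ifs at h <;> exact absurd h (by decide)
        · rw [if_neg a, if_neg b] at h
          refine Prod.ext (((hpm x).1.resolve_left a).trans ((hpm y).1.resolve_left b).symm) ?_
          by_cases c : (π x).2 = 1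
          · by_cases d : (π y).2 = 1
            · exact c.trans d.symm
            · rw [if_pos c, if_neg d] at h
              exact absurd h (by decide)
          · by_cases d : (π y).2 = 1
            · rw [if_neg c, if_pos d] at h
              exact absurd h (by decide)
            · exact ((hpm x).2.resolve_left c).trans ((hpm y).2.resolve_left d).symm
    omega
  obtain ⟨a', b', c', d'⟩ := inv_scalar g hb h2 (hE e' e'.2) he1
  have k' : en g e'.1 2 2 = -1 := he2
  rcases sign_of_sq d' with d' | d'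
  · exact ⟨e'.1, e.1.1, hE _ e'.2, ⟨d', a', b', c'.symm.trans d', k'⟩,
      hz0, a, b, c.symm.trans hz0, k⟩
  · refine ⟨e'.1 * e.1.1, e.1.1, hE _ (mul_mem e'.2 e.1.2), ?_, hz0, a, b, c.symm.trans hz0, k⟩
    obtain ⟨A, B, C, D, K⟩ := en_mul g hb e'.1 e.1.1
    rw [A, B, C, D, K, a', b', a, b, ← c', ← c, d', hz0, k', k]
    norm_num

set_option maxHeartbeats 1000000 in
theorem key {G : Type*} [Group G] [Finite G] (X : Sylow 2 G) {F : Type*} [Field F] [Fintype F]
    (hF : Odd (Fintype.card F)) (f : ↥(X : Subgroup G) →* GL (Fin 3) F) (hf : Function.Injective f)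
    (E : Subgroup G) (hE : E ≤ (X : Subgroup G)) (hEa : Cfsg.IsElementaryAbelian 2 E)
    (hE8 : Nat.card E = 8) (hna : ¬ IsMulCommutative (X : Subgroup G)) :
    ∃ H : Subgroup G, H.index = 2 := by
  obtain ⟨g, hinj, hb⟩ := exists_block X.isPGroup' hF f hf
  have h2 := two_ne_zero' hF
  have hne : (-1 : F) ≠ 1 := fun h => h2 (by linear_combination -h)
  obtain ⟨u, z, hu2, ⟨u00, u01, u10, u11, u22⟩, z00, z01, z10, z11, z22⟩ :=
    elements h2 g hb hinj (E.subgroupOf (X : Subgroup G))
      (fun e he => Subtype.ext (by rw [← pow_two]; exact hEa.2 e.1 he))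
      (by rw [Nat.card_congr (Subgroup.subgroupOfEquivOfLe hE).toEquiv, hE8])
  let δ : ↥(X : Subgroup G) →* (F × F)ˣ := (detHom g hb).toHomUnits
  have hcomm : ∀ x ∈ commutator ↥(X : Subgroup G),
      en g x 0 0 * en g x 1 1 - en g x 0 1 * en g x 1 0 = 1 ∧ en g x 2 2 = 1 := by
    intro x hx
    have h := congrArg Units.val (MonoidHom.mem_ker.1 (Abelianization.commutator_subset_ker δ hx))
    exact ⟨congrArg Prod.fst h, congrArg Prod.snd h⟩
  have hu_not : u ∉ commutator ↥(X : Subgroup G) := fun h => hne (u22.symm.trans (hcomm u h).2)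
  have hucen : ∀ x, x * u = u * x := by
    intro x
    obtain ⟨A, B, C, D, K⟩ := en_mul g hb x u
    obtain ⟨A', B', C', D', K'⟩ := en_mul g hb u x
    refine en_ext g hb hinj ?_ ?_ ?_ ?_ ?_ <;>
      simp only [A, B, C, D, K, A', B', C', D', K', u00, u01, u10, u11, u22] <;> ring
  obtain ⟨o1, o2, o3, o4, o5⟩ := en_one g
  -- central involutions
  have hW : ∀ w, (∀ x, x * w = w * x) → w * w = 1 → w ≠ 1 → w = u ∨ w = z ∨ w = u * z := by
    intro w hwc hw2 hw1
    by_cases hs : en g w 0 1 = 0 ∧ en g w 1 0 = 0 ∧ en g w 0 0 = en g w 1 1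
    · obtain ⟨s1, s2, s3⟩ := hs
      obtain ⟨A, -, -, -, K⟩ := en_mul g hb w w
      rw [hw2, o1, s1, zero_mul, add_zero] at A
      rw [hw2, o5] at K
      obtain ⟨P, Q, R, S, T⟩ := en_mul g hb u z
      rcases sign_of_sq A.symm with a | a <;> rcases sign_of_sq K.symm with k | k
      · exact absurd (en_ext g hb hinj (a.trans o1.symm) (s1.trans o2.symm) (s2.trans o3.symm)
          ((s3.symm.trans a).trans o4.symm) (k.trans o5.symm)) hw1
      · exact Or.inl (en_ext g hb hinj (a.trans u00.symm) (s1.trans u01.symm) (s2.trans u10.symm)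
          ((s3.symm.trans a).trans u11.symm) (k.trans u22.symm))
      · exact Or.inr (Or.inl (en_ext g hb hinj (a.trans z00.symm) (s1.trans z01.symm)
          (s2.trans z10.symm) ((s3.symm.trans a).trans z11.symm) (k.trans z22.symm)))
      · refine Or.inr (Or.inr (en_ext g hb hinj ?_ ?_ ?_ ?_ ?_)) <;>
          simp only [P, Q, R, S, T, u00, u01, u10, u11, u22, z00, z01, z10, z11, z22, a, s1, s2,
            ← s3, k] <;> ring
    · exact absurd ⟨⟨fun x y => commute_of_nonscalar g hb hinj hwc hs x y⟩⟩ hna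
  -- z lies in the derived subgroup
  have hzc : z ∈ commutator ↥(X : Subgroup G) := by
    have hC1 : commutator ↥(X : Subgroup G) ≠ ⊥ := by
      intro h
      refine hna ⟨⟨fun x y => ?_⟩⟩
      have := Subgroup.commutator_mem_commutator (Subgroup.mem_top x) (Subgroup.mem_top y)
      rw [← commutator_def, h, Subgroup.mem_bot] at this
      exact commutatorElement_eq_one_iff_mul_comm.1 this
    obtain ⟨y, hy, hy1⟩ : ∃ y : ↥(commutator ↥(X : Subgroup G)),
        (∀ x : ↥(X : Subgroup G), x * y.1 = y.1 * x) ∧ y ≠ 1 := by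
      have hp : 2 ∣ Nat.card (commutator ↥(X : Subgroup G)) := by
        obtain ⟨k, hk⟩ := IsPGroup.iff_card.1 (X.isPGroup'.to_subgroup (commutator _))
        rw [hk]
        refine dvd_pow_self 2 ?_
        rintro rfl
        exact hC1 (Subgroup.card_eq_one.1 (by simpa using hk))
      let inst : MulAction ↥(X : Subgroup G) (commutator ↥(X : Subgroup G)) :=
        { smul := fun x y => ⟨x * y.1 * x⁻¹, (inferInstance : (commutator ↥(X : Subgroup G)).Normal).conj_mem _ y.2 x⟩
          one_smul := fun y => Subtype.ext (by change (1 : ↥(X : Subgroup G)) * y.1 * 1⁻¹ = y.1; simp)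
          mul_smul := fun a b y => Subtype.ext (by
            change a * b * y.1 * (a * b)⁻¹ = a * (b * y.1 * b⁻¹) * a⁻¹; group) }
      obtain ⟨y, hy, hy1⟩ := X.isPGroup'.exists_fixed_point_of_prime_dvd_card_of_fixed_point
        (commutator ↥(X : Subgroup G)) hp (a := 1) (fun x => Subtype.ext (by
          change x * 1 * x⁻¹ = 1; simp))
      refine ⟨y, fun x => ?_, hy1.symm⟩
      have := congrArg Subtype.val (hy x)
      change x * y.1 * x⁻¹ = y.1 at this
      exact mul_inv_eq_iff_eq_mul.1 this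
    obtain ⟨k, hk⟩ := X.isPGroup' y.1
    obtain ⟨j, hj1, hj2⟩ : ∃ j, y.1 ^ 2 ^ j ≠ 1 ∧ y.1 ^ 2 ^ (j + 1) = 1 := by
      classical
      have hex : ∃ m, y.1 ^ 2 ^ m = 1 := ⟨k, hk⟩
      have hm0 : Nat.find hex ≠ 0 := fun h => hy1 (Subtype.ext (by
        have := Nat.find_spec hex; rw [h] at this; simpa using this))
      obtain ⟨j, hj⟩ := Nat.exists_eq_succ_of_ne_zero hm0
      exact ⟨j, Nat.find_min hex (by omega), by rw [← Nat.succ_eq_add_one, ← hj]; exact Nat.find_spec hex⟩
    set w := y.1 ^ 2 ^ j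
    have hwC : w ∈ commutator ↥(X : Subgroup G) := pow_mem y.2 _
    have hwc : ∀ x, x * w = w * x := fun x => ((show Commute x y.1 from hy x).pow_right _)
    rcases hW w hwc (by rw [← pow_add, ← two_mul, ← pow_succ']; exact hj2) hj1 with h | h | h
    · exact absurd (h ▸ hwC) hu_not
    · exact h ▸ hwC
    · exfalso
      obtain ⟨-, -, -, -, T⟩ := en_mul g hb u z
      have := (hcomm w hwC).2
      rw [h, T, u22, z22, mul_one] at this
      exact hne this
  -- the normalizer fixes u
  refine Cfsg.Agent.CentralInvolution.exists_index_two_of_central X u.1 u.2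
    (congrArg Subtype.val hu2) (fun x hx => congrArg Subtype.val (hucen ⟨x, hx⟩)) ?_ (by simpa using hu_not)
  intro n hn
  have hD : ∀ m ∈ Subgroup.normalizer ((X : Subgroup G) : Set G), ∀ a : ↥(X : Subgroup G),
      ∀ b : ↥(X : Subgroup G), (b : G) = m⁻¹ * a * m →
      a ∈ commutator ↥(X : Subgroup G) → b ∈ commutator ↥(X : Subgroup G) := by
    intro m hm a b hab ha
    let φ : ↥(X : Subgroup G) →* ↥(X : Subgroup G) :=
      { toFun := fun x => ⟨m⁻¹ * x * m, by
          simpa using (Subgroup.mem_normalizer_iff.1 (inv_mem hm) x.1).1 x.2⟩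
        map_one' := Subtype.ext (by simp)
        map_mul' := fun x y => Subtype.ext (by simp [mul_assoc]) }
    have : φ a ∈ (commutator ↥(X : Subgroup G)).map φ := ⟨a, ha, rfl⟩
    rw [commutator_def, Subgroup.map_commutator] at this
    have hb' : b = φ a := Subtype.ext hab
    rw [hb', commutator_def]
    exact Subgroup.commutator_mono le_top le_top this
  let cj : ∀ m ∈ Subgroup.normalizer ((X : Subgroup G) : Set G), ↥(X : Subgroup G) → ↥(X : Subgroup G) :=
    fun m hm a => ⟨m⁻¹ * a * m, by simpa using (Subgroup.mem_normalizer_iff.1 (inv_mem hm) a.1).1 a.2⟩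
  have htwo : ∀ m (hm : m ∈ Subgroup.normalizer ((X : Subgroup G) : Set G)), ∀ a,
      a = u ∨ a = u * z → cj m hm a = u ∨ cj m hm a = u * z := by
    intro m hm a ha
    have hac : (∀ x, x * a = a * x) ∧ a * a = 1 ∧ a ∉ commutator ↥(X : Subgroup G) := by
      have hzz : (∀ x, x * z = z * x) ∧ z * z = 1 := by
        constructor
        · intro x
          obtain ⟨A, B, C, D, K⟩ := en_mul g hb x z
          obtain ⟨A', B', C', D', K'⟩ := en_mul g hb z x
          refine en_ext g hb hinj ?_ ?_ ?_ ?_ ?_ <;>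
            simp only [A, B, C, D, K, A', B', C', D', K', z00, z01, z10, z11, z22] <;> ring
        · obtain ⟨A, B, C, D, K⟩ := en_mul g hb z z
          refine en_ext g hb hinj ?_ ?_ ?_ ?_ ?_ <;>
            simp only [A, B, C, D, K, o1, o2, o3, o4, o5, z00, z01, z10, z11, z22] <;> ring
      rcases ha with rfl | rfl
      · exact ⟨hucen, hu2, hu_not⟩
      · refine ⟨fun x => ((show Commute x u from hucen x).mul_right (hzz.1 x)), ?_,
          fun h => hu_not (by simpa using mul_mem h (inv_mem hzc))⟩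
        calc u * z * (u * z) = u * u * (z * z) := by
              rw [mul_assoc u z, ← mul_assoc z u, hucen z]; group
          _ = 1 := by rw [hu2, hzz.2, one_mul]
    obtain ⟨hac, ha2, haC⟩ := hac
    have hm' := inv_mem hm
    have w2 : cj m hm a * cj m hm a = 1 := Subtype.ext (by
      change m⁻¹ * a * m * (m⁻¹ * a * m) = 1
      have h2' : (a : G) * a = 1 := congrArg Subtype.val ha2
      calc m⁻¹ * (a : G) * m * (m⁻¹ * a * m) = m⁻¹ * ((a : G) * a) * m := by group
        _ = 1 := by rw [h2']; group)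
    have wne : cj m hm a ≠ 1 := fun h => haC (by
      have h' : m⁻¹ * (a : G) * m = 1 := congrArg Subtype.val h
      have : a = 1 := Subtype.ext (by
        calc (a : G) = m * (m⁻¹ * a * m) * m⁻¹ := by group
          _ = 1 := by rw [h']; group)
      rw [this]; exact one_mem _)
    have wc : ∀ x, x * cj m hm a = cj m hm a * x := by
      intro x
      have := congrArg Subtype.val (hac (cj m⁻¹ hm' x))
      refine Subtype.ext ?_
      change (x : G) * (m⁻¹ * a * m) = m⁻¹ * a * m * x
      change m⁻¹⁻¹ * (x : G) * m⁻¹ * a = a * (m⁻¹⁻¹ * x * m⁻¹) at this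
      calc (x : G) * (m⁻¹ * a * m) = m⁻¹ * (m⁻¹⁻¹ * x * m⁻¹ * a) * m := by group
        _ = m⁻¹ * (a * (m⁻¹⁻¹ * x * m⁻¹)) * m := by rw [this]
        _ = _ := by group
    rcases hW _ wc w2 wne with h | h | h
    · exact Or.inl h
    · exfalso
      refine haC (hD m⁻¹ hm' (cj m hm a) a ?_ (h ▸ hzc))
      change (a : G) = m⁻¹⁻¹ * (m⁻¹ * a * m) * m⁻¹
      group
    · exact Or.inr h
  rcases htwo n hn u (Or.inl rfl) with h | h
  · exact congrArg Subtype.val h
  exfalso
  have hne' : u ≠ u * z := fun h' => hne (by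
    have : en g z 2 2 = 1 := z22
    have hz1 : z = 1 := mul_left_cancel (h'.symm.trans (mul_one u).symm)
    rw [hz1, o1] at z00
    exact z00.symm)
  have h' : cj n hn (u * z) = u := by
    refine (htwo n hn _ (Or.inr rfl)).resolve_right (fun h'' => hne' ?_)
    have : (n⁻¹ * (u : G) * n) = n⁻¹ * ((u * z : ↥(X : Subgroup G)) : G) * n :=
      (congrArg Subtype.val h).trans (congrArg Subtype.val h'').symm
    exact Subtype.ext (mul_left_cancel (mul_right_cancel this))
  have hiter : ∀ k : ℕ, (n⁻¹) ^ k * (u : G) * n ^ k =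
      if k % 2 = 0 then (u : G) else ((u * z : ↥(X : Subgroup G)) : G) := by
    intro k
    induction k with
    | zero => simp
    | succ k ih =>
      have : (n⁻¹) ^ (k + 1) * (u : G) * n ^ (k + 1) = n⁻¹ * ((n⁻¹) ^ k * u * n ^ k) * n := by
        rw [pow_succ', pow_succ]; group
      rw [this, ih]
      rcases Nat.mod_two_eq_zero_or_one k with e | e
      · rw [if_pos e, if_neg (by omega)]
        exact congrArg Subtype.val h
      · rw [if_neg (by omega), if_pos (by omega)]
        exact congrArg Subtype.val h'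
  set N := Subgroup.normalizer ((X : Subgroup G) : Set G)
  have : ((X : Subgroup G).subgroupOf N).Normal := Subgroup.normal_in_normalizer
  set k := ((X : Subgroup G).subgroupOf N).index with hk
  have hmem : n ^ k ∈ (X : Subgroup G) := by
    have := Subgroup.pow_index_mem ((X : Subgroup G).subgroupOf N) ⟨n, hn⟩
    rw [← hk, Subgroup.mem_subgroupOf] at this
    simpa using this
  have hkodd : k % 2 = 1 := by
    rcases Nat.mod_two_eq_zero_or_one k with e | e
    · exfalso
      refine X.not_dvd_index ((Nat.dvd_of_mod_eq_zero e).trans ?_)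
      exact Subgroup.relIndex_dvd_index_of_le Subgroup.le_normalizer
    · exact e
  have := hiter k
  have he : (u : G) * n ^ k = n ^ k * u := (congrArg Subtype.val (hucen ⟨n ^ k, hmem⟩)).symm
  rw [if_neg (by omega), inv_pow, mul_assoc, he] at this
  exact hne' (Subtype.ext (by simpa using this))

/-- Let G be a finite group with no subgroup of index 2 whose Sylow 2-subgroup X embeds in GL₃(F) for a finite field F of odd order. If X contains an elementary abelian subgroup of order 8, then X is abelian. -/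
theorem result {G : Type*} [Group G] [Finite G] (hG : ∀ H : Subgroup G, H.index ≠ 2) (X : Sylow 2 G)
    {F : Type*} [Field F] [Fintype F] (hF : Odd (Fintype.card F))
    (f : ↥(X : Subgroup G) →* GL (Fin 3) F) (hf : Function.Injective f)
    (E : Subgroup G) (hE : E ≤ (X : Subgroup G)) (hEa : Cfsg.IsElementaryAbelian 2 E) (hE8 : Nat.card E = 8) :
    IsMulCommutative (X : Subgroup G) := by
  by_contra hna
  obtain ⟨H, hH⟩ := key X hF f hf E hE hEa hE8 hna
  exact hG H hH

end Cfsg.Agent.S1906
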