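import Cfsg.Statements.S1907
import Mathlib
import Cfsg.Agent.Lib.Components.Constrained
import Cfsg.Agent.Lib.Coprime
-- import your own Cfsg.Agent.* helpers here

set_option autoImplicit false
open Cfsg

namespace Cfsg.Agent.S1907

open Cfsg.Agent.Lib.Components Cfsg.Agent.Lib.Coprime
open scoped Pointwise

/-- The intersection of a Sylow subgroup with a normal subgroup is a Sylow subgroup of the latter. -/
theorem exists_sylow_eq_inf {G : Type*} [Group G] [Finite G] {p : ℕ} [Fact p.Prime] (P : Sylow p G)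
    (M : Subgroup G) [M.Normal] :
    ∃ Q : Sylow p M, (Q : Subgroup M).map M.subtype = (P : Subgroup G) ⊓ M := by
  obtain ⟨Q, hQ⟩ := ((P.2.to_le inf_le_left).comap_subtype (K := M) :
    IsPGroup p (((P : Subgroup G) ⊓ M).subgroupOf M)).exists_le_sylow
  refine ⟨Q, le_antisymm ?_ ?_⟩
  · obtain ⟨R, hR⟩ := (Q.2.map M.subtype).exists_le_sylow
    obtain ⟨g, hg⟩ := MulAction.exists_smul_eq G R P
    have hle : MulAut.conj g • (Q : Subgroup M).map M.subtype ≤ (P : Subgroup G) ⊓ M := by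
      intro x hx
      rw [mem_conj_smul] at hx
      refine ⟨?_, ?_⟩
      · rw [← hg]
        exact mem_conj_smul.2 (hR hx)
      · have := (inferInstance : M.Normal).conj_mem _ (Subgroup.map_subtype_le _ hx) g
        rwa [show g * (g⁻¹ * x * g) * g⁻¹ = x by group] at this
    have hle' : (P : Subgroup G) ⊓ M ≤ (Q : Subgroup M).map M.subtype := fun x hx =>
      ⟨⟨x, hx.2⟩, hQ hx, rfl⟩
    have hc : Nat.card ((P : Subgroup G) ⊓ M : Subgroup G) = Nat.card ((Q : Subgroup M).map M.subtype) :=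
      le_antisymm (Subgroup.card_le_of_le hle') (by rw [← card_conj_smul g]; exact Subgroup.card_le_of_le hle)
    exact (Subgroup.eq_of_le_of_card_ge hle' hc.ge).ge
  · exact fun x hx => ⟨⟨x, hx.2⟩, hQ hx, rfl⟩
/-- Let P be a Sylow p-subgroup of a finite group G, H = P ∩ O_{p',p}(G), N = N_G(H) and D = O_{p'}(G). (a) If y is an element of p-power order of N and d ∈ D with d⁻¹ y d ∈ N, then d = d₁ d₂ with d₁ ∈ C_D(y) and d₂ ∈ C_D(H). (b) Two elements of P that are conjugate in G are conjugate in N. -/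
theorem result {G : Type*} [Group G] [Finite G] {p : ℕ} [Fact p.Prime] (P : Sylow p G) :
    (∀ y ∈ Subgroup.normalizer (((P : Subgroup G) ⊓ Cfsg.pPrimePCore p G : Subgroup G) : Set G), (∃ k : ℕ, orderOf y = p ^ k) →
      ∀ d ∈ Cfsg.pPrimeCore p G, d⁻¹ * y * d ∈ Subgroup.normalizer (((P : Subgroup G) ⊓ Cfsg.pPrimePCore p G : Subgroup G) : Set G) →
        ∃ d₁ ∈ Cfsg.pPrimeCore p G ⊓ Subgroup.centralizer ({y} : Set G),
          ∃ d₂ ∈ Cfsg.pPrimeCore p G ⊓ Subgroup.centralizer (((P : Subgroup G) ⊓ Cfsg.pPrimePCore p G : Subgroup G) : Set G), d = d₁ * d₂) ∧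
    ∀ x y : G, x ∈ (P : Subgroup G) → y ∈ (P : Subgroup G) → IsConj x y →
      ∃ n ∈ Subgroup.normalizer (((P : Subgroup G) ⊓ Cfsg.pPrimePCore p G : Subgroup G) : Set G), n * x * n⁻¹ = y := by
  classical
  set M := Cfsg.pPrimePCore p G with hM
  set H := (P : Subgroup G) ⊓ M with hH
  set N := Subgroup.normalizer (H : Set G) with hN
  set D := Cfsg.pPrimeCore p G with hD
  haveI hMn : M.Normal := pPrimePCore_normal' p
  have hHp : IsPGroup p H := P.2.to_le inf_le_left
  have hHD : H ⊓ D = ⊥ := isPGroup_inf_pPrimeCore_eq_bot hHp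
  have hND : ∀ e ∈ N ⊓ D, e ∈ Subgroup.centralizer (H : Set G) := by
    intro e he
    rw [Subgroup.mem_centralizer_iff]
    intro h hh
    have h1 : e * h * e⁻¹ * h⁻¹ ∈ H ⊓ D := Subgroup.mem_inf.2 ⟨mul_mem ((Subgroup.mem_normalizer_iff.1 he.1 h).1 hh) (inv_mem hh), by
      rw [mul_assoc, mul_assoc, ← mul_assoc h]
      exact mul_mem he.2 ((inferInstance : D.Normal).conj_mem _ (D.inv_mem he.2) h)⟩
    rw [hHD, Subgroup.mem_bot, mul_inv_eq_one, mul_inv_eq_iff_eq_mul] at h1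
    exact h1.symm
  have hA : ∀ y ∈ N, (∃ k : ℕ, orderOf y = p ^ k) → ∀ d ∈ D, d⁻¹ * y * d ∈ N →
      ∃ d₁ ∈ D ⊓ Subgroup.centralizer ({y} : Set G),
        ∃ d₂ ∈ D ⊓ Subgroup.centralizer (H : Set G), d = d₁ * d₂ := by
    intro y hy hyk d hd hyd
    obtain ⟨k, hk⟩ := hyk
    set y' := d⁻¹ * y * d with hy'
    have hyy : y' * y⁻¹ ∈ N ⊓ D := Subgroup.mem_inf.2 ⟨mul_mem hyd (inv_mem hy), by
      rw [hy', mul_assoc, mul_assoc, ← mul_assoc y]
      exact mul_mem (inv_mem hd) ((inferInstance : D.Normal).conj_mem _ hd y)⟩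
    have hAn : Subgroup.zpowers y ≤ Subgroup.normalizer ((N ⊓ D : Subgroup G) : Set G) := by
      rw [Subgroup.zpowers_le]
      exact mem_normalizer_of_conj_smul_eq (by
        rw [Subgroup.smul_inf, conj_smul_eq_of_mem_normalizer (Subgroup.le_normalizer hy),
          conj_smul_eq_of_mem_normalizer (Subgroup.le_normalizer_of_normal (K := ⊤) (H := D) trivial)])
    have hcard : Nat.card (Subgroup.zpowers y') = Nat.card (Subgroup.zpowers y) := by
      rw [Nat.card_zpowers, Nat.card_zpowers, hy']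
      have := orderOf_injective (MulAut.conj d⁻¹).toMonoidHom (MulAut.conj d⁻¹).injective y
      simpa using this
    have hcopD : ∀ z : G, orderOf z = p ^ k →
        (Nat.card D).Coprime (Nat.card (Subgroup.zpowers z)) := fun z hz => by
      rw [Nat.card_zpowers, hz]
      exact Nat.Coprime.pow_right _ (Cfsg.Agent.Lib.Components.pPrimeCore_coprime p)
    obtain ⟨n, hn, hnA⟩ := exists_conj_eq_of_le_sup hAn
      ((hcopD y hk).coprime_dvd_left (Subgroup.card_dvd_of_le inf_le_right))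
      (Or.inr (isSolvable_zpowers y)) hcard (Subgroup.zpowers_le.2 (by
        have := mul_mem (Subgroup.mem_sup_left (T := Subgroup.zpowers y) hyy)
          (Subgroup.mem_sup_right (S := N ⊓ D) (Subgroup.mem_zpowers y))
        rwa [inv_mul_cancel_right] at this))
    have hny : n * y * n⁻¹ = y' := by
      have h1 : n * y * n⁻¹ ∈ Subgroup.zpowers y' := by
        rw [← hnA, mem_conj_smul]
        rw [show n⁻¹ * (n * y * n⁻¹) * n = y by group]
        exact Subgroup.mem_zpowers y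
      have hord : orderOf y' = p ^ k := by
        rw [← Nat.card_zpowers, hcard, Nat.card_zpowers, hk]
      refine mul_inv_eq_one.1 (eq_one_of_mem_of_mem (hcopD y' hord) ?_
        (mul_mem h1 (inv_mem (Subgroup.mem_zpowers y'))))
      have h2 : n * y * n⁻¹ * y⁻¹ ∈ D := by
        rw [mul_assoc, mul_assoc, ← mul_assoc y]
        exact mul_mem hn.2 ((inferInstance : D.Normal).conj_mem _ (D.inv_mem hn.2) y)
      have := mul_mem h2 (D.inv_mem hyy.2)
      rwa [mul_inv_rev, inv_inv, mul_assoc, inv_mul_cancel_left] at this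
    refine ⟨d * n, ⟨mul_mem hd hn.2, Subgroup.mem_centralizer_singleton_iff.2 ?_⟩, n⁻¹,
      Subgroup.mem_inf.2 ⟨D.inv_mem hn.2, inv_mem (hND n hn)⟩, by group⟩
    calc d * n * y = d * (n * y * n⁻¹) * n := by group
      _ = d * (d⁻¹ * y * d) * n := by rw [hny]
      _ = y * (d * n) := by group
  refine ⟨hA, fun x y hx hy hxy => ?_⟩
  obtain ⟨Q, hQ⟩ := exists_sylow_eq_inf P M
  have hfr : N ⊔ M = ⊤ := by
    rw [hN, hH, ← hQ]
    exact Sylow.normalizer_sup_eq_top Q
  have hMD : M ≤ N ⊔ D := by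
    refine le_trans ?_ (sup_le_sup_right (Subgroup.le_normalizer : H ≤ N) D)
    have hmap := map_sylow_pPrimePCore p Q
    rw [hQ, ← map_pPrimePCore, Subgroup.map_eq_map_iff, QuotientGroup.ker_mk'] at hmap
    exact hmap ▸ le_sup_left
  have htop : N ⊔ D = ⊤ := eq_top_iff.2 (hfr ▸ sup_le le_sup_left hMD)
  obtain ⟨g, hg⟩ := isConj_iff.1 hxy
  obtain ⟨d, hd, n, hn, rfl⟩ : ∃ d ∈ D, ∃ n ∈ N, d * n = g := by
    have : g ∈ D ⊔ N := by rw [sup_comm, htop]; trivial
    exact Subgroup.mem_sup_of_normal_left.1 this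
  have hPN : (P : Subgroup G) ≤ N := fun z hz => mem_normalizer_of_conj_smul_eq (by
    rw [hH, Subgroup.smul_inf, conj_smul_eq_of_mem_normalizer (Subgroup.le_normalizer hz),
      conj_smul_eq_of_mem_normalizer (Subgroup.le_normalizer_of_normal (K := ⊤) (H := M) trivial)])
  obtain ⟨k, hk⟩ := IsPGroup.iff_orderOf.1 P.2 ⟨y, hy⟩
  have he : d⁻¹ * y * d = n * x * n⁻¹ := by rw [← hg]; group
  obtain ⟨d₁, hd₁, d₂, hd₂, rfl⟩ := hA y (hPN hy) ⟨k, by rw [← hk, Subgroup.orderOf_mk]⟩ d hd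
    (he ▸ mul_mem (mul_mem hn (hPN hx)) (inv_mem hn))
  refine ⟨d₂ * n, mul_mem (Subgroup.centralizer_le_normalizer _ hd₂.2) hn, ?_⟩
  have hc := Subgroup.mem_centralizer_singleton_iff.1 hd₁.2
  have h3 : d₁⁻¹ * y * d₁ = y := by rw [mul_assoc, ← hc, inv_mul_cancel_left]
  calc d₂ * n * x * (d₂ * n)⁻¹ = d₂ * (n * x * n⁻¹) * d₂⁻¹ := by group
    _ = d₂ * ((d₁ * d₂)⁻¹ * y * (d₁ * d₂)) * d₂⁻¹ := by rw [he]
    _ = d₁⁻¹ * y * d₁ := by group
    _ = y := h3

end Cfsg.Agent.S1907
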