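import Cfsg.Statements.S1910
import Mathlib
import Cfsg.Agent.Lib.FusionControl.Centric
import Cfsg.Agent.Lib.Solvable.Nilpotent
-- import your own Cfsg.Agent.* helpers here

set_option autoImplicit false
open Cfsg

namespace Cfsg.Agent.S1910

open Cfsg.Agent.Lib.FusionControl

variable {G : Type*} [Group G]

lemma two_inf_odd [Finite G] {X D : Subgroup G} (hX : IsPGroup 2 X) (hD : Odd (Nat.card D)) (h : X ≤ D) :
    X = ⊥ := by
  rcases hX.card_eq_or_dvd with h1 | h1
  · exact Subgroup.eq_bot_of_card_eq X h1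
  · exact absurd (h1.trans (Subgroup.card_dvd_of_le h)) hD.not_two_dvd_nat

lemma exists_invol [Finite G] {X : Subgroup G} (hX : IsPGroup 2 X) (h1 : X ≠ ⊥) :
    ∃ t ∈ X, orderOf t = 2 := by
  rcases hX.card_eq_or_dvd with h | h
  · exact absurd (Subgroup.eq_bot_of_card_eq X h) h1
  · obtain ⟨t, ht⟩ := exists_prime_orderOf_dvd_card' 2 h
    exact ⟨t, t.2, by rw [Subgroup.orderOf_coe]; exact ht⟩

lemma decomp {N A : Subgroup G} (h : A ≤ Subgroup.normalizer (N : Set G)) {y : G} (hy : y ∈ N ⊔ A) :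
    ∃ n ∈ N, ∃ a ∈ A, y = n * a := by
  rw [sup_comm, ← SetLike.mem_coe, Subgroup.coe_mul_of_left_le_normalizer_right _ _ h] at hy
  obtain ⟨a, ha, n, hn, rfl⟩ := hy
  exact ⟨a * n * a⁻¹, (Subgroup.mem_normalizer_iff.1 (h ha) n).1 hn, a, ha, by group⟩

lemma mem_normalizer_of_commute [Finite G] {Q : Subgroup G}
    (ht : ∀ y, y ∉ Subgroup.normalizer (Q : Set G) → Odd (Nat.card ↥(Q ⊓ cj y Q)))
    {T : Subgroup G} (hT : IsPGroup 2 T) (hT1 : T ≠ ⊥) (hTQ : T ≤ Q) {y : G}
    (hy : y ∈ Subgroup.centralizer (T : Set G)) : y ∈ Subgroup.normalizer (Q : Set G) := by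
  by_contra hcon
  refine hT1 (two_inf_odd hT (ht y hcon) (le_inf hTQ fun t htT => mem_cj.2 ?_))
  rw [mul_assoc, Subgroup.mem_centralizer_iff.1 hy t htT, inv_mul_cancel_left]
  exact hTQ htT

/-- the key embedding -/
lemma key [Finite G] (Q Q' : Subgroup G)
    (ht : ∀ y, y ∉ Subgroup.normalizer (Q' : Set G) → Odd (Nat.card ↥(Q' ⊓ cj y Q')))
    (hodd : Odd (Nat.card ↥(Q ⊓ Q'))) (heven : Even (Nat.card Q)) (e : ↥Q' ≃* ↥Q)
    (T : Subgroup G) (hT : IsPGroup 2 T) (hT1 : T ≠ ⊥) (hTQ' : T ≤ Q')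
    (R : Subgroup G) (hRQ : R ≤ Q) (hR : IsPGroup 2 R) (hRi : ¬ 2 ∣ R.relIndex Q)
    (hTR : T ≤ Subgroup.normalizer (R : Set G)) :
    R ⊓ Subgroup.centralizer (T : Set G) ≠ ⊥ ∧
      ∃ φ : ↥T →* ↥(R ⊓ Subgroup.centralizer (T : Set G)), Function.Injective φ := by
  set U := R ⊓ Subgroup.centralizer (T : Set G) with hU
  have hR1 : R ≠ ⊥ := by
    intro h
    apply hRi
    rw [h, Subgroup.relIndex_bot_left]
    exact heven.two_dvd
  have hU1 : U ≠ ⊥ := by
    have hP : IsPGroup 2 (T ⊔ R : Subgroup G) := IsPGroup.to_sup_of_normal_right' hT hR hTR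
    haveI : Group.IsNilpotent ↥(T ⊔ R) := hP.isNilpotent
    haveI : (R.subgroupOf (T ⊔ R)).Normal :=
      (Subgroup.normal_subgroupOf_iff_le_normalizer le_sup_right).2 (sup_le hTR Subgroup.le_normalizer)
    have hne : R.subgroupOf (T ⊔ R) ≠ ⊥ := by
      rw [Ne, Subgroup.subgroupOf_eq_bot]
      intro h
      exact hR1 (h.eq_bot_of_le le_sup_right)
    obtain ⟨⟨⟨r, hr⟩, hrm⟩, hr1⟩ := (Subgroup.ne_bot_iff_exists_ne_one).1
      (Cfsg.Agent.Lib.Solvable.inf_center_ne_bot hne)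
    intro h
    have : r ∈ U := by
      refine ⟨Subgroup.mem_subgroupOf.1 hrm.1, Subgroup.mem_centralizer_iff.2 fun t ht => ?_⟩
      exact congrArg Subtype.val (Subgroup.mem_center_iff.1 hrm.2 ⟨t, Subgroup.mem_sup_left ht⟩)
    rw [h, Subgroup.mem_bot] at this
    exact hr1 (Subtype.ext (Subtype.ext this))
  refine ⟨hU1, ?_⟩
  by_cases hUR : R ≤ Subgroup.centralizer (T : Set G)
  · have hP : IsPGroup 2 ((T.subgroupOf Q').map (Q.subtype.comp e.toMonoidHom)) :=
      (hT.of_equiv (Subgroup.subgroupOfEquivOfLe hTQ').symm).map _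
    have hPQ : (T.subgroupOf Q').map (Q.subtype.comp e.toMonoidHom) ≤ Q := by
      rintro _ ⟨a, -, rfl⟩; exact (e a).2
    obtain ⟨k, -, hk⟩ := exists_cj_le_of_not_dvd hRQ hR hRi hPQ hP
    refine ⟨MonoidHom.codRestrict (((MulAut.conj k).toMonoidHom.comp (Q.subtype.comp e.toMonoidHom)).comp
      (Subgroup.inclusion hTQ')) U (fun t => ?_), ?_⟩
    · have : (((MulAut.conj k).toMonoidHom.comp (Q.subtype.comp e.toMonoidHom)).comp
          (Subgroup.inclusion hTQ')) t ∈ R := by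
        apply hk
        refine ⟨(e (Subgroup.inclusion hTQ' t) : G), ⟨Subgroup.inclusion hTQ' t, ?_, rfl⟩, rfl⟩
        exact Subgroup.mem_subgroupOf.2 t.2
      exact ⟨this, hUR this⟩
    · intro a b hab
      exact Subgroup.inclusion_injective hTQ'
        (e.injective (Subtype.ext ((MulAut.conj k).injective (congrArg Subtype.val hab))))
  · -- some element of R outside U normalizes T U
    set P : Subgroup G := T ⊔ R with hPdef
    have hPp : IsPGroup 2 P := IsPGroup.to_sup_of_normal_right' hT hR hTR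
    have hRT : T ⊓ R = ⊥ := two_inf_odd (hT.to_le inf_le_left) hodd
      (le_inf (inf_le_right.trans hRQ) (inf_le_left.trans hTQ'))
    have hTU : T ≤ Subgroup.normalizer (U : Set G) := by
      intro t ht
      have hc : ∀ u ∈ U, t * u * t⁻¹ = u := fun u hu => by
        rw [Subgroup.mem_centralizer_iff.1 hu.2 t ht, mul_inv_cancel_right]
      refine mem_normalizer_of_cj_le (cj_le_iff.2 fun u hu => ?_)
      rwa [hc u hu]
    have hlt : U ⊔ T < P := by
      refine lt_of_le_of_ne (sup_le (inf_le_left.trans le_sup_right) le_sup_left) fun h => hUR ?_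
      intro r hr
      have hr' : r ∈ U ⊔ T := h ▸ Subgroup.mem_sup_right hr
      obtain ⟨u, hu, t, ht, rfl⟩ := decomp hTU hr'
      have : t ∈ T ⊓ R := ⟨ht, by simpa using R.mul_mem (R.inv_mem hu.1) hr⟩
      rw [hRT, Subgroup.mem_bot] at this
      rw [this, mul_one]
      exact hu.2
    obtain ⟨y, ⟨hyP, hyN⟩, hy⟩ := SetLike.exists_of_lt (Cfsg.Agent.Lib.Transfer.lt_inf_normalizer hPp hlt)
    rw [hPdef, sup_comm] at hyP
    obtain ⟨x, hx, t₀, ht₀, rfl⟩ := decomp hTR hyP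
    have hxN : x ∈ Subgroup.normalizer ((U ⊔ T : Subgroup G) : Set G) := by
      have := mul_mem hyN ((Subgroup.normalizer ((U ⊔ T : Subgroup G) : Set G)).inv_mem (Subgroup.le_normalizer (Subgroup.mem_sup_right ht₀ : t₀ ∈ U ⊔ T)))
      rwa [mul_inv_cancel_right] at this
    have hxU : x ∉ U := fun h => hy (mul_mem (Subgroup.mem_sup_left h) (Subgroup.mem_sup_right ht₀))
    have hxQ' : x ∉ Subgroup.normalizer (Q' : Set G) := by
      intro h
      refine hxU ⟨hx, Subgroup.mem_centralizer_iff.2 fun t ht => ?_⟩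
      have h1 : x * (t * x⁻¹ * t⁻¹) ∈ R :=
        mul_mem hx ((Subgroup.mem_normalizer_iff.1 (hTR ht) _).1 (inv_mem hx))
      have h2 : x * t * x⁻¹ * t⁻¹ ∈ Q' :=
        mul_mem ((Subgroup.mem_normalizer_iff.1 h t).1 (hTQ' ht)) (inv_mem (hTQ' ht))
      have h3 : x * t * x⁻¹ * t⁻¹ ∈ R := by simpa [mul_assoc] using h1
      have : x * t * x⁻¹ * t⁻¹ ∈ (R ⊓ Q' : Subgroup G) := ⟨h3, h2⟩
      rw [two_inf_odd (hR.to_le inf_le_left) hodd (inf_le_inf_right _ hRQ), Subgroup.mem_bot,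
        mul_inv_eq_one, mul_inv_eq_iff_eq_mul] at this
      exact this.symm
    have hx' : x ∈ Subgroup.normalizer (Q : Set G) := Subgroup.le_normalizer (hRQ hx)
    have h1 : cj x T ⊓ T = ⊥ := two_inf_odd (hT.to_le inf_le_right) (ht x hxQ')
      (le_inf (inf_le_right.trans hTQ') (inf_le_left.trans (cj_le_cj hTQ')))
    have h2 : cj x T ⊓ U = ⊥ := by
      refine two_inf_odd (hR.to_le (inf_le_right.trans inf_le_left)) ?_
        (le_inf (inf_le_left.trans (cj_le_cj hTQ')) (inf_le_right.trans (inf_le_left.trans hRQ)))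
      have : cj x Q' ⊓ Q = cj x (Q' ⊓ Q) := by rw [cj_inf, mem_normalizer_iff_cj.1 hx']
      rw [this, card_cj, inf_comm]
      exact hodd
    set f : ↥T × ↥U →* G := MonoidHom.noncommCoprod T.subtype U.subtype
      (fun t u => Subgroup.mem_centralizer_iff.1 u.2.2 t t.2) with hf
    have hfi : Function.Injective f := by
      rw [injective_iff_map_eq_one]
      rintro ⟨⟨t, ht⟩, ⟨u, hu⟩⟩ h
      have h' : t * u = 1 := h
      have htu : u = t⁻¹ := eq_inv_of_mul_eq_one_right h'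
      have : t ∈ T ⊓ R := ⟨ht, by have := R.inv_mem hu.1; rwa [htu, inv_inv] at this⟩
      rw [hRT, Subgroup.mem_bot] at this
      subst this
      simp at htu
      subst htu
      rfl
    have hmem : ∀ t : T, x * t * x⁻¹ ∈ f.range := by
      intro t
      have : x * t * x⁻¹ ∈ U ⊔ T := (Subgroup.mem_normalizer_iff.1 hxN _).1 (Subgroup.mem_sup_right t.2)
      obtain ⟨u, hu, s, hs, hus⟩ := decomp hTU this
      exact ⟨(⟨s, hs⟩, ⟨u, hu⟩), by rw [hus]; exact Subgroup.mem_centralizer_iff.1 hu.2 s hs⟩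
    set σ : ↥T →* ↥f.range := (((MulAut.conj x).toMonoidHom.comp T.subtype).codRestrict f.range hmem) with hσ
    refine ⟨(MonoidHom.snd _ _).comp ((MonoidHom.ofInjective hfi).symm.toMonoidHom.comp σ), ?_⟩
    rw [injective_iff_map_eq_one]
    intro t h
    set w := (MonoidHom.ofInjective hfi).symm (σ t) with hw
    have hw2 : w.2 = 1 := h
    have hwf : (f w : G) = x * t * x⁻¹ := by
      have := congrArg Subtype.val ((MonoidHom.ofInjective hfi).apply_symm_apply (σ t))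
      exact this
    have hwT : f w = (w.1 : G) := by
      show (w.1 : G) * (w.2 : G) = _
      rw [hw2]; simp
    have : x * t * x⁻¹ ∈ cj x T ⊓ T := ⟨conj_mem_cj t.2, by rw [← hwf, hwT]; exact w.1.2⟩
    rw [h1, Subgroup.mem_bot, conj_eq_one_iff] at this
    exact Subtype.ext this

/-- Let Q be a tightly embedded subgroup of a finite group G, g an element outside N_G(Q), T a nontrivial Sylow 2-subgroup of Q^g ∩ N_G(Q), and S a Sylow 2-subgroup of QT containing T. Then T ∩ Q = 1, and N_S(T) is the direct product of T and N_S(T) ∩ Q, with N_S(T) ∩ Q isomorphic to T. -/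
theorem result {G : Type*} [Group G] [Finite G] (Q : Subgroup G) (hQ : Cfsg.IsTightlyEmbedded Q)
    (g : G) (hg : g ∉ Subgroup.normalizer (Q : Set G))
    (T : Subgroup G) (hT1 : T ≠ ⊥) (hT : T ≤ Q.map (MulAut.conj g).toMonoidHom ⊓ Subgroup.normalizer (Q : Set G))
    (hTsyl : IsPGroup 2 T ∧ ¬ 2 ∣ T.relIndex (Q.map (MulAut.conj g).toMonoidHom ⊓ Subgroup.normalizer (Q : Set G)))
    (S : Subgroup G) (hTS : T ≤ S) (hS : S ≤ Q ⊔ T) (hSsyl : IsPGroup 2 S ∧ ¬ 2 ∣ S.relIndex (Q ⊔ T)) :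
    T ⊓ Q = ⊥ ∧
      T ⊓ (S ⊓ Subgroup.normalizer (T : Set G) ⊓ Q) = ⊥ ∧
      ⁅T, S ⊓ Subgroup.normalizer (T : Set G) ⊓ Q⁆ = ⊥ ∧
      T ⊔ (S ⊓ Subgroup.normalizer (T : Set G) ⊓ Q) = S ⊓ Subgroup.normalizer (T : Set G) ∧
      Nonempty (↥(S ⊓ Subgroup.normalizer (T : Set G) ⊓ Q) ≃* T) := by
  set Q' := Q.map (MulAut.conj g).toMonoidHom with hQ'
  have hTQ' : T ≤ Q' := hT.trans inf_le_left
  have hTN : T ≤ Subgroup.normalizer (Q : Set G) := hT.trans inf_le_right
  have hodd : Odd (Nat.card ↥(Q ⊓ Q')) := hQ.2 g hg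
  have ht' : ∀ y, y ∉ Subgroup.normalizer (Q' : Set G) → Odd (Nat.card ↥(Q' ⊓ cj y Q')) := by
    intro y hy
    have h1 : g⁻¹ * y * g ∉ Subgroup.normalizer (Q : Set G) := by
      intro h
      apply hy
      rw [hQ', ← show cj g (Subgroup.normalizer (Q : Set G)) = _ from cj_normalizer g Q]
      exact mem_cj.2 h
    have h2 := hQ.2 _ h1
    have e1 : Q' ⊓ cj y Q' = cj g (Q ⊓ cj (g⁻¹ * y * g) Q) := by
      rw [cj_inf, cj_cj, hQ', cj_cj]
      congr 2
      group
    rw [e1, card_cj]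
    exact h2
  set e : ↥Q ≃* ↥Q' := (MulAut.conj g).subgroupMap Q
  set R := S ⊓ Q with hRdef
  have hTQ : T ⊓ Q = ⊥ := two_inf_odd (hTsyl.1.to_le inf_le_left) hodd
    (le_inf inf_le_right (inf_le_left.trans hTQ'))
  have hRi : ¬ 2 ∣ R.relIndex Q := not_dvd_relIndex_inf hS hSsyl.1 hSsyl.2 le_sup_left
    (sup_le Subgroup.le_normalizer hTN)
  have hR : IsPGroup 2 R := hSsyl.1.to_le inf_le_left
  have hTR : T ≤ Subgroup.normalizer (R : Set G) :=
    le_trans (le_inf (hTS.trans Subgroup.le_normalizer) hTN) Subgroup.inf_normalizer_le_normalizer_inf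
  set U := S ⊓ Subgroup.normalizer (T : Set G) ⊓ Q with hUdef
  have hcomm : ⁅T, U⁆ = ⊥ := by
    rw [eq_bot_iff, ← hTQ, Subgroup.commutator_le]
    intro t ht u hu
    rw [commutatorElement_def]
    refine ⟨?_, ?_⟩
    · have h1 : u * t⁻¹ * u⁻¹ ∈ T := (Subgroup.mem_normalizer_iff.1 hu.1.2 _).1 (inv_mem ht)
      simpa [mul_assoc] using mul_mem ht h1
    · exact mul_mem ((Subgroup.mem_normalizer_iff.1 (hTN ht) u).1 hu.2) (Q.inv_mem hu.2)
  have hUeq : U = R ⊓ Subgroup.centralizer (T : Set G) := by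
    refine le_antisymm (le_inf (le_inf (inf_le_left.trans inf_le_left) inf_le_right) ?_) ?_
    · rw [Subgroup.commutator_comm] at hcomm
      exact Subgroup.commutator_eq_bot_iff_le_centralizer.1 hcomm
    · exact le_inf (le_inf (inf_le_left.trans inf_le_left)
        (inf_le_right.trans (Subgroup.centralizer_le_normalizer _))) (inf_le_left.trans inf_le_right)
  set V := R ⊓ Subgroup.centralizer (T : Set G) with hV
  obtain ⟨hU1, φ, hφ⟩ := key Q Q' ht' hodd hQ.1 e.symm T hTsyl.1 hT1 hTQ' R inf_le_right hR hRi hTR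
  refine ⟨hTQ, ?_, hcomm, ?_, ?_⟩
  · rw [eq_bot_iff, ← hTQ]
    exact inf_le_inf_left _ inf_le_right
  · refine le_antisymm (sup_le (le_inf hTS Subgroup.le_normalizer) inf_le_left) fun y hy => ?_
    obtain ⟨q, hq, t, ht, rfl⟩ := decomp hTN (hS hy.1)
    have hqm : q ∈ S ⊓ Subgroup.normalizer (T : Set G) := by
      have := mul_mem hy (inv_mem (show t ∈ S ⊓ Subgroup.normalizer (T : Set G) from
        ⟨hTS ht, Subgroup.le_normalizer ht⟩))
      rwa [mul_inv_cancel_right] at this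
    exact mul_mem (Subgroup.mem_sup_right ⟨hqm, hq⟩) (Subgroup.mem_sup_left ht)
  · rw [hUeq]
    -- the symmetrical embedding bounds the order
    have hVp : IsPGroup 2 V := hR.to_le inf_le_left
    have hVQ : V ≤ Q := inf_le_left.trans inf_le_right
    have hVN : V ≤ Subgroup.normalizer (Q' : Set G) := fun v hv =>
      mem_normalizer_of_commute ht' hTsyl.1 hT1 hTQ' hv.2
    obtain ⟨S', hVS', hS', hS'p, hS'i⟩ := exists_sylow_in 2 (Q' ⊔ V) (le_sup_right : V ≤ _) hVp
    have hVR' : V ≤ Subgroup.normalizer ((S' ⊓ Q' : Subgroup G) : Set G) :=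
      le_trans (le_inf (hVS'.trans Subgroup.le_normalizer) hVN) Subgroup.inf_normalizer_le_normalizer_inf
    obtain ⟨-, ψ, hψ⟩ := key Q' Q hQ.2 (by rwa [inf_comm]) (by rw [hQ', card_cj]; exact hQ.1) e
      V hVp hU1 hVQ (S' ⊓ Q') inf_le_right (hS'p.to_le inf_le_left)
      (not_dvd_relIndex_inf hS' hS'p hS'i le_sup_left (sup_le Subgroup.le_normalizer hVN)) hVR'
    obtain ⟨k, -, hk⟩ := exists_cj_le_of_not_dvd hT hTsyl.1 hTsyl.2
      (show (S' ⊓ Q') ⊓ Subgroup.centralizer (V : Set G) ≤ Q' ⊓ Subgroup.normalizer (Q : Set G) from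
        le_inf (inf_le_left.trans inf_le_right) fun y hy =>
          mem_normalizer_of_commute hQ.2 hVp hU1 hVQ hy.2)
      (hS'p.to_le (inf_le_left.trans inf_le_left))
    have c1 := Nat.card_le_card_of_injective ψ hψ
    have c2 := Subgroup.card_le_of_le hk
    rw [card_cj] at c2
    have hb : Function.Bijective φ :=
      (Nat.bijective_iff_injective_and_card φ).2 ⟨hφ, le_antisymm (Nat.card_le_card_of_injective φ hφ) (c1.trans c2)⟩
    exact ⟨(MulEquiv.ofBijective φ hb).symm⟩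

end Cfsg.Agent.S1910
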