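import Cfsg.Statements.S1915
import Cfsg.Agent.Lib.RankOneFour.Main
import Cfsg.Agent.Lib.Components.Basic

set_option autoImplicit false
open Cfsg

namespace Cfsg.Agent.S1915

/-- Let A be a semisimple subgroup (A = E(A)) of a finite group and U a Klein four-group normalizing A. If the subgroup of A generated by the normalizers N_A(V) of the nontrivial subgroups V of U has 2-rank exactly 1, then A has 2-rank exactly 1. -/
theorem result {G : Type*} [Group G] [Finite G] (A : Subgroup G) (hA : Cfsg.layer ↥A = ⊤)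
    (U : Subgroup G) (hU : IsKleinFour U) (hUA : U ≤ Subgroup.normalizer (A : Set G))
    (hΓ : Cfsg.PRankLE 2 1 ↥(⨆ V : {V : Subgroup G // V ≤ U ∧ V ≠ ⊥}, A ⊓ Subgroup.normalizer ((V : Subgroup G) : Set G)) ∧
      ¬ Cfsg.PRankLE 2 0 ↥(⨆ V : {V : Subgroup G // V ≤ U ∧ V ≠ ⊥}, A ⊓ Subgroup.normalizer ((V : Subgroup G) : Set G))) :
    Cfsg.PRankLE 2 1 A ∧ ¬ Cfsg.PRankLE 2 0 A := by
  classical
  obtain ⟨hΓ1, hΓ0⟩ := hΓ
  set H : Subgroup G := ⨆ V : {V : Subgroup G // V ≤ U ∧ V ≠ ⊥},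
    A ⊓ Subgroup.normalizer ((V : Subgroup G) : Set G) with hH
  have hHA : H ≤ A := iSup_le fun _ => inf_le_left
  have htwo : ∀ {K : Type _} [Group K] (E : Subgroup K), (∀ e ∈ E, e ^ 2 = 1) →
      ∀ a ∈ E, ∀ b ∈ E, a * b = b * a := fun E hE a ha b hb => by
    have h : ∀ e ∈ E, e⁻¹ = e := fun e he => inv_eq_of_mul_eq_one_right (by rw [← sq, hE e he])
    rw [← h _ (E.mul_mem ha hb), mul_inv_rev, h a ha, h b hb]
  have h1 : ∀ t ∈ U, t ≠ 1 → ∀ a ∈ A, ∀ b ∈ A, a * a = 1 → b * b = 1 → a ≠ 1 → b ≠ 1 →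
      a * b = b * a → t * a = a * t → t * b = b * t → a = b := by
    intro t ht ht1 a ha b hb ha2 hb2 ha1 hb1 hab hta htb
    by_contra hne
    have hV : Subgroup.zpowers t ≤ U ∧ Subgroup.zpowers t ≠ ⊥ :=
      ⟨Subgroup.zpowers_le.2 ht, fun h => ht1 (Subgroup.zpowers_eq_bot.1 h)⟩
    have hmem : ∀ c ∈ A, t * c = c * t → c ∈ H := fun c hc htc =>
      Subgroup.mem_iSup_of_mem ⟨Subgroup.zpowers t, hV⟩ ⟨hc,
        Subgroup.centralizer_le_normalizer _ (Subgroup.mem_centralizer_iff.2 fun w hw => by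
          obtain ⟨i, rfl⟩ := hw
          exact ((show Commute t c from htc).zpow_left i).eq)⟩
    obtain ⟨F, hF, hFm⟩ := Lib.Involutions.exists_klein_mem_iff
      (S := ↥H) (z := ⟨a, hmem a ha hta⟩) (v := ⟨b, hmem b hb htb⟩)
      (Subtype.ext ha2) (Subtype.ext hb2) (fun h => ha1 (congrArg Subtype.val h))
      (fun h => hb1 (congrArg Subtype.val h)) (fun h => hne (congrArg Subtype.val h).symm)
      (Subtype.ext hab)
    haveI := hF
    have hsq : ∀ e ∈ F, e ^ 2 = 1 := fun e he => by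
      rw [sq]; exact congrArg Subtype.val (IsKleinFour.mul_self (⟨e, he⟩ : F))
    have h4 := hΓ1 F ⟨⟨fun u v => Subtype.ext (htwo F hsq u u.2 v v.2)⟩⟩ hsq
    rw [IsKleinFour.card_four] at h4
    norm_num at h4
  have hperf : ∀ M : Subgroup ↥A, M.Normal → M.index ≠ 2 := by
    intro M hM hi
    have hc : commutator ↥A ≤ M := by
      haveI : Fact (Nat.Prime 2) := ⟨Nat.prime_two⟩
      haveI : IsCyclic (↥A ⧸ M) := isCyclic_of_prime_card (p := 2) hi
      apply Subgroup.Normal.quotient_commutative_iff_commutator_le.1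
      exact ⟨⟨fun a b => IsCyclic.commGroup.mul_comm a b⟩⟩
    have htop : commutator ↥A = ⊤ := by
      rw [commutator_def, ← hA, Lib.Components.layer_commutator_self]
    rw [htop, top_le_iff] at hc
    rw [hc, Subgroup.index_top] at hi
    omega
  constructor
  · intro E hEc hE2
    have hE2' : ∀ e : E, (e : A) * (e : A) = 1 := fun e => by rw [← sq]; exact hE2 e e.2
    have hone : ∀ a ∈ E, ∀ b ∈ E, a ≠ 1 → b ≠ 1 → a = b := fun a ha b hb ha1 hb1 =>
      Subtype.ext (Lib.RankOneFour.eq_of_commuting_involutions hU hUA hperf h1 a.2 b.2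
        (congrArg Subtype.val (hE2' ⟨a, ha⟩)) (congrArg Subtype.val (hE2' ⟨b, hb⟩))
        (fun h => ha1 (Subtype.ext h)) (fun h => hb1 (Subtype.ext h))
        (congrArg Subtype.val (htwo E hE2 a ha b hb)))
    rw [pow_one, ← SetLike.coe_sort_coe, Nat.card_coe_set_eq]
    by_cases h : ∃ a ∈ E, a ≠ 1
    · obtain ⟨a, ha, ha1⟩ := h
      refine (Set.ncard_le_ncard (t := {1, a}) (fun b hb => ?_) (Set.toFinite _)).trans
        ((Set.ncard_insert_le _ _).trans (by rw [Set.ncard_singleton]))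
      by_cases hb1 : b = 1
      · exact Or.inl hb1
      · exact Or.inr (hone b hb a ha hb1 ha1)
    · push Not at h
      refine (Set.ncard_le_ncard (t := {1}) (fun b hb => h b hb) (Set.toFinite _)).trans ?_
      simp
  · intro h0
    apply hΓ0
    intro E hEc hE2
    have hE' : ∀ a ∈ E.map (Subgroup.inclusion hHA), a ^ 2 = 1 := by
      rintro _ ⟨e, he, rfl⟩
      rw [← map_pow, hE2 e he, map_one]
    have := h0 (E.map (Subgroup.inclusion hHA))
      ⟨⟨fun u v => Subtype.ext (htwo _ hE' u u.2 v v.2)⟩⟩ hE'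
    rwa [← Nat.card_congr (E.equivMapOfInjective _ (Subgroup.inclusion_injective hHA)).toEquiv] at this

end Cfsg.Agent.S1915
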