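import Cfsg.Statements.S1921
import Mathlib
import Cfsg.Agent.Lib.Components.Basic
-- import your own Cfsg.Agent.* helpers here

set_option autoImplicit false
open Cfsg

namespace Cfsg.Agent.S1921

open Cfsg.Agent.Lib.Components

/-- Let a be an involution of a finite group H and L a component of H with a L a⁻¹ ≠ L; put M = ⟨L, aLa⁻¹⟩ and let J be the subgroup generated by the elements x · a x a⁻¹ with x ∈ L (the diagonal). Then every element of M outside J·Z(M) generates M together with J. -/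
theorem result {H : Type*} [Group H] [Finite H] (a : H) (ha : orderOf a = 2) (L : Subgroup H) (hL : Cfsg.IsComponent L)
    (hLa : L.map (MulAut.conj a).toMonoidHom ≠ L) (x : H) (hxM : x ∈ L ⊔ L.map (MulAut.conj a).toMonoidHom)
    (hxJ : x ∉ Subgroup.closure {y : H | ∃ l ∈ L, y = l * (a * l * a⁻¹)} ⊔
      ((L ⊔ L.map (MulAut.conj a).toMonoidHom) ⊓ Subgroup.centralizer ((L ⊔ L.map (MulAut.conj a).toMonoidHom : Subgroup H) : Set H))) :
    Subgroup.closure {y : H | ∃ l ∈ L, y = l * (a * l * a⁻¹)} ⊔ Subgroup.zpowers x = L ⊔ L.map (MulAut.conj a).toMonoidHom := by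
  set La := L.map (MulAut.conj a).toMonoidHom with hLad
  set J := Subgroup.closure {y : H | ∃ l ∈ L, y = l * (a * l * a⁻¹)} with hJ
  set K := J ⊔ Subgroup.zpowers x with hK
  have hcomm : ∀ l ∈ L, ∀ m ∈ La, Commute l m := fun l hl m hm => by
    have := Subgroup.commutator_mem_commutator hl hm
    rw [IsComponent.commutator_eq_bot_of_ne hL (IsComponent.map_conj hL a) (Ne.symm hLa), Subgroup.mem_bot] at this
    exact commutatorElement_eq_one_iff_commute.1 this
  have hdiag : ∀ l ∈ L, l * (a * l * a⁻¹) ∈ J := fun l hl => Subgroup.subset_closure ⟨l, hl, rfl⟩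
  have hJM : J ≤ L ⊔ La := (Subgroup.closure_le _).2 (by
    rintro _ ⟨l, hl, rfl⟩
    exact mul_mem (Subgroup.mem_sup_left hl) (Subgroup.mem_sup_right ⟨l, hl, rfl⟩))
  refine le_antisymm (sup_le hJM ((Subgroup.zpowers_le).2 hxM)) ?_
  -- write x as a product
  have hLN : La ≤ Subgroup.normalizer (L : Set H) := fun m hm => Subgroup.centralizer_le_normalizer _
    (Subgroup.mem_centralizer_iff.2 fun l hl => (hcomm l hl m hm).eq)
  obtain ⟨m, hm, l₁, hl₁, hxeq⟩ : ∃ m ∈ La, ∃ l₁ ∈ L, x = m * l₁ := by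
    have := hxM
    rw [sup_comm, ← SetLike.mem_coe, Subgroup.coe_mul_of_left_le_normalizer_right _ _ hLN] at this
    obtain ⟨m, hm, l, hl, h⟩ := this
    exact ⟨m, hm, l, hl, h.symm⟩
  obtain ⟨l₂, hl₂, hl₂m⟩ := id hm
  replace hl₂m : a * l₂ * a⁻¹ = m := hl₂m
  set c := l₂⁻¹ * l₁ with hc
  have hcL : c ∈ L := mul_mem (inv_mem hl₂) hl₁
  have hceq : c = (l₂ * (a * l₂ * a⁻¹))⁻¹ * x := by
    rw [hl₂m, hxeq, hc, (hcomm l₂ hl₂ m hm).eq]
    group
  have hcK : c ∈ K := by
    rw [hceq]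
    exact mul_mem (inv_mem (Subgroup.mem_sup_left (hdiag l₂ hl₂))) (Subgroup.mem_sup_right (Subgroup.mem_zpowers x))
  have hnorm : (K.subgroupOf L).Normal := by
    refine ⟨fun k hk l => ?_⟩
    rw [Subgroup.mem_subgroupOf] at hk ⊢
    push_cast
    have hd : (l : H) * (a * l * a⁻¹) ∈ K := Subgroup.mem_sup_left (hdiag _ l.2)
    have h1 := mul_mem (mul_mem hd hk) (inv_mem hd)
    have h2 : a * (l : H) * a⁻¹ ∈ La := ⟨_, l.2, rfl⟩
    have e : (l : H) * (a * l * a⁻¹) * k * ((l : H) * (a * l * a⁻¹))⁻¹ = l * k * (l : H)⁻¹ := by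
      have h3 := (hcomm k k.2 _ h2).eq
      rw [mul_inv_rev, mul_assoc (l : H) _ (k : H), ← h3]
      group
    rwa [e] at h1
  rcases IsQuasisimple.normal_eq_top_or_le_center hL.2 (K.subgroupOf L) with h | h
  · have hLK : L ≤ K := Subgroup.subgroupOf_eq_top.1 h
    refine sup_le hLK ?_
    rintro _ ⟨l, hl, rfl⟩
    have := mul_mem (inv_mem (hLK hl)) (Subgroup.mem_sup_left (hdiag l hl) : l * (a * l * a⁻¹) ∈ K)
    rwa [inv_mul_cancel_left] at this
  · exfalso
    apply hxJ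
    have hcz := Subgroup.mem_center_iff.1 (h (Subgroup.mem_subgroupOf.2 hcK : (⟨c, hcL⟩ : L) ∈ K.subgroupOf L))
    have hcM : c ∈ (L ⊔ La) ⊓ Subgroup.centralizer ((L ⊔ La : Subgroup H) : Set H) := by
      refine ⟨Subgroup.mem_sup_left hcL, ?_⟩
      have : L ⊔ La ≤ Subgroup.centralizer {c} := sup_le
        (fun l hl => Subgroup.mem_centralizer_singleton_iff.2 (congrArg Subtype.val (hcz ⟨l, hl⟩)))
        (fun n hn => Subgroup.mem_centralizer_singleton_iff.2 (hcomm c hcL n hn).eq.symm)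
      exact Subgroup.mem_centralizer_iff.2 fun y hy => Subgroup.mem_centralizer_singleton_iff.1 (this hy)
    have : x = l₂ * (a * l₂ * a⁻¹) * c := by rw [hceq]; group
    rw [this]
    exact mul_mem (Subgroup.mem_sup_left (hdiag l₂ hl₂)) (Subgroup.mem_sup_right hcM)

end Cfsg.Agent.S1921
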