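import Cfsg.Statements.S1922
import Mathlib
import Cfsg.Agent.Lib.Involutions.SEAction
-- import your own Cfsg.Agent.* helpers here

set_option autoImplicit false
open Cfsg

namespace Cfsg.Agent.S1922

open Cfsg.Agent.Lib.Involutions

theorem even_card_of_involutive {α : Type*} [DecidableEq α] (S : Finset α) (σ : α → α)
    (hσ : Function.Involutive σ) (hmaps : ∀ a ∈ S, σ a ∈ S) (hne : ∀ a ∈ S, σ a ≠ a) :
    Even S.card := by
  have h : ∑ _a ∈ S, (1 : ZMod 2) = 0 :=
    Finset.sum_involution (fun a _ => σ a) (fun a _ => (by decide : (1 : ZMod 2) + 1 = 0))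
      (fun a ha _ => hne a ha) hmaps (fun a _ => hσ a)
  rw [Finset.sum_const, nsmul_one] at h
  exact even_iff_two_dvd.2 ((ZMod.natCast_eq_zero_iff _ 2).1 h)

/-- Let z be an involution of a finite group G and H a proper subgroup such that z lies in gHg⁻¹ exactly when g ∈ H. Then the following are equivalent: (1) for every conjugate t ≠ z of z commuting with z, the product zt lies in gHg⁻¹ exactly when g ∈ H; (2) z lies in the centre of some Sylow 2-subgroup of G, and for every conjugate t ≠ z of z commuting with z, the centralizer of zt is contained in H. -/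
theorem result {G : Type*} [Group G] [Finite G] (z : G) (hz : orderOf z = 2) (H : Subgroup G) (hH : H ≠ ⊤)
    (h0 : ∀ g : G, z ∈ H.map (MulAut.conj g).toMonoidHom ↔ g ∈ H) :
    (∀ t : G, IsConj z t → t ≠ z → t * z = z * t → ∀ g : G, z * t ∈ H.map (MulAut.conj g).toMonoidHom ↔ g ∈ H) ↔
      ((∃ P : Sylow 2 G, z ∈ (Subgroup.center ↥(P : Subgroup G)).map (P : Subgroup G).subtype) ∧
        ∀ t : G, IsConj z t → t ≠ z → t * z = z * t → Subgroup.centralizer ({z * t} : Set G) ≤ H) := by
  classical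
  have hmem : ∀ g : G, g⁻¹ * z * g ∈ H ↔ g ∈ H := fun g => mem_conj_map_iff.symm.trans (h0 g)
  have hzH : z ∈ H := by simpa using (hmem 1).2 (one_mem H)
  have hzC : Subgroup.centralizer ({z} : Set G) ≤ H := fun c hc => (hmem c).1 (by
    rw [mul_assoc, ← Subgroup.mem_centralizer_singleton_iff.1 hc, inv_mul_cancel_left]; exact hzH)
  constructor
  swap
  · -- (2) implies (1)
    rintro ⟨⟨P, hzP⟩, hcent⟩ t ht htne htz g
    set w := z * t with hw
    have hto : orderOf t = 2 := by
      obtain ⟨c, rfl⟩ := isConj_iff.1 ht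
      rw [orderOf_conj_eq, hz]
    have hwH : w ∈ H := hzC (Subgroup.mem_centralizer_singleton_iff.2 (by rw [hw, mul_assoc, htz]))
    rw [mem_conj_map_iff]
    refine ⟨fun hg => ?_, fun hg => mul_mem (mul_mem (inv_mem hg) hwH) hg⟩
    obtain ⟨a, ha, hae⟩ := hzP
    have hPz : ∀ x ∈ (P : Subgroup G), x * z = z * x := fun x hx => by
      rw [← hae]
      exact congrArg Subtype.val (Subgroup.mem_center_iff.1 ha ⟨x, hx⟩)
    have hPH : (P : Subgroup G) ≤ H := fun x hx =>
      hzC (Subgroup.mem_centralizer_singleton_iff.2 (hPz x hx))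
    have hw2 : w ^ 2 = 1 := by
      rw [hw, (show Commute z t from htz.symm).mul_pow, sq, sq, invol_mul_self hz, invol_mul_self hto,
        one_mul]
    have hp : IsPGroup 2 (Subgroup.zpowers (g⁻¹ * w * g)) := by
      refine fun x => ⟨1, ?_⟩
      obtain ⟨i, hi⟩ := Subgroup.mem_zpowers_iff.1 x.2
      refine Subtype.ext ?_
      show (x : G) ^ (2 ^ 1) = 1
      have h2 : (g⁻¹ * w * g) ^ 2 = 1 := by
        have := conj_pow (i := 2) (a := g⁻¹) (b := w)
        rw [inv_inv, hw2, mul_one, inv_mul_cancel] at this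
        exact this
      rw [← hi, pow_one, ← zpow_natCast, ← zpow_mul, mul_comm, zpow_mul, zpow_natCast, h2, one_zpow]
    have : Fact (Nat.Prime 2) := ⟨Nat.prime_two⟩
    obtain ⟨h, hh, hle⟩ := exists_conj_le_of_sylow_le P hPH hp (Subgroup.zpowers_le.2 hg)
    have hwP := hPz _ (hle ⟨_, Subgroup.mem_zpowers _, rfl⟩)
    have hc : (g * h⁻¹) * z * (g * h⁻¹)⁻¹ ∈ H := by
      refine hcent t ht htne htz (Subgroup.mem_centralizer_singleton_iff.2 ?_)
      have e : h * (g⁻¹ * w * g) * h⁻¹ * z = z * (h * (g⁻¹ * w * g) * h⁻¹) := hwP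
      calc g * h⁻¹ * z * (g * h⁻¹)⁻¹ * w = g * h⁻¹ * (z * (h * (g⁻¹ * w * g) * h⁻¹)) * h * g⁻¹ := by group
        _ = g * h⁻¹ * (h * (g⁻¹ * w * g) * h⁻¹ * z) * h * g⁻¹ := by rw [e]
        _ = w * (g * h⁻¹ * z * (g * h⁻¹)⁻¹) := by group
    have h1 : (g * h⁻¹)⁻¹ ∈ H := (hmem _).1 (by rwa [inv_inv])
    have h2 := mul_mem (inv_mem h1) hh
    rwa [inv_inv, inv_mul_cancel_right] at h2
  intro h1
  have hcw : ∀ t : G, IsConj z t → t ≠ z → t * z = z * t →
      Subgroup.centralizer ({z * t} : Set G) ≤ H := fun t ht htne htz c hc => by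
    refine (h1 t ht htne htz c).1 (mem_conj_map_iff.2 ?_)
    rw [mul_assoc, ← Subgroup.mem_centralizer_singleton_iff.1 hc, inv_mul_cancel_left]
    simpa using mem_conj_map_iff.1 ((h1 t ht htne htz 1).2 (one_mem H))
  refine ⟨?_, hcw⟩
  -- the action on the cosets of `H`
  have := Fintype.ofFinite G
  have := Fintype.ofFinite (G ⧸ H)
  set D : Finset G := Finset.univ.filter (IsConj z) with hD
  have hDmem : ∀ {i : G}, i ∈ D ↔ IsConj z i := by simp [hD]
  have hDo : ∀ {i : G}, i ∈ D → orderOf i = 2 := fun hi => by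
    obtain ⟨c, rfl⟩ := isConj_iff.1 (hDmem.1 hi)
    rw [orderOf_conj_eq, hz]
  have hDconj : ∀ {i : G} (g : G), i ∈ D → g * i * g⁻¹ ∈ D := fun g hi =>
    hDmem.2 ((hDmem.1 hi).trans (isConj_iff.2 ⟨g, rfl⟩))
  have hzD : z ∈ D := hDmem.2 (IsConj.refl z)
  set o : G ⧸ H := QuotientGroup.mk 1 with ho
  have hfixz : ∀ a : G ⧸ H, z • a = a ↔ a = o := by
    intro a
    induction a using QuotientGroup.induction_on with
    | H g =>
      rw [smul_mk_eq_iff, hmem, ho, eq_comm (a := (QuotientGroup.mk g : G ⧸ H)), QuotientGroup.eq,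
        inv_one, one_mul]
  -- every conjugate fixes exactly one point
  have huniq : ∀ {i : G}, i ∈ D → ∃! a : G ⧸ H, i • a = a := fun {i} hi => by
    obtain ⟨c, rfl⟩ := isConj_iff.1 (hDmem.1 hi)
    refine ⟨c • o, show (c * z * c⁻¹) • (c • o) = c • o by
      rw [← mul_smul, inv_mul_cancel_right, mul_smul, (hfixz o).2 rfl], fun a ha => ?_⟩
    have : z • (c⁻¹ • a) = c⁻¹ • a := by
      conv_rhs => rw [← ha]
      rw [← mul_smul, ← mul_smul]; congr 1; group
    rw [← (hfixz _).1 this, smul_inv_smul]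
  -- so does the product of two commuting ones
  have hfixw : ∀ {i j : G}, i ∈ D → j ∈ D → j ≠ i → Commute i j → ∀ a : G ⧸ H,
      (i * j) • a = a → i • a = a := by
    intro i j hi hj hne hc a ha
    obtain ⟨c, hci⟩ := isConj_iff.1 (hDmem.1 hi)
    set t := c⁻¹ * j * c
    have ht : IsConj z t := hDmem.1 (by simpa [t] using hDconj c⁻¹ hj)
    have htne : t ≠ z := fun e => hne (by rw [← hci, ← e]; simp only [t]; group)
    have htz : t * z = z * t := by
      have hci' : z = c⁻¹ * i * c := by rw [← hci]; group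
      rw [hci']; simp only [t]
      calc c⁻¹ * j * c * (c⁻¹ * i * c) = c⁻¹ * (j * i) * c := by group
        _ = c⁻¹ * (i * j) * c := by rw [hc.eq]
        _ = _ := by group
    have hfix : (z * t) • (c⁻¹ • a) = c⁻¹ • a := by
      conv_rhs => rw [← ha]
      rw [← mul_smul, ← mul_smul, ← hci]; simp only [t]; congr 1; group
    have hb : c⁻¹ • a = o := by
      generalize c⁻¹ • a = q at hfix
      induction q using QuotientGroup.induction_on with
      | H g =>
        rw [smul_mk_eq_iff] at hfix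
        have := (h1 t ht htne htz g).1 (mem_conj_map_iff.2 hfix)
        rw [ho, eq_comm, QuotientGroup.eq, inv_one, one_mul]
        exact this
    rw [inv_smul_eq_iff.1 hb, ← hci, ← mul_smul, inv_mul_cancel_right, mul_smul, (hfixz o).2 rfl]
  -- involutions in `D` with different fixed points have odd product
  have hodd : ∀ {s x : G} {a : G ⧸ H}, s ∈ D → x ∈ D → s • a = a → x • a ≠ a → Odd (orderOf (s * x)) := by
    intro s x a hs hx hsa hxa
    rw [← Nat.not_even_iff_odd]
    intro he
    have hso := hDo hs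
    have hxo := hDo hx
    set b := s * x with hb
    obtain ⟨hw, hws, hwx⟩ := central_invol hso hxo he
    set w := b ^ (orderOf b / 2) with hwdef
    have hbinv : s * b * s⁻¹ = b⁻¹ := conj_mul_left_invol hso hxo
    -- `w * s` is a conjugate of `s` or of `x`
    have hws' : w * s ∈ D := by
      rcases Nat.even_or_odd (orderOf b / 2) with ⟨j, hj⟩ | ⟨j, hj⟩
      · have e : b ^ j * s * (b ^ j)⁻¹ = w * s := by
          rw [hwdef, hj, pow_add, mul_assoc (b ^ j) (b ^ j) s, mul_assoc (b ^ j) s]
          congr 1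
          rw [← inverts_pow hbinv j]
          calc s * (s * b ^ j * s⁻¹) = (s * s) * b ^ j * s⁻¹ := by group
            _ = b ^ j * s := by rw [invol_mul_self hso, one_mul, invol_inv hso]
        exact e ▸ hDconj _ hs
      · -- `w s = b^(2j+1) s` is conjugate to `b s = x^s`
        have hbs : b * s = s * x * s⁻¹ := by rw [hb, invol_inv hso]
        have e : b ^ j * (s * x * s⁻¹) * (b ^ j)⁻¹ = w * s := by
          rw [← hbs, hwdef, hj, two_mul, pow_succ, pow_add, mul_assoc (b ^ j) (b * s)]
          have e1 : s * (b ^ j)⁻¹ = b ^ j * s := by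
            rw [← inverts_pow hbinv j]
            calc s * (s * b ^ j * s⁻¹) = (s * s) * b ^ j * s⁻¹ := by group
              _ = b ^ j * s := by rw [invol_mul_self hso, one_mul, invol_inv hso]
          rw [mul_assoc b s, e1]
          have e2 : b * b ^ j = b ^ j * b := ((Commute.refl b).pow_right j).eq
          simp only [← mul_assoc]
          rw [mul_assoc (b ^ j) b (b ^ j), e2, ← mul_assoc]
        exact e ▸ hDconj _ (hDconj s hx)
    have hcs : Commute s (w * s) := (hws.symm).mul_right (Commute.refl s)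
    have hne : w * s ≠ s := fun e => invol_ne_one hw (mul_eq_right.1 e)
    have hprod : s * (w * s) = w := by
      rw [← mul_assoc, ← hws.eq, mul_assoc, invol_mul_self hso, mul_one]
    have hwfix : ∀ c : G ⧸ H, w • c = c → s • c = c := fun c hc =>
      hfixw hs hws' hne hcs c (by rw [hprod]; exact hc)
    have hwa : w • a = a := by
      have : s • (w • a) = w • a := by rw [← mul_smul, ← hws.eq, mul_smul, hsa]
      exact (huniq hs).unique this hsa
    have hxa' : w • (x • a) = x • a := by rw [← mul_smul, hwx.eq, mul_smul, hwa]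
    exact hxa ((huniq hs).unique (hwfix _ hxa') hsa)
  let I : G ⧸ H → G ⧸ H → Finset G := fun a b => D.filter fun i => i • a = b
  have hImem : ∀ {a b : G ⧸ H} {i : G}, i ∈ I a b ↔ i ∈ D ∧ i • a = b := by simp [I]
  have hdbl : ∀ {i : G}, i ∈ D → ∀ c : G ⧸ H, i • i • c = c := fun hi c => by
    rw [← mul_smul, invol_mul_self (hDo hi), one_smul]
  obtain ⟨g₀, hg₀⟩ : ∃ g : G, g ∉ H := by
    by_contra! h
    exact hH ((Subgroup.eq_top_iff' H).2 h)
  set a : G ⧸ H := QuotientGroup.mk g₀ with ha
  have hao : a ≠ o := by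
    rw [ha, ho, Ne, eq_comm, QuotientGroup.eq, inv_one, one_mul]; exact hg₀
  set b := z • a with hb
  have hab : b ≠ a := fun e => hao ((hfixz a).1 e)
  have hba : z • b = a := hdbl hzD a
  -- `I a b` has odd cardinality
  have hconjz : Function.Involutive fun i => z * i * z⁻¹ := fun i => by
    show z * (z * i * z⁻¹) * z⁻¹ = i
    rw [invol_inv hz]
    calc z * (z * i * z) * z = (z * z) * i * (z * z) := by group
      _ = i := by rw [invol_mul_self hz, one_mul, mul_one]
  have hfixconj : ∀ i : G, z * i * z⁻¹ = i → Commute z i := fun i h => mul_inv_eq_iff_eq_mul.1 h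
  have hoddI : Odd (I a b).card := by
    have hzI : z ∈ I a b := hImem.2 ⟨hzD, rfl⟩
    rw [← Finset.card_erase_add_one hzI]
    refine Even.add_one (even_card_of_involutive _ _ hconjz (fun i hi => ?_) (fun i hi e => ?_))
    · obtain ⟨hne, hi⟩ := Finset.mem_erase.1 hi
      obtain ⟨hiD, hiab⟩ := hImem.1 hi
      refine Finset.mem_erase.2 ⟨fun e => hne ?_, hImem.2 ⟨hDconj z hiD, ?_⟩⟩
      · have := congrArg (fun i => z * i * z⁻¹) e
        simpa [hconjz i] using this
      · rw [invol_inv hz, mul_smul, mul_smul, ← hb]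
        have : i • b = a := by rw [← hiab]; exact hdbl hiD a
        rw [this]
    · obtain ⟨hne, hi⟩ := Finset.mem_erase.1 hi
      obtain ⟨hiD, hiab⟩ := hImem.1 hi
      have hza : z • a = a := hfixw hzD hiD hne (hfixconj i e) a (by rw [mul_smul, hiab, hba])
      exact hab (by rw [hb, hza])
  -- `|I a a| = |I a b|`
  obtain ⟨c, hc⟩ := MulAction.exists_smul_eq G o b
  obtain ⟨x, hxD, hxb⟩ : ∃ x ∈ D, x • b = b := ⟨c * z * c⁻¹, hDconj c hzD, by
    rw [← hc, ← mul_smul, inv_mul_cancel_right, mul_smul, (hfixz o).2 rfl]⟩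
  have hxa : x • a ≠ a := fun e => hab ((huniq hxD).unique hxb e)
  obtain ⟨s₀, hs₀⟩ : ∃ s, s ∈ I a a := by
    obtain ⟨d, hd⟩ := MulAction.exists_smul_eq G o a
    exact ⟨d * z * d⁻¹, hImem.2 ⟨hDconj d hzD, by
      rw [← hd, ← mul_smul, inv_mul_cancel_right, mul_smul, (hfixz o).2 rfl]⟩⟩
  obtain ⟨hs₀D, hs₀a⟩ := hImem.1 hs₀
  have hle1 : (I a b).card ≤ (I a a).card := by
    have hzab : z • a = b := rfl
    refine Finset.card_le_card_of_injOn (fun i => z * i * s₀ * (z * i)⁻¹) (fun i hi => ?_) ?_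
    · obtain ⟨hiD, hiab⟩ := hImem.1 hi
      have hfix : (z * i) • a = a := by rw [mul_smul, hiab, hba]
      refine hImem.2 ⟨hDconj _ hs₀D, ?_⟩
      rw [mul_smul, show (z * i)⁻¹ • a = a from inv_smul_eq_iff.2 hfix.symm, mul_smul, hs₀a, hfix]
    · intro i hi j hj hij
      obtain ⟨hiD, hia⟩ := hImem.1 (Finset.mem_coe.1 hi)
      obtain ⟨hjD, hja⟩ := hImem.1 (Finset.mem_coe.1 hj)
      by_contra hne
      have hio := hDo hiD
      have hjo := hDo hjD
      set e := i * j with he
      have hce : Commute s₀ e := by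
        simp only at hij
        have h2 : i * (i * s₀ * i⁻¹) * i⁻¹ = i * (j * s₀ * j⁻¹) * i⁻¹ := by
          have h3 : i * s₀ * i⁻¹ = j * s₀ * j⁻¹ := by
            calc i * s₀ * i⁻¹ = z⁻¹ * (z * i * s₀ * (z * i)⁻¹) * z := by group
              _ = z⁻¹ * (z * j * s₀ * (z * j)⁻¹) * z := by rw [hij]
              _ = _ := by group
          rw [h3]
        have h4 : i * (i * s₀ * i⁻¹) * i⁻¹ = s₀ := by
          rw [invol_inv hio]
          calc i * (i * s₀ * i) * i = (i * i) * s₀ * (i * i) := by group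
            _ = s₀ := by rw [invol_mul_self hio, one_mul, mul_one]
        rw [h4] at h2
        refine (mul_inv_eq_iff_eq_mul.1 ?_).symm
        calc i * j * s₀ * (i * j)⁻¹ = i * (j * s₀ * j⁻¹) * i⁻¹ := by group
          _ = s₀ := h2.symm
      have hia' : i • a ≠ a := fun h => hab (hia ▸ h)
      obtain ⟨d, hd, hdi⟩ := exists_conj_of_odd (hDo hs₀D) hio (hodd hs₀D hiD hs₀a hia')
      have hinv : i * e * i⁻¹ = e⁻¹ := conj_mul_left_invol hio hjo
      have hd' : d ∈ extCentralizer e := by
        refine (Subgroup.closure_le (extCentralizer e)).2 ?_ hd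
        rintro w (rfl | rfl)
        · exact Or.inl (mul_inv_eq_iff_eq_mul.2 hce.eq)
        · exact Or.inr hinv
      have hie : i * e * i⁻¹ = e := by
        have h1 : s₀ * e * s₀⁻¹ = e := mul_inv_eq_iff_eq_mul.2 hce.eq
        rw [← hdi]
        rcases mem_extCentralizer.1 (inv_mem hd') with h | h
        · rw [inv_inv] at h
          calc d * s₀ * d⁻¹ * e * (d * s₀ * d⁻¹)⁻¹ = d * (s₀ * (d⁻¹ * e * d) * s₀⁻¹) * d⁻¹ := by group
            _ = d * (d⁻¹ * e * d) * d⁻¹ := by rw [h, h1]
            _ = e := by group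
        · rw [inv_inv] at h
          calc d * s₀ * d⁻¹ * e * (d * s₀ * d⁻¹)⁻¹ = d * (s₀ * (d⁻¹ * e * d) * s₀⁻¹) * d⁻¹ := by group
            _ = d * (d⁻¹ * e * d) * d⁻¹ := by
                rw [h, show s₀ * e⁻¹ * s₀⁻¹ = (s₀ * e * s₀⁻¹)⁻¹ by group, h1]
            _ = e := by group
      have hcij : Commute i j := by
        have h5 : Commute i e := mul_inv_eq_iff_eq_mul.1 hie
        have := (Commute.refl i).inv_right.mul_right h5
        rwa [he, inv_mul_cancel_left] at this
      refine hia' (hfixw hiD hjD (Ne.symm hne) hcij a ?_)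
      rw [mul_smul, hja, ← hia, hdbl hiD]
  have hle2 : (I a a).card ≤ (I a b).card := by
    refine Finset.card_le_card_of_injOn
      (fun s => (s * x) ^ ((orderOf (s * x) + 1) / 2) * x) (fun s hs => ?_) ?_
    all_goals
      have hkey : ∀ s ∈ I a a, let u := (s * x) ^ ((orderOf (s * x) + 1) / 2) * x
          u ∈ D ∧ u * x * u⁻¹ = s ∧ u • a = b := by
        intro s hs
        obtain ⟨hsD, hsa⟩ := hImem.1 hs
        obtain ⟨m, hm⟩ := hodd hsD hxD hsa hxa
        intro u
        have hso := hDo hsD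
        have hxo := hDo hxD
        set v := s * x with hv
        have hk : (orderOf v + 1) / 2 = m + 1 := by omega
        have hvinv : x * v * x⁻¹ = v⁻¹ := conj_mul_right_invol hso hxo
        have hsqk : v ^ (2 * (m + 1)) = v := by
          rw [show 2 * (m + 1) = orderOf v + 1 by omega, pow_succ, pow_orderOf_eq_one, one_mul]
        have hx' : ∀ j : ℕ, x * (v ^ j)⁻¹ = v ^ j * x := fun j => by
          rw [← inverts_pow hvinv j, invol_inv hxo, ← mul_assoc, ← mul_assoc, invol_mul_self hxo,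
            one_mul]
        have hu : u = v ^ (m + 1) * x := by
          show v ^ ((orderOf v + 1) / 2) * x = _
          rw [hk]
        have h1 : u * x * u⁻¹ = s := by
          rw [hu]
          calc v ^ (m + 1) * x * x * (v ^ (m + 1) * x)⁻¹
              = v ^ (m + 1) * (x * x) * x⁻¹ * (v ^ (m + 1))⁻¹ := by group
            _ = v ^ (m + 1) * (x * (v ^ (m + 1))⁻¹) := by
                rw [invol_mul_self hxo, mul_one, invol_inv hxo, mul_assoc]
            _ = v ^ (2 * (m + 1)) * x := by rw [hx', ← mul_assoc, ← pow_add, ← two_mul]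
            _ = s := by rw [hsqk, hv, mul_assoc, invol_mul_self hxo, mul_one]
        have h2 : u ∈ D := by
          have e : v ^ ((m + 1) * (m + 1)) * x * (v ^ ((m + 1) * (m + 1)))⁻¹ = u := by
            rw [mul_assoc, hx', ← mul_assoc, ← pow_add, hu,
              show (m + 1) * (m + 1) + (m + 1) * (m + 1) = 2 * (m + 1) * (m + 1) by ring, pow_mul, hsqk]
          exact e ▸ hDconj _ hxD
        refine ⟨h2, h1, ?_⟩
        have hfix : x • (u • a) = u • a := by
          have e : x * u = u * s := by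
            have hu2 := invol_mul_self (hDo h2)
            rw [← h1, invol_inv (hDo h2)]
            calc x * u = (u * u) * x * u := by rw [hu2, one_mul]
              _ = u * (u * x * u) := by group
          rw [← mul_smul, e, mul_smul, hsa]
        exact (huniq hxD).unique hfix hxb
    · obtain ⟨h1, -, h3⟩ := hkey s hs
      exact hImem.2 ⟨h1, h3⟩
    · intro s hs t ht hst
      obtain ⟨-, h1, -⟩ := hkey s hs
      obtain ⟨-, h2, -⟩ := hkey t ht
      simp only at hst
      rw [← h1, ← h2, hst]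
  have heq : (I a a).card = (I a b).card := le_antisymm hle2 hle1
  -- move to the base point
  have hbase : (I o o).card = (I a a).card := by
    obtain ⟨d, hd⟩ := MulAction.exists_smul_eq G o a
    refine Finset.card_bij (fun i _ => d * i * d⁻¹) (fun i hi => ?_) (fun i _ j _ h => by
      exact mul_left_cancel (mul_right_cancel h)) (fun j hj => ?_)
    · obtain ⟨hiD, hio⟩ := hImem.1 hi
      exact hImem.2 ⟨hDconj d hiD, by rw [← hd, ← mul_smul, inv_mul_cancel_right, mul_smul, hio]⟩
    · obtain ⟨hjD, hja⟩ := hImem.1 hj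
      refine ⟨d⁻¹ * j * d, hImem.2 ⟨by simpa using hDconj d⁻¹ hjD, ?_⟩, by group⟩
      rw [mul_smul, mul_smul, hd, hja, ← hd, inv_smul_smul]
  -- the class has odd size
  have hDodd : Odd D.card := by
    have hsub : I o o ⊆ D := Finset.filter_subset _ _
    rw [← Finset.card_sdiff_add_card_eq_card hsub]
    refine Even.add_odd (even_card_of_involutive _ _ hconjz (fun i hi => ?_) (fun i hi e => ?_))
      (by rw [hbase, heq]; exact hoddI)
    · obtain ⟨hiD, hio⟩ := Finset.mem_sdiff.1 hi
      refine Finset.mem_sdiff.2 ⟨hDconj z hiD, fun h => hio (hImem.2 ⟨hiD, ?_⟩)⟩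
      have h2 := (hImem.1 h).2
      rw [invol_inv hz, mul_smul, mul_smul, (hfixz o).2 rfl] at h2
      have h3 := congrArg (fun c => z • c) h2
      simp only [hdbl hzD, (hfixz o).2 rfl] at h3
      exact h3
    · obtain ⟨hiD, hio⟩ := Finset.mem_sdiff.1 hi
      refine hio (hImem.2 ⟨hiD, smul_one_eq_iff.2 (hzC (Subgroup.mem_centralizer_singleton_iff.2 ?_))⟩)
      exact (hfixconj i e).eq.symm
  -- a Sylow subgroup of the centralizer is one of `G`
  have : Fact (Nat.Prime 2) := ⟨Nat.prime_two⟩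
  set C := Subgroup.centralizer ({z} : Set G) with hC
  have hmap : D = Finset.univ.image (fun g : G => g * z * g⁻¹) := by
    ext i; simp [hD, isConj_iff]
  have hidx : C.index = D.card := by
    have e : G ⧸ C ≃ {i : G // i ∈ D} := Equiv.ofBijective
      (Quotient.lift (fun g => ⟨g * z * g⁻¹, hDconj g hzD⟩) fun g g' hgg' => by
        refine Subtype.ext ?_
        have h := Subgroup.mem_centralizer_singleton_iff.1 (QuotientGroup.leftRel_apply.1 hgg')
        show g * z * g⁻¹ = g' * z * g'⁻¹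
        calc g * z * g⁻¹ = g * (z * (g⁻¹ * g')) * g'⁻¹ := by group
          _ = g * ((g⁻¹ * g') * z) * g'⁻¹ := by rw [h]
          _ = _ := by group) ⟨?_, ?_⟩
    · rw [Subgroup.index_eq_card, Nat.card_congr e, Nat.card_eq_fintype_card, Fintype.card_coe]
    · intro q q' h
      induction q using Quotient.inductionOn with | _ g =>
      induction q' using Quotient.inductionOn with | _ g' =>
      have h' : g * z * g⁻¹ = g' * z * g'⁻¹ := congrArg Subtype.val h
      refine Quotient.sound (QuotientGroup.leftRel_apply.2 (Subgroup.mem_centralizer_singleton_iff.2 ?_))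
      calc g⁻¹ * g' * z = g⁻¹ * (g' * z * g'⁻¹) * g' := by group
        _ = g⁻¹ * (g * z * g⁻¹) * g' := by rw [h']
        _ = z * (g⁻¹ * g') := by group
    · rintro ⟨i, hi⟩
      obtain ⟨g, rfl⟩ := isConj_iff.1 (hDmem.1 hi)
      exact ⟨Quotient.mk _ g, rfl⟩
  obtain ⟨P₀⟩ : Nonempty (Sylow 2 C) := inferInstance
  set P := (P₀ : Subgroup C).map C.subtype with hP
  have hPidx : ¬ 2 ∣ P.index := by
    rw [hP, Subgroup.index_map_subtype, hidx, Nat.prime_two.dvd_mul, not_or]
    exact ⟨P₀.not_dvd_index, fun h => Nat.not_even_iff_odd.2 hDodd (even_iff_two_dvd.2 h)⟩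
  let P' : Sylow 2 G := (P₀.2.map C.subtype).toSylow hPidx
  have hzC' : z ∈ C := Subgroup.mem_centralizer_singleton_iff.2 rfl
  have hzP : z ∈ P := by
    obtain ⟨R, hR⟩ := (IsPGroup.of_card (n := 1) (by
      rw [Nat.card_zpowers, Subgroup.orderOf_mk, hz, pow_one]) :
      IsPGroup 2 (Subgroup.zpowers (⟨z, hzC'⟩ : C))).exists_le_sylow
    obtain ⟨k, hk⟩ := MulAction.exists_smul_eq C R P₀
    have hkz : k * ⟨z, hzC'⟩ * k⁻¹ ∈ (P₀ : Subgroup C) := by
      rw [← hk, sylow_map_conj]
      exact ⟨_, hR (Subgroup.mem_zpowers _), rfl⟩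
    refine ⟨_, hkz, ?_⟩
    show (k : G) * z * (k : G)⁻¹ = z
    rw [Subgroup.mem_centralizer_singleton_iff.1 k.2, mul_inv_cancel_right]
  refine ⟨P', ⟨z, hzP⟩, Subgroup.mem_center_iff.2 ?_, rfl⟩
  rintro ⟨w, hw⟩
  refine Subtype.ext ?_
  show w * z = z * w
  exact Subgroup.mem_centralizer_singleton_iff.1 (Subgroup.map_subtype_le _ hw : w ∈ C)

end Cfsg.Agent.S1922
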