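import Cfsg.Statements.S1924
import Mathlib
import Cfsg.Agent.Lib.Transfer.Basic
import Cfsg.Agent.Lib.FusionControl.Centric
import Cfsg.Agent.Lib.Coprime.Basic
-- import your own Cfsg.Agent.* helpers here

set_option autoImplicit false
open Cfsg

namespace Cfsg.Agent.S1924

open Cfsg.Agent.Lib

/-- a 2-element acting semiregularly with an odd number of cycles gives a subgroup of index two -/
lemma exists_normal_index_two {R : Type*} [Group R] [Finite R] (M : Subgroup R) (x : R) (m : ℕ)
    (hx : orderOf x = 2 ^ (m + 1)) (hz : ∀ g : R, g⁻¹ * x ^ 2 ^ m * g ∉ M)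
    (hM : ∃ k, Odd k ∧ M.index = 2 ^ (m + 1) * k) : ∃ N : Subgroup R, N.Normal ∧ N.index = 2 := by
  classical
  haveI : Fintype (R ⧸ M) := Fintype.ofFinite _
  set f : R →* ℤˣ := Equiv.Perm.sign.comp (MulAction.toPermHom R (R ⧸ M)) with hf
  set σ := MulAction.toPermHom R (R ⧸ M) x with hσ
  have hfix : ∀ q, (σ ^ 2 ^ m) q ≠ q := by
    intro q
    induction q using QuotientGroup.induction_on with
    | H g =>
      intro h
      rw [hσ, ← map_pow] at h
      have h' : ((x ^ 2 ^ m * g : R) : R ⧸ M) = (g : R ⧸ M) := h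
      rw [eq_comm, QuotientGroup.eq, ← mul_assoc] at h'
      exact hz g h'
  have hσn : σ ^ 2 ^ (m + 1) = 1 := by rw [hσ, ← map_pow, ← hx, pow_orderOf_eq_one, map_one]
  have hdvd : orderOf σ ∣ 2 ^ (m + 1) := orderOf_dvd_of_pow_eq_one hσn
  have hcyc : ∀ k ∈ σ.cycleType, k = 2 ^ (m + 1) := by
    intro k hk
    obtain ⟨j, hj, rfl⟩ := (Nat.dvd_prime_pow Nat.prime_two).1
      ((Equiv.Perm.dvd_of_mem_cycleType hk).trans hdvd)
    rw [Equiv.Perm.cycleType_def] at hk
    obtain ⟨c, hc, hck⟩ := Multiset.mem_map.1 hk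
    replace hck : c.support.card = 2 ^ j := hck
    have hc' : c ∈ σ.cycleFactorsFinset := hc
    rcases lt_or_eq_of_le hj with hlt | heq
    · exfalso
      have hcc := (Equiv.Perm.mem_cycleFactorsFinset_iff.1 hc').1
      obtain ⟨a, ha⟩ := hcc.nonempty_support
      have hco : c = σ.cycleOf a := Equiv.Perm.cycle_is_cycleOf ha hc'
      have h1 : c ^ 2 ^ m = 1 := by
        rw [← orderOf_dvd_iff_pow_eq_one, hcc.orderOf, hck]
        exact pow_dvd_pow 2 (by omega)
      refine hfix a ?_
      rw [← Equiv.Perm.cycleOf_pow_apply_self, ← hco, h1]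
      rfl
    · rw [heq]
  have hrep : σ.cycleType = Multiset.replicate (Multiset.card σ.cycleType) (2 ^ (m + 1)) :=
    Multiset.eq_replicate.2 ⟨rfl, hcyc⟩
  obtain ⟨k, hk, hMk⟩ := hM
  have hsign : f x = -1 := by
    show Equiv.Perm.sign σ = -1
    have hfp : Fintype.card (Function.fixedPoints σ) = 0 := by
      rw [Fintype.card_eq_zero_iff]
      refine ⟨fun q => hfix q.1 ?_⟩
      have h2 : σ q.1 = q.1 := q.2
      exact Equiv.Perm.pow_apply_eq_self_of_apply_eq_self h2 _
    rw [Equiv.Perm.sign_of_cycleType_eq_replicate (by positivity) hrep, if_neg, hfp, Nat.sub_zero,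
      ← Nat.card_eq_fintype_card, ← Subgroup.index_eq_card, hMk, Nat.mul_div_cancel_left _ (by positivity),
      hk.neg_one_pow]
    rw [Nat.not_odd_iff_even]
    exact (Nat.even_pow.2 ⟨even_two, by omega⟩)
  refine ⟨f.ker, inferInstance, ?_⟩
  have hsurj : Function.Surjective f := by
    intro u
    rcases Int.units_eq_one_or u with rfl | rfl
    · exact ⟨1, map_one f⟩
    · exact ⟨x, hsign⟩
  rw [Subgroup.index_ker, MonoidHom.range_eq_top.2 hsurj, Subgroup.card_top, Nat.card_eq_fintype_card,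
    Fintype.card_units_int]

lemma dihedral_sq {n : ℕ} (hn : 2 ≤ n) (C : Subgroup (DihedralGroup n)) (hC : IsCyclic ↥C)
    (hCi : Nat.card C = n) {y : DihedralGroup n} (hy : y ∉ C) : y * y = 1 := by
  haveI : NeZero n := ⟨by omega⟩
  obtain ⟨g, hg⟩ := hC.exists_generator
  have hgo : orderOf (g : DihedralGroup n) = n := by
    rw [Subgroup.orderOf_coe, orderOf_eq_card_of_forall_mem_zpowers hg, hCi]
  cases hg' : (g : DihedralGroup n) with
  | sr j =>
    rw [hg', DihedralGroup.orderOf_sr] at hgo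
    subst hgo
    exact (by decide : ∀ w : DihedralGroup 2, w * w = 1) y
  | r j =>
    cases y with
    | sr i => exact DihedralGroup.sr_mul_self i
    | r i =>
      exfalso
      apply hy
      have h1 : Subgroup.zpowers (DihedralGroup.r j) = Subgroup.zpowers (DihedralGroup.r (1 : ZMod n)) := by
        refine Subgroup.eq_of_le_of_card_ge ((Subgroup.zpowers_le).2 ⟨(j.val : ℤ), by simp⟩) ?_
        rw [Nat.card_zpowers, Nat.card_zpowers, DihedralGroup.orderOf_r_one, ← hg', hgo]
      have h2 : DihedralGroup.r i ∈ Subgroup.zpowers (DihedralGroup.r j) := by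
        rw [h1]; exact ⟨(i.val : ℤ), by simp⟩
      exact (Subgroup.zpowers_le.2 (hg' ▸ g.2)) h2

set_option maxHeartbeats 1000000 in
/-- A consequence of Thompson's transfer lemma. Let G be a finite group, L a subgroup with O²(L) = L, T a Sylow 2-subgroup of L and S a Sylow 2-subgroup of G containing T. Suppose D ≤ S is a dihedral subgroup of order at least 4 (the four-group counts) with D ∩ T = 1 and S = TD as a set of products (so |S| = |T|·|D|), and C ≤ D is cyclic of index 2 in D. If no involution of D outside C is G-conjugate to an involution of the subgroup generated by T and C, and the involution of C is not G-conjugate to any involution of T, then G has a normal subgroup K, containing every Sylow 2-subgroup of L as a Sylow 2-subgroup, with G = KD. -/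
theorem result {G : Type*} [Group G] [Finite G] (L T S D C : Subgroup G) (hL : Cfsg.pResidual 2 ↥L = ⊤)
    (hTL : T ≤ L) (hT2 : IsPGroup 2 T) (hTsyl : ¬ 2 ∣ T.relIndex L)
    (hS2 : IsPGroup 2 S) (hSsyl : ¬ 2 ∣ S.index) (hTS : T ≤ S)
    (hDS : D ≤ S) (hDih : ∃ n : ℕ, 2 ≤ n ∧ Nonempty (↥D ≃* DihedralGroup n)) (hDT : D ⊓ T = ⊥) (hTD : T ⊔ D = S) (hTDc : Nat.card T * Nat.card D = Nat.card S)
    (hCD : C ≤ D) (hC : IsCyclic ↥C) (hCi : C.relIndex D = 2)
    (h1 : ∀ x ∈ D, x ∉ C → orderOf x = 2 → ∀ g : G, g * x * g⁻¹ ∈ T ⊔ C → False)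
    (h2 : ∀ c ∈ C, orderOf c = 2 → ∀ g : G, g * c * g⁻¹ ∈ T → False) :
    ∃ K : Subgroup G, K.Normal ∧ K ⊔ D = ⊤ ∧
      ∀ T' : Subgroup G, T' ≤ L → IsPGroup 2 T' → ¬ 2 ∣ T'.relIndex L → T' ≤ K ∧ ¬ 2 ∣ T'.relIndex K := by
  classical
  set R := Cfsg.pResidual 2 G with hR
  haveI : R.Normal := by
    exact Transfer.pResidual_normal
  have hLR : L ≤ R := by
    have h := Transfer.pResidual_map_subtype_le (p := 2) L
    rwa [hL, ← MonoidHom.range_eq_map, Subgroup.range_subtype] at h
  have hno : ∀ N : Subgroup ↥R, N.Normal → N.index ≠ 2 := by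
    intro N hN hi
    have := Transfer.pResidual_le_of_index (p := 2) (N := N) (k := 1) (by rw [hi, pow_one])
    rw [show Cfsg.pResidual 2 ↥R = ⊤ from Transfer.pResidual_pResidual_eq_top, top_le_iff] at this
    rw [this, Subgroup.index_top] at hi
    exact absurd hi (by norm_num)
  set D₀ := R ⊓ D with hD₀
  set P := S ⊓ R with hP
  have hTR : T ≤ R := hTL.trans hLR
  -- unique factorisation in S
  have hbij : Function.Bijective (fun q : ↥T × ↥D =>
      (⟨q.1 * q.2, hTD ▸ mul_mem (Subgroup.mem_sup_left q.1.2) (Subgroup.mem_sup_right q.2.2)⟩ : ↥S)) := by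
    refine (Nat.bijective_iff_injective_and_card _).2 ⟨?_, by rw [Nat.card_prod, hTDc]⟩
    intro q q' h
    have h' : (q.1 : G) * q.2 = q'.1 * q'.2 := congrArg Subtype.val h
    have h1 : (q'.1 : G)⁻¹ * q.1 = q'.2 * (q.2 : G)⁻¹ := by
      rw [eq_mul_inv_iff_mul_eq, mul_assoc, h', inv_mul_cancel_left]
    have h2 : (q'.1 : G)⁻¹ * q.1 ∈ D ⊓ T :=
      ⟨by rw [h1]; exact mul_mem q'.2.2 (D.inv_mem q.2.2), mul_mem (T.inv_mem q'.1.2) q.1.2⟩
    rw [hDT, Subgroup.mem_bot, inv_mul_eq_one] at h2
    rw [h2, mul_right_inj] at h'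
    exact Prod.ext (Subtype.ext h2.symm) (Subtype.ext h')
  have hPcard : Nat.card P = Nat.card T * Nat.card D₀ := by
    rw [← Nat.card_prod]
    refine (Nat.card_congr (Equiv.ofBijective (fun q : ↥T × ↥D₀ =>
      (⟨q.1 * q.2, mul_mem (hTS q.1.2) (hDS q.2.2.2), mul_mem (hTR q.1.2) q.2.2.1⟩ : ↥P)) ⟨?_, ?_⟩)).symm
    · intro q q' h
      have h0 : (q.1 : G) * q.2 = q'.1 * q'.2 := congrArg Subtype.val h
      have h' := @hbij.1 (q.1, ⟨q.2, q.2.2.2⟩) (q'.1, ⟨q'.2, q'.2.2.2⟩) (Subtype.ext h0)
      exact Prod.ext (Prod.mk.inj h').1 (Subtype.ext (congrArg (fun r : ↥T × ↥D => (r.2 : G)) h'))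
    · rintro ⟨y, hyS, hyR⟩
      obtain ⟨⟨t, d⟩, hq⟩ := hbij.2 ⟨y, hyS⟩
      have hq' : (t : G) * d = y := congrArg Subtype.val hq
      refine ⟨(t, ⟨d, ?_, d.2⟩), Subtype.ext hq'⟩
      have := mul_mem (R.inv_mem (hTR t.2)) hyR
      rwa [← hq', inv_mul_cancel_left] at this
  have hPi : ¬ 2 ∣ P.relIndex R := FusionControl.not_dvd_relIndex_inf le_top hS2
    (by rwa [Subgroup.relIndex_top_right]) le_top (by rw [Subgroup.normalizer_eq_top_iff.2 inferInstance])
  set M := T ⊔ C with hM
  have hMS : M ≤ S := sup_le hTS (hCD.trans hDS)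
  have hD0 : D₀ = ⊥ := by
    by_contra hne
    by_cases hDC : D₀ ≤ C
    · -- the cyclic case
      haveI : IsCyclic ↥D₀ := Subgroup.isCyclic_of_le hDC
      obtain ⟨c, hc⟩ := IsCyclic.exists_generator (α := ↥D₀)
      have hoc : orderOf (c : G) = Nat.card D₀ := by
        rw [Subgroup.orderOf_coe]; exact orderOf_eq_card_of_forall_mem_zpowers hc
      obtain ⟨m, hm⟩ : ∃ m, Nat.card D₀ = 2 ^ (m + 1) := by
        obtain ⟨k, hk⟩ := IsPGroup.iff_card.1 (hS2.to_le ((inf_le_right : D₀ ≤ D).trans hDS))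
        obtain ⟨j, rfl⟩ : ∃ j, k = j + 1 := Nat.exists_eq_succ_of_ne_zero (by
          rintro rfl
          exact hne (Subgroup.eq_bot_of_card_eq _ (by rw [hk, pow_zero])))
        exact ⟨j, hk⟩
      set z := (c : G) ^ 2 ^ m with hz
      have hzo : orderOf z = 2 := by
        rw [hz, orderOf_pow' _ (by positivity), hoc, hm, Nat.gcd_eq_right (pow_dvd_pow 2 (by omega)), pow_succ,
          Nat.mul_div_cancel_left _ (by positivity)]
      obtain ⟨N, hN, hN2⟩ := exists_normal_index_two (T.subgroupOf R) ⟨c, c.2.1⟩ m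
        (by rw [Subgroup.orderOf_mk, hoc, hm])
        (fun g hg => h2 z (pow_mem (hDC c.2) _) hzo (g : G)⁻¹
          (by rw [inv_inv]; exact Subgroup.mem_subgroupOf.1 hg))
        ⟨P.relIndex R, Nat.odd_iff.2 (by omega), by
          show T.relIndex R = _
          rw [← Subgroup.relIndex_mul_relIndex T P R (le_inf hTS hTR) inf_le_right]
          congr 1
          have := Coprime.relIndex_mul_card (le_inf hTS hTR : T ≤ P)
          rw [hPcard, ← hm] at *
          have hT0 : 0 < Nat.card T := Nat.card_pos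
          nlinarith⟩
      exact hno N hN hN2
    · obtain ⟨x, hxD0, hxC⟩ := Set.not_subset.1 hDC
      have hxD : x ∈ D := hxD0.2
      obtain ⟨n, hn, ⟨e⟩⟩ := hDih
      have hCn : Nat.card C = n := by
        have h := Coprime.relIndex_mul_card hCD
        rw [hCi, Nat.card_congr e.toEquiv, DihedralGroup.nat_card] at h
        omega
      have hx2 : orderOf x = 2 := by
        refine orderOf_eq_prime ?_ (fun h => hxC (h ▸ C.one_mem))
        set C' := (C.subgroupOf D).map e.toMonoidHom with hC'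
        haveI : IsCyclic ↥(C.subgroupOf D) :=
          isCyclic_of_surjective (Subgroup.subgroupOfEquivOfLe hCD).symm.toMonoidHom
            (Subgroup.subgroupOfEquivOfLe hCD).symm.surjective
        have h := dihedral_sq hn C' (isCyclic_of_surjective (e.toMonoidHom.subgroupMap (C.subgroupOf D))
          (MonoidHom.subgroupMap_surjective _ _))
          (by rw [hC', Subgroup.card_map_of_injective e.injective,
            Nat.card_congr (Subgroup.subgroupOfEquivOfLe hCD).toEquiv, hCn])
          (y := e ⟨x, hxD⟩) (by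
            rintro ⟨y, hy, hye⟩
            rw [e.injective hye] at hy
            exact hxC (Subgroup.mem_subgroupOf.1 hy))
        rw [← map_mul, MulEquiv.map_eq_one_iff] at h
        rw [pow_two]
        exact congrArg Subtype.val h
      have hxM : x ∉ M := fun h => h1 x hxD hxC hx2 1 (by simpa using h)
      have hMi : M.relIndex S = 2 := by
        have e1 := Coprime.relIndex_mul_card hMS
        have e2 : Nat.card T * Nat.card C ≤ Nat.card M := by
          rw [← Nat.card_prod]
          refine Nat.card_le_card_of_injective (fun q : ↥T × ↥C =>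
            (⟨q.1 * q.2, mul_mem (Subgroup.mem_sup_left q.1.2) (Subgroup.mem_sup_right q.2.2)⟩ : ↥M)) ?_
          intro q q' h
          have h0 : (q.1 : G) * q.2 = q'.1 * q'.2 := congrArg Subtype.val h
          have h' := @hbij.1 (q.1, ⟨q.2, hCD q.2.2⟩) (q'.1, ⟨q'.2, hCD q'.2.2⟩) (Subtype.ext h0)
          exact Prod.ext (Prod.mk.inj h').1 (Subtype.ext (congrArg (fun r : ↥T × ↥D => (r.2 : G)) h'))
        have e3 : M.relIndex S ≠ 1 := fun h => hxM (Subgroup.relIndex_eq_one.1 h (hDS hxD))
        have e4 : Nat.card D = 2 * Nat.card C := by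
          have h := Coprime.relIndex_mul_card hCD
          rw [hCi] at h
          omega
        rw [← hTDc, e4] at e1
        have hpos : 0 < Nat.card M := Nat.card_pos
        have e5 : M.relIndex S ≤ 2 := by
          by_contra hgt
          have : 3 * Nat.card M ≤ M.relIndex S * Nat.card M := Nat.mul_le_mul_right _ (by omega)
          nlinarith
        have e6 : M.relIndex S ≠ 0 := Subgroup.index_ne_zero_of_finite
        omega
      have hPM : M.relIndex P = 2 := by
        have e5 : M.relIndex P ≤ M.relIndex S := Subgroup.relIndex_le_of_le_right (inf_le_left : P ≤ S)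
          Subgroup.index_ne_zero_of_finite
        have e6 : M.relIndex P ≠ 0 := Subgroup.index_ne_zero_of_finite
        have e7 : M.relIndex P ≠ 1 := fun h => hxM (Subgroup.relIndex_eq_one.1 h ⟨hDS hxD, hxD0.1⟩)
        omega
      obtain ⟨N, hN, hN2⟩ := exists_normal_index_two ((M ⊓ P).subgroupOf R) ⟨x, hxD0.1⟩ 0
        (by rw [Subgroup.orderOf_mk, hx2]; norm_num)
        (fun g hg => h1 x hxD hxC hx2 (g : G)⁻¹ (by
          rw [inv_inv]; simpa using (Subgroup.mem_subgroupOf.1 hg).1))
        ⟨P.relIndex R, Nat.odd_iff.2 (by omega), by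
          show (M ⊓ P).relIndex R = _
          rw [← Subgroup.relIndex_mul_relIndex (M ⊓ P) P R inf_le_right inf_le_right,
            Subgroup.inf_relIndex_right, hPM]
          norm_num⟩
      exact hno N hN hN2
  refine ⟨R, inferInstance, ?_, fun T' hT' hT'2 hT'i => ⟨hT'.trans hLR, ?_⟩⟩
  · haveI : Fact (Nat.Prime 2) := ⟨Nat.prime_two⟩
    set S' : Sylow 2 G := hS2.toSylow hSsyl
    have h := Transfer.sylow_sup_pResidual S'
    have hS' : (S' : Subgroup G) = S := rfl
    rw [hS', ← hTD] at h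
    rw [eq_top_iff, ← h]
    exact sup_le (sup_le (hTR.trans le_sup_left) le_sup_right) le_sup_left
  · have hPT : Nat.card P = Nat.card T := by rw [hPcard, hD0, Subgroup.card_bot, mul_one]
    have hc : Nat.card T' = Nat.card P := by
      rw [hPT]
      exact FusionControl.card_eq_of_not_dvd hTL hT2 hTsyl hT' hT'2 hT'i
    have e1 := Coprime.relIndex_mul_card (hT'.trans hLR)
    have e2 := Coprime.relIndex_mul_card (inf_le_right : P ≤ R)
    rw [hc, ← e2] at e1
    rw [Nat.eq_of_mul_eq_mul_left Nat.card_pos e1]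
    exact hPi

end Cfsg.Agent.S1924
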