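import Cfsg.Statements.S1935
import Cfsg.Agent.Lib.LimitOffender.Main
import Cfsg.Agent.Lib.PLocal.Replacement

set_option autoImplicit false
open Cfsg

namespace Cfsg.Agent.S1935

open scoped commutatorElement
open Cfsg.Agent.Lib

section
variable {Ω : Type*} [Group Ω] {p : ℕ} [Fact p.Prime] {V G : Subgroup Ω}

/-- Conjugation by an element as a linear map. -/
noncomputable def actHom (hGV : G ≤ Subgroup.normalizer (V : Set Ω)) (g : G) : ↥V →* ↥V where
  toFun v := ⟨g * v * (g : Ω)⁻¹, (Subgroup.mem_normalizer_iff.1 (hGV g.2) v).1 v.2⟩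
  map_one' := Subtype.ext (by simp)
  map_mul' v w := Subtype.ext (by simp [mul_assoc])

end

theorem exists_quadratic {Ω : Type*} [Group Ω] [Finite Ω] {p : ℕ} [Fact p.Prime] {V G : Subgroup Ω}
    (hV : Cfsg.IsElementaryAbelian p V) (hGV : G ≤ Subgroup.normalizer (V : Set Ω))
    (hfaith : G ⊓ Subgroup.centralizer (V : Set Ω) = ⊥)
    (hF : ∃ E : Subgroup Ω, E ≤ G ∧ E ≠ ⊥ ∧ Cfsg.IsElementaryAbelian p E ∧
      Nat.card ↥V ≤ Nat.card ↥E * Nat.card ↥(V ⊓ Subgroup.centralizer (E : Set Ω))) :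
    ∃ B : Subgroup Ω, B ≤ G ∧ B ≠ ⊥ ∧ Cfsg.IsElementaryAbelian p B ∧
      Nat.card ↥V ≤ Nat.card ↥B * Nat.card ↥(V ⊓ Subgroup.centralizer (B : Set Ω)) ∧
      ∀ v ∈ V, ∀ a ∈ B, ∀ b ∈ B, Commute b ⁅a, v⁆ := by
  classical
  obtain ⟨E, hEG, hE1, hEel, hEF⟩ := hF
  haveI : Nonempty {B : Subgroup Ω // B ≤ E ∧ B ≠ ⊥} := ⟨⟨E, le_rfl, hE1⟩⟩
  obtain ⟨⟨A, hAE, hA1⟩, hmax⟩ := Finite.exists_max
    (fun B : {B : Subgroup Ω // B ≤ E ∧ B ≠ ⊥} => PLocal.fOn V B.1)
  have hAV : A ≤ Subgroup.normalizer (V : Set Ω) := (hAE.trans hEG).trans hGV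
  have hab : ∀ a ∈ V, ∀ b ∈ V, a * b = b * a := fun a ha b hb => hV.1.is_comm.comm ⟨a, ha⟩ ⟨b, hb⟩ |>
    congrArg Subtype.val
  have hEab : ∀ a ∈ E, ∀ b ∈ E, a * b = b * a := fun a ha b hb =>
    congrArg Subtype.val (hEel.1.is_comm.comm ⟨a, ha⟩ ⟨b, hb⟩)
  have hVA : Nat.card ↥V ≤ PLocal.fOn V A := le_trans hEF (hmax ⟨E, le_rfl, hE1⟩)
  have hok := PLocal.replOK_of_max hab hAV (by
    rw [(Subgroup.commutator_eq_bot_iff_le_centralizer).2 (fun a ha =>
      Subgroup.mem_centralizer_iff.2 fun b hb => hEab b (hAE hb) a (hAE ha))]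
    exact bot_le) (fun B hB => by
    rcases eq_or_ne B ⊥ with rfl | hB0
    · refine le_trans ?_ hVA
      rw [PLocal.fOn, Subgroup.card_bot, one_mul]
      exact Subgroup.card_le_of_le inf_le_left
    · exact hmax ⟨B, hB.trans hAE, hB0⟩) V le_rfl
  refine ⟨PLocal.repl A V, inf_le_left.trans (hAE.trans hEG), fun h0 => ?_, ⟨⟨⟨fun a b =>
    Subtype.ext (hEab a (hAE a.2.1) b (hAE b.2.1))⟩⟩, fun a ha => hEel.2 a (hAE ha.1)⟩, ?_, ?_⟩
  · have hle : V ≤ ⁅V, A⁆ ⊔ (V ⊓ Subgroup.centralizer (A : Set Ω)) := by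
      rw [← hok.2, h0]
      refine le_inf le_rfl fun x _ => ?_
      rw [Subgroup.mem_centralizer_iff]
      intro y hy
      rw [show y = 1 from Subgroup.mem_bot.1 hy]
      simp
    have h1 := PLocal.commutator_eq_bot_of_sup_eq hV hAV
      (fun a ha => by rw [hEel.2 a (hAE ha)]; exact Subgroup.one_mem _) hle
    apply hA1
    rw [eq_bot_iff, ← hfaith]
    exact fun a ha => ⟨hEG (hAE ha),
      Subgroup.le_centralizer_iff.1 (Subgroup.commutator_eq_bot_iff_le_centralizer.1 h1) ha⟩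
  · exact le_trans hVA (le_of_eq hok.1.symm)
  · intro v hv a ha b hb
    exact (hb.2 _ (PLocal.commutatorElement_mem_commutator_symm hv ha.1)).symm

open scoped IsMulCommutative in
theorem result_aux {Ω : Type*} [Group Ω] [Finite Ω] (p : ℕ) [Fact p.Prime] (hp : 5 ≤ p) (V G : Subgroup Ω) (hV : Cfsg.IsElementaryAbelian p V) (hG : IsPGroup p ↥G) (hGV : G ≤ Subgroup.normalizer (V : Set Ω)) (hfaith : G ⊓ Subgroup.centralizer (V : Set Ω) = ⊥) (hF : ∃ E : Subgroup Ω, E ≤ G ∧ E ≠ ⊥ ∧ Cfsg.IsElementaryAbelian p E ∧ Nat.card ↥V ≤ Nat.card ↥E * Nat.card ↥(V ⊓ Subgroup.centralizer (E : Set Ω))) [IsMulCommutative ↥V] [Module (ZMod p) (Additive ↥V)] : ∃ A : Subgroup Ω, A ≤ G ∧ A ≠ ⊥ ∧ Cfsg.IsElementaryAbelian p A ∧ Nat.card ↥V ≤ Nat.card ↥A * Nat.card ↥(V ⊓ Subgroup.centralizer (A : Set Ω)) ∧ ⁅⁅V, A⁆, A⁆ = ⊥ ∧ ∀ g ∈ Subgroup.closure {x : Ω | ∃ h ∈ G, ∃ a ∈ A, x = h * a * h⁻¹}, ∀ a ∈ A, g * a * g⁻¹ ∈ A := by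
  classical
  haveI : NeZero p := ⟨(Fact.out : p.Prime).ne_zero⟩
  haveI : Group.IsNilpotent ↥G := hG.isNilpotent
  haveI : Module.Finite (ZMod p) (Additive ↥V) := Module.Finite.of_finite
  haveI : Finite (Module.End (ZMod p) (Additive ↥V)) := Module.finite_of_finite (ZMod p)
  let ρ : ↥G →* Module.End (ZMod p) (Additive ↥V) :=
    { toFun := fun g => AddMonoidHom.toZModLinearMap p (MonoidHom.toAdditive (actHom hGV g))
      map_one' := LinearMap.ext fun v => by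
        change (AddMonoidHom.toZModLinearMap p (MonoidHom.toAdditive (actHom hGV 1))) v = v
        apply Additive.toMul.injective
        exact Subtype.ext (by
          show ((1 : ↥G) : Ω) * (Additive.toMul v : ↥V) * ((1 : ↥G) : Ω)⁻¹ = _
          simp)
      map_mul' := fun g h => LinearMap.ext fun v => by
        change (AddMonoidHom.toZModLinearMap p (MonoidHom.toAdditive (actHom hGV (g * h)))) v =
          (AddMonoidHom.toZModLinearMap p (MonoidHom.toAdditive (actHom hGV g)))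
            ((AddMonoidHom.toZModLinearMap p (MonoidHom.toAdditive (actHom hGV h))) v)
        apply Additive.toMul.injective
        exact Subtype.ext (by
          show ((g * h : ↥G) : Ω) * (Additive.toMul v : ↥V) * ((g * h : ↥G) : Ω)⁻¹ =
            g * (h * (Additive.toMul v : ↥V) * (h : Ω)⁻¹) * (g : Ω)⁻¹
          simp [mul_assoc]) }
  -- values of `ρ g - 1`
  have hval : ∀ (g : ↥G) (v : ↥V),
      ((Additive.toMul ((ρ g - 1) (Additive.ofMul v)) : ↥V) : Ω) = ⁅(g : Ω), (v : Ω)⁆ := fun g v => by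
    show (g : Ω) * (v : Ω) * (g : Ω)⁻¹ / (v : Ω) = _
    rw [div_eq_mul_inv, commutatorElement_def]
  have hinj : Function.Injective ρ := by
    refine (injective_iff_map_eq_one ρ).2 fun g hg => ?_
    refine Subtype.ext (Subgroup.mem_bot.1 ((le_of_eq hfaith) ⟨g.2, fun v hv => ?_⟩))
    have h := hval g ⟨v, hv⟩
    rw [hg, sub_self] at h
    exact (commutatorElement_eq_one_iff_mul_comm.1 h.symm).symm
  have hcardW : Nat.card (Additive ↥V) = p ^ Module.finrank (ZMod p) (Additive ↥V) := by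
    rw [Module.natCard_eq_pow_finrank (K := ZMod p), Nat.card_zmod]
  obtain ⟨B, hBG, hB1, hBel, hBF, hBq⟩ := exists_quadratic hV hGV hfaith hF
  have hBq' : ∀ a b : ↥G, (a : Ω) ∈ B → (b : Ω) ∈ B → (ρ b - 1) * (ρ a - 1) = 0 := by
    intro a b ha hb
    refine LinearMap.ext fun v => ?_
    obtain ⟨v, rfl⟩ := Additive.ofMul.surjective v
    apply Additive.toMul.injective
    apply Subtype.ext
    have h := hval b (Additive.toMul ((ρ a - 1) (Additive.ofMul v)))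
    rw [hval a v, ofMul_toMul] at h
    show _ = (1 : Ω)
    refine h.trans (commutatorElement_eq_one_iff_mul_comm.2 ?_)
    exact hBq v v.2 a ha b hb
  let S₀ : AddSubgroup (Module.End (ZMod p) (Additive ↥V)) :=
    { carrier := {a | ∃ g : ↥G, (g : Ω) ∈ B ∧ ρ g = 1 + a}
      zero_mem' := ⟨1, B.one_mem, by rw [map_one, add_zero]⟩
      add_mem' := by
        rintro a b ⟨g, hg, hga⟩ ⟨h, hh, hhb⟩
        refine ⟨g * h, B.mul_mem hg hh, ?_⟩
        have := hBq' h g hh hg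
        rw [hga, hhb, add_sub_cancel_left, add_sub_cancel_left] at this
        rw [map_mul, hga, hhb, add_mul, one_mul, mul_add, mul_one, this]
        abel
      neg_mem' := by
        rintro a ⟨g, hg, hga⟩
        refine ⟨g⁻¹, B.inv_mem hg, ?_⟩
        have hs := hBq' g g hg hg
        rw [hga, add_sub_cancel_left] at hs
        calc ρ g⁻¹ = ρ g⁻¹ * ((1 + a) * (1 + -a)) := by
              rw [show (1 + a) * (1 + -a) = 1 by
                rw [← sub_eq_add_neg, add_mul, mul_sub, mul_sub, hs]; simp, mul_one]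
          _ = 1 + -a := by rw [← mul_assoc, ← hga, LimitOffender.rho_inv_mul, one_mul] }
  let L₀ := AddSubgroup.toZModSubmodule p S₀
  let C₀ : Submodule (ZMod p) (Additive ↥V) := AddSubgroup.toZModSubmodule p
    (Subgroup.toAddSubgroup ((V ⊓ Subgroup.centralizer (B : Set Ω)).subgroupOf V))
  have hC₀ : ∀ (g : ↥G), (g : Ω) ∈ B → ∀ w ∈ C₀, (ρ g - 1) w = 0 := by
    intro g hg w hw
    obtain ⟨v, rfl⟩ := Additive.ofMul.surjective w
    apply Additive.toMul.injective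
    apply Subtype.ext
    rw [hval]
    have hw' : (v : Ω) ∈ V ⊓ Subgroup.centralizer (B : Set Ω) := hw
    exact commutatorElement_eq_one_iff_mul_comm.2 (hw'.2 _ hg)
  have hBL : Nat.card ↥B ≤ Nat.card L₀ := by
    refine Nat.card_le_card_of_injective
      (fun g : ↥B => (⟨ρ ⟨g, hBG g.2⟩ - 1, ⟨g, hBG g.2⟩, g.2, (add_sub_cancel _ _).symm⟩ : L₀)) ?_
    intro g h e
    have h1 := hinj (sub_left_injective (congrArg Subtype.val e))
    exact Subtype.ext (congrArg (fun x : ↥G => (x : Ω)) h1)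
  have hCC : Nat.card ↥(V ⊓ Subgroup.centralizer (B : Set Ω)) ≤ Nat.card C₀ := by
    refine Nat.card_le_card_of_injective (fun v => (⟨Additive.ofMul ⟨v.1, v.2.1⟩, v.2⟩ : C₀)) ?_
    intro v w e
    exact Subtype.ext (congrArg (fun x : C₀ => ((Additive.toMul x.1 : ↥V) : Ω)) e)
  have hoff : LimitOffender.Off ρ L₀ := by
    refine ⟨fun h0 => ?_, ?_, ?_, C₀, ?_, ?_⟩
    · obtain ⟨⟨b, hb⟩, hb0⟩ := Subgroup.ne_bot_iff_exists_ne_one.1 hB1
      have hb1 : b ≠ 1 := fun h => hb0 (Subtype.ext h)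
      have hm : ρ ⟨b, hBG hb⟩ - 1 ∈ L₀ := ⟨⟨b, hBG hb⟩, hb, (add_sub_cancel _ _).symm⟩
      rw [h0, Submodule.mem_bot, sub_eq_zero] at hm
      exact hb1 (congrArg (fun x : ↥G => (x : Ω)) ((injective_iff_map_eq_one ρ).1 hinj _ hm))
    · rintro a ⟨g, hg, hga⟩ b ⟨h, hh, hhb⟩
      have := hBq' h g hh hg
      rwa [hga, hhb, add_sub_cancel_left, add_sub_cancel_left] at this
    · rintro a ⟨g, -, hga⟩; exact ⟨g, hga⟩
    · rintro a ⟨g, hg, hga⟩ w hw
      have := hC₀ g hg w hw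
      rwa [hga, add_sub_cancel_left] at this
    · rw [← Nat.pow_le_pow_iff_right (Fact.out : p.Prime).one_lt, pow_add, ← hcardW]
      refine le_trans (le_of_eq (Nat.card_congr Additive.toMul)) (le_trans hBF (le_trans
        (Nat.mul_le_mul hBL hCC) (le_of_eq ?_)))
      rw [Module.natCard_eq_pow_finrank (K := ZMod p) (V := L₀),
        Module.natCard_eq_pow_finrank (K := ZMod p) (V := C₀), Nat.card_zmod]
  obtain ⟨L, hL, hLN⟩ := LimitOffender.exists_normal_off hp hinj ⟨L₀, hoff⟩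
  obtain ⟨C, hC, hbig⟩ := hL.big
  let A₀ : Subgroup ↥G :=
    { carrier := {g | ρ g - 1 ∈ L}
      one_mem' := by show ρ 1 - 1 ∈ L; rw [map_one, sub_self]; exact L.zero_mem
      mul_mem' := fun {g h} hg hh => by
        show ρ (g * h) - 1 ∈ L
        have e : ρ (g * h) - 1 = (ρ g - 1) * (ρ h - 1) + (ρ g - 1) + (ρ h - 1) := by
          rw [map_mul]; simp only [sub_mul, mul_sub, one_mul, mul_one]; abel
        rw [e, hL.sq _ hg _ hh, zero_add]; exact L.add_mem hg hh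
      inv_mem' := fun {g} hg => by
        show ρ g⁻¹ - 1 ∈ L
        have key : ∀ x : Module.End (ZMod p) (Additive ↥V), x * x = 0 → (1 + x) * (1 - x) = 1 :=
          fun x hx => by rw [add_mul, mul_sub, mul_sub, hx]; simp
        have e := key _ (hL.sq _ hg _ hg)
        have e2 : ρ g⁻¹ = 1 - (ρ g - 1) := by
          calc ρ g⁻¹ = ρ g⁻¹ * ((1 + (ρ g - 1)) * (1 - (ρ g - 1))) := by rw [e, mul_one]
            _ = _ := by rw [add_sub_cancel, ← mul_assoc, LimitOffender.rho_inv_mul, one_mul]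
        rw [e2, sub_sub_cancel_left]; exact L.neg_mem hg }
  have hcom : ∀ g ∈ A₀, ∀ h ∈ A₀, g * h = h * g := fun g hg h hh => hinj (by
    have e1 := hL.sq _ hg _ hh
    have e2 := hL.sq _ hh _ hg
    rw [map_mul, map_mul, ← sub_eq_zero]
    calc ρ g * ρ h - ρ h * ρ g = (ρ g - 1) * (ρ h - 1) - (ρ h - 1) * (ρ g - 1) := by
          simp only [sub_mul, mul_sub, one_mul, mul_one]; abel
      _ = 0 := by rw [e1, e2, sub_zero])
  set A := A₀.map G.subtype with hA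
  have hquad : ∀ g ∈ A₀, ∀ h ∈ A₀, ∀ v : ↥V, ⁅(h : Ω), ⁅(g : Ω), (v : Ω)⁆⁆ = 1 := by
    intro g hg h hh v
    have h1 := hval h (Additive.toMul ((ρ g - 1) (Additive.ofMul v)))
    rw [hval g v, ofMul_toMul] at h1
    rw [← h1]
    have : (ρ h - 1) ((ρ g - 1) (Additive.ofMul v)) = 0 :=
      LinearMap.congr_fun (hL.sq _ hh _ hg) _
    rw [this]; rfl
  refine ⟨A, Subgroup.map_subtype_le _, fun h0 => ?_, ⟨⟨⟨?_⟩⟩, ?_⟩, ?_, ?_, ?_⟩
  · obtain ⟨a, ha, ha0⟩ := (Submodule.ne_bot_iff _).1 hL.ne_bot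
    obtain ⟨g, hg⟩ := hL.lift a ha
    have hmem : (g : Ω) ∈ A := ⟨g, show ρ g - 1 ∈ L by rw [hg, add_sub_cancel_left]; exact ha, rfl⟩
    rw [h0, Subgroup.mem_bot] at hmem
    rw [show g = 1 from Subtype.ext hmem, map_one, left_eq_add] at hg
    exact ha0 hg
  · rintro ⟨_, a, ha, rfl⟩ ⟨_, b, hb, rfl⟩
    exact Subtype.ext (congrArg (fun x : ↥G => (x : Ω)) (hcom a ha b hb))
  · rintro _ ⟨a, ha, rfl⟩
    show (a : Ω) ^ p = 1
    have e : ρ (a ^ p) = 1 + (p : ℕ) • (ρ a - 1) := by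
      rw [map_pow]
      conv_lhs => rw [show ρ a = 1 + (ρ a - 1) by abel]
      rw [LimitOffender.one_add_pow' (hL.sq _ ha _ ha), nsmul_eq_mul']
    have hp0 : (p : ℕ) • (ρ a - 1) = 0 := by
      rw [← Nat.cast_smul_eq_nsmul (ZMod p), ZMod.natCast_self, zero_smul]
    rw [hp0, add_zero] at e
    simpa using congrArg (fun x : ↥G => (x : Ω)) ((injective_iff_map_eq_one ρ).1 hinj _ e)
  · have h1 : Nat.card L ≤ Nat.card ↥A := by
      choose f hf using fun a : L => hL.lift a.1 a.2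
      refine Nat.card_le_card_of_injective
        (fun a => (⟨f a, f a, show ρ (f a) - 1 ∈ L by
          rw [hf a, add_sub_cancel_left]; exact a.2, rfl⟩ : ↥A)) ?_
      intro a b e
      have e' : f a = f b := Subtype.ext (congrArg (fun x : ↥A => (x : Ω)) e)
      have := hf a
      rw [e', hf b] at this
      exact Subtype.ext (add_left_cancel this).symm
    have h2 : Nat.card C ≤ Nat.card ↥(V ⊓ Subgroup.centralizer (A : Set Ω)) := by
      refine Nat.card_le_card_of_injective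
        (fun w => (⟨((Additive.toMul w.1 : ↥V) : Ω), (Additive.toMul w.1).2, ?_⟩ :
          ↥(V ⊓ Subgroup.centralizer (A : Set Ω)))) ?_
      · rintro _ ⟨g, hg, rfl⟩
        refine commutatorElement_eq_one_iff_mul_comm.1 ?_
        have h := hval g (Additive.toMul w.1)
        rw [ofMul_toMul, hC _ hg w.1 w.2] at h
        exact h.symm
      · intro v w e
        exact Subtype.ext (Additive.toMul.injective (Subtype.ext
          (congrArg (fun x : ↥(V ⊓ Subgroup.centralizer (A : Set Ω)) => (x : Ω)) e)))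
    refine le_trans ?_ (Nat.mul_le_mul h1 h2)
    rw [← Nat.card_congr (Additive.toMul (α := ↥V)), hcardW,
      Module.natCard_eq_pow_finrank (K := ZMod p) (V := L),
      Module.natCard_eq_pow_finrank (K := ZMod p) (V := C), Nat.card_zmod, ← pow_add]
    exact Nat.pow_le_pow_right (Fact.out : p.Prime).pos hbig
  · refine Subgroup.commutator_eq_bot_iff_le_centralizer.2 ?_
    rw [Subgroup.commutator_comm, Subgroup.commutator_le]
    rintro _ ⟨g, hg, rfl⟩ v hv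
    refine Subgroup.mem_centralizer_iff.2 ?_
    rintro _ ⟨h, hh, rfl⟩
    exact commutatorElement_eq_one_iff_mul_comm.1 (hquad g hg h hh ⟨v, hv⟩)
  · have hK : Subgroup.closure {x : Ω | ∃ h ∈ G, ∃ a ∈ A, x = h * a * h⁻¹} ≤
        (LimitOffender.nmz ρ L).map G.subtype := by
      rw [Subgroup.closure_le]
      rintro _ ⟨h, hh, _, ⟨a, ha, rfl⟩, rfl⟩
      refine ⟨⟨h, hh⟩ * a * ⟨h, hh⟩⁻¹, hLN _ ?_, rfl⟩
      have e : ρ (⟨h, hh⟩ * a * ⟨h, hh⟩⁻¹) - 1 = ρ ⟨h, hh⟩ * (ρ a - 1) * ρ ⟨h, hh⟩⁻¹ := by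
        rw [mul_sub, sub_mul, mul_one, LimitOffender.rho_mul_inv, map_mul, map_mul]
      rw [LimitOffender.Quad, e]
      calc ρ ⟨h, hh⟩ * (ρ a - 1) * ρ ⟨h, hh⟩⁻¹ * (ρ ⟨h, hh⟩ * (ρ a - 1) * ρ ⟨h, hh⟩⁻¹)
          = ρ ⟨h, hh⟩ * (ρ a - 1) * (ρ ⟨h, hh⟩⁻¹ * ρ ⟨h, hh⟩) * (ρ a - 1) * ρ ⟨h, hh⟩⁻¹ := by
            simp only [mul_assoc]
        _ = 0 := by
          rw [LimitOffender.rho_inv_mul, mul_one, mul_assoc (ρ ⟨h, hh⟩), hL.sq _ ha _ ha, mul_zero,
            zero_mul]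
    rintro _ hg _ ⟨a, ha, rfl⟩
    obtain ⟨γ, hγ, rfl⟩ := hK hg
    refine ⟨γ * a * γ⁻¹, ?_, rfl⟩
    show ρ (γ * a * γ⁻¹) - 1 ∈ L
    have e : ρ (γ * a * γ⁻¹) - 1 = ρ γ * (ρ a - 1) * ρ γ⁻¹ := by
      rw [mul_sub, sub_mul, mul_one, LimitOffender.rho_mul_inv, map_mul, map_mul]
    rw [e]
    exact hγ _ ha


/-- Let p ≥ 5 be a prime and, inside an ambient finite group, let G be a p-subgroup acting faithfully by conjugation on an elementary abelian p-subgroup V that it normalizes (only the identity of G centralizes V). Suppose V is an F-module for G: some nontrivial elementary abelian subgroup E of G satisfies #E · #C_V(E) ≥ #V. Then G contains such an offender A that moreover acts quadratically on V ([V, A, A] = 1) and is normal in its normal closure in G. -/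
theorem result {Ω : Type*} [Group Ω] [Finite Ω] (p : ℕ) [Fact p.Prime] (hp : 5 ≤ p) (V G : Subgroup Ω) (hV : Cfsg.IsElementaryAbelian p V) (hG : IsPGroup p ↥G) (hGV : G ≤ Subgroup.normalizer (V : Set Ω)) (hfaith : G ⊓ Subgroup.centralizer (V : Set Ω) = ⊥) (hF : ∃ E : Subgroup Ω, E ≤ G ∧ E ≠ ⊥ ∧ Cfsg.IsElementaryAbelian p E ∧ Nat.card ↥V ≤ Nat.card ↥E * Nat.card ↥(V ⊓ Subgroup.centralizer (E : Set Ω))) : ∃ A : Subgroup Ω, A ≤ G ∧ A ≠ ⊥ ∧ Cfsg.IsElementaryAbelian p A ∧ Nat.card ↥V ≤ Nat.card ↥A * Nat.card ↥(V ⊓ Subgroup.centralizer (A : Set Ω)) ∧ ⁅⁅V, A⁆, A⁆ = ⊥ ∧ ∀ g ∈ Subgroup.closure {x : Ω | ∃ h ∈ G, ∃ a ∈ A, x = h * a * h⁻¹}, ∀ a ∈ A, g * a * g⁻¹ ∈ A := by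
  haveI : IsMulCommutative ↥V := hV.1
  open scoped IsMulCommutative in
  exact @result_aux Ω _ _ p _ hp V G hV hG hGV hfaith hF _
    (AddCommGroup.zmodModule fun v => Additive.toMul.injective (Subtype.ext (by
      rw [toMul_nsmul, SubgroupClass.coe_pow]; exact hV.2 _ (Additive.toMul v).2)))

end Cfsg.Agent.S1935
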