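import Cfsg.Statements.S1936
import Cfsg.Agent.Lib.FusionControl.PPrimeAbelianCount
import Cfsg.Agent.S0144

set_option autoImplicit false
open Cfsg

namespace Cfsg.Agent.S1936

open Cfsg.Agent.Lib Cfsg.Agent.Lib.FusionControl.PPrimeAbelian

theorem small_prime.{v} {G : Type v} [Group G] [Finite G] {p : ℕ} [hp : Fact p.Prime] (h : Hyp p G)
    (hp5 : ¬ 5 ≤ p) : Group.IsSolvable G := by
  have hpp := hp.out
  have hp23 : p = 2 ∨ p = 3 := by
    have := hpp.two_le
    rcases (show p = 2 ∨ p = 3 ∨ p = 4 by omega) with h | h | h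
    · exact Or.inl h
    · exact Or.inr h
    · exact absurd (h ▸ hpp) (by norm_num)
  have hn := (Nat.card_pos (α := G)).ne'
  have hr : ∀ r : ℕ, r.Prime → r ∣ Nat.card G → r ≠ p → p = 3 ∧ r = 2 := fun r hr hd hrp => by
    have h1 := h.lt hr hrp hd
    have := hr.two_le
    omega
  have key : ∃ a b, Nat.card G = 2 ^ a * 3 ^ b := by
    refine ⟨(Nat.card G).factorization 2, (Nat.card G).factorization 3, ?_⟩
    refine Nat.eq_of_factorization_eq hn (by positivity) fun q => ?_
    rw [Nat.factorization_mul (by positivity) (by positivity), Nat.Prime.factorization_pow Nat.prime_two,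
      Nat.Prime.factorization_pow Nat.prime_three, Finsupp.add_apply, Finsupp.single_apply,
      Finsupp.single_apply]
    by_cases hq : q.Prime ∧ q ∣ Nat.card G
    · rcases eq_or_ne q p with rfl | hqp
      · rcases hp23 with rfl | rfl <;> simp
      · obtain ⟨rfl, rfl⟩ := hr q hq.1 hq.2 hqp
        simp
    · have h0 : (Nat.card G).factorization q = 0 := by
        rw [Nat.factorization_eq_zero_iff]
        tauto
      rw [h0]
      by_cases h2 : 2 = q
      · subst h2; simp [h0]
      · by_cases h3 : 3 = q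
        · subst h3; simp [h0]
        · simp [h2, h3]
  obtain ⟨a, b, hab⟩ := key
  exact Cfsg.Agent.S0144.result 2 3 a b Nat.prime_two Nat.prime_three hab

theorem hyp_quotient.{v} {G : Type v} [Group G] [Finite G] {p : ℕ} [Fact p.Prime] (h : Hyp p G)
    (N : Subgroup G) [N.Normal] (hN : ∀ X : Subgroup G, N ≤ X → X ≠ ⊤ → Group.IsSolvable X)
    (hG : ∀ K : Subgroup (G ⧸ N), ¬ p ∣ Nat.card K → K ≠ ⊤) : Hyp p (G ⧸ N) := by
  intro K hK
  have hK' : ¬ p ∣ Nat.card K := fun hd =>
    (Nat.Prime.coprime_iff_not_dvd Fact.out).mp hK.symm hd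
  set f := QuotientGroup.mk' N with hf
  have hfs : Function.Surjective f := QuotientGroup.mk'_surjective N
  have hX : K.comap f ≠ ⊤ := fun e => hG K hK' (by
    rw [← Subgroup.map_comap_eq_self_of_surjective hfs K, e, Subgroup.map_top_of_surjective f hfs])
  haveI := hN (K.comap f) (fun x hx => Subgroup.mem_comap.mpr (by
    rw [show f x = 1 from (QuotientGroup.eq_one_iff x).mpr hx]; exact one_mem _)) hX
  obtain ⟨F, hF, hmap⟩ := exists_not_dvd_map_eq (f.subgroupComap K)
    (MonoidHom.subgroupComap_surjective_of_surjective f K hfs) (K := (⊤ : Subgroup ↥K))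
    (by rwa [Subgroup.card_top])
  obtain ⟨h1, h2⟩ := (h.subgroup (K.comap f)) F (coprime_of_not_dvd hF)
  have hsur : ∀ y : ↥K, ∃ x ∈ F, f.subgroupComap K x = y := fun y => by
    have hy : y ∈ F.map (f.subgroupComap K) := by rw [hmap]; trivial
    exact hy
  refine ⟨⟨⟨fun a b => ?_⟩⟩, fun x hx => ?_⟩
  · obtain ⟨x, hx, rfl⟩ := hsur a
    obtain ⟨y, hy, rfl⟩ := hsur b
    rw [← map_mul, ← map_mul]
    exact congrArg _ (congrArg Subtype.val (h1.is_comm.comm ⟨x, hx⟩ ⟨y, hy⟩) :)
  · obtain ⟨y, hy, hyx⟩ := hsur ⟨x, hx⟩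
    have e : (f.subgroupComap K) y ^ (p - 1) = 1 := by rw [← map_pow, h2 y hy, map_one]
    rw [hyx] at e
    simpa using congrArg Subtype.val e

theorem solvable_aux.{v} {p : ℕ} [Fact p.Prime] (hp5 : 5 ≤ p) : ∀ (n : ℕ) (G : Type v) [Group G]
    [Finite G], Nat.card G = n → Hyp p G → Group.IsSolvable G := by
  intro n
  induction n using Nat.strong_induction_on with
  | _ n ih =>
  intro G _ _ hn h
  subst hn
  have hprop : ∀ L : Subgroup G, L ≠ ⊤ → Group.IsSolvable ↥L := fun L hL =>
    ih _ (FusionControl.card_lt_of_ne_top hL) L rfl (h.subgroup L)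
  rcases subsingleton_or_nontrivial G with _ | hnt
  · exact isSolvable_of_comm fun x y => Subsingleton.elim _ _
  by_cases hcomm : commutator G = ⊤
  swap
  · haveI := hprop _ hcomm
    exact (Group.isSolvable_iff_subgroup_quotient (commutator G)).mpr ⟨inferInstance,
      isSolvable_of_comm fun x y => by
        obtain ⟨x, rfl⟩ := QuotientGroup.mk'_surjective _ x
        obtain ⟨y, rfl⟩ := QuotientGroup.mk'_surjective _ y
        rw [← map_mul, ← map_mul, ← div_eq_one, ← map_div]
        refine (QuotientGroup.eq_one_iff _).mpr ?_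
        rw [div_eq_mul_inv, mul_inv_rev, ← mul_assoc]
        exact Subgroup.commutator_mem_commutator (Subgroup.mem_top x) (Subgroup.mem_top y)⟩
  by_cases hs : IsSimpleGroup G
  · exact ((⟨hp5, h, hs, hcomm, hprop⟩ : Min p G)).false.elim
  obtain ⟨N, hN, hNb, hNt⟩ : ∃ N : Subgroup G, N.Normal ∧ N ≠ ⊥ ∧ N ≠ ⊤ := by
    by_contra hne
    push Not at hne
    exact hs ⟨fun N hN => or_iff_not_imp_left.mpr (hne N hN)⟩
  obtain ⟨q, N1, hq, hN1n, hN1b, hN1N, hN1c, hN1p, -⟩ :=
    Coprime.exists_normal_abelian_pgroup_le (N := N) hNb (hprop N hNt)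
  haveI := Fact.mk hq
  haveI : Group.IsSolvable ↥N1 := Coprime.isSolvable_of_isMulCommutative N1
  have hlt : Nat.card (G ⧸ N1) < Nat.card G := by
    have h1 := N1.card_eq_card_quotient_mul_card_subgroup
    have h2 : 1 < Nat.card N1 := by
      rw [Finite.one_lt_card_iff_nontrivial, Subgroup.nontrivial_iff_ne_bot]; exact hN1b
    have h3 : 0 < Nat.card (G ⧸ N1) := Nat.card_pos
    nlinarith
  have hsolQ : Group.IsSolvable (G ⧸ N1) := by
    by_cases hK : ∀ K : Subgroup (G ⧸ N1), ¬ p ∣ Nat.card K → K ≠ ⊤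
    · exact ih _ hlt (G ⧸ N1) rfl (hyp_quotient h N1 (fun X _ hX => hprop X hX) hK)
    · push Not at hK
      obtain ⟨K, hK, rfl⟩ := hK
      rw [Subgroup.card_top, ← Subgroup.index] at hK
      obtain ⟨k, hk⟩ := IsPGroup.iff_card.mp hN1p
      by_cases hqp : q = p
      · subst hqp
        obtain ⟨C, hC⟩ := Subgroup.exists_right_complement'_of_coprime (N := N1) (by
          rw [hk]; exact ((coprime_of_not_dvd hK).symm).pow_left k)
        have hCc : ¬ q ∣ Nat.card C := by
          rwa [← hC.symm.index_eq_card]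
        have hab := h.isMulCommutative hCc
        haveI := Coprime.isSolvable_of_isMulCommutative C
        refine Group.isSolvable_of_surjective (f := (QuotientGroup.mk' N1).comp C.subtype) ?_
        intro y
        obtain ⟨g, rfl⟩ := QuotientGroup.mk'_surjective N1 y
        obtain ⟨⟨a, c⟩, hac⟩ := hC.2 g
        refine ⟨c, ?_⟩
        rw [← hac, map_mul]
        rw [show QuotientGroup.mk' N1 (a : G) = 1 from (QuotientGroup.eq_one_iff _).mpr a.2, one_mul]
        rfl
      · have hG' : ¬ p ∣ Nat.card G := by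
          rw [← N1.index_mul_card, hk]
          intro hd
          rcases (Fact.out : p.Prime).dvd_mul.mp hd with hd | hd
          · exact hK hd
          · exact hqp ((Nat.prime_dvd_prime_iff_eq Fact.out hq).mp
              ((Fact.out : p.Prime).dvd_of_dvd_pow hd)).symm
        haveI : IsMulCommutative ↥(⊤ : Subgroup G) := h.isMulCommutative (by rwa [Subgroup.card_top])
        haveI := Coprime.isSolvable_of_isMulCommutative (⊤ : Subgroup G)
        exact Group.isSolvable_of_surjective
          (f := (QuotientGroup.mk' N1).comp (⊤ : Subgroup G).subtype)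
          fun y => by
            obtain ⟨g, rfl⟩ := QuotientGroup.mk'_surjective N1 y
            exact ⟨⟨g, trivial⟩, rfl⟩
  exact (Group.isSolvable_iff_subgroup_quotient N1).mpr ⟨inferInstance, hsolQ⟩

/-- Let p be a prime and G a finite group in which every subgroup of order prime to p is abelian of exponent dividing p − 1. Then G is solvable. -/
theorem result {G : Type*} [Group G] [Finite G] (p : ℕ) [Fact p.Prime] (h : ∀ H : Subgroup G, (Nat.card ↥H).Coprime p → IsMulCommutative ↥H ∧ ∀ x ∈ H, x ^ (p - 1) = 1) : Group.IsSolvable G := by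
  by_cases hp5 : 5 ≤ p
  · exact solvable_aux hp5 _ G rfl h
  · exact small_prime h hp5

end Cfsg.Agent.S1936
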