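import Cfsg.Statements.S1939
-- import your own Cfsg.Agent.* helpers here

set_option autoImplicit false
open Cfsg

namespace Cfsg.Agent.S1939

/-- Let S be a Sylow p-subgroup of the finite group G and a an element of S that is the only G-conjugate of a lying in S. Then every power of a has the same property: for every n, the only G-conjugate of a^n lying in S is a^n. -/
theorem result {G : Type*} [Group G] [Finite G] {p : ℕ} [Fact p.Prime] (S : Sylow p G) (a : G)
    (haS : a ∈ (S : Subgroup G)) (hwc : ∀ g : G, g * a * g⁻¹ ∈ (S : Subgroup G) → g * a * g⁻¹ = a) (n : ℕ) :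
    ∀ g : G, g * a ^ n * g⁻¹ ∈ (S : Subgroup G) → g * a ^ n * g⁻¹ = a ^ n := by
  intro g hb
  classical
  generalize hbdef : g * a ^ n * g⁻¹ = b at hb
  have hconjS : ∀ (T : Sylow p G) (h : G), (T : Subgroup G) = (S : Subgroup G).map (MulAut.conj h).toMonoidHom →
      ∀ u ∈ (T : Subgroup G), ∀ v ∈ (T : Subgroup G), (∃ c, c * a * c⁻¹ = u) → (∃ c, c * a * c⁻¹ = v) → u = v := by
    intro T h hT u hu v hv ⟨cu, hcu⟩ ⟨cv, hcv⟩
    rw [hT] at hu hv
    obtain ⟨u0, hu0, rfl⟩ := hu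
    obtain ⟨v0, hv0, rfl⟩ := hv
    have e1 : u0 = a := by
      have h' : (h⁻¹ * cu) * a * (h⁻¹ * cu)⁻¹ = u0 := by
        calc (h⁻¹ * cu) * a * (h⁻¹ * cu)⁻¹ = h⁻¹ * (cu * a * cu⁻¹) * h := by group
          _ = _ := by rw [hcu]; simp [mul_assoc]
      rw [← h']; exact hwc _ (by rw [h']; exact hu0)
    have e2 : v0 = a := by
      have h' : (h⁻¹ * cv) * a * (h⁻¹ * cv)⁻¹ = v0 := by
        calc (h⁻¹ * cv) * a * (h⁻¹ * cv)⁻¹ = h⁻¹ * (cv * a * cv⁻¹) * h := by group
          _ = _ := by rw [hcv]; simp [mul_assoc]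
      rw [← h']; exact hwc _ (by rw [h']; exact hv0)
    rw [e1, e2]
  have hac : ∀ y ∈ (S : Subgroup G), y * a = a * y := by
    intro y hy
    have := hwc y (mul_mem (mul_mem hy haS) (inv_mem hy))
    exact mul_inv_eq_iff_eq_mul.1 this
  have haC : a ∈ Subgroup.centralizer ({b} : Set G) :=
    Subgroup.mem_centralizer_singleton_iff.2 (hac b hb).symm
  let c' := g * a * g⁻¹
  have hc'C : c' ∈ Subgroup.centralizer ({b} : Set G) := by
    rw [Subgroup.mem_centralizer_singleton_iff, ← hbdef]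
    show g * a * g⁻¹ * (g * a ^ n * g⁻¹) = g * a ^ n * g⁻¹ * (g * a * g⁻¹)
    calc g * a * g⁻¹ * (g * a ^ n * g⁻¹) = g * (a * a ^ n) * g⁻¹ := by group
      _ = g * (a ^ n * a) * g⁻¹ := by rw [← pow_succ', pow_succ]
      _ = _ := by group
  let C := Subgroup.centralizer ({b} : Set G)
  have hpa : IsPGroup p (Subgroup.zpowers a) := S.2.to_le (Subgroup.zpowers_le.2 haS)
  have hpc : IsPGroup p (Subgroup.zpowers c') := by
    have : (Subgroup.zpowers a).map (MulAut.conj g).toMonoidHom = Subgroup.zpowers c' := by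
      rw [MonoidHom.map_zpowers]; rfl
    rw [← this]; exact hpa.map _
  have mkp : ∀ (u : G) (hu : u ∈ C), IsPGroup p (Subgroup.zpowers u) → IsPGroup p (Subgroup.zpowers (⟨u, hu⟩ : C)) := by
    intro u hu h
    have : (Subgroup.zpowers u).comap C.subtype = Subgroup.zpowers (⟨u, hu⟩ : C) := by
      apply Subgroup.map_injective C.subtype_injective
      rw [Subgroup.map_comap_eq_self, MonoidHom.map_zpowers]
      · rfl
      · rw [Subgroup.range_subtype]; exact Subgroup.zpowers_le.2 hu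
    rw [← this]
    exact h.comap_of_injective _ C.subtype_injective
  obtain ⟨P₁, hP₁⟩ := (mkp a haC hpa).exists_le_sylow
  obtain ⟨P₂, hP₂⟩ := (mkp c' hc'C hpc).exists_le_sylow
  obtain ⟨d, hd⟩ := MulAction.exists_smul_eq C P₂ P₁
  obtain ⟨T, hT⟩ := (P₁.2.map C.subtype).exists_le_sylow
  obtain ⟨h, hh⟩ := MulAction.exists_smul_eq G S T
  have hTS : (T : Subgroup G) = (S : Subgroup G).map (MulAut.conj h).toMonoidHom := by
    rw [← hh]; rfl
  have hmem : (d : G) * c' * (d : G)⁻¹ ∈ (T : Subgroup G) := by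
    refine hT ?_
    refine ⟨d * ⟨c', hc'C⟩ * d⁻¹, ?_, rfl⟩
    rw [← hd]
    exact ⟨⟨c', hc'C⟩, hP₂ (Subgroup.mem_zpowers _), rfl⟩
  have hamem : a ∈ (T : Subgroup G) := hT ⟨⟨a, haC⟩, hP₁ (Subgroup.mem_zpowers _), rfl⟩
  have e := hconjS T h hTS _ hmem a hamem
    ⟨(d : G) * g, by show _ = (d : G) * (g * a * g⁻¹) * (d : G)⁻¹; group⟩ ⟨1, by group⟩
  have hdb : (d : G) * b = b * (d : G) := Subgroup.mem_centralizer_singleton_iff.1 d.2
  calc b = (d : G) * b * (d : G)⁻¹ := by rw [hdb]; group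
    _ = ((d : G) * c' * (d : G)⁻¹) ^ n := by rw [← hbdef, conj_pow, conj_pow]
    _ = a ^ n := by rw [e]

end Cfsg.Agent.S1939
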