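import Cfsg.Statements.S1940
-- import your own Cfsg.Agent.* helpers here

set_option autoImplicit false
open Cfsg

namespace Cfsg.Agent.S1940

/-- Let the finite group L act by automorphisms on the finite abelian group M, and let N be an L-invariant subgroup of M such that M/N is a p-group on which L acts trivially (every l • m lies in the coset mN). If every element of M is a product of an element of N and an element fixed by a Sylow p-subgroup T of L, then every element of M is a product of an element of N and an element fixed by all of L. -/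
theorem result {L : Type*} [Group L] [Finite L] {M : Type*} [CommGroup M] [Finite M] [MulDistribMulAction L M]
    {p : ℕ} [Fact p.Prime] (N : Subgroup M) (hN : ∀ (l : L) (m : M), m ∈ N → l • m ∈ N)
    (hquot : IsPGroup p (M ⧸ N)) (htriv : ∀ (l : L) (m : M), (l • m) * m⁻¹ ∈ N) (T : Sylow p L)
    (hT : ∀ m : M, ∃ n ∈ N, ∃ c : M, (∀ t ∈ (T : Subgroup L), t • c = c) ∧ m = n * c) :
    ∀ m : M, ∃ n ∈ N, ∃ c : M, (∀ l : L, l • c = c) ∧ m = n * c := by
  classical
  intro m
  obtain ⟨n₀, hn₀, c, hc, rfl⟩ := hT m
  obtain ⟨e, he⟩ : ∃ e : ℕ, (c : M ⧸ N) ^ (T.index * e) = (c : M ⧸ N) := by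
    obtain ⟨k, hk⟩ := hquot (c : M ⧸ N)
    have hco : T.index.Coprime (p ^ k) :=
      ((Fact.out : p.Prime).coprime_iff_not_dvd.2 T.not_dvd_index).symm.pow_right k
    have hco' : (orderOf (c : M ⧸ N)).Coprime T.index := (hco.coprime_dvd_right (orderOf_dvd_of_pow_eq_one hk)).symm
    obtain ⟨e, he⟩ := exists_pow_eq_self_of_coprime hco'.symm
    exact ⟨e, by rw [pow_mul]; exact he⟩
  letI : Fintype (L ⧸ (T : Subgroup L)) := Fintype.ofFinite _
  have hwd : ∀ x y : L, (QuotientGroup.leftRel (T : Subgroup L)).r x y → x • c = y • c := by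
    intro x y h
    rw [QuotientGroup.leftRel_apply] at h
    have := congrArg (fun t => x • t) (hc _ h)
    simpa [← mul_smul] using this.symm
  let f : L ⧸ (T : Subgroup L) → M := fun q => Quotient.liftOn' q (fun x => x • c) hwd
  have hfs : ∀ (l : L) q, l • f q = f (l • q) := by
    intro l q
    induction q using Quotient.inductionOn' with
    | h x => exact (mul_smul l x c).symm
  let s := ∏ q, f q
  have hs : ∀ l : L, l • s = s := by
    intro l
    show l • ∏ q, f q = _
    rw [Finset.smul_prod']
    simp only [hfs]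
    exact Fintype.prod_equiv (MulAction.toPerm l) _ _ (fun q => rfl)
  have hsmod : (s : M ⧸ N) = (c : M ⧸ N) ^ T.index := by
    show QuotientGroup.mk' N (∏ q, f q) = _
    rw [map_prod]
    have : ∀ q, QuotientGroup.mk' N (f q) = (c : M ⧸ N) := by
      intro q
      induction q using Quotient.inductionOn' with
      | h x =>
        show ((x • c : M) : M ⧸ N) = c
        rw [QuotientGroup.eq_iff_div_mem, div_eq_mul_inv]
        exact htriv x c
    simp only [this, Finset.prod_const, Finset.card_univ]
    congr 1
    rw [← Nat.card_eq_fintype_card]; rfl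
  refine ⟨n₀ * (c / s ^ e), mul_mem hn₀ ?_, s ^ e, fun l => by rw [smul_pow', hs], ?_⟩
  · rw [← QuotientGroup.eq_iff_div_mem, QuotientGroup.mk_pow, hsmod, ← pow_mul, he]
  · rw [mul_assoc, div_mul_cancel]

end Cfsg.Agent.S1940
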