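import Cfsg.Statements.S1941
import Cfsg.Agent.Lib.Components.GenFitting
import Cfsg.Agent.Lib.Cores.Fitting
import Cfsg.Agent.Lib.Cores.PCore

set_option autoImplicit false
open Cfsg

namespace Cfsg.Agent.S1941

/-- Let G be a finite group with no nontrivial normal subgroup of order prime to p, T a Sylow p-subgroup of G and E(G) the layer of G (the subgroup generated by its components). An automorphism of G of p-power order that fixes T and E(G) elementwise is inner. -/
theorem result {G : Type*} [Group G] [Finite G] {p : ℕ} [Fact p.Prime] (hcore : Cfsg.pPrimeCore p G = ⊥)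
    (T : Sylow p G) (α : MulAut G) (hα : ∃ j : ℕ, orderOf α = p ^ j) (hfixT : ∀ x ∈ (T : Subgroup G), α x = x)
    (hfixE : ∀ x ∈ Cfsg.layer G, α x = x) : ∃ g : G, ∀ x : G, α x = g * x * g⁻¹ := by
  classical
  set A := Subgroup.centralizer (Cfsg.generalizedFittingSubgroup G : Set G) with hA
  have hAn : A.Normal := by rw [hA]; infer_instance
  have hFp : Cfsg.fittingSubgroup G ≤ Cfsg.pCore p G := by
    have h := Cfsg.Agent.Lib.Cores.fittingSubgroup_le_pCore_sup_pPrimeCore (G := G) p
    rwa [hcore, sup_bot_eq] at h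
  have hAp : IsPGroup p A := (Cfsg.Agent.Lib.Cores.pCore_isPGroup p G).to_le
    (Cfsg.Agent.Lib.Components.centralizer_genFitting_le_fittingSubgroup.trans hFp)
  have hAc : ∀ a b : A, a * b = b * a := fun a b => Subtype.ext ((Subgroup.mem_centralizer_iff.1 b.2) a
    (Cfsg.Agent.Lib.Components.centralizer_genFitting_le a.2))
  letI : CommGroup A := { (inferInstance : Group A) with mul_comm := hAc }
  have hfixF : ∀ y ∈ Cfsg.generalizedFittingSubgroup G, α y = y := by
    have h : Cfsg.generalizedFittingSubgroup G ≤ MonoidHom.eqLocus α.toMonoidHom (MonoidHom.id G) :=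
      sup_le hfixE fun x hx => hfixT x ((Cfsg.Agent.Lib.Cores.pCore_le_sylow T) (hFp hx))
    exact fun y hy => h hy
  have hd : ∀ g : G, α g * g⁻¹ ∈ A := fun g => Subgroup.mem_centralizer_iff.2 fun y hy => by
    have h1 := hfixF _ ((inferInstance : (Cfsg.generalizedFittingSubgroup G).Normal).conj_mem' y hy g)
    rw [map_mul, map_mul, map_inv, hfixF y hy] at h1
    calc y * (α g * g⁻¹) = α g * ((α g)⁻¹ * y * α g) * g⁻¹ := by group
      _ = α g * (g⁻¹ * y * g) * g⁻¹ := by rw [h1]
      _ = α g * g⁻¹ * y := by group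
  let d : G → A := fun g => ⟨α g * g⁻¹, hd g⟩
  let cj : G → A ≃* A := fun g => MulAut.conjNormal g
  have hd' : ∀ g h, d (g * h) = d g * cj g (d h) := fun g h => Subtype.ext (by
    simp only [d, cj, Subgroup.coe_mul, MulAut.conjNormal_apply, map_mul]; group)
  have hdT : ∀ g, ∀ t ∈ (T : Subgroup G), d (g * t) = d g := fun g t ht => Subtype.ext (by
    show α (g * t) * (g * t)⁻¹ = α g * g⁻¹
    rw [map_mul, hfixT t ht]; group)
  let f : G ⧸ (T : Subgroup G) → A := fun q => d q.out
  have hf : ∀ g : G, f (g : G ⧸ (T : Subgroup G)) = d g := fun g => by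
    obtain ⟨t, ht⟩ := QuotientGroup.mk_out_eq_mul (T : Subgroup G) g
    show d _ = _
    rw [ht, hdT g t t.2]
  letI := Fintype.ofFinite (G ⧸ (T : Subgroup G))
  set m := Fintype.card (G ⧸ (T : Subgroup G)) with hm
  have hcop : p.Coprime m := by
    rw [hm, ← Nat.card_eq_fintype_card]
    exact ((Fact.out : p.Prime).coprime_iff_not_dvd).2 T.not_dvd_index
  set a := ∏ q, f q with ha
  obtain ⟨b, hb⟩ : ∃ b : A, b ^ m = a := ⟨(hAp.powEquiv hcop).symm a, (hAp.powEquiv hcop).apply_symm_apply a⟩
  have hkey : ∀ g, (d g) ^ m * cj g a = a := fun g => by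
    rw [ha, map_prod, hm, ← Finset.card_univ, ← Finset.prod_const, ← Finset.prod_mul_distrib]
    refine Fintype.prod_equiv (MulAction.toPerm g) _ _ fun q => ?_
    obtain ⟨x, rfl⟩ := QuotientGroup.mk_surjective q
    rw [MulAction.toPerm_apply, MulAction.Quotient.smul_coe, smul_eq_mul, hf, hf, hd']
  refine ⟨(b : G), fun g => ?_⟩
  have h1 : d g * cj g b = b := (hAp.powEquiv hcop).injective (by
    show (d g * cj g b) ^ m = b ^ m
    rw [mul_pow, ← map_pow, hb, hkey g])
  have h2 : α g * g⁻¹ * (g * (b : G) * g⁻¹) = (b : G) := congrArg Subtype.val h1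
  calc α g = α g * g⁻¹ * (g * (b : G) * g⁻¹) * g * (b : G)⁻¹ := by group
    _ = _ := by rw [h2]

end Cfsg.Agent.S1941
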