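import Cfsg.Statements.S1944
import Cfsg.Agent.Lib.FusionControl.Section
import Cfsg.Agent.Lib.Components.Constrained

set_option autoImplicit false
open Cfsg

namespace Cfsg.Agent.S1944

open Cfsg.Agent.Lib.FusionControl
open Finset

universe u

variable {G : Type u} [Group G] [Finite G] {p : ℕ} [Fact p.Prime]

lemma sylow_inj (S : Sylow p G) {a b : G} (ha : a ∈ (S : Subgroup G)) (hb : b ∈ (S : Subgroup G))
    (h : QuotientGroup.mk' (Cfsg.pPrimeCore p G) a = QuotientGroup.mk' (Cfsg.pPrimeCore p G) b) : a = b := by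
  have h1 : a⁻¹ * b ∈ (S : Subgroup G) ⊓ Cfsg.pPrimeCore p G :=
    Subgroup.mem_inf.2 ⟨mul_mem (inv_mem ha) hb, QuotientGroup.eq.1 h⟩
  rw [Cfsg.Agent.Lib.Components.isPGroup_inf_pPrimeCore_eq_bot S.2, Subgroup.mem_bot, inv_mul_eq_one] at h1
  exact h1

theorem split (S : Sylow p G)
    (hZ : ((S : Subgroup G) ⊓ Subgroup.centralizer ((S : Subgroup G) : Set G)) ≤ Cfsg.pPrimePCore p G) :
    ∃ W K : Subgroup G, (∀ x : G, x ∈ W ↔ (x ∈ (S : Subgroup G) ∧ ∀ g : G, g * x * g⁻¹ ∈ (S : Subgroup G) → g * x * g⁻¹ = x)) ∧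
      K ≤ ((S : Subgroup G) ⊓ Subgroup.centralizer ((S : Subgroup G) : Set G)) ∧ W ⊓ K = ⊥ ∧ W ⊔ K = ((S : Subgroup G) ⊓ Subgroup.centralizer ((S : Subgroup G) : Set G)) := by
  classical
  set Z := (S : Subgroup G) ⊓ Subgroup.centralizer ((S : Subgroup G) : Set G) with hZdef
  set N := Cfsg.pPrimeCore p G with hN
  set π := QuotientGroup.mk' N with hπ
  have hπs : Function.Surjective π := QuotientGroup.mk'_surjective N
  set O := Cfsg.pPrimePCore p G with hO
  have hOn : O.Normal := Cfsg.Agent.Lib.Components.pPrimePCore_normal' p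
  have hSb : Cfsg.pCore p (G ⧸ N) ≤ (S : Subgroup G).map π :=
    (pCore_le_S (S.mapSurjective hπs)).trans (Sylow.coe_mapSurjective hπs S).le
  have hOpi : ∀ x ∈ O, π x ∈ Cfsg.pCore p (G ⧸ N) := fun x hx => hx
  -- weakly closed means central modulo the `p'`-core
  have hiff : ∀ x : G, (x ∈ (S : Subgroup G) ∧ π x ∈ Subgroup.center (G ⧸ N)) ↔
      (x ∈ (S : Subgroup G) ∧ ∀ g : G, g * x * g⁻¹ ∈ (S : Subgroup G) → g * x * g⁻¹ = x) := by
    intro x
    constructor
    · rintro ⟨hxS, hxc⟩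
      refine ⟨hxS, fun g hg => sylow_inj S hg hxS ?_⟩
      show π (g * x * g⁻¹) = π x
      rw [map_mul, map_mul, map_inv, Subgroup.mem_center_iff.1 hxc (π g), mul_inv_cancel_right]
    · rintro ⟨hxS, hxw⟩
      have hxZ : x ∈ Z := Subgroup.mem_inf.2 ⟨hxS, Subgroup.mem_centralizer_iff.2 fun s hs => by
        have := hxw s (mul_mem (mul_mem hs hxS) (inv_mem hs))
        exact mul_inv_eq_iff_eq_mul.1 this⟩
      refine ⟨hxS, Subgroup.mem_center_iff.2 fun u => ?_⟩
      obtain ⟨g, rfl⟩ := hπs u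
      obtain ⟨s, hs, hse⟩ := hSb (hOpi _ (hOn.conj_mem x (hZ hxZ) g))
      -- move the conjugate into `S` inside `O`
      have hTi : ¬ p ∣ ((S : Subgroup G) ⊓ O).relIndex O :=
        not_dvd_relIndex_inf le_top S.2 (sylow_relIndex_top S) le_top (by rw [Subgroup.normalizer_eq_top])
      obtain ⟨k, hk, hle⟩ := exists_cj_le_of_not_dvd (inf_le_right : (S : Subgroup G) ⊓ O ≤ O) (S.2.to_le inf_le_left)
        hTi (Q := Subgroup.zpowers (g * x * g⁻¹)) (Subgroup.zpowers_le.2 (hOn.conj_mem x (hZ hxZ) g))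
        ((show IsPGroup p (cj g (S : Subgroup G)) from isPGroup_cj S.2).to_le (Subgroup.zpowers_le.2 (conj_mem_cj hxS)))
      have h1 := hle (conj_mem_cj (g := k) (Subgroup.mem_zpowers (g * x * g⁻¹)))
      have h2 : k * g * x * (k * g)⁻¹ = x := hxw _ (by
        have := (Subgroup.mem_inf.1 h1).1
        simpa [mul_assoc] using this)
      obtain ⟨t, ht, hte⟩ := hSb (hOpi k hk)
      have h3 : π k * (π g * π x * (π g)⁻¹) * (π k)⁻¹ = π x := by
        rw [← map_inv, ← map_inv, ← map_mul, ← map_mul, ← map_mul, ← map_mul]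
        congr 1
        conv_rhs => rw [← h2]
        group
      have htx : π t * π x = π x * π t := by
        rw [← map_mul, ← map_mul, Subgroup.mem_centralizer_iff.1 (Subgroup.mem_inf.1 hxZ).2 t ht]
      rw [← hte] at h3
      have h4 : π g * π x * (π g)⁻¹ = π x := by
        calc π g * π x * (π g)⁻¹ = (π t)⁻¹ * (π t * (π g * π x * (π g)⁻¹) * (π t)⁻¹) * π t := by group
          _ = (π t)⁻¹ * π x * π t := by rw [h3]
          _ = _ := by rw [mul_assoc, ← htx, inv_mul_cancel_left]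
      exact mul_inv_eq_iff_eq_mul.1 h4
  let W : Subgroup G := (S : Subgroup G) ⊓ (Subgroup.center (G ⧸ N)).comap π
  have hWiff : ∀ x : G, x ∈ W ↔ (x ∈ (S : Subgroup G) ∧ ∀ g : G, g * x * g⁻¹ ∈ (S : Subgroup G) → g * x * g⁻¹ = x) :=
    fun x => Subgroup.mem_inf.trans (hiff x)
  have hWZ : W ≤ Z := fun x hx => by
    obtain ⟨hxS, hxw⟩ := (hWiff x).1 hx
    exact Subgroup.mem_inf.2 ⟨hxS, Subgroup.mem_centralizer_iff.2 fun s hs =>
      mul_inv_eq_iff_eq_mul.1 (hxw s (mul_mem (mul_mem hs hxS) (inv_mem hs)))⟩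
  -- the abelian normal subgroup receiving the trace
  set M := Cfsg.pCore p (G ⧸ N) ⊓ Subgroup.centralizer (Cfsg.pCore p (G ⧸ N) : Set (G ⧸ N)) with hM
  have hMn : M.Normal := by rw [hM]; infer_instance
  letI : CommGroup M := { (inferInstance : Group M) with
    mul_comm := fun a b => Subtype.ext
      (Subgroup.mem_centralizer_iff.1 (Subgroup.mem_inf.1 b.2).2 _ (Subgroup.mem_inf.1 a.2).1) }
  have hZM : ∀ z ∈ Z, π z ∈ M := fun z hz => Subgroup.mem_inf.2 ⟨hOpi z (hZ hz), by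
    rw [Subgroup.mem_centralizer_iff]
    intro u hu
    obtain ⟨s, hs, rfl⟩ := hSb hu
    rw [← map_mul, ← map_mul, Subgroup.mem_centralizer_iff.1 (Subgroup.mem_inf.1 hz).2 s hs]⟩
  obtain ⟨f, hf⟩ : ∃ f : G → Z → M, ∀ g z, (f g z : G ⧸ N) = π g * π z * (π g)⁻¹ :=
    ⟨fun g z => ⟨_, hMn.conj_mem (π z) (hZM z z.2) (π g)⟩, fun g z => rfl⟩
  have hfmul : ∀ g, ∀ a b : Z, f g (a * b) = f g a * f g b := fun g a b => Subtype.ext (by
    rw [Subgroup.coe_mul, hf, hf, hf, Subgroup.coe_mul, map_mul]; group)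
  have hfconj : ∀ g h z, MulAut.conjNormal (π g) (f h z) = f (g * h) z := fun g h z => Subtype.ext (by
    rw [MulAut.conjNormal_apply, hf, hf, map_mul]; group)
  have hfS : ∀ (h s : G) (z : Z), s ∈ (S : Subgroup G) → f (h * s) z = f h z := fun h s z hs => Subtype.ext (by
    have h1 : π s * π z = π z * π s := by
      rw [← map_mul, ← map_mul, Subgroup.mem_centralizer_iff.1 (Subgroup.mem_inf.1 z.2).2 s hs]
    rw [hf, hf, map_mul]
    calc π h * π s * π z * (π h * π s)⁻¹ = π h * (π s * π z * (π s)⁻¹) * (π h)⁻¹ := by group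
      _ = _ := by rw [h1, mul_inv_cancel_right])
  let := Fintype.ofFinite (G ⧸ (S : Subgroup G))
  obtain ⟨τ, hτ⟩ : ∃ τ : Z →* M, ∀ z, τ z = ∏ q : G ⧸ (S : Subgroup G), f q.out z :=
    ⟨MonoidHom.mk' (fun z => ∏ q : G ⧸ (S : Subgroup G), f q.out z) (fun a b => by
      rw [← prod_mul_distrib]; exact prod_congr rfl fun q _ => hfmul _ a b), fun z => rfl⟩
  have hτinv : ∀ (g : G) (z : Z), MulAut.conjNormal (π g) (τ z) = τ z := by
    intro g z
    rw [hτ, map_prod, ← Equiv.prod_comp (MulAction.toPerm g : Equiv.Perm (G ⧸ (S : Subgroup G))) (fun q => f q.out z)]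
    refine prod_congr rfl fun q _ => ?_
    rw [hfconj, MulAction.toPerm_apply]
    have hs : (g * q.out)⁻¹ * (g • q).out ∈ (S : Subgroup G) := by
      rw [← QuotientGroup.eq, QuotientGroup.out_eq', ← smul_eq_mul, MulAction.Quotient.coe_smul_out]
    obtain ⟨s, hs', e⟩ : ∃ s ∈ (S : Subgroup G), (g • q).out = g * q.out * s := ⟨_, hs, by group⟩
    rw [e, hfS _ s z hs']
  set n := (S : Subgroup G).index with hn
  have hτW : ∀ (z : Z), (z : G) ∈ W → (τ z : G ⧸ N) = π z ^ n := by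
    intro z hz
    have h1 : ∀ g : G, f g z = ⟨π z, hZM z z.2⟩ := fun g => Subtype.ext (by
      rw [hf, Subgroup.mem_center_iff.1 (Subgroup.mem_inf.1 hz).2 (π g), mul_inv_cancel_right])
    rw [hτ, prod_congr rfl fun q _ => h1 q.out, prod_const, card_univ, ← Nat.card_eq_fintype_card,
      SubmonoidClass.coe_pow]
    rfl
  obtain ⟨e, he⟩ := S.2.exists_card_eq
  have hcop : n.Coprime (p ^ e) := (((Nat.Prime.coprime_iff_not_dvd Fact.out).2 S.not_dvd_index).symm).pow_right e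
  let K : Subgroup G := τ.ker.map Z.subtype
  have hKZ : K ≤ Z := Subgroup.map_subtype_le _
  refine ⟨W, K, hWiff, hKZ, eq_bot_iff.2 ?_, le_antisymm (sup_le hWZ hKZ) ?_⟩
  · rintro x ⟨hxW, z, hz, rfl⟩
    have h1 : π (z : G) ^ n = 1 := by
      rw [← hτW z hxW, MonoidHom.mem_ker.1 hz]; rfl
    have hzS : (z : G) ∈ (S : Subgroup G) := (Subgroup.mem_inf.1 z.2).1
    have h2 : (z : G) ^ n = 1 := sylow_inj S (pow_mem hzS n) (one_mem _) (by rw [map_pow, h1, map_one])
    rw [Subgroup.mem_bot]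
    exact Cfsg.Agent.Lib.Transfer.eq_one_of_isPGroup_of_coprime S.2 hzS
      (Nat.Coprime.coprime_dvd_left (orderOf_dvd_of_pow_eq_one h2) ((Nat.Prime.coprime_iff_not_dvd Fact.out).2 S.not_dvd_index).symm)
  · intro x hx
    obtain ⟨s, hs, hse⟩ := hSb (Subgroup.mem_inf.1 (τ ⟨x, hx⟩).2).1
    have hsW : s ∈ W := Subgroup.mem_inf.2 ⟨hs, Subgroup.mem_center_iff.2 fun u => by
      obtain ⟨g, rfl⟩ := hπs u
      have := congrArg Subtype.val (hτinv g ⟨x, hx⟩)
      rw [MulAut.conjNormal_apply, ← hse] at this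
      exact mul_inv_eq_iff_eq_mul.1 this⟩
    obtain ⟨k, hk⟩ := exists_pow_eq_self_of_coprime (x := s) (n := n) (Nat.Coprime.coprime_dvd_right (by
      rw [← he, ← Subgroup.orderOf_mk s hs]; exact orderOf_dvd_natCard _) hcop)
    have hw : τ ⟨s ^ k, hWZ (pow_mem hsW k)⟩ = τ ⟨x, hx⟩ := Subtype.ext (by
      rw [hτW _ (pow_mem hsW k), ← hse, ← map_pow]
      show π ((s ^ k) ^ n) = π s
      rw [← pow_mul, mul_comm, pow_mul, hk])
    have hxK : (s ^ k)⁻¹ * x ∈ K := ⟨⟨s ^ k, hWZ (pow_mem hsW k)⟩⁻¹ * ⟨x, hx⟩,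
      by rw [SetLike.mem_coe, MonoidHom.mem_ker, map_mul, map_inv, hw, inv_mul_cancel], rfl⟩
    rw [show x = s ^ k * ((s ^ k)⁻¹ * x) by group]
    exact mul_mem (Subgroup.mem_sup_left (pow_mem hsW k)) (Subgroup.mem_sup_right hxK)

/-- Let S be a Sylow p-subgroup of the finite group G and suppose that the centre Z(S) lies in O_{p',p}(G). The elements of S each of which is its only G-conjugate in S form a subgroup W of Z(S); W is then a direct factor of Z(S): there is a subgroup K of Z(S) with W ∩ K = 1 and WK = Z(S). -/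
theorem result {G : Type*} [Group G] [Finite G] {p : ℕ} [Fact p.Prime] (S : Sylow p G)
    (hZ : ((S : Subgroup G) ⊓ Subgroup.centralizer ((S : Subgroup G) : Set G)) ≤ Cfsg.pPrimePCore p G) :
    ∃ W K : Subgroup G, (∀ x : G, x ∈ W ↔ (x ∈ (S : Subgroup G) ∧ ∀ g : G, g * x * g⁻¹ ∈ (S : Subgroup G) → g * x * g⁻¹ = x)) ∧
      K ≤ ((S : Subgroup G) ⊓ Subgroup.centralizer ((S : Subgroup G) : Set G)) ∧ W ⊓ K = ⊥ ∧ W ⊔ K = ((S : Subgroup G) ⊓ Subgroup.centralizer ((S : Subgroup G) : Set G)) := by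
  exact split S hZ

end Cfsg.Agent.S1944
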