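import Cfsg.Statements.S1945
import Cfsg.Agent.Lib.FusionControl.KWeakElement
import Cfsg.Agent.Lib.OddLocal.PStable

set_option autoImplicit false
open Cfsg

namespace Cfsg.Agent.S1945

open Cfsg.Agent.Lib.FusionControl

universe u

variable {p : ℕ} [Fact p.Prime]

/-- the centre of `S` splits off the part central in the group, via the trace into a normal abelian subgroup -/
theorem exists_complement_central {X : Type*} [Group X] [Finite X] (S : Sylow p X) (A : Subgroup X) [hA : A.Normal]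
    (hAc : ∀ a ∈ A, ∀ b ∈ A, a * b = b * a) (hAS : A ≤ (S : Subgroup X))
    (hZA : (S : Subgroup X) ⊓ Subgroup.centralizer ((S : Subgroup X) : Set X) ≤ A) :
    ∃ K : Subgroup X, K ≤ (S : Subgroup X) ⊓ Subgroup.centralizer ((S : Subgroup X) : Set X) ∧
      (((S : Subgroup X) ⊓ Subgroup.centralizer ((⊤ : Subgroup X) : Set X)) ⊓ K = ⊥) ∧
      (((S : Subgroup X) ⊓ Subgroup.centralizer ((⊤ : Subgroup X) : Set X)) ⊔ K =
        (S : Subgroup X) ⊓ Subgroup.centralizer ((S : Subgroup X) : Set X)) := by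
  classical
  set Z := (S : Subgroup X) ⊓ Subgroup.centralizer ((S : Subgroup X) : Set X) with hZ
  set W := (S : Subgroup X) ⊓ Subgroup.centralizer ((⊤ : Subgroup X) : Set X) with hW
  letI : CommGroup A := { (inferInstance : Group A) with mul_comm := fun a b => Subtype.ext (hAc a a.2 b b.2) }
  let := Fintype.ofFinite (X ⧸ (S : Subgroup X))
  let cg : X → A →* A := fun g => MonoidHom.mk' (fun a => ⟨g * a * g⁻¹, hA.conj_mem _ a.2 g⟩) fun a b =>
    Subtype.ext (by show g * ((a : X) * b) * g⁻¹ = g * a * g⁻¹ * (g * b * g⁻¹); group)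
  have hcg : ∀ (g h : X) (a : A), cg g (cg h a) = cg (g * h) a := fun g h a =>
    Subtype.ext (by show g * (h * a * h⁻¹) * g⁻¹ = g * h * a * (g * h)⁻¹; group)
  let ι : Z →* A := Subgroup.inclusion hZA
  let τ : Z →* A :=
    { toFun := fun z => ∏ q : X ⧸ (S : Subgroup X), cg q.out (ι z)
      map_one' := by simp
      map_mul' := fun a b => by simp [Finset.prod_mul_distrib] }
  have hrep : ∀ (g : X) (z : Z), cg ((g : X ⧸ (S : Subgroup X))).out (ι z) = cg g (ι z) := by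
    intro g z
    have h1 : g⁻¹ * ((g : X ⧸ (S : Subgroup X))).out ∈ (S : Subgroup X) := by
      rw [← QuotientGroup.eq, QuotientGroup.out_eq']
    obtain ⟨s, hs, hse⟩ : ∃ s ∈ (S : Subgroup X), ((g : X ⧸ (S : Subgroup X))).out = g * s := ⟨_, h1, by group⟩
    rw [hse, ← hcg]
    congr 1
    refine Subtype.ext ?_
    show s * (z : X) * s⁻¹ = z
    rw [Subgroup.mem_centralizer_iff.1 (Subgroup.mem_inf.1 z.2).2 s hs, mul_inv_cancel_right]
  have hτfix : ∀ (g : X) (z : Z), cg g (τ z) = τ z := by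
    intro g z
    show cg g (∏ q : X ⧸ (S : Subgroup X), cg q.out (ι z)) = _
    rw [map_prod]
    refine Eq.trans (Finset.prod_congr rfl fun q _ => ?_)
      (Equiv.prod_comp (MulAction.toPerm g : Equiv.Perm (X ⧸ (S : Subgroup X))) fun q => cg q.out (ι z))
    obtain ⟨y, rfl⟩ := QuotientGroup.mk_surjective q
    rw [hrep, hcg]
    exact (hrep (g * y) z).symm
  have hτW : ∀ z, (τ z : X) ∈ W := fun z => Subgroup.mem_inf.2 ⟨hAS (τ z).2, Subgroup.mem_centralizer_iff.2 fun g _ =>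
    mul_inv_eq_iff_eq_mul.1 (congrArg Subtype.val (hτfix g z))⟩
  have hWZ : W ≤ Z := inf_le_inf le_rfl (Subgroup.centralizer_le (fun _ _ => Subgroup.mem_top _))
  set m := Nat.card (X ⧸ (S : Subgroup X)) with hm
  have hmp : ¬ p ∣ m := S.not_dvd_index
  have hτw : ∀ z : Z, (z : X) ∈ W → (τ z : X) = (z : X) ^ m := by
    intro z hz
    have : τ z = (ι z) ^ m := by
      show ∏ q : X ⧸ (S : Subgroup X), cg q.out (ι z) = _
      rw [Finset.prod_congr rfl (g := fun _ => ι z) (fun q _ => Subtype.ext ?_), Finset.prod_const, Finset.card_univ,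
        hm, Nat.card_eq_fintype_card]
      show q.out * (z : X) * q.out⁻¹ = z
      rw [Subgroup.mem_centralizer_iff.1 (Subgroup.mem_inf.1 hz).2 q.out (Subgroup.mem_top _), mul_inv_cancel_right]
    rw [this, Subgroup.coe_pow]
    rfl
  have hcop : ∀ x ∈ (S : Subgroup X), m.Coprime (orderOf x) := fun x hx => by
    obtain ⟨k, hk⟩ := S.2 ⟨x, hx⟩
    refine Nat.Coprime.coprime_dvd_right (orderOf_dvd_of_pow_eq_one
      (by simpa using congrArg Subtype.val hk)) ?_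
    exact (((Fact.out : p.Prime).coprime_iff_not_dvd.2 hmp).symm).pow_right k
  refine ⟨τ.ker.map Z.subtype, Subgroup.map_subtype_le _, ?_, le_antisymm (sup_le hWZ (Subgroup.map_subtype_le _)) ?_⟩
  · rw [eq_bot_iff]
    rintro _ ⟨hw, z, hz, rfl⟩
    have h1 := hτw z hw
    rw [MonoidHom.mem_ker.1 hz, Subgroup.coe_one] at h1
    exact Subgroup.mem_bot.2 (orderOf_eq_one_iff.1 (Nat.eq_one_of_dvd_coprimes (hcop _ (Subgroup.mem_inf.1 hw).1)
      (orderOf_dvd_of_pow_eq_one h1.symm) dvd_rfl))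
  · intro x hx
    obtain ⟨w, hw, hwe⟩ : ∃ w, w = (τ ⟨x, hx⟩ : X) ∧ w ∈ W := ⟨_, rfl, hτW _⟩
    obtain ⟨j, hj⟩ := exists_pow_eq_self_of_coprime (hcop w (Subgroup.mem_inf.1 hwe).1)
    rw [← pow_mul] at hj
    have hwj : w ^ j ∈ W := pow_mem hwe j
    have hk : τ (⟨w ^ j, hWZ hwj⟩⁻¹ * ⟨x, hx⟩) = 1 := by
      refine Subtype.ext ?_
      rw [map_mul, map_inv, Subgroup.coe_mul, Subgroup.coe_inv, hτw ⟨w ^ j, hWZ hwj⟩ hwj, ← hw]
      show ((w ^ j) ^ m)⁻¹ * w = 1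
      rw [← pow_mul, mul_comm, hj, inv_mul_cancel]
    have h2 : ((⟨w ^ j, hWZ hwj⟩⁻¹ * ⟨x, hx⟩ : Z) : X) ∈ τ.ker.map Z.subtype := ⟨_, hk, rfl⟩
    have h3 : w ^ j * ((w ^ j)⁻¹ * x) ∈ W ⊔ τ.ker.map Z.subtype :=
      mul_mem (Subgroup.mem_sup_left hwj) (Subgroup.mem_sup_right h2)
    simpa using h3

/-- the odd case -/
theorem case_odd {G : Type u} [Group G] [Finite G] (hp : p ≠ 2) (S : Sylow p G) :
    ∃ W K : Subgroup G, (∀ x : G, x ∈ W ↔ (x ∈ (S : Subgroup G) ∧ ∀ g : G, g * x * g⁻¹ ∈ (S : Subgroup G) → g * x * g⁻¹ = x)) ∧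
      K ≤ ((S : Subgroup G) ⊓ Subgroup.centralizer ((S : Subgroup G) : Set G)) ∧ W ⊓ K = ⊥ ∧ W ⊔ K = ((S : Subgroup G) ⊓ Subgroup.centralizer ((S : Subgroup G) : Set G)) := by
  set KS := Cfsg.inducedFunctor Cfsg.kInfLower (S : Subgroup G) with hKS
  set N := Subgroup.normalizer (KS : Set G) with hN
  have hSN : (S : Subgroup G) ≤ N := le_normalizer_inducedFunctor isCharPFunctor_kInfLower S.2
  have hKS' : KS ≤ (S : Subgroup G) := Subgroup.map_subtype_le _
  have hZK : (S : Subgroup G) ⊓ Subgroup.centralizer ((S : Subgroup G) : Set G) ≤ KS ⊓ Subgroup.centralizer (KS : Set G) := by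
    intro z hz
    obtain ⟨hz1, hz2⟩ := Subgroup.mem_inf.1 hz
    refine Subgroup.mem_inf.2 ⟨⟨⟨z, hz1⟩, (center_le_kInfLower _ S.2).1 ?_, rfl⟩, Subgroup.centralizer_le hKS' hz2⟩
    rw [Subgroup.mem_center_iff]
    intro t
    exact Subtype.ext (Subgroup.mem_centralizer_iff.1 hz2 _ t.2)
  set A := (KS ⊓ Subgroup.centralizer (KS : Set G)).subgroupOf N with hA
  have hAn : A.Normal := by
    have : (KS.subgroupOf N).Normal := Subgroup.normal_in_normalizer
    refine ⟨fun a ha g => ?_⟩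
    obtain ⟨ha1, ha2⟩ := Subgroup.mem_inf.1 (Subgroup.mem_subgroupOf.1 ha)
    refine Subgroup.mem_subgroupOf.2 (Subgroup.mem_inf.2 ⟨?_, ?_⟩)
    · exact (Subgroup.mem_normalizer_iff.1 g.2 _).1 ha1
    · rw [Subgroup.mem_centralizer_iff]
      intro k hk
      have h1 := Subgroup.mem_centralizer_iff.1 ha2 _ ((Subgroup.mem_normalizer_iff.1 (inv_mem g.2) k).1 hk)
      show k * ((g : G) * (a : G) * (g : G)⁻¹) = (g : G) * (a : G) * (g : G)⁻¹ * k
      calc k * ((g : G) * (a : G) * (g : G)⁻¹) = (g : G) * ((g : G)⁻¹ * k * (g : G)⁻¹⁻¹ * (a : G)) * (g : G)⁻¹ := by group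
        _ = (g : G) * ((a : G) * ((g : G)⁻¹ * k * (g : G)⁻¹⁻¹)) * (g : G)⁻¹ := by rw [h1]
        _ = _ := by group
  have hmap : ∀ H : Subgroup G, H ≤ N → (H.subgroupOf N).map N.subtype = H := fun H h => by
    rw [Subgroup.subgroupOf_map_subtype, inf_eq_left.2 h]
  have hZmap : (((S.subtype hSN : Sylow p N) : Subgroup N) ⊓ Subgroup.centralizer
      (((S.subtype hSN : Sylow p N) : Subgroup N) : Set N)).map N.subtype =
      (S : Subgroup G) ⊓ Subgroup.centralizer ((S : Subgroup G) : Set G) := by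
    rw [map_inf_centralizer, Sylow.coe_subtype, hmap _ hSN]
  have hWmap : (((S.subtype hSN : Sylow p N) : Subgroup N) ⊓ Subgroup.centralizer
      ((⊤ : Subgroup N) : Set N)).map N.subtype = (S : Subgroup G) ⊓ Subgroup.centralizer (N : Set G) := by
    ext x
    constructor
    · rintro ⟨y, hy, rfl⟩
      obtain ⟨h1, h2⟩ := Subgroup.mem_inf.1 hy
      rw [Sylow.coe_subtype, Subgroup.mem_subgroupOf] at h1
      exact Subgroup.mem_inf.2 ⟨h1, Subgroup.mem_centralizer_iff.2 fun n hn =>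
        congrArg Subtype.val (Subgroup.mem_centralizer_iff.1 h2 ⟨n, hn⟩ (Subgroup.mem_top _))⟩
    · intro hx
      obtain ⟨h1, h2⟩ := Subgroup.mem_inf.1 hx
      refine ⟨⟨x, hSN h1⟩, Subgroup.mem_inf.2 ⟨by rw [Sylow.coe_subtype]; exact Subgroup.mem_subgroupOf.2 h1, ?_⟩, rfl⟩
      exact Subgroup.mem_centralizer_iff.2 fun n _ => Subtype.ext (Subgroup.mem_centralizer_iff.1 h2 _ n.2)
  obtain ⟨K, hK1, hK2, hK3⟩ := exists_complement_central (S.subtype hSN) A
    (fun a ha b hb => Subtype.ext (Subgroup.mem_centralizer_iff.1 (Subgroup.mem_inf.1 (Subgroup.mem_subgroupOf.1 hb)).2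
      _ (Subgroup.mem_inf.1 (Subgroup.mem_subgroupOf.1 ha)).1))
    (by rw [Sylow.coe_subtype]; exact fun a ha => hKS' (Subgroup.mem_inf.1 ha).1)
    (fun z hz => Subgroup.mem_subgroupOf.2 (hZK (hZmap ▸ ⟨z, hz, rfl⟩)))
  refine ⟨(S : Subgroup G) ⊓ Subgroup.centralizer (N : Set G), K.map N.subtype, fun x => ⟨fun hx => ?_, ?_⟩, ?_, ?_, ?_⟩
  · exact ⟨(Subgroup.mem_inf.1 hx).1, fun g hg => weaklyClosed_element hp S hx g hg⟩
  · rintro ⟨hxS, hx⟩
    have hxZ : x ∈ Subgroup.centralizer ((S : Subgroup G) : Set G) := Subgroup.mem_centralizer_iff.2 fun s hs =>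
      mul_inv_eq_iff_eq_mul.1 (hx s (mul_mem (mul_mem hs hxS) (inv_mem hs)))
    refine Subgroup.mem_inf.2 ⟨hxS, Subgroup.mem_centralizer_iff.2 fun n hn => mul_inv_eq_iff_eq_mul.1 (hx n ?_)⟩
    exact hKS' ((Subgroup.mem_normalizer_iff.1 hn x).1 (hZK (Subgroup.mem_inf.2 ⟨hxS, hxZ⟩)).1)
  · rw [← hZmap]; exact Subgroup.map_mono hK1
  · rw [← hWmap, ← Subgroup.map_inf _ _ _ N.subtype_injective, hK2, Subgroup.map_bot]
  · rw [← hWmap, ← Subgroup.map_sup, hK3, hZmap]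

/-- the solvable case -/
theorem case_solvable {G : Type u} [Group G] [Finite G] [Group.IsSolvable G] (S : Sylow p G) :
    ∃ W K : Subgroup G, (∀ x : G, x ∈ W ↔ (x ∈ (S : Subgroup G) ∧ ∀ g : G, g * x * g⁻¹ ∈ (S : Subgroup G) → g * x * g⁻¹ = x)) ∧
      K ≤ ((S : Subgroup G) ⊓ Subgroup.centralizer ((S : Subgroup G) : Set G)) ∧ W ⊓ K = ⊥ ∧ W ⊔ K = ((S : Subgroup G) ⊓ Subgroup.centralizer ((S : Subgroup G) : Set G)) := by
  set O := Cfsg.pPrimeCore p G with hO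
  have hOn : O.Normal := by rw [hO]; infer_instance
  set f := QuotientGroup.mk' O with hf
  have hfs : Function.Surjective f := QuotientGroup.mk'_surjective O
  set T := S.mapSurjective hfs with hT
  have hTc : (T : Subgroup (G ⧸ O)) = (S : Subgroup G).map f := Sylow.coe_mapSurjective hfs S
  have hinj : ∀ a ∈ (S : Subgroup G), ∀ b ∈ (S : Subgroup G), f a = f b → a = b := fun a ha b hb h =>
    inv_mul_eq_one.1 (eq_one_of_mem_pPrimeCore S.2 (mul_mem (inv_mem ha) hb) (QuotientGroup.eq.1 h))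
  set Z := (S : Subgroup G) ⊓ Subgroup.centralizer ((S : Subgroup G) : Set G) with hZ
  have hQ := Cfsg.Agent.Lib.OddLocal.centralizer_pCore_le (G := G ⧸ O) (p := p)
    (Cfsg.Agent.Lib.Cores.pPrimeCore_quotient_pPrimeCore p G)
  set Q := Cfsg.pCore p (G ⧸ O) with hQdef
  set A := Q ⊓ Subgroup.centralizer (Q : Set (G ⧸ O)) with hA
  set ZT := (T : Subgroup (G ⧸ O)) ⊓ Subgroup.centralizer ((T : Subgroup (G ⧸ O)) : Set (G ⧸ O)) with hZT
  have hQT : Q ≤ (T : Subgroup (G ⧸ O)) := pCore_le_S T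
  have hZTA : ZT ≤ A := fun z hz => Subgroup.mem_inf.2
    ⟨hQ (Subgroup.centralizer_le hQT (Subgroup.mem_inf.1 hz).2), Subgroup.centralizer_le hQT (Subgroup.mem_inf.1 hz).2⟩
  obtain ⟨K, hK1, hK2, hK3⟩ := exists_complement_central T A
    (fun a ha b hb => Subgroup.mem_centralizer_iff.1 (Subgroup.mem_inf.1 hb).2 a (Subgroup.mem_inf.1 ha).1)
    (inf_le_left.trans hQT) hZTA
  set WT := (T : Subgroup (G ⧸ O)) ⊓ Subgroup.centralizer ((⊤ : Subgroup (G ⧸ O)) : Set (G ⧸ O)) with hWT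
  have hback : ∀ x ∈ (S : Subgroup G), f x ∈ ZT → x ∈ Z := fun x hx h => Subgroup.mem_inf.2 ⟨hx,
    Subgroup.mem_centralizer_iff.2 fun s hs => hinj _ (mul_mem hs hx) _ (mul_mem hx hs) (by
      rw [map_mul, map_mul]
      exact Subgroup.mem_centralizer_iff.1 (Subgroup.mem_inf.1 h).2 _ (hTc ▸ ⟨s, hs, rfl⟩))⟩
  have hWZ : WT ≤ ZT := inf_le_inf le_rfl (Subgroup.centralizer_le (fun _ _ => Subgroup.mem_top _))
  refine ⟨(S : Subgroup G) ⊓ WT.comap f, (S : Subgroup G) ⊓ K.comap f, fun x => ⟨fun hx => ?_, ?_⟩, ?_, ?_, le_antisymm ?_ ?_⟩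
  · obtain ⟨hxS, hxW⟩ := Subgroup.mem_inf.1 hx
    refine ⟨hxS, fun g hg => hinj _ hg _ hxS ?_⟩
    rw [map_mul, map_mul, map_inv,
      Subgroup.mem_centralizer_iff.1 (Subgroup.mem_inf.1 (Subgroup.mem_comap.1 hxW)).2 (f g) (Subgroup.mem_top _),
      mul_inv_cancel_right]
  · rintro ⟨hxS, hx⟩
    have hxZ : x ∈ Z := Subgroup.mem_inf.2 ⟨hxS, Subgroup.mem_centralizer_iff.2 fun s hs =>
      mul_inv_eq_iff_eq_mul.1 (hx s (mul_mem (mul_mem hs hxS) (inv_mem hs)))⟩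
    have hfx : f x ∈ ZT := Subgroup.mem_inf.2 ⟨hTc ▸ ⟨x, hxS, rfl⟩, by
      rw [Subgroup.mem_centralizer_iff, hTc]
      rintro _ ⟨s, hs, rfl⟩
      rw [← map_mul, ← map_mul, Subgroup.mem_centralizer_iff.1 (Subgroup.mem_inf.1 hxZ).2 s hs]⟩
    refine Subgroup.mem_inf.2 ⟨hxS, Subgroup.mem_comap.2 (Subgroup.mem_inf.2 ⟨hTc ▸ ⟨x, hxS, rfl⟩, ?_⟩)⟩
    rw [Subgroup.mem_centralizer_iff]
    intro gb _
    obtain ⟨g, rfl⟩ := hfs gb
    have hy : f g * f x * (f g)⁻¹ ∈ (T : Subgroup (G ⧸ O)) :=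
      hQT ((inferInstance : A.Normal).conj_mem _ (hZTA hfx) (f g)).1
    set M := (T : Subgroup (G ⧸ O)).comap f with hM
    have hSM : (S : Subgroup G) ≤ M := fun s hs => by
      show f s ∈ (T : Subgroup (G ⧸ O)); rw [hTc]; exact ⟨s, hs, rfl⟩
    have hy' : g * x * g⁻¹ ∈ M := by
      show f (g * x * g⁻¹) ∈ (T : Subgroup (G ⧸ O)); rwa [map_mul, map_mul, map_inv]
    have hyp : IsPGroup p (Subgroup.zpowers (g * x * g⁻¹)) := by
      rw [show Subgroup.zpowers (g * x * g⁻¹) = (Subgroup.zpowers x).map (MulAut.conj g).toMonoidHom by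
        rw [MonoidHom.map_zpowers]; rfl]
      exact (S.2.to_le (Subgroup.zpowers_le.2 hxS)).map _
    obtain ⟨o, ho, hle⟩ := exists_cj_le_of_not_dvd hSM S.2 (not_dvd_relIndex_of_le S hSM)
      (Subgroup.zpowers_le.2 hy') hyp
    have h1 : o * g * x * (o * g)⁻¹ ∈ (S : Subgroup G) := by
      have := hle ⟨_, Subgroup.mem_zpowers _, rfl⟩
      rw [show (MulAut.conj o).toMonoidHom (g * x * g⁻¹) = o * g * x * (o * g)⁻¹ by
        show o * (g * x * g⁻¹) * o⁻¹ = _; group] at this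
      exact this
    have h2 := congrArg f (hx (o * g) h1)
    simp only [map_mul, map_inv, mul_inv_rev] at h2
    have hoT : f o ∈ (T : Subgroup (G ⧸ O)) := ho
    have h3 : f g * f x * (f g)⁻¹ = f x := by
      calc f g * f x * (f g)⁻¹ = (f o)⁻¹ * (f o * f g * f x * ((f g)⁻¹ * (f o)⁻¹)) * f o := by group
        _ = (f o)⁻¹ * f x * f o := by rw [h2]
        _ = _ := by
          rw [mul_assoc, ← Subgroup.mem_centralizer_iff.1 (Subgroup.mem_inf.1 hfx).2 _ hoT, inv_mul_cancel_left]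
    exact mul_inv_eq_iff_eq_mul.1 h3
  · exact fun x hx => hback x (Subgroup.mem_inf.1 hx).1 (hK1 (Subgroup.mem_inf.1 hx).2)
  · rw [eq_bot_iff]
    rintro x ⟨⟨hxS, hxW⟩, ⟨-, hxK⟩⟩
    have h1 : f x ∈ WT ⊓ K := Subgroup.mem_inf.2 ⟨hxW, hxK⟩
    rw [hK2, Subgroup.mem_bot] at h1
    exact Subgroup.mem_bot.2 (hinj x hxS 1 (one_mem _) (by rw [h1, map_one]))
  · exact sup_le (fun x hx => hback x (Subgroup.mem_inf.1 hx).1 (hWZ (Subgroup.mem_inf.1 hx).2))
      (fun x hx => hback x (Subgroup.mem_inf.1 hx).1 (hK1 (Subgroup.mem_inf.1 hx).2))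
  · intro x hx
    obtain ⟨hxS, hxC⟩ := Subgroup.mem_inf.1 hx
    have hfx : f x ∈ WT ⊔ K := by
      rw [hK3]
      refine Subgroup.mem_inf.2 ⟨hTc ▸ ⟨x, hxS, rfl⟩, ?_⟩
      rw [Subgroup.mem_centralizer_iff, hTc]
      rintro _ ⟨s, hs, rfl⟩
      rw [← map_mul, ← map_mul, Subgroup.mem_centralizer_iff.1 hxC s hs]
    obtain ⟨a, ha, b, hb, hab⟩ := Cfsg.Agent.Lib.Coprime.exists_mul_of_mem_sup
      (show K ≤ Subgroup.normalizer (WT : Set (G ⧸ O)) from fun k hk => by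
        refine Subgroup.centralizer_le_normalizer _ (Subgroup.mem_centralizer_iff.2 fun w hw => ?_)
        exact (Subgroup.mem_centralizer_iff.1 (Subgroup.mem_inf.1 hw).2 k (Subgroup.mem_top k)).symm) hfx
    obtain ⟨a', ha', rfl⟩ : a ∈ (S : Subgroup G).map f := hTc ▸ (Subgroup.mem_inf.1 ha).1
    obtain ⟨b', hb', rfl⟩ : b ∈ (S : Subgroup G).map f := hTc ▸ (Subgroup.mem_inf.1 (hK1 hb)).1
    have : x = a' * b' := hinj x hxS _ (mul_mem ha' hb') (by rw [map_mul, hab])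
    rw [this]
    exact mul_mem (Subgroup.mem_sup_left (Subgroup.mem_inf.2 ⟨ha', ha⟩)) (Subgroup.mem_sup_right (Subgroup.mem_inf.2 ⟨hb', hb⟩))

/-- Let S be a Sylow p-subgroup of the finite group G, and assume that p is odd or that G is solvable. The elements of S each of which is its only G-conjugate in S form a subgroup W of Z(S); W is then a direct factor of Z(S): there is a subgroup K of Z(S) with W ∩ K = 1 and WK = Z(S). (For p = 2 and G not solvable this can fail.) -/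
theorem result {G : Type*} [Group G] [Finite G] {p : ℕ} [Fact p.Prime] (S : Sylow p G) (h : p ≠ 2 ∨ Group.IsSolvable G) :
    ∃ W K : Subgroup G, (∀ x : G, x ∈ W ↔ (x ∈ (S : Subgroup G) ∧ ∀ g : G, g * x * g⁻¹ ∈ (S : Subgroup G) → g * x * g⁻¹ = x)) ∧
      K ≤ ((S : Subgroup G) ⊓ Subgroup.centralizer ((S : Subgroup G) : Set G)) ∧ W ⊓ K = ⊥ ∧ W ⊔ K = ((S : Subgroup G) ⊓ Subgroup.centralizer ((S : Subgroup G) : Set G)) := by
  rcases h with h | h
  · exact case_odd h S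
  · exact case_solvable S

end Cfsg.Agent.S1945
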