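import Cfsg.Statements.S1946
import Mathlib
import Cfsg.Agent.Lib.Involutions.SmallElements
import Cfsg.Agent.Lib.Transfer.Frobenius
-- import your own Cfsg.Agent.* helpers here

set_option autoImplicit false
open Cfsg

namespace Cfsg.Agent.S1946

open Cfsg.Agent.Lib.Involutions
open scoped commutatorElement

/-- Let P be a Sylow p-subgroup of the finite group G. Then G has a normal p-complement if and only if P controls the fusion of its elements of order dividing p (dividing 4 when p = 2): whenever such an element a of P has a G-conjugate g a g⁻¹ in P, that conjugate is already x a x⁻¹ for some x in P. -/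
theorem result {G : Type*} [Group G] [Finite G] {p : ℕ} [Fact p.Prime] (P : Sylow p G) :
    Cfsg.HasNormalPComplement p G ↔
      ∀ a ∈ (P : Subgroup G), (a ^ p = 1 ∨ (p = 2 ∧ a ^ 4 = 1)) → ∀ g : G, g * a * g⁻¹ ∈ (P : Subgroup G) →
        ∃ x ∈ (P : Subgroup G), g * a * g⁻¹ = x * a * x⁻¹ := by
  classical
  constructor
  · intro hc a ha _ g hga
    obtain ⟨P₀, N, hN, hcompl⟩ := hc
    haveI := hN
    obtain ⟨k, hk⟩ := MulAction.exists_smul_eq G P₀ P
    have hdisj : N ⊓ (P : Subgroup G) = ⊥ := by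
      rw [eq_bot_iff]
      rintro z ⟨hzN, hzP⟩
      obtain ⟨w, hw, hwz⟩ : ∃ w ∈ (P₀ : Subgroup G), k * w * k⁻¹ = z := by
        rw [← hk] at hzP
        exact hzP
      have hwN : w ∈ N := by
        have := hN.conj_mem _ hzN k⁻¹
        rw [← hwz] at this
        simpa [mul_assoc] using this
      have h1 : w ∈ N ⊓ (P₀ : Subgroup G) := ⟨hwN, hw⟩
      rw [disjoint_iff.1 hcompl.disjoint, Subgroup.mem_bot] at h1
      rw [Subgroup.mem_bot, ← hwz, h1]; group
    have htop : g ∈ (P : Subgroup G) ⊔ N := by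
      have h2 : k⁻¹ * g * k ∈ (P₀ : Subgroup G) ⊔ N := by
        rw [sup_comm, hcompl.sup_eq_top]; trivial
      obtain ⟨w, hw, z, hz, hwz⟩ := Subgroup.mem_sup_of_normal_right.1 h2
      refine Subgroup.mem_sup_of_normal_right.2 ⟨k * w * k⁻¹, ?_, k * z * k⁻¹, hN.conj_mem _ hz k, ?_⟩
      · rw [← hk]; exact ⟨w, hw, rfl⟩
      · rw [show k * w * k⁻¹ * (k * z * k⁻¹) = k * (w * z) * k⁻¹ by group, hwz]; group
    obtain ⟨x, hx, z, hz, rfl⟩ := Subgroup.mem_sup_of_normal_right.1 htop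
    refine ⟨x, hx, ?_⟩
    have h3 : z * a * z⁻¹ ∈ (P : Subgroup G) := by
      have := mul_mem (mul_mem (inv_mem hx) hga) hx
      rwa [show x⁻¹ * (x * z * a * (x * z)⁻¹) * x = z * a * z⁻¹ by group] at this
    have h4 : z * a * z⁻¹ * a⁻¹ ∈ N ⊓ (P : Subgroup G) := by
      refine Subgroup.mem_inf.2 ⟨?_, mul_mem h3 (inv_mem ha)⟩
      rw [mul_assoc, mul_assoc, ← mul_assoc a]
      exact mul_mem hz (hN.conj_mem _ (N.inv_mem hz) a)
    rw [hdisj, Subgroup.mem_bot, mul_inv_eq_one] at h4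
    calc x * z * a * (x * z)⁻¹ = x * (z * a * z⁻¹) * x⁻¹ := by group
      _ = x * a * x⁻¹ := by rw [h4]
  · intro h
    refine Cfsg.Agent.Lib.Transfer.hasNormalPComplement_of_frobenius P fun Q hQ g hg hgo => ?_
    haveI := P.2.isNilpotent
    refine mem_centralizer_of_smallOrder_series hgo
      (fun i => (Subgroup.upperCentralSeries (P : Subgroup G) i).map (P : Subgroup G).subtype)
      (by simp) (Group.nilpotencyClass (P : Subgroup G)) Q (P.2.to_le hQ) hg
      (fun a ha _ => ⟨⟨a, hQ ha⟩, by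
        rw [Subgroup.upperCentralSeries_nilpotencyClass]; trivial, rfl⟩) fun a ha has i hai => ?_
    obtain ⟨b, hb, rfl⟩ := hai
    have hgb : g * (b : G) * g⁻¹ ∈ (P : Subgroup G) :=
      hQ ((Subgroup.mem_normalizer_iff.1 hg _).1 ha)
    obtain ⟨x, hx, hxe⟩ := h (b : G) (hQ ha) has g hgb
    refine ⟨⁅b, ⟨x, hx⟩⁆⁻¹, inv_mem ((Subgroup.mem_upperCentralSeries_succ_iff).1 hb ⟨x, hx⟩), ?_⟩
    rw [commutatorElement_inv, commutatorElement_def]
    show x * (b : G) * x⁻¹ * (b : G)⁻¹ = g * (b : G) * g⁻¹ * (b : G)⁻¹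
    rw [hxe]

end Cfsg.Agent.S1946
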