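import Cfsg.Statements.S1947
import Mathlib
import Cfsg.Agent.Lib.Involutions.SmallElements
import Cfsg.Agent.Lib.Transfer.Frobenius
-- import your own Cfsg.Agent.* helpers here

set_option autoImplicit false
open Cfsg

namespace Cfsg.Agent.S1947

open Cfsg.Agent.Lib.Involutions

/-- Let G be a finite group and p a prime. If every element of G of order dividing p (dividing 4 when p = 2) lies in some fixed term Z_n(G) of the upper central series, then G has a normal p-complement. -/
theorem result {G : Type*} [Group G] [Finite G] {p : ℕ} [Fact p.Prime] (n : ℕ)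
    (h : ∀ a : G, (a ^ p = 1 ∨ (p = 2 ∧ a ^ 4 = 1)) → a ∈ Subgroup.upperCentralSeries G n) : Cfsg.HasNormalPComplement p G := by
  classical
  refine Cfsg.Agent.Lib.Transfer.hasNormalPComplement_of_frobenius default fun Q hQ g hg hgo => ?_
  refine mem_centralizer_of_smallOrder_series hgo (fun i => Subgroup.upperCentralSeries G i)
    (Subgroup.upperCentralSeries_zero G) n Q ((default : Sylow p G).2.to_le hQ) hg
    (fun a _ ha => h a ha) fun a _ _ i hai => ?_
  have := inv_mem ((Subgroup.mem_upperCentralSeries_succ_iff).1 hai g)
  rwa [commutatorElement_inv, commutatorElement_def] at this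

end Cfsg.Agent.S1947
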