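import Cfsg.Statements.S1948
import Cfsg.Agent.Lib.FusionControl.CentralFunctor
import Cfsg.Agent.Lib.FusionControl.Section
import Cfsg.Agent.Lib.Cores.Basic

set_option autoImplicit false
open Cfsg

namespace Cfsg.Agent.S1948

/-- Let S be a Sylow p-subgroup of the finite group G. Then G = N_G(S)·O_{p'}(G) if and only if G is p-constrained and N_G(S) controls fusion in S, in the sense that whenever a subgroup Q of S has a conjugate g Q g⁻¹ inside S, the element g is a product n c with n normalizing S and c centralizing Q. -/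
theorem result {G : Type*} [Group G] [Finite G] {p : ℕ} [Fact p.Prime] (S : Sylow p G) :
    Subgroup.normalizer ((S : Subgroup G) : Set G) ⊔ Cfsg.pPrimeCore p G = ⊤ ↔
      (Cfsg.IsPConstrained p G ∧
        ∀ Q : Subgroup G, Q ≤ (S : Subgroup G) → ∀ g : G, Q.map (MulAut.conj g).toMonoidHom ≤ (S : Subgroup G) →
          ∃ n ∈ Subgroup.normalizer ((S : Subgroup G) : Set G), ∃ c ∈ Subgroup.centralizer (Q : Set G), g = n * c) := by
  open Cfsg.Agent.Lib.FusionControl in
  set O := Cfsg.pPrimeCore p G with hO
  have hOn : O.Normal := by rw [hO]; infer_instance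
  set f := QuotientGroup.mk' O with hf
  set K := Cfsg.pPrimePCore p G with hK
  have hKn : K.Normal := by rw [hK]; infer_instance
  have hOK : O ≤ K := fun x hx => by
    show f x ∈ Cfsg.pCore p (G ⧸ O)
    rw [show f x = 1 from (QuotientGroup.eq_one_iff x).2 hx]; exact one_mem _
  have hnormO : ∀ g : G, g ∈ Subgroup.normalizer (O : Set G) := fun g => by
    rw [Subgroup.normalizer_eq_top]; trivial
  have hnormK : ∀ g : G, g ∈ Subgroup.normalizer (K : Set G) := fun g => by
    rw [Subgroup.normalizer_eq_top]; trivial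
  constructor
  · intro h
    have hdec : ∀ g : G, ∃ o ∈ O, ∃ n ∈ Subgroup.normalizer ((S : Subgroup G) : Set G), g = o * n := fun g =>
      Cfsg.Agent.Lib.Coprime.exists_mul_of_mem_sup (fun n _ => hnormO n) (by rw [sup_comm, h]; trivial)
    have hSn : ((S : Subgroup G).map f).Normal := by
      refine ⟨fun z hz y => ?_⟩
      obtain ⟨g, rfl⟩ := QuotientGroup.mk'_surjective O y
      obtain ⟨s, hs, rfl⟩ := hz
      obtain ⟨o, ho, n, hn, rfl⟩ := hdec g
      refine ⟨n * s * n⁻¹, (Subgroup.mem_normalizer_iff.1 hn s).1 hs, ?_⟩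
      show f (n * s * n⁻¹) = f (o * n) * f s * (f (o * n))⁻¹
      rw [map_mul f o n, show f o = 1 from (QuotientGroup.eq_one_iff o).2 ho, one_mul, map_mul, map_mul, map_inv]
    have hSK : (S : Subgroup G) ≤ K := fun s hs =>
      Cfsg.Agent.Lib.Cores.le_pCore hSn (S.2.map f) (⟨s, hs, rfl⟩ : f s ∈ (S : Subgroup G).map f)
    refine ⟨fun P => ?_, fun Q hQ g hg => ?_⟩
    · set P' := (P : Subgroup K).map K.subtype with hP'
      obtain ⟨k, hk, hle⟩ := exists_cj_le_of_not_dvd hSK S.2 (not_dvd_relIndex_of_le S hSK)
        (Subgroup.map_subtype_le (P : Subgroup K)) (P.2.map K.subtype)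
      have heq : cj k P' = (S : Subgroup G) := by
        refine Subgroup.eq_of_le_of_card_ge hle ?_
        rw [card_cj]
        have hi : ¬ p ∣ P'.relIndex K := by
          rw [hP', Subgroup.relIndex]
          rw [show ((P : Subgroup K).map K.subtype).subgroupOf K = (P : Subgroup K) from
            Subgroup.comap_map_eq_self_of_injective K.subtype_injective _]
          exact P.not_dvd_index
        exact (card_eq_of_not_dvd hSK S.2 (not_dvd_relIndex_of_le S hSK) (Subgroup.map_subtype_le _) (P.2.map _) hi).ge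
      intro c hc
      have hc' : k * c * k⁻¹ ∈ Subgroup.centralizer ((S : Subgroup G) : Set G) := by
        rw [← heq, ← cj_centralizer]; exact conj_mem_cj hc
      suffices k * c * k⁻¹ ∈ K by
        have h2 := hKn.conj_mem _ this k⁻¹
        simpa [mul_assoc] using h2
      revert hc'
      generalize k * c * k⁻¹ = d
      intro hd
      set C := Subgroup.centralizer ((S : Subgroup G) : Set G) with hC
      set N := Subgroup.normalizer ((S : Subgroup G) : Set G) with hN
      have hCN : C ≤ N := Subgroup.centralizer_le_normalizer _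
      have hi : ¬ p ∣ ((S : Subgroup G) ⊓ C).relIndex C :=
        not_dvd_relIndex_inf Subgroup.le_normalizer S.2 (not_dvd_relIndex_of_le S Subgroup.le_normalizer) hCN
          (normalizer_le_normalizer_centralizer _)
      let PC : Sylow p C := ((S.2.to_le inf_le_left).comap_of_injective C.subtype C.subtype_injective :
        IsPGroup p (((S : Subgroup G) ⊓ C).subgroupOf C)).toSylow hi
      have hcent : Subgroup.normalizer ((PC : Subgroup C) : Set C) ≤ Subgroup.centralizer ((PC : Subgroup C) : Set C) := by
        intro e _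
        rw [Subgroup.mem_centralizer_iff]
        intro w hw
        exact Subtype.ext (Subgroup.mem_centralizer_iff.1 e.2 _ (Subgroup.mem_inf.1 (Subgroup.mem_subgroupOf.1 hw)).1)
      have hnpc := Cfsg.Agent.Lib.Transfer.hasNormalPComplement_of_normalizer_le_centralizer PC hcent
      rw [Cfsg.Agent.Lib.Transfer.hasNormalPComplement_iff_coprime] at hnpc
      set D := (Cfsg.pResidual p C).map C.subtype with hD
      have hND : N ≤ Subgroup.normalizer (D : Set G) := (normalizer_le_normalizer_centralizer _).trans
        (Cfsg.Agent.Lib.Cores.normalizer_le_normalizer_map_subtype C _)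
      have hDO : D ≤ O := by
        have hDn : (D ⊔ O).Normal := by
          rw [← Subgroup.normalizer_eq_top_iff, eq_top_iff, ← h]
          refine sup_le (fun n hn => Cfsg.Agent.Lib.Coprime.le_normalizer_sup inf_le_left inf_le_right
            (show n ∈ Subgroup.normalizer (D : Set G) ⊓ Subgroup.normalizer (O : Set G) from
              Subgroup.mem_inf.2 ⟨hND hn, hnormO n⟩)) ?_
          exact le_sup_right.trans Subgroup.le_normalizer
        refine le_trans le_sup_left (Cfsg.Agent.Lib.Cores.le_pPrimeCore hDn ?_)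
        have hc2 := Cfsg.Agent.Lib.Coprime.card_sup_mul_card_inf (N := O) (H := D) (fun n _ => hnormO n)
        rw [sup_comm]
        refine Nat.Coprime.coprime_dvd_left ⟨_, hc2.symm⟩ (Nat.Coprime.mul_left
          (Cfsg.Agent.Lib.Cores.pPrimeCore_coprime p G) ?_)
        rw [hD, Subgroup.card_map_of_injective C.subtype_injective]; exact hnpc
      have hmem : (⟨d, hd⟩ : C) ∈ (PC : Subgroup C) ⊔ Cfsg.pResidual p C :=
        (Cfsg.Agent.Lib.Transfer.sylow_sup_pResidual PC) ▸ Subgroup.mem_top _
      obtain ⟨w, hw, m, hm, hwm⟩ := Subgroup.mem_sup_of_normal_right.1 hmem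
      rw [← show (w : G) * m = d from congrArg Subtype.val hwm]
      exact mul_mem (hSK (Subgroup.mem_inf.1 (Subgroup.mem_subgroupOf.1 hw)).1) (hOK (hDO ⟨m, hm, rfl⟩))
    · obtain ⟨o, ho, n, hn, he⟩ := hdec g⁻¹
      refine ⟨n⁻¹, inv_mem hn, o⁻¹, ?_, by rw [← mul_inv_rev, ← he, inv_inv]⟩
      refine inv_mem ?_
      rw [Subgroup.mem_centralizer_iff]
      intro q hq
      have h1 : o⁻¹ * q * o ∈ (S : Subgroup G) := by
        have h2 := (Subgroup.mem_normalizer_iff.1 hn _).1 (hg (conj_mem_cj (g := g) hq))
        have : n * (g * q * g⁻¹) * n⁻¹ = o⁻¹ * q * o := by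
          rw [show g = n⁻¹ * o⁻¹ by rw [← mul_inv_rev, ← he, inv_inv]]; group
        rwa [this] at h2
      have h3 : q⁻¹ * (o⁻¹ * q * o) ∈ O := by
        rw [← mul_assoc, ← mul_assoc]
        exact mul_mem (hOn.conj_mem' o⁻¹ (inv_mem ho) q) ho
      have h4 := inv_mul_eq_one.1 (eq_one_of_mem_pPrimeCore S.2 (mul_mem (inv_mem (hQ hq)) h1) h3)
      calc q * o = o * (o⁻¹ * q * o) := by group
        _ = o * q := by rw [← h4]
  · rintro ⟨hcon, hctrl⟩
    have hi : ¬ p ∣ ((S : Subgroup G) ⊓ K).relIndex K :=
      not_dvd_relIndex_inf le_top S.2 (sylow_relIndex_top S) le_top (by rw [Subgroup.normalizer_eq_top])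
    set R := (S : Subgroup G) ⊓ K with hR
    let P : Sylow p K := ((S.2.to_le inf_le_left).comap_of_injective K.subtype K.subtype_injective :
      IsPGroup p (R.subgroupOf K)).toSylow hi
    have hCK : Subgroup.centralizer (R : Set G) ≤ K := by
      have := hcon P
      rwa [show (P : Subgroup K).map K.subtype = R from by
        show (R.subgroupOf K).map K.subtype = R
        rw [Subgroup.subgroupOf_map_subtype, inf_eq_left.2 inf_le_right]] at this
    set N := Subgroup.normalizer ((S : Subgroup G) : Set G) with hN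
    have hgen : ∀ g : G, g ∈ N ⊔ K := by
      intro g
      obtain ⟨k, hk, hkg⟩ := exists_frattini (inf_le_right : R ≤ K) (S.2.to_le inf_le_left) hi (hnormK g)
      obtain ⟨n, hn, c, hc, hnc⟩ := hctrl R inf_le_left (k * g) (by
        show cj (k * g) R ≤ _
        rw [mem_normalizer_iff_cj.1 hkg]; exact inf_le_left)
      rw [show g = k⁻¹ * (k * g) by group, hnc]
      exact mul_mem (Subgroup.mem_sup_right (inv_mem hk)) (mul_mem (Subgroup.mem_sup_left hn) (Subgroup.mem_sup_right (hCK hc)))
    have hSK : (S : Subgroup G) ≤ K := by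
      have hn : ((S : Subgroup G) ⊔ K).Normal := by
        rw [← Subgroup.normalizer_eq_top_iff, eq_top_iff]
        intro g _
        refine (sup_le ?_ ?_ : N ⊔ K ≤ _) (hgen g)
        · exact fun n hn => Cfsg.Agent.Lib.Coprime.le_normalizer_sup inf_le_left inf_le_right
            (show n ∈ Subgroup.normalizer ((S : Subgroup G) : Set G) ⊓ Subgroup.normalizer (K : Set G) from
              Subgroup.mem_inf.2 ⟨hn, hnormK n⟩)
        · exact le_sup_right.trans Subgroup.le_normalizer
      have hKp : K.map f ≤ Cfsg.pCore p (G ⧸ O) := by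
        rw [Subgroup.map_le_iff_le_comap]; exact le_rfl
      have hp2 : IsPGroup p ↥(((S : Subgroup G) ⊔ K).map f) := by
        rw [Subgroup.map_sup]
        refine (S.2.map f).to_sup_of_normal_right' ((Cfsg.Agent.Lib.Cores.pCore_isPGroup p _).to_le hKp) ?_
        have : (K.map f).Normal := hKn.map f (QuotientGroup.mk'_surjective O)
        rw [Subgroup.normalizer_eq_top]; exact le_top
      intro s hs
      exact Cfsg.Agent.Lib.Cores.le_pCore (hn.map f (QuotientGroup.mk'_surjective O)) hp2
        (⟨s, Subgroup.mem_sup_left hs, rfl⟩ : f s ∈ ((S : Subgroup G) ⊔ K).map f)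
    have hKle : K ≤ N ⊔ O := by
      intro x hx
      have hKS : K.map f ≤ (S : Subgroup G).map f := by
        have hS' : IsPGroup p ↥((S : Subgroup G).map f) := S.2.map f
        have hle : (K.map f) ≤ Cfsg.pCore p (G ⧸ O) := by rw [Subgroup.map_le_iff_le_comap]; exact le_rfl
        have := Cfsg.Agent.Lib.Cores.pCore_le_sylow (S.mapSurjective (QuotientGroup.mk'_surjective O))
        rw [Sylow.coe_mapSurjective] at this
        exact hle.trans this
      obtain ⟨s, hs, hse⟩ := hKS ⟨x, hx, rfl⟩
      have := (QuotientGroup.eq).1 hse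
      rw [show x = s * (s⁻¹ * x) by group]
      exact mul_mem (Subgroup.mem_sup_left (Subgroup.le_normalizer hs)) (Subgroup.mem_sup_right this)
    rw [eq_top_iff]
    intro g _
    exact (sup_le le_sup_left hKle : N ⊔ K ≤ N ⊔ O) (hgen g)

end Cfsg.Agent.S1948
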