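import Cfsg.Statements.S1949
import Cfsg.Agent.S0093
import Cfsg.Agent.S0121
import Cfsg.Agent.Lib.OddLocal.Coprime
import Cfsg.Agent.Lib.LocalEven2.OmegaFix
import Cfsg.Agent.Lib.RankTwo.Basic
import Cfsg.Agent.Lib.Coprime.External
import Cfsg.Agent.Lib.OddLocal.PStable
import Cfsg.Agent.Lib.Cores.Frattini

set_option autoImplicit false
open Cfsg

namespace Cfsg.Agent.S1949

set_option maxHeartbeats 1000000
open Subgroup Cfsg.Agent.Lib SemidirectProduct
open scoped commutatorElement

/-- a `p'`-automorphism fixing an invariant subgroup's elements of small order fixes the subgroup -/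
lemma fix_of_fix_omega {P : Type*} [Group P] [Finite P] {p : ℕ} [Fact p.Prime] (hP : IsPGroup p P)
    (C : Subgroup P) (a : MulAut P) (hCa : ∀ b : Subgroup.zpowers a, ∀ x ∈ C, (b : MulAut P) x ∈ C)
    (ha : (orderOf a).Coprime p) (e : ℕ) (he : e = if p = 2 then 4 else p)
    (h : ∀ x ∈ C, x ^ e = 1 → a x = x) : ∀ x ∈ C, a x = x := by
  classical
  let φ : (Subgroup.zpowers a) →* MulAut P := (Subgroup.zpowers a).subtype
  have := Coprime.finite_semidirect φ
  set A := (inr : Subgroup.zpowers a →* P ⋊[φ] Subgroup.zpowers a).range with hA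
  have hAc : (Nat.card A).Coprime p := by
    rw [hA, Nat.card_congr (MonoidHom.ofInjective inr_injective).symm.toEquiv, Nat.card_zpowers]
    exact ha
  set H := C.map (inl : P →* P ⋊[φ] Subgroup.zpowers a) with hH
  have hHp : IsPGroup p H := (hP.to_subgroup C).map _
  have hAH : A ≤ normalizer (H : Set (P ⋊[φ] Subgroup.zpowers a)) := by
    have key : ∀ b : Subgroup.zpowers a, ∀ y ∈ H, inr b * y * (inr b)⁻¹ ∈ H := by
      rintro b _ ⟨x, hx, rfl⟩
      exact ⟨φ b x, hCa b x hx, by rw [inl_aut, map_inv]⟩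
    rintro _ ⟨b, rfl⟩
    exact mem_normalizer_iff.2 fun y => ⟨key b y, fun hy => by
      simpa [mul_assoc] using key b⁻¹ _ hy⟩
  have hfix : ∀ y ∈ H, y ^ e = 1 → A ≤ centralizer ({y} : Set (P ⋊[φ] Subgroup.zpowers a)) := by
    rintro _ ⟨x, hx, rfl⟩ hxe
    rw [← map_pow, ← map_one (inl : P →* P ⋊[φ] Subgroup.zpowers a)] at hxe
    have hxa := h x hx (inl_injective hxe)
    rintro _ ⟨b, rfl⟩
    rw [mem_centralizer_singleton_iff]
    have hb : φ b x = x := by
      have hle : Subgroup.zpowers a ≤ MulAction.stabilizer (MulAut P) x := Subgroup.zpowers_le.mpr hxa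
      exact hle b.2
    have := inl_aut (φ := φ) b x
    rw [hb] at this
    rw [eq_comm, map_inv, mul_inv_eq_iff_eq_mul] at this
    exact this
  have hmain : A ≤ centralizer (H : Set (P ⋊[φ] Subgroup.zpowers a)) := by
    by_cases hp2 : p = 2
    · rw [if_pos hp2] at he
      exact LocalEven2.le_centralizer_of_fixes_pow_sq hAc H hHp hAH fun y hy hyp => hfix y hy (by
        rwa [he, show (4 : ℕ) = p * p by rw [hp2]])
    · rw [if_neg hp2] at he
      exact OddLocal.le_centralizer_of_fixes_pow_eq_one hp2 hAc H hHp hAH fun y hy hyp => hfix y hy (he ▸ hyp)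
  intro x hx
  have h1 := mem_centralizer_iff.1 (hmain ⟨⟨a, mem_zpowers a⟩, rfl⟩) _ ⟨x, hx, rfl⟩
  apply inl_injective (φ := φ)
  have h2 := inl_aut (φ := φ) ⟨a, mem_zpowers a⟩ x
  rw [show φ ⟨a, mem_zpowers a⟩ x = a x from rfl] at h2
  rw [h2, ← h1, map_inv, mul_inv_cancel_right]

/-- Let P be a finite p-group and G a group of automorphisms of P containing the inner automorphisms. Then there is a G-invariant subgroup D of P, contained in the subgroup generated by the elements x⁻¹α(x) with x in P and α in O^p(G), of exponent dividing p when p is odd and dividing 4 when p = 2, with [D, P] ≤ Z(D), such that every automorphism in G of order prime to p that fixes D elementwise is the identity; moreover every maximal abelian subgroup A of D is normal in P and every automorphism in G fixing A elementwise has p-power order. -/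
theorem result {P : Type*} [Group P] [Finite P] {p : ℕ} [Fact p.Prime] (hP : IsPGroup p P)
    (G : Subgroup (MulAut P)) (hG : Cfsg.Inn P ≤ G) :
    ∃ D : Subgroup P,
      (∀ α ∈ G, D.map α.toMonoidHom = D) ∧
      D ≤ Subgroup.closure {y : P | ∃ α ∈ Cfsg.pResidual p ↥G, ∃ x : P, y = x⁻¹ * (α : MulAut P) x} ∧
      (∀ d ∈ D, d ^ p = 1 ∨ (p = 2 ∧ d ^ 4 = 1)) ∧
      ⁅D, (⊤ : Subgroup P)⁆ ≤ D ⊓ Subgroup.centralizer (D : Set P) ∧
      (∀ α ∈ G, (orderOf α).Coprime p → (∀ d ∈ D, α d = d) → α = 1) ∧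
      ∀ A : Subgroup P, A ≤ D → IsMulCommutative ↥A →
        (∀ B : Subgroup P, A ≤ B → B ≤ D → IsMulCommutative ↥B → B = A) →
        A.Normal ∧ ∀ α ∈ G, (∀ a ∈ A, α a = a) → ∃ k : ℕ, orderOf α = p ^ k := by
  classical
  obtain ⟨C, hCc, hCfr, hCP, hCcen⟩ := S0093.result hP
  set O := Cfsg.pResidual p ↥G with hO
  set Q := Subgroup.closure {y : P | ∃ α ∈ O, ∃ x : P, y = x⁻¹ * (α : MulAut P) x} with hQ
  set e := (if p = 2 then 4 else p) with he
  have hCmap : ∀ α : MulAut P, ∀ x ∈ C, α x ∈ C := fun α x hx =>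
    Subgroup.characteristic_iff_map_le.1 hCc α ⟨x, hx, rfl⟩
  -- commutators in `C` are central with small order
  have hcen : ∀ x ∈ C, ∀ y : P, ∀ z ∈ C, Commute z ⁅x, y⁆ := fun x hx y z hz =>
    mem_centralizer_iff.1 (Subgroup.mem_inf.1 (hCP (commutator_mem_commutator hx (mem_top y)))).2 z hz
  have hfr : ∀ x ∈ C, ∀ z ∈ C, Commute z (x ^ p) := fun x hx z hz =>
    mem_centralizer_iff.1 (hCfr (show x ^ p ∈ (frattini C).map C.subtype from
      ⟨(⟨x, hx⟩ : C) ^ p, Cores.pow_mem_frattini (hP.to_subgroup C) _, rfl⟩)) z hz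
  have hcp : ∀ x ∈ C, ∀ y ∈ C, ⁅x, y⁆ ^ p = 1 := by
    intro x hx y hy
    have key : ∀ i : ℕ, x ^ i * y * (x ^ i)⁻¹ = ⁅x, y⁆ ^ i * y := by
      intro i
      induction i with
      | zero => simp
      | succ i ih =>
        calc x ^ (i + 1) * y * (x ^ (i + 1))⁻¹ = x * (x ^ i * y * (x ^ i)⁻¹) * x⁻¹ := by rw [pow_succ']; group
          _ = x * ⁅x, y⁆ ^ i * y * x⁻¹ := by rw [ih]; group
          _ = ⁅x, y⁆ ^ i * (x * y * x⁻¹) := by rw [((hcen x hx y x hx).pow_right i).eq]; group
          _ = _ := by rw [pow_succ, commutatorElement_def]; group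
    have h := key p
    rw [← (hfr x hx y hy).eq, mul_inv_cancel_right] at h
    exact mul_eq_right.1 h.symm
  let Ω : Subgroup P :=
    { carrier := {x | x ∈ C ∧ x ^ e = 1}
      one_mem' := ⟨one_mem _, one_pow _⟩
      mul_mem' := fun {a b} ha hb => ⟨mul_mem ha.1 hb.1, by
        have hea := ha.2
        have heb := hb.2
        by_cases hp2 : p = 2
        · rw [he, if_pos hp2] at hea heb ⊢
          have hc := hcp b hb.1 a ha.1
          rw [hp2] at hc
          have hsq : (a * b) ^ 2 = ⁅b, a⁆ * (a ^ 2 * b ^ 2) := by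
            rw [pow_two, pow_two, pow_two]
            calc a * b * (a * b) = a * (b * a * b⁻¹ * a⁻¹) * (a * b * b) := by group
              _ = ⁅b, a⁆ * a * (a * b * b) := by rw [← commutatorElement_def, (hcen b hb.1 a a ha.1).eq]
              _ = _ := by group
          have h1 : Commute ⁅b, a⁆ (a ^ 2 * b ^ 2) :=
            (hcen b hb.1 a _ (mul_mem (pow_mem ha.1 2) (pow_mem hb.1 2))).symm
          have h2 : Commute (a ^ 2) (b ^ 2) := by
            have := hfr a ha.1 (b ^ 2) (pow_mem hb.1 2)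
            rw [hp2] at this
            exact this.symm
          rw [show 4 = 2 * 2 from rfl, pow_mul, hsq, h1.mul_pow, hc, one_mul, h2.mul_pow, ← pow_mul, ← pow_mul,
            hea, heb, one_mul]
        · rw [he, if_neg hp2] at hea heb ⊢
          rw [RankTwo.mul_pow_class_two hp2 (hcen b hb.1 a a ha.1) (hcen b hb.1 a b hb.1) (hcp b hb.1 a ha.1),
            hea, heb, one_mul]⟩
      inv_mem' := fun {a} ha => ⟨inv_mem ha.1, by rw [inv_pow, ha.2, inv_one]⟩ }
  have hΩmap : ∀ α : MulAut P, ∀ x ∈ Ω, α x ∈ Ω := fun α x hx =>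
    ⟨hCmap α x hx.1, by rw [← map_pow, hx.2, map_one]⟩
  have hOn : O.Normal := by
    refine ⟨fun x hx g => ?_⟩
    have h : O ≤ O.comap (MulAut.conj g).toMonoidHom := by
      rw [hO, Cfsg.pResidual, Subgroup.closure_le]
      intro z hz
      exact Subgroup.subset_closure (show (orderOf (MulAut.conj g z)).Coprime p by rwa [MulEquiv.orderOf_eq])
    exact h hx
  have hQmap : ∀ α ∈ G, ∀ y ∈ Q, α y ∈ Q := by
    intro α hα
    have h : Q ≤ Q.comap α.toMonoidHom := by
      rw [hQ, Subgroup.closure_le]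
      rintro _ ⟨β, hβ, x, rfl⟩
      refine Subgroup.subset_closure ⟨⟨α, hα⟩ * β * ⟨α, hα⟩⁻¹, hOn.conj_mem β hβ _, α x, ?_⟩
      show α (x⁻¹ * (β : MulAut P) x) = (α x)⁻¹ * α ((β : MulAut P) (α⁻¹ (α x)))
      rw [map_mul, map_inv, MulAut.inv_apply_self]
    exact fun y hy => h hy
  set D := Ω ⊓ Q with hD
  have hDmap : ∀ α ∈ G, ∀ y ∈ D, α y ∈ D := fun α hα y hy =>
    ⟨hΩmap α y hy.1, hQmap α hα y hy.2⟩
  have hDn : D.Normal := ⟨fun y hy g => hDmap (MulAut.conj g) (hG ⟨g, rfl⟩) y hy⟩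
  have hDC : D ≤ C := fun y hy => (Subgroup.mem_inf.1 hy).1.1
  -- automorphisms of order prime to `p`
  have hfaith : ∀ α ∈ G, (orderOf α).Coprime p → (∀ d ∈ D, α d = d) → α = 1 := by
    intro α hα hαp hfix
    have hΩfix : ∀ x ∈ Ω, α x = x := by
      intro x hx
      have hd : x⁻¹ * α x ∈ D := ⟨Ω.mul_mem (Ω.inv_mem hx) (hΩmap α x hx), Subgroup.subset_closure
        ⟨⟨α, hα⟩, Subgroup.subset_closure (show (orderOf (⟨α, hα⟩ : G)).Coprime p by rwa [Subgroup.orderOf_mk]), x, rfl⟩⟩
      have h1 : α (x⁻¹ * α x) = x⁻¹ * α x := hfix _ hd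
      have hk : ∀ k : ℕ, (α ^ k) x = x * (x⁻¹ * α x) ^ k := by
        intro k
        induction k with
        | zero => simp
        | succ k ih =>
          rw [pow_succ', MulAut.mul_apply, ih, map_mul, map_pow, h1, pow_succ' (x⁻¹ * α x), ← mul_assoc, ← mul_assoc, mul_inv_cancel, one_mul]
      have h2 := hk (orderOf α)
      rw [pow_orderOf_eq_one] at h2
      have h3 : (x⁻¹ * α x) ^ orderOf α = 1 := mul_left_cancel (a := x) (h2.symm.trans (mul_one x).symm)
      obtain ⟨j, hj⟩ := hP (x⁻¹ * α x)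
      have h4 := pow_gcd_eq_one.2 ⟨h3, hj⟩
      rw [show Nat.gcd (orderOf α) (p ^ j) = 1 from hαp.pow_right j, pow_one, inv_mul_eq_one] at h4
      exact h4.symm
    have hC : ∀ x ∈ C, α x = x := fix_of_fix_omega hP C α (fun b x hx => hCmap b x hx) hαp e he
      fun x hx hxe => hΩfix x ⟨hx, hxe⟩
    exact S0121.result hP C hCc hCfr hCP hCcen α hαp hC
  refine ⟨D, fun α hα => ?_, inf_le_right, fun d hd => ?_, ?_, hfaith, ?_⟩
  · refine le_antisymm ?_ fun y hy => ⟨α⁻¹ y, hDmap α⁻¹ (inv_mem hα) y hy, MulAut.apply_inv_self P α y⟩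
    rintro _ ⟨y, hy, rfl⟩
    exact hDmap α hα y hy
  · have := (Subgroup.mem_inf.1 hd).1.2
    rw [he] at this
    split at this
    · exact Or.inr ⟨by assumption, this⟩
    · exact Or.inl this
  · refine le_inf (Subgroup.commutator_le_left D ⊤) ?_
    exact (Subgroup.commutator_mono hDC le_rfl).trans ((hCP.trans inf_le_right).trans (centralizer_le hDC))
  · intro A hAD hAab hAmax
    have hZA : D ⊓ centralizer (A : Set P) ≤ A := by
      intro y hy
      have hB : IsMulCommutative ↥(A ⊔ zpowers y) := by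
        refine ⟨⟨fun u v => Subtype.ext ?_⟩⟩
        have h : A ⊔ zpowers y ≤ centralizer ((A ⊔ zpowers y : Subgroup P) : Set P) := by
          rw [sup_le_iff, zpowers_le]
          refine ⟨Subgroup.le_centralizer_iff.1 (sup_le (fun a ha => mem_centralizer_iff.2 fun b hb =>
            congrArg Subtype.val (hAab.is_comm.comm ⟨b, hb⟩ ⟨a, ha⟩)) (zpowers_le.2 hy.2)), ?_⟩
          rw [← zpowers_le, Subgroup.le_centralizer_iff, sup_le_iff]
          exact ⟨Subgroup.le_centralizer_iff.1 (zpowers_le.2 hy.2), Subgroup.le_centralizer _⟩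
        exact mem_centralizer_iff.1 (h v.2) u u.2
      rw [← hAmax _ le_sup_left (sup_le hAD (zpowers_le.2 hy.1)) hB]
      exact mem_sup_right (mem_zpowers y)
    have hcomA : ∀ d ∈ D, ∀ g : P, ⁅d, g⁆ ∈ A := fun d hd g => hZA ⟨by
      rw [show ⁅d, g⁆ = d * (g * d⁻¹ * g⁻¹) by rw [commutatorElement_def]; group]
      exact mul_mem hd (hDn.conj_mem _ (inv_mem hd) g),
      mem_centralizer_iff.2 fun a ha => hcen d (hDC hd) g a (hDC (hAD ha))⟩
    refine ⟨⟨fun a ha g => ?_⟩, fun α hα hfix => ?_⟩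
    · rw [show g * a * g⁻¹ = ⁅a, g⁆⁻¹ * a by rw [commutatorElement_def]; group]
      exact mul_mem (inv_mem (hcomA a (hAD ha) g)) ha
    obtain ⟨k, hk⟩ := OddLocal.exists_orderOf_pow_coprime p α
    set β := α ^ p ^ k with hβ
    have hfix' : ∀ a ∈ A, β a = a := fun a ha => by
      rw [hβ]
      induction p ^ k with
      | zero => rfl
      | succ n ih => rw [pow_succ, MulAut.mul_apply, hfix a ha, ih]
    have hβD : ∀ d ∈ D, β d = d := by
      intro d hd
      set c := d⁻¹ * β d with hc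
      have hcA : c ∈ A := by
        refine hZA ⟨D.mul_mem (D.inv_mem hd) (hDmap β (pow_mem hα _) d hd), mem_centralizer_iff.2 fun a ha => ?_⟩
        have ha' : d * a * d⁻¹ ∈ A := by
          rw [show d * a * d⁻¹ = ⁅d, a⁆ * a by rw [commutatorElement_def]; group]
          exact mul_mem (hcomA d hd a) ha
        have h1 := hfix' _ ha'
        rw [map_mul, map_mul, map_inv, hfix' a ha] at h1
        calc a * (d⁻¹ * β d) = d⁻¹ * (d * a * d⁻¹) * β d := by group
          _ = d⁻¹ * (β d * a * (β d)⁻¹) * β d := by rw [h1]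
          _ = _ := by rw [hc]; group
      have hk' : ∀ i : ℕ, (β ^ i) d = d * c ^ i := by
        intro i
        induction i with
        | zero => simp
        | succ i ih =>
          rw [pow_succ', MulAut.mul_apply, ih, map_mul, map_pow, hfix' c hcA, pow_succ' c, show β d = d * c by rw [hc, mul_inv_cancel_left], mul_assoc]
      have h2 := hk' (orderOf β)
      rw [pow_orderOf_eq_one] at h2
      have h3 : c ^ orderOf β = 1 := mul_left_cancel (a := d) (h2.symm.trans (mul_one d).symm)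
      obtain ⟨j, hj⟩ := hP c
      have h4 := pow_gcd_eq_one.2 ⟨h3, hj⟩
      rw [show Nat.gcd (orderOf β) (p ^ j) = 1 from hk.pow_right j, pow_one, hc, inv_mul_eq_one] at h4
      exact h4.symm
    obtain ⟨i, -, hi⟩ := (Nat.dvd_prime_pow (Fact.out : p.Prime)).1
      (orderOf_dvd_of_pow_eq_one (hfaith β (pow_mem hα _) hk hβD))
    exact ⟨i, hi⟩

end Cfsg.Agent.S1949
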