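import Cfsg.Statements.S1950
import Cfsg.Agent.Lib.Characters.PairCount.CyclicFinal
import Cfsg.Agent.Lib.Fusion.ResidualSeries
import Cfsg.Agent.Lib.Characters.SolvablePSolvable

/-!
A least counterexample has no `p'`-core and so is simple or has a normal cyclic `p`-subgroup; the
latter is `p`-solvable by Burnside's transfer theorem, the former is excluded by the principal block.
-/

set_option autoImplicit false
set_option linter.unusedSectionVars false
open Cfsg

namespace Cfsg.Agent.S1950

open Cfsg.Agent.Lib.Characters Cfsg.Agent.Lib.Cores Cfsg.Agent.Lib.Fusion.ResidualSeries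
open Cfsg.Agent.Lib.Characters.PairCount
open Cfsg.Agent.Lib.PGroups.CyclicDichotomy

universe u

section

variable {p : ℕ} [Fact p.Prime]

theorem of_coprime {G : Type u} [Group G] [Finite G] (h : (Nat.card G).Coprime p) : IsPSolvable p G := by
  refine ⟨1, ![⊥, ⊤], rfl, rfl, ?_, ?_, ?_⟩
  · exact Fin.monotone_iff_le_succ.2 fun i => by fin_cases i; exact bot_le
  · intro i; fin_cases i
    · exact (inferInstance : (⊥ : Subgroup G).Normal)
    · exact (inferInstance : (⊤ : Subgroup G).Normal)
  · intro i
    fin_cases i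
    right
    show ((⊥ : Subgroup G).relIndex ⊤).Coprime p
    rw [Subgroup.relIndex_bot_left, Subgroup.card_top]
    exact h

theorem sylow_cyclic {G : Type u} [Group G] [Finite G] (P : Sylow p G) (hP : IsCyclic ↥(P : Subgroup G))
    (X : Subgroup G) (hX : IsPGroup p X) : IsCyclic X := by
  obtain ⟨Q, hQ⟩ := hX.exists_le_sylow
  haveI : IsCyclic ↥(Q : Subgroup G) :=
    isCyclic_of_surjective (P.equiv Q).toMonoidHom (P.equiv Q).surjective
  exact isCyclic_of_injective (Subgroup.inclusion hQ) (Subgroup.inclusion_injective hQ)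

theorem of_pGroup {G : Type u} [Group G] [Finite G] (R : Subgroup G) [R.Normal] (hR : IsPGroup p R)
    (hR1 : R ≠ ⊥) (P : Sylow p G) (hP : IsCyclic ↥(P : Subgroup G)) : IsPSolvable p G := by
  classical
  have hRc := sylow_cyclic P hP R hR
  have hRP : R ≤ (P : Subgroup G) := (le_pCore inferInstance hR).trans (pCore_le_sylow P)
  haveI : (Subgroup.centralizer (R : Set G)).Normal := inferInstance
  set K := Subgroup.centralizer (R : Set G)
  have hPK : (P : Subgroup G) ≤ K := fun y hy => Subgroup.mem_centralizer_iff.2 fun r hr =>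
    sylow_comm P hP r (hRP hr) y hy
  obtain ⟨r, hr, hr1⟩ := (Subgroup.bot_or_exists_ne_one R).resolve_left hR1
  obtain ⟨k, hk⟩ := IsPGroup.iff_orderOf.mp hR ⟨r, hr⟩
  rw [Subgroup.orderOf_mk] at hk
  have hk0 : k ≠ 0 := by
    rintro rfl
    exact hr1 (orderOf_eq_one_iff.1 (hk.trans (pow_zero p)))
  have hzo : orderOf (r ^ (orderOf r / p)) = p :=
    orderOf_pow_orderOf_div (orderOf_pos r).ne' (hk ▸ dvd_pow_self p hk0)
  set z := r ^ (orderOf r / p)
  set Q := P.subtype hPK
  have hQc : IsCyclic ↥(Q : Subgroup K) :=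
    isCyclic_of_surjective (Subgroup.subgroupOfEquivOfLe hPK).symm.toMonoidHom
      (Subgroup.subgroupOfEquivOfLe hPK).symm.surjective
  have hcomp : HasNormalPComplement p K := by
    refine complement_of_central Q hQc fun c hc hco x hx => ?_
    have hzQ : (⟨z, hPK (hRP (pow_mem hr _))⟩ : K) ∈ (Q : Subgroup K) := hRP (pow_mem hr _)
    refine rigid_fix Q.2 hQc (fun y hy => (Subgroup.mem_normalizer_iff.1 hc y).1 hy) hco hzQ
      ((Subgroup.orderOf_mk _ _).trans hzo) (Subtype.ext ?_) x hx
    exact (Subgroup.mem_centralizer_iff.1 c.2 z (pow_mem hr _)).symm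
  obtain ⟨S, N, hN, hS⟩ := hcomp
  haveI := hN
  have hidx : N.index = Nat.card (S : Subgroup K) := hS.symm.index_eq_card
  obtain ⟨m, hm⟩ := S.2.exists_card_eq
  have hNcop : (Nat.card N).Coprime p := by
    refine ((Fact.out : p.Prime).coprime_iff_not_dvd.2 fun hd => ?_).symm
    have h1 : p ^ (m + 1) ∣ Nat.card K := by
      rw [← hS.card_mul, hm, pow_succ]
      exact (mul_dvd_mul dvd_rfl hd).trans (dvd_of_eq (mul_comm _ _))
    have h2 := S.card_eq_multiplicity
    rw [hm] at h2
    have h3 := ((Fact.out : p.Prime).pow_dvd_iff_le_factorization Nat.card_pos.ne').1 h1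
    have h4 := Nat.pow_right_injective (Fact.out : p.Prime).two_le h2
    omega
  have hK : IsPSolvable p K :=
    psolv_of_index N (of_coprime hNcop) (Or.inl ⟨m, hidx.trans hm⟩)
  refine psolv_of_index K hK (Or.inr ?_)
  refine ((Fact.out : p.Prime).coprime_iff_not_dvd.2 fun hd => ?_).symm
  exact P.not_dvd_index (hd.trans (Subgroup.index_dvd_of_le hPK))

/-- Elements of order `p` lift along a quotient by a `p'`-group. -/
theorem exists_lift {G : Type u} [Group G] [Finite G] (C : Subgroup G) [C.Normal]
    (hC : ¬ p ∣ Nat.card C) (x : G ⧸ C) (hx : orderOf x = p) :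
    ∃ h : G, orderOf h = p ∧ (h : G ⧸ C) = x := by
  have hp := (Fact.out : p.Prime)
  obtain ⟨g, rfl⟩ := QuotientGroup.mk_surjective x
  obtain ⟨j, hj⟩ := Nat.exists_mul_mod_eq_one_of_coprime (n := Nat.card C) (k := p)
    (hp.coprime_iff_not_dvd.2 hC).symm hp.one_lt
  have hgp : g ^ p ∈ C := (QuotientGroup.eq_one_iff _).1 (by
    have h := pow_orderOf_eq_one (g : G ⧸ C)
    rwa [hx, ← QuotientGroup.mk_pow] at h)
  have hg : ((g ^ (Nat.card C * j) : G) : G ⧸ C) = (g : G ⧸ C) := by
    rw [QuotientGroup.mk_pow, ← pow_mod_orderOf, hx, hj.2, pow_one]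
  refine ⟨g ^ (Nat.card C * j), orderOf_eq_prime ?_ ?_, hg⟩
  · rw [← pow_mul, mul_comm, pow_mul, pow_mul]
    have h : (⟨g ^ p, hgp⟩ : C) ^ Nat.card C = 1 := pow_card_eq_one'
    have h' : (g ^ p) ^ Nat.card C = 1 := congrArg Subtype.val h
    rw [h', one_pow]
  · intro h
    rw [h, QuotientGroup.mk_one] at hg
    rw [← hg, orderOf_one] at hx
    exact hp.ne_one hx.symm

theorem main : ∀ (n : ℕ) (G : Type u) [Group G] [Finite G], Nat.card G = n →
    ∀ P : Sylow p G, IsCyclic ↥(P : Subgroup G) →
    (∀ x y : G, orderOf x = p → orderOf y = p → IsPSolvable p ↥(Subgroup.closure ({x, y} : Set G))) →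
    IsPSolvable p G := by
  intro n
  induction n using Nat.strongRecOn with
  | ind n ih =>
    intro G _ _ hn P hP hc
    classical
    have hp := (Fact.out : p.Prime)
    by_cases hdvd : p ∣ Nat.card G
    swap
    · exact of_coprime (hp.coprime_iff_not_dvd.2 hdvd).symm
    haveI : Nontrivial G := Finite.one_lt_card_iff_nontrivial.1
      (hp.one_lt.trans_le (Nat.le_of_dvd Nat.card_pos hdvd))
    by_cases hC : pPrimeCore p G = ⊥
    swap
    · -- factor out the `p'`-core
      haveI hCn : (pPrimeCore p G).Normal := (pPrimeCore_mem p G).1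
      have hCd : ¬ p ∣ Nat.card (pPrimeCore p G) := not_dvd_card_pPrimeCore
      refine psolv_of_quot (pPrimeCore p G) (Or.inr (hp.coprime_iff_not_dvd.2 hCd).symm) ?_
      set T := P.mapSurjective (QuotientGroup.mk'_surjective (pPrimeCore p G))
      have hT : IsCyclic ↥(T : Subgroup (G ⧸ pPrimeCore p G)) :=
        isCyclic_of_surjective ((QuotientGroup.mk' (pPrimeCore p G)).subgroupMap (P : Subgroup G))
          ((QuotientGroup.mk' (pPrimeCore p G)).subgroupMap_surjective (P : Subgroup G))
      refine ih _ ?_ (G ⧸ pPrimeCore p G) rfl T hT ?_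
      · rw [← hn, Subgroup.card_eq_card_quotient_mul_card_subgroup (pPrimeCore p G)]
        exact lt_mul_of_one_lt_right Nat.card_pos ((Subgroup.one_lt_card_iff_ne_bot _).2 hC)
      · intro x y hx hy
        obtain ⟨a, ha, rfl⟩ := exists_lift _ hCd x hx
        obtain ⟨b, hb, rfl⟩ := exists_lift _ hCd y hy
        have e : (Subgroup.closure ({a, b} : Set G)).map (QuotientGroup.mk' (pPrimeCore p G)) =
            Subgroup.closure ({(a : G ⧸ pPrimeCore p G), (b : G ⧸ pPrimeCore p G)} : Set (G ⧸ pPrimeCore p G)) := by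
          rw [MonoidHom.map_closure, Set.image_pair]
          rfl
        rw [← e]
        exact Cfsg.Agent.Lib.PGroups.IsoByOrder.psolvable_of_surjective
          ((QuotientGroup.mk' (pPrimeCore p G)).subgroupMap (Subgroup.closure ({a, b} : Set G)))
          ((QuotientGroup.mk' (pPrimeCore p G)).subgroupMap_surjective _) (hc a b ha hb)
    by_cases hR : pCore p G = ⊥
    swap
    · exact of_pGroup (pCore p G) (pCore_isPGroup p G) hR P hP
    by_cases hab : IsMulCommutative G
    · haveI : Group.IsSolvable G := Group.isSolvable_of_comm fun a b => mul_comm' a b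
      exact isPSolvable_of_isSolvable p
    exfalso
    haveI : IsSimpleGroup G := by
      refine ⟨fun N hN => ?_⟩
      by_contra hcon
      push_neg at hcon
      haveI := hN
      obtain ⟨S⟩ : Nonempty (Sylow p N) := inferInstance
      have hScyc : IsCyclic ↥(S : Subgroup N) := by
        have h := sylow_cyclic P hP ((S : Subgroup N).map N.subtype) (S.2.map _)
        exact isCyclic_of_surjective
          ((S : Subgroup N).equivMapOfInjective N.subtype N.subtype_injective).symm.toMonoidHom
          ((S : Subgroup N).equivMapOfInjective N.subtype N.subtype_injective).symm.surjective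
      have hlt : Nat.card N < n := by
        rw [← hn]
        rcases lt_or_eq_of_le (Nat.le_of_dvd Nat.card_pos N.card_subgroup_dvd_card) with h | h
        · exact h
        · exact absurd (Subgroup.eq_top_of_card_eq N h) hcon.2
      have hsol : IsPSolvable p N := by
        refine ih _ hlt N rfl S hScyc fun x y hx hy => ?_
        have e : (Subgroup.closure ({x, y} : Set N)).map N.subtype =
            Subgroup.closure ({(x : G), (y : G)} : Set G) := by
          rw [MonoidHom.map_closure, Set.image_pair]
          rfl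
        have h := hc (x : G) (y : G) ((Subgroup.orderOf_coe x).trans hx) ((Subgroup.orderOf_coe y).trans hy)
        rw [← e] at h
        exact psolv_of_equiv
          (Subgroup.equivMapOfInjective _ N.subtype N.subtype_injective).symm h
      have h1 : pPrimeCore p N = ⊥ := by
        have h := map_subtype_pPrimeCore_le (p := p) N
        rw [hC, le_bot_iff, Subgroup.map_eq_bot_iff_of_injective _ N.subtype_injective] at h
        exact h
      have h2 : pCore p N = ⊥ := by
        have h := map_subtype_pCore_le (p := p) N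
        rw [hR, le_bot_iff, Subgroup.map_eq_bot_iff_of_injective _ N.subtype_injective] at h
        exact h
      have h3 := Cfsg.Agent.Lib.Blocks.centralizer_pCore_le_of_isPSolvable p hsol h1
      rw [h2] at h3
      refine hcon.1 ((Subgroup.eq_bot_iff_forall N).2 fun x hx => ?_)
      have h4 : (⟨x, hx⟩ : N) ∈ (⊥ : Subgroup N) := h3 (Subgroup.mem_centralizer_iff.2 fun b hb => by
        rw [SetLike.mem_coe, Subgroup.mem_bot] at hb
        rw [hb, one_mul, mul_one])
      exact congrArg Subtype.val (Subgroup.mem_bot.1 h4)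
    exact PairCount.Cyclic.false_of_simple hab P hP hdvd hc

end

/-- Let G be a finite group whose Sylow p-subgroups are cyclic. Then G is p-solvable if and only if every two elements of order p of G generate a p-solvable subgroup. -/
theorem result {G : Type*} [Group G] [Finite G] {p : ℕ} [Fact p.Prime] (P : Sylow p G) (hP : IsCyclic ↥(P : Subgroup G)) :
    Cfsg.IsPSolvable p G ↔ ∀ x y : G, orderOf x = p → orderOf y = p → Cfsg.IsPSolvable p ↥(Subgroup.closure ({x, y} : Set G)) :=
  ⟨fun h x y _ _ => Cfsg.Agent.Lib.Harada.isPSolvable_subgroup h _,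
    fun hc => main _ G rfl P hP hc⟩

end Cfsg.Agent.S1950
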