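import Cfsg.Statements.S1952
import Mathlib
import Cfsg.Agent.Lib.Cores.Frattini
-- import your own Cfsg.Agent.* helpers here

set_option autoImplicit false
open Cfsg

namespace Cfsg.Agent.S1952

section

variable {p : ℕ} [Fact p.Prime]

theorem exists_hom_aux {A : Type*} [CommGroup A] [Module (ZMod p) (Additive A)] {a : A}
    (ha : a ≠ 1) : ∃ f : A →* Multiplicative (ZMod p), f a ≠ 1 := by
  obtain ⟨φ, hφ⟩ : ∃ φ : Additive A →ₗ[ZMod p] ZMod p, φ (Additive.ofMul a) ≠ 0 := by
    by_contra! h
    exact ha (Additive.ofMul.injective ((Module.forall_dual_apply_eq_zero_iff (ZMod p) _).1 h))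
  exact ⟨AddMonoidHom.toMultiplicativeRight φ.toAddMonoidHom, fun e => hφ e⟩

/-- A nontrivial element of an elementary abelian `p`-group is detected by a homomorphism to `Z_p`. -/
theorem exists_hom_ne_one {A : Type*} [CommGroup A] (hA : ∀ a : A, a ^ p = 1) {a : A} (ha : a ≠ 1) :
    ∃ f : A →* Multiplicative (ZMod p), f a ≠ 1 :=
  letI : Module (ZMod p) (Additive A) :=
    AddCommGroup.zmodModule (fun b => Additive.toMul.injective (by rw [toMul_nsmul, hA]; rfl))
  exists_hom_aux ha

end

/-- `PUnit ≀ᵣ C ≃* C`. -/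
def punitWreath (C : Type*) [Group C] : IteratedWreathProduct C 1 ≃* C where
  toFun w := RegularWreathProduct.right w
  invFun c := ⟨fun _ => PUnit.unit, c⟩
  left_inv w := rfl
  right_inv c := rfl
  map_mul' u v := rfl

/-- Let P be a finite p-group with a normal elementary abelian subgroup A of index p, and let x ∈ A and y ∈ P with y outside A. If the product of the p conjugates y^(-i) x y^i (i = 0, …, p−1) is not the identity, then the wreath product Z_p ≀ Z_p, realised as a Sylow p-subgroup of the symmetric group of degree p², is a homomorphic image of P. -/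
theorem result {P : Type*} [Group P] [Finite P] {p : ℕ} [Fact p.Prime] (hP : IsPGroup p P) (A : Subgroup P) [A.Normal]
    (hA : Cfsg.IsElementaryAbelian p A) (hidx : A.index = p) (x y : P) (hx : x ∈ A) (hy : y ∉ A)
    (hprod : ((List.range p).map (fun i => (y ^ i)⁻¹ * x * y ^ i)).prod ≠ 1) :
    ∃ (Q : Sylow p (Equiv.Perm (Fin (p ^ 2)))) (f : P →* ↥(Q : Subgroup (Equiv.Perm (Fin (p ^ 2))))), Function.Surjective f := by
  classical
  set C := Multiplicative (ZMod p)
  have hC : Nat.card C = p := by simp [C]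
  have hAc : ∀ a ∈ A, ∀ b ∈ A, a * b = b * a := fun a ha b hb =>
    congrArg Subtype.val (hA.1.is_comm.comm (⟨a, ha⟩ : A) ⟨b, hb⟩)
  -- the map onto `P / A`
  have hPA : Nat.card (P ⧸ A) = p := by rw [← Subgroup.index_eq_card, hidx]
  let eτ : P ⧸ A ≃* C := mulEquivOfPrimeCardEq (p := p) hPA hC
  let τ : P →* C := eτ.toMonoidHom.comp (QuotientGroup.mk' A)
  have hτ : ∀ g, τ g = 1 ↔ g ∈ A := fun g => by
    show eτ (QuotientGroup.mk g) = 1 ↔ _
    rw [MulEquiv.map_eq_one_iff, QuotientGroup.eq_one_iff]
  set c₀ := τ y with hc₀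
  have hc₀1 : c₀ ≠ 1 := fun e => hy ((hτ y).1 e)
  have hord : orderOf c₀ = p := orderOf_eq_prime (by have := pow_card_eq_one' (x := c₀); rwa [hC] at this) hc₀1
  let ev : Fin p → C := fun i => c₀ ^ (i : ℕ)
  have hev : Function.Bijective ev := by
    refine (Nat.bijective_iff_injective_and_card ev).2 ⟨fun i j h => ?_, by rw [Nat.card_fin, hC]⟩
    exact Fin.ext (pow_injOn_Iio_orderOf (show (i : ℕ) < orderOf c₀ by rw [hord]; exact i.2)
      (show (j : ℕ) < orderOf c₀ by rw [hord]; exact j.2) h)
  let eqv := Equiv.ofBijective ev hev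
  let s : C → P := fun c => y ^ ((eqv.symm c : Fin p) : ℕ)
  have hs : ∀ c, τ (s c) = c := fun c => by
    rw [map_pow]; exact eqv.apply_symm_apply c
  -- the functional
  set Nx := ((List.range p).map (fun i => (y ^ i)⁻¹ * x * y ^ i)).prod with hNx
  have hNxA : Nx ∈ A := Subgroup.list_prod_mem _ fun z hz => by
    obtain ⟨i, -, rfl⟩ := List.mem_map.1 hz
    exact Subgroup.Normal.conj_mem' inferInstance x hx _
  letI : CommGroup A := { (inferInstance : Group A) with mul_comm := hA.1.is_comm.comm }
  obtain ⟨lam, hlam⟩ := exists_hom_ne_one (p := p) (A := A) (fun a => Subtype.ext (hA.2 a a.2))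
    (a := ⟨Nx, hNxA⟩) (fun e => hprod (congrArg Subtype.val e))
  let ψ : P → C := fun g => if h : g ∈ A then lam ⟨g, h⟩ else 1
  have hψ : ∀ a (ha : a ∈ A) b (hb : b ∈ A), ψ (a * b) = ψ a * ψ b := fun a ha b hb => by
    simp only [ψ, dif_pos ha, dif_pos hb, dif_pos (mul_mem ha hb)]
    exact map_mul lam ⟨a, ha⟩ ⟨b, hb⟩
  have hmem : ∀ g c, (s c)⁻¹ * g * s ((τ g)⁻¹ * c) ∈ A := fun g c => (hτ _).1 (by
    rw [map_mul, map_mul, map_inv, hs, hs]
    rw [mul_assoc, mul_inv_cancel_left, inv_mul_cancel])
  let f : P →* RegularWreathProduct C C := MonoidHom.mk'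
    (fun g => ⟨fun c => ψ ((s c)⁻¹ * g * s ((τ g)⁻¹ * c)), τ g⟩) (fun g h => by
      refine RegularWreathProduct.ext ?_ ?_
      · funext c
        show _ = ψ _ * ψ _
        rw [← hψ _ (hmem g c) _ (hmem h _)]
        show ψ ((s c)⁻¹ * (g * h) * s ((τ (g * h))⁻¹ * c)) = _
        congr 1
        rw [map_mul, mul_inv_rev, mul_assoc (τ h)⁻¹]
        simp only [mul_assoc, mul_inv_cancel_left]
      · exact map_mul τ g h)
  -- the abelianized wreath product
  let μ : RegularWreathProduct C C →* C × C := MonoidHom.mk' (fun w => (∏ c, w.left c, w.right))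
    (fun u v => by
      refine Prod.ext ?_ rfl
      show ∏ c, u.left c * v.left (u.right⁻¹ * c) = _
      rw [Finset.prod_mul_distrib]
      exact congrArg (_ * ·) (Equiv.prod_comp (Equiv.mulLeft u.right⁻¹) v.left))
  set W := RegularWreathProduct C C
  have hW : IsPGroup p W := IsPGroup.of_card (n := p + 1) (by
    rw [RegularWreathProduct.card, hC, pow_succ])
  haveI := hW.isNilpotent
  have hker : ∀ w, μ w = 1 → w ∈ commutator W := by
    intro w hw
    have hw1 : ∏ c, w.left c = 1 := congrArg Prod.fst hw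
    have hw2 : w.right = 1 := congrArg Prod.snd hw
    let base : (C → C) →* W := MonoidHom.mk' (fun F => ⟨F, 1⟩) fun F G =>
      RegularWreathProduct.ext (by funext c; show F c * G c = F c * G (1⁻¹ * c); rw [inv_one, one_mul])
        (one_mul (1 : C)).symm
    let π := QuotientGroup.mk' (commutator W)
    have hshift : ∀ c d, π (base (Pi.mulSingle c d)) = π (base (Pi.mulSingle 1 d)) := by
      intro c d
      have e : base (Pi.mulSingle c d) =
          RegularWreathProduct.inl c * base (Pi.mulSingle 1 d) * (RegularWreathProduct.inl c)⁻¹ := by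
        refine RegularWreathProduct.ext ?_ (show (1 : C) = c * 1 * c⁻¹ by rw [mul_one, mul_inv_cancel])
        funext z
        show (Pi.mulSingle c d : C → C) z = 1 * (Pi.mulSingle 1 d : C → C) (c⁻¹ * z) * (1 : C)⁻¹
        simp only [one_mul, inv_one, mul_one, Pi.mulSingle_apply, inv_mul_eq_one]
        simp only [eq_comm (a := z)]
      rw [e, map_mul, map_mul, map_inv]
      have hab : ∀ a b : W ⧸ commutator W, a * b = b * a :=
        (((inferInstance : (commutator W).Normal).quotient_commutative_iff_commutator_le).2 le_rfl).is_comm.comm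
      rw [hab (π (RegularWreathProduct.inl c)), mul_inv_cancel_right]
    refine (QuotientGroup.eq_one_iff w).1 ?_
    letI : CommGroup (W ⧸ commutator W) := { (inferInstance : Group (W ⧸ commutator W)) with
      mul_comm := (((inferInstance : (commutator W).Normal).quotient_commutative_iff_commutator_le).2 le_rfl).is_comm.comm }
    calc π w = π (base (∏ c, Pi.mulSingle c (w.left c))) := by
          rw [Finset.univ_prod_mulSingle]
          exact congrArg π (RegularWreathProduct.ext rfl hw2)
      _ = ∏ c, π (base (Pi.mulSingle 1 (w.left c))) := by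
          exact (map_prod (π.comp base) _ _).trans (Finset.prod_congr rfl fun c _ => hshift c _)
      _ = π (base (Pi.mulSingle 1 (∏ c, w.left c))) := by
          refine Eq.trans (map_prod (π.comp base) (fun c => Pi.mulSingle 1 (w.left c)) _).symm ?_
          exact congrArg (π.comp base) (map_prod (MonoidHom.mulSingle (fun _ : C => C) 1) _ _).symm
      _ = 1 := by rw [hw1, Pi.mulSingle_one, map_one, map_one]
  have hsurj : Function.Surjective (μ.comp f) := by
    have hx1 : τ x = 1 := (hτ x).2 hx
    have e1 : (μ (f x)).1 = lam ⟨Nx, hNxA⟩ := by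
      show ∏ c, ψ ((s c)⁻¹ * x * s ((τ x)⁻¹ * c)) = _
      rw [hx1, inv_one]
      simp only [one_mul]
      rw [← Equiv.prod_comp eqv]
      simp only [s, Equiv.symm_apply_apply]
      have hlist : ∀ L : List ℕ, (L.map fun i => (y ^ i)⁻¹ * x * y ^ i).prod ∈ A ∧
          ψ (L.map fun i => (y ^ i)⁻¹ * x * y ^ i).prod =
            (L.map fun i => ψ ((y ^ i)⁻¹ * x * y ^ i)).prod := by
        intro L
        induction L with
        | nil =>
          refine ⟨one_mem _, ?_⟩
          simp only [List.map_nil, List.prod_nil, ψ, dif_pos (one_mem A)]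
          exact map_one lam
        | cons i L ih =>
          have hi := Subgroup.Normal.conj_mem' (inferInstance : A.Normal) x hx (y ^ i)
          simp only [List.map_cons, List.prod_cons]
          exact ⟨mul_mem hi ih.1, by rw [hψ _ hi _ ih.1, ih.2]⟩
      have h1 := (hlist (List.range p)).2
      rw [← hNx] at h1
      simp only [ψ, dif_pos hNxA] at h1
      rw [h1, Fin.prod_univ_eq_prod_range (fun i => ψ ((y ^ i)⁻¹ * x * y ^ i)) p]
      rfl
    have hgen : ∀ a b : C, a ≠ 1 → ∃ k : ℕ, a ^ k = b := fun a b ha => by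
      have := mem_zpowers_of_prime_card hC (g := a) (g' := b) ha
      exact mem_powers_iff_mem_zpowers.2 this
    rintro ⟨a, b⟩
    obtain ⟨j, hj⟩ := hgen c₀ b hc₀1
    obtain ⟨i, hi⟩ := hgen (lam ⟨Nx, hNxA⟩) (a * ((μ (f (y ^ j))).1)⁻¹) hlam
    refine ⟨x ^ i * y ^ j, ?_⟩
    rw [map_mul, map_pow]
    refine Prod.ext ?_ ?_
    · show (μ (f x)).1 ^ i * (μ (f (y ^ j))).1 = a
      rw [e1, hi, inv_mul_cancel_right]
    · show τ x ^ i * τ (y ^ j) = b
      rw [hx1, one_pow, one_mul, map_pow]
      exact hj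
  have hf : Function.Surjective f := by
    rw [← MonoidHom.range_eq_top]
    refine frattini_nongenerating (eq_top_iff.2 fun w _ => ?_)
    obtain ⟨g, hg⟩ := hsurj (μ w)
    have h1 : (f g)⁻¹ * w ∈ frattini W := Cfsg.Agent.Lib.Cores.commutator_le_frattini
      (hker _ (by rw [map_mul, map_inv, ← hg, MonoidHom.comp_apply, inv_mul_cancel]))
    have h2 := mul_mem (Subgroup.mem_sup_left (T := frattini W) ⟨g, rfl⟩ : f g ∈ f.range ⊔ frattini W)
      (Subgroup.mem_sup_right h1)
    rwa [mul_inv_cancel_left] at h2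
  obtain ⟨Q⟩ : Nonempty (Sylow p (Equiv.Perm (Fin (p ^ 2)))) := inferInstance
  let e := Sylow.mulEquivIteratedWreathProduct p 2 (Fin (p ^ 2)) (Nat.card_fin _) C hC Q
  let e' : IteratedWreathProduct C 2 ≃* W :=
    RegularWreathProduct.congr (punitWreath C) (MulEquiv.refl C)
  exact ⟨Q, (e.trans e').symm.toMonoidHom.comp f, (e.trans e').symm.surjective.comp hf⟩

end Cfsg.Agent.S1952
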