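import Cfsg.Statements.S1953
import Cfsg.Agent.Lib.FusionControl.CentricMin

set_option autoImplicit false
open Cfsg

namespace Cfsg.Agent.S1953

open Subgroup Cfsg.Agent.Lib

universe v

theorem main {G : Type v} [Group G] [Finite G] {p : ℕ} [hp : Fact p.Prime] (P : Sylow p G) (W : Subgroup G)
    (hWP : W ≤ (P : Subgroup G)) (hPW : (P : Subgroup G) ≤ normalizer (W : Set G))
    (hWc : (P : Subgroup G) ⊓ centralizer (W : Set G) ≤ W)
    (hfus : ∀ A : Subgroup G, A ≤ (P : Subgroup G) → ∀ g : G, A.map (MulAut.conj g).toMonoidHom ≤ (P : Subgroup G) →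
      ∃ h ∈ normalizer (W : Set G), ∃ c ∈ centralizer (A : Set G), g = h * c)
    (cr : Subgroup G → Prop)
    (hcr : ∀ Q : Subgroup G, cr Q ↔ (Q ≤ (P : Subgroup G) ∧
      (∃ R : Sylow p ↥(centralizer (Q : Set G)),
        (R : Subgroup ↥(centralizer (Q : Set G))).map (centralizer (Q : Set G)).subtype = Q ⊓ centralizer (Q : Set G)) ∧
      ∀ X : Subgroup G, X ≤ normalizer (Q : Set G) →
        (∀ n ∈ normalizer (Q : Set G), X.map (MulAut.conj n).toMonoidHom = X) →
        Q ⊔ centralizer (Q : Set G) ≤ X → (∃ k : ℕ, (Q ⊔ centralizer (Q : Set G)).relIndex X = p ^ k) →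
        X = Q ⊔ centralizer (Q : Set G))) :
    ∃ Q : Subgroup G, cr Q ∧ (∀ R : Subgroup G, cr R → Q ≤ R) ∧
      (∀ x ∈ (P : Subgroup G), Q.map (MulAut.conj x).toMonoidHom = Q) ∧
      ∀ A : Subgroup G, A ≤ (P : Subgroup G) → ∀ g : G, A.map (MulAut.conj g).toMonoidHom ≤ (P : Subgroup G) →
        ∃ h ∈ normalizer (Q : Set G), ∃ c ∈ centralizer (A : Set G), g = h * c := by
  set N := normalizer (W : Set G) with hNdef
  set C := centralizer (W : Set G) with hCdef
  have hCN : C ≤ N := centralizer_le_normalizer _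
  have hCn : ∀ n ∈ N, ∀ c ∈ C, n * c * n⁻¹ ∈ C := fun n hn c hc => CentricMin.conj_centralizer hn hc
  let P' : Sylow p ↥N := P.subtype hPW
  have hP' : ∀ x : ↥N, x ∈ (P' : Subgroup ↥N) ↔ (x : G) ∈ (P : Subgroup G) := fun x => by
    simp [P', Subgroup.mem_subgroupOf]
  -- the Sylow subgroup of `C` is central
  haveI hCn' : (C.subgroupOf N).Normal :=
    normal_subgroupOf_of_le_normalizer (CentricMin.normalizer_le_normalizer_centralizer W)
  have hZp : ∀ x ∈ C, ∀ k : ℕ, x ^ p ^ k = 1 → x ∈ W := by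
    intro x hx k hk
    obtain ⟨S, hS⟩ := PGroups.exists_sylow_eq_inf P' (C.subgroupOf N)
    let Z : Sylow p ↥(C.subgroupOf N) := S
    have hZn : (S : Subgroup ↥(C.subgroupOf N)).Normal := by
      refine ⟨fun z hz g => ?_⟩
      have hzW : ((z : ↥N) : G) ∈ W := by
        rw [hS, mem_subgroupOf, mem_inf] at hz
        exact hWc ⟨(hP' _).mp hz.1, z.2⟩
      have : g * z * g⁻¹ = z := by
        refine Subtype.ext (Subtype.ext ?_)
        show ((g : ↥N) : G) * ((z : ↥N) : G) * ((g : ↥N) : G)⁻¹ = _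
        rw [← mem_centralizer_iff.mp (show ((g : ↥N) : G) ∈ C from g.2) _ hzW, mul_inv_cancel_right]
      rw [this]; exact hz
    haveI := Sylow.unique_of_normal S hZn
    have hxp : IsPGroup p ↥(zpowers (⟨⟨x, hCN hx⟩, hx⟩ : ↥(C.subgroupOf N))) := by
      intro y
      obtain ⟨i, hi⟩ := mem_zpowers_iff.mp y.2
      refine ⟨k, Subtype.ext ?_⟩
      rw [SubmonoidClass.coe_pow, ← hi, ← zpow_natCast, ← zpow_mul, mul_comm, zpow_mul, zpow_natCast]
      rw [show (⟨⟨x, hCN hx⟩, hx⟩ : ↥(C.subgroupOf N)) ^ p ^ k = 1 from Subtype.ext (Subtype.ext hk), one_zpow]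
      rfl
    obtain ⟨S', hS'⟩ := hxp.exists_le_sylow
    have := hS' (mem_zpowers _)
    rw [Subsingleton.elim S' S] at this
    change _ ∈ (S : Subgroup ↥(C.subgroupOf N)) at this
    rw [hS, mem_subgroupOf, mem_inf] at this
    exact hWc ⟨(hP' _).mp this.1, hx⟩
  have hWC : ∀ w ∈ W, ∀ c ∈ C, w * c = c * w := fun w hw c hc => mem_centralizer_iff.mp hc w hw
  -- the `p'`-part of `C`
  obtain ⟨D, hDC, hDcop, hDmem, hCD⟩ : ∃ D : Subgroup G, D ≤ C ∧ (Nat.card ↥D).Coprime p ∧
      (∀ x ∈ C, (orderOf x).Coprime p → x ∈ D) ∧ ∀ c ∈ C, ∃ z ∈ W ⊓ C, ∃ d ∈ D, c = z * d := by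
    set Z := (W ⊓ C).subgroupOf C with hZ
    haveI hZn : Z.Normal := ⟨fun z hz g => by
      have : g * z * g⁻¹ = z := Subtype.ext (by
        show (g : G) * (z : G) * (g : G)⁻¹ = _
        rw [← hWC (z : G) hz.1 g g.2, mul_inv_cancel_right])
      rw [this]; exact hz⟩
    have hZP : IsPGroup p ↥Z :=
      ((P.2.to_le hWP).to_le inf_le_left).of_equiv (subgroupOfEquivOfLe inf_le_right).symm
    obtain ⟨n, hn⟩ := IsPGroup.iff_card.mp hZP
    have hZi : ¬ p ∣ Z.index := by
      intro hd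
      rw [Subgroup.index_eq_card] at hd
      obtain ⟨y, hy⟩ := exists_prime_orderOf_dvd_card' p hd
      obtain ⟨x, rfl⟩ := QuotientGroup.mk'_surjective Z y
      have h1 : x ^ p ∈ Z := by
        rw [← QuotientGroup.eq_one_iff]
        show QuotientGroup.mk' Z (x ^ p) = 1
        rw [map_pow]
        exact orderOf_dvd_iff_pow_eq_one.mp hy.dvd
      obtain ⟨j, hj⟩ := hZP ⟨_, h1⟩
      have h2 : (x : G) ^ p ^ (j + 1) = 1 := by
        have := congrArg (fun y : ↥Z => ((y : ↥C) : G)) hj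
        simp only [SubmonoidClass.coe_pow, OneMemClass.coe_one] at this
        rw [← this, ← pow_mul, ← pow_succ']
      have h3 : x ∈ Z := ⟨hZp x x.2 _ h2, x.2⟩
      rw [show QuotientGroup.mk' Z x = 1 from (QuotientGroup.eq_one_iff x).mpr h3, orderOf_one] at hy
      exact hp.out.one_lt.ne hy
    have hco : (Nat.card ↥Z).Coprime Z.index := by
      rw [hn]; exact (hp.out.coprime_iff_not_dvd.mpr hZi).pow_left n
    obtain ⟨D₀, hD₀⟩ := Subgroup.exists_right_complement'_of_coprime hco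
    have hD₀card : (Nat.card ↥D₀).Coprime p := by
      rw [← hD₀.symm.index_eq_card]; exact (hp.out.coprime_iff_not_dvd.mpr hZi).symm
    have hdec : ∀ c ∈ C, ∃ z ∈ W ⊓ C, ∃ d ∈ D₀.map C.subtype, c = z * d := by
      intro c hc
      have hmem : (⟨c, hc⟩ : ↥C) ∈ ((Z ⊔ D₀ : Subgroup ↥C) : Set ↥C) := by
        rw [hD₀.sup_eq_top]; exact mem_top _
      rw [Subgroup.normal_mul Z D₀] at hmem
      obtain ⟨z, hz, d, hd, he⟩ := hmem
      exact ⟨z, hz, d, ⟨d, hd, rfl⟩, (congrArg Subtype.val he).symm⟩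
    refine ⟨D₀.map C.subtype, Subgroup.map_subtype_le _, ?_, ?_, hdec⟩
    · rwa [Subgroup.card_map_of_injective C.subtype_injective]
    · intro x hx hxo
      obtain ⟨z, hz, d, hd, rfl⟩ := hdec x hx
      obtain ⟨k, hk⟩ := P.2.to_le hWP |>.to_le inf_le_left ⟨z, hz⟩
      have hzk : z ^ p ^ k = 1 := congrArg Subtype.val hk
      have hcm : Commute z d := hWC z hz.1 d ((Subgroup.map_subtype_le _) hd)
      have h1 : (z * d) ^ p ^ k ∈ D₀.map C.subtype := by
        rw [hcm.mul_pow, hzk, one_mul]; exact pow_mem hd _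
      obtain ⟨m, hm⟩ := exists_pow_eq_self_of_coprime (hxo.symm.pow_left k)
      rw [← hm]
      exact pow_mem h1 m
  have hDordN : ∀ d ∈ D, (orderOf d).Coprime p := fun d hd =>
    hDcop.coprime_dvd_left (Subgroup.orderOf_dvd_natCard D hd)
  have hDn : ∀ n ∈ N, ∀ d ∈ D, n * d * n⁻¹ ∈ D := fun n hn d hd =>
    hDmem _ (hCn n hn d (hDC hd)) (by
      have : orderOf (n * d * n⁻¹) = orderOf d := orderOf_injective (MulAut.conj n).toMonoidHom
        (MulAut.conj n).injective d
      rw [this]; exact hDordN d hd)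
  have hDN : N ≤ normalizer (D : Set G) := by
    intro n hn
    rw [mem_normalizer_iff]
    intro d
    refine ⟨hDn n hn d, fun h => ?_⟩
    have := hDn n⁻¹ (inv_mem hn) _ h
    rwa [inv_inv, show n⁻¹ * (n * d * n⁻¹) * n = d by group] at this
  -- the preimage of `O_p(N / W C)`
  set M := (W ⊔ C).subgroupOf N with hM
  haveI hMn : M.Normal := normal_subgroupOf_of_le_normalizer
    ((le_inf le_rfl (CentricMin.normalizer_le_normalizer_centralizer W)).trans
      ((normalizer_inf_normalizer_le_normalizer_sup _ _)))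
  set X' := (Cfsg.pCore p (↥N ⧸ M)).comap (QuotientGroup.mk' M) with hX'
  set X := X'.map N.subtype with hX
  set Q := (P : Subgroup G) ⊓ X with hQ
  have hXN : X ≤ N := Subgroup.map_subtype_le _
  have hWCN : W ⊔ C ≤ N := sup_le le_normalizer hCN
  have hWCX : W ⊔ C ≤ X := fun x hx => ⟨⟨x, hWCN hx⟩, by
    show QuotientGroup.mk' M ⟨x, hWCN hx⟩ ∈ Cfsg.pCore p (↥N ⧸ M)
    rw [show QuotientGroup.mk' M ⟨x, hWCN hx⟩ = 1 from (QuotientGroup.eq_one_iff _).mpr hx]
    exact one_mem _, rfl⟩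
  have hXn : ∀ n ∈ N, ∀ x ∈ X, n * x * n⁻¹ ∈ X := by
    rintro n hn _ ⟨x, hx, rfl⟩
    exact ⟨⟨n, hn⟩ * x * ⟨n, hn⟩⁻¹, (inferInstance : X'.Normal).conj_mem x hx ⟨n, hn⟩, rfl⟩
  have hWQ : W ≤ Q := le_inf hWP (le_sup_left.trans hWCX)
  have hQN : Q ≤ N := inf_le_left.trans hPW
  have hXdec : ∀ x ∈ X, ∃ q ∈ Q, ∃ d ∈ D, x = q * d := by
    rintro _ ⟨x, hx, rfl⟩
    have hle := Cores.pCore_le_sylow (P'.mapSurjective (QuotientGroup.mk'_surjective M))
    rw [Sylow.coe_mapSurjective] at hle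
    obtain ⟨y, hy, hyx⟩ := hle hx
    have hm : (y : G)⁻¹ * (x : G) ∈ ((W ⊔ C : Subgroup G) : Set G) := by
      have h1 : y⁻¹ * x ∈ M := QuotientGroup.eq.mp hyx
      exact h1
    rw [coe_mul_of_right_le_normalizer_left W C hCN] at hm
    obtain ⟨w, hw, c, hc, hwc⟩ := hm
    obtain ⟨z, hz, d, hd, rfl⟩ := hCD c hc
    have hyX : (y : G) ∈ X := ⟨y, by
      show QuotientGroup.mk' M y ∈ Cfsg.pCore p (↥N ⧸ M); rw [hyx]; exact hx, rfl⟩
    refine ⟨(y : G) * w * z, ?_, d, hd, ?_⟩
    · exact Q.mul_mem (Q.mul_mem ⟨(hP' y).mp hy, hyX⟩ (hWQ hw)) (hWQ hz.1)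
    · have e : w * (z * d) = (y : G)⁻¹ * (x : G) := hwc
      calc (x : G) = (y : G) * ((y : G)⁻¹ * (x : G)) := (mul_inv_cancel_left _ _).symm
        _ = (y : G) * (w * (z * d)) := by rw [e]
        _ = (y : G) * w * z * d := by group
  have hPQ : ∀ x ∈ (P : Subgroup G), Q.map (MulAut.conj x).toMonoidHom = Q := fun x hx => by
    refine mem_normalizer_iff_map_conj_eq.mp (mem_normalizer_iff.mpr fun y => ?_)
    have hx' := hPW hx
    constructor
    · intro hy
      exact ⟨(P : Subgroup G).mul_mem ((P : Subgroup G).mul_mem hx hy.1) ((P : Subgroup G).inv_mem hx), hXn x hx' y hy.2⟩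
    · intro hy
      have h1 := hXn x⁻¹ (inv_mem hx') _ hy.2
      have h2 := (P : Subgroup G).mul_mem ((P : Subgroup G).mul_mem ((P : Subgroup G).inv_mem hx) hy.1) hx
      rw [inv_inv, show x⁻¹ * (x * y * x⁻¹) * x = y by group] at h1
      rw [show x⁻¹ * (x * y * x⁻¹) * x = y by group] at h2
      exact ⟨h2, h1⟩
  have hCQC : centralizer (Q : Set G) ≤ C := centralizer_le hWQ
  have hQD : ∀ d ∈ D, d ∈ normalizer (Q : Set G) → d ∈ centralizer (Q : Set G) := by
    intro d hd hdQ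
    rw [mem_centralizer_iff]
    intro q hq
    have h1 : q * d * q⁻¹ * d⁻¹ ∈ D := mul_mem (hDn q (hQN hq) d hd) (inv_mem hd)
    have h2 : q * d * q⁻¹ * d⁻¹ ∈ Q := by
      rw [show q * d * q⁻¹ * d⁻¹ = q * (d * q⁻¹ * d⁻¹) by group]
      exact mul_mem hq ((mem_normalizer_iff.mp hdQ _).mp (inv_mem hq))
    obtain ⟨k, hk⟩ := (P.2.to_le (inf_le_left : Q ≤ _)) ⟨_, h2⟩
    have h3 : (q * d * q⁻¹ * d⁻¹) ^ p ^ k = 1 := congrArg Subtype.val hk
    have h4 := orderOf_eq_one_iff.mp (Nat.eq_one_of_dvd_coprimes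
      ((hDordN _ h1).pow_right k) dvd_rfl (orderOf_dvd_of_pow_eq_one h3))
    rw [mul_inv_eq_one, mul_inv_eq_iff_eq_mul] at h4
    exact h4
  -- fusion
  have hfusQ : ∀ A : Subgroup G, A ≤ (P : Subgroup G) → ∀ g : G,
      A.map (MulAut.conj g).toMonoidHom ≤ (P : Subgroup G) →
      ∃ h ∈ normalizer (Q : Set G), ∃ c ∈ centralizer (A : Set G), g = h * c := by
    intro A hA g hg
    obtain ⟨h, hh, c, hc, rfl⟩ := hfus A hA g hg
    -- Frattini
    haveI : X'.Normal := inferInstance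
    obtain ⟨S, hS⟩ := PGroups.exists_sylow_eq_inf P' X'
    have hfr : normalizer (((P' : Subgroup ↥N) ⊓ X' : Subgroup ↥N) : Set ↥N) ⊔ X' = ⊤ := by
      have := Sylow.normalizer_sup_eq_top S
      rwa [hS, subgroupOf_map_subtype, inf_of_le_left inf_le_right] at this
    obtain ⟨n, hn, x, hx, hnx⟩ := mem_sup_of_normal_right.mp (hfr.ge (mem_top (⟨h, hh⟩ : ↥N)))
    have hnQ : (n : G) ∈ normalizer (Q : Set G) := by
      have e : ((P' : Subgroup ↥N) ⊓ X').map N.subtype = Q := by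
        ext y
        constructor
        · rintro ⟨y, ⟨h1, h2⟩, rfl⟩; exact ⟨(hP' y).mp h1, y, h2, rfl⟩
        · rintro ⟨h1, y, h2, rfl⟩; exact ⟨y, ⟨(hP' y).mpr h1, h2⟩, rfl⟩
      rw [← e]
      exact le_normalizer_map N.subtype ⟨n, hn, rfl⟩
    obtain ⟨q, hq, d, hd, hxd⟩ := hXdec (x : G) ⟨x, hx, rfl⟩
    set m := (n : G) * q with hm
    have hmQ : m ∈ normalizer (Q : Set G) := mul_mem hnQ (le_normalizer hq)
    have hhm : h = m * d := by
      rw [hm, mul_assoc, ← hxd]
      exact (congrArg Subtype.val hnx).symm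
    -- absorb `d`
    have hAN : A ≤ N := hA.trans hPW
    have hAQ : A ≤ normalizer (Q : Set G) := fun a ha => mem_normalizer_iff_map_conj_eq.mpr (hPQ a (hA ha))
    have hDQ : A ≤ normalizer ((D ⊓ normalizer (Q : Set G) : Subgroup G) : Set G) :=
      (le_inf (hAN.trans hDN) (hAQ.trans le_normalizer)).trans inf_normalizer_le_normalizer_inf
    have hkey : ∀ a ∈ A, d * a * d⁻¹ * a⁻¹ ∈ D ⊓ normalizer (Q : Set G) := by
      intro a ha
      refine ⟨?_, ?_⟩
      · rw [show d * a * d⁻¹ * a⁻¹ = d * (a * d⁻¹ * a⁻¹) by group]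
        exact mul_mem hd (hDn a (hAN ha) _ (inv_mem hd))
      · have h1 : h * c * a * (h * c)⁻¹ ∈ normalizer (Q : Set G) :=
          mem_normalizer_iff_map_conj_eq.mpr (hPQ _ (hg ⟨a, ha, rfl⟩))
        have h2 : c * a * c⁻¹ = a := by
          rw [← mem_centralizer_iff.mp hc a ha, mul_inv_cancel_right]
        have h3 : d * a * d⁻¹ = m⁻¹ * (h * c * a * (h * c)⁻¹) * m := by
          rw [show h * c * a * (h * c)⁻¹ = h * (c * a * c⁻¹) * h⁻¹ by group, h2, hhm]
          group
        have h4 : d * a * d⁻¹ ∈ normalizer (Q : Set G) := by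
          rw [h3]; exact mul_mem (mul_mem (inv_mem hmQ) h1) hmQ
        exact (normalizer (Q : Set G)).mul_mem h4 ((normalizer (Q : Set G)).inv_mem (hAQ ha))
    obtain ⟨e, he, hed⟩ := PSurj.exists_fixed_of_isPGroup (p := p) (N := D ⊓ normalizer (Q : Set G))
      (P.2.to_le hA) (hDcop.coprime_dvd_left (card_dvd_of_le inf_le_left)) hDQ (k := d⁻¹) (fun a ha => by
        have h5 := hkey a ha
        have e : d⁻¹⁻¹ * (a * d⁻¹ * a⁻¹) = d * a * d⁻¹ * a⁻¹ := by group
        rw [e]; exact h5)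
    -- `d⁻¹ * e` centralises `A`
    refine ⟨m * e, mul_mem hmQ he.2, (d⁻¹ * e)⁻¹ * c, mul_mem (inv_mem (mem_centralizer_iff.mpr hed)) hc, ?_⟩
    rw [hhm]; group
  have hNQ : normalizer (Q : Set G) ≤ N := by
    intro n hn
    obtain ⟨h, hh, c, hc, rfl⟩ := hfus Q inf_le_left n ((mem_normalizer_iff_map_conj_eq.mp hn).le.trans inf_le_left)
    exact mul_mem hh (hCN (hCQC hc))
  have hNdec : ∀ n ∈ N, ∃ m ∈ normalizer (Q : Set G), ∃ x ∈ X, n = m * x := by
    intro n hn
    haveI : X'.Normal := inferInstance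
    obtain ⟨S, hS⟩ := PGroups.exists_sylow_eq_inf P' X'
    have hfr : normalizer (((P' : Subgroup ↥N) ⊓ X' : Subgroup ↥N) : Set ↥N) ⊔ X' = ⊤ := by
      have := Sylow.normalizer_sup_eq_top S
      rwa [hS, subgroupOf_map_subtype, inf_of_le_left inf_le_right] at this
    obtain ⟨m, hm, x, hx, hnx⟩ := mem_sup_of_normal_right.mp (hfr.ge (mem_top (⟨n, hn⟩ : ↥N)))
    refine ⟨m, ?_, x, ⟨x, hx, rfl⟩, (congrArg Subtype.val hnx).symm⟩
    have e : ((P' : Subgroup ↥N) ⊓ X').map N.subtype = Q := by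
      ext y
      constructor
      · rintro ⟨y, ⟨h1, h2⟩, rfl⟩; exact ⟨(hP' y).mp h1, y, h2, rfl⟩
      · rintro ⟨h1, y, h2, rfl⟩; exact ⟨y, ⟨(hP' y).mpr h1, h2⟩, rfl⟩
    rw [← e]
    exact le_normalizer_map N.subtype ⟨m, hm, rfl⟩
  refine ⟨Q, (hcr Q).mpr ⟨inf_le_left, ?_, ?_⟩, ?_, hPQ, hfusQ⟩
  · -- Sylow subgroup of the centralizer
    obtain ⟨R⟩ : Nonempty (Sylow p ↥(centralizer (Q : Set G))) := inferInstance
    refine ⟨R, le_antisymm ?_ ?_⟩
    · rintro _ ⟨x, hx, rfl⟩
      obtain ⟨k, hk⟩ := R.2 ⟨x, hx⟩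
      have hk' : (x : G) ^ p ^ k = 1 := congrArg Subtype.val (congrArg Subtype.val hk)
      exact ⟨hWQ (hZp x (hCQC x.2) k hk'), x.2⟩
    · haveI : (Q ⊓ centralizer (Q : Set G)).subgroupOf (centralizer (Q : Set G)) |>.Normal :=
        ⟨fun z hz g => by
          have : g * z * g⁻¹ = z := Subtype.ext (by
            show (g : G) * (z : G) * (g : G)⁻¹ = _
            rw [← mem_centralizer_iff.mp g.2 (z : G) hz.1, mul_inv_cancel_right])
          rw [this]; exact hz⟩
      have h1 : IsPGroup p ↥((Q ⊓ centralizer (Q : Set G)).subgroupOf (centralizer (Q : Set G))) :=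
        ((P.2.to_le (inf_le_left : Q ≤ _)).to_le inf_le_left).of_equiv (subgroupOfEquivOfLe inf_le_right).symm
      have h2 := (Cores.le_pCore inferInstance h1).trans (Cores.pCore_le_sylow R)
      intro x hx
      exact ⟨⟨x, hx.2⟩, h2 hx, rfl⟩
  · -- no `p`-core above `Q C(Q)`
    intro Y hYN hYinv hQY hY
    obtain ⟨k, hk⟩ := hY
    refine le_antisymm ?_ hQY
    have hQCX : Q ⊔ centralizer (Q : Set G) ≤ X := sup_le inf_le_right (hCQC.trans (le_sup_right.trans hWCX))
    haveI : ((Q ⊔ centralizer (Q : Set G)).subgroupOf Y).Normal := normal_subgroupOf_of_le_normalizer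
      (hYN.trans ((le_inf le_rfl (CentricMin.normalizer_le_normalizer_centralizer Q)).trans
        (normalizer_inf_normalizer_le_normalizer_sup _ _)))
    have hYX : Y ≤ X := by
      set Yb := (Y.subgroupOf N).map (QuotientGroup.mk' M) with hYb
      have hO : IsPGroup p ↥(Cfsg.pCore p (↥N ⧸ M)) := Cores.pCore_isPGroup p _
      have hmkX : ∀ x : ↥N, (x : G) ∈ X → QuotientGroup.mk' M x ∈ Cfsg.pCore p (↥N ⧸ M) := by
        rintro x ⟨x', hx', he⟩
        rw [← show x' = x from Subtype.ext he]; exact hx'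
      have hYp : IsPGroup p ↥Yb := by
        rintro ⟨_, y, hy, rfl⟩
        have h1 : (⟨(y : G), hy⟩ : ↥Y) ^ p ^ k ∈ (Q ⊔ centralizer (Q : Set G)).subgroupOf Y := by
          rw [← hk]
          exact Subgroup.pow_index_mem _ _
        obtain ⟨j, hj⟩ := hO ⟨_, hmkX (y ^ p ^ k) (hQCX h1)⟩
        refine ⟨k + j, Subtype.ext ?_⟩
        have := congrArg Subtype.val hj
        simp only [SubmonoidClass.coe_pow, OneMemClass.coe_one, map_pow] at this ⊢
        rw [pow_add, pow_mul]; exact this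
      have hcl : ∀ g : ↥N ⧸ M, g ∈ normalizer ((Yb ⊔ Cfsg.pCore p (↥N ⧸ M) : Subgroup _) : Set (↥N ⧸ M)) := by
        intro g
        obtain ⟨⟨n, hn⟩, rfl⟩ := QuotientGroup.mk'_surjective M g
        obtain ⟨m, hm, x, hx, rfl⟩ := hNdec n hn
        have e : (⟨m * x, hn⟩ : ↥N) = ⟨m, hNQ hm⟩ * ⟨x, hXN hx⟩ := rfl
        rw [e, map_mul]
        refine mul_mem ?_ (le_normalizer (mem_sup_right (hmkX _ hx)))
        refine (normalizer_inf_normalizer_le_normalizer_sup _ _) ⟨?_, ?_⟩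
        · refine le_normalizer_map _ ⟨⟨m, hNQ hm⟩, ?_, rfl⟩
          rw [SetLike.mem_coe, mem_normalizer_iff]
          intro y
          exact mem_normalizer_iff.mp (mem_normalizer_iff_map_conj_eq.mpr (hYinv m hm)) (y : G)
        · rw [normalizer_eq_top]; exact mem_top _
      haveI hn : (Yb ⊔ Cfsg.pCore p (↥N ⧸ M)).Normal :=
        normalizer_eq_top_iff.mp (eq_top_iff.mpr fun g _ => hcl g)
      have hle : Yb ≤ Cfsg.pCore p (↥N ⧸ M) :=
        le_sup_left.trans (Cores.le_pCore hn (hYp.to_sup_of_normal_right hO))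
      intro y hy
      exact ⟨⟨y, hNQ (hYN hy)⟩, hle ⟨_, hy, rfl⟩, rfl⟩
    intro y hy
    obtain ⟨q, hq, d, hd, rfl⟩ := hXdec y (hYX hy)
    refine mul_mem (mem_sup_left hq) (mem_sup_right (hQD d hd ?_))
    have := mul_mem (inv_mem (le_normalizer hq : q ∈ normalizer (Q : Set G))) (hYN hy)
    rwa [inv_mul_cancel_left] at this
  · -- minimality
    intro R hR
    obtain ⟨hRP, ⟨T, hT⟩, hmax⟩ := (hcr R).mp hR
    set K := R ⊔ centralizer (R : Set G) with hK
    have hRQN : R ≤ normalizer (Q : Set G) := fun r hr => mem_normalizer_iff_map_conj_eq.mpr (hPQ r (hRP hr))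
    have hQ1 : Q ⊓ normalizer (R : Set G) ≤ normalizer (K : Set G) := inf_le_right.trans
      ((le_inf le_rfl (CentricMin.normalizer_le_normalizer_centralizer R)).trans
        (normalizer_inf_normalizer_le_normalizer_sup _ _))
    set Y := (Q ⊓ normalizer (R : Set G)) ⊔ K with hY
    have hKY : K ≤ Y := le_sup_right
    have hYN : Y ≤ normalizer (R : Set G) := sup_le inf_le_right (sup_le le_normalizer (centralizer_le_normalizer _))
    have hYinv : ∀ n ∈ normalizer (R : Set G), Y.map (MulAut.conj n).toMonoidHom = Y := by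
      have key : ∀ n ∈ normalizer (R : Set G), n ∈ normalizer (Q : Set G) → n ∈ normalizer (Y : Set G) := by
        intro n hn hnQ
        refine (normalizer_inf_normalizer_le_normalizer_sup _ _) ⟨?_, ?_⟩
        · exact inf_normalizer_le_normalizer_inf ⟨hnQ, le_normalizer hn⟩
        · exact (normalizer_inf_normalizer_le_normalizer_sup _ _)
            ⟨hn, CentricMin.normalizer_le_normalizer_centralizer R hn⟩
      intro n hn
      refine mem_normalizer_iff_map_conj_eq.mp ?_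
      obtain ⟨h, hh, c, hc, rfl⟩ := hfusQ R hRP n ((mem_normalizer_iff_map_conj_eq.mp hn).le.trans hRP)
      have hcn : c ∈ normalizer (R : Set G) := centralizer_le_normalizer _ hc
      refine mul_mem (key h ?_ hh) (le_normalizer (hKY (mem_sup_right hc)))
      have := mul_mem hn (inv_mem hcn)
      rwa [mul_inv_cancel_right] at this
    haveI hKn : (K.subgroupOf Y).Normal :=
      normal_subgroupOf_of_le_normalizer (sup_le hQ1 le_normalizer)
    have hidx : ∃ k, K.relIndex Y = p ^ k := by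
      have hq : IsPGroup p (↥Y ⧸ K.subgroupOf Y) := by
        intro y
        obtain ⟨⟨y, hy⟩, rfl⟩ := QuotientGroup.mk'_surjective _ y
        have hy' : y ∈ (((Q ⊓ normalizer (R : Set G)) ⊔ K : Subgroup G) : Set G) := hy
        rw [coe_mul_of_left_le_normalizer_right _ _ hQ1] at hy'
        obtain ⟨q, hq, x, hx, rfl⟩ := hy'
        obtain ⟨j, hj⟩ := (P.2.to_le (inf_le_left : Q ≤ _)) ⟨q, hq.1⟩
        have hj' : q ^ p ^ j = 1 := congrArg Subtype.val hj
        refine ⟨j, ?_⟩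
        have e : QuotientGroup.mk' (K.subgroupOf Y) ⟨q * x, hy⟩ =
            QuotientGroup.mk' (K.subgroupOf Y) ⟨q, mem_sup_left hq⟩ := by
          refine (QuotientGroup.eq.mpr ?_).symm
          show q⁻¹ * (q * x) ∈ K
          rwa [inv_mul_cancel_left]
        rw [e, ← map_pow, QuotientGroup.mk'_apply, QuotientGroup.eq_one_iff, mem_subgroupOf]
        show q ^ p ^ j ∈ K
        rw [hj']; exact one_mem _
      exact IsPGroup.iff_card.mp hq
    have hYK := hmax Y hYN hYinv hKY hidx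
    have hRQ : Q ⊓ normalizer (R : Set G) ≤ R := by
      intro q hq
      have hqK : q ∈ ((R ⊔ centralizer (R : Set G) : Subgroup G) : Set G) := hYK.le (mem_sup_left hq)
      rw [coe_mul_of_right_le_normalizer_left _ _ (centralizer_le_normalizer _)] at hqK
      obtain ⟨r, hr, c, hc, rfl⟩ := hqK
      have hcP : c ∈ (P : Subgroup G) := by
        have := mul_mem (inv_mem (hRP hr)) (hq.1.1)
        rwa [inv_mul_cancel_left] at this
      obtain ⟨j, hj⟩ := P.2 ⟨c, hcP⟩
      have hcp : IsPGroup p ↥(zpowers (⟨c, hc⟩ : ↥(centralizer (R : Set G)))) := by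
        intro y
        obtain ⟨i, hi⟩ := mem_zpowers_iff.mp y.2
        refine ⟨j, Subtype.ext (Subtype.ext ?_)⟩
        have hcj : c ^ p ^ j = 1 := congrArg Subtype.val hj
        simp only [SubmonoidClass.coe_pow, OneMemClass.coe_one, ← hi, SubgroupClass.coe_zpow]
        rw [← zpow_natCast, ← zpow_mul, mul_comm, zpow_mul, zpow_natCast, hcj, one_zpow]
      haveI hTn : (T : Subgroup ↥(centralizer (R : Set G))).Normal := ⟨fun z hz g => by
        have hzR : (z : G) ∈ R := (hT.le ⟨z, hz, rfl⟩).1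
        have : g * z * g⁻¹ = z := Subtype.ext (by
          show (g : G) * (z : G) * (g : G)⁻¹ = _
          rw [← mem_centralizer_iff.mp g.2 (z : G) hzR, mul_inv_cancel_right])
        rw [this]; exact hz⟩
      haveI := Sylow.unique_of_normal T hTn
      obtain ⟨T', hT'⟩ := hcp.exists_le_sylow
      have := hT' (mem_zpowers _)
      rw [Subsingleton.elim T' T] at this
      exact mul_mem hr (hT.le ⟨_, this, rfl⟩).1
    by_contra hle
    set S := Q ⊔ R with hS
    have hSP : S ≤ (P : Subgroup G) := sup_le inf_le_left hRP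
    haveI := (P.2.to_le hSP).isNilpotent
    have hlt : R.subgroupOf S < ⊤ := lt_top_iff_ne_top.mpr fun h =>
      hle (le_sup_left.trans (subgroupOf_eq_top.mp h))
    have hlt2 := Group.normalizerCondition_of_isNilpotent (G := ↥S) _ hlt
    obtain ⟨⟨s, hs⟩, hsn, hsR⟩ := SetLike.exists_of_lt hlt2
    have hs' : s ∈ ((Q ⊔ R : Subgroup G) : Set G) := hs
    rw [coe_mul_of_right_le_normalizer_left _ _ hRQN] at hs'
    obtain ⟨q, hq, r, hr, rfl⟩ := hs'
    have hn : q * r ∈ normalizer (R : Set G) := by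
      rw [mem_normalizer_iff]
      intro y
      constructor
      · intro hy
        exact (mem_normalizer_iff.mp hsn ⟨y, mem_sup_right hy⟩).mp hy
      · intro hy
        have hyS : y ∈ S := by
          have := mul_mem (mul_mem (inv_mem hs) (mem_sup_right hy : _ ∈ S)) hs
          rwa [show (q * r)⁻¹ * ((q * r) * y * (q * r)⁻¹) * (q * r) = y by group] at this
        exact (mem_normalizer_iff.mp hsn ⟨y, hyS⟩).mpr hy
    have hqn : q ∈ normalizer (R : Set G) := by
      have := mul_mem hn (inv_mem (le_normalizer hr : r ∈ normalizer (R : Set G)))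
      rwa [mul_inv_cancel_right] at this
    exact hsR (R.mul_mem (hRQ ⟨hq, hqn⟩) hr)

/-- Let p be an odd prime and P a Sylow p-subgroup of the finite group G, and suppose that for no p-subgroup Q of G does N_G(Q)/C_G(Q) have a section isomorphic to SL₂(p). Call a subgroup Q of P centric-radical when Z(Q) is a Sylow p-subgroup of C_G(Q) and the only normal subgroup X of N_G(Q) containing Q·C_G(Q) such that the index of Q·C_G(Q) in X is a power of p is Q·C_G(Q) itself (that is, N_G(Q)/Q·C_G(Q) has no nontrivial normal p-subgroup). Then there is a centric-radical subgroup Q of P contained in every centric-radical subgroup of P; it is normal in P, and N_G(Q) controls strong fusion in P: whenever a subgroup A of P has g A g⁻¹ ≤ P, the element g is a product h c with h in N_G(Q) and c centralizing A. -/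
theorem result {G : Type*} [Group G] [Finite G] {p : ℕ} [Fact p.Prime] (hp : p ≠ 2) (P : Sylow p G)
    (hfree : ∀ Q : Subgroup G, IsPGroup p ↥Q → ¬ ∃ (H K : Subgroup G) (_ : (K.subgroupOf H).Normal),
      Subgroup.centralizer (Q : Set G) ≤ K ∧ K ≤ H ∧ H ≤ Subgroup.normalizer (Q : Set G) ∧
      Nonempty ((↥H ⧸ K.subgroupOf H) ≃* Matrix.SpecialLinearGroup (Fin 2) (ZMod p)))
    (cr : Subgroup G → Prop)
    (hcr : ∀ Q : Subgroup G, cr Q ↔ (Q ≤ (P : Subgroup G) ∧
      (∃ R : Sylow p ↥(Subgroup.centralizer (Q : Set G)),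
        (R : Subgroup ↥(Subgroup.centralizer (Q : Set G))).map (Subgroup.centralizer (Q : Set G)).subtype = Q ⊓ Subgroup.centralizer (Q : Set G)) ∧
      ∀ X : Subgroup G, X ≤ Subgroup.normalizer (Q : Set G) →
        (∀ n ∈ Subgroup.normalizer (Q : Set G), X.map (MulAut.conj n).toMonoidHom = X) →
        Q ⊔ Subgroup.centralizer (Q : Set G) ≤ X → (∃ k : ℕ, (Q ⊔ Subgroup.centralizer (Q : Set G)).relIndex X = p ^ k) →
        X = Q ⊔ Subgroup.centralizer (Q : Set G))) :
    ∃ Q : Subgroup G, cr Q ∧ (∀ R : Subgroup G, cr R → Q ≤ R) ∧ (∀ x ∈ (P : Subgroup G), Q.map (MulAut.conj x).toMonoidHom = Q) ∧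
      ∀ A : Subgroup G, A ≤ (P : Subgroup G) → ∀ g : G, A.map (MulAut.conj g).toMonoidHom ≤ (P : Subgroup G) →
        ∃ h ∈ Subgroup.normalizer (Q : Set G), ∃ c ∈ Subgroup.centralizer (A : Set G), g = h * c := by
  have hQd := Cfsg.Agent.Lib.CentricMin.not_involves_qd hfree
  have hst : ∀ (K R : Subgroup G) [_hR : (R.subgroupOf K).Normal],
      Cfsg.IsNormalizerPStable p (↥K ⧸ R.subgroupOf K) := fun K R _ =>
    Cfsg.Agent.Lib.PLocal.isNormalizerPStable_of_involved Cfsg.Agent.Lib.PLocal.dicksonTwo hp hQd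
      Cfsg.Agent.Lib.FusionControl.involves_section
  haveI hchar : (Cfsg.kInfLower ↥(P : Subgroup G)).Characteristic :=
    Subgroup.characteristic_iff_map_eq.2 fun φ => Cfsg.Agent.Lib.FusionControl.map_kInfLower φ
  refine main P (Cfsg.inducedFunctor Cfsg.kInfLower (P : Subgroup G)) (Subgroup.map_subtype_le _) ?_ ?_
    (fun A hA g hg => Cfsg.Agent.Lib.CentricMin.controls_fusion P hst hA hg) cr hcr
  · intro x hx
    exact Subgroup.le_normalizer_map (P : Subgroup G).subtype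
      ⟨⟨x, hx⟩, by rw [Subgroup.normalizer_eq_top]; exact Subgroup.mem_top _, rfl⟩
  · intro x hx
    obtain ⟨hxP, hxc⟩ := hx
    refine ⟨⟨x, hxP⟩, (Cfsg.Agent.Lib.FusionControl.center_le_kInfLower _ P.2).2 ?_, rfl⟩
    rw [Subgroup.mem_centralizer_iff]
    intro w hw
    exact Subtype.ext (Subgroup.mem_centralizer_iff.mp hxc w ⟨w, hw, rfl⟩)

end Cfsg.Agent.S1953
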