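import Cfsg.Statements.S1956
import Cfsg.Agent.Lib.FusionControl.Basic

set_option autoImplicit false
open Cfsg

namespace Cfsg.Agent.S1956

/-- Let P be a Sylow p-subgroup of the finite group G such that every element of P of order dividing p (dividing 4 when p = 2) is central in P. Then the fusion of these elements is controlled by N_G(P): if such an element a of P has g a g⁻¹ in P, then g = n c with n normalizing P and c commuting with a. -/
theorem result {G : Type*} [Group G] [Finite G] {p : ℕ} [Fact p.Prime] (P : Sylow p G)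
    (hcen : ∀ a ∈ (P : Subgroup G), (a ^ p = 1 ∨ (p = 2 ∧ a ^ 4 = 1)) → ∀ y ∈ (P : Subgroup G), a * y = y * a) :
    ∀ a ∈ (P : Subgroup G), (a ^ p = 1 ∨ (p = 2 ∧ a ^ 4 = 1)) → ∀ g : G, g * a * g⁻¹ ∈ (P : Subgroup G) →
      ∃ n ∈ Subgroup.normalizer ((P : Subgroup G) : Set G), ∃ c : G, c * a = a * c ∧ g = n * c := by
  intro a ha haω g hga
  let R := Subgroup.centralizer ({a} : Set G)
  have hSR : (P : Subgroup G) ≤ R := fun y hy => Subgroup.mem_centralizer_singleton_iff.2 (hcen a ha haω y hy).symm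
  have hS'R : (P : Subgroup G).map (MulAut.conj g⁻¹).toMonoidHom ≤ R := by
    rw [Cfsg.Agent.Lib.FusionControl.cj_le_iff]
    intro y hy
    rw [Subgroup.mem_centralizer_singleton_iff, inv_inv]
    have h2 : (g * a * g⁻¹) ^ p = 1 ∨ (p = 2 ∧ (g * a * g⁻¹) ^ 4 = 1) := by
      rcases haω with h | ⟨h, h'⟩
      · left; rw [conj_pow, h]; simp
      · right; exact ⟨h, by rw [conj_pow, h']; simp⟩
    have h := hcen _ hga h2 y hy
    calc g⁻¹ * y * g * a = g⁻¹ * (y * (g * a * g⁻¹)) * g := by group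
      _ = g⁻¹ * ((g * a * g⁻¹) * y) * g := by rw [h]
      _ = _ := by group
  have hi : ¬ p ∣ (P : Subgroup G).relIndex R :=
    fun h => P.not_dvd_index (h.trans (Subgroup.relIndex_dvd_index_of_le hSR))
  obtain ⟨c, hc, hle⟩ := Cfsg.Agent.Lib.FusionControl.exists_cj_le_of_not_dvd hSR P.2 hi hS'R (Cfsg.Agent.Lib.FusionControl.isPGroup_cj P.2)
  rw [Cfsg.Agent.Lib.FusionControl.cj_cj] at hle
  have hn := Cfsg.Agent.Lib.FusionControl.mem_normalizer_of_cj_le hle
  refine ⟨(c * g⁻¹)⁻¹, inv_mem hn, c, Subgroup.mem_centralizer_singleton_iff.1 hc, by group⟩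

end Cfsg.Agent.S1956
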