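import Cfsg.Statements.S1957
import Cfsg.Agent.Lib.Coprime.Generation
import Cfsg.Agent.Lib.Cores.PCore
import Cfsg.Agent.Lib.Solvable.Nilpotent

set_option autoImplicit false
open Cfsg

namespace Cfsg.Agent.S1957

open scoped commutatorElement

/-- The four group is inside `O_2` of the centralizer of one of its involutions. -/
theorem four_le_pCore {H : Type*} [Group H] [Finite H]
    (hc : Cfsg.IsOfCharacteristicTwo H) (u : H) (hu2 : u * u = 1)
    (hu : ∀ h : H, h * u = u * h) (v : H)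
    (hv : ∀ q ∈ Cfsg.pCore 2 H, ⁅v, q⁆ = 1 ∨ ⁅v, q⁆ = u) : v ∈ Cfsg.pCore 2 H := by
  let M : Subgroup H :=
  { carrier := {h | ∀ q ∈ Cfsg.pCore 2 H, ⁅h, q⁆ = 1 ∨ ⁅h, q⁆ = u}
    mul_mem' := by
      intro a b ha hb q hq
      have e : ⁅a * b, q⁆ = ⁅b, q⁆ * ⁅a, q⁆ := by
        have h1 : a * ⁅b, q⁆ = ⁅b, q⁆ * a := by
          rcases hb q hq with h | h <;> rw [h]
          · simp
          · exact hu a
        calc ⁅a * b, q⁆ = a * ⁅b, q⁆ * a⁻¹ * ⁅a, q⁆ := by simp only [commutatorElement_def]; group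
          _ = ⁅b, q⁆ * ⁅a, q⁆ := by rw [h1, mul_inv_cancel_right]
      rw [e]
      rcases ha q hq with h | h <;> rcases hb q hq with h' | h' <;> simp [h, h', hu2]
    one_mem' := fun q _ => Or.inl (by simp [commutatorElement_def])
    inv_mem' := by
      intro a ha q hq
      have e : ⁅a⁻¹, q⁆ = a⁻¹ * ⁅a, q⁆⁻¹ * a := by simp only [commutatorElement_def]; group
      rw [e]
      rcases ha q hq with h | h <;> rw [h]
      · simp
      · refine Or.inr ?_
        rw [inv_eq_of_mul_eq_one_right hu2, mul_assoc, ← hu a, inv_mul_cancel_left] }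
  have hMn : M.Normal := ⟨fun h hh g q hq => by
    have hq' : g⁻¹ * q * g ∈ Cfsg.pCore 2 H := by
      simpa using (Cfsg.pCore_normal 2 H).conj_mem q hq g⁻¹
    have e : ⁅g * h * g⁻¹, q⁆ = g * ⁅h, g⁻¹ * q * g⁆ * g⁻¹ := by
      simp only [commutatorElement_def]; group
    rw [e]
    rcases hh _ hq' with h | h <;> rw [h]
    · simp
    · exact Or.inr (by rw [hu g, mul_inv_cancel_right])⟩
  refine Cfsg.Agent.Lib.Cores.le_pCore hMn (fun h => ?_) (x := v) hv
  have h2 : (h : H) ^ 2 ∈ Cfsg.pCore 2 H := by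
    refine hc (Subgroup.mem_centralizer_iff.mpr fun q hq => ?_)
    have e : ⁅(h : H) * h, q⁆ = (h : H) * ⁅(h : H), q⁆ * (h : H)⁻¹ * ⁅(h : H), q⁆ := by
      simp only [commutatorElement_def]; group
    have e1 : ⁅(h : H) * h, q⁆ = 1 := by
      rw [e]
      rcases h.2 q hq with h' | h' <;> rw [h']
      · simp
      · rw [hu (h : H), mul_inv_cancel_right, hu2]
    rw [commutatorElement_eq_one_iff_mul_comm] at e1
    rw [pow_two]
    exact e1.symm
  obtain ⟨k, hk⟩ := Cfsg.Agent.Lib.Cores.pCore_isPGroup 2 H ⟨_, h2⟩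
  refine ⟨k + 1, Subtype.ext ?_⟩
  have := congrArg Subtype.val hk
  simp only [Subgroup.coe_pow, Subgroup.coe_one] at this ⊢
  rw [← this, ← pow_mul, pow_succ']

theorem klein_cases {G : Type*} [Group G] {U : Subgroup G} [IsKleinFour ↥U] {a b c : G}
    (ha : a ∈ U) (hb : b ∈ U) (hc : c ∈ U) (ha1 : a ≠ 1) (hb1 : b ≠ 1) (hab : a ≠ b) :
    c = 1 ∨ c = a ∨ c = b ∨ c = a * b := by
  by_cases h1 : c = 1
  · exact Or.inl h1
  by_cases h2 : c = a
  · exact Or.inr (Or.inl h2)
  by_cases h3 : c = b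
  · exact Or.inr (Or.inr (Or.inl h3))
  refine Or.inr (Or.inr (Or.inr ?_))
  have := IsKleinFour.eq_mul_of_ne_all (G := ↥U) (x := ⟨a, ha⟩) (y := ⟨b, hb⟩) (z := ⟨c, hc⟩)
    (by simpa [Subtype.ext_iff] using ha1) (by simpa [Subtype.ext_iff] using hb1)
    (by simpa [Subtype.ext_iff] using hab) (by simpa [Subtype.ext_iff] using h1)
    (by simpa [Subtype.ext_iff] using h2) (by simpa [Subtype.ext_iff] using h3)
  simpa [Subtype.ext_iff] using this

theorem klein_sq {G : Type*} [Group G] {U : Subgroup G} [IsKleinFour ↥U] {a : G} (ha : a ∈ U) :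
    a * a = 1 := congrArg Subtype.val (IsKleinFour.mul_self (⟨a, ha⟩ : ↥U))

theorem klein_comm {G : Type*} [Group G] {U : Subgroup G} [IsKleinFour ↥U] {a b : G}
    (ha : a ∈ U) (hb : b ∈ U) : a * b = b * a := by
  calc a * b = (a * b)⁻¹ := (inv_eq_of_mul_eq_one_right (klein_sq (U.mul_mem ha hb))).symm
    _ = b⁻¹ * a⁻¹ := mul_inv_rev a b
    _ = b * a := by rw [inv_eq_of_mul_eq_one_right (klein_sq hb), inv_eq_of_mul_eq_one_right (klein_sq ha)]

/-- A Sylow 2-subgroup of the centralizer of an involution of a normal four group normalizes it. -/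
theorem sylow_normalizes {G : Type*} [Group G] [Finite G] (P : Sylow 2 G) (U : Subgroup G)
    (hUP : U ≤ (P : Subgroup G)) (hUn : (P : Subgroup G) ≤ Subgroup.normalizer (U : Set G))
    [IsKleinFour ↥U]
    (hUZ : ¬ IsCyclic ↥((P : Subgroup G) ⊓ Subgroup.centralizer ((P : Subgroup G) : Set G)) →
      U ≤ Subgroup.centralizer ((P : Subgroup G) : Set G))
    {u : G} (hu : u ∈ U) (hu1 : u ≠ 1) {T : Subgroup G} (hT : IsPGroup 2 T)
    (hTu : ∀ t ∈ T, t * u = u * t) (hRT : (P : Subgroup G) ⊓ Subgroup.centralizer {u} ≤ T) :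
    ∀ t ∈ T, ∀ x ∈ U, t * x * t⁻¹ ∈ U := by
  set R := (P : Subgroup G) ⊓ Subgroup.centralizer {u} with hR
  have hcard : Nat.card T ≤ Nat.card (P : Subgroup G) := by
    obtain ⟨Q, hQ⟩ := hT.exists_le_sylow
    exact (Subgroup.card_le_of_le hQ).trans_eq (by rw [Sylow.card_eq_multiplicity, Sylow.card_eq_multiplicity])
  by_cases hall : (P : Subgroup G) ≤ Subgroup.centralizer {u}
  · have hPT : (P : Subgroup G) ≤ T := (le_inf le_rfl hall).trans hRT
    have : (P : Subgroup G) = T := Subgroup.eq_of_le_of_card_ge hPT hcard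
    intro t ht x hx
    exact (Subgroup.mem_normalizer_iff.mp (hUn (this ▸ ht)) x).mp hx
  obtain ⟨p0, hp0, hp0u⟩ := SetLike.not_le_iff_exists.mp hall
  rw [Subgroup.mem_centralizer_singleton_iff] at hp0u
  have hcyc : IsCyclic ↥((P : Subgroup G) ⊓ Subgroup.centralizer ((P : Subgroup G) : Set G)) := by
    by_contra h
    exact hp0u (Subgroup.mem_centralizer_iff.mp (hUZ h hu) p0 hp0)
  -- the central involution of `U`
  obtain ⟨z, hzU, hz1, hzc⟩ : ∃ z ∈ U, z ≠ 1 ∧ ∀ p ∈ (P : Subgroup G), p * z = z * p := by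
    haveI := P.2.isNilpotent
    haveI : (U.subgroupOf (P : Subgroup G)).Normal :=
      (Subgroup.normal_subgroupOf_iff_le_normalizer hUP).mpr hUn
    have hne : U.subgroupOf (P : Subgroup G) ≠ ⊥ := fun h => hu1 <| by
      have : (⟨u, hUP hu⟩ : ↥(P : Subgroup G)) ∈ U.subgroupOf (P : Subgroup G) := hu
      rw [h, Subgroup.mem_bot] at this
      exact congrArg Subtype.val this
    obtain ⟨⟨z, hz⟩, hz'⟩ := (Subgroup.ne_bot_iff_exists_ne_one).mp
      (Cfsg.Agent.Lib.Solvable.inf_center_ne_bot (G := ↥(P : Subgroup G)) hne)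
    have hz1 : z ≠ 1 := fun e => hz' (Subtype.ext e)
    exact ⟨z, hz.1, fun e => hz1 (Subtype.ext e), fun p hp =>
      congrArg Subtype.val (Subgroup.mem_center_iff.mp hz.2 ⟨p, hp⟩)⟩
  have huz : u ≠ z := fun h => hp0u (h ▸ hzc p0 hp0)
  have hcen : ∀ s ∈ (P : Subgroup G), s * s = 1 → (∀ p ∈ (P : Subgroup G), p * s = s * p) → s = 1 ∨ s = z := by
    intro s hs hs2 hsc
    classical
    have := Fintype.ofFinite ↥((P : Subgroup G) ⊓ Subgroup.centralizer ((P : Subgroup G) : Set G))
    by_contra hne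
    push Not at hne
    let s' : ↥((P : Subgroup G) ⊓ Subgroup.centralizer ((P : Subgroup G) : Set G)) :=
      ⟨s, hs, Subgroup.mem_centralizer_iff.mpr hsc⟩
    let z' : ↥((P : Subgroup G) ⊓ Subgroup.centralizer ((P : Subgroup G) : Set G)) :=
      ⟨z, hUP hzU, Subgroup.mem_centralizer_iff.mpr hzc⟩
    have hle := IsCyclic.card_pow_eq_one_le
      (α := ↥((P : Subgroup G) ⊓ Subgroup.centralizer ((P : Subgroup G) : Set G))) (n := 2) (by norm_num)
    have hsub : ({1, s', z'} : Finset _) ⊆ Finset.univ.filter (fun a => a ^ 2 = 1) := by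
      intro a ha
      simp only [Finset.mem_insert, Finset.mem_singleton] at ha
      rcases ha with rfl | rfl | rfl <;> simp [s', z', pow_two, Subtype.ext_iff, hs2, klein_sq hzU]
    have h3 : ({1, s', z'} : Finset _).card = 3 := by
      rw [Finset.card_eq_three]
      refine ⟨1, s', z', ?_, ?_, ?_, rfl⟩ <;> simp [s', z', Subtype.ext_iff, hne.1, hne.2, Ne.symm hne.1, Ne.symm hz1]
    have := (Finset.card_le_card hsub).trans hle
    omega
  have hmove : ∀ p ∈ (P : Subgroup G), p * u ≠ u * p → p * u * p⁻¹ = u * z := by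
    intro p hp hpu
    have hm : p * u * p⁻¹ ∈ U := (Subgroup.mem_normalizer_iff.mp (hUn hp) u).mp hu
    rcases klein_cases hu hzU hm hu1 hz1 huz with h | h | h | h
    · exact absurd (by simpa [mul_inv_eq_one] using h) hu1
    · exact absurd (mul_inv_eq_iff_eq_mul.mp h) hpu
    · rw [mul_inv_eq_iff_eq_mul, ← hzc p hp] at h
      exact absurd (mul_left_cancel h) huz
    · exact h
  have hRmem : ∀ {r : G}, r ∈ R ↔ r ∈ (P : Subgroup G) ∧ r * u = u * r := fun {r} => by
    simp [hR, Subgroup.mem_centralizer_singleton_iff]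
  have hidx : ∀ p ∈ (P : Subgroup G), p * u ≠ u * p → p * p0 ∈ R := by
    intro p hp hpu
    refine hRmem.mpr ⟨mul_mem hp hp0, mul_inv_eq_iff_eq_mul.mp ?_⟩
    calc p * p0 * u * (p * p0)⁻¹ = p * (p0 * u * p0⁻¹) * p⁻¹ := by group
      _ = p * (u * z) * p⁻¹ := by rw [hmove p0 hp0 hp0u]
      _ = (p * u * p⁻¹) * (p * z * p⁻¹) := by group
      _ = u * z * z := by rw [hmove p hp hpu, hzc p hp, mul_inv_cancel_right]
      _ = u := by rw [mul_assoc, klein_sq hzU, mul_one]
  have hRP : 2 * Nat.card R = Nat.card (P : Subgroup G) := by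
    have h2 : (R.subgroupOf (P : Subgroup G)).index = 2 := by
      rw [Subgroup.index_eq_two_iff]
      refine ⟨⟨p0, hp0⟩, fun b => ?_⟩
      by_cases hb : (b : G) * u = u * b
      · refine Or.inr ⟨hRmem.mpr ⟨b.2, hb⟩, fun h => hp0u ?_⟩
        have h' := (hRmem.mp (mul_mem (inv_mem (hRmem.mpr ⟨b.2, hb⟩)) (h : ((b : G) * p0) ∈ R))).2
        simpa using h'
      · exact Or.inl ⟨hidx b b.2 hb, fun h => hb (hRmem.mp h).2⟩
    have := (R.subgroupOf (P : Subgroup G)).card_mul_index
    have hRP' : R ≤ (P : Subgroup G) := inf_le_left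
    rw [h2, Nat.card_congr (Subgroup.subgroupOfEquivOfLe hRP').toEquiv] at this
    omega
  intro t ht x hx
  have hnorm : ∀ r ∈ R, t * r * t⁻¹ ∈ R := by
    intro r hr
    have hdvd := Subgroup.card_dvd_of_le hRT
    obtain ⟨k, hk⟩ := hdvd
    have hpos : 0 < Nat.card R := Nat.card_pos
    have hposT : 0 < Nat.card T := Nat.card_pos
    have hk2 : k ≤ 2 := by
      by_contra hk2
      nlinarith
    rcases (show k = 1 ∨ k = 2 by
      have : k ≠ 0 := by rintro rfl; simp at hk; omega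
      omega) with rfl | rfl
    · have hRTeq : R = T := Subgroup.eq_of_le_of_card_ge hRT (by omega)
      rw [← hRTeq] at ht
      exact mul_mem (mul_mem ht hr) (inv_mem ht)
    · have h2 : (R.subgroupOf T).index = 2 := by
        have := (R.subgroupOf T).card_mul_index
        rw [Nat.card_congr (Subgroup.subgroupOfEquivOfLe hRT).toEquiv, hk] at this
        exact Nat.eq_of_mul_eq_mul_left hpos this
      exact (Subgroup.normal_of_index_eq_two h2).conj_mem ⟨r, hRT hr⟩ hr ⟨t, ht⟩
  have hUR : ∀ y ∈ U, y ∈ R := fun y hy => hRmem.mpr ⟨hUP hy, klein_comm hy hu⟩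
  have hURc : ∀ y ∈ U, ∀ r ∈ R, r * y = y * r := by
    intro y hy r hr
    obtain ⟨hrP, hru⟩ := hRmem.mp hr
    rcases klein_cases hu hzU hy hu1 hz1 huz with rfl | rfl | rfl | rfl
    · simp
    · exact hru
    · exact hzc r hrP
    · rw [← mul_assoc, hru, mul_assoc, hzc r hrP, mul_assoc]
  have hW : ∀ w ∈ R, w * w = 1 → (∀ r ∈ R, r * w = w * r) → w ∈ U := by
    have key : ∀ w ∈ R, w * w = 1 → (∀ r ∈ R, r * w = w * r) →
        w * (p0 * w * p0⁻¹) = 1 ∨ w * (p0 * w * p0⁻¹) = z := by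
      intro w hw hw2 hwc
      have hcj : ∀ r ∈ R, p0⁻¹ * r * p0 ∈ R := fun r hr => by
        obtain ⟨hrP, hru⟩ := hRmem.mp hr
        refine hRmem.mpr ⟨mul_mem (mul_mem (inv_mem hp0) hrP) hp0, ?_⟩
        have e : p0 * u = u * z * p0 := mul_inv_eq_iff_eq_mul.mp (hmove p0 hp0 hp0u)
        calc p0⁻¹ * r * p0 * u = p0⁻¹ * r * (u * z * p0) := by rw [mul_assoc, e]
          _ = p0⁻¹ * (r * (u * z)) * p0 := by group
          _ = p0⁻¹ * ((u * z) * r) * p0 := by rw [hURc (u * z) (U.mul_mem hu hzU) r hr]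
          _ = p0⁻¹ * ((p0 * u * p0⁻¹) * r) * p0 := by rw [hmove p0 hp0 hp0u]
          _ = u * (p0⁻¹ * r * p0) := by group
      have hv : p0 * w * p0⁻¹ ∈ (P : Subgroup G) := mul_mem (mul_mem hp0 (hRmem.mp hw).1) (inv_mem hp0)
      have hvc : ∀ r ∈ R, r * (p0 * w * p0⁻¹) = p0 * w * p0⁻¹ * r := fun r hr => by
        have := hwc _ (hcj r hr)
        calc r * (p0 * w * p0⁻¹) = p0 * ((p0⁻¹ * r * p0) * w) * p0⁻¹ := by group
          _ = p0 * (w * (p0⁻¹ * r * p0)) * p0⁻¹ := by rw [this]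
          _ = p0 * w * p0⁻¹ * r := by group
      have hwv : w * (p0 * w * p0⁻¹) = p0 * w * p0⁻¹ * w := hvc w hw
      refine hcen _ (mul_mem (hRmem.mp hw).1 hv) ?_ fun p hp => ?_
      · have hvv : (p0 * w * p0⁻¹) * (p0 * w * p0⁻¹) = 1 := by
          calc _ = p0 * (w * w) * p0⁻¹ := by group
            _ = 1 := by rw [hw2]; group
        calc w * (p0 * w * p0⁻¹) * (w * (p0 * w * p0⁻¹))
            = w * ((p0 * w * p0⁻¹) * w) * (p0 * w * p0⁻¹) := by group
          _ = (w * w) * ((p0 * w * p0⁻¹) * (p0 * w * p0⁻¹)) := by rw [← hwv]; group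
          _ = 1 := by rw [hw2, hvv, one_mul]
      · have hr : ∀ r ∈ R, r * (w * (p0 * w * p0⁻¹)) = w * (p0 * w * p0⁻¹) * r := fun r hr => by
          rw [← mul_assoc, hwc r hr, mul_assoc, hvc r hr, ← mul_assoc, ← mul_assoc, ← mul_assoc]
        have h0 : p0 * (w * (p0 * w * p0⁻¹)) = w * (p0 * w * p0⁻¹) * p0 := by
          have hsq := hwc _ (hidx p0 hp0 hp0u)
          calc p0 * (w * (p0 * w * p0⁻¹)) = (p0 * w * p0⁻¹) * ((p0 * p0) * w) * p0⁻¹ := by group
            _ = (p0 * w * p0⁻¹ * w) * p0 := by rw [hsq]; group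
            _ = w * (p0 * w * p0⁻¹) * p0 := by rw [hwv]
        by_cases hp' : p * u = u * p
        · exact hr p (hRmem.mpr ⟨hp, hp'⟩)
        · have h1 := hr _ (hidx p hp hp')
          calc p * (w * (p0 * w * p0⁻¹)) = (p * p0) * (p0⁻¹ * (w * (p0 * w * p0⁻¹))) := by group
            _ = (p * p0) * ((w * (p0 * w * p0⁻¹)) * p0⁻¹) := by
                rw [show p0⁻¹ * (w * (p0 * w * p0⁻¹)) = (w * (p0 * w * p0⁻¹)) * p0⁻¹ by
                  rw [eq_mul_inv_iff_mul_eq, mul_assoc, inv_mul_eq_iff_eq_mul, h0]]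
            _ = ((p * p0) * (w * (p0 * w * p0⁻¹))) * p0⁻¹ := by group
            _ = w * (p0 * w * p0⁻¹) * p := by rw [h1]; group
    have fix1 : ∀ w ∈ R, w * w = 1 → (∀ r ∈ R, r * w = w * r) →
        w * (p0 * w * p0⁻¹) = 1 → w ∈ U := by
      intro w hw hw2 hwc h1
      have h0 : p0 * w = w * p0 := by
        have : p0 * w * p0⁻¹ = w := (inv_eq_of_mul_eq_one_right h1).symm.trans (inv_eq_of_mul_eq_one_right hw2)
        exact mul_inv_eq_iff_eq_mul.mp this
      have hwP : ∀ p ∈ (P : Subgroup G), p * w = w * p := fun p hp => by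
        by_cases hp' : p * u = u * p
        · exact hwc p (hRmem.mpr ⟨hp, hp'⟩)
        · have h1 := hwc _ (hidx p hp hp')
          rw [mul_assoc, h0, ← mul_assoc, ← mul_assoc] at h1
          exact mul_right_cancel h1
      rcases hcen w (hRmem.mp hw).1 hw2 hwP with rfl | rfl
      · exact U.one_mem
      · exact hzU
    intro w hw hw2 hwc
    rcases key w hw hw2 hwc with h | h
    · exact fix1 w hw hw2 hwc h
    · have hwu : w * u = u * w := (hRmem.mp hw).2
      have hwu2 : w * u * (w * u) = 1 := by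
        calc _ = w * (u * w) * u := by group
          _ = (w * w) * (u * u) := by rw [← hwu]; group
          _ = 1 := by rw [hw2, klein_sq hu, one_mul]
      have hwuc : ∀ r ∈ R, r * (w * u) = w * u * r := fun r hr => by
        rw [← mul_assoc, hwc r hr, mul_assoc, (hRmem.mp hr).2, ← mul_assoc]
      have := fix1 (w * u) (mul_mem hw (hUR u hu)) hwu2 hwuc <| by
        have hwz : w * z = z * w := (hwc z (hUR z hzU)).symm
        calc w * u * (p0 * (w * u) * p0⁻¹) = w * (u * (p0 * w * p0⁻¹)) * (p0 * u * p0⁻¹) := by group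
          _ = w * ((p0 * w * p0⁻¹) * u) * (u * z) := by
              rw [hmove p0 hp0 hp0u]
              congr 2
              have e : p0 * u * p0⁻¹ = u * z := hmove p0 hp0 hp0u
              have h3 := hwc (u * z) (hUR _ (U.mul_mem hu hzU))
              have h4 : u = p0 * (u * z) * p0⁻¹ := by
                calc u = (u * z) * z := by rw [mul_assoc, klein_sq hzU, mul_one]
                  _ = (p0 * u * p0⁻¹) * (p0 * z * p0⁻¹) := by rw [e, hzc p0 hp0, mul_inv_cancel_right]
                  _ = p0 * (u * z) * p0⁻¹ := by group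
              rw [h4]
              calc p0 * (u * z) * p0⁻¹ * (p0 * w * p0⁻¹) = p0 * ((u * z) * w) * p0⁻¹ := by group
                _ = p0 * (w * (u * z)) * p0⁻¹ := by rw [h3]
                _ = _ := by group
          _ = (w * (p0 * w * p0⁻¹)) * (u * u) * z := by group
          _ = 1 := by rw [h, klein_sq hu, mul_one, klein_sq hzU]
      simpa [mul_assoc, klein_sq hu] using U.mul_mem this hu
  refine hW _ (hnorm x (hUR x hx)) ?_ fun r hr => ?_
  · calc _ = t * (x * x) * t⁻¹ := by group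
      _ = 1 := by rw [klein_sq hx]; group
  · have h1 : t⁻¹ * r * t ∈ R := by
      haveI := Fintype.ofFinite R
      have hinj : Function.Injective (fun s : R => (⟨t * (s : G) * t⁻¹, hnorm s s.2⟩ : R)) := by
        intro a b hab
        simpa using hab
      obtain ⟨s, hs⟩ := (Finite.injective_iff_surjective.mp hinj) ⟨r, hr⟩
      have hs' : t * (s : G) * t⁻¹ = r := congrArg Subtype.val hs
      rw [← hs']
      simpa [mul_assoc] using s.2
    calc r * (t * x * t⁻¹) = t * ((t⁻¹ * r * t) * x) * t⁻¹ := by group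
      _ = t * (x * (t⁻¹ * r * t)) * t⁻¹ := by rw [hURc x hx _ h1]
      _ = t * x * t⁻¹ * r := by group

/-- Let `G` be a finite non-abelian simple group in which every local subgroup is solvable and which is of characteristic 2 type. Let `P` be a Sylow 2-subgroup of `G` and `U` a normal subgroup of `P` that is a four-group, with `U` central in `P` if the centre of `P` is not cyclic. Then `U` centralizes every subgroup of odd order of `G` that it normalizes. -/
theorem result {G : Type*} [Group G] [Finite G]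
    [IsSimpleGroup G] (hna : ¬ IsMulCommutative G) (hN : Cfsg.IsNGroup G) (h2 : Cfsg.IsCharacteristicTwoType G)
    (P : Sylow 2 G) (U : Subgroup G) (hUP : U ≤ (P : Subgroup G)) (hUn : (P : Subgroup G) ≤ Subgroup.normalizer (U : Set G))
    (hU4 : IsKleinFour ↥U)
    (hUZ : ¬ IsCyclic ↥((P : Subgroup G) ⊓ Subgroup.centralizer ((P : Subgroup G) : Set G)) →
      U ≤ Subgroup.centralizer ((P : Subgroup G) : Set G))
    (K : Subgroup G) (hK : Odd (Nat.card K)) (hUK : U ≤ Subgroup.normalizer (K : Set G)) :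
    U ≤ Subgroup.centralizer (K : Set G) := by
  classical
  intro v hv
  haveI := hU4
  have hcomm : IsMulCommutative ↥U := ⟨⟨fun a b => Subtype.ext (klein_comm a.2 b.2)⟩⟩
  have hcop : (Nat.card U).Coprime (Nat.card K) := by
    rw [IsKleinFour.card_four, show (4 : ℕ) = 2 ^ 2 by norm_num]
    exact Nat.Coprime.pow_left _ ((Nat.prime_two.coprime_iff_not_dvd).mpr (Nat.two_dvd_ne_zero.mpr (Nat.odd_iff.mp hK)))
  have hgen := Cfsg.Agent.Lib.Coprime.iSup_centralizer_eq (A := U) (K := K) IsKleinFour.not_isCyclic hUK hcop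
  have hle : K ≤ Subgroup.centralizer {v} := by
    rw [← hgen]
    refine iSup₂_le fun u hu => ?_
    obtain ⟨hu, hu1⟩ := hu
    intro k hk
    obtain ⟨hkK, hku⟩ := hk
    set H := Subgroup.normalizer ((Subgroup.zpowers u : Subgroup G) : Set G) with hH
    have hord : orderOf u = 2 := orderOf_eq_prime (by rw [pow_two, klein_sq hu]) hu1
    have hZ : IsPGroup 2 (Subgroup.zpowers u) := IsPGroup.of_card (n := 1) (by rw [Nat.card_zpowers, hord, pow_one])
    have hchar := h2.2 _ hZ (by simpa [Subgroup.zpowers_eq_bot] using hu1)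
    have hHu : ∀ g ∈ H, g * u = u * g := by
      intro g hg
      have := (Subgroup.mem_normalizer_iff.mp hg u).mp (Subgroup.mem_zpowers u)
      obtain ⟨n, hn : u ^ n = g * u * g⁻¹⟩ := this
      rw [← zpow_mod_orderOf, hord] at hn
      rcases Int.emod_two_eq_zero_or_one n with h | h
      · rw [show (n % ((2 : ℕ) : ℤ)) = 0 from h, zpow_zero] at hn
        exact absurd (by simpa [mul_inv_eq_one] using hn.symm) hu1
      · rw [show (n % ((2 : ℕ) : ℤ)) = 1 from h, zpow_one] at hn
        exact (mul_inv_eq_iff_eq_mul.mp hn.symm)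
    have hcH : ∀ g : G, g * u = u * g → g ∈ H := by
      intro g hg
      refine (Subgroup.centralizer_le_normalizer _) ?_
      rw [Subgroup.mem_centralizer_iff]
      rintro _ ⟨n, rfl⟩
      exact ((Commute.zpow_right (show Commute g u from hg)) n).eq.symm
    have hvH : v ∈ H := hcH v (klein_comm hv hu)
    have huH : u ∈ H := hcH u rfl
    set R := (P : Subgroup G) ⊓ Subgroup.centralizer {u} with hR
    have hRH : R ≤ H := fun r hr => hcH r (Subgroup.mem_centralizer_singleton_iff.mp hr.2)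
    have hRp : IsPGroup 2 (R.subgroupOf H) :=
      (P.2.to_le (inf_le_left : R ≤ (P : Subgroup G))).comap_of_injective H.subtype H.subtype_injective
    obtain ⟨Q, hQ⟩ := hRp.exists_le_sylow
    have hnorm := sylow_normalizes P U hUP hUn hUZ hu hu1 (T := (Q : Subgroup H).map H.subtype)
      (Q.2.map _) (by rintro _ ⟨x, -, rfl⟩; exact hHu _ x.2)
      (fun r hr => ⟨⟨r, hRH hr⟩, hQ hr, rfl⟩)
    have hvQ : (⟨v, hvH⟩ : H) ∈ Cfsg.pCore 2 H := by
      refine four_le_pCore hchar ⟨u, huH⟩ (Subtype.ext (klein_sq hu)) (fun g => Subtype.ext (hHu g g.2)) _ fun q hq => ?_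
      by_cases hv1 : v = 1
      · exact Or.inl (Subtype.ext (by simp [commutatorElement_def, hv1]))
      by_cases hvu : v = u
      · exact Or.inl (Subtype.ext (by simp [commutatorElement_def, hvu, ← hHu q q.2]))
      set w := (q : G) * v * (q : G)⁻¹ with hw
      have hwU : w ∈ U := hnorm q ⟨q, Cfsg.Agent.Lib.Cores.pCore_le_sylow Q hq, rfl⟩ v hv
      have hwv : ⁅v, (q : G)⁆ = v * w⁻¹ := by simp only [hw, commutatorElement_def]; group
      rcases klein_cases hv hu hwU hv1 hu1 hvu with h | h | h | h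
      · exact absurd (by simpa [hw, mul_inv_eq_one] using h) hv1
      · exact Or.inl (Subtype.ext (show ⁅v, (q : G)⁆ = 1 by rw [hwv, h, mul_inv_cancel]))
      · rw [hw, mul_inv_eq_iff_eq_mul, ← hHu q q.2] at h
        exact absurd (mul_left_cancel h) hvu
      · refine Or.inr (Subtype.ext (hwv.trans ?_))
        rw [h, inv_eq_of_mul_eq_one_right (klein_sq (U.mul_mem hv hu)), ← mul_assoc, klein_sq hv, one_mul]
    have hkH : k ∈ H := hcH k (Subgroup.mem_centralizer_singleton_iff.mp hku)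
    have hc1 : ⁅v, k⁆ ∈ K := by
      rw [commutatorElement_def]
      exact mul_mem ((Subgroup.mem_normalizer_iff.mp (hUK hv) k).mp hkK) (inv_mem hkK)
    have hc2 : ⁅(⟨v, hvH⟩ : H), ⟨k, hkH⟩⁆ ∈ Cfsg.pCore 2 H := by
      rw [commutatorElement_def, mul_assoc, mul_assoc]
      refine mul_mem hvQ ?_
      rw [← mul_assoc]
      exact (Cfsg.pCore_normal 2 H).conj_mem _ (inv_mem hvQ) _
    obtain ⟨n, hn⟩ := Cfsg.Agent.Lib.Cores.pCore_isPGroup 2 H ⟨_, hc2⟩
    have hn' : ⁅v, k⁆ ^ (2 ^ n) = 1 := by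
      have := congrArg (fun x : ↥(Cfsg.pCore 2 ↥H) => ((x : H) : G)) hn
      simpa [commutatorElement_def] using this
    have h1 : ⁅v, k⁆ = 1 := by
      rw [← orderOf_eq_one_iff]
      have ho : orderOf ⁅v, k⁆ ∣ Nat.card K := (Subgroup.orderOf_coe (⟨_, hc1⟩ : K)) ▸ orderOf_dvd_natCard _
      refine Nat.eq_one_of_dvd_coprimes ?_ (orderOf_dvd_of_pow_eq_one hn') ho
      exact Nat.Coprime.pow_left _ ((Nat.prime_two.coprime_iff_not_dvd).mpr (Nat.two_dvd_ne_zero.mpr (Nat.odd_iff.mp hK)))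
    rw [Subgroup.mem_centralizer_singleton_iff]
    exact (commutatorElement_eq_one_iff_mul_comm.mp h1).symm
  rw [Subgroup.mem_centralizer_iff]
  intro k hk
  exact Subgroup.mem_centralizer_singleton_iff.mp (hle hk)

end Cfsg.Agent.S1957
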