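import Cfsg.Statements.S1958
import Cfsg.Agent.Lib.Components.Local
import Cfsg.Agent.Lib.Cores.PCore

set_option autoImplicit false
open Cfsg

namespace Cfsg.Agent.S1958

lemma core_map {G : Type*} [Group G] [Finite G] {p : ℕ} {K H : Subgroup G} (h : K ≤ H) :
    ((Cfsg.pPrimeCore p ↥(K.subgroupOf H)).map (K.subgroupOf H).subtype).map H.subtype =
      (Cfsg.pPrimeCore p ↥K).map K.subtype := by
  rw [← Cfsg.Agent.Lib.Cores.map_pPrimeCore_equiv (Subgroup.subgroupOfEquivOfLe h), Subgroup.map_map, Subgroup.map_map]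
  rfl

lemma balance_side {G : Type*} [Group G] [Finite G] {p : ℕ} [Fact p.Prime] {x y : G} (hxy : x * y = y * x)
    (hy : orderOf y = p) (hCx : Group.IsSolvable ↥(Subgroup.centralizer ({x} : Set G))) :
    (Cfsg.pPrimeCore p ↥(Subgroup.centralizer ({x} : Set G))).map (Subgroup.centralizer ({x} : Set G)).subtype ⊓ Subgroup.centralizer {y} ≤
      (Cfsg.pPrimeCore p ↥(Subgroup.centralizer ({x} : Set G) ⊓ Subgroup.centralizer ({y} : Set G) : Subgroup G)).map
        (Subgroup.centralizer ({x} : Set G) ⊓ Subgroup.centralizer ({y} : Set G)).subtype ∧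
    (Cfsg.pPrimeCore p ↥(Subgroup.centralizer ({x} : Set G) ⊓ Subgroup.centralizer ({y} : Set G) : Subgroup G)).map
        (Subgroup.centralizer ({x} : Set G) ⊓ Subgroup.centralizer ({y} : Set G)).subtype ≤
      (Cfsg.pPrimeCore p ↥(Subgroup.centralizer ({x} : Set G))).map (Subgroup.centralizer ({x} : Set G)).subtype := by
  set H := Subgroup.centralizer ({x} : Set G) with hH
  set K := H ⊓ Subgroup.centralizer ({y} : Set G) with hK
  have hKH : K ≤ H := inf_le_left
  constructor
  · intro w hw
    obtain ⟨⟨w', hw', rfl⟩, hwy⟩ := Subgroup.mem_inf.1 hw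
    rw [← core_map hKH]
    refine ⟨w', Cfsg.Agent.Lib.Cores.inf_pPrimeCore_le_map_subtype _
      (Subgroup.mem_inf.2 ⟨Subgroup.mem_subgroupOf.2 (Subgroup.mem_inf.2 ⟨w'.2, hwy⟩), hw'⟩), rfl⟩
  · rw [← core_map hKH]
    refine Subgroup.map_mono ?_
    have hyH : y ∈ H := Subgroup.mem_centralizer_singleton_iff.2 hxy.symm
    have hp : IsPGroup p (Subgroup.zpowers (⟨y, hyH⟩ : H)) :=
      IsPGroup.of_card (n := 1) (by rw [Nat.card_zpowers, pow_one, Subgroup.orderOf_mk, hy])
    have he : K.subgroupOf H = Subgroup.centralizer ((Subgroup.zpowers (⟨y, hyH⟩ : H) : Subgroup H) : Set H) := by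
      ext w
      rw [Subgroup.mem_subgroupOf, hK, Subgroup.mem_inf, Subgroup.mem_centralizer_iff, Subgroup.mem_centralizer_iff]
      constructor
      · rintro ⟨-, h⟩ z hz
        obtain ⟨i, rfl⟩ := Subgroup.mem_zpowers_iff.1 hz
        exact ((show Commute (⟨y, hyH⟩ : H) w from Subtype.ext (h y rfl)).zpow_left i).eq
      · intro h
        refine ⟨w.2, ?_⟩
        rintro _ rfl
        exact congrArg Subtype.val (h _ (Subgroup.mem_zpowers _))
    have h := Cfsg.Agent.Lib.Components.pPrimeCore_centralizer_le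
      (Cfsg.Agent.Lib.Components.pLayer_eq_bot_of_solvable (p := p) hCx) hp
    rw [← he] at h
    exact h

/-- Let `G` be a finite group, `p` a prime, and `x, y` commuting elements of order `p` whose centralizers `C_G(x)` and `C_G(y)` are both solvable. Then `O_{p'}(C_G(x)) ∩ C_G(y) = O_{p'}(C_G(y)) ∩ C_G(x)` (balance). -/
theorem result {G : Type*} [Group G] [Finite G]
    (p : ℕ) [Fact p.Prime] (x y : G) (hx : orderOf x = p) (hy : orderOf y = p) (hxy : x * y = y * x)
    (hCx : Group.IsSolvable ↥(Subgroup.centralizer ({x} : Set G))) (hCy : Group.IsSolvable ↥(Subgroup.centralizer ({y} : Set G))) :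
    Cfsg.centralizerPPrimeCore p x ⊓ Subgroup.centralizer {y} = Cfsg.centralizerPPrimeCore p y ⊓ Subgroup.centralizer {x} := by
  refine le_antisymm ?_ ?_
  · refine le_inf ?_ ?_
    · have h1 := (balance_side hxy hy hCx).1
      have h2 := (balance_side hxy.symm hx hCy).2
      rw [inf_comm (Subgroup.centralizer ({y} : Set G))] at h2
      exact h1.trans h2
    · exact inf_le_left.trans (Subgroup.map_subtype_le _)
  · refine le_inf ?_ ?_
    · have h1 := (balance_side hxy.symm hx hCy).1
      have h2 := (balance_side hxy hy hCx).2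
      rw [inf_comm (Subgroup.centralizer ({x} : Set G))] at h2
      exact h1.trans h2
    · exact inf_le_left.trans (Subgroup.map_subtype_le _)

end Cfsg.Agent.S1958
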