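import Cfsg.Statements.S1966
import Cfsg.Agent.Lib.FusionControl.Family

set_option autoImplicit false
open Cfsg

namespace Cfsg.Agent.S1966

/-- Let p be a prime, G a finite group with Sylow p-subgroup S and 𝓕 a conjugation family for S in G. Then the members of 𝓕 containing O_p(G) still form a conjugation family for S in G. -/
theorem result {G : Type*} [Group G] [Finite G] {p : ℕ} [Fact p.Prime] (S : Sylow p G) (𝓕 : Set (Subgroup G)) (h : Cfsg.IsConjugationFamily 𝓕 (S : Subgroup G)) : Cfsg.IsConjugationFamily {T : Subgroup G | T ∈ 𝓕 ∧ Cfsg.pCore p G ≤ T} (S : Subgroup G) := by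
  refine ⟨fun T hT => h.1 T hT.1, fun A g hne hA hgA => ?_⟩
  set Q := Cfsg.pCore p G with hQ
  have hQn : Q.Normal := Subgroup.sSup_normal _ (fun _ h => h.1)
  have hQS : Q ≤ (S : Subgroup G) := by
    refine sSup_le fun N hN => ?_
    haveI := hN.1
    obtain ⟨T, hT⟩ := hN.2.exists_le_sylow
    obtain ⟨c, hc⟩ := MulAction.exists_smul_eq G T S
    intro x hx
    rw [← hc]
    exact ⟨c⁻¹ * x * c, hT (by simpa using hN.1.conj_mem x hx c⁻¹), by simp [mul_assoc]⟩
  obtain ⟨n, T, x, hp, hT, hx, h0, hs⟩ := h.2 (A ∪ (Q : Set G)) g (Or.inl hne.some_mem |> fun h => ⟨_, h⟩)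
    (Set.union_subset hA hQS) (by
      rw [Set.image_union]
      refine Set.union_subset hgA ?_
      rintro _ ⟨q, hq, rfl⟩
      exact hQS (by simpa using hQn.conj_mem q hq g⁻¹))
  refine ⟨n, T, x, hp, fun i => ⟨hT i, ?_⟩, hx, fun h => Set.subset_union_left.trans (h0 h),
    fun i hi => (Set.image_mono Set.subset_union_left).trans (hs i hi)⟩
  intro q hq
  obtain ⟨i, hi⟩ := i
  cases i with
  | zero => exact h0 hi (Or.inr hq)
  | succ i =>
    refine hs ⟨i, by omega⟩ hi ⟨((List.ofFn x).take (i + 1)).prod * q * ((List.ofFn x).take (i + 1)).prod⁻¹,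
      Or.inr (hQn.conj_mem q hq _), ?_⟩
    group

end Cfsg.Agent.S1966
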