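import Cfsg.Statements.S1968
import Mathlib
import Cfsg.Agent.Lib.FusionControl.WellPlaced
-- import your own Cfsg.Agent.* helpers here

set_option autoImplicit false
open Cfsg

namespace Cfsg.Agent.S1968

open Cfsg.Agent.Lib.FusionControl

lemma exists_moving {G : Type*} [Group G] {𝓕 : Set (Subgroup G)} (A : Subgroup G) {B : Set G} {g : G}
    (h : Chain 𝓕 B g) (hB : B = (A : Set G)) (hg : cj g A ≠ A) :
    ∃ T ∈ 𝓕, A ≤ T ∧ ∃ x ∈ Subgroup.normalizer (T : Set G), cj x A ≠ A := by
  induction h with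
  | step T hT hA hx => exact ⟨T, hT, by rw [hB] at hA; exact hA, _, hx, hg⟩
  | @comp B x y h1 h2 ih1 ih2 =>
    by_cases hx : cj x A = A
    · refine ih2 ?_ ?_
      · rw [hB, cs_subgroup, hx]
      · intro hy
        exact hg (by rw [← cj_cj, hx, hy])
    · exact ih1 hB hx

lemma functorTower_succ {G : Type*} [Group G] (W : Subgroup G → Subgroup G) (S T : Subgroup G) (i : ℕ) :
    Cfsg.functorTower W S (W (nS S T)) i = Cfsg.functorTower W S T (i + 1) := by
  induction i with
  | zero => rfl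
  | succ i ih => simp only [Cfsg.functorTower] at ih ⊢; rw [ih]

/-- Let p be a prime, G a finite group with Sylow p-subgroup S and W a conjugacy functor for p on G with Z(P) ≤ W(P) for every p-subgroup P. Let A be a subgroup of Z(S) normalized by N_G(W(S)) that is not weakly closed in S with respect to G. Then there is a subgroup T of S, well placed in S with respect to W, such that: A ≤ T; N_G(W(N_S(T))) normalizes A; N_S(T) is a Sylow p-subgroup of N_G(T); A ≤ Z(N_S(T)); and A is not weakly closed in N_S(T) with respect to N_G(T), that is, some N_G(T)-conjugate of A other than A lies in N_S(T). -/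
theorem result {G : Type*} [Group G] [Finite G] {p : ℕ} [Fact p.Prime] (S : Sylow p G) (W : Subgroup G → Subgroup G) (hW : Cfsg.IsConjugacyFunctor p W) (hWZ : ∀ P : Subgroup G, IsPGroup p ↥P → P ⊓ Subgroup.centralizer (P : Set G) ≤ W P) (A : Subgroup G) (hAZ : A ≤ (S : Subgroup G) ⊓ Subgroup.centralizer ((S : Subgroup G) : Set G)) (hAN : Subgroup.normalizer ((W (S : Subgroup G) : Subgroup G) : Set G) ≤ Subgroup.normalizer ((A : Subgroup G) : Set G)) (hnwc : ¬ Cfsg.IsWeaklyClosed A (S : Subgroup G)) : ∃ T : Subgroup G, Cfsg.IsWellPlaced p W (S : Subgroup G) T ∧ A ≤ T ∧ Subgroup.normalizer ((W ((S : Subgroup G) ⊓ Subgroup.normalizer ((T : Subgroup G) : Set G)) : Subgroup G) : Set G) ≤ Subgroup.normalizer ((A : Subgroup G) : Set G) ∧ ¬ p ∣ ((S : Subgroup G) ⊓ Subgroup.normalizer ((T : Subgroup G) : Set G)).relIndex (Subgroup.normalizer ((T : Subgroup G) : Set G)) ∧ A ≤ Subgroup.centralizer (((S : Subgroup G) ⊓ Subgroup.normalizer ((T : Subgroup G) : Set G) : Subgroup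 G) : Set G) ∧ ∃ g ∈ Subgroup.normalizer ((T : Subgroup G) : Set G), A.map (MulAut.conj g).toMonoidHom ≤ (S : Subgroup G) ⊓ Subgroup.normalizer ((T : Subgroup G) : Set G) ∧ A.map (MulAut.conj g).toMonoidHom ≠ A := by
  classical
  have hAS : A ≤ (S : Subgroup G) := hAZ.trans inf_le_left
  obtain ⟨g, hgS, hgA⟩ : ∃ g : G, cj g A ≤ (S : Subgroup G) ∧ cj g A ≠ A := by
    by_contra hcon
    push Not at hcon
    exact hnwc ⟨hAS, hcon⟩
  have hch : Chain {T : Subgroup G | Cfsg.IsWellPlaced p W (S : Subgroup G) T} (A : Set G) g := by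
    refine chain_of_extr S _ (fun T hT => ?_) A g hAS hgS
    obtain ⟨h, _, hw⟩ := exists_wellPlaced hW S T hT
    exact ⟨_, hw, h, rfl, extr_of_wellPlaced hw⟩
  obtain ⟨T₁, hT₁, hAT₁, hx₁⟩ := exists_moving A hch rfl hgA
  haveI : Fintype (Subgroup G) := Fintype.ofFinite _
  set P : Finset (Subgroup G) := Finset.univ.filter (fun T => Cfsg.IsWellPlaced p W (S : Subgroup G) T ∧
    A ≤ T ∧ ∃ x ∈ Subgroup.normalizer (T : Set G), cj x A ≠ A) with hP
  obtain ⟨T, hTP, hmax⟩ := P.exists_max_image (fun T => Nat.card (nS (S : Subgroup G) T))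
    ⟨T₁, Finset.mem_filter.2 ⟨Finset.mem_univ _, hT₁, hAT₁, hx₁⟩⟩
  obtain ⟨-, hTw, hAT, x, hx, hxA⟩ := Finset.mem_filter.1 hTP
  have hAU : A ≤ nS (S : Subgroup G) T := hAT.trans (le_nS hTw.1)
  have hAC : A ≤ Subgroup.centralizer ((nS (S : Subgroup G) T : Subgroup G) : Set G) :=
    (hAZ.trans inf_le_right).trans (Subgroup.centralizer_le (SetLike.coe_subset_coe.2 inf_le_left))
  refine ⟨T, hTw, hAT, ?_, hTw.2 0, hAC, x, hx, ?_, hxA⟩
  swap
  · refine (cj_le_cj hAT).trans ?_
    rw [mem_normalizer_iff_cj.1 hx]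
    exact le_nS hTw.1
  by_contra hcon
  have hU : IsPGroup p (nS (S : Subgroup G) T) := S.2.to_le inf_le_left
  set T' := W (nS (S : Subgroup G) T) with hT'
  have hT'S : T' ≤ (S : Subgroup G) := (hW _ hU).1.trans inf_le_left
  have hAT' : A ≤ T' := (le_inf hAU hAC).trans (hWZ _ hU)
  have hT'w : Cfsg.IsWellPlaced p W (S : Subgroup G) T' := by
    refine ⟨hT'S, fun i => ?_⟩
    rw [functorTower_succ]
    exact hTw.2 (i + 1)
  have hmem : T' ∈ P := by
    refine Finset.mem_filter.2 ⟨Finset.mem_univ _, hT'w, hAT', ?_⟩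
    obtain ⟨y, hy, hyA⟩ := Set.not_subset.1 hcon
    exact ⟨y, hy, fun h => hyA (mem_normalizer_iff_cj.2 h)⟩
  have hle : nS (S : Subgroup G) (nS (S : Subgroup G) T) ≤ nS (S : Subgroup G) T' :=
    le_inf inf_le_left (inf_le_right.trans (normalizer_le_normalizer_functor hW hU))
  by_cases hUS : nS (S : Subgroup G) T = (S : Subgroup G)
  · exact hcon (by rw [hT', hUS]; exact hAN)
  · have h1 := card_lt_nS S.2 (lt_of_le_of_ne (inf_le_left : nS (S : Subgroup G) T ≤ _) hUS)
    have h2 := Subgroup.card_le_of_le hle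
    have h3 := hmax T' hmem
    simp only [nS] at h1 h2 h3
    omega

end Cfsg.Agent.S1968
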