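import Cfsg.Statements.S1969
import Cfsg.Agent.Lib.FusionControl.SectionHyp

set_option autoImplicit false
universe u
open Cfsg

namespace Cfsg.Agent.S1969

/-- Let p be a prime, G a finite group and W an isomorphism-invariant p-group functor (W assigns to every group Q a subgroup W(Q), nontrivial whenever Q is a nontrivial finite p-group, and every isomorphism from a finite p-group Q onto a group R carries W(Q) onto W(R)). Suppose that W(S*) is normal in G* whenever G* = K/R is a section of G with C_{G*}(O_p(G*)) ≤ O_p(G*) and S* is a Sylow p-subgroup of G*. Then W controls strong fusion in every section of G: for every section K/R and every Sylow p-subgroup T of K/R, the subgroup W(T) controls strong fusion in K/R. -/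
theorem result {G : Type u} [Group G] [Finite G] {p : ℕ} [Fact p.Prime] (W : ∀ (Q : Type u) [Group Q], Subgroup Q) (hW : Cfsg.IsCharPFunctor.{u} p W) (hloc : ∀ (K R : Subgroup G) [hR : (R.subgroupOf K).Normal], Subgroup.centralizer ((Cfsg.pCore p (↥K ⧸ R.subgroupOf K) : Subgroup (↥K ⧸ R.subgroupOf K)) : Set (↥K ⧸ R.subgroupOf K)) ≤ Cfsg.pCore p (↥K ⧸ R.subgroupOf K) → ∀ T : Sylow p (↥K ⧸ R.subgroupOf K), (Cfsg.inducedFunctor (G := (↥K ⧸ R.subgroupOf K)) W ((T : Subgroup (↥K ⧸ R.subgroupOf K)))).Normal) : ∀ (K R : Subgroup G) [hR : (R.subgroupOf K).Normal], ∀ T : Sylow p (↥K ⧸ R.subgroupOf K), Cfsg.ControlsStrongFusion p (Cfsg.inducedFunctor (G := (↥K ⧸ R.subgroupOf K)) W ((T : Subgroup (↥K ⧸ R.subgroupOf K)))) := by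
  open Cfsg.Agent.Lib.FusionControl in
  intro K R hR T
  set Y := ↥K ⧸ R.subgroupOf K
  have h1 : Cfsg.FamilyControlsStrongFusionIn p (indSet Y {W}) ⊤ := by
    refine strongFusion_of_hloc (p := p) (G := G) (𝓦 := {W}) (by rintro _ rfl; exact hW) (fun K R _ h => ?_) Y involves_section
    obtain ⟨T⟩ : Nonempty (Sylow p (↥K ⧸ R.subgroupOf K)) := inferInstance
    have hn := hloc K R h T
    rw [family_iff]
    refine ⟨T, le_top, T.2, sylow_relIndex_top T, fun A g _ hA hgA => ?_⟩
    refine .step (Or.inr ⟨_, ⟨W, rfl, rfl⟩, Subgroup.mem_top g, ?_⟩) hA hgA (fun a _ => rfl)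
    rw [Subgroup.normalizer_eq_top_iff.2 hn]
    exact Subgroup.mem_top g
  have hl := localCtrl_of_family (indSet_conjugacy (by rintro _ rfl; exact hW) Y) h1 le_top T.2 (sylow_relIndex_top T)
  refine ⟨T, Subgroup.map_subtype_le _, fun A hA => ⟨hA, fun g hgA => ?_⟩⟩
  obtain ⟨x, hx, hxe⟩ := (hl A g (Subgroup.mem_top g) hA hgA).exists_mem
    (Subgroup.normalizer ((Cfsg.inducedFunctor W (T : Subgroup Y) : Subgroup Y) : Set Y)) (by
      rintro y (rfl | ⟨_, ⟨W', rfl, rfl⟩, hy⟩)
      · exact one_mem _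
      · exact hy.2)
  exact ⟨x, hx, fun a ha => (hxe a ha).symm⟩

end Cfsg.Agent.S1969
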