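import Cfsg.Statements.S1983
import Cfsg.Agent.Lib.FusionControl.KStable

set_option autoImplicit false
universe u
open Cfsg

namespace Cfsg.Agent.S1983

/-- Let p be a prime, G a finite group with Sylow p-subgroup S and T = O_p(G). Suppose that the lower or the upper K-infinity subgroup of S is not normal in G. Then there is an element g of S outside T such that [X, g, g, g, g] ≤ Y for every chief factor X/Y of G with X ≤ T, and [Z(T), g, g] = 1; and if moreover C_G(T) ≤ T then some quotient group of G is not p-stable (in the normalizer form: some quadratically acting element of a normalizer fails to map into O_p of the automizer). -/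
theorem result {G : Type u} [Group G] [Finite G] {p : ℕ} [Fact p.Prime] (S : Sylow p G) (hK : ¬ (Cfsg.inducedFunctor Cfsg.kInfLower (S : Subgroup G)).Normal ∨ ¬ (Cfsg.inducedFunctor Cfsg.kInfUpper (S : Subgroup G)).Normal) : ∃ g : G, g ∈ (S : Subgroup G) ∧ g ∉ (Cfsg.pCore p G) ∧ (∀ U V : Subgroup G, Cfsg.IsChiefFactor U V → U ≤ (Cfsg.pCore p G) → Cfsg.iterCommutator U (Subgroup.zpowers g) 4 ≤ V) ∧ ⁅⁅((Cfsg.pCore p G) ⊓ Subgroup.centralizer (((Cfsg.pCore p G) : Subgroup G) : Set G)), (Subgroup.zpowers g)⁆, (Subgroup.zpowers g)⁆ = ⊥ ∧ (Subgroup.centralizer (((Cfsg.pCore p G) : Subgroup G) : Set G) ≤ (Cfsg.pCore p G) → ∃ (N : Subgroup G) (_ : N.Normal), ¬ Cfsg.IsNormalizerPStable p (G ⧸ N)) := by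
  open Cfsg.Agent.Lib.FusionControl in
  set Q := Cfsg.pCore p G with hQ
  have hQp : IsPGroup p Q := Cfsg.Agent.Lib.Cores.pCore_isPGroup p G
  have hQn : Q.Normal := by rw [hQ]; infer_instance
  obtain ⟨A, hA⟩ := CoreSub.exists_coreSub hQp
  have hfin : ∀ g : G, CubicOn A (Subgroup.zpowers g) →
      (∀ U V : Subgroup G, Cfsg.IsChiefFactor U V → U ≤ Q → Cfsg.iterCommutator U (Subgroup.zpowers g) 4 ≤ V) ∧
        ⁅⁅Q ⊓ Subgroup.centralizer (Q : Set G), Subgroup.zpowers g⁆, Subgroup.zpowers g⁆ = ⊥ := by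
    intro g hc
    refine ⟨fun U V hch hU => ?_, ?_⟩
    · have := hch.2.1
      have := hch.2.2.1
      exact iter_le_of_deg (chief_facts hQp hch hU).2.1 (hA.deg_four hc.elementwise.1 hc.elementwise.2 hch hU)
    · have h1 : Q ⊓ Subgroup.centralizer (Q : Set G) ≤ A ⊓ Subgroup.centralizer (A : Set G) :=
        le_inf ((inf_le_inf_left _ (Subgroup.centralizer_le hA.le)).trans hA.cent)
          (inf_le_right.trans (Subgroup.centralizer_le hA.le))
      exact le_bot_iff.1 ((Subgroup.commutator_mono (Subgroup.commutator_mono h1 le_rfl) le_rfl).trans hc.2.le)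
  by_cases hC : CharPType p G
  · obtain ⟨g, hg, hgQ, hc, hm⟩ := exists_cubic_moves S hC hA hK
    exact ⟨g, hg, hgQ, (hfin g hc).1, (hfin g hc).2, fun _ => not_stable_of_moves (hQp.to_le hA.le) hm⟩
  · obtain ⟨g, hg, hgQ, hc⟩ := exists_cubic S hA hK
    exact ⟨g, hg, hgQ, (hfin g hc).1, (hfin g hc).2, fun h => absurd h hC⟩

end Cfsg.Agent.S1983
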