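import Cfsg.Statements.S1985
import Cfsg.Agent.Lib.FusionControl.KWeakElement

set_option autoImplicit false
universe u
open Cfsg

namespace Cfsg.Agent.S1985

/-- Let p be an odd prime and G a finite group. Then the lower K-infinity subgroup controls weak closure of elements in G: the lower K-infinity subgroup of every p-subgroup P of G contains Z(P), and for some (equivalently, every) Sylow p-subgroup S of G, with K the lower K-infinity subgroup of S, every element of S commuting with all of N_G(K) is weakly closed in S with respect to G (every G-conjugate of it lying in S equals it). -/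
theorem result {G : Type u} [Group G] [Finite G] {p : ℕ} [Fact p.Prime] (hp : p ≠ 2) : Cfsg.ControlsWeakClosureOfElementsIn p (Cfsg.inducedFunctor (G := G) Cfsg.kInfLower) ⊤ := by
  refine ⟨fun P hP z hz => ?_, ?_⟩
  · obtain ⟨hz1, hz2⟩ := Subgroup.mem_inf.1 hz
    refine ⟨⟨z, hz1⟩, (Cfsg.Agent.Lib.FusionControl.center_le_kInfLower _ hP).1 ?_, rfl⟩
    rw [Subgroup.mem_center_iff]
    intro t
    exact Subtype.ext (Subgroup.mem_centralizer_iff.1 hz2 _ t.2)
  · obtain ⟨S⟩ : Nonempty (Sylow p G) := inferInstance
    refine ⟨S, le_top, S.2, Cfsg.Agent.Lib.FusionControl.sylow_relIndex_top S, fun x hx g _ hg => ?_⟩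
    rw [top_inf_eq] at hx
    exact Cfsg.Agent.Lib.FusionControl.weaklyClosed_element hp S hx g hg

end Cfsg.Agent.S1985
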