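import Cfsg.Statements.S1986
import Cfsg.Agent.Lib.FusionControl.KWeakClosure

set_option autoImplicit false
universe u
open Cfsg

namespace Cfsg.Agent.S1986

/-- Let p be a prime, G a finite group with Sylow p-subgroup S, K the lower K-infinity subgroup of S, and Z the subgroup of p-th powers of elements of Z(S). Then every element of Z commuting with all of N_G(K) is weakly closed in S with respect to G, and every subgroup of Z that is normal in N_G(K) is weakly closed in S with respect to G. -/
theorem result {G : Type u} [Group G] [Finite G] {p : ℕ} [Fact p.Prime] (S : Sylow p G) (Z : Subgroup G) (hZ : Z = Subgroup.closure ((fun z : G => z ^ p) '' (((S : Subgroup G) ⊓ Subgroup.centralizer (((S : Subgroup G) : Subgroup G) : Set G) : Subgroup G) : Set G))) : (∀ x ∈ Z ⊓ Subgroup.centralizer ((Subgroup.normalizer ((Cfsg.inducedFunctor Cfsg.kInfLower (S : Subgroup G) : Subgroup G) : Set G) : Subgroup G) : Set G), ∀ g : G, g * x * g⁻¹ ∈ (S : Subgroup G) → g * x * g⁻¹ = x) ∧ ∀ A : Subgroup G, A ≤ Z → Subgroup.normalizer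 ((Cfsg.inducedFunctor Cfsg.kInfLower (S : Subgroup G) : Subgroup G) : Set G) ≤ Subgroup.normalizer ((A : Subgroup G) : Set G) → Cfsg.IsWeaklyClosed A (S : Subgroup G) := by
  open Cfsg.Agent.Lib.FusionControl in
  have key : ∀ A : Subgroup G, A ≤ Z → Subgroup.normalizer ((Cfsg.inducedFunctor Cfsg.kInfLower (S : Subgroup G) : Subgroup G) : Set G) ≤ Subgroup.normalizer ((A : Subgroup G) : Set G) → Cfsg.IsWeaklyClosed A (S : Subgroup G) := by
    intro A hA hN
    rw [hZ] at hA
    exact ⟨(hA.trans (zPow_le _)).trans inf_le_left, fun g hg => weaklyClosed_of_kNormalizer _ G rfl S A hA hN g hg⟩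
  refine ⟨fun x hx g hg => ?_, key⟩
  open Cfsg.Agent.Lib.FusionControl in
  obtain ⟨hxZ, hxc⟩ := Subgroup.mem_inf.1 hx
  set A := Subgroup.zpowers x with hA
  open Cfsg.Agent.Lib.FusionControl in
  set N := Subgroup.normalizer ((Cfsg.inducedFunctor Cfsg.kInfLower (S : Subgroup G) : Subgroup G) : Set G) with hN
  have hNC : N ≤ Subgroup.centralizer (A : Set G) := by
    intro y hy
    rw [Subgroup.mem_centralizer_iff]
    rintro _ ⟨i, rfl⟩
    exact ((show Commute y x from Subgroup.mem_centralizer_iff.1 hxc y hy).zpow_right i).eq.symm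
  have hwc := key A (Subgroup.zpowers_le.2 hxZ) (hNC.trans (Subgroup.centralizer_le_normalizer _))
  have hgA : A.map (MulAut.conj g).toMonoidHom ≤ (S : Subgroup G) := by
    rw [hA, MonoidHom.map_zpowers, Subgroup.zpowers_le]; exact hg
  have hgN : g ∈ Subgroup.normalizer (A : Set G) :=
    Cfsg.Agent.Lib.FusionControl.mem_normalizer_iff_cj.2 (hwc.2 g hgA)
  open Cfsg.Agent.Lib.FusionControl in
  have hSN : (S : Subgroup G) ≤ N := le_normalizer_inducedFunctor isCharPFunctor_kInfLower S.2
  -- Frattini inside the normalizer of `A`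
  open Cfsg.Agent.Lib.FusionControl in
  obtain ⟨k, hk, y, hy, rfl⟩ := exists_frattini_split (p := p) (K := Subgroup.centralizer (A : Set G))
    (R := (S : Subgroup G)) (x := g) (hSN.trans hNC) S.2 (not_dvd_relIndex_of_le S (hSN.trans hNC)) (by
      rw [mem_normalizer_iff_cj] at hgN ⊢
      rw [cj_centralizer, hgN])
  open Cfsg.Agent.Lib.FusionControl in
  have hy' : y ∈ Subgroup.centralizer (A : Set G) :=
    hNC (normalizer_le_normalizer_functor (isConjugacyFunctor_inducedFunctor isCharPFunctor_kInfLower) S.2 hy)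
  have := Subgroup.mem_centralizer_iff.1 (mul_mem hk hy') x (Subgroup.mem_zpowers x)
  rw [← this, mul_inv_cancel_right]

end Cfsg.Agent.S1986
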