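import Cfsg.Statements.S1988
import Cfsg.Agent.Lib.FusionControl.KStable
import Cfsg.Agent.Lib.FusionControl.PStable
import Cfsg.Agent.Lib.FusionControl.NPC

set_option autoImplicit false
universe u
open Cfsg

namespace Cfsg.Agent.S1988

open Cfsg.Agent.Lib.FusionControl
open Cfsg.Agent.Lib.Transfer (hasNormalPComplement_iff_coprime mem_pResidual_of_coprime hasNormalPComplement_of_normalizer_le_centralizer)

variable {p : ℕ} [Fact p.Prime]

theorem normalizer_npc {N : Type u} [Group N] [Finite N] (T : Sylow p N) (K : Subgroup N) [hKn : K.Normal]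
    (hKT : (T : Subgroup N) ⊓ Subgroup.centralizer (K : Set N) ≤ K)
    (h : ∀ g : N, (orderOf g).Coprime p → g ∈ Subgroup.centralizer (K : Set N)) :
    Cfsg.HasNormalPComplement p N := by
  set C := Subgroup.centralizer (K : Set N) with hC
  have hCn : C.Normal := inferInstance
  have hi : ¬ p ∣ ((T : Subgroup N) ⊓ C).relIndex C :=
    not_dvd_relIndex_inf le_top T.2 (sylow_relIndex_top T) le_top (by rw [Subgroup.normalizer_eq_top])
  let P : Sylow p C := ((T.2.to_le inf_le_left).comap_of_injective C.subtype C.subtype_injective :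
    IsPGroup p (((T : Subgroup N) ⊓ C).subgroupOf C)).toSylow hi
  have hPc : Cfsg.HasNormalPComplement p C := by
    refine hasNormalPComplement_of_normalizer_le_centralizer P fun c _ => ?_
    rw [Subgroup.mem_centralizer_iff]
    intro z hz
    exact Subtype.ext (Subgroup.mem_centralizer_iff.1 c.2 _ (hKT (Subgroup.mem_subgroupOf.1 hz)))
  rw [hasNormalPComplement_iff_coprime] at hPc ⊢
  refine Nat.Coprime.coprime_dvd_left (Subgroup.card_dvd_of_le (K := (Cfsg.pResidual p C).map C.subtype) ?_) ?_
  · rw [Cfsg.pResidual, Subgroup.closure_le]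
    intro g hg
    exact ⟨⟨g, h g hg⟩, mem_pResidual_of_coprime (by rw [← Subgroup.orderOf_coe]; exact hg), rfl⟩
  · rwa [Subgroup.card_map_of_injective C.subtype_injective]

/-- Let p be an odd prime, G a finite group with Sylow p-subgroup S and K the lower K-infinity subgroup of S. If N_G(K) has a normal p-complement, or if N_G(K)/C_G(K) is a p-group (every element of N_G(K) of order prime to p centralizes K), then G has a normal p-complement. -/
theorem result {G : Type u} [Group G] [Finite G] {p : ℕ} [Fact p.Prime] (hp : p ≠ 2) (S : Sylow p G) (h : Cfsg.HasNormalPComplement p ↥(Subgroup.normalizer ((Cfsg.inducedFunctor Cfsg.kInfLower (S : Subgroup G) : Subgroup G) : Set G)) ∨ ∀ g ∈ Subgroup.normalizer ((Cfsg.inducedFunctor Cfsg.kInfLower (S : Subgroup G) : Subgroup G) : Set G), (orderOf g).Coprime p → g ∈ Subgroup.centralizer ((Cfsg.inducedFunctor Cfsg.kInfLower (S : Subgroup G) : Subgroup G) : Set G)) : Cfsg.HasNormalPComplement p G := by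
  open Cfsg.Agent.Lib.FusionControl in
  have hW : Cfsg.IsCharPFunctor.{u} p Cfsg.kInfLower := isCharPFunctor_kInfLower
  open Cfsg.Agent.Lib.FusionControl in
  refine npc_of_thompsonHyp hW (G := G) (fun Y _ _ _ hC hnpc T hT => ?_) _ G rfl involves_self S ?_
  · open Cfsg.Agent.Lib.FusionControl in
    exact (kInf_normal_of_stable (G := Y) (fun K R _ => isNormalizerPStable_of_hasAbTop hp
      (hasAbTop_section (hasAbTop_minimal hnpc T hT) K R)) involves_self hC T).1
  rcases h with h | h
  · exact h
  open Cfsg.Agent.Lib.FusionControl in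
  have hSN : (S : Subgroup G) ≤ Subgroup.normalizer
      ((Cfsg.inducedFunctor Cfsg.kInfLower (S : Subgroup G) : Subgroup G) : Set G) :=
    le_normalizer_inducedFunctor hW S.2
  set K := Cfsg.inducedFunctor Cfsg.kInfLower (S : Subgroup G) with hK
  set N := Subgroup.normalizer (K : Set G) with hN
  have : (K.subgroupOf N).Normal := Subgroup.normal_in_normalizer
  refine normalizer_npc (S.subtype hSN) (K.subgroupOf N) ?_ fun g hg => ?_
  · intro x hx
    obtain ⟨hxS, hxC⟩ := Subgroup.mem_inf.1 hx
    rw [Sylow.coe_subtype, Subgroup.mem_subgroupOf] at hxS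
    refine Subgroup.mem_subgroupOf.2 ?_
    have hKS : K ≤ (S : Subgroup G) := Subgroup.map_subtype_le _
    have : (⟨(x : G), hxS⟩ : (S : Subgroup G)) ∈ Cfsg.kInfLower (S : Subgroup G) := by
      refine (Cfsg.Agent.Lib.FusionControl.center_le_kInfLower _ S.2).2 ?_
      rw [Subgroup.mem_centralizer_iff]
      intro k hk
      have hkK : (k : G) ∈ K := ⟨k, hk, rfl⟩
      have h1 := Subgroup.mem_centralizer_iff.1 hxC ⟨k, Subgroup.le_normalizer hkK⟩ (Subgroup.mem_subgroupOf.2 hkK)
      exact Subtype.ext (congrArg (Subtype.val : N → G) h1)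
    exact ⟨_, this, rfl⟩
  · have := h g g.2 (by rw [Subgroup.orderOf_coe]; exact hg)
    rw [Subgroup.mem_centralizer_iff]
    intro k hk
    exact Subtype.ext (Subgroup.mem_centralizer_iff.1 this _ (Subgroup.mem_subgroupOf.1 hk))

end Cfsg.Agent.S1988
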