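import Cfsg.Statements.S1992
import Cfsg.Agent.Lib.FusionControl.IndexP
import Cfsg.Agent.Lib.Characters.Burnside

set_option autoImplicit false
open Cfsg

namespace Cfsg.Agent.S1992

open Cfsg.Agent.Lib.FusionControl

universe v

open scoped commutatorElement in
theorem aux : ∀ (n : ℕ) (G : Type v) [Group G] [Finite G], Nat.card G = n →
    (∀ q : ℕ, q.Prime → q ∣ Nat.card G → ∀ Q : Sylow q G, Subgroup.normalizer ((Q : Subgroup G) : Set G) = Q) →
    ∃ q : ℕ, q.Prime ∧ IsPGroup q G := by
  intro n
  induction n using Nat.strong_induction_on with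
  | _ n ih =>
  intro G _ _ hn h
  by_cases htriv : (⊤ : Subgroup G) = ⊥
  · refine ⟨2, Nat.prime_two, fun g => ⟨0, ?_⟩⟩
    have : g ∈ (⊥ : Subgroup G) := htriv ▸ Subgroup.mem_top g
    simpa using this
  obtain ⟨N, ⟨hNn, hNne⟩, hNmin⟩ := exists_minimal_of_wellFoundedLT
    (fun N : Subgroup G => N.Normal ∧ N ≠ ⊥) ⟨⊤, inferInstance, htriv⟩
  by_cases hNtop : N = ⊤
  · -- no proper normal subgroups
    have hsimp : ∀ M : Subgroup G, M.Normal → M ≠ ⊥ → M = ⊤ := fun M hM hne =>
      le_antisymm le_top (hNtop ▸ hNmin ⟨hM, hne⟩ (by rw [hNtop]; exact le_top))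
    by_cases hsol : Group.IsSolvable G
    · have hcomm : commutator G = ⊥ := by
        by_contra hne
        have htop := hsimp _ inferInstance hne
        obtain ⟨k, hk⟩ := (Group.isSolvable_def G).1 hsol
        have : ∀ i, derivedSeries G i = ⊤ := by
          intro i
          induction i with
          | zero => rfl
          | succ i ih => rw [derivedSeries_succ, ih, ← commutator_def, htop]
        exact htriv (by rw [← this k, hk])
      have hab : ∀ a b : G, a * b = b * a := fun a b => by
        have : ⁅a, b⁆ ∈ commutator G := Subgroup.commutator_mem_commutator (Subgroup.mem_top a) (Subgroup.mem_top b)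
        rw [hcomm, Subgroup.mem_bot] at this
        exact commutatorElement_eq_one_iff_mul_comm.1 this
      have hne1 : Nat.card G ≠ 1 := fun h1 => htriv (by
        apply Subgroup.eq_bot_of_card_eq; rwa [Subgroup.card_top])
      have : Fact (Nat.card G).minFac.Prime := ⟨Nat.minFac_prime hne1⟩
      obtain ⟨Q⟩ : Nonempty (Sylow (Nat.card G).minFac G) := inferInstance
      refine ⟨_, Nat.minFac_prime hne1, ?_⟩
      have hQ := h _ (Nat.minFac_prime hne1) (Nat.minFac_dvd _) Q
      have hQt : (Q : Subgroup G) = ⊤ := by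
        rw [← hQ, eq_top_iff]
        intro x _
        rw [Subgroup.mem_normalizer_iff]
        intro s
        rw [hab x s, mul_inv_cancel_right]
      intro g
      obtain ⟨j, hj⟩ := Q.2 ⟨g, hQt ▸ Subgroup.mem_top g⟩
      exact ⟨j, congrArg Subtype.val hj⟩
    · obtain ⟨p, hpp, hpd, hp5⟩ : ∃ p, p.Prime ∧ p ∣ Nat.card G ∧ 5 ≤ p := by
        by_contra hcon
        push Not at hcon
        apply hsol
        refine Cfsg.Agent.Lib.Characters.isSolvable_of_card_eq_pow_mul_pow (p := 2) (q := 3)
          (a := (Nat.card G).factorization 2) (b := (Nat.card G).factorization 3)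
          Nat.prime_two Nat.prime_three ?_
        have hsub : (Nat.card G).primeFactors ⊆ {2, 3} := by
          intro q hq
          obtain ⟨hqp, hqd, -⟩ := Nat.mem_primeFactors.1 hq
          have := hcon q hqp hqd
          interval_cases q <;> simp_all (config := {decide := true})
        conv_lhs => rw [← Nat.prod_factorization_pow_eq_self (Nat.card_pos (α := G)).ne']
        rw [Finsupp.prod_of_support_subset _ hsub _ (by simp)]
        simp
      have : Fact p.Prime := ⟨hpp⟩
      obtain ⟨S⟩ : Nonempty (Sylow p G) := inferInstance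
      have hSne : (S : Subgroup G) ≠ ⊥ := S.ne_bot_of_dvd_card hpd
      have hsm : SmallNormalizer p (S : Subgroup G) := by
        intro g hg hord
        rw [h p hpp hpd S] at hg
        rw [Cfsg.Agent.Lib.Transfer.eq_one_of_isPGroup_of_coprime S.2 hg hord]
        exact one_mem _
      obtain ⟨M, hM, hMi⟩ := exists_index_p S (sylow_not_le_commutator hp5 _ G rfl S hSne hsm)
      have hMb : M = ⊥ := by
        by_contra hne
        rw [hsimp M hM hne, Subgroup.index_top] at hMi
        exact hpp.ne_one hMi.symm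
      refine ⟨p, hpp, IsPGroup.of_card (n := 1) ?_⟩
      rw [pow_one, ← hMi, hMb, Subgroup.index_bot]
  · -- a proper nontrivial normal subgroup
    set f := QuotientGroup.mk' N with hf
    have hfs : Function.Surjective f := QuotientGroup.mk'_surjective N
    have hcard : Nat.card (G ⧸ N) < n := by
      rw [← hn, Subgroup.card_eq_card_quotient_mul_card_subgroup N]
      exact lt_mul_of_one_lt_right Nat.card_pos (Subgroup.one_lt_card_iff_ne_bot N |>.2 hNne)
    obtain ⟨r, hr, hrG⟩ := ih _ hcard (G ⧸ N) rfl (by
      intro q hq hqd Q'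
      have : Fact q.Prime := ⟨hq⟩
      obtain ⟨Q, rfl⟩ := Sylow.mapSurjective_surjective hfs q Q'
      rw [Sylow.coe_mapSurjective]
      refine le_antisymm (fun y hy => ?_) Subgroup.le_normalizer
      obtain ⟨x, rfl⟩ := hfs y
      have hQd : q ∣ Nat.card G := hqd.trans (Subgroup.card_quotient_dvd_card N)
      set K := ((Q : Subgroup G).map f).comap f with hK
      have hxK : x ∈ Subgroup.normalizer (K : Set G) := by
        rw [Subgroup.mem_normalizer_iff]
        intro s
        have := Subgroup.mem_normalizer_iff.1 hy (f s)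
        rwa [← map_inv, ← map_mul, ← map_mul, ← Subgroup.mem_comap, ← Subgroup.mem_comap] at this
      have hQK : (Q : Subgroup G) ≤ K := Subgroup.le_comap_map _ _
      obtain ⟨k, hk, hkn⟩ := exists_frattini (R := (Q : Subgroup G)) hQK Q.2 (not_dvd_relIndex_of_le Q hQK) hxK
      rw [h q hq hQd Q] at hkn
      have hk' : f k ∈ (Q : Subgroup G).map f := hk
      have := mul_mem (inv_mem hk') (show f (k * x) ∈ (Q : Subgroup G).map f from ⟨_, hkn, rfl⟩)
      simpa using this)
    have : Fact r.Prime := ⟨hr⟩
    by_cases hNr : IsPGroup r N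
    · refine ⟨r, hr, ?_⟩
      intro g
      obtain ⟨j, hj⟩ := hrG (f g)
      have hmem : g ^ r ^ j ∈ N := (QuotientGroup.eq_one_iff _).1 (show f (g ^ r ^ j) = 1 by rw [map_pow]; exact hj)
      obtain ⟨i, hi⟩ := hNr ⟨_, hmem⟩
      exact ⟨j + i, by rw [pow_add, pow_mul]; exact congrArg Subtype.val hi⟩
    exfalso
    obtain ⟨q, hq, hqd, hqr⟩ : ∃ q, q.Prime ∧ q ∣ Nat.card N ∧ q ≠ r := by
      by_contra hcon
      push Not at hcon
      exact hNr (IsPGroup.of_card (Nat.eq_prime_pow_of_unique_prime_dvd Nat.card_pos.ne'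
        (fun hd hd' => hcon _ hd hd')))
    have : Fact q.Prime := ⟨hq⟩
    obtain ⟨Q⟩ : Nonempty (Sylow q G) := inferInstance
    have hQN : (Q : Subgroup G) ≤ N := by
      intro x hx
      obtain ⟨i, hi⟩ := Q.2 ⟨x, hx⟩
      obtain ⟨j, hj⟩ := hrG (f x)
      have h1 : f x ^ q ^ i = 1 := by
        rw [← map_pow, show x ^ q ^ i = 1 from congrArg Subtype.val hi, map_one]
      refine (QuotientGroup.eq_one_iff x).1 (orderOf_eq_one_iff.1 (Nat.eq_one_of_dvd_coprimes
        (Nat.coprime_pow_primes _ _ hq hr hqr) (orderOf_dvd_of_pow_eq_one h1) (orderOf_dvd_of_pow_eq_one hj)))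
    have htop := Sylow.normalizer_sup_eq_top (Q.subtype hQN)
    rw [Sylow.coe_subtype, Subgroup.subgroupOf_map_subtype, inf_eq_left.2 hQN,
      h q hq (hqd.trans (Subgroup.card_subgroup_dvd_card N)) Q, sup_eq_right.2 hQN] at htop
    exact hNtop htop

/-- Let G be a finite group in which, for every prime q dividing the order of G, every Sylow q-subgroup is its own normalizer. Then the order of G is a power of a single prime (G is a q-group for some prime q; for G trivial any prime works). -/
theorem result {G : Type*} [Group G] [Finite G] (h : ∀ q : ℕ, q.Prime → q ∣ Nat.card G → ∀ Q : Sylow q G, Subgroup.normalizer ((Q : Subgroup G) : Set G) = Q) : ∃ q : ℕ, q.Prime ∧ IsPGroup q G := by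
  exact aux _ G rfl h

end Cfsg.Agent.S1992
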