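import Cfsg.Statements.S1997
import Cfsg.Agent.Lib.FusionControl.Triple

set_option autoImplicit false
universe u
open Cfsg

namespace Cfsg.Agent.S1997

/-- Let p be a prime, G a finite group with Sylow p-subgroup S, and W₁, W₂ two isomorphism-invariant p-group functors (W assigns to every group Q a subgroup W(Q), nontrivial whenever Q is a nontrivial finite p-group, and every isomorphism from a finite p-group Q onto a group R carries W(Q) onto W(R)). Suppose that G* = C_{G*}(Ω₁Z(S*)) N_{G*}(W₁(S*)) = C_{G*}(Ω₁Z(S*)) N_{G*}(W₂(S*)) = N_{G*}(W₁(S*)) N_{G*}(W₂(S*)) whenever G* = K/R is a section of G with C_{G*}(O_p(G*)) ≤ O_p(G*) and S* is a Sylow p-subgroup of G*, where Ω₁Z denotes the subgroup generated by the elements of order dividing p in the centre. Suppose also Ω₁Z(S) ≤ W₁(S) ∩ W₂(S), and let A be the normal closure of Ω₁Z(S) in N_G(W₁(S)). Then A is an elementary abelian subgroup of S, strongly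 closed in S with respect to G, and A controls strong fusion in G. -/
theorem result {G : Type u} [Group G] [Finite G] {p : ℕ} [Fact p.Prime] (S : Sylow p G) (W₁ W₂ : ∀ (Q : Type u) [Group Q], Subgroup Q) (hW₁ : Cfsg.IsCharPFunctor.{u} p W₁) (hW₂ : Cfsg.IsCharPFunctor.{u} p W₂) (hfac : ∀ (K R : Subgroup G) [hR : (R.subgroupOf K).Normal], Subgroup.centralizer ((Cfsg.pCore p (↥K ⧸ R.subgroupOf K) : Subgroup (↥K ⧸ R.subgroupOf K)) : Set (↥K ⧸ R.subgroupOf K)) ≤ Cfsg.pCore p (↥K ⧸ R.subgroupOf K) → ∀ T : Sylow p (↥K ⧸ R.subgroupOf K), (∀ x : (↥K ⧸ R.subgroupOf K), ∃ a ∈ Subgroup.centralizer ((Cfsg.omegaOne p ((T : Subgroup (↥K ⧸ R.subgroupOf K)) ⊓ Subgroup.centralizer (((T : Subgroup (↥K ⧸ R.subgroupOf K)) : Subgroup (↥K ⧸ R.subgroupOf K)) : Set (↥K ⧸ R.subgroupOf K))) : Subgroup (↥K ⧸ R.subgroupOf K)) : Set (↥K ⧸ R.subgroupOf K)), ∃ b ∈ Subgroup.normalizer ((Cfsg.inducedFunctor (G := (↥K ⧸ R.subgroupOf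 K)) W₁ (T : Subgroup (↥K ⧸ R.subgroupOf K)) : Subgroup (↥K ⧸ R.subgroupOf K)) : Set (↥K ⧸ R.subgroupOf K)), x = a * b) ∧ (∀ x : (↥K ⧸ R.subgroupOf K), ∃ a ∈ Subgroup.centralizer ((Cfsg.omegaOne p ((T : Subgroup (↥K ⧸ R.subgroupOf K)) ⊓ Subgroup.centralizer (((T : Subgroup (↥K ⧸ R.subgroupOf K)) : Subgroup (↥K ⧸ R.subgroupOf K)) : Set (↥K ⧸ R.subgroupOf K))) : Subgroup (↥K ⧸ R.subgroupOf K)) : Set (↥K ⧸ R.subgroupOf K)), ∃ b ∈ Subgroup.normalizer ((Cfsg.inducedFunctor (G := (↥K ⧸ R.subgroupOf K)) W₂ (T : Subgroup (↥K ⧸ R.subgroupOf K)) : Subgroup (↥K ⧸ R.subgroupOf K)) : Set (↥K ⧸ R.subgroupOf K)), x = a * b) ∧ (∀ x : (↥K ⧸ R.subgroupOf K), ∃ a ∈ Subgroup.normalizer ((Cfsg.inducedFunctor (G := (↥K ⧸ R.subgroupOf K)) W₁ (T : Subgroup (↥K ⧸ R.subgroupOf K)) : Subgroup (↥K ⧸ R.subgroupOf K)) : Set (↥K ⧸ R.subgroupOf K)), ∃ b ∈ Subgroup.normalizer ((Cfsg.inducedFunctor (G := (↥K ⧸ R.subgroupOf K)) W₂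 (T : Subgroup (↥K ⧸ R.subgroupOf K)) : Subgroup (↥K ⧸ R.subgroupOf K)) : Set (↥K ⧸ R.subgroupOf K)), x = a * b)) (hZ : Cfsg.omegaOne p ((S : Subgroup G) ⊓ Subgroup.centralizer (((S : Subgroup G) : Subgroup G) : Set G)) ≤ Cfsg.inducedFunctor (G := G) W₁ (S : Subgroup G) ⊓ Cfsg.inducedFunctor (G := G) W₂ (S : Subgroup G)) (N₁ : Subgroup G) (hN₁ : N₁ = Subgroup.normalizer ((Cfsg.inducedFunctor (G := G) W₁ (S : Subgroup G) : Subgroup G) : Set G)) (A : Subgroup G) (hA : A = (Subgroup.normalClosure (((Cfsg.omegaOne p ((S : Subgroup G) ⊓ Subgroup.centralizer (((S : Subgroup G) : Subgroup G) : Set G))).subgroupOf N₁ : Subgroup ↥N₁) : Set ↥N₁)).map N₁.subtype) : A ≤ (S : Subgroup G) ∧ Cfsg.IsElementaryAbelian p A ∧ Cfsg.IsStronglyClosed A (S : Subgroup G) ∧ Cfsg.ControlsStrongFusion p A := by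
  open Cfsg.Agent.Lib.FusionControl in
  have hf1 : CentralFactor p G W₁ := centralFactor_of_sections hW₁ fun K R _ h T => (hfac K R h T).1
  have hf2 : CentralFactor p G W₂ := centralFactor_of_sections hW₂ fun K R _ h T => (hfac K R h T).2.1
  set Z := Cfsg.omegaOne p ((S : Subgroup G) ⊓ Subgroup.centralizer (((S : Subgroup G) : Subgroup G) : Set G)) with hZdef
  set V1 := Cfsg.inducedFunctor (G := G) W₁ (S : Subgroup G) with hV1
  set V2 := Cfsg.inducedFunctor (G := G) W₂ (S : Subgroup G) with hV2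
  set N₂ := Subgroup.normalizer (V2 : Set G) with hN₂
  have hV1S : V1 ≤ (S : Subgroup G) := Subgroup.map_subtype_le _
  have hN1n : V1 ≤ N₁ := hN₁ ▸ Subgroup.le_normalizer
  have hcomm0 : ∀ a ∈ (S : Subgroup G) ⊓ Subgroup.centralizer (((S : Subgroup G) : Subgroup G) : Set G), ∀ s ∈ (S : Subgroup G), s * a = a * s :=
    fun a ha s hs => Subgroup.mem_centralizer_iff.1 (Subgroup.mem_inf.1 ha).2 s hs
  have hZprop : ∀ z ∈ Z, z ∈ (S : Subgroup G) ∧ z ^ p = 1 ∧ ∀ s ∈ (S : Subgroup G), s * z = z * s := by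
    intro z hz
    induction hz using Subgroup.closure_induction with
    | mem x hx => exact ⟨(Subgroup.mem_inf.1 hx.1).1, hx.2, hcomm0 x hx.1⟩
    | one => exact ⟨one_mem _, one_pow _, fun s _ => by simp⟩
    | mul x y _ _ hx hy =>
      refine ⟨mul_mem hx.1 hy.1, ?_, fun s hs => ?_⟩
      · rw [(show Commute x y from hy.2.2 x hx.1).mul_pow, hx.2.1, hy.2.1, one_mul]
      · rw [← mul_assoc, hx.2.2 s hs, mul_assoc, hy.2.2 s hs, mul_assoc]
    | inv x _ hx =>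
      refine ⟨inv_mem hx.1, by rw [inv_pow, hx.2.1, inv_one], fun s hs => ?_⟩
      exact ((show Commute s x from hx.2.2 s hs).inv_right).eq
  -- the set of generators
  have hgen : ∀ n ∈ N₁, ∀ z ∈ Z, n * z * n⁻¹ ∈ A := by
    intro n hn z hz
    rw [hA]
    refine ⟨⟨n, hn⟩ * ⟨z, hN1n ((hZ hz).1)⟩ * ⟨n, hn⟩⁻¹, ?_, rfl⟩
    exact Subgroup.normalClosure_normal.conj_mem _ (Subgroup.subset_normalClosure (Subgroup.mem_subgroupOf.2 hz)) _
  have hmin : ∀ D : Subgroup G, (∀ n ∈ N₁, ∀ z ∈ Z, n * z * n⁻¹ ∈ D) → A ≤ D := by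
    intro D hD
    rw [hA, Subgroup.map_le_iff_le_comap]
    refine (Subgroup.closure_le _).2 ?_
    intro y hy
    obtain ⟨z, hz, hzy⟩ := Group.mem_conjugatesOfSet_iff.1 hy
    obtain ⟨c, rfl⟩ := isConj_iff.1 hzy
    exact hD c c.2 z (Subgroup.mem_subgroupOf.1 hz)
  let B : Subgroup G :=
    { carrier := {u | u ∈ V1 ∧ (∀ v ∈ V1, v * u = u * v) ∧ u ^ p = 1}
      one_mem' := ⟨one_mem _, fun v _ => by simp, one_pow _⟩
      mul_mem' := fun {a b} ha hb => ⟨mul_mem ha.1 hb.1, fun v hv => by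
        rw [← mul_assoc, ha.2.1 v hv, mul_assoc, hb.2.1 v hv, mul_assoc], by
        rw [(show Commute a b from hb.2.1 a ha.1).mul_pow, ha.2.2, hb.2.2, one_mul]⟩
      inv_mem' := fun {a} ha => ⟨inv_mem ha.1, fun v hv => ((show Commute v a from ha.2.1 v hv).inv_right).eq,
        by rw [inv_pow, ha.2.2, inv_one]⟩ }
  have hAB : A ≤ B := by
    refine hmin B fun n hn z hz => ?_
    rw [hN₁] at hn
    refine ⟨(Subgroup.mem_normalizer_iff.1 hn z).1 (hZ hz).1, fun v hv => ?_, by rw [conj_pow, (hZprop z hz).2.1]; group⟩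
    have hv' : n⁻¹ * v * n ∈ V1 := by
      have := (Subgroup.mem_normalizer_iff.1 (inv_mem hn) v).1 hv
      simpa using this
    have := (hZprop z hz).2.2 _ (hV1S hv')
    calc v * (n * z * n⁻¹) = n * (n⁻¹ * v * n * z) * n⁻¹ := by group
      _ = n * (z * (n⁻¹ * v * n)) * n⁻¹ := by rw [this]
      _ = _ := by group
  have hAS : A ≤ (S : Subgroup G) := fun a ha => hV1S (hAB ha).1
  have hAelem : Cfsg.IsElementaryAbelian p A :=
    ⟨⟨⟨fun a b => Subtype.ext ((hAB b.2).2.1 a (hAB a.2).1)⟩⟩, fun a ha => (hAB ha).2.2⟩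
  have hN1A : N₁ ≤ Subgroup.normalizer (A : Set G) := by
    intro m hm
    refine mem_normalizer_of_cj_le ?_
    rw [cj, Subgroup.map_le_iff_le_comap]
    refine hmin _ fun n hn z hz => ?_
    show m * (n * z * n⁻¹) * m⁻¹ ∈ A
    rw [show m * (n * z * n⁻¹) * m⁻¹ = m * n * z * (m * n)⁻¹ by group]
    exact hgen _ (mul_mem hm hn) z hz
  have hN2A : N₂ ≤ Subgroup.normalizer (A : Set G) := by
    intro m hm
    refine mem_normalizer_of_cj_le ?_
    rw [cj, Subgroup.map_le_iff_le_comap]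
    refine hmin _ fun n hn z hz => ?_
    show m * (n * z * n⁻¹) * m⁻¹ ∈ A
    rw [hN₁] at hn
    obtain ⟨n', -, hn'2, hn'e⟩ := exists_inter_agree hW₁ hW₂ hf2 S hn
    rw [hn'e z (hZ hz).1 (hZprop z hz).2.1 (hZprop z hz).2.2]
    have hmn : m * n' ∈ N₂ := mul_mem hm hn'2
    obtain ⟨k, -, hk1, hke⟩ := exists_inter_agree hW₂ hW₁ hf1 S hmn
    rw [show m * (n' * z * n'⁻¹) * m⁻¹ = m * n' * z * (m * n')⁻¹ by group,
      hke z (hZ hz).2 (hZprop z hz).2.1 (hZprop z hz).2.2]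
    exact hgen k (hN₁ ▸ hk1) z hz
  have hctrl : ∀ (X : Set G) (g : G), X ⊆ (S : Subgroup G) → (fun a => g * a * g⁻¹) '' X ⊆ (S : Subgroup G) →
      ∃ x ∈ Subgroup.normalizer (A : Set G), ∀ a ∈ X, x * a * x⁻¹ = g * a * g⁻¹ := by
    intro X g hX hgX
    have h1 := strongFusion_pair W₁ W₂ hW₁ hW₂ (fun K R _ h T => (hfac K R h T).2.2)
    have hl := localCtrl_of_family (indSet_conjugacy (by
      rintro W (rfl | rfl)
      · exact hW₁
      · exact hW₂) G) h1 le_top S.2 (sylow_relIndex_top S)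
    refine (hl X g (Subgroup.mem_top g) hX hgX).exists_mem _ ?_
    rintro y (rfl | ⟨_, ⟨W', hW', rfl⟩, hy⟩)
    · exact one_mem _
    · rcases hW' with rfl | rfl
      · exact hN1A (hN₁ ▸ hy.2)
      · exact hN2A hy.2
  refine ⟨hAS, hAelem, ⟨hAS, fun x hx g hgx => ?_⟩, ⟨S, hAS, fun X hX => ⟨hX, fun g hg => ?_⟩⟩⟩
  · obtain ⟨m, hm, hme⟩ := hctrl {x} g (Set.singleton_subset_iff.2 (hAS hx)) (by
      rintro _ ⟨_, rfl, rfl⟩; exact hgx)
    rw [← hme x rfl]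
    exact (Subgroup.mem_normalizer_iff.1 hm x).1 hx
  · obtain ⟨m, hm, hme⟩ := hctrl X g hX hg
    exact ⟨m, hm, fun a ha => (hme a ha).symm⟩

end Cfsg.Agent.S1997
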