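import Cfsg.Statements.S2000
import Cfsg.Agent.Lib.SFourGeneral.Control
import Cfsg.Agent.Lib.SFourGeneral.QdSections
import Cfsg.Agent.Lib.PLocal.ZJFusion
import Cfsg.Agent.Lib.PLocal.Dickson
import Cfsg.Agent.S2761
-- import your own Cfsg.Agent.* helpers here

set_option autoImplicit false
universe u
open Cfsg

namespace Cfsg.Agent.S2000

/-- Let p be a prime and G a finite group. Then Qd(p) (the natural semidirect product of an elementary abelian group of order p² by SL₂(p)) is not involved in G if and only if there is a set 𝓦 of isomorphism-invariant p-group functors (each nontrivial on nontrivial finite p-groups and carried onto W(R) by every isomorphism from a finite p-group Q onto R, hence with characteristic values on finite p-groups) whose induced conjugacy functors control strong fusion in every section of G. -/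
theorem result {G : Type u} [Group G] [Finite G] {p : ℕ} [Fact p.Prime] : ¬ Cfsg.Involves ↥(Cfsg.qd p) G ↔ ∃ 𝓦 : Set (∀ (Q : Type u) [Group Q], Subgroup Q), (∀ W ∈ 𝓦, Cfsg.IsCharPFunctor.{u} p W) ∧ ∀ (K R : Subgroup G) [hR : (R.subgroupOf K).Normal], Cfsg.FamilyControlsStrongFusionIn p ((fun W => Cfsg.inducedFunctor (G := (↥K ⧸ R.subgroupOf K)) W) '' 𝓦) ⊤ := by
  constructor
  · intro hfree
    by_cases hp2 : p = 2
    · subst hp2
      refine ⟨{fun Q [Group Q] => Subgroup.center Q, fun Q [Group Q] => Cfsg.thompsonSubgroup 2 Q}, ?_,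
        fun K R hR => ?_⟩
      · rintro W (rfl | rfl)
        · exact Cfsg.Agent.Lib.PLocal.isCharPFunctor_center
        · exact Cfsg.Agent.Lib.SFourGeneral.isCharPFunctor_thompson
      · have hY : ¬ Cfsg.Involves (Equiv.Perm (Fin 4)) (↥K ⧸ R.subgroupOf K) := fun h => by
          obtain ⟨K', R', hR', ⟨e⟩⟩ := Cfsg.Agent.Lib.SFourGeneral.involves_trans h
            (Cfsg.Agent.Lib.SFourGeneral.involves_quot K R)
          obtain ⟨q⟩ := Cfsg.Agent.S2761.result
          exact hfree ⟨K', R', hR', ⟨e.trans q.symm⟩⟩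
        have h := Cfsg.Agent.Lib.SFourGeneral.control hY
        rw [Set.image_pair]
        have e : (Cfsg.inducedFunctor (G := ↥K ⧸ R.subgroupOf K) (fun Q [Group Q] => Subgroup.center Q)) =
            fun P : Subgroup (↥K ⧸ R.subgroupOf K) =>
              P ⊓ Subgroup.centralizer (P : Set (↥K ⧸ R.subgroupOf K)) :=
          funext Cfsg.Agent.Lib.SFourGeneral.inducedFunctor_center
        rw [e]
        exact h
    · refine ⟨{Cfsg.Agent.Lib.PLocal.zjA}, ?_, fun K R hR => ?_⟩
      · rintro W rfl
        exact Cfsg.Agent.Lib.PLocal.isCharPFunctor_zjA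
      · exact Cfsg.Agent.Lib.PLocal.family_zjA (G := G) hp2
          (fun Y _ _ hY => Cfsg.Agent.Lib.PLocal.isNormalizerPStable_of_involved
            Cfsg.Agent.Lib.PLocal.dicksonTwo hp2 hfree hY) _
          (Cfsg.Agent.Lib.SFourGeneral.involves_quot K R)
  · rintro ⟨𝓦, h𝓦, hctrl⟩ ⟨K, R, hR, ⟨e⟩⟩
    exact Cfsg.Agent.Lib.SFourGeneral.not_controls e 𝓦 h𝓦 (hctrl K R)

end Cfsg.Agent.S2000
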