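import Cfsg.Statements.S2003
import Cfsg.Agent.Lib.FusionControl.KDegree

set_option autoImplicit false
open Cfsg

namespace Cfsg.Agent.S2003

open Cfsg.Agent.Lib.FusionControl
open scoped commutatorElement

universe u

variable {G : Type u} [Group G]

/-- the elements of `U` commuting a normal subgroup into a normal subgroup -/
def commInto (U A W : Subgroup G) [A.Normal] [W.Normal] : Subgroup G where
  carrier := {u | u ∈ U ∧ ∀ a ∈ A, ⁅u, a⁆ ∈ W}
  one_mem' := ⟨one_mem _, fun a _ => by rw [commutatorElement_one_left]; exact one_mem _⟩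
  mul_mem' := fun {x y} hx hy => ⟨mul_mem hx.1 hy.1, fun a ha => by
    rw [show ⁅x * y, a⁆ = x * ⁅y, a⁆ * x⁻¹ * ⁅x, a⁆ by simp only [commutatorElement_def]; group]
    exact mul_mem (Subgroup.Normal.conj_mem ‹W.Normal› _ (hy.2 a ha) x) (hx.2 a ha)⟩
  inv_mem' := fun {x} hx => ⟨inv_mem hx.1, fun a ha => by
    rw [show ⁅x⁻¹, a⁆ = x⁻¹ * ⁅x, a⁆⁻¹ * x⁻¹⁻¹ by simp only [commutatorElement_def]; group]
    exact Subgroup.Normal.conj_mem ‹W.Normal› _ (inv_mem (hx.2 a ha)) x⁻¹⟩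

lemma mem_commInto {U A W : Subgroup G} [A.Normal] [W.Normal] {u : G} :
    u ∈ commInto U A W ↔ u ∈ U ∧ ∀ a ∈ A, ⁅u, a⁆ ∈ W := Iff.rfl

instance commInto_normal (U A W : Subgroup G) [U.Normal] [A.Normal] [W.Normal] : (commInto U A W).Normal :=
  ⟨fun u hu g => ⟨Subgroup.Normal.conj_mem ‹U.Normal› u hu.1 g, fun a ha => by
    rw [show ⁅g * u * g⁻¹, a⁆ = g * ⁅u, g⁻¹ * a * g⁆ * g⁻¹ by simp only [commutatorElement_def]; group]
    refine Subgroup.Normal.conj_mem ‹W.Normal› _ (hu.2 _ ?_) g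
    simpa using Subgroup.Normal.conj_mem ‹A.Normal› a ha g⁻¹⟩⟩

lemma cit_mul {M : Subgroup G} [M.Normal] (hMc : ∀ x ∈ M, ∀ y ∈ M, Commute x y) (g : G) {u v : G}
    (hu : u ∈ M) (hv : v ∈ M) : ∀ l : ℕ, cit g l (u * v) = cit g l u * cit g l v := by
  intro l
  induction l with
  | zero => rfl
  | succ l ihl =>
    rw [cit_succ, cit_succ, cit_succ, ihl]
    obtain ⟨u', hu'⟩ : ∃ u', u' = cit g l u := ⟨_, rfl⟩
    obtain ⟨v', hv'⟩ : ∃ v', v' = cit g l v := ⟨_, rfl⟩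
    rw [← hu', ← hv']
    have hgv : ⁅g, v'⁆ ∈ M := hv' ▸ cit_mem g (cit_mem g hv l) 1
    calc ⁅g, u' * v'⁆ = ⁅g, u'⁆ * (u' * ⁅g, v'⁆ * u'⁻¹) := by simp only [commutatorElement_def]; group
      _ = _ := by rw [(hMc u' (hu' ▸ cit_mem g hu l) _ hgv).eq, mul_inv_cancel_right]

lemma cit_conj (g v : G) : ∀ l : ℕ, cit g l (g * v * g⁻¹) = g * cit g l v * g⁻¹ := by
  intro l
  induction l with
  | zero => rfl
  | succ l ihl => rw [cit_succ, cit_succ, ihl]; simp only [commutatorElement_def]; group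

/-- the commutator pairing has degree at most the sum of the degrees, in an abelian layer -/
lemma pairing_deg {M A' U' : Subgroup G} [M.Normal] [A'.Normal] [U'.Normal]
    (hMc : ∀ x ∈ M, ∀ y ∈ M, Commute x y) (hMU : ∀ x ∈ M, ∀ y ∈ U', Commute x y)
    (hMA : ∀ x ∈ M, ∀ y ∈ A', Commute x y) (hUA : ∀ y ∈ U', ∀ a ∈ A', ⁅y, a⁆ ∈ M) (g : G) :
    ∀ (n : ℕ), ∀ y ∈ U', (∀ k l, k + l = n → ∀ a ∈ A', cit g l ⁅y, cit g⁻¹ k a⁆ = 1) →
      ∀ a ∈ A', ⁅cit g n y, a⁆ = 1 := by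
  intro n
  induction n with
  | zero => intro y _ h a ha; exact h 0 0 rfl a ha
  | succ n ih =>
    intro y hy h a ha
    have h1 := ih ⁅g, y⁆ (cit_mem g hy 1) (fun k l hkl b hb => ?_) a ha
    · rwa [cit, Function.iterate_succ_apply]
    obtain ⟨c, hc⟩ : ∃ c, c = cit g⁻¹ k b := ⟨_, rfl⟩
    rw [← hc]
    have hcA : c ∈ A' := hc ▸ cit_mem g⁻¹ hb k
    obtain ⟨w, hw⟩ : ∃ w, w = ⁅y, c⁆ := ⟨_, rfl⟩
    obtain ⟨e, he⟩ : ∃ e, e = ⁅g⁻¹, c⁆ := ⟨_, rfl⟩
    obtain ⟨w', hw'⟩ : ∃ w', w' = ⁅y, e⁆ := ⟨_, rfl⟩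
    have heA : e ∈ A' := he ▸ cit_mem g⁻¹ hcA 1
    have hwM : w ∈ M := hw ▸ hUA y hy c hcA
    have hw'M : w' ∈ M := hw' ▸ hUA y hy e heA
    have hgy : g * y * g⁻¹ ∈ U' := Subgroup.Normal.conj_mem ‹U'.Normal› y hy g
    have e1 : ⁅y⁻¹, c⁆ = w⁻¹ := by
      have := (hMU w⁻¹ (inv_mem hwM) y hy).eq
      calc ⁅y⁻¹, c⁆ = y⁻¹ * (w⁻¹ * y) := by rw [hw]; simp only [commutatorElement_def]; group
        _ = _ := by rw [this, inv_mul_cancel_left]
    have e2 : ⁅g * y * g⁻¹, c⁆ = g * (w' * w) * g⁻¹ := by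
      have e3 : g⁻¹ * c * g = e * c := by rw [he, commutatorElement_def]; group
      calc ⁅g * y * g⁻¹, c⁆ = g * ⁅y, g⁻¹ * c * g⁆ * g⁻¹ := by simp only [commutatorElement_def]; group
        _ = g * (⁅y, e⁆ * (e * ⁅y, c⁆ * e⁻¹)) * g⁻¹ := by rw [e3]; simp only [commutatorElement_def]; group
        _ = _ := by rw [← hw, ← hw', ← (hMA w hwM e heA).eq, mul_inv_cancel_right]
    have e4 : ⁅⁅g, y⁆, c⁆ = g * w' * g⁻¹ * ⁅g, w⁆ := by
      calc ⁅⁅g, y⁆, c⁆ = g * y * g⁻¹ * ⁅y⁻¹, c⁆ * (g * y * g⁻¹)⁻¹ * ⁅g * y * g⁻¹, c⁆ := by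
            simp only [commutatorElement_def]; group
        _ = w⁻¹ * (g * (w' * w) * g⁻¹) := by
            rw [e1, e2, ← (hMU w⁻¹ (inv_mem hwM) _ hgy).eq, mul_inv_cancel_right]
        _ = g * (w' * w) * g⁻¹ * w⁻¹ :=
            (hMc w⁻¹ (inv_mem hwM) _ (Subgroup.Normal.conj_mem ‹M.Normal› _ (mul_mem hw'M hwM) g)).eq
        _ = _ := by simp only [commutatorElement_def]; group
    rw [e4, cit_mul hMc g (Subgroup.Normal.conj_mem ‹M.Normal› _ hw'M g) (show ⁅g, w⁆ ∈ M from cit_mem g hwM 1) l, cit_conj,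
      show cit g l w' = 1 by
        have := h (k + 1) l (by omega) b hb
        rwa [cit_succ, ← hc, ← he, ← hw'] at this,
      show cit g l ⁅g, w⁆ = 1 by
        have := h k (l + 1) (by omega) b hb
        rwa [← hc, ← hw, cit, Function.iterate_succ_apply] at this]
    group

lemma map_cit {H : Type*} [Group H] (f : G →* H) (g x : G) :
    ∀ k : ℕ, f (cit g k x) = (fun y : H => ⁅f g, y⁆)^[k] (f x) := by
  intro k
  induction k with
  | zero => rfl
  | succ k ih => rw [cit_succ, map_commutatorElement, ih, Function.iterate_succ_apply']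

lemma map_iterCommutator {H : Type*} [Group H] (f : G →* H) (U : Subgroup G) (g : G) :
    ∀ k : ℕ, (Cfsg.iterCommutator U (Subgroup.zpowers g) k).map f =
      Cfsg.iterCommutator (U.map f) (Subgroup.zpowers (f g)) k := by
  intro k
  induction k with
  | zero => rfl
  | succ k ih =>
    show (⁅_, _⁆ : Subgroup G).map f = ⁅_, _⁆
    rw [Subgroup.map_commutator, ih, MonoidHom.map_zpowers]

/-- a degree read on elements of an abelian normal subgroup bounds the iterated commutator -/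
lemma iterCommutator_eq_bot [Finite G] {M : Subgroup G} [M.Normal] (hMc : ∀ x ∈ M, ∀ y ∈ M, Commute x y) (g : G)
    {n : ℕ} (h : ∀ x ∈ M, cit g n x = 1) : Cfsg.iterCommutator M (Subgroup.zpowers g) n = ⊥ := by
  suffices H : ∀ k l, k + l = n → ∀ x ∈ Cfsg.iterCommutator M (Subgroup.zpowers g) k, x ∈ M ∧ cit g l x = 1 from
    eq_bot_iff.2 fun x hx => Subgroup.mem_bot.2 (H n 0 rfl x hx).2
  intro k
  induction k with
  | zero => intro l hl x hx; exact ⟨hx, (Nat.zero_add l ▸ hl) ▸ h x hx⟩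
  | succ k ih =>
    intro l hl
    let K : Subgroup G :=
      { carrier := {x | x ∈ M ∧ cit g l x = 1}
        one_mem' := ⟨one_mem _, cit_one g l⟩
        mul_mem' := fun {x y} hx hy => ⟨mul_mem hx.1 hy.1, by rw [cit_mul hMc g hx.1 hy.1, hx.2, hy.2, one_mul]⟩
        inv_mem' := fun {x} hx => ⟨inv_mem hx.1, by
          have := cit_mul hMc g (inv_mem hx.1) hx.1 l
          rwa [inv_mul_cancel, cit_one, hx.2, mul_one, eq_comm] at this⟩ }
    suffices h2 : Cfsg.iterCommutator M (Subgroup.zpowers g) (k + 1) ≤ K from fun x hx => h2 hx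
    show ⁅_, Subgroup.zpowers g⁆ ≤ K
    rw [Subgroup.commutator_le]
    intro x hx w hw
    obtain ⟨hxM, hxc⟩ := ih (l + 1) (by omega) x hx
    obtain ⟨m, rfl⟩ := mem_powers_iff_mem_zpowers.2 hw
    rw [← commutatorElement_inv]
    refine inv_mem ?_
    clear hw
    induction m with
    | zero => show ⁅g ^ 0, x⁆ ∈ K; rw [pow_zero, commutatorElement_one_left]; exact one_mem _
    | succ m ihm =>
      show ⁅g ^ (m + 1), x⁆ ∈ K
      rw [show ⁅g ^ (m + 1), x⁆ = g * ⁅g ^ m, x⁆ * g⁻¹ * ⁅g, x⁆ by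
        rw [pow_succ']; simp only [commutatorElement_def]; group]
      refine mul_mem ⟨Subgroup.Normal.conj_mem ‹M.Normal› _ ihm.1 g, ?_⟩ ⟨cit_mem g hxM 1, ?_⟩
      · rw [cit_conj, ihm.2]; group
      · rwa [cit, Function.iterate_succ_apply] at hxc

lemma iterCommutator_le_of_deg [Finite G] {U V : Subgroup G} [V.Normal] [U.Normal]
    (hab : ∀ a ∈ U, ∀ b ∈ U, ⁅a, b⁆ ∈ V) {g : G} {n : ℕ} (h : Deg n g U V) :
    Cfsg.iterCommutator U (Subgroup.zpowers g) n ≤ V := by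
  have hone : ∀ a : G, QuotientGroup.mk' V a = 1 ↔ a ∈ V := fun a => QuotientGroup.eq_one_iff a
  have : (U.map (QuotientGroup.mk' V)).Normal := Subgroup.Normal.map ‹U.Normal› _ (QuotientGroup.mk'_surjective V)
  have h1 := iterCommutator_eq_bot (M := U.map (QuotientGroup.mk' V)) ?_ (QuotientGroup.mk' V g) (n := n) ?_
  · rw [← map_iterCommutator, Subgroup.map_eq_bot_iff, QuotientGroup.ker_mk'] at h1
    exact h1
  · rintro _ ⟨a, ha, rfl⟩ _ ⟨b, hb, rfl⟩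
    exact commutatorElement_eq_one_iff_mul_comm.1 (by rw [← map_commutatorElement, hone]; exact hab a ha b hb)
  · rintro _ ⟨a, ha, rfl⟩
    exact (map_cit _ g a n).symm.trans ((hone _).2 (h a ha))

/-- Let p be a prime, G a finite group, P a normal p-subgroup of G and Q a critical subgroup of P: a characteristic subgroup with Q/Z(Q) elementary abelian, [P, Q] ≤ Z(Q), C_P(Q) = Z(Q), and such that every automorphism of P of order prime to p fixing Q elementwise is trivial. Let g ∈ G and i, j ≥ 1, and suppose that [X, g, …, g] ≤ Y with i entries g for every chief factor X/Y of G with X ≤ Q, and with j entries g for every chief factor X/Y of G with X ≤ Z(Q). Then [X, g, …, g] ≤ Y with i + j − 1 entries g for every chief factor X/Y of G with X ≤ P. -/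
theorem result {G : Type*} [Group G] [Finite G] {p : ℕ} [Fact p.Prime] (P : Subgroup G) [P.Normal] (hP : IsPGroup p ↥P) (Q : Subgroup G) (hQP : Q ≤ P) (hQchar : (Q.subgroupOf P).Characteristic) (hQ1 : ∀ a ∈ Q, a ^ p ∈ Q ⊓ Subgroup.centralizer ((Q : Subgroup G) : Set G)) (hQ2 : ⁅Q, Q⁆ ≤ Subgroup.centralizer ((Q : Subgroup G) : Set G)) (hQ3 : ⁅P, Q⁆ ≤ Q ⊓ Subgroup.centralizer ((Q : Subgroup G) : Set G)) (hQ4 : P ⊓ Subgroup.centralizer ((Q : Subgroup G) : Set G) = Q ⊓ Subgroup.centralizer ((Q : Subgroup G) : Set G)) (hQ5 : ∀ φ : MulAut ↥P, (orderOf φ).Coprime p → (∀ a : ↥P, (a : G) ∈ Q → φ a = a) → φ = 1) (g : G) (i j : ℕ) (hi : 1 ≤ i) (hj : 1 ≤ j) (hQi : ∀ U V : Subgroup G, Cfsg.IsChiefFactor U V → U ≤ Q → Cfsg.iterCommutator U (Subgroup.zpowers g) i ≤ V) (hZj : ∀ U V : Subgroup G, Cfsg.IsChiefFactor U V → U ≤ Q ⊓ Subgroup.centralizer ((Q : Subgroup G) : Set G) → Cfsg.iterCommutator U (Subgroup.zpowers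 g) j ≤ V) : ∀ U V : Subgroup G, Cfsg.IsChiefFactor U V → U ≤ P → Cfsg.iterCommutator U (Subgroup.zpowers g) (i + j - 1) ≤ V := by
  open Cfsg.Agent.Lib.FusionControl in
  classical
  intro U V hch hUP
  obtain ⟨hVU, hUn, hVn, hmin⟩ := id hch
  open Cfsg.Agent.Lib.FusionControl in
  obtain ⟨hUc, hUab, -⟩ := chief_facts hP hch hUP
  refine iterCommutator_le_of_deg hUab ?_
  have hQn : Q.Normal := by
    have := hQchar
    have h := Cfsg.Agent.Lib.Cores.normalizer_le_normalizer_map_subtype P (Q.subgroupOf P)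
    rw [Subgroup.subgroupOf_map_subtype, inf_eq_left.2 hQP, Subgroup.normalizer_eq_top, top_le_iff] at h
    exact Subgroup.normalizer_eq_top_iff.1 h
  by_cases hUQ : ¬ U ⊓ Q ≤ V
  · open Cfsg.Agent.Lib.FusionControl in
    have hn1 : (U ⊓ Q).Normal := inferInstance
    open Cfsg.Agent.Lib.FusionControl in
    have hn2 : (V ⊓ Q).Normal := inferInstance
    have hch' : Cfsg.IsChiefFactor (U ⊓ Q) (V ⊓ Q) := by
      refine ⟨lt_of_le_not_ge (inf_le_inf_right Q hVU.le) fun h => hUQ (h.trans inf_le_left), hn1, hn2,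
        fun N hN h1 h2 => ?_⟩
      rcases hmin (N ⊔ V) inferInstance le_sup_right (sup_le (h2.trans inf_le_left) hVU.le) with h | h
      · exact Or.inl (le_antisymm (le_inf (le_sup_left.trans h.le) (h2.trans inf_le_right)) h1)
      · refine Or.inr (le_antisymm h2 fun x hx => ?_)
        obtain ⟨hxU, hxQ⟩ := Subgroup.mem_inf.1 hx
        rw [← h] at hxU
        obtain ⟨a, ha, v, hv, rfl⟩ := Subgroup.mem_sup_of_normal_right.1 hxU
        have : a⁻¹ * (a * v) ∈ Q := mul_mem (inv_mem (Subgroup.mem_inf.1 (h2 ha)).2) hxQ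
        rw [inv_mul_cancel_left] at this
        exact mul_mem ha (h1 (Subgroup.mem_inf.2 ⟨hv, this⟩))
    open Cfsg.Agent.Lib.FusionControl in
    refine deg_of_reduce (W := Q) (W' := V) hch (fun y hy => ?_) hUQ inf_le_right
    open Cfsg.Agent.Lib.FusionControl in
    have h1 : cit g i y ∈ V := (Subgroup.mem_inf.1 (deg_of_iter (hQi _ _ hch' inf_le_right) y hy)).1
    rw [show i + j - 1 = (j - 1) + i by omega, Cfsg.Agent.Lib.FusionControl.cit, Function.iterate_add_apply]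
    exact Cfsg.Agent.Lib.FusionControl.cit_mem g h1 (j - 1)
  rw [not_not] at hUQ
  set ZQ := Q ⊓ Subgroup.centralizer (Q : Set G) with hZQ
  have hZQn : ZQ.Normal := by rw [hZQ]; infer_instance
  obtain ⟨W, ⟨hWn, hWZ, hWU⟩, hWmin⟩ := exists_minimal_of_wellFoundedLT
    (fun W : Subgroup G => ∃ h : W.Normal, W ≤ ZQ ∧ ¬ (∀ y, (y ∈ U ∧ ∀ a ∈ Q, ⁅y, a⁆ ∈ W) → y ∈ V))
    ⟨ZQ, hZQn, le_rfl, fun h => hVU.not_ge fun x hx =>
      h x ⟨hx, fun a ha => hQ3 (Subgroup.commutator_mem_commutator (hUP hx) ha)⟩⟩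
  have hWne : W ≠ ⊥ := by
    rintro rfl
    refine hWU fun y ⟨hyU, hy⟩ => hUQ (Subgroup.mem_inf.2 ⟨hyU, ?_⟩)
    have : y ∈ P ⊓ Subgroup.centralizer (Q : Set G) := Subgroup.mem_inf.2 ⟨hUP hyU,
      Subgroup.mem_centralizer_iff.2 fun a ha =>
        (commutatorElement_eq_one_iff_mul_comm.1 (Subgroup.mem_bot.1 (hy a ha))).symm⟩
    rw [hQ4] at this
    exact (Subgroup.mem_inf.1 this).1
  obtain ⟨W', ⟨hW'n, hW'W⟩, hW'max⟩ := exists_maximal_of_wellFoundedGT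
    (fun N : Subgroup G => N.Normal ∧ N < W) ⟨⊥, inferInstance, bot_lt_iff_ne_bot.2 hWne⟩
  have hWch : Cfsg.IsChiefFactor W W' := ⟨hW'W, hWn, hW'n, fun N hN h1 h2 => by
    rcases h2.eq_or_lt with h | h
    · exact Or.inr h
    · exact Or.inl (le_antisymm (hW'max ⟨hN, h⟩ h1) h1)⟩
  have hW'U : ∀ y, (y ∈ U ∧ ∀ a ∈ Q, ⁅y, a⁆ ∈ W') → y ∈ V := by
    by_contra h
    exact hW'W.not_ge (hWmin ⟨hW'n, hW'W.le.trans hWZ, h⟩ hW'W.le)
  let U1 := commInto U Q W
  have hU1n : U1.Normal := commInto_normal U Q W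
  obtain ⟨A, ⟨hAn, hAQ, hAV⟩, hAmin⟩ := exists_minimal_of_wellFoundedLT
    (fun A : Subgroup G => ∃ h : A.Normal, A ≤ Q ∧ ∀ y, (y ∈ U1 ∧ ∀ a ∈ A, ⁅y, a⁆ ∈ W') → y ∈ V)
    ⟨Q, hQn, le_rfl, fun y hy => hW'U y ⟨hy.1.1, hy.2⟩⟩
  have hAne : A ≠ ⊥ := by
    rintro rfl
    exact hWU fun y hy => hAV y ⟨mem_commInto.2 hy, fun a ha => by
      rw [Subgroup.mem_bot.1 ha, commutatorElement_one_right]; exact one_mem _⟩
  obtain ⟨A', ⟨hA'n, hA'A⟩, hA'max⟩ := exists_maximal_of_wellFoundedGT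
    (fun N : Subgroup G => N.Normal ∧ N < A) ⟨⊥, inferInstance, bot_lt_iff_ne_bot.2 hAne⟩
  have hAch : Cfsg.IsChiefFactor A A' := ⟨hA'A, hAn, hA'n, fun N hN h1 h2 => by
    rcases h2.eq_or_lt with h | h
    · exact Or.inr h
    · exact Or.inl (le_antisymm (hA'max ⟨hN, h⟩ h1) h1)⟩
  have hA'V : ¬ (U ⊓ commInto U1 A' W') ≤ V := fun h => hA'A.not_ge
    (hAmin ⟨hA'n, hA'A.le.trans hAQ, fun y hy => h (Subgroup.mem_inf.2 ⟨hy.1.1, mem_commInto.2 hy⟩)⟩ hA'A.le)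
  open Cfsg.Agent.Lib.FusionControl in
  refine deg_of_reduce (W := commInto U1 A' W') (W' := commInto U1 A W') hch (fun y hy => ?_) hA'V
    (fun y hy => hAV y (mem_commInto.1 (Subgroup.mem_inf.1 hy).2))
  obtain ⟨-, hy2⟩ := Subgroup.mem_inf.1 hy
  refine mem_commInto.2 ⟨Cfsg.Agent.Lib.FusionControl.cit_mem g hy2.1 _, fun a ha => ?_⟩
  -- pass to the quotient by `W'`
  set π := QuotientGroup.mk' W' with hπ
  have hone : ∀ x : G, π x = 1 ↔ x ∈ W' := fun x => QuotientGroup.eq_one_iff x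
  have hWc := (Cfsg.Agent.Lib.FusionControl.chief_facts hP hWch (hWZ.trans (inf_le_left.trans hQP)))
  have hMn : (W.map π).Normal := hWn.map π (QuotientGroup.mk'_surjective W')
  have hAn' : (A.map π).Normal := hAn.map π (QuotientGroup.mk'_surjective W')
  have hU2n : ((commInto U1 A' W').map π).Normal :=
    (commInto_normal U1 A' W').map π (QuotientGroup.mk'_surjective W')
  have hcomm : ∀ x ∈ W, ∀ z ∈ P, Commute (π x) (π z) := fun x hx z hz =>
    commutatorElement_eq_one_iff_mul_comm.1 (by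
      rw [← map_commutatorElement, hone]; exact hWc.1 (Subgroup.commutator_mem_commutator hx hz))
  refine (hone _).1 ?_
  rw [map_commutatorElement, map_cit]
  refine pairing_deg (M := W.map π) (A' := A.map π) (U' := (commInto U1 A' W').map π) ?_ ?_ ?_ ?_ (π g) _ (π y)
    ⟨y, hy2, rfl⟩ ?_ (π a) ⟨a, ha, rfl⟩
  · rintro _ ⟨x, hx, rfl⟩ _ ⟨z, hz, rfl⟩
    exact hcomm x hx z (hQP (hWZ hz).1)
  · rintro _ ⟨x, hx, rfl⟩ _ ⟨z, hz, rfl⟩
    exact hcomm x hx z (hUP hz.1.1)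
  · rintro _ ⟨x, hx, rfl⟩ _ ⟨z, hz, rfl⟩
    exact hcomm x hx z (hQP (hAQ hz))
  · rintro _ ⟨x, hx, rfl⟩ _ ⟨z, hz, rfl⟩
    exact ⟨⁅x, z⁆, hx.1.2 z (hAQ hz), map_commutatorElement π x z⟩
  · rintro k l hkl _ ⟨b, hb, rfl⟩
    rw [← map_inv]
    show (fun z => ⁅π g, z⁆)^[l] ⁅π y, (fun z => ⁅π g⁻¹, z⁆)^[k] (π b)⁆ = 1
    rw [← map_cit π g⁻¹ b k, ← map_commutatorElement, ← map_cit π g _ l, hone]
    by_cases hk : i ≤ k
    · have h1 : Cfsg.Agent.Lib.FusionControl.cit g⁻¹ i b ∈ A' := by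
        refine Cfsg.Agent.Lib.FusionControl.deg_of_iter ?_ b hb
        rw [Subgroup.zpowers_inv]
        exact hQi A A' hAch hAQ
      have h2 : Cfsg.Agent.Lib.FusionControl.cit g⁻¹ k b ∈ A' := by
        rw [show k = (k - i) + i by omega, Cfsg.Agent.Lib.FusionControl.cit, Function.iterate_add_apply]
        exact Cfsg.Agent.Lib.FusionControl.cit_mem g⁻¹ h1 (k - i)
      exact Cfsg.Agent.Lib.FusionControl.cit_mem g (hy2.2 _ h2) l
    · have h1 : ⁅y, Cfsg.Agent.Lib.FusionControl.cit g⁻¹ k b⁆ ∈ W :=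
        hy2.1.2 _ (hAQ (Cfsg.Agent.Lib.FusionControl.cit_mem g⁻¹ hb k))
      have h2 : Cfsg.Agent.Lib.FusionControl.cit g j ⁅y, Cfsg.Agent.Lib.FusionControl.cit g⁻¹ k b⁆ ∈ W' :=
        Cfsg.Agent.Lib.FusionControl.deg_of_iter (hZj W W' hWch hWZ) _ h1
      rw [show l = (l - j) + j by omega, Cfsg.Agent.Lib.FusionControl.cit, Function.iterate_add_apply]
      exact Cfsg.Agent.Lib.FusionControl.cit_mem g h2 (l - j)

end Cfsg.Agent.S2003
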