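import Cfsg.Statements.S2004
import Cfsg.Agent.S2795
import Cfsg.Agent.Lib.FusionControl.Section

set_option autoImplicit false
open Cfsg

namespace Cfsg.Agent.S2004

/-- Let p be an odd prime and G a finite group such that SL₂(p) is not involved in N_G(P) for any nonidentity p-subgroup P of G. Then every section of G is p-stable in the normalizer form: in each section, whenever an element of the normalizer of a p-subgroup Q acts quadratically on Q, its image in N(Q)/C(Q) lies in O_p(N(Q)/C(Q)). -/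
theorem result {G : Type*} [Group G] [Finite G] {p : ℕ} [Fact p.Prime] (hp : p ≠ 2) (h : ∀ P : Subgroup G, IsPGroup p ↥P → P ≠ ⊥ → ¬ Cfsg.Involves (Matrix.SpecialLinearGroup (Fin 2) (ZMod p)) ↥(Subgroup.normalizer ((P : Subgroup G) : Set G))) : ∀ (K R : Subgroup G) [hR : (R.subgroupOf K).Normal], Cfsg.IsNormalizerPStable p (↥K ⧸ R.subgroupOf K) := by
  open Cfsg.Agent.Lib in
  refine (Cfsg.Agent.S2795.result hp).mp ?_
  rintro ⟨K, R, hR, ⟨e⟩⟩
  let ε : (↥K ⧸ R.subgroupOf K) ≃* ↥(Cfsg.qdOver (ZMod p)) := e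
  let f : ↥K →* Matrix.SpecialLinearGroup (Fin 2) (ZMod p) :=
    (Cfsg.Agent.Lib.LocalEven.Qd.proj.comp ε.toMonoidHom).comp (QuotientGroup.mk' (R.subgroupOf K))
  have hf : Function.Surjective f :=
    (Cfsg.Agent.Lib.LocalEven.Qd.proj_surjective.comp ε.surjective).comp (QuotientGroup.mk'_surjective _)
  obtain ⟨P⟩ : Nonempty (Sylow p ↥f.ker) := inferInstance
  set P' := (P : Subgroup ↥f.ker).map f.ker.subtype with hP'
  set P'' := P'.map K.subtype with hP''
  have hp1 : p ∣ Nat.card ↥f.ker := by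
    let g : ↥f.ker →* ↥(Cfsg.Agent.Lib.LocalEven.Qd.proj (F := ZMod p)).ker :=
      ((ε.toMonoidHom.comp (QuotientGroup.mk' (R.subgroupOf K))).comp f.ker.subtype).codRestrict _ fun x => x.2
    have hg : Function.Surjective g := fun y => by
      obtain ⟨k, hk⟩ := ((ε.surjective.comp (QuotientGroup.mk'_surjective (R.subgroupOf K))) y.1)
      exact ⟨⟨k, by show Cfsg.Agent.Lib.LocalEven.Qd.proj _ = 1; exact (congrArg _ hk).trans y.2⟩, Subtype.ext hk⟩
    refine dvd_trans ?_ (Subgroup.card_dvd_of_surjective g hg)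
    rw [Cfsg.Agent.Lib.LocalEven.Qd.card_ker, Nat.card_zmod]
    exact dvd_pow_self p two_ne_zero
  have hPne : (P : Subgroup ↥f.ker) ≠ ⊥ := fun h => P.not_dvd_index (by rw [h, Subgroup.index_bot]; exact hp1)
  refine h P'' ((P.2.map _).map _) ?_ ?_
  · intro hb
    rw [hP'', hP', Subgroup.map_eq_bot_iff_of_injective _ K.subtype_injective,
      Subgroup.map_eq_bot_iff_of_injective _ f.ker.subtype_injective] at hb
    exact hPne hb
  · set N := Subgroup.normalizer (P'' : Set G)
    let F : ↥((Subgroup.normalizer (P' : Set ↥K)).map K.subtype) →* Matrix.SpecialLinearGroup (Fin 2) (ZMod p) :=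
      (f.comp (Subgroup.normalizer (P' : Set ↥K)).subtype).comp
        ((Subgroup.normalizer (P' : Set ↥K)).equivMapOfInjective K.subtype K.subtype_injective).symm.toMonoidHom
    have hle : (Subgroup.normalizer (P' : Set ↥K)).map K.subtype ≤ N := Subgroup.le_normalizer_map _
    refine Cfsg.Agent.Lib.PLocal.involves_of_surjective
      (K := ((Subgroup.normalizer (P' : Set ↥K)).map K.subtype).subgroupOf N)
      (F.comp (Subgroup.subgroupOfEquivOfLe hle).toMonoidHom) ?_
    intro A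
    obtain ⟨k, rfl⟩ := hf A
    have hk : k ∈ ((Subgroup.normalizer (P' : Set ↥K) ⊔ f.ker : Subgroup ↥K) : Set ↥K) := by
      rw [hP', Sylow.normalizer_sup_eq_top P]; trivial
    rw [Subgroup.mul_normal] at hk
    obtain ⟨n, hn, m, hm, rfl⟩ := hk
    refine ⟨⟨⟨(n : G), hle ⟨n, hn, rfl⟩⟩, Subgroup.mem_subgroupOf.2 ⟨n, hn, rfl⟩⟩, ?_⟩
    set e0 := (Subgroup.normalizer (P' : Set ↥K)).equivMapOfInjective K.subtype K.subtype_injective
    show f ((e0.symm ⟨(n : G), _⟩ : ↥(Subgroup.normalizer (P' : Set ↥K))) : ↥K) = f (n * m)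
    rw [show e0.symm ⟨(n : G), ⟨n, hn, rfl⟩⟩ = ⟨n, hn⟩ from e0.symm_apply_eq.2 (Subtype.ext rfl)]
    rw [map_mul, show f m = 1 from hm, mul_one]
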