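import Cfsg.Statements.S2007
import Cfsg.Agent.Lib.FusionControl.Basic
import Cfsg.Agent.Lib.Transfer.Basic
import Cfsg.Agent.Lib.Transfer.Frobenius

set_option autoImplicit false
open Cfsg

namespace Cfsg.Agent.S2007

/-- Let p be a prime, G a finite group with Sylow p-subgroup S, and T a normal subgroup of S containing C_S(T). If N_G(T)/C_G(T) is a p-group (every element of N_G(T) of order prime to p centralizes T), then N_G(T) has a normal p-complement. -/
theorem result {G : Type*} [Group G] [Finite G] {p : ℕ} [Fact p.Prime] (S : Sylow p G) (T : Subgroup G) (hTS : T ≤ (S : Subgroup G)) (hTn : (S : Subgroup G) ≤ Subgroup.normalizer ((T : Subgroup G) : Set G)) (hC : (S : Subgroup G) ⊓ Subgroup.centralizer ((T : Subgroup G) : Set G) ≤ T) (hN : ∀ g ∈ Subgroup.normalizer ((T : Subgroup G) : Set G), (orderOf g).Coprime p → g ∈ Subgroup.centralizer ((T : Subgroup G) : Set G)) : Cfsg.HasNormalPComplement p ↥(Subgroup.normalizer ((T : Subgroup G) : Set G)) := by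
  set N := Subgroup.normalizer ((T : Subgroup G) : Set G) with hNdef
  set C := Subgroup.centralizer ((T : Subgroup G) : Set G) with hCdef
  let C' : Subgroup N := C.subgroupOf N
  have hCn : C'.Normal := inferInstanceAs ((Subgroup.centralizer (T : Set G)).subgroupOf (Subgroup.normalizer (T : Set G))).Normal
  have hSi : ¬ p ∣ (S : Subgroup G).relIndex N :=
    fun h => S.not_dvd_index (h.trans (Subgroup.relIndex_dvd_index_of_le hTn))
  obtain ⟨P1⟩ : Nonempty (Sylow p C') := inferInstance
  have hP1 : Subgroup.normalizer ((P1 : Subgroup C') : Set C') ≤ Subgroup.centralizer ((P1 : Subgroup C') : Set C') := by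
    let Q : Subgroup G := ((P1 : Subgroup C').map C'.subtype).map N.subtype
    have hQN : Q ≤ N := Subgroup.map_subtype_le _
    obtain ⟨k, hk, hkS⟩ := Cfsg.Agent.Lib.FusionControl.exists_cj_le_of_not_dvd hTn S.2 hSi hQN ((P1.2.map _).map _)
    intro u _
    rw [Subgroup.mem_centralizer_iff]
    intro v hv
    apply Subtype.ext; apply Subtype.ext
    show ((v : N) : G) * ((u : N) : G) = ((u : N) : G) * ((v : N) : G)
    have hk' : k ∈ N := hk
    have hc : ∀ w : C', k * ((w : N) : G) * k⁻¹ ∈ C := fun w =>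
      Subgroup.mem_subgroupOf.1 (hCn.conj_mem (w : N) w.2 ⟨k, hk'⟩)
    have hvS : k * ((v : N) : G) * k⁻¹ ∈ (S : Subgroup G) :=
      hkS (Cfsg.Agent.Lib.FusionControl.conj_mem_cj ⟨(v : N), ⟨v, hv, rfl⟩, rfl⟩)
    have hvT := hC ⟨hvS, hc v⟩
    have := Subgroup.mem_centralizer_iff.1 (hc u) _ hvT
    calc ((v : N) : G) * ((u : N) : G) = k⁻¹ * ((k * ((v : N) : G) * k⁻¹) * (k * ((u : N) : G) * k⁻¹)) * k := by group
      _ = k⁻¹ * ((k * ((u : N) : G) * k⁻¹) * (k * ((v : N) : G) * k⁻¹)) * k := by rw [this]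
      _ = _ := by group
  have hNPC := Cfsg.Agent.Lib.Transfer.hasNormalPComplement_of_normalizer_le_centralizer P1 hP1
  rw [Cfsg.Agent.Lib.Transfer.hasNormalPComplement_iff_coprime] at hNPC ⊢
  have hle : Cfsg.pResidual p N ≤ (Cfsg.pResidual p C').map C'.subtype := by
    show Subgroup.closure _ ≤ _
    rw [Subgroup.closure_le]
    intro g hg
    have hgC : g ∈ C' := Subgroup.mem_subgroupOf.2 (hN g g.2 (by rw [Subgroup.orderOf_coe]; exact hg))
    refine ⟨⟨g, hgC⟩, Cfsg.Agent.Lib.Transfer.mem_pResidual_of_coprime ?_, rfl⟩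
    rw [← Subgroup.orderOf_coe]
    exact hg
  exact Nat.Coprime.coprime_dvd_left ((Subgroup.card_dvd_of_le hle).trans
    (by rw [Subgroup.card_map_of_injective C'.subtype_injective])) hNPC

end Cfsg.Agent.S2007
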