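import Cfsg.Statements.S2008
-- import your own Cfsg.Agent.* helpers here

set_option autoImplicit false
open Cfsg

namespace Cfsg.Agent.S2008

/-- Let H be a finite group and z an involution such that every proper normal subgroup of H meets the centralizer of z trivially, and suppose z lies in a Klein four-subgroup E of H all three of whose involutions are conjugate to z in H. Then H has no non-trivial abelian normal subgroup. -/
theorem result {H : Type*} [Group H] [Finite H] (z : H) (hz : orderOf z = 2) (hN : ∀ N : Subgroup H, N.Normal → N ≠ ⊤ → N ⊓ Subgroup.centralizer ({z} : Set H) = ⊥) (E : Subgroup H) (hE : IsKleinFour ↥E) (hzE : z ∈ E) (hc : ∀ e ∈ E, e ≠ 1 → IsConj z e) (N : Subgroup H) [N.Normal] (hab : IsMulCommutative ↥N) : N = ⊥ := by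
  by_contra hne
  haveI := hab
  have hcom : ∀ a ∈ N, ∀ b ∈ N, a * b = b * a := fun a ha b hb => congrArg Subtype.val (mul_comm' (⟨a, ha⟩ : N) ⟨b, hb⟩)
  have h2 : z * z = 1 := by rw [← sq, ← hz]; exact pow_orderOf_eq_one z
  obtain ⟨e, heE, he1, hez⟩ : ∃ e ∈ E, e ≠ 1 ∧ e ≠ z := by
    by_contra hh
    push Not at hh
    have hsub : (E : Set H) ⊆ {1, z} := by
      intro x hx
      by_cases h : x = 1
      · left; exact h
      · right; exact hh x hx h
    have h4 : Nat.card E = 4 := IsKleinFour.card_four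
    have := Set.ncard_le_ncard hsub (Set.toFinite _)
    rw [← Nat.card_coe_set_eq, SetLike.coe_sort_coe, h4] at this
    have h' := Set.ncard_insert_le (1:H) ({z} : Set H)
    rw [Set.ncard_singleton] at h'
    omega
  have hN1 : N ≠ ⊤ := by
    intro h
    obtain ⟨c, hc'⟩ := isConj_iff.1 (hc e heE he1)
    apply hez
    rw [← hc', hcom c (h ▸ Subgroup.mem_top _) z (h ▸ Subgroup.mem_top _)]
    group
  have hconjN : ∀ n ∈ N, ∀ c : H, c * n * c⁻¹ ∈ N := fun n hn c => Subgroup.Normal.conj_mem inferInstance n hn c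
  have key : ∀ n ∈ N, ∀ w : H, (∃ c : H, c * z * c⁻¹ = w) → w * n * w⁻¹ = n⁻¹ := by
    rintro n hn w ⟨c, rfl⟩
    have hm : c⁻¹ * n * c ∈ N := by simpa using hconjN n hn c⁻¹
    generalize hmdef : c⁻¹ * n * c = m at hm
    have hzm : z * m * z⁻¹ ∈ N := hconjN m hm z
    have hi : z⁻¹ = z := inv_eq_of_mul_eq_one_left h2
    have hmem : z * m * z⁻¹ * m ∈ N ⊓ Subgroup.centralizer ({z} : Set H) := by
      refine ⟨mul_mem hzm hm, ?_⟩
      show z * m * z⁻¹ * m ∈ Subgroup.centralizer ({z} : Set H)
      rw [Subgroup.mem_centralizer_singleton_iff]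
      have := hcom _ hzm _ hm
      rw [hi] at this ⊢
      calc z * m * z * m * z = z * (m * (z * m * z)) := by simp only [mul_assoc]
        _ = z * (z * m * z * m) := by rw [this]
        _ = _ := rfl
    rw [hN N inferInstance hN1, Subgroup.mem_bot] at hmem
    have hn' : n = c * m * c⁻¹ := by rw [← hmdef]; group
    rw [hn']
    have := eq_inv_of_mul_eq_one_left hmem
    calc c * z * c⁻¹ * (c * m * c⁻¹) * (c * z * c⁻¹)⁻¹ = c * (z * m * z⁻¹) * c⁻¹ := by group
      _ = c * m⁻¹ * c⁻¹ := by rw [this]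
      _ = _ := by group
  apply hne
  rw [eq_bot_iff]
  intro n hn
  rw [Subgroup.mem_bot]
  have kz := fun n hn => key n hn z ⟨1, by group⟩
  have ke := fun n hn => key n hn e (isConj_iff.1 (hc e heE he1))
  have hze1 : z * e ≠ 1 := by
    intro h
    apply hez
    calc e = z * (z * e) := by rw [← mul_assoc, h2, one_mul]
      _ = z := by rw [h, mul_one]
  have kze := key n hn (z * e) (isConj_iff.1 (hc _ (mul_mem hzE heE) hze1))
  have : (z * e) * n * (z * e)⁻¹ = n := by
    calc (z * e) * n * (z * e)⁻¹ = z * (e * n * e⁻¹) * z⁻¹ := by group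
      _ = z * n⁻¹ * z⁻¹ := by rw [ke n hn]
      _ = n⁻¹⁻¹ := kz n⁻¹ (inv_mem hn)
      _ = n := inv_inv n
  rw [this] at kze
  have hnn : n * n = 1 := eq_inv_iff_mul_eq_one.1 kze
  have hmem : n ∈ N ⊓ Subgroup.centralizer ({z} : Set H) := by
    refine ⟨hn, ?_⟩
    show n ∈ Subgroup.centralizer ({z} : Set H)
    rw [Subgroup.mem_centralizer_singleton_iff]
    have h := kz n hn
    rw [← kze] at h
    have := mul_inv_eq_iff_eq_mul.1 h
    exact this.symm
  rw [hN N inferInstance hN1] at hmem
  exact hmem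

end Cfsg.Agent.S2008
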