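import Cfsg.Statements.S2009
import Cfsg.Agent.S2008

set_option autoImplicit false
open Cfsg

namespace Cfsg.Agent.S2009

/-- Let H be a finite group and z an involution such that every proper normal subgroup of H meets the centralizer of z trivially, and suppose z lies in a Klein four-subgroup E of H all three of whose involutions are conjugate to z in H. Then H is simple. -/
theorem result {H : Type*} [Group H] [Finite H] (z : H) (hz : orderOf z = 2) (hN : ∀ N : Subgroup H, N.Normal → N ≠ ⊤ → N ⊓ Subgroup.centralizer ({z} : Set H) = ⊥) (E : Subgroup H) (hE : IsKleinFour ↥E) (hzE : z ∈ E) (hc : ∀ e ∈ E, e ≠ 1 → IsConj z e) : IsSimpleGroup H := by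
  haveI : Nontrivial H := ⟨z, 1, fun h => by rw [h, orderOf_one] at hz; norm_num at hz⟩
  have h2 : z * z = 1 := by rw [← sq, ← hz]; exact pow_orderOf_eq_one z
  refine ⟨fun N hNn => ?_⟩
  by_cases htop : N = ⊤
  · exact Or.inr htop
  left
  have hfp := hN N hNn htop
  let φ : N → N := fun n => ⟨z * n * z⁻¹, hNn.conj_mem n n.2 z⟩
  have hinv : Function.Involutive φ := by
    intro n; apply Subtype.ext
    show z * (z * (n : H) * z⁻¹) * z⁻¹ = n
    have hi : z⁻¹ = z := inv_eq_of_mul_eq_one_left h2
    rw [hi]
    simp only [mul_assoc, h2, mul_one]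
    rw [← mul_assoc, h2, one_mul]
  let ψ : N →* N :=
    { toFun := φ
      map_one' := by apply Subtype.ext; simp [φ]
      map_mul' := fun a b => by apply Subtype.ext; simp [φ, mul_assoc] }
  have hff : MonoidHom.FixedPointFree ψ := by
    intro n hn
    have h : z * (n : H) * z⁻¹ = n := congrArg Subtype.val hn
    have : (n : H) ∈ N ⊓ Subgroup.centralizer ({z} : Set H) :=
      ⟨n.2, Subgroup.mem_centralizer_singleton_iff.2 (mul_inv_eq_iff_eq_mul.1 h).symm⟩
    rw [hfp] at this
    exact Subtype.ext this
  haveI : IsMulCommutative N := ⟨⟨fun a b => MonoidHom.FixedPointFree.commute_all_of_involutive hff hinv a b⟩⟩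
  exact Cfsg.Agent.S2008.result z hz hN E hE hzE hc N inferInstance

end Cfsg.Agent.S2009
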