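import Cfsg.Statements.S2011
import Cfsg.Agent.Lib.FusionControl.Basic
import Cfsg.Agent.Lib.Transfer.Frobenius
import Cfsg.Agent.Lib.Cores.PCore
import Cfsg.Agent.Lib.Coprime.Basic

set_option autoImplicit false
open Cfsg

namespace Cfsg.Agent.S2011

/-- Let G be a finite group with Sylow p-subgroup P and Q ≤ P. Then Q is centric in the fusion system of G on P (C_P(R) ≤ R for every G-conjugate R of Q lying in P) if and only if C_G(Q) is the internal direct product of Z(Q) = Q ∩ C_G(Q) and the largest normal subgroup of C_G(Q) of order prime to p. -/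
theorem result {G : Type*} [Group G] [Finite G] (p : ℕ) [Fact p.Prime] (P : Sylow p G) (Q : Subgroup G) (hQ : Q ≤ P) : (Cfsg.groupFusionSystem (P : Subgroup G)).IsCentric Q ↔ Cfsg.IsInternalDirectProduct (Q ⊓ Subgroup.centralizer (Q : Set G)) ((Cfsg.pPrimeCore p ↥(Subgroup.centralizer (Q : Set G))).map (Subgroup.centralizer (Q : Set G)).subtype) (Subgroup.centralizer (Q : Set G)) := by
  open Cfsg.Agent.Lib.FusionControl in
  set C := Subgroup.centralizer (Q : Set G) with hC
  set Z := Q ⊓ C with hZdef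
  set O := (Cfsg.pPrimeCore p ↥C).map C.subtype with hO
  have hQp : IsPGroup p Q := P.2.to_le hQ
  have hZp : IsPGroup p Z := hQp.to_le inf_le_left
  have hcomm : ∀ a ∈ Z, ∀ b ∈ C, a * b = b * a := fun a ha b hb => Subgroup.mem_centralizer_iff.1 hb a ha.1
  constructor
  · intro hc
    have key : ∀ R : Subgroup G, R ≤ C → IsPGroup p R → R ≤ Z := by
      intro R hRC hR
      have hRQ : IsPGroup p ↥(R ⊔ Q) := hR.to_sup_of_normal_right' hQp (hRC.trans (Subgroup.centralizer_le_normalizer _))
      have hSi : ¬ p ∣ (P : Subgroup G).relIndex ⊤ := by rw [Subgroup.relIndex_top_right]; exact P.not_dvd_index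
      obtain ⟨g, -, hg⟩ := exists_cj_le_of_not_dvd le_top P.2 hSi (le_top : R ⊔ Q ≤ ⊤) hRQ
      let φ : Q →* G := (MulAut.conj g).toMonoidHom.comp Q.subtype
      have hφ : φ ∈ (Cfsg.groupFusionSystem (P : Subgroup G)).Hom Q :=
        ⟨hQ, fun x => hg (conj_mem_cj (Subgroup.mem_sup_right x.2)), g, fun x => rfl⟩
      have hconj : (Cfsg.groupFusionSystem (P : Subgroup G)).IsConj Q (cj g Q) :=
        ⟨φ, hφ, by rw [MonoidHom.range_comp, Subgroup.range_subtype]⟩
      have := hc.2 _ hconj
      intro r hr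
      refine ⟨?_, hRC hr⟩
      have hmem : g * r * g⁻¹ ∈ cj g Q := by
        refine this (Subgroup.mem_inf.2 ⟨hg (conj_mem_cj (Subgroup.mem_sup_left hr)), ?_⟩)
        rw [Subgroup.mem_centralizer_iff]
        rintro _ ⟨q, hq, rfl⟩
        show g * q * g⁻¹ * (g * r * g⁻¹) = g * r * g⁻¹ * (g * q * g⁻¹)
        calc g * q * g⁻¹ * (g * r * g⁻¹) = g * (q * r) * g⁻¹ := by group
          _ = g * (r * q) * g⁻¹ := by rw [Subgroup.mem_centralizer_iff.1 (hRC hr) q hq]
          _ = _ := by group
      have := mem_cj.1 hmem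
      show r ∈ Q
      simpa [mul_assoc] using this
    obtain ⟨R, hR⟩ : ∃ R : Sylow p C, True := ⟨default, trivial⟩
    have hRZ : ((R : Subgroup C).map C.subtype) ≤ Z := key _ (Subgroup.map_subtype_le _) (R.2.map _)
    have hRc : Subgroup.normalizer ((R : Subgroup C) : Set C) ≤ Subgroup.centralizer ((R : Subgroup C) : Set C) := by
      intro c _
      rw [Subgroup.mem_centralizer_iff]
      intro z hz
      exact Subtype.ext (hcomm _ (hRZ ⟨z, hz, rfl⟩) c c.2)
    have hnpc := Cfsg.Agent.Lib.Transfer.hasNormalPComplement_of_normalizer_le_centralizer R hRc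
    rw [Cfsg.Agent.Lib.Transfer.hasNormalPComplement_iff_coprime] at hnpc
    have hMO : Cfsg.pResidual p C ≤ Cfsg.pPrimeCore p C :=
      Cfsg.Agent.Lib.Cores.le_pPrimeCore inferInstance hnpc
    refine ⟨inf_le_right, Subgroup.map_subtype_le _, fun a ha b hb => hcomm a ha b (Subgroup.map_subtype_le _ hb), ?_,
      le_antisymm (sup_le inf_le_right (Subgroup.map_subtype_le _)) ?_⟩
    · obtain ⟨e, he⟩ := hZp.exists_card_eq
      refine Subgroup.inf_eq_bot_of_coprime ?_
      rw [he, Subgroup.card_map_of_injective C.subtype_injective]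
      exact ((Cfsg.Agent.Lib.Cores.pPrimeCore_coprime p C).pow_right e).symm
    · intro c hc
      have htop := Cfsg.Agent.Lib.Transfer.sylow_sup_pResidual R
      have : (⟨c, hc⟩ : C) ∈ (R : Subgroup C) ⊔ Cfsg.pResidual p C := htop ▸ Subgroup.mem_top _
      obtain ⟨z, hz, m, hm, he⟩ := Subgroup.mem_sup_of_normal_right.1 this
      rw [← show (z : G) * m = c from congrArg Subtype.val he]
      exact Subgroup.mul_mem_sup (hRZ ⟨z, hz, rfl⟩) ⟨m, hMO hm, rfl⟩
  · rintro ⟨-, hOC, hcom, -, hsup⟩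
    refine ⟨hQ, ?_⟩
    rintro _ ⟨φ, ⟨-, hφS, g, hg⟩, rfl⟩ r hr
    obtain ⟨hrP, hrC⟩ := Subgroup.mem_inf.1 hr
    have hrange : φ.range = cj g Q := by
      ext x
      constructor
      · rintro ⟨q, rfl⟩; rw [hg]; exact conj_mem_cj q.2
      · intro hx
        exact ⟨⟨_, mem_cj.1 hx⟩, by rw [hg]; simp [mul_assoc]⟩
    rw [hrange] at hrC ⊢
    set s := g⁻¹ * r * g with hs
    have hsC : s ∈ C := by
      rw [hC, Subgroup.mem_centralizer_iff]
      intro q hq
      have := Subgroup.mem_centralizer_iff.1 hrC _ (conj_mem_cj (g := g) hq)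
      calc q * s = g⁻¹ * (g * q * g⁻¹ * r) * g := by rw [hs]; group
        _ = g⁻¹ * (r * (g * q * g⁻¹)) * g := by rw [this]
        _ = _ := by rw [hs]; group
    obtain ⟨k, hk⟩ := P.2 ⟨r, hrP⟩
    have hsk : s ^ p ^ k = 1 := by
      have hr' : r ^ p ^ k = 1 := congrArg Subtype.val hk
      have : s = g⁻¹ * r * g⁻¹⁻¹ := by rw [hs, inv_inv]
      rw [this, conj_pow, hr']; group
    rw [mem_cj]
    show s ∈ Q
    have hON : Z ≤ Subgroup.normalizer (O : Set G) := by
      intro z hz
      rw [mem_normalizer_iff_cj]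
      ext o
      rw [mem_cj]
      constructor
      · intro h
        have h2 := hcom z hz _ h
        have h3 : z⁻¹ * o * z = o := by
          have h4 : o * z = z * (z⁻¹ * o * z) := by group
          rw [h2] at h4
          exact mul_right_cancel h4.symm
        rwa [h3] at h
      · intro h
        have h2 : z⁻¹ * o * z = o := by rw [mul_assoc, ← hcom z hz o h]; group
        rwa [h2]
    have hsC' : s ∈ O ⊔ Z := by rw [sup_comm, hsup]; exact hsC
    obtain ⟨o, ho, z, hz, e⟩ := Cfsg.Agent.Lib.Coprime.exists_mul_of_mem_sup hON hsC'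
    obtain ⟨j, hj⟩ := hZp ⟨z, hz⟩
    have hz' : z ^ p ^ j = 1 := congrArg Subtype.val hj
    have hoz : Commute o z := (hcom z hz o ho).symm
    have ho1 : o ^ p ^ (k + j) = 1 := by
      have h1 : (o * z) ^ p ^ (k + j) = 1 := by
        rw [← e, pow_add, pow_mul, hsk, one_pow]
      rwa [hoz.mul_pow, pow_add, mul_comm (p ^ k), pow_mul z, hz', one_pow, mul_one, mul_comm (p ^ j), ← pow_add] at h1
    have ho2 : orderOf o ∣ Nat.card O := by
      have := orderOf_dvd_natCard (⟨o, ho⟩ : O)
      rwa [← Subgroup.orderOf_coe] at this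
    rw [Subgroup.card_map_of_injective C.subtype_injective] at ho2
    have ho3 : o = 1 := by
      rw [← orderOf_eq_one_iff]
      exact Nat.eq_one_of_dvd_coprimes ((Cfsg.Agent.Lib.Cores.pPrimeCore_coprime p C).pow_right (k + j)) ho2 (orderOf_dvd_of_pow_eq_one ho1)
    rw [e, ho3, one_mul]
    exact hz.1

end Cfsg.Agent.S2011
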