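import Cfsg.Statements.S2012
import Cfsg.Agent.Lib.FusionControl.Tame

set_option autoImplicit false
open Cfsg

namespace Cfsg.Agent.S2012

open Cfsg.Agent.Lib.FusionControl

/-- Alperin's fusion Theorem with the factors taken to be p-elements: let P be a Sylow p-subgroup of a finite group G, A a subset of P and g an element with g⁻¹Ag ⊆ P. Then g = x_1 ⋯ x_n where, for each i, Q_i is a Sylow p-subgroup with P ∩ Q_i a tame intersection (the normalizers in P and in Q_i of P ∩ Q_i are Sylow in N_G(P ∩ Q_i)), x_i normalizes P ∩ Q_i, x_i has p-power order unless Q_i = P, A ⊆ P ∩ Q_1, and (x_1 ⋯ x_i)⁻¹ A (x_1 ⋯ x_i) lies in P ∩ Q_{i+1} for i < n. -/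
theorem result {G : Type*} [Group G] [Finite G] {p : ℕ} [Fact p.Prime] (P : Sylow p G) (A : Set G) (g : G) (hA : A ⊆ (P : Set G)) (hAg : (fun a => g⁻¹ * a * g) '' A ⊆ (P : Set G)) : ∃ (n : ℕ) (Q : Fin n → Sylow p G) (x : Fin n → G), (List.ofFn x).prod = g ∧ (∀ i : Fin n, x i ∈ Subgroup.normalizer ((((P : Subgroup G) ⊓ (Q i : Subgroup G)) : Subgroup G) : Set G) ∧ ¬ p ∣ ((P : Subgroup G) ⊓ Subgroup.normalizer ((((P : Subgroup G) ⊓ (Q i : Subgroup G)) : Subgroup G) : Set G)).relIndex (Subgroup.normalizer ((((P : Subgroup G) ⊓ (Q i : Subgroup G)) : Subgroup G) : Set G)) ∧ ¬ p ∣ ((Q i : Subgroup G) ⊓ Subgroup.normalizer ((((P : Subgroup G) ⊓ (Q i : Subgroup G)) : Subgroup G) : Set G)).relIndex (Subgroup.normalizer ((((P : Subgroup G) ⊓ (Q i : Subgroup G)) : Subgroup G) : Set G)) ∧ ((Q i : Subgroup G) = (P : Subgroup G) ∨ ∃ k : ℕ, orderOf (x i) = p ^ k)) ∧ (∀ h : 0 < n, A ⊆ (((P : Subgroup G) ⊓ (Q ⟨0, h⟩ : Subgroup G) : Subgroup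 G) : Set G)) ∧ ∀ i : Fin n, ∀ h : i.val + 1 < n, (fun a => (((List.ofFn x).take (i.val + 1)).prod)⁻¹ * a * ((List.ofFn x).take (i.val + 1)).prod) '' A ⊆ (((P : Subgroup G) ⊓ (Q ⟨i.val + 1, h⟩ : Subgroup G) : Subgroup G) : Set G) := by
  obtain ⟨L, hLg, hLm, hLp⟩ := (tchain P A g⁻¹ hA (by simpa [cs] using hAg)).exists_list
  have he : List.ofFn (fun i : Fin L.length => L[i.1].2) = L.map Prod.snd :=
    List.ext_getElem (by simp) (fun i h1 h2 => by simp)
  have hget : ∀ (i : ℕ) (hi : i < L.length),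
      cs (((L.map Prod.snd).take i).prod)⁻¹ A ⊆
        ((P : Subgroup G) ⊓ ((L[i]).1 : Subgroup G) : Subgroup G) := by
    intro i hi
    have := rpath_get hLp i (by simpa using hi)
    simpa [Function.comp_def] using this
  refine ⟨L.length, fun i => L[i.1].1, fun i => L[i.1].2, by rw [he, hLg, inv_inv], ?_, ?_, ?_⟩
  · intro i
    obtain ⟨⟨h1, h2⟩, h3, h4⟩ := hLm _ (List.getElem_mem i.2)
    exact ⟨h3, h1, h2, h4⟩
  · intro h
    simpa [cs_one] using hget 0 h
  · intro i h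
    rw [he]
    have := hget _ h
    simpa [cs] using this

end Cfsg.Agent.S2012
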