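import Cfsg.Statements.S2014
import Cfsg.Agent.Lib.FusionControl.Basic
import Cfsg.Agent.Lib.Transfer.Basic

set_option autoImplicit false
open Cfsg

namespace Cfsg.Agent.S2014

/-- Let P be a Sylow p-subgroup of a finite group G and A, C ≤ P subgroups conjugate in G, with C extremal: N_P(C) is a Sylow p-subgroup of N_G(C). Then there is g with gAg⁻¹ = C and g N_P(A) g⁻¹ ≤ N_P(C); moreover, given any h with hAh⁻¹ = C, g can be chosen so that h g⁻¹ lies in O^p(N_G(C)), the subgroup of N_G(C) generated by its elements of order prime to p. -/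
theorem result {G : Type*} [Group G] [Finite G] (p : ℕ) [Fact p.Prime] (P : Sylow p G) (A C : Subgroup G) (hA : A ≤ P) (hC : C ≤ P) (hext : ¬ p ∣ ((P : Subgroup G) ⊓ Subgroup.normalizer ((C : Subgroup G) : Set G)).relIndex (Subgroup.normalizer ((C : Subgroup G) : Set G))) (h : G) (hh : A.map (MulAut.conj h).toMonoidHom = C) : ∃ g : G, A.map (MulAut.conj g).toMonoidHom = C ∧ ((P : Subgroup G) ⊓ Subgroup.normalizer ((A : Subgroup G) : Set G)).map (MulAut.conj g).toMonoidHom ≤ (P : Subgroup G) ⊓ Subgroup.normalizer ((C : Subgroup G) : Set G) ∧ h * g⁻¹ ∈ (Cfsg.pResidual p ↥(Subgroup.normalizer ((C : Subgroup G) : Set G))).map (Subgroup.normalizer ((C : Subgroup G) : Set G)).subtype := by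
  set N := Subgroup.normalizer ((C : Subgroup G) : Set G) with hN
  let T := (P : Subgroup G) ⊓ N
  have hT : IsPGroup p T := P.2.to_le inf_le_left
  have hQN : ((P : Subgroup G) ⊓ Subgroup.normalizer (A : Set G)).map (MulAut.conj h).toMonoidHom ≤ N := by
    rw [hN, ← hh]
    exact le_trans (Subgroup.map_mono inf_le_right) (Cfsg.Agent.Lib.FusionControl.cj_normalizer h A).le
  obtain ⟨k, hk, hkT⟩ := Cfsg.Agent.Lib.FusionControl.exists_cj_le_of_not_dvd (inf_le_right : T ≤ N) hT hext hQN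
    (Cfsg.Agent.Lib.FusionControl.isPGroup_cj (P.2.to_le inf_le_left))
  let PT : Sylow p N := (hT.comap_of_injective N.subtype N.subtype_injective).toSylow hext
  have htop := Cfsg.Agent.Lib.Transfer.sylow_sup_pResidual (G := N) PT
  have hkmem : (⟨k, hk⟩ : N) ∈ (PT : Subgroup N) ⊔ Cfsg.pResidual p N := htop ▸ Subgroup.mem_top _
  obtain ⟨t, ht, r, hr, htr⟩ := Subgroup.mem_sup_of_normal_right.1 hkmem
  have hkr : (t : G) * r = k := congrArg Subtype.val htr
  rw [Cfsg.Agent.Lib.FusionControl.cj_cj] at hkT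
  refine ⟨(r : G) * h, ?_, ?_, ?_⟩
  · show Cfsg.Agent.Lib.FusionControl.cj ((r : G) * h) A = C
    rw [← Cfsg.Agent.Lib.FusionControl.cj_cj, show Cfsg.Agent.Lib.FusionControl.cj h A = C from hh]
    exact Cfsg.Agent.Lib.FusionControl.mem_normalizer_iff_cj.1 r.2
  · have htT : (t : G) ∈ T := ht
    show Cfsg.Agent.Lib.FusionControl.cj _ _ ≤ T
    rw [Cfsg.Agent.Lib.FusionControl.cj_le_iff]
    intro x hx
    have h1 := hkT (Cfsg.Agent.Lib.FusionControl.conj_mem_cj hx)
    have h2 := mul_mem (mul_mem (inv_mem htT) h1) htT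
    rw [← hkr] at h2
    convert h2 using 1
    group
  · rw [show h * ((r : G) * h)⁻¹ = (r : G)⁻¹ by group]
    exact ⟨r⁻¹, inv_mem hr, rfl⟩

end Cfsg.Agent.S2014
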