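import Cfsg.Statements.S2034
import Cfsg.Agent.Lib.Compute.SporEquiv
import Cfsg.Agent.Lib.Compute.FusionSimple
import Cfsg.Agent.Lib.Compute.MultCert
import Cfsg.Agent.Lib.Compute.M11Mult

set_option autoImplicit false
open Cfsg

namespace Cfsg.Agent.S2034
open Cfsg.Agent.Lib.Compute

/-- The Schur multiplier of the Mathieu group M₁₁ (the stabiliser of a dodecad and one of its points in the automorphism group of the length-24 binary code) is trivial; here the Schur multiplier is described through stem extensions, as in the definitions: surjective homomorphisms onto the group from a finite group, whose kernel is central in that finite group and contained in that finite group's commutator subgroup. -/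
theorem result : Cfsg.HasCyclicSchurMultiplier ↥Cfsg.Spor.M11 1 := by
  obtain ⟨e⟩ := spor_M11_equiv
  have hX8 : toPerm 24 m11X8 ∈ grp 24 cert11 := (mem_grp_of_memOk chk_cert11 (js := m11X8Wit) (by decide +kernel)).2
  have hY2 : toPerm 24 m11Y2 ∈ grp 24 cert11 := (mem_grp_of_memOk chk_cert11 (js := m11Y2Wit) (by decide +kernel)).2
  have hA3 : toPerm 24 m11A3 ∈ grp 24 cert11 := (mem_grp_of_memOk chk_cert11 (js := m11A3Wit) (by decide +kernel)).2
  have hB3 : toPerm 24 m11B3 ∈ grp 24 cert11 := (mem_grp_of_memOk chk_cert11 (js := m11B3Wit) (by decide +kernel)).2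
  have hG3 : toPerm 24 m11G3 ∈ grp 24 cert11 := (mem_grp_of_memOk chk_cert11 (js := m11G3Wit) (by decide +kernel)).2
  have hQ5 : toPerm 24 m11Q5 ∈ grp 24 cert11 := (mem_grp_of_memOk chk_cert11 (js := m11Q5Wit) (by decide +kernel)).2
  have hQ11 : toPerm 24 m11Q11 ∈ grp 24 cert11 := (mem_grp_of_memOk chk_cert11 (js := m11Q11Wit) (by decide +kernel)).2
  refine hasCyclicSchurMultiplier_one_of_primes e [2, 3, 5, 11] ?_ ?_
  · intro p hp hdvd
    rw [card_grp chk_cert11, show certOrder cert11 = 2 ^ 4 * (3 ^ 2 * (5 * 11)) by decide +kernel]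
      at hdvd
    simp only [List.mem_cons, List.not_mem_nil, or_false]
    have h5 : Nat.Prime 5 := by norm_num
    have h11 : Nat.Prime 11 := by norm_num
    rcases hp.dvd_mul.mp hdvd with h | h
    · exact Or.inl ((Nat.prime_dvd_prime_iff_eq hp Nat.prime_two).mp (hp.dvd_of_dvd_pow h))
    rcases hp.dvd_mul.mp h with h | h
    · exact Or.inr (Or.inl ((Nat.prime_dvd_prime_iff_eq hp Nat.prime_three).mp (hp.dvd_of_dvd_pow h)))
    rcases hp.dvd_mul.mp h with h | h
    · exact Or.inr (Or.inr (Or.inl ((Nat.prime_dvd_prime_iff_eq hp h5).mp h)))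
    · exact Or.inr (Or.inr (Or.inr ((Nat.prime_dvd_prime_iff_eq hp h11).mp h)))
  intro p hp Δ _ _ τ hs hc _ z hz hz' hzp
  have hcard : Nat.card (grp 24 cert11) = 7920 := by rw [card_grp chk_cert11]; decide +kernel
  simp only [List.mem_cons, List.not_mem_nil, or_false] at hp
  rcases hp with rfl | rfl | rfl | rfl
  · obtain ⟨hv, h8⟩ := valid_of_powOk (n := 24) (p := 8) (P := m11X8) (by norm_num) (by decide +kernel)
    obtain ⟨hvy, hy⟩ := valid_of_powOk (n := 24) (p := 2) (P := m11Y2) (by norm_num) (by decide +kernel)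
    refine eq_one_of_semidihedral τ hs hc hz hz' hzp (x := ⟨_, hX8⟩) (y := ⟨_, hY2⟩) ?_ ?_ ?_ ?_
    · rw [← Subgroup.orderOf_coe]
      refine orderOf_eq_prime_pow (p := 2) (n := 2) ?_ h8
      intro h
      have := (repr_pow hv.repr (2 ^ 2)) (2 : Fin 24)
      rw [h] at this
      revert this
      decide +kernel
    · exact Subtype.ext (by simpa using hy)
    · refine Subtype.ext ?_
      simp only [Subgroup.coe_mul, Subgroup.coe_inv, Subgroup.coe_pow]
      rw [mul_inv_eq_iff_eq_mul]
      exact (hvy.repr.mul hv.repr).eq ((repr_pow hv.repr 3).mul hvy.repr) (by decide +kernel)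
    · exact coprime_index_of_slp hX8 hY2 hcard (cS := m11SD16) (steps := m11SDSteps)
        (by decide +kernel) hv hvy (by decide +kernel) (by decide +kernel) (d := 495)
        (by decide +kernel) (by norm_num)
  · obtain ⟨hv, ha⟩ := valid_of_powOk (n := 24) (p := 3) (P := m11A3) (by norm_num) (by decide +kernel)
    obtain ⟨hvb, hb⟩ := valid_of_powOk (n := 24) (p := 3) (P := m11B3) (by norm_num) (by decide +kernel)
    obtain ⟨hvg, hg⟩ := valid_of_powOk (n := 24) (p := 2) (P := m11G3) (by norm_num) (by decide +kernel)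
    refine eq_one_of_abelian τ hs hc hz hz' (by decide) hzp (x := ⟨_, hA3⟩) (y := ⟨_, hB3⟩)
      (g := ⟨_, hG3⟩) ?_ ?_ ?_ ?_ ?_
    · exact Subtype.ext ((hv.repr.mul hvb.repr).eq (hvb.repr.mul hv.repr) (by decide +kernel))
    · exact Subtype.ext (by simpa using ha)
    · refine Subtype.ext ?_
      simp only [Subgroup.coe_mul, Subgroup.coe_inv]
      rw [mul_inv_eq_iff_eq_mul, eq_inv_mul_iff_mul_eq]
      exact (hv.repr.mul (hvg.repr.mul hv.repr)).eq hvg.repr (by decide +kernel)
    · refine Subtype.ext ?_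
      simp only [Subgroup.coe_mul, Subgroup.coe_inv]
      rw [mul_inv_eq_iff_eq_mul]
      exact (hvg.repr.mul hvb.repr).eq (hvb.repr.mul hvg.repr) (by decide +kernel)
    · exact coprime_index_of_slp hA3 hB3 hcard (cS := m11E9) (steps := m11ESteps)
        (by decide +kernel) hv hvb (by decide +kernel) (by decide +kernel) (d := 880)
        (by decide +kernel) (by norm_num)
  · refine eq_one_of_cyclic τ hs hc hz hz' hzp (x := ⟨_, hQ5⟩) ?_
    exact coprime_index_of_prime hQ5 hcard (q := 5) (d := 1584) (by norm_num) (by norm_num) (by decide +kernel)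
      (by decide +kernel) (by norm_num)
  · refine eq_one_of_cyclic τ hs hc hz hz' hzp (x := ⟨_, hQ11⟩) ?_
    exact coprime_index_of_prime hQ11 hcard (q := 11) (d := 720) (by norm_num) (by norm_num) (by decide +kernel)
      (by decide +kernel) (by norm_num)

end Cfsg.Agent.S2034
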