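import Cfsg.Statements.S2035
import Cfsg.Agent.Lib.Compute.CoverCert
import Cfsg.Agent.Lib.Compute.SporEquiv
import Cfsg.Agent.Lib.Compute.M12Cover
import Cfsg.Agent.Lib.Compute.M12CoverSplit

set_option autoImplicit false
open Cfsg

namespace Cfsg.Agent.S2035
open Cfsg.Agent.Lib.Compute
open scoped commutatorElement

theorem eq_one_of_ker_two {Δ : Type} [Group Δ] [Finite Δ] (hc' : chk 48 m12CovCert = true)
    (τ : Δ →* grp 48 m12CovCert)
    (hs : Function.Surjective τ) (hc : τ.ker ≤ Subgroup.center Δ) {z : Δ} (hz : z ∈ τ.ker)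
    (hz' : z ∈ commutator Δ) (hzp : z ^ 2 = 1) (hker : ∀ w ∈ τ.ker, w = 1 ∨ w = z) : z = 1 :=
  eq_one_of_twoSplit hc' τ hs hc hz hz' hzp hker (gens := m12CovSplitBase) (wit := m12CovSplitWit)
    (by decide +kernel) m12CovSplitTab (by decide +kernel) (len := 384) (steps := m12CovSplitRows)
    (pos := m12CovSplitPos) (by decide +kernel) (cS := m12CovSplitS) (by decide +kernel)
    (ssteps := m12CovSplitSteps) (by decide +kernel) (by decide +kernel) (d := 1485)
    (by decide +kernel) (by norm_num)


/-- The Schur multiplier of the Mathieu group M₁₂ (the stabiliser of a dodecad in the automorphism group of the length-24 binary code) is cyclic of order 2; here the Schur multiplier is described through stem extensions, as in the definitions: surjective homomorphisms onto the group from a finite group, whose kernel is central in that finite group and contained in that finite group's commutator subgroup. -/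
theorem result : Cfsg.HasCyclicSchurMultiplier ↥Cfsg.Spor.M12 2 := by
  obtain ⟨e⟩ := spor_M12_equiv
  haveI : Fact (Nat.Prime 2) := ⟨Nat.prime_two⟩
  have hc : chk 48 m12CovCert = true := by decide +kernel
  have hc12 : chk 24 m12Cert = true := by decide +kernel
  have hperf : Group.IsPerfect (grp 48 m12CovCert) :=
    isPerfect_of_comms hc (Cs := m12CovCommBase) (wit := m12CovCommWit) (by decide +kernel)
      (steps := m12CovCommSteps) (by decide +kernel) (by decide +kernel)
  obtain ⟨σ₀, hσ₀⟩ := exists_restrict (m := 24) (n := 48) (by norm_num) (L := m12CovCert0)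
    (rest := m12CovCert.tail) hc hc12 (by decide +kernel) (Bs := m12CovImgBase) (wit := m12CovImgWit)
    (by decide +kernel) (steps := m12CovImgSteps) (by decide +kernel) (by decide +kernel)
  let σ : grp 48 m12CovCert →* Spor.M12 := e.toMonoidHom.comp σ₀
  have hσ : Function.Surjective σ := e.surjective.comp hσ₀
  have hcard : Nat.card (grp 48 m12CovCert) = 190080 := by rw [card_grp hc]; decide +kernel
  have hk : Nat.card σ.ker = 2 := by
    have h1 := Subgroup.index_mul_card σ.ker
    have h2 : σ.ker.index = 95040 := by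
      rw [Subgroup.index_ker, MonoidHom.range_eq_top.mpr hσ,
        Nat.card_congr Subgroup.topEquiv.toEquiv, ← Nat.card_congr e.toEquiv, card_m12Cert]
    rw [h2, hcard] at h1
    omega
  refine hasCyclicSchurMultiplier_of_cover hperf ?_ σ hσ (le_center_of_card_two hk) hk
  refine hasCyclicSchurMultiplier_one_of_primes (MulEquiv.refl _) [2, 3, 5, 11] ?_ ?_
  · intro p hp hdvd
    rw [hcard, show (190080 : ℕ) = 2 ^ 7 * (3 ^ 3 * (5 * 11)) by norm_num] at hdvd
    simp only [List.mem_cons, List.not_mem_nil, or_false]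
    rcases hp.dvd_mul.mp hdvd with h | h
    · exact Or.inl ((Nat.prime_dvd_prime_iff_eq hp Nat.prime_two).mp (hp.dvd_of_dvd_pow h))
    rcases hp.dvd_mul.mp h with h | h
    · exact Or.inr (Or.inl ((Nat.prime_dvd_prime_iff_eq hp Nat.prime_three).mp (hp.dvd_of_dvd_pow h)))
    rcases hp.dvd_mul.mp h with h | h
    · exact Or.inr (Or.inr (Or.inl ((Nat.prime_dvd_prime_iff_eq hp (by norm_num)).mp h)))
    · exact Or.inr (Or.inr (Or.inr ((Nat.prime_dvd_prime_iff_eq hp (by norm_num)).mp h)))
  intro p hp Δ _ _ τ hs hc' hd z hz hz' hzp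
  simp only [List.mem_cons, List.not_mem_nil, or_false] at hp
  rcases hp with rfl | rfl | rfl | rfl
  · refine eq_one_of_kernel_prime τ hs hc' hd (fun Δ' _ _ τ' hs' hc'' w hw hw' hwp hgen =>
      eq_one_of_ker_two hc τ' hs' hc'' hw hw' hwp fun u hu => ?_) hz hzp
    obtain ⟨i, rfl⟩ := hgen u hu
    rcases Nat.even_or_odd' i with ⟨j, rfl | rfl⟩
    · left; rw [pow_mul, hwp, one_pow]
    · right; rw [pow_succ, pow_mul, hwp, one_pow, one_mul]
  · have hA3 : toPerm 48 m12CovA3 ∈ grp 48 m12CovCert := (mem_grp_of_memOk hc (js := m12CovA3Wit) (by decide +kernel)).2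
    have hB3 : toPerm 48 m12CovB3 ∈ grp 48 m12CovCert := (mem_grp_of_memOk hc (js := m12CovB3Wit) (by decide +kernel)).2
    have hG3 : toPerm 48 m12CovG3 ∈ grp 48 m12CovCert := (mem_grp_of_memOk hc (js := m12CovG3Wit) (by decide +kernel)).2
    obtain ⟨hv, ha⟩ := valid_of_powOk (n := 48) (p := 3) (P := m12CovA3) (by norm_num) (by decide +kernel)
    obtain ⟨hvb, hb⟩ := valid_of_powOk (n := 48) (p := 3) (P := m12CovB3) (by norm_num) (by decide +kernel)
    obtain ⟨hvg, hg⟩ := valid_of_powOk (n := 48) (p := 2) (P := m12CovG3) (by norm_num) (by decide +kernel)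
    have hinv : ∀ {Q : ℕ}, Valid 48 Q → toPerm 48 Q ^ 3 = 1 →
        (toPerm 48 Q)⁻¹ = toPerm 48 Q * toPerm 48 Q := fun _ h => by
      rw [inv_eq_iff_mul_eq_one, ← mul_assoc, ← pow_three']; exact h
    refine eq_one_of_extraspecial τ hs hc' hz hz' hzp (x := ⟨_, hA3⟩) (y := ⟨_, hB3⟩)
      (g := ⟨_, hG3⟩) ?_ ?_ ?_ ?_ ?_ ?_ ?_ ?_
    · exact Subtype.ext (by simpa using ha)
    · exact Subtype.ext (by simpa using hb)
    · refine Subtype.ext ?_
      simp only [Subgroup.coe_mul, Subgroup.coe_inv, commutatorElement_def, hinv hv ha, hinv hvb hb]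
      have hr := ((hv.repr.mul hvb.repr).mul (hv.repr.mul hv.repr)).mul (hvb.repr.mul hvb.repr)
      exact (hv.repr.mul hr).eq (hr.mul hv.repr) (by decide +kernel)
    · refine Subtype.ext ?_
      simp only [Subgroup.coe_mul, Subgroup.coe_inv, commutatorElement_def, hinv hv ha, hinv hvb hb]
      have hr := ((hv.repr.mul hvb.repr).mul (hv.repr.mul hv.repr)).mul (hvb.repr.mul hvb.repr)
      exact (hvb.repr.mul hr).eq (hr.mul hvb.repr) (by decide +kernel)
    · intro h
      have h2 := congrArg Subtype.val h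
      simp only [Subgroup.coe_mul, Subgroup.coe_inv, Subgroup.coe_one, commutatorElement_def, hinv hv ha,
        hinv hvb hb] at h2
      have hr := ((hv.repr.mul hvb.repr).mul (hv.repr.mul hv.repr)).mul (hvb.repr.mul hvb.repr)
      obtain ⟨i, hi⟩ : ∃ i : Fin 48, (app m12CovA3 (app m12CovB3 (app m12CovA3 (app m12CovA3
          (app m12CovB3 (app m12CovB3 i)))))) ≠ i := by decide +kernel
      apply hi
      have h3 := hr i
      rw [h2] at h3
      exact h3.symm
    · refine Subtype.ext ?_
      simp only [Subgroup.coe_mul, Subgroup.coe_inv]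
      rw [mul_inv_eq_iff_eq_mul, eq_inv_mul_iff_mul_eq]
      exact (hv.repr.mul (hvg.repr.mul hv.repr)).eq hvg.repr (by decide +kernel)
    · refine Subtype.ext ?_
      simp only [Subgroup.coe_mul, Subgroup.coe_inv]
      rw [mul_inv_eq_iff_eq_mul, eq_inv_mul_iff_mul_eq]
      exact (hvb.repr.mul (hvg.repr.mul hvb.repr)).eq hvg.repr (by decide +kernel)
    · exact coprime_index_of_slp hA3 hB3 hcard (cS := m12CovECert) (steps := m12CovESteps)
        (by decide +kernel) hv hvb (by decide +kernel) (by decide +kernel) (d := 7040)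
        (by decide +kernel) (by norm_num)
  · have hQ5 : toPerm 48 m12CovQ5 ∈ grp 48 m12CovCert := (mem_grp_of_memOk hc (js := m12CovQ5Wit) (by decide +kernel)).2
    refine eq_one_of_cyclic τ hs hc' hz hz' hzp (x := ⟨_, hQ5⟩) ?_
    exact coprime_index_of_prime hQ5 hcard (q := 5) (d := 38016) (by norm_num) (by norm_num) (by decide +kernel)
      (by decide +kernel) (by norm_num)
  · have hQ11 : toPerm 48 m12CovQ11 ∈ grp 48 m12CovCert := (mem_grp_of_memOk hc (js := m12CovQ11Wit) (by decide +kernel)).2
    refine eq_one_of_cyclic τ hs hc' hz hz' hzp (x := ⟨_, hQ11⟩) ?_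
    exact coprime_index_of_prime hQ11 hcard (q := 11) (d := 17280) (by norm_num) (by norm_num) (by decide +kernel)
      (by decide +kernel) (by norm_num)

end Cfsg.Agent.S2035
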