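import Cfsg.Statements.S2038
import Cfsg.Agent.Lib.Compute.MultReduce
import Cfsg.Agent.Lib.Compute.MultCert
import Cfsg.Agent.Lib.Compute.M24
import Cfsg.Agent.Lib.Compute.M24Action
import Cfsg.Agent.Lib.Compute.M24Mult
import Cfsg.Agent.Lib.Compute.M24Split

set_option autoImplicit false
open Cfsg

namespace Cfsg.Agent.S2038
open Cfsg.Agent.Lib.Compute
open scoped commutatorElement

theorem eq_one_of_ker_two {Δ : Type} [Group Δ] [Finite Δ] (τ : Δ →* grp 24 m24Cert)
    (hs : Function.Surjective τ) (hc : τ.ker ≤ Subgroup.center Δ) {z : Δ} (hz : z ∈ τ.ker)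
    (hz' : z ∈ commutator Δ) (hzp : z ^ 2 = 1) (hker : ∀ w ∈ τ.ker, w = 1 ∨ w = z) : z = 1 :=
  eq_one_of_twoSplit m24Cert_ok τ hs hc hz hz' hzp hker (gens := m24SplitBase) (wit := m24SplitWit)
    (by decide +kernel) m24SplitTab (by decide +kernel) (len := 4096) (steps := m24SplitRows)
    (pos := m24SplitPos) (by decide +kernel) (cS := m24SplitS) (by decide +kernel) (ssteps := m24SplitSteps)
    (by decide +kernel) (by decide +kernel) (d := 239085) (by decide +kernel) (by norm_num)


/-- The Schur multiplier of the Mathieu group M₂₄ (the automorphism group of the length-24 binary code) is trivial; here the Schur multiplier is described through stem extensions, as in the definitions: surjective homomorphisms onto the group from a finite group, whose kernel is central in that finite group and contained in that finite group's commutator subgroup. -/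
theorem result : Cfsg.HasCyclicSchurMultiplier ↥Cfsg.M24 1 := by
  have e := equivM24
  have hA3 : toPerm 24 m24A3 ∈ grp 24 m24Cert := (mem_grp_of_memOk m24Cert_ok (js := m24A3Wit) (by decide +kernel)).2
  have hB3 : toPerm 24 m24B3 ∈ grp 24 m24Cert := (mem_grp_of_memOk m24Cert_ok (js := m24B3Wit) (by decide +kernel)).2
  have hG3 : toPerm 24 m24G3 ∈ grp 24 m24Cert := (mem_grp_of_memOk m24Cert_ok (js := m24G3Wit) (by decide +kernel)).2
  have hQ5 : toPerm 24 m24Q5 ∈ grp 24 m24Cert := (mem_grp_of_memOk m24Cert_ok (js := m24Q5Wit) (by decide +kernel)).2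
  have hQ7 : toPerm 24 m24Q7 ∈ grp 24 m24Cert := (mem_grp_of_memOk m24Cert_ok (js := m24Q7Wit) (by decide +kernel)).2
  have hQ11 : toPerm 24 m24Q11 ∈ grp 24 m24Cert := (mem_grp_of_memOk m24Cert_ok (js := m24Q11Wit) (by decide +kernel)).2
  have hQ23 : toPerm 24 m24Q23 ∈ grp 24 m24Cert := (mem_grp_of_memOk m24Cert_ok (js := m24Q23Wit) (by decide +kernel)).2
  have hcard : Nat.card (grp 24 m24Cert) = 244823040 := by rw [card_grp m24Cert_ok]; decide +kernel
  refine hasCyclicSchurMultiplier_one_of_primes e [2, 3, 5, 7, 11, 23] ?_ ?_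
  · intro p hp hdvd
    rw [hcard, show 244823040 = 2 ^ 10 * (3 ^ 3 * (5 * (7 * (11 * 23)))) by norm_num] at hdvd
    simp only [List.mem_cons, List.not_mem_nil, or_false]
    have step : ∀ q : ℕ, q.Prime → ∀ k r, p ∣ q ^ k * r → p = q ∨ p ∣ r := fun q hq k r h => by
      rcases hp.dvd_mul.mp h with h | h
      · exact Or.inl ((Nat.prime_dvd_prime_iff_eq hp hq).mp (hp.dvd_of_dvd_pow h))
      · exact Or.inr h
    rcases step 2 (by norm_num) _ _ hdvd with h | h
    · exact Or.inl h
    rcases step 3 (by norm_num) _ _ h with h | h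
    · exact Or.inr (Or.inl h)
    rcases step 5 (by norm_num) 1 (7 * (11 * 23)) (by simpa using h) with h | h
    · exact Or.inr (Or.inr (Or.inl h))
    rcases step 7 (by norm_num) 1 (11 * 23) (by simpa using h) with h | h
    · exact Or.inr (Or.inr (Or.inr (Or.inl h)))
    rcases step 11 (by norm_num) 1 23 (by simpa using h) with h | h
    · exact Or.inr (Or.inr (Or.inr (Or.inr (Or.inl h))))
    · exact Or.inr (Or.inr (Or.inr (Or.inr (Or.inr
        ((Nat.prime_dvd_prime_iff_eq hp (by norm_num)).mp h)))))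
  intro p hp Δ _ _ τ hs hc hd z hz hz' hzp
  simp only [List.mem_cons, List.not_mem_nil, or_false] at hp
  rcases hp with rfl | rfl | rfl | rfl | rfl | rfl
  · haveI : Fact (Nat.Prime 2) := ⟨Nat.prime_two⟩
    refine eq_one_of_kernel_prime τ hs hc hd (fun Δ' _ _ τ' hs' hc' w hw hw' hwp hgen =>
      eq_one_of_ker_two τ' hs' hc' hw hw' hwp fun u hu => ?_) hz hzp
    obtain ⟨i, rfl⟩ := hgen u hu
    rcases Nat.even_or_odd' i with ⟨j, rfl | rfl⟩
    · left; rw [pow_mul, hwp, one_pow]
    · right; rw [pow_succ, pow_mul, hwp, one_pow, one_mul]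
  · obtain ⟨hv, ha⟩ := valid_of_powOk (n := 24) (p := 3) (P := m24A3) (by norm_num) (by decide +kernel)
    obtain ⟨hvb, hb⟩ := valid_of_powOk (n := 24) (p := 3) (P := m24B3) (by norm_num) (by decide +kernel)
    obtain ⟨hvg, hg⟩ := valid_of_powOk (n := 24) (p := 2) (P := m24G3) (by norm_num) (by decide +kernel)
    have hinv : ∀ {Q : ℕ}, Valid 24 Q → toPerm 24 Q ^ 3 = 1 →
        (toPerm 24 Q)⁻¹ = toPerm 24 Q * toPerm 24 Q := fun _ h => by
      rw [inv_eq_iff_mul_eq_one, ← mul_assoc, ← pow_three']; exact h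
    refine eq_one_of_extraspecial τ hs hc hz hz' hzp (x := ⟨_, hA3⟩) (y := ⟨_, hB3⟩)
      (g := ⟨_, hG3⟩) ?_ ?_ ?_ ?_ ?_ ?_ ?_ ?_
    · exact Subtype.ext (by simpa using ha)
    · exact Subtype.ext (by simpa using hb)
    · refine Subtype.ext ?_
      simp only [Subgroup.coe_mul, Subgroup.coe_inv, commutatorElement_def, hinv hv ha, hinv hvb hb]
      have hr := ((hv.repr.mul hvb.repr).mul (hv.repr.mul hv.repr)).mul (hvb.repr.mul hvb.repr)
      exact (hv.repr.mul hr).eq (hr.mul hv.repr) (by decide +kernel)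
    · refine Subtype.ext ?_
      simp only [Subgroup.coe_mul, Subgroup.coe_inv, commutatorElement_def, hinv hv ha, hinv hvb hb]
      have hr := ((hv.repr.mul hvb.repr).mul (hv.repr.mul hv.repr)).mul (hvb.repr.mul hvb.repr)
      exact (hvb.repr.mul hr).eq (hr.mul hvb.repr) (by decide +kernel)
    · intro h
      have h2 := congrArg Subtype.val h
      simp only [Subgroup.coe_mul, Subgroup.coe_inv, Subgroup.coe_one, commutatorElement_def, hinv hv ha,
        hinv hvb hb] at h2
      have hr := ((hv.repr.mul hvb.repr).mul (hv.repr.mul hv.repr)).mul (hvb.repr.mul hvb.repr)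
      obtain ⟨i, hi⟩ : ∃ i : Fin 24, (app m24A3 (app m24B3 (app m24A3 (app m24A3
          (app m24B3 (app m24B3 i)))))) ≠ i := by decide +kernel
      apply hi
      have h3 := hr i
      rw [h2] at h3
      exact h3.symm
    · refine Subtype.ext ?_
      simp only [Subgroup.coe_mul, Subgroup.coe_inv]
      rw [mul_inv_eq_iff_eq_mul, eq_inv_mul_iff_mul_eq]
      exact (hv.repr.mul (hvg.repr.mul hv.repr)).eq hvg.repr (by decide +kernel)
    · refine Subtype.ext ?_
      simp only [Subgroup.coe_mul, Subgroup.coe_inv]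
      rw [mul_inv_eq_iff_eq_mul, eq_inv_mul_iff_mul_eq]
      exact (hvb.repr.mul (hvg.repr.mul hvb.repr)).eq hvg.repr (by decide +kernel)
    · exact coprime_index_of_slp hA3 hB3 hcard (cS := m24ECert) (steps := m24ESteps)
        (by decide +kernel) hv hvb (by decide +kernel) (by decide +kernel) (d := 9067520)
        (by decide +kernel) (by norm_num)
  · refine eq_one_of_cyclic τ hs hc hz hz' hzp (x := ⟨_, hQ5⟩) ?_
    exact coprime_index_of_prime hQ5 hcard (q := 5) (d := 48964608) (by norm_num) (by norm_num) (by decide +kernel)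
      (by decide +kernel) (by norm_num)
  · refine eq_one_of_cyclic τ hs hc hz hz' hzp (x := ⟨_, hQ7⟩) ?_
    exact coprime_index_of_prime hQ7 hcard (q := 7) (d := 34974720) (by norm_num) (by norm_num) (by decide +kernel)
      (by decide +kernel) (by norm_num)
  · refine eq_one_of_cyclic τ hs hc hz hz' hzp (x := ⟨_, hQ11⟩) ?_
    exact coprime_index_of_prime hQ11 hcard (q := 11) (d := 22256640) (by norm_num) (by norm_num) (by decide +kernel)
      (by decide +kernel) (by norm_num)
  · refine eq_one_of_cyclic τ hs hc hz hz' hzp (x := ⟨_, hQ23⟩) ?_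
    exact coprime_index_of_prime hQ23 hcard (q := 23) (d := 10644480) (by norm_num) (by norm_num) (by decide +kernel)
      (by decide +kernel) (by norm_num)

end Cfsg.Agent.S2038
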