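import Cfsg.Statements.S2039
import Cfsg.Agent.S0457
import Cfsg.Agent.Lib.Compute.MultBound

set_option autoImplicit false
set_option maxRecDepth 100000
open Cfsg

namespace Cfsg.Agent.S2039
open Cfsg.Agent.Lib.Recognition Cfsg.Agent.Lib.Recognition.Packed Cfsg.Agent.Lib.Compute Cfsg.Agent.S0457
open scoped commutatorElement

/-- Words for the eight elements in three generators. -/
def nw : Fin 8 → List ℕ :=
  ![[], ew 1, ew 2, ew 1 ++ ew 2, ew 1 ++ ew 2 ++ ew 7, ew 2 ++ ew 7, ew 1 ++ ew 7, ew 7]

theorem nw_eq : ∀ i : Fin 8, eqb (j1WordMat (ew i)) (j1WordMat (nw i)) = true := by decide +kernel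

/-- A central kernel makes commutators depend only on the images. -/
theorem commutator_lift_eq {Γ Q : Type*} [Group Γ] [Group Q] (σ : Γ →* Q)
    (hc : σ.ker ≤ Subgroup.center Γ) {p p' q q' : Γ} (hp : σ p = σ p') (hq : σ q = σ q') :
    ⁅p, q⁆ = ⁅p', q'⁆ := by
  have h1 : p'⁻¹ * p ∈ Subgroup.center Γ := hc (by simp [MonoidHom.mem_ker, hp])
  have h2 : q'⁻¹ * q ∈ Subgroup.center Γ := hc (by simp [MonoidHom.mem_ker, hq])
  obtain ⟨k, hk, rfl⟩ : ∃ k ∈ Subgroup.center Γ, p = p' * k := ⟨_, h1, (mul_inv_cancel_left p' p).symm⟩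
  obtain ⟨l, hl, rfl⟩ : ∃ l ∈ Subgroup.center Γ, q = q' * l := ⟨_, h2, (mul_inv_cancel_left q' q).symm⟩
  have hk' := Subgroup.mem_center_iff.1 hk
  have hl' := Subgroup.mem_center_iff.1 hl
  simp only [commutatorElement_def, mul_inv_rev]
  calc p' * k * (q' * l) * (k⁻¹ * p'⁻¹) * (l⁻¹ * q'⁻¹)
      = p' * (q' * l * k) * (k⁻¹ * p'⁻¹) * (l⁻¹ * q'⁻¹) := by rw [hk' (q' * l)]; group
    _ = p' * q' * (l * p'⁻¹) * (l⁻¹ * q'⁻¹) := by group
    _ = p' * q' * (p'⁻¹ * l) * (l⁻¹ * q'⁻¹) := by rw [hl' p'⁻¹]
    _ = p' * q' * p'⁻¹ * q'⁻¹ := by group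

theorem comm_mul_right {Γ : Type*} [Group Γ] (x y z : Γ) : ⁅x, y * z⁆ = ⁅x, y⁆ * (y * ⁅x, z⁆ * y⁻¹) := by
  simp only [commutatorElement_def]; group

/-- Three commuting involution lifts permuted by an element as by a Singer cycle commute. -/
theorem lifts_commute {Γ Q : Type*} [Group Γ] [Group Q] (σ : Γ →* Q) (hc : σ.ker ≤ Subgroup.center Γ)
    {A B C G : Γ} (hab : σ A * σ B = σ B * σ A) (hA : σ G * σ A = σ B * σ G) (hB : σ G * σ B = σ C * σ G)
    (hC : σ G * σ C = (σ A * σ C) * σ G) :
    ⁅A, B⁆ = 1 ∧ ⁅B, C⁆ = 1 ∧ ⁅A, C⁆ = 1 := by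
  have conj : ∀ P P' : Γ, σ G * σ P = σ P' * σ G → σ (G * P * G⁻¹) = σ P' := fun P P' h => by
    simp [h]
  have cj : ∀ P R : Γ, ⁅G * P * G⁻¹, G * R * G⁻¹⁆ = G * ⁅P, R⁆ * G⁻¹ := fun P R => by
    simp only [commutatorElement_def]; group
  have hu : ⁅A, B⁆ ∈ σ.ker := by
    rw [MonoidHom.mem_ker, map_commutatorElement]; exact commutatorElement_eq_one_iff_mul_comm.2 hab
  have hv : ⁅B, C⁆ = ⁅A, B⁆ := by
    rw [← commutator_lift_eq σ hc (conj A B hA) (conj B C hB), cj,
      Subgroup.mem_center_iff.1 (hc hu) G, mul_inv_cancel_right]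
  have hw : ⁅A, C⁆ = 1 := by
    have h := commutator_lift_eq σ hc (conj A B hA) (conj C (A * C) (by rw [hC, map_mul]))
    rw [cj, comm_mul_right, ← commutatorElement_inv A B, hv] at h
    have e : ⁅A, B⁆⁻¹ * (A * ⁅A, B⁆ * A⁻¹) = 1 := by
      rw [Subgroup.mem_center_iff.1 (hc hu) A, mul_inv_cancel_right, inv_mul_cancel]
    rw [e] at h
    simpa using h
  have hv' : ⁅B, C⁆ = 1 := by
    have h := commutator_lift_eq σ hc (conj B C hB) (conj C (A * C) (by rw [hC, map_mul]))
    rw [cj, comm_mul_right, ← commutatorElement_inv A C, hw, commutatorElement_self] at h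
    simpa using h
  exact ⟨hv ▸ hv', hv', hw⟩

/-- The Schur multiplier of the Janko group J₁ (the group generated by two explicit 7 × 7 matrices over the integers modulo 11) is trivial; here the Schur multiplier is described through stem extensions, as in the definitions: surjective homomorphisms onto the group from a finite group, whose kernel is central in that finite group and contained in that finite group's commutator subgroup. -/
theorem result : Cfsg.HasCyclicSchurMultiplier ↥Cfsg.Spor.J1 1 := by
  haveI := card_le.1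
  refine hasCyclicSchurMultiplier_one_of_primes (MulEquiv.refl _) [2, 3, 5, 7, 11, 19] ?_ ?_
  · intro p hp hdvd
    rw [card_J1] at hdvd
    rcases fact_J1 p hp hdvd with h | ⟨h, -⟩ <;>
      simp only [List.mem_cons, List.not_mem_nil, or_false] <;> omega
  intro p hp Δ _ _ τ hs hc _ z hz hz' hzp
  have cyc : ∀ (w : List ℕ) (q : ℕ), orderOf (j1Word w) = q → q = p →
      (∀ d, q * d = 175560 → Nat.Coprime q d) → z = 1 := by
    intro w q ho hq hcop
    subst hq
    refine eq_one_of_cyclic τ hs hc hz hz' hzp (x := j1Word w) (hcop _ ?_)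
    rw [← card_J1, ← Subgroup.card_mul_index (Subgroup.zpowers (j1Word w)), Nat.card_zpowers, ho]
  simp only [List.mem_cons, List.not_mem_nil, or_false] at hp
  rcases hp with rfl | rfl | rfl | rfl | rfl | rfl
  · -- the prime two
    have we : ∀ {u v : List ℕ}, eqb (j1WordMat u) (j1WordMat v) = true → j1Word u = j1Word v := word_eq
    obtain ⟨A, hA⟩ := hs (j1Word (ew 1))
    obtain ⟨B, hB⟩ := hs (j1Word (ew 2))
    obtain ⟨C, hC⟩ := hs (j1Word (ew 7))
    obtain ⟨G, hG⟩ := hs (j1Word [0])
    obtain ⟨cAB, cBC, cAC⟩ := lifts_commute τ hc (A := A) (B := B) (C := C) (G := G)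
      (by rw [hA, hB, ← j1Word_append, ← j1Word_append]; exact we (by decide +kernel))
      (by rw [hA, hB, hG, ← j1Word_append, ← j1Word_append]; exact we (by decide +kernel))
      (by rw [hB, hC, hG, ← j1Word_append, ← j1Word_append]; exact we (by decide +kernel))
      (by rw [hA, hC, hG, ← j1Word_append, ← j1Word_append, ← j1Word_append]; exact we (by decide +kernel))
    set S : Subgroup Cfsg.Spor.J1 := Subgroup.closure {τ A, τ B, τ C} with hS
    have hE : E8 ≤ S := by
      rintro _ ⟨i, rfl⟩
      show j1Word (ew i) ∈ S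
      have mA : j1Word (ew 1) ∈ S := Subgroup.subset_closure (by simp [hA])
      have mB : j1Word (ew 2) ∈ S := Subgroup.subset_closure (by simp [hB])
      have mC : j1Word (ew 7) ∈ S := Subgroup.subset_closure (by simp [hC])
      rw [we (nw_eq i)]
      fin_cases i <;> simp only [nw] <;>
        simp [j1Word_append, j1Word_nil, mA, mB, mC, mul_mem, one_mem]
    have hidx : Nat.Coprime 2 S.index := by
      have h1 : S.index ∣ 21945 := by
        have h := Subgroup.card_mul_index E8
        rw [card_E8, card_J1] at h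
        have : E8.index = 21945 := by omega
        rw [← this]
        exact Subgroup.index_dvd_of_le hE
      exact Nat.Coprime.coprime_dvd_right h1 (by norm_num)
    have hmem := mem_commutator_comap τ hs hc hz hz' hzp hidx
    have hbot : ⁅S.comap τ, S.comap τ⁆ = ⊥ := by
      have key : S.comap τ = Subgroup.closure {A, B, C} ⊔ τ.ker := by
        rw [hS, ← Subgroup.comap_map_eq, MonoidHom.map_closure]
        simp [Set.image_insert_eq, Set.image_singleton]
      rw [Subgroup.commutator_eq_bot_iff_le_centralizer, key]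
      refine sup_le ?_ (hc.trans (Subgroup.center_le_centralizer _))
      refine (Subgroup.closure_le _).2 fun x hx => ?_
      rw [SetLike.mem_coe, ← Subgroup.closure_eq (Subgroup.closure {A, B, C} ⊔ τ.ker), Subgroup.centralizer_closure]
      refine Subgroup.mem_centralizer_iff.2 fun y hy => ?_
      have : y ∈ Subgroup.centralizer {x} := by
        refine (sup_le ((Subgroup.closure_le _).2 ?_) (hc.trans (Subgroup.center_le_centralizer _))) hy
        intro y' hy'
        rw [SetLike.mem_coe, Subgroup.mem_centralizer_singleton_iff]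
        have k1 := commutatorElement_eq_one_iff_mul_comm.1 cAB
        have k2 := commutatorElement_eq_one_iff_mul_comm.1 cBC
        have k3 := commutatorElement_eq_one_iff_mul_comm.1 cAC
        rcases hx with rfl | rfl | rfl <;> rcases hy' with rfl | rfl | rfl <;>
          first | rfl | assumption | exact k1.symm | exact k2.symm | exact k3.symm
      exact (Subgroup.mem_centralizer_singleton_iff.1 this)
    rw [hbot] at hmem
    exact Subgroup.mem_bot.1 hmem
  · exact cyc [1, 0, 1, 0, 1, 0, 0, 0] 3 (order_word (by norm_num) (by decide +kernel) (by decide +kernel)) rfl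
      (fun d hd => by rw [show d = 58520 by omega]; norm_num)
  · exact cyc [1] 5 (order_word (by norm_num) (by decide +kernel) (by decide +kernel)) rfl
      (fun d hd => by rw [show d = 35112 by omega]; norm_num)
  · exact cyc [0] 7 (order_word (by norm_num) (by decide +kernel) (by decide +kernel)) rfl
      (fun d hd => by rw [show d = 25080 by omega]; norm_num)
  · exact cyc [1, 1, 0] 11 (order_word (by norm_num) (by decide +kernel) (by decide +kernel)) rfl
      (fun d hd => by rw [show d = 15960 by omega]; norm_num)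
  · exact cyc [1, 1, 1, 1, 0] 19 (order_word (by norm_num) (by decide +kernel) (by decide +kernel)) rfl
      (fun d hd => by rw [show d = 9240 by omega]; norm_num)

end Cfsg.Agent.S2039
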