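import Cfsg.Statements.S2040
import Cfsg.Agent.Lib.Recognition.J2CoverMap
import Cfsg.Agent.Lib.Recognition.J2CoverPrimes

set_option autoImplicit false
open Cfsg

namespace Cfsg.Agent.S2040

open Cfsg.Agent.Lib.Compute Cfsg.Agent.Lib.Recognition

/-- The Schur multiplier of the Hall–Janko group J₂ (the icosian reflection group modulo its centre) is cyclic of order 2; here the Schur multiplier is described through stem extensions, as in the definitions: surjective homomorphisms onto the group from a finite group, whose kernel is central in that finite group and contained in that finite group's commutator subgroup. -/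
theorem result : Cfsg.HasCyclicSchurMultiplier Cfsg.Spor.J2 2 := by
  haveI : Fact (Nat.Prime 2) := ⟨Nat.prime_two⟩
  obtain ⟨σ₀, hσ₀⟩ := J2Cover.exists_onto
  haveI : Finite Cfsg.Spor.J2 := Finite.of_equiv _ J2.j2Equiv.symm.toEquiv
  let σ : grp 200 J2Cover.covSmall →* Cfsg.Spor.J2 := J2.j2Equiv.symm.toMonoidHom.comp σ₀
  have hσ : Function.Surjective σ := J2.j2Equiv.symm.surjective.comp hσ₀
  have hk : Nat.card σ.ker = 2 := by
    have h1 := Subgroup.index_mul_card σ.ker
    have h2 : σ.ker.index = 604800 := by
      rw [Subgroup.index_ker, MonoidHom.range_eq_top.mpr hσ,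
        Nat.card_congr Subgroup.topEquiv.toEquiv, Nat.card_congr J2.j2Equiv.toEquiv, J2.card_GP]
    rw [h2, J2Cover.card_small] at h1
    omega
  exact hasCyclicSchurMultiplier_of_cover J2Cover.cov_perfect J2Cover.mult_trivial σ hσ
    (le_center_of_card_two hk) hk

end Cfsg.Agent.S2040
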