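import Cfsg.Statements.S2041
import Cfsg.Agent.Lib.J3.Mult

set_option autoImplicit false
open Cfsg

namespace Cfsg.Agent.S2041

/-- For any field with 4 elements and any element ω of it with ω² + ω + 1 = 0: the Schur multiplier of the Janko group J₃ (the group generated by explicit 9 × 9 matrices over that field built from ω, taken modulo its centre) is cyclic of order 3; here the Schur multiplier is described through stem extensions, as in the definitions: surjective homomorphisms onto the group from a finite group, whose kernel is central in that finite group and contained in that finite group's commutator subgroup. -/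
theorem result {F : Type*} [Field F] [Fintype F] (hF : Fintype.card F = 4) (ω : F) (hω : ω ^ 2 + ω + 1 = 0) : Cfsg.HasCyclicSchurMultiplier (Cfsg.Spor.J3 F ω) 3 := by
  classical
  obtain ⟨hZc, -, -, -, -⟩ := Cfsg.Agent.Lib.J3.j3_main hF hω
  have hperf := Cfsg.Agent.Lib.J3.threeJ3_perfect hF hω
  haveI := Fact.mk Nat.prime_three
  let π := QuotientGroup.mk' (Subgroup.center ↥(Cfsg.Spor.threeJ3 F ω))
  have hπ : Function.Surjective π := QuotientGroup.mk'_surjective _
  have hker : π.ker = Subgroup.center ↥(Cfsg.Spor.threeJ3 F ω) := QuotientGroup.ker_mk' _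
  have hcard : Nat.card π.ker = 3 := by rw [hker, hZc]
  have hA : Nat.card (Multiplicative (ZMod 3)) = 3 :=
    (Nat.card_congr Multiplicative.toAdd).trans (Nat.card_zmod 3)
  let e : π.ker ≃* Multiplicative (ZMod 3) := mulEquivOfPrimeCardEq hcard hA
  refine ⟨⟨_, inferInstance, inferInstance, π, ⟨hπ, hker.le, ?_⟩, ⟨e⟩⟩, ?_⟩
  · rw [hperf]; exact le_top
  · intro Γ _ _ σ hσ
    obtain ⟨f, hf⟩ := Cfsg.Agent.Lib.J3.exists_ker_surjection π hπ hker.le hperf
      (fun Δ _ _ τ hτ => Cfsg.Agent.Lib.J3.threeJ3_ker_bot hF hω τ hτ) σ hσ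
    exact ⟨f.comp e.symm.toMonoidHom, hf.comp e.symm.surjective⟩

end Cfsg.Agent.S2041
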