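import Cfsg.Statements.S2060
import Cfsg.Agent.Lib.Compute.SporEquiv
import Cfsg.Agent.Lib.Compute.M11Syl2
import Cfsg.Agent.Lib.Compute.M11Out

set_option autoImplicit false
open Cfsg

namespace Cfsg.Agent.S2060

open Cfsg.Agent.Lib.Compute

/-- The outer automorphism group of the Mathieu group M₁₁ (the stabiliser of a dodecad and one of its points in the automorphism group of the length-24 binary code) is trivial: every automorphism is inner. -/
theorem result : Nat.card (Cfsg.Out ↥Cfsg.Spor.M11) = 1 := by
  obtain ⟨e⟩ := spor_M11_equiv
  rw [← out_card_congr e]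
  haveI : Fact (Nat.Prime 11) := ⟨by norm_num⟩
  haveI : Nonempty (Cfsg.Out (grp 24 cert11)) := ⟨1⟩
  have h := card_out_le_of_cert chk_cert11 (cS := m11Syl2) (by decide +kernel) (e := 4) (r := 495)
    (by decide +kernel) (by decide +kernel) (by decide) (p := 11) (by decide +kernel)
    (wS := m11Syl2Wit) (D := m11OutData) (by decide +kernel)
  have h' : m11OutData.valid.length = 1 := by decide +kernel
  haveI : Finite (MulAut (grp 24 cert11)) :=
    Finite.of_injective _ (DFunLike.coe_injective (F := MulAut (grp 24 cert11)))
  have := Nat.card_pos (α := Cfsg.Out (grp 24 cert11))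
  omega

end Cfsg.Agent.S2060
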