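import Cfsg.Statements.S2061
import Cfsg.Agent.Lib.Compute.SporEquiv
import Cfsg.Agent.Lib.Compute.OuterAut
import Cfsg.Agent.Lib.Compute.M12Syl2
import Cfsg.Agent.Lib.Compute.M12Out

set_option autoImplicit false
open Cfsg

namespace Cfsg.Agent.S2061

open Cfsg.Agent.Lib.Compute

/-- The outer automorphism group of the Mathieu group M₁₂ (the stabiliser of a dodecad in the automorphism group of the length-24 binary code) has order 2. -/
theorem result : Nat.card (Cfsg.Out ↥Cfsg.Spor.M12) = 2 := by
  obtain ⟨e⟩ := spor_M12_equiv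
  rw [← out_card_congr e]
  haveI : Fact (Nat.Prime 11) := ⟨by norm_num⟩
  have hle := card_out_le_of_cert m12Cert_ok (cS := m12Syl2) (by decide +kernel) (e := 6) (r := 1485)
    (by decide +kernel) (by decide +kernel) (by decide) (p := 11) (by decide +kernel)
    (wS := m12Syl2Wit) (D := m12OutData) (by decide +kernel)
  rw [show m12OutData.valid.length = 2 from by decide +kernel] at hle
  obtain ⟨hg, -⟩ := mem_grp_of_memOk m24Cert_ok (P := 0x60010000d0003001700010007000c00020016001300080012000e000a00090014000400050011000b000f0015)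
    (js := [6, 1, 2, 0, 0, 1, 2]) (by decide +kernel)
  obtain ⟨φ, hφ⟩ := exists_aut_of_normOk m12Cert_ok hg (wits := [[0, 2, 5, 0, 6], [9, 10, 3, 7, 0], [11, 8, 8, 4, 6], [8, 3, 2, 8, 1], [2, 5, 6, 8, 6], [11, 3, 2, 6, 2]]) (by decide +kernel)
  refine card_out_eq_two hle φ fun hin => ?_
  obtain ⟨k, hk, hcomm⟩ := hφ hin
  have hc : chk 24 (m12Cert0 :: cert11) = true := m12Cert_ok
  have h0 := testBit_of_centralizes hc (F := 1) (by decide +kernel) hcomm 0 rfl
  have hz := (by decide : ∀ y : Fin 24, Nat.testBit 1 y = true → y = 0) _ h0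
  have hk' : ∀ i : Fin 24, dodMask.testBit (k i) = dodMask.testBit i :=
    (Subgroup.mem_inf.mp (m12Cert_le hk)).2
  have := hk' ((toPerm 24 0x60010000d0003001700010007000c00020016001300080012000e000a00090014000400050011000b000f0015) 0)
  rw [Equiv.Perm.mul_apply] at hz
  rw [hz, hg.repr 0] at this
  exact absurd this (by decide +kernel)

end Cfsg.Agent.S2061
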