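import Cfsg.Statements.S2062
import Cfsg.Agent.Lib.Compute.SporEquiv
import Cfsg.Agent.Lib.Compute.OuterAut
import Cfsg.Agent.Lib.Compute.M22Syl2
import Cfsg.Agent.Lib.Compute.M22Out

set_option autoImplicit false
open Cfsg

namespace Cfsg.Agent.S2062

open Cfsg.Agent.Lib.Compute

/-- The outer automorphism group of the Mathieu group M₂₂ (the permutations in the automorphism group of the length-24 binary code that fix each of two given points) has order 2. -/
theorem result : Nat.card (Cfsg.Out ↥Cfsg.Spor.M22) = 2 := by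
  obtain ⟨e⟩ := spor_M22_equiv
  rw [← out_card_congr e]
  haveI : Fact (Nat.Prime 11) := ⟨by norm_num⟩
  have hle := card_out_le_of_cert chk_cert2 (cS := m22Syl2) (by decide +kernel) (e := 7) (r := 3465)
    (by decide +kernel) (by decide +kernel) (by decide) (p := 11) (by decide +kernel)
    (wS := m22Syl2Wit) (D := m22OutData) (by decide +kernel)
  rw [show m22OutData.valid.length = 2 from by decide +kernel] at hle
  obtain ⟨hg, hgm⟩ := mem_grp_of_memOk m24Cert_ok (P := 0x80007000600110004000d0013000b000c0017001500100012000a000f000500140002000900030016000e00000001)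
    (js := [1, 3, 0, 0, 0, 0, 0]) (by decide +kernel)
  obtain ⟨φ, hφ⟩ := exists_aut_of_normOk chk_cert2 hg (wits := [[21, 9, 17, 2, 6], [1, 11, 18, 1, 14], [15, 9, 9, 2, 4], [17, 7, 0, 1, 10], [8, 16, 19, 0, 6], [1, 8, 18, 2, 8], [11, 3, 11, 2, 12], [12, 3, 2, 0, 0]]) (by decide +kernel)
  refine card_out_eq_two hle φ fun hin => ?_
  obtain ⟨k, hk, hcomm⟩ := hφ hin
  obtain ⟨hkM, hk0, hk1⟩ := (mem_cert2 k).mp hk
  set u := k * toPerm 24 0x80007000600110004000d0013000b000c0017001500100012000a000f000500140002000900030016000e00000001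
  have hu0 : u 0 = 1 := by
    rw [Equiv.Perm.mul_apply,
      show (toPerm 24 0x80007000600110004000d0013000b000c0017001500100012000a000f000500140002000900030016000e00000001) 0 = 1 from Fin.ext ((hg.repr 0).trans (by decide +kernel)), hk1]
  have hc : chk 24 (m24Cert2 :: cert3) = true := chk_cert2
  have h2 := testBit_of_centralizes hc (F := 7) (by decide +kernel) hcomm 2 rfl
  have horb : ∀ x : Fin 24, 2 ≤ (x : ℕ) → ∃ σ ∈ grp 24 cert2, σ 2 = x := fun x hx =>
    (mem_orbit_iff hc 2 x rfl).mpr ((by decide +kernel :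
      ∀ y : Fin 24, 2 ≤ (y : ℕ) → (y : ℕ) ∈ orbit m24Cert2) x hx)
  have hsmall : ∀ y : Fin 24, Nat.testBit 7 y = true → y = 0 ∨ y = 1 ∨ y = 2 := by decide
  have hall : ∀ x : Fin 24, 2 ≤ (x : ℕ) → u x = x := by
    have hconst : ∀ y : Fin 24, (∀ σ ∈ grp 24 cert2, σ y = y) → u 2 = y → False := fun y hy he => by
      obtain ⟨σ, hσ, hσ2⟩ := horb 3 (by decide)
      have e := congrArg (fun τ : Equiv.Perm (Fin 24) => τ 2) (hcomm σ hσ)
      simp only [Equiv.Perm.mul_apply] at e
      rw [hσ2, he, hy σ hσ, ← he] at e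
      exact absurd (u.injective e) (by decide)
    intro x hx
    obtain ⟨σ, hσ, hσ2⟩ := horb x hx
    rcases hsmall _ h2 with h | h | h
    · exact (hconst 0 (fun τ hτ => ((mem_cert2 τ).mp hτ).2.1) h).elim
    · exact (hconst 1 (fun τ hτ => ((mem_cert2 τ).mp hτ).2.2) h).elim
    · have e := congrArg (fun τ : Equiv.Perm (Fin 24) => τ 2) (hcomm σ hσ)
      simp only [Equiv.Perm.mul_apply] at e
      rwa [hσ2, h, hσ2] at e
  have huK : u ∈ K24 := K24_eq ▸ mul_mem hkM hgm
  have hF : FixMask u 0xfffffc := fun i hi => hall i ((by decide +kernel :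
    ∀ y : Fin 24, Nat.testBit 0xfffffc y = true → 2 ≤ (y : ℕ)) i hi)
  have := testBit_image_of_fixed huK hF (o := 0x3da1) (by decide +kernel) 0
  rw [hu0] at this
  exact absurd this (by decide +kernel)

end Cfsg.Agent.S2062
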