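import Cfsg.Statements.S2131
import Cfsg.Agent.S0457
import Cfsg.Agent.Lib.Recognition.J1InvData

set_option autoImplicit false
set_option linter.style.haveILetI false
set_option maxRecDepth 100000
open Cfsg

namespace Cfsg.Agent.S2131

open Cfsg.Agent.Lib.Recognition Cfsg.Agent.Lib.Recognition.Packed Cfsg.Agent.Lib.Recognition.J1InvData
open Cfsg.Agent.S0457 (rep j1Word_append j1Word_nil word_eq word_ne order_word card_J1 card_le)

/-- Code of a permutation of five points. -/
def code5 (σ : Equiv.Perm (Fin 5)) : ℕ :=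
  (σ 0 : ℕ) + 5 * (σ 1 : ℕ) + 25 * (σ 2 : ℕ) + 125 * (σ 3 : ℕ) + 625 * (σ 4 : ℕ)

/-- Position in the table. -/
def idx5 (σ : alternatingGroup (Fin 5)) : ℕ := codeL.idxOf (code5 σ.1)

theorem idx5_ok : ∀ σ : alternatingGroup (Fin 5), idx5 σ < 60 := by decide +kernel

theorem code5_one : ∀ σ : alternatingGroup (Fin 5), code5 σ.1 = codeL.getD 0 0 → σ = 1 := by decide +kernel

/-- A digit of a code. -/
def dgt (a i : ℕ) : ℕ := a / 5 ^ i % 5

/-- Composition on codes. -/
def cmpc (a b : ℕ) : ℕ :=
  dgt a (dgt b 0) + 5 * dgt a (dgt b 1) + 25 * dgt a (dgt b 2) + 125 * dgt a (dgt b 3) + 625 * dgt a (dgt b 4)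

theorem dgt_code5 (σ : Equiv.Perm (Fin 5)) (i : Fin 5) : dgt (code5 σ) i = (σ i : ℕ) := by
  have h0 := (σ 0).2; have h1 := (σ 1).2; have h2 := (σ 2).2; have h3 := (σ 3).2; have h4 := (σ 4).2
  fin_cases i <;> simp [dgt, code5] <;> omega

theorem code5_mul (σ τ : Equiv.Perm (Fin 5)) : code5 (σ * τ) = cmpc (code5 σ) (code5 τ) := by
  have e0 : dgt (code5 τ) 0 = τ 0 := dgt_code5 τ 0
  have e1 : dgt (code5 τ) 1 = τ 1 := dgt_code5 τ 1
  have e2 : dgt (code5 τ) 2 = τ 2 := dgt_code5 τ 2
  have e3 : dgt (code5 τ) 3 = τ 3 := dgt_code5 τ 3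
  have e4 : dgt (code5 τ) 4 = τ 4 := dgt_code5 τ 4
  simp only [cmpc, e0, e1, e2, e3, e4]
  simp only [dgt_code5]
  rfl

theorem idx5_spec (σ : alternatingGroup (Fin 5)) : codeL.getD (idx5 σ) 0 = code5 σ.1 := by
  have h : codeL.idxOf (code5 σ.1) < codeL.length := idx5_ok σ
  rw [idx5, List.getD_eq_getElem _ _ h]
  exact List.getElem_idxOf h

theorem img_word : ((List.range 60).all fun i => eqb (j1WordMat (imgL.getD i [])) (imgM.getD i one)) = true := by decide +kernel

theorem img_mul_check : ((List.range 60).all fun i => (List.range 60).all fun j =>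
    eqb (mul (imgM.getD i one) (imgM.getD j one))
      (imgM.getD (codeL.idxOf (cmpc (codeL.getD i 0) (codeL.getD j 0))) one)) = true := by decide +kernel

theorem img_mul (σ τ : alternatingGroup (Fin 5)) :
    eqb (mul (imgM.getD (idx5 σ) one) (imgM.getD (idx5 τ) one)) (imgM.getD (idx5 (σ * τ)) one) = true := by
  have h := List.all_eq_true.1 (List.all_eq_true.1 img_mul_check _ (List.mem_range.2 (idx5_ok σ))) _
    (List.mem_range.2 (idx5_ok τ))
  rw [idx5_spec, idx5_spec, ← code5_mul] at h
  exact h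

theorem img_one_check : ((List.range 60).all fun i => (i == 0) || !(eqb (imgM.getD i one) one)) = true := by decide +kernel

theorem img_one (σ : alternatingGroup (Fin 5)) (h : eqb (imgM.getD (idx5 σ) one) one = true) : σ = 1 := by
  have h0 := List.all_eq_true.1 img_one_check _ (List.mem_range.2 (idx5_ok σ))
  rw [h, Bool.not_true, Bool.or_false, beq_iff_eq] at h0
  exact code5_one σ (by rw [← idx5_spec, h0])

/-- The word of the involution. -/
def tW : List ℕ := [1, 1, 1, 1, 0, 1, 0]

theorem img_t_check : ((List.range 60).all fun i =>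
    eqb (mul (j1WordMat tW) (imgM.getD i one)) (mul (imgM.getD i one) (j1WordMat tW)) &&
      !(eqb (mul (j1WordMat tW) (imgM.getD i one)) one)) = true := by decide +kernel

theorem img_t (σ : alternatingGroup (Fin 5)) :
    eqb (mul (j1WordMat tW) (imgM.getD (idx5 σ) one)) (mul (imgM.getD (idx5 σ) one) (j1WordMat tW)) = true ∧
      ¬ eqb (mul (j1WordMat tW) (imgM.getD (idx5 σ) one)) one = true := by
  have h := List.all_eq_true.1 img_t_check _ (List.mem_range.2 (idx5_ok σ))
  simpa only [Bool.and_eq_true, Bool.not_eq_true', Bool.not_eq_true] using h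

/-- The image of an even permutation. -/
def img (σ : alternatingGroup (Fin 5)) : Cfsg.Spor.J1 := j1Word (imgL.getD (idx5 σ) [])

theorem coe_img (σ : alternatingGroup (Fin 5)) :
    ((img σ : GL (Fin 7) (ZMod 11)) : Matrix (Fin 7) (Fin 7) (ZMod 11)) = toMat (imgM.getD (idx5 σ) one) := by
  have h := List.all_eq_true.1 img_word (idx5 σ) (List.mem_range.2 (idx5_ok σ))
  rw [img, coe_j1Word, eq_of_eqb h]

theorem wf_img (σ : alternatingGroup (Fin 5)) : wf (imgM.getD (idx5 σ) one) = true := by
  have h := List.all_eq_true.1 img_word (idx5 σ) (List.mem_range.2 (idx5_ok σ))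
  rw [← eq_of_eqb h]
  exact wf_j1WordMat _

/-- The embedding of the alternating group. -/
def imgHom : alternatingGroup (Fin 5) →* Cfsg.Spor.J1 :=
  MonoidHom.mk' img fun σ τ => Subtype.ext (Units.ext (by
    rw [Subgroup.coe_mul, Units.val_mul, coe_img, coe_img, coe_img, ← toMat_mul _ (wf_img τ), eq_of_eqb (img_mul σ τ)]))

theorem commute_img (σ : alternatingGroup (Fin 5)) : j1Word tW * img σ = img σ * j1Word tW :=
  Subtype.ext (Units.ext (by
    rw [Subgroup.coe_mul, Subgroup.coe_mul, Units.val_mul, Units.val_mul, coe_img, coe_j1Word, ← toMat_mul _ (wf_img σ),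
      ← toMat_mul _ (wf_j1WordMat tW), eq_of_eqb (img_t σ).1]))

theorem tW_sq : j1Word tW * j1Word tW = 1 := by
  rw [← j1Word_append, ← j1Word_nil]
  exact word_eq (by decide +kernel)

theorem eqb_of_toMat {A B : M7} (hA : wf A = true) (hB : wf B = true) (h : toMat A = toMat B) : eqb A B = true := by
  have hd : ∀ {C : M7}, wf C = true → ∀ i j, dig (row C i) j < 11 := fun hC i j => by
    rw [← red_eq_of_wf hC i, dig_red]; exact Nat.mod_lt _ (by norm_num)
  have hrow : ∀ i, row A i = row B i := by
    intro i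
    have hj : ∀ j, dig (row A i) j = dig (row B i) j := fun j => by
      have := congrFun (congrFun h i) j
      simp only [toMat, Matrix.of_apply] at this
      rw [ZMod.natCast_eq_natCast_iff', Nat.mod_eq_of_lt (hd hA i j), Nat.mod_eq_of_lt (hd hB i j)] at this
      exact this
    have e : ∀ x, red x = pack7 (dig x 0 % 11) (dig x 1 % 11) (dig x 2 % 11) (dig x 3 % 11) (dig x 4 % 11)
        (dig x 5 % 11) (dig x 6 % 11) := fun x => rfl
    rw [← red_eq_of_wf hA i, ← red_eq_of_wf hB i, e, e]
    simp only [hj]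
  have h0 := hrow 0; have h1 := hrow 1; have h2 := hrow 2; have h3 := hrow 3
  have h4 := hrow 4; have h5 := hrow 5; have h6 := hrow 6
  simp [row] at h0 h1 h2 h3 h4 h5 h6
  simp [eqb, h0, h1, h2, h3, h4, h5, h6]

theorem tW_img_ne (σ : alternatingGroup (Fin 5)) : j1Word tW * img σ ≠ 1 := by
  intro h
  have hinv : img σ = j1Word tW := mul_left_cancel (h.trans tW_sq.symm)
  -- an element of order two in both factors
  have h2 := (img_t σ).2
  have e : toMat (mul (j1WordMat tW) (imgM.getD (idx5 σ) one)) = 1 := by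
    rw [toMat_mul _ (wf_img σ), ← coe_j1Word, ← coe_img, ← Units.val_mul, ← Subgroup.coe_mul, h]
    rfl
  exact h2 (eqb_of_toMat (wf_mul _ _) wf_one (e.trans toMat_one.symm))

/-- Parent conjugation. -/
def parOk (j : ℕ) : Bool :=
  let t := get2 parL j (0, 0)
  decide (t.2 < j) && decide (t.1 < 2) && eqb (mul (jX t.1) (get2 orbL t.2 one)) (mul (get2 orbL j one) (jX t.1))

theorem orb_tree : ((List.range 1463).all fun j => if j = 0 then eqb (get2 orbL 0 one) (j1WordMat tW) else parOk j) = true := by
  decide +kernel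

theorem orb_wf : ((List.range 1463).all fun j => wf (get2 orbL j one)) = true := by decide +kernel

/-- Key for sorting. -/
def key7 (A : M7) : ℕ :=
  A.r0 + 2 ^ 112 * (A.r1 + 2 ^ 112 * (A.r2 + 2 ^ 112 * (A.r3 + 2 ^ 112 * (A.r4 + 2 ^ 112 * (A.r5 + 2 ^ 112 * A.r6)))))

theorem orb_sorted : ((List.range 1463).all fun i =>
    decide (get2 posL i 0 < 1463) && (get2 srtL (get2 posL i 0) 0 == i) &&
      (i + 1 == 1463 || decide (key7 (get2 orbL (get2 srtL i 0) one) < key7 (get2 orbL (get2 srtL (i + 1) 0) one)))) = true := by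
  decide +kernel

attribute [local irreducible] get2 orbL parL srtL posL imgM imgL codeL

theorem orb_inj (i j : ℕ) (hi : i < 1463) (hj : j < 1463) (h : get2 orbL i one = get2 orbL j one) : i = j := by
  have hs := fun k (hk : k < 1463) => List.all_eq_true.1 orb_sorted k (List.mem_range.2 hk)
  simp only [Bool.and_eq_true, decide_eq_true_eq, beq_iff_eq, Bool.or_eq_true] at hs
  have hmono : ∀ b, b < 1463 → ∀ a, a < b →
      key7 (get2 orbL (get2 srtL a 0) one) < key7 (get2 orbL (get2 srtL b 0) one) := by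
    intro b
    induction b with
    | zero => omega
    | succ b ih =>
      intro hb a ha
      rcases (hs b (by omega)).2 with h' | h'
      · omega
      rcases Nat.lt_succ_iff_lt_or_eq.1 ha with h'' | rfl
      · exact (ih (by omega) a h'').trans h'
      · exact h'
  obtain ⟨⟨pi, si⟩, -⟩ := hs i hi
  obtain ⟨⟨pj, sj⟩, -⟩ := hs j hj
  rcases lt_trichotomy (get2 posL i 0) (get2 posL j 0) with hlt | heq | hlt
  · have := hmono _ pj _ hlt; rw [si, sj, h] at this; exact absurd this (lt_irrefl _)
  · rw [← si, ← sj, heq]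
  · have := hmono _ pi _ hlt; rw [si, sj, h] at this; exact absurd this (lt_irrefl _)

theorem orb_conj : ∀ j, j < 1463 → ∃ g : Cfsg.Spor.J1,
    ((g * j1Word tW * g⁻¹ : Cfsg.Spor.J1) : GL (Fin 7) (ZMod 11)).val = toMat (get2 orbL j one) := by
  intro j
  induction j using Nat.strong_induction_on with
  | _ j ih =>
    intro hj
    have h := List.all_eq_true.1 orb_tree j (List.mem_range.2 hj)
    rcases Nat.eq_zero_or_pos j with rfl | hpos
    · rw [if_pos rfl] at h
      exact ⟨1, by rw [one_mul, inv_one, mul_one, coe_j1Word, eq_of_eqb h]⟩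
    rw [if_neg hpos.ne', parOk] at h
    simp only [Bool.and_eq_true, decide_eq_true_eq] at h
    obtain ⟨⟨hlt, hs⟩, he⟩ := h
    obtain ⟨g, hg⟩ := ih _ hlt (hlt.trans hj)
    set s := (get2 parL j (0, 0)).1
    have hsJ : ∃ x : Cfsg.Spor.J1, (x : GL (Fin 7) (ZMod 11)).val = toMat (jX s) := by
      rcases (show s = 0 ∨ s = 1 by omega) with h | h <;> rw [h]
      · exact ⟨⟨Cfsg.Spor.jankoX, Subgroup.subset_closure (Or.inl rfl)⟩, j1_gens_eq.1.symm⟩
      · exact ⟨⟨Cfsg.Spor.jankoY, Subgroup.subset_closure (Or.inr rfl)⟩, j1_gens_eq.2.symm⟩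
    obtain ⟨x, hx⟩ := hsJ
    refine ⟨x * g, ?_⟩
    have e := congrArg toMat (eq_of_eqb he)
    rw [toMat_mul _ (List.all_eq_true.1 orb_wf _ (List.mem_range.2 (hlt.trans hj))),
      toMat_mul _ (by rcases (show s = 0 ∨ s = 1 by omega) with h | h <;> rw [h] <;> decide +kernel : wf (jX s) = true),
      ← hx, ← hg, ← Units.val_mul, ← Subgroup.coe_mul] at e
    have : ((x * g * j1Word tW * (x * g)⁻¹ : Cfsg.Spor.J1) : GL (Fin 7) (ZMod 11)).val *
        (x : GL (Fin 7) (ZMod 11)).val = toMat (get2 orbL j one) * (x : GL (Fin 7) (ZMod 11)).val := by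
      rw [← e, ← Units.val_mul, ← Subgroup.coe_mul,
        show x * g * j1Word tW * (x * g)⁻¹ * x = x * (g * j1Word tW * g⁻¹) by group]
    exact (x : GL (Fin 7) (ZMod 11)).isUnit.mul_left_injective this

theorem card_cent_le : Nat.card (Subgroup.centralizer ({j1Word tW} : Set Cfsg.Spor.J1)) ≤ 120 := by
  haveI := card_le.1
  set C := Subgroup.centralizer ({j1Word tW} : Set Cfsg.Spor.J1)
  choose g hg using fun j : Fin 1463 => orb_conj j j.2
  have hinj : Function.Injective fun j : Fin 1463 => (g j : Cfsg.Spor.J1 ⧸ C) := by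
    intro i j h
    rw [QuotientGroup.eq] at h
    have hc := Subgroup.mem_centralizer_singleton_iff.1 h
    have : g i * j1Word tW * (g i)⁻¹ = g j * j1Word tW * (g j)⁻¹ := by
      have := congrArg (fun z => g i * z * (g j)⁻¹) hc
      simpa [mul_assoc] using this.symm
    have e := congrArg (fun z : Cfsg.Spor.J1 => ((z : GL (Fin 7) (ZMod 11))).val) this
    simp only [hg] at e
    have hw := fun k : Fin 1463 => List.all_eq_true.1 orb_wf k (List.mem_range.2 k.2)
    exact Fin.ext (orb_inj i j i.2 j.2 (eq_of_eqb (eqb_of_toMat (hw i) (hw j) e)))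
  have h1 := Nat.card_le_card_of_injective _ hinj
  rw [Nat.card_fin, ← Subgroup.index_eq_card] at h1
  have h2 := C.card_mul_index
  rw [card_J1] at h2
  by_contra hcon
  have := Nat.mul_le_mul (Nat.lt_of_not_le hcon) h1
  omega

/-- The generic map into a centralizer. -/
def toCent : Multiplicative (ZMod 2) × alternatingGroup (Fin 5) →* Cfsg.Spor.J1 :=
  MonoidHom.noncommCoprod
    (MonoidHom.mk' (fun e : Multiplicative (ZMod 2) => if e = 1 then 1 else j1Word tW) (by
      intro a b
      have two : ∀ z : Multiplicative (ZMod 2), z = 1 ∨ z = Multiplicative.ofAdd 1 := by decide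
      rcases two a with rfl | rfl <;> rcases two b with rfl | rfl <;> simp [tW_sq, ← ofAdd_add, show (1 : ZMod 2) + 1 = 0 from by decide]))
    imgHom (fun e σ => by
      show Commute (if e = 1 then 1 else j1Word tW) (img σ)
      split
      · exact Commute.one_left _
      · exact commute_img σ)

theorem toCent_injective : Function.Injective toCent := by
  rw [injective_iff_map_eq_one]
  rintro ⟨e, σ⟩ h
  change (if e = 1 then 1 else j1Word tW) * img σ = 1 at h
  have hcase : e = 1 := by
    by_contra he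
    rw [if_neg he] at h
    exact tW_img_ne σ h
  rw [if_pos hcase, one_mul] at h
  refine Prod.ext hcase (img_one σ (eqb_of_toMat (wf_img σ) wf_one ?_))
  rw [← coe_img, h, toMat_one]
  rfl

/-- The Janko group J₁ (the group generated by two explicit 7 × 7 matrices over the integers modulo 11) has an involution whose centraliser is isomorphic to the direct product of a group of order 2 with the alternating group of degree 5. -/
theorem result : ∃ t : ↥Cfsg.Spor.J1, orderOf t = 2 ∧ Nonempty (↥(Subgroup.centralizer ({t} : Set ↥Cfsg.Spor.J1)) ≃* Multiplicative (ZMod 2) × ↥(alternatingGroup (Fin 5))) := by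
  haveI := card_le.1
  refine ⟨j1Word tW, order_word (w := tW) Nat.prime_two (by decide +kernel) (by decide +kernel), ?_⟩
  have hle : toCent.range ≤ Subgroup.centralizer ({j1Word tW} : Set Cfsg.Spor.J1) := by
    rintro _ ⟨⟨e, σ⟩, rfl⟩
    rw [Subgroup.mem_centralizer_singleton_iff]
    change (if e = 1 then 1 else j1Word tW) * img σ * j1Word tW = j1Word tW * ((if e = 1 then 1 else j1Word tW) * img σ)
    rw [mul_assoc, ← commute_img, ← mul_assoc, ← mul_assoc]
    split <;> simp
  have e := MonoidHom.ofInjective toCent_injective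
  have hcard : Nat.card (Multiplicative (ZMod 2) × alternatingGroup (Fin 5)) = 120 := by
    rw [Nat.card_prod, nat_card_alternatingGroup, Nat.card_fin,
      show Nat.card (Multiplicative (ZMod 2)) = 2 from Nat.card_zmod 2]
    rfl
  have heq := Subgroup.eq_of_le_of_card_ge hle (by rw [← Nat.card_congr e.toEquiv, hcard]; exact card_cent_le)
  exact ⟨(e.trans (MulEquiv.subgroupCongr heq)).symm⟩


end Cfsg.Agent.S2131
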