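import Cfsg.Statements.S2065
import Cfsg.Agent.S2131
import Cfsg.Agent.Lib.Compute.OutBound

set_option autoImplicit false
set_option linter.style.haveILetI false
set_option maxRecDepth 100000
set_option maxHeartbeats 1000000
open Cfsg

namespace Cfsg.Agent.S2065
open Cfsg.Agent.Lib.Recognition Cfsg.Agent.Lib.Recognition.Packed Cfsg.Agent.Lib.Recognition.J1InvData
open Cfsg.Agent.S0457 (rep j1Word_append j1Word_nil j1Word_rep word_eq word_ne order_word card_J1 card_le E8 ew
  card_E8 fact_J1)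
open Cfsg.Agent.S2131 (tW card_cent_le orb_conj orb_inj orb_wf eqb_of_toMat toCent toCent_injective commute_img)

/-- The second generator. -/
def bW : List ℕ := [1, 1, 0, 0, 0, 0, 0, 1, 1, 0, 1, 1, 0, 1, 1, 1, 0, 1]

/-- The word for `Y` in `X` and the second generator. -/
def yW : List ℕ := [0, 1, 0, 1, 0, 0, 0, 1, 0, 1, 0, 1, 0, 1, 0, 0, 0, 1].flatMap fun i => if i = 0 then [0] else bW

/-- Words conjugating the powers of `X` to `X`. -/
def hW : ℕ → List ℕ
  | 2 => [1, 1, 0, 0, 1, 1, 0, 1, 0, 1, 0, 0, 1, 1, 0, 1, 0, 1, 1]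
  | 3 => [1, 1, 0, 0, 1, 0, 1, 0, 0, 0, 0, 1, 0, 0, 1, 0, 1, 0, 1]
  | 4 => [1, 1, 0, 1, 0, 1, 1, 0, 0, 1, 0, 1, 0, 1, 1, 0, 0, 1, 1]
  | 5 => [1, 0, 1, 0, 1, 0, 0, 1, 0, 0, 0, 0, 1, 0, 1, 0, 0, 1, 1]
  | 6 => [1, 0, 1, 1, 1, 1, 0, 0, 0, 1]
  | _ => []

theorem hW_ok : ∀ k : Fin 7, k ≠ 0 →
    eqb (j1WordMat (hW k ++ List.replicate k 0)) (j1WordMat ([0] ++ hW k)) = true := by decide +kernel

theorem gen_ok : eqb (j1WordMat yW) (j1WordMat [1]) = true := by decide +kernel

theorem rel_ok : (eqb (powBits (mul (j1WordMat [0]) (j1WordMat bW)) [true, true, true, true]) one &&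
    eqb (powBits (mul (j1WordMat [0, 0, 0]) (j1WordMat bW)) [true, false, true]) one) = true := by decide +kernel

/-- Unless the two relators fail, the entry is conjugate to the second generator under a power of `X`. -/
def candOk (j : ℕ) : Bool :=
  !(eqb (powBits (mul (j1WordMat [0]) (get2 orbL j one)) [true, true, true, true]) one &&
    eqb (powBits (mul (j1WordMat [0, 0, 0]) (get2 orbL j one)) [true, false, true]) one) ||
  (List.range 7).any fun m =>
    eqb (mul (j1WordMat (List.replicate m 0)) (get2 orbL j one)) (mul (j1WordMat bW) (j1WordMat (List.replicate m 0)))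

theorem cand_check : ((List.range 1463).all candOk) = true := by decide +kernel

attribute [local irreducible] get2 orbL parL srtL posL

theorem coe_eq_iff {w : List ℕ} {g : Cfsg.Spor.J1} :
    ((g : GL (Fin 7) (ZMod 11)) : Matrix (Fin 7) (Fin 7) (ZMod 11)) = toMat (j1WordMat w) ↔ g = j1Word w := by
  rw [← coe_j1Word]
  exact ⟨fun h => Subtype.ext (Units.ext h), fun h => by rw [h]⟩

/-- The list holds every conjugate of the involution. -/
theorem conj_listed (x : Cfsg.Spor.J1) : ∃ j < 1463,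
    ((x * j1Word tW * x⁻¹ : Cfsg.Spor.J1) : GL (Fin 7) (ZMod 11)).val = toMat (get2 orbL j one) := by
  haveI := card_le.1
  set C := Subgroup.centralizer ({j1Word tW} : Set Cfsg.Spor.J1)
  choose g hg using fun j : Fin 1463 => orb_conj j j.2
  have hinj : Function.Injective fun j : Fin 1463 => (g j : Cfsg.Spor.J1 ⧸ C) := by
    intro i j h
    rw [QuotientGroup.eq] at h
    have hc := Subgroup.mem_centralizer_singleton_iff.1 h
    have : g i * j1Word tW * (g i)⁻¹ = g j * j1Word tW * (g j)⁻¹ := by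
      have := congrArg (fun z => g i * z * (g j)⁻¹) hc
      simpa [mul_assoc] using this.symm
    have e := congrArg (fun z : Cfsg.Spor.J1 => ((z : GL (Fin 7) (ZMod 11))).val) this
    simp only [hg] at e
    have hw := fun k : Fin 1463 => List.all_eq_true.1 orb_wf k (List.mem_range.2 k.2)
    exact Fin.ext (orb_inj i j i.2 j.2 (eq_of_eqb (eqb_of_toMat (hw i) (hw j) e)))
  have hcent : 120 ≤ Nat.card C := by
    have hle : toCent.range ≤ C := by
      rintro _ ⟨⟨e, σ⟩, rfl⟩
      rw [Subgroup.mem_centralizer_singleton_iff]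
      change (if e = 1 then 1 else j1Word tW) * Cfsg.Agent.S2131.img σ * j1Word tW =
        j1Word tW * ((if e = 1 then 1 else j1Word tW) * Cfsg.Agent.S2131.img σ)
      rw [mul_assoc, ← commute_img, ← mul_assoc, ← mul_assoc]
      split <;> simp
    have hcard : Nat.card (Multiplicative (ZMod 2) × alternatingGroup (Fin 5)) = 120 := by
      rw [Nat.card_prod, nat_card_alternatingGroup, Nat.card_fin,
        show Nat.card (Multiplicative (ZMod 2)) = 2 from Nat.card_zmod 2]
      rfl
    rw [← hcard, Nat.card_congr (MonoidHom.ofInjective toCent_injective).toEquiv]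
    exact Subgroup.card_le_of_le hle
  haveI : Fintype (Cfsg.Spor.J1 ⧸ C) := Fintype.ofFinite _
  have hidx : Nat.card (Cfsg.Spor.J1 ⧸ C) = 1463 := by
    have h1 := Nat.card_le_card_of_injective _ hinj
    have h2 := C.card_mul_index
    rw [card_J1] at h2
    rw [Nat.card_fin] at h1
    rw [← Subgroup.index_eq_card] at h1 ⊢
    by_contra hne
    have := Nat.mul_le_mul hcent (Nat.succ_le_of_lt (lt_of_le_of_ne h1 (Ne.symm hne)))
    omega
  obtain ⟨j, hj⟩ := ((Fintype.bijective_iff_injective_and_card _).2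
    ⟨hinj, by rw [Fintype.card_fin, ← Nat.card_eq_fintype_card, hidx]⟩).2 (x : Cfsg.Spor.J1 ⧸ C)
  refine ⟨j, j.2, ?_⟩
  rw [← hg j]
  have hj' : (g j : Cfsg.Spor.J1 ⧸ C) = x := hj
  rw [QuotientGroup.eq] at hj'
  have hc := Subgroup.mem_centralizer_singleton_iff.1 hj'
  have : x * j1Word tW * x⁻¹ = g j * j1Word tW * (g j)⁻¹ := by
    have := congrArg (fun z => g j * z * x⁻¹) hc
    simpa [mul_assoc] using this
  rw [this]

/-- All involutions are conjugate to the listed one. -/
theorem involution_conj {u : Cfsg.Spor.J1} (h : orderOf u = 2) :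
    ∃ x : Cfsg.Spor.J1, u = x * j1Word tW * x⁻¹ := by
  haveI := card_le.1
  haveI : Fact (Nat.Prime 2) := ⟨Nat.prime_two⟩
  have hp : IsPGroup 2 (Subgroup.zpowers u) := IsPGroup.of_card (n := 1) (by rw [Nat.card_zpowers, h, pow_one])
  obtain ⟨S, hS⟩ := hp.exists_le_sylow
  let T : Sylow 2 Cfsg.Spor.J1 := Sylow.ofCard E8 (by
    rw [card_E8, card_J1, show (175560 : ℕ) = 2 ^ 3 * 21945 by norm_num, Nat.factorization_mul (by norm_num) (by norm_num),
      Finsupp.add_apply, Nat.Prime.factorization_pow Nat.prime_two, Finsupp.single_eq_same,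
      Nat.factorization_eq_zero_of_not_dvd (by norm_num)]
    rfl)
  obtain ⟨k, hk⟩ := MulAction.exists_smul_eq Cfsg.Spor.J1 T S
  have hu : u ∈ ((k • T : Sylow 2 Cfsg.Spor.J1) : Subgroup Cfsg.Spor.J1) := by
    rw [hk]; exact hS (Subgroup.mem_zpowers u)
  rw [Sylow.coe_subgroup_smul] at hu
  obtain ⟨_, ⟨i, rfl⟩, hxe⟩ := hu
  have hxe' : k * j1Word (ew i) * k⁻¹ = u := hxe
  have hi : i ≠ 0 := by
    rintro rfl
    rw [show ew 0 = [] from rfl, j1Word_nil, mul_one, mul_inv_cancel] at hxe'
    rw [← hxe', orderOf_one] at h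
    norm_num at h
  have hX : ∀ i : Fin 8, i ≠ 0 → ∃ m : Fin 7,
      eqb (j1WordMat (List.replicate m 0 ++ ew 1)) (j1WordMat (ew i ++ List.replicate m 0)) = true := by
    decide +kernel
  obtain ⟨m, hm⟩ := hX i hi
  have hm' := word_eq hm
  rw [j1Word_append, j1Word_append] at hm'
  refine ⟨k * j1Word (List.replicate m 0), ?_⟩
  rw [← hxe', show tW = ew 1 from rfl, eq_mul_inv_iff_mul_eq.2 hm'.symm]
  group

theorem powBits_one {w : List ℕ} {g : Cfsg.Spor.J1} {M : M7} (hM : wf M = true)
    (hg : ((g : GL (Fin 7) (ZMod 11)) : Matrix (Fin 7) (Fin 7) (ZMod 11)) = toMat M) (bs : List Bool)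
    (h : (j1Word w * g) ^ bitsVal bs = 1) : eqb (powBits (mul (j1WordMat w) M) bs) one = true := by
  refine eqb_of_toMat (wf_powBits _ _) wf_one ?_
  rw [toMat_powBits, toMat_mul _ hM, ← coe_j1Word, ← hg, toMat_one, ← Units.val_mul, ← Subgroup.coe_mul,
    ← Units.val_pow_eq_pow_val, ← Subgroup.coe_pow, h]
  rfl

theorem pow_of_powBits {w v : List ℕ} (bs : List Bool)
    (h : eqb (powBits (mul (j1WordMat w) (j1WordMat v)) bs) one = true) :
    (j1Word w * j1Word v) ^ bitsVal bs = 1 := by
  apply Subtype.ext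
  apply Units.ext
  rw [Subgroup.coe_pow, Units.val_pow_eq_pow_val, Subgroup.coe_mul, Units.val_mul, coe_j1Word, coe_j1Word,
    ← toMat_mul _ (wf_j1WordMat v), ← toMat_powBits, eq_of_eqb h, toMat_one]
  rfl

theorem closure_gens : Subgroup.closure ({j1Word [0], j1Word bW} : Set Cfsg.Spor.J1) = ⊤ := by
  set K := Subgroup.closure ({j1Word [0], j1Word bW} : Set Cfsg.Spor.J1)
  have hX : j1Word [0] ∈ K := Subgroup.subset_closure (Or.inl rfl)
  have hb : j1Word bW ∈ K := Subgroup.subset_closure (Or.inr rfl)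
  have hflat : ∀ l : List ℕ, j1Word (l.flatMap fun i => if i = 0 then [0] else bW) ∈ K := by
    intro l
    induction l with
    | nil => rw [List.flatMap_nil, j1Word_nil]; exact one_mem K
    | cons a l ih =>
      rw [List.flatMap_cons, j1Word_append]
      refine mul_mem ?_ ih
      split
      · exact hX
      · exact hb
  have hY : j1Word [1] ∈ K := by
    rw [← word_eq gen_ok]
    exact hflat _
  refine eq_top_iff.2 fun g _ => ?_
  have : Cfsg.Spor.J1 ≤ K.map Cfsg.Spor.J1.subtype := by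
    refine (Subgroup.closure_le _).2 ?_
    rintro _ (rfl | rfl)
    · exact ⟨_, hX, by simp [j1Word]⟩
    · exact ⟨_, hY, by simp [j1Word]⟩
  obtain ⟨g', hg', e⟩ := this g.2
  rwa [Subtype.ext e] at hg'

theorem j1Word_replicate (m : ℕ) : j1Word (List.replicate m 0) = j1Word [0] ^ m := by
  induction m with
  | zero => rw [List.replicate_zero, j1Word_nil, pow_zero]
  | succ m ih =>
    rw [List.replicate_succ, show (0 :: List.replicate m 0) = [0] ++ List.replicate m 0 from rfl,
      j1Word_append, ih, pow_succ']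

/-- The outer automorphism group of the Janko group J₁ (the group generated by two explicit 7 × 7 matrices over the integers modulo 11) is trivial: every automorphism is inner. -/
theorem result : Nat.card (Cfsg.Out ↥Cfsg.Spor.J1) = 1 := by
  haveI := card_le.1
  haveI : Finite (MulAut Cfsg.Spor.J1) := Finite.of_injective _ (DFunLike.coe_injective (F := MulAut Cfsg.Spor.J1))
  refine le_antisymm ?_ Nat.card_pos
  refine Cfsg.Agent.Lib.Compute.card_out_le closure_gens (fun _ : Fin 1 => j1Word [0]) (fun _ => j1Word bW) ?_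
  intro φ
  haveI : Fact (Nat.Prime 7) := ⟨by norm_num⟩
  have hoX : orderOf (j1Word [0]) = 7 := order_word (by norm_num) (by decide +kernel) (by decide +kernel)
  have hfac : (Nat.card Cfsg.Spor.J1).factorization 7 = 1 := by
    rw [card_J1]
    rcases fact_J1 7 (by norm_num) (by norm_num) with h | ⟨-, h⟩
    · norm_num at h
    · exact h
  have hoφ : orderOf (φ (j1Word [0])) = 7 := by rw [MulEquiv.orderOf_eq, hoX]
  have hc : ∀ x : Cfsg.Spor.J1, orderOf x = 7 →
      Nat.card (Subgroup.zpowers x) = 7 ^ (Nat.card Cfsg.Spor.J1).factorization 7 :=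
    fun x hx => by rw [Nat.card_zpowers, hx, hfac, pow_one]
  obtain ⟨g, hg⟩ := MulAction.exists_smul_eq Cfsg.Spor.J1 (Sylow.ofCard _ (hc _ hoφ)) (Sylow.ofCard _ (hc _ hoX))
  have hmem : g * φ (j1Word [0]) * g⁻¹ ∈ Subgroup.zpowers (j1Word [0]) := by
    show g * φ (j1Word [0]) * g⁻¹ ∈ ((Sylow.ofCard _ (hc _ hoX) : Sylow 7 Cfsg.Spor.J1) : Subgroup Cfsg.Spor.J1)
    rw [← hg]
    exact ⟨φ (j1Word [0]), Subgroup.mem_zpowers _, by simp [MulAut.conj_apply]⟩
  obtain ⟨k, hk, hk'⟩ := Finset.mem_image.mp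
    ((isOfFinOrder_of_finite (j1Word [0])).mem_zpowers_iff_mem_range_orderOf.mp hmem)
  rw [Finset.mem_range, hoX] at hk
  have hk0 : (⟨k, hk⟩ : Fin 7) ≠ 0 := by
    intro h0
    have : k = 0 := congrArg Fin.val h0
    rw [this, pow_zero, eq_comm, conj_eq_one_iff] at hk'
    rw [hk', orderOf_one] at hoφ
    norm_num at hoφ
  have hh := word_eq (hW_ok ⟨k, hk⟩ hk0)
  simp only [j1Word_append, j1Word_replicate, hk'] at hh
  set h := j1Word (hW k) * g with hdef
  have hX : h * φ (j1Word [0]) * h⁻¹ = j1Word [0] := by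
    rw [hdef, show j1Word (hW k) * g * φ (j1Word [0]) * (j1Word (hW k) * g)⁻¹ =
      j1Word (hW k) * (g * φ (j1Word [0]) * g⁻¹) * (j1Word (hW k))⁻¹ by group, hh, mul_inv_cancel_right]
  set ψ : MulAut Cfsg.Spor.J1 := MulAut.conj h * φ with hψ
  have hψX : ψ (j1Word [0]) = j1Word [0] := by simpa [hψ] using hX
  have hob : orderOf (j1Word bW) = 2 := order_word Nat.prime_two (by decide +kernel) (by decide +kernel)
  obtain ⟨x, hx⟩ := involution_conj (u := ψ (j1Word bW)) (by rw [MulEquiv.orderOf_eq, hob])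
  obtain ⟨j, hj, hjm⟩ := conj_listed x
  rw [← hx] at hjm
  have hwf := List.all_eq_true.1 orb_wf j (List.mem_range.2 hj)
  have hr := rel_ok
  rw [Bool.and_eq_true] at hr
  have hj3 : j1Word [0, 0, 0] = j1Word [0] ^ 3 := j1Word_replicate 3
  have h1 : (j1Word [0] * ψ (j1Word bW)) ^ bitsVal [true, true, true, true] = 1 := by
    have e := congrArg ψ (pow_of_powBits [true, true, true, true] hr.1)
    rwa [map_pow, map_mul, map_one, hψX] at e
  have h2 : (j1Word [0, 0, 0] * ψ (j1Word bW)) ^ bitsVal [true, false, true] = 1 := by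
    have e := congrArg ψ (pow_of_powBits [true, false, true] hr.2)
    rwa [map_pow, map_mul, map_one, hj3, map_pow, hψX, ← hj3] at e
  have hcand := List.all_eq_true.1 cand_check j (List.mem_range.2 hj)
  simp only [candOk, powBits_one hwf hjm _ h1, powBits_one hwf hjm _ h2, Bool.and_self, Bool.not_true,
    Bool.false_or, List.any_eq_true, List.mem_range] at hcand
  obtain ⟨m, -, hm⟩ := hcand
  have hmeq : j1Word (List.replicate m 0) * ψ (j1Word bW) = j1Word bW * j1Word (List.replicate m 0) := by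
    apply Subtype.ext
    apply Units.ext
    rw [Subgroup.coe_mul, Subgroup.coe_mul, Units.val_mul, Units.val_mul, hjm, coe_j1Word, coe_j1Word,
      ← toMat_mul _ hwf, ← toMat_mul _ (wf_j1WordMat _), eq_of_eqb hm]
  refine ⟨j1Word (List.replicate m 0) * h, 0, ?_, ?_⟩
  · rw [show j1Word (List.replicate m 0) * h * φ (j1Word [0]) * (j1Word (List.replicate m 0) * h)⁻¹ =
      j1Word (List.replicate m 0) * (h * φ (j1Word [0]) * h⁻¹) * (j1Word (List.replicate m 0))⁻¹ by group, hX,
      j1Word_replicate, ((Commute.refl (j1Word [0])).pow_left m).eq, mul_inv_cancel_right]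
  · rw [show j1Word (List.replicate m 0) * h * φ (j1Word bW) * (j1Word (List.replicate m 0) * h)⁻¹ =
      j1Word (List.replicate m 0) * ψ (j1Word bW) * (j1Word (List.replicate m 0))⁻¹ by simp [hψ, mul_assoc],
      hmeq, mul_inv_cancel_right]

end Cfsg.Agent.S2065
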