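import Cfsg.Statements.S2070
import Cfsg.Agent.Lib.LeechOut.Co2
import Cfsg.Agent.Lib.Compute.OutBound

set_option autoImplicit false
open Cfsg

namespace Cfsg.Agent.S2070

/-- The outer automorphism group of the Conway group Co₂ (the stabiliser of a minimal vector of the rank-24 lattice) is trivial: every automorphism is inner. -/
theorem result : Nat.card (Cfsg.Out ↥Cfsg.Spor.Co2) = 1 := by
  have hsq : sqNorm (Spor.leechU : GolayPt → ℤ) = 32 := by decide +kernel
  obtain ⟨g, hg⟩ := Lib.Leech.exists_co0_min Lib.LeechOut.vTwo Spor.leechU S0402.four_facts.1 hsq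
  obtain ⟨e⟩ := Lib.Leech.stabilizer_equiv_of_smul g hg
  exact (Lib.Compute.out_card_congr (e.trans (Lib.LeechOut.stabEquiv Spor.leechU))).symm.trans
    Lib.LeechOut.out_two

end Cfsg.Agent.S2070
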