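import Cfsg.Statements.S2071
import Cfsg.Agent.Lib.LeechOut.Co3
import Cfsg.Agent.Lib.Compute.OutBound

set_option autoImplicit false
open Cfsg

namespace Cfsg.Agent.S2071

/-- The outer automorphism group of the Conway group Co₃ (the stabiliser of a vector of the second shortest length in the rank-24 lattice) is trivial: every automorphism is inner. -/
theorem result : Nat.card (Cfsg.Out ↥Cfsg.Spor.Co3) = 1 := by
  have hsq : sqNorm (Spor.leechV : GolayPt → ℤ) = 48 := by decide +kernel
  obtain ⟨g, hg⟩ := Lib.Leech.exists_co0_three Lib.LeechOut.vThree Spor.leechV S0403.five_facts.2.1 hsq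
  obtain ⟨e⟩ := Lib.Leech.stabilizer_equiv_of_smul g hg
  exact (Lib.Compute.out_card_congr (e.trans (Lib.LeechOut.stabEquiv Spor.leechV))).symm.trans
    Lib.LeechOut.out_three

end Cfsg.Agent.S2071
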