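import Cfsg.Statements.S2087
import Cfsg.Agent.Lib.Compute.CoverCert
import Cfsg.Agent.Lib.Classical.SLTwoSeven

set_option autoImplicit false
open Cfsg

namespace Cfsg.Agent.S2087
open Cfsg.Agent.Lib.Compute
open Matrix

abbrev S7 := SpecialLinearGroup (Fin 2) (ZMod 7)

def qd (g : S7) : ZMod 7 × ZMod 7 × ZMod 7 × ZMod 7 := (g 0 0, g 0 1, g 1 0, g 1 1)

def qm (a b : ZMod 7 × ZMod 7 × ZMod 7 × ZMod 7) : ZMod 7 × ZMod 7 × ZMod 7 × ZMod 7 :=
  (a.1 * b.1 + a.2.1 * b.2.2.1, a.1 * b.2.1 + a.2.1 * b.2.2.2,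
   a.2.2.1 * b.1 + a.2.2.2 * b.2.2.1, a.2.2.1 * b.2.1 + a.2.2.2 * b.2.2.2)

def qList : List (ZMod 7 × ZMod 7 × ZMod 7 × ZMod 7) :=
  [(1, 0, 0, 1), (0, 1, 6, 3), (1, 5, 1, 6), (6, 3, 4, 1), (1, 6, 2, 6), (2, 2, 1, 5), (6, 0, 0, 6), (4, 1, 6, 0), (2, 6, 5, 5), (0, 6, 1, 4), (5, 1, 2, 2), (6, 2, 6, 1), (5, 5, 6, 2), (1, 4, 3, 6), (6, 1, 5, 1), (3, 6, 1, 0)]

def gx : S7 := ⟨!![0, 1; 6, 3], by decide +kernel⟩
def gy : S7 := ⟨!![1, 5; 1, 6], by decide +kernel⟩
def ga : S7 := ⟨!![0, 1; 6, 6], by decide +kernel⟩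
def gb : S7 := ⟨!![0, 1; 6, 2], by decide +kernel⟩

theorem card_S7 : Nat.card S7 = 336 := by
  haveI : Fact (Nat.Prime 7) := ⟨by norm_num⟩
  rw [Cfsg.Agent.Lib.Classical.card_SL2, ZMod.card]
  norm_num

theorem qd_mul (g h : S7) : qd (g * h) = qm (qd g) (qd h) := by
  simp [qd, qm, Matrix.mul_apply, Fin.sum_univ_two]

theorem qd_injective : Function.Injective qd := by
  intro g h e
  simp only [qd, Prod.mk.injEq] at e
  obtain ⟨e1, e2, e3, e4⟩ := e
  ext i j
  fin_cases i <;> fin_cases j <;> assumption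

theorem qList_closed : ∀ a ∈ qList, qm a (qd gx) ∈ qList ∧ qm a (qd gy) ∈ qList := by decide +kernel

theorem orderOf_gx : orderOf gx = 8 :=
  orderOf_eq_prime_pow (p := 2) (n := 2) (by decide +kernel) (by decide +kernel)

theorem index_quat : (Subgroup.closure {gx, gy}).index * 16 = Nat.card S7 := by
  have hsub : ∀ g ∈ Subgroup.closure {gx, gy}, qd g ∈ qList := by
    intro g hg
    rw [← Subgroup.mem_toSubmonoid, Subgroup.closure_toSubmonoid_of_finite] at hg
    induction hg using Submonoid.closure_induction_right with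
    | one => decide +kernel
    | mul_right x _ y hy ih =>
      rw [qd_mul]
      rcases hy with rfl | rfl
      · exact (qList_closed _ ih).1
      · exact (qList_closed _ ih).2
  have hle : Nat.card (Subgroup.closure {gx, gy}) ≤ 16 := by
    let f : Subgroup.closure {gx, gy} → qList.toFinset := fun g =>
      ⟨qd g, List.mem_toFinset.mpr (hsub g g.2)⟩
    have hf : Function.Injective f := fun a b h =>
      Subtype.ext (qd_injective (congrArg Subtype.val h))
    refine (Nat.card_le_card_of_injective f hf).trans ?_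
    rw [Nat.card_eq_fintype_card, Fintype.card_coe]
    exact (List.toFinset_card_le _).trans (le_of_eq (by decide))
  have h8 : Subgroup.zpowers gx ≤ Subgroup.closure {gx, gy} :=
    Subgroup.zpowers_le.mpr (Subgroup.subset_closure (Or.inl rfl))
  obtain ⟨k, hk⟩ := Subgroup.card_dvd_of_le h8
  rw [Nat.card_zpowers, orderOf_gx] at hk
  have hk1 : k ≠ 1 := by
    intro h1
    have heq := Subgroup.eq_of_le_of_card_ge h8 (by rw [Nat.card_zpowers, orderOf_gx]; omega)
    have hy : gy ∈ Subgroup.zpowers gx :=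
      heq ▸ Subgroup.subset_closure (Or.inr rfl)
    obtain ⟨j, hj, he⟩ := Finset.mem_image.mp
      ((IsOfFinOrder.mem_zpowers_iff_mem_range_orderOf (isOfFinOrder_of_finite gx)).mp hy)
    rw [orderOf_gx, Finset.mem_range] at hj
    revert he
    have key : ∀ j < 8, gx ^ j ≠ gy := by decide +kernel
    exact key j hj
  have hpos : 0 < Nat.card (Subgroup.closure {gx, gy}) := Nat.card_pos
  have h16 : Nat.card (Subgroup.closure {gx, gy}) = 16 := by omega
  rw [← h16]
  exact Subgroup.index_mul_card _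

set_option synthInstance.maxHeartbeats 80000 in
theorem mult_S7 {Q : Type*} [Group Q] [Finite Q] (e : S7 ≃* Q) :
    Cfsg.HasCyclicSchurMultiplier Q 1 := by
  have hcard : Nat.card S7 = 336 := card_S7
  refine hasCyclicSchurMultiplier_one_of_primes e [2, 3, 7] ?_ ?_
  · intro p hp hdvd
    rw [hcard, show (336 : ℕ) = 2 ^ 4 * (3 * 7) by norm_num] at hdvd
    simp only [List.mem_cons, List.not_mem_nil, or_false]
    rcases hp.dvd_mul.mp hdvd with h | h
    · exact Or.inl ((Nat.prime_dvd_prime_iff_eq hp Nat.prime_two).mp (hp.dvd_of_dvd_pow h))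
    rcases hp.dvd_mul.mp h with h | h
    · exact Or.inr (Or.inl ((Nat.prime_dvd_prime_iff_eq hp (by norm_num)).mp h))
    · exact Or.inr (Or.inr ((Nat.prime_dvd_prime_iff_eq hp (by norm_num)).mp h))
  intro p hp Δ _ _ τ hs hc hd z hz hz' hzp
  simp only [List.mem_cons, List.not_mem_nil, or_false] at hp
  rcases hp with rfl | rfl | rfl
  · refine eq_one_of_quaternion τ hs hc hz hz' hzp (x := gx) (y := gy) orderOf_gx
      (by decide +kernel) ?_ ?_
    · rw [mul_inv_eq_iff_eq_mul, eq_inv_mul_iff_mul_eq]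
      decide +kernel
    · have h := index_quat
      rw [hcard] at h
      rw [show (Subgroup.closure {gx, gy}).index = 21 by omega]
      norm_num
  · haveI : Fact (Nat.Prime 3) := ⟨Nat.prime_three⟩
    refine eq_one_of_cyclic τ hs hc hz hz' hzp (x := ga) ?_
    have h := Subgroup.index_mul_card (Subgroup.zpowers ga)
    rw [Nat.card_zpowers, orderOf_eq_prime (p := 3) (by decide +kernel) (by decide +kernel), hcard] at h
    rw [show (Subgroup.zpowers ga).index = 112 by omega]
    norm_num
  · haveI : Fact (Nat.Prime 7) := ⟨by norm_num⟩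
    refine eq_one_of_cyclic τ hs hc hz hz' hzp (x := gb) ?_
    have h := Subgroup.index_mul_card (Subgroup.zpowers gb)
    rw [Nat.card_zpowers, orderOf_eq_prime (p := 7) (by decide +kernel) (by decide +kernel), hcard] at h
    rw [show (Subgroup.zpowers gb).index = 48 by omega]
    norm_num

theorem perfect_S7 : Group.IsPerfect S7 := by
  haveI : Fact (Nat.Prime 7) := ⟨by norm_num⟩
  exact ⟨Matrix.SL2.commutator_eq_top (a := (3 : ZMod 7))
    (by decide +revert +kernel) (by decide +revert +kernel)⟩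

theorem card_center_S7 : Nat.card (Subgroup.center S7) = 2 := by
  haveI : Fact (Nat.Prime 7) := ⟨by norm_num⟩
  have h := Subgroup.index_mul_card (Subgroup.center S7)
  have h1 : Nat.card S7 = 336 := card_S7
  have h2 : Nat.card (Matrix.ProjectiveSpecialLinearGroup (Fin 2) (ZMod 7)) = 168 := by
    have := Cfsg.Agent.Lib.Classical.card_PSL2_odd (F := ZMod 7) (by rw [ZMod.card]; decide)
    rw [ZMod.card] at this
    rw [Nat.card_eq_fintype_card] at this ⊢
    omega
  rw [show (Subgroup.center S7).index = 168 from h2, h1] at h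
  omega


/-- Exceptional Schur multiplier: over the field with 2 elements, PSL₃ has Schur multiplier cyclic of order 2 (here the Schur multiplier is described through stem extensions, as in the definitions). -/
theorem result {F : Type*} [Field F] [Fintype F] (hF : Fintype.card F = 2) : Cfsg.HasCyclicSchurMultiplier (Matrix.ProjectiveSpecialLinearGroup (Fin 3) F) 2 := by
  classical
  haveI : Fact (Nat.Prime 2) := ⟨Nat.prime_two⟩
  haveI : Fact (Nat.Prime 7) := ⟨by norm_num⟩
  obtain ⟨e⟩ := Cfsg.Agent.Lib.Classical.nonempty_PSL2_seven (F := ZMod 7) (K := F) (ZMod.card 7) hF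
  let π := QuotientGroup.mk' (Subgroup.center S7)
  let E : ULift.{u_1} S7 ≃* S7 := MulEquiv.ulift
  let σ : ULift.{u_1} S7 →* Matrix.ProjectiveSpecialLinearGroup (Fin 3) F :=
    (e.toMonoidHom.comp π).comp E.toMonoidHom
  have hs : Function.Surjective σ :=
    (e.surjective.comp (QuotientGroup.mk'_surjective _)).comp E.surjective
  have hperf : Group.IsPerfect (ULift.{u_1} S7) := by
    rw [Group.isPerfect_def, commutator_def]
    apply Subgroup.map_injective (f := E.toMonoidHom) E.injective
    rw [Subgroup.map_commutator, Subgroup.map_top_of_surjective _ E.surjective, ← commutator_def]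
    exact Group.isPerfect_def.mp perfect_S7
  have hmult : Cfsg.HasCyclicSchurMultiplier (ULift.{u_1} S7) 1 := by
    exact mult_S7 E.symm
  have hker : σ.ker = (Subgroup.center S7).comap E.toMonoidHom := by
    ext g
    show e (π (E g)) = 1 ↔ E g ∈ Subgroup.center S7
    rw [map_eq_one_iff e e.injective, QuotientGroup.mk'_apply, QuotientGroup.eq_one_iff]
  have hc : σ.ker ≤ Subgroup.center (ULift.{u_1} S7) := by
    intro g hg
    rw [hker, Subgroup.mem_comap, Subgroup.mem_center_iff] at hg
    refine Subgroup.mem_center_iff.mpr fun x => E.injective ?_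
    rw [map_mul, map_mul]
    exact hg (E x)
  have hk : Nat.card σ.ker = 2 := by
    rw [hker, ← Subgroup.card_map_of_injective (f := E.toMonoidHom) E.injective,
      Subgroup.map_comap_eq_self_of_surjective E.surjective]
    exact card_center_S7
  exact hasCyclicSchurMultiplier_of_cover hperf hmult σ hs hc hk

end Cfsg.Agent.S2087
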