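import Cfsg.Statements.S2093
import Cfsg.Agent.Lib.Recognition.Sp6CoverMap
import Cfsg.Agent.Lib.Recognition.Sp6CoverPrimes
import Cfsg.Agent.Lib.Recognition.Sp6Model
-- import your own Cfsg.Agent.* helpers here

set_option autoImplicit false
open Cfsg

namespace Cfsg.Agent.S2093

open Cfsg.Agent.Lib.Compute Cfsg.Agent.Lib.Recognition

/-- Exceptional Schur multiplier: over the field with 2 elements, PSp₆ has Schur multiplier cyclic of order 2 (here the Schur multiplier is described through stem extensions, as in the definitions). -/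
theorem result {F : Type*} [Field F] [Fintype F] (hF : Fintype.card F = 2) : Cfsg.HasCyclicSchurMultiplier (Cfsg.PSp 3 F) 2 := by
  haveI : Fact (Nat.Prime 2) := ⟨Nat.prime_two⟩
  obtain ⟨σ₀, hσ₀⟩ := Sp6Cover.exists_onto
  let e := Sp6Model.pspEquiv hF
  haveI : Finite (Cfsg.PSp 3 F) := Finite.of_equiv _ e.symm.toEquiv
  let Γ := ULift (grp 240 Sp6Cover.covSmall)
  let u : Γ ≃* grp 240 Sp6Cover.covSmall := MulEquiv.ulift
  let σ : Γ →* Cfsg.PSp 3 F := e.symm.toMonoidHom.comp (σ₀.comp u.toMonoidHom)
  have hσ : Function.Surjective σ := e.symm.surjective.comp (hσ₀.comp u.surjective)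
  have hperf : Group.IsPerfect Γ := by
    have h := Group.isPerfect_def.mp Sp6Cover.cov_perfect
    have h2 : (commutator (grp 240 Sp6Cover.covSmall)).map u.symm.toMonoidHom ≤ commutator Γ := by
      rw [commutator_def, Subgroup.map_commutator, commutator_def]
      exact Subgroup.commutator_mono le_top le_top
    rw [h, Subgroup.map_top_of_surjective _ u.symm.surjective] at h2
    exact Group.isPerfect_def.mpr (top_le_iff.mp h2)
  have hk : Nat.card σ.ker = 2 := by
    have h1 := Subgroup.index_mul_card σ.ker
    have h2 : σ.ker.index = 1451520 := by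
      rw [Subgroup.index_ker, MonoidHom.range_eq_top.mpr hσ,
        Nat.card_congr Subgroup.topEquiv.toEquiv, Nat.card_congr e.toEquiv, Sp6Cover.card_psp]
    rw [h2, Nat.card_congr u.toEquiv, Sp6Cover.card_small] at h1
    omega
  exact hasCyclicSchurMultiplier_of_cover hperf (Sp6Cover.mult_trivial u.symm) σ hσ
    (le_center_of_card_two hk) hk

end Cfsg.Agent.S2093
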