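import Cfsg.Statements.S2100
import Cfsg.Agent.Lib.Chev.Mult.Basic
import Cfsg.Agent.Lib.Chev.WeightData
-- import your own Cfsg.Agent.* helpers here

set_option autoImplicit false
open Cfsg

namespace Cfsg.Agent.S2100

/-- Schur multipliers of the Chevalley groups of type G₂: over a field with q ≥ 5 elements the Schur multiplier of G₂(q) is trivial (here the Schur multiplier is described through stem extensions, as in the definitions); the cases q = 3 and q = 4 are exceptional and q = 2 gives a non-simple group. -/
theorem result {F : Type*} [Field F] [Fintype F] (hF : 5 ≤ Fintype.card F) : Cfsg.HasCyclicSchurMultiplier ↥(Cfsg.Lie.chevG2.group F) 1 := by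
  classical
  have hK : ∃ s : Finset F, 4 < s.card := ⟨Finset.univ, by rw [Finset.card_univ]; omega⟩
  obtain ⟨v, hv, hv2⟩ := Cfsg.Agent.Lib.Chev.exists_pow_ne_one hK (d := 1) le_rfl (by norm_num)
  refine Cfsg.Agent.Lib.Chev.goodG2.group_multiplier_one Cfsg.Agent.Lib.Chev.adjG2
    (Cfsg.Agent.Lib.Chev.c_perfect_group (by simp) fun _ => ⟨v, hv, by simpa using hv2⟩)
    (Cfsg.Agent.Lib.Chev.goodG2.lifts_of_five hK (by decide +kernel) (by decide +kernel)) ?_
  refine Cfsg.Agent.Lib.Chev.goodG2.injective_torHom Cfsg.Agent.Lib.Chev.smithG2 fun a ha => ?_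
  have : a < 2 := ha
  interval_cases a <;> simp

end Cfsg.Agent.S2100
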