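import Cfsg.Statements.S2103
import Cfsg.Agent.Lib.Chev.Mult.SmallData
import Cfsg.Agent.Lib.Chev.TorusCard
-- import your own Cfsg.Agent.* helpers here

set_option autoImplicit false
open Cfsg

namespace Cfsg.Agent.S2103

/-- Schur multipliers of the Chevalley groups of type F₄: over a finite field with more than 2 elements the Schur multiplier of F₄(q) is trivial (here the Schur multiplier is described through stem extensions, as in the definitions); q = 2 is exceptional. -/
theorem result {F : Type*} [Field F] [Fintype F] (hF : 3 ≤ Fintype.card F) : Cfsg.HasCyclicSchurMultiplier ↥(Cfsg.Lie.chevF4.group F) 1 := by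
    refine Cfsg.Agent.Lib.Chev.goodF4.group_multiplier_one Cfsg.Agent.Lib.Chev.adjF4
      (Cfsg.Agent.Lib.Chev.c_perfect_group (by simp) fun h => ?_)
      (Cfsg.Agent.Lib.Chev.lifts_F4 hF) ?_
    · exfalso
      simp only [List.mem_cons, List.not_mem_nil, or_false] at h
      rcases h with h | h <;> exact absurd (congrArg Cfsg.Lie.ChevalleyDatum.rank h) (by decide)
    refine Cfsg.Agent.Lib.Chev.goodF4.injective_torHom Cfsg.Agent.Lib.Chev.smithF4 fun a ha => ?_
    have : a < 4 := ha
    interval_cases a <;> simp

end Cfsg.Agent.S2103
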