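import Cfsg.Statements.S2107
import Cfsg.Agent.Lib.Chev.Mult.LacedData
import Cfsg.Agent.Lib.Chev.WeightData
-- import your own Cfsg.Agent.* helpers here

set_option autoImplicit false
open Cfsg

namespace Cfsg.Agent.S2107

/-- Schur multipliers of the Chevalley groups of type E₈: over every finite field the Schur multiplier of E₈(q) is trivial (here the Schur multiplier is described through stem extensions, as in the definitions). -/
theorem result {F : Type*} [Field F] [Fintype F] : Cfsg.HasCyclicSchurMultiplier ↥(Cfsg.Lie.chevE8.group F) 1 := by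
  refine Cfsg.Agent.Lib.Chev.goodE8.group_multiplier_one Cfsg.Agent.Lib.Chev.adjE8
    (Cfsg.Agent.Lib.Chev.c_perfect_group (by simp) fun h => ?_)
    (Cfsg.Agent.Lib.Chev.goodE8.lifts_of_laced Cfsg.Agent.Lib.Chev.lacedE8) ?_
  · exfalso
    simp only [List.mem_cons, List.not_mem_nil, or_false] at h
    rcases h with h | h <;> exact absurd (congrArg Cfsg.Lie.ChevalleyDatum.rank h) (by decide)
  refine Cfsg.Agent.Lib.Chev.goodE8.injective_torHom Cfsg.Agent.Lib.Chev.smithE8 fun a ha => ?_
  have : a < 8 := ha
  interval_cases a <;> simp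

end Cfsg.Agent.S2107
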