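import Cfsg.Statements.S2115
import Cfsg.Agent.Lib.TitsMult.Main

set_option autoImplicit false
open Cfsg

namespace Cfsg.Agent.S2115

/-- The Tits group, the commutator subgroup of ²F₄(2), has trivial Schur multiplier (here the Schur multiplier is described through stem extensions, as in the definitions). -/
theorem result : Cfsg.HasCyclicSchurMultiplier Cfsg.Lie.TitsGroup 1 := by
  obtain ⟨A⟩ := Cfsg.Agent.Lib.Chev.Tw.F4.exists_par (K := ZMod 2) (m := 0) (by simp [ZMod.card])
  refine Cfsg.Agent.Lib.Compute.hasCyclicSchurMultiplier_one_of_primes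
    (H := ↥(commutator ↥(Cfsg.Agent.Lib.Chev.Tw.F4.G1 (ZMod 2) 0))) (MulEquiv.refl _) [2, 3, 5, 13]
    ?_ ?_
  · intro p hp hdvd
    rw [Cfsg.Agent.Lib.Chev.Tw.F4.card_comm A,
      show 17971200 = 2 ^ 11 * (3 ^ 3 * (5 ^ 2 * 13)) by norm_num] at hdvd
    simp only [List.mem_cons, List.not_mem_nil, or_false]
    have key : ∀ q : ℕ, q.Prime → ∀ k, p ∣ q ^ k → p = q := fun q hq k h =>
      (Nat.prime_dvd_prime_iff_eq hp hq).mp (hp.dvd_of_dvd_pow h)
    rcases hp.dvd_mul.mp hdvd with h | h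
    · exact Or.inl (key 2 Nat.prime_two _ h)
    rcases hp.dvd_mul.mp h with h | h
    · exact Or.inr (Or.inl (key 3 Nat.prime_three _ h))
    rcases hp.dvd_mul.mp h with h | h
    · exact Or.inr (Or.inr (Or.inl (key 5 (by norm_num) _ h)))
    · exact Or.inr (Or.inr (Or.inr (key 13 (by norm_num) 1 (by simpa using h))))
  · intro p hp Δ _ _ τ hs hc hd z hz _ hzp
    exact Cfsg.Agent.Lib.TitsMult.eq_one_of_prime A hp τ hs hc hd hz hzp

end Cfsg.Agent.S2115
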