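import Cfsg.Statements.S2132
import Cfsg.Agent.Lib.Recognition.McLInvMain
-- import your own Cfsg.Agent.* helpers here

set_option autoImplicit false
open Cfsg

namespace Cfsg.Agent.S2132

/-- The McLaughlin group (as a two-vector stabiliser in the automorphism group of the rank-24 lattice) has a single conjugacy class of involutions, and the centraliser of an involution is a non-split double cover of the alternating group of degree 8. -/
theorem result : (∀ x y : ↥Cfsg.Spor.McL, orderOf x = 2 → orderOf y = 2 → IsConj x y) ∧ ∃ t : ↥Cfsg.Spor.McL, orderOf t = 2 ∧ Cfsg.IsNonsplitDoubleCover ↥(Subgroup.centralizer ({t} : Set ↥Cfsg.Spor.McL)) ↥(alternatingGroup (Fin 8)) := by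
  obtain ⟨e⟩ := Cfsg.Agent.Lib.Recognition.McLOut.exists_equiv_sporMcL
  obtain ⟨hconj, t, ht, hC⟩ := Cfsg.Agent.Lib.Recognition.McLInv.main
  refine ⟨fun x y hx hy => ?_, e t, by rw [e.orderOf_eq, ht], ?_⟩
  · have h := hconj (e.symm x) (e.symm y) (by rw [e.symm.orderOf_eq, hx]) (by rw [e.symm.orderOf_eq, hy])
    simpa using e.toMonoidHom.map_isConj h
  · refine Cfsg.Agent.Lib.Recognition.McLInv.doubleCover_congr ((e.subgroupMap _).trans
      (MulEquiv.subgroupCongr ?_)) hC
    ext z
    show z ∈ Subgroup.map e.toMonoidHom _ ↔ _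
    rw [Subgroup.mem_map_equiv, Subgroup.mem_centralizer_singleton_iff,
      Subgroup.mem_centralizer_singleton_iff]
    exact ⟨fun h => e.symm.injective (by simp [map_mul, h]),
      fun h => e.injective (by simp [map_mul, h])⟩

end Cfsg.Agent.S2132
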