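import Cfsg.Statements.S2135
import Cfsg.Agent.Lib.J3.Local
import Cfsg.Agent.Lib.Classification.Extraspecial

set_option autoImplicit false
open Cfsg

namespace Cfsg.Agent.S2135

/-- For any field with 4 elements and any element ω of it with ω² + ω + 1 = 0: in the Janko group J₃ (the group generated by explicit 9 × 9 matrices over that field built from ω, taken modulo its centre) all involutions are conjugate, and the centraliser C of an involution has a normal extraspecial subgroup Q of order 32 containing no elementary abelian subgroup of order 8, complemented in C, with C / Q isomorphic to the alternating group of degree 5 (shape 2^{1+4}_-:A₅). -/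
theorem result {F : Type*} [Field F] [Fintype F] (hF : Fintype.card F = 4) (ω : F) (hω : ω ^ 2 + ω + 1 = 0) : (∀ x y : Cfsg.Spor.J3 F ω, orderOf x = 2 → orderOf y = 2 → IsConj x y) ∧ ∃ t : Cfsg.Spor.J3 F ω, orderOf t = 2 ∧ ∃ (Q : Subgroup ↥(Subgroup.centralizer ({t} : Set (Cfsg.Spor.J3 F ω)))) (_ : Q.Normal), Cfsg.IsExtraspecial 2 Q ∧ Nat.card Q = 32 ∧ (∀ E : Subgroup Q, Cfsg.IsElementaryAbelian 2 E → Nat.card E ≤ 2 ^ 2) ∧ (∃ H : Subgroup ↥(Subgroup.centralizer ({t} : Set (Cfsg.Spor.J3 F ω))), Q.IsComplement' H) ∧ Nonempty (↥(Subgroup.centralizer ({t} : Set (Cfsg.Spor.J3 F ω))) ⧸ Q ≃* ↥(alternatingGroup (Fin 5))) := by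
  obtain ⟨L⟩ := Lib.J3.exists_localData hF hω
  haveI : Finite (Cfsg.Spor.J3 F ω) :=
    Nat.finite_of_card_ne_zero (by rw [L.card_eq]; norm_num)
  refine ⟨fun x y hx hy => (L.conj_of_involution hx).symm.trans (L.conj_of_involution hy),
    L.t, L.orderOf_t, ?_⟩
  have hQC : L.Q.sub ≤ L.cent := L.Q_le_P.trans L.P_le_cent
  let eQ := Subgroup.subgroupOfEquivOfLe hQC
  have hN : (L.Q.sub.subgroupOf L.cent).Normal :=
    ⟨fun n hn g => Subgroup.mem_subgroupOf.mpr
      (L.cent_normalizes g.2 _ (Subgroup.mem_subgroupOf.mp hn))⟩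
  have hcQ : Nat.card (L.Q.sub.subgroupOf L.cent) = 32 := by
    rw [Nat.card_congr eQ.toEquiv, L.Q.card_sub]
  have hcH : Nat.card (L.H.sub.subgroupOf L.cent) = 60 := by
    rw [Nat.card_congr (Subgroup.subgroupOfEquivOfLe L.H_le_cent).toEquiv, L.H.card_sub]
  have hdis : Disjoint (L.Q.sub.subgroupOf L.cent) (L.H.sub.subgroupOf L.cent) := by
    rw [disjoint_iff, Subgroup.eq_bot_iff_forall]
    rintro ⟨g, hg⟩ ⟨hgQ, hgH⟩
    obtain ⟨x, hx⟩ : ∃ x, L.Q.el x = g := Subgroup.mem_subgroupOf.mp hgQ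
    obtain ⟨h, hh⟩ : ∃ h, L.H.el h = g := Subgroup.mem_subgroupOf.mp hgH
    have e : L.prodMap (x, 0) = L.prodMap (0, h) := Subtype.ext (by
      show L.Q.el x * L.H.el 0 = L.Q.el 0 * L.H.el h
      rw [L.H.el_one, L.Q.el_one, mul_one, one_mul, hx, hh])
    have hx0 : x = 0 := (Prod.mk.inj (L.prodMap_inj e)).1
    rw [hx0, L.Q.el_one] at hx
    exact Subtype.ext hx.symm
  have hcomp : (L.Q.sub.subgroupOf L.cent).IsComplement' (L.H.sub.subgroupOf L.cent) :=
    Subgroup.isComplement'_of_card_mul_and_disjoint (by rw [hcQ, hcH, L.card_cent]) hdis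
  refine ⟨L.Q.sub.subgroupOf L.cent, hN,
    Lib.Classification.isExtraspecial_of_mulEquiv eQ.symm L.isExtraspecial_Q, hcQ, ?_,
    ⟨_, hcomp⟩, ?_⟩
  · intro E hE
    let f : ↥(L.Q.sub.subgroupOf L.cent) →* Cfsg.Spor.J3 F ω :=
      L.Q.sub.subtype.comp eQ.toMonoidHom
    have hf : Function.Injective f := Subtype.val_injective.comp eQ.injective
    rw [← Subgroup.card_map_of_injective hf (K := E)]
    refine L.no_eight _ ?_ ?_ ?_
    · rintro _ ⟨e, -, rfl⟩; exact (eQ e).2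
    · rintro _ ⟨a, ha, rfl⟩ _ ⟨b, hb, rfl⟩
      rw [← map_mul, ← map_mul]
      exact congrArg f (congrArg Subtype.val (hE.1.is_comm.comm ⟨a, ha⟩ ⟨b, hb⟩))
    · rintro _ ⟨a, ha, rfl⟩
      rw [← map_mul, ← sq, hE.2 a ha, map_one]
  · obtain ⟨a⟩ := L.H_iso_alternating
    haveI := hN
    exact ⟨hcomp.symm.QuotientMulEquiv.trans
      ((Subgroup.subgroupOfEquivOfLe L.H_le_cent).trans a)⟩

end Cfsg.Agent.S2135
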