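import Cfsg.Statements.S2149
import Cfsg.Agent.Lib.Classical.U35Iso
-- import your own Cfsg.Agent.* helpers here

set_option autoImplicit false
open Cfsg

namespace Cfsg.Agent.S2149

/-- Minimal index of a proper subgroup of PSU₃(5), realised over the field with 25 elements: every proper subgroup has index at least 50, and that index is attained. -/
theorem result {F : Type*} [Field F] [Fintype F] (hF : Fintype.card F = 25) : (∀ H : Subgroup (Cfsg.PSU 3 F 5), H ≠ ⊤ → 50 ≤ H.index) ∧ (∃ H : Subgroup (Cfsg.PSU 3 F 5), H.index = 50) := by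
  obtain ⟨e⟩ := Cfsg.Agent.Lib.Classical.U35.psu_iso hF
  refine ⟨fun H hH => ?_, ?_⟩
  · have h1 : (H.map e.toMonoidHom).index = H.index := Subgroup.index_map_equiv H e
    rw [← h1]
    refine Cfsg.Agent.Lib.Classical.U35.index_ge fun htop => hH ?_
    have := congrArg (Subgroup.comap e.toMonoidHom) htop
    rwa [Subgroup.comap_map_eq_self_of_injective e.injective, Subgroup.comap_top] at this
  · obtain ⟨K, hK⟩ := Cfsg.Agent.Lib.Classical.U35.exists_index_fifty
    exact ⟨K.comap e.toMonoidHom, by rw [Subgroup.index_comap_of_surjective _ e.surjective, hK]⟩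

end Cfsg.Agent.S2149
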