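import Cfsg.Statements.S2160
import Cfsg.Agent.Lib.Chev.Char
import Cfsg.Agent.Lib.Chev.All
-- import your own Cfsg.Agent.* helpers here

set_option autoImplicit false
open Cfsg

namespace Cfsg.Agent.S2160

/-- In a Chevalley group of type G₂, B₂, D₄, F₄, E₆, E₇ or E₈ over a finite field, every field automorphism commutes with every graph automorphism. -/
theorem result {F : Type*} [Field F] [Finite F] (D : Cfsg.Lie.ChevalleyDatum) (hD : D ∈ [Cfsg.Lie.chevG2, Cfsg.Lie.chevB2, Cfsg.Lie.chevD4, Cfsg.Lie.chevF4, Cfsg.Lie.chevE6, Cfsg.Lie.chevE7, Cfsg.Lie.chevE8]) (f g : ↥(D.group F) ≃* ↥(D.group F))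
    (hf : D.IsFieldAut f) (hg : D.IsGraphAut g) (y : ↥(D.group F)) : f (g y) = g (f y) := by
  obtain ⟨T, G⟩ := Cfsg.Agent.Lib.Chev.exists_good hD
  obtain ⟨σ, hσ⟩ := hf
  obtain ⟨π, -, hπ⟩ := hg
  have hle : D.group F ≤ ((f.toMonoidHom.comp g.toMonoidHom).eqLocus
      (g.toMonoidHom.comp f.toMonoidHom)).map (D.group F).subtype := by
    refine G.group_le_of_simple fun i hi t => ⟨?_, ?_⟩
    · have hs := G.sim_lt hi
      refine ⟨⟨G.X F _ t, G.X_mem_group hs t⟩, ?_, rfl⟩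
      show f (g ⟨G.X F _ t, _⟩) = g (f ⟨G.X F _ t, _⟩)
      refine Subtype.ext (Units.ext ?_)
      have h1 := (hπ ⟨G.X F _ t, G.X_mem_group hs t⟩ ⟨i, hi⟩ t).1 (by rw [G.simple_eq]; exact G.X_val _ _)
      have h2 := hσ ⟨G.X F _ t, G.X_mem_group hs t⟩ _ t hs (G.X_val _ _)
      rw [hσ _ _ _ (by rw [G.simple_eq]; exact G.sim_lt (π ⟨i, hi⟩).isLt) h1,
        (hπ _ ⟨i, hi⟩ _).1 h2, map_pow]
    · have hs := G.ng_lt (G.sim_lt hi)
      refine ⟨⟨G.X F _ t, G.X_mem_group hs t⟩, ?_, rfl⟩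
      show f (g ⟨G.X F _ t, _⟩) = g (f ⟨G.X F _ t, _⟩)
      refine Subtype.ext (Units.ext ?_)
      have e := G.neg_eq (G.sim_lt hi)
      have h1 := (hπ ⟨G.X F _ t, G.X_mem_group hs t⟩ ⟨i, hi⟩ t).2 (by
        rw [G.simple_eq, e]; exact G.X_val _ _)
      have h2 := hσ ⟨G.X F _ t, G.X_mem_group hs t⟩ _ t hs (G.X_val _ _)
      rw [hσ _ _ _ (by rw [G.simple_eq, G.neg_eq (G.sim_lt (π ⟨i, hi⟩).isLt)]
                       exact G.ng_lt (G.sim_lt (π ⟨i, hi⟩).isLt)) h1,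
        (hπ _ ⟨i, hi⟩ _).2 (by rw [G.simple_eq, e]; exact h2), map_pow]
  obtain ⟨z, hz, e⟩ := hle y.2
  rw [← Subtype.ext (show (z : GL D.Idx F) = y from e)]
  exact hz

end Cfsg.Agent.S2160
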