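import Cfsg.Statements.S2162
import Mathlib
-- import your own Cfsg.Agent.* helpers here

set_option autoImplicit false
open Cfsg

namespace Cfsg.Agent.S2162


variable {F : Type*} [Field F] {V : Type*} [AddCommGroup V] [Module F V] [FiniteDimensional F V]

/-- Normal form of a nilpotent map of square zero. -/
theorem exists_coord (N : V →ₗ[F] V) (hN : ∀ v, N (N v) = 0) {r s : ℕ}
    (hr : Module.finrank F (LinearMap.range N) = r) (hs : Module.finrank F V = r + r + s) :
    ∃ e : (((Fin r → F) × (Fin r → F)) × (Fin s → F)) ≃ₗ[F] V,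
      ∀ z, N (e z) = e ((0, z.1.1), 0) := by
  obtain ⟨W, hW⟩ := Submodule.exists_isCompl (LinearMap.ker N)
  obtain ⟨U', hU'⟩ := Submodule.exists_isCompl (LinearMap.range N)
  set U := U' ⊓ LinearMap.ker N
  have hRK : LinearMap.range N ≤ LinearMap.ker N := by
    rintro _ ⟨v, rfl⟩
    exact hN v
  have hWinj : ∀ w ∈ W, N w = 0 → w = 0 := fun w hw h =>
    Submodule.disjoint_def.1 hW.disjoint w h hw
  have hrange : LinearMap.range N = W.map N := by
    refine le_antisymm ?_ LinearMap.map_le_range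
    rintro _ ⟨v, rfl⟩
    obtain ⟨k, hk, w, hw, rfl⟩ := Submodule.mem_sup.1
      (show v ∈ LinearMap.ker N ⊔ W by rw [hW.sup_eq_top]; exact Submodule.mem_top)
    exact ⟨w, hw, by rw [map_add, LinearMap.mem_ker.1 hk, zero_add]⟩
  have hWr : Module.finrank F W = r := by
    rw [← hr, hrange]
    have hinj : Function.Injective (N.domRestrict W) := by
      rw [← LinearMap.ker_eq_bot, LinearMap.ker_eq_bot']
      exact fun w h => Subtype.ext (hWinj w.1 w.2 h)
    rw [← LinearMap.finrank_range_of_inj hinj, LinearMap.range_domRestrict]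
  let eW : (Fin r → F) ≃ₗ[F] W := LinearEquiv.ofFinrankEq _ _ (by rw [Module.finrank_fin_fun, hWr])
  let L : (((Fin r → F) × (Fin r → F)) × U) →ₗ[F] V :=
    (((W.subtype ∘ₗ eW.toLinearMap).coprod (N ∘ₗ W.subtype ∘ₗ eW.toLinearMap)).coprod U.subtype)
  have hLinj : Function.Injective L := by
    rw [← LinearMap.ker_eq_bot, LinearMap.ker_eq_bot']
    rintro ⟨⟨x, y⟩, ⟨u, hu⟩⟩ h
    simp only [L, LinearMap.coprod_apply, LinearMap.coe_comp, Function.comp_apply,
      LinearEquiv.coe_coe, Submodule.coe_subtype] at h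
    have h1 : N (eW x : V) = 0 := by
      have := congrArg N h
      rwa [map_add, map_add, hN, LinearMap.mem_ker.1 hu.2, add_zero, add_zero, map_zero] at this
    have hx : x = 0 := eW.injective (by rw [map_zero]; exact Subtype.ext (hWinj _ (eW x).2 h1))
    rw [hx, map_zero, Submodule.coe_zero, zero_add] at h
    have hu0 : u = 0 := by
      refine Submodule.disjoint_def.1 hU'.disjoint u ?_ hu.1
      rw [eq_neg_of_add_eq_zero_right h]
      exact neg_mem ⟨_, rfl⟩
    rw [hu0, add_zero] at h
    have hy : y = 0 := eW.injective (by rw [map_zero]; exact Subtype.ext (hWinj _ (eW y).2 h))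
    subst hx hy hu0
    rfl
  have hLsurj : Function.Surjective L := by
    intro v
    obtain ⟨k, hk, w, hw, rfl⟩ := Submodule.mem_sup.1
      (show v ∈ LinearMap.ker N ⊔ W by rw [hW.sup_eq_top]; exact Submodule.mem_top)
    obtain ⟨p, hp, u, hu, rfl⟩ := Submodule.mem_sup.1
      (show k ∈ LinearMap.range N ⊔ U' by rw [hU'.sup_eq_top]; exact Submodule.mem_top)
    have huK : u ∈ LinearMap.ker N := by
      have := sub_mem hk (hRK hp)
      rwa [add_sub_cancel_left] at this
    rw [hrange] at hp
    obtain ⟨w', hw', rfl⟩ := hp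
    refine ⟨((eW.symm ⟨w, hw⟩, eW.symm ⟨w', hw'⟩), ⟨u, hu, huK⟩), ?_⟩
    simp [L]
    abel
  let e₀ := LinearEquiv.ofBijective L ⟨hLinj, hLsurj⟩
  have hUs : Module.finrank F U = s := by
    have := e₀.finrank_eq
    rw [Module.finrank_prod, Module.finrank_prod, Module.finrank_fin_fun, hs] at this
    omega
  let eU : (Fin s → F) ≃ₗ[F] U := LinearEquiv.ofFinrankEq _ _ (by rw [Module.finrank_fin_fun, hUs])
  refine ⟨((LinearEquiv.refl F _).prodCongr eU).trans e₀, fun z => ?_⟩
  have hu := LinearMap.mem_ker.1 (eU z.2).2.2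
  show N (L (z.1, eU z.2)) = L ((0, z.1.1), eU 0)
  simp [L, hN, hu]

/-- Conjugacy of involutions in the special linear group over a finite field of characteristic two, in dimension at least 3: two elements of order 2 of SL_n(F) are conjugate in SL_n(F) exactly when the matrices a − 1 and b − 1 have the same rank (the rank of a − 1 is the dimension of the commutator space [V, a]). -/
theorem result {F : Type*} [Field F] [Fintype F] [CharP F 2] {n : ℕ} (hn : 3 ≤ n) (a b : Matrix.SpecialLinearGroup (Fin n) F) (ha : orderOf a = 2) (hb : orderOf b = 2) :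
    IsConj a b ↔ ((a : Matrix (Fin n) (Fin n) F) - 1).rank = ((b : Matrix (Fin n) (Fin n) F) - 1).rank := by
  classical
  constructor
  · intro h
    obtain ⟨g, rfl⟩ := isConj_iff.1 h
    have e : ((g * a * g⁻¹ : Matrix.SpecialLinearGroup (Fin n) F) : Matrix (Fin n) (Fin n) F) - 1 =
        (g : Matrix (Fin n) (Fin n) F) * ((a : Matrix (Fin n) (Fin n) F) - 1) *
          ((g⁻¹ : Matrix.SpecialLinearGroup (Fin n) F) : Matrix (Fin n) (Fin n) F) := by
      rw [Matrix.mul_sub, Matrix.sub_mul, Matrix.mul_one, ← Matrix.SpecialLinearGroup.coe_mul g g⁻¹,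
        mul_inv_cancel, Matrix.SpecialLinearGroup.coe_one, Matrix.SpecialLinearGroup.coe_mul,
        Matrix.SpecialLinearGroup.coe_mul]
    rw [e, Matrix.rank_mul_eq_left_of_isUnit_det _ _ (by rw [Matrix.SpecialLinearGroup.det_coe]; exact isUnit_one),
      Matrix.rank_mul_eq_right_of_isUnit_det _ _ (by rw [Matrix.SpecialLinearGroup.det_coe]; exact isUnit_one)]
  intro hrk
  have hsq : ∀ c : Matrix.SpecialLinearGroup (Fin n) F, orderOf c = 2 → ∀ v,
      Matrix.toLin' ((c : Matrix (Fin n) (Fin n) F) - 1) (Matrix.toLin' ((c : Matrix (Fin n) (Fin n) F) - 1) v) = 0 := by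
    intro c hc v
    have h : (c : Matrix (Fin n) (Fin n) F) * (c : Matrix (Fin n) (Fin n) F) = 1 := by
      rw [← Matrix.SpecialLinearGroup.coe_mul, ← sq, ← hc, pow_orderOf_eq_one, Matrix.SpecialLinearGroup.coe_one]
    have hz : ((c : Matrix (Fin n) (Fin n) F) - 1) * ((c : Matrix (Fin n) (Fin n) F) - 1) = 0 := by
      rw [mul_sub, sub_mul, h, one_mul, mul_one]
      ext i j
      simp [Matrix.sub_apply, sub_eq_add_neg, CharTwo.neg_eq, CharTwo.add_self_eq_zero, add_comm, ← add_assoc]
    rw [← LinearMap.comp_apply, ← Matrix.toLin'_mul, hz, map_zero, LinearMap.zero_apply]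
  set A := Matrix.toLin' ((a : Matrix (Fin n) (Fin n) F) - 1) with hAd
  set B := Matrix.toLin' ((b : Matrix (Fin n) (Fin n) F) - 1) with hBd
  set r := ((a : Matrix (Fin n) (Fin n) F) - 1).rank with hr
  have hrA : Module.finrank F (LinearMap.range A) = r := by
    rw [hr, Matrix.rank, hAd, Matrix.toLin'_apply']
  have hrB : Module.finrank F (LinearMap.range B) = r := by
    rw [hrk, Matrix.rank, hBd, Matrix.toLin'_apply']
  have hle : r + r ≤ n := by
    have h1 : LinearMap.range A ≤ LinearMap.ker A := by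
      rintro _ ⟨v, rfl⟩
      exact hsq a ha v
    have h2 := LinearMap.finrank_range_add_finrank_ker A
    have h3 := Submodule.finrank_mono h1
    rw [Module.finrank_fin_fun] at h2
    omega
  have hs : Module.finrank F (Fin n → F) = r + r + (n - (r + r)) := by
    rw [Module.finrank_fin_fun]; omega
  obtain ⟨ea, hea⟩ := exists_coord A (hsq a ha) hrA hs
  obtain ⟨eb, heb⟩ := exists_coord B (hsq b hb) hrB hs
  have hr1 : 0 < r := by
    by_contra h0
    have hA0 : A = 0 := by
      rw [← LinearMap.range_eq_bot, ← Submodule.finrank_eq_zero, hrA]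
      omega
    have h1 : (a : Matrix (Fin n) (Fin n) F) = 1 := by
      rw [hAd, LinearEquiv.map_eq_zero_iff, sub_eq_zero] at hA0
      exact hA0
    rw [show a = 1 from Subtype.ext h1, orderOf_one] at ha
    omega
  have hd : LinearMap.det (ea.symm.trans eb).toLinearMap ≠ 0 :=
    (LinearEquiv.isUnit_det' (ea.symm.trans eb)).ne_zero
  obtain ⟨d, hd2⟩ := (PerfectRing.bijective_frobenius (R := F) (p := 2)).2
    (LinearMap.det (ea.symm.trans eb).toLinearMap)⁻¹
  replace hd2 : d ^ 2 = _ := hd2
  let v : Fin r → F := fun i => if i = ⟨0, hr1⟩ then d else 1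
  let S : (Fin r → F) →ₗ[F] (Fin r → F) := Matrix.toLin' (Matrix.diagonal v)
  have hS : LinearMap.det S = d := by
    rw [LinearMap.det_toLin', Matrix.det_diagonal]
    simp [v]
  let D := (S.prodMap S).prodMap (LinearMap.id : (Fin (n - (r + r)) → F) →ₗ[F] _)
  let P : (Fin n → F) →ₗ[F] (Fin n → F) := eb.toLinearMap ∘ₗ D ∘ₗ ea.symm.toLinearMap
  have hPd : LinearMap.det P = 1 := by
    have : P = (ea.symm.trans eb).toLinearMap ∘ₗ (ea.toLinearMap ∘ₗ D ∘ₗ ea.symm.toLinearMap) := by
      refine LinearMap.ext fun x => ?_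
      simp [P]
    rw [this, LinearMap.det_comp, LinearMap.det_conj, LinearMap.det_prodMap, LinearMap.det_prodMap,
      hS, LinearMap.det_id, mul_one, ← sq, hd2, mul_inv_cancel₀ hd]
  have hPm : Matrix.det (LinearMap.toMatrix' P) = 1 := by rw [LinearMap.det_toMatrix', hPd]
  have hcomm : ∀ x, P (A x) = B (P x) := by
    intro x
    obtain ⟨z, rfl⟩ := ea.surjective x
    simp only [P, LinearMap.coe_comp, Function.comp_apply, LinearEquiv.coe_coe, hea, LinearEquiv.symm_apply_apply, heb]
    simp [D]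
  let Pg : Matrix.SpecialLinearGroup (Fin n) F := ⟨LinearMap.toMatrix' P, hPm⟩
  have hPg : (Pg : Matrix (Fin n) (Fin n) F) = LinearMap.toMatrix' P := rfl
  refine isConj_iff.2 ⟨Pg, ?_⟩
  rw [mul_inv_eq_iff_eq_mul]
  apply Subtype.ext
  apply Matrix.toLin'.injective
  rw [Matrix.SpecialLinearGroup.coe_mul, Matrix.SpecialLinearGroup.coe_mul, hPg, Matrix.toLin'_mul,
    Matrix.toLin'_mul, Matrix.toLin'_toMatrix']
  refine LinearMap.ext fun x => ?_
  have h := hcomm x
  simp only [hAd, hBd, map_sub, Matrix.toLin'_one, LinearMap.sub_apply, LinearMap.id_apply] at h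
  simpa using h

end Cfsg.Agent.S2162
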