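import Cfsg.Statements.S2163
import Cfsg.Agent.Lib.KnownA.RankLemmas

set_option autoImplicit false
open Cfsg

namespace Cfsg.Agent.S2163

/-- Over a finite field of characteristic two and for n ≥ 3: for every ℓ with 1 ≤ ℓ and 2ℓ ≤ n, the matrix j_ℓ that is the identity plus the entries 1 in positions (n − ℓ + i, i) for i < ℓ (an identity block of size ℓ in the lower left corner) lies in SL_n(F), has order 2, and j_ℓ − 1 has rank ℓ. Together with the conjugacy criterion by rank, these matrices represent the conjugacy classes of involutions of SL_n(F). -/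
theorem result {F : Type*} [Field F] [Fintype F] [CharP F 2] {n : ℕ} (hn : 3 ≤ n) (ℓ : ℕ) (h1 : 1 ≤ ℓ) (h2 : 2 * ℓ ≤ n) :
    ∃ a : Matrix.SpecialLinearGroup (Fin n) F, (a : Matrix (Fin n) (Fin n) F) = 1 + Matrix.of (fun i j : Fin n => if j.val < ℓ ∧ i.val = j.val + (n - ℓ) then (1 : F) else 0) ∧ orderOf a = 2 ∧ ((a : Matrix (Fin n) (Fin n) F) - 1).rank = ℓ := by
  set E : Matrix (Fin n) (Fin n) F :=
    Matrix.of (fun i j : Fin n => if j.val < ℓ ∧ i.val = j.val + (n - ℓ) then (1 : F) else 0) with hE
  have hEE : E * E = 0 := by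
    ext i j
    rw [Matrix.mul_apply]
    refine Finset.sum_eq_zero fun k _ => ?_
    simp only [hE, Matrix.of_apply, mul_ite, mul_one, mul_zero]
    split_ifs with h3 h4
    · omega
    · rfl
    · rfl
  have hdet : (1 + E).det = 1 := by
    rw [Matrix.det_of_lowerTriangular]
    · refine Finset.prod_eq_one fun i _ => ?_
      simp only [hE, Matrix.add_apply, Matrix.one_apply_eq, Matrix.of_apply]
      rw [if_neg (by omega), add_zero]
    · intro i j hij
      have hij' : i < j := OrderDual.toDual_lt_toDual.mp hij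
      simp only [hE, Matrix.add_apply, Matrix.of_apply]
      rw [Matrix.one_apply_ne hij'.ne, zero_add, if_neg]
      rintro ⟨h3, h4⟩
      have := Fin.lt_def.mp hij'
      omega
  have hrank : ((1 + E) - 1).rank = ℓ := by
    have hAB : E = Matrix.of (fun (i : Fin n) (l : Fin ℓ) => if i.val = l.val + (n - ℓ) then (1 : F) else 0) *
        Matrix.of (fun (l : Fin ℓ) (j : Fin n) => if j.val = l.val then (1 : F) else 0) := by
      ext i j
      simp only [hE, Matrix.mul_apply, Matrix.of_apply, mul_ite, mul_one, mul_zero]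
      by_cases hj : j.val < ℓ
      · rw [Finset.sum_eq_single ⟨j.val, hj⟩]
        · simp [hj]
        · intro l _ hl
          rw [if_neg (fun e => hl (Fin.ext e.symm))]
        · simp
      · rw [if_neg (fun e => hj e.1), Finset.sum_eq_zero]
        intro l _
        rw [if_neg (fun e : j.val = l.val => hj (e ▸ l.isLt))]
    rw [add_sub_cancel_left, hAB]
    refine Cfsg.Agent.Lib.KnownA.rank_mul_of_submatrix_one _ _ (fun l => ⟨l.val + (n - ℓ), by omega⟩)
      (fun l => ⟨l.val, by omega⟩) ?_
    rw [← hAB]
    ext i j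
    simp only [hE, Matrix.submatrix_apply, Matrix.of_apply, Matrix.one_apply, Fin.ext_iff]
    by_cases h : i.val = j.val <;> simp [h]
  let a : Matrix.SpecialLinearGroup (Fin n) F := ⟨1 + E, hdet⟩
  refine ⟨a, rfl, orderOf_eq_prime (p := 2) ?_ ?_, hrank⟩
  · apply Subtype.ext
    change ((a ^ 2 : Matrix.SpecialLinearGroup (Fin n) F) : Matrix (Fin n) (Fin n) F) = _
    rw [Matrix.SpecialLinearGroup.coe_pow, sq]
    change (1 + E) * (1 + E) = 1
    rw [mul_add, mul_one, add_mul, one_mul, hEE, add_zero, add_assoc]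
    have hzero : E + E = 0 := by
      ext i j
      simp [CharTwo.add_self_eq_zero]
    rw [hzero, add_zero]
  · intro h
    have h3 : (1 + E) = 1 := congrArg Subtype.val h
    rw [h3, sub_self, Matrix.rank_zero] at hrank
    omega

end Cfsg.Agent.S2163
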