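import Cfsg.Statements.S2164
import Cfsg.Agent.Lib.Classical.HermForm
import Cfsg.Agent.Lib.Classical.CharTwoInvol.UnitaryConj

set_option autoImplicit false
open Cfsg

namespace Cfsg.Agent.S2164

open Cfsg.Agent.Lib.Classical.CharTwoInvol
open Cfsg.Agent.Lib.Classical (conjHom conjHom_apply conjHom_conjHom conjHom_ne_id hermBilin hermBilin_apply
  hermBilin_isSymm hermBilin_nondegenerate preserves_hermForm_iff)
open Module (finrank)
open scoped Matrix

/-- Conjugacy of involutions in the special unitary group SU_n(q), q even, n ≥ 3, realised over the field F with q² elements as the matrices of determinant 1 preserving the form Σ u_i v_i^q: for two elements of order 2 of SU_n(q) the following are equivalent — they are conjugate in SU_n(q); they are conjugate in SL_n(F); the matrices a − 1 and b − 1 have the same rank. -/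
theorem result {F : Type*} [Field F] [Fintype F] [CharP F 2] {n q : ℕ} (hF : Fintype.card F = q ^ 2) (hn : 3 ≤ n) (a b : ↥(Cfsg.SU n F q)) (ha : orderOf a = 2) (hb : orderOf b = 2) :
    (IsConj a b ↔ IsConj (a : Matrix.SpecialLinearGroup (Fin n) F) (b : Matrix.SpecialLinearGroup (Fin n) F)) ∧
    (IsConj a b ↔ (((a : Matrix.SpecialLinearGroup (Fin n) F) : Matrix (Fin n) (Fin n) F) - 1).rank = (((b : Matrix.SpecialLinearGroup (Fin n) F) : Matrix (Fin n) (Fin n) F) - 1).rank) := by
  have hrank : ∀ x y : Matrix.SpecialLinearGroup (Fin n) F, IsConj x y →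
      ((x : Matrix (Fin n) (Fin n) F) - 1).rank = ((y : Matrix (Fin n) (Fin n) F) - 1).rank := by
    intro x y h
    obtain ⟨c, rfl⟩ := isConj_iff.mp h
    have e : ((c * x * c⁻¹ : Matrix.SpecialLinearGroup (Fin n) F) : Matrix (Fin n) (Fin n) F) - 1 =
        (c : Matrix (Fin n) (Fin n) F) * ((x : Matrix (Fin n) (Fin n) F) - 1) *
          ((c⁻¹ : Matrix.SpecialLinearGroup (Fin n) F) : Matrix (Fin n) (Fin n) F) := by
      rw [Matrix.mul_sub, Matrix.sub_mul, mul_one, Matrix.SpecialLinearGroup.coe_mul,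
        Matrix.SpecialLinearGroup.coe_mul, ← Matrix.SpecialLinearGroup.coe_mul c c⁻¹, mul_inv_cancel,
        Matrix.SpecialLinearGroup.coe_one]
    rw [e, Matrix.rank_mul_eq_left_of_isUnit_det _ _ (by rw [(c⁻¹).det_coe]; exact isUnit_one),
      Matrix.rank_mul_eq_right_of_isUnit_det _ _ (by rw [c.det_coe]; exact isUnit_one)]
  have key : (((a : Matrix.SpecialLinearGroup (Fin n) F) : Matrix (Fin n) (Fin n) F) - 1).rank =
      (((b : Matrix.SpecialLinearGroup (Fin n) F) : Matrix (Fin n) (Fin n) F) - 1).rank → IsConj a b := by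
    intro hr
    let M : ↥(Cfsg.SU n F q) → Matrix (Fin n) (Fin n) F := fun g => ((g : Matrix.SpecialLinearGroup (Fin n) F) : Matrix (Fin n) (Fin n) F)
    have hmul : ∀ g h, M (g * h) = M g * M h := fun g h => rfl
    set B := hermBilin hF n with hBdef
    have hpres : ∀ (g : ↥(Cfsg.SU n F q)) (u v : Fin n → F), B (M g *ᵥ u) (M g *ᵥ v) = B u v := fun g u v => g.2 v u
    let N : ↥(Cfsg.SU n F q) → ((Fin n → F) →ₗ[F] (Fin n → F)) := fun g => (M g - 1).mulVecLin
    have hN : ∀ g v, N g v = M g *ᵥ v - v := fun g v => by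
      show (M g - 1) *ᵥ v = _
      rw [Matrix.sub_mulVec, Matrix.one_mulVec]
    have hinv : ∀ g : ↥(Cfsg.SU n F q), orderOf g = 2 → ∀ v, M g *ᵥ (M g *ᵥ v) = v := fun g hg v => by
      have h := pow_orderOf_eq_one g
      rw [hg, sq] at h
      rw [Matrix.mulVec_mulVec, ← hmul, h]
      exact Matrix.one_mulVec v
    have hsq : ∀ g : ↥(Cfsg.SU n F q), orderOf g = 2 → ∀ v, N g (N g v) = 0 := fun g hg v => by
      rw [hN, hN, Matrix.mulVec_sub, hinv g hg]
      funext i
      simp only [Pi.sub_apply, Pi.zero_apply, CharTwo.sub_eq_add]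
      linear_combination (v i + (M g *ᵥ v) i) * CharTwo.two_eq_zero (R := F)
    have hadj : ∀ g : ↥(Cfsg.SU n F q), orderOf g = 2 → ∀ u v, B (N g u) v = B u (N g v) := fun g hg u v => by
      have h := hpres g u (M g *ᵥ v)
      rw [hinv g hg] at h
      rw [hN, hN, map_sub, LinearMap.sub_apply, map_sub, h]
    have hne : N a ≠ 0 := by
      intro h
      have h1 : a = 1 := Subtype.ext (Subtype.ext (Matrix.ext_of_mulVec_single fun i => by
        have := LinearMap.congr_fun h (Pi.single i 1)
        rw [hN, LinearMap.zero_apply, sub_eq_zero] at this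
        show M a *ᵥ _ = (1 : Matrix (Fin n) (Fin n) F) *ᵥ _
        rw [this, Matrix.one_mulVec]))
      rw [h1, orderOf_one] at ha
      omega
    have hdet : ∀ g : (Fin n → F) →ₗ[F] (Fin n → F), (∀ x y, B (g x) (g y) = B x y) →
        conjHom hF (LinearMap.det g) * LinearMap.det g = 1 := fun g hg => by
      have hg' := (preserves_hermForm_iff hF (LinearMap.toMatrix' g)).mp fun u v => by
        rw [LinearMap.toMatrix'_mulVec, LinearMap.toMatrix'_mulVec]
        exact hg v u
      have h := congrArg Matrix.det hg'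
      rw [Matrix.det_mul, Matrix.det_transpose, Matrix.det_one, ← RingHom.mapMatrix_apply, ← RingHom.map_det,
        LinearMap.det_toMatrix'] at h
      rw [mul_comm]
      exact h
    obtain ⟨g, hg, hgd, hgc⟩ := exists_herm_conj B (conjHom_ne_id hF) (conjHom_conjHom hF)
      (hermBilin_isSymm hF n) (hermBilin_nondegenerate hF n) hdet (N a) (N b) (hadj a ha) (hsq a ha)
      (hadj b hb) (hsq b hb) hne hr
    let c : ↥(Cfsg.SU n F q) := ⟨⟨LinearMap.toMatrix' g, by rw [LinearMap.det_toMatrix', hgd]⟩, fun u v => by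
      show Cfsg.hermForm n F q (LinearMap.toMatrix' g *ᵥ u) (LinearMap.toMatrix' g *ᵥ v) = _
      rw [LinearMap.toMatrix'_mulVec, LinearMap.toMatrix'_mulVec]
      exact hg v u⟩
    have hca : c * a = b * c := by
      refine Subtype.ext (Subtype.ext (Matrix.ext_of_mulVec_single fun i => ?_))
      show (LinearMap.toMatrix' g * M a) *ᵥ _ = (M b * LinearMap.toMatrix' g) *ᵥ _
      rw [← Matrix.mulVec_mulVec, ← Matrix.mulVec_mulVec, LinearMap.toMatrix'_mulVec, LinearMap.toMatrix'_mulVec]
      have h := hgc (Pi.single i 1)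
      rwa [hN, hN, map_sub, sub_left_inj] at h
    exact isConj_iff.mpr ⟨c, by rw [hca, mul_inv_cancel_right]⟩
  have hsl : IsConj a b → IsConj (a : Matrix.SpecialLinearGroup (Fin n) F) (b : Matrix.SpecialLinearGroup (Fin n) F) :=
    fun h => (Cfsg.SU n F q).subtype.map_isConj h
  exact ⟨⟨hsl, fun h => key (hrank _ _ h)⟩, ⟨fun h => hrank _ _ (hsl h), key⟩⟩

end Cfsg.Agent.S2164
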