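import Cfsg.Statements.S2165
import Cfsg.Agent.Lib.KnownA.RankLemmas
open Matrix

set_option autoImplicit false
open Cfsg

namespace Cfsg.Agent.S2165

/-- In SU_n(q), q even, n ≥ 3 (matrices of determinant 1 over the field with q² elements preserving Σ u_i v_i^q): for every ℓ with 1 ≤ ℓ and 2ℓ ≤ n, the permutation matrix of the involution of {0, …, n−1} exchanging i and n − ℓ + i for each i < ℓ lies in SU_n(q), has order 2, and differs from the identity by a matrix of rank ℓ. So every rank between 1 and n/2 occurs for involutions of SU_n(q). -/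
theorem result {F : Type*} [Field F] [Fintype F] [CharP F 2] {n q : ℕ} (hF : Fintype.card F = q ^ 2) (hn : 3 ≤ n) (ℓ : ℕ) (h1 : 1 ≤ ℓ) (h2 : 2 * ℓ ≤ n) :
    ∃ a : ↥(Cfsg.SU n F q), (((a : Matrix.SpecialLinearGroup (Fin n) F) : Matrix (Fin n) (Fin n) F) = Matrix.of (fun i j : Fin n => if (j.val < ℓ ∧ i.val = j.val + (n - ℓ)) ∨ (i.val < ℓ ∧ j.val = i.val + (n - ℓ)) ∨ (i = j ∧ ℓ ≤ i.val ∧ i.val < n - ℓ) then (1 : F) else 0)) ∧ orderOf a = 2 ∧ ((((a : Matrix.SpecialLinearGroup (Fin n) F) : Matrix (Fin n) (Fin n) F)) - 1).rank = ℓ := by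
  classical
  let s : Fin n → Fin n := fun i =>
    if h : i.val < ℓ then ⟨i.val + (n - ℓ), by omega⟩
    else if h3 : n - ℓ ≤ i.val then ⟨i.val - (n - ℓ), by omega⟩ else i
  have hsval : ∀ i : Fin n, (s i).val = if i.val < ℓ then i.val + (n - ℓ)
      else if n - ℓ ≤ i.val then i.val - (n - ℓ) else i.val := by
    intro i
    simp only [s]
    split_ifs <;> rfl
  have hs : Function.Involutive s := by
    intro i
    have hi := i.isLt
    apply Fin.ext
    rw [hsval, hsval]
    split_ifs <;> omega
  let σ : Equiv.Perm (Fin n) := hs.toPerm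
  set M : Matrix (Fin n) (Fin n) F := Matrix.of (fun i j : Fin n =>
    if (j.val < ℓ ∧ i.val = j.val + (n - ℓ)) ∨ (i.val < ℓ ∧ j.val = i.val + (n - ℓ)) ∨
      (i = j ∧ ℓ ≤ i.val ∧ i.val < n - ℓ) then (1 : F) else 0) with hM
  have hMs : ∀ i j, M i j = if j = s i then 1 else 0 := by
    intro i j
    have hi := i.isLt
    have hj := j.isLt
    simp only [hM, Matrix.of_apply]
    refine if_congr ?_ rfl rfl
    simp only [Fin.ext_iff, hsval]
    split_ifs <;> (try simp only [Fin.val_mk] at *) <;> omega
  have hMp : M = σ.permMatrix F := by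
    ext i j
    rw [hMs]
    simp [σ, eq_comm]
  have hdet : M.det = 1 := by
    rw [hMp, Matrix.det_permutation]
    rcases Int.units_eq_one_or (Equiv.Perm.sign σ) with h | h <;> simp [h, CharTwo.neg_eq]
  let a : Matrix.SpecialLinearGroup (Fin n) F := ⟨M, hdet⟩
  have hmv : ∀ u : Fin n → F, M *ᵥ u = fun i => u (s i) := by
    intro u
    ext i
    simp [Matrix.mulVec, dotProduct, hMs]
  have ha : a ∈ Cfsg.SU n F q := by
    intro u v
    change Cfsg.hermForm n F q (M *ᵥ u) (M *ᵥ v) = Cfsg.hermForm n F q u v
    rw [hmv, hmv]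
    exact Equiv.sum_comp σ (fun i => u i * v i ^ q)
  let A : Matrix (Fin n) (Fin ℓ) F :=
    Matrix.of fun i l => if i.val = l.val ∨ i.val = l.val + (n - ℓ) then (1 : F) else 0
  have hAB : M - 1 = A * Aᵀ := by
    ext i j
    have hi := i.isLt
    have hj := j.isLt
    rw [Matrix.sub_apply, hMs, Matrix.mul_apply]
    simp only [A, Matrix.transpose_apply, Matrix.of_apply, mul_ite, mul_one, mul_zero]
    by_cases hj1 : j.val < ℓ
    · rw [Finset.sum_eq_single ⟨j.val, hj1⟩]
      · simp only [Matrix.one_apply, Fin.ext_iff, hsval]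
        split_ifs <;> (try simp only [Fin.val_mk] at *) <;> first
          | (exfalso; omega)
          | (exfalso; simp at *; done)
          | simp [CharTwo.sub_eq_add, CharTwo.add_self_eq_zero]
      · intro l _ hl
        have hl' : j.val ≠ l.val := fun e => hl (Fin.ext e.symm)
        have := l.isLt
        rw [if_neg]
        omega
      · simp
    · by_cases hj2 : n - ℓ ≤ j.val
      · rw [Finset.sum_eq_single ⟨j.val - (n - ℓ), by omega⟩]
        · simp only [Matrix.one_apply, Fin.ext_iff, hsval]
          split_ifs <;> (try simp only [Fin.val_mk] at *) <;> first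
            | (exfalso; omega)
            | (exfalso; simp at *; done)
            | simp [CharTwo.sub_eq_add, CharTwo.add_self_eq_zero]
        · intro l _ hl
          have hl' : j.val - (n - ℓ) ≠ l.val := fun e => hl (Fin.ext e.symm)
          have := l.isLt
          rw [if_neg]
          omega
        · simp
      · rw [Finset.sum_eq_zero]
        · simp only [Matrix.one_apply, Fin.ext_iff, hsval]
          split_ifs <;> (try simp only [Fin.val_mk] at *) <;> first
            | (exfalso; omega)
            | (exfalso; simp at *; done)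
            | simp
        · intro l _
          have := l.isLt
          rw [if_neg]
          omega
  have hrank : (M - 1).rank = ℓ := by
    rw [hAB]
    refine Cfsg.Agent.Lib.KnownA.rank_mul_of_submatrix_one _ _ (fun l => ⟨l.val, by omega⟩)
      (fun l => ⟨l.val, by omega⟩) ?_
    rw [← hAB]
    ext i j
    have hi := i.isLt
    have hj := j.isLt
    simp only [Matrix.submatrix_apply, Matrix.sub_apply, hMs, Matrix.one_apply, Fin.ext_iff, hsval]
    split_ifs <;> (try simp only [Fin.val_mk] at *) <;> first
      | (exfalso; omega)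
      | (exfalso; simp at *; done)
      | simp [CharTwo.neg_eq]
  refine ⟨⟨a, ha⟩, rfl, orderOf_eq_prime (p := 2) ?_ ?_, hrank⟩
  · apply Subtype.ext
    apply Subtype.ext
    rw [sq]
    change M * M = 1
    ext i j
    rw [Matrix.mul_apply, Finset.sum_eq_single (s i)]
    · rw [hMs, hMs, if_pos rfl, one_mul, hs i, Matrix.one_apply]
      exact if_congr eq_comm rfl rfl
    · intro b _ hb
      rw [hMs, if_neg hb, zero_mul]
    · simp
  · intro h
    have h3 : M = 1 := congrArg (fun x : ↥(Cfsg.SU n F q) => ((x : Matrix.SpecialLinearGroup (Fin n) F) : Matrix (Fin n) (Fin n) F)) h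
    rw [h3, sub_self, Matrix.rank_zero] at hrank
    omega

end Cfsg.Agent.S2165
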