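import Cfsg.Statements.S2166
import Cfsg.Agent.Lib.Classical.CharTwoInvol.ConjCriteria

set_option autoImplicit false
open Cfsg

namespace Cfsg.Agent.S2166

open Cfsg.Agent.Lib.Classical.CharTwoInvol
open Cfsg.Agent.Lib.Classical.AutPOmega (coe_plusR coe_minusR plusR minusR)
open QuadraticMap (polarBilin)
open Module (finrank)
open scoped Matrix
open Cfsg.Agent.Lib.Geometry (sympBilin sympBilin_apply sympBilin_isAlt sympBilin_nondegenerate)

/-- Conjugacy of involutions in the symplectic group Sp_{2m}(F), F a finite field of characteristic two, m ≥ 2 (Sp taken as the matrices A with A J Aᵀ = J, acting on column vectors, with the alternating form f(u, v) = u ⬝ (J v)). For an involution t write V(t) for the set of vectors v with f(v, t v) = 0 (a subspace). Two involutions a, b are conjugate in Sp_{2m}(F) exactly when a − 1 and b − 1 have the same rank and, in case that rank is even, V(a) and V(b) have the same number of elements. -/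
theorem result {F : Type*} [Field F] [Fintype F] [CharP F 2] {m : ℕ} (hm : 2 ≤ m) (a b : ↥(Matrix.symplecticGroup (Fin m) F)) (ha : orderOf a = 2) (hb : orderOf b = 2) :
    IsConj a b ↔ ((((a : ↥(Matrix.symplecticGroup (Fin m) F)) : Matrix (Fin m ⊕ Fin m) (Fin m ⊕ Fin m) F) - 1).rank = (((b : ↥(Matrix.symplecticGroup (Fin m) F)) : Matrix (Fin m ⊕ Fin m) (Fin m ⊕ Fin m) F) - 1).rank ∧
      (Even (((a : ↥(Matrix.symplecticGroup (Fin m) F)) : Matrix (Fin m ⊕ Fin m) (Fin m ⊕ Fin m) F) - 1).rank → Nat.card {v : Fin m ⊕ Fin m → F // Cfsg.sympForm m F v (Matrix.mulVec ((a : ↥(Matrix.symplecticGroup (Fin m) F)) : Matrix (Fin m ⊕ Fin m) (Fin m ⊕ Fin m) F) v) = 0} = Nat.card {v : Fin m ⊕ Fin m → F // Cfsg.sympForm m F v (Matrix.mulVec ((b : ↥(Matrix.symplecticGroup (Fin m) F)) : Matrix (Fin m ⊕ Fin m) (Fin m ⊕ Fin m) F) v) = 0})) := by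
  have hsq : ∀ x : ↥(Matrix.symplecticGroup (Fin m) F), orderOf x = 2 → x * x = 1 := fun x hx => by
    rw [← sq, ← hx, pow_orderOf_eq_one]
  have hA : ∀ x : ↥(Matrix.symplecticGroup (Fin m) F),
      IsAltType (sympBilin m F) (diffMap (spLin m F) x) ↔
      Nat.card {v : Fin m ⊕ Fin m → F // Cfsg.sympForm m F v (x.1 *ᵥ v) = 0} = Nat.card (Fin m ⊕ Fin m → F) := by
    intro x
    rw [altType_iff]
    constructor
    · intro h; exact Nat.card_congr (Equiv.subtypeUnivEquiv h)
    · intro h v
      have hb : Function.Bijective (Subtype.val : {v : Fin m ⊕ Fin m → F // Cfsg.sympForm m F v (x.1 *ᵥ v) = 0} → _) :=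
        (Nat.bijective_iff_injective_and_card _).mpr ⟨Subtype.val_injective, h⟩
      obtain ⟨w, rfl⟩ := hb.2 v
      exact w.2
  have hiso : ∀ (c : ↥(Matrix.symplecticGroup (Fin m) F)) (u v : Fin m ⊕ Fin m → F),
      Cfsg.sympForm m F (c.1 *ᵥ u) (c.1 *ᵥ v) = Cfsg.sympForm m F u v := fun c u v => by
    have h := spLin_isometry c u v
    simpa only [spLin_apply, sympBilin_apply] using h
  constructor
  · intro h
    refine ⟨?_, fun _ => ?_⟩
    · rw [← rank_eq_diffMap, ← rank_eq_diffMap]
      exact (conj_invariants spLin_isometry h).1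
    · obtain ⟨c, rfl⟩ := isConj_iff.mp h
      refine Nat.card_congr (Equiv.subtypeEquiv
        { toFun := fun v => c.1 *ᵥ v
          invFun := fun v => (c⁻¹).1 *ᵥ v
          left_inv := fun v => by
            show (c⁻¹).1 *ᵥ (c.1 *ᵥ v) = v
            rw [Matrix.mulVec_mulVec, ← Submonoid.coe_mul, inv_mul_cancel]
            exact Matrix.one_mulVec v
          right_inv := fun v => by
            show c.1 *ᵥ ((c⁻¹).1 *ᵥ v) = v
            rw [Matrix.mulVec_mulVec, ← Submonoid.coe_mul, mul_inv_cancel]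
            exact Matrix.one_mulVec v } fun v => ?_)
      have e : (c * a * c⁻¹).1 *ᵥ (c.1 *ᵥ v) = c.1 *ᵥ (a.1 *ᵥ v) := by
        rw [Matrix.mulVec_mulVec, Matrix.mulVec_mulVec, ← Submonoid.coe_mul, ← Submonoid.coe_mul, inv_mul_cancel_right]
      show _ ↔ Cfsg.sympForm m F (c.1 *ᵥ v) ((c * a * c⁻¹).1 *ᵥ (c.1 *ᵥ v)) = 0
      rw [e, hiso]
  · rintro ⟨h1, h2⟩
    rw [← rank_eq_diffMap, ← rank_eq_diffMap] at h1
    rw [← rank_eq_diffMap] at h2
    refine sp_isConj a b (hsq a ha) (hsq b hb) h1 ?_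
    have hev : ∀ x : ↥(Matrix.symplecticGroup (Fin m) F), x * x = 1 →
        IsAltType (sympBilin m F) (diffMap (spLin m F) x) →
        Even (finrank F (LinearMap.range (diffMap (spLin m F) x))) := fun x hx h =>
      even_of_alt sympBilin_isAlt (sympBilin_nondegenerate F m) (diffMap_isInvolDiff (ρ := spLin m F) spLin_isometry hx) h rfl
    constructor
    · intro h
      exact (hA b).mpr ((h2 (hev a (hsq a ha) h)).symm.trans ((hA a).mp h))
    · intro h
      exact (hA a).mpr ((h2 (h1 ▸ hev b (hsq b hb) h)).trans ((hA b).mp h))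

end Cfsg.Agent.S2166
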