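import Cfsg.Statements.S2167
import Cfsg.Agent.Lib.Geometry.SympBasic
import Cfsg.Agent.Lib.Geometry.MaxIsotropic

set_option autoImplicit false
open Cfsg

namespace Cfsg.Agent.S2167

open Matrix Cfsg.Agent.Lib.Geometry

/-- For an involution t of the symplectic group Sp_{2m}(F), m ≥ 2, F a finite field of characteristic two (matrices A with A J Aᵀ = J acting on column vectors, alternating form f(u, v) = u ⬝ (J v)): the set V(t) of vectors v with f(v, t v) = 0 has either q^{2m} or q^{2m−1} elements, q the order of F (it is a subspace of codimension at most 1), and if it is the whole space then t − 1 has even rank. -/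
theorem result {F : Type*} [Field F] [Fintype F] [CharP F 2] {m : ℕ} (hm : 2 ≤ m) (a : ↥(Matrix.symplecticGroup (Fin m) F)) (ha : orderOf a = 2) :
    (Nat.card {v : Fin m ⊕ Fin m → F // Cfsg.sympForm m F v (Matrix.mulVec ((a : ↥(Matrix.symplecticGroup (Fin m) F)) : Matrix (Fin m ⊕ Fin m) (Fin m ⊕ Fin m) F) v) = 0} = Fintype.card F ^ (2 * m) ∨ Nat.card {v : Fin m ⊕ Fin m → F // Cfsg.sympForm m F v (Matrix.mulVec ((a : ↥(Matrix.symplecticGroup (Fin m) F)) : Matrix (Fin m ⊕ Fin m) (Fin m ⊕ Fin m) F) v) = 0} * Fintype.card F = Fintype.card F ^ (2 * m)) ∧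
    ((∀ v : Fin m ⊕ Fin m → F, Cfsg.sympForm m F v (Matrix.mulVec ((a : ↥(Matrix.symplecticGroup (Fin m) F)) : Matrix (Fin m ⊕ Fin m) (Fin m ⊕ Fin m) F) v) = 0) → Even (((a : ↥(Matrix.symplecticGroup (Fin m) F)) : Matrix (Fin m ⊕ Fin m) (Fin m ⊕ Fin m) F) - 1).rank) := by
  classical
  have _ := hm
  set A : Matrix (Fin m ⊕ Fin m) (Fin m ⊕ Fin m) F := ((a : ↥(Matrix.symplecticGroup (Fin m) F)) : Matrix (Fin m ⊕ Fin m) (Fin m ⊕ Fin m) F) with hA
  have hAA : ∀ w, A.mulVec (A.mulVec w) = w := by
    intro w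
    have h2 : a ^ 2 = 1 := ha ▸ pow_orderOf_eq_one a
    have : A * A = 1 := by rw [hA]; exact (congrArg Subtype.val (sq a ▸ h2) :)
    rw [Matrix.mulVec_mulVec, this, Matrix.one_mulVec]
  have hinv : ∀ u v, Cfsg.sympForm m F (A.mulVec u) (A.mulVec v) = Cfsg.sympForm m F u v :=
    mem_symplecticGroup_iff_form.1 a.2
  have hsymm : ∀ u v, Cfsg.sympForm m F u (A.mulVec v) = Cfsg.sympForm m F v (A.mulVec u) := by
    intro u v
    rw [sympForm_swap v, CharTwo.neg_eq, ← hinv u, hAA]
  let f : (Fin m ⊕ Fin m → F) → F := fun v => Cfsg.sympForm m F v (A.mulVec v)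
  have hadd : ∀ u v, f (u + v) = f u + f v := by
    intro u v
    simp only [f, ← sympBilin_apply, map_add, LinearMap.add_apply, Matrix.mulVec_add]
    simp only [sympBilin_apply]
    rw [hsymm v u]
    linear_combination CharTwo.add_self_eq_zero (Cfsg.sympForm m F u (A.mulVec v))
  have hsmul : ∀ (c : F) v, f (c • v) = c ^ 2 * f v := by
    intro c v
    simp only [f, ← sympBilin_apply, map_smul, LinearMap.smul_apply, Matrix.mulVec_smul, smul_eq_mul]
    ring
  constructor
  · let φ : (Fin m ⊕ Fin m → F) →+ F := AddMonoidHom.mk' f hadd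
    have hcard : Nat.card (Fin m ⊕ Fin m → F) = Fintype.card F ^ (2 * m) := by
      rw [Nat.card_eq_fintype_card, Fintype.card_fun, Fintype.card_sum, Fintype.card_fin, two_mul]
    have hk := φ.ker.card_mul_index
    rw [AddSubgroup.index_ker, hcard] at hk
    have hker : Nat.card φ.ker = Nat.card {v : Fin m ⊕ Fin m → F // Cfsg.sympForm m F v (A.mulVec v) = 0} :=
      Nat.card_congr (Equiv.subtypeEquivRight fun v => Iff.rfl)
    rw [hker] at hk
    by_cases h0 : ∀ v, f v = 0
    · left
      rw [← hk, (Nat.card_eq_one_iff_unique (α := φ.range)).2 ?_, mul_one]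
      refine ⟨⟨fun x y => Subtype.ext ?_⟩, inferInstance⟩
      obtain ⟨u, hu⟩ := x.2
      obtain ⟨v, hv⟩ := y.2
      rw [← hu, ← hv]
      exact (h0 u).trans (h0 v).symm
    · right
      simp only [not_forall] at h0
      obtain ⟨v₀, hv₀⟩ := h0
      have htop : φ.range = ⊤ := by
        rw [eq_top_iff]
        intro y _
        obtain ⟨c, hc⟩ := (PerfectRing.bijective_frobenius (R := F) (p := 2)).2 (y / f v₀)
        refine ⟨c • v₀, ?_⟩
        show f (c • v₀) = y
        have hc2 : c ^ 2 = y / f v₀ := hc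
        rw [hsmul, hc2, div_mul_cancel₀ _ hv₀]
      rw [← hk, htop, AddSubgroup.card_top, Nat.card_eq_fintype_card (α := F)]
  · intro h0
    set M := Matrix.J (Fin m) F * (A - 1) with hM
    let β : LinearMap.BilinForm F (Fin m ⊕ Fin m → F) := Matrix.toBilin' M
    have hβ : ∀ u w, β u w = dotProduct u (M.mulVec w) := fun u w => Matrix.toBilin'_apply' _ u w
    have halt : β.IsAlt := fun v => by
      rw [hβ, hM, ← Matrix.mulVec_mulVec, Matrix.sub_mulVec, Matrix.one_mulVec]
      change Cfsg.sympForm m F v (A.mulVec v - v) = 0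
      rw [← sympBilin_apply, map_sub, sympBilin_apply, sympBilin_apply, h0 v, sympForm_self, sub_zero]
    have hkerβ : LinearMap.ker β = LinearMap.ker M.transpose.mulVecLin := by
      ext u
      simp only [LinearMap.mem_ker, Matrix.mulVecLin_apply]
      constructor
      · intro h
        refine dotProduct_eq_zero _ fun w => ?_
        rw [Matrix.mulVec_transpose, ← Matrix.dotProduct_mulVec, ← hβ, h]
        rfl
      · intro h
        refine LinearMap.ext fun w => ?_
        rw [hβ, Matrix.dotProduct_mulVec, ← Matrix.mulVec_transpose, h, zero_dotProduct]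
        rfl
    have he := even_finrank_sub_ker β halt
    have hr := LinearMap.finrank_range_add_finrank_ker M.transpose.mulVecLin
    rw [hkerβ] at he
    have hrank : (A - 1).rank = Module.finrank F (LinearMap.range M.transpose.mulVecLin) := by
      rw [← Matrix.rank, Matrix.rank_transpose, hM,
        Matrix.rank_mul_eq_right_of_isUnit_det _ _ (Matrix.isUnit_det_J (Fin m) F)]
    rw [hrank]
    rw [← hr] at he
    obtain ⟨k, hk⟩ := he
    exact ⟨k - Module.finrank F (LinearMap.ker M.transpose.mulVecLin), by omega⟩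

end Cfsg.Agent.S2167
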