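import Cfsg.Statements.S2168
import Cfsg.Agent.Lib.Classical.CharTwoInvol.ConjCriteria

set_option autoImplicit false
open Cfsg

namespace Cfsg.Agent.S2168

open Cfsg.Agent.Lib.Classical.CharTwoInvol
open Cfsg.Agent.Lib.Classical.AutPOmega (coe_plusR coe_minusR plusR minusR)
open QuadraticMap (polarBilin)
open Module (finrank)
open scoped Matrix

/-- Involutions in the full isometry group O of the hyperbolic quadratic form Σ x_i y_i in dimension 2m over a finite field F of characteristic two, m ≥ 4 (plus type): two elements of order 2 of O are conjugate in O exactly when they are conjugate under the group of all invertible matrices preserving the polar bilinear form (u, v) ↦ Q(u + v) − Q(u) − Q(v) (the symplectic group of that form). -/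
theorem result {F : Type*} [Field F] [Fintype F] [CharP F 2] {m : ℕ} (hm : 4 ≤ m) (t s : ↥(Cfsg.isometryGroup F (Cfsg.quadFormPlus m F))) (ht : orderOf t = 2) (hs : orderOf s = 2) :
    IsConj t s ↔ ∃ g ∈ Cfsg.preserving (Units.coeHom (Matrix (Fin m ⊕ Fin m) (Fin m ⊕ Fin m) F)) (fun u v => Cfsg.quadFormPlus m F (u + v) - Cfsg.quadFormPlus m F u - Cfsg.quadFormPlus m F v), g * ((t : ↥(Cfsg.isometryGroup F (Cfsg.quadFormPlus m F))) : GL (Fin m ⊕ Fin m) F) * g⁻¹ = ((s : ↥(Cfsg.isometryGroup F (Cfsg.quadFormPlus m F))) : GL (Fin m ⊕ Fin m) F) := by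
  have hsq : ∀ x : ↥(Cfsg.isometryGroup F (Cfsg.quadFormPlus m F)), orderOf x = 2 → x * x = 1 := fun x hx => by
    rw [← sq, ← hx, pow_orderOf_eq_one]
  have ht' := hsq t ht
  have hs' := hsq s hs
  clear ht hs hsq
  revert t s
  rw [coe_plusR]
  intro t s ht' hs'
  exact orth_conj_iff_polar _ (plus_nd m) t s ht' hs'

end Cfsg.Agent.S2168
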