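import Cfsg.Statements.S2172
import Cfsg.Agent.Lib.Classical.CharTwoInvol.ConjCriteria

set_option autoImplicit false
open Cfsg

namespace Cfsg.Agent.S2172

open Cfsg.Agent.Lib.Classical.CharTwoInvol
open Cfsg.Agent.Lib.Classical.AutPOmega (coe_plusR coe_minusR plusR minusR)
open QuadraticMap (polarBilin)
open Module (finrank)
open scoped Matrix

/-- Splitting of involution classes from O to Ω for the hyperbolic quadratic form Q = Σ x_i y_i in dimension 2m over a finite field F of characteristic two, m ≥ 4. Let t, s be involutions of the commutator subgroup Ω that are conjugate in the full isometry group O. If it is not the case that t − 1 has rank m and Q(v + t v) = 0 for every vector v, then t and s are conjugate by an element of Ω. If t − 1 has rank m and Q(v + t v) = 0 for all v, then t and s are conjugate by an element of Ω exactly when the intersection of the images of t − 1 and s − 1 has even dimension (so the class of t in O meets at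 most two classes of Ω). -/
theorem result {F : Type*} [Field F] [Fintype F] [CharP F 2] {m : ℕ} (hm : 4 ≤ m) (t s : ↥(Cfsg.isometryGroup F (Cfsg.quadFormPlus m F))) (ht : orderOf t = 2) (hs : orderOf s = 2) (htO : t ∈ Cfsg.Omega F (Cfsg.quadFormPlus m F)) (hsO : s ∈ Cfsg.Omega F (Cfsg.quadFormPlus m F)) (hconj : IsConj t s) :
    (¬ (((((t : ↥(Cfsg.isometryGroup F (Cfsg.quadFormPlus m F))) : GL (Fin m ⊕ Fin m) F) : Matrix (Fin m ⊕ Fin m) (Fin m ⊕ Fin m) F) - 1).rank = m ∧ ∀ v : Fin m ⊕ Fin m → F, Cfsg.quadFormPlus m F (v + Matrix.mulVec (((t : ↥(Cfsg.isometryGroup F (Cfsg.quadFormPlus m F))) : GL (Fin m ⊕ Fin m) F) : Matrix (Fin m ⊕ Fin m) (Fin m ⊕ Fin m) F) v) = 0) →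
      ∃ g ∈ Cfsg.Omega F (Cfsg.quadFormPlus m F), g * t * g⁻¹ = s) ∧
    ((((((t : ↥(Cfsg.isometryGroup F (Cfsg.quadFormPlus m F))) : GL (Fin m ⊕ Fin m) F) : Matrix (Fin m ⊕ Fin m) (Fin m ⊕ Fin m) F) - 1).rank = m ∧ ∀ v : Fin m ⊕ Fin m → F, Cfsg.quadFormPlus m F (v + Matrix.mulVec (((t : ↥(Cfsg.isometryGroup F (Cfsg.quadFormPlus m F))) : GL (Fin m ⊕ Fin m) F) : Matrix (Fin m ⊕ Fin m) (Fin m ⊕ Fin m) F) v) = 0) →
      ((∃ g ∈ Cfsg.Omega F (Cfsg.quadFormPlus m F), g * t * g⁻¹ = s) ↔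
        Even (Module.finrank F ↥(LinearMap.range (Matrix.toLin' ((((t : ↥(Cfsg.isometryGroup F (Cfsg.quadFormPlus m F))) : GL (Fin m ⊕ Fin m) F) : Matrix (Fin m ⊕ Fin m) (Fin m ⊕ Fin m) F) - 1)) ⊓ LinearMap.range (Matrix.toLin' ((((s : ↥(Cfsg.isometryGroup F (Cfsg.quadFormPlus m F))) : GL (Fin m ⊕ Fin m) F) : Matrix (Fin m ⊕ Fin m) (Fin m ⊕ Fin m) F) - 1)))))) := by
  have ht' : t * t = 1 := by rw [← sq, ← ht, pow_orderOf_eq_one]
  clear ht hs hsO
  revert t s
  rw [coe_plusR]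
  intro t s htO hconj ht'
  have hexc : (∃ a : F, a ≠ 0 ∧ a ≠ 1) ∨ Fintype.card (Fin m ⊕ Fin m) ≠ 4 := Or.inr (by simp; omega)
  have hiff : (finrank F (LinearMap.range (diffMap (orthLin (plusR m F)) t)) = m ∧
      IsAltType (polarBilin (plusR m F)) (diffMap (orthLin (plusR m F)) t)) ↔
      ((((t : GL (Fin m ⊕ Fin m) F) : Matrix (Fin m ⊕ Fin m) (Fin m ⊕ Fin m) F) - 1).rank = m ∧
        ∀ v : Fin m ⊕ Fin m → F, plusR m F (v + ((t : GL (Fin m ⊕ Fin m) F) : Matrix (Fin m ⊕ Fin m) (Fin m ⊕ Fin m) F) *ᵥ v) = 0) := by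
    rw [rank_eq_orth, altType_orth_iff]
    refine and_congr Iff.rfl (forall_congr' fun v => ?_)
    rw [Matrix.sub_mulVec, Matrix.one_mulVec]
    have e : ∀ a : Fin m ⊕ Fin m → F, a - v = v + a := fun a => by
      funext i; simp only [Pi.sub_apply, Pi.add_apply]; rw [CharTwo.sub_eq_add, add_comm]
    rw [e]
  refine ⟨fun h => omega_conj_of_not_split _ (plus_nd m) hexc (finrank_std m) t s ht' hconj
    fun h' => h (hiff.mp h'), fun h => ?_⟩
  obtain ⟨hr, hal⟩ := hiff.mpr h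
  have := omega_conj_split_iff _ (plus_nd m) hexc (finrank_std m) t s hconj htO hr hal
  rw [diffMap_orthLin, diffMap_orthLin] at this
  exact this

end Cfsg.Agent.S2172
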