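import Cfsg.Statements.S2173
import Cfsg.Agent.Lib.Classical.CharTwoInvol.ConjCriteria

set_option autoImplicit false
open Cfsg

namespace Cfsg.Agent.S2173

open Cfsg.Agent.Lib.Classical.CharTwoInvol
open Cfsg.Agent.Lib.Classical.AutPOmega (coe_plusR coe_minusR plusR minusR)
open QuadraticMap (polarBilin)
open Module (finrank)
open scoped Matrix

/-- For the quadratic form Σ x_i y_i + (z₁² + c z₁ z₂ + d z₂²) in dimension 2m with anisotropic binary part over a finite field F of characteristic two, m ≥ 4 (minus type): two involutions of the commutator subgroup Ω that are conjugate in the full isometry group O are conjugate by an element of Ω (no class of involutions of O inside Ω splits). -/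
theorem result {F : Type*} [Field F] [Fintype F] [CharP F 2] {m : ℕ} (hm : 4 ≤ m) (c d : F) (hcd : ∀ z₁ z₂ : F, z₁ ^ 2 + c * z₁ * z₂ + d * z₂ ^ 2 = 0 → z₁ = 0 ∧ z₂ = 0) (t s : ↥(Cfsg.isometryGroup F (Cfsg.quadFormMinus (m - 1) F c d))) (ht : orderOf t = 2) (hs : orderOf s = 2) (htO : t ∈ Cfsg.Omega F (Cfsg.quadFormMinus (m - 1) F c d)) (hsO : s ∈ Cfsg.Omega F (Cfsg.quadFormMinus (m - 1) F c d)) (hconj : IsConj t s) :
    ∃ g ∈ Cfsg.Omega F (Cfsg.quadFormMinus (m - 1) F c d), g * t * g⁻¹ = s := by
  have ht' : t * t = 1 := by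
    have h := pow_orderOf_eq_one t
    rwa [ht, sq] at h
  clear ht hs htO hsO
  obtain ⟨k, rfl⟩ : ∃ k, m = k + 1 := ⟨m - 1, by omega⟩
  revert t s
  rw [coe_minusR]
  intro t s hconj ht'
  refine omega_conj_of_not_split (minusR k c d) (minusR_nondegenerate k hcd) (Or.inr (by simp; omega))
    (finrank_minus k) t s ht' hconj fun h => ?_
  obtain ⟨j, hj⟩ := even_of_alt (polar_isAlt _) (minusR_nondegenerate k hcd) (diffMap_isInvolDiff (orthLin_polar _) ht') h.2 rfl
  have := minus_bound k hcd t ht' j hj h.2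
  omega

end Cfsg.Agent.S2173
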