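import Cfsg.Statements.S2178
import Cfsg.Agent.Lib.Chev.RootCent
import Cfsg.Agent.Lib.Chev.All
-- import your own Cfsg.Agent.* helpers here

set_option autoImplicit false
open Cfsg

namespace Cfsg.Agent.S2178

/-- Centralizers of the long and the short root involutions in the Chevalley group G of type F₄ over a finite field F of characteristic two (this problem's root numbering for type F₄, from the Chevalley data module: fundamental roots p₁, p₂ short, p₃, p₄ long, with indices 33, 27, 25, 24, their negatives 14, 20, 22, 23; highest root 47, highest short root 44; U the subgroup generated by the positive root subgroups). For an element t of G with matrix x_47(1): the centralizer of t in G is the subgroup generated by U and the root subgroups X_{−p₁}, X_{−p₂}, X_{−p₃} (the unipotent radical of the maximal parabolic subgroup whose Levi factor has fundamental roots p₁, p₂, p₃, together with that Levi factor's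 root subgroups; the Levi factor is of type C₃). For an element u of G with matrix x_44(1): the centralizer of u in G is generated by U and X_{−p₂}, X_{−p₃}, X_{−p₄} (the same construction for the Levi factor with fundamental roots p₂, p₃, p₄, of type B₃). -/
theorem result {F : Type*} [Field F] [Fintype F] [CharP F 2] (t u : GL Cfsg.Lie.chevF4.Idx F) (ht : (t : Matrix Cfsg.Lie.chevF4.Idx Cfsg.Lie.chevF4.Idx F) = Cfsg.Lie.chevF4.x F 47 1) (hu : (u : Matrix Cfsg.Lie.chevF4.Idx Cfsg.Lie.chevF4.Idx F) = Cfsg.Lie.chevF4.x F 44 1) :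
    Cfsg.Lie.chevF4.group F ⊓ Subgroup.centralizer {t} = Cfsg.Lie.chevF4.posUnipotent F ⊔ Cfsg.Lie.chevF4.rootSubgroup F 14 ⊔ Cfsg.Lie.chevF4.rootSubgroup F 20 ⊔ Cfsg.Lie.chevF4.rootSubgroup F 22 ∧
    Cfsg.Lie.chevF4.group F ⊓ Subgroup.centralizer {u} = Cfsg.Lie.chevF4.posUnipotent F ⊔ Cfsg.Lie.chevF4.rootSubgroup F 20 ⊔ Cfsg.Lie.chevF4.rootSubgroup F 22 ⊔ Cfsg.Lie.chevF4.rootSubgroup F 23 := by
  obtain rfl : t = Cfsg.Agent.Lib.Chev.goodF4.X F 47 1 := Cfsg.Agent.Lib.Chev.goodF4.eq_X_of_val ht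
  obtain rfl : u = Cfsg.Agent.Lib.Chev.goodF4.X F 44 1 := Cfsg.Agent.Lib.Chev.goodF4.eq_X_of_val hu
  rw [Cfsg.Agent.Lib.Chev.goodF4.centralizer_root Cfsg.Agent.Lib.Chev.parF4 (r := 47) (i₀ := 3) (J := [0, 1, 2])
      (by decide +kernel),
    Cfsg.Agent.Lib.Chev.goodF4.centralizer_root Cfsg.Agent.Lib.Chev.parF4 (r := 44) (i₀ := 0) (J := [1, 2, 3])
      (by decide +kernel)]
  have e0 : Cfsg.Agent.Lib.Chev.ng Cfsg.Lie.chevF4 (Cfsg.Agent.Lib.Chev.sim Cfsg.Lie.chevF4 0) = 14 := by decide +kernel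
  have e1 : Cfsg.Agent.Lib.Chev.ng Cfsg.Lie.chevF4 (Cfsg.Agent.Lib.Chev.sim Cfsg.Lie.chevF4 1) = 20 := by decide +kernel
  have e2 : Cfsg.Agent.Lib.Chev.ng Cfsg.Lie.chevF4 (Cfsg.Agent.Lib.Chev.sim Cfsg.Lie.chevF4 2) = 22 := by decide +kernel
  have e3 : Cfsg.Agent.Lib.Chev.ng Cfsg.Lie.chevF4 (Cfsg.Agent.Lib.Chev.sim Cfsg.Lie.chevF4 3) = 23 := by decide +kernel
  have key : ∀ a b c : ℕ, ∀ j₁ j₂ j₃ : ℕ,
      Cfsg.Agent.Lib.Chev.ng Cfsg.Lie.chevF4 (Cfsg.Agent.Lib.Chev.sim Cfsg.Lie.chevF4 j₁) = a →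
      Cfsg.Agent.Lib.Chev.ng Cfsg.Lie.chevF4 (Cfsg.Agent.Lib.Chev.sim Cfsg.Lie.chevF4 j₂) = b →
      Cfsg.Agent.Lib.Chev.ng Cfsg.Lie.chevF4 (Cfsg.Agent.Lib.Chev.sim Cfsg.Lie.chevF4 j₃) = c →
      Subgroup.closure {g | ∃ j ∈ [j₁, j₂, j₃], ∃ t : F, g = Cfsg.Agent.Lib.Chev.goodF4.X F
        (Cfsg.Agent.Lib.Chev.ng Cfsg.Lie.chevF4 (Cfsg.Agent.Lib.Chev.sim Cfsg.Lie.chevF4 j)) t} =
      Cfsg.Lie.chevF4.rootSubgroup F a ⊔ Cfsg.Lie.chevF4.rootSubgroup F b ⊔ Cfsg.Lie.chevF4.rootSubgroup F c := by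
    intro a b c j₁ j₂ j₃ h1 h2 h3
    refine le_antisymm ((Subgroup.closure_le _).2 ?_) (sup_le (sup_le ?_ ?_) ?_)
    · rintro g ⟨j, hj, s, rfl⟩
      simp only [List.mem_cons, List.not_mem_nil, or_false] at hj
      rcases hj with rfl | rfl | rfl
      · exact Subgroup.mem_sup_left (Subgroup.mem_sup_left (Cfsg.Agent.Lib.Chev.goodF4.mem_rootSubgroup.2 ⟨s, by rw [h1]⟩))
      · exact Subgroup.mem_sup_left (Subgroup.mem_sup_right (Cfsg.Agent.Lib.Chev.goodF4.mem_rootSubgroup.2 ⟨s, by rw [h2]⟩))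
      · exact Subgroup.mem_sup_right (Cfsg.Agent.Lib.Chev.goodF4.mem_rootSubgroup.2 ⟨s, by rw [h3]⟩)
    all_goals
      intro g hg
      obtain ⟨s, rfl⟩ := Cfsg.Agent.Lib.Chev.goodF4.mem_rootSubgroup.1 hg
      refine Subgroup.subset_closure ?_
    · exact ⟨j₁, by simp, s, by rw [h1]⟩
    · exact ⟨j₂, by simp, s, by rw [h2]⟩
    · exact ⟨j₃, by simp, s, by rw [h3]⟩
  rw [key 14 20 22 0 1 2 e0 e1 e2, key 20 22 23 1 2 3 e1 e2 e3]
  simp only [sup_assoc, and_self]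

end Cfsg.Agent.S2178
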