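import Cfsg.Statements.S2179
import Cfsg.Agent.Lib.Chev.RootsCentData
-- import your own Cfsg.Agent.* helpers here

set_option autoImplicit false
open Cfsg

namespace Cfsg.Agent.S2179

/-- Centralizers of the two remaining classes of involutions in the Chevalley group G of type F₄ over a finite field F of characteristic two (this problem's root numbering for type F₄, from the Chevalley data module: p₁, p₂ short, p₃, p₄ long with indices 33, 27, 25, 24 and negatives 14, 20, 22, 23; U generated by the positive root subgroups). For an element of G with matrix x_47(1)x_44(1) (highest root times highest short root): its centralizer in G is generated by U, X_{−p₂} and X_{−p₃}. For an element of G with matrix x_39(1)x_45(1) (roots (1,2,2,1) and (2,4,2,1), an orthogonal short/long pair): its centralizer in G is generated by X_{p₁}, X_{−p₁}, X_{p₄}, X_{−p₄} and the root subgroups of all positive roots other than p₂ (27), p₃ (25), p₁ + p₂ (34) and p₃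 + p₄ (26). -/
theorem result {F : Type*} [Field F] [Fintype F] [CharP F 2] (w v : GL Cfsg.Lie.chevF4.Idx F) (hw : (w : Matrix Cfsg.Lie.chevF4.Idx Cfsg.Lie.chevF4.Idx F) = Cfsg.Lie.chevF4.x F 47 1 * Cfsg.Lie.chevF4.x F 44 1) (hv : (v : Matrix Cfsg.Lie.chevF4.Idx Cfsg.Lie.chevF4.Idx F) = Cfsg.Lie.chevF4.x F 39 1 * Cfsg.Lie.chevF4.x F 45 1) :
    Cfsg.Lie.chevF4.group F ⊓ Subgroup.centralizer {w} = Cfsg.Lie.chevF4.posUnipotent F ⊔ Cfsg.Lie.chevF4.rootSubgroup F 20 ⊔ Cfsg.Lie.chevF4.rootSubgroup F 22 ∧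
    Cfsg.Lie.chevF4.group F ⊓ Subgroup.centralizer {v} = Cfsg.Lie.chevF4.rootSubgroup F 33 ⊔ Cfsg.Lie.chevF4.rootSubgroup F 14 ⊔ Cfsg.Lie.chevF4.rootSubgroup F 24 ⊔ Cfsg.Lie.chevF4.rootSubgroup F 23 ⊔
      Subgroup.closure {g : GL Cfsg.Lie.chevF4.Idx F | ∃ (r : ℕ) (c : F), Cfsg.Lie.chevF4.IsPosRoot r ∧ r ∉ [27, 25, 34, 26] ∧ (g : Matrix Cfsg.Lie.chevF4.Idx Cfsg.Lie.chevF4.Idx F) = Cfsg.Lie.chevF4.x F r c} := by
  let G := Cfsg.Agent.Lib.Chev.goodF4
  obtain rfl : w = G.prodL F Cfsg.Agent.Lib.Chev.cfgF4w.R (fun _ => 1) := Units.ext (by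
    rw [hw, Cfsg.Agent.Lib.Chev.cfgF4w, G.prodL_cons, G.prodL_cons, G.prodL_nil, mul_one, Units.val_mul, G.X_val, G.X_val])
  obtain rfl : v = G.prodL F Cfsg.Agent.Lib.Chev.cfgF4v.R (fun _ => 1) := Units.ext (by
    rw [hv, Cfsg.Agent.Lib.Chev.cfgF4v, G.prodL_cons, G.prodL_cons, G.prodL_nil, mul_one, Units.val_mul, G.X_val, G.X_val])
  rw [G.centralizer_roots Cfsg.Agent.Lib.Chev.okF4w, G.centralizer_roots Cfsg.Agent.Lib.Chev.okF4v]
  have key : ∀ {K : Subgroup (GL Cfsg.Lie.chevF4.Idx F)} {r : ℕ},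
      Cfsg.Lie.chevF4.rootSubgroup F r ≤ K ↔ ∀ c, G.X F r c ∈ K := fun {K r} =>
    ⟨fun h c => h (G.mem_rootSubgroup.2 ⟨c, rfl⟩), fun h g hg => by
      obtain ⟨c, rfl⟩ := G.mem_rootSubgroup.1 hg
      exact h c⟩
  constructor
  · refine le_antisymm (G.gen_le fun r hr c => ?_) (sup_le (sup_le (G.posUnipotent_le_of fun r hr hp c =>
      G.X_mem_gen ?_ c) (key.2 fun c => G.X_mem_gen (by decide) c))
        (key.2 fun c => G.X_mem_gen (by decide) c))
    · simp only [Cfsg.Agent.Lib.Chev.cfgF4w, List.mem_append, List.mem_range'_1, List.mem_cons, List.not_mem_nil, or_false] at hr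
      rcases hr with ⟨h1, h2⟩ | rfl | rfl
      · exact Subgroup.mem_sup_left (Subgroup.mem_sup_left (G.X_mem_posUnipotent h2 h1 c))
      · exact Subgroup.mem_sup_left (Subgroup.mem_sup_right (G.mem_rootSubgroup.2 ⟨c, rfl⟩))
      · exact Subgroup.mem_sup_right (G.mem_rootSubgroup.2 ⟨c, rfl⟩)
    · exact List.mem_append_left _ (List.mem_range'_1.2 ⟨hp, hr⟩)
  · refine le_antisymm (G.gen_le fun r hr c => ?_) ?_
    · simp only [Cfsg.Agent.Lib.Chev.cfgF4v, List.mem_append, List.mem_filter, List.mem_range'_1, Bool.not_eq_true',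
        List.mem_cons, List.not_mem_nil, or_false] at hr
      rcases hr with ⟨⟨h1, h2⟩, h3⟩ | rfl | rfl
      · refine Subgroup.mem_sup_right (Subgroup.subset_closure ⟨r, c, G.isPos_iff.2 ⟨h2, h1⟩, ?_, G.X_val r c⟩)
        simpa using h3
      · exact Subgroup.mem_sup_left (Subgroup.mem_sup_left (Subgroup.mem_sup_left (Subgroup.mem_sup_right (G.mem_rootSubgroup.2 ⟨c, rfl⟩))))
      · exact Subgroup.mem_sup_left (Subgroup.mem_sup_right (G.mem_rootSubgroup.2 ⟨c, rfl⟩))
    · simp only [sup_le_iff, key]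
      refine ⟨⟨⟨⟨?_, ?_⟩, ?_⟩, ?_⟩, ?_⟩
      · exact fun c => G.X_mem_gen (by decide) c
      · exact fun c => G.X_mem_gen (by decide) c
      · exact fun c => G.X_mem_gen (by decide) c
      · exact fun c => G.X_mem_gen (by decide) c
      · rw [Subgroup.closure_le]
        rintro g ⟨r, c, hr, hne, hg⟩
        obtain ⟨h2, h1⟩ := G.isPos_iff.1 hr
        rw [G.eq_X_of_val hg]
        refine G.X_mem_gen (List.mem_append_left _ (List.mem_filter.2 ⟨List.mem_range'_1.2 ⟨h1, h2⟩, ?_⟩)) c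
        simpa using hne

end Cfsg.Agent.S2179
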