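import Cfsg.Statements.S2180
import Cfsg.Agent.Lib.Chev.RootsCentData
-- import your own Cfsg.Agent.* helpers here

set_option autoImplicit false
open Cfsg

namespace Cfsg.Agent.S2180

/-- Centralizers of involutions in the Chevalley group G of type G₂ over a finite field F of characteristic two with at least four elements (this problem's root numbering for type G₂, from the Chevalley data module: a = p₁ short with index 7, b = p₂ long with index 6, −a = 4, −b = 5, 2a + b = 9, 3a + b = 10, 3a + 2b = 11; U generated by the positive root subgroups). For an element z of G with matrix x_{3a+2b}(1): the centralizer of z in G is generated by U and X_{−a}. For an element t of G with matrix x_{2a+b}(1): the centralizer of t in G is generated by X_{2a+b}, X_{3a+b}, X_{3a+2b}, X_b and X_{−b}. -/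
theorem result {F : Type*} [Field F] [Fintype F] [CharP F 2] (hF : 4 ≤ Fintype.card F) (z t : GL Cfsg.Lie.chevG2.Idx F) (hz : (z : Matrix Cfsg.Lie.chevG2.Idx Cfsg.Lie.chevG2.Idx F) = Cfsg.Lie.chevG2.x F 11 1) (ht : (t : Matrix Cfsg.Lie.chevG2.Idx Cfsg.Lie.chevG2.Idx F) = Cfsg.Lie.chevG2.x F 9 1) :
    Cfsg.Lie.chevG2.group F ⊓ Subgroup.centralizer {z} = Cfsg.Lie.chevG2.posUnipotent F ⊔ Cfsg.Lie.chevG2.rootSubgroup F 4 ∧
    Cfsg.Lie.chevG2.group F ⊓ Subgroup.centralizer {t} = Cfsg.Lie.chevG2.rootSubgroup F 9 ⊔ Cfsg.Lie.chevG2.rootSubgroup F 10 ⊔ Cfsg.Lie.chevG2.rootSubgroup F 11 ⊔ Cfsg.Lie.chevG2.rootSubgroup F 6 ⊔ Cfsg.Lie.chevG2.rootSubgroup F 5 := by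
  let G := Cfsg.Agent.Lib.Chev.goodG2
  obtain rfl : z = G.prodL F Cfsg.Agent.Lib.Chev.cfgG2z.R (fun _ => 1) := Units.ext (by
    rw [hz, Cfsg.Agent.Lib.Chev.cfgG2z, G.prodL_cons, G.prodL_nil, mul_one, G.X_val])
  obtain rfl : t = G.prodL F Cfsg.Agent.Lib.Chev.cfgG2t.R (fun _ => 1) := Units.ext (by
    rw [ht, Cfsg.Agent.Lib.Chev.cfgG2t, G.prodL_cons, G.prodL_nil, mul_one, G.X_val])
  rw [G.centralizer_roots Cfsg.Agent.Lib.Chev.okG2z, G.centralizer_roots Cfsg.Agent.Lib.Chev.okG2t]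
  have key : ∀ {K : Subgroup (GL Cfsg.Lie.chevG2.Idx F)} {r : ℕ},
      Cfsg.Lie.chevG2.rootSubgroup F r ≤ K ↔ ∀ c, G.X F r c ∈ K := fun {K r} =>
    ⟨fun h c => h (G.mem_rootSubgroup.2 ⟨c, rfl⟩), fun h g hg => by
      obtain ⟨c, rfl⟩ := G.mem_rootSubgroup.1 hg
      exact h c⟩
  constructor
  · refine le_antisymm (G.gen_le fun r hr c => ?_) (sup_le (G.posUnipotent_le_of fun r hr hp c =>
      G.X_mem_gen ?_ c) (key.2 fun c => G.X_mem_gen (by decide) c))
    · have hr' : r = 4 ∨ (6 ≤ r ∧ r < 12) := by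
        simp only [Cfsg.Agent.Lib.Chev.cfgG2z, List.mem_cons, List.not_mem_nil, or_false] at hr
        omega
      rcases hr' with rfl | ⟨h1, h2⟩
      · exact Subgroup.mem_sup_right (G.mem_rootSubgroup.2 ⟨c, rfl⟩)
      · exact Subgroup.mem_sup_left (G.X_mem_posUnipotent h2 h1 c)
    · have h1 : 6 ≤ r := hp
      have h2 : r < 12 := hr
      interval_cases r <;> decide
  · refine le_antisymm (G.gen_le fun r hr c => ?_) ?_
    · simp only [Cfsg.Agent.Lib.Chev.cfgG2t, List.mem_cons, List.not_mem_nil, or_false] at hr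
      rcases hr with rfl | rfl | rfl | rfl | rfl
      · exact Subgroup.mem_sup_left (Subgroup.mem_sup_left (Subgroup.mem_sup_left (Subgroup.mem_sup_left (G.mem_rootSubgroup.2 ⟨c, rfl⟩))))
      · exact Subgroup.mem_sup_left (Subgroup.mem_sup_left (Subgroup.mem_sup_left (Subgroup.mem_sup_right (G.mem_rootSubgroup.2 ⟨c, rfl⟩))))
      · exact Subgroup.mem_sup_left (Subgroup.mem_sup_left (Subgroup.mem_sup_right (G.mem_rootSubgroup.2 ⟨c, rfl⟩)))
      · exact Subgroup.mem_sup_left (Subgroup.mem_sup_right (G.mem_rootSubgroup.2 ⟨c, rfl⟩))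
      · exact Subgroup.mem_sup_right (G.mem_rootSubgroup.2 ⟨c, rfl⟩)
    · simp only [sup_le_iff, key]
      refine ⟨⟨⟨⟨?_, ?_⟩, ?_⟩, ?_⟩, ?_⟩ <;> exact fun c => G.X_mem_gen (by decide) c

end Cfsg.Agent.S2180
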