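import Cfsg.Statements.S2183
import Cfsg.Agent.Lib.RankOne.TrialityInvolCount

set_option autoImplicit false
open Cfsg

namespace Cfsg.Agent.S2183

/-- The twisted group ³D₄(q), q even, realised inside the Chevalley group of type D₄ over the field K with q³ elements, has exactly two conjugacy classes of elements of order 2. -/
theorem result {K : Type*} [Field K] [Fintype K] [CharP K 2] (q : ℕ) (hK : Fintype.card K = q ^ 3) :
    (ConjClasses.mk '' {g : ↥(Cfsg.Lie.twistedD4 K q) | orderOf g = 2}).ncard = 2 := by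
  have h1 : q ≠ 1 := by
    rintro rfl
    have := Fintype.one_lt_card (α := K)
    omega
  obtain ⟨n, hp, hn⟩ := FiniteField.card K 2
  have hd : q ∣ 2 ^ (n : ℕ) := by rw [← hn, hK]; exact dvd_pow_self q (by norm_num)
  obtain ⟨a, -, rfl⟩ := (Nat.dvd_prime_pow hp).1 hd
  have ha : 0 < a := Nat.pos_of_ne_zero fun h => h1 (by rw [h, pow_zero])
  obtain ⟨A⟩ := Cfsg.Agent.Lib.Chev.Tw.D4.exists_par (hp.isPrimePow.pow ha.ne') hK
  exact Cfsg.Agent.Lib.RankOne.Triality.Invol.class_count A

end Cfsg.Agent.S2183
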