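import Cfsg.Statements.S2189
import Cfsg.Agent.Lib.Chev.Over.Final

set_option autoImplicit false
open Cfsg

namespace Cfsg.Agent.S2189

/-- Finite subgroups of an adjoint Chevalley group over an algebraically closed field that contain the group over a finite subfield. Let k be an algebraically closed field of prime characteristic p, G the Chevalley group of type G₂, B₂, D₄, F₄, E₆, E₇ or E₈ over k (the matrix group generated by the root elements x_s(t), t ∈ k), and q = p^a with a ≥ 1. Let L be the subgroup generated by the root elements x_s(t) with t^q = t (the Chevalley group over the field of q elements inside G), and let M be a finite subgroup of G containing L. Then for some r ≥ 1, M contains every root element x_s(t) with t^(q^r) = t and every element of M is a matrix all of whose entries c satisfy c^(q^r) = c (so M lies between the Chevalley group over the field with q^r elements and the group of points of G fixed by the q^r-th power map). -/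
theorem result {k : Type*} [Field k] [IsAlgClosed k] (p : ℕ) [Fact p.Prime] [CharP k p] (D : Cfsg.Lie.ChevalleyDatum) (hD : D ∈ [Cfsg.Lie.chevG2, Cfsg.Lie.chevB2, Cfsg.Lie.chevD4, Cfsg.Lie.chevF4, Cfsg.Lie.chevE6, Cfsg.Lie.chevE7, Cfsg.Lie.chevE8]) (a : ℕ) (ha : 1 ≤ a) (M : Subgroup (GL D.Idx k)) (hMfin : Finite ↥M) (hMG : M ≤ D.group k)
    (hLM : Subgroup.closure {g : GL D.Idx k | ∃ (s : ℕ) (t : k), t ^ (p ^ a) = t ∧ (g : Matrix D.Idx D.Idx k) = D.x k s t} ≤ M) :
    ∃ r : ℕ, 1 ≤ r ∧ Subgroup.closure {g : GL D.Idx k | ∃ (s : ℕ) (t : k), t ^ ((p ^ a) ^ r) = t ∧ (g : Matrix D.Idx D.Idx k) = D.x k s t} ≤ M ∧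
      ∀ g ∈ M, ∀ i j : D.Idx, ((g : Matrix D.Idx D.Idx k) i j) ^ ((p ^ a) ^ r) = (g : Matrix D.Idx D.Idx k) i j := by
  classical
  haveI : ExpChar k p := ExpChar.prime Fact.out
  haveI := hMfin
  set f : k →+* k := iterateFrobenius k p a with hf
  have hf' : ∀ x : k, f x = x ^ p ^ a := fun x => iterateFrobenius_def p a x
  set F₀ : Subfield k := f.eqLocusField (RingHom.id k) with hF₀
  have hF₀c : Nat.card F₀ = p ^ a := by
    rw [← Cfsg.Agent.Lib.Chev.card_fix_closed (K := k) p a ha]
    exact Nat.card_congr (Equiv.subtypeEquivRight fun x => by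
      show f x = x ↔ _
      rw [hf'])
  have hfix : Cfsg.Agent.Lib.Chev.Good.fixX (D := D) k f ≤ M := by
    refine le_trans (Subgroup.closure_mono ?_) hLM
    rintro z ⟨s, u, hu, e⟩
    exact ⟨s, u, by rw [← hf']; exact hu, e⟩
  obtain ⟨E, hEfin, hFE, hroot, -, hall⟩ :=
    Cfsg.Agent.Lib.Chev.overgroup_field hD p f M hMG hfix
  haveI := hEfin
  have hle : F₀ ≤ E := fun x hx => hFE x hx
  haveI : Finite F₀ := Finite.of_injective (Subfield.inclusion hle) (RingHom.injective _)
  letI : Algebra F₀ E := (Subfield.inclusion hle).toAlgebra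
  haveI : Module.Finite F₀ E := Module.Finite.of_finite
  set r := Module.finrank F₀ E with hr
  have hr1 : 1 ≤ r := Module.finrank_pos
  have hEc : Nat.card E = (p ^ a) ^ r := by
    rw [Module.natCard_eq_pow_finrank (K := F₀) (V := E), hF₀c]
  set f' : k →+* k := iterateFrobenius k p (a * r) with hfr
  have hf'' : ∀ x : k, f' x = x ^ ((p ^ a) ^ r) := fun x => by
    rw [hfr, iterateFrobenius_def, ← pow_mul]
  set F' : Subfield k := f'.eqLocusField (RingHom.id k) with hF'
  have hF'c : Nat.card F' = (p ^ a) ^ r := by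
    rw [← pow_mul, ← Cfsg.Agent.Lib.Chev.card_fix_closed (K := k) p (a * r) (Nat.mul_pos ha hr1)]
    exact Nat.card_congr (Equiv.subtypeEquivRight fun x => by
      show f' x = x ↔ _
      rw [hf'', ← pow_mul])
  haveI : Finite F' := Nat.finite_of_card_ne_zero (by
    rw [hF'c]; exact pow_ne_zero _ (pow_ne_zero _ (Fact.out : p.Prime).ne_zero))
  have hEF : F' = E := Cfsg.Agent.Lib.Chev.subfield_eq_of_card (hF'c.trans hEc.symm)
  have hmem : ∀ x, f' x = x ↔ x ∈ E := fun x => by rw [← hEF]; exact Iff.rfl
  refine ⟨r, hr1, ?_, fun g hg i j => ?_⟩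
  · refine (Subgroup.closure_le _).2 ?_
    rintro g ⟨s, t, ht, e⟩
    exact hroot s t ((hmem t).1 (by rw [hf'']; exact ht)) g e
  · rw [← hf'']
    exact (Cfsg.Agent.Lib.Chev.gmap_eq_iff f' g).1 (hall f' hmem g hg) i j

end Cfsg.Agent.S2189
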