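import Cfsg.Statements.S2190
import Cfsg.Agent.Lib.Chev.Over.Final
import Cfsg.Agent.Lib.Chev.Tw.Field

set_option autoImplicit false
open Cfsg

namespace Cfsg.Agent.S2190

/-- Subfield subgroups of prime degree are maximal. Let K be a finite field with q^r elements, r a prime, q a power of the characteristic, and G the Chevalley group of type G₂, B₂, D₄, F₄, E₆, E₇ or E₈ over K (the matrix group generated by the root elements). Let M be the subgroup of G consisting of the matrices all of whose entries lie in the subfield with q elements (entries c with c^q = c). Then M is a proper subgroup of G and is maximal: every subgroup of G containing M is M or G. -/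
theorem result {K : Type*} [Field K] [Fintype K] (p : ℕ) [Fact p.Prime] [CharP K p] (D : Cfsg.Lie.ChevalleyDatum) (hD : D ∈ [Cfsg.Lie.chevG2, Cfsg.Lie.chevB2, Cfsg.Lie.chevD4, Cfsg.Lie.chevF4, Cfsg.Lie.chevE6, Cfsg.Lie.chevE7, Cfsg.Lie.chevE8]) (a r : ℕ) (ha : 1 ≤ a) (hr : r.Prime) (hK : Fintype.card K = (p ^ a) ^ r) (M : Subgroup (GL D.Idx K))
    (hM : ∀ g : GL D.Idx K, g ∈ M ↔ g ∈ D.group K ∧ ∀ i j : D.Idx, ((g : Matrix D.Idx D.Idx K) i j) ^ (p ^ a) = (g : Matrix D.Idx D.Idx K) i j) :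
    M ≠ D.group K ∧ ∀ H : Subgroup (GL D.Idx K), M ≤ H → H ≤ D.group K → H = M ∨ H = D.group K := by
  classical
  haveI : ExpChar K p := ExpChar.prime Fact.out
  set f : K →+* K := iterateFrobenius K p a with hf
  have hf' : ∀ x : K, f x = x ^ p ^ a := fun x => iterateFrobenius_def p a x
  have hq : 1 < p ^ a := Nat.one_lt_pow (by omega) (Fact.out : p.Prime).one_lt
  set F₀ : Subfield K := f.eqLocusField (RingHom.id K) with hF₀
  have hF₀c : Nat.card F₀ = p ^ a := by
    rw [← Cfsg.Agent.Lib.Chev.Tw.card_fixed hq hr.pos hK]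
    exact Nat.card_congr (Equiv.subtypeEquivRight fun x => by
      show f x = x ↔ _
      rw [hf'])
  have hcard : Nat.card K = Nat.card F₀ ^ r := by rw [hF₀c, Nat.card_eq_fintype_card, hK]
  obtain ⟨t, ht⟩ : ∃ t : K, f t ≠ t := by
    by_contra h
    push Not at h
    have h1 : Nat.card K ≤ Nat.card F₀ := Nat.card_le_card_of_injective
      (fun x => (⟨x, h x⟩ : F₀)) fun x y e => congrArg (fun z : F₀ => (z : K)) e
    rw [hcard, hF₀c] at h1
    have h2 : (p ^ a) ^ 1 < (p ^ a) ^ r := Nat.pow_lt_pow_right hq hr.one_lt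
    rw [pow_one] at h2
    omega
  have hMfix : ∀ g : GL D.Idx K, g ∈ M ↔ g ∈ D.group K ∧
      ∀ i j, f ((g : Matrix D.Idx D.Idx K) i j) = (g : Matrix D.Idx D.Idx K) i j := by
    intro g
    rw [hM g]
    simp only [hf']
  refine ⟨fun h => ?_, fun H hMH hHG => ?_⟩
  · obtain ⟨g, hg, hn⟩ := Cfsg.Agent.Lib.Chev.exists_root_notFixed hD f ht
    exact hn ((hMfix g).1 (h.symm ▸ hg)).2
  have hfix : Cfsg.Agent.Lib.Chev.Good.fixX (D := D) K f ≤ H := by
    obtain ⟨T, c, G, -, -⟩ := Cfsg.Agent.Lib.Chev.exists_good_over_extra hD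
    refine (Subgroup.closure_le _).2 ?_
    rintro z ⟨s, u, hu, e⟩
    rw [SetLike.mem_coe, G.eq_X_of_val e]
    apply hMH
    rw [hMfix]
    refine ⟨?_, (Cfsg.Agent.Lib.Chev.gmap_eq_iff f _).1 (by rw [G.gmap_X, hu])⟩
    by_cases hs : s < D.nroots
    · exact G.X_mem_group hs u
    · rw [show G.X K s u = 1 from Units.ext (by simp [Cfsg.Lie.ChevalleyDatum.x, hs])]
      exact one_mem _
  obtain ⟨E, -, hFE, -, htop, hall⟩ :=
    Cfsg.Agent.Lib.Chev.overgroup_field hD p f H hHG hfix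
  by_cases hE : F₀ = E
  · left
    refine le_antisymm (fun g hg => (hMfix g).2 ⟨hHG hg, ?_⟩) hMH
    exact (Cfsg.Agent.Lib.Chev.gmap_eq_iff f g).1 (hall f (fun x => by rw [← hE]; exact Iff.rfl) g hg)
  · right
    exact htop (Cfsg.Agent.Lib.Chev.subfield_eq_top_of_prime_degree F₀ E hr hcard (fun x hx => hFE x hx) hE)

end Cfsg.Agent.S2190
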