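import Cfsg.Statements.S2205
import Cfsg.Agent.Lib.DoublyPrimSq.Central

set_option autoImplicit false
open Cfsg

namespace Cfsg.Agent.S2205

open MulAction Lib.DoublyPrimSq

/-- A finite group acting faithfully and 2-transitively on a set with p² + 1 points, p a prime, is doubly primitive — a point stabilizer acts primitively on the remaining p² points — unless p = 2 and the group is the Frobenius group of order 20. -/
theorem result {G Ω : Type*} [Group G] [Finite G] [Fintype Ω] [MulAction G Ω] [FaithfulSMul G Ω] (p : ℕ) (hp : p.Prime) (hΩ : Fintype.card Ω = p ^ 2 + 1) (h2 : MulAction.IsMultiplyPretransitive G Ω 2) (a : Ω) :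
    MulAction.IsPreprimitive ↥(MulAction.stabilizer G a) ↥(SubMulAction.ofStabilizer G a) ∨ (p = 2 ∧ Nat.card G = 20) := by
  classical
  haveI := Fact.mk hp
  refine or_iff_not_imp_left.2 fun himp => ?_
  obtain ⟨B⟩ := exists_blockSys hp hΩ h2 a himp
  have hp2l := hp.two_le
  have hp4 : 4 ≤ p ^ 2 := by nlinarith
  obtain ⟨b, hb⟩ := Fintype.exists_ne_of_one_lt_card (by omega : 1 < Fintype.card Ω) a
  obtain ⟨P, hP⟩ := exists_regSub hp hΩ h2 B hb
  have htr : ∀ u v, u ≠ a → v ∈ B.cls u → ∃ k ∈ kerBlocks B, k • u = v := fun u v hu hv =>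
    let ⟨k, hk, h⟩ := hP.blockTrans u v hu hv; ⟨k, hk.2, h⟩
  have hG : Nat.card G = (p ^ 2 + 1) *
      (p ^ 2 * Nat.card ↥(stabilizer G a ⊓ stabilizer G b)) := by
    haveI := h2
    haveI : IsPretransitive G Ω := isPretransitive_of_is_two_pretransitive
    rw [← card_stabilizer_eq hΩ h2 hb, ← hΩ, ← Nat.card_eq_fintype_card,
      ← index_stabilizer_of_transitive G a, Subgroup.index_mul_card]
  rcases hp.eq_two_or_odd with rfl | hodd
  · refine ⟨rfl, ?_⟩
    have htriv : stabilizer G a ⊓ stabilizer G b = ⊥ := by
      rw [Subgroup.eq_bot_iff_forall]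
      intro g hg
      set d := Nat.card ↥(stabilizer G a ⊓ stabilizer G b) with hd
      have hoddord : Odd (orderOf g) := by
        refine (Nat.odd_iff.2 ?_).of_dvd_nat (show orderOf g ∣ d from ?_)
        · exact Nat.two_dvd_ne_zero.1 (hP.coprime b hb)
        · rw [← Subgroup.orderOf_mk g hg]; exact orderOf_dvd_natCard _
      have hga : g • a = a := hg.1
      have hgb : g • b = b := hg.2
      -- the square fixes every point
      have hsq : g ^ 2 = 1 := by
        apply eq_of_smul_eq_smul (α := Ω)
        intro x
        rw [one_smul, pow_two, mul_smul]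
        by_cases hxa : x = a
        · rw [hxa, hga, hga]
        by_cases hxb : x ∈ B.cls b
        · obtain ⟨w, hw⟩ := Finset.card_eq_one.1
            (show ((B.cls b).erase b).card = 1 by
              rw [Finset.card_erase_of_mem (B.self_mem b hb), B.card_eq b hb])
          by_cases hxb' : x = b
          · rw [hxb', hgb, hgb]
          have h1 : x ∈ (B.cls b).erase b := Finset.mem_erase.2 ⟨hxb', hxb⟩
          have h2' : g • x ∈ (B.cls b).erase b := by
            refine Finset.mem_erase.2 ⟨fun e => hxb' (smul_left_cancel g (e.trans hgb.symm)), ?_⟩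
            have := B.smul_mem g hga b x hb hxb
            rwa [hgb] at this
          rw [hw, Finset.mem_singleton] at h1 h2'
          rw [h2'.trans h1.symm, h2'.trans h1.symm]
        · have hc : (((Finset.univ : Finset Ω).erase a) \ B.cls b).card = 2 := by
            rw [Finset.card_sdiff_of_subset (fun v hv => Finset.mem_erase.2
              ⟨B.ne_of_mem hb hv, Finset.mem_univ _⟩), Finset.card_erase_of_mem (Finset.mem_univ _),
              Finset.card_univ, hΩ, B.card_eq b hb]
            norm_num
          have hmaps : ∀ v ∈ ((Finset.univ : Finset Ω).erase a) \ B.cls b,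
              g • v ∈ ((Finset.univ : Finset Ω).erase a) \ B.cls b := by
            intro v hv
            simp only [Finset.mem_sdiff, Finset.mem_erase, Finset.mem_univ, and_true] at hv ⊢
            refine ⟨smul_ne hga hv.1, fun h => hv.2 ?_⟩
            have := B.smul_mem g⁻¹ (inv_fix hga) b (g • v) hb h
            rwa [inv_smul_smul, inv_smul_eq_iff.2 hgb.symm] at this
          have hx : x ∈ ((Finset.univ : Finset Ω).erase a) \ B.cls b := by simp [hxa, hxb]
          obtain ⟨u, v, huv, huv'⟩ := Finset.card_eq_two.1 hc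
          have h1 := hmaps x hx
          have h2' := hmaps _ h1
          rw [huv'] at hx h1 h2'
          simp only [Finset.mem_insert, Finset.mem_singleton] at hx h1 h2'
          have hne : ∀ y z : Ω, g • y = g • z → y = z := fun y z h => smul_left_cancel g h
          by_cases hfx : g • x = x
          · rw [hfx, hfx]
          · have h3 : g • g • x ≠ g • x := fun e => hfx (hne _ _ e)
            rcases hx with hx | hx <;> rcases h1 with h1 | h1 <;> rcases h2' with h2' | h2' <;>
              first
                | exact h2'.trans hx.symm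
                | exact absurd (h1.trans hx.symm) hfx
                | exact absurd (h2'.trans h1.symm) h3
      rcases (Nat.dvd_prime Nat.prime_two).1 (orderOf_dvd_of_pow_eq_one hsq) with h | h
      · exact orderOf_eq_one_iff.1 h
      · rw [h] at hoddord; exact absurd hoddord (by decide)
    rw [hG, htriv, Subgroup.card_bot]
    norm_num
  · exfalso
    have hp2 : p ≠ 2 := fun h => by rw [h] at hodd; norm_num at hodd
    have hp3 : 3 ≤ p := by omega
    have hn4 : Fintype.card Ω % 4 = 2 := by
      have hk := (Nat.two_mul_div_two_add_one_of_odd (Nat.odd_iff.2 hodd)).symm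
      generalize p / 2 = k at hk
      have : (2 * k + 1) ^ 2 + 1 = 4 * (k * k + k) + 2 := by ring
      rw [hΩ, hk, this]
      omega
    -- move a fixed triple to the point `a`
    have hmove : ∀ x y z : Ω, x ≠ y → z ≠ x → z ≠ y → ∀ g : G, g • x = x → g • y = y → g • z = z →
        ∃ (t : G) (y' z' : Ω), y' ≠ a ∧ z' ≠ a ∧ z' ≠ y' ∧ (t * g * t⁻¹) • a = a ∧
          (t * g * t⁻¹) • y' = y' ∧ (t * g * t⁻¹) • z' = z' := by
      intro x y z hxy hzx hzy g hgx hgy hgz
      haveI := h2
      haveI : IsPretransitive G Ω := isPretransitive_of_is_two_pretransitive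
      obtain ⟨t, ht⟩ := exists_smul_eq G x a
      have hfix : ∀ w : Ω, g • w = w → (t * g * t⁻¹) • t • w = t • w := fun w hw => by
        rw [← mul_smul, inv_mul_cancel_right, mul_smul, hw]
      refine ⟨t, t • y, t • z, ?_, ?_, fun h => hzy (smul_left_cancel t h), ht ▸ hfix x hgx,
        hfix y hgy, hfix z hgz⟩
      · rw [← ht]; exact fun h => hxy (smul_left_cancel t h).symm
      · rw [← ht]; exact fun h => hzx (smul_left_cancel t h)
    by_cases hp3' : p = 3
    · subst hp3'
      set s : G →* ℤˣ := Equiv.Perm.sign.comp (MulAction.toPermHom G Ω) with hs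
      have hPs : ∀ q ∈ P, q ∈ s.ker := by
        intro q hq
        have h9 : q ^ 9 = 1 := by
          have := pow_card_eq_one' (G := ↥P) (x := ⟨q, hq⟩)
          rw [hP.card] at this
          simpa using congrArg Subtype.val this
        rw [MonoidHom.mem_ker]
        have := congrArg s h9
        rw [map_pow, map_one] at this
        rcases Int.units_eq_one_or (s q) with h | h
        · exact h
        · rw [h] at this; exact absurd this (by decide)
      haveI : IsPreprimitive G Ω := isPreprimitive_of_is_two_pretransitive h2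
      have hker : s.ker ≠ ⊥ := by
        intro h
        have h1 := Subgroup.card_dvd_of_le (show P ≤ s.ker from hPs)
        rw [h, Subgroup.card_bot, hP.card] at h1
        norm_num at h1
      haveI := Lib.Perm.isPretransitive_of_normal (α := Ω) s.ker hker
      have h2' : IsMultiplyPretransitive ↥s.ker Ω 2 := by
        rw [is_two_pretransitive_iff]
        intro x y u v hxy huv
        obtain ⟨g, hg⟩ := exists_smul_eq ↥s.ker x a
        obtain ⟨g', hg'⟩ := exists_smul_eq ↥s.ker u a
        obtain ⟨q, hq, hqy⟩ := hP.trans (g • y) (g' • v)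
          (fun h => hxy (smul_left_cancel g (hg.trans h.symm)))
          (fun h => huv (smul_left_cancel g' (hg'.trans h.symm)))
        have hqa : q • a = a := hP.le hq
        refine ⟨g'⁻¹ * ⟨q, hPs q hq⟩ * g, ?_, ?_⟩
        · rw [mul_smul, mul_smul, hg, inv_smul_eq_iff, hg']
          exact hqa
        · rw [mul_smul, mul_smul, inv_smul_eq_iff]
          exact hqy
      have hsemi : ∀ x y z : Ω, x ≠ y → z ≠ x → z ≠ y → ∀ g : ↥s.ker,
          g • x = x → g • y = y → g • z = z → g = 1 := by
        intro x y z hxy hzx hzy g hgx hgy hgz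
        obtain ⟨t, y', z', hy', hz', hne, h1, h2'', h3⟩ :=
          hmove x y z hxy hzx hzy (g : G) hgx hgy hgz
        by_contra hg1
        have hne1 : t * (g : G) * t⁻¹ ≠ 1 := by
          simp only [ne_eq, conj_eq_one_iff]
          exact fun h => hg1 (Subtype.ext h)
        have hsg := sign_eq_neg_one_three hΩ B htr hP.coprime hy' hz' hne hne1 h1 h2'' h3
        have hk : s (t * (g : G) * t⁻¹) = 1 := by
          rw [map_mul, map_mul, show s g = 1 from g.2, mul_one, ← map_mul, mul_inv_cancel, map_one]
        exact absurd (hsg.symm.trans hk) (by decide)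
      refine false_of_semiregular h2' hn4 hsemi (Ne.symm hb) ?_
      have hle : Nat.card ↥((stabilizer ↥s.ker a ⊓ stabilizer ↥s.ker b).map s.ker.subtype) ≤ 3 - 1 := by
        refine card_pair_le B (by norm_num) _ hb ?_ ?_
        · rintro _ ⟨g, hg, rfl⟩; exact ⟨hg.1, hg.2⟩
        · rintro _ ⟨g, hg, rfl⟩ w hwa hwb hgw
          rw [hsemi a b w (Ne.symm hb) hwa hwb g hg.1 hg.2 hgw, map_one]
      rw [Subgroup.card_map_of_injective (Subgroup.subtype_injective _)] at hle
      rw [hΩ]
      omega
    have hp5 : 4 ≤ p := by omega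
    by_cases hsemi : ∀ g : G, ∀ y z : Ω, y ≠ a → z ≠ a → z ≠ y →
        g • a = a → g • y = y → g • z = z → g = 1
    · refine false_of_semiregular h2 hn4 (fun x y z hxy hzx hzy g hgx hgy hgz => ?_) (Ne.symm hb) ?_
      · obtain ⟨t, y', z', hy', hz', hne, h1, h2', h3⟩ := hmove x y z hxy hzx hzy g hgx hgy hgz
        exact conj_eq_one_iff.1 (hsemi _ y' z' hy' hz' hne h1 h2' h3)
      · have hle := card_pair_le B (by omega) (stabilizer G a ⊓ stabilizer G b) hb le_rfl
          (fun g hg w hwa hwb hgw => hsemi g b w hb hwa hwb hg.1 hg.2 hgw)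
        rw [hΩ]
        have : 5 * p ≤ p ^ 2 + p := by nlinarith
        omega
    push Not at hsemi
    obtain ⟨g, y, z, hy, hz, hzy, hga, hgy, hgz, hg1⟩ := hsemi
    by_cases hK : ∀ w, w ≠ a → kerPoint B w = ⊥
    · have := le_three_of_regular_kernel hp2 hΩ h2 hP hK hy hz hzy hg1 hga hgy hgz
      omega
    · push Not at hK
      obtain ⟨w, hw, hKw⟩ := hK
      have := le_three_of_kerPoint hp2 hΩ h2 hP hw hKw
      omega

end Cfsg.Agent.S2205
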