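import Cfsg.Statements.S2209
import Cfsg.Agent.Lib.Chev.RootCent
import Cfsg.Agent.Lib.Chev.All
-- import your own Cfsg.Agent.* helpers here

set_option autoImplicit false
open Cfsg

namespace Cfsg.Agent.S2209

open Cfsg.Lie Cfsg.Agent.Lib.Chev in
theorem core {F : Type*} [Field F] [CharP F 2] {D : ChevalleyDatum} {T : Tables} (G : Good D T)
    (hP : chkPar D T = true) {r i₀ : ℕ} {J L : List ℕ} (hchk : chkCentRoot D T r i₀ J = true)
    (hL : L = J.map fun j => ng D (sim D j)) (hr : r = D.nroots - 1) (hLlt : ∀ s ∈ L, s < D.nroots)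
    (t : GL D.Idx F) (ht : (t : Matrix D.Idx D.Idx F) = D.x F (D.nroots - 1) 1) :
    D.group F ⊓ Subgroup.centralizer {t} =
      D.posUnipotent F ⊔ Subgroup.closure {g : GL D.Idx F | ∃ s ∈ L, ∃ c : F, (g : Matrix D.Idx D.Idx F) = D.x F s c} := by
  obtain rfl : t = G.X F r 1 := G.eq_X_of_val (hr ▸ ht)
  rw [G.centralizer_root hP hchk]
  congr 2
  ext g
  subst hL
  constructor
  · rintro ⟨j, hj, c, rfl⟩
    exact ⟨_, List.mem_map_of_mem hj, c, rfl⟩
  · rintro ⟨s, hs, c, hg⟩
    obtain ⟨j, hj, rfl⟩ := List.mem_map.1 hs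
    exact ⟨j, hj, c, G.eq_X_of_val hg⟩

/-- Centralizer of a long root involution in the Chevalley groups of type E₆, E₇, E₈ over a finite field F of characteristic two. Let G be the group generated by the root elements, U the subgroup generated by the positive root subgroups, r the highest root (the last root index: 71, 125, 239 respectively), and t the element of G with matrix x_r(1). Then the centralizer of t in G is the subgroup generated by U together with the root subgroups X_{−p} for the fundamental roots p orthogonal to r — all fundamental roots except p₂ for E₆, except p₁ for E₇, except p₈ for E₈ (numbering with p₁–p₃–p₄–…–p_l the long chain and p₂ joined to p₄); the indices of these negative fundamental roots are 15, 29, 32, 34, 35 (E₆), 47, 52, 56, 59, 61, 62 (E₇), 77, 98, 104, 109, 113, 116, 118 (E₈). (This is the unipotent radical of the corresponding maximal parabolic subgroup extended by the root subgroups of its Levi factor, of type A₅, D₆, E₇ respectively.) -/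
theorem result {F : Type*} [Field F] [Fintype F] [CharP F 2] (d : Cfsg.Lie.ChevalleyDatum × List ℕ)
    (hd : d ∈ [(Cfsg.Lie.chevE6, [15, 29, 32, 34, 35]), (Cfsg.Lie.chevE7, [47, 52, 56, 59, 61, 62]), (Cfsg.Lie.chevE8, [77, 98, 104, 109, 113, 116, 118])])
    (t : GL d.1.Idx F) (ht : (t : Matrix d.1.Idx d.1.Idx F) = d.1.x F (d.1.nroots - 1) 1) :
    d.1.group F ⊓ Subgroup.centralizer {t} = d.1.posUnipotent F ⊔ Subgroup.closure {g : GL d.1.Idx F | ∃ s ∈ d.2, ∃ c : F, (g : Matrix d.1.Idx d.1.Idx F) = d.1.x F s c} := by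
  simp only [List.mem_cons, List.not_mem_nil, or_false] at hd
  rcases hd with rfl | rfl | rfl
  · exact core Cfsg.Agent.Lib.Chev.goodE6 Cfsg.Agent.Lib.Chev.parE6 (r := 71) (i₀ := 1) (J := [0, 2, 3, 4, 5])
      (by decide +kernel) (by decide +kernel) (by decide +kernel) (by decide +kernel) t ht
  · exact core Cfsg.Agent.Lib.Chev.goodE7 Cfsg.Agent.Lib.Chev.parE7 (r := 125) (i₀ := 0) (J := [1, 2, 3, 4, 5, 6])
      (by decide +kernel) (by decide +kernel) (by decide +kernel) (by decide +kernel) t ht
  · exact core Cfsg.Agent.Lib.Chev.goodE8 Cfsg.Agent.Lib.Chev.parE8 (r := 239) (i₀ := 7) (J := [0, 1, 2, 3, 4, 5, 6])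
      (by decide +kernel) (by decide +kernel) (by decide +kernel) (by decide +kernel) t ht

end Cfsg.Agent.S2209
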