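import Cfsg.Statements.S2221
import Cfsg.Agent.Lib.SylowTwoAlt.Iterated

set_option autoImplicit false
set_option linter.style.haveILetI false
open Cfsg

namespace Cfsg.Agent.S2221

open Cfsg.Agent.Lib.SylowTwoAlt

theorem sign_sigmaCongrRightHom {ι : Type*} [Fintype ι] [DecidableEq ι] {β : ι → Type*}
    [∀ i, Fintype (β i)] [∀ i, DecidableEq (β i)] (f : ∀ i, Equiv.Perm (β i)) :
    Equiv.Perm.sign (Equiv.Perm.sigmaCongrRightHom β f) = ∏ i, Equiv.Perm.sign (f i) := by
  let φ : (∀ i, Equiv.Perm (β i)) →* ℤˣ := Equiv.Perm.sign.comp (Equiv.Perm.sigmaCongrRightHom β)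
  have h : φ = parity (fun i => (Equiv.Perm.sign : Equiv.Perm (β i) →* ℤˣ)) := by
    refine MonoidHom.ext fun f => Subgroup.pi_mem_of_mulSingle_mem
      (H := φ.eqLocus (parity fun i => (Equiv.Perm.sign : Equiv.Perm (β i) →* ℤˣ))) f fun i => ?_
    show φ (Pi.mulSingle i (f i)) =
      parity (fun i => (Equiv.Perm.sign : Equiv.Perm (β i) →* ℤˣ)) (Pi.mulSingle i (f i))
    generalize f i = σ
    rw [parity_mulSingle]
    let e : β i ≃ {p : Σ j, β j // p.1 = i} := (Equiv.sigmaSubtype (β := β) i).symm
    rw [← Equiv.Perm.sign_extendDomain σ e]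
    show Equiv.Perm.sign _ = _
    congr 1
    refine Equiv.ext ?_
    rintro ⟨j, b⟩
    by_cases hj : j = i
    · subst hj
      have h1 : σ.extendDomain e ⟨j, b⟩ = e (σ b) := Equiv.Perm.extendDomain_apply_image σ e b
      rw [h1]
      show (⟨j, (Pi.mulSingle j σ : ∀ k, Equiv.Perm (β k)) j b⟩ : Σ k, β k) = _
      rw [Pi.mulSingle_eq_same]
      rfl
    · rw [Equiv.Perm.extendDomain_apply_not_subtype]
      · show (⟨j, (Pi.mulSingle i σ : ∀ k, Equiv.Perm (β k)) j b⟩ : Σ k, β k) = _
        rw [Pi.mulSingle_eq_of_ne hj]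
        rfl
      · exact hj
  have h2 := DFunLike.congr_fun h f
  rw [parity_apply] at h2
  exact h2

theorem mulEquiv_sylow {n : ℕ} {K : Type*} [Group K] [Finite K] (P : Sylow 2 (alternatingGroup (Fin n)))
    (Φ : K →* Equiv.Perm (Fin n)) (hinj : Function.Injective Φ) (hsign : ∀ x, Equiv.Perm.sign (Φ x) = 1)
    (hcard : ∃ e, Nat.card K = 2 ^ e ∧ e + 1 = padicValNat 2 n.factorial) (hn : 2 ≤ n) :
    Nonempty (K ≃* ↥(P : Subgroup (alternatingGroup (Fin n)))) := by
  obtain ⟨e, he, he'⟩ := hcard
  let ψ : K →* alternatingGroup (Fin n) := Φ.codRestrict _ fun x => Equiv.Perm.mem_alternatingGroup.mpr (hsign x)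
  have hψ : Function.Injective ψ := fun x y h => hinj (congrArg Subtype.val h)
  have hR : Nat.card ψ.range = 2 ^ e := by
    rw [← he, Nat.card_congr (MonoidHom.ofInjective hψ).toEquiv.symm]
  have hA : (Nat.card (alternatingGroup (Fin n))).factorization 2 = e := by
    haveI : Nontrivial (Fin n) := Fin.nontrivial_iff_two_le.mpr hn
    have h2 : 2 * Nat.card (alternatingGroup (Fin n)) = n.factorial := by
      rw [nat_card_alternatingGroup, Nat.card_fin]
      exact Nat.mul_div_cancel' (Nat.dvd_factorial (by norm_num) hn)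
    have h3 : (2 * Nat.card (alternatingGroup (Fin n))).factorization 2 = n.factorial.factorization 2 := by
      rw [h2]
    rw [Nat.factorization_mul (by norm_num) Nat.card_pos.ne', Finsupp.coe_add, Pi.add_apply,
      Nat.prime_two.factorization_self, Nat.factorization_def n.factorial Nat.prime_two,
      ← he'] at h3
    omega
  let R : Sylow 2 (alternatingGroup (Fin n)) := Sylow.ofCard ψ.range (by rw [hR, hA])
  exact ⟨(MonoidHom.ofInjective hψ).trans (R.equiv P)⟩

/-- The index set of the components. -/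
abbrev comps (n : ℕ) : Finset ℕ := (4 * (n / 4)).bitIndices.toFinset

theorem two_le_of_mem {n a : ℕ} (h : a ∈ comps n) : 2 ≤ a := by
  rw [List.mem_toFinset, show 4 * (n / 4) = 2 ^ 2 * (n / 4) by ring, Nat.bitIndices_two_pow_mul,
    List.mem_map] at h
  obtain ⟨b, -, rfl⟩ := h
  omega

theorem sum_comps (n : ℕ) : ∑ a ∈ comps n, 2 ^ a = 4 * (n / 4) := by
  simp [comps]

theorem card_pi (n : ℕ) : ∃ e, Nat.card (∀ i : comps n, W i) = 2 ^ e ∧
    e + (if n % 4 ≤ 1 then 0 else 1) = padicValNat 2 n.factorial := by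
  refine ⟨∑ i : comps n, (2 ^ (i : ℕ) - 1), ?_, ?_⟩
  · rw [Nat.card_pi, ← Finset.prod_pow_eq_pow_sum]
    exact Finset.prod_congr rfl fun i _ => card_W _
  · have h1 : (∑ i : comps n, (2 ^ (i : ℕ) - 1)) + (comps n).card = 4 * (n / 4) := by
      rw [Finset.sum_coe_sort (comps n) (fun a => 2 ^ a - 1), Finset.card_eq_sum_ones,
        ← Finset.sum_add_distrib]
      conv_rhs => rw [← sum_comps n]
      exact Finset.sum_congr rfl fun a _ => Nat.sub_add_cancel Nat.one_le_two_pow
    have h2 : (comps n).card = (n / 4).bitIndices.length := by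
      rw [List.toFinset_card_of_nodup Nat.bitIndices_nodup,
        show 4 * (n / 4) = 2 ^ 2 * (n / 4) by ring, Nat.bitIndices_two_pow_mul, List.length_map]
    have h3 := padicValNat_two_factorial n
    have hm := Nat.mod_lt n (show 0 < 4 by norm_num)
    have hdm := Nat.div_add_mod n 4
    have h4 : n.bitIndices.length = (n / 4).bitIndices.length +
        (if n % 4 = 0 then 0 else if n % 4 = 3 then 2 else 1) := by
      set q := n / 4
      interval_cases h : n % 4
      · conv_lhs => rw [show n = 2 * (2 * q) by omega]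
        simp
      · conv_lhs => rw [show n = 2 * (2 * q) + 1 by omega]
        simp
      · conv_lhs => rw [show n = 2 * (2 * q + 1) by omega]
        simp
      · conv_lhs => rw [show n = 2 * (2 * q + 1) + 1 by omega]
        simp
    split_ifs at h4 ⊢ <;> omega

/-- The permutations of the blocks. -/
noncomputable def blocks (n : ℕ) :
    (∀ i : comps n, W i) →* Equiv.Perm (Σ i : comps n, (Fin (i : ℕ) → C₂)) :=
  (Equiv.Perm.sigmaCongrRightHom _).comp
    (MonoidHom.pi fun i : comps n => (iteratedWreathToPermHom C₂ (i : ℕ)).comp (Pi.evalMonoidHom _ i))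

theorem blocks_injective (n : ℕ) : Function.Injective (blocks n) := fun f g h => by
  funext i
  exact iteratedWreathToPermHomInj C₂ (i : ℕ) (congrFun (Equiv.Perm.sigmaCongrRightHom_injective h) i)

theorem sign_blocks (n : ℕ) (f : ∀ i : comps n, W i) :
    Equiv.Perm.sign (blocks n f) = parity (fun i : comps n => χ (i : ℕ)) f := by
  rw [parity_apply]
  exact sign_sigmaCongrRightHom _

noncomputable def pointEquiv (n : ℕ) : (Σ i : comps n, (Fin (i : ℕ) → C₂)) ⊕ Fin (n % 4) ≃ Fin n :=
  Fintype.equivOfCardEq (by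
    simp only [Fintype.card_sum, Fintype.card_sigma, Fintype.card_fun, Fintype.card_fin]
    rw [show Fintype.card C₂ = 2 by simp, Finset.sum_coe_sort (comps n) (fun a => 2 ^ a), sum_comps]
    exact Nat.div_add_mod n 4)

noncomputable def embed (n : ℕ) :
    Equiv.Perm (Σ i : comps n, (Fin (i : ℕ) → C₂)) × Equiv.Perm (Fin (n % 4)) →* Equiv.Perm (Fin n) :=
  (pointEquiv n).permCongrHom.toMonoidHom.comp (Equiv.Perm.sumCongrHom _ _)

theorem embed_injective (n : ℕ) : Function.Injective (embed n) :=
  (pointEquiv n).permCongrHom.injective.comp Equiv.Perm.sumCongrHom_injective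

theorem sign_embed (n : ℕ) (a : Equiv.Perm (Σ i : comps n, (Fin (i : ℕ) → C₂)))
    (b : Equiv.Perm (Fin (n % 4))) :
    Equiv.Perm.sign (embed n (a, b)) = Equiv.Perm.sign a * Equiv.Perm.sign b :=
  (Equiv.Perm.sign_permCongr _ _).trans (Equiv.Perm.sign_sumCongr a b)

theorem comps_nonempty {n : ℕ} (hn : 4 ≤ n) : (comps n).Nonempty := by
  rw [Finset.nonempty_iff_ne_empty]
  intro h
  have := sum_comps n
  rw [h, Finset.sum_empty] at this
  omega

theorem parity_surjective {n : ℕ} (hn : 4 ≤ n) :
    Function.Surjective (parity (fun i : comps n => χ (i : ℕ))) := by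
  intro u
  obtain ⟨a, ha⟩ := comps_nonempty hn
  obtain ⟨w, hw⟩ := χ_surjective a ((two_le_of_mem ha).trans' (by norm_num)) u
  exact ⟨Pi.mulSingle ⟨a, ha⟩ w, (parity_mulSingle (fun i : comps n => χ (i : ℕ)) ⟨a, ha⟩ w).trans hw⟩

theorem sylow_even {n : ℕ} (hn : 4 ≤ n) (hm : n % 4 ≤ 1) (P : Sylow 2 (alternatingGroup (Fin n))) :
    Nonempty (↥(parity (fun i : comps n => χ (i : ℕ))).ker ≃* ↥(P : Subgroup (alternatingGroup (Fin n)))) := by
  refine mulEquiv_sylow P ((embed n).comp ((MonoidHom.inl _ _).comp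
    ((blocks n).comp (parity (fun i : comps n => χ (i : ℕ))).ker.subtype))) ?_ ?_ ?_ (by omega)
  · exact fun a b h => Subtype.ext (blocks_injective n (congrArg Prod.fst (embed_injective n h)))
  · intro x
    show Equiv.Perm.sign (embed n (blocks n x, 1)) = 1
    rw [sign_embed, sign_blocks, map_one, mul_one]
    exact x.2
  · obtain ⟨e, he, he'⟩ := card_pi n
    rw [if_pos hm, add_zero] at he'
    have h1 : Nat.card ↥(parity (fun i : comps n => χ (i : ℕ))).ker * 2 = 2 ^ e := by
      rw [← he, ← Subgroup.card_mul_index (parity (fun i : comps n => χ (i : ℕ))).ker,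
        Subgroup.index_ker, MonoidHom.range_eq_top.mpr (parity_surjective hn), Subgroup.card_top]
      simp
    have he1 : 1 ≤ e := by
      by_contra hcon
      rw [show e = 0 by omega] at h1
      omega
    refine ⟨e - 1, ?_, by omega⟩
    have : 2 ^ e = 2 ^ (e - 1) * 2 := by rw [← pow_succ, Nat.sub_add_cancel he1]
    omega

theorem sylow_odd {n : ℕ} (hn : 4 ≤ n) (hm : 2 ≤ n % 4) (P : Sylow 2 (alternatingGroup (Fin n))) :
    Nonempty ((∀ i : comps n, W i) ≃* ↥(P : Subgroup (alternatingGroup (Fin n)))) := by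
  let s : Equiv.Perm (Fin (n % 4)) := Equiv.swap ⟨0, by omega⟩ ⟨1, by omega⟩
  have hs : Equiv.Perm.sign s = -1 := Equiv.Perm.sign_swap (by simp)
  let τ : ℤˣ →* Equiv.Perm (Fin (n % 4)) := MonoidHom.mk' (fun u => if u = 1 then 1 else s) (by
    intro u v
    rcases Int.units_eq_one_or u with rfl | rfl <;> rcases Int.units_eq_one_or v with rfl | rfl <;>
      simp [s])
  have hτ : ∀ u, Equiv.Perm.sign (τ u) = u := fun u => by
    rcases Int.units_eq_one_or u with rfl | rfl <;> simp [τ, hs]
  refine mulEquiv_sylow P ((embed n).comp ((blocks n).prod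
    (τ.comp (parity (fun i : comps n => χ (i : ℕ)))))) ?_ ?_ ?_ (by omega)
  · exact (embed_injective n).comp fun f g h => blocks_injective n (congrArg Prod.fst h)
  · intro x
    show Equiv.Perm.sign (embed n (blocks n x, τ (parity (fun i : comps n => χ (i : ℕ)) x))) = 1
    rw [sign_embed, sign_blocks, hτ, Int.units_mul_self]
  · obtain ⟨e, he, he'⟩ := card_pi n
    rw [if_neg (by omega)] at he'
    exact ⟨e, he, he'⟩

/-- The decomposability criterion in terms of the number of components. -/
theorem criterion {n : ℕ} (_hn : 4 ≤ n) :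
    (comps n).card = 1 ↔ ∃ r : ℕ, 4 * (n / 4) = 2 ^ r := by
  constructor
  · intro h
    obtain ⟨a, ha⟩ := Finset.card_eq_one.mp h
    exact ⟨a, by rw [← sum_comps n, ha, Finset.sum_singleton]⟩
  · rintro ⟨r, hr⟩
    simp [comps, hr]

/-- Direct decomposability of the Sylow 2-subgroups of the alternating groups. Let n ≥ 4 and let P be a Sylow 2-subgroup of the alternating group of degree n. Then P is the internal direct product of two nontrivial subgroups if and only if n = 4, n = 5, or n ≡ 2, 3 (mod 4) with 4⌊n/4⌋ not a power of 2. In the remaining cases (n ≡ 0, 1 (mod 4) with n ≥ 8, or n ≡ 2, 3 (mod 4) with 4⌊n/4⌋ a power of 2) P is directly indecomposable. -/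
theorem result (n : ℕ) (hn : 4 ≤ n)
    (P : Sylow 2 (alternatingGroup (Fin n))) :
    (∃ S₁ S₂ : Subgroup (alternatingGroup (Fin n)), S₁ ≠ ⊥ ∧ S₂ ≠ ⊥ ∧
        Cfsg.IsInternalDirectProduct S₁ S₂ (P : Subgroup (alternatingGroup (Fin n)))) ↔
      (n = 4 ∨ n = 5 ∨ ((n % 4 = 2 ∨ n % 4 = 3) ∧ ∀ r : ℕ, 4 * (n / 4) ≠ 2 ^ r)) := by
  rw [decomp_iff]
  have h1le : 1 ≤ (comps n).card := (comps_nonempty hn).card_pos
  rcases le_or_gt (n % 4) 1 with hm | hm
  · obtain ⟨e⟩ := sylow_even hn hm P
    rcases eq_or_lt_of_le h1le with h1 | h1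
    · obtain ⟨a, ha⟩ := Finset.card_eq_one.mp h1.symm
      have hsum : 2 ^ a = 4 * (n / 4) := by rw [← sum_comps n, ha, Finset.sum_singleton]
      have hmem : a ∈ comps n := by rw [ha]; exact Finset.mem_singleton_self a
      letI : Unique (comps n) :=
        { default := ⟨a, hmem⟩
          uniq := fun x => Subtype.ext (Finset.mem_singleton.mp (ha ▸ x.2)) }
      let ev : (∀ i : comps n, W i) ≃* W a := MulEquiv.piUnique fun i : comps n => W i
      have hker : (parity (fun i : comps n => χ (i : ℕ))).ker.map ev.toMonoidHom = (χ a).ker := by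
        have hev : ∀ f, parity (fun i : comps n => χ (i : ℕ)) f = χ a (ev f) := fun f => by
          rw [parity_apply, Fintype.prod_unique]
          rfl
        ext w
        constructor
        · rintro ⟨f, hf, rfl⟩
          exact (hev f).symm.trans hf
        · intro hw
          refine ⟨ev.symm w, ?_, ev.apply_symm_apply w⟩
          show parity _ _ = 1
          rw [hev, ev.apply_symm_apply]
          exact hw
      let e' : ↥(χ a).ker ≃* ↥(P : Subgroup (alternatingGroup (Fin n))) :=
        ((MulEquiv.subgroupCongr hker).symm.trans (ev.subgroupMap _).symm).trans e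
      rcases eq_or_lt_of_le (two_le_of_mem hmem) with h2 | h2
      · subst h2
        have : n = 4 ∨ n = 5 := by omega
        exact iff_of_true (decomp_ker_two.congr e') (this.elim Or.inl fun h => Or.inr (Or.inl h))
      · have h8 : 2 ^ 3 ≤ 2 ^ a := Nat.pow_le_pow_right (by norm_num) h2
        refine iff_of_false (fun h => not_decomp_ker h2 (h.congr e'.symm)) ?_
        rintro (rfl | rfl | ⟨h, -⟩) <;> omega
    · refine iff_of_false (fun h => not_decomp_even (fun i : comps n => χ (i : ℕ))
        (fun i => χ_surjective _ ((two_le_of_mem i.2).trans' (by norm_num)))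
        (fun i => center_le_commutator_W (two_le_of_mem i.2))
        (fun i => central_of_product_W ((two_le_of_mem i.2).trans' (by norm_num))) ?_
        (h.congr e.symm)) ?_
      · intro i
        obtain ⟨j, hj, hne⟩ := (comps n).exists_mem_ne h1 i
        exact ⟨⟨j, hj⟩, fun h => hne (congrArg Subtype.val h)⟩
      · rintro (rfl | rfl | ⟨h, -⟩)
        · have := (criterion (le_refl 4)).mpr ⟨2, by norm_num⟩
          omega
        · have := (criterion (show 4 ≤ 5 by norm_num)).mpr ⟨2, by norm_num⟩
          omega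
        · omega
  · obtain ⟨e⟩ := sylow_odd hn hm P
    rcases eq_or_lt_of_le h1le with h1 | h1
    · obtain ⟨a, ha⟩ := Finset.card_eq_one.mp h1.symm
      have hmem : a ∈ comps n := by rw [ha]; exact Finset.mem_singleton_self a
      letI : Unique (comps n) :=
        { default := ⟨a, hmem⟩
          uniq := fun x => Subtype.ext (Finset.mem_singleton.mp (ha ▸ x.2)) }
      let ev : (∀ i : comps n, W i) ≃* W a := MulEquiv.piUnique fun i : comps n => W i
      refine iff_of_false (fun h => not_decomp_W ((two_le_of_mem hmem).trans' (by norm_num))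
        (h.congr (e.symm.trans ev))) ?_
      rintro (rfl | rfl | ⟨-, h⟩)
      · omega
      · omega
      · obtain ⟨r, hr⟩ := (criterion hn).mp h1.symm
        exact h r hr
    · obtain ⟨i, hi⟩ := comps_nonempty hn
      obtain ⟨j, hj, hne⟩ := (comps n).exists_mem_ne h1 i
      haveI : ∀ i : comps n, Nontrivial (W i) := fun i =>
        nontrivial_W ((two_le_of_mem i.2).trans' (by norm_num))
      refine iff_of_true ((decomp_pi (i := (⟨i, hi⟩ : comps n)) (j := ⟨j, hj⟩)
        (fun h => hne (congrArg Subtype.val h).symm)).congr e) (Or.inr (Or.inr ⟨by omega, fun r hr => ?_⟩))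
      have := (criterion hn).mpr ⟨r, hr⟩
      omega

end Cfsg.Agent.S2221
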