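import Cfsg.Statements.S2222
import Cfsg.Agent.Lib.KnownA.SylowTwo

set_option autoImplicit false
open Cfsg

namespace Cfsg.Agent.S2222

/-- In the alternating group of degree n ≥ 5 every subgroup H of odd index is pronormal: for every element g, the subgroups H and gHg⁻¹ are conjugate by an element of the subgroup they generate. -/
theorem result (n : ℕ) (hn : 5 ≤ n)
    (H : Subgroup (alternatingGroup (Fin n))) (hH : Odd H.index) : Cfsg.IsPronormal H := by
  haveI := Cfsg.Agent.Lib.KnownA.SylowTwo.fact2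
  obtain ⟨S₀⟩ : Nonempty (Sylow 2 ↥H) := inferInstance
  have hidx : ¬ 2 ∣ ((S₀ : Subgroup ↥H).map H.subtype).index := by
    rw [Subgroup.index_map_subtype]
    exact Nat.Prime.not_dvd_mul Nat.prime_two S₀.not_dvd_index hH.not_two_dvd_nat
  let S : Sylow 2 ↥(alternatingGroup (Fin n)) := (S₀.isPGroup'.map H.subtype).toSylow hidx
  have hSH : (S : Subgroup ↥(alternatingGroup (Fin n))) ≤ H := Subgroup.map_subtype_le _
  intro g
  set K := H ⊔ H.map (MulAut.conj g).toMonoidHom with hK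
  obtain ⟨k, hk, hkn⟩ := Cfsg.Agent.Lib.KnownA.SylowTwo.exists_conj_in S g K (hSH.trans le_sup_left)
    ((Subgroup.map_mono hSH).trans le_sup_right)
  have done_of : k⁻¹ * g ∈ Subgroup.normalizer (H : Set ↥(alternatingGroup (Fin n))) →
      ∃ x ∈ K, H.map (MulAut.conj g).toMonoidHom = H.map (MulAut.conj x).toMonoidHom := by
    intro h
    refine ⟨k, hk, ?_⟩
    ext y
    have hy := Subgroup.mem_normalizer_iff.mp h (g⁻¹ * y * g)
    have e : k⁻¹ * g * (g⁻¹ * y * g) * (k⁻¹ * g)⁻¹ = k⁻¹ * y * k := by group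
    rw [e] at hy
    rw [Subgroup.mem_map_equiv, Subgroup.mem_map_equiv, MulAut.conj_symm_apply, MulAut.conj_symm_apply]
    exact hy
  rcases lt_or_eq_of_le hn with h6 | h5
  · exact done_of (Subgroup.le_normalizer (hSH (Cfsg.Agent.Lib.KnownA.SylowTwo.normalizer_alt_le h6 S hkn)))
  subst h5
  have hA : Nat.card ↥(alternatingGroup (Fin 5)) = 60 := by
    rw [nat_card_alternatingGroup, Nat.card_fin]; rfl
  rcases eq_or_lt_of_le (le_sup_left : H ≤ K) with hHK | hHK
  · refine ⟨1, one_mem _, ?_⟩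
    have hle : H.map (MulAut.conj g).toMonoidHom ≤ H := le_sup_right.trans hHK.symm.le
    have := Subgroup.eq_of_le_of_card_ge hle (by rw [Subgroup.card_map_of_injective (MulAut.conj g).injective])
    rw [this, map_one]
    exact (Subgroup.map_id H).symm
  by_cases hKt : K = ⊤
  · exact ⟨g, hKt ▸ Subgroup.mem_top g, rfl⟩
  have h1 : Nat.card ↥H ∣ Nat.card ↥K := Subgroup.card_dvd_of_le le_sup_left
  have h2 : Nat.card ↥H < Nat.card ↥K := by
    refine lt_of_le_of_ne (Nat.le_of_dvd Nat.card_pos h1) fun e => hHK.ne ?_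
    exact Subgroup.eq_of_le_of_card_ge le_sup_left e.ge
  have h3 : Nat.card ↥K ∣ 60 := hA ▸ Subgroup.card_subgroup_dvd_card K
  have h4 : Nat.card ↥K ≠ 60 := fun e => hKt (Subgroup.eq_top_of_card_eq K (e.trans hA.symm))
  have h5 : H.index * Nat.card ↥H = 60 := hA ▸ H.index_mul_card
  have h6 : Nat.card ↥H = 4 := by
    have key : ∀ k ∈ Nat.divisors 60, ∀ h ∈ Nat.divisors k, h ≠ k → k ≠ 60 → (60 / h) % 2 = 1 → h = 4 := by decide
    refine key _ (Nat.mem_divisors.mpr ⟨h3, by norm_num⟩) _ (Nat.mem_divisors.mpr ⟨h1, Nat.card_pos.ne'⟩) h2.ne h4 ?_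
    rw [← h5, Nat.mul_div_cancel _ Nat.card_pos]
    exact Nat.odd_iff.mp hH
  have h7 : (S : Subgroup ↥(alternatingGroup (Fin 5))) = H := by
    refine Subgroup.eq_of_le_of_card_ge hSH ?_
    rw [h6, Sylow.card_eq_multiplicity, hA]
    rw [show (60 : ℕ) = 2 ^ 2 * 15 by norm_num, Nat.factorization_mul (by norm_num) (by norm_num),
      Finsupp.add_apply, Nat.Prime.factorization_pow Nat.prime_two,
      Nat.factorization_eq_zero_of_not_dvd (show ¬ 2 ∣ 15 by norm_num), Finsupp.single_eq_same]; norm_num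
  exact done_of (h7 ▸ hkn)

end Cfsg.Agent.S2222
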