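import Cfsg.Statements.S2225
import Cfsg.Agent.Lib.PronormalPSL.Even
import Cfsg.Agent.Lib.PronormalPSL.Plane

set_option autoImplicit false
open Cfsg

namespace Cfsg.Agent.S2225

open Cfsg.Agent.Lib.PronormalPSL Cfsg.Agent.Lib.PGroups.Pronormal in
theorem allPro_aux {F : Type*} [Field F] [Fintype F] (w : ℕ) (hw : 1 ≤ w) :
    AllPro 2 (Matrix.ProjectiveSpecialLinearGroup (Fin (2 ^ w)) F) := by
  haveI : Fact (Nat.Prime 2) := ⟨Nat.prime_two⟩
  rcases Nat.even_or_odd (Fintype.card F) with he | ho
  · haveI : CharP F 2 := by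
      rw [← (FiniteField.even_card_iff_char_two (F := F)).mpr (Nat.even_iff.mp he)]
      infer_instance
    exact allPro_map (QuotientGroup.mk' _) (QuotientGroup.mk'_surjective _)
      (Even.allPro_two (n := 2 ^ w) (F := F) Nat.one_le_two_pow)
  · rcases Nat.lt_or_ge w 2 with h1 | h2
    · obtain rfl : w = 1 := by omega
      exact Two.allPro (F := F) (Nat.odd_iff.mp ho)
    · obtain ⟨k, rfl⟩ : ∃ k, w = k + 1 := ⟨w - 1, by omega⟩
      have e := Cfsg.Agent.Lib.FusionControl.BlockDiag.slReindex (F := F)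
        (finSumFinEquiv.trans (finCongr (show 2 ^ k + 2 ^ k = 2 ^ (k + 1) by rw [pow_succ]; omega)))
      exact allPro_map ((QuotientGroup.mk' _).comp e.toMonoidHom)
        ((QuotientGroup.mk'_surjective _).comp e.surjective) (Plane.allPro_SL ho (by omega))


/-- Let F be a finite field and d = 2^w ≥ 2 a power of 2 such that PSL_d(F) is simple. Then every subgroup H of PSL_d(F) of odd index is pronormal: for every g, H and gHg⁻¹ are conjugate by an element of the subgroup they generate. -/
theorem result {F : Type*} [Field F] [Fintype F]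
    (w : ℕ) (hw : 1 ≤ w) (hs : IsSimpleGroup (Matrix.ProjectiveSpecialLinearGroup (Fin (2 ^ w)) F))
    (H : Subgroup (Matrix.ProjectiveSpecialLinearGroup (Fin (2 ^ w)) F)) (hH : Odd H.index) : Cfsg.IsPronormal H := by
  exact Cfsg.Agent.Lib.PronormalPSL.pronormal_of_odd_index (allPro_aux w hw) H hH

end Cfsg.Agent.S2225
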