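import Cfsg.Statements.S2226
import Cfsg.Agent.Lib.PronormalPSL.SplitBN
import Cfsg.Agent.Lib.PronormalPSL.Unitary

set_option autoImplicit false
open Cfsg

namespace Cfsg.Agent.S2226

open Cfsg.Agent.Lib.PronormalPSL Cfsg.Agent.Lib.PGroups.Pronormal in
theorem allPro_aux {F : Type*} [Field F] [Fintype F] (q : ℕ) (hF : Fintype.card F = q ^ 2) (w : ℕ) (hw : 2 ≤ w) :
    AllPro 2 (Cfsg.PSU (2 ^ w) F q) := by
  classical
  have : Fact (Nat.Prime 2) := ⟨Nat.prime_two⟩
  rcases Nat.even_or_odd (Fintype.card F) with he | ho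
  · have : CharP F 2 := by
      rw [← (FiniteField.even_card_iff_char_two (F := F)).mpr (Nat.even_iff.mp he)]
      infer_instance
    obtain ⟨P, U, S, hT⟩ := SplitBN.psu_split_ab (F := F) 2 (2 ^ w) q
      (le_trans (by norm_num) (Nat.pow_le_pow_right two_pos (show 1 ≤ w by omega))) hF
    exact SplitBN.allPro S hT
  · obtain ⟨k, rfl⟩ : ∃ k, w = k + 1 := ⟨w - 1, by omega⟩
    exact allPro_map (QuotientGroup.mk' _) (QuotientGroup.mk'_surjective _)
      (Unitary.allPro_SU hF ho (show 1 ≤ k by omega))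


/-- Let F be a finite field with q² elements and d = 2^w ≥ 4 a power of 2 such that the unitary group PSU_d(q) (realised over F) is simple. Then every subgroup H of PSU_d(q) of odd index is pronormal: for every g, H and gHg⁻¹ are conjugate by an element of the subgroup they generate. -/
theorem result {F : Type*} [Field F] [Fintype F] (q : ℕ)
    (hF : Fintype.card F = q ^ 2) (w : ℕ) (hw : 2 ≤ w) (hs : IsSimpleGroup (Cfsg.PSU (2 ^ w) F q))
    (H : Subgroup (Cfsg.PSU (2 ^ w) F q)) (hH : Odd H.index) : Cfsg.IsPronormal H := by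
  exact Cfsg.Agent.Lib.PronormalPSL.pronormal_of_odd_index (allPro_aux q hF w hw) H hH

end Cfsg.Agent.S2226
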