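import Cfsg.Statements.S3074
import Cfsg.Agent.Lib.Cores
import Cfsg.Agent.Lib.Classical.LinearCard

set_option autoImplicit false
open Cfsg
open scoped commutatorElement

namespace Cfsg.Agent.S3074

open Matrix

variable {p : ℕ}

/-- Upper unitriangular matrices. -/
def mk (a b c : ZMod p) : Matrix.SpecialLinearGroup (Fin 3) (ZMod p) :=
  ⟨!![1, a, c; 0, 1, b; 0, 0, 1], by simp [Matrix.det_fin_three]⟩

theorem mk_mul (a b c a' b' c' : ZMod p) :
    mk a b c * mk a' b' c' = mk (a + a') (b + b') (c + c' + a * b') := by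
  refine Subtype.ext ?_
  show (!![1, a, c; 0, 1, b; 0, 0, 1] : Matrix (Fin 3) (Fin 3) (ZMod p)) *
    !![1, a', c'; 0, 1, b'; 0, 0, 1] = _
  ext i j
  fin_cases i <;> fin_cases j <;> simp [mk, Matrix.mul_apply, Fin.sum_univ_three] <;> ring

theorem mk_zero : mk (0 : ZMod p) 0 0 = 1 := by
  refine Subtype.ext ?_
  ext i j
  fin_cases i <;> fin_cases j <;> simp [mk]

theorem mk_injective {a b c a' b' c' : ZMod p} (h : mk a b c = mk a' b' c') :
    a = a' ∧ b = b' ∧ c = c' := by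
  have h' := fun i j => congrFun (congrFun (congrArg Subtype.val h) i) j
  exact ⟨by simpa [mk] using h' 0 1, by simpa [mk] using h' 1 2, by simpa [mk] using h' 0 2⟩

theorem mk_inv (a b c : ZMod p) : (mk a b c)⁻¹ = mk (-a) (-b) (a * b - c) := by
  refine inv_eq_of_mul_eq_one_right ?_
  rw [mk_mul, ← mk_zero]
  congr 1 <;> ring

/-- The unitriangular subgroup. -/
def uni (p : ℕ) : Subgroup (Matrix.SpecialLinearGroup (Fin 3) (ZMod p)) where
  carrier := Set.range fun x : ZMod p × ZMod p × ZMod p => mk x.1 x.2.1 x.2.2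
  one_mem' := ⟨(0, 0, 0), mk_zero⟩
  mul_mem' := by
    rintro _ _ ⟨x, rfl⟩ ⟨y, rfl⟩
    exact ⟨(x.1 + y.1, x.2.1 + y.2.1, x.2.2 + y.2.2 + x.1 * y.2.1), (mk_mul _ _ _ _ _ _).symm⟩
  inv_mem' := by
    rintro _ ⟨x, rfl⟩
    exact ⟨(-x.1, -x.2.1, x.1 * x.2.1 - x.2.2), (mk_inv _ _ _).symm⟩

theorem mk_mem (a b c : ZMod p) : mk a b c ∈ uni p := ⟨(a, b, c), rfl⟩

theorem uni_le_qd : uni p ≤ Cfsg.qd p := by
  rintro _ ⟨x, rfl⟩
  refine Subgroup.subset_closure ⟨?_, ?_, ?_⟩ <;> simp [mk]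

theorem card_uni [NeZero p] : Nat.card ↥(uni p) = p ^ 3 := by
  show Nat.card ↥(Set.range fun x : ZMod p × ZMod p × ZMod p => mk x.1 x.2.1 x.2.2) = p ^ 3
  rw [← Nat.card_congr (Equiv.ofInjective (fun x : ZMod p × ZMod p × ZMod p => mk x.1 x.2.1 x.2.2)
    fun x y h => by
      obtain ⟨h1, h2, h3⟩ := mk_injective h
      exact Prod.ext h1 (Prod.ext h2 h3)),
    Nat.card_prod, Nat.card_prod, Nat.card_zmod]
  ring

theorem mk_pow (a b c : ZMod p) (n : ℕ) :
    mk a b c ^ n = mk ((n : ZMod p) * a) ((n : ZMod p) * b)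
      ((n : ZMod p) * c + (n.choose 2 : ZMod p) * (a * b)) := by
  induction n with
  | zero => simp [mk_zero]
  | succ n ih =>
    rw [pow_succ, ih, mk_mul, Nat.choose_succ_succ, Nat.choose_one_right]
    congr 1 <;> push_cast <;> ring

theorem mem_center_iff {a b c : ZMod p} [Fact p.Prime] :
    (⟨mk a b c, mk_mem a b c⟩ : ↥(uni p)) ∈ Subgroup.center ↥(uni p) ↔ a = 0 ∧ b = 0 := by
  rw [Subgroup.mem_center_iff]
  constructor
  · intro h
    have h1 := congrArg Subtype.val (h ⟨mk 1 0 0, mk_mem 1 0 0⟩)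
    have h2 := congrArg Subtype.val (h ⟨mk 0 1 0, mk_mem 0 1 0⟩)
    simp only [Subgroup.coe_mul, mk_mul] at h1 h2
    have h1' := (mk_injective h1).2.2
    have h2' := (mk_injective h2).2.2
    exact ⟨by simpa using h2'.symm, by simpa using h1'⟩
  · rintro ⟨rfl, rfl⟩ ⟨_, x, rfl⟩
    refine Subtype.ext ?_
    simp only [Subgroup.coe_mul, mk_mul]
    congr 1 <;> ring

theorem commutator_mk (a b c a' b' c' : ZMod p) :
    mk a b c * mk a' b' c' * (mk a b c)⁻¹ * (mk a' b' c')⁻¹ = mk 0 0 (a * b' - a' * b) := by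
  simp only [mk_inv, mk_mul]
  congr 1 <;> ring

theorem uni_extraspecial [Fact p.Prime] (hp : p ≠ 2) :
    Cfsg.IsExtraspecial p ↥(uni p) ∧ Monoid.exponent ↥(uni p) = p := by
  haveI : NeZero p := ⟨(Fact.out : p.Prime).ne_zero⟩
  have hpg : IsPGroup p ↥(uni p) := IsPGroup.of_card card_uni
  haveI : Group.IsNilpotent ↥(uni p) := hpg.isNilpotent
  have hout : ∀ u : ↥(uni p), ∃ a b c, u = ⟨mk a b c, mk_mem a b c⟩ := by
    rintro ⟨_, x, rfl⟩; exact ⟨x.1, x.2.1, x.2.2, rfl⟩
  have hcen : Subgroup.center ↥(uni p) ≤ commutator ↥(uni p) := by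
    intro u hu
    obtain ⟨a, b, c, rfl⟩ := hout u
    obtain ⟨rfl, rfl⟩ := mem_center_iff.mp hu
    have h := Subgroup.commutator_mem_commutator
      (Subgroup.mem_top (⟨mk c 0 0, mk_mem c 0 0⟩ : ↥(uni p)))
      (Subgroup.mem_top (⟨mk 0 1 0, mk_mem 0 1 0⟩ : ↥(uni p)))
    rw [← commutator_def] at h
    convert h using 1
    refine Subtype.ext ?_
    show mk 0 0 c = mk c 0 0 * mk 0 1 0 * (mk c 0 0)⁻¹ * (mk 0 1 0)⁻¹
    rw [commutator_mk]; congr 1; ring
  have hcom : commutator ↥(uni p) ≤ Subgroup.center ↥(uni p) := by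
    rw [commutator_def, Subgroup.commutator_le]
    intro u _ v _
    obtain ⟨a, b, c, rfl⟩ := hout u
    obtain ⟨a', b', c', rfl⟩ := hout v
    rw [show ⁅(⟨mk a b c, mk_mem a b c⟩ : ↥(uni p)), ⟨mk a' b' c', mk_mem a' b' c'⟩⁆ =
      ⟨mk 0 0 (a * b' - a' * b), mk_mem _ _ _⟩ from Subtype.ext (commutator_mk _ _ _ _ _ _)]
    exact mem_center_iff.mpr ⟨rfl, rfl⟩
  have hceq := le_antisymm hcom hcen
  -- the Frattini subgroup
  have hfr : frattini ↥(uni p) ≤ Subgroup.center ↥(uni p) := by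
    have key : ∀ f : ↥(uni p) →* Multiplicative (ZMod p), Function.Surjective f →
        frattini ↥(uni p) ≤ f.ker := by
      intro f hf
      refine frattini_le_coatom ?_
      have hidx : f.ker.index = p := by
        rw [Subgroup.index_ker, MonoidHom.range_eq_top.mpr hf, Subgroup.card_top]
        simp
      refine ⟨fun h => ?_, fun H hH => ?_⟩
      · rw [h, Subgroup.index_top] at hidx
        exact (Fact.out : p.Prime).ne_one hidx.symm
      · have h2 := Subgroup.index_dvd_of_le hH.le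
        rw [hidx] at h2
        rcases (Nat.dvd_prime (Fact.out : p.Prime)).mp h2 with h | h
        · exact Subgroup.index_eq_one.mp h
        · exact absurd (le_antisymm hH.le (Subgroup.relIndex_eq_one.mp (by
            have h3 := Subgroup.relIndex_mul_index hH.le
            rw [hidx, h] at h3
            exact Nat.eq_one_of_mul_eq_one_right (by
              have := (Fact.out : p.Prime).pos
              nlinarith))) ) hH.ne
    let fa : ↥(uni p) →* Multiplicative (ZMod p) :=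
      MonoidHom.mk' (fun u => Multiplicative.ofAdd ((u : Matrix.SpecialLinearGroup (Fin 3) (ZMod p)).1 0 1))
        (fun u v => by
          obtain ⟨a, b, c, rfl⟩ := hout u
          obtain ⟨a', b', c', rfl⟩ := hout v
          rw [← ofAdd_add, Subgroup.coe_mul, mk_mul]
          simp [mk])
    let fb : ↥(uni p) →* Multiplicative (ZMod p) :=
      MonoidHom.mk' (fun u => Multiplicative.ofAdd ((u : Matrix.SpecialLinearGroup (Fin 3) (ZMod p)).1 1 2))
        (fun u v => by
          obtain ⟨a, b, c, rfl⟩ := hout u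
          obtain ⟨a', b', c', rfl⟩ := hout v
          rw [← ofAdd_add, Subgroup.coe_mul, mk_mul]
          simp [mk])
    intro u hu
    have h1 := key fa (fun x => ⟨⟨mk x.toAdd 0 0, mk_mem _ _ _⟩, by simp [fa, mk]⟩) hu
    have h2 := key fb (fun x => ⟨⟨mk 0 x.toAdd 0, mk_mem _ _ _⟩, by simp [fb, mk]⟩) hu
    obtain ⟨a, b, c, rfl⟩ := hout u
    refine mem_center_iff.mpr ⟨?_, ?_⟩
    · simpa [fa, mk, MonoidHom.mem_ker] using h1
    · simpa [fb, mk, MonoidHom.mem_ker] using h2
  have hfr' : Subgroup.center ↥(uni p) ≤ frattini ↥(uni p) :=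
    hcen.trans Lib.Cores.commutator_le_frattini
  refine ⟨⟨⟨hpg, le_antisymm hfr hfr', hceq⟩, ?_⟩, ?_⟩
  · rw [Nat.card_congr (Equiv.ofBijective (fun c : ZMod p =>
      (⟨⟨mk 0 0 c, mk_mem 0 0 c⟩, mem_center_iff.mpr ⟨rfl, rfl⟩⟩ : Subgroup.center ↥(uni p)))
      ⟨fun c d h => (mk_injective (congrArg (fun z : Subgroup.center ↥(uni p) => z.1.1) h)).2.2,
       fun z => by
        obtain ⟨a, b, c, hz⟩ := hout z.1
        obtain ⟨rfl, rfl⟩ := mem_center_iff.mp (hz ▸ z.2)
        exact ⟨c, Subtype.ext hz.symm⟩⟩).symm, Nat.card_zmod]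
  · have hdvd : Monoid.exponent ↥(uni p) ∣ p := by
      refine Monoid.exponent_dvd_of_forall_pow_eq_one fun u => ?_
      obtain ⟨a, b, c, rfl⟩ := hout u
      refine Subtype.ext ?_
      show mk a b c ^ p = 1
      have h2 : ((p.choose 2 : ℕ) : ZMod p) = 0 := by
        rw [ZMod.natCast_eq_zero_iff]
        exact (Fact.out : p.Prime).dvd_choose_self (by norm_num)
          (lt_of_le_of_ne (Fact.out : p.Prime).two_le (Ne.symm hp))
      rw [mk_pow, h2, ← mk_zero]
      simp
    rcases (Nat.dvd_prime (Fact.out : p.Prime)).mp hdvd with h | h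
    · exfalso
      haveI : Subsingleton ↥(uni p) := Monoid.exp_eq_one_iff.mp h
      have h3 := Nat.card_unique (α := ↥(uni p))
      rw [card_uni] at h3
      exact (Fact.out : p.Prime).ne_one (by simpa using h3)
    · exact h


/-- Let p be an odd prime. A Sylow p-subgroup of Qd(p), the split extension of an elementary abelian group of order p² by SL₂(p) acting naturally, is extraspecial of order p³ and exponent p. -/
theorem result (p : ℕ) [Fact p.Prime] (hp : p ≠ 2) (P : Sylow p ↥(Cfsg.qd p)) :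
    Cfsg.IsExtraspecial p ↥P ∧ Nat.card P = p ^ 3 ∧ Monoid.exponent ↥P = p := by
  haveI : NeZero p := ⟨(Fact.out : p.Prime).ne_zero⟩
  have hp' : p.Prime := Fact.out
  set U := (uni p).subgroupOf (Cfsg.qd p) with hU
  let eU : ↥U ≃* ↥(uni p) := Subgroup.subgroupOfEquivOfLe uni_le_qd
  have hUc : Nat.card ↥U = p ^ 3 := (Nat.card_congr eU.toEquiv).trans card_uni
  obtain ⟨Q, hQ⟩ := (IsPGroup.of_card hUc).exists_le_sylow
  -- the `p`-part of `SL₃(p)` is `p³`
  have hQc : Nat.card (Q : Subgroup ↥(Cfsg.qd p)) = p ^ 3 := by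
    obtain ⟨n, hn⟩ := IsPGroup.iff_card.mp Q.2
    have h3 : 3 ≤ n := (Nat.pow_dvd_pow_iff_le_right hp'.one_lt).mp
      (by rw [← hn, ← hUc]; exact Subgroup.card_dvd_of_le hQ)
    have hdvd : p ^ n ∣ Nat.card (Matrix.SpecialLinearGroup (Fin 3) (ZMod p)) := by
      rw [← hn]
      exact (Subgroup.card_subgroup_dvd_card _).trans (Subgroup.card_subgroup_dvd_card _)
    rw [Lib.Classical.card_SL_formula, ZMod.card] at hdvd
    have hcop : Nat.Coprime (p ^ n) (∏ i ∈ Finset.range (3 - 1), (p ^ (i + 2) - 1)) := by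
      refine Nat.Coprime.pow_left _ (Nat.Coprime.prod_right fun i _ => ?_)
      refine (hp'.coprime_iff_not_dvd).mpr fun h => ?_
      have h1 : p ∣ p ^ (i + 2) := dvd_pow_self p (by omega)
      have h2 : 1 ≤ p ^ (i + 2) := Nat.one_le_pow _ _ hp'.pos
      have h4 := Nat.dvd_sub h1 h
      rw [show p ^ (i + 2) - (p ^ (i + 2) - 1) = 1 by omega] at h4
      exact hp'.ne_one (Nat.dvd_one.mp h4)
    have h5 : p ^ n ∣ p ^ 3 := hcop.dvd_of_dvd_mul_right hdvd
    rw [hn, le_antisymm ((Nat.pow_dvd_pow_iff_le_right hp'.one_lt).mp h5) h3]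
  have hUQ : U = (Q : Subgroup ↥(Cfsg.qd p)) :=
    Subgroup.eq_of_le_of_card_ge hQ (by rw [hUc, hQc])
  let e : ↥P ≃* ↥(uni p) :=
    ((P.equiv Q).trans (MulEquiv.subgroupCongr hUQ.symm)).trans eU
  obtain ⟨hE, hexp⟩ := uni_extraspecial (p := p) hp
  have hc : (Subgroup.center ↥P).map e.toMonoidHom =
      Subgroup.center ↥(uni p) := by
    ext u
    obtain ⟨v, rfl⟩ := e.surjective u
    simp only [Subgroup.mem_map, MulEquiv.coe_toMonoidHom, e.injective.eq_iff, exists_eq_right]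
    simp only [Subgroup.mem_center_iff]
    exact ⟨fun h g => by obtain ⟨g, rfl⟩ := e.surjective g; rw [← map_mul, ← map_mul, h],
      fun h g => e.injective (by rw [map_mul, map_mul, h])⟩
  refine ⟨⟨⟨P.2, ?_, ?_⟩, ?_⟩, ?_, ?_⟩
  · have := Lib.Cores.map_frattini_le (f := e.toMonoidHom) e.surjective
    refine Subgroup.map_injective (f := e.toMonoidHom) e.injective ?_
    rw [hc, ← hE.1.2.1]
    refine le_antisymm this ?_
    intro u hu
    refine ⟨e.symm u, ?_, e.apply_symm_apply u⟩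
    exact Lib.Cores.map_frattini_le (f := e.symm.toMonoidHom) e.symm.surjective ⟨u, hu, rfl⟩
  · refine Subgroup.map_injective (f := e.toMonoidHom) e.injective ?_
    rw [hc, commutator_def, Subgroup.map_commutator, Subgroup.map_top_of_surjective _ e.surjective,
      ← commutator_def, hE.1.2.2]
  · rw [Nat.card_congr (Subgroup.centerCongr e).toEquiv]
    exact hE.2
  · exact (Nat.card_congr e.toEquiv).trans card_uni
  · exact (Monoid.exponent_eq_of_mulEquiv e).trans hexp

end Cfsg.Agent.S3074
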