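import Cfsg.Statements.S2231
import Cfsg.Agent.S3074
import Cfsg.Agent.Lib.Geometry.Dickson.Generate
import Cfsg.Agent.Lib.Classical.LinearCard

set_option autoImplicit false
open Cfsg

namespace Cfsg.Agent.S2231

/-- Let p be an odd prime and K a finite field of characteristic p. Then Qd(p) (the natural semidirect product of an elementary abelian group of order p² by SL₂(p)) is not involved in the projective special linear group PSL₂(K). -/
theorem result {p : ℕ} [Fact p.Prime] (hp : p ≠ 2) {K : Type*} [Field K] [Fintype K] [CharP K p] : ¬ Cfsg.Involves ↥(Cfsg.qd p) (Matrix.ProjectiveSpecialLinearGroup (Fin 2) K) := by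
  classical
  rintro ⟨H, R, hR, ⟨e⟩⟩
  haveI := hR
  have hq : ∃ f : ℕ, Fintype.card K = p ^ f := by
    obtain ⟨f, -, hf⟩ := FiniteField.card K p
    exact ⟨f, hf⟩
  obtain ⟨f, hf⟩ := hq
  -- the Sylow subgroup of `SL₂` is abelian
  let u : Multiplicative K →* Matrix.SpecialLinearGroup (Fin 2) K :=
    { toFun := fun x => Lib.Geometry.Dickson.upper x.toAdd
      map_one' := by
        apply Subtype.ext
        simp [Lib.Geometry.Dickson.upper, Matrix.one_fin_two]
      map_mul' := fun x y => by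
        apply Subtype.ext
        show Lib.Geometry.Dickson.upper (x.toAdd + y.toAdd) = (Lib.Geometry.Dickson.upper x.toAdd : Matrix (Fin 2) (Fin 2) K) * Lib.Geometry.Dickson.upper y.toAdd
        simp [Lib.Geometry.Dickson.coe_upper, Matrix.mul_fin_two, add_comm] }
  have hu : Function.Injective u := fun x y h => by
    exact Multiplicative.toAdd.injective (congrArg (fun M : Matrix.SpecialLinearGroup (Fin 2) K => (M : Matrix (Fin 2) (Fin 2) K) 0 1) h : x.toAdd = y.toAdd)
  have hUc : Nat.card u.range = p ^ f := by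
    rw [← Nat.card_congr (MonoidHom.ofInjective hu).toEquiv, Nat.card_congr Multiplicative.toAdd, Nat.card_eq_fintype_card, hf]
  obtain ⟨Q, hQ⟩ := (IsPGroup.of_card hUc).exists_le_sylow
  have hp' : p.Prime := Fact.out
  have hQU : (Q : Subgroup _) = u.range := by
    symm
    refine Subgroup.eq_of_le_of_card_ge hQ ?_
    obtain ⟨k, hk⟩ := IsPGroup.iff_card.mp Q.2
    have hdvd := Subgroup.card_subgroup_dvd_card (Q : Subgroup (Matrix.SpecialLinearGroup (Fin 2) K))
    rw [hk, Lib.Classical.card_SL_formula, hf] at hdvd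
    rw [hUc, hk]
    refine Nat.le_of_dvd (pow_pos hp'.pos _) ?_
    have hf1 : f ≠ 0 := fun h => by
      have := Fintype.one_lt_card (α := K)
      rw [hf, h, pow_zero] at this
      omega
    have hcop : Nat.Coprime (p ^ k) (∏ i ∈ Finset.range (2 - 1), ((p ^ f) ^ (i + 2) - 1)) := by
      refine Nat.Coprime.pow_left _ (Nat.Coprime.prod_right fun i _ => ?_)
      refine hp'.coprime_iff_not_dvd.mpr fun h => ?_
      have h1 : p ∣ (p ^ f) ^ (i + 2) := dvd_pow (dvd_pow_self p hf1) (by omega)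
      have h2 : 1 ≤ (p ^ f) ^ (i + 2) := Nat.one_le_pow _ _ (pow_pos hp'.pos _)
      have h4 := Nat.dvd_sub h1 h
      rw [show (p ^ f) ^ (i + 2) - ((p ^ f) ^ (i + 2) - 1) = 1 by omega] at h4
      exact hp'.ne_one (Nat.dvd_one.mp h4)
    simpa using hcop.dvd_of_dvd_mul_right hdvd
  let mk := QuotientGroup.mk' (Subgroup.center (Matrix.SpecialLinearGroup (Fin 2) K))
  have hmk : Function.Surjective mk := QuotientGroup.mk'_surjective _
  have habP : ∀ (S : Sylow p (Matrix.ProjectiveSpecialLinearGroup (Fin 2) K)), ∀ x y : ↥(S : Subgroup (Matrix.ProjectiveSpecialLinearGroup (Fin 2) K)), x * y = y * x := by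
    intro S x y
    let ε := Sylow.equiv S (Q.mapSurjective hmk)
    apply ε.injective
    rw [map_mul, map_mul]
    obtain ⟨a, ha, hx⟩ := (ε x).2
    obtain ⟨b, hb, hy⟩ := (ε y).2
    apply Subtype.ext
    show (ε x : Matrix.ProjectiveSpecialLinearGroup (Fin 2) K) * ε y = ε y * ε x
    rw [← hx, ← hy, ← map_mul, ← map_mul]
    congr 1
    have ha' : a ∈ u.range := hQU ▸ ha
    have hb' : b ∈ u.range := hQU ▸ hb
    obtain ⟨a, rfl⟩ := ha'
    obtain ⟨b, rfl⟩ := hb'
    rw [← map_mul, ← map_mul, mul_comm]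
  -- the quotient has nonabelian Sylow subgroups
  let π : ↥H →* ↥(Cfsg.qd p) := e.toMonoidHom.comp (QuotientGroup.mk' (R.subgroupOf H))
  have hπ : Function.Surjective π := e.surjective.comp (QuotientGroup.mk'_surjective _)
  obtain ⟨T⟩ := (inferInstance : Nonempty (Sylow p H))
  obtain ⟨hext, hcard, -⟩ := Cfsg.Agent.S3074.result p hp (T.mapSurjective hπ)
  have habT : ∀ x y : ↥((T.mapSurjective hπ : Sylow p ↥(Cfsg.qd p)) : Subgroup ↥(Cfsg.qd p)), x * y = y * x := by
    rintro ⟨_, a, ha, rfl⟩ ⟨_, b, hb, rfl⟩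
    apply Subtype.ext
    show π a * π b = π b * π a
    rw [← map_mul, ← map_mul]
    congr 1
    obtain ⟨S, hS⟩ := (T.2.map H.subtype).exists_le_sylow
    exact Subtype.ext (congrArg Subtype.val (habP S ⟨a, hS ⟨a, ha, rfl⟩⟩ ⟨b, hS ⟨b, hb, rfl⟩⟩) :)
  have hcen := hext.2
  have htop : Subgroup.center ↥(T.mapSurjective hπ) = ⊤ :=
    top_le_iff.mp fun x _ => Subgroup.mem_center_iff.mpr fun y => habT y x
  rw [htop, Subgroup.card_top] at hcen
  have h3 : p ^ 3 = p := hcard.symm.trans hcen
  have := hp'.two_le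
  have h4 : p ^ 1 < p ^ 3 := Nat.pow_lt_pow_right hp'.one_lt (by norm_num)
  rw [pow_one, h3] at h4
  exact lt_irrefl p h4

end Cfsg.Agent.S2231
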