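import Cfsg.Statements.S2232
import Cfsg.Agent.Lib.KnownA.UnitaryBorel

set_option autoImplicit false
open Cfsg

namespace Cfsg.Agent.S2232

/-- Let p be an odd prime, q a power of p and K a finite field with q² elements. Then Qd(p) (the natural semidirect product of an elementary abelian group of order p² by SL₂(p)) is not involved in the projective special unitary group PSU₃(q) realised over K. -/
theorem result {p : ℕ} [Fact p.Prime] (hp : p ≠ 2) {K : Type*} [Field K] [Fintype K] [CharP K p] (n : ℕ) (hn : 1 ≤ n) (hK : Fintype.card K = (p ^ n) ^ 2) : ¬ Cfsg.Involves ↥(Cfsg.qd p) (Cfsg.PSU 3 K (p ^ n)) := by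
  classical
  rintro ⟨H, R, hR, ⟨e⟩⟩
  haveI := hR
  have hp' : p.Prime := Fact.out
  haveI : NeZero p := ⟨hp'.ne_zero⟩
  let π : ↥H →* ↥(Cfsg.qd p) := e.toMonoidHom.comp (QuotientGroup.mk' (R.subgroupOf H))
  have hπ : Function.Surjective π := e.surjective.comp (QuotientGroup.mk'_surjective _)
  -- the top-left block of `Qd(p)`
  have hshape : ∀ g : ↥(Cfsg.qd p), (g.1 : Matrix (Fin 3) (Fin 3) (ZMod p)) 2 0 = 0 ∧
      (g.1 : Matrix (Fin 3) (Fin 3) (ZMod p)) 2 1 = 0 ∧ (g.1 : Matrix (Fin 3) (Fin 3) (ZMod p)) 2 2 = 1 := by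
    rintro ⟨g, hg⟩
    have hg' : g ∈ Submonoid.closure {M : Matrix.SpecialLinearGroup (Fin 3) (ZMod p) | (M : Matrix (Fin 3) (Fin 3) (ZMod p)) 2 0 = 0 ∧
        (M : Matrix (Fin 3) (Fin 3) (ZMod p)) 2 1 = 0 ∧ (M : Matrix (Fin 3) (Fin 3) (ZMod p)) 2 2 = 1} := by
      rw [← Subgroup.closure_toSubmonoid_of_finite]; exact hg
    show (g : Matrix (Fin 3) (Fin 3) (ZMod p)) 2 0 = 0 ∧
      (g : Matrix (Fin 3) (Fin 3) (ZMod p)) 2 1 = 0 ∧ (g : Matrix (Fin 3) (Fin 3) (ZMod p)) 2 2 = 1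
    clear hg
    induction hg' using Submonoid.closure_induction with
    | mem x hx => exact hx
    | one => simp
    | mul x y _ _ hx hy =>
      simp only [Matrix.SpecialLinearGroup.coe_mul, Matrix.mul_apply, Fin.sum_univ_three, hx.1, hx.2.1, hx.2.2, hy.1, hy.2.1, hy.2.2]
      simp
  let β₀ : ↥(Cfsg.qd p) →* Matrix (Fin 2) (Fin 2) (ZMod p) :=
    { toFun := fun g => !![(g.1 : Matrix (Fin 3) (Fin 3) (ZMod p)) 0 0, (g.1 : Matrix (Fin 3) (Fin 3) (ZMod p)) 0 1;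
        (g.1 : Matrix (Fin 3) (Fin 3) (ZMod p)) 1 0, (g.1 : Matrix (Fin 3) (Fin 3) (ZMod p)) 1 1]
      map_one' := by simp [Matrix.one_fin_two]
      map_mul' := fun g g' => by
        obtain ⟨h1, h2, -⟩ := hshape g'
        simp [Matrix.mul_apply, Fin.sum_univ_three, Matrix.mul_fin_two, h1, h2] }
  let φ : ↥H →* (Matrix (Fin 2) (Fin 2) (ZMod p))ˣ := β₀.toHomUnits.comp π
  -- three elements of `Qd(p)`
  let mA : Matrix.SpecialLinearGroup (Fin 3) (ZMod p) := ⟨!![1, 1, 0; 0, 1, 0; 0, 0, 1], by simp [Matrix.det_fin_three]⟩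
  let mB : Matrix.SpecialLinearGroup (Fin 3) (ZMod p) := ⟨!![1, 0, 0; 1, 1, 0; 0, 0, 1], by simp [Matrix.det_fin_three]⟩
  let mV : Matrix.SpecialLinearGroup (Fin 3) (ZMod p) := ⟨!![1, 0, 1; 0, 1, 0; 0, 0, 1], by simp [Matrix.det_fin_three]⟩
  let A : ↥(Cfsg.qd p) := ⟨mA, Subgroup.subset_closure ⟨by simp [mA], by simp [mA], by simp [mA]⟩⟩
  let B : ↥(Cfsg.qd p) := ⟨mB, Subgroup.subset_closure ⟨by simp [mB], by simp [mB], by simp [mB]⟩⟩
  let V : ↥(Cfsg.qd p) := ⟨mV, Subgroup.subset_closure ⟨by simp [mV], by simp [mV], by simp [mV]⟩⟩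
  -- a Sylow subgroup of the preimage of the translations
  let M := φ.ker
  obtain ⟨S₀⟩ := (inferInstance : Nonempty (Sylow p M))
  have hS₀ : (S₀ : Subgroup M) ≠ ⊥ := by
    intro hbot
    obtain ⟨v₀, hv₀⟩ := hπ V
    have hv₀M : v₀ ∈ M := by
      refine Units.ext ?_
      show β₀ (π v₀) = 1
      rw [hv₀]
      ext i j; fin_cases i <;> fin_cases j <;> simp [β₀, V, mV]
    have hVp : V ^ p = 1 := by
      apply Subtype.ext; apply Subtype.ext
      show ((mV ^ p : Matrix.SpecialLinearGroup (Fin 3) (ZMod p)) : Matrix (Fin 3) (Fin 3) (ZMod p)) = 1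
      have h2 : ((mV : Matrix (Fin 3) (Fin 3) (ZMod p)) - 1) ^ p = 0 := by
        refine pow_eq_zero_of_le hp'.two_le ?_
        ext i j; fin_cases i <;> fin_cases j <;> simp [mV, pow_two, Matrix.mul_apply, Fin.sum_univ_three]
      rw [sub_pow_char_of_commute (p := p) (Commute.one_right _), one_pow, sub_eq_zero] at h2
      rw [Matrix.SpecialLinearGroup.coe_pow]; exact h2
    have hord : p ∣ Nat.card M := by
      have h1 : orderOf V = p := orderOf_eq_prime hVp fun h => by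
        have := congrArg (fun g : ↥(Cfsg.qd p) => (g.1 : Matrix (Fin 3) (Fin 3) (ZMod p)) 0 2) h
        simp [V, mV] at this
      have h2 : orderOf (π v₀) = p := by rw [hv₀]; exact h1
      refine (dvd_of_eq h2.symm).trans ?_
      exact (orderOf_map_dvd π v₀).trans ((Subgroup.orderOf_coe (⟨v₀, hv₀M⟩ : M)).symm ▸ orderOf_dvd_natCard _)
    exact S₀.ne_bot_of_dvd_card hord hbot
  -- lift it to `SU₃(q)`
  let mk := QuotientGroup.mk' (Subgroup.center (Cfsg.SU 3 K (p ^ n)))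
  have hmk : Function.Surjective mk := QuotientGroup.mk'_surjective _
  let R₁ : Subgroup (Cfsg.PSU 3 K (p ^ n)) := ((S₀ : Subgroup M).map M.subtype).map H.subtype
  have hR₁ : IsPGroup p R₁ := (S₀.2.map M.subtype).map H.subtype
  let P := R₁.comap mk
  obtain ⟨T⟩ := (inferInstance : Nonempty (Sylow p P))
  have hTmap : ∀ r ∈ R₁, ∃ t ∈ (T : Subgroup P).map P.subtype, mk t = r := by
    intro r hr
    let f : P →* R₁ := (mk.comp P.subtype).codRestrict R₁ fun x => x.2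
    have hf : Function.Surjective f := fun x => by
      obtain ⟨y, hy⟩ := hmk x.1
      exact ⟨⟨y, show mk y ∈ R₁ from hy ▸ x.2⟩, Subtype.ext hy⟩
    have htop : (T.mapSurjective hf : Sylow p R₁).1 = ⊤ :=
      ((T.mapSurjective hf).3 (hR₁.of_equiv Subgroup.topEquiv.symm) le_top).symm
    obtain ⟨t, ht, e⟩ := (show (⟨r, hr⟩ : R₁) ∈ (T.mapSurjective hf : Sylow p R₁).1 from htop ▸ Subgroup.mem_top _)
    exact ⟨t, ⟨t, ht, rfl⟩, congrArg Subtype.val e⟩
  let S := (T : Subgroup P).map P.subtype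
  have hS : IsPGroup p S := T.2.map P.subtype
  have hS1 : S ≠ ⊥ := by
    intro h
    refine hS₀ ((Subgroup.eq_bot_iff_forall _).mpr fun x hx => ?_)
    obtain ⟨t, ht, hte⟩ := hTmap _ ⟨_, ⟨x, hx, rfl⟩, rfl⟩
    rw [Subgroup.mem_bot.mp (h ▸ ht : t ∈ (⊥ : Subgroup _)), map_one] at hte
    exact Subtype.ext (Subtype.ext hte.symm)
  -- `S` is the only Sylow subgroup of `P`
  have hTn : (T : Subgroup P).Normal := by
    refine ⟨fun t ht g => ?_⟩
    have hgR : mk g.1 ∈ R₁ := g.2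
    obtain ⟨t₀, ht₀, hte⟩ := hTmap _ hgR
    obtain ⟨t₀, ht₀', rfl⟩ := ht₀
    have hz : t₀.1⁻¹ * g.1 ∈ Subgroup.center (Cfsg.SU 3 K (p ^ n)) := QuotientGroup.eq.mp hte
    have he : g * t * g⁻¹ = t₀ * t * t₀⁻¹ := by
      apply Subtype.ext
      show g.1 * t.1 * g.1⁻¹ = t₀.1 * t.1 * t₀.1⁻¹
      calc g.1 * t.1 * g.1⁻¹ = t₀.1 * ((t₀.1⁻¹ * g.1) * t.1) * (t₀.1⁻¹ * g.1)⁻¹ * t₀.1⁻¹ := by group
        _ = t₀.1 * (t.1 * (t₀.1⁻¹ * g.1)) * (t₀.1⁻¹ * g.1)⁻¹ * t₀.1⁻¹ := by rw [Subgroup.mem_center_iff.mp hz t.1]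
        _ = _ := by group
    rw [he]
    exact T.1.mul_mem (T.1.mul_mem ht₀' ht) (T.1.inv_mem ht₀')
  haveI : (T : Subgroup P).Characteristic := T.characteristic_of_normal hTn
  -- lifts of normalizing elements normalize `S`
  have hnorm : ∀ (h : H) (x : Cfsg.SU 3 K (p ^ n)),
      h ∈ Subgroup.normalizer (((S₀ : Subgroup M).map M.subtype : Subgroup H) : Set H) → mk x = h.1 →
      ∀ s, s ∈ S ↔ x * s * x⁻¹ ∈ S := by
    intro h x hh hx
    have hxP : x ∈ Subgroup.normalizer (P : Set (Cfsg.SU 3 K (p ^ n))) := by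
      rw [Subgroup.mem_normalizer_iff]
      intro s
      show mk s ∈ R₁ ↔ mk (x * s * x⁻¹) ∈ R₁
      rw [map_mul, map_mul, map_inv, hx]
      constructor
      · rintro ⟨a, ha, e⟩
        exact ⟨h * a * h⁻¹, (Subgroup.mem_normalizer_iff.mp hh a).mp ha, by rw [← e]; rfl⟩
      · rintro ⟨a, ha, e⟩
        refine ⟨h⁻¹ * a * h, (Subgroup.mem_normalizer_iff''.mp hh a).mp ha, ?_⟩
        show (h : Cfsg.PSU 3 K (p ^ n))⁻¹ * (a : Cfsg.PSU 3 K (p ^ n)) * h = mk s
        rw [show (a : Cfsg.PSU 3 K (p ^ n)) = h.1 * mk s * h.1⁻¹ from e]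
        group
    haveI : (P.subgroupOf (Subgroup.normalizer (P : Set _))).Normal := Subgroup.normal_in_normalizer
    have : x ∈ Subgroup.normalizer (S : Set (Cfsg.SU 3 K (p ^ n))) := by
      rw [Subgroup.mem_normalizer_iff]
      intro s
      have key : ∀ (y : Cfsg.SU 3 K (p ^ n)), y ∈ Subgroup.normalizer (P : Set (Cfsg.SU 3 K (p ^ n))) →
          ∀ s ∈ S, y * s * y⁻¹ ∈ S := by
        rintro y hy _ ⟨t, ht, rfl⟩
        let α : P ≃* P :=
          { toFun := fun a => ⟨y * a * y⁻¹, (Subgroup.mem_normalizer_iff.mp hy a).mp a.2⟩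
            invFun := fun a => ⟨y⁻¹ * a * y, (Subgroup.mem_normalizer_iff''.mp hy a).mp a.2⟩
            left_inv := fun a => Subtype.ext (by simp [mul_assoc])
            right_inv := fun a => Subtype.ext (by simp [mul_assoc])
            map_mul' := fun a b => Subtype.ext (by simp [mul_assoc]) }
        have hα : (T : Subgroup P).map α.toMonoidHom = T :=
          Subgroup.characteristic_iff_map_eq.mp inferInstance α
        exact ⟨α t, hα ▸ ⟨t, ht, rfl⟩, rfl⟩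
      refine ⟨key x hxP s, fun hs => ?_⟩
      have := key x⁻¹ (Subgroup.inv_mem _ hxP) _ hs
      simpa [mul_assoc] using this
    exact Subgroup.mem_normalizer_iff.mp this
  -- two lifts with a non-unipotent commutator
  have hlift : ∀ g : ↥(Cfsg.qd p), ∃ h ∈ Subgroup.normalizer (((S₀ : Subgroup M).map M.subtype : Subgroup H) : Set H),
      φ h = β₀.toHomUnits g := by
    intro g
    obtain ⟨h, rfl⟩ := hπ g
    have hh : h ∈ Subgroup.normalizer (((S₀ : Subgroup M).map M.subtype : Subgroup H) : Set H) ⊔ M :=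
      (Sylow.normalizer_sup_eq_top S₀).symm ▸ Subgroup.mem_top h
    obtain ⟨h₁, hh₁, m, hm, e⟩ := Subgroup.mem_sup_of_normal_right.mp hh
    refine ⟨h₁, hh₁, ?_⟩
    show φ h₁ = φ h
    rw [← e, map_mul, MonoidHom.mem_ker.mp hm, mul_one]
  obtain ⟨a, ha, hae⟩ := hlift A
  obtain ⟨b, hb, hbe⟩ := hlift B
  obtain ⟨x, hx⟩ := hmk a.1
  obtain ⟨y, hy⟩ := hmk b.1
  have hp3 : 3 ≤ p ^ 2 := by nlinarith [hp'.two_le]
  have hz := Lib.KnownA.UnitaryBorel.commutator_pow hS hS1 hp3 (hnorm a x ha hx) (hnorm b y hb hy)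
  have hz' : (a * b * a⁻¹ * b⁻¹) ^ p ^ 2 = 1 := by
    apply Subtype.ext
    have := congrArg mk hz
    simpa [hx, hy] using this
  have h1 := congrArg φ hz'
  rw [map_one, map_pow, map_mul, map_mul, map_mul, map_inv, map_inv, hae, hbe, ← map_inv, ← map_inv, ← map_mul, ← map_mul, ← map_mul] at h1
  have h2 : (β₀ (A * B * A⁻¹ * B⁻¹)) ^ p ^ 2 = 1 := congrArg Units.val h1
  have h3 : IsNilpotent (β₀ (A * B * A⁻¹ * B⁻¹) - 1) := ⟨p ^ 2, by
    rw [sub_pow_char_pow_of_commute (p := p) 2 (Commute.one_right _), h2, one_pow, sub_self]⟩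
  have h4 := (Matrix.isNilpotent_trace_of_isNilpotent h3).eq_zero
  let mW : Matrix.SpecialLinearGroup (Fin 3) (ZMod p) := ⟨!![3, -1, 0; 1, 0, 0; 0, 0, 1], by simp [Matrix.det_fin_three]⟩
  have hW : (A * B * A⁻¹ * B⁻¹).1 = mW := by
    show mA * mB * mA⁻¹ * mB⁻¹ = mW
    rw [mul_inv_eq_iff_eq_mul, mul_inv_eq_iff_eq_mul]
    apply Subtype.ext
    simp only [Matrix.SpecialLinearGroup.coe_mul]
    ext i j
    fin_cases i <;> fin_cases j <;> simp [mA, mB, mW, Matrix.mul_apply, Fin.sum_univ_three] <;> ring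
  have h5 : (β₀ (A * B * A⁻¹ * B⁻¹) - 1).trace = 1 := by
    show (!![((A * B * A⁻¹ * B⁻¹).1 : Matrix (Fin 3) (Fin 3) (ZMod p)) 0 0, _; _, _] - 1 : Matrix (Fin 2) (Fin 2) (ZMod p)).trace = 1
    rw [Matrix.trace_fin_two]
    simp [hW, mW]
    ring
  exact one_ne_zero (h5.symm.trans h4)

end Cfsg.Agent.S2232
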