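import Cfsg.Statements.S2239
import Cfsg.Agent.Lib.KnownA.SuzukiOut
open Cfsg.Agent.Lib.KnownA

set_option autoImplicit false
open Cfsg

namespace Cfsg.Agent.S2239

/-- Subfield subgroups of the Suzuki group: let q = 2^(2m+1) and s = 2^(2k+1) with m, k ≥ 1 and 2k+1 dividing 2m+1 (so q is a power of s), both groups realised as stabilisers in SL₄ of the Suzuki–Tits ovoid. Then Sz(q) has a subgroup isomorphic to Sz(s), and any two subgroups of Sz(q) isomorphic to Sz(s) are conjugate. -/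
theorem result {F : Type*} [Field F] [Fintype F] {m : ℕ} (hm : 1 ≤ m) (hF : Fintype.card F = 2 ^ (2 * m + 1)) {K : Type*} [Field K] [Fintype K] {k : ℕ} (hk : 1 ≤ k) (hK : Fintype.card K = 2 ^ (2 * k + 1)) (hdiv : 2 * k + 1 ∣ 2 * m + 1) :
    (∃ S : Subgroup ↥(Cfsg.Sz F m), Nonempty (↥S ≃* ↥(Cfsg.Sz K k))) ∧
    ∀ S₁ S₂ : Subgroup ↥(Cfsg.Sz F m), Nonempty (↥S₁ ≃* ↥(Cfsg.Sz K k)) → Nonempty (↥S₂ ≃* ↥(Cfsg.Sz K k)) →
      ∃ g : ↥(Cfsg.Sz F m), S₂ = S₁.map (MulAut.conj g).toMonoidHom := by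
  haveI := Suz.charP_two hF
  haveI := Suz.charP_two hK
  let bF := Suz.szBridge (Suz.th_sq hF) hm hF
  let bK := Suz.szBridge (Suz.th_sq hK) hk hK
  obtain ⟨⟨S, ⟨e⟩⟩, hconj⟩ := Suz.subfield_subgroups (Suz.th_sq hF) (Suz.th_sq hK) hk hK hF hdiv
  refine ⟨⟨S.map bF.symm.toMonoidHom, ⟨((bF.symm.subgroupMap S).symm.trans e).trans bK.symm⟩⟩, ?_⟩
  rintro S₁ S₂ ⟨e₁⟩ ⟨e₂⟩
  have hr : ∀ (T : Subgroup ↥(Cfsg.Sz F m)) (f : ↥T ≃* ↥(Cfsg.Sz K k)),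
      ∃ ψ : ↥(Suz.G K k) →* ↥(Suz.G F m), Function.Injective ψ ∧ ψ.range = T.map bF.toMonoidHom := by
    intro T f
    refine ⟨(bF.toMonoidHom.comp T.subtype).comp (bK.symm.trans f.symm).toMonoidHom, ?_, ?_⟩
    · exact (bF.injective.comp T.subtype_injective).comp (bK.symm.trans f.symm).injective
    · rw [MonoidHom.range_comp, MonoidHom.range_eq_top.mpr (bK.symm.trans f.symm).surjective,
        ← MonoidHom.range_eq_map, MonoidHom.range_comp, Subgroup.range_subtype]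
  obtain ⟨ψ₁, h₁, r₁⟩ := hr S₁ e₁
  obtain ⟨ψ₂, h₂, r₂⟩ := hr S₂ e₂
  obtain ⟨g, hg⟩ := hconj ψ₁ ψ₂ h₁ h₂
  refine ⟨bF.symm g, Subgroup.map_injective (f := bF.toMonoidHom) bF.injective ?_⟩
  rw [← r₂, hg, r₁, Subgroup.map_map, Subgroup.map_map]
  refine congrArg (fun f => Subgroup.map f S₁) (MonoidHom.ext fun z => ?_)
  show g * bF z * g⁻¹ = bF (bF.symm g * z * (bF.symm g)⁻¹)
  rw [map_mul, map_mul, map_inv, MulEquiv.apply_symm_apply]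

end Cfsg.Agent.S2239
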