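import Cfsg.Statements.S2241
import Cfsg.Agent.Lib.KnownA.SuzukiModel
open Cfsg.Agent.Lib.KnownA Cfsg.Agent.Lib.KnownA.Suz

set_option autoImplicit false
open Cfsg

namespace Cfsg.Agent.S2241

/-- Real 2-elements of the Suzuki group: with q = 2^(2m+1), m ≥ 1, and the group realised as the stabiliser in SL₄ of the Suzuki–Tits ovoid, a non-identity element of a Sylow 2-subgroup is conjugate to its inverse if and only if it is an involution; in particular no element of order 4 is conjugate to its inverse. -/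
theorem result {F : Type*} [Field F] [Fintype F] {m : ℕ} (hm : 1 ≤ m) (hF : Fintype.card F = 2 ^ (2 * m + 1)) (P : Sylow 2 ↥(Cfsg.Sz F m)) (g : ↥(Cfsg.Sz F m)) (hg : g ∈ (P : Subgroup ↥(Cfsg.Sz F m))) (h1 : g ≠ 1) :
    IsConj g g⁻¹ ↔ orderOf g = 2 := by
  haveI := charP_two hF
  have hθ : ∀ x : F, szTh m (szTh m x) = x * x := th_sq hF
  obtain ⟨e, he⟩ := exists_sylow_equiv hθ (szBridge hθ hm hF) hF P
  constructor
  · intro hconj
    obtain ⟨a, b, hab⟩ : e g ∈ U hθ := he ▸ Subgroup.mem_map_of_mem _ hg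
    obtain ⟨c, hc⟩ := isConj_iff.mp hconj
    have hc2 : e c * u hθ a b * (e c)⁻¹ = (u hθ a b)⁻¹ := by
      rw [← hab, ← map_inv, ← map_mul, ← map_mul, hc, map_inv]
    obtain rfl := real_U hθ (e c) hc2
    haveI : Fact (Nat.Prime 2) := ⟨Nat.prime_two⟩
    refine orderOf_eq_prime ?_ h1
    apply e.injective
    rw [map_pow, hab, map_one, sq, u_sq, map_zero, zero_mul, u_zero]
  · intro h
    have h2 : g * g = 1 := by rw [← sq, ← h]; exact pow_orderOf_eq_one g
    rw [inv_eq_of_mul_eq_one_right h2]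

end Cfsg.Agent.S2241
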