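import Cfsg.Statements.S2244
import Cfsg.Agent.Lib.Chev.WeaklyClosedData
-- import your own Cfsg.Agent.* helpers here

set_option autoImplicit false
open Cfsg

namespace Cfsg.Agent.S2244

open Cfsg.Agent.Lib.Chev in
theorem core {F : Type*} [Field F] [Fintype F] {D : Cfsg.Lie.ChevalleyDatum} {T : Tables}
    (G : Good D T) (hP : chkPar D T = true) (hUS : (chkUp D T && chkSorted D T) = true)
    (hsep : chkSep D T = true) (h2 : Fintype.card F ≠ 2) {skip : List (ℕ × ℕ)}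
    (hsep4 : chkSepM D T 3 skip = true) (hsep3 : Fintype.card F = 3 → chkSepM D T 2 [] = true)
    (hesc : Fintype.card F = 4 → ∀ X : Subgroup (GL D.Idx F),
      (∀ u ∈ D.posUnipotent F, ∀ x ∈ X, u * x * u⁻¹ ∈ X) → ∀ k j, (k, j) ∈ skip → G.Esc X k j)
    (X : Subgroup (GL D.Idx F)) (hXU : X ≤ D.posUnipotent F)
    (hwc : ∀ g ∈ D.group F, X.map (MulAut.conj g).toMonoidHom ≤ D.posUnipotent F → X.map (MulAut.conj g).toMonoidHom = X) :
    ∃ J : Set ℕ, (∀ j ∈ J, j < D.rank) ∧ X = D.unipotentRadical F J := by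
  rw [Bool.and_eq_true] at hUS
  refine G.weakly_closed_eq_radical hP hUS.1 hUS.2 hXU hwc fun hU _ k j hk hkj hj => ?_
  have h1 := Fintype.one_lt_card (α := F)
  rcases (show Fintype.card F = 3 ∨ Fintype.card F = 4 ∨ 4 < Fintype.card F by omega) with h | h | h
  · rcases G.sep_of_chk (M := 2) h (hsep3 h) hk hkj hj with hs | hs
    · exact Or.inl hs
    · simp at hs
  · rcases G.sep_of_chk (M := 3) h hsep4 hk hkj hj with hs | hs
    · exact Or.inl hs
    · exact Or.inr (hesc h X hU k j hs)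
  · exact Or.inl (G.sep_of_big h hsep hk hkj hj)

/-- Weakly closed unipotent subgroups of Chevalley groups: let G be the Chevalley group of type G₂, B₂, D₄, F₄, E₆, E₇ or E₈ over a finite field F (the matrix group generated by the root elements), with |F| ≠ 2, and |F| ≠ 3 as well for the types G₂, B₂, D₄, F₄. Let U be the subgroup generated by the positive root subgroups. If X ≤ U is weakly closed in U with respect to G (every G-conjugate of X lying in U equals X), then X is the unipotent radical U_J of a standard parabolic subgroup for some set J of fundamental roots. -/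
theorem result {F : Type*} [Field F] [Fintype F] (D : Cfsg.Lie.ChevalleyDatum) (hD : D ∈ [Cfsg.Lie.chevG2, Cfsg.Lie.chevB2, Cfsg.Lie.chevD4, Cfsg.Lie.chevF4, Cfsg.Lie.chevE6, Cfsg.Lie.chevE7, Cfsg.Lie.chevE8])
    (h2 : Fintype.card F ≠ 2) (h3 : D ∈ [Cfsg.Lie.chevG2, Cfsg.Lie.chevB2, Cfsg.Lie.chevD4, Cfsg.Lie.chevF4] → Fintype.card F ≠ 3)
    (X : Subgroup (GL D.Idx F)) (hXU : X ≤ D.posUnipotent F)
    (hwc : ∀ g ∈ D.group F, X.map (MulAut.conj g).toMonoidHom ≤ D.posUnipotent F → X.map (MulAut.conj g).toMonoidHom = X) :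
    ∃ J : Set ℕ, (∀ j ∈ J, j < D.rank) ∧ X = D.unipotentRadical F J := by
  simp only [List.mem_cons, List.not_mem_nil, or_false] at hD
  obtain rfl | rfl | rfl | rfl | rfl | rfl | rfl := hD
  · exact core Cfsg.Agent.Lib.Chev.goodG2 Cfsg.Agent.Lib.Chev.parG2 Cfsg.Agent.Lib.Chev.upG2
      (by decide +kernel) h2 Cfsg.Agent.Lib.Chev.sepG2 (fun h => absurd h (h3 (by simp))) (fun h _ hU _ _ hs => Cfsg.Agent.Lib.Chev.G2_esc h hU hs) X hXU hwc
  · exact core Cfsg.Agent.Lib.Chev.goodB2 Cfsg.Agent.Lib.Chev.parB2 Cfsg.Agent.Lib.Chev.upB2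
      (by decide +kernel) h2 Cfsg.Agent.Lib.Chev.sepB2 (fun h => absurd h (h3 (by simp))) (fun _ _ _ _ _ hs => absurd hs (by simp)) X hXU hwc
  · exact core Cfsg.Agent.Lib.Chev.goodD4 Cfsg.Agent.Lib.Chev.parD4 Cfsg.Agent.Lib.Chev.upD4
      (by decide +kernel) h2 Cfsg.Agent.Lib.Chev.sepD4 (fun h => absurd h (h3 (by simp))) (fun _ _ _ _ _ hs => absurd hs (by simp)) X hXU hwc
  · exact core Cfsg.Agent.Lib.Chev.goodF4 Cfsg.Agent.Lib.Chev.parF4 Cfsg.Agent.Lib.Chev.upF4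
      (by decide +kernel) h2 Cfsg.Agent.Lib.Chev.sepF4 (fun h => absurd h (h3 (by simp))) (fun _ _ _ _ _ hs => absurd hs (by simp)) X hXU hwc
  · exact core Cfsg.Agent.Lib.Chev.goodE6 Cfsg.Agent.Lib.Chev.parE6 Cfsg.Agent.Lib.Chev.upE6
      (by decide +kernel) h2 Cfsg.Agent.Lib.Chev.sepE6 (fun _ => Cfsg.Agent.Lib.Chev.sep2E6) (fun _ _ _ _ _ hs => absurd hs (by simp)) X hXU hwc
  · exact core Cfsg.Agent.Lib.Chev.goodE7 Cfsg.Agent.Lib.Chev.parE7 Cfsg.Agent.Lib.Chev.upE7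
      (by decide +kernel) h2 Cfsg.Agent.Lib.Chev.sepE7 (fun _ => Cfsg.Agent.Lib.Chev.sep2E7) (fun _ _ _ _ _ hs => absurd hs (by simp)) X hXU hwc
  · exact core Cfsg.Agent.Lib.Chev.goodE8 Cfsg.Agent.Lib.Chev.parE8 Cfsg.Agent.Lib.Chev.upE8
      (by decide +kernel) h2 Cfsg.Agent.Lib.Chev.sepE8 (fun _ => Cfsg.Agent.Lib.Chev.sep2E8) (fun _ _ _ _ _ hs => absurd hs (by simp)) X hXU hwc

end Cfsg.Agent.S2244
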