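import Cfsg.Statements.S2245
import Cfsg.Agent.Lib.KnownA.SylowTwoMax

set_option autoImplicit false
open Cfsg

namespace Cfsg.Agent.S2245

/-- For n ≥ 5 with n ≠ 6, a Sylow 2-subgroup of the alternating group A_n lies in exactly one maximal subgroup of A_n if and only if n = 2^k + 1 for some k ≥ 2; the same holds for the symmetric group S_n. -/
theorem result (n : ℕ) (hn : 5 ≤ n) (h6 : n ≠ 6) :
    ((∀ R : Sylow 2 ↥(alternatingGroup (Fin n)), (∃! M : Subgroup ↥(alternatingGroup (Fin n)), IsCoatom M ∧ (R : Subgroup ↥(alternatingGroup (Fin n))) ≤ M) ↔ ∃ k : ℕ, 2 ≤ k ∧ n = 2 ^ k + 1) ∧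
    (∀ R : Sylow 2 (Equiv.Perm (Fin n)), (∃! M : Subgroup (Equiv.Perm (Fin n)), IsCoatom M ∧ (R : Subgroup (Equiv.Perm (Fin n))) ≤ M) ↔ ∃ k : ℕ, 2 ≤ k ∧ n = 2 ^ k + 1)) := by
  refine ⟨fun R => ?_, fun R => ?_⟩
  · obtain ⟨T, hT⟩ := Cfsg.Agent.Lib.KnownA.SylowTwo.exists_sylow_perm R
    refine Cfsg.Agent.Lib.KnownA.SylowTwo.unique_max_iff hn (alternatingGroup (Fin n)).subtype
      Subtype.val_injective (fun g hg => ⟨⟨g, Equiv.Perm.mem_alternatingGroup.mpr hg⟩, rfl⟩) T _ hT (fun s h0 h1 h2 => ?_) ?_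
    · convert alternatingGroup.isCoatom_stabilizer h0 h1 h2 using 1
      ext g; rfl
    · exact fun M _ h => eq_top_iff.mpr fun x _ => h x (Equiv.Perm.mem_alternatingGroup.mp x.2)
  · haveI := Cfsg.Agent.Lib.KnownA.SylowTwo.fact2
    refine Cfsg.Agent.Lib.KnownA.SylowTwo.unique_max_iff hn (MonoidHom.id _)
      (fun _ _ h => h) (fun g _ => ⟨g, rfl⟩) R _ (Subgroup.comap_id _).symm (fun s h0 h1 h2 => ?_) ?_
    · rw [Subgroup.comap_id]; exact Equiv.Perm.isCoatom_stabilizer h0 h1 h2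
    · intro M hRM h
      obtain ⟨σ, hσ, hfix, -, hswap, -⟩ := Cfsg.Agent.Lib.KnownA.SylowTwo.exists_pairing R
      refine eq_top_iff.mpr fun x _ => ?_
      rcases Int.units_eq_one_or (Equiv.Perm.sign x) with e | e
      · exact h x e
      obtain ⟨w, hw⟩ : ∃ w, σ w ≠ w := by
        by_contra hcon
        push Not at hcon
        exact absurd (hfix ⟨0, by omega⟩ ⟨1, by omega⟩ (hcon _) (hcon _)) (by simp)
      have h1 : x * Equiv.swap w (σ w) ∈ M := h _ (by
        show Equiv.Perm.sign (x * Equiv.swap w (σ w)) = 1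
        rw [map_mul, e, Equiv.Perm.sign_swap (Ne.symm hw)]; rfl)
      have h2 := M.mul_mem h1 (hRM (hswap w))
      rwa [mul_assoc, Equiv.swap_mul_self, mul_one] at h2

end Cfsg.Agent.S2245
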