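import Cfsg.Statements.S2247
import Cfsg.Agent.Lib.KnownA.SuzukiModel
open Cfsg.Agent.Lib.KnownA Cfsg.Agent.Lib.KnownA.Suz

set_option autoImplicit false
open Cfsg

namespace Cfsg.Agent.S2247

/-- In the Suzuki group with q = 2^(2m+1), m ≥ 1 (realised as the stabiliser in SL₄ of the Suzuki–Tits ovoid), the normalizer of a Sylow 2-subgroup P is a maximal subgroup and is the only maximal subgroup containing P. -/
theorem result {F : Type*} [Field F] [Fintype F] {m : ℕ} (hm : 1 ≤ m) (hF : Fintype.card F = 2 ^ (2 * m + 1)) (P : Sylow 2 ↥(Cfsg.Sz F m)) :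
    IsCoatom (Subgroup.normalizer ((P : Subgroup ↥(Cfsg.Sz F m)) : Set ↥(Cfsg.Sz F m))) ∧
    ∀ M : Subgroup ↥(Cfsg.Sz F m), IsCoatom M → (P : Subgroup ↥(Cfsg.Sz F m)) ≤ M → M = Subgroup.normalizer ((P : Subgroup ↥(Cfsg.Sz F m)) : Set ↥(Cfsg.Sz F m)) := by
  haveI := charP_two hF
  have hθ : ∀ x : F, szTh m (szTh m x) = x * x := th_sq hF
  obtain ⟨e, he⟩ := exists_sylow_equiv hθ (szBridge hθ hm hF) hF P
  set N := Subgroup.normalizer ((P : Subgroup ↥(Cfsg.Sz F m)) : Set ↥(Cfsg.Sz F m))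
  have hN : N.map e.toMonoidHom = B hθ := by
    rw [← normalizer_U hθ, ← he, Subgroup.map_equiv_normalizer_eq]
  have hmax : ∀ M : Subgroup ↥(Cfsg.Sz F m), (P : Subgroup ↥(Cfsg.Sz F m)) ≤ M → ¬ M ≤ N → M = ⊤ := by
    intro M hPM hMN
    apply Subgroup.map_injective (f := e.toMonoidHom) e.injective
    rw [Subgroup.map_top_of_surjective _ e.surjective]
    refine max_over_U hθ hm hF _ (he ▸ Subgroup.map_mono hPM) fun h => hMN ?_
    intro x hx
    have := h (Subgroup.mem_map_of_mem e.toMonoidHom hx)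
    rw [← hN] at this
    exact (Subgroup.mem_map_iff_mem (f := e.toMonoidHom) e.injective).mp this
  have hne : N ≠ ⊤ := fun h => B_ne_top hθ (by rw [← hN, h, Subgroup.map_top_of_surjective _ e.surjective])
  have hPN : (P : Subgroup ↥(Cfsg.Sz F m)) ≤ N := Subgroup.le_normalizer
  refine ⟨⟨hne, fun M hM => hmax M (hPN.trans hM.le) (not_le_of_gt hM)⟩, fun M hM hPM => ?_⟩
  by_contra hMne
  by_cases h : M ≤ N
  · exact hne (hM.2 N (lt_of_le_of_ne h hMne))
  · exact hM.1 (hmax M hPM h)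

end Cfsg.Agent.S2247
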