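import Cfsg.Statements.S2249
import Cfsg.Agent.Lib.FusionControl.MonomialSylow
import Cfsg.Agent.Lib.FusionControl.NormalRank

set_option autoImplicit false
open Cfsg

namespace Cfsg.Agent.S2249

open Matrix
open Cfsg.Agent.Lib.FusionControl
open Cfsg.Agent.Lib.FusionControl.WreathSquares
open Cfsg.Agent.Lib.FusionControl.BlockDiag
open Cfsg.Agent.Lib.FusionControl.MonomialSylow
open Cfsg.Agent.Lib.FusionControl.NormalRank

variable {F : Type*} [Field F] [Fintype F]

theorem pow_two_pow_eq_one (hm : Fintype.card F % 4 = 3) :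
    ∀ (k : ℕ) (a : F), a ^ 2 ^ k = 1 → a = 1 ∨ a = -1 := by
  intro k
  induction k with
  | zero => intro a ha; exact Or.inl (by simpa using ha)
  | succ k ih =>
    intro a ha
    rw [pow_succ', pow_mul, pow_two] at ha
    rcases ih _ ha with h | h
    · exact mul_self_eq_one_iff.mp h
    · exact absurd hm (FiniteField.isSquare_neg_one_iff.mp ⟨a, h.symm⟩)

theorem commutant {K : Type*} [Field K] {n c : Matrix (Fin 2) (Fin 2) K} (hn : n * n = 1) (h1 : n ≠ 1) (h2 : n ≠ -1)
    (hc : c * n = n * c) : ∃ α β : K, c = α • (1 : Matrix (Fin 2) (Fin 2) K) + β • n := by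
  have e00 := congrFun (congrFun hc 0) 0
  have e01 := congrFun (congrFun hc 0) 1
  have e10 := congrFun (congrFun hc 1) 0
  simp only [Matrix.mul_apply, Fin.sum_univ_two] at e00 e01 e10
  by_cases hb : n 0 1 = 0
  · by_cases he : n 1 0 = 0
    · have had : n 0 0 - n 1 1 ≠ 0 := by
        intro had
        have had' := sub_eq_zero.mp had
        have := congrFun (congrFun hn 0) 0
        simp only [Matrix.mul_apply, Fin.sum_univ_two, hb, he, Matrix.one_apply_eq, mul_zero, add_zero] at this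
        rcases mul_self_eq_one_iff.mp this with h | h
        · exact h1 (by ext i j; fin_cases i <;> fin_cases j <;> simp [h, hb, he, ← had'])
        · exact h2 (by ext i j; fin_cases i <;> fin_cases j <;> simp [h, hb, he, ← had'])
      have hr : c 0 1 = 0 := (mul_eq_zero.mp (show (n 0 0 - n 1 1) * c 0 1 = 0 by
        rw [hb] at e01; linear_combination -e01)).resolve_left had
      have hs : c 1 0 = 0 := (mul_eq_zero.mp (show (n 0 0 - n 1 1) * c 1 0 = 0 by
        rw [he] at e10; linear_combination e10)).resolve_left had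
      refine ⟨c 0 0 - (c 0 0 - c 1 1) / (n 0 0 - n 1 1) * n 0 0, (c 0 0 - c 1 1) / (n 0 0 - n 1 1), ?_⟩
      ext i j; fin_cases i <;> fin_cases j <;> simp [hb, he, hr, hs]
      field_simp
      ring
    · refine ⟨c 0 0 - c 1 0 / n 1 0 * n 0 0, c 1 0 / n 1 0, ?_⟩
      ext i j; fin_cases i <;> fin_cases j <;> simp
      · rw [div_mul_eq_mul_div, eq_div_iff he]; linear_combination e00
      · field_simp [he]
      · field_simp
        linear_combination e10
  · refine ⟨c 0 0 - c 0 1 / n 0 1 * n 0 0, c 0 1 / n 0 1, ?_⟩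
    ext i j; fin_cases i <;> fin_cases j <;> simp
    · field_simp [hb]
    · rw [div_mul_eq_mul_div, eq_div_iff hb]; linear_combination -e00
    · field_simp
      linear_combination -e01

theorem eq_or_of_commute (hm : Fintype.card F % 4 = 3) (R : Sylow 2 (GL (Fin 2) F)) {x c : GL (Fin 2) F}
    (hx : x * x = 1) (h1 : x ≠ 1) (h2 : x ≠ -1) (hcR : c ∈ (R : Subgroup (GL (Fin 2) F))) (hc : c * x = x * c) :
    c = 1 ∨ c = -1 ∨ c = x ∨ c = -x := by
  have h20 : (2 : F) ≠ 0 := odd_ne_two (Nat.odd_iff.mpr (by omega))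
  set N : Matrix (Fin 2) (Fin 2) F := (x : Matrix (Fin 2) (Fin 2) F) with hN
  have hN2 : N * N = 1 := by rw [hN, ← Units.val_mul, hx, Units.val_one]
  have hn1 : N ≠ 1 := fun h => h1 (Units.ext h)
  have hn2 : N ≠ -1 := fun h => h2 (Units.ext (by rw [Units.val_neg, Units.val_one]; exact h))
  obtain ⟨α, β, he⟩ := commutant (c := (c : Matrix (Fin 2) (Fin 2) F)) hN2 hn1 hn2 (by rw [hN, ← Units.val_mul, hc, Units.val_mul])
  obtain ⟨k, hk⟩ := R.2 ⟨c, hcR⟩
  have hk' : (c : Matrix (Fin 2) (Fin 2) F) ^ 2 ^ k = 1 := by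
    rw [← Units.val_pow_eq_pow_val, show c ^ 2 ^ k = 1 from congrArg Subtype.val hk, Units.val_one]
  have key : ∀ (s : F) (P : Matrix (Fin 2) (Fin 2) F), P ≠ 0 → (c : Matrix (Fin 2) (Fin 2) F) * P = s • P →
      s = 1 ∨ s = -1 := by
    intro s P hP hs
    have hpow : ∀ j : ℕ, (c : Matrix (Fin 2) (Fin 2) F) ^ j * P = s ^ j • P := by
      intro j
      induction j with
      | zero => simp
      | succ j ihj => rw [pow_succ, Matrix.mul_assoc, hs, Matrix.mul_smul, ihj, smul_smul, ← pow_succ']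
    refine pow_two_pow_eq_one hm k s ?_
    have := hpow (2 ^ k)
    rw [hk', one_mul] at this
    exact smul_left_injective F hP (show s ^ 2 ^ k • P = (1 : F) • P by rw [← this, one_smul])
  have hp := key (α + β) (1 + N) (fun h => hn2 (eq_neg_of_add_eq_zero_right h)) (by
    rw [he, Matrix.add_mul, Matrix.smul_mul, Matrix.smul_mul, Matrix.one_mul, Matrix.mul_add, Matrix.mul_one,
      hN2]
    module)
  have hq := key (α - β) (1 - N) (fun h => hn1 (sub_eq_zero.mp h).symm) (by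
    rw [he, Matrix.add_mul, Matrix.smul_mul, Matrix.smul_mul, Matrix.one_mul, Matrix.mul_sub, Matrix.mul_one,
      hN2]
    module)
  have fin : ∀ a b : F, α = a → β = b → (c : Matrix (Fin 2) (Fin 2) F) = a • (1 : Matrix (Fin 2) (Fin 2) F) + b • N := by
    rintro a b rfl rfl; exact he
  rcases hp with hp | hp <;> rcases hq with hq | hq
  · exact Or.inl (Units.ext (by
      rw [fin 1 0 (mul_left_cancel₀ h20 (by linear_combination hp + hq)) (mul_left_cancel₀ h20 (by linear_combination hp - hq))]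
      simp))
  · exact Or.inr (Or.inr (Or.inl (Units.ext (by
      rw [fin 0 1 (mul_left_cancel₀ h20 (by linear_combination hp + hq)) (mul_left_cancel₀ h20 (by linear_combination hp - hq))]
      simp [N]))))
  · exact Or.inr (Or.inr (Or.inr (Units.ext (by
      rw [fin 0 (-1) (mul_left_cancel₀ h20 (by linear_combination hp + hq)) (mul_left_cancel₀ h20 (by linear_combination hp - hq))]
      simp [N]))))
  · exact Or.inr (Or.inl (Units.ext (by
      rw [fin (-1) 0 (mul_left_cancel₀ h20 (by linear_combination hp + hq)) (mul_left_cancel₀ h20 (by linear_combination hp - hq))]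
      simp)))

theorem val_two_of_mod {x : ℕ} (h : x % 4 = 2) : padicValNat 2 x = 1 := by
  have : Fact (Nat.Prime 2) := ⟨Nat.prime_two⟩
  rw [show x = 2 * (x / 2) by omega, padicValNat.mul (by norm_num) (by omega),
    padicValNat.self (by norm_num), padicValNat.eq_zero_of_not_dvd (by omega)]

theorem sixteen_le_card (hm : Fintype.card F % 4 = 3) (R : Sylow 2 (GL (Fin 2) F)) :
    16 ≤ Nat.card (R : Subgroup (GL (Fin 2) F)) := by
  have : Fact (Nat.Prime 2) := ⟨Nat.prime_two⟩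
  have hq : 1 < Fintype.card F := Fintype.one_lt_card
  have ho : Odd (Fintype.card F) := Nat.odd_iff.mpr (by omega)
  rw [R.card_eq_multiplicity, Nat.factorization_def _ Nat.prime_two, TwoPart.val_card_GL ho]
  have e2 : TwoPart.valGL (Fintype.card F) 2 =
      padicValNat 2 (Fintype.card F - 1) + padicValNat 2 (Fintype.card F ^ (2 * 1) - 1) := by
    rw [TwoPart.valGL, Finset.sum_range_succ, Finset.sum_range_succ, Finset.sum_range_zero, zero_add, zero_add,
      pow_one, mul_one]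
  have e1 := TwoPart.val_pow_even_sub_one hq ho (i := 1) one_ne_zero
  rw [padicValNat.one, val_two_of_mod (show (Fintype.card F - 1) % 4 = 2 by omega)] at e1
  rw [e1, val_two_of_mod (show (Fintype.card F - 1) % 4 = 2 by omega)] at e2
  have h2 : 2 ≤ padicValNat 2 (Fintype.card F + 1) :=
    (padicValNat_dvd_iff_le (by omega)).mp (show 2 ^ 2 ∣ _ by omega)
  exact le_trans (by norm_num) (Nat.pow_le_pow_right (by norm_num) (show 4 ≤ TwoPart.valGL (Fintype.card F) 2 by omega))

theorem normal_elem_le (hm : Fintype.card F % 4 = 3) (R : Sylow 2 (GL (Fin 2) F)) (N : Subgroup (GL (Fin 2) F))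
    (hN : N ≤ (R : Subgroup (GL (Fin 2) F))) (hnorm : ∀ t ∈ (R : Subgroup (GL (Fin 2) F)), ∀ x ∈ N, t * x * t⁻¹ ∈ N)
    (hsq : ∀ x ∈ N, x * x = 1) : N ≤ Subgroup.zpowers (-1 : GL (Fin 2) F) := by
  intro x hx
  by_cases h1 : x = 1
  · rw [h1]; exact one_mem _
  by_cases h2 : x = -1
  · rw [h2]; exact Subgroup.mem_zpowers _
  exfalso
  have hcomm := fun a (ha : a ∈ N) b (hb : b ∈ N) => congrArg Subtype.val ((elem_iff.mpr hsq).1.is_comm.comm ⟨a, ha⟩ ⟨b, hb⟩)
  set S4 : Set (GL (Fin 2) F) := {1, -1, x, -x}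
  have hor : ∀ r ∈ (R : Subgroup (GL (Fin 2) F)), r * x * r⁻¹ = x ∨ r * x * r⁻¹ = -x := by
    intro r hr
    have hy := hnorm r hr x hx
    rcases eq_or_of_commute hm R (hsq x hx) h1 h2 (hN hy) (hcomm _ hy _ hx) with h | h | h | h
    · exact absurd (conj_eq_one_iff.mp h) h1
    · refine absurd ?_ h2
      rw [mul_inv_eq_iff_eq_mul, neg_one_mul] at h
      exact mul_left_cancel (h.trans (by rw [mul_neg_one]))
    · exact Or.inl h
    · exact Or.inr h
  have hS : ∀ c ∈ (R : Subgroup (GL (Fin 2) F)), c * x * c⁻¹ = x → c ∈ S4 := fun c hc h =>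
    eq_or_of_commute hm R (hsq x hx) h1 h2 hc (mul_inv_eq_iff_eq_mul.mp h)
  have hS4 : S4.ncard ≤ 4 :=
    (Set.ncard_insert_le _ _).trans (Nat.succ_le_succ ((Set.ncard_insert_le _ _).trans (Nat.succ_le_succ
      ((Set.ncard_insert_le _ _).trans (Nat.succ_le_succ (Set.ncard_singleton _).le)))))
  obtain ⟨U, hU, hle⟩ : ∃ U : Set (GL (Fin 2) F), U.ncard ≤ 8 ∧ ((R : Subgroup (GL (Fin 2) F)) : Set (GL (Fin 2) F)) ⊆ U := by
    by_cases hall : ∃ r₀ ∈ (R : Subgroup (GL (Fin 2) F)), r₀ * x * r₀⁻¹ = -x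
    · obtain ⟨r₀, hr₀, h0⟩ := hall
      refine ⟨S4 ∪ (fun c => r₀ * c) '' S4, (Set.ncard_union_le _ _).trans ?_, fun r hr => ?_⟩
      · have := Set.ncard_image_le (f := fun c => r₀ * c) (Set.toFinite S4)
        omega
      rcases hor r hr with h | h
      · exact Or.inl (hS r hr h)
      · refine Or.inr ⟨r₀⁻¹ * r, hS _ (mul_mem (inv_mem hr₀) hr) ?_, by group⟩
        rw [show r₀⁻¹ * r * x * (r₀⁻¹ * r)⁻¹ = r₀⁻¹ * (r * x * r⁻¹) * r₀ by group, h, ← h0]
        group
    · push Not at hall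
      exact ⟨S4, by omega, fun r hr => hS r hr ((hor r hr).resolve_right (hall r hr))⟩
  have h16 := sixteen_le_card hm R
  have := Set.ncard_le_ncard hle (Set.toFinite U)
  rw [← Nat.card_coe_set_eq] at this
  have h8 : Nat.card (R : Subgroup (GL (Fin 2) F)) ≤ 8 := this.trans hU
  omega

theorem rank_one_mod (hm : Fintype.card F % 4 = 1) (n : ℕ) (S : Sylow 2 (GL (Fin n) F)) :
    HasRank (S : Subgroup (GL (Fin n) F)) n := by
  classical
  have : Fact (Nat.Prime 2) := ⟨Nat.prime_two⟩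
  have h2 : (2 : F) ≠ 0 := odd_ne_two (Nat.odd_iff.mpr (by omega))
  obtain ⟨T⟩ : Nonempty (Sylow 2 Fˣ) := inferInstance
  obtain ⟨W⟩ : Nonempty (Sylow 2 (Equiv.Perm (Fin n))) := inferInstance
  obtain ⟨P, hP⟩ := exists_sylow_mono hm T W
  have hne : (-1 : Fˣ) ≠ 1 := fun h => h2 (by
    have h' : (-1 : F) = 1 := by simpa using congrArg Units.val h
    linear_combination -h')
  obtain ⟨hc2, hcm⟩ := neg_one_mem_zpowers_card hne
  obtain ⟨E, hn', he', hc'⟩ := exists_elem dg pg pg_conj dg_pg_eq_one (T : Subgroup Fˣ)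
    (W : Subgroup (Equiv.Perm (Fin n))) (Subgroup.zpowers (-1))
    (Subgroup.zpowers_le.mpr (mem_sylow_of_central _ (fun g => mul_comm _ _) (by rw [neg_mul_neg, one_mul]) T))
    (fun c _ t _ => mul_comm t c) (fun c hc => by rcases hcm c hc with rfl | rfl <;> simp)
  refine hasRank_sylow (MulEquiv.refl _) P ?_ S
  rw [hP]
  refine ⟨⟨E, hn', he', by rwa [hc2] at hc'⟩, fun D _ hD => ?_⟩
  have := card_elem_GL_le h2 ((wreath dg pg (T : Subgroup Fˣ) (W : Subgroup (Equiv.Perm (Fin n)))).subtype.comp D.subtype)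
    (Subgroup.subtype_injective _ |>.comp D.subtype_injective) (fun d => Subtype.ext (elem_iff.mp hD _ d.2))
  rwa [Fintype.card_fin] at this

theorem rank_even_mod (hm : Fintype.card F % 4 = 3) (m : ℕ) :
    ∃ P : Sylow 2 (GL (Fin m ⊕ Fin m) F), HasRank (P : Subgroup (GL (Fin m ⊕ Fin m) F)) m := by
  classical
  have : Fact (Nat.Prime 2) := ⟨Nat.prime_two⟩
  have ho : Odd (Fintype.card F) := Nat.odd_iff.mpr (by omega)
  have h2 : (2 : F) ≠ 0 := odd_ne_two ho
  obtain ⟨R⟩ : Nonempty (Sylow 2 (GL (Fin 2) F)) := inferInstance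
  obtain ⟨W⟩ : Nonempty (Sylow 2 (Equiv.Perm (Fin m))) := inferInstance
  obtain ⟨P, hP⟩ := exists_sylow_GL ho R W
  have hne : (-1 : GL (Fin 2) F) ≠ 1 := fun h => h2 (by
    have h' := congrArg (fun u : GL (Fin 2) F => (u : Matrix (Fin 2) (Fin 2) F) 0 0) h
    simp at h'
    linear_combination -h')
  obtain ⟨hc2, hcm⟩ := neg_one_mem_zpowers_card hne
  set C := Subgroup.zpowers (-1 : GL (Fin 2) F) with hC
  have hCR : C ≤ (R : Subgroup (GL (Fin 2) F)) :=
    Subgroup.zpowers_le.mpr (mem_sylow_of_central _ (fun g => by rw [mul_neg_one, neg_one_mul]) (by rw [neg_mul_neg, one_mul]) R)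
  obtain ⟨E, hn', he', hc'⟩ := exists_elem bd pm pm_conj bd_pm_eq_one (R : Subgroup (GL (Fin 2) F))
    (W : Subgroup (Equiv.Perm (Fin m))) C hCR
    (fun c hc t _ => by rcases hcm c hc with rfl | rfl <;> simp)
    (fun c hc => by rcases hcm c hc with rfl | rfl <;> simp)
  refine ⟨P, ?_⟩
  rw [hP]
  refine ⟨⟨E, hn', he', by rwa [hc2] at hc'⟩, fun D hn hD => ?_⟩
  have hnot : ¬ (R : Subgroup (GL (Fin 2) F)) ≤ C := fun h => by
    have h3 := Subgroup.card_le_of_le h
    rw [hc2] at h3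
    have := sixteen_le_card hm R
    omega
  have hb := card_elem_le bd pm pm_conj bd_pm_eq_one _ _ C (normal_elem_le hm R) hnot D hn hD
  rwa [hc2] at hb

theorem rank_odd_mod (hm : Fintype.card F % 4 = 3) (m : ℕ) :
    ∃ P : Sylow 2 (GL ((Fin m ⊕ Fin m) ⊕ Unit) F), HasRank (P : Subgroup (GL ((Fin m ⊕ Fin m) ⊕ Unit) F)) (m + 1) := by
  classical
  have : Fact (Nat.Prime 2) := ⟨Nat.prime_two⟩
  have hq : 1 < Fintype.card F := Fintype.one_lt_card
  have ho : Odd (Fintype.card F) := Nat.odd_iff.mpr (by omega)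
  obtain ⟨P₀, hP₀⟩ := rank_even_mod (F := F) hm m
  obtain ⟨C⟩ : Nonempty (Sylow 2 Fˣ) := inferInstance
  have hC : Nat.card (C : Subgroup Fˣ) = 2 := by
    rw [C.card_eq_multiplicity, Nat.factorization_def _ Nat.prime_two, Cfsg.Agent.Lib.Classical.natCard_units,
      val_two_of_mod (show (Fintype.card F - 1) % 4 = 2 by omega), pow_one]
  let φM : GL (Fin m ⊕ Fin m) F × Fˣ →* Matrix ((Fin m ⊕ Fin m) ⊕ Unit) ((Fin m ⊕ Fin m) ⊕ Unit) F :=
    { toFun := fun x => fromBlocks (x.1 : Matrix (Fin m ⊕ Fin m) (Fin m ⊕ Fin m) F) 0 0 ((x.2 : F) • 1)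
      map_one' := by simp [fromBlocks_one]
      map_mul' := fun x y => by simp [fromBlocks_multiply, smul_smul, mul_comm (x.2 : F) (y.2 : F)] }
  let φ := φM.toHomUnits
  have hφ : Function.Injective φ := by
    intro x y h
    obtain ⟨h1, -, -, h4⟩ := fromBlocks_inj.mp (congrArg Units.val h : φM x = φM y)
    refine Prod.ext (Units.ext h1) (Units.ext ?_)
    simpa using congrFun (congrFun h4 ()) ()
  set D := ((P₀ : Subgroup (GL (Fin m ⊕ Fin m) F)).prod (C : Subgroup Fˣ)).map φ with hD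
  have e0 : Nat.card (GL (Fin m ⊕ Fin m) F) = Nat.card (GL (Fin (2 * m)) F) :=
    Nat.card_congr (glReindex (finSumFinEquiv.trans (finCongr (two_mul m).symm))).toEquiv
  have e1 : Nat.card (GL ((Fin m ⊕ Fin m) ⊕ Unit) F) = Nat.card (GL (Fin (2 * m + 1)) F) :=
    Nat.card_congr (glReindex (Fintype.equivOfCardEq (by simp; omega))).toEquiv
  have hcard : Nat.card D = 2 ^ padicValNat 2 (Nat.card (GL ((Fin m ⊕ Fin m) ⊕ Unit) F)) := by
    rw [hD, Subgroup.card_map_of_injective hφ, Nat.card_congr (Subgroup.prodEquiv _ _).toEquiv, Nat.card_prod, hC,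
      P₀.card_eq_multiplicity, Nat.factorization_def _ Nat.prime_two, e0, e1, TwoPart.val_card_GL ho,
      TwoPart.val_card_GL ho, TwoPart.valGL_two_mul_add_one hq ho,
      val_two_of_mod (show (Fintype.card F - 1) % 4 = 2 by omega), pow_succ]
  refine ⟨Sylow.ofCard D (by rw [hcard, Nat.factorization_def _ Nat.prime_two]), ?_⟩
  exact hasRank_congr ((Subgroup.prodEquiv _ _).symm.trans (Subgroup.equivMapOfInjective _ φ hφ))
    (hasRank_prod hC hP₀)

/-- The normal 2-rank of the general linear group over a finite field of odd order q: for n ≥ 1 and S a Sylow 2-subgroup of GL_n(F), the largest rank of an elementary abelian subgroup of S that is normal in S equals n when q ≡ 1 (mod 4) and ⌊(n + 1)/2⌋ when q ≡ 3 (mod 4). -/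
theorem result {F : Type*} [Field F] [Fintype F] {q : ℕ} (hF : Fintype.card F = q) (hodd : Odd q) (n : ℕ) (hn : 1 ≤ n) (S : Sylow 2 (Matrix.GeneralLinearGroup (Fin n) F)) :
    (q % 4 = 1 → ((∃ E : Subgroup ↥(S : Subgroup (Matrix.GeneralLinearGroup (Fin n) F)), E.Normal ∧ Cfsg.IsElementaryAbelian 2 E ∧ 2 ^ (n) ≤ Nat.card ↥E) ∧
      ∀ E : Subgroup ↥(S : Subgroup (Matrix.GeneralLinearGroup (Fin n) F)), E.Normal → Cfsg.IsElementaryAbelian 2 E → Nat.card ↥E ≤ 2 ^ (n))) ∧
    (q % 4 = 3 → ((∃ E : Subgroup ↥(S : Subgroup (Matrix.GeneralLinearGroup (Fin n) F)), E.Normal ∧ Cfsg.IsElementaryAbelian 2 E ∧ 2 ^ ((n + 1) / 2) ≤ Nat.card ↥E) ∧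
      ∀ E : Subgroup ↥(S : Subgroup (Matrix.GeneralLinearGroup (Fin n) F)), E.Normal → Cfsg.IsElementaryAbelian 2 E → Nat.card ↥E ≤ 2 ^ ((n + 1) / 2))) := by
  subst hF
  classical
  refine ⟨fun hm => rank_one_mod hm n S, fun hm => ?_⟩
  rcases Nat.even_or_odd' n with ⟨m, rfl | rfl⟩
  · obtain ⟨P, hP⟩ := rank_even_mod (F := F) hm m
    rw [show (2 * m + 1) / 2 = m by omega]
    exact hasRank_sylow (glReindex (finSumFinEquiv.trans (finCongr (two_mul m).symm)).symm) P hP S
  · obtain ⟨P, hP⟩ := rank_odd_mod (F := F) hm m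
    rw [show (2 * m + 1 + 1) / 2 = m + 1 by omega]
    exact hasRank_sylow (glReindex (Fintype.equivOfCardEq (by simp; omega))) P hP S

end Cfsg.Agent.S2249
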