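import Cfsg.Statements.S2250
import Cfsg.Agent.Lib.FusionControl.SpWreath
import Cfsg.Agent.Lib.FusionControl.NormalRank

set_option autoImplicit false
open Cfsg

namespace Cfsg.Agent.S2250

open Cfsg.Agent.Lib.FusionControl
open Cfsg.Agent.Lib.FusionControl.SpWreath
open Cfsg.Agent.Lib.FusionControl.NormalRank
open Cfsg.Agent.Lib.Geometry (fixKer involutions_bound sympBilin sympBilin_isAlt sympBilin_apply sympBilin_nondegenerate)

theorem card_elem_Sp_le {F : Type*} [Field F] [Fintype F] (h2 : (2 : F) ≠ 0) {n : ℕ}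
    (E : Subgroup ↥(Matrix.symplecticGroup (Fin n) F)) (hE : ∀ x ∈ E, x * x = 1) : Nat.card E ≤ 2 ^ n := by
  classical
  letI : CommGroup E :=
    { (inferInstance : Group E) with
      mul_comm := fun a b => ((elem_iff.mpr hE).1.is_comm.comm a b) }
  let ρ : E →* Module.End F (Fin n ⊕ Fin n → F) :=
    { toFun := fun x => Matrix.toLinAlgEquiv' ((x.1 : Matrix.symplecticGroup (Fin n) F) : Matrix (Fin n ⊕ Fin n) (Fin n ⊕ Fin n) F)
      map_one' := map_one _
      map_mul' := fun x y => map_mul Matrix.toLinAlgEquiv' _ _ }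
  have hρ : ∀ x v, ρ x v = Matrix.mulVec ((x.1 : Matrix.symplecticGroup (Fin n) F) : Matrix (Fin n ⊕ Fin n) (Fin n ⊕ Fin n) F) v :=
    fun _ _ => rfl
  have hb := (involutions_bound h2 (sympBilin n F) sympBilin_isAlt ρ
    (fun x v w => by
      rw [hρ, hρ, sympBilin_apply, sympBilin_apply]
      exact Cfsg.Agent.Lib.Classical.sp_form _ _ _)
    (fun x v => by
      rw [hρ, hρ, Matrix.mulVec_mulVec, ← Submonoid.coe_mul, hE _ x.2, Submonoid.coe_one, Matrix.one_mulVec])
    _ ⊤ (finrank_top F _) (fun u _ h => (sympBilin_nondegenerate F n).1 u fun w => h w Submodule.mem_top)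
    (fun _ _ _ => Submodule.mem_top)).1
  have hbot : fixKer ρ ⊤ = ⊥ := by
    refine (Subgroup.eq_bot_iff_forall _).mpr fun x hx => Subtype.ext (Subtype.ext ?_)
    refine Matrix.toLinAlgEquiv'.injective ?_
    rw [Subgroup.coe_one, Submonoid.coe_one, map_one]
    exact LinearMap.ext fun v => hx v Submodule.mem_top
  rw [hbot, Subgroup.index_bot, Module.finrank_fintype_fun_eq_card, Fintype.card_sum, Fintype.card_fin,
    ← two_mul, mul_comm 2 n, pow_mul] at hb
  exact (Nat.pow_le_pow_iff_left two_ne_zero).mp hb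

/-- The normal 2-rank of the symplectic group over a finite field of odd order: for n ≥ 1 and S a Sylow 2-subgroup of Sp_{2n}(F), the largest rank of an elementary abelian subgroup of S that is normal in S equals n. -/
theorem result {F : Type*} [Field F] [Fintype F] (hF : Odd (Fintype.card F)) (n : ℕ) (hn : 1 ≤ n) (S : Sylow 2 ↥(Matrix.symplecticGroup (Fin n) F)) :
    ((∃ E : Subgroup ↥(S : Subgroup ↥(Matrix.symplecticGroup (Fin n) F)), E.Normal ∧ Cfsg.IsElementaryAbelian 2 E ∧ 2 ^ (n) ≤ Nat.card ↥E) ∧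
      ∀ E : Subgroup ↥(S : Subgroup ↥(Matrix.symplecticGroup (Fin n) F)), E.Normal → Cfsg.IsElementaryAbelian 2 E → Nat.card ↥E ≤ 2 ^ (n)) := by
  classical
  have : Fact (Nat.Prime 2) := ⟨Nat.prime_two⟩
  have h2 : (2 : F) ≠ 0 := BlockDiag.odd_ne_two hF
  obtain ⟨T⟩ : Nonempty (Sylow 2 (Matrix.SpecialLinearGroup (Fin 2) F)) := inferInstance
  obtain ⟨W⟩ : Nonempty (Sylow 2 (Equiv.Perm (Fin n))) := inferInstance
  obtain ⟨Q, hQ⟩ := exists_sylow_Sp hF n T W
  have hne : (-1 : Matrix.SpecialLinearGroup (Fin 2) F) ≠ 1 := by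
    intro h
    have h' := congrArg (fun A : Matrix.SpecialLinearGroup (Fin 2) F => (A : Matrix (Fin 2) (Fin 2) F) 0 0) h
    simp at h'
    exact h2 (by linear_combination -h')
  have hz : ∀ g : Matrix.SpecialLinearGroup (Fin 2) F, g * (-1) = (-1) * g := fun g => by
    rw [mul_neg_one, neg_one_mul]
  set C := Subgroup.zpowers (-1 : Matrix.SpecialLinearGroup (Fin 2) F) with hC
  have hCle : C ≤ (T : Subgroup (Matrix.SpecialLinearGroup (Fin 2) F)) :=
    Subgroup.zpowers_le.mpr (mem_sylow_of_central _ hz (by rw [neg_mul_neg, one_mul]) T)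
  have hcard : Nat.card C = 2 := by
    rw [hC, Nat.card_zpowers]
    exact orderOf_eq_prime (by rw [pow_two, neg_mul_neg, one_mul]) hne
  have hcm : ∀ c ∈ C, c = 1 ∨ c = -1 := by
    rintro _ ⟨k, rfl⟩
    rcases Int.even_or_odd k with hk | hk
    · exact Or.inl hk.neg_one_zpow
    · exact Or.inr hk.neg_one_zpow
  obtain ⟨E, hn', he', hc'⟩ := exists_elem bdSp pmSp pmSp_conj bdSp_pmSp_eq_one
    (T : Subgroup (Matrix.SpecialLinearGroup (Fin 2) F)) (W : Subgroup (Equiv.Perm (Fin n))) C hCle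
    (fun c hc t _ => by rcases hcm c hc with rfl | rfl <;> simp [hz])
    (fun c hc => by rcases hcm c hc with rfl | rfl <;> simp)
  have hR : HasRank (Q : Subgroup ↥(Matrix.symplecticGroup (Fin n) F)) n := by
    rw [hQ]
    refine ⟨⟨E, hn', he', by rwa [hcard] at hc'⟩, fun D _ hD => ?_⟩
    rw [← Subgroup.card_map_of_injective (K := D) (Subgroup.subtype_injective _)]
    refine card_elem_Sp_le h2 _ ?_
    rintro _ ⟨x, hx, rfl⟩
    rw [← map_mul, elem_iff.mp hD x hx, map_one]
  exact hasRank_congr (Q.equiv S) hR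

end Cfsg.Agent.S2250
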