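import Cfsg.Statements.S2251
import Cfsg.Agent.Lib.KnownA.SuzukiSubgroups
open Cfsg.Agent.Lib.KnownA

set_option autoImplicit false
open Cfsg

namespace Cfsg.Agent.S2251

/-- The subgroups of the Suzuki group: with q = 2^(2m+1), m ≥ 1, r = 2^m and the group realised as the stabiliser in SL₄ of the Suzuki–Tits ovoid, every proper subgroup is contained in the normalizer of a Sylow 2-subgroup, or in the normalizer of a cyclic subgroup of order q − 1, q + 2r + 1 or q − 2r + 1, or in a subgroup isomorphic to a smaller Suzuki group Sz(s) with s = 2^(2k+1) ≥ 8 and 2k+1 a proper divisor of 2m+1. -/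
theorem result {F : Type*} [Field F] [Fintype F] {m : ℕ} (hm : 1 ≤ m) (hF : Fintype.card F = 2 ^ (2 * m + 1)) (M : Subgroup ↥(Cfsg.Sz F m)) (hM : M ≠ ⊤) :
    (∃ P : Sylow 2 ↥(Cfsg.Sz F m), M ≤ Subgroup.normalizer ((P : Subgroup ↥(Cfsg.Sz F m)) : Set ↥(Cfsg.Sz F m))) ∨
    (∃ U : Subgroup ↥(Cfsg.Sz F m), IsCyclic ↥U ∧ Nat.card ↥U ∈ ({2 ^ (2 * m + 1) - 1, 2 ^ (2 * m + 1) + 2 ^ (m + 1) + 1, 2 ^ (2 * m + 1) - 2 ^ (m + 1) + 1} : Set ℕ) ∧
      M ≤ Subgroup.normalizer (U : Set ↥(Cfsg.Sz F m))) ∨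
    (∃ (K : Type) (_ : Field K) (_ : Fintype K) (k : ℕ), 1 ≤ k ∧ k < m ∧ Fintype.card K = 2 ^ (2 * k + 1) ∧ 2 * k + 1 ∣ 2 * m + 1 ∧
      ∃ S : Subgroup ↥(Cfsg.Sz F m), Nonempty (↥S ≃* ↥(Cfsg.Sz K k)) ∧ M ≤ S) := by
  haveI := Suz.charP_two hF
  have hθ := Suz.th_sq (F := F) (m := m) hF
  let e := Suz.szBridge hθ hm hF
  let M' := M.map e.toMonoidHom
  have hx' : ∀ x ∈ M, e x ∈ M' := fun x hx => ⟨x, hx, rfl⟩
  have hback : ∀ N : Subgroup ↥(Suz.G F m), M' ≤ N → M ≤ N.map e.symm.toMonoidHom := fun N h x hx =>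
    ⟨e x, h (hx' x hx), e.symm_apply_apply x⟩
  rcases Suz.subgroup_cases hθ hm hF M' with ⟨o, ho⟩ | ⟨X, hX, hMX⟩ | ⟨k, hk, hdvd, ψ, hψ, hMψ⟩
  · left
    obtain ⟨c, hc⟩ := Suz.exists_conj_stab hθ o
    rw [Suz.stab_eq_map hθ hc, ← Suz.normalizer_U hθ, Subgroup.map_equiv_normalizer_eq] at ho
    refine ⟨(Suz.sylow hθ hF).mapSurjective (f := ((MulAut.conj c).trans e.symm).toMonoidHom) (MulEquiv.surjective _), ?_⟩
    refine (hback _ ho).trans ?_
    rw [Subgroup.map_equiv_normalizer_eq, Subgroup.map_map]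
    exact le_rfl
  · right; left
    refine ⟨X.map e.symm.toMonoidHom, ?_, ?_, ?_⟩
    · haveI := Suz.ss_cyclic hθ hF hX
      exact isCyclic_of_surjective (e.symm.subgroupMap X).toMonoidHom (e.symm.subgroupMap X).surjective
    · rw [Subgroup.card_map_of_injective (f := e.symm.toMonoidHom) e.symm.injective]
      rcases hX with ⟨c, rfl⟩ | hA
      · rw [Subgroup.card_map_of_injective (MulAut.conj c).injective, Suz.card_T hθ, hF]
        exact Or.inl rfl
      · obtain ⟨A₁, A₂, -, -, h1, h2, -, -, hcl⟩ := Suz.exists_tori hθ hm hF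
        obtain ⟨c, rfl | rfl⟩ := hcl X hA
        · rw [Subgroup.card_map_of_injective (MulAut.conj c).injective, h1]; exact Or.inr (Or.inl rfl)
        · rw [Subgroup.card_map_of_injective (MulAut.conj c).injective, h2]; exact Or.inr (Or.inr rfl)
    · refine (hback _ hMX).trans ?_
      rw [Subgroup.map_equiv_normalizer_eq]
  · right; right
    haveI : Fact (Nat.Prime 2) := ⟨Nat.prime_two⟩
    letI : Fintype (GaloisField 2 (2 * k + 1)) := Fintype.ofFinite _
    have hK : Fintype.card (GaloisField 2 (2 * k + 1)) = 2 ^ (2 * k + 1) := by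
      rw [← Nat.card_eq_fintype_card, GaloisField.card 2 _ (by omega)]
    have hθK := Suz.th_sq hK
    have hkm : k < m := by
      have hle := Nat.le_of_dvd (by omega) hdvd
      rcases Nat.lt_or_ge k m with h | h
      · exact h
      · exfalso
        obtain rfl : k = m := by omega
        apply hM
        have hc : Nat.card ↥(Suz.G (GaloisField 2 (2 * k + 1)) k) = Nat.card ↥(Suz.G F k) := by
          rw [Suz.card_sz hθK, Suz.card_sz hθ, hK, hF]
        have htop : M' = ⊤ := by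
          apply Subgroup.eq_top_of_card_eq
          rw [hMψ, ← Nat.card_congr (MonoidHom.ofInjective hψ).toEquiv, hc]
        rw [eq_top_iff]
        intro x _
        obtain ⟨y, hy, hxy⟩ := (htop.symm ▸ Subgroup.mem_top (e x) : e x ∈ M')
        rwa [← e.injective hxy]
    refine ⟨GaloisField 2 (2 * k + 1), inferInstance, inferInstance, k, hk, hkm, hK, hdvd, M, ⟨?_⟩, le_rfl⟩
    exact ((e.subgroupMap M).trans (MulEquiv.subgroupCongr hMψ)).trans
      ((MonoidHom.ofInjective hψ).symm.trans (Suz.szBridge hθK hk hK).symm)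

end Cfsg.Agent.S2251
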