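import Cfsg.Statements.S2254
import Cfsg.Agent.Lib.FusionControl.NilpotentPermMax

set_option autoImplicit false
open Cfsg

namespace Cfsg.Agent.S2254

open Cfsg.Agent.Lib.FusionControl.NilpotentPerm

/-- Let n ≡ 3 (mod 4). Then every nilpotent subgroup of the symmetric group on n letters has order at most 3 times the order of a Sylow 2-subgroup of the symmetric group on n − 3 letters; the bound is attained by a nilpotent subgroup isomorphic to the direct product of such a Sylow 2-subgroup with a cyclic group of order 3; and any two nilpotent subgroups attaining the bound are conjugate. -/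
theorem result  (n : ℕ) (hn : n % 4 = 3)
    (P : Sylow 2 (Equiv.Perm (Fin (n - 3)))) :
    (∀ N : Subgroup (Equiv.Perm (Fin n)), Group.IsNilpotent N → Nat.card N ≤ 3 * Nat.card P) ∧
    (∃ M : Subgroup (Equiv.Perm (Fin n)), Group.IsNilpotent M ∧ Nat.card M = 3 * Nat.card P ∧
      Nonempty (M ≃* (↥(P : Subgroup (Equiv.Perm (Fin (n - 3)))) × Multiplicative (ZMod 3)))) ∧
    (∀ N₁ N₂ : Subgroup (Equiv.Perm (Fin n)), Group.IsNilpotent N₁ → Group.IsNilpotent N₂ →
      Nat.card N₁ = 3 * Nat.card P → Nat.card N₂ = 3 * Nat.card P →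
      ∃ g : Equiv.Perm (Fin n), N₂ = N₁.map (MulAut.conj g).toMonoidHom) := by
  obtain ⟨k, rfl⟩ : ∃ k, n = 4 * k + 3 := ⟨n / 4, by omega⟩
  have hP : Nat.card P = fTwo (4 * k) := by
    rw [card_sylow_perm P, Fintype.card_fin, Nat.add_sub_cancel]
  have hg : gNil (4 * k + 3) = 3 * Nat.card P := by rw [gNil_four_mul_add_three, hP]
  refine ⟨fun N hN => hg ▸ card_le_gNil _ N (Fintype.card_fin _), ?_, ?_⟩
  · have e : 4 * k + 3 - 3 = 4 * k := Nat.add_sub_cancel _ _
    obtain ⟨φ, hφ, hnil, -⟩ := exists_max (α := Fin (4 * k + 3)) (Fintype.card_fin _)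
      ((P : Subgroup (Equiv.Perm (Fin (4 * k + 3 - 3)))).map (finCongr e).permCongrHom.toMonoidHom)
      (P.2.map _)
    let f := (MonoidHom.ofInjective hφ).symm
    let g := ((P : Subgroup (Equiv.Perm (Fin (4 * k + 3 - 3)))).equivMapOfInjective
      (finCongr e).permCongrHom.toMonoidHom (finCongr e).permCongrHom.injective).symm
    let f' := f.trans (MulEquiv.prodCongr g (MulEquiv.refl (Multiplicative (ZMod 3))))
    refine ⟨φ.range, hnil, ?_, ⟨f'⟩⟩
    rw [Nat.card_congr f'.toEquiv, Nat.card_prod, Nat.card_congr Multiplicative.toAdd, Nat.card_zmod, mul_comm]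
  · intro N₁ N₂ h1 h2 e1 e2
    rw [hP] at e1 e2
    exact conj_of_eq (k := k) (Fintype.card_fin _) N₁ N₂ e1 e2

end Cfsg.Agent.S2254
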