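import Cfsg.Statements.S2255
import Cfsg.Agent.Lib.FusionControl.NilpotentPermMax

set_option autoImplicit false
open Cfsg

namespace Cfsg.Agent.S2255

open Cfsg.Agent.Lib.FusionControl.NilpotentPerm

/-- Let n be a natural number not congruent to 3 modulo 4, with n ∉ {5, 6, 9}. Then every nilpotent subgroup of the alternating group on n letters has order at most the order of a Sylow 2-subgroup of the alternating group (so the nilpotent subgroups of largest order are exactly the Sylow 2-subgroups). -/
theorem result  (n : ℕ) (hn : n % 4 ≠ 3)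
    (h5 : n ≠ 5) (h6 : n ≠ 6) (h9 : n ≠ 9)
    (N : Subgroup (alternatingGroup (Fin n))) (hN : Group.IsNilpotent N)
    (P : Sylow 2 (alternatingGroup (Fin n))) :
    Nat.card N ≤ Nat.card P := by
  rcases (by omega : n < 2 ∨ 2 ≤ n) with h2 | h2
  · have : Subsingleton (Fin n) := Fin.subsingleton_iff_le_one.mpr (by omega)
    rw [Nat.card_unique]
    exact Nat.card_pos
  have : Nontrivial (Fin n) := Fin.nontrivial_iff_two_le.mpr h2
  set N' := N.map (alternatingGroup (Fin n)).subtype with hN'
  have hc : Nat.card N' = Nat.card N := Subgroup.card_map_of_injective Subtype.val_injective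
  have : Group.IsNilpotent N' :=
    Group.nilpotent_of_mulEquiv (N.equivMapOfInjective _ (Subgroup.subtype_injective _))
  have hb : 2 * Nat.card N' ≤ gNil n := by
    rcases dichotomy N' (Subgroup.map_subtype_le _) with ⟨M, hM, -, hle, -⟩ | hodd
    · exact hle.trans (card_le_gNil n M (Fintype.card_fin n))
    · by_cases h1 : Nat.card N' = 1
      · rw [h1, mul_one]
        exact gNil_two ▸ gNil_mono h2
      · exact two_mul_card_le n N' (Fintype.card_fin n) hodd h1 (by omega) h5 h6 h9
  have hP := two_mul_card_sylow_alternating P
  rw [Fintype.card_fin, ← gNil_of_ne hn] at hP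
  omega

end Cfsg.Agent.S2255
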