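import Cfsg.Statements.S2256
import Cfsg.Agent.Lib.FusionControl.NilpotentPermMax

set_option autoImplicit false
open Cfsg

namespace Cfsg.Agent.S2256

open Cfsg.Agent.Lib.FusionControl.NilpotentPerm

/-- Let n ≡ 3 (mod 4) with n ≥ 7. Then every nilpotent subgroup of the alternating group on n letters has order at most 3 times the order of a Sylow 2-subgroup of the alternating group on n − 3 letters; the bound is attained by a nilpotent subgroup isomorphic to the direct product of such a Sylow 2-subgroup with a cyclic group of order 3; and any two nilpotent subgroups of the alternating group attaining the bound are conjugate in it. -/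
theorem result  (n : ℕ) (hn : n % 4 = 3) (h7 : 7 ≤ n)
    (P : Sylow 2 (alternatingGroup (Fin (n - 3)))) :
    (∀ N : Subgroup (alternatingGroup (Fin n)), Group.IsNilpotent N → Nat.card N ≤ 3 * Nat.card P) ∧
    (∃ M : Subgroup (alternatingGroup (Fin n)), Group.IsNilpotent M ∧ Nat.card M = 3 * Nat.card P ∧
      Nonempty (M ≃* (↥(P : Subgroup (alternatingGroup (Fin (n - 3)))) × Multiplicative (ZMod 3)))) ∧
    (∀ N₁ N₂ : Subgroup (alternatingGroup (Fin n)), Group.IsNilpotent N₁ → Group.IsNilpotent N₂ →
      Nat.card N₁ = 3 * Nat.card P → Nat.card N₂ = 3 * Nat.card P →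
      ∃ g : alternatingGroup (Fin n), N₂ = N₁.map (MulAut.conj g).toMonoidHom) := by
  obtain ⟨k, rfl⟩ : ∃ k, n = 4 * k + 3 := ⟨n / 4, by omega⟩
  have e : 4 * k + 3 - 3 = 4 * k := Nat.add_sub_cancel _ _
  have : Nontrivial (Fin (4 * k + 3 - 3)) := Fin.nontrivial_iff_two_le.mpr (by omega)
  have : Nontrivial (Fin (4 * k + 3)) := Fin.nontrivial_iff_two_le.mpr (by omega)
  have hP := two_mul_card_sylow_alternating P
  rw [Fintype.card_fin] at hP
  replace hP : 2 * Nat.card P = fTwo (4 * k) := hP.trans (congrArg fTwo e)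
  have hg : gNil (4 * k + 3) = 2 * (3 * Nat.card P) := by rw [gNil_four_mul_add_three, ← hP]; ring
  have hmap : ∀ N : Subgroup (alternatingGroup (Fin (4 * k + 3))), Group.IsNilpotent N →
      Group.IsNilpotent (N.map (alternatingGroup (Fin (4 * k + 3))).subtype) := fun N hN =>
    Group.nilpotent_of_mulEquiv (N.equivMapOfInjective _ (Subgroup.subtype_injective _))
  have hbound : ∀ N : Subgroup (Equiv.Perm (Fin (4 * k + 3))), Group.IsNilpotent N →
      N ≤ alternatingGroup (Fin (4 * k + 3)) → Nat.card N ≤ 3 * Nat.card P ∧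
      (Nat.card N = 3 * Nat.card P → ∃ M : Subgroup (Equiv.Perm (Fin (4 * k + 3))), Group.IsNilpotent M ∧
        Nat.card M = 3 * fTwo (4 * k) ∧ ¬ M ≤ alternatingGroup (Fin (4 * k + 3)) ∧
        N = M ⊓ alternatingGroup (Fin (4 * k + 3))) := by
    intro N hN hA
    rcases dichotomy N hA with ⟨M, hM, hNM, hle, hMA⟩ | hodd
    · have hMb := card_le_gNil _ M (Fintype.card_fin _)
      refine ⟨by omega, fun heq => ⟨M, hM, by rw [← hP]; omega, hMA, ?_⟩⟩
      refine Subgroup.eq_of_le_of_card_ge (le_inf hNM hA) ?_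
      set I := (M ⊓ alternatingGroup (Fin (4 * k + 3))).subgroupOf M with hI
      have h1 : I.index ≠ 1 := fun h => hMA fun x hx =>
        (Subgroup.subgroupOf_eq_top.mp (Subgroup.index_eq_one.mp h) hx).2
      have h2 := I.card_mul_index
      have h3 : I.index ≠ 0 := Subgroup.index_ne_zero_of_finite
      have h4 : Nat.card I = Nat.card (M ⊓ alternatingGroup (Fin (4 * k + 3)) : Subgroup _) :=
        Nat.card_congr (Subgroup.subgroupOfEquivOfLe inf_le_left).toEquiv
      rw [h4] at h2
      have h5 := Nat.mul_le_mul_left (Nat.card (M ⊓ alternatingGroup (Fin (4 * k + 3)) : Subgroup _)) (show 2 ≤ I.index by omega)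
      omega
    · have hne : Nat.card N ≠ 3 * Nat.card P := by
        intro heq
        have h8 := fTwo_mul_le 4 (4 * k - 4)
        rw [fTwo_four, show 4 + (4 * k - 4) = 4 * k by omega] at h8
        have h2P : 2 ∣ Nat.card P := by
          obtain ⟨j, hj⟩ := IsPGroup.iff_card.mp P.2
          rcases j with _ | j
          · have := fTwo_pos (4 * k - 4)
            rw [pow_zero] at hj
            omega
          · rw [hj]
            exact dvd_pow_self 2 (Nat.succ_ne_zero j)
        rw [heq] at hodd
        exact absurd (even_iff_two_dvd.mpr (h2P.mul_left 3)) (Nat.not_even_iff_odd.mpr hodd)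
      refine ⟨?_, fun h => absurd h hne⟩
      by_cases h1 : Nat.card N = 1
      · rw [h1]
        have : 0 < Nat.card (P : Subgroup (alternatingGroup (Fin (4 * k + 3 - 3)))) := Nat.card_pos
        omega
      · have := two_mul_card_le _ N (Fintype.card_fin _) hodd h1 (by omega) (by omega) (by omega) (by omega)
        omega
  refine ⟨fun N hN => ?_, ?_, ?_⟩
  · rw [← Subgroup.card_map_of_injective (f := (alternatingGroup (Fin (4 * k + 3))).subtype) Subtype.val_injective]
    exact (hbound _ (hmap N hN) (Subgroup.map_subtype_le _)).1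
  · set S := ((P : Subgroup (alternatingGroup (Fin (4 * k + 3 - 3)))).map
      (alternatingGroup (Fin (4 * k + 3 - 3))).subtype).map (finCongr e).permCongrHom.toMonoidHom with hS
    obtain ⟨φ, hφ, hnil, hA⟩ := exists_max (α := Fin (4 * k + 3)) (Fintype.card_fin _) S
      ((P.2.map _).map _)
    have hA' : φ.range ≤ alternatingGroup (Fin (4 * k + 3)) := by
      refine hA ?_
      rintro _ ⟨_, ⟨u, -, rfl⟩, rfl⟩
      rw [Equiv.Perm.mem_alternatingGroup]
      show Equiv.Perm.sign ((finCongr e).permCongr _) = 1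
      rw [Equiv.Perm.sign_permCongr]
      exact Equiv.Perm.mem_alternatingGroup.mp u.2
    let g := (((P : Subgroup (alternatingGroup (Fin (4 * k + 3 - 3)))).equivMapOfInjective
      (alternatingGroup (Fin (4 * k + 3 - 3))).subtype (Subgroup.subtype_injective _)).trans
        (Subgroup.equivMapOfInjective _ (finCongr e).permCongrHom.toMonoidHom
          (finCongr e).permCongrHom.injective)).symm
    let f := ((Subgroup.subgroupOfEquivOfLe hA').trans (MonoidHom.ofInjective hφ).symm).trans
      (MulEquiv.prodCongr g (MulEquiv.refl (Multiplicative (ZMod 3))))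
    refine ⟨φ.range.subgroupOf _, Group.nilpotent_of_mulEquiv (Subgroup.subgroupOfEquivOfLe hA').symm, ?_, ⟨f⟩⟩
    rw [Nat.card_congr f.toEquiv, Nat.card_prod, Nat.card_congr Multiplicative.toAdd, Nat.card_zmod, mul_comm]
  · intro N₁ N₂ h1 h2 e1 e2
    have hc : ∀ N : Subgroup (alternatingGroup (Fin (4 * k + 3))),
        Nat.card (N.map (alternatingGroup (Fin (4 * k + 3))).subtype) = Nat.card N := fun N =>
      Subgroup.card_map_of_injective Subtype.val_injective
    obtain ⟨M₁, hM₁, k₁, hA₁, i₁⟩ := (hbound _ (hmap N₁ h1) (Subgroup.map_subtype_le _)).2 ((hc N₁).trans e1)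
    obtain ⟨M₂, hM₂, k₂, hA₂, i₂⟩ := (hbound _ (hmap N₂ h2) (Subgroup.map_subtype_le _)).2 ((hc N₂).trans e2)
    obtain ⟨g, hg⟩ := conj_of_eq (k := k) (Fintype.card_fin _) M₁ M₂ k₁ k₂
    -- an even conjugating element
    obtain ⟨g', hg'A, hg'⟩ : ∃ g' ∈ alternatingGroup (Fin (4 * k + 3)), M₂ = M₁.map (MulAut.conj g').toMonoidHom := by
      by_cases hgA : g ∈ alternatingGroup (Fin (4 * k + 3))
      · exact ⟨g, hgA, hg⟩
      obtain ⟨d, hd, hdA⟩ := SetLike.not_le_iff_exists.mp hA₁
      refine ⟨g * d, ?_, ?_⟩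
      · rw [Equiv.Perm.mem_alternatingGroup, map_mul] at *
        rcases Int.units_eq_one_or (Equiv.Perm.sign g) with a | a
        · exact absurd a hgA
        · rcases Int.units_eq_one_or (Equiv.Perm.sign d) with b | b
          · exact absurd (Equiv.Perm.mem_alternatingGroup.mpr b) hdA
          · rw [a, b]; decide
      · rw [hg]
        refine le_antisymm ?_ ?_ <;> rintro _ ⟨u, hu, rfl⟩
        · exact ⟨d⁻¹ * u * d, mul_mem (mul_mem (inv_mem hd) hu) hd, by simp [mul_assoc]⟩
        · exact ⟨d * u * d⁻¹, mul_mem (mul_mem hd hu) (inv_mem hd), by simp [mul_assoc]⟩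
    refine ⟨⟨g', hg'A⟩, ?_⟩
    refine Subgroup.map_injective (Subgroup.subtype_injective (alternatingGroup (Fin (4 * k + 3)))) ?_
    rw [i₂, Subgroup.map_map, show (alternatingGroup (Fin (4 * k + 3))).subtype.comp
      (MulAut.conj (⟨g', hg'A⟩ : alternatingGroup (Fin (4 * k + 3)))).toMonoidHom =
      (MulAut.conj g').toMonoidHom.comp (alternatingGroup (Fin (4 * k + 3))).subtype from rfl,
      ← Subgroup.map_map, i₁, Subgroup.map_inf _ _ _ (MulAut.conj g').injective, ← hg']
    congr 1
    exact ((Subgroup.Normal.map_conj_eq (H := alternatingGroup (Fin (4 * k + 3))) g')).symm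

end Cfsg.Agent.S2256
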