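import Cfsg.Statements.S2264
import Cfsg.Agent.Lib.KnownA.IsometryOrders
set_option autoImplicit false
open Cfsg Cfsg.Agent.Lib.KnownA.IsometryOrders

namespace Cfsg.Agent.S2264

/-- Let F be a finite field with q elements and m ≥ 2. Then every element g of PSp_2m(F) satisfies (q − 1)·|g| ≤ q^(m+1), i.e. has order at most q^(m+1)/(q − 1). -/
theorem result {F : Type*} [Field F] [Fintype F] (m : ℕ) (hm : 2 ≤ m) (g : Cfsg.PSp m F) :
    (Fintype.card F - 1) * orderOf g ≤ Fintype.card F ^ (m + 1) := by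
  classical
  obtain ⟨x, rfl⟩ := QuotientGroup.mk_surjective g
  have hx := SymplecticGroup.mem_iff'.mp x.2
  obtain ⟨k, hk, hle, hpow⟩ := exists_pow_small (m := m) (F := F) (by simp; omega) hm (by simp; omega)
    (fun _ => by simp; omega) (x : Matrix (Fin m ⊕ Fin m) (Fin m ⊕ Fin m) F) (Matrix.J (Fin m) F)
    (Matrix.isUnit_det_J (Fin m) F) hx
  refine le_trans (Nat.mul_le_mul_left _ (orderOf_le_of_pow_eq_one hk ?_)) hle
  rw [← QuotientGroup.mk_pow, QuotientGroup.eq_one_iff, Subgroup.mem_center_iff]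
  intro y
  apply Subtype.ext
  rw [Submonoid.coe_mul, Submonoid.coe_mul, SubmonoidClass.coe_pow]
  rcases hpow with e | e <;> rw [e] <;> simp

end Cfsg.Agent.S2264
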