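import Cfsg.Statements.S2265
import Cfsg.Agent.Lib.KnownA.IsometryOrders
set_option autoImplicit false
open Cfsg Cfsg.Agent.Lib.KnownA.IsometryOrders

namespace Cfsg.Agent.S2265

/-- Let F be a finite field with q elements. Every element g of PΩ_(2m+1)(F) (m ≥ 3, q odd), of PΩ⁺_2m(F) (m ≥ 4), or of PΩ⁻_2m(F) (m ≥ 4, the form having an anisotropic binary part) satisfies (q − 1)·|g| ≤ q^(m+1), i.e. has order at most q^(m+1)/(q − 1). -/
theorem result {F : Type*} [Field F] [Fintype F] (m : ℕ) :
    (3 ≤ m → Odd (Fintype.card F) → ∀ g : Cfsg.POmega F (Cfsg.quadFormOdd m F),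
      (Fintype.card F - 1) * orderOf g ≤ Fintype.card F ^ (m + 1)) ∧
    (4 ≤ m → ∀ g : Cfsg.POmega F (Cfsg.quadFormPlus m F),
      (Fintype.card F - 1) * orderOf g ≤ Fintype.card F ^ (m + 1)) ∧
    (4 ≤ m → ∀ a b : F, (∀ z₁ z₂ : F, z₁ ^ 2 + a * z₁ * z₂ + b * z₂ ^ 2 = 0 → z₁ = 0 ∧ z₂ = 0) →
      ∀ g : Cfsg.POmega F (Cfsg.quadFormMinus (m - 1) F a b),
      (Fintype.card F - 1) * orderOf g ≤ Fintype.card F ^ (m + 1)) := by
  classical
  have key : ∀ {ι : Type} [Fintype ι] [DecidableEq ι] (Q : (ι → F) → F) (B : Matrix ι ι F) (k : ℕ),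
      (∀ v w, Q (v + w) - Q v - Q w = dotProduct v (Matrix.mulVec B w)) → IsUnit B.det →
      2 ≤ k → Fintype.card ι ≤ 2 * k + 1 → (k = 2 → Fintype.card ι ≤ 4) →
      (Even (Fintype.card F) → Fintype.card ι ≤ 2 * k) →
      ∀ g : Cfsg.POmega F Q, (Fintype.card F - 1) * orderOf g ≤ Fintype.card F ^ (k + 1) := by
    intro ι _ _ Q B k hB hBd hk2 hN h2' hev g
    obtain ⟨x, rfl⟩ := QuotientGroup.mk_surjective g
    obtain ⟨G, hG⟩ : ∃ G : Matrix ι ι F, G = ((x.1 : Matrix.GeneralLinearGroup ι F) : Matrix ι ι F) := ⟨_, rfl⟩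
    have hQ : ∀ v, Q (Matrix.mulVec G v) = Q v := fun v => by
      have := x.1.2 v v
      rw [hG]
      exact this
    have hGB : G.transpose * B * G = B := by
      ext i j
      have h := hB (Matrix.mulVec G (Pi.single i 1)) (Matrix.mulVec G (Pi.single j 1))
      rw [← Matrix.mulVec_add, hQ, hQ, hQ, hB, Matrix.mulVec_mulVec, Matrix.dotProduct_mulVec _ (B * G),
        Matrix.vecMul_mulVec, ← mul_assoc] at h
      simpa using h.symm
    obtain ⟨n, hn, hle, hpow⟩ := exists_pow_small hN hk2 h2' hev G B hBd hGB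
    refine le_trans (Nat.mul_le_mul_left _ (orderOf_le_of_pow_eq_one hn ?_)) hle
    rw [← QuotientGroup.mk_pow, QuotientGroup.eq_one_iff, Subgroup.mem_center_iff]
    intro y
    apply Subtype.ext
    apply Subtype.ext
    apply Units.ext
    simp only [Subgroup.coe_mul, SubmonoidClass.coe_pow, Units.val_mul, Units.val_pow_eq_pow_val, ← hG]
    rcases hpow with e | e <;> rw [e] <;> simp
  let H : ∀ k : ℕ, Matrix (Fin k ⊕ Fin k) (Fin k ⊕ Fin k) F := fun k => Matrix.fromBlocks 0 1 1 0
  have hH : ∀ k, IsUnit (H k).det := fun k => Matrix.isUnit_det_of_left_inverse (B := H k) (by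
    simp [H, Matrix.fromBlocks_multiply, ← Matrix.fromBlocks_one])
  have hHB : ∀ k, ∀ v w : Fin k ⊕ Fin k → F, dotProduct v (Matrix.mulVec (H k) w) =
      ∑ i, (v (.inl i) * w (.inr i) + w (.inl i) * v (.inr i)) := by
    intro k v w
    simp [H, dotProduct, Matrix.mulVec, Matrix.one_apply, Fintype.sum_sum_type, Finset.sum_add_distrib, mul_comm]
  refine ⟨fun hm ho => ?_, fun hm => ?_, fun hm a b hab => ?_⟩
  · have h2 : (2 : F) ≠ 0 := fun h => by
      haveI := CharTwo.of_one_ne_zero_of_two_eq_zero (one_ne_zero (α := F)) h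
      have hc : ringChar F = 2 := ringChar.eq F 2
      exact Nat.not_even_iff_odd.2 ho ((FiniteField.even_card_iff_char_two).1 hc |> Nat.even_iff.2)
    refine key _ (Matrix.fromBlocks ((2 : F) • (1 : Matrix Unit Unit F)) 0 0 (H m)) m (fun v w => ?_) ?_ (by omega)
      (by simp; omega) (by omega) (fun he => absurd he (Nat.not_even_iff_odd.2 ho))
    · have e : dotProduct v (Matrix.mulVec (Matrix.fromBlocks ((2 : F) • (1 : Matrix Unit Unit F)) 0 0 (H m)) w) =
          v (.inl ()) * (2 * w (.inl ())) + dotProduct (fun i => v (.inr i)) (Matrix.mulVec (H m) fun i => w (.inr i)) := by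
        simp [dotProduct, Matrix.mulVec, Fintype.sum_sum_type, Matrix.one_apply]
      rw [e, hHB]
      simp only [Cfsg.quadFormOdd, Pi.add_apply, add_mul, mul_add, Finset.sum_add_distrib,
        mul_comm (w (.inr (.inl _))) (v (.inr (.inr _)))]
      ring
    · rw [Matrix.det_fromBlocks_zero₁₂, Matrix.det_smul, Matrix.det_one]
      simpa [h2] using (hH m).ne_zero
  · refine key _ (H m) m (fun v w => ?_) (hH m) (by omega) (by simp; omega) (by omega) (fun _ => by simp; omega)
    rw [hHB]
    simp only [Cfsg.quadFormPlus, Pi.add_apply, add_mul, mul_add, Finset.sum_add_distrib,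
      mul_comm (w (.inl _)) (v (.inr _))]
    ring
  · let A : Matrix (Fin 2) (Fin 2) F := !![2, a; a, 2 * b]
    refine key _ (Matrix.fromBlocks (H (m - 1)) 0 0 A) m (fun v w => ?_) ?_ (by omega) (by simp; omega) (by omega)
      (fun _ => by simp; omega)
    · have e : dotProduct v (Matrix.mulVec (Matrix.fromBlocks (H (m - 1)) 0 0 A) w) =
          dotProduct (fun i => v (.inl i)) (Matrix.mulVec (H (m - 1)) fun i => w (.inl i)) +
          dotProduct (fun i => v (.inr i)) (Matrix.mulVec A fun i => w (.inr i)) := by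
        simp [dotProduct, Matrix.mulVec, Fintype.sum_sum_type]
      rw [e, hHB]
      simp only [A, Cfsg.quadFormMinus, Pi.add_apply, add_mul, mul_add, Finset.sum_add_distrib,
        mul_comm (w (.inl (.inl _))) (v (.inl (.inr _))), dotProduct, Matrix.mulVec, Fin.sum_univ_two,
        Matrix.of_apply, Matrix.cons_val_zero, Matrix.cons_val_one]
      ring
    · rw [Matrix.det_fromBlocks_zero₁₂]
      refine (hH _).mul (isUnit_iff_ne_zero.2 fun hd => ?_)
      simp [A, Matrix.det_fin_two] at hd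
      by_cases h2 : (2 : F) = 0
      · have ha : a = 0 := by
          have : a * a = 0 := by linear_combination (-1 : F) * hd + (2 * b) * h2
          exact mul_self_eq_zero.1 this
        haveI := CharTwo.of_one_ne_zero_of_two_eq_zero (one_ne_zero (α := F)) h2
        obtain ⟨r, hr⟩ := FiniteField.isSquare_of_char_two (ringChar.eq F 2) b
        exact one_ne_zero (hab r 1 (by rw [ha, hr]; linear_combination (r * r) * h2)).2
      · exact one_ne_zero (hab (-a / 2) 1 (by
          field_simp
          linear_combination hd)).2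

end Cfsg.Agent.S2265
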