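import Cfsg.Statements.S2268

set_option autoImplicit false
open Cfsg

namespace Cfsg.Agent.S2268

/-- Let G be a finite group with an abelian Sylow p-subgroup P and let Q ≤ P. Then N_G(Q) = (N_G(Q) ∩ N_G(P))·C_G(Q), so that N_G(Q)/C_G(Q) is a homomorphic image of the subgroup (N_G(Q) ∩ N_G(P))/C_G(P) of N_G(P)/C_G(P); in particular the order of N_G(Q)/C_G(Q) divides the order of N_G(P)/C_G(P). -/
theorem result {G : Type*} [Group G] [Finite G] {p : ℕ} [Fact p.Prime]
    (P : Sylow p G) (hP : IsMulCommutative (P : Subgroup G)) (Q : Subgroup G) (hQ : Q ≤ (P : Subgroup G)) :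
    Subgroup.normalizer (Q : Set G) =
      (Subgroup.normalizer (Q : Set G) ⊓ Subgroup.normalizer ((P : Subgroup G) : Set G)) ⊔ Subgroup.centralizer (Q : Set G) ∧
    ((Subgroup.centralizer (Q : Set G)).subgroupOf (Subgroup.normalizer (Q : Set G))).index ∣ ((Subgroup.centralizer ((P : Subgroup G) : Set G)).subgroupOf (Subgroup.normalizer ((P : Subgroup G) : Set G))).index := by
  set N : Subgroup G := Subgroup.normalizer (Q : Set G) with hN
  set C : Subgroup G := Subgroup.centralizer (Q : Set G) with hC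
  set M : Subgroup G := Subgroup.normalizer ((P : Subgroup G) : Set G) with hM
  have hPP : (P : Subgroup G) ≤ Subgroup.centralizer ((P : Subgroup G) : Set G) :=
    Subgroup.le_centralizer _
  have hPC : (P : Subgroup G) ≤ C := hPP.trans (Subgroup.centralizer_le hQ)
  have hCN : C ≤ N := Subgroup.centralizer_le_normalizer _
  haveI : (C.subgroupOf N).Normal := by
    rw [hC, hN, ← Subgroup.normalizerMonoidHom_ker]; exact MonoidHom.normal_ker _
  have hfr : (N ⊓ M).subgroupOf N ⊔ C.subgroupOf N = ⊤ := by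
    have h1 := Sylow.normalizer_sup_eq_top' (N := C.subgroupOf N) (P.subtype (hPC.trans hCN))
      (by intro x hx; exact hPC hx)
    refine top_le_iff.mp (h1.symm.le.trans (sup_le_sup_right ?_ _))
    intro g hg
    refine Subgroup.mem_subgroupOf.mpr (Subgroup.mem_inf.mpr ⟨g.2, ?_⟩)
    rw [hM, Subgroup.mem_normalizer_iff]
    intro x
    replace hg : g ∈ Subgroup.normalizer (((P : Subgroup G).subgroupOf N) : Set N) := hg
    rw [Subgroup.mem_normalizer_iff] at hg
    constructor
    · intro hx
      have := (hg ⟨x, hCN (hPC hx)⟩).mp hx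
      exact this
    · intro hx
      have hxN : x ∈ N := by
        have h2 : (g : G) * x * (g : G)⁻¹ ∈ N := hCN (hPC hx)
        have h3 := mul_mem (mul_mem (inv_mem g.2) h2) g.2
        simpa [mul_assoc] using h3
      exact (hg ⟨x, hxN⟩).mpr hx
  constructor
  · refine le_antisymm (fun g hg => ?_) (sup_le inf_le_left hCN)
    have h : (⟨g, hg⟩ : N) ∈ (N ⊓ M).subgroupOf N ⊔ C.subgroupOf N := hfr ▸ Subgroup.mem_top _
    rw [← SetLike.mem_coe, Subgroup.mul_normal, Set.mem_mul] at h
    obtain ⟨a, ha, b, hb, hab⟩ := h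
    have h4 := congrArg Subtype.val hab
    rw [← show (a : G) * (b : G) = g from h4]
    exact mul_mem (Subgroup.mem_sup_left ha) (Subgroup.mem_sup_right hb)
  · have h1 : (C.subgroupOf N).index = C.relIndex (N ⊓ M) := by
      rw [← Subgroup.relIndex_subgroupOf (show N ⊓ M ≤ N from inf_le_left),
        ← Subgroup.relIndex_top_right, ← hfr, Subgroup.relIndex_sup_right]
    rw [h1]
    have h2 : C.relIndex (N ⊓ M) ∣ (Subgroup.centralizer ((P : Subgroup G) : Set G)).relIndex (N ⊓ M) :=
      Subgroup.relIndex_dvd_of_le_left _ (Subgroup.centralizer_le hQ)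
    refine h2.trans ?_
    refine dvd_of_mul_right_eq ((N ⊓ M).relIndex M) (Subgroup.relIndex_mul_relIndex _ _ _ ?_ inf_le_right)
    exact le_inf ((Subgroup.centralizer_le hQ).trans hCN) (Subgroup.centralizer_le_normalizer _)

end Cfsg.Agent.S2268
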