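import Cfsg.Statements.S2269


set_option autoImplicit false
open Cfsg

namespace Cfsg.Agent.S2269

/-- The normalizer and centralizer check for one four-group of `A₅`. -/
def fourCheck (a b : Equiv.Perm (Fin 5)) : Bool :=
  decide ((Finset.univ.filter fun g : Equiv.Perm (Fin 5) => Equiv.Perm.sign g = 1 ∧
      g * a * g⁻¹ ∈ [1, a, b, a * b] ∧ g * b * g⁻¹ ∈ [1, a, b, a * b]).card = 12) &&
    decide ((Finset.univ.filter fun g : Equiv.Perm (Fin 5) => Equiv.Perm.sign g = 1 ∧
      g * a = a * g ∧ g * b = b * g).card = 4)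

/-- Generators of a four-group of `A₅`. -/
def isFourPair (a b : Equiv.Perm (Fin 5)) : Bool :=
  decide (a * a = 1) && decide (b * b = 1) && decide (a * b = b * a) && decide (a ≠ 1) && decide (b ≠ 1) &&
    decide (a ≠ b) && decide (Equiv.Perm.sign a = 1) && decide (Equiv.Perm.sign b = 1)

theorem alt_five_check : ∀ a b : Equiv.Perm (Fin 5), isFourPair a b = true → fourCheck a b = true := by
  decide +kernel

theorem alt_five_four (a b : Equiv.Perm (Fin 5)) (h1 : a * a = 1) (h2 : b * b = 1) (h3 : a * b = b * a) (h4 : a ≠ 1)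
    (h5 : b ≠ 1) (h6 : a ≠ b) (h7 : Equiv.Perm.sign a = 1) (h8 : Equiv.Perm.sign b = 1) :
    (Finset.univ.filter fun g : Equiv.Perm (Fin 5) => Equiv.Perm.sign g = 1 ∧
      g * a * g⁻¹ ∈ [1, a, b, a * b] ∧ g * b * g⁻¹ ∈ [1, a, b, a * b]).card = 12 ∧
    (Finset.univ.filter fun g : Equiv.Perm (Fin 5) => Equiv.Perm.sign g = 1 ∧
      g * a = a * g ∧ g * b = b * g).card = 4 := by
  have h := alt_five_check a b (by simp [isFourPair, h1, h2, h3, h4, h5, h6, h7, h8])
  simp only [fourCheck, Bool.and_eq_true, decide_eq_true_eq] at h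
  exact h

theorem alt_five_exponent : ∀ a : Equiv.Perm (Fin 5), Equiv.Perm.sign a = 1 → a ^ 4 = 1 → a * a = 1 := by
  decide +kernel

/-- Let n ≥ 5 and let P be an abelian Sylow p-subgroup of the alternating group A_n. Then N(P)/C(P) (taken in A_n) has even order, or P is cyclic, except when n = 5 and p = 2, where P is a four-group and N(P)/C(P) has order 3. -/
theorem result (n : ℕ) (hn : 5 ≤ n) {p : ℕ} [Fact p.Prime]
    (P : Sylow p (alternatingGroup (Fin n))) (hP : IsMulCommutative (P : Subgroup (alternatingGroup (Fin n)))) :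
    (¬ (n = 5 ∧ p = 2) → 2 ∣ ((Subgroup.centralizer ((P : Subgroup (alternatingGroup (Fin n))) : Set (alternatingGroup (Fin n)))).subgroupOf (Subgroup.normalizer ((P : Subgroup (alternatingGroup (Fin n))) : Set (alternatingGroup (Fin n))))).index ∨ IsCyclic (P : Subgroup (alternatingGroup (Fin n)))) ∧
    ((n = 5 ∧ p = 2) → ((Subgroup.centralizer ((P : Subgroup (alternatingGroup (Fin n))) : Set (alternatingGroup (Fin n)))).subgroupOf (Subgroup.normalizer ((P : Subgroup (alternatingGroup (Fin n))) : Set (alternatingGroup (Fin n))))).index = 3 ∧ IsKleinFour (P : Subgroup (alternatingGroup (Fin n)))) := by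
  classical
  have hp : p.Prime := Fact.out
  let G := alternatingGroup (Fin n)
  have hodd : ∀ c : G, c ∈ (P : Subgroup G) → c * c ≠ 1 → IsConj c c⁻¹ →
      2 ∣ ((Subgroup.centralizer ((P : Subgroup G) : Set G)).subgroupOf (Subgroup.normalizer ((P : Subgroup G) : Set G))).index := by
    intro c hc hc2 hconj
    obtain ⟨g₀, hg₀⟩ := isConj_iff.mp hconj
    haveI := hP
    obtain ⟨g, hg, hgc⟩ := P.conj_eq_normalizer_conj_of_mem c g₀⁻¹ hc (by
      rw [inv_inv, hg₀]; exact (P : Subgroup G).inv_mem hc)
    rw [inv_inv, hg₀] at hgc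
    set C := (Subgroup.centralizer ((P : Subgroup G) : Set G)).subgroupOf (Subgroup.normalizer ((P : Subgroup G) : Set G))
    haveI : C.Normal := Subgroup.normal_subgroupOf_of_le_normalizer (by
      intro x hx
      rw [Subgroup.mem_normalizer_iff]
      intro y
      simp only [SetLike.mem_coe, Subgroup.mem_centralizer_iff]
      constructor
      · intro hy s hs
        have h1 := hy _ ((Subgroup.mem_normalizer_iff''.mp hx s).mp hs)
        calc s * (x * y * x⁻¹) = x * ((x⁻¹ * s * x) * y) * x⁻¹ := by group
          _ = _ := by rw [h1]; group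
      · intro hy s hs
        have h1 := hy _ ((Subgroup.mem_normalizer_iff.mp hx s).mp hs)
        calc s * y = x⁻¹ * ((x * s * x⁻¹) * (x * y * x⁻¹)) * x := by group
          _ = _ := by rw [h1]; group)
    by_contra hnd
    have hk : ∀ k : ℕ, Odd k → ¬ (⟨g, hg⟩ : Subgroup.normalizer ((P : Subgroup G) : Set G)) ^ k ∈ C := by
      intro k hk hmem
      have h1 : ∀ m : ℕ, (g ^ (2 * m + 1))⁻¹ * c * g ^ (2 * m + 1) = c⁻¹ := by
        intro m
        induction m with
        | zero => simpa using hgc.symm
        | succ m ih =>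
          calc (g ^ (2 * (m + 1) + 1))⁻¹ * c * g ^ (2 * (m + 1) + 1)
              = g⁻¹ * (g⁻¹ * ((g ^ (2 * m + 1))⁻¹ * c * g ^ (2 * m + 1)) * g) * g := by
                rw [show 2 * (m + 1) + 1 = 2 * m + 1 + 1 + 1 by ring, pow_succ, pow_succ]; group
            _ = g⁻¹ * (g⁻¹ * c * g)⁻¹ * g := by rw [ih]; group
            _ = g⁻¹ * c * g := by conv_lhs => rw [← hgc, inv_inv]
            _ = c⁻¹ := hgc.symm
      obtain ⟨m, rfl⟩ := hk
      have h2 := Subgroup.mem_centralizer_iff.mp (Subgroup.mem_subgroupOf.mp hmem) c hc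
      have h3 := h1 m
      rw [Subgroup.coe_pow] at h2
      rw [mul_assoc, h2, inv_mul_cancel_left] at h3
      exact hc2 (mul_eq_one_iff_eq_inv.mpr h3)
    refine hk C.index (Nat.odd_iff.mpr (by omega)) ?_
    rw [← QuotientGroup.eq_one_iff, QuotientGroup.mk_pow, Subgroup.index]
    exact pow_card_eq_one'
  refine ⟨fun hne => ?_, ?_⟩
  · by_cases hp2 : p = 2
    · subst hp2
      have hn6 : 6 ≤ n := by
        rcases eq_or_lt_of_le hn with h | h
        · exact absurd ⟨h.symm, rfl⟩ hne
        · omega
      exfalso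
      let e : Fin 6 ≃ {i : Fin n // (i : ℕ) < 6} :=
        { toFun := fun i => ⟨⟨i.1, by omega⟩, i.2⟩
          invFun := fun i => ⟨i.1.1, i.2⟩
          left_inv := fun i => rfl
          right_inv := fun i => rfl }
      let x : Equiv.Perm (Fin 6) := Equiv.swap 0 1 * Equiv.swap 1 2 * Equiv.swap 2 3 * Equiv.swap 4 5
      let y : Equiv.Perm (Fin 6) := Equiv.swap 0 2 * Equiv.swap 4 5
      let ι : Equiv.Perm (Fin 6) →* Equiv.Perm (Fin n) := Equiv.Perm.extendDomainHom e
      have hι : Function.Injective ι := Equiv.Perm.extendDomainHom_injective e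
      have hmem : ∀ z : Equiv.Perm (Fin 6), Equiv.Perm.sign z = 1 → ι z ∈ alternatingGroup (Fin n) := fun z hz => by
        rw [Equiv.Perm.mem_alternatingGroup]
        exact (Equiv.Perm.sign_extendDomain z e).trans hz
      let X : G := ⟨ι x, hmem x (by decide)⟩
      let Y : G := ⟨ι y, hmem y (by decide)⟩
      have hX : X ^ 4 = 1 := Subtype.ext (by show ι x ^ 4 = 1; rw [← map_pow, show x ^ 4 = 1 by decide, map_one])
      have hY : Y * Y = 1 := Subtype.ext (by show ι y * ι y = 1; rw [← map_mul, show y * y = 1 by decide, map_one])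
      have hYX : Y * X * Y⁻¹ = X⁻¹ := Subtype.ext (by
        show ι y * ι x * (ι y)⁻¹ = (ι x)⁻¹
        rw [← map_inv, ← map_inv, ← map_mul, ← map_mul]
        congr 1; decide)
      have hXY : X * Y ≠ Y * X := fun h => by
        have := congrArg Subtype.val h
        change ι x * ι y = ι y * ι x at this
        rw [← map_mul, ← map_mul] at this
        exact absurd (hι this) (by decide)
      have hinv : ∀ z ∈ Subgroup.zpowers X, Y * z * Y⁻¹ ∈ Subgroup.zpowers X := by
        intro z hz
        obtain ⟨i, rfl⟩ := Subgroup.mem_zpowers_iff.mp hz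
        rw [← conj_zpow, hYX, inv_zpow]
        exact Subgroup.inv_mem _ (Subgroup.zpow_mem _ (Subgroup.mem_zpowers X) i)
      have hnorm : Subgroup.zpowers Y ≤ Subgroup.normalizer (Subgroup.zpowers X : Set G) := by
        rw [Subgroup.zpowers_le, Subgroup.mem_normalizer_iff]
        intro z
        refine ⟨hinv z, fun hz => ?_⟩
        have := hinv _ hz
        rwa [show Y * (Y * z * Y⁻¹) * Y⁻¹ = Y * Y * z * (Y * Y)⁻¹ by group, hY, one_mul, inv_one, mul_one] at this
      have hD : IsPGroup 2 (Subgroup.zpowers X ⊔ Subgroup.zpowers Y : Subgroup G) := by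
        refine IsPGroup.to_sup_of_normal_left' ?_ ?_ hnorm
        · intro z
          obtain ⟨i, hi⟩ := Subgroup.mem_zpowers_iff.mp z.2
          refine ⟨2, Subtype.ext ?_⟩
          show (z : G) ^ 2 ^ 2 = 1
          rw [← hi, ← zpow_natCast, ← zpow_mul, mul_comm, zpow_mul, zpow_natCast, show (2 : ℕ) ^ 2 = 4 from rfl, hX, one_zpow]
        · intro z
          obtain ⟨i, hi⟩ := Subgroup.mem_zpowers_iff.mp z.2
          refine ⟨1, Subtype.ext ?_⟩
          show (z : G) ^ 2 ^ 1 = 1
          rw [← hi, ← zpow_natCast, ← zpow_mul, mul_comm, zpow_mul, zpow_natCast, pow_one, pow_two, hY, one_zpow]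
      obtain ⟨T, hT⟩ := hD.exists_le_sylow
      let ε := Sylow.equiv T P
      refine hXY ?_
      have hxT : X ∈ (T : Subgroup G) := hT (le_sup_left (a := Subgroup.zpowers X) (Subgroup.mem_zpowers X))
      have hyT : Y ∈ (T : Subgroup G) := hT (le_sup_right (a := Subgroup.zpowers X) (Subgroup.mem_zpowers Y))
      exact congrArg Subtype.val (ε.injective (a₁ := ⟨X, hxT⟩ * ⟨Y, hyT⟩) (a₂ := ⟨Y, hyT⟩ * ⟨X, hxT⟩)
        (by rw [map_mul, map_mul]; exact hP.is_comm.comm _ _))
    · by_cases hpn : p + 2 ≤ n
      · left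
        -- a real `p`-cycle
        obtain ⟨c, hcyc, hcn⟩ : ∃ c : Equiv.Perm (Fin n), c.IsCycle ∧ c.support.card = p := by
          have hl : ((List.finRange n).take p).Nodup := (List.nodup_finRange n).sublist (List.take_sublist _ _)
          have hlen : ((List.finRange n).take p).length = p := by simp; omega
          refine ⟨((List.finRange n).take p).formPerm, List.isCycle_formPerm hl (by rw [hlen]; exact hp.two_le), ?_⟩
          rw [List.support_formPerm_of_nodup _ hl (fun x hx => by
            have h1 : p = [x].length := hlen.symm.trans (congrArg List.length hx); have h2 := hp.two_le; simp only [List.length_singleton] at h1; omega)]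
          rw [List.toFinset_card_of_nodup hl, hlen]
        have hco : Odd p := hp.odd_of_ne_two hp2
        have hsign : Equiv.Perm.sign c = 1 := by rw [hcyc.sign, hcn, hco.neg_one_pow, neg_neg]
        let c' : G := ⟨c, Equiv.Perm.mem_alternatingGroup.mpr hsign⟩
        have hord : orderOf c' = p := by rw [← Subgroup.orderOf_coe, hcyc.orderOf, hcn]
        obtain ⟨T, hT⟩ := (IsPGroup.of_card (n := 1) (by rw [Nat.card_zpowers, hord, pow_one]) : IsPGroup p (Subgroup.zpowers c')).exists_le_sylow
        obtain ⟨g, hg⟩ := MulAction.exists_smul_eq G T P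
        let d := g * c' * g⁻¹
        have hdP : d ∈ (P : Subgroup G) := by
          rw [← hg]
          exact Subgroup.smul_mem_pointwise_smul _ (MulAut.conj g) _ (hT (Subgroup.mem_zpowers c'))
        have hd : orderOf d = p := by
          show orderOf (MulAut.conj g c') = p
          rw [MulEquiv.orderOf_eq, hord]
        refine hodd d hdP (fun h => ?_) ?_
        · have := orderOf_dvd_of_pow_eq_one (x := d) (n := 2) (by rw [pow_two]; exact h)
          rw [hd] at this
          exact hp2 ((Nat.prime_dvd_prime_iff_eq hp Nat.prime_two).mp this)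
        · have hdc : (d : Equiv.Perm (Fin n)).cycleType = c.cycleType := Equiv.Perm.cycleType_conj
          refine alternatingGroup.isConj_of ?_ ?_
          · rw [Equiv.Perm.isConj_iff_cycleType_eq]; simp
          · have h1 := Equiv.Perm.sum_cycleType (d : Equiv.Perm (Fin n))
            rw [hdc, Equiv.Perm.sum_cycleType, hcn] at h1
            simp
            omega
      · right
        -- the Sylow subgroup has order at most `p`
        have hdvd : Nat.card P ∣ n.factorial := by
          refine (Subgroup.card_subgroup_dvd_card _).trans ((Subgroup.card_subgroup_dvd_card (alternatingGroup (Fin n))).trans ?_)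
          rw [Nat.card_eq_fintype_card, Fintype.card_perm, Fintype.card_fin]
        obtain ⟨k, hk⟩ := IsPGroup.iff_card.mp P.2
        rw [hk] at hdvd
        have hlt : (p - 1) * k < n := lt_of_le_of_lt
          (Nat.mul_le_mul_left _ ((padicValNat_dvd_iff_le n.factorial_ne_zero).mp hdvd))
          (sub_one_mul_padicValNat_factorial_lt_of_ne_zero p (by omega))
        have hp3 : 3 ≤ p := by have := hp.two_le; omega
        have hk1 : k ≤ 1 := by
          by_contra hk2
          have h2 : (p - 1) * 2 ≤ (p - 1) * k := Nat.mul_le_mul_left _ (by omega)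
          have hp5 : p ≠ 4 := fun h => by subst h; norm_num at hp
          omega
        interval_cases k
        · haveI : Subsingleton (P : Subgroup G) := (Nat.card_eq_one_iff_unique.mp (by rw [hk, pow_zero])).1
          exact isCyclic_of_subsingleton
        · exact isCyclic_of_prime_card (p := p) (by rw [hk, pow_one])
  · rintro ⟨rfl, rfl⟩
    have hAc : Nat.card (alternatingGroup (Fin 5)) = 60 := by
      rw [nat_card_alternatingGroup, Nat.card_eq_fintype_card, Fintype.card_fin]; rfl
    have hPc : Nat.card P = 4 := by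
      rw [Sylow.card_eq_multiplicity, hAc, show (60 : ℕ) = 2 ^ 2 * 15 from rfl,
        Nat.factorization_mul (by norm_num) (by norm_num), Nat.factorization_pow, Finsupp.coe_add, Pi.add_apply,
        Finsupp.smul_apply, Nat.prime_two.factorization_self, Nat.factorization_eq_zero_of_not_dvd (n := 15) (by norm_num)]
      rfl
    have hexp : ∀ z : (P : Subgroup G), z ^ 2 = 1 := fun z => by
      have h4 : z ^ 4 = 1 := hPc ▸ pow_card_eq_one'
      apply Subtype.ext; apply Subtype.ext
      show (z.1.1) ^ 2 = 1
      rw [pow_two]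
      exact alt_five_exponent z.1.1 (Equiv.Perm.mem_alternatingGroup.mp z.1.2)
        (by exact_mod_cast congrArg (fun w : (P : Subgroup G) => w.1.1) h4)
    have hK : IsKleinFour (P : Subgroup G) := by
      refine ⟨hPc, ?_⟩
      refine ((Nat.dvd_prime Nat.prime_two).mp (Monoid.exponent_dvd_iff_forall_pow_eq_one.mpr hexp)).resolve_left fun h => ?_
      haveI := Monoid.exp_eq_one_iff.mp h
      have := Finite.card_le_one_iff_subsingleton.mpr (inferInstance : Subsingleton (P : Subgroup G))
      omega
    refine ⟨?_, hK⟩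
    obtain ⟨a, ha⟩ : ∃ a : (P : Subgroup G), a ≠ 1 := by
      by_contra! h
      haveI : Subsingleton (P : Subgroup G) := ⟨fun x y => (h x).trans (h y).symm⟩
      have := Finite.card_le_one_iff_subsingleton.mpr (inferInstance : Subsingleton (P : Subgroup G))
      omega
    obtain ⟨b, hb, hba⟩ : ∃ b : (P : Subgroup G), b ≠ 1 ∧ b ≠ a := by
      by_contra! h
      have : (Finset.univ : Finset (P : Subgroup G)).card ≤ ({1, a} : Finset (P : Subgroup G)).card :=
        Finset.card_le_card fun z _ => by
          by_cases hz : z = 1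
          · simp [hz]
          · simp [h z hz]
      rw [Finset.card_univ, ← Nat.card_eq_fintype_card, hPc, Finset.card_pair (Ne.symm ha)] at this
      omega
    have hsq : ∀ z : (P : Subgroup G), z * z = 1 := fun z => by rw [← pow_two]; exact hexp z
    have hall : ∀ z : (P : Subgroup G), z = 1 ∨ z = a ∨ z = b ∨ z = a * b := by
      have huniv : ({1, a, b, a * b} : Finset (P : Subgroup G)) = Finset.univ := by
        refine Finset.eq_univ_of_card _ ?_
        rw [← Nat.card_eq_fintype_card, hPc, Finset.card_insert_of_notMem, Finset.card_insert_of_notMem, Finset.card_pair]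
        · exact fun e => ha (mul_eq_right.mp e.symm)
        · simp only [Finset.mem_insert, Finset.mem_singleton, not_or]
          exact ⟨Ne.symm hba, fun e => hb (left_eq_mul.mp e)⟩
        · simp only [Finset.mem_insert, Finset.mem_singleton, not_or]
          exact ⟨Ne.symm ha, Ne.symm hb, fun e => hba (by rw [← inv_eq_of_mul_eq_one_right e.symm]; exact inv_eq_of_mul_eq_one_right (hsq a))⟩
      intro z
      have := huniv.symm ▸ Finset.mem_univ z
      simpa using this
    obtain ⟨h12, h4⟩ := alt_five_four a.1.1 b.1.1 (congrArg (fun w : (P : Subgroup G) => w.1.1) (hsq a))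
      (congrArg (fun w : (P : Subgroup G) => w.1.1) (hsq b))
      (congrArg (fun w : (P : Subgroup G) => w.1.1) (hP.is_comm.comm a b))
      (fun h => ha (Subtype.ext (Subtype.ext h))) (fun h => hb (Subtype.ext (Subtype.ext h)))
      (fun h => hba (Subtype.ext (Subtype.ext h)).symm)
      (Equiv.Perm.mem_alternatingGroup.mp a.1.2) (Equiv.Perm.mem_alternatingGroup.mp b.1.2)
    have hin : ∀ g : G, ∀ z : (P : Subgroup G), g * z.1 * g⁻¹ ∈ (P : Subgroup G) →
        (g.1 * z.1.1 * g.1⁻¹) ∈ [1, a.1.1, b.1.1, a.1.1 * b.1.1] := by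
      intro g z hz
      rcases hall ⟨_, hz⟩ with e | e | e | e <;>
        (have e' : g.1 * z.1.1 * g.1⁻¹ = _ := congrArg (fun w : (P : Subgroup G) => w.1.1) e
         rw [e']; simp)
    set N := Subgroup.normalizer ((P : Subgroup G) : Set G)
    set C := Subgroup.centralizer ((P : Subgroup G) : Set G)
    have hN : Nat.card N = 12 := by
      rw [← h12, ← Fintype.card_subtype, ← Nat.card_eq_fintype_card]
      refine Nat.card_congr
        { toFun := fun g => ⟨g.1.1, Equiv.Perm.mem_alternatingGroup.mp g.1.2,
            hin g.1 a ((Subgroup.mem_normalizer_iff.mp g.2 _).mp a.2), hin g.1 b ((Subgroup.mem_normalizer_iff.mp g.2 _).mp b.2)⟩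
          invFun := fun g => ⟨⟨g.1, Equiv.Perm.mem_alternatingGroup.mpr g.2.1⟩, ?_⟩
          left_inv := fun g => rfl
          right_inv := fun g => rfl }
      obtain ⟨g, hg, hga, hgb⟩ := g
      let γ : G := ⟨g, Equiv.Perm.mem_alternatingGroup.mpr hg⟩
      have hlift : ∀ z : (P : Subgroup G), g * z.1.1 * g⁻¹ ∈ [1, a.1.1, b.1.1, a.1.1 * b.1.1] → γ * z.1 * γ⁻¹ ∈ (P : Subgroup G) := by
        intro z hz
        simp only [List.mem_cons, List.not_mem_nil, or_false] at hz
        rcases hz with e | e | e | e
        · rw [show γ * z.1 * γ⁻¹ = 1 from Subtype.ext e]; exact one_mem _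
        · rw [show γ * z.1 * γ⁻¹ = a.1 from Subtype.ext e]; exact a.2
        · rw [show γ * z.1 * γ⁻¹ = b.1 from Subtype.ext e]; exact b.2
        · rw [show γ * z.1 * γ⁻¹ = a.1 * b.1 from Subtype.ext e]; exact mul_mem a.2 b.2
      show γ ∈ N
      have hle : (P : Subgroup G).map (MulAut.conj γ).toMonoidHom ≤ (P : Subgroup G) := by
        rintro _ ⟨z, hz, rfl⟩
        show γ * z * γ⁻¹ ∈ (P : Subgroup G)
        rcases hall ⟨z, hz⟩ with e | e | e | e <;>
          rw [show z = _ from congrArg Subtype.val e]
        · simp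
        · exact hlift a hga
        · exact hlift b hgb
        · rw [Subgroup.coe_mul, show γ * (a.1 * b.1) * γ⁻¹ = (γ * a.1 * γ⁻¹) * (γ * b.1 * γ⁻¹) by group]
          exact mul_mem (hlift a hga) (hlift b hgb)
      have heq := Subgroup.eq_of_le_of_card_ge hle (by
        rw [← Nat.card_congr ((P : Subgroup G).equivMapOfInjective (MulAut.conj γ).toMonoidHom (MulAut.conj γ).injective).toEquiv])
      rw [Subgroup.mem_normalizer_iff]
      intro z
      refine ⟨fun hz => hle ⟨z, hz, rfl⟩, fun hz => ?_⟩
      rw [← heq] at hz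
      obtain ⟨w, hw, he⟩ := hz
      rw [← (MulAut.conj γ).injective he]
      exact hw
    have hC : Nat.card C = 4 := by
      rw [← h4, ← Fintype.card_subtype, ← Nat.card_eq_fintype_card]
      refine Nat.card_congr
        { toFun := fun g => ⟨g.1.1, Equiv.Perm.mem_alternatingGroup.mp g.1.2,
            (congrArg Subtype.val (Subgroup.mem_centralizer_iff.mp g.2 a.1 a.2)).symm,
            (congrArg Subtype.val (Subgroup.mem_centralizer_iff.mp g.2 b.1 b.2)).symm⟩
          invFun := fun g => ⟨⟨g.1, Equiv.Perm.mem_alternatingGroup.mpr g.2.1⟩, ?_⟩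
          left_inv := fun g => rfl
          right_inv := fun g => rfl }
      obtain ⟨g, hg, hga, hgb⟩ := g
      refine Subgroup.mem_centralizer_iff.mpr fun z hz => Subtype.ext ?_
      show z.1 * g = g * z.1
      rcases hall ⟨z, hz⟩ with e | e | e | e <;>
        rw [show z = _ from congrArg Subtype.val e]
      · simp
      · exact hga.symm
      · exact hgb.symm
      · show a.1.1 * b.1.1 * g = g * (a.1.1 * b.1.1)
        rw [mul_assoc, ← hgb, ← mul_assoc, ← hga, mul_assoc]
    have hCN : C ≤ N := by
      intro x hx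
      rw [Subgroup.mem_normalizer_iff]
      intro y
      constructor
      · intro hy
        rwa [← Subgroup.mem_centralizer_iff.mp hx y hy, mul_inv_cancel_right]
      · intro hy
        have h1 := Subgroup.mem_centralizer_iff.mp (C.inv_mem hx) _ hy
        have h2 : y = x * y * x⁻¹ := by
          calc y = x⁻¹ * (x * y * x⁻¹) * x := by group
            _ = x * y * x⁻¹ := by rw [← h1]; group
        exact h2 ▸ hy
    have h := (C.subgroupOf N).card_mul_index
    rw [Nat.card_congr (Subgroup.subgroupOfEquivOfLe hCN).toEquiv, hC, hN] at h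
    omega
end Cfsg.Agent.S2269
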