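import Cfsg.Statements.S2270
import Cfsg.Agent.Lib.KnownA.RealElement

set_option autoImplicit false
open Cfsg

namespace Cfsg.Agent.S2270

/-- Let n ≥ 3, p an odd prime, and P an abelian Sylow p-subgroup of the symmetric group S_n (with p dividing n!, so that P ≠ 1). Then N(P)/C(P) has even order. -/
theorem result (n : ℕ) (hn : 3 ≤ n) {p : ℕ} [Fact p.Prime] (hp : p ≠ 2) (hpn : p ≤ n)
    (P : Sylow p (Equiv.Perm (Fin n))) (hP : IsMulCommutative (P : Subgroup (Equiv.Perm (Fin n)))) :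
    2 ∣ ((Subgroup.centralizer ((P : Subgroup (Equiv.Perm (Fin n))) : Set (Equiv.Perm (Fin n)))).subgroupOf (Subgroup.normalizer ((P : Subgroup (Equiv.Perm (Fin n))) : Set (Equiv.Perm (Fin n))))).index := by
  have hne : (P : Subgroup (Equiv.Perm (Fin n))) ≠ ⊥ := by
    refine P.ne_bot_of_dvd_card ?_
    rw [Nat.card_eq_fintype_card, Fintype.card_perm, Fintype.card_fin]
    exact (Fact.out : p.Prime).dvd_factorial.mpr hpn
  obtain ⟨x, hx, hx1⟩ := (Subgroup.ne_bot_iff_exists_ne_one.mp hne).elim fun y hy =>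
    (⟨(y : Equiv.Perm (Fin n)), y.2, by simpa using hy⟩ : ∃ x ∈ (P : Subgroup (Equiv.Perm (Fin n))), x ≠ 1)
  refine Cfsg.Agent.Lib.KnownA.two_dvd_index_of_real P hP hx ?_ ?_
  · intro h
    have h2 : x ^ 2 = 1 := by rw [pow_two]; nth_rewrite 1 [← h]; simp
    obtain ⟨k, hk⟩ := (IsPGroup.iff_orderOf.mp P.2) ⟨x, hx⟩
    have hk2 : p ^ k ∣ 2 := by
      rw [← hk]; exact orderOf_dvd_of_pow_eq_one (Subtype.ext (by simpa using h2))
    rcases Nat.eq_zero_or_pos k with rfl | hkpos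
    · exact hx1 (by simpa [pow_zero, orderOf_eq_one_iff, Subtype.ext_iff] using hk)
    · have h3 : p ∣ 2 := dvd_trans (dvd_pow_self p hkpos.ne') hk2
      exact hp ((Nat.prime_dvd_prime_iff_eq Fact.out Nat.prime_two).mp h3)
  · exact Equiv.Perm.isConj_iff_cycleType_eq.mpr (Equiv.Perm.cycleType_inv x).symm

end Cfsg.Agent.S2270
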