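import Cfsg.Statements.S2272
import Cfsg.Agent.Lib.LinAux.Basic

set_option autoImplicit false
open Cfsg

namespace Cfsg.Agent.S2272

open Matrix

variable {F : Type*} [Field F] {d : ℕ}

/-- A non-central element has a conjugate whose `i`-th column is the `j`-th unit vector. -/
theorem exists_col (hd : 3 ≤ d) (A : Matrix.SpecialLinearGroup (Fin d) F)
    (hA : A ∉ Subgroup.center (Matrix.SpecialLinearGroup (Fin d) F)) (i j : Fin d) (hij : i ≠ j) :
    ∃ g : Matrix.SpecialLinearGroup (Fin d) F, ∀ r, (g⁻¹ * A * g).1 r i = if r = j then 1 else 0 := by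
  obtain ⟨v, hv⟩ : ∃ v, LinearIndependent F ![v, (Matrix.toLin' A.1) v] := by
    by_contra h
    push Not at h
    obtain ⟨r, hr⟩ := LinearMap.exists_eq_smul_id_of_forall_notLinearIndependent h
    refine hA (Matrix.SpecialLinearGroup.mem_center_iff.mpr ⟨r, ?_, ?_⟩)
    · have := congrArg LinearMap.det hr
      rw [LinearMap.det_toLin', LinearMap.det_smul, map_one, mul_one, Module.finrank_fin_fun] at this
      rw [Fintype.card_fin, ← this]
      exact A.2
    · apply Matrix.toLin'.injective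
      rw [hr]
      refine LinearMap.ext fun v => ?_
      simp [Matrix.toLin'_apply, Matrix.smul_mulVec, ← Matrix.smul_one_eq_diagonal]
  obtain ⟨hk, b, hb⟩ := Lib.LinAux.exists_basis_extending (n := d) (by simp) _ hv
  let i0 : Fin d := Fin.castLE hk 0
  let i1 : Fin d := Fin.castLE hk 1
  have h01 : i0 ≠ i1 := fun h => by simpa [i0, i1] using congrArg Fin.val h
  let s1 : Equiv.Perm (Fin d) := Equiv.swap i i0
  let σ : Equiv.Perm (Fin d) := s1.trans (Equiv.swap (s1 j) i1)
  have hi : σ i = i0 := by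
    have e : s1 i = i0 := Equiv.swap_apply_left _ _
    show Equiv.swap (s1 j) i1 (s1 i) = i0
    rw [e]
    exact Equiv.swap_apply_of_ne_of_ne (fun h => hij (s1.injective (e.trans h))) h01
  have hj : σ j = i1 := Equiv.swap_apply_left _ _
  obtain ⟨l, hl⟩ : ∃ l : Fin d, l ∉ ({i, j} : Finset (Fin d)) := by
    by_contra h
    push Not at h
    have h1 := Finset.card_le_card (fun l _ => h l : (Finset.univ : Finset (Fin d)) ⊆ {i, j})
    have := Finset.card_le_two (a := i) (b := j)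
    simp only [Finset.card_univ, Fintype.card_fin] at h1
    omega
  simp only [Finset.mem_insert, Finset.mem_singleton, not_or] at hl
  have hli : LinearIndependent F (fun k => b (σ k)) := b.linearIndependent.comp _ σ.injective
  let c : Fin d → Fin d → F := Function.update (fun k => b (σ k)) l
    (((1 : F) / (Lib.LinAux.colMatrix (fun k => b (σ k))).det) • b (σ l))
  let g : Matrix.SpecialLinearGroup (Fin d) F :=
    ⟨Lib.LinAux.colMatrix c, Lib.LinAux.det_colMatrix_update hli l 1⟩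
  have hgi : g.1.mulVec (Pi.single i 1) = v := by
    show (Lib.LinAux.colMatrix c).mulVec _ = _
    rw [Lib.LinAux.colMatrix_mulVec_single]
    simp only [c, Function.update_of_ne (Ne.symm hl.1), hi]
    exact hb 0
  have hgj : g.1.mulVec (Pi.single j 1) = A.1.mulVec v := by
    show (Lib.LinAux.colMatrix c).mulVec _ = _
    rw [Lib.LinAux.colMatrix_mulVec_single]
    simp only [c, Function.update_of_ne (Ne.symm hl.2), hj]
    exact (hb 1).trans (Matrix.toLin'_apply _ _)
  refine ⟨g, fun r => ?_⟩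
  have e : (g⁻¹ * A * g).1.mulVec (Pi.single i 1) = Pi.single j 1 := by
    show ((g⁻¹).1 * A.1 * g.1).mulVec _ = _
    rw [← Matrix.mulVec_mulVec, ← Matrix.mulVec_mulVec, hgi, ← hgj, Matrix.mulVec_mulVec,
      show (g⁻¹).1 * g.1 = 1 from congrArg Subtype.val (inv_mul_cancel g), Matrix.one_mulVec]
  simpa [Pi.single_apply] using congrFun e r

/-- Two classes of non-central elements have products of every trace. -/
theorem exists_trace (hd : 3 ≤ d) (A B : Matrix.SpecialLinearGroup (Fin d) F)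
    (hA : A ∉ Subgroup.center (Matrix.SpecialLinearGroup (Fin d) F))
    (hB : B ∉ Subgroup.center (Matrix.SpecialLinearGroup (Fin d) F)) (z : F) :
    ∃ g h : Matrix.SpecialLinearGroup (Fin d) F, (g * A * g⁻¹ * (h * B * h⁻¹)).1.trace = z := by
  let i0 : Fin d := ⟨0, by omega⟩
  let i1 : Fin d := ⟨1, by omega⟩
  let i2 : Fin d := ⟨2, by omega⟩
  have h01 : i0 ≠ i1 := by simp [i0, i1]
  have h02 : i0 ≠ i2 := by simp [i0, i2]
  have h12 : i1 ≠ i2 := by simp [i1, i2]
  obtain ⟨g₁, hg₁⟩ := exists_col hd A hA i0 i1 h01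
  obtain ⟨g₂, hg₂⟩ := exists_col hd B hB i0 i2 h02
  let T : Fin d → Fin d → F → Matrix.SpecialLinearGroup (Fin d) F := fun i j c =>
    if h : i = j then 1 else ⟨Matrix.transvection i j c, Matrix.det_transvection_of_ne i j h c⟩
  have hT : ∀ i j : Fin d, i ≠ j → ∀ c, (T i j c).1 = 1 + Matrix.single i j c ∧
      ((T i j c)⁻¹).1 = 1 + Matrix.single i j (-c) := by
    intro i j hij c
    have e : ∀ c, (T i j c).1 = 1 + Matrix.single i j c := fun c => by simp [T, hij, Matrix.transvection]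
    refine ⟨e c, ?_⟩
    have h : T i j c * T i j (-c) = 1 := by
      refine Subtype.ext ?_
      show (T i j c).1 * (T i j (-c)).1 = 1
      have := Matrix.transvection_mul_transvection_same (R := F) i j hij c (-c)
      simpa [T, hij, Matrix.transvection] using this
    rw [inv_eq_of_mul_eq_one_right h, e]
  set A₁ := g₁⁻¹ * A * g₁ with hA₁
  set B₁ := g₂⁻¹ * B * g₂ with hB₁
  set u : F := 1 + A₁.1 i1 i2 - B₁.1 i1 i1 with hu
  set A₂ := T i0 i2 u * A₁ * (T i0 i2 u)⁻¹ with hA₂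
  have eA : A₂.1 = (1 + Matrix.single i0 i2 u) * A₁.1 * (1 + Matrix.single i0 i2 (-u)) := by
    rw [← (hT i0 i2 h02 u).1, ← (hT i0 i2 h02 u).2]; rfl
  have hcol : ∀ r, A₂.1 r i0 = if r = i1 then 1 else 0 := by
    intro r
    rw [eA]
    by_cases hr : r = i0 <;>
      simp [hr, add_mul, mul_add, hg₁, h01, h02, h12, h01.symm, h02.symm, h12.symm]
  have h12' : A₂.1 i1 i2 = B₁.1 i1 i1 - 1 := by
    rw [eA]
    simp [add_mul, mul_add, hg₁, h01, h02, h12, h01.symm, h02.symm, h12.symm]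
    rw [hu]; ring
  set t : F := (A₂.1 * B₁.1).trace - z with ht
  refine ⟨T i0 i1 t * T i0 i2 u * g₁⁻¹, g₂⁻¹, ?_⟩
  rw [show T i0 i1 t * T i0 i2 u * g₁⁻¹ * A * (T i0 i1 t * T i0 i2 u * g₁⁻¹)⁻¹ * (g₂⁻¹ * B * g₂⁻¹⁻¹) =
    T i0 i1 t * A₂ * (T i0 i1 t)⁻¹ * B₁ by rw [hA₂, hA₁, hB₁]; group]
  show ((T i0 i1 t).1 * A₂.1 * ((T i0 i1 t)⁻¹).1 * B₁.1).trace = z
  rw [(hT i0 i1 h01 t).1, (hT i0 i1 h01 t).2]
  set E := Matrix.single i0 i1 t with hE
  set E' := Matrix.single i0 i1 (-t) with hE'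
  rw [show (1 + E) * A₂.1 * (1 + E') * B₁.1 =
    A₂.1 * B₁.1 + E * (A₂.1 * B₁.1) + A₂.1 * E' * B₁.1 + E * A₂.1 * E' * B₁.1 by noncomm_ring,
    Matrix.trace_add, Matrix.trace_add, Matrix.trace_add]
  have e1 : (E * (A₂.1 * B₁.1)).trace = t * A₂.1 i1 i2 := by
    rw [Matrix.trace_single_mul, Matrix.mul_apply]
    simp [hg₂]
  have e2 : (A₂.1 * E' * B₁.1).trace = -t * B₁.1 i1 i1 := by
    rw [Matrix.trace_mul_cycle, Matrix.trace_mul_comm, Matrix.trace_single_mul, Matrix.mul_apply]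
    simp [hcol]
  have e3 : (E * A₂.1 * E' * B₁.1).trace = 0 := by
    rw [mul_assoc (E * A₂.1), mul_assoc E, Matrix.trace_single_mul, Matrix.mul_apply]
    refine mul_eq_zero_of_right _ (Finset.sum_eq_zero fun x _ => ?_)
    rcases eq_or_ne x i0 with rfl | hx
    · simp [hE', hg₂, h12]
    · simp [hE', hx]
  rw [e1, e2, e3, h12', ht]
  ring

/-- Let F be a finite field and d ≥ 3, and let a, b be non-identity elements of PSL_d(F). Then the product of the conjugacy classes of a and b is not a single conjugacy class: there are conjugates a′ of a and b′ of b such that a′b′ is not conjugate to ab. -/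
theorem result {F : Type*} [Field F] [Fintype F] (d : ℕ) (hd : 3 ≤ d)
    (a b : Matrix.ProjectiveSpecialLinearGroup (Fin d) F) (ha : a ≠ 1) (hb : b ≠ 1) :
    ∃ g h : Matrix.ProjectiveSpecialLinearGroup (Fin d) F, ¬ IsConj (a * b) (g * a * g⁻¹ * (h * b * h⁻¹)) := by
  classical
  let Z := Subgroup.center (Matrix.SpecialLinearGroup (Fin d) F)
  obtain ⟨A, rfl⟩ := QuotientGroup.mk'_surjective Z a
  obtain ⟨B, rfl⟩ := QuotientGroup.mk'_surjective Z b
  have hA : A ∉ Z := fun h => ha ((QuotientGroup.eq_one_iff A).mpr h)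
  have hB : B ∉ Z := fun h => hb ((QuotientGroup.eq_one_iff B).mpr h)
  by_contra hall
  push Not at hall
  obtain ⟨g₀, h₀, e₀⟩ := exists_trace hd A B hA hB 0
  obtain ⟨g₁, h₁, e₁⟩ := exists_trace hd A B hA hB 1
  set X := g₀ * A * g₀⁻¹ * (h₀ * B * h₀⁻¹) with hX
  set Y := g₁ * A * g₁⁻¹ * (h₁ * B * h₁⁻¹) with hY
  have hXY : IsConj (QuotientGroup.mk' Z X) (QuotientGroup.mk' Z Y) := by
    have h1 := hall (QuotientGroup.mk' Z g₀) (QuotientGroup.mk' Z h₀)
    have h2 := hall (QuotientGroup.mk' Z g₁) (QuotientGroup.mk' Z h₁)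
    exact h1.symm.trans h2
  obtain ⟨c, hc⟩ := isConj_iff.mp hXY
  obtain ⟨C, rfl⟩ := QuotientGroup.mk'_surjective Z c
  rw [← map_inv, ← map_mul, ← map_mul] at hc
  obtain ⟨w, hw, hwe⟩ := (QuotientGroup.mk'_eq_mk' Z).mp hc
  obtain ⟨r, -, hr⟩ := Matrix.SpecialLinearGroup.mem_center_iff.mp hw
  have h := congrArg (fun M : Matrix.SpecialLinearGroup (Fin d) F => M.1.trace) hwe
  have hconj : (C * X * C⁻¹ * w).1.trace = r * X.1.trace := by
    show (C.1 * X.1 * (C⁻¹).1 * w.1).trace = _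
    rw [← show Matrix.scalar (Fin d) r = w.1 from hr, Matrix.scalar_apply, ← Matrix.smul_one_eq_diagonal,
      Matrix.mul_smul, Matrix.mul_one, Matrix.trace_smul, smul_eq_mul, Matrix.trace_mul_cycle,
      show (C⁻¹).1 * C.1 = 1 from congrArg Subtype.val (inv_mul_cancel C), one_mul]
  have := hconj.symm.trans h
  rw [e₀, e₁, mul_zero] at this
  exact zero_ne_one this

end Cfsg.Agent.S2272
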