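import Cfsg.Statements.S2276
import Cfsg.Agent.Lib.KnownA.FreePairMain

set_option autoImplicit false
open Cfsg

namespace Cfsg.Agent.S2276

/-- Let n ≥ 5, p ≥ 3 a prime, and u, w non-identity elements of p-power order in the alternating group A_n. Then there is g ∈ A_n such that u·(g w g⁻¹) does not have p-power order and ⟨u, g w g⁻¹⟩ is not solvable. -/
theorem result (n : ℕ) (hn : 5 ≤ n) (p : ℕ) (hp : p.Prime) (hp3 : 3 ≤ p) (u w : alternatingGroup (Fin n)) (hu : u ≠ 1) (hw : w ≠ 1)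
    (hu' : ∃ k : ℕ, orderOf u = p ^ k) (hw' : ∃ k : ℕ, orderOf w = p ^ k) :
    ∃ g : alternatingGroup (Fin n), (¬ ∃ k : ℕ, orderOf (u * (g * w * g⁻¹)) = p ^ k) ∧
      ¬ Group.IsSolvable ↥(Subgroup.closure ({u, g * w * g⁻¹} : Set (alternatingGroup (Fin n)))) := by
  classical
  obtain ⟨g, hg, h1, h2⟩ := KnownA.FreePair.main hp hp3 (by simpa using hn)
    (u : Equiv.Perm (Fin n)) (w : Equiv.Perm (Fin n))
    (by simpa [Subgroup.orderOf_coe] using hu') (by simpa [Subgroup.orderOf_coe] using hw')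
    (fun h => hu (Subtype.ext h)) (fun h => hw (Subtype.ext h))
  refine ⟨⟨g, Equiv.Perm.mem_alternatingGroup.mpr hg⟩, ?_, ?_⟩
  · rintro ⟨k, hk⟩
    exact h1 ⟨k, by rw [← Subgroup.orderOf_coe] at hk; exact hk⟩
  · intro hs
    apply h2
    have e := (MonoidHom.map_closure (alternatingGroup (Fin n)).subtype
      ({u, ⟨g, Equiv.Perm.mem_alternatingGroup.mpr hg⟩ * w *
        ⟨g, Equiv.Perm.mem_alternatingGroup.mpr hg⟩⁻¹} : Set (alternatingGroup (Fin n))))
    rw [Set.image_pair] at e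
    simp only [Subgroup.coe_subtype, Subgroup.coe_mul, Subgroup.coe_inv] at e
    rw [← e]
    have := hs
    exact Group.isSolvable_of_isSolvable_injective (f := (Subgroup.equivMapOfInjective _ _
      (alternatingGroup (Fin n)).subtype_injective).symm.toMonoidHom) (MulEquiv.injective _)

end Cfsg.Agent.S2276
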