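import Cfsg.Statements.S2277
import Cfsg.Agent.Lib.KnownA.SplitTransfer

set_option autoImplicit false
open Cfsg

namespace Cfsg.Agent.S2277

/-- Let p ≥ 3 be prime and G a finite group with a Sylow p-subgroup P and a normal p-complement N (N normal, of order prime to p, with NP = G). Suppose P is generated by a subset C and also by a subset D, and that ⟨x c x⁻¹, d⟩ is a p-group for all x ∈ N, c ∈ C, d ∈ D. Then P centralizes N, so that G = N × P. -/
theorem result {G : Type*} [Group G] [Finite G] (p : ℕ) [Fact p.Prime] (hp3 : 3 ≤ p) (P : Sylow p G)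
    (N : Subgroup G) [N.Normal] (hN : (Nat.card N).Coprime p) (hNP : N ⊔ (P : Subgroup G) = ⊤)
    (C D : Set G) (hC : Subgroup.closure C = (P : Subgroup G)) (hD : Subgroup.closure D = (P : Subgroup G))
    (h : ∀ x ∈ N, ∀ c ∈ C, ∀ d ∈ D, IsPGroup p ↥(Subgroup.closure ({x * c * x⁻¹, d} : Set G))) :
    ⁅(P : Subgroup G), N⁆ = ⊥ := by
  classical
  have hp2 : p ≠ 2 := by omega
  have hPN : (P : Subgroup G) ≤ Subgroup.normalizer (N : Set G) := by
    rw [Subgroup.normalizer_eq_top]; exact le_top
  have hcop : (Nat.card P).Coprime (Nat.card N) := by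
    obtain ⟨k, hk⟩ := IsPGroup.iff_card.mp P.2
    rw [hk]; exact (hN.pow_right k).symm
  have hsolv : Group.IsSolvable P ∨ Group.IsSolvable N := Or.inl (by haveI := P.2.isNilpotent; infer_instance)
  suffices hle : N ≤ Subgroup.centralizer ((P : Subgroup G) : Set G) by
    rw [eq_bot_iff, Subgroup.commutator_le]
    intro a ha x hx
    have := Subgroup.mem_centralizer_iff.mp (hle hx) a ha
    exact Subgroup.mem_bot.mpr (commutatorElement_eq_one_iff_mul_comm.mpr this)
  let K : Subgroup N := (Subgroup.centralizer ((P : Subgroup G) : Set G)).subgroupOf N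
  suffices hK : K = ⊤ from Subgroup.subgroupOf_eq_top.mp hK
  refine Subgroup.eq_top_of_card_eq _ (Nat.dvd_antisymm (Subgroup.card_subgroup_dvd_card _) ?_)
  refine (Nat.dvd_iff_prime_pow_dvd_dvd _ _).mpr fun q k hq hdvd => ?_
  haveI : Fact q.Prime := ⟨hq⟩
  obtain ⟨Q, hQ⟩ := Lib.Coprime.exists_invariant_sylow hPN hcop hsolv q
  have hsub : (Q : Subgroup N) ≤ K := by
    intro x hx
    refine Subgroup.mem_centralizer_iff.mpr fun a ha => ?_
    exact Lib.KnownA.SplitTransfer.centralizes_invariant hp2 P.2 C D hC hD _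
      (Q.2.map N.subtype)
      (hN.coprime_dvd_left (Subgroup.card_dvd_of_le (Subgroup.map_subtype_le _))) hQ
      (fun y hy => h y (Subgroup.map_subtype_le _ hy)) a ha x.1 ⟨x, hx, rfl⟩
  exact (Q.pow_dvd_card_of_pow_dvd_card hdvd).trans (Subgroup.card_dvd_of_le hsub)

end Cfsg.Agent.S2277
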