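import Cfsg.Statements.S2281
import Cfsg.Agent.Lib.MaxSub.SpThreeGen

set_option autoImplicit false
open Cfsg

namespace Cfsg.Agent.S2281

/-- Let F be a finite field and n ≥ 2, excluding the case n = 2 with F of two elements (where the group is not quasisimple). Then the symplectic group Sp_2n(F) is generated by three conjugate regular unipotent elements: there are u ∈ Sp_2n(F) with u − 1 nilpotent and (u − 1)^(2n−1) ≠ 0, and g, h ∈ Sp_2n(F), such that u, g u g⁻¹ and h u h⁻¹ generate Sp_2n(F). -/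
theorem result {F : Type*} [Field F] [Fintype F] (n : ℕ) (hn : 2 ≤ n) (h22 : ¬ (n = 2 ∧ Fintype.card F = 2)) :
    ∃ u g h : Matrix.symplecticGroup (Fin n) F,
      IsNilpotent ((u : Matrix (Fin n ⊕ Fin n) (Fin n ⊕ Fin n) F) - 1) ∧
      ((u : Matrix (Fin n ⊕ Fin n) (Fin n ⊕ Fin n) F) - 1) ^ (2 * n - 1) ≠ 0 ∧
      Subgroup.closure ({u, g * u * g⁻¹, h * u * h⁻¹} : Set (Matrix.symplecticGroup (Fin n) F)) = ⊤ := by
  classical
  have hn0 : 0 < n := by omega
  open Cfsg.Agent.Lib.MaxSub Cfsg.Agent.Lib.MaxSub.SpThreeGen in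
  obtain ⟨g, h, hg, hh, hall⟩ := centres_of_three (F := F) hn0 (by omega)
    (fun hc => h22 ⟨hc.1, by rw [← Nat.card_eq_fintype_card]; exact hc.2⟩)
  open Cfsg.Agent.Lib.MaxSub Cfsg.Agent.Lib.MaxSub.SpThreeGen in
  have hmem : ∀ {x : GL (Fin n ⊕ Fin n) F}, (stdAlt n F).Preserves x →
      (x : Matrix (Fin n ⊕ Fin n) (Fin n ⊕ Fin n) F) ∈ Matrix.symplecticGroup (Fin n) F := fun {x} hx =>
    Cfsg.Agent.Lib.Geometry.mem_symplecticGroup_iff_form.mpr fun a b => by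
      rw [← stdAlt_apply, ← stdAlt_apply]; exact hx a b
  let ψ : Matrix.symplecticGroup (Fin n) F →* GL (Fin n ⊕ Fin n) F :=
    MonoidHom.toHomUnits (Submonoid.subtype _)
  have hψ : Function.Injective ψ := fun x y e => Subtype.ext (congrArg Units.val e)
  set uG : Matrix.symplecticGroup (Fin n) F :=
    ⟨_, hmem (Lib.MaxSub.SpThreeGen.regU_preserves (F := F) hn0)⟩ with huG
  set gG : Matrix.symplecticGroup (Fin n) F := ⟨_, hmem hg⟩ with hgG
  set hG : Matrix.symplecticGroup (Fin n) F := ⟨_, hmem hh⟩ with hhG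
  have hu1 : ψ uG = Lib.MaxSub.SpThreeGen.regU hn0 := Units.ext rfl
  have hg1 : ψ gG = g := Units.ext rfl
  have hh1 : ψ hG = h := Units.ext rfl
  refine ⟨uG, gG, hG⁻¹, ⟨2 * n, ?_⟩, ?_, ?_⟩
  · refine Matrix.toLinAlgEquiv'.injective ?_
    rw [map_pow, map_sub, map_one, map_zero]
    exact Lib.MaxSub.SpThreeGen.nilP_nilpotent hn0
  · intro h0
    have h1 := congrArg Matrix.toLinAlgEquiv' h0
    rw [map_pow, map_sub, map_one, map_zero] at h1
    have h2 := Lib.MaxSub.SpThreeGen.nilP_top_pow (F := F) hn0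
    rw [show (Lib.MaxSub.SpThreeGen.nilP hn0 : Module.End F (Fin n ⊕ Fin n → F)) ^ (2 * n - 1) = 0 from h1,
      LinearMap.zero_apply] at h2
    exact Lib.MaxSub.SpThreeGen.ev_zero_ne (F := F) hn0
      ((smul_eq_zero.mp h2.symm).resolve_left (pow_ne_zero _ (neg_ne_zero.mpr one_ne_zero)))
  · rw [eq_top_iff]
    intro x _
    have hx : Lib.MaxSub.AltForm.Preserves (Lib.MaxSub.stdAlt n F) (ψ x) := fun a b => by
      rw [Lib.MaxSub.stdAlt_apply, Lib.MaxSub.stdAlt_apply]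
      exact Cfsg.Agent.Lib.Geometry.mem_symplecticGroup_iff_form.mp x.2 a b
    have h1 := Lib.MaxSub.spGL_le hall (Lib.MaxSub.mem_spGL_iff.mpr hx)
    rw [show ({Lib.MaxSub.SpThreeGen.regU hn0, g * Lib.MaxSub.SpThreeGen.regU hn0 * g⁻¹,
        h⁻¹ * Lib.MaxSub.SpThreeGen.regU hn0 * h} : Set (GL (Fin n ⊕ Fin n) F))
        = ψ '' {uG, gG * uG * gG⁻¹, hG⁻¹ * uG * hG⁻¹⁻¹} by
      simp only [Set.image_insert_eq, Set.image_singleton, map_mul, map_inv, hu1, hg1, hh1, inv_inv],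
      ← MonoidHom.map_closure] at h1
    obtain ⟨y, hy, hyx⟩ := h1
    exact hψ hyx ▸ hy

end Cfsg.Agent.S2281
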