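import Cfsg.Statements.S2298
import Cfsg.Agent.Lib.KnownA.GL2Values
open Cfsg.Agent.Lib.KnownA
open Cfsg.Agent.Lib.Characters

set_option autoImplicit false
open Cfsg

namespace Cfsg.Agent.S2298

/-- Over a finite field F with q elements, every irreducible complex character of GL₂ has degree 1, q − 1, q or q + 1; and when q ≥ 3 (so that these four numbers are distinct) there are exactly q − 1 irreducible characters of degree 1, exactly q − 1 of degree q, exactly (q − 1)(q − 2)/2 of degree q + 1 and exactly q(q − 1)/2 of degree q − 1. -/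
theorem result {F : Type*} [Field F] [Fintype F] :
    (∀ χ : Matrix.GeneralLinearGroup (Fin 2) F → ℂ, Cfsg.IsIrrCharacter (Matrix.GeneralLinearGroup (Fin 2) F) χ →
      χ 1 = 1 ∨ χ 1 = (Fintype.card F : ℂ) - 1 ∨ χ 1 = (Fintype.card F : ℂ) ∨ χ 1 = (Fintype.card F : ℂ) + 1) ∧
    (3 ≤ Fintype.card F →
      Nat.card {χ : Cfsg.IrrCharacter (Matrix.GeneralLinearGroup (Fin 2) F) // (χ : Matrix.GeneralLinearGroup (Fin 2) F → ℂ) 1 = 1} = Fintype.card F - 1 ∧
      Nat.card {χ : Cfsg.IrrCharacter (Matrix.GeneralLinearGroup (Fin 2) F) // (χ : Matrix.GeneralLinearGroup (Fin 2) F → ℂ) 1 = (Fintype.card F : ℂ)} = Fintype.card F - 1 ∧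
      Nat.card {χ : Cfsg.IrrCharacter (Matrix.GeneralLinearGroup (Fin 2) F) // (χ : Matrix.GeneralLinearGroup (Fin 2) F → ℂ) 1 = (Fintype.card F : ℂ) + 1} = (Fintype.card F - 1) * (Fintype.card F - 2) / 2 ∧
      Nat.card {χ : Cfsg.IrrCharacter (Matrix.GeneralLinearGroup (Fin 2) F) // (χ : Matrix.GeneralLinearGroup (Fin 2) F → ℂ) 1 = (Fintype.card F : ℂ) - 1} = Fintype.card F * (Fintype.card F - 1) / 2) := by
  classical
  refine ⟨fun χ hχ => ?_, fun hq3 => ?_⟩
  · rcases kinds_GL2 hχ with ⟨-, e⟩ | ⟨-, e⟩ | ⟨-, e⟩ | ⟨-, e⟩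
    · exact Or.inr (Or.inl e)
    · exact Or.inl e
    · exact Or.inr (Or.inr (Or.inl e))
    · exact Or.inr (Or.inr (Or.inr e))
  have hq2 : ((Fintype.card F : ℕ) : ℂ) ≠ ((2 : ℕ) : ℂ) := by
    intro h; have : Fintype.card F = 2 := by exact_mod_cast h
    omega
  push_cast at hq2
  have hq0 : ((Fintype.card F : ℕ) : ℂ) ≠ 0 := card_F_ne_zero
  have hq1 : ((Fintype.card F : ℕ) : ℂ) ≠ 1 := by
    intro h; have : Fintype.card F = 1 := by exact_mod_cast h
    omega
  have hinj := glList_injective (F := F)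
  refine ⟨?_, ?_, ?_, ?_⟩
  · rw [← card_mulChar (F := F), ← Nat.card_eq_fintype_card (α := MulChar F ℂ)]
    refine (Nat.card_congr (Equiv.ofBijective (fun α => (⟨glList (Sum.inl α), detChar_one α⟩ :
      {χ : Cfsg.IrrCharacter (Matrix.GeneralLinearGroup (Fin 2) F) // (χ : Matrix.GeneralLinearGroup (Fin 2) F → ℂ) 1 = 1})) ⟨fun a b h => ?_, fun χ => ?_⟩)).symm
    · exact Sum.inl_injective (hinj (congrArg Subtype.val h))
    · rcases kinds_GL2 χ.1.2 with ⟨-, e⟩ | ⟨⟨α, e'⟩, -⟩ | ⟨-, e⟩ | ⟨-, e⟩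
      · rw [χ.2] at e; exact absurd (by linear_combination -e) hq2
      · exact ⟨α, Subtype.ext (Subtype.ext e'.symm)⟩
      · rw [χ.2] at e; exact absurd e.symm hq1
      · rw [χ.2] at e; exact absurd (by linear_combination -e) hq0
  · rw [← card_mulChar (F := F), ← Nat.card_eq_fintype_card (α := MulChar F ℂ)]
    refine (Nat.card_congr (Equiv.ofBijective (fun α => (⟨glList (Sum.inr (Sum.inl α)), stein_one α⟩ :
      {χ : Cfsg.IrrCharacter (Matrix.GeneralLinearGroup (Fin 2) F) // (χ : Matrix.GeneralLinearGroup (Fin 2) F → ℂ) 1 = (Fintype.card F : ℂ)})) ⟨fun a b h => ?_, fun χ => ?_⟩)).symm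
    · exact Sum.inl_injective (Sum.inr_injective (hinj (congrArg Subtype.val h)))
    · rcases kinds_GL2 χ.1.2 with ⟨-, e⟩ | ⟨-, e⟩ | ⟨⟨α, e'⟩, -⟩ | ⟨-, e⟩
      · rw [χ.2] at e; exact absurd (show (1 : ℂ) = 0 by linear_combination e) one_ne_zero
      · rw [χ.2] at e; exact absurd e hq1
      · exact ⟨α, Subtype.ext (Subtype.ext e'.symm)⟩
      · rw [χ.2] at e; exact absurd (show (1 : ℂ) = 0 by linear_combination -e) one_ne_zero
  · rw [← card_offDiag_mulChar (F := F)]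
    refine (Nat.card_congr (Equiv.ofBijective (fun s => (⟨glList (Sum.inr (Sum.inr s)), glList_one (Sum.inr (Sum.inr s))⟩ :
      {χ : Cfsg.IrrCharacter (Matrix.GeneralLinearGroup (Fin 2) F) // (χ : Matrix.GeneralLinearGroup (Fin 2) F → ℂ) 1 = (Fintype.card F : ℂ) + 1})) ⟨fun a b h => ?_, fun χ => ?_⟩)).symm
    · exact Sum.inr_injective (Sum.inr_injective (hinj (congrArg Subtype.val h)))
    · rcases kinds_GL2 χ.1.2 with ⟨-, e⟩ | ⟨-, e⟩ | ⟨-, e⟩ | ⟨⟨α, β, hab, e'⟩, -⟩
      · rw [χ.2] at e; exact absurd (by linear_combination e) (two_ne_zero (α := ℂ))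
      · rw [χ.2] at e; exact absurd (by linear_combination e) hq0
      · rw [χ.2] at e; exact absurd (show (1 : ℂ) = 0 by linear_combination e) one_ne_zero
      · exact ⟨⟨s(α, β), by simpa using hab⟩, Subtype.ext (Subtype.ext e'.symm)⟩
  · rw [← card_cusp_GL2 (F := F)]
    refine Nat.card_congr (Equiv.subtypeEquivRight fun χ => ⟨fun h => ?_, fun h => ?_⟩)
    · rcases kinds_GL2 χ.2 with ⟨hc, -⟩ | ⟨-, e⟩ | ⟨-, e⟩ | ⟨-, e⟩
      · exact hc
      · rw [h] at e; exact absurd (by linear_combination e) hq2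
      · rw [h] at e; exact absurd (show (1 : ℂ) = 0 by linear_combination -e) one_ne_zero
      · rw [h] at e; exact absurd (by linear_combination -e) (two_ne_zero (α := ℂ))
    · rw [cusp_degree χ.2 h, Nat.cast_sub (by omega), Nat.cast_one]

end Cfsg.Agent.S2298
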