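import Cfsg.Statements.S2299
import Cfsg.Agent.Lib.KnownA.SL2Values
open Cfsg.Agent.Lib.KnownA Cfsg.Agent.Lib.Characters

set_option autoImplicit false
open Cfsg

namespace Cfsg.Agent.S2299

/-- Over a finite field F with q elements, q odd, every irreducible complex character of SL₂ has degree 1, q, q + 1, q − 1, (q + 1)/2 or (q − 1)/2; and when q ≥ 5 (so that these six numbers are distinct) there are exactly one irreducible character of degree 1, one of degree q, (q − 3)/2 of degree q + 1, (q − 1)/2 of degree q − 1, two of degree (q + 1)/2 and two of degree (q − 1)/2. -/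
theorem result {F : Type*} [Field F] [Fintype F] (hodd : Odd (Fintype.card F)) :
    (∀ χ : Matrix.SpecialLinearGroup (Fin 2) F → ℂ, Cfsg.IsIrrCharacter (Matrix.SpecialLinearGroup (Fin 2) F) χ →
      χ 1 = 1 ∨ χ 1 = (Fintype.card F : ℂ) ∨ χ 1 = (Fintype.card F : ℂ) + 1 ∨ χ 1 = (Fintype.card F : ℂ) - 1 ∨
        χ 1 = (((Fintype.card F + 1) / 2 : ℕ) : ℂ) ∨ χ 1 = (((Fintype.card F - 1) / 2 : ℕ) : ℂ)) ∧
    (5 ≤ Fintype.card F →
      Nat.card {χ : Cfsg.IrrCharacter (Matrix.SpecialLinearGroup (Fin 2) F) // (χ : Matrix.SpecialLinearGroup (Fin 2) F → ℂ) 1 = 1} = 1 ∧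
      Nat.card {χ : Cfsg.IrrCharacter (Matrix.SpecialLinearGroup (Fin 2) F) // (χ : Matrix.SpecialLinearGroup (Fin 2) F → ℂ) 1 = (Fintype.card F : ℂ)} = 1 ∧
      Nat.card {χ : Cfsg.IrrCharacter (Matrix.SpecialLinearGroup (Fin 2) F) // (χ : Matrix.SpecialLinearGroup (Fin 2) F → ℂ) 1 = (Fintype.card F : ℂ) + 1} = (Fintype.card F - 3) / 2 ∧
      Nat.card {χ : Cfsg.IrrCharacter (Matrix.SpecialLinearGroup (Fin 2) F) // (χ : Matrix.SpecialLinearGroup (Fin 2) F → ℂ) 1 = (Fintype.card F : ℂ) - 1} = (Fintype.card F - 1) / 2 ∧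
      Nat.card {χ : Cfsg.IrrCharacter (Matrix.SpecialLinearGroup (Fin 2) F) // (χ : Matrix.SpecialLinearGroup (Fin 2) F → ℂ) 1 = (((Fintype.card F + 1) / 2 : ℕ) : ℂ)} = 2 ∧
      Nat.card {χ : Cfsg.IrrCharacter (Matrix.SpecialLinearGroup (Fin 2) F) // (χ : Matrix.SpecialLinearGroup (Fin 2) F → ℂ) 1 = (((Fintype.card F - 1) / 2 : ℕ) : ℂ)} = 2) := by
  classical
  have hmod := Nat.odd_iff.mp hodd
  have hcard := Fintype.one_lt_card (α := F)
  refine ⟨fun χ hχ => ?_, fun h5 => ?_⟩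
  · rcases kinds_all hχ with ⟨-, ⟨-, e⟩ | ⟨-, e⟩ | ⟨-, e⟩ | ⟨-, e⟩⟩ | ⟨-, ⟨-, e⟩ | e⟩
    · exact Or.inl (by rw [e, Nat.cast_one])
    · exact Or.inr (Or.inl e)
    · exact Or.inr (Or.inr (Or.inl (by rw [e]; push_cast; rfl)))
    · exact Or.inr (Or.inr (Or.inr (Or.inr (Or.inl e))))
    · exact Or.inr (Or.inr (Or.inr (Or.inr (Or.inr e))))
    · exact Or.inr (Or.inr (Or.inr (Or.inl (by rw [e, Nat.cast_sub hcard.le, Nat.cast_one]))))
  · obtain ⟨c1, cq, cp, ch, cm, cm2⟩ := counts_odd hodd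
    have key : ∀ (c : ℂ) (n : ℕ), c = (n : ℂ) →
        (∀ χ : Cfsg.IrrCharacter (Matrix.SpecialLinearGroup (Fin 2) F), χ.1 1 = c →
          ((Fintype.card F + 1 = n ∨ (Fintype.card F + 1) / 2 = n ∨ Fintype.card F = n ∨ 1 = n) → ¬ CuspSL χ.1) ∧
          ((Fintype.card F - 1 = n ∨ (Fintype.card F - 1) / 2 = n) → CuspSL χ.1)) := by
      intro c n hc χ hχ
      rw [hc] at hχ
      rcases kinds_all χ.2 with ⟨h, hk⟩ | ⟨h, hk⟩
      · refine ⟨fun _ => h, fun hn => ?_⟩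
        exfalso
        rcases hk with ⟨-, e⟩ | ⟨-, e⟩ | ⟨-, e⟩ | ⟨-, e⟩ <;> rw [hχ, Nat.cast_inj] at e <;> omega
      · refine ⟨fun hn => ?_, fun _ => h⟩
        exfalso
        rcases hk with ⟨-, e⟩ | e <;> rw [hχ, Nat.cast_inj] at e <;> omega
    refine ⟨?_, ?_, ?_, ?_, ?_, ?_⟩
    · refine Eq.trans ?_ c1; exact Nat.card_congr (Equiv.subtypeEquivRight fun χ =>
        ⟨fun h => ⟨(key _ 1 Nat.cast_one.symm χ h).1 (Or.inr (Or.inr (Or.inr rfl))), h⟩, fun h => h.2⟩)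
    · refine Eq.trans ?_ cq; exact Nat.card_congr (Equiv.subtypeEquivRight fun χ =>
        ⟨fun h => ⟨(key _ _ rfl χ h).1 (Or.inr (Or.inr (Or.inl rfl))), h⟩, fun h => h.2⟩)
    · refine Eq.trans ?_ cp; exact Nat.card_congr (Equiv.subtypeEquivRight fun χ =>
        ⟨fun h => ⟨(key _ _ (by push_cast; rfl) χ h).1 (Or.inl rfl), h⟩, fun h => h.2⟩)
    · refine Eq.trans ?_ cm; exact Nat.card_congr (Equiv.subtypeEquivRight fun χ =>
        ⟨fun h => ⟨(key _ (Fintype.card F - 1) (by rw [Nat.cast_sub hcard.le, Nat.cast_one]) χ h).2 (Or.inl rfl), h⟩, fun h => h.2⟩)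
    · refine Eq.trans ?_ ch; exact Nat.card_congr (Equiv.subtypeEquivRight fun χ =>
        ⟨fun h => ⟨(key _ _ rfl χ h).1 (Or.inr (Or.inl rfl)), h⟩, fun h => h.2⟩)
    · refine Eq.trans ?_ cm2; exact Nat.card_congr (Equiv.subtypeEquivRight fun χ =>
        ⟨fun h => ⟨(key _ _ rfl χ h).2 (Or.inr rfl), h⟩, fun h => h.2⟩)

end Cfsg.Agent.S2299
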