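import Cfsg.Statements.S2301
import Cfsg.Agent.Lib.KnownA.GL2Classes
open Cfsg.Agent.Lib.KnownA

set_option autoImplicit false
open Cfsg

namespace Cfsg.Agent.S2301

/-- Over a finite field with q elements of odd characteristic p, the elements of order p of SL₂ (the non-identity unipotent elements) fall into exactly two conjugacy classes, each of size (q² − 1)/2; two upper unitriangular matrices with non-zero off-diagonal entries b and b′ are conjugate exactly when bb′ is a square. -/
theorem result {F : Type*} [Field F] [Fintype F] (p : ℕ) [Fact p.Prime] [CharP F p] (hp : p ≠ 2) :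
    Nat.card {C : ConjClasses (Matrix.SpecialLinearGroup (Fin 2) F) // ∃ g : Matrix.SpecialLinearGroup (Fin 2) F, orderOf g = p ∧ ConjClasses.mk g = C} = 2 ∧
    (∀ g : Matrix.SpecialLinearGroup (Fin 2) F, orderOf g = p → Nat.card (ConjClasses.mk g).carrier = (Fintype.card F ^ 2 - 1) / 2) ∧
    ∀ g h : Matrix.SpecialLinearGroup (Fin 2) F, (g : Matrix (Fin 2) (Fin 2) F) 0 0 = 1 → (g : Matrix (Fin 2) (Fin 2) F) 1 1 = 1 → (g : Matrix (Fin 2) (Fin 2) F) 1 0 = 0 → (g : Matrix (Fin 2) (Fin 2) F) 0 1 ≠ 0 →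
      (h : Matrix (Fin 2) (Fin 2) F) 0 0 = 1 → (h : Matrix (Fin 2) (Fin 2) F) 1 1 = 1 → (h : Matrix (Fin 2) (Fin 2) F) 1 0 = 0 → (h : Matrix (Fin 2) (Fin 2) F) 0 1 ≠ 0 →
      (IsConj g h ↔ IsSquare ((g : Matrix (Fin 2) (Fin 2) F) 0 1 * (h : Matrix (Fin 2) (Fin 2) F) 0 1)) := by
  classical
  have h2 : (2 : F) ≠ 0 := fun h => hp (by
    have := (CharP.cast_eq_zero_iff F p 2).mp (by simpa using h)
    exact (Nat.prime_dvd_prime_iff_eq Fact.out Nat.prime_two).mp this)
  have hrc : ringChar F ≠ 2 := by rw [ringChar.eq F p]; exact hp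
  refine ⟨?_, ?_, fun g h g00 g11 g10 g01 h00 h11 h10 h01 => isConj_upper_iff g00 g11 g10 g01 h00 h11 h10 h01⟩
  · obtain ⟨ν, hν⟩ := FiniteField.exists_nonsquare hrc
    have hν0 : ν ≠ 0 := fun h => hν (h ▸ IsSquare.zero)
    rw [Nat.card_eq_fintype_card, Fintype.card_subtype]
    have hset : (Finset.univ.filter fun C : ConjClasses (Matrix.SpecialLinearGroup (Fin 2) F) =>
        ∃ g, orderOf g = p ∧ ConjClasses.mk g = C) = {ConjClasses.mk (uni 1), ConjClasses.mk (uni ν)} := by
      ext C
      simp only [Finset.mem_filter, Finset.mem_univ, true_and, Finset.mem_insert, Finset.mem_singleton]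
      constructor
      · rintro ⟨g, hg, rfl⟩
        obtain ⟨tg, sg⟩ := unipotent_data_SL p hg
        obtain ⟨b, hb, cb⟩ := isConj_SL2_of_trace_two tg sg
        simp only [ConjClasses.mk_eq_mk_iff_isConj]
        by_cases hbs : IsSquare b
        · exact Or.inl (cb.trans ((isConj_uni hb one_ne_zero).mpr (by rwa [mul_one])))
        · exact Or.inr (cb.trans ((isConj_uni hb hν0).mpr (isSquare_mul_or hrc hbs hν)))
      · rintro (rfl | rfl)
        · exact ⟨_, orderOf_uni p one_ne_zero, rfl⟩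
        · exact ⟨_, orderOf_uni p hν0, rfl⟩
    rw [hset, Finset.card_pair]
    intro h
    exact hν (by simpa using (isConj_uni one_ne_zero hν0).mp (ConjClasses.mk_eq_mk_iff_isConj.mp h))
  · intro g hg
    obtain ⟨tg, sg⟩ := unipotent_data_SL p hg
    have h := card_class_mul g
    rw [card_centralizer_trace_two tg sg, card_sqrt_one_odd h2, card_SL2, ← mul_assoc, mul_comm] at h
    have h3 := Nat.eq_of_mul_eq_mul_left Fintype.card_pos h
    omega

end Cfsg.Agent.S2301
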