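import Cfsg.Statements.S2302
import Cfsg.Agent.Lib.KnownA.GL2Classes
open Cfsg.Agent.Lib.KnownA

set_option autoImplicit false
open Cfsg

namespace Cfsg.Agent.S2302

/-- Over a finite field with q elements of characteristic 2, the involutions of SL₂ (the non-identity unipotent elements) form a single conjugacy class, of size q² − 1. -/
theorem result {F : Type*} [Field F] [Fintype F] [CharP F 2] (g h : Matrix.SpecialLinearGroup (Fin 2) F) (hg : orderOf g = 2) (hh : orderOf h = 2) :
    IsConj g h ∧ Nat.card (ConjClasses.mk g).carrier = Fintype.card F ^ 2 - 1 := by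
  haveI := Fact.mk Nat.prime_two
  obtain ⟨tg, sg⟩ := unipotent_data_SL 2 hg
  obtain ⟨th, sh⟩ := unipotent_data_SL 2 hh
  refine ⟨?_, ?_⟩
  · obtain ⟨b, hb, cb⟩ := isConj_SL2_of_trace_two tg sg
    obtain ⟨c, hc, cc⟩ := isConj_SL2_of_trace_two th sh
    refine cb.trans (IsConj.trans ((isConj_uni hb hc).mpr ?_) cc.symm)
    exact FiniteField.isSquare_of_char_two (ringChar.eq F 2) _
  · have h := card_class_mul g
    rw [card_centralizer_trace_two tg sg, card_sqrt_one_two, one_mul, card_SL2, mul_comm] at h
    exact Nat.eq_of_mul_eq_mul_left Fintype.card_pos h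

end Cfsg.Agent.S2302
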