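import Cfsg.Statements.S2307
import Cfsg.Agent.Lib.KnownA.SL2Values
open Cfsg.Agent.Lib.KnownA Cfsg.Agent.Lib.Characters

set_option autoImplicit false
open Cfsg

namespace Cfsg.Agent.S2307

/-- Over a finite field F with q elements, q odd, let α be the multiplicative character of F of order 2. The character of SL₂ induced from the linear character b ↦ α(b₁₁) of the upper triangular subgroup is the sum of two distinct irreducible characters, each of degree (q + 1)/2, which are conjugate under GL₂: some fixed element of GL₂ conjugates the one into the other. -/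
theorem result {F : Type*} [Field F] [Fintype F] [DecidableEq F] (hodd : Odd (Fintype.card F)) (α : MulChar F ℂ)
    (hα : α ^ 2 = 1) (hα1 : α ≠ 1) :
    ∃ χ₁ χ₂ : Matrix.SpecialLinearGroup (Fin 2) F → ℂ, Cfsg.IsIrrCharacter (Matrix.SpecialLinearGroup (Fin 2) F) χ₁ ∧ Cfsg.IsIrrCharacter (Matrix.SpecialLinearGroup (Fin 2) F) χ₂ ∧ χ₁ ≠ χ₂ ∧
      Cfsg.indFun ((Cfsg.upperTriangularGL 2 F).comap Matrix.SpecialLinearGroup.toGL) (fun b => α (((b : Matrix.SpecialLinearGroup (Fin 2) F) : Matrix (Fin 2) (Fin 2) F) 0 0)) = χ₁ + χ₂ ∧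
      χ₁ 1 = (((Fintype.card F + 1) / 2 : ℕ) : ℂ) ∧ χ₂ 1 = (((Fintype.card F + 1) / 2 : ℕ) : ℂ) ∧
      ∃ x : Matrix.GeneralLinearGroup (Fin 2) F, ∀ g h : Matrix.SpecialLinearGroup (Fin 2) F,
        Matrix.SpecialLinearGroup.toGL h = x * Matrix.SpecialLinearGroup.toGL g * x⁻¹ → χ₂ h = χ₁ g := by
  obtain ⟨ν₀, hν₀⟩ := FiniteField.exists_nonsquare (ringChar_ne_two hodd)
  let ν : Fˣ := Units.mk0 ν₀ (fun h => hν₀ (h ▸ IsSquare.zero))
  have hν : ¬ IsSquare (ν : F) := hν₀
  obtain ⟨H, hH, hne, hsum, hdeg, -, -, -⟩ := exists_halves hodd hα hα1 ν hν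
  refine ⟨H, H ∘ sigma ν, hH, IsIrrCharacter.comp_equiv hH (sigma ν), Ne.symm hne, hsum, hdeg,
    by rw [Function.comp_apply, map_one, hdeg],
    Matrix.GeneralLinearGroup.mkOfDetNeZero !![(ν : F), 0; 0, 1] (by simp), fun g h hgh => ?_⟩
  have hs : h = sigma ν g := by
    rw [eq_mul_inv_iff_mul_eq] at hgh
    have e := congrArg (fun k : GL (Fin 2) F => (k : Matrix (Fin 2) (Fin 2) F)) hgh
    apply Subtype.ext
    change (h : Matrix (Fin 2) (Fin 2) F) = (sigma ν g : Matrix (Fin 2) (Fin 2) F)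
    rw [sigma_coe]
    simp [Matrix.GeneralLinearGroup.mkOfDetNeZero] at e
    have e00 := congrFun (congrFun e 0) 0
    have e01 := congrFun (congrFun e 0) 1
    have e10 := congrFun (congrFun e 1) 0
    have e11 := congrFun (congrFun e 1) 1
    simp [Matrix.mul_apply, Matrix.vecMul, dotProduct, Fin.sum_univ_two] at e00 e01 e10 e11
    ext i j
    fin_cases i <;> fin_cases j <;> simp
    · exact mul_right_cancel₀ ν.ne_zero (e00.trans (mul_comm _ _))
    · exact e01
    · rw [← e10]; field_simp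
    · exact e11
  subst hs
  rw [Function.comp_apply]
  exact (IsClassFunction.eq_of_isConj (IsCharacter.isClassFunction (IsIrrCharacter.isCharacter hH))
    (sigma_sq_isConj ν g)).symm

end Cfsg.Agent.S2307
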