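import Cfsg.Statements.S2308
import Cfsg.Agent.Lib.KnownA.GL2Count
open Cfsg.Agent.Lib.KnownA

set_option autoImplicit false
open Cfsg

namespace Cfsg.Agent.S2308

/-- Values of the permutation character of GL₂ over a finite field F with q elements on the cosets of its upper triangular subgroup (equivalently, the number of lines of F² that an element maps to themselves): q + 1 at a scalar matrix, 2 at a diagonal matrix with two different diagonal entries, 0 at an element with no eigenvector in F², and 1 at an upper triangular matrix with equal diagonal entries and non-zero upper right entry. -/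
theorem result {F : Type*} [Field F] [Fintype F] (g : Matrix.GeneralLinearGroup (Fin 2) F) :
    ((∃ a : F, (g : Matrix (Fin 2) (Fin 2) F) = a • (1 : Matrix (Fin 2) (Fin 2) F)) → Cfsg.fixedPointCharacter (Cfsg.upperTriangularGL 2 F) g = Fintype.card F + 1) ∧
    ((g : Matrix (Fin 2) (Fin 2) F) 0 1 = 0 → (g : Matrix (Fin 2) (Fin 2) F) 1 0 = 0 → (g : Matrix (Fin 2) (Fin 2) F) 0 0 ≠ (g : Matrix (Fin 2) (Fin 2) F) 1 1 →
      Cfsg.fixedPointCharacter (Cfsg.upperTriangularGL 2 F) g = 2) ∧
    ((∀ (c : F) (v : Fin 2 → F), v ≠ 0 → (g : Matrix (Fin 2) (Fin 2) F).mulVec v ≠ c • v) → Cfsg.fixedPointCharacter (Cfsg.upperTriangularGL 2 F) g = 0) ∧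
    ((g : Matrix (Fin 2) (Fin 2) F) 1 0 = 0 → (g : Matrix (Fin 2) (Fin 2) F) 0 0 = (g : Matrix (Fin 2) (Fin 2) F) 1 1 → (g : Matrix (Fin 2) (Fin 2) F) 0 1 ≠ 0 →
      Cfsg.fixedPointCharacter (Cfsg.upperTriangularGL 2 F) g = 1) := by
  classical
  simp only [Cfsg.fixedPointCharacter, card_fixed_cosets]
  refine ⟨?_, ?_, ?_, ?_⟩
  · rintro ⟨a, ha⟩
    rw [Nat.card_congr (Equiv.subtypeUnivEquiv (p := _) ?_), Nat.card_eq_fintype_card, Fintype.card_option]
    · push_cast; ring
    · rintro (_ | x) <;> simp [qv, ha]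
  · intro h01 h10 hne
    rw [Nat.card_eq_fintype_card, Fintype.card_subtype]
    rw [show (Finset.univ.filter _ : Finset (Option F)) = {none, some 0} from ?_, Finset.card_pair (by simp)]
    · norm_num
    · ext o
      rcases o with _ | x
      · simpa using h10
      · simp [qv, h01, h10, sub_eq_zero, Ne.symm hne]
  · intro h
    obtain ⟨h10, hx⟩ := qv_ne_zero_of_noEigen h
    rw [Nat.card_eq_zero.mpr (Or.inl ⟨?_⟩)]
    · simp
    · rintro ⟨_ | x, ho⟩
      · exact h10 ho
      · exact hx x ho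
  · intro h10 heq h01
    rw [Nat.card_eq_one_iff_unique.mpr ⟨⟨?_⟩, ⟨⟨none, h10⟩⟩⟩]
    · simp
    · rintro ⟨_ | x, hx⟩ ⟨_ | y, hy⟩
      · rfl
      · simp [qv, h10, heq, h01] at hy
      · simp [qv, h10, heq, h01] at hx
      · simp [qv, h10, heq, h01] at hx

end Cfsg.Agent.S2308
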