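import Cfsg.Statements.S2309
import Cfsg.Agent.Lib.KnownA.GL2Values
open Cfsg.Agent.Lib.KnownA
open Cfsg.Agent.Lib.Characters

set_option autoImplicit false
open Cfsg

namespace Cfsg.Agent.S2309

/-- Over a finite field F with q elements: every irreducible complex character of GL₂ of degree q − 1 vanishes at every diagonal matrix with two distinct entries, and every irreducible complex character of degree q + 1 vanishes at every element with no eigenvector in F². -/
theorem result {F : Type*} [Field F] [Fintype F] (χ : Matrix.GeneralLinearGroup (Fin 2) F → ℂ) (hχ : Cfsg.IsIrrCharacter (Matrix.GeneralLinearGroup (Fin 2) F) χ) (g : Matrix.GeneralLinearGroup (Fin 2) F) :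
    (χ 1 = (Fintype.card F : ℂ) - 1 → (g : Matrix (Fin 2) (Fin 2) F) 0 1 = 0 → (g : Matrix (Fin 2) (Fin 2) F) 1 0 = 0 → (g : Matrix (Fin 2) (Fin 2) F) 0 0 ≠ (g : Matrix (Fin 2) (Fin 2) F) 1 1 → χ g = 0) ∧
    (χ 1 = (Fintype.card F : ℂ) + 1 → (∀ (c : F) (v : Fin 2 → F), v ≠ 0 → (g : Matrix (Fin 2) (Fin 2) F).mulVec v ≠ c • v) → χ g = 0) := by
  classical
  have hq : ((Fintype.card F : ℕ) : ℂ) ≠ 0 := card_F_ne_zero
  refine ⟨fun h1 h01 h10 hne => ?_, fun h1 hg => ?_⟩
  · rcases kinds_GL2 hχ with ⟨hc, -⟩ | ⟨-, e⟩ | ⟨-, e⟩ | ⟨-, e⟩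
    · exact cusp_diag hχ hc h01 h10 hne
    · exfalso
      obtain ⟨a, d, rfl, ha, hd⟩ := bGL_of_diag h01 h10
      have had : a ≠ d := fun e2 => hne (by rw [← ha, ← hd, e2])
      have h3 : 3 ≤ Fintype.card F := by
        rw [Nat.succ_le_iff, Fintype.two_lt_card_iff]
        exact ⟨0, a, d, a.ne_zero.symm, d.ne_zero.symm, fun e2 => had (Units.ext e2)⟩
      have h4 : ((Fintype.card F : ℕ) : ℂ) = ((2 : ℕ) : ℂ) := by push_cast; linear_combination e - h1
      have h5 : Fintype.card F = 2 := by exact_mod_cast h4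
      omega
    · exfalso; rw [e] at h1; exact one_ne_zero (show (1 : ℂ) = 0 by linear_combination h1)
    · exfalso; rw [e] at h1; exact two_ne_zero (α := ℂ) (by linear_combination h1)
  · rcases kinds_GL2 hχ with ⟨-, e⟩ | ⟨-, e⟩ | ⟨-, e⟩ | ⟨⟨α, β, -, rfl⟩, -⟩
    · exfalso; rw [e] at h1; exact two_ne_zero (α := ℂ) (by linear_combination -h1)
    · exfalso; rw [e] at h1; exact hq (by linear_combination -h1)
    · exfalso; rw [e] at h1; exact one_ne_zero (show (1 : ℂ) = 0 by linear_combination -h1)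
    · exact indGL_noEigen α β hg

end Cfsg.Agent.S2309
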