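import Cfsg.Statements.S2310
import Cfsg.Agent.Lib.KnownA.GL2Values
open Cfsg.Agent.Lib.KnownA
open Cfsg.Agent.Lib.Characters

set_option autoImplicit false
open Cfsg

namespace Cfsg.Agent.S2310

/-- Over a finite field F with q ≥ 3 elements, let u be the upper unitriangular matrix of GL₂ with off-diagonal entry 1. An irreducible complex character χ of GL₂ takes at u the value 1 if χ has degree 1 or q + 1, the value −1 if χ has degree q − 1, and the value 0 if χ has degree q. -/
theorem result {F : Type*} [Field F] [Fintype F] (hq : 3 ≤ Fintype.card F) (χ : Matrix.GeneralLinearGroup (Fin 2) F → ℂ) (hχ : Cfsg.IsIrrCharacter (Matrix.GeneralLinearGroup (Fin 2) F) χ)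
    (u : Matrix.GeneralLinearGroup (Fin 2) F) (hu : (u : Matrix (Fin 2) (Fin 2) F) = !![1, 1; 0, 1]) :
    (χ 1 = 1 → χ u = 1) ∧ (χ 1 = (Fintype.card F : ℂ) + 1 → χ u = 1) ∧
    (χ 1 = (Fintype.card F : ℂ) - 1 → χ u = -1) ∧ (χ 1 = (Fintype.card F : ℂ) → χ u = 0) := by
  classical
  have hq2 : ((Fintype.card F : ℕ) : ℂ) ≠ ((2 : ℕ) : ℂ) := by
    intro h; have : Fintype.card F = 2 := by exact_mod_cast h
    omega
  have hq0 : ((Fintype.card F : ℕ) : ℂ) ≠ 0 := card_F_ne_zero
  have hq1 : ((Fintype.card F : ℕ) : ℂ) ≠ 1 := by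
    intro h; have : Fintype.card F = 1 := by exact_mod_cast h
    omega
  push_cast at hq2
  have hdet : ∀ α : MulChar F ℂ, glDetChar α u = 1 := fun α => by simp [glDetChar, hu]
  rcases kinds_GL2 hχ with ⟨hc, e⟩ | ⟨⟨α, rfl⟩, e⟩ | ⟨⟨α, rfl⟩, e⟩ | ⟨⟨α, β, -, rfl⟩, e⟩ <;>
    refine ⟨fun h => ?_, fun h => ?_, fun h => ?_, fun h => ?_⟩ <;> rw [e] at h <;>
    first
      | exact cusp_transvection hχ hc hu
      | exact hdet α
      | (rw [stein, Pi.sub_apply, indGL_transvection _ _ hu, hdet, sub_self]; done)
      | exact indGL_transvection _ _ hu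
      | (exfalso; exact hq2 (by linear_combination h))
      | (exfalso; exact hq2 (by linear_combination -h))
      | (exfalso; exact hq0 (by linear_combination h))
      | (exfalso; exact hq0 (by linear_combination -h))
      | (exfalso; exact hq1 (by linear_combination h))
      | (exfalso; exact hq1 (by linear_combination -h))
      | (exfalso; exact one_ne_zero (show (1 : ℂ) = 0 by linear_combination h))
      | (exfalso; exact one_ne_zero (show (1 : ℂ) = 0 by linear_combination -h))
      | (exfalso; exact two_ne_zero (α := ℂ) (by linear_combination h))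
      | (exfalso; exact two_ne_zero (α := ℂ) (by linear_combination -h))

end Cfsg.Agent.S2310
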