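import Cfsg.Statements.S2315
import Mathlib
import Cfsg.Agent.Lib.NilpotentCount

set_option autoImplicit false
open Cfsg

namespace Cfsg.Agent.S2315


/-- Steinberg's count of unipotent elements for the general linear group: over a finite field with q elements of characteristic p, the number of elements of GL_n of p-power order (the unipotent matrices) is q^(n(n−1)). -/
theorem result {F : Type*} [Field F] [Fintype F] (p : ℕ) [Fact p.Prime] [CharP F p] (n : ℕ) :
    Nat.card {g : Matrix.GeneralLinearGroup (Fin n) F // ∃ k : ℕ, orderOf g = p ^ k} = Fintype.card F ^ (n * (n - 1)) := by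
  classical
  have hN : Nat.card (Cfsg.Agent.Lib.NilpotentCount.Nil F (Fin n → F)) =
      Fintype.card F ^ (n * (n - 1)) :=
    Cfsg.Agent.Lib.NilpotentCount.card_nil n (by simp)
  rw [← hN]
  have key : ∀ g : Matrix.GeneralLinearGroup (Fin n) F, (∃ k : ℕ, orderOf g = p ^ k) ↔
      IsNilpotent ((g : Matrix (Fin n) (Fin n) F) - 1) := by
    intro g
    rcases Nat.eq_zero_or_pos n with rfl | hn
    · exact ⟨fun _ => ⟨1, Subsingleton.elim _ _⟩, fun _ => ⟨0, by rw [pow_zero, orderOf_eq_one_iff]; exact Subsingleton.elim _ _⟩⟩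
    haveI : Nonempty (Fin n) := ⟨⟨0, hn⟩⟩
    have h : ∀ k, ((g : Matrix (Fin n) (Fin n) F) - 1) ^ p ^ k =
        ((g ^ p ^ k : Matrix.GeneralLinearGroup (Fin n) F) : Matrix (Fin n) (Fin n) F) - 1 := fun k => by
      rw [sub_pow_char_pow_of_commute _ _ (Commute.one_right _), one_pow, Units.val_pow_eq_pow_val]
    constructor
    · rintro ⟨k, hk⟩
      refine ⟨p ^ k, ?_⟩
      rw [h, ← hk, pow_orderOf_eq_one, Units.val_one, sub_self]
    · rintro ⟨m, hm⟩
      have hp : 1 < p := (Fact.out : p.Prime).one_lt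
      have h1 : g ^ p ^ m = 1 := by
        apply Units.ext
        rw [Units.val_one, ← sub_eq_zero, ← h,
          ← Nat.sub_add_cancel (Nat.lt_pow_self hp (n := m)).le, pow_add, hm, mul_zero]
      obtain ⟨k, -, hk⟩ := (Nat.dvd_prime_pow Fact.out).mp (orderOf_dvd_of_pow_eq_one h1)
      exact ⟨k, hk⟩
  let e := Matrix.toLinAlgEquiv' (R := F) (n := Fin n)
  have he : ∀ g : Matrix.GeneralLinearGroup (Fin n) F, (∃ k : ℕ, orderOf g = p ^ k) →
      IsNilpotent (e ((g : Matrix (Fin n) (Fin n) F) - 1)) := fun g hg => ((key g).mp hg).map e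
  refine Nat.card_eq_of_bijective (fun g => (⟨e ((g.1 : Matrix (Fin n) (Fin n) F) - 1), he g.1 g.2⟩ :
    Cfsg.Agent.Lib.NilpotentCount.Nil F (Fin n → F))) ⟨?_, ?_⟩
  · intro g g' hgg
    exact Subtype.ext (Units.ext (sub_left_injective (e.injective (congrArg Subtype.val hgg))))
  · rintro ⟨T, hT⟩
    have hN' : IsNilpotent (e.symm T) := hT.map e.symm
    obtain ⟨u, hu⟩ := hN'.isUnit_one_add
    refine ⟨⟨u, (key u).mpr ?_⟩, Subtype.ext ?_⟩
    · rw [hu, add_sub_cancel_left]; exact hN'
    · simp only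
      rw [hu, add_sub_cancel_left, AlgEquiv.apply_symm_apply]

end Cfsg.Agent.S2315
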