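import Cfsg.Statements.S2316
import Cfsg.Agent.Lib.SympUni.Main
import Cfsg.Agent.Lib.Classical.SympGroup

set_option autoImplicit false
open Cfsg

namespace Cfsg.Agent.S2316

/-- Steinberg's count of unipotent elements for the symplectic group: over a finite field with q elements of characteristic p, the number of elements of Sp_{2m} of p-power order is q^(2m²). -/
theorem result {F : Type*} [Field F] [Fintype F] (p : ℕ) [Fact p.Prime] [CharP F p] (m : ℕ) :
    Nat.card {g : ↥(Matrix.symplecticGroup (Fin m) F) // ∃ k : ℕ, orderOf g = p ^ k} = Fintype.card F ^ (2 * m ^ 2) := by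
  classical
  let B := Lib.Geometry.sympBilin m F
  have hform : ∀ x y, B x y = Cfsg.sympForm m F x y := fun x y => Lib.Geometry.sympBilin_apply ..
  have ha : B.IsAlt := fun x => (hform x x).trans (Lib.Geometry.sympForm_self ..)
  have hn : Module.finrank F (Fin m ⊕ Fin m → F) = 2 * m := by
    rw [Module.finrank_pi, Fintype.card_sum, Fintype.card_fin]; ring
  rw [← Lib.SympUni.card_unipotent m B ha (Lib.Geometry.sympBilin_nondegenerate F m) hn]
  let e := Matrix.toLinAlgEquiv' (R := F) (n := Fin m ⊕ Fin m)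
  have key : ∀ g : ↥(Matrix.symplecticGroup (Fin m) F), (∃ k : ℕ, orderOf g = p ^ k) ↔
      IsNilpotent ((g : Matrix (Fin m ⊕ Fin m) (Fin m ⊕ Fin m) F) - 1) := by
    intro g
    rcases isEmpty_or_nonempty (Fin m ⊕ Fin m) with hE | hE
    · exact ⟨fun _ => ⟨1, Subsingleton.elim _ _⟩, fun _ => ⟨0, by
        rw [pow_zero, orderOf_eq_one_iff]; exact Subtype.ext (Subsingleton.elim _ _)⟩⟩
    have h : ∀ k, ((g : Matrix (Fin m ⊕ Fin m) (Fin m ⊕ Fin m) F) - 1) ^ p ^ k =
        ((g ^ p ^ k : ↥(Matrix.symplecticGroup (Fin m) F)) : Matrix (Fin m ⊕ Fin m) (Fin m ⊕ Fin m) F) - 1 :=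
      fun k => by
        rw [sub_pow_char_pow_of_commute _ _ (Commute.one_right _), one_pow, SubmonoidClass.coe_pow]
    constructor
    · rintro ⟨k, hk⟩
      refine ⟨p ^ k, ?_⟩
      rw [h, ← hk, pow_orderOf_eq_one, OneMemClass.coe_one, sub_self]
    · rintro ⟨r, hr⟩
      have h1 : g ^ p ^ r = 1 := by
        apply Subtype.ext
        rw [OneMemClass.coe_one, ← sub_eq_zero, ← h,
          ← Nat.sub_add_cancel (Nat.lt_pow_self (Fact.out : p.Prime).one_lt (n := r)).le, pow_add, hr, mul_zero]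
      obtain ⟨k, -, hk⟩ := (Nat.dvd_prime_pow Fact.out).mp (orderOf_dvd_of_pow_eq_one h1)
      exact ⟨k, hk⟩
  have hsub : ∀ g : Matrix (Fin m ⊕ Fin m) (Fin m ⊕ Fin m) F, e g - 1 = e (g - 1) := fun g => by
    rw [map_sub, map_one]
  refine Nat.card_eq_of_bijective
    (fun g => (⟨e g.1.1, fun x y => ?_, ?_, ?_⟩ : Lib.SympUni.UFix B ⊥)) ⟨?_, ?_⟩
  · rw [hform, hform]
    exact Lib.Classical.sp_form g.1 x y
  · rw [hsub]
    exact ((key g.1).mp g.2).map e
  · intro w hw
    rw [(Submodule.mem_bot F).mp hw, map_zero]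
  · intro g g' h
    exact Subtype.ext (Subtype.ext (e.injective (congrArg Subtype.val h)))
  · rintro ⟨T, hiso, hnil, -⟩
    have hmem : e.symm T ∈ Matrix.symplecticGroup (Fin m) F := by
      refine Lib.Geometry.mem_symplecticGroup_iff_form.mpr fun u v => ?_
      have h1 : ∀ u, (e.symm T).mulVec u = T u := fun u => by
        conv_rhs => rw [← e.apply_symm_apply T]
        rfl
      rw [h1, h1, ← hform, ← hform, hiso]
    refine ⟨⟨⟨e.symm T, hmem⟩, (key _).mpr ?_⟩, Subtype.ext (e.apply_symm_apply T)⟩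
    rw [show e.symm T - 1 = e.symm (T - 1) by rw [map_sub, map_one]]
    exact hnil.map e.symm

end Cfsg.Agent.S2316
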