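import Cfsg.Statements.S2317
import Cfsg.Agent.Lib.Similar.Orders
import Cfsg.Agent.Lib.Similar.Classes
set_option autoImplicit false
open Cfsg

namespace Cfsg.Agent.S2317

/-- Over a finite field of characteristic p, the conjugacy classes of GL_n consisting of elements of p-power order (the unipotent classes) are as many as the partitions of n. -/
theorem result {F : Type*} [Field F] [Fintype F] (p : ℕ) [Fact p.Prime] [CharP F p] (n : ℕ) :
    Nat.card {C : ConjClasses (Matrix.GeneralLinearGroup (Fin n) F) //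
      ∃ g : Matrix.GeneralLinearGroup (Fin n) F, (∃ k : ℕ, orderOf g = p ^ k) ∧ ConjClasses.mk g = C} =
      Fintype.card (Nat.Partition n) := by
  classical
  have hp : p.Prime := Fact.out
  -- unipotence in terms of elementary divisors
  have hX : (Polynomial.X - 1 : Polynomial F) = Polynomial.X - Polynomial.C 1 := by simp
  have hfrob : ∀ k : ℕ, (Polynomial.X : Polynomial F) ^ p ^ k - 1 = (Polynomial.X - 1) ^ p ^ k := fun k => by
    rw [sub_pow_char_pow, one_pow]
  have huni : ∀ x : Matrix.GeneralLinearGroup (Fin n) F, (∃ k : ℕ, orderOf x = p ^ k) ↔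
      ∀ y ∈ Agent.Lib.Similar.matInv (x : Matrix (Fin n) (Fin n) F), y.1 = Polynomial.X - 1 := by
    intro x
    have hspec := (Agent.Lib.Similar.matInv_spec x).1
    constructor
    · rintro ⟨k, hk⟩ y hy
      have h1 : x ^ p ^ k = 1 := hk ▸ pow_orderOf_eq_one x
      have h2 := (Agent.Lib.Similar.pow_eq_one_iff_matInv x (p ^ k)).1 h1 y hy
      rw [hfrob] at h2
      obtain ⟨hm, hirr, -, he⟩ := hspec y hy
      have h3 : y.1 ∣ Polynomial.X - 1 := hirr.prime.dvd_of_dvd_pow ((dvd_pow_self _ (by omega)).trans h2)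
      rw [hX] at h3 ⊢
      exact Polynomial.eq_of_monic_of_associated hm (Polynomial.monic_X_sub_C 1)
        (hirr.associated_of_dvd (Polynomial.irreducible_X_sub_C 1) h3)
    · intro h
      have h1 : x ^ p ^ n = 1 := by
        refine (Agent.Lib.Similar.pow_eq_one_iff_matInv x _).2 fun y hy => ?_
        rw [hfrob, h y hy]
        refine pow_dvd_pow _ ?_
        have hle : y.2 * y.1.natDegree ≤ Fintype.card (Fin n) := by
          rw [← (Agent.Lib.Similar.matInv_spec x).2]
          exact Multiset.single_le_sum (fun (z : ℕ) _ => Nat.zero_le z) _ (Multiset.mem_map.2 ⟨y, hy, rfl⟩)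
        rw [h y hy, hX, Polynomial.natDegree_X_sub_C, mul_one, Fintype.card_fin] at hle
        exact hle.trans (Nat.lt_pow_self hp.one_lt).le
      obtain ⟨k, -, hk⟩ := (Nat.dvd_prime_pow hp).1 (orderOf_dvd_of_pow_eq_one h1)
      exact ⟨k, hk⟩
  let A := {C : ConjClasses (Matrix.GeneralLinearGroup (Fin n) F) //
      ∃ g : Matrix.GeneralLinearGroup (Fin n) F, (∃ k : ℕ, orderOf g = p ^ k) ∧ ConjClasses.mk g = C}
  have hA : ∀ C : A, ∀ y ∈ Agent.Lib.Similar.classInv C.1, y.1 = Polynomial.X - 1 ∧ 1 ≤ y.2 := by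
    rintro ⟨C, g, hg, rfl⟩ y hy
    rw [Agent.Lib.Similar.classInv_mk] at hy
    exact ⟨(huni g).1 hg y hy, ((Agent.Lib.Similar.matInv_spec g).1 y hy).2.2.2⟩
  have hsum : ∀ C : A, ((Agent.Lib.Similar.classInv C.1).map Prod.snd).sum = n := by
    rintro ⟨C, g, hg, rfl⟩
    rw [Agent.Lib.Similar.classInv_mk]
    have h := (Agent.Lib.Similar.matInv_spec g).2
    rw [Fintype.card_fin] at h
    conv_rhs => rw [← h]
    refine congrArg _ (Multiset.map_congr rfl fun y hy => ?_)
    rw [(huni g).1 hg y hy, hX, Polynomial.natDegree_X_sub_C, mul_one]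
  let Φ : A → Nat.Partition n := fun C =>
    { parts := (Agent.Lib.Similar.classInv C.1).map Prod.snd
      parts_pos := fun {i} hi => by
        obtain ⟨y, hy, rfl⟩ := Multiset.mem_map.1 hi
        exact (hA C y hy).2
      parts_sum := hsum C }
  rw [← Nat.card_eq_fintype_card]
  refine Nat.card_congr (Equiv.ofBijective Φ ⟨fun C D h => ?_, fun P => ?_⟩)
  · apply Subtype.ext
    apply Agent.Lib.Similar.classInv_injective
    have key : ∀ E : A, Agent.Lib.Similar.classInv E.1 =
        (Φ E).parts.map fun e => ((Polynomial.X - 1 : Polynomial F), e) := fun E => by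
      show _ = ((Agent.Lib.Similar.classInv E.1).map Prod.snd).map _
      rw [Multiset.map_map]
      conv_lhs => rw [← Multiset.map_id (Agent.Lib.Similar.classInv E.1)]
      exact Multiset.map_congr rfl fun y hy => Prod.ext (hA E y hy).1 rfl
    rw [key, key, h]
  · obtain ⟨x, hx⟩ := Agent.Lib.Similar.exists_gl_matInv (n := Fin n) (F := F)
      (P.parts.map fun e => ((Polynomial.X - 1 : Polynomial F), e))
      (fun y hy => by
        obtain ⟨e, he, rfl⟩ := Multiset.mem_map.1 hy
        dsimp only
        rw [hX]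
        exact ⟨Polynomial.monic_X_sub_C 1, Polynomial.irreducible_X_sub_C 1, by simp, P.parts_pos he⟩)
      (by
        rw [Multiset.map_map, Fintype.card_fin]
        conv_rhs => rw [← P.parts_sum]
        refine congrArg _ ?_
        conv_rhs => rw [← Multiset.map_id P.parts]
        refine Multiset.map_congr rfl fun e _ => ?_
        simp only [Function.comp_apply, hX, Polynomial.natDegree_X_sub_C, mul_one, id_eq])
    refine ⟨⟨ConjClasses.mk x, x, (huni x).2 (fun y hy => ?_), rfl⟩, ?_⟩
    · rw [hx] at hy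
      obtain ⟨e, -, rfl⟩ := Multiset.mem_map.1 hy
      rfl
    · apply Nat.Partition.ext
      show (Agent.Lib.Similar.classInv (ConjClasses.mk x)).map Prod.snd = P.parts
      rw [Agent.Lib.Similar.classInv_mk, hx, Multiset.map_map]
      exact Multiset.map_id' _

end Cfsg.Agent.S2317
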