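import Cfsg.Statements.S2318
import Cfsg.Agent.Lib.Chev.DefectZeroChar
import Cfsg.Agent.Lib.Chev.All
-- import your own Cfsg.Agent.* helpers here

set_option autoImplicit false
open Cfsg

namespace Cfsg.Agent.S2318

/-- In a Chevalley group of type G₂, B₂, D₄, F₄, E₆, E₇ or E₈ over a finite field of characteristic p (for types G₂ and B₂ the field is assumed to have at least 3 elements, so that the group is perfect), the Steinberg character is the only irreducible complex character whose degree is divisible by the full power of p dividing the group order (the only irreducible character of p-defect zero). -/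
theorem result {F : Type*} [Field F] [Fintype F] (p : ℕ) [Fact p.Prime] [CharP F p] (D : Cfsg.Lie.ChevalleyDatum) (hD : D ∈ [Cfsg.Lie.chevG2, Cfsg.Lie.chevB2, Cfsg.Lie.chevD4, Cfsg.Lie.chevF4, Cfsg.Lie.chevE6, Cfsg.Lie.chevE7, Cfsg.Lie.chevE8]) (hq : (D = Cfsg.Lie.chevG2 ∨ D = Cfsg.Lie.chevB2) → 3 ≤ Fintype.card F)
    (χ : ↥(D.group F) → ℂ) (hχ : Cfsg.IsIrrCharacter ↥(D.group F) χ)
    (hdeg : ∃ d : ℕ, χ 1 = (d : ℂ) ∧ p ^ (Nat.card ↥(D.group F)).factorization p ∣ d) :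
    χ = D.steinbergCharacter F := by
  simp only [List.mem_cons, List.not_mem_nil, or_false] at hD
  obtain rfl | rfl | rfl | rfl | rfl | rfl | rfl := hD
  · exact Cfsg.Agent.Lib.Chev.goodG2.eq_steinberg_of_defect_zero Cfsg.Agent.Lib.Chev.parG2 p χ hχ hdeg
  · exact Cfsg.Agent.Lib.Chev.goodB2.eq_steinberg_of_defect_zero Cfsg.Agent.Lib.Chev.parB2 p χ hχ hdeg
  · exact Cfsg.Agent.Lib.Chev.goodD4.eq_steinberg_of_defect_zero Cfsg.Agent.Lib.Chev.parD4 p χ hχ hdeg
  · exact Cfsg.Agent.Lib.Chev.goodF4.eq_steinberg_of_defect_zero Cfsg.Agent.Lib.Chev.parF4 p χ hχ hdeg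
  · exact Cfsg.Agent.Lib.Chev.goodE6.eq_steinberg_of_defect_zero Cfsg.Agent.Lib.Chev.parE6 p χ hχ hdeg
  · exact Cfsg.Agent.Lib.Chev.goodE7.eq_steinberg_of_defect_zero Cfsg.Agent.Lib.Chev.parE7 p χ hχ hdeg
  · exact Cfsg.Agent.Lib.Chev.goodE8.eq_steinberg_of_defect_zero Cfsg.Agent.Lib.Chev.parE8 p χ hχ hdeg

end Cfsg.Agent.S2318
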