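import Cfsg.Statements.S2320
import Cfsg.Agent.Lib.KnownA.GL2Values
open Cfsg.Agent.Lib.KnownA
open Cfsg.Agent.Lib.Characters

set_option autoImplicit false
open Cfsg

namespace Cfsg.Agent.S2320

/-- Over a finite field F with q elements, every irreducible complex character of GL₂ of degree q takes a value of absolute value 1 at every diagonal matrix with two different diagonal entries and at every element with no eigenvector in F². -/
theorem result {F : Type*} [Field F] [Fintype F] (χ : Matrix.GeneralLinearGroup (Fin 2) F → ℂ) (hχ : Cfsg.IsIrrCharacter (Matrix.GeneralLinearGroup (Fin 2) F) χ) (hdeg : χ 1 = (Fintype.card F : ℂ)) (g : Matrix.GeneralLinearGroup (Fin 2) F) :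
    ((g : Matrix (Fin 2) (Fin 2) F) 0 1 = 0 → (g : Matrix (Fin 2) (Fin 2) F) 1 0 = 0 → (g : Matrix (Fin 2) (Fin 2) F) 0 0 ≠ (g : Matrix (Fin 2) (Fin 2) F) 1 1 → ‖χ g‖ = 1) ∧
    ((∀ (c : F) (v : Fin 2 → F), v ≠ 0 → (g : Matrix (Fin 2) (Fin 2) F).mulVec v ≠ c • v) → ‖χ g‖ = 1) := by
  classical
  have hq0 : ((Fintype.card F : ℕ) : ℂ) ≠ 0 := card_F_ne_zero
  have hq1 : ((Fintype.card F : ℕ) : ℂ) ≠ 1 := by
    have := Fintype.one_lt_card (α := F)
    intro h; have : Fintype.card F = 1 := by exact_mod_cast h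
    omega
  rcases kinds_GL2 hχ with ⟨-, e⟩ | ⟨-, e⟩ | ⟨⟨α, rfl⟩, -⟩ | ⟨-, e⟩
  · rw [e] at hdeg; exact absurd (show (1 : ℂ) = 0 by linear_combination -hdeg) one_ne_zero
  · rw [e] at hdeg; exact absurd hdeg.symm hq1
  · refine ⟨fun h01 h10 hne => ?_, fun hg => ?_⟩
    · obtain ⟨a, d, rfl, ha, hd⟩ := bGL_of_diag h01 h10
      have had : a ≠ d := fun e2 => hne (by rw [← ha, ← hd, e2])
      rw [stein, Pi.sub_apply, indGL_diag α α a d had, glDetChar,
        show (Cfsg.Agent.Lib.KnownA.bGL a d (0 : F) : Matrix (Fin 2) (Fin 2) F).det = (a : F) * d by simp [bGL_coe],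
        map_mul, show α (a : F) * α (d : F) + α (d : F) * α (a : F) - α (a : F) * α (d : F) = α (a : F) * α (d : F) by ring,
        norm_mul, norm_mulChar_apply α a.ne_zero, norm_mulChar_apply α d.ne_zero, mul_one]
    · rw [stein, Pi.sub_apply, indGL_noEigen α α hg, zero_sub, norm_neg, glDetChar]
      exact norm_mulChar_apply α (g.isUnit.map Matrix.detMonoidHom).ne_zero
  · rw [e] at hdeg; exact absurd (show (1 : ℂ) = 0 by linear_combination hdeg) one_ne_zero

end Cfsg.Agent.S2320
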