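import Cfsg.Statements.S2322
import Cfsg.Agent.Lib.KnownA.SL2Values
open Cfsg.Agent.Lib.KnownA Cfsg.Agent.Lib.Characters

set_option autoImplicit false
open Cfsg

namespace Cfsg.Agent.S2322

/-- Over a finite field F with q elements, q odd: every irreducible complex character of SL₂ of degree q − 1 or (q − 1)/2 vanishes at every diagonal matrix whose diagonal entry a has a² ≠ 1, and every irreducible complex character of degree q + 1 or (q + 1)/2 vanishes at every element with no eigenvector in F². -/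
theorem result {F : Type*} [Field F] [Fintype F] (hodd : Odd (Fintype.card F)) (χ : Matrix.SpecialLinearGroup (Fin 2) F → ℂ) (hχ : Cfsg.IsIrrCharacter (Matrix.SpecialLinearGroup (Fin 2) F) χ) (g : Matrix.SpecialLinearGroup (Fin 2) F) :
    ((χ 1 = (Fintype.card F : ℂ) - 1 ∨ χ 1 = (((Fintype.card F - 1) / 2 : ℕ) : ℂ)) →
      (g : Matrix (Fin 2) (Fin 2) F) 0 1 = 0 → (g : Matrix (Fin 2) (Fin 2) F) 1 0 = 0 → (g : Matrix (Fin 2) (Fin 2) F) 0 0 ^ 2 ≠ 1 → χ g = 0) ∧
    ((χ 1 = (Fintype.card F : ℂ) + 1 ∨ χ 1 = (((Fintype.card F + 1) / 2 : ℕ) : ℂ)) →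
      (∀ (c : F) (v : Fin 2 → F), v ≠ 0 → (g : Matrix (Fin 2) (Fin 2) F).mulVec v ≠ c • v) → χ g = 0) := by
  classical
  have hmod := Nat.odd_iff.mp hodd
  have hcard := Fintype.one_lt_card (α := F)
  have e1 : (Fintype.card F : ℂ) + 1 = ((Fintype.card F + 1 : ℕ) : ℂ) := by push_cast; rfl
  have e2 : (Fintype.card F : ℂ) - 1 = ((Fintype.card F - 1 : ℕ) : ℂ) := by
    rw [Nat.cast_sub hcard.le, Nat.cast_one]
  rw [e1, e2]
  refine ⟨fun hd h01 h10 ha => ?_, fun hd hg => ?_⟩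
  · have hq3 : Fintype.card F ≠ 3 := by
      intro h3
      have hdet := g.det_coe
      rw [Matrix.det_fin_two, h01, zero_mul, sub_zero] at hdet
      have := FiniteField.pow_card_sub_one_eq_one _ (left_ne_zero_of_mul_eq_one hdet)
      rw [h3] at this
      exact ha this
    refine sl2_cusp_diag hχ ?_ h01 h10 ha
    rcases kinds_all hχ with ⟨-, ⟨-, e⟩ | ⟨-, e⟩ | ⟨-, e⟩ | ⟨-, e⟩⟩ | ⟨hc, -⟩
    iterate 4 (rcases hd with hd | hd <;> rw [hd, Nat.cast_inj] at e <;> omega)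
    exact hc
  · rcases kinds_all hχ with ⟨hnc, ⟨-, e⟩ | ⟨-, e⟩ | ⟨h, -⟩ | ⟨-, e⟩⟩ | ⟨hc, hk⟩
    · rcases hd with hd | hd <;> rw [hd, Nat.cast_inj] at e <;> omega
    · rcases hd with hd | hd <;> rw [hd, Nat.cast_inj] at e <;> omega
    · obtain ⟨α, -, rfl⟩ := mem_principalSL.mp h
      exact indSL_noEigen α hg
    · obtain ⟨ν₀, hν₀⟩ := FiniteField.exists_nonsquare (ringChar_ne_two hodd)
      exact (half_sum hodd (Units.mk0 ν₀ (fun h => hν₀ (h ▸ IsSquare.zero))) hν₀ hχ hnc e).2 g hg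
    · have h32 : Fintype.card F = 3 ∧ χ 1 = ((2 : ℕ) : ℂ) := by
        rcases hd with hd | hd <;> rcases hk with ⟨-, e⟩ | e <;> rw [hd, Nat.cast_inj] at e
        all_goals first | omega | exact ⟨by omega, by rw [hd, Nat.cast_inj]; omega⟩
      exact cusp_noEigen_three hodd h32.1 hχ hc h32.2 hg

end Cfsg.Agent.S2322
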