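import Cfsg.Statements.S2323
import Cfsg.Agent.Lib.KnownA.SL2Values
open Cfsg.Agent.Lib.KnownA Cfsg.Agent.Lib.Characters

set_option autoImplicit false
open Cfsg

namespace Cfsg.Agent.S2323

/-- Over a finite field F with q ≥ 4 elements, let u be the upper unitriangular matrix of SL₂ with off-diagonal entry 1. An irreducible complex character of SL₂ takes at u the value 1 if its degree is q + 1 and the value −1 if its degree is q − 1. -/
theorem result {F : Type*} [Field F] [Fintype F] (hq : 4 ≤ Fintype.card F) (χ : Matrix.SpecialLinearGroup (Fin 2) F → ℂ) (hχ : Cfsg.IsIrrCharacter (Matrix.SpecialLinearGroup (Fin 2) F) χ)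
    (u : Matrix.SpecialLinearGroup (Fin 2) F) (hu : (u : Matrix (Fin 2) (Fin 2) F) = !![1, 1; 0, 1]) :
    (χ 1 = (Fintype.card F : ℂ) + 1 → χ u = 1) ∧ (χ 1 = (Fintype.card F : ℂ) - 1 → χ u = -1) := by
  classical
  have hcard := Fintype.one_lt_card (α := F)
  obtain rfl := uni_one_eq hu
  have e1 : (Fintype.card F : ℂ) + 1 = ((Fintype.card F + 1 : ℕ) : ℂ) := by push_cast; rfl
  have e2 : (Fintype.card F : ℂ) - 1 = ((Fintype.card F - 1 : ℕ) : ℂ) := by
    rw [Nat.cast_sub hcard.le, Nat.cast_one]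
  rw [e1, e2]
  constructor <;> intro hd
  · rcases kinds_all hχ with ⟨-, ⟨-, e⟩ | ⟨-, e⟩ | ⟨h, -⟩ | ⟨ho, e⟩⟩ | ⟨-, ⟨ho, e⟩ | e⟩
    · rw [hd, Nat.cast_inj] at e; omega
    · rw [hd, Nat.cast_inj] at e; omega
    · obtain ⟨α, -, rfl⟩ := mem_principalSL.mp h
      exact indSL_uni_one α
    all_goals rw [hd, Nat.cast_inj] at e; omega
  · rcases kinds_all hχ with ⟨-, ⟨-, e⟩ | ⟨-, e⟩ | ⟨-, e⟩ | ⟨ho, e⟩⟩ | ⟨hc, -⟩
    iterate 3 (rw [hd, Nat.cast_inj] at e; omega)
    · rw [hd, Nat.cast_inj] at e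
      have := Nat.odd_iff.mp ho
      omega
    · by_cases ho : Odd (Fintype.card F)
      · exact cusp_top_value ho hχ hc hd
      · haveI := charP_two_of_not_odd ho
        exact (cusp_two hχ hc).2

end Cfsg.Agent.S2323
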