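import Cfsg.Statements.S2324
import Cfsg.Agent.Lib.KnownA.SL2Values
open Cfsg.Agent.Lib.KnownA Cfsg.Agent.Lib.Characters

set_option autoImplicit false
open Cfsg

namespace Cfsg.Agent.S2324

/-- Over a finite field F with q elements, q odd and q ≥ 5, let u be the upper unitriangular matrix of SL₂ with off-diagonal entry 1 and let δ = (−1)^((q−1)/2). Every irreducible complex character χ of SL₂ of degree (q + 1)/2 satisfies (2χ(u) − 1)² = δq, and every irreducible complex character χ of degree (q − 1)/2 satisfies (2χ(u) + 1)² = δq; that is, χ(u) = (1 ± √(δq))/2 in the first case and χ(u) = (−1 ± √(δq))/2 in the second. Moreover two different irreducible characters of degree (q + 1)/2 take the two different values (their values at u add up to 1), and likewise for degree (q − 1)/2 (values adding up to −1). -/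
theorem result {F : Type*} [Field F] [Fintype F] (hodd : Odd (Fintype.card F)) (hq : 5 ≤ Fintype.card F)
    (u : Matrix.SpecialLinearGroup (Fin 2) F) (hu : (u : Matrix (Fin 2) (Fin 2) F) = !![1, 1; 0, 1]) :
    (∀ χ : Matrix.SpecialLinearGroup (Fin 2) F → ℂ, Cfsg.IsIrrCharacter (Matrix.SpecialLinearGroup (Fin 2) F) χ → χ 1 = (((Fintype.card F + 1) / 2 : ℕ) : ℂ) → (2 * χ u - 1) ^ 2 = (-1 : ℂ) ^ ((Fintype.card F - 1) / 2) * (Fintype.card F : ℂ)) ∧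
    (∀ χ : Matrix.SpecialLinearGroup (Fin 2) F → ℂ, Cfsg.IsIrrCharacter (Matrix.SpecialLinearGroup (Fin 2) F) χ → χ 1 = (((Fintype.card F - 1) / 2 : ℕ) : ℂ) → (2 * χ u + 1) ^ 2 = (-1 : ℂ) ^ ((Fintype.card F - 1) / 2) * (Fintype.card F : ℂ)) ∧
    (∀ χ₁ χ₂ : Matrix.SpecialLinearGroup (Fin 2) F → ℂ, Cfsg.IsIrrCharacter (Matrix.SpecialLinearGroup (Fin 2) F) χ₁ → Cfsg.IsIrrCharacter (Matrix.SpecialLinearGroup (Fin 2) F) χ₂ → χ₁ ≠ χ₂ →
      χ₁ 1 = (((Fintype.card F + 1) / 2 : ℕ) : ℂ) → χ₂ 1 = (((Fintype.card F + 1) / 2 : ℕ) : ℂ) → χ₁ u + χ₂ u = 1) ∧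
    (∀ χ₁ χ₂ : Matrix.SpecialLinearGroup (Fin 2) F → ℂ, Cfsg.IsIrrCharacter (Matrix.SpecialLinearGroup (Fin 2) F) χ₁ → Cfsg.IsIrrCharacter (Matrix.SpecialLinearGroup (Fin 2) F) χ₂ → χ₁ ≠ χ₂ →
      χ₁ 1 = (((Fintype.card F - 1) / 2 : ℕ) : ℂ) → χ₂ 1 = (((Fintype.card F - 1) / 2 : ℕ) : ℂ) → χ₁ u + χ₂ u = -1) := by
  classical
  obtain rfl := uni_one_eq hu
  obtain ⟨ν₀, hν₀⟩ := FiniteField.exists_nonsquare (ringChar_ne_two hodd)
  let ν : Fˣ := Units.mk0 ν₀ (fun h => hν₀ (h ▸ IsSquare.zero))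
  have hν : ¬ IsSquare (ν : F) := hν₀
  have hmod := Nat.odd_iff.mp hodd
  have kp : ∀ χ : Matrix.SpecialLinearGroup (Fin 2) F → ℂ, Cfsg.IsIrrCharacter _ χ →
      χ 1 = (((Fintype.card F + 1) / 2 : ℕ) : ℂ) →
      ¬ CuspSL χ ∧ χ (uni 1) + χ (uni (ν : F)) = 1 := by
    intro χ hχ hd
    have hc : ¬ CuspSL χ := by
      intro h
      rcases cusp_odd hodd ν hν hχ h with ⟨e, -⟩ | ⟨e, -⟩ <;> rw [hd, Nat.cast_inj] at e <;> omega
    exact ⟨hc, (half_sum hodd ν hν hχ hc hd).1⟩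
  have km : ∀ χ : Matrix.SpecialLinearGroup (Fin 2) F → ℂ, Cfsg.IsIrrCharacter _ χ →
      χ 1 = (((Fintype.card F - 1) / 2 : ℕ) : ℂ) →
      CuspSL χ ∧ χ (uni 1) + χ (uni (ν : F)) = -1 := by
    intro χ hχ hd
    rcases kinds_all hχ with ⟨-, ⟨-, e⟩ | ⟨-, e⟩ | ⟨-, e⟩ | ⟨-, e⟩⟩ | ⟨hc, -⟩
    iterate 4 (rw [hd, Nat.cast_inj] at e; omega)
    rcases cusp_odd hodd ν hν hχ hc with ⟨-, h⟩ | ⟨e, -⟩
    · exact ⟨hc, h⟩
    · rw [hd, Nat.cast_inj] at e; omega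
  obtain ⟨-, -, -, ch, -, cm⟩ := counts_odd hodd
  have hval : ∀ χ : Matrix.SpecialLinearGroup (Fin 2) F → ℂ, (χ ∘ sigma ν) (uni 1) = χ (uni (ν : F)) :=
    fun χ => by rw [Function.comp_apply, sigma_uni, mul_one]
  refine ⟨fun χ hχ hd => ?_, fun χ hχ hd => ?_, fun χ₁ χ₂ h1 h2 hne hd1 hd2 => ?_, fun χ₁ χ₂ h1 h2 hne hd1 hd2 => ?_⟩
  · obtain ⟨-, hs⟩ := kp χ hχ hd
    obtain ⟨-, h, -⟩ := signed_pair hodd hχ ν hν 1 (Or.inl rfl) (by rw [hs, Int.cast_one])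
    rw [← h]
    linear_combination (3 * χ (uni 1) - χ (uni (ν : F)) - 1) * hs
  · obtain ⟨-, hs⟩ := km χ hχ hd
    obtain ⟨-, h, -⟩ := signed_pair hodd hχ ν hν (-1) (Or.inr rfl) (by rw [hs]; norm_num)
    rw [← h]
    linear_combination (3 * χ (uni 1) - χ (uni (ν : F)) + 1) * hs
  · obtain ⟨hc1, hs⟩ := kp χ₁ h1 hd1
    obtain ⟨hc2, -⟩ := kp χ₂ h2 hd2
    obtain ⟨hne1, -, -⟩ := signed_pair hodd h1 ν hν 1 (Or.inl rfl) (by rw [hs, Int.cast_one])
    have h3 : χ₂ = χ₁ ∘ sigma ν := by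
      by_contra h4
      rw [Nat.card_eq_two_iff] at ch
      obtain ⟨x, y, hxy, huniv⟩ := ch
      have hm : ∀ z, z = x ∨ z = y := fun z => by simpa using Set.eq_univ_iff_forall.mp huniv z
      have a := hm ⟨⟨χ₁, h1⟩, hc1, hd1⟩
      have b := hm ⟨⟨χ₂, h2⟩, hc2, hd2⟩
      have c := hm ⟨⟨_, IsIrrCharacter.comp_equiv h1 (sigma ν)⟩, not_cuspSL_comp_sigma ν hc1,
        by simp only [Function.comp_apply, map_one, hd1]⟩
      rcases a with rfl | rfl <;> rcases b with b | b <;> rcases c with c | c <;>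
        simp only [Subtype.ext_iff] at b c <;>
        first
          | exact hne b.symm
          | exact hne1 c
          | exact h4 (b.trans c.symm)
    rw [h3, hval, hs]
  · obtain ⟨hc1, hs⟩ := km χ₁ h1 hd1
    obtain ⟨hc2, -⟩ := km χ₂ h2 hd2
    obtain ⟨hne1, -, -⟩ := signed_pair hodd h1 ν hν (-1) (Or.inr rfl) (by rw [hs]; norm_num)
    have h3 : χ₂ = χ₁ ∘ sigma ν := by
      by_contra h4
      rw [Nat.card_eq_two_iff] at cm
      obtain ⟨x, y, hxy, huniv⟩ := cm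
      have hm : ∀ z, z = x ∨ z = y := fun z => by simpa using Set.eq_univ_iff_forall.mp huniv z
      have a := hm ⟨⟨χ₁, h1⟩, hc1, hd1⟩
      have b := hm ⟨⟨χ₂, h2⟩, hc2, hd2⟩
      have c := hm ⟨⟨_, IsIrrCharacter.comp_equiv h1 (sigma ν)⟩, cuspSL_comp_sigma ν hc1,
        by simp only [Function.comp_apply, map_one, hd1]⟩
      rcases a with rfl | rfl <;> rcases b with b | b <;> rcases c with c | c <;>
        simp only [Subtype.ext_iff] at b c <;>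
        first
          | exact hne b.symm
          | exact hne1 c
          | exact h4 (b.trans c.symm)
    rw [h3, hval, hs]

end Cfsg.Agent.S2324
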