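import Cfsg.Statements.S2329
import Cfsg.Agent.Lib.KnownA.GL2Classes

set_option autoImplicit false
open Cfsg

namespace Cfsg.Agent.S2329

/-- Over a finite field of characteristic p, any two elements of order p of GL₂ are conjugate: there is a single conjugacy class of non-identity unipotent elements. -/
theorem result {F : Type*} [Field F] [Fintype F] (p : ℕ) [Fact p.Prime] [CharP F p] (g h : Matrix.GeneralLinearGroup (Fin 2) F)
    (hg : orderOf g = p) (hh : orderOf h = p) : IsConj g h := by
  have key : ∀ k : Matrix.GeneralLinearGroup (Fin 2) F, orderOf k = p →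
      (k : Matrix (Fin 2) (Fin 2) F).trace = 2 ∧ (k : Matrix (Fin 2) (Fin 2) F).det = 1 ∧
        ¬ Cfsg.Agent.Lib.KnownA.IsScal (k : Matrix (Fin 2) (Fin 2) F) := fun k hk => by
    refine Cfsg.Agent.Lib.KnownA.unipotent_data p ?_ ?_
    · rw [← Units.val_pow_eq_pow_val, ← hk, pow_orderOf_eq_one, Units.val_one]
    · intro h1
      refine (Fact.out : p.Prime).one_lt.ne' ?_
      rw [← hk, orderOf_eq_one_iff]
      exact Units.ext h1
  obtain ⟨g1, g2, g3⟩ := key g hg
  obtain ⟨h1, h2, h3⟩ := key h hh
  exact Cfsg.Agent.Lib.KnownA.isConj_GL2 g3 h3 (g1.trans h1.symm) (g2.trans h2.symm)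

end Cfsg.Agent.S2329
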