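import Cfsg.Statements.S2336
import Cfsg.Agent.Lib.KnownA.PermSplit
set_option autoImplicit false
set_option maxHeartbeats 2000000
open Cfsg

namespace Cfsg.Agent.S2336

/-- Let F be a finite field with q elements and n ≥ 3. The permutation character of SL_n(F) on the non-zero vectors of F^n (the function sending a matrix to the number of non-zero vectors it fixes) is the sum of the principal character and q − 1 pairwise distinct irreducible complex characters. -/
theorem result {F : Type*} [Field F] [Fintype F] [DecidableEq F] (n : ℕ) (hn : 3 ≤ n) :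
    ∃ χ : Fin (Fintype.card F - 1) → (Matrix.SpecialLinearGroup (Fin n) F → ℂ),
      (∀ i, Cfsg.IsIrrCharacter (Matrix.SpecialLinearGroup (Fin n) F) (χ i)) ∧ Function.Injective χ ∧
      ∀ g : Matrix.SpecialLinearGroup (Fin n) F,
        (Nat.card {v : Fin n → F // v ≠ 0 ∧ (g : Matrix (Fin n) (Fin n) F).mulVec v = v} : ℂ) = 1 + ∑ i, χ i g := by
  classical
  let X := {v : Fin n → F // v ≠ 0}
  have hact : ∀ (g : Matrix.SpecialLinearGroup (Fin n) F) (a : Fˣ) (v : X),
      (a : F) • (g : Matrix (Fin n) (Fin n) F).mulVec v.1 ≠ 0 := fun g a v h => by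
    rw [smul_eq_zero] at h
    rcases h with h | h
    · exact a.ne_zero h
    · refine v.2 (Matrix.mulVec_injective_iff_isUnit.mpr ?_ (h.trans (Matrix.mulVec_zero _).symm))
      rw [Matrix.isUnit_iff_isUnit_det, g.2]
      exact isUnit_one
  letI : MulAction (Matrix.SpecialLinearGroup (Fin n) F × Fˣ) X :=
    { smul := fun x v => ⟨(x.2 : F) • (x.1 : Matrix (Fin n) (Fin n) F).mulVec v.1, hact x.1 x.2 v⟩
      one_smul := fun v => Subtype.ext (by
        show ((1 : Fˣ) : F) • _ = _
        simp)
      mul_smul := fun x y v => Subtype.ext (by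
        show ((x.2 * y.2 : Fˣ) : F) • ((x.1 * y.1 : Matrix.SpecialLinearGroup (Fin n) F) : Matrix (Fin n) (Fin n) F).mulVec v.1 =
          (x.2 : F) • (x.1 : Matrix (Fin n) (Fin n) F).mulVec ((y.2 : F) • (y.1 : Matrix (Fin n) (Fin n) F).mulVec v.1)
        rw [Matrix.mulVec_smul, Matrix.mulVec_mulVec, smul_smul, Units.val_mul, Matrix.SpecialLinearGroup.coe_mul]) }
  letI : MulAction (Matrix.SpecialLinearGroup (Fin n) F) X :=
    MulAction.compHom X (MonoidHom.inl (Matrix.SpecialLinearGroup (Fin n) F) Fˣ)
  have hsmul : ∀ (g : Matrix.SpecialLinearGroup (Fin n) F) (v : X),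
      (g • v).1 = (g : Matrix (Fin n) (Fin n) F).mulVec v.1 := fun g v => one_smul F _
  have hn0 : 0 < n := by omega
  let i0 : Fin n := ⟨0, by omega⟩
  let i1 : Fin n := ⟨1, by omega⟩
  let i2 : Fin n := ⟨2, by omega⟩
  -- transitivity on independent pairs
  have key : ∀ v w : Fin n → F, LinearIndependent F ![v, w] →
      ∃ g : Matrix.SpecialLinearGroup (Fin n) F, (g : Matrix (Fin n) (Fin n) F).mulVec (Pi.single i0 1) = v ∧
        (g : Matrix (Fin n) (Fin n) F).mulVec (Pi.single i1 1) = w := by
    intro v w hvw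
    have hstd : LinearIndependent F ![(Pi.single i0 1 : Fin n → F), Pi.single i1 1] := by
      rw [LinearIndependent.pair_iff]
      intro s t hst
      constructor
      · simpa [Pi.single_apply, i0, i1] using congrFun hst i0
      · simpa [Pi.single_apply, i0, i1] using congrFun hst i1
    obtain ⟨g, hg0, hg1⟩ := Agent.Lib.KnownA.PermSplit.exists_linearEquiv hstd hvw
    let A : Matrix (Fin n) (Fin n) F := LinearMap.toMatrix' g.toLinearMap
    have hA : ∀ u, A.mulVec u = g u := fun u => LinearMap.toMatrix'_mulVec g.toLinearMap u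
    have hdet : A.det ≠ 0 := by
      rw [LinearMap.det_toMatrix']
      exact (LinearEquiv.isUnit_det' g).ne_zero
    let d : Fin n → F := Function.update 1 i2 A.det⁻¹
    refine ⟨⟨A * Matrix.diagonal d, ?_⟩, ?_, ?_⟩
    · rw [Matrix.det_mul, Matrix.det_diagonal, Finset.prod_update_of_mem (Finset.mem_univ i2)]
      simp [mul_inv_cancel₀ hdet]
    · show (A * Matrix.diagonal d).mulVec _ = v
      rw [← Matrix.mulVec_mulVec, Matrix.mulVec_single, MulOpposite.op_one, one_smul, ← hg0, ← hA]
      refine congrArg _ (funext fun k => ?_)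
      by_cases hk : k = i0
      · subst hk; simp [d, i0, i2]
      · simp [Matrix.col, hk, Pi.single_apply]
    · show (A * Matrix.diagonal d).mulVec _ = w
      rw [← Matrix.mulVec_mulVec, Matrix.mulVec_single, MulOpposite.op_one, one_smul, ← hg1, ← hA]
      refine congrArg _ (funext fun k => ?_)
      by_cases hk : k = i1
      · subst hk; simp [d, i1, i2]
      · simp [Matrix.col, hk, Pi.single_apply]
  have hindep : ∀ v w : X, (∀ a : Fˣ, (a : F) • v.1 ≠ w.1) → LinearIndependent F ![v.1, w.1] := by
    intro v w h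
    rw [LinearIndependent.pair_iff]
    intro s t hst
    by_cases ht : t = 0
    · subst ht
      rw [zero_smul, add_zero, smul_eq_zero] at hst
      exact ⟨hst.resolve_right v.2, rfl⟩
    · exfalso
      have hw : w.1 = (-(t⁻¹ * s)) • v.1 := by
        rw [neg_smul, ← smul_smul, eq_neg_of_add_eq_zero_left hst, smul_neg, neg_neg, inv_smul_smul₀ ht]
      have h0 : -(t⁻¹ * s) ≠ 0 := fun h0 => w.2 (by rw [hw, h0, zero_smul])
      exact h (Units.mk0 _ h0) hw.symm
  let e0 : X := ⟨Pi.single i0 1, by intro h; simpa using congrFun h i0⟩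
  let e1 : X := ⟨Pi.single i1 1, by intro h; simpa using congrFun h i1⟩
  have htrans : ∀ v : X, ∃ g : Matrix.SpecialLinearGroup (Fin n) F, g • e0 = v := by
    intro v
    obtain ⟨w, hw⟩ : ∃ w : X, ∀ a : Fˣ, (a : F) • v.1 ≠ w.1 := by
      by_contra! hcon
      obtain ⟨a, ha⟩ := hcon e0
      obtain ⟨b, hb⟩ := hcon e1
      have h0 := congrFun ha i0
      have h1 := congrFun hb i1
      have h2 := congrFun ha i1
      simp [e0, e1, i0, i1] at h0 h1 h2
      simp [h2] at h1
    obtain ⟨g, hg, -⟩ := key v.1 w.1 (hindep v w hw)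
    exact ⟨g, Subtype.ext ((hsmul g e0).trans hg)⟩
  have hone : ∀ (H : Type _) [Group H] [MulAction H X] (hh : ∀ v : X, ∃ h : H, h • e0 = v),
      Nat.card (Quotient (MulAction.orbitRel H X)) = 1 := by
    intro H _ _ hh
    rw [Nat.card_eq_one_iff_unique]
    refine ⟨⟨fun a b => ?_⟩, ⟨Quotient.mk _ e0⟩⟩
    induction a using Quotient.ind with | _ a =>
    induction b using Quotient.ind with | _ b =>
    obtain ⟨g, hg⟩ := hh a
    obtain ⟨h, hh'⟩ := hh b
    refine Quotient.sound ⟨g * h⁻¹, ?_⟩
    show (g * h⁻¹) • b = a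
    rw [← hg, ← hh', mul_smul, inv_smul_smul]
  have horbG := hone (Matrix.SpecialLinearGroup (Fin n) F) htrans
  have horb := hone (Matrix.SpecialLinearGroup (Fin n) F × Fˣ) (fun v => by
    obtain ⟨g, hg⟩ := htrans v
    exact ⟨(g, 1), hg⟩)
  have hrank : Nat.card (Quotient (MulAction.orbitRel (Matrix.SpecialLinearGroup (Fin n) F) (X × X))) =
      Nat.card Fˣ + 1 := by
    have e01 : ∀ a : Fˣ, (a : F) • e0.1 ≠ e1.1 := fun a h => by
      have := congrFun h i0
      simp [e0, e1, i0, i1] at this
    let φ : Option Fˣ → Quotient (MulAction.orbitRel (Matrix.SpecialLinearGroup (Fin n) F) (X × X)) := fun o =>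
      match o with
      | none => Quotient.mk _ (e0, e1)
      | some a => Quotient.mk _ (e0, ((1 : Matrix.SpecialLinearGroup (Fin n) F), a) • e0)
    have hval : ∀ a : Fˣ, (((1 : Matrix.SpecialLinearGroup (Fin n) F), a) • e0).1 = (a : F) • e0.1 := fun a => by
      show (a : F) • ((1 : Matrix.SpecialLinearGroup (Fin n) F) : Matrix (Fin n) (Fin n) F).mulVec e0.1 = _
      rw [Matrix.SpecialLinearGroup.coe_one, Matrix.one_mulVec]
    have hbij : Function.Bijective φ := by
      constructor
      · intro a b hab
        rcases a with _ | a <;> rcases b with _ | b <;> dsimp only [φ] at hab <;>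
          obtain ⟨g, hg⟩ := Quotient.exact hab
        · rfl
        · exfalso
          have h1 : g • e0 = e0 := congrArg Prod.fst hg
          have h2 : g • ((1 : Matrix.SpecialLinearGroup (Fin n) F), b) • e0 = e1 := congrArg Prod.snd hg
          refine e01 b ?_
          rw [← congrArg Subtype.val h2, hsmul, hval, Matrix.mulVec_smul, ← hsmul, h1]
        · exfalso
          have h1 : g • e0 = e0 := congrArg Prod.fst hg
          have h2 : g • e1 = ((1 : Matrix.SpecialLinearGroup (Fin n) F), a) • e0 := congrArg Prod.snd hg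
          have h3 : g • (((1 : Matrix.SpecialLinearGroup (Fin n) F), a) • e0) = ((1 : Matrix.SpecialLinearGroup (Fin n) F), a) • e0 :=
            Subtype.ext (by rw [hsmul, hval, Matrix.mulVec_smul, ← hsmul, h1])
          have h4 : e1 = ((1 : Matrix.SpecialLinearGroup (Fin n) F), a) • e0 :=
            MulAction.injective g (h2.trans h3.symm)
          exact e01 a ((hval a).symm.trans (congrArg Subtype.val h4.symm))
        · have h1 : g • e0 = e0 := congrArg Prod.fst hg
          have h2 : g • ((1 : Matrix.SpecialLinearGroup (Fin n) F), b) • e0 =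
              ((1 : Matrix.SpecialLinearGroup (Fin n) F), a) • e0 := congrArg Prod.snd hg
          have h3 := congrArg Subtype.val h2
          rw [hsmul, hval, hval, Matrix.mulVec_smul, ← hsmul, h1] at h3
          exact congrArg some (Units.ext (smul_left_injective F e0.2 h3).symm)
      · intro o
        induction o using Quotient.ind with | _ o =>
        obtain ⟨v, w⟩ := o
        by_cases h : ∃ a : Fˣ, (a : F) • v.1 = w.1
        · obtain ⟨a, ha⟩ := h
          obtain ⟨g, hg⟩ := htrans v
          refine ⟨some a, (Quotient.sound (s := MulAction.orbitRel (Matrix.SpecialLinearGroup (Fin n) F) (X × X)) ⟨g, Prod.ext hg (Subtype.ext ?_)⟩).symm⟩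
          show (g • ((1 : Matrix.SpecialLinearGroup (Fin n) F), a) • e0).1 = w.1
          rw [hsmul, hval, Matrix.mulVec_smul, ← hsmul, hg, ha]
        · obtain ⟨g, hg0, hg1⟩ := key v.1 w.1 (hindep v w (not_exists.mp h))
          exact ⟨none, (Quotient.sound (s := MulAction.orbitRel (Matrix.SpecialLinearGroup (Fin n) F) (X × X)) ⟨g, Prod.ext (Subtype.ext ((hsmul g e0).trans hg0))
            (Subtype.ext ((hsmul g e1).trans hg1))⟩).symm⟩
    rw [← Nat.card_congr (Equiv.ofBijective φ hbij), Finite.card_option]
  have hfree : ∀ a : Fˣ, a ≠ 1 → ∀ x : X, ((1 : Matrix.SpecialLinearGroup (Fin n) F), a) • x ≠ x := by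
    intro a ha x h
    have h1 : (a : F) • ((1 : Matrix.SpecialLinearGroup (Fin n) F) : Matrix (Fin n) (Fin n) F).mulVec x.1 = x.1 :=
      congrArg Subtype.val h
    rw [Matrix.SpecialLinearGroup.coe_one, Matrix.one_mulVec] at h1
    nth_rewrite 2 [← one_smul F x.1] at h1
    exact ha (Units.ext (smul_left_injective F x.2 h1))
  have hbig : Nat.card Fˣ < Nat.card X := by
    have hinj : Function.Injective (fun o : Option Fˣ =>
        (o.elim e1 (fun a => ((1 : Matrix.SpecialLinearGroup (Fin n) F), a) • e0))) := by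
      intro a b h
      have hv : ∀ a : Fˣ, (((1 : Matrix.SpecialLinearGroup (Fin n) F), a) • e0).1 = (a : F) • e0.1 := fun a => by
        show (a : F) • ((1 : Matrix.SpecialLinearGroup (Fin n) F) : Matrix (Fin n) (Fin n) F).mulVec e0.1 = _
        rw [Matrix.SpecialLinearGroup.coe_one, Matrix.one_mulVec]
      rcases a with _ | a <;> rcases b with _ | b
      · rfl
      · have := congrFun ((congrArg Subtype.val h).trans (hv b)) i1
        simp [e0, e1, i0, i1] at this
      · have := congrFun ((hv a).symm.trans (congrArg Subtype.val h)) i1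
        simp [e0, e1, i0, i1] at this
      · have := ((hv a).symm.trans (congrArg Subtype.val h)).trans (hv b)
        exact congrArg some (Units.ext (smul_left_injective F e0.2 this))
    have := Nat.card_le_card_of_injective _ hinj
    rw [Finite.card_option] at this
    omega
  obtain ⟨χ, h1, h2, h3⟩ := Agent.Lib.KnownA.PermSplit.exists_split (A := Fˣ) (X := X)
    (fun g x => rfl) hfree horb hrank horbG hbig
  have hcard : Nat.card Fˣ = Fintype.card F - 1 := by
    rw [Nat.card_units, Nat.card_eq_fintype_card]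
  refine ⟨fun i => χ (Fin.cast hcard.symm i), fun i => h1 _, h2.comp (Fin.cast_injective _), fun g => ?_⟩
  rw [Fintype.sum_equiv (finCongr hcard.symm) (fun i => χ (Fin.cast hcard.symm i) g) (fun i => χ i g) fun i => rfl,
    ← h3 g]
  refine Nat.cast_inj.mpr (Nat.card_congr
    { toFun := fun v => ⟨⟨v.1, v.2.1⟩, Subtype.ext ((hsmul g ⟨v.1, v.2.1⟩).trans v.2.2)⟩
      invFun := fun x => ⟨x.1.1, x.1.2, (hsmul g x.1).symm.trans (congrArg Subtype.val x.2)⟩
      left_inv := fun v => rfl
      right_inv := fun x => rfl })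

end Cfsg.Agent.S2336
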