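import Cfsg.Statements.S2337
import Cfsg.Agent.Lib.KnownA.SuzukiMinDeg
open Cfsg.Agent.Lib.KnownA

set_option autoImplicit false
set_option maxHeartbeats 400000
open Cfsg

namespace Cfsg.Agent.S2337

/-- For the Suzuki group Sz(q), q = 2^(2m+1) with m ≥ 1 (realised inside Sp₄ over the field with q elements), every irreducible complex representation of degree at least 2 has degree at least 2^m·(q − 1). -/
theorem result {F : Type*} [Field F] [Fintype F] (m : ℕ) (hm : 1 ≤ m) (hF : Fintype.card F = 2 ^ (2 * m + 1)) :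
    (∀ (k : ℕ) (ρ : Representation ℂ (Cfsg.Lie.Sz F (2 ^ (m + 1))) (Fin k → ℂ)), ρ.IsIrreducible → 2 ≤ k → 2 ^ m * (2 ^ (2 * m + 1) - 1) ≤ k) := by
  intro k ρ hirr hk
  classical
  haveI : Fact (Nat.Prime 2) := ⟨Nat.prime_two⟩
  haveI : CharP F 2 := charP_of_card_eq_prime_pow (f := 2 * m + 1) hF
  have hθ : ∀ x : F, szTh m (szTh m x) = x * x := fun x => by
    have h := FiniteField.pow_card x
    rw [hF] at h
    rw [szTh_apply, szTh_apply, ← pow_mul, ← pow_add, show m + 1 + (m + 1) = 2 * m + 1 + 1 by ring, pow_succ,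
      pow_mul, h, sq]
  have h8 : 8 ≤ Fintype.card F := by
    rw [hF]
    calc 8 = 2 ^ 3 := rfl
      _ ≤ _ := Nat.pow_le_pow_right (by norm_num) (by omega)
  obtain ⟨t, ht0, ht1⟩ : ∃ t : F, t ≠ 0 ∧ t ≠ 1 := by
    by_contra hcon
    push Not at hcon
    have := Finset.card_le_card (show (Finset.univ : Finset F) ⊆ {0, 1} from fun x _ => by
      rcases eq_or_ne x 0 with h | h
      · simp [h]
      · simp [hcon x h])
    have h2 : ({0, 1} : Finset F).card ≤ 2 := Finset.card_le_two
    rw [Finset.card_univ] at this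
    omega
  let u : F → F → ↥(Cfsg.Lie.Sz F (2 ^ (m + 1))) := fun a b => ⟨szU' hθ a b, szU'_mem hθ a b⟩
  have humul : ∀ a b a' b', u a b * u a' b' = u (a + a') (b + b' + szTh m a * a') :=
    fun a b a' b' => Subtype.ext (szU'_mul hθ a b a' b')
  have hu0 : u 0 0 = 1 := Subtype.ext (szU'_zero hθ)
  have hcomE : ∀ a b, u 0 b * u a 0 = u a 0 * u 0 b := fun a b => by
    rw [humul, humul]; simp
  have hne : ∃ b, ρ (u 0 b) ≠ 1 := by
    by_contra hcon
    push Not at hcon
    have htriv : ∀ g, ρ g = 1 := by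
      obtain ⟨N, hN⟩ : ∃ N : Subgroup ↥(Cfsg.Lie.Sz F (2 ^ (m + 1))), N = MonoidHom.ker ρ := ⟨_, rfl⟩
      have hNn : ∀ x ∈ N, ∀ y, y * x * y⁻¹ ∈ N := fun x hx y => by
        rw [hN] at hx ⊢
        exact (MonoidHom.normal_ker ρ).conj_mem x hx y
      have hle := sz_le_of_central hθ ⟨t, ht0, ht1⟩ (N.map (Cfsg.Lie.Sz F (2 ^ (m + 1))).subtype) ?_ ?_
      · intro g
        obtain ⟨x, hx, hxg⟩ := Subgroup.mem_map.mp (hle g.2)
        rw [show g = x from Subtype.ext hxg.symm]
        exact MonoidHom.mem_ker.mp (hN ▸ hx)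
      · intro g hg y hy
        obtain ⟨x, hx, rfl⟩ := Subgroup.mem_map.mp hy
        exact Subgroup.mem_map.mpr ⟨_, hNn x hx ⟨g, hg⟩, by simp only [map_mul, map_inv, Subgroup.coe_subtype]⟩
      · exact fun b => Subgroup.mem_map.mpr ⟨u 0 b, (by rw [hN]; exact MonoidHom.mem_ker.mpr (hcon b)), rfl⟩
    let S : Subrepresentation ρ :=
      { toSubmodule := Submodule.span ℂ {(Pi.single (⟨0, by omega⟩ : Fin k) (1 : ℂ))}
        apply_mem_toSubmodule := fun g v hv => by rw [htriv g]; exact hv }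
    haveI : IsSimpleOrder (Subrepresentation ρ) := hirr
    rcases eq_bot_or_eq_top S with h | h
    · have h' : S.toSubmodule = ⊥ := by rw [h]; rfl
      have : (Pi.single (⟨0, by omega⟩ : Fin k) (1 : ℂ) : Fin k → ℂ) = 0 := by
        refine (Submodule.mem_bot ℂ).mp ?_
        rw [← h']
        exact Submodule.mem_span_singleton_self _
      have := congrFun this ⟨0, by omega⟩
      simp at this
    · have h' : S.toSubmodule = ⊤ := by rw [h]; rfl
      have hm := (h' ▸ Submodule.mem_top : Pi.single (⟨1, by omega⟩ : Fin k) (1 : ℂ) ∈ S.toSubmodule)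
      obtain ⟨c, hc⟩ := Submodule.mem_span_singleton.mp hm
      have := congrFun hc ⟨1, by omega⟩
      simp [Pi.single_apply] at this
  have hmain := heisenberg_bound hθ hF (fun b => ρ (u 0 b)) (fun a => ρ (u a 0))
    (fun b c => by rw [← map_mul, humul]; simp) (by rw [hu0, map_one]) ?_ ?_ ?_ ?_ hne
  · rwa [Module.finrank_fin_fun] at hmain
  · intro s hs
    obtain ⟨r, hr⟩ := Finite.injective_iff_surjective.mp (szTh (F := F) m).injective s⁻¹
    have hr0 : r ≠ 0 := fun h => inv_ne_zero hs (by rw [← hr, h, map_zero])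
    let g : ↥(Cfsg.Lie.Sz F (2 ^ (m + 1))) := ⟨szH' hr0, szH'_mem hθ hr0⟩
    refine ⟨ρ g, fun v w h => ?_, fun b v => ?_⟩
    · have := congrArg (ρ g⁻¹) h
      simpa [← Module.End.mul_apply, ← map_mul] using this
    · have e : g * u 0 b = u 0 (s * b) * g := by
        refine Subtype.ext ?_
        show szH' hr0 * szU' hθ 0 b = szU' hθ 0 (s * b) * szH' hr0
        rw [szH'_mul_szU', zero_mul, zero_div, hr, div_inv_eq_mul, mul_comm]
      rw [← Module.End.mul_apply, ← map_mul, e, map_mul, Module.End.mul_apply]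
  · intro a v w h
    have := congrArg (ρ (u a 0)⁻¹) h
    simpa [← Module.End.mul_apply, ← map_mul] using this
  · intro a b v
    rw [← Module.End.mul_apply, ← map_mul, hcomE, map_mul, Module.End.mul_apply]
  · intro a a' v
    rw [← Module.End.mul_apply, ← map_mul, ← Module.End.mul_apply, ← map_mul, ← Module.End.mul_apply, ← map_mul]
    exact congrArg (fun x => ρ x v) (Subtype.ext ((sz_commutator hθ a a').trans (mul_assoc _ _ _).symm))

end Cfsg.Agent.S2337
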