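import Cfsg.Statements.S2355
import Cfsg.Agent.Lib.KnownA.WordClassical
open Cfsg.Agent.Lib.KnownA

set_option autoImplicit false
open Cfsg

namespace Cfsg.Agent.S2355

/-- A non-trivial law is satisfied by only finitely many finite simple groups that are alternating or classical, up to isomorphism: for every non-trivial element w of the free group on countably many generators there is a bound N such that every alternating group of degree ≥ 5 and every simple classical group (linear, symplectic, unitary or orthogonal, in this problem's sense) in which w is a law has order at most N. -/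
theorem result (w : FreeGroup ℕ) (hw : w ≠ 1) :
    ∃ N : ℕ, ∀ (G : Type*) [Group G] [Finite G],
      (Cfsg.IsAlternating G ∨ Cfsg.IsPSL G ∨ Cfsg.IsPSp G ∨ Cfsg.IsPSU G ∨ Cfsg.IsPOmegaOdd G ∨
          Cfsg.IsPOmegaPlus G ∨ Cfsg.IsPOmegaMinus G) →
      (∀ f : ℕ → G, FreeGroup.lift f w = 1) → Nat.card G ≤ N := by
  obtain ⟨N, hN4, h2, hA⟩ := exists_noncentral w hw
  refine ⟨wordBound N, fun G _ _ hG hlaw => ?_⟩
  by_contra hbig
  have key : ¬ NotLaw w G := fun ⟨f, hf⟩ => hf (hlaw f)
  have sqle : ∀ {q : ℕ}, q ≤ N → q ≤ N ^ 2 := fun h => h.trans (Nat.le_self_pow (by norm_num) N)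
  have valInj : ∀ {ι F : Type} [Fintype ι] [DecidableEq ι] [Field F]
      (Q : (ι → F) → F), Function.Injective (fun x : Cfsg.Omega F Q =>
        (((x : Cfsg.isometryGroup F Q) : Matrix.GeneralLinearGroup ι F) : Matrix ι ι F)) :=
    fun Q => Units.val_injective.comp (Subtype.val_injective.comp Subtype.val_injective)
  rcases hG with hG | hG | hG | hG | hG | hG | hG
  · obtain ⟨n, hn5, ⟨e⟩⟩ := hG
    by_cases hn : N ≤ n
    · obtain ⟨f, hf⟩ := hA n hn
      refine key (NotLaw.of_mulEquiv ⟨f, fun h => hf ?_⟩ e)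
      rw [h]; exact Subgroup.one_mem _
    · refine hbig ?_
      rw [Nat.card_congr e.toEquiv]
      refine (Nat.card_le_card_of_injective Subtype.val Subtype.val_injective).trans ?_
      rw [Nat.card_perm, Nat.card_eq_fintype_card, Fintype.card_fin]
      exact (Nat.factorial_le (by omega)).trans (Nat.le_add_right _ _)
  · obtain ⟨F, _, _, n, hn, -, ⟨e⟩⟩ := hG
    by_cases hb : N ≤ Fintype.card F ∨ N ≤ n
    · exact key ((notLaw_of_SL h2 hA hn hb (MonoidHom.id _) Function.injective_id).of_mulEquiv e)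
    · push Not at hb
      exact hbig (card_le_bound e (fun x => (x : Matrix (Fin n) (Fin n) F)) Subtype.val_injective
        (by rw [Fintype.card_fin]; omega) (sqle hb.1.le))
  · obtain ⟨F, _, _, m, hm, -, ⟨e⟩⟩ := hG
    by_cases hb : N ≤ Fintype.card F ∨ N ≤ m
    · obtain ⟨φ, hφ⟩ := exists_GL_to_Sp F m
      exact key ((notLaw_of_SL h2 hA hm hb (φ.comp Matrix.SpecialLinearGroup.toGL)
        (hφ.comp Matrix.SpecialLinearGroup.toGL_injective)).of_mulEquiv e)
    · push Not at hb
      exact hbig (card_le_bound e (fun x => (x : Matrix (Fin m ⊕ Fin m) (Fin m ⊕ Fin m) F)) Subtype.val_injective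
        (by rw [Fintype.card_sum, Fintype.card_fin]; omega) (sqle hb.1.le))
  · obtain ⟨F, _, _, n, q, hF, hn, -, ⟨e⟩⟩ := hG
    by_cases hb : N ≤ n
    · obtain ⟨φ, hφ⟩ := exists_alternating_to_SU hF n
      exact key ((notLaw_quotient_center φ hφ (hA n hb)).of_mulEquiv e)
    by_cases hb2 : N ≤ q
    · obtain ⟨p, k, hp, -, hq⟩ := Cfsg.Agent.Lib.Classical.exists_q_pow hF
      haveI := Fact.mk hp
      have hk : k ≠ 0 := by
        rintro rfl
        rw [pow_zero] at hq
        omega
      letI : Fintype (GaloisField p k) := Fintype.ofFinite _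
      have hK : Fintype.card (GaloisField p k) = q := by
        rw [← Nat.card_eq_fintype_card, GaloisField.card p k hk, hq]
      obtain ⟨r, rfl⟩ := Nat.exists_eq_add_of_le (show 2 ≤ n by omega)
      obtain ⟨φ, hφ⟩ := exists_SL2_to_SU hF hK r
      exact key ((notLaw_quotient_center φ hφ (h2 _ (by omega))).of_mulEquiv e)
    · exact hbig (card_le_bound e
        (fun x => ((x : Matrix.SpecialLinearGroup (Fin n) F) : Matrix (Fin n) (Fin n) F))
        (Subtype.val_injective.comp Subtype.val_injective)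
        (by rw [Fintype.card_fin]; omega) (by rw [hF]; exact Nat.pow_le_pow_left (by omega) 2))
  · obtain ⟨F, _, _, m, hm, -, ⟨e⟩⟩ := hG
    by_cases hb : N ≤ Fintype.card F ∨ N ≤ m
    · obtain ⟨φ, hφ⟩ := exists_GL_to_O_odd F m
      obtain ⟨ψ, hψ⟩ := exists_SL_to_commutator hm φ hφ
      exact key ((notLaw_of_SL h2 hA (by omega) hb ψ hψ).of_mulEquiv e)
    · push Not at hb
      exact hbig (card_le_bound e _ (valInj _)
        (by simp only [Fintype.card_sum, Fintype.card_unit, Fintype.card_fin]; omega) (sqle hb.1.le))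
  · obtain ⟨F, _, _, m, hm, ⟨e⟩⟩ := hG
    by_cases hb : N ≤ Fintype.card F ∨ N ≤ m
    · obtain ⟨φ, hφ⟩ := exists_GL_to_O_plus F m
      obtain ⟨ψ, hψ⟩ := exists_SL_to_commutator (by omega) φ hφ
      exact key ((notLaw_of_SL h2 hA (by omega) hb ψ hψ).of_mulEquiv e)
    · push Not at hb
      exact hbig (card_le_bound e _ (valInj _)
        (by simp only [Fintype.card_sum, Fintype.card_fin]; omega) (sqle hb.1.le))
  · obtain ⟨F, _, _, m, a, b, hm, -, ⟨e⟩⟩ := hG
    by_cases hb : N ≤ Fintype.card F ∨ N ≤ m - 1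
    · obtain ⟨φ, hφ⟩ := exists_GL_to_O_minus F (m - 1) a b
      obtain ⟨ψ, hψ⟩ := exists_SL_to_commutator (by omega) φ hφ
      exact key ((notLaw_of_SL h2 hA (by omega) hb ψ hψ).of_mulEquiv e)
    · push Not at hb
      exact hbig (card_le_bound e _ (valInj _)
        (by simp only [Fintype.card_sum, Fintype.card_fin]; omega) (sqle hb.1.le))

end Cfsg.Agent.S2355
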