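import Cfsg.Statements.S2362
import Cfsg.Agent.Lib.FusionControl.OrthThreeMain
import Cfsg.Agent.Lib.FusionControl.PrimitiveDivisor
import Cfsg.Agent.Lib.SpSpec.Absorb
import Cfsg.Agent.Lib.Geometry.GraphAut.Odd

set_option autoImplicit false
open Cfsg

namespace Cfsg.Agent.S2362

open Cfsg.Agent.Lib.Geometry in
open Cfsg.Agent.Lib.Geometry.GraphAut (oddMatrix quadFormOdd_eq det_oddGram) in
theorem no_element {F : Type*} [Field F] [Fintype F] (hodd : Odd (Fintype.card F)) {p r m e : ℕ}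
    [Fact p.Prime] [CharP F p] [Fact r.Prime] (hm : 2 ≤ m) (hp2 : p ≠ 2) (hr2 : r ≠ 2) (hrp : r ≠ p)
    (he : orderOf (Fintype.card F : ZMod r) = e)
    (hcase : (e = 2 * m ∧ Fintype.card F ^ m % 4 = 1) ∨ (e = m ∧ Odd m ∧ Fintype.card F ^ m % 4 = 3)) :
    2 * r * p ∉ Set.range (orderOf : Cfsg.POmega F (Cfsg.quadFormOdd (m + 1) F) → ℕ) := by
  rw [quadFormOdd_eq]
  set Q := matQuad (oddMatrix (m + 1) F) with hQdef
  have h2 := two_ne_zero_of_odd_card hodd
  have hQ : (QuadraticMap.polarBilin Q).Nondegenerate := polarBilin_matQuad_nondegenerate (by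
    rw [det_oddGram]; exact mul_ne_zero h2 (pow_ne_zero _ (neg_ne_zero.mpr one_ne_zero)))
  rintro ⟨g, hg⟩
  obtain ⟨a, rfl⟩ := QuotientGroup.mk_surjective g
  obtain ⟨b, hb⟩ := Cfsg.Agent.Lib.SpSpec.exists_orderOf_of_dvd
    (hg ▸ orderOf_map_dvd (QuotientGroup.mk' (Subgroup.center (Cfsg.Omega F ⇑Q))) a : 2 * r * p ∣ orderOf a)
  let f : ↥(Cfsg.Omega F ⇑Q) →* quadIsometries Q :=
    (isometryEquiv Q).toMonoidHom.comp (Cfsg.Omega F ⇑Q).subtype
  have hf : Function.Injective f := (isometryEquiv Q).injective.comp Subtype.val_injective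
  have hr : r.Prime := Fact.out
  have hp : p.Prime := Fact.out
  have hpow : ∀ d c : ℕ, 2 * r * p = d * c → d ≠ 0 → orderOf (f b ^ d) = c := fun d c h hd => by
    rw [orderOf_pow_of_dvd hd (by rw [orderOf_injective f hf, hb, h]; exact Dvd.intro c rfl),
      orderOf_injective f hf, hb, h, Nat.mul_div_cancel_left _ (Nat.pos_of_ne_zero hd)]
  have hcard : Fintype.card (Unit ⊕ (Fin (m + 1) ⊕ Fin (m + 1))) = 2 * m + 3 := by simp; omega
  have hmem := (mem_Omega_iff Q hQ h2 (by omega) _).mp (b ^ (r * p)).2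
  refine Cfsg.Agent.Lib.FusionControl.OrthThreeElements.not_three Q hQ h2 hm
    (by rw [Module.finrank_fintype_fun_eq_card]; omega) he hcase (f b ^ (2 * p)) (f b ^ (2 * r))
    (f b ^ (r * p)) ((Commute.refl _).pow_pow _ _) ((Commute.refl _).pow_pow _ _) ((Commute.refl _).pow_pow _ _)
    (hpow _ r (by ring) (Nat.mul_ne_zero two_ne_zero hp.ne_zero))
    (hpow _ p (by ring) (Nat.mul_ne_zero two_ne_zero hr.ne_zero))
    (hpow _ 2 (by ring) (Nat.mul_ne_zero hr.ne_zero hp.ne_zero)) ?_ ?_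
  · rw [← map_pow]; exact hmem.1
  · rw [← map_pow]; exact hmem.2

/-- Let F be a finite field of odd order and n ≥ 3. The simple orthogonal group PΩ(2n+1, F) (type B_n) and the projective symplectic group PSp(2n, F) (type C_n), which have the same order, do not have the same set of element orders. -/
theorem result {F : Type*} [Field F] [Fintype F] (hodd : Odd (Fintype.card F)) (n : ℕ) (hn : 3 ≤ n) :
    Set.range (orderOf : Cfsg.POmega F (Cfsg.quadFormOdd n F) → ℕ) ≠ Set.range (orderOf : Cfsg.PSp n F → ℕ) := by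
  classical
  obtain ⟨m, rfl⟩ : ∃ m, n = m + 1 := ⟨n - 1, by omega⟩
  have hm : 2 ≤ m := by omega
  obtain ⟨p, hchar⟩ := CharP.exists F
  haveI := hchar
  haveI hp : Fact p.Prime := ⟨CharP.char_is_prime F p⟩
  obtain ⟨f, -, hqf⟩ := FiniteField.card F p
  have hp2 : p ≠ 2 := by
    rintro rfl
    rw [hqf, Nat.odd_pow_iff f.ne_zero] at hodd
    exact absurd hodd (by decide)
  have h2 : (2 : F) ≠ 0 := Cfsg.Agent.Lib.Geometry.two_ne_zero_of_odd_card hodd
  set q := Fintype.card F with hq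
  have hq3 : 3 ≤ q := by
    have : 1 < q := Fintype.one_lt_card
    obtain ⟨k, hk⟩ := hodd
    omega
  have h13 : q ^ m % 4 = 1 ∨ (Odd m ∧ q ^ m % 4 = 3) := by
    rcases Nat.even_or_odd m with hme | hmo
    · left
      obtain ⟨k, rfl⟩ := hme
      obtain ⟨u, hu⟩ := (hodd.pow : Odd (q ^ k))
      rw [pow_add, hu, show (2 * u + 1) * (2 * u + 1) = 4 * (u * u + u) + 1 by ring]
      omega
    · obtain ⟨u, hu⟩ := (hodd.pow : Odd (q ^ m))
      rcases (show q ^ m % 4 = 1 ∨ q ^ m % 4 = 3 by omega) with h | h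
      · exact Or.inl h
      · exact Or.inr ⟨hmo, h⟩
  obtain ⟨e, he3, hcase⟩ : ∃ e, 3 ≤ e ∧ ((e = 2 * m ∧ q ^ m % 4 = 1) ∨ (e = m ∧ Odd m ∧ q ^ m % 4 = 3)) := by
    rcases h13 with h | ⟨hmo, h⟩
    · exact ⟨2 * m, by omega, Or.inl ⟨rfl, h⟩⟩
    · exact ⟨m, by obtain ⟨k, hk⟩ := hmo; omega, Or.inr ⟨rfl, hmo, h⟩⟩
  obtain ⟨r, hr, hord⟩ := Cfsg.Agent.Lib.FusionControl.PrimitiveDivisor.exists_primitive hq3 he3
  haveI : Fact r.Prime := ⟨hr⟩
  have hq0 : (q : ZMod r) ≠ 0 := fun h => by rw [h, orderOf_zero] at hord; omega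
  have hr2 : r ≠ 2 := by
    rintro rfl
    have := Nat.le_of_dvd one_pos (hord ▸ ZMod.orderOf_dvd_card_sub_one hq0)
    omega
  have hrp : r ≠ p := by
    rintro rfl
    exact hq0 (by rw [hqf, Nat.cast_pow, ZMod.natCast_self, zero_pow f.ne_zero])
  have hdiv : r ∣ q ^ m - 1 ∨ r ∣ q ^ m + 1 := by
    have hqm : ((q : ZMod r) ^ m) ^ 2 = 1 := by
      rw [← pow_mul, ← orderOf_dvd_iff_pow_eq_one, hord]
      rcases hcase with ⟨rfl, -⟩ | ⟨rfl, -, -⟩
      · rw [mul_comm]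
      · exact Dvd.intro 2 rfl
    rcases sq_eq_one_iff.mp hqm with h | h
    · left
      rw [← ZMod.natCast_eq_zero_iff, Nat.cast_sub (Nat.one_le_pow _ _ (by omega)), Nat.cast_pow, Nat.cast_one,
        h, sub_self]
    · right
      rw [← ZMod.natCast_eq_zero_iff, Nat.cast_add, Nat.cast_pow, Nat.cast_one, h, neg_add_cancel]
  intro heq
  obtain ⟨y, hy⟩ := Cfsg.Agent.Lib.SpSpec.exists_mixed (F := F) (p := p) h2 (n := m + 1) (d := m) (e := r) (j := 0)
    (by omega) (by omega) (hr.odd_of_ne_two hr2)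
    ((Nat.coprime_primes hp.out hr).mpr (Ne.symm hrp)) hdiv (by simp)
  rw [zero_add, pow_one] at hy
  obtain ⟨z, hz⟩ := Cfsg.Agent.Lib.SpSpec.exists_orderOf_of_dvd hy
  refine no_element hodd hm hp2 hr2 hrp hord hcase ?_
  rw [heq]
  exact ⟨z, hz⟩

end Cfsg.Agent.S2362
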