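import Cfsg.Statements.S2364
import Cfsg.Agent.Lib.KnownA.CentralizerUnipotent
set_option autoImplicit false
open Cfsg

namespace Cfsg.Agent.S2364

/-- Let F be a finite field of characteristic p, n ≥ 4, and let a, b be commuting elements of PSL(n, F) with a of order p. Then every prime divisor of the order of b divides the order of SL(n − 2, F). -/
theorem result {F : Type*} [Field F] [Fintype F] (p : ℕ) [Fact p.Prime] [CharP F p] (n : ℕ) (hn : 4 ≤ n)
    (a b : Matrix.ProjectiveSpecialLinearGroup (Fin n) F) (ha : orderOf a = p) (hab : Commute a b) :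
    (orderOf b).primeFactors ⊆ (Nat.card (Matrix.SpecialLinearGroup (Fin (n - 2)) F)).primeFactors := by
  classical
  have hp : p.Prime := Fact.out
  intro r hr
  rw [Nat.mem_primeFactors] at hr
  obtain ⟨hrp, hrb, -⟩ := hr
  haveI : Fact r.Prime := ⟨hrp⟩
  have hq1 : 1 < Fintype.card F := Fintype.one_lt_card
  rw [Nat.mem_primeFactors]
  refine ⟨hrp, ?_, Nat.card_pos.ne'⟩
  rw [Agent.Lib.Classical.card_SL_formula]
  by_cases hrq : r ∣ Fintype.card F
  · refine dvd_mul_of_dvd_left (hrq.trans (dvd_pow_self _ ?_)) _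
    have h2 : 2 ≤ (n - 2) * (n - 2 - 1) := Nat.mul_le_mul (show 2 ≤ n - 2 by omega) (show 1 ≤ n - 2 - 1 by omega)
    omega
  refine dvd_mul_of_dvd_right ?_ _
  haveI : NeZero n := ⟨by omega⟩
  obtain ⟨A, rfl⟩ := QuotientGroup.mk_surjective a
  obtain ⟨B, rfl⟩ := QuotientGroup.mk_surjective b
  have hpF : p ∣ Fintype.card F := by
    obtain ⟨⟨e, he⟩, -, hc⟩ := FiniteField.card F p
    rw [hc]; exact dvd_pow_self p he.ne'
  have hcen : ∀ z ∈ Subgroup.center (Matrix.SpecialLinearGroup (Fin n) F),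
      z ^ (Fintype.card F - 1) = 1 := by
    intro z hz
    obtain ⟨c, hcn, hc⟩ := Matrix.SpecialLinearGroup.mem_center_iff.mp hz
    apply Subtype.ext
    rw [Matrix.SpecialLinearGroup.coe_pow, ← hc, ← map_pow, FiniteField.pow_card_sub_one_eq_one, map_one]
    · rfl
    · rintro rfl
      rw [Fintype.card_fin, zero_pow (show n ≠ 0 by omega)] at hcn
      exact zero_ne_one hcn
  have hcp : ¬ p ∣ Fintype.card F - 1 := fun h => by
    have h' := Nat.dvd_sub hpF h
    rw [Nat.sub_sub_self hq1.le] at h'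
    exact hp.not_dvd_one h'
  set c := Fintype.card F - 1 with hcdef
  let u := A ^ c
  have hAp : A ^ p ∈ Subgroup.center (Matrix.SpecialLinearGroup (Fin n) F) := by
    rw [← QuotientGroup.eq_one_iff, QuotientGroup.mk_pow, ← ha, pow_orderOf_eq_one]
  have hup : u ^ p = 1 := by
    show (A ^ c) ^ p = 1
    rw [← pow_mul, mul_comm, pow_mul, hcen _ hAp]
  have hu1 : u ≠ 1 := fun h => by
    have h' : (QuotientGroup.mk A : Matrix.ProjectiveSpecialLinearGroup (Fin n) F) ^ c = 1 := by
      rw [← QuotientGroup.mk_pow, show A ^ c = 1 from h, QuotientGroup.mk_one]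
    exact hcp (ha ▸ orderOf_dvd_of_pow_eq_one h')
  have hBu : B * u = u * B := by
    have hk : B * u * B⁻¹ * u⁻¹ ∈ Subgroup.center (Matrix.SpecialLinearGroup (Fin n) F) := by
      rw [← QuotientGroup.eq_one_iff, QuotientGroup.mk_mul, QuotientGroup.mk_mul, QuotientGroup.mk_mul,
        QuotientGroup.mk_inv, QuotientGroup.mk_inv, QuotientGroup.mk_pow, ((hab.pow_left c).symm).eq,
        mul_inv_cancel_right, mul_inv_cancel]
    set κ := B * u * B⁻¹ * u⁻¹ with hκ
    have h1 : κ ^ p = 1 := by
      have hcu : Commute κ u := (Subgroup.mem_center_iff.mp hk u).symm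
      have : (κ * u) ^ p = 1 := by
        rw [hκ, inv_mul_cancel_right, conj_pow, hup, mul_one, mul_inv_cancel]
      rwa [hcu.mul_pow, hup, mul_one] at this
    have h2 := pow_gcd_eq_one.mpr ⟨h1, hcen κ hk⟩
    rw [(hp.coprime_iff_not_dvd.mpr hcp : Nat.gcd p c = 1), pow_one] at h2
    have h3 : κ * u * B = B * u := by rw [hκ]; group
    rw [h2, one_mul] at h3
    exact h3.symm
  obtain ⟨k, hk⟩ : r ∣ orderOf B := hrb.trans (orderOf_map_dvd (QuotientGroup.mk' _) B)
  let g := B ^ k
  have hBpos : 0 < orderOf B := orderOf_pos B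
  have hk0 : k ≠ 0 := fun h => by rw [h, mul_zero] at hk; omega
  have hgo : orderOf g = r := by
    rw [orderOf_pow' _ hk0, hk, Nat.gcd_eq_right (dvd_mul_left k r), Nat.mul_div_cancel _ (Nat.pos_of_ne_zero hk0)]
  let L : Matrix.SpecialLinearGroup (Fin n) F →* Module.End F (Fin n → F) :=
    { toFun := fun x => Matrix.toLinAlgEquiv' (x : Matrix (Fin n) (Fin n) F)
      map_one' := map_one _
      map_mul' := fun x y => map_mul _ _ _ }
  have hL : Function.Injective L := fun x y h =>
    Subtype.ext ((Matrix.toLinAlgEquiv' (R := F) (n := Fin n)).injective h)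
  haveI : CharP (Module.End F (Fin n → F)) p :=
    charP_of_injective_algebraMap (algebraMap F (Module.End F (Fin n → F))).injective p
  have hrF : (r : F) ≠ 0 := by
    intro h
    have := (CharP.cast_eq_zero_iff F p r).mp h
    exact hrq ((Nat.prime_dvd_prime_iff_eq hp hrp).mp this ▸ hpF)
  have key := Agent.Lib.KnownA.CentUnip.ord_le (r := r) rfl hrq hrF (L g) (L u - 1)
    (by rw [← map_pow, ← hgo, pow_orderOf_eq_one, map_one])
    (fun h => by
      have : g = 1 := hL (h.trans (map_one L).symm)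
      rw [this, orderOf_one] at hgo
      exact hrp.ne_one hgo.symm)
    ⟨p, by rw [sub_pow_char_of_commute (p := p) (h := Commute.one_right _), one_pow, ← map_pow, hup, map_one, sub_self]⟩
    (fun h => hu1 (hL ((sub_eq_zero.mp h).trans (map_one L).symm)))
    (by rw [mul_sub, sub_mul, mul_one, one_mul, ← map_mul, ← map_mul, ((Commute.pow_left (show Commute B u from hBu) k)).eq])
    (by rw [Module.finrank_fintype_fun_eq_card, Fintype.card_fin]; omega)
  rw [Module.finrank_fintype_fun_eq_card, Fintype.card_fin] at key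
  set d := orderOf (Fintype.card F : ZMod r) with hd
  have hd0 : 0 < d := Agent.Lib.KnownA.SylowTori.ord_pos hrq
  -- a multiple of `d` between 2 and `n - 2`
  obtain ⟨i, hi, hdi⟩ : ∃ i, i < n - 2 - 1 ∧ d ∣ i + 2 := by
    by_cases h1 : d = 1
    · exact ⟨0, by omega, h1 ▸ one_dvd _⟩
    · exact ⟨d - 2, by omega, by rw [Nat.sub_add_cancel (by omega)]⟩
  exact ((Agent.Lib.KnownA.SylowTori.dvd_pow_sub_one_iff (by omega) (i + 2)).mpr hdi).trans
    (Finset.dvd_prod_of_mem _ (Finset.mem_range.mpr hi))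

end Cfsg.Agent.S2364
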