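import Cfsg.Statements.S2365
import Cfsg.Agent.Lib.KnownA.UnitaryRoots

set_option autoImplicit false
open Cfsg

namespace Cfsg.Agent.S2365

/-- A lift of the same prime order. -/
theorem exists_lift {G : Type*} [Group G] [Finite G] {s : ℕ} (hs : s.Prime)
    (hcop : ¬ s ∣ Nat.card (Subgroup.center G)) {x : G ⧸ Subgroup.center G} (hx : orderOf x = s) :
    ∃ (X : G) (k : ℕ), orderOf X = s ∧ (QuotientGroup.mk X : G ⧸ Subgroup.center G) = x ^ k := by
  haveI := Fact.mk hs
  obtain ⟨Y, rfl⟩ := QuotientGroup.mk_surjective x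
  refine ⟨Y ^ Nat.card (Subgroup.center G), Nat.card (Subgroup.center G), ?_, QuotientGroup.mk_pow _ _ _⟩
  have hY : Y ^ s ∈ Subgroup.center G := by
    rw [← QuotientGroup.eq_one_iff, QuotientGroup.mk_pow, ← hx, pow_orderOf_eq_one]
  refine orderOf_eq_prime ?_ ?_
  · rw [← pow_mul, mul_comm, pow_mul]
    exact congrArg Subtype.val (pow_card_eq_one' (x := (⟨Y ^ s, hY⟩ : Subgroup.center G)))
  · intro h
    have h' := congrArg (QuotientGroup.mk : G → G ⧸ Subgroup.center G) h
    rw [QuotientGroup.mk_pow, QuotientGroup.mk_one, ← orderOf_dvd_iff_pow_eq_one, hx] at h'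
    exact hcop h'

/-- Let q be a power of the prime p, F the field with q² elements, m ≥ 4, and let a, b be commuting elements of PSU(m, q) with a of order p. Then every prime divisor of the order of b divides the order of SU(m − 2, q). -/
theorem result {F : Type*} [Field F] [Fintype F] (p : ℕ) [Fact p.Prime] [CharP F p] (m q : ℕ) (hm : 4 ≤ m) (hF : Fintype.card F = q ^ 2)
    (a b : Cfsg.PSU m F q) (ha : orderOf a = p) (hab : Commute a b) :
    (orderOf b).primeFactors ⊆ (Nat.card ↥(Cfsg.SU (m - 2) F q)).primeFactors := by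
  classical
  have hpp : p.Prime := Fact.out
  obtain ⟨k, hk⟩ : ∃ k, m - 2 = k + 2 := ⟨m - 4, by omega⟩
  have hq2 := Cfsg.Agent.Lib.Classical.two_le_q hF
  have hqp : ∃ i, q = p ^ i := by
    obtain ⟨n, -, hc⟩ := FiniteField.card F p
    obtain ⟨i, -, hi⟩ := (Nat.dvd_prime_pow hpp).1
      (hc ▸ hF ▸ Dvd.intro_left q (sq q).symm : q ∣ p ^ (n : ℕ))
    exact ⟨i, hi⟩
  have hpq : p ∣ q := by
    obtain ⟨i, hi⟩ := hqp
    rcases Nat.eq_zero_or_pos i with h0 | h0
    · rw [h0] at hi; simp at hi; omega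
    · rw [hi]; exact dvd_pow_self p h0.ne'
  have hSU := Cfsg.Agent.Lib.Classical.card_SU hF (n := m - 2) (by omega)
  rw [Cfsg.Agent.Lib.Classical.card_GU hF] at hSU
  set P : ℕ := ∏ i ∈ Finset.range (m - 2), (if Even i then q ^ (i + 1) + 1 else q ^ (i + 1) - 1) with hP
  intro r hr
  rw [Nat.mem_primeFactors] at hr ⊢
  obtain ⟨hr, hrb, hb0⟩ := hr
  refine ⟨hr, ?_, Nat.card_pos.ne'⟩
  haveI := Fact.mk hr
  by_cases hr2 : r ∣ q ^ 2 - 1
  · have hdvd : (q + 1) * (q ^ 2 - 1) ∣ P := by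
      rw [hP, hk, Finset.prod_range_succ', Finset.prod_range_succ']
      simp only [zero_add, Even.zero, if_true, Nat.not_even_one, if_false, pow_one]
      exact mul_comm (q + 1) (q ^ 2 - 1) ▸ mul_dvd_mul_right (dvd_mul_left _ _) _
    have h := hdvd.mul_left (q ^ ((m - 2) * (m - 2 - 1) / 2))
    have h' : (q + 1) * (q ^ 2 - 1) ∣ (q + 1) * Nat.card ↥(Cfsg.SU (m - 2) F q) := hSU ▸ h
    exact hr2.trans (Nat.dvd_of_mul_dvd_mul_left (by omega) h')
  have hrq : ¬ r ∣ q + 1 := fun h => hr2 (h.trans ⟨q - 1, by rw [← Nat.sq_sub_sq, one_pow]⟩)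
  have hcop : Nat.Coprime r (q + 1) := (Nat.Prime.coprime_iff_not_dvd hr).2 hrq
  have key : r ∣ q ^ ((m - 2) * (m - 2 - 1) / 2) * P := by
    by_cases hrp : r = p
    · subst hrp
      refine Dvd.dvd.mul_right ?_ _
      refine hpq.trans (dvd_pow_self q ?_)
      rw [hk, show k + 2 - 1 = k + 1 by omega]
      have : 2 * 1 ≤ (k + 2) * (k + 1) := Nat.mul_le_mul (by omega) (by omega)
      omega
    have hZ : Nat.card (Subgroup.center (Cfsg.SU m F q)) = Nat.gcd m (q + 1) :=
      Cfsg.Agent.Lib.Classical.card_center_SU hF (by omega)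
    have hpZ : ¬ p ∣ Nat.card (Subgroup.center (Cfsg.SU m F q)) := fun h => by
      rw [hZ] at h
      have h1 := Nat.dvd_sub (h.trans (Nat.gcd_dvd_right _ _)) hpq
      rw [Nat.add_sub_cancel_left] at h1
      exact hpp.ne_one (Nat.dvd_one.1 h1)
    have hrZ : ¬ r ∣ Nat.card (Subgroup.center (Cfsg.SU m F q)) := fun h =>
      hrq ((hZ ▸ h).trans (Nat.gcd_dvd_right _ _))
    obtain ⟨U, i, hU, hUe⟩ := exists_lift hpp hpZ ha
    have hb' : orderOf (b ^ (orderOf b / r)) = r := by
      have hbpos : 0 < orderOf b := Nat.pos_of_ne_zero hb0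
      rw [orderOf_pow_of_dvd (Nat.div_pos (Nat.le_of_dvd hbpos hrb) hr.pos).ne' (Nat.div_dvd_of_dvd hrb),
        Nat.div_div_self hrb hb0]
    obtain ⟨B, j, hB, hBe⟩ := exists_lift hr hrZ hb'
    have hc : Commute B U := by
      set c := B * U * B⁻¹ * U⁻¹ with hcdef
      have hcz : c ∈ Subgroup.center (Cfsg.SU m F q) := by
        rw [← QuotientGroup.eq_one_iff, hcdef]
        simp only [QuotientGroup.mk_mul, QuotientGroup.mk_inv, hUe, hBe]
        rw [(((hab.pow_left i).pow_right (orderOf b / r)).pow_right j).symm.eq]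
        group
      have hUc : c * U = B * U * B⁻¹ := by rw [hcdef]; group
      have hcp : c ^ p = 1 := by
        have h1 : (c * U) ^ p = 1 := by
          rw [hUc, conj_pow, ← hU, pow_orderOf_eq_one, mul_one, mul_inv_cancel]
        have hcomm : Commute c U := (Subgroup.mem_center_iff.1 hcz U).symm
        rw [hcomm.mul_pow, ← hU, pow_orderOf_eq_one, mul_one] at h1
        rw [← hU]; exact h1
      have hcz' : c ^ Nat.card (Subgroup.center (Cfsg.SU m F q)) = 1 :=
        congrArg Subtype.val (pow_card_eq_one' (x := (⟨c, hcz⟩ : Subgroup.center (Cfsg.SU m F q))))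
      have hc1 : c = 1 := orderOf_eq_one_iff.1 (Nat.eq_one_of_dvd_coprimes
        (hpp.coprime_iff_not_dvd.2 hpZ) (orderOf_dvd_of_pow_eq_one hcp) (orderOf_dvd_of_pow_eq_one hcz'))
      rw [hc1, one_mul, eq_mul_inv_iff_mul_eq] at hUc
      exact hUc.symm
    have hle := Cfsg.Agent.Lib.KnownA.UnitaryRoots.orderOf_neg_le p hF (by omega) hr hrp hrq hr2 hB hU hc
    set e := orderOf (-(q : ZMod r)) with he
    have hepos : 0 < e := by
      rw [he, orderOf_pos_iff]
      have hqr : (q : ZMod r) ≠ 0 := by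
        obtain ⟨i, hi⟩ := hqp
        rw [Ne, ZMod.natCast_eq_zero_iff, hi]
        exact fun h => hrp ((Nat.prime_dvd_prime_iff_eq hr hpp).1 (hr.dvd_of_dvd_pow h))
      exact isOfFinOrder_iff_pow_eq_one.2 ⟨r - 1, by have := hr.two_le; omega,
        ZMod.pow_card_sub_one_eq_one (neg_ne_zero.2 hqr)⟩
    refine Dvd.dvd.mul_left ?_ _
    refine Dvd.dvd.trans ?_ (Finset.dvd_prod_of_mem _ (Finset.mem_range.2 (show e - 1 < m - 2 by omega)))
    rw [Nat.sub_add_cancel hepos]
    have hpe : (q : ZMod r) ^ e = (-1) ^ e := by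
      conv_lhs => rw [← neg_neg (q : ZMod r), neg_pow, pow_orderOf_eq_one, mul_one]
    split_ifs with hev
    · rw [← ZMod.natCast_eq_zero_iff, Nat.cast_add, Nat.cast_pow, hpe, Nat.cast_one]
      have : Odd e := by
        have := hev.add_one
        rwa [Nat.sub_add_cancel (show 1 ≤ e from hepos)] at this
      rw [this.neg_one_pow, neg_add_cancel]
    · rw [← ZMod.natCast_eq_zero_iff, Nat.cast_sub (Nat.one_le_pow _ _ (by omega)), Nat.cast_pow, hpe, Nat.cast_one]
      have : Even e := by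
        rw [Nat.not_even_iff_odd] at hev
        have := hev.add_one
        rwa [Nat.sub_add_cancel (show 1 ≤ e from hepos)] at this
      rw [this.neg_one_pow, sub_self]
  rw [← hSU] at key
  exact hcop.dvd_of_dvd_mul_left key

end Cfsg.Agent.S2365
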