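import Cfsg.Statements.S2366
import Cfsg.Agent.Lib.SuSpec.Elements
import Mathlib

set_option autoImplicit false
open Cfsg

namespace Cfsg.Agent.S2366

set_option linter.all false
open Polynomial
open Cfsg.Agent.Lib.Classical (conjHom conjHom_apply conjHom_conjHom two_le_q exists_q_pow)
open Cfsg.Agent.Lib.SuSpec (adj adj_mul adj_algebraMap mat mat_adj mat_pow mem_of_adj mk_pow_eq_one)
open scoped Matrix

section

variable {F : Type*} [Field F] [Fintype F] {q : ℕ}

local notation "M3" => Matrix (Fin 3) (Fin 3) F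
local notation "SU3" => Cfsg.SU 3 F q
local notation "PSU3" => Cfsg.PSU 3 F q

/-- The projection. -/
def proj (x : SU3) : PSU3 := QuotientGroup.mk x

theorem mat_det (x : SU3) : (mat x).det = 1 := x.1.2

theorem scalar_facts (hF : Fintype.card F = q ^ 2) {x : SU3} {k : ℕ} {c : F}
    (h : mat x ^ k = algebraMap F M3 c) : c ^ Nat.gcd 3 (q + 1) = 1 := by
  have h3 : c ^ 3 = 1 := by
    have := congrArg Matrix.det h
    rw [Matrix.det_pow, mat_det, one_pow, Matrix.algebraMap_eq_diagonal, Matrix.det_diagonal] at this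
    simpa using this.symm
  have h4 : c ^ (q + 1) = 1 := by
    have := mat_adj hF (x ^ k)
    rw [mat_pow, h, adj_algebraMap, ← map_mul, conjHom_apply, ← pow_succ] at this
    exact (algebraMap F M3).injective (this.trans (map_one _).symm)
  exact pow_gcd_eq_one.2 ⟨h3, h4⟩

theorem order_dvd (hF : Fintype.card F = q ^ 2) {x : SU3} {k : ℕ} {c : F}
    (h : (mat x).charpoly ∣ X ^ k - C c) : orderOf (proj x) ∣ k := by
  obtain ⟨r, hr⟩ := h
  have := congrArg (aeval (mat x)) hr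
  rw [map_mul, Matrix.aeval_self_charpoly, zero_mul, map_sub, map_pow, aeval_X, aeval_C,
    sub_eq_zero] at this
  exact orderOf_dvd_of_pow_eq_one ((mk_pow_eq_one hF (by norm_num) x k).2 ⟨c, this⟩)

theorem realise (hF : Fintype.card F = q ^ 2) {N : ℕ} (x : SU3)
    (h : ∀ k c, c ^ Nat.gcd 3 (q + 1) = 1 → mat x ^ k = algebraMap F M3 c → N ∣ k)
    {m : ℕ} (hm : m ∣ N) : ∃ y : PSU3, orderOf y = m := by
  haveI : Finite PSU3 := inferInstance
  obtain ⟨c, hc⟩ := (mk_pow_eq_one hF (by norm_num) x _).1 (pow_orderOf_eq_one (proj x))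
  have hd : m ∣ orderOf (proj x) := hm.trans (h _ _ (scalar_facts hF hc) hc)
  exact ⟨proj x ^ (orderOf (proj x) / m),
    orderOf_pow_orderOf_div (orderOf_pos _).ne' hd⟩

theorem frob_q (p : ℕ) [Fact p.Prime] [hcp : CharP F p] (hF : Fintype.card F = q ^ 2) :
    ∃ r : ℕ, q = p ^ r ∧ r ≠ 0 := by
  obtain ⟨p', r, hp', hc', hqr⟩ := exists_q_pow hF
  obtain rfl : p' = p := CharP.eq F hc' hcp
  refine ⟨r, hqr, fun h => ?_⟩
  have := two_le_q hF
  rw [hqr, h, pow_zero] at this
  omega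

/-- The inverse conjugate of a root of the characteristic polynomial is a root. -/
theorem star_root (p : ℕ) [Fact p.Prime] [CharP F p] (hF : Fintype.card F = q ^ 2) (x : SU3)
    {L : Type*} [Field L] [Algebra F L] {z : L} (hz : aeval z (mat x).charpoly = 0) :
    z ≠ 0 ∧ aeval (z ^ q)⁻¹ (mat x).charpoly = 0 := by
  obtain ⟨r, hqr, -⟩ := frob_q p hF
  haveI : CharP L p := charP_of_injective_algebraMap (algebraMap F L).injective p
  haveI : ExpChar L p := ExpChar.prime Fact.out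
  let φ : L →+* L := iterateFrobenius L p r
  have hφ : ∀ y, φ y = y ^ q := fun y => by rw [hqr]; exact iterateFrobenius_def p r y
  have key : ∀ (w : L) (A : M3), aeval w A.charpoly =
      (Matrix.scalar (Fin 3) w - A.map (algebraMap F L)).det := fun w A => by
    rw [aeval_def, ← eval_map, ← Matrix.charpoly_map, Matrix.eval_charpoly]
  set A := (mat x).map (algebraMap F L) with hA
  set B := (adj (conjHom hF) (mat x)).map (algebraMap F L) with hB
  have hBA : B * A = 1 := by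
    rw [hA, hB, ← Matrix.map_mul, mat_adj hF x, Matrix.map_one _ (map_zero _) (map_one _)]
  have hdetA : A.det = 1 := by
    rw [hA, ← RingHom.mapMatrix_apply, ← RingHom.map_det, mat_det, map_one]
  have hz' := (key z (mat x)).symm.trans hz
  have hz0 : z ≠ 0 := by
    rintro rfl
    rw [map_zero, zero_sub, Matrix.det_neg, hdetA] at hz'
    simp at hz'
  refine ⟨hz0, ?_⟩
  have h1 : (Matrix.scalar (Fin 3) z⁻¹ - B).det = 0 := by
    have e : Matrix.scalar (Fin 3) z⁻¹ - B =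
        (-z⁻¹) • (B * (Matrix.scalar (Fin 3) z - A)) := by
      rw [mul_sub, hBA, Matrix.scalar_apply, Matrix.scalar_apply, ← Matrix.smul_one_eq_diagonal,
        ← Matrix.smul_one_eq_diagonal, mul_smul_comm, mul_one, smul_sub, neg_smul, neg_smul,
        smul_smul, inv_mul_cancel₀ hz0, one_smul]
      abel
    rw [e, Matrix.det_smul, Matrix.det_mul, show (Matrix.scalar (Fin 3) z - A).det = 0 from hz',
      mul_zero, mul_zero]
  have h2 := congrArg φ h1
  rw [map_zero, RingHom.map_det, map_sub, ← Matrix.det_transpose] at h2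
  rw [key, ← h2]
  congr 1
  have hq0 : q ≠ 0 := by have := two_le_q hF; omega
  ext i j
  by_cases hij : i = j
  · subst hij
    simp [hB, adj, hφ, conjHom_apply, ← map_pow, ← pow_mul, ← pow_two, ← hF, inv_pow,
      FiniteField.pow_card]
  · simp [hB, adj, hφ, conjHom_apply, ← map_pow, ← pow_mul, ← pow_two, ← hF, inv_pow,
      FiniteField.pow_card, hij, Ne.symm hij, zero_pow hq0]

theorem root_of_unity_mem {L : Type*} [Field L] [Algebra F L] {d : ℕ}
    (hd : d ∣ Fintype.card F - 1) {z : L} (hz : z ^ d = 1) : ∃ c : F, algebraMap F L c = z := by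
  classical
  obtain ⟨u, hu⟩ := IsCyclic.exists_ofOrder_eq_natCard (α := Fˣ)
  have hcard : orderOf u = Fintype.card F - 1 := by
    rw [hu, Nat.card_units, Nat.card_eq_fintype_card]
  have hpos : 0 < Fintype.card F - 1 := by
    have := Fintype.one_lt_card (α := F); omega
  haveI : NeZero d := ⟨fun h => by rw [h, zero_dvd_iff] at hd; omega⟩
  obtain ⟨e, he⟩ := hd
  have hprim : IsPrimitiveRoot (u : F) (Fintype.card F - 1) := by
    rw [← hcard]; exact IsPrimitiveRoot.coe_units_iff.2 (IsPrimitiveRoot.orderOf u)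
  have hw : IsPrimitiveRoot ((u : F) ^ e) d := hprim.pow hpos (by rw [mul_comm]; exact he)
  obtain ⟨i, -, hi⟩ := (hw.map_of_injective (algebraMap F L).injective).eq_pow_of_pow_eq_one hz
  exact ⟨((u : F) ^ e) ^ i, by rw [map_pow]; exact hi⟩

theorem gcd_pos : 0 < Nat.gcd 3 (q + 1) := Nat.gcd_pos_of_pos_left _ (by norm_num)

theorem succ_dvd_card (hF : Fintype.card F = q ^ 2) : q + 1 ∣ Fintype.card F - 1 :=
  hF ▸ ⟨q - 1, by rw [← Nat.sq_sub_sq, one_pow]⟩

theorem singer_eq (hq : 1 ≤ q) : q ^ 2 - q + 1 = q * (q - 1) + 1 := by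
  rw [Nat.mul_sub_one, pow_two]

theorem gcd_dvd_singer (hq : 1 ≤ q) : Nat.gcd 3 (q + 1) ∣ q ^ 2 - q + 1 := by
  have h : q ^ 2 - q + 1 + 3 * q = (q + 1) * (q + 1) := by
    have : q ≤ q ^ 2 := Nat.le_self_pow two_ne_zero q
    zify [this]; ring
  exact (Nat.dvd_add_left ((Nat.gcd_dvd_left _ _).mul_right q)).1
    (h ▸ (Nat.gcd_dvd_right _ _).mul_right (q + 1))

/-- An irreducible cubic or quadratic is not fixed by Frobenius. -/
theorem frob_facts {f : F[X]} [hfi : Fact (Irreducible f)] (hm : f.Monic) :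
    Finite (AdjoinRoot f) ∧
    (∀ j : ℕ, AdjoinRoot.root f ^ Fintype.card F ^ j = AdjoinRoot.root f → f.natDegree ∣ j) ∧
    ∀ w : AdjoinRoot f, aeval w f = 0 →
      ∃ i < f.natDegree, w = AdjoinRoot.root f ^ Fintype.card F ^ i := by
  set pb := AdjoinRoot.powerBasis hm.ne_zero
  have hd : Module.finrank F (AdjoinRoot f) = f.natDegree := by
    rw [pb.finrank, AdjoinRoot.powerBasis_dim]
  haveI : Module.Finite F (AdjoinRoot f) := pb.finite
  haveI hfin : Finite (AdjoinRoot f) := Module.finite_of_finite F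
  have happ : ∀ (k : ℕ) (y : AdjoinRoot f),
      ((FiniteField.frobeniusAlgHom F (AdjoinRoot f)) ^ k) y = y ^ Fintype.card F ^ k := by
    intro k
    induction k with
    | zero => intro y; simp
    | succ k ih =>
      intro y
      rw [pow_succ', AlgHom.mul_apply, ih, pow_succ]
      show (y ^ Fintype.card F ^ k) ^ Fintype.card F = _
      rw [← pow_mul]
  refine ⟨hfin, fun j hj => ?_, fun w hw => ?_⟩
  · have hfr : ((FiniteField.frobeniusAlgHom F (AdjoinRoot f)) ^ j) = 1 := by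
      apply AdjoinRoot.algHom_ext
      rw [happ]
      exact hj
    have h2 := orderOf_dvd_of_pow_eq_one hfr
    simp only [FiniteField.orderOf_frobeniusAlgHom] at h2
    exact hd.symm.dvd.trans h2
  · let ψ : AdjoinRoot f →ₐ[F] AdjoinRoot f := AdjoinRoot.liftAlgHom f (Algebra.ofId F _) w hw
    obtain ⟨i, hi⟩ := (FiniteField.bijective_frobeniusAlgHom_pow F (AdjoinRoot f)).2 ψ
    refine ⟨i, hd ▸ i.isLt, ?_⟩
    rw [← happ]
    refine Eq.symm ?_
    refine (congrArg (fun g : AdjoinRoot f →ₐ[F] AdjoinRoot f => g (AdjoinRoot.root f)) hi).trans ?_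
    exact AdjoinRoot.liftAlgHom_root _ _ _ _

theorem frob_inj {L : Type*} [Field L] [Algebra F L] {y z : L} {j : ℕ}
    (h : y ^ Fintype.card F ^ j = z ^ Fintype.card F ^ j) : y = z := by
  obtain ⟨n, hp, hc⟩ := FiniteField.card F (ringChar F)
  haveI : CharP L (ringChar F) := charP_of_injective_algebraMap (algebraMap F L).injective _
  haveI : ExpChar L (ringChar F) := ExpChar.prime hp
  rw [hc, ← pow_mul] at h
  exact (iterateFrobenius_inj L (ringChar F) _)
    (by rw [iterateFrobenius_def, iterateFrobenius_def]; exact h)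

theorem upper_irreducible (p : ℕ) [Fact p.Prime] [CharP F p] (hF : Fintype.card F = q ^ 2) {x : SU3}
    (h : Irreducible (mat x).charpoly) :
    orderOf (proj x) ∣ (q ^ 2 - q + 1) / Nat.gcd 3 (q + 1) := by
  set χ := (mat x).charpoly with hχ
  haveI := Fact.mk h
  have hm : χ.Monic := Matrix.charpoly_monic _
  have hdeg : χ.natDegree = 3 := by rw [hχ, Matrix.charpoly_natDegree_eq_dim, Fintype.card_fin]
  obtain ⟨hfin, hfix, hroots⟩ := frob_facts hm
  set pb := AdjoinRoot.powerBasis hm.ne_zero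
  have hdim : Module.finrank F (AdjoinRoot χ) = 3 := by
    rw [pb.finrank, AdjoinRoot.powerBasis_dim, hdeg]
  haveI : Module.Finite F (AdjoinRoot χ) := pb.finite
  haveI := hfin
  set ζ := AdjoinRoot.root χ with hζdef
  obtain ⟨hζ0, hstar⟩ := star_root p hF x (z := ζ) (AdjoinRoot.aeval_eq χ ▸ AdjoinRoot.mk_self)
  obtain ⟨i, hi, hζi⟩ := hroots _ hstar
  rw [hdeg] at hi
  rw [hF] at hζi
  have h2 : ζ ^ q ^ 2 = ((ζ ^ (q ^ 2) ^ i) ^ q)⁻¹ := by rw [← hζi, inv_pow, inv_inv, ← pow_mul, pow_two]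
  have hcube : ζ ^ (q ^ 3 + 1) = 1 := by
    have hi' : i = 0 ∨ i = 1 ∨ i = 2 := by omega
    rcases hi' with rfl | rfl | rfl
    · exfalso
      rw [pow_zero, pow_one] at h2 hζi
      rw [hζi] at h2
      have := hfix 1 (by rw [pow_one, hF]; exact h2)
      rw [hdeg] at this; norm_num at this
    · exfalso
      rw [pow_one] at h2 hζi
      have h5 : (ζ ^ q ^ 2) ^ Fintype.card F ^ 1 = ζ ^ Fintype.card F ^ 1 := by
        rw [pow_one, hF]
        conv_lhs => arg 1; rw [← hζi]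
        rw [inv_pow, ← pow_mul, mul_comm, pow_mul, ← h2]
      have := hfix 1 (by rw [pow_one, hF]; exact frob_inj (F := F) h5)
      rw [hdeg] at this; norm_num at this
    · obtain ⟨r, hqr, -⟩ := frob_q p hF
      haveI : CharP (AdjoinRoot χ) p :=
        charP_of_injective_algebraMap (algebraMap F (AdjoinRoot χ)).injective p
      haveI : ExpChar (AdjoinRoot χ) p := ExpChar.prime Fact.out
      refine iterateFrobenius_inj (AdjoinRoot χ) p r ?_
      rw [iterateFrobenius_def, map_one, ← hqr, ← pow_mul,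
        show (q ^ 3 + 1) * q = (q ^ 2) ^ 2 + q by ring, pow_add, ← hζi]
      exact inv_mul_cancel₀ (pow_ne_zero _ hζ0)
  have hnorm : Algebra.norm F ζ = 1 := by
    have h1 := Algebra.PowerBasis.norm_gen_eq_coeff_zero_minpoly pb
    rw [AdjoinRoot.powerBasis_gen, AdjoinRoot.minpoly_root hm.ne_zero, AdjoinRoot.powerBasis_dim,
      hdeg, hm.leadingCoeff, inv_one, map_one, mul_one] at h1
    rw [hζdef, h1]
    have h2 := Matrix.det_eq_sign_charpoly_coeff (mat x)
    rw [mat_det, Fintype.card_fin] at h2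
    exact h2.symm
  have hpow : ζ ^ (1 + q ^ 2 + q ^ 4) = 1 := by
    have := FiniteField.algebraMap_norm_eq_pow_sum F (AdjoinRoot χ) ζ
    rw [hnorm, map_one, hdim, Nat.card_eq_fintype_card, hF] at this
    simp only [Finset.sum_range_succ, Finset.sum_range_zero, pow_zero, pow_one, zero_add, ← pow_mul] at this
    exact this.symm
  have hq1 : 1 ≤ q := le_trans (by norm_num) (two_le_q hF)
  have hN : ζ ^ (q ^ 2 - q + 1) = 1 := by
    have hg := pow_gcd_eq_one.2 ⟨hcube, hpow⟩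
    have hle : q ≤ q ^ 2 := Nat.le_self_pow two_ne_zero q
    have e1 : q ^ 3 + 1 = (q ^ 2 - q + 1) * (q + 1) := by zify [hle]; ring
    have e2 : 1 + q ^ 2 + q ^ 4 = (q ^ 2 - q + 1) * (q * (q + 1) + 1) := by zify [hle]; ring
    rw [e1, e2, Nat.gcd_mul_left,
      show Nat.gcd (q + 1) (q * (q + 1) + 1) = 1 by
        rw [add_comm (q * (q + 1)) 1, Nat.gcd_add_mul_right_right, Nat.gcd_one_right], mul_one] at hg
    exact hg
  obtain ⟨c, hc⟩ := root_of_unity_mem (L := AdjoinRoot χ)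
    ((Nat.gcd_dvd_right 3 (q + 1)).trans (succ_dvd_card hF))
    (z := ζ ^ ((q ^ 2 - q + 1) / Nat.gcd 3 (q + 1)))
    (by rw [← pow_mul, Nat.div_mul_cancel (gcd_dvd_singer hq1), hN])
  refine order_dvd hF (c := c) (AdjoinRoot.mk_eq_zero.1 ?_)
  rw [map_sub, map_pow, AdjoinRoot.mk_X, AdjoinRoot.mk_C, sub_eq_zero]
  exact hc.symm

theorem no_quadratic (p : ℕ) [Fact p.Prime] [CharP F p] (hF : Fintype.card F = q ^ 2) {x : SU3}
    {a : F} {Q : F[X]} (hf : (mat x).charpoly = (X - C a) * Q) (hQm : Q.Monic)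
    (hQd : Q.natDegree = 2) (hQ : Irreducible Q) : False := by
  haveI := Fact.mk hQ
  obtain ⟨hfin, hfix, hroots⟩ := frob_facts hQm
  set ζ := AdjoinRoot.root Q with hζ
  have hnofix : ζ ^ q ^ 2 ≠ ζ := fun h => by
    have := hfix 1 (by rw [pow_one, hF]; exact h)
    rw [hQd] at this; norm_num at this
  obtain ⟨hζ0, hstar⟩ := star_root p hF x (z := ζ)
    (by rw [hf, map_mul, hζ, AdjoinRoot.aeval_eq (f := Q) Q, AdjoinRoot.mk_self, mul_zero])
  rw [hf, map_mul, mul_eq_zero] at hstar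
  rcases hstar with hs | hs
  · rw [map_sub, aeval_X, aeval_C, sub_eq_zero] at hs
    refine hnofix ?_
    have h1 : ζ ^ q ^ 2 = algebraMap F (AdjoinRoot Q) ((a ^ q)⁻¹) := by
      rw [map_inv₀, map_pow, ← hs, inv_pow, inv_inv, ← pow_mul, pow_two]
    refine h1.trans (frob_inj (F := F) (j := 1) ?_).symm
    rw [pow_one, ← map_pow, FiniteField.pow_card, hF]
    exact h1
  · obtain ⟨i, hi, hζi⟩ := hroots _ hs
    rw [hQd] at hi
    rw [hF] at hζi
    have h2 : ζ ^ q ^ 2 = ((ζ ^ (q ^ 2) ^ i) ^ q)⁻¹ := by rw [← hζi, inv_pow, inv_inv, ← pow_mul, pow_two]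
    have hi' : i = 0 ∨ i = 1 := by omega
    rcases hi' with rfl | rfl
    · rw [pow_zero, pow_one] at h2 hζi
      rw [hζi] at h2
      exact hnofix h2
    · rw [pow_one] at h2 hζi
      refine hnofix (frob_inj (F := F) (j := 1) ?_)
      rw [pow_one, hF]
      conv_lhs => arg 1; rw [← hζi]
      rw [inv_pow, ← pow_mul, mul_comm, pow_mul, ← h2]

theorem case_double (p : ℕ) [Fact p.Prime] [CharP F p] (hF : Fintype.card F = q ^ 2) {x : SU3}
    {a b : F} (hab : a ≠ b) (hf : (mat x).charpoly = (X - C a) ^ 2 * (X - C b))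
    (ha : a ^ (q + 1) = 1) (hdet : a ^ 2 * b = 1) :
    orderOf (proj x) ∣ p * (q + 1) / Nat.gcd 3 (q + 1) := by
  set d := Nat.gcd 3 (q + 1)
  obtain ⟨e, he⟩ := Nat.gcd_dvd_right 3 (q + 1)
  have hk : p * (q + 1) / d = e * p := by
    apply Nat.div_eq_of_eq_mul_left gcd_pos
    conv_lhs => rw [he]
    ring
  have h3 : (a ^ e) ^ 3 = 1 := by
    obtain ⟨f, hf3⟩ := Nat.gcd_dvd_left 3 (q + 1)
    rw [← pow_mul, mul_comm e, hf3, mul_right_comm, ← he, pow_mul, ha, one_pow]
  have hb : b ^ e = a ^ e := by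
    rw [eq_inv_of_mul_eq_one_right hdet, inv_pow, ← pow_mul, mul_comm 2, pow_mul]
    exact inv_eq_of_mul_eq_one_right ((pow_succ _ _).symm.trans h3)
  rw [hk]
  refine order_dvd hF (c := (a ^ e) ^ p) ?_
  rw [hf, pow_mul, map_pow C (a ^ e) p, ← sub_pow_char]
  refine IsCoprime.mul_dvd ((isCoprime_X_sub_C_of_isUnit_sub
    (sub_ne_zero.2 hab).isUnit).pow_left) ?_ ?_
  · refine dvd_trans (pow_dvd_pow_of_dvd ?_ 2) (pow_dvd_pow _ (Fact.out : p.Prime).two_le)
    rw [dvd_iff_isRoot]; simp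
  · refine dvd_pow ?_ (Fact.out : p.Prime).ne_zero
    rw [dvd_iff_isRoot]; simp [hb]

theorem dvd_of_distinct (hF : Fintype.card F = q ^ 2) {x : SU3} {a b c z : F} {k : ℕ}
    (hf : (mat x).charpoly = (X - C a) * ((X - C b) * (X - C c)))
    (hab : a ≠ b) (hac : a ≠ c) (hbc : b ≠ c) (ha : a ^ k = z) (hb : b ^ k = z) (hc : c ^ k = z) :
    orderOf (proj x) ∣ k := by
  refine order_dvd hF (c := z) ?_
  rw [hf]
  refine IsCoprime.mul_dvd (IsCoprime.mul_right
      (isCoprime_X_sub_C_of_isUnit_sub (sub_ne_zero.2 hab).isUnit)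
      (isCoprime_X_sub_C_of_isUnit_sub (sub_ne_zero.2 hac).isUnit)) ?_
    (IsCoprime.mul_dvd (isCoprime_X_sub_C_of_isUnit_sub (sub_ne_zero.2 hbc).isUnit) ?_ ?_) <;>
    rw [dvd_iff_isRoot] <;> simp [ha, hb, hc]

theorem case_pair (hF : Fintype.card F = q ^ 2) {x : SU3} {a b c : F}
    (hf : (mat x).charpoly = (X - C a) * ((X - C b) * (X - C c)))
    (hdet : a * b * c = 1) (hb : (a ^ q)⁻¹ = b) (ha : (a ^ q)⁻¹ ≠ a) :
    orderOf (proj x) ∣ (q ^ 2 - 1) / Nat.gcd 3 (q + 1) := by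
  have hq1 : 1 ≤ q := le_trans (by norm_num) (two_le_q hF)
  have ha0 : a ≠ 0 := by rintro rfl; simp at hdet
  have hqq : a ^ q ^ 2 = a := by rw [← hF, FiniteField.pow_card]
  have hb' : (b ^ q)⁻¹ = a := by rw [← hb, inv_pow, inv_inv, ← pow_mul, ← pow_two, hqq]
  have hc : c = a ^ q / a := by
    rw [eq_inv_of_mul_eq_one_right hdet, ← hb, mul_inv, inv_inv, div_eq_inv_mul]
  have hc' : (c ^ q)⁻¹ = c := by
    rw [hc, div_pow, ← pow_mul, ← pow_two, hqq, inv_div]
  have hab : a ≠ b := fun h => ha (hb.trans h.symm)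
  have hac : a ≠ c := fun h => ha (by rw [h]; exact hc')
  have hbc : b ≠ c := fun h => by
    refine hab (hb'.symm.trans ?_)
    rw [h, hc']
  set d := Nat.gcd 3 (q + 1)
  have hd : d ∣ q ^ 2 - 1 := hF ▸ ((Nat.gcd_dvd_right 3 (q + 1)).trans (succ_dvd_card hF))
  have hz3 : (a ^ ((q ^ 2 - 1) / d)) ^ 3 = 1 ∧ (a ^ ((q ^ 2 - 1) / d)) ^ (q + 1) = 1 := by
    have : (a ^ ((q ^ 2 - 1) / d)) ^ d = 1 := by
      rw [← pow_mul, Nat.div_mul_cancel hd, ← hF, FiniteField.pow_card_sub_one_eq_one a ha0]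
    exact pow_gcd_eq_one.1 this
  set k := (q ^ 2 - 1) / d
  set z := a ^ k with hz
  have hbz : b ^ k = z := by
    rw [← hb, inv_pow, ← pow_mul, mul_comm, pow_mul]
    exact inv_eq_of_mul_eq_one_right ((pow_succ _ _).symm.trans hz3.2)
  refine dvd_of_distinct hF hf hab hac hbc rfl hbz ?_
  rw [eq_inv_of_mul_eq_one_right hdet, inv_pow, mul_pow, hbz, ← hz]
  exact inv_eq_of_mul_eq_one_right (by rw [← hz3.1]; ring)

theorem upper (p : ℕ) [Fact p.Prime] [CharP F p] (hp : p ≠ 2) (hF : Fintype.card F = q ^ 2)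
    (x : SU3) :
    orderOf (proj x) ∣ q + 1 ∨ orderOf (proj x) ∣ p * (q + 1) / Nat.gcd 3 (q + 1) ∨
      orderOf (proj x) ∣ (q ^ 2 - 1) / Nat.gcd 3 (q + 1) ∨
      orderOf (proj x) ∣ (q ^ 2 - q + 1) / Nat.gcd 3 (q + 1) := by
  have hm : (mat x).charpoly.Monic := Matrix.charpoly_monic _
  have hdeg : (mat x).charpoly.natDegree = 3 := by
    rw [Matrix.charpoly_natDegree_eq_dim, Fintype.card_fin]
  by_cases hroot : ∃ a, (mat x).charpoly.IsRoot a
  swap
  · exact Or.inr (Or.inr (Or.inr (upper_irreducible p hF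
      ((irreducible_iff_roots_eq_zero_of_degree_le_three
      (by omega) (by omega)).2 (Multiset.eq_zero_of_forall_notMem fun a ha =>
        hroot ⟨a, (mem_roots'.1 ha).2⟩)))))
  obtain ⟨a, ha⟩ := hroot
  obtain ⟨Q, hQ⟩ := dvd_iff_isRoot.2 ha
  have hQm : Q.Monic := (monic_X_sub_C a).of_mul_monic_left (hQ ▸ hm)
  have hQd : Q.natDegree = 2 := by
    rw [hQ, natDegree_mul (X_sub_C_ne_zero a) hQm.ne_zero, natDegree_X_sub_C] at hdeg
    omega
  by_cases hroot : ∃ b, Q.IsRoot b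
  swap
  · exact (no_quadratic p hF hQ hQm hQd
      ((irreducible_iff_roots_eq_zero_of_degree_le_three
      (by omega) (by omega)).2 (Multiset.eq_zero_of_forall_notMem fun a ha =>
        hroot ⟨a, (mem_roots'.1 ha).2⟩))).elim
  obtain ⟨b, hb⟩ := hroot
  obtain ⟨R, hR⟩ := dvd_iff_isRoot.2 hb
  have hRm : R.Monic := (monic_X_sub_C b).of_mul_monic_left (hR ▸ hQm)
  obtain ⟨c, hc⟩ : ∃ c, R = X - C c := by
    refine ⟨-R.coeff 0, ?_⟩
    have : R.natDegree = 1 := by
      rw [hR, natDegree_mul (X_sub_C_ne_zero b) hRm.ne_zero, natDegree_X_sub_C] at hQd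
      omega
    rw [hRm.eq_X_add_C this]; simp
  rw [hR, hc] at hQ
  have hdet : a * b * c = 1 := by
    have h2 := Matrix.det_eq_sign_charpoly_coeff (mat x)
    rw [mat_det, Fintype.card_fin, hQ, mul_coeff_zero, mul_coeff_zero] at h2
    simp at h2
    linear_combination -h2
  have ha0 : a ≠ 0 := by rintro rfl; simp at hdet
  have hb0 : b ≠ 0 := by rintro rfl; simp at hdet
  have hc0 : c ≠ 0 := by rintro rfl; simp at hdet
  have hmem : ∀ {z : F}, (z = a ∨ z = b ∨ z = c) → (z ^ q)⁻¹ = a ∨ (z ^ q)⁻¹ = b ∨ (z ^ q)⁻¹ = c := by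
    intro z hz
    have h1 : aeval z (mat x).charpoly = 0 := by
      rw [hQ]; rcases hz with rfl | rfl | rfl <;> simp
    have h2 := (star_root p hF x h1).2
    rw [hQ] at h2
    simpa [sub_eq_zero] using h2
  by_cases hfa : (a ^ q)⁻¹ = a
  swap
  · refine Or.inr (Or.inr (Or.inl ?_))
    rcases hmem (Or.inl rfl) with h | h | h
    · exact absurd h hfa
    · exact case_pair hF hQ hdet h hfa
    · exact case_pair hF (b := c) (c := b) (by rw [hQ]; ring) (by linear_combination hdet) h hfa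
  by_cases hfb : (b ^ q)⁻¹ = b
  swap
  · refine Or.inr (Or.inr (Or.inl ?_))
    rcases hmem (Or.inr (Or.inl rfl)) with h | h | h
    · exact case_pair hF (a := b) (b := a) (c := c) (by rw [hQ]; ring)
        (by linear_combination hdet) h hfb
    · exact absurd h hfb
    · exact case_pair hF (a := b) (b := c) (c := a) (by rw [hQ]; ring)
        (by linear_combination hdet) h hfb
  have fixed : ∀ {z : F}, z ≠ 0 → (z ^ q)⁻¹ = z → z ^ (q + 1) = 1 := fun {z} hz h => by
    rw [pow_succ]; nth_rewrite 2 [← h]; exact mul_inv_cancel₀ (pow_ne_zero _ hz)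
  have hfc : (c ^ q)⁻¹ = c := by
    rw [eq_inv_of_mul_eq_one_right hdet, inv_pow, inv_inv, mul_pow, mul_inv,
      inv_eq_iff_eq_inv.1 hfa, inv_eq_iff_eq_inv.1 hfb]
  have a1 := fixed ha0 hfa
  have b1 := fixed hb0 hfb
  have c1 := fixed hc0 hfc
  by_cases hab : a = b
  · subst hab
    by_cases hac : a = c
    · subst hac
      have h3 : (mat x).charpoly = (X - C a) ^ 3 := by rw [hQ]; ring
      have hp3 : 3 ≤ p := by have := (Fact.out : p.Prime).two_le; omega
      refine Or.inr (Or.inl (dvd_trans (order_dvd hF (k := p) (c := a ^ p) ?_) ?_))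
      · rw [h3, map_pow C a, ← sub_pow_char]
        exact pow_dvd_pow _ hp3
      · rw [Nat.mul_div_assoc _ (Nat.gcd_dvd_right _ _)]
        exact dvd_mul_right _ _
    · exact Or.inr (Or.inl (case_double p hF hac (by rw [hQ]; ring) a1
        (by linear_combination hdet)))
  by_cases hac : a = c
  · subst hac
    exact Or.inr (Or.inl (case_double p hF hab (by rw [hQ]; ring) a1
      (by linear_combination hdet)))
  by_cases hbc : b = c
  · subst hbc
    exact Or.inr (Or.inl (case_double p hF (Ne.symm hab) (by rw [hQ]; ring) b1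
      (by linear_combination hdet)))
  exact Or.inl (dvd_of_distinct hF hQ hab hac hbc a1 b1 c1)

theorem exists_gen (hF : Fintype.card F = q ^ 2) :
    ∃ u : F, u ≠ 0 ∧ orderOf u = q ^ 2 - 1 := by
  classical
  obtain ⟨u, hu⟩ := IsCyclic.exists_ofOrder_eq_natCard (α := Fˣ)
  exact ⟨(u : F), u.ne_zero, by rw [orderOf_units, hu, Nat.card_units, Nat.card_eq_fintype_card, hF]⟩

theorem two_ne_zero' (p : ℕ) [Fact p.Prime] [CharP F p] (hp : p ≠ 2) : (2 : F) ≠ 0 :=
  Ring.two_ne_zero ((ringChar.eq F p).trans_ne hp)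

theorem odd_q (p : ℕ) [Fact p.Prime] [CharP F p] (hp : p ≠ 2) (hF : Fintype.card F = q ^ 2) :
    Odd q := by
  obtain ⟨r, hqr, -⟩ := frob_q p hF
  rw [hqr]; exact ((Fact.out : p.Prime).odd_of_ne_two hp).pow

theorem exists_half (p : ℕ) [Fact p.Prime] [CharP F p] (hp : p ≠ 2) (hF : Fintype.card F = q ^ 2) :
    ∃ s t : F, s ≠ 0 ∧ t ≠ 0 ∧ s ^ (q + 1) = -1 ∧ t ^ q = -t := by
  obtain ⟨u, hu0, hu⟩ := exists_gen hF
  obtain ⟨m, hm⟩ := odd_q p hp hF
  have hq2 := two_le_q hF
  have hcard : q ^ 2 - 1 = 2 * (2 * m * (m + 1)) := by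
    rw [hm]; apply Nat.sub_eq_of_eq_add; ring
  have hneg : u ^ (2 * m * (m + 1)) = -1 := by
    rw [hcard] at hu
    have h1 : (u ^ (2 * m * (m + 1))) ^ 2 = 1 := by
      rw [← pow_mul, mul_comm, ← hu, pow_orderOf_eq_one]
    rcases sq_eq_one_iff.1 h1 with h | h
    · have h3 := orderOf_dvd_of_pow_eq_one h
      rw [hu] at h3
      have hpos : 0 < 2 * m * (m + 1) := by
        rcases Nat.eq_zero_or_pos m with rfl | hm0
        · omega
        · positivity
      have := Nat.le_of_dvd hpos h3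
      omega
    · exact h
  refine ⟨u ^ m, u ^ (m + 1), pow_ne_zero _ hu0, pow_ne_zero _ hu0, ?_, ?_⟩
  · rw [← pow_mul, ← hneg, hm]; congr 1; ring
  · rw [← pow_mul, show (m + 1) * q = 2 * m * (m + 1) + (m + 1) by rw [hm]; ring, pow_add, hneg,
      neg_one_mul]

theorem realise_conj (p : ℕ) [Fact p.Prime] [CharP F p] (hp : p ≠ 2) (hF : Fintype.card F = q ^ 2)
    (D : M3) (hdet : D.det = 1)
    (hD : adj (conjHom hF) D * !![0, 2, 0; 2, 0, 0; 0, 0, 1] * D = !![0, 2, 0; 2, 0, 0; 0, 0, 1])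
    {N : ℕ} (h : ∀ k c, c ^ Nat.gcd 3 (q + 1) = 1 → D ^ k = algebraMap F M3 c → N ∣ k)
    {m : ℕ} (hm : m ∣ N) : ∃ y : PSU3, orderOf y = m := by
  obtain ⟨s, -, hs0, -, hs, -⟩ := exists_half p hp hF
  have h2 := two_ne_zero' p hp (F := F)
  let P : M3 := !![1, 1, 0; s, -s, 0; 0, 0, 1]
  let R : M3 := !![2⁻¹, 2⁻¹ * s⁻¹, 0; 2⁻¹, -(2⁻¹ * s⁻¹), 0; 0, 0, 1]
  have hPR : P * R = 1 := by
    ext i j
    fin_cases i <;> fin_cases j <;>
      simp [P, R, Matrix.mul_apply, Fin.sum_univ_three] <;> field_simp <;> ring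
  have hRP : R * P = 1 := mul_eq_one_comm.1 hPR
  have hH : adj (conjHom hF) P * P = !![0, 2, 0; 2, 0, 0; 0, 0, 1] := by
    have hs' : conjHom hF s * s = -1 := by rw [conjHom_apply, ← pow_succ, hs]
    ext i j
    fin_cases i <;> fin_cases j <;>
      simp [P, adj, Matrix.mul_apply, Fin.sum_univ_three, hs'] <;> ring
  let M : M3 := P * D * R
  have hMdet : M.det = 1 := by
    rw [Matrix.det_mul, Matrix.det_mul, hdet, mul_one, ← Matrix.det_mul, hPR, Matrix.det_one]
  have hMadj : adj (conjHom hF) M * M = 1 := by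
    show adj (conjHom hF) (P * D * R) * (P * D * R) = 1
    calc _ = adj (conjHom hF) R * (adj (conjHom hF) D * (adj (conjHom hF) P * P) * D) * R := by
          simp only [adj_mul, mul_assoc]
      _ = adj (conjHom hF) (P * R) * (P * R) := by
          rw [hH, hD, ← hH]; simp only [adj_mul, mul_assoc]
      _ = 1 := by rw [hPR, mul_one]; exact Cfsg.Agent.Lib.SuSpec.adj_one
  have hpow : ∀ k : ℕ, M ^ k = P * D ^ k * R := by
    intro k
    induction k with
    | zero => rw [pow_zero, pow_zero, mul_one, hPR]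
    | succ k ih =>
      rw [pow_succ, ih, pow_succ]
      calc P * D ^ k * R * (P * D * R) = P * D ^ k * (R * P) * D * R := by simp only [mul_assoc]
        _ = _ := by rw [hRP, mul_one]; simp only [mul_assoc]
  refine realise hF ⟨⟨M, hMdet⟩, mem_of_adj hF hMdet hMadj⟩ (fun k c hc hk => h k c hc ?_) hm
  change M ^ k = _ at hk
  rw [hpow] at hk
  have hk' := congrArg (fun A => R * A * P) hk
  rw [← Algebra.commutes c R, mul_assoc (algebraMap F M3 c), hRP, mul_one,
    mul_assoc P, ← mul_assoc R, hRP, one_mul, mul_assoc, hRP, mul_one] at hk'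
  exact hk'

theorem lower_split (hF : Fintype.card F = q ^ 2) {m : ℕ} (hm : m ∣ q + 1) :
    ∃ y : PSU3, orderOf y = m := by
  obtain ⟨u, hu0, hu⟩ := exists_gen hF
  have hq2 := two_le_q hF
  set w := u ^ (q - 1)
  have hw : orderOf w = q + 1 := by
    have : q ^ 2 - 1 = (q - 1) * (q + 1) := by rw [mul_comm, ← Nat.sq_sub_sq, one_pow]
    rw [orderOf_pow_of_dvd (by omega) (hu ▸ this ▸ dvd_mul_right _ _), hu, this,
      Nat.mul_div_cancel_left _ (by omega)]
  have hw1 : w ^ (q + 1) = 1 := hw ▸ pow_orderOf_eq_one w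
  have hw0 : w ≠ 0 := pow_ne_zero _ hu0
  have hdet : (Matrix.diagonal ![w, w⁻¹, 1] : M3).det = 1 := by
    simp [Matrix.det_diagonal, Fin.prod_univ_three, hw0]
  have hadj : adj (conjHom hF) (Matrix.diagonal ![w, w⁻¹, 1]) * Matrix.diagonal ![w, w⁻¹, 1] = 1 := by
    rw [adj, Matrix.diagonal_map (map_zero _), Matrix.diagonal_transpose, Matrix.diagonal_mul_diagonal,
      ← Matrix.diagonal_one]
    congr 1
    funext i
    fin_cases i <;> simp [conjHom_apply, ← mul_inv, ← pow_succ, hw1, inv_pow]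
  refine realise hF ⟨⟨_, hdet⟩, mem_of_adj hF hdet hadj⟩ ?_ hm
  intro k c _ hk
  change (Matrix.diagonal ![w, w⁻¹, 1] : M3) ^ k = _ at hk
  rw [Matrix.diagonal_pow, Matrix.algebraMap_eq_diagonal] at hk
  have h := Matrix.diagonal_injective hk
  have h2 : (1 : F) = c := by simpa using congrFun h 2
  rw [← hw]
  exact orderOf_dvd_of_pow_eq_one (by simpa [← h2] using congrFun h 0)

theorem lower_torus (p : ℕ) [Fact p.Prime] [CharP F p] (hp : p ≠ 2) (hF : Fintype.card F = q ^ 2)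
    {m : ℕ} (hm : m ∣ (q ^ 2 - 1) / Nat.gcd 3 (q + 1)) : ∃ y : PSU3, orderOf y = m := by
  obtain ⟨u, hu0, hu⟩ := exists_gen hF
  have hqq : ∀ z : F, (z ^ q) ^ q = z := fun z => by
    rw [← pow_mul, ← pow_two, ← hF, FiniteField.pow_card]
  refine realise_conj p hp hF (Matrix.diagonal ![u, (u ^ q)⁻¹, u ^ q / u]) ?_ ?_ ?_ hm
  · simp [Matrix.det_diagonal, Fin.prod_univ_three]; field_simp
  · ext i j
    fin_cases i <;> fin_cases j <;>
      simp [adj, Matrix.mul_apply, Fin.sum_univ_three, conjHom_apply, inv_pow, div_pow, hqq,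
        Matrix.diagonal, zero_pow (by have := two_le_q hF; omega : q ≠ 0)] <;>
      field_simp
  intro k c hc hk
  rw [Matrix.diagonal_pow, Matrix.algebraMap_eq_diagonal] at hk
  have h0 : u ^ k = c := by simpa using congrFun (Matrix.diagonal_injective hk) 0
  rw [Nat.div_dvd_iff_dvd_mul (hF ▸ ((Nat.gcd_dvd_right 3 (q + 1)).trans (succ_dvd_card hF))) gcd_pos,
    mul_comm, ← hu]
  exact orderOf_dvd_of_pow_eq_one (by rw [pow_mul, h0, hc])

theorem lower_double (p : ℕ) [Fact p.Prime] [CharP F p] (hp : p ≠ 2) (hF : Fintype.card F = q ^ 2)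
    {m : ℕ} (hm : m ∣ p * (q + 1) / Nat.gcd 3 (q + 1)) : ∃ y : PSU3, orderOf y = m := by
  obtain ⟨-, t, -, ht0, -, ht⟩ := exists_half p hp hF
  obtain ⟨u, hu0, hu⟩ := exists_gen hF
  have hq2 := two_le_q hF
  set a := u ^ (q - 1)
  have ha : orderOf a = q + 1 := by
    have : q ^ 2 - 1 = (q - 1) * (q + 1) := by rw [mul_comm, ← Nat.sq_sub_sq, one_pow]
    rw [orderOf_pow_of_dvd (by omega) (hu ▸ this ▸ dvd_mul_right _ _), hu, this,
      Nat.mul_div_cancel_left _ (by omega)]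
  have ha1 : a ^ q * a = 1 := by rw [← pow_succ, ← ha, pow_orderOf_eq_one]
  have ha0 : a ≠ 0 := pow_ne_zero _ hu0
  have ha2 : ((a ^ 2) ^ q)⁻¹ * (a ^ 2)⁻¹ = 1 := by
    rw [← mul_inv, ← pow_mul, mul_comm 2, pow_mul, ← mul_pow, ha1, one_pow, inv_one]
  refine realise_conj p hp hF !![a, a * t, 0; 0, a, 0; 0, 0, (a ^ 2)⁻¹] ?_ ?_ ?_ hm
  · simp [Matrix.det_fin_three]; field_simp
  · ext i j
    fin_cases i <;> fin_cases j <;>
      simp [adj, Matrix.mul_apply, Fin.sum_univ_three, conjHom_apply, mul_pow, ht, inv_pow, ha2,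
        zero_pow (by omega : q ≠ 0)] <;>
      first
      | linear_combination (2 : F) * ha1
      | ring
  intro k c hc hk
  have hpow : ∀ j : ℕ, (!![a, a * t, 0; 0, a, 0; 0, 0, (a ^ 2)⁻¹] : M3) ^ j =
      !![a ^ j, (j : F) * a ^ j * t, 0; 0, a ^ j, 0; 0, 0, ((a ^ 2)⁻¹) ^ j] := by
    intro j
    induction j with
    | zero => simp [Matrix.one_fin_three]
    | succ j ih =>
      rw [pow_succ, ih]
      ext i l
      fin_cases i <;> fin_cases l <;>
        simp [Matrix.mul_apply, Fin.sum_univ_three, pow_succ] <;> ring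
  rw [hpow, Matrix.algebraMap_eq_diagonal] at hk
  have h00 : a ^ k = c := by simpa using congrFun (congrFun hk 0) 0
  have h01 : (k : F) = 0 := by simpa [ha0, ht0] using congrFun (congrFun hk 0) 1
  have hpk : p ∣ k := (CharP.cast_eq_zero_iff F p k).1 h01
  obtain ⟨e, he⟩ := Nat.gcd_dvd_right 3 (q + 1)
  have h3 : q + 1 ∣ Nat.gcd 3 (q + 1) * k := by
    rw [mul_comm]
    conv_lhs => rw [← ha]
    exact orderOf_dvd_of_pow_eq_one (by rw [pow_mul, h00, hc])
  have hek : e ∣ k := by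
    have h' : Nat.gcd 3 (q + 1) * e ∣ Nat.gcd 3 (q + 1) * k := by rw [← he]; exact h3
    exact Nat.dvd_of_mul_dvd_mul_left gcd_pos h'
  rw [Nat.mul_div_assoc _ ⟨e, he⟩, Nat.div_eq_of_eq_mul_left gcd_pos (he.trans (mul_comm _ _))]
  refine Nat.Coprime.mul_dvd_of_dvd_of_dvd ?_ hpk hek
  refine ((Fact.out : p.Prime).coprime_iff_not_dvd).2 fun hpe => ?_
  obtain ⟨r, hqr, hr⟩ := frob_q p hF
  have h1 : p ∣ q + 1 := he ▸ hpe.mul_left _
  have h2 : p ∣ q := hqr ▸ dvd_pow_self p hr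
  exact (Fact.out : p.Prime).not_dvd_one ((Nat.dvd_add_right h2).1 h1)

theorem lower_singer (p : ℕ) [Fact p.Prime] [CharP F p] (hp : p ≠ 2) (hF : Fintype.card F = q ^ 2)
    {m : ℕ} (hm : m ∣ (q ^ 2 - q + 1) / Nat.gcd 3 (q + 1)) : ∃ y : PSU3, orderOf y = m := by
  classical
  have hq2 := two_le_q hF
  obtain ⟨r, hodd⟩ := odd_q p hp hF
  set N := q ^ 2 - q + 1 with hN
  let L := FiniteField.Extension F p 3
  have hdim : Module.finrank F L = 3 := FiniteField.finrank_extension F p 3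
  haveI : Module.Finite F L := Module.finite_of_finrank_eq_succ hdim
  obtain ⟨u, hu⟩ := IsCyclic.exists_ofOrder_eq_natCard (α := Lˣ)
  have hle : q ≤ q ^ 2 := Nat.le_self_pow two_ne_zero q
  have h1 : 1 ≤ q ^ 2 := Nat.one_le_pow _ _ (by omega)
  have hcard : orderOf u = (q ^ 2 - 1) * (q * (q + 1) + 1) * N := by
    rw [hu, Nat.card_units, FiniteField.natCard_extension, Nat.card_eq_fintype_card, hF, hN]
    apply Nat.sub_eq_of_eq_add
    zify [h1, hle]; ring
  set j := (q ^ 2 - 1) * (q * (q + 1) + 1)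
  have hj : j ≠ 0 := by
    have : 0 < q ^ 2 - 1 := by
      have : 2 * 2 ≤ q ^ 2 := by rw [pow_two]; exact Nat.mul_le_mul hq2 hq2
      omega
    positivity
  set z : L := ((u ^ j : Lˣ) : L) with hz
  have hzo : orderOf z = N := by
    rw [hz, orderOf_units, orderOf_pow_of_dvd hj (hcard ▸ dvd_mul_right _ _), hcard,
      Nat.mul_div_cancel_left _ (Nat.pos_of_ne_zero hj)]
  have hzN : z ^ N = 1 := hzo ▸ pow_orderOf_eq_one z
  have hint : IsIntegral F z := Algebra.IsIntegral.isIntegral z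
  set f := minpoly F z with hf
  have hirr : Irreducible f := minpoly.irreducible hint
  have hdeg : f.natDegree = 3 := by
    have hd : f.natDegree ∣ 3 := hdim ▸ minpoly.degree_dvd hint
    refine ((Nat.dvd_prime Nat.prime_three).1 hd).resolve_left fun h => ?_
    obtain ⟨c, hc⟩ := minpoly.natDegree_eq_one_iff.1 h
    have hc0 : c ≠ 0 := by
      rintro rfl
      rw [map_zero] at hc
      rw [← hc] at hzN
      simp [hN] at hzN
    have h2 : orderOf z ∣ q ^ 2 - 1 := orderOf_dvd_of_pow_eq_one (by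
      rw [← hc, ← map_pow, ← hF, FiniteField.pow_card_sub_one_eq_one c hc0, map_one])
    rw [hzo, hN] at h2
    obtain ⟨i, hi⟩ := h2
    rcases i with _ | _ | i
    · rw [mul_zero] at hi; omega
    · omega
    · have : 2 * (q ^ 2 - q + 1) ≤ (q ^ 2 - q + 1) * (i + 1 + 1) := by
        rw [mul_comm 2]; exact Nat.mul_le_mul_left _ (by omega)
      have : 2 * q ≤ q ^ 2 := by rw [pow_two]; exact Nat.mul_le_mul_right q hq2
      omega
  haveI := Fact.mk hirr
  let ι : AdjoinRoot f →ₐ[F] L := AdjoinRoot.liftAlgHom f (Algebra.ofId F _) z (minpoly.aeval F z)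
  have hι : ι (AdjoinRoot.root f) = z := AdjoinRoot.liftAlgHom_root _ _ _ _
  have hroot : AdjoinRoot.root f ^ N = 1 :=
    ι.injective (show ι _ = ι _ by rw [map_pow, hι, hzN, map_one])
  have hm0 : f.Monic := minpoly.monic hint
  set pb := AdjoinRoot.powerBasis hm0.ne_zero
  have hdimf : Module.finrank F (AdjoinRoot f) = 3 := by
    rw [pb.finrank, AdjoinRoot.powerBasis_dim, hdeg]
  haveI : Module.Finite F (AdjoinRoot f) := pb.finite
  haveI : Finite (AdjoinRoot f) := Module.finite_of_finite F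
  obtain ⟨y, hy⟩ := Cfsg.Agent.Lib.SuSpec.exists_torus_psu (n := 3) hF (by norm_num)
  have hd := gcd_dvd_singer (q := q) (by omega)
  have hmy : m ∣ orderOf y := by
    refine hy f 3 m hirr hdeg (fun k c hk hc => hm.trans ?_) (Or.inl ⟨by decide, dvd_rfl, ?_, ?_⟩)
    · have hcN : c ^ N = 1 := (algebraMap F (AdjoinRoot f)).injective (by
        rw [map_pow, ← hk, ← pow_mul, mul_comm, pow_mul, hroot, one_pow, map_one])
      have hg : Nat.gcd N (q + 1) ∣ Nat.gcd 3 (q + 1) := by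
        refine Nat.dvd_gcd ?_ (Nat.gcd_dvd_right _ _)
        have h : q ^ 2 - q + 1 + 2 * (q + 1) = (q + 1) * q + 3 := by zify [hle]; ring
        exact (Nat.dvd_add_right ((Nat.gcd_dvd_right N (q + 1)).mul_right q)).1
          (h ▸ dvd_add (Nat.gcd_dvd_left N (q + 1)) ((Nat.gcd_dvd_right N (q + 1)).mul_left 2))
      obtain ⟨e, he⟩ := hg
      have hcd : c ^ Nat.gcd 3 (q + 1) = 1 := by
        rw [he, pow_mul, pow_gcd_eq_one.2 ⟨hcN, hc⟩, one_pow]
      rw [Nat.div_dvd_iff_dvd_mul hd gcd_pos, mul_comm]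
      show N ∣ _
      rw [← hzo]
      refine orderOf_dvd_of_pow_eq_one ?_
      rw [← hι, ← map_pow, pow_mul, hk, ← map_pow, hcd, map_one, map_one]
    · rw [show q ^ 3 + 1 = N * (q + 1) by rw [hN]; zify [hle]; ring, pow_mul, hroot, one_pow]
    · rw [Nat.div_self (by norm_num), pow_one]
      apply (algebraMap F (AdjoinRoot f)).injective
      rw [FiniteField.algebraMap_norm_eq_pow_sum, hdimf, Nat.card_eq_fintype_card, hF, map_one]
      simp only [Finset.sum_range_succ, Finset.sum_range_zero, pow_zero, pow_one, zero_add, ← pow_mul, mul_zero, mul_one]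
      rw [show 1 + q ^ 2 + q ^ (2 * 2) = N * (q * (q + 1) + 1) by rw [hN]; zify [hle]; ring,
        pow_mul, hroot, one_pow]
  haveI : Finite PSU3 := inferInstance
  exact ⟨y ^ (orderOf y / m), orderOf_pow_orderOf_div (orderOf_pos _).ne' hmy⟩

end

/-- The set of element orders of PSU(3, q) for an odd prime power q = p^n: writing d = gcd(3, q + 1), a positive integer is the order of some element exactly when it divides one of q + 1, p(q + 1)/d, (q² − 1)/d, (q² − q + 1)/d. -/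
theorem result {F : Type*} [Field F] [Fintype F] (p : ℕ) [Fact p.Prime] [CharP F p] (hp : p ≠ 2) (q : ℕ) (hF : Fintype.card F = q ^ 2) :
    Set.range (orderOf : Cfsg.PSU 3 F q → ℕ) =
      {s : ℕ | s ∣ q + 1} ∪ {s : ℕ | s ∣ p * (q + 1) / Nat.gcd 3 (q + 1)} ∪
        {s : ℕ | s ∣ (q ^ 2 - 1) / Nat.gcd 3 (q + 1)} ∪ {s : ℕ | s ∣ (q ^ 2 - q + 1) / Nat.gcd 3 (q + 1)} := by
  ext m
  simp only [Set.mem_union, Set.mem_setOf_eq]
  refine ⟨?_, fun h => ?_⟩
  · rintro ⟨y, rfl⟩
    obtain ⟨x, rfl⟩ := QuotientGroup.mk_surjective y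
    rcases upper p hp hF x with h | h | h | h
    exacts [.inl (.inl (.inl h)), .inl (.inl (.inr h)), .inl (.inr h), .inr h]
  rcases h with ((h | h) | h) | h
  · exact lower_split hF h
  · exact lower_double p hp hF h
  · exact lower_torus p hp hF h
  · exact lower_singer p hp hF h

end Cfsg.Agent.S2366
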