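import Cfsg.Statements.S2367
import Cfsg.Agent.Lib.KnownA.CubeBound

set_option autoImplicit false
open Cfsg

namespace Cfsg.Agent.S2367

/-- Let G be an alternating group of degree at least 5 or a simple group with the order of one of the 26 sporadic groups, and let p be an odd prime such that p³ is the exact power of p dividing the order of G. Then p³ is less than the 2-part of the order of G. -/
theorem result {G : Type*} [Group G] [Finite G] (hG : Cfsg.IsAlternating G ∨ Cfsg.IsSporadic G)
    (p : ℕ) (hp : p.Prime) (hodd : p ≠ 2) (h3 : (Nat.card G).factorization p = 3) :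
    p ^ 3 < 2 ^ (Nat.card G).factorization 2 := by
  rcases hG with ⟨n, hn, ⟨e⟩⟩ | hG
  · haveI : Nontrivial (Fin n) := Fin.nontrivial_iff_two_le.mpr (by omega)
    have hc : Nat.card G = Nat.factorial n / 2 := by
      rw [Nat.card_congr e.toEquiv, nat_card_alternatingGroup, Nat.card_fin]
    rw [hc] at h3 ⊢
    exact Cfsg.Agent.Lib.KnownA.cube_lt_two_part_alternating n p (by omega) hp hodd h3
  rcases hG with h | h | h | h | h | h | h | h | h | h | h | h | h | h | h | h | h | h | h | h | h | h | h | h | h | h
  all_goals
    rw [h.2] at h3 ⊢
    first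
      | exact Cfsg.Agent.Lib.KnownA.cube_lt_two_part_of_check (a := 10) hp hodd h3 (by decide +kernel) (by decide +kernel) (by decide +kernel)
      | exact Cfsg.Agent.Lib.KnownA.cube_lt_two_part_of_check (a := 6) hp hodd h3 (by decide +kernel) (by decide +kernel) (by decide +kernel)
      | exact Cfsg.Agent.Lib.KnownA.cube_lt_two_part_of_check (a := 3) hp hodd h3 (by decide +kernel) (by decide +kernel) (by decide +kernel)
      | exact Cfsg.Agent.Lib.KnownA.cube_lt_two_part_of_check (a := 7) hp hodd h3 (by decide +kernel) (by decide +kernel) (by decide +kernel)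
      | exact Cfsg.Agent.Lib.KnownA.cube_lt_two_part_of_check (a := 9) hp hodd h3 (by decide +kernel) (by decide +kernel) (by decide +kernel)
      | exact Cfsg.Agent.Lib.KnownA.cube_lt_two_part_of_check (a := 14) hp hodd h3 (by decide +kernel) (by decide +kernel) (by decide +kernel)

end Cfsg.Agent.S2367
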