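import Cfsg.Statements.S2368
import Cfsg.Agent.Lib.KnownA.UnipotentOrder

set_option autoImplicit false
open Cfsg

namespace Cfsg.Agent.S2368

/-- Let F be a finite field of characteristic p and m ≥ 1. Every element of GL(m, F) of p-power order has order less than p·m, and GL(m, F) has an element of p-power order at least m; so the largest order of a p-element of GL(m, F) is the least power of p that is at least m. -/
theorem result {F : Type*} [Field F] [Fintype F] (p : ℕ) [Fact p.Prime] [CharP F p] (m : ℕ) (hm : 1 ≤ m) :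
    (∀ g : Matrix.GeneralLinearGroup (Fin m) F, (∃ j : ℕ, orderOf g = p ^ j) → orderOf g < p * m) ∧
      ∃ g : Matrix.GeneralLinearGroup (Fin m) F, (∃ j : ℕ, orderOf g = p ^ j) ∧ m ≤ orderOf g := by
  have hp : p.Prime := Fact.out
  refine ⟨fun g ⟨j, hj⟩ => ?_, ?_⟩
  · have hnil : IsNilpotent ((g : Matrix (Fin m) (Fin m) F) - 1) := by
      refine ⟨p ^ j, ?_⟩
      rw [Cfsg.Agent.Lib.KnownA.matrix_sub_one_pow_char, ← Units.val_pow_eq_pow_val, ← hj,
        pow_orderOf_eq_one, Units.val_one, sub_self]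
    refine lt_of_le_of_lt (Cfsg.Agent.Lib.KnownA.orderOf_unipotent_le p g hnil).1 ?_
    rcases Nat.eq_or_lt_of_le hm with rfl | hm2
    · simpa using hp.one_lt
    · have h1 : p ^ (Nat.clog p m - 1) < m := Nat.pow_pred_clog_lt_self hp.one_lt hm2
      have h2 : 0 < Nat.clog p m := Nat.clog_pos hp.one_lt hm2
      calc p ^ Nat.clog p m = p * p ^ (Nat.clog p m - 1) := by
            rw [← pow_succ', Nat.sub_add_cancel h2]
        _ < p * m := Nat.mul_lt_mul_of_pos_left h1 hp.pos
  · have hnil := Cfsg.Agent.Lib.KnownA.superDiag_isNilpotent (F := F) (d := m)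
    obtain ⟨g, hg⟩ := hnil.isUnit_one_add
    refine ⟨g, ⟨Nat.clog p m, ?_⟩, ?_⟩
    all_goals
      have h1 : (g : Matrix (Fin m) (Fin m) F) - 1 = Cfsg.Agent.Lib.KnownA.superDiag m := by
        rw [hg, add_sub_cancel_left]
      have h2 := (Cfsg.Agent.Lib.KnownA.orderOf_unipotent_le p g (h1 ▸ hnil)).2 (by
        rw [h1]
        intro h
        have h3 := congrFun (congrFun h ⟨0, hm⟩) ⟨m - 1, by omega⟩
        simp [Cfsg.Agent.Lib.KnownA.superDiag_pow_apply] at h3)
      first
        | exact h2
        | (rw [h2]; exact Nat.le_pow_clog hp.one_lt m)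

end Cfsg.Agent.S2368
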