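import Cfsg.Statements.S2371
import Cfsg.Agent.Lib.RankOne.G2SingerTorus

set_option autoImplicit false
open Cfsg

namespace Cfsg.Agent.S2371

/-- The group G₂(q), q ≥ 3, contains a cyclic subgroup of order q² + q + 1 which is its own centralizer. -/
theorem result {F : Type*} [Field F] [Fintype F] (q : ℕ) (hF : Fintype.card F = q) (hq : 3 ≤ q) :
    ∃ H : Subgroup ↥(Cfsg.Lie.chevG2.group F), IsCyclic ↥H ∧ Nat.card ↥H = q ^ 2 + q + 1 ∧
      Subgroup.centralizer (H : Set ↥(Cfsg.Lie.chevG2.group F)) = H := by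
  classical
  obtain ⟨p, hc⟩ := CharP.exists F
  haveI := hc
  haveI : Fact p.Prime := ⟨CharP.char_is_prime F p⟩
  let K := FiniteField.Extension F p 3
  haveI : Finite F := inferInstance
  haveI : Fintype K := Fintype.ofFinite K
  have hqF : Nat.card F = q := by rw [Nat.card_eq_fintype_card, hF]
  have hK : Nat.card K = q ^ 3 := by rw [FiniteField.natCard_extension, hqF]
  let fr := FiniteField.Extension.frob F p 3
  have hfr : ∀ x : K, fr x = x ^ q := fun x => by rw [FiniteField.Extension.frob_apply, hqF]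
  obtain ⟨g, hg⟩ := IsCyclic.exists_ofOrder_eq_natCard (α := Kˣ)
  have hord : orderOf g = (q - 1) * (q ^ 2 + q + 1) := by
    obtain ⟨r, rfl⟩ : ∃ r, q = r + 1 := ⟨q - 1, by omega⟩
    rw [hg, Nat.card_units, hK, Nat.add_sub_cancel]
    exact Nat.sub_eq_of_eq_add (by ring)
  have hl : orderOf (g ^ (q - 1)) = q ^ 2 + q + 1 := by
    rw [orderOf_pow' _ (by omega : q - 1 ≠ 0), hord, Nat.gcd_mul_right_left, Nat.mul_div_cancel_left _ (by omega)]
  refine Cfsg.Agent.Lib.RankOne.G2Long.singer (algebraMap F K) q hq (fr : K →+* K) hfr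
    (fun x => fr.commutes x) (fun x hx => ?_) (g ^ (q - 1)) hl
  refine (IsGalois.mem_range_algebraMap_iff_fixed (F := F) x).2 fun σ => ?_
  obtain ⟨i, -, rfl⟩ := FiniteField.Extension.exists_frob_pow_eq F p 3 σ
  induction i with
  | zero => simp
  | succ i ih => rw [pow_succ, AlgEquiv.mul_apply]; exact (congrArg _ hx).trans ih

end Cfsg.Agent.S2371
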