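import Cfsg.Statements.S2376
import Cfsg.Agent.Lib.RankOne.TrialityCent

set_option autoImplicit false
open Cfsg

namespace Cfsg.Agent.S2376


set_option maxRecDepth 100000
set_option maxHeartbeats 1000000

open Cfsg.Lie Cfsg.Agent.Lib.Chev Cfsg.Agent.Lib.Chev.Tw Cfsg.Agent.Lib.Chev.Tw.D4 Cfsg.Agent.Lib.RankOne.Triality
open scoped Matrix

variable {K : Type*} [Field K] [Fintype K] {q : ℕ} (A : Par K q)

theorem natCard_Fq : Nat.card ↥(Fq A) = q := by
  refine Eq.trans ?_ (card_fixed A.hq.one_lt (by norm_num : 0 < 3) A.hK)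
  exact Nat.card_congr (Equiv.subtypeEquivRight fun x => by rw [mem_Fq, A.hphi])

theorem phu_pow (x : Kˣ) : phu A x = x ^ q := Units.ext (by rw [Units.val_pow_eq_pow_val]; exact A.hphi x)

theorem inU_nm (t : Kˣ) : inU A (nm A t) = t ^ (1 + q + q ^ 2) := by
  have h : inU A (nm A t) = t * phu A t * phu A (phu A t) := Units.ext rfl
  rw [h, phu_pow, phu_pow, pow_add, pow_add, pow_one, ← pow_mul, pow_two]

theorem inU_injective : Function.Injective (inU A) := fun a b h => by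
  have := congrArg Units.val h
  exact Units.ext (Subtype.ext this)

theorem sum_mul (hq : 1 ≤ q) : (q - 1) * (1 + q + q ^ 2) = q ^ 3 - 1 ∧ (q - 1) * (1 + q) = q ^ 2 - 1 := by
  obtain ⟨n, rfl⟩ : ∃ n, q = n + 1 := ⟨q - 1, by omega⟩
  constructor <;> refine (Nat.sub_eq_of_eq_add ?_).symm <;> rw [Nat.add_sub_cancel] <;> ring

theorem lcm_eq (hq : 2 ≤ q) : Nat.lcm (q ^ 2 - 1) (q ^ 3 - 1) = (q ^ 3 - 1) * (q + 1) := by
  obtain ⟨-, h2⟩ := sum_mul (q := q) (by omega)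
  rw [Nat.lcm, Nat.pow_sub_one_gcd_pow_sub_one, show Nat.gcd 2 3 = 1 from rfl, pow_one, ← h2, mul_assoc,
    Nat.mul_div_cancel_left _ (by omega), mul_comm, add_comm]

/-- A generator of the cyclic subgroup and the membership criterion. -/
theorem exists_gen :
    ∃ (Λ : GL (Fin 2) ↥(Fq A)) (τ : Kˣ) (h : (Λ, τ) ∈ pairs A),
      orderOf (⟨(Λ, τ), h⟩ : pairs A) = (q ^ 3 - 1) * (q + 1) ∧ orderOf τ = q ^ 3 - 1 ∧
      (∀ P : pairs A, (∃ x y : ↥(Fq A), (P.1.1 : Matrix (Fin 2) (Fin 2) ↥(Fq A)) =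
          x • 1 + y • (Λ : Matrix (Fin 2) (Fin 2) ↥(Fq A))) → P ∈ Subgroup.zpowers (⟨(Λ, τ), h⟩ : pairs A)) ∧
      (∀ x : ↥(Fq A), (Matrix.scalar (Fin 2) x - (Λ : Matrix (Fin 2) (Fin 2) ↥(Fq A))).det ≠ 0) := by
  classical
  have hq2 : 2 ≤ q := A.hq.one_lt
  obtain ⟨hs3, hs2⟩ := sum_mul (q := q) (by omega)
  letI : Fintype ↥(Fq A) := Fintype.ofFinite _
  obtain ⟨p, hp⟩ : ∃ p, CharP ↥(Fq A) p := ⟨ringChar _, inferInstance⟩
  haveI := hp
  haveI : Fact p.Prime := ⟨CharP.char_is_prime ↥(Fq A) p⟩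
  let E := FiniteField.Extension ↥(Fq A) p 2
  have hdim : Module.finrank ↥(Fq A) E = 2 := FiniteField.finrank_extension _ p 2
  haveI : Module.Finite ↥(Fq A) E := Module.finite_of_finrank_eq_succ hdim
  let b := Module.finBasisOfFinrankEq ↥(Fq A) E hdim
  obtain ⟨ζ, hζ⟩ := IsCyclic.exists_ofOrder_eq_natCard (α := Eˣ)
  rw [Nat.card_units, FiniteField.natCard_extension, natCard_Fq] at hζ
  obtain ⟨τ₀, hτ₀⟩ := IsCyclic.exists_ofOrder_eq_natCard (α := Kˣ)
  rw [Nat.card_units, Nat.card_eq_fintype_card, A.hK] at hτ₀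
  let lm : Eˣ →* GL (Fin 2) ↥(Fq A) := Units.map (Algebra.leftMulMatrix b).toMonoidHom
  have hlm : Function.Injective lm := fun x y h => Units.ext (Algebra.leftMulMatrix_injective b
    (congrArg Units.val h))
  let N : Eˣ →* (↥(Fq A))ˣ := Units.map (Algebra.norm ↥(Fq A) : E →* ↥(Fq A))
  have hdet : ∀ x, Matrix.GeneralLinearGroup.det (lm x) = N x := fun x => Units.ext (by
    show Matrix.det (Algebra.leftMulMatrix b (x : E)) = Algebra.norm _ (x : E)
    rw [← Algebra.norm_eq_matrix_det])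
  have oN : orderOf (N ζ) = q - 1 := by
    have hinj : Function.Injective (Units.map (algebraMap ↥(Fq A) E : ↥(Fq A) →* E)) := fun x y h =>
      Units.ext ((algebraMap ↥(Fq A) E).injective (congrArg Units.val h))
    have e : Units.map (algebraMap ↥(Fq A) E : ↥(Fq A) →* E) (N ζ) = ζ ^ (1 + q) := Units.ext (by
      show algebraMap _ E (Algebra.norm _ (ζ : E)) = _
      rw [FiniteField.algebraMap_norm_eq_pow_sum, hdim, natCard_Fq, Units.val_pow_eq_pow_val]
      simp [Finset.sum_range_succ])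
    rw [← orderOf_injective _ hinj, e, orderOf_pow_of_dvd (by omega) (hζ ▸ hs2 ▸ dvd_mul_left _ _), hζ,
      ← hs2, Nat.mul_div_cancel _ (by omega)]
  have onm : orderOf (nm A τ₀) = q - 1 := by
    rw [← orderOf_injective _ (inU_injective A), inU_nm,
      orderOf_pow_of_dvd (by positivity) (hτ₀ ▸ hs3 ▸ dvd_mul_left _ _), hτ₀, ← hs3,
      Nat.mul_div_cancel _ (by positivity)]
  have hmem : N ζ ∈ Subgroup.zpowers (nm A τ₀) := by
    have : Subgroup.zpowers (nm A τ₀) = ⊤ := Subgroup.eq_top_of_card_eq _ (by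
      rw [Nat.card_zpowers, onm, Nat.card_units, natCard_Fq])
    rw [this]; exact Subgroup.mem_top _
  obtain ⟨i, hi⟩ := mem_powers_iff_mem_zpowers.2 hmem
  have hcop : Nat.Coprime i (q - 1) := by
    have h := oN
    rw [← hi] at h
    simp only at h
    rw [orderOf_pow, onm] at h
    rw [Nat.Coprime, Nat.gcd_comm]
    exact ((Nat.div_eq_self).1 h).resolve_left (by omega)
  haveI : NeZero (q ^ 3 - 1) := ⟨by have := Nat.one_lt_pow (n := 3) (by norm_num) (show 1 < q by omega); omega⟩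
  obtain ⟨J, hJ⟩ := ZMod.unitsMap_surjective (hs3 ▸ dvd_mul_right _ _ : q - 1 ∣ q ^ 3 - 1)
    (ZMod.unitOfCoprime i hcop)
  let j := (J : ZMod (q ^ 3 - 1)).val
  have hjmod : j ≡ i [MOD q - 1] := by
    rw [← ZMod.natCast_eq_natCast_iff]
    have h := congrArg Units.val hJ
    rw [ZMod.coe_unitOfCoprime] at h
    rw [← h]
    show _ = ZMod.castHom (Dvd.intro _ hs3 : q - 1 ∣ q ^ 3 - 1) (ZMod (q - 1)) _
    rw [ZMod.castHom_apply, ← ZMod.natCast_val]
  set τ := τ₀ ^ j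
  have hτ : orderOf τ = q ^ 3 - 1 := by
    rw [orderOf_pow, hτ₀, Nat.Coprime.gcd_eq_one, Nat.div_one]
    exact Nat.Coprime.symm (ZMod.val_coe_unit_coprime J)
  have hnm : nm A τ = N ζ := by
    rw [map_pow, ← hi]
    exact pow_eq_pow_iff_modEq.2 (by rw [onm]; exact hjmod)
  have hpair : (lm ζ, τ) ∈ pairs A := (hdet ζ).trans hnm.symm
  refine ⟨lm ζ, τ, hpair, ?_, hτ, ?_, ?_⟩
  · rw [← Subgroup.orderOf_coe, Prod.orderOf_mk, orderOf_injective lm hlm, hζ, hτ, lcm_eq hq2]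
  · rintro ⟨⟨B, u⟩, hB⟩ ⟨x, y, hxy⟩
    let w : E := algebraMap _ E x + y • (ζ : E)
    have hw : Algebra.leftMulMatrix b w = (B : Matrix (Fin 2) (Fin 2) ↥(Fq A)) := by
      rw [map_add, AlgHom.commutes, map_smul, hxy, Algebra.algebraMap_eq_smul_one]; rfl
    have hw0 : w ≠ 0 := by
      intro h
      rw [h, map_zero] at hw
      have h2 : B.1.det = 0 := by rw [← hw]; simp
      exact (Matrix.GeneralLinearGroup.det B).ne_zero h2
    have hB' : lm (Units.mk0 w hw0) = B := Units.ext hw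
    obtain ⟨a, ha⟩ : ∃ a : ℕ, ζ ^ a = Units.mk0 w hw0 := by
      have : Subgroup.zpowers ζ = ⊤ := Subgroup.eq_top_of_card_eq _ (by
        rw [Nat.card_zpowers, hζ, Nat.card_units, FiniteField.natCard_extension, natCard_Fq])
      exact mem_powers_iff_mem_zpowers.2 (this ▸ Subgroup.mem_top _)
    obtain ⟨c, hc⟩ : ∃ c : ℕ, τ ^ c = u := by
      have : Subgroup.zpowers τ = ⊤ := Subgroup.eq_top_of_card_eq _ (by
        rw [Nat.card_zpowers, hτ, Nat.card_units, Nat.card_eq_fintype_card, A.hK])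
      exact mem_powers_iff_mem_zpowers.2 (this ▸ Subgroup.mem_top _)
    have hN : N ζ ^ a = N ζ ^ c := by
      rw [← map_pow, ha, ← hdet, hB']
      refine hB.trans ?_
      show nm A u = _
      rw [← hc, map_pow, hnm]
    rw [pow_eq_pow_iff_modEq, oN] at hN
    obtain ⟨k, hk1, hk2⟩ := Nat.chineseRemainder' (n := q ^ 2 - 1) (m := q ^ 3 - 1) (a := a) (b := c) (by
      rw [Nat.pow_sub_one_gcd_pow_sub_one, show Nat.gcd 2 3 = 1 from rfl, pow_one]; exact hN)
    refine ⟨(k : ℤ), ?_⟩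
    refine Subtype.ext (Prod.ext ?_ ?_)
    · show (lm ζ) ^ (k : ℤ) = B
      rw [zpow_natCast, ← map_pow, ← hB', ← ha]
      congr 1
      exact pow_eq_pow_iff_modEq.2 (by rw [hζ]; exact hk1)
    · show τ ^ (k : ℤ) = u
      rw [zpow_natCast, ← hc]
      exact pow_eq_pow_iff_modEq.2 (by rw [hτ]; exact hk2)
  · intro x hx
    have h : algebraMap _ E x - (ζ : E) = 0 := by
      by_contra hne
      have h1 : (Algebra.leftMulMatrix b (algebraMap _ E x - (ζ : E))).det ≠ 0 := by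
        rw [← Algebra.norm_eq_matrix_det]; exact Algebra.norm_ne_zero_iff.2 hne
      refine h1 ?_
      rw [map_sub, AlgHom.commutes]
      exact hx
    rw [sub_eq_zero] at h
    have hx0 : x ≠ 0 := by rintro rfl; rw [map_zero] at h; exact ζ.ne_zero h.symm
    have hx1 := FiniteField.pow_card_sub_one_eq_one x hx0
    rw [← Nat.card_eq_fintype_card, natCard_Fq] at hx1
    have h2 : ζ ^ (q - 1) = 1 := Units.ext (by
      rw [Units.val_pow_eq_pow_val, ← h, ← map_pow, hx1, map_one, Units.val_one])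
    have h3 := orderOf_dvd_of_pow_eq_one h2
    rw [hζ] at h3
    have h4 := Nat.le_of_dvd (by omega) h3
    have : 2 * q ≤ q ^ 2 := by rw [pow_two]; exact Nat.mul_le_mul_right q hq2
    omega

theorem psi_scalar (s : Kˣ) : ∃ P : pairs A,
    (P.1.1 : Matrix (Fin 2) (Fin 2) ↥(Fq A)) = ((nm A s : (↥(Fq A))ˣ) : ↥(Fq A)) • 1 ∧ psi A P = zc A s := by
  set n := nm A s
  let g : GL (Fin 2) ↥(Fq A) :=
    Units.map (algebraMap ↥(Fq A) (Matrix (Fin 2) (Fin 2) ↥(Fq A))).toMonoidHom n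
  have hg : (g : Matrix (Fin 2) (Fin 2) ↥(Fq A)) = (n : ↥(Fq A)) • 1 := by
    show algebraMap _ _ (n : ↥(Fq A)) = _
    rw [Algebra.algebraMap_eq_smul_one]
  have hm : Matrix.GeneralLinearGroup.det g = nm A (s ^ 2) := Units.ext (by
    rw [Matrix.GeneralLinearGroup.val_det_apply, hg, Matrix.det_smul, map_pow]; simp [n])
  have hP : (g, s ^ 2) ∈ pairs A := hm
  refine ⟨⟨(g, s ^ 2), hP⟩, hg, ?_⟩
  have hc : cor A ⟨(g, s ^ 2), hP⟩ = sd (n : ↥(Fq A)) := by
    refine Subtype.ext ?_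
    rw [sd_val n.ne_zero]
    show Matrix.diagonal _ * (g : Matrix (Fin 2) (Fin 2) ↥(Fq A)) = _
    rw [hg]
    ext i j
    fin_cases i <;> fin_cases j <;> simp [n, pow_two]
  rw [psi_apply, hc, ph_sd, torL_mul, mul_one, one_mul]
  rfl

theorem two_span {k : Type*} [Field k] (h01 : ∀ x : k, x = 0 ∨ x = 1) (Λ : Matrix (Fin 2) (Fin 2) k)
    (h : ∀ x : k, (Matrix.scalar (Fin 2) x - Λ).det ≠ 0) :
    ∃ x y : k, !![1, 1; 1, 0] = x • 1 + y • Λ := by
  have h2 : (1 : k) + 1 = 0 := by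
    rcases h01 (1 + 1) with e | e
    · exact e
    · exact absurd (add_eq_left.1 e) one_ne_zero
  have hneg : (-1 : k) = 1 := neg_eq_of_add_eq_zero_left h2
  refine ⟨1 - Λ 0 0, 1, ?_⟩
  have e0 := h 0
  have e1 := h 1
  simp [Matrix.det_fin_two] at e0 e1
  ext i j
  rcases h01 (Λ 0 0) with a | a <;> rcases h01 (Λ 0 1) with b | b <;> rcases h01 (Λ 1 0) with c | c <;>
    rcases h01 (Λ 1 1) with d | d <;> simp [a, b, c, d, h2, hneg] at e0 e1 <;>
    fin_cases i <;> fin_cases j <;> simp [a, b, c, d, h2, hneg]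

theorem commutant {k : Type*} [Field k] (B L : Matrix (Fin 2) (Fin 2) k) (h10 : L 1 0 ≠ 0) (hM : B * L = L * B) :
    ∃ x y : k, B = x • 1 + y • L := by
  have e00 := congrFun (congrFun hM 0) 0
  have e10 := congrFun (congrFun hM 1) 0
  simp only [Matrix.mul_apply, Fin.sum_univ_two] at e00 e10
  refine ⟨B 0 0 - B 1 0 / L 1 0 * L 0 0, B 1 0 / L 1 0, ?_⟩
  ext i j
  fin_cases i <;> fin_cases j <;> simp <;> field_simp
  · linear_combination e00
  · linear_combination e10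

include A in
theorem main :
    ∃ H : Subgroup ↥(Cfsg.Lie.twistedD4 K q), IsCyclic ↥H ∧ Nat.card ↥H = (q ^ 3 - 1) * (q + 1) ∧
      Subgroup.centralizer (H : Set ↥(Cfsg.Lie.twistedD4 K q)) = H := by
  obtain ⟨Λ, τ, hΛ, hord, hτ, hcrit, hirr⟩ := exists_gen A
  set g₀ : pairs A := ⟨(Λ, τ), hΛ⟩
  set x₀ : ↥(Cfsg.Lie.twistedD4 K q) := ⟨psi A g₀, psi_mem A g₀⟩
  have hx : orderOf x₀ = (q ^ 3 - 1) * (q + 1) := by
    rw [← Subgroup.orderOf_coe, ← hord]; exact orderOf_injective (psi A) (psi_injective A) g₀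
  refine ⟨Subgroup.zpowers x₀, inferInstance, by rw [Nat.card_zpowers, hx], ?_⟩
  refine le_antisymm (fun g hg => ?_) ?_
  swap
  · rintro g ⟨i, rfl⟩
    rw [Subgroup.mem_centralizer_iff]
    rintro _ ⟨j, rfl⟩
    exact (Commute.zpow_zpow_self x₀ j i).eq
  have hcomm : psi A g₀ * (g : GL chevD4.Idx K) = (g : GL chevD4.Idx K) * psi A g₀ :=
    congrArg Subtype.val (Subgroup.mem_centralizer_iff.1 hg x₀ (Subgroup.mem_zpowers x₀))
  have hpow : ∀ P ∈ Subgroup.zpowers g₀, Commute (psi A P) (g : GL chevD4.Idx K) := by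
    rintro P ⟨i, rfl⟩
    rw [map_zpow]
    exact (Commute.zpow_left hcomm i)
  have hback : ∀ P ∈ Subgroup.zpowers g₀, (g : GL chevD4.Idx K) = psi A P → g ∈ Subgroup.zpowers x₀ := by
    rintro P ⟨i, rfl⟩ h
    refine ⟨i, Subtype.ext ?_⟩
    show ((x₀ ^ i : ↥(Cfsg.Lie.twistedD4 K q)) : GL chevD4.Idx K) = _
    rw [SubgroupClass.coe_zpow, h, map_zpow]
  obtain ⟨Z, hZ, hZv⟩ := psi_scalar A τ
  have hZmem : Z ∈ Subgroup.zpowers g₀ := hcrit Z ⟨((nm A τ : (↥(Fq A))ˣ) : ↥(Fq A)), 0, by rw [zero_smul, add_zero]; exact hZ⟩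
  have hzc : zc A τ * (g : GL chevD4.Idx K) = (g : GL chevD4.Idx K) * zc A τ := hZv ▸ hpow Z hZmem
  rcases (show q = 2 ∨ 3 ≤ q by have := A.hq.one_lt; omega) with h2 | h3
  · have hFq : ∀ x : ↥(Fq A), x = 0 ∨ x = 1 := by
      intro x
      have h := (mem_Fq A).1 x.2
      rw [A.hphi] at h
      replace h : (x : K) ^ 2 = x := (congrArg (fun n => (x : K) ^ n) h2).symm.trans h
      have : (x : K) * ((x : K) - 1) = 0 := by linear_combination h
      rcases mul_eq_zero.1 this with h | h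
      · exact Or.inl (Subtype.ext h)
      · exact Or.inr (Subtype.ext (sub_eq_zero.1 h))
    obtain ⟨x, y, hxy⟩ := two_span hFq _ hirr
    let M : Matrix.SpecialLinearGroup (Fin 2) ↥(Fq A) := su 1 * sn
    have hneg : (-1 : ↥(Fq A)) = 1 := (hFq _).resolve_left (by simp)
    have hM : (M : Matrix (Fin 2) (Fin 2) ↥(Fq A)) = !![1, 1; 1, 0] := by
      simp only [M, Matrix.SpecialLinearGroup.coe_mul, sn_val]
      simp [su, Matrix.mul_fin_two, hneg]
    have hP : (Matrix.SpecialLinearGroup.toGL M, (1 : Kˣ)) ∈ pairs A := by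
      show Matrix.GeneralLinearGroup.det _ = nm A 1
      rw [map_one]; exact Units.ext M.2
    have hPv : psi A ⟨_, hP⟩ = hel A := by
      rw [psi_apply, torL_one, one_mul]
      refine (congrArg (ph A) (Matrix.SpecialLinearGroup.toGL_injective ?_)).trans
        (show ph A M = hel A by simp [M, hel, ph_su, ph_sn])
      rw [toGL_cor]; simp
    have hPm : (⟨_, hP⟩ : pairs A) ∈ Subgroup.zpowers g₀ := hcrit _ ⟨x, y, hM.trans hxy⟩
    have hT : ∀ t : Kˣ, ∃ P ∈ Subgroup.zpowers g₀, psi A P = torL A t 1 := by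
      intro t
      have hn : nm A t = 1 := Units.ext ((hFq _).resolve_left (nm A t).ne_zero)
      have hQ : ((1 : GL (Fin 2) ↥(Fq A)), t) ∈ pairs A := by
        show Matrix.GeneralLinearGroup.det (1 : GL (Fin 2) ↥(Fq A)) = nm A t
        rw [hn, map_one]
      refine ⟨⟨_, hQ⟩, hcrit _ ⟨1, 0, by simp⟩, ?_⟩
      rw [psi_apply]
      have : cor A ⟨_, hQ⟩ = 1 := Matrix.SpecialLinearGroup.toGL_injective (by rw [toGL_cor, hn]; simp)
      rw [this, map_one, mul_one]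
    obtain ⟨t, i, hti⟩ := cent_two A hτ h2 g.2 hzc (hPv ▸ (hpow _ hPm).symm) (fun t => by
      obtain ⟨Q, hQ, hQv⟩ := hT t
      obtain ⟨a, ha⟩ := hPm
      obtain ⟨c, hc⟩ := hQ
      rw [← hQv, ← hPv, ← ha, ← hc]
      exact (Commute.zpow_zpow_self g₀ c a).map (psi A))
    obtain ⟨Q, hQ, hQv⟩ := hT t
    exact hback _ (mul_mem hQ (pow_mem hPm i)) (by rw [map_mul, map_pow, hQv, hPv, hti])
  · obtain ⟨P, hP⟩ := cent_large A hτ h3 g.2 hzc
    refine hback P (hcrit P ?_) hP.symm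
    have hPc : P * g₀ = g₀ * P := psi_injective A (by rw [map_mul, map_mul, hP]; exact hcomm.symm)
    have hM : (P.1.1 : Matrix (Fin 2) (Fin 2) ↥(Fq A)) * (Λ : Matrix (Fin 2) (Fin 2) ↥(Fq A)) =
        (Λ : Matrix (Fin 2) (Fin 2) ↥(Fq A)) * P.1.1 :=
      congrArg (fun Q : pairs A => (Q.1.1 : Matrix (Fin 2) (Fin 2) ↥(Fq A))) hPc
    refine commutant _ _ ?_ hM
    intro h
    refine hirr ((Λ : Matrix (Fin 2) (Fin 2) ↥(Fq A)) 0 0) ?_
    rw [Matrix.det_fin_two]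
    simp [h]


/-- The group ³D₄(q) contains a cyclic subgroup of order (q³ − 1)(q + 1) which is its own centralizer. -/
theorem result {K : Type*} [Field K] [Fintype K] (q : ℕ) (hq : IsPrimePow q) (hK : Fintype.card K = q ^ 3) :
    ∃ H : Subgroup ↥(Cfsg.Lie.twistedD4 K q), IsCyclic ↥H ∧ Nat.card ↥H = (q ^ 3 - 1) * (q + 1) ∧
      Subgroup.centralizer (H : Set ↥(Cfsg.Lie.twistedD4 K q)) = H := by
  obtain ⟨A⟩ := Cfsg.Agent.Lib.Chev.Tw.D4.exists_par hq hK
  exact main A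

end Cfsg.Agent.S2376
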