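import Cfsg.Statements.S2383
import Cfsg.Agent.Lib.Chev.WeightData
-- import your own Cfsg.Agent.* helpers here

set_option autoImplicit false
open Cfsg

namespace Cfsg.Agent.S2383

/-- Steinberg's count of semisimple classes in characteristic 2 for the types B₂, D₄, E₇, where the finite simply connected group has trivial centre and so coincides with the Chevalley group: for the Chevalley group of type B₂, D₄ or E₇ over a field with `q` elements of characteristic 2, the conjugacy classes of elements of odd order number exactly `q^l`, `l` the rank. -/
theorem result {F : Type*} [Field F] [Fintype F] {q : ℕ} (hq : Fintype.card F = q) [CharP F 2]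
    (D : Cfsg.Lie.ChevalleyDatum) (hD : D ∈ [Cfsg.Lie.chevB2, Cfsg.Lie.chevD4, Cfsg.Lie.chevE7]) :
    Nat.card {c : ConjClasses ↥(D.group F) // ∃ g : ↥(D.group F), ConjClasses.mk g = c ∧ Odd (orderOf g)} = q ^ D.rank := by
  open Cfsg.Agent.Lib.Chev in
    haveI : Fact (Nat.Prime 2) := ⟨Nat.prime_two⟩
    obtain ⟨f, -, hf⟩ := FiniteField.card F 2
    have h2 : Nat.gcd (Fintype.card F - 1) 2 = 1 := by
      have hev : 2 ∣ Fintype.card F := hf ▸ dvd_pow_self 2 f.ne_zero
      have h1 : 1 ≤ Fintype.card F := Fintype.card_pos
      show Nat.Coprime (Fintype.card F - 1) 2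
      rw [Nat.coprime_two_right, Nat.odd_iff]
      omega
    subst hq
    simp only [← Nat.coprime_two_right]
    simp only [List.mem_cons, List.not_mem_nil, or_false] at hD
    rcases hD with rfl | rfl | rfl
    · refine goodB2.card_ss_classes parB2 2 (goodB2.injective_torHom smithB2 fun a ha => ?_)
      have : a < 2 := ha
      interval_cases a <;> simp [h2]
    · refine goodD4.card_ss_classes parD4 2 (goodD4.injective_torHom smithD4 fun a ha => ?_)
      have : a < 4 := ha
      interval_cases a <;> simp [h2]
    · refine goodE7.card_ss_classes parE7 2 (goodE7.injective_torHom smithE7 fun a ha => ?_)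
      have : a < 7 := ha
      interval_cases a <;> simp [h2]

end Cfsg.Agent.S2383
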