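import Cfsg.Statements.S2384
import Cfsg.Agent.Lib.Similar.Orders
import Cfsg.Agent.Lib.Similar.GL
import Cfsg.Agent.Lib.Similar.Classes
set_option autoImplicit false
open Cfsg

namespace Cfsg.Agent.S2384

/-- In `SL_n(q)`, `q` a power of the prime `p`, the number of conjugacy classes of elements of order prime to `p` (the semisimple classes) is `q^(n-1)`. -/
theorem result {F : Type*} [Field F] [Fintype F] {q : ℕ} (hq : Fintype.card F = q) (p : ℕ) [Fact p.Prime] [CharP F p] (n : ℕ) (hn : 1 ≤ n) :
    Nat.card {c : ConjClasses (Matrix.SpecialLinearGroup (Fin n) F) //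
      ∃ g : Matrix.SpecialLinearGroup (Fin n) F, ConjClasses.mk g = c ∧ (orderOf g).Coprime p} = q ^ (n - 1) := by
  classical
  obtain ⟨m, rfl⟩ : ∃ m, n = m + 1 := ⟨n - 1, by omega⟩
  have hp : p.Prime := Fact.out
  let T := {f : Polynomial F // f.Monic ∧ f.natDegree = m + 1 ∧ f.coeff 0 = (-1) ^ (m + 1)}
  -- the count of polynomials
  have hT : Nat.card T = q ^ m := by
    have e0 : T ≃ {f : {f : Polynomial F // f.Monic ∧ f.natDegree = m + 1} //
        f.1.coeff 0 = (-1) ^ (m + 1)} :=
      { toFun := fun f => ⟨⟨f.1, f.2.1, f.2.2.1⟩, f.2.2.2⟩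
        invFun := fun f => ⟨f.1.1, f.1.2.1, f.1.2.2, f.2⟩
        left_inv := fun f => rfl
        right_inv := fun f => rfl }
    let mk : (Fin m → F) → T := fun c =>
      ⟨Polynomial.X ^ (m + 1) + (Polynomial.C ((-1) ^ (m + 1)) + ∑ i : Fin m, Polynomial.C (c i) * Polynomial.X ^ ((i : ℕ) + 1)), by
        have hdeg : (Polynomial.C ((-1 : F) ^ (m + 1)) + ∑ i : Fin m, Polynomial.C (c i) * Polynomial.X ^ ((i : ℕ) + 1)).degree < ((m + 1 : ℕ) : WithBot ℕ) := by
          refine (Polynomial.degree_add_le _ _).trans_lt (max_lt ?_ ?_)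
          · exact Polynomial.degree_C_le.trans_lt (by exact_mod_cast Nat.succ_pos m)
          · refine (Polynomial.degree_sum_le _ _).trans_lt ((Finset.sup_lt_iff (WithBot.bot_lt_coe _)).2 fun i _ => ?_)
            exact (Polynomial.degree_C_mul_X_pow_le _ _).trans_lt (by exact_mod_cast Nat.succ_lt_succ i.2)
        refine ⟨Polynomial.monic_X_pow_add hdeg, ?_, ?_⟩
        · exact Polynomial.natDegree_eq_of_degree_eq_some (by
            rw [Polynomial.degree_add_eq_left_of_degree_lt (by rwa [Polynomial.degree_X_pow])]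
            exact Polynomial.degree_X_pow _)
        · rw [Polynomial.coeff_add, Polynomial.coeff_add, Polynomial.coeff_X_pow, if_neg (by omega),
            Polynomial.coeff_C_zero, Polynomial.finsetSum_coeff, Finset.sum_eq_zero, add_zero, zero_add]
          intro i _
          rw [Polynomial.coeff_C_mul, Polynomial.coeff_X_pow, if_neg (by omega), mul_zero]⟩
    have hcoeff : ∀ (c : Fin m → F) (j : Fin m), (mk c).1.coeff ((j : ℕ) + 1) = c j := fun c j => by
      show (Polynomial.X ^ (m + 1) + _ : Polynomial F).coeff _ = _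
      rw [Polynomial.coeff_add, Polynomial.coeff_add, Polynomial.coeff_X_pow, if_neg (by omega),
        Polynomial.coeff_C, if_neg (by omega), Polynomial.finsetSum_coeff, zero_add, zero_add,
        Finset.sum_eq_single j]
      · rw [Polynomial.coeff_C_mul, Polynomial.coeff_X_pow, if_pos rfl, mul_one]
      · intro i _ hij
        rw [Polynomial.coeff_C_mul, Polynomial.coeff_X_pow, if_neg (fun h => hij (Fin.ext (by omega))), mul_zero]
      · intro h
        exact absurd (Finset.mem_univ j) h
    have hbij : Function.Bijective mk := by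
      refine ⟨fun c d h => funext fun j => ?_, fun f => ⟨fun j => f.1.coeff ((j : ℕ) + 1), ?_⟩⟩
      · rw [← hcoeff c j, ← hcoeff d j, h]
      · apply Subtype.ext
        apply Polynomial.ext
        intro k
        rcases Nat.lt_trichotomy k (m + 1) with hk | hk | hk
        · rcases Nat.eq_zero_or_pos k with rfl | hk0
          · rw [(mk _).2.2.2, f.2.2.2]
          · obtain ⟨j, rfl⟩ : ∃ j : Fin m, k = (j : ℕ) + 1 := ⟨⟨k - 1, by omega⟩, by simp; omega⟩
            exact hcoeff _ j
        · subst hk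
          have a := (mk fun j => f.1.coeff ((j : ℕ) + 1)).2
          have a1 := a.1.coeff_natDegree
          rw [a.2.1] at a1
          have b1 := f.2.1.coeff_natDegree
          rw [f.2.2.1] at b1
          rw [a1, b1]
        · rw [Polynomial.coeff_eq_zero_of_natDegree_lt (by rw [(mk _).2.2.1]; exact hk),
            Polynomial.coeff_eq_zero_of_natDegree_lt (by rw [f.2.2.1]; exact hk)]
    rw [← Nat.card_congr (Equiv.ofBijective mk hbij), Nat.card_fun, Nat.card_eq_fintype_card (α := F), hq,
      Nat.card_fin]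
  rw [Nat.add_sub_cancel, ← hT]
  let ι : Matrix.SpecialLinearGroup (Fin (m + 1)) F →* GL (Fin (m + 1)) F :=
    Matrix.SpecialLinearGroup.toGL
  have hι : Function.Injective ι := fun a b h => Subtype.ext (congrArg Units.val h)
  have hord : ∀ g, (orderOf g).Coprime p → (orderOf (ι g)).Coprime p := fun g h => by
    rw [orderOf_injective ι hι]; exact h
  have hcp : ∀ g : Matrix.SpecialLinearGroup (Fin (m + 1)) F,
      (g : Matrix (Fin (m + 1)) (Fin (m + 1)) F).charpoly.coeff 0 = (-1) ^ (m + 1) := fun g => by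
    have h := Matrix.det_eq_sign_charpoly_coeff (g : Matrix (Fin (m + 1)) (Fin (m + 1)) F)
    rw [g.2, Fintype.card_fin] at h
    calc _ = ((-1 : F) ^ (m + 1) * (-1) ^ (m + 1)) * (g : Matrix (Fin (m + 1)) (Fin (m + 1)) F).charpoly.coeff 0 := by
          rw [← mul_pow]; simp
      _ = _ := by rw [mul_assoc, ← h, mul_one]
  let A := {c : ConjClasses (Matrix.SpecialLinearGroup (Fin (m + 1)) F) //
      ∃ g : Matrix.SpecialLinearGroup (Fin (m + 1)) F, ConjClasses.mk g = c ∧ (orderOf g).Coprime p}
  let Φ : A → T := fun c => ⟨Agent.Lib.Similar.classCharpoly (ConjClasses.map ι c.1), by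
    obtain ⟨g, hg, -⟩ := c.2
    rw [← hg]
    show (g : Matrix (Fin (m + 1)) (Fin (m + 1)) F).charpoly.Monic ∧ _
    exact ⟨Matrix.charpoly_monic _, (Matrix.charpoly_natDegree_eq_dim _).trans (Fintype.card_fin _), hcp g⟩⟩
  refine Nat.card_congr (Equiv.ofBijective Φ ⟨?_, ?_⟩)
  · rintro ⟨c, g, rfl, hg⟩ ⟨d, k, rfl, hk⟩ h
    apply Subtype.ext
    have hc : (ι g : Matrix (Fin (m + 1)) (Fin (m + 1)) F).charpoly =
        (ι k : Matrix (Fin (m + 1)) (Fin (m + 1)) F).charpoly := congrArg Subtype.val h
    obtain ⟨x, hx⟩ := isConj_iff.1 (Agent.Lib.Similar.isConj_of_charpoly_eq (hord g hg) (hord k hk) hc)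
    obtain ⟨h', hdet, hh'⟩ := Agent.Lib.Similar.exists_det_one_conj (ι g) x (hord g hg)
    rw [hx] at hh'
    let s' : Matrix.SpecialLinearGroup (Fin (m + 1)) F := ⟨(h' : Matrix _ _ F), hdet⟩
    have hs' : ι s' = h' := Units.ext rfl
    refine ConjClasses.mk_eq_mk_iff_isConj.2 (isConj_iff.2 ⟨s', hι ?_⟩)
    rw [map_mul, map_mul, map_inv, hs', hh']
  · rintro ⟨f, hfm, hfd, hf0⟩
    let fs := (UniqueFactorizationMonoid.normalizedFactors f).toList
    let P : Fin fs.length → Polynomial F := fun i => fs.get i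
    have hmem : ∀ i, P i ∈ UniqueFactorizationMonoid.normalizedFactors f := fun i =>
      Multiset.mem_toList.1 (List.get_mem _ _)
    have hirr : ∀ i, Irreducible (P i) := fun i =>
      UniqueFactorizationMonoid.irreducible_of_normalized_factor _ (hmem i)
    have hmon : ∀ i, (P i).Monic := fun i => by
      rw [← UniqueFactorizationMonoid.normalize_normalized_factor _ (hmem i)]
      exact Polynomial.monic_normalize (hirr i).ne_zero
    have hprod : ∏ i, P i = f := by
      rw [← List.prod_ofFn, show List.ofFn P = fs from List.ofFn_get fs, Multiset.prod_toList,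
        UniqueFactorizationMonoid.prod_normalizedFactors_eq hfm.ne_zero, hfm.normalize_eq_self]
    have hdeg : ∑ i, (P i).natDegree = m + 1 := by
      rw [← Polynomial.natDegree_prod_of_monic _ _ fun i _ => hmon i, hprod, hfd]
    have h0 : ∀ i, (P i).coeff 0 ≠ 0 := fun i h => by
      have h' : f.coeff 0 = 0 := by
        rw [← hprod, Polynomial.coeff_zero_prod]
        exact Finset.prod_eq_zero (Finset.mem_univ i) h
      rw [hf0] at h'
      exact pow_ne_zero _ (by simp) h'
    set N := q ^ (m + 1).factorial - 1 with hN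
    have hdvd : ∀ i, P i ∣ (Polynomial.X ^ N - 1 : Polynomial F) := fun i => by
      refine (Agent.Lib.Similar.dvd_X_pow_card_sub_one (hirr i) (h0 i)).trans ?_
      obtain ⟨c, hc⟩ : (P i).natDegree ∣ (m + 1).factorial :=
        Nat.dvd_factorial (Polynomial.natDegree_pos_iff_degree_pos.2 (Polynomial.degree_pos_of_irreducible (hirr i))) (by
          rw [← hdeg]; exact Finset.single_le_sum (f := fun j => (P j).natDegree) (fun j _ => Nat.zero_le _) (Finset.mem_univ i))
      obtain ⟨t, ht⟩ : Fintype.card F ^ (P i).natDegree - 1 ∣ N := by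
        rw [hN, hc, pow_mul, ← hq]
        simpa using Nat.sub_one_dvd_pow_sub_one (Fintype.card F ^ (P i).natDegree) c
      rw [ht, pow_mul]
      simpa using sub_dvd_pow_sub_pow ((Polynomial.X : Polynomial F) ^ (Fintype.card F ^ (P i).natDegree - 1)) 1 t
    have hNp : N.Coprime p := by
      obtain ⟨⟨e, he⟩, -, hcard⟩ := FiniteField.card F p
      rw [hq] at hcard
      simp only [PNat.mk_coe] at hcard
      rw [Nat.coprime_comm, hp.coprime_iff_not_dvd]
      intro hd
      have h1 : p ∣ q ^ (m + 1).factorial :=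
        (dvd_pow_self p (by omega : e ≠ 0)).trans (hcard ▸ dvd_pow_self q (Nat.factorial_pos _).ne')
      have hq0 : 1 ≤ q ^ (m + 1).factorial := Nat.one_le_pow _ _ (hq ▸ Fintype.card_pos)
      have h2 := Nat.dvd_sub h1 hd
      rw [hN, Nat.sub_sub_self hq0] at h2
      exact hp.not_dvd_one h2
    obtain ⟨x, hx, hxs⟩ := Agent.Lib.Similar.exists_gl_of_factors (n := Fin (m + 1)) P hmon h0
      (hdeg.trans (Fintype.card_fin _).symm) hdvd
    have hxord : (orderOf x).Coprime p := Agent.Lib.Similar.orderOf_coprime_of_squarefree x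
      (Agent.Lib.Similar.squarefree_X_pow_sub_one hNp) hxs
    have hdet : (x : Matrix (Fin (m + 1)) (Fin (m + 1)) F).det = 1 := by
      rw [Matrix.det_eq_sign_charpoly_coeff, hx, hprod, hf0, Fintype.card_fin, ← mul_pow]
      simp
    let g : Matrix.SpecialLinearGroup (Fin (m + 1)) F := ⟨(x : Matrix _ _ F), hdet⟩
    have hgx : ι g = x := Units.ext rfl
    refine ⟨⟨ConjClasses.mk g, g, rfl, ?_⟩, Subtype.ext ?_⟩
    · rw [← orderOf_injective ι hι, hgx]
      exact hxord
    · show Agent.Lib.Similar.classCharpoly (ConjClasses.map ι (ConjClasses.mk g)) = f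
      show (x : Matrix (Fin (m + 1)) (Fin (m + 1)) F).charpoly = f
      rw [hx, hprod]

end Cfsg.Agent.S2384
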