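import Cfsg.Statements.S2385
import Cfsg.Agent.Lib.KnownA.SympSemisimple
import Cfsg.Agent.S2389
set_option autoImplicit false
open Cfsg Cfsg.Agent.Lib.KnownA.SympSemisimple

namespace Cfsg.Agent.S2385

/-- In the symplectic group `Sp_{2n}(q)`, `q` a power of the prime `p`, the number of conjugacy classes of elements of order prime to `p` is `q^n`. -/
theorem result {F : Type*} [Field F] [Fintype F] {q : ℕ} (hq : Fintype.card F = q) (p : ℕ) [Fact p.Prime] [CharP F p] (n : ℕ) :
    Nat.card {c : ConjClasses ↥(Matrix.symplecticGroup (Fin n) F) //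
      ∃ g : ↥(Matrix.symplecticGroup (Fin n) F), ConjClasses.mk g = c ∧ (orderOf g).Coprime p} = q ^ n := by
  classical
  let A := {c : ConjClasses ↥(Matrix.symplecticGroup (Fin n) F) //
    ∃ g : ↥(Matrix.symplecticGroup (Fin n) F), ConjClasses.mk g = c ∧ (orderOf g).Coprime p}
  let rep : A → ↥(Matrix.symplecticGroup (Fin n) F) := fun c => c.2.choose
  have hrep : ∀ c : A, ConjClasses.mk (rep c) = c.1 ∧ (orderOf (rep c)).Coprime p := fun c => c.2.choose_spec
  let Φ : A → Polynomial F := fun c => ((rep c : Matrix (Fin n ⊕ Fin n) (Fin n ⊕ Fin n) F)).charpoly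
  have hΦ : Function.Injective Φ := by
    intro c d h
    apply Subtype.ext
    rw [← (hrep c).1, ← (hrep d).1, ConjClasses.mk_eq_mk_iff_isConj]
    exact Cfsg.Agent.S2389.result p n _ _ (hrep c).2 (hrep d).2 h
  have hprops : ∀ c : A, (Φ c).Monic ∧ (Φ c).natDegree = 2 * n ∧ (Φ c).reverse = Φ c := by
    intro c
    refine ⟨Matrix.charpoly_monic _, ?_, reverse_charpoly_eq (rep c).2⟩
    simp only [Φ, Matrix.charpoly_natDegree_eq_dim, Fintype.card_sum, Fintype.card_fin, two_mul]
  apply le_antisymm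
  · have : Nat.card A ≤ Nat.card (Fin n → F) :=
      Nat.card_le_card_of_injective (fun c i => (Φ c).coeff (i + 1)) fun c d h => by
        obtain ⟨h1, h2, h3⟩ := hprops c
        obtain ⟨h4, h5, h6⟩ := hprops d
        exact hΦ (coeff_determines h1 h4 h2 h5 h3 h6 fun i => congrFun h i)
    exact this.trans_eq (by simp [Nat.card_fun, Nat.card_eq_fintype_card, hq])
  · have h1 : ∀ h : {h : Polynomial F // h.Monic ∧ h.natDegree = n}, ∃ c : A, Φ c = recip n h.1 := by
      rintro ⟨h, hm, hd⟩
      obtain ⟨g, hg, hgc⟩ := exists_symplectic hm hd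
      obtain ⟨s, hs, hsc⟩ := exists_coprime_charpoly p ⟨g, hg⟩
      refine ⟨⟨ConjClasses.mk s, s, rfl, hs⟩, ?_⟩
      obtain ⟨u, hu⟩ := isConj_iff.mp (ConjClasses.mk_eq_mk_iff_isConj.mp (hrep ⟨ConjClasses.mk s, s, rfl, hs⟩).1)
      have key : ∀ x y : ↥(Matrix.symplecticGroup (Fin n) F), u * x * u⁻¹ = y →
          (y : Matrix (Fin n ⊕ Fin n) (Fin n ⊕ Fin n) F).charpoly = (x : Matrix (Fin n ⊕ Fin n) (Fin n ⊕ Fin n) F).charpoly := by
        rintro x y rfl
        rw [Submonoid.coe_mul, Submonoid.coe_mul, Matrix.charpoly_mul_comm, ← mul_assoc, ← Submonoid.coe_mul,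
          inv_mul_cancel, Submonoid.coe_one, one_mul]
      exact (key _ _ hu).symm.trans (hsc.trans hgc)
    choose c hc using h1
    have := Nat.card_le_card_of_injective c fun a b h => by
      have h2 : recip n a.1 = recip n b.1 := by rw [← hc, ← hc, h]
      exact Subtype.ext (recip_inj a.2.2.le b.2.2.le h2)
    rwa [card_monic, hq] at this

end Cfsg.Agent.S2385
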