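import Cfsg.Statements.S2390
import Mathlib
import Cfsg.Agent.Lib.Similar.SUFibre

set_option autoImplicit false
open Cfsg

namespace Cfsg.Agent.S2390

open Polynomial Cfsg.Agent.Lib.Similar
open Cfsg.Agent.Lib.FamCount (dt)

/-- In the special unitary group `SU_n(q)` (inside `SL_n` over the field with `q²` elements), `q` a power of the prime `p`, two elements of order prime to `p` with the same characteristic polynomial are conjugate in `SU_n(q)`. -/
theorem result {F : Type*} [Field F] [Fintype F] {q : ℕ} (hF : Fintype.card F = q ^ 2) (p : ℕ) [Fact p.Prime] [CharP F p] (n : ℕ)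
    (g h : ↥(Cfsg.SU n F q)) (hg : (orderOf g).Coprime p) (hh : (orderOf h).Coprime p)
    (hc : ((g : Matrix.SpecialLinearGroup (Fin n) F) : Matrix (Fin n) (Fin n) F).charpoly =
      ((h : Matrix.SpecialLinearGroup (Fin n) F) : Matrix (Fin n) (Fin n) F).charpoly) : IsConj g h := by
  classical
  rcases Nat.eq_zero_or_pos n with hn | hn
  · subst hn
    have : Subsingleton ↥(Cfsg.SU 0 F q) := ⟨fun a b => Subtype.ext (Subtype.ext (Subsingleton.elim _ _))⟩
    rw [Subsingleton.elim g h]
  obtain ⟨x, hx⟩ : ∃ x, x = suToGU n F q g := ⟨_, rfl⟩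
  obtain ⟨y, hy⟩ : ∃ y, y = suToGU n F q h := ⟨_, rfl⟩
  have hord : ∀ a : ↥(Cfsg.SU n F q), orderOf ((suToGU n F q a : Cfsg.GU n F q) : GL (Fin n) F) = orderOf a := fun a => by
    rw [Subgroup.orderOf_coe, orderOf_injective _ suToGU_injective]
  have hgl : IsConj (x : GL (Fin n) F) (y : GL (Fin n) F) :=
    isConj_of_charpoly_eq (p := p) (by rw [hx, hord]; exact hg) (by rw [hy, hord]; exact hh) (by rw [hx, hy]; exact hc)
  have hxy := (isConj_GU_iff hF x y).2 hgl
  have hgw : gw (q + 2) (matInv ((x : GL (Fin n) F) : Matrix (Fin n) (Fin n) F)) = 1 := by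
    obtain ⟨h1, h2⟩ := matInv_spec (x : GL (Fin n) F)
    obtain ⟨z, hz⟩ : ∃ z, z ∈ matInv ((x : GL (Fin n) F) : Matrix (Fin n) (Fin n) F) := by
      refine Multiset.exists_mem_of_ne_zero fun h0 => ?_
      rw [h0, Fintype.card_fin] at h2
      simp at h2
      omega
    have hsq : Squarefree (X ^ orderOf (x : GL (Fin n) F) - 1 : F[X]) :=
      squarefree_X_pow_sub_one (p := p) (by rw [hx, hord]; exact hg)
    have hdvd := (aeval_eq_zero_iff_matInv _ _).1 (aeval_toEnd_pow_sub_one (x : GL (Fin n) F)) z hz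
    have he : z.2 = 1 := by
      by_contra hne
      refine (h1 z hz).2.1.not_isUnit (hsq _ (dvd_trans ?_ hdvd))
      rw [← pow_two]
      exact pow_dvd_pow _ (by have := (h1 z hz).2.2.2; omega)
    exact Nat.dvd_one.1 (he ▸ gw_dvd.2 z hz)
  have hle := card_fibreSU_le hF x
  rw [hgw] at hle
  have hs : Subsingleton {C : ConjClasses (Cfsg.SU n F q) // guClass C = ConjClasses.mk x} :=
    Finite.card_le_one_iff_subsingleton.1 hle
  refine ConjClasses.mk_eq_mk_iff_isConj.1 (congrArg Subtype.val (hs.elim ⟨ConjClasses.mk g, ?_⟩ ⟨ConjClasses.mk h, ?_⟩))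
  · rw [hx]; rfl
  · refine Eq.trans ?_ (ConjClasses.mk_eq_mk_iff_isConj.2 hxy).symm
    rw [hy]; rfl

end Cfsg.Agent.S2390
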