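import Cfsg.Statements.S2386
import Cfsg.Agent.Lib.KnownA.SUSemisimple
import Cfsg.Agent.S2390
set_option autoImplicit false
open Cfsg Cfsg.Agent.Lib.KnownA.SUSemisimple
open Cfsg.Agent.Lib.Similar (starP)

namespace Cfsg.Agent.S2386

/-- In the special unitary group `SU_n(q)` (matrices of determinant one over the field with `q²` elements preserving the standard Hermitian form), `q` a power of the prime `p`, the number of conjugacy classes of elements of order prime to `p` is `q^(n-1)`. -/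
theorem result {F : Type*} [Field F] [Fintype F] {q : ℕ} (hF : Fintype.card F = q ^ 2) (p : ℕ) [Fact p.Prime] [CharP F p] (n : ℕ) (hn : 1 ≤ n) :
    Nat.card {c : ConjClasses ↥(Cfsg.SU n F q) // ∃ g : ↥(Cfsg.SU n F q), ConjClasses.mk g = c ∧ (orderOf g).Coprime p} = q ^ (n - 1) := by
  classical
  obtain ⟨d, rfl⟩ : ∃ d, n = d + 1 := ⟨n - 1, by omega⟩
  rw [Nat.add_sub_cancel]
  let A := {c : ConjClasses ↥(Cfsg.SU (d + 1) F q) // ∃ g : ↥(Cfsg.SU (d + 1) F q), ConjClasses.mk g = c ∧ (orderOf g).Coprime p}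
  let φ : ↥(Cfsg.SU (d + 1) F q) →* Matrix (Fin (d + 1)) (Fin (d + 1)) F :=
    (slToMat (d + 1) F).comp (Cfsg.SU (d + 1) F q).subtype
  let s : F := (-1) ^ (d + 1)
  have hss : s * s = 1 := by rw [← mul_pow, neg_one_mul, neg_neg, one_pow]
  have hσs : Cfsg.Agent.Lib.Classical.conjHom hF s = s := by
    simp only [s, map_pow, map_neg, map_one]
  have hs : s ≠ 0 := fun h => by rw [h, mul_zero] at hss; exact zero_ne_one hss
  let rep : A → ↥(Cfsg.SU (d + 1) F q) := fun c => c.2.choose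
  have hrep : ∀ c : A, ConjClasses.mk (rep c) = c.1 ∧ (orderOf (rep c)).Coprime p := fun c => c.2.choose_spec
  have hφ : ∀ x y, IsConj x y → (φ x).charpoly = (φ y).charpoly := by
    intro x y h
    obtain ⟨u, rfl⟩ := isConj_iff.mp h
    rw [map_mul, map_mul, Matrix.charpoly_mul_comm, ← mul_assoc, ← map_mul, inv_mul_cancel, map_one, one_mul]
  have hdet : ∀ x, (φ x).det = 1 := fun x => x.1.2
  have hc0 : ∀ M : Matrix (Fin (d + 1)) (Fin (d + 1)) F, M.charpoly.coeff 0 = s * M.det := fun M => by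
    rw [Matrix.det_eq_sign_charpoly_coeff, Fintype.card_fin, ← mul_assoc, hss, one_mul]
  let T := {g : Cfsg.Agent.S2478.Mon F (d + 1) //
    starP (Cfsg.Agent.Lib.Classical.conjHom hF) g.1 = g.1 ∧ g.1.coeff 0 ∈ ({s} : Finset F)}
  let Φ : A → T := fun c => ⟨⟨(φ (rep c)).charpoly, Matrix.charpoly_monic _,
      by rw [Matrix.charpoly_natDegree_eq_dim, Fintype.card_fin], by rw [hc0, hdet, mul_one]; exact hs⟩,
    starP_charpoly hF (Cfsg.Agent.Lib.Similar.suToGU (d + 1) F q (rep c)),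
    Finset.mem_singleton.2 (by rw [hc0, hdet, mul_one])⟩
  have hbij : Function.Bijective Φ := by
    constructor
    · intro c e h
      apply Subtype.ext
      rw [← (hrep c).1, ← (hrep e).1, ConjClasses.mk_eq_mk_iff_isConj]
      exact Cfsg.Agent.S2390.result hF p (d + 1) _ _ (hrep c).2 (hrep e).2 (congrArg (fun t : T => t.1.1) h)
    · rintro ⟨⟨g, hg⟩, hfix, hg0⟩
      obtain ⟨B, hB⟩ := exists_GU_charpoly hF hg hfix
      have hdB : ((B : GL (Fin (d + 1)) F) : Matrix (Fin (d + 1)) (Fin (d + 1)) F).det = 1 := by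
        have h := Matrix.det_eq_sign_charpoly_coeff ((B : GL (Fin (d + 1)) F) : Matrix (Fin (d + 1)) (Fin (d + 1)) F)
        rw [hB, Fintype.card_fin, show g.coeff 0 = s from Finset.mem_singleton.1 hg0] at h
        rw [h]; exact hss
      let S : ↥(Cfsg.SU (d + 1) F q) := ⟨⟨_, hdB⟩, B.2⟩
      obtain ⟨x, hx, hxc⟩ := exists_coprime_charpoly φ p S
      refine ⟨⟨ConjClasses.mk x, x, rfl, hx⟩, Subtype.ext (Subtype.ext ?_)⟩
      exact (hφ _ _ (ConjClasses.mk_eq_mk_iff_isConj.1 (hrep ⟨ConjClasses.mk x, x, rfl, hx⟩).1)).trans (hxc.trans hB)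
  rw [Nat.card_congr (Equiv.ofBijective Φ hbij)]
  exact card_fixed hF hss hσs

end Cfsg.Agent.S2386
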