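import Cfsg.Statements.S2387
import Cfsg.Agent.Lib.Similar.Count

set_option autoImplicit false
open scoped MatrixGroups
open Cfsg

namespace Cfsg.Agent.S2387

/-- In `GL_n(q)` with `n ≥ 1`, `q` a power of the prime `p`, the number of conjugacy classes of elements of order prime to `p` (diagonalisable over the algebraic closure; determined by the characteristic polynomial) is `(q - 1) q^(n-1)`. -/
theorem result {F : Type*} [Field F] [Fintype F] {q : ℕ} (hq : Fintype.card F = q) (p : ℕ) [Fact p.Prime] [CharP F p] (n : ℕ) (hn : 1 ≤ n) :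
    Nat.card {c : ConjClasses (GL (Fin n) F) // ∃ g : GL (Fin n) F, ConjClasses.mk g = c ∧ (orderOf g).Coprime p} = (q - 1) * q ^ (n - 1) := by
  classical
  let P := {f : Polynomial F // f.Monic ∧ f.natDegree = n ∧ f.coeff 0 ≠ 0}
  let Cl := {c : ConjClasses (GL (Fin n) F) // ∃ g : GL (Fin n) F, ConjClasses.mk g = c ∧ (orderOf g).Coprime p}
  let φ : Cl → P := fun c => ⟨Cfsg.Agent.Lib.Similar.classCharpoly c.1, by
    obtain ⟨g, hg, -⟩ := c.2
    rw [← hg, Cfsg.Agent.Lib.Similar.classCharpoly_mk]
    refine ⟨Matrix.charpoly_monic _, ?_, Cfsg.Agent.Lib.Similar.coeff_zero_charpoly_ne_zero g⟩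
    rw [Matrix.charpoly_natDegree_eq_dim, Fintype.card_fin]⟩
  have hinj : Function.Injective φ := by
    intro c d h
    obtain ⟨g, hg, hgo⟩ := c.2
    obtain ⟨k, hk, hko⟩ := d.2
    have h' : Cfsg.Agent.Lib.Similar.classCharpoly c.1 = Cfsg.Agent.Lib.Similar.classCharpoly d.1 := congrArg Subtype.val h
    rw [← hg, ← hk, Cfsg.Agent.Lib.Similar.classCharpoly_mk, Cfsg.Agent.Lib.Similar.classCharpoly_mk] at h'
    apply Subtype.ext
    rw [← hg, ← hk, ConjClasses.mk_eq_mk_iff_isConj]
    exact Cfsg.Agent.Lib.Similar.isConj_of_charpoly_eq hgo hko h'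
  have hsurj : Function.Surjective φ := by
    intro f
    obtain ⟨f, hm, hdeg, h0⟩ := f
    let M := UniqueFactorizationMonoid.normalizedFactors f
    let ι := Fin M.toList.length
    let q : ι → Polynomial F := fun i => M.toList.get i
    have hmem : ∀ i, q i ∈ M := fun i => Multiset.mem_toList.1 (List.get_mem _ _)
    have hprod : ∏ i, q i = f := by
      rw [show ∏ i, q i = M.toList.prod by rw [← List.prod_ofFn, List.ofFn_get], Multiset.prod_toList,
        UniqueFactorizationMonoid.prod_normalizedFactors_eq, hm.normalize_eq_self]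
      exact hm.ne_zero
    have hirr : ∀ i, Irreducible (q i) := fun i =>
      UniqueFactorizationMonoid.irreducible_of_normalized_factor _ (hmem i)
    have hqm : ∀ i, (q i).Monic := fun i => by
      rw [← UniqueFactorizationMonoid.normalize_normalized_factor _ (hmem i)]
      exact Polynomial.monic_normalize (hirr i).ne_zero
    have hq0 : ∀ i, (q i).coeff 0 ≠ 0 := fun i hi => by
      apply h0
      rw [← hprod, Polynomial.coeff_zero_prod]
      exact Finset.prod_eq_zero (Finset.mem_univ i) hi
    have hs : Squarefree (∏ g ∈ M.toFinset, g) := by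
      refine Finset.squarefree_prod_of_pairwise_isCoprime ?_ fun g hg =>
        (UniqueFactorizationMonoid.irreducible_of_normalized_factor g
          (Multiset.mem_toFinset.1 hg)).squarefree
      intro a ha b hb hab
      have ha' := Multiset.mem_toFinset.1 (Finset.mem_coe.1 ha)
      have hb' := Multiset.mem_toFinset.1 (Finset.mem_coe.1 hb)
      apply IsCoprime.isRelPrime
      apply ((UniqueFactorizationMonoid.irreducible_of_normalized_factor a ha').coprime_iff_not_dvd).2
      intro hd
      apply hab
      rw [← UniqueFactorizationMonoid.normalize_normalized_factor a ha',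
        ← UniqueFactorizationMonoid.normalize_normalized_factor b hb']
      exact normalize_eq_normalize_iff_associated.2
        ((UniqueFactorizationMonoid.irreducible_of_normalized_factor a ha').associated_of_dvd
          (UniqueFactorizationMonoid.irreducible_of_normalized_factor b hb') hd)
    have hsum : ∑ i, (q i).natDegree = Fintype.card (Fin n) := by
      rw [← Polynomial.natDegree_prod_of_monic _ _ (fun i _ => hqm i), hprod, hdeg, Fintype.card_fin]
    obtain ⟨x, hx1, hx2⟩ := Cfsg.Agent.Lib.Similar.exists_gl_of_factors q hqm hq0 hsum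
      (fun i => Finset.dvd_prod_of_mem (fun g => g) (Multiset.mem_toFinset.2 (hmem i)))
    refine ⟨⟨ConjClasses.mk x, x, rfl, Cfsg.Agent.Lib.Similar.orderOf_coprime_of_squarefree x hs hx2⟩, Subtype.ext ?_⟩
    show Cfsg.Agent.Lib.Similar.classCharpoly (ConjClasses.mk x) = f
    rw [Cfsg.Agent.Lib.Similar.classCharpoly_mk, hx1, hprod]
  show Nat.card Cl = _
  rw [Nat.card_congr (Equiv.ofBijective φ ⟨hinj, hsurj⟩)]
  obtain ⟨m, rfl⟩ : ∃ m, n = m + 1 := ⟨n - 1, by omega⟩
  let E := (Polynomial.monicEquivDegreeLT (R := F) (m + 1)).trans (Polynomial.degreeLTEquiv F (m + 1)).toEquiv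
  have e1 : P ≃ {c : Fin (m + 1) → F // c 0 ≠ 0} :=
    { toFun := fun f => ⟨E ⟨f.1, f.2.1, f.2.2.1⟩, by
        show f.1.eraseLead.coeff 0 ≠ 0
        rw [Polynomial.eraseLead_coeff_of_ne]
        · exact f.2.2.2
        · rw [f.2.2.1]; omega⟩
      invFun := fun c => ⟨(E.symm c.1).1, (E.symm c.1).2.1, (E.symm c.1).2.2, by
        have h := congrFun (E.apply_symm_apply c.1) 0
        intro h0
        apply c.2
        rw [← h]
        show ((E.symm c.1).1).eraseLead.coeff 0 = 0
        rw [Polynomial.eraseLead_coeff_of_ne]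
        · exact h0
        · rw [(E.symm c.1).2.2]; omega⟩
      left_inv := fun f => by
        apply Subtype.ext
        show (E.symm (E ⟨f.1, f.2.1, f.2.2.1⟩)).1 = f.1
        rw [E.symm_apply_apply]
      right_inv := fun c => by
        apply Subtype.ext
        exact E.apply_symm_apply c.1 }
  let e2 : {c : Fin (m + 1) → F // c 0 ≠ 0} ≃ {a : F // a ≠ 0} × (Fin m → F) :=
    { toFun := fun c => (⟨c.1 0, c.2⟩, Fin.tail c.1)
      invFun := fun a => ⟨Fin.cons a.1.1 a.2, by rw [Fin.cons_zero]; exact a.1.2⟩
      left_inv := fun c => Subtype.ext (Fin.cons_self_tail c.1)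
      right_inv := fun a => by ext <;> simp }
  rw [Nat.card_congr (e1.trans e2), Nat.card_prod, Nat.card_pi]
  simp [Nat.card_eq_fintype_card, hq, Fintype.card_subtype_compl]

end Cfsg.Agent.S2387
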