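import Cfsg.Statements.S2388
import Cfsg.Agent.Lib.Similar.GL

set_option autoImplicit false
open Cfsg

namespace Cfsg.Agent.S2388

/-- In `SL_n(q)`, `q` a power of the prime `p`, two elements of order prime to `p` with the same characteristic polynomial are conjugate in `SL_n(q)` (not merely in `GL_n`). -/
theorem result {F : Type*} [Field F] [Fintype F] (p : ℕ) [Fact p.Prime] [CharP F p] (n : ℕ)
    (g h : Matrix.SpecialLinearGroup (Fin n) F) (hg : (orderOf g).Coprime p) (hh : (orderOf h).Coprime p)
    (hc : (g : Matrix (Fin n) (Fin n) F).charpoly = (h : Matrix (Fin n) (Fin n) F).charpoly) : IsConj g h := by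
  have key : ∀ k : Matrix.SpecialLinearGroup (Fin n) F,
      orderOf (Matrix.SpecialLinearGroup.toGL k) = orderOf k := fun k =>
    orderOf_injective _ Matrix.SpecialLinearGroup.toGL_injective k
  obtain ⟨c, hc'⟩ := isConj_iff.1 (Cfsg.Agent.Lib.Similar.isConj_of_charpoly_eq (p := p)
    (x := Matrix.SpecialLinearGroup.toGL g) (y := Matrix.SpecialLinearGroup.toGL h)
    (by rw [key]; exact hg) (by rw [key]; exact hh) hc)
  obtain ⟨d, hd1, hd2⟩ := Cfsg.Agent.Lib.Similar.exists_det_one_conj (p := p)
    (Matrix.SpecialLinearGroup.toGL g) c (by rw [key]; exact hg)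
  let e : Matrix.SpecialLinearGroup (Fin n) F := ⟨(d : Matrix (Fin n) (Fin n) F), hd1⟩
  have he : Matrix.SpecialLinearGroup.toGL e = d := Units.ext rfl
  refine isConj_iff.2 ⟨e, Matrix.SpecialLinearGroup.toGL_injective ?_⟩
  rw [map_mul, map_mul, map_inv, he, hd2, hc']

end Cfsg.Agent.S2388
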