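import Cfsg.Statements.S2391

set_option autoImplicit false
open Cfsg

namespace Cfsg.Agent.S2391

section
variable {F : Type*} [Field F] {n : ℕ} (U : Subgroup (Matrix.SpecialLinearGroup (Fin n) F))

private def up (W : Submodule F (Fin n → F)) : Submodule F (Fin n → F) :=
  ⨅ u : U, Submodule.comap
    (Matrix.mulVecLin ((u : Matrix.SpecialLinearGroup (Fin n) F) : Matrix (Fin n) (Fin n) F) - LinearMap.id) W

private theorem mem_up {W : Submodule F (Fin n → F)} {v : Fin n → F} :
    v ∈ up U W ↔ ∀ u ∈ U, ((u : Matrix (Fin n) (Fin n) F)).mulVec v - v ∈ W := by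
  simp [up]

private def series : ℕ → Submodule F (Fin n → F)
  | 0 => ⊥
  | i + 1 => up U (series i)

private theorem series_le_succ : ∀ i, series U i ≤ series U (i + 1)
  | 0 => bot_le
  | i + 1 => fun _ hv => (mem_up U).mpr fun u hu => series_le_succ i ((mem_up U).mp hv u hu)

private theorem mapsTo_series {g : Matrix.SpecialLinearGroup (Fin n) F}
    (hg : g ∈ Subgroup.normalizer (U : Set (Matrix.SpecialLinearGroup (Fin n) F))) :
    ∀ i, ∀ v ∈ series U i, (g : Matrix (Fin n) (Fin n) F).mulVec v ∈ series U i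
  | 0 => fun v hv => by simp_all [series]
  | i + 1 => fun v hv => (mem_up U).mpr fun u hu => by
      have hu' : g⁻¹ * u * g ∈ U := by
        have := (Subgroup.mem_normalizer_iff.mp (inv_mem hg) u).mp hu
        simpa using this
      have h := mapsTo_series hg i _ ((mem_up U).mp hv _ hu')
      rw [Matrix.mulVec_sub, Matrix.mulVec_mulVec, ← Matrix.SpecialLinearGroup.coe_mul, mul_assoc g⁻¹,
        mul_inv_cancel_left] at h
      rwa [Matrix.mulVec_mulVec, ← Matrix.SpecialLinearGroup.coe_mul]

private theorem lt_up {p : ℕ} [Fact p.Prime] [CharP F p] [Fintype F] (hU : IsPGroup p U) {W : Submodule F (Fin n → F)}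
    (hW : W ≠ ⊤) (hinv : ∀ u ∈ U, ∀ v ∈ W, (u : Matrix (Fin n) (Fin n) F).mulVec v ∈ W) (hle : W ≤ up U W) : W < up U W := by
  classical
  let T : U → ((Fin n → F) ⧸ W) →ₗ[F] ((Fin n → F) ⧸ W) := fun u =>
    W.mapQ W (Matrix.mulVecLin ((u : Matrix.SpecialLinearGroup (Fin n) F) : Matrix (Fin n) (Fin n) F)) fun v hv => hinv u u.2 v hv
  let _ : MulAction U ((Fin n → F) ⧸ W) :=
    { smul := fun u q => T u q
      one_smul := fun q => by
        obtain ⟨v, rfl⟩ := Submodule.Quotient.mk_surjective W q
        show T 1 (Submodule.Quotient.mk v) = _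
        simp [T]
      mul_smul := fun a b q => by
        obtain ⟨v, rfl⟩ := Submodule.Quotient.mk_surjective W q
        show T (a * b) (Submodule.Quotient.mk v) = T a (T b (Submodule.Quotient.mk v))
        exact congrArg Submodule.Quotient.mk (Matrix.mulVec_mulVec v (a.1 : Matrix (Fin n) (Fin n) F) b.1).symm }
  have h0 : (0 : (Fin n → F) ⧸ W) ∈ MulAction.fixedPoints U ((Fin n → F) ⧸ W) := fun u => map_zero (T u)
  have hdvd : p ∣ Nat.card ((Fin n → F) ⧸ W) := by
    obtain ⟨k, hp, hk⟩ := FiniteField.card F p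
    rw [Module.natCard_eq_pow_finrank (K := F), Nat.card_eq_fintype_card, hk, ← pow_mul]
    refine dvd_pow_self p (mul_ne_zero k.ne_zero ?_)
    exact (Module.finrank_pos_iff.mpr (Submodule.Quotient.nontrivial_iff.mpr hW)).ne'
  obtain ⟨q, hq, hne⟩ := hU.exists_fixed_point_of_prime_dvd_card_of_fixed_point _ hdvd h0
  obtain ⟨v, rfl⟩ := Submodule.Quotient.mk_surjective W q
  refine lt_of_le_of_ne hle fun he => hne ?_
  have hv : v ∈ up U W := (mem_up U).mpr fun u hu => by
    have h : T ⟨u, hu⟩ (Submodule.Quotient.mk v) = Submodule.Quotient.mk v := hq ⟨u, hu⟩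
    exact (Submodule.Quotient.eq W).mp h
  rw [← he] at hv
  exact ((Submodule.Quotient.mk_eq_zero W).mpr hv).symm

end


/-- The Borel–Tits property of `SL_n(q)` in flag form: for a field `F` of characteristic `p` with finitely many elements and a non-trivial `p`-subgroup `U` of `SL_n(F)`, there is a flag `0 = V₀ < V₁ < ⋯ < V_{k+1} = F^n` with at least one proper non-zero member such that every element of the normaliser of `U` maps each `V_i` onto itself and every element of `U` acts trivially on each quotient `V_{i+1}/V_i` (so the normaliser lies in the parabolic subgroup of the flag and `U` in its unipotent radical). -/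
theorem result {F : Type*} [Field F] [Fintype F] (p : ℕ) [Fact p.Prime] [CharP F p] (n : ℕ)
    (U : Subgroup (Matrix.SpecialLinearGroup (Fin n) F)) (hU : IsPGroup p ↥U) (hne : U ≠ ⊥) :
    ∃ (k : ℕ) (V : Fin (k + 2) → Submodule F (Fin n → F)), 1 ≤ k ∧ StrictMono V ∧ V 0 = ⊥ ∧ V (Fin.last (k + 1)) = ⊤ ∧
      (∀ g ∈ Subgroup.normalizer (U : Set (Matrix.SpecialLinearGroup (Fin n) F)), ∀ i, (V i).map (Matrix.mulVecLin (g : Matrix (Fin n) (Fin n) F)) = V i) ∧
      (∀ u ∈ U, ∀ i : Fin (k + 1), ∀ v ∈ V i.succ, (u : Matrix (Fin n) (Fin n) F).mulVec v - v ∈ V (Fin.castSucc i)) := by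
  classical
  have hstep : ∀ i, series U i ≠ ⊤ → series U i < series U (i + 1) := fun i hi =>
    lt_up U hU hi (fun u hu => mapsTo_series U (Subgroup.le_normalizer hu) i) (series_le_succ U i)
  have hex : ∃ i, series U i = ⊤ := by
    by_contra! h
    have hrank : ∀ i, i ≤ Module.finrank F (series U i) := by
      intro i
      induction i with
      | zero => exact Nat.zero_le _
      | succ i ih => have := Submodule.finrank_lt_finrank_of_lt (hstep i (h i)); omega
    have := (hrank (n + 1)).trans (Submodule.finrank_le _)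
    rw [Module.finrank_fin_fun] at this
    omega
  have hone : series U 1 ≠ ⊤ := by
    intro h1
    refine hne ((Subgroup.eq_bot_iff_forall U).mpr fun u hu => Subtype.ext (Matrix.ext_of_mulVec_single fun i => ?_))
    have : (Pi.single i 1 : Fin n → F) ∈ series U 1 := h1 ▸ trivial
    have := (mem_up U).mp this u hu
    rw [Matrix.SpecialLinearGroup.coe_one, Matrix.one_mulVec]
    exact sub_eq_zero.mp ((Submodule.mem_bot F).mp this)
  have h2 : 2 ≤ Nat.find hex := by
    by_contra! h
    have h1 := Nat.find_spec hex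
    interval_cases hN : Nat.find hex
    · exact hone (eq_top_iff.mpr (h1 ▸ series_le_succ U 0))
    · exact hone h1
  obtain ⟨k, hk⟩ : ∃ k, Nat.find hex = k + 2 := ⟨Nat.find hex - 2, by omega⟩
  refine ⟨k + 1, fun i => series U i, by omega, Fin.strictMono_iff_lt_succ.mpr fun i => ?_, rfl, ?_, fun g hg i => ?_,
    fun u hu i v hv => ?_⟩
  · exact hstep _ (Nat.find_min hex (by have := i.isLt; simp only [Fin.val_castSucc]; omega))
  · show series U ((Fin.last (k + 1 + 1)) : ℕ) = ⊤
    simp only [Fin.val_last]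
    rw [show k + 1 + 1 = Nat.find hex by omega]
    exact Nat.find_spec hex
  · refine le_antisymm ?_ fun v hv => ⟨_, mapsTo_series U (inv_mem hg) _ v hv, ?_⟩
    · rintro _ ⟨v, hv, rfl⟩
      exact mapsTo_series U hg _ v hv
    · rw [Matrix.mulVecLin_apply, Matrix.mulVec_mulVec, ← Matrix.SpecialLinearGroup.coe_mul, mul_inv_cancel]
      simp
  · exact (mem_up U).mp (by simpa [series] using hv) u hu

end Cfsg.Agent.S2391
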