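import Cfsg.Statements.S2392
import Cfsg.Agent.Lib.CrossChar.Basic

set_option autoImplicit false
open scoped MatrixGroups
open Cfsg

namespace Cfsg.Agent.S2392

open Cfsg.Agent.Lib.CrossChar

section
variable {F : Type*} [Field F] {m : ℕ}

/-- The translation `1 + e₀ ⊗ a`. -/
def T (a : Fin m → F) : Matrix.SpecialLinearGroup (Fin (m + 1)) F :=
  ⟨1 + Matrix.vecMulVec (Pi.single 0 1) (Fin.cons 0 a), by
    have h : (1 + Matrix.vecMulVec (Pi.single 0 1) (Fin.cons 0 a) : Matrix (Fin (m + 1)) (Fin (m + 1)) F).BlockTriangular id := by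
      intro i j hij
      have h0 : i ≠ 0 := fun h => by subst h; exact absurd hij (Fin.not_lt_zero _)
      have h1 : i ≠ j := fun h => by subst h; exact lt_irrefl _ hij
      simp [Matrix.vecMulVec_apply, h0, Matrix.one_apply_ne h1]
    rw [Matrix.det_of_upperTriangular h]
    refine Finset.prod_eq_one fun i _ => ?_
    induction i using Fin.cases with
    | zero => simp [Matrix.vecMulVec_apply]
    | succ i => simp [Matrix.vecMulVec_apply]⟩

theorem coe_T (a : Fin m → F) : (T a : Matrix (Fin (m + 1)) (Fin (m + 1)) F) =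
    1 + Matrix.vecMulVec (Pi.single 0 1) (Fin.cons 0 a) := rfl

theorem T_add (a b : Fin m → F) : T (a + b) = T a * T b := by
  refine Subtype.ext ?_
  simp only [Matrix.SpecialLinearGroup.coe_mul, coe_T, add_mul, mul_add, one_mul, mul_one]
  have h0 : Matrix.vecMulVec (Pi.single (0 : Fin (m + 1)) (1 : F)) (Fin.cons 0 a) *
      Matrix.vecMulVec (Pi.single 0 1) (Fin.cons 0 b) = 0 := by
    ext i j
    simp [Matrix.mul_apply, Matrix.vecMulVec_apply, Pi.single_apply]
  rw [h0, add_zero]
  ext i j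
  induction j using Fin.cases <;> simp [Matrix.vecMulVec_apply, Matrix.add_apply] <;> ring

theorem T_zero : T (0 : Fin m → F) = 1 := by
  refine Subtype.ext ?_
  ext i j
  induction j using Fin.cases <;> simp [coe_T, Matrix.vecMulVec_apply, Matrix.add_apply]

/-- An elementary transvection fixing `e₀`. -/
def M (i j : Fin m) (h : i ≠ j) (c : F) : Matrix.SpecialLinearGroup (Fin (m + 1)) F :=
  ⟨Matrix.transvection i.succ j.succ c, Matrix.det_transvection_of_ne _ _ (fun e => h (Fin.succ_inj.mp e)) _⟩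

theorem coe_M (i j : Fin m) (h : i ≠ j) (c : F) : (M i j h c : Matrix (Fin (m + 1)) (Fin (m + 1)) F) =
    Matrix.transvection i.succ j.succ c := rfl

theorem M_T (i j : Fin m) (h : i ≠ j) (c : F) (a : Fin m → F) :
    M i j h c * T (a + Pi.single j (c * a i)) = T a * M i j h c := by
  refine Subtype.ext ?_
  simp only [Matrix.SpecialLinearGroup.coe_mul, coe_T, coe_M, Matrix.transvection, add_mul, mul_add, one_mul, mul_one]
  have h0 : Matrix.single i.succ j.succ c *
      Matrix.vecMulVec (Pi.single 0 1) (Fin.cons 0 (a + Pi.single j (c * a i))) = 0 := by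
    ext k l
    simp [Matrix.mul_apply, Matrix.vecMulVec_apply, Pi.single_apply, Matrix.single, (Fin.succ_ne_zero j)]
  have h1 : Matrix.vecMulVec (Pi.single (0 : Fin (m + 1)) (1 : F)) (Fin.cons 0 a) * Matrix.single i.succ j.succ c =
      Matrix.vecMulVec (Pi.single 0 1) (Pi.single j.succ (c * a i)) := by
    ext k l
    simp [Matrix.mul_apply, Matrix.vecMulVec_apply, Matrix.single, Pi.single_apply, Finset.sum_ite_eq', eq_comm]
    split_ifs <;> simp_all [mul_comm]
  rw [h0, h1]
  ext k l
  induction l using Fin.cases <;>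
    simp [Matrix.vecMulVec_apply, Matrix.add_apply, Pi.single_apply, Fin.succ_inj, (Fin.succ_ne_zero j).symm] <;>
    split_ifs <;> simp_all <;> ring

theorem all_nonzero {S : Set (Fin m → F)} (hm : 2 ≤ m)
    (hS : ∀ b ∈ S, ∀ i j, i ≠ j → ∀ c : F, b + Pi.single i (c * b j) ∈ S)
    {b : Fin m → F} (hb : b ∈ S) (hb0 : b ≠ 0) {b' : Fin m → F} (hb' : b' ≠ 0) : b' ∈ S := by
  classical
  obtain ⟨k, hk⟩ := Function.ne_iff.mp hb'
  -- set one coordinate using a nonzero one
  have hset : ∀ b ∈ S, ∀ i j, i ≠ j → b j ≠ 0 → ∀ x : F, Function.update b i x ∈ S := by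
    intro b hb i j hij hbj x
    convert hS b hb i j hij ((x - b i) / b j) using 1
    funext l
    rcases eq_or_ne l i with rfl | h
    · simp [hbj]
    · simp [h]
  obtain ⟨l, hlk⟩ : ∃ l : Fin m, l ≠ k := by
    have : Nontrivial (Fin m) := Fin.nontrivial_iff_two_le.mpr hm
    exact exists_ne k
  obtain ⟨b₁, hb₁, hb₁k⟩ : ∃ b₁ ∈ S, b₁ k ≠ 0 := by
    obtain ⟨j, hj⟩ := Function.ne_iff.mp hb0
    rcases eq_or_ne j k with rfl | hjk
    · exact ⟨b, hb, hj⟩
    · exact ⟨_, hset b hb k j hjk.symm hj 1, by simp⟩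
  have h2 := hset b₁ hb₁ l k hlk hb₁k 1
  have h3 := hset _ h2 k l hlk.symm (by simp) (b' k)
  have key : ∀ s : Finset (Fin m), ∃ c ∈ S, c k = b' k ∧ ∀ i ∈ s, c i = b' i := by
    intro s
    induction s using Finset.induction_on with
    | empty => exact ⟨_, h3, by simp, by simp⟩
    | @insert i s _ ih =>
      obtain ⟨c, hc, hck, hcs⟩ := ih
      rcases eq_or_ne i k with rfl | hik
      · exact ⟨c, hc, hck, fun x hx => (Finset.mem_insert.mp hx).elim (fun e => e ▸ hck) (hcs x)⟩
      · refine ⟨_, hset c hc i k hik (hck ▸ hk) (b' i), by simp [hik.symm, hck], fun x hx => ?_⟩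
        rcases eq_or_ne x i with rfl | hxi
        · simp
        · simp [hxi, hcs x ((Finset.mem_insert.mp hx).resolve_left hxi)]
  obtain ⟨c, hc, -, hcs⟩ := key Finset.univ
  rwa [show b' = c from funext fun i => (hcs i (Finset.mem_univ i)).symm]

end

/-- A lower bound for representations in cross characteristic: for `n ≥ 3` and a field `F` with `q` elements, every homomorphism from `SL_n(F)` to `GL_d(K)`, `K` a field of characteristic different from that of `F`, whose kernel is central has `d ≥ q^(n-1) - 1`. -/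
theorem result {F : Type*} [Field F] [Fintype F] {q : ℕ} (hq : Fintype.card F = q) (n : ℕ) (hn : 3 ≤ n)
    {K : Type*} [Field K] (hK : ringChar K ≠ ringChar F) {d : ℕ}
    (ρ : Matrix.SpecialLinearGroup (Fin n) F →* GL (Fin d) K) (hker : ρ.ker ≤ Subgroup.center (Matrix.SpecialLinearGroup (Fin n) F)) :
    q ^ (n - 1) - 1 ≤ d := by
  classical
  obtain ⟨m, rfl⟩ : ∃ m, n = m + 1 := ⟨n - 1, by omega⟩
  simp only [Nat.add_sub_cancel]
  let L := AlgebraicClosure K
  let R : Matrix.SpecialLinearGroup (Fin (m + 1)) F →* Module.End L (Fin d → L) :=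
    ((Matrix.toLinAlgEquiv' : Matrix (Fin d) (Fin d) L ≃ₐ[L] _).toRingHom.toMonoidHom.comp
      ((algebraMap K L).mapMatrix.toMonoidHom.comp ((Units.coeHom _).comp ρ)))
  have hR : ∀ g, R g = 1 → ρ g = 1 := by
    intro g hg
    have h1 := (map_eq_one_iff (Matrix.toLinAlgEquiv' : Matrix (Fin d) (Fin d) L ≃ₐ[L] _) (EquivLike.injective _)).mp hg
    refine Units.ext ?_
    ext i j
    have h2 := congrFun (congrFun h1 i) j
    apply (algebraMap K L).injective
    rw [Units.val_one, Matrix.one_apply, apply_ite (algebraMap K L), map_one, map_zero, ← Matrix.one_apply]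
    exact h2
  let φ : AddChar (Fin m → F) (Module.End L (Fin d → L)) :=
    { toFun := fun a => R (T a)
      map_zero_eq_one' := by rw [T_zero, map_one]
      map_add_eq_mul' := fun a b => by rw [T_add, map_mul] }
  obtain ⟨p, hp⟩ := CharP.exists F
  have : Fact p.Prime := ⟨CharP.char_is_prime F p⟩
  have hpL : (p : L) ≠ 0 := by
    rw [← map_natCast (algebraMap K L), _root_.map_ne_zero_iff _ (algebraMap K L).injective]
    intro h0
    have hdvd := ringChar.dvd h0
    rw [ringChar.eq F p] at hK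
    rcases (Nat.dvd_prime Fact.out).mp hdvd with h1 | h1
    · exact one_ne_zero (α := K) (by simpa [h1] using ringChar.Nat.cast_ringChar (R := K))
    · exact hK h1
  let u : Fin m → F := Pi.single ⟨0, by omega⟩ 1
  have hu : φ u ≠ 1 := by
    intro h
    have hc := hker (show T u ∈ ρ.ker from hR _ h)
    obtain ⟨r, -, hr⟩ := Matrix.SpecialLinearGroup.mem_center_iff.mp hc
    have h2 := congrFun (congrFun hr 0) (Fin.succ ⟨0, by omega⟩)
    rw [coe_T, Matrix.add_apply, Matrix.vecMulVec_apply, Fin.cons_succ] at h2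
    simp [u, (Fin.succ_ne_zero (⟨0, by omega⟩ : Fin m)).symm] at h2
  obtain ⟨χ, v, hv0, hv, hχu⟩ := exists_eigvec_char φ u p (by ext i; simp [CharP.cast_eq_zero]) hpL hu
  let ψ : AddChar F L :=
    { toFun := fun s => χ (Pi.single ⟨0, by omega⟩ s)
      map_zero_eq_one' := by simp
      map_add_eq_mul' := fun x y => by rw [← AddChar.map_add_eq_mul, Pi.single_add] }
  have hψ : ψ ≠ 1 := AddChar.ne_one_iff.mpr ⟨1, hχu⟩
  obtain ⟨b, hb⟩ := dualChar_surjective ψ hψ χ
  let S : Set (Fin m → F) := {b | ∃ w : Fin d → L, w ≠ 0 ∧ ∀ a, φ a w = dualChar ψ b a • w}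
  have hS : ∀ b ∈ S, ∀ i j, i ≠ j → ∀ c : F, b + Pi.single i (c * b j) ∈ S := by
    rintro b ⟨w, hw0, hw⟩ i j hij c
    refine ⟨R (M i j hij c) w, fun h => hw0 ?_, fun a => ?_⟩
    · have h1 := congrArg (R (M i j hij c)⁻¹) h
      rwa [← Module.End.mul_apply, ← map_mul, inv_mul_cancel, map_one, map_zero, Module.End.one_apply] at h1
    · show R (T a) (R (M i j hij c) w) = _
      rw [← Module.End.mul_apply, ← map_mul, ← M_T, map_mul, Module.End.mul_apply,
        show R (T (a + Pi.single j (c * a i))) w = _ from hw _, map_smul]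
      congr 1
      simp only [dualChar_apply, add_dotProduct, dotProduct_add, dotProduct_single, single_dotProduct]
      congr 1
      ring
  have hb0 : b ≠ 0 := by
    rintro rfl
    exact hχu (by rw [← hb]; simp [dualChar_apply])
  have hall : ∀ b' : Fin m → F, b' ≠ 0 → b' ∈ S := fun b' => all_nonzero (by omega) hS ⟨v, hv0, hb ▸ hv⟩ hb0
  have hcard : (q ^ m : ℕ) - 1 = ((Finset.univ.filter (fun b' : Fin m → F => b' ≠ 0)).map
      ⟨dualChar ψ, dualChar_injective ψ hψ⟩).card := by
    rw [Finset.card_map, Finset.filter_ne', Finset.card_erase_of_mem (Finset.mem_univ _), Finset.card_univ,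
      Fintype.card_fun, hq, Fintype.card_fin]
  rw [hcard, ← Module.finrank_fin_fun L (n := d)]
  refine card_le_finrank φ ?_ _ ?_
  · obtain ⟨e, -, he⟩ := FiniteField.card F p
    rw [Nat.card_eq_fintype_card, Fintype.card_fun, he, Nat.cast_pow, Nat.cast_pow]
    exact pow_ne_zero _ (pow_ne_zero _ hpL)
  · intro χ' hχ'
    obtain ⟨b', hb', rfl⟩ := Finset.mem_map.mp hχ'
    exact hall b' (Finset.mem_filter.mp hb').2

end Cfsg.Agent.S2392
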