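import Cfsg.Statements.S2393
import Cfsg.Agent.Lib.CrossChar.Basic

set_option autoImplicit false
open scoped MatrixGroups
open Cfsg

namespace Cfsg.Agent.S2393

open Cfsg.Agent.Lib.CrossChar
open Matrix

section
variable {F : Type*} [Field F] {m : ℕ}

/-- A symmetric matrix supported on the first row and column. -/
def sym (a : Fin (m + 1) → F) : Matrix (Fin (m + 1)) (Fin (m + 1)) F :=
  Matrix.of fun i j => if i = 0 then a j else if j = 0 then a i else 0

theorem sym_transpose (a : Fin (m + 1) → F) : (sym a)ᵀ = sym a := by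
  ext i j
  simp only [sym, Matrix.transpose_apply, Matrix.of_apply]
  split_ifs with h1 h2 <;> simp_all

theorem sym_add (a b : Fin (m + 1) → F) : sym (a + b) = sym a + sym b := by
  ext i j
  simp only [sym, Matrix.add_apply, Matrix.of_apply, Pi.add_apply]
  split_ifs <;> simp

/-- The Siegel element. -/
def T (a : Fin (m + 1) → F) : ↥(Matrix.symplecticGroup (Fin (m + 1)) F) :=
  ⟨Matrix.fromBlocks 1 (sym a) 0 1, by
    rw [SymplecticGroup.mem_iff, Matrix.J, Matrix.fromBlocks_transpose, sym_transpose]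
    simp [Matrix.fromBlocks_multiply]⟩

theorem coe_T (a : Fin (m + 1) → F) :
    (T a : Matrix (Fin (m + 1) ⊕ Fin (m + 1)) (Fin (m + 1) ⊕ Fin (m + 1)) F) = Matrix.fromBlocks 1 (sym a) 0 1 := rfl

theorem T_add (a b : Fin (m + 1) → F) : T (a + b) = T a * T b := by
  refine Subtype.ext ?_
  rw [Submonoid.coe_mul, coe_T, coe_T, coe_T, Matrix.fromBlocks_multiply, sym_add, add_comm (sym a)]
  simp

theorem T_zero : T (0 : Fin (m + 1) → F) = 1 := by
  refine Subtype.ext ?_
  rw [coe_T]
  have : sym (0 : Fin (m + 1) → F) = 0 := by ext i j; simp [sym]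
  rw [this, Submonoid.coe_one, Matrix.fromBlocks_one]

/-- The Levi element `diag (N, N')`. -/
def D (N N' : Matrix (Fin (m + 1)) (Fin (m + 1)) F) (h : N * N'ᵀ = 1) : ↥(Matrix.symplecticGroup (Fin (m + 1)) F) :=
  ⟨Matrix.fromBlocks N 0 0 N', by
    rw [SymplecticGroup.mem_iff, Matrix.J, Matrix.fromBlocks_transpose]
    have h' : N' * Nᵀ = 1 := by simpa using congrArg Matrix.transpose h
    simp [Matrix.fromBlocks_multiply, h, h']⟩

theorem D_T {N N' : Matrix (Fin (m + 1)) (Fin (m + 1)) F} (h : N * N'ᵀ = 1) {a a' : Fin (m + 1) → F}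
    (ha : N * sym a = sym a' * N') : D N N' h * T a = T a' * D N N' h := by
  refine Subtype.ext ?_
  rw [Submonoid.coe_mul, Submonoid.coe_mul, coe_T, coe_T,
    show (D N N' h : Matrix (Fin (m + 1) ⊕ Fin (m + 1)) (Fin (m + 1) ⊕ Fin (m + 1)) F) = Matrix.fromBlocks N 0 0 N' from rfl,
    Matrix.fromBlocks_multiply, Matrix.fromBlocks_multiply]
  simp [ha]

theorem shear (i : Fin (m + 1)) (hi : i ≠ 0) (c : F) :
    Matrix.transvection 0 i c * (Matrix.transvection i 0 (-c))ᵀ = 1 := by
  have : (Matrix.transvection i 0 (-c))ᵀ = Matrix.transvection 0 i (-c) := by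
    simp [Matrix.transvection]
  rw [this, Matrix.transvection_mul_transvection_same _ _ hi.symm]
  simp

theorem shear_sym (i : Fin (m + 1)) (hi : i ≠ 0) (c : F) (a : Fin (m + 1) → F) :
    Matrix.transvection 0 i c * sym (a - Pi.single 0 (2 * c * a i)) = sym a * Matrix.transvection i 0 (-c) := by
  ext k l
  rcases eq_or_ne k 0 with rfl | hk <;> rcases eq_or_ne l 0 with rfl | hl
  all_goals first
    | rw [Matrix.transvection_mul_apply_same] | rw [Matrix.transvection_mul_apply_of_ne _ _ _ _ hk]
  all_goals first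
    | rw [Matrix.mul_transvection_apply_same] | rw [Matrix.mul_transvection_apply_of_ne _ _ _ _ hl]
  all_goals simp [sym, hi, *]
  all_goals ring

theorem scale (s : F) (hs : s ≠ 0) :
    Matrix.diagonal (fun i : Fin (m + 1) => if i = 0 then s else 1) *
      (Matrix.diagonal (fun i : Fin (m + 1) => if i = 0 then s⁻¹ else 1))ᵀ = 1 := by
  rw [Matrix.diagonal_transpose, Matrix.diagonal_mul_diagonal, ← Matrix.diagonal_one]
  congr 1
  funext i
  split_ifs <;> simp [hs]

theorem scale_sym (s : F) (hs : s ≠ 0) (a : Fin (m + 1) → F) :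
    Matrix.diagonal (fun i : Fin (m + 1) => if i = 0 then s else 1) *
        sym (fun j => if j = 0 then a j * (s⁻¹ * s⁻¹) else a j * s⁻¹) =
      sym a * Matrix.diagonal (fun i : Fin (m + 1) => if i = 0 then s⁻¹ else 1) := by
  ext k l
  simp only [Matrix.diagonal_mul, Matrix.mul_diagonal, sym, Matrix.of_apply]
  split_ifs <;> field_simp

end

/-- A lower bound for representations in cross characteristic: for `n ≥ 2` and a field `F` with `q` elements, `q` odd, every homomorphism from the symplectic group `Sp_{2n}(F)` to `GL_d(K)`, `K` a field of characteristic different from that of `F`, whose kernel is central has `d ≥ q^(n-1)(q-1)/2`. -/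
theorem result {F : Type*} [Field F] [Fintype F] {q : ℕ} (hq : Fintype.card F = q) (hodd : Odd q) (n : ℕ) (hn : 2 ≤ n)
    {K : Type*} [Field K] (hK : ringChar K ≠ ringChar F) {d : ℕ}
    (ρ : ↥(Matrix.symplecticGroup (Fin n) F) →* GL (Fin d) K) (hker : ρ.ker ≤ Subgroup.center ↥(Matrix.symplecticGroup (Fin n) F)) :
    q ^ (n - 1) * (q - 1) / 2 ≤ d := by
  classical
  obtain ⟨m, rfl⟩ : ∃ m, n = m + 1 := ⟨n - 1, by omega⟩
  simp only [Nat.add_sub_cancel]
  let L := AlgebraicClosure K
  let R : ↥(Matrix.symplecticGroup (Fin (m + 1)) F) →* Module.End L (Fin d → L) :=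
    ((Matrix.toLinAlgEquiv' : Matrix (Fin d) (Fin d) L ≃ₐ[L] _).toRingHom.toMonoidHom.comp
      ((algebraMap K L).mapMatrix.toMonoidHom.comp ((Units.coeHom _).comp ρ)))
  have hR : ∀ g, R g = 1 → ρ g = 1 := by
    intro g hg
    have h1 := (map_eq_one_iff (Matrix.toLinAlgEquiv' : Matrix (Fin d) (Fin d) L ≃ₐ[L] _) (EquivLike.injective _)).mp hg
    refine Units.ext ?_
    ext i j
    have h2 := congrFun (congrFun h1 i) j
    apply (algebraMap K L).injective
    rw [Units.val_one, Matrix.one_apply, apply_ite (algebraMap K L), map_one, map_zero, ← Matrix.one_apply]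
    exact h2
  let φ : AddChar (Fin (m + 1) → F) (Module.End L (Fin d → L)) :=
    { toFun := fun a => R (T a)
      map_zero_eq_one' := by rw [T_zero, map_one]
      map_add_eq_mul' := fun a b => by rw [T_add, map_mul] }
  obtain ⟨p, hp⟩ := CharP.exists F
  have : Fact p.Prime := ⟨CharP.char_is_prime F p⟩
  have hF2 : ringChar F ≠ 2 := by
    intro h
    have := FiniteField.even_card_iff_char_two.mp h
    rw [← hq, Nat.odd_iff] at hodd
    omega
  have h2 : (2 : F) ≠ 0 := Ring.two_ne_zero hF2
  have hpL : (p : L) ≠ 0 := by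
    rw [← map_natCast (algebraMap K L), _root_.map_ne_zero_iff _ (algebraMap K L).injective]
    intro h0
    have hdvd := ringChar.dvd h0
    rw [ringChar.eq F p] at hK
    rcases (Nat.dvd_prime Fact.out).mp hdvd with h1 | h1
    · exact one_ne_zero (α := K) (by simpa [h1] using ringChar.Nat.cast_ringChar (R := K))
    · exact hK h1
  let u : Fin (m + 1) → F := Pi.single 0 1
  have hu : φ u ≠ 1 := by
    intro h
    have hc := hker (show T u ∈ ρ.ker from hR _ h)
    have h1 := congrArg (fun g : ↥(Matrix.symplecticGroup (Fin (m + 1)) F) =>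
      (g : Matrix (Fin (m + 1) ⊕ Fin (m + 1)) (Fin (m + 1) ⊕ Fin (m + 1)) F) (Sum.inl 0) (Sum.inl 0))
      (Subgroup.mem_center_iff.mp hc ⟨Matrix.J _ _, SymplecticGroup.J_mem _ _⟩)
    simp only [Submonoid.coe_mul, coe_T, Matrix.J, Matrix.fromBlocks_multiply, Matrix.fromBlocks_apply₁₁] at h1
    simp [u, sym] at h1
  obtain ⟨χ, v, hv0, hv, hχu⟩ := exists_eigvec_char φ u p (by ext i; simp [CharP.cast_eq_zero]) hpL hu
  let ψ : AddChar F L :=
    { toFun := fun s => χ (Pi.single 0 s)
      map_zero_eq_one' := by simp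
      map_add_eq_mul' := fun x y => by rw [← AddChar.map_add_eq_mul, Pi.single_add] }
  have hψ : ψ ≠ 1 := AddChar.ne_one_iff.mpr ⟨1, hχu⟩
  obtain ⟨b, hb⟩ := dualChar_surjective ψ hψ χ
  let S : Set (Fin (m + 1) → F) := {b | ∃ w : Fin d → L, w ≠ 0 ∧ ∀ a, φ a w = dualChar ψ b a • w}
  have hmove : ∀ b ∈ S, ∀ (g : ↥(Matrix.symplecticGroup (Fin (m + 1)) F)) (f : (Fin (m + 1) → F) → (Fin (m + 1) → F))
      (b' : Fin (m + 1) → F), (∀ a, g * T (f a) = T a * g) → (∀ a, b ⬝ᵥ f a = b' ⬝ᵥ a) → b' ∈ S := by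
    rintro b ⟨w, hw0, hw⟩ g f b' hg hf
    refine ⟨R g w, fun h => hw0 ?_, fun a => ?_⟩
    · have h1 := congrArg (R g⁻¹) h
      rwa [← Module.End.mul_apply, ← map_mul, inv_mul_cancel, map_one, map_zero, Module.End.one_apply] at h1
    · show R (T a) (R g w) = _
      rw [← Module.End.mul_apply, ← map_mul, ← hg, map_mul, Module.End.mul_apply, show R (T (f a)) w = _ from hw _,
        map_smul, dualChar_apply, hf, dualChar_apply]
  have hb0 : b 0 ≠ 0 := by
    intro h0
    exact hχu (by rw [← hb]; simp [dualChar_apply, u, h0])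
  have hshear : ∀ b ∈ S, b 0 ≠ 0 → ∀ i, i ≠ 0 → ∀ x : F, Function.update b i x ∈ S := by
    intro b hb hb0 i hi x
    set c := (b i - x) / (2 * b 0)
    have h1 : ∀ a, D (Matrix.transvection 0 i c) (Matrix.transvection i 0 (-c)) (shear i hi c) *
        T (a - Pi.single 0 (2 * c * a i)) = T a * D (Matrix.transvection 0 i c) (Matrix.transvection i 0 (-c)) (shear i hi c) :=
      fun a => D_T (shear i hi c) (shear_sym i hi c a)
    refine hmove b hb (D (Matrix.transvection 0 i c) (Matrix.transvection i 0 (-c)) (shear i hi c))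
      (fun a => a - Pi.single 0 (2 * c * a i)) (Function.update b i x) ?_ fun a => ?_
    · intro a
      exact h1 a
    have hu : Function.update b i x = b - Pi.single i (2 * c * b 0) := by
      funext l
      rcases eq_or_ne l i with rfl | h
      · simp [c]; field_simp; ring
      · simp [h]
    rw [hu, dotProduct_sub, sub_dotProduct, dotProduct_single, single_dotProduct]
    ring
  have hscale : ∀ b ∈ S, ∀ s : F, s ≠ 0 → (fun j => if j = 0 then b j * (s⁻¹ * s⁻¹) else b j * s⁻¹) ∈ S := by
    intro b hb s hs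
    refine hmove b hb (D _ _ (scale s hs)) (fun a j => if j = 0 then a j * (s⁻¹ * s⁻¹) else a j * s⁻¹) _
      (fun a => D_T _ (scale_sym s hs a)) fun a => ?_
    simp only [dotProduct]
    refine Finset.sum_congr rfl fun j _ => ?_
    split_ifs <;> ring
  have hall : ∀ (x : F), x ≠ 0 → ∀ r : Fin m → F, Fin.cons (b 0 * (x * x)) r ∈ S := by
    intro x hx r
    have h1 := hscale b ⟨v, hv0, hb ▸ hv⟩ x⁻¹ (inv_ne_zero hx)
    set c := (fun j : Fin (m + 1) => if j = 0 then b j * (x⁻¹⁻¹ * x⁻¹⁻¹) else b j * x⁻¹⁻¹)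
    have hc0 : c 0 = b 0 * (x * x) := by simp [c]
    have key : ∀ s : Finset (Fin m), ∃ e ∈ S, e 0 = c 0 ∧ ∀ i ∈ s, e i.succ = r i := by
      intro s
      induction s using Finset.induction_on with
      | empty => exact ⟨c, h1, rfl, by simp⟩
      | @insert i s _ ih =>
        obtain ⟨e, he, he0, hes⟩ := ih
        refine ⟨_, hshear e he (by rw [he0, hc0]; exact mul_ne_zero hb0 (mul_ne_zero hx hx)) i.succ (Fin.succ_ne_zero i) (r i),
          by simp [he0, (Fin.succ_ne_zero i).symm], fun j hj => ?_⟩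
        rcases eq_or_ne j i with rfl | hji
        · simp
        · simp [hji, hes j ((Finset.mem_insert.mp hj).resolve_left hji)]
    obtain ⟨e, he, he0, hes⟩ := key Finset.univ
    convert he using 1
    funext j
    induction j using Fin.cases with
    | zero => simp [he0, hc0]
    | succ j => simp [hes j (Finset.mem_univ j)]
  let sq : Finset F := (Finset.univ.filter (fun x : F => x ≠ 0)).image (fun x => x * x)
  have hsq : sq.card * 2 = q - 1 := by
    have h1 := Finset.card_eq_sum_card_image (fun x : F => x * x) (Finset.univ.filter (fun x : F => x ≠ 0))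
    rw [Finset.sum_const_nat (m := 2), Finset.filter_ne', Finset.card_erase_of_mem (Finset.mem_univ _), Finset.card_univ, hq] at h1
    · rw [h1]; simp only [sq, Finset.filter_ne']
    · intro y hy
      obtain ⟨x, hx, rfl⟩ := Finset.mem_image.mp hy
      have hx0 : x ≠ 0 := (Finset.mem_filter.mp hx).2
      rw [show ((Finset.univ.filter (fun x : F => x ≠ 0)).filter (fun z => z * z = x * x)) = {x, -x} by
        ext z
        simp only [Finset.mem_filter, Finset.mem_univ, true_and, Finset.mem_insert, Finset.mem_singleton, mul_self_eq_mul_self_iff]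
        constructor
        · exact fun h => h.2
        · rintro (rfl | rfl) <;> simp [hx0]]
      refine Finset.card_pair fun h => hx0 ?_
      have : (2 : F) * x = 0 := by linear_combination h
      exact (mul_eq_zero.mp this).resolve_left h2
  let emb : F × (Fin m → F) ↪ AddChar (Fin (m + 1) → F) L :=
    ⟨fun z => dualChar ψ (Fin.cons (b 0 * z.1) z.2), fun z z' h => by
      obtain ⟨h1, h2⟩ := Fin.cons_inj.mp (dualChar_injective ψ hψ h)
      exact Prod.ext (mul_left_cancel₀ hb0 h1) h2⟩
  have hcard : q ^ m * (q - 1) / 2 = ((sq ×ˢ (Finset.univ : Finset (Fin m → F))).map emb).card := by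
    rw [Finset.card_map, Finset.card_product, Finset.card_univ, Fintype.card_fun, hq, Fintype.card_fin, ← hsq,
      ← mul_assoc, Nat.mul_div_cancel _ (by norm_num : 0 < 2), mul_comm]
  rw [hcard, ← Module.finrank_fin_fun L (n := d)]
  refine card_le_finrank φ ?_ _ ?_
  · obtain ⟨e, -, he⟩ := FiniteField.card F p
    rw [Nat.card_eq_fintype_card, Fintype.card_fun, he, Nat.cast_pow, Nat.cast_pow]
    exact pow_ne_zero _ (pow_ne_zero _ hpL)
  · intro χ' hχ'
    obtain ⟨⟨z, r⟩, hz, rfl⟩ := Finset.mem_map.mp hχ'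
    obtain ⟨x, hx, rfl⟩ := Finset.mem_image.mp (Finset.mem_product.mp hz).1
    exact hall x (Finset.mem_filter.mp hx).2 r

end Cfsg.Agent.S2393
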