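import Cfsg.Statements.S2394

set_option autoImplicit false
open scoped MatrixGroups
open Cfsg

universe u

namespace Cfsg.Agent.S2394

section
variable {F A : Type*} [Field F] [CommGroup A] [Finite A]

/-- The restriction of an action to an invariant subspace. -/
def resHom {V : Type*} [AddCommGroup V] [Module F V] (f : A →* Module.End F V) (U : Submodule F V)
    (hU : ∀ a, ∀ v ∈ U, f a v ∈ U) : A →* Module.End F U where
  toFun a := (f a).restrict (hU a)
  map_one' := by ext v; simp
  map_mul' a b := by ext v; simp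

theorem card_image_sq_le [Fintype F] (hA : ((Nat.card A : ℕ) : F) ≠ 0) (E : Subgroup A) (ℓ : ℕ) (hℓ : 1 < ℓ)
    (hE : ∀ e ∈ E, e ^ ℓ = 1) (hF : ∀ χ : A →* F, ∀ e ∈ E, χ e = 1) :
    ∀ (k : ℕ) (V : Type u) [AddCommGroup V] [Module F V] [FiniteDimensional F V], Module.finrank F V = k →
      ∀ f : A →* Module.End F V, Nat.card ((fun e => f e) '' (E : Set A)) ^ 2 ≤ ℓ ^ k := by
  intro k
  induction k using Nat.strong_induction_on with
  | _ k ih =>
    intro V _ _ _ hk f
    classical
    have := Fintype.ofFinite A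
    have hcomm : ∀ a b, f a * f b = f b * f a := fun a b => by rw [← map_mul, ← map_mul, mul_comm]
    rcases Nat.eq_zero_or_pos k with rfl | hkpos
    · have : Subsingleton V := Module.finrank_zero_iff.mp hk
      have : Subsingleton (Module.End F V) := ⟨fun x y => LinearMap.ext fun v => Subsingleton.elim _ _⟩
      have : Nat.card ((fun e => f e) '' (E : Set A)) ≤ 1 := Finite.card_le_one_iff_subsingleton.mpr inferInstance
      exact le_trans (Nat.pow_le_pow_left this 2) (by simp)
    by_cases hirr : ∀ U : Submodule F V, (∀ a, ∀ v ∈ U, f a v ∈ U) → U = ⊥ ∨ U = ⊤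
    · -- irreducible
      rcases Nat.eq_or_lt_of_le hkpos with h1 | h1
      · -- one-dimensional
        obtain ⟨v, hv0, hv⟩ := finrank_eq_one_iff'.mp (hk.trans h1.symm)
        choose c hc using fun a => hv (f a v)
        let χ : A →* F :=
          { toFun := c
            map_one' := smul_left_injective F hv0 (by simp [hc])
            map_mul' := fun a b => smul_left_injective F hv0 (by
              show c (a * b) • v = (c a * c b) • v
              rw [hc, map_mul, Module.End.mul_apply, ← hc b, map_smul, ← hc a, smul_smul, mul_comm]) }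
        have hsub : (fun e => f e) '' (E : Set A) ⊆ {1} := by
          rintro _ ⟨e, he, rfl⟩
          refine LinearMap.ext fun w => ?_
          obtain ⟨t, rfl⟩ := hv w
          simp [← hc, show c e = 1 from hF χ e he]
        have : Nat.card ((fun e => f e) '' (E : Set A)) ≤ 1 := by
          rw [Nat.card_coe_set_eq]
          exact (Set.ncard_le_ncard hsub).trans (by simp)
        exact le_trans (Nat.pow_le_pow_left this 2) (by simpa using Nat.one_le_pow k ℓ (by omega))
      · -- an integral domain
        let R := Algebra.adjoin F (Set.range f)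
        let _hR : CommRing R := Algebra.adjoinCommRingOfComm F (by rintro _ ⟨a, rfl⟩ _ ⟨b, rfl⟩; exact hcomm a b)
        have hcent : ∀ x ∈ R, ∀ a, x * f a = f a * x := fun x hx a => by
          induction hx using Algebra.adjoin_induction with
          | mem y hy => obtain ⟨b, rfl⟩ := hy; exact hcomm b a
          | algebraMap r => exact Algebra.commutes r _
          | add y z _ _ h1 h2 => rw [add_mul, mul_add, h1, h2]
          | mul y z _ _ h1 h2 => rw [mul_assoc, h2, ← mul_assoc, h1, mul_assoc]
        have : Nontrivial V := Module.nontrivial_of_finrank_pos (R := F) (by omega)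
        have : Nontrivial R := ⟨⟨0, 1, fun h => zero_ne_one (congrArg Subtype.val h : (0 : Module.End F V) = 1)⟩⟩
        have : NoZeroDivisors R := ⟨fun {x y} hxy => by
          by_cases hx : x = 0
          · exact Or.inl hx
          rcases hirr (LinearMap.ker (x : Module.End F V)) (fun a v hv => by
            rw [LinearMap.mem_ker] at hv ⊢
            rw [← Module.End.mul_apply, hcent _ x.2 a, Module.End.mul_apply, hv, map_zero]) with h | h
          · refine Or.inr (Subtype.ext (LinearMap.ext fun v => LinearMap.ker_eq_bot.mp h ?_))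
            have := LinearMap.congr_fun (congrArg Subtype.val hxy) v
            simpa using this
          · exact absurd (Subtype.ext (LinearMap.ker_eq_top.mp h)) hx⟩
        have : IsDomain R := NoZeroDivisors.to_isDomain _
        let S : Finset R := (Polynomial.nthRoots ℓ (1 : R)).toFinset
        have hsub : (fun e => f e) '' (E : Set A) ⊆ Subtype.val '' (S : Set R) := by
          rintro _ ⟨e, he, rfl⟩
          refine ⟨⟨f e, Algebra.subset_adjoin ⟨e, rfl⟩⟩, ?_, rfl⟩
          simp only [S, Finset.mem_coe, Multiset.mem_toFinset, Polynomial.mem_nthRoots (by omega : 0 < ℓ)]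
          exact Subtype.ext (show f e ^ ℓ = 1 by rw [← map_pow, hE e he, map_one])
        have h2 : Nat.card ((fun e => f e) '' (E : Set A)) ≤ ℓ := by
          rw [Nat.card_coe_set_eq]
          refine (Set.ncard_le_ncard hsub ((Finset.finite_toSet S).image _)).trans ((Set.ncard_image_le (Finset.finite_toSet S)).trans ?_)
          rw [Set.ncard_coe_finset]
          exact (Multiset.toFinset_card_le _).trans (Polynomial.card_nthRoots ℓ 1)
        exact le_trans (Nat.pow_le_pow_left h2 2) (Nat.pow_le_pow_right (by omega) h1)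
    · push Not at hirr
      obtain ⟨U, hU, hUb, hUt⟩ := hirr
      obtain ⟨U', hUU'⟩ := U.exists_isCompl
      let π : Module.End F V := U.subtype.comp (U.projectionOnto U' hUU')
      let π' : Module.End F V := (Nat.card A : F)⁻¹ • ∑ a, f a * π * f a⁻¹
      have hπ'U : ∀ v, π' v ∈ U := fun v => by
        simp only [π', LinearMap.smul_apply, LinearMap.sum_apply, Module.End.mul_apply]
        exact U.smul_mem _ (U.sum_mem fun a _ => hU a _ (Submodule.coe_mem _))
      have hπ'id : ∀ v ∈ U, π' v = v := fun v hv => by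
        simp only [π', LinearMap.smul_apply, LinearMap.sum_apply, Module.End.mul_apply]
        have h1 : ∀ a, f a (π (f a⁻¹ v)) = v := fun a => by
          have hp : π (f a⁻¹ v) = f a⁻¹ v := by
            simp only [π, LinearMap.comp_apply, Submodule.subtype_apply]
            rw [Submodule.projectionOnto_apply_left hUU' ⟨_, hU _ v hv⟩]
          rw [hp, ← Module.End.mul_apply, ← map_mul, mul_inv_cancel, map_one, Module.End.one_apply]
        rw [Finset.sum_congr rfl (fun a _ => h1 a), Finset.sum_const, Finset.card_univ, ← Nat.card_eq_fintype_card,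
          ← Nat.cast_smul_eq_nsmul F, smul_smul, inv_mul_cancel₀ hA, one_smul]
      have hπ'comm : ∀ b, π' * f b = f b * π' := fun b => by
        simp only [π', smul_mul_assoc, mul_smul_comm, Finset.sum_mul, Finset.mul_sum]
        congr 1
        refine (Equiv.sum_comp (Equiv.mulLeft b) (fun a => f a * π * f a⁻¹ * f b)).symm.trans ?_
        refine Finset.sum_congr rfl fun a _ => ?_
        simp only [Equiv.coe_mulLeft, mul_assoc, ← map_mul]
        rw [mul_inv_rev, mul_assoc, inv_mul_cancel, mul_one, map_mul, mul_assoc]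
      let W := LinearMap.ker π'
      have hW : ∀ a, ∀ v ∈ W, f a v ∈ W := fun a v hv => by
        rw [LinearMap.mem_ker] at hv ⊢
        rw [← Module.End.mul_apply, hπ'comm, Module.End.mul_apply, hv, map_zero]
      have hsplit : ∀ v, v - π' v ∈ W := fun v => by
        rw [LinearMap.mem_ker, map_sub, hπ'id _ (hπ'U v), sub_self]
      have hrank : Module.finrank F U + Module.finrank F W = k := by
        have h1 := LinearMap.finrank_range_add_finrank_ker π'
        rwa [show LinearMap.range π' = U from le_antisymm (by rintro _ ⟨v, rfl⟩; exact hπ'U v)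
          (fun v hv => ⟨v, hπ'id v hv⟩), hk] at h1
      have hUk : Module.finrank F U < k := hk ▸ Submodule.finrank_lt hUt
      have hWk : Module.finrank F W < k := by
        have : 0 < Module.finrank F U := Nat.pos_of_ne_zero fun h => hUb (Submodule.finrank_eq_zero.mp h)
        omega
      have hUi := ih _ hUk U rfl (resHom f U hU)
      have hWi := ih _ hWk W rfl (resHom f W hW)
      let X := (fun e => f e) '' (E : Set A)
      let j : X → ((fun e => resHom f U hU e) '' (E : Set A)) × ((fun e => resHom f W hW e) '' (E : Set A)) :=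
        fun x => (⟨resHom f U hU x.2.choose, _, x.2.choose_spec.1, rfl⟩, ⟨resHom f W hW x.2.choose, _, x.2.choose_spec.1, rfl⟩)
      have hj : Function.Injective j := by
        intro x y hxy
        obtain ⟨h1, h2⟩ := Prod.mk.inj hxy
        have h1' := congrArg Subtype.val h1
        have h2' := congrArg Subtype.val h2
        refine Subtype.ext ?_
        rw [← x.2.choose_spec.2, ← y.2.choose_spec.2]
        refine LinearMap.ext fun v => ?_
        rw [← add_sub_cancel (π' v) v, map_add, map_add]
        have e1 := congrArg Subtype.val (LinearMap.congr_fun h1' ⟨π' v, hπ'U v⟩)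
        have e2 := congrArg Subtype.val (LinearMap.congr_fun h2' ⟨v - π' v, hsplit v⟩)
        exact congrArg₂ (· + ·) e1 e2
      have hle := Nat.card_le_card_of_injective j hj
      rw [Nat.card_prod] at hle
      refine (Nat.pow_le_pow_left hle 2).trans ?_
      rw [mul_pow, ← hrank, pow_add]
      exact Nat.mul_le_mul hUi hWi

/-- The block embedding of `SL₂ⁿ` in `Sp₂ₙ`. -/
def sl2pow (F : Type*) [Field F] (n : ℕ) : (Fin n → Matrix.SpecialLinearGroup (Fin 2) F) →* ↥(Matrix.symplecticGroup (Fin n) F) where
  toFun M := ⟨Matrix.fromBlocks (Matrix.diagonal fun i => M i 0 0) (Matrix.diagonal fun i => M i 0 1)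
      (Matrix.diagonal fun i => M i 1 0) (Matrix.diagonal fun i => M i 1 1), by
    rw [SymplecticGroup.mem_iff, Matrix.J, Matrix.fromBlocks_transpose]
    have hd : ∀ i, M i 0 0 * M i 1 1 - M i 0 1 * M i 1 0 = 1 := fun i => by
      rw [← Matrix.det_fin_two]; exact (M i).2
    simp only [Matrix.fromBlocks_multiply, Matrix.diagonal_transpose, Matrix.mul_zero, Matrix.mul_one, zero_add, add_zero,
      mul_neg, neg_mul, Matrix.diagonal_mul_diagonal, Matrix.zero_mul, Matrix.one_mul]
    congr 1 <;> (ext i j; rcases eq_or_ne i j with rfl | h)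
    all_goals simp [*]
    all_goals first | ring1 | linear_combination (hd i) | linear_combination -(hd i) | linear_combination (hd j) | linear_combination -(hd j)⟩
  map_one' := by
    refine Subtype.ext ?_
    simp
  map_mul' M M' := by
    refine Subtype.ext ?_
    simp [Matrix.fromBlocks_multiply, Matrix.mul_apply, Fin.sum_univ_two, Matrix.diagonal_mul_diagonal]

theorem sl2pow_injective (F : Type*) [Field F] (n : ℕ) : Function.Injective (sl2pow F n) := by
  intro M M' h
  funext i
  have h1 := congrArg (fun g : ↥(Matrix.symplecticGroup (Fin n) F) => (g : Matrix (Fin n ⊕ Fin n) (Fin n ⊕ Fin n) F)) h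
  obtain ⟨a, b, c, d⟩ := Matrix.fromBlocks_inj.mp h1
  ext k l
  fin_cases k <;> fin_cases l
  · simpa using congrFun (congrFun a i) i
  · simpa using congrFun (congrFun b i) i
  · simpa using congrFun (congrFun c i) i
  · simpa using congrFun (congrFun d i) i

theorem exists_torus_element (F : Type*) [Field F] [Fintype F] :
    ∃ (c : Matrix.SpecialLinearGroup (Fin 2) F) (ℓ : ℕ), ℓ.Prime ∧ ℓ ∣ orderOf c ∧ ((orderOf c : ℕ) : F) ≠ 0 ∧
      ∀ z : F, z ^ orderOf c = 1 → z ^ (orderOf c / ℓ) = 1 := by
  classical
  set q := Fintype.card F with hqdef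
  have hq2 : 2 ≤ q := Fintype.one_lt_card
  by_cases hodd : ∃ ℓ : ℕ, ℓ.Prime ∧ ℓ ≠ 2 ∧ ℓ ∣ q + 1
  · obtain ⟨ℓ, hℓ, hℓ2, hdvd⟩ := hodd
    have := Fact.mk hℓ
    have hGL : ℓ ∣ Nat.card (GL (Fin 2) F) := by
      rw [Matrix.card_GL_field, Fin.prod_univ_two, ← hqdef]
      simp only [Fin.val_zero, pow_zero, Fin.val_one, pow_one]
      exact (hdvd.trans ⟨q - 1, by rw [← Nat.sq_sub_sq, one_pow]⟩).mul_right _
    obtain ⟨g, hg⟩ := exists_prime_orderOf_dvd_card' ℓ hGL
    have hℓq : ¬ ℓ ∣ q - 1 := fun h => by
      have := Nat.dvd_sub hdvd h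
      rw [show q + 1 - (q - 1) = 2 by omega] at this
      exact hℓ2 ((Nat.prime_dvd_prime_iff_eq hℓ Nat.prime_two).mp this)
    have hz : ∀ z : F, z ^ ℓ = 1 → z = 1 := fun z hz => by
      have hz0 : z ≠ 0 := by rintro rfl; rw [zero_pow hℓ.ne_zero] at hz; exact zero_ne_one hz
      refine orderOf_eq_one_iff.mp (Nat.eq_one_of_dvd_coprimes ((Nat.Prime.coprime_iff_not_dvd hℓ).mpr hℓq)
        (orderOf_dvd_of_pow_eq_one hz) (orderOf_dvd_of_pow_eq_one (FiniteField.pow_card_sub_one_eq_one z hz0)))
    have hdet : (g : Matrix (Fin 2) (Fin 2) F).det = 1 := hz _ (by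
      rw [← Matrix.det_pow, ← Units.val_pow_eq_pow_val, ← hg, pow_orderOf_eq_one, Units.val_one, Matrix.det_one])
    let c : Matrix.SpecialLinearGroup (Fin 2) F := ⟨g, hdet⟩
    have hc : orderOf c = ℓ := by
      rw [← orderOf_injective Matrix.SpecialLinearGroup.toGL Matrix.SpecialLinearGroup.toGL_injective c, ← hg]
      congr 1
      exact Units.ext rfl
    refine ⟨c, ℓ, hℓ, hc ▸ dvd_rfl, ?_, fun z h => ?_⟩
    · rw [hc]
      intro h0
      obtain ⟨p, hp⟩ := CharP.exists F
      have := Fact.mk (CharP.char_is_prime F p)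
      rw [CharP.cast_eq_zero_iff F p, Nat.prime_dvd_prime_iff_eq Fact.out hℓ] at h0
      subst h0
      obtain ⟨e, -, he⟩ := FiniteField.card F p
      have h1 : p ∣ q := by rw [hqdef, he]; exact dvd_pow_self p e.ne_zero
      exact hℓ.one_lt.ne' (Nat.dvd_one.mp ((Nat.dvd_add_right h1).mp hdvd))
    · rw [hc] at h ⊢
      rw [hz z h, one_pow]
  · push Not at hodd
    have h2q : 2 ∣ q + 1 := by
      have h1 := Nat.minFac_prime (show q + 1 ≠ 1 by omega)
      by_contra hc
      exact hc ((hodd _ h1 fun h => hc (h ▸ Nat.minFac_dvd _)).elim (Nat.minFac_dvd _))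
    have h4q : 4 ∣ q + 1 := by
      obtain ⟨t, ht⟩ := h2q
      have h1 := Nat.minFac_prime (show t ≠ 1 by omega)
      rcases eq_or_ne t.minFac 2 with h | h
      · obtain ⟨s, hs⟩ := h ▸ Nat.minFac_dvd t
        exact ⟨s, by omega⟩
      · exact ((hodd _ h1 h) ((Nat.minFac_dvd t).trans ⟨2, by omega⟩)).elim
    have h2F : (2 : F) ≠ 0 := Ring.two_ne_zero fun h => by
      have := FiniteField.even_card_iff_char_two.mp h
      omega
    let c : Matrix.SpecialLinearGroup (Fin 2) F := ⟨!![0, -1; 1, 0], by simp [Matrix.det_fin_two]⟩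
    have hc2 : c ^ 2 = -1 := by
      refine Subtype.ext ?_
      rw [sq, Matrix.SpecialLinearGroup.coe_mul]
      show (!![0, -1; 1, 0] : Matrix (Fin 2) (Fin 2) F) * !![0, -1; 1, 0] = _
      ext i j
      fin_cases i <;> fin_cases j <;> simp [Matrix.mul_apply, Fin.sum_univ_two]
    have hc : orderOf c = 2 ^ (1 + 1) := by
      refine orderOf_eq_prime_pow ?_ ?_
      · rw [pow_one, hc2]
        intro h
        have h1 := congrArg (fun g : Matrix.SpecialLinearGroup (Fin 2) F => g 0 0) h
        simp at h1
        exact h2F (by linear_combination -h1)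
      · rw [pow_succ, pow_one, pow_mul, hc2, sq, neg_mul_neg, one_mul]
    refine ⟨c, 2, Nat.prime_two, hc ▸ by norm_num, ?_, fun z h => ?_⟩
    · rw [hc]
      have h4 := pow_ne_zero 2 h2F
      norm_num at h4 ⊢
      exact h4
    · rw [hc] at h ⊢
      norm_num at h ⊢
      have hz0 : z ≠ 0 := by rintro rfl; norm_num at h
      obtain ⟨t, ht⟩ := h4q
      have h3 := FiniteField.pow_card_sub_one_eq_one z hz0
      rw [← hqdef, show q - 1 = 4 * (t - 1) + 2 by omega, pow_add, pow_mul, h, one_pow, one_mul] at h3
      exact mul_self_eq_one_iff.mp (by rw [← sq]; exact h3)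

end

/-- The smallest degree of a faithful representation of the symplectic group `Sp_{2n}(q)` over its own field `F_q` is `2n`: every injective homomorphism from `Sp_{2n}(F)` to `GL_d(F)`, `F` the field with `q` elements, has `d ≥ 2n`. -/
theorem result {F : Type*} [Field F] [Fintype F] (n : ℕ) {d : ℕ}
    (ρ : ↥(Matrix.symplecticGroup (Fin n) F) →* GL (Fin d) F) (hρ : Function.Injective ρ) : 2 * n ≤ d := by
  classical
  obtain ⟨c, ℓ, hℓ, hdvd, hN, hz⟩ := exists_torus_element F
  let N := orderOf c
  let C := Subgroup.zpowers c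
  let _ : CommGroup C := IsCyclic.commGroup
  let ι : (Fin n → C) →* ↥(Matrix.symplecticGroup (Fin n) F) := (sl2pow F n).comp (C.subtype.compLeft (Fin n))
  let f : (Fin n → C) →* Module.End F (Fin d → F) :=
    (Matrix.toLinAlgEquiv' : Matrix (Fin d) (Fin d) F ≃ₐ[F] _).toRingHom.toMonoidHom.comp
      ((Units.coeHom _).comp (ρ.comp ι))
  have hf : Function.Injective f := fun x y h => by
    have h1 := (sl2pow_injective F n) (hρ (Units.ext ((Matrix.toLinAlgEquiv' : Matrix (Fin d) (Fin d) F ≃ₐ[F] _).injective h)))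
    exact funext fun i => Subtype.ext (congrFun h1 i)
  let E : Subgroup (Fin n → C) := (powMonoidHom (N / ℓ)).range
  have hℓN : N / ℓ * ℓ = N := Nat.div_mul_cancel hdvd
  have hEl : ∀ e ∈ E, e ^ ℓ = 1 := by
    rintro _ ⟨x, rfl⟩
    rw [powMonoidHom_apply, ← pow_mul, hℓN]
    exact funext fun i => Subtype.ext (orderOf_dvd_iff_pow_eq_one.mp (orderOf_dvd_of_mem_zpowers (x i).2))
  have hFix : ∀ χ : (Fin n → C) →* F, ∀ e ∈ E, χ e = 1 := by
    rintro χ _ ⟨x, rfl⟩
    rw [powMonoidHom_apply, map_pow]
    refine hz _ ?_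
    rw [← map_pow, show x ^ orderOf c = 1 from funext fun i => Subtype.ext (orderOf_dvd_iff_pow_eq_one.mp (orderOf_dvd_of_mem_zpowers (x i).2)), map_one]
  have hA : ((Nat.card (Fin n → C) : ℕ) : F) ≠ 0 := by
    rw [Nat.card_fun, Nat.card_zpowers, Nat.cast_pow]
    exact pow_ne_zero _ hN
  have key := card_image_sq_le hA E ℓ hℓ.one_lt hEl hFix d (Fin d → F) (Module.finrank_fin_fun F) f
  rw [Nat.card_image_of_injective hf] at key
  have hE : ℓ ^ n ≤ Nat.card E := by
    let g : (Fin n → Fin ℓ) → E := fun j => ⟨(fun i => (⟨c, Subgroup.mem_zpowers c⟩ : C) ^ (j i).val) ^ (N / ℓ),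
      ⟨_, rfl⟩⟩
    have hg : Function.Injective g := by
      intro j j' h
      funext i
      have h1 := congrArg (fun e : E => (((e : Fin n → C) i : C) : Matrix.SpecialLinearGroup (Fin 2) F)) h
      simp only [g, Pi.pow_apply, SubmonoidClass.coe_pow, ← pow_mul] at h1
      have hNpos : 0 < N := orderOf_pos c
      have hlt : ∀ k : Fin ℓ, k.val * (N / ℓ) < N := fun k => by
        calc k.val * (N / ℓ) < ℓ * (N / ℓ) := Nat.mul_lt_mul_of_pos_right k.2 (Nat.div_pos (Nat.le_of_dvd hNpos hdvd) hℓ.pos)
          _ = N := by rw [mul_comm]; exact hℓN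
      have h2 := pow_injOn_Iio_orderOf (x := c) (hlt (j i)) (hlt (j' i)) h1
      exact Fin.ext (Nat.eq_of_mul_eq_mul_right (Nat.div_pos (Nat.le_of_dvd hNpos hdvd) hℓ.pos) h2)
    have := Nat.card_le_card_of_injective g hg
    simpa [Nat.card_fun] using this
  have := (Nat.pow_le_pow_left hE 2).trans key
  rw [← pow_mul, mul_comm] at this
  exact (Nat.pow_le_pow_iff_right hℓ.one_lt).mp this

end Cfsg.Agent.S2394
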