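import Cfsg.Statements.S2400
import Cfsg.Agent.Lib.Chev.Mult.B2Three
import Cfsg.Agent.Lib.Chev.Mult.LacedData
-- import your own Cfsg.Agent.* helpers here

set_option autoImplicit false
open Cfsg

namespace Cfsg.Agent.S2400

/-- Over a finite field `K`, the group presented by Steinberg's relators (R1)–(R3) (the universal Chevalley group) of type E₆ or E₇, or of type B₂ or D₄ with `K` of more than two elements, has trivial Schur multiplier: every finite stem extension of it is an isomorphism (Schur multiplier described through stem extensions as in the definitions). Types G₂, F₄ and E₈ are not covered here. -/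
theorem result {K : Type*} [Field K] [Fintype K] (e : Cfsg.Lie.ChevalleyDatum × ℕ)
    (he : e ∈ [(Cfsg.Lie.chevE6, 0), (Cfsg.Lie.chevE7, 0), (Cfsg.Lie.chevB2, 2), (Cfsg.Lie.chevD4, 2)]) (hK : Fintype.card K ≠ e.2) :
    Cfsg.HasCyclicSchurMultiplier (e.1.SteinbergGroup K) 1 := by
    classical
    have h1 : 1 < Fintype.card K := Fintype.one_lt_card
    simp only [List.mem_cons, List.not_mem_nil, or_false] at he
    rcases he with rfl | rfl | rfl | rfl
    · refine Cfsg.Agent.Lib.Chev.goodE6.steinberg_multiplier Cfsg.Agent.Lib.Chev.adjE6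
        (Cfsg.Agent.Lib.Chev.c_perfect_group (by simp) fun h => ?_)
        (Cfsg.Agent.Lib.Chev.goodE6.lifts_of_laced Cfsg.Agent.Lib.Chev.lacedE6)
      exfalso
      simp only [List.mem_cons, List.not_mem_nil, or_false] at h
      rcases h with h | h <;> exact absurd (congrArg Cfsg.Lie.ChevalleyDatum.rank h) (by decide)
    · refine Cfsg.Agent.Lib.Chev.goodE7.steinberg_multiplier Cfsg.Agent.Lib.Chev.adjE7
        (Cfsg.Agent.Lib.Chev.c_perfect_group (by simp) fun h => ?_)
        (Cfsg.Agent.Lib.Chev.goodE7.lifts_of_laced Cfsg.Agent.Lib.Chev.lacedE7)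
      exfalso
      simp only [List.mem_cons, List.not_mem_nil, or_false] at h
      rcases h with h | h <;> exact absurd (congrArg Cfsg.Lie.ChevalleyDatum.rank h) (by decide)
    · change Fintype.card K ≠ 2 at hK
      rcases eq_or_ne (Fintype.card K) 3 with h3 | h3
      · exact Cfsg.Agent.Lib.Chev.steinberg_multiplier_B2_three h3
      obtain ⟨x, hx⟩ : ∃ x : K, x ∉ ({0, 1} : Finset K) := by
        by_contra hne
        push Not at hne
        have h2 : (Finset.univ : Finset K) ⊆ {0, 1} := fun x _ => hne x
        have := (Finset.card_le_card h2).trans Finset.card_le_two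
        rw [Finset.card_univ] at this
        omega
      simp only [Finset.mem_insert, Finset.mem_singleton, not_or] at hx
      exact Cfsg.Agent.Lib.Chev.goodB2.steinberg_multiplier Cfsg.Agent.Lib.Chev.adjB2
        (Cfsg.Agent.Lib.Chev.c_perfect_group (by simp) fun _ => ⟨x, hx⟩)
        (Cfsg.Agent.Lib.Chev.lifts_B2 (by omega))
    · change Fintype.card K ≠ 2 at hK
      refine Cfsg.Agent.Lib.Chev.goodD4.steinberg_multiplier Cfsg.Agent.Lib.Chev.adjD4
        (Cfsg.Agent.Lib.Chev.c_perfect_group (by simp) fun h => ?_)
        (Cfsg.Agent.Lib.Chev.lifts_D4 (by omega))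
      exfalso
      simp only [List.mem_cons, List.not_mem_nil, or_false] at h
      rcases h with h | h <;> exact absurd (congrArg Cfsg.Lie.ChevalleyDatum.rank h) (by decide)

end Cfsg.Agent.S2400
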