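import Cfsg.Statements.S2402
import Cfsg.Agent.Lib.PSLSpec.CycleGen
import Cfsg.Agent.Lib.KnownA.FieldGen

set_option autoImplicit false
open Cfsg

namespace Cfsg.Agent.S2402

/-- Explicit two-element generation of `PSL_{n+1}(K)` for a finite field `K` with more than three elements: let `k` generate the multiplicative group of `K`, `h = diag(k, k⁻¹, 1, …, 1)`, `x = 1 + E₁₂` (the elementary transvection) and `w` the monomial matrix with entries `1` in positions `(i, i+1)` and `(−1)^n` in position `(n+1, 1)`. Then `h` and `x·w` generate `SL_{n+1}(K)` modulo its centre: the subgroup they generate together with the centre is everything. -/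
theorem result {K : Type*} [Field K] [Fintype K] (hK : 3 < Fintype.card K) (n : ℕ) (hn : 1 ≤ n)
    (k : Kˣ) (hk : ∀ u : Kˣ, u ∈ Subgroup.zpowers k)
    (h x w : Matrix.SpecialLinearGroup (Fin (n + 1)) K)
    (hh : (h : Matrix (Fin (n + 1)) (Fin (n + 1)) K) =
      Matrix.diagonal (fun i => if i.val = 0 then (k : K) else if i.val = 1 then ((k⁻¹ : Kˣ) : K) else 1))
    (hx : (x : Matrix (Fin (n + 1)) (Fin (n + 1)) K) = Matrix.transvection (0 : Fin (n + 1)) (1 : Fin (n + 1)) 1)
    (hw : (w : Matrix (Fin (n + 1)) (Fin (n + 1)) K) =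
      Matrix.of (fun i j => if j.val = i.val + 1 then 1 else if i.val = n ∧ j.val = 0 then (-1) ^ n else 0)) :
    Subgroup.closure ({h, x * w} : Set (Matrix.SpecialLinearGroup (Fin (n + 1)) K)) ⊔
      Subgroup.center (Matrix.SpecialLinearGroup (Fin (n + 1)) K) = ⊤ := by
  classical
  set H := Subgroup.closure ({h, x * w} : Set (Matrix.SpecialLinearGroup (Fin (n + 1)) K)) with hH
  have hhH : h ∈ H := Subgroup.subset_closure (by simp)
  have hxwH : x * w ∈ H := Subgroup.subset_closure (by simp)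
  have h01 : (0 : Fin (n + 1)) ≠ 1 := by
    have h := Cfsg.Agent.Lib.PSLSpec.add_one_ne hn (0 : Fin (n + 1))
    rwa [zero_add] at h
  have hv1 : (1 : Fin (n + 1)).val = 1 := by
    rcases Cfsg.Agent.Lib.PSLSpec.val_add_one_cases (0 : Fin (n + 1)) with ⟨e, -⟩ | ⟨-, e⟩
    · simp at e; omega
    · simpa using e
  set a : Fin (n + 1) → K := fun i => if i.val = 0 then (k : K) else if i.val = 1 then ((k⁻¹ : Kˣ) : K) else 1 with hadef
  set b : Fin (n + 1) → K := fun i => a (i + 1) with hbdef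
  have ha0 : ∀ i, a i ≠ 0 := fun i => by
    simp only [hadef]; split_ifs
    · exact k.ne_zero
    · exact (k⁻¹).ne_zero
    · exact one_ne_zero
  have a_zero : a 0 = (k : K) := by simp [hadef]
  have a_one : a 1 = (k : K)⁻¹ := by simp only [hadef]; rw [if_neg (by omega), if_pos hv1, Units.val_inv_eq_inv_val]
  -- the conjugate of `h`
  obtain ⟨D, hDdef⟩ : ∃ D, D = w * h * w⁻¹ := ⟨_, rfl⟩
  have hDcoe : (D : Matrix (Fin (n + 1)) (Fin (n + 1)) K) = Matrix.diagonal b := by
    have e1 : (D : Matrix (Fin (n + 1)) (Fin (n + 1)) K) * (w : Matrix (Fin (n + 1)) (Fin (n + 1)) K) =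
        Matrix.diagonal b * (w : Matrix (Fin (n + 1)) (Fin (n + 1)) K) := by
      rw [← Cfsg.Agent.Lib.KnownA.slmul, hDdef, inv_mul_cancel_right, Cfsg.Agent.Lib.KnownA.slmul, hh, hw]
      ext i j
      rw [Matrix.mul_diagonal, Matrix.diagonal_mul]
      show Cfsg.Agent.Lib.PSLSpec.cycMat K n i j * a j = b i * Cfsg.Agent.Lib.PSLSpec.cycMat K n i j
      rw [Cfsg.Agent.Lib.PSLSpec.cycMat_eq]
      split_ifs with e
      · rw [e, mul_comm]
      · rw [zero_mul, mul_zero]
    have h2 : (w : Matrix (Fin (n + 1)) (Fin (n + 1)) K) * ((w⁻¹ : Matrix.SpecialLinearGroup (Fin (n + 1)) K) : Matrix (Fin (n + 1)) (Fin (n + 1)) K) = 1 := by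
      rw [← Cfsg.Agent.Lib.KnownA.slmul, mul_inv_cancel, Cfsg.Agent.Lib.KnownA.slone]
    have e3 := congrArg (fun M : Matrix (Fin (n + 1)) (Fin (n + 1)) K => M * ((w⁻¹ : Matrix.SpecialLinearGroup (Fin (n + 1)) K) : Matrix (Fin (n + 1)) (Fin (n + 1)) K)) e1
    simp only [mul_assoc, h2, mul_one] at e3
    exact e3
  have hDh : D * h = h * D := Subtype.ext (by
    rw [Cfsg.Agent.Lib.KnownA.slmul, Cfsg.Agent.Lib.KnownA.slmul, hDcoe, hh, Matrix.diagonal_mul_diagonal, Matrix.diagonal_mul_diagonal]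
    congr 1; funext i; ring)
  -- conjugating `x_{01}` by a diagonal matrix
  have hdiag : ∀ (g : Matrix.SpecialLinearGroup (Fin (n + 1)) K) (d : Fin (n + 1) → K),
      (g : Matrix (Fin (n + 1)) (Fin (n + 1)) K) = Matrix.diagonal d → d 1 ≠ 0 → ∀ c : K,
      g * Matrix.SpecialLinearGroup.transvection h01 c * g⁻¹ = Matrix.SpecialLinearGroup.transvection h01 (d 0 / d 1 * c) := by
    intro g d hg hd1 c
    rw [mul_inv_eq_iff_eq_mul]
    apply Subtype.ext
    rw [Cfsg.Agent.Lib.KnownA.slmul, Cfsg.Agent.Lib.KnownA.slmul, hg, Matrix.SpecialLinearGroup.transvection_coe,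
      Matrix.SpecialLinearGroup.transvection_coe]
    ext i j
    simp only [Matrix.mul_diagonal, Matrix.diagonal_mul, Matrix.add_apply, Matrix.single, Matrix.of_apply, Matrix.one_apply]
    by_cases hij : i = j <;> by_cases h' : 0 = i ∧ 1 = j
    · exact absurd (h'.1.trans (hij.trans h'.2.symm)) h01
    · subst hij; rw [if_neg h', if_neg h']; ring
    · obtain ⟨rfl, rfl⟩ := h'
      rw [if_neg hij, if_pos ⟨rfl, rfl⟩, if_pos ⟨rfl, rfl⟩]
      field_simp
      ring
    · rw [if_neg hij, if_neg h', if_neg h']; ring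
  have hconjh : ∀ c : K, h * Matrix.SpecialLinearGroup.transvection h01 c * h⁻¹ =
      Matrix.SpecialLinearGroup.transvection h01 ((k : K) * k * c) := fun c => by
    rw [hdiag h a hh (ha0 1) c, a_zero, a_one, div_inv_eq_mul]
  set r := b 0 / b 1 with hr
  have hconjD : ∀ c : K, D * Matrix.SpecialLinearGroup.transvection h01 c * D⁻¹ =
      Matrix.SpecialLinearGroup.transvection h01 (r * c) := fun c => hdiag D b hDcoe (ha0 _) c
  -- the transvection inside `H`
  have hx' : x = Matrix.SpecialLinearGroup.transvection h01 (1 : K) :=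
    Subtype.ext (hx.trans (Matrix.SpecialLinearGroup.transvection_coe h01 (1 : K)).symm)
  set c0 : K := ((k : K) * k - 1) * (1 - r) with hc0
  have hbase0 : Cfsg.Agent.Lib.KnownA.InR H 0 1 c0 := fun _ => by
    have hz : x * D * x⁻¹ ∈ H := by
      rw [hDdef, show x * (w * h * w⁻¹) * x⁻¹ = (x * w) * h * (x * w)⁻¹ by group]
      exact H.mul_mem (H.mul_mem hxwH hhH) (H.inv_mem hxwH)
    have hz' : x * D * x⁻¹ = Matrix.SpecialLinearGroup.transvection h01 (1 - r) * D := by
      have e := hconjD (-1)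
      rw [← Matrix.SpecialLinearGroup.transvection_inv, ← hx', mul_inv_eq_iff_eq_mul] at e
      rw [mul_assoc, e, ← mul_assoc, hx', ← Matrix.SpecialLinearGroup.transvection_add]
      congr 2; ring
    have ht : h * (x * D * x⁻¹) * h⁻¹ * (x * D * x⁻¹)⁻¹ ∈ H :=
      H.mul_mem (H.mul_mem (H.mul_mem hhH hz) (H.inv_mem hhH)) (H.inv_mem hz)
    have e2 : h * D * h⁻¹ = D := by rw [← hDh, mul_inv_cancel_right]
    rw [hz', show h * (Matrix.SpecialLinearGroup.transvection h01 (1 - r) * D) * h⁻¹ *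
        (Matrix.SpecialLinearGroup.transvection h01 (1 - r) * D)⁻¹ =
        (h * Matrix.SpecialLinearGroup.transvection h01 (1 - r) * h⁻¹) * (h * D * h⁻¹) * D⁻¹ *
        (Matrix.SpecialLinearGroup.transvection h01 (1 - r))⁻¹ by group, e2, mul_inv_cancel_right, hconjh,
      Matrix.SpecialLinearGroup.transvection_inv, ← Matrix.SpecialLinearGroup.transvection_add] at ht
    convert ht using 2
    rw [hc0]; ring
  have hkord : orderOf k = Fintype.card K - 1 := by
    rw [orderOf_eq_card_of_forall_mem_zpowers hk, Nat.card_units, Nat.card_eq_fintype_card]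
  have hk2 : (k : K) * k ≠ 1 := fun e => by
    have : k ^ 2 = 1 := Units.ext (by rw [Units.val_pow_eq_pow_val, sq, e, Units.val_one])
    have := Nat.le_of_dvd (by norm_num) (orderOf_dvd_of_pow_eq_one this)
    omega
  have hk1 : (k : K) ≠ 1 := fun e => hk2 (by rw [e, one_mul])
  have hr1 : r ≠ 1 := fun e => by
    rw [hr, div_eq_one_iff_eq (ha0 _)] at e
    simp only [hbdef, zero_add, a_one] at e
    rcases Cfsg.Agent.Lib.PSLSpec.val_add_one_cases (1 : Fin (n + 1)) with ⟨-, e2⟩ | ⟨-, e2⟩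
    · rw [show (1 : Fin (n + 1)) + 1 = 0 from Fin.ext (by simpa using e2), a_zero, inv_eq_iff_eq_inv] at e
      exact hk2 (by conv_lhs => { arg 1; rw [e] }; rw [inv_mul_cancel₀ k.ne_zero])
    · rw [hv1] at e2
      have e3 : a ((1 : Fin (n + 1)) + 1) = 1 := by
        simp only [hadef]; rw [if_neg (by omega), if_neg (by omega)]
      rw [e3, inv_eq_one] at e
      exact hk1 e
  have hc0ne : c0 ≠ 0 := mul_ne_zero (sub_ne_zero.mpr hk2) (sub_ne_zero.mpr hr1.symm)
  let R : Subring K :=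
    { carrier := {s | ∀ c, Cfsg.Agent.Lib.KnownA.InR H 0 1 c → Cfsg.Agent.Lib.KnownA.InR H 0 1 (s * c)}
      one_mem' := fun c hc => by rwa [one_mul]
      zero_mem' := fun c _ => by rw [zero_mul]; exact Cfsg.Agent.Lib.KnownA.InR.zero _ _
      add_mem' := fun {s t} hs ht c hc => by rw [add_mul]; exact (hs c hc).add (ht c hc)
      neg_mem' := fun {s} hs c hc => by rw [neg_mul]; exact (hs c hc).neg
      mul_mem' := fun {s t} hs ht c hc => by rw [mul_assoc]; exact hs _ (ht c hc) }
  have hgen : ∀ y : K, y ≠ 0 → ∃ j : ℕ, (k : K) ^ j = y := fun y hy => by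
    obtain ⟨j, hj⟩ := (mem_powers_iff_mem_zpowers (x := k)).mpr (hk (Units.mk0 y hy))
    exact ⟨j, by simpa using congrArg Units.val hj⟩
  have hR : R = ⊤ := by
    refine eq_top_iff.mpr ((Cfsg.Agent.Lib.KnownA.closure_signed_sq_eq_top hgen 1 (Or.inl rfl)).ge.trans
      (Subring.closure_le.mpr ?_))
    rintro _ rfl
    show ∀ c, Cfsg.Agent.Lib.KnownA.InR H 0 1 c → Cfsg.Agent.Lib.KnownA.InR H 0 1 (1 * ((k : K) * k) * c)
    intro c hc _
    rw [one_mul, ← hconjh]
    exact H.mul_mem (H.mul_mem hhH (hc h01)) (H.inv_mem hhH)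
  have hbase : ∀ c : K, Cfsg.Agent.Lib.KnownA.InR H 0 1 c := fun c => by
    have := (show c / c0 ∈ R by rw [hR]; exact Subring.mem_top _) c0 hbase0
    rwa [div_mul_cancel₀ c hc0ne] at this
  have hwH : w ∈ H := by
    have hxH : x ∈ H := hx' ▸ hbase 1 h01
    have := H.mul_mem (H.inv_mem hxH) hxwH
    rwa [inv_mul_cancel_left] at this
  exact Cfsg.Agent.Lib.PSLSpec.sup_center_eq_top (Cfsg.Agent.Lib.PSLSpec.eq_top_of_cycle hn (w := w) hw hwH hbase)

end Cfsg.Agent.S2402
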