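import Cfsg.Statements.S2403
import Cfsg.Agent.Lib.PSLSpec.CycleGen
import Cfsg.Agent.Lib.KnownA.FieldGen

set_option autoImplicit false
open Cfsg

namespace Cfsg.Agent.S2403

/-- Explicit two-element generation of `PSL_{n+1}(K)` over the fields with two or three elements: with `x = 1 + E₁₂` and `w` the monomial matrix with entries `1` in positions `(i, i+1)` and `(−1)^n` in position `(n+1, 1)`, the elements `x` and `w` generate `SL_{n+1}(K)` modulo its centre. -/
theorem result {K : Type*} [Field K] [Fintype K] (hK : Fintype.card K ≤ 3) (n : ℕ) (hn : 1 ≤ n)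
    (x w : Matrix.SpecialLinearGroup (Fin (n + 1)) K)
    (hx : (x : Matrix (Fin (n + 1)) (Fin (n + 1)) K) = Matrix.transvection (0 : Fin (n + 1)) (1 : Fin (n + 1)) 1)
    (hw : (w : Matrix (Fin (n + 1)) (Fin (n + 1)) K) =
      Matrix.of (fun i j => if j.val = i.val + 1 then 1 else if i.val = n ∧ j.val = 0 then (-1) ^ n else 0)) :
    Subgroup.closure ({x, w} : Set (Matrix.SpecialLinearGroup (Fin (n + 1)) K)) ⊔
      Subgroup.center (Matrix.SpecialLinearGroup (Fin (n + 1)) K) = ⊤ := by
  classical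
  refine Cfsg.Agent.Lib.PSLSpec.sup_center_eq_top (Cfsg.Agent.Lib.PSLSpec.eq_top_of_cycle hn (w := w) hw
    (Subgroup.subset_closure (by simp)) fun c => ?_)
  have h01 : (0 : Fin (n + 1)) ≠ 1 := by
    have h := Cfsg.Agent.Lib.PSLSpec.add_one_ne hn (0 : Fin (n + 1))
    rwa [zero_add] at h
  have h1 : Cfsg.Agent.Lib.KnownA.InR (Subgroup.closure ({x, w} : Set (Matrix.SpecialLinearGroup (Fin (n + 1)) K))) 0 1 1 := fun h => by
    rw [show Matrix.SpecialLinearGroup.transvection h (1 : K) = x from Subtype.ext ((Matrix.SpecialLinearGroup.transvection_coe h (1 : K)).trans hx.symm)]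
    exact Subgroup.subset_closure (by simp)
  have hc : c = 0 ∨ c = 1 ∨ c = -1 := by
    by_cases h0 : c = 0
    · exact Or.inl h0
    refine Or.inr (mul_self_eq_one_iff.mp ?_)
    have h := FiniteField.pow_card_sub_one_eq_one c h0
    have hq := Fintype.one_lt_card (α := K)
    rcases (show Fintype.card K - 1 = 1 ∨ Fintype.card K - 1 = 2 by omega) with e | e <;> rw [e] at h
    · rw [pow_one] at h; rw [h, one_mul]
    · rwa [sq] at h
  rcases hc with rfl | rfl | rfl
  exacts [Cfsg.Agent.Lib.KnownA.InR.zero _ _, h1, h1.neg]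

end Cfsg.Agent.S2403
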