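import Cfsg.Statements.S2405
import Cfsg.Agent.Lib.KnownA.TwoGen.Main
import Cfsg.Agent.Lib.KnownA.TwoGen.Data

set_option autoImplicit false
open Cfsg

namespace Cfsg.Agent.S2405

open Cfsg.Lie Cfsg.Agent.Lib.Chev Cfsg.Agent.KnownA.TwoGen

/-- Each Chevalley group of type G₂, B₂, D₄, F₄, E₆, E₇ or E₈ over a finite field is generated by two of its elements (types B₂ and G₂ over the field with two elements, where the group is not simple, excepted). -/
theorem result {F : Type*} [Field F] [Finite F] (D : Cfsg.Lie.ChevalleyDatum) (hD : D ∈ [Cfsg.Lie.chevG2, Cfsg.Lie.chevB2, Cfsg.Lie.chevD4, Cfsg.Lie.chevF4, Cfsg.Lie.chevE6, Cfsg.Lie.chevE7, Cfsg.Lie.chevE8])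
    (hF : D ∈ [Cfsg.Lie.chevB2, Cfsg.Lie.chevG2] → ∃ x : F, x ≠ 0 ∧ x ≠ 1) :
    ∃ a b : ↥(D.group F), Subgroup.closure ({a, b} : Set ↥(D.group F)) = ⊤ := by
  simp only [List.mem_cons, List.not_mem_nil, or_false] at hD hF
  by_cases hq : ∃ x : F, x ≠ 0 ∧ x ≠ 1
  · rcases hD with rfl | rfl | rfl | rfl | rfl | rfl | rfl
    exacts [two_gen_tor goodG2 hq torG2, two_gen_tor goodB2 hq torB2, two_gen_tor goodD4 hq torD4,
      two_gen_tor goodF4 hq torF4, two_gen_tor goodE6 hq torE6, two_gen_tor goodE7 hq torE7,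
      two_gen_tor goodE8 hq torE8]
  · have h2 : ∀ t : F, t = 0 ∨ t = 1 := fun t => by
      by_contra hc
      push Not at hc
      exact hq ⟨t, hc⟩
    rcases hD with rfl | rfl | rfl | rfl | rfl | rfl | rfl
    exacts [absurd (hF (Or.inr rfl)) hq, absurd (hF (Or.inl rfl)) hq, two_gen_tw goodD4 h2 twD4,
      two_gen_tw goodF4 h2 twF4, two_gen_tw goodE6 h2 twE6, two_gen_tw goodE7 h2 twE7,
      two_gen_tw goodE8 h2 twE8]

end Cfsg.Agent.S2405
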