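import Cfsg.Statements.S2410
import Cfsg.Agent.Lib.KnownA.SuzukiModel
open Cfsg.Agent.Lib.KnownA Cfsg.Agent.Lib.KnownA.Suz

set_option autoImplicit false
open Cfsg

namespace Cfsg.Agent.S2410

/-- The Suzuki group over the field with `2^(2m+1)` elements, `m ≥ 1` (realised as the stabiliser in `SL₄` of the Suzuki–Tits ovoid), is generated by two of its elements. -/
theorem result {F : Type*} [Field F] [Fintype F] {m : ℕ} (hm : 1 ≤ m) (hF : Fintype.card F = 2 ^ (2 * m + 1)) :
    ∃ a b : ↥(Cfsg.Sz F m), Subgroup.closure ({a, b} : Set ↥(Cfsg.Sz F m)) = ⊤ := by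
  haveI := charP_two hF
  have hθ : ∀ x : F, szTh m (szTh m x) = x * x := th_sq hF
  obtain ⟨a, b, h⟩ := two_generated hθ hm hF
  refine ⟨(szBridge hθ hm hF).symm a, (szBridge hθ hm hF).symm b, ?_⟩
  have := congrArg (Subgroup.map (szBridge hθ hm hF).symm.toMonoidHom) h
  rwa [MonoidHom.map_closure, Set.image_pair, Subgroup.map_top_of_surjective _ (szBridge hθ hm hF).symm.surjective] at this

end Cfsg.Agent.S2410
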