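import Cfsg.Statements.S2416
import Cfsg.Agent.Lib.Chev.Char
import Cfsg.Agent.Lib.Chev.All
-- import your own Cfsg.Agent.* helpers here

set_option autoImplicit false
open scoped MatrixGroups
open Cfsg

namespace Cfsg.Agent.S2416

open Cfsg.Agent.Lib.Chev

theorem charP_of_prime_zero {K : Type*} [Field K] {p : ℕ} (hp : p.Prime) (h : ((p : ℕ) : K) = 0) :
    CharP K p := (CharP.charP_iff_prime_eq_zero hp).2 h

theorem sgG2 : allLt Cfsg.Lie.chevG2.rank (fun i => Cfsg.Lie.chevG2.isLong (Cfsg.Lie.chevG2.simple i) || chkShortGen Cfsg.Lie.chevG2 tabG2 (List.range (Cfsg.Lie.chevG2).nroots) 4 i 3) = true := by decide +kernel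

theorem sgB2 : allLt Cfsg.Lie.chevB2.rank (fun i => Cfsg.Lie.chevB2.isLong (Cfsg.Lie.chevB2.simple i) || chkShortGen Cfsg.Lie.chevB2 tabB2 (List.range (Cfsg.Lie.chevB2).nroots) 4 i 2) = true := by decide +kernel

theorem sgD4 : allLt Cfsg.Lie.chevD4.rank (fun i => chkShortGen Cfsg.Lie.chevD4 tabD4 ((List.range Cfsg.Lie.chevD4.nroots).filter fun q => decide (npos Cfsg.Lie.chevD4 ≤ q) && decide (isum Cfsg.Lie.chevD4.rank (fun i => tabD4.k i q) ≤ 2)) 6 i 1) = true := by decide +kernel

theorem sgF4 : allLt Cfsg.Lie.chevF4.rank (fun i => Cfsg.Lie.chevF4.isLong (Cfsg.Lie.chevF4.simple i) || chkShortGen Cfsg.Lie.chevF4 tabF4 (List.range (Cfsg.Lie.chevF4).nroots) 8 i 2) = true := by decide +kernel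

theorem sgE6 : allLt Cfsg.Lie.chevE6.rank (fun i => chkShortGen Cfsg.Lie.chevE6 tabE6 ((List.range Cfsg.Lie.chevE6.nroots).filter fun q => decide (npos Cfsg.Lie.chevE6 ≤ q) && decide (isum Cfsg.Lie.chevE6.rank (fun i => tabE6.k i q) ≤ 2)) 10 i 1) = true := by decide +kernel

theorem sgE7 : allLt Cfsg.Lie.chevE7.rank (fun i => chkShortGen Cfsg.Lie.chevE7 tabE7 ((List.range Cfsg.Lie.chevE7.nroots).filter fun q => decide (npos Cfsg.Lie.chevE7 ≤ q) && decide (isum Cfsg.Lie.chevE7.rank (fun i => tabE7.k i q) ≤ 2)) 12 i 1) = true := by decide +kernel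

theorem sgE8 : allLt Cfsg.Lie.chevE8.rank (fun i => chkShortGen Cfsg.Lie.chevE8 tabE8 ((List.range Cfsg.Lie.chevE8.nroots).filter fun q => decide (npos Cfsg.Lie.chevE8 ≤ q) && decide (isum Cfsg.Lie.chevE8.rank (fun i => tabE8.k i q) ≤ 2)) 14 i 1) = true := by decide +kernel


/-- A Chevalley group of type G₂, B₂, D₄, F₄, E₆, E₇ or E₈ over a finite field lies in (indeed equals) the subgroup generated by its monomial subgroup `N` and a single fundamental root subgroup `X_p`, where `p` is a short fundamental root if there are two root lengths (any fundamental root otherwise), provided the characteristic is not 2 for types B₂, F₄ and not 3 for type G₂ (and the field has more than two elements for B₂, G₂). -/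
theorem result {K : Type*} [Field K] [Finite K] (D : Cfsg.Lie.ChevalleyDatum) (hD : D ∈ [Cfsg.Lie.chevG2, Cfsg.Lie.chevB2, Cfsg.Lie.chevD4, Cfsg.Lie.chevF4, Cfsg.Lie.chevE6, Cfsg.Lie.chevE7, Cfsg.Lie.chevE8])
    (hK : D ∈ [Cfsg.Lie.chevB2, Cfsg.Lie.chevG2] → ∃ x : K, x ≠ 0 ∧ x ≠ 1)
    (h2 : D ∈ [Cfsg.Lie.chevB2, Cfsg.Lie.chevF4] → ringChar K ≠ 2) (h3 : D = Cfsg.Lie.chevG2 → ringChar K ≠ 3)
    (i : ℕ) (hi : i < D.rank) (hshort : D.isLong (D.simple i) = false) :
    D.group K ≤ D.monomialSubgroup K ⊔ D.rootSubgroup K (D.simple i) := by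
  simp only [List.mem_cons, List.not_mem_nil, or_false] at hD
  rcases hD with rfl | rfl | rfl | rfl | rfl | rfl | rfl
  · have h1 := allLt_eq_true sgG2 i hi
    rw [hshort, Bool.false_or] at h1
    refine goodG2.group_le_short hi h1 ?_
    intro hz
    exact h3 rfl (ringChar.eq_iff.2 (charP_of_prime_zero Nat.prime_three hz))
  · have h1 := allLt_eq_true sgB2 i hi
    rw [hshort, Bool.false_or] at h1
    refine goodB2.group_le_short hi h1 ?_
    intro hz
    exact h2 (by simp) (ringChar.eq_iff.2 (charP_of_prime_zero Nat.prime_two hz))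
  · have h1 := allLt_eq_true sgD4 i hi
    exact goodD4.group_le_short hi h1 (by simp)
  · have h1 := allLt_eq_true sgF4 i hi
    rw [hshort, Bool.false_or] at h1
    refine goodF4.group_le_short hi h1 ?_
    intro hz
    exact h2 (by simp) (ringChar.eq_iff.2 (charP_of_prime_zero Nat.prime_two hz))
  · have h1 := allLt_eq_true sgE6 i hi
    exact goodE6.group_le_short hi h1 (by simp)
  · have h1 := allLt_eq_true sgE7 i hi
    exact goodE7.group_le_short hi h1 (by simp)
  · have h1 := allLt_eq_true sgE8 i hi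
    exact goodE8.group_le_short hi h1 (by simp)

end Cfsg.Agent.S2416
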