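import Cfsg.Statements.S2417
import Cfsg.Agent.Lib.Chev.Torus
import Cfsg.Agent.Lib.Chev.Char
import Cfsg.Agent.Lib.Chev.All
-- import your own Cfsg.Agent.* helpers here

set_option autoImplicit false
open scoped MatrixGroups
open Cfsg

namespace Cfsg.Agent.S2417

open Cfsg.Lie Cfsg.Agent.Lib.Chev

/-- Each fundamental root is carried to one of two given ones by at most two reflections. -/
def chkOrbit (D : ChevalleyDatum) (T : Tables) (i j : ℕ) : Bool :=
  (List.range D.rank).all fun k => k == i || k == j || (List.range D.rank).any fun a =>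
    (List.range D.rank).any fun b =>
      T.w a (T.w b (sim D i)) == sim D k || T.w a (T.w b (sim D j)) == sim D k

/-- All admissible pairs of fundamental roots. -/
def chkAll (D : ChevalleyDatum) (T : Tables) : Bool :=
  (List.range D.rank).all fun i => (List.range D.rank).all fun j =>
    D.isLong (D.simple i) || !D.isLong (D.simple j) || chkOrbit D T i j

theorem orbit_le {K : Type*} [Field K] {D : ChevalleyDatum} {T : Tables} (G : Good D T) {i j : ℕ}
    (hi : i < D.rank) (hj : j < D.rank) (h : chkOrbit D T i j = true) :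
    D.group K ≤ D.monomialSubgroup K ⊔ D.rootSubgroup K (D.simple i) ⊔ D.rootSubgroup K (D.simple j) := by
  rw [G.simple_eq, G.simple_eq]
  set S := D.monomialSubgroup K ⊔ D.rootSubgroup K (sim D i) ⊔ D.rootSubgroup K (sim D j) with hS
  let C : ℕ → Prop := fun r => ∀ t : K, G.X K r t ∈ S
  have hi' : C (sim D i) := fun t =>
    Subgroup.mem_sup_left (Subgroup.mem_sup_right (G.mem_rootSubgroup.2 ⟨t, rfl⟩))
  have hj' : C (sim D j) := fun t => Subgroup.mem_sup_right (G.mem_rootSubgroup.2 ⟨t, rfl⟩)
  have hw : ∀ a r, a < D.rank → r < D.nroots → C r → C (T.w a r) := by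
    intro a r ha hr hC t
    have hn : G.ni K a ∈ S := Subgroup.mem_sup_left (Subgroup.mem_sup_left (G.ni_mem_monomial ha))
    have := mul_mem (mul_mem hn (hC ((T.eta a r : K) * t))) (inv_mem hn)
    rw [G.ni_conj_X ha hr, ← mul_assoc, ← Int.cast_mul, Tables.eta_mul_self, Int.cast_one,
      one_mul] at this
    exact this
  refine G.group_le_of (G.root_induction (C := C) (fun k hk => ?_) hw)
  simp only [chkOrbit, List.all_eq_true, List.mem_range, Bool.or_eq_true, List.any_eq_true, beq_iff_eq] at h
  rcases h k hk with (rfl | rfl) | ⟨a, ha, b, hb, e | e⟩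
  · exact hi'
  · exact hj'
  · exact e ▸ hw a _ ha (G.w_lt hb (G.sim_lt hi)) (hw b _ hb (G.sim_lt hi) hi')
  · exact e ▸ hw a _ ha (G.w_lt hb (G.sim_lt hj)) (hw b _ hb (G.sim_lt hj) hj')

/-- In the characteristics with an exceptional graph symmetry — type B₂ or F₄ in characteristic 2 (field of more than two elements for B₂) and type G₂ in characteristic 3 — the Chevalley group lies in the subgroup generated by its monomial subgroup `N` and the two fundamental root subgroups `X_a`, `X_b` of a short root `a` and a long root `b` joined in the Dynkin diagram. -/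
theorem result {K : Type*} [Field K] [Finite K] (e : Cfsg.Lie.ChevalleyDatum × ℕ)
    (he : e ∈ [(Cfsg.Lie.chevB2, 2), (Cfsg.Lie.chevF4, 2), (Cfsg.Lie.chevG2, 3)]) [CharP K e.2]
    (hK : e.1 = Cfsg.Lie.chevB2 → ∃ x : K, x ≠ 0 ∧ x ≠ 1)
    (i j : ℕ) (hi : i < e.1.rank) (hj : j < e.1.rank) (hshort : e.1.isLong (e.1.simple i) = false)
    (hlong : e.1.isLong (e.1.simple j) = true) (hbond : e.1.bonds i j ≠ 0) :
    e.1.group K ≤ e.1.monomialSubgroup K ⊔ e.1.rootSubgroup K (e.1.simple i) ⊔ e.1.rootSubgroup K (e.1.simple j) := by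
  simp only [List.mem_cons, List.not_mem_nil, or_false] at he
  obtain rfl | rfl | rfl := he
  · refine orbit_le goodB2 hi hj ?_
    have h : chkAll Cfsg.Lie.chevB2 tabB2 = true := by decide +kernel
    simp only [chkAll, List.all_eq_true, List.mem_range, Bool.or_eq_true, Bool.not_eq_true'] at h
    rcases h i hi j hj with (h | h) | h
    · simp [hshort] at h
    · simp [hlong] at h
    · exact h
  · refine orbit_le goodF4 hi hj ?_
    have h : chkAll Cfsg.Lie.chevF4 tabF4 = true := by decide +kernel
    simp only [chkAll, List.all_eq_true, List.mem_range, Bool.or_eq_true, Bool.not_eq_true'] at h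
    rcases h i hi j hj with (h | h) | h
    · simp [hshort] at h
    · simp [hlong] at h
    · exact h
  · refine orbit_le goodG2 hi hj ?_
    have h : chkAll Cfsg.Lie.chevG2 tabG2 = true := by decide +kernel
    simp only [chkAll, List.all_eq_true, List.mem_range, Bool.or_eq_true, Bool.not_eq_true'] at h
    rcases h i hi j hj with (h | h) | h
    · simp [hshort] at h
    · simp [hlong] at h
    · exact h

end Cfsg.Agent.S2417
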