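import Cfsg.Statements.S2418
import Cfsg.Agent.Lib.WeylWords.Basic

set_option autoImplicit false
open Cfsg

namespace Cfsg.Agent.S2418

open Cfsg.Lie Cfsg.Agent.Lib.Chev Cfsg.Agent.Lib.WeylWords

variable {D : ChevalleyDatum} {T : Tables} {m : ℕ} {M : CoxeterMatrix (Fin m)}

theorem cw_replicate (ω : List (Fin m)) (k : ℕ) : cw M (List.replicate k ω).flatten = cw M ω ^ k := by
  induction k with
  | zero => simp [cw]
  | succ k ih => rw [List.replicate_succ, List.flatten_cons, cw_append, ih, pow_succ']

theorem center_two (G : Good D T) (hm : D.rank = m) (h : chkCox D T M = true) (hS : chkSign D T = true)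
    (hr : ℕ) (ht : rootTest D T hr = true) (k : ℕ) (h0 : 0 < D.rank)
    (h1 : negTest D T (nw (List.replicate k (List.finRange m)).flatten) = true)
    (h2 : minusTest D T (nw (List.replicate k (List.finRange m)).flatten) = true) :
    Nat.card (Subgroup.center M.Group) = 2 ∧
      Subgroup.center M.Group ≤ Subgroup.zpowers ((List.finRange m).map M.simple).prod := by
  have hz := minus_mem_center G hm h h2
  constructor
  · rw [Nat.card_eq_two_iff]
    refine ⟨1, ⟨_, hz⟩, fun e => ?_, ?_⟩
    · have e2 := (cw_eq_one_iff G hm h _).mp (congrArg Subtype.val e).symm 0 h0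
      have e3 : wl T (nw (List.replicate k (List.finRange m)).flatten) (sim D 0) = ng D (sim D 0) := by
        simpa using allLt_eq_true h2 0 h0
      exact G.ng_ne (G.sim_lt h0) (e3.symm.trans e2)
    · refine Set.eq_univ_iff_forall.mpr fun ⟨z, hzc⟩ => ?_
      rcases center_cases G hm h hS ht h1 hzc with e | ⟨e, -⟩
      · exact Or.inl (Subtype.ext e)
      · exact Or.inr (Subtype.ext e)
  · intro z hzc
    rcases center_cases G hm h hS ht h1 hzc with rfl | ⟨rfl, -⟩
    · exact one_mem _
    · rw [cw_replicate]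
      exact Subgroup.npow_mem_zpowers _ k

theorem center_one (G : Good D T) (hm : D.rank = m) (h : chkCox D T M = true) (hS : chkSign D T = true)
    (hr : ℕ) (ht : rootTest D T hr = true) (ω0 : List (Fin m))
    (h1 : negTest D T (nw ω0) = true) (h2 : minusTest D T (nw ω0) = false) :
    Nat.card (Subgroup.center M.Group) = 1 ∧
      Subgroup.center M.Group ≤ Subgroup.zpowers ((List.finRange m).map M.simple).prod := by
  have key : ∀ z ∈ Subgroup.center M.Group, z = 1 := fun z hzc =>
    (center_cases G hm h hS ht h1 hzc).elim id fun hh => by rw [h2] at hh; exact absurd hh.2 (by simp)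
  refine ⟨Subgroup.eq_bot_iff_card _ |>.mp ((Subgroup.eq_bot_iff_forall _).mpr key), fun z hz => ?_⟩
  rw [key z hz]; exact one_mem _

/-- For the Coxeter groups of types B₂, G₂, D₄, F₄, E₇, E₈ the centre has order 2 (the element acting as −1 on the root system) and is generated by a power of the Coxeter element `s₁ s₂ ⋯ s_l`; the Coxeter group of type E₆ has trivial centre. -/
theorem result (c : (Σ n : ℕ, CoxeterMatrix (Fin n)) × ℕ)
    (hc : c ∈ [(⟨2, CoxeterMatrix.B 2⟩, 2), (⟨2, CoxeterMatrix.G₂⟩, 2), (⟨4, Cfsg.Lie.coxeterD4⟩, 2), (⟨4, CoxeterMatrix.F₄⟩, 2),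
      (⟨6, CoxeterMatrix.E₆⟩, 1), (⟨7, CoxeterMatrix.E₇⟩, 2), (⟨8, CoxeterMatrix.E₈⟩, 2)]) :
    Nat.card (Subgroup.center c.1.2.Group) = c.2 ∧
      Subgroup.center c.1.2.Group ≤ Subgroup.zpowers ((List.finRange c.1.1).map c.1.2.simple).prod := by
  simp only [List.mem_cons, List.not_mem_nil, or_false] at hc
  rcases hc with rfl | rfl | rfl | rfl | rfl | rfl | rfl
  · exact center_two goodB2 rfl coxB2 (by decide +kernel) (chevB2.nroots - 1) (by decide +kernel) 2 (by decide) (by decide +kernel) (by decide +kernel)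
  · exact center_two goodG2 rfl coxG2 (by decide +kernel) (chevG2.nroots - 1) (by decide +kernel) 3 (by decide) (by decide +kernel) (by decide +kernel)
  · exact center_two goodD4 rfl coxD4 (by decide +kernel) (chevD4.nroots - 1) (by decide +kernel) 3 (by decide) (by decide +kernel) (by decide +kernel)
  · exact center_two goodF4 rfl coxF4 (by decide +kernel) (chevF4.nroots - 1) (by decide +kernel) 6 (by decide) (by decide +kernel) (by decide +kernel)
  · exact center_one goodE6 rfl coxE6 (by decide +kernel) (chevE6.nroots - 1) (by decide +kernel) [0, 1, 2, 0, 3, 1, 2, 0, 3, 2, 4, 3, 1, 2, 0, 3, 2, 4, 3, 1, 5, 4, 3, 1, 2, 0, 3, 2, 4, 3, 1, 5, 4, 3, 2, 0] (by decide +kernel) (by decide +kernel)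
  · exact center_two goodE7 rfl coxE7 (by decide +kernel) (chevE7.nroots - 1) (by decide +kernel) 9 (by decide) (by decide +kernel) (by decide +kernel)
  · exact center_two goodE8 rfl coxE8 (by decide +kernel) (chevE8.nroots - 1) (by decide +kernel) 15 (by decide) (by decide +kernel) (by decide +kernel)

end Cfsg.Agent.S2418
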