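import Cfsg.Statements.S2419
import Cfsg.Agent.Lib.WeylWords.Basic

set_option autoImplicit false
open Cfsg

namespace Cfsg.Agent.S2419

open Cfsg.Lie Cfsg.Agent.Lib.Chev Cfsg.Agent.Lib.WeylWords

variable {D : ChevalleyDatum} {T : Tables} {m : ℕ} {M : CoxeterMatrix (Fin m)}

theorem gen_one (G : Good D T) (hm : D.rank = m) (h : chkCox D T M = true) (a : Fin m)
    (cert : Fin m → List ℕ)
    (ht : certTest D T [List.finRange m, (List.finRange m).reverse, [a]] cert = true) :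
    ∃ S : Finset M.Group, S.card = 1 ∧ (∀ t ∈ S, ∃ (g : M.Group) (i : Fin m), t = g * M.simple i * g⁻¹) ∧
      Subgroup.closure (({((List.finRange m).map M.simple).prod} : Set M.Group) ∪ ↑S) = ⊤ := by
  classical
  refine ⟨{M.simple a}, rfl, fun t h' => ⟨1, a, by simpa using h'⟩, closure_eq_top G hm h ht fun g hg => ?_⟩
  simp only [List.mem_cons, List.not_mem_nil, or_false] at hg
  rcases hg with rfl | rfl | rfl
  · exact Subgroup.subset_closure (Or.inl rfl)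
  · rw [cw_reverse]; exact inv_mem (Subgroup.subset_closure (Or.inl rfl))
  · exact Subgroup.subset_closure (Or.inr (by simp [cw]))

theorem gen_two (G : Good D T) (hm : D.rank = m) (h : chkCox D T M = true) (a b : Fin m)
    (hab : wl T (nw [a]) (sim D a) ≠ wl T (nw [b]) (sim D a))
    (cert : Fin m → List ℕ)
    (ht : certTest D T [List.finRange m, (List.finRange m).reverse, [a], [b]] cert = true) :
    ∃ S : Finset M.Group, S.card = 2 ∧ (∀ t ∈ S, ∃ (g : M.Group) (i : Fin m), t = g * M.simple i * g⁻¹) ∧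
      Subgroup.closure (({((List.finRange m).map M.simple).prod} : Set M.Group) ∪ ↑S) = ⊤ := by
  classical
  have hne : M.simple a ≠ M.simple b := fun e => hab ((cw_eq_iff G hm h [a] [b]).mp (by simp [cw, e]) a (hm ▸ a.isLt))
  refine ⟨{M.simple a, M.simple b}, Finset.card_pair hne, fun t h' => ?_, closure_eq_top G hm h ht fun g hg => ?_⟩
  · rcases Finset.mem_insert.mp h' with e | e
    · exact ⟨1, a, by simp [e]⟩
    · exact ⟨1, b, by simp [Finset.mem_singleton.mp e]⟩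
  simp only [List.mem_cons, List.not_mem_nil, or_false] at hg
  rcases hg with rfl | rfl | rfl | rfl
  · exact Subgroup.subset_closure (Or.inl rfl)
  · rw [cw_reverse]; exact inv_mem (Subgroup.subset_closure (Or.inl rfl))
  · exact Subgroup.subset_closure (Or.inr (by simp [cw]))
  · exact Subgroup.subset_closure (Or.inr (by simp [cw]))

/-- The Coxeter groups of types B₂, G₂, E₆, E₇, E₈ are generated by the Coxeter element `s₁ s₂ ⋯ s_l` together with one suitable reflection (a conjugate of a simple reflection); for types D₄ and F₄ the Coxeter element together with two suitable reflections suffices. -/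
theorem result (c : (Σ n : ℕ, CoxeterMatrix (Fin n)) × ℕ)
    (hc : c ∈ [(⟨2, CoxeterMatrix.B 2⟩, 1), (⟨2, CoxeterMatrix.G₂⟩, 1), (⟨4, Cfsg.Lie.coxeterD4⟩, 2), (⟨4, CoxeterMatrix.F₄⟩, 2),
      (⟨6, CoxeterMatrix.E₆⟩, 1), (⟨7, CoxeterMatrix.E₇⟩, 1), (⟨8, CoxeterMatrix.E₈⟩, 1)]) :
    ∃ T : Finset c.1.2.Group, T.card = c.2 ∧ (∀ t ∈ T, ∃ (g : c.1.2.Group) (i : Fin c.1.1), t = g * c.1.2.simple i * g⁻¹) ∧
      Subgroup.closure (({((List.finRange c.1.1).map c.1.2.simple).prod} : Set c.1.2.Group) ∪ ↑T) = ⊤ := by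
  simp only [List.mem_cons, List.not_mem_nil, or_false] at hc
  rcases hc with rfl | rfl | rfl | rfl | rfl | rfl | rfl
  · exact gen_one goodB2 rfl coxB2 (0 : Fin 2) ![[2], [2, 0]] (by decide +kernel)
  · exact gen_one goodG2 rfl coxG2 (0 : Fin 2) ![[2], [2, 0]] (by decide +kernel)
  · exact gen_two goodD4 rfl coxD4 (1 : Fin 4) (2 : Fin 4) (by decide +kernel) ![[1, 2, 0], [2], [3], [0, 2, 3, 2, 1]] (by decide +kernel)
  · exact gen_two goodF4 rfl coxF4 (0 : Fin 4) (2 : Fin 4) (by decide +kernel) ![[2], [0, 2, 1], [3], [0, 3, 1]] (by decide +kernel)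
  · exact gen_one goodE6 rfl coxE6 (3 : Fin 6) ![[1, 2, 0, 0, 0, 0, 2, 1, 1, 1, 1, 2, 0], [2, 1, 1, 1, 2, 0, 0, 0, 2], [1, 1, 1, 1, 2, 0, 0, 0, 0], [2], [0, 2, 1], [0, 0, 2, 1, 1]] (by decide +kernel)
  · exact gen_one goodE7 rfl coxE7 (3 : Fin 7) ![[1, 2, 0, 0, 0, 0, 0, 2, 1, 1, 1, 1, 1, 2, 0], [2, 0, 2, 1, 2, 1, 1, 1, 2, 0, 0, 0, 2, 0, 2, 1, 2], [2, 1, 1, 1, 1, 2, 0, 0, 0, 0, 2], [2], [0, 2, 1], [0, 0, 2, 1, 1], [0, 0, 0, 2, 1, 1, 1]] (by decide +kernel)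
  · exact gen_one goodE8 rfl coxE8 (4 : Fin 8) ![[1, 1, 2, 0, 0, 0, 0, 0, 0, 2, 1, 1, 1, 1, 1, 1, 2, 0, 0], [1, 1, 1, 1, 2, 0, 0, 0, 0, 0, 2, 1, 2, 1, 2, 0, 2, 0, 2, 1, 1, 1, 1, 1, 2, 0, 0, 0, 0], [1, 2, 0, 0, 0, 0, 0, 0, 2, 1, 1, 1, 1, 1, 1, 2, 0], [1, 2, 0], [2], [0, 2, 1], [0, 0, 2, 1, 1], [0, 0, 0, 2, 1, 1, 1]] (by decide +kernel)

end Cfsg.Agent.S2419
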