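import Cfsg.Statements.S2425
import Cfsg.Agent.Lib.Flag.SteinbergMobius
import Cfsg.Agent.Lib.Flag.SteinbergSum

set_option autoImplicit false
open scoped MatrixGroups
open Cfsg

namespace Cfsg.Agent.S2425

open Polynomial
open Cfsg.Agent.Lib.Flag Cfsg.Agent.Lib.Flag.SteinbergValue

section setup

variable {F : Type*} [Field F] {n : ℕ}

/-- the endomorphism of a matrix -/
noncomputable abbrev endo (x : GL (Fin n) F) : Module.End F (Fin n → F) :=
  Matrix.toLin' (x : Matrix (Fin n) (Fin n) F)

/-- the polynomial module of a matrix -/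
abbrev Mod (x : GL (Fin n) F) : Type _ := Module.AEval' (endo x)

/-- the subspace under a submodule -/
noncomputable def down (x : GL (Fin n) F) (W : Submodule F[X] (Mod x)) : Submodule F (Fin n → F) :=
  (W.restrictScalars F).comap (Module.AEval'.of (endo x)).toLinearMap

theorem down_le_iff (x : GL (Fin n) F) (W W' : Submodule F[X] (Mod x)) : down x W ≤ down x W' ↔ W ≤ W' := by
  refine ⟨fun h m hm => ?_, fun h v hv => h hv⟩
  have : (Module.AEval'.of (endo x)).symm m ∈ down x W := by
    show Module.AEval'.of (endo x) ((Module.AEval'.of (endo x)).symm m) ∈ W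
    rw [LinearEquiv.apply_symm_apply]
    exact hm
  have h2 := h this
  change Module.AEval'.of (endo x) ((Module.AEval'.of (endo x)).symm m) ∈ W' at h2
  rwa [LinearEquiv.apply_symm_apply] at h2

theorem down_injective (x : GL (Fin n) F) : Function.Injective (down x) := fun W W' h =>
  le_antisymm ((down_le_iff x W W').1 h.le) ((down_le_iff x W' W).1 h.ge)

theorem down_invariant (x : GL (Fin n) F) (W : Submodule F[X] (Mod x)) :
    (down x W).map (endo x) ≤ down x W := by
  rintro _ ⟨v, hv, rfl⟩
  show Module.AEval'.of (endo x) (endo x v) ∈ W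
  rw [← Module.AEval'.X_smul_of]
  exact W.smul_mem _ hv

theorem exists_down (x : GL (Fin n) F) (U : Submodule F (Fin n → F)) (hU : U.map (endo x) ≤ U) :
    ∃ W : Submodule F[X] (Mod x), down x W = U := by
  refine ⟨Module.AEval.mapSubmodule F (Fin n → F) (endo x) ⟨U, fun v hv => hU ⟨v, hv, rfl⟩⟩, ?_⟩
  ext v
  show Module.AEval'.of (endo x) v ∈ Module.AEval.mapSubmodule F (Fin n → F) (endo x) _ ↔ _
  rw [Module.AEval.mem_mapSubmodule_apply]
  exact Iff.rfl

theorem down_bot (x : GL (Fin n) F) : down x ⊥ = ⊥ := by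
  refine eq_bot_iff.2 fun v hv => ?_
  change Module.AEval'.of (endo x) v ∈ (⊥ : Submodule F[X] (Mod x)) at hv
  rw [Submodule.mem_bot, LinearEquiv.map_eq_zero_iff] at hv
  exact (Submodule.mem_bot F).2 hv

theorem down_top (x : GL (Fin n) F) : down x ⊤ = ⊤ := eq_top_iff.2 fun _ _ => trivial

/-- the dimension -/
noncomputable def rk (x : GL (Fin n) F) (W : Submodule F[X] (Mod x)) : ℕ := Module.finrank F (down x W)

theorem rk_lt (x : GL (Fin n) F) {W W' : Submodule F[X] (Mod x)} (h : W < W') : rk x W < rk x W' :=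
  Submodule.finrank_lt_finrank_of_lt
    (lt_of_le_of_ne ((down_le_iff x W W').2 h.le) fun e => h.ne (down_injective x e))

theorem rk_bot (x : GL (Fin n) F) : rk x ⊥ = 0 := by rw [rk, down_bot, finrank_bot]

theorem rk_top (x : GL (Fin n) F) : rk x ⊤ = n := by
  rw [rk, down_top, finrank_top, Module.finrank_fin_fun]

theorem rk_injOn (x : GL (Fin n) F) {s : Finset (Submodule F[X] (Mod x))}
    (hs : IsChain (· ≤ ·) (s : Set (Submodule F[X] (Mod x)))) : Set.InjOn (rk x) (s : Set (Submodule F[X] (Mod x))) := by
  intro a ha b hb e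
  by_contra hne
  rcases hs ha hb hne with h | h
  · exact (rk_lt x (lt_of_le_of_ne h hne)).ne e
  · exact (rk_lt x (lt_of_le_of_ne h (Ne.symm hne))).ne e.symm

theorem img_mono (g : GL (Fin n) F) {k l : ℕ} (h : k ≤ l) : img g k ≤ img g l :=
  Submodule.map_mono fun _ hv i hi => hv i (h.trans hi)

theorem img_zero (g : GL (Fin n) F) : img g 0 = ⊥ :=
  Submodule.finrank_eq_zero.1 (finrank_img g (Nat.zero_le n))

theorem img_top (g : GL (Fin n) F) : img g n = ⊤ :=
  Submodule.eq_top_of_finrank_eq (by rw [finrank_img g le_rfl, Module.finrank_fin_fun])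

open scoped Classical in
theorem card_fixed [Fintype F] (x : GL (Fin n) F) [Fintype (Submodule F[X] (Mod x))]
    (α : Fin n → ℕ) (hα : ∑ i, α i = n) :
    Nat.card (MulAction.fixedBy (GL (Fin n) F ⧸ Cfsg.parabolicGL n F α) x) =
      ((chainsBelow (⊤ : Submodule F[X] (Mod x))).filter
        (fun s => s.image (rk x) = ((cuts α).erase 0).erase n)).card := by
  set T := ((cuts α).erase 0).erase n with hT
  set B := (chainsBelow (⊤ : Submodule F[X] (Mod x))).filter (fun s => s.image (rk x) = T) with hB
  have hle : ∀ k ∈ cuts α, k ≤ n := by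
    intro k hk
    obtain ⟨m, hm, rfl⟩ := Finset.mem_image.1 hk
    rw [Finset.mem_range] at hm
    exact (psum_mono α (Nat.le_of_lt_succ hm)).trans_eq ((psum_top α).trans hα)
  have hmemT : ∀ k, k ∈ T ↔ k ∈ cuts α ∧ k ≠ 0 ∧ k ≠ n := fun k => by
    simp only [hT, Finset.mem_erase]; tauto
  have hchoice : ∀ s : B, ∃ g : GL (Fin n) F, ∀ W ∈ s.1, img g (rk x W) = down x W := by
    intro s
    have hc := (mem_chainsBelow.1 (Finset.mem_filter.1 s.2).1).2
    obtain ⟨g, hg⟩ := exists_img_eq (s.1.image (down x)) (by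
      rw [Finset.coe_image]
      rintro _ ⟨a, ha, rfl⟩ _ ⟨b, hb, rfl⟩ hne
      rcases hc ha hb (fun e => hne (congrArg (down x) e)) with h | h
      · exact Or.inl ((down_le_iff x a b).2 h)
      · exact Or.inr ((down_le_iff x b a).2 h))
    exact ⟨g, fun W hW => hg _ (Finset.mem_image_of_mem _ hW)⟩
  choose gg hgg using hchoice
  have hfix : ∀ g : GL (Fin n) F, x • (QuotientGroup.mk g : GL (Fin n) F ⧸ Cfsg.parabolicGL n F α) =
      QuotientGroup.mk g ↔ ∀ k ∈ cuts α, (img g k).map (endo x) ≤ img g k := by
    intro g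
    rw [eq_comm]
    show QuotientGroup.mk g = QuotientGroup.mk (x * g) ↔ _
    rw [QuotientGroup.eq, mem_parabolic_iff_img α hα]
    simp only [img_mul]
  let f : B → MulAction.fixedBy (GL (Fin n) F ⧸ Cfsg.parabolicGL n F α) x := fun s =>
    ⟨QuotientGroup.mk (gg s), (hfix _).2 fun k hk => by
      rcases eq_or_ne k 0 with rfl | h0
      · rw [img_zero, Submodule.map_bot]
      rcases eq_or_ne k n with rfl | hn
      · rw [img_top]; exact le_top
      have : k ∈ s.1.image (rk x) := by
        rw [(Finset.mem_filter.1 s.2).2]; exact (hmemT k).2 ⟨hk, h0, hn⟩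
      obtain ⟨W, hW, rfl⟩ := Finset.mem_image.1 this
      rw [hgg s W hW]
      exact down_invariant x W⟩
  have hf : Function.Bijective f := by
    constructor
    · have key : ∀ s t : B, f s = f t → s.1 ⊆ t.1 := by
        intro s t h W hW
        have h' : (gg t)⁻¹ * gg s ∈ Cfsg.parabolicGL n F α := QuotientGroup.eq.1 (congrArg Subtype.val h).symm
        have hk : rk x W ∈ T := by
          rw [← (Finset.mem_filter.1 s.2).2]; exact Finset.mem_image_of_mem _ hW
        have hk' := ((hmemT _).1 hk).1
        rw [← (Finset.mem_filter.1 t.2).2] at hk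
        obtain ⟨W', hW', e⟩ := Finset.mem_image.1 hk
        have h1 := (mem_parabolic_iff_img α hα (gg s) (gg t)).1 h' _ hk'
        have h2 : img (gg s) (rk x W) = img (gg t) (rk x W) :=
          Submodule.eq_of_le_of_finrank_eq h1 (by rw [finrank_img _ (hle _ hk'), finrank_img _ (hle _ hk')])
        rw [hgg s W hW, ← e, hgg t W' hW'] at h2
        rwa [down_injective x h2]
      intro s t h
      exact Subtype.ext (Finset.Subset.antisymm (key s t h) (key t s h.symm))
    · rintro ⟨c, hc⟩
      induction c using QuotientGroup.induction_on with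
      | _ g =>
      have hg := (hfix g).1 hc
      have hW : ∀ k ∈ T, ∃ W : Submodule F[X] (Mod x), down x W = img g k := fun k hk =>
        exists_down x _ (hg k ((hmemT k).1 hk).1)
      choose! Wf hWf using hW
      have hrk : ∀ k ∈ T, rk x (Wf k) = k := fun k hk => by
        rw [rk, hWf k hk, finrank_img g (hle k ((hmemT k).1 hk).1)]
      have hsB : T.image Wf ∈ B := by
        refine Finset.mem_filter.2 ⟨mem_chainsBelow.2 ⟨?_, ?_⟩, ?_⟩
        · intro W hW'
          obtain ⟨k, hk, rfl⟩ := Finset.mem_image.1 hW'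
          obtain ⟨-, h0, hn⟩ := (hmemT k).1 hk
          constructor
          · refine bot_lt_iff_ne_bot.2 fun e => h0 ?_
            rw [← hrk k hk, e, rk_bot]
          · refine lt_top_iff_ne_top.2 fun e => hn ?_
            rw [← hrk k hk, e, rk_top]
        · intro a ha b hb _
          rw [Finset.mem_coe, Finset.mem_image] at ha hb
          obtain ⟨k, hk, rfl⟩ := ha
          obtain ⟨l, hl, rfl⟩ := hb
          rcases le_total k l with h | h
          · exact Or.inl ((down_le_iff x _ _).1 (by rw [hWf k hk, hWf l hl]; exact img_mono g h))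
          · exact Or.inr ((down_le_iff x _ _).1 (by rw [hWf k hk, hWf l hl]; exact img_mono g h))
        · rw [Finset.image_image]
          exact (Finset.image_congr fun k hk => hrk k hk).trans Finset.image_id'
      refine ⟨⟨T.image Wf, hsB⟩, Subtype.ext ?_⟩
      show QuotientGroup.mk (gg _) = QuotientGroup.mk g
      rw [eq_comm, QuotientGroup.eq, mem_parabolic_iff_img α hα]
      intro k hk
      rcases eq_or_ne k 0 with rfl | h0
      · rw [img_zero]; exact bot_le
      rcases eq_or_ne k n with rfl | hn
      · rw [img_top g]; exact le_top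
      have hkT := (hmemT k).2 ⟨hk, h0, hn⟩
      have := hgg ⟨T.image Wf, hsB⟩ (Wf k) (Finset.mem_image_of_mem _ hkT)
      rw [hrk k hkT, hWf k hkT] at this
      exact this.le
  rw [← Nat.card_congr (Equiv.ofBijective f hf), Nat.card_eq_fintype_card, Fintype.card_coe]

open scoped Classical in
theorem steinberg_eq_mob [Fintype F] (x : GL (Fin n) F) [Fintype (Submodule F[X] (Mod x))] :
    Cfsg.unipotentCharacterGL n F (fun _ => 1) x =
      (-1 : ℂ) ^ n * (mob (⊤ : Submodule F[X] (Mod x)) : ℂ) := by
  let Ψ : Finset ℕ → ℂ := fun S => (((chainsBelow (⊤ : Submodule F[X] (Mod x))).filter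
    (fun s => s.image (rk x) = (S.erase 0).erase n)).card : ℂ)
  have h1 : Cfsg.unipotentCharacterGL n F (fun _ => 1) x = goodSum n Ψ := by
    rw [Cfsg.unipotentCharacterGL, goodSum]
    refine Finset.sum_congr rfl fun σ _ => ?_
    by_cases h : Good σ
    · rw [if_pos (show ∀ i : Fin n, (σ i).val ≤ 1 + i.val from h), if_pos h]
      congr 1
      show ((Nat.card (MulAction.fixedBy (GL (Fin n) F ⧸ Cfsg.parabolicGL n F (comp σ)) x) : ℕ) : ℂ) = _
      rw [card_fixed x (comp σ) (sum_comp h)]
    · rw [if_neg (show ¬ ∀ i : Fin n, (σ i).val ≤ 1 + i.val from h), if_neg h]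
  rw [h1]
  have hrange : ∀ s ∈ chainsBelow (⊤ : Submodule F[X] (Mod x)), s.image (rk x) ⊆ Finset.Ioo 0 n := by
    intro s hs k hk
    obtain ⟨W, hW, rfl⟩ := Finset.mem_image.1 hk
    obtain ⟨hb, ht⟩ := (mem_chainsBelow.1 hs).1 W hW
    have a := rk_lt x hb
    have b := rk_lt x ht
    rw [rk_bot] at a
    rw [rk_top] at b
    exact Finset.mem_Ioo.2 ⟨a, b⟩
  rcases n with _ | N
  · have hg : Good (1 : Equiv.Perm (Fin 0)) := fun i => i.elim0
    have hsub : ∀ W : Submodule F[X] (Mod x), W = ⊥ := fun W => down_injective x (Subsingleton.elim _ _)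
    have hc : chainsBelow (⊤ : Submodule F[X] (Mod x)) = {∅} := by
      ext s
      rw [mem_chainsBelow, Finset.mem_singleton]
      constructor
      · rintro ⟨h, -⟩
        refine Finset.eq_empty_of_forall_notMem fun W hW => ?_
        exact (h W hW).1.ne (hsub W).symm
      · rintro rfl
        simp
    rw [goodSum, Fintype.sum_subsingleton _ (1 : Equiv.Perm (Fin 0)), if_pos hg, hsub ⊤, mob_bot]
    simp [Ψ, hc, cuts, psum_zero, Finset.filter_singleton]
  · have htb : (⊤ : Submodule F[X] (Mod x)) ≠ ⊥ := fun e => by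
      have := congrArg (rk x) e
      rw [rk_top, rk_bot] at this
      omega
    rw [goodSum_eq, mob_of_ne htb, Int.cast_sum, Finset.mul_sum]
    have hΨ : ∀ T ∈ (Finset.Ioo 0 (N + 1)).powerset, Ψ (insert 0 (insert (N + 1) T)) =
        ∑ s ∈ (chainsBelow (⊤ : Submodule F[X] (Mod x))).filter (fun s => s.image (rk x) = T), (1 : ℂ) := by
      intro T hT
      rw [Finset.mem_powerset] at hT
      have e : ((insert 0 (insert (N + 1) T)).erase 0).erase (N + 1) = T := by
        ext k
        simp only [Finset.mem_erase, Finset.mem_insert]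
        constructor
        · tauto
        · intro hk
          have := Finset.mem_Ioo.1 (hT hk)
          exact ⟨by omega, by omega, Or.inr (Or.inr hk)⟩
      show ((((chainsBelow (⊤ : Submodule F[X] (Mod x))).filter (fun s => s.image (rk x) =
        ((insert 0 (insert (N + 1) T)).erase 0).erase (N + 1))).card : ℕ) : ℂ) = _
      rw [e]
      simp
    rw [Finset.sum_congr rfl fun T hT => by rw [hΨ T hT, Finset.mul_sum]]
    rw [← Finset.sum_fiberwise_of_maps_to (s := chainsBelow (⊤ : Submodule F[X] (Mod x)))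
      (g := fun s => s.image (rk x)) (t := (Finset.Ioo 0 (N + 1)).powerset)
      (fun s hs => Finset.mem_powerset.2 (hrange s hs))]
    refine Finset.sum_congr rfl fun T hT => Finset.sum_congr rfl fun s hs => ?_
    obtain ⟨hs1, rfl⟩ := Finset.mem_filter.1 hs
    have hcard : (s.image (rk x)).card = s.card :=
      Finset.card_image_of_injOn (rk_injOn x (mem_chainsBelow.1 hs1).2)
    have hN : s.card ≤ N := by
      rw [← hcard]
      simpa using Finset.card_le_card (Finset.mem_powerset.1 hT)
    rw [hcard, mul_one, Int.cast_pow, Int.cast_neg, Int.cast_one, ← pow_add,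
      show N + 1 + (s.card + 1) = (N - s.card) + 2 * (s.card + 1) by omega, pow_add, pow_mul]
    simp

theorem pol_top_eq (x : GL (Fin n) F) :
    pol (F := F) ↥(⊤ : Submodule F[X] (Mod x)) = (x : Matrix (Fin n) (Fin n) F).charpoly := by
  rw [pol_congr (Submodule.topEquiv : ↥(⊤ : Submodule F[X] (Mod x)) ≃ₗ[F[X]] Mod x), pol,
    ← Matrix.charpoly_toLin', ← (Module.AEval'.of (endo x)).charpoly_conj (endo x)]
  congr 1
  refine LinearMap.ext fun m => ?_
  show (X : F[X]) • m = Module.AEval'.of (endo x) (endo x ((Module.AEval'.of (endo x)).symm m))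
  rw [← Module.AEval'.X_smul_of, LinearEquiv.apply_symm_apply]

theorem endo_semisimple (p : ℕ) [Fact p.Prime] [CharP F p] [Fintype F] [DecidableEq F] (x : GL (Fin n) F)
    (hx : (orderOf x).Coprime p) : IsSemisimpleModule F[X] (Mod x) := by
  have hne : ((orderOf x : ℕ) : F) ≠ 0 := fun h => by
    have hd := (CharP.cast_eq_zero_iff F p _).1 h
    exact (Fact.out : p.Prime).one_lt.ne' (Nat.eq_one_of_dvd_coprimes hx hd dvd_rfl)
  have hsq : Squarefree ((X : F[X]) ^ orderOf x - 1) :=
    ((Polynomial.X_pow_sub_one_separable_iff).2 hne).squarefree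
  have hz : aeval (endo x) ((X : F[X]) ^ orderOf x - 1) = 0 := by
    have h : ((x : Matrix (Fin n) (Fin n) F)) ^ orderOf x = 1 := by
      rw [← Units.val_pow_eq_pow_val, pow_orderOf_eq_one, Units.val_one]
    rw [map_sub, map_pow, aeval_X, map_one, sub_eq_zero]
    show (Matrix.toLinAlgEquiv' (x : Matrix (Fin n) (Fin n) F)) ^ orderOf x = 1
    rw [← map_pow, h, map_one]
  exact Module.End.isSemisimple_of_squarefree_aeval_eq_zero hsq hz

end setup

/-- Values of the Steinberg character of `GL_n(q)` (the partition-indexed character for `ν = (1,…,1)`, of degree `q^(n(n−1)/2)`) at elements of order prime to the characteristic: if the characteristic polynomial of such an element is `∏ f^(m_f)` over distinct monic irreducible `f`, the value is `∏_f (−1)^((deg f − 1) m_f) q^(deg f · m_f (m_f − 1)/2)`. (At elements of order divisible by the characteristic the value is 0; that is not part of this statement.) -/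
theorem result {F : Type*} [Field F] [Fintype F] [DecidableEq F] {q : ℕ} (hq : Fintype.card F = q) (p : ℕ) [Fact p.Prime] [CharP F p]
    {n : ℕ} (x : GL (Fin n) F) (hx : (orderOf x).Coprime p) :
    Cfsg.unipotentCharacterGL n F (fun _ => 1) x =
      ∏ f ∈ (UniqueFactorizationMonoid.normalizedFactors (x : Matrix (Fin n) (Fin n) F).charpoly).toFinset,
        (-1 : ℂ) ^ ((f.natDegree - 1) * (UniqueFactorizationMonoid.normalizedFactors (x : Matrix (Fin n) (Fin n) F).charpoly).count f) *
          (q : ℂ) ^ (f.natDegree * (UniqueFactorizationMonoid.normalizedFactors (x : Matrix (Fin n) (Fin n) F).charpoly).count f *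
            ((UniqueFactorizationMonoid.normalizedFactors (x : Matrix (Fin n) (Fin n) F).charpoly).count f - 1) / 2) := by
  classical
  subst hq
  have : IsSemisimpleModule F[X] (Mod x) := endo_semisimple p x hx
  have : Finite (Mod x) := Finite.of_equiv _ (Module.AEval'.of (endo x)).toEquiv
  have : Fintype (Submodule F[X] (Mod x)) := Fintype.ofFinite _
  rw [steinberg_eq_mob x, mob_eq_val, pol_top_eq]
  set χ := (x : Matrix (Fin n) (Fin n) F).charpoly with hχ
  set s := UniqueFactorizationMonoid.normalizedFactors χ with hs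
  have hmon : χ.Monic := Matrix.charpoly_monic _
  have hfm : ∀ f ∈ s, f.Monic := fun f hf => by
    rw [← UniqueFactorizationMonoid.normalize_normalized_factor f hf]
    exact Polynomial.monic_normalize (UniqueFactorizationMonoid.irreducible_of_normalized_factor f hf).ne_zero
  have hn : n = ∑ f ∈ s.toFinset, s.count f * f.natDegree := by
    have h1 : s.prod = χ := by
      have := UniqueFactorizationMonoid.prod_normalizedFactors_eq (a := χ) hmon.ne_zero
      rwa [hmon.normalize_eq_self] at this
    have h2 := Polynomial.natDegree_multiset_prod_of_monic s hfm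
    rw [h1, hχ, Matrix.charpoly_natDegree_eq_dim, Fintype.card_fin, Finset.sum_multiset_map_count] at h2
    simpa using h2
  conv_lhs => rw [show (-1 : ℂ) ^ n = ∏ f ∈ s.toFinset, (-1 : ℂ) ^ (s.count f * f.natDegree) by
    rw [Finset.prod_pow_eq_pow_sum, ← hn]]
  rw [val, Int.cast_prod, ← Finset.prod_mul_distrib]
  refine Finset.prod_congr rfl fun f hf => ?_
  have hd : 1 ≤ f.natDegree :=
    (UniqueFactorizationMonoid.irreducible_of_normalized_factor f (Multiset.mem_toFinset.1 hf)).natDegree_pos
  obtain ⟨d, hd'⟩ : ∃ d, f.natDegree = d + 1 := ⟨f.natDegree - 1, by omega⟩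
  rw [Int.cast_mul, Int.cast_pow, Int.cast_pow, Int.cast_neg, Int.cast_one, Int.cast_natCast, ← mul_assoc, ← pow_add,
    tri, ← Nat.mul_div_assoc _ (Nat.even_mul_pred_self _).two_dvd, hd', Nat.add_sub_cancel, ← mul_assoc]
  congr 1
  rw [show s.count f * (d + 1) + s.count f = d * s.count f + 2 * s.count f by ring, pow_add, pow_mul, pow_mul]
  simp

end Cfsg.Agent.S2425
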