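import Cfsg.Statements.S2427

set_option autoImplicit false
open Cfsg

namespace Cfsg.Agent.S2427

abbrev G₂₄ := Matrix.SpecialLinearGroup (Fin 2) (ZMod 3)

/-- Generator of order four. -/
def A : G₂₄ := ⟨!![0, 2; 1, 0], by decide⟩
/-- Generator of order four. -/
def B : G₂₄ := ⟨!![1, 1; 1, 2], by decide⟩

/-- The quaternion embedding, as a function. -/
def qfun : QuaternionGroup 2 → G₂₄
  | .a i => A ^ i.val
  | .xa i => B * A ^ i.val

set_option maxRecDepth 100000 in
theorem qfun_mul : ∀ x y : QuaternionGroup 2, qfun (x * y) = qfun x * qfun y := by decide +kernel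

/-- The quaternion embedding. -/
def qhom : QuaternionGroup 2 →* G₂₄ := MonoidHom.mk' qfun qfun_mul

theorem qfun_inj : Function.Injective qfun := by decide +kernel

theorem card_G : Fintype.card G₂₄ = 24 := by decide +kernel

theorem mem_range_iff : ∀ g : G₂₄, g ^ 4 = 1 ↔ ∃ x, qfun x = g := by decide +kernel

theorem commutator_pow : ∀ g h : G₂₄, (g * h * g⁻¹ * h⁻¹) ^ 4 = 1 := by decide +kernel

theorem A_comm : ∃ g h : G₂₄, g * h * g⁻¹ * h⁻¹ = A := by decide +kernel

theorem B_comm : ∃ g h : G₂₄, g * h * g⁻¹ * h⁻¹ = B := by decide +kernel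

theorem closure_step : ∀ g : G₂₄, (∀ a, a * g = g * a) ∨
    ((∃ a b : G₂₄, (a * g * a⁻¹ * g⁻¹) * (b * g * b⁻¹ * g⁻¹) = A) ∧
      (∃ a b : G₂₄, (a * g * a⁻¹ * g⁻¹) * (b * g * b⁻¹ * g⁻¹) = B)) := by decide +kernel

theorem center_cases : ∀ g : G₂₄, (∀ a, a * g = g * a) → g = 1 ∨ g = -1 := by decide +kernel

open scoped commutatorElement

theorem commutator_eq : commutator G₂₄ = qhom.range := by
  apply le_antisymm
  · rw [commutator_def, Subgroup.commutator_le]
    intro g _ h _
    exact (mem_range_iff _).mp (by rw [commutatorElement_def]; exact commutator_pow g h)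
  · rintro _ ⟨x, rfl⟩
    have hA : A ∈ commutator G₂₄ := by
      obtain ⟨g, h, hgh⟩ := A_comm
      rw [← hgh, ← commutatorElement_def]
      exact Subgroup.commutator_mem_commutator (Subgroup.mem_top g) (Subgroup.mem_top h)
    have hB : B ∈ commutator G₂₄ := by
      obtain ⟨g, h, hgh⟩ := B_comm
      rw [← hgh, ← commutatorElement_def]
      exact Subgroup.commutator_mem_commutator (Subgroup.mem_top g) (Subgroup.mem_top h)
    rcases x with i | i
    · exact Subgroup.pow_mem _ hA i.val
    · exact Subgroup.mul_mem _ hB (Subgroup.pow_mem _ hA i.val)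

theorem card_commutator : Nat.card (commutator G₂₄) = 8 := by
  rw [commutator_eq]
  exact (Nat.card_congr (MonoidHom.ofInjective (f := qhom) qfun_inj).toEquiv).symm.trans
    (by rw [Nat.card_eq_fintype_card, QuaternionGroup.card])

/-- The group SL₂ over the field with 3 elements has order 24 and centre of order 2; its commutator subgroup has order 8, is isomorphic to the quaternion group of order 8 and is complemented by every Sylow 3-subgroup (so the group is a semidirect product of a quaternion group of order 8 by a cyclic group of order 3); and its only normal subgroups besides the trivial subgroup and the whole group are the centre and the commutator subgroup. -/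
theorem result :
    Nat.card (Matrix.SpecialLinearGroup (Fin 2) (ZMod 3)) = 24 ∧
    Nat.card (Subgroup.center (Matrix.SpecialLinearGroup (Fin 2) (ZMod 3))) = 2 ∧
    Nat.card (commutator (Matrix.SpecialLinearGroup (Fin 2) (ZMod 3))) = 8 ∧
    Nonempty (commutator (Matrix.SpecialLinearGroup (Fin 2) (ZMod 3)) ≃* QuaternionGroup 2) ∧
    (∀ P : Sylow 3 (Matrix.SpecialLinearGroup (Fin 2) (ZMod 3)),
      Subgroup.IsComplement' (commutator (Matrix.SpecialLinearGroup (Fin 2) (ZMod 3)))
        (P : Subgroup (Matrix.SpecialLinearGroup (Fin 2) (ZMod 3)))) ∧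
    ∀ N : Subgroup (Matrix.SpecialLinearGroup (Fin 2) (ZMod 3)), N.Normal →
      N = ⊥ ∨ N = ⊤ ∨ N = Subgroup.center (Matrix.SpecialLinearGroup (Fin 2) (ZMod 3)) ∨
        N = commutator (Matrix.SpecialLinearGroup (Fin 2) (ZMod 3)) := by
  have hc : ∀ g : G₂₄, g ∈ Subgroup.center G₂₄ ↔ g = 1 ∨ g = -1 := fun g => by
    rw [Subgroup.mem_center_iff]
    refine ⟨center_cases g, ?_⟩
    rintro (rfl | rfl)
    · simp
    · decide +kernel
  have hcard : Nat.card (Matrix.SpecialLinearGroup (Fin 2) (ZMod 3)) = 24 := by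
    rw [Nat.card_eq_fintype_card, card_G]
  refine ⟨hcard, ?_, card_commutator, ?_, ?_, ?_⟩
  · have hset : ((Subgroup.center G₂₄ : Subgroup G₂₄) : Set G₂₄) = {1, -1} := Set.ext fun g => hc g
    rw [show Nat.card (Subgroup.center G₂₄) = ((Subgroup.center G₂₄ : Subgroup G₂₄) : Set G₂₄).ncard from
      Nat.card_coe_set_eq _, hset, Set.ncard_pair (by decide +kernel)]
  · exact ⟨(MulEquiv.subgroupCongr commutator_eq).trans (MonoidHom.ofInjective (f := qhom) qfun_inj).symm⟩
  · intro P
    have hP : Nat.card (P : Subgroup G₂₄) = 3 := by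
      rw [P.card_eq_multiplicity, hcard]
      norm_num [Nat.factorization_def _ (by norm_num : Nat.Prime 3)]
      rw [show (24 : ℕ) = 3 * 8 from rfl, padicValNat.mul (by norm_num) (by norm_num),
        padicValNat.self (by norm_num), padicValNat.eq_zero_of_not_dvd (by norm_num)]
      rfl
    refine Subgroup.isComplement'_of_coprime ?_ ?_
    · rw [card_commutator, hP, hcard]
    · rw [card_commutator, hP]
      norm_num
  · intro N hN
    by_cases h : N ≤ Subgroup.center G₂₄
    · by_cases h1 : (-1 : G₂₄) ∈ N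
      · refine Or.inr (Or.inr (Or.inl (le_antisymm h fun g hg => ?_)))
        rcases (hc g).mp hg with rfl | rfl
        · exact N.one_mem
        · exact h1
      · refine Or.inl (N.eq_bot_iff_forall.mpr fun g hg => ?_)
        rcases (hc g).mp (h hg) with rfl | rfl
        · rfl
        · exact absurd hg h1
    · obtain ⟨g, hgN, hg⟩ := SetLike.not_le_iff_exists.mp h
      rcases closure_step g with h2 | ⟨⟨a, b, hA⟩, ⟨a', b', hB⟩⟩
      · exact absurd (Subgroup.mem_center_iff.mpr h2) hg
      · have hcm : ∀ x, x * g * x⁻¹ * g⁻¹ ∈ N := fun x => N.mul_mem (hN.conj_mem g hgN x) (N.inv_mem hgN)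
        have hAN : A ∈ N := hA ▸ N.mul_mem (hcm a) (hcm b)
        have hBN : B ∈ N := hB ▸ N.mul_mem (hcm a') (hcm b')
        have hle : commutator G₂₄ ≤ N := by
          rw [commutator_eq]
          rintro _ ⟨i | i, rfl⟩
          · exact N.pow_mem hAN i.val
          · exact N.mul_mem hBN (N.pow_mem hAN i.val)
        have h8 : 8 ∣ Nat.card N := card_commutator ▸ Subgroup.card_dvd_of_le hle
        have h24 : Nat.card N ∣ 24 := hcard ▸ Subgroup.card_subgroup_dvd_card N
        rcases (show Nat.card N = 8 ∨ Nat.card N = 24 by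
          obtain ⟨k, hk⟩ := h8
          rw [hk, show (24 : ℕ) = 8 * 3 from rfl] at h24
          have h3 : k ∣ 3 := Nat.dvd_of_mul_dvd_mul_left (by norm_num) h24
          rcases (Nat.dvd_prime (by norm_num)).mp h3 with rfl | rfl <;> omega) with h3 | h3
        · exact Or.inr (Or.inr (Or.inr (Subgroup.eq_of_le_of_card_ge hle (by rw [card_commutator, h3])).symm))
        · exact Or.inr (Or.inl (Subgroup.eq_top_of_card_eq N (by rw [h3, hcard])))

end Cfsg.Agent.S2427
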