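import Cfsg.Statements.S2428
import Cfsg.Agent.Lib.KnownA.GL2Classes

set_option autoImplicit false
open Cfsg

namespace Cfsg.Agent.S2428

open Cfsg.Agent.Lib.KnownA

section
variable {F : Type*} [Field F]

private theorem sl_eq_iff {x y : Matrix.SpecialLinearGroup (Fin 2) F} :
    x = y ↔ (x : Matrix (Fin 2) (Fin 2) F) = (y : Matrix (Fin 2) (Fin 2) F) :=
  ⟨congrArg _, fun h => Subtype.ext h⟩


private def elt : Fˣ ⊕ Fˣ → Matrix.SpecialLinearGroup (Fin 2) F
  | .inl a => ⟨!![(a : F), 0; 0, ((a⁻¹ : Fˣ) : F)], by simp [Matrix.det_fin_two]⟩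
  | .inr b => ⟨!![0, (b : F); -((b⁻¹ : Fˣ) : F), 0], by simp [Matrix.det_fin_two]⟩

private theorem coe_inl (a : Fˣ) : (elt (.inl a) : Matrix (Fin 2) (Fin 2) F) = !![(a : F), 0; 0, ((a⁻¹ : Fˣ) : F)] := rfl

private theorem coe_inr (b : Fˣ) : (elt (.inr b) : Matrix (Fin 2) (Fin 2) F) = !![0, (b : F); -((b⁻¹ : Fˣ) : F), 0] := rfl

private theorem elt_injective : Function.Injective (elt (F := F)) := by
  intro x y h
  have h' := congrArg (fun k : Matrix.SpecialLinearGroup (Fin 2) F => (k : Matrix (Fin 2) (Fin 2) F)) h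
  rcases x with a | a <;> rcases y with b | b <;>
    have e00 := congrFun (congrFun h' 0) 0 <;> have e01 := congrFun (congrFun h' 0) 1 <;>
    simp [elt] at e00 e01
  · exact congrArg _ (Units.ext e00)
  · exact congrArg _ (Units.ext e01)

private def isT (g : Matrix.SpecialLinearGroup (Fin 2) F) : Prop :=
  (g : Matrix (Fin 2) (Fin 2) F) 0 1 = 0 ∧ (g : Matrix (Fin 2) (Fin 2) F) 1 0 = 0

private theorem det_eq' (g : Matrix.SpecialLinearGroup (Fin 2) F) :
    (g : Matrix (Fin 2) (Fin 2) F) 0 0 * (g : Matrix (Fin 2) (Fin 2) F) 1 1 -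
      (g : Matrix (Fin 2) (Fin 2) F) 0 1 * (g : Matrix (Fin 2) (Fin 2) F) 1 0 = 1 := by
  rw [← Matrix.det_fin_two]; exact g.2

private theorem mem_range_elt {g : Matrix.SpecialLinearGroup (Fin 2) F}
    (h : isT g ∨ ((g : Matrix (Fin 2) (Fin 2) F) 0 0 = 0 ∧ (g : Matrix (Fin 2) (Fin 2) F) 1 1 = 0)) :
    ∃ x, elt x = g := by
  have hd := det_eq' g
  rcases h with ⟨h01, h10⟩ | ⟨h00, h11⟩
  · rw [h01, zero_mul, sub_zero] at hd
    refine ⟨.inl (Units.mk0 _ (left_ne_zero_of_mul_eq_one hd)), Subtype.ext ?_⟩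
    ext i j
    fin_cases i <;> fin_cases j <;> simp [elt, h01, h10, inv_eq_of_mul_eq_one_right hd]
  · rw [h00, zero_mul, zero_sub, ← mul_neg] at hd
    refine ⟨.inr (Units.mk0 _ (left_ne_zero_of_mul_eq_one hd)), Subtype.ext ?_⟩
    ext i j
    fin_cases i <;> fin_cases j <;> simp [elt, h00, h11, inv_eq_of_mul_eq_one_right hd]

private theorem mem_centralizer_diag {d : Matrix.SpecialLinearGroup (Fin 2) F} (hd : isT d)
    (hda : (d : Matrix (Fin 2) (Fin 2) F) 0 0 ^ 2 ≠ 1) (g : Matrix.SpecialLinearGroup (Fin 2) F) :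
    g ∈ Subgroup.centralizer ({d} : Set (Matrix.SpecialLinearGroup (Fin 2) F)) ↔ isT g := by
  rw [Subgroup.mem_centralizer_singleton_iff, sl_eq_iff, Matrix.SpecialLinearGroup.coe_mul,
    Matrix.SpecialLinearGroup.coe_mul]
  have hne : (d : Matrix (Fin 2) (Fin 2) F) 0 0 - (d : Matrix (Fin 2) (Fin 2) F) 1 1 ≠ 0 := by
    intro h
    rw [sub_eq_zero] at h
    have := det_eq' d
    rw [hd.1, zero_mul, sub_zero, ← h] at this
    exact hda (by rw [sq]; exact this)
  constructor
  · intro h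
    have e01 := congrFun (congrFun h 0) 1
    have e10 := congrFun (congrFun h 1) 0
    simp [Matrix.mul_apply, Fin.sum_univ_two, hd.1, hd.2] at e01 e10
    exact ⟨mul_left_cancel₀ hne (by first | linear_combination e01 | linear_combination -e01),
      mul_left_cancel₀ hne (by first | linear_combination e10 | linear_combination -e10)⟩
  · intro h
    ext i j
    fin_cases i <;> fin_cases j <;> simp [Matrix.mul_apply, Fin.sum_univ_two, hd.1, hd.2, h.1, h.2, mul_comm]

private theorem mem_normalizer {d : Matrix.SpecialLinearGroup (Fin 2) F} (hd : isT d)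
    (hda : (d : Matrix (Fin 2) (Fin 2) F) 0 0 ^ 2 ≠ 1) (g : Matrix.SpecialLinearGroup (Fin 2) F) :
    g ∈ Subgroup.normalizer ((Subgroup.centralizer ({d} : Set (Matrix.SpecialLinearGroup (Fin 2) F))) :
      Set (Matrix.SpecialLinearGroup (Fin 2) F)) ↔ ∃ x, elt x = g := by
  constructor
  · intro hg
    have hT : isT (g * d * g⁻¹) :=
      (mem_centralizer_diag hd hda _).mp ((Subgroup.mem_normalizer_iff.mp hg d).mp ((mem_centralizer_diag hd hda d).mpr hd))
    obtain ⟨x, hx⟩ := mem_range_elt (Or.inl hT)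
    have hgd : (g : Matrix (Fin 2) (Fin 2) F) * (d : Matrix (Fin 2) (Fin 2) F) =
        ((g * d * g⁻¹ : Matrix.SpecialLinearGroup (Fin 2) F) : Matrix (Fin 2) (Fin 2) F) * (g : Matrix (Fin 2) (Fin 2) F) := by
      rw [← Matrix.SpecialLinearGroup.coe_mul, ← Matrix.SpecialLinearGroup.coe_mul, inv_mul_cancel_right]
    set D := ((g * d * g⁻¹ : Matrix.SpecialLinearGroup (Fin 2) F) : Matrix (Fin 2) (Fin 2) F) with hD
    have e00 := congrFun (congrFun hgd 0) 0
    have e01 := congrFun (congrFun hgd 0) 1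
    have e10 := congrFun (congrFun hgd 1) 0
    have e11 := congrFun (congrFun hgd 1) 1
    simp [Matrix.mul_apply, Fin.sum_univ_two, hd.1, hd.2, hT.1, hT.2] at e00 e01 e10 e11
    rw [show D 0 1 = 0 from hT.1] at *
    rw [show D 1 0 = 0 from hT.2] at *
    have hne : (d : Matrix (Fin 2) (Fin 2) F) 0 0 - (d : Matrix (Fin 2) (Fin 2) F) 1 1 ≠ 0 := by
      intro h
      rw [sub_eq_zero] at h
      have := det_eq' d
      rw [hd.1, zero_mul, sub_zero, ← h] at this
      exact hda (by rw [sq]; exact this)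
    refine mem_range_elt ?_
    have h1 : (g : Matrix (Fin 2) (Fin 2) F) 0 0 * (g : Matrix (Fin 2) (Fin 2) F) 0 1 = 0 :=
      mul_left_cancel₀ hne (by linear_combination (g : Matrix (Fin 2) (Fin 2) F) 0 1 * e00 - (g : Matrix (Fin 2) (Fin 2) F) 0 0 * e01)
    have h2 : (g : Matrix (Fin 2) (Fin 2) F) 1 0 * (g : Matrix (Fin 2) (Fin 2) F) 1 1 = 0 :=
      mul_left_cancel₀ hne (by linear_combination (g : Matrix (Fin 2) (Fin 2) F) 1 1 * e10 - (g : Matrix (Fin 2) (Fin 2) F) 1 0 * e11)
    have hdet := det_eq' g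
    rcases mul_eq_zero.mp h1 with h | h <;> rcases mul_eq_zero.mp h2 with h' | h'
    · rw [h, h'] at hdet; simp at hdet
    · exact Or.inr ⟨h, h'⟩
    · exact Or.inl ⟨h, h'⟩
    · rw [h, h'] at hdet; simp at hdet
  · rintro ⟨x, rfl⟩
    rw [Subgroup.mem_normalizer_iff]
    intro k
    simp only [SetLike.mem_coe, mem_centralizer_diag hd hda]
    rw [isT, isT]
    rcases x with a | b <;>
      simp [coe_inl, coe_inr, Matrix.SpecialLinearGroup.coe_inv, Matrix.adjugate_fin_two, Matrix.mul_apply, Matrix.vecMul,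
        dotProduct, Fin.sum_univ_two, and_comm]

private theorem commute_elt (x y : Fˣ ⊕ Fˣ) : elt x * elt y = elt y * elt x ↔
    match x, y with
    | .inl _, .inl _ => True
    | .inl a, .inr _ => a ^ 2 = 1
    | .inr _, .inl a => a ^ 2 = 1
    | .inr b, .inr c => b ^ 2 = c ^ 2 := by
  rw [sl_eq_iff, Matrix.SpecialLinearGroup.coe_mul, Matrix.SpecialLinearGroup.coe_mul, ← Matrix.ext_iff]
  simp only [Fin.forall_fin_two]
  rcases x with a | a <;> rcases y with b | b <;>
    simp [elt, Matrix.mul_apply, Fin.sum_univ_two, Units.ext_iff, sq] <;>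
    field_simp <;>
    simp [eq_comm]

variable [Fintype F]

private theorem card_sq (h2 : (2 : F) ≠ 0) (c : Fˣ) : Nat.card {b : Fˣ // b ^ 2 = c ^ 2} = 2 := by
  classical
  rw [Nat.card_eq_fintype_card, Fintype.card_subtype]
  rw [show (Finset.univ.filter fun b : Fˣ => b ^ 2 = c ^ 2) = {c, -c} by
    ext b
    simp only [Finset.mem_filter, Finset.mem_univ, true_and, Finset.mem_insert, Finset.mem_singleton]
    constructor
    · intro h
      rcases sq_eq_sq_iff_eq_or_eq_neg.mp (by simpa [← Units.val_pow_eq_pow_val] using congrArg Units.val h :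
        (b : F) ^ 2 = (c : F) ^ 2) with h | h
      · exact Or.inl (Units.ext h)
      · exact Or.inr (Units.ext (by simpa using h))
    · rintro (rfl | rfl) <;> simp]
  rw [Finset.card_pair]
  intro h
  have := congrArg Units.val h
  rw [Units.val_neg] at this
  exact c.ne_zero (mul_left_cancel₀ h2 (by linear_combination this))

end


/-- Let F be a finite field with q elements, q odd, and let d be a diagonal element of SL₂ over F whose diagonal entry a has a² ≠ 1 (such d exist exactly when q > 3). Then the centraliser of d is precisely the diagonal subgroup T; the normaliser of T has order 2(q − 1) and exactly (q + 5)/2 conjugacy classes; and every element of that normaliser outside T has square equal to −1. -/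
theorem result {F : Type*} [Field F] [Fintype F] (hodd : Odd (Fintype.card F))
    (d : Matrix.SpecialLinearGroup (Fin 2) F) (hd01 : (d : Matrix (Fin 2) (Fin 2) F) 0 1 = 0) (hd10 : (d : Matrix (Fin 2) (Fin 2) F) 1 0 = 0) (hda : (d : Matrix (Fin 2) (Fin 2) F) 0 0 ^ 2 ≠ 1) :
    (∀ g : Matrix.SpecialLinearGroup (Fin 2) F, g ∈ Subgroup.centralizer ({d} : Set (Matrix.SpecialLinearGroup (Fin 2) F)) ↔ ((g : Matrix (Fin 2) (Fin 2) F) 0 1 = 0 ∧ (g : Matrix (Fin 2) (Fin 2) F) 1 0 = 0)) ∧
    Nat.card (Subgroup.normalizer ((Subgroup.centralizer ({d} : Set (Matrix.SpecialLinearGroup (Fin 2) F))) : Set (Matrix.SpecialLinearGroup (Fin 2) F))) = 2 * (Fintype.card F - 1) ∧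
    Nat.card (ConjClasses (Subgroup.normalizer ((Subgroup.centralizer ({d} : Set (Matrix.SpecialLinearGroup (Fin 2) F))) : Set (Matrix.SpecialLinearGroup (Fin 2) F)))) = (Fintype.card F + 5) / 2 ∧
    ∀ g : Matrix.SpecialLinearGroup (Fin 2) F, g ∈ Subgroup.normalizer ((Subgroup.centralizer ({d} : Set (Matrix.SpecialLinearGroup (Fin 2) F))) : Set (Matrix.SpecialLinearGroup (Fin 2) F)) →
      g ∉ Subgroup.centralizer ({d} : Set (Matrix.SpecialLinearGroup (Fin 2) F)) → ((g * g) : Matrix (Fin 2) (Fin 2) F) = -1 := by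
  classical
  have h2 : (2 : F) ≠ 0 := two_ne_zero_of_odd hodd
  have hd : isT d := ⟨hd01, hd10⟩
  set N := Subgroup.normalizer ((Subgroup.centralizer ({d} : Set (Matrix.SpecialLinearGroup (Fin 2) F))) : Set (Matrix.SpecialLinearGroup (Fin 2) F)) with hNdef
  let e : Fˣ ⊕ Fˣ ≃ N := Equiv.ofBijective (fun x => ⟨elt x, (mem_normalizer hd hda _).mpr ⟨x, rfl⟩⟩)
    ⟨fun x y h => elt_injective (congrArg Subtype.val h), fun g =>
      (mem_normalizer hd hda _).mp g.2 |>.imp fun x hx => Subtype.ext hx⟩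
  have hN : Nat.card N = 2 * (Fintype.card F - 1) := by
    rw [← Nat.card_congr e, Nat.card_sum, Nat.card_units, Nat.card_eq_fintype_card]; ring
  refine ⟨mem_centralizer_diag hd hda, hN, ?_, fun g hg hgT => ?_⟩
  · let R : Fˣ ⊕ Fˣ → Fˣ ⊕ Fˣ → Prop := fun x y =>
      match x, y with
      | .inl _, .inl _ => True
      | .inl a, .inr _ => a ^ 2 = 1
      | .inr _, .inl a => a ^ 2 = 1
      | .inr b, .inr c => b ^ 2 = c ^ 2
    have hE : {p : (Fˣ ⊕ Fˣ) × (Fˣ ⊕ Fˣ) // R p.1 p.2} ≃ {p : N × N // Commute p.1 p.2} :=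
      Equiv.subtypeEquiv (Equiv.prodCongr e e) fun p => by
        show R p.1 p.2 ↔ e p.1 * e p.2 = e p.2 * e p.1
        rw [Subtype.ext_iff]
        exact (commute_elt p.1 p.2).symm
    have hcount := card_comm_eq_card_conjClasses_mul_card N
    have hsq : Nat.card {a : Fˣ // a ^ 2 = 1} = 2 := by simpa using card_sq h2 1
    have hR : Nat.card {p : (Fˣ ⊕ Fˣ) × (Fˣ ⊕ Fˣ) // R p.1 p.2} =
        ∑ x : Fˣ ⊕ Fˣ, Nat.card {y // R x y} := by
      rw [← Nat.card_sigma]
      exact Nat.card_congr (Equiv.subtypeProdEquivSigmaSubtype R)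
    have hin : ∀ a : Fˣ, Nat.card {y // R (.inl a) y} =
        (Fintype.card F - 1) + if a ^ 2 = 1 then Fintype.card F - 1 else 0 := fun a => by
      rw [Nat.card_congr (Equiv.subtypeSum), Nat.card_sum]
      congr 1
      · rw [Nat.card_congr (Equiv.subtypeUnivEquiv fun _ => trivial), Nat.card_units, Nat.card_eq_fintype_card]
      · split_ifs with h
        · rw [Nat.card_congr (Equiv.subtypeUnivEquiv fun _ => h), Nat.card_units, Nat.card_eq_fintype_card]
        · exact Nat.card_eq_zero.mpr (Or.inl ⟨fun z => h z.2⟩)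
    have hir : ∀ b : Fˣ, Nat.card {y // R (.inr b) y} = 2 + 2 := fun b => by
      rw [Nat.card_congr (Equiv.subtypeSum), Nat.card_sum]
      congr 1
      rw [← card_sq h2 b]
      exact Nat.card_congr (Equiv.subtypeEquivRight fun c => eq_comm)
    rw [← Nat.card_congr hE, hR, Fintype.sum_sum_type, hN] at hcount
    simp only [hin, hir] at hcount
    rw [Finset.sum_add_distrib, Finset.sum_const, Finset.sum_const, ← Finset.sum_filter, Finset.sum_const,
      Finset.card_univ, Fintype.card_units, smul_eq_mul, smul_eq_mul, smul_eq_mul] at hcount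
    rw [Nat.card_eq_fintype_card, Fintype.card_subtype] at hsq
    rw [hsq] at hcount
    obtain ⟨r, hr⟩ : ∃ r, Fintype.card F = r + 1 := ⟨Fintype.card F - 1, by have := Fintype.one_lt_card (α := F); omega⟩
    rw [hr, Nat.add_sub_cancel] at hcount
    have hrpos : 0 < r := by have := Fintype.one_lt_card (α := F); omega
    rw [hr]
    have h' : r * (2 * Nat.card (ConjClasses N)) = r * (r + 6) := by nlinarith [hcount]
    have := Nat.eq_of_mul_eq_mul_left hrpos h'
    omega
  · obtain ⟨x, rfl⟩ := (mem_normalizer hd hda g).mp hg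
    rw [mem_centralizer_diag hd hda] at hgT
    rcases x with a | b
    · exact absurd (⟨by simp [elt], by simp [elt]⟩ : isT (elt (.inl a))) hgT
    · ext i j
      fin_cases i <;> fin_cases j <;> simp [elt, Matrix.mul_apply, Fin.sum_univ_two]

end Cfsg.Agent.S2428
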