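import Cfsg.Statements.S2429
import Cfsg.Agent.Lib.PSLSpec.TorusNorm
import Cfsg.Agent.Lib.KnownA.GL2Classes

set_option autoImplicit false
open Cfsg

namespace Cfsg.Agent.S2429

/-- Let F be a finite field with q elements, q odd. Then SL₂ over F contains a cyclic subgroup T′ of order q + 1 (a non-split torus) with the following properties: T′ is its own centraliser, and indeed the centraliser of each element of T′ other than 1 and −1 is exactly T′; every element of SL₂ having no eigenvector in F² is conjugate to an element of T′; the normaliser of T′ has order 2(q + 1) and exactly (q + 7)/2 conjugacy classes; and every element of that normaliser outside T′ has square −1. -/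
theorem result {F : Type*} [Field F] [Fintype F] (hodd : Odd (Fintype.card F)) :
    ∃ T' : Subgroup (Matrix.SpecialLinearGroup (Fin 2) F), IsCyclic T' ∧ Nat.card T' = Fintype.card F + 1 ∧
      Subgroup.centralizer ((T' : Set (Matrix.SpecialLinearGroup (Fin 2) F))) = T' ∧
      (∀ g : Matrix.SpecialLinearGroup (Fin 2) F, g ∈ T' → (g : Matrix (Fin 2) (Fin 2) F) ≠ 1 → (g : Matrix (Fin 2) (Fin 2) F) ≠ -1 → Subgroup.centralizer ({g} : Set (Matrix.SpecialLinearGroup (Fin 2) F)) = T') ∧
      (∀ g : Matrix.SpecialLinearGroup (Fin 2) F, (∀ (c : F) (v : Fin 2 → F), v ≠ 0 → (g : Matrix (Fin 2) (Fin 2) F).mulVec v ≠ c • v) → ∃ h : Matrix.SpecialLinearGroup (Fin 2) F, h * g * h⁻¹ ∈ T') ∧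
      Nat.card (Subgroup.normalizer (T' : Set (Matrix.SpecialLinearGroup (Fin 2) F))) = 2 * (Fintype.card F + 1) ∧
      Nat.card (ConjClasses (Subgroup.normalizer (T' : Set (Matrix.SpecialLinearGroup (Fin 2) F)))) = (Fintype.card F + 7) / 2 ∧
      ∀ g : Matrix.SpecialLinearGroup (Fin 2) F, g ∈ Subgroup.normalizer (T' : Set (Matrix.SpecialLinearGroup (Fin 2) F)) → g ∉ T' → ((g * g) : Matrix (Fin 2) (Fin 2) F) = -1 := by
  classical
  have h20 : (2 : F) ≠ 0 := Cfsg.Agent.Lib.KnownA.two_ne_zero_of_odd hodd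
  obtain ⟨y, hs, ht, hy⟩ := Lib.Geometry.Dickson.exists_nonsplit (F := F)
  have hc : Nat.card (Lib.Geometry.Dickson.cell ⊤ y) = Fintype.card F + 1 := Lib.Geometry.Dickson.card_cell_nonsplit hy ht hs
  refine ⟨Lib.Geometry.Dickson.cell ⊤ y, Lib.Geometry.Dickson.torus_isCyclic ⊤ hy ht, hc,
    Lib.PSLSpec.centralizer_of_le_cell hy le_rfl (Lib.Geometry.Dickson.mem_cell_self ⊤ (Subgroup.mem_top y)) hy,
    fun g hg h1 h2 => Lib.PSLSpec.centralizer_of_mem_cell hy hg fun hz => ?_, fun g hg => ?_, ?_, ?_, fun g hg hgc => ?_⟩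
  · rcases Lib.SL2Trace.mem_center_iff.mp hz with rfl | rfl
    · exact h1 rfl
    · exact h2 (by simp)
  · refine Lib.PSLSpec.exists_conj_mem_nonsplit h20 hs ?_
    rintro ⟨r, hr⟩
    obtain ⟨v, hv, hv0⟩ : ∃ v : Fin 2 → F, v ≠ 0 ∧ ((g : Matrix (Fin 2) (Fin 2) F) - r • (1 : Matrix (Fin 2) (Fin 2) F)).mulVec v = 0 := by
      refine Matrix.exists_mulVec_eq_zero_iff.mpr ?_
      rw [Lib.SL2Trace.tr_eq] at hr
      rw [Matrix.det_fin_two]
      simp
      linear_combination hr + Lib.SL2Trace.det_eq g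
    exact hg r v hv (by rwa [Matrix.sub_mulVec, Matrix.smul_mulVec, Matrix.one_mulVec, sub_eq_zero] at hv0)
  · rw [Lib.PSLSpec.normalizer_cell, Lib.PSLSpec.card_cellNorm hy ht, hc]
  · rw [Lib.PSLSpec.normalizer_cell]
    have h := Lib.PSLSpec.card_conjClasses_cellNorm h20 hy ht
    rw [hc] at h
    omega
  · rw [Lib.PSLSpec.normalizer_cell] at hg
    have h := congrArg (fun e : Matrix.SpecialLinearGroup (Fin 2) F => (e : Matrix (Fin 2) (Fin 2) F))
      (Lib.PSLSpec.sq_eq_neg_one h20 hy ht hg hgc)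
    simpa using h

end Cfsg.Agent.S2429
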