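import Cfsg.Statements.S2430
import Cfsg.Agent.Lib.PSLSpec.TorusNorm
import Cfsg.Agent.Lib.KnownA.GL2Classes

set_option autoImplicit false
open Cfsg

namespace Cfsg.Agent.S2430

/-- Let F be a finite field with q elements, q odd, ℓ an odd prime, and P a Sylow ℓ-subgroup of SL₂ over F. If ℓ divides q − 1, the centraliser of P is cyclic of order q − 1 (a split torus) and the normaliser of P has order 2(q − 1); if ℓ divides q + 1, the centraliser of P is cyclic of order q + 1 (a non-split torus) and the normaliser of P has order 2(q + 1). -/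
theorem result {F : Type*} [Field F] [Fintype F] (hodd : Odd (Fintype.card F)) (ℓ : ℕ) [Fact ℓ.Prime] (hℓ : ℓ ≠ 2)
    (P : Sylow ℓ (Matrix.SpecialLinearGroup (Fin 2) F)) :
    (ℓ ∣ Fintype.card F - 1 →
      Nat.card (Subgroup.centralizer ((P : Subgroup (Matrix.SpecialLinearGroup (Fin 2) F)) : Set (Matrix.SpecialLinearGroup (Fin 2) F))) = Fintype.card F - 1 ∧
      IsCyclic (Subgroup.centralizer ((P : Subgroup (Matrix.SpecialLinearGroup (Fin 2) F)) : Set (Matrix.SpecialLinearGroup (Fin 2) F))) ∧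
      Nat.card (Subgroup.normalizer ((P : Subgroup (Matrix.SpecialLinearGroup (Fin 2) F)) : Set (Matrix.SpecialLinearGroup (Fin 2) F))) = 2 * (Fintype.card F - 1)) ∧
    (ℓ ∣ Fintype.card F + 1 →
      Nat.card (Subgroup.centralizer ((P : Subgroup (Matrix.SpecialLinearGroup (Fin 2) F)) : Set (Matrix.SpecialLinearGroup (Fin 2) F))) = Fintype.card F + 1 ∧
      IsCyclic (Subgroup.centralizer ((P : Subgroup (Matrix.SpecialLinearGroup (Fin 2) F)) : Set (Matrix.SpecialLinearGroup (Fin 2) F))) ∧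
      Nat.card (Subgroup.normalizer ((P : Subgroup (Matrix.SpecialLinearGroup (Fin 2) F)) : Set (Matrix.SpecialLinearGroup (Fin 2) F))) = 2 * (Fintype.card F + 1)) := by
  classical
  have h20 : (2 : F) ≠ 0 := Cfsg.Agent.Lib.KnownA.two_ne_zero_of_odd hodd
  have hℓp : ℓ.Prime := Fact.out
  have hq2 : 2 ≤ Fintype.card F := Fintype.one_lt_card
  have main : ∀ m : ℕ, (m = Fintype.card F - 1 ∨ m = Fintype.card F + 1) → ℓ ∣ m →
      Nat.card (Subgroup.centralizer ((P : Subgroup (Matrix.SpecialLinearGroup (Fin 2) F)) : Set (Matrix.SpecialLinearGroup (Fin 2) F))) = m ∧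
      IsCyclic (Subgroup.centralizer ((P : Subgroup (Matrix.SpecialLinearGroup (Fin 2) F)) : Set (Matrix.SpecialLinearGroup (Fin 2) F))) ∧
      Nat.card (Subgroup.normalizer ((P : Subgroup (Matrix.SpecialLinearGroup (Fin 2) F)) : Set (Matrix.SpecialLinearGroup (Fin 2) F))) = 2 * m := by
    intro m hm hlm
    have hnot : ∀ k, ℓ ∣ k → k = 1 ∨ k = 2 → False := fun k hk h => by
      rcases h with rfl | rfl
      · exact hℓp.not_dvd_one hk
      · exact hℓ ((Nat.prime_dvd_prime_iff_eq hℓp Nat.prime_two).mp hk)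
    have hlG : ℓ ∣ Nat.card (Matrix.SpecialLinearGroup (Fin 2) F) := by
      rw [Lib.KnownA.card_SL2]
      refine (hlm.trans ?_).mul_left _
      rw [← one_pow 2, Nat.sq_sub_sq]
      rcases hm with rfl | rfl
      exacts [dvd_mul_left _ _, dvd_mul_right _ _]
    have hP1 : 1 < Nat.card (P : Subgroup (Matrix.SpecialLinearGroup (Fin 2) F)) :=
      lt_of_lt_of_le hℓp.one_lt (Nat.le_of_dvd Nat.card_pos (P.dvd_card_of_dvd_card hlG))
    haveI : Nontrivial (P : Subgroup (Matrix.SpecialLinearGroup (Fin 2) F)) :=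
      Finite.one_lt_card_iff_nontrivial.mp hP1
    haveI := P.2.center_nontrivial
    obtain ⟨⟨⟨x, hxP⟩, hxc⟩, hx1⟩ := exists_ne (1 : Subgroup.center (P : Subgroup (Matrix.SpecialLinearGroup (Fin 2) F)))
    have hxZ : x ∉ Subgroup.center (Matrix.SpecialLinearGroup (Fin 2) F) := fun hz => by
      obtain ⟨j, hj⟩ := P.2 ⟨x, hxP⟩
      have hj' : x ^ ℓ ^ j = 1 := congrArg Subtype.val hj
      rcases Lib.SL2Trace.mem_center_iff.mp hz with e | e
      · exact hx1 (Subtype.ext (Subtype.ext e))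
      · have hodd' : Odd (ℓ ^ j) := (hℓp.odd_of_ne_two hℓ).pow
        have e1 : ((x ^ ℓ ^ j : Matrix.SpecialLinearGroup (Fin 2) F) : Matrix (Fin 2) (Fin 2) F) = 1 := by rw [hj']; rfl
        rw [Matrix.SpecialLinearGroup.coe_pow, e, Matrix.SpecialLinearGroup.coe_neg,
          Matrix.SpecialLinearGroup.coe_one, hodd'.neg_one_pow] at e1
        have := congrFun (congrFun e1 0) 0
        simp at this
        exact h20 (by linear_combination -this)
    have hPle : (P : Subgroup (Matrix.SpecialLinearGroup (Fin 2) F)) ≤ Lib.Geometry.Dickson.cell ⊤ x := fun g hg =>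
      Lib.PSLSpec.mem_cell_iff.mpr (congrArg Subtype.val (Subgroup.mem_center_iff.mp hxc ⟨g, hg⟩))
    have hdc : ℓ ∣ Nat.card (Lib.Geometry.Dickson.cell ⊤ x) :=
      (P.dvd_card_of_dvd_card hlG).trans (Subgroup.card_dvd_of_le hPle)
    have hndq : ¬ ℓ ∣ Fintype.card F := fun h => by
      rcases hm with rfl | rfl
      · exact hnot _ (Nat.dvd_sub h hlm) (Or.inl (by omega))
      · exact hnot _ (Nat.dvd_sub hlm h) (Or.inl (by omega))
    have ht : Lib.SL2Trace.tr x ^ 2 ≠ 4 := fun h => by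
      rw [Lib.PSLSpec.card_cell_unipotent hxZ h, Lib.PSLSpec.card_sqrt_one_odd h20] at hdc
      rcases hℓp.dvd_mul.mp hdc with h' | h'
      · exact hnot _ h' (Or.inr rfl)
      · exact hndq h'
    have hc : Nat.card (Lib.Geometry.Dickson.cell ⊤ x) = m := by
      rcases Lib.PSLSpec.card_cell_regular ht with ⟨-, hc⟩ | ⟨-, hc⟩ <;> rcases hm with rfl | rfl
      · exact hc
      · exfalso; rw [hc] at hdc; exact hnot _ (Nat.dvd_sub hlm hdc) (Or.inr (by omega))
      · exfalso; rw [hc] at hdc; exact hnot _ (Nat.dvd_sub hdc hlm) (Or.inr (by omega))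
      · exact hc
    rw [Lib.PSLSpec.centralizer_of_le_cell hxZ hPle hxP hxZ, Lib.PSLSpec.normalizer_of_le_cell hxZ ht hPle hxP hxZ,
      Lib.PSLSpec.card_cellNorm hxZ ht]
    exact ⟨hc, Lib.Geometry.Dickson.torus_isCyclic ⊤ hxZ ht, by rw [hc]⟩
  exact ⟨main _ (Or.inl rfl), main _ (Or.inr rfl)⟩

end Cfsg.Agent.S2430
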