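import Cfsg.Statements.S2433
import Cfsg.Agent.Lib.KnownA.CharAux
import Cfsg.Agent.Lib.KnownA.GL2Count
import Cfsg.Agent.Lib.KnownA.GL2Ind

set_option autoImplicit false
open Cfsg

namespace Cfsg.Agent.S2433

open Cfsg.Agent.Lib.KnownA Cfsg.Agent.Lib.Characters

section
variable {F : Type*} [Field F]

private abbrev bor (F : Type*) [Field F] : Subgroup (Matrix.SpecialLinearGroup (Fin 2) F) :=
  (Cfsg.upperTriangularGL 2 F).comap Matrix.SpecialLinearGroup.toGL

private theorem mem_bor (k : Matrix.SpecialLinearGroup (Fin 2) F) :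
    k ∈ bor F ↔ (k : Matrix (Fin 2) (Fin 2) F) 1 0 = 0 := by
  rw [Subgroup.mem_comap, mem_upper_iff]
  rfl

private def rep : Option F → Matrix.SpecialLinearGroup (Fin 2) F
  | none => 1
  | some x => ⟨!![x, -1; 1, 0], by simp [Matrix.det_fin_two]⟩

private theorem inv_rep (x : F) :
    (((rep (some x))⁻¹ : Matrix.SpecialLinearGroup (Fin 2) F) : Matrix (Fin 2) (Fin 2) F) = !![0, 1; -1, x] := by
  rw [Matrix.SpecialLinearGroup.coe_inv]
  simp [rep, Matrix.adjugate_fin_two]

private theorem rep_bijective :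
    Function.Bijective (fun o : Option F => (rep o : Matrix.SpecialLinearGroup (Fin 2) F ⧸ bor F)) := by
  constructor
  · rintro (_ | x) (_ | y) h <;> simp only [QuotientGroup.eq, mem_bor] at h
    · rfl
    · exfalso
      have h' : (!![y, -1; 1, 0] : Matrix (Fin 2) (Fin 2) F) 1 0 = 0 := by
        rw [← h, Matrix.SpecialLinearGroup.coe_mul]
        simp only [rep, inv_one, Matrix.SpecialLinearGroup.coe_one, one_mul]
        try rfl
      simp at h'
    · exfalso
      rw [Matrix.SpecialLinearGroup.coe_mul, inv_rep] at h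
      simp [rep] at h
    · rw [Matrix.SpecialLinearGroup.coe_mul, inv_rep] at h
      simp [rep, Matrix.mul_apply, Fin.sum_univ_two] at h
      rw [show y = x by linear_combination -h]
  · intro C
    induction C using QuotientGroup.induction_on with
    | _ k =>
      by_cases h : (k : Matrix (Fin 2) (Fin 2) F) 1 0 = 0
      · exact ⟨none, QuotientGroup.eq.mpr ((mem_bor _).mpr (by simpa [rep] using h))⟩
      · refine ⟨some ((k : Matrix (Fin 2) (Fin 2) F) 0 0 / (k : Matrix (Fin 2) (Fin 2) F) 1 0),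
          QuotientGroup.eq.mpr ?_⟩
        rw [mem_bor, Matrix.SpecialLinearGroup.coe_mul, inv_rep]
        simp [Matrix.mul_apply, Fin.sum_univ_two]
        field_simp
        ring

private theorem conj_entries (g : Matrix.SpecialLinearGroup (Fin 2) F) (x : F) :
    (((rep (some x))⁻¹ * g * rep (some x) : Matrix.SpecialLinearGroup (Fin 2) F) : Matrix (Fin 2) (Fin 2) F) 1 0 =
        qv (g : Matrix (Fin 2) (Fin 2) F) x 1 ∧
    (((rep (some x))⁻¹ * g * rep (some x) : Matrix.SpecialLinearGroup (Fin 2) F) : Matrix (Fin 2) (Fin 2) F) 0 0 =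
        (g : Matrix (Fin 2) (Fin 2) F) 1 1 + x * (g : Matrix (Fin 2) (Fin 2) F) 1 0 := by
  simp only [Matrix.SpecialLinearGroup.coe_mul, inv_rep]
  refine ⟨?_, ?_⟩ <;> simp [rep, Matrix.mul_apply, Matrix.vecMul, dotProduct, Fin.sum_univ_two, qv] <;> ring

variable [Fintype F] [DecidableEq F]

private theorem ind_apply (α : MulChar F ℂ) (g : Matrix.SpecialLinearGroup (Fin 2) F) :
    Cfsg.indFun (bor F) (fun b => α (((b : Matrix.SpecialLinearGroup (Fin 2) F) : Matrix (Fin 2) (Fin 2) F) 0 0)) g =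
      (if (g : Matrix (Fin 2) (Fin 2) F) 1 0 = 0 then α ((g : Matrix (Fin 2) (Fin 2) F) 0 0) else 0) +
      ∑ x : F, if qv (g : Matrix (Fin 2) (Fin 2) F) x 1 = 0 then
        α ((g : Matrix (Fin 2) (Fin 2) F) 1 1 + x * (g : Matrix (Fin 2) (Fin 2) F) 1 0) else 0 := by
  classical
  set θ : bor F → ℂ := fun b => α (((b : Matrix.SpecialLinearGroup (Fin 2) F) : Matrix (Fin 2) (Fin 2) F) 0 0) with hθ
  have hmul : ∀ a b : bor F, θ (a * b) = θ a * θ b := fun a b => by
    simp only [hθ, Subgroup.coe_mul, Matrix.SpecialLinearGroup.coe_mul, Matrix.mul_apply, Fin.sum_univ_two,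
      (mem_bor _).mp b.2, mul_zero, add_zero, map_mul]
  have hcl : Cfsg.IsClassFunction (bor F) θ := fun k h => by
    rw [hmul, hmul, mul_comm (θ h), mul_assoc, ← hmul, mul_inv_cancel]
    simp [hθ]
  have hval : ∀ k : Matrix.SpecialLinearGroup (Fin 2) F, extendByZero (bor F) θ k =
      if (k : Matrix (Fin 2) (Fin 2) F) 1 0 = 0 then α ((k : Matrix (Fin 2) (Fin 2) F) 0 0) else 0 := by
    intro k
    split_ifs with h
    · exact extendByZero_of_mem _ _ ((mem_bor k).mpr h)
    · exact extendByZero_of_not_mem _ _ (fun hk => h ((mem_bor k).mp hk))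
  rw [indFun_eq_sum_transversal _ _ hcl rep rep_bijective, Fintype.sum_option]
  simp only [hval]
  congr 1
  · simp [rep]
  · refine Finset.sum_congr rfl fun x _ => ?_
    obtain ⟨h1, h2⟩ := conj_entries g x
    simp only [h1, h2]

end


/-- Let F be a finite field with q elements, q odd, α a multiplicative character of F, and R(α) the function on SL₂ induced from the linear character b ↦ α(b₁₁) of the upper triangular subgroup. Then R(α) takes the value α(a) + α(a⁻¹) at a diagonal element with entries a, a⁻¹, a² ≠ 1; the value 0 at every element with no eigenvector in F²; the value α(ε) at an upper triangular element with both diagonal entries ε and non-zero upper right entry; and the value (q + 1)α(ε) at the scalar element ε (ε = ±1). -/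
theorem result {F : Type*} [Field F] [Fintype F] [DecidableEq F] (hodd : Odd (Fintype.card F)) (α : MulChar F ℂ) (g : Matrix.SpecialLinearGroup (Fin 2) F) :
    ((g : Matrix (Fin 2) (Fin 2) F) 0 1 = 0 → (g : Matrix (Fin 2) (Fin 2) F) 1 0 = 0 → (g : Matrix (Fin 2) (Fin 2) F) 0 0 ^ 2 ≠ 1 →
      (Cfsg.indFun ((Cfsg.upperTriangularGL 2 F).comap Matrix.SpecialLinearGroup.toGL) (fun b => α (((b : Matrix.SpecialLinearGroup (Fin 2) F) : Matrix (Fin 2) (Fin 2) F) 0 0))) g = α ((g : Matrix (Fin 2) (Fin 2) F) 0 0) + α ((g : Matrix (Fin 2) (Fin 2) F) 1 1)) ∧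
    ((∀ (c : F) (v : Fin 2 → F), v ≠ 0 → (g : Matrix (Fin 2) (Fin 2) F).mulVec v ≠ c • v) → (Cfsg.indFun ((Cfsg.upperTriangularGL 2 F).comap Matrix.SpecialLinearGroup.toGL) (fun b => α (((b : Matrix.SpecialLinearGroup (Fin 2) F) : Matrix (Fin 2) (Fin 2) F) 0 0))) g = 0) ∧
    ((g : Matrix (Fin 2) (Fin 2) F) 1 0 = 0 → (g : Matrix (Fin 2) (Fin 2) F) 0 0 = (g : Matrix (Fin 2) (Fin 2) F) 1 1 → (g : Matrix (Fin 2) (Fin 2) F) 0 1 ≠ 0 →
      (Cfsg.indFun ((Cfsg.upperTriangularGL 2 F).comap Matrix.SpecialLinearGroup.toGL) (fun b => α (((b : Matrix.SpecialLinearGroup (Fin 2) F) : Matrix (Fin 2) (Fin 2) F) 0 0))) g = α ((g : Matrix (Fin 2) (Fin 2) F) 0 0)) ∧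
    ((g : Matrix (Fin 2) (Fin 2) F) 0 1 = 0 → (g : Matrix (Fin 2) (Fin 2) F) 1 0 = 0 → (g : Matrix (Fin 2) (Fin 2) F) 0 0 = (g : Matrix (Fin 2) (Fin 2) F) 1 1 →
      (Cfsg.indFun ((Cfsg.upperTriangularGL 2 F).comap Matrix.SpecialLinearGroup.toGL) (fun b => α (((b : Matrix.SpecialLinearGroup (Fin 2) F) : Matrix (Fin 2) (Fin 2) F) 0 0))) g = ((Fintype.card F : ℂ) + 1) * α ((g : Matrix (Fin 2) (Fin 2) F) 0 0)) := by
  have hq := ind_apply α g
  unfold bor at hq
  simp only [hq, qv, mul_one]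
  have hdet : (g : Matrix (Fin 2) (Fin 2) F) 0 0 * (g : Matrix (Fin 2) (Fin 2) F) 1 1 -
      (g : Matrix (Fin 2) (Fin 2) F) 0 1 * (g : Matrix (Fin 2) (Fin 2) F) 1 0 = 1 := by
    rw [← Matrix.det_fin_two]; exact g.2
  set M := (g : Matrix (Fin 2) (Fin 2) F) with hM
  refine ⟨fun h01 h10 h00 => ?_, fun h => ?_, fun h10 he h01 => ?_, fun h01 h10 he => ?_⟩
  · have hne : M 1 1 - M 0 0 ≠ 0 := by
      intro h
      rw [sub_eq_zero] at h
      rw [h01, h, zero_mul, sub_zero] at hdet
      exact h00 (by rw [sq]; exact hdet)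
    rw [if_pos h10, h10, h01]
    simp [hne]
  · have h10 : M 1 0 ≠ 0 := fun h10 => by
      refine h (M 0 0) ![1, 0] (fun e => one_ne_zero (congrFun e 0)) ?_
      ext i; fin_cases i <;> simp [Matrix.mulVec, dotProduct, Fin.sum_univ_two, h10]
    rw [if_neg h10, zero_add]
    refine Finset.sum_eq_zero fun x _ => if_neg fun hx => ?_
    refine h (M 1 1 + x * M 1 0) ![x, 1] (fun e => one_ne_zero (congrFun e 1)) ?_
    ext i; fin_cases i <;> simp [Matrix.mulVec, dotProduct, Fin.sum_univ_two]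
    · linear_combination -hx
    · ring
  · rw [if_pos h10, h10, he]
    simp [h01]
  · rw [if_pos h10, h10, h01, he]
    simp
    ring

end Cfsg.Agent.S2433
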