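import Cfsg.Statements.S2434
import Cfsg.Agent.Lib.OddChar.SL2.Degrees

set_option autoImplicit false
open Cfsg

namespace Cfsg.Agent.S2434

open Cfsg.Agent.Lib.OddChar.SL2 Cfsg.Agent.Lib.KnownA Cfsg.Agent.Lib.Characters

/-- Let F be a finite field with q elements, q odd, and C a cyclic subgroup of order q + 1 of SL₂ over F (a non-split torus; it contains the centre). For every homomorphism θ from C to the non-zero complex numbers with θ² ≠ 1 there is an irreducible complex character χ of degree q − 1 such that χ(c) = −θ(c) − θ(c)⁻¹ for every non-central c in C, χ(zg) = θ(z)χ(g) for central z in C, χ vanishes at diagonal elements with entry a, a² ≠ 1, and χ takes the value −1 at every upper unitriangular element other than 1. Conversely every irreducible character of degree q − 1 has, for some such θ, the values −θ(c) − θ(c)⁻¹ at the non-central elements c of C (for q ≥ 5 these are exactly the cuspidal characters of degree q − 1). -/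
theorem result {F : Type*} [Field F] [Fintype F] (hodd : Odd (Fintype.card F))
    (C : Subgroup (Matrix.SpecialLinearGroup (Fin 2) F)) (hC : IsCyclic C) (hcard : Nat.card C = Fintype.card F + 1) :
    (∀ θ : C →* ℂˣ, (∃ c : C, θ c ^ 2 ≠ 1) →
      ∃ χ : Matrix.SpecialLinearGroup (Fin 2) F → ℂ, Cfsg.IsIrrCharacter (Matrix.SpecialLinearGroup (Fin 2) F) χ ∧ χ 1 = (Fintype.card F : ℂ) - 1 ∧
        (∀ c : C, (c : Matrix.SpecialLinearGroup (Fin 2) F) ∉ Subgroup.center (Matrix.SpecialLinearGroup (Fin 2) F) → χ c = -((θ c).val + (θ c)⁻¹.val)) ∧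
        (∀ c : C, (c : Matrix.SpecialLinearGroup (Fin 2) F) ∈ Subgroup.center (Matrix.SpecialLinearGroup (Fin 2) F) → ∀ g : Matrix.SpecialLinearGroup (Fin 2) F, χ ((c : Matrix.SpecialLinearGroup (Fin 2) F) * g) = (θ c).val * χ g) ∧
        (∀ g : Matrix.SpecialLinearGroup (Fin 2) F, (g : Matrix (Fin 2) (Fin 2) F) 0 1 = 0 → (g : Matrix (Fin 2) (Fin 2) F) 1 0 = 0 → (g : Matrix (Fin 2) (Fin 2) F) 0 0 ^ 2 ≠ 1 → χ g = 0) ∧
        (∀ g : Matrix.SpecialLinearGroup (Fin 2) F, (g : Matrix (Fin 2) (Fin 2) F) 1 0 = 0 → (g : Matrix (Fin 2) (Fin 2) F) 0 0 = 1 → (g : Matrix (Fin 2) (Fin 2) F) 1 1 = 1 → (g : Matrix (Fin 2) (Fin 2) F) 0 1 ≠ 0 → χ g = -1)) ∧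
    (∀ χ : Matrix.SpecialLinearGroup (Fin 2) F → ℂ, Cfsg.IsIrrCharacter (Matrix.SpecialLinearGroup (Fin 2) F) χ → χ 1 = (Fintype.card F : ℂ) - 1 →
      ∃ θ : C →* ℂˣ, (∃ c : C, θ c ^ 2 ≠ 1) ∧
        ∀ c : C, (c : Matrix.SpecialLinearGroup (Fin 2) F) ∉ Subgroup.center (Matrix.SpecialLinearGroup (Fin 2) F) → χ c = -((θ c).val + (θ c)⁻¹.val)) := by
  classical
  have H : IsTorus C := ⟨hodd, hC, hcard⟩
  have hmod := Nat.odd_iff.mp hodd
  have h3 := H.three_le
  refine ⟨fun θ hθ => ?_, fun χ hχ hd => ?_⟩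
  · have hθ' : ¬ ∀ t : C, θ t ^ 2 = 1 := fun h => hθ.elim fun c hc => hc (h c)
    obtain ⟨α, hα⟩ := exists_mulChar_parity hodd (eps_sq H θ)
    have hirr := isIrr_phi H θ hα hθ'
    refine ⟨phi C α θ, hirr, phi_one H α θ, fun c hc => ?_, fun c hc g => ?_, fun g h01 h10 ha => ?_,
      fun g h10 h00 h11 h01 => ?_⟩
    · rw [phi_regular H α θ c hc, map_inv]
    · obtain ⟨w, hw⟩ := apply_central_mul hirr (fun x => (Subgroup.mem_center_iff.mp hc x).symm)
      have h1 := hw 1
      rw [mul_one, phi_one H] at h1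
      have hval : phi C α θ (c : Matrix.SpecialLinearGroup (Fin 2) F) = ((θ c : ℂˣ) : ℂ) * ((Fintype.card F : ℂ) - 1) := by
        rcases mem_center_iff'.mp hc with e | e
        · have : c = 1 := Subtype.ext e
          subst this
          simp [phi_one H]
        · have : c = ⟨negOne F, H.negOne_mem⟩ := Subtype.ext e
          subst this
          rw [phi_negOne H θ hα, mul_comm]
          rfl
      have hq1 : (Fintype.card F : ℂ) - 1 ≠ 0 := by rw [sub_ne_zero, Nat.cast_ne_one]; omega
      rw [hw g, show w = ((θ c : ℂˣ) : ℂ) from mul_right_cancel₀ hq1 (h1.symm.trans hval)]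
    · have hdet := g.det_coe
      rw [Matrix.det_fin_two, h01, zero_mul, sub_zero] at hdet
      let a : Fˣ := Units.mk0 _ (left_ne_zero_of_mul_eq_one hdet)
      have hga : g = bSL a 0 := by
        apply Subtype.ext
        change (g : Matrix (Fin 2) (Fin 2) F) = (bSL a 0 : Matrix (Fin 2) (Fin 2) F)
        rw [bSL_coe]
        have := eq_inv_of_mul_eq_one_right hdet
        ext i j
        fin_cases i <;> fin_cases j <;> simp [a, h01, h10, this]
      have hne : a ≠ a⁻¹ := fun e => ha (by
        have e2 : a * a = 1 := by nth_rewrite 2 [e]; exact mul_inv_cancel a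
        have := congrArg Units.val e2
        rw [sq]; simpa [a] using this)
      rw [hga, phi_bSL H α θ (Or.inl hne), if_neg hne]
    · have hga : g = bSL 1 ((g : Matrix (Fin 2) (Fin 2) F) 0 1) := by
        apply Subtype.ext
        change (g : Matrix (Fin 2) (Fin 2) F) = ((bSL 1 _ : Matrix.SpecialLinearGroup (Fin 2) F) : Matrix (Fin 2) (Fin 2) F)
        rw [bSL_coe]
        ext i j
        fin_cases i <;> fin_cases j <;> simp [h10, h00, h11]
      rw [hga, phi_bSL H α θ (Or.inr h01), if_pos (by simp), Units.val_one, map_one]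
  · by_cases h5 : 5 ≤ Fintype.card F
    · obtain ⟨θ, α, -, hθ, e⟩ := exists_phi_eq H h5 hχ hd
      refine ⟨θ, not_forall.mp hθ, fun c hc => ?_⟩
      rw [← e, phi_regular H α θ c hc, map_inv]
    · have hq3 : Fintype.card F = 3 := by omega
      obtain ⟨c₀, hc₀, -⟩ := H.exists_generator
      have hz : IsPrimitiveRoot Complex.I 4 := by
        refine IsPrimitiveRoot.iff (by norm_num) |>.mpr ⟨Complex.I_pow_four, fun l hl hl4 => ?_⟩
        interval_cases l <;> simp [pow_succ, Complex.ext_iff] <;> norm_num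
      obtain ⟨θ, hθ⟩ := H.exists_hom_generator c₀ hc₀ (Units.mk0 Complex.I Complex.I_ne_zero)
        (Units.ext (by rw [hq3, Units.val_pow_eq_pow_val]; exact Complex.I_pow_four))
      refine ⟨θ, ⟨c₀, fun h => ?_⟩, fun c hc => ?_⟩
      · have h2 := congrArg Units.val h
        rw [hθ, Units.val_pow_eq_pow_val, Units.val_mk0, Complex.I_sq, Units.val_one] at h2
        norm_num at h2
      have hd2 : χ 1 = ((2 : ℕ) : ℂ) := by rw [hd, hq3]; norm_num
      have hne := H.noEigen c.2 hc
      have hχ0 : χ c = 0 := by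
        by_cases hcu : CuspSL χ
        · exact cusp_noEigen_three hodd hq3 hχ hcu hd2 hne
        · obtain ⟨ν₀, hν₀⟩ := FiniteField.exists_nonsquare (ringChar_ne_two hodd)
          exact (half_sum hodd (Units.mk0 ν₀ (fun h => hν₀ (h ▸ IsSquare.zero))) hν₀ hχ hcu
            (by rw [hd2, hq3])).2 _ hne
      obtain ⟨n, rfl⟩ := (mem_powers_iff_mem_zpowers.mpr (hc₀ c) : c ∈ Submonoid.powers c₀)
      dsimp only at hc hχ0 ⊢
      have hev : Odd n := by
        rcases Nat.even_or_odd n with ⟨k, hk⟩ | ho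
        · exfalso
          apply hc
          have ho : orderOf c₀ = 4 := by rw [orderOf_eq_card_of_forall_mem_zpowers hc₀, H.card, hq3]
          obtain ⟨j, hj⟩ := (mem_powers_iff_mem_zpowers.mpr (hc₀ ⟨negOne F, H.negOne_mem⟩) :
            (⟨negOne F, H.negOne_mem⟩ : C) ∈ Submonoid.powers c₀)
          dsimp only at hj
          have hj2 : 4 ∣ j * 2 := by
            rw [← ho, orderOf_dvd_iff_pow_eq_one, pow_mul, hj, sq]
            exact Subtype.ext negOne_sq
          have hj0 : ¬ 4 ∣ j := fun h => by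
            rw [← ho, orderOf_dvd_iff_pow_eq_one, hj] at h
            exact negOne_ne_one H.two_ne (congrArg Subtype.val h)
          have hsq2 : ((c₀ ^ 2 : C) : Matrix.SpecialLinearGroup (Fin 2) F) ∈
              Subgroup.center (Matrix.SpecialLinearGroup (Fin 2) F) := by
            have e : c₀ ^ 2 = c₀ ^ j := by rw [← pow_mod_orderOf c₀ j, ho, show j % 4 = 2 by omega]
            rw [e, hj]
            exact mem_center_iff'.mpr (Or.inr rfl)
          rw [hk, ← two_mul, pow_mul]
          exact pow_mem hsq2 k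
        · exact ho
      rw [hχ0, map_pow, hθ, Units.val_pow_eq_pow_val, Units.val_inv_eq_inv_val, Units.val_pow_eq_pow_val,
        Units.val_mk0]
      obtain ⟨k, rfl⟩ := hev
      rw [pow_succ, pow_mul, Complex.I_sq, mul_inv, Complex.inv_I, ← inv_pow, inv_neg, inv_one]
      ring

end Cfsg.Agent.S2434
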