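import Cfsg.Statements.S2435
import Cfsg.Agent.Lib.OddChar.SL2.Degrees

set_option autoImplicit false
open Cfsg

namespace Cfsg.Agent.S2435

open Cfsg.Agent.Lib.OddChar.SL2 Cfsg.Agent.Lib.KnownA Cfsg.Agent.Lib.Characters

/-- Let F be a finite field with q elements, q odd and q ≥ 5, and χ an irreducible complex character of SL₂ over F. If χ has degree (q + 1)/2, then at a diagonal element with entry a, a² ≠ 1, χ takes the value 1 when a is a square in F and −1 otherwise. If χ has degree (q − 1)/2, then at an element g with no eigenvector in F² (so g has order dividing q + 1), χ takes the value −1 when g raised to the power (q + 1)/2 is the identity and the value 1 otherwise. -/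
theorem result {F : Type*} [Field F] [Fintype F] (hodd : Odd (Fintype.card F)) (hq : 5 ≤ Fintype.card F)
    (χ : Matrix.SpecialLinearGroup (Fin 2) F → ℂ) (hχ : Cfsg.IsIrrCharacter (Matrix.SpecialLinearGroup (Fin 2) F) χ) (g : Matrix.SpecialLinearGroup (Fin 2) F) :
    (χ 1 = (((Fintype.card F + 1) / 2 : ℕ) : ℂ) → (g : Matrix (Fin 2) (Fin 2) F) 0 1 = 0 → (g : Matrix (Fin 2) (Fin 2) F) 1 0 = 0 → (g : Matrix (Fin 2) (Fin 2) F) 0 0 ^ 2 ≠ 1 →
      (IsSquare ((g : Matrix (Fin 2) (Fin 2) F) 0 0) → χ g = 1) ∧ (¬ IsSquare ((g : Matrix (Fin 2) (Fin 2) F) 0 0) → χ g = -1)) ∧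
    (χ 1 = (((Fintype.card F - 1) / 2 : ℕ) : ℂ) → (∀ (c : F) (v : Fin 2 → F), v ≠ 0 → (g : Matrix (Fin 2) (Fin 2) F).mulVec v ≠ c • v) →
      (((g ^ ((Fintype.card F + 1) / 2)) : Matrix (Fin 2) (Fin 2) F) = 1 → χ g = -1) ∧ (((g ^ ((Fintype.card F + 1) / 2)) : Matrix (Fin 2) (Fin 2) F) ≠ 1 → χ g = 1)) := by
  classical
  have hmod := Nat.odd_iff.mp hodd
  refine ⟨fun hd h01 h10 ha => ?_, fun hd hg => ?_⟩
  · have hnc : ¬ CuspSL χ := fun hc => by
      rcases kinds_all hχ with ⟨h, -⟩ | ⟨-, ⟨-, e⟩ | e⟩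
      · exact h hc
      · rw [hd, Nat.cast_inj] at e; omega
      · rw [hd, Nat.cast_inj] at e; omega
    obtain ⟨η, hη, hη1, hsum⟩ := half_csum hodd hχ hnc hd
    have hdet := g.det_coe
    rw [Matrix.det_fin_two, h01, zero_mul, sub_zero] at hdet
    let a : Fˣ := Units.mk0 _ (left_ne_zero_of_mul_eq_one hdet)
    have hga : g = bSL a 0 := by
      apply Subtype.ext
      change (g : Matrix (Fin 2) (Fin 2) F) = (bSL a 0 : Matrix (Fin 2) (Fin 2) F)
      rw [bSL_coe]
      have := eq_inv_of_mul_eq_one_right hdet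
      ext i j
      fin_cases i <;> fin_cases j <;> simp [a, h01, h10, this]
    have hne : a ≠ a⁻¹ := fun e => ha (by
      have e2 : a * a = 1 := by nth_rewrite 2 [e]; exact mul_inv_cancel a
      have := congrArg Units.val e2
      rw [sq]; simpa [a] using this)
    have hcl := IsCharacter.isClassFunction (IsIrrCharacter.isCharacter hχ)
    have hv : χ g = η (a : F) := by
      have h := hsum a
      rw [csumSL, Finset.sum_congr rfl (fun c _ => IsClassFunction.eq_of_isConj hcl (isConj_bSL_inv a hne c)),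
        Finset.sum_const, Finset.card_univ, nsmul_eq_mul] at h
      rw [hga, IsClassFunction.eq_of_isConj hcl (isConj_bSL_inv a hne 0)]
      exact mul_left_cancel₀ card_F_ne_zero h
    have hsign : ∀ b : F, b ≠ 0 → η b = 1 ∨ η b = -1 := fun b hb => by
      refine mul_self_eq_one_iff.mp ?_
      rw [← MulChar.mul_apply, ← sq, hη, MulChar.one_apply hb.isUnit]
    refine ⟨fun hs => by rw [hv]; exact mulChar_sq_eq_one_isSquare hη a.ne_zero hs, fun hs => ?_⟩
    rw [hv]
    obtain ⟨b, hb⟩ : ∃ b : Fˣ, η (b : F) ≠ 1 := by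
      by_contra hcon
      push Not at hcon
      exact hη1 (MulChar.ext fun u => by rw [hcon u, MulChar.one_apply_coe])
    have hbns : ¬ IsSquare (b : F) := fun h => hb (mulChar_sq_eq_one_isSquare hη b.ne_zero h)
    have hab := mulChar_sq_eq_one_isSquare hη (mul_ne_zero a.ne_zero b.ne_zero)
      (isSquare_mul_or (ringChar_ne_two hodd) (hs : ¬ IsSquare (a : F)) hbns)
    rw [map_mul, (hsign _ b.ne_zero).resolve_left hb] at hab
    linear_combination -hab
  · obtain ⟨H, hgT, hgZ⟩ := isTorus_cell hodd hg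
    obtain ⟨θ, -, h0, hu, hθ⟩ := H.exists_quadratic
    have hv := half_cusp_value H hq hχ hd h0 hu ⟨g, hgT⟩ hgZ
    obtain ⟨hiff, hpm⟩ := hθ ⟨g, hgT⟩
    have hk : ((g : Matrix (Fin 2) (Fin 2) F) ^ ((Fintype.card F + 1) / 2) = 1) ↔ θ ⟨g, hgT⟩ = 1 := by
      rw [hiff]
      constructor
      · intro h
        apply Subtype.ext
        apply Subtype.ext
        simpa using h
      · intro h
        have := congrArg (fun x : Cfsg.Agent.Lib.Geometry.Dickson.cell ⊤ g => ((x : Matrix.SpecialLinearGroup (Fin 2) F) : Matrix (Fin 2) (Fin 2) F)) h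
        simpa using this
    change χ g = _ at hv
    refine ⟨fun h => ?_, fun h => ?_⟩
    · rw [hv, hk.mp (by simpa using h)]; simp
    · rw [hv, hpm.resolve_left (fun e => h (by simpa using hk.mpr e))]; simp

end Cfsg.Agent.S2435
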