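import Cfsg.Statements.S2438
import Cfsg.Agent.Lib.OddChar.SL2.Degrees

set_option autoImplicit false
open Cfsg

namespace Cfsg.Agent.S2438

open Cfsg.Agent.Lib.OddChar.SL2 Cfsg.Agent.Lib.KnownA Cfsg.Agent.Lib.Characters

/-- Let F be a finite field with q elements, q odd, q ≥ 5, U the upper unitriangular subgroup of SL₂ over F, and χ an irreducible complex character. The sum of the values of χ over U equals 2q, q, 0, q, 0 according as the degree of χ is q + 1, q, q − 1, (q + 1)/2, (q − 1)/2; so among these five degrees the sum vanishes exactly for the degrees q − 1 and (q − 1)/2, i.e. the irreducible characters of those two degrees are the ones whose restriction to U does not contain the trivial character (the cuspidal characters), while those of degree q + 1, q and (q + 1)/2 are not cuspidal. -/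
theorem result {F : Type*} [Field F] [Fintype F] [DecidableEq F] (hodd : Odd (Fintype.card F)) (hq : 5 ≤ Fintype.card F)
    (χ : Matrix.SpecialLinearGroup (Fin 2) F → ℂ) (hχ : Cfsg.IsIrrCharacter (Matrix.SpecialLinearGroup (Fin 2) F) χ) :
    (χ 1 = (Fintype.card F : ℂ) + 1 →
      (∑ g : Matrix.SpecialLinearGroup (Fin 2) F, if (g : Matrix (Fin 2) (Fin 2) F) 1 0 = 0 ∧ (g : Matrix (Fin 2) (Fin 2) F) 0 0 = 1 ∧ (g : Matrix (Fin 2) (Fin 2) F) 1 1 = 1 then χ g else 0) = 2 * (Fintype.card F : ℂ)) ∧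
    (χ 1 = (Fintype.card F : ℂ) →
      (∑ g : Matrix.SpecialLinearGroup (Fin 2) F, if (g : Matrix (Fin 2) (Fin 2) F) 1 0 = 0 ∧ (g : Matrix (Fin 2) (Fin 2) F) 0 0 = 1 ∧ (g : Matrix (Fin 2) (Fin 2) F) 1 1 = 1 then χ g else 0) = (Fintype.card F : ℂ)) ∧
    (χ 1 = (Fintype.card F : ℂ) - 1 →
      (∑ g : Matrix.SpecialLinearGroup (Fin 2) F, if (g : Matrix (Fin 2) (Fin 2) F) 1 0 = 0 ∧ (g : Matrix (Fin 2) (Fin 2) F) 0 0 = 1 ∧ (g : Matrix (Fin 2) (Fin 2) F) 1 1 = 1 then χ g else 0) = 0) ∧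
    (χ 1 = (((Fintype.card F + 1) / 2 : ℕ) : ℂ) →
      (∑ g : Matrix.SpecialLinearGroup (Fin 2) F, if (g : Matrix (Fin 2) (Fin 2) F) 1 0 = 0 ∧ (g : Matrix (Fin 2) (Fin 2) F) 0 0 = 1 ∧ (g : Matrix (Fin 2) (Fin 2) F) 1 1 = 1 then χ g else 0) = (Fintype.card F : ℂ)) ∧
    (χ 1 = (((Fintype.card F - 1) / 2 : ℕ) : ℂ) →
      (∑ g : Matrix.SpecialLinearGroup (Fin 2) F, if (g : Matrix (Fin 2) (Fin 2) F) 1 0 = 0 ∧ (g : Matrix (Fin 2) (Fin 2) F) 0 0 = 1 ∧ (g : Matrix (Fin 2) (Fin 2) F) 1 1 = 1 then χ g else 0) = 0) := by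
  have hmod := Nat.odd_iff.mp hodd
  rw [csum_eq_filter_sum χ]
  have e1 : (Fintype.card F : ℂ) + 1 = ((Fintype.card F + 1 : ℕ) : ℂ) := by push_cast; rfl
  have e2 : (Fintype.card F : ℂ) - 1 = ((Fintype.card F - 1 : ℕ) : ℂ) := by
    rw [Nat.cast_sub Fintype.card_pos, Nat.cast_one]
  refine ⟨fun hd => ?_, fun hd => ?_, fun hd => ?_, fun hd => ?_, fun hd => ?_⟩
  · rw [e1] at hd
    rcases kinds_all hχ with ⟨-, ⟨-, e⟩ | ⟨-, e⟩ | ⟨h, -⟩ | ⟨-, e⟩⟩ | ⟨-, ⟨-, e⟩ | e⟩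
    iterate 2 (rw [hd, Nat.cast_inj] at e; omega)
    · obtain ⟨α, -, rfl⟩ := mem_principalSL.mp h
      rw [csumSL_indSL]
      simp
      ring
    all_goals rw [hd, Nat.cast_inj] at e; omega
  · rcases kinds_all hχ with ⟨-, ⟨-, e⟩ | ⟨h, -⟩ | ⟨-, e⟩ | ⟨-, e⟩⟩ | ⟨-, ⟨-, e⟩ | e⟩
    · rw [hd, Nat.cast_inj] at e; omega
    · subst h
      have : csumSL (steinSL F) 1 = csumSL (indSL (1 : MulChar F ℂ)) 1 - csumSL (trivSL F) 1 := by
        simp [csumSL, steinSL, Finset.sum_sub_distrib]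
      rw [this, csumSL_indSL, csumSL_triv]
      simp
      ring
    all_goals rw [hd, Nat.cast_inj] at e; omega
  · rw [e2] at hd
    exact cusp_of_degree hodd hχ hd ⟨Or.inl rfl, hq⟩ 1
  · obtain ⟨η, -, -, h⟩ := half_csum hodd hχ (fun hc => by
      rcases kinds_all hχ with ⟨h, -⟩ | ⟨-, ⟨-, e⟩ | e⟩
      · exact h hc
      · rw [hd, Nat.cast_inj] at e; omega
      · rw [hd, Nat.cast_inj] at e; omega) hd
    rw [h]
    simp
  · exact cusp_of_degree hodd hχ hd ⟨Or.inr rfl, hq⟩ 1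

end Cfsg.Agent.S2438
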