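import Cfsg.Statements.S2441
import Cfsg.Agent.Lib.Blocks.ChevBlocks

set_option autoImplicit false
open Cfsg

namespace Cfsg.Agent.S2441

/-- For a prime p, the Chevalley groups of types G₂, F₄ and E₈ over the field with p elements (types for which the simply connected and adjoint groups coincide, so the group has trivial centre) each have exactly two p-blocks relative to any maximal ideal of the algebraic integers containing p (only the count is asserted; it arises as the defect-zero block of the Steinberg character plus a single block of maximal defect). -/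
theorem result (p : ℕ) [Fact p.Prime] (M : Ideal Cfsg.AlgInt) (hM : Cfsg.IsPModular p M) :
    Nat.card {B : Set (Cfsg.IrrCharacter (Cfsg.Lie.chevG2.group (ZMod p))) // Cfsg.IsPBlock M B} = 2 ∧
    Nat.card {B : Set (Cfsg.IrrCharacter (Cfsg.Lie.chevF4.group (ZMod p))) // Cfsg.IsPBlock M B} = 2 ∧
    Nat.card {B : Set (Cfsg.IrrCharacter (Cfsg.Lie.chevE8.group (ZMod p))) // Cfsg.IsPBlock M B} = 2 := by
  classical
  haveI : Fintype ↥(Cfsg.Lie.chevG2.group (ZMod p)) := Fintype.ofFinite _
  haveI : Fintype ↥(Cfsg.Lie.chevF4.group (ZMod p)) := Fintype.ofFinite _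
  haveI : Fintype ↥(Cfsg.Lie.chevE8.group (ZMod p)) := Fintype.ofFinite _
  exact ⟨Agent.Lib.Chev.goodG2.card_blocks_eq_two Agent.Lib.Chev.parG2 Agent.Lib.Chev.linkG2
      Agent.Lib.Chev.climbG2 Agent.Lib.Chev.exists_topG2 (by decide) p hM,
    Agent.Lib.Chev.goodF4.card_blocks_eq_two Agent.Lib.Chev.parF4 Agent.Lib.Chev.linkF4
      Agent.Lib.Chev.climbF4 Agent.Lib.Chev.exists_topF4 (by decide) p hM,
    Agent.Lib.Chev.goodE8.card_blocks_eq_two Agent.Lib.Chev.parE8 Agent.Lib.Chev.linkE8
      Agent.Lib.Chev.climbE8 Agent.Lib.Chev.exists_topE8 (by decide) p hM⟩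

end Cfsg.Agent.S2441
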