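import Cfsg.Statements.S2444
import Cfsg.Agent.Lib.ThompsonComm.Main

set_option autoImplicit false
open Cfsg

namespace Cfsg.Agent.S2444


/-- In the special linear group SL(n,F) over a finite field F, with n ≥ 2 and (n, |F|) not (2,2) or (2,3), every element is a commutator a·b·a⁻¹·b⁻¹ of two elements of SL(n,F). -/
theorem result {F : Type*} [Field F] [Fintype F] (n : ℕ) (hn : 2 ≤ n) (hex : n = 2 → 4 ≤ Fintype.card F) :
    ∀ g : Matrix.SpecialLinearGroup (Fin n) F, ∃ a b : Matrix.SpecialLinearGroup (Fin n) F, g = a * b * a⁻¹ * b⁻¹ := by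
  intro g
  obtain ⟨a, b, ha, hb, h⟩ := Cfsg.Agent.Lib.ThompsonComm.com_of_det_one hn hex g.1 g.2
  obtain ⟨A, hA⟩ : ∃ A : Matrix.SpecialLinearGroup (Fin n) F, A.1 = a := ⟨⟨a, ha⟩, rfl⟩
  obtain ⟨B, hB⟩ : ∃ B : Matrix.SpecialLinearGroup (Fin n) F, B.1 = b := ⟨⟨b, hb⟩, rfl⟩
  refine ⟨A, B, ?_⟩
  have h' : g * (B * A) = A * B := by
    apply Matrix.SpecialLinearGroup.ext
    intro i j
    subst hA hB
    exact congrFun (congrFun h i) j
  rw [eq_mul_inv_iff_mul_eq, eq_mul_inv_iff_mul_eq, mul_assoc]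
  exact h'

end Cfsg.Agent.S2444
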