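import Cfsg.Statements.S2450
import Cfsg.Agent.Lib.SL2Trace.Basic

set_option autoImplicit false
open Cfsg

namespace Cfsg.Agent.S2450

open Cfsg.Agent.Lib.SL2Trace

/-- An element with given entries. -/
def sl {F : Type*} [Field F] (a b c d : F) (h : a * d - b * c = 1) : Matrix.SpecialLinearGroup (Fin 2) F :=
  ⟨!![a, b; c, d], by rw [Matrix.det_fin_two]; simpa using h⟩

theorem coe_sl {F : Type*} [Field F] (a b c d : F) (h : a * d - b * c = 1) :
    ((sl a b c d h : Matrix.SpecialLinearGroup (Fin 2) F) : Matrix (Fin 2) (Fin 2) F) = !![a, b; c, d] := rfl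

/-- The Arad–Herzog conjecture for PSL(2,q): let F be a finite field with q ≥ 4 elements. For any two non-identity elements a, b of PSL(2,F), the set of products of a conjugate of a with a conjugate of b is not a single conjugacy class. -/
theorem result {F : Type*} [Field F] [Fintype F] (h4 : 4 ≤ Fintype.card F)
    (a b : Matrix.ProjectiveSpecialLinearGroup (Fin 2) F) (ha : a ≠ 1) (hb : b ≠ 1) (c : Matrix.ProjectiveSpecialLinearGroup (Fin 2) F) :
    {g : Matrix.ProjectiveSpecialLinearGroup (Fin 2) F | ∃ u v : Matrix.ProjectiveSpecialLinearGroup (Fin 2) F, g = (u * a * u⁻¹) * (v * b * v⁻¹)} ≠ {g | IsConj c g} := by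
  classical
  intro heq
  obtain ⟨A₀, rfl⟩ := toPSL_surjective a
  obtain ⟨B₀, rfl⟩ := toPSL_surjective b
  obtain ⟨C, rfl⟩ := toPSL_surjective c
  have hne : ∀ {X : Matrix.SpecialLinearGroup (Fin 2) F}, toPSL X ≠ 1 → ∃ U, (U * X * U⁻¹) 1 0 ≠ 0 := by
    intro X hX
    by_cases h10 : X 1 0 = 0
    · by_cases h01 : X 0 1 = 0
      · refine ⟨sl 1 0 1 1 (by ring), ?_⟩
        simp [coe_sl, Matrix.adjugate_fin_two, Matrix.mul_apply, Fin.sum_univ_two, Matrix.vecMul, dotProduct, h10, h01]
        intro h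
        exact hX (toPSL_eq_one.mpr (eq_scalar_of_entries h10 h01 (by linear_combination h)))
      · refine ⟨sl 0 1 (-1) 0 (by ring), ?_⟩
        simpa [coe_sl, Matrix.adjugate_fin_two, Matrix.mul_apply, Fin.sum_univ_two, Matrix.vecMul, dotProduct] using h01
    · exact ⟨1, by simpa using h10⟩
  obtain ⟨U₁, hA⟩ := hne ha
  obtain ⟨U₂, hB⟩ := hne hb
  set A := U₁ * A₀ * U₁⁻¹ with hAdef
  set B := U₂ * B₀ * U₂⁻¹ with hBdef
  let T : F → Matrix.SpecialLinearGroup (Fin 2) F := fun t => sl 1 t 0 1 (by ring)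
  let f : F → F := fun t => tr (A * (T t * B * (T t)⁻¹))
  have hf : ∀ t, f t = (-(A 1 0 * B 1 0)) * (t * t) + ((A 0 0 - A 1 1) * B 1 0 + A 1 0 * (B 1 1 - B 0 0)) * t
      + (A 0 0 * B 0 0 + A 0 1 * B 1 0 + A 1 0 * B 0 1 + A 1 1 * B 1 1) := by
    intro t
    simp only [f, tr_eq]
    simp [T, coe_sl, Matrix.adjugate_fin_two, Matrix.mul_apply, Fin.sum_univ_two, Matrix.vecMul, dotProduct]
    ring
  have hval : ∀ t, f t = tr C ∨ f t = - tr C := by
    intro t
    have hmem : toPSL (A * (T t * B * (T t)⁻¹)) ∈ {g : Matrix.ProjectiveSpecialLinearGroup (Fin 2) F | IsConj (toPSL C) g} := by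
      rw [← heq]
      exact ⟨toPSL U₁, toPSL (T t * U₂), by simp only [hAdef, hBdef, map_mul, map_inv]; group⟩
    obtain ⟨V, hV⟩ := isConj_iff.mp hmem
    obtain ⟨V, rfl⟩ := toPSL_surjective V
    have h2 : toPSL (V * C * V⁻¹) = toPSL (A * (T t * B * (T t)⁻¹)) := by simpa using hV
    rcases tr_pm_of_toPSL_eq h2 with h | h <;> rw [tr_conj] at h
    · exact Or.inl h
    · exact Or.inr h
  have hle : ∀ y, (Finset.univ.filter (fun t => f t = y)).card ≤ 2 := by
    intro y
    by_contra hcon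
    obtain ⟨t₁, h1, t₂, h2, t₃, h3, h12, h13, h23⟩ := Finset.two_lt_card.mp (not_le.mp hcon)
    simp only [Finset.mem_filter, Finset.mem_univ, true_and, hf] at h1 h2 h3
    set k := A 1 0 * B 1 0
    set L := (A 0 0 - A 1 1) * B 1 0 + A 1 0 * (B 1 1 - B 0 0)
    have e1 : -k * (t₁ + t₂) + L = 0 := mul_left_cancel₀ (sub_ne_zero.mpr h12) (by linear_combination h1 - h2)
    have e2 : -k * (t₁ + t₃) + L = 0 := mul_left_cancel₀ (sub_ne_zero.mpr h13) (by linear_combination h1 - h3)
    have e3 : k * (t₃ - t₂) = 0 := by linear_combination e1 - e2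
    rcases mul_eq_zero.mp e3 with h | h
    · exact mul_ne_zero hA hB h
    · exact h23 (sub_eq_zero.mp h).symm
  have hsplit := Finset.card_filter_add_card_filter_not (s := (Finset.univ : Finset F)) (fun t => f t = tr C)
  rw [Finset.card_univ] at hsplit
  have h2le : (Finset.univ.filter (fun t => ¬ f t = tr C)).card ≤ 2 := by
    refine le_trans (Finset.card_le_card fun t ht => ?_) (hle (- tr C))
    simp only [Finset.mem_filter, Finset.mem_univ, true_and] at ht ⊢
    exact (hval t).resolve_left ht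
  have := hle (tr C)
  have h4eq : Fintype.card F = 4 := by omega
  have hchar : ringChar F = 2 := FiniteField.even_card_iff_char_two.mpr (by omega)
  have : CharP F 2 := hchar ▸ ringChar.charP F
  have hall : ∀ t, f t = tr C := fun t => (hval t).elim id (fun h => h.trans (CharTwo.neg_eq _))
  have : (Finset.univ.filter (fun t => ¬ f t = tr C)).card = 0 := by simp [hall]
  omega

end Cfsg.Agent.S2450
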