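import Cfsg.Statements.S2455
import Cfsg.Agent.Lib.SL2Trace.Covering

set_option autoImplicit false
open Cfsg Cfsg.Agent.Lib.SL2Trace

namespace Cfsg.Agent.S2455

/-- A strong covering result in the direction of Thompson's conjecture (non-identity elements) for PSL(2,q), q odd: let F be a finite field of odd characteristic p with at least 5 elements and let x ∈ PSL(2,F) have order greater than 2 and not divisible by p (so x is not unipotent). Then every non-identity element of PSL(2,F) is a product of two conjugates of x. -/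
theorem result {F : Type*} [Field F] [Fintype F] (p : ℕ) [Fact p.Prime] [CharP F p] (hp : p ≠ 2) (h5 : 5 ≤ Fintype.card F)
    (x : Matrix.ProjectiveSpecialLinearGroup (Fin 2) F) (hx2 : 2 < orderOf x) (hxp : ¬ p ∣ orderOf x) : ∀ g : Matrix.ProjectiveSpecialLinearGroup (Fin 2) F, g ≠ 1 → ∃ u v : Matrix.ProjectiveSpecialLinearGroup (Fin 2) F, g = (u * x * u⁻¹) * (v * x * v⁻¹) := by
  obtain ⟨A, rfl⟩ := toPSL_surjective x
  have ht : tr A ^ 2 ≠ 4 := fun ht => by
    have hd : orderOf (toPSL A) ∣ p := orderOf_dvd_of_pow_eq_one (by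
      rw [← map_pow]; exact toPSL_eq_one.mpr (pow_char_of_tr p ht))
    rcases (Nat.dvd_prime Fact.out).1 hd with h | h
    · omega
    · exact hxp h.symm.dvd
  have h2 : (2 : F) ≠ 0 := by
    intro h
    have : ((2 : ℕ) : F) = 0 := by exact_mod_cast h
    rw [CharP.cast_eq_zero_iff F p] at this
    exact hp ((Nat.prime_dvd_prime_iff_eq Fact.out Nat.prime_two).1 this)
  have ha : tr A ≠ 0 := fun ha => by
    have hd : orderOf (toPSL A) ∣ 2 := orderOf_dvd_of_pow_eq_one (by
      rw [← map_pow]
      refine toPSL_eq_one.mpr (Or.inr (Subtype.ext ?_))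
      rw [Matrix.SpecialLinearGroup.coe_pow, Matrix.SpecialLinearGroup.coe_neg, sq, sq_eq, ha]
      simp)
    have := Nat.le_of_dvd two_pos hd
    omega
  exact fun g hg => covering ht (Or.inl (mul_ne_zero h2 ha)) hg

end Cfsg.Agent.S2455
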