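import Cfsg.Statements.S2456
import Cfsg.Agent.Lib.SL2Trace.Covering

set_option autoImplicit false
open Cfsg Cfsg.Agent.Lib.SL2Trace

namespace Cfsg.Agent.S2456

/-- A strong covering result in the direction of Thompson's conjecture (non-identity elements) for PSL(2,q), q even: let F be a finite field of characteristic 2 with q ≥ 4 elements and let x ∈ PSL(2,F) have order greater than 2 and not dividing q + 1. Then every non-identity element of PSL(2,F) is a product of two conjugates of x. -/
theorem result {F : Type*} [Field F] [Fintype F] [CharP F 2] (h4 : 4 ≤ Fintype.card F)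
    (x : Matrix.ProjectiveSpecialLinearGroup (Fin 2) F) (hx2 : 2 < orderOf x) (hxq : ¬ orderOf x ∣ Fintype.card F + 1) : ∀ g : Matrix.ProjectiveSpecialLinearGroup (Fin 2) F, g ≠ 1 → ∃ u v : Matrix.ProjectiveSpecialLinearGroup (Fin 2) F, g = (u * x * u⁻¹) * (v * x * v⁻¹) := by
  obtain ⟨A, rfl⟩ := toPSL_surjective x
  haveI : Fact (Nat.Prime 2) := ⟨Nat.prime_two⟩
  have ht : tr A ^ 2 ≠ 4 := fun ht => by
    have hd : orderOf (toPSL A) ∣ 2 := orderOf_dvd_of_pow_eq_one (by
      rw [← map_pow]; exact toPSL_eq_one.mpr (pow_char_of_tr 2 ht))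
    have := Nat.le_of_dvd two_pos hd
    omega
  rcases pow_dichotomy ht with ⟨hr, -⟩ | ⟨-, hA⟩
  · exact fun g hg => covering ht (Or.inr hr) hg
  · exact absurd (orderOf_dvd_of_pow_eq_one (by rw [← map_pow, hA, map_one])) hxq

end Cfsg.Agent.S2456
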