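import Cfsg.Statements.S2459
import Cfsg.Agent.Lib.Similar.SLThreeCover

set_option autoImplicit false
open Cfsg

namespace Cfsg.Agent.S2459

theorem conj_lift {F : Type*} [Field F] {X : Matrix (Fin 3) (Fin 3) F}
    (hcomm : ∀ d : F, d ≠ 0 → ∃ D : Matrix (Fin 3) (Fin 3) F, D.det = d ∧ D * X = X * D)
    (hXdet : X.det = 1) (U U' : Matrix (Fin 3) (Fin 3) F) (hU : U * U' = 1) :
    ∃ u : Matrix.SpecialLinearGroup (Fin 3) F,
      ((u * ⟨X, hXdet⟩ * u⁻¹ : Matrix.SpecialLinearGroup (Fin 3) F) : Matrix (Fin 3) (Fin 3) F) =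
        U * X * U' := by
  have hd : U.det * U'.det = 1 := by rw [← Matrix.det_mul, hU, Matrix.det_one]
  obtain ⟨D, hD, hDX⟩ := hcomm U'.det (right_ne_zero_of_mul_eq_one hd)
  have hdet : (U * D).det = 1 := by rw [Matrix.det_mul, hD, hd]
  refine ⟨⟨U * D, hdet⟩, ?_⟩
  set u : Matrix.SpecialLinearGroup (Fin 3) F := ⟨U * D, hdet⟩
  have h1 : ((u⁻¹ : Matrix.SpecialLinearGroup (Fin 3) F) : Matrix (Fin 3) (Fin 3) F) * (U * D) = 1 := by
    have := congrArg Subtype.val (inv_mul_cancel u)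
    exact this
  have h2 : D * ((u⁻¹ : Matrix.SpecialLinearGroup (Fin 3) F) : Matrix (Fin 3) (Fin 3) F) = U' := by
    have hU' : U' * U = 1 := mul_eq_one_comm.1 hU
    have := congrArg Subtype.val (mul_inv_cancel u)
    have h3 : U * D * ((u⁻¹ : Matrix.SpecialLinearGroup (Fin 3) F) : Matrix (Fin 3) (Fin 3) F) = 1 :=
      this
    calc _ = U' * U * (D * ((u⁻¹ : Matrix.SpecialLinearGroup (Fin 3) F) : Matrix (Fin 3) (Fin 3) F)) := by
          rw [hU', one_mul]
      _ = U' := by rw [mul_assoc, ← mul_assoc U D, h3, mul_one]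
  change U * D * X * _ = _
  rw [mul_assoc U D X, hDX, ← mul_assoc U X D, mul_assoc (U * X) D, h2]


/-- A form of Thompson's conjecture for PSL(3,q), q > 2 (covering the non-identity elements), with a semisimple class: for F a finite field of characteristic p with more than 2 elements there is an element x of PSL(3,F) of order prime to p such that every non-identity element of PSL(3,F) is a product of two conjugates of x. -/
theorem result {F : Type*} [Field F] [Fintype F] (p : ℕ) [Fact p.Prime] [CharP F p] (h3 : 3 ≤ Fintype.card F) :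
    ∃ x : Matrix.ProjectiveSpecialLinearGroup (Fin 3) F, ¬ p ∣ orderOf x ∧ ∀ g : Matrix.ProjectiveSpecialLinearGroup (Fin 3) F, g ≠ 1 → ∃ u v : Matrix.ProjectiveSpecialLinearGroup (Fin 3) F, g = (u * x * u⁻¹) * (v * x * v⁻¹) := by
  obtain ⟨X, n, hXdet, hXn, hpn, hcomm, hgood⟩ :=
    Lib.SLThreeCover.exists_good (F := F) p h3
  set x : Matrix.SpecialLinearGroup (Fin 3) F := ⟨X, hXdet⟩ with hx
  refine ⟨QuotientGroup.mk x, ?_, ?_⟩
  · intro hdvd
    apply hpn
    refine hdvd.trans (orderOf_dvd_of_pow_eq_one ?_)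
    have hxn : x ^ n = 1 := Subtype.ext (by rw [Matrix.SpecialLinearGroup.coe_pow]; exact hXn)
    rw [← QuotientGroup.mk_pow, hxn, QuotientGroup.mk_one]
  · intro g
    induction g using QuotientGroup.induction_on with
    | _ g =>
    intro hg
    have hns : ¬ ∃ c : F, (g : Matrix (Fin 3) (Fin 3) F) = Matrix.scalar (Fin 3) c := by
      rintro ⟨c, hc⟩
      apply hg
      rw [QuotientGroup.eq_one_iff]
      refine Subgroup.mem_center_iff.2 fun h => Subtype.ext ?_
      simp only [Matrix.SpecialLinearGroup.coe_mul, hc]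
      exact ((Matrix.scalar_commute c (fun x => Commute.all c x) _).eq).symm
    obtain ⟨U, U', V, V', hU, hV, hA⟩ := hgood _ g.2 hns
    obtain ⟨u, hu⟩ : ∃ u : Matrix.SpecialLinearGroup (Fin 3) F,
        ((u * x * u⁻¹ : Matrix.SpecialLinearGroup (Fin 3) F) : Matrix (Fin 3) (Fin 3) F) =
          U * X * U' := conj_lift hcomm hXdet U U' hU
    obtain ⟨v, hv⟩ : ∃ v : Matrix.SpecialLinearGroup (Fin 3) F,
        ((v * x * v⁻¹ : Matrix.SpecialLinearGroup (Fin 3) F) : Matrix (Fin 3) (Fin 3) F) =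
          V * X * V' := conj_lift hcomm hXdet V V' hV
    refine ⟨QuotientGroup.mk u, QuotientGroup.mk v, ?_⟩
    have he : g = u * x * u⁻¹ * (v * x * v⁻¹) :=
      Subtype.ext (by rw [Matrix.SpecialLinearGroup.coe_mul, hu, hv]; exact hA)
    rw [he]
    rfl

end Cfsg.Agent.S2459
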