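import Cfsg.Statements.S2466
import Cfsg.Agent.Lib.AltOrders.Basic

set_option autoImplicit false
open Cfsg

namespace Cfsg.Agent.S2466

/-- Adjacency of odd primes in the prime graph of the alternating groups: let r ≠ s be odd primes at most n. The alternating group of degree n has an element of order r·s if and only if r + s ≤ n. -/
theorem result (n r s : ℕ) (hr : r.Prime) (hs : s.Prime) (hr2 : r ≠ 2) (hs2 : s ≠ 2) (hrs : r ≠ s) (hrn : r ≤ n) (hsn : s ≤ n) :
    (r * s ∈ Set.range (orderOf : alternatingGroup (Fin n) → ℕ)) ↔ r + s ≤ n := by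
  constructor
  · rintro ⟨g, hg⟩
    obtain ⟨hord, hsum, h2, heven⟩ := Lib.AltOrders.cycleType_spec g
    set m := (g : Equiv.Perm (Fin n)).cycleType
    rw [hord] at hg
    obtain ⟨a, ha, hra⟩ := Lib.AltOrders.exists_mem_dvd_of_dvd_lcm hr (hg ▸ dvd_mul_right r s)
    obtain ⟨b, hb, hsb⟩ := Lib.AltOrders.exists_mem_dvd_of_dvd_lcm hs (hg ▸ dvd_mul_left s r)
    have hapos : 0 < a := by have := h2 a ha; omega
    have hbpos : 0 < b := by have := h2 b hb; omega
    by_cases hab : a = b
    · subst hab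
      have hdvd : r * s ∣ a := Nat.Coprime.mul_dvd_of_dvd_of_dvd ((Nat.coprime_primes hr hs).mpr hrs) hra hsb
      have := Multiset.le_sum_of_mem ha
      have := Nat.le_of_dvd hapos hdvd
      nlinarith [hr.two_le, hs.two_le]
    · have := Lib.AltOrders.add_le_sum ha ((Multiset.mem_erase_of_ne (Ne.symm hab)).mpr hb)
      have := Nat.le_of_dvd hapos hra
      have := Nat.le_of_dvd hbpos hsb
      omega
  · intro h
    have heven : Even (r + s + 2) :=
      ((hr.odd_of_ne_two hr2).add_odd (hs.odd_of_ne_two hs2)).add (even_two)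
    obtain ⟨g, hg⟩ := Lib.AltOrders.exists_orderOf_eq (n := n) ({r, s} : Multiset ℕ) (by simpa using h)
      (by simp [hr.two_le, hs.two_le]) (by simpa using heven)
    exact ⟨g, hg.trans (by simp [lcm_eq_nat_lcm, Nat.Coprime.lcm_eq_mul ((Nat.coprime_primes hr hs).mpr hrs)])⟩

end Cfsg.Agent.S2466
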