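import Cfsg.Statements.S2467
import Cfsg.Agent.Lib.AltOrders.Basic

set_option autoImplicit false
open Cfsg

namespace Cfsg.Agent.S2467

/-- Adjacency of 2 and an odd prime in the prime graph of the alternating groups: let r be an odd prime at most n, with n ≥ 4. The alternating group of degree n has an element of order 2r if and only if r + 4 ≤ n. -/
theorem result (n r : ℕ) (hn : 4 ≤ n) (hr : r.Prime) (hr2 : r ≠ 2) (hrn : r ≤ n) :
    (2 * r ∈ Set.range (orderOf : alternatingGroup (Fin n) → ℕ)) ↔ r + 4 ≤ n := by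
  have hodd := hr.odd_of_ne_two hr2
  have h3 : 3 ≤ r := by have := hr.two_le; omega
  constructor
  · rintro ⟨g, hg⟩
    obtain ⟨hord, hsum, h2, heven⟩ := Lib.AltOrders.cycleType_spec g
    set m := (g : Equiv.Perm (Fin n)).cycleType
    rw [hord] at hg
    obtain ⟨a, ha, hra⟩ := Lib.AltOrders.exists_mem_dvd_of_dvd_lcm hr (hg ▸ dvd_mul_left r 2)
    obtain ⟨b, hb, hb2⟩ := Lib.AltOrders.exists_mem_dvd_of_dvd_lcm Nat.prime_two (hg ▸ dvd_mul_right 2 r)
    have hale : r ≤ a := Nat.le_of_dvd (by have := h2 a ha; omega) hra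
    have hbe : Even b := even_iff_two_dvd.mpr hb2
    have hdvd : ∀ c ∈ m, c ∣ 2 * r := fun c hc => hg ▸ Multiset.dvd_lcm hc
    -- the rest after removing `a`
    obtain ⟨t, ht⟩ := Multiset.exists_cons_of_mem ha
    rw [ht, Multiset.sum_cons, Multiset.card_cons] at heven
    rw [ht, Multiset.sum_cons] at hsum
    have htmem : ∀ c ∈ t, c ∈ m := fun c hc => ht ▸ Multiset.mem_cons_of_mem hc
    rcases Nat.even_or_odd a with hae | hao
    · -- `a` is a multiple of `2 r`
      have h2ra : 2 * r ≤ a := Nat.le_of_dvd (by omega) (Nat.Coprime.mul_dvd_of_dvd_of_dvd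
        (Nat.coprime_two_left.mpr hodd) (even_iff_two_dvd.mp hae) hra)
      rcases Multiset.empty_or_exists_mem t with h0 | ⟨c, hc⟩
      · subst h0
        simp [Nat.even_add_one, hae] at heven
      · have := Multiset.le_sum_of_mem hc
        have := h2 c (htmem c hc)
        omega
    · -- two further even parts
      have hbt : b ∈ t := by
        rw [ht, Multiset.mem_cons] at hb
        refine hb.resolve_left fun h => ?_
        subst h
        exact Nat.not_even_iff_odd.mpr hao hbe
      obtain ⟨u, hu⟩ := Multiset.exists_cons_of_mem hbt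
      rcases Multiset.empty_or_exists_mem u with h0 | ⟨c, hc⟩
      · subst h0
        rw [hu] at heven
        simp [Nat.even_add, hbe, Nat.not_even_iff_odd.mpr hao] at heven
      · rw [hu, Multiset.sum_cons] at hsum
        have := Multiset.le_sum_of_mem hc
        have := h2 c (htmem c (hu ▸ Multiset.mem_cons_of_mem hc))
        have := h2 b hb
        omega
  · intro h
    obtain ⟨g, hg⟩ := Lib.AltOrders.exists_orderOf_eq (n := n) ({r, 2, 2} : Multiset ℕ) (by simpa using h)
      (by simp [hr.two_le]) (by simp [Nat.even_add, Nat.not_even_iff_odd.mpr hodd, parity_simps])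
    exact ⟨g, hg.trans (by simp [lcm_eq_nat_lcm, Nat.Coprime.lcm_eq_mul (Nat.coprime_two_right.mpr hodd), mul_comm])⟩

end Cfsg.Agent.S2467
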