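import Cfsg.Statements.S2468
import Mathlib
import Cfsg.Agent.Lib.Similar.PrimeGraph

set_option autoImplicit false
open Cfsg

namespace Cfsg.Agent.S2468

open Cfsg.Agent.Lib.Similar Polynomial

/-- Adjacency of two odd primes in the prime graph of PSL(n,q): let F be a finite field of characteristic p with q elements, n ≥ 2 with PSL(n,F) simple, and let r ≠ s be odd primes different from p dividing the order of PSL(n,F). Let k and l be the multiplicative orders of q modulo r and modulo s, and suppose 2 ≤ k ≤ l. Then PSL(n,F) has NO element of order r·s if and only if k + l > n and k does not divide l. -/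
theorem result {F : Type*} [Field F] [Fintype F] (p : ℕ) [Fact p.Prime] [CharP F p] (n : ℕ) (hn : 2 ≤ n) (hsmall : n = 2 → 4 ≤ Fintype.card F)
    (r s : ℕ) (hr : r.Prime) (hs : s.Prime) (hr2 : r ≠ 2) (hs2 : s ≠ 2) (hrp : r ≠ p) (hsp : s ≠ p) (hrs : r ≠ s)
    (hrG : r ∣ Nat.card (Matrix.ProjectiveSpecialLinearGroup (Fin n) F)) (hsG : s ∣ Nat.card (Matrix.ProjectiveSpecialLinearGroup (Fin n) F))
    (k l : ℕ) (hk : k = orderOf ((Fintype.card F : ℕ) : ZMod r)) (hl : l = orderOf ((Fintype.card F : ℕ) : ZMod s))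
    (h2k : 2 ≤ k) (hkl : k ≤ l) :
    (r * s ∉ Set.range (orderOf : Matrix.ProjectiveSpecialLinearGroup (Fin n) F → ℕ)) ↔ (n < k + l ∧ ¬ k ∣ l) := by
  classical
  have hq : 1 < Fintype.card F := Fintype.one_lt_card
  have cop : ∀ a : ℕ, a.Prime → 2 ≤ orderOf ((Fintype.card F : ℕ) : ZMod a) → a.Coprime (Fintype.card F - 1) := by
    intro a ha h
    rw [ha.coprime_iff_not_dvd]
    intro hd
    rw [← ZMod.natCast_eq_zero_iff, Nat.cast_sub (by omega), Nat.cast_one, sub_eq_zero] at hd
    rw [hd, orderOf_one] at h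
    omega
  have h2l : 2 ≤ l := le_trans h2k hkl
  have dvdpow : ∀ (a e d : ℕ), e = orderOf ((Fintype.card F : ℕ) : ZMod a) → e ∣ d → a ∣ Fintype.card F ^ d - 1 := by
    intro a e d he hd
    rw [he, orderOf_dvd_iff_pow_eq_one] at hd
    rw [← ZMod.natCast_eq_zero_iff, Nat.cast_sub (Nat.one_le_pow _ _ (by omega)), Nat.cast_pow, hd, Nat.cast_one, sub_self]
  have hln : l ≤ n := by
    have : Fact s.Prime := ⟨hs⟩
    obtain ⟨y, hy⟩ := exists_prime_orderOf_dvd_card' s hsG
    obtain ⟨x, hx⟩ := (PrimeGraph.mem_range_psl_iff (cop s hs (hl ▸ h2l))).1 ⟨y, hy⟩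
    have hne : ¬ x ^ 1 = 1 := fun h => hs.one_lt.ne' (by rw [← hx, orderOf_eq_one_iff.2 (by simpa using h)])
    rw [pow_eq_one_iff_matInv] at hne
    push Not at hne
    obtain ⟨z, hz, hzn⟩ := hne
    obtain ⟨h1, hsum⟩ := matInv_spec x
    obtain ⟨hm, hi, h0, he⟩ := h1 z hz
    have hall := (pow_eq_one_iff_matInv x s).1 (hx ▸ pow_orderOf_eq_one x) z hz
    have hsq : Squarefree (X ^ s - 1 : F[X]) := squarefree_X_pow_sub_one ((Nat.coprime_primes hs Fact.out).2 hsp)
    have hz1 : z.2 = 1 := by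
      by_contra hne'
      exact hi.not_isUnit (hsq _ ((dvd_trans (by rw [← pow_two]) (pow_dvd_pow _ (show 2 ≤ z.2 by omega))).trans hall))
    rw [hz1, pow_one] at hzn hall
    have := Nat.le_of_dvd hi.natDegree_pos (PrimeGraph.dvd_natDegree hi h0 hs (a := s) (b := 1) (by rwa [mul_one]) hzn)
    have hle := Multiset.le_sum_of_mem (Multiset.mem_map_of_mem (fun y : F[X] × ℕ => y.2 * y.1.natDegree) hz)
    simp only [hz1, one_mul, hsum, Fintype.card_fin] at hle
    omega
  rw [PrimeGraph.mem_range_psl_iff (Nat.Coprime.mul_left (cop r hr (hk ▸ h2k)) (cop s hs (hl ▸ h2l)))]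
  constructor
  · intro h
    constructor
    · by_contra hle
      push Not at hle
      obtain ⟨x, hx, -⟩ := PrimeGraph.exists_order (F := F) (n := n) (p := p) [k, l] (by simp; omega) false (by simp; omega)
      refine h (PrimeGraph.mem_range_of_dvd x ((Nat.coprime_primes hr hs).2 hrs |>.mul_dvd_of_dvd_of_dvd ?_ ?_))
      · exact (dvdpow r k k hk dvd_rfl).trans (hx k (by simp))
      · exact (dvdpow s l l hl dvd_rfl).trans (hx l (by simp))
    · intro hkl'
      obtain ⟨x, hx, -⟩ := PrimeGraph.exists_order (F := F) (n := n) (p := p) [l] (by simp; omega) false (by simp; omega)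
      refine h (PrimeGraph.mem_range_of_dvd x ((Nat.coprime_primes hr hs).2 hrs |>.mul_dvd_of_dvd_of_dvd ?_ ?_))
      · exact (dvdpow r k l hk hkl').trans (hx l (by simp))
      · exact (dvdpow s l l hl dvd_rfl).trans (hx l (by simp))
  · rintro ⟨hn', hkl'⟩ ⟨x, hx⟩
    obtain ⟨h1, hsum⟩ := matInv_spec x
    have hall := (pow_eq_one_iff_matInv x (r * s)).1 (hx ▸ pow_orderOf_eq_one x)
    have hsq : Squarefree (X ^ (r * s) - 1 : F[X]) := squarefree_X_pow_sub_one
      (Nat.Coprime.mul_left ((Nat.coprime_primes hr Fact.out).2 hrp) ((Nat.coprime_primes hs Fact.out).2 hsp))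
    have he1 : ∀ z ∈ matInv (x : Matrix (Fin n) (Fin n) F), z.2 = 1 := by
      intro z hz
      by_contra hne'
      exact (h1 z hz).2.1.not_isUnit (hsq _ ((dvd_trans (by rw [← pow_two]) (pow_dvd_pow _ (show 2 ≤ z.2 by
        have := (h1 z hz).2.2.2
        omega))).trans (hall z hz)))
    have key : ∀ a b : ℕ, a.Prime → b.Prime → a * b = r * s →
        ∃ z ∈ matInv (x : Matrix (Fin n) (Fin n) F), orderOf ((Fintype.card F : ℕ) : ZMod a) ∣ z.1.natDegree := by
      intro a b ha hb hab
      have hne : ¬ x ^ b = 1 := fun h => by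
        have := Nat.le_of_dvd hb.pos (hx ▸ orderOf_dvd_of_pow_eq_one h)
        have := Nat.mul_le_mul_right b ha.two_le
        have := hb.pos
        omega
      rw [pow_eq_one_iff_matInv] at hne
      push Not at hne
      obtain ⟨z, hz, hzn⟩ := hne
      obtain ⟨hm, hi, h0, -⟩ := h1 z hz
      have := hall z hz
      rw [he1 z hz, pow_one] at hzn this
      exact ⟨z, hz, PrimeGraph.dvd_natDegree hi h0 ha (by rwa [hab]) hzn⟩
    obtain ⟨z, hz, hzl⟩ := key s r hs hr (mul_comm s r)
    obtain ⟨w, hw, hwk⟩ := key r s hr hs rfl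
    rw [← hl] at hzl
    rw [← hk] at hwk
    have hzpos := (h1 z hz).2.1.natDegree_pos
    have hwpos := (h1 w hw).2.1.natDegree_pos
    rw [Fintype.card_fin] at hsum
    by_cases hzw : w = z
    · subst hzw
      have hle := Multiset.le_sum_of_mem (Multiset.mem_map_of_mem (fun y : F[X] × ℕ => y.2 * y.1.natDegree) hw)
      simp only [he1 w hw, one_mul, hsum] at hle
      have h3 := Nat.le_of_dvd hwpos (Nat.lcm_dvd hwk hzl)
      obtain ⟨c, hc⟩ := Nat.dvd_lcm_right k l
      rcases Nat.lt_or_ge c 2 with hc2 | hc2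
      · interval_cases c
        · have := Nat.lcm_pos (show 0 < k by omega) (show 0 < l by omega)
          omega
        · exact hkl' (by rw [mul_one] at hc; rw [← hc]; exact Nat.dvd_lcm_left k l)
      · have := Nat.mul_le_mul_left l hc2
        omega
    · obtain ⟨m, hm⟩ := Multiset.exists_cons_of_mem hz
      rw [hm] at hsum hw
      have hw' := (Multiset.mem_cons.1 hw).resolve_left hzw
      have hle := Multiset.le_sum_of_mem (Multiset.mem_map_of_mem (fun y : F[X] × ℕ => y.2 * y.1.natDegree) hw')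
      simp only [Multiset.map_cons, Multiset.sum_cons] at hsum
      simp only [he1 w (hm ▸ hw), one_mul] at hle
      rw [he1 z hz, one_mul] at hsum
      have := Nat.le_of_dvd hzpos hzl
      have := Nat.le_of_dvd hwpos hwk
      omega

end Cfsg.Agent.S2468
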