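import Cfsg.Statements.S2469
import Mathlib
import Cfsg.Agent.Lib.Similar.SympGraph

set_option autoImplicit false
open Cfsg

namespace Cfsg.Agent.S2469

open Cfsg.Agent.Lib.Similar Polynomial

/-- Adjacency of two odd primes in the prime graph of PSp(2n,q): let F be a finite field of characteristic p with q elements, n ≥ 2 with PSp(2n,F) simple, and let r ≠ s be odd primes different from p dividing the order of PSp(2n,F). Let k, l be the multiplicative orders of q modulo r and s, put η(m) = m for odd m and η(m) = m/2 for even m, and suppose η(k) ≤ η(l). Then PSp(2n,F) has NO element of order r·s if and only if η(k) + η(l) > n and l/k is not an odd integer. -/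
theorem result {F : Type*} [Field F] [Fintype F] (p : ℕ) [Fact p.Prime] [CharP F p] (n : ℕ) (hn : 2 ≤ n) (hsmall : n = 2 → 3 ≤ Fintype.card F)
    (r s : ℕ) (hr : r.Prime) (hs : s.Prime) (hr2 : r ≠ 2) (hs2 : s ≠ 2) (hrp : r ≠ p) (hsp : s ≠ p) (hrs : r ≠ s)
    (hrG : r ∣ Nat.card (Cfsg.PSp n F)) (hsG : s ∣ Nat.card (Cfsg.PSp n F))
    (k l ηk ηl : ℕ) (hk : k = orderOf ((Fintype.card F : ℕ) : ZMod r)) (hl : l = orderOf ((Fintype.card F : ℕ) : ZMod s))
    (hηk : (Odd k ∧ ηk = k) ∨ (Even k ∧ 2 * ηk = k)) (hηl : (Odd l ∧ ηl = l) ∨ (Even l ∧ 2 * ηl = l)) (hkl : ηk ≤ ηl) :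
    (r * s ∉ Set.range (orderOf : Cfsg.PSp n F → ℕ)) ↔ (n < ηk + ηl ∧ ¬ ∃ t : ℕ, Odd t ∧ l = k * t) := by
  classical
  have : Fact r.Prime := ⟨hr⟩
  have : Fact s.Prime := ⟨hs⟩
  have hn1 : 1 ≤ n := by omega
  have hk1 : 1 ≤ k := hk ▸ SympGraph.one_le_orderOf (p := p) hr hrp
  have hl1 : 1 ≤ l := hl ▸ SympGraph.one_le_orderOf (p := p) hs hsp
  have hco : r.Coprime s := (Nat.coprime_primes hr hs).2 hrs
  have hsq : ∀ M : ℕ, ¬ p ∣ M → ∀ (f : F[X]) (e : ℕ), Irreducible f → f ^ e ∣ X ^ M - 1 → e ≤ 1 := by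
    intro M hM f e hf hd
    by_contra he
    refine hf.not_isUnit ((Polynomial.separable_X_pow_sub_C (n := M) (1 : F) ?_ one_ne_zero).squarefree f ?_)
    · rwa [Ne, CharP.cast_eq_zero_iff F p]
    · rw [C_1]
      exact dvd_trans (by rw [← sq]; exact pow_dvd_pow _ (by omega)) hd
  have hp : p.Prime := Fact.out
  have hps : ¬ p ∣ s := fun h => hsp ((Nat.prime_dvd_prime_iff_eq hp hs).1 h).symm
  have hprs : ¬ p ∣ r * s := fun h => (hp.dvd_mul.1 h).elim
    (fun h => hrp ((Nat.prime_dvd_prime_iff_eq hp hr).1 h).symm) hps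
  -- a factor seeing a prime
  have see : ∀ (x : Matrix.symplecticGroup (Fin n) F) (M b : ℕ), x ^ M = 1 → ¬ p ∣ M → x ^ b ≠ 1 →
      ∀ (t : Multiset F[X]), (∀ b : ℕ, x ^ b ≠ 1 → ∃ f ∈ t, ∃ e, Multiset.replicate e f ≤ t ∧ f ^ e ∣ X ^ M - 1 ∧ ¬ f ^ e ∣ X ^ b - 1) →
      (∀ f ∈ t, Irreducible f) → ∃ f ∈ t, f ∣ X ^ M - 1 ∧ ¬ f ∣ X ^ b - 1 := by
    intro x M b hxM hM hxb t ht hti
    obtain ⟨f, hf, e, -, h1, h2⟩ := ht b hxb
    have he := hsq M hM f e (hti f hf) h1
    interval_cases e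
    · exact absurd (by rw [pow_zero]; exact one_dvd _) h2
    · exact ⟨f, hf, by simpa using h1, by simpa using h2⟩
  have hln : ηl ≤ n := by
    obtain ⟨y, hy⟩ := exists_prime_orderOf_dvd_card' (G := Cfsg.PSp n F) s hsG
    obtain ⟨x, hx⟩ := SympGraph.exists_sp hn1 ⟨y, hy⟩
    obtain ⟨t, ht1, ht2, ht3, ht4⟩ := SympGraph.factors x (hx ▸ pow_orderOf_eq_one x)
    obtain ⟨f, hf, hfd, hfn⟩ := see x s 1 (hx ▸ pow_orderOf_eq_one x) hps (by
      rw [pow_one]; intro h; rw [h, orderOf_one] at hx; exact hs.one_lt.ne hx) t ht4 (fun f hf => (ht1 f hf).2.1)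
    obtain ⟨c1, c2⟩ := SympGraph.contrib ht2 hf (ht1 f hf).2.1 (ht1 f hf).2.2.1 hs hs2 hl hηl (b := 1) (by rwa [mul_one]) hfn
    have := SympGraph.sum_le_of_le c2
    rw [ht3] at this
    have h2 : 2 * ηl ≤ 2 * n := c1.trans this
    omega
  constructor
  · intro h
    by_contra hcon
    apply h
    have hpos : ∀ {k η : ℕ}, 1 ≤ k → ((Odd k ∧ η = k) ∨ (Even k ∧ 2 * η = k)) → 0 < η := by
      intro k η h1 h2; rcases h2 with ⟨-, h2⟩ | ⟨-, h2⟩ <;> omega
    have hcop : (r * s).Coprime 2 ∨ (2 : F) = 0 := .inl (Nat.Coprime.mul_left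
      ((Nat.coprime_primes hr Nat.prime_two).2 hr2) ((Nat.coprime_primes hs Nat.prime_two).2 hs2))
    obtain ⟨dk0, dk1⟩ := SympGraph.dvd_eta hr hk hk1 hηk odd_one
    obtain ⟨dl0, dl1⟩ := SympGraph.dvd_eta hs hl hl1 hηl odd_one
    rw [mul_one] at dk0 dk1 dl0 dl1
    by_cases ht : ∃ t : ℕ, Odd t ∧ l = k * t
    · obtain ⟨t, ht, hlt⟩ := ht
      obtain ⟨dt0, dt1⟩ := SympGraph.dvd_eta hr hk hk1 hηk ht
      refine SympGraph.mem_range_of_has hn1 hcop hln (SympGraph.has_torus (hpos hl1 hηl) ?_)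
      rcases hηk with ⟨hko, hηk⟩ | ⟨hke, hηk⟩
      · have hlo : Odd l := hlt ▸ hko.mul ht
        have e : ηl = ηk * t := by
          rw [hηk, ← hlt]; exact (hηl.resolve_right fun h => Nat.not_even_iff_odd.2 hlo h.1).2
        exact .inl (hco.mul_dvd_of_dvd_of_dvd (e ▸ dt0 hko) (dl0 hlo))
      · have hle : Even l := hlt ▸ hke.mul_right t
        have e : ηl = ηk * t := by
          have h2 := (hηl.resolve_left fun h => Nat.not_even_iff_odd.2 h.1 hle).2
          rw [hlt, ← hηk, mul_assoc] at h2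
          omega
        exact .inr (hco.mul_dvd_of_dvd_of_dvd (e ▸ dt1 hke) (dl1 hle))
    · have hle : ηk + ηl ≤ n := not_lt.1 fun hh => hcon ⟨hh, ht⟩
      have hor : ∀ {a k η : ℕ}, (Odd k → a ∣ Fintype.card F ^ η - 1) → (Even k → a ∣ Fintype.card F ^ η + 1) →
          a ∣ Fintype.card F ^ η - 1 ∨ a ∣ Fintype.card F ^ η + 1 := by
        intro a k η h1 h2; exact (Nat.even_or_odd k).elim (fun h => .inr (h2 h)) fun h => .inl (h1 h)
      have := (SympGraph.has_torus (hpos hk1 hηk) (hor dk0 dk1)).prod (SympGraph.has_torus (hpos hl1 hηl) (hor dl0 dl1))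
      rw [hco.lcm_eq_mul] at this
      exact SympGraph.mem_range_of_has hn1 hcop hle this
  · rintro ⟨hlt, hnt⟩ h
    obtain ⟨x, hx⟩ := SympGraph.exists_sp hn1 h
    obtain ⟨t, ht1, ht2, ht3, ht4⟩ := SympGraph.factors x (hx ▸ pow_orderOf_eq_one x)
    have hti : ∀ f ∈ t, Irreducible f := fun f hf => (ht1 f hf).2.1
    have hne : ∀ b, 0 < b → b < r * s → x ^ b ≠ 1 := fun b h1 h2 h => by
      have := Nat.le_of_dvd h1 (hx ▸ orderOf_dvd_of_pow_eq_one h); omega
    obtain ⟨f, hf, hfd, hfn⟩ := see x _ s (hx ▸ pow_orderOf_eq_one x) hprs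
      (hne s hs.pos (lt_mul_of_one_lt_left hs.pos hr.one_lt)) t ht4 hti
    obtain ⟨g, hg, hgd, hgn⟩ := see x _ r (hx ▸ pow_orderOf_eq_one x) hprs
      (hne r hr.pos (lt_mul_of_one_lt_right hr.pos hs.one_lt)) t ht4 hti
    rw [mul_comm r s] at hgd
    obtain ⟨hfm, hfi, hf0, -⟩ := ht1 f hf
    obtain ⟨hgm, hgi, hg0, -⟩ := ht1 g hg
    obtain ⟨cf, cf'⟩ := SympGraph.contrib ht2 hf hfi hf0 hr hr2 hk hηk hfd hfn
    obtain ⟨cg, cg'⟩ := SympGraph.contrib ht2 hg hgi hg0 hs hs2 hl hηl hgd hgn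
    have hss : starP (RingHom.id F) (starP (RingHom.id F) g) = g := starP_starP (fun _ => rfl) hgm hg0
    by_cases hsame : g = f ∨ g = starP (RingHom.id F) f
    · -- one orbit sees both primes
      have hfs : f ∣ X ^ (s * r) - 1 ∧ ¬ f ∣ X ^ r - 1 := by
        refine ⟨mul_comm r s ▸ hfd, fun hh => hgn ?_⟩
        rcases hsame with rfl | rfl
        · exact hh
        · exact SympGraph.sub_one_self_dvd hfi hfm hf0 hh hr.one_lt.le
      have hkd := hk ▸ PrimeGraph.dvd_natDegree hfi hf0 hr hfd hfn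
      have hld := hl ▸ PrimeGraph.dvd_natDegree hfi hf0 hs hfs.1 hfs.2
      obtain ⟨c, hc⟩ := hld
      have hc1 : c ≠ 0 := fun h0 => by rw [h0, mul_zero] at hc; have := hfi.natDegree_pos; omega
      have hsum := SympGraph.sum_le_of_le cf'
      rw [ht3] at hsum
      by_cases hself : starP (RingHom.id F) f = f
      · rw [hself, Finset.pair_eq_singleton, Finset.singleton_val, Multiset.map_singleton, Multiset.sum_singleton] at hsum
        obtain ⟨j, hj⟩ := SympGraph.self_sign hfi hf0 hself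
        obtain ⟨hke, hk2, hkj⟩ := SympGraph.neg_one_order (SympGraph.neg_one_ne_one hr hr2) (hj r s hr hfd hfn)
        obtain ⟨hle, hl2, -⟩ := SympGraph.neg_one_order (SympGraph.neg_one_ne_one hs hs2) (hj s r hs hfs.1 hfs.2)
        rw [← hk] at hke hk2 hkj
        rw [← hl] at hle hl2
        have e1 := (hηk.resolve_left fun h => Nat.not_even_iff_odd.2 h.1 hke).2
        have e2 := (hηl.resolve_left fun h => Nat.not_even_iff_odd.2 h.1 hle).2
        rcases Nat.lt_or_ge c 2 with hc2 | hc2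
        · rw [show c = 1 by omega, mul_one] at hc
          obtain ⟨v, hv⟩ := hc ▸ hkd
          obtain ⟨u, rfl⟩ := even_iff_two_dvd.1 (Nat.not_odd_iff_even.1 fun ho => hnt ⟨v, ho, hv⟩)
          refine hkj (dvd_trans ⟨u, rfl⟩ ((Nat.mul_dvd_mul_iff_left two_pos).1 ?_))
          rw [show 2 * (k * u) = k * (2 * u) by ring, ← hv]
          exact hl2
        · have := Nat.mul_le_mul_left l hc2
          omega
      · rw [show ({f, starP (RingHom.id F) f} : Finset F[X]).val = f ::ₘ starP (RingHom.id F) f ::ₘ 0 by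
            rw [Finset.insert_val_of_notMem (by simpa using Ne.symm hself)]; rfl,
          Multiset.map_cons, Multiset.map_cons, Multiset.map_zero, Multiset.sum_cons, Multiset.sum_cons, Multiset.sum_zero,
          natDegree_starP hf0, hc] at hsum
        rcases Nat.lt_or_ge c 2 with hc2 | hc2
        · rw [show c = 1 by omega, mul_one] at hc hsum
          obtain ⟨v, hv⟩ := hc ▸ hkd
          obtain ⟨u, rfl⟩ := even_iff_two_dvd.1 (Nat.not_odd_iff_even.1 fun ho => hnt ⟨v, ho, hv⟩)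
          have e2 := (hηl.resolve_left fun h => Nat.not_even_iff_odd.2 h.1 (hv ▸ (even_two_mul u).mul_left k)).2
          have hu : 1 ≤ u := by
            by_contra h0
            rw [show u = 0 by omega] at hv; omega
          have := Nat.mul_le_mul_left k (Nat.mul_le_mul_left 2 hu)
          rcases hηk with ⟨-, e1⟩ | ⟨-, e1⟩ <;> omega
        · have := Nat.mul_le_mul_left l hc2
          rcases hηk with ⟨-, e1⟩ | ⟨-, e1⟩ <;> rcases hηl with ⟨-, e2⟩ | ⟨-, e2⟩ <;> omega
    · push Not at hsame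
      have hd : Disjoint ({f, starP (RingHom.id F) f} : Finset F[X]) {g, starP (RingHom.id F) g} := by
        have hff : starP (RingHom.id F) (starP (RingHom.id F) f) = f := starP_starP (fun _ => rfl) hfm hf0
        rw [Finset.disjoint_left]
        intro y hy hy'
        simp only [Finset.mem_insert, Finset.mem_singleton] at hy hy'
        rcases hy with rfl | rfl <;> rcases hy' with h' | h'
        · exact hsame.1 h'.symm
        · exact hsame.2 (by rw [h', hss])
        · exact hsame.2 h'.symm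
        · exact hsame.1 (by rw [← hss, ← h', hff])
      have hle : (({f, starP (RingHom.id F) f} : Finset F[X]) ∪ {g, starP (RingHom.id F) g}).1 ≤ t :=
        (Multiset.le_iff_subset (Finset.nodup _)).2 fun y hy => by
          rw [Finset.mem_val, Finset.mem_union] at hy
          exact hy.elim (fun h => Multiset.mem_of_le cf' h) (fun h => Multiset.mem_of_le cg' h)
      have hsum := SympGraph.sum_le_of_le hle
      rw [ht3] at hsum
      change (({f, starP (RingHom.id F) f} : Finset F[X]) ∪ {g, starP (RingHom.id F) g}).sum natDegree ≤ _ at hsum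
      rw [Finset.sum_union hd] at hsum
      have h2 : 2 * ηk + 2 * ηl ≤ 2 * n := (Nat.add_le_add cf cg).trans hsum
      omega

end Cfsg.Agent.S2469
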