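import Cfsg.Statements.S2470
import Mathlib
import Cfsg.Agent.Lib.Similar.PrimeGraph

set_option autoImplicit false
open Cfsg

namespace Cfsg.Agent.S2470

open Cfsg.Agent.Lib.Similar Polynomial

variable {F : Type*} [Field F] [Fintype F]

/-- A repeated factor, and a factor of large degree when there is one. -/
theorem mixed {p : ℕ} [Fact p.Prime] [CharP F p] {n r : ℕ} (hr : r.Prime) (hrp : r ≠ p)
    (hk : 2 ≤ orderOf ((Fintype.card F : ℕ) : ZMod r)) (x : GL (Fin n) F) (hx : orderOf x = r * p) :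
    orderOf ((Fintype.card F : ℕ) : ZMod r) + 2 ≤ n := by
  classical
  have hp : p.Prime := Fact.out
  obtain ⟨h1, hsum⟩ := matInv_spec x
  rw [Fintype.card_fin] at hsum
  have hall := (pow_eq_one_iff_matInv x (r * p)).1 (hx ▸ pow_orderOf_eq_one x)
  have hne : ∀ b, b < r * p → 0 < b → ∃ z ∈ matInv (x : Matrix (Fin n) (Fin n) F), ¬ z.1 ^ z.2 ∣ X ^ b - 1 := by
    intro b hb hb0
    have h : ¬ x ^ b = 1 := fun h => by have := Nat.le_of_dvd hb0 (hx ▸ orderOf_dvd_of_pow_eq_one h); omega
    rw [pow_eq_one_iff_matInv] at h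
    push Not at h
    exact h
  have hfr : ∀ z ∈ matInv (x : Matrix (Fin n) (Fin n) F), z.1 ∣ X ^ r - 1 := by
    intro z hz
    have h := (dvd_pow_self z.1 (show z.2 ≠ 0 by have := (h1 z hz).2.2.2; omega)).trans (hall z hz)
    rw [show (X ^ (r * p) - 1 : F[X]) = (X ^ r - 1) ^ p by rw [sub_pow_char, one_pow, pow_mul]] at h
    exact (h1 z hz).2.1.prime.dvd_of_dvd_pow h
  obtain ⟨w, hw, hwn⟩ := hne r (lt_mul_of_one_lt_right hr.pos hp.one_lt) hr.pos
  obtain ⟨hwm, hwi, hw0, hwe⟩ := h1 w hw
  have hw2 : 2 ≤ w.2 := by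
    by_contra h
    exact hwn (by rw [show w.2 = 1 by omega, pow_one]; exact hfr w hw)
  obtain ⟨z, hz, hzn⟩ := hne p (lt_mul_of_one_lt_left hp.pos hr.one_lt) hp.pos
  obtain ⟨hzm, hzi, hz0, hze⟩ := h1 z hz
  have hw1 := hwi.natDegree_pos
  have hz1 := hzi.natDegree_pos
  have hle : ∀ v ∈ matInv (x : Matrix (Fin n) (Fin n) F), v.2 * v.1.natDegree ≤ n := fun v hv => hsum ▸
    Multiset.le_sum_of_mem (Multiset.mem_map_of_mem (fun y : F[X] × ℕ => y.2 * y.1.natDegree) hv)
  by_cases hone : z.1 ∣ X ^ 1 - 1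
  · -- then the order is a power of the characteristic on `z`
    exfalso
    refine hzn ?_
    rw [pow_one, ← C_1] at hone
    have he : z.1 = X - C 1 := eq_of_monic_of_associated hzm (monic_X_sub_C _) (hzi.associated_of_dvd (irreducible_X_sub_C _) hone)
    have hX : (X - C 1 : F[X]) ^ z.2 ∣ (X - C 1) ^ p := by
      refine pow_dvd_pow _ ?_
      by_contra hlt
      have h := hall z hz
      rw [he, show (X ^ (r * p) - 1 : F[X]) = (X ^ r - 1) ^ p by rw [sub_pow_char, one_pow, pow_mul]] at h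
      have h2 : (X - C 1 : F[X]) ^ (p + 1) ∣ (X ^ r - 1) ^ p := (pow_dvd_pow _ (by omega)).trans h
      obtain ⟨v, hv⟩ : (X - C 1 : F[X]) ∣ X ^ r - 1 := dvd_iff_isRoot.2 (by simp [IsRoot])
      rw [hv, mul_pow, pow_succ] at h2
      have h4 := (irreducible_X_sub_C (1 : F)).prime.dvd_of_dvd_pow ((mul_dvd_mul_iff_left (pow_ne_zero p (X_sub_C_ne_zero 1))).1 h2)
      obtain ⟨v', hv'⟩ := h4
      have h5 := congrArg (fun P : F[X] => (derivative P).eval 1) hv
      rw [hv'] at h5
      simp [derivative_pow] at h5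
      exact hrp ((Nat.prime_dvd_prime_iff_eq hp hr).1 ((CharP.cast_eq_zero_iff F p r).1 h5)).symm
    rw [he, show (X ^ p - 1 : F[X]) = (X - C 1) ^ p by rw [sub_pow_char, C_1, one_pow]]
    exact hX
  · have hk2 := Nat.le_of_dvd hz1 (PrimeGraph.dvd_natDegree hzi hz0 hr (a := r) (b := 1) (by rw [mul_one]; exact hfr z hz) hone)
    by_cases hzw : z = w
    · subst hzw
      have := hle z hz
      have := Nat.mul_le_mul_right z.1.natDegree hw2
      omega
    · obtain ⟨m, hm⟩ := Multiset.exists_cons_of_mem hw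
      rw [hm] at hsum hz
      have hle' := Multiset.le_sum_of_mem (Multiset.mem_map_of_mem (fun y : F[X] × ℕ => y.2 * y.1.natDegree)
        ((Multiset.mem_cons.1 hz).resolve_left hzw))
      simp only [Multiset.map_cons, Multiset.sum_cons] at hsum
      have := Nat.mul_le_mul hw2 hw1
      have := Nat.le_mul_of_pos_left z.1.natDegree (show 0 < z.2 by omega)
      omega

/-- With two dimensions all mixed elements are scalar modulo the `p`-th power; in three dimensions, when
three divides `q - 1` exactly once, likewise. -/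
theorem scalar_pow {p : ℕ} [Fact p.Prime] [CharP F p] {n : ℕ} (g : Matrix.SpecialLinearGroup (Fin n) F) {N : ℕ}
    (hN : ¬ p ∣ N) (hgN : (g : Matrix (Fin n) (Fin n) F) ^ (N * p) = 1) (hne : (g : Matrix (Fin n) (Fin n) F) ^ N ≠ 1)
    (hn : n = 2 ∨ n = 3 ∧ ∀ a : F, a ^ N = 1 → a ^ 3 = 1) :
    ∃ c : F, (g : Matrix (Fin n) (Fin n) F) ^ p = Matrix.scalar (Fin n) c := by
  classical
  obtain ⟨x, hxg⟩ : ∃ x : GL (Fin n) F, (x : Matrix (Fin n) (Fin n) F) = (g : Matrix (Fin n) (Fin n) F) :=
    ⟨Matrix.SpecialLinearGroup.toGL g, rfl⟩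
  obtain ⟨h1, hsum⟩ := matInv_spec x
  rw [Fintype.card_fin] at hsum
  have hall := (pow_eq_one_iff_matInv x (N * p)).1 (Units.ext (by rw [Units.val_pow_eq_pow_val, hxg]; exact hgN))
  have hz : ∃ z ∈ matInv (x : Matrix (Fin n) (Fin n) F), ¬ z.1 ^ z.2 ∣ X ^ N - 1 := by
    have h : ¬ x ^ N = 1 := fun h => hne (by rw [← hxg, ← Units.val_pow_eq_pow_val, h, Units.val_one])
    rw [pow_eq_one_iff_matInv] at h
    push Not at h
    exact h
  obtain ⟨z, hz, hzn⟩ := hz
  obtain ⟨hzm, hzi, hz0, hze⟩ := h1 z hz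
  have hexp : ∀ v ∈ matInv (x : Matrix (Fin n) (Fin n) F), v.1 ^ v.2 ∣ (X ^ N - 1) ^ p := fun v hv => by
    rw [sub_pow_char, one_pow, ← pow_mul]; exact hall v hv
  have hsq : Squarefree (X ^ N - 1 : F[X]) := squarefree_X_pow_sub_one (p := p)
    (Nat.coprime_comm.1 ((Fact.out : p.Prime).coprime_iff_not_dvd.2 hN))
  have hN0 : (N : F) ≠ 0 := fun h => hN ((CharP.cast_eq_zero_iff F p N).1 h)
  have hd : ∀ v ∈ matInv (x : Matrix (Fin n) (Fin n) F), v.1 ∣ X ^ N - 1 := fun v hv =>
    (h1 v hv).2.1.prime.dvd_of_dvd_pow ((dvd_pow_self _ (show v.2 ≠ 0 by have := (h1 v hv).2.2.2; omega)).trans (hexp v hv))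
  have hz2 : 2 ≤ z.2 := by
    by_contra h
    exact hzn (by rw [show z.2 = 1 by omega, pow_one]; exact hd z hz)
  obtain ⟨m, hm⟩ := Multiset.exists_cons_of_mem hz
  rw [hm, Multiset.map_cons, Multiset.sum_cons] at hsum
  have hzd := hzi.natDegree_pos
  have hmul := Nat.mul_le_mul hz2 (le_refl z.1.natDegree)
  have hz1 : z.1.natDegree = 1 := by rcases hn with h | h <;> omega
  rw [hz1, mul_one] at hsum
  obtain ⟨a, hza⟩ : ∃ a : F, z.1 = X - C a := ⟨-z.1.coeff 0, by rw [hzm.eq_X_add_C hz1]; simp⟩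
  have haN : a ^ N = 1 := by
    have h := hd z hz
    rw [hza, dvd_iff_isRoot] at h
    simpa [IsRoot, sub_eq_zero] using h
  -- every root equals `a`
  have heq : ∀ v ∈ matInv (x : Matrix (Fin n) (Fin n) F), v.1 = X - C a := by
    intro v hv
    rw [hm, Multiset.mem_cons] at hv
    rcases hv with rfl | hv
    · exact hza
    · have hvm : v ∈ matInv (x : Matrix (Fin n) (Fin n) F) := hm ▸ Multiset.mem_cons_of_mem hv
      obtain ⟨m', hm'⟩ := Multiset.exists_cons_of_mem hv
      rw [hm', Multiset.map_cons, Multiset.sum_cons] at hsum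
      have hvd := (h1 v hvm).2.1.natDegree_pos
      have hve := (h1 v hvm).2.2.2
      have hv1 := Nat.mul_pos (show 0 < v.2 by omega) hvd
      rcases hn with hn | ⟨hn, h3⟩
      · omega
      have hm0 : m' = 0 := by
        by_contra h0
        obtain ⟨w, hw⟩ := Multiset.exists_mem_of_ne_zero h0
        have hwm : w ∈ matInv (x : Matrix (Fin n) (Fin n) F) :=
          hm ▸ Multiset.mem_cons_of_mem (hm' ▸ Multiset.mem_cons_of_mem hw)
        have := Multiset.le_sum_of_mem (Multiset.mem_map_of_mem (fun y : F[X] × ℕ => y.2 * y.1.natDegree) hw)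
        have := Nat.mul_pos (show 0 < w.2 by have := (h1 w hwm).2.2.2; omega) (h1 w hwm).2.1.natDegree_pos
        omega
      have hv11 : v.2 * v.1.natDegree = 1 := by omega
      obtain ⟨hv2, hvdeg⟩ := mul_eq_one.1 hv11
      have hdet := Matrix.det_eq_sign_charpoly_coeff (x : Matrix (Fin n) (Fin n) F)
      rw [charpoly_eq_matInv, hm, hm', hm0, hxg, g.2] at hdet
      simp only [Multiset.map_cons, Multiset.map_zero, Multiset.prod_cons, Multiset.prod_zero, mul_one] at hdet
      obtain ⟨b, hvb⟩ : ∃ b : F, v.1 = X - C b := ⟨-v.1.coeff 0, by rw [(h1 v hvm).1.eq_X_add_C hvdeg]; simp⟩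
      rw [hza, hvb, hv2, show z.2 = 2 by omega, Fintype.card_fin, hn, coeff_zero_eq_eval_zero] at hdet
      simp at hdet
      have hab : a * a * b = 1 := by linear_combination -hdet
      have hb : b = a := by
        have h := h3 a haN
        have : a ≠ 0 := fun h0 => by rw [h0] at h; simp at h
        refine mul_left_cancel₀ (mul_ne_zero this this) ?_
        linear_combination hab - h
      rw [hvb, hb]
  refine ⟨a ^ p, ?_⟩
  have h : aeval (toEnd (x : Matrix (Fin n) (Fin n) F)) (X ^ p - C (a ^ p) : F[X]) = 0 := by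
    refine (aeval_eq_zero_iff_matInv _ _).2 fun v hv => ?_
    rw [heq v hv, C_pow, ← sub_pow_char]
    refine pow_dvd_pow _ ?_
    by_contra hlt
    have h2 : (X - C a : F[X]) ^ (p + 1) ∣ (X ^ N - 1) ^ p := (pow_dvd_pow _ (by omega)).trans (heq v hv ▸ hexp v hv)
    obtain ⟨w, hw⟩ : (X - C a : F[X]) ∣ X ^ N - 1 := dvd_iff_isRoot.2 (by simp [IsRoot, haN])
    rw [hw, mul_pow, pow_succ] at h2
    obtain ⟨w', hw'⟩ := (irreducible_X_sub_C a).prime.dvd_of_dvd_pow ((mul_dvd_mul_iff_left (pow_ne_zero p (X_sub_C_ne_zero a))).1 h2)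
    refine (irreducible_X_sub_C a).not_isUnit (hsq _ ?_)
    rw [hw, hw', ← mul_assoc]
    exact dvd_mul_right _ _
  rw [toEnd, Polynomial.aeval_algHom_apply, map_eq_zero_iff _ (Matrix.toLinAlgEquiv' (R := F) (n := Fin n)).injective,
    map_sub, map_pow, aeval_X, aeval_C, sub_eq_zero, hxg] at h
  exact h

/-- Adjacency of an odd prime and the characteristic in the prime graph of PSL(n,q): let F be a finite field of characteristic p with q elements, n ≥ 2 with PSL(n,F) simple, and let r ≠ p be an odd prime dividing the order of PSL(n,F), with k the multiplicative order of q modulo r. Then PSL(n,F) has NO element of order r·p if and only if either k > n − 2, or n = 3, r = 3 and 3 divides q − 1 exactly once. -/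
theorem result {F : Type*} [Field F] [Fintype F] (p : ℕ) [Fact p.Prime] [CharP F p] (n : ℕ) (hn : 2 ≤ n) (hsmall : n = 2 → 4 ≤ Fintype.card F)
    (r : ℕ) (hr : r.Prime) (hr2 : r ≠ 2) (hrp : r ≠ p) (hrG : r ∣ Nat.card (Matrix.ProjectiveSpecialLinearGroup (Fin n) F))
    (k : ℕ) (hk : k = orderOf ((Fintype.card F : ℕ) : ZMod r)) :
    (r * p ∉ Set.range (orderOf : Matrix.ProjectiveSpecialLinearGroup (Fin n) F → ℕ)) ↔
      (n - 2 < k ∨ (n = 3 ∧ r = 3 ∧ 3 ∣ Fintype.card F - 1 ∧ ¬ 9 ∣ Fintype.card F - 1)) := by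
  classical
  have hp : p.Prime := Fact.out
  have hq : 1 < Fintype.card F := Fintype.one_lt_card
  have : Fact r.Prime := ⟨hr⟩
  have hq0 : ((Fintype.card F : ℕ) : ZMod r) ≠ 0 := by
    obtain ⟨⟨f, hf⟩, -, hcard⟩ := FiniteField.card F p
    simp only [PNat.mk_coe] at hcard
    rw [Ne, ZMod.natCast_eq_zero_iff, hcard]
    exact fun h => hrp ((Nat.prime_dvd_prime_iff_eq hr hp).1 (hr.dvd_of_dvd_pow h))
  have hk1 : 1 ≤ k := by
    rw [hk, ← Units.val_mk0 hq0, orderOf_units]
    exact orderOf_pos _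
  have hpq : p.Coprime (Fintype.card F - 1) := by
    rw [hp.coprime_iff_not_dvd]
    intro hd
    have h2 := (CharP.cast_eq_zero_iff F p (Fintype.card F - 1)).2 hd
    rw [Nat.cast_sub hq.le, Nat.cast_one, FiniteField.cast_card_eq_zero, zero_sub, neg_eq_zero] at h2
    exact one_ne_zero h2
  rcases Nat.lt_or_ge k 2 with hk2 | hk2
  · obtain rfl : k = 1 := by omega
    have hrd : r ∣ Fintype.card F - 1 := by
      rw [eq_comm, orderOf_eq_one_iff] at hk
      rw [← ZMod.natCast_eq_zero_iff, Nat.cast_sub hq.le, hk, Nat.cast_one, sub_self]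
    constructor
    · intro h
      by_contra hcon
      push Not at hcon
      obtain ⟨h1, h2⟩ := hcon
      obtain ⟨m, rfl⟩ : ∃ m, n = m + 3 := ⟨n - 3, by omega⟩
      obtain ⟨a, ha, hra⟩ : ∃ a : Fˣ, (m = 0 → ∀ j : ℕ, (a ^ 3) ^ j = 1 → r ∣ j) ∧ (m ≠ 0 → ∀ j : ℕ, a ^ j = 1 → r ∣ j) := by
        obtain ⟨a, ha⟩ := exists_prime_orderOf_dvd_card' (G := Fˣ) r (by rwa [Nat.card_units, Nat.card_eq_fintype_card])
        by_cases hm : m = 0
        · by_cases hr3 : r = 3
          · have h9 : 9 ∣ Fintype.card F - 1 := h2 (by omega) hr3 (hr3 ▸ hrd)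
            obtain ⟨g, hg⟩ := IsCyclic.exists_generator (α := Fˣ)
            obtain ⟨b, hb⟩ : ∃ b : Fˣ, orderOf b = 9 := PrimeGraph.mem_range_of_dvd g (by
              rwa [orderOf_eq_card_of_forall_mem_zpowers hg, Nat.card_units, Nat.card_eq_fintype_card])
            refine ⟨b, fun _ j hj => ?_, fun h => absurd hm h⟩
            have h3 := orderOf_dvd_of_pow_eq_one (show b ^ (3 * j) = 1 by rw [pow_mul, hj])
            rw [hb] at h3
            rw [hr3]
            omega
          · refine ⟨a, fun _ j hj => ?_, fun h => absurd hm h⟩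
            have h3 := orderOf_dvd_of_pow_eq_one (show a ^ (3 * j) = 1 by rw [pow_mul, hj])
            rw [ha] at h3
            exact (hr.dvd_mul.1 h3).resolve_left fun h => hr3 ((Nat.prime_dvd_prime_iff_eq hr Nat.prime_three).1 h)
        · exact ⟨a, fun h => absurd h hm, fun _ j hj => ha ▸ orderOf_dvd_of_pow_eq_one hj⟩
      let i0 : Fin (m + 3) := ⟨0, by omega⟩
      let i1 : Fin (m + 3) := ⟨1, by omega⟩
      let i2 : Fin (m + 3) := ⟨2, by omega⟩
      obtain ⟨d, hd⟩ : ∃ d : Fin (m + 3) → F, d = fun i =>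
          if i = i0 then (a : F) else if i = i1 then (a : F) else if i = i2 then ((a⁻¹ * a⁻¹ : Fˣ) : F) else 1 := ⟨_, rfl⟩
      have hd0 : d i0 = a := by simp [hd]
      have hd1 : d i1 = a := by simp [hd, i0, i1]
      have hd2 : d i2 = ((a⁻¹ * a⁻¹ : Fˣ) : F) := by simp [hd, i0, i1, i2]
      have hprod : ∏ i, d i = 1 := by
        rw [Fin.prod_univ_succ, Fin.prod_univ_succ, Fin.prod_univ_succ, Finset.prod_eq_one fun i _ => ?_, mul_one]
        · show d i0 * (d i1 * d i2) = 1
          rw [hd0, hd1, hd2, ← Units.val_mul, ← Units.val_mul, mul_inv_cancel_left, mul_inv_cancel, Units.val_one]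
        · have e : ∀ c : ℕ, ∀ h : c < m + 3, i.succ.succ.succ = ⟨c, h⟩ → 3 ≤ c := fun c h e => by
            have := congrArg Fin.val e
            simp at this
            omega
          simp only [hd]
          rw [if_neg (fun h => by have := e _ _ h; omega), if_neg (fun h => by have := e _ _ h; omega),
            if_neg (fun h => by have := e _ _ h; omega)]
      obtain ⟨E, hE⟩ : ∃ E : Matrix (Fin (m + 3)) (Fin (m + 3)) F, E = Matrix.single i0 i1 1 := ⟨_, rfl⟩
      have h01 : i0 ≠ i1 := by simp [i0, i1]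
      have hEE : E * E = 0 := by rw [hE, Matrix.single_mul_single_of_ne _ _ _ _ h01.symm]
      have hDE : Matrix.diagonal d * E = (a : F) • E := by
        ext i j
        rw [Matrix.diagonal_mul, Matrix.smul_apply, smul_eq_mul, hE, Matrix.single_apply]
        split_ifs with h
        · rw [← h.1, hd0]
        · simp
      have hED : E * Matrix.diagonal d = (a : F) • E := by
        ext i j
        rw [Matrix.mul_diagonal, Matrix.smul_apply, smul_eq_mul, hE, Matrix.single_apply]
        split_ifs with h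
        · rw [← h.2, hd1, mul_comm]
        · simp
      have hdet : (Matrix.diagonal d * (1 + E)).det = 1 := by
        rw [Matrix.det_mul, Matrix.det_diagonal, hprod, one_mul, Matrix.det_of_upperTriangular]
        · refine Finset.prod_eq_one fun i _ => ?_
          rw [Matrix.add_apply, Matrix.one_apply_eq, hE, Matrix.single_apply, if_neg fun h => h01 (h.1.trans h.2.symm), add_zero]
        · intro i j hij
          simp only [id] at hij
          rw [Matrix.add_apply, Matrix.one_apply_ne hij.ne', hE, Matrix.single_apply, if_neg, add_zero]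
          rintro ⟨rfl, rfl⟩
          have : (1 : ℕ) < 0 := hij
          omega
      have hpow : ∀ j : ℕ, (Matrix.diagonal d * (1 + E)) ^ j = Matrix.diagonal (d ^ j) + ((j : F) * (a : F) ^ j) • E := by
        intro j
        induction j with
        | zero => simp
        | succ j ih =>
          have hjE : Matrix.diagonal (d ^ j) * E = (a : F) ^ j • E := by
            ext i l
            rw [Matrix.diagonal_mul, Matrix.smul_apply, smul_eq_mul, hE, Matrix.single_apply]
            split_ifs with h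
            · rw [← h.1, Pi.pow_apply, hd0]
            · simp
          rw [pow_succ, ih, mul_add (Matrix.diagonal d), mul_one, hDE]
          simp only [add_mul, mul_add, Matrix.smul_mul, Matrix.mul_smul, hED, hEE, hjE, smul_smul, smul_zero, add_zero,
            Matrix.diagonal_mul_diagonal]
          rw [add_assoc, ← add_smul]
          congr 2
          · exact funext fun i => (pow_succ (d i) j).symm
          · push_cast; ring
      let g0 : Matrix.SpecialLinearGroup (Fin (m + 3)) F := ⟨_, hdet⟩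
      refine h (PrimeGraph.mem_range_of_dvd (QuotientGroup.mk g0) ?_)
      obtain ⟨j, hj⟩ : ∃ j, j = orderOf (QuotientGroup.mk g0 :
        Matrix.ProjectiveSpecialLinearGroup (Fin (m + 3)) F) := ⟨_, rfl⟩
      obtain ⟨c, hc⟩ := (mk_pow_eq_one_iff _ _).1 (hj ▸ pow_orderOf_eq_one _ :
        (QuotientGroup.mk g0 :
          Matrix.ProjectiveSpecialLinearGroup (Fin (m + 3)) F) ^ j = 1)
      change (Matrix.diagonal d * (1 + E)) ^ j = _ at hc
      rw [hpow, Matrix.scalar_apply] at hc
      have e01 := congrFun (congrFun hc i0) i1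
      have e00 := congrFun (congrFun hc i0) i0
      have e22 := congrFun (congrFun hc i2) i2
      rw [Matrix.add_apply, Matrix.diagonal_apply_eq, Matrix.diagonal_apply_eq, Pi.pow_apply, hd0] at e00
      rw [Matrix.add_apply, Matrix.diagonal_apply_eq, Matrix.diagonal_apply_eq, Pi.pow_apply, hd2] at e22
      simp [hE, Matrix.single_apply, i0, i2, i1] at e01 e00 e22
      rw [← hj]
      refine Nat.Coprime.mul_dvd_of_dvd_of_dvd ((Nat.coprime_primes hr hp).2 hrp) ?_ ((CharP.cast_eq_zero_iff F p j).1 e01)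
      by_cases hm : m = 0
      · refine ha hm j (Units.ext ?_)
        rw [Units.val_pow_eq_pow_val, Units.val_pow_eq_pow_val, Units.val_one]
        have e : ((a : F)⁻¹ * (a : F)⁻¹) ^ j = (a : F) ^ j := e22.trans e00.symm
        calc ((a : F) ^ 3) ^ j = ((a : F) * a) ^ j * (a : F) ^ j := by rw [← mul_pow]; ring_nf
          _ = ((a : F) * a) ^ j * ((a : F)⁻¹ * (a : F)⁻¹) ^ j := by rw [e]
          _ = 1 := by rw [← mul_pow, show (a : F) * a * ((a : F)⁻¹ * (a : F)⁻¹) = 1 by field_simp, one_pow]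
      · refine hra hm j (Units.ext ?_)
        rw [Units.val_pow_eq_pow_val, Units.val_one]
        let i3 : Fin (m + 3) := ⟨3, by omega⟩
        have e33 := congrFun (congrFun hc i3) i3
        simp [hE, hd, Matrix.single_apply, i0, i1, i2, i3] at e33
        rw [e00, ← e33]
    · intro hrhs
      rintro ⟨y, hy⟩
      obtain ⟨g, rfl⟩ := QuotientGroup.mk_surjective y
      obtain ⟨c, hc⟩ := (mk_pow_eq_one_iff g (r * p)).1 (hy ▸ pow_orderOf_eq_one _)
      have hdetc : c ^ n = 1 := by
        have h := congrArg Matrix.det hc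
        rw [Matrix.det_pow, g.2, one_pow, Matrix.scalar_apply, Matrix.det_diagonal, Finset.prod_const, Finset.card_univ,
          Fintype.card_fin] at h
        exact h.symm
      have hg : ∀ N : ℕ, (g : Matrix (Fin n) (Fin n) F) ^ N = 1 → r * p ∣ N := fun N h => hy ▸
        orderOf_dvd_of_pow_eq_one ((mk_pow_eq_one_iff g N).2 ⟨1, by rw [h, map_one]⟩)
      have hscal : ∀ c : F, ¬ (g : Matrix (Fin n) (Fin n) F) ^ p = Matrix.scalar (Fin n) c := fun c h => by
        have h3 := Nat.le_of_dvd hp.pos (hy ▸ orderOf_dvd_of_pow_eq_one ((mk_pow_eq_one_iff g p).2 ⟨c, h⟩))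
        have := Nat.mul_le_mul_right p hr.two_le
        have := hp.pos
        omega
      have hn23 : n = 2 ∨ (n = 3 ∧ r = 3 ∧ 3 ∣ Fintype.card F - 1 ∧ ¬ 9 ∣ Fintype.card F - 1) :=
        hrhs.imp (fun h => by omega) id
      -- the order of the scalar is prime to `p`
      obtain ⟨e, he⟩ : ∃ e, e = Nat.gcd n (Fintype.card F - 1) := ⟨_, rfl⟩
      have hce : c ^ e = 1 := by
        rw [he]
        refine pow_gcd_eq_one.2 ⟨hdetc, FiniteField.pow_card_sub_one_eq_one c ?_⟩
        intro h0
        rw [h0, zero_pow (by omega)] at hdetc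
        exact zero_ne_one hdetc
      have hNp : ¬ p ∣ r * e := by
        intro h
        rcases hp.dvd_mul.1 h with h | h
        · exact hrp ((Nat.prime_dvd_prime_iff_eq hp hr).1 h).symm
        · exact (hp.coprime_iff_not_dvd.1 hpq) (h.trans (he ▸ Nat.gcd_dvd_right _ _))
      obtain ⟨c', hc'⟩ := scalar_pow (p := p) g hNp
        (by rw [show r * e * p = r * p * e by ring, pow_mul, hc, ← map_pow, hce, map_one])
        (fun h => hNp (dvd_trans (dvd_mul_left p r) (hg _ h)))
        (hn23.imp id fun ⟨h1, h2, h3, h4⟩ => ⟨h1, fun x hx => by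
          subst h1 h2
          have hx0 : x ≠ 0 := fun h0 => by rw [h0, zero_pow] at hx; exact zero_ne_one hx; rw [he]; simp
          have h5 := pow_gcd_eq_one.2 ⟨hx, FiniteField.pow_card_sub_one_eq_one x hx0⟩
          have hge : Nat.gcd (3 * e) (Fintype.card F - 1) = 3 := by
            rw [he, Nat.gcd_eq_left h3]
            refine Nat.dvd_antisymm ?_ (Nat.dvd_gcd (by norm_num) h3)
            have hg9 : Nat.gcd (3 * 3) (Fintype.card F - 1) ∣ 3 ^ 2 := Nat.gcd_dvd_left _ _
            obtain ⟨i, hi, hgi⟩ := (Nat.dvd_prime_pow Nat.prime_three).1 hg9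
            interval_cases i
            · rw [hgi]; norm_num
            · rw [hgi]; norm_num
            · have h9 := Nat.gcd_dvd_right (3 * 3) (Fintype.card F - 1)
              rw [hgi] at h9
              exact absurd (by simpa using h9) h4
          rwa [hge] at h5⟩)
      exact hscal c' hc'
  · have hrq : r.Coprime (Fintype.card F - 1) := by
      rw [hr.coprime_iff_not_dvd]
      intro hd
      rw [← ZMod.natCast_eq_zero_iff, Nat.cast_sub hq.le, Nat.cast_one, sub_eq_zero] at hd
      rw [hk, hd, orderOf_one] at hk2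
      omega
    rw [PrimeGraph.mem_range_psl_iff (Nat.Coprime.mul_left hrq hpq)]
    constructor
    · intro h
      refine Or.inl (not_le.1 fun hle => ?_)
      obtain ⟨x, hx, hxp⟩ := PrimeGraph.exists_order (F := F) (n := n) (p := p) [k] (by simp; omega) true (by simp; omega)
      refine h (PrimeGraph.mem_range_of_dvd x (Nat.Coprime.mul_dvd_of_dvd_of_dvd ((Nat.coprime_primes hr hp).2 hrp) ?_ (hxp rfl)))
      refine Dvd.dvd.trans ?_ (hx k (by simp))
      rw [← ZMod.natCast_eq_zero_iff, Nat.cast_sub (Nat.one_le_pow _ _ (by omega)), Nat.cast_pow, hk, pow_orderOf_eq_one,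
        Nat.cast_one, sub_self]
    · rintro (hlt | ⟨h3, h4, h5, -⟩) ⟨x, hx⟩
      · have := mixed hr hrp (hk ▸ hk2) x hx
        omega
      · exact (hr.coprime_iff_not_dvd.1 hrq) (h4 ▸ h5)

end Cfsg.Agent.S2470
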