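import Cfsg.Statements.S2471
import Cfsg.Agent.Lib.SL2Trace.Basic

set_option autoImplicit false
open Cfsg Cfsg.Agent.Lib.SL2Trace

namespace Cfsg.Agent.S2471

/-- In PSL(2,q) with q odd, the characteristic p is isolated from 2 in the prime graph: for F a finite field of odd characteristic p with at least 5 elements, PSL(2,F) has no element of order 2p. -/
theorem result {F : Type*} [Field F] [Fintype F] (p : ℕ) [Fact p.Prime] [CharP F p] (hp : p ≠ 2) (h5 : 5 ≤ Fintype.card F) (g : Matrix.ProjectiveSpecialLinearGroup (Fin 2) F) :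
    orderOf g ≠ 2 * p := by
  obtain ⟨A, rfl⟩ := toPSL_surjective g
  intro h
  have hp2 : 2 ≤ p := Nat.Prime.two_le Fact.out
  have hop : ¬ 2 * p ∣ p := fun hd => by
    have := Nat.le_of_dvd (by omega) hd
    omega
  by_cases ht : tr A ^ 2 = 4
  · refine hop (h ▸ orderOf_dvd_of_pow_eq_one ?_)
    rw [← map_pow]
    exact toPSL_eq_one.mpr (pow_char_of_tr p ht)
  · obtain ⟨n, -, hn⟩ := FiniteField.card F p
    have hpq : p ∣ Fintype.card F := hn ▸ dvd_pow_self p n.ne_zero
    have hq := Fintype.card_pos (α := F)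
    rcases pow_dichotomy ht with ⟨-, hA⟩ | ⟨-, hA⟩ <;>
      have hd : p ∣ _ := (dvd_mul_left p 2).trans (h ▸ orderOf_dvd_of_pow_eq_one
        (by rw [← map_pow, hA, map_one] : toPSL A ^ _ = 1))
    · have := Nat.dvd_sub hpq hd
      rw [Nat.sub_sub_self (by omega)] at this
      have := Nat.dvd_one.1 this
      omega
    · have := (Nat.dvd_add_right hpq).1 hd
      have := Nat.dvd_one.1 this
      omega

end Cfsg.Agent.S2471
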