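import Cfsg.Statements.S2472
import Mathlib
import Cfsg.Agent.Lib.Similar.SympGraph

set_option autoImplicit false
open Cfsg

namespace Cfsg.Agent.S2472

open Cfsg.Agent.Lib.Similar Polynomial

/-- Adjacency of a prime and the characteristic in the prime graph of PSp(2n,q): let F be a finite field of characteristic p with q elements, n ≥ 2 with PSp(2n,F) simple, and let r ≠ p be an odd prime dividing the order of PSp(2n,F), with k the multiplicative order of q modulo r and η(k) = k for odd k, k/2 for even k. Then PSp(2n,F) has NO element of order r·p if and only if η(k) > n − 1. -/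
theorem result {F : Type*} [Field F] [Fintype F] (p : ℕ) [Fact p.Prime] [CharP F p] (n : ℕ) (hn : 2 ≤ n) (hsmall : n = 2 → 3 ≤ Fintype.card F)
    (r : ℕ) (hr : r.Prime) (hr2 : r ≠ 2) (hrp : r ≠ p) (hrG : r ∣ Nat.card (Cfsg.PSp n F))
    (k ηk : ℕ) (hk : k = orderOf ((Fintype.card F : ℕ) : ZMod r)) (hηk : (Odd k ∧ ηk = k) ∨ (Even k ∧ 2 * ηk = k)) :
    (r * p ∉ Set.range (orderOf : Cfsg.PSp n F → ℕ)) ↔ n - 1 < ηk := by
  classical
  have : Fact r.Prime := ⟨hr⟩
  have hp : p.Prime := Fact.out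
  have hn1 : 1 ≤ n := by omega
  have hk1 : 1 ≤ k := hk ▸ SympGraph.one_le_orderOf (p := p) hr hrp
  have hco : r.Coprime p := (Nat.coprime_primes hr hp).2 hrp
  constructor
  · intro h
    by_contra hcon
    obtain ⟨d0, d1⟩ := SympGraph.dvd_eta hr hk hk1 hηk odd_one
    rw [mul_one] at d0 d1
    have hpos : 0 < ηk := by rcases hηk with ⟨-, e⟩ | ⟨-, e⟩ <;> omega
    have := (SympGraph.has_torus hpos ((Nat.even_or_odd k).elim (fun he => .inr (d1 he)) fun ho => .inl (d0 ho))).prod
      (SympGraph.has_transvection (F := F) (p := p))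
    rw [hco.lcm_eq_mul] at this
    refine h (SympGraph.mem_range_of_has hn1 ?_ (by omega) this)
    rcases eq_or_ne p 2 with rfl | h2
    · exact .inr (by simpa using CharP.cast_eq_zero F 2)
    · exact .inl (Nat.Coprime.mul_left ((Nat.coprime_primes hr Nat.prime_two).2 hr2) ((Nat.coprime_primes hp Nat.prime_two).2 h2))
  · intro hlt h
    obtain ⟨x, hx⟩ := SympGraph.exists_sp hn1 h
    obtain ⟨t, ht1, ht2, ht3, ht4⟩ := SympGraph.factors x (hx ▸ pow_orderOf_eq_one x)
    have hne : ∀ b, 0 < b → b < r * p → x ^ b ≠ 1 := fun b h1 h2 h => by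
      have := Nat.le_of_dvd h1 (hx ▸ orderOf_dvd_of_pow_eq_one h); omega
    have hfr : (X ^ (r * p) - 1 : F[X]) = (X ^ r - 1) ^ p := by rw [sub_pow_char, one_pow, pow_mul]
    have hdr : ∀ y ∈ t, y ∣ X ^ r - 1 := fun y hy => (ht1 y hy).2.1.prime.dvd_of_dvd_pow (hfr ▸ (ht1 y hy).2.2.2)
    obtain ⟨f, hf, e, -, he1, he2⟩ := ht4 p (hne p hp.pos (lt_mul_of_one_lt_left hp.pos hr.one_lt))
    obtain ⟨g, hg, e', hrep, -, he2'⟩ := ht4 r (hne r hr.pos (lt_mul_of_one_lt_right hr.pos hp.one_lt))
    obtain ⟨hfm, hfi, hf0, -⟩ := ht1 f hf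
    obtain ⟨hgm, hgi, hg0, -⟩ := ht1 g hg
    have hfn : ¬ f ∣ X ^ 1 - 1 := by
      intro hone
      rw [pow_one] at hone
      refine he2 ?_
      have hle : e ≤ p := by
        by_contra hgt
        obtain ⟨w, hw⟩ := hdr f hf
        have h2 : f ^ (p + 1) ∣ (X ^ r - 1) ^ p := (pow_dvd_pow _ (by omega)).trans (hfr ▸ he1)
        rw [hw, mul_pow, pow_succ] at h2
        obtain ⟨w', hw'⟩ := hfi.prime.dvd_of_dvd_pow ((mul_dvd_mul_iff_left (pow_ne_zero p hfi.ne_zero)).1 h2)
        refine hfi.not_isUnit ((Polynomial.separable_X_pow_sub_C (n := r) (1 : F) ?_ one_ne_zero).squarefree f ?_)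
        · rw [Ne, CharP.cast_eq_zero_iff F p]
          exact fun hd => hrp ((Nat.prime_dvd_prime_iff_eq hp hr).1 hd).symm
        · rw [C_1, hw, hw', ← mul_assoc]; exact dvd_mul_right _ _
      calc f ^ e ∣ f ^ p := pow_dvd_pow _ hle
        _ ∣ (X - 1) ^ p := pow_dvd_pow_of_dvd hone p
        _ = X ^ p - 1 := by rw [sub_pow_char, one_pow]
    have he' : 2 ≤ e' := by
      by_contra hgt
      refine he2' ((pow_dvd_pow _ (show e' ≤ 1 by omega)).trans ?_)
      rw [pow_one]
      exact hdr g hg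
    obtain ⟨c1, c2⟩ := SympGraph.contrib ht2 hf hfi hf0 hr hr2 hk hηk (b := 1) (by rw [mul_one]; exact hdr f hf) hfn
    have hle : g ::ₘ ({f, starP (RingHom.id F) f} : Finset F[X]).1 ≤ t := by
      rw [Multiset.le_iff_count]
      intro y
      rw [Multiset.count_cons]
      by_cases hy : y = g
      · subst hy
        have h1 := (Multiset.le_count_iff_replicate_le.2 hrep)
        have h2 := Multiset.nodup_iff_count_le_one.1 (({f, starP (RingHom.id F) f} : Finset F[X]).nodup) y
        rw [if_pos rfl]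
        omega
      · rw [if_neg hy, add_zero]
        exact Multiset.le_iff_count.1 c2 y
    have hsum := SympGraph.sum_le_of_le hle
    rw [ht3, Multiset.map_cons, Multiset.sum_cons] at hsum
    have := hgi.natDegree_pos
    have h2 : 2 * ηk ≤ ((({f, starP (RingHom.id F) f} : Finset F[X]).1).map natDegree).sum := c1
    omega

end Cfsg.Agent.S2472
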