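import Cfsg.Statements.S2474
import Cfsg.Agent.Lib.Similar.OddTwoGraph
import Cfsg.Agent.Lib.SpSpec.Absorb

set_option autoImplicit false
open Cfsg

namespace Cfsg.Agent.S2474

open Polynomial
open Cfsg.Agent.Lib.Similar
open Cfsg.Agent.Lib.Similar.TorusFactors
open Cfsg.Agent.Lib.SpSpec (mk_pow_eq_one exists_mixed exists_torus_psp)

variable {F : Type*} [Field F] [Fintype F] {n : ℕ}

/-- The factors of a symplectic matrix. -/
theorem sp_factors (x : Matrix.symplecticGroup (Fin n) F) {M : ℕ} (hx : x ^ M = 1) :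
    ∃ (G : Matrix.GeneralLinearGroup (Fin n ⊕ Fin n) F) (t : Multiset F[X]), G.1 = x.1 ∧
      (∀ b : ℕ, x ^ b = 1 ↔ G ^ b = 1) ∧ Data t M n ∧ t.prod = (x.1 : Matrix (Fin n ⊕ Fin n) (Fin n ⊕ Fin n) F).charpoly ∧
      ∀ b : ℕ, x ^ b ≠ 1 → ∃ f ∈ t, ∃ e, Multiset.replicate e f ≤ t ∧ f ^ e ∣ X ^ M - 1 ∧ ¬ f ^ e ∣ X ^ b - 1 := by
  classical
  obtain ⟨G, hG⟩ := (S2389.toMat_isUnit x : IsUnit (x : Matrix (Fin n ⊕ Fin n) (Fin n ⊕ Fin n) F))
  have hpow : ∀ b, x ^ b = 1 ↔ G ^ b = 1 := fun b => by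
    rw [Units.ext_iff, Subtype.ext_iff, Units.val_pow_eq_pow_val, SubmonoidClass.coe_pow, hG]
    exact Iff.rfl
  have hinv : ((G : Matrix (Fin n ⊕ Fin n) (Fin n ⊕ Fin n) F)⁻¹).charpoly = (G : Matrix (Fin n ⊕ Fin n) (Fin n ⊕ Fin n) F).charpoly := by
    have hsadj : Symp.sadj (G : Matrix (Fin n ⊕ Fin n) (Fin n ⊕ Fin n) F) * G = 1 := by rw [hG]; exact Symp.mem_iff.1 x.2
    rw [Matrix.inv_eq_left_inv hsadj, Symp.sadj, ← mul_neg, Matrix.charpoly_mul_comm, neg_mul, ← mul_assoc,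
      Matrix.J_squared, neg_one_mul, neg_neg, Matrix.charpoly_transpose]
  obtain ⟨t, ht1, ht2, ht3, ht4, ht5⟩ := factors G hinv ((hpow M).1 hx)
  refine ⟨G, t, hG, hpow, ⟨ht1, ht2, ?_⟩, by rw [ht4, hG], fun b hb => ht5 b fun h => hb ((hpow b).2 h)⟩
  rw [ht3, Fintype.card_sum, Fintype.card_fin]
  omega

theorem pow_ne {G : Type*} [Group G] {x : G} {b N : ℕ} (ho : orderOf x = N) (hb : 0 < b) (hbN : b < N) : x ^ b ≠ 1 := fun h => by
  have := Nat.le_of_dvd hb (ho ▸ orderOf_dvd_of_pow_eq_one h)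
  omega

theorem mem_of_mem_dvd {N : ℕ} (y : Cfsg.PSp n F) (h : N ∣ orderOf y) :
    N ∈ Set.range (orderOf : Cfsg.PSp n F → ℕ) := PrimeGraph.mem_range_of_dvd y h

theorem psp_two_odd (hn : 3 ≤ n) {p r s : ℕ} [Fact p.Prime] [CharP F p] (hr : r.Prime) (hs : s.Prime)
    (hr2 : r ≠ 2) (hs2 : s ≠ 2) (hrp : r ≠ p) (hsp : s ≠ p) (hrs : r ≠ s) :
    r * s ∈ Set.range (orderOf : Cfsg.PSp n F → ℕ) ↔
      ((∃ d, d ≤ n ∧ Tor F d (r * s)) ∨ ∃ d d', d + d' ≤ n ∧ Tor F d r ∧ Tor F d' s) := by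
  have hp : p.Prime := Fact.out
  have hco : (r * s).Coprime 2 := Nat.Coprime.mul_left ((Nat.coprime_primes hr Nat.prime_two).2 hr2)
    ((Nat.coprime_primes hs Nat.prime_two).2 hs2)
  constructor
  · intro h
    obtain ⟨x, hx⟩ := SympGraph.exists_sp (by omega) h
    obtain ⟨G, t, -, -, hD, -, ht5⟩ := sp_factors x (hx ▸ pow_orderOf_eq_one x)
    have hM : ¬ p ∣ r * s := fun h => (hp.dvd_mul.1 h).elim
      (fun h => hrp ((Nat.prime_dvd_prime_iff_eq hp hr).1 h).symm) fun h => hsp ((Nat.prime_dvd_prime_iff_eq hp hs).1 h).symm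
    have hti : ∀ f ∈ t, Irreducible f := fun f hf => (hD.1 f hf).2.1
    obtain ⟨f, hf, -, hfn⟩ := see_factor (p := p) hM hti (ht5 s (pow_ne hx hs.pos (lt_mul_of_one_lt_left hs.pos hr.one_lt)))
    obtain ⟨f', hf', -, hfn'⟩ := see_factor (p := p) hM hti (ht5 r (pow_ne hx hr.pos (lt_mul_of_one_lt_right hr.pos hs.one_lt)))
    exact two_primes hr hs hr2 hs2 hrs hD ⟨f, hf, hfn⟩ ⟨f', hf', hfn'⟩
  · rintro (⟨d, hd, hd0, ht⟩ | ⟨d, d', hd, ⟨hd0, ht⟩, hd0', ht'⟩)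
    · exact SympGraph.mem_range_of_has (by omega) (.inl hco) hd (SympGraph.has_torus hd0 ht)
    · have h := (SympGraph.has_torus (F := F) hd0 ht).prod (SympGraph.has_torus hd0' ht')
      rw [((Nat.coprime_primes hr hs).2 hrs).lcm_eq_mul] at h
      exact SympGraph.mem_range_of_has (by omega) (.inl hco) hd h

theorem psp_odd_char (h2 : (2 : F) ≠ 0) (hn : 3 ≤ n) {p r : ℕ} [Fact p.Prime] [CharP F p] (hr : r.Prime)
    (hr2 : r ≠ 2) (hrp : r ≠ p) :
    r * p ∈ Set.range (orderOf : Cfsg.PSp n F → ℕ) ↔ ∃ d, d + 1 ≤ n ∧ Tor F d r := by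
  have hp : p.Prime := Fact.out
  constructor
  · intro h
    obtain ⟨x, hx⟩ := SympGraph.exists_sp (by omega) h
    obtain ⟨G, t, -, -, hD, -, ht5⟩ := sp_factors x (hx ▸ pow_orderOf_eq_one x)
    refine prime_char hr hr2 hrp hD ?_
    rintro b (rfl | rfl)
    · exact ht5 _ (pow_ne hx hp.pos (lt_mul_of_one_lt_left hp.pos hr.one_lt))
    · exact ht5 _ (pow_ne hx hr.pos (lt_mul_of_one_lt_right hr.pos hp.one_lt))
  · rintro ⟨d, hd, hd0, ht⟩
    obtain ⟨y, hy⟩ := exists_mixed (p := p) h2 (n := n) (j := 0) hd0 (by omega) (hr.odd_of_ne_two hr2)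
      ((Nat.coprime_primes hp hr).2 hrp.symm) ht (by simp; omega)
    exact mem_of_mem_dvd y (Dvd.dvd.trans ⟨2, by ring⟩ hy)

theorem psp_two_p (h2 : (2 : F) ≠ 0) (hn : 3 ≤ n) {p : ℕ} [Fact p.Prime] [CharP F p] :
    2 * p ∈ Set.range (orderOf : Cfsg.PSp n F → ℕ) := by
  obtain ⟨y, hy⟩ := exists_mixed (p := p) h2 (n := n) (d := 1) (e := 1) (j := 0) one_pos (by omega) odd_one
    (Nat.coprime_one_right p) (.inl (one_dvd _)) (by simp; omega)
  exact mem_of_mem_dvd y (Dvd.dvd.trans ⟨1, by ring⟩ hy)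

theorem psp_two_odd_prime (h2 : (2 : F) ≠ 0) (hn : 3 ≤ n) {p r : ℕ} [Fact p.Prime] [CharP F p] (hp2 : p ≠ 2)
    (hr : r.Prime) (hr2 : r ≠ 2) (hrp : r ≠ p) :
    2 * r ∈ Set.range (orderOf : Cfsg.PSp n F → ℕ) ↔ ((∃ d, d + 1 ≤ n ∧ Tor F d r) ∨ Tor F n (4 * r)) := by
  classical
  have hp : p.Prime := Fact.out
  constructor
  · rintro ⟨y, hy⟩
    obtain ⟨x, rfl⟩ := QuotientGroup.mk_surjective y
    have hx4 : x ^ (4 * r) = 1 := by
      rw [show 4 * r = 2 * r * 2 by ring, pow_mul]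
      rcases (mk_pow_eq_one (by omega) x (2 * r)).1 (hy ▸ pow_orderOf_eq_one _) with h | h
      · rw [h, one_pow]
      · exact Subtype.ext (by rw [SubmonoidClass.coe_pow, h, neg_one_sq]; rfl)
    have hne : x ^ 4 ≠ 1 := fun h => by
      have h4 : r ∣ 2 ^ 2 := (dvd_mul_left r 2).trans
        (hy ▸ orderOf_dvd_of_pow_eq_one ((mk_pow_eq_one (by omega) x 4).2 (.inl h)))
      exact hr2 ((Nat.prime_dvd_prime_iff_eq hr Nat.prime_two).1 (hr.dvd_of_dvd_pow h4))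
    obtain ⟨G, t, hG, -, hD, hprod, ht5⟩ := sp_factors x hx4
    have hM : ¬ p ∣ 4 * r := fun h => (hp.dvd_mul.1 h).elim
      (fun h => hp2 ((Nat.prime_dvd_prime_iff_eq hp Nat.prime_two).1 (hp.dvd_of_dvd_pow (show p ∣ 2 ^ 2 from h))))
      fun h => hrp ((Nat.prime_dvd_prime_iff_eq hp hr).1 h).symm
    obtain ⟨f, hf, -, hfn⟩ := see_factor (p := p) hM (fun f hf => (hD.1 f hf).2.1) (ht5 4 hne)
    rcases two_prime (n := n) (show 2 ≤ n by omega) hr (.inr rfl) hD ⟨f, hf, hfn⟩ with hl | ⟨N, hN, hn0, -, h⟩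
    · exact .inl hl
    rcases h with ⟨-, h4⟩ | ⟨R, c, u, hc, hRd, hRdeg, -, -, hpr, hu⟩
    · exact .inr ⟨hn0, hN.elim (fun e => .inl (e ▸ h4)) fun e => .inr (e ▸ h4)⟩
    exfalso
    rw [hprod] at hpr
    have hdeg := congrArg natDegree hpr
    rw [Matrix.charpoly_natDegree_eq_dim, Fintype.card_sum, Fintype.card_fin] at hdeg
    rcases hu with rfl | ⟨e, -, rfl⟩
    · rw [Multiset.prod_zero, mul_one] at hpr
      obtain ⟨w, hw⟩ := hRd
      have h0 : aeval (x.1 : Matrix (Fin n ⊕ Fin n) (Fin n ⊕ Fin n) F) (X ^ r - C c) = 0 := by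
        rw [hw, ← hpr, map_mul, Matrix.aeval_self_charpoly, zero_mul]
      rw [map_sub, map_pow, aeval_X, aeval_C, sub_eq_zero, ← SubmonoidClass.coe_pow] at h0
      have h1 : (QuotientGroup.mk x : Cfsg.PSp n F) ^ r = 1 := by
        refine (mk_pow_eq_one (by omega) x r).2 ?_
        rcases hc with rfl | rfl
        · exact .inl (Subtype.ext (by rw [h0, map_one]; rfl))
        · exact .inr (by rw [h0, map_neg, map_one])
      have := Nat.le_of_dvd hr.pos (hy ▸ orderOf_dvd_of_pow_eq_one h1)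
      have := hr.pos
      omega
    · rw [Multiset.prod_singleton, natDegree_mul (fun h => by rw [h, natDegree_zero] at hRdeg; omega) (X_sub_C_ne_zero e),
        natDegree_X_sub_C] at hdeg
      omega
  · rintro (⟨d, hd, hd0, ht⟩ | ⟨-, ht⟩)
    · obtain ⟨y, hy⟩ := exists_mixed (p := p) h2 (n := n) (j := 0) hd0 (by omega) (hr.odd_of_ne_two hr2)
        ((Nat.coprime_primes hp hr).2 hrp.symm) ht (by simp; omega)
      exact mem_of_mem_dvd y (Dvd.dvd.trans ⟨p, by ring⟩ hy)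
    · obtain ⟨⟨y, hy⟩, y', hy'⟩ := exists_torus_psp (F := F) (show 1 ≤ n by omega) h2
      rcases ht with ⟨k, hk⟩ | ⟨k, hk⟩
      · refine mem_of_mem_dvd y (Dvd.dvd.trans ⟨k, ?_⟩ hy)
        rw [hk, show 4 * r * k = 2 * (2 * r * k) by ring, Nat.mul_div_cancel_left _ two_pos]
      · refine mem_of_mem_dvd y' (Dvd.dvd.trans ⟨k, ?_⟩ hy')
        rw [hk, show 4 * r * k = 2 * (2 * r * k) by ring, Nat.mul_div_cancel_left _ two_pos]

theorem same_graph (hodd : Odd (Fintype.card F)) (hn : 3 ≤ n) {r s : ℕ} (hr : r.Prime) (hs : s.Prime) (hrs : r ≠ s) :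
    (r * s ∈ Set.range (orderOf : Cfsg.POmega F (Cfsg.quadFormOdd n F) → ℕ)) ↔
      (r * s ∈ Set.range (orderOf : Cfsg.PSp n F → ℕ)) := by
  have h2 : (2 : F) ≠ 0 := Cfsg.Agent.Lib.Geometry.two_ne_zero_of_odd_card hodd
  obtain ⟨p, hpc⟩ := CharP.exists F
  haveI := hpc
  haveI : Fact p.Prime := ⟨CharP.char_is_prime F p⟩
  have hp2 : p ≠ 2 := by
    rintro rfl
    exact h2 (by exact_mod_cast CharP.cast_eq_zero F 2)
  have two : ∀ {a : ℕ}, a.Prime → a ≠ 2 →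
      ((2 * a ∈ Set.range (orderOf : Cfsg.POmega F (Cfsg.quadFormOdd n F) → ℕ)) ↔
        (2 * a ∈ Set.range (orderOf : Cfsg.PSp n F → ℕ))) := fun {a} ha ha2 => by
    by_cases hap : a = p
    · subst hap
      exact iff_of_true (OddGraph.two_p h2 hn hp2) (psp_two_p h2 hn)
    · rw [OddGraph.two_odd_prime hodd h2 hn hp2 ha ha2 hap, psp_two_odd_prime h2 hn hp2 ha ha2 hap]
  have oddp : ∀ {a : ℕ}, a.Prime → a ≠ 2 → a ≠ p →
      ((a * p ∈ Set.range (orderOf : Cfsg.POmega F (Cfsg.quadFormOdd n F) → ℕ)) ↔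
        (a * p ∈ Set.range (orderOf : Cfsg.PSp n F → ℕ))) := fun {a} ha ha2 hap => by
    rw [OddGraph.odd_char h2 hn hp2 ha ha2 hap, psp_odd_char h2 hn ha ha2 hap]
  by_cases hr2 : r = 2
  · subst hr2
    exact two hs hrs.symm
  by_cases hs2 : s = 2
  · subst hs2
    rw [mul_comm]
    exact two hr hr2
  by_cases hrp : r = p
  · subst hrp
    rw [mul_comm]
    exact oddp hs hs2 hrs.symm
  by_cases hsp : s = p
  · subst hsp
    exact oddp hr hr2 hrp
  rw [OddGraph.two_odd h2 hn hr hs hr2 hs2 hrp hsp hrs, psp_two_odd (p := p) hn hr hs hr2 hs2 hrp hsp hrs]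

/-- For q odd and n ≥ 3 the simple groups PΩ(2n+1,q) and PSp(2n,q) (which have the same order but different sets of element orders) have the same prime graph: for all distinct primes r, s, one of them has an element of order r·s if and only if the other does. -/
theorem result {F : Type*} [Field F] [Fintype F] (hodd : Odd (Fintype.card F)) (n : ℕ) (hn : 3 ≤ n) (r s : ℕ) (hr : r.Prime) (hs : s.Prime) (hrs : r ≠ s) :
    (r * s ∈ Set.range (orderOf : Cfsg.POmega F (Cfsg.quadFormOdd n F) → ℕ)) ↔ (r * s ∈ Set.range (orderOf : Cfsg.PSp n F → ℕ)) :=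
  same_graph hodd hn hr hs hrs

end Cfsg.Agent.S2474
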