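import Cfsg.Statements.S2475
import Cfsg.Agent.Lib.Geometry.Dickson.Tori

set_option autoImplicit false
open Cfsg Cfsg.Agent.Lib.SL2Trace Cfsg.Agent.Lib.Geometry.Dickson

namespace Cfsg.Agent.S2475

/-- The set of element orders of PSL(2,q): let F be a finite field of characteristic p with q ≥ 4 elements and d = gcd(2, q − 1). The orders of elements of PSL(2,F) are exactly the divisors of p, of (q − 1)/d and of (q + 1)/d. -/
theorem result {F : Type*} [Field F] [Fintype F] (p : ℕ) [Fact p.Prime] [CharP F p] (h4 : 4 ≤ Fintype.card F) :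
    Set.range (orderOf : Matrix.ProjectiveSpecialLinearGroup (Fin 2) F → ℕ) =
      {m : ℕ | m ∣ p ∨ m ∣ (Fintype.card F - 1) / Nat.gcd 2 (Fintype.card F - 1) ∨ m ∣ (Fintype.card F + 1) / Nat.gcd 2 (Fintype.card F - 1)} := by
  classical
  have hd2 := Nat.gcd_dvd_right 2 (Fintype.card F - 1)
  have himg : ∀ {y : Matrix.SpecialLinearGroup (Fin 2) F} {m : ℕ},
      Nat.card (cell ⊤ y) = Nat.card (Subgroup.center (Matrix.SpecialLinearGroup (Fin 2) F)) * m →
      toPSL y ^ m = 1 := by
    intro y m hm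
    have hc := card_map_toPSL ⊤ le_top (cell ⊤ y) (center_le_cell ⊤ le_top y) le_top
    rw [hm] at hc
    have hcard : Nat.card ((cell ⊤ y).map (toPSL (F := F))) = m :=
      (Nat.eq_of_mul_eq_mul_left Nat.card_pos hc).symm
    have h1 := pow_card_eq_one' (x := (⟨toPSL y, Subgroup.mem_map_of_mem _
      (mem_cell_self ⊤ (Subgroup.mem_top y))⟩ : (cell ⊤ y).map (toPSL (F := F))))
    rw [hcard] at h1
    exact congrArg Subtype.val h1
  have hmk : ∀ {x : Matrix.ProjectiveSpecialLinearGroup (Fin 2) F} {m : ℕ}, m ∣ orderOf x →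
      m ∈ Set.range (orderOf : Matrix.ProjectiveSpecialLinearGroup (Fin 2) F → ℕ) := by
    intro x m hm
    have hx0 := (orderOf_pos x).ne'
    have hm0 : m ≠ 0 := fun e => hx0 (zero_dvd_iff.1 (e ▸ hm))
    exact ⟨x ^ (orderOf x / m), by
      rw [orderOf_pow_of_dvd (Nat.div_ne_zero_iff_of_dvd hm |>.2 ⟨hx0, hm0⟩) (Nat.div_dvd_of_dvd hm),
        Nat.div_div_self hm hx0]⟩
  ext m
  constructor
  · rintro ⟨g, rfl⟩
    obtain ⟨A, rfl⟩ := toPSL_surjective g
    by_cases ht : tr A ^ 2 = 4
    · exact Or.inl (orderOf_dvd_of_pow_eq_one (by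
        rw [← map_pow]; exact toPSL_eq_one.mpr (pow_char_of_tr p ht)))
    · have hy : A ∉ Subgroup.center (Matrix.SpecialLinearGroup (Fin 2) F) := fun h => by
        apply ht
        rcases mem_center_iff.1 h with rfl | rfl
        · simp [tr]; norm_num
        · simp [tr]; norm_num
      by_cases hs : IsSplit A
      · exact Or.inr (Or.inl (orderOf_dvd_of_pow_eq_one (himg (split_half hy ht hs))))
      · exact Or.inr (Or.inr (orderOf_dvd_of_pow_eq_one (himg (nonsplit_half hy ht hs))))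
  · rintro (h | h | h)
    · obtain ⟨u, hu⟩ : ∃ u : Matrix.SpecialLinearGroup (Fin 2) F,
          (u : Matrix (Fin 2) (Fin 2) F) = !![1, 1; 0, 1] := ⟨⟨!![1, 1; 0, 1], by simp⟩, rfl⟩
      have hu4 : tr u ^ 2 = 4 := by rw [tr_eq, hu]; simp; norm_num
      have hu1 : toPSL u ≠ 1 := fun e => by
        rcases toPSL_eq_one.1 e with e' | e' <;>
          simpa [hu] using congrFun (congrFun (congrArg (fun g : Matrix.SpecialLinearGroup (Fin 2) F =>
            (g : Matrix (Fin 2) (Fin 2) F)) e') 0) 1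
      refine hmk (x := toPSL u) ?_
      rw [orderOf_eq_prime (by rw [← map_pow]; exact toPSL_eq_one.mpr (pow_char_of_tr p hu4)) hu1]
      exact h
    · obtain ⟨y, hs, ht, hy⟩ := exists_split h4
      obtain ⟨-, x, -, hx⟩ := torusNorm_data hy ht (split_half hy ht hs)
      exact hmk (x := x) (hx.symm ▸ h)
    · obtain ⟨y, hs, ht, hy⟩ := exists_nonsplit (F := F)
      obtain ⟨-, x, -, hx⟩ := torusNorm_data hy ht (nonsplit_half hy ht hs)
      exact hmk (x := x) (hx.symm ▸ h)

end Cfsg.Agent.S2475
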