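import Cfsg.Statements.S2476
import Mathlib

set_option autoImplicit false
open Cfsg

namespace Cfsg.Agent.S2476

set_option linter.all false
open Polynomial

section

variable {F : Type*} [Field F]

local notation "M3" => Matrix (Fin 3) (Fin 3) F
local notation "SL3" => Matrix.SpecialLinearGroup (Fin 3) F
local notation "PSL3" => Matrix.ProjectiveSpecialLinearGroup (Fin 3) F

/-- The projection to the projective group. -/
def proj (g : SL3) : PSL3 := QuotientGroup.mk' _ g

theorem scalar_pow_three {g : SL3} {c : F} (h : (g : M3) = Matrix.scalar (Fin 3) c) :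
    c ^ 3 = 1 := by
  have := g.2
  rw [h, Matrix.scalar_apply, Matrix.det_diagonal] at this
  simpa using this

theorem proj_pow_eq_one {g : SL3} {k : ℕ} :
    proj g ^ k = 1 ↔ ∃ c : F, c ^ 3 = 1 ∧ (g : M3) ^ k = Matrix.scalar (Fin 3) c := by
  unfold proj
  rw [← map_pow]
  show ((g ^ k : SL3) : SL3 ⧸ Subgroup.center SL3) = 1 ↔ _
  rw [QuotientGroup.eq_one_iff, Matrix.SpecialLinearGroup.mem_center_iff]
  simp only [Fintype.card_fin, Matrix.SpecialLinearGroup.coe_pow, eq_comm]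

theorem order_dvd {g : SL3} {k : ℕ} {c : F}
    (h : (g : M3).charpoly ∣ X ^ k - C c) : orderOf (proj g) ∣ k := by
  obtain ⟨r, hr⟩ := h
  have := congrArg (aeval (g : M3)) hr
  rw [map_mul, Matrix.aeval_self_charpoly, zero_mul, map_sub, map_pow, aeval_X, aeval_C,
    sub_eq_zero] at this
  have h2 : (g : M3) ^ k = Matrix.scalar (Fin 3) c := this
  have h3 : ((g ^ k : SL3) : M3) = Matrix.scalar (Fin 3) c := by simpa using h2
  exact orderOf_dvd_of_pow_eq_one (proj_pow_eq_one.2 ⟨c, scalar_pow_three h3, h2⟩)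

theorem realise [Finite F] {N : ℕ} (g : SL3)
    (h : ∀ k c, c ^ 3 = 1 → (g : M3) ^ k = Matrix.scalar (Fin 3) c → N ∣ k)
    {m : ℕ} (hm : m ∣ N) : ∃ x : PSL3, orderOf x = m := by
  haveI : Finite SL3 := inferInstance
  haveI : Finite PSL3 := Quotient.finite _
  obtain ⟨c, hc, hk⟩ := proj_pow_eq_one.1 (pow_orderOf_eq_one (proj g))
  have hd : m ∣ orderOf (proj g) := hm.trans (h _ _ hc hk)
  exact ⟨proj g ^ (orderOf (proj g) / m),
    orderOf_pow_orderOf_div (orderOf_pos _).ne' hd⟩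

theorem gcd_three_cases (n : ℕ) : Nat.gcd 3 n = 1 ∨ Nat.gcd 3 n = 3 :=
  Nat.prime_three.eq_one_or_self_of_dvd _ (Nat.gcd_dvd_left _ _)

theorem dvd_gcd_three_mul {a k : ℕ} (h : a ∣ 3 * k) : a ∣ Nat.gcd 3 a * k := by
  rw [← Nat.gcd_mul_right]
  exact Nat.dvd_gcd h (Dvd.intro k rfl)

variable [Fintype F]

theorem frob_pow {a : F} (ha : a ≠ 0) : a ^ (Fintype.card F - 1) = 1 :=
  FiniteField.pow_card_sub_one_eq_one a ha

theorem three_mul {a : F} (ha : a ≠ 0) {e : ℕ}
    (he : Fintype.card F - 1 = Nat.gcd 3 (Fintype.card F - 1) * e) : (a ^ e) ^ 3 = 1 := by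
  obtain ⟨f, hf⟩ := Nat.gcd_dvd_left 3 (Fintype.card F - 1)
  rw [← pow_mul, mul_comm e, hf, mul_right_comm, ← he, pow_mul, frob_pow ha, one_pow]

theorem d_dvd_sum (n : ℕ) :
    Nat.gcd 3 n ∣ (n + 1) ^ 2 + (n + 1) + 1 := by
  rw [show (n + 1) ^ 2 + (n + 1) + 1 = n * (n + 3) + 3 by ring]
  exact dvd_add ((Nat.gcd_dvd_right 3 n).mul_right _) (Nat.gcd_dvd_left 3 n)

theorem root_of_unity_mem {K : Type*} [Field K] [Algebra F K] {z : K}
    (hz : z ^ Nat.gcd 3 (Fintype.card F - 1) = 1) : ∃ c : F, algebraMap F K c = z := by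
  set d := Nat.gcd 3 (Fintype.card F - 1)
  classical
  obtain ⟨u, hu⟩ := IsCyclic.exists_ofOrder_eq_natCard (α := Fˣ)
  have hcard : orderOf u = Fintype.card F - 1 := by
    rw [hu, Nat.card_units, Nat.card_eq_fintype_card]
  obtain ⟨e, he⟩ := Nat.gcd_dvd_right 3 (Fintype.card F - 1)
  have hdpos : 0 < d := Nat.gcd_pos_of_pos_left _ (by norm_num)
  haveI : NeZero d := ⟨hdpos.ne'⟩
  have hpos : 0 < Fintype.card F - 1 := by
    have := Fintype.one_lt_card (α := F); omega
  have hprim : IsPrimitiveRoot (u : F) (Fintype.card F - 1) := by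
    rw [← hcard]; exact IsPrimitiveRoot.coe_units_iff.2 (IsPrimitiveRoot.orderOf u)
  have hw : IsPrimitiveRoot ((u : F) ^ e) d := hprim.pow hpos (by rw [mul_comm]; exact he)
  obtain ⟨i, -, hi⟩ := (hw.map_of_injective (algebraMap F K).injective).eq_pow_of_pow_eq_one hz
  exact ⟨((u : F) ^ e) ^ i, by rw [map_pow]; exact hi⟩

theorem case_irreducible {g : SL3} (h : Irreducible (g : M3).charpoly) :
    orderOf (proj g) ∣
      (Fintype.card F ^ 2 + Fintype.card F + 1) / Nat.gcd 3 (Fintype.card F - 1) := by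
  set q := Fintype.card F
  set d := Nat.gcd 3 (q - 1)
  set χ := (g : M3).charpoly with hχ
  haveI := Fact.mk h
  have hm : χ.Monic := Matrix.charpoly_monic _
  have hdeg : χ.natDegree = 3 := by rw [hχ, Matrix.charpoly_natDegree_eq_dim, Fintype.card_fin]
  set pb := AdjoinRoot.powerBasis hm.ne_zero
  have hdim : Module.finrank F (AdjoinRoot χ) = 3 := by
    rw [pb.finrank, AdjoinRoot.powerBasis_dim, hdeg]
  haveI : Module.Finite F (AdjoinRoot χ) := pb.finite
  haveI : Finite (AdjoinRoot χ) := Module.finite_of_finite F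
  have hnorm : Algebra.norm F (AdjoinRoot.root χ) = 1 := by
    have h1 := Algebra.PowerBasis.norm_gen_eq_coeff_zero_minpoly pb
    rw [AdjoinRoot.powerBasis_gen, AdjoinRoot.minpoly_root hm.ne_zero, AdjoinRoot.powerBasis_dim,
      hdeg, hm.leadingCoeff, inv_one, map_one, mul_one] at h1
    rw [h1]
    have h2 := Matrix.det_eq_sign_charpoly_coeff (g : M3)
    rw [g.2, Fintype.card_fin] at h2
    exact h2.symm
  have hpow : AdjoinRoot.root χ ^ (q ^ 2 + q + 1) = 1 := by
    have := FiniteField.algebraMap_norm_eq_pow_sum F (AdjoinRoot χ) (AdjoinRoot.root χ)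
    rw [hnorm, map_one, hdim, Nat.card_eq_fintype_card] at this
    simp only [Finset.sum_range_succ, Finset.sum_range_zero, pow_zero, pow_one, zero_add] at this
    rw [show q ^ 2 + q + 1 = 1 + q + q ^ 2 by ring]; exact this.symm
  have hdvd : d ∣ q ^ 2 + q + 1 := by
    have := d_dvd_sum (q - 1)
    rwa [Nat.sub_add_cancel (Fintype.card_pos : 0 < q)] at this
  obtain ⟨c, hc⟩ := root_of_unity_mem (K := AdjoinRoot χ)
    (z := AdjoinRoot.root χ ^ ((q ^ 2 + q + 1) / d))
    (by rw [← pow_mul, Nat.div_mul_cancel hdvd, hpow])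
  refine order_dvd (c := c) (AdjoinRoot.mk_eq_zero.1 ?_)
  rw [map_sub, map_pow, AdjoinRoot.mk_X, AdjoinRoot.mk_C, sub_eq_zero]
  exact hc.symm

theorem case_quadratic {g : SL3} {a : F} {Q : F[X]}
    (hf : (g : M3).charpoly = (X - C a) * Q) (hQm : Q.Monic) (hQd : Q.natDegree = 2)
    (hQ : Irreducible Q) :
    orderOf (proj g) ∣ (Fintype.card F ^ 2 - 1) / Nat.gcd 3 (Fintype.card F - 1) := by
  set q := Fintype.card F
  set d := Nat.gcd 3 (q - 1)
  have h0 : a * Q.coeff 0 = 1 := by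
    have h2 := Matrix.det_eq_sign_charpoly_coeff (g : M3)
    rw [g.2, Fintype.card_fin, hf, mul_coeff_zero] at h2
    simp at h2
    linear_combination -h2
  have ha : a ≠ 0 := left_ne_zero_of_mul_eq_one h0
  obtain ⟨e, he⟩ := Nat.gcd_dvd_right 3 (q - 1)
  have he' : q - 1 = d * e := he
  have hq : q = d * e + 1 := by
    have hq0 : 0 < q := Fintype.card_pos
    rw [← he']; omega
  have hdpos : 0 < d := Nat.gcd_pos_of_pos_left _ (by norm_num)
  have hk : (q ^ 2 - 1) / d = e * (q + 1) := by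
    apply Nat.div_eq_of_eq_mul_left hdpos
    rw [hq]; apply Nat.sub_eq_of_eq_add; ring
  haveI := Fact.mk hQ
  set pb := AdjoinRoot.powerBasis hQm.ne_zero
  have hdim : Module.finrank F (AdjoinRoot Q) = 2 := by
    rw [pb.finrank, AdjoinRoot.powerBasis_dim, hQd]
  haveI : Module.Finite F (AdjoinRoot Q) := pb.finite
  haveI : Finite (AdjoinRoot Q) := Module.finite_of_finite F
  have hnorm : Algebra.norm F (AdjoinRoot.root Q) = Q.coeff 0 := by
    have h1 := Algebra.PowerBasis.norm_gen_eq_coeff_zero_minpoly pb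
    rw [AdjoinRoot.powerBasis_gen, AdjoinRoot.minpoly_root hQm.ne_zero, AdjoinRoot.powerBasis_dim,
      hQd, hQm.leadingCoeff, inv_one, map_one, mul_one] at h1
    simpa using h1
  have hpow : AdjoinRoot.root Q ^ (q + 1) = algebraMap F _ (Q.coeff 0) := by
    have := FiniteField.algebraMap_norm_eq_pow_sum F (AdjoinRoot Q) (AdjoinRoot.root Q)
    rw [hnorm, hdim, Nat.card_eq_fintype_card] at this
    simp only [Finset.sum_range_succ, Finset.sum_range_zero, pow_zero, pow_one, zero_add] at this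
    rw [add_comm q 1]; exact this.symm
  have hae : a ^ (e * (q + 1)) = (Q.coeff 0) ^ e := by
    have h3 := three_mul ha he
    have h4 : a ^ (e * (q + 1)) = (a ^ e) ^ 2 := by
      have hq2 : q + 1 = (q - 1) + 2 := by
        have hq0 : 0 < q := Fintype.card_pos
        omega
      rw [show e * (q + 1) = (q - 1) * e + e * 2 by rw [hq2]; ring,
        pow_add, pow_mul, frob_pow ha, one_pow, one_mul, pow_mul]
    rw [h4, eq_inv_of_mul_eq_one_right h0, inv_pow]
    exact eq_inv_of_mul_eq_one_left ((pow_succ _ _).symm.trans h3)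
  rw [hk]
  refine order_dvd (c := (Q.coeff 0) ^ e) ?_
  rw [hf]
  refine IsCoprime.mul_dvd ?_ ?_ ?_
  · refine (irreducible_X_sub_C a).coprime_iff_not_dvd.2 fun hh => ?_
    exact hQ.not_isRoot_of_natDegree_ne_one (by omega) (dvd_iff_isRoot.1 hh)
  · rw [dvd_iff_isRoot]; simp [hae]
  · refine AdjoinRoot.mk_eq_zero.1 ?_
    rw [map_sub, map_pow, AdjoinRoot.mk_X, AdjoinRoot.mk_C, sub_eq_zero, mul_comm e, pow_mul,
      hpow, ← map_pow]
    rfl

theorem case_double (p : ℕ) [Fact p.Prime] [CharP F p] {g : SL3} {a b : F} (hab : a ≠ b)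
    (hf : (g : M3).charpoly = (X - C a) ^ 2 * (X - C b)) (hdet : a ^ 2 * b = 1) :
    orderOf (proj g) ∣ p * (Fintype.card F - 1) / Nat.gcd 3 (Fintype.card F - 1) := by
  set q := Fintype.card F
  set d := Nat.gcd 3 (q - 1)
  obtain ⟨e, he⟩ := Nat.gcd_dvd_right 3 (q - 1)
  have hdpos : 0 < d := Nat.gcd_pos_of_pos_left _ (by norm_num)
  have hk : p * (q - 1) / d = e * p := by
    apply Nat.div_eq_of_eq_mul_left hdpos
    rw [he]; ring
  have ha : a ≠ 0 := by rintro rfl; simp at hdet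
  have hb : b ^ e = a ^ e := by
    have h3 := three_mul ha he
    rw [eq_inv_of_mul_eq_one_right hdet, inv_pow, ← pow_mul, mul_comm 2, pow_mul]
    exact inv_eq_of_mul_eq_one_right ((pow_succ _ _).symm.trans h3)
  rw [hk]
  refine order_dvd (c := (a ^ e) ^ p) ?_
  rw [hf, pow_mul, map_pow C (a ^ e) p, ← sub_pow_char]
  refine IsCoprime.mul_dvd ((isCoprime_X_sub_C_of_isUnit_sub
    (sub_ne_zero.2 hab).isUnit).pow_left) ?_ ?_
  · refine dvd_trans (pow_dvd_pow_of_dvd ?_ 2) (pow_dvd_pow _ (Fact.out : p.Prime).two_le)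
    rw [dvd_iff_isRoot]; simp
  · refine dvd_pow ?_ (Fact.out : p.Prime).ne_zero
    rw [dvd_iff_isRoot]; simp [hb]

theorem upper (p : ℕ) [Fact p.Prime] [CharP F p] (g : SL3) :
    orderOf (proj g) ∣
        (Fintype.card F ^ 2 + Fintype.card F + 1) / Nat.gcd 3 (Fintype.card F - 1) ∨
      orderOf (proj g) ∣ (Fintype.card F ^ 2 - 1) / Nat.gcd 3 (Fintype.card F - 1) ∨
      orderOf (proj g) ∣ Fintype.card F - 1 ∨
      orderOf (proj g) ∣ p * (Fintype.card F - 1) / Nat.gcd 3 (Fintype.card F - 1) ∨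
      (p = 2 ∧ orderOf (proj g) ∣ 4) := by
  have hm : (g : M3).charpoly.Monic := Matrix.charpoly_monic _
  have hdeg : (g : M3).charpoly.natDegree = 3 := by
    rw [Matrix.charpoly_natDegree_eq_dim, Fintype.card_fin]
  by_cases hroot : ∃ a, (g : M3).charpoly.IsRoot a
  swap
  · exact Or.inl (case_irreducible ((irreducible_iff_roots_eq_zero_of_degree_le_three
      (by omega) (by omega)).2 (Multiset.eq_zero_of_forall_notMem fun a ha =>
        hroot ⟨a, (mem_roots'.1 ha).2⟩)))
  obtain ⟨a, ha⟩ := hroot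
  obtain ⟨Q, hQ⟩ := dvd_iff_isRoot.2 ha
  have hQm : Q.Monic := (monic_X_sub_C a).of_mul_monic_left (hQ ▸ hm)
  have hQd : Q.natDegree = 2 := by
    rw [hQ, natDegree_mul (X_sub_C_ne_zero a) hQm.ne_zero, natDegree_X_sub_C] at hdeg
    omega
  by_cases hroot : ∃ b, Q.IsRoot b
  swap
  · exact Or.inr (Or.inl (case_quadratic hQ hQm hQd
      ((irreducible_iff_roots_eq_zero_of_degree_le_three
      (by omega) (by omega)).2 (Multiset.eq_zero_of_forall_notMem fun a ha =>
        hroot ⟨a, (mem_roots'.1 ha).2⟩))))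
  obtain ⟨b, hb⟩ := hroot
  obtain ⟨R, hR⟩ := dvd_iff_isRoot.2 hb
  have hRm : R.Monic := (monic_X_sub_C b).of_mul_monic_left (hR ▸ hQm)
  obtain ⟨c, hc⟩ : ∃ c, R = X - C c := by
    refine ⟨-R.coeff 0, ?_⟩
    have : R.natDegree = 1 := by
      rw [hR, natDegree_mul (X_sub_C_ne_zero b) hRm.ne_zero, natDegree_X_sub_C] at hQd
      omega
    rw [hRm.eq_X_add_C this]; simp
  rw [hR, hc] at hQ
  have hdet : a * b * c = 1 := by
    have h2 := Matrix.det_eq_sign_charpoly_coeff (g : M3)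
    rw [g.2, Fintype.card_fin, hQ, mul_coeff_zero, mul_coeff_zero] at h2
    simp at h2
    linear_combination -h2
  have ha0 : a ≠ 0 := by rintro rfl; simp at hdet
  have hb0 : b ≠ 0 := by rintro rfl; simp at hdet
  have hc0 : c ≠ 0 := by rintro rfl; simp at hdet
  by_cases hab : a = b
  · subst hab
    by_cases hac : a = c
    · subst hac
      have h3 : (g : M3).charpoly = (X - C a) ^ 3 := by rw [hQ]; ring
      rcases (Fact.out : p.Prime).eq_two_or_odd with hp | hp
      · subst hp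
        refine Or.inr (Or.inr (Or.inr (Or.inr ⟨rfl, order_dvd (c := a ^ 2 ^ 2) ?_⟩)))
        rw [h3, show (4 : ℕ) = 2 ^ 2 from rfl, map_pow C a, ← sub_pow_char_pow]
        exact pow_dvd_pow _ (by norm_num)
      · refine Or.inr (Or.inr (Or.inr (Or.inl
          (dvd_trans (order_dvd (k := p) (c := a ^ p) ?_) ?_))))
        · rw [h3, map_pow C a, ← sub_pow_char]
          have := (Fact.out : p.Prime).two_le
          exact pow_dvd_pow _ (by omega)
        · rw [Nat.mul_div_assoc _ (Nat.gcd_dvd_right _ _)]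
          exact dvd_mul_right _ _
    · exact Or.inr (Or.inr (Or.inr (Or.inl (case_double p hac (by rw [hQ]; ring)
        (by linear_combination hdet)))))
  by_cases hac : a = c
  · subst hac
    exact Or.inr (Or.inr (Or.inr (Or.inl (case_double p hab (by rw [hQ]; ring)
      (by linear_combination hdet)))))
  by_cases hbc : b = c
  · subst hbc
    exact Or.inr (Or.inr (Or.inr (Or.inl (case_double p (Ne.symm hab) (by rw [hQ]; ring)
      (by linear_combination hdet)))))
  refine Or.inr (Or.inr (Or.inl (order_dvd (c := 1) ?_)))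
  rw [hQ]
  refine IsCoprime.mul_dvd (IsCoprime.mul_right
      (isCoprime_X_sub_C_of_isUnit_sub (sub_ne_zero.2 hab).isUnit)
      (isCoprime_X_sub_C_of_isUnit_sub (sub_ne_zero.2 hac).isUnit)) ?_
    (IsCoprime.mul_dvd (isCoprime_X_sub_C_of_isUnit_sub (sub_ne_zero.2 hbc).isUnit) ?_ ?_) <;>
    rw [dvd_iff_isRoot] <;> simp [frob_pow ha0, frob_pow hb0, frob_pow hc0]

theorem lower_singer (p : ℕ) [Fact p.Prime] [CharP F p] {m : ℕ}
    (hm : m ∣ (Fintype.card F ^ 2 + Fintype.card F + 1) / Nat.gcd 3 (Fintype.card F - 1)) :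
    ∃ x : PSL3, orderOf x = m := by
  set q := Fintype.card F
  let K := FiniteField.Extension F p 3
  have hdim : Module.finrank F K = 3 := FiniteField.finrank_extension F p 3
  classical
  obtain ⟨u, hu⟩ := IsCyclic.exists_ofOrder_eq_natCard (α := Kˣ)
  have hcard : orderOf u = (q - 1) * (q ^ 2 + q + 1) := by
    rw [hu, Nat.card_units, FiniteField.natCard_extension, Nat.card_eq_fintype_card]
    obtain ⟨n, hn⟩ : ∃ n, q = n + 1 := ⟨q - 1, by have := (Fintype.card_pos : 0 < q); omega⟩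
    rw [show Fintype.card F = n + 1 from hn, hn, Nat.add_sub_cancel]
    apply Nat.sub_eq_of_eq_add; ring
  have hq1 : q - 1 ≠ 0 := by have := (Fintype.one_lt_card : 1 < q); omega
  have hz : orderOf (u ^ (q - 1)) = q ^ 2 + q + 1 := by
    rw [orderOf_pow_of_dvd hq1 (hcard ▸ dvd_mul_right _ _), hcard,
      Nat.mul_div_cancel_left _ (Nat.pos_of_ne_zero hq1)]
  set z : K := ((u ^ (q - 1) : Kˣ) : K) with hzdef
  have hzN : z ^ (q ^ 2 + q + 1) = 1 := by
    rw [hzdef, ← Units.val_pow_eq_pow_val, ← hz, pow_orderOf_eq_one, Units.val_one]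
  have hnorm : Algebra.norm F z = 1 := by
    apply (algebraMap F K).injective
    rw [FiniteField.algebraMap_norm_eq_pow_sum, hdim, Nat.card_eq_fintype_card, map_one]
    simp only [Finset.sum_range_succ, Finset.sum_range_zero, pow_zero, pow_one, zero_add]
    rw [show 1 + Fintype.card F + Fintype.card F ^ 2 = q ^ 2 + q + 1 by ring]
    exact hzN
  let b := (Module.finBasisOfFinrankEq F K hdim)
  refine realise ⟨Algebra.leftMulMatrix b z, by rw [← Algebra.norm_eq_matrix_det, hnorm]⟩ ?_ hm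
  intro k c hc hk
  have hzk : z ^ k = algebraMap F K c := by
    apply Algebra.leftMulMatrix_injective b
    rw [map_pow, AlgHom.commutes]
    exact hk
  have hc0 : c ≠ 0 := by rintro rfl; simp at hc
  have hcd : c ^ Nat.gcd 3 (q - 1) = 1 := pow_gcd_eq_one.2 ⟨hc, frob_pow hc0⟩
  have : (u ^ (q - 1)) ^ (k * Nat.gcd 3 (q - 1)) = 1 := by
    refine Units.ext ?_
    rw [Units.val_pow_eq_pow_val, pow_mul, ← hzdef, hzk, ← map_pow, hcd, map_one, Units.val_one]
  have hd : Nat.gcd 3 (q - 1) ∣ q ^ 2 + q + 1 := by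
    have := d_dvd_sum (q - 1)
    rwa [Nat.sub_add_cancel (Fintype.card_pos : 0 < q)] at this
  rw [Nat.div_dvd_iff_dvd_mul hd (Nat.gcd_pos_of_pos_left _ (by norm_num)), mul_comm, ← hz]
  exact orderOf_dvd_of_pow_eq_one this

theorem lower_torus (p : ℕ) [Fact p.Prime] [CharP F p] {m : ℕ}
    (hm : m ∣ (Fintype.card F ^ 2 - 1) / Nat.gcd 3 (Fintype.card F - 1)) :
    ∃ x : PSL3, orderOf x = m := by
  set q := Fintype.card F
  let K := FiniteField.Extension F p 2
  have hdim : Module.finrank F K = 2 := FiniteField.finrank_extension F p 2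
  classical
  obtain ⟨u, hu⟩ := IsCyclic.exists_ofOrder_eq_natCard (α := Kˣ)
  have hcard : orderOf u = q ^ 2 - 1 := by
    rw [hu, Nat.card_units, FiniteField.natCard_extension, Nat.card_eq_fintype_card]
  let b := (Module.finBasisOfFinrankEq F K hdim)
  have hn0 : Algebra.norm F (u : K) ≠ 0 := Algebra.norm_ne_zero_iff.2 u.ne_zero
  let A : Matrix (Fin 2 ⊕ Fin 1) (Fin 2 ⊕ Fin 1) F :=
    Matrix.fromBlocks (Algebra.leftMulMatrix b (u : K)) 0 0
      (Matrix.scalar (Fin 1) (Algebra.norm F (u : K))⁻¹)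
  have hA : (Matrix.reindexAlgEquiv F F (finSumFinEquiv (m := 2) (n := 1)) A).det = 1 := by
    rw [Matrix.reindexAlgEquiv_apply, Matrix.det_reindex_self, Matrix.det_fromBlocks_zero₂₁,
      ← Algebra.norm_eq_matrix_det]
    simp [Matrix.det_unique, hn0]
  refine realise ⟨_, hA⟩ ?_ hm
  intro k c hc hk
  rw [← map_pow] at hk
  have hk' : A ^ k = algebraMap F _ c := by
    apply (Matrix.reindexAlgEquiv F F (finSumFinEquiv (m := 2) (n := 1))).injective
    rw [AlgEquiv.commutes]
    exact hk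
  have hblk : ∀ j : ℕ, A ^ j = Matrix.fromBlocks (Algebra.leftMulMatrix b ((u : K) ^ j)) 0 0
      (Matrix.scalar (Fin 1) (((Algebra.norm F (u : K))⁻¹) ^ j)) := by
    intro j
    induction j with
    | zero => simp [Matrix.fromBlocks_one]
    | succ j ih =>
      rw [pow_succ, ih, Matrix.fromBlocks_multiply, pow_succ, pow_succ, map_mul, map_mul]
      simp
  rw [hblk] at hk'
  have h1 : (u : K) ^ k = algebraMap F K c := by
    apply Algebra.leftMulMatrix_injective b
    rw [AlgHom.commutes]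
    ext i j
    have := congrFun (congrFun hk' (Sum.inl i)) (Sum.inl j)
    simpa [Matrix.algebraMap_matrix_apply] using this
  have hc0 : c ≠ 0 := by rintro rfl; simp at hc
  have hcd : c ^ Nat.gcd 3 (q - 1) = 1 := pow_gcd_eq_one.2 ⟨hc, frob_pow hc0⟩
  have : u ^ (k * Nat.gcd 3 (q - 1)) = 1 := by
    refine Units.ext ?_
    rw [Units.val_pow_eq_pow_val, pow_mul, h1, ← map_pow, hcd, map_one, Units.val_one]
  have hd : Nat.gcd 3 (q - 1) ∣ q ^ 2 - 1 := by
    refine (Nat.gcd_dvd_right _ _).trans ⟨q + 1, ?_⟩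
    rw [mul_comm, ← Nat.sq_sub_sq, one_pow]
  rw [Nat.div_dvd_iff_dvd_mul hd (Nat.gcd_pos_of_pos_left _ (by norm_num)), mul_comm, ← hcard]
  exact orderOf_dvd_of_pow_eq_one this

theorem lower_split {m : ℕ} (hm : m ∣ Fintype.card F - 1) : ∃ x : PSL3, orderOf x = m := by
  classical
  obtain ⟨u, hu⟩ := IsCyclic.exists_ofOrder_eq_natCard (α := Fˣ)
  rw [Nat.card_units, Nat.card_eq_fintype_card] at hu
  refine realise ⟨Matrix.diagonal ![(u : F), (u : F)⁻¹, 1], ?_⟩ ?_ hm
  · simp [Matrix.det_diagonal, Fin.prod_univ_three]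
  intro k c _ hk
  simp only [Matrix.diagonal_pow, Matrix.scalar_apply] at hk
  have h := Matrix.diagonal_injective hk
  have h2 : (1 : F) = c := by simpa using congrFun h 2
  rw [← hu]
  refine orderOf_dvd_of_pow_eq_one (Units.ext ?_)
  simpa [← h2] using congrFun h 0

theorem lower_double (p : ℕ) [Fact p.Prime] [CharP F p] {m : ℕ}
    (hm : m ∣ p * (Fintype.card F - 1) / Nat.gcd 3 (Fintype.card F - 1)) :
    ∃ x : PSL3, orderOf x = m := by
  classical
  obtain ⟨u, hu⟩ := IsCyclic.exists_ofOrder_eq_natCard (α := Fˣ)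
  rw [Nat.card_units, Nat.card_eq_fintype_card] at hu
  set a : F := (u : F)
  have ha : a ≠ 0 := u.ne_zero
  refine realise ⟨!![a, a, 0; 0, a, 0; 0, 0, (a ^ 2)⁻¹], ?_⟩ ?_ hm
  · simp [Matrix.det_fin_three]; field_simp
  intro k c hc hk
  have hpow : ∀ j : ℕ, (!![a, a, 0; 0, a, 0; 0, 0, (a ^ 2)⁻¹] : M3) ^ j =
      !![a ^ j, (j : F) * a ^ j, 0; 0, a ^ j, 0; 0, 0, ((a ^ 2)⁻¹) ^ j] := by
    intro j
    induction j with
    | zero => simp [Matrix.one_fin_three]
    | succ j ih =>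
      rw [pow_succ, ih]
      ext i l
      fin_cases i <;> fin_cases l <;>
        simp [Matrix.mul_apply, Fin.sum_univ_three, pow_succ] <;> ring
  simp only [hpow] at hk
  have h00 : a ^ k = c := by simpa using congrFun (congrFun hk 0) 0
  have h01 : (k : F) = 0 := by simpa [ha] using congrFun (congrFun hk 0) 1
  have hpk : p ∣ k := (CharP.cast_eq_zero_iff F p k).1 h01
  obtain ⟨e, he⟩ := Nat.gcd_dvd_right 3 (Fintype.card F - 1)
  have h3 : Fintype.card F - 1 ∣ 3 * k := by
    rw [← hu]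
    refine orderOf_dvd_of_pow_eq_one (Units.ext ?_)
    rw [Units.val_pow_eq_pow_val, mul_comm, pow_mul, h00, hc, Units.val_one]
  have hek : e ∣ k := by
    have h := dvd_gcd_three_mul h3
    have h' : Nat.gcd 3 (Fintype.card F - 1) * e ∣ Nat.gcd 3 (Fintype.card F - 1) * k := by
      rw [← he]; exact h
    exact Nat.dvd_of_mul_dvd_mul_left (Nat.gcd_pos_of_pos_left _ (by norm_num)) h'
  rw [Nat.mul_div_assoc _ ⟨e, he⟩, Nat.div_eq_of_eq_mul_left
    (Nat.gcd_pos_of_pos_left _ (by norm_num)) (he.trans (mul_comm _ _))]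
  refine Nat.Coprime.mul_dvd_of_dvd_of_dvd ?_ hpk hek
  refine ((Fact.out : p.Prime).coprime_iff_not_dvd).2 fun hpe => ?_
  have h1 : p ∣ Fintype.card F - 1 := he ▸ hpe.mul_left _
  obtain ⟨n, hn, hcard⟩ := FiniteField.card F p
  have h2 : p ∣ Fintype.card F := hcard ▸ dvd_pow_self p n.pos.ne'
  have := Nat.dvd_sub h2 h1
  rw [Nat.sub_sub_self Fintype.card_pos] at this
  exact (Fact.out : p.Prime).not_dvd_one this

theorem lower_two [CharP F 2] {m : ℕ} (hm : m ∣ 4) : ∃ x : PSL3, orderOf x = m := by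
  let g : SL3 := ⟨!![1, 1, 0; 0, 1, 1; 0, 0, 1], by simp [Matrix.det_fin_three]⟩
  have h2 : (2 : F) = 0 := CharP.cast_eq_zero F 2
  have hsq : (g : M3) ^ 2 = !![1, 0, 1; 0, 1, 0; 0, 0, 1] := by
    show (!![1, 1, 0; 0, 1, 1; 0, 0, 1] : M3) ^ 2 = _
    ext i l
    fin_cases i <;> fin_cases l <;>
      simp [pow_two, Matrix.mul_apply, Fin.sum_univ_three, CharTwo.add_self_eq_zero]
  have hord : orderOf (proj g) = 2 ^ (1 + 1) := by
    haveI : Fact (Nat.Prime 2) := ⟨Nat.prime_two⟩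
    refine orderOf_eq_prime_pow ?_ ?_
    · intro h
      obtain ⟨c, -, hc⟩ := proj_pow_eq_one.1 h
      rw [show (2 : ℕ) ^ 1 = 2 from rfl, hsq] at hc
      simpa using congrFun (congrFun hc 0) 2
    · refine proj_pow_eq_one.2 ⟨1, one_pow _, ?_⟩
      rw [show (2 : ℕ) ^ (1 + 1) = 2 * 2 from rfl, pow_mul, hsq, map_one]
      ext i l
      fin_cases i <;> fin_cases l <;>
        simp [pow_two, Matrix.mul_apply, Fin.sum_univ_three, CharTwo.add_self_eq_zero]
  have hd : m ∣ orderOf (proj g) := by rw [hord]; exact hm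
  exact ⟨_, orderOf_pow_orderOf_div (by rw [hord]; norm_num) hd⟩

end

/-- The set of element orders of PSL(3,q): let F be a finite field of characteristic p with q elements and d = gcd(3, q − 1). The orders of elements of PSL(3,F) are exactly the divisors of (q² + q + 1)/d, of (q² − 1)/d, of q − 1, of p(q − 1)/d, and, when p = 2, of 4. -/
theorem result {F : Type*} [Field F] [Fintype F] (p : ℕ) [Fact p.Prime] [CharP F p] :
    Set.range (orderOf : Matrix.ProjectiveSpecialLinearGroup (Fin 3) F → ℕ) =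
      {m : ℕ | m ∣ (Fintype.card F ^ 2 + Fintype.card F + 1) / Nat.gcd 3 (Fintype.card F - 1) ∨
        m ∣ (Fintype.card F ^ 2 - 1) / Nat.gcd 3 (Fintype.card F - 1) ∨ m ∣ Fintype.card F - 1 ∨
        m ∣ p * (Fintype.card F - 1) / Nat.gcd 3 (Fintype.card F - 1) ∨ (p = 2 ∧ m ∣ 4)} := by
  ext m
  refine ⟨?_, fun h => ?_⟩
  · rintro ⟨x, rfl⟩
    obtain ⟨g, rfl⟩ := QuotientGroup.mk'_surjective _ x
    exact upper p g
  rcases h with h | h | h | h | ⟨rfl, h⟩
  · exact lower_singer p h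
  · exact lower_torus p h
  · exact lower_split h
  · exact lower_double p h
  · exact lower_two h

end Cfsg.Agent.S2476
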