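import Cfsg.Statements.S2477
import Cfsg.Agent.Lib.AltOrders.Basic

set_option autoImplicit false
open Cfsg

namespace Cfsg.Agent.S2477

/-- The orders occurring in `A₁₀`. -/
private def target : Finset ℕ := {1, 2, 3, 4, 5, 6, 7, 8, 9, 10, 12, 15, 21}

private theorem check : ∀ S ∈ (Finset.Icc 2 10).powerset, (∑ a ∈ S, a) ≤ 10 →
    S.lcm id ∈ target ∨ (9 ≤ ∑ a ∈ S, a) ∧ ((∑ a ∈ S, a) + S.card) % 2 = 1 := by decide +kernel


/-- The set of element orders of the alternating group of degree 10 is {1, 2, 3, 4, 5, 6, 7, 8, 9, 10, 12, 15, 21}. -/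
theorem result : Set.range (orderOf : alternatingGroup (Fin 10) → ℕ) = {1, 2, 3, 4, 5, 6, 7, 8, 9, 10, 12, 15, 21} := by
  classical
  apply Set.Subset.antisymm
  · rintro _ ⟨g, rfl⟩
    obtain ⟨hord, hsum, h2, heven⟩ := Lib.AltOrders.cycleType_spec g
    set m := (g : Equiv.Perm (Fin 10)).cycleType
    rw [hord]
    have hle : m.toFinset.val ≤ m := Multiset.dedup_le m
    obtain ⟨t, ht⟩ := le_iff_exists_add.mp hle
    have hsumS : (∑ a ∈ m.toFinset, a) = m.toFinset.val.sum := by simp [Finset.sum]
    have hlcm : m.toFinset.lcm id = m.lcm := by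
      rw [Finset.lcm_def, Multiset.map_id]
      exact Multiset.lcm_dedup m
    have hS : (∑ a ∈ m.toFinset, a) ≤ 10 := by
      rw [hsumS]
      rw [ht, Multiset.sum_add] at hsum
      omega
    rcases check m.toFinset (Finset.mem_powerset.mpr fun a ha => by
      rw [Multiset.mem_toFinset] at ha
      exact Finset.mem_Icc.mpr ⟨h2 a ha, (Multiset.le_sum_of_mem ha).trans hsum⟩) hS with h | ⟨h9, hpar⟩
    · rw [← hlcm]
      simpa [target] using h
    · exfalso
      have ht0 : t = 0 := by
        refine Multiset.eq_zero_of_forall_notMem fun c hc => ?_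
        have := h2 c (ht ▸ Multiset.mem_add.mpr (Or.inr hc))
        have := Multiset.le_sum_of_mem hc
        rw [ht, Multiset.sum_add] at hsum
        omega
      rw [ht, ht0, add_zero, Finset.card_val, ← hsumS] at heven
      rw [Nat.even_iff] at heven
      omega
  · have key : ∀ m : Multiset ℕ, m.sum ≤ 10 → (∀ a ∈ m, 2 ≤ a) → Even (m.sum + Multiset.card m) →
        m.lcm ∈ Set.range (orderOf : alternatingGroup (Fin 10) → ℕ) := fun m a b c =>
      let ⟨g, hg⟩ := Lib.AltOrders.exists_orderOf_eq m a b c
      ⟨g, hg⟩
    rintro x (rfl | rfl | rfl | rfl | rfl | rfl | rfl | rfl | rfl | rfl | rfl | rfl | rfl)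
    · exact key 0 (by decide) (by decide) (by decide)
    · exact key {2, 2} (by decide) (by decide) (by decide)
    · exact key {3} (by decide) (by decide) (by decide)
    · exact key {4, 2} (by decide) (by decide) (by decide)
    · exact key {5} (by decide) (by decide) (by decide)
    · exact key {3, 2, 2} (by decide) (by decide) (by decide)
    · exact key {7} (by decide) (by decide) (by decide)
    · exact key {8, 2} (by decide) (by decide) (by decide)
    · exact key {9} (by decide) (by decide) (by decide)
    · exact key {5, 2, 2} (by decide) (by decide) (by decide)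
    · exact key {6, 4} (by decide) (by decide) (by decide)
    · exact key {5, 3} (by decide) (by decide) (by decide)
    · exact key {7, 3} (by decide) (by decide) (by decide)

end Cfsg.Agent.S2477
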