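import Cfsg.Statements.S2479
import Mathlib
import Cfsg.Agent.Lib.Similar.FamBound

set_option autoImplicit false
open Cfsg

namespace Cfsg.Agent.S2479

open Polynomial Cfsg.Agent.Lib.Similar Cfsg.Agent.Lib.FamCount

variable {F : Type*} [Field F] [Fintype F] [DecidableEq F] {n : ℕ}

theorem matInv_mem (s : Matrix.SpecialLinearGroup (Fin n) F) :
    matInv (s : Matrix (Fin n) (Fin n) F) ∈ (fam F 1 n).filter fun m => dt m = (-1) ^ n := by
  obtain ⟨x, hx⟩ : ∃ x, x = Matrix.SpecialLinearGroup.toGL s := ⟨_, rfl⟩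
  have hs : (x : Matrix (Fin n) (Fin n) F) = (s : Matrix (Fin n) (Fin n) F) := by rw [hx]; rfl
  rw [← hs]
  obtain ⟨h1, h2⟩ := matInv_spec x
  rw [Fintype.card_fin] at h2
  refine Finset.mem_filter.2 ⟨mem_fam.2 ⟨fun y hy => ⟨(h1 y hy).1, (h1 y hy).2.1, (h1 y hy).2.2.1, (h1 y hy).2.2.2, (h1 y hy).2.2.2⟩, h2⟩, ?_⟩
  have e := Matrix.det_eq_sign_charpoly_coeff (x : Matrix (Fin n) (Fin n) F)
  rw [Fintype.card_fin, hs, s.2, ← hs, charpoly_eq_matInv, coeff_zero_multiset_prod, Multiset.map_map] at e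
  have e2 : dt (matInv (x : Matrix (Fin n) (Fin n) F)) =
      (Multiset.map ((fun p : F[X] => p.coeff 0) ∘ fun y => y.1 ^ y.2) (matInv (x : Matrix (Fin n) (Fin n) F))).prod := by
    unfold dt
    refine congrArg _ (Multiset.map_congr rfl fun y _ => ?_)
    simp only [Function.comp_apply, coeff_zero_eq_eval_zero, eval_pow]
  rw [← e2] at e
  have hsq : ((-1 : F) ^ n) * (-1) ^ n = 1 := by rw [← mul_pow, neg_one_mul, neg_neg, one_pow]
  linear_combination (-((-1 : F) ^ n)) * e - dt (matInv (x : Matrix (Fin n) (Fin n) F)) * hsq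

theorem card_classes_le (n : ℕ) :
    Nat.card (ConjClasses (Matrix.SpecialLinearGroup (Fin n) F)) ≤ Sv 1 n ((-1 : F) ^ n) := by
  rw [← Nat.card_congr (Equiv.subtypeUnivEquiv (p := fun _ : ConjClasses (Matrix.SpecialLinearGroup (Fin n) F) => True) fun _ => trivial)]
  exact card_classes_le_sum _ _ fun s _ => matInv_mem s

/-- The characteristic polynomial of a class of `SL_n`. -/
noncomputable def cp (C : ConjClasses (Matrix.SpecialLinearGroup (Fin n) F)) : F[X] := classCharpoly (glClass C)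

theorem lower (hn : 2 ≤ n) :
    Fintype.card F ^ (n - 1) < Nat.card (ConjClasses (Matrix.SpecialLinearGroup (Fin n) F)) := by
  obtain ⟨e, rfl⟩ : ∃ e, n = e + 1 := ⟨n - 1, by omega⟩
  rw [Nat.add_sub_cancel]
  let P : (Fin e → F) → F[X] := fun w => X ^ (e + 1) + ∑ i : Fin (e + 1),
    C ((Fin.cons ((-1) ^ (e + 1)) w : Fin (e + 1) → F) i) * X ^ (i : ℕ)
  have hP : ∀ w, (P w).Monic ∧ (P w).natDegree = e + 1 ∧ (P w).coeff 0 = (-1) ^ (e + 1) ∧
      ∀ i : Fin e, (P w).coeff (i + 1) = w i := by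
    intro w
    have hc : ∀ i : Fin (e + 1), (P w).coeff i = (Fin.cons ((-1) ^ (e + 1)) w : Fin (e + 1) → F) i := fun i => by
      have := i.2
      simp only [P, coeff_add, coeff_X_pow, finsetSum_coeff, coeff_C_mul]
      rw [if_neg (by omega), zero_add, Finset.sum_eq_single i]
      · simp
      · intro b _ hb
        rw [if_neg (fun h => hb (Fin.ext h.symm)), mul_zero]
      · simp
    refine ⟨monic_X_pow_add (degree_sum_fin_lt _), ?_, ?_, fun i => ?_⟩
    · rw [natDegree_add_eq_left_of_degree_lt (by rw [degree_X_pow]; exact degree_sum_fin_lt _), natDegree_X_pow]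
    · exact (hc 0).trans (Fin.cons_zero _ _)
    · have := hc i.succ
      rw [Fin.cons_succ, Fin.val_succ] at this
      exact this
  have hex : ∀ (m : Multiset (F[X] × ℕ)) (g : F[X]), (∀ y ∈ m, y.1.Monic ∧ Irreducible y.1 ∧ y.1.coeff 0 ≠ 0 ∧ 1 ≤ y.2) →
      (m.map fun y => y.2 * y.1.natDegree).sum = e + 1 → (m.map fun y => y.1 ^ y.2).prod = g →
      g.coeff 0 = (-1) ^ (e + 1) → ∃ s : Matrix.SpecialLinearGroup (Fin (e + 1)) F,
        (s : Matrix (Fin (e + 1)) (Fin (e + 1)) F).charpoly = g ∧ matInv (s : Matrix (Fin (e + 1)) (Fin (e + 1)) F) = m := by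
    intro m g hm hsum hprod h0
    obtain ⟨x, hx⟩ := exists_gl_matInv (n := Fin (e + 1)) m hm (by rw [hsum, Fintype.card_fin])
    have hcp : (x : Matrix (Fin (e + 1)) (Fin (e + 1)) F).charpoly = g := by rw [charpoly_eq_matInv, hx, hprod]
    refine ⟨⟨(x : Matrix (Fin (e + 1)) (Fin (e + 1)) F), ?_⟩, hcp, hx⟩
    rw [Matrix.det_eq_sign_charpoly_coeff, hcp, h0, Fintype.card_fin, ← mul_pow, neg_one_mul, neg_neg, one_pow]
  have h : ∀ w, ∃ s : Matrix.SpecialLinearGroup (Fin (e + 1)) F, (s : Matrix (Fin (e + 1)) (Fin (e + 1)) F).charpoly = P w ∧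
      matInv (s : Matrix (Fin (e + 1)) (Fin (e + 1)) F) = powFam 1 (P w) := by
    intro w
    obtain ⟨h1, h2, h3, -⟩ := hP w
    have h0 : (P w).coeff 0 ≠ 0 := by rw [h3]; exact pow_ne_zero _ (neg_ne_zero.2 one_ne_zero)
    refine hex _ _ (fun y hy => ?_) (by rw [weight_powFam 1 h1 h0, h2, one_mul]) ?_ h3
    · obtain ⟨f, hf, rfl⟩ := Multiset.mem_map.1 hy
      exact ⟨(mem_factors h0 hf).1, (mem_factors h0 hf).2.1, (mem_factors h0 hf).2.2, le_rfl⟩
    · rw [powFam, Multiset.map_map]
      simp only [Function.comp_def, pow_one, Multiset.map_id', prod_factors h1]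
  choose s hs hsm using h
  obtain ⟨u, hu, hum⟩ := hex {((X - C 1 : F[X]), e + 1)} ((X - C 1) ^ (e + 1)) (by
      intro y hy
      rw [Multiset.mem_singleton] at hy
      subst hy
      exact ⟨monic_X_sub_C _, irreducible_X_sub_C _, by simp, by omega⟩) (by simp only [Multiset.map_singleton, Multiset.sum_singleton, natDegree_X_sub_C, mul_one]) (by simp)
    (by rw [coeff_zero_eq_eval_zero]; simp)
  have hinj : Function.Injective (fun o : Option (Fin e → F) =>
      (o.elim (ConjClasses.mk u) fun w => ConjClasses.mk (s w) : ConjClasses (Matrix.SpecialLinearGroup (Fin (e + 1)) F))) := by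
    have hgl : ∀ a : Matrix.SpecialLinearGroup (Fin (e + 1)) F, classInv (glClass (ConjClasses.mk a)) = matInv (a : Matrix (Fin (e + 1)) (Fin (e + 1)) F) :=
      fun a => rfl
    have hcl : ∀ a : Matrix.SpecialLinearGroup (Fin (e + 1)) F, classCharpoly (glClass (ConjClasses.mk a)) = (a : Matrix (Fin (e + 1)) (Fin (e + 1)) F).charpoly :=
      fun a => rfl
    have hne : ∀ w, ConjClasses.mk u ≠ ConjClasses.mk (s w) := by
      intro w hw
      have := congrArg (fun C => classInv (glClass C)) hw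
      simp only [hgl, hum, hsm] at this
      obtain ⟨f, -, hf⟩ := Multiset.mem_map.1 (this ▸ Multiset.mem_singleton_self _)
      have := congrArg Prod.snd hf
      simp only at this
      omega
    rintro (_ | w) (_ | w') hww
    · rfl
    · exact absurd hww (hne w')
    · exact absurd hww.symm (hne w)
    · refine congrArg some (funext fun i => ?_)
      have := congrArg (fun C => classCharpoly (glClass C)) hww
      simp only [Option.elim_some, hcl, hs] at this
      rw [← (hP w).2.2.2 i, ← (hP w').2.2.2 i, this]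
  have := Nat.card_le_card_of_injective _ hinj
  rw [Finite.card_option, Nat.card_fun, Nat.card_eq_fintype_card (α := F), Nat.card_eq_fintype_card (α := Fin e), Fintype.card_fin] at this
  omega

/-- The number of conjugacy classes of SL(n,q): for F a finite field with q elements, the number k of conjugacy classes of SL(n,F) satisfies q^(n−1) < k and k ≤ (5/2)·q^(n−1) for n ≥ 2, and k ≤ q^(n−1) + 3q^(n−2) for n ≥ 3. -/
theorem result {F : Type*} [Field F] [Fintype F] (n : ℕ) (hn : 2 ≤ n) :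
    Fintype.card F ^ (n - 1) < Nat.card (ConjClasses (Matrix.SpecialLinearGroup (Fin n) F)) ∧ 2 * Nat.card (ConjClasses (Matrix.SpecialLinearGroup (Fin n) F)) ≤ 5 * Fintype.card F ^ (n - 1) ∧
      (3 ≤ n → Nat.card (ConjClasses (Matrix.SpecialLinearGroup (Fin n) F)) ≤ Fintype.card F ^ (n - 1) + 3 * Fintype.card F ^ (n - 2)) := by
  classical
  have hle := card_classes_le (F := F) n
  refine ⟨lower hn, ?_⟩
  rcases Nat.lt_or_ge (Fintype.card F) 3 with hq | hq
  · have hq2 : Fintype.card F = 2 := by have := Fintype.one_lt_card (α := F); omega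
    have := Cfsg.Agent.Lib.FamCount.card_fam_det_le_two (F := F) hq2 (show 1 ≤ n by omega) ((-1 : F) ^ n)
    rw [hq2]
    obtain ⟨k, rfl⟩ : ∃ k, n = k + 2 := ⟨n - 2, by omega⟩
    rw [show k + 2 - 1 = k + 1 by omega, show k + 2 - 2 = k by omega]
    generalize (-1 : F) ^ (k + 2) = v at this hle
    simp only [pow_succ] at this ⊢
    exact ⟨by omega, fun _ => by omega⟩
  · refine ⟨le_trans (Nat.mul_le_mul_left 2 hle) ?_, fun h3 => hle.trans (Cfsg.Agent.Lib.FamCount.Sv_bound hq h3 _)⟩
    exact Cfsg.Agent.Lib.FamCount.Sv_uniform hq (by omega) _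

end Cfsg.Agent.S2479
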