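import Cfsg.Statements.S2480
import Mathlib
import Cfsg.Agent.Lib.Similar.Scale
import Cfsg.Agent.S2479

set_option autoImplicit false
open Cfsg

namespace Cfsg.Agent.S2480

open Polynomial Cfsg.Agent.Lib.Similar Cfsg.Agent.Lib.FamCount

variable {F : Type*} [Field F] {n : ℕ}

local notation "SLn" => Matrix.SpecialLinearGroup (Fin n) F
local notation "ZZ" => Subgroup.center (Matrix.SpecialLinearGroup (Fin n) F)
local notation "PSLn" => Matrix.ProjectiveSpecialLinearGroup (Fin n) F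

theorem comm_center (z : ZZ) (g : SLn) : Commute (z : SLn) g := (Subgroup.mem_center_iff.1 z.2 g).symm

/-- The centre acts on the classes by multiplication. -/
def cmul (z : ZZ) : ConjClasses SLn → ConjClasses SLn :=
  Quotient.lift (fun s => ConjClasses.mk ((z : SLn) * s)) fun a b h => by
    obtain ⟨g, rfl⟩ := isConj_iff.1 h
    refine ConjClasses.mk_eq_mk_iff_isConj.2 (isConj_iff.2 ⟨g, ?_⟩)
    rw [← mul_assoc g, ← (comm_center z g).eq]
    simp only [mul_assoc]

instance instCentreAction : MulAction ZZ (ConjClasses SLn) where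
  smul := cmul
  one_smul C := by
    obtain ⟨s, rfl⟩ := ConjClasses.mk_surjective C
    show ConjClasses.mk ((1 : SLn) * s) = _
    rw [one_mul]
  mul_smul a b C := by
    obtain ⟨s, rfl⟩ := ConjClasses.mk_surjective C
    show ConjClasses.mk (((a : SLn) * b) * s) = ConjClasses.mk ((a : SLn) * ((b : SLn) * s))
    rw [mul_assoc]

theorem smul_mk (z : ZZ) (s : SLn) : z • ConjClasses.mk s = ConjClasses.mk ((z : SLn) * s) := rfl

variable [Fintype F]

theorem card_orbits :
    Nat.card (MulAction.orbitRel.Quotient ZZ (ConjClasses SLn)) = Nat.card (ConjClasses PSLn) := by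
  let π : ConjClasses SLn → ConjClasses PSLn := ConjClasses.map (QuotientGroup.mk' ZZ)
  have hπ : ∀ s : SLn, π (ConjClasses.mk s) = ConjClasses.mk (QuotientGroup.mk s : PSLn) := fun s => rfl
  have key : ∀ C D, π C = π D ↔ ∃ z : ZZ, z • D = C := by
    intro C D
    obtain ⟨a, rfl⟩ := ConjClasses.mk_surjective C
    obtain ⟨b, rfl⟩ := ConjClasses.mk_surjective D
    rw [hπ, hπ, ConjClasses.mk_eq_mk_iff_isConj, isConj_iff]
    constructor
    · rintro ⟨g', hg⟩
      obtain ⟨g, rfl⟩ := QuotientGroup.mk_surjective g'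
      rw [← QuotientGroup.mk_inv, ← QuotientGroup.mk_mul, ← QuotientGroup.mk_mul, QuotientGroup.eq] at hg
      refine ⟨⟨_, hg⟩⁻¹, ?_⟩
      rw [smul_mk, ConjClasses.mk_eq_mk_iff_isConj, isConj_iff]
      refine ⟨g⁻¹, ?_⟩
      rw [(comm_center _ b).eq, Subgroup.coe_inv, inv_inv]
      group
    · rintro ⟨z, hz⟩
      rw [smul_mk, ConjClasses.mk_eq_mk_iff_isConj, isConj_iff] at hz
      obtain ⟨g, hg⟩ := hz
      refine ⟨(g : PSLn)⁻¹, ?_⟩
      rw [← hg, QuotientGroup.mk_mul, QuotientGroup.mk_mul, QuotientGroup.mk_mul, QuotientGroup.mk_inv,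
        (QuotientGroup.eq_one_iff _).2 z.2]
      group
  refine Nat.card_eq_of_bijective (Quotient.lift π fun C D h => ?_) ⟨fun x y h => ?_, fun c => ?_⟩
  · obtain ⟨z, hz⟩ := h
    exact (key C D).2 ⟨z, hz⟩
  · induction x using Quotient.inductionOn with
    | h C =>
    induction y using Quotient.inductionOn with
    | h D => exact Quotient.sound ((key C D).1 h)
  · obtain ⟨y, rfl⟩ := ConjClasses.mk_surjective c
    obtain ⟨s, rfl⟩ := QuotientGroup.mk_surjective y
    exact ⟨Quotient.mk _ (ConjClasses.mk s), rfl⟩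

theorem card_center (hn : 1 ≤ n) : Nat.card ZZ = Nat.gcd n (Fintype.card F - 1) := by
  rw [Nat.card_congr (Matrix.SpecialLinearGroup.center_equiv_rootsOfUnity' (R := F) (⟨0, hn⟩ : Fin n)).toEquiv,
    Fintype.card_fin]
  classical
  have h := IsCyclic.card_powMonoidHom_ker (G := Fˣ) n
  rw [Nat.card_eq_fintype_card (α := Fˣ), Fintype.card_units, Nat.gcd_comm] at h
  exact h

theorem card_fixed_le [DecidableEq F] (hn : 1 ≤ n) (z : ZZ) (hz : z ≠ 1) :
    ∃ m, 1 ≤ m ∧ 2 * m ≤ n ∧ m ∣ n ∧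
      Nat.card (MulAction.fixedBy (ConjClasses SLn) z) ≤ Sv 1 m ((-1 : F) ^ n) := by
  obtain ⟨c, hcn, hc⟩ := Matrix.SpecialLinearGroup.mem_center_iff.1 z.2
  rw [Fintype.card_fin] at hcn
  have hc0 : c ≠ 0 := fun h => by rw [h, zero_pow (by omega)] at hcn; exact zero_ne_one hcn
  have hc1 : c ≠ 1 := fun h => hz (Subtype.ext (Subtype.ext (by rw [← hc, h, map_one]; rfl)))
  obtain ⟨r, hr⟩ : ∃ r, r = orderOf c := ⟨_, rfl⟩
  have hrn : r ∣ n := hr ▸ orderOf_dvd_of_pow_eq_one hcn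
  have hrpos : 0 < r := Nat.pos_of_dvd_of_pos hrn (by omega)
  have hr2 : 2 ≤ r := by
    have : r ≠ 1 := fun h => hc1 (orderOf_eq_one_iff.1 (hr.symm.trans h))
    omega
  refine ⟨n / r, Nat.div_pos (Nat.le_of_dvd (by omega) hrn) hrpos,
    (Nat.mul_le_mul_right _ hr2).trans (Nat.mul_div_le _ _), Nat.div_dvd_of_dvd hrn,
    le_trans ?_ (sum_fixed_le (n := n) ((-1 : F) ^ n) hr hrpos)⟩
  refine card_classes_le_sum _ (fun C => C ∈ MulAction.fixedBy (ConjClasses SLn) z) fun s hs => ?_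
  obtain ⟨h1, h2⟩ := Finset.mem_filter.1 (Cfsg.Agent.S2479.matInv_mem s)
  refine Finset.mem_filter.2 ⟨h1, h2, ?_⟩
  rw [MulAction.mem_fixedBy, smul_mk, ConjClasses.mk_eq_mk_iff_isConj, isConj_iff] at hs
  obtain ⟨g, hg⟩ := hs
  have e := congrArg Matrix.SpecialLinearGroup.toGL hg
  rw [map_mul, map_mul, map_inv] at e
  have e2 := matInv_conj (Matrix.SpecialLinearGroup.toGL g)
    ((Matrix.SpecialLinearGroup.toGL ((z : SLn) * s) : GL (Fin n) F) : Matrix (Fin n) (Fin n) F)
  rw [← Units.val_mul, ← Units.val_mul, e] at e2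
  have e3 := matInv_smul (Matrix.SpecialLinearGroup.toGL s) (Matrix.SpecialLinearGroup.toGL ((z : SLn) * s)) hc0 (by
    show ((z : SLn) : Matrix (Fin n) (Fin n) F) * (s : Matrix (Fin n) (Fin n) F) = c • (s : Matrix (Fin n) (Fin n) F)
    rw [← hc, Matrix.scalar_apply, Matrix.smul_eq_diagonal_mul])
  exact e3.symm.trans e2.symm

theorem burnside (hn : 1 ≤ n) (B : ℕ) (hB : ∀ z : ZZ, z ≠ 1 → 2 * Nat.card (MulAction.fixedBy (ConjClasses SLn) z) ≤ B) :
    Nat.card (ConjClasses SLn) ≤ Nat.gcd n (Fintype.card F - 1) * Nat.card (ConjClasses PSLn) ∧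
      2 * (Nat.gcd n (Fintype.card F - 1) * Nat.card (ConjClasses PSLn)) ≤
        2 * Nat.card (ConjClasses SLn) + (Nat.gcd n (Fintype.card F - 1) - 1) * B := by
  classical
  let _ : Fintype ZZ := Fintype.ofFinite _
  let _ : ∀ z : ZZ, Fintype (MulAction.fixedBy (ConjClasses SLn) z) := fun z => Fintype.ofFinite _
  let _ : Fintype (MulAction.orbitRel.Quotient ZZ (ConjClasses SLn)) := Fintype.ofFinite _
  have h := MulAction.sum_card_fixedBy_eq_card_orbits_mul_card_group ZZ (ConjClasses SLn)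
  simp only [← Nat.card_eq_fintype_card] at h
  rw [card_center hn] at h
  have hq : Nat.card (Quotient (MulAction.orbitRel ZZ (ConjClasses SLn))) = Nat.card (ConjClasses PSLn) := card_orbits
  rw [hq, ← Finset.add_sum_erase _ _ (Finset.mem_univ (1 : ZZ)), mul_comm] at h
  have h1 : Nat.card (MulAction.fixedBy (ConjClasses SLn) (1 : ZZ)) = Nat.card (ConjClasses SLn) :=
    Nat.card_congr (Equiv.subtypeUnivEquiv fun C => one_smul _ C)
  rw [h1] at h
  have h2 := Finset.sum_le_card_nsmul (Finset.univ.erase (1 : ZZ)) (fun z => 2 * Nat.card (MulAction.fixedBy (ConjClasses SLn) z)) B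
    (fun z hz => hB z (Finset.ne_of_mem_erase hz))
  rw [smul_eq_mul, Finset.card_erase_of_mem (Finset.mem_univ _), Finset.card_univ, ← Nat.card_eq_fintype_card, card_center hn,
    ← Finset.mul_sum] at h2
  omega

theorem tail_pow {q c : ℕ} (hq : 3 ≤ q) (hc : 3 ≤ c) : 5 * (2 * c) ≤ 4 * q ^ (c - 1) := by
  refine le_trans ?_ (Nat.mul_le_mul_left 4 (Nat.pow_le_pow_left hq (c - 1)))
  induction c, hc using Nat.le_induction with
  | base => norm_num
  | succ c hc ih =>
    rw [show c + 1 - 1 = (c - 1) + 1 by omega, pow_succ]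
    have : 1 ≤ 3 ^ (c - 1) := Nat.one_le_pow _ _ (by omega)
    omega

/-- The number of conjugacy classes of PSL(n,q): for F a finite field with q elements, n ≥ 2 and d = gcd(n, q − 1), the number k of conjugacy classes of PSL(n,F) satisfies q^(n−1) ≤ d·k ≤ q^(n−1) + 5q^(n−2). -/
theorem result {F : Type*} [Field F] [Fintype F] (n : ℕ) (hn : 2 ≤ n) :
    Fintype.card F ^ (n - 1) ≤ Nat.gcd n (Fintype.card F - 1) * Nat.card (ConjClasses (Matrix.ProjectiveSpecialLinearGroup (Fin n) F)) ∧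
      Nat.gcd n (Fintype.card F - 1) * Nat.card (ConjClasses (Matrix.ProjectiveSpecialLinearGroup (Fin n) F)) ≤ Fintype.card F ^ (n - 1) + 5 * Fintype.card F ^ (n - 2) := by
  classical
  have hk := Cfsg.Agent.S2479.card_classes_le (F := F) n
  have hd : Nat.gcd n (Fintype.card F - 1) ≤ n := Nat.le_of_dvd (by omega) (Nat.gcd_dvd_left _ _)
  have hlow := Cfsg.Agent.S2479.lower (F := F) hn
  rcases Nat.lt_or_ge (Fintype.card F) 3 with hq | hq
  · have hq2 : Fintype.card F = 2 := by have := Fintype.one_lt_card (α := F); omega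
    have hd1 : Nat.gcd n (Fintype.card F - 1) = 1 := by rw [hq2]; exact Nat.gcd_one_right n
    have hz : ∀ z : Subgroup.center (Matrix.SpecialLinearGroup (Fin n) F), z = 1 := by
      intro z
      have := card_center (F := F) (show 1 ≤ n by omega)
      rw [hd1] at this
      exact @Subsingleton.elim _ (Nat.card_eq_one_iff_unique.1 this).1 _ _
    obtain ⟨h1, h2⟩ := burnside (F := F) (show 1 ≤ n by omega) 0 (fun z h => absurd (hz z) h)
    have h3 := Cfsg.Agent.Lib.FamCount.card_fam_det_le_two (F := F) hq2 (show 1 ≤ n by omega) ((-1 : F) ^ n)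
    rw [hd1] at h1 h2 ⊢
    rw [hq2] at hlow ⊢
    obtain ⟨k, rfl⟩ : ∃ k, n = k + 2 := ⟨n - 2, by omega⟩
    rw [show k + 2 - 1 = k + 1 by omega] at hlow ⊢
    rw [show k + 2 - 2 = k by omega]
    generalize (-1 : F) ^ (k + 2) = v at h3 hk
    simp only [pow_succ] at h3 hlow ⊢
    omega
  obtain ⟨q, hqd⟩ : ∃ q, Fintype.card F = q := ⟨_, rfl⟩
  have hfix : ∀ z : Subgroup.center (Matrix.SpecialLinearGroup (Fin n) F), z ≠ 1 → ∃ m, 1 ≤ m ∧ 2 * m ≤ n ∧ m ∣ n ∧
      Nat.card (MulAction.fixedBy (ConjClasses (Matrix.SpecialLinearGroup (Fin n) F)) z) ≤ Cfsg.Agent.Lib.FamCount.Sv 1 m ((-1 : F) ^ n) :=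
    fun z hz => card_fixed_le (by omega) z hz
  rcases Nat.lt_or_ge n 5 with h5 | h5
  · rcases (show n = 2 ∨ n = 3 ∨ n = 4 by omega) with rfl | rfl | rfl
    · obtain ⟨h1, h2⟩ := burnside (F := F) (n := 2) (by omega) 2 (fun z hz => by
        obtain ⟨m, h1, h2, -, h4⟩ := hfix z hz
        obtain rfl : m = 1 := by omega
        have := Cfsg.Agent.Lib.FamCount.Sv_one ((-1 : F) ^ 2)
        omega)
      have := Cfsg.Agent.Lib.FamCount.Sv_two ((-1 : F) ^ 2)
      refine ⟨hlow.le.trans h1, ?_⟩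
      rw [hqd] at this hd h2 ⊢
      simp only [Nat.reduceSub, pow_one, pow_zero, mul_one] at *
      have := Nat.mul_le_mul_right 2 (show Nat.gcd 2 (q - 1) - 1 ≤ 1 by omega)
      omega
    · obtain ⟨h1, h2⟩ := burnside (F := F) (n := 3) (by omega) 2 (fun z hz => by
        obtain ⟨m, h1, h2, -, h4⟩ := hfix z hz
        obtain rfl : m = 1 := by omega
        have := Cfsg.Agent.Lib.FamCount.Sv_one ((-1 : F) ^ 3)
        omega)
      have := (Cfsg.Agent.Lib.FamCount.Sv_three ((-1 : F) ^ 3)).1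
      refine ⟨hlow.le.trans h1, ?_⟩
      rw [hqd] at this hd h2 hq ⊢
      simp only [Nat.reduceSub, pow_one, pow_zero, mul_one] at *
      rw [pow_two]
      have := Nat.mul_le_mul_right 2 (show Nat.gcd 3 (q - 1) - 1 ≤ 2 by omega)
      omega
    · obtain ⟨h1, h2⟩ := burnside (F := F) (n := 4) (by omega) (2 * (q + 4)) (fun z hz => by
        obtain ⟨m, h1, h2, -, h4⟩ := hfix z hz
        rcases (show m = 1 ∨ m = 2 by omega) with rfl | rfl
        · have := Cfsg.Agent.Lib.FamCount.Sv_one ((-1 : F) ^ 4)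
          omega
        · have := Cfsg.Agent.Lib.FamCount.Sv_two ((-1 : F) ^ 4)
          rw [hqd] at this
          omega)
      have := Cfsg.Agent.Lib.FamCount.Sv_four ((-1 : F) ^ 4)
      refine ⟨hlow.le.trans h1, ?_⟩
      rw [hqd] at this hd h2 hq ⊢
      simp only [Nat.reduceSub, pow_one, pow_zero, mul_one] at *
      have := Nat.mul_le_mul_right (2 * (q + 4)) (show Nat.gcd 4 (q - 1) - 1 ≤ 3 by omega)
      have : 3 * q ≤ q ^ 2 := by rw [pow_two]; exact Nat.mul_le_mul_right q hq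
      omega
  · obtain ⟨h1, h2⟩ := burnside (F := F) (show 1 ≤ n by omega) (5 * q ^ (n / 2 - 1)) (fun z hz => by
      obtain ⟨m, m1, m2, -, m4⟩ := hfix z hz
      have := Cfsg.Agent.Lib.FamCount.Sv_uniform hq m1 ((-1 : F) ^ n)
      rw [hqd] at this
      have := Nat.pow_le_pow_right (show 0 < q by omega) (show m - 1 ≤ n / 2 - 1 by omega)
      omega)
    have h3 := Cfsg.Agent.Lib.FamCount.Sv_bound hq (show 3 ≤ n by omega) ((-1 : F) ^ n)
    refine ⟨hlow.le.trans h1, ?_⟩
    rw [hqd] at h2 h3 hd hq ⊢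
    obtain ⟨c, hc⟩ : ∃ c, c = n - n / 2 := ⟨_, rfl⟩
    have e : q ^ (n - 2) = q ^ (c - 1) * q ^ (n / 2 - 1) := by rw [← pow_add]; congr 1; omega
    have h4 : (Nat.gcd n (q - 1) - 1) * 5 ≤ 4 * q ^ (c - 1) := le_trans (by omega) (tail_pow hq (show 3 ≤ c by omega))
    have h5 := Nat.mul_le_mul_right (q ^ (n / 2 - 1)) h4
    rw [mul_assoc 4, ← e, mul_assoc] at h5
    omega

end Cfsg.Agent.S2480
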