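import Cfsg.Statements.S2481
import Mathlib
import Cfsg.Agent.Lib.Similar.SUFibre
import Cfsg.Agent.Lib.Similar.UBound

set_option autoImplicit false
open Cfsg

namespace Cfsg.Agent.S2481

open Polynomial Cfsg.Agent.Lib.Similar Cfsg.Agent.Lib.FamCount
open Cfsg.Agent.Lib.Classical (conjHom conjHom_apply conjHom_conjHom two_le_q)

variable {F : Type*} [Field F] [Fintype F] {q : ℕ}

theorem card_fixed_ge (hF : Fintype.card F = q ^ 2) : q ≤ Nat.card {x : F // conjHom hF x = x} := by
  classical
  have hq := two_le_q hF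
  have hk : Nat.card (powMonoidHom (q - 1) : Fˣ →* Fˣ).ker = q - 1 := by
    rw [IsCyclic.card_powMonoidHom_ker, Nat.card_units, Nat.card_eq_fintype_card, hF]
    exact Nat.gcd_eq_right ⟨q + 1, by rw [mul_comm, ← Nat.sq_sub_sq, one_pow]⟩
  have h : ∀ u : (powMonoidHom (q - 1) : Fˣ →* Fˣ).ker, conjHom hF ((u.1 : Fˣ) : F) = ((u.1 : Fˣ) : F) := by
    intro u
    have := congrArg Units.val (MonoidHom.mem_ker.1 u.2)
    rw [powMonoidHom_apply, Units.val_pow_eq_pow_val, Units.val_one] at this
    have e := pow_sub_one_mul (show q ≠ 0 by omega) (((u.1 : Fˣ) : F))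
    rw [this, one_mul] at e
    rw [conjHom_apply, ← e]
  have := Nat.card_le_card_of_injective
    (fun o : Option (powMonoidHom (q - 1) : Fˣ →* Fˣ).ker =>
      (o.elim ⟨0, map_zero _⟩ fun u => ⟨_, h u⟩ : {x : F // conjHom hF x = x})) (by
      rintro (_ | a) (_ | b) hab
      · rfl
      · exact absurd (congrArg Subtype.val hab).symm (Units.ne_zero _)
      · exact absurd (congrArg Subtype.val hab) (Units.ne_zero _)
      · exact congrArg some (Subtype.ext (Units.ext (congrArg Subtype.val hab))))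
  rw [Finite.card_option, hk] at this
  omega

theorem exists_SU_charpoly [DecidableEq F] (hF : Fintype.card F = q ^ 2) {n : ℕ} {g : F[X]} (hm : g.Monic)
    (hd : g.natDegree = n) (hs : starP (conjHom hF) g = g) (h0 : g.coeff 0 = (-1) ^ n) :
    ∃ s : Cfsg.SU n F q, ((s : Matrix.SpecialLinearGroup (Fin n) F) : Matrix (Fin n) (Fin n) F).charpoly = g := by
  have hv : ((-1 : F) ^ n) * (-1) ^ n = 1 := by rw [← mul_pow, neg_one_mul, neg_neg, one_pow]
  have hg0 : g.coeff 0 ≠ 0 := by rw [h0]; exact pow_ne_zero _ (neg_ne_zero.2 one_ne_zero)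
  have hnf : (UniqueFactorizationMonoid.normalizedFactors g).map (starP (conjHom hF)) =
      UniqueFactorizationMonoid.normalizedFactors g := by
    conv_rhs => rw [← hs, ← prod_factors hm, starP_multiset_prod]
    rw [UniqueFactorizationMonoid.normalizedFactors_prod_eq]
    · rw [Multiset.map_map]
      refine Multiset.map_congr rfl fun f hf => ?_
      exact ((monic_starP (mem_factors hg0 hf).2.2).normalize_eq_self).symm
    · intro a ha
      obtain ⟨f, hf, rfl⟩ := Multiset.mem_map.1 ha
      obtain ⟨k1, k2, k3⟩ := mem_factors hg0 hf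
      exact irreducible_starP (conjHom_conjHom hF) k2 k1 k3
  have hmem : powFam 1 g ∈ ufam (conjHom hF) 1 n := by
    refine Finset.mem_filter.2 ⟨mem_fam.2 ⟨fun y hy => ?_, by rw [weight_powFam 1 hm hg0, hd, one_mul]⟩, ?_⟩
    · obtain ⟨f, hf, rfl⟩ := Multiset.mem_map.1 hy
      exact ⟨(mem_factors hg0 hf).1, (mem_factors hg0 hf).2.1, (mem_factors hg0 hf).2.2, le_rfl, le_rfl⟩
    · conv_rhs => rw [powFam, ← hnf, Multiset.map_map]
      rw [starM, powFam, Multiset.map_map]
      rfl
  obtain ⟨B, hB⟩ := exists_GU_matInv hF hmem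
  have hdet : ((B : GL (Fin n) F) : Matrix (Fin n) (Fin n) F).det = 1 := by
    have e := dt_matInv (B : GL (Fin n) F)
    rw [hB, dt_powFam 1 hm, pow_one, h0] at e
    linear_combination (-((-1 : F) ^ n)) * e + (1 - ((B : GL (Fin n) F) : Matrix (Fin n) (Fin n) F).det) * hv
  obtain ⟨t, ht⟩ : ∃ t : Matrix.SpecialLinearGroup (Fin n) F, (t : Matrix (Fin n) (Fin n) F) = ((B : GL (Fin n) F) : Matrix (Fin n) (Fin n) F) :=
    ⟨⟨_, hdet⟩, rfl⟩
  have htB : Matrix.SpecialLinearGroup.toGL t = (B : GL (Fin n) F) := Units.ext ht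
  refine ⟨⟨t, by show Matrix.SpecialLinearGroup.toGL t ∈ Cfsg.GU n F q; rw [htB]; exact B.2⟩, ?_⟩
  show (t : Matrix (Fin n) (Fin n) F).charpoly = g
  rw [ht, charpoly_eq_matInv, hB, powFam, Multiset.map_map]
  simp only [Function.comp_def, pow_one, Multiset.map_id', prod_factors hm]

theorem lower [DecidableEq F] (hF : Fintype.card F = q ^ 2) {n : ℕ} (hn : 1 ≤ n) :
    q ^ (n - 1) ≤ Nat.card (ConjClasses (Cfsg.SU n F q)) := by
  obtain ⟨σ, hσ⟩ : ∃ σ, σ = conjHom hF := ⟨_, rfl⟩
  have hσσ : ∀ x, σ (σ x) = x := hσ ▸ conjHom_conjHom hF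
  obtain ⟨v, hv⟩ : ∃ v : F, v = (-1) ^ n := ⟨_, rfl⟩
  have hv2 : v * v = 1 := by rw [hv, ← mul_pow, neg_one_mul, neg_neg, one_pow]
  have hv0 : v ≠ 0 := left_ne_zero_of_mul_eq_one hv2
  have hσv : σ v = v := by rw [hv, map_pow, map_neg, map_one]
  let T := (Fin ((n - 1) / 2) → F) × {x : F // if Even n then σ x = x else x = 0}
  let L : T → ℕ → F := fun t i => if i = 0 then v else if h : i - 1 < (n - 1) / 2 then t.1 ⟨i - 1, h⟩ else 0
  let c : T → ℕ → F := fun t i => if 2 * i < n then L t i else if 2 * i = n then t.2.1 else v * σ (L t (n - i))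
  let P : T → F[X] := fun t => X ^ n + ∑ i : Fin n, C (c t i) * X ^ (i : ℕ)
  have hP : ∀ t, (P t).Monic ∧ (P t).natDegree = n ∧ ∀ i ≤ n, (P t).coeff i = c t i := by
    intro t
    refine ⟨monic_X_pow_add (degree_sum_fin_lt _), ?_, fun i hi => ?_⟩
    · rw [natDegree_add_eq_left_of_degree_lt (by rw [degree_X_pow]; exact degree_sum_fin_lt _), natDegree_X_pow]
    simp only [P, coeff_add, coeff_X_pow, finsetSum_coeff, coeff_C_mul]
    rcases Nat.lt_or_ge i n with h | h
    · rw [if_neg (by omega), zero_add, Finset.sum_eq_single (⟨i, h⟩ : Fin n)]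
      · simp
      · intro b _ hb
        rw [if_neg (fun h' => hb (Fin.ext h'.symm)), mul_zero]
      · simp
    · obtain rfl : i = n := by omega
      rw [if_pos rfl, Finset.sum_eq_zero fun b _ => by rw [if_neg (by omega), mul_zero], add_zero]
      simp only [c, L, if_neg (show ¬ 2 * i < i by omega), if_neg (show ¬ 2 * i = i by omega), Nat.sub_self, if_true, hσv, hv2]
  have hc0 : ∀ t, c t 0 = v := fun t => by simp only [c, L, if_pos (show 2 * 0 < n by omega), if_true]
  have hfix : ∀ t i, i ≤ n → v * σ (c t (n - i)) = c t i := by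
    intro t i hi
    simp only [c]
    rcases Nat.lt_trichotomy (2 * i) n with h | h | h
    · simp only [if_pos h, if_neg (show ¬ 2 * (n - i) < n by omega), if_neg (show ¬ 2 * (n - i) = n by omega)]
      rw [Nat.sub_sub_self hi, map_mul, hσσ, hσv, ← mul_assoc, hv2, one_mul]
    · simp only [if_neg (show ¬ 2 * (n - i) < n by omega), if_pos (show 2 * (n - i) = n by omega),
        if_neg (show ¬ 2 * i < n by omega), if_pos h]
      have he : Even n := ⟨i, by omega⟩
      have := t.2.2
      rw [if_pos he] at this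
      rw [this, hv, he.neg_one_pow, one_mul]
    · simp only [if_pos (show 2 * (n - i) < n by omega), if_neg (show ¬ 2 * i < n by omega),
        if_neg (show ¬ 2 * i = n by omega)]
  have hex : ∀ t, ∃ s : Cfsg.SU n F q, ((s : Matrix.SpecialLinearGroup (Fin n) F) : Matrix (Fin n) (Fin n) F).charpoly = P t := by
    intro t
    obtain ⟨h1, h2, h3⟩ := hP t
    refine exists_SU_charpoly hF h1 h2 (Polynomial.ext fun i => ?_) (by rw [h3 0 (Nat.zero_le _), hc0, hv])
    rw [← hσ]
    have h0 : (P t).coeff 0 ≠ 0 := by rw [h3 0 (Nat.zero_le _), hc0]; exact hv0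
    rcases Nat.lt_or_ge n i with h | h
    · rw [coeff_eq_zero_of_natDegree_lt (by rw [natDegree_starP h0, h2]; exact h), coeff_eq_zero_of_natDegree_lt (by rw [h2]; exact h)]
    · rw [coeff_starP (by rw [h2]; exact h), h2, h3 0 (Nat.zero_le _), hc0, hσv, h3 _ (Nat.sub_le _ _), h3 i h,
        inv_eq_of_mul_eq_one_right hv2, hfix t i h]
  choose s hs using hex
  have hinj : Function.Injective (fun t => ConjClasses.mk (s t)) := by
    intro t t' htt
    obtain ⟨g, hg⟩ := isConj_iff.1 (ConjClasses.mk_eq_mk_iff_isConj.1 htt)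
    have hcp : P t = P t' := by
      rw [← hs, ← hs, ← hg]
      simp only [Subgroup.coe_mul, Matrix.SpecialLinearGroup.coe_mul]
      rw [Matrix.charpoly_mul_comm, ← mul_assoc, ← Matrix.SpecialLinearGroup.coe_mul, ← Subgroup.coe_mul,
        inv_mul_cancel, Subgroup.coe_one, Matrix.SpecialLinearGroup.coe_one, one_mul]
    have hcc : ∀ i ≤ n, c t i = c t' i := fun i hi => by rw [← (hP t).2.2 i hi, ← (hP t').2.2 i hi, hcp]
    refine Prod.ext (funext fun i => ?_) ?_
    · have := hcc (i.1 + 1) (by omega)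
      simp only [c, L, if_pos (show 2 * (i.1 + 1) < n by omega), if_neg (show ¬ i.1 + 1 = 0 by omega), Nat.add_sub_cancel, dif_pos i.2] at this
      exact this
    · by_cases he : Even n
      · obtain ⟨m, hm⟩ := he
        have := hcc m (by omega)
        simp only [c, if_neg (show ¬ 2 * m < n by omega), if_pos (show 2 * m = n by omega)] at this
        exact Subtype.ext this
      · have h1 := t.2.2
        have h2 := t'.2.2
        rw [if_neg he] at h1 h2
        exact Subtype.ext (h1.trans h2.symm)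
  refine le_trans ?_ (Nat.card_le_card_of_injective _ hinj)
  rw [Nat.card_prod, Nat.card_fun, Nat.card_eq_fintype_card (α := F), hF, Nat.card_eq_fintype_card (α := Fin _), Fintype.card_fin, ← pow_mul]
  by_cases he : Even n
  · rw [Nat.card_congr (Equiv.subtypeEquivRight (q := fun x : F => conjHom hF x = x) fun x => by rw [if_pos he, hσ])]
    refine le_trans ?_ (Nat.mul_le_mul_left _ (card_fixed_ge hF))
    rw [← pow_succ]
    obtain ⟨m, hm⟩ := he
    exact Nat.pow_le_pow_right (by have := two_le_q hF; omega) (by omega)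
  · rw [Nat.card_congr (Equiv.subtypeEquivRight (q := fun x : F => x = 0) fun x => by rw [if_neg he]), Nat.card_unique, mul_one]
    obtain ⟨m, hm⟩ := Nat.not_even_iff_odd.1 he
    exact Nat.pow_le_pow_right (by have := two_le_q hF; omega) (by omega)

/-- The number of conjugacy classes of SU(n,q): for n ≥ 2, q a prime power and F the field with q² elements, the number k of conjugacy classes of SU(n,q) (the determinant-one isometries of the standard Hermitian form on F^n) satisfies q^(n−1) ≤ k ≤ 8.26·q^(n−1). -/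
theorem result {F : Type*} [Field F] [Fintype F] (n q : ℕ) (hn : 2 ≤ n) (hF : Fintype.card F = q ^ 2) :
    q ^ (n - 1) ≤ Nat.card (ConjClasses (Cfsg.SU n F q)) ∧ 100 * Nat.card (ConjClasses (Cfsg.SU n F q)) ≤ 826 * q ^ (n - 1) := by
  classical
  exact ⟨lower hF (by omega), (Nat.mul_le_mul_left 100 (card_classesSU_le hF n)).trans (SvU_bound hF (by omega) _)⟩

end Cfsg.Agent.S2481
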