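import Cfsg.Statements.S2482
import Mathlib
import Cfsg.Agent.Lib.Similar.SympClassInv
import Cfsg.Agent.Lib.Similar.SympClassLower

set_option autoImplicit false
open Cfsg

namespace Cfsg.Agent.S2482

open Cfsg.Agent.Lib.Similar Cfsg.Agent.Lib.Similar.SpCount Cfsg.Agent.Lib.Similar.SpClass
open Cfsg.Agent.Lib.Similar.Symp (sadj mem_iff)
open Cfsg.Agent.Lib.FamCount (piece)
open scoped Polynomial
open Polynomial (X C)

theorem upper {F : Type*} [Field F] [Fintype F] (hodd : Odd (Fintype.card F)) (k : ℕ) :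
    5 * Nat.card (ConjClasses (Matrix.symplecticGroup (Fin (k + 1)) F)) ≤ 54 * Fintype.card F ^ (k + 1) := by
  classical
  obtain ⟨p, hchar⟩ := CharP.exists F
  haveI := hchar
  obtain ⟨e, hp, hcard⟩ := FiniteField.card F p
  haveI : Fact p.Prime := ⟨hp⟩
  have hp2 : p ≠ 2 := by
    rintro rfl
    rw [hcard, Nat.odd_pow_iff e.ne_zero] at hodd
    exact absurd hodd (by decide)
  have h2 : (2 : F) ≠ 0 := Signed.two_ne_zero_of_char hp2
  have hq3 : 3 ≤ Fintype.card F := by
    have := Fintype.one_lt_card (α := F)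
    obtain ⟨r, hr⟩ := hodd
    omega
  obtain ⟨n, hn⟩ : ∃ n, n = k + 1 := ⟨_, rfl⟩
  rw [← hn]
  let G := Matrix.symplecticGroup (Fin n) F
  let gl : G → GL (Fin n ⊕ Fin n) F := fun x => Units.map (Submonoid.subtype G) (toUnits x)
  have hgl : ∀ x : G, sadj (x : Matrix (Fin n ⊕ Fin n) (Fin n ⊕ Fin n) F) * x = 1 := fun x => mem_iff.1 x.2
  let inv : G → Multiset (F[X] × ℕ) := fun x => matInv (x : Matrix (Fin n ⊕ Fin n) (Fin n ⊕ Fin n) F)
  haveI : Nonempty G := ⟨1⟩
  let ref : Multiset (F[X] × ℕ) → G := Function.invFun inv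
  have href : ∀ x, inv (ref (inv x)) = inv x := fun x => Function.invFun_eq ⟨x, rfl⟩
  have hconj : ∀ x : G, ∃ T : Matrix (Fin n ⊕ Fin n) (Fin n ⊕ Fin n) F, IsUnit T ∧
      T * (ref (inv x) : Matrix (Fin n ⊕ Fin n) (Fin n ⊕ Fin n) F) = (x : Matrix (Fin n ⊕ Fin n) (Fin n ⊕ Fin n) F) * T := by
    intro x
    have h : ConjClasses.mk (gl (ref (inv x))) = ConjClasses.mk (gl x) := classInv_injective (by
      rw [classInv_mk, classInv_mk]; exact href x)
    obtain ⟨c, hc⟩ := isConj_iff.1 (ConjClasses.mk_eq_mk_iff_isConj.1 h)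
    rw [mul_inv_eq_iff_eq_mul] at hc
    exact ⟨c, c.isUnit, congrArg Units.val hc⟩
  choose T hTu hT using hconj
  have hsig : ∀ x : G, ∃ σ : Matrix (Fin n ⊕ Fin n) (Fin n ⊕ Fin n) F → Bool → ℕ → Bool, ∀ A B, Form (x : Matrix (Fin n ⊕ Fin n) (Fin n ⊕ Fin n) F) A →
      Form (x : Matrix (Fin n ⊕ Fin n) (Fin n ⊕ Fin n) F) B →
      (∀ s j, 1 ≤ j → Even j → (X - C (eps F s), j) ∈ inv x → σ A s j = σ B s j) →
      ∃ Z, IsUnit Z ∧ Z * (x : Matrix (Fin n ⊕ Fin n) (Fin n ⊕ Fin n) F) = (x : Matrix (Fin n ⊕ Fin n) (Fin n ⊕ Fin n) F) * Z ∧ sadj Z * A * Z = B :=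
    fun x => exists_signs hp2 (hgl x)
  choose sg hsg using hsig
  let bit : G → Bool → ℕ → Bool := fun x s i =>
    if Even i ∧ (X - C (eps F s), i) ∈ inv x then sg (ref (inv x)) (sadj (T x) * T x) s i else false
  have hkey : ∀ x y : G, inv x = inv y → (∀ s i, 2 ≤ i → i ≤ 2 * n → bit x s i = bit y s i) → IsConj x y := by
    intro x y hxy hb
    have hfx := form_of_conj (hgl (ref (inv x))) (hgl x) (hTu x) (hT x)
    have hfy := form_of_conj (hgl (ref (inv x))) (hgl y) (hTu y) (by rw [hxy]; exact hT y)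
    obtain ⟨Z, hZu, hZc, hZ⟩ := hsg (ref (inv x)) _ _ hfx hfy fun s j hj1 hje hmem => by
      rw [href] at hmem
      have hj2 : j ≤ 2 * n := by
        have h := (matInv_spec (gl x)).2
        rw [Fintype.card_sum, Fintype.card_fin, ← two_mul] at h
        refine le_trans ?_ (h ▸ Multiset.le_sum_of_mem (Multiset.mem_map.2 ⟨_, hmem, rfl⟩))
        simp
      have := hb s j (by obtain ⟨r, hr⟩ := hje; omega) hj2
      simp only [bit, hje, true_and] at this
      rw [if_pos hmem, if_pos (hxy ▸ hmem), ← hxy] at this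
      exact this
    obtain ⟨g, hg, hge⟩ := conj_of_congr (hTu x) hZu (hT x) (by rw [hxy]; exact hT y) hZc hZ
    refine isConj_iff.2 ⟨⟨g, hg⟩, ?_⟩
    rw [mul_inv_eq_iff_eq_mul]
    exact Subtype.ext hge
  have hspec : ∀ x : G, (∀ y ∈ inv x, y.1.Monic ∧ Irreducible y.1 ∧ y.1.coeff 0 ≠ 0 ∧ 1 ≤ y.2) ∧
      ((inv x).map fun y => y.2 * y.1.natDegree).sum = 2 * n := fun x => by
    have h := matInv_spec (gl x)
    rw [Fintype.card_sum, Fintype.card_fin, ← two_mul] at h
    exact h
  have hexp : ∀ x : G, ∀ y ∈ inv x, y.2 < 2 * n + 1 := fun x y hy => by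
    have h := Multiset.le_sum_of_mem (Multiset.mem_map.2 ⟨y, hy, rfl⟩ : y.2 * y.1.natDegree ∈ (inv x).map fun y => y.2 * y.1.natDegree)
    rw [(hspec x).2] at h
    have := Nat.le_mul_of_pos_right y.2 ((hspec x).1 y hy).2.1.natDegree_pos
    omega
  have hstar : ∀ x : G, starM (RingHom.id F) (inv x) = inv x := fun x => starM_matInv (gl x) (hgl x)
  have hsum : ∀ x : G, (piece 1 (inv x)).natDegree +
      ∑ t : Fin (2 * k + 1), ((t : ℕ) + 2) * (piece ((t : ℕ) + 2) (inv x)).natDegree = 2 * n := by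
    intro x
    have h := (sum_by_exp (fun y hy => ((hspec x).1 y hy).1) _ (hexp x)).trans (hspec x).2
    rw [show 2 * n + 1 = 2 * k + 1 + 1 + 1 by omega, Finset.sum_range_succ', Finset.sum_range_succ', zero_mul, add_zero,
      zero_add, one_mul, add_comm] at h
    rw [Fin.sum_univ_eq_sum_range fun t => (t + 2) * (piece (t + 2) (inv x)).natDegree]
    exact h
  have hodd' : ∀ (x : G) i, Odd i → (piece i (inv x)).coeff 0 = 1 ∧ Even (piece i (inv x)).natDegree := fun x i hi =>
    piece_odd h2 (hspec x).1 (hstar x) fun ε hε => even_count (hgl x) hε h2 hi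
  let row : G → Fin (2 * k + 1) → F[X] × Bool × Bool := fun x t =>
    (piece ((t : ℕ) + 2) (inv x), bit x true ((t : ℕ) + 2), bit x false ((t : ℕ) + 2))
  let w : (Fin (2 * k + 1) → F[X] × Bool × Bool) → ℕ := fun r => ∑ t : Fin (2 * k + 1), wt ((t : ℕ) + 2) (r t)
  have hw : ∀ x : G, 2 * w (row x) + (piece 1 (inv x)).natDegree = 2 * n := by
    intro x
    rw [← hsum x, add_comm, Finset.mul_sum]
    congr 1
    refine Finset.sum_congr rfl fun t _ => ?_
    refine Nat.two_mul_div_two_of_even ?_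
    rcases Nat.even_or_odd ((t : ℕ) + 2) with he | ho
    · exact he.mul_right _
    · exact (hodd' x _ ho).2.mul_left _
  let R : Finset (Fin (2 * k + 1) → F[X] × Bool × Bool) :=
    (Fintype.piFinset fun t : Fin (2 * k + 1) => data n ((t : ℕ) + 2)).filter fun r => w r ≤ n
  let S : Finset (Σ _ : Fin (2 * k + 1) → F[X] × Bool × Bool, F[X]) := R.sigma fun r => srFin (2 * (n - w r)) 1
  let rep : ConjClasses G → G := Function.surjInv ConjClasses.mk_surjective
  have hmem : ∀ x : G, (⟨row x, piece 1 (inv x)⟩ : Σ _ : Fin (2 * k + 1) → F[X] × Bool × Bool, F[X]) ∈ S := by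
    intro x
    have hwx := hw x
    refine Finset.mem_sigma.2 ⟨Finset.mem_filter.2 ⟨Fintype.mem_piFinset.2 fun t => ?_, (by omega : w (row x) ≤ n)⟩, ?_⟩
    · obtain ⟨i, hi⟩ : ∃ i, i = (t : ℕ) + 2 := ⟨_, rfl⟩
      show (piece ((t : ℕ) + 2) (inv x), bit x true ((t : ℕ) + 2), bit x false ((t : ℕ) + 2)) ∈ data n ((t : ℕ) + 2)
      rw [← hi]
      have hdeg : (piece i (inv x)).natDegree ≤ 2 * n := by
        have h1 : ((t : ℕ) + 2) * (piece ((t : ℕ) + 2) (inv x)).natDegree ≤ _ :=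
          Finset.single_le_sum (f := fun t : Fin (2 * k + 1) => ((t : ℕ) + 2) * (piece ((t : ℕ) + 2) (inv x)).natDegree)
            (fun _ _ => Nat.zero_le _) (Finset.mem_univ t)
        have h3 := Nat.le_mul_of_pos_left (piece i (inv x)).natDegree (show 0 < i by omega)
        have := hsum x
        rw [← hi] at h1
        omega
      have hsr := isSR_piece (hspec x).1 (hstar x) i
      rw [data]
      split_ifs with hev
      · refine Finset.mem_biUnion.2 ⟨_, Finset.mem_range.2 (Nat.lt_succ_of_le hdeg), mem_dat h2 hsr ?_ ?_⟩ <;>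
          intro hb <;> simp only [bit, hev, true_and] at hb <;> split_ifs at hb with hm <;>
          simpa [eps] using (mem_of_root (hspec x).1).2 hm
      · obtain ⟨hc, ⟨r, hr⟩⟩ := hodd' x i (Nat.not_even_iff_odd.1 hev)
        refine Finset.mem_biUnion.2 ⟨r, Finset.mem_range.2 (by omega), Finset.mem_product.2 ⟨?_, ?_⟩⟩
        · exact mem_srFin.2 ⟨by rw [show 2 * r = (piece i (inv x)).natDegree by omega]; exact hsr, hc⟩
        · simp [bit, hev]
    · refine mem_srFin.2 ⟨?_, (hodd' x 1 odd_one).1⟩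
      show IsSR (2 * (n - w (row x))) (piece 1 (inv x))
      rw [show 2 * (n - w (row x)) = (piece 1 (inv x)).natDegree by omega]
      exact isSR_piece (hspec x).1 (hstar x) 1
  have hinj : Function.Injective fun c : ConjClasses G => (⟨⟨row (rep c), piece 1 (inv (rep c))⟩, hmem _⟩ : S) := by
    intro c d h
    have h' := Subtype.ext_iff.1 h
    obtain ⟨h1, h3⟩ := Sigma.mk.inj_iff.1 h'
    have h3' := eq_of_heq h3
    have hrow : ∀ i, 2 ≤ i → i ≤ 2 * n → piece i (inv (rep c)) = piece i (inv (rep d)) ∧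
        bit (rep c) true i = bit (rep d) true i ∧ bit (rep c) false i = bit (rep d) false i := by
      intro i hi1 hi2
      have e := congrFun h1 ⟨i - 2, by omega⟩
      simp only [row, Prod.mk.injEq, show i - 2 + 2 = i by omega] at e
      exact e
    have hm : inv (rep c) = inv (rep d) := by
      refine eq_of_pieces (hspec _).1 (hspec _).1 fun i => ?_
      have hz : ∀ x : G, i = 0 ∨ 2 * n < i → piece i (inv x) = 1 := by
        intro x hi
        rw [piece, Multiset.filter_eq_nil.2 fun y hy hyi => ?_, Multiset.map_zero, Multiset.prod_zero]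
        have := ((hspec x).1 y hy).2.2.2
        have := hexp x y hy
        omega
      rcases Nat.lt_or_ge (2 * n) i with hi | hi
      · rw [hz _ (Or.inr hi), hz _ (Or.inr hi)]
      rcases Nat.lt_or_ge i 2 with hi' | hi'
      · rcases Nat.eq_zero_or_pos i with rfl | h0
        · rw [hz _ (Or.inl rfl), hz _ (Or.inl rfl)]
        · rw [show i = 1 by omega]; exact h3'
      · exact (hrow i hi' hi).1
    have := hkey (rep c) (rep d) hm fun s i hi1 hi2 => by cases s <;> [exact (hrow i hi1 hi2).2.2; exact (hrow i hi1 hi2).2.1]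
    rw [← ConjClasses.mk_eq_mk_iff_isConj, Function.surjInv_eq ConjClasses.mk_surjective,
      Function.surjInv_eq ConjClasses.mk_surjective] at this
    exact this
  have hle : Nat.card (ConjClasses G) ≤ S.card := by
    rw [← Nat.card_eq_finsetCard S]
    exact Nat.card_le_card_of_injective _ hinj
  obtain ⟨q, hq⟩ : ∃ q, q = Fintype.card F := ⟨_, rfl⟩
  obtain ⟨y, hy⟩ : ∃ y : ℚ, y = (q : ℚ)⁻¹ := ⟨_, rfl⟩
  have hq0 : (0 : ℚ) < q := by rw [Nat.cast_pos]; omega
  have hy0 : 0 ≤ y := hy ▸ inv_nonneg.2 hq0.le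
  have hy1 : y ≤ 1 / 3 := by
    rw [hy, one_div]
    exact inv_anti₀ (by norm_num) (by exact_mod_cast hq ▸ hq3)
  have hbound : (S.card : ℚ) ≤ (q : ℚ) ^ n * (54 / 5) := by
    rw [Finset.card_sigma, Nat.cast_sum]
    calc ∑ r ∈ R, ((srFin (2 * (n - w r)) (1 : F)).card : ℚ)
        ≤ ∑ r ∈ R, (q : ℚ) ^ n * ∏ t : Fin (2 * k + 1), y ^ wt ((t : ℕ) + 2) (r t) := by
          refine Finset.sum_le_sum fun r hr => ?_
          have hwr : w r ≤ n := (Finset.mem_filter.1 hr).2
          have h := card_srFin_one (F := F) h2 (2 * (n - w r))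
          rw [show 2 * (n - w r) / 2 = n - w r by omega, ← hq] at h
          rw [Finset.prod_pow_eq_pow_sum, show (∑ t : Fin (2 * k + 1), wt ((t : ℕ) + 2) (r t)) = w r from rfl, hy,
            inv_pow, ← pow_sub₀ (q : ℚ) hq0.ne' hwr]
          exact_mod_cast h
      _ ≤ ∑ r ∈ Fintype.piFinset (fun t : Fin (2 * k + 1) => data (F := F) n ((t : ℕ) + 2)),
            (q : ℚ) ^ n * ∏ t : Fin (2 * k + 1), y ^ wt ((t : ℕ) + 2) (r t) :=
          Finset.sum_le_sum_of_subset_of_nonneg (Finset.filter_subset _ _) fun r _ _ => by positivity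
      _ = (q : ℚ) ^ n * ∏ t : Fin (2 * k + 1), ∑ x ∈ data (F := F) n ((t : ℕ) + 2), y ^ wt ((t : ℕ) + 2) x := by
          rw [← Finset.mul_sum, Finset.prod_univ_sum]
      _ ≤ (q : ℚ) ^ n * (54 / 5) := by
          refine mul_le_mul_of_nonneg_left ?_ (by positivity)
          refine le_trans (Finset.prod_le_prod (fun t _ => Finset.sum_nonneg fun x _ => by positivity) fun t _ => ?_)
            (prod_fac_le hy0 hy1 k)
          rw [hy, hq]
          exact sum_data_le h2 (by omega) n (by omega)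
  have hfin : (5 : ℚ) * (Nat.card (ConjClasses G) : ℚ) ≤ 54 * (Fintype.card F : ℚ) ^ n := by
    have : (Nat.card (ConjClasses G) : ℚ) ≤ (S.card : ℚ) := by exact_mod_cast hle
    rw [← hq]
    nlinarith
  exact_mod_cast hfin

/-- The number of conjugacy classes of Sp(2n,q), q odd: for F a finite field of odd order q and n ≥ 1, the number k of conjugacy classes of Sp(2n,F) satisfies q^n ≤ k ≤ 10.8·q^n. -/
theorem result {F : Type*} [Field F] [Fintype F] (hodd : Odd (Fintype.card F)) (n : ℕ) (hn : 1 ≤ n) :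
    Fintype.card F ^ n ≤ Nat.card (ConjClasses (Matrix.symplecticGroup (Fin n) F)) ∧ 5 * Nat.card (ConjClasses (Matrix.symplecticGroup (Fin n) F)) ≤ 54 * Fintype.card F ^ n := by
  obtain ⟨k, rfl⟩ : ∃ k, n = k + 1 := ⟨n - 1, by omega⟩
  refine ⟨card_classes_ge ?_ _, upper hodd k⟩
  intro h
  obtain ⟨p, hchar⟩ := CharP.exists F
  haveI := hchar
  obtain ⟨e, hp, hcard⟩ := FiniteField.card F p
  have h' : ((2 : ℕ) : F) = 0 := by exact_mod_cast h
  rw [CharP.cast_eq_zero_iff F p] at h'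
  have := (Nat.prime_dvd_prime_iff_eq hp Nat.prime_two).1 h'
  subst this
  rw [hcard, Nat.odd_pow_iff e.ne_zero] at hodd
  exact absurd hodd (by decide)

end Cfsg.Agent.S2482
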