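import Cfsg.Statements.S2485
import Mathlib

set_option autoImplicit false
open scoped Pointwise
open Cfsg

namespace Cfsg.Agent.S2485

open Matrix

variable {q : ℕ} [Fact q.Prime]

/-- The element `!![0, -1; 1, 0]`. -/
def rot : Matrix (Fin 2) (Fin 2) (ZMod q) := !![0, -1; 1, 0]

/-- The elements commuting or anticommuting with `rot`. -/
def torusNormalizer (q : ℕ) [Fact q.Prime] : Subgroup (GL (Fin 2) (ZMod q)) where
  carrier := {g | (g : Matrix (Fin 2) (Fin 2) (ZMod q)) * rot = rot * (g : Matrix (Fin 2) (Fin 2) (ZMod q)) ∨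
    (g : Matrix (Fin 2) (Fin 2) (ZMod q)) * rot = -(rot * (g : Matrix (Fin 2) (Fin 2) (ZMod q)))}
  one_mem' := Or.inl (by simp)
  mul_mem' := by
    intro a b ha hb
    simp only [Set.mem_setOf_eq, Units.val_mul] at ha hb ⊢
    rcases ha with ha | ha <;> rcases hb with hb | hb
    · left; rw [mul_assoc, hb, ← mul_assoc, ha, mul_assoc]
    · right; rw [mul_assoc, hb, mul_neg, ← mul_assoc, ha, mul_assoc]
    · right; rw [mul_assoc, hb, ← mul_assoc, ha, neg_mul, mul_assoc]
    · left; rw [mul_assoc, hb, mul_neg, ← mul_assoc, ha, neg_mul, neg_neg, mul_assoc]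
  inv_mem' := by
    intro a ha
    simp only [Set.mem_setOf_eq] at ha ⊢
    rcases ha with ha | ha
    · left
      have := congrArg (fun m => (↑a⁻¹ : Matrix (Fin 2) (Fin 2) (ZMod q)) * m * (↑a⁻¹ : Matrix (Fin 2) (Fin 2) (ZMod q))) ha
      simp only [← mul_assoc, Units.inv_mul, one_mul] at this
      simp only [mul_assoc, Units.mul_inv, mul_one] at this
      exact this.symm
    · right
      have := congrArg (fun m => (↑a⁻¹ : Matrix (Fin 2) (Fin 2) (ZMod q)) * m * (↑a⁻¹ : Matrix (Fin 2) (Fin 2) (ZMod q))) ha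
      simp only [mul_neg, neg_mul, ← mul_assoc, Units.inv_mul, one_mul] at this
      simp only [mul_assoc, Units.mul_inv, mul_one] at this
      exact (neg_eq_iff_eq_neg.mpr this).symm

theorem neg_one_not_square {k : ℕ} (hk : q + 1 = 2 ^ k) (hq : 7 ≤ q) (a b : ZMod q)
    (h : a * a + b * b = 0) : a = 0 ∧ b = 0 := by
  have h4 : q % 4 = 3 := by
    rcases k with _ | _ | k
    · simp at hk; omega
    · simp at hk; omega
    · rw [pow_succ, pow_succ] at hk; omega
  by_cases ha : a = 0
  · subst ha; exact ⟨rfl, by simpa [mul_self_eq_zero] using h⟩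
  · exfalso
    refine (ZMod.exists_sq_eq_neg_one_iff (p := q)).mp ⟨b / a, ?_⟩ h4
    field_simp
    linear_combination -h

theorem card_torusNormalizer {k : ℕ} (hk : q + 1 = 2 ^ k) (hq : 7 ≤ q) :
    Nat.card (torusNormalizer q) = 2 * (q ^ 2 - 1) := by
  classical
  have h2 : (2 : ZMod q) ≠ 0 := by
    intro h
    have := Nat.le_of_dvd (by norm_num) ((ZMod.natCast_eq_zero_iff 2 q).mp (by exact_mod_cast h))
    omega
  let m : Bool → ZMod q × ZMod q → Matrix (Fin 2) (Fin 2) (ZMod q) := fun e v =>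
    if e then !![v.1, -v.2; v.2, v.1] else !![v.1, v.2; v.2, -v.1]
  have hdet : ∀ e v, v ≠ 0 → (m e v).det ≠ 0 := by
    intro e v hv hd
    apply hv
    have h0 : v.1 * v.1 + v.2 * v.2 = 0 := by
      cases e <;> simp [m, Matrix.det_fin_two_of] at hd
      · linear_combination -hd
      · linear_combination hd
    exact Prod.ext (neg_one_not_square hk hq _ _ h0).1 (neg_one_not_square hk hq _ _ h0).2
  let f : Bool × {v : ZMod q × ZMod q // v ≠ 0} → torusNormalizer q := fun p =>
    ⟨GeneralLinearGroup.mkOfDetNeZero (m p.1 p.2.1) (hdet _ _ p.2.2), by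
      rcases p with ⟨e, v, hv⟩
      cases e
      · right
        ext i j; fin_cases i <;> fin_cases j <;> simp [m, rot, Matrix.mul_apply, Fin.sum_univ_two]
      · left
        ext i j; fin_cases i <;> fin_cases j <;> simp [m, rot, Matrix.mul_apply, Fin.sum_univ_two]⟩
  have hbij : Function.Bijective f := by
    constructor
    · rintro ⟨e, v, hv⟩ ⟨e', v', hv'⟩ h
      have h' : m e v = m e' v' := congrArg (fun g : torusNormalizer q => ((g : GL (Fin 2) (ZMod q)) : Matrix (Fin 2) (Fin 2) (ZMod q))) h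
      have hne : ∀ w w' : ZMod q × ZMod q, w ≠ 0 → m true w ≠ m false w' := by
        intro w w' hw he
        have h00 := congrFun (congrFun he 0) 0
        have h11 := congrFun (congrFun he 1) 1
        have h01 := congrFun (congrFun he 0) 1
        have h10 := congrFun (congrFun he 1) 0
        simp [m] at h00 h11 h01 h10
        refine hw (Prod.ext ?_ ?_)
        · exact (mul_eq_zero.mp (show (2 : ZMod q) * w.1 = 0 by linear_combination h00 + h11)).resolve_left h2
        · exact (mul_eq_zero.mp (show (2 : ZMod q) * w.2 = 0 by linear_combination h10 - h01)).resolve_left h2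
      cases e <;> cases e'
      · have h00 := congrFun (congrFun h' 0) 0
        have h10 := congrFun (congrFun h' 1) 0
        simp [m] at h00 h10
        exact Prod.ext rfl (Subtype.ext (Prod.ext h00 h10))
      · exact absurd h'.symm (hne _ _ hv')
      · exact absurd h' (hne _ _ hv)
      · have h00 := congrFun (congrFun h' 0) 0
        have h10 := congrFun (congrFun h' 1) 0
        simp [m] at h00 h10
        exact Prod.ext rfl (Subtype.ext (Prod.ext h00 h10))
    · rintro ⟨g, hg⟩
      have hdg : (g : Matrix (Fin 2) (Fin 2) (ZMod q)).det ≠ 0 := GeneralLinearGroup.det_ne_zero g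
      set G : Matrix (Fin 2) (Fin 2) (ZMod q) := ↑g with hG
      have hv : (G 0 0, G 1 0) ≠ 0 := by
        intro h
        rw [Prod.mk_eq_zero] at h
        rw [Matrix.det_fin_two, h.1, h.2] at hdg
        simp at hdg
      rcases hg with hg | hg
      · refine ⟨(true, ⟨_, hv⟩), Subtype.ext (Units.ext ?_)⟩
        rw [← hG] at hg
        have e1 := congrFun (congrFun hg 0) 0
        have e2 := congrFun (congrFun hg 1) 0
        simp [rot, Matrix.mul_apply, Fin.sum_univ_two, Matrix.vecMul, dotProduct] at e1 e2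
        show m true (G 0 0, G 1 0) = G
        ext i j; fin_cases i <;> fin_cases j <;> simp [m, e1, e2]
      · refine ⟨(false, ⟨_, hv⟩), Subtype.ext (Units.ext ?_)⟩
        rw [← hG] at hg
        have e1 := congrFun (congrFun hg 0) 0
        have e2 := congrFun (congrFun hg 1) 0
        simp [rot, Matrix.mul_apply, Fin.sum_univ_two, Matrix.vecMul, dotProduct] at e1 e2
        show m false (G 0 0, G 1 0) = G
        ext i j; fin_cases i <;> fin_cases j <;> simp [m, e1, e2]
  rw [← Nat.card_eq_of_bijective f hbij, Nat.card_prod, Nat.card_eq_fintype_card (α := Bool), Fintype.card_bool,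
    Nat.card_eq_fintype_card, Fintype.card_subtype_compl, Fintype.card_subtype_eq, Fintype.card_prod, ZMod.card, sq]

theorem exists_common {k : ℕ} (hk : q + 1 = 2 ^ k) (hq : 7 ≤ q) (a b : GL (Fin 2) (ZMod q)) :
    ∃ g : GL (Fin 2) (ZMod q), g ∉ Subgroup.center (GL (Fin 2) (ZMod q)) ∧
      a⁻¹ * g * a ∈ torusNormalizer q ∧ b⁻¹ * g * b ∈ torusNormalizer q := by
  classical
  have h2 : (2 : ZMod q) ≠ 0 := by
    intro h
    have := Nat.le_of_dvd (by norm_num) ((ZMod.natCast_eq_zero_iff 2 q).mp (by exact_mod_cast h))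
    omega
  -- traceless matrices orthogonal to the two conjugates of `rot`
  let T : GL (Fin 2) (ZMod q) → Matrix (Fin 2) (Fin 2) (ZMod q) := fun c =>
    (c : Matrix (Fin 2) (Fin 2) (ZMod q)) * rot * (↑c⁻¹ : Matrix (Fin 2) (Fin 2) (ZMod q))
  let L : Matrix (Fin 2) (Fin 2) (ZMod q) →ₗ[ZMod q] (Fin 3 → ZMod q) :=
    LinearMap.pi ![Matrix.traceLinearMap (Fin 2) (ZMod q) (ZMod q),
      (Matrix.traceLinearMap (Fin 2) (ZMod q) (ZMod q)).comp (LinearMap.mulRight (ZMod q) (T a)),
      (Matrix.traceLinearMap (Fin 2) (ZMod q) (ZMod q)).comp (LinearMap.mulRight (ZMod q) (T b))]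
  obtain ⟨M, hM, hM0⟩ : ∃ M ∈ LinearMap.ker L, M ≠ 0 := by
    by_contra hno
    push Not at hno
    have hinj : Function.Injective L := by
      rw [← LinearMap.ker_eq_bot, eq_bot_iff]
      intro M hM; rw [Submodule.mem_bot]; exact hno M hM
    have := LinearMap.finrank_le_finrank_of_injective hinj
    rw [Module.finrank_matrix, Module.finrank_fin_fun, Module.finrank_self] at this
    simp at this
  rw [LinearMap.mem_ker] at hM
  have t0 : M.trace = 0 := congrFun hM 0
  have ta : (M * T a).trace = 0 := congrFun hM 1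
  have tb : (M * T b).trace = 0 := congrFun hM 2
  have key : ∀ c : GL (Fin 2) (ZMod q), (M * T c).trace = 0 →
      ∃ x y : ZMod q, (↑c⁻¹ : Matrix (Fin 2) (Fin 2) (ZMod q)) * M * (c : Matrix (Fin 2) (Fin 2) (ZMod q)) = !![x, y; y, -x] := by
    intro c hc
    obtain ⟨N, hN⟩ : ∃ N, N = (↑c⁻¹ : Matrix (Fin 2) (Fin 2) (ZMod q)) * M * (c : Matrix (Fin 2) (Fin 2) (ZMod q)) := ⟨_, rfl⟩
    have n0 : N.trace = 0 := by
      rw [hN, Matrix.trace_mul_comm, ← mul_assoc, Units.mul_inv, one_mul, t0]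
    have n1 : (N * rot).trace = 0 := by
      rw [← hc, hN]
      simp only [T]
      rw [mul_assoc, mul_assoc, Matrix.trace_mul_comm]
      simp only [mul_assoc]
    rw [Matrix.trace_fin_two] at n0
    simp [Matrix.trace_fin_two, rot, Matrix.mul_apply, Fin.sum_univ_two] at n1
    refine ⟨N 0 0, N 0 1, ?_⟩
    rw [← hN]
    ext i j; fin_cases i <;> fin_cases j <;> simp
    · linear_combination -n1
    · linear_combination n0
  have anti : ∀ x y : ZMod q, !![x, y; y, -x] * rot = -(rot * !![x, y; y, -x]) := by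
    intro x y
    ext i j; fin_cases i <;> fin_cases j <;> simp [rot, Matrix.mul_apply, Fin.sum_univ_two]
  obtain ⟨x, y, hxy⟩ := key a ta
  have hdet : M.det ≠ 0 := by
    intro hd
    have h1 : (!![x, y; y, -x] : Matrix (Fin 2) (Fin 2) (ZMod q)).det = 0 := by
      rw [← hxy, Matrix.det_mul, Matrix.det_mul, hd]; simp
    rw [Matrix.det_fin_two_of] at h1
    obtain ⟨rfl, rfl⟩ := neg_one_not_square hk hq x y (by linear_combination -h1)
    apply hM0
    have := congrArg (fun N => (a : Matrix (Fin 2) (Fin 2) (ZMod q)) * N * (↑a⁻¹ : Matrix (Fin 2) (Fin 2) (ZMod q))) hxy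
    simp only [← mul_assoc, Units.mul_inv, one_mul] at this
    rw [mul_assoc, Units.mul_inv, mul_one] at this
    rw [this, show (!![(0 : ZMod q), 0; 0, -0]) = 0 by ext i j; fin_cases i <;> fin_cases j <;> simp]
    simp
  refine ⟨GeneralLinearGroup.mkOfDetNeZero M hdet, ?_, ?_, ?_⟩
  · rw [GeneralLinearGroup.center_eq_range_scalar]
    rintro ⟨u, hu⟩
    apply hM0
    have hu' : M = Matrix.scalar (Fin 2) (u : ZMod q) := congrArg Units.val hu.symm
    rw [hu', Matrix.trace_fin_two] at t0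
    simp at t0
    have : (2 : ZMod q) * (u : ZMod q) = 0 := by linear_combination t0
    rw [hu', (mul_eq_zero.mp this).resolve_left h2, map_zero]
  · right
    show ((↑a⁻¹ : Matrix (Fin 2) (Fin 2) (ZMod q)) * M * (a : Matrix (Fin 2) (Fin 2) (ZMod q))) * rot = _
    rw [Units.val_mul, Units.val_mul]
    show _ = -(rot * ((↑a⁻¹ : Matrix (Fin 2) (Fin 2) (ZMod q)) * M * (a : Matrix (Fin 2) (Fin 2) (ZMod q))))
    rw [hxy]; exact anti x y
  · right
    obtain ⟨x', y', hxy'⟩ := key b tb
    show ((↑b⁻¹ : Matrix (Fin 2) (Fin 2) (ZMod q)) * M * (b : Matrix (Fin 2) (Fin 2) (ZMod q))) * rot = _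
    rw [Units.val_mul, Units.val_mul]
    show _ = -(rot * ((↑b⁻¹ : Matrix (Fin 2) (Fin 2) (ZMod q)) * M * (b : Matrix (Fin 2) (Fin 2) (ZMod q))))
    rw [hxy']; exact anti x' y'

/-- Let q = 2^k − 1 ≥ 7 be a prime and let G = PGL(2,q), the general linear group of degree 2 over the field with q elements modulo its centre. Then any two Sylow 2-subgroups of G have a non-trivial intersection: for a Sylow 2-subgroup H and every x ∈ G, H ∩ H^x ≠ 1. -/
theorem result {q k : ℕ} [Fact q.Prime] (hk : q + 1 = 2 ^ k) (hq : 7 ≤ q)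
    (H : Sylow 2 (GL (Fin 2) (ZMod q) ⧸ Subgroup.center (GL (Fin 2) (ZMod q))))
    (x : GL (Fin 2) (ZMod q) ⧸ Subgroup.center (GL (Fin 2) (ZMod q))) :
    (H : Subgroup (GL (Fin 2) (ZMod q) ⧸ Subgroup.center (GL (Fin 2) (ZMod q)))) ⊓ MulAut.conj x • (H : Subgroup _) ≠ ⊥ := by
  classical
  let Z := Subgroup.center (GL (Fin 2) (ZMod q))
  let π := QuotientGroup.mk' Z
  haveI : Fact (Nat.Prime 2) := ⟨Nat.prime_two⟩
  have hπ : Function.Surjective π := QuotientGroup.mk'_surjective Z
  have hZN : Z ≤ torusNormalizer q := fun z hz => Or.inl (by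
    change z ∈ Subgroup.center (GL (Fin 2) (ZMod q)) at hz
    rw [GeneralLinearGroup.center_eq_range_scalar] at hz
    obtain ⟨u, rfl⟩ := hz
    exact Matrix.scalar_commute (u : ZMod q) (fun r => mul_comm _ r) rot)
  have hcomap : ((torusNormalizer q).map π).comap π = torusNormalizer q := by
    rw [Subgroup.comap_map_eq, QuotientGroup.ker_mk', sup_eq_left]
    exact hZN
  have hZ : Nat.card Z = q - 1 := by
    rw [show Z = (GeneralLinearGroup.scalar (Fin 2) : (ZMod q)ˣ →* GL (Fin 2) (ZMod q)).range from GeneralLinearGroup.center_eq_range_scalar,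
      ← Nat.card_congr (MonoidHom.ofInjective (fun u v h => Units.ext (by
        have h2 := congrArg (fun g : GL (Fin 2) (ZMod q) => (g : Matrix (Fin 2) (Fin 2) (ZMod q)) 0 0) h
        simpa using h2))).toEquiv, Nat.card_eq_fintype_card, ZMod.card_units_eq_totient, Nat.totient_prime Fact.out]
  have hG : Nat.card (GL (Fin 2) (ZMod q)) = (q ^ 2 - 1) * (q ^ 2 - q) := by
    rw [Matrix.card_GL_field, Fin.prod_univ_two, ZMod.card]; simp
  obtain ⟨D, hD⟩ : ∃ D, D = (torusNormalizer q).map π := ⟨_, rfl⟩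
  have hidx : D.index = (torusNormalizer q).index := by
    rw [← hcomap, ← hD, Subgroup.index_comap_of_surjective _ hπ]
  have hN := card_torusNormalizer hk hq
  have hk3 : 3 ≤ k := by
    by_contra h
    have : 2 ^ k ≤ 2 ^ 2 := Nat.pow_le_pow_right (by norm_num) (by omega)
    omega
  obtain ⟨j, rfl⟩ : ∃ j, k = j + 1 := ⟨k - 1, by omega⟩
  have hpow : 2 ^ (j + 1) = 2 * 2 ^ j := by rw [pow_succ']
  have hodd : (torusNormalizer q).index = q * (2 ^ j - 1) := by
    have h := (torusNormalizer q).index_mul_card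
    rw [hN, hG] at h
    have hq2 : 1 < q ^ 2 := by nlinarith
    have e : q ^ 2 - q = 2 * (q * (2 ^ j - 1)) := by
      have : q = 2 * (2 ^ j - 1) + 1 := by omega
      rw [sq, show q * q - q = q * (q - 1) by rw [Nat.mul_sub_one]]
      rw [show q - 1 = 2 * (2 ^ j - 1) by omega]; ring
    rw [e, show (q ^ 2 - 1) * (2 * (q * (2 ^ j - 1))) = (q * (2 ^ j - 1)) * (2 * (q ^ 2 - 1)) by ring] at h
    exact Nat.eq_of_mul_eq_mul_right (by omega) h
  have hcardD : Nat.card D = 2 ^ (j + 2) := by
    have h1 := D.index_mul_card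
    have h2 := (Subgroup.center (GL (Fin 2) (ZMod q))).index_mul_card
    rw [hZ, hG, Subgroup.index_eq_card] at h2
    rw [hidx, hodd] at h1
    rw [← h1] at h2
    have e : q ^ 2 - q = 2 * (q * (2 ^ j - 1)) := by
      rw [sq, show q * q - q = q * (q - 1) by rw [Nat.mul_sub_one], show q - 1 = 2 * (2 ^ j - 1) by omega]; ring
    have e2 : q ^ 2 - 1 = (q + 1) * (q - 1) := by rw [← Nat.sq_sub_sq, one_pow]
    rw [e, e2, hk] at h2
    have hpos : 0 < q * (2 ^ j - 1) * (q - 1) := Nat.mul_pos (Nat.mul_pos (by omega) (by omega)) (by omega)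
    refine Nat.eq_of_mul_eq_mul_right hpos ?_
    rw [show j + 2 = j + 1 + 1 from rfl, pow_succ]
    linarith
  have hnd : ¬ 2 ∣ D.index := by
    rw [hidx, hodd]
    intro h
    rcases (Nat.Prime.dvd_mul Nat.prime_two).mp h with h | h
    · omega
    · have : 2 ∣ 2 ^ j := dvd_pow_self 2 (by omega)
      omega
  let P : Sylow 2 (GL (Fin 2) (ZMod q) ⧸ Subgroup.center (GL (Fin 2) (ZMod q))) :=
    (IsPGroup.of_card hcardD).toSylow hnd
  obtain ⟨c, hc⟩ := MulAction.exists_smul_eq (GL (Fin 2) (ZMod q) ⧸ Subgroup.center (GL (Fin 2) (ZMod q))) P H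
  obtain ⟨a, ha⟩ := hπ c
  obtain ⟨b, hb⟩ := hπ (x * c)
  obtain ⟨g, hg, hga, hgb⟩ := exists_common hk hq a b
  intro hbot
  apply hg
  rw [← QuotientGroup.eq_one_iff, ← Subgroup.mem_bot, ← hbot]
  have hmem : ∀ (d : GL (Fin 2) (ZMod q)), d⁻¹ * g * d ∈ torusNormalizer q → π g ∈ MulAut.conj (π d) • D := by
    intro d hd
    refine Subgroup.mem_pointwise_smul_iff_inv_smul_mem.mpr ?_
    rw [hD]
    refine ⟨_, hd, ?_⟩
    simp [MulAut.smul_def, π]
  have hH : (H : Subgroup (GL (Fin 2) (ZMod q) ⧸ Subgroup.center (GL (Fin 2) (ZMod q)))) = MulAut.conj c • D := by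
    rw [← hc]; rfl
  rw [Subgroup.mem_inf, hH]
  refine ⟨?_, ?_⟩
  · rw [← ha]; exact hmem a hga
  · rw [smul_smul, ← map_mul, ← hb]; exact hmem b hgb

end Cfsg.Agent.S2485
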