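import Cfsg.Statements.S2486
import Mathlib
import Cfsg.Agent.Lib.Classical.AutPSL.FieldClass
import Cfsg.Agent.Lib.Flag.GLOrbits

set_option autoImplicit false
open scoped Pointwise
open Cfsg

namespace Cfsg.Agent.S2486

open Matrix Cfsg.Agent.Lib.Classical.AutPSL

variable {n : ℕ}

local notation "K2" => ZMod 2

theorem zmod_two_eq_one {a : ZMod 2} (h : a ≠ 0) : a = 1 := by revert h; revert a; decide

theorem units_zmod_two (u : (ZMod 2)ˣ) : u = 1 := Units.ext (zmod_two_eq_one u.ne_zero)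

theorem toGL_bijective : Function.Bijective
    (SpecialLinearGroup.toGL : SpecialLinearGroup (Fin n) (ZMod 2) →* GL (Fin n) (ZMod 2)) :=
  ⟨fun a b h => Subtype.ext (congrArg Units.val h), fun g =>
    ⟨⟨g.1, congrArg Units.val (units_zmod_two (GeneralLinearGroup.det g))⟩, Units.ext rfl⟩⟩

theorem proj_bijective : Function.Bijective (proj (n := n) (F := ZMod 2)) := by
  refine ⟨?_, proj_surjective⟩
  rw [← MonoidHom.ker_eq_bot_iff, eq_bot_iff]
  intro z hz
  rw [MonoidHom.mem_ker, proj_eq_one] at hz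
  obtain ⟨r, hr, hrz⟩ := Matrix.SpecialLinearGroup.mem_center_iff.mp hz
  rw [Subgroup.mem_bot]
  rcases Nat.eq_zero_or_pos n with rfl | hn
  · exact Subtype.ext (Matrix.ext fun i => i.elim0)
  · have hr0 : r ≠ 0 := fun h => by
      rw [h, Fintype.card_fin, zero_pow hn.ne'] at hr
      exact zero_ne_one hr
    exact Subtype.ext (by rw [← hrz, zmod_two_eq_one hr0]; simp)

/-- An automorphism of `GL_n(2)` is inner or inner times inverse transpose. -/
theorem aut_cases (hn : 2 ≤ n) (α : MulAut (GL (Fin n) (ZMod 2))) :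
    ∃ h : GL (Fin n) (ZMod 2), (∀ y, α y = h * y * h⁻¹) ∨ (∀ y, α y = h * itGL y * h⁻¹) := by
  haveI : Fact (Nat.Prime 2) := ⟨Nat.prime_two⟩
  obtain ⟨T, hT⟩ : ∃ T : SpecialLinearGroup (Fin n) (ZMod 2) ≃* GL (Fin n) (ZMod 2), ∀ s, (T s).val = s.1 :=
    ⟨MulEquiv.ofBijective _ toGL_bijective, fun s => rfl⟩
  obtain ⟨P, hP⟩ : ∃ P : SpecialLinearGroup (Fin n) (ZMod 2) ≃* ProjectiveSpecialLinearGroup (Fin n) (ZMod 2),
      ∀ s, P s = proj s := ⟨MulEquiv.ofBijective _ proj_bijective, fun s => rfl⟩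
  obtain ⟨β, hβ⟩ : ∃ β : MulAut (ProjectiveSpecialLinearGroup (Fin n) (ZMod 2)),
      ∀ s, β (proj s) = proj (T.symm (α (T s))) :=
    ⟨P.symm.trans (T.trans (α.trans (T.symm.trans P))), fun s => by simp [← hP]⟩
  obtain ⟨g, σ, h⟩ := decomposition 2 hn β
  have hσ : σ = 1 := RingEquiv.ext fun x => by
    fin_cases x
    · exact map_zero σ
    · exact map_one σ
  refine ⟨g, ?_⟩
  have hinj : ∀ s t : SpecialLinearGroup (Fin n) (ZMod 2), proj s = proj t → s = t := fun s t h => proj_bijective.1 h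
  rcases h with h | ⟨-, h⟩ <;> rw [hσ, map_one, mul_one] at h
  · left
    intro y
    obtain ⟨s, rfl⟩ := T.surjective y
    have e := hβ s
    rw [h, dia_proj] at e
    have e2 := congrArg (fun z => T z) (hinj _ _ e).symm
    simp only [MulEquiv.apply_symm_apply] at e2
    rw [e2]
    apply Units.ext
    rw [hT, conjSL_coe, Units.val_mul, Units.val_mul, hT]
  · right
    intro y
    obtain ⟨s, rfl⟩ := T.surjective y
    have e := hβ s
    rw [h, MulAut.mul_apply, invTr_proj, dia_proj] at e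
    have e2 := congrArg (fun z => T z) (hinj _ _ e).symm
    simp only [MulEquiv.apply_symm_apply] at e2
    rw [e2]
    apply Units.ext
    rw [hT, conjSL_coe, Units.val_mul, Units.val_mul, itGL_coe, ← map_inv T, hT,
      Matrix.SpecialLinearGroup.coe_transpose]

/-- The reversing permutation matrix. -/
noncomputable def revGL (n : ℕ) : GL (Fin n) (ZMod 2) := Cfsg.Agent.Lib.Flag.permGL Fin.revPerm

theorem revGL_mul_self : revGL n * revGL n = 1 := by
  rw [revGL, ← Cfsg.Agent.Lib.Flag.permGL_mul, show (Fin.revPerm : Equiv.Perm (Fin n)) * Fin.revPerm = 1 from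
    Equiv.ext fun i => by simp]
  apply Units.ext
  ext i j
  simp only [Cfsg.Agent.Lib.Flag.permGL_apply, Matrix.one_apply, Equiv.Perm.one_apply, Units.val_one]
  split_ifs <;> simp_all

theorem itGL_permGL (w : Equiv.Perm (Fin n)) :
    itGL (Cfsg.Agent.Lib.Flag.permGL (F := ZMod 2) w) = Cfsg.Agent.Lib.Flag.permGL w := by
  apply Units.ext
  rw [itGL_coe]
  ext i j
  show (if j = w.symm i then (1 : ZMod 2) else 0) = if i = w j then 1 else 0
  by_cases h : i = w j
  · subst h; simp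
  · rw [if_neg h, if_neg]
    intro h'; exact h (by rw [h']; simp)

/-- The duality fixing the standard flag. -/
noncomputable def dual : GL (Fin n) (ZMod 2) →* GL (Fin n) (ZMod 2) :=
  (MulAut.conj (revGL n)).toMonoidHom.comp itGL

theorem dual_apply (g : GL (Fin n) (ZMod 2)) : dual g = revGL n * itGL g * (revGL n)⁻¹ := rfl

theorem itGL_itGL' (g : GL (Fin n) (ZMod 2)) : itGL (itGL g) = g := itGL_itGL g

theorem dual_dual (g : GL (Fin n) (ZMod 2)) : dual (dual g) = g := by
  have hi : (revGL n)⁻¹ = revGL n := inv_eq_of_mul_eq_one_right revGL_mul_self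
  rw [dual_apply, dual_apply, map_mul, map_mul, map_inv, itGL_itGL', revGL, itGL_permGL, ← revGL, hi]
  calc revGL n * (revGL n * g * revGL n) * revGL n = (revGL n * revGL n) * g * (revGL n * revGL n) := by group
    _ = g := by rw [revGL_mul_self, one_mul, mul_one]

/-- Upper triangular invertible matrices. -/
def upperB (n : ℕ) : Subgroup (GL (Fin n) (ZMod 2)) where
  carrier := {g | (g : Matrix (Fin n) (Fin n) (ZMod 2)).BlockTriangular id}
  one_mem' := Matrix.blockTriangular_one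
  mul_mem' ha hb := ha.mul hb
  inv_mem' {a} ha := by
    show Matrix.BlockTriangular (((a⁻¹ : GL (Fin n) (ZMod 2))) : Matrix (Fin n) (Fin n) (ZMod 2)) id
    haveI : Invertible (a : Matrix (Fin n) (Fin n) (ZMod 2)) := a.invertible
    have h := Matrix.blockTriangular_inv_of_blockTriangular ha
    rwa [← Matrix.coe_units_inv] at h

theorem mem_upperB {g : GL (Fin n) (ZMod 2)} :
    g ∈ upperB n ↔ ∀ i j : Fin n, j < i → (g : Matrix (Fin n) (Fin n) (ZMod 2)) i j = 0 := Iff.rfl

theorem dual_mem_upperB {g : GL (Fin n) (ZMod 2)} (hg : g ∈ upperB n) : dual g ∈ upperB n := by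
  intro i j (hij : j < i)
  have hi : (revGL n)⁻¹ = revGL n := inv_eq_of_mul_eq_one_right revGL_mul_self
  rw [dual_apply, hi, Units.val_mul, Units.val_mul, Matrix.mul_apply, Finset.sum_eq_single (Fin.rev j)]
  · rw [Matrix.mul_apply, Finset.sum_eq_single (Fin.rev i)]
    · rw [itGL_coe, Matrix.transpose_apply,
        (mem_upperB.mp (Subgroup.inv_mem _ hg)) _ _ (Fin.rev_lt_rev.mpr hij)]
      ring
    · intro b _ hb
      simp [revGL, Cfsg.Agent.Lib.Flag.permGL_apply, Ne.symm (fun h : b = Fin.rev i => hb h), show i ≠ Fin.rev b from fun h => hb (by rw [h, Fin.rev_rev])]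
    · simp
  · intro b _ hb
    simp [revGL, Cfsg.Agent.Lib.Flag.permGL_apply, hb]
  · simp

theorem isPGroup_upperB : IsPGroup 2 (upperB n) := by
  haveI : Fact (Nat.Prime 2) := ⟨Nat.prime_two⟩
  intro ⟨g, hg⟩
  have hdiag : ∀ i, (g : Matrix (Fin n) (Fin n) (ZMod 2)) i i = 1 := fun i => by
    apply zmod_two_eq_one
    intro h0
    apply GeneralLinearGroup.det_ne_zero g
    rw [Matrix.det_of_isUpperTriangular (fun a b h => hg h)]
    exact Finset.prod_eq_zero (Finset.mem_univ i) h0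
  obtain ⟨N, hN⟩ : ∃ N, N = (g : Matrix (Fin n) (Fin n) (ZMod 2)) - 1 := ⟨_, rfl⟩
  have hpow : ∀ k (i j : Fin n), (j : ℕ) < i + k → (N ^ k) i j = 0 := by
    intro k
    induction k with
    | zero => intro i j h; rw [pow_zero, Matrix.one_apply_ne]; intro e; subst e; omega
    | succ k ih =>
      intro i j h
      rw [pow_succ, Matrix.mul_apply]
      refine Finset.sum_eq_zero fun x _ => ?_
      by_cases hx : (x : ℕ) < i + k
      · rw [ih i x hx, zero_mul]
      · have hjx : (j : ℕ) ≤ x := by omega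
        rcases eq_or_lt_of_le hjx with e | e
        · rw [hN, show j = x from Fin.ext e, Matrix.sub_apply, hdiag, Matrix.one_apply_eq, sub_self, mul_zero]
        · have hlt : j < x := e
          rw [hN, Matrix.sub_apply, mem_upperB.mp hg _ _ hlt, Matrix.one_apply_ne hlt.ne', sub_zero, mul_zero]
  refine ⟨n, Subtype.ext (Units.ext ?_)⟩
  rw [SubmonoidClass.coe_pow, Units.val_pow_eq_pow_val]
  show (g : Matrix (Fin n) (Fin n) (ZMod 2)) ^ 2 ^ n = 1
  have hg' : (g : Matrix (Fin n) (Fin n) (ZMod 2)) = 1 + N := by rw [hN, add_sub_cancel]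
  have hz : N ^ 2 ^ n = 0 := Matrix.ext fun i j => hpow _ i j (by
    have := j.2; have := Nat.lt_two_pow_self (n := n); omega)
  rcases Nat.eq_zero_or_pos n with rfl | hn
  · exact Matrix.ext fun i => i.elim0
  haveI : Nonempty (Fin n) := ⟨⟨0, hn⟩⟩
  haveI : CharP (Matrix (Fin n) (Fin n) (ZMod 2)) 2 := inferInstance
  rw [hg', add_pow_char_pow_of_commute 2 n (Commute.one_left N), one_pow, hz, add_zero]

theorem antitone_eq_rev {w : Equiv.Perm (Fin n)} (hw : StrictAnti w) : w = Fin.revPerm := by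
  have h : StrictMono (fun i => Fin.rev (w i)) := fun a b h => Fin.rev_lt_rev.mpr (hw h)
  have e : ∀ i, Fin.rev (w i) = i := fun i =>
    congrFun (congrArg DFunLike.coe (Subsingleton.elim (h.orderIsoOfSurjective _ (Fin.rev_surjective.comp w.surjective)) (OrderIso.refl (Fin n)))) i
  exact Equiv.ext fun i => by rw [Fin.revPerm_apply]; exact Fin.rev_eq_iff.mp (e i)

/-- Let n ≥ 4 and let G be a finite group with a normal subgroup N of index 2 isomorphic to SL(n,2) and with trivial centralizer in G (so G is the extension of the simple group L_n(2) by its inverse-transpose automorphism, its full automorphism group). Then any two Sylow 2-subgroups of G have a non-trivial intersection: for a Sylow 2-subgroup H and every x ∈ G, H ∩ H^x ≠ 1. -/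
theorem result {G : Type*} [Group G] [Finite G] {n : ℕ} (hn : 4 ≤ n) (N : Subgroup G) [N.Normal]
    (e : N ≃* Matrix.SpecialLinearGroup (Fin n) (ZMod 2)) (hidx : N.index = 2)
    (hC : Subgroup.centralizer (N : Set G) = ⊥)
    (H : Sylow 2 G) (x : G) :
    (H : Subgroup G) ⊓ MulAut.conj x • (H : Subgroup G) ≠ ⊥ := by
  classical
  haveI : Fact (Nat.Prime 2) := ⟨Nat.prime_two⟩
  have hn0 : 2 ≤ n := by omega
  obtain ⟨E, hE⟩ : ∃ E : N ≃* GL (Fin n) (ZMod 2), E = e.trans (MulEquiv.ofBijective _ toGL_bijective) := ⟨_, rfl⟩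
  have hcent : ∀ g : G, (∀ y : N, g * y * g⁻¹ = y) → g = 1 := fun g hg => by
    rw [← Subgroup.mem_bot, ← hC, Subgroup.mem_centralizer_iff]
    intro y hy
    exact (mul_inv_eq_iff_eq_mul.mp (hg ⟨y, hy⟩)).symm
  -- an element inducing the duality
  obtain ⟨g₀, hg₀⟩ : ∃ g : G, g ∉ N := by
    by_contra h
    push Not at h
    rw [(Subgroup.eq_top_iff' N).mpr h, Subgroup.index_top] at hidx
    norm_num at hidx
  obtain ⟨α, hα⟩ : ∃ α : MulAut (GL (Fin n) (ZMod 2)), ∀ y : N, α (E y) = E (MulAut.conjNormal g₀ y) :=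
    ⟨E.symm.trans ((MulAut.conjNormal g₀).trans E), fun y => by simp⟩
  obtain ⟨h, hh | hh⟩ := aut_cases hn0 α
  · exfalso
    apply hg₀
    have : (E.symm h : G)⁻¹ * g₀ = 1 := hcent _ fun y => by
      have e1 : MulAut.conjNormal g₀ y = E.symm h * y * (E.symm h)⁻¹ := E.injective (by
        rw [← hα, hh, map_mul, map_mul, map_inv, MulEquiv.apply_symm_apply])
      have e2 := congrArg Subtype.val e1
      rw [MulAut.conjNormal_apply, Subgroup.coe_mul, Subgroup.coe_mul, Subgroup.coe_inv] at e2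
      calc (E.symm h : G)⁻¹ * g₀ * y * ((E.symm h : G)⁻¹ * g₀)⁻¹
          = (E.symm h : G)⁻¹ * (g₀ * y * g₀⁻¹) * (E.symm h : G) := by group
        _ = y := by rw [e2]; group
    rw [inv_mul_eq_one] at this
    exact this ▸ (E.symm h).2
  obtain ⟨t, ht⟩ : ∃ t : G, t = (E.symm (revGL n * h⁻¹) : G) * g₀ := ⟨_, rfl⟩
  have htN : t ∉ N := fun h' => hg₀ (by
    have := N.mul_mem (N.inv_mem (E.symm (revGL n * h⁻¹)).2) h'
    rwa [ht, inv_mul_cancel_left] at this)
  have htd : ∀ y : N, E (MulAut.conjNormal t y) = dual (E y) := by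
    intro y
    rw [ht, map_mul, MulAut.mul_apply, show MulAut.conjNormal ((E.symm (revGL n * h⁻¹)) : G) (MulAut.conjNormal g₀ y) =
      E.symm (revGL n * h⁻¹) * MulAut.conjNormal g₀ y * (E.symm (revGL n * h⁻¹))⁻¹ from Subtype.ext (by rw [Subgroup.coe_mul, Subgroup.coe_mul, Subgroup.coe_inv, MulAut.conjNormal_apply])]
    rw [map_mul, map_mul, map_inv, MulEquiv.apply_symm_apply, ← hα, hh, dual_apply]
    group
  have htt : t * t = 1 := hcent _ fun y => by
    have e1 : MulAut.conjNormal t (MulAut.conjNormal t y) = y := E.injective (by rw [htd, htd, dual_dual])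
    have e2 := congrArg Subtype.val e1
    simp only [MulAut.conjNormal_apply] at e2
    calc t * t * y * (t * t)⁻¹ = t * (t * y * t⁻¹) * t⁻¹ := by group
      _ = y := e2
  obtain ⟨U, hU⟩ : ∃ U : Subgroup G, U = ((upperB n).comap E.toMonoidHom).map N.subtype := ⟨_, rfl⟩
  have hUp : IsPGroup 2 U := by
    rw [hU]
    exact (isPGroup_upperB.comap_of_injective E.toMonoidHom E.injective).map N.subtype
  have hUmem : ∀ y : N, (y : G) ∈ U ↔ E y ∈ upperB n := fun y => by
    rw [hU]
    exact ⟨fun ⟨z, hz, hzy⟩ => N.subtype_injective hzy ▸ hz, fun hy => ⟨y, hy, rfl⟩⟩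
  have htU : t ∈ Subgroup.normalizer (U : Set G) := by
    rw [Subgroup.mem_normalizer_iff]
    intro x
    have key : ∀ x ∈ U, t * x * t⁻¹ ∈ U := by
      intro x hx
      obtain ⟨z, hz, rfl⟩ : ∃ z ∈ (upperB n).comap E.toMonoidHom, (N.subtype z) = x := by rwa [hU, Subgroup.mem_map] at hx
      have : (MulAut.conjNormal t z : G) ∈ U := (hUmem _).mpr (by rw [htd]; exact dual_mem_upperB hz)
      rwa [MulAut.conjNormal_apply] at this
    refine ⟨key x, fun hx => ?_⟩
    have h2 := key _ hx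
    have hti : t⁻¹ = t := inv_eq_of_mul_eq_one_right htt
    rwa [hti, show t * (t * x * t) * t = (t * t) * x * (t * t) by group, htt, one_mul, mul_one] at h2
  obtain ⟨S, hS⟩ : ∃ S : Subgroup G, S = U ⊔ Subgroup.zpowers t := ⟨_, rfl⟩
  have hSp : IsPGroup 2 S := by
    rw [hS]
    refine IsPGroup.to_sup_of_normal_left' hUp ?_ (Subgroup.zpowers_le.mpr htU)
    intro g
    obtain ⟨i, hi⟩ := Subgroup.mem_zpowers_iff.mp g.2
    refine ⟨1, Subtype.ext ?_⟩
    rw [SubmonoidClass.coe_pow, ← hi, pow_one, ← zpow_natCast, ← _root_.zpow_mul, mul_comm, _root_.zpow_mul, zpow_natCast, sq, htt,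
      _root_.one_zpow]; rfl
  obtain ⟨H0, hH0⟩ := hSp.exists_le_sylow
  have htH : t ∈ H0 := hH0 (hS ▸ Subgroup.mem_sup_right (Subgroup.mem_zpowers t))
  have hUH : ∀ y : N, E y ∈ upperB n → (y : G) ∈ H0 := fun y hy =>
    hH0 (hS ▸ Subgroup.mem_sup_left ((hUmem y).mpr hy))
  -- any two conjugates of `H0` meet
  have hN : ∀ y : N, ∃ k : G, k ≠ 1 ∧ k ∈ H0 ∧ (y : G)⁻¹ * k * y ∈ H0 := by
    intro y
    obtain ⟨b, b', w, hb, hb', hy⟩ := Cfsg.Agent.Lib.Flag.exists_bruhat (E y)
    obtain ⟨B, hBd⟩ : ∃ B : N, B = E.symm b := ⟨_, rfl⟩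
    obtain ⟨B', hB'd⟩ : ∃ B' : N, B' = E.symm b' := ⟨_, rfl⟩
    obtain ⟨W, hWd⟩ : ∃ W : N, W = E.symm (Cfsg.Agent.Lib.Flag.permGL w) := ⟨_, rfl⟩
    have hyeq : y = B * W * B' := E.injective (by rw [map_mul, map_mul, hBd, hWd, hB'd]; simp only [MulEquiv.apply_symm_apply]; exact hy)
    have hB : (B : G) ∈ H0 := hUH B (by rw [hBd, MulEquiv.apply_symm_apply]; exact hb)
    have hB' : (B' : G) ∈ H0 := hUH B' (by rw [hB'd, MulEquiv.apply_symm_apply]; exact hb')
    suffices hW : ∃ k : G, k ≠ 1 ∧ k ∈ H0 ∧ (W : G)⁻¹ * k * W ∈ H0 by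
      obtain ⟨k, hk1, hk, hk'⟩ := hW
      refine ⟨B * k * (B : G)⁻¹, ?_, H0.mul_mem (H0.mul_mem hB hk) (H0.inv_mem hB), ?_⟩
      · intro h1
        apply hk1
        calc k = (B : G)⁻¹ * (B * k * (B : G)⁻¹) * B := by group
          _ = 1 := by rw [h1]; group
      · rw [hyeq, Subgroup.coe_mul, Subgroup.coe_mul]
        rw [show ((B : G) * W * B')⁻¹ * (B * k * (B : G)⁻¹) * (B * W * B') = (B' : G)⁻¹ * ((W : G)⁻¹ * k * W) * B' by group]
        exact H0.mul_mem (H0.mul_mem (H0.inv_mem hB') hk') hB'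
    by_cases hmono : ∃ i j : Fin n, i < j ∧ w i < w j
    · obtain ⟨i, j, hij, hwij⟩ := hmono
      have hT : ∀ a b : Fin n, a < b → (Matrix.transvection a b (1 : ZMod 2)).BlockTriangular id := by
        intro a b hab x z (hxz : z < x)
        simp only [Matrix.transvection, Matrix.add_apply, Matrix.single_apply]
        rw [Matrix.one_apply_ne hxz.ne', if_neg (by rintro ⟨rfl, rfl⟩; exact lt_asymm hab hxz), add_zero]
      obtain ⟨T, hTv⟩ : ∃ T : GL (Fin n) (ZMod 2), T.val = Matrix.transvection (w i) (w j) 1 :=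
        ⟨GeneralLinearGroup.mkOfDetNeZero _ ((Matrix.det_transvection_of_ne _ _ hwij.ne (1 : ZMod 2)).trans_ne one_ne_zero), rfl⟩
      obtain ⟨T', hT'v⟩ : ∃ T : GL (Fin n) (ZMod 2), T.val = Matrix.transvection i j 1 :=
        ⟨GeneralLinearGroup.mkOfDetNeZero _ ((Matrix.det_transvection_of_ne _ _ hij.ne (1 : ZMod 2)).trans_ne one_ne_zero), rfl⟩
      have hconj : T * Cfsg.Agent.Lib.Flag.permGL w = Cfsg.Agent.Lib.Flag.permGL w * T' := by
        apply Units.ext
        rw [Units.val_mul, Units.val_mul, hTv, hT'v, Matrix.transvection, Matrix.transvection, add_mul, one_mul, mul_add, mul_one]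
        congr 1
        ext x z
        simp only [Matrix.mul_apply, Cfsg.Agent.Lib.Flag.permGL_apply, Matrix.single_apply]
        rw [Finset.sum_eq_single (w j), Finset.sum_eq_single i]
        · by_cases hx : x = w i <;> by_cases hz : z = j
          · subst hx; subst hz; simp
          · subst hx; simp [Ne.symm hz, show w j ≠ w z from fun h => hz (w.injective h).symm]
          · subst hz; simp [Ne.symm hx, hx]
          · simp [Ne.symm hz, Ne.symm hx]
        · intro c _ hc; simp [Ne.symm hc]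
        · simp
        · intro c _ hc; simp [Ne.symm hc]
        · simp
      refine ⟨(E.symm T : G), ?_, hUH _ (by rw [MulEquiv.apply_symm_apply, mem_upperB, hTv]; exact fun a b h => hT _ _ hwij h), ?_⟩
      · intro h1
        rw [OneMemClass.coe_eq_one, MulEquiv.map_eq_one_iff] at h1
        have h2 := congrFun (congrFun (congrArg (fun g : GL (Fin n) (ZMod 2) => (g : Matrix (Fin n) (Fin n) (ZMod 2))) h1) (w i)) (w j)
        simp only [hTv, Units.val_one] at h2
        simp [Matrix.transvection, hwij.ne] at h2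
      · have : (W : G)⁻¹ * (E.symm T : G) * W = (E.symm T' : G) := by
          rw [← Subgroup.coe_inv, ← Subgroup.coe_mul, ← Subgroup.coe_mul]
          refine congrArg Subtype.val ?_
          rw [hWd, ← map_inv, ← map_mul, ← map_mul, mul_assoc, hconj, inv_mul_cancel_left]
        rw [this]
        exact hUH _ (by rw [MulEquiv.apply_symm_apply, mem_upperB, hT'v]; exact fun a b h => hT _ _ hij h)
    · push Not at hmono
      have hw : w = Fin.revPerm := antitone_eq_rev fun a b hab => lt_of_le_of_ne (hmono a b hab) (fun h => hab.ne (w.injective h).symm)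
      refine ⟨t, fun h1 => htN (h1 ▸ N.one_mem), htH, ?_⟩
      have hfix : MulAut.conjNormal t W = W := E.injective (by
        rw [htd, hWd, MulEquiv.apply_symm_apply, hw, ← revGL, dual_apply, revGL, itGL_permGL]; group)
      have hfix' := congrArg Subtype.val hfix
      rw [MulAut.conjNormal_apply, mul_inv_eq_iff_eq_mul] at hfix'
      rwa [mul_assoc, hfix', inv_mul_cancel_left]
  have hAll : ∀ a : G, ∃ k : G, k ≠ 1 ∧ k ∈ H0 ∧ a⁻¹ * k * a ∈ H0 := by
    intro a
    by_cases ha : a ∈ N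
    · exact hN ⟨a, ha⟩
    · have hat : a * t ∈ N := by
        rw [Subgroup.mul_mem_iff_of_index_two hidx]
        exact iff_of_false ha htN
      obtain ⟨k, hk1, hk, hk'⟩ := hN ⟨a * t, hat⟩
      refine ⟨k, hk1, hk, ?_⟩
      have h3 := H0.mul_mem (H0.mul_mem htH hk') (H0.inv_mem htH)
      rwa [show t * ((a * t)⁻¹ * k * (a * t)) * t⁻¹ = a⁻¹ * k * a by group] at h3
  obtain ⟨c, hc⟩ := MulAction.exists_smul_eq G H0 H
  obtain ⟨k, hk1, hk, hk'⟩ := hAll (c⁻¹ * x * c)
  intro hbot
  apply hk1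
  have hmem : ∀ z : G, c⁻¹ * z * c ∈ H0 → z ∈ (H : Subgroup G) := by
    intro z hz
    rw [← hc, Sylow.coe_subgroup_smul, Subgroup.mem_pointwise_smul_iff_inv_smul_mem]
    simp [MulAut.smul_def]
    exact hz
  have hin : c * k * c⁻¹ ∈ (H : Subgroup G) ⊓ MulAut.conj x • (H : Subgroup G) := by
    refine Subgroup.mem_inf.mpr ⟨hmem _ (by rwa [show c⁻¹ * (c * k * c⁻¹) * c = k by group]), ?_⟩
    rw [Subgroup.mem_pointwise_smul_iff_inv_smul_mem]
    simp only [MulAut.smul_def, MulAut.inv_apply, MulAut.conj_symm_apply]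
    apply hmem
    rwa [show c⁻¹ * (x⁻¹ * (c * k * c⁻¹) * x) * c = (c⁻¹ * x * c)⁻¹ * k * (c⁻¹ * x * c) by group]
  rw [hbot, Subgroup.mem_bot] at hin
  calc k = c⁻¹ * (c * k * c⁻¹) * c := by group
    _ = 1 := by rw [hin]; group

end Cfsg.Agent.S2486
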