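import Cfsg.Statements.S2487
import Mathlib

set_option autoImplicit false
open scoped Pointwise
open Cfsg

namespace Cfsg.Agent.S2487

open Matrix

variable {F : Type*} [Field F] [Fintype F] {m : ℕ}

theorem zero_or_one (hF : Fintype.card F = 2) (a : F) : a = 0 ∨ a = 1 := by
  by_contra h
  push Not at h
  have h3 := Fintype.two_lt_card_iff.mpr ⟨0, 1, a, zero_ne_one, h.1.symm, h.2.symm⟩
  omega

theorem two_zero (hF : Fintype.card F = 2) : (2 : F) = 0 := by
  rcases zero_or_one hF (2 : F) with h | h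
  · exact h
  · exact absurd (by linear_combination h : (1 : F) = 0) one_ne_zero

theorem layer (hF : Fintype.card F = 2) {a b c d : F} (h1 : a * b = 0) (h2 : c * d = 0) (h3 : a * d + b * c = 1) :
    a * a + b * c = 1 ∧ a * b + b * d = 0 ∧ c * a + d * c = 0 ∧ c * b + d * d = 1 := by
  rcases zero_or_one hF a with rfl | rfl <;> rcases zero_or_one hF b with rfl | rfl <;>
    rcases zero_or_one hF c with rfl | rfl <;> rcases zero_or_one hF d with rfl | rfl <;>
    simp at h1 h2 h3 ⊢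

/-- The polar form. -/
def bil (v w : Fin m ⊕ Fin m → F) : F := ∑ i, (v (.inl i) * w (.inr i) + v (.inr i) * w (.inl i))

theorem quad_add (v w : Fin m ⊕ Fin m → F) : Cfsg.quadFormPlus m F (v + w) =
    Cfsg.quadFormPlus m F v + Cfsg.quadFormPlus m F w + bil v w := by
  simp only [Cfsg.quadFormPlus, bil, ← Finset.sum_add_distrib, Pi.add_apply]
  exact Finset.sum_congr rfl fun i _ => by ring

theorem quad_smul (c : F) (v : Fin m ⊕ Fin m → F) :
    Cfsg.quadFormPlus m F (c • v) = c * c * Cfsg.quadFormPlus m F v := by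
  simp only [Cfsg.quadFormPlus, Finset.mul_sum, Pi.smul_apply, smul_eq_mul]
  exact Finset.sum_congr rfl fun i _ => by ring

theorem bil_comm (v w : Fin m ⊕ Fin m → F) : bil v w = bil w v :=
  Finset.sum_congr rfl fun i _ => by ring

theorem bil_add (u v w : Fin m ⊕ Fin m → F) : bil u (v + w) = bil u v + bil u w := by
  simp only [bil, ← Finset.sum_add_distrib, Pi.add_apply]
  exact Finset.sum_congr rfl fun i _ => by ring

theorem bil_smul (c : F) (u v : Fin m ⊕ Fin m → F) : bil u (c • v) = c * bil u v := by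
  simp only [bil, Finset.mul_sum, Pi.smul_apply, smul_eq_mul]
  exact Finset.sum_congr rfl fun i _ => by ring

theorem bil_single_inl (v : Fin m ⊕ Fin m → F) (i : Fin m) : bil (Pi.single (Sum.inl i) 1) v = v (.inr i) := by
  simp [bil, Pi.single_apply]

theorem bil_single_inr (v : Fin m ⊕ Fin m → F) (i : Fin m) : bil (Pi.single (Sum.inr i) 1) v = v (.inl i) := by
  simp [bil, Pi.single_apply]

theorem exists_bil_ne_zero {a : Fin m ⊕ Fin m → F} (ha : a ≠ 0) : ∃ x, bil x a ≠ 0 := by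
  by_contra h
  push Not at h
  refine ha (funext fun i => ?_)
  rcases i with i | i
  · rw [← bil_single_inr a i]; exact h _
  · rw [← bil_single_inl a i]; exact h _

theorem bil_iso (g : Cfsg.isometryGroup F (Cfsg.quadFormPlus m F)) (v w : Fin m ⊕ Fin m → F) :
    bil (g.1.val *ᵥ v) (g.1.val *ᵥ w) = bil v w := by
  have hq : ∀ u, Cfsg.quadFormPlus m F (g.1.val *ᵥ u) = Cfsg.quadFormPlus m F u := fun u => g.2 u u
  have h := hq (v + w)
  rw [mulVec_add, quad_add, quad_add, hq, hq] at h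
  linear_combination h

/-- The pointwise stabiliser of a standard totally singular subspace of dimension `m - 1`. -/
def fixer (F : Type*) [Field F] (m : ℕ) : Subgroup (Cfsg.isometryGroup F (Cfsg.quadFormPlus m F)) where
  carrier := {g | ∀ i : Fin m, (i : ℕ) + 1 < m →
    g.1.val *ᵥ Pi.single (Sum.inl i) 1 = (Pi.single (Sum.inl i) 1 : Fin m ⊕ Fin m → F)}
  one_mem' i _ := by simp only [OneMemClass.coe_one, Units.val_one, one_mulVec]
  mul_mem' {a b} ha hb i hi := by
    rw [Subgroup.coe_mul, Units.val_mul, ← mulVec_mulVec, hb i hi, ha i hi]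
  inv_mem' {a} ha i hi := by
    conv_lhs => rw [← ha i hi]
    rw [mulVec_mulVec, Subgroup.coe_inv, Units.inv_mul, one_mulVec]

theorem isPGroup_fixer (hF : Fintype.card F = 2) (hm : 1 ≤ m) : IsPGroup 2 (fixer F m) := by
  rintro ⟨g, hg⟩
  obtain ⟨l, hl⟩ : ∃ l : Fin m, (l : ℕ) + 1 = m := ⟨⟨m - 1, by omega⟩, by simp; omega⟩
  obtain ⟨M, hM⟩ : ∃ M, M = g.1.val := ⟨_, rfl⟩
  have hfix : ∀ i : Fin m, (i : ℕ) + 1 < m → M *ᵥ Pi.single (Sum.inl i) 1 = Pi.single (Sum.inl i) 1 :=
    fun i hi => hM ▸ hg i hi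
  have hB : ∀ v w, bil (M *ᵥ v) (M *ᵥ w) = bil v w := fun v w => hM ▸ bil_iso g v w
  have hQ : ∀ v, Cfsg.quadFormPlus m F (M *ᵥ v) = Cfsg.quadFormPlus m F v := fun v => hM ▸ g.2 v v
  have hlow : ∀ x, ∀ i : Fin m, (i : ℕ) + 1 < m → (M *ᵥ x) (Sum.inr i) = x (Sum.inr i) := by
    intro x i hi
    rw [← bil_single_inl (M *ᵥ x) i, ← bil_single_inl x i, ← hB (Pi.single (Sum.inl i) 1) x, hfix i hi]
  have hR : ∀ x : Fin m ⊕ Fin m → F, (∀ i, x (Sum.inr i) = 0) → x (Sum.inl l) = 0 → M *ᵥ x = x := by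
    intro x hx hxl
    have e : x = ∑ i : Fin m, x (Sum.inl i) • (Pi.single (Sum.inl i) 1 : Fin m ⊕ Fin m → F) := by
      funext j
      rcases j with j | j
      · simp [Pi.single_apply]
      · simp [hx]
    conv_lhs => rw [e]
    conv_rhs => rw [e]
    rw [mulVec_sum]
    refine Finset.sum_congr rfl fun i _ => ?_
    by_cases hi : (i : ℕ) + 1 < m
    · rw [mulVec_smul, hfix i hi]
    · have : i = l := Fin.ext (by have := i.2; omega)
      rw [this, hxl, zero_smul, mulVec_zero]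
  obtain ⟨p, hp⟩ : ∃ p : Fin m ⊕ Fin m → F, p = Pi.single (Sum.inl l) 1 := ⟨_, rfl⟩
  obtain ⟨r, hr⟩ : ∃ r : Fin m ⊕ Fin m → F, r = Pi.single (Sum.inr l) 1 := ⟨_, rfl⟩
  have hlne : ∀ i : Fin m, (i : ℕ) + 1 < m → i ≠ l := fun i hi h => by rw [h] at hi; omega
  have hpA : ∀ i : Fin m, (i : ℕ) + 1 < m → (M *ᵥ p) (Sum.inr i) = 0 := fun i hi => by
    rw [hlow p i hi, hp]; simp
  have hrA : ∀ i : Fin m, (i : ℕ) + 1 < m → (M *ᵥ r) (Sum.inr i) = 0 := fun i hi => by
    rw [hlow r i hi, hr]; simp [hlne i hi]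
  have hrest : ∀ x y : Fin m ⊕ Fin m → F, (∀ i : Fin m, (i : ℕ) + 1 < m → x (Sum.inr i) = 0) →
      (∀ i : Fin m, (i : ℕ) + 1 < m → y (Sum.inr i) = 0) →
      bil x y = x (.inl l) * y (.inr l) + x (.inr l) * y (.inl l) ∧
      Cfsg.quadFormPlus m F x = x (.inl l) * x (.inr l) := by
    intro x y hx hy
    constructor
    · rw [bil, Finset.sum_eq_single l]
      · intro i _ hi
        have : (i : ℕ) + 1 < m := by
          have := i.2; have : (i : ℕ) ≠ l := fun h => hi (Fin.ext h)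
          omega
        rw [hx i this, hy i this]; ring
      · simp
    · rw [Cfsg.quadFormPlus, Finset.sum_eq_single l]
      · intro i _ hi
        have : (i : ℕ) + 1 < m := by
          have := i.2; have : (i : ℕ) ≠ l := fun h => hi (Fin.ext h)
          omega
        rw [hx i this]; ring
      · simp
  have hq1 := hQ p
  have hq2 := hQ r
  have hb := hB p r
  rw [(hrest _ _ hpA hrA).2] at hq1
  rw [(hrest _ _ hrA hpA).2] at hq2
  rw [(hrest _ _ hpA hrA).1] at hb
  rw [(hrest p r (fun i hi => by rw [hp]; simp) (fun i hi => by rw [hr]; simp [hlne i hi])).2] at hq1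
  rw [(hrest r p (fun i hi => by rw [hr]; simp [hlne i hi]) (fun i hi => by rw [hp]; simp)).2] at hq2
  rw [(hrest p r (fun i hi => by rw [hp]; simp) (fun i hi => by rw [hr]; simp [hlne i hi])).1] at hb
  have ep1 : p (.inl l) = 1 := by rw [hp]; simp
  have ep2 : p (.inr l) = 0 := by rw [hp]; simp
  have er1 : r (.inl l) = 0 := by rw [hr]; simp
  have er2 : r (.inr l) = 1 := by rw [hr]; simp
  simp only [ep1, ep2, er1, er2, mul_zero, zero_mul, mul_one, add_zero, zero_add] at hq1 hq2 hb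
  obtain ⟨a, ha⟩ : ∃ a, a = (M *ᵥ p) (.inl l) := ⟨_, rfl⟩
  obtain ⟨b, hb'⟩ : ∃ b, b = (M *ᵥ p) (.inr l) := ⟨_, rfl⟩
  obtain ⟨c, hc⟩ : ∃ c, c = (M *ᵥ r) (.inl l) := ⟨_, rfl⟩
  obtain ⟨d, hd⟩ : ∃ d, d = (M *ᵥ r) (.inr l) := ⟨_, rfl⟩
  have hq1' : a * b = 0 := by rw [ha, hb']; exact hq1
  have hq2' : c * d = 0 := by rw [hc, hd]; exact hq2
  have hbb : a * d + b * c = 1 := by rw [ha, hb', hc, hd]; exact hb
  -- the action on the middle layer is an involution
  obtain ⟨h1, h2, h3, h4⟩ : a * a + b * c = 1 ∧ a * b + b * d = 0 ∧ c * a + d * c = 0 ∧ c * b + d * d = 1 := by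
    exact layer hF hq1' hq2' hbb
  have hlin : ∀ x : Fin m ⊕ Fin m → F, (∀ i : Fin m, (i : ℕ) + 1 < m → x (Sum.inr i) = 0) →
      (∀ i : Fin m, (i : ℕ) + 1 < m → (M *ᵥ x) (Sum.inr i) = 0) ∧
      (M *ᵥ x) (.inl l) = a * x (.inl l) + c * x (.inr l) ∧ (M *ᵥ x) (.inr l) = b * x (.inl l) + d * x (.inr l) := by
    intro x hx
    refine ⟨fun i hi => by rw [hlow x i hi, hx i hi], ?_⟩
    obtain ⟨z, hz⟩ : ∃ z, z = x - x (.inl l) • p - x (.inr l) • r := ⟨_, rfl⟩
    have hzf : M *ᵥ z = z := by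
      refine hR z (fun i => ?_) (by simp [hz, hp, hr])
      by_cases hi : (i : ℕ) + 1 < m
      · simp [hz, hp, hr, hx i hi, hlne i hi]
      · have : i = l := Fin.ext (by have := i.2; omega)
        subst this; simp [hz, hp, hr]
    have e : M *ᵥ x = z + x (.inl l) • (M *ᵥ p) + x (.inr l) • (M *ᵥ r) := by
      conv_lhs => rw [show x = z + x (.inl l) • p + x (.inr l) • r by rw [hz]; abel]
      rw [mulVec_add, mulVec_add, mulVec_smul, mulVec_smul, hzf]
    constructor
    · rw [e, ha, hc]; simp [hz, hp, hr]; ring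
    · rw [e, hb', hd]; simp [hz, hp, hr]; ring
  obtain ⟨N, hN⟩ : ∃ N, N = M * M - 1 := ⟨_, rfl⟩
  have hN1 : ∀ x, ∀ i : Fin m, (i : ℕ) + 1 < m → (N *ᵥ x) (Sum.inr i) = 0 := by
    intro x i hi
    rw [hN, sub_mulVec, one_mulVec, ← mulVec_mulVec, Pi.sub_apply, hlow _ i hi, hlow _ i hi, sub_self]
  have hN2 : ∀ x : Fin m ⊕ Fin m → F, (∀ i : Fin m, (i : ℕ) + 1 < m → x (Sum.inr i) = 0) →
      (∀ i, (N *ᵥ x) (Sum.inr i) = 0) ∧ (N *ᵥ x) (Sum.inl l) = 0 := by
    intro x hx
    obtain ⟨e0, e1, e2⟩ := hlin x hx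
    obtain ⟨-, f1, f2⟩ := hlin (M *ᵥ x) e0
    rw [e1, e2] at f1 f2
    refine ⟨fun i => ?_, ?_⟩
    · by_cases hi : (i : ℕ) + 1 < m
      · exact hN1 x i hi
      · have : i = l := Fin.ext (by have := i.2; omega)
        subst this
        rw [hN, sub_mulVec, one_mulVec, ← mulVec_mulVec, Pi.sub_apply, f2]
        linear_combination x (Sum.inl i) * h2 + x (Sum.inr i) * h4
    · rw [hN, sub_mulVec, one_mulVec, ← mulVec_mulVec, Pi.sub_apply, f1]
      linear_combination x (Sum.inl l) * h1 + x (Sum.inr l) * h3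
  have hN3 : N ^ 3 = 0 := ext_of_mulVec_single fun j => by
    obtain ⟨y, hy⟩ : ∃ y, y = N *ᵥ (Pi.single j 1 : Fin m ⊕ Fin m → F) := ⟨_, rfl⟩
    rw [pow_succ, pow_two, ← mulVec_mulVec, ← mulVec_mulVec, ← hy, zero_mulVec]
    obtain ⟨g1, g2⟩ := hN2 y (fun i hi => hy ▸ hN1 _ i hi)
    have hNy : ∀ v, N *ᵥ v = M *ᵥ (M *ᵥ v) - v := fun v => by rw [hN, sub_mulVec, one_mulVec, mulVec_mulVec]
    rw [hNy (N *ᵥ y), hR _ g1 g2, hR _ g1 g2, sub_self]
  refine ⟨3, Subtype.ext (Subtype.ext (Units.ext ?_))⟩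
  rw [SubmonoidClass.coe_pow, SubmonoidClass.coe_pow, Units.val_pow_eq_pow_val]
  show g.1.val ^ 2 ^ 3 = 1
  rw [← hM, show M ^ 2 ^ 3 = (M * M) ^ 4 by rw [← pow_two, ← pow_mul]; rfl, show M * M = 1 + N by rw [hN, add_sub_cancel]]
  have hN4 : N ^ 4 = 0 := by rw [pow_succ, hN3, zero_mul]
  have key : ∀ A : Matrix (Fin m ⊕ Fin m) (Fin m ⊕ Fin m) F, A + A = 0 := fun A => by
    rw [← two_smul F, two_zero hF, zero_smul]
  have hsq : ∀ A : Matrix (Fin m ⊕ Fin m) (Fin m ⊕ Fin m) F, (1 + A) * (1 + A) = 1 + A * A := fun A => by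
    rw [add_mul, one_mul, mul_add, mul_one]
    calc 1 + A + (A + A * A) = 1 + (A + A) + A * A := by abel
      _ = 1 + A * A := by rw [key, add_zero]
  rw [show (4 : ℕ) = 2 * 2 from rfl, pow_mul, pow_two, pow_two, hsq, hsq]
  rw [show N * N * (N * N) = N ^ 4 by simp only [pow_succ, pow_zero, one_mul, mul_assoc], hN4, add_zero]

theorem exists_common (hF : Fintype.card F = 2) (hm : 1 ≤ m) (c d : Cfsg.isometryGroup F (Cfsg.quadFormPlus m F)) :
    ∃ k, k ≠ 1 ∧ c⁻¹ * k * c ∈ fixer F m ∧ d⁻¹ * k * d ∈ fixer F m := by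
  classical
  let L : (Fin m ⊕ Fin m → F) →ₗ[F] (Fin (m - 1) → F) × (Fin (m - 1) → F) :=
    { toFun := fun x => (fun i => bil (c.1.val *ᵥ Pi.single (Sum.inl ⟨i, by omega⟩) 1) x,
        fun i => bil (d.1.val *ᵥ Pi.single (Sum.inl ⟨i, by omega⟩) 1) x)
      map_add' := fun x y => by ext i <;> simp [bil_add]
      map_smul' := fun a x => by ext i <;> simp [bil_smul] }
  have hdim : 2 ≤ Module.finrank F (LinearMap.ker L) := by
    have h := LinearMap.finrank_range_add_finrank_ker L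
    have h' := Submodule.finrank_le (LinearMap.range L)
    simp [Module.finrank_prod, Fintype.card_sum] at h h'
    omega
  have horth : ∀ w ∈ LinearMap.ker L, ∀ i : Fin m, (i : ℕ) + 1 < m →
      bil (c.1.val *ᵥ Pi.single (Sum.inl i) 1) w = 0 ∧ bil (d.1.val *ᵥ Pi.single (Sum.inl i) 1) w = 0 := by
    intro w hw i hi
    rw [LinearMap.mem_ker] at hw
    exact ⟨congrFun (congrArg Prod.fst hw) ⟨i, by omega⟩, congrFun (congrArg Prod.snd hw) ⟨i, by omega⟩⟩
  -- an involution built from vectors of the kernel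
  have finish : ∀ T : (Fin m ⊕ Fin m → F) →ₗ[F] (Fin m ⊕ Fin m → F), (∀ x, T (T x) = x) →
      (∀ x, Cfsg.quadFormPlus m F (T x) = Cfsg.quadFormPlus m F x) →
      (∀ e : Fin m ⊕ Fin m → F, (∀ w ∈ LinearMap.ker L, bil e w = 0) → T e = e) → (∃ x, T x ≠ x) →
      ∃ k, k ≠ 1 ∧ c⁻¹ * k * c ∈ fixer F m ∧ d⁻¹ * k * d ∈ fixer F m := by
    intro T hT hTQ hTfix ⟨x, hx⟩
    obtain ⟨A, hA⟩ : ∃ A, A = LinearMap.toMatrix' T := ⟨_, rfl⟩
    have hAv : ∀ v, A *ᵥ v = T v := fun v => by rw [hA, ← Matrix.toLin'_apply, Matrix.toLin'_toMatrix']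
    have hAA : A * A = 1 := ext_of_mulVec_single fun j => by rw [← mulVec_mulVec, hAv, hAv, hT, one_mulVec]
    obtain ⟨k, hk⟩ : ∃ k : Cfsg.isometryGroup F (Cfsg.quadFormPlus m F), k.1.val = A :=
      ⟨⟨⟨A, A, hAA, hAA⟩, fun u _ => by show Cfsg.quadFormPlus m F (A *ᵥ u) = _; rw [hAv]; exact hTQ u⟩, rfl⟩
    refine ⟨k, fun h => hx ?_, ?_, ?_⟩
    · rw [← hAv, ← hk, h]; simp
    · intro i hi
      rw [Subgroup.coe_mul, Subgroup.coe_mul, Units.val_mul, Units.val_mul, ← mulVec_mulVec, ← mulVec_mulVec, hk, hAv,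
        hTfix _ (fun w hw => (horth w hw i hi).1), mulVec_mulVec, Subgroup.coe_inv, Units.inv_mul, one_mulVec]
    · intro i hi
      rw [Subgroup.coe_mul, Subgroup.coe_mul, Units.val_mul, Units.val_mul, ← mulVec_mulVec, ← mulVec_mulVec, hk, hAv,
        hTfix _ (fun w hw => (horth w hw i hi).2), mulVec_mulVec, Subgroup.coe_inv, Units.inv_mul, one_mulVec]
  have h2 := two_zero hF
  by_cases hns : ∃ a ∈ LinearMap.ker L, Cfsg.quadFormPlus m F a ≠ 0
  · obtain ⟨a, haW, ha⟩ := hns
    have ha1 := (zero_or_one hF _).resolve_left ha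
    have haa : bil a a = 0 := by
      simp only [bil]
      exact Finset.sum_eq_zero fun i _ => by linear_combination (a (.inl i) * a (.inr i)) * h2
    let T : (Fin m ⊕ Fin m → F) →ₗ[F] (Fin m ⊕ Fin m → F) :=
      { toFun := fun x => x + bil a x • a
        map_add' := fun x y => by rw [bil_add, add_smul]; abel
        map_smul' := fun t x => by rw [bil_smul, mul_smul, RingHom.id_apply, smul_add] }
    refine finish T (fun x => ?_) (fun x => ?_) (fun e he => ?_) ?_
    · show x + bil a x • a + bil a (x + bil a x • a) • a = x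
      rw [bil_add, bil_smul, haa, mul_zero, add_zero, add_assoc, ← add_smul, ← two_mul, h2, zero_mul, zero_smul, add_zero]
    · show Cfsg.quadFormPlus m F (x + bil a x • a) = _
      rw [quad_add, quad_smul, bil_smul, ha1, bil_comm x a]
      linear_combination (bil a x * bil a x) * h2
    · show e + bil a e • a = e
      rw [bil_comm, he a haW, zero_smul, add_zero]
    · have hane : a ≠ 0 := fun h => ha (by rw [h]; simp [Cfsg.quadFormPlus])
      obtain ⟨x, hx⟩ := exists_bil_ne_zero hane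
      refine ⟨x, fun h => ?_⟩
      have : bil a x • a = 0 := add_eq_left.mp h
      rw [bil_comm] at this
      exact hane ((smul_eq_zero.mp this).resolve_left hx)
  · push Not at hns
    obtain ⟨⟨u, hu⟩, ⟨w, hw⟩, hli⟩ : ∃ u w : LinearMap.ker L, LinearIndependent F ![u, w] := by
      obtain ⟨f, hf⟩ := exists_linearIndependent_of_le_finrank hdim
      refine ⟨f 0, f 1, ?_⟩
      convert! hf using 1
      funext i; fin_cases i <;> rfl
    have hli' := LinearIndependent.pair_iff.mp hli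
    have huw : bil u w = 0 := by
      have h := quad_add u w
      rw [hns _ (add_mem hu hw), hns u hu, hns w hw] at h
      linear_combination -h
    have huu : bil u u = 0 := by
      simp only [bil]
      exact Finset.sum_eq_zero fun i _ => by linear_combination (u (.inl i) * u (.inr i)) * h2
    have hww : bil w w = 0 := by
      simp only [bil]
      exact Finset.sum_eq_zero fun i _ => by linear_combination (w (.inl i) * w (.inr i)) * h2
    have hwu : bil w u = 0 := by rw [bil_comm, huw]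
    let T : (Fin m ⊕ Fin m → F) →ₗ[F] (Fin m ⊕ Fin m → F) :=
      { toFun := fun x => x + bil w x • u + bil u x • w
        map_add' := fun x y => by rw [bil_add, bil_add, add_smul, add_smul]; abel
        map_smul' := fun t x => by rw [bil_smul, bil_smul, mul_smul, mul_smul, RingHom.id_apply, smul_add, smul_add] }
    refine finish T (fun x => ?_) (fun x => ?_) (fun e he => ?_) ?_
    · show (x + bil w x • u + bil u x • w) + bil w (x + bil w x • u + bil u x • w) • u +
        bil u (x + bil w x • u + bil u x • w) • w = x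
      simp only [bil_add, bil_smul, huu, huw, hww, hwu, mul_zero, add_zero]
      calc x + bil w x • u + bil u x • w + bil w x • u + bil u x • w =
            x + ((bil w x + bil w x) • u + (bil u x + bil u x) • w) := by rw [add_smul, add_smul]; abel
        _ = x := by rw [← two_mul, ← two_mul, h2, zero_mul, zero_mul, zero_smul, zero_smul, add_zero, add_zero]
    · show Cfsg.quadFormPlus m F (x + bil w x • u + bil u x • w) = _
      have e1 : bil (x + bil w x • u) (bil u x • w) = bil u x * bil w x := by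
        rw [bil_smul, bil_comm _ w, bil_add, bil_smul, hwu, mul_zero, add_zero]
      rw [quad_add, quad_add, quad_smul, quad_smul, hns u hu, hns w hw, e1, bil_smul, bil_comm x u]
      linear_combination (bil w x * bil u x) * h2
    · show e + bil w e • u + bil u e • w = e
      rw [bil_comm w, bil_comm u, he w hw, he u hu, zero_smul, zero_smul, add_zero, add_zero]
    · have hwne : w ≠ 0 := fun h => by
        have := hli' 0 1 (Subtype.ext (by simp [h]))
        exact one_ne_zero this.2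
      obtain ⟨x, hx⟩ := exists_bil_ne_zero hwne
      refine ⟨x, fun h => ?_⟩
      have h' : bil w x • u + bil u x • w = 0 := by
        have : x + (bil w x • u + bil u x • w) = x := by rw [← add_assoc]; exact h
        exact add_eq_left.mp this
      rw [bil_comm] at hx
      exact hx (hli' (bil w x) (bil u x) (Subtype.ext (by simpa using h'))).1

/-- Let m ≥ 4 and let G be the full isometry group of the hyperbolic quadratic form x₁y₁ + ⋯ + x_m y_m on the 2m-dimensional space over the field with 2 elements (the orthogonal group O⁺(2m,2), which contains Ω⁺(2m,2) with index 2). Then any two Sylow 2-subgroups of G have a non-trivial intersection: for a Sylow 2-subgroup H and every x ∈ G, H ∩ H^x ≠ 1. -/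
theorem result {F : Type*} [Field F] [Fintype F] (hF : Fintype.card F = 2) {m : ℕ} (hm : 4 ≤ m)
    (H : Sylow 2 (Cfsg.isometryGroup F (Cfsg.quadFormPlus m F)))
    (x : Cfsg.isometryGroup F (Cfsg.quadFormPlus m F)) :
    (H : Subgroup (Cfsg.isometryGroup F (Cfsg.quadFormPlus m F))) ⊓ MulAut.conj x • (H : Subgroup _) ≠ ⊥ := by
  haveI : Fact (Nat.Prime 2) := ⟨Nat.prime_two⟩
  obtain ⟨H0, hH0⟩ := (isPGroup_fixer hF (show 1 ≤ m by omega)).exists_le_sylow
  obtain ⟨c, hc⟩ := MulAction.exists_smul_eq (Cfsg.isometryGroup F (Cfsg.quadFormPlus m F)) H0 H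
  obtain ⟨k, hk1, hk, hk'⟩ := exists_common hF (show 1 ≤ m by omega) c (x * c)
  have hmem : ∀ z, c⁻¹ * z * c ∈ fixer F m → z ∈ (H : Subgroup (Cfsg.isometryGroup F (Cfsg.quadFormPlus m F))) := by
    intro z hz
    rw [← hc, Sylow.coe_subgroup_smul, Subgroup.mem_pointwise_smul_iff_inv_smul_mem]
    simp [MulAut.smul_def]
    exact hH0 hz
  intro hbot
  apply hk1
  rw [← Subgroup.mem_bot, ← hbot, Subgroup.mem_inf, Subgroup.mem_pointwise_smul_iff_inv_smul_mem]
  refine ⟨hmem k hk, ?_⟩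
  simp only [MulAut.smul_def, MulAut.inv_apply, MulAut.conj_symm_apply]
  apply hmem
  rwa [show c⁻¹ * (x⁻¹ * k * x) * c = (x * c)⁻¹ * k * (x * c) by group]

end Cfsg.Agent.S2487
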