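import Cfsg.Statements.S2488
import Mathlib
import Cfsg.Agent.Lib.SylowCounting.ConjClass

set_option autoImplicit false
open scoped Pointwise
open Cfsg

namespace Cfsg.Agent.S2488

open Subgroup

variable {G : Type*} [Group G] [Finite G]

theorem exists_other_fixed {α : Type*} [Finite α] (σ : Equiv.Perm α) (hσ : σ * σ = 1) (h2 : 2 ∣ Nat.card α)
    {a : α} (ha : σ a = a) : ∃ b, b ≠ a ∧ σ b = b := by
  classical
  haveI : Fact (Nat.Prime 2) := ⟨Nat.prime_two⟩
  have hp : IsPGroup 2 (Subgroup.zpowers σ) := fun g => ⟨1, Subtype.ext (by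
    obtain ⟨i, hi⟩ := Subgroup.mem_zpowers_iff.mp g.2
    simp only [SubgroupClass.coe_pow, pow_one, OneMemClass.coe_one]
    rw [← hi, ← zpow_natCast, ← zpow_mul, mul_comm, zpow_mul, zpow_natCast, sq, hσ, one_zpow])⟩
  have hfix : a ∈ MulAction.fixedPoints (Subgroup.zpowers σ) α := by
    rintro ⟨g, hg⟩
    obtain ⟨i, rfl⟩ := Subgroup.mem_zpowers_iff.mp hg
    show (σ ^ i) a = a
    exact Equiv.Perm.zpow_apply_eq_self_of_apply_eq_self ha i
  obtain ⟨b, hb, hab⟩ := hp.exists_fixed_point_of_prime_dvd_card_of_fixed_point α h2 hfix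
  exact ⟨b, Ne.symm hab, hb ⟨σ, Subgroup.mem_zpowers σ⟩⟩

theorem card_sq_eq_one_even (C : Subgroup G) (h2 : 2 ∣ Nat.card C) : 2 ∣ Nat.card {t : C // t * t = 1} := by
  classical
  haveI : Fact (Nat.Prime 2) := ⟨Nat.prime_two⟩
  let σ : Equiv.Perm C := Equiv.inv C
  have hσ : σ * σ = 1 := Equiv.ext fun t => inv_inv t
  have hp : IsPGroup 2 (Subgroup.zpowers σ) := fun g => ⟨1, Subtype.ext (by
    obtain ⟨i, hi⟩ := Subgroup.mem_zpowers_iff.mp g.2
    simp only [SubgroupClass.coe_pow, pow_one, OneMemClass.coe_one]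
    rw [← hi, ← zpow_natCast, ← zpow_mul, mul_comm, zpow_mul, zpow_natCast, sq, hσ, one_zpow])⟩
  have e : Nat.card (MulAction.fixedPoints (Subgroup.zpowers σ) C) = Nat.card {t : C // t * t = 1} := by
    refine Nat.card_congr (Equiv.subtypeEquivRight fun t => ?_)
    constructor
    · intro h
      have : t⁻¹ = t := h ⟨σ, Subgroup.mem_zpowers σ⟩
      calc t * t = t * t⁻¹ := by rw [this]
        _ = 1 := mul_inv_cancel t
    · rintro h ⟨g, hg⟩
      obtain ⟨i, rfl⟩ := Subgroup.mem_zpowers_iff.mp hg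
      exact Equiv.Perm.zpow_apply_eq_self_of_apply_eq_self (inv_eq_of_mul_eq_one_right h) i
  have := hp.card_modEq_card_fixedPoints C
  rw [e] at this
  exact Nat.modEq_zero_iff_dvd.mp (this.symm.trans (Nat.modEq_zero_iff_dvd.mpr h2))

/-- Two involutions are centralised by a common nontrivial element if the centraliser of their product has even order. -/
theorem exists_common_centralized {z z' : G} (hz : z * z = 1) (hz' : z' * z' = 1)
    (hC : 2 ∣ Nat.card (Subgroup.centralizer ({z * z'} : Set G))) :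
    ∃ t : G, t ≠ 1 ∧ t * z = z * t ∧ t * z' = z' * t := by
  obtain ⟨C, hCd⟩ : ∃ C, C = Subgroup.centralizer ({z * z'} : Set G) := ⟨_, rfl⟩
  rw [← hCd] at hC
  have hzi : z⁻¹ = z := inv_eq_of_mul_eq_one_right hz
  have hz'i : z'⁻¹ = z' := inv_eq_of_mul_eq_one_right hz'
  have hmem : ∀ t ∈ C, z * t * z ∈ C := by
    intro t ht
    rw [hCd, Subgroup.mem_centralizer_singleton_iff] at ht ⊢
    have h' : t * (z * z')⁻¹ = (z * z')⁻¹ * t := (Commute.inv_right ht).eq
    rw [mul_inv_rev, hzi, hz'i] at h'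
    calc z * t * z * (z * z') = z * t * (z * z) * z' := by group
      _ = z * (t * (z' * z)) * z := by
        rw [hz, mul_one]
        simp only [mul_assoc]
        rw [hz, mul_one]
      _ = z * (z' * z * t) * z := by rw [h']
      _ = z * z' * (z * t * z) := by group
  let σ : Equiv.Perm {t : C // t * t = 1} :=
    { toFun := fun t => ⟨⟨z * t.1.1 * z, hmem _ t.1.2⟩, Subtype.ext (by
        have h : t.1.1 * t.1.1 = 1 := congrArg Subtype.val t.2
        show z * t.1.1 * z * (z * t.1.1 * z) = 1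
        calc z * t.1.1 * z * (z * t.1.1 * z) = z * t.1.1 * (z * z) * t.1.1 * z := by group
          _ = 1 := by rw [hz, mul_one, mul_assoc z, h, mul_one, hz])⟩
      invFun := fun t => ⟨⟨z * t.1.1 * z, hmem _ t.1.2⟩, Subtype.ext (by
        have h : t.1.1 * t.1.1 = 1 := congrArg Subtype.val t.2
        show z * t.1.1 * z * (z * t.1.1 * z) = 1
        calc z * t.1.1 * z * (z * t.1.1 * z) = z * t.1.1 * (z * z) * t.1.1 * z := by group
          _ = 1 := by rw [hz, mul_one, mul_assoc z, h, mul_one, hz])⟩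
      left_inv := fun t => Subtype.ext (Subtype.ext (by
        show z * (z * t.1.1 * z) * z = t.1.1
        calc z * (z * t.1.1 * z) * z = (z * z) * t.1.1 * (z * z) := by group
          _ = t.1.1 := by rw [hz, one_mul, mul_one]))
      right_inv := fun t => Subtype.ext (Subtype.ext (by
        show z * (z * t.1.1 * z) * z = t.1.1
        calc z * (z * t.1.1 * z) * z = (z * z) * t.1.1 * (z * z) := by group
          _ = t.1.1 := by rw [hz, one_mul, mul_one])) }
  have hσ : σ * σ = 1 := Equiv.ext fun t => σ.left_inv t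
  obtain ⟨⟨⟨t, htC⟩, ht⟩, htne, htfix⟩ := exists_other_fixed σ hσ (card_sq_eq_one_even C hC)
    (a := ⟨1, one_mul 1⟩) (Subtype.ext (Subtype.ext (by show z * 1 * z = 1; rw [mul_one, hz])))
  have htz : t * z = z * t := by
    have h : z * t * z = t := congrArg (fun s => s.1.1) htfix
    calc t * z = (z * t * z) * z := by rw [h]
      _ = z * t := by rw [mul_assoc, hz, mul_one]
  refine ⟨t, fun h => htne (Subtype.ext (Subtype.ext h)), htz, ?_⟩
  rw [hCd, Subgroup.mem_centralizer_singleton_iff] at htC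
  calc t * z' = t * (z * (z * z')) := by rw [← mul_assoc, ← mul_assoc, mul_assoc t z z, hz, mul_one]
    _ = z * (t * (z * z')) := by rw [← mul_assoc, htz, mul_assoc]
    _ = z * (z * z' * t) := by rw [htC]
    _ = z' * t := by rw [← mul_assoc, ← mul_assoc, hz, one_mul]

theorem six_facts :
    (∀ σ : Equiv.Perm (Fin 6), Equiv.Perm.sign σ = 1 → σ ^ 4 = 1 ∨ σ ^ 3 = 1 ∨ σ ^ 5 = 1) ∧
    (Finset.univ.filter fun σ : Equiv.Perm (Fin 6) => Equiv.Perm.sign σ = 1 ∧ σ ^ 3 = 1 ∧ σ ≠ 1).card = 80 ∧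
    (Finset.univ.filter fun σ : Equiv.Perm (Fin 6) => Equiv.Perm.sign σ = 1 ∧ σ ^ 5 = 1 ∧ σ ≠ 1).card = 144 ∧
    (Finset.univ.filter fun σ : Equiv.Perm (Fin 6) => Equiv.Perm.sign σ = 1 ∧ σ ^ 2 = 1 ∧ σ ≠ 1).card = 45 := by
  refine ⟨?_, ?_, ?_, ?_⟩ <;> decide +kernel

theorem six_conj : ∀ σ : Equiv.Perm (Fin 6), Equiv.Perm.sign σ = 1 → σ ^ 2 = 1 → σ ≠ 1 →
    ∃ τ : Equiv.Perm (Fin 6), Equiv.Perm.sign τ = 1 ∧ τ * (Equiv.swap 0 1 * Equiv.swap 2 3) * τ⁻¹ = σ := by
  decide +kernel

/-- Let G be a finite group with a normal subgroup N of index 4 isomorphic to the alternating group of degree 6 and with trivial centralizer in G (so G is the full automorphism group of A₆). Then any two Sylow 2-subgroups of G have a non-trivial intersection: for a Sylow 2-subgroup H and every x ∈ G, H ∩ H^x ≠ 1. -/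
theorem result {G : Type*} [Group G] [Finite G] (N : Subgroup G) [N.Normal]
    (e : N ≃* alternatingGroup (Fin 6)) (hidx : N.index = 4)
    (hC : Subgroup.centralizer (N : Set G) = ⊥)
    (H : Sylow 2 G) (x : G) :
    (H : Subgroup G) ⊓ MulAut.conj x • (H : Subgroup G) ≠ ⊥ := by
  classical
  haveI : Fact (Nat.Prime 2) := ⟨Nat.prime_two⟩
  obtain ⟨f1, f3, f5, f2⟩ := six_facts
  have hN : Nat.card N = 360 := by rw [Nat.card_congr e.toEquiv, nat_card_alternatingGroup, Nat.card_fin]; rfl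
  have hG : Nat.card G = 1440 := by rw [← N.index_mul_card, hidx, hN]
  have hcount : ∀ (k m : ℕ), (Finset.univ.filter fun σ : Equiv.Perm (Fin 6) => Equiv.Perm.sign σ = 1 ∧ σ ^ k = 1 ∧ σ ≠ 1).card = m →
      Nat.card {y : G // y ∈ N ∧ y ^ k = 1 ∧ y ≠ 1} = m := by
    intro k m h
    rw [← h, ← Nat.card_eq_finsetCard]
    exact Nat.card_congr
      { toFun := fun y => ⟨(e ⟨y.1, y.2.1⟩).1, by
          rw [Finset.mem_filter]
          refine ⟨Finset.mem_univ _, (e _).2, ?_, ?_⟩
          · rw [← SubgroupClass.coe_pow, ← map_pow, show (⟨y.1, y.2.1⟩ : N) ^ k = 1 from Subtype.ext y.2.2.1, map_one]; rfl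
          · intro h1
            have : e ⟨y.1, y.2.1⟩ = 1 := Subtype.ext h1
            rw [MulEquiv.map_eq_one_iff] at this
            exact y.2.2.2 (congrArg Subtype.val this)⟩
        invFun := fun s => ⟨(e.symm ⟨s.1, (Finset.mem_filter.mp s.2).2.1⟩).1, (e.symm _).2, by
          rw [← SubgroupClass.coe_pow, ← map_pow, show (⟨s.1, (Finset.mem_filter.mp s.2).2.1⟩ : alternatingGroup (Fin 6)) ^ k = 1 from
            Subtype.ext (Finset.mem_filter.mp s.2).2.2.1, map_one]; rfl, fun h1 => by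
          have : e.symm ⟨s.1, (Finset.mem_filter.mp s.2).2.1⟩ = 1 := Subtype.ext h1
          rw [MulEquiv.map_eq_one_iff] at this
          exact (Finset.mem_filter.mp s.2).2.2.2 (congrArg Subtype.val this)⟩
        left_inv := fun y => Subtype.ext (show ((e.symm (e ⟨y.1, y.2.1⟩) : N) : G) = y.1 by rw [e.symm_apply_apply])
        right_inv := fun s => Subtype.ext (show ((e (e.symm ⟨s.1, (Finset.mem_filter.mp s.2).2.1⟩) : alternatingGroup (Fin 6)) : Equiv.Perm (Fin 6)) = s.1 by rw [e.apply_symm_apply]) }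
  have hord : ∀ y : G, y ∈ N → y ^ 4 = 1 ∨ y ^ 3 = 1 ∨ y ^ 5 = 1 := by
    intro y hy
    have key : ∀ k : ℕ, ((e ⟨y, hy⟩).1 : Equiv.Perm (Fin 6)) ^ k = 1 → y ^ k = 1 := by
      intro k h
      rw [← SubgroupClass.coe_pow, ← map_pow, OneMemClass.coe_eq_one, MulEquiv.map_eq_one_iff] at h
      exact congrArg Subtype.val h
    exact (f1 _ (e ⟨y, hy⟩).2).imp (key 4) (Or.imp (key 3) (key 5))
  -- centralisers of elements of `N` have even order
  have hodd_mem : ∀ y : G, Odd (orderOf y) → y ∈ N := by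
    intro y hy
    rw [← QuotientGroup.eq_one_iff, ← orderOf_eq_one_iff]
    have h1 : orderOf (y : G ⧸ N) ∣ orderOf y := orderOf_map_dvd (QuotientGroup.mk' N) y
    have h2 : orderOf (y : G ⧸ N) ∣ 2 ^ 2 := by
      have := orderOf_dvd_natCard (y : G ⧸ N)
      rwa [← Subgroup.index_eq_card, hidx] at this
    exact Nat.eq_one_of_dvd_coprimes (Nat.Coprime.pow_right 2 (Nat.coprime_two_right.mpr hy)) h1 h2
  have heven : ∀ w ∈ N, 2 ∣ Nat.card (Subgroup.centralizer ({w} : Set G)) := by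
    intro w hw
    by_contra hodd
    obtain ⟨C, hCd⟩ : ∃ C, C = Subgroup.centralizer ({w} : Set G) := ⟨_, rfl⟩
    rw [← hCd] at hodd
    have hCodd : ∀ y ∈ C, Odd (orderOf y) := by
      intro y hy
      rw [← Nat.not_even_iff_odd, even_iff_two_dvd]
      exact fun h => hodd (h.trans (Subgroup.orderOf_dvd_natCard _ hy))
    have hwC : w ∈ C := hCd ▸ Subgroup.mem_centralizer_singleton_iff.mpr rfl
    have hw1 : w ≠ 1 := by
      rintro rfl
      apply hodd
      have : C = ⊤ := by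
        rw [hCd, eq_top_iff]; intro y _
        exact Subgroup.mem_centralizer_singleton_iff.mpr (by rw [mul_one, one_mul])
      rw [this, Subgroup.card_top, hG]; norm_num
    have hcd : Nat.card C ∣ 45 := by
      have h := Subgroup.card_subgroup_dvd_card C
      rw [hG, show 1440 = 2 ^ 5 * 45 from rfl] at h
      exact (Nat.Coprime.pow_right 5 (Nat.coprime_two_right.mpr (Nat.not_even_iff_odd.mp
        (fun h' => hodd (even_iff_two_dvd.mp h'))))).dvd_of_dvd_mul_left h
    have hclass := Cfsg.Agent.Lib.SylowCounting.card_conjClass_mul_card_centralizer w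
    rw [← hCd, hG] at hclass
    have hbound : ∀ k m : ℕ, w ^ k = 1 → Nat.card {y : G // y ∈ N ∧ y ^ k = 1 ∧ y ≠ 1} = m →
        1440 ≤ m * Nat.card C := by
      intro k m hwk hm
      rw [← hclass, ← hm]
      refine Nat.mul_le_mul_right _ (Nat.card_le_card_of_injective (fun y => ⟨y.1, ?_⟩) fun a b h => Subtype.ext (congrArg (fun s => s.1) h :))
      obtain ⟨c, hc⟩ := isConj_iff.mp y.2
      rw [← hc]
      exact ⟨‹N.Normal›.conj_mem w hw c, by rw [conj_pow, hwk]; simp, by simpa using hw1⟩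
    have hno15 : ∀ y ∈ C, w ^ 3 = 1 → y ^ 5 = 1 → y = 1 := by
      intro y hy hw3 hy5
      have hyN : y ∈ N := hodd_mem y (hCodd y hy)
      have hc : Commute y w := Subgroup.mem_centralizer_singleton_iff.mp (hCd ▸ hy)
      rcases hord (w * y) (N.mul_mem hw hyN) with h | h | h <;>
        rw [hc.symm.mul_pow] at h
      · rw [show w ^ 4 = w by rw [pow_succ, hw3, one_mul]] at h
        have h5 : (w * y ^ 4) ^ 5 = 1 := by rw [h, one_pow]
        rw [(hc.symm.pow_right 4).mul_pow, ← pow_mul, pow_mul', hy5, one_pow, mul_one,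
          show w ^ 5 = w ^ 2 by rw [show 5 = 3 + 2 from rfl, pow_add, hw3, one_mul]] at h5
        exact absurd (show w = 1 by
          calc w = w ^ 3 * w := by rw [hw3, one_mul]
            _ = (w ^ 2) ^ 2 := by rw [← pow_succ, ← pow_mul]
            _ = 1 := by rw [h5, one_pow]) hw1
      · rw [hw3, one_mul] at h
        calc y = y ^ 5 * y := by rw [hy5, one_mul]
          _ = (y ^ 3) ^ 2 := by rw [← pow_succ, ← pow_mul]
          _ = 1 := by rw [h, one_pow]
      · rw [hy5, mul_one] at h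
        exact absurd (show w = 1 by
          calc w = (w ^ 3) ^ 2 := by rw [hw3, one_pow]; exact (show w = 1 from by
                calc w = w ^ 3 * w ^ 3 * (w ^ 5)⁻¹ := by group
                  _ = 1 := by rw [hw3, h]; simp)
            _ = 1 := by rw [hw3, one_pow]) hw1
    haveI : Fact (Nat.Prime 5) := ⟨by norm_num⟩
    haveI : Fact (Nat.Prime 3) := ⟨Nat.prime_three⟩
    rcases hord w hw with h | h | h
    · have h4 : orderOf w ∣ 2 ^ 2 := orderOf_dvd_of_pow_eq_one h
      exact hw1 (orderOf_eq_one_iff.mp (Nat.eq_one_of_dvd_coprimes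
        (Nat.Coprime.pow_right 2 (Nat.coprime_two_right.mpr (hCodd w hwC))) dvd_rfl h4))
    · have hb := hbound 3 80 h (hcount 3 80 f3)
      have hc45 : Nat.card C = 45 := by
        have := Nat.le_of_dvd (by norm_num) hcd
        interval_cases hh : Nat.card C <;> omega
      obtain ⟨y, hy⟩ := exists_prime_orderOf_dvd_card' (G := C) 5 (by rw [hc45]; norm_num)
      have := hno15 y.1 y.2 h (by rw [← SubgroupClass.coe_pow, ← hy, pow_orderOf_eq_one]; rfl)
      rw [OneMemClass.coe_eq_one] at this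
      rw [this, orderOf_one] at hy
      norm_num at hy
    · have hb := hbound 5 144 h (hcount 5 144 f5)
      have h3 : 3 ∣ Nat.card C := by
        have := Nat.le_of_dvd (by norm_num) hcd
        interval_cases hh : Nat.card C <;> omega
      obtain ⟨y, hy⟩ := exists_prime_orderOf_dvd_card' (G := C) 3 h3
      have hy3 : (y.1) ^ 3 = 1 := by rw [← SubgroupClass.coe_pow, ← hy, pow_orderOf_eq_one]; rfl
      have hyN : y.1 ∈ N := hodd_mem y.1 (hCodd y.1 y.2)
      have hc : Commute y.1 w := Subgroup.mem_centralizer_singleton_iff.mp (hCd ▸ y.2)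
      have hy1 : y.1 ≠ 1 := fun h1 => by
        rw [OneMemClass.coe_eq_one] at h1; rw [h1, orderOf_one] at hy; norm_num at hy
      rcases hord (y.1 * w) (N.mul_mem hyN hw) with h' | h' | h' <;> rw [hc.mul_pow] at h'
      · apply hy1
        have hh : (y.1 ^ 4 * w ^ 4) ^ 5 = 1 := by rw [h', one_pow]
        rw [(hc.pow_pow 4 4).mul_pow, ← pow_mul, ← pow_mul, show w ^ (4 * 5) = 1 by rw [pow_mul', h, one_pow], mul_one] at hh
        calc y.1 = (y.1 ^ 3) ^ 7 * (y.1 ^ 20)⁻¹ := by group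
          _ = 1 := by rw [hy3, one_pow, one_mul]; simp only [show (20 : ℕ) = 4 * 5 from rfl, hh, inv_one]
      · apply hw1
        rw [hy3, one_mul] at h'
        calc w = (w ^ 3) ^ 2 * (w ^ 5)⁻¹ := by group
          _ = 1 := by rw [h', h]; simp
      · apply hy1
        rw [h, mul_one] at h'
        calc y.1 = (y.1 ^ 3) ^ 2 * (y.1 ^ 5)⁻¹ := by group
          _ = 1 := by rw [h', hy3]; simp
  -- the Sylow subgroup is the centraliser of an involution of `N`
  have hHc : Nat.card (H : Subgroup G) = 32 := by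
    rw [H.card_eq_multiplicity, hG, show (1440 : ℕ) = 2 ^ 5 * 45 from rfl,
      Nat.factorization_mul (by norm_num) (by norm_num), Nat.Prime.factorization_pow Nat.prime_two]
    simp [Nat.factorization_eq_zero_of_not_dvd (by norm_num : ¬ 2 ∣ 45)]
  obtain ⟨z, hzN, hzH, hz2, hz1⟩ : ∃ z : G, z ∈ N ∧ (H : Subgroup G) ≤ Subgroup.centralizer {z} ∧ z * z = 1 ∧ z ≠ 1 := by
    let A := N.subgroupOf (H : Subgroup G)
    have hAn : A.Normal := inferInstance
    have hA2 : 2 ∣ Nat.card A := by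
      have hd : A.index ∣ 4 := by rw [← hidx]; exact Subgroup.relIndex_dvd_index_of_normal N _
      have h := A.index_mul_card
      rw [hHc] at h
      obtain ⟨c, hc⟩ := hd
      have : A.index ≤ 4 := Nat.le_of_dvd (by norm_num) ⟨c, hc⟩
      interval_cases hh : A.index <;> omega
    haveI : Fact (Nat.Prime 2) := ⟨Nat.prime_two⟩
    have hP : IsPGroup 2 (ConjAct (H : Subgroup G)) := H.isPGroup'.of_equiv (ConjAct.toConjAct)
    haveI : Finite A := inferInstance
    have h1 : (1 : A) ∈ MulAction.fixedPoints (ConjAct (H : Subgroup G)) A := fun g => Subtype.ext (by simp [ConjAct.Subgroup.val_conj_smul])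
    obtain ⟨a, ha, ha1⟩ := hP.exists_fixed_point_of_prime_dvd_card_of_fixed_point A hA2 h1
    obtain ⟨k, hk⟩ := H.isPGroup' a.1
    obtain ⟨b, hb, hb2, hb1⟩ : ∃ b ∈ Subgroup.zpowers (a.1.1 : G), b * b = 1 ∧ b ≠ 1 := by
      have hne : (a.1.1 : G) ≠ 1 := fun h => ha1 (Subtype.ext (Subtype.ext h.symm))
      obtain ⟨j, hj⟩ := (Nat.dvd_prime_pow Nat.prime_two).mp (orderOf_dvd_of_pow_eq_one
        (show (a.1.1 : G) ^ 2 ^ k = 1 from congrArg Subtype.val hk))
      rcases j with _ | j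
      · exact absurd (orderOf_eq_one_iff.mp (by simpa using hj.2)) hne
      · refine ⟨(a.1.1 : G) ^ 2 ^ j, Subgroup.pow_mem _ (Subgroup.mem_zpowers _) _, ?_, ?_⟩
        · rw [← pow_add, ← two_mul, ← pow_succ', ← hj.2, pow_orderOf_eq_one]
        · apply pow_ne_one_of_lt_orderOf (by positivity)
          rw [hj.2]; exact Nat.pow_lt_pow_right (by norm_num) (by omega)
    obtain ⟨i, rfl⟩ := Subgroup.mem_zpowers_iff.mp hb
    refine ⟨_, N.zpow_mem a.2 i, fun h hh => ?_, hb2, hb1⟩
    rw [Subgroup.mem_centralizer_singleton_iff]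
    have hfix := congrArg (fun s : A => (s.1.1 : G)) (ha (ConjAct.toConjAct ⟨h, hh⟩))
    have hc : Commute h a.1.1 := by
      have e1 : h * a.1.1 * h⁻¹ = a.1.1 := by simpa [ConjAct.Subgroup.val_conj_smul, ConjAct.smul_def] using hfix
      exact mul_inv_eq_iff_eq_mul.mp e1
    exact (hc.zpow_right i).eq
  have hzc : Nat.card (Subgroup.centralizer ({z} : Set G)) = 32 := by
    have hclass := Cfsg.Agent.Lib.SylowCounting.card_conjClass_mul_card_centralizer z
    rw [hG] at hclass
    have hle : Nat.card {g : G // IsConj z g} = 45 := by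
      rw [← hcount 2 45 f2]
      refine Nat.card_congr (Equiv.subtypeEquivRight fun g => ?_)
      constructor
      · intro hg
        obtain ⟨c, hc⟩ := isConj_iff.mp hg
        rw [← hc]
        exact ⟨‹N.Normal›.conj_mem z hzN c, by rw [conj_pow, sq, hz2]; simp, by simpa using hz1⟩
      · rintro ⟨hgN, hg2, hg1⟩
        have key : ∀ u : G, ∀ hu : u ∈ N, u ^ 2 = 1 → u ≠ 1 → ∃ τ : N, e τ * e ⟨u, hu⟩ * (e τ)⁻¹ =
            e ⟨z, hzN⟩ := by
          intro u hu hu2 hu1
          have hsq : ∀ (v : G) (hv : v ∈ N), v ^ 2 = 1 → ((e ⟨v, hv⟩).1 : Equiv.Perm (Fin 6)) ^ 2 = 1 := fun v hv h => by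
            rw [← SubgroupClass.coe_pow, ← map_pow, show (⟨v, hv⟩ : N) ^ 2 = 1 from Subtype.ext h, map_one]; rfl
          have hne : ∀ (v : G) (hv : v ∈ N), v ≠ 1 → ((e ⟨v, hv⟩).1 : Equiv.Perm (Fin 6)) ≠ 1 := fun v hv h h1 => by
            rw [OneMemClass.coe_eq_one, MulEquiv.map_eq_one_iff] at h1
            exact h (congrArg Subtype.val h1)
          obtain ⟨s, hs, hsu⟩ := six_conj _ (e ⟨u, hu⟩).2 (hsq u hu hu2) (hne u hu hu1)
          obtain ⟨t, ht, htz⟩ := six_conj _ (e ⟨z, hzN⟩).2 (hsq z hzN (by rw [sq, hz2])) (hne z hzN hz1)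
          refine ⟨e.symm ⟨t * s⁻¹, (alternatingGroup (Fin 6)).mul_mem ht ((alternatingGroup (Fin 6)).inv_mem hs)⟩, Subtype.ext ?_⟩
          rw [MulEquiv.apply_symm_apply]
          show t * s⁻¹ * _ * (t * s⁻¹)⁻¹ = _
          rw [← hsu, ← htz]; group
        obtain ⟨τ, hτ⟩ := key g hgN hg2 hg1
        rw [← map_inv, ← map_mul, ← map_mul] at hτ
        have hτ' := congrArg Subtype.val (e.injective hτ)
        exact (isConj_iff.mpr ⟨(τ : G), hτ'⟩).symm
    rw [hle] at hclass
    omega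
  have hHz : (H : Subgroup G) = Subgroup.centralizer {z} :=
    Subgroup.eq_of_le_of_card_ge hzH (by rw [hzc, hHc])
  obtain ⟨z', hz'd⟩ : ∃ z', z' = x * z * x⁻¹ := ⟨_, rfl⟩
  have hz'2 : z' * z' = 1 := by
    rw [hz'd, show x * z * x⁻¹ * (x * z * x⁻¹) = x * (z * z) * x⁻¹ by group, hz2]; group
  have hz'N : z' ∈ N := hz'd ▸ ‹N.Normal›.conj_mem z hzN x
  obtain ⟨t, ht1, htz, htz'⟩ := exists_common_centralized hz2 hz'2 (heven _ (N.mul_mem hzN hz'N))
  intro hbot
  apply ht1
  rw [← Subgroup.mem_bot, ← hbot, Subgroup.mem_inf, hHz]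
  refine ⟨Subgroup.mem_centralizer_singleton_iff.mpr htz, ?_⟩
  rw [Subgroup.mem_pointwise_smul_iff_inv_smul_mem, Subgroup.mem_centralizer_singleton_iff]
  simp only [MulAut.smul_def, MulAut.inv_apply, MulAut.conj_symm_apply]
  calc x⁻¹ * t * x * z = x⁻¹ * (t * z') * x := by rw [hz'd]; group
    _ = x⁻¹ * (z' * t) * x := by rw [htz']
    _ = z * (x⁻¹ * t * x) := by rw [hz'd]; group

end Cfsg.Agent.S2488
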