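import Cfsg.Statements.S2503
import Cfsg.Agent.Lib.Geometry.Dickson.Tori

set_option autoImplicit false
open Cfsg

namespace Cfsg.Agent.S2503

open Matrix
open Cfsg.Agent.Lib.SL2Trace (tr tr_eq toPSL toPSL_surjective toPSL_eq_one mem_center_iff tr_comp)
open Cfsg.Agent.Lib.Geometry.Dickson

variable {F : Type*} [Field F]

local notation "SL2" => Matrix.SpecialLinearGroup (Fin 2) F
local notation "M2" => Matrix (Fin 2) (Fin 2) F
local notation "Jt" => Cfsg.Agent.Lib.SL2Trace.comp

theorem sl_comm_conj (a c g y : SL2) (ha : a * y = y * a) (hc : c * y = y * c) :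
    tr ((a * g * c) * y * (a * g * c)⁻¹ * y) = tr (g * y * g⁻¹ * y) := by
  have h1 : (a * g * c) * y * (a * g * c)⁻¹ * y = a * (g * y * g⁻¹ * y) * a⁻¹ := by
    have hc' : c * y * c⁻¹ = y := by rw [hc, mul_inv_cancel_right]
    have ha' : a⁻¹ * y = y * a⁻¹ := by
      rw [eq_mul_inv_iff_mul_eq, mul_assoc, ← ha, inv_mul_cancel_left]
    calc (a * g * c) * y * (a * g * c)⁻¹ * y = a * g * (c * y * c⁻¹) * g⁻¹ * (a⁻¹ * y) := by group
      _ = a * (g * y * g⁻¹ * y) * a⁻¹ := by rw [hc', ha']; group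
  rw [h1]
  exact Cfsg.Agent.Lib.SL2Trace.tr_conj _ _

variable [CharP F 2]

theorem upper_inv_two (s : F) : (upper s)⁻¹ = upper s := by
  rw [upper_inv, CharTwo.neg_eq]

theorem conj_comp (s t : F) : ((upper s * (Jt t) * (upper s)⁻¹ : SL2) : M2) =
    !![s, s * s + 1 + s * t; 1, s + t] := by
  rw [upper_inv_two, Matrix.SpecialLinearGroup.coe_mul, Matrix.SpecialLinearGroup.coe_mul]
  have h2 : (-1 : F) = 1 := CharTwo.neg_eq 1
  ext i j
  fin_cases i <;> fin_cases j <;>
    simp [Matrix.mul_apply, Fin.sum_univ_two, coe_upper, Cfsg.Agent.Lib.SL2Trace.comp, h2] <;> ring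

theorem inv_upper_val (s t : F) : tr (upper s * (Jt t) * (upper s)⁻¹ * (Jt t)) = s * s + t * t := by
  rw [tr_eq, Matrix.SpecialLinearGroup.coe_mul, conj_comp]
  simp [Matrix.mul_apply, Fin.sum_univ_two, Cfsg.Agent.Lib.SL2Trace.comp]
  have : (2 : F) = 0 := CharTwo.two_eq_zero
  linear_combination (s * t) * this

theorem conj_mem_torus {s t : F} (h : upper s * (Jt t) * (upper s)⁻¹ ∈ Subgroup.centralizer ({(Jt t)} : Set SL2)) :
    s = 0 ∨ s = t := by
  have he := congrArg (fun g : SL2 => (g : M2)) (mem_centralizer_iff.mp h)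
  simp only [Matrix.SpecialLinearGroup.coe_mul] at he
  rw [← Matrix.SpecialLinearGroup.coe_mul, ← Matrix.SpecialLinearGroup.coe_mul, conj_comp] at he
  have h00 := congrFun (congrFun he 0) 0
  simp [Matrix.mul_apply, Fin.sum_univ_two, Cfsg.Agent.Lib.SL2Trace.comp, CharTwo.neg_eq] at h00
  have : s * (s + t) = 0 := by linear_combination h00
  rcases mul_eq_zero.mp this with h | h
  · exact Or.inl h
  · exact Or.inr (CharTwo.add_eq_zero.mp h)

/-- Cardinalities force the double cosets of a nonsplit torus to exhaust `SL₂`. -/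
theorem cover_SL2 [Fintype F] {t : F} (hs : ¬ IsSplit ((Jt t))) (ht : t ≠ 0)
    (hy : (Jt t) ∉ Subgroup.center SL2) (g : SL2) :
    ∃ a ∈ cell ⊤ ((Jt t)), ∃ s : F, ∃ c ∈ cell ⊤ ((Jt t)), g = a * upper s * c := by
  classical
  set A : Subgroup SL2 := cell ⊤ ((Jt t)) with hA
  haveI := Fintype.ofFinite SL2
  haveI := Fintype.ofFinite A
  have hcomm : ∀ a ∈ A, a * (Jt t) = (Jt t) * a := fun a ha => mem_centralizer_iff.mp ha.1
  have htt : tr ((Jt t)) ^ 2 ≠ 4 := by
    rw [tr_comp, show (4 : F) = 0 by linear_combination 2 * (CharTwo.two_eq_zero : (2 : F) = 0)]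
    exact pow_ne_zero 2 ht
  let S := {s : F // s ≠ 0 ∧ s ≠ t}
  let φ : ((A × A) × S) ⊕ (A × Bool) → SL2 := Sum.elim (fun x => (x.1.1 : SL2) * upper x.2.1 * x.1.2)
    (fun x => (x.1 : SL2) * upper (if x.2 then 0 else t))
  let I : SL2 → F := fun g => tr (g * (Jt t) * g⁻¹ * (Jt t))
  have hI : ∀ a ∈ A, ∀ c ∈ A, ∀ s : F, I (a * upper s * c) = s * s + t * t := fun a ha c hc s => by
    simp only [I]
    rw [sl_comm_conj a c _ _ (hcomm a ha) (hcomm c hc), inv_upper_val]
  have hI' : ∀ a ∈ A, ∀ s : F, I (a * upper s) = s * s + t * t := fun a ha s => by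
    simpa using hI a ha 1 A.one_mem s
  have hsq : ∀ a b : F, a * a + t * t = b * b + t * t → a = b := fun a b h => by
    exact CharTwo.sq_injective (by simpa [sq] using h)
  have hφ : Function.Injective φ := by
    rintro (⟨⟨a, c⟩, s, hs0, hst⟩ | ⟨a, u⟩) (⟨⟨a', c'⟩, s', hs0', hst'⟩ | ⟨a', u'⟩) h <;>
      simp only [φ, Sum.elim_inl, Sum.elim_inr] at h <;> have hh := congrArg I h
    · rw [hI _ a.2 _ c.2, hI _ a'.2 _ c'.2] at hh
      obtain rfl := hsq _ _ hh
      suffices hx : (a'⁻¹ * a : A) = 1 by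
        obtain rfl := inv_mul_eq_one.mp hx
        obtain rfl : c = c' := Subtype.ext (mul_left_cancel h)
        rfl
      by_contra hne
      have hxe : ((a'⁻¹ * a : A) : SL2) * upper s = upper s * ((c' * c⁻¹ : A) : SL2) := by
        push_cast
        rw [← mul_assoc, eq_mul_inv_iff_mul_eq, mul_assoc, mul_assoc, inv_mul_eq_iff_eq_mul,
          ← mul_assoc, ← mul_assoc]
        exact h
      have hxZ : ((a'⁻¹ * a : A) : SL2) ∉ Subgroup.center SL2 := fun hz => hne (Subtype.ext (by
        rcases mem_center_iff.mp hz with e | e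
        · exact e
        · rw [e]; exact Subtype.ext (by ext i j; simp [CharTwo.neg_eq])))
      have e1 := cell_eq ⊤ hy hxZ (a'⁻¹ * a : A).2
      have hz : upper s * (Jt t) * (upper s)⁻¹ ∈ cell ⊤ ((a'⁻¹ * a : A) : SL2) := by
        refine ⟨mem_centralizer_iff.mpr ?_, Subgroup.mem_top _⟩
        have hc' := hcomm _ (c' * c⁻¹ : A).2
        rw [show ((a'⁻¹ * a : A) : SL2) = upper s * ((c' * c⁻¹ : A) : SL2) * (upper s)⁻¹ from
          eq_mul_inv_of_mul_eq hxe]
        calc upper s * (Jt t) * (upper s)⁻¹ * (upper s * ((c' * c⁻¹ : A) : SL2) * (upper s)⁻¹)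
            = upper s * ((Jt t) * ((c' * c⁻¹ : A) : SL2)) * (upper s)⁻¹ := by group
          _ = upper s * (((c' * c⁻¹ : A) : SL2) * (Jt t)) * (upper s)⁻¹ := by rw [hc']
          _ = _ := by group
      rw [e1] at hz
      rcases conj_mem_torus hz.1 with e | e
      · exact hs0 e
      · exact hst e
    · rw [hI _ a.2 _ c.2, hI' _ a'.2] at hh
      have := hsq _ _ hh
      cases u'
      · exact absurd (by simpa using this) hst
      · exact absurd (by simpa using this) hs0
    · rw [hI' _ a.2, hI _ a'.2 _ c'.2] at hh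
      have := hsq _ _ hh
      cases u
      · exact absurd (by simpa using this.symm) hst'
      · exact absurd (by simpa using this.symm) hs0'
    · rw [hI' _ a.2, hI' _ a'.2] at hh
      have := hsq _ _ hh
      have hu : u = u' := by
        cases u <;> cases u' <;> first | rfl | (exfalso; simp at this; first | exact ht this | exact ht this.symm)
      subst hu
      rw [mul_left_inj] at h
      rw [Subtype.ext h]
  have hcard : Fintype.card SL2 ≤ Fintype.card (((A × A) × S) ⊕ (A × Bool)) := by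
    have h1 : Fintype.card A = Fintype.card F + 1 := by
      rw [← Nat.card_eq_fintype_card]; exact card_cell_nonsplit hy htt hs
    have h2 : Fintype.card S = Fintype.card F - 2 := by
      have := Fintype.card_subtype_compl (fun s : F => s = 0 ∨ s = t)
      rw [show Fintype.card S = Fintype.card {s : F // ¬ (s = 0 ∨ s = t)} from
        Fintype.card_congr (Equiv.subtypeEquivRight fun s => by tauto), this]
      congr 1
      rw [Fintype.card_subtype, show (Finset.univ.filter fun s : F => s = 0 ∨ s = t) = {0, t} by ext; simp]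
      exact Finset.card_pair (Ne.symm ht)
    rw [← Nat.card_eq_fintype_card, Cfsg.Agent.Lib.KnownA.card_SL2, Fintype.card_sum, Fintype.card_prod, Fintype.card_prod,
      Fintype.card_prod, h1, h2, Fintype.card_bool]
    obtain ⟨k, hk⟩ : ∃ k, Fintype.card F = k + 2 := ⟨Fintype.card F - 2, by
      have := Fintype.one_lt_card (α := F); omega⟩
    rw [hk, show (k + 2) ^ 2 - 1 = (k + 1) * (k + 3) by
      rw [show (k + 2) ^ 2 = (k + 1) * (k + 3) + 1 by ring, Nat.add_sub_cancel], Nat.add_sub_cancel]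
    exact le_of_eq (by ring)
  obtain ⟨x, hx⟩ := (hφ.bijective_of_nat_card_le (by simpa only [Nat.card_eq_fintype_card] using hcard)).2 g
  rcases x with ⟨⟨a, c⟩, s, hsS⟩ | ⟨a, u⟩
  · exact ⟨a, a.2, s, c, c.2, hx.symm⟩
  · exact ⟨a, a.2, if u then 0 else t, 1, A.one_mem, by rw [mul_one]; exact hx.symm⟩

/-- Let F be a finite field with q = 2^t ≥ 4 elements and L = PSL(2,F). Then L has a cyclic subgroup A of order q + 1 and an elementary abelian 2-subgroup B of order q such that L = ABA: every element of L is a product a·b·a' with a, a' ∈ A and b ∈ B. -/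
theorem result {F : Type*} [Field F] [Fintype F]
    (h2 : 2 ∣ Fintype.card F) (h4 : 4 ≤ Fintype.card F) :
    ∃ A B : Subgroup (Matrix.ProjectiveSpecialLinearGroup (Fin 2) F),
      IsCyclic A ∧ Nat.card A = Fintype.card F + 1 ∧ IsMulCommutative B ∧ (∀ b ∈ B, b * b = 1) ∧
        Nat.card B = Fintype.card F ∧
        ∀ g : Matrix.ProjectiveSpecialLinearGroup (Fin 2) F, ∃ a ∈ A, ∃ b ∈ B, ∃ c ∈ A, g = a * b * c := by
  classical
  haveI : CharP F 2 := ringChar.of_eq ((FiniteField.even_card_iff_char_two).mpr (Nat.mod_eq_zero_of_dvd h2))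
  obtain ⟨y, hys, hyt, -⟩ := exists_nonsplit (F := F)
  set t := tr y with htdef
  have ht : t ≠ 0 := by
    intro h
    rw [h, show (4 : F) = 0 by linear_combination 2 * (CharTwo.two_eq_zero : (2 : F) = 0)] at hyt
    simp at hyt
  have hs : ¬ IsSplit ((Jt t)) := by rintro ⟨r, hr⟩; exact hys ⟨r, by rwa [tr_comp] at hr⟩
  have htt : tr ((Jt t)) ^ 2 ≠ 4 := by rwa [tr_comp]
  have hy : (Jt t) ∉ Subgroup.center (Matrix.SpecialLinearGroup (Fin 2) F) := fun h => by
    rcases mem_center_iff.mp h with h | h <;>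
    · have := congrArg (fun g : Matrix.SpecialLinearGroup (Fin 2) F => (g : Matrix (Fin 2) (Fin 2) F) 1 0) h
      simp [Cfsg.Agent.Lib.SL2Trace.comp] at this
  have hinj : Function.Injective (toPSL (F := F)) := (injective_iff_map_eq_one _).mpr fun a ha => by
    rcases toPSL_eq_one.mp ha with e | e
    · exact e
    · rw [e]; exact Subtype.ext (by ext i j; simp [CharTwo.neg_eq])
  let u : Multiplicative F →* Matrix.SpecialLinearGroup (Fin 2) F :=
    { toFun := fun s => (upper (Multiplicative.toAdd s : F) : Matrix.SpecialLinearGroup (Fin 2) F)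
      map_one' := upper_zero
      map_mul' := fun a b => (upper_mul _ _).symm }
  have hu : Function.Injective ((toPSL (F := F)).comp u) := fun a b h => by
    exact Multiplicative.toAdd.injective (toPSL_upper_injective (F := F) h)
  haveI := torus_isCyclic (⊤ : Subgroup (Matrix.SpecialLinearGroup (Fin 2) F)) hy htt
  refine ⟨(cell ⊤ ((Jt t))).map toPSL, ((toPSL (F := F)).comp u).range, ?_, ?_, ?_, ?_, ?_, ?_⟩
  · exact isCyclic_of_surjective (Subgroup.equivMapOfInjective _ _ hinj).toMonoidHom (MulEquiv.surjective _)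
  · rw [Subgroup.card_map_of_injective hinj, card_cell_nonsplit hy htt hs]
  · exact ⟨⟨by rintro ⟨_, a, rfl⟩ ⟨_, b, rfl⟩; exact Subtype.ext (by simp [← map_mul, mul_comm])⟩⟩
  · rintro _ ⟨a, rfl⟩
    rw [← map_mul, show a * a = 1 from CharTwo.add_self_eq_zero (R := F) (Multiplicative.toAdd a), map_one]
  · rw [← Nat.card_congr (MonoidHom.ofInjective hu).toEquiv, ← Nat.card_eq_fintype_card (α := F)]
    exact Nat.card_congr Multiplicative.toAdd
  · intro g
    obtain ⟨g, rfl⟩ := toPSL_surjective g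
    obtain ⟨a, ha, s, c, hc, rfl⟩ := cover_SL2 hs ht hy g
    exact ⟨_, Subgroup.mem_map_of_mem _ ha, _, ⟨Multiplicative.ofAdd s, rfl⟩, _, Subgroup.mem_map_of_mem _ hc,
      by rw [map_mul, map_mul]; rfl⟩

end Cfsg.Agent.S2503
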