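import Cfsg.Statements.S2504
import Cfsg.Agent.Lib.AbelianPerm.Bound

set_option autoImplicit false
open Cfsg

namespace Cfsg.Agent.S2504

open Cfsg.Agent.Lib.AbelianPerm

private theorem sq_four : ∀ v : ZMod 2 × ZMod 2, ∃ π : Equiv.Perm (ZMod 2 × ZMod 2), π * π = Equiv.addLeft v := by decide +kernel

private theorem sq_three : ∀ v : ZMod 3 × ZMod 1, ∃ π : Equiv.Perm (ZMod 3 × ZMod 1), π * π = Equiv.addLeft v := by decide +kernel

/-- Blocks of size four (a four-group) and three. -/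
private theorem exists_even_blocks {N : ℕ} {ι : Type} [Fintype ι] (a : ι → ℕ × ℕ) (ha : ∀ i, a i = (1, 1) ∨ a i = (2, 0))
    (hn : N = ∑ i, ((a i).1 + 1) * ((a i).2 + 1)) :
    ∃ A : Subgroup (alternatingGroup (Fin N)), IsMulCommutative A ∧ Nat.card A = ∏ i, ((a i).1 + 1) * ((a i).2 + 1) := by
  obtain ⟨A, h1, h2, h3⟩ := exists_abelian (α := Fin N) (fun i => ZMod ((a i).1 + 1) × ZMod ((a i).2 + 1))
    (by rw [Fintype.card_fin, hn]; simp [Fintype.card_prod, ZMod.card])
  have hle : A ≤ alternatingGroup (Fin N) := h3 fun i => by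
    rcases ha i with h | h <;> rw [h]
    · exact sq_four
    · exact sq_three
  refine ⟨A.subgroupOf (alternatingGroup (Fin N)), ⟨⟨fun x y => ?_⟩⟩, ?_⟩
  · have := congrArg Subtype.val (IsMulCommutative.is_comm.comm (⟨(x.1 : Equiv.Perm (Fin N)), Subgroup.mem_subgroupOf.mp x.2⟩ : A)
      ⟨(y.1 : Equiv.Perm (Fin N)), Subgroup.mem_subgroupOf.mp y.2⟩)
    exact Subtype.ext (Subtype.ext this)
  · rw [Nat.card_congr (Subgroup.subgroupOfEquivOfLe hle).toEquiv, h2]
    simp [Fintype.card_prod, ZMod.card]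

private theorem card_le_bound {N : ℕ} (A : Subgroup (alternatingGroup (Fin N))) [IsMulCommutative A] :
    Nat.card A ≤ maxProd N ∧ Nat.card A ≤ max (maxProd' N) (maxProd (N - 2)) := by
  have hc : IsMulCommutative (A.map (alternatingGroup (Fin N)).subtype) := Subgroup.map_isMulCommutative _ _
  rw [← Nat.card_congr (Subgroup.equivMapOfInjective A _ (alternatingGroup (Fin N)).subtype_injective).toEquiv.symm]
  have e := Fintype.card_fin N
  exact ⟨(card_le_maxProd _).trans_eq (congrArg maxProd e), (card_le_of_even _ (Subgroup.map_subtype_le A)).trans_eq (by rw [e])⟩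


/-- The largest order of an abelian subgroup of the alternating group of degree n is 3^k when n = 3k, 4·3^(k−1) when n = 3k + 1, and 16·3^(k−2) when n = 3k + 2, for every k ≥ 2 (so for all degrees n ≥ 6). -/
theorem result (k : ℕ) (hk : 2 ≤ k) :
    IsGreatest {c : ℕ | ∃ A : Subgroup (alternatingGroup (Fin (3 * k))), IsMulCommutative A ∧ Nat.card A = c} (3 ^ k) ∧
    IsGreatest {c : ℕ | ∃ A : Subgroup (alternatingGroup (Fin (3 * k + 1))), IsMulCommutative A ∧ Nat.card A = c}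
      (4 * 3 ^ (k - 1)) ∧
    IsGreatest {c : ℕ | ∃ A : Subgroup (alternatingGroup (Fin (3 * k + 2))), IsMulCommutative A ∧ Nat.card A = c}
      (16 * 3 ^ (k - 2)) := by
  obtain ⟨j, rfl⟩ : ∃ j, k = j + 2 := ⟨k - 2, by omega⟩
  obtain ⟨m0, m1, -⟩ := maxProd_mono_step (j + 1)
  simp only [Nat.add_sub_cancel, show j + 2 - 1 = j + 1 by omega]
  refine ⟨⟨?_, ?_⟩, ⟨?_, ?_⟩, ⟨?_, ?_⟩⟩
  · obtain ⟨A, h1, h2⟩ := exists_even_blocks (N := 3 * (j + 2)) (fun _ : Fin (j + 2) => (2, 0)) (fun _ => Or.inr rfl) (by simp; ring)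
    exact ⟨A, h1, by rw [h2]; simp⟩
  · rintro c ⟨A, hA, rfl⟩
    refine (card_le_bound A).1.trans ?_
    rw [show 3 * (j + 2) = 3 * (j + 1) + 3 by ring, m0]
  · obtain ⟨A, h1, h2⟩ := exists_even_blocks (N := 3 * (j + 2) + 1) (fun o : Option (Fin (j + 1)) => o.elim (1, 1) fun _ => (2, 0))
      (fun o => by cases o <;> simp) (by simp [Fintype.sum_option]; ring)
    exact ⟨A, h1, by rw [h2]; simp [Fintype.prod_option]⟩
  · rintro c ⟨A, hA, rfl⟩
    refine (card_le_bound A).1.trans ?_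
    rw [show 3 * (j + 2) + 1 = 3 * (j + 1) + 4 by ring, m1]
  · obtain ⟨A, h1, h2⟩ := exists_even_blocks (N := 3 * (j + 2) + 2) (fun o : Option (Option (Fin j)) => o.elim (1, 1) fun o' => o'.elim (1, 1) fun _ => (2, 0))
      (fun o => by rcases o with _ | _ | _ <;> simp) (by simp [Fintype.sum_option]; ring)
    exact ⟨A, h1, by rw [h2]; simp [Fintype.prod_option]; ring⟩
  · rintro c ⟨A, hA, rfl⟩
    refine (card_le_bound A).2.trans ?_
    rw [show 3 * (j + 2) + 2 - 2 = 3 * (j + 1) + 3 by omega, show 3 * (j + 2) + 2 = 3 * j + 8 by ring, m0, maxProd'_three_mul_add_eight]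
    refine max_le le_rfl ?_
    rw [show j + 1 + 1 = j + 2 by ring, pow_add]
    have := Nat.pow_pos (n := j) (show 0 < 3 by norm_num)
    omega

end Cfsg.Agent.S2504
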