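import Cfsg.Statements.S2505
import Cfsg.Agent.Lib.AbelianPerm.Bound

set_option autoImplicit false
open Cfsg

namespace Cfsg.Agent.S2505

open Cfsg.Agent.Lib.AbelianPerm

/-- Groups `ZMod (a + 1) × ZMod (b + 1)` as blocks. -/
private theorem exists_blocks {α : Type*} [Fintype α] [DecidableEq α] {ι : Type} [Fintype ι] (a : ι → ℕ × ℕ)
    (hn : Fintype.card α = ∑ i, ((a i).1 + 1) * ((a i).2 + 1)) :
    ∃ A : Subgroup (Equiv.Perm α), IsMulCommutative A ∧ Nat.card A = ∏ i, ((a i).1 + 1) * ((a i).2 + 1) := by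
  obtain ⟨A, h1, h2, -⟩ := exists_abelian (α := α) (fun i => ZMod ((a i).1 + 1) × ZMod ((a i).2 + 1))
    (by rw [hn]; simp [Fintype.card_prod, ZMod.card])
  exact ⟨A, h1, by rw [h2]; simp [Fintype.card_prod, ZMod.card]⟩


/-- The largest order of an abelian subgroup of the symmetric group of degree n is 3^k when n = 3k, 4·3^(k−1) when n = 3k + 1, and 2·3^k when n = 3k + 2, for every k ≥ 1. -/
theorem result (k : ℕ) (hk : 1 ≤ k) :
    IsGreatest {c : ℕ | ∃ A : Subgroup (Equiv.Perm (Fin (3 * k))), IsMulCommutative A ∧ Nat.card A = c} (3 ^ k) ∧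
    IsGreatest {c : ℕ | ∃ A : Subgroup (Equiv.Perm (Fin (3 * k + 1))), IsMulCommutative A ∧ Nat.card A = c}
      (4 * 3 ^ (k - 1)) ∧
    IsGreatest {c : ℕ | ∃ A : Subgroup (Equiv.Perm (Fin (3 * k + 2))), IsMulCommutative A ∧ Nat.card A = c}
      (2 * 3 ^ k) := by
  obtain ⟨j, rfl⟩ : ∃ j, k = j + 1 := ⟨k - 1, by omega⟩
  obtain ⟨m0, m1, -⟩ := maxProd_mono_step j
  have m2 := (maxProd_mono_step (j + 1)).2.2
  simp only [Nat.add_sub_cancel]
  refine ⟨⟨?_, ?_⟩, ⟨?_, ?_⟩, ⟨?_, ?_⟩⟩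
  · obtain ⟨A, h1, h2⟩ := exists_blocks (α := Fin (3 * (j + 1))) (fun _ : Fin (j + 1) => (2, 0)) (by simp; ring)
    exact ⟨A, h1, by rw [h2]; simp⟩
  · rintro c ⟨A, hA, rfl⟩
    refine (card_le_maxProd A).trans ?_
    rw [Fintype.card_fin, show 3 * (j + 1) = 3 * j + 3 by ring, m0]
  · obtain ⟨A, h1, h2⟩ := exists_blocks (α := Fin (3 * (j + 1) + 1)) (fun o : Option (Fin j) => o.elim (3, 0) fun _ => (2, 0))
      (by simp [Fintype.sum_option]; ring)
    exact ⟨A, h1, by rw [h2]; simp [Fintype.prod_option]⟩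
  · rintro c ⟨A, hA, rfl⟩
    refine (card_le_maxProd A).trans ?_
    rw [Fintype.card_fin, show 3 * (j + 1) + 1 = 3 * j + 4 by ring, m1]
  · obtain ⟨A, h1, h2⟩ := exists_blocks (α := Fin (3 * (j + 1) + 2)) (fun o : Option (Fin (j + 1)) => o.elim (1, 0) fun _ => (2, 0))
      (by simp [Fintype.sum_option]; ring)
    exact ⟨A, h1, by rw [h2]; simp [Fintype.prod_option]⟩
  · rintro c ⟨A, hA, rfl⟩
    refine (card_le_maxProd A).trans ?_
    rw [Fintype.card_fin, m2]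

end Cfsg.Agent.S2505
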