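import Cfsg.Statements.S2506
import Cfsg.Agent.Lib.AbelianPerm.Bound
import Cfsg.Agent.S2504

set_option autoImplicit false
open scoped Pointwise
open Cfsg

namespace Cfsg.Agent.S2506

open Cfsg.Agent.Lib.AbelianPerm

theorem lt_maxProd' : ∀ a : ℕ, 6 ≤ a → a < maxProd' a
  | 0, h | 1, h | 2, h | 3, h | 4, h | 5, h => by omega
  | 6, _ => by decide
  | 7, _ => by decide
  | 8, _ => by decide
  | n + 9, _ => by
    have := lt_maxProd' (n + 6) (by omega)
    rw [maxProd']
    omega

theorem maxProd_lt_maxProd' : ∀ m : ℕ, 1 ≤ m → maxProd m < maxProd' (m + 2)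
  | 0, h => by omega
  | 1, _ | 2, _ | 3, _ | 4, _ | 5, _ | 6, _ => by decide
  | n + 7, _ => by
    have := maxProd_lt_maxProd' (n + 4) (by omega)
    rw [show n + 7 = n + 2 + 5 by omega, maxProd, show n + 2 + 2 = n + 4 by omega,
      show n + 2 + 5 + 2 = n + 9 by omega, maxProd']
    rw [show n + 4 + 2 = n + 6 by omega] at this
    omega

theorem maxProd'_forms (j : ℕ) :
    maxProd' (3 * j + 6) = 3 ^ (j + 2) ∧ maxProd' (3 * j + 7) = 4 * 3 ^ (j + 1) := by
  induction j with
  | zero => exact ⟨rfl, rfl⟩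
  | succ j ih =>
    refine ⟨?_, ?_⟩
    · rw [show 3 * (j + 1) + 6 = 3 * j + 9 by omega, maxProd', ih.1]; ring
    · rw [show 3 * (j + 1) + 7 = (3 * j + 1) + 9 by omega, maxProd',
        show 3 * j + 1 + 6 = 3 * j + 7 by omega, ih.2]; ring

/-- The shape of a partition without parts 2 attaining the largest product. -/
theorem parts {ι : Type*} [Fintype ι] (d : ι → ℕ) (h2 : ∀ i, d i ≠ 2) (hpos : ∀ i, 0 < d i)
    {n : ℕ} (hsum : ∑ i, d i = n) (hn : 3 ≤ n) (hn5 : n ≠ 5) (hprod : ∏ i, d i = maxProd' n) :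
    (∀ i, d i = 3 ∨ d i = 4) ∧ (Finset.univ.filter fun i => d i = 4).card ≤ 2 := by
  classical
  have key : ∀ t : Finset ι, ∏ i ∈ t, d i = maxProd' (∑ i ∈ t, d i) := by
    intro t
    refine le_antisymm (prod_le_maxProd' t d fun i _ => h2 i) ?_
    by_contra hlt
    have h1 : ∏ i ∈ tᶜ, d i ≤ maxProd' (∑ i ∈ tᶜ, d i) := prod_le_maxProd' _ d fun i _ => h2 i
    have hc : 0 < ∏ i ∈ tᶜ, d i := Finset.prod_pos fun i _ => hpos i
    have h3 : (∏ i ∈ t, d i) * ∏ i ∈ tᶜ, d i <
        maxProd' (∑ i ∈ t, d i) * maxProd' (∑ i ∈ tᶜ, d i) :=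
      Nat.mul_lt_mul_of_lt_of_le (not_le.mp hlt) h1 (lt_of_lt_of_le hc h1)
    have h4 := maxProd'_mul_le (∑ i ∈ t, d i) (∑ i ∈ tᶜ, d i)
    rw [Finset.prod_mul_prod_compl, hprod] at h3
    rw [Finset.sum_add_sum_compl, hsum] at h4
    omega
  have small : ∀ i, d i = 1 ∨ d i = 3 ∨ d i = 4 ∨ d i = 5 := by
    intro i
    have h := key {i}
    rw [Finset.prod_singleton, Finset.sum_singleton] at h
    rcases Nat.lt_or_ge (d i) 6 with h6 | h6
    · have := h2 i; have := hpos i; omega
    · have := lt_maxProd' _ h6; omega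
  have only : ∀ i, d i = 1 ∨ d i = 5 → ∀ j, j ≠ i → d i = 1 ∧ d j = 1 := by
    intro i hi j hji
    have h := key {i, j}
    rw [Finset.prod_pair (Ne.symm hji), Finset.sum_pair (Ne.symm hji)] at h
    rcases hi with hi | hi <;> rcases small j with hj | hj | hj | hj <;> rw [hi, hj] at h <;>
      first
        | exact ⟨hi, hj⟩
        | exact absurd h (by decide)
  have no1 : ∀ i, d i ≠ 1 := by
    intro i hi
    have hall : ∀ j, d j = 1 := fun j => by
      by_cases hji : j = i
      · rw [hji, hi]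
      · exact (only i (Or.inl hi) j hji).2
    have hp : ∏ j, d j = 1 := Finset.prod_eq_one fun j _ => hall j
    rw [hprod] at hp
    have := le_maxProd' n (by omega)
    omega
  have no5 : ∀ i, d i ≠ 5 := by
    intro i hi
    have : (Finset.univ : Finset ι) = {i} := by
      refine Finset.eq_singleton_iff_unique_mem.mpr ⟨Finset.mem_univ i, fun j _ => ?_⟩
      by_contra hji
      have := (only i (Or.inr hi) j hji).1
      omega
    rw [this, Finset.sum_singleton, hi] at hsum
    exact hn5 hsum.symm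
  have h34 : ∀ i, d i = 3 ∨ d i = 4 := fun i => by
    have := no1 i; have := no5 i; rcases small i with h | h | h | h <;> omega
  refine ⟨h34, ?_⟩
  by_contra h
  obtain ⟨t, ht, htc⟩ := Finset.exists_subset_card_eq (s := Finset.univ.filter fun i => d i = 4)
    (n := 3) (by omega)
  have ht4 : ∀ i ∈ t, d i = 4 := fun i hi => (Finset.mem_filter.mp (ht hi)).2
  have hk := key t
  rw [Finset.prod_congr rfl ht4, Finset.sum_congr rfl ht4, Finset.prod_const, Finset.sum_const,
    htc] at hk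
  revert hk
  decide

variable {α : Type*} [Fintype α]

/-- The orbit with a given index. -/
def orb (A : Subgroup (Equiv.Perm α)) (ω : Quotient (MulAction.orbitRel A α)) : Set α :=
  MulAction.orbit A ω.out

theorem mem_orb_mk (A : Subgroup (Equiv.Perm α)) (y : α) :
    y ∈ orb A (⟦y⟧ : Quotient (MulAction.orbitRel A α)) := by
  rw [orb, MulAction.mem_orbit_symm]
  exact MulAction.orbitRel_apply.mp (Quotient.mk_out (s := MulAction.orbitRel A α) y)

theorem mem_orb_iff (A : Subgroup (Equiv.Perm α)) (y : α) (ω : Quotient (MulAction.orbitRel A α)) :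
    y ∈ orb A ω ↔ (⟦y⟧ : Quotient (MulAction.orbitRel A α)) = ω := by
  refine ⟨fun h => ?_, fun h => h ▸ mem_orb_mk A y⟩
  rw [← Quotient.out_eq ω]
  exact Quotient.sound (MulAction.orbitRel_apply.mpr h)

/-- `σ` acts on `O` trivially, or without fixed points and, when `O` has four points, as an
involution. -/
def Good (O : Set α) (σ : Equiv.Perm α) : Prop :=
  (∀ y ∈ O, σ y ∈ O) ∧ ((∀ y ∈ O, σ y = y) ∨
    ((∀ y ∈ O, σ y ≠ y) ∧ (Nat.card O = 4 → ∀ y ∈ O, σ (σ y) = y)))

def Good' {d : ℕ} (f : Equiv.Perm (Fin d)) : Prop :=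
  (∀ i, f i = i) ∨ ((∀ i, f i ≠ i) ∧ (d = 4 → ∀ i, f (f i) = i))

theorem good'_three : ∀ f g : Equiv.Perm (Fin 3), Good' f → Good' g →
    ∀ i, f i = g i → ∀ j, f j = g j := by
  unfold Good'; decide +kernel

set_option synthInstance.maxSize 2000 in
theorem good'_four : ∀ f g : Equiv.Perm (Fin 4), Good' f → Good' g →
    ∀ i, f i = g i → ∀ j, f j = g j := by
  unfold Good'; decide +kernel

theorem even_four : ∀ f : Equiv.Perm (Fin 4), Equiv.Perm.sign f = 1 →
    (∀ i, f i = i) ∨ ((∃ i, f i = i) ∨ ∀ i, f (f i) = i) := by decide +kernel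

theorem iff_of_mapsTo {O : Set α} {σ : Equiv.Perm α} (h : ∀ y ∈ O, σ y ∈ O) :
    ∀ y, σ y ∈ O ↔ y ∈ O := by
  classical
  intro y
  refine ⟨fun hy => ?_, h y⟩
  have hi : Function.Injective (fun z : O => (⟨σ z, h z z.2⟩ : O)) := fun a b e =>
    Subtype.ext (σ.injective (congrArg Subtype.val e))
  obtain ⟨z, hz⟩ := Finite.injective_iff_surjective.mp hi ⟨σ y, hy⟩
  rw [← σ.injective (congrArg Subtype.val hz)]
  exact z.2

theorem good_eq {O : Set α} (hO : Nat.card O = 3 ∨ Nat.card O = 4) {σ τ : Equiv.Perm α}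
    (hσ : Good O σ) (hτ : Good O τ) {y₀ : α} (hy₀ : y₀ ∈ O) (h : σ y₀ = τ y₀) :
    ∀ y ∈ O, σ y = τ y := by
  classical
  obtain ⟨d, hd⟩ : ∃ d, Nat.card O = d := ⟨_, rfl⟩
  let e : O ≃ Fin d := (Finite.equivFin O).trans (finCongr hd)
  let tr : ∀ ρ : Equiv.Perm α, (∀ y ∈ O, ρ y ∈ O) → Equiv.Perm (Fin d) := fun ρ hρ =>
    e.permCongr (ρ.subtypePerm (p := (· ∈ O)) (iff_of_mapsTo hρ))
  have htr : ∀ ρ (hρ : ∀ y ∈ O, ρ y ∈ O) (y : α) (hy : y ∈ O),
      tr ρ hρ (e ⟨y, hy⟩) = e ⟨ρ y, hρ y hy⟩ := fun ρ hρ y hy => by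
    simp [tr]
  have hg : ∀ ρ (hρ : Good O ρ), Good' (tr ρ hρ.1) := by
    intro ρ hρ
    have hsur : ∀ i, ∃ y hy, e ⟨y, hy⟩ = i := fun i =>
      ⟨(e.symm i).1, (e.symm i).2, e.apply_symm_apply i⟩
    rcases hρ.2 with h1 | ⟨h1, h4⟩
    · refine Or.inl fun i => ?_
      obtain ⟨y, hy, rfl⟩ := hsur i
      rw [htr ρ hρ.1 y hy]
      exact congrArg e (Subtype.ext (h1 y hy))
    · refine Or.inr ⟨fun i => ?_, fun hd4 i => ?_⟩
      · obtain ⟨y, hy, rfl⟩ := hsur i
        rw [htr ρ hρ.1 y hy]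
        exact fun e' => h1 y hy (congrArg Subtype.val (e.injective e'))
      · obtain ⟨y, hy, rfl⟩ := hsur i
        rw [htr ρ hρ.1 y hy, htr ρ hρ.1 _ (hρ.1 y hy)]
        exact congrArg e (Subtype.ext (h4 (hd.trans hd4) y hy))
  intro y hy
  have h0 : tr σ hσ.1 (e ⟨y₀, hy₀⟩) = tr τ hτ.1 (e ⟨y₀, hy₀⟩) := by
    rw [htr σ hσ.1 _ hy₀, htr τ hτ.1 _ hy₀]; exact congrArg e (Subtype.ext h)
  have h1 : tr σ hσ.1 (e ⟨y, hy⟩) = tr τ hτ.1 (e ⟨y, hy⟩) := by
    rcases hO with h3 | h3
    · obtain rfl : d = 3 := hd.symm.trans h3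
      exact good'_three _ _ (hg σ hσ) (hg τ hτ) _ h0 _
    · obtain rfl : d = 4 := hd.symm.trans h3
      exact good'_four _ _ (hg σ hσ) (hg τ hτ) _ h0 _
  rw [htr σ hσ.1 _ hy, htr τ hτ.1 _ hy] at h1
  exact congrArg Subtype.val (e.injective h1)

/-- The properties of an abelian group of even permutations of largest order. -/
structure Shape (A : Subgroup (Equiv.Perm α)) : Prop where
  size : ∀ ω, Nat.card (orb A ω) = 3 ∨ Nat.card (orb A ω) = 4
  four : Nat.card {ω // Nat.card (orb A ω) = 4} ≤ 2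
  good : ∀ a ∈ A, ∀ ω, Good (orb A ω) a
  full : ∀ σ, (∀ ω, Good (orb A ω) σ) → σ ∈ A

theorem shape_of_max [DecidableEq α] (A : Subgroup (Equiv.Perm α)) [IsMulCommutative A]
    (hA : A ≤ alternatingGroup α) (hn : 3 ≤ Fintype.card α) (hn5 : Fintype.card α ≠ 5)
    (hbig : maxProd' (Fintype.card α) ≤ Nat.card A) : Shape A := by
  classical
  have h2 : ∀ ω, Nat.card (orb A ω) ≠ 2 := by
    intro ω₀ hω₀
    have hsum : ∑ ω ∈ Finset.univ.erase ω₀, Nat.card (MulAction.orbit A ω.out) = Fintype.card α - 2 := by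
      have := Finset.add_sum_erase Finset.univ (fun ω => Nat.card (MulAction.orbit A ω.out)) (Finset.mem_univ ω₀)
      rw [sum_card_orbit A] at this
      simp only [orb] at hω₀
      simp only [hω₀] at this
      omega
    have hb := (card_le_prod A (Finset.univ.erase ω₀) fun c hc => ?_).trans (prod_le_maxProd _ _)
    · rw [hsum] at hb
      have := maxProd_lt_maxProd' (Fintype.card α - 2) (by omega)
      rw [Nat.sub_add_cancel (by omega)] at this
      omega
    by_contra hne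
    have hsupp : ((c : Equiv.Perm α).support : Set α) ⊆ orb A ω₀ := by
      intro y hy
      by_contra hy'
      refine Equiv.Perm.mem_support.mp hy (hc y (Finset.mem_erase.mpr ⟨fun he => hy' ?_, Finset.mem_univ _⟩))
      exact (mem_orb_iff A y ω₀).mpr he
    have hle : (c : Equiv.Perm α).support.card ≤ 2 := by
      rw [← hω₀, ← Nat.card_eq_finsetCard]
      exact Nat.card_le_card_of_injective (Set.inclusion hsupp) (Set.inclusion_injective hsupp)
    have h2 : (c : Equiv.Perm α).support.card = 2 :=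
      le_antisymm hle (Equiv.Perm.two_le_card_support_of_ne_one fun e => hne (Subtype.ext e))
    have hs := Equiv.Perm.mem_alternatingGroup.mp (hA c.2)
    rw [(Equiv.Perm.card_support_eq_two.mp h2).sign_eq] at hs
    exact absurd hs (by decide)
  have hfaith : ∀ c : A, (∀ ω : Quotient (MulAction.orbitRel A α), c • ω.out = ω.out) → c = 1 := by
    intro c hc
    refine Subtype.ext (Equiv.ext fun y => ?_)
    obtain ⟨b, hb⟩ := mem_orb_mk A y
    simp only at hb
    show c • y = y
    rw [← hb, ← mul_smul, show c * b = b * c from IsMulCommutative.is_comm.comm c b, mul_smul, hc]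
  let f : A → ∀ ω : Quotient (MulAction.orbitRel A α), orb A ω :=
    fun a ω => ⟨a • ω.out, MulAction.mem_orbit _ _⟩
  have hfi : Function.Injective f := by
    intro a b hab
    refine (inv_mul_eq_one.mp (hfaith (b⁻¹ * a) fun ω => ?_)).symm
    rw [mul_smul, inv_smul_eq_iff]
    exact congrArg Subtype.val (congrFun hab ω)
  have hle : Nat.card A ≤ ∏ ω, Nat.card (orb A ω) :=
    (Nat.card_le_card_of_injective f hfi).trans_eq Nat.card_pi
  have hup : ∏ ω, Nat.card (orb A ω) ≤ maxProd' (Fintype.card α) := by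
    rw [← sum_card_orbit A]
    exact prod_le_maxProd' _ _ fun ω _ => h2 ω
  have hfb : Function.Bijective f := (Nat.bijective_iff_injective_and_card f).mpr
    ⟨hfi, le_antisymm (Nat.card_le_card_of_injective f hfi) (by rw [Nat.card_pi]; omega)⟩
  obtain ⟨hsize, hfour⟩ := parts (fun ω => Nat.card (orb A ω)) h2
    (fun ω => haveI : Nonempty (orb A ω) := ⟨⟨_, MulAction.mem_orbit_self _⟩⟩; Nat.card_pos)
    (sum_card_orbit A) hn hn5 (le_antisymm hup (hbig.trans hle))
  have hagree : ∀ a b : A, ∀ ω, a • (Quotient.out ω : α) = b • (Quotient.out ω : α) →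
      ∀ y ∈ orb A ω, a • y = b • y := by
    intro a b ω hab y hy
    obtain ⟨c, rfl⟩ := hy
    show a • c • _ = b • c • _
    rw [← mul_smul, ← mul_smul, IsMulCommutative.is_comm.comm a c, IsMulCommutative.is_comm.comm b c,
      mul_smul, mul_smul, hab]
  have hmaps : ∀ (a : A) ω, ∀ y ∈ orb A ω, a • y ∈ orb A ω := fun a ω y hy => by
    rw [orb, ← MulAction.orbit_eq_iff.mpr hy]
    exact MulAction.mem_orbit _ _
  have hgood : ∀ a ∈ A, ∀ ω, Good (orb A ω) a := by
    intro a ha ω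
    refine ⟨hmaps ⟨a, ha⟩ ω, ?_⟩
    by_cases hfix : (⟨a, ha⟩ : A) • ω.out = ω.out
    · refine Or.inl fun y hy => ?_
      have := hagree ⟨a, ha⟩ 1 ω (by rw [hfix, one_smul]) y hy
      rwa [one_smul] at this
    have hnofix : ∀ y ∈ orb A ω, a y ≠ y := by
      intro y hy hay
      apply hfix
      obtain ⟨c, rfl⟩ := hy
      have h : (⟨a, ha⟩ : A) • c • ω.out = c • ω.out := hay
      rw [← mul_smul, IsMulCommutative.is_comm.comm (⟨a, ha⟩ : A) c, mul_smul] at h
      exact smul_left_cancel c h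
    refine Or.inr ⟨hnofix, fun h4 => ?_⟩
    obtain ⟨b, hb⟩ := hfb.2 (Function.update (fun ω' => ⟨ω'.out, MulAction.mem_orbit_self _⟩) ω
      (f ⟨a, ha⟩ ω))
    have hbω : b • (ω.out : α) = (⟨a, ha⟩ : A) • ω.out := by
      have := congrArg Subtype.val (congrFun hb ω)
      rw [Function.update_self] at this
      exact this
    have hbout : ∀ y, y ∉ orb A ω → (b : Equiv.Perm α) y = y := by
      intro y hy
      have hne : (⟦y⟧ : Quotient (MulAction.orbitRel A α)) ≠ ω := fun h => hy ((mem_orb_iff A y ω).mpr h)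
      have h := congrArg Subtype.val (congrFun hb ⟦y⟧)
      rw [Function.update_of_ne hne] at h
      have := hagree b 1 ⟦y⟧ (by rw [one_smul]; exact h) y (mem_orb_mk A y)
      rwa [one_smul] at this
    have hab : ∀ y ∈ orb A ω, (b : Equiv.Perm α) y = a y := fun y hy => hagree b ⟨a, ha⟩ ω hbω y hy
    let e : orb A ω ≃ Fin 4 := (Finite.equivFin _).trans (finCongr h4)
    set bs := (b : Equiv.Perm α).subtypePerm (p := (· ∈ orb A ω)) (iff_of_mapsTo (hmaps b ω)) with hbs
    have hsign : Equiv.Perm.sign (e.permCongr bs) = 1 := by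
      rw [Equiv.Perm.sign_permCongr, hbs, Equiv.Perm.sign_subtypePerm _ _ fun y hy => by
        by_contra hyO; exact hy (hbout y hyO)]
      exact Equiv.Perm.mem_alternatingGroup.mp (hA b.2)
    have hnofix' : ∀ i, e.permCongr bs i ≠ i := by
      intro i hi
      obtain ⟨⟨y, hy⟩, rfl⟩ := e.surjective i
      rw [Equiv.permCongr_apply, Equiv.symm_apply_apply, e.apply_eq_iff_eq] at hi
      have h := congrArg Subtype.val hi
      rw [hbs, Equiv.Perm.subtypePerm_apply] at h
      exact hnofix y hy ((hab y hy).symm.trans h)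
    intro y hy
    rcases even_four _ hsign with h | ⟨i, hi⟩ | h
    · exact absurd (h (e ⟨y, hy⟩)) (hnofix' _)
    · exact absurd hi (hnofix' i)
    · have hyy := h (e ⟨y, hy⟩)
      simp only [Equiv.permCongr_apply, Equiv.symm_apply_apply, e.apply_eq_iff_eq] at hyy
      have h' := congrArg Subtype.val hyy
      simp only [hbs, Equiv.Perm.subtypePerm_apply] at h'
      rwa [hab y hy, hab (a y) (hmaps ⟨a, ha⟩ ω y hy)] at h'
  refine ⟨hsize, ?_, hgood, fun σ hσ => ?_⟩
  · rwa [Nat.card_eq_fintype_card, Fintype.card_subtype]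
  · obtain ⟨a, ha⟩ := hfb.2 fun ω => ⟨σ ω.out, (hσ ω).1 _ (MulAction.mem_orbit_self _)⟩
    have : σ = (a : Equiv.Perm α) := Equiv.ext fun y => by
      refine good_eq (hsize _) (hσ ⟦y⟧) (hgood a a.2 ⟦y⟧) (MulAction.mem_orbit_self _) ?_ y (mem_orb_mk A y)
      exact (congrArg Subtype.val (congrFun ha ⟦y⟧)).symm
    rw [this]
    exact a.2

theorem exists_abelian_ge (n : ℕ) (hn : 3 ≤ n) :
    ∃ C : Subgroup (alternatingGroup (Fin n)), IsMulCommutative C ∧ maxProd' n ≤ Nat.card C := by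
  classical
  haveI : Nontrivial (Fin n) := Fin.nontrivial_iff_two_le.mpr (by omega)
  have hcard : Nat.card (alternatingGroup (Fin n)) = n.factorial / 2 := by
    rw [nat_card_alternatingGroup, Nat.card_fin]
  rcases lt_or_ge n 6 with hn6 | hn6
  · interval_cases n
    · haveI : Fact (Nat.Prime 3) := ⟨Nat.prime_three⟩
      obtain ⟨S⟩ : Nonempty (Sylow 3 (alternatingGroup (Fin 3))) := inferInstance
      have h : Nat.card S = 3 := by
        rw [Sylow.card_eq_multiplicity, hcard, show Nat.factorial 3 / 2 = 3 ^ 1 by rfl,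
          Nat.Prime.factorization_pow Nat.prime_three, Finsupp.single_eq_same]; rfl
      haveI := isCyclic_of_prime_card h
      exact ⟨S, IsCyclic.isMulCommutative, le_of_eq h.symm⟩
    · haveI : Fact (Nat.Prime 2) := ⟨Nat.prime_two⟩
      obtain ⟨S⟩ : Nonempty (Sylow 2 (alternatingGroup (Fin 4))) := inferInstance
      have h : Nat.card S = 2 ^ 2 := by
        rw [Sylow.card_eq_multiplicity, hcard, show Nat.factorial 4 / 2 = 2 ^ 2 * 3 by rfl,
          Nat.factorization_mul (by norm_num) (by norm_num), Finsupp.add_apply,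
          Nat.Prime.factorization_pow Nat.prime_two, Finsupp.single_eq_same,
          Nat.factorization_eq_zero_of_not_dvd (by norm_num : ¬ 2 ∣ 3)]
      exact ⟨S, ⟨⟨IsPGroup.commutative_of_card_eq_prime_sq h⟩⟩, le_of_eq h.symm⟩
    · haveI : Fact (Nat.Prime 5) := ⟨Nat.prime_five⟩
      obtain ⟨S⟩ : Nonempty (Sylow 5 (alternatingGroup (Fin 5))) := inferInstance
      have h : Nat.card S = 5 := by
        rw [Sylow.card_eq_multiplicity, hcard, show Nat.factorial 5 / 2 = 5 ^ 1 * 12 by rfl,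
          Nat.factorization_mul (by norm_num) (by norm_num), Finsupp.add_apply,
          Nat.Prime.factorization_pow Nat.prime_five, Finsupp.single_eq_same,
          Nat.factorization_eq_zero_of_not_dvd (by norm_num : ¬ 5 ∣ 12)]
        rfl
      haveI := isCyclic_of_prime_card h
      exact ⟨S, IsCyclic.isMulCommutative, le_of_eq h.symm⟩
  obtain ⟨k, hk⟩ : ∃ k, n = 3 * k ∨ n = 3 * k + 1 ∨ n = 3 * k + 2 := ⟨n / 3, by omega⟩
  obtain ⟨⟨⟨C0, hC0, hc0⟩, -⟩, ⟨⟨C1, hC1, hc1⟩, -⟩, ⟨C2, hC2, hc2⟩, -⟩ :=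
    S2504.result k (by omega)
  obtain ⟨j, rfl⟩ : ∃ j, k = j + 2 := ⟨k - 2, by omega⟩
  rcases hk with rfl | rfl | rfl
  · refine ⟨C0, hC0, le_of_eq ?_⟩
    rw [hc0, show 3 * (j + 2) = 3 * j + 6 by ring, (maxProd'_forms j).1]
  · refine ⟨C1, hC1, le_of_eq ?_⟩
    rw [hc1, show 3 * (j + 2) + 1 = 3 * j + 7 by ring, (maxProd'_forms j).2]
    rfl
  · refine ⟨C2, hC2, le_of_eq ?_⟩
    rw [hc2, show 3 * (j + 2) + 2 = 3 * j + 8 by ring, maxProd'_three_mul_add_eight]
    rfl

theorem Shape.card_fiber {A : Subgroup (Equiv.Perm α)} (hA : Shape A) :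
    Nat.card {ω // Nat.card (orb A ω) = 4} = Fintype.card α % 3 ∧
      3 * Nat.card {ω // Nat.card (orb A ω) = 3} + 4 * Nat.card {ω // Nat.card (orb A ω) = 4} =
        Fintype.card α := by
  classical
  have hs := sum_card_orbit A
  have e : 3 * Nat.card {ω // Nat.card (orb A ω) = 3} + 4 * Nat.card {ω // Nat.card (orb A ω) = 4} =
      Fintype.card α := by
    rw [Nat.card_eq_fintype_card, Nat.card_eq_fintype_card, Fintype.card_subtype, Fintype.card_subtype,
      ← hs]
    show _ = ∑ ω, Nat.card (orb A ω)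
    rw [← Finset.sum_filter_add_sum_filter_not Finset.univ (fun ω => Nat.card (orb A ω) = 3)
      (fun ω => Nat.card (orb A ω))]
    rw [Finset.sum_congr rfl (g := fun _ => 3) (fun ω hω => (Finset.mem_filter.mp hω).2),
      Finset.sum_congr rfl (g := fun _ => 4) (fun ω hω =>
        (hA.size ω).resolve_left (Finset.mem_filter.mp hω).2),
      Finset.sum_const, Finset.sum_const, smul_eq_mul, smul_eq_mul, mul_comm 3, mul_comm 4]
    congr 3
    ext ω
    simp only [Finset.mem_filter, Finset.mem_univ, true_and]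
    exact ⟨fun h => by omega, fun h => (hA.size ω).resolve_left h⟩
  refine ⟨?_, e⟩
  have := hA.four
  omega

theorem Shape.exists_conj [DecidableEq α] {A B : Subgroup (Equiv.Perm α)} (hA : Shape A)
    (hB : Shape B) (hne : 0 < Fintype.card α) :
    ∃ g : Equiv.Perm α, g ∈ alternatingGroup α ∧ ∀ a ∈ A, g * a * g⁻¹ ∈ B := by
  classical
  obtain ⟨hA4, hAs⟩ := hA.card_fiber
  obtain ⟨hB4, hBs⟩ := hB.card_fiber
  have hfib : ∀ m, Fintype.card {ω // Nat.card (orb A ω) = m} =
      Fintype.card {ω // Nat.card (orb B ω) = m} := by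
    intro m
    rw [← Nat.card_eq_fintype_card, ← Nat.card_eq_fintype_card]
    by_cases h4 : m = 4
    · subst h4; omega
    by_cases h3 : m = 3
    · subst h3; omega
    haveI : IsEmpty {ω // Nat.card (orb A ω) = m} := ⟨fun ω => by
      rcases hA.size ω.1 with h | h <;> have := ω.2 <;> omega⟩
    haveI : IsEmpty {ω // Nat.card (orb B ω) = m} := ⟨fun ω => by
      rcases hB.size ω.1 with h | h <;> have := ω.2 <;> omega⟩
    rw [Nat.card_of_isEmpty, Nat.card_of_isEmpty]
  let e := Equiv.ofFiberEquiv (f := fun ω => Nat.card (orb A ω)) (g := fun ω => Nat.card (orb B ω))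
    fun m => Fintype.equivOfCardEq (hfib m)
  have he : ∀ ω, Nat.card (orb B (e ω)) = Nat.card (orb A ω) := fun ω =>
    Equiv.ofFiberEquiv_map (f := fun ω => Nat.card (orb A ω)) (g := fun ω => Nat.card (orb B ω))
      (fun m => Fintype.equivOfCardEq (hfib m)) ω
  let ee : ∀ ω, orb A ω ≃ orb B (e ω) := fun ω =>
    Fintype.equivOfCardEq (by rw [← Nat.card_eq_fintype_card, ← Nat.card_eq_fintype_card, he])
  let σf : α → α := fun y => ee ⟦y⟧ ⟨y, mem_orb_mk A y⟩
  have hσmem : ∀ ω y (hy : y ∈ orb A ω), σf y = ee ω ⟨y, hy⟩ := by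
    intro ω y hy
    obtain rfl := (mem_orb_iff A y ω).mp hy
    rfl
  have hσinj : Function.Injective σf := by
    intro y z h
    have hy : (⟦σf y⟧ : Quotient (MulAction.orbitRel B α)) = e ⟦y⟧ :=
      (mem_orb_iff B _ _).mp (ee ⟦y⟧ ⟨y, mem_orb_mk A y⟩).2
    have hz : (⟦σf z⟧ : Quotient (MulAction.orbitRel B α)) = e ⟦z⟧ :=
      (mem_orb_iff B _ _).mp (ee ⟦z⟧ ⟨z, mem_orb_mk A z⟩).2
    rw [h, hz] at hy
    have hq := e.injective hy
    have hy' : y ∈ orb A ⟦z⟧ := (mem_orb_iff A y _).mpr hq.symm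
    rw [hσmem _ y hy', hσmem _ z (mem_orb_mk A z)] at h
    exact congrArg Subtype.val ((ee ⟦z⟧).injective (Subtype.ext h))
  let σ : Equiv.Perm α := Equiv.ofBijective σf (Finite.injective_iff_bijective.mp hσinj)
  -- correct the parity inside one orbit
  obtain ⟨y₀⟩ : Nonempty α := Fintype.card_pos_iff.mp hne
  obtain ⟨y₁, hy₁, hne₁⟩ : ∃ y₁ ∈ orb B ⟦y₀⟧, y₁ ≠ y₀ := by
    by_contra hcon
    push Not at hcon
    haveI : Subsingleton (orb B ⟦y₀⟧) := ⟨fun a b =>
      Subtype.ext ((hcon a a.2).trans (hcon b b.2).symm)⟩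
    have := Finite.card_le_one_iff_subsingleton.mpr ‹Subsingleton (orb B ⟦y₀⟧)›
    rcases hB.size ⟦y₀⟧ with h | h <;> omega
  have hswap : ∀ ω y, y ∈ orb B ω → Equiv.swap y₀ y₁ y ∈ orb B ω := by
    intro ω y hy
    rcases eq_or_ne y y₀ with rfl | h0
    · rw [Equiv.swap_apply_left, ← (mem_orb_iff B y ω).mp hy]
      exact hy₁
    rcases eq_or_ne y y₁ with rfl | h1
    · rw [Equiv.swap_apply_right, ← (mem_orb_iff B y ω).mp hy, (mem_orb_iff B y _).mp hy₁]
      exact mem_orb_mk B y₀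
    · rwa [Equiv.swap_apply_of_ne_of_ne h0 h1]
  obtain ⟨g, hg, hmap⟩ : ∃ g : Equiv.Perm α, g ∈ alternatingGroup α ∧
      ∀ ω, ∀ y ∈ orb A ω, g y ∈ orb B (e ω) := by
    have hσ : ∀ ω, ∀ y ∈ orb A ω, σ y ∈ orb B (e ω) := fun ω y hy => by
      rw [show σ y = σf y from rfl, hσmem ω y hy]
      exact (ee ω _).2
    rcases Int.units_eq_one_or (Equiv.Perm.sign σ) with h | h
    · exact ⟨σ, Equiv.Perm.mem_alternatingGroup.mpr h, hσ⟩
    · refine ⟨Equiv.swap y₀ y₁ * σ, Equiv.Perm.mem_alternatingGroup.mpr ?_, fun ω y hy =>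
        hswap _ _ (hσ ω y hy)⟩
      rw [map_mul, Equiv.Perm.sign_swap (Ne.symm hne₁), h]
      decide
  have hginv : ∀ ω y, y ∈ orb B (e ω) → g⁻¹ y ∈ orb A ω := by
    intro ω y hy
    have h := hmap _ _ (mem_orb_mk A (g⁻¹ y))
    rw [Equiv.Perm.coe_inv, Equiv.apply_symm_apply] at h
    have := ((mem_orb_iff B y _).mp h).symm.trans ((mem_orb_iff B y _).mp hy)
    rw [mem_orb_iff]
    exact e.injective this
  refine ⟨g, hg, fun a ha => hB.full _ fun ω' => ?_⟩
  obtain ⟨ω, rfl⟩ := e.surjective ω'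
  obtain ⟨h1, h2⟩ := hA.good a ha ω
  refine ⟨fun y hy => hmap ω _ (h1 _ (hginv ω y hy)), ?_⟩
  rcases h2 with h2 | ⟨h2, h3⟩
  · refine Or.inl fun y hy => ?_
    show g (a (g⁻¹ y)) = y
    rw [h2 _ (hginv ω y hy)]
    simp
  · refine Or.inr ⟨fun y hy h => h2 _ (hginv ω y hy) ?_, fun h4 y hy => ?_⟩
    · have h' : g (a (g⁻¹ y)) = g (g⁻¹ y) := by rw [show g (g⁻¹ y) = y by simp]; exact h
      exact g.injective h'
    · show g (a (g⁻¹ (g (a (g⁻¹ y))))) = y
      rw [show g⁻¹ (g (a (g⁻¹ y))) = a (g⁻¹ y) by simp,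
        h3 ((he ω).symm.trans h4) _ (hginv ω y hy)]
      simp

/-- In the alternating group of any degree, any two abelian subgroups of the largest possible order (among abelian subgroups) are conjugate. -/
theorem result (n : ℕ)
    (A B : Subgroup (alternatingGroup (Fin n))) (hA : IsMulCommutative A) (hB : IsMulCommutative B)
    (hAmax : ∀ C : Subgroup (alternatingGroup (Fin n)), IsMulCommutative C → Nat.card C ≤ Nat.card A)
    (hBmax : ∀ C : Subgroup (alternatingGroup (Fin n)), IsMulCommutative C → Nat.card C ≤ Nat.card B) :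
    ∃ g : alternatingGroup (Fin n), B = MulAut.conj g • A := by
  classical
  rcases lt_or_ge n 3 with hn | hn
  · haveI : Subsingleton (alternatingGroup (Fin n)) := by
      refine ⟨fun a b => ?_⟩
      interval_cases n
      · exact Subtype.ext (Equiv.ext fun i => i.elim0)
      · exact Subtype.ext (Equiv.ext fun i => Subsingleton.elim _ _)
      · revert a b; decide
    exact ⟨1, Subsingleton.elim _ _⟩
  obtain ⟨C, hC, hCn⟩ := exists_abelian_ge n hn
  have hbA := hCn.trans (hAmax C hC)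
  have hbB := hCn.trans (hBmax C hC)
  have hAB : Nat.card A = Nat.card B := le_antisymm (hBmax A hA) (hAmax B hB)
  by_cases hn5 : n = 5
  · subst hn5
    haveI : Fact (Nat.Prime 5) := ⟨Nat.prime_five⟩
    have hcard : Nat.card (alternatingGroup (Fin 5)) = 5 ^ 1 * 12 := by
      rw [nat_card_alternatingGroup, Nat.card_fin]; rfl
    have hval : (Nat.card (alternatingGroup (Fin 5))).factorization 5 = 1 := by
      rw [hcard, Nat.factorization_mul (by norm_num) (by norm_num), Finsupp.add_apply,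
        Nat.Prime.factorization_pow Nat.prime_five, Finsupp.single_eq_same,
        Nat.factorization_eq_zero_of_not_dvd (by norm_num : ¬ 5 ∣ 12)]
    have hup : ∀ D : Subgroup (alternatingGroup (Fin 5)), IsMulCommutative D → Nat.card D ≤ 5 := by
      intro D hD
      haveI := hD
      have hc : IsMulCommutative (D.map (alternatingGroup (Fin 5)).subtype) := Subgroup.map_isMulCommutative _ _
      have h := card_le_of_even _ (Subgroup.map_subtype_le D)
      rw [Fintype.card_fin,
        Nat.card_congr (Subgroup.equivMapOfInjective D _ (alternatingGroup (Fin 5)).subtype_injective).toEquiv.symm] at h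
      exact h.trans_eq rfl
    have hA5 : Nat.card A = 5 ^ (Nat.card (alternatingGroup (Fin 5))).factorization 5 := by
      rw [hval, pow_one]
      exact le_antisymm (hup A hA) hbA
    obtain ⟨g, hg⟩ := MulAction.exists_smul_eq (alternatingGroup (Fin 5)) (Sylow.ofCard A hA5)
      (Sylow.ofCard B (hAB ▸ hA5))
    refine ⟨g, ?_⟩
    have h := congrArg Sylow.toSubgroup hg
    exact h.symm
  have shapes : ∀ D : Subgroup (alternatingGroup (Fin n)), IsMulCommutative D → maxProd' n ≤ Nat.card D →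
      Shape (D.map (alternatingGroup (Fin n)).subtype) := by
    intro D hD hDn
    haveI := hD
    haveI : IsMulCommutative (D.map (alternatingGroup (Fin n)).subtype) := Subgroup.map_isMulCommutative _ _
    refine shape_of_max _ (Subgroup.map_subtype_le D) (by rw [Fintype.card_fin]; exact hn)
      (by rw [Fintype.card_fin]; exact hn5) ?_
    rw [Fintype.card_fin, Nat.card_congr
      (Subgroup.equivMapOfInjective D _ (alternatingGroup (Fin n)).subtype_injective).toEquiv.symm]
    exact hDn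
  obtain ⟨g, hg, hconj⟩ := (shapes A hA hbA).exists_conj (shapes B hB hbB)
    (by rw [Fintype.card_fin]; omega)
  refine ⟨⟨g, hg⟩, (Subgroup.eq_of_le_of_card_ge ?_ ?_).symm⟩
  · rintro _ ⟨a, ha, rfl⟩
    obtain ⟨b, hb, hbe⟩ := hconj _ ⟨a, ha, rfl⟩
    have : MulAut.conj (⟨g, hg⟩ : alternatingGroup (Fin n)) a = b := Subtype.ext hbe.symm
    show MulAut.conj (⟨g, hg⟩ : alternatingGroup (Fin n)) a ∈ B
    rw [this]; exact hb
  · rw [← hAB]
    exact le_of_eq (Nat.card_congr (Subgroup.equivSMul _ A).toEquiv)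

end Cfsg.Agent.S2506
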