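import Cfsg.Statements.S2508
import Cfsg.Agent.Lib.PSLSpec.Index

set_option autoImplicit false
open Cfsg

namespace Cfsg.Agent.S2508

/-- Let F be a finite field with q elements, q odd and q ≥ 7. If q ≡ 1 (mod 4) the conjugacy class sizes of PSL(2,F) are exactly 1, (q² − 1)/2, q(q + 1)/2, q(q − 1) and q(q + 1); if q ≡ 3 (mod 4) they are exactly 1, (q² − 1)/2, q(q − 1)/2, q(q + 1) and q(q − 1). -/
theorem result {F : Type*} [Field F] [Fintype F]
    (hodd : ¬ 2 ∣ Fintype.card F) (h7 : 7 ≤ Fintype.card F) :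
    (Fintype.card F % 4 = 1 →
      Set.range (fun g : (Matrix.ProjectiveSpecialLinearGroup (Fin 2) F) => (Subgroup.centralizer ({g} : Set (Matrix.ProjectiveSpecialLinearGroup (Fin 2) F))).index) =
        {1, (Fintype.card F ^ 2 - 1) / 2, Fintype.card F * (Fintype.card F + 1) / 2,
          Fintype.card F * (Fintype.card F - 1), Fintype.card F * (Fintype.card F + 1)}) ∧
    (Fintype.card F % 4 = 3 →
      Set.range (fun g : (Matrix.ProjectiveSpecialLinearGroup (Fin 2) F) => (Subgroup.centralizer ({g} : Set (Matrix.ProjectiveSpecialLinearGroup (Fin 2) F))).index) =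
        {1, (Fintype.card F ^ 2 - 1) / 2, Fintype.card F * (Fintype.card F - 1) / 2,
          Fintype.card F * (Fintype.card F + 1), Fintype.card F * (Fintype.card F - 1)}) := by
  classical
  obtain ⟨m, hm⟩ : ∃ m, Fintype.card F = 2 * m + 1 := ⟨Fintype.card F / 2, by omega⟩
  have h20 : (2 : F) ≠ 0 := by
    intro h
    haveI : CharP F (ringChar F) := ringChar.charP F
    have h' : ringChar F ∣ 2 := (ringChar.spec F 2).mp (by exact_mod_cast h)
    have hp : (ringChar F).Prime := CharP.char_is_prime F _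
    have := FiniteField.even_card_iff_char_two.mp ((Nat.prime_dvd_prime_iff_eq hp Nat.prime_two).mp h')
    omega
  have hsq : Fintype.card F ^ 2 - 1 = 2 * (2 * m * (m + 1)) := by
    rw [hm, show (2 * m + 1) ^ 2 = 2 * (2 * m * (m + 1)) + 1 by ring, Nat.add_sub_cancel]
  have e1 : Fintype.card F - 1 = 2 * m := by omega
  have e2 : Fintype.card F + 1 = 2 * (m + 1) := by omega
  have d1 : (Fintype.card F ^ 2 - 1) / 2 = 2 * m * (m + 1) := by rw [hsq, Nat.mul_div_cancel_left _ (by norm_num : 0 < 2)]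
  have d2 : Fintype.card F * (Fintype.card F + 1) / 2 = Fintype.card F * (m + 1) := by
    rw [e2, ← mul_assoc, mul_comm _ 2, mul_assoc, Nat.mul_div_cancel_left _ (by norm_num : 0 < 2)]
  have d3 : Fintype.card F * (Fintype.card F - 1) / 2 = Fintype.card F * m := by
    rw [e1, ← mul_assoc, mul_comm _ 2, mul_assoc, Nat.mul_div_cancel_left _ (by norm_num : 0 < 2)]
  have keyA : ∀ (X : Matrix.SpecialLinearGroup (Fin 2) F) (c n : ℕ), Lib.SL2Trace.tr X ≠ 0 →
      Nat.card (Lib.Geometry.Dickson.cell ⊤ X) = c → 0 < c →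
      c * n = Fintype.card F * (Fintype.card F ^ 2 - 1) →
      (Subgroup.centralizer ({Lib.SL2Trace.toPSL X} : Set (Matrix.ProjectiveSpecialLinearGroup (Fin 2) F))).index = n := by
    intro X c n h0 hc hpos hn
    rw [Lib.PSLSpec.index_centralizer_of_tr (Or.inl h0)]
    exact Nat.eq_of_mul_eq_mul_left hpos (by rw [← hc, Lib.PSLSpec.card_mul_index_cell, hc, hn])
  have keyB : ∀ (X : Matrix.SpecialLinearGroup (Fin 2) F) (c n : ℕ), Lib.SL2Trace.tr X = 0 →
      Nat.card (Lib.Geometry.Dickson.cell ⊤ X) = c → 0 < c →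
      2 * c * n = Fintype.card F * (Fintype.card F ^ 2 - 1) →
      (Subgroup.centralizer ({Lib.SL2Trace.toPSL X} : Set (Matrix.ProjectiveSpecialLinearGroup (Fin 2) F))).index = n := by
    intro X c n h0 hc hpos hn
    refine Nat.eq_of_mul_eq_mul_left (show 0 < 2 * c by omega) ?_
    rw [hn, mul_comm 2 c, mul_assoc, ← Lib.PSLSpec.index_centralizer_tr_zero h20 h0, ← hc,
      Lib.PSLSpec.card_mul_index_cell]
  have ht4 : ∀ X : Matrix.SpecialLinearGroup (Fin 2) F, Lib.SL2Trace.tr X = 0 → Lib.SL2Trace.tr X ^ 2 ≠ 4 := fun X h => by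
    rw [h, show (4 : F) = 2 * 2 by norm_num, sq, mul_zero]
    exact (mul_ne_zero h20 h20).symm
  have ku : ∀ X : Matrix.SpecialLinearGroup (Fin 2) F, X ∉ Subgroup.center _ → Lib.SL2Trace.tr X ^ 2 = 4 →
      (Subgroup.centralizer ({Lib.SL2Trace.toPSL X} : Set (Matrix.ProjectiveSpecialLinearGroup (Fin 2) F))).index =
        (Fintype.card F ^ 2 - 1) / 2 := fun X hX ht =>
    keyA X _ _ (fun h => ht4 X h ht) (by rw [Lib.PSLSpec.card_cell_unipotent hX ht, Lib.PSLSpec.card_sqrt_one_odd h20])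
      (by omega) (by rw [d1, hsq]; ring)
  have ks : ∀ X : Matrix.SpecialLinearGroup (Fin 2) F, Lib.SL2Trace.tr X ≠ 0 → Nat.card (Lib.Geometry.Dickson.cell ⊤ X) = Fintype.card F - 1 →
      (Subgroup.centralizer ({Lib.SL2Trace.toPSL X} : Set (Matrix.ProjectiveSpecialLinearGroup (Fin 2) F))).index =
        Fintype.card F * (Fintype.card F + 1) := fun X h0 hc =>
    keyA X _ _ h0 hc (by omega) (by rw [e1, e2, hsq]; ring)
  have kn : ∀ X : Matrix.SpecialLinearGroup (Fin 2) F, Lib.SL2Trace.tr X ≠ 0 → Nat.card (Lib.Geometry.Dickson.cell ⊤ X) = Fintype.card F + 1 →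
      (Subgroup.centralizer ({Lib.SL2Trace.toPSL X} : Set (Matrix.ProjectiveSpecialLinearGroup (Fin 2) F))).index =
        Fintype.card F * (Fintype.card F - 1) := fun X h0 hc =>
    keyA X _ _ h0 hc (by omega) (by rw [e1, e2, hsq]; ring)
  have ks0 : ∀ X : Matrix.SpecialLinearGroup (Fin 2) F, Lib.SL2Trace.tr X = 0 → Nat.card (Lib.Geometry.Dickson.cell ⊤ X) = Fintype.card F - 1 →
      (Subgroup.centralizer ({Lib.SL2Trace.toPSL X} : Set (Matrix.ProjectiveSpecialLinearGroup (Fin 2) F))).index =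
        Fintype.card F * (Fintype.card F + 1) / 2 := fun X h0 hc =>
    keyB X _ _ h0 hc (by omega) (by rw [d2, e1, hsq]; ring)
  have kn0 : ∀ X : Matrix.SpecialLinearGroup (Fin 2) F, Lib.SL2Trace.tr X = 0 → Nat.card (Lib.Geometry.Dickson.cell ⊤ X) = Fintype.card F + 1 →
      (Subgroup.centralizer ({Lib.SL2Trace.toPSL X} : Set (Matrix.ProjectiveSpecialLinearGroup (Fin 2) F))).index =
        Fintype.card F * (Fintype.card F - 1) / 2 := fun X h0 hc =>
    keyB X _ _ h0 hc (by omega) (by rw [d3, e2, hsq]; ring)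
  have hsplit0 : ∀ X : Matrix.SpecialLinearGroup (Fin 2) F, Lib.SL2Trace.tr X = 0 →
      (Lib.Geometry.Dickson.IsSplit X ↔ Fintype.card F % 4 ≠ 3) := fun X h => by
    rw [← FiniteField.isSquare_neg_one_iff (F := F)]
    constructor
    · rintro ⟨r, hr⟩
      exact ⟨r, by rw [h] at hr; linear_combination -hr⟩
    · rintro ⟨r, hr⟩
      exact ⟨r, by rw [h]; linear_combination -hr⟩
  have hone : ∃ g : Matrix.ProjectiveSpecialLinearGroup (Fin 2) F,
      (Subgroup.centralizer ({g} : Set (Matrix.ProjectiveSpecialLinearGroup (Fin 2) F))).index = 1 :=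
    ⟨1, Subgroup.index_eq_one.mpr (Subgroup.eq_top_iff' _ |>.mpr fun h =>
      Subgroup.mem_centralizer_singleton_iff.mpr (by simp))⟩
  have huni : ∃ g : Matrix.ProjectiveSpecialLinearGroup (Fin 2) F,
      (Subgroup.centralizer ({g} : Set (Matrix.ProjectiveSpecialLinearGroup (Fin 2) F))).index = (Fintype.card F ^ 2 - 1) / 2 :=
    ⟨_, ku _ (Lib.Geometry.Dickson.upper_notMem_center one_ne_zero) (by rw [Lib.Geometry.Dickson.tr_upper]; norm_num)⟩
  have hs1 : ∃ g : Matrix.ProjectiveSpecialLinearGroup (Fin 2) F,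
      (Subgroup.centralizer ({g} : Set (Matrix.ProjectiveSpecialLinearGroup (Fin 2) F))).index = Fintype.card F * (Fintype.card F + 1) := by
    obtain ⟨y, hs, ht, hy⟩ := Lib.Geometry.Dickson.exists_split (F := F) (by omega)
    have hc := Lib.Geometry.Dickson.card_cell_split hy ht hs
    obtain ⟨x, hx0, hx⟩ := Lib.PSLSpec.exists_tr_ne_zero hy ht (by omega)
    exact ⟨_, ks x hx0 (hx.trans hc)⟩
  have hn1 : ∃ g : Matrix.ProjectiveSpecialLinearGroup (Fin 2) F,
      (Subgroup.centralizer ({g} : Set (Matrix.ProjectiveSpecialLinearGroup (Fin 2) F))).index = Fintype.card F * (Fintype.card F - 1) := by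
    obtain ⟨y, hs, ht, hy⟩ := Lib.Geometry.Dickson.exists_nonsplit (F := F)
    have hc := Lib.Geometry.Dickson.card_cell_nonsplit hy ht hs
    obtain ⟨x, hx0, hx⟩ := Lib.PSLSpec.exists_tr_ne_zero hy ht (by omega)
    exact ⟨_, kn x hx0 (hx.trans hc)⟩
  have hall : ∀ g : Matrix.ProjectiveSpecialLinearGroup (Fin 2) F,
      (Subgroup.centralizer ({g} : Set (Matrix.ProjectiveSpecialLinearGroup (Fin 2) F))).index ∈
        ({1, (Fintype.card F ^ 2 - 1) / 2, (if Fintype.card F % 4 ≠ 3 then Fintype.card F * (Fintype.card F + 1) / 2 else Fintype.card F * (Fintype.card F - 1) / 2),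
          Fintype.card F * (Fintype.card F - 1), Fintype.card F * (Fintype.card F + 1)} : Set ℕ) := by
    intro g
    simp only [Set.mem_insert_iff, Set.mem_singleton_iff]
    obtain ⟨X, rfl⟩ := Lib.SL2Trace.toPSL_surjective g
    by_cases hX : X ∈ Subgroup.center (Matrix.SpecialLinearGroup (Fin 2) F)
    · left
      rw [Lib.SL2Trace.toPSL_eq_one.mpr (Lib.SL2Trace.mem_center_iff.mp hX), Subgroup.index_eq_one]
      exact Subgroup.eq_top_iff' _ |>.mpr fun h => Subgroup.mem_centralizer_singleton_iff.mpr (by simp)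
    by_cases ht : Lib.SL2Trace.tr X ^ 2 = 4
    · exact Or.inr (Or.inl (ku X hX ht))
    rcases Lib.PSLSpec.card_cell_regular ht with ⟨hs, hc⟩ | ⟨hs, hc⟩ <;> by_cases h0 : Lib.SL2Trace.tr X = 0
    · rw [if_pos ((hsplit0 X h0).mp hs)]; exact Or.inr (Or.inr (Or.inl (ks0 X h0 hc)))
    · exact Or.inr (Or.inr (Or.inr (Or.inr (ks X h0 hc))))
    · rw [if_neg (fun h => hs ((hsplit0 X h0).mpr h))]; exact Or.inr (Or.inr (Or.inl (kn0 X h0 hc)))
    · exact Or.inr (Or.inr (Or.inr (Or.inl (kn X h0 hc))))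
  have hmid : ∃ g : Matrix.ProjectiveSpecialLinearGroup (Fin 2) F,
      (Subgroup.centralizer ({g} : Set (Matrix.ProjectiveSpecialLinearGroup (Fin 2) F))).index =
        (if Fintype.card F % 4 ≠ 3 then Fintype.card F * (Fintype.card F + 1) / 2 else Fintype.card F * (Fintype.card F - 1) / 2) := by
    have h0 := Lib.SL2Trace.tr_comp (0 : F)
    refine ⟨Lib.SL2Trace.toPSL (Lib.SL2Trace.comp 0), ?_⟩
    rcases Lib.PSLSpec.card_cell_regular (ht4 _ h0) with ⟨hs, hc⟩ | ⟨hs, hc⟩
    · rw [if_pos ((hsplit0 _ h0).mp hs)]; exact ks0 _ h0 hc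
    · rw [if_neg (fun h => hs ((hsplit0 _ h0).mpr h))]; exact kn0 _ h0 hc
  constructor
  · intro h1
    rw [if_pos (by omega)] at hmid
    simp only [if_pos (show Fintype.card F % 4 ≠ 3 by omega)] at hall
    refine Set.Subset.antisymm ?_ ?_
    · rintro _ ⟨g, rfl⟩; exact hall g
    · rintro n (rfl | rfl | rfl | rfl | rfl)
      exacts [hone, huni, hmid, hn1, hs1]
  · intro h3
    rw [if_neg (by omega)] at hmid
    simp only [if_neg (show ¬ Fintype.card F % 4 ≠ 3 by omega)] at hall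
    refine Set.Subset.antisymm ?_ ?_
    · rintro _ ⟨g, rfl⟩
      have := hall g
      simp only [Set.mem_insert_iff, Set.mem_singleton_iff] at this ⊢
      tauto
    · rintro n (rfl | rfl | rfl | rfl | rfl)
      exacts [hone, huni, hmid, hs1, hn1]

end Cfsg.Agent.S2508
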