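import Cfsg.Statements.S2510
import Cfsg.Agent.Lib.Similar.Torus

set_option autoImplicit false
open Cfsg

namespace Cfsg.Agent.S2510

open Polynomial Cfsg.Agent.Lib.Similar

/-- Let F be a finite field with q = p^a elements, n ≥ 2 (with q ≥ 4 when n = 2), L = PSL(n, F), and let r be a prime dividing q − 1 and not dividing n. Then for every m the direct product L × L × L × (ℤ/r)^m has the same set of element orders as L × L × L; and if n − 1 ≠ p^j for every j ≥ 0 (so never when n = 2, since 1 = p^0), then already L × L × (ℤ/r)^m has the same set of element orders as L × L. -/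
theorem result {F : Type*} [Field F] [Fintype F] (p a n r m : ℕ) (hp : p.Prime) (ha : 1 ≤ a) (hF : Fintype.card F = p ^ a)
    (hn : 2 ≤ n) (hn2 : n = 2 → 4 ≤ Fintype.card F) (hr : r.Prime) (hrq : r ∣ Fintype.card F - 1) (hrn : ¬ r ∣ n) :
    Set.range (orderOf : Matrix.ProjectiveSpecialLinearGroup (Fin n) F × Matrix.ProjectiveSpecialLinearGroup (Fin n) F × Matrix.ProjectiveSpecialLinearGroup (Fin n) F × Multiplicative (Fin m → ZMod r) → ℕ) =
      Set.range (orderOf : Matrix.ProjectiveSpecialLinearGroup (Fin n) F × Matrix.ProjectiveSpecialLinearGroup (Fin n) F × Matrix.ProjectiveSpecialLinearGroup (Fin n) F → ℕ) ∧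
    ((¬ ∃ j : ℕ, n - 1 = p ^ j) →
      Set.range (orderOf : Matrix.ProjectiveSpecialLinearGroup (Fin n) F × Matrix.ProjectiveSpecialLinearGroup (Fin n) F × Multiplicative (Fin m → ZMod r) → ℕ) =
        Set.range (orderOf : Matrix.ProjectiveSpecialLinearGroup (Fin n) F × Matrix.ProjectiveSpecialLinearGroup (Fin n) F → ℕ)) := by
  classical
  have : Fact p.Prime := ⟨hp⟩
  have : CharP F p := charP_of_card_eq_prime_pow hF
  have : Fact r.Prime := ⟨hr⟩
  have hrp : r ≠ p := by
    rintro rfl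
    have h1 : r ∣ Fintype.card F := by rw [hF]; exact dvd_pow_self r (by omega)
    have h2 : 1 ≤ Fintype.card F := Fintype.card_pos
    have := Nat.dvd_sub h1 hrq
    rw [show Fintype.card F - (Fintype.card F - 1) = 1 by omega] at this
    exact hp.ne_one (Nat.dvd_one.1 this)
  set L := Matrix.ProjectiveSpecialLinearGroup (Fin n) F
  set A := Nat.clog p n with hA
  obtain ⟨z, hzcop, hz⟩ := exists_singer (F := F) (p := p) (n := n) (by omega)
  -- unipotent elements
  have hX1 : (X - 1 : F[X]) = X - C 1 := by simp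
  have hirr : Irreducible (X - 1 : F[X]) := by rw [hX1]; exact irreducible_X_sub_C 1
  have hmon : (X - 1 : F[X]).Monic := by rw [hX1]; exact monic_X_sub_C 1
  have hdeg : (X - 1 : F[X]).natDegree = 1 := by rw [hX1]; exact natDegree_X_sub_C 1
  have huni : ∀ m : Multiset ℕ, (∀ e ∈ m, 1 ≤ e) → m.sum = n →
      ∃ g : Matrix.SpecialLinearGroup (Fin n) F,
        matInv (g : Matrix (Fin n) (Fin n) F) = m.map (fun e => ((X - 1 : F[X]), e)) ∧
        (∀ e ∈ m, p ^ Nat.clog p e ∣ orderOf (QuotientGroup.mk g : L)) := by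
    intro m hm1 hm
    obtain ⟨x, hx⟩ := exists_gl_matInv (n := Fin n) (m.map fun e => ((X - 1 : F[X]), e))
      (by
        intro y hy
        obtain ⟨e, he, rfl⟩ := Multiset.mem_map.1 hy
        exact ⟨hmon, hirr, by simp [coeff_one], hm1 e he⟩)
      (by simp [Multiset.map_map, Function.comp_def, hdeg, hm])
    have hc : (x : Matrix (Fin n) (Fin n) F).charpoly = (X - 1) ^ n := by
      rw [charpoly_eq_matInv, hx, Multiset.map_map, ← hm]
      simp only [Function.comp_def]
      clear hx hm hm1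
      induction m using Multiset.induction_on with
      | empty => simp
      | cons e m ih => rw [Multiset.map_cons, Multiset.prod_cons, Multiset.sum_cons, ih, pow_add]
    have hdet : (x : Matrix (Fin n) (Fin n) F).det = 1 := by
      rw [Matrix.det_eq_sign_charpoly_coeff, hc, Fintype.card_fin, coeff_zero_eq_eval_zero, eval_pow]
      simp [← mul_pow]
    let g : Matrix.SpecialLinearGroup (Fin n) F := ⟨x, hdet⟩
    refine ⟨g, hx, fun e he => ?_⟩
    have hP : (x : Matrix (Fin n) (Fin n) F) ^ p ^ A = 1 := by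
      rw [← Units.val_pow_eq_pow_val, (pow_eq_one_iff_matInv x (p ^ A)).2, Units.val_one]
      rw [hx]
      intro y hy
      obtain ⟨e', he', rfl⟩ := Multiset.mem_map.1 hy
      rw [show (X : F[X]) ^ p ^ A - 1 = (X - 1) ^ p ^ A by rw [sub_pow_char_pow, one_pow]]
      exact pow_dvd_pow _ ((Multiset.le_sum_of_mem he').trans (hm.le.trans (Nat.le_pow_clog hp.one_lt n)))
    have hgP : (QuotientGroup.mk g : L) ^ p ^ A = 1 := by
      rw [mk_pow_eq_one_iff]; exact ⟨1, by rw [map_one]; exact hP⟩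
    obtain ⟨j, hj, hjo⟩ := (Nat.dvd_prime_pow hp).1 (orderOf_dvd_of_pow_eq_one hgP)
    obtain ⟨c, hc'⟩ := (mk_pow_eq_one_iff g _).1 (pow_orderOf_eq_one (QuotientGroup.mk g : L))
    have hc1 : c = 1 := by
      have h1 : (Matrix.scalar (Fin n) c) ^ p ^ A = (1 : Matrix (Fin n) (Fin n) F) := by
        rw [← hc', ← pow_mul, mul_comm, pow_mul]
        show ((x : Matrix (Fin n) (Fin n) F) ^ p ^ A) ^ _ = 1
        rw [hP, one_pow]
      rw [← map_pow] at h1
      have h2 : c ^ p ^ A = 1 := by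
        have h := congrFun (congrFun h1 ⟨0, by omega⟩) ⟨0, by omega⟩
        simpa using h
      apply iterateFrobenius_inj F p A
      show c ^ p ^ A = 1 ^ p ^ A
      rw [h2, one_pow]
    rw [hc1, map_one] at hc'
    have h1 : x ^ orderOf (QuotientGroup.mk g : L) = 1 := Units.ext (by
      rw [Units.val_pow_eq_pow_val, Units.val_one]; exact hc')
    have h2 := (pow_eq_one_iff_matInv x _).1 h1 ((X - 1 : F[X]), e) (by
      rw [hx]; exact Multiset.mem_map_of_mem _ he)
    rw [hjo, show (X : F[X]) ^ p ^ j - 1 = (X - 1) ^ p ^ j by rw [sub_pow_char_pow, one_pow]] at h2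
    rw [hjo]
    exact pow_dvd_pow _ (Nat.clog_le_of_le_pow ((pow_dvd_pow_iff hirr.ne_zero hirr.not_isUnit).1 h2))
  obtain ⟨u, -, hu⟩ := huni {n} (by simp; omega) (by simp)
  obtain ⟨u', hu'm, hu'⟩ := huni {n - 1, 1} (by simp; omega) (by simp; omega)
  -- a torus element commuting with `u'`
  obtain ⟨D⟩ := nonempty_decomp (toEnd (u' : Matrix (Fin n) (Fin n) F))
  have hD : D.inv.card = 2 := by rw [← matInv_eq _ D, hu'm]; simp
  have hDcard : Fintype.card D.ι = 2 := by
    rw [← hD, Decomp.inv, Multiset.card_map]; rfl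
  obtain ⟨i0, i1, h01⟩ := Fintype.exists_pair_of_one_lt_card (α := D.ι) (by omega)
  obtain ⟨t, htc, hto⟩ := exists_commute_torus hr hrq hrn u' D (fun i => i = i0) ⟨i0, rfl⟩ ⟨i1, h01.symm⟩
  -- the dichotomy
  have hdi : ∀ x : L, (∃ x' : L, Nat.lcm (orderOf x) r ∣ orderOf x') ∨
      orderOf x ∣ p ^ A * orderOf (QuotientGroup.mk z : L) := by
    intro x
    induction x using QuotientGroup.induction_on with
    | _ g =>
    by_cases hall : ∃ f, ∀ y ∈ matInv (g : Matrix (Fin n) (Fin n) F), y.1 = f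
    · obtain ⟨f, hf⟩ := hall
      exact Or.inr (hz g f hf)
    · left
      push Not at hall
      by_cases hro : r ∣ orderOf (QuotientGroup.mk g : L)
      · exact ⟨_, Nat.lcm_dvd dvd_rfl hro⟩
      obtain ⟨E⟩ := nonempty_decomp (toEnd (g : Matrix (Fin n) (Fin n) F))
      have hE := matInv_eq (g : Matrix (Fin n) (Fin n) F) E
      obtain ⟨y, hy, -⟩ := hall 0
      rw [hE] at hy
      obtain ⟨i, -, -⟩ := Multiset.mem_map.1 hy
      obtain ⟨y', hy', hne⟩ := hall (E.p i)
      rw [hE] at hy'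
      obtain ⟨j, -, hj⟩ := Multiset.mem_map.1 hy'
      obtain ⟨s, hsc, hso⟩ := exists_commute_torus hr hrq hrn g E (fun k => E.p k = E.p i) ⟨i, rfl⟩
        ⟨j, fun h => hne (by rw [← hj]; exact h)⟩
      refine ⟨QuotientGroup.mk g * QuotientGroup.mk s, ?_⟩
      have hc : Commute (QuotientGroup.mk g : L) (QuotientGroup.mk s) :=
        hsc.map (QuotientGroup.mk' _)
      have hco : (orderOf (QuotientGroup.mk g : L)).Coprime (orderOf (QuotientGroup.mk s : L)) := by
        rw [hso, Nat.coprime_comm, hr.coprime_iff_not_dvd]; exact hro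
      rw [hc.orderOf_mul_eq_mul_orderOf_of_coprime hco, hso]
      exact Nat.lcm_dvd (dvd_mul_right _ _) (dvd_mul_left _ _)
  have hV : ∀ v : Multiplicative (Fin m → ZMod r), orderOf v ∣ r := fun v => by
    apply orderOf_dvd_of_pow_eq_one
    apply Multiplicative.toAdd.injective
    rw [toAdd_pow, toAdd_one]
    funext i
    simp
  have hpow : ∀ {G : Type _} [Group G] [Finite G] (w : G) (k : ℕ), k ∣ orderOf w →
      k ∈ Set.range (orderOf : G → ℕ) := by
    intro G _ _ w k hk
    have hpos := orderOf_pos w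
    refine ⟨w ^ (orderOf w / k), ?_⟩
    rw [orderOf_pow, Nat.gcd_eq_right (Nat.div_dvd_of_dvd hk), Nat.div_div_self hk hpos.ne']
  have hzu : (p ^ A).Coprime (orderOf (QuotientGroup.mk z : L)) := Nat.Coprime.pow_left _ hzcop.symm
  have huA : p ^ A ∣ orderOf (QuotientGroup.mk u : L) := hu n (by simp)
  refine ⟨?_, fun hj => ?_⟩
  · apply Set.Subset.antisymm
    · rintro _ ⟨⟨x1, x2, x3, v⟩, rfl⟩
      obtain ⟨w1, w2, w3, h⟩ : ∃ w1 w2 w3 : L,
          (orderOf x1).lcm ((orderOf x2).lcm ((orderOf x3).lcm r)) ∣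
            (orderOf w1).lcm ((orderOf w2).lcm (orderOf w3)) := by
        rcases hdi x1 with ⟨x', hx'⟩ | h1
        · refine ⟨x', x2, x3, ?_⟩
          refine Nat.lcm_dvd (((Nat.dvd_lcm_left _ _).trans hx').trans (Nat.dvd_lcm_left _ _))
            (Nat.lcm_dvd ((Nat.dvd_lcm_left _ _).trans (Nat.dvd_lcm_right _ _))
              (Nat.lcm_dvd ((Nat.dvd_lcm_right _ _).trans (Nat.dvd_lcm_right _ _))
                (((Nat.dvd_lcm_right _ _).trans hx').trans (Nat.dvd_lcm_left _ _))))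
        rcases hdi x2 with ⟨x', hx'⟩ | h2
        · refine ⟨x1, x', x3, ?_⟩
          refine Nat.lcm_dvd (Nat.dvd_lcm_left _ _)
            (Nat.lcm_dvd (((Nat.dvd_lcm_left _ _).trans hx').trans ((Nat.dvd_lcm_left _ _).trans (Nat.dvd_lcm_right _ _)))
              (Nat.lcm_dvd ((Nat.dvd_lcm_right _ _).trans (Nat.dvd_lcm_right _ _))
                (((Nat.dvd_lcm_right _ _).trans hx').trans ((Nat.dvd_lcm_left _ _).trans (Nat.dvd_lcm_right _ _)))))
        rcases hdi x3 with ⟨x', hx'⟩ | h3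
        · refine ⟨x1, x2, x', ?_⟩
          refine Nat.lcm_dvd (Nat.dvd_lcm_left _ _)
            (Nat.lcm_dvd ((Nat.dvd_lcm_left _ _).trans (Nat.dvd_lcm_right _ _))
              ((hx'.trans (Nat.dvd_lcm_right _ _)).trans (Nat.dvd_lcm_right _ _)))
        refine ⟨QuotientGroup.mk u, QuotientGroup.mk z, QuotientGroup.mk t, ?_⟩
        have hPS : p ^ A * orderOf (QuotientGroup.mk z : L) ∣
            (orderOf (QuotientGroup.mk u : L)).lcm ((orderOf (QuotientGroup.mk z : L)).lcm (orderOf (QuotientGroup.mk t : L))) :=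
          hzu.mul_dvd_of_dvd_of_dvd (huA.trans (Nat.dvd_lcm_left _ _))
            ((Nat.dvd_lcm_left _ _).trans (Nat.dvd_lcm_right _ _))
        exact Nat.lcm_dvd (h1.trans hPS) (Nat.lcm_dvd (h2.trans hPS) (Nat.lcm_dvd (h3.trans hPS)
          ((dvd_of_eq hto.symm).trans ((Nat.dvd_lcm_right _ _).trans (Nat.dvd_lcm_right _ _)))))
      refine hpow (w1, w2, w3) _ ?_
      rw [Prod.orderOf_mk, Prod.orderOf_mk, Prod.orderOf_mk, Prod.orderOf_mk, Prod.orderOf_mk]
      refine dvd_trans ?_ h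
      exact Nat.lcm_dvd (Nat.dvd_lcm_left _ _) (Nat.lcm_dvd ((Nat.dvd_lcm_left _ _).trans (Nat.dvd_lcm_right _ _))
        (Nat.lcm_dvd ((Nat.dvd_lcm_left _ _).trans ((Nat.dvd_lcm_right _ _).trans (Nat.dvd_lcm_right _ _)))
          ((hV v).trans ((Nat.dvd_lcm_right _ _).trans ((Nat.dvd_lcm_right _ _).trans (Nat.dvd_lcm_right _ _))))))
    · rintro _ ⟨⟨x1, x2, x3⟩, rfl⟩
      exact ⟨(x1, x2, x3, 1), by simp [Prod.orderOf_mk]⟩
  · have hu'A : p ^ A ∣ orderOf (QuotientGroup.mk u' : L) := by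
      refine (pow_dvd_pow p ?_).trans (hu' (n - 1) (by simp))
      apply Nat.clog_le_of_le_pow
      have h1 : n - 1 ≤ p ^ Nat.clog p (n - 1) := Nat.le_pow_clog hp.one_lt _
      have h2 : n - 1 ≠ p ^ Nat.clog p (n - 1) := fun h => hj ⟨_, h⟩
      omega
    have hwt : p ^ A * r ∣ orderOf ((QuotientGroup.mk u' : L) ^ (orderOf (QuotientGroup.mk u' : L) / p ^ A) * QuotientGroup.mk t) := by
      have hpos := orderOf_pos (QuotientGroup.mk u' : L)
      have ho : orderOf ((QuotientGroup.mk u' : L) ^ (orderOf (QuotientGroup.mk u' : L) / p ^ A)) = p ^ A := by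
        rw [orderOf_pow, Nat.gcd_eq_right (Nat.div_dvd_of_dvd hu'A), Nat.div_div_self hu'A hpos.ne']
      have hc : Commute ((QuotientGroup.mk u' : L) ^ (orderOf (QuotientGroup.mk u' : L) / p ^ A)) (QuotientGroup.mk t) :=
        (htc.map (QuotientGroup.mk' _)).pow_left _
      rw [hc.orderOf_mul_eq_mul_orderOf_of_coprime, ho, hto]
      rw [ho, hto]
      exact Nat.Coprime.pow_left _ ((Nat.coprime_primes hp hr).2 hrp.symm)
    apply Set.Subset.antisymm
    · rintro _ ⟨⟨x1, x2, v⟩, rfl⟩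
      obtain ⟨w1, w2, h⟩ : ∃ w1 w2 : L,
          (orderOf x1).lcm ((orderOf x2).lcm r) ∣ (orderOf w1).lcm (orderOf w2) := by
        rcases hdi x1 with ⟨x', hx'⟩ | h1
        · exact ⟨x', x2, Nat.lcm_dvd (((Nat.dvd_lcm_left _ _).trans hx').trans (Nat.dvd_lcm_left _ _))
            (Nat.lcm_dvd (Nat.dvd_lcm_right _ _) (((Nat.dvd_lcm_right _ _).trans hx').trans (Nat.dvd_lcm_left _ _)))⟩
        rcases hdi x2 with ⟨x', hx'⟩ | h2
        · exact ⟨x1, x', Nat.lcm_dvd (Nat.dvd_lcm_left _ _) (hx'.trans (Nat.dvd_lcm_right _ _))⟩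
        refine ⟨(QuotientGroup.mk u' : L) ^ (orderOf (QuotientGroup.mk u' : L) / p ^ A) * QuotientGroup.mk t, QuotientGroup.mk z, ?_⟩
        have hPS := hzu.mul_dvd_of_dvd_of_dvd (((dvd_mul_right (p ^ A) r).trans hwt).trans
          (Nat.dvd_lcm_left _ (orderOf (QuotientGroup.mk z : L)))) (Nat.dvd_lcm_right _ _)
        exact Nat.lcm_dvd (h1.trans hPS) (Nat.lcm_dvd (h2.trans hPS)
          (((dvd_mul_left r (p ^ A)).trans hwt).trans (Nat.dvd_lcm_left _ _)))
      refine hpow (w1, w2) _ ?_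
      rw [Prod.orderOf_mk, Prod.orderOf_mk, Prod.orderOf_mk]
      refine dvd_trans ?_ h
      exact Nat.lcm_dvd (Nat.dvd_lcm_left _ _) (Nat.lcm_dvd ((Nat.dvd_lcm_left _ _).trans (Nat.dvd_lcm_right _ _))
        ((hV v).trans ((Nat.dvd_lcm_right _ _).trans (Nat.dvd_lcm_right _ _))))
    · rintro _ ⟨⟨x1, x2⟩, rfl⟩
      exact ⟨(x1, x2, 1), by simp [Prod.orderOf_mk]⟩

end Cfsg.Agent.S2510
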