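import Cfsg.Statements.S2511
import Cfsg.Agent.Lib.SuSpec.Absorb

set_option autoImplicit false
open Cfsg

namespace Cfsg.Agent.S2511

/-- Let F be a finite field with q² elements, q = p^a, n ≥ 3 with (n, q) ≠ (3, 2), L = PSU(n, q) realised over F, and let r be a prime dividing q + 1 and not dividing n. Then for every m the direct product L × L × L × (ℤ/r)^m has the same set of element orders as L × L × L; and if n − 1 is not a power of p, then already L × L × (ℤ/r)^m has the same set of element orders as L × L. -/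
theorem result {F : Type*} [Field F] [Fintype F] (p a n q r m : ℕ) (hp : p.Prime) (ha : 1 ≤ a) (hq : q = p ^ a) (hF : Fintype.card F = q ^ 2)
    (hn : 3 ≤ n) (hn3 : ¬ (n = 3 ∧ q = 2)) (hr : r.Prime) (hrq : r ∣ q + 1) (hrn : ¬ r ∣ n) :
    Set.range (orderOf : Cfsg.PSU n F q × Cfsg.PSU n F q × Cfsg.PSU n F q × Multiplicative (Fin m → ZMod r) → ℕ) = Set.range (orderOf : Cfsg.PSU n F q × Cfsg.PSU n F q × Cfsg.PSU n F q → ℕ) ∧
    ((¬ ∃ j : ℕ, n - 1 = p ^ j) →
      Set.range (orderOf : Cfsg.PSU n F q × Cfsg.PSU n F q × Multiplicative (Fin m → ZMod r) → ℕ) = Set.range (orderOf : Cfsg.PSU n F q × Cfsg.PSU n F q → ℕ)) := by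
  classical
  haveI : Fact p.Prime := ⟨hp⟩
  haveI : CharP F p := (CharP.charP_iff_prime_eq_zero hp).2 (by
    have h := FiniteField.cast_card_eq_zero F
    rw [hF, hq, ← pow_mul, Nat.cast_pow] at h
    exact (pow_eq_zero_iff (by omega)).1 h)
  haveI : Fact r.Prime := ⟨hr⟩
  haveI : Finite (Cfsg.PSU n F q) := inferInstance
  have hA : ∀ v : Multiplicative (Fin m → ZMod r), v ^ r = 1 := fun v => by
    apply Multiplicative.toAdd.injective
    funext i
    simp [toAdd_pow, nsmul_eq_mul]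
  have absorb : ∀ {P : Type _} [Group P] [Finite P],
      (∀ x : P, ∃ y : P, Nat.lcm r (orderOf x) ∣ orderOf y) →
      Set.range (orderOf : P × Multiplicative (Fin m → ZMod r) → ℕ) = Set.range (orderOf : P → ℕ) := by
    intro P _ _ h
    apply Set.Subset.antisymm
    · rintro _ ⟨⟨x, v⟩, rfl⟩
      obtain ⟨y, hy⟩ := h x
      refine Cfsg.Agent.Lib.SpSpec.exists_orderOf_of_dvd ((?_ : orderOf (x, v) ∣ _).trans hy)
      rw [Prod.orderOf_mk]
      exact Nat.lcm_dvd (Nat.dvd_lcm_right _ _)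
        ((orderOf_dvd_of_pow_eq_one (hA v)).trans (Nat.dvd_lcm_left _ _))
    · rintro _ ⟨x, rfl⟩
      exact ⟨(x, 1), by rw [Prod.orderOf_mk, orderOf_one, Nat.lcm_one_right]⟩
  obtain ⟨t, dich⟩ := Cfsg.Agent.Lib.SuSpec.dichotomy (p := p) (n := n) hF (by omega) hr hrq hrn
  obtain ⟨z0, hz0⟩ := Cfsg.Agent.Lib.SuSpec.exists_mixed (p := p) (n := n) hF hr hrq hrn (j := 0)
    (by simp; omega)
  have L1 := Nat.dvd_lcm_left
  have L2 := Nat.dvd_lcm_right
  constructor
  · have h3 : ∀ x : Cfsg.PSU n F q × Cfsg.PSU n F q × Cfsg.PSU n F q,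
        ∃ y : Cfsg.PSU n F q × Cfsg.PSU n F q × Cfsg.PSU n F q, Nat.lcm r (orderOf x) ∣ orderOf y := by
      rintro ⟨x, y, z⟩
      simp only [Prod.exists, Prod.orderOf_mk]
      rcases dich x with ⟨w, hw⟩ | ⟨ex, jx, hx, hxe, hxp, -⟩
      · refine ⟨w, y, z, Nat.lcm_dvd (((L1 _ _).trans hw).trans (L1 _ _))
          (Nat.lcm_dvd (((L2 _ _).trans hw).trans (L1 _ _)) (L2 _ _))⟩
      rcases dich y with ⟨w, hw⟩ | ⟨ey, jy, hy, hye, hyp, -⟩
      · refine ⟨x, w, z, Nat.lcm_dvd (((L1 _ _).trans hw).trans ((L1 _ _).trans (L2 _ _)))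
          (Nat.lcm_dvd (L1 _ _) (Nat.lcm_dvd (((L2 _ _).trans hw).trans ((L1 _ _).trans (L2 _ _)))
            ((L2 _ _).trans (L2 _ _))))⟩
      rcases dich z with ⟨w, hw⟩ | ⟨ez, jz, hz, hze, hzp, -⟩
      · refine ⟨x, y, w, Nat.lcm_dvd (((L1 _ _).trans hw).trans ((L2 _ _).trans (L2 _ _)))
          (Nat.lcm_dvd (L1 _ _) (Nat.lcm_dvd ((L1 _ _).trans (L2 _ _))
            (((L2 _ _).trans hw).trans ((L2 _ _).trans (L2 _ _)))))⟩
      obtain ⟨w, hw⟩ : ∃ w : Cfsg.PSU n F q, p ^ max jx (max jy jz) ∣ orderOf w := by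
        rcases max_choice jx (max jy jz) with h | h
        · exact ⟨x, by rw [h, hx]; exact dvd_mul_right _ _⟩
        rcases max_choice jy jz with h' | h'
        · exact ⟨y, by rw [h, h', hy]; exact dvd_mul_right _ _⟩
        · exact ⟨z, by rw [h, h', hz]; exact dvd_mul_right _ _⟩
      refine ⟨t, w, z0, ?_⟩
      have key : ∀ e j, j ≤ max jx (max jy jz) → e ∣ orderOf t → ¬ p ∣ e →
          p ^ j * e ∣ Nat.lcm (orderOf t) (Nat.lcm (orderOf w) (orderOf z0)) := by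
        intro e j hj he hpe
        refine Nat.Coprime.mul_dvd_of_dvd_of_dvd ?_
          ((((pow_dvd_pow p hj).trans hw).trans (L1 _ _)).trans (L2 _ _)) (he.trans (L1 _ _))
        exact (hp.coprime_iff_not_dvd.2 hpe).pow_left _
      rw [hx, hy, hz]
      refine Nat.lcm_dvd (((Dvd.intro _ rfl).trans hz0).trans ((L2 _ _).trans (L2 _ _))) ?_
      exact Nat.lcm_dvd (key ex jx (le_max_left _ _) hxe hxp)
        (Nat.lcm_dvd (key ey jy ((le_max_left _ _).trans (le_max_right _ _)) hye hyp)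
          (key ez jz ((le_max_right _ _).trans (le_max_right _ _)) hze hzp))
    rw [← absorb h3]
    let e : (Cfsg.PSU n F q × Cfsg.PSU n F q × Cfsg.PSU n F q) × Multiplicative (Fin m → ZMod r) ≃*
        Cfsg.PSU n F q × Cfsg.PSU n F q × Cfsg.PSU n F q × Multiplicative (Fin m → ZMod r) :=
      MulEquiv.prodAssoc.trans ((MulEquiv.refl _).prodCongr MulEquiv.prodAssoc)
    refine Set.ext fun d => ⟨?_, ?_⟩
    · rintro ⟨u, rfl⟩; exact ⟨e.symm u, e.symm.orderOf_eq u⟩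
    · rintro ⟨u, rfl⟩; exact ⟨e u, e.orderOf_eq u⟩
  · intro hM
    have h3 : ∀ x : Cfsg.PSU n F q × Cfsg.PSU n F q,
        ∃ y : Cfsg.PSU n F q × Cfsg.PSU n F q, Nat.lcm r (orderOf x) ∣ orderOf y := by
      rintro ⟨x, y⟩
      simp only [Prod.exists, Prod.orderOf_mk]
      rcases dich x with ⟨w, hw⟩ | ⟨ex, jx, hx, hxe, hxp, hxn⟩
      · exact ⟨w, y, Nat.lcm_dvd (((L1 _ _).trans hw).trans (L1 _ _))
          (Nat.lcm_dvd (((L2 _ _).trans hw).trans (L1 _ _)) (L2 _ _))⟩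
      rcases dich y with ⟨w, hw⟩ | ⟨ey, jy, hy, hye, hyp, hyn⟩
      · exact ⟨x, w, Nat.lcm_dvd (((L1 _ _).trans hw).trans (L2 _ _))
          (Nat.lcm_dvd (L1 _ _) (((L2 _ _).trans hw).trans (L2 _ _)))⟩
      obtain ⟨w, hwr, hwp⟩ : ∃ w : Cfsg.PSU n F q, r ∣ orderOf w ∧ p ^ max jx jy ∣ orderOf w := by
        rcases Nat.eq_zero_or_pos (max jx jy) with h | h
        · exact ⟨z0, (Dvd.intro _ rfl).trans hz0, by rw [h, pow_zero]; exact one_dvd _⟩
        have hlt : p ^ (max jx jy - 1) < n := by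
          rcases max_choice jx jy with h' | h' <;> rw [h'] at h ⊢
          · exact hxn.resolve_left h.ne'
          · exact hyn.resolve_left h.ne'
        have hne : p ^ (max jx jy - 1) ≠ n - 1 := fun e => hM ⟨_, e.symm⟩
        obtain ⟨w, hw⟩ := Cfsg.Agent.Lib.SuSpec.exists_mixed (p := p) (n := n) hF hr hrq hrn
          (j := max jx jy - 1) (by omega)
        rw [Nat.sub_add_cancel h] at hw
        exact ⟨w, (Dvd.intro _ rfl).trans hw, (Dvd.intro_left _ rfl).trans hw⟩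
      refine ⟨t, w, ?_⟩
      have key : ∀ e j, j ≤ max jx jy → e ∣ orderOf t → ¬ p ∣ e →
          p ^ j * e ∣ Nat.lcm (orderOf t) (orderOf w) := by
        intro e j hj he hpe
        refine Nat.Coprime.mul_dvd_of_dvd_of_dvd ?_ (((pow_dvd_pow p hj).trans hwp).trans (L2 _ _))
          (he.trans (L1 _ _))
        exact (hp.coprime_iff_not_dvd.2 hpe).pow_left _
      rw [hx, hy]
      exact Nat.lcm_dvd (hwr.trans (L2 _ _))
        (Nat.lcm_dvd (key ex jx (le_max_left _ _) hxe hxp) (key ey jy (le_max_right _ _) hye hyp))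
    rw [← absorb h3]
    let e : (Cfsg.PSU n F q × Cfsg.PSU n F q) × Multiplicative (Fin m → ZMod r) ≃*
        Cfsg.PSU n F q × Cfsg.PSU n F q × Multiplicative (Fin m → ZMod r) := MulEquiv.prodAssoc
    refine Set.ext fun d => ⟨?_, ?_⟩
    · rintro ⟨u, rfl⟩; exact ⟨e.symm u, e.symm.orderOf_eq u⟩
    · rintro ⟨u, rfl⟩; exact ⟨e u, e.orderOf_eq u⟩

end Cfsg.Agent.S2511
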