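import Cfsg.Statements.S2512
import Cfsg.Agent.Lib.SpSpec.Absorb

set_option autoImplicit false
open Cfsg

namespace Cfsg.Agent.S2512

/-- Let F be a finite field of odd order q = p^a, n ≥ 2 (with q ≥ 3 automatic), and L = PSp(2n, F). Then for every m the direct product L × L × L × (ℤ/2)^m has the same set of element orders as L × L × L; and if 2n − 1 is not a power of p, then already L × L × (ℤ/2)^m has the same set of element orders as L × L. -/
theorem result {F : Type*} [Field F] [Fintype F] (p a n m : ℕ) (hp : p.Prime) (ha : 1 ≤ a) (hF : Fintype.card F = p ^ a) (hodd : Odd (Fintype.card F))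
    (hn : 2 ≤ n) :
    Set.range (orderOf : Cfsg.PSp n F × Cfsg.PSp n F × Cfsg.PSp n F × Multiplicative (Fin m → ZMod 2) → ℕ) = Set.range (orderOf : Cfsg.PSp n F × Cfsg.PSp n F × Cfsg.PSp n F → ℕ) ∧
    ((¬ ∃ j : ℕ, 2 * n - 1 = p ^ j) →
      Set.range (orderOf : Cfsg.PSp n F × Cfsg.PSp n F × Multiplicative (Fin m → ZMod 2) → ℕ) = Set.range (orderOf : Cfsg.PSp n F × Cfsg.PSp n F → ℕ)) := by
  classical
  haveI : Fact p.Prime := ⟨hp⟩
  haveI : CharP F p := (CharP.charP_iff_prime_eq_zero hp).2 (by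
    have h := FiniteField.cast_card_eq_zero F
    rw [hF, Nat.cast_pow] at h
    exact (pow_eq_zero_iff (by omega)).1 h)
  have h2 : (2 : F) ≠ 0 := by
    intro h
    haveI : CharP F 2 := (CharP.charP_iff_prime_eq_zero Nat.prime_two).2 (by exact_mod_cast h)
    have : p = 2 := CharP.eq F ‹CharP F p› ‹CharP F 2›
    rw [hF, this] at hodd
    exact (Nat.not_even_iff_odd.2 hodd) (Nat.even_pow.2 ⟨even_two, by omega⟩)
  haveI : Finite (Cfsg.PSp n F) := inferInstance
  have hA : ∀ v : Multiplicative (Fin m → ZMod 2), v ^ 2 = 1 := fun v => by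
    apply Multiplicative.toAdd.injective
    funext i
    simp only [toAdd_pow, toAdd_one, Pi.smul_apply, Pi.zero_apply, two_nsmul]
    exact CharTwo.add_self_eq_zero _
  obtain ⟨⟨t1, ht1⟩, ⟨t2, ht2⟩⟩ := Cfsg.Agent.Lib.SpSpec.exists_torus_psp (n := n) (by omega) h2
  have hqodd : Odd (Fintype.card F ^ n) := hodd.pow
  have hT : ∀ v : Cfsg.PSp n F, Odd (orderOf v) →
      (orderOf v ∣ Fintype.card F ^ n - 1 ∨ orderOf v ∣ Fintype.card F ^ n + 1) →
      orderOf v ∣ orderOf t1 ∨ orderOf v ∣ orderOf t2 := by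
    intro v hv h
    obtain ⟨c, hc⟩ := hqodd
    rcases h with h | h
    · left
      rw [show Fintype.card F ^ n - 1 = 2 * ((Fintype.card F ^ n - 1) / 2) by omega] at h
      exact ((Nat.coprime_two_right.2 hv).dvd_of_dvd_mul_left h).trans ht1
    · right
      rw [show Fintype.card F ^ n + 1 = 2 * ((Fintype.card F ^ n + 1) / 2) by omega] at h
      exact ((Nat.coprime_two_right.2 hv).dvd_of_dvd_mul_left h).trans ht2
  have h2t : 2 ∣ orderOf t1 ∨ 2 ∣ orderOf t2 := by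
    obtain ⟨c, hc⟩ := hqodd
    rcases Nat.even_or_odd ((Fintype.card F ^ n - 1) / 2) with ⟨d, hd⟩ | ⟨d, hd⟩
    · exact Or.inl ((Dvd.intro d (by omega)).trans ht1)
    · exact Or.inr ((Dvd.intro (d + 1) (by omega)).trans ht2)
  have tri := fun v : Cfsg.PSp n F => Cfsg.Agent.Lib.SpSpec.trichotomy (p := p) h2 hn v
  constructor
  · have h3 : ∀ x : Cfsg.PSp n F × Cfsg.PSp n F × Cfsg.PSp n F,
        ∃ y : Cfsg.PSp n F × Cfsg.PSp n F × Cfsg.PSp n F, Nat.lcm 2 (orderOf x) ∣ orderOf y := by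
      rintro ⟨x, y, z⟩
      simp only [Prod.exists, Prod.orderOf_mk]
      have L1 := Nat.dvd_lcm_left
      have L2 := Nat.dvd_lcm_right
      rcases tri x with ⟨w, hw⟩ | hx
      · refine ⟨w, y, z, Nat.lcm_dvd (((L1 _ _).trans hw).trans (L1 _ _))
          (Nat.lcm_dvd (((L2 _ _).trans hw).trans (L1 _ _)) (L2 _ _))⟩
      rcases tri y with ⟨w, hw⟩ | hy
      · refine ⟨x, w, z, Nat.lcm_dvd (((L1 _ _).trans hw).trans ((L1 _ _).trans (L2 _ _)))
          (Nat.lcm_dvd (L1 _ _) (Nat.lcm_dvd (((L2 _ _).trans hw).trans ((L1 _ _).trans (L2 _ _)))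
            ((L2 _ _).trans (L2 _ _))))⟩
      rcases tri z with ⟨w, hw⟩ | hz
      · refine ⟨x, y, w, Nat.lcm_dvd (((L1 _ _).trans hw).trans ((L2 _ _).trans (L2 _ _)))
          (Nat.lcm_dvd (L1 _ _) (Nat.lcm_dvd ((L1 _ _).trans (L2 _ _))
            (((L2 _ _).trans hw).trans ((L2 _ _).trans (L2 _ _)))))⟩
      have hmax : ∀ l : List (Cfsg.PSp n F), ∃ w : Cfsg.PSp n F,
          (∃ k, orderOf w = p ^ k) ∧ ∀ v ∈ l, ∀ k, orderOf v = p ^ k → orderOf v ∣ orderOf w := by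
        intro l
        induction l with
        | nil => exact ⟨1, ⟨0, by simp⟩, by simp⟩
        | cons v l ih =>
          obtain ⟨w, ⟨k, hk⟩, hl⟩ := ih
          by_cases hv : ∃ j, k ≤ j ∧ orderOf v = p ^ j
          · obtain ⟨j, hj, hvj⟩ := hv
            refine ⟨v, ⟨j, hvj⟩, fun u hu i hi => ?_⟩
            rcases List.mem_cons.1 hu with rfl | hu
            · rfl
            · exact (hl u hu i hi).trans (by rw [hk, hvj]; exact pow_dvd_pow p hj)
          · refine ⟨w, ⟨k, hk⟩, fun u hu i hi => ?_⟩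
            rcases List.mem_cons.1 hu with rfl | hu
            · rw [hi, hk]
              exact pow_dvd_pow p (by by_contra hlt; exact hv ⟨i, by omega, hi⟩)
            · exact hl u hu i hi
      obtain ⟨w, -, hw⟩ := hmax [x, y, z]
      refine ⟨t1, t2, w, ?_⟩
      have key : ∀ v ∈ [x, y, z],
          ((orderOf v ∣ Fintype.card F ^ n - 1 ∨ orderOf v ∣ Fintype.card F ^ n + 1) ∧ Odd (orderOf v) ∨
            (∃ j, orderOf v = p ^ j ∧ ∃ i, 2 * n - 1 = p ^ i) ∧ Odd (orderOf v)) →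
          orderOf v ∣ Nat.lcm (orderOf t1) (Nat.lcm (orderOf t2) (orderOf w)) := by
        rintro v hv (⟨h, ho⟩ | ⟨⟨j, hj, -⟩, -⟩)
        · rcases hT v ho h with h | h
          · exact h.trans (L1 _ _)
          · exact h.trans ((L1 _ _).trans (L2 _ _))
        · exact (hw v hv j hj).trans ((L2 _ _).trans (L2 _ _))
      refine Nat.lcm_dvd ?_ (Nat.lcm_dvd (key x (by simp) hx)
        (Nat.lcm_dvd (key y (by simp) hy) (key z (by simp) hz)))
      rcases h2t with h | h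
      · exact h.trans (L1 _ _)
      · exact h.trans ((L1 _ _).trans (L2 _ _))
    have := Cfsg.Agent.Lib.SpSpec.range_orderOf_absorb hA h3
    rw [← this]
    let e : (Cfsg.PSp n F × Cfsg.PSp n F × Cfsg.PSp n F) × Multiplicative (Fin m → ZMod 2) ≃*
        Cfsg.PSp n F × Cfsg.PSp n F × Cfsg.PSp n F × Multiplicative (Fin m → ZMod 2) :=
      MulEquiv.prodAssoc.trans ((MulEquiv.refl _).prodCongr MulEquiv.prodAssoc)
    refine Set.ext fun d => ⟨?_, ?_⟩
    · rintro ⟨u, rfl⟩; exact ⟨e.symm u, e.symm.orderOf_eq u⟩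
    · rintro ⟨u, rfl⟩; exact ⟨e u, e.orderOf_eq u⟩
  · intro hM
    have h3 : ∀ x : Cfsg.PSp n F × Cfsg.PSp n F,
        ∃ y : Cfsg.PSp n F × Cfsg.PSp n F, Nat.lcm 2 (orderOf x) ∣ orderOf y := by
      rintro ⟨x, y⟩
      simp only [Prod.exists, Prod.orderOf_mk]
      have L1 := Nat.dvd_lcm_left
      have L2 := Nat.dvd_lcm_right
      rcases tri x with ⟨w, hw⟩ | hx
      · exact ⟨w, y, Nat.lcm_dvd (((L1 _ _).trans hw).trans (L1 _ _))
          (Nat.lcm_dvd (((L2 _ _).trans hw).trans (L1 _ _)) (L2 _ _))⟩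
      rcases tri y with ⟨w, hw⟩ | hy
      · exact ⟨x, w, Nat.lcm_dvd (((L1 _ _).trans hw).trans (L2 _ _))
          (Nat.lcm_dvd (L1 _ _) (((L2 _ _).trans hw).trans (L2 _ _)))⟩
      refine ⟨t1, t2, ?_⟩
      have key : ∀ v,
          ((orderOf v ∣ Fintype.card F ^ n - 1 ∨ orderOf v ∣ Fintype.card F ^ n + 1) ∧ Odd (orderOf v) ∨
            (∃ j, orderOf v = p ^ j ∧ ∃ i, 2 * n - 1 = p ^ i) ∧ Odd (orderOf v)) →
          orderOf (v : Cfsg.PSp n F) ∣ Nat.lcm (orderOf t1) (orderOf t2) := by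
        rintro v (⟨h, ho⟩ | ⟨⟨j, -, hj⟩, -⟩)
        · rcases hT v ho h with h | h
          · exact h.trans (L1 _ _)
          · exact h.trans (L2 _ _)
        · exact absurd hj hM
      refine Nat.lcm_dvd ?_ (Nat.lcm_dvd (key x hx) (key y hy))
      rcases h2t with h | h
      · exact h.trans (L1 _ _)
      · exact h.trans (L2 _ _)
    have := Cfsg.Agent.Lib.SpSpec.range_orderOf_absorb hA h3
    rw [← this]
    let e : (Cfsg.PSp n F × Cfsg.PSp n F) × Multiplicative (Fin m → ZMod 2) ≃*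
        Cfsg.PSp n F × Cfsg.PSp n F × Multiplicative (Fin m → ZMod 2) := MulEquiv.prodAssoc
    refine Set.ext fun d => ⟨?_, ?_⟩
    · rintro ⟨u, rfl⟩; exact ⟨e.symm u, e.symm.orderOf_eq u⟩
    · rintro ⟨u, rfl⟩; exact ⟨e u, e.orderOf_eq u⟩

end Cfsg.Agent.S2512
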