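import Cfsg.Statements.S2513
import Cfsg.Agent.Lib.Similar.Orders

set_option autoImplicit false
open Cfsg

namespace Cfsg.Agent.S2513

open Polynomial

/-- Let F be the field with two elements, n ≥ 2, L = PSL(n, F) and k₀ = ⌊(n + 3)/2⌋. Then for every k ≥ k₀ the direct product of k copies of L has the same set of element orders as the direct product of k₀ copies of L. -/
theorem result {F : Type*} [Field F] [Fintype F] (hF : Fintype.card F = 2) (n k : ℕ) (hn : 2 ≤ n) (hk : (n + 3) / 2 ≤ k) :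
    Set.range (orderOf : (Fin k → Matrix.ProjectiveSpecialLinearGroup (Fin n) F) → ℕ) = Set.range (orderOf : (Fin ((n + 3) / 2) → Matrix.ProjectiveSpecialLinearGroup (Fin n) F) → ℕ) := by
  classical
  obtain ⟨p, hp⟩ := CharP.exists F
  have : Fact p.Prime := ⟨CharP.char_is_prime F p⟩
  obtain rfl : p = 2 := by
    obtain ⟨⟨f, hf⟩, -, hc⟩ := FiniteField.card F p
    rw [hF] at hc
    exact (Nat.prime_two.eq_one_or_self_of_dvd p (by rw [hc]; exact dvd_pow_self p hf.ne')).resolve_left
      (Fact.out : p.Prime).ne_one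
  have hunit : Subsingleton Fˣ := by
    rw [← Fintype.card_le_one_iff_subsingleton, Fintype.card_units, hF]
  -- `PSL = GL`
  have : Subsingleton (rootsOfUnity (max (Fintype.card (Fin n)) 1) F) := ⟨fun a b => Subtype.ext (Subsingleton.elim _ _)⟩
  have hZ : Subgroup.center (Matrix.SpecialLinearGroup (Fin n) F) = ⊥ := by
    have : Subsingleton (Subgroup.center (Matrix.SpecialLinearGroup (Fin n) F)) :=
      (Matrix.SpecialLinearGroup.center_equiv_rootsOfUnity (n := Fin n) (R := F)).toEquiv.subsingleton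
    exact Subgroup.eq_bot_of_subsingleton _
  have hbij : Function.Bijective (Matrix.SpecialLinearGroup.toGL : Matrix.SpecialLinearGroup (Fin n) F →* GL (Fin n) F) := by
    refine ⟨Matrix.SpecialLinearGroup.toGL_injective, fun g => ?_⟩
    let s : Matrix.SpecialLinearGroup (Fin n) F := ⟨(g : Matrix (Fin n) (Fin n) F), by
      have h : Matrix.GeneralLinearGroup.det g = 1 := Subsingleton.elim _ _
      exact congrArg Units.val h⟩
    exact ⟨s, Units.ext rfl⟩
  let e : Matrix.ProjectiveSpecialLinearGroup (Fin n) F ≃* GL (Fin n) F :=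
    ((QuotientGroup.quotientMulEquivOfEq hZ).trans QuotientGroup.quotientBot).trans
      (MulEquiv.ofBijective _ hbij)
  -- the exponent
  let L : ℕ := (Finset.Ioc (n / 2) n).lcm (fun d => 2 ^ d - 1)
  let A : ℕ := Nat.clog 2 n
  let M : ℕ := 2 ^ A * L
  have hA : n ≤ 2 ^ A := Nat.le_pow_clog (by norm_num) n
  have hLdvd : ∀ d, 1 ≤ d → d ≤ n → 2 ^ d - 1 ∣ L := by
    intro d hd1
    induction hs : (n - d) using Nat.strong_induction_on generalizing d with
    | _ s ih =>
      intro hdn
      by_cases h : n / 2 < d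
      · exact Finset.dvd_lcm (Finset.mem_Ioc.2 ⟨h, hdn⟩)
      · exact (Nat.pow_sub_one_dvd_pow_sub_one 2 (dvd_mul_left d 2)).trans
          (ih (n - 2 * d) (by omega) (2 * d) (by omega) rfl (by omega))
  have hexp : ∀ x : GL (Fin n) F, x ^ M = 1 := by
    intro x
    rw [Cfsg.Agent.Lib.Similar.pow_eq_one_iff_matInv]
    obtain ⟨hs, hsum⟩ := Cfsg.Agent.Lib.Similar.matInv_spec x
    intro y hy
    obtain ⟨hm, hi, h0, he⟩ := hs y hy
    have hle : y.2 * y.1.natDegree ≤ n := by
      have h1 := Multiset.le_sum_of_mem (Multiset.mem_map_of_mem (fun y : F[X] × ℕ => y.2 * y.1.natDegree) hy)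
      rw [hsum, Fintype.card_fin] at h1
      exact h1
    have hd : 1 ≤ y.1.natDegree := hi.natDegree_pos
    have hdvd : Fintype.card F ^ y.1.natDegree - 1 ∣ L := by
      rw [hF]; exact hLdvd _ hd (by nlinarith)
    have h1 : y.1 ∣ X ^ L - 1 :=
      (Cfsg.Agent.Lib.Similar.dvd_X_pow_card_sub_one hi h0).trans (by obtain ⟨c, hc⟩ := hdvd; rw [hc, pow_mul]; exact sub_one_dvd_pow_sub_one _ c)
    have h2 : (X : F[X]) ^ M - 1 = (X ^ L - 1) ^ 2 ^ A := by
      rw [sub_pow_char_pow, one_pow, ← pow_mul, mul_comm L]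
    rw [h2]
    exact (pow_dvd_pow _ (le_trans (le_trans (Nat.le_mul_of_pos_right _ hd) hle) hA)).trans
      (pow_dvd_pow_of_dvd h1 _)
  have hunip : ∃ x : GL (Fin n) F, 2 ^ A ∣ orderOf x := by
    have hX1 : (X - 1 : F[X]) = X - C 1 := by simp
    obtain ⟨x, hx⟩ := Cfsg.Agent.Lib.Similar.exists_gl_matInv (n := Fin n) {((X - 1 : F[X]), n)} (by
        intro y hy
        rw [Multiset.mem_singleton] at hy
        subst hy
        exact ⟨by rw [hX1]; exact monic_X_sub_C 1, by rw [hX1]; exact irreducible_X_sub_C 1,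
          by simp [coeff_one], by omega⟩)
      (by simp only [Multiset.map_singleton, Multiset.sum_singleton, Fintype.card_fin]; rw [hX1, natDegree_X_sub_C, mul_one])
    have hmem : ((X - 1 : F[X]), n) ∈ Cfsg.Agent.Lib.Similar.matInv (x : Matrix (Fin n) (Fin n) F) := by rw [hx]; exact Multiset.mem_singleton_self _
    have hpow : x ^ 2 ^ A = 1 := by
      rw [Cfsg.Agent.Lib.Similar.pow_eq_one_iff_matInv, hx]
      intro y hy
      rw [Multiset.mem_singleton] at hy
      subst hy
      rw [show (X : F[X]) ^ 2 ^ A - 1 = (X - 1) ^ 2 ^ A by rw [sub_pow_char_pow, one_pow]]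
      exact pow_dvd_pow _ hA
    refine ⟨x, ?_⟩
    obtain ⟨j, hj, hjo⟩ := (Nat.dvd_prime_pow Nat.prime_two).1 (orderOf_dvd_of_pow_eq_one hpow)
    have h := (Cfsg.Agent.Lib.Similar.pow_eq_one_iff_matInv x (orderOf x)).1 (pow_orderOf_eq_one x) _ hmem
    rw [hjo, show (X : F[X]) ^ 2 ^ j - 1 = (X - 1) ^ 2 ^ j by rw [sub_pow_char_pow, one_pow]] at h
    have hirr : Irreducible (X - 1 : F[X]) := by rw [hX1]; exact irreducible_X_sub_C 1
    have h' : A ≤ j := Nat.clog_le_of_le_pow ((pow_dvd_pow_iff hirr.ne_zero hirr.not_isUnit).1 h)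
    rw [hjo, le_antisymm hj h']
  have hsing : ∀ d, 1 ≤ d → d ≤ n → ∃ x : GL (Fin n) F, 2 ^ d - 1 ∣ orderOf x := by
    intro d hd hdn
    obtain ⟨f, hfm, hfi, hf0, hfd, hfk⟩ := Cfsg.Agent.Lib.Similar.exists_irreducible_primitive (F := F) hd
    have hX1 : (X - 1 : F[X]) = X - C 1 := by simp
    obtain ⟨x, hx⟩ := Cfsg.Agent.Lib.Similar.exists_gl_matInv (n := Fin n) ((f, 1) ::ₘ Multiset.replicate (n - d) ((X - 1 : F[X]), 1)) (by
        intro y hy
        rcases Multiset.mem_cons.1 hy with h | h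
        · subst h; exact ⟨hfm, hfi, hf0, le_rfl⟩
        · rw [Multiset.eq_of_mem_replicate h]
          exact ⟨by rw [hX1]; exact monic_X_sub_C 1, by rw [hX1]; exact irreducible_X_sub_C 1, by simp [coeff_one], le_rfl⟩)
      (by
        simp only [Multiset.map_cons, Multiset.sum_cons, Multiset.map_replicate, Multiset.sum_replicate, Fintype.card_fin]
        rw [hX1, natDegree_X_sub_C, hfd, smul_eq_mul]
        omega)
    have h := (Cfsg.Agent.Lib.Similar.pow_eq_one_iff_matInv x (orderOf x)).1 (pow_orderOf_eq_one x) (f, 1) (by rw [hx]; exact Multiset.mem_cons_self _ _)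
    rw [pow_one, hfk, hF] at h
    exact ⟨x, h⟩
  -- spectra of powers
  have key : ∀ j, (n + 3) / 2 ≤ j → Set.range (orderOf : (Fin j → Matrix.ProjectiveSpecialLinearGroup (Fin n) F) → ℕ) = {m | m ∣ M} := by
    intro j hj
    have hdvdM : ∀ z : Fin j → Matrix.ProjectiveSpecialLinearGroup (Fin n) F, orderOf z ∣ M := fun z => by
      refine orderOf_dvd_of_pow_eq_one (funext fun i => e.injective ?_)
      rw [Pi.pow_apply, map_pow, hexp, Pi.one_apply, map_one]
    ext m
    constructor
    · rintro ⟨z, rfl⟩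
      exact hdvdM z
    · intro hm
      choose w hw using hsing
      obtain ⟨u, hu⟩ := hunip
      let z : Fin j → Matrix.ProjectiveSpecialLinearGroup (Fin n) F := fun i =>
        if h0 : i.val = 0 then e.symm u else if h1 : n / 2 + i.val ≤ n then e.symm (w (n / 2 + i.val) (by omega) h1) else 1
      have hcomp : ∀ i, orderOf (z i) ∣ orderOf z := fun i =>
        orderOf_map_dvd (Pi.evalMonoidHom (fun _ : Fin j => Matrix.ProjectiveSpecialLinearGroup (Fin n) F) i) z
      have hL : L ∣ orderOf z := by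
        refine Finset.lcm_dvd fun d hd => ?_
        obtain ⟨hd1, hd2⟩ := Finset.mem_Ioc.1 hd
        refine dvd_trans ?_ (hcomp ⟨d - n / 2, by omega⟩)
        have hne : ¬ (d - n / 2 = 0) := by omega
        have hlt : n / 2 + (d - n / 2) ≤ n := by omega
        simp only [z, dif_neg hne, dif_pos hlt, MulEquiv.orderOf_eq]
        have heq : n / 2 + (d - n / 2) = d := by omega
        exact (dvd_of_eq (by rw [heq])).trans (hw (n / 2 + (d - n / 2)) (by omega) hlt)
      have h2A : 2 ^ A ∣ orderOf z := by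
        refine dvd_trans ?_ (hcomp ⟨0, by omega⟩)
        simp only [z, dif_pos, MulEquiv.orderOf_eq]
        exact hu
      have hcop : Nat.Coprime (2 ^ A) L := by
        apply Nat.Coprime.pow_left
        rw [Nat.prime_two.coprime_iff_not_dvd]
        intro h2
        have hd : L ∣ ∏ d ∈ Finset.Ioc (n / 2) n, (2 ^ d - 1) :=
          Finset.lcm_dvd fun d hd => Finset.dvd_prod_of_mem _ hd
        obtain ⟨d, hd1, hd2⟩ := (Nat.prime_two.prime.dvd_finsetProd_iff _).1 (h2.trans hd)
        have hpos : 1 ≤ d := by have := (Finset.mem_Ioc.1 hd1).1; omega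
        have h3 : 2 ∣ 2 ^ d := dvd_pow_self 2 (by omega)
        have h4 : 1 ≤ 2 ^ d := Nat.one_le_two_pow
        omega
      have hz : orderOf z = M := Nat.dvd_antisymm (hdvdM z) (hcop.mul_dvd_of_dvd_of_dvd h2A hL)
      have hM : M ≠ 0 := by rw [← hz]; exact (orderOf_pos z).ne'
      refine ⟨z ^ (M / m), ?_⟩
      rw [orderOf_pow, hz, Nat.gcd_eq_right (Nat.div_dvd_of_dvd hm), Nat.div_div_self hm hM]
  rw [key k hk, key _ le_rfl]

end Cfsg.Agent.S2513
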