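import Cfsg.Statements.S2514

set_option autoImplicit false
open Cfsg

namespace Cfsg.Agent.S2514

private theorem exists_max {X : Type*} [Group X] [Finite X] (x : X) :
    ∃ M, (M ∈ Set.range (orderOf : X → ℕ) ∧ ∀ m ∈ Set.range (orderOf : X → ℕ), M ∣ m → m = M) ∧ orderOf x ∣ M := by
  classical
  have hfin : {m | m ∈ Set.range (orderOf : X → ℕ) ∧ orderOf x ∣ m}.Finite :=
    (Set.finite_range _).subset fun m hm => hm.1
  obtain ⟨M, ⟨hM, hxM⟩, hmax⟩ := hfin.exists_maximalFor id _ ⟨orderOf x, ⟨x, rfl⟩, dvd_rfl⟩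
  refine ⟨M, ⟨hM, fun m hm hMm => ?_⟩, hxM⟩
  obtain ⟨y, rfl⟩ := hm
  exact le_antisymm (hmax ⟨⟨y, rfl⟩, hxM.trans hMm⟩ (Nat.le_of_dvd (orderOf_pos y) hMm)) (Nat.le_of_dvd (orderOf_pos y) hMm)

private theorem exists_of_dvd {X : Type*} [Group X] [Finite X] {x : X} {d : ℕ} (h : d ∣ orderOf x) :
    ∃ y : X, orderOf y = d :=
  ⟨x ^ (orderOf x / d), orderOf_pow_orderOf_div (orderOf_pos x).ne' h⟩

private theorem pi_dvd_iff {ι : Type*} {X : Type*} [Group X] (f : ι → X) (N : ℕ) :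
    orderOf f ∣ N ↔ ∀ i, orderOf (f i) ∣ N := by
  simp only [orderOf_dvd_iff_pow_eq_one, funext_iff, Pi.pow_apply, Pi.one_apply]

private theorem prod_dvd_iff {X Y : Type*} [Group X] [Group Y] (z : X × Y) (N : ℕ) :
    orderOf z ∣ N ↔ orderOf z.1 ∣ N ∧ orderOf z.2 ∣ N := by
  simp only [orderOf_dvd_iff_pow_eq_one, Prod.ext_iff, Prod.pow_fst, Prod.pow_snd, Prod.fst_one, Prod.snd_one]

private theorem eq_of_dvd_iff {a b : ℕ} (h : ∀ N, a ∣ N ↔ b ∣ N) : a = b :=
  Nat.dvd_antisymm ((h b).mpr dvd_rfl) ((h a).mp dvd_rfl)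


/-- For a finite group X write μ(X) for the set of element orders of X that are maximal under divisibility. Let G and H be finite groups and k ≥ 1 such that μ(H) ⊆ μ(G) and μ(G) has fewer than k elements outside μ(H). Then the direct product of k copies of G has the same set of element orders as the direct product of k − 1 copies of G with H. -/
theorem result {G H : Type*} [Group G] [Finite G] [Group H] [Finite H] (k : ℕ) (hk : 1 ≤ k)
    (hsub : {n : ℕ | n ∈ Set.range (orderOf : H → ℕ) ∧ ∀ m ∈ Set.range (orderOf : H → ℕ), n ∣ m → m = n} ⊆ {n : ℕ | n ∈ Set.range (orderOf : G → ℕ) ∧ ∀ m ∈ Set.range (orderOf : G → ℕ), n ∣ m → m = n})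
    (hfew : ({n : ℕ | n ∈ Set.range (orderOf : G → ℕ) ∧ ∀ m ∈ Set.range (orderOf : G → ℕ), n ∣ m → m = n} \ {n : ℕ | n ∈ Set.range (orderOf : H → ℕ) ∧ ∀ m ∈ Set.range (orderOf : H → ℕ), n ∣ m → m = n}).ncard < k) :
    Set.range (orderOf : (Fin k → G) → ℕ) = Set.range (orderOf : (Fin (k - 1) → G) × H → ℕ) := by
  classical
  obtain ⟨j, rfl⟩ : ∃ j, k = j + 1 := ⟨k - 1, by omega⟩
  rw [show j + 1 - 1 = j by omega]
  apply Set.Subset.antisymm
  · rintro _ ⟨f, rfl⟩
    choose M hM hfM using fun i => exists_max (f i)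
    by_cases hH : ∃ i, M i ∈ Set.range (orderOf : H → ℕ)
    · obtain ⟨i, z, hz⟩ := hH
      obtain ⟨y, hy⟩ := exists_of_dvd (x := z) (hz ▸ hfM i)
      refine ⟨(fun a => f (i.succAbove a), y), eq_of_dvd_iff fun N => ?_⟩
      rw [prod_dvd_iff, pi_dvd_iff, pi_dvd_iff, hy, Fin.forall_iff_succAbove i]
      exact and_comm
    · have hcard : ∃ i i', i ≠ i' ∧ M i = M i' := by
        by_contra! hc
        have hinj : Function.Injective M := fun a b h => by_contra fun hab => hc a b hab h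
        have hsub' : Set.range M ⊆ _ := fun x ⟨i, hi⟩ =>
          (show x ∈ {n : ℕ | n ∈ Set.range (orderOf : G → ℕ) ∧ ∀ m ∈ Set.range (orderOf : G → ℕ), n ∣ m → m = n} \
            {n : ℕ | n ∈ Set.range (orderOf : H → ℕ) ∧ ∀ m ∈ Set.range (orderOf : H → ℕ), n ∣ m → m = n} from
            ⟨hi ▸ hM i, fun hx => hH ⟨i, by rw [hi]; exact hx.1⟩⟩)
        have h := Set.ncard_le_ncard hsub' (((Set.finite_range _).subset fun m hm => hm.1.1))
        rw [Set.ncard_range_of_injective hinj, Nat.card_fin] at h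
        omega
      obtain ⟨i, i', hne, he⟩ := hcard
      obtain ⟨a, rfl⟩ := Fin.exists_succAbove_eq hne.symm
      obtain ⟨z, hz⟩ := (hM i).1
      obtain ⟨y, hy⟩ := exists_of_dvd (x := z) (d := Nat.lcm (orderOf (f i)) (orderOf (f (i.succAbove a))))
        (hz ▸ Nat.lcm_dvd (hfM i) (he ▸ hfM (i.succAbove a)))
      refine ⟨(Function.update (fun b => f (i.succAbove b)) a y, 1), eq_of_dvd_iff fun N => ?_⟩
      rw [prod_dvd_iff, pi_dvd_iff, pi_dvd_iff, orderOf_one, Fin.forall_iff_succAbove i]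
      constructor
      · rintro ⟨h, -⟩
        have ha := h a
        simp only [Function.update_self] at ha
        rw [hy, Nat.lcm_dvd_iff] at ha
        refine ⟨ha.1, fun b => ?_⟩
        rcases eq_or_ne b a with rfl | hb
        · exact ha.2
        · simpa [hb] using h b
      · rintro ⟨hi, hb⟩
        refine ⟨fun b => ?_, one_dvd N⟩
        rcases eq_or_ne b a with rfl | hb'
        · simp only [Function.update_self]
          rw [hy]
          exact Nat.lcm_dvd hi (hb b)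
        · simpa [hb'] using hb b
  · rintro _ ⟨⟨f, y⟩, rfl⟩
    obtain ⟨M, hM, hyM⟩ := exists_max y
    obtain ⟨z, hz⟩ := (hsub hM).1
    obtain ⟨x, hx⟩ := exists_of_dvd (x := z) (hz ▸ hyM)
    refine ⟨Fin.insertNth 0 x f, eq_of_dvd_iff fun N => ?_⟩
    rw [prod_dvd_iff, pi_dvd_iff, pi_dvd_iff, Fin.forall_iff_succAbove 0]
    simp only [Fin.insertNth_apply_same, Fin.insertNth_apply_succAbove, hx]
    exact and_comm

end Cfsg.Agent.S2514
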