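import Cfsg.Statements.S2515
import Cfsg.Agent.Lib.RankOne.TruncatedOrders

set_option autoImplicit false
open Cfsg

namespace Cfsg.Agent.S2515

open Cfsg.Agent.Lib.RankOne.TruncatedOrders

section aux

open Matrix

variable {K : Type} [Field K] [CharP K 3]

theorem exists_core : ∃ P : Subgroup (Grp K), P.Normal ∧ P ≠ ⊥ ∧ IsPGroup 3 ↥P := by
  refine ⟨(SemidirectProduct.inl : Multiplicative (Matrix (Fin 2) (Fin 2) K) →* Grp K).range, ?_, ?_, ?_⟩
  · rw [SemidirectProduct.range_inl_eq_ker_rightHom]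
    exact MonoidHom.normal_ker _
  · intro h
    have : (SemidirectProduct.inl (Multiplicative.ofAdd (1 : Matrix (Fin 2) (Fin 2) K)) : Grp K) ∈
        (⊥ : Subgroup (Grp K)) := h ▸ ⟨_, rfl⟩
    rw [Subgroup.mem_bot] at this
    have := SemidirectProduct.inl_injective (this.trans (map_one _).symm)
    exact one_ne_zero (α := Matrix (Fin 2) (Fin 2) K) (Multiplicative.ofAdd.injective this)
  · rintro ⟨_, M, rfl⟩
    refine ⟨1, Subtype.ext ?_⟩
    rw [SubgroupClass.coe_pow, ← map_pow, OneMemClass.coe_one, ← map_one SemidirectProduct.inl]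
    congr 1
    refine Multiplicative.toAdd.injective ?_
    rw [toAdd_pow, pow_one, toAdd_one, succ_nsmul, two_nsmul]
    ext i j
    simp only [Matrix.add_apply, Matrix.zero_apply]
    linear_combination (Multiplicative.toAdd M i j) * (three_eq_zero (K := K))

/-- The upper unipotent element. -/
def up : Matrix.SpecialLinearGroup (Fin 2) K := ⟨!![1, 1; 0, 1], by simp [Matrix.det_fin_two]⟩

theorem hom_eq_one {p : Matrix.SpecialLinearGroup (Fin 2) K × ℤˣ} (h : hom K p = 1) (M : Matrix (Fin 2) (Fin 2) K) :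
    ((p.2 : ℤ) : K) • act K p.1 M = M := by
  rw [← hom_apply, h]
  rfl

theorem act_single (g : Matrix.SpecialLinearGroup (Fin 2) K) (i j a b : Fin 2) :
    act K g (Matrix.single i j 1) a b = g.1 a i * g.1 b j ^ 3 := by
  fin_cases i <;> fin_cases j <;> simp [act, Matrix.mul_apply, Fin.sum_univ_two, frobenius_def, Matrix.single]

theorem up_pow (n : ℕ) : ((up : Matrix.SpecialLinearGroup (Fin 2) K) ^ n).1 = !![1, (n : K); 0, 1] := by
  induction n with
  | zero => ext i j; fin_cases i <;> fin_cases j <;> simp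
  | succ n ih =>
    rw [pow_succ, Matrix.SpecialLinearGroup.coe_mul, ih]
    ext i j
    fin_cases i <;> fin_cases j <;> simp [up, Matrix.mul_apply, Fin.sum_univ_two, add_comm]

theorem exists_orders [Fintype K] {α : ℕ} (hα : 1 ≤ α) (hodd : Odd α) (hK : Fintype.card K = 3 ^ α) :
    6 ∈ Set.range (orderOf : Grp K → ℕ) ∧ 9 ∈ Set.range (orderOf : Grp K → ℕ) ∧
      3 ^ α - 1 ∈ Set.range (orderOf : Grp K → ℕ) ∧ (3 ^ α + 1) / 2 ∈ Set.range (orderOf : Grp K → ℕ) := by
  classical
  have h3 := three_eq_zero (K := K)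
  have h2 : (2 : K) ≠ 0 := fun e => one_ne_zero (α := K) (by linear_combination h3 - e)
  have hq : 3 ≤ 3 ^ α := Nat.le_self_pow (by omega) 3
  have h4 : 3 ^ α % 4 = 3 := by
    obtain ⟨j, rfl⟩ := hodd
    rw [pow_succ, pow_mul, Nat.mul_mod, Nat.pow_mod]; norm_num
  have hmem : ∀ p, orderOf (hom K p) ∈ Set.range (orderOf : Grp K → ℕ) := fun p => by
    refine ⟨SemidirectProduct.inr ⟨hom K p, p, rfl⟩, ?_⟩
    rw [orderOf_injective (SemidirectProduct.inr) SemidirectProduct.inr_injective, ← Subgroup.orderOf_coe]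
  have hu3 : (up : Matrix.SpecialLinearGroup (Fin 2) K) ^ 3 = 1 := cube_eq_one (by simp [up, Matrix.trace_fin_two]; ring)
  refine ⟨?_, ?_, ?_, ?_⟩
  · convert hmem (up, -1) using 1
    refine ((orderOf_eq_iff (by norm_num)).2 ⟨?_, fun k hk hk0 he => ?_⟩).symm
    · rw [← map_pow, Prod.pow_mk, show (6 : ℕ) = 3 * 2 from rfl, pow_mul, hu3, one_pow, pow_mul, Int.units_sq]
      exact map_one _
    · have hd : orderOf (hom K (up, (-1 : ℤˣ))) ∣ k := orderOf_dvd_of_pow_eq_one he
      have h6 : hom K (up, (-1 : ℤˣ)) ^ 6 = 1 := by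
        rw [← map_pow, Prod.pow_mk, show (6 : ℕ) = 3 * 2 from rfl, pow_mul, hu3, one_pow, pow_mul, Int.units_sq]
        exact map_one _
      have hd6 := orderOf_dvd_of_pow_eq_one h6
      have hne3 : ¬ orderOf (hom K (up, (-1 : ℤˣ))) ∣ 3 := fun h => by
        have h' := hom_eq_one (p := (up, (-1 : ℤˣ)) ^ 3) (by rw [map_pow]; exact orderOf_dvd_iff_pow_eq_one.1 h)
          (Matrix.single (0 : Fin 2) (0 : Fin 2) (1 : K))
        have e := congrFun (congrFun h' 0) 0
        rw [Matrix.smul_apply, Prod.pow_mk, hu3, act_one] at e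
        simp [pow_succ, Matrix.single] at e
        exact h2 (by linear_combination -e)
      have hne2 : ¬ orderOf (hom K (up, (-1 : ℤˣ))) ∣ 2 := fun h => by
        have h' := hom_eq_one (p := (up, (-1 : ℤˣ)) ^ 2) (by rw [map_pow]; exact orderOf_dvd_iff_pow_eq_one.1 h)
          (Matrix.single (1 : Fin 2) (1 : Fin 2) (1 : K))
        have e := congrFun (congrFun h' 0) 1
        rw [Matrix.smul_apply, Prod.pow_mk, act_single, up_pow, Int.units_sq] at e
        simp [Matrix.single] at e
        exact h2 e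
      have hle := Nat.le_of_dvd hk0 hd
      have := Nat.divisors_prime_pow Nat.prime_two 1
      set d := orderOf (hom K (up, (-1 : ℤˣ)))
      have : d ∈ Nat.divisors 6 := Nat.mem_divisors.2 ⟨hd6, by norm_num⟩
      rw [show Nat.divisors 6 = {1, 2, 3, 6} by decide] at this
      simp at this
      rcases this with e | e | e | e
      · exact hne2 (by rw [e]; norm_num)
      · exact hne2 (by rw [e])
      · exact hne3 (by rw [e])
      · omega
  · have hx9 : ∀ x : Grp K, x.right ^ 3 = 1 → x ^ (3 * 3) = 1 := fun x h => pow_three_mul h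
    set x : Grp K := ⟨Multiplicative.ofAdd (Matrix.single (1 : Fin 2) (1 : Fin 2) (1 : K)), ⟨hom K (up, 1), _, rfl⟩⟩
    refine ⟨x, ?_⟩
    have hr : x.right ^ 3 = 1 := Subtype.ext (by
      rw [SubgroupClass.coe_pow]
      show hom K (up, 1) ^ 3 = 1
      rw [← map_pow, Prod.pow_mk, hu3, one_pow]
      exact map_one _)
    refine orderOf_eq_prime_pow (p := 3) (n := 1) ?_ (by simpa using hx9 x hr)
    rw [pow_one]
    intro h
    have h' := congrArg (fun y : Grp K => Multiplicative.toAdd y.left) h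
    rw [(pow_data x 3).2] at h'
    have hi : ∀ i : ℕ, Multiplicative.toAdd ((x.right.1 ^ i) x.left) 0 0 = (i : K) * (i : K) ^ 3 := fun i => by
      show Multiplicative.toAdd ((hom K (up, 1) ^ i) (Multiplicative.ofAdd _)) 0 0 = _
      rw [← map_pow, hom_apply, Matrix.smul_apply, Prod.pow_mk, act_single, up_pow, one_pow]
      simp
    have e := congrFun (congrFun h' 0) 0
    simp only [Finset.sum_range_succ, Finset.sum_range_zero, zero_add, Matrix.add_apply, hi] at e
    simp at e
    exact h2 (by linear_combination e - 5 * h3)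
  · obtain ⟨a, ha⟩ := IsCyclic.exists_generator (α := Kˣ)
    have hoa : orderOf a = 3 ^ α - 1 := by
      rw [orderOf_eq_card_of_forall_mem_zpowers ha, Nat.card_eq_fintype_card, Fintype.card_units, hK]
    set g : Matrix.SpecialLinearGroup (Fin 2) K := ⟨!![(a : K), 0; 0, ((a⁻¹ : Kˣ) : K)], by simp [Matrix.det_fin_two]⟩
    convert hmem (g, -1) using 1
    have hgk : ∀ k : ℕ, (g ^ k).1 = !![((a ^ k : Kˣ) : K), 0; 0, ((a⁻¹ ^ k : Kˣ) : K)] := fun k => by
      induction k with
      | zero => ext i j; fin_cases i <;> fin_cases j <;> simp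
      | succ k ih =>
        rw [pow_succ, Matrix.SpecialLinearGroup.coe_mul, ih, pow_succ, pow_succ]
        ext i j
        fin_cases i <;> fin_cases j <;> simp [g, Matrix.mul_apply, Fin.sum_univ_two]
    refine Nat.dvd_antisymm ?_ (orderOf_dvd_of_pow_eq_one ?_)
    · set k := orderOf (hom K (g, (-1 : ℤˣ))) with hk
      have hone := hom_eq_one (p := (g, (-1 : ℤˣ)) ^ k) (by rw [map_pow, hk, pow_orderOf_eq_one])
      have e1 := congrFun (congrFun (hone (Matrix.single (0 : Fin 2) (0 : Fin 2) (1 : K))) 0) 0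
      have e2 := congrFun (congrFun (hone (Matrix.single (0 : Fin 2) (1 : Fin 2) (1 : K))) 0) 1
      rw [Matrix.smul_apply, Prod.pow_mk, act_single, hgk] at e1 e2
      simp [Matrix.single] at e1 e2
      have ha0 : (a : K) ^ k ≠ 0 := pow_ne_zero _ a.ne_zero
      have e6 : ((a : K) ^ k) ^ 6 = 1 := by
        field_simp at e2
        have hs : (((-1 : K)) ^ k) ^ 2 = 1 := by rw [← pow_mul, mul_comm, pow_mul, neg_one_sq, one_pow]
        have hsne : ((-1 : K)) ^ k ≠ 0 := fun h => by rw [h] at hs; simp at hs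
        refine mul_left_cancel₀ hsne ?_
        rw [mul_one]
        linear_combination ((a : K) ^ k) ^ 2 * e1 - e2
      have hd : 3 ^ α - 1 ∣ k * 6 := by
        rw [← hoa]
        refine orderOf_dvd_of_pow_eq_one (Units.ext ?_)
        rw [Units.val_pow_eq_pow_val, pow_mul, e6, Units.val_one]
      have hcop : Nat.Coprime (3 ^ α - 1) 3 := by
        rw [Nat.coprime_comm, Nat.prime_three.coprime_iff_not_dvd]
        have : 3 ∣ 3 ^ α := dvd_pow_self 3 (by omega)
        omega
      have hd2 : 3 ^ α - 1 ∣ k * 2 := hcop.dvd_of_dvd_mul_right (by rwa [mul_assoc])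
      obtain ⟨w, hw⟩ : (3 ^ α - 1) / 2 ∣ k := by
        refine Nat.dvd_of_mul_dvd_mul_right (by norm_num : 0 < 2) ?_
        rwa [show (3 ^ α - 1) / 2 * 2 = 3 ^ α - 1 by omega]
      have ha2 : ((a : K) ^ k) ^ 2 = 1 := by
        rw [← pow_mul]
        obtain ⟨v, hv⟩ := hd2
        rw [hv, ← hoa, pow_mul, ← Units.val_pow_eq_pow_val, pow_orderOf_eq_one, Units.val_one, one_pow]
      have hk2 : Even k := by
        by_contra hk2
        rw [Nat.not_even_iff_odd] at hk2
        rw [hk2.neg_one_pow] at e1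
        apply h2
        linear_combination -e1 - ((((a : K) ^ k) ^ 2) + 1) * ha2
      obtain ⟨w', hw'⟩ : Even w := by
        rw [hw] at hk2
        rcases Nat.even_mul.1 hk2 with h | h
        · exfalso; rw [Nat.even_iff] at h; omega
        · exact h
      refine ⟨w', ?_⟩
      rw [hw, hw', ← two_mul, ← mul_assoc, show (3 ^ α - 1) / 2 * 2 = 3 ^ α - 1 by omega]
    · rw [← map_pow, Prod.pow_mk, units_even _ (Nat.even_iff.2 (by omega))]
      have : g ^ (3 ^ α - 1) = 1 := Subtype.ext (by
        rw [hgk, inv_pow, ← hoa, pow_orderOf_eq_one, inv_one]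
        ext i j; fin_cases i <;> fin_cases j <;> simp)
      rw [this]
      exact map_one _
  · have hKodd : Odd (Fintype.card K) := by rw [hK]; exact Odd.pow (by decide)
    obtain ⟨T, hT⟩ := Lib.OddChar.SL2.exists_torus (F := K) hKodd
    obtain ⟨c, hc, -⟩ := hT.exists_generator
    have hoc : orderOf (c : Matrix.SpecialLinearGroup (Fin 2) K) = 3 ^ α + 1 := by
      rw [Subgroup.orderOf_coe, orderOf_eq_card_of_forall_mem_zpowers hc, hT.card, hK]
    convert hmem ((c : Matrix.SpecialLinearGroup (Fin 2) K), 1) using 1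
    refine Nat.dvd_antisymm ?_ (orderOf_dvd_of_pow_eq_one ?_)
    · set k := orderOf (hom K ((c : Matrix.SpecialLinearGroup (Fin 2) K), (1 : ℤˣ))) with hk
      set h : Matrix.SpecialLinearGroup (Fin 2) K := (c : Matrix.SpecialLinearGroup (Fin 2) K) ^ k with hh
      have hone : ∀ M, act K h M = M := fun M => by
        have := hom_eq_one (p := ((c : Matrix.SpecialLinearGroup (Fin 2) K), (1 : ℤˣ)) ^ k)
          (by rw [map_pow, hk, pow_orderOf_eq_one]) M
        simpa [Prod.pow_mk] using this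
      set Q := ((h : Matrix (Fin 2) (Fin 2) K).map (frobenius K 3))ᵀ
      have hQ : (h : Matrix (Fin 2) (Fin 2) K) * Q = 1 := by simpa [act] using hone 1
      have hcomm : ∀ M : Matrix (Fin 2) (Fin 2) K, (h : Matrix (Fin 2) (Fin 2) K) * M = M * h := fun M => by
        have e : (h : Matrix (Fin 2) (Fin 2) K) * M * Q = M := hone M
        calc (h : Matrix (Fin 2) (Fin 2) K) * M = h * M * (Q * h) := by rw [mul_eq_one_comm.1 hQ, Matrix.mul_one]
          _ = h * M * Q * h := by simp only [Matrix.mul_assoc]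
          _ = _ := by rw [e]
      have e01 := congrFun (congrFun (hcomm (Matrix.single (0 : Fin 2) (1 : Fin 2) (1 : K))) 0) 1
      have e00 := congrFun (congrFun (hcomm (Matrix.single (0 : Fin 2) (1 : Fin 2) (1 : K))) 0) 0
      have e10 := congrFun (congrFun (hcomm (Matrix.single (1 : Fin 2) (0 : Fin 2) (1 : K))) 0) 0
      simp [Matrix.mul_apply, Fin.sum_univ_two, Matrix.single] at e01 e00 e10
      have hd := h.det_coe
      rw [Matrix.det_fin_two] at hd
      have hsq : h ^ 2 = 1 := by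
        refine Subtype.ext ?_
        rw [Matrix.SpecialLinearGroup.coe_pow, Matrix.SpecialLinearGroup.coe_one, pow_two]
        ext i j
        fin_cases i <;> fin_cases j <;> simp only [Matrix.mul_apply, Fin.sum_univ_two, Fin.isValue, Fin.zero_eta,
          Fin.mk_one, Matrix.one_apply_eq, ne_eq, zero_ne_one, one_ne_zero, not_false_eq_true, Matrix.one_apply_ne]
        all_goals grind
      have hd2 : 3 ^ α + 1 ∣ k * 2 := by
        rw [← hoc]
        exact orderOf_dvd_of_pow_eq_one (by rw [pow_mul, ← hh, hsq])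
      refine Nat.dvd_of_mul_dvd_mul_right (by norm_num : 0 < 2) ?_
      rwa [show (3 ^ α + 1) / 2 * 2 = 3 ^ α + 1 by omega]
    · rw [← map_pow, Prod.pow_mk, one_pow]
      have hsq : ((c : Matrix.SpecialLinearGroup (Fin 2) K) ^ ((3 ^ α + 1) / 2)) ^ 2 = 1 := by
        rw [← pow_mul, show (3 ^ α + 1) / 2 * 2 = 3 ^ α + 1 by omega, ← hoc, pow_orderOf_eq_one]
      rcases sq_eq_one_cases h2 hsq with e | e <;> rw [e]
      · exact map_one _
      · rw [hom_neg_one]; exact map_one _

end aux


/-- Let q = 3^α with α ≥ 3 odd. There is a finite group H having a non-trivial normal 3-subgroup and whose element orders maximal under divisibility are exactly 6, 9, q − 1 and (q + 1)/2. -/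
theorem result (α : ℕ) (hα : 3 ≤ α) (hodd : Odd α) :
    ∃ (H : Type) (_ : Group H) (_ : Fintype H), (∃ P : Subgroup H, P.Normal ∧ P ≠ ⊥ ∧ IsPGroup 3 ↥P) ∧
      {n : ℕ | n ∈ Set.range (orderOf : H → ℕ) ∧ ∀ m ∈ Set.range (orderOf : H → ℕ), n ∣ m → m = n} = ({6, 9, 3 ^ α - 1, (3 ^ α + 1) / 2} : Set ℕ) := by
  classical
  set q := 3 ^ α with hqdef
  have hq27 : 27 ≤ q := by
    calc (27 : ℕ) = 3 ^ 3 := by norm_num
      _ ≤ q := Nat.pow_le_pow_right (by norm_num) hα
  have hmod : q % 8 = 3 := by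
    obtain ⟨j, rfl⟩ := hodd
    rw [hqdef, pow_succ, pow_mul, Nat.mul_mod, Nat.pow_mod]; norm_num
  have hmod3 : q % 3 = 0 := by
    obtain ⟨j, rfl⟩ := hodd
    rw [hqdef, pow_succ]; omega
  have : Fintype (GaloisField 3 α) := Fintype.ofFinite _
  have hK : Fintype.card (GaloisField 3 α) = q := by
    rw [← Nat.card_eq_fintype_card, GaloisField.card 3 α (by omega)]
  have : Finite (MulAut (Multiplicative (Matrix (Fin 2) (Fin 2) (GaloisField 3 α)))) :=
    Finite.of_injective (fun f => (f : _ → _)) DFunLike.coe_injective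
  have : Finite (Grp (GaloisField 3 α)) := Finite.of_equiv _ SemidirectProduct.equivProd.symm
  obtain ⟨h6, h9, hm, hp⟩ := exists_orders (K := GaloisField 3 α) (by omega) hodd hK
  refine ⟨Grp (GaloisField 3 α), inferInstance, Fintype.ofFinite _, exists_core, ?_⟩
  ext n
  simp only [Set.mem_setOf_eq, Set.mem_insert_iff, Set.mem_singleton_iff]
  have hmem : ∀ d ∈ [6, 9, q - 1, (q + 1) / 2], d ∈ Set.range (orderOf : Grp (GaloisField 3 α) → ℕ) := by
    intro d hd
    simp only [List.mem_cons, List.not_mem_nil, or_false] at hd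
    rcases hd with rfl | rfl | rfl | rfl
    exacts [h6, h9, hm, hp]
  have hcases : ∀ x : Grp (GaloisField 3 α), ∃ d ∈ [6, 9, q - 1, (q + 1) / 2], orderOf x ∣ d := by
    intro x
    rcases order_dichotomy (by omega) hodd hK x with h | h | h | h
    · exact ⟨6, by simp, orderOf_dvd_of_pow_eq_one h⟩
    · exact ⟨9, by simp, orderOf_dvd_of_pow_eq_one h⟩
    · exact ⟨q - 1, by simp, orderOf_dvd_of_pow_eq_one h⟩
    · exact ⟨(q + 1) / 2, by simp, orderOf_dvd_of_pow_eq_one h⟩
  have hincomp : ∀ a ∈ [6, 9, q - 1, (q + 1) / 2], ∀ b ∈ [6, 9, q - 1, (q + 1) / 2], a ∣ b → a = b := by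
    intro a ha b hb hab
    simp only [List.mem_cons, List.not_mem_nil, or_false] at ha hb
    have h3 : ∀ c, 3 ∣ c → ¬ c ∣ q - 1 ∧ ¬ c ∣ (q + 1) / 2 := fun c hc =>
      ⟨fun h => by have := hc.trans h; omega, fun h => by have := hc.trans h; omega⟩
    have hbig : ¬ q - 1 ∣ (q + 1) / 2 := fun h => by
      have := Nat.le_of_dvd (by omega) h; omega
    have hhalf : ¬ (q + 1) / 2 ∣ q - 1 := fun h => by
      have h2 : (q + 1) / 2 ∣ (q + 1) / 2 * 2 := dvd_mul_right _ _
      have := Nat.dvd_sub h2 h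
      rw [show (q + 1) / 2 * 2 - (q - 1) = 2 by omega] at this
      have := Nat.le_of_dvd (by omega) this
      omega
    rcases ha with rfl | rfl | rfl | rfl <;> rcases hb with rfl | rfl | rfl | rfl <;> try rfl
    all_goals first
      | exact absurd hab (h3 6 ⟨2, rfl⟩).1
      | exact absurd hab (h3 9 ⟨3, rfl⟩).1
      | exact absurd hab (h3 6 ⟨2, rfl⟩).2
      | exact absurd hab (h3 9 ⟨3, rfl⟩).2
      | exact absurd hab hbig
      | exact absurd hab hhalf
      | (have := Nat.le_of_dvd (by norm_num) hab; omega)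
      | omega
  constructor
  · rintro ⟨⟨x, rfl⟩, hmax⟩
    obtain ⟨d, hd, hxd⟩ := hcases x
    have := hmax d (hmem d hd) hxd
    rw [← this]
    simpa using hd
  · intro hn
    have hn' : n ∈ [6, 9, q - 1, (q + 1) / 2] := by simpa using hn
    refine ⟨hmem n hn', ?_⟩
    rintro m ⟨y, rfl⟩ hnm
    obtain ⟨d, hd, hyd⟩ := hcases y
    obtain rfl := hincomp n hn' d hd (hnm.trans hyd)
    exact Nat.dvd_antisymm hyd hnm

end Cfsg.Agent.S2515
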