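import Cfsg.Statements.S2516

set_option autoImplicit false
open Cfsg

namespace Cfsg.Agent.S2516

/-- Let F be a field of characteristic p > 0, V a non-zero finite-dimensional F-vector space, G a finite group and ρ a representation of G on V; form the semidirect product V ⋊ G. For g ∈ G of order k, the coset Vg contains an element of order pk if and only if the minimal polynomial of ρ(g) does not divide 1 + X + ⋯ + X^(k−1). -/
theorem result {F : Type*} [Field F] (p : ℕ) [Fact p.Prime] [CharP F p] {V : Type*} [AddCommGroup V] [Module F V] [FiniteDimensional F V] [Nontrivial V]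
    {G : Type*} [Group G] [Finite G] (ρ : Representation F G V) (g : G) :
    (∃ x : Multiplicative V ⋊[(MulAutMultiplicative V).symm.toMonoidHom.comp
        ((DistribMulAction.toAddAut ((V →ₗ[F] V)ˣ) V).comp ρ.asGroupHom)] G,
        x.right = g ∧ orderOf x = p * orderOf g) ↔
      ¬ (minpoly F (ρ g) ∣ ∑ i ∈ Finset.range (orderOf g), (Polynomial.X : Polynomial F) ^ i) := by
  classical
  let φ := (MulAutMultiplicative V).symm.toMonoidHom.comp
        ((DistribMulAction.toAddAut ((V →ₗ[F] V)ˣ) V).comp ρ.asGroupHom)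
  have hp : p.Prime := Fact.out
  set k := orderOf g with hk
  have hk0 : 0 < k := orderOf_pos g
  have hpow : ∀ (x : Multiplicative V ⋊[φ] G) (j : ℕ), (x ^ j).right = x.right ^ j ∧
      Multiplicative.toAdd (x ^ j).left = ∑ i ∈ Finset.range j, ((ρ x.right) ^ i) (Multiplicative.toAdd x.left) := by
    intro x j
    induction j with
    | zero => simp
    | succ j ih =>
      rw [pow_succ', SemidirectProduct.mul_right, SemidirectProduct.mul_left, ih.1, pow_succ' x.right]
      refine ⟨rfl, ?_⟩
      rw [toAdd_mul, show Multiplicative.toAdd (φ x.right (x ^ j).left) = ρ x.right (Multiplicative.toAdd (x ^ j).left) from rfl,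
        ih.2, map_sum, Finset.sum_range_succ', add_comm]
      simp [pow_succ']
  let S : V →ₗ[F] V := ∑ i ∈ Finset.range k, (ρ g) ^ i
  have hS : S = Polynomial.aeval (ρ g) (∑ i ∈ Finset.range k, (Polynomial.X : Polynomial F) ^ i) := by
    simp [S]
  rw [minpoly.dvd_iff, ← hS]
  have hxk : ∀ x : Multiplicative V ⋊[φ] G, x.right = g →
      (x ^ k = 1 ↔ S (Multiplicative.toAdd x.left) = 0) ∧ (x ^ k) ^ p = 1 := by
    intro x hx
    obtain ⟨hr, hl⟩ := hpow x k
    rw [hx, hk, pow_orderOf_eq_one, ← hk] at hr
    rw [hx] at hl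
    have hl' : Multiplicative.toAdd (x ^ k).left = S (Multiplicative.toAdd x.left) := by
      rw [hl]; simp [S]
    constructor
    · rw [← hl', SemidirectProduct.ext_iff]
      simp [hr]
    · obtain ⟨hr', hl''⟩ := hpow (x ^ k) p
      refine SemidirectProduct.ext ?_ (by rw [hr', hr, one_pow]; rfl)
      apply Multiplicative.toAdd.injective
      rw [hl'', hr, map_one]
      simp only [one_pow, Module.End.one_apply, Finset.sum_const, Finset.card_range]
      rw [← Nat.cast_smul_eq_nsmul F, CharP.cast_eq_zero F p, zero_smul]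
      rfl
  constructor
  · rintro ⟨x, hx, hord⟩ h0
    have := ((hxk x hx).1).mpr (by rw [h0]; rfl)
    have := Nat.le_of_dvd hk0 (hord ▸ orderOf_dvd_of_pow_eq_one this)
    nlinarith [hp.two_le]
  · intro hne
    obtain ⟨v, hv⟩ : ∃ v, S v ≠ 0 := by
      by_contra! h
      exact hne (LinearMap.ext h)
    refine ⟨(⟨Multiplicative.ofAdd v, g⟩ : Multiplicative V ⋊[φ] G), rfl, ?_⟩
    set x : Multiplicative V ⋊[φ] G := ⟨Multiplicative.ofAdd v, g⟩
    have h1 : orderOf (x ^ k) = p := orderOf_eq_prime (hxk x rfl).2 (fun h => hv ((hxk x rfl).1.mp h))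
    have hdvd : k ∣ orderOf x := by
      rw [hk]
      exact orderOf_map_dvd (SemidirectProduct.rightHom (φ := φ)) x
    rw [orderOf_pow_of_dvd hk0.ne' hdvd] at h1
    rw [← Nat.div_mul_cancel hdvd, h1]

end Cfsg.Agent.S2516
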