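import Cfsg.Statements.S2518
-- import your own Cfsg.Agent.* helpers here

import Cfsg.Agent.Lib.Recognition.G23Model
import Cfsg.Agent.Lib.Recognition.L213Orders
import Cfsg.Agent.Lib.ChevFix.Basic

set_option autoImplicit false
open Cfsg

namespace Cfsg.Agent.S2518

open Cfsg.Agent.Lib.Recognition Cfsg.Agent.Lib.Chev Cfsg.Agent.Lib.ChevFix
open scoped MatrixGroups

/-- Transport of the group along an isomorphism of fields. -/
noncomputable def groupEquiv {F K : Type*} [Field F] [Field K] (e : F ≃+* K) :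
    ↥(Cfsg.Lie.chevG2.group F) ≃* ↥(Cfsg.Lie.chevG2.group K) where
  toFun g := ⟨glMap _ e.toRingHom g.1, glMap_mem_group goodG2 _ g.2⟩
  invFun g := ⟨glMap _ e.symm.toRingHom g.1, glMap_mem_group goodG2 _ g.2⟩
  left_inv g := Subtype.ext (Units.ext (by rw [glMap_val, glMap_val]; ext i j; simp))
  right_inv g := Subtype.ext (Units.ext (by rw [glMap_val, glMap_val]; ext i j; simp))
  map_mul' g h := Subtype.ext (map_mul _ _ _)

/-- An element of order `q * p` yields an element of order `q` commuting with a given element of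
order `p`, when Sylow `p`-subgroups have order `p`. -/
theorem exists_commute_of_order {G : Type*} [Group G] [Finite G] {p q m : ℕ} (hp : p.Prime)
    (hq : q.Prime) (hcard : Nat.card G = p * m) (hm : ¬ p ∣ m) {x g : G} (hx : orderOf x = p)
    (hg : orderOf g = q * p) : ∃ y : G, orderOf y = q ∧ Commute y x := by
  haveI := Fact.mk hp
  have hm0 : m ≠ 0 := fun h => hm (h ▸ dvd_zero p)
  have hS : ∀ y : G, orderOf y = p →
      Nat.card (Subgroup.zpowers y) = p ^ (Nat.card G).factorization p := by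
    intro y hy
    rw [Nat.card_zpowers, hy, hcard, Nat.factorization_mul hp.ne_zero hm0, Finsupp.add_apply,
      Nat.Prime.factorization_self hp, Nat.factorization_eq_zero_of_not_dvd hm, add_zero, pow_one]
  have hgq : orderOf (g ^ q) = p := by
    rw [orderOf_pow' _ hq.ne_zero, hg, Nat.gcd_eq_right (dvd_mul_right q p),
      Nat.mul_div_cancel_left _ hq.pos]
  have hgp : orderOf (g ^ p) = q := by
    rw [orderOf_pow' _ hp.ne_zero, hg, Nat.gcd_eq_right (dvd_mul_left p q),
      Nat.mul_div_cancel _ hp.pos]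
  let P := Sylow.ofCard (Subgroup.zpowers (g ^ q)) (hS _ hgq)
  let Q := Sylow.ofCard (Subgroup.zpowers x) (hS x hx)
  obtain ⟨c, hc⟩ := MulAction.exists_smul_eq G P Q
  have hxm : x ∈ ((c • P : Sylow p G) : Subgroup G) := by
    rw [hc]; exact Subgroup.mem_zpowers _
  rw [Sylow.coe_subgroup_smul, Subgroup.pointwise_smul_def] at hxm
  obtain ⟨y, hy, hy'⟩ := Subgroup.mem_map.mp hxm
  obtain ⟨k, rfl⟩ := Subgroup.mem_zpowers_iff.mp hy
  refine ⟨c * g ^ p * c⁻¹, ?_, ?_⟩
  · have : c * g ^ p * c⁻¹ = (MulAut.conj c) (g ^ p) := rfl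
    rw [this, MulEquiv.orderOf_eq, hgp]
  · rw [← hy']
    have h : Commute (g ^ p) ((g ^ q) ^ k) :=
      (Commute.pow_pow (Commute.refl g) p q).zpow_right k
    exact h.map (MulAut.conj c).toMonoidHom

theorem g23_pairs {r s : ℕ} (hr : r.Prime) (hs : s.Prime) {g : G23.G23} (hg : orderOf g = r * s)
    (hrs : r ≠ s) : r * s = 6 := by
  have mem : ∀ p : ℕ, p.Prime → p ∣ orderOf g → p = 2 ∨ p = 3 ∨ p = 7 ∨ p = 13 := by
    intro p hp hd
    have hd' := hd.trans (orderOf_dvd_natCard g)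
    rw [G23.card_G23, show (4245696 : ℕ) = 2 ^ 6 * (3 ^ 6 * (7 * 13)) by norm_num] at hd'
    rcases hp.dvd_mul.mp hd' with h | h
    · exact Or.inl ((Nat.prime_dvd_prime_iff_eq hp Nat.prime_two).mp (hp.dvd_of_dvd_pow h))
    rcases hp.dvd_mul.mp h with h | h
    · exact Or.inr (Or.inl ((Nat.prime_dvd_prime_iff_eq hp Nat.prime_three).mp (hp.dvd_of_dvd_pow h)))
    rcases hp.dvd_mul.mp h with h | h
    · exact Or.inr (Or.inr (Or.inl ((Nat.prime_dvd_prime_iff_eq hp (by norm_num)).mp h)))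
    · exact Or.inr (Or.inr (Or.inr ((Nat.prime_dvd_prime_iff_eq hp (by norm_num)).mp h)))
  have no7 : ∀ q, q = 2 ∨ q = 3 → orderOf g ≠ q * 7 := by
    intro q hq h
    have hqp : q.Prime := by rcases hq with rfl | rfl <;> norm_num
    obtain ⟨y, hy, hc⟩ := exists_commute_of_order (m := 606528) (by norm_num) hqp
      (by rw [G23.card_G23]) (by norm_num) G23.eB_order h
    have h1 := G23.centralizer_B hc hq (hy ▸ pow_orderOf_eq_one y)
    rw [h1, orderOf_one] at hy
    exact hqp.ne_one hy.symm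
  have no13 : ∀ q, q = 2 ∨ q = 3 ∨ q = 7 → orderOf g ≠ q * 13 := by
    intro q hq h
    have hqp : q.Prime := by rcases hq with rfl | rfl | rfl <;> norm_num
    obtain ⟨y, hy, hc⟩ := exists_commute_of_order (m := 326592) (by norm_num) hqp
      (by rw [G23.card_G23]) (by norm_num) G23.eC_order h
    have h1 := G23.centralizer_C hc hq (hy ▸ pow_orderOf_eq_one y)
    rw [h1, orderOf_one] at hy
    exact hqp.ne_one hy.symm
  have hr' := mem r hr (hg ▸ dvd_mul_right r s)
  have hs' := mem s hs (hg ▸ dvd_mul_left s r)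
  have a := no7 2 (Or.inl rfl); have b := no7 3 (Or.inr rfl)
  have c := no13 2 (Or.inl rfl); have d := no13 3 (Or.inr (Or.inl rfl))
  have e := no13 7 (Or.inr (Or.inr rfl))
  rw [hg] at a b c d e
  rcases hr' with rfl | rfl | rfl | rfl <;> rcases hs' with rfl | rfl | rfl | rfl <;> omega

theorem l213_orders (g : L213.PSL213) : orderOf g ∣ 6 ∨ orderOf g ∣ 7 ∨ orderOf g ∣ 13 := by
  rcases L213.pow_cases g with h | h | h
  exacts [Or.inl (orderOf_dvd_of_pow_eq_one h), Or.inr (Or.inl (orderOf_dvd_of_pow_eq_one h)),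
    Or.inr (Or.inr (orderOf_dvd_of_pow_eq_one h))]

theorem l213_primes {r : ℕ} (hr : r.Prime) :
    r ∣ Nat.card L213.PSL213 ↔ r = 2 ∨ r = 3 ∨ r = 7 ∨ r = 13 := by
  constructor
  · intro h
    haveI := Fact.mk hr
    obtain ⟨g, hg⟩ := exists_prime_orderOf_dvd_card' r h
    rcases l213_orders g with h | h | h
    · rw [hg] at h
      rcases hr.dvd_mul.mp (show r ∣ 2 * 3 from h) with h | h
      · exact Or.inl ((Nat.prime_dvd_prime_iff_eq hr Nat.prime_two).mp h)
      · exact Or.inr (Or.inl ((Nat.prime_dvd_prime_iff_eq hr Nat.prime_three).mp h))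
    · rw [hg] at h
      exact Or.inr (Or.inr (Or.inl ((Nat.prime_dvd_prime_iff_eq hr (by norm_num)).mp h)))
    · rw [hg] at h
      exact Or.inr (Or.inr (Or.inr ((Nat.prime_dvd_prime_iff_eq hr (by norm_num)).mp h)))
  · obtain ⟨⟨a, ha⟩, ⟨b, hb⟩, ⟨c, hc⟩⟩ := L213.orders
    rintro (rfl | rfl | rfl | rfl)
    · exact (show 2 ∣ orderOf a by rw [ha]; norm_num).trans (orderOf_dvd_natCard a)
    · exact (show 3 ∣ orderOf a by rw [ha]; norm_num).trans (orderOf_dvd_natCard a)
    · exact (show 7 ∣ orderOf b by rw [hb]).trans (orderOf_dvd_natCard b)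
    · exact (show 13 ∣ orderOf c by rw [hc]).trans (orderOf_dvd_natCard c)

theorem g23_primes {r : ℕ} (hr : r.Prime) :
    r ∣ Nat.card G23.G23 ↔ r = 2 ∨ r = 3 ∨ r = 7 ∨ r = 13 := by
  rw [G23.card_G23, show (4245696 : ℕ) = 2 ^ 6 * (3 ^ 6 * (7 * 13)) by norm_num]
  constructor
  · intro h
    rcases hr.dvd_mul.mp h with h | h
    · exact Or.inl ((Nat.prime_dvd_prime_iff_eq hr Nat.prime_two).mp (hr.dvd_of_dvd_pow h))
    rcases hr.dvd_mul.mp h with h | h
    · exact Or.inr (Or.inl ((Nat.prime_dvd_prime_iff_eq hr Nat.prime_three).mp (hr.dvd_of_dvd_pow h)))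
    rcases hr.dvd_mul.mp h with h | h
    · exact Or.inr (Or.inr (Or.inl ((Nat.prime_dvd_prime_iff_eq hr (by norm_num)).mp h)))
    · exact Or.inr (Or.inr (Or.inr ((Nat.prime_dvd_prime_iff_eq hr (by norm_num)).mp h)))
  · rintro (rfl | rfl | rfl | rfl) <;> norm_num

theorem edge_g23 {r s : ℕ} (hr : r.Prime) (hs : s.Prime) (hrs : r ≠ s) :
    (∃ x : G23.G23, orderOf x = r * s) ↔ r * s = 6 :=
  ⟨fun ⟨_, hx⟩ => g23_pairs hr hs hx hrs, fun h => ⟨_, G23.eA_order.trans h.symm⟩⟩

theorem edge_l213 {r s : ℕ} (hr : r.Prime) (hs : s.Prime) (hrs : r ≠ s) :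
    (∃ x : L213.PSL213, orderOf x = r * s) ↔ r * s = 6 := by
  refine ⟨fun ⟨x, hx⟩ => ?_, fun h => let ⟨a, ha⟩ := L213.orders.1; ⟨a, ha.trans h.symm⟩⟩
  have no : ∀ p : ℕ, p.Prime → ¬ r * s ∣ p := fun p hp hd =>
    Nat.not_prime_mul hr.ne_one hs.ne_one
      (((Nat.dvd_prime hp).mp hd).resolve_left (fun h1 =>
        hr.ne_one (Nat.eq_one_of_mul_eq_one_right h1)) ▸ hp)
  rcases l213_orders x with h | h | h <;> rw [hx] at h
  · rcases (Nat.le_of_dvd (by norm_num) h).lt_or_eq with hl | hl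
    · have h2r := hr.two_le; have h2s := hs.two_le
      have hr3 : r ≤ 2 := by nlinarith
      have hs3 : s ≤ 2 := by nlinarith
      omega
    · exact hl
  · exact absurd h (no 7 (by norm_num))
  · exact absurd h (no 13 (by norm_num))

/-- The projective group along an isomorphism of fields. -/
noncomputable def pslEquiv {E : Type*} [Field E] (e : E ≃+* ZMod 13) :
    Matrix.ProjectiveSpecialLinearGroup (Fin 2) E ≃* L213.PSL213 :=
  let f : Matrix.SpecialLinearGroup (Fin 2) E ≃* L213.SL213 :=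
    { toFun := Matrix.SpecialLinearGroup.map e.toRingHom
      invFun := Matrix.SpecialLinearGroup.map e.symm.toRingHom
      left_inv := fun M => Subtype.ext (by ext i j; simp [Matrix.SpecialLinearGroup.map_apply_coe])
      right_inv := fun M => Subtype.ext (by ext i j; simp [Matrix.SpecialLinearGroup.map_apply_coe])
      map_mul' := map_mul _ }
  QuotientGroup.congr _ _ f (by
    ext x
    constructor
    · rintro ⟨y, hy, rfl⟩
      refine Subgroup.mem_center_iff.mpr fun z => ?_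
      obtain ⟨z', rfl⟩ := f.surjective z
      show f z' * f y = f y * f z'
      rw [← map_mul, ← map_mul, Subgroup.mem_center_iff.mp hy z']
    · intro hx
      obtain ⟨y, rfl⟩ := f.surjective x
      refine ⟨y, Subgroup.mem_center_iff.mpr fun z => f.injective ?_, rfl⟩
      rw [map_mul, map_mul]
      exact Subgroup.mem_center_iff.mp hx (f z))

/-- Let F₃ be the field with 3 elements and F₁₃ the field with 13 elements. The Chevalley group G₂(F₃) and PSL(2, F₁₃) have the same prime graph: the same prime divisors of their orders, and for distinct primes r, s an element of order rs in one iff in the other. -/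
theorem result {F : Type*} [Field F] [Fintype F] (hF : Fintype.card F = 3) {E : Type*} [Field E] [Fintype E] (hE : Fintype.card E = 13) :
    ((∀ r : ℕ, r.Prime → (r ∣ Nat.card ↥(Cfsg.Lie.chevG2.group F) ↔ r ∣ Nat.card (Matrix.ProjectiveSpecialLinearGroup (Fin 2) E))) ∧
      (∀ r s : ℕ, r.Prime → s.Prime → r ≠ s → ((∃ x : ↥(Cfsg.Lie.chevG2.group F), orderOf x = r * s) ↔ (∃ y : (Matrix.ProjectiveSpecialLinearGroup (Fin 2) E), orderOf y = r * s)))) := by
  classical
  obtain ⟨eF⟩ : Nonempty (F ≃+* ZMod 3) :=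
    ⟨FiniteField.ringEquivOfCardEq (K := F) (K' := ZMod 3) (by rw [hF, ZMod.card])⟩
  haveI : Fact (Nat.Prime 13) := ⟨by norm_num⟩
  obtain ⟨eE⟩ : Nonempty (E ≃+* ZMod 13) :=
    ⟨FiniteField.ringEquivOfCardEq (K := E) (K' := ZMod 13) (by rw [hE, ZMod.card])⟩
  let A := groupEquiv eF
  let B := pslEquiv eE
  refine ⟨fun r hr => ?_, fun r s hr hs hrs => ?_⟩
  · rw [Nat.card_congr A.toEquiv, Nat.card_congr B.toEquiv, g23_primes hr, l213_primes hr]
  · have h1 : (∃ x : ↥(Cfsg.Lie.chevG2.group F), orderOf x = r * s) ↔ r * s = 6 :=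
      ⟨fun ⟨x, hx⟩ => (edge_g23 hr hs hrs).mp ⟨A x, by rw [A.orderOf_eq, hx]⟩,
        fun h => let ⟨x, hx⟩ := (edge_g23 hr hs hrs).mpr h; ⟨A.symm x, by rw [A.symm.orderOf_eq, hx]⟩⟩
    have h2 : (∃ y : Matrix.ProjectiveSpecialLinearGroup (Fin 2) E, orderOf y = r * s) ↔ r * s = 6 :=
      ⟨fun ⟨x, hx⟩ => (edge_l213 hr hs hrs).mp ⟨B x, by rw [B.orderOf_eq, hx]⟩,
        fun h => let ⟨x, hx⟩ := (edge_l213 hr hs hrs).mpr h; ⟨B.symm x, by rw [B.symm.orderOf_eq, hx]⟩⟩
    rw [h1, h2]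

end Cfsg.Agent.S2518
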