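import Cfsg.Statements.S2530
import Cfsg.Agent.Lib.BNPair.Coxeter

set_option autoImplicit false
open Cfsg

namespace Cfsg.Agent.S2530

open Equiv

variable {n : ℕ}

/-- Adjacent transposition. -/
def adj (i : Fin n) : Perm (Fin (n + 1)) := swap i.castSucc i.succ

theorem adj_val (i : Fin n) (x : Fin (n + 1)) : ((adj i x : Fin (n + 1)) : ℕ) =
    if (x : ℕ) = i then (i : ℕ) + 1 else if (x : ℕ) = i + 1 then (i : ℕ) else (x : ℕ) := by
  unfold adj
  rw [swap_apply_def]
  simp only [Fin.ext_iff, Fin.val_castSucc, Fin.val_succ]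
  split_ifs <;> simp

/-- The inversions of a permutation. -/
def invSet (w : Perm (Fin (n + 1))) : Finset (Fin (n + 1) × Fin (n + 1)) :=
  Finset.univ.filter fun p => p.1 < p.2 ∧ w p.2 < w p.1

theorem mem_invSet (w : Perm (Fin (n + 1))) (a b : Fin (n + 1)) :
    (a, b) ∈ invSet w ↔ a < b ∧ w b < w a := by simp [invSet]

theorem invSet_adj_mul (i : Fin n) (w : Perm (Fin (n + 1))) (h : w.symm i.castSucc < w.symm i.succ) :
    invSet (adj i * w) = insert (w.symm i.castSucc, w.symm i.succ) (invSet w) ∧
      (w.symm i.castSucc, w.symm i.succ) ∉ invSet w := by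
  constructor
  · ext ⟨a, b⟩
    simp only [Finset.mem_insert, mem_invSet, Perm.mul_apply, Prod.mk.injEq, Equiv.eq_symm_apply]
    simp only [Fin.lt_def, adj_val, Fin.ext_iff, Fin.val_castSucc, Fin.val_succ]
    have hab : a ≠ b → (w a : ℕ) ≠ w b := fun hne e => hne (w.injective (Fin.ext e))
    have hord : ∀ x y : Fin (n + 1), (w x : ℕ) = i → (w y : ℕ) = i + 1 → (x : ℕ) < y := fun x y hx hy => by
      have ex : w.symm i.castSucc = x := by rw [Equiv.symm_apply_eq]; exact Fin.ext hx.symm
      have ey : w.symm i.succ = y := by rw [Equiv.symm_apply_eq]; exact Fin.ext hy.symm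
      rw [ex, ey] at h; exact h
    have h1 := hord a b
    have h2 := hord b a
    by_cases hne : a = b
    · subst hne; simp only [lt_self_iff_false, false_and, or_false, false_iff]; omega
    have := hab hne
    split_ifs <;> omega
  · rw [mem_invSet, apply_symm_apply, apply_symm_apply]
    intro hc
    exact absurd hc.2 (not_lt.mpr (Fin.castSucc_lt_succ (i := i)).le)

theorem invSet_adj_mul' (i : Fin n) (w : Perm (Fin (n + 1))) (h : w.symm i.succ < w.symm i.castSucc) :
    (invSet w).card = (invSet (adj i * w)).card + 1 := by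
  have hinv : adj i * (adj i * w) = w := by rw [← mul_assoc, adj, swap_mul_self, one_mul]
  have e1 : (adj i * w).symm i.castSucc = w.symm i.succ := by
    rw [Equiv.symm_apply_eq, Perm.mul_apply, apply_symm_apply, adj, swap_apply_right]
  have e2 : (adj i * w).symm i.succ = w.symm i.castSucc := by
    rw [Equiv.symm_apply_eq, Perm.mul_apply, apply_symm_apply, adj, swap_apply_left]
  obtain ⟨h1, h2⟩ := invSet_adj_mul i (adj i * w) (by rw [e1, e2]; exact h)
  rw [hinv] at h1
  rw [h1, Finset.card_insert_of_notMem h2]

theorem card_invSet_adj_mul (i : Fin n) (w : Perm (Fin (n + 1))) :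
    ((invSet (adj i * w)).card = (invSet w).card + 1 ∧ w.symm i.castSucc < w.symm i.succ) ∨
      ((invSet (adj i * w)).card + 1 = (invSet w).card ∧ w.symm i.succ < w.symm i.castSucc) := by
  rcases lt_trichotomy (w.symm i.castSucc) (w.symm i.succ) with h | h | h
  · obtain ⟨h1, h2⟩ := invSet_adj_mul i w h
    exact Or.inl ⟨by rw [h1, Finset.card_insert_of_notMem h2], h⟩
  · exact absurd (w.symm.injective h) (Fin.castSucc_lt_succ (i := i)).ne
  · exact Or.inr ⟨(invSet_adj_mul' i w h).symm, h⟩

theorem exchange : ∀ (ω : List (Fin n)) (x y : Fin (n + 1)), x < y →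
    ((ω.map adj).prod).symm y < ((ω.map adj).prod).symm x →
    ∃ j < ω.length, swap x y * (ω.map adj).prod = ((ω.eraseIdx j).map adj).prod
  | [], x, y, hxy, h => absurd h (not_lt.mpr hxy.le)
  | a :: ω, x, y, hxy, h => by
    rw [List.map_cons, List.prod_cons] at h ⊢
    by_cases hxa : x = a.castSucc ∧ y = a.succ
    · obtain ⟨rfl, rfl⟩ := hxa
      exact ⟨0, by simp, by rw [← mul_assoc, adj, swap_mul_self, one_mul]; simp⟩
    · have hlt : adj a x < adj a y := by
        simp only [Fin.lt_def, adj_val]
        simp only [Fin.ext_iff, Fin.val_castSucc, Fin.val_succ] at hxa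
        have : (x : ℕ) < y := hxy
        split_ifs <;> omega
      have hs : ∀ z, ((adj a * (ω.map adj).prod).symm z) = ((ω.map adj).prod).symm (adj a z) := by
        intro z
        rw [Equiv.symm_apply_eq, Perm.mul_apply, apply_symm_apply, ← Perm.mul_apply, adj, swap_mul_self, Perm.one_apply]
      rw [hs, hs] at h
      obtain ⟨j, hj, e⟩ := exchange ω _ _ hlt h
      refine ⟨j + 1, by simpa using hj, ?_⟩
      rw [List.eraseIdx_cons_succ, List.map_cons, List.prod_cons, ← e, ← mul_assoc, ← mul_assoc]
      congr 1
      rw [mul_swap_eq_swap_mul (adj a) (adj a x) (adj a y)]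
      simp [adj]

theorem eq_one_of_no_descent (w : Perm (Fin (n + 1))) (h : ∀ i : Fin n, w.symm i.castSucc < w.symm i.succ) :
    w = 1 := by
  have hm : StrictMono w.symm := Fin.strictMono_iff_lt_succ.mpr h
  have : (w.symm : Fin (n + 1) → Fin (n + 1)) = id :=
    hm.range_inj strictMono_id |>.mp (by rw [Set.range_id]; exact w.symm.surjective.range_eq)
  ext x
  have e : w.symm (w x) = w x := congrFun this (w x)
  rw [symm_apply_apply] at e
  simp [← e]

/-- The symmetric group satisfies the exchange condition. -/
def exData (n : ℕ) : Cfsg.Agent.Lib.BNPair.ExchangeData (Perm (Fin (n + 1))) (Fin n) where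
  gen := adj
  len w := (invSet w).card
  sq i := swap_mul_self _ _
  ne_one i := fun e => by
    have := congrArg (fun p : Perm (Fin (n + 1)) => p i.castSucc) e
    simp [adj] at this
    exact (Fin.castSucc_lt_succ (i := i)).ne' this
  gen_inj i j e := by
    have h := congrArg (fun p : Perm (Fin (n + 1)) => ((p i.castSucc : Fin (n + 1)) : ℕ)) e
    simp only [adj_val, Fin.val_castSucc] at h
    refine Fin.ext ?_
    split_ifs at h <;> omega
  len_one := by
    rw [Finset.card_eq_zero, invSet, Finset.filter_eq_empty_iff]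
    intro p _ h
    exact absurd h.2 (not_lt.mpr h.1.le)
  exists_word := by
    intro w
    generalize hk : (invSet w).card = k
    induction k generalizing w with
    | zero =>
      refine ⟨[], rfl, ?_⟩
      rw [List.map_nil, List.prod_nil]
      refine (eq_one_of_no_descent w fun i => ?_).symm
      rcases card_invSet_adj_mul i w with ⟨-, h⟩ | ⟨h, -⟩
      · exact h
      · omega
    | succ k ih =>
      by_cases hd : ∀ i : Fin n, w.symm i.castSucc < w.symm i.succ
      · exfalso
        rw [eq_one_of_no_descent w hd, Finset.card_eq_succ] at hk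
        obtain ⟨a, t, -, e, -⟩ := hk
        have : a ∈ invSet (1 : Perm (Fin (n + 1))) := e ▸ Finset.mem_insert_self a t
        rw [mem_invSet] at this
        exact absurd this.2 (not_lt.mpr this.1.le)
      · push Not at hd
        obtain ⟨i, hi⟩ := hd
        rcases card_invSet_adj_mul i w with ⟨-, h⟩ | ⟨h, -⟩
        · exact absurd h (not_lt.mpr hi)
        · obtain ⟨ω, hω, e⟩ := ih (adj i * w) (by omega)
          exact ⟨i :: ω, by simp [hω], by rw [List.map_cons, List.prod_cons, e, ← mul_assoc, adj, swap_mul_self, one_mul]⟩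
  len_le ω := by
    induction ω with
    | nil =>
      simp only [List.map_nil, List.prod_nil, List.length_nil, nonpos_iff_eq_zero, Finset.card_eq_zero, invSet,
        Finset.filter_eq_empty_iff]
      intro p _ h
      exact absurd h.2 (not_lt.mpr h.1.le)
    | cons a ω ih =>
      rw [List.map_cons, List.prod_cons, List.length_cons]
      rcases card_invSet_adj_mul a (ω.map adj).prod with ⟨h, -⟩ | ⟨h, -⟩ <;> omega
  len_mul_ne i w := by rcases card_invSet_adj_mul i w with ⟨h, -⟩ | ⟨h, -⟩ <;> omega
  exch ω i hred h := by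
    refine exchange ω i.castSucc i.succ (Fin.castSucc_lt_succ (i := i)) ?_
    rcases card_invSet_adj_mul i (ω.map adj).prod with ⟨h', -⟩ | ⟨-, h'⟩
    · omega
    · exact h'

theorem adj_mul_apply_three (i j : Fin n) (hij : (i : ℕ) + 1 = j) : orderOf (adj i * adj j) = 3 := by
  have e : i.succ = j.castSucc := Fin.ext (by simpa using hij)
  rw [adj, adj, ← e, swap_comm i.castSucc i.succ]
  refine (Perm.isThreeCycle_swap_mul_swap_same ?_ ?_ ?_).orderOf
  · exact (Fin.castSucc_lt_succ (i := i)).ne'
  · intro h; simp [Fin.ext_iff] at h; omega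
  · intro h; simp [Fin.ext_iff] at h; omega

theorem cmatrix_eq (n : ℕ) : (exData n).cmatrix = CoxeterMatrix.A n := by
  ext i j
  rw [Cfsg.Agent.Lib.BNPair.ExchangeData.cmatrix_apply]
  show orderOf (adj i * adj j) = if i = j then 1 else (if (j : ℕ) + 1 = i ∨ (i : ℕ) + 1 = j then 3 else 2)
  split_ifs with h1 h2
  · rw [h1, adj, swap_mul_self, orderOf_one]
  · rcases h2 with h2 | h2
    · rw [← orderOf_inv, _root_.mul_inv_rev, adj, adj, swap_inv, swap_inv]
      exact adj_mul_apply_three j i h2
    · exact adj_mul_apply_three i j h2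
  · have h1' : (i : ℕ) ≠ j := fun e => h1 (Fin.ext e)
    refine orderOf_eq_prime ?_ ?_
    · have hfix : ∀ z : Fin (n + 1), (z = j.castSucc ∨ z = j.succ) → adj i z = z := by
        intro z hz
        refine Fin.ext ?_
        rw [adj_val]
        rcases hz with rfl | rfl <;> simp only [Fin.val_castSucc, Fin.val_succ] <;> split_ifs <;> omega
      have hc : adj i * adj j = adj j * adj i := by
        show adj i * swap j.castSucc j.succ = _
        rw [mul_swap_eq_swap_mul, hfix _ (Or.inl rfl), hfix _ (Or.inr rfl)]
        rfl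
      rw [pow_two]
      calc adj i * adj j * (adj i * adj j) = adj i * (adj j * adj i) * adj j := by group
        _ = adj i * (adj i * adj j) * adj j := by rw [hc]
        _ = (adj i * adj i) * (adj j * adj j) := by group
        _ = 1 := by rw [adj, adj, swap_mul_self, swap_mul_self, one_mul]
    · intro e
      have := congrArg (fun p : Perm (Fin (n + 1)) => ((p j.succ : Fin (n + 1)) : ℕ)) e
      simp only [Perm.mul_apply, Perm.one_apply, adj_val, Fin.val_succ] at this
      split_ifs at this <;> omega

/-- The Coxeter presentation of the symmetric group: for every n, the symmetric group on n+1 letters is the Coxeter group of type A_n with the adjacent transpositions (i, i+1) as simple reflections; that is, it is presented by generators r_1, …, r_n subject to r_i² = 1, (r_i r_j)² = 1 for |i − j| > 1 and (r_i r_{i+1})³ = 1, with r_i mapping to (i, i+1). -/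
theorem result (n : ℕ) :
    ∃ cs : CoxeterSystem (CoxeterMatrix.A n) (Equiv.Perm (Fin (n + 1))), ∀ i : Fin n, cs.simple i = Equiv.swap i.castSucc i.succ := by
  obtain ⟨cs, hcs⟩ : ∃ cs : CoxeterSystem (exData n).cmatrix (Equiv.Perm (Fin (n + 1))),
      ∀ i : Fin n, cs.simple i = Equiv.swap i.castSucc i.succ :=
    ⟨(exData n).system, fun i => (exData n).system_simple i⟩
  revert cs
  rw [cmatrix_eq]
  exact fun cs h => ⟨cs, h⟩

end Cfsg.Agent.S2530
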