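import Cfsg.Statements.S2531

set_option autoImplicit false
open Cfsg

namespace Cfsg.Agent.S2531

/-- The points of a subspace are congruent to one modulo the characteristic. -/
theorem card_points {F : Type*} [Field F] [Finite F] (p : ℕ) (hp : (Nat.card F : ZMod p) = 0) {V : Type*}
    [AddCommGroup V] [Module F V] [Module.Finite F V] (W : Submodule F V) (hW : 0 < Module.finrank F W) :
    (Nat.card {x : Projectivization F V // x.rep ∈ W} : ZMod p) = 1 := by
  haveI : Finite V := Module.finite_of_finite F
  have hinj : Function.Injective W.subtype := W.injective_subtype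
  have hr : ∀ x : Projectivization F V, x.rep ∈ W ↔ ∃ y, Projectivization.map W.subtype hinj y = x := by
    intro x
    constructor
    · intro h
      refine ⟨Projectivization.mk F (⟨x.rep, h⟩ : W) (fun e => x.rep_nonzero (congrArg Subtype.val e)), ?_⟩
      rw [Projectivization.map_mk]
      exact x.mk_rep
    · rintro ⟨y, rfl⟩
      induction y using Projectivization.ind with
      | h v hv =>
        rw [Projectivization.map_mk]
        obtain ⟨c, hc⟩ := Projectivization.exists_smul_eq_mk_rep F (W.subtype v)
          (fun e => hv (Subtype.ext e))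
        rw [← hc]
        exact W.smul_mem _ v.2
  have hc : Nat.card {x : Projectivization F V // x.rep ∈ W} = Nat.card (Projectivization F W) := by
    rw [show Nat.card {x : Projectivization F V // x.rep ∈ W} =
      Nat.card (Set.range (Projectivization.map W.subtype hinj)) from
        Nat.card_congr (Equiv.subtypeEquivRight hr), Nat.card_range_of_injective
          (Projectivization.map_injective (τ := RingHom.id F) _ hinj)]
  have h := Projectivization.card F W
  have hV : (Nat.card W : ZMod p) = 0 := by
    rw [Module.natCard_eq_pow_finrank (K := F), Nat.cast_pow, hp, zero_pow hW.ne']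
  have hpos : 0 < Nat.card F := Nat.card_pos
  have hsum : Nat.card W + Nat.card (Projectivization F W) =
      Nat.card (Projectivization F W) * Nat.card F + 1 := by
    have : 0 < Nat.card W := Nat.card_pos
    have e : Nat.card W - 1 = Nat.card (Projectivization F W) * (Nat.card F - 1) := by
      linarith
    rw [Nat.mul_sub, mul_one] at e
    have := Nat.le_mul_of_pos_right (Nat.card (Projectivization F W)) hpos
    omega
  rw [hc]
  have := congrArg (Nat.cast : ℕ → ZMod p) hsum
  push_cast at this
  rw [hV, hp, zero_add, mul_zero, zero_add] at this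
  exact this


/-- Let `F` be a finite field and `n ≥ 3`. No set of permutations of the points of the projective space of `Fⁿ`, each induced by an invertible semilinear transformation of `Fⁿ` (so a subset of the full projective semilinear group), is sharply 2-transitive on the points: it is impossible that for all pairs of distinct points `(a, b)` and `(c, d)` exactly one member of the set sends `a` to `c` and `b` to `d`. -/
theorem result {F : Type*} [Field F] [Finite F]
    (n : ℕ) (hn : 3 ≤ n) (S : Set (Equiv.Perm (Projectivization F (Fin n → F))))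
    (hS : ∀ s ∈ S, ∃ (σ : F ≃+* F) (f : (Fin n → F) →ₛₗ[(σ : F →+* F)] (Fin n → F)) (hf : Function.Injective f),
      ∀ x, s x = Projectivization.map f hf x) :
    ¬ (∀ a b c d : Projectivization F (Fin n → F), a ≠ b → c ≠ d →
        ∃! s, s ∈ S ∧ s a = c ∧ s b = d) := by
  classical
  intro h
  obtain ⟨p, hchar⟩ := CharP.exists F
  haveI : Fintype F := Fintype.ofFinite F
  obtain ⟨k, hp, hk⟩ := FiniteField.card F p
  haveI : Fact p.Prime := ⟨hp⟩
  have hq : (Nat.card F : ZMod p) = 0 := by
    rw [Nat.card_eq_fintype_card, hk, Nat.cast_pow, ZMod.natCast_self, zero_pow k.ne_zero]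
  haveI : Finite (Projectivization F (Fin n → F)) := Quotient.finite _
  haveI : Fintype (Projectivization F (Fin n → F)) := Fintype.ofFinite _
  let i₀ : Fin n := ⟨0, by omega⟩
  let H : Submodule F (Fin n → F) := LinearMap.ker (LinearMap.proj i₀ : (Fin n → F) →ₗ[F] F)
  let w : Fin n → F := Pi.single i₀ 1
  have hw : w ≠ 0 := by simp [w]
  let a := Projectivization.mk F w hw
  have ha : a.rep ∉ H := by
    obtain ⟨c, hc⟩ := Projectivization.exists_smul_eq_mk_rep F w hw
    rw [← hc]
    simp [H, w, Units.smul_def]
  have hH : Module.finrank F H = n - 1 := by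
    have h1 := LinearMap.finrank_range_add_finrank_ker (LinearMap.proj i₀ : (Fin n → F) →ₗ[F] F)
    rw [LinearMap.range_eq_top.2 (fun c => ⟨Pi.single i₀ c, by simp⟩), finrank_top,
      Module.finrank_self, Module.finrank_fintype_fun_eq_card, Fintype.card_fin] at h1
    show Module.finrank F (LinearMap.ker (LinearMap.proj i₀ : (Fin n → F) →ₗ[F] F)) = n - 1
    omega
  let Hs := Finset.univ.filter fun x : Projectivization F (Fin n → F) => x.rep ∈ H
  let Φ := Finset.univ.filter fun x : Projectivization F (Fin n → F) => x.rep ∉ H ∧ x ≠ a
  have hHs : ((Hs.card : ℕ) : ZMod p) = 1 := by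
    rw [show Hs.card = Nat.card {x : Projectivization F (Fin n → F) // x.rep ∈ H} by
      rw [Nat.card_eq_fintype_card, Fintype.card_subtype]]
    exact card_points p hq H (by omega)
  have hΦ : ((Φ.card : ℕ) : ZMod p) = -1 := by
    have hall : ((Fintype.card (Projectivization F (Fin n → F)) : ℕ) : ZMod p) = 1 := by
      rw [← Nat.card_eq_fintype_card, ← Nat.card_congr
        (Equiv.subtypeUnivEquiv (p := fun x : Projectivization F (Fin n → F) => x.rep ∈ (⊤ : Submodule F (Fin n → F)))
          fun x => Submodule.mem_top)]
      exact card_points p hq ⊤ (by simp; omega)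
    have he : Fintype.card (Projectivization F (Fin n → F)) = Hs.card + (Φ.card + 1) := by
      rw [← Finset.card_univ, ← Finset.card_filter_add_card_filter_not (fun x => x.rep ∈ H)]
      congr 1
      rw [show Φ = (Finset.univ.filter fun x => ¬ x.rep ∈ H).erase a by ext x; simp [Φ, and_comm]]
      rw [Finset.card_erase_add_one (by simp [ha])]
    rw [he] at hall
    push_cast at hall
    rw [hHs] at hall
    linear_combination hall
  let R := Finset.univ.filter fun s => s ∈ S ∧ s a = a
  have huniq : ∀ x ∈ Hs, ∀ y ∈ Φ, (R.filter fun s => s x = y).card = 1 := by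
    intro x hx y hy
    obtain ⟨s, hs, hu⟩ := h a x a y (fun e => ha (by rw [e]; exact (Finset.mem_filter.1 hx).2))
      (Ne.symm (Finset.mem_filter.1 hy).2.2)
    rw [Finset.card_eq_one]
    refine ⟨s, Finset.eq_singleton_iff_unique_mem.2 ⟨by simp [R, hs.1, hs.2.1, hs.2.2], fun z hz => ?_⟩⟩
    simp only [R, Finset.mem_filter, Finset.mem_univ, true_and] at hz
    exact hu z ⟨hz.1.1, hz.1.2, hz.2⟩
  have hzero : ∀ s ∈ R, (((Hs.filter fun x => s x ∈ Φ).card : ℕ) : ZMod p) = 0 := by
    intro s hs
    simp only [R, Finset.mem_filter, Finset.mem_univ, true_and] at hs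
    obtain ⟨σ, f, hf, hfs⟩ := hS s hs.1
    have hbij : Function.Bijective f := Finite.injective_iff_bijective.1 hf
    let H' : Submodule F (Fin n → F) := H.comap f
    have hH' : Module.finrank F H' = n - 1 := by
      have hc : Nat.card H' = Nat.card H :=
        Nat.card_congr ((Equiv.ofBijective f hbij).subtypeEquiv fun _ => Iff.rfl)
      rw [Module.natCard_eq_pow_finrank (K := F), Module.natCard_eq_pow_finrank (K := F) (V := H), hH] at hc
      exact Nat.pow_right_injective Finite.one_lt_card hc
    have hmem : ∀ x, (s x).rep ∈ H ↔ x.rep ∈ H' := by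
      intro x
      have e : s x = Projectivization.mk F (f x.rep) (map_zero f ▸ hf.ne x.rep_nonzero) := by
        rw [hfs x]
        conv_lhs => rw [← x.mk_rep]
        rfl
      obtain ⟨c, hc⟩ := Projectivization.exists_smul_eq_mk_rep F (f x.rep) (map_zero f ▸ hf.ne x.rep_nonzero)
      rw [e, ← hc]
      exact H.smul_mem_iff' c
    have hI : 0 < Module.finrank F ↥(H ⊓ H') := by
      have h1 := Submodule.finrank_sup_add_finrank_inf_eq H H'
      have h2 := Submodule.finrank_le (H ⊔ H')
      rw [Module.finrank_fintype_fun_eq_card, Fintype.card_fin] at h2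
      omega
    have hcard : ((((Hs.filter fun x => (s x).rep ∈ H)).card : ℕ) : ZMod p) = 1 := by
      rw [show (Hs.filter fun x => (s x).rep ∈ H).card =
          Nat.card {x : Projectivization F (Fin n → F) // x.rep ∈ H ⊓ H'} by
        rw [Nat.card_eq_fintype_card, Fintype.card_subtype]
        congr 1
        ext x
        simp [Hs, hmem]]
      exact card_points p hq _ hI
    have hsplit : (Hs.filter fun x => s x ∈ Φ).card + (Hs.filter fun x => (s x).rep ∈ H).card = Hs.card := by
      rw [add_comm, show (Hs.filter fun x => s x ∈ Φ) = Hs.filter fun x => ¬ (s x).rep ∈ H from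
        Finset.filter_congr fun x hx => by
          simp only [Φ, Finset.mem_filter, Finset.mem_univ, true_and, and_iff_left_iff_imp]
          intro _ e
          have : x = a := s.injective (e.trans hs.2.symm)
          exact ha (this ▸ (Finset.mem_filter.1 hx).2)]
      exact Finset.card_filter_add_card_filter_not _
    have := congrArg (Nat.cast : ℕ → ZMod p) hsplit
    push_cast at this
    rw [hcard, hHs] at this
    linear_combination this
  have hcount : Hs.card * Φ.card = ∑ s ∈ R, (Hs.filter fun x => s x ∈ Φ).card := by
    calc Hs.card * Φ.card = ∑ x ∈ Hs, ∑ y ∈ Φ, (R.filter fun s => s x = y).card := by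
          rw [Finset.sum_congr rfl fun x hx => Finset.sum_congr rfl fun y hy => huniq x hx y hy]
          simp
      _ = ∑ x ∈ Hs, (R.filter fun s => s x ∈ Φ).card := by
          refine Finset.sum_congr rfl fun x _ => ?_
          rw [Finset.card_eq_sum_card_fiberwise (s := R.filter fun s => s x ∈ Φ) (f := fun s => s x)
            (t := Φ) (fun s hs => (Finset.mem_filter.1 hs).2)]
          refine Finset.sum_congr rfl fun y hy => ?_
          refine congrArg Finset.card (Finset.ext fun s => ?_)
          simp only [Finset.mem_filter]
          exact ⟨fun e => ⟨⟨e.1, e.2.symm ▸ hy⟩, e.2⟩, fun e => ⟨e.1.1, e.2⟩⟩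
      _ = _ := by simp only [Finset.card_filter]; rw [Finset.sum_comm]
  have := congrArg (Nat.cast : ℕ → ZMod p) hcount
  push_cast at this
  rw [hHs, hΦ, Finset.sum_eq_zero hzero] at this
  exact one_ne_zero (show (1 : ZMod p) = 0 by linear_combination -this)

end Cfsg.Agent.S2531
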