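import Cfsg.Statements.S2532

set_option autoImplicit false
open Cfsg

namespace Cfsg.Agent.S2532

/-- A homomorphism from an alternating group to `ℤˣ` is trivial. -/
private theorem hom_eq_one {r : ℕ} (ε : alternatingGroup (Fin r) →* ℤˣ) (g : alternatingGroup (Fin r)) : ε g = 1 := by
  have hmem : (g : Equiv.Perm (Fin r)) ∈ Subgroup.closure {σ : Equiv.Perm (Fin r) | σ.IsThreeCycle} := by
    rw [Equiv.Perm.closure_three_cycles_eq_alternating]
    exact g.2
  suffices h : ∀ σ ∈ Subgroup.closure {σ : Equiv.Perm (Fin r) | σ.IsThreeCycle}, ∀ hσ : σ ∈ alternatingGroup (Fin r), ε ⟨σ, hσ⟩ = 1 from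
    h g hmem g.2
  intro σ hσ
  induction hσ using Subgroup.closure_induction with
  | mem x hx =>
    intro hσ
    have h3 : (⟨x, hσ⟩ : alternatingGroup (Fin r)) ^ 3 = 1 := Subtype.ext (by
      have := pow_orderOf_eq_one x
      rwa [Equiv.Perm.IsThreeCycle.orderOf hx] at this)
    have h := congrArg ε h3
    rw [map_pow, map_one] at h
    rcases Int.units_eq_one_or (ε ⟨x, hσ⟩) with e | e
    · exact e
    · rw [e] at h; exact absurd h (by decide)
  | one => exact fun _ => map_one ε
  | mul x y hx hy h1 h2 =>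
    intro hσ
    have hx' : x ∈ alternatingGroup (Fin r) := (Equiv.Perm.closure_three_cycles_eq_alternating (α := Fin r)).le hx
    have hy' : y ∈ alternatingGroup (Fin r) := (Equiv.Perm.closure_three_cycles_eq_alternating (α := Fin r)).le hy
    rw [show (⟨x * y, hσ⟩ : alternatingGroup (Fin r)) = ⟨x, hx'⟩ * ⟨y, hy'⟩ from rfl, map_mul, h1, h2, mul_one]
  | inv x hx h1 =>
    intro hσ
    have hx' : x ∈ alternatingGroup (Fin r) := by simpa using inv_mem hσ
    rw [show (⟨x⁻¹, hσ⟩ : alternatingGroup (Fin r)) = (⟨x, hx'⟩)⁻¹ from rfl, map_inv, h1, inv_one]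


/-- There is a function `f` of two natural-number arguments such that, whenever `m ≥ f(n, r)`, every subgroup of order `n` of the alternating group of degree `m` centralizes some subgroup of that alternating group isomorphic to the alternating group of degree `r`. -/
theorem result :
    ∃ f : ℕ → ℕ → ℕ, ∀ (m r : ℕ) (H : Subgroup ↥(alternatingGroup (Fin m))), f (Nat.card H) r ≤ m →
      ∃ K : Subgroup ↥(alternatingGroup (Fin m)), Nonempty (↥K ≃* ↥(alternatingGroup (Fin r))) ∧
        K ≤ Subgroup.centralizer (H : Set ↥(alternatingGroup (Fin m))) := by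
  classical
  refine ⟨fun n r => n * (2 ^ n * r) + 1, fun m r H hm => ?_⟩
  let Ω := Quotient (MulAction.orbitRel H (Fin m))
  have hcover : m ≤ Fintype.card Ω * Nat.card H := by
    have hs : Function.Surjective fun p : Ω × H => p.2 • p.1.out := by
      intro y
      have hy : (⟦y⟧ : Ω).out ∈ MulAction.orbit H y := MulAction.orbitRel_apply.mp (Quotient.mk_out (s := MulAction.orbitRel H (Fin m)) y)
      obtain ⟨h, hh⟩ := hy
      exact ⟨(⟦y⟧, h⁻¹), inv_smul_eq_iff.mpr hh.symm⟩
    have := Fintype.card_le_of_surjective _ hs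
    rwa [Fintype.card_fin, Fintype.card_prod, ← Nat.card_eq_fintype_card (α := H)] at this
  have hsub : Fintype.card (Subgroup H) ≤ 2 ^ Nat.card H := by
    rw [Nat.card_eq_fintype_card (α := H), ← Fintype.card_set]
    exact Fintype.card_le_of_injective _ SetLike.coe_injective
  obtain ⟨S, hS⟩ := Fintype.exists_le_card_fiber_of_mul_le_card (f := fun ω : Ω => MulAction.stabilizer H ω.out) (n := r) (by
    have h1 : Nat.card H * (2 ^ Nat.card H * r) + 1 ≤ Fintype.card Ω * Nat.card H := hm.trans hcover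
    have h2 : Fintype.card (Subgroup H) * r ≤ 2 ^ Nat.card H * r := Nat.mul_le_mul_right r hsub
    have h3 : Nat.card H * (2 ^ Nat.card H * r) < Nat.card H * Fintype.card Ω := by linarith
    exact h2.trans (Nat.lt_of_mul_lt_mul_left h3).le)
  obtain ⟨ι⟩ := Function.Embedding.nonempty_of_card_le (α := Fin r)
    (β := {ω : Ω // MulAction.stabilizer H ω.out = S}) (by rw [Fintype.card_fin, Fintype.card_subtype]; exact hS)
  let e₀ : Fin r × (H ⧸ S) → Fin m := fun z => Quotient.liftOn z.2 (fun h => h • (ι z.1).1.out) fun a b hab => by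
    have hs : a⁻¹ * b ∈ MulAction.stabilizer H (ι z.1).1.out := (ι z.1).2.symm ▸ QuotientGroup.leftRel_apply.mp hab
    rw [MulAction.mem_stabilizer_iff, mul_smul, inv_smul_eq_iff] at hs
    exact hs.symm
  have hinj : Function.Injective e₀ := by
    rintro ⟨i, a⟩ ⟨j, b⟩ h
    induction a using QuotientGroup.induction_on with
    | _ a =>
      induction b using QuotientGroup.induction_on with
      | _ b =>
        change a • (ι i).1.out = b • (ι j).1.out at h
        have hij : i = j := by
          refine ι.injective (Subtype.ext ?_)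
          have hh : (⟦(ι i).1.out⟧ : Ω) = ⟦(ι j).1.out⟧ := by
            refine Quotient.sound (MulAction.orbitRel_apply.mpr ⟨a⁻¹ * b, ?_⟩)
            show (a⁻¹ * b) • (ι j).1.out = (ι i).1.out
            rw [mul_smul, ← h, inv_smul_smul]
          rwa [Quotient.out_eq, Quotient.out_eq] at hh
        subst hij
        refine Prod.ext rfl (QuotientGroup.eq.mpr ?_)
        rw [← (ι i).2, MulAction.mem_stabilizer_iff, mul_smul, ← h, inv_smul_smul]
  let e : Fin r × (H ⧸ S) ↪ Fin m := ⟨e₀, hinj⟩
  have hee : ∀ (h : H) (z : Fin r × (H ⧸ S)), h • e z = e (z.1, h • z.2) := by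
    rintro h ⟨i, a⟩
    induction a using QuotientGroup.induction_on with
    | _ a => exact (mul_smul h a _).symm
  let D : Equiv.Perm (Fin r) →* Equiv.Perm (Fin r × (H ⧸ S)) :=
    MonoidHom.mk' (fun π => π.prodCongr (Equiv.refl _)) (fun a b => rfl)
  let ψ : alternatingGroup (Fin r) →* Equiv.Perm (Fin m) :=
    ((Equiv.Perm.viaEmbeddingHom e).comp D).comp (alternatingGroup (Fin r)).subtype
  have hψinj : Function.Injective ψ := by
    intro a b hab
    have h1 : D a = D b := Equiv.Perm.viaEmbeddingHom_injective e hab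
    refine Subtype.ext (Equiv.ext fun i => ?_)
    have := congrArg (fun p : Equiv.Perm (Fin r × (H ⧸ S)) => (p (i, QuotientGroup.mk 1)).1) h1
    exact this
  let ψ' : alternatingGroup (Fin r) →* alternatingGroup (Fin m) :=
    ψ.codRestrict _ fun g => by
      rw [Equiv.Perm.mem_alternatingGroup]
      exact hom_eq_one (Equiv.Perm.sign.comp ψ) g
  have hψ'inj : Function.Injective ψ' := fun a b h => hψinj (congrArg Subtype.val h)
  refine ⟨ψ'.range, ⟨(MonoidHom.ofInjective hψ'inj).symm⟩, ?_⟩
  rintro _ ⟨g, rfl⟩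
  rw [Subgroup.mem_centralizer_iff]
  intro h hh
  refine Subtype.ext (Equiv.ext fun y => ?_)
  show (h : Equiv.Perm (Fin m)) (Equiv.Perm.viaEmbedding (D g) e y) = Equiv.Perm.viaEmbedding (D g) e ((h : Equiv.Perm (Fin m)) y)
  have hact : ∀ y, (h : Equiv.Perm (Fin m)) y = (⟨h, hh⟩ : H) • y := fun y => rfl
  simp only [hact]
  by_cases hy : y ∈ Set.range e
  · obtain ⟨z, rfl⟩ := hy
    rw [Equiv.Perm.viaEmbedding_apply, hee, hee, Equiv.Perm.viaEmbedding_apply]
    rfl
  · rw [Equiv.Perm.viaEmbedding_apply_of_notMem _ _ _ hy, Equiv.Perm.viaEmbedding_apply_of_notMem]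
    rintro ⟨z, hz⟩
    refine hy ⟨(z.1, (⟨h, hh⟩ : H)⁻¹ • z.2), ?_⟩
    rw [← hee, hz, inv_smul_smul]

end Cfsg.Agent.S2532
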