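import Cfsg.Statements.S2533
import Mathlib

set_option autoImplicit false
open Cfsg

namespace Cfsg.Agent.S2533

/-- The sign action. -/
noncomputable def act (p : ℕ) : ℤˣ →* MulAut (Multiplicative (Fin 3 → ZMod p)) where
  toFun ε := AddEquiv.toMultiplicative (DistribMulAction.toAddAut ℤˣ (Fin 3 → ZMod p) ε)
  map_one' := by
    ext x
    simp
  map_mul' ε δ := by
    ext x
    simp [mul_smul, smul_comm ε δ]

/-- The group `C_p^3 : 2`. -/
abbrev Brick (p : ℕ) : Type := Multiplicative (Fin 3 → ZMod p) ⋊[act p] ℤˣ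

/-- The nilpotent Jordan block. -/
def shiftMat (p m : ℕ) : Matrix (Fin m) (Fin m) (ZMod p) :=
  Matrix.of fun i j => if (j : ℕ) = i + 1 then 1 else 0

/-- The three lower left blocks. -/
noncomputable def lowBlock (p m : ℕ) (v : Fin 3 → ZMod p) : Matrix (Fin m) (Fin m) (ZMod p) :=
  v 0 • (1 : Matrix (Fin m) (Fin m) (ZMod p)) + v 1 • shiftMat p m + v 2 • (shiftMat p m).transpose

theorem lowBlock_smul (p m : ℕ) (ε : ℤˣ) (v : Fin 3 → ZMod p) :
    lowBlock p m (ε • v) = ((ε : ℤ) : ZMod p) • lowBlock p m v := by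
  simp [lowBlock, Units.smul_def, smul_add, smul_smul, zsmul_eq_mul]

/-- The representation as block matrices. -/
noncomputable def blockHom (p m : ℕ) :
    Brick p →* Matrix (Fin m ⊕ Fin m) (Fin m ⊕ Fin m) (ZMod p) where
  toFun h := Matrix.fromBlocks 1 0 (lowBlock p m (Multiplicative.toAdd h.left))
    (((h.right : ℤ) : ZMod p) • 1)
  map_one' := by simp [lowBlock, Matrix.fromBlocks_one]
  map_mul' h k := by
    rw [Matrix.fromBlocks_multiply]
    congr 1
    · simp
    · simp
    · rw [SemidirectProduct.mul_left, toAdd_mul]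
      simp only [Matrix.mul_one, Matrix.smul_mul, Matrix.one_mul]
      show lowBlock p m (_ + h.right • _) = _
      rw [← lowBlock_smul]
      simp only [lowBlock, Pi.add_apply, add_smul]
      abel
    · simp [SemidirectProduct.mul_right, smul_smul, mul_comm]

theorem blockHom_det (p m : ℕ) (hm : Even m) (h : Brick p) :
    (blockHom p m h).det = 1 := by
  show (Matrix.fromBlocks 1 0 _ _).det = 1
  rw [Matrix.det_fromBlocks_zero₁₂, Matrix.det_one, one_mul, Matrix.det_smul, Matrix.det_one,
    mul_one, Fintype.card_fin]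
  rcases Int.units_eq_one_or h.right with e | e <;> simp [e, hm.neg_one_pow]

theorem blockHom_scalar (p m : ℕ) [Fact p.Prime] (hp : p ≠ 2) (hm : 2 ≤ m) (h : Brick p)
    (c : ZMod p) (hc : blockHom p m h = c • 1) : h = 1 := by
  haveI : Fact (2 < p) := ⟨lt_of_le_of_ne (Fact.out : p.Prime).two_le (Ne.symm hp)⟩
  have e : Matrix.fromBlocks (1 : Matrix (Fin m) (Fin m) (ZMod p)) 0
      (lowBlock p m (Multiplicative.toAdd h.left)) (((h.right : ℤ) : ZMod p) • 1) =
      Matrix.fromBlocks (c • (1 : Matrix (Fin m) (Fin m) (ZMod p))) 0 0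
        (c • (1 : Matrix (Fin m) (Fin m) (ZMod p))) := by
    show blockHom p m h = _
    rw [hc, ← Matrix.fromBlocks_one, Matrix.fromBlocks_smul]
    simp
  rw [Matrix.fromBlocks_inj] at e
  obtain ⟨e1, -, e3, e4⟩ := e
  let i : Fin m := ⟨0, by omega⟩
  let j : Fin m := ⟨1, by omega⟩
  have h0 : c = 1 := by
    have := congrFun (congrFun e1 i) i
    simpa using this.symm
  have h4 : ((h.right : ℤ) : ZMod p) = 1 := by
    have := congrFun (congrFun e4 i) i
    simpa [h0] using this
  have hr : h.right = 1 := by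
    rcases Int.units_eq_one_or h.right with e | e
    · exact e
    · exfalso
      rw [e] at h4
      exact ZMod.neg_one_ne_one (n := p) (by simpa using h4)
  set v := Multiplicative.toAdd h.left with hv
  have hii := congrFun (congrFun e3 i) i
  have hij := congrFun (congrFun e3 i) j
  have hji := congrFun (congrFun e3 j) i
  simp [lowBlock, shiftMat, i, j] at hii hij hji
  refine SemidirectProduct.ext (Multiplicative.toAdd.injective ?_) hr
  rw [← hv]
  funext k
  fin_cases k <;> simp_all

theorem commutant_scalar (p m : ℕ) (hm : 1 ≤ m) (P : Matrix (Fin m) (Fin m) (ZMod p))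
    (h1 : P * shiftMat p m = shiftMat p m * P)
    (h2 : P * (shiftMat p m).transpose = (shiftMat p m).transpose * P) :
    P = P ⟨0, hm⟩ ⟨0, hm⟩ • 1 := by
  have hl : ∀ (A : Matrix (Fin m) (Fin m) (ZMod p)) i j, (shiftMat p m * A) i j =
      if h : (i : ℕ) + 1 < m then A ⟨i + 1, h⟩ j else 0 := by
    intro A i j
    rw [Matrix.mul_apply]
    by_cases h : (i : ℕ) + 1 < m
    · rw [dif_pos h, Finset.sum_eq_single ⟨i + 1, h⟩]
      · simp [shiftMat]
      · intro k _ hk
        have : (k : ℕ) ≠ i + 1 := fun e => hk (Fin.ext e)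
        simp [shiftMat, this]
      · simp
    · rw [dif_neg h]
      refine Finset.sum_eq_zero fun k _ => ?_
      have : (k : ℕ) ≠ i + 1 := by omega
      simp [shiftMat, this]
  have hr : ∀ (A : Matrix (Fin m) (Fin m) (ZMod p)) i j, (A * shiftMat p m) i j =
      if h : 1 ≤ (j : ℕ) then A i ⟨j - 1, by omega⟩ else 0 := by
    intro A i j
    rw [Matrix.mul_apply]
    by_cases h : 1 ≤ (j : ℕ)
    · rw [dif_pos h, Finset.sum_eq_single ⟨j - 1, by omega⟩]
      · have hj : (j : ℕ) = (j : ℕ) - 1 + 1 := by omega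
        simp only [shiftMat, Matrix.of_apply]
        rw [if_pos hj, mul_one]
      · intro k _ hk
        have : (j : ℕ) ≠ k + 1 := fun e => hk (Fin.ext (by simp only; omega))
        simp [shiftMat, this]
      · simp
    · rw [dif_neg h]
      refine Finset.sum_eq_zero fun k _ => ?_
      have : (j : ℕ) ≠ k + 1 := by omega
      simp [shiftMat, this]
  -- commuting with the block: zero below the diagonal, constant along diagonals
  have low : ∀ Q : Matrix (Fin m) (Fin m) (ZMod p), Q * shiftMat p m = shiftMat p m * Q →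
      ∀ i j : Fin m, ((j : ℕ) < i → Q i j = 0) ∧ ((i : ℕ) = j → Q i j = Q ⟨0, hm⟩ ⟨0, hm⟩) := by
    intro Q hQ
    have hstep : ∀ i j : Fin m, ∀ (hi : (i : ℕ) + 1 < m),
        Q ⟨i + 1, hi⟩ j = if h : 1 ≤ (j : ℕ) then Q i ⟨j - 1, by omega⟩ else 0 := by
      intro i j hi
      have := congrFun (congrFun hQ i) j
      rw [hr, hl, dif_pos hi] at this
      exact this.symm
    rintro ⟨a, ha⟩
    induction a with
    | zero =>
      intro j
      refine ⟨fun h => absurd h (Nat.not_lt_zero _), fun h => ?_⟩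
      congr 1
      exact Fin.ext h.symm
    | succ a ih =>
      intro j
      have h := hstep ⟨a, by omega⟩ j ha
      refine ⟨fun hj => ?_, fun hj => ?_⟩
      · rw [h]
        by_cases h1 : 1 ≤ (j : ℕ)
        · rw [dif_pos h1]
          exact (ih (by omega) _).1 (by simp only at hj ⊢; omega)
        · rw [dif_neg h1]
      · rw [h, dif_pos (by simp only at hj; omega)]
        exact (ih (by omega) _).2 (by simp only at hj ⊢; omega)
  have hT : P.transpose * shiftMat p m = shiftMat p m * P.transpose := by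
    have := congrArg Matrix.transpose h2
    rw [Matrix.transpose_mul, Matrix.transpose_mul, Matrix.transpose_transpose] at this
    exact this.symm
  ext i j
  rcases lt_trichotomy (i : ℕ) j with h | h | h
  · have := (low _ hT j i).1 h
    simp only [Matrix.transpose_apply] at this
    rw [this]
    simp [Matrix.one_apply, Fin.ext_iff, h.ne]
  · rw [(low P h1 i j).2 h]
    simp [Fin.ext h]
  · rw [(low P h1 i j).1 h]
    simp [Matrix.one_apply, Fin.ext_iff, h.ne']

theorem centralizer_scalar (p m : ℕ) [Fact p.Prime] (hp : p ≠ 2) (hm : 1 ≤ m)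
    (g : Matrix (Fin m ⊕ Fin m) (Fin m ⊕ Fin m) (ZMod p)) (hg : IsUnit g.det)
    (hcomm : ∀ h : Brick p, ∃ c : ZMod p, g * blockHom p m h = c • (blockHom p m h * g)) :
    ∃ r : ZMod p, g = r • 1 := by
  haveI : Fact (2 < p) := ⟨lt_of_le_of_ne (Fact.out : p.Prime).two_le (Ne.symm hp)⟩
  haveI : Nonempty (Fin m) := ⟨⟨0, hm⟩⟩
  obtain ⟨P, Q, R, S, rfl⟩ : ∃ P Q R S, g = Matrix.fromBlocks P Q R S :=
    ⟨_, _, _, _, (Matrix.fromBlocks_toBlocks g).symm⟩
  have eqs : ∀ h : Brick p, ∃ c : ZMod p,
      P + Q * lowBlock p m (Multiplicative.toAdd h.left) = c • P ∧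
      ((h.right : ℤ) : ZMod p) • Q = c • Q ∧
      R + S * lowBlock p m (Multiplicative.toAdd h.left) =
        c • (lowBlock p m (Multiplicative.toAdd h.left) * P + ((h.right : ℤ) : ZMod p) • R) ∧
      ((h.right : ℤ) : ZMod p) • S =
        c • (lowBlock p m (Multiplicative.toAdd h.left) * Q + ((h.right : ℤ) : ZMod p) • S) := by
    intro h
    obtain ⟨c, hc⟩ := hcomm h
    refine ⟨c, ?_⟩
    have h' : Matrix.fromBlocks P Q R S * Matrix.fromBlocks 1 0
        (lowBlock p m (Multiplicative.toAdd h.left)) (((h.right : ℤ) : ZMod p) • 1) =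
        c • (Matrix.fromBlocks 1 0 (lowBlock p m (Multiplicative.toAdd h.left))
          (((h.right : ℤ) : ZMod p) • 1) * Matrix.fromBlocks P Q R S) := hc
    rw [Matrix.fromBlocks_multiply, Matrix.fromBlocks_multiply, Matrix.fromBlocks_smul,
      Matrix.fromBlocks_inj] at h'
    simpa using h'
  have htop : ¬ (P = 0 ∧ Q = 0) := by
    rintro ⟨rfl, rfl⟩
    apply hg.ne_zero
    exact Matrix.det_eq_zero_of_row_eq_zero (Sum.inl ⟨0, hm⟩) (by rintro (j | j) <;> rfl)
  have hdiag : ∀ (v : Fin 3 → ZMod p), ∃ c : ZMod p, P + Q * lowBlock p m v = c • P ∧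
      Q = c • Q ∧ R + S * lowBlock p m v = c • (lowBlock p m v * P + R) ∧
      S = c • (lowBlock p m v * Q + S) := by
    intro v
    obtain ⟨c, h1, h2, h3, h4⟩ := eqs ⟨Multiplicative.ofAdd v, 1⟩
    refine ⟨c, h1, ?_, ?_, ?_⟩
    · simpa using h2
    · simpa using h3
    · simpa using h4
  have hI : lowBlock p m ![1, 0, 0] = 1 := by simp [lowBlock]
  have hQS : Q = 0 ∧ S = P := by
    obtain ⟨c, h1, h2, h3, h4⟩ := hdiag ![1, 0, 0]
    rw [hI, Matrix.mul_one] at h1 h3
    rw [hI, Matrix.one_mul] at h4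
    rw [Matrix.one_mul] at h3
    by_cases hc : c = 1
    · subst hc
      rw [one_smul] at h1 h3 h4
      have hQ : Q = 0 := by simpa using h1
      exact ⟨hQ, add_left_cancel (h3.trans (add_comm P R))⟩
    · exfalso
      have hz : ∀ M : Matrix (Fin m) (Fin m) (ZMod p), M = c • M → M = 0 := by
        intro M hM
        have : (1 - c) • M = 0 := by rw [sub_smul, one_smul, ← hM, sub_self]
        exact (smul_eq_zero.mp this).resolve_left (sub_ne_zero.mpr (Ne.symm hc))
      have hQ : Q = 0 := hz Q h2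
      rw [hQ, add_zero] at h1
      exact htop ⟨hz P h1, hQ⟩
  obtain ⟨hQ, hS⟩ := hQS
  subst hQ
  have hP : P ≠ 0 := fun h => htop ⟨h, rfl⟩
  have hone : ∀ c : ZMod p, P = c • P → c = 1 := by
    intro c hc
    have h' : (1 - c) • P = 0 := by rw [sub_smul, one_smul, ← hc, sub_self]
    exact (sub_eq_zero.mp ((smul_eq_zero.mp h').resolve_right hP)).symm
  have hR : R = 0 := by
    obtain ⟨c, h1, -, h3, -⟩ := eqs ⟨1, -1⟩
    rw [Matrix.zero_mul, add_zero] at h1
    obtain rfl := hone c h1
    simp [lowBlock] at h3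
    have h2 : (2 : ZMod p) • R = 0 := by
      rw [two_smul]
      nth_rewrite 2 [h3]
      exact add_neg_cancel R
    refine (smul_eq_zero.mp h2).resolve_left ?_
    intro h
    have : ((2 : ℕ) : ZMod p) = 0 := by exact_mod_cast h
    rw [ZMod.natCast_eq_zero_iff] at this
    exact hp ((Nat.prime_dvd_prime_iff_eq Fact.out Nat.prime_two).mp this)
  subst hR
  have hPA : ∀ v, P * lowBlock p m v = lowBlock p m v * P := by
    intro v
    obtain ⟨c, h1, -, h3, -⟩ := hdiag v
    rw [Matrix.zero_mul, add_zero] at h1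
    obtain rfl := hone c h1
    rw [hS] at h3
    simpa using h3
  refine ⟨P ⟨0, hm⟩ ⟨0, hm⟩, ?_⟩
  have hsc := commutant_scalar p m hm P (by simpa [lowBlock] using hPA ![0, 1, 0])
    (by simpa [lowBlock] using hPA ![0, 0, 1])
  rw [hS, hsc]
  simp [← Matrix.fromBlocks_one, Matrix.fromBlocks_smul]


/-- For every odd prime `p` there is a finite group `H` of order `2p³` which, for infinitely many `n`, embeds in the projective special linear group `PSL(n, p)` as a subgroup with trivial centralizer. -/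
theorem result
    (p : ℕ) [Fact p.Prime] (hp : p ≠ 2) :
    ∃ (H : Type) (_ : Group H) (_ : Finite H), Nat.card H = 2 * p ^ 3 ∧
      ∀ N : ℕ, ∃ n, N ≤ n ∧ ∃ φ : H →* Matrix.ProjectiveSpecialLinearGroup (Fin n) (ZMod p),
        Function.Injective φ ∧ Subgroup.centralizer (φ.range : Set (Matrix.ProjectiveSpecialLinearGroup (Fin n) (ZMod p))) = ⊥ := by
  classical
  refine ⟨Brick p, inferInstance, Finite.of_equiv _ SemidirectProduct.equivProd.symm, ?_, fun N => ?_⟩
  · rw [SemidirectProduct.card, Nat.card_congr Multiplicative.toAdd, Nat.card_fun, Nat.card_zmod,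
      Nat.card_fin, Nat.card_eq_fintype_card (α := ℤˣ), Fintype.card_units_int, mul_comm]
  let m := 2 * (N + 1)
  let e : Fin m ⊕ Fin m ≃ Fin (m + m) := finSumFinEquiv
  let Φ : Brick p →* Matrix.SpecialLinearGroup (Fin (m + m)) (ZMod p) :=
    { toFun := fun h => ⟨Matrix.reindex e e (blockHom p m h), by
        rw [Matrix.det_reindex_self, blockHom_det p m (even_two_mul _)]⟩
      map_one' := Subtype.ext (by simp)
      map_mul' := fun h k => Subtype.ext (by
        show Matrix.reindex e e (blockHom p m (h * k)) =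
          Matrix.reindex e e (blockHom p m h) * Matrix.reindex e e (blockHom p m k)
        simp only [Matrix.reindex_apply, map_mul, Matrix.submatrix_mul_equiv]) }
  refine ⟨m + m, by omega, (QuotientGroup.mk' _).comp Φ, ?_, ?_⟩
  · refine (injective_iff_map_eq_one _).mpr fun h hh => ?_
    rw [MonoidHom.comp_apply, QuotientGroup.mk'_apply, QuotientGroup.eq_one_iff,
      Matrix.SpecialLinearGroup.mem_center_iff] at hh
    obtain ⟨r, -, hr⟩ := hh
    refine blockHom_scalar p m hp (by omega) h r ?_
    apply (Matrix.reindex e e).injective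
    rw [show Matrix.reindex e e (blockHom p m h) = Matrix.scalar (Fin (m + m)) r from hr.symm]
    simp [Matrix.submatrix_smul, Matrix.scalar_apply, Matrix.smul_one_eq_diagonal]
  · rw [eq_bot_iff]
    intro x hx
    obtain ⟨g, rfl⟩ := QuotientGroup.mk'_surjective _ x
    rw [Subgroup.mem_bot, QuotientGroup.mk'_apply, QuotientGroup.eq_one_iff,
      Matrix.SpecialLinearGroup.mem_center_iff]
    obtain ⟨r, hr⟩ := centralizer_scalar p m hp (by omega)
      ((Matrix.reindex e e).symm (g : Matrix (Fin (m + m)) (Fin (m + m)) (ZMod p)))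
      (by rw [Matrix.reindex_symm, Matrix.det_reindex_self, g.2]; exact isUnit_one)
      (fun h => by
        have hc := Subgroup.mem_centralizer_iff.mp hx _ ⟨h, rfl⟩
        simp only [MonoidHom.comp_apply, QuotientGroup.mk'_apply, ← QuotientGroup.mk_mul] at hc
        obtain ⟨z, hz, hz'⟩ := (QuotientGroup.mk'_eq_mk' _).mp hc
        obtain ⟨c, -, hc'⟩ := Matrix.SpecialLinearGroup.mem_center_iff.mp hz
        refine ⟨c, ?_⟩
        apply (Matrix.reindex e e).injective
        have hm := congrArg Subtype.val hz'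
        simp only [Matrix.SpecialLinearGroup.coe_mul] at hm
        rw [← hc', Matrix.scalar_apply, ← Matrix.smul_one_eq_diagonal, Matrix.mul_smul,
          Matrix.mul_one] at hm
        simp only [Matrix.reindex_apply, Matrix.submatrix_smul, Pi.smul_apply,
          ← Matrix.submatrix_mul_equiv _ _ _ e.symm, Matrix.reindex_symm, Equiv.symm_symm,
          Matrix.submatrix_submatrix, Equiv.self_comp_symm, Matrix.submatrix_id_id]
        exact hm.symm)
    have hg : (g : Matrix (Fin (m + m)) (Fin (m + m)) (ZMod p)) = r • 1 := by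
      rw [← (Matrix.reindex e e).apply_symm_apply (g : Matrix (Fin (m + m)) (Fin (m + m)) (ZMod p)), hr]
      simp [Matrix.submatrix_smul]
    refine ⟨r, ?_, ?_⟩
    · have hd := g.2
      rw [hg, Matrix.det_smul, Matrix.det_one, mul_one] at hd
      exact hd
    · rw [hg, Matrix.scalar_apply, Matrix.smul_one_eq_diagonal]

end Cfsg.Agent.S2533
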