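import Cfsg.Statements.S2534
import Cfsg.Agent.Lib.HallSym.Witness

set_option autoImplicit false
open Cfsg

namespace Cfsg.Agent.S2534

/-- For `n ≥ 5` and a set of primes `π`, the alternating group of degree `n` satisfies the full Sylow analogue for `π` (its maximal `π`-subgroups are pairwise conjugate; for a finite group this says Hall `π`-subgroups exist, are all conjugate, and contain every `π`-subgroup up to conjugacy) if and only if either at most one prime of `π` divides its order or every prime dividing its order lies in `π`. -/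
theorem result (n : ℕ) (hn : 5 ≤ n) (π : Set ℕ) :
    Cfsg.IsDPiGroup π ↥(alternatingGroup (Fin n)) ↔
      ((∀ r s : ℕ, r.Prime → s.Prime → r ∈ π → s ∈ π → r ∣ Nat.card ↥(alternatingGroup (Fin n)) → s ∣ Nat.card ↥(alternatingGroup (Fin n)) → r = s) ∨
        ∀ r : ℕ, r.Prime → r ∣ Nat.card ↥(alternatingGroup (Fin n)) → r ∈ π) := by
  constructor
  · intro hD
    by_contra hcon
    push Not at hcon
    obtain ⟨⟨r, s, hr, hs, hrπ, hsπ, hrd, hsd, hrs⟩, t, ht, htd, htπ⟩ := hcon
    have hle : ∀ u : ℕ, u.Prime → u ∣ Nat.card (alternatingGroup (Fin n)) → u ≤ n := fun u hu hd => by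
      have := (Lib.HallSym.prime_dvd_big_iff (G := alternatingGroup (Fin n)) le_rfl (by simp; omega) hu).1 hd
      rwa [Fintype.card_fin] at this
    have hTwo : Lib.HallSym.Two π n := ⟨r, s, hr, hs, hrs, hrπ, hsπ, hle r hr hrd, hle s hs hsd⟩
    have hAll : ¬ Lib.HallSym.AllIn π n := fun h => htπ (h t ht (hle t ht htd))
    obtain ⟨H, hH, hdom⟩ := Lib.HallSym.hall_of_dpi hD
    obtain ⟨K, hKA, hKπ, hK⟩ := Lib.HallSym.witness n hTwo hAll (Lib.HallSym.isPiHall_iff.1 hH)
    obtain ⟨g, hg⟩ := hdom (K.subgroupOf _) fun p hp hd => hKπ p hp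
      (by rwa [Nat.card_congr (Subgroup.subgroupOfEquivOfLe hKA).toEquiv] at hd)
    refine hK g.1 g.2 ?_
    have := Subgroup.map_mono (f := (alternatingGroup (Fin n)).subtype) hg
    rwa [Lib.HallSym.map_conj_subtype, Subgroup.map_subgroupOf_eq_of_le hKA] at this
  · intro h
    obtain ⟨hE, hdom⟩ := Lib.HallSym.easy (G := alternatingGroup (Fin n)) h
    exact Lib.HallSym.dpi_of_dom hE hdom

end Cfsg.Agent.S2534
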