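import Cfsg.Statements.S2535
import Cfsg.Agent.Lib.HallSym.Main

set_option autoImplicit false
open Cfsg

namespace Cfsg.Agent.S2535

/-- For every `n` and every set of primes `π`, the following are equivalent for the symmetric group `S` of degree `n` and its alternating subgroup `A`: `S` has a Hall `π`-subgroup; `S` has a Hall `π`-subgroup and all of them are conjugate; `A` has a Hall `π`-subgroup; `A` has a Hall `π`-subgroup and all of them are conjugate. -/
theorem result (n : ℕ) (π : Set ℕ) :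
    (Cfsg.IsEPiGroup π (Equiv.Perm (Fin n)) ↔ Cfsg.IsCPiGroup π (Equiv.Perm (Fin n))) ∧
    (Cfsg.IsEPiGroup π (Equiv.Perm (Fin n)) ↔ Cfsg.IsEPiGroup π ↥(alternatingGroup (Fin n))) ∧
    (Cfsg.IsEPiGroup π ↥(alternatingGroup (Fin n)) ↔ Cfsg.IsCPiGroup π ↥(alternatingGroup (Fin n))) := by
  by_cases hh : Lib.HallSym.Two π n ∧ ¬ Lib.HallSym.AllIn π n
  · obtain ⟨hS, hS'⟩ := Lib.HallSym.perm_hard n hh.1 hh.2
    obtain ⟨hA, hA'⟩ := Lib.HallSym.alt_hard n hh.1 hh.2
    exact ⟨⟨hS', fun h => h.1⟩, hS.trans hA.symm, ⟨hA', fun h => h.1⟩⟩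
  · rw [← Fintype.card_fin n] at hh
    obtain ⟨heA, heS⟩ := Lib.HallSym.easy_of_not (G := alternatingGroup (Fin n)) hh
    obtain ⟨hES, hdS⟩ := Lib.HallSym.easy heS
    obtain ⟨hEA, hdA⟩ := Lib.HallSym.easy heA
    exact ⟨iff_of_true hES (Lib.HallSym.cpi_of_dom hES hdS), iff_of_true hES hEA,
      iff_of_true hEA (Lib.HallSym.cpi_of_dom hEA hdA)⟩

end Cfsg.Agent.S2535
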