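import Cfsg.Statements.S2538
import Cfsg.Agent.Lib.HallSym.Main

set_option autoImplicit false
open Cfsg

namespace Cfsg.Agent.S2538

/-- For every `n` and every set of primes `π`, a subgroup of the alternating group of degree `n` is a Hall `π`-subgroup of it if and only if it is the intersection with the alternating group of some Hall `π`-subgroup of the symmetric group of degree `n`. -/
theorem result (n : ℕ) (π : Set ℕ)
    (M : Subgroup ↥(alternatingGroup (Fin n))) :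
    Cfsg.IsPiHall π M ↔ ∃ M₀ : Subgroup (Equiv.Perm (Fin n)), Cfsg.IsPiHall π M₀ ∧ M = M₀.subgroupOf (alternatingGroup (Fin n)) := by
  have hA : (alternatingGroup (Fin n)).Normal := inferInstance
  have back : ∀ M₀ : Subgroup (Equiv.Perm (Fin n)), Cfsg.IsPiHall π M₀ →
      Cfsg.IsPiHallOf π (M₀ ⊓ alternatingGroup (Fin n)) (alternatingGroup (Fin n)) := fun M₀ h =>
    Lib.HallSym.hall_inf (Lib.HallSym.isPiHallOf_top.2 h) le_top le_rfl le_top (hA.subgroupOf _)
  rw [Lib.HallSym.isPiHall_iff]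
  constructor
  swap
  · rintro ⟨M₀, h, rfl⟩
    rw [Subgroup.subgroupOf_map_subtype]
    exact back M₀ h
  intro hM
  suffices ∃ M₀ : Subgroup (Equiv.Perm (Fin n)), Cfsg.IsPiHall π M₀ ∧ M.map (alternatingGroup (Fin n)).subtype = M₀ ⊓ alternatingGroup (Fin n) by
    obtain ⟨M₀, h, e⟩ := this
    refine ⟨M₀, h, Subgroup.map_injective (alternatingGroup (Fin n)).subtype_injective ?_⟩
    rw [e, Subgroup.subgroupOf_map_subtype]
  by_cases hh : Lib.HallSym.Two π n ∧ ¬ Lib.HallSym.AllIn π n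
  · rw [← Fintype.card_fin n] at hh
    have h5 := Lib.HallSym.five_le hh.1 hh.2
    rcases Lib.HallSym.classify π _ (Fin n) rfl _ _ le_rfl hM hh.1 hh.2 with ⟨hP, x, e⟩ | ⟨h7, hP, A, hA', e⟩ | ⟨h8, hP, A, hA', e⟩
    · refine ⟨⊤ ⊓ Lib.HallSym.setStab {x}, Lib.HallSym.isPiHallOf_top.1 (Lib.HallSym.hall_of_shape le_top h5 (.inl ⟨hP, x, rfl⟩)), ?_⟩
      rw [e, top_inf_eq, inf_comm]
    · refine ⟨⊤ ⊓ Lib.HallSym.setStab A, Lib.HallSym.isPiHallOf_top.1 (Lib.HallSym.hall_of_shape le_top h5 (.inr (.inl ⟨h7, hP, A, hA', rfl⟩))), ?_⟩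
      rw [e, top_inf_eq, inf_comm]
    · refine ⟨⊤ ⊓ Lib.HallSym.splitStab A, Lib.HallSym.isPiHallOf_top.1 (Lib.HallSym.hall_of_shape le_top h5 (.inr (.inr ⟨h8, hP, A, hA', rfl⟩))), ?_⟩
      rw [e, top_inf_eq, inf_comm]
  · rw [← Fintype.card_fin n] at hh
    obtain ⟨-, heS⟩ := Lib.HallSym.easy_of_not (G := alternatingGroup (Fin n)) hh
    obtain ⟨⟨H, hH⟩, hdom⟩ := Lib.HallSym.easy heS
    obtain ⟨g, hg⟩ := hdom _ H hM.2.1 hH
    have hH' : Cfsg.IsPiHall π (H.map (MulAut.conj g).toMonoidHom) := by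
      refine ⟨fun p hp hd => hH.1 p hp ?_, fun p hp hπ hd => hH.2 p hp hπ ?_⟩
      · rwa [← Nat.card_congr (H.equivMapOfInjective _ (MulAut.conj g).injective).toEquiv] at hd
      · rwa [Subgroup.index_map_of_bijective (MulAut.conj g).bijective] at hd
    exact ⟨_, hH', Lib.HallSym.hall_eq hM (le_inf hg hM.1) inf_le_right (back _ hH').2.1⟩

end Cfsg.Agent.S2538
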