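import Cfsg.Statements.S2540
import Cfsg.Agent.Lib.Classical.LinearSimple

set_option autoImplicit false
open Cfsg

namespace Cfsg.Agent.S2540

open scoped commutatorElement

private theorem sl_perfect {F : Type*} [Field F] [Fintype F] {n : ℕ} (h2 : 2 ≤ n) (hex : n = 2 → 4 ≤ Fintype.card F) :
    commutator (Matrix.SpecialLinearGroup (Fin n) F) = ⊤ := by
  rcases h2.eq_or_lt with rfl | hn
  · classical
    obtain ⟨u, hu⟩ := IsCyclic.exists_generator (α := Fˣ)
    refine Matrix.SL2.commutator_eq_top u.ne_zero fun h => ?_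
    have hsq : u ^ 2 = 1 := Units.ext (by simpa using h)
    have := Nat.le_of_dvd (by norm_num) (orderOf_dvd_of_pow_eq_one hsq)
    rw [orderOf_eq_card_of_forall_mem_zpowers hu, Nat.card_units, Nat.card_eq_fintype_card] at this
    have := hex rfl
    omega
  · exact Lib.Classical.commutator_SL_eq_top (by rw [Fintype.card_fin]; omega)


/-- Let F be a finite field and n ≥ 1, excluding the case n = 2 with #F ≤ 3. A subgroup of GL_n(F) that is normalized by every element of SL_n(F) either consists of scalar matrices or contains SL_n(F). -/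
theorem result {F : Type*} [Field F] [Fintype F] (n : ℕ) (hn : 1 ≤ n) (hex : ¬ (n = 2 ∧ Fintype.card F ≤ 3)) (G : Subgroup (Matrix.GeneralLinearGroup (Fin n) F)) (hG : ∀ s : Matrix.SpecialLinearGroup (Fin n) F, ∀ g ∈ G, (Matrix.SpecialLinearGroup.toGL s) * g * (Matrix.SpecialLinearGroup.toGL s)⁻¹ ∈ G) : (∀ g ∈ G, ∃ c : F, (g : Matrix (Fin n) (Fin n) F) = c • (1 : Matrix (Fin n) (Fin n) F)) ∨ (Matrix.SpecialLinearGroup.toGL : Matrix.SpecialLinearGroup (Fin n) F →* _).range ≤ G := by
  classical
  by_cases hsc : ∀ g ∈ G, ∃ c : F, (g : Matrix (Fin n) (Fin n) F) = c • (1 : Matrix (Fin n) (Fin n) F)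
  · exact Or.inl hsc
  right
  push Not at hsc
  obtain ⟨g, hg, hgns⟩ := hsc
  have h2 : 2 ≤ n := by
    by_contra hlt
    obtain rfl : n = 1 := by omega
    refine hgns ((g : Matrix (Fin 1) (Fin 1) F) 0 0) ?_
    ext i j
    fin_cases i; fin_cases j; simp
  have hq : n = 2 → 4 ≤ Fintype.card F := fun h => by
    by_contra hlt
    exact hex ⟨h, by omega⟩
  obtain ⟨H, hH⟩ : ∃ H, H = G.comap Matrix.SpecialLinearGroup.toGL := ⟨_, rfl⟩
  have hHn : H.Normal := by
    subst hH
    refine ⟨fun x hx y => ?_⟩
    rw [Subgroup.mem_comap, map_mul, map_mul, map_inv]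
    exact hG y _ hx
  have hperf := sl_perfect h2 hq
  -- `H` is not central
  have hnc : ¬ H ≤ Subgroup.center (Matrix.SpecialLinearGroup (Fin n) F) := by
    intro hHz
    let T := Matrix.SpecialLinearGroup.toGL (n := Fin n) (R := F)
    have hdet : ∀ s : Matrix.SpecialLinearGroup (Fin n) F, ∃ z, T z = T s * g * (T s)⁻¹ * g⁻¹ := fun s => by
      refine ⟨⟨((T s * g * (T s)⁻¹ * g⁻¹ : GL (Fin n) F) : Matrix (Fin n) (Fin n) F), ?_⟩, Units.ext rfl⟩
      rw [← Matrix.GeneralLinearGroup.val_det_apply]
      simp [mul_comm]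
    choose z hz using hdet
    have hzH : ∀ s, z s ∈ H := fun s => by
      rw [hH, Subgroup.mem_comap]
      show T (z s) ∈ G
      rw [hz]
      exact mul_mem (hG s g hg) (inv_mem hg)
    have hzmul : ∀ a b, z (a * b) = z a * z b := fun a b => by
      have e1 : T (z a) * T (z b) = T (z a * z b) := (map_mul T _ _).symm
      have e2 : T a * T (z b) * (T a)⁻¹ = T (z b) := by
        rw [← map_inv, ← map_mul, ← map_mul, Subgroup.mem_center_iff.mp (hHz (hzH b)) a, mul_inv_cancel_right]
      apply Matrix.SpecialLinearGroup.toGL_injective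
      show T (z (a * b)) = T (z a * z b)
      rw [← e1]
      conv_rhs => rw [← e2]
      have hca : T a * T (z b) * (T a)⁻¹ * T (z a) = T (z a) * (T a * T (z b) * (T a)⁻¹) := by
        rw [e2, ← map_mul, ← map_mul, Subgroup.mem_center_iff.mp (hHz (hzH a))]
      rw [← hca, hz, hz, hz, map_mul]
      group
    let φ : Matrix.SpecialLinearGroup (Fin n) F →* Matrix.SpecialLinearGroup (Fin n) F := MonoidHom.mk' z hzmul
    have hone : ∀ s, z s = 1 := fun s => by
      have hle : commutator (Matrix.SpecialLinearGroup (Fin n) F) ≤ φ.ker := by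
        rw [commutator_def, Subgroup.commutator_le]
        intro a _ b _
        rw [MonoidHom.mem_ker, map_commutatorElement, commutatorElement_eq_one_iff_mul_comm]
        exact Subgroup.mem_center_iff.mp (hHz (hzH b)) (z a)
      rw [hperf] at hle
      exact hle (Subgroup.mem_top s)
    obtain ⟨c, hc⟩ := Matrix.mem_range_scalar_of_commute_single (M := (g : Matrix (Fin n) (Fin n) F)) fun i j hij => by
      have h := hz (Matrix.SpecialLinearGroup.transvection hij (1 : F))
      rw [hone, map_one, eq_comm, mul_inv_eq_one, mul_inv_eq_iff_eq_mul] at h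
      have h' := congrArg (fun u : GL (Fin n) F => (u : Matrix (Fin n) (Fin n) F)) h
      simp only [Units.val_mul, T, Matrix.SpecialLinearGroup.coe_GL_coe_matrix] at h'
      rw [show (↑(Matrix.SpecialLinearGroup.transvection hij (1 : F)) : Matrix (Fin n) (Fin n) F) = 1 + Matrix.single i j 1 from rfl,
        add_mul, mul_add, one_mul, mul_one] at h'
      exact add_left_cancel h'
    exact hgns c (by rw [← hc, Matrix.scalar_apply, Matrix.smul_one_eq_diagonal])
  have : IsSimpleGroup (Matrix.ProjectiveSpecialLinearGroup (Fin n) F) :=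
    Lib.Classical.isSimpleGroup_PSL_fin h2 (fun h => by rw [Nat.card_eq_fintype_card]; exact hq h)
  have hmap := hHn.map (QuotientGroup.mk' (Subgroup.center (Matrix.SpecialLinearGroup (Fin n) F))) (QuotientGroup.mk'_surjective _)
  rcases hmap.eq_bot_or_eq_top with h | h
  · rw [Subgroup.map_eq_bot_iff, QuotientGroup.ker_mk'] at h
    exact absurd h hnc
  · have htop : H ⊔ Subgroup.center (Matrix.SpecialLinearGroup (Fin n) F) = ⊤ := by
      rw [← QuotientGroup.ker_mk' (Subgroup.center (Matrix.SpecialLinearGroup (Fin n) F)), ← Subgroup.comap_map_eq, h, Subgroup.comap_top]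
    have hHtop : H = ⊤ := by
      rw [eq_top_iff, ← hperf, commutator_def, Subgroup.commutator_le]
      intro a _ b _
      have ha : a ∈ H ⊔ Subgroup.center (Matrix.SpecialLinearGroup (Fin n) F) := by rw [htop]; trivial
      have hb : b ∈ H ⊔ Subgroup.center (Matrix.SpecialLinearGroup (Fin n) F) := by rw [htop]; trivial
      rw [Subgroup.mem_sup_of_normal_right] at ha hb
      obtain ⟨x, hx, z, hz, rfl⟩ := ha
      obtain ⟨y, hy, w, hw, rfl⟩ := hb
      have hzc := Subgroup.mem_center_iff.mp hz
      have hwc := Subgroup.mem_center_iff.mp hw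
      have : ⁅x * z, y * w⁆ = ⁅x, y⁆ := by
        rw [commutatorElement_def, commutatorElement_def]
        calc x * z * (y * w) * (x * z)⁻¹ * (y * w)⁻¹ = (x * y) * (z * w) * ((y * x) * (w * z))⁻¹ := by
              rw [show x * z * (y * w) = x * y * (z * w) by rw [mul_assoc, ← mul_assoc z, ← hzc y]; group]
              rw [show y * x * (w * z) = y * w * (x * z) by rw [mul_assoc y w, ← mul_assoc w, ← hwc x]; group]
              group
          _ = x * y * x⁻¹ * y⁻¹ := by rw [hwc z]; group
      rw [this, commutatorElement_def]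
      exact mul_mem (mul_mem (mul_mem hx hy) (inv_mem hx)) (inv_mem hy)
    rintro _ ⟨s, rfl⟩
    have : s ∈ H := by rw [hHtop]; trivial
    rw [hH] at this
    exact this

end Cfsg.Agent.S2540
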