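import Cfsg.Statements.S2541

set_option autoImplicit false
open Cfsg

namespace Cfsg.Agent.S2541

/-- Let F be a field with 9 elements. The symmetric group S_6 is not isomorphic to PGL_2(F) (although both have index-2 subgroups isomorphic to A_6). -/
theorem result {F : Type*} [Field F] [Fintype F] (hF : Fintype.card F = 9) : ¬ Nonempty (Equiv.Perm (Fin 6) ≃* Matrix.ProjGenLinGroup (Fin 2) F) := by
  classical
  rintro ⟨e⟩
  obtain ⟨u, hu⟩ := IsCyclic.exists_generator (α := Fˣ)
  have hord : orderOf u = 8 := by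
    rw [orderOf_eq_card_of_forall_mem_zpowers hu, Nat.card_eq_fintype_card, Fintype.card_units, hF]
  let d : Fˣ →* GL (Fin 2) F :=
    (Units.map (Matrix.diagonalRingHom (Fin 2) F : (Fin 2 → F) →* Matrix (Fin 2) (Fin 2) F)).comp
      (MulEquiv.piUnits.symm.toMonoidHom.comp
        ({ toFun := fun a => ![a, 1]
           map_one' := by ext i; fin_cases i <;> simp
           map_mul' := fun a b => by ext i; fin_cases i <;> simp } : Fˣ →* (Fin 2 → Fˣ)))
  have hd : ∀ a : Fˣ, (d a : Matrix (Fin 2) (Fin 2) F) = Matrix.diagonal ![(a : F), 1] := fun a => by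
    simp [d, MulEquiv.piUnits]
  let f : Fˣ →* Matrix.ProjGenLinGroup (Fin 2) F := Matrix.ProjGenLinGroup.mk.comp d
  have hinj : Function.Injective f := by
    rw [← MonoidHom.ker_eq_bot_iff, Subgroup.eq_bot_iff_forall]
    intro a ha
    obtain ⟨r, hr⟩ := Matrix.GeneralLinearGroup.center_eq_range_scalar.le (Matrix.ProjGenLinGroup.mk_eq_one.mp ha)
    have h := congrArg (fun g : GL (Fin 2) F => ((g : Matrix (Fin 2) (Fin 2) F) 0 0, (g : Matrix (Fin 2) (Fin 2) F) 1 1)) hr
    simp [hd] at h
    exact Units.ext (by rw [← h.1, h.2])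
  have h8 : orderOf (e.symm (f u)) = 8 := by
    rw [MulEquiv.orderOf_eq, orderOf_injective f hinj, hord]
  have h4 : ∀ σ : Equiv.Perm (Fin 6), orderOf σ ≠ 8 := by
    intro σ h
    have h8 : 8 ∣ σ.cycleType.lcm := by rw [Equiv.Perm.lcm_cycleType, h]
    have hsum : σ.cycleType.sum ≤ 6 := by
      rw [Equiv.Perm.sum_cycleType]
      exact (Finset.card_le_univ _).trans_eq (Fintype.card_fin 6)
    have hle : ∀ c ∈ σ.cycleType, c ∣ 60 := fun c hc => by
      have h1 : c ≤ 6 := (Multiset.le_sum_of_mem hc).trans hsum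
      have h2 := Equiv.Perm.two_le_of_mem_cycleType hc
      interval_cases c <;> norm_num
    have := h8.trans (Multiset.lcm_dvd.mpr hle)
    norm_num at this
  exact h4 _ h8

end Cfsg.Agent.S2541
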