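import Cfsg.Statements.S2548
import Cfsg.Agent.Lib.ClassicalBN.OrthOddPlus
import Cfsg.Agent.Lib.ClassicalBN.OrthPlusFour

set_option autoImplicit false
open Cfsg

namespace Cfsg.Agent.S2548

/-- Let F be a finite field of characteristic p and consider the group PΩ⁺_{2m}(F) of the hyperbolic quadratic form Σ x_i y_i with m ≥ 1, where Ω denotes the commutator subgroup of the full isometry group. This group has an irreducible complex character χ whose degree equals the order of a Sylow p-subgroup (equal to q^(m(m−1)) when #F = q, except in the degenerate case m = 2, q = 2, where this commutator subgroup has order 18 and its Sylow 2-subgroups have order 2) and whose restriction to any Sylow p-subgroup P is the regular character of P: χ vanishes on the non-identity elements of P. (This is the Steinberg character.) -/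
theorem result {F : Type*} [Field F] [Fintype F] (p : ℕ) [Fact p.Prime] [CharP F p] (m : ℕ) (hm : 1 ≤ m) : ∃ χ : Cfsg.POmega F (Cfsg.quadFormPlus m F) → ℂ, Cfsg.IsIrrCharacter (Cfsg.POmega F (Cfsg.quadFormPlus m F)) χ ∧ ∀ P : Sylow p (Cfsg.POmega F (Cfsg.quadFormPlus m F)), χ 1 = Nat.card P ∧ ∀ x : Cfsg.POmega F (Cfsg.quadFormPlus m F), x ∈ P → x ≠ 1 → χ x = 0 := by
  haveI : Finite (Cfsg.isometryGroup F (Cfsg.quadFormPlus m F)) := Subtype.finite
  haveI : Finite (Cfsg.POmega F (Cfsg.quadFormPlus m F)) := inferInstanceAs (Finite (_ ⧸ _))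
  by_cases hexc : (2 : F) ≠ 0 ∨ (∃ a : F, a ≠ 0 ∧ a ≠ 1) ∨ m ≠ 2
  · obtain ⟨_, _, S⟩ := Cfsg.Agent.Lib.ClassicalBN.pomega_plus_split (F := F) p m hm hexc
    exact S.exists_steinberg
  · push Not at hexc
    obtain ⟨h2, hall, rfl⟩ := hexc
    classical
    have hF : Fintype.card F = 2 := by
      rw [Fintype.card_eq_nat_card, Nat.card_eq_two_iff]
      exact ⟨0, 1, zero_ne_one, Set.eq_univ_iff_forall.2 fun a => by
        by_cases h : a = 0
        · exact .inl h
        · exact .inr (hall a h)⟩
    obtain rfl : p = 2 := by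
      haveI : CharP F 2 := CharTwo.of_one_ne_zero_of_two_eq_zero one_ne_zero h2
      exact CharP.eq F ‹CharP F p› inferInstance
    exact Cfsg.Agent.Lib.ClassicalBN.pomega_four_two_steinberg' hF

end Cfsg.Agent.S2548
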