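import Cfsg.Statements.S2550
import Cfsg.Agent.Lib.Classical.PSLFourTwo

set_option autoImplicit false
open Cfsg

namespace Cfsg.Agent.S2550

open Matrix

variable {K : Type*} [Field K]

/-- In dimension three every involution of `SL₃` in characteristic two is a transvection, up to conjugacy. -/
theorem exists_conj_transvection {M : Matrix (Fin 3) (Fin 3) K} (h2 : (2 : K) = 0) (hM : M * M = 1) (h1 : M ≠ 1) :
    ∃ P : Matrix.SpecialLinearGroup (Fin 3) K,
      M * (P : Matrix (Fin 3) (Fin 3) K) = (P : Matrix (Fin 3) (Fin 3) K) * Matrix.transvection 0 2 1 := by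
  classical
  set N := M - 1 with hN
  have hNN : N * N = 0 := by
    have : N * N = (2 : K) • (1 : Matrix (Fin 3) (Fin 3) K) - (2 : K) • M := by
      rw [hN, sub_mul, mul_sub, mul_sub, hM, one_mul, mul_one, one_mul, two_smul, two_smul]; abel
    rw [this, h2, zero_smul, zero_smul, sub_zero]
  obtain ⟨v, hv⟩ : ∃ v, N *ᵥ v ≠ 0 := by
    by_contra hc
    push Not at hc
    refine h1 (sub_eq_zero.mp ?_)
    exact Matrix.ext_of_mulVec_single fun j => by rw [hc, Matrix.zero_mulVec]
  set a := N *ᵥ v with ha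
  have hNa : N *ᵥ a = 0 := by rw [ha, Matrix.mulVec_mulVec, hNN, Matrix.zero_mulVec]
  obtain ⟨u, huk, hua⟩ : ∃ u, N *ᵥ u = 0 ∧ u ∉ Submodule.span K {a} := by
    by_contra hc
    push Not at hc
    set f := N.mulVecLin
    have hker : LinearMap.ker f ≤ Submodule.span K {a} := fun u hu => hc u (by simpa [f] using hu)
    have hrange : LinearMap.range f ≤ LinearMap.ker f := by
      rintro _ ⟨w, rfl⟩
      simp [f, Matrix.mulVec_mulVec, hNN]
    have h3 := f.finrank_range_add_finrank_ker
    rw [Module.finrank_fintype_fun_eq_card, Fintype.card_fin] at h3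
    have h4 := (Submodule.finrank_mono hker).trans (finrank_span_singleton (K := K) hv).le
    have h5 := Submodule.finrank_mono hrange
    omega
  set P : Matrix (Fin 3) (Fin 3) K := (Matrix.of ![a, u, v])ᵀ with hP
  have hli : LinearIndependent K ![a, u, v] := by
    rw [Fintype.linearIndependent_iff]
    intro c hc
    simp [Fin.sum_univ_three] at hc
    have h2' := congrArg (N *ᵥ ·) hc
    simp [Matrix.mulVec_add, Matrix.mulVec_smul, hNa, huk, ← ha] at h2'
    have c2 : c 2 = 0 := h2'.resolve_right hv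
    rw [c2, zero_smul, add_zero] at hc
    have c1 : c 1 = 0 := by
      by_contra hne
      refine hua (Submodule.mem_span_singleton.mpr ⟨-(c 1)⁻¹ * c 0, ?_⟩)
      have : c 1 • u = -(c 0 • a) := eq_neg_of_add_eq_zero_right hc
      rw [← inv_smul_smul₀ hne u, this, smul_neg, smul_smul, ← neg_smul, neg_mul]
    rw [c1, zero_smul, add_zero] at hc
    have c0 : c 0 = 0 := (smul_eq_zero.mp hc).resolve_right hv
    intro i; fin_cases i <;> assumption
  have hdet : P.det ≠ 0 := by
    rw [hP, Matrix.det_transpose]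
    exact (((Matrix.isUnit_iff_isUnit_det _).mp (Matrix.linearIndependent_rows_iff_isUnit.mp hli))).ne_zero
  set D : Matrix (Fin 3) (Fin 3) K := Matrix.diagonal ![1, P.det⁻¹, 1] with hD
  refine ⟨⟨P * D, by simp [hD, Matrix.det_mul, Matrix.det_diagonal, Fin.prod_univ_three, hdet]⟩, ?_⟩
  have hcol : ∀ i j, (N * P) i j = (N *ᵥ (![a, u, v] j)) i := fun i j => by
    simp [Matrix.mul_apply, Matrix.mulVec, dotProduct, hP]
  have hNP : N * P = P * Matrix.single 0 2 1 := by
    ext i j
    rw [hcol]
    fin_cases j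
    · rw [Matrix.mul_single_apply_of_ne _ _ _ _ _ (by decide)]; simp [hNa]
    · rw [Matrix.mul_single_apply_of_ne _ _ _ _ _ (by decide)]; simp [huk]
    · show _ = (P * Matrix.single (0 : Fin 3) (2 : Fin 3) (1 : K) : Matrix (Fin 3) (Fin 3) K) i 2
      rw [Matrix.mul_single_apply_same, mul_one]; simp [hP, ← ha]
  have hDE : Matrix.single (0 : Fin 3) 2 (1 : K) * D = D * Matrix.single 0 2 1 := by
    ext i j
    fin_cases i <;> fin_cases j <;> simp [hD, Matrix.mul_diagonal, Matrix.diagonal_mul]
  show M * (P * D) = P * D * Matrix.transvection 0 2 1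
  rw [Matrix.transvection, mul_add, mul_one, show M = N + 1 by rw [hN, sub_add_cancel], add_mul, one_mul,
    ← mul_assoc, hNP, mul_assoc, hDE, ← mul_assoc, add_comm]

theorem isConj_involutions [Fintype K] (hK : Fintype.card K = 4)
    {x y : Matrix.ProjectiveSpecialLinearGroup (Fin 3) K} (hx : orderOf x = 2) (hy : orderOf y = 2) : IsConj x y := by
  classical
  haveI : CharP K 2 := ringChar.of_eq ((FiniteField.even_card_iff_char_two).mpr (by omega))
  let π : Matrix.SpecialLinearGroup (Fin 3) K →* Matrix.ProjectiveSpecialLinearGroup (Fin 3) K := QuotientGroup.mk' _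
  have key : ∀ z, orderOf z = 2 → ∃ B : Matrix.SpecialLinearGroup (Fin 3) K,
      B * B = 1 ∧ B ≠ 1 ∧ π B = z := by
    intro z hz
    obtain ⟨A, rfl⟩ := QuotientGroup.mk'_surjective _ z
    have hz2 : π (A ^ 2) = 1 := by rw [map_pow, ← hz, pow_orderOf_eq_one]
    have hc : A ^ 2 ∈ Subgroup.center (Matrix.SpecialLinearGroup (Fin 3) K) := (QuotientGroup.eq_one_iff _).mp hz2
    have hcard : Nat.card (Subgroup.center (Matrix.SpecialLinearGroup (Fin 3) K)) = 3 := by
      rw [Cfsg.Agent.Lib.Classical.card_center_SL, hK, Fintype.card_fin]; rfl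
    have h6 : (A ^ 2) ^ 3 = 1 := by
      have h := pow_card_eq_one' (x := (⟨A ^ 2, hc⟩ : Subgroup.center (Matrix.SpecialLinearGroup (Fin 3) K)))
      rw [hcard] at h
      exact congrArg Subtype.val h
    have h3 : π (A ^ 3) = π A := by
      rw [pow_succ, map_mul, hz2, one_mul]
    refine ⟨A ^ 3, by rw [← pow_add, show 3 + 3 = 2 * 3 from rfl, pow_mul, h6], fun e => ?_, h3⟩
    rw [e, map_one] at h3
    have : orderOf (π A) = 2 := hz
    rw [← h3, orderOf_one] at this
    omega
  obtain ⟨B, hB, hB1, rfl⟩ := key x hx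
  obtain ⟨C, hC, hC1, rfl⟩ := key y hy
  have h2 : (2 : K) = 0 := CharTwo.two_eq_zero
  have cv : ∀ B : Matrix.SpecialLinearGroup (Fin 3) K, B * B = 1 → B ≠ 1 →
      IsConj B (Matrix.SpecialLinearGroup.transvection (show (0 : Fin 3) ≠ 2 by decide) (1 : K)) := by
    intro B hB hB1
    obtain ⟨P, hP⟩ := exists_conj_transvection h2 (M := (B : Matrix (Fin 3) (Fin 3) K))
      (congrArg Subtype.val hB) (fun e => hB1 (Subtype.ext e))
    have e : B * P = P * Matrix.SpecialLinearGroup.transvection (show (0 : Fin 3) ≠ 2 by decide) (1 : K) := by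
      apply Subtype.ext
      rw [Matrix.SpecialLinearGroup.coe_mul, Matrix.SpecialLinearGroup.coe_mul, hP]
      rfl
    exact isConj_iff.mpr ⟨P⁻¹, by rw [inv_inv, mul_assoc, e, inv_mul_cancel_left]⟩
  exact π.map_isConj ((cv B hB hB1).trans (cv C hC hC1).symm)

/-- Let F be a field with 2 elements and K a field with 4 elements. PSL_4(F) and PSL_3(K) have the same order (20160) but are not isomorphic. -/
theorem result {F K : Type*} [Field F] [Fintype F] [Field K] [Fintype K] (hF : Fintype.card F = 2) (hK : Fintype.card K = 4) : Nat.card (Matrix.ProjectiveSpecialLinearGroup (Fin 4) F) = Nat.card (Matrix.ProjectiveSpecialLinearGroup (Fin 3) K) ∧ ¬ Nonempty (Matrix.ProjectiveSpecialLinearGroup (Fin 4) F ≃* Matrix.ProjectiveSpecialLinearGroup (Fin 3) K) := by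
  obtain ⟨e⟩ := Cfsg.Agent.Lib.Classical.nonempty_PSL4_two hF
  have h4 : Nat.card (Matrix.ProjectiveSpecialLinearGroup (Fin 4) F) = 20160 := by
    rw [Nat.card_congr e.toEquiv, Nat.card_eq_fintype_card, card_alternatingGroup, Fintype.card_fin]
    decide
  have h3 : Nat.card (Matrix.ProjectiveSpecialLinearGroup (Fin 3) K) = 20160 := by
    have h := Cfsg.Agent.Lib.Classical.card_PSL_mul (F := K) (n := 3) (by norm_num)
    rw [hK] at h
    generalize Nat.card (Matrix.ProjectiveSpecialLinearGroup (Fin 3) K) = X at h ⊢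
    norm_num [Fin.prod_univ_three] at h
    omega
  refine ⟨h4.trans h3.symm, ?_⟩
  rintro ⟨f⟩
  let g := e.symm.trans f
  let a : alternatingGroup (Fin 8) := ⟨Equiv.swap 0 1 * Equiv.swap 2 3, by rw [Equiv.Perm.mem_alternatingGroup]; decide +kernel⟩
  let b : alternatingGroup (Fin 8) := ⟨Equiv.swap 0 1 * Equiv.swap 2 3 * (Equiv.swap 4 5 * Equiv.swap 6 7), by rw [Equiv.Perm.mem_alternatingGroup]; decide +kernel⟩
  have ha : orderOf a = 2 := orderOf_eq_prime (by decide +kernel) (by decide +kernel)
  have hb : orderOf b = 2 := orderOf_eq_prime (by decide +kernel) (by decide +kernel)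
  have hc := g.symm.toMonoidHom.map_isConj (isConj_involutions hK (x := g a) (y := g b)
    (by rw [MulEquiv.orderOf_eq, ha]) (by rw [MulEquiv.orderOf_eq, hb]))
  simp only [MulEquiv.coe_toMonoidHom, MulEquiv.symm_apply_apply] at hc
  have hc' := (alternatingGroup (Fin 8)).subtype.map_isConj hc
  rw [Equiv.Perm.isConj_iff_cycleType_eq] at hc'
  have hs := congrArg Multiset.card hc'
  have hfix : (a : Equiv.Perm (Fin 8)).support.card = (b : Equiv.Perm (Fin 8)).support.card := by
    rw [← Equiv.Perm.sum_cycleType, ← Equiv.Perm.sum_cycleType]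
    exact congrArg Multiset.sum hc'
  revert hfix
  decide +kernel

end Cfsg.Agent.S2550
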