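import Cfsg.Statements.S2551
import Cfsg.Agent.Lib.QuadFin.GLFourTwo

set_option autoImplicit false
open Cfsg

namespace Cfsg.Agent.S2551

open Matrix

theorem orbit_or {H X : Type*} [Group H] [Finite H] [MulAction H X] [IsSimpleGroup H] (hH : Nat.card H = 2520)
    (x : X) : MulAction.stabilizer H x = ⊤ ∨ 7 ≤ (MulAction.stabilizer H x).index := by
  by_contra hno
  push Not at hno
  obtain ⟨hne, hlt⟩ := hno
  set K := MulAction.stabilizer H x
  have hinj : Function.Injective (MulAction.toPermHom H (H ⧸ K)) := by
    rw [← MonoidHom.ker_eq_bot_iff]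
    refine (IsSimpleGroup.eq_bot_or_eq_top_of_normal _ (MonoidHom.normal_ker _)).resolve_right fun htop => hne ?_
    rw [eq_top_iff]
    intro h _
    have h1 : h ∈ (MulAction.toPermHom H (H ⧸ K)).ker := htop ▸ Subgroup.mem_top h
    have h2 : h • ((1 : H) : H ⧸ K) = ((1 : H) : H ⧸ K) :=
      DFunLike.congr_fun (MonoidHom.mem_ker.mp h1) ((1 : H) : H ⧸ K)
    rw [MulAction.Quotient.smul_coe, smul_eq_mul, mul_one, QuotientGroup.eq, mul_one, inv_mem_iff] at h2
    exact h2
  have hdvd := Subgroup.card_dvd_of_injective _ hinj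
  rw [hH, Nat.card_perm, ← Subgroup.index_eq_card] at hdvd
  have : K.index ≤ 6 := by omega
  have hle := Nat.le_of_dvd (Nat.factorial_pos _) hdvd
  have h720 := Nat.factorial_le this
  norm_num [Nat.factorial] at h720
  omega

theorem fixed_card_add_one_pow {F : Type*} [Field F] [Fintype F] (hF : Fintype.card F = 2)
    (g : Matrix (Fin 4) (Fin 4) F) :
    ∃ k, Nat.card {x : {x : Fin 4 → F // x ≠ 0} // g *ᵥ x.1 = x.1} + 1 = 2 ^ k := by
  classical
  let W : Submodule F (Fin 4 → F) := LinearMap.ker (g.mulVecLin - LinearMap.id)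
  refine ⟨Module.finrank F W, ?_⟩
  have hW : ∀ x, x ∈ W ↔ g *ᵥ x = x := fun x => by
    simp [W, LinearMap.mem_ker, sub_eq_zero]
  have e : {x : {x : Fin 4 → F // x ≠ 0} // g *ᵥ x.1 = x.1} ≃ {w : W // w ≠ 0} :=
    { toFun := fun x => ⟨⟨x.1.1, (hW _).mpr x.2⟩, fun h => x.1.2 (congrArg Subtype.val h)⟩
      invFun := fun w => ⟨⟨w.1.1, fun h => w.2 (Subtype.ext h)⟩, (hW _).mp w.1.2⟩
      left_inv := fun _ => rfl
      right_inv := fun _ => rfl }
  rw [Nat.card_congr e, show (2 : ℕ) = Nat.card F by rw [Nat.card_eq_fintype_card, hF],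
    ← Module.natCard_eq_pow_finrank, ← Nat.card_congr (Equiv.sumCompl fun w : W => w = 0), Nat.card_sum,
    Nat.card_unique (α := {w : W // w = 0}), add_comm]


/-- Let F be the field with 2 elements. GL_4(F) (≅ A_8) has a subgroup isomorphic to the alternating group A_7, and every such subgroup acts 2-transitively on the 15 non-zero vectors of F⁴: any ordered pair of distinct non-zero vectors is carried to any other by some element of the subgroup. -/
theorem result {F : Type*} [Field F] [Fintype F] (hF : Fintype.card F = 2) : (∃ H : Subgroup (Matrix.GeneralLinearGroup (Fin 4) F), Nonempty (H ≃* alternatingGroup (Fin 7))) ∧ ∀ H : Subgroup (Matrix.GeneralLinearGroup (Fin 4) F), Nonempty (H ≃* alternatingGroup (Fin 7)) → ∀ v w v' w' : Fin 4 → F, v ≠ 0 → w ≠ 0 → v ≠ w → v' ≠ 0 → w' ≠ 0 → v' ≠ w' → ∃ g ∈ H, (g : Matrix (Fin 4) (Fin 4) F).mulVec v = v' ∧ (g : Matrix (Fin 4) (Fin 4) F).mulVec w = w' := by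
  classical
  obtain ⟨e⟩ := Cfsg.Agent.Lib.QuadFin.nonempty_GL4_two hF
  obtain ⟨f, hf⟩ := Cfsg.Agent.Lib.QuadFin.exists_altSeven_to_altEight
  refine ⟨⟨_, ⟨(MonoidHom.ofInjective (f := e.symm.toMonoidHom.comp f) (e.symm.injective.comp hf)).symm⟩⟩, ?_⟩
  rintro H ⟨iso⟩ v w v' w' hv hw hvw hv' hw' hvw'
  have hA7 : Nat.card H = 2520 := by
    rw [Nat.card_congr iso.toEquiv, nat_card_alternatingGroup, Nat.card_fin]; rfl
  haveI : IsSimpleGroup H := by
    haveI := alternatingGroup.isSimpleGroup (α := Fin 7) (by simp)
    exact MulEquiv.isSimpleGroup iso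
  letI act0 : MulAction (Matrix.GeneralLinearGroup (Fin 4) F) {x : Fin 4 → F // x ≠ 0} :=
    { smul := fun g x => ⟨(g : Matrix (Fin 4) (Fin 4) F) *ᵥ x.1, fun h0 => x.2 (by
        have := congrArg ((↑g⁻¹ : Matrix (Fin 4) (Fin 4) F) *ᵥ ·) h0
        simpa [Matrix.mulVec_mulVec] using this)⟩
      one_smul := fun x => Subtype.ext (Matrix.one_mulVec x.1)
      mul_smul := fun g h x => Subtype.ext (Matrix.mulVec_mulVec x.1 _ _).symm }
  have hval : ∀ (g : H) (x : {x : Fin 4 → F // x ≠ 0}), (g • x).1 = ((g : Matrix.GeneralLinearGroup (Fin 4) F) : Matrix (Fin 4) (Fin 4) F) *ᵥ x.1 :=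
    fun g x => rfl
  have hX : Nat.card {x : Fin 4 → F // x ≠ 0} = 15 := by
    rw [Nat.card_eq_fintype_card, Fintype.card_subtype_compl, Fintype.card_subtype_eq, Fintype.card_fun, hF]
    rfl
  have hGL : Nat.card (Matrix.GeneralLinearGroup (Fin 4) F) = 20160 := by
    rw [Nat.card_congr e.toEquiv, nat_card_alternatingGroup, Nat.card_fin]; rfl
  -- no fixed vector
  have hnofix : ∀ x : {x : Fin 4 → F // x ≠ 0}, MulAction.stabilizer H x ≠ ⊤ := by
    intro x htop
    have hle : H ≤ MulAction.stabilizer (Matrix.GeneralLinearGroup (Fin 4) F) x := fun g hg => by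
      have : (⟨g, hg⟩ : H) ∈ MulAction.stabilizer H x := htop ▸ Subgroup.mem_top _
      exact this
    have h1 := Subgroup.card_dvd_of_le hle
    have h2 := (MulAction.stabilizer (Matrix.GeneralLinearGroup (Fin 4) F) x).card_mul_index
    have h3 : (MulAction.stabilizer (Matrix.GeneralLinearGroup (Fin 4) F) x).index = 15 := by
      rw [MulAction.index_stabilizer, ← hX, ← Set.ncard_univ]
      congr 1
      rw [Set.eq_univ_iff_forall]
      intro y
      obtain ⟨g, hg⟩ : ∃ g : (Fin 4 → F) ≃ₗ[F] (Fin 4 → F), g x.1 = y.1 := by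
        obtain ⟨s, hs⟩ := Submodule.exists_isCompl (F ∙ x.1)
        obtain ⟨t, ht⟩ := Submodule.exists_isCompl (F ∙ y.1)
        have hst : Module.finrank F s = Module.finrank F t := by
          have a := Submodule.finrank_add_eq_of_isCompl hs
          have b := Submodule.finrank_add_eq_of_isCompl ht
          rw [finrank_span_singleton x.2] at a
          rw [finrank_span_singleton y.2] at b
          omega
        let g := ((Submodule.prodEquivOfIsCompl _ _ hs).symm.trans
          (LinearEquiv.prodCongr ((LinearEquiv.toSpanNonzeroSingleton F _ x.1 x.2).symm.trans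
            (LinearEquiv.toSpanNonzeroSingleton F _ y.1 y.2)) (LinearEquiv.ofFinrankEq s t hst))).trans
          (Submodule.prodEquivOfIsCompl _ _ ht)
        refine ⟨g, ?_⟩
        have h1 : (Submodule.prodEquivOfIsCompl _ _ hs).symm x.1 = (⟨x.1, Submodule.mem_span_singleton_self _⟩, 0) :=
          Submodule.prodEquivOfIsCompl_symm_apply_left _ _ _ ⟨x.1, Submodule.mem_span_singleton_self _⟩
        have h2 : (LinearEquiv.toSpanNonzeroSingleton F _ x.1 x.2).symm ⟨x.1, Submodule.mem_span_singleton_self _⟩ = 1 :=
          (LinearEquiv.symm_apply_eq _).mpr (Subtype.ext (by simp))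
        simp [g, h1, h2]
      refine ⟨Matrix.GeneralLinearGroup.toLin.symm ((LinearMap.GeneralLinearGroup.generalLinearEquiv F _).symm g), Subtype.ext ?_⟩
      show LinearMap.toMatrix' (g : (Fin 4 → F) →ₗ[F] (Fin 4 → F)) *ᵥ x.1 = y.1
      rw [← Matrix.toLin'_apply, Matrix.toLin'_toMatrix']
      exact hg
    rw [hA7] at h1
    rw [h3, hGL] at h2
    omega
  -- transitivity
  have horb : ∀ x : {x : Fin 4 → F // x ≠ 0}, (MulAction.stabilizer H x).index = 15 := by
    intro x
    have hlow : ∀ y : {x : Fin 4 → F // x ≠ 0}, 7 ≤ (MulAction.stabilizer H y).index := fun y =>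
      (orbit_or hA7 y).resolve_left (hnofix y)
    have hdiv : ∀ y : {x : Fin 4 → F // x ≠ 0}, (MulAction.stabilizer H y).index ∣ 2520 := fun y =>
      hA7 ▸ (MulAction.stabilizer H y).index_dvd_card
    have hle : ∀ y : {x : Fin 4 → F // x ≠ 0}, (MulAction.stabilizer H y).index ≤ 15 := fun y => by
      rw [MulAction.index_stabilizer, ← hX]
      exact (Set.ncard_le_ncard (Set.subset_univ _)).trans (Set.ncard_univ _).le
    have h8 : ∀ K : Subgroup H, K.index ≠ 8 := by
      intro K hK
      have hcK : Nat.card K = 315 := by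
        have := K.card_mul_index; rw [hK, hA7] at this; omega
      haveI : Fact (Nat.Prime 5) := ⟨by norm_num⟩
      haveI : Fact (Nat.Prime 3) := ⟨by norm_num⟩
      obtain ⟨P⟩ : Nonempty (Sylow 5 K) := inferInstance
      have hP : Nat.card P = 5 := by
        obtain ⟨k, hk⟩ := IsPGroup.iff_card.mp P.2
        have h1 : Nat.card P ∣ 315 := hcK ▸ Subgroup.card_subgroup_dvd_card (P : Subgroup K)
        have h2 : 5 ∣ Nat.card P := P.dvd_card_of_dvd_card (by rw [hcK]; norm_num)
        rw [hk] at h1 h2 ⊢
        have hk2 : k < 2 := by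
          by_contra hk2
          have := (pow_dvd_pow 5 (show 2 ≤ k by omega)).trans h1
          norm_num at this
        interval_cases k <;> simp_all
      have hn : Nat.card (Sylow 5 K) ∣ 63 := by
        have h := Sylow.card_dvd_index P
        have h' := (P : Subgroup K).card_mul_index
        rw [hcK, hP] at h'
        rwa [show (P : Subgroup K).index = 63 by omega] at h
      have hmod := card_sylow_modEq_one 5 K
      have hidx := Sylow.card_eq_index_normalizer P
      set N := Subgroup.normalizer ((P : Subgroup K) : Set K)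
      have hN : 3 ∣ Nat.card N := by
        have hb := N.card_mul_index
        rw [show N.index = Nat.card (Sylow 5 K) from hidx.symm, hcK] at hb
        have : Nat.card (Sylow 5 K) = 1 ∨ Nat.card (Sylow 5 K) = 21 := by
          have hle := Nat.le_of_dvd (by norm_num) hn
          unfold Nat.ModEq at hmod
          interval_cases (Nat.card (Sylow 5 K)) <;> omega
        rcases this with h | h <;> rw [h] at hb <;> omega
      obtain ⟨z, hz⟩ := exists_prime_orderOf_dvd_card' 3 hN
      haveI : IsCyclic P := isCyclic_of_prime_card hP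
      obtain ⟨y, hy⟩ := IsCyclic.exists_generator (α := P)
      have hy5 : orderOf y = 5 := by rw [orderOf_eq_card_of_forall_mem_zpowers hy, hP]
      have hzy : (z : K) * (y : K) * (z : K)⁻¹ ∈ (P : Subgroup K) :=
        (Subgroup.mem_normalizer_iff.mp z.2 _).mp y.2
      obtain ⟨j, hj⟩ := Submonoid.mem_powers_iff _ _ |>.mp ((isOfFinOrder_of_finite y).mem_powers_iff_mem_zpowers.mpr (hy ⟨_, hzy⟩))
      have hj' : (y : K) ^ j = (z : K) * y * (z : K)⁻¹ := by
        have := congrArg Subtype.val hj
        simpa using this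
      have hiter : ∀ i : ℕ, (z : K) ^ i * y * ((z : K) ^ i)⁻¹ = (y : K) ^ (j ^ i) := by
        intro i
        induction i with
        | zero => simp
        | succ i ih =>
          rw [pow_succ' (z : K) i, _root_.mul_inv_rev, show (z : K) * (z : K) ^ i * (y : K) * (((z : K) ^ i)⁻¹ * (z : K)⁻¹) = (z : K) * ((z : K) ^ i * (y : K) * ((z : K) ^ i)⁻¹) * (z : K)⁻¹ by group,
            ih, ← conj_pow, ← hj', ← pow_mul, pow_succ' j i]
      have h3 := hiter 3
      have hz3 : (z : K) ^ 3 = 1 := by rw [← hz]; exact congrArg Subtype.val (pow_orderOf_eq_one z)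
      rw [hz3, one_mul, inv_one, mul_one] at h3
      have hy5' : orderOf (y : K) = 5 := by rw [Subgroup.orderOf_coe, hy5]
      have hmod3 : j ^ 3 % 5 = 1 := by
        conv_lhs at h3 => rw [← pow_one (y : K)]
        have := pow_eq_pow_iff_modEq.mp h3
        rw [hy5'] at this
        exact this.symm
      have hj1 : j % 5 = 1 := by
        rw [Nat.pow_mod] at hmod3
        have := Nat.mod_lt j (show 5 > 0 by norm_num)
        interval_cases (j % 5) <;> simp at hmod3 ⊢
      have hcomm : Commute (z : K) (y : K) := by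
        have : (y : K) ^ j = y := by
          rw [← pow_mod_orderOf, hy5', hj1, pow_one]
        rw [this] at hj'
        exact (eq_mul_inv_iff_mul_eq.mp hj').symm
      have h15 : orderOf ((z : K) * (y : K)) = 15 := by
        rw [hcomm.orderOf_mul_eq_mul_orderOf_of_coprime (by rw [Subgroup.orderOf_coe, hz, hy5']; norm_num),
          Subgroup.orderOf_coe, hz, hy5']
      refine Cfsg.Agent.Lib.QuadFin.perm_seven_no_fifteen ((iso (((z : K) * (y : K) : K) : H) : alternatingGroup (Fin 7)) : Equiv.Perm (Fin 7)) ?_
      rw [Subgroup.orderOf_coe, MulEquiv.orderOf_eq, Subgroup.orderOf_coe, h15]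
    rcases Nat.lt_or_ge (MulAction.stabilizer H x).index 15 with hlt | hge
    · exfalso
      -- another orbit
      obtain ⟨y, hy⟩ : ∃ y, y ∉ MulAction.orbit H x := by
        by_contra hall
        push Not at hall
        rw [MulAction.index_stabilizer, Set.eq_univ_iff_forall.mpr hall, Set.ncard_univ, hX] at hlt
        omega
      have hdisj : Disjoint (MulAction.orbit H x) (MulAction.orbit H y) :=
        (MulAction.orbit.eq_or_disjoint x y).resolve_left fun h => hy (h ▸ MulAction.mem_orbit_self y)
      have hsum : (MulAction.stabilizer H x).index + (MulAction.stabilizer H y).index ≤ 15 := by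
        rw [MulAction.index_stabilizer, MulAction.index_stabilizer, ← Set.ncard_union_eq hdisj, ← hX]
        exact (Set.ncard_le_ncard (Set.subset_univ _)).trans (Set.ncard_univ _).le
      have h1 := hlow x
      have h2 := hlow y
      have h1' := h8 (MulAction.stabilizer H x)
      have h2' := h8 (MulAction.stabilizer H y)
      have e1 : (MulAction.stabilizer H x).index = 7 := by omega
      have e2 : (MulAction.stabilizer H y).index = 7 := by omega
      obtain ⟨z, hz⟩ : ∃ z, z ∉ MulAction.orbit H x ∪ MulAction.orbit H y := by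
        by_contra hall
        push Not at hall
        have := Set.ncard_le_ncard (s := Set.univ) (fun z _ => hall z)
        rw [Set.ncard_univ, hX, Set.ncard_union_eq hdisj, ← MulAction.index_stabilizer, ← MulAction.index_stabilizer, e1, e2] at this
        omega
      rw [Set.mem_union, not_or] at hz
      have hd2 : Disjoint (MulAction.orbit H x ∪ MulAction.orbit H y) (MulAction.orbit H z) := by
        rw [Set.disjoint_union_left]
        exact ⟨(MulAction.orbit.eq_or_disjoint x z).resolve_left fun h => hz.1 (h ▸ MulAction.mem_orbit_self z),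
          (MulAction.orbit.eq_or_disjoint y z).resolve_left fun h => hz.2 (h ▸ MulAction.mem_orbit_self z)⟩
      have h3 := hlow z
      have := (Set.ncard_le_ncard (Set.subset_univ (MulAction.orbit H x ∪ MulAction.orbit H y ∪ MulAction.orbit H z))).trans (Set.ncard_univ _).le
      rw [hX, Set.ncard_union_eq hd2, Set.ncard_union_eq hdisj, ← MulAction.index_stabilizer, ← MulAction.index_stabilizer,
        ← MulAction.index_stabilizer] at this
      omega
    · exact le_antisymm (hle x) hge
  have htrans : ∀ x y : {x : Fin 4 → F // x ≠ 0}, y ∈ MulAction.orbit H x := by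
    intro x y
    have h := horb x
    rw [MulAction.index_stabilizer, ← hX, ← Set.ncard_univ] at h
    rw [Set.eq_of_subset_of_ncard_le (Set.subset_univ _) h.ge]
    trivial
  set a : {x : Fin 4 → F // x ≠ 0} := ⟨v, hv⟩ with ha
  set Ha := MulAction.stabilizer H a with hHa
  have hHac : Nat.card Ha = 168 := by
    have := Ha.card_mul_index; rw [horb a, hA7] at this; omega
  haveI : Fact (Nat.Prime 7) := ⟨by norm_num⟩
  obtain ⟨u, hu⟩ := exists_prime_orderOf_dvd_card' (G := Ha) 7 (by rw [hHac]; norm_num)
  have hP : IsPGroup 7 ↥(Subgroup.zpowers u) := IsPGroup.of_card (n := 1) (by rw [Nat.card_zpowers, hu, pow_one])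
  have hfix1 : ∀ b : {x : Fin 4 → F // x ≠ 0}, u • b = b → b = a := by
    obtain ⟨k, hk⟩ := fixed_card_add_one_pow hF (((u : H) : Matrix.GeneralLinearGroup (Fin 4) F) : Matrix (Fin 4) (Fin 4) F)
    set S := {x : {x : Fin 4 → F // x ≠ 0} // (((u : H) : Matrix.GeneralLinearGroup (Fin 4) F) : Matrix (Fin 4) (Fin 4) F) *ᵥ x.1 = x.1}
    have hmod : Nat.card {x : Fin 4 → F // x ≠ 0} ≡ Nat.card S [MOD 7] := by
      refine (hP.card_modEq_card_fixedPoints {x : Fin 4 → F // x ≠ 0}).trans (congrArg (· % 7) (Nat.card_congr
        (Equiv.subtypeEquivRight fun x => ?_)))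
      constructor
      · intro hx; exact congrArg Subtype.val (hx ⟨u, Subgroup.mem_zpowers u⟩)
      · intro hx g
        have : u ∈ MulAction.stabilizer Ha x := Subtype.ext hx
        exact (Subgroup.zpowers_le.mpr this) g.2
    have hle : Nat.card S ≤ 15 := hX ▸ Nat.card_le_card_of_injective _ Subtype.val_injective
    have h15 : Nat.card S ≠ 15 := by
      intro h
      have hu1 : u = 1 := by
        refine Subtype.ext (Subtype.ext (Units.ext (Matrix.ext_of_mulVec_single fun i => ?_)))
        have hbij := (Nat.bijective_iff_injective_and_card (Subtype.val : S → _)).mpr ⟨Subtype.val_injective, h.trans hX.symm⟩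
        obtain ⟨⟨x, hx⟩, hxi⟩ := hbij.2 ⟨Pi.single i 1, by simp⟩
        dsimp only at hxi
        subst hxi
        rw [show (((1 : Ha) : H) : Matrix.GeneralLinearGroup (Fin 4) F).val = 1 from rfl, Matrix.one_mulVec]
        exact hx
      rw [hu1, orderOf_one] at hu
      omega
    have hS1 : Nat.card S = 1 := by
      rw [hX] at hmod
      unfold Nat.ModEq at hmod
      have hk4 : k ≤ 4 := by
        by_contra hk5
        have := Nat.pow_le_pow_right (show 2 > 0 by norm_num) (show 5 ≤ k by omega)
        omega
      interval_cases k <;> omega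
    intro b hb
    obtain ⟨s, hs⟩ := Nat.card_eq_one_iff_unique.mp hS1
    have := @Subsingleton.elim S s ⟨b, congrArg Subtype.val hb⟩ ⟨a, congrArg Subtype.val u.2⟩
    exact congrArg Subtype.val this
  -- suborbits
  have htwo : ∀ b c : {x : Fin 4 → F // x ≠ 0}, b ≠ a → c ≠ a → c ∈ MulAction.orbit Ha b := by
    have hseven : ∀ b : {x : Fin 4 → F // x ≠ 0}, b ≠ a → 7 ∣ (MulAction.stabilizer Ha b).index := by
      intro b hb
      haveI : Finite ↥(MulAction.orbit Ha b) := inferInstance
      have h := hP.card_modEq_card_fixedPoints ↥(MulAction.orbit Ha b)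
      have h0 : Nat.card ↥(MulAction.fixedPoints (Subgroup.zpowers u) ↥(MulAction.orbit Ha b)) = 0 := by
        rw [Nat.card_eq_zero]
        refine Or.inl ⟨fun ⟨⟨x, hx⟩, hfx⟩ => ?_⟩
        have hxa : x = a := hfix1 x (congrArg Subtype.val (hfx ⟨u, Subgroup.mem_zpowers u⟩))
        obtain ⟨g, hg⟩ := hx
        refine hb ?_
        rw [hxa] at hg
        change g • b = a at hg
        have : g⁻¹ • a = a := (g⁻¹).2
        calc b = g⁻¹ • g • b := (inv_smul_smul _ _).symm
          _ = g⁻¹ • a := by rw [hg]
          _ = a := this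
      rw [h0, Nat.card_coe_set_eq, ← MulAction.index_stabilizer] at h
      exact Nat.modEq_zero_iff_dvd.mp h
    have hsub : ∀ b, b ≠ a → MulAction.orbit Ha b ⊆ {a}ᶜ := by
      rintro b hb _ ⟨g, rfl⟩ h
      refine hb ?_
      calc b = g⁻¹ • g • b := (inv_smul_smul _ _).symm
        _ = g⁻¹ • a := by rw [show g • b = a from h]
        _ = a := (g⁻¹).2
    have hc14 : ({a}ᶜ : Set {x : Fin 4 → F // x ≠ 0}).ncard = 14 := by
      rw [Set.ncard_compl, Set.ncard_singleton, hX]
    have hne7 : ∀ b, b ≠ a → (MulAction.stabilizer Ha b).index ≠ 7 := by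
      intro b hb h7
      have hbig : ∀ c, c ≠ a → 7 ≤ (MulAction.stabilizer Ha c).index := fun c hc =>
        Nat.le_of_dvd (Nat.pos_of_ne_zero Subgroup.index_ne_zero_of_finite) (hseven c hc)
      -- the orbit of the pair
      have hst : Nat.card (MulAction.stabilizer Ha b) = 24 := by
        have := (MulAction.stabilizer Ha b).card_mul_index; rw [h7, hHac] at this; omega
      have hpair : ∀ x y : {x : Fin 4 → F // x ≠ 0}, (MulAction.stabilizer H (a, b)).index = 105 := by
        intro _ _
        have e : MulAction.stabilizer H (a, b) = (MulAction.stabilizer Ha b).map Ha.subtype := by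
          ext g
          constructor
          · intro hg
            have hg' := congrArg Prod.fst (MulAction.mem_stabilizer_iff.mp hg)
            exact ⟨⟨g, hg'⟩, congrArg Prod.snd (MulAction.mem_stabilizer_iff.mp hg), rfl⟩
          · rintro ⟨g', hg', rfl⟩
            exact MulAction.mem_stabilizer_iff.mpr (Prod.ext g'.2 hg')
        have hc : Nat.card (MulAction.stabilizer H (a, b)) = 24 := by
          rw [e, ← Nat.card_congr (Subgroup.equivMapOfInjective _ _ Ha.subtype_injective).toEquiv, hst]
        have := (MulAction.stabilizer H (a, b)).card_mul_index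
        rw [hc, hA7] at this
        omega
      -- an involution moves some point
      obtain ⟨t, ht⟩ : ∃ t : H, orderOf t = 2 := exists_prime_orderOf_dvd_card' 2 (by rw [hA7]; norm_num)
      obtain ⟨x, hx⟩ : ∃ x : {x : Fin 4 → F // x ≠ 0}, t • x ≠ x := by
        by_contra hall
        push Not at hall
        have : t = 1 := Subtype.ext (Units.ext (Matrix.ext_of_mulVec_single fun i => by
          rw [show ((1 : H) : Matrix.GeneralLinearGroup (Fin 4) F).val = 1 from rfl, Matrix.one_mulVec]
          exact congrArg Subtype.val (hall ⟨Pi.single i 1, by simp⟩)))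
        rw [this, orderOf_one] at ht; omega
      obtain ⟨g, hg⟩ := htrans x a
      set c := g • (t • x) with hc
      have hca : c ≠ a := fun h => hx (MulAction.injective g (h.trans hg.symm))
      -- both `b` and the self-paired `c` give suborbits of size seven
      have hcb : (MulAction.stabilizer Ha c).index = 7 := by
        rcases em (c ∈ MulAction.orbit Ha b) with hin | hin
        · rw [MulAction.index_stabilizer, MulAction.orbit_eq_iff.mpr hin, ← MulAction.index_stabilizer, h7]
        · have hd : Disjoint (MulAction.orbit Ha b) (MulAction.orbit Ha c) :=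
            (MulAction.orbit.eq_or_disjoint b c).resolve_left fun h => hin (h ▸ MulAction.mem_orbit_self c)
          have := Set.ncard_le_ncard (Set.union_subset (hsub b hb) (hsub c hca))
          rw [Set.ncard_union_eq hd, hc14, ← MulAction.index_stabilizer, ← MulAction.index_stabilizer, h7] at this
          have := hbig c hca
          omega
      have hst' : Nat.card (MulAction.stabilizer Ha c) = 24 := by
        have := (MulAction.stabilizer Ha c).card_mul_index; rw [hcb, hHac] at this; omega
      have h105 : (MulAction.orbit H (a, c)).ncard = 105 := by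
        rw [← MulAction.index_stabilizer]
        have e : MulAction.stabilizer H (a, c) = (MulAction.stabilizer Ha c).map Ha.subtype := by
          ext g'
          constructor
          · intro hg'
            exact ⟨⟨g', congrArg Prod.fst (MulAction.mem_stabilizer_iff.mp hg')⟩,
              congrArg Prod.snd (MulAction.mem_stabilizer_iff.mp hg'), rfl⟩
          · rintro ⟨g'', hg'', rfl⟩
            exact MulAction.mem_stabilizer_iff.mpr (Prod.ext g''.2 hg'')
        have hc24 : Nat.card (MulAction.stabilizer H (a, c)) = 24 := by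
          rw [e, ← Nat.card_congr (Subgroup.equivMapOfInjective _ _ Ha.subtype_injective).toEquiv, hst']
        have := (MulAction.stabilizer H (a, c)).card_mul_index
        rw [hc24, hA7] at this
        omega
      have ht2 : ∀ z : {x : Fin 4 → F // x ≠ 0}, t • t • z = z := fun z => by
        rw [← mul_smul, ← pow_two, ← ht, pow_orderOf_eq_one, one_smul]
      have hswap : (c, a) ∈ MulAction.orbit H (a, c) := by
        refine ⟨g * t * g⁻¹, Prod.ext ?_ ?_⟩
        · show (g * t * g⁻¹) • a = c
          rw [mul_smul, mul_smul, ← hg]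
          show g • t • g⁻¹ • g • x = g • t • x
          rw [inv_smul_smul]
        · show (g * t * g⁻¹) • c = a
          rw [mul_smul, mul_smul, hc, inv_smul_smul, ht2]
          exact hg
      have hclosed : ∀ p ∈ MulAction.orbit H (a, c), Prod.swap p ∈ MulAction.orbit H (a, c) := by
        rintro _ ⟨h, rfl⟩
        obtain ⟨k, hk⟩ := hswap
        refine ⟨h * k, ?_⟩
        show (h * k) • (a, c) = _
        rw [mul_smul, show k • (a, c) = (c, a) from hk]
        rfl
      have hev : ((MulAction.orbit H (a, c)).toFinset.card : ZMod 2) = 0 := by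
        rw [Finset.card_eq_sum_ones, Nat.cast_sum]
        refine Finset.sum_involution (fun p _ => Prod.swap p) (fun p _ => by decide) (fun p hp _ h => ?_)
          (fun p hp => Set.mem_toFinset.mpr (hclosed p (Set.mem_toFinset.mp hp))) (fun p _ => Prod.swap_swap p)
        obtain ⟨k, rfl⟩ := Set.mem_toFinset.mp hp
        exact hca (MulAction.injective k (congrArg Prod.fst h))
      rw [← Set.ncard_eq_toFinset_card', h105] at hev
      exact absurd hev (by decide)
    intro b c hb hc
    have h14 : (MulAction.stabilizer Ha b).index = 14 := by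
      have h1 := hseven b hb
      have h2 := hne7 b hb
      have h3 : (MulAction.stabilizer Ha b).index ≤ 14 := by
        rw [MulAction.index_stabilizer, ← hc14]; exact Set.ncard_le_ncard (hsub b hb)
      have h4 : (MulAction.stabilizer Ha b).index ≠ 0 := Subgroup.index_ne_zero_of_finite
      omega
    rw [MulAction.index_stabilizer] at h14
    rw [Set.eq_of_subset_of_ncard_le (hsub b hb) (by rw [h14, hc14])]
    exact hc
  -- conclusion
  obtain ⟨g₁, hg₁⟩ := htrans a ⟨v', hv'⟩
  set b : {x : Fin 4 → F // x ≠ 0} := ⟨w, hw⟩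
  set c := g₁⁻¹ • (⟨w', hw'⟩ : {x : Fin 4 → F // x ≠ 0}) with hc
  have hba : b ≠ a := fun h => hvw (congrArg Subtype.val h).symm
  have hca : c ≠ a := fun h => hvw' (by
    rw [hc, inv_smul_eq_iff] at h
    exact ((congrArg Subtype.val h).trans (congrArg Subtype.val hg₁)).symm)
  obtain ⟨g₂, hg₂⟩ := htwo b c hba hca
  refine ⟨((g₁ * (g₂ : H) : H) : Matrix.GeneralLinearGroup (Fin 4) F), (g₁ * (g₂ : H)).2, ?_, ?_⟩
  · have : (g₁ * (g₂ : H)) • a = ⟨v', hv'⟩ := by rw [mul_smul, show (g₂ : H) • a = a from g₂.2]; exact hg₁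
    exact congrArg Subtype.val this
  · have : (g₁ * (g₂ : H)) • b = ⟨w', hw'⟩ := by
      rw [mul_smul, show (g₂ : H) • b = c from hg₂, hc, smul_inv_smul]
    exact congrArg Subtype.val this

end Cfsg.Agent.S2551
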