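import Cfsg.Statements.S2552
import Cfsg.Agent.Lib.LinAux.Basic

set_option autoImplicit false
open Cfsg

namespace Cfsg.Agent.S2552

open Matrix in
private theorem exists_map {F : Type*} [Field F] (n : ℕ) (hn : 1 ≤ n) (U : Submodule F (Fin n → F)) (k : ℕ)
    (hk : Module.finrank F U = k) (hkn : k ≤ n) :
    ∃ g : Matrix.SpecialLinearGroup (Fin n) F,
      (Submodule.span F (Set.range fun i : Fin k => (Pi.single (Fin.castLE hkn i) 1 : Fin n → F))).map
        ((Matrix.SpecialLinearGroup.toLin' g : (Fin n → F) ≃ₗ[F] (Fin n → F)) : (Fin n → F) →ₗ[F] (Fin n → F)) = U := by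
  have B := (Module.finBasisOfFinrankEq F U hk)
  obtain ⟨_, b, hb⟩ := Lib.LinAux.exists_basis_extending (Module.finrank_fin_fun F) (fun i => (B i : Fin n → F))
    (B.linearIndependent.map' U.subtype U.ker_subtype)
  let j : Fin n := ⟨0, hn⟩
  refine ⟨⟨_, Lib.LinAux.det_colMatrix_update b.linearIndependent j 1⟩, ?_⟩
  refine Submodule.eq_of_le_of_finrank_eq ?_ ?_
  · rw [Submodule.map_span_le]
    rintro _ ⟨i, rfl⟩
    show Matrix.mulVec (Lib.LinAux.colMatrix (Function.update (⇑b) j ((1 / (Lib.LinAux.colMatrix ⇑b).det) • b j))) _ ∈ U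
    rw [Lib.LinAux.colMatrix_mulVec_single]
    rcases eq_or_ne (Fin.castLE hkn i) j with h | h
    · rw [h, Function.update_self, ← h, hb]
      exact U.smul_mem _ (B i).2
    · rw [Function.update_of_ne h, hb]
      exact (B i).2
  · rw [LinearEquiv.finrank_map_eq, hk, finrank_span_eq_card, Fintype.card_fin]
    simpa [Function.comp_def] using (Pi.basisFun F (Fin n)).linearIndependent.comp _ (Fin.castLE_injective hkn)


/-- Let F be a finite field and n ≥ 1. For every k, the special linear group SL_n(F) acts transitively on the set of k-dimensional subspaces of F^n: any two subspaces of the same dimension are carried onto each other by some matrix of determinant 1. -/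
theorem result {F : Type*} [Field F] [Fintype F] (n : ℕ) (hn : 1 ≤ n) (U₁ U₂ : Submodule F (Fin n → F)) (h : Module.finrank F U₁ = Module.finrank F U₂) : ∃ g : Matrix.SpecialLinearGroup (Fin n) F, U₁.map ((Matrix.SpecialLinearGroup.toLin' g : (Fin n → F) ≃ₗ[F] (Fin n → F)) : (Fin n → F) →ₗ[F] (Fin n → F)) = U₂ := by
  have hle : Module.finrank F U₁ ≤ n := (Submodule.finrank_le U₁).trans_eq (Module.finrank_fin_fun F)
  obtain ⟨g₁, hg₁⟩ := exists_map n hn U₁ _ rfl hle
  obtain ⟨g₂, hg₂⟩ := exists_map n hn U₂ _ h.symm hle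
  refine ⟨g₂ * g₁⁻¹, ?_⟩
  conv_lhs => rw [← hg₁]
  rw [← Submodule.map_comp]
  conv_rhs => rw [← hg₂]
  congr 1
  ext v
  simp [map_mul, map_inv]

end Cfsg.Agent.S2552
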