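import Cfsg.Statements.S2553
import Cfsg.Agent.S0495
import Cfsg.Agent.Lib.Classical.SLTwoSeven
import Cfsg.Agent.Lib.QuadFin.GLFourTwo
import Cfsg.Agent.Lib.QuadFin.EightPointSubgroups

set_option autoImplicit false
open Cfsg

namespace Cfsg.Agent.S2553

open Cfsg.Agent.Lib.QuadFin Cfsg.Agent.Lib.QuadFin.EightPoint
open scoped Matrix

theorem isSimpleGroup_and_index {G X : Type*} [Group G] [Finite G] [IsSimpleGroup G] [MulAction G X]
    (hG : Nat.card G = 1344) (x : X) (hx : MulAction.stabilizer G x ≠ ⊤) :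
    8 ≤ Nat.card (MulAction.orbit G x) ∧ Nat.card (MulAction.orbit G x) ≠ 15 := by
  have h := EightPoint.card_dvd_factorial_index hx
  rw [Nat.card_congr (MulAction.orbitEquivQuotientStabilizer G x), ← Subgroup.index_eq_card]
  rw [hG] at h
  constructor
  · by_contra hlt
    interval_cases hi : (MulAction.stabilizer G x).index <;> norm_num [Nat.factorial] at h
  · intro h15
    have := (MulAction.stabilizer G x).index_dvd_card
    rw [h15, hG] at this
    norm_num at this

theorem not_simple_of_card (H : Subgroup (GL (Fin 4) (ZMod 2))) [IsSimpleGroup H]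
    (hc : Nat.card H = 1344) : False := by
  classical
  letI act0 : MulAction (GL (Fin 4) (ZMod 2)) {x : Fin 4 → ZMod 2 // x ≠ 0} :=
    { smul := fun g x => ⟨(g : Matrix (Fin 4) (Fin 4) (ZMod 2)) *ᵥ x.1, fun h0 => x.2 (by
        have := congrArg ((↑g⁻¹ : Matrix (Fin 4) (Fin 4) (ZMod 2)) *ᵥ ·) h0
        simpa [Matrix.mulVec_mulVec] using this)⟩
      one_smul := fun x => Subtype.ext (Matrix.one_mulVec x.1)
      mul_smul := fun g h x => Subtype.ext (Matrix.mulVec_mulVec x.1 _ _).symm }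
  have hX : Nat.card {x : Fin 4 → ZMod 2 // x ≠ 0} = 15 := by
    rw [Nat.card_eq_fintype_card, Fintype.card_subtype_compl, Fintype.card_subtype_eq, Fintype.card_fun, ZMod.card]
    rfl
  obtain ⟨w, hw⟩ : ∃ w : {x : Fin 4 → ZMod 2 // x ≠ 0}, MulAction.stabilizer H w = ⊤ := by
    by_contra hno
    push Not at hno
    obtain ⟨x⟩ : Nonempty {x : Fin 4 → ZMod 2 // x ≠ 0} := by
      rw [← Fintype.card_pos_iff, ← Nat.card_eq_fintype_card, hX]; norm_num
    obtain ⟨h8, h15⟩ := isSimpleGroup_and_index hc x (hno x)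
    obtain ⟨y, hy⟩ : ∃ y, y ∉ MulAction.orbit H x := by
      by_contra hall
      push Not at hall
      apply h15
      rw [Set.eq_univ_of_forall hall, Nat.card_congr (Equiv.Set.univ _), hX]
    obtain ⟨h8', -⟩ := isSimpleGroup_and_index hc y (hno y)
    have hdis : Disjoint (MulAction.orbit H x) (MulAction.orbit H y) := by
      rw [Set.disjoint_left]
      intro z hz hz'
      exact hy (MulAction.orbit_eq_iff.mpr hz ▸ (MulAction.orbit_eq_iff.mpr hz').symm ▸ MulAction.mem_orbit_self y)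
    have := Set.ncard_le_ncard (Set.subset_univ (MulAction.orbit H x ∪ MulAction.orbit H y))
    rw [Set.ncard_union_eq hdis, Set.ncard_univ, hX, ← Nat.card_coe_set_eq, ← Nat.card_coe_set_eq] at this
    omega
  have hfix : ∀ g : H, ((g : GL (Fin 4) (ZMod 2)) : Matrix (Fin 4) (Fin 4) (ZMod 2)) *ᵥ w.1 = w.1 := fun g =>
    congrArg Subtype.val (MulAction.mem_stabilizer_iff.mp (show g ∈ MulAction.stabilizer H w by rw [hw]; exact Subgroup.mem_top g))
  let W : Submodule (ZMod 2) (Fin 4 → ZMod 2) := Submodule.span (ZMod 2) {w.1}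
  let m : H → ((Fin 4 → ZMod 2) →ₗ[ZMod 2] (Fin 4 → ZMod 2)) := fun g =>
    ((g : GL (Fin 4) (ZMod 2)) : Matrix (Fin 4) (Fin 4) (ZMod 2)).mulVecLin
  have hW : ∀ g, W ≤ W.comap (m g) := fun g => by
    rw [Submodule.span_singleton_le_iff_mem, Submodule.mem_comap]
    show _ *ᵥ w.1 ∈ W
    rw [hfix g]
    exact Submodule.mem_span_singleton_self _
  let φ : H →* Module.End (ZMod 2) ((Fin 4 → ZMod 2) ⧸ W) :=
    { toFun := fun g => W.mapQ W (m g) (hW g)
      map_one' := Submodule.linearMap_qext _ (LinearMap.ext fun x => by simp [m])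
      map_mul' := fun a b => Submodule.linearMap_qext _ (LinearMap.ext fun x => by
        simp [m, Matrix.mulVec_mulVec]) }
  have hinj : Function.Injective φ := by
    rw [← MonoidHom.ker_eq_bot_iff]
    refine (IsSimpleGroup.eq_bot_or_eq_top_of_normal _ (MonoidHom.normal_ker _)).resolve_right fun htop => ?_
    haveI : Fact (Nat.Prime 7) := ⟨by norm_num⟩
    obtain ⟨g, hg⟩ := exists_prime_orderOf_dvd_card' (G := H) 7 (by rw [hc]; norm_num)
    have hgk : g ∈ φ.ker := htop ▸ Subgroup.mem_top g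
    have hsq : g ^ 2 = 1 := by
      apply Subtype.ext
      apply Units.ext
      refine Matrix.ext_of_mulVec_single fun i => ?_
      obtain ⟨x, hx⟩ : ∃ x, x = (Pi.single i 1 : Fin 4 → ZMod 2) := ⟨_, rfl⟩
      rw [← hx]
      have h1 : Submodule.Quotient.mk (p := W) (((g : GL (Fin 4) (ZMod 2)) : Matrix (Fin 4) (Fin 4) (ZMod 2)) *ᵥ x) =
          Submodule.Quotient.mk x :=
        LinearMap.congr_fun (MonoidHom.mem_ker.mp hgk) (Submodule.Quotient.mk x)
      rw [Submodule.Quotient.eq, Submodule.mem_span_singleton] at h1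
      obtain ⟨c, hc'⟩ := h1
      have h2 := eq_add_of_sub_eq hc'.symm
      show (((g ^ 2 : H) : GL (Fin 4) (ZMod 2)) : Matrix (Fin 4) (Fin 4) (ZMod 2)) *ᵥ x = (1 : Matrix (Fin 4) (Fin 4) (ZMod 2)) *ᵥ x
      rw [Matrix.one_mulVec, sq, Subgroup.coe_mul, Units.val_mul, ← Matrix.mulVec_mulVec, h2, Matrix.mulVec_add,
        Matrix.mulVec_smul, hfix g, h2, ← add_assoc, ← add_smul, ZModModule.add_self, zero_smul, zero_add]
    have := orderOf_dvd_of_pow_eq_one hsq
    rw [hg] at this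
    norm_num at this
  haveI : Finite (Module.End (ZMod 2) ((Fin 4 → ZMod 2) ⧸ W)) := Module.finite_of_finite (ZMod 2)
  have hle := Nat.card_le_card_of_injective φ hinj
  have hrk : Module.finrank (ZMod 2) ((Fin 4 → ZMod 2) ⧸ W) = 3 := by
    have h1 := W.finrank_quotient_add_finrank
    rw [finrank_span_singleton w.2, Module.finrank_fin_fun] at h1
    omega
  rw [hc, Module.natCard_eq_pow_finrank (K := ZMod 2), Nat.card_zmod, Module.finrank_linearMap, hrk] at hle
  norm_num at hle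

theorem nonempty_gl_three {G : Type*} [Group G] [Finite G] [IsSimpleGroup G] (hc : Nat.card G = 168) :
    Nonempty (G ≃* GL (Fin 3) (ZMod 2)) := by
  haveI : Fact (Nat.Prime 7) := ⟨by norm_num⟩
  obtain ⟨e₀⟩ := Cfsg.Agent.S0495.result hc (F := ZMod 7) (ZMod.card 7)
  obtain ⟨e₁⟩ := Cfsg.Agent.Lib.Classical.nonempty_PSL2_seven (F := ZMod 7) (K := ZMod 2) (ZMod.card 7) (ZMod.card 2)
  have hinj : Function.Injective (Matrix.SpecialLinearGroup.toGL : Matrix.SpecialLinearGroup (Fin 3) (ZMod 2) →* _) :=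
    fun a b h => Subtype.ext (congrArg Units.val h)
  have hsurj : Function.Surjective (Matrix.SpecialLinearGroup.toGL : Matrix.SpecialLinearGroup (Fin 3) (ZMod 2) →* _) :=
    fun g => ⟨⟨g.1, congrArg Units.val (units_eq_one_of_card_two (ZMod.card 2) (Matrix.GeneralLinearGroup.det g))⟩,
      Units.ext rfl⟩
  have hcen : Subgroup.center (Matrix.SpecialLinearGroup (Fin 3) (ZMod 2)) = ⊥ := by
    rw [eq_bot_iff]
    intro z hz
    obtain ⟨r, hr, hrz⟩ := Matrix.SpecialLinearGroup.mem_center_iff.mp hz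
    rw [Fintype.card_fin] at hr
    have hr1 : r = 1 := by clear hrz; revert hr; revert r; decide
    exact Subgroup.mem_bot.mpr (Subtype.ext (by rw [← hrz, hr1]; simp))
  let π := QuotientGroup.mk' (Subgroup.center (Matrix.SpecialLinearGroup (Fin 3) (ZMod 2)))
  have hπ : Function.Bijective π :=
    ⟨by rw [← MonoidHom.ker_eq_bot_iff, QuotientGroup.ker_mk', hcen], QuotientGroup.mk'_surjective _⟩
  exact ⟨e₀.trans (e₁.trans ((MulEquiv.ofBijective π hπ).symm.trans (MulEquiv.ofBijective _ ⟨hinj, hsurj⟩)))⟩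

theorem restrict_orbit (K : Subgroup (Equiv.Perm (Fin 8))) [Nontrivial K] (hr : Radfree K)
    (hKA : K ≤ alternatingGroup (Fin 8)) (O : Finset (Fin 8)) (hO : ∀ s ∈ K, ∀ x, s x ∈ O ↔ x ∈ O)
    (h5 : 5 ≤ O.card) :
    ∃ f : K →* Equiv.Perm (Fin O.card), Function.Injective f ∧
      (O.card = 7 → ∀ s : K, Equiv.Perm.sign (f s) = 1) := by
  classical
  let ρ : K →* Equiv.Perm {x // x ∈ O} :=
    { toFun := fun s => (s : Equiv.Perm (Fin 8)).subtypePerm (hO s s.2)
      map_one' := by ext x; rfl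
      map_mul' := fun _ _ => by ext x; rfl }
  let σ : ρ.ker →* Equiv.Perm {x // x ∉ O} :=
    { toFun := fun s => ((s.1 : K) : Equiv.Perm (Fin 8)).subtypePerm (fun x => not_congr (hO _ s.1.2 x))
      map_one' := by ext x; rfl
      map_mul' := fun _ _ => by ext x; rfl }
  have hσ : Function.Injective σ := by
    intro a b h
    apply Subtype.ext; apply Subtype.ext; apply Equiv.ext
    intro x
    by_cases hx : x ∈ O
    · have ha : (ρ a.1) ⟨x, hx⟩ = ⟨x, hx⟩ := by rw [MonoidHom.mem_ker.mp a.2]; rfl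
      have hb : (ρ b.1) ⟨x, hx⟩ = ⟨x, hx⟩ := by rw [MonoidHom.mem_ker.mp b.2]; rfl
      exact (congrArg Subtype.val ha).trans (congrArg Subtype.val hb).symm
    · exact congrArg Subtype.val (DFunLike.congr_fun h ⟨x, hx⟩)
  have hker : ρ.ker = ⊥ := by
    apply hr _ (MonoidHom.normal_ker _)
    refine solvable_of_dvd (a := 1) (b := 1) Nat.prime_two Nat.prime_three ?_
    refine (Subgroup.card_dvd_of_injective σ hσ).trans ?_
    rw [Nat.card_perm, Nat.card_eq_fintype_card, Fintype.card_subtype_compl, Fintype.card_fin, Fintype.card_coe]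
    refine (Nat.factorial_dvd_factorial (show 8 - O.card ≤ 3 by omega)).trans ?_
    rfl
  refine ⟨(Fintype.equivFinOfCardEq (Fintype.card_coe O)).permCongrHom.toMonoidHom.comp ρ,
    (Fintype.equivFinOfCardEq (Fintype.card_coe O)).permCongrHom.injective.comp ((MonoidHom.ker_eq_bot_iff ρ).mp hker),
    fun h7 s => ?_⟩
  have hsup : ∀ x, (s : Equiv.Perm (Fin 8)) x ≠ x → x ∈ O := by
    intro x hx
    by_contra hxO
    have hone : Fintype.card {x // x ∉ O} = 1 := by
      rw [Fintype.card_subtype_compl, Fintype.card_fin, Fintype.card_coe, h7]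
    obtain ⟨y, hy⟩ := Fintype.card_eq_one_iff.mp hone
    exact hx ((congrArg Subtype.val (hy ⟨_, fun h => hxO ((hO _ s.2 x).mp h)⟩)).trans (congrArg Subtype.val (hy ⟨x, hxO⟩)).symm)
  show Equiv.Perm.sign ((Fintype.equivFinOfCardEq (Fintype.card_coe O)).permCongr (ρ s)) = 1
  rw [Equiv.Perm.sign_permCongr]
  show Equiv.Perm.sign ((s : Equiv.Perm (Fin 8)).subtypePerm (hO s s.2)) = 1
  convert! (Equiv.Perm.sign_subtypePerm (s : Equiv.Perm (Fin 8)) (hO s s.2) hsup).trans (hKA s.2)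

theorem perm_cases (K : Subgroup (Equiv.Perm (Fin 8))) (hKA : K ≤ alternatingGroup (Fin 8)) [Nontrivial K]
    (hr : Radfree K) (h2 : 2 ∣ Nat.card K) :
    ((∃ n : ℕ, 5 ≤ n ∧ n ≤ 8 ∧ Nonempty (K ≃* alternatingGroup (Fin n))) ∨
      Nonempty (K ≃* Equiv.Perm (Fin 5)) ∨ Nonempty (K ≃* Equiv.Perm (Fin 6))) ∨
    (IsSimpleGroup K ∧ (Nat.card K = 168 ∨ Nat.card K = 1344)) := by
  classical
  haveI : Fact (Nat.Prime 5) := ⟨by norm_num⟩
  haveI : Fact (Nat.Prime 7) := ⟨by norm_num⟩
  have hd : Nat.card K ∣ 20160 := by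
    have := Subgroup.card_dvd_of_le hKA
    rwa [nat_card_alternatingGroup, Nat.card_fin] at this
  by_cases h5 : 5 ∣ Nat.card K
  · left
    obtain ⟨g, hg⟩ := exists_prime_orderOf_dvd_card' (G := K) 5 h5
    have hct := (Cfsg.Agent.Lib.SylowCounting.orderOf_eq_iff_cycleType (α := Fin 8) (p := 5) (by simp) (g : Equiv.Perm (Fin 8))).mp
      (by rw [Subgroup.orderOf_coe, hg])
    have hcyc : (g : Equiv.Perm (Fin 8)).IsCycle := Equiv.Perm.card_cycleType_eq_one.mp (by rw [hct]; rfl)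
    have hsup : (g : Equiv.Perm (Fin 8)).support.card = 5 := by
      rw [← Equiv.Perm.sum_cycleType, hct]; rfl
    obtain ⟨a, ha⟩ : ∃ a, a ∈ (g : Equiv.Perm (Fin 8)).support := Finset.card_pos.mp (by omega)
    let O : Finset (Fin 8) := Finset.univ.filter fun x => ∃ s ∈ K, s a = x
    have hmem : ∀ x, x ∈ O ↔ ∃ s ∈ K, s a = x := fun x => by simp [O]
    have hO : ∀ s ∈ K, ∀ x, s x ∈ O ↔ x ∈ O := by
      intro s hs x
      rw [hmem, hmem]
      constructor
      · rintro ⟨t, ht, h⟩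
        exact ⟨s⁻¹ * t, K.mul_mem (K.inv_mem hs) ht, by rw [Equiv.Perm.mul_apply, h]; simp⟩
      · rintro ⟨t, ht, h⟩
        exact ⟨s * t, K.mul_mem hs ht, by rw [Equiv.Perm.mul_apply, h]⟩
    have hO5 : 5 ≤ O.card := by
      rw [← hsup]
      refine Finset.card_le_card fun y hy => ?_
      obtain ⟨i, hi⟩ := hcyc.sameCycle (Equiv.Perm.mem_support.mp ha) (Equiv.Perm.mem_support.mp hy)
      exact (hmem y).mpr ⟨(g : Equiv.Perm (Fin 8)) ^ i, K.zpow_mem g.2 i, hi⟩
    obtain ⟨f, hf, hfs⟩ := restrict_orbit K hr hKA O hO hO5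
    have hle : O.card ≤ 8 := (Finset.card_le_univ O).trans (Fintype.card_fin 8).le
    let iso := MonoidHom.ofInjective hf
    haveI : Nontrivial f.range := iso.symm.toEquiv.nontrivial
    have hrR : Radfree f.range := hr.of_equiv iso
    rcases (by omega : O.card = 5 ∨ O.card = 6 ∨ O.card = 7 ∨ O.card = 8) with h | h | h | h
    · rcases classify_five_six (Or.inl h) f.range hrR with ⟨n, hn, hn', ⟨e⟩⟩ | ⟨⟨e⟩⟩ | ⟨⟨e⟩⟩
      · exact Or.inl ⟨n, hn, hn', ⟨iso.trans e⟩⟩
      · exact Or.inr (Or.inl ⟨iso.trans e⟩)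
      · exact Or.inr (Or.inr ⟨iso.trans e⟩)
    · rcases classify_five_six (Or.inr h) f.range hrR with ⟨n, hn, hn', ⟨e⟩⟩ | ⟨⟨e⟩⟩ | ⟨⟨e⟩⟩
      · exact Or.inl ⟨n, hn, hn', ⟨iso.trans e⟩⟩
      · exact Or.inr (Or.inl ⟨iso.trans e⟩)
      · exact Or.inr (Or.inr ⟨iso.trans e⟩)
    · let c := (finCongr h).permCongrHom
      let f7 : K →* alternatingGroup (Fin 7) := (c.toMonoidHom.comp f).codRestrict _ fun s => by
        rw [Equiv.Perm.mem_alternatingGroup]
        show Equiv.Perm.sign ((finCongr h).permCongr (f s)) = 1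
        rw [Equiv.Perm.sign_permCongr]; exact hfs h s
      have hf7 : Function.Injective f7 := fun x y hxy => hf (c.injective (congrArg Subtype.val hxy))
      have h7 : 7 ∣ Nat.card K := by
        let A : MulAction K (Fin 8) := inferInstance
        have horb : Nat.card (MulAction.orbit K a) = 7 := by
          rw [← h, ← Nat.card_eq_finsetCard]
          exact Nat.card_congr (Equiv.setCongr (Set.ext fun x => by
            rw [Finset.mem_coe, hmem]; exact ⟨fun ⟨s, hs⟩ => ⟨s.1, s.2, hs⟩, fun ⟨s, hs, h'⟩ => ⟨⟨s, hs⟩, h'⟩⟩))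
        rw [← horb, Nat.card_congr (MulAction.orbitEquivQuotientStabilizer K a), ← Subgroup.index_eq_card]
        exact Subgroup.index_dvd_card _
      exact Or.inl ⟨7, by norm_num, by norm_num, classify_seven K hKA hr hf7 h2 h5 h7⟩
    · have hOu : O = Finset.univ := (Finset.card_eq_iff_eq_univ O).mp (by rw [h, Fintype.card_fin])
      have htr : MulAction.IsPretransitive K (Fin 8) := ⟨fun x y => by
        obtain ⟨s, hs, hsx⟩ := (hmem x).mp (hOu ▸ Finset.mem_univ x)
        obtain ⟨t, ht, hty⟩ := (hmem y).mp (hOu ▸ Finset.mem_univ y)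
        exact ⟨⟨t * s⁻¹, K.mul_mem ht (K.inv_mem hs)⟩, by
          show t (s⁻¹ x) = y
          rw [← hsx, show s⁻¹ (s a) = a by simp, hty]⟩⟩
      have hprim := isPreprimitive_of_cycle K htr (p := 5) (by norm_num) g.2 hcyc hsup (by norm_num)
      have hA := Cfsg.Agent.Lib.Perm.alternatingGroup_le_of_prime_cycle K hprim (p := 5) (by norm_num) (by simp) hcyc hsup g.2
      exact Or.inl ⟨8, by norm_num, le_rfl, ⟨MulEquiv.subgroupCongr (le_antisymm hKA hA)⟩⟩
  · right
    have h4032 : Nat.card K ∣ 2 ^ 6 * 63 := Nat.Coprime.dvd_of_dvd_mul_left (m := 5)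
      ((Nat.coprime_comm).mp (((Nat.Prime.coprime_iff_not_dvd (by norm_num : Nat.Prime 5))).mpr h5)) hd
    have h7 : 7 ∣ Nat.card K := by
      by_contra h7
      exact hr.not_dvd 6 2 Nat.prime_two Nat.prime_three (Nat.Coprime.dvd_of_dvd_mul_left (m := 7)
        ((Nat.coprime_comm).mp (((Nat.Prime.coprime_iff_not_dvd (by norm_num : Nat.Prime 7))).mpr h7)) h4032)
    obtain ⟨P⟩ : Nonempty (Sylow 7 K) := inferInstance
    have hn1 : Nat.card (Sylow 7 K) % 7 = 1 := card_sylow_modEq_one 7 K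
    have hdiv : Nat.card (Sylow 7 K) ∣ Nat.card K := by
      rw [P.card_eq_index_normalizer]; exact Subgroup.index_dvd_card _
    have hn2 : Nat.card (Sylow 7 K) ∣ 2 ^ 6 * 3 ^ 2 := by
      refine Nat.Coprime.dvd_of_dvd_mul_left (m := 7) ?_ (hdiv.trans h4032)
      rw [Nat.coprime_comm, (Fact.out : Nat.Prime 7).coprime_iff_not_dvd]
      omega
    have hc := card_eq_sylow_seven_mul K hKA hr h7 Nat.prime_two Nat.prime_three hn2
    have hsmall : Nat.card (Sylow 7 K) ∈ [1, 8, 36, 64, 288] := by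
      generalize Nat.card (Sylow 7 K) = c at hn1 hn2 ⊢
      norm_num at hn2
      have := Nat.mem_divisors.mpr ⟨hn2, (by norm_num : (576 : ℕ) ≠ 0)⟩
      rw [show (Nat.divisors 576) = {1, 2, 3, 4, 6, 8, 9, 12, 16, 18, 24, 32, 36, 48, 64, 72, 96, 144, 192, 288, 576} by decide +kernel] at this
      simp only [Finset.mem_insert, Finset.mem_singleton] at this
      rcases this with h | h | h | h | h | h | h | h | h | h | h | h | h | h | h | h | h | h | h | h | h <;> subst h <;> first | omega | decide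
    simp only [List.mem_cons, List.not_mem_nil, or_false] at hsmall
    rcases hsmall with h | h | h | h | h <;> rw [h] at hc
    · exact absurd (solvable_of_dvd (a := 1) (b := 1) (by norm_num : Nat.Prime 7) Nat.prime_three (by rw [hc]; norm_num)) hr.not_isSolvable
    · exact ⟨isSimpleGroup_of_card (a := 3) hr h (by rw [hc]; rfl), Or.inl (by rw [hc])⟩
    · rw [hc] at hd; norm_num at hd
    · exact ⟨isSimpleGroup_of_card (a := 6) hr h (by rw [hc]; rfl), Or.inr (by rw [hc])⟩
    · rw [hc] at hd; norm_num at hd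

/-- Let H be a nontrivial subgroup of GL(4,2) (a group isomorphic to the alternating group of degree 8) whose largest normal 2-subgroup and largest normal subgroup of odd order are both trivial. Then H is isomorphic to an alternating group of degree n for some 5 ≤ n ≤ 8, to the symmetric group of degree 5 or 6, or to GL(3,2). -/
theorem result (H : Subgroup (GL (Fin 4) (ZMod 2))) (hH : H ≠ ⊥) (hO : Cfsg.pPrimeCore 2 ↥H = ⊥) (hO2 : Cfsg.pCore 2 ↥H = ⊥) :
    (∃ n : ℕ, 5 ≤ n ∧ n ≤ 8 ∧ Nonempty (↥H ≃* alternatingGroup (Fin n))) ∨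
    Nonempty (↥H ≃* Equiv.Perm (Fin 5)) ∨ Nonempty (↥H ≃* Equiv.Perm (Fin 6)) ∨ Nonempty (↥H ≃* GL (Fin 3) (ZMod 2)) := by
  classical
  obtain ⟨e⟩ := nonempty_GL4_two (F := ZMod 2) (ZMod.card 2)
  obtain ⟨f, hf⟩ : ∃ f : H →* Equiv.Perm (Fin 8), f = ((alternatingGroup (Fin 8)).subtype.comp e.toMonoidHom).comp H.subtype := ⟨_, rfl⟩
  have hfi : Function.Injective f := by
    subst hf
    exact (Subtype.val_injective.comp e.injective).comp Subtype.val_injective
  have hKA : f.range ≤ alternatingGroup (Fin 8) := by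
    rintro _ ⟨s, rfl⟩
    subst hf
    exact (e s.1).2
  let iso := MonoidHom.ofInjective hfi
  haveI : Nontrivial H := (Subgroup.nontrivial_iff_ne_bot H).mpr hH
  haveI : Nontrivial f.range := iso.symm.toEquiv.nontrivial
  have hr : Radfree f.range := (radfree_of_cores hO hO2).of_equiv iso
  have h2 : 2 ∣ Nat.card f.range := by
    rw [← Nat.card_congr iso.toEquiv]
    by_contra h2
    have htop : (⊤ : Subgroup H) ≤ ⊥ := hO ▸ Cfsg.Agent.Lib.Cores.le_pPrimeCore inferInstance
      (by rw [Subgroup.card_top, Nat.coprime_comm]; exact (Nat.Prime.coprime_iff_not_dvd Nat.prime_two).mpr h2)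
    exact top_ne_bot (le_bot_iff.mp htop)
  rcases perm_cases f.range hKA hr h2 with (⟨n, hn, hn', ⟨e'⟩⟩ | ⟨⟨e'⟩⟩ | ⟨⟨e'⟩⟩) | ⟨hs, hc⟩
  · exact Or.inl ⟨n, hn, hn', ⟨iso.trans e'⟩⟩
  · exact Or.inr (Or.inl ⟨iso.trans e'⟩)
  · exact Or.inr (Or.inr (Or.inl ⟨iso.trans e'⟩))
  · haveI := hs
    haveI : IsSimpleGroup H := MulEquiv.isSimpleGroup iso
    rw [← Nat.card_congr iso.toEquiv] at hc
    rcases hc with hc | hc
    · exact Or.inr (Or.inr (Or.inr (nonempty_gl_three hc)))
    · exact (not_simple_of_card H hc).elim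

end Cfsg.Agent.S2553
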