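import Cfsg.Statements.S2556
import Cfsg.Agent.Lib.KnownA.SuzukiSylowAut
import Cfsg.Agent.Lib.KnownA.SuzukiModel
import Cfsg.Agent.Lib.Cores.PCore
open Cfsg.Agent.Lib.KnownA

set_option autoImplicit false
open Cfsg

namespace Cfsg.Agent.S2556

/-- Let S be a Sylow 2-subgroup of the Suzuki group Sz(q), q = 2ⁿ with n = 2m + 1 ≥ 3 (realised as 4 × 4 matrices over the field with q elements). Then the largest normal 2-subgroup of the automorphism group of S is elementary abelian of order 2^(n²), and the automorphism group of S has order 2^(n²) · n · (q − 1). -/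
theorem result {S : Type*} [Group S] [Finite S] (m : ℕ) (hm : 1 ≤ m)
    {F : Type*} [Field F] [Fintype F] (hF : Fintype.card F = 2 ^ (2 * m + 1))
    (P : Sylow 2 ↥(Cfsg.Lie.Sz F (2 ^ (m + 1)))) (hS : Nonempty (S ≃* ↥(P : Subgroup ↥(Cfsg.Lie.Sz F (2 ^ (m + 1)))))) :
    Cfsg.IsElementaryAbelian 2 (Cfsg.pCore 2 (MulAut S)) ∧ Nat.card ↥(Cfsg.pCore 2 (MulAut S)) = 2 ^ ((2 * m + 1) ^ 2) ∧
      Nat.card (MulAut S) = 2 ^ ((2 * m + 1) ^ 2) * ((2 * m + 1) * (2 ^ (2 * m + 1) - 1)) := by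
  haveI := Suz.charP_two hF
  have hθ := Suz.th_sq (F := F) (m := m) hF
  obtain ⟨eS⟩ := hS
  obtain ⟨e', he'⟩ := Suz.exists_sylow_equiv hθ (MulEquiv.refl ↥(Suz.G F m)) hF P
  let e : S ≃* ↥(Suz.U hθ) := eS.trans ((e'.subgroupMap (P : Subgroup ↥(Suz.G F m))).trans (MulEquiv.subgroupCongr he'))
  let φ : MulAut S ≃* MulAut ↥(Suz.U hθ) := MulAut.congr e
  obtain ⟨⟨h1, h2⟩, h3, h4⟩ := Suz.aut_U hθ hm hF
  have hmap := Cfsg.Agent.Lib.Cores.map_pCore_equiv (p := 2) φ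
  have hmem : ∀ a ∈ Cfsg.pCore 2 (MulAut S), φ a ∈ Cfsg.pCore 2 (MulAut ↥(Suz.U hθ)) := fun a ha =>
    hmap ▸ ⟨a, ha, rfl⟩
  refine ⟨⟨⟨⟨fun a b => Subtype.ext (φ.injective ?_)⟩⟩, fun a ha => φ.injective ?_⟩, ?_, ?_⟩
  · have := congrArg Subtype.val (h1.is_comm.comm ⟨_, hmem _ a.2⟩ ⟨_, hmem _ b.2⟩)
    simpa using this
  · rw [map_pow, map_one]; exact h2 _ (hmem a ha)
  · rw [← h3, ← hmap]
    exact (Subgroup.card_map_of_injective φ.injective).symm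
  · rw [Nat.card_congr φ.toEquiv, h4]

end Cfsg.Agent.S2556
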