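import Cfsg.Statements.S2558
import Mathlib
import Cfsg.Agent.Lib.Similar.OrthClassLower
-- import your own Cfsg.Agent.* helpers here

set_option autoImplicit false
open Cfsg

namespace Cfsg.Agent.S2558

open Matrix
open Cfsg.Agent.Lib.Similar

theorem eq_of_quad {ι : Type*} [Fintype ι] [DecidableEq ι] {F : Type*} [Field F] (h2 : (2 : F) ≠ 0)
    {A B : Matrix ι ι F} (hA : Aᵀ = A) (hB : Bᵀ = B) (h : ∀ v, v ⬝ᵥ (A *ᵥ v) = v ⬝ᵥ (B *ᵥ v)) : A = B := by
  have hsym : ∀ {M : Matrix ι ι F}, Mᵀ = M → ∀ i j, M j i = M i j := fun {M} hM i j => by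
    conv_rhs => rw [← hM]
    rfl
  ext i j
  have e0 := h (Pi.single i 1 + Pi.single j 1)
  have e1 := h (Pi.single i 1)
  have e2 := h (Pi.single j 1)
  simp [Matrix.mulVec_add, add_dotProduct, dotProduct_add] at e0 e1 e2
  have e3 : (2 : F) * A i j = 2 * B i j := by
    linear_combination e0 - e1 - e2 - hsym hA i j + hsym hB i j
  exact mul_left_cancel₀ h2 e3

/-- The isometry group of a quadratic form given by a symmetric matrix, after reindexing. -/
theorem nonempty_equiv {ι : Type} [Fintype ι] [DecidableEq ι] {F : Type*} [Field F] (h2 : (2 : F) ≠ 0) {Q : (ι → F) → F}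
    {A : Matrix ι ι F} (hA : Aᵀ = A) (hQ : ∀ v, Q v = v ⬝ᵥ (A *ᵥ v)) {n : ℕ} (e : ι ≃ Fin n ⊕ Fin n) :
    Nonempty (↥(Cfsg.isometryGroup F Q) ≃* OClass.OB (Matrix.reindexAlgEquiv F F e A)) := by
  let R : Matrix.GeneralLinearGroup ι F ≃* Matrix.GeneralLinearGroup (Fin n ⊕ Fin n) F :=
    Units.mapEquiv (Matrix.reindexAlgEquiv F F e).toMulEquiv
  have hrT : ∀ M : Matrix ι ι F, (Matrix.reindexAlgEquiv F F e M)ᵀ = Matrix.reindexAlgEquiv F F e Mᵀ := fun M => by
    simp [Matrix.transpose_submatrix]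
  have hmem : ∀ g : Matrix.GeneralLinearGroup ι F, R g ∈ OClass.OB (Matrix.reindexAlgEquiv F F e A) ↔
      g ∈ Cfsg.isometryGroup F Q := by
    intro g
    have hv : ∀ v, Q ((g : Matrix ι ι F) *ᵥ v) = v ⬝ᵥ (((g : Matrix ι ι F)ᵀ * A * (g : Matrix ι ι F)) *ᵥ v) := fun v => by
      rw [hQ, ← mulVec_mulVec, ← mulVec_mulVec, dotProduct_mulVec v (g : Matrix ι ι F)ᵀ, vecMul_transpose]
    have hiso : g ∈ Cfsg.isometryGroup F Q ↔ ∀ v, Q ((g : Matrix ι ι F) *ᵥ v) = Q v := by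
      refine ⟨fun h v => h v v, fun h u _ => h u⟩
    rw [hiso]
    show (Matrix.reindexAlgEquiv F F e (g : Matrix ι ι F))ᵀ * _ * Matrix.reindexAlgEquiv F F e (g : Matrix ι ι F) = _ ↔ _
    rw [hrT, ← map_mul, ← map_mul, (Matrix.reindexAlgEquiv F F e).injective.eq_iff]
    constructor
    · intro h v
      rw [hv, h, hQ]
    · intro h
      refine eq_of_quad h2 ?_ hA fun v => by rw [← hv, h, hQ]
      rw [transpose_mul, transpose_mul, transpose_transpose, hA, mul_assoc]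
  exact ⟨{ toFun := fun g => ⟨R g.1, (hmem g.1).2 g.2⟩
           invFun := fun g => ⟨R.symm g.1, (hmem _).1 (by rw [MulEquiv.apply_symm_apply]; exact g.2)⟩
           left_inv := fun g => Subtype.ext (R.symm_apply_apply _)
           right_inv := fun g => Subtype.ext (R.apply_symm_apply _)
           map_mul' := fun g h => Subtype.ext (map_mul R _ _) }⟩

theorem card_classes_congr {G H : Type*} [Group G] [Group H] (e : G ≃* H) :
    Nat.card (ConjClasses G) = Nat.card (ConjClasses H) := by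
  refine Nat.card_congr ⟨ConjClasses.map e.toMonoidHom, ConjClasses.map e.symm.toMonoidHom, ?_, ?_⟩
  · intro c
    obtain ⟨x, rfl⟩ := ConjClasses.mk_surjective c
    show ConjClasses.mk (e.symm (e x)) = ConjClasses.mk x
    rw [e.symm_apply_apply]
  · intro c
    obtain ⟨x, rfl⟩ := ConjClasses.mk_surjective c
    show ConjClasses.mk (e (e.symm x)) = ConjClasses.mk x
    rw [e.apply_symm_apply]

theorem bounds {ι : Type} [Fintype ι] [DecidableEq ι] {F : Type*} [Field F] [Fintype F] (hodd : Odd (Fintype.card F))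
    (h2 : (2 : F) ≠ 0) {Q : (ι → F) → F} {A : Matrix ι ι F} (hA : Aᵀ = A) (hd : A.det ≠ 0)
    (hQ : ∀ v, Q v = v ⬝ᵥ (A *ᵥ v)) {n : ℕ} (hn : 2 ≤ n) (hc : Fintype.card ι = n + n) :
    Fintype.card F ^ n ≤ 2 * Nat.card (ConjClasses ↥(Cfsg.isometryGroup F Q)) ∧
      2 * Nat.card (ConjClasses ↥(Cfsg.isometryGroup F Q)) ≤ 19 * Fintype.card F ^ n := by
  obtain ⟨k, rfl⟩ : ∃ k, n = k + 1 := ⟨n - 1, by omega⟩
  let e : ι ≃ Fin (k + 1) ⊕ Fin (k + 1) := Fintype.equivOfCardEq (by simp [hc])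
  obtain ⟨φ⟩ := nonempty_equiv h2 hA hQ e
  have hB : OClass.Sym (Matrix.reindexAlgEquiv F F e A) :=
    ⟨by rw [Matrix.reindexAlgEquiv_apply, Matrix.reindex_apply, Matrix.transpose_submatrix, hA],
      by rw [Matrix.det_reindexAlgEquiv]; exact hd.isUnit⟩
  rw [card_classes_congr φ]
  exact ⟨OClass.card_classes_ge hodd hn hB, OClass.card_classes_le hodd hB⟩


/-- The number of conjugacy classes of the full orthogonal groups O⁺(2n,q) and O⁻(2n,q), q odd, 2n ≥ 4: for F a finite field of odd order q and n ≥ 2, the number k of conjugacy classes of the isometry group of the hyperbolic quadratic form Σ xᵢyᵢ on F^{2n}, and likewise of the elliptic form Σ xᵢyᵢ + (z₁² + a z₁z₂ + b z₂²) with anisotropic binary part, satisfies q^n/2 ≤ k ≤ 9.5·q^n. -/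
theorem result {F : Type*} [Field F] [Fintype F] (hodd : Odd (Fintype.card F)) (n : ℕ) (hn : 2 ≤ n) (a b : F) (hab : ∀ z₁ z₂ : F, z₁ ^ 2 + a * z₁ * z₂ + b * z₂ ^ 2 = 0 → z₁ = 0 ∧ z₂ = 0) :
    (Fintype.card F ^ n ≤ 2 * Nat.card (ConjClasses ↥(Cfsg.isometryGroup F (Cfsg.quadFormPlus n F))) ∧
      2 * Nat.card (ConjClasses ↥(Cfsg.isometryGroup F (Cfsg.quadFormPlus n F))) ≤ 19 * Fintype.card F ^ n) ∧
    (Fintype.card F ^ n ≤ 2 * Nat.card (ConjClasses ↥(Cfsg.isometryGroup F (Cfsg.quadFormMinus (n - 1) F a b))) ∧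
      2 * Nat.card (ConjClasses ↥(Cfsg.isometryGroup F (Cfsg.quadFormMinus (n - 1) F a b))) ≤ 19 * Fintype.card F ^ n) := by
  classical
  have h2 : (2 : F) ≠ 0 := Ring.two_ne_zero (by
    intro hc
    have := FiniteField.even_card_iff_char_two.1 hc
    obtain ⟨r, hr⟩ := hodd
    omega)
  have h4 : (4 : F) ≠ 0 := by rw [show (4 : F) = 2 * 2 by norm_num]; exact mul_ne_zero h2 h2
  let P : (m : ℕ) → Matrix (Fin m ⊕ Fin m) (Fin m ⊕ Fin m) F := fun m =>
    (2⁻¹ : F) • fromBlocks 0 1 1 0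
  have hPs : ∀ m, (P m)ᵀ = P m := fun m => by simp [P, fromBlocks_transpose]
  have hPq : ∀ m v, Cfsg.quadFormPlus m F v = v ⬝ᵥ (P m *ᵥ v) := fun m v => by
    simp only [P, Cfsg.quadFormPlus, Matrix.smul_mulVec, dotProduct_smul, fromBlocks_mulVec, Matrix.zero_mulVec,
      Matrix.one_mulVec, zero_add, add_zero, smul_eq_mul, dotProduct, Fintype.sum_sum_type, Sum.elim_inl, Sum.elim_inr,
      Function.comp_apply]
    rw [← Finset.sum_add_distrib]
    refine Finset.sum_congr rfl fun i _ => ?_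
    simp
    field_simp
    ring
  have hPd : ∀ m, (P m).det ≠ 0 := fun m => by
    simp only [P, det_smul]
    refine mul_ne_zero (pow_ne_zero _ (inv_ne_zero h2)) fun h0 => ?_
    have e : fromBlocks (0 : Matrix (Fin m) (Fin m) F) (1 : Matrix (Fin m) (Fin m) F) (1 : Matrix (Fin m) (Fin m) F) (0 : Matrix (Fin m) (Fin m) F) * fromBlocks (0 : Matrix (Fin m) (Fin m) F) (1 : Matrix (Fin m) (Fin m) F) (1 : Matrix (Fin m) (Fin m) F) (0 : Matrix (Fin m) (Fin m) F) = 1 := by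
      rw [fromBlocks_multiply]; simp
    have := congrArg Matrix.det e
    rw [det_mul, h0, zero_mul, det_one] at this
    exact zero_ne_one this
  refine ⟨bounds hodd h2 (hPs n) (hPd n) (hPq n) hn (by simp), ?_⟩
  let Z : Matrix (Fin 2) (Fin 2) F := !![1, a * 2⁻¹; a * 2⁻¹, b]
  have hZd : Z.det ≠ 0 := by
    intro h0
    simp only [Z, Matrix.det_fin_two_of] at h0
    have := hab (-(a * 2⁻¹)) 1 (by field_simp at h0 ⊢; linear_combination h0)
    exact one_ne_zero this.2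
  refine bounds hodd h2 (A := fromBlocks (P (n - 1)) 0 0 Z) ?_ ?_ ?_ hn (by simp; omega)
  · rw [fromBlocks_transpose, hPs, transpose_zero, transpose_zero]
    congr 1
    ext i j
    fin_cases i <;> fin_cases j <;> rfl
  · rw [det_fromBlocks_zero₂₁]
    exact mul_ne_zero (hPd _) hZd
  · intro v
    obtain ⟨v1, v2, rfl⟩ : ∃ v1 v2, v = Sum.elim v1 v2 := ⟨v ∘ Sum.inl, v ∘ Sum.inr, (Sum.elim_comp_inl_inr v).symm⟩
    have e := hPq (n - 1) v1
    simp only [Cfsg.quadFormPlus] at e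
    simp only [Cfsg.quadFormMinus, Sum.elim_inl, Sum.elim_inr, e, fromBlocks_mulVec, Sum.elim_comp_inl, Sum.elim_comp_inr,
      Matrix.zero_mulVec, zero_add, add_zero]
    rw [dotProduct, dotProduct, Fintype.sum_sum_type]
    simp only [Sum.elim_inl, Sum.elim_inr, Z, Fin.sum_univ_two, Matrix.mulVec, dotProduct, Fintype.sum_sum_type]
    simp [Fin.sum_univ_two]
    field_simp
    ring

end Cfsg.Agent.S2558
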