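import Cfsg.Statements.S2561
import Cfsg.Agent.Lib.QuadFin.Normal
import Cfsg.Agent.Lib.QuadFin.WittIndex
import Cfsg.Agent.Lib.Geometry.OrthNegOne
import Cfsg.Agent.Lib.Classical.OrthCard

set_option autoImplicit false
open Cfsg

namespace Cfsg.Agent.S2561

open QuadraticMap (polarBilin)
open Cfsg.Agent.Lib.Geometry (quad_add quad_smul quad_polar_self quad_polar_comm matQuad)
open Cfsg.Agent.Lib.Classical (zeroCount zeroCount_congr hyperForm hyperForm_apply zeroCount_hyperForm)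

attribute [-simp] QuadraticMap.polarBilin_apply_apply

/-- A function over `ZMod 2` with bilinear polarization is a quadratic form. -/
theorem exists_quad {V : Type*} [AddCommGroup V] [Module (ZMod 2) V] (Q₀ : QuadraticForm (ZMod 2) V) (q : V → ZMod 2)
    (hq : ∀ u v, q (u + v) = q u + q v + (Q₀ (u + v) - Q₀ u - Q₀ v)) :
    ∃ φ : V →ₗ[ZMod 2] ZMod 2, ∀ v, q v = Q₀ v + φ v := by
  let f : V →+ ZMod 2 := AddMonoidHom.mk' (fun v => q v - Q₀ v) fun u v => by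
    show q (u + v) - Q₀ (u + v) = q u - Q₀ u + (q v - Q₀ v)
    rw [hq]; ring
  exact ⟨f.toZModLinearMap 2, fun v => by show q v = Q₀ v + (q v - Q₀ v); ring⟩

theorem zmod_cases : ∀ x : ZMod 2, x = 0 ∨ x = 1 := by decide

/-- Fix the non-singular alternating form on the 2m-dimensional space over the field of two elements obtained by polarizing the plus-type form Σ xᵢyᵢ (m ≥ 1). The functions q on the space with q(u + v) = q(u) + q(v) + f(u, v) (the quadratic forms polarizing to f) number 2^(2m); each is equivalent under an invertible linear map either to the plus-type form or to the minus-type form Σ xᵢyᵢ + (z₁² + z₁z₂ + z₂²); and those of plus type number 2^(2m−1) + 2^(m−1), those of minus type 2^(2m−1) − 2^(m−1). -/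
theorem result (m : ℕ) (hm : 1 ≤ m) :
    Nat.card {q : (Fin m ⊕ Fin m → ZMod 2) → ZMod 2 // (∀ u v : (Fin m ⊕ Fin m → ZMod 2), q (u + v) = q u + q v + (Cfsg.quadFormPlus m (ZMod 2) (u + v) - Cfsg.quadFormPlus m (ZMod 2) u - Cfsg.quadFormPlus m (ZMod 2) v))} = 2 ^ (2 * m) ∧
    (∀ q : (Fin m ⊕ Fin m → ZMod 2) → ZMod 2, (∀ u v : (Fin m ⊕ Fin m → ZMod 2), q (u + v) = q u + q v + (Cfsg.quadFormPlus m (ZMod 2) (u + v) - Cfsg.quadFormPlus m (ZMod 2) u - Cfsg.quadFormPlus m (ZMod 2) v)) →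
      (∃ g : (Fin m ⊕ Fin m → ZMod 2) ≃ₗ[ZMod 2] (Fin m ⊕ Fin m → ZMod 2), ∀ v, q v = Cfsg.quadFormPlus m (ZMod 2) (g v)) ∨
      (∃ g : (Fin m ⊕ Fin m → ZMod 2) ≃ₗ[ZMod 2] ((Fin (m - 1) ⊕ Fin (m - 1)) ⊕ Fin 2 → ZMod 2), ∀ v, q v = Cfsg.quadFormMinus (m - 1) (ZMod 2) 1 1 (g v))) ∧
    Nat.card {q : (Fin m ⊕ Fin m → ZMod 2) → ZMod 2 // (∀ u v : (Fin m ⊕ Fin m → ZMod 2), q (u + v) = q u + q v + (Cfsg.quadFormPlus m (ZMod 2) (u + v) - Cfsg.quadFormPlus m (ZMod 2) u - Cfsg.quadFormPlus m (ZMod 2) v)) ∧ ∃ g : (Fin m ⊕ Fin m → ZMod 2) ≃ₗ[ZMod 2] (Fin m ⊕ Fin m → ZMod 2), ∀ v, q v = Cfsg.quadFormPlus m (ZMod 2) (g v)} = 2 ^ (2 * m - 1) + 2 ^ (m - 1) ∧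
    Nat.card {q : (Fin m ⊕ Fin m → ZMod 2) → ZMod 2 // (∀ u v : (Fin m ⊕ Fin m → ZMod 2), q (u + v) = q u + q v + (Cfsg.quadFormPlus m (ZMod 2) (u + v) - Cfsg.quadFormPlus m (ZMod 2) u - Cfsg.quadFormPlus m (ZMod 2) v)) ∧ ∃ g : (Fin m ⊕ Fin m → ZMod 2) ≃ₗ[ZMod 2] ((Fin (m - 1) ⊕ Fin (m - 1)) ⊕ Fin 2 → ZMod 2), ∀ v, q v = Cfsg.quadFormMinus (m - 1) (ZMod 2) 1 1 (g v)} = 2 ^ (2 * m - 1) - 2 ^ (m - 1) := by
  classical
  set Q₀ := matQuad (Cfsg.Agent.Lib.Geometry.plusMatrix m (ZMod 2)) with hQ₀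
  have hQ₀' : Cfsg.quadFormPlus m (ZMod 2) = ⇑Q₀ := Cfsg.Agent.Lib.Geometry.quadFormPlus_eq m
  have hnd : (polarBilin Q₀).Nondegenerate := Cfsg.Agent.Lib.Geometry.polarBilin_matQuad_nondegenerate (by
    rw [Cfsg.Agent.Lib.Geometry.det_plusGram]; exact pow_ne_zero _ (neg_ne_zero.mpr one_ne_zero))
  rw [hQ₀']
  have hfr : Module.finrank (ZMod 2) (Fin m ⊕ Fin m → ZMod 2) = 2 * m := by
    rw [Module.finrank_fintype_fun_eq_card, Fintype.card_sum, Fintype.card_fin]; omega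
  -- parametrisation by vectors
  let qw : (Fin m ⊕ Fin m → ZMod 2) → (Fin m ⊕ Fin m → ZMod 2) → ZMod 2 := fun w v => Q₀ v + polarBilin Q₀ w v
  have hqw : ∀ w u v, qw w (u + v) = qw w u + qw w v + (Q₀ (u + v) - Q₀ u - Q₀ v) := fun w u v => by
    simp only [qw, map_add]; ring
  have hsurj : ∀ q : (Fin m ⊕ Fin m → ZMod 2) → ZMod 2, (∀ u v, q (u + v) = q u + q v + (Q₀ (u + v) - Q₀ u - Q₀ v)) → ∃ w, qw w = q := by
    intro q hq
    obtain ⟨φ, hφ⟩ := exists_quad Q₀ q hq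
    refine ⟨(LinearMap.BilinForm.toDual (polarBilin Q₀) hnd).symm φ, funext fun v => ?_⟩
    show Q₀ v + _ = q v
    rw [hφ, LinearMap.BilinForm.apply_toDual_symm_apply]
  have hinj : Function.Injective qw := by
    intro w w' h
    refine sub_eq_zero.mp (hnd.1 _ fun v => ?_)
    have h1 := congrFun h v
    simp only [qw] at h1
    rw [map_sub, LinearMap.sub_apply, add_left_cancel h1, sub_self]
  let e : (Fin m ⊕ Fin m → ZMod 2) ≃ {q : (Fin m ⊕ Fin m → ZMod 2) → ZMod 2 // ∀ u v, q (u + v) = q u + q v + (Q₀ (u + v) - Q₀ u - Q₀ v)} :=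
    Equiv.ofBijective (fun w => ⟨qw w, hqw w⟩)
      ⟨fun a b h => hinj (congrArg Subtype.val h), fun q => by
        obtain ⟨w, hw⟩ := hsurj q.1 q.2
        exact ⟨w, Subtype.ext hw⟩⟩
  have hcard : Nat.card (Fin m ⊕ Fin m → ZMod 2) = 2 ^ (2 * m) := by
    simp [Nat.card_eq_fintype_card, two_mul]
  -- number of zeros
  let sp : (Fin m ⊕ Fin m → ZMod 2) ≃ₗ[ZMod 2] (Fin m → ZMod 2) × (Fin m → ZMod 2) × (Fin 0 → ZMod 2) :=
    (LinearEquiv.sumArrowLequivProdArrow (Fin m) (Fin m) (ZMod 2) (ZMod 2)).trans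
      ((LinearEquiv.refl _ _).prodCongr (LinearEquiv.prodUnique (R := ZMod 2) (M := Fin m → ZMod 2) (M₂ := Fin 0 → ZMod 2)).symm)
  have hz : Nat.card {w : Fin m ⊕ Fin m → ZMod 2 // Q₀ w = 0} = 2 ^ (2 * m - 1) + 2 ^ (m - 1) := by
    have h1 : zeroCount Q₀ = zeroCount (hyperForm m (0 : QuadraticForm (ZMod 2) (Fin 0 → ZMod 2))) :=
      zeroCount_congr _ _ sp (fun v => by
        rw [← hQ₀', hyperForm_apply]
        simp [sp, Cfsg.quadFormPlus, dotProduct])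
    have h2 := zeroCount_hyperForm (q := 2) (d := 0) (F := ZMod 2) (by simp) (by simp)
      (0 : QuadraticForm (ZMod 2) (Fin 0 → ZMod 2)) m
    have h3 : zeroCount (0 : QuadraticForm (ZMod 2) (Fin 0 → ZMod 2)) = 1 := by simp [zeroCount]
    rw [h3, ← h1, zero_add, zero_add] at h2
    obtain ⟨k, rfl⟩ : ∃ k, m = k + 1 := ⟨m - 1, by omega⟩
    show zeroCount Q₀ = _
    rw [show 2 * (k + 1) - 1 = 2 * k + 1 by omega, show k + 1 - 1 = k by omega]
    rw [show (2 : ℕ) ^ (2 * (k + 1)) = 2 * 2 ^ (2 * k + 1) by ring, show (2 : ℕ) ^ (k + 1 + 1) = 4 * 2 ^ k by ring,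
      show (2 : ℕ) ^ (k + 1) = 2 * 2 ^ k by ring] at h2
    omega
  -- the types
  have hplus : ∀ w, Q₀ w = 0 → ∃ g : (Fin m ⊕ Fin m → ZMod 2) ≃ₗ[ZMod 2] (Fin m ⊕ Fin m → ZMod 2), ∀ v, qw w v = Q₀ (g v) := by
    intro w hw
    let T : (Fin m ⊕ Fin m → ZMod 2) →ₗ[ZMod 2] (Fin m ⊕ Fin m → ZMod 2) := LinearMap.id + (polarBilin Q₀ w).smulRight w
    have hTT : ∀ v, T (T v) = v := fun v => by
      have hww : polarBilin Q₀ w w = 0 := by rw [quad_polar_self, hw, mul_zero]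
      simp only [T, LinearMap.add_apply, LinearMap.id_apply, LinearMap.smulRight_apply, map_add, map_smul, hww,
        smul_zero, add_zero]
      rw [zero_smul, add_zero, add_assoc, ← add_smul, CharTwo.add_self_eq_zero, zero_smul, add_zero]
    refine ⟨LinearEquiv.ofLinear T T (LinearMap.ext hTT) (LinearMap.ext hTT), fun v => ?_⟩
    show Q₀ v + polarBilin Q₀ w v = Q₀ (v + polarBilin Q₀ w v • w)
    rw [quad_add, quad_smul, hw, mul_zero, add_zero, map_smul, quad_polar_comm Q₀ v w, smul_eq_mul]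
    rcases zmod_cases (polarBilin Q₀ w v) with h | h <;> rw [h] <;> ring
  have hzeros : ∀ w, Q₀ w = 1 → ∀ g : (Fin m ⊕ Fin m → ZMod 2) ≃ₗ[ZMod 2] (Fin m ⊕ Fin m → ZMod 2), ¬ ∀ v, qw w v = Q₀ (g v) := by
    intro w hw g hg
    have hv : ∀ v, qw w v = Q₀ (v + w) + 1 := fun v => by
      rw [quad_add, hw, quad_polar_comm Q₀ v w]
      show Q₀ v + _ = _
      linear_combination -(CharTwo.two_eq_zero (R := ZMod 2))
    have h1 : Nat.card {v : Fin m ⊕ Fin m → ZMod 2 // Q₀ v = 0} = Nat.card {v : Fin m ⊕ Fin m → ZMod 2 // ¬ Q₀ v = 0} := by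
      refine (Nat.card_congr (g.toEquiv.subtypeEquiv (p := fun v => qw w v = 0) fun v => by rw [hg]; rfl)).symm.trans ?_
      refine Nat.card_congr ((Equiv.addRight w).subtypeEquiv fun v => ?_)
      rw [hv]
      show _ ↔ ¬ Q₀ (v + w) = 0
      rcases zmod_cases (Q₀ (v + w)) with h | h <;> rw [h] <;> decide
    have h2 : Nat.card {v : Fin m ⊕ Fin m → ZMod 2 // Q₀ v = 0} + Nat.card {v : Fin m ⊕ Fin m → ZMod 2 // ¬ Q₀ v = 0} = 2 ^ (2 * m) := by
      rw [← Nat.card_sum, Nat.card_congr (Equiv.sumCompl _), hcard]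
    rw [← h1, hz] at h2
    obtain ⟨k, rfl⟩ : ∃ k, m = k + 1 := ⟨m - 1, by omega⟩
    rw [show 2 * (k + 1) - 1 = 2 * k + 1 by omega, show k + 1 - 1 = k by omega,
      show (2 : ℕ) ^ (2 * (k + 1)) = 2 * 2 ^ (2 * k + 1) by ring] at h2
    have : 0 < 2 ^ k := by positivity
    omega
  have hsing : ∀ (g : (Fin m ⊕ Fin m → ZMod 2) ≃ₗ[ZMod 2] ((Fin (m - 1) ⊕ Fin (m - 1)) ⊕ Fin 2 → ZMod 2))
      (h : (Fin m ⊕ Fin m → ZMod 2) ≃ₗ[ZMod 2] (Fin m ⊕ Fin m → ZMod 2)),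
      ¬ ∀ v, Cfsg.quadFormMinus (m - 1) (ZMod 2) 1 1 (g v) = Q₀ (h v) := by
    intro g h hgh
    have hle := Cfsg.Agent.Lib.QuadFin.finrank_singular_minus_le (m := m - 1) (1 : ZMod 2) 1 (by decide)
      ((Cfsg.Agent.Lib.QuadFin.xSubspace (ZMod 2) m).map (h.symm.trans g : (Fin m ⊕ Fin m → ZMod 2) →ₗ[ZMod 2] _)) (by
        rintro _ ⟨u, hu, rfl⟩
        show Cfsg.quadFormMinus (m - 1) (ZMod 2) 1 1 (g (h.symm u)) = 0
        rw [hgh, h.apply_symm_apply, ← hQ₀']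
        exact Cfsg.Agent.Lib.QuadFin.xSubspace_singular hu)
    rw [LinearEquiv.finrank_map_eq, Cfsg.Agent.Lib.QuadFin.finrank_xSubspace] at hle
    omega
  have hminus : ∀ w, Q₀ w = 1 → ∃ g : (Fin m ⊕ Fin m → ZMod 2) ≃ₗ[ZMod 2] ((Fin (m - 1) ⊕ Fin (m - 1)) ⊕ Fin 2 → ZMod 2),
      ∀ v, qw w v = Cfsg.quadFormMinus (m - 1) (ZMod 2) 1 1 (g v) := by
    intro w hw
    let lw : QuadraticForm (ZMod 2) (Fin m ⊕ Fin m → ZMod 2) :=
      QuadraticMap.linMulLin (polarBilin Q₀ w) (polarBilin Q₀ w)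
    have hq : ∀ v, (Q₀ + lw) v = qw w v := fun v => by
      show Q₀ v + polarBilin Q₀ w v * polarBilin Q₀ w v = Q₀ v + polarBilin Q₀ w v
      rcases zmod_cases (polarBilin Q₀ w v) with h | h <;> rw [h] <;> ring
    have hp : polarBilin (Q₀ + lw) = polarBilin Q₀ := LinearMap.ext fun x => LinearMap.ext fun y => by
      rw [QuadraticMap.polarBilin_apply_apply, QuadraticMap.polarBilin_apply_apply, QuadraticMap.polar, QuadraticMap.polar, hq, hq, hq]
      simp only [qw, map_add]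
      ring
    rcases Cfsg.Agent.Lib.QuadFin.exists_normal_basis (Q₀ + lw) (hp ▸ hnd) hm hfr with ⟨b, h1, h2, h3⟩ | ⟨b, ζ, hζ, h1, h2, h3, h4, h5, h6, h7⟩
    · exfalso
      refine hzeros w hw b.equivFun fun v => ?_
      rw [← hq]
      refine Cfsg.Agent.Lib.QuadFin.quad_ext_basis (Q₀ + lw) b (Q₀.comp b.equivFun.toLinearMap) ?_ ?_ v
      · intro k
        rw [QuadraticMap.comp_apply, LinearEquiv.coe_coe, Module.Basis.equivFun_apply, Module.Basis.repr_self, Finsupp.single_eq_pi_single, ← hQ₀']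
        rcases k with i | i <;> simp [(h1 i).1, (h1 i).2, Cfsg.quadFormPlus]
      · intro k l
        have hcomp : ∀ x y, polarBilin (Q₀.comp b.equivFun.toLinearMap) x y = polarBilin Q₀ (b.equivFun x) (b.equivFun y) := fun x y => by
          simp [QuadraticMap.polarBilin_apply_apply, QuadraticMap.polar, map_add]
        have e1 : ∀ i j, polarBilin (Q₀ + lw) (b (Sum.inl i)) (b (Sum.inr j)) = if i = j then 1 else 0 := h2
        have e4 : ∀ i j, polarBilin (Q₀ + lw) (b (Sum.inr i)) (b (Sum.inl j)) = if j = i then 1 else 0 := fun i j => by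
          rw [quad_polar_comm]; exact e1 j i
        have e2 : ∀ i j, polarBilin (Q₀ + lw) (b (Sum.inl i)) (b (Sum.inl j)) = 0 := fun i j => (h3 i j).1
        have e3 : ∀ i j, polarBilin (Q₀ + lw) (b (Sum.inr i)) (b (Sum.inr j)) = 0 := fun i j => (h3 i j).2
        have es : ∀ k : Fin m ⊕ Fin m, (fun j => if k = j then (1 : ZMod 2) else 0) = Pi.single k 1 := fun k => by
          funext j; simp [Pi.single_apply, eq_comm]
        rw [hcomp]
        simp only [hQ₀, Cfsg.Agent.Lib.Geometry.polarBilin_matQuad_single, Module.Basis.equivFun_apply, Module.Basis.repr_self,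
          Finsupp.single_eq_pi_single]
        simp only [hQ₀] at e1 e2 e3 e4
        rcases k with i | i <;> rcases l with j | j <;>
          (try simp only [e1, e2, e3, e4]) <;>
          simp [Cfsg.Agent.Lib.Geometry.plusMatrix, Matrix.fromBlocks, Matrix.one_apply, eq_comm]
    · have hζ1 : ζ = 1 := (zmod_cases ζ).resolve_left fun h => hζ 0 (by rw [h]; ring)
      refine ⟨b.equivFun, fun v => ?_⟩
      rw [← hq, congrFun (Cfsg.Agent.Lib.Geometry.quadFormMinus_eq (m - 1) (1 : ZMod 2) 1) (b.equivFun v)]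
      refine Cfsg.Agent.Lib.QuadFin.quad_ext_basis (Q₀ + lw) b ((matQuad (Cfsg.Agent.Lib.Geometry.minusMatrix (m - 1) (1 : ZMod 2) 1)).comp b.equivFun.toLinearMap) ?_ ?_ v
      · intro k
        rw [QuadraticMap.comp_apply, LinearEquiv.coe_coe, Module.Basis.equivFun_apply, Module.Basis.repr_self, Finsupp.single_eq_pi_single,
          ← congrFun (Cfsg.Agent.Lib.Geometry.quadFormMinus_eq (m - 1) (1 : ZMod 2) 1)]
        rcases k with (i | i) | k
        · simp [(h1 i).1, Cfsg.quadFormMinus]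
        · simp [(h1 i).2, Cfsg.quadFormMinus]
        · fin_cases k
          · simp [h5, Cfsg.quadFormMinus]
          · simp [h7, hζ1, Cfsg.quadFormMinus]
      · intro k l
        have hcomp : ∀ x y, polarBilin ((matQuad (Cfsg.Agent.Lib.Geometry.minusMatrix (m - 1) (1 : ZMod 2) 1)).comp b.equivFun.toLinearMap) x y =
            polarBilin (matQuad (Cfsg.Agent.Lib.Geometry.minusMatrix (m - 1) (1 : ZMod 2) 1)) (b.equivFun x) (b.equivFun y) := fun x y => by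
          simp [QuadraticMap.polarBilin_apply_apply, QuadraticMap.polar, map_add]
        have s0 : polarBilin (Q₀ + lw) (b (Sum.inr 0)) (b (Sum.inr 0)) = 0 := by rw [quad_polar_self]; exact mul_eq_zero_of_left CharTwo.two_eq_zero _
        have s1 : polarBilin (Q₀ + lw) (b (Sum.inr 1)) (b (Sum.inr 1)) = 0 := by rw [quad_polar_self]; exact mul_eq_zero_of_left CharTwo.two_eq_zero _
        have h6' : polarBilin (Q₀ + lw) (b (Sum.inr 0)) (b (Sum.inr 1)) = 1 := h6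
        have h6c : polarBilin (Q₀ + lw) (b (Sum.inr 1)) (b (Sum.inr 0)) = 1 := by rw [quad_polar_comm]; exact h6'
        have hA : ∀ i (k : Fin 2), polarBilin (Q₀ + lw) (b (Sum.inl (Sum.inl i))) (b (Sum.inr k)) = 0 := fun i k => (h4 i k).1
        have hB : ∀ i (k : Fin 2), polarBilin (Q₀ + lw) (b (Sum.inl (Sum.inr i))) (b (Sum.inr k)) = 0 := fun i k => (h4 i k).2
        have hA' : ∀ i (k : Fin 2), polarBilin (Q₀ + lw) (b (Sum.inr k)) (b (Sum.inl (Sum.inl i))) = 0 := fun i k => by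
          rw [quad_polar_comm]; exact hA i k
        have hB' : ∀ i (k : Fin 2), polarBilin (Q₀ + lw) (b (Sum.inr k)) (b (Sum.inl (Sum.inr i))) = 0 := fun i k => by
          rw [quad_polar_comm]; exact hB i k
        have hC : ∀ i j, polarBilin (Q₀ + lw) (b (Sum.inl (Sum.inl i))) (b (Sum.inl (Sum.inr j))) = if i = j then 1 else 0 := h2
        have hC' : ∀ i j, polarBilin (Q₀ + lw) (b (Sum.inl (Sum.inr i))) (b (Sum.inl (Sum.inl j))) = if j = i then 1 else 0 := fun i j => by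
          rw [quad_polar_comm]; exact hC j i
        have hD : ∀ i j, polarBilin (Q₀ + lw) (b (Sum.inl (Sum.inl i))) (b (Sum.inl (Sum.inl j))) = 0 := fun i j => (h3 i j).1
        have hE : ∀ i j, polarBilin (Q₀ + lw) (b (Sum.inl (Sum.inr i))) (b (Sum.inl (Sum.inr j))) = 0 := fun i j => (h3 i j).2
        rw [hcomp]
        simp only [Module.Basis.equivFun_apply, Module.Basis.repr_self, Finsupp.single_eq_pi_single,
          Cfsg.Agent.Lib.Geometry.polarBilin_matQuad_single]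
        rcases k with (i | i) | k <;> rcases l with (j | j) | l <;> (try fin_cases k) <;> (try fin_cases l) <;>
          (try simp only [hA, hA', hB, hB', hC, hC', hD, hE, h6', h6c, s0, s1]) <;>
          simp [Cfsg.Agent.Lib.Geometry.minusMatrix, Cfsg.Agent.Lib.Geometry.plusMatrix,
            Matrix.fromBlocks, Matrix.one_apply, eq_comm, CharTwo.add_self_eq_zero, hA, hA', hB, hB', hC, hC', hD, hE, h6', h6c, s0, s1]
  have hiffp : ∀ w, (∃ g : (Fin m ⊕ Fin m → ZMod 2) ≃ₗ[ZMod 2] (Fin m ⊕ Fin m → ZMod 2), ∀ v, qw w v = Q₀ (g v)) ↔ Q₀ w = 0 :=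
    fun w => ⟨fun ⟨g, hg⟩ => (zmod_cases _).resolve_right fun h => hzeros w h g hg, hplus w⟩
  have hiffm : ∀ w, (∃ g : (Fin m ⊕ Fin m → ZMod 2) ≃ₗ[ZMod 2] ((Fin (m - 1) ⊕ Fin (m - 1)) ⊕ Fin 2 → ZMod 2),
      ∀ v, qw w v = Cfsg.quadFormMinus (m - 1) (ZMod 2) 1 1 (g v)) ↔ ¬ Q₀ w = 0 := fun w =>
    ⟨fun ⟨g, hg⟩ h => by
      obtain ⟨k, hk⟩ := hplus w h
      exact hsing g k fun v => (hg v).symm.trans (hk v), fun h => hminus w ((zmod_cases _).resolve_left h)⟩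
  refine ⟨by rw [← Nat.card_congr e, hcard], fun q hq => ?_, ?_, ?_⟩
  · obtain ⟨w, rfl⟩ := hsurj q hq
    rcases em (Q₀ w = 0) with h | h
    · exact Or.inl ((hiffp w).mpr h)
    · exact Or.inr ((hiffm w).mpr h)
  · rw [← hz]
    refine (Nat.card_congr (Equiv.trans ?_ (Equiv.subtypeSubtypeEquivSubtypeInter _ _))).symm
    exact Equiv.subtypeEquiv e fun w => (hiffp w).symm
  · have h2 : Nat.card {v : Fin m ⊕ Fin m → ZMod 2 // Q₀ v = 0} + Nat.card {v : Fin m ⊕ Fin m → ZMod 2 // ¬ Q₀ v = 0} = 2 ^ (2 * m) := by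
      rw [← Nat.card_sum, Nat.card_congr (Equiv.sumCompl _), hcard]
    rw [hz] at h2
    refine (Nat.card_congr (Equiv.trans (Equiv.subtypeEquiv e fun w => (hiffm w).symm) (Equiv.subtypeSubtypeEquivSubtypeInter _ _))).symm.trans ?_
    obtain ⟨k, rfl⟩ : ∃ k, m = k + 1 := ⟨m - 1, by omega⟩
    rw [show 2 * (k + 1) - 1 = 2 * k + 1 by omega, show k + 1 - 1 = k by omega] at h2 ⊢
    rw [show (2 : ℕ) ^ (2 * (k + 1)) = 2 * 2 ^ (2 * k + 1) by ring] at h2
    omega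

end Cfsg.Agent.S2561
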