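import Cfsg.Statements.S2562
import Cfsg.Agent.Lib.QuadFin.WittIndex

set_option autoImplicit false
open Cfsg

namespace Cfsg.Agent.S2562

private theorem aniso (z₁ z₂ : ZMod 2) (h : z₁ ^ 2 + 1 * z₁ * z₂ + 1 * z₂ ^ 2 = 0) : z₁ = 0 ∧ z₂ = 0 := by
  revert z₁ z₂; decide

private def emb (k : ℕ) : (Fin k ⊕ Fin k → ZMod 2) →ₗ[ZMod 2] ((Fin k ⊕ Fin k) ⊕ Fin 2 → ZMod 2) where
  toFun v := Sum.elim v 0
  map_add' u v := by funext x; rcases x with x | x <;> simp
  map_smul' c v := by funext x; rcases x with x | x <;> simp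

private theorem emb_injective (k : ℕ) : Function.Injective (emb k) :=
  fun u v h => funext fun x => congrFun h (Sum.inl x)

private theorem form_emb (k : ℕ) (v : Fin k ⊕ Fin k → ZMod 2) :
    quadFormMinus k (ZMod 2) 1 1 (emb k v) = quadFormPlus k (ZMod 2) v := by
  simp [quadFormMinus, quadFormPlus, emb]


/-- Witt indices over the field of two elements, m ≥ 1: for the plus-type form Σ xᵢyᵢ in dimension 2m some m-dimensional subspace is totally singular and no totally singular subspace has larger dimension; for the minus-type form Σ xᵢyᵢ + (z₁² + z₁z₂ + z₂²) in dimension 2m the maximal dimension of a totally singular subspace is m − 1. -/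
theorem result (m : ℕ) (hm : 1 ≤ m) :
    (∃ U : Submodule (ZMod 2) (Fin m ⊕ Fin m → ZMod 2), (∀ u ∈ U, Cfsg.quadFormPlus m (ZMod 2) u = 0) ∧ Module.finrank (ZMod 2) ↥U = m) ∧
    (∀ U : Submodule (ZMod 2) (Fin m ⊕ Fin m → ZMod 2), (∀ u ∈ U, Cfsg.quadFormPlus m (ZMod 2) u = 0) → Module.finrank (ZMod 2) ↥U ≤ m) ∧
    (∃ U : Submodule (ZMod 2) ((Fin (m - 1) ⊕ Fin (m - 1)) ⊕ Fin 2 → ZMod 2), (∀ u ∈ U, Cfsg.quadFormMinus (m - 1) (ZMod 2) 1 1 u = 0) ∧ Module.finrank (ZMod 2) ↥U = m - 1) ∧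
    (∀ U : Submodule (ZMod 2) ((Fin (m - 1) ⊕ Fin (m - 1)) ⊕ Fin 2 → ZMod 2), (∀ u ∈ U, Cfsg.quadFormMinus (m - 1) (ZMod 2) 1 1 u = 0) → Module.finrank (ZMod 2) ↥U ≤ m - 1) := by
  refine ⟨⟨Lib.QuadFin.xSubspace _ m, fun u hu => Lib.QuadFin.xSubspace_singular hu, Lib.QuadFin.finrank_xSubspace⟩,
    fun U hU => ?_, ⟨(Lib.QuadFin.xSubspace _ (m - 1)).map (emb (m - 1)), ?_, ?_⟩,
    fun U hU => Lib.QuadFin.finrank_singular_minus_le 1 1 aniso U hU⟩
  · rw [← (Submodule.equivMapOfInjective _ (emb_injective m) U).finrank_eq.symm]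
    refine Lib.QuadFin.finrank_singular_minus_le 1 1 aniso _ ?_
    rintro _ ⟨u, hu, rfl⟩
    rw [form_emb]; exact hU u hu
  · rintro _ ⟨u, hu, rfl⟩
    rw [form_emb]; exact Lib.QuadFin.xSubspace_singular hu
  · rw [← (Submodule.equivMapOfInjective _ (emb_injective _) _).finrank_eq, Lib.QuadFin.finrank_xSubspace]

end Cfsg.Agent.S2562
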