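import Cfsg.Statements.S2564

set_option autoImplicit false
open Cfsg

namespace Cfsg.Agent.S2564

section
variable {m : ℕ}

local notation "V" => (Fin m ⊕ Fin m → ZMod 2)

private def f (u v : V) : ZMod 2 :=
  quadFormPlus m (ZMod 2) (u + v) - quadFormPlus m (ZMod 2) u - quadFormPlus m (ZMod 2) v

private theorem f_eq (u v : V) :
    f u v = ∑ i : Fin m, (u (Sum.inl i) * v (Sum.inr i) + v (Sum.inl i) * u (Sum.inr i)) := by
  simp only [f, quadFormPlus, Pi.add_apply, ← Finset.sum_sub_distrib]
  exact Finset.sum_congr rfl fun i _ => by ring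

private theorem f_add_left (u v w : V) : f (u + v) w = f u w + f v w := by
  simp only [f_eq, Pi.add_apply, ← Finset.sum_add_distrib]
  exact Finset.sum_congr rfl fun i _ => by ring

private theorem f_smul_left (c : ZMod 2) (u w : V) : f (c • u) w = c * f u w := by
  simp only [f_eq, Pi.smul_apply, smul_eq_mul, Finset.mul_sum]
  exact Finset.sum_congr rfl fun i _ => by ring

private theorem f_self (w : V) : f w w = 0 := by
  rw [f_eq]
  exact Finset.sum_eq_zero fun i _ => CharTwo.add_self_eq_zero _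

private theorem f_nondeg {d : V} (hd : d ≠ 0) : ∃ u, f u d = 1 := by
  obtain ⟨k, hk⟩ := Function.ne_iff.mp hd
  have hk1 : d k = 1 := (show ∀ x : ZMod 2, x ≠ 0 → x = 1 by decide) _ hk
  rcases k with i | i
  · refine ⟨Pi.single (Sum.inr i) 1, ?_⟩
    rw [f_eq, Finset.sum_eq_single i] <;> simp +contextual [hk1, Pi.single_apply]
  · refine ⟨Pi.single (Sum.inl i) 1, ?_⟩
    rw [f_eq, Finset.sum_eq_single i] <;> simp +contextual [hk1, Pi.single_apply]

private def χ (x : ZMod 2) : ℤ := if x = 0 then 1 else -1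

private theorem χ_add : ∀ a b : ZMod 2, χ (a + b) = χ a * χ b := by decide

/-- The Gauss sum of a quadratic form polarising to `f` does not vanish. -/
private theorem gauss_ne_zero (q : V → ZMod 2) (hq : ∀ u v, q (u + v) = q u + q v + f u v) :
    ∑ v : V, χ (q v) ≠ 0 := by
  have hq0 : q 0 = 0 := by
    have := hq 0 0
    rw [add_zero, f_self, add_zero] at this
    exact left_eq_add.mp this
  have key : (∑ v : V, χ (q v)) * (∑ v : V, χ (q v)) = (Fintype.card V : ℤ) := by
    rw [Finset.sum_mul_sum]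
    have e : ∀ u : V, ∑ v : V, χ (q u) * χ (q v) = ∑ d : V, χ (q d) * χ (f u d) := fun u => by
      rw [← Equiv.sum_comp (Equiv.addLeft u)]
      refine Finset.sum_congr rfl fun d _ => ?_
      simp only [Equiv.coe_addLeft]
      rw [← χ_add, ← χ_add, hq, add_assoc, ← add_assoc (q u) (q u), CharTwo.add_self_eq_zero, zero_add]
    simp only [e]
    rw [Finset.sum_comm, Finset.sum_eq_single (0 : V)]
    · have h0 : ∀ u : V, f u 0 = 0 := fun u => by rw [f_eq]; simp
      simp [hq0, h0, χ]
    · intro d _ hd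
      rw [← Finset.mul_sum]
      obtain ⟨u₀, hu₀⟩ := f_nondeg hd
      have : ∑ u : V, χ (f u d) = -∑ u : V, χ (f u d) := by
        conv_lhs => rw [← Equiv.sum_comp (Equiv.addRight u₀)]
        rw [← Finset.sum_neg_distrib]
        refine Finset.sum_congr rfl fun u _ => ?_
        simp only [Equiv.coe_addRight]
        rw [f_add_left, χ_add, hu₀]
        simp [χ]
      rw [show ∑ u : V, χ (f u d) = 0 by omega, mul_zero]
    · simp
  intro h
  rw [h, mul_zero] at key
  have : 0 < Fintype.card V := Fintype.card_pos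
  omega

end


/-- On the 2m-dimensional space over the field of two elements (m ≥ 1) let f be the alternating form obtained by polarizing the plus-type form Σ xᵢyᵢ, and let q be any quadratic form polarizing to f. For a vector w, the function q + f(·, w) again polarizes to f, and it is equivalent to q under an invertible linear map (that is, has the same type) if and only if q(w) = 0. -/
theorem result (m : ℕ) (hm : 1 ≤ m) (q : (Fin m ⊕ Fin m → ZMod 2) → ZMod 2) (hq : (∀ u v : (Fin m ⊕ Fin m → ZMod 2), q (u + v) = q u + q v + (Cfsg.quadFormPlus m (ZMod 2) (u + v) - Cfsg.quadFormPlus m (ZMod 2) u - Cfsg.quadFormPlus m (ZMod 2) v))) (w : (Fin m ⊕ Fin m → ZMod 2)) :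
    (∀ u v : (Fin m ⊕ Fin m → ZMod 2), (q (u + v) + (Cfsg.quadFormPlus m (ZMod 2) (u + v + w) - Cfsg.quadFormPlus m (ZMod 2) (u + v) - Cfsg.quadFormPlus m (ZMod 2) w)) =
        (q u + (Cfsg.quadFormPlus m (ZMod 2) (u + w) - Cfsg.quadFormPlus m (ZMod 2) u - Cfsg.quadFormPlus m (ZMod 2) w)) + (q v + (Cfsg.quadFormPlus m (ZMod 2) (v + w) - Cfsg.quadFormPlus m (ZMod 2) v - Cfsg.quadFormPlus m (ZMod 2) w)) +
        (Cfsg.quadFormPlus m (ZMod 2) (u + v) - Cfsg.quadFormPlus m (ZMod 2) u - Cfsg.quadFormPlus m (ZMod 2) v)) ∧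
    ((∃ g : (Fin m ⊕ Fin m → ZMod 2) ≃ₗ[ZMod 2] (Fin m ⊕ Fin m → ZMod 2), ∀ v, q v + (Cfsg.quadFormPlus m (ZMod 2) (v + w) - Cfsg.quadFormPlus m (ZMod 2) v - Cfsg.quadFormPlus m (ZMod 2) w) = q (g v)) ↔ q w = 0) := by
  classical
  have hq' : ∀ u v, q (u + v) = q u + q v + f u v := hq
  refine ⟨fun u v => ?_, ?_, ?_⟩
  · show q (u + v) + f (u + v) w = (q u + f u w) + (q v + f v w) + f u v
    rw [hq', f_add_left]
    ring
  · rintro ⟨g, hg⟩
    by_contra hw
    have hw1 : q w = 1 := (show ∀ x : ZMod 2, x ≠ 0 → x = 1 by decide) _ hw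
    have hg' : ∀ v, q v + f v w = q (g v) := hg
    have h1 : ∑ v, χ (q (g v)) = ∑ v, χ (q v) := g.toEquiv.sum_comp fun v => χ (q v)
    have h2 : ∑ v, χ (q (g v)) = -∑ v, χ (q v) := by
      rw [← Finset.sum_neg_distrib]
      conv_rhs => rw [← Equiv.sum_comp (Equiv.addRight w)]
      refine Finset.sum_congr rfl fun v _ => ?_
      simp only [Equiv.coe_addRight]
      rw [← hg', hq', hw1, χ_add (q v + 1), χ_add (q v) 1, χ_add (q v)]
      simp [χ]
      split_ifs <;> simp
    have := gauss_ne_zero q hq'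
    omega
  · intro hw
    let T : (Fin m ⊕ Fin m → ZMod 2) →ₗ[ZMod 2] (Fin m ⊕ Fin m → ZMod 2) :=
      { toFun := fun v => v + f v w • w
        map_add' := fun u v => by rw [f_add_left, add_smul]; abel
        map_smul' := fun c v => by rw [f_smul_left, mul_smul, RingHom.id_apply, smul_add] }
    have hT : Function.Involutive T := fun v => by
      show v + f v w • w + f (v + f v w • w) w • w = v
      rw [f_add_left, f_smul_left, f_self, mul_zero, add_zero, add_assoc, ← add_smul, CharTwo.add_self_eq_zero, zero_smul, add_zero]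
    refine ⟨LinearEquiv.ofBijective T hT.bijective, fun v => ?_⟩
    show q v + f v w = q (v + f v w • w)
    rcases (show ∀ x : ZMod 2, x = 0 ∨ x = 1 by decide) (f v w) with h | h
    · rw [h, zero_smul, add_zero, add_zero]
    · rw [h, one_smul, hq', hw, h, add_zero]

end Cfsg.Agent.S2564
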