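import Cfsg.Statements.S2565
import Cfsg.Agent.Lib.QuadFin.EvenSubsets
import Cfsg.Agent.Lib.Geometry.OrthTransfer

set_option autoImplicit false
open Cfsg

namespace Cfsg.Agent.S2565

/-- The commutator subgroup of the full orthogonal group of the plus-type form Σ xᵢyᵢ in dimension 6 over the field of two elements (the group Ω⁺₆(2), of index 2) is isomorphic to the alternating group of degree 8. -/
theorem result :
    (Cfsg.Omega (ZMod 2) (Cfsg.quadFormPlus 3 (ZMod 2))).index = 2 ∧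
    Nonempty (↥(Cfsg.Omega (ZMod 2) (Cfsg.quadFormPlus 3 (ZMod 2))) ≃* alternatingGroup (Fin 8)) := by
  classical
  obtain ⟨e, he⟩ := (Cfsg.Agent.Lib.QuadFin.EvenSubsets.plus_or_minus 1 le_rfl).1 odd_one
  obtain ⟨φ, hφ⟩ := Cfsg.Agent.Lib.QuadFin.EvenSubsets.exists_embedding 1 le_rfl
    (Cfsg.Agent.Lib.Geometry.matQuad (Cfsg.Agent.Lib.Geometry.plusMatrix 3 (ZMod 2))) e
    (fun v => (he v).trans (congrFun (Cfsg.Agent.Lib.Geometry.quadFormPlus_eq _) _))
  rw [Cfsg.Agent.Lib.Geometry.quadFormPlus_eq]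
  have hcard : Nat.card (Cfsg.isometryGroup (ZMod 2)
      (⇑(Cfsg.Agent.Lib.Geometry.matQuad (Cfsg.Agent.Lib.Geometry.plusMatrix 3 (ZMod 2))))) = 40320 := by
    rw [← Cfsg.Agent.Lib.Geometry.quadFormPlus_eq,
      Cfsg.Agent.Lib.Classical.card_orth_plus (q := 2) (ZMod.card 2) 3 (by norm_num)]
    rfl
  have hbij : Function.Bijective φ := (Nat.bijective_iff_injective_and_card φ).mpr ⟨hφ, by
    rw [hcard, Nat.card_perm, Nat.card_fin]; rfl⟩
  let ψ := MulEquiv.ofBijective φ hbij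
  have h8 : commutator (Equiv.Perm (Fin (4 * 1 + 4))) = alternatingGroup (Fin 8) :=
    alternatingGroup.commutator_perm_eq (α := Fin 8) (by simp)
  have hO : Cfsg.Omega (ZMod 2) (⇑(Cfsg.Agent.Lib.Geometry.matQuad (Cfsg.Agent.Lib.Geometry.plusMatrix 3 (ZMod 2)))) =
      (alternatingGroup (Fin 8)).map ψ.toMonoidHom := by
    show commutator _ = _
    rw [← Cfsg.Agent.Lib.Geometry.map_commutator_of_equiv ψ, h8]
  rw [hO]
  refine ⟨?_, ⟨((alternatingGroup (Fin 8)).equivMapOfInjective ψ.toMonoidHom ψ.injective).symm⟩⟩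
  exact (Subgroup.index_map_equiv _ ψ).trans alternatingGroup.index_eq_two

end Cfsg.Agent.S2565
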