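import Cfsg.Statements.S2567

set_option autoImplicit false
open Cfsg

namespace Cfsg.Agent.S2567

/-- Lifting elements of prime order from PGL to GL: let F be a finite field with q elements, r a prime not dividing q − 1, and x an element of order r in GL_n(F) modulo its centre (the scalar matrices). Then x has exactly one preimage in GL_n(F) of order r. -/
theorem result {F : Type*} [Field F] [Fintype F] {q n r : ℕ} (hF : Fintype.card F = q) (hr : r.Prime) (hdiv : ¬ r ∣ q - 1) (x : GL (Fin n) F ⧸ Subgroup.center (GL (Fin n) F)) (hx : orderOf x = r) : ∃! g : GL (Fin n) F, (QuotientGroup.mk g : GL (Fin n) F ⧸ Subgroup.center (GL (Fin n) F)) = x ∧ orderOf g = r := by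
  classical
  let Z := Subgroup.center (GL (Fin n) F)
  have : Fact r.Prime := ⟨hr⟩
  have hcard : (Nat.card Z).Coprime r := by
    refine Nat.Coprime.coprime_dvd_left ?_ ((Nat.Prime.coprime_iff_not_dvd hr).mpr hdiv).symm
    rcases Nat.eq_zero_or_pos n with h0 | h0
    · subst h0
      rw [Nat.card_of_subsingleton (1 : Subgroup.center (GL (Fin 0) F))]
      exact one_dvd _
    · have hle : Z = (Matrix.GeneralLinearGroup.scalar (Fin n) (R := F)).range := Matrix.GeneralLinearGroup.center_eq_range_scalar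
      rw [hle, ← hF, ← Fintype.card_units, ← Nat.card_eq_fintype_card]
      exact Subgroup.card_range_dvd _
  obtain ⟨g, rfl⟩ := QuotientGroup.mk_surjective x
  have hgr : g ^ r ∈ Z := by
    rw [← QuotientGroup.eq_one_iff, QuotientGroup.mk_pow, ← hx, pow_orderOf_eq_one]
  obtain ⟨z, hz⟩ := (powCoprime (G := Z) hcard).surjective ⟨g ^ r, hgr⟩
  have hz' : ((z : Z) : GL (Fin n) F) ^ r = g ^ r := congrArg Subtype.val hz
  have hzc : Commute g ((z : GL (Fin n) F))⁻¹ := (Subgroup.mem_center_iff.mp (Z.inv_mem z.2) g)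
  refine ⟨g * (z : GL (Fin n) F)⁻¹, ⟨?_, ?_⟩, ?_⟩
  · rw [QuotientGroup.eq]
    simp
  · refine orderOf_eq_prime (by rw [hzc.mul_pow, inv_pow, hz']; simp) ?_
    intro h1
    rw [mul_inv_eq_one] at h1
    have : (QuotientGroup.mk g : GL (Fin n) F ⧸ Z) = 1 := (QuotientGroup.eq_one_iff g).mpr (h1 ▸ z.2)
    rw [this] at hx
    simp at hx
    exact hr.ne_one hx.symm
  · intro y ⟨hy1, hy2⟩
    have hmem : g⁻¹ * y ∈ Z := QuotientGroup.eq.mp hy1.symm
    have hw : (z : GL (Fin n) F) * (g⁻¹ * y) ∈ Z := Z.mul_mem z.2 hmem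
    have hy : y = (g * (z : GL (Fin n) F)⁻¹) * ((z : GL (Fin n) F) * (g⁻¹ * y)) := by group
    have hp : ((z : GL (Fin n) F) * (g⁻¹ * y)) ^ r = 1 := by
      have h3 := pow_orderOf_eq_one y
      rw [hy2, hy, Commute.mul_pow (Subgroup.mem_center_iff.mp hw _), hzc.mul_pow, inv_pow, hz'] at h3
      simpa using h3
    have : (⟨_, hw⟩ : Z) = 1 := (powCoprime (G := Z) hcard).injective (by
      apply Subtype.ext
      simp [powCoprime_apply, hp])
    rw [hy, show (z : GL (Fin n) F) * (g⁻¹ * y) = 1 from congrArg Subtype.val this]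
    simp

end Cfsg.Agent.S2567
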