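import Cfsg.Statements.S2568
import Cfsg.Agent.Lib.Similar.Count

set_option autoImplicit false
open Cfsg

namespace Cfsg.Agent.S2568

open Polynomial

/-- Number of conjugacy classes of elements of a given prime order r, coprime to the characteristic, in GL_n(q): if i is the multiplicative order of q modulo r and t = (r − 1)/i, the classes correspond to the non-zero t-tuples of natural numbers (a_1, …, a_t) with i(a_1 + ⋯ + a_t) ≤ n (a_j is the multiplicity of the j-th Frobenius orbit of nontrivial r-th roots of unity among the eigenvalues), so there are exactly C(⌊n/i⌋ + t, t) − 1 of them. -/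
theorem result {F : Type*} [Field F] [Fintype F] {p q : ℕ} [Fact p.Prime] [CharP F p] (hF : Fintype.card F = q) (n r i t : ℕ) (hr : r.Prime) (hrp : r ≠ p) (hi : i = orderOf (q : ZMod r)) (ht : t * i = r - 1) : Nat.card {C : ConjClasses (GL (Fin n) F) // ∃ g : GL (Fin n) F, ConjClasses.mk g = C ∧ orderOf g = r} = Nat.choose (n / i + t) t - 1 := by
  classical
  have : Fact r.Prime := ⟨hr⟩
  obtain ⟨⟨f, hf⟩, -, hcard⟩ := FiniteField.card F p
  simp only [PNat.mk_coe] at hcard
  have hp : p.Prime := Fact.out
  have hrr : r.Coprime p := (Nat.coprime_primes hr hp).2 hrp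
  have hsq : Squarefree (X ^ r - 1 : F[X]) := Cfsg.Agent.Lib.Similar.squarefree_X_pow_sub_one hrr
  let J : Finset F[X] := (UniqueFactorizationMonoid.normalizedFactors (cyclotomic r F)).toFinset
  have hJ : ∀ g ∈ J, g.Monic ∧ Irreducible g ∧ g ∣ cyclotomic r F := fun g hg => by
    rw [Multiset.mem_toFinset] at hg
    have h := UniqueFactorizationMonoid.irreducible_of_normalized_factor g hg
    refine ⟨?_, h, UniqueFactorizationMonoid.dvd_of_mem_normalizedFactors hg⟩
    rw [← UniqueFactorizationMonoid.normalize_normalized_factor g hg]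
    exact monic_normalize h.ne_zero
  have hJdeg : ∀ g ∈ J, g.natDegree = i := fun g hg => by
    rw [natDegree_of_dvd_cyclotomic_of_irreducible (n := r) hcard hrr.symm (hJ g hg).2.2 (hJ g hg).2.1,
      ← orderOf_units, hi, ← hF, hcard, ZMod.coe_unitOfCoprime]
  have hcsq : Squarefree (cyclotomic r F) := hsq.squarefree_of_dvd (cyclotomic.dvd_X_pow_sub_one r F)
  have hprodJ : ∏ g ∈ J, g = cyclotomic r F := by
    have hnd := (UniqueFactorizationMonoid.squarefree_iff_nodup_normalizedFactors
      (cyclotomic_ne_zero r F)).1 hcsq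
    rw [Finset.prod_eq_multiset_prod, Multiset.map_id', Multiset.toFinset_val,
      Multiset.dedup_eq_self.2 hnd, UniqueFactorizationMonoid.prod_normalizedFactors_eq,
      (cyclotomic.monic r F).normalize_eq_self]
    exact cyclotomic_ne_zero r F
  have hipos : 0 < i := by
    rcases Nat.eq_zero_or_pos i with h | h
    · have := hr.two_le
      rw [h, mul_zero] at ht
      omega
    · exact h
  have hJcard : J.card = t := by
    have h := natDegree_prod_of_monic J (fun g => g) (fun g hg => (hJ g hg).1)
    rw [hprodJ, natDegree_cyclotomic, Nat.totient_prime hr, Finset.sum_const_nat hJdeg] at h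
    rw [← ht] at h
    exact Nat.eq_of_mul_eq_mul_right hipos h.symm
  have hX1 : (X - 1 : F[X]) = X - C 1 := by simp
  have hXJ : (X - 1 : F[X]) ∉ J := by
    intro h
    have hdvd := (hJ _ h).2.2
    rw [hX1, dvd_iff_isRoot] at hdvd
    rw [IsRoot, eval_one_cyclotomic_prime] at hdvd
    exact hrp ((Nat.prime_dvd_prime_iff_eq hp hr).1 ((CharP.cast_eq_zero_iff F p r).1 hdvd)).symm
  have hfac : ∀ g : F[X], g.Monic → Irreducible g → g ∣ X ^ r - 1 → g = X - 1 ∨ g ∈ J := by
    intro g hgm hgi hgd
    rw [← cyclotomic_prime_mul_X_sub_one F r] at hgd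
    rcases hgi.prime.dvd_or_dvd hgd with h | h
    · right
      obtain ⟨w, hw, hw'⟩ := UniqueFactorizationMonoid.exists_mem_normalizedFactors_of_dvd
        (cyclotomic_ne_zero r F) hgi h
      rw [eq_of_monic_of_associated hgm (hJ w (Multiset.mem_toFinset.2 hw)).1 hw']
      exact Multiset.mem_toFinset.2 hw
    · left
      rw [hX1] at h ⊢
      exact eq_of_monic_of_associated hgm (monic_X_sub_C 1)
        (hgi.associated_of_dvd (irreducible_X_sub_C 1) h)
  have hdvdall : ∀ g : F[X], (g = X - 1 ∨ g ∈ J) → g.Monic ∧ Irreducible g ∧ g ∣ X ^ r - 1 ∧ g.coeff 0 ≠ 0 := by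
    intro g hg
    have h1 : g ∣ X ^ r - 1 := by
      rw [← cyclotomic_prime_mul_X_sub_one F r]
      rcases hg with h | h
      · exact dvd_mul_of_dvd_right (dvd_of_eq h) _
      · exact dvd_mul_of_dvd_left (hJ g h).2.2 _
    refine ⟨?_, ?_, h1, ?_⟩
    · rcases hg with h | h
      · rw [h, hX1]; exact monic_X_sub_C 1
      · exact (hJ g h).1
    · rcases hg with h | h
      · rw [h, hX1]; exact irreducible_X_sub_C 1
      · exact (hJ g h).2.1
    · intro h0
      obtain ⟨w, hw⟩ := h1
      have := congrArg (fun P : F[X] => P.coeff 0) hw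
      simp [mul_coeff_zero, h0, hr.ne_zero.symm, coeff_X_pow, coeff_one] at this
  let N := n / i
  let Ψ : Sym (Option J) N → Multiset F[X] := fun s =>
    ((s : Multiset (Option J)).filterMap id).map Subtype.val +
      Multiset.replicate (n - i * ((s : Multiset (Option J)).filterMap id).card) (X - 1)
  have hcnone : ∀ s : Sym (Option J) N,
      ((s : Multiset (Option J)).filterMap id).card + (s : Multiset (Option J)).count none = N := by
    intro s
    conv_rhs => rw [← s.2]
    show (Multiset.filterMap id s.1).card + Multiset.count none s.1 = s.1.card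
    induction s.1 using Multiset.induction_on with
    | empty => simp
    | cons a m ih => rcases a with _ | a <;> simp <;> omega
  have hle : ∀ s : Sym (Option J) N, i * ((s : Multiset (Option J)).filterMap id).card ≤ n := by
    intro s
    calc _ ≤ i * N := Nat.mul_le_mul_left _ (by have := hcnone s; omega)
      _ ≤ n := Nat.mul_div_le n i
  have hΨmem : ∀ s, ∀ g ∈ Ψ s, g = X - 1 ∨ g ∈ J := by
    intro s g hg
    rcases Multiset.mem_add.1 hg with h | h
    · obtain ⟨⟨w, hw⟩, -, rfl⟩ := Multiset.mem_map.1 h
      exact Or.inr hw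
    · exact Or.inl (Multiset.eq_of_mem_replicate h)
  have hΨdeg : ∀ s, ((Ψ s).map natDegree).sum = n := by
    intro s
    simp only [Ψ, Multiset.map_add, Multiset.sum_add, Multiset.map_replicate, Multiset.sum_replicate,
      Multiset.map_map]
    rw [hX1, natDegree_X_sub_C, smul_eq_mul, mul_one,
      Multiset.map_congr rfl (g := fun _ => i) (fun w _ => hJdeg w.1 w.2), Multiset.map_const',
      Multiset.sum_replicate, smul_eq_mul, mul_comm]
    have := hle s
    omega
  have hΨinj : Function.Injective fun s => (Ψ s).prod := by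
    intro s s' h
    have h2 : Ψ s = Ψ s' := by
      have hn' : ∀ u, UniqueFactorizationMonoid.normalizedFactors (Ψ u).prod = Ψ u := fun u => by
        rw [UniqueFactorizationMonoid.normalizedFactors_prod_eq _
          (fun g hg => (hdvdall g (hΨmem u g hg)).2.1)]
        conv_rhs => rw [← Multiset.map_id (Ψ u)]
        exact Multiset.map_congr rfl fun g hg => (hdvdall g (hΨmem u g hg)).1.normalize_eq_self
      rw [← hn' s, ← hn' s']
      exact congrArg _ h
    have h3 : (s : Multiset (Option J)).filterMap id = (s' : Multiset (Option J)).filterMap id := by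
      have hcnt : ∀ (u : Sym (Option J) N) (g : J), (Ψ u).count g.1 =
          ((u : Multiset (Option J)).filterMap id).count g := by
        intro u g
        simp only [Ψ, Multiset.count_add]
        rw [Multiset.count_map_eq_count' _ _ Subtype.val_injective,
          Multiset.count_eq_zero_of_notMem (a := g.1)
            (fun hg => hXJ (by rw [← Multiset.eq_of_mem_replicate hg]; exact g.2)), add_zero]
      ext g
      rw [← hcnt, ← hcnt, h2]
    apply Sym.ext
    ext a
    rcases a with _ | a
    · have := hcnone s
      have := hcnone s'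
      rw [h3] at *
      omega
    · have h4 : ∀ u : Multiset (Option J), u.count (some a) = (u.filterMap id).count a := by
        intro u
        induction u using Multiset.induction_on with
        | empty => simp
        | cons b m ih => rcases b with _ | b <;> simp [Multiset.count_cons, ih]
      rw [h4, h4, h3]
  have hreal : ∀ s : Sym (Option J) N, ∃ x : GL (Fin n) F, (x : Matrix (Fin n) (Fin n) F).charpoly = (Ψ s).prod ∧
      x ^ r = 1 := by
    intro s
    let q' : Fin (Ψ s).toList.length → F[X] := fun j => (Ψ s).toList.get j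
    have hmem : ∀ j, q' j ∈ Ψ s := fun j => Multiset.mem_toList.1 (List.get_mem _ _)
    have hd := fun j => hdvdall _ (hΨmem s _ (hmem j))
    obtain ⟨x, hx, hx2⟩ := Cfsg.Agent.Lib.Similar.exists_gl_of_factors (n := Fin n) q' (fun j => (hd j).1)
      (fun j => (hd j).2.2.2)
      (by
        rw [Fintype.card_fin, ← List.sum_ofFn]
        conv_rhs => rw [← hΨdeg s, ← Multiset.coe_toList (Ψ s), Multiset.map_coe, Multiset.sum_coe]
        rw [show (fun j => (q' j).natDegree) = natDegree ∘ (Ψ s).toList.get from rfl,
          ← List.map_ofFn, List.ofFn_get])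
      (fun j => (hd j).2.2.1)
    refine ⟨x, ?_, ?_⟩
    · rw [hx, ← List.prod_ofFn, List.ofFn_get, Multiset.prod_toList]
    · rw [map_sub, map_one, map_pow, aeval_X, sub_eq_zero, ← map_pow, ← Units.val_pow_eq_pow_val] at hx2
      apply Units.ext
      apply (Matrix.toLinAlgEquiv' (R := F) (n := Fin n)).injective
      rw [Units.val_one, map_one]
      exact hx2
  let A := {C : ConjClasses (GL (Fin n) F) // ∃ g : GL (Fin n) F, ConjClasses.mk g = C ∧ g ^ r = 1}
  have hco : ∀ x : GL (Fin n) F, x ^ r = 1 → (orderOf x).Coprime p := fun x hx =>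
    Nat.Coprime.coprime_dvd_left (orderOf_dvd_of_pow_eq_one hx) hrr
  have hto : ∀ C : A, ∃ s : Sym (Option J) N, Cfsg.Agent.Lib.Similar.classCharpoly C.1 = (Ψ s).prod := by
    rintro ⟨C, x, rfl, hx⟩
    rw [Cfsg.Agent.Lib.Similar.classCharpoly_mk]
    obtain ⟨m, hm, hmprod⟩ := Cfsg.Agent.Lib.Similar.exists_factors (x : Matrix (Fin n) (Fin n) F) hsq (by
      rw [map_sub, map_one, map_pow, aeval_X, ← map_pow, ← Units.val_pow_eq_pow_val, hx]
      simp)
    let mJ : Multiset J := (m.filter (· ∈ J)).pmap (fun g h => ⟨g, h⟩) (fun g hg => (Multiset.mem_filter.1 hg).2)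
    have hmJ : mJ.map Subtype.val = m.filter (· ∈ J) := by
      simp [mJ, Multiset.map_pmap, Multiset.pmap_eq_map]
    have hsplit : m = mJ.map Subtype.val + Multiset.replicate (m.filter (· ∉ J)).card (X - 1) := by
      conv_lhs => rw [← Multiset.filter_add_not (· ∈ J) m]
      rw [hmJ]
      congr 1
      rw [Multiset.eq_replicate_card]
      intro g hg
      obtain ⟨hg1, hg2⟩ := Multiset.mem_filter.1 hg
      exact (hfac g (hm g hg1).1 (hm g hg1).2.1 (hm g hg1).2.2).resolve_right hg2
    have hdeg : n = i * mJ.card + (m.filter (· ∉ J)).card := by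
      have h1 := Matrix.charpoly_natDegree_eq_dim (x : Matrix (Fin n) (Fin n) F)
      rw [Fintype.card_fin, hmprod, natDegree_multiset_prod_of_monic m (fun g hg => (hm g hg).1)] at h1
      conv_lhs => rw [← h1, hsplit]
      simp only [Multiset.map_add, Multiset.sum_add, Multiset.map_replicate, Multiset.sum_replicate,
        Multiset.map_map]
      rw [hX1, natDegree_X_sub_C, smul_eq_mul, mul_one,
        Multiset.map_congr rfl (g := fun _ => i) (fun w _ => hJdeg w.1 w.2), Multiset.map_const',
        Multiset.sum_replicate, smul_eq_mul, mul_comm]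
    have hcard' : mJ.card ≤ N := by
      rw [Nat.le_div_iff_mul_le hipos, mul_comm]
      omega
    refine ⟨⟨mJ.map some + Multiset.replicate (N - mJ.card) none, by simp; omega⟩, ?_⟩
    have hfm : (mJ.map some + Multiset.replicate (N - mJ.card) (none : Option J)).filterMap id = mJ := by
      have hz : ∀ k, (Multiset.replicate k (none : Option J)).filterMap id = 0 := by
        intro k
        induction k with
        | zero => simp
        | succ k ih => simp [Multiset.replicate_succ, ih]
      rw [Multiset.filterMap_add, hz, add_zero, Multiset.filterMap_map]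
      exact Multiset.filterMap_some mJ
    show _ = (((mJ.map some + Multiset.replicate (N - mJ.card) none).filterMap id).map Subtype.val +
      Multiset.replicate (n - i * ((mJ.map some + Multiset.replicate (N - mJ.card) none).filterMap id).card) (X - 1)).prod
    rw [hfm, hmprod]
    conv_lhs => rw [hsplit]
    congr 3
    omega
  have hAcard : Nat.card A = Nat.choose (N + t) t := by
    choose ψ hψ using hto
    have hb : Function.Bijective ψ := by
      constructor
      · rintro ⟨C, x, hxC, hx⟩ ⟨D, y, hyD, hy⟩ h
        subst hxC hyD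
        have h' : Cfsg.Agent.Lib.Similar.classCharpoly (ConjClasses.mk x) =
            Cfsg.Agent.Lib.Similar.classCharpoly (ConjClasses.mk y) := by
          rw [hψ ⟨_, x, rfl, hx⟩, hψ ⟨_, y, rfl, hy⟩, h]
        apply Subtype.ext
        rw [ConjClasses.mk_eq_mk_iff_isConj]
        exact Cfsg.Agent.Lib.Similar.isConj_of_charpoly_eq (hco x hx) (hco y hy) h'
      · intro s
        obtain ⟨x, hx, hx2⟩ := hreal s
        refine ⟨⟨ConjClasses.mk x, x, rfl, hx2⟩, hΨinj ?_⟩
        show (Ψ (ψ _)).prod = (Ψ s).prod
        rw [← hψ ⟨_, x, rfl, hx2⟩, Cfsg.Agent.Lib.Similar.classCharpoly_mk, hx]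
    rw [Nat.card_congr (Equiv.ofBijective ψ hb), Nat.card_eq_fintype_card, Sym.card_sym_eq_choose,
      Fintype.card_option, Fintype.card_coe, hJcard]
    rw [(by intros; omega : ∀ a b : ℕ, a + 1 + b - 1 = b + a)]
    rw [← Nat.choose_symm (Nat.le_add_right N t), Nat.add_sub_cancel_left]
  have hsub : Nat.card {C : ConjClasses (GL (Fin n) F) // ∃ g : GL (Fin n) F, ConjClasses.mk g = C ∧ orderOf g = r} =
      Nat.card {C : A // C ≠ ⟨ConjClasses.mk 1, 1, rfl, one_pow r⟩} := by
    refine Nat.card_congr
      { toFun := fun C => ⟨⟨C.1, by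
          obtain ⟨g, hg, ho⟩ := C.2
          exact ⟨g, hg, by rw [← ho]; exact pow_orderOf_eq_one g⟩⟩, by
          intro h
          obtain ⟨g, hg, ho⟩ := C.2
          have h' : ConjClasses.mk g = ConjClasses.mk 1 := by rw [hg]; exact congrArg Subtype.val h
          rw [ConjClasses.mk_eq_mk_iff_isConj, isConj_one_left] at h'
          rw [h', orderOf_one] at ho
          exact hr.one_lt.ne ho⟩
        invFun := fun C => ⟨C.1.1, by
          obtain ⟨g, hg, ho⟩ := C.1.2
          refine ⟨g, hg, orderOf_eq_prime ho ?_⟩
          rintro rfl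
          exact C.2 (Subtype.ext hg.symm)⟩
        left_inv := fun C => rfl
        right_inv := fun C => rfl }
  let _ : Fintype A := Fintype.ofFinite A
  rw [hsub, Nat.card_eq_fintype_card, Fintype.card_subtype_compl, Fintype.card_subtype_eq,
    ← Nat.card_eq_fintype_card, hAcard]

end Cfsg.Agent.S2568
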