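import Cfsg.Statements.S2570
import Cfsg.Agent.Lib.Similar.Classes

set_option autoImplicit false
open Cfsg

namespace Cfsg.Agent.S2570

open Polynomial

/-- Number of conjugacy classes of elements of order p in GL_n over a finite field of characteristic p: they correspond to the Jordan types, that is, to the partitions of n with all parts at most p other than the partition into ones, so there are (number of partitions of n with parts ≤ p) − 1 of them. -/
theorem result {F : Type*} [Field F] [Fintype F] {p : ℕ} [Fact p.Prime] [CharP F p] (n : ℕ) : Nat.card {C : ConjClasses (GL (Fin n) F) // ∃ g : GL (Fin n) F, ConjClasses.mk g = C ∧ orderOf g = p} = (Finset.univ.filter (fun μ : Nat.Partition n => ∀ a ∈ μ.parts, a ≤ p)).card - 1 := by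
  classical
  have hp : p.Prime := Fact.out
  let A := {C : ConjClasses (GL (Fin n) F) // ∃ g : GL (Fin n) F, ConjClasses.mk g = C ∧ g ^ p = 1}
  have hX1 : (X - 1 : F[X]) = X - C 1 := by simp
  have hfr : (X ^ p - 1 : F[X]) = (X - 1) ^ p := by rw [sub_pow_char, one_pow]
  have hmon : (X - 1 : F[X]).Monic := by rw [hX1]; exact monic_X_sub_C 1
  have hirr : Irreducible (X - 1 : F[X]) := by rw [hX1]; exact irreducible_X_sub_C 1
  let P := {μ : Nat.Partition n // ∀ a ∈ μ.parts, a ≤ p}
  have hreal : ∀ μ : P, ∃ x : GL (Fin n) F,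
      Cfsg.Agent.Lib.Similar.matInv (x : Matrix (Fin n) (Fin n) F) = μ.1.parts.map (fun a => ((X - 1 : F[X]), a)) ∧ x ^ p = 1 := by
    intro μ
    obtain ⟨x, hx⟩ := Cfsg.Agent.Lib.Similar.exists_gl_matInv (n := Fin n)
      (μ.1.parts.map fun a => ((X - 1 : F[X]), a))
      (by
        intro y hy
        obtain ⟨a, ha, rfl⟩ := Multiset.mem_map.1 hy
        exact ⟨hmon, hirr, by simp [coeff_one], μ.1.parts_pos ha⟩)
      (by
        rw [Multiset.map_map, Fintype.card_fin, hX1]
        simp only [Function.comp_def, natDegree_X_sub_C, mul_one, Multiset.map_id']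
        exact μ.1.parts_sum)
    refine ⟨x, hx, ?_⟩
    have h := (Cfsg.Agent.Lib.Similar.aeval_eq_zero_iff_matInv (x : Matrix (Fin n) (Fin n) F) (X ^ p - 1)).2 (by
      rw [hx, hfr]
      intro y hy
      obtain ⟨a, ha, rfl⟩ := Multiset.mem_map.1 hy
      exact pow_dvd_pow _ (μ.2 a ha))
    rw [map_sub, map_one, map_pow, aeval_X, sub_eq_zero, ← map_pow, ← Units.val_pow_eq_pow_val] at h
    apply Units.ext
    apply (Matrix.toLinAlgEquiv' (R := F) (n := Fin n)).injective
    rw [Units.val_one, map_one]
    exact h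
  choose ξ hξ1 hξ2 using hreal
  let Ψ : P → A := fun μ => ⟨ConjClasses.mk (ξ μ), ξ μ, rfl, hξ2 μ⟩
  have hb : Function.Bijective Ψ := by
    constructor
    · intro μ ν h
      have h' := congrArg (fun C : A => Cfsg.Agent.Lib.Similar.classInv C.1) h
      simp only [Ψ, Cfsg.Agent.Lib.Similar.classInv_mk, hξ1] at h'
      apply Subtype.ext
      apply Nat.Partition.ext
      exact Multiset.map_injective (fun a b hab => congrArg Prod.snd hab) h'
    · rintro ⟨C, g, rfl, hg⟩
      have h0 : aeval (Cfsg.Agent.Lib.Similar.toEnd (g : Matrix (Fin n) (Fin n) F)) (X ^ p - 1 : F[X]) = 0 := by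
        rw [map_sub, map_one, map_pow, aeval_X, ← map_pow, ← Units.val_pow_eq_pow_val, hg]
        simp
      have hd := (Cfsg.Agent.Lib.Similar.aeval_eq_zero_iff_matInv _ _).1 h0
      obtain ⟨hs, hsum⟩ := Cfsg.Agent.Lib.Similar.matInv_spec g
      have hy : ∀ y ∈ Cfsg.Agent.Lib.Similar.matInv (g : Matrix (Fin n) (Fin n) F), y.1 = X - 1 ∧ y.2 ≤ p := by
        intro y hy
        obtain ⟨hm, hi, -, he⟩ := hs y hy
        have h1 := hd y hy
        rw [hfr] at h1
        have h2 : y.1 = X - 1 := eq_of_monic_of_associated hm hmon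
          (hi.associated_of_dvd hirr (hi.prime.dvd_of_dvd_pow ((dvd_pow_self _ (by omega)).trans h1)))
        refine ⟨h2, ?_⟩
        rw [h2] at h1
        exact (pow_dvd_pow_iff hirr.ne_zero hirr.not_isUnit).1 h1
      refine ⟨⟨⟨(Cfsg.Agent.Lib.Similar.matInv (g : Matrix (Fin n) (Fin n) F)).map Prod.snd, ?_, ?_⟩, ?_⟩, ?_⟩
      · intro a ha
        obtain ⟨y, hy', rfl⟩ := Multiset.mem_map.1 ha
        exact (hs y hy').2.2.2
      · rw [Fintype.card_fin] at hsum
        conv_rhs => rw [← hsum]
        congr 1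
        refine Multiset.map_congr rfl fun y hy' => ?_
        rw [(hy y hy').1, hX1, natDegree_X_sub_C, mul_one]
      · intro a ha
        obtain ⟨y, hy', rfl⟩ := Multiset.mem_map.1 ha
        exact (hy y hy').2
      · apply Subtype.ext
        apply Cfsg.Agent.Lib.Similar.classInv_injective
        show Cfsg.Agent.Lib.Similar.classInv (ConjClasses.mk (ξ _)) = _
        rw [Cfsg.Agent.Lib.Similar.classInv_mk, hξ1, Cfsg.Agent.Lib.Similar.classInv_mk, Multiset.map_map]
        conv_rhs => rw [← Multiset.map_id (Cfsg.Agent.Lib.Similar.matInv (g : Matrix (Fin n) (Fin n) F))]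
        exact Multiset.map_congr rfl fun y hy' => Prod.ext (hy y hy').1.symm rfl
  have hsub : Nat.card {C : ConjClasses (GL (Fin n) F) // ∃ g : GL (Fin n) F, ConjClasses.mk g = C ∧ orderOf g = p} =
      Nat.card {C : A // C ≠ ⟨ConjClasses.mk 1, 1, rfl, one_pow p⟩} := by
    refine Nat.card_congr
      { toFun := fun C => ⟨⟨C.1, by
          obtain ⟨g, hg, ho⟩ := C.2
          exact ⟨g, hg, by rw [← ho]; exact pow_orderOf_eq_one g⟩⟩, by
          intro h
          obtain ⟨g, hg, ho⟩ := C.2
          have h' : ConjClasses.mk g = ConjClasses.mk 1 := by rw [hg]; exact congrArg Subtype.val h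
          rw [ConjClasses.mk_eq_mk_iff_isConj, isConj_one_left] at h'
          rw [h', orderOf_one] at ho
          exact hp.one_lt.ne ho⟩
        invFun := fun C => ⟨C.1.1, by
          obtain ⟨g, hg, ho⟩ := C.1.2
          refine ⟨g, hg, orderOf_eq_prime ho ?_⟩
          rintro rfl
          exact C.2 (Subtype.ext hg.symm)⟩
        left_inv := fun C => rfl
        right_inv := fun C => rfl }
  let _ : Fintype A := Fintype.ofFinite A
  rw [hsub, Nat.card_eq_fintype_card, Fintype.card_subtype_compl, Fintype.card_subtype_eq,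
    ← Fintype.card_of_bijective hb, Fintype.card_subtype]

end Cfsg.Agent.S2570
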