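import Cfsg.Statements.S2571
import Cfsg.Agent.Lib.LinAux.Jordan

set_option autoImplicit false
open Cfsg

namespace Cfsg.Agent.S2571

/-- Centraliser of a regular unipotent element in GL_n(q): if u is an invertible n × n matrix over the field with q elements, n ≥ 1, with (u − 1)^n = 0 and rank(u − 1) = n − 1 (a single unipotent Jordan block), then its centraliser in GL_n(q) has order (q − 1) q^(n−1). -/
theorem result {F : Type*} [Field F] [Fintype F] {q n : ℕ} (hF : Fintype.card F = q) (hn : 1 ≤ n) (u : GL (Fin n) F) (hnil : ((u : Matrix (Fin n) (Fin n) F) - 1) ^ n = 0) (hreg : ((u : Matrix (Fin n) (Fin n) F) - 1).rank = n - 1) : Nat.card ↥(Subgroup.centralizer ({u} : Set (GL (Fin n) F))) = (q - 1) * q ^ (n - 1) := by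
  classical
  have : NeZero n := ⟨by omega⟩
  obtain ⟨C, hC0, hC⟩ := Lib.LinAux.exists_shift_frame _ hnil hreg
  have hCu : IsUnit C.det := isUnit_iff_ne_zero.mpr hC0
  let C' : GL (Fin n) F := Matrix.GeneralLinearGroup.mkOfDetNeZero C hC0
  let T : {c : Fin n → F // c 0 ≠ 0} → GL (Fin n) F := fun c =>
    C' * Matrix.GeneralLinearGroup.mkOfDetNeZero (Lib.LinAux.toep c.1)
      (by rw [Lib.LinAux.det_toep]; exact pow_ne_zero _ c.2) * C'⁻¹
  have hu : (u : Matrix (Fin n) (Fin n) F) * C = C * (1 + Lib.LinAux.shift F n) := by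
    rw [mul_add, mul_one, ← hC, sub_mul, one_mul, add_sub_cancel]
  have hu' : (C' : GL (Fin n) F)⁻¹ * u * C' ∈ {x : GL (Fin n) F | (x : Matrix (Fin n) (Fin n) F) = 1 + Lib.LinAux.shift F n} := by
    show ((C'⁻¹ * u * C' : GL (Fin n) F) : Matrix (Fin n) (Fin n) F) = _
    rw [mul_assoc, Units.val_mul, Units.val_mul, show (C' : Matrix (Fin n) (Fin n) F) = C from rfl, hu, ← mul_assoc,
      show C = (C' : Matrix (Fin n) (Fin n) F) from rfl, Units.inv_mul, one_mul]
  have hmem : ∀ k : GL (Fin n) F, k ∈ Subgroup.centralizer ({u} : Set (GL (Fin n) F)) ↔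
      Lib.LinAux.shift F n * ((C'⁻¹ * k * C' : GL (Fin n) F) : Matrix (Fin n) (Fin n) F) =
        ((C'⁻¹ * k * C' : GL (Fin n) F) : Matrix (Fin n) (Fin n) F) * Lib.LinAux.shift F n := by
    intro k
    rw [Subgroup.mem_centralizer_singleton_iff]
    have hw : ((C'⁻¹ * u * C' : GL (Fin n) F) : Matrix (Fin n) (Fin n) F) = 1 + Lib.LinAux.shift F n := hu'
    constructor
    · intro h
      have e : C'⁻¹ * u * C' * (C'⁻¹ * k * C') = C'⁻¹ * k * C' * (C'⁻¹ * u * C') := by
        calc _ = C'⁻¹ * (u * k) * C' := by group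
          _ = C'⁻¹ * (k * u) * C' := by rw [h]
          _ = _ := by group
      have e' := congrArg (fun x : GL (Fin n) F => (x : Matrix (Fin n) (Fin n) F)) e
      simp only [Units.val_mul] at e' hw ⊢
      rw [hw, add_mul, mul_add, one_mul, mul_one] at e'
      exact add_left_cancel e'
    · intro h
      have e : C'⁻¹ * u * C' * (C'⁻¹ * k * C') = C'⁻¹ * k * C' * (C'⁻¹ * u * C') := by
        refine Units.ext ?_
        rw [Units.val_mul (C'⁻¹ * u * C'), Units.val_mul (C'⁻¹ * k * C'), hw, add_mul, mul_add, one_mul, mul_one, h]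
      calc k * u = C' * (C'⁻¹ * k * C' * (C'⁻¹ * u * C')) * C'⁻¹ := by group
        _ = u * k := by rw [← e]; group
  let e : {c : Fin n → F // c 0 ≠ 0} ≃ Subgroup.centralizer ({u} : Set (GL (Fin n) F)) :=
    Equiv.ofBijective (fun c => ⟨T c, (hmem _).mpr (by
      rw [show C'⁻¹ * T c * C' = Matrix.GeneralLinearGroup.mkOfDetNeZero (Lib.LinAux.toep c.1)
        (by rw [Lib.LinAux.det_toep]; exact pow_ne_zero _ c.2) by simp only [T]; group]
      exact Lib.LinAux.shift_comm_toep c.1)⟩) (by
      constructor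
      · intro c d h
        have h' := congrArg Subtype.val h
        simp only [T, mul_left_inj, mul_right_inj] at h'
        exact Subtype.ext (Lib.LinAux.toep_injective (congrArg (fun x : GL (Fin n) F => (x : Matrix (Fin n) (Fin n) F)) h'))
      · intro k
        obtain ⟨k, hk⟩ := k
        rw [hmem] at hk
        have hA := Lib.LinAux.eq_toep_of_comm hk
        refine ⟨⟨fun i => ((C'⁻¹ * k * C' : GL (Fin n) F) : Matrix (Fin n) (Fin n) F) i 0, ?_⟩, Subtype.ext ?_⟩
        · intro h0
          have := congrArg Matrix.det hA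
          rw [Lib.LinAux.det_toep] at this
          simp only at h0
          rw [h0, zero_pow (by omega)] at this
          exact ((Matrix.isUnit_iff_isUnit_det _).mp (C'⁻¹ * k * C').isUnit).ne_zero this
        · show T _ = k
          simp only [T]
          calc _ = C' * (C'⁻¹ * k * C') * C'⁻¹ := by
                congr 2
                exact Units.ext hA.symm
            _ = k := by group)
  rw [← Nat.card_congr e]
  obtain ⟨r, rfl⟩ : ∃ r, n = r + 1 := ⟨n - 1, by omega⟩
  let e2 : {c : Fin (r + 1) → F // c 0 ≠ 0} ≃ {a : F // a ≠ 0} × (Fin r → F) :=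
    { toFun := fun c => (⟨c.1 0, c.2⟩, Fin.tail c.1)
      invFun := fun p => ⟨Fin.cons p.1.1 p.2, by simpa using p.1.2⟩
      left_inv := fun c => Subtype.ext (Fin.cons_self_tail _)
      right_inv := fun p => by ext <;> simp }
  rw [Nat.card_congr e2, Nat.card_prod, Nat.card_fun, Nat.card_eq_fintype_card (α := F), hF, Nat.card_fin,
    Nat.card_eq_fintype_card, Fintype.card_subtype_compl, Fintype.card_subtype_eq, hF, Nat.add_sub_cancel]

end Cfsg.Agent.S2571
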