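import Cfsg.Statements.S2572
import Cfsg.Agent.Lib.LinAux.Basic

set_option autoImplicit false
open Cfsg

namespace Cfsg.Agent.S2572

open Cfsg.Agent.Lib

section
variable {F : Type*} [Field F] {r : ℕ}

private theorem exists_frame (t : Matrix (Fin (r + 2)) (Fin (r + 2)) F) (ht : Cfsg.IsTransvection t) :
    ∃ C : Matrix (Fin (r + 2)) (Fin (r + 2)) F, C.det ≠ 0 ∧ (t - 1) * C = C * Matrix.single 1 0 1 := by
  obtain ⟨hrank, hsq⟩ := ht
  set N := t - 1 with hN
  have hrk : Module.finrank F (LinearMap.range N.mulVecLin) = 1 := hrank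
  have hker : Module.finrank F (LinearMap.ker N.mulVecLin) = r + 1 := by
    have := LinearMap.finrank_range_add_finrank_ker N.mulVecLin
    rw [hrk, Module.finrank_fin_fun] at this
    omega
  obtain ⟨v, hv⟩ : ∃ v, N.mulVec v ≠ 0 := by
    by_contra! h
    have h0 : N.mulVecLin = 0 := LinearMap.ext fun v => h v
    rw [h0, LinearMap.range_zero, finrank_bot] at hrk
    exact zero_ne_one hrk
  have hmem : N.mulVec v ∈ LinearMap.ker N.mulVecLin := by
    simp [Matrix.mulVec_mulVec, hsq]
  let a : LinearMap.ker N.mulVecLin := ⟨_, hmem⟩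
  obtain ⟨hk, b, hb⟩ := LinAux.exists_basis_extending hker (fun _ : Fin 1 => a)
    ((linearIndependent_unique_iff).mpr fun h => hv (congrArg Subtype.val h))
  have hb0 : b 0 = a := by
    rw [← hb 0]; rfl
  let c : Fin (r + 2) → (Fin (r + 2) → F) := Fin.cons v fun i => (b i : Fin (r + 2) → F)
  have hc : LinearIndependent F c := by
    refine linearIndependent_fin_cons.mpr ⟨b.linearIndependent.map' (Submodule.subtype _) (Submodule.ker_subtype _), fun h => hv ?_⟩
    refine (show Submodule.span F _ ≤ LinearMap.ker N.mulVecLin from ?_) h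
    rw [Submodule.span_le]
    rintro _ ⟨i, rfl⟩
    exact (b i).2
  refine ⟨LinAux.colMatrix c, LinAux.det_colMatrix_ne_zero hc, Matrix.ext fun i j => ?_⟩
  show N.mulVec (c j) i = _
  rcases eq_or_ne j 0 with rfl | hj
  · rw [Matrix.mul_single_apply_same, mul_one]
    show N.mulVec v i = (Fin.cons v (fun i => (b i : Fin (r + 2) → F)) : Fin (r + 2) → Fin (r + 2) → F) (Fin.succ 0) i
    rw [Fin.cons_succ, hb0]
  · rw [Matrix.mul_single_apply_of_ne _ _ _ _ _ hj]
    obtain ⟨k, rfl⟩ := Fin.exists_succ_eq.mpr hj
    show N.mulVec ((Fin.cons v (fun i => (b i : Fin (r + 2) → F)) : Fin (r + 2) → Fin (r + 2) → F) k.succ) i = 0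
    rw [Fin.cons_succ]
    exact congrFun (LinearMap.mem_ker.mp (b k).2) i

/-- The general element of the commutant of `single 1 0 1`. -/
private def blk (a b : F) (R S : Fin r → F) (B : Matrix (Fin r) (Fin r) F) : Matrix (Fin (r + 2)) (Fin (r + 2)) F :=
  Matrix.of (Fin.cons (Fin.cons a (Fin.cons 0 0)) (Fin.cons (Fin.cons b (Fin.cons a R))
    (fun i => Fin.cons (S i) (Fin.cons 0 (B i)))))

private theorem comm_iff (A : Matrix (Fin (r + 2)) (Fin (r + 2)) F) :
    A * Matrix.single 1 0 1 = Matrix.single 1 0 1 * A ↔
      A = blk (A 0 0) (A 1 0) (fun i => A 1 i.succ.succ) (fun i => A i.succ.succ 0)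
        (Matrix.of fun i j => A i.succ.succ j.succ.succ) := by
  have h01 : (1 : Fin (r + 2)) = Fin.succ 0 := rfl
  constructor
  · intro h
    have e : ∀ i j, (A * Matrix.single 1 0 1 : Matrix (Fin (r + 2)) (Fin (r + 2)) F) i j =
        (Matrix.single 1 0 1 * A : Matrix (Fin (r + 2)) (Fin (r + 2)) F) i j := fun i j => by rw [h]
    have h0j : ∀ j, j ≠ 0 → A 0 j = 0 := fun j hj => by
      have := e 1 j
      rw [Matrix.mul_single_apply_of_ne _ _ _ _ _ hj, Matrix.single_mul_apply_same, one_mul] at this
      exact this.symm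
    have hi1 : ∀ i, i ≠ 1 → A i 1 = 0 := fun i hi => by
      have := e i 0
      rw [Matrix.mul_single_apply_same, Matrix.single_mul_apply_of_ne _ _ _ _ _ hi, mul_one] at this
      exact this
    have h11 : A 1 1 = A 0 0 := by
      have := e 1 0
      rw [Matrix.mul_single_apply_same, Matrix.single_mul_apply_same, one_mul, mul_one] at this
      exact this
    refine Matrix.ext fun i j => ?_
    cases i using Fin.cases with
    | zero =>
      cases j using Fin.cases with
      | zero => simp [blk]
      | succ j =>
        cases j using Fin.cases with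
        | zero => simpa [blk] using h0j 1 (by simp)
        | succ j => simpa [blk] using h0j j.succ.succ (Fin.succ_ne_zero _)
    | succ i =>
      cases i using Fin.cases with
      | zero =>
        cases j using Fin.cases with
        | zero => simp [blk]
        | succ j =>
          cases j using Fin.cases with
          | zero => simpa [blk] using h11
          | succ j => simp [blk]
      | succ i =>
        cases j using Fin.cases with
        | zero => simp [blk]
        | succ j =>
          cases j using Fin.cases with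
          | zero => simpa [blk] using hi1 i.succ.succ (by rw [h01, ne_eq, Fin.succ_inj]; exact Fin.succ_ne_zero _)
          | succ j => simp [blk]
  · intro h
    rw [h]
    refine Matrix.ext fun i j => ?_
    rcases eq_or_ne j 0 with rfl | hj
    · rw [Matrix.mul_single_apply_same, mul_one]
      cases i using Fin.cases with
      | zero => rw [Matrix.single_mul_apply_of_ne _ _ _ _ _ (by simp)]; simp [blk]
      | succ i =>
        cases i using Fin.cases with
        | zero => rw [← h01, Matrix.single_mul_apply_same]; simp [blk]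
        | succ i =>
          rw [Matrix.single_mul_apply_of_ne _ _ _ _ _ (by rw [h01, ne_eq, Fin.succ_inj]; exact Fin.succ_ne_zero _)]
          simp [blk]
    · rw [Matrix.mul_single_apply_of_ne _ _ _ _ _ hj]
      rcases eq_or_ne i 1 with rfl | hi
      · rw [Matrix.single_mul_apply_same, one_mul]
        obtain ⟨k, rfl⟩ := Fin.exists_succ_eq.mpr hj
        cases k using Fin.cases <;> simp [blk]
      · rw [Matrix.single_mul_apply_of_ne _ _ _ _ _ hi]

private theorem mulVec_blk (a b : F) (R S : Fin r → F) (B : Matrix (Fin r) (Fin r) F) (x : Fin (r + 2) → F) :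
    (blk a b R S B).mulVec x = Fin.cons (a * x 0) (Fin.cons (b * x 0 + a * x 1 + ∑ j, R j * x j.succ.succ)
      (fun i => S i * x 0 + B.mulVec (fun j => x j.succ.succ) i)) := by
  funext i
  cases i using Fin.cases with
  | zero => simp [blk, Matrix.mulVec, dotProduct, Fin.sum_univ_succ]
  | succ i =>
    cases i using Fin.cases with
    | zero => simp [blk, Matrix.mulVec, dotProduct, Fin.sum_univ_succ, add_assoc]
    | succ i => simp [blk, Matrix.mulVec, dotProduct, Fin.sum_univ_succ]

private theorem isUnit_blk (a b : F) (R S : Fin r → F) (B : Matrix (Fin r) (Fin r) F) :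
    IsUnit (blk a b R S B) ↔ a ≠ 0 ∧ IsUnit B := by
  rw [← Matrix.mulVec_injective_iff_isUnit, ← Matrix.mulVec_injective_iff_isUnit]
  constructor
  · intro h
    have ha : a ≠ 0 := by
      rintro rfl
      have := @h (Pi.single 1 1) 0 (by
        rw [Matrix.mulVec_zero, mulVec_blk]
        funext i
        cases i using Fin.cases with
        | zero => simp
        | succ i =>
          cases i using Fin.cases with
          | zero => simp [Pi.single_apply, Fin.ext_iff]
          | succ i => simp [Pi.single_apply, Fin.ext_iff, Matrix.mulVec, dotProduct])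
      simpa using congrFun this 1
    refine ⟨ha, fun y z hyz => ?_⟩
    have hw : B.mulVec (y - z) = 0 := by rw [Matrix.mulVec_sub, hyz, sub_self]
    have := @h (Fin.cons 0 (Fin.cons (-(∑ j, R j * (y - z) j) / a) (y - z))) 0 (by
        rw [Matrix.mulVec_zero, mulVec_blk]
        funext i
        cases i using Fin.cases with
        | zero => simp
        | succ i =>
          cases i using Fin.cases with
          | zero =>
            have h1 : (1 : Fin (r + 2)) = Fin.succ 0 := rfl
            simp only [h1, Fin.cons_succ, Fin.cons_zero, Pi.zero_apply, mul_zero, zero_add]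
            field_simp
            ring
          | succ i => simpa [Pi.sub_def] using congrFun hw i)
    funext i
    simpa [sub_eq_zero] using congrFun this i.succ.succ
  · rintro ⟨ha, hB⟩ x y hxy
    rw [mulVec_blk, mulVec_blk] at hxy
    have e0 : x 0 = y 0 := by simpa [ha] using congrFun hxy 0
    have eB : (fun j : Fin r => x j.succ.succ) = fun j : Fin r => y j.succ.succ := hB (funext fun i => by
      simpa [e0] using congrFun hxy i.succ.succ)
    have e1 : x 1 = y 1 := by
      have := congrFun hxy (Fin.succ 0)
      have e : ∀ j : Fin r, x j.succ.succ = y j.succ.succ := congrFun eB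
      simp only [Fin.cons_succ, Fin.cons_zero, e0, e] at this
      exact mul_left_cancel₀ ha (add_left_cancel (add_right_cancel this))
    funext i
    cases i using Fin.cases with
    | zero => exact e0
    | succ i =>
      cases i using Fin.cases with
      | zero => exact e1
      | succ i => exact congrFun eB i

end


/-- Centraliser of a transvection in GL_n(q), n ≥ 2: if t − 1 has rank one and square zero, the centraliser of t in GL_n(q) has order q^(2n−3) (q − 1) |GL_(n−2)(q)| (a group of order q^(2n−3) extended by GL_1(q) × GL_(n−2)(q)). -/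
theorem result {F : Type*} [Field F] [Fintype F] {q n : ℕ} (hF : Fintype.card F = q) (hn : 2 ≤ n) (t : GL (Fin n) F) (ht : Cfsg.IsTransvection (t : Matrix (Fin n) (Fin n) F)) : Nat.card ↥(Subgroup.centralizer ({t} : Set (GL (Fin n) F))) = q ^ (2 * n - 3) * (q - 1) * ∏ i : Fin (n - 2), (q ^ (n - 2) - q ^ (i : ℕ)) := by
  classical
  obtain ⟨r, rfl⟩ : ∃ r, n = r + 2 := ⟨n - 2, by omega⟩
  obtain ⟨C, hC0, hC⟩ := exists_frame _ ht
  let C' : GL (Fin (r + 2)) F := Matrix.GeneralLinearGroup.mkOfDetNeZero C hC0
  let Z := Subgroup.centralizer ({t} : Set (GL (Fin (r + 2)) F))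
  have htC : (t : Matrix (Fin (r + 2)) (Fin (r + 2)) F) * C = C * (1 + Matrix.single 1 0 1) := by
    rw [mul_add, mul_one, ← hC, sub_mul, one_mul, add_sub_cancel]
  have hmem : ∀ k : GL (Fin (r + 2)) F, k ∈ Z ↔
      ((C'⁻¹ * k * C' : GL (Fin (r + 2)) F) : Matrix (Fin (r + 2)) (Fin (r + 2)) F) * Matrix.single 1 0 1 =
        Matrix.single 1 0 1 * ((C'⁻¹ * k * C' : GL (Fin (r + 2)) F) : Matrix (Fin (r + 2)) (Fin (r + 2)) F) := by
    intro k
    have hw : ((C'⁻¹ * t * C' : GL (Fin (r + 2)) F) : Matrix (Fin (r + 2)) (Fin (r + 2)) F) = 1 + Matrix.single 1 0 1 := by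
      rw [mul_assoc, Units.val_mul, Units.val_mul, show (C' : Matrix (Fin (r + 2)) (Fin (r + 2)) F) = C from rfl, htC,
        ← mul_assoc, show C = (C' : Matrix (Fin (r + 2)) (Fin (r + 2)) F) from rfl, Units.inv_mul, one_mul]
    rw [Subgroup.mem_centralizer_singleton_iff]
    constructor
    · intro h
      have e : C'⁻¹ * t * C' * (C'⁻¹ * k * C') = C'⁻¹ * k * C' * (C'⁻¹ * t * C') := by
        calc _ = C'⁻¹ * (t * k) * C' := by group
          _ = C'⁻¹ * (k * t) * C' := by rw [h]
          _ = _ := by group
      have e' := congrArg (fun x : GL (Fin (r + 2)) F => (x : Matrix (Fin (r + 2)) (Fin (r + 2)) F)) e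
      simp only [Units.val_mul] at e' hw ⊢
      rw [hw, add_mul, mul_add, one_mul, mul_one] at e'
      exact (add_left_cancel e').symm
    · intro h
      have e : C'⁻¹ * t * C' * (C'⁻¹ * k * C') = C'⁻¹ * k * C' * (C'⁻¹ * t * C') := by
        refine Units.ext ?_
        rw [Units.val_mul (C'⁻¹ * t * C'), Units.val_mul (C'⁻¹ * k * C'), hw, add_mul, mul_add, one_mul, mul_one, h]
      calc k * t = C' * (C'⁻¹ * k * C' * (C'⁻¹ * t * C')) * C'⁻¹ := by group
        _ = t * k := by rw [← e]; group
  let D := Fˣ × F × (Fin r → F) × (Fin r → F) × GL (Fin r) F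
  let f : D → Z := fun d => ⟨C' * ((isUnit_blk (d.1 : F) d.2.1 d.2.2.1 d.2.2.2.1 (d.2.2.2.2 : Matrix (Fin r) (Fin r) F)).mpr
      ⟨d.1.ne_zero, Units.isUnit _⟩).unit * C'⁻¹, (hmem _).mpr (by
        rw [comm_iff]
        simp only [mul_assoc, inv_mul_cancel, mul_one, inv_mul_cancel_left, IsUnit.unit_spec]
        refine Matrix.ext fun i j => ?_
        cases i using Fin.cases with
        | zero => cases j using Fin.cases with
          | zero => simp [blk]
          | succ j => cases j using Fin.cases <;> simp [blk]
        | succ i => cases i using Fin.cases with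
          | zero => cases j using Fin.cases with
            | zero => simp [blk]
            | succ j => cases j using Fin.cases <;> simp [blk]
          | succ i => cases j using Fin.cases with
            | zero => simp [blk]
            | succ j => cases j using Fin.cases <;> simp [blk])⟩
  have hf : Function.Bijective f := by
    constructor
    · rintro ⟨a, b, R, S, B⟩ ⟨a', b', R', S', B'⟩ h
      have h' : blk (a : F) b R S (B : Matrix (Fin r) (Fin r) F) = blk (a' : F) b' R' S' (B' : Matrix (Fin r) (Fin r) F) := by
        have := congrArg Subtype.val h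
        simp only [f, mul_left_inj, mul_right_inj] at this
        have := congrArg (fun x : GL (Fin (r + 2)) F => (x : Matrix (Fin (r + 2)) (Fin (r + 2)) F)) this
        simpa using this
      have e00 := congrFun (congrFun h' 0) 0
      have e10 := congrFun (congrFun h' (Fin.succ 0)) 0
      have eR : ∀ j, R j = R' j := fun j => by simpa [blk] using congrFun (congrFun h' (Fin.succ 0)) j.succ.succ
      have eS : ∀ i, S i = S' i := fun i => by simpa [blk] using congrFun (congrFun h' i.succ.succ) 0
      have eB : ∀ i j, (B : Matrix (Fin r) (Fin r) F) i j = (B' : Matrix (Fin r) (Fin r) F) i j := fun i j => by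
        simpa [blk] using congrFun (congrFun h' i.succ.succ) j.succ.succ
      simp [blk] at e00 e10
      simp [Units.ext e00, e10, funext eR, funext eS, Units.ext (Matrix.ext eB)]
    · rintro ⟨k, hk⟩
      have hA := (comm_iff _).mp ((hmem k).mp hk)
      obtain ⟨ha, hB⟩ := (isUnit_blk _ _ _ _ _).mp (hA ▸ Units.isUnit (C'⁻¹ * k * C'))
      refine ⟨(Units.mk0 _ ha, ((C'⁻¹ * k * C' : GL (Fin (r + 2)) F) : Matrix (Fin (r + 2)) (Fin (r + 2)) F) 1 0, fun i => ((C'⁻¹ * k * C' : GL (Fin (r + 2)) F) : Matrix (Fin (r + 2)) (Fin (r + 2)) F) 1 i.succ.succ, fun i => ((C'⁻¹ * k * C' : GL (Fin (r + 2)) F) : Matrix (Fin (r + 2)) (Fin (r + 2)) F) i.succ.succ 0, hB.unit), Subtype.ext ?_⟩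
      show C' * _ * C'⁻¹ = k
      calc _ = C' * (C'⁻¹ * k * C') * C'⁻¹ := by
            congr 2
            exact Units.ext hA.symm
        _ = k := by group
  rw [← Nat.card_eq_of_bijective f hf]
  simp only [D, Nat.card_prod, Nat.card_fun, Nat.card_fin, Nat.card_units]
  rw [Matrix.card_GL_field, Nat.card_eq_fintype_card, hF, show r + 2 - 2 = r by omega, show 2 * (r + 2) - 3 = r + r + 1 by omega, pow_succ, pow_add]
  ring

end Cfsg.Agent.S2572
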