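import Cfsg.Statements.S2573

set_option autoImplicit false
open Cfsg

namespace Cfsg.Agent.S2573

section
variable {F V : Type*} [Field F] [AddCommGroup V] [Module F V] [FiniteDimensional F V]

theorem ker_pow_finrank_le (N : V →ₗ[F] V) (hker : Module.finrank F (LinearMap.ker N) ≤ 1) (k : ℕ) :
    Module.finrank F (LinearMap.ker (N ^ k)) ≤ k := by
  induction k with
  | zero => rw [pow_zero, Module.End.one_eq_id, LinearMap.ker_id, finrank_bot]
  | succ k ih =>
    let f : LinearMap.ker (N ^ (k + 1)) →ₗ[F] LinearMap.ker (N ^ k) :=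
      (N.comp (LinearMap.ker (N ^ (k + 1))).subtype).codRestrict _ (fun v => by
        rw [LinearMap.mem_ker]
        show (N ^ k) (N v) = 0
        rw [← Module.End.mul_apply, ← pow_succ]
        exact v.2)
    have h1 := LinearMap.finrank_range_add_finrank_ker f
    have h2 : Module.finrank F (LinearMap.range f) ≤ k := (Submodule.finrank_le _).trans ih
    let g : LinearMap.ker f →ₗ[F] LinearMap.ker N :=
      ((LinearMap.ker (N ^ (k + 1))).subtype.comp (LinearMap.ker f).subtype).codRestrict _ (fun v => by
        have := v.2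
        rw [LinearMap.mem_ker] at this ⊢
        exact congrArg Subtype.val this)
    have h3 : Module.finrank F (LinearMap.ker f) ≤ 1 :=
      (LinearMap.finrank_le_finrank_of_injective (f := g) (fun x y h =>
        Subtype.ext (Subtype.ext (congrArg (fun z : LinearMap.ker N => (z : V)) h)))).trans hker
    omega

theorem pow_finrank_eq_zero (N : V →ₗ[F] V) {n : ℕ} (hnil : N ^ n = 0) : N ^ Module.finrank F V = 0 := by
  have h : IsNilpotent N := ⟨n, hnil⟩
  have := h.charpoly_eq_X_pow_finrank
  have h2 := N.aeval_self_charpoly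
  rwa [this, map_pow, Polynomial.aeval_X] at h2

theorem invariant_eq_ker (N : V →ₗ[F] V) {n : ℕ} (hnil : N ^ n = 0) (hker : Module.finrank F (LinearMap.ker N) ≤ 1)
    (W : Submodule F V) (hW : ∀ v ∈ W, N v ∈ W) : W = LinearMap.ker (N ^ Module.finrank F W) := by
  refine Submodule.eq_of_le_of_finrank_le (fun v hv => ?_) (ker_pow_finrank_le N hker _)
  let M := N.restrict hW
  have hM : ∀ (k : ℕ) (w : W), (((M ^ k) w : W) : V) = (N ^ k) w := by
    intro k
    induction k with
    | zero => simp
    | succ k ih => intro w; rw [pow_succ, pow_succ, Module.End.mul_apply, Module.End.mul_apply, ih]; rfl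
  have h : M ^ n = 0 := LinearMap.ext fun w => Subtype.ext (by rw [hM, hnil]; rfl)
  have h2 := hM (Module.finrank F W) ⟨v, hv⟩
  rw [pow_finrank_eq_zero M h] at h2
  exact h2.symm

end

/-- The invariant subspaces of a regular unipotent matrix form a chain: over a finite field, if u is an n × n matrix with (u − 1)^n = 0 and rank(u − 1) = n − 1, then every subspace W of F^n with u W ⊆ W is the kernel of (u − 1)^(dim W); so u has at most one invariant subspace of each dimension. -/
theorem result {F : Type*} [Field F] [Finite F] {n : ℕ} (u : Matrix (Fin n) (Fin n) F) (hnil : (u - 1) ^ n = 0) (hreg : (u - 1).rank = n - 1) (W : Submodule F (Fin n → F)) (hW : ∀ v ∈ W, u.mulVec v ∈ W) : W = LinearMap.ker (Matrix.mulVecLin ((u - 1) ^ Module.finrank F W)) := by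
  classical
  let N := Matrix.mulVecLin (u - 1)
  have hN : ∀ k : ℕ, Matrix.mulVecLin ((u - 1) ^ k) = N ^ k := fun k => by
    exact map_pow (Matrix.toLinAlgEquiv' (R := F) (n := Fin n)) (u - 1) k
  have hnil' : N ^ n = 0 := by rw [← hN, hnil]; simp
  have hker : Module.finrank F (LinearMap.ker N) ≤ 1 := by
    have h1 := LinearMap.finrank_range_add_finrank_ker N
    rw [Module.finrank_fin_fun] at h1
    have : Module.finrank F (LinearMap.range N) = n - 1 := hreg
    omega
  rw [hN]
  exact invariant_eq_ker N hnil' hker W (fun v hv => by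
    have : N v = u.mulVec v - v := by simp [N, Matrix.sub_mulVec]
    rw [this]; exact W.sub_mem (hW v hv) hv)

end Cfsg.Agent.S2573
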