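import Cfsg.Statements.S2574
import Cfsg.Agent.S2573

set_option autoImplicit false
open Cfsg

namespace Cfsg.Agent.S2574

theorem symp_eq {F : Type*} [CommRing F] (m : ℕ) (u v : Fin m ⊕ Fin m → F) :
    Cfsg.sympForm m F u v = u ⬝ᵥ (Matrix.J (Fin m) F).mulVec v := rfl

open Cfsg.Agent.S2573

/-- A regular unipotent element of the symplectic group has totally isotropic small invariant subspaces: over a finite field, if u ∈ Sp_2m(F) satisfies (u − 1)^(2m) = 0 and rank(u − 1) = 2m − 1, and W is a u-invariant subspace with 2 dim W ≤ 2m, then the alternating form vanishes identically on W. -/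
theorem result {F : Type*} [Field F] [Finite F] {m : ℕ} (u : Matrix.symplecticGroup (Fin m) F) (hnil : ((u : Matrix (Fin m ⊕ Fin m) (Fin m ⊕ Fin m) F) - 1) ^ (2 * m) = 0) (hreg : ((u : Matrix (Fin m ⊕ Fin m) (Fin m ⊕ Fin m) F) - 1).rank = 2 * m - 1) (W : Submodule F (Fin m ⊕ Fin m → F)) (hW : ∀ v ∈ W, (u : Matrix (Fin m ⊕ Fin m) (Fin m ⊕ Fin m) F).mulVec v ∈ W) (hdim : 2 * Module.finrank F W ≤ 2 * m) : ∀ v ∈ W, ∀ w ∈ W, Cfsg.sympForm m F v w = 0 := by
  classical
  let ι := Fin m ⊕ Fin m
  set A := (u : Matrix ι ι F)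
  let N := Matrix.mulVecLin (A - 1)
  have hN : ∀ (k : ℕ) (v : ι → F), (N ^ k) v = ((A - 1) ^ k).mulVec v := fun k v =>
    (LinearMap.congr_fun (map_pow (Matrix.toLinAlgEquiv' (R := F) (n := ι)) (A - 1) k) v).symm
  have hnil' : N ^ (2 * m) = 0 := LinearMap.ext fun v => by rw [hN, hnil]; simp
  have hker : Module.finrank F (LinearMap.ker N) ≤ 1 := by
    have h1 := LinearMap.finrank_range_add_finrank_ker N
    rw [Module.finrank_fintype_fun_eq_card, Fintype.card_sum, Fintype.card_fin] at h1
    have : Module.finrank F (LinearMap.range N) = 2 * m - 1 := hreg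
    omega
  -- the image of `N ^ m` contains `W`
  have hWN : ∀ v ∈ W, N v ∈ W := fun v hv => by
    have : N v = A.mulVec v - v := by simp [N, Matrix.sub_mulVec]
    rw [this]; exact W.sub_mem (hW v hv) hv
  have hWker : ∀ v ∈ W, (N ^ m) v = 0 := by
    intro v hv
    have h1 : v ∈ LinearMap.ker (N ^ Module.finrank F W) := (invariant_eq_ker N hnil' hker W hWN) ▸ hv
    obtain ⟨j, hj⟩ : ∃ j, j + Module.finrank F W = m := ⟨m - Module.finrank F W, by omega⟩
    have h2 : (N ^ (j + Module.finrank F W)) v = 0 := by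
      rw [pow_add, Module.End.mul_apply, LinearMap.mem_ker.mp h1, map_zero]
    exact (congrArg (fun k => (N ^ k) v) hj.symm).trans h2
  have hrange : LinearMap.ker (N ^ m) ≤ LinearMap.range (N ^ m) := by
    refine (Submodule.eq_of_le_of_finrank_le (S₁ := LinearMap.range (N ^ m)) (S₂ := LinearMap.ker (N ^ m)) ?_ ?_).ge
    · rintro _ ⟨x, rfl⟩
      rw [LinearMap.mem_ker, ← Module.End.mul_apply, ← pow_add, ← two_mul, hnil']
      rfl
    · have h1 := LinearMap.finrank_range_add_finrank_ker (N ^ m)
      rw [Module.finrank_fintype_fun_eq_card, Fintype.card_sum, Fintype.card_fin] at h1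
      have := ker_pow_finrank_le N hker m
      omega
  -- the adjoint of `N` is `- A⁻¹ N`
  have hpres : A.transpose * Matrix.J (Fin m) F * A = Matrix.J (Fin m) F := SymplecticGroup.mem_iff'.mp u.2
  have hswap : ∀ (k : ℕ) (x y : ι → F), (N ^ k) y = 0 →
      Cfsg.sympForm m F ((N ^ k) x) y = 0 := by
    intro k
    induction k with
    | zero => intro x y hy; simp_all [symp_eq]
    | succ k ih =>
      intro x y hy
      have hinj : Function.Injective A.mulVec :=
        Matrix.mulVec_injective_iff_isUnit.mpr ((Matrix.isUnit_iff_isUnit_det A).mpr (SymplecticGroup.symplectic_det u.2))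
      obtain ⟨z, rfl⟩ := (LinearMap.injective_iff_surjective (f := Matrix.mulVecLin A)).mp hinj y
      have hcomm : ∀ (j : ℕ) (w : ι → F), (N ^ j) (A.mulVec w) = A.mulVec ((N ^ j) w) := by
        intro j w
        rw [hN, hN, Matrix.mulVec_mulVec, Matrix.mulVec_mulVec]
        congr 1
        exact (Commute.pow_left ((Commute.refl A).sub_left (Commute.one_left A)) j).eq
      change (N ^ (k + 1)) (A.mulVec z) = 0 at hy
      rw [hcomm] at hy
      have hz : (N ^ (k + 1)) z = 0 := hinj (by rw [hy]; simp)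
      rw [pow_succ', Module.End.mul_apply]
      set w := (N ^ k) x
      show Cfsg.sympForm m F (N w) (A.mulVec z) = 0
      have e1 : N w = A.mulVec w - w := by simp [N, Matrix.sub_mulVec]
      have e2 : Cfsg.sympForm m F (A.mulVec w) (A.mulVec z) = Cfsg.sympForm m F w z := by
        rw [symp_eq, symp_eq, Matrix.mulVec_mulVec, Matrix.dotProduct_mulVec, Matrix.vecMul_mulVec,
          ← Matrix.mul_assoc, hpres, ← Matrix.dotProduct_mulVec]
      have e3 : (N ^ k) (N z) = 0 := by rw [← Module.End.mul_apply, ← pow_succ]; exact hz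
      have e4 := ih x (N z) e3
      have e5 : N z = A.mulVec z - z := by simp [N, Matrix.sub_mulVec]
      rw [e5] at e4
      rw [e1]
      simp only [symp_eq, Matrix.mulVec_sub, dotProduct_sub, sub_dotProduct] at e2 e4 ⊢
      linear_combination e2 - e4
  intro v hv w hw
  obtain ⟨x, rfl⟩ := hrange (LinearMap.mem_ker.mpr (hWker v hv))
  exact hswap m x w (hWker w hw)

end Cfsg.Agent.S2574
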