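import Cfsg.Statements.S2575

set_option autoImplicit false
open Cfsg

namespace Cfsg.Agent.S2575

section
variable {F : Type*} [Field F] [Fintype F]

theorem exists_pow_eq_neg_one_iff {n : ℕ} (hn : 1 ≤ n) (hodd : Odd (Fintype.card F)) :
    (∃ c : F, c ≠ 0 ∧ c ^ n = -1) ↔ padicValNat 2 n < padicValNat 2 (Fintype.card F - 1) := by
  classical
  have h2 : (-1 : F) ≠ 1 := by
    intro h
    have := FiniteField.even_card_iff_char_two (F := F)
    have hr : ringChar F ≠ 2 := fun hr => by
      have := this.mp hr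
      rw [Nat.odd_iff] at hodd
      omega
    exact Ring.neg_one_ne_one_of_char_ne_two hr h
  set N := Fintype.card F - 1 with hN
  have hN0 : N ≠ 0 := by have := Fintype.one_lt_card (α := F); omega
  have hNeven : 2 ∣ N := by rw [Nat.odd_iff] at hodd; omega
  obtain ⟨u, hu⟩ := IsCyclic.exists_generator (α := Fˣ)
  have hord : orderOf u = N := by
    rw [orderOf_eq_card_of_forall_mem_zpowers hu, Nat.card_eq_fintype_card, Fintype.card_units]
  -- `-1 = u ^ (N / 2)`
  have hhalf : ((u ^ (N / 2) : Fˣ) : F) = -1 := by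
    have hsq : ((u ^ (N / 2) : Fˣ) : F) * (u ^ (N / 2) : Fˣ) = 1 := by
      rw [← Units.val_mul, ← pow_add, show N / 2 + N / 2 = N by omega, ← hord, pow_orderOf_eq_one, Units.val_one]
    rcases mul_self_eq_one_iff.mp hsq with h | h
    · have : u ^ (N / 2) = 1 := Units.ext h
      have := Nat.le_of_dvd (by omega) (hord ▸ orderOf_dvd_of_pow_eq_one this)
      omega
    · exact h
  have key : (∃ c : F, c ≠ 0 ∧ c ^ n = -1) ↔ Nat.gcd n N ∣ N / 2 := by
    constructor
    · rintro ⟨c, hc, hcn⟩
      obtain ⟨j, hj⟩ := (mem_powers_iff_mem_zpowers).mpr (hu (Units.mk0 c hc))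
      have h1 : u ^ (j * n) = u ^ (N / 2) := by
        refine Units.ext ?_
        rw [hhalf, pow_mul, show u ^ j = Units.mk0 c hc from hj, Units.val_pow_eq_pow_val, Units.val_mk0, hcn]
      rw [pow_eq_pow_iff_modEq, hord] at h1
      have h3 := (h1.of_dvd (Nat.gcd_dvd_right n N))
      exact (Nat.modEq_zero_iff_dvd.mp (h3.symm.trans (Nat.modEq_zero_iff_dvd.mpr ((Nat.gcd_dvd_left n N).mul_left j))))
    · rintro ⟨t, ht⟩
      have hbez := Nat.gcd_eq_gcd_ab n N
      refine ⟨((u ^ (n.gcdA N * t : ℤ) : Fˣ) : F), Units.ne_zero _, ?_⟩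
      rw [← Units.val_pow_eq_pow_val, ← hhalf, ← zpow_natCast, ← zpow_mul, ← zpow_natCast u (N / 2)]
      congr 1
      rw [zpow_eq_zpow_iff_modEq, hord, ht, Int.modEq_iff_dvd]
      push_cast
      exact ⟨t * n.gcdB N, by rw [hbez]; ring⟩
  rw [key]
  -- 2-adic bookkeeping
  have : Fact (Nat.Prime 2) := ⟨Nat.prime_two⟩
  obtain ⟨m, hm⟩ := Nat.gcd_dvd_right n N
  have hd0 : Nat.gcd n N ≠ 0 := (Nat.gcd_pos_of_pos_right n (by omega)).ne'
  have hm0 : m ≠ 0 := by rintro rfl; simp at hm; exact hN0 hm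
  have h1 : Nat.gcd n N ∣ N / 2 ↔ 2 ∣ m := by
    constructor
    · rintro ⟨t, ht⟩
      refine ⟨t, Nat.eq_of_mul_eq_mul_left (Nat.pos_of_ne_zero hd0) ?_⟩
      rw [← hm, mul_left_comm, ← ht]
      omega
    · rintro ⟨t, rfl⟩
      exact ⟨t, by rw [mul_left_comm] at hm; generalize Nat.gcd n N * t = z at hm ⊢; omega⟩
  rw [h1]
  have hv : padicValNat 2 N = padicValNat 2 (Nat.gcd n N) + padicValNat 2 m := by
    conv_lhs => rw [hm]
    exact padicValNat.mul hd0 hm0
  have hn0 : n ≠ 0 := by omega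
  have hle : padicValNat 2 (Nat.gcd n N) = min (padicValNat 2 n) (padicValNat 2 N) := by
    rw [← Nat.factorization_def _ Nat.prime_two, ← Nat.factorization_def _ Nat.prime_two,
      ← Nat.factorization_def _ Nat.prime_two, Nat.factorization_gcd hn0 hN0]
    rfl
  rw [dvd_iff_padicValNat_ne_zero hm0]
  omega

end

/-- Which diagonal involutions of PGL_n(q) lie in PSL_n(q), q odd: for the diagonal matrix t with i entries −1 and n − i entries 1, some non-zero scalar multiple of t has determinant one if and only if i is even or the 2-part of q − 1 exceeds the 2-part of n (that is, −1 is an n-th power in the field exactly in the latter case). -/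
theorem result {F : Type*} [Field F] [Fintype F] {q : ℕ} (hF : Fintype.card F = q) (hq : Odd q) {n : ℕ} (hn : 1 ≤ n) (i : ℕ) (hi : i ≤ n) : (∃ c : F, c ≠ 0 ∧ (c • Matrix.diagonal (fun j : Fin n => if (j : ℕ) < i then (-1 : F) else 1)).det = 1) ↔ (Even i ∨ padicValNat 2 n < padicValNat 2 (q - 1)) := by
  classical
  have hdet : ∀ c : F, (c • Matrix.diagonal (fun j : Fin n => if (j : ℕ) < i then (-1 : F) else 1)).det = c ^ n * (-1) ^ i := by
    intro c
    rw [Matrix.det_smul, Fintype.card_fin, Matrix.det_diagonal, Finset.prod_ite, Finset.prod_const, Finset.prod_const_one,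
      mul_one]
    congr 2
    simp [Fin.card_filter_val_lt, hi]
  simp only [hdet]
  rcases Nat.even_or_odd i with he | ho
  · simp only [he.neg_one_pow, mul_one, he, true_or, iff_true]
    exact ⟨1, one_ne_zero, one_pow n⟩
  · simp only [ho.neg_one_pow, mul_neg, mul_one, Nat.not_even_iff_odd.mpr ho, false_or, neg_eq_iff_eq_neg]
    rw [← hF]
    exact exists_pow_eq_neg_one_iff hn (hF ▸ hq)

end Cfsg.Agent.S2575
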