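import Cfsg.Statements.S2576

set_option autoImplicit false
open Cfsg

namespace Cfsg.Agent.S2576

/-- Which involutions of PGL_2m(q) coming from a scalar of the quadratic extension field lie in PSL_2m(q), q odd: let μ generate the Sylow 2-subgroup of the multiplicative group of the field with q elements (μ has order the 2-part of q − 1) and let t be the block-diagonal matrix with m diagonal blocks [[0, 1], [μ, 0]] (so t² is the scalar μ and t is an involution modulo scalars). Then some non-zero scalar multiple of t has determinant one if and only if q ≡ 3 (mod 4) or the 2-part of q − 1 is less than the 2-part of 2m. -/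
theorem result {F : Type*} [Field F] [Fintype F] {q : ℕ} (hF : Fintype.card F = q) (hq : Odd q) {m : ℕ} (hm : 1 ≤ m) (μ : F) (hμ : orderOf μ = 2 ^ padicValNat 2 (q - 1)) : (∃ c : F, c ≠ 0 ∧ (c • Matrix.blockDiagonal (fun _ : Fin m => !![(0 : F), 1; μ, 0])).det = 1) ↔ (q % 4 = 3 ∨ padicValNat 2 (q - 1) < padicValNat 2 (2 * m)) := by
  classical
  have : Fact (Nat.Prime 2) := ⟨Nat.prime_two⟩
  have hdet : ∀ c : F, (c • Matrix.blockDiagonal (fun _ : Fin m => !![(0 : F), 1; μ, 0])).det = c ^ (2 * m) * (-μ) ^ m := by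
    intro c
    rw [Matrix.det_smul, Matrix.det_blockDiagonal, Fintype.card_prod, Fintype.card_fin, Fintype.card_fin]
    simp [Matrix.det_fin_two]
  simp only [hdet]
  set a := padicValNat 2 (q - 1) with ha
  have hN0 : q - 1 ≠ 0 := by have := Fintype.one_lt_card (α := F); omega
  have h2N : 2 ∣ q - 1 := by rw [Nat.odd_iff] at hq; omega
  have ha1 : 1 ≤ a := one_le_padicValNat_of_dvd hN0 h2N
  have hμ0 : μ ≠ 0 := by
    rintro rfl
    rw [orderOf_zero] at hμ
    exact absurd hμ.symm (by positivity)
  have ha4 : q % 4 = 3 ↔ a = 1 := by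
    have h4 := (padicValNat_dvd_iff_le (p := 2) hN0 (n := 2))
    rw [← ha] at h4
    rw [Nat.odd_iff] at hq
    constructor
    · intro h
      have : ¬ (2 ^ 2 ∣ q - 1) := by norm_num; omega
      omega
    · intro h
      have : ¬ (2 ^ 2 ∣ q - 1) := by omega
      norm_num at this
      omega
  have h2m : padicValNat 2 (2 * m) = padicValNat 2 m + 1 := by
    rw [padicValNat.mul (by norm_num) (by omega), padicValNat.self (by norm_num), add_comm]
  have hneg : (-1 : F) ^ ((q - 1) / 2) = 1 ↔ ¬ (a = 1) := by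
    rw [← ha4]
    rw [Nat.odd_iff] at hq
    rcases Nat.even_or_odd ((q - 1) / 2) with he | ho
    · rw [he.neg_one_pow]
      rw [Nat.even_iff] at he
      simp; omega
    · rw [ho.neg_one_pow]
      rw [Nat.odd_iff] at ho
      have : (-1 : F) ≠ 1 := Ring.neg_one_ne_one_of_char_ne_two fun h => by
        have := FiniteField.even_card_iff_char_two.mp h
        omega
      simp [this]; omega
  have hμns : μ ^ ((q - 1) / 2) = -1 := by
    rcases mul_self_eq_one_iff.mp (show μ ^ ((q - 1) / 2) * μ ^ ((q - 1) / 2) = 1 by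
      rw [← pow_add, show (q - 1) / 2 + (q - 1) / 2 = q - 1 by omega, ← hF, FiniteField.pow_card_sub_one_eq_one μ hμ0]) with h | h
    · have h1 := orderOf_dvd_of_pow_eq_one h
      rw [hμ] at h1
      have h3 : 2 ^ (a + 1) ∣ q - 1 := by
        rw [pow_succ]
        exact (mul_dvd_mul_right h1 2).trans (dvd_of_eq (Nat.div_mul_cancel h2N))
      rw [padicValNat_dvd_iff_le hN0] at h3
      omega
    · exact h
  constructor
  · rintro ⟨c, hc, hd⟩
    rw [pow_mul, ← mul_pow] at hd
    by_contra hcon
    rw [not_or, ha4, h2m] at hcon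
    have hns : (c ^ 2 * -μ) ^ ((q - 1) / 2) = -1 := by
      rw [neg_eq_neg_one_mul μ, mul_pow, mul_pow, hμns, hneg.mpr hcon.1, ← pow_mul,
        show 2 * ((q - 1) / 2) = q - 1 by omega, ← hF, FiniteField.pow_card_sub_one_eq_one c hc]
      ring
    have hN1 : orderOf (c ^ 2 * -μ) ∣ q - 1 := orderOf_dvd_of_pow_eq_one (by
      rw [← hF]; exact FiniteField.pow_card_sub_one_eq_one _ (mul_ne_zero (pow_ne_zero _ hc) (neg_ne_zero.mpr hμ0)))
    have hm1 : orderOf (c ^ 2 * -μ) ∣ m := orderOf_dvd_of_pow_eq_one hd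
    set o := orderOf (c ^ 2 * -μ) with hodef
    have ho : o ≠ 0 := fun h => by simp [h] at hm1; omega
    have hvm : padicValNat 2 o ≤ padicValNat 2 m :=
      (padicValNat_dvd_iff_le (by omega)).mp (pow_padicValNat_dvd.trans hm1)
    obtain ⟨t, ht⟩ := hN1
    have ht0 : t ≠ 0 := by rintro rfl; simp at ht; omega
    have hva : a = padicValNat 2 o + padicValNat 2 t := by rw [ha, ht, padicValNat.mul ho ht0]
    have h2t : 2 ∣ t := (dvd_iff_padicValNat_ne_zero ht0).mpr (by omega)
    obtain ⟨t', rfl⟩ := h2t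
    have h1 : (c ^ 2 * -μ) ^ ((q - 1) / 2) = 1 := by
      rw [ht, show o * (2 * t') = 2 * (o * t') by ring, Nat.mul_div_cancel_left _ (by norm_num), pow_mul, hodef,
        pow_orderOf_eq_one, one_pow]
    rw [hns] at h1
    have hne : (-1 : F) ≠ 1 := Ring.neg_one_ne_one_of_char_ne_two fun h => by
      have := FiniteField.even_card_iff_char_two.mp h
      rw [Nat.odd_iff] at hq
      omega
    exact hne h1
  · intro h
    refine ⟨1, one_ne_zero, ?_⟩
    rw [one_pow, one_mul]
    rcases h with h | h
    · rw [ha4] at h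
      rw [h, pow_one] at hμ
      have hsq : μ * μ = 1 := by rw [← sq, ← hμ, pow_orderOf_eq_one]
      rcases mul_self_eq_one_iff.mp hsq with h1 | h1
      · rw [h1, orderOf_one] at hμ
        omega
      · rw [h1, neg_neg, one_pow]
    · have hdvd : 2 ^ a ∣ m := (padicValNat_dvd_iff_le (by omega)).mpr (by omega)
      have heven : Even m := even_iff_two_dvd.mpr ((dvd_pow_self 2 (by omega)).trans hdvd)
      rw [heven.neg_pow, orderOf_dvd_iff_pow_eq_one.mp (hμ ▸ hdvd)]

end Cfsg.Agent.S2576
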