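import Cfsg.Statements.S2577
import Mathlib
import Cfsg.Agent.Lib.Similar.Classes

set_option autoImplicit false
open Cfsg

namespace Cfsg.Agent.S2577

open Polynomial Matrix Cfsg.Agent.Lib.Similar

variable {F : Type*} [Field F] [Fintype F] {n : ℕ}

theorem two_ne (hq : Odd (Fintype.card F)) : (2 : F) ≠ 0 := by
  refine Ring.two_ne_zero fun h => ?_
  have := FiniteField.even_card_of_char_two h
  exact Nat.not_even_iff_odd.mpr hq (Nat.even_iff.mpr this)

theorem mem_center' {g : GL (Fin n) F} :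
    g ∈ Subgroup.center (GL (Fin n) F) ↔ ∃ c : Fˣ, Matrix.GeneralLinearGroup.scalar (Fin n) c = g := by
  rw [Matrix.GeneralLinearGroup.center_eq_range_scalar, MonoidHom.mem_range]

theorem scalar_val (c : Fˣ) (g : GL (Fin n) F) :
    ((Matrix.GeneralLinearGroup.scalar (Fin n) c * g : GL (Fin n) F) : Matrix (Fin n) (Fin n) F) = (c : F) • (g : Matrix (Fin n) (Fin n) F) := by
  simp [Matrix.GeneralLinearGroup.scalar, Matrix.smul_eq_diagonal_mul]

/-- Classes in `PGL` agree only if the lifts are conjugate up to a scalar. -/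
theorem exists_scalar_of_mk_eq {g h : GL (Fin n) F}
    (e : ConjClasses.mk (g : GL (Fin n) F ⧸ Subgroup.center (GL (Fin n) F)) = ConjClasses.mk (h : GL (Fin n) F ⧸ Subgroup.center (GL (Fin n) F))) :
    ∃ (x : GL (Fin n) F) (c : Fˣ), x * g * x⁻¹ = Matrix.GeneralLinearGroup.scalar (Fin n) c * h := by
  rw [ConjClasses.mk_eq_mk_iff_isConj, isConj_iff] at e
  obtain ⟨x', hx⟩ := e
  obtain ⟨x, rfl⟩ := QuotientGroup.mk_surjective x'
  rw [← QuotientGroup.mk_inv, ← QuotientGroup.mk_mul, ← QuotientGroup.mk_mul, eq_comm, QuotientGroup.eq] at hx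
  obtain ⟨c, hc⟩ := mem_center'.mp hx
  refine ⟨x, c, ?_⟩
  have hcm : Commute (Matrix.GeneralLinearGroup.scalar (Fin n) c) h :=
    (Subgroup.mem_center_iff.mp (mem_center'.mpr ⟨c, rfl⟩) h).symm
  rw [hcm.eq, hc, mul_inv_cancel_left]

theorem mk_eq_of_conj {g h x : GL (Fin n) F} {c : Fˣ} (e : x * g * x⁻¹ = Matrix.GeneralLinearGroup.scalar (Fin n) c * h) :
    ConjClasses.mk (g : GL (Fin n) F ⧸ Subgroup.center (GL (Fin n) F)) = ConjClasses.mk (h : GL (Fin n) F ⧸ Subgroup.center (GL (Fin n) F)) := by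
  rw [ConjClasses.mk_eq_mk_iff_isConj, isConj_iff]
  refine ⟨(x : GL (Fin n) F ⧸ Subgroup.center (GL (Fin n) F)), ?_⟩
  rw [← QuotientGroup.mk_inv, ← QuotientGroup.mk_mul, ← QuotientGroup.mk_mul, e, QuotientGroup.mk_mul,
    (QuotientGroup.eq_one_iff _).mpr (mem_center'.mpr ⟨c, rfl⟩), one_mul]

/-- Elements squaring to the same scalar with the same characteristic polynomial are conjugate. -/
theorem isConj_of_sq {g h : GL (Fin n) F} (hq : Odd (Fintype.card F)) {c : Fˣ}
    (hg : g ^ 2 = Matrix.GeneralLinearGroup.scalar (Fin n) c) (hh : h ^ 2 = Matrix.GeneralLinearGroup.scalar (Fin n) c)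
    (he : (g : Matrix (Fin n) (Fin n) F).charpoly = (h : Matrix (Fin n) (Fin n) F).charpoly) : IsConj g h := by
  obtain ⟨p, _⟩ := CharP.exists F
  haveI := Fact.mk (CharP.char_is_prime F p)
  obtain ⟨k, -, hk⟩ := FiniteField.card F p
  have hop : ∀ u : GL (Fin n) F, u ^ 2 = Matrix.GeneralLinearGroup.scalar (Fin n) c → (orderOf u).Coprime p := by
    intro u hu
    refine Nat.Coprime.coprime_dvd_left (orderOf_dvd_of_pow_eq_one (n := 2 * (Fintype.card F - 1)) ?_) ?_
    · classical
      rw [pow_mul, hu, ← map_pow, ← Fintype.card_units, pow_card_eq_one, map_one]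
    · have hp2 : p ≠ 2 := fun h => by
        rw [hk, h] at hq
        exact Nat.not_even_iff_odd.mpr hq (even_two.pow_of_ne_zero k.ne_zero)
      refine Nat.Coprime.symm ((Nat.Prime.coprime_iff_not_dvd Fact.out).mpr fun h => ?_)
      rcases (Nat.Prime.dvd_mul Fact.out).mp h with h | h
      · exact hp2 ((Nat.prime_dvd_prime_iff_eq Fact.out Nat.prime_two).mp h)
      · have h1 : p ∣ Fintype.card F := by rw [hk]; exact dvd_pow_self _ k.ne_zero
        have h2 := Nat.dvd_sub h1 h
        rw [Nat.sub_sub_self Fintype.card_pos, Nat.dvd_one] at h2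
        exact (Fact.out : p.Prime).ne_one h2
  exact isConj_of_charpoly_eq (p := p) (hop g hg) (hop h hh) he

theorem factors_of_sq [DecidableEq F] {g : GL (Fin n) F} (hq : Odd (Fintype.card F)) {c : Fˣ}
    (hg : g ^ 2 = Matrix.GeneralLinearGroup.scalar (Fin n) c) :
    ∃ m : Multiset F[X], (∀ f ∈ m, f.Monic ∧ Irreducible f ∧ f ∣ X ^ 2 - C (c : F)) ∧
      (g : Matrix (Fin n) (Fin n) F).charpoly = m.prod := by
  refine exists_factors _ ((separable_X_pow_sub_C (c : F) ?_ c.ne_zero).squarefree) ?_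
  · exact_mod_cast two_ne hq
  · rw [map_sub, map_pow, aeval_X, aeval_C, ← map_pow, ← Units.val_pow_eq_pow_val, hg]
    have : ((Matrix.GeneralLinearGroup.scalar (Fin n) c : GL (Fin n) F) : Matrix (Fin n) (Fin n) F) = algebraMap F _ (c : F) := rfl
    rw [this, AlgEquiv.commutes, sub_self]

/-- The entries of the diagonal involution with `k` entries `-1`. -/
def dv (F : Type*) [Field F] (n k : ℕ) : Fin n → F := fun i => if (i : ℕ) < k then -1 else 1

theorem dv_mul (k : ℕ) : Matrix.diagonal (dv F n k) * Matrix.diagonal (dv F n k) = 1 := by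
  rw [diagonal_mul_diagonal, ← diagonal_one]
  congr 1
  funext i
  unfold dv
  split_ifs <;> simp

/-- The diagonal involution with `k` entries `-1`. -/
def dgl (F : Type*) [Field F] [Fintype F] (n k : ℕ) : GL (Fin n) F :=
  ⟨Matrix.diagonal (dv F n k), Matrix.diagonal (dv F n k), dv_mul k, dv_mul k⟩

theorem dgl_val (k : ℕ) : (dgl F n k : Matrix (Fin n) (Fin n) F) = Matrix.diagonal (dv F n k) := rfl

theorem dgl_sq (k : ℕ) : dgl F n k ^ 2 = 1 := by
  apply Units.ext
  rw [Units.val_pow_eq_pow_val, pow_two, dgl_val, dv_mul, Units.val_one]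

theorem dgl_sq' (k : ℕ) : dgl F n k ^ 2 = Matrix.GeneralLinearGroup.scalar (Fin n) (1 : Fˣ) := by
  rw [dgl_sq, map_one]

theorem count_diag [DecidableEq F] (v : Fin n → F) (a : F) :
    (Matrix.diagonal v).charpoly.roots.count a = (Finset.univ.filter fun i => v i = a).card := by
  rw [charpoly_diagonal, roots_prod _ _ (Finset.prod_ne_zero_iff.mpr fun i _ => X_sub_C_ne_zero _)]
  simp only [roots_X_sub_C, Multiset.bind_singleton, Multiset.count_map]
  show Multiset.card (Multiset.filter (fun i => a = v i) Finset.univ.val) = _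
  rw [Finset.card_def, Finset.filter_val]
  congr 1
  exact Multiset.filter_congr fun i _ => eq_comm

theorem count_dv [DecidableEq F] (h1 : (1 : F) ≠ -1) {k : ℕ} (hk : k ≤ n) :
    (Matrix.diagonal (dv F n k)).charpoly.roots.count (-1 : F) = k := by
  rw [count_diag]
  have : (Finset.univ.filter fun i : Fin n => dv F n k i = -1) = Finset.univ.filter fun i : Fin n => (i : ℕ) < k := by
    refine Finset.filter_congr fun i _ => ?_
    unfold dv
    split_ifs <;> simp_all
  rw [this, Fin.card_filter_val_lt]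
  omega

theorem charpoly_neg_dv {k : ℕ} (hk : k ≤ n) :
    (((-1 : Fˣ) : F) • Matrix.diagonal (dv F n k)).charpoly = (Matrix.diagonal (dv F n (n - k))).charpoly := by
  rw [← diagonal_smul, charpoly_diagonal, charpoly_diagonal]
  refine Fintype.prod_equiv Fin.revPerm _ _ fun i => ?_
  congr 2
  simp only [Pi.smul_apply, dv, Fin.revPerm_apply, Fin.val_rev, smul_eq_mul, Units.val_neg, Units.val_one]
  have := i.2
  split_ifs <;> first | omega | simp

theorem count_neg_dv [DecidableEq F] (h1 : (1 : F) ≠ -1) {k : ℕ} (hk : k ≤ n) :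
    (((-1 : Fˣ) : F) • Matrix.diagonal (dv F n k)).charpoly.roots.count (-1 : F) = n - k := by
  rw [charpoly_neg_dv hk, count_dv h1 (Nat.sub_le _ _)]

theorem tot [DecidableEq F] (h1 : (1 : F) ≠ -1) {b : Multiset F} (hb : ∀ y ∈ b, y = 1 ∨ y = -1) :
    b.count 1 + b.count (-1) = Multiset.card b := by
  induction b using Multiset.induction with
  | empty => simp
  | cons y b ih =>
    have := ih fun z hz => hb z (Multiset.mem_cons_of_mem hz)
    rcases hb y (Multiset.mem_cons_self _ _) with rfl | rfl <;>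
      simp [Multiset.count_cons, h1, h1.symm] <;> omega

/-- An element squaring to one has the characteristic polynomial of a diagonal involution. -/
theorem charpoly_of_invol [DecidableEq F] (hq : Odd (Fintype.card F)) {g : GL (Fin n) F} (hg : g ^ 2 = 1) :
    ∃ k, k ≤ n ∧ (dgl F n k : Matrix (Fin n) (Fin n) F).charpoly = (g : Matrix (Fin n) (Fin n) F).charpoly := by
  have h1 : (1 : F) ≠ -1 := fun h => two_ne hq (by linear_combination h)
  obtain ⟨m, hm, hp⟩ := factors_of_sq hq (c := 1) (hg.trans (map_one _).symm)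
  obtain ⟨a, ha⟩ : ∃ a : Multiset F, a = m.map fun f => -f.coeff 0 := ⟨_, rfl⟩
  have hm' : ∀ f ∈ m, f = X - C 1 ∨ f = X - C (-1) := by
    intro f hf
    have hd : f ∣ (X - C 1) * (X - C (-1 : F)) := by
      convert (hm f hf).2.2 using 1
      simp [Units.val_one]; ring
    rcases (hm f hf).2.1.prime.dvd_or_dvd hd with h | h
    · exact .inl (eq_of_monic_of_associated (hm f hf).1 (monic_X_sub_C _) ((hm f hf).2.1.associated_of_dvd (irreducible_X_sub_C _) h))
    · exact .inr (eq_of_monic_of_associated (hm f hf).1 (monic_X_sub_C _) ((hm f hf).2.1.associated_of_dvd (irreducible_X_sub_C _) h))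
  have hma : m = a.map fun x => X - C x := by
    rw [ha, Multiset.map_map]
    conv_lhs => rw [← Multiset.map_id m]
    exact Multiset.map_congr rfl fun f hf => by rcases hm' f hf with rfl | rfl <;> simp
  have hav : ∀ x ∈ a, x = 1 ∨ x = -1 := by
    intro x hx
    rw [ha] at hx
    obtain ⟨f, hf, rfl⟩ := Multiset.mem_map.mp hx
    rcases hm' f hf with rfl | rfl <;> simp
  have hca : Multiset.card a = n := by
    have := congrArg natDegree hp
    rw [charpoly_natDegree_eq_dim, Fintype.card_fin, hma, natDegree_multiset_prod_X_sub_C_eq_card] at this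
    exact this.symm
  have hk : a.count (-1) ≤ n := hca ▸ Multiset.count_le_card _ _
  refine ⟨a.count (-1), hk, ?_⟩
  have hd := count_dv h1 hk
  rw [hp, hma, dgl_val, charpoly_diagonal]
  have hb : (∏ i : Fin n, (X - C (dv F n (a.count (-1)) i))) =
      ((Finset.univ.val.map (dv F n (a.count (-1)))).map fun x => X - C x).prod := by
    rw [Multiset.map_map]; rfl
  rw [hb]
  rw [charpoly_diagonal, hb, roots_multiset_prod_X_sub_C] at hd
  refine congrArg (fun b : Multiset F => (b.map fun x => X - C x).prod) ?_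
  have hsb : ∀ y ∈ Finset.univ.val.map (dv F n (a.count (-1))), y = 1 ∨ y = -1 := by
    intro y hy
    obtain ⟨i, -, rfl⟩ := Multiset.mem_map.mp hy
    unfold dv
    split_ifs <;> simp
  have t1 := tot h1 hav
  have t2 := tot h1 hsb
  rw [Multiset.card_map, Finset.card_val, Finset.card_univ, Fintype.card_fin] at t2
  ext x
  by_cases hx : x = 1 ∨ x = -1
  · rcases hx with rfl | rfl <;> omega
  · rw [Multiset.count_eq_zero.mpr fun h => hx (hsb x h), Multiset.count_eq_zero.mpr fun h => hx (hav x h)]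

theorem eq_one_or_neg {u : Fˣ} (h : u * u = 1) : u = 1 ∨ u = -1 := by
  rcases mul_self_eq_one_iff.mp (show (u : F) * u = 1 by simpa using congrArg Units.val h) with h | h
  · exact .inl (Units.ext h)
  · exact .inr (Units.ext (by simpa using h))

theorem scalar_sq (c : Fˣ) (g : GL (Fin n) F) :
    (Matrix.GeneralLinearGroup.scalar (Fin n) c * g) ^ 2 = Matrix.GeneralLinearGroup.scalar (Fin n) (c * c) * g ^ 2 := by
  have hcm : Commute (Matrix.GeneralLinearGroup.scalar (Fin n) c) g :=
    (Subgroup.mem_center_iff.mp (mem_center'.mpr ⟨c, rfl⟩) g).symm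
  rw [hcm.mul_pow, ← map_pow, pow_two c]

theorem scalar_injective (hn : 0 < n) {a b : Fˣ}
    (h : Matrix.GeneralLinearGroup.scalar (Fin n) a = Matrix.GeneralLinearGroup.scalar (Fin n) b) : a = b := by
  have := congrArg (fun g : GL (Fin n) F => (g : Matrix (Fin n) (Fin n) F) ⟨0, hn⟩ ⟨0, hn⟩) h
  exact Units.ext (by simpa [Matrix.GeneralLinearGroup.scalar] using this)

theorem orderOf_mk_eq_two {g : GL (Fin n) F} :
    orderOf (g : GL (Fin n) F ⧸ Subgroup.center (GL (Fin n) F)) = 2 ↔
      g ^ 2 ∈ Subgroup.center (GL (Fin n) F) ∧ g ∉ Subgroup.center (GL (Fin n) F) := by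
  rw [orderOf_eq_prime_iff, ← QuotientGroup.mk_pow, QuotientGroup.eq_one_iff, ne_eq, QuotientGroup.eq_one_iff]

/-- Number of conjugacy classes of involutions in PGL_n(q) for q odd and n ≥ 2: there are ⌊n/2⌋ classes represented by diagonal matrices with i entries −1 (1 ≤ i ≤ n/2) and, when n is even, one more class represented by a block-diagonal matrix of 2 × 2 blocks [[0, 1], [μ, 0]] with μ a non-square (a matrix squaring to a scalar but having no eigenvalue in the field); in all ⌊n/2⌋ + 1 classes if n is even and ⌊n/2⌋ if n is odd. -/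
theorem result {F : Type*} [Field F] [Fintype F] {q : ℕ} (hF : Fintype.card F = q) (hq : Odd q) {n : ℕ} (hn : 2 ≤ n) : Nat.card {C : ConjClasses (GL (Fin n) F ⧸ Subgroup.center (GL (Fin n) F)) // ∃ g : GL (Fin n) F ⧸ Subgroup.center (GL (Fin n) F), ConjClasses.mk g = C ∧ orderOf g = 2} = n / 2 + (if Even n then 1 else 0) := by
  classical
  subst hF
  have h2 := two_ne hq
  have h1 : (1 : F) ≠ -1 := fun h => h2 (by linear_combination h)
  obtain ⟨ν, hν⟩ : ∃ a : F, ¬ IsSquare a := FiniteField.exists_nonsquare fun h => by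
    exact Nat.not_even_iff_odd.mpr hq (Nat.even_iff.mpr (FiniteField.even_card_of_char_two h))
  obtain ⟨u, hu⟩ : ∃ u : Fˣ, (u : F) = ν := ⟨Units.mk0 ν (fun h => hν (by rw [h]; exact IsSquare.zero)), rfl⟩
  have hirr : ∀ c : F, ¬ IsSquare c → Irreducible (X ^ 2 - C c) := fun c hc =>
    X_pow_sub_C_irreducible_of_prime Nat.prime_two fun b hb => hc ⟨b, by rw [← hb, pow_two]⟩
  have hchar : ∀ (g : GL (Fin n) F) (c : Fˣ), ¬ IsSquare (c : F) → g ^ 2 = Matrix.GeneralLinearGroup.scalar (Fin n) c →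
      Even n ∧ (g : Matrix (Fin n) (Fin n) F).charpoly = (X ^ 2 - C (c : F)) ^ (n / 2) := by
    intro g c hc hg
    obtain ⟨m, hm, hp⟩ := factors_of_sq hq hg
    have hm' : ∀ f ∈ m, f = X ^ 2 - C (c : F) := fun f hf =>
      eq_of_monic_of_associated (hm f hf).1 (monic_X_pow_sub_C _ two_ne_zero)
        ((hm f hf).2.1.associated_of_dvd (hirr _ hc) (hm f hf).2.2)
    rw [Multiset.eq_replicate_card.mpr hm', Multiset.prod_replicate] at hp
    have hd := congrArg natDegree hp
    rw [charpoly_natDegree_eq_dim, natDegree_pow, natDegree_X_pow_sub_C, Fintype.card_fin] at hd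
    exact ⟨⟨Multiset.card m, by omega⟩, by rw [hp, show n / 2 = Multiset.card m by omega]⟩
  have hdg : ∀ k, 1 ≤ k → k ≤ n / 2 → dgl F n k ∉ Subgroup.center (GL (Fin n) F) := by
    intro k hk hk' h
    obtain ⟨c, hc⟩ := mem_center'.mp h
    have e1 := congrArg (fun g : GL (Fin n) F => (g : Matrix (Fin n) (Fin n) F) ⟨0, by omega⟩ ⟨0, by omega⟩) hc
    have e2 := congrArg (fun g : GL (Fin n) F => (g : Matrix (Fin n) (Fin n) F) ⟨n - 1, by omega⟩ ⟨n - 1, by omega⟩) hc
    simp [Matrix.GeneralLinearGroup.scalar, dgl_val, dv, show 0 < k by omega, show ¬ n - 1 < k by omega] at e1 e2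
    exact h1 (by simpa using congrArg Units.val (e2.symm.trans e1))
  obtain ⟨W, hW⟩ : ∃ W : GL (Fin n) F, Even n → W ^ 2 = Matrix.GeneralLinearGroup.scalar (Fin n) u := by
    by_cases he : Even n
    · obtain ⟨r, hr⟩ := he
      obtain ⟨x, -, hx⟩ := exists_gl_of_factors (n := Fin n) (fun _ : Fin r => X ^ 2 - C ν)
        (fun _ => monic_X_pow_sub_C _ two_ne_zero) (fun _ => by simp [← hu])
        (by simp [natDegree_X_pow_sub_C, hr]; omega) (s := X ^ 2 - C ν) (fun _ => dvd_rfl)
      refine ⟨x, fun _ => Units.ext ?_⟩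
      rw [map_sub, map_pow, aeval_X, aeval_C, sub_eq_zero, ← map_pow, ← AlgEquiv.commutes (toLinAlgEquiv' (R := F) (n := Fin n))] at hx
      rw [Units.val_pow_eq_pow_val, EquivLike.injective _ hx, ← hu]
      rfl
    · exact ⟨1, fun h => absurd h he⟩
  let rep : Fin (n / 2) ⊕ {_x : Unit // Even n} → GL (Fin n) F := Sum.elim (fun k => dgl F n (k + 1)) fun _ => W
  have hrep : ∀ a, orderOf (rep a : GL (Fin n) F ⧸ Subgroup.center (GL (Fin n) F)) = 2 := by
    rintro (k | ⟨_, he⟩) <;> rw [orderOf_mk_eq_two]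
    · exact ⟨by show dgl F n _ ^ 2 ∈ _; rw [dgl_sq]; exact one_mem _, hdg _ (by omega) k.2⟩
    · refine ⟨mem_center'.mpr ⟨u, (hW he).symm⟩, fun h => ?_⟩
      obtain ⟨c, hc⟩ := mem_center'.mp h
      have := scalar_injective (show 0 < n by omega) ((map_pow _ c 2).trans ((congrArg (· ^ 2) hc).trans (hW he)))
      exact hν ⟨c, by rw [← hu, ← this, Units.val_pow_eq_pow_val, pow_two]⟩
  let Φ : Fin (n / 2) ⊕ {_x : Unit // Even n} → {C : ConjClasses (GL (Fin n) F ⧸ Subgroup.center (GL (Fin n) F)) //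
      ∃ g : GL (Fin n) F ⧸ Subgroup.center (GL (Fin n) F), ConjClasses.mk g = C ∧ orderOf g = 2} :=
    fun a => ⟨ConjClasses.mk (rep a : GL (Fin n) F ⧸ Subgroup.center (GL (Fin n) F)), _, rfl, hrep a⟩
  have hne : ∀ (k : Fin (n / 2)) (he : {_x : Unit // Even n}), Φ (.inl k) ≠ Φ (.inr he) := by
    intro k he h
    obtain ⟨x, c, hc⟩ := exists_scalar_of_mk_eq (congrArg Subtype.val h)
    have h2' := congrArg (· ^ 2) hc
    simp only [rep, Sum.elim_inl, Sum.elim_inr, conj_pow, dgl_sq, mul_one, mul_inv_cancel, scalar_sq, hW he.2, ← map_mul] at h2'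
    have := scalar_injective (show 0 < n by omega) ((map_one (Matrix.GeneralLinearGroup.scalar (Fin n))).trans h2')
    refine hν ⟨(c : F)⁻¹, ?_⟩
    have e := congrArg Units.val this
    simp at e
    rw [← hu]; field_simp; linear_combination -e
  have hinj : Function.Injective Φ := by
    rintro (k | he) (k' | he') h
    · obtain ⟨x, c, hc⟩ := exists_scalar_of_mk_eq (congrArg Subtype.val h)
      have h2' := congrArg (· ^ 2) hc
      simp only [rep, Sum.elim_inl, conj_pow, dgl_sq, mul_one, mul_inv_cancel, scalar_sq] at h2'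
      have hcc := eq_one_or_neg (scalar_injective (show 0 < n by omega) (h2'.symm.trans (map_one _).symm))
      have e := congrArg (fun g : GL (Fin n) F => (g : Matrix (Fin n) (Fin n) F).charpoly.roots.count (-1 : F)) hc
      simp only [rep, Sum.elim_inl, scalar_val] at e
      rw [Units.val_mul, Units.val_mul, Matrix.coe_units_inv, charpoly_units_conj, dgl_val, dgl_val, count_dv h1 (show (k : ℕ) + 1 ≤ n by omega)] at e
      congr 1
      apply Fin.ext
      have hk2 := k.2
      have hk2' := k'.2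
      rcases hcc with rfl | rfl
      · rw [Units.val_one, one_smul, count_dv h1 (show (k' : ℕ) + 1 ≤ n by omega)] at e
        omega
      · rw [count_neg_dv h1 (show (k' : ℕ) + 1 ≤ n by omega)] at e
        omega
    · exact absurd h (hne _ _)
    · exact absurd h.symm (hne _ _)
    · rw [Subsingleton.elim he he']
  have hsurj : Function.Surjective Φ := by
    rintro ⟨C0, g', rfl, hg'⟩
    obtain ⟨g, rfl⟩ := QuotientGroup.mk_surjective g'
    obtain ⟨hgc, hgn⟩ := orderOf_mk_eq_two.mp hg'
    obtain ⟨c, hc⟩ := mem_center'.mp hgc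
    by_cases hsq : IsSquare (c : F)
    · obtain ⟨s, hs⟩ := hsq
      obtain ⟨e, he⟩ : ∃ e : Fˣ, e * e * c = 1 := ⟨(Units.mk0 s (fun h => c.ne_zero (by rw [hs, h, mul_zero])))⁻¹,
        Units.ext (by simp [hs]; field_simp [show s ≠ 0 from fun h => c.ne_zero (by rw [hs, h, mul_zero])])⟩
      obtain ⟨g1, hg1d⟩ : ∃ g1, g1 = Matrix.GeneralLinearGroup.scalar (Fin n) e * g := ⟨_, rfl⟩
      have hg1 : g1 ^ 2 = 1 := by rw [hg1d, scalar_sq, ← hc, ← map_mul, he, map_one]
      have hmk : ConjClasses.mk (g : GL (Fin n) F ⧸ Subgroup.center (GL (Fin n) F)) = ConjClasses.mk (g1 : GL (Fin n) F ⧸ Subgroup.center (GL (Fin n) F)) := by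
        rw [hg1d, QuotientGroup.mk_mul, (QuotientGroup.eq_one_iff _).mpr (mem_center'.mpr ⟨e, rfl⟩), one_mul]
      obtain ⟨k, hroots, hcp⟩ := charpoly_of_invol hq hg1
      obtain ⟨x, hx⟩ := isConj_iff.mp (isConj_of_sq hq (c := 1) (dgl_sq' k) (hg1.trans (map_one _).symm) hcp)
      have hbound : 1 ≤ k ∧ k < n := by
        by_contra hcon
        have hex : ∃ d : Fˣ, dgl F n k = Matrix.GeneralLinearGroup.scalar (Fin n) d := by
          rcases Nat.eq_zero_or_pos k with h0 | h0
          · refine ⟨1, Units.ext ?_⟩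
            rw [dgl_val, map_one, Units.val_one, ← diagonal_one]
            congr 1; funext i; simp [dv, h0]
          · refine ⟨-1, Units.ext ?_⟩
            have e := scalar_val (-1 : Fˣ) (1 : GL (Fin n) F)
            rw [mul_one] at e
            rw [dgl_val, e, Units.val_one, ← diagonal_one, ← diagonal_smul]
            congr 1; funext i; simp [dv, show (i : ℕ) < k by omega]
        obtain ⟨d, hd⟩ := hex
        rw [hd] at hx
        have : g1 ∈ Subgroup.center (GL (Fin n) F) := by
          rw [← hx]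
          exact (inferInstance : (Subgroup.center (GL (Fin n) F)).Normal).conj_mem _ (mem_center'.mpr ⟨d, rfl⟩) x
        apply hgn
        rw [hg1d] at this
        exact ((Subgroup.center (GL (Fin n) F)).mul_mem_cancel_left (mem_center'.mpr ⟨e, rfl⟩)).mp this
      by_cases hhalf : k ≤ n / 2
      · refine ⟨.inl ⟨k - 1, by omega⟩, Subtype.ext ?_⟩
        show ConjClasses.mk _ = ConjClasses.mk (g : GL (Fin n) F ⧸ Subgroup.center (GL (Fin n) F))
        rw [hmk]
        refine mk_eq_of_conj (x := x) (c := 1) ?_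
        simp only [rep, Sum.elim_inl, map_one, one_mul, show k - 1 + 1 = k by omega]
        exact hx
      · refine ⟨.inl ⟨n - k - 1, by omega⟩, Subtype.ext ?_⟩
        show ConjClasses.mk _ = ConjClasses.mk (g : GL (Fin n) F ⧸ Subgroup.center (GL (Fin n) F))
        rw [hmk]
        obtain ⟨σ, hσ⟩ : ∃ σ : GL (Fin n) F, σ * dgl F n (n - k) * σ⁻¹ = Matrix.GeneralLinearGroup.scalar (Fin n) (-1 : Fˣ) * dgl F n k := by
          refine isConj_iff.mp (isConj_of_sq hq (c := 1) (dgl_sq' _) ?_ ?_)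
          · rw [scalar_sq, dgl_sq, mul_one, neg_one_mul, neg_neg]
          · rw [scalar_val, dgl_val, dgl_val, charpoly_neg_dv hroots]
        refine mk_eq_of_conj (x := x * σ) (c := -1) ?_
        simp only [rep, Sum.elim_inl, show n - k - 1 + 1 = n - k by omega]
        rw [_root_.mul_inv_rev, ← hx, show x * σ * dgl F n (n - k) * (σ⁻¹ * x⁻¹) = x * (σ * dgl F n (n - k) * σ⁻¹) * x⁻¹ by group, hσ]
        have hz : Commute (Matrix.GeneralLinearGroup.scalar (Fin n) (-1 : Fˣ)) x :=
          (Subgroup.mem_center_iff.mp (mem_center'.mpr ⟨-1, rfl⟩) x).symm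
        simp only [← mul_assoc, hz.eq]
    · obtain ⟨ev, he1⟩ := hchar g c hsq hc.symm
      refine ⟨.inr ⟨(), ev⟩, Subtype.ext ?_⟩
      obtain ⟨s, hs⟩ : IsSquare (ν * (c : F)) := by
        have hr : ringChar F ≠ 2 := fun h => Nat.not_even_iff_odd.mpr hq (Nat.even_iff.mpr (FiniteField.even_card_of_char_two h))
        rw [← quadraticChar_one_iff_isSquare (mul_ne_zero (fun h => hν (by rw [h]; exact IsSquare.zero)) c.ne_zero), map_mul,
          quadraticChar_neg_one_iff_not_isSquare.mpr hν, quadraticChar_neg_one_iff_not_isSquare.mpr hsq]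
        rfl
      have hs0 : s ≠ 0 := fun h => by
        rw [h, mul_zero] at hs
        exact mul_ne_zero (fun h => hν (by rw [h]; exact IsSquare.zero)) c.ne_zero hs
      obtain ⟨e, he⟩ : ∃ e : Fˣ, e * e * c = u := ⟨Units.mk0 s hs0 * c⁻¹, Units.ext (by
        simp [hu]; field_simp; linear_combination -hs)⟩
      have hg2 : (Matrix.GeneralLinearGroup.scalar (Fin n) e * g) ^ 2 = Matrix.GeneralLinearGroup.scalar (Fin n) u := by
        rw [scalar_sq, ← hc, ← map_mul, he]
      obtain ⟨x, hx⟩ := isConj_iff.mp (isConj_of_sq hq (hW ev) hg2 (by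
        rw [(hchar _ u (hu ▸ hν) (hW ev)).2, (hchar _ u (hu ▸ hν) hg2).2]))
      exact mk_eq_of_conj hx
  rw [← Nat.card_eq_of_bijective Φ ⟨hinj, hsurj⟩, Nat.card_sum, Nat.card_eq_fintype_card, Fintype.card_fin]
  split_ifs with he
  · haveI : Unique {_x : Unit // Even n} := ⟨⟨⟨(), he⟩⟩, fun _ => Subtype.ext rfl⟩
    rw [Nat.card_unique]
  · haveI : IsEmpty {_x : Unit // Even n} := ⟨fun x => he x.2⟩
    rw [Nat.card_of_isEmpty]

end Cfsg.Agent.S2577
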