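import Cfsg.Statements.S2578
import Cfsg.Agent.Lib.LinAux.Jordan
import Cfsg.Agent.Lib.Classical.LinearSimple

set_option autoImplicit false
open Cfsg

namespace Cfsg.Agent.S2578

open Cfsg.Agent.Lib

section
variable {F : Type*} [Field F] {n : ℕ}

private theorem det_one_add_shift [NeZero n] : (1 + LinAux.shift F n).det = 1 := by
  rw [Matrix.det_of_lowerTriangular _ fun i j hij => ?_]
  · refine Finset.prod_eq_one fun i _ => ?_
    simp [LinAux.shift]
  · have h : (i : Fin n) < j := hij
    rw [Fin.lt_def] at h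
    have : ¬ (i : ℕ) = j + 1 := by omega
    have h' : i ≠ j := fun e => by subst e; omega
    simp [LinAux.shift, this, h']

/-- Regular unipotent elements. -/
private def IsReg (u : Matrix.SpecialLinearGroup (Fin n) F) : Prop :=
  ((u : Matrix (Fin n) (Fin n) F) - 1) ^ n = 0 ∧ ((u : Matrix (Fin n) (Fin n) F) - 1).rank = n - 1

/-- `D a`: the matrix `diag(a, 1, ..., 1)`. -/
private def dg [NeZero n] (a : Fˣ) : GL (Fin n) F := Classical.diag1n 0 a

private theorem det_dg [NeZero n] (a : Fˣ) : ((dg a : GL (Fin n) F) : Matrix (Fin n) (Fin n) F).det = a := by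
  show (Matrix.diagonal fun k => if k = (0 : Fin n) then (a : F) else 1).det = a
  rw [Matrix.det_diagonal, Finset.prod_ite_eq' Finset.univ 0 (fun _ => (a : F))]
  simp

private theorem det_conj_dg [NeZero n] (a : Fˣ) :
    (((dg a : GL (Fin n) F) : Matrix (Fin n) (Fin n) F) * (1 + LinAux.shift F n) *
      (((dg a)⁻¹ : GL (Fin n) F) : Matrix (Fin n) (Fin n) F)).det = 1 := by
  rw [Matrix.det_mul, Matrix.det_mul, det_one_add_shift, mul_one, ← Matrix.det_mul, Units.mul_inv, Matrix.det_one]

private noncomputable def rep [NeZero n] (a : Fˣ) : Matrix.SpecialLinearGroup (Fin n) F :=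
  ⟨_, det_conj_dg a⟩

private theorem shift_nil [NeZero n] : LinAux.shift F n ^ n = 0 := by
  have h : ∀ k (i j : Fin n), (i : ℕ) < j + k → (LinAux.shift F n ^ k) i j = 0 := by
    intro k
    induction k with
    | zero =>
      intro i j h
      rw [pow_zero, Matrix.one_apply_ne]
      intro e; subst e; omega
    | succ k ih =>
      intro i j h
      rw [pow_succ']
      rw [LinAux.shift_mul_apply]
      split_ifs with h0
      · rfl
      · exact ih _ _ (by simp only; omega)
  ext i j
  exact h n i j (by omega)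

private theorem rank_shift [NeZero n] : (LinAux.shift F n).rank = n - 1 := by
  classical
  have hk : Module.finrank F (LinearMap.ker (LinAux.shift F n).mulVecLin) = 1 := by
    have : LinearMap.ker (LinAux.shift F n).mulVecLin =
        F ∙ (Pi.single (⟨n - 1, Nat.sub_lt (NeZero.pos n) one_pos⟩ : Fin n) (1 : F)) := by
      ext v
      rw [LinearMap.mem_ker, Submodule.mem_span_singleton, Matrix.mulVecLin_apply]
      constructor
      · intro h
        refine ⟨v ⟨n - 1, Nat.sub_lt (NeZero.pos n) one_pos⟩, funext fun i => ?_⟩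
        by_cases hi : (i : ℕ) + 1 < n
        · have e := congrFun h ⟨i + 1, hi⟩
          rw [Matrix.mulVec, dotProduct, Finset.sum_eq_single i] at e
          · have hne : i ≠ ⟨n - 1, Nat.sub_lt (NeZero.pos n) one_pos⟩ := fun e => by
              have := congrArg (fun x : Fin n => (x : ℕ)) e
              simp only at this
              omega
            simp [LinAux.shift] at e
            simp [hne, e]
          · intro b _ hb
            have : ¬ ((i : ℕ) + 1 = b + 1) := fun e => hb (Fin.ext (by omega))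
            simp [LinAux.shift]
            intro e
            exact absurd e (by omega)
          · simp
        · have hie : i = ⟨n - 1, Nat.sub_lt (NeZero.pos n) one_pos⟩ := Fin.ext (by simp only; omega)
          subst hie
          simp
      · rintro ⟨c, rfl⟩
        rw [Matrix.mulVec_smul]
        funext i
        have : ¬ (i : ℕ) = n - 1 + 1 := by omega
        simp [LinAux.shift, this]
    rw [this, finrank_span_singleton]
    simp
  have := LinearMap.finrank_range_add_finrank_ker (LinAux.shift F n).mulVecLin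
  rw [hk, Module.finrank_fin_fun] at this
  show Module.finrank F (LinearMap.range (LinAux.shift F n).mulVecLin) = n - 1
  omega

private theorem isReg_rep [NeZero n] (a : Fˣ) : IsReg (rep (n := n) a) := by
  have e : (rep (n := n) a : Matrix (Fin n) (Fin n) F) - 1 =
      ((dg a : GL (Fin n) F) : Matrix (Fin n) (Fin n) F) * LinAux.shift F n *
        (((dg a)⁻¹ : GL (Fin n) F) : Matrix (Fin n) (Fin n) F) := by
    show ((dg a : GL (Fin n) F) : Matrix (Fin n) (Fin n) F) * (1 + LinAux.shift F n) * _ - 1 = _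
    rw [mul_add, add_mul, mul_one, Units.mul_inv, add_sub_cancel_left]
  constructor
  · rw [e]
    have hc := (Units.conj_pow (dg a : GL (Fin n) F) (LinAux.shift F n) n)
    rw [hc, shift_nil, mul_zero, zero_mul]
  · rw [e, Matrix.rank_mul_eq_left_of_isUnit_det _ _ ((Matrix.isUnit_iff_isUnit_det _).mp (Units.isUnit _)),
      Matrix.rank_mul_eq_right_of_isUnit_det _ _ ((Matrix.isUnit_iff_isUnit_det _).mp (Units.isUnit _)), rank_shift]

private theorem isConj_rep_of_isReg [NeZero n] {u : Matrix.SpecialLinearGroup (Fin n) F} (hu : IsReg u) :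
    ∃ a : Fˣ, IsConj (rep a) u := by
  obtain ⟨C, hC0, hC⟩ := LinAux.exists_shift_frame _ hu.1 hu.2
  refine ⟨Units.mk0 _ hC0, ?_⟩
  set a := Units.mk0 _ hC0
  have hdet : (C * (((dg a)⁻¹ : GL (Fin n) F) : Matrix (Fin n) (Fin n) F)).det = 1 := by
    rw [Matrix.det_mul]
    have := congrArg Matrix.det (Units.mul_inv (dg (n := n) a))
    rw [Matrix.det_mul, det_dg, Matrix.det_one] at this
    exact this
  refine isConj_iff.mpr ⟨(⟨_, hdet⟩ : Matrix.SpecialLinearGroup (Fin n) F), mul_inv_eq_iff_eq_mul.mpr (Subtype.ext ?_)⟩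
  show C * (((dg a)⁻¹ : GL (Fin n) F) : Matrix (Fin n) (Fin n) F) *
      (((dg a : GL (Fin n) F) : Matrix (Fin n) (Fin n) F) * (1 + LinAux.shift F n) *
        (((dg a)⁻¹ : GL (Fin n) F) : Matrix (Fin n) (Fin n) F)) =
    (u : Matrix (Fin n) (Fin n) F) * (C * (((dg a)⁻¹ : GL (Fin n) F) : Matrix (Fin n) (Fin n) F))
  rw [← mul_assoc, ← mul_assoc, mul_assoc C, Units.inv_mul, mul_one, ← mul_assoc (u : Matrix (Fin n) (Fin n) F)]
  congr 1
  rw [mul_add, mul_one, ← hC, sub_mul, one_mul, add_sub_cancel]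

private theorem rep_conj_iff [NeZero n] (a b : Fˣ) :
    IsConj (rep (n := n) a) (rep b) ↔ ∃ c : Fˣ, a * c ^ n = b := by
  constructor
  · intro h
    obtain ⟨s, hs⟩ := isConj_iff.mp h.symm
    rw [mul_inv_eq_iff_eq_mul] at hs
    let s' : GL (Fin n) F := Matrix.SpecialLinearGroup.toGL s
    have hsJ : (s' : Matrix (Fin n) (Fin n) F) * (((dg b : GL (Fin n) F) : Matrix (Fin n) (Fin n) F) * (1 + LinAux.shift F n) *
        (((dg b)⁻¹ : GL (Fin n) F) : Matrix (Fin n) (Fin n) F)) =
      (((dg a : GL (Fin n) F) : Matrix (Fin n) (Fin n) F) * (1 + LinAux.shift F n) *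
        (((dg a)⁻¹ : GL (Fin n) F) : Matrix (Fin n) (Fin n) F)) * (s' : Matrix (Fin n) (Fin n) F) :=
      congrArg (fun x : Matrix.SpecialLinearGroup (Fin n) F => (x : Matrix (Fin n) (Fin n) F)) hs
    set k : GL (Fin n) F := (dg a)⁻¹ * s' * dg b with hk
    have hcomm : LinAux.shift F n * (k : Matrix (Fin n) (Fin n) F) = (k : Matrix (Fin n) (Fin n) F) * LinAux.shift F n := by
      have e := congrArg (fun x : Matrix (Fin n) (Fin n) F =>
        (((dg a)⁻¹ : GL (Fin n) F) : Matrix (Fin n) (Fin n) F) * x * ((dg b : GL (Fin n) F) : Matrix (Fin n) (Fin n) F)) hsJ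
      simp only [mul_assoc, Units.inv_mul, mul_one, Units.inv_mul_cancel_left] at e
      rw [add_mul, one_mul, mul_add, mul_one, mul_add, mul_add] at e
      simp only [hk, Units.val_mul, mul_assoc]
      exact (add_left_cancel e).symm
    have hA := LinAux.eq_toep_of_comm hcomm
    have hd := congrArg Matrix.det hA
    rw [LinAux.det_toep] at hd
    have hval : (k : Matrix (Fin n) (Fin n) F).det = ((a⁻¹ * b : Fˣ) : F) := by
      have hinv := congrArg Matrix.det (Units.mul_inv (dg (n := n) a))
      rw [Matrix.det_mul, det_dg, Matrix.det_one] at hinv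
      simp only [hk, Units.val_mul, Matrix.det_mul, det_dg]
      rw [show (s' : Matrix (Fin n) (Fin n) F).det = 1 from s.2, eq_inv_of_mul_eq_one_right hinv]
      simp
    rw [hval] at hd
    have hne : (k : Matrix (Fin n) (Fin n) F) 0 0 ≠ 0 := by
      intro h0
      rw [h0, zero_pow (NeZero.ne n)] at hd
      exact (a⁻¹ * b).ne_zero hd
    refine ⟨Units.mk0 _ hne, ?_⟩
    have : a⁻¹ * b = (Units.mk0 _ hne) ^ n := Units.ext (by rw [hd]; simp)
    rw [← this, mul_inv_cancel_left]
  · rintro ⟨c, rfl⟩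
    have hdet : (((dg (a * c ^ n) : GL (Fin n) F) : Matrix (Fin n) (Fin n) F) * ((c⁻¹ : Fˣ) : F) • (1 : Matrix (Fin n) (Fin n) F) *
        (((dg a)⁻¹ : GL (Fin n) F) : Matrix (Fin n) (Fin n) F)).det = 1 := by
      have hinv := congrArg Matrix.det (Units.mul_inv (dg (n := n) a))
      rw [Matrix.det_mul, det_dg, Matrix.det_one] at hinv
      rw [Matrix.det_mul, Matrix.det_mul, det_dg, Matrix.det_smul, Matrix.det_one, Fintype.card_fin,
        eq_inv_of_mul_eq_one_right hinv]
      simp only [mul_one, Units.val_mul, Units.val_pow_eq_pow_val, Units.val_inv_eq_inv_val]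
      rw [inv_pow]
      field_simp
    refine isConj_iff.mpr ⟨(⟨_, hdet⟩ : Matrix.SpecialLinearGroup (Fin n) F), mul_inv_eq_iff_eq_mul.mpr (Subtype.ext ?_)⟩
    show ((dg (a * c ^ n) : GL (Fin n) F) : Matrix (Fin n) (Fin n) F) * ((c⁻¹ : Fˣ) : F) • (1 : Matrix (Fin n) (Fin n) F) *
        (((dg a)⁻¹ : GL (Fin n) F) : Matrix (Fin n) (Fin n) F) *
        (((dg a : GL (Fin n) F) : Matrix (Fin n) (Fin n) F) * (1 + LinAux.shift F n) *
          (((dg a)⁻¹ : GL (Fin n) F) : Matrix (Fin n) (Fin n) F)) =
      ((dg (a * c ^ n) : GL (Fin n) F) : Matrix (Fin n) (Fin n) F) * (1 + LinAux.shift F n) *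
          (((dg (a * c ^ n))⁻¹ : GL (Fin n) F) : Matrix (Fin n) (Fin n) F) *
        (((dg (a * c ^ n) : GL (Fin n) F) : Matrix (Fin n) (Fin n) F) * ((c⁻¹ : Fˣ) : F) • (1 : Matrix (Fin n) (Fin n) F) *
          (((dg a)⁻¹ : GL (Fin n) F) : Matrix (Fin n) (Fin n) F))
    simp only [Matrix.mul_smul, Matrix.smul_mul, mul_one, mul_assoc, Units.inv_mul_cancel_left]

end


/-- Regular unipotent classes of SL_n(q): for n ≥ 2 over the field with q elements, the matrices u of determinant one with (u − 1)^n = 0 and rank(u − 1) = n − 1 form a single GL_n(q)-class which splits into exactly gcd(n, q − 1) conjugacy classes of SL_n(q). -/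
theorem result {F : Type*} [Field F] [Fintype F] {q : ℕ} (hF : Fintype.card F = q) {n : ℕ} (hn : 2 ≤ n) : Nat.card {C : ConjClasses (Matrix.SpecialLinearGroup (Fin n) F) // ∃ u : Matrix.SpecialLinearGroup (Fin n) F, ConjClasses.mk u = C ∧ ((u : Matrix (Fin n) (Fin n) F) - 1) ^ n = 0 ∧ ((u : Matrix (Fin n) (Fin n) F) - 1).rank = n - 1} = Nat.gcd n (q - 1) := by
  classical
  have : NeZero n := ⟨by omega⟩
  let R := (powMonoidHom n : Fˣ →* Fˣ).range
  let ψ : Fˣ ⧸ R → {C : ConjClasses (Matrix.SpecialLinearGroup (Fin n) F) // ∃ u, ConjClasses.mk u = C ∧ IsReg u} :=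
    Quotient.lift (fun a => ⟨ConjClasses.mk (rep a), rep a, rfl, isReg_rep a⟩) fun a b h => by
      obtain ⟨c, hc⟩ := QuotientGroup.leftRel_apply.mp h
      refine Subtype.ext (ConjClasses.mk_eq_mk_iff_isConj.mpr ((rep_conj_iff a b).mpr ⟨c, ?_⟩))
      rw [← powMonoidHom_apply n c, hc, mul_inv_cancel_left]
  have hψ : Function.Bijective ψ := by
    constructor
    · intro x y
      induction x using Quotient.inductionOn with
      | _ a =>
        induction y using Quotient.inductionOn with
        | _ b =>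
          intro h
          obtain ⟨c, hc⟩ := (rep_conj_iff a b).mp (ConjClasses.mk_eq_mk_iff_isConj.mp (congrArg Subtype.val h))
          exact Quotient.sound (QuotientGroup.leftRel_apply.mpr ⟨c, by rw [powMonoidHom_apply, ← hc, inv_mul_cancel_left]⟩)
    · rintro ⟨C, u, rfl, hu⟩
      obtain ⟨a, ha⟩ := isConj_rep_of_isReg hu
      exact ⟨QuotientGroup.mk a, Subtype.ext (ConjClasses.mk_eq_mk_iff_isConj.mpr ha)⟩
  have hR := IsCyclic.card_powMonoidHom_range (G := Fˣ) n
  have hmul := Subgroup.card_eq_card_quotient_mul_card_subgroup R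
  have hq : Nat.card Fˣ = q - 1 := by rw [Nat.card_units, Nat.card_eq_fintype_card, hF]
  rw [Nat.card_eq_of_bijective ψ hψ] at hmul
  rw [hR, hq] at hmul
  have hpos : 0 < q - 1 := by have := Fintype.one_lt_card (α := F); omega
  have hg := Nat.gcd_dvd_left (q - 1) n
  obtain ⟨t, ht⟩ := hg
  have hgpos : 0 < (q - 1).gcd n := Nat.gcd_pos_of_pos_left _ hpos
  have hdiv : (q - 1) / (q - 1).gcd n = t := by
    conv_lhs => arg 1; rw [ht]
    exact Nat.mul_div_cancel_left _ hgpos
  rw [hdiv] at hmul
  rw [Nat.gcd_comm n]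
  have ht0 : 0 < t := Nat.pos_of_ne_zero fun h => by simp [h] at ht; omega
  refine Nat.eq_of_mul_eq_mul_right ht0 ?_
  rw [← ht, hmul]
  rfl

end Cfsg.Agent.S2578
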