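import Cfsg.Statements.S2579
import Cfsg.Agent.Lib.LinAux.Basic

set_option autoImplicit false
open Cfsg

namespace Cfsg.Agent.S2579

private def std (F : Type*) [Field F] (r : ℕ) : Matrix (Fin (r + 3)) (Fin (r + 3)) F := 1 + Matrix.single 1 0 1

private theorem exists_frame {F : Type*} [Field F] {r : ℕ} (t : Matrix (Fin (r + 3)) (Fin (r + 3)) F)
    (ht : Cfsg.IsTransvection t) :
    ∃ C : Matrix.SpecialLinearGroup (Fin (r + 3)) F,
      t * (C : Matrix (Fin (r + 3)) (Fin (r + 3)) F) = (C : Matrix (Fin (r + 3)) (Fin (r + 3)) F) * std F r := by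
  obtain ⟨hrank, hsq⟩ := ht
  set N := t - 1 with hN
  have hrk : Module.finrank F (LinearMap.range N.mulVecLin) = 1 := hrank
  have hker : Module.finrank F (LinearMap.ker N.mulVecLin) = r + 2 := by
    have := LinearMap.finrank_range_add_finrank_ker N.mulVecLin
    rw [hrk, Module.finrank_fin_fun] at this
    omega
  obtain ⟨v, hv⟩ : ∃ v, N.mulVec v ≠ 0 := by
    by_contra! h
    have h0 : N.mulVecLin = 0 := LinearMap.ext fun v => h v
    rw [h0, LinearMap.range_zero, finrank_bot] at hrk
    exact zero_ne_one hrk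
  have hmem : N.mulVec v ∈ LinearMap.ker N.mulVecLin := by
    simp [Matrix.mulVec_mulVec, hsq]
  let a : LinearMap.ker N.mulVecLin := ⟨_, hmem⟩
  obtain ⟨hk, b, hb⟩ := Lib.LinAux.exists_basis_extending hker (fun _ : Fin 1 => a)
    ((linearIndependent_unique_iff).mpr fun h => hv (congrArg Subtype.val h))
  have hb0 : b 0 = a := by
    rw [← hb 0]; rfl
  let c : Fin (r + 3) → (Fin (r + 3) → F) := Fin.cons v fun i => (b i : Fin (r + 3) → F)
  have hc : LinearIndependent F c := by
    refine linearIndependent_fin_cons.mpr ⟨b.linearIndependent.map' (Submodule.subtype _) (Submodule.ker_subtype _), fun h => hv ?_⟩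
    refine (show Submodule.span F _ ≤ LinearMap.ker N.mulVecLin from ?_) h
    rw [Submodule.span_le]
    rintro _ ⟨i, rfl⟩
    exact (b i).2
  let d := Function.update c 2 ((1 / (Lib.LinAux.colMatrix c).det) • c 2)
  have hd0 : d 0 = v := by
    simp only [d]
    rw [Function.update_of_ne (by rw [ne_eq, Fin.ext_iff]; simp only [Fin.val_zero, Fin.val_one, Fin.val_two]; omega)]
    rfl
  have hd1 : d 1 = N.mulVec v := by
    simp only [d]
    rw [Function.update_of_ne (by rw [ne_eq, Fin.ext_iff]; simp only [Fin.val_zero, Fin.val_one, Fin.val_two]; omega)]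
    show (Fin.cons v (fun i => (b i : Fin (r + 3) → F)) : Fin (r + 3) → Fin (r + 3) → F) (Fin.succ 0) = _
    rw [Fin.cons_succ, hb0]
  have hdk : ∀ j, j ≠ 0 → N.mulVec (d j) = 0 := by
    intro j hj
    obtain ⟨i, rfl⟩ := Fin.exists_succ_eq.mpr hj
    have hci : N.mulVec (c i.succ) = 0 := LinearMap.mem_ker.mp (b i).2
    rcases eq_or_ne i.succ 2 with h | h
    · simp only [d]
      rw [h, Function.update_self, Matrix.mulVec_smul, ← h, hci, smul_zero]
    · simp only [d]
      rw [Function.update_of_ne h, hci]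
  refine ⟨⟨Lib.LinAux.colMatrix d, Lib.LinAux.det_colMatrix_update hc 2 1⟩, ?_⟩
  show t * Lib.LinAux.colMatrix d = Lib.LinAux.colMatrix d * _
  have key : N * Lib.LinAux.colMatrix d = Lib.LinAux.colMatrix d * Matrix.single 1 0 1 := by
    refine Matrix.ext fun i j => ?_
    show N.mulVec (d j) i = _
    rcases eq_or_ne j 0 with rfl | hj
    · rw [Matrix.mul_single_apply_same, mul_one, hd0, ← hd1]
      rfl
    · rw [Matrix.mul_single_apply_of_ne _ _ _ _ _ hj, hdk j hj]
      rfl
  rw [std, Matrix.mul_add, mul_one, ← key, hN, sub_mul, one_mul, add_sub_cancel]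


/-- In SL_n(F) with n ≥ 3, over a finite field F, any two transvections (matrices t with t − 1 of rank one and square zero) are conjugate by an element of SL_n(F). -/
theorem result {F : Type*} [Field F] [Finite F] {n : ℕ} (hn : 3 ≤ n) (s t : Matrix.SpecialLinearGroup (Fin n) F) (hs : Cfsg.IsTransvection (s : Matrix (Fin n) (Fin n) F)) (ht : Cfsg.IsTransvection (t : Matrix (Fin n) (Fin n) F)) : IsConj s t := by
  obtain ⟨r, rfl⟩ : ∃ r, n = r + 3 := ⟨n - 3, by omega⟩
  obtain ⟨C, hC⟩ := exists_frame _ hs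
  obtain ⟨D, hD⟩ := exists_frame _ ht
  refine isConj_iff.mpr ⟨D * C⁻¹, ?_⟩
  rw [mul_inv_eq_iff_eq_mul]
  suffices h : C⁻¹ * s * C = D⁻¹ * t * D by
    calc D * C⁻¹ * s = D * (C⁻¹ * s * C) * C⁻¹ := by group
      _ = _ := by rw [h]; group
  have e : ∀ (E u : Matrix.SpecialLinearGroup (Fin (r + 3)) F),
      (u : Matrix (Fin (r + 3)) (Fin (r + 3)) F) * (E : Matrix (Fin (r + 3)) (Fin (r + 3)) F) = (E : Matrix (Fin (r + 3)) (Fin (r + 3)) F) * std F r →
      ((E⁻¹ * u * E : Matrix.SpecialLinearGroup (Fin (r + 3)) F) : Matrix (Fin (r + 3)) (Fin (r + 3)) F) = std F r := by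
    intro E u h
    rw [mul_assoc, Matrix.SpecialLinearGroup.coe_mul, Matrix.SpecialLinearGroup.coe_mul, h, ← mul_assoc,
      ← Matrix.SpecialLinearGroup.coe_mul, inv_mul_cancel, Matrix.SpecialLinearGroup.coe_one, one_mul]
  exact Subtype.ext ((e C s hC).trans (e D t hD).symm)

end Cfsg.Agent.S2579
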