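import Cfsg.Statements.S2582
import Cfsg.Agent.Lib.Similar.JordanTransport

set_option autoImplicit false
open Cfsg

namespace Cfsg.Agent.S2582

/-- Which unipotent Jordan types occur in the finite symplectic group: over a finite field, a unipotent matrix with Jordan block sizes d_1, …, d_t (sum 2m, all at least 1) is similar to an element of Sp_2m(F) if and only if every odd block size occurs an even number of times. -/
theorem result {F : Type*} [Field F] [Fintype F] {m t : ℕ} (d : Fin t → ℕ) (hd : ∀ k, 1 ≤ d k) (hsum : ∑ k, d k = 2 * m) : (∃ e : ((k : Fin t) × Fin (d k)) ≃ (Fin m ⊕ Fin m), ∃ A : Matrix.symplecticGroup (Fin m) F, IsConj (Matrix.reindex e e (Cfsg.jordanTypeMatrix d F)) (A : Matrix (Fin m ⊕ Fin m) (Fin m ⊕ Fin m) F)) ↔ ∀ j : ℕ, Odd j → Even (Finset.univ.filter (fun k : Fin t => d k = j)).card := by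
  constructor
  · rintro ⟨e, A, hA⟩ j hj
    obtain ⟨b, hb⟩ := (Lib.Similar.JordanChains.isConj_iff_chainBasis d _).1 ⟨e, hA⟩
    refine Lib.Similar.JordanForms.even_count_of_isom (B := Lib.Geometry.sympBilin m F)
      (Lib.Geometry.sympBilin_nondegenerate F m) (fun x y => ?_) hb j hj.pos (Or.inl ⟨fun x => ?_, hj⟩)
    · rw [Lib.Geometry.sympBilin_apply, Lib.Geometry.sympBilin_apply, Matrix.toLin'_apply,
        Matrix.toLin'_apply]
      exact Lib.Geometry.mem_symplecticGroup_iff_form.1 A.2 x y
    · rw [Lib.Geometry.sympBilin_apply, Lib.Geometry.sympForm_self]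
  · intro h
    have hm : Lib.Similar.JordanForms.AltModel F d Finset.univ :=
      Lib.Similar.JordanForms.glue (Lib.Similar.JordanForms.AltModel F d) (fun j => Even j) d
        (Lib.Similar.JordanForms.AltModel.empty d) (fun S S' hd a b => a.union hd b)
        (fun k hk => by
          refine .single k ?_
          obtain ⟨c, hc⟩ := hk
          rw [show d k = 2 * c by omega]
          exact Lib.Similar.JordanForms.altBlock_even (by have := hd k; omega))
        (fun k k' hne hdd => .pair hne hdd (hd k)) Finset.univ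
        (fun j hj => h j (Nat.not_even_iff_odd.1 hj))
    obtain ⟨A, b, hb⟩ := Lib.Similar.JordanForms.exists_symp_model hm hsum
    obtain ⟨e, he⟩ := (Lib.Similar.JordanChains.isConj_iff_chainBasis d _).2 ⟨b, hb⟩
    exact ⟨e, A, he⟩

end Cfsg.Agent.S2582
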