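import Cfsg.Statements.S2583
import Cfsg.Agent.Lib.Similar.JordanTransport

set_option autoImplicit false
open Cfsg

namespace Cfsg.Agent.S2583

/-- Which unipotent Jordan types occur in a finite orthogonal group in odd characteristic: over a finite field of odd order, a unipotent matrix with Jordan block sizes d_1, …, d_t (sum n, all at least 1) is similar to an isometry of some quadratic form on F^n with non-degenerate polar form if and only if every even block size occurs an even number of times. -/
theorem result {F : Type*} [Field F] [Fintype F] (h2 : (2 : F) ≠ 0) {n t : ℕ} (d : Fin t → ℕ) (hd : ∀ k, 1 ≤ d k) (hsum : ∑ k, d k = n) : (∃ Q : QuadraticForm F (Fin n → F), (QuadraticMap.polarBilin Q).Nondegenerate ∧ ∃ e : ((k : Fin t) × Fin (d k)) ≃ Fin n, ∃ A : ↥(Cfsg.isometryGroup F ⇑Q), IsConj (Matrix.reindex e e (Cfsg.jordanTypeMatrix d F)) ((A : Matrix.GeneralLinearGroup (Fin n) F) : Matrix (Fin n) (Fin n) F)) ↔ ∀ j : ℕ, Even j → 0 < j → Even (Finset.univ.filter (fun k : Fin t => d k = j)).card := by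
  constructor
  · rintro ⟨Q, hQ, e, A, hA⟩ j hj hj0
    obtain ⟨b, hb⟩ := (Lib.Similar.JordanChains.isConj_iff_chainBasis d _).1 ⟨e, hA⟩
    exact Lib.Similar.JordanForms.even_count_of_isom hQ (Lib.Similar.JordanForms.isom_polar A) hb j hj0
      (Or.inr ⟨fun x y => by simp [QuadraticMap.polar_comm], hj, h2⟩)
  · intro h
    have hm : Lib.Similar.JordanForms.QuadModel F d Finset.univ :=
      Lib.Similar.JordanForms.glue (Lib.Similar.JordanForms.QuadModel F d) (fun j => Odd j) d
        (Lib.Similar.JordanForms.QuadModel.empty d) (fun S S' hd a b => a.union hd b)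
        (fun k hk => by
          refine .single k ?_
          obtain ⟨c, hc⟩ := hk
          rw [hc]
          exact Lib.Similar.JordanForms.quadBlock_odd h2 c)
        (fun k k' hne hdd => .pair hne hdd (hd k)) Finset.univ
        (fun j hj => by
          rcases Nat.eq_zero_or_pos j with rfl | hj0
          · rw [Finset.filter_eq_empty_iff.2 fun k _ e => by have := hd k; omega]
            simp
          · exact h j (Nat.not_odd_iff_even.1 hj) hj0)
    obtain ⟨Q, hQ, A, b, hb⟩ := Lib.Similar.JordanForms.exists_orth_model hm hsum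
    obtain ⟨e, he⟩ := (Lib.Similar.JordanChains.isConj_iff_chainBasis d _).2 ⟨b, hb⟩
    exact ⟨Q, hQ, e, A, he⟩

end Cfsg.Agent.S2583
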