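import Cfsg.Statements.S2584
import Cfsg.Agent.Lib.Similar.JordanTransport

set_option autoImplicit false
open Cfsg

namespace Cfsg.Agent.S2584

/-- Which unipotent Jordan types occur in a finite orthogonal group in characteristic two: over a finite field of characteristic 2 and in even dimension 2m, a unipotent matrix with Jordan block sizes d_1, …, d_t (sum 2m, all at least 1) is similar to an isometry of some quadratic form on F^(2m) with non-degenerate polar form if and only if every odd block size occurs an even number of times (the same condition as for the symplectic group, which contains these orthogonal groups). -/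
theorem result {F : Type*} [Field F] [Fintype F] [CharP F 2] {m t : ℕ} (d : Fin t → ℕ) (hd : ∀ k, 1 ≤ d k) (hsum : ∑ k, d k = 2 * m) : (∃ Q : QuadraticForm F (Fin (2 * m) → F), (QuadraticMap.polarBilin Q).Nondegenerate ∧ ∃ e : ((k : Fin t) × Fin (d k)) ≃ Fin (2 * m), ∃ A : ↥(Cfsg.isometryGroup F ⇑Q), IsConj (Matrix.reindex e e (Cfsg.jordanTypeMatrix d F)) ((A : Matrix.GeneralLinearGroup (Fin (2 * m)) F) : Matrix (Fin (2 * m)) (Fin (2 * m)) F)) ↔ ∀ j : ℕ, Odd j → Even (Finset.univ.filter (fun k : Fin t => d k = j)).card := by
  constructor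
  · rintro ⟨Q, hQ, e, A, hA⟩ j hj
    obtain ⟨b, hb⟩ := (Lib.Similar.JordanChains.isConj_iff_chainBasis d _).1 ⟨e, hA⟩
    refine Lib.Similar.JordanForms.even_count_of_isom hQ (Lib.Similar.JordanForms.isom_polar A) hb j hj.pos
      (Or.inl ⟨fun x => ?_, hj⟩)
    rw [QuadraticMap.polarBilin_apply_apply, QuadraticMap.polar_self, two_smul, CharTwo.add_self_eq_zero]
  · intro h
    have hm : Lib.Similar.JordanForms.QuadModel F d Finset.univ :=
      Lib.Similar.JordanForms.glue (Lib.Similar.JordanForms.QuadModel F d) (fun j => Even j) d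
        (Lib.Similar.JordanForms.QuadModel.empty d) (fun S S' hd a b => a.union hd b)
        (fun k hk => by
          refine .single k ?_
          obtain ⟨c, hc⟩ := hk
          rw [show d k = 2 * c by omega]
          exact Lib.Similar.JordanForms.quadBlock_even (by have := hd k; omega))
        (fun k k' hne hdd => .pair hne hdd (hd k)) Finset.univ
        (fun j hj => h j (Nat.not_even_iff_odd.1 hj))
    obtain ⟨Q, hQ, A, b, hb⟩ := Lib.Similar.JordanForms.exists_orth_model hm hsum
    obtain ⟨e, he⟩ := (Lib.Similar.JordanChains.isConj_iff_chainBasis d _).2 ⟨b, hb⟩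
    exact ⟨Q, hQ, e, A, he⟩

end Cfsg.Agent.S2584
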