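import Cfsg.Statements.S2585

set_option autoImplicit false
open Cfsg

namespace Cfsg.Agent.S2585

/-- Over a finite field of characteristic two every element of the symplectic group is orthogonal for a suitable quadratic form: for each A in Sp_2m(F) there is a quadratic form Q on F^(2m) whose polar form is the alternating form defining Sp_2m(F) (so Q is non-degenerate) and which A preserves. Equivalently, for m ≥ 1, Sp_2m(F) is the union of the conjugates of its two orthogonal subgroups O⁺_2m(F) and O⁻_2m(F). -/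
theorem result {F : Type*} [Field F] [Fintype F] [CharP F 2] {m : ℕ} (A : Matrix.symplecticGroup (Fin m) F) : ∃ Q : QuadraticForm F (Fin m ⊕ Fin m → F), (∀ u v : Fin m ⊕ Fin m → F, QuadraticMap.polar ⇑Q u v = Cfsg.sympForm m F u v) ∧ ∀ v : Fin m ⊕ Fin m → F, Q ((A : Matrix (Fin m ⊕ Fin m) (Fin m ⊕ Fin m) F).mulVec v) = Q v := by
  classical
  let Q₀ : QuadraticForm F (Fin m ⊕ Fin m → F) := ∑ i : Fin m, QuadraticMap.linMulLin (LinearMap.proj (Sum.inl i)) (LinearMap.proj (Sum.inr i))
  have h2 : (2 : F) = 0 := CharP.cast_eq_zero F 2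
  have hneg : ∀ x : F, -x = x := CharTwo.neg_eq
  have hQ₀ : ∀ v, Q₀ v = ∑ i : Fin m, v (Sum.inl i) * v (Sum.inr i) := fun v => by
    simp [Q₀]
  have hpol : ∀ u v, QuadraticMap.polar Q₀ u v = sympForm m F u v := fun u v => by
    simp only [QuadraticMap.polar, hQ₀, sympForm, Matrix.J, Matrix.fromBlocks_mulVec, dotProduct,
      Fintype.sum_sum_type, Pi.add_apply]
    simp only [Sum.elim_inl, Sum.elim_inr, Matrix.zero_mulVec, Matrix.neg_mulVec, Matrix.one_mulVec, Pi.add_apply,
      Pi.neg_apply, Pi.zero_apply, Function.comp_apply, add_mul, mul_add, Finset.sum_add_distrib, mul_zero, zero_add,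
      add_zero, hneg]
    rw [Finset.sum_congr rfl fun (i : Fin m) _ => mul_comm (v (Sum.inl i)) (u (Sum.inr i))]
    ring
  let M : Matrix (Fin m ⊕ Fin m) (Fin m ⊕ Fin m) F := A
  have hM : ∀ u v, sympForm m F (M.mulVec u) (M.mulVec v) = sympForm m F u v := fun u v => by
    have h : Matrix.transpose M * Matrix.J (Fin m) F * M = Matrix.J (Fin m) F := by
      have := (SymplecticGroup.mem_iff).mp (SymplecticGroup.transpose_mem A.2)
      rwa [Matrix.transpose_transpose] at this
    show M.mulVec u ⬝ᵥ _ = _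
    rw [Matrix.mulVec_mulVec, dotProduct_comm (M.mulVec u), Matrix.dotProduct_mulVec, ← Matrix.mulVec_transpose,
      Matrix.mulVec_mulVec, ← mul_assoc, h, dotProduct_comm]
    rfl
  let ℓ : (Fin m ⊕ Fin m → F) → F := fun v => Q₀ (M.mulVec v) + Q₀ v
  have hℓadd : ∀ u v, ℓ (u + v) = ℓ u + ℓ v := fun u v => by
    have a := hpol (M.mulVec u) (M.mulVec v)
    have b := hpol u v
    rw [hM, ← b] at a
    simp only [QuadraticMap.polar, ← Matrix.mulVec_add] at a
    have c : Q₀ (u + v) + Q₀ (u + v) = 0 := CharTwo.add_self_eq_zero _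
    simp only [ℓ]
    linear_combination a + c - (Q₀ u + Q₀ v) * h2
  let φ : F ≃+* F := RingEquiv.ofBijective (frobenius F 2)
    ⟨(frobenius F 2).injective, Finite.surjective_of_injective (frobenius F 2).injective⟩
  have hφ : ∀ x, φ x = x ^ 2 := fun x => rfl
  let l : (Fin m ⊕ Fin m → F) →ₗ[F] F :=
    { toFun := fun v => φ.symm (ℓ v)
      map_add' := fun u v => by rw [hℓadd, map_add]
      map_smul' := fun c v => by
        apply φ.injective
        rw [RingEquiv.apply_symm_apply, RingHom.id_apply, smul_eq_mul, map_mul, RingEquiv.apply_symm_apply, hφ]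
        simp only [ℓ, Matrix.mulVec_smul, QuadraticMap.map_smul, smul_eq_mul]
        ring }
  let D : (Fin m ⊕ Fin m → F) →ₗ[F] (Fin m ⊕ Fin m → F) := M.mulVecLin + LinearMap.id
  obtain ⟨μ, hμ⟩ : l ∈ LinearMap.range D.dualMap := by
    rw [LinearMap.range_dualMap_eq_dualAnnihilator_ker, Submodule.mem_dualAnnihilator]
    intro v hv
    have hv' : M.mulVec v = v := funext fun i => CharTwo.add_eq_zero.mp (congrFun (LinearMap.mem_ker.mp hv) i)
    show φ.symm (ℓ v) = 0
    simp [ℓ, hv', CharTwo.add_self_eq_zero]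
  refine ⟨Q₀ + QuadraticMap.linMulLin μ μ, fun u v => ?_, fun v => ?_⟩
  · rw [← hpol]
    simp only [QuadraticMap.polar, QuadraticMap.add_apply, QuadraticMap.linMulLin_apply, map_add]
    linear_combination μ u * μ v * h2
  · have e : φ.symm (ℓ v) = μ (M.mulVec v) + μ v := by
      have := LinearMap.congr_fun hμ v
      simp only [LinearMap.dualMap_apply, D, LinearMap.add_apply, Matrix.mulVecLin_apply, LinearMap.id_apply, map_add] at this
      exact this.symm
    have e2 : (μ (M.mulVec v) + μ v) ^ 2 = ℓ v := by rw [← hφ, ← e, RingEquiv.apply_symm_apply]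
    simp only [QuadraticMap.add_apply, QuadraticMap.linMulLin_apply, ℓ] at e2 ⊢
    linear_combination e2 + (Q₀ (M.mulVec v) - μ v * μ (M.mulVec v) - μ v * μ v) * h2

end Cfsg.Agent.S2585
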