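import Cfsg.Statements.S2588
import Mathlib
import Cfsg.Agent.Lib.Similar.UnitaryExists

set_option autoImplicit false
open Cfsg

namespace Cfsg.Agent.S2588

/-- An invertible matrix A over the field with q² elements is conjugate in GL_n(q²) to an element of the general unitary group GU_n(q) (isometries of the Hermitian form Σ u_i v_i^q) if and only if A is similar to the inverse transpose of its entrywise q-th power (A ~ A^(−qT), the image of A under the map sending a matrix to the inverse transpose of its entrywise q-th power — inverse transpose composed with the field automorphism — whose fixed points form GU_n(q)). -/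
theorem result {K : Type*} [Field K] [Fintype K] {q n : ℕ} (hK : Fintype.card K = q ^ 2) (A : GL (Fin n) K) : (∃ B : ↥(Cfsg.GU n K q), IsConj A (B : GL (Fin n) K)) ↔ IsConj (A : Matrix (Fin n) (Fin n) K) (((A : Matrix (Fin n) (Fin n) K).map (fun x : K => x ^ q)).transpose)⁻¹ := by
  obtain ⟨σ, hσd⟩ : ∃ σ, σ = Cfsg.Agent.Lib.Classical.conjHom hK := ⟨_, rfl⟩
  have hmap : ∀ M : Matrix (Fin n) (Fin n) K, (M.map (fun x : K => x ^ q)).transpose = Cfsg.Agent.Lib.SuSpec.adj σ M := by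
    intro M
    ext i j
    simp [Cfsg.Agent.Lib.SuSpec.adj, hσd, Cfsg.Agent.Lib.Classical.conjHom_apply]
  rw [hmap]
  obtain ⟨a, had⟩ : ∃ a, a = (A : Matrix (Fin n) (Fin n) K) := ⟨_, rfl⟩
  rw [← had]
  have hdet : IsUnit (Cfsg.Agent.Lib.SuSpec.adj σ a).det := by
    rw [Cfsg.Agent.Lib.SuSpec.det_adj, had]
    exact (Matrix.GeneralLinearGroup.det A).isUnit.map σ
  constructor
  · rintro ⟨B, hAB⟩
    obtain ⟨g, hg⟩ := isConj_iff.1 hAB
    obtain ⟨b, hbd⟩ : ∃ b, b = ((B : GL (Fin n) K) : Matrix (Fin n) (Fin n) K) := ⟨_, rfl⟩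
    obtain ⟨G, hGd⟩ : ∃ G, G = (g : Matrix (Fin n) (Fin n) K) := ⟨_, rfl⟩
    have hB : Cfsg.Agent.Lib.SuSpec.adj σ b * b = 1 := by
      rw [hσd, hbd]; exact (Cfsg.Agent.Lib.Similar.mem_GU_adj hK _).1 B.2
    have hGa : G * a = b * G := by
      rw [hGd, had, hbd, ← Units.val_mul, ← Units.val_mul, ← hg, inv_mul_cancel_right]
    obtain ⟨H, hH⟩ : ∃ H, H = Cfsg.Agent.Lib.SuSpec.adj σ G * G := ⟨_, rfl⟩
    have hHu : IsUnit H := by
      rw [Matrix.isUnit_iff_isUnit_det, hH, Matrix.det_mul, Cfsg.Agent.Lib.SuSpec.det_adj, hGd]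
      exact ((Matrix.GeneralLinearGroup.det g).isUnit.map σ).mul (Matrix.GeneralLinearGroup.det g).isUnit
    have h : Cfsg.Agent.Lib.SuSpec.adj σ a * H * a = H := by
      rw [hH, ← mul_assoc, ← Cfsg.Agent.Lib.SuSpec.adj_mul, mul_assoc, hGa, Cfsg.Agent.Lib.SuSpec.adj_mul, mul_assoc,
        ← mul_assoc (Cfsg.Agent.Lib.SuSpec.adj σ b), hB, one_mul]
    obtain ⟨u, hu⟩ := hHu
    refine ⟨u, ?_⟩
    show (u : Matrix (Fin n) (Fin n) K) * a = (Cfsg.Agent.Lib.SuSpec.adj σ a)⁻¹ * u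
    rw [hu]
    conv_rhs => rw [← h, mul_assoc, ← mul_assoc, Matrix.nonsing_inv_mul _ hdet, one_mul]
  · rintro ⟨H, hH⟩
    refine Cfsg.Agent.Lib.Similar.exists_GU_of_adj hK A H ?_
    have hH' : (H : Matrix (Fin n) (Fin n) K) * a = (Cfsg.Agent.Lib.SuSpec.adj σ a)⁻¹ * H := hH
    rw [← hσd, ← had, mul_assoc, hH', ← mul_assoc, Matrix.mul_nonsing_inv _ hdet, one_mul]

end Cfsg.Agent.S2588
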