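import Cfsg.Statements.S2589
import Mathlib
import Cfsg.Agent.Lib.Similar.SympConj
import Cfsg.Agent.Lib.Similar.GL

set_option autoImplicit false
open Cfsg

namespace Cfsg.Agent.S2589

open Polynomial Cfsg.Agent.Lib.Similar

theorem toMat_isUnit {F : Type*} [Field F] {m : ℕ} (A : Matrix.symplecticGroup (Fin m) F) :
    IsUnit (A : Matrix (Fin m ⊕ Fin m) (Fin m ⊕ Fin m) F) :=
  IsUnit.of_mul_eq_one _ (mul_eq_one_comm.1 (Symp.mem_iff.1 A.2))

theorem isConj_of_gl {F : Type*} [Field F] [Fintype F] {p : ℕ} [Fact p.Prime] [CharP F p] {m : ℕ}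
    (A B : Matrix.symplecticGroup (Fin m) F) (hA : (orderOf A).Coprime p) {G : Matrix (Fin m ⊕ Fin m) (Fin m ⊕ Fin m) F} (hG : IsUnit G)
    (h : G * (A : Matrix (Fin m ⊕ Fin m) (Fin m ⊕ Fin m) F) = (B : Matrix (Fin m ⊕ Fin m) (Fin m ⊕ Fin m) F) * G) : IsConj A B := by
  classical
  have hPa : aeval (A : Matrix (Fin m ⊕ Fin m) (Fin m ⊕ Fin m) F) (X ^ orderOf A - 1 : F[X]) = 0 := by
    rw [map_sub, map_pow, map_one, aeval_X, ← SubmonoidClass.coe_pow, pow_orderOf_eq_one, OneMemClass.coe_one, sub_self]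
  obtain ⟨g, hg, hgA⟩ := Symp.exists_symp_conj (Symp.mem_iff.1 A.2) (Symp.mem_iff.1 B.2) (squarefree_X_pow_sub_one hA) hPa hG h
  refine isConj_iff.2 ⟨⟨g, hg⟩, mul_inv_eq_iff_eq_mul.2 (Subtype.ext ?_)⟩
  exact hgA

/-- Two semisimple elements of the finite symplectic group Sp_2m(F) (elements of order prime to the characteristic) are conjugate in Sp_2m(F) if and only if they are conjugate in GL_2m(F). -/
theorem result {F : Type*} [Field F] [Fintype F] {p : ℕ} [Fact p.Prime] [CharP F p] {m : ℕ} (A B : Matrix.symplecticGroup (Fin m) F) (hA : (orderOf A).Coprime p) : IsConj A B ↔ IsConj (A : Matrix (Fin m ⊕ Fin m) (Fin m ⊕ Fin m) F) (B : Matrix (Fin m ⊕ Fin m) (Fin m ⊕ Fin m) F) := by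
  refine ⟨fun h => ?_, fun h => ?_⟩
  · obtain ⟨c, hc⟩ := isConj_iff.1 h
    obtain ⟨u, hu⟩ := toMat_isUnit c
    refine ⟨u, ?_⟩
    show (u : Matrix (Fin m ⊕ Fin m) (Fin m ⊕ Fin m) F) * (A : Matrix (Fin m ⊕ Fin m) (Fin m ⊕ Fin m) F) =
      (B : Matrix (Fin m ⊕ Fin m) (Fin m ⊕ Fin m) F) * (u : Matrix (Fin m ⊕ Fin m) (Fin m ⊕ Fin m) F)
    rw [hu, ← Submonoid.coe_mul, ← Submonoid.coe_mul, ← hc, inv_mul_cancel_right]
  · obtain ⟨u, hu⟩ := h
    exact isConj_of_gl A B hA u.isUnit hu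

end Cfsg.Agent.S2589
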