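import Cfsg.Statements.S2594
import Cfsg.Agent.Lib.Geometry.WittAlternating
import Cfsg.Agent.Lib.Geometry.SympBasic
import Cfsg.Agent.Lib.Classical.SympCard

set_option autoImplicit false
open Cfsg

namespace Cfsg.Agent.S2594

open Matrix
open Cfsg.Agent.Lib.Geometry

/-- Over a finite field with q elements, q even, an element t of Sp_2m(F) with rank(t − 1) = 1 (a symplectic transvection) has centraliser in Sp_2m(F) of order q^(2m−1) · |Sp_(2m−2)(q)| = q^(2m−1) · q^((m−1)²) · Π_(i=1)^(m−1) (q^(2i) − 1). -/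
theorem result {F : Type*} [Field F] [Fintype F] [CharP F 2] {q : ℕ} (hF : Fintype.card F = q) {m : ℕ} (hm : 1 ≤ m) (t : Matrix.symplecticGroup (Fin m) F) (ht : ((t : Matrix (Fin m ⊕ Fin m) (Fin m ⊕ Fin m) F) - 1).rank = 1) : Nat.card ↥(Subgroup.centralizer ({t} : Set ↥(Matrix.symplecticGroup (Fin m) F))) = q ^ (2 * m - 1) * (q ^ ((m - 1) ^ 2) * ∏ i : Fin (m - 1), (q ^ (2 * ((i : ℕ) + 1)) - 1)) := by
  classical
  subst hF
  set B := sympBilin m F with hB
  have hA := sympBilin_isAlt (F := F) (m := m)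
  have hnd := sympBilin_nondegenerate F m
  set M := ((t : Matrix (Fin m ⊕ Fin m) (Fin m ⊕ Fin m) F) - 1) with hM
  obtain ⟨⟨v₁, hv₁⟩, hv₁0, hspan⟩ := finrank_eq_one_iff'.mp (show Module.finrank F (LinearMap.range M.mulVecLin) = 1 from ht)
  have hφ : ∀ x, ∃ c : F, c • v₁ = M *ᵥ x := fun x => by
    obtain ⟨c, hc⟩ := hspan ⟨M *ᵥ x, x, rfl⟩
    exact ⟨c, congrArg Subtype.val hc⟩
  choose φ hφ using hφ
  have hv0 : v₁ ≠ 0 := fun h0 => hv₁0 (Subtype.ext h0)
  have hsw : ∀ a b : Fin m ⊕ Fin m → F, B a b = B b a := fun a b => by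
    rw [← hA.neg_eq, CharTwo.neg_eq]
  have htx : ∀ x, (t : Matrix (Fin m ⊕ Fin m) (Fin m ⊕ Fin m) F) *ᵥ x = x + φ x • v₁ := fun x => by
    rw [hφ, hM, Matrix.sub_mulVec, Matrix.one_mulVec]; abel
  have hkey : ∀ x y, φ y * B x v₁ = φ x * B y v₁ := fun x y => by
    have h := (mem_symplecticGroup_iff_form.mp t.2) x y
    simp only [htx, ← sympBilin_apply, ← hB, map_add, map_smul, LinearMap.add_apply, LinearMap.smul_apply, smul_eq_mul] at h
    rw [show B v₁ v₁ = 0 from hA v₁, hsw v₁ y] at h
    linear_combination (norm := (ring_nf; simp [CharTwo.two_eq_zero])) h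
  obtain ⟨y₀, hy₀⟩ : ∃ y, B y v₁ ≠ 0 := by
    by_contra hall
    push Not at hall
    exact hv0 (hnd.2 v₁ hall)
  set c := φ y₀ / B y₀ v₁ with hc
  have hφc : ∀ x, φ x = c * B x v₁ := fun x => by
    have := hkey x y₀
    field_simp [hc]
    rw [hc, div_mul_eq_mul_div, eq_div_iff hy₀]
    linear_combination -this
  obtain ⟨s, hs⟩ := FiniteField.isSquare_of_char_two (ringChar.eq F 2) c
  set v := s • v₁ with hv
  have hs0 : s ≠ 0 := fun h0 => by
    have hz : M = 0 := Matrix.toLin'.injective (LinearMap.ext fun x => by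
      rw [Matrix.toLin'_apply, ← hφ, hφc, hs, h0, zero_mul, zero_mul, zero_smul, map_zero, LinearMap.zero_apply])
    rw [hz, Matrix.rank_zero] at ht
    exact zero_ne_one ht
  have hv0' : v ≠ 0 := smul_ne_zero hs0 hv0
  have htv : ∀ x, (t : Matrix (Fin m ⊕ Fin m) (Fin m ⊕ Fin m) F) *ᵥ x = x + B x v • v := fun x => by
    rw [htx, hφc, hs, hv, map_smul, smul_eq_mul, smul_smul]
    congr 2; ring
  letI act : MulAction ↥(Matrix.symplecticGroup (Fin m) F) (Fin m ⊕ Fin m → F) :=
    { smul := fun g x => (g : Matrix (Fin m ⊕ Fin m) (Fin m ⊕ Fin m) F) *ᵥ x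
      one_smul := fun x => Matrix.one_mulVec x
      mul_smul := fun g h x => (Matrix.mulVec_mulVec x _ _).symm }
  have hgB : ∀ (g : ↥(Matrix.symplecticGroup (Fin m) F)) a b, B (g • a) (g • b) = B a b := fun g a b => by
    rw [hB, sympBilin_apply, sympBilin_apply]
    exact mem_symplecticGroup_iff_form.mp g.2 a b
  have hstab : Subgroup.centralizer ({t} : Set ↥(Matrix.symplecticGroup (Fin m) F)) = MulAction.stabilizer _ v := by
    ext g
    rw [Subgroup.mem_centralizer_singleton_iff, MulAction.mem_stabilizer_iff]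
    have hconj : ∀ x, g • (t • x) = g • x + B (g • x) (g • v) • (g • v) := fun x => by
      show _ *ᵥ (_ *ᵥ x) = _
      rw [htv, Matrix.mulVec_add, Matrix.mulVec_smul]
      show _ + B x v • (g • v) = _
      rw [← hgB g x v]; rfl
    constructor
    · intro h
      have h1 : ∀ y, B y (g • v) • (g • v) = B y v • v := fun y => by
        have h2 := congrArg (fun e : ↥(Matrix.symplecticGroup (Fin m) F) => e • (g⁻¹ • y)) h
        simp only [mul_smul] at h2
        rw [hconj, smul_inv_smul] at h2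
        have h3 : t • y = y + B y v • v := htv y
        rw [h3] at h2
        exact add_left_cancel h2
      obtain ⟨y, hy⟩ : ∃ y, B y v ≠ 0 := by
        by_contra hall
        push Not at hall
        exact hv0' (hnd.2 v hall)
      have h4 : B y (g • v) * B y (g • v) = B y v * B y v := by
        have := congrArg (B y) (h1 y)
        simpa [map_smul] using this
      have h5 : B y (g • v) = B y v := CharTwo.sq_inj.mp (by linear_combination h4)
      have h6 := h1 y
      rw [h5] at h6
      exact smul_right_injective _ hy h6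
    · intro hgv
      refine Subtype.ext (Matrix.toLin'.injective (LinearMap.ext fun x => ?_))
      rw [Matrix.toLin'_apply, Matrix.toLin'_apply]
      show (g * t) • x = (t * g) • x
      rw [mul_smul, mul_smul, hconj, hgv]
      exact (htv (g • x)).symm
  have horb : MulAction.orbit ↥(Matrix.symplecticGroup (Fin m) F) v = {w | w ≠ 0} := by
    ext w
    constructor
    · rintro ⟨g, rfl⟩ h0
      refine hv0' (hnd.2 v fun a => ?_)
      rw [← hgB g a v]
      exact (congrArg (B (g • a)) h0).trans (map_zero _)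
    · intro hw
      let φ' : Submodule.span F {v} →ₗ[F] (Fin m ⊕ Fin m → F) :=
        LinearMap.toSpanSingleton F _ w ∘ₗ
          ((LinearEquiv.toSpanNonzeroSingleton F _ v hv0').symm : Submodule.span F {v} →ₗ[F] F)
      obtain ⟨g, hg, hgx⟩ := witt_alternating (sympBilin m F) hnd hA (Submodule.span F {v}) φ'
        ((smul_left_injective F hw).comp
          (LinearEquiv.toSpanNonzeroSingleton F _ v hv0').symm.injective)
        (fun a b => by
          obtain ⟨a', rfl⟩ := (LinearEquiv.toSpanNonzeroSingleton F _ v hv0').surjective a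
          obtain ⟨b', rfl⟩ := (LinearEquiv.toSpanNonzeroSingleton F _ v hv0').surjective b
          simp [φ', hA v, hA w])
      have hgmem : LinearMap.toMatrix' (g : (Fin m ⊕ Fin m → F) →ₗ[F] _) ∈ Matrix.symplecticGroup (Fin m) F := by
        rw [mem_symplecticGroup_iff_form]
        intro a b
        rw [← Matrix.toLin'_apply, ← Matrix.toLin'_apply, Matrix.toLin'_toMatrix', ← sympBilin_apply,
          ← sympBilin_apply]
        exact hg a b
      refine ⟨⟨_, hgmem⟩, ?_⟩
      show LinearMap.toMatrix' (g : (Fin m ⊕ Fin m → F) →ₗ[F] _) *ᵥ v = w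
      rw [← Matrix.toLin'_apply, Matrix.toLin'_toMatrix']
      refine (hgx ⟨v, Submodule.mem_span_singleton_self v⟩).trans ?_
      have : (LinearEquiv.toSpanNonzeroSingleton F _ v hv0').symm ⟨v, Submodule.mem_span_singleton_self v⟩ = 1 :=
        (LinearEquiv.symm_apply_eq _).mpr (Subtype.ext (by simp))
      show ((LinearEquiv.toSpanNonzeroSingleton F _ v hv0').symm _) • w = w
      rw [this, one_smul]
  have hidx : (MulAction.stabilizer ↥(Matrix.symplecticGroup (Fin m) F) v).index = Fintype.card F ^ (2 * m) - 1 := by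
    rw [MulAction.index_stabilizer, horb, show {w : Fin m ⊕ Fin m → F | w ≠ 0} = {(0 : Fin m ⊕ Fin m → F)}ᶜ from rfl,
      Set.ncard_compl, Set.ncard_singleton, Nat.card_fun, Nat.card_sum, Nat.card_fin, two_mul, Nat.card_eq_fintype_card]
  have hmul := Subgroup.card_mul_index (MulAction.stabilizer ↥(Matrix.symplecticGroup (Fin m) F) v)
  rw [hidx, Cfsg.Agent.Lib.Classical.card_sp] at hmul
  rw [hstab]
  obtain ⟨k, rfl⟩ : ∃ k, m = k + 1 := ⟨m - 1, by omega⟩
  have hpos : 0 < Fintype.card F ^ (2 * (k + 1)) - 1 := by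
    have := Nat.one_lt_pow (n := 2 * (k + 1)) (by omega) (Fintype.one_lt_card (α := F))
    omega
  refine Nat.eq_of_mul_eq_mul_right hpos ?_
  rw [hmul, Finset.prod_range_succ, Nat.add_sub_cancel, Fin.prod_univ_eq_prod_range (fun i => Fintype.card F ^ (2 * (i + 1)) - 1),
    show (k + 1) ^ 2 = k ^ 2 + (2 * k + 1) by ring, show 2 * (k + 1) - 1 = 2 * k + 1 by omega, pow_add]
  ring

end Cfsg.Agent.S2594
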