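import Cfsg.Statements.S2598
import Cfsg.Agent.Lib.Classical.CharTwoInvol.MinusFourTwo

set_option autoImplicit false
open Cfsg

namespace Cfsg.Agent.S2598
open Cfsg.Agent.Lib.Classical.CharTwoInvol
open Cfsg.Agent.Lib.Classical.AutPOmega (coe_plusR coe_minusR)


/-- Number of conjugacy classes of involutions in Ω⁻_2m(F) (the commutator subgroup of the orthogonal group of an elliptic quadratic form, Σ_(i<m−1) x_i y_i plus an anisotropic binary form) over a finite field F of characteristic two, m ≥ 1: the involutions of Ω are those with s = rank(t − 1) even, one O-class for each even s with 2 ≤ s ≤ m on which v ↦ f(v, tv) is not identically zero and one for each even s with 2 ≤ s < m on which it is zero (f the polar form; in characteristic 2, f(v, tv) = Q(v + tv)), none of which splits in Ω; in all ⌊m/2⌋ + ⌊(m − 1)/2⌋. -/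
theorem result {F : Type*} [Field F] [Fintype F] [CharP F 2] {m : ℕ} (hm : 1 ≤ m) (a b : F) (hab : ∀ z₁ z₂ : F, z₁ ^ 2 + a * z₁ * z₂ + b * z₂ ^ 2 = 0 → z₁ = 0 ∧ z₂ = 0) : Nat.card {C : ConjClasses ↥(Cfsg.Omega F (Cfsg.quadFormMinus (m - 1) F a b)) // ∃ g : ↥(Cfsg.Omega F (Cfsg.quadFormMinus (m - 1) F a b)), ConjClasses.mk g = C ∧ orderOf g = 2} = m / 2 + (m - 1) / 2 := by
  obtain ⟨k, rfl⟩ : ∃ k, m = k + 1 := ⟨m - 1, by omega⟩
  rw [Nat.add_sub_cancel]
  by_cases h : Fintype.card F ≠ 2 ∨ k ≠ 1
  · rw [coe_minusR]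
    exact card_classes_omega_minus k h hab
  · push Not at h
    obtain ⟨hF, rfl⟩ := h
    classical
    have h01 : ∀ x : F, x = 0 ∨ x = 1 := fun x => by
      by_contra hx
      push Not at hx
      have h3 : ({0, 1, x} : Finset F).card ≤ 2 := hF ▸ Finset.card_le_univ _
      rw [Finset.card_insert_of_notMem (by simp [Ne.symm hx.1]), Finset.card_pair (Ne.symm hx.2)] at h3
      omega
    have ha : a = 1 := (h01 a).resolve_left (coeff_ne_zero hab)
    have hb : b = 1 := (h01 b).resolve_left fun hb => one_ne_zero (hab 0 1 (by rw [hb]; ring)).2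
    subst ha hb
    exact card_classes_minus_four_two hF

end Cfsg.Agent.S2598
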