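import Cfsg.Statements.S2599

set_option autoImplicit false
open Cfsg

namespace Cfsg.Agent.S2599

/-- An irreducible invariant subspace of a semisimple isometry is non-degenerate or totally singular: let Q be a quadratic form on F^n (F finite of characteristic p) with non-degenerate polar form f, x an isometry of Q of order prime to p, and U a non-zero x-invariant subspace containing no x-invariant subspace other than 0 and U. Then U meets its f-orthogonal trivially, or Q vanishes on U, or p = 2, U is a line spanned by a non-singular vector and x fixes U pointwise. -/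
theorem result {F : Type*} [Field F] [Fintype F] {p : ℕ} [Fact p.Prime] [CharP F p] {n : ℕ} (Q : QuadraticForm F (Fin n → F)) (hQ : (QuadraticMap.polarBilin Q).Nondegenerate) (x : ↥(Cfsg.isometryGroup F ⇑Q)) (hx : (orderOf x).Coprime p) (U : Submodule F (Fin n → F)) (hU0 : U ≠ ⊥) (hUx : ∀ u ∈ U, ((x : Matrix.GeneralLinearGroup (Fin n) F) : Matrix (Fin n) (Fin n) F).mulVec u ∈ U) (hirr : ∀ W : Submodule F (Fin n → F), W ≤ U → (∀ w ∈ W, ((x : Matrix.GeneralLinearGroup (Fin n) F) : Matrix (Fin n) (Fin n) F).mulVec w ∈ W) → W = ⊥ ∨ W = U) : U ⊓ LinearMap.BilinForm.orthogonal (QuadraticMap.polarBilin Q) U = ⊥ ∨ (∀ u ∈ U, Q u = 0) ∨ (p = 2 ∧ Module.finrank F U = 1 ∧ (∃ u ∈ U, Q u ≠ 0) ∧ ∀ u ∈ U, ((x : Matrix.GeneralLinearGroup (Fin n) F) : Matrix (Fin n) (Fin n) F).mulVec u = u) := by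
  classical
  set M : Matrix (Fin n) (Fin n) F := ((x : Matrix.GeneralLinearGroup (Fin n) F) : Matrix (Fin n) (Fin n) F) with hM
  have hiso : ∀ v, Q (M.mulVec v) = Q v := fun v => x.2 v v
  have hB : ∀ u v, QuadraticMap.polarBilin Q (M.mulVec u) (M.mulVec v) = QuadraticMap.polarBilin Q u v := fun u v => by
    simp [QuadraticMap.polarBilin_apply_apply, QuadraticMap.polar, ← Matrix.mulVec_add, hiso]
  have hinj : Function.Injective M.mulVec :=
    Matrix.mulVec_injective_iff_isUnit.mpr (Units.isUnit _)
  let f : U →ₗ[F] U := M.mulVecLin.restrict hUx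
  have hsurj : Function.Surjective f :=
    LinearMap.injective_iff_surjective.mp fun a b h => Subtype.ext (hinj (congrArg Subtype.val h))
  rcases hirr (U ⊓ LinearMap.BilinForm.orthogonal (QuadraticMap.polarBilin Q) U) inf_le_left (fun w hw => ⟨hUx w hw.1, fun u hu => by
      obtain ⟨u', hu'⟩ := hsurj ⟨u, hu⟩
      have e : u = M.mulVec u'.1 := (congrArg Subtype.val hu').symm
      show QuadraticMap.polarBilin Q u (M.mulVec w) = 0
      rw [e, hB]
      exact hw.2 u'.1 u'.2⟩) with h | h
  · exact Or.inl h
  · right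
    have hb : ∀ u ∈ U, ∀ v ∈ U, QuadraticMap.polar Q u v = 0 := fun u hu v hv => by
      have hv' : v ∈ U ⊓ LinearMap.BilinForm.orthogonal (QuadraticMap.polarBilin Q) U := by rw [h]; exact hv
      simpa using hv'.2 u hu
    have hadd : ∀ u ∈ U, ∀ v ∈ U, Q (u + v) = Q u + Q v := fun u hu v hv => by
      rw [QuadraticMap.map_add Q, hb u hu v hv, add_zero]
    have hdd : ∀ u ∈ U, Q u + Q u = 0 := fun u hu => by
      have e := hb u hu u hu
      rw [QuadraticMap.polar_self, nsmul_eq_mul] at e
      rw [← two_mul]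
      exact_mod_cast e
    by_cases hp : p = 2
    · subst hp
      let K : Submodule F (Fin n → F) :=
        { carrier := {u | u ∈ U ∧ Q u = 0}
          zero_mem' := ⟨U.zero_mem, QuadraticMap.map_zero Q⟩
          add_mem' := fun ha hb' => ⟨U.add_mem ha.1 hb'.1, by rw [hadd _ ha.1 _ hb'.1, ha.2, hb'.2, add_zero]⟩
          smul_mem' := fun c u hu => ⟨U.smul_mem c hu.1, by rw [QuadraticMap.map_smul, hu.2, smul_zero]⟩ }
      rcases hirr K (fun u hu => hu.1) (fun w hw => ⟨hUx w hw.1, (hiso w).trans hw.2⟩) with hK | hK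
      · right
        have hfix : ∀ u ∈ U, M.mulVec u = u := fun u hu => by
          have : M.mulVec u + u ∈ K := ⟨U.add_mem (hUx u hu) hu, by rw [hadd _ (hUx u hu) _ hu, hiso]; exact hdd u hu⟩
          rw [hK, Submodule.mem_bot] at this
          exact funext fun i => CharTwo.add_eq_zero.mp (congrFun this i)
        obtain ⟨u, hu, hu0⟩ := U.exists_mem_ne_zero_of_ne_bot hU0
        have hspan : F ∙ u = U := by
          refine (hirr (F ∙ u) ((Submodule.span_singleton_le_iff_mem u U).mpr hu) ?_).resolve_left (by simpa using hu0)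
          intro w hw
          rw [hfix w ((Submodule.span_singleton_le_iff_mem u U).mpr hu hw)]
          exact hw
        refine ⟨rfl, by rw [← hspan]; exact finrank_span_singleton hu0, ⟨u, hu, fun h0 => hu0 ?_⟩, hfix⟩
        have : u ∈ K := ⟨hu, h0⟩
        rwa [hK, Submodule.mem_bot] at this
      · left
        intro u hu
        have : u ∈ K := by rw [hK]; exact hu
        exact this.2
    · left
      intro u hu
      have h2 : (2 : F) ≠ 0 := by
        intro h2
        have : ((2 : ℕ) : F) = 0 := by exact_mod_cast h2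
        rw [CharP.cast_eq_zero_iff F p] at this
        exact hp ((Nat.prime_dvd_prime_iff_eq Fact.out Nat.prime_two).mp this)
      have := hdd u hu
      rw [← two_mul] at this
      exact (mul_eq_zero.mp this).resolve_left h2

end Cfsg.Agent.S2599
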