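import Cfsg.Statements.S2611
import Cfsg.Agent.Lib.QuadFin.LeviPlus

set_option autoImplicit false
open Cfsg

namespace Cfsg.Agent.S2611

open Matrix
open QuadraticMap (polarBilin)
open Cfsg.Agent.Lib.Geometry Cfsg.Agent.Lib.QuadFin

attribute [-simp] QuadraticMap.polarBilin_apply_apply


/-- For the hyperbolic quadratic form Σ x_i y_i on F^(2m) (F finite, m ≥ 1, excluding m = 2 over the field of two elements) and an invertible m × m matrix A, the block-diagonal isometry diag(A, (A⁻¹)ᵀ), which stabilises the two maximal totally singular subspaces x = 0 and y = 0, lies in Ω⁺_2m(F) (the commutator subgroup of the orthogonal group) if and only if det A is a square in F. -/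
theorem result {F : Type*} [Field F] [Fintype F] {m : ℕ} (hm : 1 ≤ m) (h : Fintype.card F ≠ 2 ∨ m ≠ 2) (A : GL (Fin m) F) : (∃ g : ↥(Cfsg.isometryGroup F (Cfsg.quadFormPlus m F)), g ∈ Cfsg.Omega F (Cfsg.quadFormPlus m F) ∧ ((g : Matrix.GeneralLinearGroup (Fin m ⊕ Fin m) F) : Matrix (Fin m ⊕ Fin m) (Fin m ⊕ Fin m) F) = Matrix.fromBlocks (A : Matrix (Fin m) (Fin m) F) 0 0 ((A : Matrix (Fin m) (Fin m) F)⁻¹).transpose) ↔ IsSquare (A : Matrix (Fin m) (Fin m) F).det := by
  classical
  rw [quadFormPlus_eq, ← Matrix.coe_units_inv]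
  have key : leviHom A ∈ Cfsg.Omega F (⇑(hypQ m F)) ↔ IsSquare (A : Matrix (Fin m) (Fin m) F).det := by
    by_cases h2 : (2 : F) = 0
    · haveI : CharP F 2 := (CharP.charP_iff_prime_eq_zero Nat.prime_two).mpr (by exact_mod_cast h2)
      have hc : Fintype.card (Fin m ⊕ Fin m) = 2 * m := by simp [two_mul]
      rw [mem_Omega_iff_even (hypQ m F) (hypQ_nondegenerate m F) (by rw [hc]; omega)
        (exists_ne_zero_ne_one_or_of_card (h.imp id fun hm2 => by rw [hc]; omega)), dickson_leviHom]
      exact iff_of_true rfl (FiniteField.isSquare_of_char_two (ringChar.eq F 2) _)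
    · rw [mem_Omega_iff (hypQ m F) (hypQ_nondegenerate m F) h2 (by simp; omega), dickson_leviHom,
        spinor_leviHom h2, and_iff_right rfl, sqClass_eq_one_iff]
  rw [← key]
  exact ⟨fun ⟨g, hg, hg1⟩ => (Subtype.ext (Units.ext hg1) : g = leviHom A) ▸ hg,
    fun hh => ⟨leviHom A, hh, rfl⟩⟩

end Cfsg.Agent.S2611
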