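import Cfsg.Statements.S2612
import Cfsg.Agent.Lib.QuadFin.LeviPlus

set_option autoImplicit false
open Cfsg

namespace Cfsg.Agent.S2612

open Matrix
open QuadraticMap (polarBilin)
open Cfsg.Agent.Lib.Geometry Cfsg.Agent.Lib.QuadFin

attribute [-simp] QuadraticMap.polarBilin_apply_apply


/-- For the hyperbolic quadratic form Σ x_i y_i on F^(2m) (F finite, m ≥ 1, excluding m = 2 over the field of two elements), Ω⁺_2m(F) (the commutator subgroup of the orthogonal group) contains an element interchanging the two complementary maximal totally singular subspaces {y = 0} and {x = 0} if and only if m is even (dimension divisible by 4). -/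
theorem result {F : Type*} [Field F] [Fintype F] {m : ℕ} (hm : 1 ≤ m) (h : Fintype.card F ≠ 2 ∨ m ≠ 2) : (∃ g : ↥(Cfsg.isometryGroup F (Cfsg.quadFormPlus m F)), g ∈ Cfsg.Omega F (Cfsg.quadFormPlus m F) ∧ (∀ v : Fin m ⊕ Fin m → F, (∀ i, v (Sum.inr i) = 0) → ∀ i, (((g : Matrix.GeneralLinearGroup (Fin m ⊕ Fin m) F) : Matrix (Fin m ⊕ Fin m) (Fin m ⊕ Fin m) F).mulVec v) (Sum.inl i) = 0) ∧ (∀ v : Fin m ⊕ Fin m → F, (∀ i, v (Sum.inl i) = 0) → ∀ i, (((g : Matrix.GeneralLinearGroup (Fin m ⊕ Fin m) F) : Matrix (Fin m ⊕ Fin m) (Fin m ⊕ Fin m) F).mulVec v) (Sum.inr i) = 0)) ↔ Even m := by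
  classical
  rw [quadFormPlus_eq]
  have hc : Fintype.card (Fin m ⊕ Fin m) = 2 * m := by simp [two_mul]
  have hexc := exists_ne_zero_ne_one_or_of_card (F := F) (n := 2 * m) (h.imp id fun hm2 => by omega)
  have hQ := hypQ_nondegenerate m F
  have hfr : Module.finrank F (Fin m ⊕ Fin m → F) = 2 * m := by rw [Module.finrank_fintype_fun_eq_card, hc]
  let D := dicksonHom (hypQ m F) hQ (closure_refl_eq_top (hypQ m F) hQ (by rw [hfr]; exact hexc))
  have hD : ∀ g : Cfsg.isometryGroup F (⇑(hypQ m F)), g ∈ Cfsg.Omega F (⇑(hypQ m F)) →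
      D (isometryEquiv (hypQ m F) g) = 1 := by
    intro g hg
    by_cases h2 : (2 : F) = 0
    · haveI : CharP F 2 := (CharP.charP_iff_prime_eq_zero Nat.prime_two).mpr (by exact_mod_cast h2)
      exact (mem_Omega_iff_even (hypQ m F) hQ (by omega) (by rw [hc]; exact hexc) g).mp hg
    · exact ((mem_Omega_iff (hypQ m F) hQ h2 (by omega) g).mp hg).1
  obtain ⟨hwD, hwS⟩ := invariants_swapIso m F
  constructor
  · rintro ⟨g, hg, hx, hy⟩
    set G := ((g : Matrix.GeneralLinearGroup (Fin m ⊕ Fin m) F) : Matrix (Fin m ⊕ Fin m) (Fin m ⊕ Fin m) F) with hG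
    have h11 : G.toBlocks₁₁ = 0 := by
      ext i j
      have := hx (Pi.single (Sum.inl j) 1) (fun k => by simp) i
      simpa [Matrix.mulVec_single, Matrix.toBlocks₁₁] using this
    have h22 : G.toBlocks₂₂ = 0 := by
      ext i j
      have := hy (Pi.single (Sum.inr j) 1) (fun k => by simp) i
      simpa [Matrix.mulVec_single, Matrix.toBlocks₂₂] using this
    set B := G.toBlocks₁₂ with hB
    set C := G.toBlocks₂₁ with hC
    have hGb : G = Matrix.fromBlocks 0 B C 0 := by
      conv_lhs => rw [← Matrix.fromBlocks_toBlocks G, h11, h22]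
    have hwg : ((swapIso m F * g : Matrix.GeneralLinearGroup (Fin m ⊕ Fin m) F) :
        Matrix (Fin m ⊕ Fin m) (Fin m ⊕ Fin m) F) = Matrix.fromBlocks C 0 0 B := by
      show Matrix.fromBlocks (0 : Matrix (Fin m) (Fin m) F) 1 1 0 * G = _
      rw [hGb, Matrix.fromBlocks_multiply]; simp
    have hdC : C.det ≠ 0 := fun h0 => by
      have := (Matrix.isUnits_det_units ((swapIso m F * g : Matrix.GeneralLinearGroup (Fin m ⊕ Fin m) F))).ne_zero
      rw [hwg, Matrix.det_fromBlocks_zero₂₁, h0, zero_mul] at this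
      exact this rfl
    let A : GL (Fin m) F := Matrix.GeneralLinearGroup.mkOfDetNeZero C hdC
    have hCB : Cᵀ * B = 1 := by
      ext i j
      have := mem_isometryGroup_iff.mp (swapIso m F * g).2 (Sum.elim (Pi.single i 1) (Pi.single j 1))
      rw [Subgroup.coe_mul, hwg, Matrix.fromBlocks_mulVec, hypQ_elim] at this
      simp only [Sum.elim_comp_inl, Sum.elim_comp_inr, Matrix.zero_mulVec, add_zero, zero_add,
        hypQ_elim] at this
      rw [← Matrix.vecMul_transpose, ← Matrix.dotProduct_mulVec, Matrix.mulVec_mulVec,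
        single_one_dotProduct, Matrix.mulVec_single_one, single_one_dotProduct] at this
      rw [Matrix.one_apply]
      simpa [Pi.single_apply, eq_comm] using this
    have hl : swapIso m F * g = leviHom A := Subtype.ext (Units.ext (by
      rw [Subgroup.coe_mul, hwg]
      show _ = Matrix.fromBlocks C 0 0 ((A⁻¹ : GL (Fin m) F) : Matrix (Fin m) (Fin m) F)ᵀ
      rw [Matrix.coe_units_inv, Matrix.transpose_nonsing_inv]
      congr 1
      exact (Matrix.inv_eq_right_inv hCB).symm))
    have h1 : D (isometryEquiv (hypQ m F) (swapIso m F * g)) = 1 := by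
      rw [hl]; exact dickson_leviHom A
    rw [map_mul, map_mul, hD g hg, mul_one] at h1
    exact (neg_one_pow_eq_one_iff_even (by decide)).mp (hwD.symm.trans h1)
  · intro he
    refine ⟨swapIso m F, ?_, fun v hv i => ?_, fun v hv i => ?_⟩
    · by_cases h2 : (2 : F) = 0
      · haveI : CharP F 2 := (CharP.charP_iff_prime_eq_zero Nat.prime_two).mpr (by exact_mod_cast h2)
        rw [mem_Omega_iff_even (hypQ m F) hQ (by omega) (by rw [hc]; exact hexc), hwD, he.neg_one_pow]
      · rw [mem_Omega_iff (hypQ m F) hQ h2 (by omega), hwD, hwS, he.neg_one_pow, he.neg_one_pow]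
        exact ⟨rfl, sqClass_eq_one_iff.mpr IsSquare.one⟩
    · show (Matrix.fromBlocks (0 : Matrix (Fin m) (Fin m) F) 1 1 0 *ᵥ v) (Sum.inl i) = 0
      simpa [Matrix.fromBlocks_mulVec] using hv i
    · show (Matrix.fromBlocks (0 : Matrix (Fin m) (Fin m) F) 1 1 0 *ᵥ v) (Sum.inr i) = 0
      simpa [Matrix.fromBlocks_mulVec] using hv i

end Cfsg.Agent.S2612
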