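import Cfsg.Statements.S2613
import Cfsg.Agent.Lib.QuadFin.PairInvolution

set_option autoImplicit false
open Cfsg

namespace Cfsg.Agent.S2613

open Matrix
open QuadraticMap (polarBilin)
open Cfsg.Agent.Lib.Geometry Cfsg.Agent.Lib.QuadFin

attribute [-simp] QuadraticMap.polarBilin_apply_apply


/-- For the hyperbolic form Σ x_j y_j on F^(2m), F finite with q elements, q odd, and 1 ≤ i ≤ m: the involution negating the first i hyperbolic pairs (x_j, y_j ↦ −x_j, −y_j for j < i) and fixing the rest lies in Ω⁺_2m(q) (commutator subgroup of the orthogonal group) if and only if q^i ≡ 1 (mod 4); its (−1)-eigenspace is a hyperbolic 2i-space. -/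
theorem result {F : Type*} [Field F] [Fintype F] {q : ℕ} (hF : Fintype.card F = q) (hq : Odd q) {m : ℕ} (i : ℕ) (hi : 1 ≤ i) (him : i ≤ m) : (∃ g : ↥(Cfsg.isometryGroup F (Cfsg.quadFormPlus m F)), g ∈ Cfsg.Omega F (Cfsg.quadFormPlus m F) ∧ ((g : Matrix.GeneralLinearGroup (Fin m ⊕ Fin m) F) : Matrix (Fin m ⊕ Fin m) (Fin m ⊕ Fin m) F) = Matrix.diagonal (fun k : Fin m ⊕ Fin m => if (Sum.elim (fun j : Fin m => (j : ℕ)) (fun j : Fin m => (j : ℕ)) k) < i then (-1 : F) else 1)) ↔ q ^ i % 4 = 1 := by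
  classical
  subst hF
  rw [quadFormPlus_eq]
  have hn : 2 ≤ Fintype.card (Fin m ⊕ Fin m) := by rw [Fintype.card_sum, Fintype.card_fin]; omega
  refine pair_involution _ (polarBilin_matQuad_nondegenerate (by
      rw [det_plusGram]; exact pow_ne_zero _ (neg_ne_zero.mpr one_ne_zero))) hq hn
    (fun k => Sum.elim (fun j : Fin m => (j : ℕ)) (fun j : Fin m => (j : ℕ)) k < i)
    (Sum.map (Fin.castLE him) (Fin.castLE him))
    ((Fin.castLE_injective him).sumMap (Fin.castLE_injective him))
    (by rintro (a | a) <;> exact a.2) ?_ ?_ ?_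
  · rintro (j | j) hj
    · exact ⟨Sum.inl ⟨j, hj⟩, rfl⟩
    · exact ⟨Sum.inr ⟨j, hj⟩, rfl⟩
  · intro a b
    rw [polarBilin_matQuad_single, Matrix.add_apply, Matrix.transpose_apply, plusGram_castLE, plusGram_castLE]
  · intro k l hk hl
    rw [polarBilin_matQuad_single]
    rcases k with k | k <;> rcases l with l | l <;>
      simp [plusMatrix, Matrix.one_apply] at hk hl ⊢ <;> omega

end Cfsg.Agent.S2613
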