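import Cfsg.Statements.S2614
import Cfsg.Agent.Lib.QuadFin.PairInvolution

set_option autoImplicit false
open Cfsg

namespace Cfsg.Agent.S2614

open Matrix
open QuadraticMap (polarBilin)
open Cfsg.Agent.Lib.Geometry Cfsg.Agent.Lib.QuadFin

attribute [-simp] QuadraticMap.polarBilin_apply_apply

/-- The matrix of `quadFormOdd`. -/
def oddMatrix (m : ℕ) (F : Type*) [Field F] :
    Matrix (Unit ⊕ (Fin m ⊕ Fin m)) (Unit ⊕ (Fin m ⊕ Fin m)) F :=
  Matrix.fromBlocks 1 0 0 (plusMatrix m F)

theorem quadFormOdd_eq (m : ℕ) (F : Type*) [Field F] :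
    Cfsg.quadFormOdd m F = ⇑(matQuad (oddMatrix m F)) := by
  funext v
  rw [matQuad_apply, oddMatrix, Matrix.fromBlocks_mulVec]
  simp only [Matrix.zero_mulVec, add_zero, zero_add, Matrix.one_mulVec]
  rw [dotProduct, Fintype.sum_sum_type]
  simp only [Sum.elim_inl, Sum.elim_inr]
  show v (.inl ()) ^ 2 + _ = _
  congr 1
  · simp [pow_two]
  · have := congrFun (quadFormPlus_eq (F := F) m) (v ∘ Sum.inr)
    rw [matQuad_apply] at this
    exact this

theorem det_oddGram (m : ℕ) (F : Type*) [Field F] :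
    (oddMatrix m F + (oddMatrix m F)ᵀ).det = 2 * (-1) ^ m := by
  rw [oddMatrix, Matrix.fromBlocks_transpose, Matrix.fromBlocks_add, Matrix.transpose_zero,
    Matrix.transpose_zero]
  simp only [add_zero]
  rw [Matrix.det_fromBlocks_zero₂₁, det_plusGram, Matrix.det_unique]
  simp [one_add_one_eq_two]


/-- For the form x_0² + Σ x_j y_j on F^(2m+1), F finite with q elements, q odd, and 1 ≤ i ≤ m: the involution of determinant one negating the first i hyperbolic pairs (and fixing x_0 and the other pairs) lies in Ω_(2m+1)(q) (commutator subgroup of the orthogonal group) if and only if q^i ≡ 1 (mod 4); its (−1)-eigenspace is a hyperbolic 2i-space. -/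
theorem result {F : Type*} [Field F] [Fintype F] {q : ℕ} (hF : Fintype.card F = q) (hq : Odd q) {m : ℕ} (i : ℕ) (hi : 1 ≤ i) (him : i ≤ m) : (∃ g : ↥(Cfsg.isometryGroup F (Cfsg.quadFormOdd m F)), g ∈ Cfsg.Omega F (Cfsg.quadFormOdd m F) ∧ ((g : Matrix.GeneralLinearGroup (Unit ⊕ (Fin m ⊕ Fin m)) F) : Matrix (Unit ⊕ (Fin m ⊕ Fin m)) (Unit ⊕ (Fin m ⊕ Fin m)) F) = Matrix.diagonal (fun k : Unit ⊕ (Fin m ⊕ Fin m) => if (Sum.elim (fun _ : Unit => i) (Sum.elim (fun j : Fin m => (j : ℕ)) (fun j : Fin m => (j : ℕ))) k) < i then (-1 : F) else 1)) ↔ q ^ i % 4 = 1 := by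
  classical
  subst hF
  rw [quadFormOdd_eq]
  have h2 := two_ne_zero_of_odd_card hq
  have hn : 2 ≤ Fintype.card (Unit ⊕ (Fin m ⊕ Fin m)) := by
    rw [Fintype.card_sum, Fintype.card_sum, Fintype.card_unit, Fintype.card_fin]; omega
  refine pair_involution _ (polarBilin_matQuad_nondegenerate (by
      rw [det_oddGram]; exact mul_ne_zero h2 (pow_ne_zero _ (neg_ne_zero.mpr one_ne_zero)))) hq hn
    (fun k => Sum.elim (fun _ : Unit => i) (Sum.elim (fun j : Fin m => (j : ℕ)) (fun j : Fin m => (j : ℕ))) k < i)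
    (Sum.inr ∘ Sum.map (Fin.castLE him) (Fin.castLE him))
    (Sum.inr_injective.comp ((Fin.castLE_injective him).sumMap (Fin.castLE_injective him)))
    (by rintro (a | a) <;> exact a.2) ?_ ?_ ?_
  · rintro (j | j | j) hj
    · exact absurd hj (lt_irrefl i)
    · exact ⟨Sum.inl ⟨j, hj⟩, rfl⟩
    · exact ⟨Sum.inr ⟨j, hj⟩, rfl⟩
  · intro a b
    rw [polarBilin_matQuad_single, ← plusGram_castLE him, ← plusGram_castLE him]
    rfl
  · intro k l hk hl
    rw [polarBilin_matQuad_single]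
    rcases k with k | k | k <;> rcases l with l | l | l <;>
      simp [oddMatrix, plusMatrix, Matrix.one_apply] at hk hl ⊢ <;> omega

end Cfsg.Agent.S2614
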