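import Cfsg.Statements.S2615
import Cfsg.Agent.Lib.QuadFin.PairInvolution

set_option autoImplicit false
open Cfsg

namespace Cfsg.Agent.S2615

open Matrix
open QuadraticMap (polarBilin)
open Cfsg.Agent.Lib.Geometry Cfsg.Agent.Lib.QuadFin

attribute [-simp] QuadraticMap.polarBilin_apply_apply


/-- For an elliptic form Σ_(j<m−1) x_j y_j + (z₁² + a z₁z₂ + b z₂²) (anisotropic binary part) on F^(2m), F finite with q elements, q odd, and 1 ≤ i ≤ m − 1: the involution negating the first i hyperbolic pairs and fixing the rest lies in Ω⁻_2m(q) (commutator subgroup of the orthogonal group) if and only if q^i ≡ 1 (mod 4). -/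
theorem result {F : Type*} [Field F] [Fintype F] {q : ℕ} (hF : Fintype.card F = q) (hq : Odd q) {m : ℕ} (a b : F) (hab : ∀ z₁ z₂ : F, z₁ ^ 2 + a * z₁ * z₂ + b * z₂ ^ 2 = 0 → z₁ = 0 ∧ z₂ = 0) (i : ℕ) (hi : 1 ≤ i) (him : i + 1 ≤ m) : (∃ g : ↥(Cfsg.isometryGroup F (Cfsg.quadFormMinus (m - 1) F a b)), g ∈ Cfsg.Omega F (Cfsg.quadFormMinus (m - 1) F a b) ∧ ((g : Matrix.GeneralLinearGroup ((Fin (m - 1) ⊕ Fin (m - 1)) ⊕ Fin 2) F) : Matrix ((Fin (m - 1) ⊕ Fin (m - 1)) ⊕ Fin 2) ((Fin (m - 1) ⊕ Fin (m - 1)) ⊕ Fin 2) F) = Matrix.diagonal (fun k : (Fin (m - 1) ⊕ Fin (m - 1)) ⊕ Fin 2 => if (Sum.elim (Sum.elim (fun j : Fin (m - 1) => (j : ℕ)) (fun j : Fin (m - 1) => (j : ℕ))) (fun _ : Fin 2 => i) k) < i then (-1 : F) else 1)) ↔ q ^ i % 4 = 1 := by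
  classical
  subst hF
  rw [quadFormMinus_eq]
  have h2 := two_ne_zero_of_odd_card hq
  have him' : i ≤ m - 1 := by omega
  have hn : 2 ≤ Fintype.card ((Fin (m - 1) ⊕ Fin (m - 1)) ⊕ Fin 2) := by simp
  refine pair_involution _ (polarBilin_matQuad_nondegenerate (by
      rw [det_minusGram]
      refine mul_ne_zero (pow_ne_zero _ (neg_ne_zero.mpr one_ne_zero)) fun h => ?_
      exact discr_not_isSquare h2 hab ⟨0, by linear_combination -h⟩)) hq hn
    (fun k => Sum.elim (Sum.elim (fun j : Fin (m - 1) => (j : ℕ)) (fun j : Fin (m - 1) => (j : ℕ))) (fun _ : Fin 2 => i) k < i)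
    (Sum.inl ∘ Sum.map (Fin.castLE him') (Fin.castLE him'))
    (Sum.inl_injective.comp ((Fin.castLE_injective him').sumMap (Fin.castLE_injective him')))
    (by rintro (a | a) <;> exact a.2) ?_ ?_ ?_
  · rintro ((j | j) | j) hj
    · exact ⟨Sum.inl ⟨j, hj⟩, rfl⟩
    · exact ⟨Sum.inr ⟨j, hj⟩, rfl⟩
    · exact absurd hj (lt_irrefl i)
  · intro a b
    rw [polarBilin_matQuad_single, ← plusGram_castLE him', ← plusGram_castLE him']
    rfl
  · intro k l hk hl
    rw [polarBilin_matQuad_single]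
    rcases k with (k | k) | k <;> rcases l with (l | l) | l <;>
      simp [minusMatrix, plusMatrix, Matrix.one_apply] at hk hl ⊢ <;> omega

end Cfsg.Agent.S2615
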