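import Cfsg.Statements.S2618
import Cfsg.Agent.Lib.QuadFin.Normal

set_option autoImplicit false
open Cfsg

namespace Cfsg.Agent.S2618

/-- Standard (parabolic) basis of a non-degenerate quadratic space of odd dimension 2m + 1 over a finite field (the non-degeneracy of the polar form forces the characteristic to be odd): there is a basis e_i, f_i (i < m), x with Q(e_i) = Q(f_i) = 0, B(e_i, f_j) = δ_ij (B the polar form), the e's pairwise orthogonal and the f's pairwise orthogonal, x orthogonal to all of them and Q(x) ≠ 0. -/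
theorem result {F V : Type*} [Field F] [Finite F] [AddCommGroup V] [Module F V] [FiniteDimensional F V] {m : ℕ} (hV : Module.finrank F V = 2 * m + 1) (Q : QuadraticForm F V) (hQ : (QuadraticMap.polarBilin Q).Nondegenerate) : ∃ b : Module.Basis (Unit ⊕ (Fin m ⊕ Fin m)) F V, Q (b (Sum.inl ())) ≠ 0 ∧ (∀ i, QuadraticMap.polar ⇑Q (b (Sum.inl ())) (b (Sum.inr (Sum.inl i))) = 0 ∧ QuadraticMap.polar ⇑Q (b (Sum.inl ())) (b (Sum.inr (Sum.inr i))) = 0) ∧ (∀ i, Q (b (Sum.inr (Sum.inl i))) = 0 ∧ Q (b (Sum.inr (Sum.inr i))) = 0) ∧ (∀ i j, QuadraticMap.polar ⇑Q (b (Sum.inr (Sum.inl i))) (b (Sum.inr (Sum.inr j))) = if i = j then 1 else 0) ∧ (∀ i j, QuadraticMap.polar ⇑Q (b (Sum.inr (Sum.inl i))) (b (Sum.inr (Sum.inl j))) = 0 ∧ QuadraticMap.polar ⇑Q (b (Sum.inr (Sum.inr i))) (b (Sum.inr (Sum.inr j))) = 0) := by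
  obtain ⟨p, x, hp, hx, hQx⟩ := Cfsg.Agent.Lib.QuadFin.exists_odd_basis Q hQ hV
  have hx0 : x ≠ 0 := fun h => hQx (by rw [h, map_zero])
  have hli := (Cfsg.Agent.Lib.QuadFin.linearIndependent_frameVec Q hp (w := fun _ : Unit => x) (fun _ => hx)
    (linearIndependent_unique_iff.mpr hx0)).comp (Equiv.sumComm Unit (Fin m ⊕ Fin m)) (Equiv.injective _)
  have hx' := (Cfsg.Agent.Lib.Geometry.mem_hypPerp _).mp hx
  refine ⟨basisOfLinearIndependentOfCardEqFinrank hli
    (by simp only [Fintype.card_sum, Fintype.card_fin, Fintype.card_unit, hV]; omega), ?_⟩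
  simp only [coe_basisOfLinearIndependentOfCardEqFinrank]
  refine ⟨hQx, fun i => ⟨?_, ?_⟩, hp.2, fun i j => (hp.1 i j).2.2, fun i j => ⟨(hp.1 i j).1, (hp.1 i j).2.1⟩⟩
  · show QuadraticMap.polarBilin Q x (p i).1 = 0
    rw [Cfsg.Agent.Lib.Geometry.quad_polar_comm]; exact (hx' i).1
  · show QuadraticMap.polarBilin Q x (p i).2 = 0
    rw [Cfsg.Agent.Lib.Geometry.quad_polar_comm]; exact (hx' i).2

end Cfsg.Agent.S2618
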