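import Cfsg.Statements.S2619

set_option autoImplicit false
open Cfsg

namespace Cfsg.Agent.S2619

/-- Over a finite field of characteristic two, given an alternating bilinear form B on a finite-dimensional space, a basis (v_i) and scalars (λ_i), there is exactly one quadratic form whose polar form is B and whose value at each v_i is λ_i. -/
theorem result {F V ι : Type*} [Field F] [Finite F] [CharP F 2] [AddCommGroup V] [Module F V] [Fintype ι] (b : Module.Basis ι F V) (B : LinearMap.BilinForm F V) (hB : B.IsAlt) (c : ι → F) : ∃! Q : QuadraticForm F V, QuadraticMap.polarBilin Q = B ∧ ∀ i, Q (b i) = c i := by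
  classical
  have huniq : ∀ Q Q' : QuadraticForm F V, QuadraticMap.polarBilin Q = QuadraticMap.polarBilin Q' →
      (∀ i, Q (b i) = Q' (b i)) → Q = Q' := by
    intro Q Q' h1 h2
    have h : ∀ u v, Q (u + v) - Q u - Q v = Q' (u + v) - Q' u - Q' v := fun u v =>
      LinearMap.congr_fun₂ h1 u v
    ext x
    have hadd : ∀ u v, Q u = Q' u → Q v = Q' v → Q (u + v) = Q' (u + v) := by
      intro u v hu hv
      have := h u v
      rw [hu, hv] at this
      linear_combination this
    rw [← b.sum_repr x]
    refine Finset.sum_induction _ (fun y => Q y = Q' y) hadd (by simp) ?_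
    intro i _
    simp [QuadraticMap.map_smul, h2 i]
  let _inst : LinearOrder ι := LinearOrder.lift' (Fintype.equivFin ι) (Fintype.equivFin ι).injective
  let Bl : LinearMap.BilinForm F V := b.constr F fun i => b.constr F fun j =>
    if i = j then c i else if i < j then B (b i) (b j) else 0
  refine ⟨Bl.toQuadraticMap, ⟨?_, ?_⟩, ?_⟩
  · apply b.ext
    intro i
    apply b.ext
    intro j
    simp only [QuadraticMap.polarBilin_apply_apply, LinearMap.BilinMap.polar_toQuadraticMap]
    simp only [Bl, Module.Basis.constr_basis]
    rcases lt_trichotomy i j with h | h | h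
    · simp [h, h.ne, h.ne', h.not_gt]
    · subst h
      simp [hB.self_eq_zero, CharTwo.add_self_eq_zero]
    · simp only [h.ne, h.ne', h.not_gt, h, if_true, if_false, zero_add]
      rw [← LinearMap.IsAlt.neg hB (b j) (b i), CharTwo.neg_eq]
  · intro i
    simp only [LinearMap.BilinMap.toQuadraticMap_apply, Bl, Module.Basis.constr_basis, if_true]
  · intro Q ⟨h1, h2⟩
    refine huniq _ _ ?_ ?_
    · rw [h1]
      symm
      apply b.ext
      intro i
      apply b.ext
      intro j
      simp only [QuadraticMap.polarBilin_apply_apply, LinearMap.BilinMap.polar_toQuadraticMap]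
      simp only [Bl, Module.Basis.constr_basis]
      rcases lt_trichotomy i j with h | h | h
      · simp [h, h.ne, h.ne', h.not_gt]
      · subst h
        simp [hB.self_eq_zero, CharTwo.add_self_eq_zero]
      · simp only [h.ne, h.ne', h.not_gt, h, if_true, if_false, zero_add]
        rw [← LinearMap.IsAlt.neg hB (b j) (b i), CharTwo.neg_eq]
    · intro i
      rw [h2 i]
      simp only [LinearMap.BilinMap.toQuadraticMap_apply, Bl, Module.Basis.constr_basis, if_true]

end Cfsg.Agent.S2619
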