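import Cfsg.Statements.S2621

set_option autoImplicit false
open Cfsg

namespace Cfsg.Agent.S2621

open Matrix in
private theorem gram_det {ι κ F : Type*} [Fintype ι] [DecidableEq ι] [Fintype κ] [DecidableEq κ] [Field F]
    (G : Matrix κ κ F) (B : (κ → F) → (κ → F) → F) (hB : ∀ u v, B u v = u ⬝ᵥ G *ᵥ v) (b : Module.Basis ι F (κ → F)) :
    ∃ c : F, c ≠ 0 ∧ (Matrix.of fun i j => B (b i) (b j)).det = c ^ 2 * G.det := by
  let e : ι ≃ κ := b.indexEquiv (Pi.basisFun F κ)
  let C : Matrix κ κ F := Matrix.of fun r s => b (e.symm s) r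
  refine ⟨C.det, ?_, ?_⟩
  · rw [← isUnit_iff_ne_zero, ← Matrix.isUnit_iff_isUnit_det, ← Matrix.linearIndependent_cols_iff_isUnit]
    exact b.linearIndependent.comp _ e.symm.injective
  · have : Matrix.reindex e e (Matrix.of fun i j => B (b i) (b j)) = C.transpose * (G * C) := by
      ext i j
      show B (b (e.symm i)) (b (e.symm j)) = (fun r => b (e.symm i) r) ⬝ᵥ fun r => (G * C) r j
      rw [hB]
      rfl
    rw [← Matrix.det_reindex_self e, this, Matrix.det_mul, Matrix.det_mul, Matrix.det_transpose]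
    ring

private theorem isSquare_neg_one_pow {F : Type*} [Field F] [Fintype F] {q : ℕ} (hF : Fintype.card F = q) (hq : Odd q) (m : ℕ) :
    IsSquare ((-1 : F) ^ m) ↔ Even (m * (q - 1) / 2) := by
  have hdiv : m * (q - 1) / 2 = m * ((q - 1) / 2) := by
    obtain ⟨k, rfl⟩ := hq
    rw [show 2 * k + 1 - 1 = 2 * k by omega, mul_left_comm, Nat.mul_div_cancel_left _ (by norm_num), Nat.mul_div_cancel_left _ (by norm_num)]
  rw [hdiv, Nat.even_mul]
  rcases Nat.even_or_odd m with hm | hm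
  · rw [hm.neg_one_pow]
    exact iff_of_true IsSquare.one (Or.inl hm)
  · rw [hm.neg_one_pow, FiniteField.isSquare_neg_one_iff, hF, Nat.even_iff, Nat.even_iff, Nat.odd_iff.mp hm]
    obtain ⟨k, rfl⟩ := hq
    omega

private theorem isSquare_sq_mul {F : Type*} [Field F] {c x : F} (hc : c ≠ 0) : IsSquare (c ^ 2 * x) ↔ IsSquare x := by
  constructor
  · rintro ⟨y, hy⟩
    exact ⟨y / c, by field_simp; linear_combination hy⟩
  · rintro ⟨y, rfl⟩
    exact ⟨c * y, by ring⟩

private def blockGram (m : ℕ) (F : Type*) [Field F] : Matrix (Fin m ⊕ Fin m) (Fin m ⊕ Fin m) F :=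
  Matrix.fromBlocks 0 1 1 0

private theorem det_blockGram (m : ℕ) (F : Type*) [Field F] : (blockGram m F).det = (-1) ^ m := by
  have hJ : Matrix.fromBlocks (0 : Matrix (Fin m) (Fin m) F) (1 : Matrix (Fin m) (Fin m) F) (1 : Matrix (Fin m) (Fin m) F) (0 : Matrix (Fin m) (Fin m) F) * Matrix.fromBlocks (1 : Matrix (Fin m) (Fin m) F) 0 1 (1 : Matrix (Fin m) (Fin m) F) =
      Matrix.fromBlocks (1 : Matrix (Fin m) (Fin m) F) (1 : Matrix (Fin m) (Fin m) F) (1 : Matrix (Fin m) (Fin m) F) (0 : Matrix (Fin m) (Fin m) F) := by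
    rw [Matrix.fromBlocks_multiply]; simp
  have h := congrArg Matrix.det hJ
  rw [Matrix.det_mul, Matrix.det_fromBlocks_zero₁₂, Matrix.det_fromBlocks_one₁₁] at h
  simpa [blockGram, Matrix.det_neg, Fintype.card_fin] using h

private theorem polar_plus (m : ℕ) (F : Type*) [Field F] (u v : Fin m ⊕ Fin m → F) :
    QuadraticMap.polar (quadFormPlus m F) u v = u ⬝ᵥ Matrix.mulVec (blockGram m F) v := by
  simp only [QuadraticMap.polar, quadFormPlus, blockGram, Matrix.fromBlocks_mulVec, dotProduct, Fintype.sum_sum_type,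
    Pi.add_apply, Sum.elim_inl, Sum.elim_inr, Matrix.zero_mulVec, Matrix.one_mulVec, Pi.zero_apply,
    Function.comp_apply, add_mul, mul_add, Finset.sum_add_distrib, mul_zero, zero_add, add_zero]
  rw [Finset.sum_congr rfl fun (i : Fin m) _ => mul_comm (v (Sum.inl i)) (u (Sum.inr i))]
  ring

private theorem isSquare_neg_iff {F : Type*} [Field F] [Fintype F] [DecidableEq F] (hF : ringChar F ≠ 2) {d : F}
    (hd : d ≠ 0) (hns : ¬ IsSquare d) {e : F} (he : e ≠ 0) : IsSquare (e * d) ↔ ¬ IsSquare e := by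
  rw [← quadraticChar_one_iff_isSquare (mul_ne_zero he hd), ← quadraticChar_one_iff_isSquare he, map_mul,
    quadraticChar_neg_one_iff_not_isSquare.mpr hns]
  rcases quadraticChar_dichotomy he with h | h <;> simp [h]


/-- Discriminant of an elliptic quadratic form Σ_(i<m−1) x_i y_i + z₁² + a z₁z₂ + c z₂² (binary part anisotropic) in dimension 2m over a field with q elements, q odd, m ≥ 1: the determinant of the Gram matrix of its polar form in any basis is a square if and only if m(q − 1)/2 is odd (equivalently q^m ≡ 3 (mod 4)). -/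
theorem result {F : Type*} [Field F] [Fintype F] {q : ℕ} (hF : Fintype.card F = q) (hq : Odd q) {m : ℕ} (hm : 1 ≤ m) (a c : F) (hac : ∀ z₁ z₂ : F, z₁ ^ 2 + a * z₁ * z₂ + c * z₂ ^ 2 = 0 → z₁ = 0 ∧ z₂ = 0) {ι : Type*} [Fintype ι] [DecidableEq ι] (b : Module.Basis ι F ((Fin (m - 1) ⊕ Fin (m - 1)) ⊕ Fin 2 → F)) : IsSquare (Matrix.of (fun i j : ι => QuadraticMap.polar (Cfsg.quadFormMinus (m - 1) F a c) (b i) (b j))).det ↔ ¬ Even (m * (q - 1) / 2) := by
  classical
  obtain ⟨k, rfl⟩ : ∃ k, m = k + 1 := ⟨m - 1, by omega⟩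
  revert b
  rw [show k + 1 - 1 = k by omega]
  intro b
  have hchar : ringChar F ≠ 2 := fun h => by
    have := FiniteField.even_card_iff_char_two.mp h
    rw [hF, Nat.odd_iff.mp hq] at this
    exact one_ne_zero this
  have h2 : (2 : F) ≠ 0 := Ring.two_ne_zero hchar
  have hd : ¬ IsSquare (a ^ 2 - 4 * c) := by
    rintro ⟨s, hs⟩
    have h4 : (4 : F) ≠ 0 := by
      rw [show (4 : F) = 2 * 2 by norm_num]
      exact mul_ne_zero h2 h2
    exact h4 (by
      have := (hac ((s - a) / 2) 1 (by field_simp; linear_combination (-1 : F) * hs)).2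
      exact absurd this one_ne_zero)
  have hd0 : a ^ 2 - 4 * c ≠ 0 := fun h => hd (h ▸ IsSquare.zero)
  let G : Matrix ((Fin k ⊕ Fin k) ⊕ Fin 2) ((Fin k ⊕ Fin k) ⊕ Fin 2) F :=
    Matrix.fromBlocks (blockGram k F) 0 0 !![2, a; a, 2 * c]
  have hB : ∀ u v, QuadraticMap.polar (quadFormMinus k F a c) u v = u ⬝ᵥ Matrix.mulVec G v := by
    intro u v
    have key : ∀ w, quadFormMinus k F a c w =
        quadFormPlus k F (fun i => w (Sum.inl i)) + (w (Sum.inr 0) ^ 2 + a * w (Sum.inr 0) * w (Sum.inr 1) + c * w (Sum.inr 1) ^ 2) :=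
      fun w => rfl
    have hp := polar_plus k F (fun i => u (Sum.inl i)) (fun i => v (Sum.inl i))
    simp only [QuadraticMap.polar, key, Pi.add_apply] at hp ⊢
    rw [show (fun i => u (Sum.inl i) + v (Sum.inl i)) = (fun i => u (Sum.inl i)) + fun i => v (Sum.inl i) from rfl]
    simp only [G, Matrix.fromBlocks_mulVec, dotProduct, Fintype.sum_sum_type (α₁ := Fin k ⊕ Fin k), Sum.elim_inl,
      Sum.elim_inr, Matrix.zero_mulVec, add_zero, zero_add, Fin.sum_univ_two] at hp ⊢
    simp [Matrix.mulVec, dotProduct, Fin.sum_univ_two, Function.comp_def] at hp ⊢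
    linear_combination hp
  obtain ⟨e, he, hdet⟩ := gram_det G _ hB b
  rw [hdet, isSquare_sq_mul he]
  simp only [G, Matrix.det_fromBlocks_zero₁₂, det_blockGram, Matrix.det_fin_two_of]
  rw [show (-1 : F) ^ k * (2 * (2 * c) - a * a) = (-1) ^ (k + 1) * (a ^ 2 - 4 * c) by ring,
    isSquare_neg_iff hchar hd0 hd (pow_ne_zero _ (neg_ne_zero.mpr one_ne_zero)), isSquare_neg_one_pow hF hq]

end Cfsg.Agent.S2621
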