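import Cfsg.Statements.S2622

set_option autoImplicit false
open Cfsg

namespace Cfsg.Agent.S2622

open LinearMap (BilinForm)

section
variable {F : Type*} [Field F] [Finite F] [CharP F 2]

private theorem exists_sqrt (a : F) : ∃ c : F, c * c = a :=
  FiniteField.isSquare_of_char_two (ringChar.eq F 2 ▸ rfl) a |>.imp fun _ h => h.symm

/-- Scaling a vector with `B(v, v) ≠ 0` to norm one. -/
private theorem exists_norm_one {V : Type*} [AddCommGroup V] [Module F V] {B : BilinForm F V} {v : V} (hv : B v v ≠ 0) :
    ∃ c : F, B (c • v) (c • v) = 1 := by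
  obtain ⟨c, hc⟩ := exists_sqrt (B v v)⁻¹
  exact ⟨c, by simp only [map_smul, LinearMap.smul_apply, smul_eq_mul, ← mul_assoc, hc, inv_mul_cancel₀ hv]⟩

private theorem exists_orthonormal : ∀ (n : ℕ) (V : Type _) [AddCommGroup V] [Module F V] [FiniteDimensional F V]
    (B : BilinForm F V), Module.finrank F V = n → B.IsSymm → B.Nondegenerate → (n = 0 ∨ ∃ v, B v v ≠ 0) →
    ∃ f : Fin n → V, ∀ i j, B (f i) (f j) = if i = j then 1 else 0
  | 0, _, _, _, _, _, _, _, _, _ => ⟨Fin.elim0, fun i => i.elim0⟩
  | n + 1, V, _, _, _, B, hn, hS, hB, hna => by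
    obtain ⟨v₀, hv₀⟩ := hna.resolve_left (Nat.succ_ne_zero n)
    -- choose a unit vector whose orthogonal is not alternating
    obtain ⟨v, hv, hW⟩ : ∃ v, B v v = 1 ∧ (n = 0 ∨ ∃ w ∈ B.orthogonal (F ∙ v), B w w ≠ 0) := by
      obtain ⟨c, hc⟩ := exists_norm_one hv₀
      set v := c • v₀
      by_cases h : n = 0 ∨ ∃ w ∈ B.orthogonal (F ∙ v), B w w ≠ 0
      · exact ⟨v, hc, h⟩
      simp only [not_or, not_exists, not_and, not_not] at h
      obtain ⟨hn0, halt⟩ := h
      have hv0 : B v v ≠ 0 := by rw [hc]; exact one_ne_zero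
      have hWn := LinearMap.BilinForm.restrict_nondegenerate_orthogonal_spanSingleton B hB hS.isRefl hv0
      have hfin : Module.finrank F (B.orthogonal (F ∙ v)) = n := by
        rw [LinearMap.BilinForm.finrank_orthogonal hB, hn,
          finrank_span_singleton (fun h => hv0 (by rw [h]; simp)), Nat.add_sub_cancel]
      obtain ⟨x, hx0⟩ : ∃ x : B.orthogonal (F ∙ v), x ≠ 0 := by
        have : Nontrivial (B.orthogonal (F ∙ v)) := Module.nontrivial_of_finrank_pos (R := F) (by omega)
        exact exists_ne 0
      obtain ⟨y, hy⟩ : ∃ y : B.orthogonal (F ∙ v), B (x : V) y ≠ 0 := by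
        by_contra! hcon
        exact hx0 (hWn.1 x hcon)
      set y' : V := (B (x : V) y)⁻¹ • (y : V)
      have hvx : B v x = 0 := x.2 v (Submodule.mem_span_singleton_self v)
      have hvy : B v y' = 0 := (Submodule.smul_mem _ _ y.2 : y' ∈ B.orthogonal (F ∙ v)) v (Submodule.mem_span_singleton_self v)
      have hxy : B (x : V) y' = 1 := by simp [y', inv_mul_cancel₀ hy]
      refine ⟨v + x, ?_, Or.inr ⟨v + y', fun u hu => ?_, ?_⟩⟩
      · simp only [map_add, LinearMap.add_apply, hS.eq (x : V) v, hvx, hc, halt _ x.2, RingHom.id_apply]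
        ring
      · obtain ⟨r, rfl⟩ := Submodule.mem_span_singleton.mp hu
        show B (r • (v + (x : V))) (v + y') = 0
        simp only [map_add, map_smul, LinearMap.add_apply, LinearMap.smul_apply, smul_eq_mul, hc, hvy,
          hS.eq (x : V) v, hvx, hxy, RingHom.id_apply]
        linear_combination r * CharTwo.add_self_eq_zero (1 : F)
      · have hyy : B y' y' = 0 := halt y' (Submodule.smul_mem _ _ y.2)
        simp only [map_add, LinearMap.add_apply, hS.eq y' v, hvy, hc, hyy]
        simp
    have hv0 : B v v ≠ 0 := by rw [hv]; exact one_ne_zero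
    have hfin : Module.finrank F (B.orthogonal (F ∙ v)) = n := by
      rw [LinearMap.BilinForm.finrank_orthogonal hB, hn,
        finrank_span_singleton (fun h => hv0 (by rw [h]; simp)), Nat.add_sub_cancel]
    obtain ⟨g, hg⟩ := exists_orthonormal n _ (B.restrict (B.orthogonal (F ∙ v))) hfin
      ⟨fun a b => hS.eq (a : V) b⟩
      (LinearMap.BilinForm.restrict_nondegenerate_orthogonal_spanSingleton B hB hS.isRefl hv0)
      (hW.imp_right fun ⟨w, hw, hne⟩ => ⟨⟨w, hw⟩, hne⟩)
    refine ⟨Fin.cons v fun i => (g i : V), fun i j => ?_⟩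
    cases i using Fin.cases with
    | zero => cases j using Fin.cases with
      | zero => simpa using hv
      | succ j => simpa [(Fin.succ_ne_zero j).symm] using (g j).2 v (Submodule.mem_span_singleton_self v)
    | succ i => cases j using Fin.cases with
      | zero =>
        simp only [Fin.cons_succ, Fin.cons_zero, Fin.succ_ne_zero, if_false]
        exact (hS.eq _ _).trans ((g i).2 v (Submodule.mem_span_singleton_self v))
      | succ j => simpa [Fin.succ_inj] using hg i j

end


/-- Over a finite field of characteristic two, a non-degenerate symmetric bilinear form that is not alternating (some vector v has B(v, v) ≠ 0) admits an orthonormal basis. -/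
theorem result {F V : Type*} [Field F] [Finite F] [CharP F 2] [AddCommGroup V] [Module F V] [FiniteDimensional F V] {n : ℕ} (hV : Module.finrank F V = n) (B : LinearMap.BilinForm F V) (hS : B.IsSymm) (hB : B.Nondegenerate) (hna : ∃ v : V, B v v ≠ 0) : ∃ b : Module.Basis (Fin n) F V, ∀ i j, B (b i) (b j) = if i = j then 1 else 0 := by
  classical
  obtain ⟨f, hf⟩ := exists_orthonormal n V B hV hS hB (Or.inr hna)
  have hli : LinearIndependent F f := Fintype.linearIndependent_iff.mpr fun c hc i => by
    have := congrArg (B (f i)) hc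
    simpa [map_sum, hf] using this
  exact ⟨basisOfLinearIndependentOfCardEqFinrank' f hli (by rw [hV, Fintype.card_fin]), fun i j => by simpa using hf i j⟩

end Cfsg.Agent.S2622
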