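import Cfsg.Statements.S2623
import Cfsg.Agent.Lib.QuadFin.Normal
import Cfsg.Agent.Lib.Geometry.SymmDiscr

set_option autoImplicit false
open Cfsg

namespace Cfsg.Agent.S2623

/-- Over a finite field of odd order, two quadratic forms on F^n with non-degenerate polar forms are isometric (related by an invertible linear change of variables) if and only if their discriminants (determinants of the Gram matrices of their polar forms) lie in the same square class. -/
theorem result {F : Type*} [Field F] [Fintype F] (h2 : (2 : F) ≠ 0) {n : ℕ} (Q₁ Q₂ : QuadraticForm F (Fin n → F)) (h₁ : (QuadraticMap.polarBilin Q₁).Nondegenerate) (h₂ : (QuadraticMap.polarBilin Q₂).Nondegenerate) : (∃ g : (Fin n → F) ≃ₗ[F] (Fin n → F), ∀ v, Q₂ (g v) = Q₁ v) ↔ IsSquare ((Matrix.of (fun i j : Fin n => QuadraticMap.polar ⇑Q₁ (Pi.single i 1) (Pi.single j 1))).det * (Matrix.of (fun i j : Fin n => QuadraticMap.polar ⇑Q₂ (Pi.single i 1) (Pi.single j 1))).det) := by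
  have hgram : ∀ Q : QuadraticForm F (Fin n → F), Matrix.of (fun i j : Fin n => QuadraticMap.polar ⇑Q (Pi.single i 1) (Pi.single j 1)) =
      LinearMap.BilinForm.toMatrix (Pi.basisFun F (Fin n)) (QuadraticMap.polarBilin Q) := by
    intro Q
    ext i j
    rw [LinearMap.BilinForm.toMatrix_apply, Matrix.of_apply, Pi.basisFun_apply, Pi.basisFun_apply,
      QuadraticMap.polarBilin_apply_apply]
  rw [hgram, hgram]
  constructor
  · rintro ⟨g, hg⟩
    have hB : QuadraticMap.polarBilin Q₁ = LinearMap.BilinForm.comp (QuadraticMap.polarBilin Q₂) (g : (Fin n → F) →ₗ[F] Fin n → F) (g : (Fin n → F) →ₗ[F] Fin n → F) := by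
      refine LinearMap.ext fun x => LinearMap.ext fun y => ?_
      simp [QuadraticMap.polarBilin_apply_apply, QuadraticMap.polar, ← map_add, hg]
    rw [hB, LinearMap.BilinForm.toMatrix_comp (Pi.basisFun F (Fin n)) (Pi.basisFun F (Fin n)), Matrix.det_mul,
      Matrix.det_mul, Matrix.det_transpose]
    exact ⟨(LinearMap.toMatrix (Pi.basisFun F (Fin n)) (Pi.basisFun F (Fin n)) (g : (Fin n → F) →ₗ[F] Fin n → F)).det *
      (LinearMap.BilinForm.toMatrix (Pi.basisFun F (Fin n)) (QuadraticMap.polarBilin Q₂)).det, by ring⟩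
  · intro h
    obtain ⟨g, hg⟩ := Cfsg.Agent.Lib.Geometry.exists_isometry_of_isSquare_det_mul h2 _ _
      (Cfsg.Agent.Lib.QuadFin.polar_isSymm Q₁) (Cfsg.Agent.Lib.QuadFin.polar_isSymm Q₂) h₁ h₂ (Pi.basisFun F (Fin n)) h
    refine ⟨g, fun v => mul_left_cancel₀ h2 ?_⟩
    rw [← Cfsg.Agent.Lib.Geometry.quad_polar_self, ← Cfsg.Agent.Lib.Geometry.quad_polar_self, hg]

end Cfsg.Agent.S2623
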