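import Cfsg.Statements.S2624
import Cfsg.Agent.Lib.QuadFin.Normal

set_option autoImplicit false
open Cfsg

namespace Cfsg.Agent.S2624

open QuadraticMap (polarBilin)
open Cfsg.Agent.Lib.Geometry (quad_add quad_smul quad_polar_self quad_polar_comm)

attribute [-simp] QuadraticMap.polarBilin_apply_apply

theorem polar_comp {F V : Type*} [Field F] [AddCommGroup V] [Module F V] (Q : QuadraticForm F V) (T : V →ₗ[F] V)
    (x y : V) : polarBilin (Q.comp T) x y = polarBilin Q (T x) (T y) := by
  rw [QuadraticMap.polarBilin_apply_apply, QuadraticMap.polarBilin_apply_apply, QuadraticMap.polar, QuadraticMap.polar,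
    QuadraticMap.comp_apply, QuadraticMap.comp_apply, QuadraticMap.comp_apply, map_add]

theorem polar_smulQ {F V : Type*} [Field F] [AddCommGroup V] [Module F V] (Q : QuadraticForm F V) (c : F)
    (x y : V) : polarBilin (c • Q) x y = c * polarBilin Q x y := by
  rw [QuadraticMap.polarBilin_apply_apply, QuadraticMap.polarBilin_apply_apply, QuadraticMap.polar, QuadraticMap.polar,
    smul_apply, smul_apply, smul_apply, smul_eq_mul, smul_eq_mul, smul_eq_mul, mul_sub, mul_sub]

theorem exists_similitude {F V : Type*} [Field F] [Fintype F] [AddCommGroup V] [Module F V] [FiniteDimensional F V]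
    {m : ℕ} (hm : 1 ≤ m) (hV : Module.finrank F V = 2 * m) (Q : QuadraticForm F V)
    (hQ : (polarBilin Q).Nondegenerate) (c : F) (hc : c ≠ 0) :
    ∃ g : V ≃ₗ[F] V, ∀ v, Q (g v) = c * Q v := by
  suffices h : ∃ T : V →ₗ[F] V, ∀ v, Q (T v) = c * Q v by
    obtain ⟨T, hT⟩ := h
    have hinj : Function.Injective T := by
      refine LinearMap.ker_eq_bot.mp (LinearMap.ker_eq_bot'.mpr fun v hv => hQ.1 v fun w => ?_)
      have h1 := quad_add Q (T v) (T w)
      rw [← map_add, hT, hT, hT, quad_add Q v w, hv, map_zero, LinearMap.zero_apply] at h1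
      exact (mul_eq_zero.mp (show c * polarBilin Q v w = 0 by linear_combination h1)).resolve_left hc
    exact ⟨LinearEquiv.ofBijective T ⟨hinj, LinearMap.surjective_of_injective hinj⟩, hT⟩
  rcases Cfsg.Agent.Lib.QuadFin.exists_normal_basis Q hQ hm hV with ⟨b, h1, h2, h3⟩ | ⟨b, ζ, hz, h1, h2, h3, h4, h5, h6, h7⟩
  · refine ⟨b.constr F (Sum.elim (fun i => c • b (Sum.inl i)) fun i => b (Sum.inr i)), fun v => ?_⟩
    refine Cfsg.Agent.Lib.QuadFin.quad_ext_basis (Q.comp _) b (c • Q) ?_ ?_ v
    · intro k
      rcases k with i | i <;> simp [Module.Basis.constr_basis, quad_smul, (h1 i).1, (h1 i).2]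
    · intro k l
      rw [polar_comp, polar_smulQ]
      have e1 : ∀ i j, polarBilin Q (b (Sum.inl i)) (b (Sum.inr j)) = if i = j then 1 else 0 := h2
      have e2 : ∀ i j, polarBilin Q (b (Sum.inl i)) (b (Sum.inl j)) = 0 := fun i j => (h3 i j).1
      have e3 : ∀ i j, polarBilin Q (b (Sum.inr i)) (b (Sum.inr j)) = 0 := fun i j => (h3 i j).2
      have e4 : ∀ i j, polarBilin Q (b (Sum.inr i)) (b (Sum.inl j)) = if j = i then 1 else 0 := fun i j => by
        rw [quad_polar_comm]; exact e1 j i
      rcases k with i | i <;> rcases l with j | j <;> simp [Module.Basis.constr_basis, e1, e2, e3, e4]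
  · obtain ⟨a, β, hab⟩ : ∃ a β : F, a * a + a * β + ζ * (β * β) = c := by
      by_cases h20 : (2 : F) = 0
      · haveI : CharP F 2 := CharTwo.of_one_ne_zero_of_two_eq_zero one_ne_zero h20
        obtain ⟨t, ht⟩ := isSquare_of_charTwo' c
        exact ⟨t, 0, by rw [ht]; ring⟩
      · have hodd : Fintype.card F % 2 = 1 := FiniteField.odd_card_of_char_ne_two fun h => h20 (by
          haveI := ringChar.of_eq h
          exact CharTwo.two_eq_zero)
        have hd : (4 * ζ - 1 : F) ≠ 0 := fun h => hz (-(1 / 2)) (by field_simp; linear_combination h)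
        obtain ⟨u, v, huv⟩ := FiniteField.exists_root_sum_quadratic (R := F) (f := Polynomial.X ^ 2)
          (g := Polynomial.C (4 * ζ - 1) * Polynomial.X ^ 2 - Polynomial.C (4 * c)) (by simp)
          (by
            rw [Polynomial.degree_sub_eq_left_of_degree_lt, Polynomial.degree_C_mul_X_pow 2 hd]
            · rfl
            · rw [Polynomial.degree_C_mul_X_pow 2 hd]
              exact lt_of_le_of_lt Polynomial.degree_C_le (by norm_num)) hodd
        simp at huv
        refine ⟨(u - v) / 2, v, ?_⟩
        field_simp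
        linear_combination huv
    refine ⟨b.constr F (Sum.elim (Sum.elim (fun i => c • b (Sum.inl (Sum.inl i))) fun i => b (Sum.inl (Sum.inr i)))
      ![a • b (Sum.inr 0) + β • b (Sum.inr 1), (-(ζ * β)) • b (Sum.inr 0) + (a + β) • b (Sum.inr 1)]), fun v => ?_⟩
    have h6' : polarBilin Q (b (Sum.inr 0)) (b (Sum.inr 1)) = 1 := h6
    have s0 : polarBilin Q (b (Sum.inr 0)) (b (Sum.inr 0)) = 2 := by rw [quad_polar_self, h5, mul_one]
    have s1 : polarBilin Q (b (Sum.inr 1)) (b (Sum.inr 1)) = 2 * ζ := by rw [quad_polar_self, h7]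
    have h6c : polarBilin Q (b (Sum.inr 1)) (b (Sum.inr 0)) = 1 := by rw [quad_polar_comm]; exact h6'
    have hA : ∀ i (k : Fin 2), polarBilin Q (b (Sum.inl (Sum.inl i))) (b (Sum.inr k)) = 0 := fun i k => (h4 i k).1
    have hB : ∀ i (k : Fin 2), polarBilin Q (b (Sum.inl (Sum.inr i))) (b (Sum.inr k)) = 0 := fun i k => (h4 i k).2
    have hA' : ∀ i (k : Fin 2), polarBilin Q (b (Sum.inr k)) (b (Sum.inl (Sum.inl i))) = 0 := fun i k => by
      rw [quad_polar_comm]; exact hA i k
    have hB' : ∀ i (k : Fin 2), polarBilin Q (b (Sum.inr k)) (b (Sum.inl (Sum.inr i))) = 0 := fun i k => by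
      rw [quad_polar_comm]; exact hB i k
    have hC : ∀ i j, polarBilin Q (b (Sum.inl (Sum.inl i))) (b (Sum.inl (Sum.inr j))) = if i = j then 1 else 0 := h2
    have hC' : ∀ i j, polarBilin Q (b (Sum.inl (Sum.inr i))) (b (Sum.inl (Sum.inl j))) = if j = i then 1 else 0 := fun i j => by
      rw [quad_polar_comm]; exact hC j i
    have hD : ∀ i j, polarBilin Q (b (Sum.inl (Sum.inl i))) (b (Sum.inl (Sum.inl j))) = 0 := fun i j => (h3 i j).1
    have hE : ∀ i j, polarBilin Q (b (Sum.inl (Sum.inr i))) (b (Sum.inl (Sum.inr j))) = 0 := fun i j => (h3 i j).2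
    refine Cfsg.Agent.Lib.QuadFin.quad_ext_basis (Q.comp _) b (c • Q) ?_ ?_ v
    · intro k
      rcases k with (i | i) | k
      · simp [Module.Basis.constr_basis, quad_smul, (h1 i).1]
      · simp [Module.Basis.constr_basis, (h1 i).2]
      · fin_cases k
        · simp [Module.Basis.constr_basis, quad_add, quad_smul, h5, h6', h7]; linear_combination hab
        · simp [Module.Basis.constr_basis, quad_add, quad_smul, h5, h6', h7]; linear_combination ζ * hab
    · intro k l
      rw [polar_comp, polar_smulQ]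
      rcases k with (i | i) | k <;> rcases l with (j | j) | l <;> (try fin_cases k) <;> (try fin_cases l) <;>
        simp [Module.Basis.constr_basis, hA, hA', hB, hB', hC, hC', hD, hE, h6', h6c, s0, s1] <;>
        first | linear_combination hab | linear_combination 2 * hab | linear_combination (2 * ζ) * hab | ring

/-- For a quadratic form Q on F^n with non-degenerate polar form, F finite and n ≥ 2 even, every non-zero scalar c is the multiplier of some similarity: there is an invertible linear map g with Q(g v) = c·Q(v) for all v. -/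
theorem result {F : Type*} [Field F] [Fintype F] {n : ℕ} (hn : 2 ≤ n) (he : Even n) (Q : QuadraticForm F (Fin n → F)) (hQ : (QuadraticMap.polarBilin Q).Nondegenerate) (c : F) (hc : c ≠ 0) : ∃ g : (Fin n → F) ≃ₗ[F] (Fin n → F), ∀ v, Q (g v) = c * Q v := by
  obtain ⟨m, hm⟩ := he
  exact exists_similitude (m := m) (by omega) (by rw [Module.finrank_fin_fun]; omega) Q hQ c hc

end Cfsg.Agent.S2624
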