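import Cfsg.Statements.S2625

set_option autoImplicit false
open Cfsg

namespace Cfsg.Agent.S2625

/-- For a quadratic form Q on F^n with non-degenerate polar form, F finite and n odd (so |F| is odd), the multiplier of any similarity is a square: if g is an invertible linear map with Q(g v) = c·Q(v) for all v then c is a square. -/
theorem result {F : Type*} [Field F] [Fintype F] {n : ℕ} (hn : Odd n) (Q : QuadraticForm F (Fin n → F)) (hQ : (QuadraticMap.polarBilin Q).Nondegenerate) (g : (Fin n → F) ≃ₗ[F] (Fin n → F)) (c : F) (hg : ∀ v, Q (g v) = c * Q v) : IsSquare c := by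
  let B : LinearMap.BilinForm F (Fin n → F) := QuadraticMap.polarBilin Q
  let bs := Pi.basisFun F (Fin n)
  have hmap : B.comp g.toLinearMap g.toLinearMap = c • B := by
    refine LinearMap.ext fun u => LinearMap.ext fun v => ?_
    simp only [LinearMap.BilinForm.comp_apply, LinearEquiv.coe_coe, LinearMap.smul_apply, smul_eq_mul, B,
      QuadraticMap.polarBilin_apply_apply, QuadraticMap.polar, ← map_add, hg]
    ring
  have h2 := congrArg Matrix.det ((LinearMap.BilinForm.toMatrix_comp bs bs B g.toLinearMap g.toLinearMap).symm.trans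
    (congrArg (LinearMap.BilinForm.toMatrix bs) hmap))
  rw [map_smul, Matrix.det_mul, Matrix.det_mul, Matrix.det_transpose, Matrix.det_smul, Fintype.card_fin] at h2
  set D := (LinearMap.BilinForm.toMatrix bs B).det
  have hD : D ≠ 0 := (LinearMap.BilinForm.nondegenerate_iff_det_ne_zero _).mp hQ
  set d := (LinearMap.toMatrix bs bs g.toLinearMap).det
  have h3 : c ^ n = d * d := mul_right_cancel₀ hD (by rw [← h2]; ring)
  obtain ⟨k, rfl⟩ := hn
  by_cases hc : c = 0
  · exact ⟨0, by simp [hc]⟩
  · refine ⟨d / c ^ k, ?_⟩
    rw [div_mul_div_comm, ← h3, ← pow_add, two_mul, pow_succ, mul_div_assoc]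
    field_simp

end Cfsg.Agent.S2625
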