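import Cfsg.Statements.S2626

set_option autoImplicit false
open Cfsg

namespace Cfsg.Agent.S2626

section
variable {R : Type*} [CommRing R] {k l : ℕ}

/-- The block diagonal embedding. -/
def blockDiagHom : GL (Fin k) R × GL (Fin l) R →* GL (Fin k ⊕ Fin l) R :=
  (Units.map
    ({ toFun := fun p => Matrix.fromBlocks p.1 0 0 p.2
       map_one' := Matrix.fromBlocks_one
       map_mul' := fun p q => by simp [Matrix.fromBlocks_multiply] } :
      Matrix (Fin k) (Fin k) R × Matrix (Fin l) (Fin l) R →* Matrix (Fin k ⊕ Fin l) (Fin k ⊕ Fin l) R)).comp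
    MulEquiv.prodUnits.symm.toMonoidHom

theorem blockDiag_mulVec_inl (p : GL (Fin k) R × GL (Fin l) R) (u : Fin k ⊕ Fin l → R) :
    (((blockDiagHom p : GL (Fin k ⊕ Fin l) R) : Matrix (Fin k ⊕ Fin l) (Fin k ⊕ Fin l) R).mulVec u) ∘ Sum.inl =
      (p.1 : Matrix (Fin k) (Fin k) R).mulVec (u ∘ Sum.inl) := by
  funext i
  simp [blockDiagHom, Matrix.fromBlocks_mulVec, MulEquiv.prodUnits]

theorem blockDiag_mulVec_inr (p : GL (Fin k) R × GL (Fin l) R) (u : Fin k ⊕ Fin l → R) :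
    (((blockDiagHom p : GL (Fin k ⊕ Fin l) R) : Matrix (Fin k ⊕ Fin l) (Fin k ⊕ Fin l) R).mulVec u) ∘ Sum.inr =
      (p.2 : Matrix (Fin l) (Fin l) R).mulVec (u ∘ Sum.inr) := by
  funext i
  simp [blockDiagHom, Matrix.fromBlocks_mulVec, MulEquiv.prodUnits]

end
open scoped commutatorElement

/-- Ω of an orthogonal direct sum contains the product of the Ω's: for quadratic forms Q₁ on F^k and Q₂ on F^l with non-degenerate polar forms (F finite) and Q = Q₁ ⊕ Q₂ on F^(k+l), if g₁ lies in Ω(Q₁) and g₂ in Ω(Q₂) (commutator subgroups of the orthogonal groups) then the block-diagonal isometry diag(g₁, g₂) lies in Ω(Q). -/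
theorem result {F : Type*} [Field F] [Fintype F] {k l : ℕ} (Q₁ : QuadraticForm F (Fin k → F)) (Q₂ : QuadraticForm F (Fin l → F)) (h₁ : (QuadraticMap.polarBilin Q₁).Nondegenerate) (h₂ : (QuadraticMap.polarBilin Q₂).Nondegenerate) (g₁ : ↥(Cfsg.isometryGroup F ⇑Q₁)) (g₂ : ↥(Cfsg.isometryGroup F ⇑Q₂)) (hg₁ : g₁ ∈ Cfsg.Omega F ⇑Q₁) (hg₂ : g₂ ∈ Cfsg.Omega F ⇑Q₂) : ∃ g : ↥(Cfsg.isometryGroup F (fun v : Fin k ⊕ Fin l → F => Q₁ (v ∘ Sum.inl) + Q₂ (v ∘ Sum.inr))), g ∈ Cfsg.Omega F (fun v : Fin k ⊕ Fin l → F => Q₁ (v ∘ Sum.inl) + Q₂ (v ∘ Sum.inr)) ∧ ((g : Matrix.GeneralLinearGroup (Fin k ⊕ Fin l) F) : Matrix (Fin k ⊕ Fin l) (Fin k ⊕ Fin l) F) = Matrix.fromBlocks ((g₁ : Matrix.GeneralLinearGroup (Fin k) F) : Matrix (Fin k) (Fin k) F) 0 0 ((g₂ : Matrix.GeneralLinearGroup (Fin l) F) : Matrix (Fin l) (Fin l) F) := by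
  classical
  let O := isometryGroup F (fun v : Fin k ⊕ Fin l → F => Q₁ (v ∘ Sum.inl) + Q₂ (v ∘ Sum.inr))
  let f : ↥(isometryGroup F ⇑Q₁) × ↥(isometryGroup F ⇑Q₂) →* ↥O :=
    (blockDiagHom.comp ((isometryGroup F ⇑Q₁).subtype.prodMap (isometryGroup F ⇑Q₂).subtype)).codRestrict O
      (fun p u v => by
        have h1 := p.1.2 (u ∘ Sum.inl) (v ∘ Sum.inl)
        have h2 := p.2.2 (u ∘ Sum.inr) (v ∘ Sum.inr)
        simp only [Units.coeHom_apply] at h1 h2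
        simp only [Units.coeHom_apply, MonoidHom.coe_comp, Function.comp_apply,
          MonoidHom.coe_prodMap, Subgroup.coe_subtype, Prod.map_fst, Prod.map_snd, blockDiag_mulVec_inl, blockDiag_mulVec_inr]
        rw [h1, h2])
  refine ⟨f (g₁, g₂), ?_, rfl⟩
  have : (g₁, g₂) ∈ commutator (↥(isometryGroup F ⇑Q₁) × ↥(isometryGroup F ⇑Q₂)) := by
    rw [commutator_def, ← Subgroup.top_prod_top, Subgroup.commutator_prod_prod]
    exact ⟨hg₁, hg₂⟩
  have h2 := Subgroup.mem_map_of_mem f this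
  rw [commutator_def, Subgroup.map_commutator] at h2
  exact Subgroup.commutator_mono le_top le_top h2

end Cfsg.Agent.S2626
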