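import Cfsg.Statements.S2627
import Cfsg.Agent.Lib.QuadFin.OmegaCriterion
import Cfsg.Agent.Lib.QuadFin.WittIndex

set_option autoImplicit false
open Cfsg

namespace Cfsg.Agent.S2627

open Matrix
open QuadraticMap (polarBilin)
open Cfsg.Agent.Lib.Geometry Cfsg.Agent.Lib.QuadFin

attribute [-simp] QuadraticMap.polarBilin_apply_apply


/-- For an orthogonal direct sum Q = Q₁ ⊕ Q₂ of quadratic forms with non-degenerate polar forms over a finite field, an isometry g₁ of Q₁ extended by the identity on the second summand lies in Ω(Q) (the commutator subgroup of the orthogonal group of Q) if and only if g₁ lies in Ω(Q₁). (Excluded: the field of two elements when the first summand or the whole space has dimension 4, where the commutator subgroup of O⁺₄(2) is smaller than the group usually called Ω.) -/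
theorem result {F : Type*} [Field F] [Fintype F] {k l : ℕ} (h : Fintype.card F ≠ 2 ∨ (k ≠ 4 ∧ k + l ≠ 4)) (Q₁ : QuadraticForm F (Fin k → F)) (Q₂ : QuadraticForm F (Fin l → F)) (h₁ : (QuadraticMap.polarBilin Q₁).Nondegenerate) (h₂ : (QuadraticMap.polarBilin Q₂).Nondegenerate) (g₁ : ↥(Cfsg.isometryGroup F ⇑Q₁)) : (∃ g : ↥(Cfsg.isometryGroup F (fun v : Fin k ⊕ Fin l → F => Q₁ (v ∘ Sum.inl) + Q₂ (v ∘ Sum.inr))), g ∈ Cfsg.Omega F (fun v : Fin k ⊕ Fin l → F => Q₁ (v ∘ Sum.inl) + Q₂ (v ∘ Sum.inr)) ∧ ((g : Matrix.GeneralLinearGroup (Fin k ⊕ Fin l) F) : Matrix (Fin k ⊕ Fin l) (Fin k ⊕ Fin l) F) = Matrix.fromBlocks ((g₁ : Matrix.GeneralLinearGroup (Fin k) F) : Matrix (Fin k) (Fin k) F) 0 0 1) ↔ g₁ ∈ Cfsg.Omega F ⇑Q₁ := by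
  classical
  let L : (Fin k ⊕ Fin l → F) →ₗ[F] (Fin k → F) := LinearMap.funLeft F F Sum.inl
  let R : (Fin k ⊕ Fin l → F) →ₗ[F] (Fin l → F) := LinearMap.funLeft F F Sum.inr
  have hfun : (fun v : Fin k ⊕ Fin l → F => Q₁ (v ∘ Sum.inl) + Q₂ (v ∘ Sum.inr)) = ⇑(Q₁.comp L + Q₂.comp R) := rfl
  rw [hfun]
  set S := Q₁.comp L + Q₂.comp R with hS
  have hSv : ∀ x y, S (Sum.elim x y) = Q₁ x + Q₂ y := fun x y => rfl
  have hpol : ∀ a b c d, polarBilin S (Sum.elim a b) (Sum.elim c d) =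
      polarBilin Q₁ a c + polarBilin Q₂ b d := fun a b c d => by
    have e1 : (Sum.elim a b : Fin k ⊕ Fin l → F) + Sum.elim c d = Sum.elim (a + c) (b + d) := by
      funext i; cases i <;> rfl
    rw [QuadraticMap.polarBilin_apply_apply, QuadraticMap.polarBilin_apply_apply, QuadraticMap.polarBilin_apply_apply,
      QuadraticMap.polar, QuadraticMap.polar, QuadraticMap.polar, e1, hSv, hSv, hSv]
    ring
  have hSn : (polarBilin S).Nondegenerate := by
    have hl : ∀ v, (∀ w, polarBilin S v w = 0) → v = 0 := by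
      intro v hv
      rw [← Sum.elim_comp_inl_inr v] at hv ⊢
      have ha : v ∘ Sum.inl = 0 := h₁.1 _ fun c => by
        have := hv (Sum.elim c 0); rw [hpol, map_zero, add_zero] at this; exact this
      have hb : v ∘ Sum.inr = 0 := h₂.1 _ fun c => by
        have := hv (Sum.elim 0 c); rw [hpol, map_zero, zero_add] at this; exact this
      rw [ha, hb]; funext i; cases i <;> rfl
    exact ⟨hl, fun v hv => hl v fun w => by rw [quad_polar_comm]; exact hv w⟩
  set G := ((g₁ : Matrix.GeneralLinearGroup (Fin k) F) : Matrix (Fin k) (Fin k) F) with hG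
  set G' := (((g₁ : Matrix.GeneralLinearGroup (Fin k) F)⁻¹ : Matrix.GeneralLinearGroup (Fin k) F) :
    Matrix (Fin k) (Fin k) F) with hG'
  have hmv : ∀ x y, Matrix.fromBlocks G 0 0 (1 : Matrix (Fin l) (Fin l) F) *ᵥ Sum.elim x y = Sum.elim (G *ᵥ x) y :=
    fun x y => by simp [Matrix.fromBlocks_mulVec]
  let x₀ : Cfsg.isometryGroup F (⇑S) :=
    ⟨⟨Matrix.fromBlocks G 0 0 1, Matrix.fromBlocks G' 0 0 1, by
        simp [Matrix.fromBlocks_multiply, hG, hG', Matrix.fromBlocks_one, Matrix.mul_inv_of_invertible],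
      by simp [Matrix.fromBlocks_multiply, hG, hG', Matrix.fromBlocks_one, Matrix.inv_mul_of_invertible]⟩,
      mem_isometryGroup_iff.mpr fun v => by
        rw [← Sum.elim_comp_inl_inr v]
        show S (Matrix.fromBlocks G 0 0 1 *ᵥ _) = _
        rw [hmv, hSv, hSv, mem_isometryGroup_iff.mp g₁.2]⟩
  have hone : ∀ x y, oneSub S (isometryEquiv S x₀) (Sum.elim x y) =
      Sum.elim (oneSub Q₁ (isometryEquiv Q₁ g₁) x) 0 := by
    intro x y
    rw [oneSub_apply, oneSub_apply, isometryEquiv_apply, isometryEquiv_apply]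
    show Sum.elim x y - Matrix.fromBlocks G 0 0 1 *ᵥ Sum.elim x y = _
    rw [hmv]
    funext i; cases i <;> simp [← hG]
  obtain ⟨r, a, ha⟩ : ∃ r, ∃ a : Fin r → (Fin k → F), IsWallFrame Q₁ (isometryEquiv Q₁ g₁) a :=
    ⟨_, exists_wallFrame Q₁ (isometryEquiv Q₁ g₁)⟩
  obtain ⟨hD, hP⟩ := invariants_of_frame S hSn (isometryEquiv S x₀) (fun i => Sum.elim (a i) 0)
    (by
      refine Fintype.linearIndependent_iff.mpr fun c hc => Fintype.linearIndependent_iff.mp ha.1 c ?_
      funext j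
      have := congrFun hc (Sum.inl j)
      simpa [hone, Finset.sum_apply] using this)
    (fun v => by
      obtain ⟨c, z, hz, hv⟩ := wallFrame_exists_combination Q₁ ha (v ∘ Sum.inl)
      have hz' : oneSub Q₁ (isometryEquiv Q₁ g₁) z = 0 := hz
      rw [← Sum.elim_comp_inl_inr v, hone, Submodule.mem_span_range_iff_exists_fun]
      refine ⟨c, ?_⟩
      rw [hv, map_add, hz', add_zero, map_sum]
      funext j
      cases j <;> simp [hone, Finset.sum_apply])
  rw [Fintype.card_fin] at hD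
  have hW : (Matrix.of fun i j => polarBilin S (oneSub S (isometryEquiv S x₀) (Sum.elim (a i) 0)) (Sum.elim (a j) 0)) =
      wallMatrix Q₁ (isometryEquiv Q₁ g₁) a := by
    ext i j
    simp only [Matrix.of_apply, hone, hpol, wallMatrix, map_zero, LinearMap.zero_apply, add_zero]
  rw [hW] at hP
  have key : x₀ ∈ Cfsg.Omega F (⇑S) ↔ g₁ ∈ Cfsg.Omega F ⇑Q₁ := by
    rw [mem_Omega_criterion S hSn (exists_ne_zero_ne_one_or_of_card (h.imp id fun hh => by simp; exact hh.2)),
      mem_Omega_criterion Q₁ h₁ (exists_ne_zero_ne_one_or_of_card (h.imp id fun hh => by simp; exact hh.1))]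
    unfold InKer
    rw [hD, hP, ← spinor_eq Q₁ h₁ ha]
    show (_ ∧ _) ↔ ((-1 : ℤˣ) ^ _ = 1 ∧ _)
    rw [← ha.2]
  rw [← key]
  exact ⟨fun ⟨g, hg, hg1⟩ => (Subtype.ext (Units.ext hg1) : g = x₀) ▸ hg, fun hh => ⟨x₀, hh, rfl⟩⟩

end Cfsg.Agent.S2627
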