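import Cfsg.Statements.S2628
import Cfsg.Agent.Lib.QuadFin.SpinorApps

set_option autoImplicit false
open Cfsg

namespace Cfsg.Agent.S2628

open Matrix
open QuadraticMap (polarBilin)
open Cfsg.Agent.Lib.Geometry Cfsg.Agent.Lib.QuadFin

attribute [-simp] QuadraticMap.polarBilin_apply_apply


/-- For the orthogonal direct sum Q ⊕ Q of two copies of a quadratic form Q with non-degenerate polar form on F^k (F finite), every isometry g of Q acting diagonally, diag(g, g), lies in Ω(Q ⊕ Q), the commutator subgroup of the orthogonal group of Q ⊕ Q. (Excluded: k = 2 over the field of two elements, where Q ⊕ Q is the hyperbolic 4-space whose orthogonal group's commutator subgroup is smaller than the group usually called Ω.) -/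
theorem result {F : Type*} [Field F] [Fintype F] {k : ℕ} (h : Fintype.card F ≠ 2 ∨ k ≠ 2) (Q : QuadraticForm F (Fin k → F)) (hQ : (QuadraticMap.polarBilin Q).Nondegenerate) (g : ↥(Cfsg.isometryGroup F ⇑Q)) : ∃ x : ↥(Cfsg.isometryGroup F (fun v : Fin k ⊕ Fin k → F => Q (v ∘ Sum.inl) + Q (v ∘ Sum.inr))), x ∈ Cfsg.Omega F (fun v : Fin k ⊕ Fin k → F => Q (v ∘ Sum.inl) + Q (v ∘ Sum.inr)) ∧ ((x : Matrix.GeneralLinearGroup (Fin k ⊕ Fin k) F) : Matrix (Fin k ⊕ Fin k) (Fin k ⊕ Fin k) F) = Matrix.fromBlocks ((g : Matrix.GeneralLinearGroup (Fin k) F) : Matrix (Fin k) (Fin k) F) 0 0 ((g : Matrix.GeneralLinearGroup (Fin k) F) : Matrix (Fin k) (Fin k) F) := by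
  classical
  let L : (Fin k ⊕ Fin k → F) →ₗ[F] (Fin k → F) := LinearMap.funLeft F F Sum.inl
  let R : (Fin k ⊕ Fin k → F) →ₗ[F] (Fin k → F) := LinearMap.funLeft F F Sum.inr
  have hfun : (fun v : Fin k ⊕ Fin k → F => Q (v ∘ Sum.inl) + Q (v ∘ Sum.inr)) = ⇑(Q.comp L + Q.comp R) := rfl
  rw [hfun]
  set S := Q.comp L + Q.comp R with hS
  have hSv : ∀ x y : Fin k → F, S (Sum.elim x y) = Q x + Q y := fun x y => rfl
  have hpol : ∀ a b c d : Fin k → F, polarBilin S (Sum.elim a b) (Sum.elim c d) =
      polarBilin Q a c + polarBilin Q b d := fun a b c d => by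
    have h1 : (Sum.elim a b : Fin k ⊕ Fin k → F) + Sum.elim c d = Sum.elim (a + c) (b + d) := by
      funext i; cases i <;> rfl
    rw [QuadraticMap.polarBilin_apply_apply, QuadraticMap.polarBilin_apply_apply, QuadraticMap.polarBilin_apply_apply,
      QuadraticMap.polar, QuadraticMap.polar, QuadraticMap.polar, h1, hSv, hSv, hSv]
    ring
  have hSn : (polarBilin S).Nondegenerate := by
    have hl : ∀ v, (∀ w, polarBilin S v w = 0) → v = 0 := by
      intro v hv
      rw [← Sum.elim_comp_inl_inr v] at hv ⊢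
      have ha : v ∘ Sum.inl = 0 := hQ.1 _ fun c => by
        have := hv (Sum.elim c 0); rw [hpol, map_zero, add_zero] at this; exact this
      have hb : v ∘ Sum.inr = 0 := hQ.1 _ fun c => by
        have := hv (Sum.elim 0 c); rw [hpol, map_zero, zero_add] at this; exact this
      rw [ha, hb]; funext i; cases i <;> rfl
    exact ⟨hl, fun v hv => hl v fun w => by rw [quad_polar_comm]; exact hv w⟩
  set G := ((g : Matrix.GeneralLinearGroup (Fin k) F) : Matrix (Fin k) (Fin k) F) with hG
  set G' := (((g : Matrix.GeneralLinearGroup (Fin k) F)⁻¹ : Matrix.GeneralLinearGroup (Fin k) F) :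
    Matrix (Fin k) (Fin k) F) with hG'
  have hmv : ∀ x y : Fin k → F, Matrix.fromBlocks G 0 0 G *ᵥ Sum.elim x y = Sum.elim (G *ᵥ x) (G *ᵥ y) :=
    fun x y => by simp [Matrix.fromBlocks_mulVec]
  let x₀ : Cfsg.isometryGroup F (⇑S) :=
    ⟨⟨Matrix.fromBlocks G 0 0 G, Matrix.fromBlocks G' 0 0 G', by
        simp [Matrix.fromBlocks_multiply, hG, hG', Matrix.fromBlocks_one, Matrix.mul_inv_of_invertible],
      by simp [Matrix.fromBlocks_multiply, hG, hG', Matrix.fromBlocks_one, Matrix.inv_mul_of_invertible]⟩,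
      mem_isometryGroup_iff.mpr fun v => by
        rw [← Sum.elim_comp_inl_inr v]
        show S (Matrix.fromBlocks G 0 0 G *ᵥ _) = _
        rw [hmv, hSv, hSv, mem_isometryGroup_iff.mp g.2, mem_isometryGroup_iff.mp g.2]⟩
  refine ⟨x₀, ?_, rfl⟩
  have hone : ∀ x y, oneSub S (isometryEquiv S x₀) (Sum.elim x y) =
      Sum.elim (oneSub Q (isometryEquiv Q g) x) (oneSub Q (isometryEquiv Q g) y) := by
    intro x y
    rw [oneSub_apply, oneSub_apply, oneSub_apply, isometryEquiv_apply, isometryEquiv_apply, isometryEquiv_apply]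
    show Sum.elim x y - Matrix.fromBlocks G 0 0 G *ᵥ Sum.elim x y = _
    rw [hmv]
    funext i; cases i <;> rfl
  obtain ⟨r, a, ha⟩ : ∃ r, ∃ a : Fin r → (Fin k → F), IsWallFrame Q (isometryEquiv Q g) a :=
    ⟨_, exists_wallFrame Q (isometryEquiv Q g)⟩
  let a' : Fin r ⊕ Fin r → (Fin k ⊕ Fin k → F) := Sum.elim (fun i => Sum.elim (a i) 0) (fun i => Sum.elim 0 (a i))
  have hspan0 : ∀ x, oneSub Q (isometryEquiv Q g) x ∈ Submodule.span F (Set.range fun i => oneSub Q (isometryEquiv Q g) (a i)) := by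
    have hle : Submodule.span F (Set.range fun i => oneSub Q (isometryEquiv Q g) (a i)) = movedSpace Q (isometryEquiv Q g) :=
      Submodule.eq_of_le_of_finrank_eq (Submodule.span_le.mpr (by rintro _ ⟨i, rfl⟩; exact ⟨a i, rfl⟩))
        (by rw [finrank_span_eq_card ha.1, Fintype.card_fin]; exact ha.2)
    intro x
    rw [hle]; exact ⟨x, rfl⟩
  obtain ⟨hD, hP⟩ := invariants_of_frame S hSn (isometryEquiv S x₀) a'
    (by
      refine Fintype.linearIndependent_iff.mpr fun c hc => ?_
      have h0 := Fintype.linearIndependent_iff.mp ha.1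
      have e1 : ∑ i, c (Sum.inl i) • oneSub Q (isometryEquiv Q g) (a i) = 0 := by
        funext j
        have := congrFun hc (Sum.inl j)
        simpa [a', hone, Finset.sum_apply, Fintype.sum_sum_type, map_zero] using this
      have e2 : ∑ i, c (Sum.inr i) • oneSub Q (isometryEquiv Q g) (a i) = 0 := by
        funext j
        have := congrFun hc (Sum.inr j)
        simpa [a', hone, Finset.sum_apply, Fintype.sum_sum_type, map_zero] using this
      rintro (i | i)
      · exact h0 _ e1 i
      · exact h0 _ e2 i)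
    (fun v => by
      obtain ⟨c, hc⟩ := (Submodule.mem_span_range_iff_exists_fun F).mp (hspan0 (v ∘ Sum.inl))
      obtain ⟨d, hd⟩ := (Submodule.mem_span_range_iff_exists_fun F).mp (hspan0 (v ∘ Sum.inr))
      rw [← Sum.elim_comp_inl_inr v, hone, Submodule.mem_span_range_iff_exists_fun]
      refine ⟨Sum.elim c d, ?_⟩
      rw [← hc, ← hd]
      funext j
      cases j <;> simp [a', hone, Finset.sum_apply, Fintype.sum_sum_type])
  rw [Fintype.card_sum, Fintype.card_fin, ← two_mul, pow_mul, neg_one_sq, one_pow] at hD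
  by_cases h2 : (2 : F) = 0
  · haveI : CharP F 2 := (CharP.charP_iff_prime_eq_zero Nat.prime_two).mpr (by exact_mod_cast h2)
    rcases Nat.eq_zero_or_pos k with rfl | hk
    · have : x₀ = 1 := Subtype.ext (Units.ext (Subsingleton.elim _ _))
      rw [this]; exact Subgroup.one_mem _
    · exact (mem_Omega_iff_even S hSn (by simp; omega)
        (exists_ne_zero_ne_one_or_of_card (h.imp id fun hk2 => by simp; omega)) x₀).mpr hD
  · rcases Nat.eq_zero_or_pos k with rfl | hk
    · have : x₀ = 1 := Subtype.ext (Units.ext (Subsingleton.elim _ _))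
      rw [this]; exact Subgroup.one_mem _
    · refine (mem_Omega_iff S hSn h2 (by simp; omega) x₀).mpr ⟨hD, ?_⟩
      rw [hP]
      have hW : (Matrix.of fun i j => polarBilin S (oneSub S (isometryEquiv S x₀) (a' i)) (a' j)) =
          Matrix.fromBlocks (wallMatrix Q (isometryEquiv Q g) a) 0 0 (wallMatrix Q (isometryEquiv Q g) a) := by
        ext i j
        rcases i with i | i <;> rcases j with j | j <;> simp [a', hone, hpol, wallMatrix]
      rw [hW, Matrix.det_fromBlocks_zero₂₁, ← mul_one ((wallMatrix Q (isometryEquiv Q g) a).det *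
        (wallMatrix Q (isometryEquiv Q g) a).det), sqClass_sq_mul _ (det_wallMatrix_ne_zero Q hQ ha)]
      exact sqClass_eq_one_iff.mpr IsSquare.one

end Cfsg.Agent.S2628
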