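import Cfsg.Statements.S2629
import Cfsg.Agent.Lib.QuadFin.SpinorApps
import Cfsg.Agent.Lib.QuadFin.WittIndex
import Cfsg.Agent.Lib.Geometry.MaxIsotropic

set_option autoImplicit false
open Cfsg

namespace Cfsg.Agent.S2629

open Matrix
open QuadraticMap (polarBilin)
open Cfsg.Agent.Lib.Geometry Cfsg.Agent.Lib.QuadFin

attribute [-simp] QuadraticMap.polarBilin_apply_apply


/-- For the hyperbolic form Σ x_i y_i on F^(2m) over a finite field of odd order (m ≥ 1), an isometry g preserves the class of the maximal totally singular subspace U₀ = {y = 0} (that is, m − dim(U₀ ∩ gU₀) is even) if and only if det g = 1: the stabiliser of each of the two classes of maximal totally singular subspaces is SO. -/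
theorem result {F : Type*} [Field F] [Fintype F] (h2 : (2 : F) ≠ 0) {m : ℕ} (hm : 1 ≤ m) (g : ↥(Cfsg.isometryGroup F (Cfsg.quadFormPlus m F))) : Even (m - Module.finrank F ↥(LinearMap.ker (LinearMap.funLeft F F (Sum.inr : Fin m → Fin m ⊕ Fin m)) ⊓ (LinearMap.ker (LinearMap.funLeft F F (Sum.inr : Fin m → Fin m ⊕ Fin m))).map (Matrix.mulVecLin ((g : Matrix.GeneralLinearGroup (Fin m ⊕ Fin m) F) : Matrix (Fin m ⊕ Fin m) (Fin m ⊕ Fin m) F)))) ↔ ((g : Matrix.GeneralLinearGroup (Fin m ⊕ Fin m) F) : Matrix (Fin m ⊕ Fin m) (Fin m ⊕ Fin m) F).det = 1 := by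
  classical
  revert g
  rw [quadFormPlus_eq]
  set Q := matQuad (plusMatrix m F) with hQdef
  intro g
  have hQ : (polarBilin Q).Nondegenerate := polarBilin_matQuad_nondegenerate (by
    rw [det_plusGram]; exact pow_ne_zero _ (neg_ne_zero.mpr one_ne_zero))
  have hn : Module.finrank F (Fin m ⊕ Fin m → F) = 2 * m := by
    rw [Module.finrank_fintype_fun_eq_card, Fintype.card_sum, Fintype.card_fin]; omega
  set U := xSubspace F m with hU
  have hU0 : ∀ u ∈ U, Q u = 0 := fun u hu =>
    (congrFun (quadFormPlus_eq m) u).symm.trans (xSubspace_singular hu)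
  let mv : quadIsometries Q → Submodule F (Fin m ⊕ Fin m → F) := fun h =>
    U.map ((h : (Fin m ⊕ Fin m → F) ≃ₗ[F] (Fin m ⊕ Fin m → F)) : (Fin m ⊕ Fin m → F) →ₗ[F] (Fin m ⊕ Fin m → F))
  let χ : quadIsometries Q → ℤˣ := fun h => (-1) ^ (m - Module.finrank F ↥(U ⊓ mv h))
  have hdim : ∀ h, Module.finrank F ↥(mv h) = m := fun h => by
    rw [LinearEquiv.finrank_map_eq]; exact finrank_xSubspace
  have hsing : ∀ h, ∀ u ∈ mv h, Q u = 0 := by
    rintro h _ ⟨u, hu, rfl⟩
    exact (h.2 u).trans (hU0 u hu)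
  have hχ : ∀ a b, χ (a * b) = χ a * χ b := by
    intro a b
    have h := even_codim_sum Q hQ hn (U := U) (W := mv a) (X := mv (a * b)) finrank_xSubspace hU0
      (hdim a) (hsing a) (hdim _) (hsing _)
    have e : Module.finrank F ↥(mv a ⊓ mv (a * b)) = Module.finrank F ↥(U ⊓ mv b) := by
      have hab : mv (a * b) = (mv b).map
          ((a : (Fin m ⊕ Fin m → F) ≃ₗ[F] (Fin m ⊕ Fin m → F)) : (Fin m ⊕ Fin m → F) →ₗ[F] (Fin m ⊕ Fin m → F)) := by
        rw [← Submodule.map_comp]; rfl
      rw [hab]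
      show Module.finrank F ↥(U.map _ ⊓ (mv b).map _) = _
      rw [← Submodule.map_inf _ (LinearEquiv.injective _), LinearEquiv.finrank_map_eq]
    rw [e] at h
    show (-1 : ℤˣ) ^ _ = (-1) ^ _ * (-1) ^ _
    rw [← pow_add]
    refine neg_one_pow_congr ?_
    rw [Nat.even_add, iff_comm] at h
    exact h
  let χh : quadIsometries Q →* ℤˣ := MonoidHom.mk' χ hχ
  let ι : ℤˣ →* F := (Int.castRingHom F).toMonoidHom.comp (Units.coeHom ℤ)
  let f₁ : Cfsg.isometryGroup F (⇑Q) →* F := ι.comp (χh.comp (isometryEquiv Q).toMonoidHom)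
  let f₂ : Cfsg.isometryGroup F (⇑Q) →* F :=
    Matrix.detMonoidHom.comp ((Units.coeHom _).comp (Cfsg.isometryGroup F (⇑Q)).subtype)
  have heq : f₁ = f₂ := by
    refine MonoidHom.eq_of_eqOn_dense (closure_reflectionMatrix_eq_top Q hQ (Or.inl ⟨-1, neg_ne_zero.mpr one_ne_zero,
      fun h => h2 (by linear_combination -h)⟩)) ?_
    rintro r ⟨v, hv, hr⟩
    show ι (χ (isometryEquiv Q r)) = ((r : Matrix.GeneralLinearGroup (Fin m ⊕ Fin m) F) :
      Matrix (Fin m ⊕ Fin m) (Fin m ⊕ Fin m) F).det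
    rw [hr, det_reflectionMatrix Q hv, (isometryEquiv_eq_refl_iff Q r v).mpr hr]
    have hfix : U ⊓ mv (refl Q v) = U ⊓ LinearMap.ker (polarBilin Q v) := by
      ext x
      constructor
      · rintro ⟨hx, y, hy, rfl⟩
        refine ⟨hx, ?_⟩
        show polarBilin Q v (_ : Fin m ⊕ Fin m → F) = 0
        by_contra hne
        change (refl Q v : (Fin m ⊕ Fin m → F) ≃ₗ[F] _) y ∈ U at hx
        rw [refl_apply] at hx
        have hvU : (Q v)⁻¹ * polarBilin Q v y ≠ 0 := fun h0 => by
          rcases mul_eq_zero.mp h0 with h0 | h0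
          · exact inv_ne_zero hv h0
          · apply hne
            show polarBilin Q v ((refl Q v : (Fin m ⊕ Fin m → F) ≃ₗ[F] _) y) = 0
            rw [refl_apply, map_sub, map_smul, h0, mul_zero, zero_smul, sub_zero]
        have hsm := U.sub_mem hy hx
        rw [sub_sub_cancel, U.smul_mem_iff hvU] at hsm
        exact hv (hU0 v hsm)
      · rintro ⟨hx, hx0⟩
        refine ⟨hx, x, hx, ?_⟩
        show (refl Q v : (Fin m ⊕ Fin m → F) ≃ₗ[F] _) x = x
        rw [refl_apply, show polarBilin Q v x = 0 from hx0, mul_zero, zero_smul, sub_zero]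
    have hne : (polarBilin Q v).comp U.subtype ≠ 0 := by
      intro h0
      have hvU : v ∈ polarPerp Q U := fun u hu => by
        show polarBilin Q u v = 0
        rw [quad_polar_comm]; exact LinearMap.congr_fun h0 ⟨u, hu⟩
      rw [polarPerp_eq_self Q hQ hn finrank_xSubspace hU0] at hvU
      exact hv (hU0 v hvU)
    have hk := LinearMap.finrank_range_add_finrank_ker ((polarBilin Q v).comp U.subtype)
    rw [LinearMap.range_eq_top.mpr (LinearMap.surjective hne), finrank_top, Module.finrank_self,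
      show Module.finrank F U = m from finrank_xSubspace] at hk
    have hki : Module.finrank F ↥(LinearMap.ker ((polarBilin Q v).comp U.subtype)) =
        Module.finrank F ↥(U ⊓ LinearMap.ker (polarBilin Q v)) := by
      rw [LinearEquiv.finrank_eq (Submodule.equivMapOfInjective U.subtype U.injective_subtype _),
        LinearMap.ker_comp, Submodule.map_comap_subtype]
    show ι ((-1) ^ (m - Module.finrank F ↥(U ⊓ mv (refl Q v)))) = -1
    rw [hfix, show m - Module.finrank F ↥(U ⊓ LinearMap.ker (polarBilin Q v)) = 1 by omega, pow_one]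
    simp [ι]
  have hg : ι (χ (isometryEquiv Q g)) = _ := DFunLike.congr_fun heq g
  show Even (m - Module.finrank F ↥(U ⊓ mv (isometryEquiv Q g))) ↔
    ((g : Matrix.GeneralLinearGroup (Fin m ⊕ Fin m) F) : Matrix (Fin m ⊕ Fin m) (Fin m ⊕ Fin m) F).det = 1
  rw [show ((g : Matrix.GeneralLinearGroup (Fin m ⊕ Fin m) F) : Matrix (Fin m ⊕ Fin m) (Fin m ⊕ Fin m) F).det =
    ι (χ (isometryEquiv Q g)) from hg.symm, ← neg_one_pow_eq_one_iff_even (R := ℤˣ) (by decide)]
  show χ (isometryEquiv Q g) = 1 ↔ _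
  rcases Int.units_eq_one_or (χ (isometryEquiv Q g)) with h | h <;> rw [h]
  · simp [ι]
  · refine iff_of_false (by decide) ?_
    simp [ι]
    exact fun h' => h2 (by linear_combination -h')

end Cfsg.Agent.S2629
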