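import Cfsg.Statements.S2630
import Cfsg.Agent.Lib.QuadFin.OmegaCriterion
import Cfsg.Agent.Lib.QuadFin.WittIndex

set_option autoImplicit false
open Cfsg

namespace Cfsg.Agent.S2630

open Matrix
open QuadraticMap (polarBilin)
open Cfsg.Agent.Lib.Geometry Cfsg.Agent.Lib.QuadFin

attribute [-simp] QuadraticMap.polarBilin_apply_apply


/-- For the hyperbolic form Σ x_i y_i on F^(2m) over a finite field of characteristic two (m ≥ 1, excluding m = 2 over the field of two elements), an isometry g preserves the class of the maximal totally singular subspace U₀ = {y = 0} (m − dim(U₀ ∩ gU₀) even) if and only if g lies in Ω (the commutator subgroup of the orthogonal group): the stabiliser of each class is Ω. -/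
theorem result {F : Type*} [Field F] [Fintype F] [CharP F 2] {m : ℕ} (hm : 1 ≤ m) (h : Fintype.card F ≠ 2 ∨ m ≠ 2) (g : ↥(Cfsg.isometryGroup F (Cfsg.quadFormPlus m F))) : Even (m - Module.finrank F ↥(LinearMap.ker (LinearMap.funLeft F F (Sum.inr : Fin m → Fin m ⊕ Fin m)) ⊓ (LinearMap.ker (LinearMap.funLeft F F (Sum.inr : Fin m → Fin m ⊕ Fin m))).map (Matrix.mulVecLin ((g : Matrix.GeneralLinearGroup (Fin m ⊕ Fin m) F) : Matrix (Fin m ⊕ Fin m) (Fin m ⊕ Fin m) F)))) ↔ g ∈ Cfsg.Omega F (Cfsg.quadFormPlus m F) := by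
  classical
  revert g
  rw [quadFormPlus_eq]
  intro g
  have hc : Fintype.card (Fin m ⊕ Fin m) = 2 * m := by simp [two_mul]
  have hexc := exists_ne_zero_ne_one_or_of_card (F := F) (n := Fintype.card (Fin m ⊕ Fin m))
    (h.imp id fun hm2 => by rw [hc]; omega)
  have hQ : (polarBilin (matQuad (plusMatrix m F))).Nondegenerate := polarBilin_matQuad_nondegenerate (by
    rw [det_plusGram]; exact pow_ne_zero _ (neg_ne_zero.mpr one_ne_zero))
  rw [mem_Omega_criterion _ hQ hexc, InKer, dickson_eq_codim _ hQ (by rwa [Module.finrank_fintype_fun_eq_card])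
    (by rw [Module.finrank_fintype_fun_eq_card, hc]) (xSubspace F m) finrank_xSubspace
    (fun u hu => (congrFun (quadFormPlus_eq m) u).symm.trans (xSubspace_singular hu))]
  have h2 : (2 : F) = 0 := CharTwo.two_eq_zero
  simp only [h2, ne_eq, not_true_eq_false, IsEmpty.forall_iff, and_true]
  rw [neg_one_pow_eq_one_iff_even (by decide)]
  rfl

end Cfsg.Agent.S2630
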