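import Cfsg.Statements.S2631
import Cfsg.Agent.Lib.QuadFin.OmegaCriterion
import Cfsg.Agent.Lib.QuadFin.WittIndex

set_option autoImplicit false
open Cfsg

namespace Cfsg.Agent.S2631

open Matrix
open QuadraticMap (polarBilin)
open Cfsg.Agent.Lib.Geometry Cfsg.Agent.Lib.QuadFin

attribute [-simp] QuadraticMap.polarBilin_apply_apply


/-- For the hyperbolic form Σ x_i y_i on F^(2m) over a finite field (m ≥ 1, excluding m = 2 over the field of two elements), Ω (the commutator subgroup of the orthogonal group) acts transitively on each of the two classes of maximal totally singular subspaces: if U and W are m-dimensional totally singular subspaces with m − dim(U ∩ W) even, some element of Ω carries U to W. -/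
theorem result {F : Type*} [Field F] [Fintype F] {m : ℕ} (hm : 1 ≤ m) (h : Fintype.card F ≠ 2 ∨ m ≠ 2) (U W : Submodule F (Fin m ⊕ Fin m → F)) (hU : Module.finrank F U = m) (hW : Module.finrank F W = m) (hU0 : ∀ u ∈ U, Cfsg.quadFormPlus m F u = 0) (hW0 : ∀ w ∈ W, Cfsg.quadFormPlus m F w = 0) (he : Even (m - Module.finrank F ↥(U ⊓ W))) : ∃ g : ↥(Cfsg.isometryGroup F (Cfsg.quadFormPlus m F)), g ∈ Cfsg.Omega F (Cfsg.quadFormPlus m F) ∧ U.map (Matrix.mulVecLin ((g : Matrix.GeneralLinearGroup (Fin m ⊕ Fin m) F) : Matrix (Fin m ⊕ Fin m) (Fin m ⊕ Fin m) F)) = W := by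
  classical
  rw [quadFormPlus_eq] at hU0 hW0 ⊢
  have hc : Fintype.card (Fin m ⊕ Fin m) = 2 * m := by simp [two_mul]
  have hexc := exists_ne_zero_ne_one_or_of_card (F := F) (n := Fintype.card (Fin m ⊕ Fin m))
    (h.imp id fun hm2 => by rw [hc]; omega)
  have hexc' : (∃ a : F, a ≠ 0 ∧ a ≠ 1) ∨ Module.finrank F (Fin m ⊕ Fin m → F) ≠ 4 := by
    rwa [Module.finrank_fintype_fun_eq_card]
  have hn : Module.finrank F (Fin m ⊕ Fin m → F) = 2 * m := by rw [Module.finrank_fintype_fun_eq_card, hc]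
  set Q := matQuad (plusMatrix m F)
  have hQ : (polarBilin Q).Nondegenerate := polarBilin_matQuad_nondegenerate (by
    rw [det_plusGram]; exact pow_ne_zero _ (neg_ne_zero.mpr one_ne_zero))
  obtain ⟨g, hg⟩ := exists_map_eq_singular Q hQ U W (hU.trans hW.symm) hU0 hW0
  have hd : dickson Q g = 1 := by
    rw [dickson_eq_codim Q hQ hexc' hn U hU hU0, hg, he.neg_one_pow]
  obtain ⟨t, htW, ht⟩ : ∃ t : quadIsometries Q, (∀ w ∈ W, (t : (Fin m ⊕ Fin m → F) ≃ₗ[F] (Fin m ⊕ Fin m → F)) w ∈ W) ∧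
      InKer Q (t * g) := by
    by_cases h2 : (2 : F) = 0
    · exact ⟨1, fun w hw => hw, by rw [one_mul]; exact hd, fun h' => absurd h2 h'⟩
    rcases Int.units_eq_one_or (spinor Q g) with hs | hs
    · exact ⟨1, fun w hw => hw, by rw [one_mul]; exact hd, fun _ => by rw [one_mul, hs]⟩
    · have hWb : W ≠ ⊥ := by
        intro hb; rw [hb, finrank_bot] at hW; omega
      obtain ⟨t, ht, htd, hts⟩ := exists_stab_spinor Q hQ h2 W hWb hW0
      refine ⟨t, ht, ?_, fun _ => ?_⟩
      · rw [dickson_mul Q hQ hexc', htd, hd, one_mul]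
      · rw [spinor_mul Q hQ hexc', hts, hs]; decide
  refine exists_mem_Omega_map Q hQ hexc U W (t * g) ht ?_
  exact (Submodule.map_comp _ _ U).trans ((congrArg _ hg).trans (map_eq_of_stab Q t htW))

end Cfsg.Agent.S2631
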