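import Cfsg.Statements.S2632
import Cfsg.Agent.Lib.QuadFin.OmegaCriterion

set_option autoImplicit false
open Cfsg

namespace Cfsg.Agent.S2632

open Matrix
open QuadraticMap (polarBilin)
open Cfsg.Agent.Lib.Geometry Cfsg.Agent.Lib.QuadFin

attribute [-simp] QuadraticMap.polarBilin_apply_apply


/-- Ω is transitive on non-degenerate subspaces of each isometry type: for a quadratic form Q on F^n, n ≥ 3, with non-degenerate polar form (F finite; excluding dimension 4 over the field of two elements), if U and W are subspaces on which the polar form is non-degenerate and there is a Q-preserving linear isomorphism U → W, then some element of Ω (the commutator subgroup of the orthogonal group) carries U to W. (In dimension 2 this fails: Ω can be {±1}, which fixes every line.) -/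
theorem result {F : Type*} [Field F] [Fintype F] {n : ℕ} (hn : 3 ≤ n) (h : Fintype.card F ≠ 2 ∨ n ≠ 4) (Q : QuadraticForm F (Fin n → F)) (hQ : (QuadraticMap.polarBilin Q).Nondegenerate) (U W : Submodule F (Fin n → F)) (hU : U ⊓ LinearMap.BilinForm.orthogonal (QuadraticMap.polarBilin Q) U = ⊥) (hW : W ⊓ LinearMap.BilinForm.orthogonal (QuadraticMap.polarBilin Q) W = ⊥) (e : U ≃ₗ[F] W) (he : ∀ u : U, Q (e u : Fin n → F) = Q (u : Fin n → F)) : ∃ g : ↥(Cfsg.isometryGroup F ⇑Q), g ∈ Cfsg.Omega F ⇑Q ∧ U.map (Matrix.mulVecLin ((g : Matrix.GeneralLinearGroup (Fin n) F) : Matrix (Fin n) (Fin n) F)) = W := by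
  classical
  have hexc := exists_ne_zero_ne_one_or_of_card (F := F) (n := Fintype.card (Fin n))
    (h.imp id fun hn4 => by rw [Fintype.card_fin]; exact hn4)
  have hfr : Module.finrank F (Fin n → F) = n := Module.finrank_fin_fun F
  have hexc' : (∃ a : F, a ≠ 0 ∧ a ≠ 1) ∨ Module.finrank F (Fin n → F) ≠ 4 := by
    rwa [Module.finrank_fintype_fun_eq_card]
  obtain ⟨g, hg, hge⟩ := witt_quadratic Q hQ U (W.subtype.comp e.toLinearMap)
    (W.injective_subtype.comp e.injective) he
  obtain ⟨gg, hgU⟩ : ∃ gg : quadIsometries Q, U.map ((gg : (Fin n → F) ≃ₗ[F] (Fin n → F)) : (Fin n → F) →ₗ[F] (Fin n → F)) = W := by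
    refine ⟨⟨g, hg⟩, ?_⟩
    refine le_antisymm ?_ fun w hw => ?_
    · rintro _ ⟨u, hu, rfl⟩
      show g u ∈ W
      rw [show g u = (e ⟨u, hu⟩ : Fin n → F) from hge ⟨u, hu⟩]
      exact (e _).2
    · obtain ⟨u, hu⟩ := e.surjective ⟨w, hw⟩
      exact ⟨u, u.2, (hge u).trans (congrArg Subtype.val hu)⟩
  -- a subspace `Z` among `W`, `W⊥` of dimension at least two
  have hWW : LinearMap.BilinForm.orthogonal (polarBilin Q) W = polarPerp Q W := rfl
  rw [hWW] at hW
  have hfp := finrank_polarPerp Q hQ W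
  obtain ⟨Z, hZ2, hZnd, hZst⟩ : ∃ Z : Submodule F (Fin n → F), 2 ≤ Module.finrank F Z ∧
      Z ⊓ polarPerp Q Z = ⊥ ∧
      ∀ v ∈ Z, ∀ w ∈ W, (refl Q v : (Fin n → F) ≃ₗ[F] (Fin n → F)) w ∈ W := by
    by_cases h2W : 2 ≤ Module.finrank F W
    · exact ⟨W, h2W, hW, fun v hv w hw => by
        rw [refl_apply]; exact W.sub_mem hw (W.smul_mem _ hv)⟩
    · refine ⟨polarPerp Q W, by omega, ?_, fun v hv w hw => ?_⟩
      · rw [polarPerp_polarPerp Q hQ, inf_comm]; exact hW
      · rw [refl_apply, quad_polar_comm Q v w, show polarBilin Q w v = 0 from hv w hw, mul_zero,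
          zero_smul, sub_zero]
        exact hw
  set QZ : QuadraticForm F Z := Q.comp Z.subtype with hQZ
  have hpol : ∀ a b : Z, polarBilin QZ a b = polarBilin Q (a : Fin n → F) (b : Fin n → F) := fun a b => by
    simp only [QuadraticMap.polarBilin_apply_apply, QuadraticMap.polar, hQZ, QuadraticMap.comp_apply, map_add]
    rfl
  have hQZn : (polarBilin QZ).Nondegenerate := by
    have hl : ∀ a : Z, (∀ b, polarBilin QZ a b = 0) → a = 0 := fun a ha => by
      have hm : (a : Fin n → F) ∈ Z ⊓ polarPerp Q Z := ⟨a.2, fun u hu => by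
        show polarBilin Q u a = 0
        rw [quad_polar_comm, ← hpol a ⟨u, hu⟩]; exact ha _⟩
      rw [hZnd] at hm
      exact Subtype.ext hm
    exact ⟨hl, fun b hb => hl b fun a => by rw [quad_polar_comm]; exact hb a⟩
  let P : quadIsometries Q → Prop := fun t => ∀ w ∈ W, (t : (Fin n → F) ≃ₗ[F] (Fin n → F)) w ∈ W
  obtain ⟨v, hv⟩ := exists_quad_ne_zero_of_nondeg QZ hQZn (by omega)
  obtain ⟨t, htW, ht⟩ := exists_adjust Q hQ hexc' P (fun w hw => hw) (fun a b ha hb w hw => ha _ (hb w hw))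
    (hZst v v.2) (dickson_refl Q hQ (v := (v : Fin n → F)) hv)
    (fun h2 => by
      obtain ⟨a, b, ha, hb, hb0⟩ := exists_quad_class_vectors QZ hQZn h2 hZ2
      have ha' : Q (a : Fin n → F) = 1 := ha
      have ha0 : Q (a : Fin n → F) ≠ 0 := by rw [ha']; exact one_ne_zero
      refine ⟨refl Q (a : Fin n → F) * refl Q (b : Fin n → F), fun w hw => hZst _ a.2 _ (hZst _ b.2 w hw), ?_, ?_⟩
      · rw [dickson_refl_mul Q hQ _ ha0, dickson_refl Q hQ (v := (b : Fin n → F)) hb0, neg_neg]
      · rw [spinor_refl_mul Q hQ _ ha0, spinor_refl Q hQ (v := (b : Fin n → F)) hb0, ha',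
          sqClass_eq_one_iff.mpr IsSquare.one, one_mul]
        exact sqClass_eq_neg_one_iff.mpr hb)
    gg
  refine exists_mem_Omega_map Q hQ hexc U W (t * gg) ht ?_
  exact (Submodule.map_comp _ _ U).trans ((congrArg _ hgU).trans (map_eq_of_stab Q t htW))

end Cfsg.Agent.S2632
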