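import Cfsg.Statements.S2633
import Cfsg.Agent.Lib.QuadFin.OmegaCriterion
import Cfsg.Agent.Lib.QuadFin.WittIndex

set_option autoImplicit false
open Cfsg

namespace Cfsg.Agent.S2633

open Matrix
open QuadraticMap (polarBilin)
open Cfsg.Agent.Lib.Geometry Cfsg.Agent.Lib.QuadFin

attribute [-simp] QuadraticMap.polarBilin_apply_apply


/-- Ω is transitive on totally singular subspaces of each dimension less than half the dimension: for a quadratic form Q on F^n with non-degenerate polar form (F finite; excluding dimension 4 over the field of two elements), if U and W are subspaces of the same dimension k with 2k < n on which Q vanishes, then some element of Ω (the commutator subgroup of the orthogonal group) carries U to W. -/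
theorem result {F : Type*} [Field F] [Fintype F] {n : ℕ} (h : Fintype.card F ≠ 2 ∨ n ≠ 4) (Q : QuadraticForm F (Fin n → F)) (hQ : (QuadraticMap.polarBilin Q).Nondegenerate) (U W : Submodule F (Fin n → F)) {k : ℕ} (hk : 2 * k < n) (hU : Module.finrank F U = k) (hW : Module.finrank F W = k) (hU0 : ∀ u ∈ U, Q u = 0) (hW0 : ∀ w ∈ W, Q w = 0) : ∃ g : ↥(Cfsg.isometryGroup F ⇑Q), g ∈ Cfsg.Omega F ⇑Q ∧ U.map (Matrix.mulVecLin ((g : Matrix.GeneralLinearGroup (Fin n) F) : Matrix (Fin n) (Fin n) F)) = W := by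
  classical
  have hexc := exists_ne_zero_ne_one_or_of_card (F := F) (n := Fintype.card (Fin n))
    (h.imp id fun hn4 => by rw [Fintype.card_fin]; exact hn4)
  have hexc' : (∃ a : F, a ≠ 0 ∧ a ≠ 1) ∨ Module.finrank F (Fin n → F) ≠ 4 := by
    rwa [Module.finrank_fintype_fun_eq_card]
  rcases Nat.eq_zero_or_pos k with rfl | hk0
  · refine exists_mem_Omega_map Q hQ hexc U W 1 ⟨dickson_one Q, fun _ => spinor_one Q hQ⟩ ?_
    rw [Submodule.finrank_eq_zero.mp hU, Submodule.finrank_eq_zero.mp hW, Submodule.map_bot]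
  obtain ⟨g, hg⟩ := exists_map_eq_singular Q hQ U W (hU.trans hW.symm) hU0 hW0
  obtain ⟨v, hvW, hv⟩ := exists_nonsingular_perp Q hQ W (by rw [hW, Module.finrank_fin_fun]; exact hk) hW0
  have hWb : W ≠ ⊥ := by
    intro hb; rw [hb, finrank_bot] at hW; omega
  obtain ⟨t, htW, ht⟩ := exists_adjust Q hQ hexc'
    (fun t => ∀ w ∈ W, (t : (Fin n → F) ≃ₗ[F] (Fin n → F)) w ∈ W) (fun w hw => hw)
    (fun a b ha hb w hw => ha _ (hb w hw))
    (fun w hw => by rw [refl_apply, hvW w hw, mul_zero, zero_smul, sub_zero]; exact hw)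
    (dickson_refl Q hQ hv) (fun h2 => exists_stab_spinor Q hQ h2 W hWb hW0) g
  refine exists_mem_Omega_map Q hQ hexc U W (t * g) ht ?_
  exact (Submodule.map_comp _ _ U).trans ((congrArg _ hg).trans (map_eq_of_stab Q t htW))

end Cfsg.Agent.S2633
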