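import Cfsg.Statements.S2634
import Cfsg.Agent.Lib.QuadFin.OmegaCriterion
import Cfsg.Agent.Lib.QuadFin.WittIndex

set_option autoImplicit false
open Cfsg

namespace Cfsg.Agent.S2634

open Matrix
open QuadraticMap (polarBilin)
open Cfsg.Agent.Lib.Geometry Cfsg.Agent.Lib.QuadFin

attribute [-simp] QuadraticMap.polarBilin_apply_apply


/-- Over a finite field of characteristic two, Ω (the commutator subgroup of the orthogonal group of a quadratic form Q on F^n with non-degenerate polar form; excluding dimension 4 over the field of two elements) acts transitively on the non-singular 1-spaces: for u, v with Q(u) ≠ 0 and Q(v) ≠ 0 some element of Ω carries the line through u to the line through v. -/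
theorem result {F : Type*} [Field F] [Fintype F] [CharP F 2] {n : ℕ} (h : Fintype.card F ≠ 2 ∨ n ≠ 4) (Q : QuadraticForm F (Fin n → F)) (hQ : (QuadraticMap.polarBilin Q).Nondegenerate) (u v : Fin n → F) (hu : Q u ≠ 0) (hv : Q v ≠ 0) : ∃ g : ↥(Cfsg.isometryGroup F ⇑Q), g ∈ Cfsg.Omega F ⇑Q ∧ (F ∙ ((g : Matrix.GeneralLinearGroup (Fin n) F) : Matrix (Fin n) (Fin n) F).mulVec u) = F ∙ v := by
  classical
  have hexc := exists_ne_zero_ne_one_or_of_card (F := F) (n := Fintype.card (Fin n))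
    (h.imp id fun hn4 => by rw [Fintype.card_fin]; exact hn4)
  have hexc' : (∃ a : F, a ≠ 0 ∧ a ≠ 1) ∨ Module.finrank F (Fin n → F) ≠ 4 := by
    rwa [Module.finrank_fintype_fun_eq_card]
  obtain ⟨t, ht⟩ := FiniteField.isSquare_of_char_two (ringChar.eq F 2) (Q u / Q v)
  have hQ' : Q (t • v) = Q u := by rw [quad_smul, ← ht, div_mul_cancel₀ _ hv]
  have hu0 : u ≠ 0 := fun h0 => hu (by rw [h0, map_zero])
  have ht0 : t ≠ 0 := fun h0 => hu (by rw [← hQ', h0, zero_smul, map_zero])
  obtain ⟨g, hg⟩ := exists_isometry_apply_eq Q hQ hu0 (smul_ne_zero ht0 (fun h0 => hv (by rw [h0, map_zero]))) hQ'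
  obtain ⟨s, hsP, hs⟩ := exists_adjust Q hQ hexc'
    (fun s => ∀ w ∈ (F ∙ v), (s : (Fin n → F) ≃ₗ[F] (Fin n → F)) w ∈ (F ∙ v)) (fun w hw => hw)
    (fun a b ha hb w hw => ha _ (hb w hw)) (r := refl Q v)
    (fun w hw => by
      rw [refl_apply]
      exact Submodule.sub_mem _ hw (Submodule.smul_mem _ _ (Submodule.mem_span_singleton_self v)))
    (dickson_refl Q hQ hv) (fun h2 => absurd CharTwo.two_eq_zero h2) g
  have hgu : (F ∙ u).map ((g : (Fin n → F) ≃ₗ[F] (Fin n → F)) : (Fin n → F) →ₗ[F] (Fin n → F)) = (F ∙ v) := by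
    rw [Submodule.map_span, Set.image_singleton]
    show (F ∙ (g : (Fin n → F) ≃ₗ[F] (Fin n → F)) u) = _
    rw [hg]
    exact Submodule.span_singleton_smul_eq (isUnit_iff_ne_zero.mpr ht0) v
  obtain ⟨x, hx, hxe⟩ := exists_mem_Omega_map Q hQ hexc (F ∙ u) (F ∙ v) (s * g) hs
    ((Submodule.map_comp _ _ _).trans ((congrArg _ hgu).trans (map_eq_of_stab Q s hsP)))
  refine ⟨x, hx, ?_⟩
  rw [← hxe, Submodule.map_span, Set.image_singleton, Matrix.mulVecLin_apply]

end Cfsg.Agent.S2634
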