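import Cfsg.Statements.S2635
import Cfsg.Agent.Lib.QuadFin.OmegaCriterion
import Cfsg.Agent.Lib.QuadFin.WittIndex

set_option autoImplicit false
open Cfsg

namespace Cfsg.Agent.S2635

open Matrix
open QuadraticMap (polarBilin)
open Cfsg.Agent.Lib.Geometry Cfsg.Agent.Lib.QuadFin

attribute [-simp] QuadraticMap.polarBilin_apply_apply


/-- Over a finite field of characteristic two, for a quadratic form Q on F^n with non-degenerate polar form, n ≥ 2, other than dimension 4 over the field of two elements, Ω (the commutator subgroup of the orthogonal group) is exactly the subgroup generated by the products of two reflections (orthogonal transvections) x ↦ x − Q(v)⁻¹ f(x, v) v, Q(v) ≠ 0: the products of an even number of reflections. -/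
theorem result {F : Type*} [Field F] [Fintype F] [CharP F 2] {n : ℕ} (hn : 2 ≤ n) (h : Fintype.card F ≠ 2 ∨ n ≠ 4) (Q : QuadraticForm F (Fin n → F)) (hQ : (QuadraticMap.polarBilin Q).Nondegenerate) : Cfsg.Omega F ⇑Q = Subgroup.closure {g : ↥(Cfsg.isometryGroup F ⇑Q) | ∃ u v : Fin n → F, Q u ≠ 0 ∧ Q v ≠ 0 ∧ ((g : Matrix.GeneralLinearGroup (Fin n) F) : Matrix (Fin n) (Fin n) F) = Cfsg.reflectionMatrix ⇑Q u * Cfsg.reflectionMatrix ⇑Q v} := by
  classical
  have hexc := exists_ne_zero_ne_one_or_of_card (F := F) (n := Fintype.card (Fin n))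
    (h.imp id fun hn4 => by rw [Fintype.card_fin]; exact hn4)
  have hexc' : (∃ a : F, a ≠ 0 ∧ a ≠ 1) ∨ Module.finrank F (Fin n → F) ≠ 4 := by
    rwa [Module.finrank_fintype_fun_eq_card]
  have hn' : 1 ≤ Fintype.card (Fin n) := by rw [Fintype.card_fin]; omega
  set S := {g : ↥(Cfsg.isometryGroup F ⇑Q) | ∃ u v : Fin n → F, Q u ≠ 0 ∧ Q v ≠ 0 ∧ ((g : Matrix.GeneralLinearGroup (Fin n) F) : Matrix (Fin n) (Fin n) F) = Cfsg.reflectionMatrix ⇑Q u * Cfsg.reflectionMatrix ⇑Q v} with hS
  refine le_antisymm (fun g hg => ?_) ((Subgroup.closure_le _).mpr ?_)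
  · rw [mem_Omega_iff_even Q hQ hn' hexc] at hg
    have hlist : ∀ h : quadIsometries Q, ∃ vs : List (Fin n → F), (∀ v ∈ vs, Q v ≠ 0) ∧ h = (vs.map (refl Q)).prod := by
      intro h
      have hh : h ∈ Subgroup.closure {g : quadIsometries Q | ∃ v, Q v ≠ 0 ∧ g = refl Q v} := by
        rw [closure_refl_eq_top Q hQ hexc']; exact Subgroup.mem_top h
      induction hh using Subgroup.closure_induction_left with
      | one => exact ⟨[], by simp, by simp⟩
      | mul_left x hx y _ ih =>
        obtain ⟨v, hv, rfl⟩ := hx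
        obtain ⟨vs, hvs, rfl⟩ := ih
        exact ⟨v :: vs, List.forall_mem_cons.mpr ⟨hv, hvs⟩, by simp⟩
      | inv_mul_cancel x hx y _ ih =>
        obtain ⟨v, hv, rfl⟩ := hx
        obtain ⟨vs, hvs, rfl⟩ := ih
        exact ⟨v :: vs, List.forall_mem_cons.mpr ⟨hv, hvs⟩, by
          rw [inv_eq_of_mul_eq_one_right (refl_mul_self Q v), List.map_cons, List.prod_cons]⟩
    obtain ⟨vs, hvs, hgv⟩ := hlist (isometryEquiv Q g)
    rw [hgv, dickson_list Q hQ vs hvs, neg_one_pow_eq_one_iff_even (by decide)] at hg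
    have key : ∀ k : ℕ, ∀ ws : List (Fin n → F), ws.length = 2 * k → (∀ v ∈ ws, Q v ≠ 0) →
        (isometryEquiv Q).symm (ws.map (refl Q)).prod ∈ Subgroup.closure S := by
      intro k
      induction k with
      | zero =>
        intro ws hl _
        rw [List.length_eq_zero_iff.mp hl, List.map_nil, List.prod_nil, map_one]
        exact Subgroup.one_mem _
      | succ k ih =>
        intro ws hl hw
        match ws, hl, hw with
        | a :: b :: rest, hl, hw =>
          rw [List.map_cons, List.map_cons, List.prod_cons, List.prod_cons, ← mul_assoc, map_mul]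
          refine Subgroup.mul_mem _ (Subgroup.subset_closure ?_) (ih rest (by simp at hl ⊢; omega)
            fun v hv => hw v (by simp [hv]))
          refine ⟨a, b, hw a (by simp), hw b (by simp), ?_⟩
          rw [map_mul, Subgroup.coe_mul, Units.val_mul,
            (isometryEquiv_eq_refl_iff Q _ a).mp (MulEquiv.apply_symm_apply _ _),
            (isometryEquiv_eq_refl_iff Q _ b).mp (MulEquiv.apply_symm_apply _ _)]
    obtain ⟨k, hk⟩ := hg
    have := key k vs (by omega) hvs
    rwa [← hgv, MulEquiv.symm_apply_apply] at this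
  · rintro g ⟨u, v, hu, hv, hg⟩
    show g ∈ Cfsg.Omega F ⇑Q
    rw [mem_Omega_iff_even Q hQ hn' hexc,
      isometryEquiv_of_list Q g [u, v] (by simpa using hg),
      dickson_list Q hQ [u, v] (by simp [hu, hv])]
    simp

end Cfsg.Agent.S2635
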