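import Cfsg.Statements.S2636

set_option autoImplicit false
open Cfsg

namespace Cfsg.Agent.S2636

/-- Centraliser of a field automorphism in PGL_n: let F be the field with q = q₀^r elements, σ a field automorphism of F of prime order r (so its fixed field has q₀ elements) and n ≥ 1. The invertible matrices g whose entrywise image under σ is a scalar multiple of g — those whose coset modulo scalars is fixed by σ — number (q − 1)/(q₀ − 1) · |GL_n(q₀)|; equivalently the centraliser in PGL_n(q) of the induced automorphism has the order of PGL_n(q₀). -/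
theorem result {F : Type*} [Field F] [Fintype F] {q₀ r n : ℕ} (hr : r.Prime) (hn : 1 ≤ n) (hF : Fintype.card F = q₀ ^ r) (σ : F ≃+* F) (hσ : orderOf σ = r) : Nat.card {g : GL (Fin n) F // ∃ c : F, c ≠ 0 ∧ (g : Matrix (Fin n) (Fin n) F).map σ = c • (g : Matrix (Fin n) (Fin n) F)} = (q₀ ^ r - 1) / (q₀ - 1) * ∏ i : Fin n, (q₀ ^ n - q₀ ^ (i : ℕ)) := by
  classical
  let G := Subgroup.zpowers (σ : RingAut F)
  have : FaithfulSMul G F := ⟨fun {a b} h => Subtype.ext (RingEquiv.ext h)⟩
  have : Finite (RingAut F) := Finite.of_injective (fun e : RingAut F => (e : F → F)) DFunLike.coe_injective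
  have : Fintype G := Fintype.ofFinite _
  let F₀ := FixedPoints.subfield G F
  have hmem₀ : ∀ x : F, x ∈ F₀ ↔ σ x = x := fun x => by
    constructor
    · exact fun h => h ⟨σ, Subgroup.mem_zpowers _⟩
    · intro h m
      obtain ⟨m, hm⟩ := m
      obtain ⟨k, rfl⟩ := hm
      show ((σ : RingAut F) ^ k) x = x
      exact (MulAction.stabilizer (RingAut F) x).zpow_mem (show (σ : RingAut F) • x = x from h) k
  have hq₀ : Nat.card F₀ = q₀ := by
    have h := Module.natCard_eq_pow_finrank (K := F₀) (V := F)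
    rw [FixedPoints.finrank_eq_card G F, Nat.card_eq_fintype_card, hF, ← Nat.card_eq_fintype_card (α := G)] at h
    rw [Nat.card_zpowers, show orderOf (σ : RingAut F) = r from hσ] at h
    exact (Nat.pow_left_injective hr.pos.ne' h).symm
  -- the product map
  let sc : Fˣ →* GL (Fin n) F := Units.map (Matrix.scalar (Fin n) : F →+* Matrix (Fin n) (Fin n) F).toMonoidHom
  let inc : GL (Fin n) F₀ →* GL (Fin n) F := Matrix.GeneralLinearGroup.map (F₀.subtype)
  have hsc : ∀ (a : Fˣ) (h : GL (Fin n) F), sc a * h = h * sc a := fun a h => Units.ext (by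
    simp [sc, Matrix.scalar_apply, ← Matrix.smul_one_eq_diagonal])
  let φ : Fˣ × GL (Fin n) F₀ →* GL (Fin n) F := MonoidHom.mk' (fun x => sc x.1 * inc x.2) (fun x y => by
    simp only [Prod.fst_mul, Prod.snd_mul, map_mul]
    rw [mul_assoc, mul_assoc]
    congr 1
    rw [← mul_assoc, ← mul_assoc, hsc])
  have hval : ∀ x i j, (φ x : Matrix (Fin n) (Fin n) F) i j = (x.1 : F) * ((x.2 : Matrix (Fin n) (Fin n) F₀) i j : F) := by
    intro x i j
    simp [φ, sc, inc, Matrix.scalar_apply, Matrix.diagonal_mul]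
  have hS : {g : GL (Fin n) F | ∃ c : F, c ≠ 0 ∧ (g : Matrix (Fin n) (Fin n) F).map σ = c • (g : Matrix (Fin n) (Fin n) F)} =
      (φ.range : Set (GL (Fin n) F)) := by
    ext g
    constructor
    · rintro ⟨c, hc, hg⟩
      obtain ⟨i, j, hij⟩ : ∃ i j, (g : Matrix (Fin n) (Fin n) F) i j ≠ 0 := by
        by_contra! h
        have : Nonempty (Fin n) := ⟨⟨0, hn⟩⟩
        exact g.ne_zero (Matrix.ext h)
      set a := (g : Matrix (Fin n) (Fin n) F) i j
      have hfix : ∀ k l, a⁻¹ * (g : Matrix (Fin n) (Fin n) F) k l ∈ F₀ := fun k l => by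
        rw [hmem₀, map_mul, map_inv₀]
        have e : ∀ k l, σ ((g : Matrix (Fin n) (Fin n) F) k l) = c * (g : Matrix (Fin n) (Fin n) F) k l := fun k l => by
          simpa using congrFun (congrFun hg k) l
        rw [show σ a = c * a from e i j, e k l]
        field_simp
      let h₀ : Matrix (Fin n) (Fin n) F₀ := Matrix.of fun k l => ⟨_, hfix k l⟩
      have hh : h₀.map F₀.subtype = a⁻¹ • (g : Matrix (Fin n) (Fin n) F) := rfl
      have hdet : h₀.det ≠ 0 := fun h => by
        have := congrArg F₀.subtype h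
        rw [RingHom.map_det, RingHom.mapMatrix_apply, hh, map_zero, Matrix.det_smul] at this
        exact mul_ne_zero (pow_ne_zero _ (inv_ne_zero hij)) ((Matrix.isUnit_iff_isUnit_det _).mp g.isUnit).ne_zero this
      refine ⟨(Units.mk0 a hij, Matrix.GeneralLinearGroup.mkOfDetNeZero h₀ hdet), Units.ext (Matrix.ext fun k l => ?_)⟩
      rw [hval]
      show a * (a⁻¹ * (g : Matrix (Fin n) (Fin n) F) k l) = _
      field_simp
    · rintro ⟨x, rfl⟩
      refine ⟨σ (x.1 : F) * (x.1 : F)⁻¹, mul_ne_zero (by simp) (by simp), Matrix.ext fun k l => ?_⟩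
      simp only [Matrix.map_apply, Matrix.smul_apply, hval, smul_eq_mul, map_mul, (hmem₀ _).mp ((x.2 : Matrix (Fin n) (Fin n) F₀) k l).2]
      field_simp
  have hker : Nat.card φ.ker = q₀ - 1 := by
    rw [← hq₀, ← Nat.card_units]
    let u : F₀ˣ →* φ.ker := MonoidHom.mk' (fun a => ⟨(Units.map F₀.subtype.toMonoidHom a,
      Units.map (Matrix.scalar (Fin n) : F₀ →+* Matrix (Fin n) (Fin n) F₀).toMonoidHom a⁻¹), by
        rw [MonoidHom.mem_ker]
        refine Units.ext (Matrix.ext fun k l => ?_)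
        rw [hval]
        rcases eq_or_ne k l with rfl | hkl
        · simp [Matrix.scalar_apply]
        · simp [Matrix.scalar_apply, hkl]⟩) (fun a b => Subtype.ext (by simp [mul_comm]))
    refine (Nat.card_eq_of_bijective u ⟨fun a b h => ?_, ?_⟩).symm
    · have := congrArg (fun z : φ.ker => ((z : Fˣ × GL (Fin n) F₀).1 : F)) h
      exact Units.ext (Subtype.ext this)
    · rintro ⟨⟨a, h⟩, hk⟩
      have e : ∀ k l, (a : F) * ((h : Matrix (Fin n) (Fin n) F₀) k l : F) = (1 : Matrix (Fin n) (Fin n) F) k l := fun k l => by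
        have e := hval (a, h) k l
        rw [MonoidHom.mem_ker.mp hk, Units.val_one] at e
        exact e.symm
      have e0 := e ⟨0, hn⟩ ⟨0, hn⟩
      rw [Matrix.one_apply_eq] at e0
      have ha : (a : F) ∈ F₀ := by
        rw [eq_inv_of_mul_eq_one_left e0]
        exact inv_mem ((h : Matrix (Fin n) (Fin n) F₀) ⟨0, hn⟩ ⟨0, hn⟩).2
      refine ⟨Units.mk0 ⟨a, ha⟩ (fun h => a.ne_zero (congrArg Subtype.val h)), Subtype.ext (Prod.ext (Units.ext rfl) ?_)⟩
      refine Units.ext (Matrix.ext fun k l => Subtype.ext (mul_left_cancel₀ a.ne_zero ?_))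
      rw [e k l]
      rcases eq_or_ne k l with rfl | hkl
      · simp [u, Matrix.scalar_apply]
      · simp [u, Matrix.scalar_apply, hkl]
  have hmul := Subgroup.card_eq_card_quotient_mul_card_subgroup φ.ker
  rw [Nat.card_congr (QuotientGroup.quotientKerEquivRange φ).toEquiv, hker, Nat.card_prod, Nat.card_units,
    Nat.card_eq_fintype_card (α := F), hF, Matrix.card_GL_field, ← Nat.card_eq_fintype_card, hq₀] at hmul
  rw [show Nat.card {g : GL (Fin n) F // ∃ c : F, c ≠ 0 ∧ (g : Matrix (Fin n) (Fin n) F).map σ = c • (g : Matrix (Fin n) (Fin n) F)} = Nat.card φ.range from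
    Nat.card_congr (Equiv.setCongr hS)]
  have hq2 : 2 ≤ q₀ := by rw [← hq₀]; exact Finite.one_lt_card
  have hdvd : q₀ - 1 ∣ q₀ ^ r - 1 := Nat.sub_one_dvd_pow_sub_one q₀ r
  apply Nat.eq_of_mul_eq_mul_right (by omega : 0 < q₀ - 1)
  rw [← hmul, mul_comm _ (q₀ - 1), ← mul_assoc, Nat.mul_div_cancel' hdvd]

end Cfsg.Agent.S2636
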