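import Cfsg.Statements.S2637
import Cfsg.Agent.Lib.QuadFin.SpOrderThree

set_option autoImplicit false
open Cfsg

namespace Cfsg.Agent.S2637

/-- Centraliser of a fixed-point-free element of order three in Sp_2m(q) when q ≡ 2 (mod 3): if x ∈ Sp_2m(F) (|F| = q, m ≥ 1) satisfies x³ = 1 and x − 1 is invertible, then its centraliser in Sp_2m(F) has the order of the unitary group GU_m(q), namely q^(m(m−1)/2) Π_(i=1)^m (q^i − (−1)^i) (x lies in the centre of a subgroup GU_m(q) of Sp_2m(q)). -/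
theorem result {F : Type*} [Field F] [Fintype F] {q : ℕ} (hF : Fintype.card F = q) (hq : q % 3 = 2) {m : ℕ} (hm : 1 ≤ m) (x : Matrix.symplecticGroup (Fin m) F) (hx3 : x ^ 3 = 1) (hfpf : IsUnit ((x : Matrix (Fin m ⊕ Fin m) (Fin m ⊕ Fin m) F) - 1)) : (Nat.card ↥(Subgroup.centralizer ({x} : Set ↥(Matrix.symplecticGroup (Fin m) F))) : ℤ) = (q : ℤ) ^ (m * (m - 1) / 2) * ∏ i : Fin m, ((q : ℤ) ^ ((i : ℕ) + 1) - (-1) ^ ((i : ℕ) + 1)) := by
  obtain ⟨g, hg⟩ := Cfsg.Agent.Lib.QuadFin.exists_conj_omegaMat hF hq x hx3 hfpf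
  have hc : Nat.card ↥(Subgroup.centralizer ({x} : Set ↥(Matrix.symplecticGroup (Fin m) F))) =
      Nat.card ↥(Subgroup.centralizer ({g⁻¹ * x * g} : Set ↥(Matrix.symplecticGroup (Fin m) F))) :=
    Nat.card_congr
      { toFun := fun z => ⟨g⁻¹ * z.1 * g, Subgroup.mem_centralizer_singleton_iff.mpr (by
          have h := Subgroup.mem_centralizer_singleton_iff.mp z.2
          calc g⁻¹ * z.1 * g * (g⁻¹ * x * g) = g⁻¹ * (z.1 * x) * g := by group
            _ = g⁻¹ * (x * z.1) * g := by rw [h]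
            _ = g⁻¹ * x * g * (g⁻¹ * z.1 * g) := by group)⟩
        invFun := fun z => ⟨g * z.1 * g⁻¹, Subgroup.mem_centralizer_singleton_iff.mpr (by
          have h := Subgroup.mem_centralizer_singleton_iff.mp z.2
          calc g * z.1 * g⁻¹ * x = g * (z.1 * (g⁻¹ * x * g)) * g⁻¹ := by group
            _ = g * (g⁻¹ * x * g * z.1) * g⁻¹ := by rw [h]
            _ = x * (g * z.1 * g⁻¹) := by group)⟩
        left_inv := fun z => Subtype.ext (by show g * (g⁻¹ * z.1 * g) * g⁻¹ = z.1; group)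
        right_inv := fun z => Subtype.ext (by show g⁻¹ * (g * z.1 * g⁻¹) * g = z.1; group) }
  rw [hc, hg, Cfsg.Agent.Lib.QuadFin.card_centralizer_omegaMat hF hq m, Nat.cast_mul, Nat.cast_pow, Nat.cast_prod,
    Finset.prod_range]
  refine congrArg _ (Finset.prod_congr rfl fun i _ => ?_)
  split_ifs with he
  · rw [he.add_one.neg_one_pow]; push_cast; ring
  · rw [(Nat.even_add_one.mpr he).neg_one_pow, Nat.cast_sub (Nat.one_le_pow _ _ (by omega))]; push_cast; ring

end Cfsg.Agent.S2637
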