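import Cfsg.Statements.S2638

set_option autoImplicit false
open Cfsg

namespace Cfsg.Agent.S2638

open Matrix

/-- If an element x of GL_n(q), n ≥ 1, has prime order r and the multiplicative order of q modulo r is n (r is a primitive prime divisor of q^n − 1, so x acts irreducibly), then the centraliser of x in GL_n(q) is cyclic of order q^n − 1 (the multiplicative group of the field with q^n elements, a Singer cycle). -/
theorem result {F : Type*} [Field F] [Fintype F] {p q : ℕ} [Fact p.Prime] [CharP F p] (hF : Fintype.card F = q) {n r : ℕ} (hn : 1 ≤ n) (hr : r.Prime) (hrp : r ≠ p) (hi : orderOf (q : ZMod r) = n) (x : GL (Fin n) F) (hx : orderOf x = r) : IsCyclic ↥(Subgroup.centralizer ({x} : Set (GL (Fin n) F))) ∧ Nat.card ↥(Subgroup.centralizer ({x} : Set (GL (Fin n) F))) = q ^ n - 1 := by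
  classical
  open Polynomial in
  haveI : Fact r.Prime := ⟨hr⟩
  set M := ((x : GL (Fin n) F) : Matrix (Fin n) (Fin n) F) with hM
  set m := minpoly F M with hm
  have hint : IsIntegral F M := Matrix.isIntegral M
  have hxr : M ^ r = 1 := by rw [hM, ← Units.val_pow_eq_pow_val, ← hx, pow_orderOf_eq_one, Units.val_one]
  have hrF : ((r : ℕ) : F) ≠ 0 := fun h0 =>
    hrp (((Nat.prime_dvd_prime_iff_eq Fact.out hr).mp ((CharP.cast_eq_zero_iff F p r).mp h0)).symm)
  obtain ⟨g, hg⟩ : (Polynomial.X - 1 : Polynomial F) ∣ Polynomial.X ^ r - 1 := sub_one_dvd_pow_sub_one Polynomial.X r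
  have hdvd : m ∣ Polynomial.X ^ r - 1 := minpoly.dvd F M (by simp [hxr])
  have hcop : ¬ IsCoprime m g := fun hc => by
    rw [hg] at hdvd
    have h1 : m ∣ Polynomial.X - 1 := hc.dvd_of_dvd_mul_right hdvd
    obtain ⟨k, hk⟩ := h1
    have h2 := congrArg (Polynomial.aeval M) hk
    rw [map_mul, hm, minpoly.aeval, zero_mul, map_sub, Polynomial.aeval_X, map_one, sub_eq_zero] at h2
    have : x = 1 := Units.ext h2
    rw [this, orderOf_one] at hx
    exact hr.one_lt.ne hx
  have hm0 : m ≠ 0 := minpoly.ne_zero hint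
  obtain ⟨f, hfi, hfm, hfg⟩ : ∃ f, Irreducible f ∧ f ∣ m ∧ f ∣ g := by
    by_contra hno
    push Not at hno
    exact hcop (isCoprime_of_irreducible_dvd (fun h => hm0 h.1) fun z hz hzm hzg => hno z hz hzm hzg)
  haveI : Fact (Irreducible f) := ⟨hfi⟩
  -- the degree of `f` is at least `n`
  have hnd : n ≤ f.natDegree := by
    let K₁ := AdjoinRoot f
    haveI : Module.Finite F K₁ := (AdjoinRoot.powerBasis hfi.ne_zero).finite
    haveI : Finite K₁ := Module.finite_of_finite F
    haveI : Fintype K₁ := Fintype.ofFinite _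
    set ζ := AdjoinRoot.root f with hζ
    have hev : ∀ P : Polynomial F, f ∣ P → Polynomial.aeval ζ P = 0 := fun P hP => by
      rw [AdjoinRoot.aeval_eq]; exact AdjoinRoot.mk_eq_zero.mpr hP
    have hz1 : ζ ^ r = 1 := by
      have := hev _ (hfg.trans ⟨Polynomial.X - 1, hg.trans (mul_comm _ _)⟩)
      rw [map_sub, map_pow, Polynomial.aeval_X, map_one, sub_eq_zero] at this
      exact this
    have hz2 : ζ ≠ 1 := by
      intro h1
      have h2 : Polynomial.aeval ζ g = 0 := hev g hfg
      rw [h1] at h2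
      have h3 := congrArg (fun P : Polynomial F => Polynomial.aeval (1 : F) P.derivative) hg
      simp at h3
      have h4 : Polynomial.aeval (1 : F) g = 0 := by
        have := Polynomial.aeval_algebraMap_apply (A := F) (B := K₁) 1 g
        rw [map_one, h2] at this
        exact (algebraMap F K₁).injective (by rw [map_zero]; exact this.symm)
      simp [Polynomial.coe_aeval_eq_eval] at h4
      rw [h4] at h3
      simp [Polynomial.derivative_X_pow] at h3
      exact hrF h3
    have hord : orderOf ζ = r := orderOf_eq_prime hz1 hz2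
    have hz0 : ζ ≠ 0 := fun h0 => by rw [h0, zero_pow hr.ne_zero] at hz1; exact zero_ne_one hz1
    have hdvd' : r ∣ Fintype.card K₁ - 1 := hord ▸ orderOf_dvd_of_pow_eq_one (FiniteField.pow_card_sub_one_eq_one ζ hz0)
    have hcard : Fintype.card K₁ = q ^ f.natDegree := by
      rw [Module.card_eq_pow_finrank (K := F), hF, (AdjoinRoot.powerBasis hfi.ne_zero).finrank,
        AdjoinRoot.powerBasis_dim]
    rw [hcard] at hdvd'
    have hq1 : 1 ≤ q ^ f.natDegree := Nat.one_le_pow _ _ (by rw [← hF]; exact Fintype.card_pos)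
    have h5 : ((q : ZMod r)) ^ f.natDegree = 1 := by
      have := (ZMod.natCast_eq_zero_iff _ _).mpr hdvd'
      rw [Nat.cast_sub hq1, Nat.cast_pow, Nat.cast_one, sub_eq_zero] at this
      exact this
    rw [← hi]
    exact Nat.le_of_dvd hfi.natDegree_pos (orderOf_dvd_of_pow_eq_one h5)
  have hmn : m.natDegree ≤ n := by
    have h1 := Polynomial.natDegree_le_of_dvd (minpoly.dvd F M (Matrix.aeval_self_charpoly M))
      (Matrix.charpoly_monic M).ne_zero
    rwa [Matrix.charpoly_natDegree_eq_dim, Fintype.card_fin] at h1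
  have hfm' : f.natDegree ≤ m.natDegree := Polynomial.natDegree_le_of_dvd hfm hm0
  have hdeg : m.natDegree = n := by omega
  have hirr : Irreducible m := (associated_of_dvd_of_natDegree_le hfm hm0 (by omega)).irreducible hfi
  haveI : Fact (Irreducible m) := ⟨hirr⟩
  let K := AdjoinRoot m
  haveI : Module.Finite F K := (AdjoinRoot.powerBasis hirr.ne_zero).finite
  haveI : Finite K := Module.finite_of_finite F
  let ψ : K →ₐ[F] Matrix (Fin n) (Fin n) F := Ideal.Quotient.liftₐ (Ideal.span {m}) (Polynomial.aeval M) (fun a ha => by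
    obtain ⟨c, rfl⟩ := Ideal.mem_span_singleton.mp ha
    rw [map_mul, minpoly.aeval, zero_mul])
  have hψroot : ψ (AdjoinRoot.root m) = M := Polynomial.aeval_X M
  have hψmk : ∀ P : Polynomial F, ψ (AdjoinRoot.mk m P) = Polynomial.aeval M P := fun P => rfl
  haveI : Nonempty (Fin n) := ⟨⟨0, hn⟩⟩
  have hψinj : Function.Injective ψ := ψ.toRingHom.injective
  let v₀ : Fin n → F := Pi.single ⟨0, hn⟩ 1
  let L : K →ₗ[F] (Fin n → F) :=
    { toFun := fun k => ψ k *ᵥ v₀
      map_add' := fun a b => by rw [map_add, Matrix.add_mulVec]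
      map_smul' := fun c a => by rw [map_smul, Matrix.smul_mulVec, RingHom.id_apply] }
  have hLinj : Function.Injective L := (injective_iff_map_eq_zero L).mpr fun k hk => by
    by_contra hk0
    have h1 : ψ k⁻¹ *ᵥ (ψ k *ᵥ v₀) = 0 := by
      rw [show ψ k *ᵥ v₀ = 0 from hk, Matrix.mulVec_zero]
    rw [Matrix.mulVec_mulVec, ← map_mul, inv_mul_cancel₀ hk0, map_one, Matrix.one_mulVec] at h1
    simpa [v₀] using congrFun h1 ⟨0, hn⟩
  have hKfr : Module.finrank F K = n := by
    rw [(AdjoinRoot.powerBasis hirr.ne_zero).finrank, AdjoinRoot.powerBasis_dim, hdeg]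
  have hLsurj : Function.Surjective L :=
    (LinearMap.injective_iff_surjective_of_finrank_eq_finrank (by rw [hKfr, Module.finrank_fin_fun])).mp hLinj
  have hcomm : ∀ G : Matrix (Fin n) (Fin n) F, G * M = M * G → ∀ k, G * ψ k = ψ k * G := by
    intro G hG k
    induction k using AdjoinRoot.induction_on with
    | ih P =>
      rw [hψmk]
      induction P using Polynomial.induction_on' with
      | add a b ha hb => rw [map_add, mul_add, add_mul, ha, hb]
      | monomial d c =>
        rw [Polynomial.aeval_monomial, ← mul_assoc, ← Algebra.commutes c G, mul_assoc,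
          (Commute.pow_right (show Commute G M from hG) d).eq, mul_assoc]
  let φ : Kˣ →* GL (Fin n) F := Units.map ψ.toRingHom.toMonoidHom
  have hrange : φ.range = Subgroup.centralizer ({x} : Set (GL (Fin n) F)) := by
    ext G
    rw [Subgroup.mem_centralizer_singleton_iff]
    constructor
    · rintro ⟨u, rfl⟩
      refine Units.ext ?_
      rw [Units.val_mul, Units.val_mul]
      show ψ (u : K) * M = M * ψ (u : K)
      rw [← hψroot, ← map_mul, ← map_mul, mul_comm]
    · intro hG
      have hG' : (G : Matrix (Fin n) (Fin n) F) * M = M * (G : Matrix (Fin n) (Fin n) F) :=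
        congrArg Units.val hG
      obtain ⟨k, hk⟩ := hLsurj ((G : Matrix (Fin n) (Fin n) F) *ᵥ v₀)
      have hGk : (G : Matrix (Fin n) (Fin n) F) = ψ k := by
        refine Matrix.ext_of_mulVec_single fun i => ?_
        obtain ⟨k', hk'⟩ := hLsurj (Pi.single i 1)
        rw [← hk']
        show _ *ᵥ (ψ k' *ᵥ v₀) = ψ k *ᵥ (ψ k' *ᵥ v₀)
        rw [Matrix.mulVec_mulVec, hcomm _ hG' k', ← Matrix.mulVec_mulVec, ← hk]
        show ψ k' *ᵥ (ψ k *ᵥ v₀) = _
        rw [Matrix.mulVec_mulVec, Matrix.mulVec_mulVec, ← map_mul, ← map_mul, mul_comm]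
      have hk0 : k ≠ 0 := fun h0 => by
        rw [h0, map_zero] at hGk
        exact (Matrix.isUnits_det_units G).ne_zero (by rw [hGk, Matrix.det_zero])
      exact ⟨Units.mk0 k hk0, Units.ext hGk.symm⟩
  have hφinj : Function.Injective φ := fun a b h => Units.ext (hψinj (congrArg Units.val h))
  let e : Kˣ ≃* ↥(Subgroup.centralizer ({x} : Set (GL (Fin n) F))) :=
    (MonoidHom.ofInjective hφinj).trans (MulEquiv.subgroupCongr hrange)
  refine ⟨isCyclic_of_surjective e.toMonoidHom e.surjective, ?_⟩
  rw [← Nat.card_congr e.toEquiv, Nat.card_units, Module.natCard_eq_pow_finrank (K := F), Nat.card_eq_fintype_card, hF, hKfr]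

end Cfsg.Agent.S2638
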