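import Cfsg.Statements.S2639
import Cfsg.Agent.Lib.Embed.Forms
import Cfsg.Agent.Lib.Geometry.SympBasic

set_option autoImplicit false
open Cfsg

namespace Cfsg.Agent.S2639

open Cfsg.Agent.Lib


/-- The unitary group embeds in the symplectic group of twice the dimension over the subfield: for a field K with q² elements and a field F with q elements (isomorphic to the subfield of K of order q), there is an injective homomorphism GU_m(q) → Sp_2m(F). -/
theorem result {K F : Type*} [Field K] [Fintype K] [Field F] [Fintype F] {q : ℕ} (hK : Fintype.card K = q ^ 2) (hF : Fintype.card F = q) (m : ℕ) : ∃ φ : ↥(Cfsg.GU m K q) →* ↥(Matrix.symplecticGroup (Fin m) F), Function.Injective φ := by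
  classical
  obtain ⟨D⟩ := Embed.nonempty_quadData hK hF
  obtain ⟨e, he, hes⟩ := Embed.exists_addEquiv D.j (fun (v : Fin m ⊕ Fin m → F) (i : Fin m) => D.lift (v (Sum.inl i)) (v (Sum.inr i)))
    (fun x y => funext fun i => D.lift_add _ _ _ _) (fun c x => funext fun i => by simp [D.lift_smul])
    (fun x y h => funext fun k => by
      rcases k with i | i
      · exact (D.coord_injective (congrFun h i)).1
      · exact (D.coord_injective (congrFun h i)).2)
    (by simp only [Nat.card_eq_fintype_card, Fintype.card_fun, Fintype.card_sum, Fintype.card_fin, hK, hF]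
        rw [← pow_mul, two_mul])
  let R := Embed.restrictMat D.j e hes
  have key : ∀ u v : Fin m ⊕ Fin m → F, hermForm m K q (e u) (e v) - hermForm m K q (e v) (e u) =
      D.j (sympForm m F u v) * (D.α - D.bar D.α) := fun u v => by
    rw [Geometry.sympForm_eq_sum, map_sum, Finset.sum_mul]
    simp only [hermForm, ← D.bar_eq, he, ← Finset.sum_sub_distrib]
    refine Finset.sum_congr rfl fun i _ => ?_
    rw [← D.cross_lift]
    ring
  have hmem : ∀ g : GU m K q, R ((g : GL (Fin m) K) : Matrix (Fin m) (Fin m) K) ∈ Matrix.symplecticGroup (Fin m) F := fun g => by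
    rw [Geometry.mem_symplecticGroup_iff_form]
    intro u v
    refine D.j.injective (mul_right_cancel₀ D.eps_ne_zero ?_)
    rw [← key, ← key, Embed.apply_restrictMat, Embed.apply_restrictMat]
    exact congrArg₂ (· - ·) (g.2 _ _) (g.2 _ _)
  exact ⟨MonoidHom.mk' (fun g => ⟨_, hmem g⟩) (fun a b => Subtype.ext (map_mul R _ _)), fun a b h =>
    Subtype.ext (Units.ext (Embed.restrictMat_injective D.j e hes (congrArg Subtype.val h)))⟩

end Cfsg.Agent.S2639
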