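import Cfsg.Statements.S2640
import Cfsg.Agent.Lib.Embed.Forms

set_option autoImplicit false
open Cfsg

namespace Cfsg.Agent.S2640

open Cfsg.Agent.Lib

private theorem exists_split (k : ℕ) (hk : Even k) : ∃ l, Nonempty (Fin l ⊕ Fin l ≃ Fin k) := by
  obtain ⟨l, rfl⟩ := hk
  exact ⟨l, ⟨finSumFinEquiv⟩⟩


/-- For m even, the unitary group GU_m(q) (over the field with q² elements) embeds in the orthogonal group O⁺_2m(q) of the hyperbolic form Σ x_i y_i over the field with q elements (there is an injective homomorphism). -/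
theorem result {K F : Type*} [Field K] [Fintype K] [Field F] [Fintype F] {q : ℕ} (hK : Fintype.card K = q ^ 2) (hF : Fintype.card F = q) (m : ℕ) (hm : Even m) : ∃ φ : ↥(Cfsg.GU m K q) →* ↥(Cfsg.isometryGroup F (Cfsg.quadFormPlus m F)), Function.Injective φ := by
  classical
  obtain ⟨D⟩ := Embed.nonempty_quadData hK hF
  obtain ⟨c, c', hc, hc', hcc⟩ := D.exists_norm_neg_one hK
  obtain ⟨l, ⟨σ⟩⟩ := exists_split m hm
  obtain ⟨e, he, hes⟩ := Embed.exists_addEquiv D.j
    (fun (v : Fin m ⊕ Fin m → F) (i : Fin m) => Sum.elim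
      (fun i : Fin l => D.hypX c c' (v (Sum.inl (σ (Sum.inl i)))) (v (Sum.inl (σ (Sum.inr i)))) (v (Sum.inr (σ (Sum.inl i)))) (v (Sum.inr (σ (Sum.inr i)))))
      (fun i : Fin l => D.hypY c c' (v (Sum.inl (σ (Sum.inl i)))) (v (Sum.inl (σ (Sum.inr i)))) (v (Sum.inr (σ (Sum.inl i)))) (v (Sum.inr (σ (Sum.inr i))))) (σ.symm i))
    (fun x y => funext fun k => by rcases hk : σ.symm k with i | i <;> simp [hk, D.hypX_add, D.hypY_add])
    (fun r x => funext fun k => by rcases hk : σ.symm k with i | i <;> simp [hk, D.hypX_smul, D.hypY_smul])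
    (fun x y h => by
      have h' : ∀ i : Fin l, _ := fun i => D.hyp_injective hc hcc
        (by simpa using congrFun h (σ (Sum.inl i)) : D.hypX c c' (x (Sum.inl (σ (Sum.inl i)))) (x (Sum.inl (σ (Sum.inr i)))) (x (Sum.inr (σ (Sum.inl i)))) (x (Sum.inr (σ (Sum.inr i)))) =
          D.hypX c c' (y (Sum.inl (σ (Sum.inl i)))) (y (Sum.inl (σ (Sum.inr i)))) (y (Sum.inr (σ (Sum.inl i)))) (y (Sum.inr (σ (Sum.inr i)))))
        (by simpa using congrFun h (σ (Sum.inr i)) : D.hypY c c' (x (Sum.inl (σ (Sum.inl i)))) (x (Sum.inl (σ (Sum.inr i)))) (x (Sum.inr (σ (Sum.inl i)))) (x (Sum.inr (σ (Sum.inr i)))) =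
          D.hypY c c' (y (Sum.inl (σ (Sum.inl i)))) (y (Sum.inl (σ (Sum.inr i)))) (y (Sum.inr (σ (Sum.inl i)))) (y (Sum.inr (σ (Sum.inr i)))))
      funext k
      rcases k with i | i
      · rcases hi : σ.symm i with j | j <;> rw [← σ.apply_symm_apply i, hi]
        · exact (h' j).1
        · exact (h' j).2.1
      · rcases hi : σ.symm i with j | j <;> rw [← σ.apply_symm_apply i, hi]
        · exact (h' j).2.2.1
        · exact (h' j).2.2.2)
    (by simp only [Nat.card_eq_fintype_card, Fintype.card_fun, Fintype.card_sum, Fintype.card_fin, hK, hF]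
        rw [← pow_mul]; ring_nf)
  let R := Embed.restrictMat D.j e hes
  have key : ∀ v : Fin m ⊕ Fin m → F, hermForm m K q (e v) (e v) = D.j (quadFormPlus m F v) := fun v => by
    simp only [hermForm, quadFormPlus, ← D.bar_eq, map_sum]
    rw [← Equiv.sum_comp σ, ← Equiv.sum_comp σ (fun i => D.j (v (Sum.inl i) * v (Sum.inr i))), Fintype.sum_sum_type,
      Fintype.sum_sum_type, ← Finset.sum_add_distrib, ← Finset.sum_add_distrib]
    refine Finset.sum_congr rfl fun i _ => ?_
    simp only [he, Equiv.symm_apply_apply, Sum.elim_inl, Sum.elim_inr]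
    rw [D.hyp_norm hc hc' hcc, map_add]
  have hmem : ∀ g : GU m K q, Units.map R (g : GL (Fin m) K) ∈ isometryGroup F (quadFormPlus m F) := fun g u _ => by
    refine D.j.injective ?_
    show D.j (quadFormPlus m F ((R ((g : GL (Fin m) K) : Matrix (Fin m) (Fin m) K)).mulVec u)) = _
    rw [← key, ← key, Embed.apply_restrictMat]
    exact g.2 _ _
  exact ⟨((Units.map R).comp (GU m K q).subtype).codRestrict _ hmem, fun a b h =>
    Subtype.ext (Units.map_injective (Embed.restrictMat_injective D.j e hes) (congrArg Subtype.val h))⟩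

end Cfsg.Agent.S2640
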