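import Cfsg.Statements.S2641
import Cfsg.Agent.Lib.Embed.Forms

set_option autoImplicit false
open Cfsg

namespace Cfsg.Agent.S2641

open Cfsg.Agent.Lib

private theorem exists_split (m : ℕ) (hm : Odd m) :
    ∃ l, Nonempty (Fin l ⊕ Fin l ≃ Fin (m - 1)) ∧ Nonempty (Fin (m - 1) ⊕ Unit ≃ Fin m) := by
  obtain ⟨l, rfl⟩ := hm
  exact ⟨l, ⟨finSumFinEquiv.trans (finCongr (by omega))⟩,
    ⟨((Equiv.refl _).sumCongr finOneEquiv.symm).trans (finSumFinEquiv.trans (finCongr (by omega)))⟩⟩


/-- For m odd, the unitary group GU_m(q) (over the field with q² elements) embeds in the orthogonal group O⁻_2m(q) of an elliptic form (Σ_(i<m−1) x_i y_i plus an anisotropic binary form) over the field with q elements (there is an injective homomorphism). -/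
theorem result {K F : Type*} [Field K] [Fintype K] [Field F] [Fintype F] {q : ℕ} (hK : Fintype.card K = q ^ 2) (hF : Fintype.card F = q) (m : ℕ) (hm : Odd m) (a b : F) (hab : ∀ z₁ z₂ : F, z₁ ^ 2 + a * z₁ * z₂ + b * z₂ ^ 2 = 0 → z₁ = 0 ∧ z₂ = 0) : ∃ φ : ↥(Cfsg.GU m K q) →* ↥(Cfsg.isometryGroup F (Cfsg.quadFormMinus (m - 1) F a b)), Function.Injective φ := by
  classical
  obtain ⟨D⟩ := Embed.nonempty_quadData hK hF
  obtain ⟨c, c', hc, hc', hcc⟩ := D.exists_norm_neg_one hK
  obtain ⟨θ, hsum, hprod, hθ⟩ := D.exists_root hK hF a b hab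
  obtain ⟨l, ⟨σ⟩, ⟨τ⟩⟩ := exists_split m hm
  obtain ⟨e, he, hes⟩ := Embed.exists_addEquiv D.j
    (fun (v : (Fin (m - 1) ⊕ Fin (m - 1)) ⊕ Fin 2 → F) (i : Fin m) => Sum.elim
      (fun k : Fin (m - 1) => Sum.elim
        (fun i : Fin l => D.hypX c c' (v (Sum.inl (Sum.inl (σ (Sum.inl i))))) (v (Sum.inl (Sum.inl (σ (Sum.inr i))))) (v (Sum.inl (Sum.inr (σ (Sum.inl i))))) (v (Sum.inl (Sum.inr (σ (Sum.inr i))))))
        (fun i : Fin l => D.hypY c c' (v (Sum.inl (Sum.inl (σ (Sum.inl i))))) (v (Sum.inl (Sum.inl (σ (Sum.inr i))))) (v (Sum.inl (Sum.inr (σ (Sum.inl i))))) (v (Sum.inl (Sum.inr (σ (Sum.inr i)))))) (σ.symm k))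
      (fun _ : Unit => D.j (v (Sum.inr 0)) - θ * D.j (v (Sum.inr 1))) (τ.symm i))
    (fun x y => funext fun k => by
      rcases hk : τ.symm k with j | j
      · rcases hj : σ.symm j with i | i <;> simp [hk, hj, D.hypX_add, D.hypY_add]
      · simp [hk]; ring)
    (fun r x => funext fun k => by
      rcases hk : τ.symm k with j | j
      · rcases hj : σ.symm j with i | i <;> simp [hk, hj, D.hypX_smul, D.hypY_smul]
      · simp [hk]; ring)
    (fun x y h => by
      have h' : ∀ i : Fin l, _ := fun i => D.hyp_injective hc hcc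
        (by simpa using congrFun h (τ (Sum.inl (σ (Sum.inl i)))) : D.hypX c c' (x (Sum.inl (Sum.inl (σ (Sum.inl i))))) (x (Sum.inl (Sum.inl (σ (Sum.inr i))))) (x (Sum.inl (Sum.inr (σ (Sum.inl i))))) (x (Sum.inl (Sum.inr (σ (Sum.inr i))))) =
          D.hypX c c' (y (Sum.inl (Sum.inl (σ (Sum.inl i))))) (y (Sum.inl (Sum.inl (σ (Sum.inr i))))) (y (Sum.inl (Sum.inr (σ (Sum.inl i))))) (y (Sum.inl (Sum.inr (σ (Sum.inr i))))))
        (by simpa using congrFun h (τ (Sum.inl (σ (Sum.inr i)))) : D.hypY c c' (x (Sum.inl (Sum.inl (σ (Sum.inl i))))) (x (Sum.inl (Sum.inl (σ (Sum.inr i))))) (x (Sum.inl (Sum.inr (σ (Sum.inl i))))) (x (Sum.inl (Sum.inr (σ (Sum.inr i))))) =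
          D.hypY c c' (y (Sum.inl (Sum.inl (σ (Sum.inl i))))) (y (Sum.inl (Sum.inl (σ (Sum.inr i))))) (y (Sum.inl (Sum.inr (σ (Sum.inl i))))) (y (Sum.inl (Sum.inr (σ (Sum.inr i))))))
      have hz : D.j (x (Sum.inr 0)) - θ * D.j (x (Sum.inr 1)) = D.j (y (Sum.inr 0)) - θ * D.j (y (Sum.inr 1)) := by
        simpa using congrFun h (τ (Sum.inr ()))
      have hz' := congrArg D.bar hz
      simp only [map_sub, map_mul, D.bar_j] at hz'
      have h1 : x (Sum.inr 1) = y (Sum.inr 1) := D.j.injective (mul_left_cancel₀ (sub_ne_zero.mpr hθ) (by linear_combination hz - hz'))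
      have h0 : x (Sum.inr 0) = y (Sum.inr 0) := D.j.injective (by linear_combination hz + θ * (congrArg D.j h1))
      funext k
      rcases k with (i | i) | z
      · rcases hi : σ.symm i with j | j <;> rw [← σ.apply_symm_apply i, hi]
        · exact (h' j).1
        · exact (h' j).2.1
      · rcases hi : σ.symm i with j | j <;> rw [← σ.apply_symm_apply i, hi]
        · exact (h' j).2.2.1
        · exact (h' j).2.2.2
      · fin_cases z
        · exact h0
        · exact h1)
    (by simp only [Nat.card_eq_fintype_card, Fintype.card_fun, Fintype.card_sum, Fintype.card_fin, hK, hF]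
        rw [← pow_mul]; congr 1; have := hm.pos; omega)
  let R := Embed.restrictMat D.j e hes
  have key : ∀ v : (Fin (m - 1) ⊕ Fin (m - 1)) ⊕ Fin 2 → F, hermForm m K q (e v) (e v) = D.j (quadFormMinus (m - 1) F a b v) := fun v => by
    simp only [hermForm, quadFormMinus, ← D.bar_eq, map_add, map_sum]
    rw [← Equiv.sum_comp τ, Fintype.sum_sum_type, ← Equiv.sum_comp σ,
      ← Equiv.sum_comp σ (fun i => D.j (v (Sum.inl (Sum.inl i)) * v (Sum.inl (Sum.inr i)))), Fintype.sum_sum_type,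
      Fintype.sum_sum_type, ← Finset.sum_add_distrib, ← Finset.sum_add_distrib]
    simp only [he, Equiv.symm_apply_apply, Sum.elim_inl, Sum.elim_inr, Finset.univ_unique, Finset.sum_singleton]
    congr 1
    · refine Finset.sum_congr rfl fun i _ => ?_
      rw [D.hyp_norm hc hc' hcc, map_add]
    · simp only [map_sub, map_mul, map_pow, D.bar_j]
      linear_combination (-(D.j (v (Sum.inr 0))) * D.j (v (Sum.inr 1))) * hsum + (D.j (v (Sum.inr 1))) ^ 2 * hprod
  have hmem : ∀ g : GU m K q, Units.map R (g : GL (Fin m) K) ∈ isometryGroup F (quadFormMinus (m - 1) F a b) := fun g u _ => by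
    refine D.j.injective ?_
    show D.j (quadFormMinus (m - 1) F a b ((R ((g : GL (Fin m) K) : Matrix (Fin m) (Fin m) K)).mulVec u)) = _
    rw [← key, ← key, Embed.apply_restrictMat]
    exact g.2 _ _
  exact ⟨((Units.map R).comp (GU m K q).subtype).codRestrict _ hmem, fun a b h =>
    Subtype.ext (Units.map_injective (Embed.restrictMat_injective D.j e hes) (congrArg Subtype.val h))⟩

end Cfsg.Agent.S2641
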