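import Cfsg.Statements.S2642
import Mathlib
import Cfsg.Agent.Lib.Similar.SUFibre
import Cfsg.Agent.Lib.Similar.GL
import Cfsg.Agent.S2570

set_option autoImplicit false
open Cfsg

namespace Cfsg.Agent.S2642

open Polynomial Cfsg.Agent.Lib.Similar
open Cfsg.Agent.Lib.Classical (conjHom)
open Cfsg.Agent.Lib.FamCount (mem_fam)

/-- Number of conjugacy classes of elements of order p in the general unitary group GU_n(q), q a power of p: every unipotent Jordan type occurs and the classes correspond to the partitions of n with all parts at most p other than the all-ones partition, exactly as in GL_n; so there are (number of partitions of n with parts ≤ p) − 1 classes. -/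
theorem result {K : Type*} [Field K] [Fintype K] {p q n : ℕ} [Fact p.Prime] [CharP K p] (hK : Fintype.card K = q ^ 2) : Nat.card {C : ConjClasses ↥(Cfsg.GU n K q) // ∃ g : ↥(Cfsg.GU n K q), ConjClasses.mk g = C ∧ orderOf g = p} = (Finset.univ.filter (fun μ : Nat.Partition n => ∀ a ∈ μ.parts, a ≤ p)).card - 1 := by
  classical
  rw [← Cfsg.Agent.S2570.result (F := K) (p := p) n]
  refine Nat.card_congr (Equiv.ofBijective (fun C => ⟨C.1.map (Cfsg.GU n K q).subtype, ?_⟩) ⟨?_, ?_⟩)
  · obtain ⟨g, hg, ho⟩ := C.2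
    exact ⟨(g : GL (Fin n) K), by rw [← hg]; rfl, by rw [Subgroup.orderOf_coe, ho]⟩
  · rintro ⟨C, hC⟩ ⟨D, hD⟩ h
    obtain ⟨a, rfl⟩ := ConjClasses.mk_surjective C
    obtain ⟨b, rfl⟩ := ConjClasses.mk_surjective D
    exact Subtype.ext (ConjClasses.mk_eq_mk_iff_isConj.2 ((isConj_GU_iff hK a b).2
      (ConjClasses.mk_eq_mk_iff_isConj.1 (congrArg Subtype.val h))))
  · rintro ⟨D, g, rfl, ho⟩
    have h0 : aeval (toEnd (g : Matrix (Fin n) (Fin n) K)) (X ^ orderOf g - 1 : K[X]) = 0 := aeval_toEnd_pow_sub_one g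
    rw [ho] at h0
    have hd := (aeval_eq_zero_iff_matInv _ _).1 h0
    obtain ⟨hs, hsum⟩ := matInv_spec g
    rw [Fintype.card_fin] at hsum
    have hfr : (X ^ p - 1 : K[X]) = (X - C 1) ^ p := by rw [C_1, sub_pow_char, one_pow]
    have hy : ∀ y ∈ matInv (g : Matrix (Fin n) (Fin n) K), y.1 = X - C 1 := by
      intro y hy
      obtain ⟨hm, hi, -, he⟩ := hs y hy
      have h1 := hd y hy
      rw [hfr] at h1
      exact eq_of_monic_of_associated hm (monic_X_sub_C 1)
        (hi.associated_of_dvd (irreducible_X_sub_C 1) (hi.prime.dvd_of_dvd_pow ((dvd_pow_self _ (by omega)).trans h1)))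
    have hst : starP (conjHom hK) (X - C 1 : K[X]) = X - C 1 := by
      have h0 : (X - C 1 : K[X]).coeff 0 ≠ 0 := by simp
      refine Eq.trans ((monic_starP h0).eq_X_add_C (by rw [natDegree_starP h0, natDegree_X_sub_C])) ?_
      rw [coeff_zero_starP (monic_X_sub_C _)]
      simp [sub_eq_add_neg]
    have hmem : matInv (g : Matrix (Fin n) (Fin n) K) ∈ ufam (conjHom hK) 1 n := by
      refine Finset.mem_filter.2 ⟨mem_fam.2 ⟨fun y hyy => ⟨(hs y hyy).1, (hs y hyy).2.1, (hs y hyy).2.2.1, (hs y hyy).2.2.2, (hs y hyy).2.2.2⟩, hsum⟩, ?_⟩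
      conv_rhs => rw [← Multiset.map_id (matInv (g : Matrix (Fin n) (Fin n) K))]
      exact Multiset.map_congr rfl fun y hyy => Prod.ext (by rw [hy y hyy, hst]; exact (hy y hyy).symm) rfl
    obtain ⟨B, hB⟩ := exists_GU_matInv hK hmem
    have hcl : ConjClasses.mk (B : GL (Fin n) K) = ConjClasses.mk g :=
      classInv_injective (by rw [classInv_mk, classInv_mk, hB])
    refine ⟨⟨ConjClasses.mk B, B, rfl, ?_⟩, Subtype.ext hcl⟩
    rw [← Subgroup.orderOf_coe, ← ho]
    obtain ⟨c, hc⟩ := isConj_iff.1 (ConjClasses.mk_eq_mk_iff_isConj.1 hcl)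
    rw [← hc, ← MulAut.conj_apply]
    exact (orderOf_injective (MulAut.conj c).toMonoidHom (MulAut.conj c).injective _).symm

end Cfsg.Agent.S2642
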