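import Cfsg.Statements.S2643
import Mathlib
import Cfsg.Agent.Lib.Similar.SUFibre
import Cfsg.Agent.Lib.LinAux.Jordan

set_option autoImplicit false
open Cfsg

namespace Cfsg.Agent.S2643

open Polynomial Cfsg.Agent.Lib.Similar
open Cfsg.Agent.Lib.SuSpec (adj det_adj)
open Cfsg.Agent.Lib.Classical (conjHom conjHom_apply conjHom_conjHom two_le_q mem_GU_iff diagonal_preserves)
open Cfsg.Agent.Lib.FamCount (mem_fam)

section General

variable {K : Type*} [Field K] {n : ℕ}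

/-- Matrices commuting with a regular nilpotent matrix have a single eigenvalue. -/
theorem det_sub_of_comm [NeZero n] {N g : Matrix (Fin n) (Fin n) K} (h1 : N ^ n = 0) (h2 : N.rank = n - 1)
    (hg : N * g = g * N) : ∃ c : K, ∀ l : K, (g - l • 1).det = (c - l) ^ n := by
  obtain ⟨C, hC0, hC⟩ := Lib.LinAux.exists_shift_frame _ h1 h2
  obtain ⟨C', hC'⟩ : ∃ C' : GL (Fin n) K, (C' : Matrix (Fin n) (Fin n) K) = C :=
    ⟨Matrix.GeneralLinearGroup.mkOfDetNeZero C hC0, rfl⟩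
  obtain ⟨D, hD⟩ : ∃ D, D = ((C'⁻¹ : GL (Fin n) K) : Matrix (Fin n) (Fin n) K) := ⟨_, rfl⟩
  have e1 : C * D = 1 := by rw [← hC', hD, Units.mul_inv]
  have e2 : D * C = 1 := by rw [← hC', hD, Units.inv_mul]
  refine ⟨(D * g * C) 0 0, fun l => ?_⟩
  have hB : Lib.LinAux.shift K n * (D * (g - l • 1) * C) = D * (g - l • 1) * C * Lib.LinAux.shift K n := by
    have hs : Lib.LinAux.shift K n = D * N * C := by rw [mul_assoc, hC, ← mul_assoc, e2, one_mul]
    have hcomm : N * (g - l • 1) = (g - l • 1) * N := by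
      rw [mul_sub, sub_mul, hg, Matrix.mul_smul, Matrix.smul_mul, mul_one, one_mul]
    rw [hs]
    calc D * N * C * (D * (g - l • 1) * C) = D * N * (C * D) * (g - l • 1) * C := by simp only [mul_assoc]
      _ = D * (N * (g - l • 1)) * C := by rw [e1, mul_one, mul_assoc D]
      _ = D * (g - l • 1) * (C * D) * N * C := by rw [hcomm, e1, mul_one, ← mul_assoc D]
      _ = D * (g - l • 1) * C * (D * N * C) := by simp only [mul_assoc]
  have hd := congrArg Matrix.det (Lib.LinAux.eq_toep_of_comm hB)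
  rw [Lib.LinAux.det_toep, Matrix.det_mul, Matrix.det_mul, mul_comm, ← mul_assoc, ← Matrix.det_mul, e1, Matrix.det_one, one_mul] at hd
  rw [hd, show D * (g - l • 1) * C = D * g * C - l • (1 : Matrix (Fin n) (Fin n) K) by
    rw [mul_sub, sub_mul, Matrix.mul_smul, Matrix.smul_mul, mul_one, e2]]
  simp

theorem isConj_regular {x y : GL (Fin n) K} (x1 : ((x : Matrix (Fin n) (Fin n) K) - 1) ^ n = 0)
    (x2 : ((x : Matrix (Fin n) (Fin n) K) - 1).rank = n - 1) (y1 : ((y : Matrix (Fin n) (Fin n) K) - 1) ^ n = 0)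
    (y2 : ((y : Matrix (Fin n) (Fin n) K) - 1).rank = n - 1) : IsConj x y := by
  obtain ⟨C, hC0, hC⟩ := Lib.LinAux.exists_shift_frame _ x1 x2
  obtain ⟨D, hD0, hD⟩ := Lib.LinAux.exists_shift_frame _ y1 y2
  obtain ⟨C', hC'⟩ : ∃ C' : GL (Fin n) K, (C' : Matrix (Fin n) (Fin n) K) = C :=
    ⟨Matrix.GeneralLinearGroup.mkOfDetNeZero C hC0, rfl⟩
  obtain ⟨D', hD'⟩ : ∃ D' : GL (Fin n) K, (D' : Matrix (Fin n) (Fin n) K) = D :=
    ⟨Matrix.GeneralLinearGroup.mkOfDetNeZero D hD0, rfl⟩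
  obtain ⟨J, hJ⟩ : ∃ J, J = C'⁻¹ * x * C' := ⟨_, rfl⟩
  have hy : y * D' = D' * J := Units.ext (by
    rw [Units.val_mul, Units.val_mul, hD']
    have hJ' : (J : Matrix (Fin n) (Fin n) K) = 1 + Lib.LinAux.shift K n := by
      rw [hJ, mul_assoc, Units.val_mul, Units.val_mul, hC', show (x : Matrix (Fin n) (Fin n) K) * C =
        C * (1 + Lib.LinAux.shift K n) by rw [mul_add, mul_one, ← hC, sub_mul, one_mul, add_sub_cancel], ← hC', Units.inv_mul_cancel_left]
    rw [hJ', mul_add, mul_one, ← hD, sub_mul, one_mul, add_sub_cancel])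
  refine isConj_iff.2 ⟨D' * C'⁻¹, ?_⟩
  rw [eq_mul_inv_iff_mul_eq.2 hy, hJ]
  group

end General

variable {K : Type*} [Field K] [Fintype K] {q n : ℕ}

/-- Regular unipotent matrices. -/
def Reg (A : Matrix (Fin n) (Fin n) K) : Prop := (A - 1) ^ n = 0 ∧ (A - 1).rank = n - 1

theorem det_centralizer [NeZero n] (hK : Fintype.card K = q ^ 2) (x g : Cfsg.GU n K q)
    (hx : Reg ((x : GL (Fin n) K) : Matrix (Fin n) (Fin n) K)) (hgx : g * x = x * g) :
    ∃ c : K, c ^ (q + 1) = 1 ∧ ((g : GL (Fin n) K) : Matrix (Fin n) (Fin n) K).det = c ^ n := by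
  obtain ⟨G, hG⟩ : ∃ G, G = ((g : GL (Fin n) K) : Matrix (Fin n) (Fin n) K) := ⟨_, rfl⟩
  obtain ⟨X, hX⟩ : ∃ X, X = ((x : GL (Fin n) K) : Matrix (Fin n) (Fin n) K) := ⟨_, rfl⟩
  have hc : G * X = X * G := by
    rw [hG, hX]; exact congrArg (fun y : Cfsg.GU n K q => ((y : GL (Fin n) K) : Matrix (Fin n) (Fin n) K)) hgx
  obtain ⟨c, hcl⟩ := det_sub_of_comm (g := G) hx.1 hx.2 (by rw [← hX, sub_mul, mul_sub, hc, one_mul, mul_one])
  have hd : G.det = c ^ n := by
    have := hcl 0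
    rwa [zero_smul, sub_zero, sub_zero] at this
  refine ⟨c, ?_, by rw [← hG, hd]⟩
  have hu : adj (conjHom hK) G * G = 1 := by rw [hG]; exact (mem_GU_adj hK _).1 g.2
  have hn : n ≠ 0 := NeZero.ne n
  have hc0 : c ≠ 0 := fun h => by
    have := congrArg Matrix.det hu
    rw [Matrix.det_mul, hd, h, zero_pow hn, mul_zero, Matrix.det_one] at this
    exact zero_ne_one this
  have e : adj (conjHom hK) G - conjHom hK c • 1 = adj (conjHom hK) (G - c • 1) := by
    ext i j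
    by_cases h : i = j <;> simp [adj, Matrix.one_apply, h, Ne.symm]
  have h0 : (adj (conjHom hK) G - conjHom hK c • 1).det = 0 := by
    rw [e, det_adj, hcl, sub_self, zero_pow hn, map_zero]
  have hs : conjHom hK c ≠ 0 := (_root_.map_ne_zero _).2 hc0
  have e2 : (adj (conjHom hK) G - conjHom hK c • 1) * G = (-conjHom hK c) • (G - (conjHom hK c)⁻¹ • 1) := by
    rw [sub_mul, hu, Matrix.smul_mul, one_mul, smul_sub, smul_smul, neg_mul, mul_inv_cancel₀ hs, neg_smul, neg_smul, one_smul]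
    abel
  have e3 := congrArg Matrix.det e2
  rw [Matrix.det_mul, h0, zero_mul, Matrix.det_smul, hcl] at e3
  have e4 : c - (conjHom hK c)⁻¹ = 0 :=
    eq_zero_of_pow_eq_zero ((mul_eq_zero.1 e3.symm).resolve_left (pow_ne_zero _ (neg_ne_zero.2 hs)))
  rw [pow_succ, ← conjHom_apply hK]
  nth_rewrite 2 [sub_eq_zero.1 e4]
  exact mul_inv_cancel₀ hs

theorem exists_reg [DecidableEq K] (hK : Fintype.card K = q ^ 2) (hn : 1 ≤ n) :
    ∃ s : Cfsg.SU n K q, Reg ((s : Matrix.SpecialLinearGroup (Fin n) K) : Matrix (Fin n) (Fin n) K) := by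
  have hst : starP (conjHom hK) (X - C 1 : K[X]) = X - C 1 := by
    have h0 : (X - C 1 : K[X]).coeff 0 ≠ 0 := by simp
    refine Eq.trans ((monic_starP h0).eq_X_add_C (by rw [natDegree_starP h0, natDegree_X_sub_C])) ?_
    rw [coeff_zero_starP (monic_X_sub_C _)]
    simp [sub_eq_add_neg]
  obtain ⟨B, hB⟩ := exists_GU_matInv (n := n) hK (m := {((X - C 1 : K[X]), n)}) (Finset.mem_filter.2
    ⟨mem_fam.2 ⟨fun y hy => by
      rw [Multiset.mem_singleton.1 hy]
      exact ⟨monic_X_sub_C _, irreducible_X_sub_C _, by simp, hn, hn⟩, by simp only [Multiset.map_singleton, Multiset.sum_singleton, natDegree_X_sub_C, mul_one]⟩,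
      by rw [starM, Multiset.map_singleton]; simp only [hst]⟩)
  have hdet : ((B : GL (Fin n) K) : Matrix (Fin n) (Fin n) K).det = 1 := by
    have e := dt_matInv (B : GL (Fin n) K)
    rw [hB, Cfsg.Agent.Lib.FamCount.dt, Multiset.map_singleton, Multiset.prod_singleton,
      show (X - C 1 : K[X]).coeff 0 = -1 by simp] at e
    exact (mul_left_cancel₀ (pow_ne_zero n (neg_ne_zero.2 one_ne_zero)) (e.symm.trans (mul_one _).symm))
  refine ⟨⟨⟨_, hdet⟩, B.2⟩, ?_, ?_⟩
  · show (((B : GL (Fin n) K) : Matrix (Fin n) (Fin n) K) - 1) ^ n = 0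
    have e := Matrix.aeval_self_charpoly ((B : GL (Fin n) K) : Matrix (Fin n) (Fin n) K)
    rw [charpoly_eq_matInv, hB, Multiset.map_singleton, Multiset.prod_singleton, map_pow, map_sub, aeval_X, C_1, map_one] at e
    exact e
  · show (((B : GL (Fin n) K) : Matrix (Fin n) (Fin n) K) - 1).rank = n - 1
    have e1 := kerDim_toEnd ((B : GL (Fin n) K) : Matrix (Fin n) (Fin n) K) (X - C 1)
    obtain ⟨D⟩ := nonempty_decomp (toEnd ((B : GL (Fin n) K) : Matrix (Fin n) (Fin n) K))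
    have e2 := kerDim_pow D (irreducible_X_sub_C (1 : K)) (monic_X_sub_C _) 1
    have e3 := congrArg (fun M : Multiset (K[X] × ℕ) => (M.map fun z => if z.1 = X - C 1 then min z.2 1 else 0).sum)
      ((matInv_eq _ D).symm.trans hB)
    simp only [Decomp.inv, Multiset.map_map, Function.comp_def, Multiset.map_singleton, Multiset.sum_singleton, if_true] at e3
    rw [pow_one, e1, natDegree_X_sub_C, one_mul, Fintype.card_fin, map_sub, aeval_X, aeval_C, map_one] at e2
    simp only [C_1, map_one] at e2 e3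
    rw [Finset.sum_eq_multiset_sum, e3] at e2
    omega

/-- Regular unipotent classes of SU_n(q), n ≥ 2: the elements u of the special unitary group (isometries of Σ u_i v_i^q of determinant one over the field with q² elements) with (u − 1)^n = 0 and rank(u − 1) = n − 1 form exactly gcd(n, q + 1) conjugacy classes of SU_n(q). -/
theorem result {K : Type*} [Field K] [Fintype K] {q n : ℕ} (hK : Fintype.card K = q ^ 2) (hn : 2 ≤ n) : Nat.card {C : ConjClasses ↥(Cfsg.SU n K q) // ∃ u : ↥(Cfsg.SU n K q), ConjClasses.mk u = C ∧ (((u : GL (Fin n) K) : Matrix (Fin n) (Fin n) K) - 1) ^ n = 0 ∧ (((u : GL (Fin n) K) : Matrix (Fin n) (Fin n) K) - 1).rank = n - 1} = Nat.gcd n (q + 1) := by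
  classical
  have : NeZero n := ⟨by omega⟩
  obtain ⟨u0, hu0⟩ := exists_reg (n := n) hK (by omega)
  obtain ⟨N1, hN1⟩ : ∃ N1, N1 = (powMonoidHom (q + 1) : Kˣ →* Kˣ).ker := ⟨_, rfl⟩
  obtain ⟨x0, hx0⟩ : ∃ x0, x0 = suToGU n K q u0 := ⟨_, rfl⟩
  have hN : ∀ c : N1, ((c : Kˣ) : K) ^ (q + 1) = 1 := fun c => by
    have h := MonoidHom.mem_ker.1 (hN1 ▸ c.2 : (c : Kˣ) ∈ (powMonoidHom (q + 1) : Kˣ →* Kˣ).ker)
    exact (Units.val_pow_eq_pow_val _ _).symm.trans (congrArg Units.val h)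
  have hdg : ∀ c : N1, ∃ g : Cfsg.GU n K q, Matrix.GeneralLinearGroup.det (g : GL (Fin n) K) = (c : Kˣ) := by
    intro c
    obtain ⟨d, hd⟩ : ∃ d : Fin n → K, d = fun i => if i = 0 then ((c : Kˣ) : K) else 1 := ⟨_, rfl⟩
    have hdd : (Matrix.diagonal d).det = ((c : Kˣ) : K) := by
      rw [Matrix.det_diagonal, hd, Finset.prod_ite_eq' Finset.univ 0 (fun _ => ((c : Kˣ) : K))]
      simp
    refine ⟨⟨Matrix.GeneralLinearGroup.mkOfDetNeZero _ (hdd ▸ Units.ne_zero _), (mem_GU_iff hK _).2 ?_⟩, Units.ext hdd⟩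
    refine diagonal_preserves hK d fun i => ?_
    simp only [hd]
    split_ifs
    · exact hN c
    · exact one_pow _
  choose g hg using hdg
  have hmk : ∀ c : N1, ∃ s : Cfsg.SU n K q, suToGU n K q s = g c * x0 * (g c)⁻¹ := by
    intro c
    have hdet : (((g c * x0 * (g c)⁻¹ : Cfsg.GU n K q) : GL (Fin n) K) : Matrix (Fin n) (Fin n) K).det = 1 := by
      rw [Subgroup.coe_mul, Subgroup.coe_mul, Subgroup.coe_inv, Units.val_mul, Units.val_mul,
        Matrix.det_units_conj, hx0, suToGU_val]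
      exact (u0 : Matrix.SpecialLinearGroup (Fin n) K).2
    exact ⟨⟨⟨_, hdet⟩, (g c * x0 * (g c)⁻¹).2⟩, Subtype.ext (Units.ext rfl)⟩
  choose rep hrep using hmk
  have key : ∀ a b : N1, IsConj (rep a) (rep b) ↔ ∃ c : N1, a * c ^ n = b := by
    intro a b
    constructor
    · intro h
      obtain ⟨s, hs⟩ := isConj_iff.1 h
      have e := congrArg (suToGU n K q) hs
      rw [map_mul, map_mul, map_inv, hrep, hrep] at e
      obtain ⟨k, hk⟩ : ∃ k, k = (g b)⁻¹ * suToGU n K q s * g a := ⟨_, rfl⟩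
      have hkx : k * x0 = x0 * k := by
        rw [hk]
        calc (g b)⁻¹ * suToGU n K q s * g a * x0
            = (g b)⁻¹ * (suToGU n K q s * (g a * x0 * (g a)⁻¹) * (suToGU n K q s)⁻¹) * (suToGU n K q s * g a) := by group
          _ = x0 * ((g b)⁻¹ * suToGU n K q s * g a) := by rw [e]; group
      obtain ⟨c, hc, hcd⟩ := det_centralizer hK x0 k (by rw [hx0, suToGU_val]; exact hu0) hkx
      have hc0 : c ≠ 0 := fun h' => by rw [h', zero_pow (by omega)] at hc; exact zero_ne_one hc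
      obtain ⟨d, hd⟩ : ∃ d : N1, (d : Kˣ) = Units.mk0 c hc0 :=
        ⟨⟨Units.mk0 c hc0, by rw [hN1]; exact Units.ext (by rw [powMonoidHom_apply, Units.val_pow_eq_pow_val]; exact hc)⟩, rfl⟩
      have hdet : Matrix.GeneralLinearGroup.det (k : GL (Fin n) K) = (d ^ n : N1) := by
        rw [Subgroup.coe_pow, hd]
        exact Units.ext (hcd.trans (by rw [Units.val_pow_eq_pow_val, Units.val_mk0]))
      have hs1 : Matrix.GeneralLinearGroup.det ((suToGU n K q s : Cfsg.GU n K q) : GL (Fin n) K) = 1 :=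
        Units.ext (s : Matrix.SpecialLinearGroup (Fin n) K).2
      rw [hk, Subgroup.coe_mul, Subgroup.coe_mul, Subgroup.coe_inv, map_mul, map_mul, map_inv, hs1, hg, hg, mul_one] at hdet
      have : a = b * d ^ n := Subtype.ext (by rw [Subgroup.coe_mul, ← hdet, mul_inv_cancel_left])
      exact ⟨d⁻¹, by rw [this, inv_pow, mul_inv_cancel_right]⟩
    · rintro ⟨c, rfl⟩
      obtain ⟨z, hz⟩ : ∃ z : GL (Fin n) K, (z : Matrix (Fin n) (Fin n) K) = Matrix.diagonal fun _ => ((c : Kˣ) : K) :=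
        ⟨Matrix.GeneralLinearGroup.mkOfDetNeZero (Matrix.diagonal fun _ => ((c : Kˣ) : K)) (by rw [Matrix.det_diagonal]; simp), rfl⟩
      obtain ⟨z', hz'⟩ : ∃ z' : Cfsg.GU n K q, (z' : GL (Fin n) K) = z :=
        ⟨⟨z, (mem_GU_iff hK _).2 (by rw [hz]; exact diagonal_preserves hK _ fun _ => hN c)⟩, rfl⟩
      have hzc : z' * x0 = x0 * z' := Subtype.ext (Units.ext (by
        rw [Subgroup.coe_mul, Subgroup.coe_mul, Units.val_mul, Units.val_mul, hz', hz, ← Matrix.scalar_apply]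
        exact (Matrix.scalar_commute _ (fun r => Commute.all _ _) _).eq))
      have hzd : Matrix.GeneralLinearGroup.det z = ((c ^ n : N1) : Kˣ) := Units.ext (by
        show (z : Matrix (Fin n) (Fin n) K).det = _
        rw [hz, Matrix.det_diagonal, Subgroup.coe_pow, Units.val_pow_eq_pow_val]
        simp)
      obtain ⟨k, hk⟩ : ∃ k, k = g (a * c ^ n) * z'⁻¹ * (g a)⁻¹ := ⟨_, rfl⟩
      have hkd : Matrix.GeneralLinearGroup.det (k : GL (Fin n) K) = 1 := by
        rw [hk, Subgroup.coe_mul, Subgroup.coe_mul, Subgroup.coe_inv, Subgroup.coe_inv, map_mul, map_mul, map_inv, map_inv,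
          hg, hg, hz', hzd, Subgroup.coe_mul, mul_inv_cancel_right, mul_inv_cancel]
      obtain ⟨s, hs⟩ : ∃ s : Cfsg.SU n K q, suToGU n K q s = k :=
        ⟨⟨⟨_, congrArg Units.val hkd⟩, k.2⟩, Subtype.ext (Units.ext rfl)⟩
      refine isConj_iff.2 ⟨s, suToGU_injective ?_⟩
      rw [map_mul, map_mul, map_inv, hs, hrep, hrep, hk]
      calc g (a * c ^ n) * z'⁻¹ * (g a)⁻¹ * (g a * x0 * (g a)⁻¹) * (g (a * c ^ n) * z'⁻¹ * (g a)⁻¹)⁻¹
          = g (a * c ^ n) * (z'⁻¹ * (x0 * z')) * (g (a * c ^ n))⁻¹ := by group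
        _ = g (a * c ^ n) * x0 * (g (a * c ^ n))⁻¹ := by rw [← hzc, inv_mul_cancel_left]
  let R := (powMonoidHom n : N1 →* N1).range
  have hreg : ∀ c : N1, Reg ((rep c : Matrix.SpecialLinearGroup (Fin n) K) : Matrix (Fin n) (Fin n) K) := by
    intro c
    obtain ⟨G, hG⟩ : ∃ G, G = ((g c : Cfsg.GU n K q) : GL (Fin n) K) := ⟨_, rfl⟩
    rw [← suToGU_val, hrep, Subgroup.coe_mul, Subgroup.coe_mul, Subgroup.coe_inv, ← hG, Units.val_mul, Units.val_mul, hx0, suToGU_val]
    have e : (G : Matrix (Fin n) (Fin n) K) * ((u0 : Matrix.SpecialLinearGroup (Fin n) K) : Matrix (Fin n) (Fin n) K) * ((G⁻¹ : GL (Fin n) K) : Matrix (Fin n) (Fin n) K) - 1 =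
        (G : Matrix (Fin n) (Fin n) K) * (((u0 : Matrix.SpecialLinearGroup (Fin n) K) : Matrix (Fin n) (Fin n) K) - 1) * ((G⁻¹ : GL (Fin n) K) : Matrix (Fin n) (Fin n) K) := by
      rw [mul_sub, sub_mul, mul_one, Units.mul_inv]
    refine ⟨?_, ?_⟩
    · rw [e, Units.conj_pow, hu0.1, mul_zero, zero_mul]
    · rw [e, Matrix.rank_mul_eq_left_of_isUnit_det _ _ ((Matrix.isUnit_iff_isUnit_det _).mp (Units.isUnit _)),
        Matrix.rank_mul_eq_right_of_isUnit_det _ _ ((Matrix.isUnit_iff_isUnit_det _).mp (Units.isUnit _)), hu0.2]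
  let ψ : N1 ⧸ R → {C : ConjClasses (Cfsg.SU n K q) // ∃ u : Cfsg.SU n K q, ConjClasses.mk u = C ∧
      Reg ((u : Matrix.SpecialLinearGroup (Fin n) K) : Matrix (Fin n) (Fin n) K)} :=
    Quotient.lift (fun a => ⟨ConjClasses.mk (rep a), rep a, rfl, hreg a⟩) fun a b h => by
      obtain ⟨c, hc⟩ := QuotientGroup.leftRel_apply.mp h
      exact Subtype.ext (ConjClasses.mk_eq_mk_iff_isConj.2 ((key a b).2 ⟨c, by rw [← powMonoidHom_apply n c, hc, mul_inv_cancel_left]⟩))
  have hψ : Function.Bijective ψ := by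
    constructor
    · intro x y
      induction x using Quotient.inductionOn with
      | _ a =>
        induction y using Quotient.inductionOn with
        | _ b =>
          intro h
          obtain ⟨c, hc⟩ := (key a b).1 (ConjClasses.mk_eq_mk_iff_isConj.1 (congrArg Subtype.val h))
          exact Quotient.sound (QuotientGroup.leftRel_apply.mpr ⟨c, by rw [powMonoidHom_apply, ← hc, inv_mul_cancel_left]⟩)
    · rintro ⟨C, u, rfl, hu⟩
      obtain ⟨h, hh⟩ := isConj_iff.1 ((isConj_GU_iff hK x0 (suToGU n K q u)).2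
        (isConj_regular (by rw [hx0, suToGU_val]; exact hu0.1) (by rw [hx0, suToGU_val]; exact hu0.2)
          (by rw [suToGU_val]; exact hu.1) (by rw [suToGU_val]; exact hu.2)))
      obtain ⟨c, hc⟩ : ∃ c : N1, (c : Kˣ) = Matrix.GeneralLinearGroup.det (h : GL (Fin n) K) :=
        ⟨⟨_, by rw [hN1]; exact det_pow_eq_one hK h⟩, rfl⟩
      refine ⟨QuotientGroup.mk c, Subtype.ext (ConjClasses.mk_eq_mk_iff_isConj.2 ?_)⟩
      have hkd : Matrix.GeneralLinearGroup.det ((h * (g c)⁻¹ : Cfsg.GU n K q) : GL (Fin n) K) = 1 := by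
        rw [Subgroup.coe_mul, Subgroup.coe_inv, map_mul, map_inv, hg, hc, mul_inv_cancel]
      obtain ⟨s, hs⟩ : ∃ s : Cfsg.SU n K q, suToGU n K q s = h * (g c)⁻¹ :=
        ⟨⟨⟨_, congrArg Units.val hkd⟩, (h * (g c)⁻¹).2⟩, Subtype.ext (Units.ext rfl)⟩
      refine isConj_iff.2 ⟨s, suToGU_injective ?_⟩
      rw [map_mul, map_mul, map_inv, hs, hrep, ← hh]
      group
  refine (Nat.card_eq_of_bijective ψ hψ).symm.trans ?_
  have h1 := IsCyclic.card_powMonoidHom_ker (G := N1) n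
  have h2 := IsCyclic.card_powMonoidHom_range (G := N1) n
  have hcard : Nat.card N1 = q + 1 := by
    rw [hN1, IsCyclic.card_powMonoidHom_ker, Nat.card_units, Nat.card_eq_fintype_card, hK]
    exact Nat.gcd_eq_right ⟨q - 1, by rw [← Nat.sq_sub_sq, one_pow]⟩
  rw [hcard] at h1 h2
  have h3 := Subgroup.card_eq_card_quotient_mul_card_subgroup R
  rw [hcard, h2] at h3
  refine Nat.eq_of_mul_eq_mul_right (?_ : 0 < (q + 1) / (q + 1).gcd n) ?_
  · exact Nat.div_pos (Nat.gcd_le_left _ (by omega)) (Nat.gcd_pos_of_pos_left _ (by omega))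
  · rw [← h3, Nat.gcd_comm n, Nat.mul_div_cancel' (Nat.gcd_dvd_left _ _)]

end Cfsg.Agent.S2643
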