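import Cfsg.Statements.S2644
import Cfsg.Agent.Lib.Geometry.WittHermitian
import Cfsg.Agent.Lib.Geometry.UnitaryBasic
import Cfsg.Agent.Lib.Geometry.UnitaryDet

set_option autoImplicit false
open Cfsg

namespace Cfsg.Agent.S2644

open Matrix
open Cfsg.Agent.Lib.Geometry

/-- In the special unitary group SU_n(q) with n ≥ 3 (isometries of Σ u_i v_i^q of determinant one over the field with q² elements), any two transvections (elements t with t − 1 of rank one and square zero) are conjugate. -/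
theorem result {K : Type*} [Field K] [Fintype K] {q n : ℕ} (hK : Fintype.card K = q ^ 2) (hn : 3 ≤ n) (s t : ↥(Cfsg.SU n K q)) (hs : Cfsg.IsTransvection (((s : GL (Fin n) K) : Matrix (Fin n) (Fin n) K))) (ht : Cfsg.IsTransvection (((t : GL (Fin n) K) : Matrix (Fin n) (Fin n) K))) : IsConj s t := by
  classical
  set σ := frobQ hK with hσd
  set B := hermBilin n hK with hBd
  have hσ : σ ≠ RingHom.id K := frobQ_ne_id hK
  have hσ2 : ∀ a, σ (σ a) = a := frobQ_frobQ hK
  have hS : B.IsSymm := hermBilin_isSymm hK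
  have hB : B.Nondegenerate := hermBilin_nondegenerate hK
  -- normal form
  have form : ∀ u : ↥(Cfsg.SU n K q), Cfsg.IsTransvection (((u : GL (Fin n) K) : Matrix (Fin n) (Fin n) K)) →
      ∃ (v : Fin n → K) (c : K), v ≠ 0 ∧ c ≠ 0 ∧ B v v = 0 ∧ c + σ c = 0 ∧
        ∀ x, ((u : GL (Fin n) K) : Matrix (Fin n) (Fin n) K) *ᵥ x = x + (c * B v x) • v := by
    rintro u ⟨hr, hsq⟩
    set M := (((u : GL (Fin n) K) : Matrix (Fin n) (Fin n) K) - 1) with hM
    obtain ⟨⟨v, hv⟩, hv0', hspan⟩ := finrank_eq_one_iff'.mp (show Module.finrank K (LinearMap.range M.mulVecLin) = 1 from hr)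
    have hv0 : v ≠ 0 := fun h0 => hv0' (Subtype.ext h0)
    have hφ : ∀ x, ∃ c : K, c • v = M *ᵥ x := fun x => by
      obtain ⟨c, hc⟩ := hspan ⟨M *ᵥ x, x, rfl⟩
      exact ⟨c, congrArg Subtype.val hc⟩
    choose φ hφ using hφ
    have hux : ∀ x, ((u : GL (Fin n) K) : Matrix (Fin n) (Fin n) K) *ᵥ x = x + φ x • v := fun x => by
      rw [hφ, hM, Matrix.sub_mulVec, Matrix.one_mulVec]; abel
    obtain ⟨y₁, hy₁⟩ : ∃ y, φ y ≠ 0 := by
      by_contra hall
      push Not at hall
      obtain ⟨y, hy⟩ := hv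
      refine hv0 ?_
      rw [← hy, Matrix.mulVecLin_apply, ← hφ, hall, zero_smul]
    have hφv : φ v = 0 := by
      have h : M *ᵥ (M *ᵥ y₁) = 0 := by rw [Matrix.mulVec_mulVec, hsq, Matrix.zero_mulVec]
      rw [← hφ y₁, Matrix.mulVec_smul, ← hφ v, smul_smul] at h
      exact (mul_eq_zero.mp ((smul_eq_zero.mp h).resolve_right hv0)).resolve_left hy₁
    have hiso : ∀ x y, φ y * B x v + σ (φ x) * B v y + σ (φ x) * φ y * B v v = 0 := by
      intro x y
      have h : B (x + φ x • v) (y + φ y • v) = B x y := by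
        rw [← hux, ← hux, hBd, hermBilin_apply, hermBilin_apply]
        exact u.2 _ _
      simp only [map_add, map_smul, map_smulₛₗ, LinearMap.add_apply, LinearMap.smul_apply, smul_eq_mul] at h
      linear_combination h
    have hvv : B v v = 0 := by
      have h := hiso v y₁
      rw [hφv, map_zero, zero_mul, zero_mul, zero_mul, add_zero, add_zero] at h
      exact (mul_eq_zero.mp h).resolve_left hy₁
    obtain ⟨x₀, hx₀⟩ : ∃ x, B x v ≠ 0 := by
      by_contra hall
      push Not at hall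
      exact hv0 (hB.2 v hall)
    set c := -σ (φ x₀) / B x₀ v with hc
    have hφc : ∀ y, φ y = c * B v y := fun y => by
      have h := hiso x₀ y
      rw [hvv, mul_zero, add_zero] at h
      rw [hc, div_mul_eq_mul_div, eq_div_iff hx₀]
      linear_combination h
    have hc0 : c ≠ 0 := fun h0 => hy₁ (by rw [hφc, h0, zero_mul])
    refine ⟨v, c, hv0, hc0, hvv, ?_, fun x => by rw [hux, hφc]⟩
    obtain ⟨y, hy⟩ : ∃ y, B v y ≠ 0 := by
      by_contra hall
      push Not at hall
      exact hv0 (hB.1 v hall)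
    have h := hiso x₀ y
    rw [hvv, mul_zero, add_zero, hφc, hφc, map_mul, hS.eq v x₀] at h
    have h' : (c + σ c) * (B x₀ v * B v y) = 0 := by linear_combination h
    exact (mul_eq_zero.mp h').resolve_right (mul_ne_zero hx₀ hy)
  obtain ⟨v, c, hv0, hc0, hvv, hc, hsv⟩ := form s hs
  obtain ⟨w, d, hw0, hd0, hww, hd, htw⟩ := form t ht
  -- rescale
  obtain ⟨l, hl⟩ : ∃ l : K, d = c * (σ l * l) := by
    have hfix : σ (d / c) = d / c := by
      rw [map_div₀, show σ d = -d by linear_combination hd, show σ c = -c by linear_combination hc, neg_div_neg_eq]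
    have hr0 : d / c ≠ 0 := div_ne_zero hd0 hc0
    obtain ⟨g, hg⟩ := IsCyclic.exists_monoid_generator (α := Kˣ)
    obtain ⟨k, hk⟩ := hg (Units.mk0 _ hr0)
    have hq1 : Units.mk0 _ hr0 ^ (q - 1) = 1 := by
      refine Units.ext ?_
      rw [Units.val_pow_eq_pow_val, Units.val_one, Units.val_mk0]
      have h1 : (d / c) ^ q = d / c := hfix
      have hq : 1 ≤ q := by have := q_pos hK; omega
      refine mul_right_cancel₀ hr0 ?_
      rw [← pow_succ, one_mul, show q - 1 + 1 = q by omega, h1]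
    rw [← hk, ← pow_mul] at hq1
    have hord : orderOf g = q ^ 2 - 1 := by
      rw [orderOf_eq_card_of_forall_mem_powers hg, Nat.card_units, Nat.card_eq_fintype_card, hK]
    have hdvd := orderOf_dvd_of_pow_eq_one hq1
    rw [hord, show q ^ 2 - 1 = (q + 1) * (q - 1) by rw [← Nat.sq_sub_sq, one_pow]] at hdvd
    have hq : 0 < q - 1 := by have := q_pos hK; omega
    obtain ⟨j, hj⟩ := Nat.dvd_of_mul_dvd_mul_right hq hdvd
    refine ⟨(g : K) ^ j, ?_⟩
    have : d / c = (g : K) ^ k := by rw [← Units.val_pow_eq_pow_val, show g ^ k = Units.mk0 _ hr0 from hk, Units.val_mk0]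
    rw [hj, mul_comm (q + 1) j, pow_mul, pow_succ] at this
    show d = c * (((g : K) ^ j) ^ q * (g : K) ^ j)
    rw [← this, mul_div_cancel₀ _ hc0]
  have hl0 : l ≠ 0 := fun h0 => hd0 (by rw [hl, h0, mul_zero, mul_zero])
  obtain ⟨w', hw'⟩ : ∃ w', w' = l • w := ⟨_, rfl⟩
  have hw'0 : w' ≠ 0 := hw' ▸ smul_ne_zero hl0 hw0
  have hw'w' : B w' w' = 0 := by simp [hw', hww]
  have htw' : ∀ x, ((t : GL (Fin n) K) : Matrix (Fin n) (Fin n) K) *ᵥ x = x + (c * B w' x) • w' := fun x => by
    rw [htw, hl, hw', map_smulₛₗ, LinearMap.smul_apply, smul_eq_mul, smul_smul]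
    congr 2; ring
  -- Witt
  let φ' : Submodule.span K {v} →ₗ[K] (Fin n → K) :=
    LinearMap.toSpanSingleton K _ w' ∘ₗ
      ((LinearEquiv.toSpanNonzeroSingleton K _ v hv0).symm : Submodule.span K {v} →ₗ[K] K)
  obtain ⟨g, hg, hgx⟩ := witt_hermitian B hσ hσ2 hS hB (Submodule.span K {v}) φ'
    ((smul_left_injective K hw'0).comp (LinearEquiv.toSpanNonzeroSingleton K _ v hv0).symm.injective)
    (fun a b => by
      obtain ⟨a', rfl⟩ := (LinearEquiv.toSpanNonzeroSingleton K _ v hv0).surjective a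
      obtain ⟨b', rfl⟩ := (LinearEquiv.toSpanNonzeroSingleton K _ v hv0).surjective b
      simp [φ', hvv, hw'w'])
  have hgv : g v = w' := by
    refine (hgx ⟨v, Submodule.mem_span_singleton_self v⟩).trans ?_
    have : (LinearEquiv.toSpanNonzeroSingleton K _ v hv0).symm ⟨v, Submodule.mem_span_singleton_self v⟩ = 1 :=
      (LinearEquiv.symm_apply_eq _).mpr (Subtype.ext (by simp))
    show ((LinearEquiv.toSpanNonzeroSingleton K _ v hv0).symm _) • w' = w'
    rw [this, one_smul]
  -- an anisotropic vector orthogonal to `w'`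
  obtain ⟨z, hzw, hzz⟩ : ∃ z, B w' z = 0 ∧ B z z ≠ 0 := by
    by_contra hall
    push Not at hall
    have hpol : ∀ a b, B w' a = 0 → B w' b = 0 → B a b = 0 := by
      intro a b ha hb
      by_contra hab
      refine hσ (RingHom.ext fun e => ?_)
      have key : ∀ e : K, e * B a b + σ (e * B a b) = 0 := fun e => by
        have h := hall (a + e • b) (by rw [map_add, map_smul, ha, hb, smul_zero, add_zero])
        simp only [map_add, map_smul, map_smulₛₗ, LinearMap.add_apply, LinearMap.smul_apply, smul_eq_mul,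
          hall a ha, hall b hb] at h
        rw [map_mul, hS.eq a b]
        linear_combination h
      have h1 := key (1 / B a b)
      rw [div_mul_cancel₀ _ hab, map_one] at h1
      have h2 := key (e / B a b)
      rw [div_mul_cancel₀ _ hab] at h2
      show σ e = e
      linear_combination h2 - e * h1
    have hker : 1 < Module.finrank K (LinearMap.ker (B w')) := by
      have h := LinearMap.finrank_range_add_finrank_ker (B w')
      have h' := Submodule.finrank_le (LinearMap.range (B w'))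
      rw [Module.finrank_self] at h'
      rw [Module.finrank_fin_fun] at h
      omega
    obtain ⟨z, hz, hzs⟩ := SetLike.not_le_iff_exists.mp (show ¬ LinearMap.ker (B w') ≤ Submodule.span K {w'} from fun hle => by
      have := Submodule.finrank_mono hle
      rw [finrank_span_singleton hw'0] at this
      omega)
    obtain ⟨y₀, hy₀⟩ : ∃ y, B w' y ≠ 0 := by
      by_contra hh
      push Not at hh
      exact hw'0 (hB.1 w' hh)
    set μ := B z y₀ / B w' y₀ with hμ
    refine hzs (Submodule.mem_span_singleton.mpr ⟨σ μ, (sub_eq_zero.mp (hB.1 (z - σ μ • w') fun y => ?_)).symm⟩)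
    have h1 : B w' (y - (B w' y / B w' y₀) • y₀) = 0 := by
      rw [map_sub, map_smul, smul_eq_mul, div_mul_cancel₀ _ hy₀, sub_self]
    have h2 := hpol z _ hz h1
    rw [map_sub, map_smul, smul_eq_mul] at h2
    rw [map_sub, map_smulₛₗ, LinearMap.sub_apply, LinearMap.smul_apply, smul_eq_mul, hσ2, hμ]
    field_simp at h2 ⊢
    linear_combination h2
  -- fix the determinant
  let g₀ := (guEquiv n hK).symm ⟨g, hg⟩
  have hg₀ : ∀ x, ((g₀ : GL (Fin n) K) : Matrix (Fin n) (Fin n) K) *ᵥ x = g x := fun x => by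
    rw [← guEquiv_apply hK g₀ x, MulEquiv.apply_symm_apply]
  set D := ((g₀ : GL (Fin n) K) : Matrix (Fin n) (Fin n) K).det with hD
  have hD0 : D ≠ 0 := (Matrix.isUnits_det_units _).ne_zero
  have hN : σ D⁻¹ * D⁻¹ = 1 := by
    have h : D ^ (q + 1) = 1 := congrArg Units.val (MonoidHom.mem_ker.mp (det_mem_normOneUnits hK g₀))
    show D⁻¹ ^ q * D⁻¹ = 1
    rw [← pow_succ, inv_pow, h, inv_one]
  set e := (D⁻¹ - 1) / B z z with he
  have hbz : σ (B z z) = B z z := hS.eq z z
  obtain ⟨h, hh, hhv⟩ := exists_sesq_quasireflection B hS hB z e (by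
    have hnum : (D⁻¹ - 1) + (σ D⁻¹ - 1) + (σ D⁻¹ - 1) * (D⁻¹ - 1) = 0 := by linear_combination hN
    have hgen : ∀ x y b : K, b ≠ 0 → x / b + y / b + y / b * (x / b) * b = (x + y + y * x) / b := fun x y b hb => by
      field_simp
    rw [he, map_div₀, map_sub, map_one, hbz]
    exact (hgen _ _ _ hzz).trans (by rw [hnum, zero_div]))
  let h₀ := (guEquiv n hK).symm ⟨h, hh⟩
  have hh₀ : ∀ x, ((h₀ : GL (Fin n) K) : Matrix (Fin n) (Fin n) K) *ᵥ x = h x := fun x => by
    rw [← guEquiv_apply hK h₀ x, MulEquiv.apply_symm_apply]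
  have hdeth : ((h₀ : GL (Fin n) K) : Matrix (Fin n) (Fin n) K).det = D⁻¹ := by
    have h1 : ((h₀ : GL (Fin n) K) : Matrix (Fin n) (Fin n) K) =
        1 + Matrix.replicateCol Unit (e • z) * Matrix.replicateRow Unit (fun i => z i ^ q) := by
      refine Matrix.toLin'.injective (LinearMap.ext fun x => ?_)
      rw [Matrix.toLin'_apply, Matrix.toLin'_apply, hh₀, hhv, ← Matrix.vecMulVec_eq, Matrix.add_mulVec,
        Matrix.one_mulVec, Matrix.vecMulVec_mulVec, op_smul_eq_smul, smul_smul, hBd, hermBilin_apply]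
      congr 2
      rw [Cfsg.hermForm, mul_comm e, dotProduct_comm]
      rfl
    have h2 : (fun i => z i ^ q) ⬝ᵥ (e • z) = e * B z z := by
      rw [dotProduct_smul, smul_eq_mul, hBd, hermBilin_apply, Cfsg.hermForm, dotProduct_comm]
      rfl
    rw [h1, Matrix.det_one_add_replicateCol_mul_replicateRow, h2, he, div_mul_cancel₀ _ hzz, add_sub_cancel]
  set k := h₀ * g₀ with hk
  have hdetk : ((k : GL (Fin n) K) : Matrix (Fin n) (Fin n) K).det = 1 := by
    rw [hk, Subgroup.coe_mul, Units.val_mul, Matrix.det_mul, hdeth, ← hD, inv_mul_cancel₀ hD0]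
  have hkv : ((k : GL (Fin n) K) : Matrix (Fin n) (Fin n) K) *ᵥ v = w' := by
    rw [hk, Subgroup.coe_mul, Units.val_mul, ← Matrix.mulVec_mulVec, hg₀, hgv, hh₀, hhv]
    rw [show B z w' = 0 by rw [← hS.eq w' z, hzw, map_zero], mul_zero, zero_smul, add_zero]
  let k' : ↥(Cfsg.SU n K q) := ⟨⟨_, hdetk⟩, fun a b => k.2 a b⟩
  have hk' : ∀ x, ((k' : GL (Fin n) K) : Matrix (Fin n) (Fin n) K) *ᵥ x =
      ((k : GL (Fin n) K) : Matrix (Fin n) (Fin n) K) *ᵥ x := fun x => rfl
  refine isConj_iff.mpr ⟨k', eq_of_heq (heq_of_eq ?_)⟩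
  rw [mul_inv_eq_iff_eq_mul]
  refine Subtype.ext (Subtype.ext (Matrix.toLin'.injective (LinearMap.ext fun x => ?_)))
  rw [Matrix.toLin'_apply, Matrix.toLin'_apply]
  show (((k : GL (Fin n) K) : Matrix (Fin n) (Fin n) K) * ((s : GL (Fin n) K) : Matrix (Fin n) (Fin n) K)) *ᵥ x =
    (((t : GL (Fin n) K) : Matrix (Fin n) (Fin n) K) * ((k : GL (Fin n) K) : Matrix (Fin n) (Fin n) K)) *ᵥ x
  rw [← Matrix.mulVec_mulVec, ← Matrix.mulVec_mulVec, hsv, htw', Matrix.mulVec_add, Matrix.mulVec_smul, hkv]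
  congr 3
  rw [← hkv, hBd, hermBilin_apply, hermBilin_apply]
  exact (k.2 _ _).symm

end Cfsg.Agent.S2644
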