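import Cfsg.Statements.S2646
import Cfsg.Agent.Lib.Similar.UnipotentUnitary

set_option autoImplicit false
open Cfsg

namespace Cfsg.Agent.S2646

open Matrix Cfsg.Agent.Lib.Similar Cfsg.Agent.Lib.Similar.UnipU
open Cfsg.Agent.Lib.SuSpec (adj adj_mul adj_one adj_adj)
open Cfsg.Agent.S2581 (Coord IsLead sum_types)


/-- Order of the centraliser in the general unitary group GU_n(q) of a unipotent element of given Jordan type: if u ∈ GU_n(q) (isometries of Σ u_i v_i^q over the field with q² elements) is similar to the unipotent matrix with a_i Jordan blocks of size i (all sizes at least 1), then its centraliser in GU_n(q) has order q^γ · Π_i |GU_(a_i)(q)| with γ = 2 Σ_(i<j) i a_i a_j + Σ_i (i − 1) a_i², the same exponent as in GL_n(q), where |GU_a(q)| = q^(a(a−1)/2) Π_(k=1)^a (q^k − (−1)^k). -/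
theorem result {K : Type*} [Field K] [Fintype K] {q n t : ℕ} (hK : Fintype.card K = q ^ 2) (d : Fin t → ℕ) (hd : ∀ k, 1 ≤ d k) (e : ((k : Fin t) × Fin (d k)) ≃ Fin n) (u : ↥(Cfsg.GU n K q)) (hu : IsConj (Matrix.reindex e e (Cfsg.jordanTypeMatrix d K)) ((u : GL (Fin n) K) : Matrix (Fin n) (Fin n) K)) : (Nat.card ↥(Subgroup.centralizer ({u} : Set ↥(Cfsg.GU n K q))) : ℤ) = (q : ℤ) ^ (2 * (∑ i ∈ Finset.range (Finset.univ.sup d + 1), ∑ j ∈ Finset.range (Finset.univ.sup d + 1), if i < j then i * (Finset.univ.filter (fun k : Fin t => d k = i)).card * (Finset.univ.filter (fun k : Fin t => d k = j)).card else 0) + ∑ i ∈ Finset.range (Finset.univ.sup d + 1), (i - 1) * (Finset.univ.filter (fun k : Fin t => d k = i)).card ^ 2) * ∏ i ∈ Finset.range (Finset.univ.sup d + 1), ((q : ℤ) ^ ((Finset.univ.filter (fun k : Fin t => d k = i)).card * ((Finset.univ.filter (fun k : Fin t => d k = i)).card - 1) / 2) * ∏ j : Fin (Finset.univ.filter (fun k : Fin t => d k = i)).card, ((q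 : ℤ) ^ ((j : ℕ) + 1) - (-1) ^ ((j : ℕ) + 1))) := by
  classical
  obtain ⟨σ, hσd⟩ : ∃ σ, σ = Cfsg.Agent.Lib.Classical.conjHom hK := ⟨_, rfl⟩
  have hσ : ∀ x, σ (σ x) = x := hσd ▸ Cfsg.Agent.Lib.Classical.conjHom_conjHom hK
  have hne : σ ≠ RingHom.id K := hσd ▸ Cfsg.Agent.Lib.Classical.conjHom_ne_id hK
  obtain ⟨c, hc⟩ := hu
  obtain ⟨U, hUd⟩ : ∃ U, U = ((u : GL (Fin n) K) : Matrix (Fin n) (Fin n) K) := ⟨_, rfl⟩
  obtain ⟨C, hCd⟩ : ∃ C, C = (c : Matrix (Fin n) (Fin n) K) := ⟨_, rfl⟩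
  obtain ⟨Ci, hCid⟩ : ∃ Ci, Ci = ((c⁻¹ : GL (Fin n) K) : Matrix (Fin n) (Fin n) K) := ⟨_, rfl⟩
  have c1 : C * Ci = 1 := by rw [hCd, hCid, Units.mul_inv]
  have c2 : Ci * C = 1 := by rw [hCd, hCid, Units.inv_mul]
  have hU : adj σ U * U = 1 := by rw [hσd, hUd]; exact (mem_GU_adj hK _).1 u.2
  obtain ⟨φ, hφ⟩ : ∃ φ, φ = Matrix.reindexAlgEquiv K K e.symm := ⟨_, rfl⟩
  have hadj : ∀ M, φ (adj σ M) = adjI σ (φ M) := fun M => by rw [hφ]; rfl
  obtain ⟨R0, hR0⟩ : ∃ R0, R0 = Matrix.reindex e e (Cfsg.jordanTypeMatrix d K) := ⟨_, rfl⟩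
  have hφR : φ R0 = Cfsg.jordanTypeMatrix d K := by rw [hφ, hR0]; ext i j; simp
  have hc' : C * R0 = U * C := by rw [hR0, hCd, hUd]; exact hc
  have hJc : φ (Ci * U * C) = Cfsg.jordanTypeMatrix d K := by
    rw [mul_assoc, ← hc', ← mul_assoc, c2, one_mul, hφR]
  obtain ⟨H0, hH0⟩ : ∃ H0, H0 = adj σ C * C := ⟨_, rfl⟩
  obtain ⟨H0i, hH0i⟩ : ∃ H0i, H0i = Ci * adj σ Ci := ⟨_, rfl⟩
  have h01 : H0 * H0i = 1 := by
    rw [hH0, hH0i, mul_assoc, ← mul_assoc C, c1, one_mul, ← adj_mul, c2, adj_one]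
  let F : Form d σ :=
    { H := φ H0
      Hi := φ H0i
      hd := hd
      hσ := hσ
      hne := hne
      herm := by rw [← hadj, hH0, adj_mul, adj_adj hσ]
      mul_inv := by rw [← map_mul, h01, map_one]
      inv_mul := by rw [← map_mul, mul_eq_one_comm.1 h01, map_one]
      inv := by
        rw [← hφR, ← hadj, ← map_mul, ← map_mul]
        congr 1
        rw [hH0, ← mul_assoc, ← adj_mul, hc', mul_assoc, hc', adj_mul, mul_assoc, ← mul_assoc (adj σ U), hU, one_mul] }
  have hFH : F.H = φ H0 := rfl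
  have hsymm : ∀ (A : Iso F), adj σ (C * φ.symm A.1 * Ci) * (C * φ.symm A.1 * Ci) = 1 := by
    intro A
    have h : adj σ (φ.symm A.1) * H0 * φ.symm A.1 = H0 := φ.injective (by
      rw [map_mul, map_mul, hadj, AlgEquiv.apply_symm_apply, ← hFH]; exact A.2.2)
    calc adj σ (C * φ.symm A.1 * Ci) * (C * φ.symm A.1 * Ci)
        = adj σ Ci * (adj σ (φ.symm A.1) * (adj σ C * C) * φ.symm A.1) * Ci := by
          rw [adj_mul, adj_mul]; simp only [mul_assoc]
      _ = (adj σ Ci * adj σ C) * (C * Ci) := by rw [← hH0, h, hH0]; simp only [mul_assoc]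
      _ = 1 := by rw [← adj_mul, c1, adj_one, one_mul]
  have hcomm : ∀ (A : Iso F), U * (C * φ.symm A.1 * Ci) = (C * φ.symm A.1 * Ci) * U := by
    intro A
    have h : R0 * φ.symm A.1 = φ.symm A.1 * R0 := φ.injective (by
      rw [map_mul, map_mul, hφR, AlgEquiv.apply_symm_apply]; exact (comm_iff A.1).1 A.2.1)
    calc U * (C * φ.symm A.1 * Ci) = C * (R0 * φ.symm A.1) * Ci := by rw [← mul_assoc, ← mul_assoc, ← hc']; simp only [mul_assoc]
      _ = C * φ.symm A.1 * (R0 * (Ci * 1)) := by rw [h, mul_one]; simp only [mul_assoc]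
      _ = C * φ.symm A.1 * (Ci * (C * R0) * Ci) := by rw [mul_one, ← mul_assoc Ci, c2, one_mul]
      _ = C * φ.symm A.1 * Ci * U := by rw [hc', mul_assoc Ci, mul_assoc U, c1, mul_one]; simp only [mul_assoc]
  have hcent : Nat.card (Subgroup.centralizer ({u} : Set (Cfsg.GU n K q))) = Nat.card (Iso F) := by
    refine Nat.card_congr
      { toFun := fun v => ⟨φ (Ci * ((v.1 : GL (Fin n) K) : Matrix (Fin n) (Fin n) K) * C), ?_, ?_⟩
        invFun := fun A => ⟨⟨⟨C * φ.symm A.1 * Ci, _, mul_eq_one_comm.1 (hsymm A), hsymm A⟩,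
          (mem_GU_adj hK _).2 (hσd ▸ hsymm A)⟩, Subgroup.mem_centralizer_singleton_iff.2 ?_⟩
        left_inv := fun v => Subtype.ext (Subtype.ext (Units.ext ?_))
        right_inv := fun A => Subtype.ext ?_ }
    · have hv : U * ((v.1 : GL (Fin n) K) : Matrix (Fin n) (Fin n) K) = ((v.1 : GL (Fin n) K) : Matrix (Fin n) (Fin n) K) * U := by
        rw [hUd]
        exact congrArg (fun x : Cfsg.GU n K q => ((x : GL (Fin n) K) : Matrix (Fin n) (Fin n) K)) (Subgroup.mem_centralizer_singleton_iff.1 v.2).symm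
      rw [comm_iff, ← hJc, ← map_mul, ← map_mul]
      congr 1
      calc Ci * U * C * (Ci * _ * C) = Ci * (U * _) * C := by simp only [mul_assoc]; rw [← mul_assoc C Ci, c1, one_mul]
        _ = _ := by rw [hv]; simp only [mul_assoc]; rw [← mul_assoc C Ci, c1, one_mul]
    · have hv : adj σ ((v.1 : GL (Fin n) K) : Matrix (Fin n) (Fin n) K) * ((v.1 : GL (Fin n) K) : Matrix (Fin n) (Fin n) K) = 1 := by
        rw [hσd]; exact (mem_GU_adj hK _).1 v.1.2
      rw [← hadj, hFH, ← map_mul, ← map_mul]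
      congr 1
      obtain ⟨V, hV⟩ : ∃ V, V = ((v.1 : GL (Fin n) K) : Matrix (Fin n) (Fin n) K) := ⟨_, rfl⟩
      rw [← hV] at hv ⊢
      calc adj σ (Ci * V * C) * H0 * (Ci * V * C) = adj σ C * adj σ V * (adj σ Ci * adj σ C) * (C * Ci) * V * C := by
            rw [hH0, adj_mul, adj_mul]; simp only [mul_assoc]
        _ = adj σ C * (adj σ V * V) * C := by rw [← adj_mul C Ci, c1, adj_one, mul_one, mul_one]; simp only [mul_assoc]
        _ = H0 := by rw [hv, mul_one, hH0]
    · refine Subtype.ext (Units.ext ?_)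
      show C * φ.symm A.1 * Ci * ((u : GL (Fin n) K) : Matrix (Fin n) (Fin n) K) = ((u : GL (Fin n) K) : Matrix (Fin n) (Fin n) K) * (C * φ.symm A.1 * Ci)
      rw [← hUd]
      exact (hcomm A).symm
    · show C * φ.symm (φ _) * Ci = _
      rw [AlgEquiv.symm_apply_apply, ← mul_assoc, ← mul_assoc, c1, one_mul, mul_assoc, c1, mul_one]
    · show φ (Ci * (C * φ.symm A.1 * Ci) * C) = A.1
      rw [← mul_assoc, ← mul_assoc, c2, one_mul, mul_assoc, c2, mul_one, AlgEquiv.apply_symm_apply]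
  obtain ⟨R, hR⟩ : ∃ R, R = Finset.range (Finset.univ.sup d + 1) := ⟨_, rfl⟩
  have hmemR : ∀ k, d k ∈ R := fun k => hR ▸ Finset.mem_range.mpr (Nat.lt_succ_of_le (Finset.le_sup (Finset.mem_univ k)))
  have hK1 : Nat.card (K1 F) = q ^ Nat.card {p : Coord d // ¬ IsLead d p} := by
    obtain ⟨h1, h2⟩ := card_J0 F
    have h3 := card_J0_coord F
    haveI : Nonempty (Sym0 F) := ⟨⟨0, ⟨by rw [Comm, mul_zero, zero_mul], fun D => rfl⟩, by
      rw [tau, show adjI σ (0 : Matrix (Idx d) (Idx d) K) = 0 by ext i j; simp [adjI_apply], mul_zero, zero_mul]⟩⟩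
    have hS : 0 < Nat.card (Sym0 F) := Nat.card_pos
    have e1 : Nat.card (K1 F) = Nat.card (Sym0 F) := Nat.eq_of_mul_eq_mul_right hS (by rw [← h2, h1, sq])
    rw [h1, hK, ← pow_mul, mul_comm, pow_mul] at h3
    rw [e1]
    exact Nat.pow_left_injective (by norm_num) h3
  have hY : ∀ D, Nat.card {M : Matrix {k // d k = D} {k // d k = D} K // adjI σ M * hlead F D * M = hlead F D} =
      Nat.card (Cfsg.GU (Finset.univ.filter fun k : Fin t => d k = D).card K q) := by
    intro D
    obtain ⟨x, hx0, hx⟩ : ∃ x : K, x ≠ 0 ∧ σ x = (-1) ^ (D - 1) * x := by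
      rcases neg_one_pow_eq_or K (D - 1) with h | h
      · exact ⟨1, one_ne_zero, by rw [h, map_one, one_mul]⟩
      · obtain ⟨a, ha⟩ : ∃ a, a - σ a ≠ 0 := by
          by_contra hh
          push Not at hh
          exact hne (RingHom.ext fun a => (sub_eq_zero.1 (hh a)).symm)
        exact ⟨a - σ a, ha, by rw [h, map_sub, hσ]; ring⟩
    subst hσd
    rw [card_isometry hK (det_hlead F D) hx0 (by
      rw [adjI_smul, adjI_hlead, smul_smul, hx, mul_comm _ x, mul_assoc, ← mul_pow]; simp)]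
    rw [Fintype.card_subtype]
  rw [hcent, card_Iso F R hmemR, hK1]
  simp only [hY, Cfsg.Agent.Lib.Classical.card_GU hK]
  rw [← hR]
  push_cast
  congr 1
  · congr 1
    have hcount : Nat.card {p : Coord d // ¬ IsLead d p} =
        ∑ k : Fin t, ∑ l : Fin t, (if d k < d l then d k else if d l < d k then d l else d k - 1) := by
      let e : {p : Coord d // ¬ IsLead d p} ≃
          (k : Fin t) × (l : Fin t) × {s : Fin (d k) // d k ≤ (s : ℕ) + d l ∧ ¬ ((s : ℕ) = 0 ∧ d k = d l)} :=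
        { toFun := fun p => ⟨p.1.1.1, p.1.1.2.1, p.1.1.2.2, p.1.2, p.2⟩
          invFun := fun x => ⟨⟨⟨x.1, x.2.1, x.2.2.1⟩, x.2.2.2.1⟩, x.2.2.2.2⟩
          left_inv := fun p => rfl
          right_inv := fun x => rfl }
      rw [Nat.card_congr e, Nat.card_sigma]
      refine Finset.sum_congr rfl fun k _ => ?_
      rw [Nat.card_sigma]
      refine Finset.sum_congr rfl fun l _ => ?_
      rw [Nat.card_eq_fintype_card, Fintype.card_subtype]
      split_ifs with h1 h2
      · rw [Finset.filter_true_of_mem fun s _ => ⟨by omega, fun e => by omega⟩, Finset.card_univ, Fintype.card_fin]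
      · have : (Finset.univ.filter fun s : Fin (d k) => (s : ℕ) < d k - d l).card = d k - d l := by
          rw [Fin.card_filter_val_lt]; omega
        have e : (Finset.univ.filter fun s : Fin (d k) => d k ≤ (s : ℕ) + d l ∧ ¬ ((s : ℕ) = 0 ∧ d k = d l)) =
            (Finset.univ.filter fun s : Fin (d k) => (s : ℕ) < d k - d l)ᶜ := by
          rw [Finset.compl_filter]
          exact Finset.filter_congr fun s _ => by omega
        rw [e, Finset.card_compl, this, Fintype.card_fin]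
        omega
      · have e : (Finset.univ.filter fun s : Fin (d k) => d k ≤ (s : ℕ) + d l ∧ ¬ ((s : ℕ) = 0 ∧ d k = d l)) =
            ({⟨0, hd k⟩} : Finset (Fin (d k)))ᶜ := by
          ext s; simp [Fin.ext_iff]; omega
        rw [e, Finset.card_compl, Finset.card_singleton, Fintype.card_fin]
    rw [hcount]
    rw [sum_types (d := d) (g := fun i => ∑ l : Fin t, if i < d l then i else if d l < i then d l else i - 1), ← hR]
    rw [Finset.sum_congr rfl fun i _ => congrArg (_ * ·) (sum_types (d := d) (g := fun j => if i < j then i else if j < i then j else i - 1)), ← hR]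
    simp only [Finset.mul_sum, ← Finset.sum_add_distrib]
    have h1 : ∀ i j : ℕ, ∀ a b : ℕ, a * (b * if i < j then i else if j < i then j else i - 1) =
        (if i < j then i * a * b else 0) + (if j < i then j * b * a else 0) + (if i = j then (i - 1) * a * b else 0) := by
      intro i j a b
      rcases lt_trichotomy i j with h | rfl | h
      · simp [h, h.ne, not_lt.mpr h.le]; ring
      · simp; ring
      · simp [h, h.ne', not_lt.mpr h.le]; ring
    simp only [h1, Finset.sum_add_distrib]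
    rw [Finset.sum_comm (f := fun i j => if j < i then _ else 0)]
    rw [Finset.sum_congr rfl (g := fun i => (i - 1) * (Finset.univ.filter fun k : Fin t => d k = i).card ^ 2)
      (f := fun i => ∑ j ∈ R, if i = j then (i - 1) * (Finset.univ.filter fun k : Fin t => d k = i).card * (Finset.univ.filter fun k : Fin t => d k = j).card else 0)
      (fun i hi => by rw [Finset.sum_ite_eq, if_pos hi]; ring)]
    congr 1
    simp only [← Finset.sum_add_distrib]
    exact Finset.sum_congr rfl fun i _ => Finset.sum_congr rfl fun j _ => (two_mul _).symm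
  · refine Finset.prod_congr rfl fun D _ => ?_
    congr 1
    rw [← Fin.prod_univ_eq_prod_range]
    refine Finset.prod_congr rfl fun j _ => ?_
    have hq := Cfsg.Agent.Lib.Classical.two_le_q hK
    rcases Nat.even_or_odd (j : ℕ) with h | h
    · rw [if_pos h, pow_succ (-1 : ℤ), h.neg_one_pow]; push_cast; ring
    · rw [if_neg (Nat.not_even_iff_odd.2 h), pow_succ (-1 : ℤ), h.neg_one_pow, Nat.cast_sub (Nat.one_le_pow _ _ (by omega))]; push_cast; ring

end Cfsg.Agent.S2646
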