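import Cfsg.Statements.S4010
import Cfsg.Agent.Lib.OddChar.PGroupDerived

set_option autoImplicit false
open Cfsg

namespace Cfsg.Agent.S4010

open Cfsg.Agent.Lib.OddChar

/-- Let F be a field, n ≥ 1, and P a finite p-group (p a prime) admitting an injective homomorphism into the general linear group of degree n over F. Then the derived length of P is at most ⌊log₂ n⌋ + 1: that term of the derived series of P is trivial. -/
theorem result {P : Type*} [Group P] [Finite P] (p : ℕ) [Fact p.Prime] (hP : IsPGroup p P) (F : Type*) [Field F] (n : ℕ) (hn : 1 ≤ n) (ρ : P →* Matrix.GeneralLinearGroup (Fin n) F) (hρ : Function.Injective ρ) : derivedSeries P (Nat.log 2 n + 1) = ⊥ := by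
  classical
  let K := AlgebraicClosure F
  let T : Matrix (Fin n) (Fin n) K ≃ₐ[K] Module.End K (Fin n → K) := Matrix.toLinAlgEquiv'
  let m : Matrix (Fin n) (Fin n) F →* Module.End K (Fin n → K) :=
    { toFun := fun M => T (M.map (algebraMap F K))
      map_one' := by rw [Matrix.map_one _ (map_zero _) (map_one _), map_one]
      map_mul' := fun A B => by rw [Matrix.map_mul, map_mul] }
  let σ : P →* Module.End K (Fin n → K) := m.comp ((Units.coeHom _).comp ρ)
  have hσ : Function.Injective σ := by
    intro a b hab
    refine hρ (Units.ext ?_)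
    have := T.injective hab
    exact Matrix.map_injective (algebraMap F K).injective this
  rw [eq_bot_iff]
  intro h hh
  refine Subgroup.mem_bot.mpr (hσ ?_)
  rw [map_one]
  have hfr : Module.finrank K (Fin n → K) = n := Module.finrank_fin_fun K
  by_cases hpK : (p : K) = 0
  · haveI : CharP K p := (CharP.charP_iff_prime_eq_zero Fact.out).mpr hpK
    exact derived_charP hP σ (Nat.log 2 n + 1) (by rw [hfr]; exact (Nat.lt_pow_succ_log_self one_lt_two n).le) h hh
  · let e : (⊤ : Subgroup P) ≃* P := Subgroup.topEquiv
    have hh' : e.symm h ∈ derivedSeries (⊤ : Subgroup P) (Nat.log 2 n + 1) :=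
      map_derivedSeries_le_derivedSeries e.symm.toMonoidHom _ ⟨h, hh, rfl⟩
    have h2 := derived_semisimple (p := p) (K := K) hpK hP n (σ.comp e.toMonoidHom) (le_of_eq hfr) (e.symm h) hh'
    rw [MonoidHom.comp_apply, MulEquiv.coe_toMonoidHom, MulEquiv.apply_symm_apply] at h2
    exact h2

end Cfsg.Agent.S4010
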