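import Cfsg.Statements.S2648
import Cfsg.Agent.Lib.FusionControl.DerivedWreath
import Cfsg.Agent.Lib.FusionControl.SpWreath
import Cfsg.Agent.Lib.Classical.SympGroup
import Cfsg.Agent.S4010

set_option autoImplicit false
open Cfsg

namespace Cfsg.Agent.S2648

open Matrix
open scoped commutatorElement
open Cfsg.Agent.Lib.FusionControl

variable {F : Type*} [Field F]

theorem derived_map_ne_bot {A B : Type*} [Group A] [Group B] (f : A →* B) (hf : Function.Injective f) {k : ℕ}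
    (h : derivedSeries A k ≠ ⊥) : derivedSeries B k ≠ ⊥ := fun hb => h (by
  rw [← Subgroup.map_eq_bot_iff_of_injective _ hf, eq_bot_iff, ← hb]
  exact map_derivedSeries_le_derivedSeries f k)

/-- The invertible matrices preserving a form. -/
def formSub {ι : Type*} [Fintype ι] [DecidableEq ι] (M : Matrix ι ι F) : Subgroup (GL ι F) where
  carrier := {g | (g : Matrix ι ι F) * M * (g : Matrix ι ι F)ᵀ = M}
  one_mem' := by simp
  mul_mem' := fun {a b} ha hb => by
    show ((a * b : GL ι F) : Matrix ι ι F) * M * ((a * b : GL ι F) : Matrix ι ι F)ᵀ = M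
    rw [Units.val_mul, transpose_mul,
      show (a : Matrix ι ι F) * (b : Matrix ι ι F) * M * ((b : Matrix ι ι F)ᵀ * (a : Matrix ι ι F)ᵀ) =
        (a : Matrix ι ι F) * ((b : Matrix ι ι F) * M * (b : Matrix ι ι F)ᵀ) * (a : Matrix ι ι F)ᵀ by
        simp only [Matrix.mul_assoc], show _ = M from hb]
    exact ha
  inv_mem' := fun {a} ha => by
    show ((a⁻¹ : GL ι F) : Matrix ι ι F) * M * ((a⁻¹ : GL ι F) : Matrix ι ι F)ᵀ = M
    conv_lhs => rw [← show _ = M from ha]
    rw [show ((a⁻¹ : GL ι F) : Matrix ι ι F) * ((a : Matrix ι ι F) * M * (a : Matrix ι ι F)ᵀ) *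
        ((a⁻¹ : GL ι F) : Matrix ι ι F)ᵀ = (((a⁻¹ : GL ι F) : Matrix ι ι F) * (a : Matrix ι ι F)) * M *
        ((((a⁻¹ : GL ι F) : Matrix ι ι F) * (a : Matrix ι ι F))ᵀ) by
        rw [transpose_mul]; simp only [Matrix.mul_assoc]]
    simp

theorem mem_formSub {ι : Type*} [Fintype ι] [DecidableEq ι] {M : Matrix ι ι F} {g : GL ι F} :
    g ∈ formSub M ↔ (g : Matrix ι ι F) * M * (g : Matrix ι ι F)ᵀ = M := Iff.rfl

theorem reindex_mem {ι κ : Type*} [Fintype ι] [DecidableEq ι] [Fintype κ] [DecidableEq κ] (e : ι ≃ κ)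
    {M : Matrix ι ι F} {g : GL ι F} (hg : g ∈ formSub M) :
    BlockDiag.glReindex e g ∈ formSub (reindexAlgEquiv F F e M) := by
  rw [mem_formSub] at hg ⊢
  have h := congrArg (reindexAlgEquiv F F e) hg
  rw [map_mul, map_mul] at h
  exact h

theorem double {m : ℕ} (Q : Subgroup (GL (Fin m ⊕ Fin m) F)) [Fintype F] (hm : 1 ≤ m) (hQ : IsPGroup 2 Q)
    (hJ : Q ≤ formSub (J (Fin m) F)) {k : ℕ} (hk : derivedSeries Q k ≠ ⊥) :
    ∃ Q' : Subgroup (GL (Fin (2 * m) ⊕ Fin (2 * m)) F), IsPGroup 2 Q' ∧ Q' ≤ formSub (J (Fin (2 * m)) F) ∧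
      derivedSeries Q' (k + 1) ≠ ⊥ := by
  classical
  have : Fact (Nat.Prime 2) := ⟨Nat.prime_two⟩
  have : Nonempty (Fin m ⊕ Fin m) := ⟨Sum.inl ⟨0, hm⟩⟩
  set W : Subgroup (Equiv.Perm (Fin 2)) := ⊤
  have hW : IsPGroup 2 W := IsPGroup.of_card (n := 1) (by
    rw [Subgroup.card_top, Nat.card_perm, Nat.card_eq_fintype_card, Fintype.card_fin]; rfl)
  let e : Fin m × Fin 2 ≃ Fin (2 * m) := (Equiv.prodComm _ _).trans finProdFinEquiv
  let E : (Fin m ⊕ Fin m) × Fin 2 ≃ Fin (2 * m) ⊕ Fin (2 * m) := (Equiv.sumProdDistrib _ _ _).trans (e.sumCongr e)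
  set P := WreathSquares.wreath DerivedWreath.blk DerivedWreath.bpm Q W with hP
  have hJ' : reindexAlgEquiv F F E (blockDiagonal fun _ : Fin 2 => J (Fin m) F) = J (Fin (2 * m)) F := by
    have h : ∀ a b, J (Fin (2 * m)) F (E a) (E b) = blockDiagonal (fun _ : Fin 2 => J (Fin m) F) a b := by
      rintro ⟨i | i, a⟩ ⟨j | j, b⟩ <;>
        simp [E, J, blockDiagonal_apply, Matrix.one_apply, e.injective.eq_iff] <;>
        by_cases hab : a = b <;> simp [hab]
    ext a b
    rw [reindexAlgEquiv_apply, reindex_apply, submatrix_apply, ← h, Equiv.apply_symm_apply, Equiv.apply_symm_apply]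
  have hle : P ≤ formSub (blockDiagonal fun _ : Fin 2 => J (Fin m) F) := by
    refine sup_le ?_ ?_
    · rintro _ ⟨v, hv, rfl⟩
      rw [mem_formSub, DerivedWreath.coe_blk, blockDiagonal_transpose, ← blockDiagonal_mul, ← blockDiagonal_mul]
      exact congrArg blockDiagonal (funext fun i => mem_formSub.mp (hJ (hv i trivial)))
    · rintro _ ⟨σ, -, rfl⟩
      rw [mem_formSub, DerivedWreath.coe_bpm, DerivedWreath.perm_mul_blk, Matrix.mul_assoc,
        Matrix.transpose_permMatrix, inv_inv, ← Matrix.permMatrix_mul, mul_inv_cancel, Matrix.permMatrix_one,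
        Matrix.mul_one]
  refine ⟨P.map (BlockDiag.glReindex (F := F) E).toMonoidHom, ?_, ?_, ?_⟩
  · exact (DerivedWreath.isPGroup_wreath _ _ DerivedWreath.bpm_conj Q W hQ hW).map _
  · rintro _ ⟨g, hg, rfl⟩
    rw [← hJ']
    exact reindex_mem E (hle hg)
  · exact derived_map_ne_bot (P.equivMapOfInjective _ (BlockDiag.glReindex (F := F) E).injective).toMonoidHom
      (MulEquiv.injective _) (DerivedWreath.derived_ne_bot _ _ DerivedWreath.bpm_conj DerivedWreath.blk_bpm_eq_one Q W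
        (Equiv.swap 0 1) trivial 0 (by simp) hk)

theorem base [Fintype F] (h2 : (2 : F) ≠ 0) :
    ∃ Q : Subgroup (GL (Fin 1 ⊕ Fin 1) F), IsPGroup 2 Q ∧ Q ≤ formSub (J (Fin 1) F) ∧ derivedSeries Q 1 ≠ ⊥ := by
  classical
  have : Fact (Nat.Prime 2) := ⟨Nat.prime_two⟩
  obtain ⟨T⟩ : Nonempty (Sylow 2 (Matrix.SpecialLinearGroup (Fin 2) F)) := inferInstance
  let f : Matrix.SpecialLinearGroup (Fin 2) F →* GL (Fin 1 ⊕ Fin 1) F :=
    (BlockDiag.bd (m := 1)).comp (MonoidHom.mk ⟨fun u _ => SpecialLinearGroup.toGL u, funext fun _ => map_one _⟩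
      fun u w => funext fun _ => map_mul _ u w)
  have hf : Function.Injective f := fun u w h => by
    have h1 : BlockDiag.bd (m := 1) ((fun _ => SpecialLinearGroup.toGL u) * (fun _ => SpecialLinearGroup.toGL w)⁻¹) *
        BlockDiag.pm 1 = 1 := by
      rw [map_one, mul_one, map_mul, map_inv, mul_inv_eq_one]; exact h
    exact SpecialLinearGroup.toGL_injective (mul_inv_eq_one.mp (congrFun (BlockDiag.bd_pm_eq_one _ _ h1).1 0))
  refine ⟨(T : Subgroup (Matrix.SpecialLinearGroup (Fin 2) F)).map f, T.2.map f, ?_, ?_⟩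
  · rintro _ ⟨u, -, rfl⟩
    rw [mem_formSub]
    exact SymplecticGroup.mem_iff.mp (SpWreath.bdM_mem fun _ => u)
  · refine derived_map_ne_bot ((T : Subgroup (Matrix.SpecialLinearGroup (Fin 2) F)).equivMapOfInjective f hf).toMonoidHom
      (MulEquiv.injective _) ?_
    obtain ⟨k, hk, ⟨e⟩⟩ := Cfsg.Agent.Lib.Classical.sylow_two_SL2_quaternion h2 T
    refine derived_map_ne_bot e.symm.toMonoidHom e.symm.injective fun hb => ?_
    have hmem : ⁅QuaternionGroup.a (n := 2 ^ k) 1, QuaternionGroup.xa 0⁆ ∈ derivedSeries (QuaternionGroup (2 ^ k)) 1 := by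
      rw [derivedSeries_one]
      exact Subgroup.commutator_mem_commutator (Subgroup.mem_top _) (Subgroup.mem_top _)
    rw [hb, Subgroup.mem_bot, commutatorElement_eq_one_iff_mul_comm, QuaternionGroup.a_mul_xa, QuaternionGroup.xa_mul_a,
      QuaternionGroup.xa.injEq, zero_sub, zero_add, neg_eq_iff_add_eq_zero, ← Nat.cast_one, ← Nat.cast_add,
      ZMod.natCast_eq_zero_iff] at hmem
    have h4 : 2 ^ 1 ≤ 2 ^ k := Nat.pow_le_pow_right (by norm_num) (by omega)
    have := Nat.le_of_dvd (by norm_num) hmem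
    omega

theorem tower [Fintype F] (h2 : (2 : F) ≠ 0) :
    ∀ j : ℕ, ∃ Q : Subgroup (GL (Fin (2 ^ j) ⊕ Fin (2 ^ j)) F), IsPGroup 2 Q ∧
      Q ≤ formSub (J (Fin (2 ^ j)) F) ∧ derivedSeries Q (j + 1) ≠ ⊥ := by
  intro j
  induction j with
  | zero => exact base h2
  | succ j ih =>
    obtain ⟨Q, hQ, hJ, hk⟩ := ih
    rw [pow_succ']
    exact double Q Nat.one_le_two_pow hQ hJ hk

/-- Let q be odd, F a field with q elements and n ≥ 1. A Sylow 2-subgroup R of the symplectic group Sp_{2n}(F) has derived length exactly k + 1, where 2^k ≤ 2n < 2^{k+1}: the (k+1)-st term of its derived series is trivial and the k-th is not. -/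
theorem result {F : Type*} [Field F] [Fintype F] [DecidableEq F] (q : ℕ) (hF : Fintype.card F = q) (hq : Odd q) (n : ℕ) (hn : 1 ≤ n) (R : Sylow 2 ↥(Matrix.symplecticGroup (Fin n) F)) : derivedSeries ↥(R : Subgroup ↥(Matrix.symplecticGroup (Fin n) F)) (Nat.log 2 (2 * n) + 1) = ⊥ ∧ derivedSeries ↥(R : Subgroup ↥(Matrix.symplecticGroup (Fin n) F)) (Nat.log 2 (2 * n)) ≠ ⊥ := by
  classical
  have : Fact (Nat.Prime 2) := ⟨Nat.prime_two⟩
  subst hF
  have h2 : (2 : F) ≠ 0 := BlockDiag.odd_ne_two hq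
  refine ⟨?_, ?_⟩
  · let ρ : (R : Subgroup ↥(Matrix.symplecticGroup (Fin n) F)) →* GL (Fin (2 * n)) F :=
      ((BlockDiag.glReindex (finSumFinEquiv.trans (finCongr (two_mul n).symm))).toMonoidHom.comp
        (Cfsg.Agent.Lib.Classical.spToGL n F)).comp (R : Subgroup ↥(Matrix.symplecticGroup (Fin n) F)).subtype
    exact Cfsg.Agent.S4010.result 2 R.2 F (2 * n) (by omega) ρ
      ((BlockDiag.glReindex (F := F) (finSumFinEquiv.trans (finCongr (two_mul n).symm))).injective.comp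
        (Cfsg.Agent.Lib.Classical.spToGL_injective.comp (Subgroup.subtype_injective _)))
  · have hlog : Nat.log 2 (2 * n) = Nat.log 2 n + 1 := by
      rw [mul_comm, Nat.log_mul_base (by norm_num) (by omega)]
    rw [hlog]
    obtain ⟨Q, hQ, hJ, hk⟩ := tower (F := F) h2 (Nat.log 2 n)
    have hmn : 2 ^ Nat.log 2 n ≤ n := Nat.pow_log_le_self 2 (by omega)
    obtain ⟨r, hr⟩ : ∃ r, n = 2 ^ Nat.log 2 n + r := ⟨n - 2 ^ Nat.log 2 n, by omega⟩
    generalize Nat.log 2 n = j at Q hQ hJ hk hr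
    subst hr
    let E : (Fin (2 ^ j) ⊕ Fin (2 ^ j)) ⊕ (Fin r ⊕ Fin r) ≃ Fin (2 ^ j + r) ⊕ Fin (2 ^ j + r) :=
      (Equiv.sumSumSumComm _ _ _ _).trans (finSumFinEquiv.sumCongr finSumFinEquiv)
    have hJ' : reindexAlgEquiv F F E (fromBlocks (J (Fin (2 ^ j)) F) 0 0 (J (Fin r) F)) = J (Fin (2 ^ j + r)) F := by
      have h : ∀ a b, J (Fin (2 ^ j + r)) F (E a) (E b) = fromBlocks (J (Fin (2 ^ j)) F) 0 0 (J (Fin r) F) a b := by
        rintro ((i | i) | (i | i)) ((i' | i') | (i' | i')) <;>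
          simp [E, J, Matrix.one_apply, Fin.ext_iff] <;> (try omega)
      ext a b
      rw [reindexAlgEquiv_apply, reindex_apply, submatrix_apply, ← h, Equiv.apply_symm_apply, Equiv.apply_symm_apply]
    let f : GL (Fin (2 ^ j) ⊕ Fin (2 ^ j)) F →* GL (Fin (2 ^ j + r) ⊕ Fin (2 ^ j + r)) F :=
      (BlockDiag.glReindex E).toMonoidHom.comp DerivedWreath.pad
    have hf : Function.Injective f := (BlockDiag.glReindex E).injective.comp DerivedWreath.pad_injective
    have hrange : Q.map f ≤ (Cfsg.Agent.Lib.Classical.spToGL (2 ^ j + r) F).range := by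
      rintro _ ⟨g, hg, rfl⟩
      have h1 : DerivedWreath.pad g ∈ formSub (fromBlocks (J (Fin (2 ^ j)) F) 0 0 (J (Fin r) F)) := by
        rw [mem_formSub, DerivedWreath.coe_pad, fromBlocks_transpose, fromBlocks_multiply, fromBlocks_multiply]
        simp [mem_formSub.mp (hJ hg)]
      have h3 := reindex_mem E h1
      rw [hJ', mem_formSub] at h3
      exact ⟨⟨_, SymplecticGroup.mem_iff.mpr h3⟩, Units.ext rfl⟩
    set Q' := (Q.map f).comap (Cfsg.Agent.Lib.Classical.spToGL (2 ^ j + r) F) with hQ'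
    have hp' : IsPGroup 2 Q' :=
      (hQ.map f).comap_of_injective _ Cfsg.Agent.Lib.Classical.spToGL_injective
    have hmap : Q'.map (Cfsg.Agent.Lib.Classical.spToGL (2 ^ j + r) F) = Q.map f :=
      Subgroup.map_comap_eq_self hrange
    let e : Q ≃* Q' := (Q.equivMapOfInjective f hf).trans ((MulEquiv.subgroupCongr hmap).symm.trans
      (Q'.equivMapOfInjective _ Cfsg.Agent.Lib.Classical.spToGL_injective).symm)
    obtain ⟨S, hS⟩ := hp'.exists_le_sylow
    exact derived_map_ne_bot ((S.equiv R).toMonoidHom.comp ((Subgroup.inclusion hS).comp e.toMonoidHom))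
      ((S.equiv R).injective.comp ((Subgroup.inclusion_injective hS).comp e.injective)) hk

end Cfsg.Agent.S2648
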