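import Cfsg.Statements.S2649
import Cfsg.Agent.Lib.Recognition.M23CodeModules

set_option autoImplicit false
open Cfsg

namespace Cfsg.Agent.S2649

open Cfsg.Agent.Lib.Recognition
open Cfsg.Agent.Lib.Recognition.M23Tail
open ParkerM23 (cInf)

/-- Extensions of the Mathieu group M₂₃ by its code module split. -/
theorem result
    {E : Type*} [Group E] [Finite E] (N : Subgroup E) [hN : N.Normal]
    (φ : E ⧸ N ≃* ↥Cfsg.Spor.M23)
    (ψ : Additive ↥N →+ (Cfsg.GolayPt → ZMod 2)) (hinj : Function.Injective ψ)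
    (hrange : ∀ w : Cfsg.GolayPt → ZMod 2, w ∈ Set.range ψ ↔ (w ∈ Cfsg.golayCode ∧ w none = 0))
    (hψ : ∀ (g : E) (n : ↥N),
      ψ (Additive.ofMul ⟨g * n * g⁻¹, hN.conj_mem n n.2 g⟩)
        = ψ (Additive.ofMul n) ∘ ⇑(((φ (QuotientGroup.mk g) : ↥Cfsg.Spor.M23) : Equiv.Perm Cfsg.GolayPt)⁻¹)) :
    ∃ H : Subgroup E, H ⊓ N = ⊥ ∧ H ⊔ N = ⊤ := by
  let π : E →* Cfsg.Spor.M23 := φ.toMonoidHom.comp (QuotientGroup.mk' N)
  have hπk : π.ker = N := by
    ext e
    simp [π, MonoidHom.mem_ker]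
  choose f hf using fun v : Tail.Vec => (hrange (codeVec v)).mpr (ParkerM23.mem_cInf.mp (codeVec_mem v))
  let ν : Tail.Vec → E := fun v => ((f v).toMul : N)
  have hcoord : ∀ v w, codeVec v = codeVec w → v = w := fun v w e =>
    funext fun i => by rw [← codeVec_pos v, e, codeVec_pos]
  have hadd : ∀ v w, f (v + w) = f v + f w := fun v w =>
    hinj (by rw [map_add, hf, hf, hf, codeVec_add])
  have hconj : ∀ (M : List ℕ) (σ : Cfsg.Spor.M23), CodeMat M σ → ∀ e, π e = σ → ∀ v,
      e * ν v = ν (Tail.mapply M v) * e := by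
    intro M σ hM e he v
    have h1 := hψ e (f v).toMul
    rw [show ψ (Additive.ofMul (f v).toMul) = codeVec v from hf v,
      show φ (QuotientGroup.mk e) = σ from he, Equiv.Perm.inv_def, codeVec_conj hM,
      ← hf (Tail.mapply M v)] at h1
    have h2 := congrArg (fun n : Additive N => ((n.toMul : N) : E)) (hinj h1)
    simp only [toMul_ofMul] at h2
    show e * ν v = ν _ * e
    rw [show ν (Tail.mapply M v) = e * ν v * e⁻¹ from h2.symm, inv_mul_cancel_right]
  have S : Setup CodeData.cert codeG π ν := by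
    refine ⟨fun σ => ?_, fun v w => ?_, fun v w e => ?_, fun e => ?_, ?_, ?_⟩
    · obtain ⟨e, he⟩ := QuotientGroup.mk'_surjective N (φ.symm σ)
      exact ⟨e, by show φ (QuotientGroup.mk' N e) = σ; rw [he, φ.apply_symm_apply]⟩
    · show (((f (v + w)).toMul : N) : E) = _
      rw [hadd, toMul_add, Subgroup.coe_mul]
    · refine hcoord v w ?_
      rw [← hf v, ← hf w, show f v = f w from Additive.toMul.injective (Subtype.ext e)]
    · constructor
      · intro he
        have heN : e ∈ N := hπk ▸ MonoidHom.mem_ker.mpr he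
        set w := ψ (Additive.ofMul ⟨e, heN⟩) with hw
        have hwc : w ∈ cInf := ParkerM23.mem_cInf.mpr ((hrange w).mp ⟨_, rfl⟩)
        refine ⟨fun i => w (ParkerM23.pos i), ?_⟩
        have hcv : codeVec (fun i => w (ParkerM23.pos i)) = w := (ParkerM23.expand hwc).symm
        have := hinj ((hf _).trans (hcv.trans hw))
        simp [ν, this]
      · rintro ⟨v, rfl⟩
        exact MonoidHom.mem_ker.mp (hπk.symm ▸ (f v).toMul.2)
    · exact fun a ha e he v => hconj _ _ (codeMat_x ha) e he v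
    · exact fun g I hI e he v => hconj _ _ (codeMat_g hI) e he v
  obtain ⟨x, hx⟩ := S.exists_lift
  obtain ⟨t, ht⟩ := S.exists_tails hx
  obtain ⟨H, h1, h2⟩ := exists_complement code_good S code_gOk hx ht
    (by rw [lamVal, code_lam, Tail.evm_zero])
  exact ⟨H, hπk ▸ h1, hπk ▸ h2⟩

end Cfsg.Agent.S2649
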