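import Cfsg.Statements.S2650
import Cfsg.Agent.Lib.Recognition.ParkerM23Nonsplit

set_option autoImplicit false
open Cfsg

namespace Cfsg.Agent.S2650

open Cfsg.Agent.Lib.Recognition.ParkerM23

/-- A non-split extension of the Mathieu group M₂₃ by its cocode module exists. -/
theorem result :
    ∃ (E : Type) (_ : Group E) (_ : Finite E) (N : Subgroup E) (_ : N.Normal)
      (φ : E ⧸ N ≃* ↥Cfsg.Spor.M23) (θ : (Cfsg.GolayPt → ZMod 2) →+ Additive ↥N),
      Function.Surjective θ ∧
      (∀ w : Cfsg.GolayPt → ZMod 2, θ w = 0 ↔ (w ∈ Cfsg.golayCode ∨ w + Pi.single none 1 ∈ Cfsg.golayCode)) ∧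
      (∀ (g : E) (w : Cfsg.GolayPt → ZMod 2),
        ((θ (w ∘ ⇑(((φ (QuotientGroup.mk g) : ↥Cfsg.Spor.M23) : Equiv.Perm Cfsg.GolayPt)⁻¹))).toMul : E)
          = g * ((θ w).toMul : E) * g⁻¹) ∧
      ∀ H : Subgroup E, H ⊓ N = ⊥ → H ⊔ N ≠ ⊤ := by
  refine ⟨TPerm, inferInstance, inferInstance, proj.ker, inferInstance,
    QuotientGroup.quotientKerEquivOfSurjective proj proj_surjective, diagHom,
    diagHom_surjective, fun w => ?_, fun g w => ?_, no_complement⟩
  · rw [← diag_eq_one_iff_mem]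
    constructor
    · intro h
      rw [← diagHom_val w, h]
      rfl
    · intro h
      exact Additive.toMul.injective (Subtype.ext ((diagHom_val w).trans h))
  · rw [diagHom_val, diagHom_val, ← diag_conj]
    rfl

end Cfsg.Agent.S2650
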