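import Cfsg.Statements.S2651
import Cfsg.Agent.Lib.Recognition.M23CocodeExt

set_option autoImplicit false
open Cfsg

namespace Cfsg.Agent.S2651

open Cfsg.Agent.Lib.Recognition.M23Tail

universe u

/-- The data of the statement as a `CocodeExt`. -/
theorem toExt {F : Type u} [Group F] (M : Subgroup F) [M.Normal] (χ : F ⧸ M ≃* ↥Cfsg.Spor.M23)
    (η : (Cfsg.GolayPt → ZMod 2) →+ Additive ↥M) (hs : Function.Surjective η)
    (hk : ∀ w, η w = 0 ↔ (w ∈ Cfsg.golayCode ∨ w + Pi.single none 1 ∈ Cfsg.golayCode))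
    (hc : ∀ (g : F) (w : Cfsg.GolayPt → ZMod 2),
      ((η (w ∘ ⇑(((χ (QuotientGroup.mk g) : ↥Cfsg.Spor.M23) : Equiv.Perm Cfsg.GolayPt)⁻¹))).toMul : F)
        = g * ((η w).toMul : F) * g⁻¹) :
    (χ.toMonoidHom.comp (QuotientGroup.mk' M)).ker = M ∧
      CocodeExt (χ.toMonoidHom.comp (QuotientGroup.mk' M))
        (fun w => (((η w).toMul : M) : F)) := by
  have hk' : (χ.toMonoidHom.comp (QuotientGroup.mk' M)).ker = M := by
    ext e
    simp [MonoidHom.mem_ker]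
  refine ⟨hk', fun σ => ?_, fun v w => ?_, fun e => ⟨fun he => ?_, ?_⟩, fun w => ?_, fun e w => ?_⟩
  · obtain ⟨e, he⟩ := QuotientGroup.mk'_surjective M (χ.symm σ)
    exact ⟨e, by show χ (QuotientGroup.mk' M e) = σ; rw [he, χ.apply_symm_apply]⟩
  · simp only [map_add, toMul_add, Subgroup.coe_mul]
  · obtain ⟨w, hw⟩ := hs (Additive.ofMul ⟨e, hk' ▸ MonoidHom.mem_ker.mpr he⟩)
    exact ⟨w, by simp only [hw, toMul_ofMul]⟩
  · rintro ⟨w, rfl⟩
    exact MonoidHom.mem_ker.mp (hk'.symm ▸ (η w).toMul.2)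
  · rw [← hk w]
    constructor
    · intro hw
      exact Additive.toMul.injective (Subtype.ext hw)
    · intro hw
      show (((η w).toMul : M) : F) = 1
      rw [hw]; rfl
  · show e * _ = _ * e
    have h1 := hc e w
    rw [Equiv.Perm.inv_def] at h1
    exact eq_mul_inv_iff_mul_eq.mp h1 |>.symm

/-- The non-split extension of the Mathieu group M₂₃ by its cocode module is unique. -/
theorem result
    {E : Type*} [Group E] [Finite E] (N : Subgroup E) [hN : N.Normal]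
    (φ : E ⧸ N ≃* ↥Cfsg.Spor.M23) (θ : (Cfsg.GolayPt → ZMod 2) →+ Additive ↥N)
    (hsurj : Function.Surjective θ)
    (hker : ∀ w : Cfsg.GolayPt → ZMod 2, θ w = 0 ↔ (w ∈ Cfsg.golayCode ∨ w + Pi.single none 1 ∈ Cfsg.golayCode))
    (hθ : ∀ (g : E) (w : Cfsg.GolayPt → ZMod 2),
      ((θ (w ∘ ⇑(((φ (QuotientGroup.mk g) : ↥Cfsg.Spor.M23) : Equiv.Perm Cfsg.GolayPt)⁻¹))).toMul : E)
        = g * ((θ w).toMul : E) * g⁻¹)
    (hns : ∀ H : Subgroup E, H ⊓ N = ⊥ → H ⊔ N ≠ ⊤)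
    {E' : Type*} [Group E'] [Finite E'] (N' : Subgroup E') [hN' : N'.Normal]
    (φ' : E' ⧸ N' ≃* ↥Cfsg.Spor.M23) (θ' : (Cfsg.GolayPt → ZMod 2) →+ Additive ↥N')
    (hsurj' : Function.Surjective θ')
    (hker' : ∀ w : Cfsg.GolayPt → ZMod 2, θ' w = 0 ↔ (w ∈ Cfsg.golayCode ∨ w + Pi.single none 1 ∈ Cfsg.golayCode))
    (hθ' : ∀ (g : E') (w : Cfsg.GolayPt → ZMod 2),
      ((θ' (w ∘ ⇑(((φ' (QuotientGroup.mk g) : ↥Cfsg.Spor.M23) : Equiv.Perm Cfsg.GolayPt)⁻¹))).toMul : E')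
        = g * ((θ' w).toMul : E') * g⁻¹)
    (hns' : ∀ H : Subgroup E', H ⊓ N' = ⊥ → H ⊔ N' ≠ ⊤) :
    Nonempty (E ≃* E') := by
  obtain ⟨k, h⟩ := toExt N φ θ hsurj hker hθ
  obtain ⟨k', h'⟩ := toExt N' φ' θ' hsurj' hker' hθ'
  exact nonempty_mulEquiv h h' (by rwa [k]) (by rwa [k'])

end Cfsg.Agent.S2651
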