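import Cfsg.Statements.S2665
import Cfsg.Agent.Lib.LinAux.Basic

set_option autoImplicit false
open scoped MatrixGroups
open Cfsg

namespace Cfsg.Agent.S2665

open Polynomial in
private theorem exists_fixed {K : Type*} [Field K] [IsAlgClosed K] {q : ℕ} (hq : 1 < q) {V : Type*} [AddCommGroup V]
    [Module K V] [FiniteDimensional K V] {σ : K →+* K} (hσ : ∀ x, σ x = x ^ q) (T : V →ₛₗ[σ] V)
    (hT : Function.Injective T) {v : V} (hv : v ≠ 0) : ∃ w : V, w ≠ 0 ∧ T w = w := by
  classical
  let b : ℕ → V := fun i => (⇑T)^[i] v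
  have hbs : ∀ i, T (b i) = b (i + 1) := fun i => (Function.iterate_succ_apply' (⇑T) i v).symm
  have hindep : ∀ m, (∀ k < m, b k ∉ Submodule.span K (Set.range fun i : Fin k => b i)) →
      LinearIndependent K (fun i : Fin m => b i) := by
    intro m
    induction m with
    | zero => intro _; exact linearIndependent_empty_type
    | succ m ih =>
      intro h
      have e : (fun i : Fin (m + 1) => b i) = Fin.snoc (fun i : Fin m => b i) (b m) := by
        funext i
        cases i using Fin.lastCases with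
        | last => rw [Fin.snoc_last, Fin.val_last]
        | cast i => rw [Fin.snoc_castSucc, Fin.val_castSucc]
      rw [e, linearIndependent_fin_snoc]
      exact ⟨ih fun k hk => h k (by omega), h m (by omega)⟩
  have hex : ∃ m, b m ∈ Submodule.span K (Set.range fun i : Fin m => b i) := by
    by_contra! h
    have := (hindep (Module.finrank K V + 1) fun k _ => h k).fintype_card_le_finrank
    rw [Fintype.card_fin] at this
    omega
  have hm0 : Nat.find hex ≠ 0 := by
    intro h0
    have h := Nat.find_spec hex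
    rw [h0] at h
    simp [b] at h
    exact hv h
  obtain ⟨j, hj⟩ : ∃ j, Nat.find hex = j + 1 := ⟨_, (Nat.succ_pred_eq_of_ne_zero hm0).symm⟩
  have hind := hindep (j + 1) fun k hk => Nat.find_min hex (hj ▸ hk)
  obtain ⟨a', ha'⟩ := (Submodule.mem_span_range_iff_exists_fun K).mp (hj ▸ Nat.find_spec hex)
  obtain ⟨a, ha⟩ : ∃ a : ℕ → K, ∑ i ∈ Finset.range (j + 1), a i • b i = b (j + 1) := by
    refine ⟨fun i => if h : i < j + 1 then a' ⟨i, h⟩ else 0, ?_⟩
    rw [Finset.sum_range, ← ha']
    refine Finset.sum_congr rfl fun i _ => ?_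
    simp [i.2]
  have ha0 : a 0 ≠ 0 := by
    intro h0
    refine Nat.find_min hex (by omega : j < Nat.find hex) ?_
    choose r hr using fun i => IsAlgClosed.exists_pow_nat_eq (a (i + 1)) (by omega : 0 < q)
    have e : b j = ∑ i ∈ Finset.range j, r i • b i := by
      apply hT
      rw [hbs, ← ha, Finset.sum_range_succ', h0, zero_smul, add_zero, map_sum]
      refine Finset.sum_congr rfl fun i _ => ?_
      rw [LinearMap.map_smulₛₗ, hσ, hr, hbs]
    rw [e]
    refine Submodule.sum_mem _ fun i hi => Submodule.smul_mem _ _ (Submodule.subset_span ?_)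
    exact ⟨⟨i, Finset.mem_range.mp hi⟩, rfl⟩
  -- the polynomials
  let c : ℕ → K[X] := fun i => Nat.rec (C (a 0) * X ^ q) (fun i ih => ih ^ q + C (a (i + 1)) * X ^ q) i
  have hc : ∀ i, X ^ q ∣ c i ∧ (c i).natDegree = q ^ (i + 1) := by
    intro i
    induction i with
    | zero => exact ⟨Dvd.intro_left _ rfl, by rw [show c 0 = C (a 0) * X ^ q from rfl, natDegree_C_mul_X_pow q _ ha0, pow_one]⟩
    | succ i ih =>
      have hs : c (i + 1) = c i ^ q + C (a (i + 1)) * X ^ q := rfl
      refine ⟨hs ▸ dvd_add (dvd_pow ih.1 (by omega)) (Dvd.intro_left _ rfl), ?_⟩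
      rw [hs, natDegree_add_eq_left_of_natDegree_lt, natDegree_pow, ih.2, ← pow_succ']
      rw [natDegree_pow, ih.2]
      calc (C (a (i + 1)) * X ^ q).natDegree ≤ q := natDegree_C_mul_X_pow_le _ _
        _ < q * q ^ (i + 1) := lt_mul_of_one_lt_right (by omega) (Nat.one_lt_pow (by omega) hq)
  obtain ⟨⟨S, hS⟩, hdeg⟩ := hc j
  obtain ⟨t, ht⟩ : ∃ t, IsRoot (X ^ (q - 1) * S - 1) t := by
    refine IsAlgClosed.exists_root _ fun hd => ?_
    have hS0 : S ≠ 0 := by
      rintro rfl
      rw [mul_zero] at hS
      rw [hS, natDegree_zero] at hdeg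
      exact (Nat.pow_pos (n := j + 1) (show 0 < q by omega)).ne hdeg
    have hn : (X ^ (q - 1) * S - 1).natDegree = (q - 1) + S.natDegree := by
      rw [← C_1, natDegree_sub_C, natDegree_mul (pow_ne_zero _ X_ne_zero) hS0, natDegree_X_pow]
    rw [natDegree_eq_zero_iff_degree_le_zero.mpr hd.le] at hn
    omega
  rw [IsRoot, eval_sub, eval_mul, eval_pow, eval_X, eval_one, sub_eq_zero] at ht
  have ht0 : t ≠ 0 := by
    rintro rfl
    rw [zero_pow (by omega), zero_mul] at ht
    exact zero_ne_one ht
  have hcj : (c j).eval t = t := by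
    rw [hS, eval_mul, eval_pow, eval_X]
    calc t ^ q * S.eval t = t * (t ^ (q - 1) * S.eval t) := by
          rw [← mul_assoc, ← pow_succ']; congr 2; omega
      _ = t := by rw [ht, mul_one]
  refine ⟨∑ i ∈ Finset.range (j + 1), (c i).eval t • b i, ?_, ?_⟩
  · intro h0
    rw [Finset.sum_range] at h0
    have := Fintype.linearIndependent_iff.mp hind _ h0 (Fin.last j)
    rw [Fin.val_last, hcj] at this
    exact ht0 this
  · have hT' : T (∑ i ∈ Finset.range (j + 1), (c i).eval t • b i) =
        ∑ i ∈ Finset.range (j + 1), (((c i).eval t) ^ q) • b (i + 1) := by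
      rw [map_sum]
      exact Finset.sum_congr rfl fun i _ => by rw [LinearMap.map_smulₛₗ, hσ, hbs]
    rw [hT', Finset.sum_range_succ, hcj, ← ha, Finset.smul_sum, Finset.sum_range_succ' (fun i => t ^ q • a i • b i),
      Finset.sum_range_succ' (fun i => (c i).eval t • b i), ← add_assoc, ← Finset.sum_add_distrib]
    congr 1
    · refine Finset.sum_congr rfl fun i _ => ?_
      rw [smul_smul, ← add_smul, show c (i + 1) = c i ^ q + C (a (i + 1)) * X ^ q from rfl, eval_add, eval_pow, eval_mul, eval_C,
        eval_pow, eval_X, mul_comm (t ^ q)]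
    · rw [smul_smul, show c 0 = C (a 0) * X ^ q from rfl, eval_mul, eval_C, eval_pow, eval_X, mul_comm]

open Polynomial in
private theorem span_fixed_eq_top {K : Type*} [Field K] [IsAlgClosed K] {q : ℕ} (hq : 1 < q) {V : Type*} [AddCommGroup V]
    [Module K V] [FiniteDimensional K V] {σ : K →+* K} (hσ : ∀ x, σ x = x ^ q) (T : V →ₛₗ[σ] V)
    (hT : Function.Injective T) : Submodule.span K {v | T v = v} = ⊤ := by
  classical
  by_contra hne
  set W := Submodule.span K {v | T v = v} with hW
  have hmaps : W ≤ W.comap T := by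
    rw [hW, Submodule.span_le]
    intro v hv
    show T v ∈ W
    rw [show T v = v from hv]
    exact Submodule.subset_span hv
  have hsurj : ∀ w ∈ W, ∃ w' ∈ W, T w' = w := by
    intro w hw
    rw [hW] at hw
    induction hw using Submodule.span_induction with
    | mem x hx => exact ⟨x, Submodule.subset_span hx, hx⟩
    | zero => exact ⟨0, W.zero_mem, map_zero T⟩
    | add x y _ _ hx hy =>
      obtain ⟨x', hx', rfl⟩ := hx
      obtain ⟨y', hy', rfl⟩ := hy
      exact ⟨x' + y', W.add_mem hx' hy', map_add T x' y'⟩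
    | smul s x _ hx =>
      obtain ⟨x', hx', rfl⟩ := hx
      obtain ⟨r, hr⟩ := IsAlgClosed.exists_pow_nat_eq s (by omega : 0 < q)
      exact ⟨r • x', W.smul_mem r hx', by rw [LinearMap.map_smulₛₗ, hσ, hr]⟩
  let T' : (V ⧸ W) →ₛₗ[σ] (V ⧸ W) := W.mapQ W T hmaps
  have hT' : Function.Injective T' := by
    refine (injective_iff_map_eq_zero T').mpr fun x => ?_
    obtain ⟨v, rfl⟩ := Submodule.Quotient.mk_surjective W x
    intro h
    rw [Submodule.mapQ_apply, Submodule.Quotient.mk_eq_zero] at h
    obtain ⟨w, hw, he⟩ := hsurj _ h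
    rw [Submodule.Quotient.mk_eq_zero, ← hT he]
    exact hw
  obtain ⟨u, -, hu⟩ := SetLike.exists_of_lt (lt_top_iff_ne_top.mpr hne)
  obtain ⟨x, hx0, hx⟩ := exists_fixed hq hσ T' hT' (v := Submodule.Quotient.mk u) (by simpa using hu)
  obtain ⟨u', rfl⟩ := Submodule.Quotient.mk_surjective W x
  rw [Submodule.mapQ_apply, Submodule.Quotient.eq] at hx
  -- adjust `u'` to a fixed vector
  have hfix : ∀ w ∈ W, ∀ s : K, ∃ a ∈ W, T a - a = s • w := by
    intro w hw
    rw [hW] at hw
    induction hw using Submodule.span_induction with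
    | mem z hz =>
      intro s
      obtain ⟨t, ht⟩ : ∃ t, IsRoot (X ^ q - X - C s : K[X]) t := by
        refine IsAlgClosed.exists_root _ fun hd => ?_
        have hn : (X ^ q - X - C s : K[X]).natDegree = q := by
          rw [natDegree_sub_C, natDegree_sub_eq_left_of_natDegree_lt] <;> simp [natDegree_X_pow, hq]
        rw [natDegree_eq_zero_iff_degree_le_zero.mpr hd.le] at hn
        omega
      refine ⟨t • z, W.smul_mem t (Submodule.subset_span hz), ?_⟩
      simp only [IsRoot, eval_sub, eval_pow, eval_X, eval_C] at ht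
      rw [LinearMap.map_smulₛₗ, hσ, show T z = z from hz, ← sub_smul, show t ^ q - t = s by linear_combination ht]
    | zero => exact fun s => ⟨0, W.zero_mem, by rw [map_zero, sub_zero, smul_zero]⟩
    | add z z' _ _ h1 h2 =>
      intro s
      obtain ⟨a, ha, e1⟩ := h1 s
      obtain ⟨a', ha', e2⟩ := h2 s
      exact ⟨a + a', W.add_mem ha ha', by rw [smul_add, ← e1, ← e2, map_add]; abel⟩
    | smul r z _ h1 =>
      intro s
      obtain ⟨a, ha, e1⟩ := h1 (s * r)
      exact ⟨a, ha, by rw [e1, mul_smul]⟩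
  obtain ⟨s, hs, he⟩ := hfix _ hx 1
  rw [one_smul] at he
  refine hx0 ((Submodule.Quotient.mk_eq_zero W).mpr ?_)
  have hfixed : T (u' - s) = u' - s := by
    rw [map_sub, ← sub_eq_zero, show T u' - T s - (u' - s) = (T u' - u') - (T s - s) by abel, he, sub_self]
  have := W.add_mem (Submodule.subset_span hfixed : u' - s ∈ W) hs
  rwa [sub_add_cancel] at this


/-- The Lang–Steinberg Theorem for the general linear group. Let `K` be an algebraically closed field of prime characteristic `p`, let `q = p^f` with `f ≥ 1`, and let `σ` be the endomorphism of GL_n(K) raising every matrix entry to the `q`-th power. Then every element `g` of GL_n(K) can be written `g = x · σ(x)⁻¹` for some `x` in GL_n(K): the map `x ↦ x σ(x)⁻¹` is surjective. -/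
theorem result {K : Type*} [Field K] [IsAlgClosed K] (p : ℕ) [Fact p.Prime] [CharP K p]
    (f : ℕ) (hf : 1 ≤ f) (n : ℕ) (g : GL (Fin n) K) :
    ∃ x : GL (Fin n) K, g = x * (Matrix.GeneralLinearGroup.map (iterateFrobenius K p f) x)⁻¹ := by
  classical
  let σ := iterateFrobenius K p f
  have hσ : ∀ x, σ x = x ^ (p ^ f) := fun x => iterateFrobenius_def p f x
  have hq : 1 < p ^ f := Nat.one_lt_pow (by omega) (Fact.out : p.Prime).one_lt
  let T : (Fin n → K) →ₛₗ[σ] (Fin n → K) :=
    { toFun := fun v => (g : Matrix (Fin n) (Fin n) K).mulVec (fun i => σ (v i))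
      map_add' := fun u v => by rw [← Matrix.mulVec_add]; congr 1; funext i; exact map_add σ _ _
      map_smul' := fun c v => by rw [← Matrix.mulVec_smul]; congr 1; funext i; exact map_mul σ _ _ }
  have hT : Function.Injective T := fun u v h => funext fun i =>
    σ.injective (congrFun (Matrix.mulVec_injective_iff_isUnit.mpr g.isUnit h) i)
  obtain ⟨s, hs, hspan, hli⟩ := exists_linearIndependent K {v | T v = v}
  rw [span_fixed_eq_top hq hσ T hT] at hspan
  let B := Module.Basis.mk hli (by rw [Subtype.range_coe, hspan])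
  let B' := B.reindex (Module.Basis.indexEquiv B (Pi.basisFun K (Fin n)))
  have hB' : ∀ i, T (B' i) = B' i := fun i => by
    rw [Module.Basis.reindex_apply]
    simp only [B, Module.Basis.mk_apply]
    exact hs (Subtype.prop _)
  let x := Matrix.GeneralLinearGroup.mkOfDetNeZero (Lib.LinAux.colMatrix B') (Lib.LinAux.det_colMatrix_ne_zero B'.linearIndependent)
  refine ⟨x, ?_⟩
  rw [eq_mul_inv_iff_mul_eq]
  refine Units.ext (Matrix.ext fun i j => ?_)
  exact congrFun (hB' j) i

end Cfsg.Agent.S2665
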