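import Cfsg.Statements.S2666

set_option autoImplicit false
open Cfsg

namespace Cfsg.Agent.S2666

section
variable {X : Type*} [Group X] (σ : MulAut X)

theorem mem_fix (τ : MulAut X) (x : X) :
    x ∈ (MulEquiv.toMonoidHom τ).eqLocus (MonoidHom.id X) ↔ τ x = x := Iff.rfl

theorem comm_pow (e : ℕ) (x : X) : σ ((σ ^ e) x) = (σ ^ e) (σ x) := by
  rw [← MulAut.mul_apply, ← MulAut.mul_apply, ← pow_succ', ← pow_succ]

theorem prod_telescope (g a : X) (ha : g = a * (σ a)⁻¹) (d : ℕ) :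
    ((List.range d).map (fun i => (σ ^ i) g)).prod = a * ((σ ^ d) a)⁻¹ := by
  induction d with
  | zero => simp
  | succ d ih =>
    rw [List.range_succ, List.map_append, List.prod_append, ih, ha]
    simp only [List.map_cons, List.map_nil, List.prod_cons, List.prod_nil, mul_one, map_mul, map_inv]
    rw [pow_succ, MulAut.mul_apply]
    group

theorem fix_x (e : ℕ) (g a : X) (hg : (σ ^ e) g = g) (ha : g = a * (σ a)⁻¹) :
    σ (((σ ^ e) a)⁻¹ * a) = ((σ ^ e) a)⁻¹ * a := by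
  rw [ha, map_mul, map_inv] at hg
  rw [map_mul, map_inv, comm_pow]
  have h : (σ ^ e) (σ a) = σ a * a⁻¹ * (σ ^ e) a := by
    have h1 := congrArg (fun z => z⁻¹ * (σ ^ e) a) hg
    simpa [mul_assoc] using h1
  rw [h]
  group

theorem shin_one (e : ℕ) (g a : X) (hg : g ∈ (MulEquiv.toMonoidHom (σ ^ e)).eqLocus (MonoidHom.id X))
    (ha : g = a * (σ a)⁻¹) :
    ((σ ^ e) a)⁻¹ * a ∈ (MulEquiv.toMonoidHom σ).eqLocus (MonoidHom.id X) ∧
      a⁻¹ * ((List.range e).map (fun i => (σ ^ i) g)).prod * a = ((σ ^ e) a)⁻¹ * a := by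
  refine ⟨fix_x σ e g a hg ha, ?_⟩
  rw [prod_telescope σ g a ha]
  group

theorem shin_conj (e : ℕ) (g g' a b : X) (hg : g ∈ (MulEquiv.toMonoidHom (σ ^ e)).eqLocus (MonoidHom.id X))
    (ha : g = a * (σ a)⁻¹) (hg' : g' ∈ (MulEquiv.toMonoidHom (σ ^ e)).eqLocus (MonoidHom.id X))
    (hb : g' = b * (σ b)⁻¹) :
    (∃ k ∈ (MulEquiv.toMonoidHom (σ ^ e)).eqLocus (MonoidHom.id X), g' = k * g * (σ k)⁻¹) ↔
      (∃ h ∈ (MulEquiv.toMonoidHom σ).eqLocus (MonoidHom.id X),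
        ((σ ^ e) b)⁻¹ * b = h * (((σ ^ e) a)⁻¹ * a) * h⁻¹) := by
  constructor
  · rintro ⟨k, hk, hkg⟩
    rw [mem_fix] at hk
    refine ⟨b⁻¹ * k * a, ?_, ?_⟩
    · rw [mem_fix, map_mul, map_mul, map_inv]
      rw [hb, ha] at hkg
      have h1 := congrArg (fun z => b⁻¹ * z * σ k * σ a) hkg
      simpa [mul_assoc] using h1
    · have hh : σ (b⁻¹ * k * a) = b⁻¹ * k * a := by
        rw [map_mul, map_mul, map_inv]
        rw [hb, ha] at hkg
        have h1 := congrArg (fun z => b⁻¹ * z * σ k * σ a) hkg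
        simpa [mul_assoc] using h1
      have hpow : ∀ n : ℕ, (σ ^ n) (b⁻¹ * k * a) = b⁻¹ * k * a := by
        intro n
        induction n with
        | zero => simp
        | succ n ih => rw [pow_succ, MulAut.mul_apply, hh, ih]
      have h2 := hpow e
      rw [map_mul, map_mul, map_inv, hk] at h2
      have h3 : ((σ ^ e) b)⁻¹ = b⁻¹ * k * a * ((σ ^ e) a)⁻¹ * k⁻¹ := by
        rw [← h2]
        group
      rw [h3]
      group
  · rintro ⟨h, hh, hhx⟩
    rw [mem_fix] at hh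
    have hpow : ∀ n : ℕ, (σ ^ n) h = h := by
      intro n
      induction n with
      | zero => simp
      | succ n ih => rw [pow_succ, MulAut.mul_apply, hh, ih]
    refine ⟨b * h * a⁻¹, ?_, ?_⟩
    · rw [mem_fix, map_mul, map_mul, map_inv, hpow]
      have h1 := congrArg (fun z => (σ ^ e) b * z * h * a⁻¹) hhx
      have h2 : b * h * a⁻¹ = (σ ^ e) b * h * ((σ ^ e) a)⁻¹ := by
        simpa [mul_assoc] using h1
      exact h2.symm
    · rw [map_mul, map_mul, map_inv, hh, hb, ha]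
      group

theorem shin_surj (e : ℕ) (hLe : ∀ g : X, ∃ a : X, g = a * ((σ ^ e) a)⁻¹) (x : X)
    (hx : x ∈ (MulEquiv.toMonoidHom σ).eqLocus (MonoidHom.id X)) :
    ∃ g ∈ (MulEquiv.toMonoidHom (σ ^ e)).eqLocus (MonoidHom.id X), ∃ a : X,
      g = a * (σ a)⁻¹ ∧ ((σ ^ e) a)⁻¹ * a = x := by
  obtain ⟨c, hc⟩ := hLe x⁻¹
  rw [mem_fix] at hx
  have hc2 : (σ ^ e) c = x * c := by
    rw [← inv_inj, ← mul_right_inj c, ← hc]
    group
  -- a with (σ ^ e) a = a * x⁻¹
  obtain ⟨a, ha⟩ : ∃ a : X, (σ ^ e) a = a * x⁻¹ := ⟨c⁻¹, by rw [map_inv, hc2]; group⟩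
  refine ⟨a * (σ a)⁻¹, ?_, a, rfl, by rw [ha]; group⟩
  rw [mem_fix, map_mul, map_inv, ← comm_pow, ha, map_mul, map_inv, hx]
  group

end

/-- Shintani descent, in an abstract form. Let `σ` be an automorphism of a group `X` such that the maps `a ↦ a·σ(a)⁻¹` and `a ↦ a·σᵉ(a)⁻¹` are surjective on `X` (the Lang–Steinberg property, which holds when `X` is a connected algebraic group and `σ` a Steinberg endomorphism), where `e ≥ 1`. Write `G` for the subgroup of fixed points of `σᵉ` and `H` for the subgroup of fixed points of `σ`. The `G`-conjugacy classes in the coset `G σ` of the semidirect product of `G` by `σ` correspond to the orbits of `G` on itself under twisted conjugation `g ↦ k g σ(k)⁻¹`, and the `e`-th power of `g σ` has `G`-part the norm `g σ(g) ⋯ σ^(e-1)(g)`. For `g` in `G` and any `a` with `g = a σ(a)⁻¹`, put `x = σᵉ(a)⁻¹ a`. Then: (1) `x` lies in `H`, and `a⁻¹ · (g σ(g) ⋯ σ^(e-1)(g)) · a = x`; (2) for `g,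 g'` in `G` with such elements `a, b` and `x, x'`, the elements `g, g'` are twisted-conjugate under `G` if and only if `x, x'` are conjugate in `H`; (3) every element of `H` arises as such an `x`. So `g ↦ x` induces a well-defined bijection from the twisted `G`-classes of `G` onto the conjugacy classes of `H` (the Shintani map). -/
theorem result {X : Type*} [Group X] (σ : MulAut X) (e : ℕ) (he : 1 ≤ e)
    (hL : ∀ g : X, ∃ a : X, g = a * (σ a)⁻¹) (hLe : ∀ g : X, ∃ a : X, g = a * ((σ ^ e) a)⁻¹) :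
    (∀ g ∈ (MulEquiv.toMonoidHom (σ ^ e)).eqLocus (MonoidHom.id X), ∀ a : X, g = a * (σ a)⁻¹ →
        ((σ ^ e) a)⁻¹ * a ∈ (MulEquiv.toMonoidHom σ).eqLocus (MonoidHom.id X) ∧
          a⁻¹ * ((List.range e).map (fun i => (σ ^ i) g)).prod * a = ((σ ^ e) a)⁻¹ * a) ∧
    (∀ g ∈ (MulEquiv.toMonoidHom (σ ^ e)).eqLocus (MonoidHom.id X), ∀ g' ∈ (MulEquiv.toMonoidHom (σ ^ e)).eqLocus (MonoidHom.id X), ∀ a b : X,
        g = a * (σ a)⁻¹ → g' = b * (σ b)⁻¹ →
          ((∃ k ∈ (MulEquiv.toMonoidHom (σ ^ e)).eqLocus (MonoidHom.id X), g' = k * g * (σ k)⁻¹) ↔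
            (∃ h ∈ (MulEquiv.toMonoidHom σ).eqLocus (MonoidHom.id X), ((σ ^ e) b)⁻¹ * b = h * (((σ ^ e) a)⁻¹ * a) * h⁻¹))) ∧
    (∀ x ∈ (MulEquiv.toMonoidHom σ).eqLocus (MonoidHom.id X), ∃ g ∈ (MulEquiv.toMonoidHom (σ ^ e)).eqLocus (MonoidHom.id X), ∃ a : X,
        g = a * (σ a)⁻¹ ∧ ((σ ^ e) a)⁻¹ * a = x) := by
  exact ⟨fun g hg a ha => shin_one σ e g a hg ha, fun g hg g' hg' a b ha hb => shin_conj σ e g g' a b hg ha hg' hb,
    fun x hx => shin_surj σ e hLe x hx⟩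

end Cfsg.Agent.S2666
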