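import Cfsg.Statements.S2669
import Cfsg.Agent.S2666

set_option autoImplicit false
open Cfsg

namespace Cfsg.Agent.S2669

open Cfsg.Agent.S2666

theorem card_eq_fibre {α β : Type*} (f : α → β) (m : ℕ) [Finite β]
    (h : ∀ b, Nat.card {a // f a = b} = m) (hm : m ≠ 0) : Nat.card α = Nat.card β * m := by
  have : ∀ b, Finite {a // f a = b} := fun b => (Nat.card_pos_iff.mp (h b ▸ Nat.pos_of_ne_zero hm)).2
  have := Fintype.ofFinite β
  rw [Nat.card_congr (Equiv.sigmaFiberEquiv f).symm, Nat.card_sigma]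
  simp [h]

/-- Shintani descent preserves numbers of fixed points on coset spaces (abstract form). Let `σ` be an automorphism of a group `X` and `e ≥ 1`; write `G` for the fixed points of `σᵉ` and `H` for the fixed points of `σ`, and assume `G` is finite. Let `Y` be a `σ`-stable subgroup of `X` on which the maps `a ↦ a σ(a)⁻¹` and `a ↦ a σᵉ(a)⁻¹` are surjective (as for a closed connected `σ`-stable subgroup of an algebraic group). Let `g ∈ G`, let `a ∈ X` satisfy `g = a σ(a)⁻¹` and put `x = σᵉ(a)⁻¹ a` (the Shintani image, an element of `H`). The element `g σ` of the semidirect product acts on the cosets of `Y ∩ G` in `G` by `k (Y ∩ G) ↦ g σ(k) (Y ∩ G)`, fixing that coset exactly when `k⁻¹ g σ(k) ∈ Y`; and `x` fixes the coset `h (Y ∩ H)` of `H` exactly when `h⁻¹ x h ∈ Y`. Then the two numbers of fixed cosets agree; in cross-multiplied form, `#{k ∈ G : k⁻¹ g σ(k) ∈ Y} · |Y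 ∩ H| = #{h ∈ H : h⁻¹ x h ∈ Y} · |Y ∩ G|`. -/
theorem result {X : Type*} [Group X] (σ : MulAut X) (e : ℕ) (he : 1 ≤ e)
    [Finite ↥((MulEquiv.toMonoidHom (σ ^ e)).eqLocus (MonoidHom.id X))]
    (Y : Subgroup X) (hY : ∀ y : X, y ∈ Y ↔ σ y ∈ Y)
    (hYL : ∀ y ∈ Y, ∃ a ∈ Y, y = a * (σ a)⁻¹) (hYLe : ∀ y ∈ Y, ∃ a ∈ Y, y = a * ((σ ^ e) a)⁻¹)
    (g : X) (hg : g ∈ (MulEquiv.toMonoidHom (σ ^ e)).eqLocus (MonoidHom.id X)) (a : X) (ha : g = a * (σ a)⁻¹) :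
    Nat.card {k : ↥((MulEquiv.toMonoidHom (σ ^ e)).eqLocus (MonoidHom.id X)) // (k : X)⁻¹ * g * σ k ∈ Y} *
        Nat.card ↥(Y ⊓ (MulEquiv.toMonoidHom σ).eqLocus (MonoidHom.id X)) =
      Nat.card {h : ↥((MulEquiv.toMonoidHom σ).eqLocus (MonoidHom.id X)) // (h : X)⁻¹ * (((σ ^ e) a)⁻¹ * a) * h ∈ Y} *
        Nat.card ↥(Y ⊓ (MulEquiv.toMonoidHom (σ ^ e)).eqLocus (MonoidHom.id X)) := by
  classical
  simp only [mem_fix] at hg
  let x := ((σ ^ e) a)⁻¹ * a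
  let Fe := (MulEquiv.toMonoidHom (σ ^ e)).eqLocus (MonoidHom.id X)
  let Fs := (MulEquiv.toMonoidHom σ).eqLocus (MonoidHom.id X)
  have hx : σ x = x := fix_x σ e g a hg ha
  have hle : ∀ z, σ z = z → (σ ^ e) z = z := by
    intro z hz
    clear! he
    clear hg hYLe x hx
    induction e with
    | zero => simp
    | succ n ih => rw [pow_succ, MulAut.mul_apply, hz]; exact ih
  have hFe : (Fs : Set X) ⊆ Fe := fun z hz => hle z hz
  have : Finite Fs := Finite.of_injective (fun z : Fs => (⟨z, hFe z.2⟩ : Fe))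
    (fun z w h => Subtype.ext (congrArg (fun t : Fe => (t : X)) h))
  have : Finite ↥(Y ⊓ Fs) := Finite.of_injective (fun z : ↥(Y ⊓ Fs) => (⟨z, hFe z.2.2⟩ : Fe))
    (fun z w h => Subtype.ext (congrArg (fun t : Fe => (t : X)) h))
  have : Finite ↥(Y ⊓ Fe) := Finite.of_injective (fun z : ↥(Y ⊓ Fe) => (⟨z, z.2.2⟩ : Fe))
    (fun z w h => Subtype.ext (congrArg (fun t : Fe => (t : X)) h))
  have hσY : ∀ {y}, y ∈ Y → σ y ∈ Y := fun h => (hY _).mp h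
  have hpY : ∀ (n : ℕ) {y}, y ∈ Y → (σ ^ n) y ∈ Y := by
    intro n
    induction n with
    | zero => simp
    | succ n ih => intro y hy; rw [pow_succ, MulAut.mul_apply]; exact ih (hσY hy)
  let K := {k : Fe // (k : X)⁻¹ * g * σ k ∈ Y}
  let H := {h : Fs // (h : X)⁻¹ * x * h ∈ Y}
  let P := {p : X × X // p.2 ∈ Y ∧ (σ ^ e) p.1 = p.1 ∧ (p.1)⁻¹ * g * σ p.1 = p.2 * (σ p.2)⁻¹}
  have hP : ∀ p : P, σ (a⁻¹ * p.1.1 * p.1.2) = a⁻¹ * p.1.1 * p.1.2 ∧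
      (a⁻¹ * p.1.1 * p.1.2)⁻¹ * x * (a⁻¹ * p.1.1 * p.1.2) = ((σ ^ e) p.1.2)⁻¹ * p.1.2 := by
    rintro ⟨⟨k, b⟩, hb, hk, hkb⟩
    have h1 : σ (a⁻¹ * k * b) = a⁻¹ * k * b := by
      rw [map_mul, map_mul, map_inv]
      rw [ha] at hkb
      have h2 := congrArg (fun z => a⁻¹ * k * z * σ b) hkb
      simpa [mul_assoc] using h2
    refine ⟨h1, ?_⟩
    have h2 := hle _ h1
    rw [map_mul, map_mul, map_inv, hk] at h2
    show (a⁻¹ * k * b)⁻¹ * (((σ ^ e) a)⁻¹ * a) * (a⁻¹ * k * b) = ((σ ^ e) b)⁻¹ * b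
    conv_lhs => arg 1; arg 1; rw [← h2]
    group
  let f : P → K := fun p => ⟨⟨p.1.1, p.2.2.1⟩, by
    show p.1.1⁻¹ * g * σ p.1.1 ∈ Y
    rw [p.2.2.2]
    exact Y.mul_mem p.2.1 (Y.inv_mem (hσY p.2.1))⟩
  let f' : P → H := fun p => ⟨⟨a⁻¹ * p.1.1 * p.1.2, (hP p).1⟩, by
    show (a⁻¹ * p.1.1 * p.1.2)⁻¹ * x * (a⁻¹ * p.1.1 * p.1.2) ∈ Y
    rw [(hP p).2]
    exact Y.mul_mem (Y.inv_mem (hpY e p.2.1)) p.2.1⟩
  have hf : ∀ k : K, Nat.card {p : P // f p = k} = Nat.card ↥(Y ⊓ Fs) := by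
    intro k
    obtain ⟨b₀, hb₀, hb⟩ := hYL _ k.2
    refine Nat.card_congr
      { toFun := fun p => ⟨b₀⁻¹ * p.1.1.2, Y.mul_mem (Y.inv_mem hb₀) p.1.2.1, ?_⟩
        invFun := fun u => ⟨⟨((k.1 : X), b₀ * u), Y.mul_mem hb₀ u.2.1, k.1.2, ?_⟩, rfl⟩
        left_inv := fun p => ?_
        right_inv := fun u => Subtype.ext (by simp) }
    · have hk : p.1.1.1 = (k.1 : X) := congrArg (fun z : K => (z.1 : X)) p.2
      have h1 := p.1.2.2.2
      rw [hk, hb] at h1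
      have h2 := congrArg (fun z => b₀⁻¹ * z * σ p.1.1.2) h1
      show σ (b₀⁻¹ * p.1.1.2) = b₀⁻¹ * p.1.1.2
      rw [map_mul, map_inv]
      simpa [mul_assoc] using h2
    · show (k.1 : X)⁻¹ * g * σ (k.1 : X) = b₀ * u * (σ (b₀ * u))⁻¹
      rw [map_mul, show σ (u : X) = u from u.2.2, hb]
      group
    · have hk : p.1.1.1 = (k.1 : X) := congrArg (fun z : K => (z.1 : X)) p.2
      exact Subtype.ext (Subtype.ext (Prod.ext hk.symm (by simp)))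
  have hf' : ∀ h : H, Nat.card {p : P // f' p = h} = Nat.card ↥(Y ⊓ Fe) := by
    intro h
    obtain ⟨c, hc, hcx⟩ := hYLe _ (Y.inv_mem h.2)
    -- b₀ = c⁻¹
    have hb : ((h.1 : X))⁻¹ * x * h.1 = ((σ ^ e) c⁻¹)⁻¹ * c⁻¹ := by
      rw [← inv_inv ((h.1 : X)⁻¹ * x * h.1), hcx, map_inv]
      group
    have hh : σ (h.1 : X) = h.1 := h.1.2
    have hhe : (σ ^ e) (h.1 : X) = h.1 := hle _ hh
    refine Nat.card_congr
      { toFun := fun p => ⟨p.1.1.2 * c, Y.mul_mem p.1.2.1 hc, ?_⟩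
        invFun := fun u => ⟨⟨(a * h.1 * (u * c⁻¹)⁻¹, u * c⁻¹), Y.mul_mem u.2.1 (Y.inv_mem hc), ?_, ?_⟩, ?_⟩
        left_inv := fun p => ?_
        right_inv := fun u => Subtype.ext (by simp) }
    · have hk : a⁻¹ * p.1.1.1 * p.1.1.2 = (h.1 : X) := congrArg (fun z : H => (z.1 : X)) p.2
      have h1 := (hP p.1).2
      rw [hk, hb] at h1
      have h2 := congrArg (fun z => (σ ^ e) p.1.1.2 * z * c) h1
      show (σ ^ e) (p.1.1.2 * c) = p.1.1.2 * c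
      rw [map_mul]
      simpa [mul_assoc, map_inv] using h2
    · show (σ ^ e) (a * h.1 * ((u : X) * c⁻¹)⁻¹) = a * h.1 * ((u : X) * c⁻¹)⁻¹
      rw [map_mul, map_mul, map_inv, map_mul, show (σ ^ e) (u : X) = u from u.2.2, hhe]
      have h1 : (h.1 : X) * ((σ ^ e) c⁻¹)⁻¹ = ((σ ^ e) a)⁻¹ * a * h.1 * c := by
        have h2 := congrArg (fun z => (h.1 : X) * z * c) hb
        simpa [mul_assoc, x] using h2.symm
      calc (σ ^ e) a * (h.1 : X) * ((u : X) * (σ ^ e) c⁻¹)⁻¹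
          = (σ ^ e) a * ((h.1 : X) * ((σ ^ e) c⁻¹)⁻¹) * (u : X)⁻¹ := by group
        _ = _ := by rw [h1]; group
    · show (a * h.1 * ((u : X) * c⁻¹)⁻¹)⁻¹ * g * σ (a * h.1 * ((u : X) * c⁻¹)⁻¹) = _
      rw [map_mul σ (a * h.1), map_mul σ a, map_inv, hh, ha]
      group
    · exact Subtype.ext (Subtype.ext (show a⁻¹ * (a * h.1 * ((u : X) * c⁻¹)⁻¹) * ((u : X) * c⁻¹) = h.1 by group))
    · have hk : a⁻¹ * p.1.1.1 * p.1.1.2 = (h.1 : X) := congrArg (fun z : H => (z.1 : X)) p.2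
      refine Subtype.ext (Subtype.ext (Prod.ext ?_ (by simp)))
      show a * h.1 * ((p.1.1.2 * c) * c⁻¹)⁻¹ = p.1.1.1
      rw [← hk]
      group
  exact (card_eq_fibre f _ hf Nat.card_pos.ne').symm.trans (card_eq_fibre f' _ hf' Nat.card_pos.ne')

end Cfsg.Agent.S2669
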