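import Cfsg.Statements.S2670
import Mathlib
import Cfsg.Agent.Lib.Similar.ProjGL

set_option autoImplicit false
open Cfsg

namespace Cfsg.Agent.S2670

/-- Number of conjugacy classes of elements of prime order r in PGL_n(q) = GL_n(q)/scalars when r divides q − 1 (n ≥ 2): the classes of elements with a diagonalisable lift correspond to the orbits of the cyclic rotation on the r-tuples of eigenvalue multiplicities (a_0, …, a_(r−1)) summing to n with every a_j < n, and when r divides n there are r − 1 further classes (lifts acting irreducibly on blocks of size r); in all (C(n+r−1, r−1) − r − [r ∣ n])/r + r·[r ∣ n] classes. -/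
theorem result {F : Type*} [Field F] [Fintype F] {q : ℕ} (hF : Fintype.card F = q) {n r : ℕ} (hn : 2 ≤ n) (hr : r.Prime) (hrq : r ∣ q - 1) : Nat.card {C : ConjClasses (GL (Fin n) F ⧸ Subgroup.center (GL (Fin n) F)) // ∃ g : GL (Fin n) F ⧸ Subgroup.center (GL (Fin n) F), ConjClasses.mk g = C ∧ orderOf g = r} = (Nat.choose (n + r - 1) (r - 1) - r - (if r ∣ n then 1 else 0)) / r + r * (if r ∣ n then 1 else 0) := by
  classical
  refine Cfsg.Agent.Lib.Similar.Proj.card_matrix_proj_classes (by omega) hr (MonoidHom.id _) Function.injective_id (fun a b h => h) ⊤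
    (fun g => ?_) (fun w _ => ⟨Units.map (Matrix.scalar (Fin n)).toMonoidHom w, rfl⟩) (fun x _ => Subgroup.mem_top x) ?_ (fun w _ m => ?_)
  · rw [Matrix.GeneralLinearGroup.mem_center_iff_val_mem_range_scalar]
    constructor
    · rintro ⟨c, hc⟩
      have hc0 : c ≠ 0 := by
        rintro rfl
        have : Nonempty (Fin n) := ⟨⟨0, by omega⟩⟩
        exact g.ne_zero (by rw [← hc, map_zero])
      exact ⟨Units.mk0 c hc0, trivial, hc.symm⟩
    · rintro ⟨w, -, hw⟩
      exact ⟨_, hw.symm⟩
  · rw [IsCyclic.card_powMonoidHom_ker, Nat.card_units, Nat.card_eq_fintype_card, hF]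
    exact Nat.gcd_eq_right hrq
  · obtain ⟨h1, h2⟩ := m.2
    obtain ⟨x, hx⟩ := Cfsg.Agent.Lib.Similar.exists_gl_matInv (n := Fin n) m.1 (fun y hy => by
      obtain ⟨e1, e2, e3, e4⟩ := h1 y hy
      refine ⟨e2, e3, fun h0 => ?_, e1.ge⟩
      obtain ⟨v, hv⟩ := e4
      have := congrArg (fun P : Polynomial F => P.coeff 0) hv
      simp [Polynomial.mul_coeff_zero, h0, hr.ne_zero.symm, Polynomial.coeff_X_pow] at this)
      (by rw [h2, Fintype.card_fin])
    exact ⟨x, hx⟩

end Cfsg.Agent.S2670
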