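import Cfsg.Statements.S2671
import Mathlib
import Cfsg.Agent.Lib.Similar.OrbitCount

set_option autoImplicit false
open Cfsg

namespace Cfsg.Agent.S2671

open Polynomial Cfsg.Agent.Lib.Similar
open Cfsg.Agent.Lib.Classical (conjHom conjHom_apply conjHom_conjHom exists_q_pow two_le_q)

section Fix

variable {K : Type*} [Field K] [Fintype K] {q r : ℕ}

theorem starP_X_pow_sub_one (σ : K →+* K) (hr : 1 ≤ r) : starP σ (X ^ r - 1 : K[X]) = X ^ r - 1 := by
  have hm : (X ^ r - 1 : K[X]).Monic := by rw [← C_1]; exact monic_X_pow_sub_C 1 (by omega)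
  have hd : (X ^ r - 1 : K[X]).natDegree = r := by rw [← C_1, natDegree_X_pow_sub_C]
  have h0 : (X ^ r - 1 : K[X]).coeff 0 = -1 := by simp [coeff_X_pow, show ¬ 0 = r by omega]
  ext i
  rcases Nat.lt_or_ge r i with h | h
  · rw [coeff_eq_zero_of_natDegree_lt (by rw [natDegree_starP (by rw [h0]; exact neg_ne_zero.2 one_ne_zero), hd]; exact h),
      coeff_eq_zero_of_natDegree_lt (by rw [hd]; exact h)]
  rw [coeff_starP (by rw [hd]; exact h), h0, hd, map_neg, map_one, inv_neg, inv_one, coeff_sub, coeff_sub, coeff_X_pow,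
    coeff_X_pow, coeff_one, coeff_one]
  by_cases h1 : i = 0
  · simp [h1, show ¬ r = 0 by omega, show ¬ 0 = r by omega]
  by_cases h2 : i = r
  · simp [h2, show ¬ r = 0 by omega, show ¬ 0 = r by omega]
  simp [h1, h2, show ¬ r - i = 0 by omega, show ¬ r - i = r by omega]

/-- When a factor of the cyclotomic polynomial is fixed by the conjugate reciprocal. -/
theorem starP_eq_self_iff (hK : Fintype.card K = q ^ 2) (hr : r.Prime) (hr2 : r ≠ 2) (hrq : (q : ZMod r) ≠ 0) {g : K[X]}
    (hg : Irreducible g) (hm : g.Monic) (hd : g ∣ X ^ r - 1) (h0 : g.coeff 0 ≠ 0) (hne : g ≠ X - C 1) :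
    starP (conjHom hK) g = g ↔ orderOf (q : ZMod r) % 4 = 2 := by
  classical
  have : Fact r.Prime := ⟨hr⟩
  have : Fact (Irreducible g) := ⟨hg⟩
  have : Module.Finite K (AdjoinRoot g) := (AdjoinRoot.powerBasis hg.ne_zero).finite
  have : Finite (AdjoinRoot g) := Module.finite_of_finite K
  obtain ⟨P, f, hP, hchar, hqf⟩ := exists_q_pow hK
  have : Fact P.Prime := ⟨hP⟩
  have : CharP (AdjoinRoot g) P := charP_of_injective_algebraMap (algebraMap K (AdjoinRoot g)).injective P
  obtain ⟨α, hα⟩ : ∃ α, α = AdjoinRoot.root g := ⟨_, rfl⟩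
  have hgα : aeval α g = 0 := by rw [hα, AdjoinRoot.aeval_eq, AdjoinRoot.mk_self]
  have hαr : α ^ r = 1 := by
    have := aeval_eq_zero_of_dvd_aeval_eq_zero hd hgα
    simpa [sub_eq_zero] using this
  have hα1 : α ≠ 1 := fun h => by
    rw [h, show (1 : AdjoinRoot g) = algebraMap K _ 1 from (map_one _).symm, aeval_algebraMap_apply, map_eq_zero, coe_aeval_eq_eval, ← IsRoot.def] at hgα
    exact hne (eq_of_monic_of_associated hm (monic_X_sub_C _)
      ((irreducible_X_sub_C _).associated_of_dvd hg (dvd_iff_isRoot.2 hgα)).symm)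
  have hord : orderOf α = r := orderOf_eq_prime hαr hα1
  have hα0 : α ≠ 0 := fun h => by rw [h, zero_pow hr.ne_zero] at hαr; exact zero_ne_one hαr
  -- Frobenius transports roots
  have frob : ∀ (k : ℕ) (x : AdjoinRoot g) (h : K[X]), (aeval x h) ^ (q ^ k) =
      eval₂ (algebraMap K (AdjoinRoot g)) (x ^ (q ^ k)) (h.map ((RingHom.comp (RingHom.id K)) (iterateFrobenius K P (f * k)))) := by
    intro k x h
    rw [hqf, ← pow_mul, ← iterateFrobenius_def P (f * k) x, ← iterateFrobenius_def P (f * k) (aeval x h), aeval_def, hom_eval₂, eval₂_map]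
    congr 1
    ext y
    simp [iterateFrobenius_def]
  have codd : ∀ k, Odd k → (RingHom.comp (RingHom.id K)) (iterateFrobenius K P (f * k)) = conjHom hK := by
    intro k hk
    ext y
    obtain ⟨j, rfl⟩ := hk
    simp only [RingHom.id_comp, iterateFrobenius_def, conjHom_apply hK]
    rw [pow_mul, ← hqf, pow_succ, pow_mul, pow_mul q 2 j, ← hK, FiniteField.pow_card_pow]
  obtain ⟨u, hu⟩ : ∃ u : (ZMod r)ˣ, (u : ZMod r) = q := ⟨Units.mk0 _ hrq, rfl⟩
  have hou : orderOf u = orderOf (q : ZMod r) := by rw [← hu, orderOf_units]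
  -- root criterion
  have crit : starP (conjHom hK) g = g ↔ eval₂ (algebraMap K (AdjoinRoot g)) α⁻¹ (g.map (conjHom hK)) = 0 := by
    have hdeg := natDegree_starP (σ := conjHom hK) h0
    let _ : Invertible α⁻¹ := invertibleOfNonzero (inv_ne_zero hα0)
    have e : aeval α (starP (conjHom hK) g) = 0 ↔ eval₂ (algebraMap K (AdjoinRoot g)) α⁻¹ (g.map (conjHom hK)) = 0 := by
      rw [starP, aeval_def, eval₂_mul, eval₂_C, mul_eq_zero, ← eval₂_reverse_eq_zero_iff _ α⁻¹ (g.map (conjHom hK)),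
        invOf_eq_inv, inv_inv]
      refine or_iff_right ?_
      rw [map_eq_zero, inv_eq_zero, map_eq_zero]
      exact h0
    refine Iff.trans ⟨fun h => by rw [h]; exact hgα, fun h => ?_⟩ e
    rw [hα, AdjoinRoot.aeval_eq, AdjoinRoot.mk_eq_zero] at h
    exact eq_of_monic_of_dvd_of_natDegree_le hm (monic_starP h0) h hdeg.le
  rw [crit]
  constructor
  · intro h
    have h1 := congrArg (fun z => z ^ (q ^ 1)) h
    simp only [pow_one, zero_pow (show q ≠ 0 by have := two_le_q hK; omega)] at h1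
    have h2 : aeval (α⁻¹ ^ q) g = 0 := by
      rw [← h1, ← aeval_def]
      have := frob 1 α⁻¹ (g.map (conjHom hK))
      rw [pow_one] at this
      rw [this, codd 1 odd_one, Polynomial.map_map, show (conjHom hK).comp (conjHom hK) = RingHom.id K from RingHom.ext (conjHom_conjHom hK),
        Polynomial.map_id, aeval_def]
    obtain ⟨φ, hφ⟩ : ∃ φ : AdjoinRoot g →ₐ[K] AdjoinRoot g, φ α = α⁻¹ ^ q :=
      ⟨AdjoinRoot.liftAlgHom g (Algebra.ofId K _) _ h2, (congrArg _ hα).trans (AdjoinRoot.liftAlgHom_root g (Algebra.ofId K _) _ h2)⟩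
    obtain ⟨⟨j, hj⟩, hjφ⟩ := (FiniteField.bijective_frobeniusAlgHom_pow K (AdjoinRoot g)).2 φ
    have hjα : α ^ (q ^ 2) ^ j = α⁻¹ ^ q := by
      rw [← hφ, ← hjφ, AlgHom.coe_pow, FiniteField.coe_frobeniusAlgHom, pow_iterate, hK]
    have h3 : ((r : ℕ) : ℕ) ∣ (q ^ 2) ^ j + q := by
      rw [← hord, orderOf_dvd_iff_pow_eq_one, pow_add, hjα, ← mul_pow, inv_mul_cancel₀ hα0, one_pow]
    have h4 : (q : ZMod r) ^ (2 * j) = -(q : ZMod r) := by
      rw [eq_neg_iff_add_eq_zero, pow_mul, ← Nat.cast_pow, ← Nat.cast_pow, ← Nat.cast_add, ZMod.natCast_eq_zero_iff]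
      exact h3
    by_contra hmod
    rcases Nat.even_or_odd (orderOf (q : ZMod r)) with he | ho
    · obtain ⟨t, ht⟩ := he
      have h5 : u ^ (4 * j) = u ^ 2 := Units.ext (by
        rw [Units.val_pow_eq_pow_val, Units.val_pow_eq_pow_val, hu, show 4 * j = 2 * j * 2 by ring, pow_mul, h4, neg_sq])
      rw [pow_eq_pow_iff_modEq, hou] at h5
      have h6 : 4 ∣ orderOf (q : ZMod r) := by omega
      have := h5.of_dvd h6
      rw [Nat.ModEq] at this
      omega
    · have h5 := congrArg (fun z => z ^ orderOf (q : ZMod r)) h4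
      simp only [← pow_mul, mul_comm (2 * j), ho.neg_pow] at h5
      rw [pow_mul, pow_orderOf_eq_one, one_pow] at h5
      have h6 : ((2 : ℕ) : ZMod r) = 0 := by rw [Nat.cast_two]; linear_combination h5
      rw [ZMod.natCast_eq_zero_iff] at h6
      exact hr2 ((Nat.prime_dvd_prime_iff_eq hr Nat.prime_two).1 h6)
  · intro hmod
    obtain ⟨b, hb⟩ : ∃ b, orderOf (q : ZMod r) = 2 * b := ⟨orderOf (q : ZMod r) / 2, by omega⟩
    have hbo : Odd b := Nat.odd_iff.2 (by omega)
    have h1 : (q : ZMod r) ^ b = -1 := by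
      refine (mul_self_eq_one_iff.1 ?_).resolve_left fun h => ?_
      · rw [← pow_add, ← two_mul, ← hb, pow_orderOf_eq_one]
      · have := Nat.le_of_dvd (by omega) (orderOf_dvd_of_pow_eq_one h)
        omega
    have h2 : α ^ q ^ b = α⁻¹ := by
      refine eq_inv_of_mul_eq_one_left ?_
      rw [← pow_succ, ← orderOf_dvd_iff_pow_eq_one, hord, ← ZMod.natCast_eq_zero_iff]
      push_cast
      rw [h1, neg_add_cancel]
    have h3 := frob b α g
    rw [hgα, zero_pow (pow_ne_zero _ (by have := two_le_q hK; omega)), codd b hbo, h2] at h3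
    exact h3.symm

end Fix

/-- Number of conjugacy classes of elements of odd prime order r in the general unitary group GU_n(q), for r not dividing q(q + 1): let i be the multiplicative order of q modulo r, b = i if i is odd and b = i/2 if i is even, and s = (r − 1)/b. If i ≢ 2 (mod 4) the eigenvalue orbits pair off into dual pairs of totally isotropic blocks and there are C(⌊n/(2b)⌋ + s/2, s/2) − 1 classes; if i ≡ 2 (mod 4) each orbit gives a non-degenerate block of dimension i/2 and there are C(⌊2n/i⌋ + s, s) − 1 classes. -/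
theorem result {K : Type*} [Field K] [Fintype K] {p q n r i b s : ℕ} [Fact p.Prime] [CharP K p] (hK : Fintype.card K = q ^ 2) (hr : r.Prime) (hr2 : r ≠ 2) (hrp : r ≠ p) (hi : i = orderOf (q : ZMod r)) (hi2 : i ≠ 2) (hb : b = if Odd i then i else i / 2) (hs : s * b = r - 1) : Nat.card {C : ConjClasses ↥(Cfsg.GU n K q) // ∃ g : ↥(Cfsg.GU n K q), ConjClasses.mk g = C ∧ orderOf g = r} = if i % 4 = 2 then Nat.choose (2 * n / i + s) s - 1 else Nat.choose (n / (2 * b) + s / 2) (s / 2) - 1 := by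
  classical
  have : Fact r.Prime := ⟨hr⟩
  obtain ⟨⟨f, hf⟩, -, hcard⟩ := FiniteField.card K p
  simp only [PNat.mk_coe] at hcard
  have hp : p.Prime := Fact.out
  have hrr : r.Coprime p := (Nat.coprime_primes hr hp).2 hrp
  have hsq : Squarefree (X ^ r - 1 : K[X]) := squarefree_X_pow_sub_one hrr
  have hrq : (q : ZMod r) ≠ 0 := by
    rw [Ne, ZMod.natCast_eq_zero_iff]
    intro h
    have h2 : r ∣ p ^ f := hcard ▸ hK ▸ dvd_pow h two_ne_zero
    exact hrp ((Nat.prime_dvd_prime_iff_eq hr hp).1 (hr.dvd_of_dvd_pow h2))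
  let J : Finset K[X] := (UniqueFactorizationMonoid.normalizedFactors (cyclotomic r K)).toFinset
  have hJ1 : ∀ g ∈ J, g.Monic ∧ Irreducible g ∧ g ∣ cyclotomic r K := fun g hg => by
    rw [Multiset.mem_toFinset] at hg
    have h := UniqueFactorizationMonoid.irreducible_of_normalized_factor g hg
    refine ⟨?_, h, UniqueFactorizationMonoid.dvd_of_mem_normalizedFactors hg⟩
    rw [← UniqueFactorizationMonoid.normalize_normalized_factor g hg]
    exact monic_normalize h.ne_zero
  have hipos : 0 < i := by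
    rw [hi, ← Units.val_mk0 hrq, orderOf_units]
    exact orderOf_pos _
  have hQ : orderOf ((q ^ 2 : ℕ) : ZMod r) = b := by
    rw [Nat.cast_pow, orderOf_pow' _ two_ne_zero, ← hi, hb]
    rcases Nat.even_or_odd i with he | ho
    · rw [if_neg (Nat.not_odd_iff_even.2 he), Nat.gcd_eq_right he.two_dvd]
    · rw [if_pos ho, Nat.Coprime.gcd_eq_one (Nat.coprime_two_right.2 ho), Nat.div_one]
  have hb1 : 1 ≤ b := by
    rw [hb]
    split_ifs with h
    · omega
    · rw [Nat.not_odd_iff] at h; omega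
  have hJdeg : ∀ g ∈ J, g.natDegree = b := fun g hg => by
    rw [natDegree_of_dvd_cyclotomic_of_irreducible (n := r) hcard hrr.symm (hJ1 g hg).2.2 (hJ1 g hg).2.1,
      ← orderOf_units, ZMod.coe_unitOfCoprime, ← hcard, hK, hQ]
  have hcsq : Squarefree (cyclotomic r K) := hsq.squarefree_of_dvd (cyclotomic.dvd_X_pow_sub_one r K)
  have hprodJ : ∏ g ∈ J, g = cyclotomic r K := by
    have hnd := (UniqueFactorizationMonoid.squarefree_iff_nodup_normalizedFactors
      (cyclotomic_ne_zero r K)).1 hcsq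
    rw [Finset.prod_eq_multiset_prod, Multiset.map_id', Multiset.toFinset_val,
      Multiset.dedup_eq_self.2 hnd, UniqueFactorizationMonoid.prod_normalizedFactors_eq,
      (cyclotomic.monic r K).normalize_eq_self]
    exact cyclotomic_ne_zero r K
  have hJcard : J.card = s := by
    have h := natDegree_prod_of_monic J (fun g => g) (fun g hg => (hJ1 g hg).1)
    rw [hprodJ, natDegree_cyclotomic, Nat.totient_prime hr, Finset.sum_const_nat hJdeg] at h
    rw [← hs] at h
    exact Nat.eq_of_mul_eq_mul_right hb1 h.symm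
  have hX1 : ∀ g ∈ J, g ≠ X - C 1 := by
    intro g hg h
    have hdvd := (hJ1 g hg).2.2
    rw [h, dvd_iff_isRoot] at hdvd
    rw [IsRoot, eval_one_cyclotomic_prime] at hdvd
    exact hrp ((Nat.prime_dvd_prime_iff_eq hp hr).1 ((CharP.cast_eq_zero_iff K p r).1 hdvd)).symm
  have hJ : ∀ g ∈ J, g.Monic ∧ Irreducible g ∧ g ∣ X ^ r - 1 ∧ g.coeff 0 ≠ 0 ∧ g.natDegree = b ∧ g ≠ X - C 1 := by
    intro g hg
    have h1 : g ∣ X ^ r - 1 := (hJ1 g hg).2.2.trans (cyclotomic.dvd_X_pow_sub_one r K)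
    refine ⟨(hJ1 g hg).1, (hJ1 g hg).2.1, h1, ?_, hJdeg g hg, hX1 g hg⟩
    intro h0
    obtain ⟨w, hw⟩ := h1
    have := congrArg (fun P : K[X] => P.coeff 0) hw
    simp [mul_coeff_zero, h0, hr.ne_zero.symm, coeff_X_pow, coeff_one] at this
  have hall : ∀ g : K[X], g.Monic → Irreducible g → g ∣ X ^ r - 1 → g = X - C 1 ∨ g ∈ J := by
    intro g hgm hgi hgd
    rw [← cyclotomic_prime_mul_X_sub_one K r] at hgd
    rcases hgi.prime.dvd_or_dvd hgd with h | h
    · right
      obtain ⟨w, hw, hw'⟩ := UniqueFactorizationMonoid.exists_mem_normalizedFactors_of_dvd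
        (cyclotomic_ne_zero r K) hgi h
      rw [eq_of_monic_of_associated hgm (hJ1 w (Multiset.mem_toFinset.2 hw)).1 hw']
      exact Multiset.mem_toFinset.2 hw
    · left
      rw [← C_1] at h
      exact eq_of_monic_of_associated hgm (monic_X_sub_C 1) (hgi.associated_of_dvd (irreducible_X_sub_C 1) h)
  have hσ := conjHom_conjHom hK
  have hst : ∀ g ∈ J, starP (conjHom hK) g ∈ J := by
    intro g hg
    obtain ⟨g1, g2, ⟨w, hw⟩, g4, -, g6⟩ := hJ g hg
    refine (hall _ (monic_starP g4) (irreducible_starP hσ g2 g1 g4) ?_).resolve_left fun h => g6 ?_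
    · rw [← starP_X_pow_sub_one (conjHom hK) hr.one_le, hw, starP_mul]
      exact Dvd.intro _ rfl
    · rw [← starP_starP hσ g1 g4, h, starP_X_sub_one]
  have hcnt : ∀ c, (∀ g ∈ J, ({g, starP (conjHom hK) g} : Finset K[X]).card = c) → 1 ≤ c → ∃ t, t * c = s ∧
      Nat.card {C : ConjClasses (Cfsg.GU n K q) // ∃ g : Cfsg.GU n K q, ConjClasses.mk g = C ∧ orderOf g = r} =
        Nat.choose (n / (c * b) + t) t - 1 := by
    intro c hc hc1
    obtain ⟨t, ht, hcard⟩ := card_classes_orbits (n := n) hK hr.one_le J hsq hJ hall hst hc hb1 hc1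
    refine ⟨t, ht.trans hJcard, ?_⟩
    rw [← hcard]
    let A := {C : ConjClasses (Cfsg.GU n K q) // ∃ g : Cfsg.GU n K q, ConjClasses.mk g = C ∧ g ^ r = 1}
    have hsub : Nat.card {C : ConjClasses (Cfsg.GU n K q) // ∃ g : Cfsg.GU n K q, ConjClasses.mk g = C ∧ orderOf g = r} =
        Nat.card {C : A // C ≠ ⟨ConjClasses.mk 1, 1, rfl, one_pow r⟩} := by
      refine Nat.card_congr
        { toFun := fun C => ⟨⟨C.1, by
            obtain ⟨g, hg, ho⟩ := C.2
            exact ⟨g, hg, by rw [← ho]; exact pow_orderOf_eq_one g⟩⟩, by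
            intro h
            obtain ⟨g, hg, ho⟩ := C.2
            have h' : ConjClasses.mk g = ConjClasses.mk 1 := by rw [hg]; exact congrArg Subtype.val h
            rw [ConjClasses.mk_eq_mk_iff_isConj, isConj_one_left] at h'
            rw [h', orderOf_one] at ho
            exact hr.one_lt.ne ho⟩
          invFun := fun C => ⟨C.1.1, by
            obtain ⟨g, hg, ho⟩ := C.1.2
            refine ⟨g, hg, orderOf_eq_prime ho ?_⟩
            rintro rfl
            exact C.2 (Subtype.ext hg.symm)⟩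
          left_inv := fun C => rfl
          right_inv := fun C => rfl }
    let _ : Fintype A := Fintype.ofFinite A
    rw [hsub, Nat.card_eq_fintype_card, Nat.card_eq_fintype_card, Fintype.card_subtype_compl, Fintype.card_subtype_eq]
  have hfixiff : ∀ g ∈ J, starP (conjHom hK) g = g ↔ i % 4 = 2 := fun g hg => by
    obtain ⟨g1, g2, g3, g4, -, g6⟩ := hJ g hg
    rw [hi]
    exact starP_eq_self_iff hK hr hr2 hrq g2 g1 g3 g4 g6
  split_ifs with h4
  · obtain ⟨t, ht, hN⟩ := hcnt 1 (fun g hg => by rw [(hfixiff g hg).2 h4]; simp) le_rfl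
    obtain ⟨m, hm⟩ : ∃ m, i = 2 * m := ⟨i / 2, by omega⟩
    have hbm : b = m := by rw [hb, if_neg (by rw [Nat.not_odd_iff]; omega)]; omega
    rw [hN, show t = s by omega, one_mul, hm, Nat.mul_div_mul_left _ _ two_pos, hbm]
  · obtain ⟨t, ht, hN⟩ := hcnt 2 (fun g hg => Finset.card_pair fun h => h4 ((hfixiff g hg).1 h.symm)) (by omega)
    rw [hN, show s / 2 = t by omega]

end Cfsg.Agent.S2671
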