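import Cfsg.Statements.S2672
import Mathlib
import Cfsg.Agent.Lib.Similar.ProjGL
import Cfsg.Agent.Lib.Similar.SUFibre
import Cfsg.Agent.Lib.Geometry.UnitaryDet

set_option autoImplicit false
open Cfsg

namespace Cfsg.Agent.S2672

open Polynomial Cfsg.Agent.Lib.Similar
open Cfsg.Agent.Lib.Classical (conjHom conjHom_apply conjHom_conjHom two_le_q mem_GU_iff diagonal_preserves)
open Cfsg.Agent.Lib.FamCount (mem_fam)

variable {K : Type*} [Field K] [Fintype K] {q r : ℕ}

theorem starP_X_pow_sub_C (hK : Fintype.card K = q ^ 2) (hr : 1 ≤ r) {a : K} (ha : a ^ (q + 1) = 1) :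
    starP (conjHom hK) (X ^ r - C a : K[X]) = X ^ r - C a := by
  have hd : (X ^ r - C a : K[X]).natDegree = r := natDegree_X_pow_sub_C
  have ha0 : a ≠ 0 := fun h => by rw [h, zero_pow (by omega)] at ha; exact zero_ne_one ha
  have h0 : (X ^ r - C a : K[X]).coeff 0 = -a := by simp [coeff_X_pow, show ¬ 0 = r by omega]
  have hσ : conjHom hK a = a⁻¹ := eq_inv_of_mul_eq_one_left (by rw [conjHom_apply, ← pow_succ, ha])
  ext i
  rcases Nat.lt_or_ge r i with h | h
  · rw [coeff_eq_zero_of_natDegree_lt (by rw [natDegree_starP (by rw [h0]; exact neg_ne_zero.2 ha0), hd]; exact h),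
      coeff_eq_zero_of_natDegree_lt (by rw [hd]; exact h)]
  rw [coeff_starP (by rw [hd]; exact h), h0, hd, map_neg, hσ, inv_neg, inv_inv, coeff_sub, coeff_sub, coeff_X_pow, coeff_X_pow]
  by_cases h1 : i = 0
  · subst h1
    simp [show ¬ r = 0 by omega, show ¬ 0 = r by omega, coeff_C]
  by_cases h2 : i = r
  · subst h2
    simp [show ¬ 0 = i by omega, h1, coeff_C, hσ, ha0]
  simp [h1, h2, show ¬ r - i = 0 by omega, show ¬ r - i = r by omega, coeff_C]

/-- Number of conjugacy classes of elements of odd prime order r in PGU_n(q) = GU_n(q)/scalars (n ≥ 3) when r divides q + 1: as in the linear case with q − 1 replaced by q + 1, the classes correspond to the rotation orbits on r-tuples of eigenvalue multiplicities summing to n with every entry < n, plus r − 1 further classes when r divides n; in all (C(n+r−1, r−1) − r − [r ∣ n])/r + r·[r ∣ n]. -/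
theorem result {K : Type*} [Field K] [Fintype K] {q n r : ℕ} (hK : Fintype.card K = q ^ 2) (hn : 3 ≤ n) (hr : r.Prime) (hr2 : r ≠ 2) (hrq : r ∣ q + 1) : Nat.card {C : ConjClasses (↥(Cfsg.GU n K q) ⧸ Subgroup.center ↥(Cfsg.GU n K q)) // ∃ g : ↥(Cfsg.GU n K q) ⧸ Subgroup.center ↥(Cfsg.GU n K q), ConjClasses.mk g = C ∧ orderOf g = r} = (Nat.choose (n + r - 1) (r - 1) - r - (if r ∣ n then 1 else 0)) / r + r * (if r ∣ n then 1 else 0) := by
  classical
  have : NeZero n := ⟨by omega⟩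
  obtain ⟨W, hW⟩ : ∃ W, W = Cfsg.Agent.Lib.Geometry.normOneUnits K q := ⟨_, rfl⟩
  have hWm : ∀ w : Kˣ, w ∈ W ↔ (w : K) ^ (q + 1) = 1 := fun w => by
    rw [hW, Cfsg.Agent.Lib.Geometry.normOneUnits, MonoidHom.mem_ker, powMonoidHom_apply, Units.ext_iff, Units.val_pow_eq_pow_val, Units.val_one]
  have hscal : ∀ w ∈ W, ∃ g : Cfsg.GU n K q, (((g : GL (Fin n) K)) : Matrix (Fin n) (Fin n) K) = Matrix.scalar (Fin n) (w : K) := by
    intro w hw
    refine ⟨Cfsg.Agent.Lib.Geometry.guDiag hK fun _ => ⟨w, hW ▸ hw⟩, ?_⟩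
    rw [Matrix.scalar_apply]
    rfl
  have hq := two_le_q hK
  have hcop : Nat.Coprime r (q - 1) := by
    refine (hr.coprime_iff_not_dvd).2 fun h => hr2 ((Nat.prime_dvd_prime_iff_eq hr Nat.prime_two).1 ?_)
    have := Nat.dvd_sub hrq h
    rwa [show q + 1 - (q - 1) = 2 by omega] at this
  have hroot : ∀ x : Kˣ, x ^ r ∈ W → x ∈ W := by
    intro x hx
    rw [hWm] at hx ⊢
    have h1 : ((x : K) ^ (q + 1)) ^ r = 1 := by rw [← pow_mul, mul_comm, pow_mul, ← Units.val_pow_eq_pow_val]; exact hx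
    have h2 : ((x : K) ^ (q + 1)) ^ (q - 1) = 1 := by
      rw [← pow_mul, ← Nat.sq_sub_sq, one_pow, ← hK]
      exact FiniteField.pow_card_sub_one_eq_one _ x.ne_zero
    have := pow_gcd_eq_one.2 ⟨h1, h2⟩
    rwa [hcop.gcd_eq_one, pow_one] at this
  refine Cfsg.Agent.Lib.Similar.Proj.card_matrix_proj_classes (by omega) hr (Cfsg.GU n K q).subtype Subtype.val_injective
    (fun a b h => (isConj_GU_iff hK a b).2 h) W (fun g => ⟨fun h => ?_, ?_⟩) hscal hroot ?_ (fun w hw m => ?_)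
  · obtain ⟨c, rfl⟩ := Cfsg.Agent.Lib.Geometry.exists_scalar_of_mem_center hK (by omega) g h
    refine ⟨(c : Kˣ), hW ▸ c.2, ?_⟩
    rw [Matrix.scalar_apply]
    rfl
  · rintro ⟨w, -, hw⟩
    refine Subgroup.mem_center_iff.2 fun x => Subtype.ext (Units.ext ?_)
    rw [Subgroup.coe_mul, Subgroup.coe_mul, Units.val_mul, Units.val_mul, show ((g : GL (Fin n) K) : Matrix (Fin n) (Fin n) K) = _ from hw]
    exact (Matrix.scalar_commute _ (fun r => Commute.all _ _) _).eq.symm
  · rw [IsCyclic.card_powMonoidHom_ker, Nat.card_units, Nat.card_eq_fintype_card, hK]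
    exact Nat.gcd_eq_right (hrq.trans ⟨q - 1, by rw [← Nat.sq_sub_sq, one_pow]⟩)
  · obtain ⟨h1, h2⟩ := m.2
    have hw0 : (X ^ r - C (w : K) : K[X]).coeff 0 ≠ 0 := by simp [coeff_X_pow, hr.ne_zero.symm]
    have hfix : ∀ y ∈ m.1, starP (conjHom hK) y.1 = y.1 := by
      intro y hy
      obtain ⟨e1, e2, e3, e4⟩ := h1 y hy
      by_cases hc : ∃ x : Kˣ, x ^ r = w
      · obtain ⟨x, hx⟩ := hc
        obtain ⟨ζ, hζ⟩ : ∃ ζ : K, IsPrimitiveRoot ζ r := by
          have : Fact r.Prime := ⟨hr⟩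
          obtain ⟨z, hz⟩ := exists_prime_orderOf_dvd_card' (G := Kˣ) r (by
            rw [Nat.card_units, Nat.card_eq_fintype_card, hK]
            exact hrq.trans ⟨q - 1, by rw [← Nat.sq_sub_sq, one_pow]⟩)
          exact ⟨(z : K), by rw [← hz, ← orderOf_units]; exact IsPrimitiveRoot.orderOf _⟩
        rw [X_pow_sub_C_eq_prod hζ hr.pos (show (x : K) ^ r = (w : K) by rw [← Units.val_pow_eq_pow_val, hx])] at e4
        obtain ⟨j, -, hd⟩ := e3.prime.exists_mem_finset_dvd e4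
        have hy1 := eq_of_monic_of_associated e2 (monic_X_sub_C _) (e3.associated_of_dvd (irreducible_X_sub_C _) hd)
        have hxj : ((ζ ^ j * (x : K))) ^ (q + 1) = 1 := by
          rw [mul_pow, (hWm x).1 (hroot x (hx ▸ hw)), mul_one, ← pow_mul, mul_comm, pow_mul]
          obtain ⟨k, hk⟩ := hrq
          rw [hk, pow_mul, hζ.pow_eq_one, one_pow, one_pow]
        rw [hy1]
        have := starP_X_pow_sub_C (r := 1) hK le_rfl hxj
        rwa [pow_one] at this
      · have hi : Irreducible (X ^ r - C (w : K)) := X_pow_sub_C_irreducible_of_prime hr fun b hb => hc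
          ⟨Units.mk0 b (fun h => w.ne_zero (by rw [← hb, h, zero_pow hr.ne_zero])), Units.ext (by rw [Units.val_pow_eq_pow_val]; exact hb)⟩
        rw [eq_of_monic_of_associated e2 (monic_X_pow_sub_C _ hr.ne_zero) (e3.associated_of_dvd hi e4)]
        exact starP_X_pow_sub_C hK hr.one_le ((hWm w).1 hw)
    obtain ⟨B, hB⟩ := exists_GU_matInv hK (m := m.1) (Finset.mem_filter.2 ⟨mem_fam.2 ⟨fun y hy => by
      obtain ⟨e1, e2, e3, v, hv⟩ := h1 y hy
      exact ⟨e2, e3, fun h0 => hw0 (by rw [hv, mul_coeff_zero, h0, zero_mul]), e1.ge, e1.ge⟩, h2⟩, by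
      conv_rhs => rw [← Multiset.map_id m.1]
      exact Multiset.map_congr rfl fun y hy => Prod.ext (hfix y hy) rfl⟩)
    exact ⟨B, hB⟩

end Cfsg.Agent.S2672
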