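import Cfsg.Statements.S2674
import Mathlib
import Cfsg.Agent.Lib.Similar.OrthCount
import Cfsg.Agent.Lib.Classical.AutPOmega.Odd

set_option autoImplicit false
open Cfsg

namespace Cfsg.Agent.S2674

open Cfsg.Agent.Lib

/-- The powers of `q` at multiples of half the dimension. -/
theorem pow_half {r q i m : ℕ} [Fact r.Prime] (hrq : (q : ZMod r) ≠ 0) (hi : i = orderOf (q : ZMod r)) :
    (Odd i → i ∣ m → (q : ZMod r) ^ m = 1) ∧ (¬ Odd i → ∀ w, 2 * m = i * w → (q : ZMod r) ^ m = (-1) ^ w) := by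
  refine ⟨fun _ h => orderOf_dvd_iff_pow_eq_one.1 (hi ▸ h), fun ho w hw => ?_⟩
  obtain ⟨b, hb⟩ := Nat.not_odd_iff_even.1 ho
  have hpos : 0 < i := by rw [hi, ← Units.val_mk0 hrq, orderOf_units]; exact orderOf_pos _
  have h1 : (q : ZMod r) ^ b = -1 := by
    refine (mul_self_eq_one_iff.1 ?_).resolve_left fun h => ?_
    · rw [← pow_add, ← hb, hi, pow_orderOf_eq_one]
    · have := Nat.le_of_dvd (by omega) (hi ▸ orderOf_dvd_of_pow_eq_one h)
      omega
  have hm : m = b * w := by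
    have : 2 * m = 2 * (b * w) := by rw [hw, hb]; ring
    omega
  rw [hm, pow_mul, h1]

theorem q_ne_zero {F : Type*} [Field F] [Fintype F] {p q r : ℕ} [Fact p.Prime] [CharP F p] (hF : Fintype.card F = q)
    (hr : r.Prime) (hrp : r ≠ p) : (q : ZMod r) ≠ 0 := by
  obtain ⟨⟨f, hf⟩, hp, hcard⟩ := FiniteField.card F p
  simp only [PNat.mk_coe] at hcard
  rw [Ne, ZMod.natCast_eq_zero_iff]
  intro h
  exact hrp ((Nat.prime_dvd_prime_iff_eq hr hp).1 (hr.dvd_of_dvd_pow (hcard ▸ hF ▸ h : r ∣ p ^ f)))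

theorem neg_one_ne_one {r : ℕ} [Fact r.Prime] (hr2 : r ≠ 2) : (-1 : ZMod r) ≠ 1 := fun h => by
  have h2 : ((2 : ℕ) : ZMod r) = 0 := by rw [Nat.cast_two]; linear_combination -h
  rw [ZMod.natCast_eq_zero_iff] at h2
  exact hr2 ((Nat.prime_dvd_prime_iff_eq Fact.out Nat.prime_two).1 h2)

/-- Number of conjugacy classes of elements of odd prime order r ≠ p in the orthogonal group O⁺_2m(q) of Σ x_j y_j (m ≥ 1): with i the multiplicative order of q mod r and t = (r − 1)/i — if i is odd, C(⌊m/i⌋ + t/2, t/2) − 1; if i is even, C(⌊2m/i⌋ + t, t) − 1 minus, when i divides 2m with odd quotient, the C(2m/i + t − 1, t − 1) tuples using the whole space (an odd number of elliptic i-blocks fills an elliptic, not a hyperbolic, space). -/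
theorem result {F : Type*} [Field F] [Fintype F] {p q : ℕ} [Fact p.Prime] [CharP F p] (hF : Fintype.card F = q) (m r i t : ℕ) (hm : 1 ≤ m) (hr : r.Prime) (hr2 : r ≠ 2) (hrp : r ≠ p) (hi : i = orderOf (q : ZMod r)) (ht : t * i = r - 1) : Nat.card {C : ConjClasses ↥(Cfsg.isometryGroup F (Cfsg.quadFormPlus m F)) // ∃ g : ↥(Cfsg.isometryGroup F (Cfsg.quadFormPlus m F)), ConjClasses.mk g = C ∧ orderOf g = r} = if Odd i then Nat.choose (m / i + t / 2) (t / 2) - 1 else Nat.choose (2 * m / i + t) t - 1 - (if i ∣ 2 * m ∧ Odd (2 * m / i) then Nat.choose (2 * m / i + t - 1) (t - 1) else 0) := by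
  classical
  have : Fact r.Prime := ⟨hr⟩
  have hrq := q_ne_zero (p := p) hF hr hrp
  obtain ⟨P1, P2⟩ := pow_half (m := m) hrq hi
  have hQ : (QuadraticMap.polarBilin (Classical.AutPOmega.plusR m F)).Nondegenerate :=
    Classical.nondegenerate_of_equiv _ _ (Classical.plusEquiv m F) (fun v => rfl)
      (Classical.hyperForm_nondegenerate m _ Classical.zero_nondegenerate)
  obtain ⟨c, u, hc, hu, hu1, hN⟩ := Similar.OrthCount.card_classes (p := p) hF (Classical.AutPOmega.plusR m F) hQ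
    (N := 2 * m) (by simp [Fintype.card_sum]; omega) hr hr2 hrp hi ht ((q : ZMod r) ^ m = 1)
    ⟨fun h M hM _ => by obtain rfl : M = m := by omega
                        exact iff_of_true (Classical.AutPOmega.isHyp_plusR M) h,
      fun h => (h m rfl hm).1 (Classical.AutPOmega.isHyp_plusR m)⟩
  rw [Classical.AutPOmega.coe_plusR, hN]
  subst hc
  by_cases ho : Odd i
  · simp only [if_pos ho] at hu ⊢
    rw [show t / 2 = u by omega, ← Nat.div_div_eq_div_mul, show 2 * m / 2 = m by omega,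
      if_neg fun h => h.1 (P1 ho (Nat.dvd_of_mul_dvd_mul_left two_pos h.2)), Nat.sub_zero]
  · simp only [if_neg ho, one_mul] at hu ⊢
    rw [show t = u by omega]
    congr 1
    refine if_congr ⟨fun h => ⟨h.2, ?_⟩, fun h => ⟨fun h' => ?_, h.1⟩⟩ rfl rfl
    · refine Nat.not_even_iff_odd.1 fun he => h.1 ?_
      rw [P2 ho _ (Nat.mul_div_cancel' h.2).symm, he.neg_one_pow]
    · rw [P2 ho _ (Nat.mul_div_cancel' h.1).symm, h.2.neg_one_pow] at h'
      exact neg_one_ne_one hr2 h'

end Cfsg.Agent.S2674
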