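import Cfsg.Statements.S2676
import Cfsg.Agent.Lib.Similar.SignedClasses
import Cfsg.Agent.S2570
-- import your own Cfsg.Agent.* helpers here

set_option autoImplicit false
open Classical
open Cfsg

namespace Cfsg.Agent.S2676

open Matrix
open Cfsg.Agent.Lib.Similar.Signed
open Cfsg.Agent.Lib.Similar.UnipU (Idx Comm ld)
open Cfsg.Agent.S2581 (nil)

theorem card_pow_classes {G : Type*} [Group G] [Finite G] (p : ℕ) [hp : Fact p.Prime] :
    Nat.card {C : ConjClasses G // ∃ g : G, ConjClasses.mk g = C ∧ g ^ p = 1} =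
      Nat.card {C : ConjClasses G // ∃ g : G, ConjClasses.mk g = C ∧ orderOf g = p} + 1 := by
  have h : {C : ConjClasses G | ∃ g : G, ConjClasses.mk g = C ∧ g ^ p = 1} =
      insert (ConjClasses.mk 1) {C : ConjClasses G | ∃ g : G, ConjClasses.mk g = C ∧ orderOf g = p} := by
    ext C
    simp only [Set.mem_setOf_eq, Set.mem_insert_iff]
    constructor
    · rintro ⟨g, rfl, hg⟩
      rcases (Nat.dvd_prime hp.out).1 (orderOf_dvd_of_pow_eq_one hg) with h | h
      · exact Or.inl (by rw [orderOf_eq_one_iff.1 h])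
      · exact Or.inr ⟨g, rfl, h⟩
    · rintro (rfl | ⟨g, rfl, hg⟩)
      · exact ⟨1, rfl, one_pow p⟩
      · exact ⟨g, rfl, hg ▸ pow_orderOf_eq_one g⟩
  show Nat.card ({C : ConjClasses G | ∃ g : G, ConjClasses.mk g = C ∧ g ^ p = 1} : Set (ConjClasses G)) =
    Nat.card ({C : ConjClasses G | ∃ g : G, ConjClasses.mk g = C ∧ orderOf g = p} : Set (ConjClasses G)) + 1
  rw [Nat.card_coe_set_eq, Nat.card_coe_set_eq, h, Set.ncard_insert_of_notMem]
  rintro ⟨g, hg, ho⟩
  rw [ConjClasses.mk_eq_mk_iff_isConj, isConj_one_left] at hg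
  rw [hg, orderOf_one] at ho
  exact hp.out.one_lt.ne ho

/-- The block sizes of a partition. -/
noncomputable def sizes {n : ℕ} (μ : Nat.Partition n) : Fin μ.parts.toList.length → ℕ :=
  fun k => μ.parts.toList.get k

theorem map_sizes {n : ℕ} (μ : Nat.Partition n) : (Finset.univ.val.map (sizes μ)) = μ.parts := by
  show Multiset.map μ.parts.toList.get (Finset.univ : Finset (Fin μ.parts.toList.length)).val = μ.parts
  rw [Fin.univ_val_map, List.ofFn_get, Multiset.coe_toList]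

theorem sizes_mem {n : ℕ} (μ : Nat.Partition n) (k : Fin μ.parts.toList.length) : sizes μ k ∈ μ.parts :=
  Multiset.mem_toList.1 (List.get_mem _ _)

theorem sizes_pos {n : ℕ} (μ : Nat.Partition n) (k : Fin μ.parts.toList.length) : 1 ≤ sizes μ k :=
  μ.parts_pos (sizes_mem μ k)

theorem count_sizes {n : ℕ} (μ : Nat.Partition n) (j : ℕ) :
    μ.parts.count j = (Finset.univ.filter fun k => sizes μ k = j).card := by
  conv_lhs => rw [← map_sizes μ]
  rw [Multiset.count_map, ← Finset.filter_val, Finset.card_val]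
  simp only [eq_comm]

theorem card_idx {n : ℕ} (μ : Nat.Partition n) : Fintype.card (Idx (sizes μ)) = n := by
  rw [Fintype.card_sigma]
  simp only [Fintype.card_fin]
  conv_rhs => rw [← μ.parts_sum, ← map_sizes μ]
  rfl

theorem eq_of_shift {F : Type*} [Field F] {κ : Type*} [Fintype κ] [DecidableEq κ] {n : ℕ} {μ ν : Nat.Partition n}
    {X : Matrix κ κ F} {P : Matrix κ (Idx (sizes μ)) F} {Q : Matrix (Idx (sizes μ)) κ F}
    {P' : Matrix κ (Idx (sizes ν)) F} {Q' : Matrix (Idx (sizes ν)) κ F}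
    (h : Shift X P Q) (h' : Shift X P' Q') : μ = ν := by
  apply Nat.Partition.ext
  ext j
  rcases Nat.eq_zero_or_pos j with rfl | hj
  · rw [Multiset.count_eq_zero_of_notMem fun e => (μ.parts_pos e).ne' rfl,
      Multiset.count_eq_zero_of_notMem fun e => (ν.parts_pos e).ne' rfl]
  · rw [count_sizes, count_sizes]
    exact count_eq_of_shift h h' hj

theorem exists_shift {F : Type*} [Field F] [Fintype F] {p : ℕ} [Fact p.Prime] [CharP F p] {κ : Type*} [Fintype κ]
    [DecidableEq κ] {n : ℕ} (hn : Fintype.card κ = n) {X : Matrix κ κ F} (hX : X ^ p = 0) :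
    ∃ μ : Nat.Partition n, (∀ a ∈ μ.parts, a ≤ p) ∧
      ∃ (P : Matrix κ (Idx (sizes μ)) F) (Q : Matrix (Idx (sizes μ)) κ F), Shift X P Q := by
  classical
  let T := {μ : Nat.Partition n // ∀ a ∈ μ.parts, a ≤ p}
  let e : (μ : T) → Idx (sizes μ.1) ≃ Fin n := fun μ => Fintype.equivFinOfCardEq (card_idx μ.1)
  let R : (μ : T) → Matrix (Fin n) (Fin n) F := fun μ => (nil F (sizes μ.1)).submatrix (e μ).symm (e μ).symm
  let P0 : (μ : T) → Matrix (Fin n) (Idx (sizes μ.1)) F := fun μ =>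
    (1 : Matrix (Idx (sizes μ.1)) (Idx (sizes μ.1)) F).submatrix (e μ).symm id
  let Q0 : (μ : T) → Matrix (Idx (sizes μ.1)) (Fin n) F := fun μ =>
    (1 : Matrix (Idx (sizes μ.1)) (Idx (sizes μ.1)) F).submatrix id (e μ).symm
  have hR : ∀ μ, Shift (R μ) (P0 μ) (Q0 μ) := fun μ => by
    refine ⟨?_, ?_, ?_⟩
    · rw [show P0 μ * Q0 μ = ((1 : Matrix (Idx (sizes μ.1)) (Idx (sizes μ.1)) F) * 1).submatrix (e μ).symm (e μ).symm from
        Matrix.submatrix_mul_equiv _ _ _ (Equiv.refl _) _, one_mul, Matrix.submatrix_one_equiv]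
    · rw [show Q0 μ * P0 μ = ((1 : Matrix (Idx (sizes μ.1)) (Idx (sizes μ.1)) F) * 1).submatrix id id from
        Matrix.submatrix_mul_equiv _ _ _ (e μ).symm _, one_mul, Matrix.submatrix_id_id]
    · simp only [R, P0]
      rw [Matrix.mul_submatrix_one, Matrix.submatrix_submatrix]
      refine Eq.trans ?_ (Matrix.one_submatrix_mul (e μ).symm (Equiv.refl _) _).symm
      congr 1
      funext a
      simp
  have hRp : ∀ μ, (1 + R μ) ^ p = 1 := fun μ =>
    one_add_R (add_pow_p (Commute.one_left _)) ((hR μ).pow_eq_zero fun k => μ.2 _ (sizes_mem μ.1 k))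
  have hp1 := (Fact.out : p.Prime).one_lt
  let gl : T → GL (Fin n) F := fun μ => ⟨1 + R μ, (1 + R μ) ^ (p - 1),
    by rw [← pow_succ', show p - 1 + 1 = p by omega, hRp], by rw [← pow_succ, show p - 1 + 1 = p by omega, hRp]⟩
  let A := {C : ConjClasses (GL (Fin n) F) // ∃ g : GL (Fin n) F, ConjClasses.mk g = C ∧ g ^ p = 1}
  let Ψ : T → A := fun μ => ⟨ConjClasses.mk (gl μ), gl μ, rfl, Units.ext (by rw [Units.val_pow_eq_pow_val]; exact hRp μ)⟩
  have hinj : Function.Injective Ψ := by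
    intro μ ν h
    obtain ⟨c, hc⟩ := isConj_iff.1 (ConjClasses.mk_eq_mk_iff_isConj.1 (congrArg Subtype.val h))
    rw [mul_inv_eq_iff_eq_mul] at hc
    have hc' : (c : Matrix (Fin n) (Fin n) F) * (1 + R μ) = (1 + R ν) * c := congrArg Units.val hc
    rw [mul_add, add_mul, mul_one, one_mul, add_right_inj] at hc'
    exact Subtype.ext (eq_of_shift ((hR μ).conj c.mul_inv c.inv_mul hc') (hR ν))
  have hbij : Function.Bijective Ψ := by
    refine hinj.bijective_of_nat_card_le ?_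
    rw [card_pow_classes p, Cfsg.Agent.S2570.result (F := F) (p := p) n, Nat.card_eq_fintype_card,
      Fintype.card_subtype]
    have h1 : 1 ≤ (Finset.univ.filter fun μ : Nat.Partition n => ∀ a ∈ μ.parts, a ≤ p).card :=
      Finset.card_pos.2 ⟨⟨Multiset.replicate n 1, fun {i} hi => by rw [Multiset.eq_of_mem_replicate hi]; omega,
        by simp⟩, Finset.mem_filter.2 ⟨Finset.mem_univ _, fun a ha => by rw [Multiset.eq_of_mem_replicate ha]; omega⟩⟩
    omega
  let e0 : κ ≃ Fin n := Fintype.equivFinOfCardEq hn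
  let X' : Matrix (Fin n) (Fin n) F := Matrix.reindexAlgEquiv F F e0 X
  have hX' : (1 + X') ^ p = 1 := one_add_R (add_pow_p (Commute.one_left _)) (by
    show Matrix.reindexAlgEquiv F F e0 X ^ p = 0
    rw [← map_pow, hX, map_zero])
  let g : GL (Fin n) F := ⟨1 + X', (1 + X') ^ (p - 1),
    by rw [← pow_succ', show p - 1 + 1 = p by omega, hX'], by rw [← pow_succ, show p - 1 + 1 = p by omega, hX']⟩
  obtain ⟨μ, hμ⟩ := hbij.2 ⟨ConjClasses.mk g, g, rfl, Units.ext (by rw [Units.val_pow_eq_pow_val]; exact hX')⟩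
  obtain ⟨c, hc⟩ := isConj_iff.1 (ConjClasses.mk_eq_mk_iff_isConj.1 (congrArg Subtype.val hμ))
  rw [mul_inv_eq_iff_eq_mul] at hc
  have hc' : (c : Matrix (Fin n) (Fin n) F) * (1 + R μ) = (1 + X') * c := congrArg Units.val hc
  rw [mul_add, add_mul, mul_one, one_mul, add_right_inj] at hc'
  obtain ⟨hPQ, hQP, hXP⟩ := (hR μ).conj c.mul_inv c.inv_mul hc'
  refine ⟨μ.1, μ.2, ((c : Matrix (Fin n) (Fin n) F) * P0 μ).submatrix e0 id,
    (Q0 μ * ((c⁻¹ : GL (Fin n) F) : Matrix (Fin n) (Fin n) F)).submatrix id e0, ?_, ?_, ?_⟩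
  · exact (Matrix.submatrix_mul_equiv _ _ e0 (Equiv.refl _) e0).trans (by
      rw [hPQ, Matrix.submatrix_one_equiv])
  · rw [Matrix.submatrix_mul_equiv _ _ id e0 id, hQP, Matrix.submatrix_id_id]
  · have hXe : X = X'.submatrix e0 e0 := by ext i j; simp [X']
    rw [hXe, Matrix.submatrix_mul_equiv _ _ e0 e0 id, hXP]
    exact (Matrix.submatrix_mul_equiv _ _ e0 (Equiv.refl _) id).symm
where
  one_add_R {κ' : Type} [Fintype κ'] [DecidableEq κ'] {K : Type _} [Field K] {q : ℕ} {Y : Matrix κ' κ' K}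
      (h : (1 + Y) ^ q = 1 ^ q + Y ^ q) (h0 : Y ^ q = 0) : (1 + Y) ^ q = 1 := by
    rw [h, h0, one_pow, add_zero]

theorem exists_lead {F : Type*} [Field F] [Finite F] (h2 : (2 : F) ≠ 0) {κ : Type*} [Fintype κ] [DecidableEq κ] (j : ℕ)
    (hodd : Odd j → Even (Fintype.card κ)) (want : Bool) :
    ∃ G : Matrix κ κ F, Gᵀ = (-1 : F) ^ j • G ∧ G.det ≠ 0 ∧
      (Even j → Nonempty κ → (IsSquare G.det ↔ want = true)) := by
  classical
  rcases Nat.even_or_odd j with hj | hj
  · obtain ⟨α, hα⟩ := FiniteField.exists_nonsquare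
      (F := F) (fun hc => h2 (by haveI := (ringChar.eq_iff).mp hc; exact CharTwo.two_eq_zero))
    rcases isEmpty_or_nonempty κ with hκ | hκ
    · exact ⟨1, Subsingleton.elim _ _, by simp, fun _ h => absurd h (not_nonempty_iff.2 hκ)⟩
    · obtain ⟨k0⟩ := hκ
      let c : F := if want then 1 else α
      refine ⟨Matrix.diagonal (Function.update 1 k0 c), ?_, ?_, fun _ _ => ?_⟩
      · rw [Matrix.diagonal_transpose, hj.neg_one_pow, one_smul]
      · rw [Matrix.det_diagonal, Finset.prod_update_of_mem (Finset.mem_univ k0)]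
        simp only [Pi.one_apply, Finset.prod_const_one, mul_one, c]
        cases want
        · exact fun h => hα (by simp only [Bool.false_eq_true, if_false] at h; rw [h]; exact IsSquare.zero)
        · simp
      · rw [Matrix.det_diagonal, Finset.prod_update_of_mem (Finset.mem_univ k0)]
        simp only [Pi.one_apply, Finset.prod_const_one, mul_one, c]
        cases want <;> simp [hα]
  · obtain ⟨r, hr⟩ := hodd hj
    let e : κ ≃ Fin r ⊕ Fin r := Fintype.equivOfCardEq (by simp [hr])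
    refine ⟨(J (Fin r) F).submatrix e e, ?_, ?_, fun h => absurd h (Nat.not_even_iff_odd.2 hj)⟩
    · rw [Matrix.transpose_submatrix, J_transpose, hj.neg_one_pow, neg_one_smul]
      rfl
    · rw [Matrix.det_submatrix_equiv_self]
      exact (Matrix.isUnit_det_J (Fin r) F).ne_zero

/-- Number of conjugacy classes of elements of order p in Sp_2m(q), q a power of the odd prime p: the classes correspond to the signed partitions of 2m — partitions with all parts at most p in which every odd part has even multiplicity, each even part size that occurs carrying a sign — other than the all-ones partition; so the count is the sum over such partitions of 2^(number of distinct even parts), minus one. -/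
theorem result {F : Type*} [Field F] [Fintype F] {p : ℕ} [Fact p.Prime] [CharP F p] (hp : p ≠ 2) (m : ℕ) : Nat.card {C : ConjClasses ↥(Matrix.symplecticGroup (Fin m) F) // ∃ g : Matrix.symplecticGroup (Fin m) F, ConjClasses.mk g = C ∧ orderOf g = p} = (∑ μ ∈ Finset.univ.filter (fun μ : Nat.Partition (2 * m) => (∀ a ∈ μ.parts, a ≤ p) ∧ ∀ j : ℕ, Odd j → Even (μ.parts.count j)), 2 ^ ((μ.parts.toFinset.filter (fun j : ℕ => Even j)).card)) - 1 := by
  classical
  have h2 : (2 : F) ≠ 0 := two_ne_zero_of_char (p := p) hp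
  let S := Finset.univ.filter (fun μ : Nat.Partition (2 * m) => (∀ a ∈ μ.parts, a ≤ p) ∧ ∀ j : ℕ, Odd j → Even (μ.parts.count j))
  let E : Nat.Partition (2 * m) → Finset ℕ := fun μ => μ.parts.toFinset.filter (fun j : ℕ => Even j)
  let T := (μ : {μ // μ ∈ S}) × ({j // j ∈ E μ.1} → Bool)
  let A := {C : ConjClasses ↥(Matrix.symplecticGroup (Fin m) F) //
    ∃ g : Matrix.symplecticGroup (Fin m) F, ConjClasses.mk g = C ∧ g ^ p = 1}
  have hT : Nat.card T = ∑ μ ∈ S, 2 ^ (E μ).card := by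
    rw [Nat.card_sigma, ← Finset.sum_coe_sort S]
    refine Finset.sum_congr rfl fun μ _ => ?_
    rw [Nat.card_fun, Nat.card_eq_fintype_card, Nat.card_eq_fintype_card, Fintype.card_bool, Fintype.card_coe]
  have hodd : ∀ μ : {μ // μ ∈ S}, ∀ j, Odd j → Even (Fintype.card {k // sizes μ.1 k = j}) := fun μ j hj => by
    rw [Fintype.card_subtype, ← count_sizes]
    exact (Finset.mem_filter.1 μ.2).2.2 j hj
  have hex : ∀ x : T, ∃ (X : Matrix (Fin m ⊕ Fin m) (Fin m ⊕ Fin m) F) (P : Matrix (Fin m ⊕ Fin m) (Idx (sizes x.1.1)) F)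
      (Q : Matrix (Idx (sizes x.1.1)) (Fin m ⊕ Fin m) F), Shift X P Q ∧ SkewJ X ∧ X ^ p = 0 ∧
      ∀ j : {j // j ∈ E x.1.1}, (IsSquare (lead j.1 (Pᵀ * J (Fin m) F * P)).det ↔ x.2 j = true) := by
    intro x
    choose G hG1 hG2 hG3 using fun j => exists_lead (F := F) h2 (κ := {k // sizes x.1.1 k = j}) j (hodd x.1 j)
      (if h : j ∈ E x.1.1 then x.2 ⟨j, h⟩ else true)
    have hM := model_good (F := F) (sizes_pos x.1.1) G hG1 hG2
    obtain ⟨P, Q, hPQ, hQP, hP⟩ := alt_congr h2 hM.1 hM.2.1 (J_transpose (Fin m) F)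
      (Matrix.isUnit_det_J (Fin m) F).ne_zero (by rw [card_idx]; simp [two_mul])
    have hsh : Shift (P * nil F (sizes x.1.1) * Q) P Q := ⟨hPQ, hQP, by rw [Matrix.mul_assoc, hQP, Matrix.mul_one]⟩
    refine ⟨_, P, Q, hsh, (skewJ_iff_skewN hsh).2 (hP.symm ▸ hM.2.2),
      hsh.pow_eq_zero fun k => (Finset.mem_filter.1 x.1.2).2.1 _ (sizes_mem _ k), fun j => ?_⟩
    have hj := Finset.mem_filter.1 j.2
    obtain ⟨k, hk⟩ : ∃ k, sizes x.1.1 k = j.1 := by
      have := Multiset.mem_toFinset.1 hj.1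
      rw [← map_sizes x.1.1, Multiset.mem_map] at this
      obtain ⟨k, -, hk⟩ := this
      exact ⟨k, hk⟩
    rw [hP, model_lead (sizes_pos x.1.1), hG3 _ hj.2 ⟨⟨k, hk⟩⟩, dif_pos j.2]
  choose X P Q hsh hskew hXp hsgn using hex
  let u : T → Matrix.symplecticGroup (Fin m) F := fun x => ⟨cay p (X x), cay_mem hp (hskew x) (hXp x)⟩
  let Ψ : T → A := fun x => ⟨ConjClasses.mk (u x), u x, rfl, Subtype.ext (by
    rw [SubmonoidClass.coe_pow, OneMemClass.coe_one]; exact cay_pow hp (hXp x))⟩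
  have hcard : Nat.card A = Nat.card T := by
    refine (Nat.card_congr (Equiv.ofBijective Ψ ⟨?_, ?_⟩)).symm
    · intro x y h
      obtain ⟨c, hc⟩ := isConj_iff.1 (ConjClasses.mk_eq_mk_iff_isConj.1 (congrArg Subtype.val h))
      rw [mul_inv_eq_iff_eq_mul] at hc
      have hc' : SemiconjBy (c : Matrix (Fin m ⊕ Fin m) (Fin m ⊕ Fin m) F) (cay p (X x)) (cay p (X y)) :=
        congrArg Subtype.val hc
      have hX := cayInv_semiconj p hc'
      rw [cayInv_cay hp (hXp x), cayInv_cay hp (hXp y)] at hX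
      have hcJ : (c : Matrix (Fin m ⊕ Fin m) (Fin m ⊕ Fin m) F)ᵀ * J (Fin m) F * c = J (Fin m) F :=
        SymplecticGroup.mem_iff'.1 c.2
      have h1 : (c : Matrix (Fin m ⊕ Fin m) (Fin m ⊕ Fin m) F) * ((c⁻¹ : Matrix.symplecticGroup (Fin m) F) : Matrix (Fin m ⊕ Fin m) (Fin m ⊕ Fin m) F) = 1 :=
        congrArg Subtype.val (mul_inv_cancel c)
      have hs := (hsh x).conj h1 (congrArg Subtype.val (inv_mul_cancel c)) hX.eq
      obtain ⟨⟨μ, hμ⟩, s⟩ := x
      obtain ⟨⟨ν, hν⟩, s'⟩ := y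
      obtain rfl : μ = ν := eq_of_shift hs (hsh ⟨⟨ν, hν⟩, s'⟩)
      congr 1
      obtain ⟨x, hxd⟩ : ∃ x : T, x = ⟨⟨μ, hμ⟩, s⟩ := ⟨_, rfl⟩
      funext j
      have hd := sizes_pos μ
      set P1 := (c : Matrix (Fin m ⊕ Fin m) (Fin m ⊕ Fin m) F) * P ⟨⟨μ, hμ⟩, s⟩ with hP1
      set P2 := P ⟨⟨μ, hν⟩, s'⟩ with hP2
      set Q1 := Q ⟨⟨μ, hμ⟩, s⟩ * ((c⁻¹ : Matrix.symplecticGroup (Fin m) F) : Matrix (Fin m ⊕ Fin m) (Fin m ⊕ Fin m) F)
      obtain ⟨g, hgd⟩ : ∃ g, g = Q1 * P2 := ⟨_, rfl⟩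
      have hg : Comm g := by
        have h2' := (hsh ⟨⟨μ, hν⟩, s'⟩).2.2
        show nil F (sizes μ) * g = g * nil F (sizes μ)
        calc nil F (sizes μ) * g = Q1 * (P1 * nil F (sizes μ)) * (Q1 * P2) := by
              rw [hgd, ← Matrix.mul_assoc Q1 P1, hs.2.1, Matrix.one_mul]
          _ = Q1 * (X ⟨⟨μ, hν⟩, s'⟩ * ((P1 * Q1) * P2)) := by rw [← hs.2.2]; simp only [Matrix.mul_assoc]
          _ = g * nil F (sizes μ) := by rw [hs.1, Matrix.one_mul, h2', hgd]; simp only [Matrix.mul_assoc]; rfl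
      have hcong : P2ᵀ * J (Fin m) F * P2 =
          gᵀ * ((P ⟨⟨μ, hμ⟩, s⟩)ᵀ * J (Fin m) F * P ⟨⟨μ, hμ⟩, s⟩) * g := by
        calc P2ᵀ * J (Fin m) F * P2 = (P1 * Q1 * P2)ᵀ * J (Fin m) F * (P1 * Q1 * P2) := by
              rw [hs.1, Matrix.one_mul]
          _ = (Q1 * P2)ᵀ * (P1ᵀ * J (Fin m) F * P1) * (Q1 * P2) := by
              rw [Matrix.mul_assoc P1, Matrix.transpose_mul P1]; simp only [Matrix.mul_assoc]
          _ = _ := by
              rw [← hgd, hP1, Matrix.transpose_mul]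
              congr 2
              calc _ = (P ⟨⟨μ, hμ⟩, s⟩)ᵀ * ((c : Matrix (Fin m ⊕ Fin m) (Fin m ⊕ Fin m) F)ᵀ * J (Fin m) F * (c : Matrix (Fin m ⊕ Fin m) (Fin m ⊕ Fin m) F)) * P ⟨⟨μ, hμ⟩, s⟩ := by
                    simp only [Matrix.mul_assoc]
                _ = _ := by rw [hcJ]
      have hM := good_gram (hsh ⟨⟨μ, hμ⟩, s⟩) (hskew ⟨⟨μ, hμ⟩, s⟩)
      have hM' := good_gram (hsh ⟨⟨μ, hν⟩, s'⟩) (hskew ⟨⟨μ, hν⟩, s'⟩)
      have hdet := lead_det hd hM'.2.2 hM'.2.1 j.1
      have e := congrArg (fun M => (lead j.1 M).det) hcong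
      simp only [lead_congr hd hM.2.2 hg, Matrix.det_mul, Matrix.det_transpose, hP2] at e
      rw [e] at hdet
      have hH : (ld hd j.1 g).det ≠ 0 := right_ne_zero_of_mul hdet
      rw [Bool.eq_iff_iff, ← hsgn ⟨⟨μ, hμ⟩, s⟩ j, ← hsgn ⟨⟨μ, hν⟩, s'⟩ j, e]
      constructor
      · rintro ⟨r, hr⟩
        exact ⟨(ld hd j.1 g).det * r, by rw [hr]; ring⟩
      · rintro ⟨r, hr⟩
        exact ⟨r / (ld hd j.1 g).det, by field_simp; linear_combination hr⟩
    · rintro ⟨C, w, rfl, hw⟩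
      have hw' : (w : Matrix (Fin m ⊕ Fin m) (Fin m ⊕ Fin m) F) ^ p = 1 := by
        rw [← SubmonoidClass.coe_pow, hw, OneMemClass.coe_one]
      obtain ⟨Z, hZd⟩ : ∃ Z, Z = cayInv p (w : Matrix (Fin m ⊕ Fin m) (Fin m ⊕ Fin m) F) := ⟨_, rfl⟩
      have hZp : Z ^ p = 0 := hZd ▸ cayInv_pow hp hw'
      have hZs : SkewJ Z := hZd ▸ cayInv_skew hp hw' w.2
      obtain ⟨μ, hle, P', Q', hs⟩ := exists_shift (p := p) (n := 2 * m) (by simp [two_mul]) hZp
      have hd := sizes_pos μ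
      have hgood := good_gram hs hZs
      have hμ : μ ∈ S := by
        refine Finset.mem_filter.2 ⟨Finset.mem_univ _, hle, fun j hj => ?_⟩
        rw [count_sizes, ← Fintype.card_subtype]
        refine even_card_of_skew h2 (M := lead j (P'ᵀ * J (Fin m) F * P')) ?_ (lead_det hd hgood.2.2 hgood.2.1 j)
        rw [lead_symm hd hgood.2.2 hgood.1, hj.neg_one_pow, neg_one_smul]
      let x : T := ⟨⟨μ, hμ⟩, fun j => decide (IsSquare (lead j.1 (P'ᵀ * J (Fin m) F * P')).det)⟩
      have hgx := good_gram (hsh x) (hskew x)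
      obtain ⟨g, hg, hgd, hge⟩ := congr_of_lead_congr (p := p) hp hd hgood hgx fun j => by
        have hd1 := lead_det hd hgood.2.2 hgood.2.1 j
        have hd2 := lead_det hd hgx.2.2 hgx.2.1 j
        have hs1 := lead_symm hd hgood.2.2 hgood.1 j
        have hs2 := lead_symm hd hgx.2.2 hgx.1 j
        rcases Nat.even_or_odd j with hj | hj
        · rw [hj.neg_one_pow, one_smul] at hs1 hs2
          refine sym_congr h2 hs1 hs2 hd1 hd2 ?_
          by_cases hjE : j ∈ E μ
          · refine Iff.trans ?_ (hsgn x ⟨j, hjE⟩).symm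
            simp [x]
          · have hemp : IsEmpty {k // sizes μ k = j} := ⟨fun k => hjE (Finset.mem_filter.2
              ⟨Multiset.mem_toFinset.2 (k.2 ▸ sizes_mem μ k.1), hj⟩)⟩
            exact iff_of_true ⟨1, by rw [Matrix.det_isEmpty, mul_one]⟩ ⟨1, by rw [Matrix.det_isEmpty, mul_one]⟩
        · rw [hj.neg_one_pow, neg_one_smul] at hs1 hs2
          obtain ⟨H, -, -, -, hH⟩ := alt_congr h2 hs2 hd2 hs1 hd1 rfl
          exact ⟨H, hH⟩
      have hs' := hs.congr hg hgd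
      have hJg : (P' * g)ᵀ * J (Fin m) F * (P' * g) = (P x)ᵀ * J (Fin m) F * P x := by
        rw [← hge, Matrix.transpose_mul]; simp only [Matrix.mul_assoc]
      let h : Matrix (Fin m ⊕ Fin m) (Fin m ⊕ Fin m) F := (P' * g) * Q x
      have hmem : h ∈ Matrix.symplecticGroup (Fin m) F := by
        rw [SymplecticGroup.mem_iff']
        calc hᵀ * J (Fin m) F * h = (Q x)ᵀ * ((P' * g)ᵀ * J (Fin m) F * (P' * g)) * Q x := by
              simp only [h, Matrix.transpose_mul, Matrix.mul_assoc]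
          _ = (P x * Q x)ᵀ * J (Fin m) F * (P x * Q x) := by
              rw [hJg, Matrix.transpose_mul (P x)]; simp only [Matrix.mul_assoc]
          _ = J (Fin m) F := by rw [(hsh x).1, Matrix.transpose_one, Matrix.one_mul, Matrix.mul_one]
      have hconj : SemiconjBy h (X x) Z := by
        show h * X x = Z * h
        calc h * X x = (P' * g) * Q x * (X x * (P x * Q x)) := by rw [(hsh x).1, Matrix.mul_one]
          _ = (P' * g) * ((Q x * P x) * nil F (sizes μ)) * Q x := by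
              rw [← Matrix.mul_assoc (X x), (hsh x).2.2]; simp only [Matrix.mul_assoc]; rfl
          _ = Z * h := by rw [(hsh x).2.1, Matrix.one_mul, ← hs'.2.2]; simp only [h, Matrix.mul_assoc]
      refine ⟨x, Subtype.ext (ConjClasses.mk_eq_mk_iff_isConj.2 (isConj_iff.2 ⟨⟨h, hmem⟩, ?_⟩))⟩
      rw [mul_inv_eq_iff_eq_mul]
      apply Subtype.ext
      have := (cay_semiconj p hconj).eq
      rw [hZd, cay_cayInv hp hw'] at this
      exact this
  have hA : Nat.card A = _ := card_pow_classes (G := ↥(Matrix.symplecticGroup (Fin m) F)) p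
  rw [hcard, hT] at hA
  show _ = (∑ μ ∈ S, 2 ^ (E μ).card) - 1
  omega

end Cfsg.Agent.S2676
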