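import Cfsg.Statements.S2677
import Mathlib
import Cfsg.Agent.Lib.Classical.HermForm
import Cfsg.Agent.Lib.Classical.HermCard

set_option autoImplicit false
open Cfsg

namespace Cfsg.Agent.S2677

open Cfsg.Agent.Lib.Classical (conjHom conjHom_apply mem_GU_iff two_le_q card_norm_eq card_GU)

/-- Centraliser of a field automorphism of odd prime order in PGU_n(q): let q = q₀^r with r an odd prime, K the field with q² elements and σ a field automorphism of K of order r (fixed field of order q₀²). The elements g of GU_n(q) whose entrywise image under σ is a scalar multiple of g — those whose coset modulo the q + 1 unitary scalars is fixed by σ — number (q + 1)/(q₀ + 1) · |GU_n(q₀)|; equivalently the centraliser in PGU_n(q) of the induced automorphism has the order of PGU_n(q₀). -/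
theorem result {K : Type*} [Field K] [Fintype K] {q₀ q r n : ℕ} (hr : r.Prime) (hr2 : r ≠ 2) (hn : 1 ≤ n) (hq : q = q₀ ^ r) (hK : Fintype.card K = q ^ 2) (σ : K ≃+* K) (hσ : orderOf σ = r) : (Nat.card {g : ↥(Cfsg.GU n K q) // ∃ c : K, c ≠ 0 ∧ ((g : GL (Fin n) K) : Matrix (Fin n) (Fin n) K).map σ = c • ((g : GL (Fin n) K) : Matrix (Fin n) (Fin n) K)} : ℤ) = ((q + 1) / (q₀ + 1) : ℕ) * ((q₀ : ℤ) ^ (n * (n - 1) / 2) * ∏ i : Fin n, ((q₀ : ℤ) ^ ((i : ℕ) + 1) - (-1) ^ ((i : ℕ) + 1))) := by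
  classical
  let G := Subgroup.zpowers (σ : RingAut K)
  have : FaithfulSMul G K := ⟨fun {a b} h => Subtype.ext (RingEquiv.ext h)⟩
  have : Finite (RingAut K) := Finite.of_injective (fun e : RingAut K => (e : K → K)) DFunLike.coe_injective
  have : Fintype G := Fintype.ofFinite _
  let F₀ := FixedPoints.subfield G K
  have hmem₀ : ∀ x : K, x ∈ F₀ ↔ σ x = x := fun x => by
    constructor
    · exact fun h => h ⟨σ, Subgroup.mem_zpowers _⟩
    · intro h m
      obtain ⟨m, hm⟩ := m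
      obtain ⟨k, rfl⟩ := hm
      show ((σ : RingAut K) ^ k) x = x
      exact (MulAction.stabilizer (RingAut K) x).zpow_mem (show (σ : RingAut K) • x = x from h) k
  have hr0 := hr.pos
  obtain ⟨j, hj⟩ := hr.odd_of_ne_two hr2
  let _ : Fintype F₀ := Fintype.ofFinite _
  have hq0 : Fintype.card F₀ = q₀ ^ 2 := by
    have h := Module.natCard_eq_pow_finrank (K := F₀) (V := K)
    rw [FixedPoints.finrank_eq_card G K, Nat.card_eq_fintype_card, hK, ← Nat.card_eq_fintype_card (α := G)] at h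
    rw [Nat.card_zpowers, show orderOf (σ : RingAut K) = r from hσ, hq, Nat.card_eq_fintype_card, ← pow_mul, mul_comm r 2, pow_mul] at h
    exact (Nat.pow_left_injective hr.pos.ne' h).symm
  have hconj : ∀ x : F₀, ((x : K)) ^ q = ((x ^ q₀ : F₀) : K) := by
    intro x
    have e : x ^ q = x ^ q₀ := by
      rw [hq, hj, pow_succ, pow_mul q₀ 2 j, ← hq0, pow_mul x, FiniteField.pow_card_pow]
    rw [← e, SubmonoidClass.coe_pow]
  have hbase : ∀ h : Matrix (Fin n) (Fin n) F₀, (h.map F₀.subtype).transpose * (h.map F₀.subtype).map (conjHom hK) =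
      (h.transpose * h.map (conjHom hq0)).map F₀.subtype := by
    intro h
    rw [Matrix.map_mul, ← Matrix.transpose_map]
    congr 1
    ext k l
    simp only [Matrix.map_apply, conjHom_apply, Subfield.subtype_apply]
    exact hconj _
  obtain ⟨N1, hN1⟩ : ∃ N1, N1 = (powMonoidHom (q + 1) : Kˣ →* Kˣ).ker := ⟨_, rfl⟩
  have hN : ∀ c : N1, ((c : Kˣ) : K) ^ (q + 1) = 1 := fun c => by
    have h := MonoidHom.mem_ker.1 (hN1 ▸ c.2 : (c : Kˣ) ∈ (powMonoidHom (q + 1) : Kˣ →* Kˣ).ker)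
    exact (Units.val_pow_eq_pow_val _ _).symm.trans (congrArg Units.val h)
  let sc : Kˣ →* GL (Fin n) K := Units.map (Matrix.scalar (Fin n) : K →+* Matrix (Fin n) (Fin n) K).toMonoidHom
  let inc : GL (Fin n) F₀ →* GL (Fin n) K := Matrix.GeneralLinearGroup.map (F₀.subtype)
  have hsc : ∀ (a : Kˣ) (h : GL (Fin n) K), sc a * h = h * sc a := fun a h => Units.ext (by
    simp [sc, Matrix.scalar_apply, ← Matrix.smul_one_eq_diagonal])
  let φ : N1 × Cfsg.GU n F₀ q₀ →* GL (Fin n) K := MonoidHom.mk' (fun x => sc (x.1 : Kˣ) * inc (x.2 : GL (Fin n) F₀)) (fun x y => by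
    simp only [Prod.fst_mul, Prod.snd_mul, Subgroup.coe_mul, map_mul]
    rw [mul_assoc, mul_assoc]
    congr 1
    rw [← mul_assoc, ← mul_assoc, hsc])
  have hmat : ∀ x, (φ x : Matrix (Fin n) (Fin n) K) = ((x.1 : Kˣ) : K) • ((x.2 : GL (Fin n) F₀) : Matrix (Fin n) (Fin n) F₀).map F₀.subtype := by
    intro x
    ext k l
    simp [φ, sc, inc, Matrix.scalar_apply, Matrix.diagonal_mul]
  have hval : ∀ x k l, (φ x : Matrix (Fin n) (Fin n) K) k l = ((x.1 : Kˣ) : K) * (((x.2 : GL (Fin n) F₀) : Matrix (Fin n) (Fin n) F₀) k l : K) := by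
    intro x k l
    rw [hmat]
    rfl
  have hsm : ∀ (a : K) (M : Matrix (Fin n) (Fin n) K), (a • M).transpose * (a • M).map (conjHom hK) =
      a ^ (q + 1) • (M.transpose * M.map (conjHom hK)) := by
    intro a M
    rw [show (a • M).map (conjHom hK) = conjHom hK a • M.map (conjHom hK) from Matrix.ext fun k l => by simp,
      Matrix.transpose_smul, Matrix.smul_mul, Matrix.mul_smul, smul_smul, conjHom_apply hK a, ← pow_succ']
  have hS : {g : GL (Fin n) K | g ∈ Cfsg.GU n K q ∧ ∃ c : K, c ≠ 0 ∧ (g : Matrix (Fin n) (Fin n) K).map σ = c • (g : Matrix (Fin n) (Fin n) K)} =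
      (φ.range : Set (GL (Fin n) K)) := by
    ext g
    constructor
    · rintro ⟨hgU, c, hc, hg⟩
      obtain ⟨i, l₀, hij⟩ : ∃ i l₀, (g : Matrix (Fin n) (Fin n) K) i l₀ ≠ 0 := by
        by_contra! h
        have : Nonempty (Fin n) := ⟨⟨0, hn⟩⟩
        exact g.ne_zero (Matrix.ext h)
      obtain ⟨b, hb⟩ : ∃ b, b = (g : Matrix (Fin n) (Fin n) K) i l₀ := ⟨_, rfl⟩
      rw [← hb] at hij
      have e : ∀ k l, σ ((g : Matrix (Fin n) (Fin n) K) k l) = c * (g : Matrix (Fin n) (Fin n) K) k l := fun k l => by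
        simpa using congrFun (congrFun hg k) l
      have hfix : ∀ k l, b⁻¹ * (g : Matrix (Fin n) (Fin n) K) k l ∈ F₀ := fun k l => by
        rw [hmem₀, map_mul, map_inv₀, show σ b = c * b from hb ▸ e i l₀, e k l]
        field_simp
      obtain ⟨h₀, hh₀⟩ : ∃ h₀ : Matrix (Fin n) (Fin n) F₀, h₀ = Matrix.of fun k l => ⟨_, hfix k l⟩ := ⟨_, rfl⟩
      have hh : b • h₀.map F₀.subtype = (g : Matrix (Fin n) (Fin n) K) := by
        rw [hh₀]
        ext k l
        show b * (b⁻¹ * (g : Matrix (Fin n) (Fin n) K) k l) = _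
        rw [mul_inv_cancel_left₀ hij]
      have hU := (mem_GU_iff hK g).1 hgU
      rw [← hh, hsm, hbase] at hU
      obtain ⟨M, hM⟩ : ∃ M, M = h₀.transpose * h₀.map (conjHom hq0) := ⟨_, rfl⟩
      rw [← hM] at hU
      obtain ⟨t, ht⟩ : ∃ t, t = M ⟨0, hn⟩ ⟨0, hn⟩ := ⟨_, rfl⟩
      have hbt : b ^ (q + 1) * (t : K) = 1 := by
        have := congrFun (congrFun hU ⟨0, hn⟩) ⟨0, hn⟩
        rw [Matrix.one_apply_eq] at this
        rw [ht]
        exact this
      have hMt : M = t • 1 := Matrix.ext fun k l => Subtype.ext (mul_left_cancel₀ (pow_ne_zero (q + 1) hij) (by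
        refine (congrFun (congrFun hU k) l).trans ?_
        rw [Matrix.smul_apply, smul_eq_mul]
        rcases eq_or_ne k l with rfl | hkl
        · rw [Matrix.one_apply_eq, Matrix.one_apply_eq, mul_one, hbt]
        · rw [Matrix.one_apply_ne hkl, Matrix.one_apply_ne hkl, mul_zero, ZeroMemClass.coe_zero, mul_zero]))
      have ht0 : t ≠ 0 := fun h => by rw [h, ZeroMemClass.coe_zero, mul_zero] at hbt; exact zero_ne_one hbt
      have hbb : (b ^ (q + 1)) ^ q = b ^ (q + 1) := by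
        have hb2 : b ^ (q ^ 2) = b := by rw [← hK, FiniteField.pow_card]
        calc (b ^ (q + 1)) ^ q = b ^ (q ^ 2) * b ^ q := by rw [← pow_mul, ← pow_add]; congr 1; ring
          _ = b ^ (q + 1) := by rw [hb2, pow_succ']
      have htq : t ^ q₀ = t := by
        refine Subtype.ext ?_
        rw [← hconj, eq_inv_of_mul_eq_one_right hbt, inv_pow, hbb]
      obtain ⟨⟨s, hs⟩⟩ : Nonempty {x : F₀ // x ^ (q₀ + 1) = t} := by
        refine (Nat.card_pos_iff.1 ?_).1
        rw [card_norm_eq hq0 t htq, if_neg ht0]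
        omega
      have hs0 : s ≠ 0 := fun h => by rw [h, zero_pow (by omega)] at hs; exact ht0 hs.symm
      obtain ⟨h', hh'⟩ : ∃ h', h' = s⁻¹ • h₀ := ⟨_, rfl⟩
      have hh'U : h'.transpose * h'.map (conjHom hq0) = 1 := by
        rw [hh', show (s⁻¹ • h₀).map (conjHom hq0) = conjHom hq0 s⁻¹ • h₀.map (conjHom hq0) from Matrix.ext fun k l => by simp,
          Matrix.transpose_smul, Matrix.smul_mul, Matrix.mul_smul, smul_smul, conjHom_apply hq0 s⁻¹, ← pow_succ', ← hM, hMt,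
          smul_smul, inv_pow, hs, inv_mul_cancel₀ ht0, one_smul]
      have hdet : h'.det ≠ 0 := fun h => by
        have h2 := congrArg Matrix.det hh'U
        rw [Matrix.det_mul, Matrix.det_transpose, h, zero_mul, Matrix.det_one] at h2
        exact zero_ne_one h2
      obtain ⟨x2, hx2⟩ : ∃ x2 : Cfsg.GU n F₀ q₀, ((x2 : GL (Fin n) F₀) : Matrix (Fin n) (Fin n) F₀) = h' :=
        ⟨⟨Matrix.GeneralLinearGroup.mkOfDetNeZero h' hdet, (mem_GU_iff hq0 _).2 hh'U⟩, rfl⟩
      have ha0 : b * (s : K) ≠ 0 := mul_ne_zero hij fun h => hs0 (Subtype.ext h)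
      have ha : (Units.mk0 _ ha0) ∈ N1 := by
        rw [hN1, MonoidHom.mem_ker, powMonoidHom_apply]
        refine Units.ext ?_
        rw [Units.val_pow_eq_pow_val, Units.val_mk0, Units.val_one, mul_pow, pow_succ (s : K), hconj,
          show ((s ^ q₀ : F₀) : K) * (s : K) = ((s ^ (q₀ + 1) : F₀) : K) by rw [pow_succ, MulMemClass.coe_mul], hs, hbt]
      refine ⟨(⟨_, ha⟩, x2), Units.ext ?_⟩
      rw [hmat, hx2, ← hh, hh']
      ext k l
      show b * (s : K) * (((s⁻¹ • h₀) k l : F₀) : K) = b * ((h₀ k l : F₀) : K)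
      rw [Matrix.smul_apply, smul_eq_mul, MulMemClass.coe_mul, Subfield.coe_inv, mul_assoc,
        mul_inv_cancel_left₀ fun h => hs0 (Subtype.ext h)]
    · rintro ⟨x, rfl⟩
      refine ⟨(mem_GU_iff hK _).2 ?_, σ ((x.1 : Kˣ) : K) * ((x.1 : Kˣ) : K)⁻¹, mul_ne_zero (by simp) (by simp), Matrix.ext fun k l => ?_⟩
      · rw [hmat, hsm, hbase, (mem_GU_iff hq0 _).1 x.2.2, hN, one_smul, Matrix.map_one _ (map_zero _) (map_one _)]
      · simp only [Matrix.map_apply, Matrix.smul_apply, hval, smul_eq_mul, map_mul,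
          (hmem₀ _).mp (((x.2 : GL (Fin n) F₀) : Matrix (Fin n) (Fin n) F₀) k l).2]
        field_simp
  obtain ⟨N0, hN0⟩ : ∃ N0, N0 = (powMonoidHom (q₀ + 1) : F₀ˣ →* F₀ˣ).ker := ⟨_, rfl⟩
  have hc1 : Nat.card N1 = q + 1 := by
    rw [hN1, IsCyclic.card_powMonoidHom_ker, Nat.card_units, Nat.card_eq_fintype_card, hK]
    exact Nat.gcd_eq_right ⟨q - 1, by rw [← Nat.sq_sub_sq, one_pow]⟩
  have hker : Nat.card φ.ker = q₀ + 1 := by
    have e1 : ∀ x : φ.ker, ∀ k l, (((x : N1 × Cfsg.GU n F₀ q₀).1 : Kˣ) : K) *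
        ((((x : N1 × Cfsg.GU n F₀ q₀).2 : GL (Fin n) F₀) : Matrix (Fin n) (Fin n) F₀) k l : K) = (1 : Matrix (Fin n) (Fin n) K) k l := by
      intro x k l
      rw [← hval, MonoidHom.mem_ker.mp x.2, Units.val_one]
    have hc0 : Nat.card N0 = q₀ + 1 := by
      rw [hN0, IsCyclic.card_powMonoidHom_ker, Nat.card_units, Nat.card_eq_fintype_card, hq0]
      exact Nat.gcd_eq_right ⟨q₀ - 1, by rw [← Nat.sq_sub_sq, one_pow]⟩
    rw [← hc0]
    have hmem : ∀ x : φ.ker, ∃ u : N0, ((((u : F₀ˣ) : F₀)) : K) = (((x : N1 × Cfsg.GU n F₀ q₀).1 : Kˣ) : K) := by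
      intro x
      have e0 := e1 x ⟨0, hn⟩ ⟨0, hn⟩
      rw [Matrix.one_apply_eq] at e0
      have ha : (((x : N1 × Cfsg.GU n F₀ q₀).1 : Kˣ) : K) ∈ F₀ := by
        rw [eq_inv_of_mul_eq_one_left e0]
        exact inv_mem (((x : N1 × Cfsg.GU n F₀ q₀).2 : GL (Fin n) F₀).1 ⟨0, hn⟩ ⟨0, hn⟩).2
      refine ⟨⟨Units.mk0 ⟨_, ha⟩ (fun h => Units.ne_zero _ (congrArg Subtype.val h)), ?_⟩, rfl⟩
      rw [hN0, MonoidHom.mem_ker, powMonoidHom_apply]
      refine Units.ext (Subtype.ext ?_)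
      rw [Units.val_pow_eq_pow_val, Units.val_mk0, pow_succ, MulMemClass.coe_mul, ← hconj, ← pow_succ]
      exact hN _
    choose f hf using hmem
    refine Nat.card_eq_of_bijective f ⟨fun x y hxy => ?_, fun u => ?_⟩
    · have h1 : (((x : N1 × Cfsg.GU n F₀ q₀).1 : Kˣ) : K) = (((y : N1 × Cfsg.GU n F₀ q₀).1 : Kˣ) : K) := by rw [← hf, ← hf, hxy]
      refine Subtype.ext (Prod.ext (Subtype.ext (Units.ext h1)) (Subtype.ext (Units.ext (Matrix.ext fun k l => Subtype.ext ?_))))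
      refine mul_left_cancel₀ ((((x : N1 × Cfsg.GU n F₀ q₀).1 : Kˣ)).ne_zero) ?_
      rw [e1 x k l, h1, e1 y k l]
    · obtain ⟨a, hadef⟩ : ∃ a : Kˣ, (a : K) = (((u : F₀ˣ) : F₀) : K) :=
        ⟨Units.mk0 _ (fun h => (u : F₀ˣ).ne_zero (Subtype.ext h)), rfl⟩
      have hu0 : (((u : F₀ˣ) : F₀)) ^ (q₀ + 1) = 1 := by
        have h := MonoidHom.mem_ker.1 (hN0 ▸ u.2 : (u : F₀ˣ) ∈ (powMonoidHom (q₀ + 1) : F₀ˣ →* F₀ˣ).ker)
        exact (Units.val_pow_eq_pow_val _ _).symm.trans (congrArg Units.val h)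
      have ha : a ∈ N1 := by
        rw [hN1, MonoidHom.mem_ker, powMonoidHom_apply]
        refine Units.ext ?_
        rw [Units.val_pow_eq_pow_val, Units.val_one, hadef, pow_succ, hconj, ← MulMemClass.coe_mul, ← pow_succ, hu0, OneMemClass.coe_one]
      obtain ⟨S, hSd⟩ : ∃ S : Matrix (Fin n) (Fin n) F₀, S = Matrix.diagonal fun _ => (((u : F₀ˣ) : F₀))⁻¹ := ⟨_, rfl⟩
      have hSdet : S.det ≠ 0 := by rw [hSd, Matrix.det_diagonal]; simp
      obtain ⟨z, hz⟩ : ∃ z : Cfsg.GU n F₀ q₀, ((z : GL (Fin n) F₀) : Matrix (Fin n) (Fin n) F₀) = S :=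
        ⟨⟨Matrix.GeneralLinearGroup.mkOfDetNeZero S hSdet, (mem_GU_iff hq0 _).2 (by
          show S.transpose * S.map _ = 1
          rw [hSd]
          exact Cfsg.Agent.Lib.Classical.diagonal_preserves hq0 _ fun _ => by rw [inv_pow, hu0, inv_one])⟩, rfl⟩
      have hk : ((⟨a, ha⟩ : N1), z) ∈ φ.ker := by
        rw [MonoidHom.mem_ker]
        refine Units.ext (Matrix.ext fun k l => ?_)
        rw [hval, hz, hSd, Units.val_one]
        rcases eq_or_ne k l with rfl | hkl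
        · rw [Matrix.diagonal_apply_eq, Matrix.one_apply_eq, Subfield.coe_inv, hadef,
            mul_inv_cancel₀ fun h => (u : F₀ˣ).ne_zero (Subtype.ext h)]
        · rw [Matrix.diagonal_apply_ne _ hkl, Matrix.one_apply_ne hkl, ZeroMemClass.coe_zero, mul_zero]
      refine ⟨⟨_, hk⟩, Subtype.ext (Units.ext (Subtype.ext ?_))⟩
      rw [hf, hadef]
  have hmul := Subgroup.card_eq_card_quotient_mul_card_subgroup φ.ker
  rw [Nat.card_congr (QuotientGroup.quotientKerEquivRange φ).toEquiv, hker, Nat.card_prod, hc1, card_GU hq0] at hmul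
  let e2 : {g : ↥(Cfsg.GU n K q) // ∃ c : K, c ≠ 0 ∧ ((g : GL (Fin n) K) : Matrix (Fin n) (Fin n) K).map σ = c • ((g : GL (Fin n) K) : Matrix (Fin n) (Fin n) K)} ≃
      {g : GL (Fin n) K | g ∈ Cfsg.GU n K q ∧ ∃ c : K, c ≠ 0 ∧ (g : Matrix (Fin n) (Fin n) K).map σ = c • (g : Matrix (Fin n) (Fin n) K)} :=
    { toFun := fun g => ⟨g.1, g.1.2, g.2⟩, invFun := fun g => ⟨⟨g.1, g.2.1⟩, g.2.2⟩, left_inv := fun g => rfl, right_inv := fun g => rfl }
  rw [Nat.card_congr (e2.trans (Equiv.setCongr hS)), show Nat.card (φ.range : Set (GL (Fin n) K)) = Nat.card φ.range from rfl]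
  have hq2 := two_le_q hq0
  obtain ⟨w, hw⟩ : q₀ + 1 ∣ q + 1 := by
    rw [hq]
    simpa using (hr.odd_of_ne_two hr2).nat_add_dvd_pow_add_pow q₀ 1
  have hP : ((∏ i ∈ Finset.range n, (if Even i then q₀ ^ (i + 1) + 1 else q₀ ^ (i + 1) - 1) : ℕ) : ℤ) =
      ∏ i : Fin n, ((q₀ : ℤ) ^ ((i : ℕ) + 1) - (-1) ^ ((i : ℕ) + 1)) := by
    rw [Nat.cast_prod, Fin.prod_univ_eq_prod_range (fun i => (q₀ : ℤ) ^ (i + 1) - (-1) ^ (i + 1)) n]
    refine Finset.prod_congr rfl fun i _ => ?_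
    by_cases hi : Even i
    · rw [if_pos hi, (show Odd (i + 1) from hi.add_one).neg_one_pow]
      push_cast
      ring
    · rw [if_neg hi, (show Even (i + 1) from Nat.even_add_one.2 hi).neg_one_pow, Nat.cast_sub (Nat.one_le_pow _ _ (by omega))]
      push_cast
      ring
  rw [← hP, hw, Nat.mul_div_cancel_left _ (by omega)]
  rw [hw, mul_assoc, mul_comm (q₀ + 1)] at hmul
  rw [← Nat.eq_of_mul_eq_mul_right (show 0 < q₀ + 1 by omega) hmul]
  push_cast
  ring

end Cfsg.Agent.S2677
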