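import Cfsg.Statements.S2678
import Cfsg.Agent.Lib.Embed.Forms
import Cfsg.Agent.Lib.Geometry.SympBasic

set_option autoImplicit false
open Cfsg

namespace Cfsg.Agent.S2678

open Cfsg.Agent.Lib


/-- Field-extension embedding of symplectic groups: for a field K with q² elements and a field F with q elements there is an injective homomorphism Sp_2a(K) → Sp_4a(F). -/
theorem result {K F : Type*} [Field K] [Fintype K] [Field F] [Fintype F] {q : ℕ} (hK : Fintype.card K = q ^ 2) (hF : Fintype.card F = q) (a : ℕ) : ∃ φ : ↥(Matrix.symplecticGroup (Fin a) K) →* ↥(Matrix.symplecticGroup (Fin (2 * a)) F), Function.Injective φ := by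
  classical
  obtain ⟨D⟩ := Embed.nonempty_quadData hK hF
  let σ : Fin a ⊕ Fin a ≃ Fin (2 * a) := finSumFinEquiv.trans (finCongr (two_mul a).symm)
  obtain ⟨e, he, hes⟩ := Embed.exists_addEquiv D.j
    (fun (v : Fin (2 * a) ⊕ Fin (2 * a) → F) => Sum.elim
      (fun i : Fin a => D.lift' (v (Sum.inl (σ (Sum.inl i)))) (v (Sum.inl (σ (Sum.inr i)))))
      (fun i : Fin a => D.lift (v (Sum.inr (σ (Sum.inl i)))) (v (Sum.inr (σ (Sum.inr i))))))
    (fun x y => funext fun k => by rcases k with i | i <;> simp [D.lift_add, D.lift'_add])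
    (fun c x => funext fun k => by rcases k with i | i <;> simp [D.lift_smul, D.lift'_smul])
    (fun x y h => funext fun k => by
      rcases k with i | i
      · rcases hi : σ.symm i with j | j <;> rw [← σ.apply_symm_apply i, hi]
        · exact (D.lift'_injective (congrFun h (Sum.inl j))).1
        · exact (D.lift'_injective (congrFun h (Sum.inl j))).2
      · rcases hi : σ.symm i with j | j <;> rw [← σ.apply_symm_apply i, hi]
        · exact (D.coord_injective (congrFun h (Sum.inr j))).1
        · exact (D.coord_injective (congrFun h (Sum.inr j))).2)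
    (by simp only [Nat.card_eq_fintype_card, Fintype.card_fun, Fintype.card_sum, Fintype.card_fin, hK, hF]
        rw [← pow_mul]; ring_nf)
  let R := Embed.restrictMat D.j e hes
  have key : ∀ u v : Fin (2 * a) ⊕ Fin (2 * a) → F, sympForm a K (e u) (e v) - D.bar (sympForm a K (e u) (e v)) =
      D.j (sympForm (2 * a) F u v) * (D.α - D.bar D.α) := fun u v => by
    rw [Geometry.sympForm_eq_sum, Geometry.sympForm_eq_sum, ← Equiv.sum_comp σ, Fintype.sum_sum_type, ← Finset.sum_add_distrib,
      map_sum, map_sum, ← Finset.sum_sub_distrib, Finset.sum_mul]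
    refine Finset.sum_congr rfl fun i _ => ?_
    have e1 := D.pairing (u (Sum.inr (σ (Sum.inl i)))) (u (Sum.inr (σ (Sum.inr i)))) (v (Sum.inl (σ (Sum.inl i)))) (v (Sum.inl (σ (Sum.inr i))))
    have e2 := D.pairing (v (Sum.inr (σ (Sum.inl i)))) (v (Sum.inr (σ (Sum.inr i)))) (u (Sum.inl (σ (Sum.inl i)))) (u (Sum.inl (σ (Sum.inr i))))
    simp only [he, Sum.elim_inl, Sum.elim_inr, map_sub, map_add, map_mul] at e1 e2 ⊢
    linear_combination e1 - e2
  have hmem : ∀ g : Matrix.symplecticGroup (Fin a) K, R (g : Matrix (Fin a ⊕ Fin a) (Fin a ⊕ Fin a) K) ∈ Matrix.symplecticGroup (Fin (2 * a)) F := fun g => by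
    rw [Geometry.mem_symplecticGroup_iff_form]
    intro u v
    refine D.j.injective (mul_right_cancel₀ D.eps_ne_zero ?_)
    rw [← key, ← key, Embed.apply_restrictMat, Embed.apply_restrictMat, Geometry.mem_symplecticGroup_iff_form.mp g.2]
  exact ⟨MonoidHom.mk' (fun g => ⟨_, hmem g⟩) (fun a b => Subtype.ext (map_mul R _ _)), fun a b h =>
    Subtype.ext (Embed.restrictMat_injective D.j e hes (congrArg Subtype.val h))⟩

end Cfsg.Agent.S2678
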