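import Cfsg.Statements.S2679
import Cfsg.Agent.Lib.Embed.Forms

set_option autoImplicit false
open Cfsg

namespace Cfsg.Agent.S2679

open Cfsg.Agent.Lib

private theorem quadForm_extend {F K : Type*} [Field F] [Field K] (j : F →+* K) (α : K) (n : ℕ) (a c : F)
    (u w : (Fin n ⊕ Fin n) ⊕ Fin 2 → F) :
    quadFormMinus n K (j a) (j c) (fun k => j (u k) + α * j (w k)) =
      j (quadFormMinus n F a c u) + α ^ 2 * j (quadFormMinus n F a c w) +
        α * j (quadFormMinus n F a c (u + w) - quadFormMinus n F a c u - quadFormMinus n F a c w) := by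
  simp only [quadFormMinus, map_sub, map_add, map_mul, map_pow, map_sum, Pi.add_apply, Finset.mul_sum, mul_add, add_mul,
    mul_sub, Finset.sum_add_distrib, Finset.sum_sub_distrib]
  simp only [mul_left_comm _ α, mul_assoc, ← Finset.mul_sum, sq]
  ring


/-- An elliptic orthogonal group embeds in the hyperbolic orthogonal group of the same dimension over the quadratic extension: for a field F with q elements and a field K with q² elements there is an injective homomorphism from O⁻_2m(F) (isometries of Σ_(j<m−1) x_j y_j + z₁² + a z₁z₂ + c z₂², binary part anisotropic) to O⁺_2m(K) (isometries of Σ_(j<m) x_j y_j over K). -/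
theorem result {F K : Type*} [Field F] [Fintype F] [Field K] [Fintype K] {q : ℕ} (hF : Fintype.card F = q) (hK : Fintype.card K = q ^ 2) {m : ℕ} (hm : 1 ≤ m) (a c : F) (hac : ∀ z₁ z₂ : F, z₁ ^ 2 + a * z₁ * z₂ + c * z₂ ^ 2 = 0 → z₁ = 0 ∧ z₂ = 0) : ∃ φ : ↥(Cfsg.isometryGroup F (Cfsg.quadFormMinus (m - 1) F a c)) →* ↥(Cfsg.isometryGroup K (Cfsg.quadFormPlus m K)), Function.Injective φ := by
  classical
  obtain ⟨D⟩ := Embed.nonempty_quadData hK hF
  obtain ⟨θ, hsum, hprod, hθ⟩ := D.exists_root hK hF a c hac
  let τ : Fin (m - 1) ⊕ Unit ≃ Fin m := ((Equiv.refl _).sumCongr finOneEquiv.symm).trans (finSumFinEquiv.trans (finCongr (by omega)))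
  let ι := (Fin (m - 1) ⊕ Fin (m - 1)) ⊕ Fin 2
  obtain ⟨f, hf, hfs⟩ := Embed.exists_addEquiv (RingHom.id K)
    (fun (v : ι → K) (k : Fin m ⊕ Fin m) => Sum.elim
      (fun i : Fin m => Sum.elim (fun i => v (Sum.inl (Sum.inl i))) (fun _ : Unit => v (Sum.inr 0) - θ * v (Sum.inr 1)) (τ.symm i))
      (fun i : Fin m => Sum.elim (fun i => v (Sum.inl (Sum.inr i))) (fun _ : Unit => v (Sum.inr 0) - D.bar θ * v (Sum.inr 1)) (τ.symm i)) k)
    (fun x y => funext fun k => by rcases k with k | k <;> rcases hk : τ.symm k with j | j <;> simp [hk] <;> ring)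
    (fun r x => funext fun k => by rcases k with k | k <;> rcases hk : τ.symm k with j | j <;> simp [hk] <;> ring)
    (fun x y h => by
      have hz : x (Sum.inr 0) - θ * x (Sum.inr 1) = y (Sum.inr 0) - θ * y (Sum.inr 1) := by
        simpa using congrFun h (Sum.inl (τ (Sum.inr ())))
      have hz' : x (Sum.inr 0) - D.bar θ * x (Sum.inr 1) = y (Sum.inr 0) - D.bar θ * y (Sum.inr 1) := by
        simpa using congrFun h (Sum.inr (τ (Sum.inr ())))
      have h1 : x (Sum.inr 1) = y (Sum.inr 1) := mul_left_cancel₀ (sub_ne_zero.mpr hθ) (by linear_combination hz - hz')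
      have h0 : x (Sum.inr 0) = y (Sum.inr 0) := by linear_combination hz + θ * h1
      funext k
      rcases k with (i | i) | z
      · simpa using congrFun h (Sum.inl (τ (Sum.inl i)))
      · simpa using congrFun h (Sum.inr (τ (Sum.inl i)))
      · fin_cases z
        · exact h0
        · exact h1)
    (by simp only [Nat.card_eq_fintype_card, Fintype.card_fun, Fintype.card_sum, Fintype.card_fin, ι]
        congr 1; omega)
  have hsymm : ∀ (r : K) x, f.symm (r • x) = RingHom.id K r • f.symm x := fun r x =>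
    f.injective (by rw [hfs]; simp)
  let R : Matrix ι ι F →* Matrix (Fin m ⊕ Fin m) (Fin m ⊕ Fin m) K :=
    (Embed.restrictMat (RingHom.id K) f.symm hsymm).comp D.j.mapMatrix.toMonoidHom
  have hinj : Function.Injective R := fun g h e =>
    Matrix.map_injective D.j.injective (Embed.restrictMat_injective _ f.symm hsymm e)
  have key : ∀ v : ι → K, quadFormPlus m K (f v) = quadFormMinus (m - 1) K (D.j a) (D.j c) v := fun v => by
    simp only [quadFormPlus, quadFormMinus]
    rw [← Equiv.sum_comp τ, Fintype.sum_sum_type]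
    simp only [hf, Equiv.symm_apply_apply, Sum.elim_inl, Sum.elim_inr, Finset.univ_unique, Finset.sum_singleton]
    linear_combination (-(v (Sum.inr 0)) * v (Sum.inr 1)) * hsum + (v (Sum.inr 1)) ^ 2 * hprod
  have hmem : ∀ g : isometryGroup F (quadFormMinus (m - 1) F a c),
      Units.map R (g : GL ι F) ∈ isometryGroup K (quadFormPlus m K) := fun g u _ => by
    show quadFormPlus m K ((R ((g : GL ι F) : Matrix ι ι F)).mulVec u) = quadFormPlus m K u
    obtain ⟨v, rfl⟩ : ∃ v, f v = u := f.surjective u
    have e := Embed.apply_restrictMat (RingHom.id K) f.symm hsymm ((((g : GL ι F) : Matrix ι ι F)).map D.j) (f v)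
    rw [f.symm_apply_apply] at e
    rw [← f.apply_symm_apply ((R _).mulVec (f v)), key, key]
    show quadFormMinus (m - 1) K (D.j a) (D.j c) (f.symm ((Embed.restrictMat (RingHom.id K) f.symm hsymm (((g : GL ι F) : Matrix ι ι F).map D.j)).mulVec (f v))) = _
    rw [e]
    have hdec : ∀ z : K, ∃ p : F × F, D.j p.1 + D.α * D.j p.2 = z := by
      refine ((Fintype.bijective_iff_injective_and_card _).mpr ⟨fun p p' h => ?_, ?_⟩).surjective
      · obtain ⟨h1, h2⟩ := D.coord_injective (show D.j p.1 + D.j p.2 * D.α = D.j p'.1 + D.j p'.2 * D.α by linear_combination h)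
        exact Prod.ext h1 h2
      · rw [Fintype.card_prod, hK, hF, sq]
    choose p hp using fun k => hdec (v k)
    have hv : v = fun k => D.j (p k).1 + D.α * D.j (p k).2 := funext fun k => (hp k).symm
    set u₀ : ι → F := fun k => (p k).1
    set w₀ : ι → F := fun k => (p k).2
    have hg : (((g : GL ι F) : Matrix ι ι F).map D.j).mulVec v =
        fun k => D.j ((((g : GL ι F) : Matrix ι ι F)).mulVec u₀ k) + D.α * D.j ((((g : GL ι F) : Matrix ι ι F)).mulVec w₀ k) := by
      funext k
      rw [hv]
      simp only [Matrix.mulVec, dotProduct, Matrix.map_apply, map_sum, map_mul, mul_add, Finset.sum_add_distrib, Finset.mul_sum]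
      exact congrArg₂ (· + ·) rfl (Finset.sum_congr rfl fun i _ => by ring)
    have hQ : ∀ x, quadFormMinus (m - 1) F a c ((((g : GL ι F) : Matrix ι ι F)).mulVec x) = quadFormMinus (m - 1) F a c x :=
      fun x => g.2 x x
    rw [hg, hv, quadForm_extend, quadForm_extend, ← Matrix.mulVec_add, hQ, hQ, hQ]
  exact ⟨((Units.map R).comp (isometryGroup F (quadFormMinus (m - 1) F a c)).subtype).codRestrict _ hmem, fun g h e =>
    Subtype.ext (Units.map_injective hinj (congrArg Subtype.val e))⟩

end Cfsg.Agent.S2679
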