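import Cfsg.Statements.S2680
import Cfsg.Agent.Lib.Classical.CharTwoInvol.SpCentral

set_option autoImplicit false
open Cfsg

namespace Cfsg.Agent.S2680
open Cfsg.Agent.Lib.Classical.CharTwoInvol
open Cfsg.Agent.Lib.Geometry (sympBilin sympBilin_isAlt sympBilin_nondegenerate)


/-- Centraliser order of an involution t of Sp_2m(q), q even, with s = rank(t − 1) odd (type b_s): |C(t)| = q^(2ms − (3s² − s)/2) · |Sp_(s−1)(q)| · |Sp_(2m−2s)(q)|, where |Sp_2k(q)| = q^(k²) Π_(i=1)^k (q^(2i) − 1). -/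
theorem result {F : Type*} [Field F] [Fintype F] [CharP F 2] {q : ℕ} (hF : Fintype.card F = q) {m s : ℕ} (t : Matrix.symplecticGroup (Fin m) F) (ht : t ^ 2 = 1) (hs : ((t : Matrix (Fin m ⊕ Fin m) (Fin m ⊕ Fin m) F) - 1).rank = s) (hodd : Odd s) : Nat.card ↥(Subgroup.centralizer ({t} : Set ↥(Matrix.symplecticGroup (Fin m) F))) = q ^ (2 * m * s - (3 * s ^ 2 - s) / 2) * ((q : ℕ) ^ (((s - 1) / 2) ^ 2) * ∏ i : Fin ((s - 1) / 2), (q ^ (2 * ((i : ℕ) + 1)) - 1)) * ((q : ℕ) ^ ((m - s) ^ 2) * ∏ i : Fin (m - s), (q ^ (2 * ((i : ℕ) + 1)) - 1)) := by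
  subst hF
  have ht' : t * t = 1 := by rw [← sq]; exact ht
  have hs' : Module.finrank F (LinearMap.range (diffMap (spLin m F) t)) = s := (rank_eq_diffMap t).trans hs
  have hN := diffMap_isInvolDiff (ρ := spLin m F) spLin_isometry ht'
  have hle : s ≤ m := by
    have := rank_le (sympBilin_nondegenerate F m) hN
    rw [hs', finrank_std] at this
    omega
  obtain ⟨r, rfl⟩ : ∃ r, m = s + r := ⟨m - s, by omega⟩
  have hna : ¬ IsAltType (sympBilin (s + r) F) (diffMap (spLin (s + r) F) t) := fun h => by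
    obtain ⟨j, hj⟩ := even_of_alt sympBilin_isAlt (sympBilin_nondegenerate F _) hN h hs'
    exact Nat.not_even_iff_odd.mpr hodd ⟨j, hj⟩
  obtain ⟨k, hk⟩ := hodd
  rw [card_centralizer_not_alt rfl t ht' hs' hna, show onCount (Fintype.card F) s = spOrd (Fintype.card F) k from
    hk ▸ onCount_odd _ k, show (s - 1) / 2 = k by omega, show s + r - s = r by omega]
  have he : 2 * (s + r) * s - (3 * s ^ 2 - s) / 2 = 2 * r * s + tri s := by
    obtain ⟨h1, h2⟩ := half_quad s
    have h3 := two_tri s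
    rw [show 2 * (s + r) * s = 2 * (s * s) + 2 * r * s by ring]
    omega
  rw [he, spOrd, spOrd]
  ring

end Cfsg.Agent.S2680
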