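import Cfsg.Statements.S2681
import Cfsg.Agent.Lib.Classical.CharTwoInvol.SpCentral

set_option autoImplicit false
open Cfsg

namespace Cfsg.Agent.S2681
open Cfsg.Agent.Lib.Classical.CharTwoInvol
open Cfsg.Agent.Lib.Geometry (sympBilin sympBilin_isAlt sympBilin_nondegenerate)


/-- Centraliser order of an involution t of Sp_2m(q), q even, with s = rank(t − 1) even and f(v, tv) = 0 for every v, f the symplectic form (type a_s): |C(t)| = q^(2ms − (3s² − s)/2) · |Sp_s(q)| · |Sp_(2m−2s)(q)|. -/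
theorem result {F : Type*} [Field F] [Fintype F] [CharP F 2] {q : ℕ} (hF : Fintype.card F = q) {m s : ℕ} (t : Matrix.symplecticGroup (Fin m) F) (ht : t ^ 2 = 1) (ht1 : t ≠ 1) (hs : ((t : Matrix (Fin m ⊕ Fin m) (Fin m ⊕ Fin m) F) - 1).rank = s) (heven : Even s) (halt : ∀ v : Fin m ⊕ Fin m → F, Cfsg.sympForm m F v ((t : Matrix (Fin m ⊕ Fin m) (Fin m ⊕ Fin m) F).mulVec v) = 0) : Nat.card ↥(Subgroup.centralizer ({t} : Set ↥(Matrix.symplecticGroup (Fin m) F))) = q ^ (2 * m * s - (3 * s ^ 2 - s) / 2) * ((q : ℕ) ^ ((s / 2) ^ 2) * ∏ i : Fin (s / 2), (q ^ (2 * ((i : ℕ) + 1)) - 1)) * ((q : ℕ) ^ ((m - s) ^ 2) * ∏ i : Fin (m - s), (q ^ (2 * ((i : ℕ) + 1)) - 1)) := by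
  subst hF
  have ht' : t * t = 1 := by rw [← sq]; exact ht
  have hs' : Module.finrank F (LinearMap.range (diffMap (spLin m F) t)) = s := (rank_eq_diffMap t).trans hs
  have hN := diffMap_isInvolDiff (ρ := spLin m F) spLin_isometry ht'
  have hle : s ≤ m := by
    have := rank_le (sympBilin_nondegenerate F m) hN
    rw [hs', finrank_std] at this
    omega
  obtain ⟨r, rfl⟩ : ∃ r, m = s + r := ⟨m - s, by omega⟩
  obtain ⟨k, rfl⟩ := heven
  rw [card_centralizer_alt rfl t ht' hs' ((altType_iff t).mpr halt), show (k + k) / 2 = k by omega,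
    show k + k + r - (k + k) = r by omega]
  have he : 2 * (k + k + r) * (k + k) - (3 * (k + k) ^ 2 - (k + k)) / 2 = 2 * r * (k + k) + tri (k + k) := by
    obtain ⟨h1, h2⟩ := half_quad (k + k)
    have h3 := two_tri (k + k)
    rw [show 2 * (k + k + r) * (k + k) = 2 * ((k + k) * (k + k)) + 2 * r * (k + k) by ring]
    omega
  rw [he, spOrd, spOrd]
  ring

end Cfsg.Agent.S2681
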