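import Cfsg.Statements.S2682
import Cfsg.Agent.Lib.Classical.CharTwoInvol.SpCentral

set_option autoImplicit false
open Cfsg

namespace Cfsg.Agent.S2682
open Cfsg.Agent.Lib.Classical.CharTwoInvol
open Cfsg.Agent.Lib.Geometry (sympBilin sympBilin_isAlt sympBilin_nondegenerate)


/-- Centraliser order of an involution t of Sp_2m(q), q even, with s = rank(t − 1) even and f(v, tv) ≠ 0 for some v, f the symplectic form (type c_s): |C(t)| = q^(2ms − (3s² − 3s)/2 − 1) · |Sp_(s−2)(q)| · |Sp_(2m−2s)(q)|. -/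
theorem result {F : Type*} [Field F] [Fintype F] [CharP F 2] {q : ℕ} (hF : Fintype.card F = q) {m s : ℕ} (t : Matrix.symplecticGroup (Fin m) F) (ht : t ^ 2 = 1) (hs : ((t : Matrix (Fin m ⊕ Fin m) (Fin m ⊕ Fin m) F) - 1).rank = s) (heven : Even s) (hna : ∃ v : Fin m ⊕ Fin m → F, Cfsg.sympForm m F v ((t : Matrix (Fin m ⊕ Fin m) (Fin m ⊕ Fin m) F).mulVec v) ≠ 0) : Nat.card ↥(Subgroup.centralizer ({t} : Set ↥(Matrix.symplecticGroup (Fin m) F))) = q ^ (2 * m * s - (3 * s ^ 2 - 3 * s) / 2 - 1) * ((q : ℕ) ^ (((s - 2) / 2) ^ 2) * ∏ i : Fin ((s - 2) / 2), (q ^ (2 * ((i : ℕ) + 1)) - 1)) * ((q : ℕ) ^ ((m - s) ^ 2) * ∏ i : Fin (m - s), (q ^ (2 * ((i : ℕ) + 1)) - 1)) := by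
  subst hF
  have ht' : t * t = 1 := by rw [← sq]; exact ht
  have hs' : Module.finrank F (LinearMap.range (diffMap (spLin m F) t)) = s := (rank_eq_diffMap t).trans hs
  have hN := diffMap_isInvolDiff (ρ := spLin m F) spLin_isometry ht'
  have hle : s ≤ m := by
    have := rank_le (sympBilin_nondegenerate F m) hN
    rw [hs', finrank_std] at this
    omega
  obtain ⟨r, rfl⟩ : ∃ r, m = s + r := ⟨m - s, by omega⟩
  have hna' : ¬ IsAltType (sympBilin (s + r) F) (diffMap (spLin (s + r) F) t) := fun h => by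
    obtain ⟨v, hv⟩ := hna
    exact hv ((altType_iff t).mp h v)
  have hs0 : s ≠ 0 := fun h0 => by
    have hz : diffMap (spLin (s + r) F) t = 0 :=
      LinearMap.range_eq_bot.mp (Submodule.finrank_eq_zero.mp (hs'.trans h0))
    exact hna' fun v => by rw [hz]; simp
  obtain ⟨k, hk⟩ : ∃ k, s = 2 * k + 2 := by
    obtain ⟨j, hj⟩ := heven
    exact ⟨j - 1, by omega⟩
  rw [card_centralizer_not_alt rfl t ht' hs' hna',
    show onCount (Fintype.card F) s = Fintype.card F ^ (2 * k + 1) * spOrd (Fintype.card F) k from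
      hk ▸ onCount_even _ k, show (s - 2) / 2 = k by omega, show s + r - s = r by omega]
  have he : 2 * (s + r) * s - (3 * s ^ 2 - 3 * s) / 2 - 1 = 2 * r * s + tri s + (2 * k + 1) := by
    have h3 := two_tri s
    have h4 : s ≤ s * s := Nat.le_mul_self s
    rw [show 2 * (s + r) * s = 2 * (s * s) + 2 * r * s by ring, show 3 * s ^ 2 = 3 * (s * s) by ring]
    omega
  rw [he, pow_add _ (2 * r * s + tri s), spOrd, spOrd]
  ring

end Cfsg.Agent.S2682
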