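import Cfsg.Statements.S2683
import Cfsg.Agent.Lib.Classical.CharTwoInvol.OmegaCent

set_option autoImplicit false
open Cfsg

namespace Cfsg.Agent.S2683
open Cfsg.Agent.Lib.Classical.CharTwoInvol
open Cfsg.Agent.Lib.Classical.AutPOmega (plusR coe_plusR)
open Cfsg.Agent.Lib.Geometry (sympBilin sympBilin_isAlt sympBilin_nondegenerate)
open QuadraticMap (polarBilin)


/-- For the hyperbolic form Σ x_j y_j on F^(2m) over a finite field with q elements, q even (excluding m = 2 over the field of two elements), and an involution x of the orthogonal group with s = rank(x − 1) odd (type b_s; such x lie outside Ω): the elements of Ω (the commutator subgroup of the orthogonal group) commuting with x number q^(2m(s−1) − (3s² − 3s)/2) · |Sp_(s−1)(q)| · |Sp_(2m−2s)(q)|, where |Sp_2k(q)| = q^(k²) Π_(i=1)^k (q^(2i) − 1). -/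
theorem result {F : Type*} [Field F] [Fintype F] [CharP F 2] {q : ℕ} (hF : Fintype.card F = q) {m s : ℕ} (h : Fintype.card F ≠ 2 ∨ m ≠ 2) (x : ↥(Cfsg.isometryGroup F (Cfsg.quadFormPlus m F))) (hx : x ^ 2 = 1) (hs : (((x : Matrix.GeneralLinearGroup (Fin m ⊕ Fin m) F) : Matrix (Fin m ⊕ Fin m) (Fin m ⊕ Fin m) F) - 1).rank = s) (hodd : Odd s) : Nat.card {g : ↥(Cfsg.Omega F (Cfsg.quadFormPlus m F)) // (g : ↥(Cfsg.isometryGroup F (Cfsg.quadFormPlus m F))) * x = x * (g : ↥(Cfsg.isometryGroup F (Cfsg.quadFormPlus m F)))} = q ^ (2 * m * (s - 1) - (3 * s ^ 2 - 3 * s) / 2) * ((q : ℕ) ^ (((s - 1) / 2) ^ 2) * ∏ i : Fin ((s - 1) / 2), (q ^ (2 * ((i : ℕ) + 1)) - 1)) * ((q : ℕ) ^ ((m - s) ^ 2) * ∏ i : Fin (m - s), (q ^ (2 * ((i : ℕ) + 1)) - 1)) := by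
  subst hF
  revert x
  rw [coe_plusR]
  intro x hx hs 
  have hx' : x * x = 1 := by rw [← sq]; exact hx
  have hs' : Module.finrank F (LinearMap.range (diffMap (orthLin (plusR m F)) x)) = s := (rank_eq_orth _ x).trans hs
  have hN := diffMap_isInvolDiff (orthLin_polar (plusR m F)) hx'
  have hle : s ≤ m := by
    have := rank_le (plus_nd m) hN
    rw [hs', finrank_std] at this
    omega
  obtain ⟨t, ht, hd, htc⟩ := exists_sp_of_orth x hx'
  have hts : Module.finrank F (LinearMap.range (diffMap (spLin m F) t)) = s := by rw [hd]; exact hs'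
  obtain ⟨r, rfl⟩ : ∃ r, m = s + r := ⟨m - s, by omega⟩
  have hna : ¬ IsAltType (polarBilin (plusR (s + r) F)) (diffMap (orthLin (plusR (s + r) F)) x) := fun h' => by
    obtain ⟨j, hj⟩ := even_of_alt (polar_isAlt _) (plus_nd _) hN h' hs'
    exact Nat.not_even_iff_odd.mpr hodd ⟨j, hj⟩
  have hna' : ¬ IsAltType (sympBilin (s + r) F) (diffMap (spLin (s + r) F) t) := by
    rw [hd, ← polar_plusR]; exact hna
  obtain ⟨k, hk⟩ := hodd
  refine Nat.eq_of_mul_eq_mul_right (pow_pos (Fintype.card_pos (α := F)) (2 * (s + r) - s))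
    ((card_omega_cent_not_alt h x hx' hs' hna t htc).trans ?_)
  rw [card_centralizer_not_alt rfl t ht hts hna',
    show onCount (Fintype.card F) s = spOrd (Fintype.card F) k from hk ▸ onCount_odd _ k,
    show (s - 1) / 2 = k by omega, show s + r - s = r by omega]
  have he : 2 * r * s + tri s = 2 * (s + r) * (s - 1) - (3 * s ^ 2 - 3 * s) / 2 + (2 * (s + r) - s) := by
    have h3 := two_tri s
    have h4 : s ≤ s * s := Nat.le_mul_self s
    have h5 : 2 * r ≤ 2 * r * s := Nat.le_mul_of_pos_right _ (by omega)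
    rw [show 3 * s ^ 2 = 3 * (s * s) by ring, Nat.mul_sub, show 2 * (s + r) * s = 2 * (s * s) + 2 * r * s by ring,
      mul_one]
    omega
  rw [he, pow_add, spOrd, spOrd]
  ring

end Cfsg.Agent.S2683
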