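import Cfsg.Statements.S2684
import Cfsg.Agent.Lib.Classical.CharTwoInvol.OmegaCent

set_option autoImplicit false
open Cfsg

namespace Cfsg.Agent.S2684
open Cfsg.Agent.Lib.Classical.CharTwoInvol
open Cfsg.Agent.Lib.Classical.AutPOmega (plusR coe_plusR)
open Cfsg.Agent.Lib.Geometry (sympBilin sympBilin_isAlt sympBilin_nondegenerate)
open QuadraticMap (polarBilin)


/-- For the hyperbolic form Q = Σ x_j y_j on F^(2m) over a finite field with q elements, q even (excluding m = 2 over the field of two elements), and an involution x ≠ 1 of the orthogonal group with s = rank(x − 1) even and Q vanishing on the image of x − 1 (equivalently f(v, xv) = 0 for all v, where f(u, w) = Q(u + w) − Q(u) − Q(w) is the bilinear form of Q; type a_s, which lies in Ω): its centraliser in Ω (the commutator subgroup of the orthogonal group) has order q^(2ms − (3s² + s)/2) · |Sp_s(q)| · |Ω⁺_(2m−2s)(q)|, where |Ω⁺_2k(q)| = q^(k(k−1)) (q^k − 1) Π_(i=1)^(k−1) (q^(2i) − 1) for k ≥ 1 and the last factor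 is 1 when s = m. -/
theorem result {F : Type*} [Field F] [Fintype F] [CharP F 2] {q : ℕ} (hF : Fintype.card F = q) {m s : ℕ} (h : Fintype.card F ≠ 2 ∨ m ≠ 2) (x : ↥(Cfsg.isometryGroup F (Cfsg.quadFormPlus m F))) (hx : x ^ 2 = 1) (hx1 : x ≠ 1) (hs : (((x : Matrix.GeneralLinearGroup (Fin m ⊕ Fin m) F) : Matrix (Fin m ⊕ Fin m) (Fin m ⊕ Fin m) F) - 1).rank = s) (heven : Even s) (halt : ∀ v : Fin m ⊕ Fin m → F, Cfsg.quadFormPlus m F ((((x : Matrix.GeneralLinearGroup (Fin m ⊕ Fin m) F) : Matrix (Fin m ⊕ Fin m) (Fin m ⊕ Fin m) F) - 1).mulVec v) = 0) : Nat.card {g : ↥(Cfsg.Omega F (Cfsg.quadFormPlus m F)) // (g : ↥(Cfsg.isometryGroup F (Cfsg.quadFormPlus m F))) * x = x * (g : ↥(Cfsg.isometryGroup F (Cfsg.quadFormPlus m F)))} = q ^ (2 * m * s - (3 * s ^ 2 + s) / 2) * ((q : ℕ) ^ ((s / 2) ^ 2) * ∏ i : Fin (s / 2), (q ^ (2 * ((i : ℕ) + 1)) - 1)) * (if s = m then 1 else q ^ ((m - s) * (m - s - 1)) * (q ^ (m - s) - 1) * ∏ i : Fin (m - s - 1), (q ^ (2 * ((i : ℕ) + 1)) - 1)) := by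
  subst hF
  revert x
  rw [coe_plusR]
  intro x hx _ hs halt
  have hx' : x * x = 1 := by rw [← sq]; exact hx
  have hs' : Module.finrank F (LinearMap.range (diffMap (orthLin (plusR m F)) x)) = s := (rank_eq_orth _ x).trans hs
  have hN := diffMap_isInvolDiff (orthLin_polar (plusR m F)) hx'
  have hle : s ≤ m := by
    have := rank_le (plus_nd m) hN
    rw [hs', finrank_std] at this
    omega
  obtain ⟨t, ht, hd, htc⟩ := exists_sp_of_orth x hx'
  have hts : Module.finrank F (LinearMap.range (diffMap (spLin m F) t)) = s := by rw [hd]; exact hs'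
  obtain ⟨r, rfl⟩ : ∃ r, m = s + r := ⟨m - s, by omega⟩
  have halt₀ := (altType_orth_iff x).mpr halt
  have halt' : IsAltType (sympBilin (s + r) F) (diffMap (spLin (s + r) F) t) := by
    rw [hd, ← polar_plusR]; exact halt₀
  obtain ⟨k, rfl⟩ := heven
  have key := card_omega_cent_alt h x hx' hs' halt₀ t htc
  rw [card_centralizer_alt rfl t ht hts halt'] at key
  rw [show (k + k) / 2 = k by omega, show k + k + r - (k + k) = r by omega]
  have he : 2 * r * (k + k) + tri (k + k) =
      2 * (k + k + r) * (k + k) - (3 * (k + k) ^ 2 + (k + k)) / 2 + (k + k) := by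
    have h3 := two_tri (k + k)
    have h4 : k + k ≤ (k + k) * (k + k) := Nat.le_mul_self _
    rw [show 3 * (k + k) ^ 2 = 3 * ((k + k) * (k + k)) by ring,
      show 2 * (k + k + r) * (k + k) = 2 * ((k + k) * (k + k)) + 2 * r * (k + k) by ring]
    omega
  have he2 := congrArg (Fintype.card F ^ ·) he
  simp only [pow_add _ _ (k + k)] at he2
  rw [he2] at key
  rcases Nat.eq_zero_or_pos r with hr0 | hr0
  · subst hr0
    rw [if_pos (by omega)] at key ⊢
    refine Nat.eq_of_mul_eq_mul_right (pow_pos (Fintype.card_pos (α := F)) (k + k + 0)) (key.trans ?_)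
    rw [spOrd, spOrd]
    simp only [Fin.prod_univ_zero, Nat.add_zero]
    ring
  · obtain ⟨p, rfl⟩ : ∃ p, r = p + 1 := ⟨r - 1, by omega⟩
    rw [if_neg (by omega)] at key ⊢
    have hsum : Fintype.card F ^ (2 * (k + k + (p + 1)) - (k + k)) + Fintype.card F ^ (k + k + (p + 1)) =
        Fintype.card F ^ (k + k) * Fintype.card F ^ (p + 1) * (Fintype.card F ^ (p + 1) + 1) := by
      rw [show 2 * (k + k + (p + 1)) - (k + k) = k + k + (p + 1) + (p + 1) by omega, pow_add _ (k + k + (p + 1)),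
        pow_add _ (k + k) (p + 1)]
      ring
    have hsq : Fintype.card F ^ (2 * (p + 1)) - 1 =
        (Fintype.card F ^ (p + 1) + 1) * (Fintype.card F ^ (p + 1) - 1) := by
      rw [← Nat.sq_sub_sq, one_pow, ← pow_mul, mul_comm]
    have hdec : spOrd (Fintype.card F) (p + 1) = Fintype.card F ^ (p + 1) *
        (Fintype.card F ^ (p + 1) + 1) * (Fintype.card F ^ ((p + 1) * p) * (Fintype.card F ^ (p + 1) - 1) *
          ∏ i : Fin p, (Fintype.card F ^ (2 * ((i : ℕ) + 1)) - 1)) := by
      rw [spOrd, Fin.prod_univ_castSucc, Fin.val_last, hsq, show (p + 1) ^ 2 = (p + 1) + (p + 1) * p by ring,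
        pow_add]
      simp only [Fin.val_castSucc]
      ring
    rw [hsum, hdec] at key
    refine Nat.eq_of_mul_eq_mul_right
      (show 0 < Fintype.card F ^ (k + k) * Fintype.card F ^ (p + 1) * (Fintype.card F ^ (p + 1) + 1) by
        have := Fintype.card_pos (α := F)
        positivity) (key.trans ?_)
    rw [Nat.add_sub_cancel, spOrd]
    ring

end Cfsg.Agent.S2684
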