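import Cfsg.Statements.S2685
import Cfsg.Agent.Lib.Classical.CharTwoInvol.OmegaCent

set_option autoImplicit false
open Cfsg

namespace Cfsg.Agent.S2685
open Cfsg.Agent.Lib.Classical.CharTwoInvol
open Cfsg.Agent.Lib.Classical.AutPOmega (plusR coe_plusR)
open Cfsg.Agent.Lib.Geometry (sympBilin sympBilin_isAlt sympBilin_nondegenerate)
open QuadraticMap (polarBilin)


/-- For the hyperbolic form Q = Σ x_j y_j on F^(2m) over a finite field with q elements, q even (excluding m = 2 over the field of two elements), and an involution x of the orthogonal group with s = rank(x − 1) even and Q not vanishing on the image of x − 1 (f(v, xv) ≠ 0 for some v, where f(u, w) = Q(u + w) − Q(u) − Q(w) is the bilinear form of Q; type c_s, which lies in Ω): its centraliser in Ω (the commutator subgroup of the orthogonal group) has order q^(2m(s−1) − (3s² − 5s)/2 − 1) · |Sp_(s−2)(q)| · |Sp_(2m−2s)(q)|. -/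
theorem result {F : Type*} [Field F] [Fintype F] [CharP F 2] {q : ℕ} (hF : Fintype.card F = q) {m s : ℕ} (h : Fintype.card F ≠ 2 ∨ m ≠ 2) (x : ↥(Cfsg.isometryGroup F (Cfsg.quadFormPlus m F))) (hx : x ^ 2 = 1) (hs : (((x : Matrix.GeneralLinearGroup (Fin m ⊕ Fin m) F) : Matrix (Fin m ⊕ Fin m) (Fin m ⊕ Fin m) F) - 1).rank = s) (heven : Even s) (hna : ∃ v : Fin m ⊕ Fin m → F, Cfsg.quadFormPlus m F ((((x : Matrix.GeneralLinearGroup (Fin m ⊕ Fin m) F) : Matrix (Fin m ⊕ Fin m) (Fin m ⊕ Fin m) F) - 1).mulVec v) ≠ 0) : Nat.card {g : ↥(Cfsg.Omega F (Cfsg.quadFormPlus m F)) // (g : ↥(Cfsg.isometryGroup F (Cfsg.quadFormPlus m F))) * x = x * (g : ↥(Cfsg.isometryGroup F (Cfsg.quadFormPlus m F)))} = q ^ (2 * m * (s - 1) - (3 * s ^ 2 - 5 * s) / 2 - 1) * ((q : ℕ) ^ (((s - 2) / 2) ^ 2) * ∏ i : Fin ((s - 2) / 2), (q ^ (2 * ((i : ℕ) + 1)) - 1)) * ((q : ℕ) ^ ((m - s) ^ 2) * ∏ i : Fin (m - s), (q ^ (2 * ((i : ℕ) + 1)) - 1)) := by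
  subst hF
  revert x
  rw [coe_plusR]
  intro x hx hs hna
  have hx' : x * x = 1 := by rw [← sq]; exact hx
  have hs' : Module.finrank F (LinearMap.range (diffMap (orthLin (plusR m F)) x)) = s := (rank_eq_orth _ x).trans hs
  have hN := diffMap_isInvolDiff (orthLin_polar (plusR m F)) hx'
  have hle : s ≤ m := by
    have := rank_le (plus_nd m) hN
    rw [hs', finrank_std] at this
    omega
  obtain ⟨t, ht, hd, htc⟩ := exists_sp_of_orth x hx'
  have hts : Module.finrank F (LinearMap.range (diffMap (spLin m F) t)) = s := by rw [hd]; exact hs'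
  obtain ⟨r, rfl⟩ : ∃ r, m = s + r := ⟨m - s, by omega⟩
  have hna₀ : ¬ IsAltType (polarBilin (plusR (s + r) F)) (diffMap (orthLin (plusR (s + r) F)) x) := fun h' => by
    obtain ⟨v, hv⟩ := hna
    exact hv ((altType_orth_iff x).mp h' v)
  have hna' : ¬ IsAltType (sympBilin (s + r) F) (diffMap (spLin (s + r) F) t) := by
    rw [hd, ← polar_plusR]; exact hna₀
  have hs0 : s ≠ 0 := fun h0 => by
    have hz : diffMap (spLin (s + r) F) t = 0 :=
      LinearMap.range_eq_bot.mp (Submodule.finrank_eq_zero.mp (hts.trans h0))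
    exact hna' fun v => by rw [hz]; simp
  obtain ⟨k, hk⟩ : ∃ k, s = 2 * k + 2 := by
    obtain ⟨j, hj⟩ := heven
    exact ⟨j - 1, by omega⟩
  refine Nat.eq_of_mul_eq_mul_right (pow_pos (Fintype.card_pos (α := F)) (2 * (s + r) - s))
    ((card_omega_cent_not_alt h x hx' hs' hna₀ t htc).trans ?_)
  rw [card_centralizer_not_alt rfl t ht hts hna',
    show onCount (Fintype.card F) s = Fintype.card F ^ (2 * k + 1) * spOrd (Fintype.card F) k from
      hk ▸ onCount_even _ k, show (s - 2) / 2 = k by omega, show s + r - s = r by omega]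
  have he : 2 * r * s + tri s + (2 * k + 1) =
      2 * (s + r) * (s - 1) - (3 * s ^ 2 - 5 * s) / 2 - 1 + (2 * (s + r) - s) := by
    have h3 := two_tri s
    have h4 : 2 * s ≤ s * s := Nat.mul_le_mul_right s (by omega : 2 ≤ s)
    have h5 : 2 * r * 2 ≤ 2 * r * s := Nat.mul_le_mul_left _ (by omega : 2 ≤ s)
    rw [show 3 * s ^ 2 = 3 * (s * s) by ring, Nat.mul_sub, show 2 * (s + r) * s = 2 * (s * s) + 2 * r * s by ring,
      mul_one]
    omega
  have hp : Fintype.card F ^ (2 * r * s + tri s) * Fintype.card F ^ (2 * k + 1) =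
      Fintype.card F ^ (2 * (s + r) * (s - 1) - (3 * s ^ 2 - 5 * s) / 2 - 1) * Fintype.card F ^ (2 * (s + r) - s) := by
    rw [← pow_add, ← pow_add, he]
  rw [spOrd, spOrd]
  linear_combination (Fintype.card F ^ (r ^ 2) * ∏ i : Fin r, (Fintype.card F ^ (2 * ((i : ℕ) + 1)) - 1)) *
    (Fintype.card F ^ (k ^ 2) * ∏ i : Fin k, (Fintype.card F ^ (2 * ((i : ℕ) + 1)) - 1)) * hp

end Cfsg.Agent.S2685
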