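import Cfsg.Statements.S2718
import Cfsg.Agent.Lib.Classical.AutPOmega.GraphInv

set_option autoImplicit false
open Cfsg

namespace Cfsg.Agent.S2718
open Lib.Classical.AutPOmega

/-- Let T = PΩ⁺_{2m}(F) with m ≥ 4 and |F| = q odd, G = Inndiag(T), and γ an involutory graph automorphism of T induced by a similarity (one interchanging the two classes of maximal totally singular subspaces). Then the G-class of γ is either a single T-class or the union of exactly two T-classes, and it is the union of two unless m is odd and q ≡ 3 (mod 4). -/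
theorem result {F : Type*} [Field F] [Fintype F] (hodd : Odd (Fintype.card F)) {m : ℕ} (hm : 4 ≤ m) (γ : MulAut (Cfsg.POmega F (Cfsg.quadFormPlus m F))) (hγ : Cfsg.IsSimilarityGraphAutPOmegaPlus m γ) (hγ2 : orderOf γ = 2) :
    (Cfsg.splitClassCount (Cfsg.inndiagPOmegaPlus m F) (Cfsg.Inn (Cfsg.POmega F (Cfsg.quadFormPlus m F))) γ = 1 ∨ Cfsg.splitClassCount (Cfsg.inndiagPOmegaPlus m F) (Cfsg.Inn (Cfsg.POmega F (Cfsg.quadFormPlus m F))) γ = 2) ∧ (¬ (Odd m ∧ Fintype.card F % 4 = 3) → Cfsg.splitClassCount (Cfsg.inndiagPOmegaPlus m F) (Cfsg.Inn (Cfsg.POmega F (Cfsg.quadFormPlus m F))) γ = 2) := by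
  have h2 := odd_two_ne_zero hodd
  have hm3 : 3 ≤ m := by omega
  refine inndiag_plus_transfer hodd hm3 (fun Q N => ∀ γ : MulAut (Cfsg.POmega F Q),
    (∃ g : GL (Fin m ⊕ Fin m) F, g ∈ Cfsg.Geo.quadSimilarityGroup (F := F) Q ∧
      ¬ Cfsg.PreservesSingularClasses Q (g : Matrix (Fin m ⊕ Fin m) (Fin m ⊕ Fin m) F) ∧
      Cfsg.IsInducedBySemilinearPOmega Q g (RingEquiv.refl F) γ) → orderOf γ = 2 →
    (Cfsg.splitClassCount N (Cfsg.Inn (Cfsg.POmega F Q)) γ = 1 ∨
      Cfsg.splitClassCount N (Cfsg.Inn (Cfsg.POmega F Q)) γ = 2) ∧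
    (¬ (Odd m ∧ Fintype.card F % 4 = 3) → Cfsg.splitClassCount N (Cfsg.Inn (Cfsg.POmega F Q)) γ = 2)) ?_ γ hγ hγ2
  rintro β ⟨g, hg, hpres, hind⟩ hβ
  have he : β = dia (plusR m F) ⟨g, hg⟩ := eq_semAut (pair_of_sim hg) hind
  subst he
  have hnot : dia (plusR m F) ⟨g, hg⟩ ∉ dia1 (model0_plus hm3) h2 (card_plus_index m) := fun h =>
    hpres ((plus_preserves_iff hodd hm3 ⟨g, hg⟩).mpr ((dia_mem_dia1_iff _ _ _ _).mp h))
  obtain ⟨H1, H2⟩ := split_count (model0_plus hm3) h2 (card_plus_index m)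
    (by rw [card_plus_index]; omega) (plus_multS_surjective hm3) hnot hβ
  exact ⟨H1, fun h => H2 (Or.inl ((spin_negOne_plus hodd hm3).mpr h))⟩

end Cfsg.Agent.S2718
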