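import Cfsg.Statements.S2719
import Cfsg.Agent.Lib.Classical.AutPOmega.GraphInv

set_option autoImplicit false
open Cfsg

namespace Cfsg.Agent.S2719
open Lib.Classical.AutPOmega

/-- Let T = PΩ⁻_{2m+2}(F) with m ≥ 3 and |F| = q odd (form with anisotropic binary part z₁² + a z₁ z₂ + b z₂²), G = Inndiag(T), and γ an involutory graph automorphism of T (an automorphism in the image of the semisimilarity group, not inner-diagonal, of order 2). Then the G-class of γ is either a single T-class or the union of exactly two T-classes, and it is the union of two unless m is even and q ≡ 1 (mod 4). -/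
theorem result {F : Type*} [Field F] [Fintype F] (hodd : Odd (Fintype.card F)) {m : ℕ} (hm : 3 ≤ m) (a b : F) (hab : (∀ z₁ z₂ : F, z₁ ^ 2 + a * z₁ * z₂ + b * z₂ ^ 2 = 0 → z₁ = 0 ∧ z₂ = 0)) (γ : MulAut (Cfsg.POmega F (Cfsg.quadFormMinus m F a b))) (hγ : Cfsg.IsGraphAutClassPOmegaMinus m a b γ) (hγ2 : orderOf γ = 2) :
    (Cfsg.splitClassCount (Cfsg.inndiagPOmegaMinus m F a b) (Cfsg.Inn (Cfsg.POmega F (Cfsg.quadFormMinus m F a b))) γ = 1 ∨ Cfsg.splitClassCount (Cfsg.inndiagPOmegaMinus m F a b) (Cfsg.Inn (Cfsg.POmega F (Cfsg.quadFormMinus m F a b))) γ = 2) ∧ (¬ (Even m ∧ Fintype.card F % 4 = 1) → Cfsg.splitClassCount (Cfsg.inndiagPOmegaMinus m F a b) (Cfsg.Inn (Cfsg.POmega F (Cfsg.quadFormMinus m F a b))) γ = 2) := by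
  have h2 := odd_two_ne_zero hodd
  refine inndiag_minus_transfer hodd hm hab (fun Q N => ∀ γ : MulAut (Cfsg.POmega F Q),
    (γ ∈ Cfsg.gammaPOmega F Q ∧ γ ∉ N ∧ Even (orderOf γ)) → orderOf γ = 2 →
    (Cfsg.splitClassCount N (Cfsg.Inn (Cfsg.POmega F Q)) γ = 1 ∨
      Cfsg.splitClassCount N (Cfsg.Inn (Cfsg.POmega F Q)) γ = 2) ∧
    (¬ (Even m ∧ Fintype.card F % 4 = 1) → Cfsg.splitClassCount N (Cfsg.Inn (Cfsg.POmega F Q)) γ = 2)) ?_ γ hγ hγ2
  rintro β ⟨-, hnot, -⟩ hβ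
  have hM := model_minus hm hab
  obtain ⟨g, σ, hp, rfl⟩ := pair_semisim hM β
  have h11 : semAut g σ hp * semAut g σ hp = 1 := by
    have := pow_orderOf_eq_one (semAut g σ hp)
    rwa [hβ, pow_two] at this
  rw [semAut_mul] at h11
  obtain ⟨hσσ, u, hu⟩ := eq_scalar_of_semAut_eq_one hM.toModel0 _ h11
  have hσ : σ = 1 := by
    refine no_semilinear_invol hM.toModel0 h2 (card_minus_index m) ?_ hp
      (fun x => by rw [← RingAut.mul_apply, hσσ]; rfl) (c := (u : F)) ?_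
    · rw [gram_minusR, show ((-1 : F) ^ (m + 1) * ((-1) ^ m * (4 * b - a ^ 2))) =
        ((-1) ^ m * (-1) ^ m) * (a ^ 2 - 4 * b) by ring, ← mul_pow, neg_one_mul, neg_neg, one_pow, one_mul]
      exact Lib.Geometry.discr_not_isSquare h2 hab
    · have := congrArg Units.val hu
      show (g : Matrix ((Fin m ⊕ Fin m) ⊕ Fin 2) ((Fin m ⊕ Fin m) ⊕ Fin 2) F) * (g : Matrix ((Fin m ⊕ Fin m) ⊕ Fin 2) ((Fin m ⊕ Fin m) ⊕ Fin 2) F).map σ = _
      refine this.trans ?_
      show Matrix.scalar _ (u : F) = _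
      rw [Matrix.scalar_apply, ← Matrix.smul_one_eq_diagonal]
  subst hσ
  obtain ⟨H1, H2⟩ := split_count hM.toModel0 h2 (card_minus_index m) (g := ⟨g, hp⟩)
    (by rw [card_minus_index]; omega) (minus_multS_surjective hm hab) hnot hβ
  refine ⟨H1, fun h => H2 ?_⟩
  rcases Nat.even_or_odd m with he | ho
  · refine Or.inl ((spin_negOne_minus hodd hm hab).mpr ⟨he, ?_⟩)
    obtain ⟨t, ht⟩ := hodd
    have : ¬ Fintype.card F % 4 = 1 := fun e => h ⟨he, e⟩
    omega
  · exact Or.inr ho.add_one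

end Cfsg.Agent.S2719
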