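import Cfsg.Statements.S2723
import Cfsg.Agent.Lib.Classical.AutPOmega.PlusMinusGroups

set_option autoImplicit false
open Cfsg

namespace Cfsg.Agent.S2723
open Lib.Classical.AutPOmega

/-- Let T = PΩ⁺_{2m}(F) with m ≥ 4 and |F| = q odd. The image of the special orthogonal group in Aut(T) contains the inner automorphism group T with index 1 (they coincide) when m is odd and q ≡ 3 (mod 4), and with index 2 otherwise (the index is 2 exactly when the discriminant of the form is a square). -/
theorem result {F : Type*} [Field F] [Fintype F] (hodd : Odd (Fintype.card F)) {m : ℕ} (hm : 4 ≤ m) :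
    ((Odd m ∧ Fintype.card F % 4 = 3) → (Cfsg.Inn (Cfsg.POmega F (Cfsg.quadFormPlus m F))).relIndex (Cfsg.psoAut F (Cfsg.quadFormPlus m F)) = 1) ∧ (¬ (Odd m ∧ Fintype.card F % 4 = 3) → (Cfsg.Inn (Cfsg.POmega F (Cfsg.quadFormPlus m F))).relIndex (Cfsg.psoAut F (Cfsg.quadFormPlus m F)) = 2) := by
  have h2 := odd_two_ne_zero hodd
  have hm3 : 3 ≤ m := by omega
  have hι := card_plus_index m
  have hn : 2 ≤ Fintype.card (Fin m ⊕ Fin m) := by omega
  have hs := plus_multS_surjective (F := F) hm3
  have hz1 : ¬ (Odd m ∧ Fintype.card F % 4 = 3) →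
      spinH (model0_plus (F := F) hm3).nondeg h2 (negOne (plusR m F)) = 1 := (spin_negOne_plus hodd hm3).mpr
  have hz2 : (Odd m ∧ Fintype.card F % 4 = 3) →
      spinH (model0_plus (F := F) hm3).nondeg h2 (negOne (plusR m F)) = -1 := fun h =>
    (Int.units_eq_one_or _).resolve_left fun e => (spin_negOne_plus hodd hm3).mp e h
  rw [coe_plusR, psoAut_eq]
  exact ⟨fun h => (relIndex_pso (model0_plus hm3) h2 hι hn).1 (hz2 h),
    fun h => (relIndex_pso (model0_plus hm3) h2 hι hn).2 (hz1 h)⟩

end Cfsg.Agent.S2723
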