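import Cfsg.Statements.S2724
import Cfsg.Agent.Lib.Classical.AutPOmega.PlusMinusGroups

set_option autoImplicit false
open Cfsg

namespace Cfsg.Agent.S2724
open Lib.Classical.AutPOmega

/-- Let T = PΩ⁺_{2m}(F) with m ≥ 4 and |F| = q odd. The image G̃ of the conformal orthogonal group in Aut(T), taken modulo the inner automorphism group T, is elementary abelian of order 4 when m is odd and q ≡ 3 (mod 4), and dihedral of order 8 otherwise. -/
theorem result {F : Type*} [Field F] [Fintype F] (hodd : Odd (Fintype.card F)) {m : ℕ} (hm : 4 ≤ m) :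
    ((Odd m ∧ Fintype.card F % 4 = 3) → (∃ φ : ↥(Cfsg.pgoAut F (Cfsg.quadFormPlus m F)) →* Multiplicative (ZMod 2 × ZMod 2), Function.Surjective φ ∧ φ.ker = (Cfsg.Inn (Cfsg.POmega F (Cfsg.quadFormPlus m F))).subgroupOf (Cfsg.pgoAut F (Cfsg.quadFormPlus m F)))) ∧ (¬ (Odd m ∧ Fintype.card F % 4 = 3) → (∃ φ : ↥(Cfsg.pgoAut F (Cfsg.quadFormPlus m F)) →* DihedralGroup 4, Function.Surjective φ ∧ φ.ker = (Cfsg.Inn (Cfsg.POmega F (Cfsg.quadFormPlus m F))).subgroupOf (Cfsg.pgoAut F (Cfsg.quadFormPlus m F)))) := by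
  have h2 := odd_two_ne_zero hodd
  have hm3 : 3 ≤ m := by omega
  have hι := card_plus_index m
  have hn : 2 ≤ Fintype.card (Fin m ⊕ Fin m) := by omega
  have hs := plus_multS_surjective (F := F) hm3
  have hz1 : ¬ (Odd m ∧ Fintype.card F % 4 = 3) →
      spinH (model0_plus (F := F) hm3).nondeg h2 (negOne (plusR m F)) = 1 := (spin_negOne_plus hodd hm3).mpr
  have hz2 : (Odd m ∧ Fintype.card F % 4 = 3) →
      spinH (model0_plus (F := F) hm3).nondeg h2 (negOne (plusR m F)) = -1 := fun h =>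
    (Int.units_eq_one_or _).resolve_left fun e => (spin_negOne_plus hodd hm3).mp e h
  rw [coe_plusR]
  exact ⟨fun h => pgo_quot_inn_four (model0_plus hm3) h2 hι hn hs (hz2 h),
    fun h => pgo_quot_inn_dihedral (model0_plus hm3) h2 hι hn hs (hz1 h)⟩

end Cfsg.Agent.S2724
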