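import Cfsg.Statements.S2725
import Cfsg.Agent.Lib.Classical.AutPOmega.PlusMinusGroups

set_option autoImplicit false
open Cfsg

namespace Cfsg.Agent.S2725
open Lib.Classical.AutPOmega

/-- Let T = PΩ⁺_{2m}(F) with m ≥ 4 and |F| = q odd. The inner-diagonal group G = Inndiag(T) (image of the class-preserving similarities) taken modulo the inner automorphism group T is cyclic of order 2 when m is odd and q ≡ 3 (mod 4), cyclic of order 4 when m is odd and q ≡ 1 (mod 4), and elementary abelian of order 4 when m is even. -/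
theorem result {F : Type*} [Field F] [Fintype F] (hodd : Odd (Fintype.card F)) {m : ℕ} (hm : 4 ≤ m) :
    ((Odd m ∧ Fintype.card F % 4 = 3) → (∃ φ : ↥(Cfsg.inndiagPOmegaPlus m F) →* Multiplicative (ZMod 2), Function.Surjective φ ∧ φ.ker = (Cfsg.Inn (Cfsg.POmega F (Cfsg.quadFormPlus m F))).subgroupOf (Cfsg.inndiagPOmegaPlus m F))) ∧ ((Odd m ∧ Fintype.card F % 4 = 1) → (∃ φ : ↥(Cfsg.inndiagPOmegaPlus m F) →* Multiplicative (ZMod 4), Function.Surjective φ ∧ φ.ker = (Cfsg.Inn (Cfsg.POmega F (Cfsg.quadFormPlus m F))).subgroupOf (Cfsg.inndiagPOmegaPlus m F))) ∧ (Even m → (∃ φ : ↥(Cfsg.inndiagPOmegaPlus m F) →* Multiplicative (ZMod 2 × ZMod 2), Function.Surjective φ ∧ φ.ker = (Cfsg.Inn (Cfsg.POmega F (Cfsg.quadFormPlus m F))).subgroupOf (Cfsg.inndiagPOmegaPlus m F))) := by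
  have h2 := odd_two_ne_zero hodd
  have hm3 : 3 ≤ m := by omega
  have hι := card_plus_index m
  have hn : 2 ≤ Fintype.card (Fin m ⊕ Fin m) := by omega
  have hs := plus_multS_surjective (F := F) hm3
  have hz1 : ¬ (Odd m ∧ Fintype.card F % 4 = 3) →
      spinH (model0_plus (F := F) hm3).nondeg h2 (negOne (plusR m F)) = 1 := (spin_negOne_plus hodd hm3).mpr
  have hz2 : (Odd m ∧ Fintype.card F % 4 = 3) →
      spinH (model0_plus (F := F) hm3).nondeg h2 (negOne (plusR m F)) = -1 := fun h =>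
    (Int.units_eq_one_or _).resolve_left fun e => (spin_negOne_plus hodd hm3).mp e h
  obtain ⟨α, hα⟩ := exists_nonsquare_unit (F := F) h2
  obtain ⟨k, hk, hks⟩ := spin_sq_plusSim hodd hm3 hα
  have H := fun hz => dia1_quot_inn_four (model0_plus hm3) h2 hι hn hs hz hα (plusSim_mult hm3 α)
    (plusSim_delta hm3 α) hk
  refine ⟨fun h => ?_, fun h => ?_, fun h => ?_⟩
  · exact inndiag_plus_transfer hodd hm3 (QuotInn _)
      (dia1_quot_inn_two (model0_plus hm3) h2 hι hn hs (hz2 h))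
  · exact inndiag_plus_transfer hodd hm3 (QuotInn _) ((H (hz1 fun h' => by omega)).1 (by rw [hks, h.1.neg_one_pow]))
  · exact inndiag_plus_transfer hodd hm3 (QuotInn _)
      ((H (hz1 fun h' => Nat.not_odd_iff_even.mpr h h'.1)).2 (by rw [hks, h.neg_one_pow]))

end Cfsg.Agent.S2725
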