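import Cfsg.Statements.S2729
import Cfsg.Agent.Lib.Classical.AutPOmega.PlusMinusGroups

set_option autoImplicit false
open Cfsg

namespace Cfsg.Agent.S2729
open Lib.Classical.AutPOmega

/-- Let T = PΩ⁻_{2m+2}(F) with m ≥ 3 and |F| = q odd (form with anisotropic binary part). The inner-diagonal group G = Inndiag(T) (image of the class-preserving similarities) taken modulo the inner automorphism group T is cyclic of order 4 when m is even and q ≡ 3 (mod 4), and of order 2 otherwise. -/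
theorem result {F : Type*} [Field F] [Fintype F] (hodd : Odd (Fintype.card F)) {m : ℕ} (hm : 3 ≤ m) (a b : F) (hab : (∀ z₁ z₂ : F, z₁ ^ 2 + a * z₁ * z₂ + b * z₂ ^ 2 = 0 → z₁ = 0 ∧ z₂ = 0)) :
    ((Even m ∧ Fintype.card F % 4 = 3) → (∃ φ : ↥(Cfsg.inndiagPOmegaMinus m F a b) →* Multiplicative (ZMod 4), Function.Surjective φ ∧ φ.ker = (Cfsg.Inn (Cfsg.POmega F (Cfsg.quadFormMinus m F a b))).subgroupOf (Cfsg.inndiagPOmegaMinus m F a b))) ∧ (¬ (Even m ∧ Fintype.card F % 4 = 3) → (∃ φ : ↥(Cfsg.inndiagPOmegaMinus m F a b) →* Multiplicative (ZMod 2), Function.Surjective φ ∧ φ.ker = (Cfsg.Inn (Cfsg.POmega F (Cfsg.quadFormMinus m F a b))).subgroupOf (Cfsg.inndiagPOmegaMinus m F a b))) := by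
  have h2 := odd_two_ne_zero hodd
  have hι := card_minus_index m
  have hn : 2 ≤ Fintype.card ((Fin m ⊕ Fin m) ⊕ Fin 2) := by omega
  have hM := (model_minus hm hab).toModel0
  have hs := minus_multS_surjective hm hab
  have hz1 : (Even m ∧ Fintype.card F % 4 = 3) →
      spinH hM.nondeg h2 (negOne (minusR m a b)) = 1 := (spin_negOne_minus hodd hm hab).mpr
  have hz2 : ¬ (Even m ∧ Fintype.card F % 4 = 3) →
      spinH hM.nondeg h2 (negOne (minusR m a b)) = -1 := fun h =>
    (Int.units_eq_one_or _).resolve_left fun e => h ((spin_negOne_minus hodd hm hab).mp e)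
  obtain ⟨α, hα⟩ := exists_nonsquare_unit (F := F) h2
  obtain ⟨d, k, hd, hdδ, hk, hks⟩ := spin_sq_minusSim hodd hm hab hα
  refine ⟨fun h => ?_, fun h => ?_⟩
  · exact inndiag_minus_transfer hodd hm hab (QuotInn _)
      ((dia1_quot_inn_four hM h2 hι hn hs (hz1 h) hα hd hdδ hk).1 (by rw [hks, h.1.add_one.neg_one_pow]))
  · exact inndiag_minus_transfer hodd hm hab (QuotInn _) (dia1_quot_inn_two hM h2 hι hn hs (hz2 h))

end Cfsg.Agent.S2729
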