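import Cfsg.Statements.S2736
import Cfsg.Agent.Lib.Classical.AutPOmega.PlusField

set_option autoImplicit false
open Cfsg

namespace Cfsg.Agent.S2736
open Lib.Classical.AutPOmega

/-- Let T = PΩ⁺_{2m}(F) with m ≥ 5 (dimension ≠ 8) and x a field automorphism or a graph-field automorphism of T of prime order r. Then an element y of the coset Inndiag(T)·x (y = δ x with δ induced by a class-preserving similarity) has order r if and only if y is conjugate to x by an element of Inndiag(T). -/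
theorem result {F : Type*} [Field F] [Fintype F] {m : ℕ} (hm : 5 ≤ m) (x δ : MulAut (Cfsg.POmega F (Cfsg.quadFormPlus m F))) (hx : Cfsg.IsFieldAutClassPOmega (Cfsg.quadFormPlus m F) x ∨ Cfsg.IsGraphFieldAutClassPOmegaPlus m x) {r : ℕ} (hr : r.Prime) (hxr : orderOf x = r) (hδ : δ ∈ Cfsg.inndiagPOmegaPlus m F) :
    orderOf (δ * x) = r ↔ Cfsg.IsConjUnder (Cfsg.inndiagPOmegaPlus m F) x (δ * x) := by
  exact inndiag_plus_transfer' (by omega) (fun Q N => ∀ x δ : MulAut (Cfsg.POmega F Q),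
    (Cfsg.IsFieldAutClassPOmega Q x ∨
      ∃ (α γ φ : MulAut (Cfsg.POmega F Q)) (σ : F ≃+* F) (v : Fin m ⊕ Fin m → F) (g : GL (Fin m ⊕ Fin m) F),
        σ ≠ RingEquiv.refl F ∧ Q v ≠ 0 ∧ (∀ i, σ (v i) = v i) ∧
        (g : Matrix (Fin m ⊕ Fin m) (Fin m ⊕ Fin m) F) = Cfsg.reflectionMatrix Q v ∧
        Cfsg.IsInducedBySemilinearPOmega Q g (RingEquiv.refl F) γ ∧
        Cfsg.IsFieldAutPOmegaOf Q σ φ ∧ α * x * α⁻¹ = γ * φ) →
    orderOf x = r → δ ∈ N → (orderOf (δ * x) = r ↔ Cfsg.IsConjUnder N x (δ * x)))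
    (fun x δ hx hxr hδ => order_iff_conj_plus hm hx hr hxr hδ) x δ hx hxr hδ

end Cfsg.Agent.S2736
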