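import Cfsg.Statements.S2738
import Cfsg.Agent.Lib.Classical.LinearSimple
import Cfsg.Agent.Lib.Classical.LinearCard

set_option autoImplicit false
open Cfsg

open scoped commutatorElement

namespace Cfsg.Agent.S2738

private theorem central_commutator {G : Type*} [Group G] {z w : G} (hz : z ∈ Subgroup.center G)
    (hw : w ∈ Subgroup.center G) (k l : G) : ⁅z * k, w * l⁆ = k * l * k⁻¹ * l⁻¹ := by
  have hc := Subgroup.mem_center_iff.mp (mul_mem hz hw)
  have e1 : z * k * (w * l) = z * w * (k * l) := by
    rw [mul_assoc, ← mul_assoc k w l, Subgroup.mem_center_iff.mp hw k]; group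
  have e2 : w * l * (z * k) = z * w * (l * k) := by
    rw [mul_assoc, ← mul_assoc l z k, Subgroup.mem_center_iff.mp hz l, Subgroup.mem_center_iff.mp hw z]; group
  calc ⁅z * k, w * l⁆ = (z * k * (w * l)) * (w * l * (z * k))⁻¹ := by rw [commutatorElement_def]; group
    _ = _ := by
      rw [e1, e2, ← hc (k * l), ← hc (l * k)]; group

/-- The special linear group SL(3, 4) has centre of order 3 and does not split over it: no subgroup is a complement to the centre (so SL(3, 4) is a non-split central extension of PSL(3, 4) by a group of order 3). -/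
theorem result (F : Type*) [Field F] [Fintype F] (hF : Fintype.card F = 4) : Nat.card ↥(Subgroup.center (Matrix.SpecialLinearGroup (Fin 3) F)) = 3 ∧ ¬ ∃ K : Subgroup (Matrix.SpecialLinearGroup (Fin 3) F), Subgroup.IsComplement' (Subgroup.center (Matrix.SpecialLinearGroup (Fin 3) F)) K := by
  have hc : Nat.card ↥(Subgroup.center (Matrix.SpecialLinearGroup (Fin 3) F)) = 3 := by
    rw [Lib.Classical.card_center_SL]
    simp [hF]
  refine ⟨hc, ?_⟩
  rintro ⟨K, hK⟩
  have htop : K = ⊤ := by
    rw [eq_top_iff, ← Lib.Classical.commutator_SL_eq_top (F := F) (ι := Fin 3) (by simp), commutator_def, Subgroup.commutator_le]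
    intro a _ b _
    obtain ⟨⟨z, k⟩, rfl⟩ := hK.2 a
    obtain ⟨⟨w, l⟩, rfl⟩ := hK.2 b
    have hz := Subgroup.mem_center_iff.mp z.2
    have hw := Subgroup.mem_center_iff.mp w.2
    rw [show ⁅(z : Matrix.SpecialLinearGroup (Fin 3) F) * k, (w : Matrix.SpecialLinearGroup (Fin 3) F) * l⁆ = _ from central_commutator z.2 w.2 k l]
    exact K.mul_mem (K.mul_mem (K.mul_mem k.2 l.2) (K.inv_mem k.2)) (K.inv_mem l.2)
  rw [htop] at hK
  have := Subgroup.isComplement'_top_right.mp hK
  rw [this] at hc
  simp at hc

end Cfsg.Agent.S2738
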