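import Cfsg.Statements.S2739
import Cfsg.Agent.Lib.LinAux.Basic

set_option autoImplicit false
open scoped Pointwise
open Cfsg

namespace Cfsg.Agent.S2739

variable {F : Type*} [Field F] [Fintype F]

local notation "SL3" => Matrix.SpecialLinearGroup (Fin 3) F
local notation "M3" => Matrix (Fin 3) (Fin 3) F
local notation "V" => Fin 3 → F

private theorem two_eq_zero (hF : Fintype.card F = 4) : (2 : F) = 0 := by
  have h : ((4 : ℕ) : F) = 0 := hF ▸ FiniteField.cast_card_eq_zero F
  have : (2 : F) * 2 = 0 := by rw [← h]; norm_num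
  exact mul_self_eq_zero.mp this

private theorem units_cube (hF : Fintype.card F = 4) (u : Fˣ) : (u : F) ^ 3 = 1 := by
  have := FiniteField.pow_card_sub_one_eq_one (u : F) u.ne_zero
  rwa [hF] at this

open Polynomial in
private theorem cube_one_of_cube_scalar {g : SL3} {c : F} (hg : (g : M3) ^ 3 = Matrix.scalar (Fin 3) c)
    (hc : ∀ b : F, b ^ 3 ≠ c) : False := by
  have hirr : Irreducible (X ^ 3 - C c : F[X]) := X_pow_sub_C_irreducible_of_prime Nat.prime_three hc
  have hmon : (X ^ 3 - C c : F[X]).Monic := monic_X_pow_sub_C c (by norm_num)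
  have hroot : aeval (g : M3) (X ^ 3 - C c : F[X]) = 0 := by
    rw [map_sub, map_pow, aeval_X, aeval_C, hg, sub_eq_zero]
    rfl
  have hmin : X ^ 3 - C c = minpoly F (g : M3) := minpoly.eq_of_irreducible_of_monic hirr hroot hmon
  have hdvd : X ^ 3 - C c ∣ (g : M3).charpoly := hmin ▸ Matrix.minpoly_dvd_charpoly (g : M3)
  have heq : X ^ 3 - C c = (g : M3).charpoly :=
    eq_of_monic_of_associated hmon (Matrix.charpoly_monic _) (associated_of_dvd_of_natDegree_le hdvd
      (Matrix.charpoly_monic _).ne_zero (by rw [Matrix.charpoly_natDegree_eq_dim, natDegree_X_pow_sub_C, Fintype.card_fin]))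
  have hdet := Matrix.det_eq_sign_charpoly_coeff (g : M3)
  rw [← heq, g.2] at hdet
  have : c = 1 := by
    simp [coeff_X_pow] at hdet
    linear_combination -hdet
  exact hc 1 (by rw [this, one_pow])

/-- An element of order three lifts to an element of cube one. -/
private theorem exists_lift (hF : Fintype.card F = 4) {x : Matrix.ProjectiveSpecialLinearGroup (Fin 3) F}
    (hx : orderOf x = 3) : ∃ g : SL3, QuotientGroup.mk g = x ∧ g ^ 3 = 1 ∧ g ∉ Subgroup.center SL3 := by
  obtain ⟨g, rfl⟩ := QuotientGroup.mk_surjective x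
  refine ⟨g, rfl, ?_, fun h => ?_⟩
  · have h3 : g ^ 3 ∈ Subgroup.center SL3 := by
      rw [← QuotientGroup.eq_one_iff, QuotientGroup.mk_pow]
      have := pow_orderOf_eq_one (QuotientGroup.mk g : Matrix.ProjectiveSpecialLinearGroup (Fin 3) F)
      rwa [hx] at this
    obtain ⟨c, hc1, hc⟩ := Matrix.SpecialLinearGroup.mem_center_iff.mp h3
    rw [Fintype.card_fin] at hc1
    rcases eq_or_ne c 1 with rfl | hne
    · exact Subtype.ext (by simpa using hc.symm)
    · exfalso
      refine cube_one_of_cube_scalar (g := g) (c := c) (by simpa using hc.symm) fun b hb => hne ?_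
      rcases eq_or_ne b 0 with rfl | hb0
      · simp [← hb] at hc1
      · rw [← hb]; exact units_cube hF (Units.mk0 b hb0)
  · rw [(QuotientGroup.eq_one_iff g).mpr h, orderOf_one] at hx
    omega

private def IsEig (A : M3) (v : V) : Prop := ∃ u : Fˣ, A.mulVec v = (u : F) • v

private theorem span_eig (hF : Fintype.card F = 4) {A : M3} (hA : A ^ 3 = 1) :
    Submodule.span F {v : V | IsEig A v} = ⊤ := by
  classical
  refine eq_top_iff.mpr fun v _ => ?_
  have key : v = ∑ u : Fˣ, (v + (u : F) ^ 2 • A.mulVec v + (u : F) ^ 1 • A.mulVec (A.mulVec v)) := by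
    rw [Finset.sum_add_distrib, Finset.sum_add_distrib, ← Finset.sum_smul, ← Finset.sum_smul,
      FiniteField.sum_pow_units, FiniteField.sum_pow_units, hF]
    norm_num
    rw [Fintype.card_units, hF]
    have h2 := two_eq_zero hF
    funext i
    simp only [Pi.mul_apply, Pi.natCast_apply]
    norm_num
    linear_combination -(v i) * h2
  rw [key]
  refine Submodule.sum_mem _ fun u _ => Submodule.subset_span ⟨u, ?_⟩
  have hA' : A.mulVec (A.mulVec (A.mulVec v)) = v := by
    rw [Matrix.mulVec_mulVec, Matrix.mulVec_mulVec, show A * A * A = A ^ 3 by simp [pow_succ], hA, Matrix.one_mulVec]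
  rw [Matrix.mulVec_add, Matrix.mulVec_add, Matrix.mulVec_smul, Matrix.mulVec_smul, hA', smul_add, smul_add, smul_smul, smul_smul]
  have hu := units_cube hF u
  rw [show (u : F) * (u : F) ^ 2 = 1 by linear_combination hu, show (u : F) * (u : F) ^ 1 = (u : F) ^ 2 by ring, one_smul, pow_one]
  abel

private theorem exists_diag (hF : Fintype.card F = 4) {g : SL3} (hg : g ^ 3 = 1) (hnc : g ∉ Subgroup.center SL3) :
    ∃ (b : Fin 3 → V) (d : Fin 3 → Fˣ), LinearIndependent F b ∧ Function.Injective d ∧
      ∀ i, (g : M3).mulVec (b i) = (d i : F) • b i := by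
  classical
  have hA : (g : M3) ^ 3 = 1 := by rw [← Matrix.SpecialLinearGroup.coe_pow, hg, Matrix.SpecialLinearGroup.coe_one]
  obtain ⟨s, hs, hspan, hli⟩ := exists_linearIndependent F {v : V | IsEig (g : M3) v}
  rw [span_eig hF hA] at hspan
  let B := Module.Basis.mk hli (by rw [Subtype.range_coe, hspan])
  let B' := B.reindex (Module.Basis.indexEquiv B (Pi.basisFun F (Fin 3)))
  have hB' : ∀ i, IsEig (g : M3) (B' i) := fun i => by
    rw [Module.Basis.reindex_apply]
    simp only [B, Module.Basis.mk_apply]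
    exact hs (Subtype.prop _)
  choose d hd using hB'
  refine ⟨B', d, B'.linearIndependent, ?_, hd⟩
  have hdet : (d 0 : F) * d 1 * d 2 = 1 := by
    have e : (g : M3) * Lib.LinAux.colMatrix B' = Lib.LinAux.colMatrix B' * Matrix.diagonal fun i => (d i : F) := by
      refine Matrix.ext fun i j => ?_
      show (g : M3).mulVec (B' j) i = _
      rw [hd, Matrix.mul_diagonal]
      simp [Lib.LinAux.colMatrix, mul_comm]
    have := congrArg Matrix.det e
    rw [Matrix.det_mul, Matrix.det_mul, g.2, Matrix.det_diagonal, one_mul, Fin.prod_univ_three] at this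
    exact (mul_left_cancel₀ (Lib.LinAux.det_colMatrix_ne_zero B'.linearIndependent) ((mul_one _).trans this)).symm
  have hall : ∀ i j, i ≠ j → d i = d j → ∀ k, d k = d i := by
    intro i j hij he k
    rcases eq_or_ne k i with rfl | hki
    · rfl
    rcases eq_or_ne k j with rfl | hkj
    · exact he.symm
    apply Units.ext
    have h3 := units_cube hF (d i)
    have hperm : (d i : F) * d j * d k = 1 := by
      rw [← hdet]
      fin_cases i <;> fin_cases j <;> fin_cases k <;> first | exact absurd rfl hij | exact absurd rfl hki | exact absurd rfl hkj | (simp; try ring)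
    rw [he] at h3 ⊢
    have hne : (d j : F) * d j ≠ 0 := mul_ne_zero (d j).ne_zero (d j).ne_zero
    apply mul_left_cancel₀ hne
    rw [he] at hperm
    linear_combination hperm - h3
  intro i j he
  by_contra hij
  refine hnc (Matrix.SpecialLinearGroup.mem_center_iff.mpr ⟨(d i : F), by simpa using units_cube hF (d i), ?_⟩)
  have : (Matrix.scalar (Fin 3) (d i : F)).mulVecLin = (g : M3).mulVecLin := B'.ext fun k => by
    simp [Matrix.mulVecLin_apply, hd, hall i j hij he k]
  exact Matrix.toLin'.injective this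

private theorem card_units [DecidableEq F] (hF : Fintype.card F = 4) : Fintype.card (Fin 3) = Fintype.card Fˣ := by
  rw [Fintype.card_units, hF, Fintype.card_fin]

private theorem exists_conj (hF : Fintype.card F = 4) {g : SL3} (hg : g ^ 3 = 1) (hnc : g ∉ Subgroup.center SL3)
    (e : Fin 3 → Fˣ) (he : Function.Injective e) :
    ∃ C : SL3, (g : M3) * (C : M3) = (C : M3) * Matrix.diagonal fun i => (e i : F) := by
  classical
  obtain ⟨b, d, hb, hd, hev⟩ := exists_diag hF hg hnc
  let σ := (Equiv.ofBijective e ((Fintype.bijective_iff_injective_and_card e).mpr ⟨he, card_units hF⟩)).trans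
    (Equiv.ofBijective d ((Fintype.bijective_iff_injective_and_card d).mpr ⟨hd, card_units hF⟩)).symm
  have hσ : ∀ i, d (σ i) = e i := fun i => by
    simp only [σ, Equiv.trans_apply]
    exact Equiv.ofBijective_apply_symm_apply d _ (e i)
  let c := Function.update (b ∘ σ) 0 ((1 / (Lib.LinAux.colMatrix (b ∘ σ)).det) • (b ∘ σ) 0)
  refine ⟨⟨Lib.LinAux.colMatrix c, Lib.LinAux.det_colMatrix_update (hb.comp _ σ.injective) 0 1⟩, ?_⟩
  show (g : M3) * Lib.LinAux.colMatrix c = Lib.LinAux.colMatrix c * _
  have hc : ∀ j, (g : M3).mulVec (c j) = (e j : F) • c j := fun j => by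
    rcases eq_or_ne j 0 with rfl | h
    · simp only [c, Function.update_self, Function.comp_apply, Matrix.mulVec_smul, hev, hσ]
      rw [smul_comm]
    · simp only [c, Function.update_of_ne h, Function.comp_apply, hev, hσ]
  refine Matrix.ext fun i j => ?_
  show (g : M3).mulVec (c j) i = _
  rw [hc, Matrix.mul_diagonal]
  simp [Lib.LinAux.colMatrix, mul_comm]


/-- In the projective special linear group PSL(3, 4) all subgroups of order 3 are conjugate. -/
theorem result (F : Type*) [Field F] [Fintype F] (hF : Fintype.card F = 4) (X Y : Subgroup (Matrix.ProjectiveSpecialLinearGroup (Fin 3) F)) (hX : Nat.card ↥X = 3) (hY : Nat.card ↥Y = 3) : ∃ g : Matrix.ProjectiveSpecialLinearGroup (Fin 3) F, MulAut.conj g • X = Y := by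
  classical
  haveI : Fact (Nat.Prime 3) := ⟨Nat.prime_three⟩
  have gen : ∀ Z : Subgroup (Matrix.ProjectiveSpecialLinearGroup (Fin 3) F), Nat.card Z = 3 →
      ∃ z, orderOf z = 3 ∧ Subgroup.zpowers z = Z := by
    intro Z hZ
    have hc : IsCyclic Z := isCyclic_of_prime_card hZ
    obtain ⟨z, hz⟩ := Subgroup.isCyclic_iff_exists_zpowers_eq_top Z |>.mp hc
    exact ⟨z, by rw [← Nat.card_zpowers, hz, hZ], hz⟩
  obtain ⟨x, hx, rfl⟩ := gen X hX
  obtain ⟨y, hy, rfl⟩ := gen Y hY
  obtain ⟨g, rfl, hg, hgc⟩ := exists_lift hF hx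
  obtain ⟨h, rfl, hh, hhc⟩ := exists_lift hF hy
  obtain ⟨b, e, -, he, -⟩ := exists_diag hF hg hgc
  obtain ⟨C, hC⟩ := exists_conj hF hg hgc e he
  obtain ⟨D, hD⟩ := exists_conj hF hh hhc e he
  have key : D * C⁻¹ * g * (D * C⁻¹)⁻¹ = h := by
    have e1 : ∀ (E u : Matrix.SpecialLinearGroup (Fin 3) F), (u : Matrix (Fin 3) (Fin 3) F) * (E : Matrix (Fin 3) (Fin 3) F) = (E : Matrix (Fin 3) (Fin 3) F) * Matrix.diagonal (fun i => (e i : F)) →
        ((E⁻¹ * u * E : Matrix.SpecialLinearGroup (Fin 3) F) : Matrix (Fin 3) (Fin 3) F) = Matrix.diagonal (fun i => (e i : F)) := fun E u h => by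
      rw [mul_assoc, Matrix.SpecialLinearGroup.coe_mul, Matrix.SpecialLinearGroup.coe_mul, h, ← mul_assoc,
        ← Matrix.SpecialLinearGroup.coe_mul, inv_mul_cancel, Matrix.SpecialLinearGroup.coe_one, one_mul]
    have e2 : C⁻¹ * g * C = D⁻¹ * h * D := Subtype.ext ((e1 C g hC).trans (e1 D h hD).symm)
    calc D * C⁻¹ * g * (D * C⁻¹)⁻¹ = D * (C⁻¹ * g * C) * D⁻¹ := by group
      _ = _ := by rw [e2]; group
  refine ⟨QuotientGroup.mk (D * C⁻¹), ?_⟩
  show Subgroup.map (MulAut.conj (QuotientGroup.mk (D * C⁻¹) : Matrix.ProjectiveSpecialLinearGroup (Fin 3) F)).toMonoidHom _ = _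
  rw [MonoidHom.map_zpowers]
  congr 1
  rw [← key]
  rfl

end Cfsg.Agent.S2739
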