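import Cfsg.Statements.S2756
import Cfsg.Agent.Lib.PLocal.Inversion
import Cfsg.Agent.Lib.InvChar.OddInverted

set_option autoImplicit false
open Cfsg

namespace Cfsg.Agent.S2756

open Cfsg.Agent.Lib

lemma not_inverted_of_normal {G : Type*} [Group G] [Finite G] (h : ∀ P : Sylow 2 G, (P : Subgroup G).Normal)
    {q : ℕ} [hq : Fact q.Prime] (hq2 : q ≠ 2) {x : G} (hx : ∃ k : ℕ, x ^ q ^ k = 1) (hx1 : x ≠ 1) (g : G) :
    g * x * g⁻¹ ≠ x⁻¹ := by
  intro he
  haveI : Fact (Nat.Prime 2) := ⟨Nat.prime_two⟩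
  obtain ⟨b, -, ⟨j, hj⟩, hb⟩ := PLocal.exists_two_inverting he
  obtain ⟨P, hP⟩ := (IsPGroup.of_card (p := 2) (n := j)
    (show Nat.card (Subgroup.zpowers b) = 2 ^ j by rw [Nat.card_zpowers, hj])).exists_le_sylow
  have hbP : b ∈ (P : Subgroup G) := hP (Subgroup.mem_zpowers b)
  have h2 : b * (x * b⁻¹ * x⁻¹) ∈ (P : Subgroup G) := mul_mem hbP ((h P).conj_mem _ (inv_mem hbP) x)
  rw [show b * (x * b⁻¹ * x⁻¹) = b * x * b⁻¹ * x⁻¹ by group, hb] at h2
  obtain ⟨i, hi⟩ := P.2 ⟨_, h2⟩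
  have hi' : (x⁻¹ * x⁻¹) ^ 2 ^ i = 1 := congrArg Subtype.val hi
  rw [← pow_two, ← pow_mul, inv_pow, inv_eq_one, ← pow_succ'] at hi'
  obtain ⟨k, hk⟩ := hx
  refine hx1 (orderOf_eq_one_iff.mp (Nat.eq_one_of_dvd_coprimes ?_ (orderOf_dvd_of_pow_eq_one hk)
    (orderOf_dvd_of_pow_eq_one hi')))
  exact ((Nat.coprime_primes hq.out Nat.prime_two).mpr hq2).pow k (i + 1)

lemma exists_inverted_of_not_normal {G : Type*} [Group G] [Finite G] (P : Sylow 2 G)
    (hP : ¬ (P : Subgroup G).Normal) :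
    ∃ (q : ℕ) (_ : Fact q.Prime), q ≠ 2 ∧ ∃ x g : G, x ≠ 1 ∧ (∃ k : ℕ, x ^ q ^ k = 1) ∧ g * x * g⁻¹ = x⁻¹ := by
  haveI : Fact (Nat.Prime 2) := ⟨Nat.prime_two⟩
  set O := Cfsg.pCore 2 G with hO
  haveI hOn : O.Normal := Cfsg.pCore_normal 2 G
  set f := QuotientGroup.mk' O with hf
  have hOP : O ≤ (P : Subgroup G) := Cores.pCore_le_sylow P
  have hne : (P : Subgroup G).map f ≠ ⊥ := by
    intro h
    rw [Subgroup.map_eq_bot_iff, hf, QuotientGroup.ker_mk'] at h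
    exact hP (le_antisymm hOP h ▸ hOn)
  haveI : Nontrivial ((P : Subgroup G).map f) := (Subgroup.bot_or_nontrivial _).resolve_left hne
  obtain ⟨n, hn, hcard⟩ := (IsPGroup.nontrivial_iff_card (P.2.map f)).mp inferInstance
  obtain ⟨a, ha⟩ := exists_prime_orderOf_dvd_card' (G := (P : Subgroup G).map f) 2
    (hcard ▸ dvd_pow_self 2 hn.ne')
  have ha' : orderOf (a : G ⧸ O) = 2 := by rw [Subgroup.orderOf_coe, ha]
  obtain ⟨x, hx1, hxo, hax⟩ := InvChar.exists_odd_inverted ha' (by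
    intro h
    have h' : (a : G ⧸ O) ∈ (⊥ : Subgroup (G ⧸ O)) := (Cores.pCore_quotient_pCore 2 G) ▸ h
    replace h := Subgroup.mem_bot.mp h'
    rw [h, orderOf_one] at ha'
    exact absurd ha' (by norm_num))
  set q := (orderOf x).minFac with hq
  have hqp : q.Prime := Nat.minFac_prime (fun h => hx1 (orderOf_eq_one_iff.mp h))
  haveI : Fact q.Prime := ⟨hqp⟩
  have hq2 : q ≠ 2 := fun h => by
    have := Nat.minFac_dvd (orderOf x)
    rw [← hq, h] at this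
    exact (Nat.not_even_iff_odd.mpr hxo) (even_iff_two_dvd.mpr this)
  set y := x ^ (orderOf x / q) with hy
  have hyo : orderOf y = q := orderOf_pow_orderOf_div (orderOf_pos x).ne' (Nat.minFac_dvd _)
  have hay : (a : G ⧸ O) * y * (a : G ⧸ O)⁻¹ = y⁻¹ := by rw [hy, ← conj_pow, hax, inv_pow]
  set K := (Subgroup.zpowers y).comap f with hK
  obtain ⟨a₀, ha₀⟩ := QuotientGroup.mk'_surjective O (a : G ⧸ O)
  have ha₀K : a₀ ∈ Subgroup.normalizer (K : Set G) := by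
    refine FusionControl.mem_normalizer_of_cj_le ?_
    rintro _ ⟨w, hw, rfl⟩
    obtain ⟨i, hi⟩ := Subgroup.mem_zpowers_iff.mp hw
    show f (a₀ * w * a₀⁻¹) ∈ Subgroup.zpowers y
    rw [map_mul, map_mul, map_inv, ha₀, ← hi, ← conj_zpow, hay]
    exact zpow_mem (inv_mem (Subgroup.mem_zpowers y)) i
  obtain ⟨R, -, hRK, hR, hRi⟩ := FusionControl.exists_sylow_in q K (bot_le : (⊥ : Subgroup G) ≤ K) IsPGroup.of_bot
  obtain ⟨c, hc, hcR⟩ := FusionControl.exists_frattini hRK hR hRi ha₀K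
  have hinj : ∀ w ∈ R, f w = 1 → w = 1 := fun w hw h =>
    Transfer.eq_one_of_isPGroup_of_coprime hR hw (by
      obtain ⟨i, hi⟩ := (Cores.pCore_isPGroup 2 G) ⟨w, (QuotientGroup.eq_one_iff w).mp h⟩
      exact (((Nat.coprime_primes Nat.prime_two hqp).mpr (Ne.symm hq2)).pow_left i).coprime_dvd_left
        (orderOf_dvd_of_pow_eq_one (congrArg Subtype.val hi)))
  have hRne : R ≠ ⊥ := fun h => hRi (by
    rw [h, Subgroup.relIndex_bot_left]
    have h1 := Subgroup.card_dvd_of_surjective (f.subgroupComap (Subgroup.zpowers y))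
      (MonoidHom.subgroupComap_surjective_of_surjective f _ (QuotientGroup.mk'_surjective O))
    rwa [Nat.card_zpowers, hyo] at h1)
  haveI : Nontrivial R := R.bot_or_nontrivial.resolve_left hRne
  obtain ⟨⟨w, hw⟩, hw1⟩ := exists_ne (1 : R)
  have hw1' : w ≠ 1 := fun h => hw1 (Subtype.ext h)
  obtain ⟨i, hi⟩ := hR ⟨w, hw⟩
  refine ⟨q, inferInstance, hq2, w, c * a₀, hw1', ⟨i, congrArg Subtype.val hi⟩, ?_⟩
  obtain ⟨r, hr⟩ := Subgroup.mem_zpowers_iff.mp (hRK hw)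
  obtain ⟨s, hs⟩ := Subgroup.mem_zpowers_iff.mp (hc : f c ∈ Subgroup.zpowers y)
  refine eq_inv_of_mul_eq_one_left (hinj _ (mul_mem ((Subgroup.mem_normalizer_iff.mp hcR w).mp hw) hw) ?_)
  rw [map_mul, map_mul, map_mul, map_inv, map_mul, ha₀]
  calc f c * (a : G ⧸ O) * f w * (f c * (a : G ⧸ O))⁻¹ * f w
      = f c * ((a : G ⧸ O) * f w * (a : G ⧸ O)⁻¹) * (f c)⁻¹ * f w := by group
    _ = y ^ s * (y ^ r)⁻¹ * (y ^ s)⁻¹ * y ^ r := by rw [← hr, ← hs, ← conj_zpow, hay, inv_zpow]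
    _ = 1 := by group

lemma main {G : Type*} [Group G] [Finite G]
    (h : ∀ (q : ℕ) [Fact q.Prime], q ≠ 2 → ∀ T : Sylow q G, ∀ x ∈ (T : Subgroup G), x ≠ 1 →
      ∀ g ∈ Subgroup.normalizer (Cfsg.centerThompsonAOf (T : Subgroup G) : Set G), g * x * g⁻¹ ≠ x⁻¹) :
    ∀ P : Sylow 2 G, (P : Subgroup G).Normal := by
  intro P
  by_contra hP
  obtain ⟨q, _, hq2, x, g, hx1, hxq, he⟩ := exists_inverted_of_not_normal P hP
  obtain ⟨T⟩ : Nonempty (Sylow q G) := inferInstance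
  obtain ⟨y, hy, hy1, n, hn, hyn⟩ := PLocal.exists_inverted_in_normalizer hq2 T hx1 hxq he
  exact h q hq2 T y hy hy1 n hn hyn

lemma sub {G : Type*} [Group G] [Finite G] (h : ∀ P : Sylow 2 G, (P : Subgroup G).Normal) (N : Subgroup G)
    (P : Sylow 2 N) : (P : Subgroup N).Normal := by
  haveI : Fact (Nat.Prime 2) := ⟨Nat.prime_two⟩
  obtain ⟨P₀⟩ : Nonempty (Sylow 2 G) := inferInstance
  haveI := h P₀
  have hp : IsPGroup 2 ((P₀ : Subgroup G).subgroupOf N) := P₀.2.comap_of_injective N.subtype N.subtype_injective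
  let Q : Sylow 2 N := hp.toSylow (fun hd => P₀.not_dvd_index
    (hd.trans (Subgroup.relIndex_dvd_index_of_normal (P₀ : Subgroup G) N)))
  haveI : (Q : Subgroup N).Normal := by
    show ((P₀ : Subgroup G).subgroupOf N).Normal
    infer_instance
  haveI : Unique (Sylow 2 N) := Sylow.unique_of_normal Q inferInstance
  rw [Subsingleton.elim P Q]
  infer_instance

/-- For a finite group G the following are equivalent: (a) G has a normal Sylow 2-subgroup; (b) for every odd prime q dividing the order of G and every Sylow q-subgroup T, the normalizer of Z(J(T)) has a normal Sylow 2-subgroup; (c) for every odd prime q and every Sylow q-subgroup T, no nonidentity element of T is inverted by an element of the normalizer of Z(J(T)). Here J(T) is the Thompson subgroup generated by the abelian subgroups of T of largest order. Stated as the two equivalences (a) ⇔ (b) and (a) ⇔ (c). -/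
theorem result {G : Type*} [Group G] [Finite G] : ((∀ P : Sylow 2 G, (P : Subgroup G).Normal) ↔ ∀ (q : ℕ) [Fact q.Prime], q ≠ 2 → q ∣ Nat.card G → ∀ T : Sylow q G, ∀ P : Sylow 2 ↥(Subgroup.normalizer (Cfsg.centerThompsonAOf (T : Subgroup G) : Set G)), (P : Subgroup ↥(Subgroup.normalizer (Cfsg.centerThompsonAOf (T : Subgroup G) : Set G))).Normal) ∧ ((∀ P : Sylow 2 G, (P : Subgroup G).Normal) ↔ ∀ (q : ℕ) [Fact q.Prime], q ≠ 2 → ∀ T : Sylow q G, ∀ x ∈ (T : Subgroup G), x ≠ 1 → ∀ g ∈ Subgroup.normalizer (Cfsg.centerThompsonAOf (T : Subgroup G) : Set G), g * x * g⁻¹ ≠ x⁻¹) := by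
  have hac : (∀ P : Sylow 2 G, (P : Subgroup G).Normal) → ∀ (q : ℕ) [Fact q.Prime], q ≠ 2 →
      ∀ T : Sylow q G, ∀ x ∈ (T : Subgroup G), x ≠ 1 →
      ∀ g ∈ Subgroup.normalizer (Cfsg.centerThompsonAOf (T : Subgroup G) : Set G), g * x * g⁻¹ ≠ x⁻¹ :=
    fun h q _ hq T x hx hx1 g _ => by
      obtain ⟨k, hk⟩ := T.2 ⟨x, hx⟩
      exact not_inverted_of_normal h hq ⟨k, congrArg Subtype.val hk⟩ hx1 g
  refine ⟨⟨fun h q _ _ _ T P => sub h _ P, fun h => main ?_⟩, ⟨hac, main⟩⟩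
  intro q _ hq T x hx hx1 g hg he
  obtain ⟨k, hk⟩ := T.2 ⟨x, hx⟩
  have hqdvd : q ∣ Nat.card G := by
    have h1 : orderOf x ∣ q ^ k := orderOf_dvd_of_pow_eq_one (congrArg Subtype.val hk)
    obtain ⟨i, -, hi⟩ := (Nat.dvd_prime_pow Fact.out).mp h1
    rcases i.eq_zero_or_pos with rfl | hi0
    · exact absurd (orderOf_eq_one_iff.mp (by rw [hi, pow_zero])) hx1
    exact (hi ▸ dvd_pow_self q hi0.ne' : q ∣ orderOf x).trans (orderOf_dvd_natCard x)
  have hxN : x ∈ Subgroup.normalizer (Cfsg.centerThompsonAOf (T : Subgroup G) : Set G) := by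
    rw [← Cfsg.Agent.Lib.PLocal.zIn_zero_eq]
    exact (Subgroup.le_normalizer.trans (Cfsg.Agent.Lib.PLocal.normalizer_le_normalizer_zIn 0 _)) hx
  exact not_inverted_of_normal (h q hq hqdvd T) hq (x := ⟨x, hxN⟩) ⟨k, Subtype.ext (congrArg Subtype.val hk :)⟩
    (fun e => hx1 (congrArg Subtype.val e)) ⟨g, hg⟩ (Subtype.ext he)

end Cfsg.Agent.S2756
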