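import Cfsg.Statements.S2758
import Cfsg.Agent.Lib.LocalEven.Residual

set_option autoImplicit false
open Cfsg Cfsg.Agent Cfsg.Agent.Lib.LocalEven

namespace Cfsg.Agent.S2758

theorem dih_surj {Q : Type*} [Group Q] {p : ℕ} [Fact p.Prime] (hp : p ≠ 2) (a b : Q) (ha : a ^ p = 1) (hb : b * b = 1)
    (hab : b * a * b⁻¹ = a⁻¹) (ha1 : a ≠ 1) (hgen : Subgroup.closure {a, b} = ⊤) :
    Nonempty (DihedralGroup p ≃* Q) := by
  haveI : NeZero p := ⟨(Fact.out : p.Prime).ne_zero⟩
  have hord : orderOf a = p := orderOf_eq_prime ha ha1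
  let e : ZMod p → Q := fun i => a ^ i.val
  have he : ∀ i j, e (i + j) = e i * e j := fun i j => by
    simp only [e]
    rw [ZMod.val_add, ← pow_add, ← pow_mod_orderOf a (i.val + j.val), hord]
  have he0 : e 0 = 1 := by simp [e]
  have hen : ∀ i, e (-i) = (e i)⁻¹ := fun i => by
    apply eq_inv_of_mul_eq_one_left
    rw [← he, neg_add_cancel, he0]
  have hbinv : b⁻¹ = b := inv_eq_of_mul_eq_one_right hb
  have hba : ∀ i, b * e i * b⁻¹ = e (-i) := fun i => by
    rw [hen]
    simp only [e]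
    rw [← conj_pow, hab, inv_pow]
  have hswap : ∀ i, e i * b = b * e (-i) := fun i => by
    have h := hba (-i)
    rw [neg_neg] at h
    rw [← h, inv_mul_cancel_right]
  let φ : DihedralGroup p →* Q := MonoidHom.mk' (fun g => match g with
    | DihedralGroup.r i => e i
    | DihedralGroup.sr i => b * e i) (by
    rintro (i | i) (j | j)
    · exact he i j
    · show b * e (j - i) = e i * (b * e j)
      rw [← mul_assoc (e i) b, hswap, mul_assoc, ← he]; ring_nf
    · show b * e (i + j) = b * e i * e j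
      rw [he, mul_assoc]
    · show e (j - i) = b * e i * (b * e j)
      rw [mul_assoc, ← mul_assoc (e i) b, hswap, ← mul_assoc, ← mul_assoc, hb, one_mul, ← he]; ring_nf)
  refine ⟨MulEquiv.ofBijective φ ⟨?_, ?_⟩⟩
  · rw [injective_iff_map_eq_one]
    rintro (i | i) h
    · change e i = 1 at h
      have h2 : orderOf a ∣ i.val := orderOf_dvd_of_pow_eq_one h
      rw [hord] at h2
      have := Nat.eq_zero_of_dvd_of_lt h2 (ZMod.val_lt i)
      rw [ZMod.val_eq_zero] at this
      rw [this, DihedralGroup.r_zero]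
    · exfalso
      change b * e i = 1 at h
      have hb' : b = e (-i) := by rw [hen]; exact eq_inv_of_mul_eq_one_left h
      have h3 : a = a⁻¹ := by
        conv_rhs => rw [← hab, hb']
        show a = a ^ (-i).val * a * (a ^ (-i).val)⁻¹
        rw [← pow_succ, pow_succ', mul_inv_cancel_right]
      have h4 : orderOf a ∣ 2 := orderOf_dvd_of_pow_eq_one (by rw [pow_two]; nth_rw 2 [h3]; rw [mul_inv_cancel])
      rw [hord] at h4
      exact hp ((Nat.prime_dvd_prime_iff_eq Fact.out Nat.prime_two).1 h4)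
  · rw [← MonoidHom.range_eq_top, eq_top_iff, ← hgen, Subgroup.closure_le]
    rintro x (h | h) <;> rw [h]
    · refine ⟨DihedralGroup.r 1, ?_⟩
      show a ^ (1 : ZMod p).val = a
      rw [ZMod.val_one, pow_one]
    · exact ⟨DihedralGroup.sr 0, by show b * a ^ (0 : ZMod p).val = b; simp⟩

variable {G : Type*} [Group G] [Finite G] {p : ℕ} [Fact p.Prime]

theorem inv_to_involves (hp : p ≠ 2) {x y : G} (hx : ∃ k : ℕ, orderOf x = 2 ^ k) (hy : ∃ k : ℕ, orderOf y = p ^ k)
    (hy1 : y ≠ 1) (hxy : x * y * x⁻¹ = y⁻¹) : Cfsg.Involves (DihedralGroup p) G := by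
  obtain ⟨k, hk⟩ := hy
  obtain ⟨l, hl⟩ := hx
  rcases k with _ | k
  · rw [pow_zero, orderOf_eq_one_iff] at hk; exact absurd hk hy1
  set z := y ^ p ^ k with hz
  have hzp : z ^ p = 1 := by rw [hz, ← pow_mul, ← pow_succ, ← hk, pow_orderOf_eq_one]
  have hz1 : z ≠ 1 := fun h => by
    have := orderOf_dvd_of_pow_eq_one h
    rw [hk, Nat.pow_dvd_pow_iff_le_right (Fact.out : p.Prime).one_lt] at this
    omega
  have hxz : x * z * x⁻¹ = z⁻¹ := by rw [hz, ← conj_pow, hxy, inv_pow]
  set K := Subgroup.closure ({z, x} : Set G) with hK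
  set R : Subgroup G := Subgroup.zpowers (x * x) with hR
  have hcomm : K ≤ Subgroup.centralizer ({x * x} : Set G) := by
    rw [hK, Subgroup.closure_le]
    rintro w (h | h) <;> rw [h, SetLike.mem_coe, Subgroup.mem_centralizer_singleton_iff]
    · have h2 : x * x * z * (x * x)⁻¹ = z := by
        calc x * x * z * (x * x)⁻¹ = x * (x * z * x⁻¹) * x⁻¹ := by group
          _ = (x * z * x⁻¹)⁻¹ := by rw [hxz, inv_inv, ← conj_inv, hxz, inv_inv]
          _ = z := by rw [hxz, inv_inv]
      exact (mul_inv_eq_iff_eq_mul.1 h2).symm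
    · exact (mul_assoc _ _ _).symm
  have hn : (R.subgroupOf K).Normal := ⟨fun n hn g => by
    rw [Subgroup.mem_subgroupOf] at hn ⊢
    obtain ⟨m, hm⟩ := Subgroup.mem_zpowers_iff.1 hn
    have hc : Commute (g : G) (x * x) := Subgroup.mem_centralizer_singleton_iff.1 (hcomm g.2)
    show (g : G) * (n : G) * (g : G)⁻¹ ∈ R
    rw [← hm, (hc.zpow_right m).eq, mul_inv_cancel_right]
    exact Subgroup.zpow_mem _ (Subgroup.mem_zpowers _) m⟩
  let z' : ↥K := ⟨z, Subgroup.subset_closure (Or.inl rfl)⟩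
  let x' : ↥K := ⟨x, Subgroup.subset_closure (Or.inr rfl)⟩
  let π := QuotientGroup.mk' (R.subgroupOf K)
  have hzR : z ∉ R := fun h => by
    obtain ⟨m, hm⟩ := Subgroup.mem_zpowers_iff.1 h
    have h1 : z ^ 2 ^ l = 1 := by
      rw [← hm, ← zpow_natCast, zpow_comm, ← pow_two, zpow_natCast, ← pow_mul, mul_comm, pow_mul, ← hl,
        pow_orderOf_eq_one, one_pow, one_zpow]
    exact hz1 (eq_one_of_coprime_of_pow
      (Nat.Coprime.coprime_dvd_left (orderOf_dvd_of_pow_eq_one hzp)
        ((Nat.coprime_primes Fact.out Nat.prime_two).2 hp)) h1)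
  refine ⟨K, R, hn, ⟨((dih_surj hp (π z') (π x') ?_ ?_ ?_ ?_ ?_).some).symm⟩⟩
  · rw [← map_pow, show z' ^ p = 1 from Subtype.ext hzp, map_one]
  · rw [← map_mul]
    exact (QuotientGroup.eq_one_iff _).2 (Subgroup.mem_zpowers (x * x))
  · rw [← map_inv, ← map_mul, ← map_mul, ← map_inv]
    exact congrArg π (Subtype.ext hxz)
  · intro h
    exact hzR ((QuotientGroup.eq_one_iff _).1 h : z' ∈ R.subgroupOf K)
  · have h1 : Subgroup.closure ({z', x'} : Set ↥K) = ⊤ := by
      refine (Subgroup.map_injective K.subtype_injective) ?_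
      rw [MonoidHom.map_closure, ← MonoidHom.range_eq_map, Subgroup.range_subtype, Set.image_pair]
      rfl
    rw [← Set.image_pair, ← MonoidHom.map_closure, h1, Subgroup.map_top_of_surjective _ (QuotientGroup.mk'_surjective _)]

theorem norm_to_inv {x : G} {P : Subgroup G} (hx : ∃ k : ℕ, orderOf x = 2 ^ k) (hP : IsPGroup p P)
    (hn : x ∈ Subgroup.normalizer (P : Set G)) (hc : x ∉ Subgroup.centralizer (P : Set G)) :
    ∃ x y : G, (∃ k : ℕ, orderOf x = 2 ^ k) ∧ (∃ k : ℕ, orderOf y = p ^ k) ∧ y ≠ 1 ∧ x * y * x⁻¹ = y⁻¹ := by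
  classical
  obtain ⟨l, hl⟩ := hx
  have hex : ∃ j, x ^ 2 ^ j ∈ Subgroup.centralizer (P : Set G) := ⟨l, by rw [← hl, pow_orderOf_eq_one]; exact one_mem _⟩
  set j := Nat.find hex with hj
  have hj0 : j ≠ 0 := fun h => hc (by have := Nat.find_spec hex; rwa [← hj, h, pow_zero, pow_one] at this)
  obtain ⟨i, hi⟩ := Nat.exists_eq_succ_of_ne_zero hj0
  set z := x ^ 2 ^ i with hz
  have hznc : z ∉ Subgroup.centralizer (P : Set G) := Nat.find_min hex (by omega)
  have hz2 : z * z ∈ Subgroup.centralizer (P : Set G) := by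
    have := Nat.find_spec hex
    rwa [← hj, hi, pow_succ, pow_mul, pow_two] at this
  have hzN : z ∈ Subgroup.normalizer (P : Set G) := pow_mem hn _
  rw [Subgroup.mem_centralizer_iff] at hznc
  push Not at hznc
  obtain ⟨v, hv, hvz⟩ := hznc
  set y := v⁻¹ * (z * v * z⁻¹) with hy
  have hyP : y ∈ P := mul_mem (inv_mem hv) ((Subgroup.mem_normalizer_iff.1 hzN v).1 hv)
  refine ⟨z, y, ?_, ?_, ?_, ?_⟩
  · exact ((Nat.dvd_prime_pow Nat.prime_two).1 (hl ▸ orderOf_pow_dvd _)).imp fun k hk => hk.2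
  · obtain ⟨k, hk⟩ := hP ⟨y, hyP⟩
    exact ((Nat.dvd_prime_pow Fact.out).1 (orderOf_dvd_of_pow_eq_one (congrArg Subtype.val hk))).imp fun k hk => hk.2
  · intro h
    rw [hy, inv_mul_eq_one] at h
    exact hvz (eq_mul_inv_iff_mul_eq.1 h)
  · have h2 : z * z * v = v * (z * z) := ((Subgroup.mem_centralizer_iff.1 hz2) v hv).symm
    calc z * y * z⁻¹ = z * v⁻¹ * z⁻¹ * ((z * z * v) * (z * z)⁻¹) := by rw [hy]; group
      _ = z * v⁻¹ * z⁻¹ * v := by rw [h2, mul_inv_cancel_right]
      _ = y⁻¹ := by rw [hy]; group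

theorem involves_to_norm (hp : p ≠ 2) (h : Cfsg.Involves (DihedralGroup p) G) :
    ∃ (x : G) (P : Subgroup G), (∃ k : ℕ, orderOf x = 2 ^ k) ∧ IsPGroup p ↥P ∧
      x ∈ Subgroup.normalizer (P : Set G) ∧ x ∉ Subgroup.centralizer (P : Set G) := by
  classical
  obtain ⟨K, R, hn, ⟨e⟩⟩ := h
  set f : ↥K →* DihedralGroup p := e.toMonoidHom.comp (QuotientGroup.mk' (R.subgroupOf K)) with hf
  have hfs : Function.Surjective f := e.surjective.comp (QuotientGroup.mk'_surjective _)
  haveI : NeZero p := ⟨(Fact.out : p.Prime).ne_zero⟩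
  set A := Subgroup.zpowers (DihedralGroup.r (1 : ZMod p)) with hA
  haveI : A.Normal := Subgroup.normal_of_index_eq_two (by
    have h1 := A.card_mul_index
    rw [hA, Nat.card_zpowers, DihedralGroup.orderOf_r_one, DihedralGroup.nat_card, mul_comm 2 p] at h1
    exact Nat.eq_of_mul_eq_mul_left (Fact.out : p.Prime).pos h1)
  set M := A.comap f with hM
  let Q : Sylow p ↥M := default
  set P₀ := (Q : Subgroup ↥M).map M.subtype with hP₀
  have hsup := Sylow.normalizer_sup_eq_top Q
  obtain ⟨g, hg⟩ := hfs (DihedralGroup.sr 0)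
  obtain ⟨n, hnn, m, hm, hnm⟩ : ∃ n ∈ Subgroup.normalizer (P₀ : Set ↥K), ∃ m ∈ M, g = n * m := by
    have : g ∈ ((Subgroup.normalizer (P₀ : Set ↥K) ⊔ M : Subgroup ↥K) : Set ↥K) := by
      rw [hP₀, hsup]; trivial
    rw [Subgroup.mul_normal] at this
    obtain ⟨n, hn, m, hm, h⟩ := this
    exact ⟨n, hn, m, hm, h.symm⟩
  obtain ⟨i, hi⟩ : ∃ i, f n = DihedralGroup.sr i := by
    rcases hcase : f n with i | i
    · exfalso
      have h1 : f g ∈ A := by
        rw [hnm, map_mul, hcase]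
        refine mul_mem ?_ hm
        rw [hA, show DihedralGroup.r i = DihedralGroup.r 1 ^ i.val by simp]
        exact pow_mem (Subgroup.mem_zpowers _) _
      rw [hg, hA, Subgroup.mem_zpowers_iff] at h1
      obtain ⟨k, hk⟩ := h1
      rw [DihedralGroup.r_one_zpow] at hk
      cases hk
    · exact ⟨i, rfl⟩
  -- 2-part of `n`
  set o := orderOf n with ho
  set q := o.factorization 2 with hq
  set x := n ^ (o / 2 ^ q) with hx
  have hodd : Odd (o / 2 ^ q) := Nat.not_even_iff_odd.1 fun h =>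
    Nat.not_dvd_ordCompl Nat.prime_two (orderOf_pos n).ne' h.two_dvd
  have hfx : f x = DihedralGroup.sr i := by
    obtain ⟨t, ht⟩ := hodd
    rw [hx, map_pow, hi, ht, pow_succ, pow_mul, pow_two, DihedralGroup.sr_mul_self, one_pow, one_mul]
  refine ⟨(x : G), P₀.map K.subtype, ?_, ((Q.isPGroup'.map _).map _), ?_, ?_⟩
  · have hd : orderOf (x : G) ∣ 2 ^ q := by
      rw [Subgroup.orderOf_coe]
      refine orderOf_dvd_of_pow_eq_one ?_
      rw [hx, ← pow_mul, mul_comm, Nat.ordProj_mul_ordCompl_eq_self, ho, pow_orderOf_eq_one]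
    obtain ⟨k, -, hk⟩ := (Nat.dvd_prime_pow Nat.prime_two).1 hd
    exact ⟨k, hk⟩
  · exact Subgroup.le_normalizer_map K.subtype ⟨x, pow_mem hnn _, rfl⟩
  · intro hc
    have hAsub : A ≤ P₀.map f := by
      set B := P₀.map f with hB
      have hBA : B ≤ A := by
        rw [hB, Subgroup.map_le_iff_le_comap]; exact Subgroup.map_subtype_le _
      have hAc : (Nat.card A).Prime := by rw [hA, Nat.card_zpowers, DihedralGroup.orderOf_r_one]; exact Fact.out
      rcases (Nat.dvd_prime hAc).1 (Subgroup.card_dvd_of_le hBA) with h1 | h1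
      · exfalso
        -- the image of a Sylow subgroup of `M` is nontrivial
        let fM : ↥M →* ↥A := f.subgroupComap A
        have hfMs : Function.Surjective fM := by
          rintro ⟨a, ha⟩
          obtain ⟨k, rfl⟩ := hfs a
          exact ⟨⟨k, ha⟩, rfl⟩
        let Q' := Q.mapSurjective hfMs
        have hQ' : (Q' : Subgroup ↥A) = ⊤ := by
          refine Subgroup.eq_top_of_card_eq _ ?_
          rw [Q'.card_eq_multiplicity, show Nat.card ↥A = p by rw [hA, Nat.card_zpowers, DihedralGroup.orderOf_r_one],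
            (Fact.out : p.Prime).factorization_self, pow_one]
        have h2 : (⟨DihedralGroup.r 1, Subgroup.mem_zpowers _⟩ : ↥A) ∈ (Q' : Subgroup ↥A) := by rw [hQ']; trivial
        rw [Sylow.coe_mapSurjective] at h2
        obtain ⟨w, hw, hwe⟩ := h2
        have h3 : f (w : ↥K) ∈ B := Subgroup.mem_map_of_mem f (Subgroup.mem_map_of_mem M.subtype hw)
        rw [Subgroup.eq_bot_of_card_eq B h1, Subgroup.mem_bot] at h3
        have h4 := orderOf_eq_one_iff.2 (show DihedralGroup.r (1 : ZMod p) = 1 from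
          (congrArg Subtype.val hwe).symm.trans h3)
        rw [DihedralGroup.orderOf_r_one] at h4
        exact (Fact.out : p.Prime).ne_one h4
      · exact (Subgroup.eq_of_le_of_card_ge hBA h1.ge).ge
    obtain ⟨w, hw, hwe⟩ := hAsub (Subgroup.mem_zpowers (DihedralGroup.r (1 : ZMod p)))
    have h1 : (w : G) * (x : G) = (x : G) * (w : G) :=
      Subgroup.mem_centralizer_iff.1 hc _ (Subgroup.mem_map_of_mem _ hw)
    have h2 := congrArg f (show w * x = x * w from Subtype.ext h1)
    rw [map_mul, map_mul, hwe, hfx, DihedralGroup.r_mul_sr, DihedralGroup.sr_mul_r] at h2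
    injection h2 with h3
    have h4 : (2 : ZMod p) = 0 := by linear_combination -h3
    have h5 : ((2 : ℕ) : ZMod p) = 0 := by simpa using h4
    rw [ZMod.natCast_eq_zero_iff] at h5
    exact hp ((Nat.prime_dvd_prime_iff_eq Fact.out Nat.prime_two).1 h5)

/-- For an odd prime p and a finite group G the following are equivalent: the dihedral group of order 2p is involved in G; some element of 2-power order normalizes but does not centralize some p-subgroup of G; some element of 2-power order inverts some nonidentity element of p-power order. -/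
theorem result {G : Type*} [Group G] [Finite G] {p : ℕ} [Fact p.Prime] (hp : p ≠ 2) : (Cfsg.Involves (DihedralGroup p) G ↔ ∃ (x : G) (P : Subgroup G), (∃ k : ℕ, orderOf x = 2 ^ k) ∧ IsPGroup p ↥P ∧ x ∈ Subgroup.normalizer (P : Set G) ∧ x ∉ Subgroup.centralizer (P : Set G)) ∧ (Cfsg.Involves (DihedralGroup p) G ↔ ∃ x y : G, (∃ k : ℕ, orderOf x = 2 ^ k) ∧ (∃ k : ℕ, orderOf y = p ^ k) ∧ y ≠ 1 ∧ x * y * x⁻¹ = y⁻¹) := by
  refine ⟨⟨involves_to_norm hp, fun ⟨x, P, hx, hP, hn, hc⟩ => ?_⟩, ⟨fun h => ?_, fun ⟨x, y, hx, hy, hy1, hxy⟩ =>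
    inv_to_involves hp hx hy hy1 hxy⟩⟩
  · obtain ⟨x', y, hx', hy, hy1, hxy⟩ := norm_to_inv hx hP hn hc
    exact inv_to_involves hp hx' hy hy1 hxy
  · obtain ⟨x, P, hx, hP, hn, hc⟩ := involves_to_norm hp h
    exact norm_to_inv hx hP hn hc

end Cfsg.Agent.S2758
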