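import Cfsg.Statements.S2760
import Cfsg.Agent.Lib.LocalEven.Subnormal

set_option autoImplicit false
open Cfsg Cfsg.Agent.Lib.LocalEven
open scoped commutatorElement

namespace Cfsg.Agent.S2760

/-- Let G be a finite group with C_G(O₂(G)) ≤ O₂(G) and H a subgroup of G such that H is normal in G, or the subgroup O²(H) generated by the elements of H of odd order is normal in G. Then C_H(O₂(H)) ≤ O₂(H). -/
theorem result {G : Type*} [Group G] [Finite G] (hchar : Subgroup.centralizer (Cfsg.pCore 2 G : Set G) ≤ Cfsg.pCore 2 G) (H : Subgroup G) (hH : H.Normal ∨ ((Cfsg.pResidual 2 ↥H).map H.subtype).Normal) : Subgroup.centralizer (Cfsg.pCore 2 ↥H : Set ↥H) ≤ Cfsg.pCore 2 ↥H := by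
  set R := (Cfsg.pResidual 2 ↥H).map H.subtype with hR
  have hR' : R = pResOf 2 H := rfl
  have hRn : R.Normal := by
    rcases hH with hn | hn
    · refine normal_of_le_normalizer ?_
      rw [hR']; exact le_normalizer_pResOf (normal_top_le_normalizer hn)
    · exact hn
  have hCn : ⊤ ≤ Subgroup.normalizer ((R ⊓ Subgroup.centralizer (Cfsg.pCoreOf 2 R : Set G) : Subgroup G) : Set G) := by
    refine le_normalizer_inf (normal_top_le_normalizer hRn) (le_normalizer_centralizer ?_)
    rw [le_normalizer_iff_forall]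
    intro g _
    rw [conjS_pCoreOf, conjS_normal]
  set C := R ⊓ Subgroup.centralizer (Cfsg.pCoreOf 2 R : Set G) with hC
  have hRcore : ∀ g ∈ Cfsg.pCore 2 G, g ∈ R → g ∈ Cfsg.pCoreOf 2 R := fun g hg hgR => by
    have := pCore_normal 2 G
    exact le_pCoreOf (N := Cfsg.pCore 2 G ⊓ R) inf_le_right (le_normalizer_of_normal R _)
      ((pCore_isPGroup 2 G).to_inf_left) ⟨hg, hgR⟩
  have hCp : IsPGroup 2 C := by
    refine isPGroup_of_pResOf_eq_bot ?_
    rw [← pResOf_pResOf]
    refine pResOf_eq_bot_of_isPGroup ((pCore_isPGroup 2 G).to_le (le_trans ?_ hchar))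
    refine pResOf_le_centralizer fun x hxC hx => ?_
    intro g hg
    have hcom : x * g * x⁻¹ * g⁻¹ ∈ Cfsg.pCore 2 G :=
      mul_mem ((pCore_normal 2 G).conj_mem g hg x) (inv_mem hg)
    have hcomR : x * g * x⁻¹ * g⁻¹ ∈ R := by
      have := mul_mem hxC.1 (hRn.conj_mem _ (inv_mem hxC.1) g)
      simpa [mul_assoc] using this
    have h3 : x * g * x⁻¹ * g⁻¹ ∈ Subgroup.centralizer ({x} : Set G) := by
      rw [Subgroup.mem_centralizer_singleton_iff]
      exact Subgroup.mem_centralizer_iff.1 hxC.2 _ (hRcore _ hcom hcomR)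
    exact Subgroup.mem_centralizer_singleton_iff.2
      (commute_mem_of_coprime_stab (pCore_isPGroup 2 G) hx hcom h3).eq.symm
  have hCcore : C ≤ Cfsg.pCoreOf 2 R := le_pCoreOf inf_le_left (le_top.trans hCn) hCp
  rw [charPCore_iff]
  set D := H ⊓ Subgroup.centralizer (Cfsg.pCoreOf 2 H : Set G) with hD
  have hRH : R ≤ H := Subgroup.map_subtype_le _
  have hsub : Cfsg.pCoreOf 2 R ≤ Cfsg.pCoreOf 2 H := by
    refine le_pCoreOf ((pCoreOf_le R).trans hRH) ?_ (pCoreOf_isPGroup R)
    rw [le_normalizer_iff_forall]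
    intro g _
    rw [conjS_pCoreOf, conjS_normal]
  refine le_pCoreOf inf_le_left (le_normalizer_inf Subgroup.le_normalizer
    (le_normalizer_centralizer (le_normalizer_pCoreOf H))) (isPGroup_of_pResOf_eq_bot ?_)
  rw [← pResOf_pResOf]
  refine pResOf_eq_bot_of_isPGroup ((pCoreOf_isPGroup R).to_le (le_trans ?_ hCcore))
  rw [pResOf_le_iff]
  intro x hx hc
  refine Subgroup.mem_inf.2 ⟨by rw [hR']; exact mem_pResOf_of_coprime hx.1 hc, ?_⟩
  exact Subgroup.centralizer_le hsub hx.2

end Cfsg.Agent.S2760
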