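import Cfsg.Statements.S2762
import Cfsg.Agent.Lib.LocalEven.Qd

set_option autoImplicit false
open Cfsg Cfsg.Agent Cfsg.Agent.Lib.LocalEven

namespace Cfsg.Agent.S2762

/-- Structure of Qd over a finite field F of characteristic p (the affine subgroup of SL₃(F)): its largest normal p-subgroup is the group of translations (matrices with upper-left block the identity), the block-diagonal matrices form a complement isomorphic to SL₂(F), and the translation subgroup is a natural SL₂(F)-module for that complement. -/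
theorem result {F : Type*} [Field F] [Fintype F] {p : ℕ} [Fact p.Prime] [CharP F p] : (∀ M : ↥(Cfsg.qdOver F), M ∈ Cfsg.pCore p ↥(Cfsg.qdOver F) ↔ ((M : Matrix.SpecialLinearGroup (Fin 3) F) : Matrix (Fin 3) (Fin 3) F) 0 0 = 1 ∧ ((M : Matrix.SpecialLinearGroup (Fin 3) F) : Matrix (Fin 3) (Fin 3) F) 0 1 = 0 ∧ ((M : Matrix.SpecialLinearGroup (Fin 3) F) : Matrix (Fin 3) (Fin 3) F) 1 0 = 0 ∧ ((M : Matrix.SpecialLinearGroup (Fin 3) F) : Matrix (Fin 3) (Fin 3) F) 1 1 = 1) ∧ ∃ K : Subgroup ↥(Cfsg.qdOver F), (∀ M : ↥(Cfsg.qdOver F), M ∈ K ↔ ((M : Matrix.SpecialLinearGroup (Fin 3) F) : Matrix (Fin 3) (Fin 3) F) 0 2 = 0 ∧ ((M : Matrix.SpecialLinearGroup (Fin 3) F) : Matrix (Fin 3) (Fin 3) F) 1 2 = 0) ∧ K ⊓ Cfsg.pCore p ↥(Cfsg.qdOver F) = ⊥ ∧ K ⊔ Cfsg.pCore p ↥(Cfsg.qdOver F) = ⊤ ∧ Nonempty (↥K ≃* Matrix.SpecialLinearGroup (Fin 2) F) ∧ Cfsg.IsNaturalSL2Module F (Cfsg.pCore p ↥(Cfsg.qdOver F)) K := by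
  have hker := Qd.pCore_eq_ker (F := F) (p := p)
  have hV : ∀ M : ↥(Cfsg.qdOver F), M ∈ Cfsg.pCore p ↥(Cfsg.qdOver F) ↔ ∃ v, M = Qd.el 1 v := fun M => by
    rw [hker]; exact Qd.mem_ker_proj_iff
  let ι : Matrix.SpecialLinearGroup (Fin 2) F →* ↥(Cfsg.qdOver F) :=
    MonoidHom.mk' (fun g => Qd.el g 0) fun g h => by rw [Qd.el_mul]; simp
  have hι : ∀ g, ι g = Qd.el g 0 := fun g => rfl
  refine ⟨fun M => ?_, ι.range, fun M => ?_, ?_, ?_, ⟨(MonoidHom.ofInjective fun g h e => ?_).symm⟩, ?_⟩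
  · rw [hV]
    obtain ⟨g, v, rfl⟩ := Qd.el_surj M
    constructor
    · rintro ⟨w, hw⟩
      rw [hw]; simp [Qd.el, Qd.aff]
    · rintro ⟨h1, h2, h3, h4⟩
      refine ⟨v, ?_⟩
      have : g = 1 := by
        refine Subtype.ext (Matrix.ext fun i j => ?_)
        simp [Qd.el, Qd.aff] at h1 h2 h3 h4
        fin_cases i <;> fin_cases j <;> simp <;> assumption
      rw [this]
  · obtain ⟨g, v, rfl⟩ := Qd.el_surj M
    constructor
    · rintro ⟨h, e⟩
      rw [← e, hι]; simp [Qd.el, Qd.aff]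
    · rintro ⟨h1, h2⟩
      refine ⟨g, ?_⟩
      have : v = 0 := by
        funext i
        simp [Qd.el, Qd.aff] at h1 h2
        fin_cases i <;> simp <;> assumption
      rw [this]; rfl
  · refine (Subgroup.eq_bot_iff_forall _).2 fun M hM => ?_
    obtain ⟨hK, hM⟩ := Subgroup.mem_inf.1 hM
    obtain ⟨g, rfl⟩ := hK
    obtain ⟨w, hw⟩ := (hV _).1 hM
    rw [hι] at hw
    obtain ⟨rfl, rfl⟩ := Qd.aff_injective (congrArg Subtype.val hw)
    exact Qd.el_one
  · refine eq_top_iff.2 fun M _ => ?_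
    obtain ⟨g, v, rfl⟩ := Qd.el_surj M
    have : Qd.el g v = Qd.el 1 v * ι g := by rw [hι, Qd.el_mul]; simp
    rw [this]
    exact mul_mem (Subgroup.mem_sup_right ((hV _).2 ⟨v, rfl⟩)) (Subgroup.mem_sup_left ⟨g, rfl⟩)
  · exact (Qd.aff_injective (congrArg Subtype.val e)).1
  · let f : (Fin 2 → F) →+ Additive ↥(Cfsg.pCore p ↥(Cfsg.qdOver F)) :=
      AddMonoidHom.mk' (fun v => Additive.ofMul ⟨Qd.el 1 v, (hV _).2 ⟨v, rfl⟩⟩) fun v w => by
        apply Additive.toMul.injective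
        exact Subtype.ext (Qd.trans_mul v w).symm
    have hf : Function.Bijective f := by
      refine ⟨fun v w h => (Qd.aff_injective (congrArg
        (fun z : Additive ↥(Cfsg.pCore p ↥(Cfsg.qdOver F)) => (Additive.toMul z).1.1) h)).2, fun z => ?_⟩
      obtain ⟨v, hv⟩ := (hV _).1 (Additive.toMul z).2
      exact ⟨v, Additive.toMul.injective (Subtype.ext hv.symm)⟩
    haveI : (Cfsg.pCore p ↥(Cfsg.qdOver F)).Normal := pCore_normal p _
    refine ⟨le_normalizer_of_normal _ _, Qd.proj.comp ι.range.subtype, (AddEquiv.ofBijective f hf).symm,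
      fun g => ⟨⟨ι g, g, rfl⟩, Qd.proj_el g 0⟩, ?_, ?_⟩
    · ext ⟨_, g, rfl⟩
      rw [MonoidHom.mem_ker, Subgroup.mem_subgroupOf]
      show Qd.proj (ι g) = 1 ↔ ι g ∈ _
      rw [hι, Qd.proj_el, Subgroup.mem_centralizer_iff]
      constructor
      · rintro rfl z _
        simp [Qd.el_one]
      · intro h
        refine Subtype.ext (Matrix.ext_of_mulVec_single fun j => ?_)
        have h1 := h (Qd.el 1 (Pi.single j 1)) ((hV _).2 ⟨_, rfl⟩)
        rw [Qd.el_mul, Qd.el_mul] at h1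
        rw [Matrix.SpecialLinearGroup.coe_one, Matrix.one_mulVec]
        simpa using (Qd.aff_injective (congrArg Subtype.val h1.symm)).2
    · rintro ⟨_, g, rfl⟩ z
      obtain ⟨v, hv⟩ := (hV _).1 z.2
      have hz : Additive.ofMul z = f v := congrArg Additive.ofMul (Subtype.ext hv)
      refine ⟨⟨Qd.el 1 (g.1.mulVec v), (hV _).2 ⟨_, rfl⟩⟩, ?_, ?_⟩
      · show Qd.el 1 _ = ι g * z.1 * (ι g)⁻¹
        rw [hv, hι, Qd.conj_trans]
      · show (AddEquiv.ofBijective f hf).symm (f _) = (Qd.proj (ι g)).1.mulVec _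
        rw [hι, Qd.proj_el, hz]
        have hs : ∀ w, (AddEquiv.ofBijective f hf).symm (f w) = w := fun w =>
          (AddEquiv.ofBijective f hf).symm_apply_apply w
        rw [hs, hs]

end Cfsg.Agent.S2762
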