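import Cfsg.Statements.S2763
import Cfsg.Agent.Lib.LocalEven.Qd
import Cfsg.Agent.Lib.Classical.SLTwo
import Cfsg.Agent.Lib.Classical.LinearCard

set_option autoImplicit false
open Cfsg Cfsg.Agent Cfsg.Agent.Lib Cfsg.Agent.Lib.LocalEven

namespace Cfsg.Agent.S2763

open scoped Pointwise
open Matrix in
theorem qd_aux {p : ℕ} [Fact p.Prime] (S : Sylow p ↥(Cfsg.qdOver (ZMod p))) :
    Nat.card (S : Subgroup ↥(Cfsg.qdOver (ZMod p))) = p ^ 3 ∧
      ¬ ((Qd.proj (F := ZMod p)).ker.subgroupOf (S : Subgroup ↥(Cfsg.qdOver (ZMod p)))).Characteristic := by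
  classical
  haveI : NeZero p := ⟨(Fact.out : p.Prime).ne_zero⟩
  let tr : ZMod p → SpecialLinearGroup (Fin 2) (ZMod p) := fun a => ⟨!![1, a; 0, 1], by simp [det_fin_two]⟩
  let m : ZMod p → ZMod p → ZMod p → ↥(Cfsg.qdOver (ZMod p)) := fun a b c => Qd.el (tr a) ![c, b]
  have hm : ∀ a b c a' b' c', m a b c * m a' b' c' = m (a + a') (b + b') (c + c' + a * b') := by
    intro a b c a' b' c'
    simp only [m, Qd.el_mul]
    congr 1
    · refine Subtype.ext (Matrix.ext fun i j => ?_)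
      rw [Matrix.SpecialLinearGroup.coe_mul]
      fin_cases i <;> fin_cases j <;> simp [tr, Matrix.mul_apply, Fin.sum_univ_two, add_comm]
    · funext i
      fin_cases i <;> simp [tr, Matrix.mulVec, dotProduct, Fin.sum_univ_two] <;> ring
  have hm0 : m 0 0 0 = 1 := by
    rw [← Qd.el_one]
    simp only [m]
    congr 1
    · refine Subtype.ext (Matrix.ext fun i j => ?_)
      fin_cases i <;> fin_cases j <;> simp [tr]
    · funext i; fin_cases i <;> simp
  have hminv : ∀ a b c, (m a b c)⁻¹ = m (-a) (-b) (a * b - c) := fun a b c => by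
    refine inv_eq_of_mul_eq_one_right ?_
    rw [hm, ← hm0]; congr 1 <;> ring
  have hent : ∀ a b c, (m a b c).1.1 0 1 = a ∧ (m a b c).1.1 1 2 = b ∧ (m a b c).1.1 0 2 = c :=
    fun a b c => by simp [m, tr, Qd.el, Qd.aff]
  let Q : Subgroup ↥(Cfsg.qdOver (ZMod p)) :=
    { carrier := Set.range fun x : ZMod p × ZMod p × ZMod p => m x.1 x.2.1 x.2.2
      one_mem' := ⟨(0, 0, 0), hm0⟩
      mul_mem' := by
        rintro _ _ ⟨x, rfl⟩ ⟨y, rfl⟩
        exact ⟨(x.1 + y.1, x.2.1 + y.2.1, x.2.2 + y.2.2 + x.1 * y.2.1), (hm _ _ _ _ _ _).symm⟩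
      inv_mem' := by
        rintro _ ⟨x, rfl⟩
        exact ⟨(-x.1, -x.2.1, x.1 * x.2.1 - x.2.2), (hminv _ _ _).symm⟩ }
  have hQc : Nat.card Q = p ^ 3 := by
    show Nat.card (Set.range fun x : ZMod p × ZMod p × ZMod p => m x.1 x.2.1 x.2.2) = _
    rw [← Nat.card_congr (Equiv.ofInjective (fun x : ZMod p × ZMod p × ZMod p => m x.1 x.2.1 x.2.2)
      fun x y h => ?_), Nat.card_prod, Nat.card_prod, Nat.card_zmod]
    · ring
    · obtain ⟨a1, a2, a3⟩ := hent x.1 x.2.1 x.2.2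
      obtain ⟨b1, b2, b3⟩ := hent y.1 y.2.1 y.2.2
      simp only at h
      rw [h] at a1 a2 a3
      exact Prod.ext (a1.symm.trans b1) (Prod.ext (a2.symm.trans b2) (a3.symm.trans b3))
  have hG : Nat.card ↥(Cfsg.qdOver (ZMod p)) = p ^ 3 * (p ^ 2 - 1) := by
    rw [Subgroup.card_eq_card_quotient_mul_card_subgroup (Qd.proj (F := ZMod p)).ker,
      Nat.card_congr (QuotientGroup.quotientKerEquivOfSurjective _ Qd.proj_surjective).toEquiv,
      Qd.card_ker, Classical.card_SL2, ZMod.card, Nat.card_zmod]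
    ring
  have hidx : ¬ p ∣ Q.index := by
    have h := Q.card_mul_index
    rw [hQc, hG] at h
    rw [Nat.eq_of_mul_eq_mul_left (pow_pos (Fact.out : p.Prime).pos 3) h]
    intro hd
    have h1 : p ∣ p ^ 2 := dvd_pow_self p two_ne_zero
    have h2 := Nat.dvd_sub h1 hd
    rw [Nat.sub_sub_self (Nat.one_le_pow 2 p (Fact.out : p.Prime).pos)] at h2
    exact (Fact.out : p.Prime).one_lt.ne' (Nat.dvd_one.1 h2)
  let P : Sylow p ↥(Cfsg.qdOver (ZMod p)) := (IsPGroup.of_card hQc).toSylow hidx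
  have hPQ : (P : Subgroup ↥(Cfsg.qdOver (ZMod p))) = Q := IsPGroup.toSylow_coe _ _
  obtain ⟨g, hg⟩ := MulAction.exists_smul_eq ↥(Cfsg.qdOver (ZMod p)) S P
  have hgS : conjS g (S : Subgroup ↥(Cfsg.qdOver (ZMod p))) = Q := by
    rw [← hPQ, ← hg]; rfl
  refine ⟨by rw [← card_conjS g, hgS, hQc], fun hchar => ?_⟩
  let c : ↥(S : Subgroup ↥(Cfsg.qdOver (ZMod p))) ≃* ↥Q :=
    (Subgroup.equivMapOfInjective _ (MulAut.conj g).toMonoidHom (MulAut.conj g).injective).trans
      (MulEquiv.subgroupCongr hgS)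
  have hc : ∀ x, (c x).1 = g * x.1 * g⁻¹ := fun x => rfl
  have hout : ∀ u : ↥Q, ∃ a b c, u.1 = m a b c := by
    rintro ⟨_, x, rfl⟩; exact ⟨x.1, x.2.1, x.2.2, rfl⟩
  let f : ↥Q → ↥Q := fun u => ⟨m (-u.1.1.1 1 2) (-u.1.1.1 0 1) (u.1.1.1 0 1 * u.1.1.1 1 2 - u.1.1.1 0 2),
    ⟨(_, _, _), rfl⟩⟩
  have hf : ∀ (u : ↥Q) a b c, u.1 = m a b c → (f u).1 = m (-b) (-a) (a * b - c) := by
    intro u a b c hu
    obtain ⟨h1, h2, h3⟩ := hent a b c
    simp only [f, hu, h1, h2, h3]
  have hff : Function.Involutive f := fun u => by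
    obtain ⟨a, b, c, hu⟩ := hout u
    refine Subtype.ext ?_
    rw [hf _ _ _ _ (hf u a b c hu), hu]
    congr 1 <;> ring
  let ψ : ↥Q ≃* ↥Q :=
    { toEquiv := hff.toPerm f
      map_mul' := fun u v => by
        obtain ⟨a, b, c, hu⟩ := hout u
        obtain ⟨a', b', c', hv⟩ := hout v
        refine Subtype.ext ?_
        show (f (u * v)).1 = (f u).1 * (f v).1
        rw [hf u a b c hu, hf v a' b' c' hv, hf (u * v) (a + a') (b + b') (c + c' + a * b')
          (by rw [Subgroup.coe_mul, hu, hv, hm]), hm]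
        congr 1 <;> ring }
  have h := hchar.fixed ((c.trans ψ).trans c.symm)
  let x₀ : ↥Q := ⟨m 0 1 0, (0, 1, 0), rfl⟩
  have hker : ∀ a b c, m a b c ∈ (Qd.proj (F := ZMod p)).ker ↔ a = 0 := by
    intro a b c
    rw [MonoidHom.mem_ker]
    simp only [m, Qd.proj_el]
    constructor
    · intro h
      simpa [tr] using congrFun (congrFun (congrArg Subtype.val h) 0) 1
    · rintro rfl
      refine Subtype.ext (Matrix.ext fun i j => ?_)
      fin_cases i <;> fin_cases j <;> simp [tr]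
  have hiff : ∀ x : ↥(S : Subgroup ↥(Cfsg.qdOver (ZMod p))),
      x ∈ (Qd.proj (F := ZMod p)).ker.subgroupOf _ ↔ (c x).1 ∈ (Qd.proj (F := ZMod p)).ker := by
    intro x
    rw [hc, Subgroup.mem_subgroupOf, (MonoidHom.normal_ker (Qd.proj (F := ZMod p))).mem_comm_iff,
      inv_mul_cancel_left]
  have hx : c.symm x₀ ∈ (Qd.proj (F := ZMod p)).ker.subgroupOf _ := by
    rw [hiff, c.apply_symm_apply]; exact (hker 0 1 0).2 rfl
  rw [← h, Subgroup.mem_comap, hiff] at hx
  change (c (c.symm (ψ (c (c.symm x₀))))).1 ∈ _ at hx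
  rw [c.apply_symm_apply, c.apply_symm_apply, show (ψ x₀).1 = m (-1) (-0) (0 * 1 - 0) from hf x₀ 0 1 0 rfl,
    hker] at hx
  exact one_ne_zero (neg_eq_zero.1 hx)

theorem qd_main {p : ℕ} [Fact p.Prime] (S : Sylow p ↥(Cfsg.qdOver (ZMod p)))
    (T : Subgroup ↥(S : Subgroup ↥(Cfsg.qdOver (ZMod p)))) (hT : T ≠ ⊥) (hTc : T.Characteristic) :
    Subgroup.normalizer ((T.map (S : Subgroup ↥(Cfsg.qdOver (ZMod p))).subtype :
        Subgroup ↥(Cfsg.qdOver (ZMod p))) : Set ↥(Cfsg.qdOver (ZMod p))) =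
      Subgroup.normalizer ((S : Subgroup ↥(Cfsg.qdOver (ZMod p))) : Set ↥(Cfsg.qdOver (ZMod p))) ∧
    Subgroup.normalizer ((S : Subgroup ↥(Cfsg.qdOver (ZMod p))) : Set ↥(Cfsg.qdOver (ZMod p))) ≠ ⊤ := by
  classical
  haveI : NeZero p := ⟨(Fact.out : p.Prime).ne_zero⟩
  obtain ⟨hSc, hnc⟩ := qd_aux S
  set G := ↥(Cfsg.qdOver (ZMod p))
  set V := (Qd.proj (F := ZMod p)).ker with hV
  have hVcore : Cfsg.pCore p G = V := Qd.pCore_eq_ker
  have hVS : V ≤ (S : Subgroup G) := hVcore ▸ pCore_le_sylow S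
  set T' := T.map (S : Subgroup G).subtype with hT'
  have hmem : ∀ x : ↥(S : Subgroup G), x.1 ∈ T' ↔ x ∈ T := fun x =>
    Subgroup.mem_map_iff_mem (S : Subgroup G).subtype_injective
  have hT'S : T' ≤ (S : Subgroup G) := Subgroup.map_subtype_le T
  have hSN : Subgroup.normalizer ((S : Subgroup G) : Set G) ≤ Subgroup.normalizer (T' : Set G) := by
    rw [le_normalizer_iff_forall]
    have key : ∀ g ∈ Subgroup.normalizer ((S : Subgroup G) : Set G), conjS g T' ≤ T' := by
      intro g hg y hy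
      rw [mem_conjS] at hy
      have hgS := conjS_eq_self_iff.2 hg
      let φ : ↥(S : Subgroup G) ≃* ↥(S : Subgroup G) :=
        (Subgroup.equivMapOfInjective _ (MulAut.conj g).toMonoidHom (MulAut.conj g).injective).trans
          (MulEquiv.subgroupCongr hgS)
      have hyS : g⁻¹ * y * g ∈ (S : Subgroup G) := hT'S hy
      have h1 : φ ⟨_, hyS⟩ ∈ T := by
        have h2 : (⟨_, hyS⟩ : ↥(S : Subgroup G)) ∈ T := (hmem _).1 hy
        rw [← hTc.fixed φ, Subgroup.mem_comap] at h2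
        exact h2
      have h3 := (hmem _).2 h1
      have e : (φ ⟨_, hyS⟩).1 = g * (g⁻¹ * y * g) * g⁻¹ := rfl
      rw [e] at h3
      simpa [mul_assoc] using h3
    intro g hg
    refine le_antisymm (key g hg) ?_
    have := conjS_mono g (key g⁻¹ (inv_mem hg))
    rwa [conjS_cancel_inv] at this
  have hNtop : Subgroup.normalizer ((S : Subgroup G) : Set G) ≠ ⊤ := by
    intro h
    have h1 : (S : Subgroup G) ≤ V := hVcore ▸ le_pCore (normal_of_le_normalizer h.ge) S.isPGroup'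
    have h2 := congrArg (fun H : Subgroup G => Nat.card H) (le_antisymm h1 hVS)
    change Nat.card ↥(S : Subgroup G) = Nat.card ↥(Qd.proj (F := ZMod p)).ker at h2
    rw [hSc, Qd.card_ker, Nat.card_zmod] at h2
    have h3 := Nat.pow_right_injective (Fact.out : p.Prime).two_le h2
    omega
  refine ⟨le_antisymm ?_ hSN, hNtop⟩
  by_contra hle
  obtain ⟨g, hgT, hgS⟩ := SetLike.not_le_iff_exists.1 hle
  set N := Subgroup.normalizer (T' : Set G) with hN
  have hSleN : (S : Subgroup G) ≤ N := Subgroup.le_normalizer.trans hSN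
  set S' : Sylow p G := g • S with hS'
  have hS'c : (S' : Subgroup G) = conjS g (S : Subgroup G) := rfl
  have hS'N : (S' : Subgroup G) ≤ N := by
    rw [hS'c, ← conjS_mem_eq_self hgT]
    exact conjS_mono g hSleN
  have hne : S.mapSurjective Qd.proj_surjective ≠ S'.mapSurjective Qd.proj_surjective := by
    intro h
    have h1 := congrArg (fun Q : Sylow p (Matrix.SpecialLinearGroup (Fin 2) (ZMod p)) =>
      (Q : Subgroup (Matrix.SpecialLinearGroup (Fin 2) (ZMod p))).comap Qd.proj) h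
    simp only [Sylow.coe_mapSurjective, Subgroup.comap_map_eq] at h1
    rw [sup_eq_left.2 hVS, sup_eq_left.2 (hVcore.ge.trans (pCore_le_sylow S'))] at h1
    exact hgS (conjS_eq_self_iff.1 h1.symm)
  have hNtop' : N = ⊤ := by
    refine eq_top_iff.2 fun x _ => ?_
    have h1 : Qd.proj x ∈ N.map Qd.proj := by
      have h2 : (⊤ : Subgroup _) ≤ N.map Qd.proj := by
        rw [← Classical.sylow_SL2_sup_eq_top p _ _ hne]
        exact sup_le (Subgroup.map_mono hSleN) (Subgroup.map_mono hS'N)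
      exact h2 trivial
    have h3 := Subgroup.mem_comap.2 h1
    rwa [Subgroup.comap_map_eq, sup_eq_left.2 (hVS.trans hSleN)] at h3
  have hTn : T'.Normal := normal_of_le_normalizer hNtop'.ge
  have hTV : T' ≤ V := hVcore ▸ le_pCore hTn ((S.isPGroup'.to_subgroup T).map _)
  have hVT : V ≤ T' := by
    obtain ⟨x, hx, hx1⟩ : ∃ x ∈ T', x ≠ 1 := by
      by_contra hcon
      push Not at hcon
      exact hT ((Subgroup.map_eq_bot_iff_of_injective _ (S : Subgroup G).subtype_injective).1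
        ((Subgroup.eq_bot_iff_forall _).2 hcon))
    obtain ⟨v, rfl⟩ := Qd.mem_ker_proj_iff.1 (hTV hx)
    let A : AddSubgroup (Fin 2 → ZMod p) :=
      { carrier := {w | Qd.el 1 w ∈ T'}
        zero_mem' := by show Qd.el 1 0 ∈ T'; rw [Qd.el_one]; exact one_mem _
        add_mem' := fun {a b} ha hb => by show Qd.el 1 _ ∈ T'; rw [← Qd.trans_mul]; exact mul_mem ha hb
        neg_mem' := fun {a} ha => by
          show Qd.el 1 (-a) ∈ T'
          have : (Qd.el 1 a)⁻¹ = Qd.el 1 (-a) := by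
            refine inv_eq_of_mul_eq_one_right ?_
            rw [Qd.trans_mul, add_neg_cancel, Qd.el_one]
          rw [← this]; exact inv_mem ha }
    have hA : ∀ (g : Matrix.SpecialLinearGroup (Fin 2) (ZMod p)) w, w ∈ A → g.1.mulVec w ∈ A := fun g w hw => by
      show Qd.el 1 _ ∈ T'
      rw [← Qd.conj_trans g w 0]
      exact hTn.conj_mem _ hw _
    have hsmul : ∀ (c : ZMod p) w, w ∈ A → c • w ∈ A := fun c w hw => by
      rw [← ZMod.natCast_zmod_val c, Nat.cast_smul_eq_nsmul]; exact A.nsmul_mem hw _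
    have hv0 : v ≠ 0 := fun h => hx1 (by rw [h, Qd.el_one])
    let lo : Matrix.SpecialLinearGroup (Fin 2) (ZMod p) := ⟨!![1, 0; 1, 1], by simp [Matrix.det_fin_two]⟩
    let up : Matrix.SpecialLinearGroup (Fin 2) (ZMod p) := ⟨!![1, 1; 0, 1], by simp [Matrix.det_fin_two]⟩
    have he1 : (![0, 1] : Fin 2 → ZMod p) ∈ A := by
      by_cases h0 : v 0 = 0
      · have h1 : v 1 ≠ 0 := fun h1 => hv0 (funext fun i => by fin_cases i <;> simp [h0, h1])
        have : (![0, 1] : Fin 2 → ZMod p) = (v 1)⁻¹ • v := by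
          funext i; fin_cases i <;> simp [h0, h1]
        rw [this]; exact hsmul _ _ hx
      · have : (![0, 1] : Fin 2 → ZMod p) = (v 0)⁻¹ • (lo.1.mulVec v - v) := by
          funext i; fin_cases i <;> simp [lo, h0, Matrix.vecHead, Matrix.vecTail]
        rw [this]; exact hsmul _ _ (A.sub_mem (hA lo v hx) hx)
    have he0 : (![1, 0] : Fin 2 → ZMod p) ∈ A := by
      have : (![1, 0] : Fin 2 → ZMod p) = up.1.mulVec ![0, 1] - ![0, 1] := by
        funext i; fin_cases i <;> simp [up]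
      rw [this]; exact A.sub_mem (hA up _ he1) he1
    intro y hy
    obtain ⟨w, rfl⟩ := Qd.mem_ker_proj_iff.1 hy
    have : w = w 0 • ![1, 0] + w 1 • ![0, 1] := by funext i; fin_cases i <;> simp
    show w ∈ A
    rw [this]; exact A.add_mem (hsmul _ _ he0) (hsmul _ _ he1)
  refine hnc ?_
  rw [show V.subgroupOf (S : Subgroup G) = T by
    ext z
    rw [Subgroup.mem_subgroupOf, ← le_antisymm hTV hVT, hmem]]
  exact hTc

/-- In the group Qd(p) (p prime; the natural semidirect product of an elementary abelian group of order p² by SL₂(p)), the normalizer of every nontrivial characteristic subgroup of a Sylow p-subgroup S equals the normalizer of S, which is a proper subgroup; in particular no such characteristic subgroup is normal. -/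
theorem result {p : ℕ} [Fact p.Prime] (S : Sylow p ↥(Cfsg.qd p)) (T : Subgroup ↥(S : Subgroup ↥(Cfsg.qd p))) (hT : T ≠ ⊥) (hTc : T.Characteristic) : Subgroup.normalizer ((T.map (S : Subgroup ↥(Cfsg.qd p)).subtype : Subgroup ↥(Cfsg.qd p)) : Set ↥(Cfsg.qd p)) = Subgroup.normalizer ((S : Subgroup ↥(Cfsg.qd p)) : Set ↥(Cfsg.qd p)) ∧ Subgroup.normalizer ((S : Subgroup ↥(Cfsg.qd p)) : Set ↥(Cfsg.qd p)) ≠ ⊤ := by
  exact qd_main S T hT hTc

end Cfsg.Agent.S2763
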