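import Cfsg.Statements.S2768
import Cfsg.Agent.Lib.PushUp.Closure

set_option autoImplicit false
open Cfsg

namespace Cfsg.Agent.S2768

/-- Let G be a finite group and p a prime with C_G(O_p(G)) ≤ O_p(G), such that a Sylow p-subgroup S lies in exactly one maximal subgroup of G and G/K ≅ PSL₂(p^n) for some normal K and n ≥ 1. Put J̃(S) = C_S(Z(J(S))), where J(S) is generated by the abelian subgroups of S of largest order. If Z(S) is not normal in G, then J̃(S) is a Sylow p-subgroup of its normal closure ⟨J̃(S)^G⟩. -/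
theorem result {G : Type*} [Group G] [Finite G] {p : ℕ} [Fact p.Prime] (S : Sylow p G) (hE₁ : Subgroup.centralizer (Cfsg.pCore p G : Set G) ≤ Cfsg.pCore p G) (hE₂ : ∃! M : Subgroup G, IsCoatom M ∧ (S : Subgroup G) ≤ M) (K : Subgroup G) [K.Normal] (F : Type) [Field F] [Fintype F] (n : ℕ) (hn : 1 ≤ n) (hF : Fintype.card F = p ^ n) (hE₃ : Nonempty (G ⧸ K ≃* Matrix.ProjectiveSpecialLinearGroup (Fin 2) F)) (hZ : ¬ ((S : Subgroup G) ⊓ Subgroup.centralizer ((S : Subgroup G) : Set G)).Normal) : ∃ P : Sylow p ↥(Subgroup.normalClosure (((S : Subgroup G) ⊓ Subgroup.centralizer (Cfsg.centerThompsonAOf (S : Subgroup G) : Set G)) : Set G)), (P : Subgroup ↥(Subgroup.normalClosure (((S : Subgroup G) ⊓ Subgroup.centralizer (Cfsg.centerThompsonAOf (S : Subgroup G) : Set G)) : Set G))) = (((S : Subgroup G) ⊓ Subgroup.centralizer (Cfsg.centerThompsonAOf (S : Subgroup G) : Set G))).subgroupOf (Subgroup.normalClosure (((S : Subgroup G) ⊓ Subgroup.centralizer (Cfsg.centerThompsonAOf (S : Subgroup G) : Set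 G)) : Set G)) := by
  obtain ⟨M, hc⟩ := Lib.PushUp.ctx_of_isPushingUp (p := p) (S := (S : Subgroup G))
    ⟨fun htop => by
      obtain ⟨e⟩ := hE₃
      have h1 := (Lib.PushUp.PSLTwo.card_U (F := F))
      haveI : Subsingleton G := ⟨fun a b => by
        have ha : a ∈ (⊤ : Subgroup G) := Subgroup.mem_top a
        have hb : b ∈ (⊤ : Subgroup G) := Subgroup.mem_top b
        rw [htop, Subgroup.mem_bot] at ha hb
        rw [ha, hb]⟩
      haveI : Subsingleton (G ⧸ K) := (QuotientGroup.mk_surjective).subsingleton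
      haveI : Subsingleton (Matrix.ProjectiveSpecialLinearGroup (Fin 2) F) :=
        e.symm.toEquiv.subsingleton
      rw [Nat.card_of_subsingleton (1 : ↥(Lib.PushUp.PSLTwo.U F))] at h1
      exact (Finite.one_lt_card (α := F)).ne h1,
    ⟨S, rfl⟩, hE₁, hE₂, K, inferInstance, F, inferInstance, inferInstance, n, hF, hE₃⟩
  have hZc : ¬ (S : Subgroup G) ⊓ Subgroup.centralizer ((S : Subgroup G) : Set G) ≤
      Subgroup.center G := fun hle => hZ (Lib.PushUp.normal_of_le_center hle)
  set T := (S : Subgroup G) ⊓ Subgroup.centralizer (Cfsg.centerThompsonAOf (S : Subgroup G) : Set G)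
  set H := Subgroup.normalClosure (T : Set G)
  haveI hHn : H.Normal := Subgroup.normalClosure_normal
  have hTH : T ≤ H := Subgroup.le_normalClosure
  have hp' : IsPGroup p ↥(T.subgroupOf H) :=
    (S.2.to_le inf_le_left).of_equiv (Subgroup.subgroupOfEquivOfLe hTH).symm
  have hle : (S : Subgroup G) ⊓ H ≤ T := by
    by_cases hJ : Cfsg.thompsonSubgroupAOf (S : Subgroup G) ≤ Cfsg.pCore p G
    · haveI := hc.centralizer_normal_of_le hJ hZc
      exact inf_le_right.trans (Subgroup.normalClosure_le_normal le_rfl)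
    · exact hc.closure_inf_le hJ hZc
  have heq : T = (S : Subgroup G) ⊓ H := le_antisymm (le_inf inf_le_left hTH) hle
  have hnd : ¬ p ∣ (T.subgroupOf H).index := by
    rw [heq]
    exact Lib.LocalEven2.not_dvd_relIndex_inf_subnormal S hHn.isSubnormal
  exact ⟨hp'.toSylow hnd, rfl⟩

end Cfsg.Agent.S2768
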