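import Cfsg.Statements.S2772
import Cfsg.Agent.Lib.LocalEven.S3AmalgamBuild

set_option autoImplicit false
open Cfsg Cfsg.Agent Cfsg.Agent.Lib Cfsg.Agent.Lib.LocalEven
open scoped commutatorElement

namespace Cfsg.Agent.S2772

/-- Sims' Theorem in local form: let H be a finite non-abelian simple group and G a maximal subgroup of H with C_G(O₂(G)) ≤ O₂(G), such that N_H(S) is not contained in G for a Sylow 2-subgroup S of G and G/O₂(G) is dihedral of order 2q for a prime q. Then G is isomorphic to the symmetric group of degree 4 or to its direct product with a group of order 2. -/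
theorem result {H : Type*} [Group H] [Finite H] [IsSimpleGroup H] (hna : ¬ IsMulCommutative H) (G : Subgroup H) (hG : IsCoatom G) (hchar : Subgroup.centralizer (Cfsg.pCore 2 ↥G : Set ↥G) ≤ Cfsg.pCore 2 ↥G) (S : Sylow 2 ↥G) (hN : ¬ Subgroup.normalizer (((S : Subgroup ↥G).map G.subtype : Subgroup H) : Set H) ≤ G) (q : ℕ) (hq : q.Prime) (hD : Nonempty (↥G ⧸ Cfsg.pCore 2 ↥G ≃* DihedralGroup q)) : Nonempty (↥G ≃* Equiv.Perm (Fin 4)) ∨ Nonempty (↥G ≃* Equiv.Perm (Fin 4) × Multiplicative (ZMod 2)) := by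
  classical
  haveI : Fact (Nat.Prime 2) := ⟨Nat.prime_two⟩
  haveI : (Cfsg.pCore 2 ↥G).Normal := pCore_normal 2 ↥G
  have hc : Nat.card G = 2 * q * Nat.card (Cfsg.pCore 2 ↥G) := by
    rw [S3Am.card_of_quotient _ hD, DihedralGroup.nat_card]
  have hq2 : q ≠ 2 := by
    rintro rfl
    obtain ⟨k, hk⟩ := IsPGroup.iff_card.1 (pCore_isPGroup 2 ↥G)
    have hp : IsPGroup 2 G := IsPGroup.of_card (n := k + 2) (by rw [hc, hk]; ring)
    have h1 : (⊤ : Subgroup G) ≤ Cfsg.pCore 2 ↥G :=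
      le_pCore inferInstance (hp.to_subgroup ⊤)
    have h2 := Subgroup.card_le_of_le h1
    rw [Subgroup.card_top, hc] at h2
    have := Nat.card_pos (α := Cfsg.pCore 2 ↥G)
    omega
  have hcS := S3Am.sylow_card hq hq2 hc S
  set T : Subgroup H := (S : Subgroup ↥G).map G.subtype with hTdef
  have hTG : T ≤ G := Subgroup.map_subtype_le _
  have hcT : Nat.card T = 2 * Nat.card (Cfsg.pCore 2 ↥G) :=
    (Nat.card_congr ((S : Subgroup ↥G).equivMapOfInjective _ G.subtype_injective).toEquiv).symm.trans hcS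
  have hT2 : IsPGroup 2 T := S.2.map _
  have hGne : G ≠ ⊥ := fun e => by
    have h1 : Nat.card G = 1 := by rw [e]; exact Subgroup.card_bot
    have h2 : 2 ∣ 1 := h1 ▸ hc ▸ ⟨q * Nat.card (Cfsg.pCore 2 ↥G), by ring⟩
    norm_num at h2
  have hnorm : ∀ g : H, conjS g G = G → g ∈ G := by
    intro g hg
    rcases hG.le_iff.1 (Subgroup.le_normalizer (H := G)) with e | e
    · exact absurd ((normal_of_le_normalizer e.ge).eq_bot_or_eq_top.resolve_right hG.1) hGne
    · exact e.le (conjS_eq_self_iff.1 hg)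
  have hcenter : Subgroup.center H = ⊥ := by
    refine (inferInstance : (Subgroup.center H).Normal).eq_bot_or_eq_top.resolve_right fun e => hna ?_
    exact ⟨⟨fun a b => Subgroup.mem_center_iff.1 (e.ge (Subgroup.mem_top b)) a⟩⟩
  obtain ⟨g, hgN, hgG⟩ := SetLike.not_le_iff_exists.1 hN
  have hgT : conjS g T = T := conjS_eq_self_iff.2 hgN
  have hne : conjS g G ≠ G := fun e => hgG (hnorm g e)
  have hnle : ¬ conjS g G ≤ G := fun h => hne (Subgroup.eq_of_le_of_card_ge h (card_conjS g G).ge)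
  have hgen : G ⊔ conjS g G = ⊤ :=
    hG.2 _ (lt_of_le_of_ne le_sup_left fun e => hnle ((le_sup_right : conjS g G ≤ G ⊔ conjS g G).trans e.ge))
  have hTle : T ≤ G ⊓ conjS g G := le_inf hTG (hgT ▸ conjS_mono g hTG)
  have hinf : G ⊓ conjS g G = T := by
    have hi : T.relIndex G = q := by
      have h1 := S3Am.card_mul_rel hTG
      rw [hcT, hc, show 2 * q * Nat.card (Cfsg.pCore 2 ↥G) = 2 * Nat.card (Cfsg.pCore 2 ↥G) * q by ring] at h1
      exact Nat.eq_of_mul_eq_mul_left (Nat.mul_pos two_pos Nat.card_pos) h1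
    have h3 := Subgroup.relIndex_mul_relIndex _ _ _ hTle inf_le_left
    rw [hi] at h3
    rcases (Nat.dvd_prime hq).1 (Dvd.intro _ h3) with h4 | h4
    · exact le_antisymm (Subgroup.relIndex_eq_one.1 h4) hTle
    · rw [h4] at h3
      have h5 := (Nat.mul_eq_left hq.ne_zero).1 h3
      exact absurd (Subgroup.eq_of_le_of_card_ge ((Subgroup.relIndex_eq_one.1 h5).trans inf_le_right)
        (card_conjS g G).le).symm hne
  have hch : G ⊓ Subgroup.centralizer (Cfsg.pCoreOf 2 G : Set H) ≤ Cfsg.pCoreOf 2 G := by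
    intro x hx
    refine mem_pCoreOf.2 ⟨hx.1, hchar (Subgroup.mem_centralizer_iff.2 fun y hy => Subtype.ext ?_)⟩
    exact Subgroup.mem_centralizer_iff.1 hx.2 y (mem_pCoreOf.2 ⟨y.2, hy⟩)
  have hZ : omZ 2 T ≠ ⊥ := by
    have hnt : Nontrivial T := Finite.one_lt_card_iff_nontrivial.1 (by
      have := Nat.card_pos (α := Cfsg.pCore 2 ↥G); omega)
    haveI := hT2.center_nontrivial
    obtain ⟨k, hk0, hk⟩ := (hT2.to_subgroup (Subgroup.center T)).nontrivial_iff_card.1 inferInstance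
    obtain ⟨x, hx⟩ := exists_prime_orderOf_dvd_card' (G := Subgroup.center T) 2
      (hk ▸ dvd_pow_self 2 hk0.ne')
    intro e
    have h1 : ((x : T) : H) ∈ omZ 2 T := by
      refine Subgroup.subset_closure ⟨⟨(x : T).2, Subgroup.mem_centralizer_iff.2 fun y hy => ?_⟩, ?_⟩
      · exact congrArg Subtype.val (Subgroup.mem_center_iff.1 x.2 ⟨y, hy⟩)
      · rw [← hx, ← SubmonoidClass.coe_pow, ← SubmonoidClass.coe_pow, pow_orderOf_eq_one]; rfl
    rw [e, Subgroup.mem_bot] at h1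
    have hx1 : x = 1 := Subtype.ext (Subtype.ext h1)
    rw [hx1, orderOf_one] at hx
    omega
  have hnc : ¬ G ≤ Subgroup.centralizer (omZ 2 T : Set H) := by
    intro h
    have h2 : conjS g G ≤ Subgroup.centralizer (omZ 2 T : Set H) := by
      have := conjS_mono g h
      rwa [conjS_centralizer, conjS_omZ, hgT] at this
    have h3 : omZ 2 T ≤ Subgroup.center H := fun z hz => Subgroup.mem_center_iff.2 fun y =>
      (Subgroup.mem_centralizer_iff.1 ((sup_le h h2) (hgen ▸ Subgroup.mem_top y)) z hz).symm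
    rw [hcenter] at h3
    exact hZ (le_bot_iff.1 h3)
  have hP : ∀ P ∈ ({G, conjS g G} : Set (Subgroup H)),
      P ⊓ Subgroup.centralizer (Cfsg.pCoreOf 2 P : Set H) ≤ Cfsg.pCoreOf 2 P ∧
      Nat.card P = 2 * q * Nat.card (Cfsg.pCoreOf 2 P) ∧
      Nat.card (G ⊓ conjS g G : Subgroup H) = 2 * Nat.card (Cfsg.pCoreOf 2 P) ∧
      ¬ P ≤ Subgroup.centralizer (omZ 2 (G ⊓ conjS g G) : Set H) := by
    have c0 : Nat.card (Cfsg.pCoreOf 2 G) = Nat.card (Cfsg.pCore 2 ↥G) := S3Am.card_pCoreOf G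
    rintro P (rfl | rfl)
    · exact ⟨hch, by rw [c0]; exact hc, by rw [c0, hinf]; exact hcT, by rw [hinf]; exact hnc⟩
    · refine ⟨?_, ?_, ?_, ?_⟩
      · rw [← conjS_pCoreOf, ← conjS_centralizer, ← conjS_inf]; exact conjS_mono g hch
      · rw [← conjS_pCoreOf, card_conjS, card_conjS, c0]; exact hc
      · rw [← conjS_pCoreOf, card_conjS, c0, hinf]; exact hcT
      · rw [hinf, ← hgT, ← conjS_omZ, ← conjS_centralizer, conjS_le_iff]; exact hnc
  rcases S3Am.amalgam_s4 G (conjS g G) hgen q hq hq2 hP (by rw [hinf]; exact hT2)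
    (fun N hN hle => hN.eq_bot_or_eq_top.resolve_right fun e =>
      hG.1 (top_le_iff.1 ((e ▸ hle).trans inf_le_left))) with ⟨h, -⟩ | ⟨⟨φ⟩, -⟩
  · exact Or.inl h
  · exact Or.inr ⟨φ.trans MulEquiv.prodComm⟩

end Cfsg.Agent.S2772
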