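import Cfsg.Statements.S2779
import Cfsg.Agent.Lib.LocalEven.NatMod

set_option autoImplicit false
open Cfsg Cfsg.Agent Cfsg.Agent.Lib Cfsg.Agent.Lib.LocalEven
open Matrix

namespace Cfsg.Agent.S2779

/-- Let L act on the elementary abelian p-group V (inside a finite group, by conjugation, faithfully) as SL₂(F) on its natural module, F a field with p^n elements, and let S be a Sylow p-subgroup of L. Then [V, S, S] = 1; |V| = p^(2n) and |C_V(S)| = p^n; and for every nonidentity s ∈ S and every v ∈ V outside C_V(S): C_V(s) = C_V(S) = [V, S] = [V, s] = the subgroup generated by the commutators [v, t], t ∈ S. -/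
theorem result {G : Type*} [Group G] [Finite G] {p : ℕ} [Fact p.Prime] {F : Type*} [Field F] [Fintype F] (n : ℕ) (hF : Fintype.card F = p ^ n) (V L : Subgroup G) (hnat : Cfsg.IsNaturalSL2Module F V L) (hf : L ⊓ Subgroup.centralizer (V : Set G) = ⊥) (S : Sylow p ↥L) (T : Subgroup G) (hT : T = ((S : Subgroup ↥L).map L.subtype)) : ⁅⁅V, T⁆, T⁆ = ⊥ ∧ Nat.card V = p ^ (2 * n) ∧ Nat.card ↥(V ⊓ Subgroup.centralizer ((T : Subgroup G) : Set G)) = p ^ n ∧ ∀ s ∈ T, s ≠ 1 → (V ⊓ Subgroup.centralizer ({s} : Set G)) = (V ⊓ Subgroup.centralizer ((T : Subgroup G) : Set G)) ∧ ⁅V, T⁆ = (V ⊓ Subgroup.centralizer ((T : Subgroup G) : Set G)) ∧ ⁅V, Subgroup.zpowers s⁆ = (V ⊓ Subgroup.centralizer ((T : Subgroup G) : Set G)) ∧ ∀ v ∈ V, v ∉ Subgroup.centralizer (T : Set G) → Subgroup.closure {x : G | ∃ t ∈ T, x = v * t * v⁻¹ * t⁻¹} = (V ⊓ Subgroup.centralizer ((T : Subgroup G) : Set G)) := by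
  classical
  obtain ⟨⟨c⟩, hchar⟩ := NatMod.exists_coords n hF hnat hf S
  rw [← hT] at c
  have hNF : Nat.card F = p ^ n := by rw [Nat.card_eq_fintype_card, hF]
  set C := V ⊓ Subgroup.centralizer ((T : Subgroup G) : Set G) with hC
  have hTN : T ≤ Subgroup.normalizer (V : Set G) := c.hTL.trans c.hn
  have hcm : ∀ v (hv : v ∈ V) t (ht : t ∈ T), ∀ a, (c.ρ ⟨t, c.hTL ht⟩).1 0 1 = a →
      ∀ hm : v * t * v⁻¹ * t⁻¹ ∈ V, c.co (v * t * v⁻¹ * t⁻¹) hm = ![-(a * c.co v hv 1), 0] := by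
    intro v hv t ht a ha hm
    have hu := (c.hT ⟨t, c.hTL ht⟩).1 ht
    rw [c.co_eq_of_eq (show v * t * v⁻¹ * t⁻¹ = v * (t * v⁻¹ * t⁻¹) by group) hm
      (mul_mem hv (c.conj_mem (c.hTL ht) (inv_mem hv))), c.co_mul hv (c.conj_mem (c.hTL ht) (inv_mem hv)),
      c.co_conj ⟨t, c.hTL ht⟩ (inv_mem hv), c.co_inv hv, NatMod.eq_uni hu, ha]
    funext i
    fin_cases i <;> simp [NatMod.uni, Matrix.mulVec, dotProduct, Fin.sum_univ_two]
  have hmem : ∀ v ∈ V, ∀ t ∈ T, v * t * v⁻¹ * t⁻¹ ∈ C := by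
    intro v hv t ht
    have hm : v * t * v⁻¹ * t⁻¹ ∈ V := by
      rw [show v * t * v⁻¹ * t⁻¹ = v * (t * v⁻¹ * t⁻¹) by group]
      exact mul_mem hv (c.conj_mem (c.hTL ht) (inv_mem hv))
    refine Subgroup.mem_inf.2 ⟨hm, (c.mem_centralizer_T hm).2 ?_⟩
    rw [hcm v hv t ht _ rfl hm]; simp
  have hVT : ⁅V, T⁆ ≤ C := Subgroup.commutator_le.2 fun v hv t ht => hmem v hv t ht
  have hcardC : Nat.card ↥C = p ^ n := by
    rw [← hNF]
    refine Nat.card_congr (Equiv.ofBijective (fun x : ↥C => c.co x.1 (Subgroup.mem_inf.1 x.2).1 0) ⟨?_, ?_⟩)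
    · intro x y h
      refine Subtype.ext (c.co_inj (Subgroup.mem_inf.1 x.2).1 (Subgroup.mem_inf.1 y.2).1 (funext fun i => ?_))
      fin_cases i
      · exact h
      · exact ((c.mem_centralizer_T _).1 (Subgroup.mem_inf.1 x.2).2).trans
          ((c.mem_centralizer_T _).1 (Subgroup.mem_inf.1 y.2).2).symm
    · intro a
      obtain ⟨x, hx, he⟩ := c.co_surj ![a, 0]
      exact ⟨⟨x, Subgroup.mem_inf.2 ⟨hx, (c.mem_centralizer_T hx).2 (by rw [he]; simp)⟩⟩, by simp [he]⟩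
  refine ⟨?_, ?_, hcardC, fun s hs hs1 => ?_⟩
  · exact le_centralizer_iff_commutator.1 (hVT.trans inf_le_right)
  · rw [c.card_V, hNF, ← pow_mul, mul_comm]
  have hcs : V ⊓ Subgroup.centralizer ({s} : Set G) = C := by
    ext x
    rw [hC, Subgroup.mem_inf, Subgroup.mem_inf, and_congr_right_iff]
    intro hx
    rw [c.mem_centralizer_single hs hs1 hx, c.mem_centralizer_T hx]
  have hu := (c.hT ⟨s, c.hTL hs⟩).1 hs
  have hs0 : (c.ρ ⟨s, c.hTL hs⟩).1 0 1 ≠ 0 := by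
    intro h0
    apply hs1
    have : c.ρ ⟨s, c.hTL hs⟩ = 1 := by
      rw [NatMod.eq_uni hu, h0]
      refine Subtype.ext (Matrix.ext fun i j => ?_)
      fin_cases i <;> fin_cases j <;> simp [NatMod.uni]
    exact congrArg Subtype.val ((map_eq_one_iff _ c.ρ.injective).1 this)
  have hCs : C ≤ ⁅V, Subgroup.zpowers s⁆ := by
    intro x hx
    obtain ⟨hxV, hxC⟩ := Subgroup.mem_inf.1 hx
    obtain ⟨v, hv, he⟩ := c.co_surj ![0, -(c.co x hxV 0) / (c.ρ ⟨s, c.hTL hs⟩).1 0 1]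
    have hm : v * s * v⁻¹ * s⁻¹ ∈ V := (Subgroup.mem_inf.1 (hmem v hv s hs)).1
    have : x = v * s * v⁻¹ * s⁻¹ := by
      refine c.co_inj hxV hm ?_
      rw [hcm v hv s hs _ rfl hm, he]
      funext i
      fin_cases i
      · simp; field_simp
      · simpa using (c.mem_centralizer_T hxV).1 hxC
    rw [this]
    exact Subgroup.commutator_mem_commutator hv (Subgroup.mem_zpowers s)
  have hle : ⁅V, Subgroup.zpowers s⁆ ≤ ⁅V, T⁆ := Subgroup.commutator_mono le_rfl (Subgroup.zpowers_le.2 hs)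
  refine ⟨hcs, le_antisymm hVT (hCs.trans hle), le_antisymm (hle.trans hVT) hCs, fun v hv hvC => ?_⟩
  refine le_antisymm ((Subgroup.closure_le _).2 ?_) fun x hx => Subgroup.subset_closure ?_
  · rintro _ ⟨t, ht, rfl⟩
    exact hmem v hv t ht
  · obtain ⟨hxV, hxC⟩ := Subgroup.mem_inf.1 hx
    have hv1 : c.co v hv 1 ≠ 0 := fun h => hvC ((c.mem_centralizer_T hv).2 h)
    have htT := c.lift_uni_mem (-(c.co x hxV 0) / c.co v hv 1)
    refine ⟨_, htT, ?_⟩
    have hm : v * c.lift _ * v⁻¹ * (c.lift _)⁻¹ ∈ V := (Subgroup.mem_inf.1 (hmem v hv _ htT)).1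
    refine c.co_inj hxV hm ?_
    rw [hcm v hv _ htT (-(c.co x hxV 0) / c.co v hv 1) (by
      rw [show (⟨c.lift _, c.hTL htT⟩ : ↥L) = c.ρ.symm (NatMod.uni _) from rfl, MulEquiv.apply_symm_apply]
      simp [NatMod.uni]) hm]
    funext i
    fin_cases i
    · simp; field_simp
    · simpa using (c.mem_centralizer_T hxV).1 hxC

end Cfsg.Agent.S2779
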