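import Cfsg.Statements.S2780
import Cfsg.Agent.Lib.LocalEven.NatMod

set_option autoImplicit false
open Cfsg Cfsg.Agent Cfsg.Agent.Lib Cfsg.Agent.Lib.LocalEven
open Matrix

namespace Cfsg.Agent.S2780

/-- Let L act on the elementary abelian p-group V (inside a finite group, faithfully) as SL₂(F) on its natural module, F a field with p^n elements, S a Sylow p-subgroup of L. Then: for every g ∈ L not normalizing S, V is the internal direct product of C_V(S) and C_V(gSg⁻¹); every nonidentity element of L of order prime to p acts on V without nonidentity fixed points; and C_V(S) and V/C_V(S) are irreducible for N_L(S): the only N_L(S)-invariant subgroups of C_V(S) are 1 and C_V(S), and the only N_L(S)-invariant subgroups between C_V(S) and V are those two. -/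
theorem result {G : Type*} [Group G] [Finite G] {p : ℕ} [Fact p.Prime] {F : Type*} [Field F] [Fintype F] (n : ℕ) (hF : Fintype.card F = p ^ n) (V L : Subgroup G) (hnat : Cfsg.IsNaturalSL2Module F V L) (hf : L ⊓ Subgroup.centralizer (V : Set G) = ⊥) (S : Sylow p ↥L) (T : Subgroup G) (hT : T = ((S : Subgroup ↥L).map L.subtype)) : (∀ g ∈ L, g ∉ Subgroup.normalizer (T : Set G) → Cfsg.IsInternalDirectProduct (V ⊓ Subgroup.centralizer ((T : Subgroup G) : Set G)) (V ⊓ Subgroup.centralizer ((T.map (MulAut.conj g).toMonoidHom : Subgroup G) : Set G)) V) ∧ (∀ x ∈ L, x ≠ 1 → (orderOf x).Coprime p → (V ⊓ Subgroup.centralizer ({x} : Set G)) = ⊥) ∧ (∀ U : Subgroup G, U ≤ (V ⊓ Subgroup.centralizer ((T : Subgroup G) : Set G)) → L ⊓ Subgroup.normalizer (T : Set G) ≤ Subgroup.normalizer (U : Set G) → U = ⊥ ∨ U = (V ⊓ Subgroup.centralizer ((T : Subgroup G) : Set G))) ∧ (∀ U : Subgroup G, (V ⊓ Subgroup.centralizer ((T : Subgroup G) : Set G)) ≤ U → U ≤ V → L ⊓ Subgroup.normalizer (T : Set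 G) ≤ Subgroup.normalizer (U : Set G) → U = (V ⊓ Subgroup.centralizer ((T : Subgroup G) : Set G)) ∨ U = V) := by
  classical
  obtain ⟨⟨c⟩, hchar⟩ := NatMod.exists_coords n hF hnat hf S
  rw [← hT] at c
  haveI := hchar
  set C := V ⊓ Subgroup.centralizer ((T : Subgroup G) : Set G) with hC
  have hCmem : ∀ x (hx : x ∈ V), x ∈ C ↔ c.co x hx 1 = 0 := fun x hx => by
    rw [hC, Subgroup.mem_inf, c.mem_centralizer_T hx]; exact and_iff_right hx
  have hd : ∀ (t : F) (ht : t ≠ 0), c.lift (NatMod.diag t ht) ∈ L ⊓ Subgroup.normalizer (T : Set G) := fun t ht => by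
    refine Subgroup.mem_inf.2 ⟨c.lift_mem _, c.mem_normalizer_T (c.lift_mem _) ?_⟩
    rw [show (⟨c.lift (NatMod.diag t ht), c.lift_mem _⟩ : ↥L) = c.ρ.symm _ from rfl, MulEquiv.apply_symm_apply]
    exact NatMod.diag_lower_zero t ht
  have hscal : ∀ (U : Subgroup G), L ⊓ Subgroup.normalizer (T : Set G) ≤ Subgroup.normalizer (U : Set G) →
      ∀ u (hu : u ∈ V), u ∈ U → ∀ t (ht : t ≠ 0), ∀ y (hy : y ∈ V),
        c.co y hy = ![t * c.co u hu 0, t⁻¹ * c.co u hu 1] → y ∈ U := by
    intro U hUn u hu huU t ht y hy he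
    have : y = c.lift (NatMod.diag t ht) * u * (c.lift (NatMod.diag t ht))⁻¹ := by
      refine c.co_inj hy (c.conj_mem (c.lift_mem _) hu) ?_
      rw [c.co_conj_lift _ hu, he]
      funext i
      fin_cases i <;> simp [NatMod.diag, Matrix.mulVec, dotProduct, Fin.sum_univ_two]
    rw [this]
    exact (Subgroup.mem_normalizer_iff.1 (hUn (hd t ht)) u).1 huU
  refine ⟨fun g hg hgN => ?_, fun x hx hx1 hxp => ?_, fun U hU hUn => ?_, fun U hCU hUV hUn => ?_⟩
  · set A := c.ρ ⟨g, hg⟩ with hA
    have hA0 : A.1 1 0 ≠ 0 := fun h => hgN (c.mem_normalizer_T hg h)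
    rw [map_conj_eq]
    set C' := V ⊓ Subgroup.centralizer ((conjS g T : Subgroup G) : Set G) with hC'
    have hC'eq : C' = conjS g C := by
      rw [hC', hC, conjS_inf, conjS_eq_self_iff.2 (c.hn hg), conjS_centralizer]
    refine ⟨inf_le_left, inf_le_left, fun a ha b hb => ?_, ?_, ?_⟩
    · refine c.co_inj (mul_mem ha.1 hb.1) (mul_mem hb.1 ha.1) ?_
      rw [c.co_mul ha.1 hb.1, c.co_mul hb.1 ha.1, add_comm]
    · refine (Subgroup.eq_bot_iff_forall _).2 fun y hy => ?_
      obtain ⟨h1, h2⟩ := Subgroup.mem_inf.1 hy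
      rw [hC'eq, mem_conjS] at h2
      have hyV : y ∈ V := (Subgroup.mem_inf.1 h1).1
      have hzV : g⁻¹ * y * g ∈ V := (Subgroup.mem_inf.1 h2).1
      have hz := (hCmem _ hzV).1 h2
      have hy0 := (hCmem _ hyV).1 h1
      have he : c.co y hyV = A.1 *ᵥ c.co (g⁻¹ * y * g) hzV := by
        rw [← c.co_conj ⟨g, hg⟩ hzV]
        exact c.co_eq_of_eq (show y = g * (g⁻¹ * y * g) * g⁻¹ by group) _ _
      have he1 := congrFun he 1
      simp [Matrix.mulVec, dotProduct, Fin.sum_univ_two, hz, hy0, hA0] at he1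
      refine c.co_inj hyV (one_mem V) ?_
      rw [c.co_one, he]
      funext i
      fin_cases i <;> simp [Matrix.mulVec, dotProduct, Fin.sum_univ_two, hz, he1]
    · refine le_antisymm (sup_le inf_le_left inf_le_left) fun y hy => ?_
      set b := c.co y hy 1 / A.1 1 0 with hb
      obtain ⟨z, hz, hze⟩ := c.co_surj ![b, 0]
      have hzC : z ∈ C := (hCmem z hz).2 (by rw [hze]; simp)
      have hgz : g * z * g⁻¹ ∈ C' := hC'eq ▸ conj_mem_conjS hzC
      have hgzV : g * z * g⁻¹ ∈ V := c.conj_mem hg hz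
      have hyr : y * (g * z * g⁻¹)⁻¹ ∈ C := by
        refine (hCmem _ (mul_mem hy (inv_mem hgzV))).2 ?_
        rw [c.co_mul hy (inv_mem hgzV), c.co_inv hgzV, c.co_conj ⟨g, hg⟩ hz, hze, ← hA]
        simp [Matrix.mulVec, dotProduct, Fin.sum_univ_two, hb]
        field_simp
        ring
      have := mul_mem (Subgroup.mem_sup_left hyr : _ ∈ C ⊔ C') (Subgroup.mem_sup_right hgz)
      rwa [inv_mul_cancel_right] at this
  · refine (Subgroup.eq_bot_iff_forall _).2 fun v hv => ?_
    obtain ⟨hvV, hvx⟩ := Subgroup.mem_inf.1 hv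
    by_contra hv1
    set A := c.ρ ⟨x, hx⟩ with hA
    set u := c.co v hvV with hu
    have hu0 : u ≠ 0 := fun h => hv1 (c.co_inj hvV (one_mem V) (by rw [← hu, h, c.co_one]))
    have hfix : A.1 *ᵥ u = u := (c.comm_iff ⟨x, hx⟩ hvV).1 (Subgroup.mem_centralizer_singleton_iff.1 hvx)
    have hd : (A.1 - 1).det = 0 := Matrix.exists_mulVec_eq_zero_iff.1
      ⟨u, hu0, by rw [Matrix.sub_mulVec, hfix, Matrix.one_mulVec, sub_self]⟩
    have hdet := A.2
    rw [Matrix.det_fin_two] at hd hdet
    simp at hd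
    set N := A.1 - 1 with hN
    have hN2 : N * N = 0 := by
      ext i j
      fin_cases i <;> fin_cases j <;> simp [hN, Matrix.mul_apply, Fin.sum_univ_two]
      · linear_combination (A.1 0 0 - 1) * (hdet - hd) - hd
      · linear_combination (A.1 0 1) * (hdet - hd)
      · linear_combination (A.1 1 0) * (hdet - hd)
      · linear_combination (A.1 1 1 - 1) * (hdet - hd) - hd
    have hpow : ∀ m : ℕ, A.1 ^ m = 1 + (m : F) • N := by
      intro m
      induction m with
      | zero => simp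
      | succ m ih =>
        rw [pow_succ, ih, show A.1 = 1 + N by rw [hN, add_sub_cancel], mul_add, mul_one, add_mul, one_mul,
          smul_mul_assoc, hN2, smul_zero, add_zero, Nat.cast_succ, add_smul, one_smul, add_assoc]
    have hAp : A ^ p = 1 := Subtype.ext (by
      rw [Matrix.SpecialLinearGroup.coe_pow, hpow, CharP.cast_eq_zero, zero_smul, add_zero]; rfl)
    have hxp' : x ^ p = 1 := by
      have h1 : (⟨x, hx⟩ : ↥L) ^ p = 1 := c.ρ.injective (by rw [map_pow, ← hA, hAp, map_one])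
      exact congrArg Subtype.val h1
    exact hx1 (orderOf_eq_one_iff.1 (Nat.eq_one_of_dvd_coprimes hxp dvd_rfl (orderOf_dvd_of_pow_eq_one hxp')))
  · by_cases hb : U = ⊥
    · exact Or.inl hb
    refine Or.inr (le_antisymm hU fun y hy => ?_)
    obtain ⟨u, huU, hu1⟩ : ∃ u ∈ U, u ≠ 1 := by
      by_contra h
      push Not at h
      exact hb ((Subgroup.eq_bot_iff_forall _).2 h)
    obtain ⟨hyV, -⟩ := Subgroup.mem_inf.1 hy
    have huV : u ∈ V := (Subgroup.mem_inf.1 (hU huU)).1
    have hu0 := (hCmem u huV).1 (hU huU)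
    have hy0 := (hCmem y hyV).1 hy
    by_cases hy' : c.co y hyV 0 = 0
    · have : y = 1 := c.co_inj hyV (one_mem V) (by
        rw [c.co_one]; funext i; fin_cases i <;> simpa)
      rw [this]; exact one_mem U
    have hune : c.co u huV 0 ≠ 0 := fun h => hu1 (c.co_inj huV (one_mem V) (by
      rw [c.co_one]; funext i; fin_cases i <;> simpa))
    refine hscal U hUn u huV huU (c.co y hyV 0 / c.co u huV 0) (div_ne_zero hy' hune) y hyV ?_
    funext i
    fin_cases i
    · simp [hune]
    · simp [hu0, hy0]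
  · by_cases hUC : U ≤ C
    · exact Or.inl (le_antisymm hUC hCU)
    refine Or.inr (le_antisymm hUV fun y hy => ?_)
    obtain ⟨u, huU, huC⟩ := SetLike.not_le_iff_exists.1 hUC
    have huV := hUV huU
    have hu1 : c.co u huV 1 ≠ 0 := fun h => huC ((hCmem u huV).2 h)
    by_cases hy1 : c.co y hy 1 = 0
    · exact hCU ((hCmem y hy).2 hy1)
    set t := c.co u huV 1 / c.co y hy 1 with ht
    have ht0 : t ≠ 0 := div_ne_zero hu1 hy1
    obtain ⟨w, hw, hwe⟩ := c.co_surj ![t * c.co u huV 0, t⁻¹ * c.co u huV 1]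
    have hwU := hscal U hUn u huV huU t ht0 w hw hwe
    have hyw : y * w⁻¹ ∈ C := by
      refine (hCmem _ (mul_mem hy (inv_mem hw))).2 ?_
      rw [c.co_mul hy (inv_mem hw), c.co_inv hw, hwe]
      simp [ht]
      field_simp
      ring
    simpa using mul_mem (hCU hyw) hwU

end Cfsg.Agent.S2780
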