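import Cfsg.Statements.S2787
import Cfsg.Agent.Lib.LocalEven.NoQuadSL2
import Cfsg.Agent.Lib.LocalEven.ReeInvolutions

set_option autoImplicit false
open Cfsg Cfsg.Agent Cfsg.Agent.Lib Cfsg.Agent.Lib.LocalEven
open scoped commutatorElement IsMulCommutative

namespace Cfsg.Agent.S2787

/-- Let p be a prime and let H act by conjugation on the elementary abelian p-subgroup V of a finite group, irreducibly (no H-invariant subgroups of V other than 1 and V) and nontrivially, and suppose H/C_H(V) is isomorphic to PSL₂(F) for a field F with p^n elements, p^n odd, or p = 3 and H/C_H(V) is isomorphic to a Ree group ²G₂(3^(2m+1)), m ≥ 1. Then no subgroup A of H acting nontrivially on V acts quadratically: [V, A, A] = 1 forces [V, A] = 1. -/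
theorem result {G : Type*} [Group G] [Finite G] {p : ℕ} [Fact p.Prime] (V H : Subgroup G) (hV : Cfsg.IsElementaryAbelian p V) (hHV : H ≤ Subgroup.normalizer (V : Set G)) (hirr : ∀ U : Subgroup G, U ≤ V → H ≤ Subgroup.normalizer (U : Set G) → U = ⊥ ∨ U = V) (hnt : ¬ H ≤ Subgroup.centralizer (V : Set G)) [hn : ((Subgroup.centralizer (V : Set G)).subgroupOf H).Normal] (hq : (∃ (F : Type) (_ : Field F) (_ : Fintype F) (n : ℕ), Fintype.card F = p ^ n ∧ Odd (Fintype.card F) ∧ Nonempty (↥H ⧸ (Subgroup.centralizer (V : Set G)).subgroupOf H ≃* Matrix.ProjectiveSpecialLinearGroup (Fin 2) F)) ∨ (p = 3 ∧ Cfsg.Lie.IsoRee (↥H ⧸ (Subgroup.centralizer (V : Set G)).subgroupOf H))) (A : Subgroup G) (hA : A ≤ H) (hquad : ⁅⁅V, A⁆, A⁆ = ⊥) : ⁅V, A⁆ = ⊥ := by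
  classical
  by_contra hne
  obtain ⟨hVc, hVp⟩ := hV
  haveI := hVc
  obtain ⟨a, ha, hac⟩ : ∃ a ∈ A, a ∉ Subgroup.centralizer (V : Set G) := by
    by_contra hc
    push Not at hc
    exact hne (Subgroup.commutator_eq_bot_iff_le_centralizer.2 (fun v hv =>
      Subgroup.mem_centralizer_iff.2 fun x hx => (Subgroup.mem_centralizer_iff.1 (hc x hx) v hv).symm))
  set x : H := ⟨a, hA ha⟩ with hx
  have hxk : x ∉ NoQuad.ker V H := hac
  haveI : (NoQuad.ker V H).Normal := hn
  have hcomm : ∀ v ∈ V, ⁅⁅v, (x : G)⁆, (x : G)⁆ = 1 := fun v hv => by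
    have h := Subgroup.commutator_mem_commutator (Subgroup.commutator_mem_commutator hv ha) ha
    rwa [hquad, Subgroup.mem_bot] at h
  have hquadx := NoQuad.quad_of_comm hHV hcomm
  have hxp : x ^ p ∈ NoQuad.ker V H := NoQuad.pow_mem_ker hHV hVp hquadx
  have hnb : V ≠ ⊥ := by
    rintro rfl
    refine hnt fun h _ => Subgroup.mem_centralizer_iff.2 fun y hy => ?_
    rw [Subgroup.coe_bot, Set.mem_singleton_iff] at hy
    simp [hy]
  have hVgrp : IsPGroup p V := fun v => ⟨1, Subtype.ext (by simpa using hVp v v.2)⟩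
  rcases hq with ⟨F, iF, iFF, n, hcard, hodd, ⟨e⟩⟩ | ⟨rfl, K, iK, iKF, m, hm, hK, ⟨e⟩⟩
  · have hn0 : n ≠ 0 := by
      rintro rfl
      have := Fintype.one_lt_card (α := F)
      rw [hcard, pow_zero] at this
      omega
    have hp2 : p ≠ 2 := by
      rintro rfl
      rw [hcard] at hodd
      exact Nat.not_even_iff_odd.2 hodd (even_iff_two_dvd.2 (dvd_pow_self 2 hn0))
    haveI hchar : CharP F p := charP_of_card_eq_prime_pow (f := n) hcard
    have h2F : (2 : F) ≠ 0 := by
      intro h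
      have h' : ((2 : ℕ) : F) = 0 := by exact_mod_cast h
      rw [CharP.cast_eq_zero_iff F p] at h'
      exact hp2 ((Nat.prime_dvd_prime_iff_eq Fact.out Nat.prime_two).1 h')
    let π : H →* H ⧸ NoQuad.ker V H := QuotientGroup.mk' _
    let e' : H ⧸ NoQuad.ker V H ≃* Matrix.ProjectiveSpecialLinearGroup (Fin 2) F := e
    let mkP : Matrix.SpecialLinearGroup (Fin 2) F →* Matrix.ProjectiveSpecialLinearGroup (Fin 2) F :=
      QuotientGroup.mk' _
    have hmkP : ∀ g, mkP g = 1 ↔ g ∈ Subgroup.center (Matrix.SpecialLinearGroup (Fin 2) F) :=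
      fun g => QuotientGroup.eq_one_iff g
    obtain ⟨g₀, hg₀⟩ := QuotientGroup.mk'_surjective _ (e' (π x))
    have hx1 : e' (π x) ≠ 1 := fun h => hxk ((QuotientGroup.eq_one_iff x).1 (e'.map_eq_one_iff.1 h))
    have hcen : g₀ ^ p ∈ Subgroup.center (Matrix.SpecialLinearGroup (Fin 2) F) := by
      rw [← hmkP, map_pow]
      show (mkP g₀) ^ p = 1
      rw [show mkP g₀ = e' (π x) from hg₀, ← map_pow, ← map_pow,
        show π (x ^ p) = 1 from (QuotientGroup.eq_one_iff _).2 hxp, map_one]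
    have hsq : g₀ ^ p * g₀ ^ p = 1 := by
      obtain ⟨r, hr, he⟩ := Matrix.SpecialLinearGroup.mem_center_iff.1 hcen
      apply Subtype.ext
      rw [Fintype.card_fin] at hr
      rw [Matrix.SpecialLinearGroup.coe_mul, ← he, ← map_mul, ← pow_two, hr, map_one]
      rfl
    obtain ⟨k, hk⟩ := (Fact.out : p.Prime).odd_of_ne_two hp2
    set g := g₀ * g₀ ^ p with hgdef
    have hgp : g ^ p = 1 := by
      rw [hgdef, (Commute.self_pow g₀ p).mul_pow, ← pow_succ']
      rw [show p + 1 = 2 * (k + 1) by omega, pow_mul, pow_two, hsq, one_pow]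
    have hgx : mkP g = e' (π x) := by
      rw [hgdef, map_mul, (hmkP _).2 hcen, mul_one]; exact hg₀
    have hg1 : g ≠ 1 := fun h => hx1 (by rw [← hgx, h, map_one])
    obtain ⟨w, hw⟩ := NoQuad.exists_conj_trace hgp hg1
    obtain ⟨hc1, hc2⟩ := NoQuad.trace_zero_center h2F hw
    obtain ⟨wH, hwH⟩ := QuotientGroup.mk'_surjective _ (e'.symm (mkP w))
    set y : H := wH * x * wH⁻¹ with hy
    have key : e' (π (x * y * x)) = mkP (g * (w * g * w⁻¹) * g) := by
      simp only [hy, map_mul, map_inv, hgx]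
      rw [show π wH = e'.symm (mkP w) from hwH, MulEquiv.apply_symm_apply]
    refine hc2 ((hmkP _).1 ?_)
    rw [← key]
    have hmem : x * y * x ∈ NoQuad.ker V H := by
      refine NoQuad.mem_ker_of_rel hHV hp2 hVp hquadx (NoQuad.quad_conj hHV hquadx wH) ?_
      refine (QuotientGroup.eq_one_iff _).1 (e'.map_eq_one_iff.1 ?_)
      show e' (π (x * y * x * (x * y * x))) = 1
      rw [map_mul, map_mul, key, ← map_mul, hmkP]
      exact hc1
    rw [show π (x * y * x) = 1 from (QuotientGroup.eq_one_iff _).2 hmem, map_one]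
  · obtain ⟨T, f, hf⟩ := NoQuad.exists_cover (p := 3) (by norm_num) hHV hirr hVgrp hnb hcomm hxk hxp
    obtain ⟨h16, s, t, hs, ht, hst, hs1, ht1, hne'⟩ := Ree.ree_facts hK
    let e' : H ⧸ NoQuad.ker V H ≃* Cfsg.Lie.twistedG2 K (3 ^ m) := e
    refine NoQuad.no_cover (p := 3) (by norm_num) (by rwa [Nat.card_congr e'.toEquiv])
      (s := e'.symm s) (t := e'.symm t) (by rw [← map_mul, hs, map_one]) (by rw [← map_mul, ht, map_one])
      (by rw [← map_mul, hst, map_mul]) (fun h => hs1 (e'.symm.map_eq_one_iff.1 h))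
      (fun h => ht1 (e'.symm.map_eq_one_iff.1 h)) (fun h => hne' (e'.symm.injective h)) T f hf

end Cfsg.Agent.S2787
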