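import Cfsg.Statements.S2788
import Cfsg.Agent.Lib.LocalEven.FrakLModels
import Cfsg.Agent.Lib.LocalEven.Subnormal
import Cfsg.Agent.Lib.LocalEven.CharP
import Cfsg.Agent.S2904

set_option autoImplicit false
open Cfsg Cfsg.Agent Cfsg.Agent.Lib Cfsg.Agent.Lib.LocalEven
open scoped commutatorElement

namespace Cfsg.Agent.S2788

theorem free_dvd {G : Type*} [Group G] [Finite G] {V : Subgroup G} {h : G} (hV : h ∈ Subgroup.normalizer (V : Set G))
    {r k : ℕ} (hr : r.Prime) (hk : orderOf h = r ^ (k + 1)) :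
    r ^ (k + 1) ∣ Nat.card {x : G // x ∈ V ∧ x ∉ Subgroup.centralizer ({h ^ r ^ k} : Set G)} := by
  set h' := h ^ r ^ k with hh'
  have hkey : ∀ g ∈ Subgroup.zpowers h, ∀ x : G, x ∈ V → x ∉ Subgroup.centralizer ({h'} : Set G) →
      g * x * g⁻¹ ∈ V ∧ g * x * g⁻¹ ∉ Subgroup.centralizer ({h'} : Set G) := by
    rintro _ ⟨j, rfl⟩ x hx hxC
    refine ⟨(Subgroup.mem_normalizer_iff.1 (zpow_mem hV j) x).1 hx, fun hc => hxC ?_⟩
    rw [Subgroup.mem_centralizer_singleton_iff] at hc ⊢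
    have e : Commute (h ^ j) h' := (Commute.pow_right (Commute.zpow_left (Commute.refl h) j) _)
    have hc' : Commute (h ^ j * x * (h ^ j)⁻¹) h' := hc
    have := ((e.inv_left.mul_left hc').mul_left e)
    simpa [mul_assoc] using this.eq
  let K := Subgroup.zpowers h
  let Ω := {x : G // x ∈ V ∧ x ∉ Subgroup.centralizer ({h'} : Set G)}
  letI : MulAction K Ω :=
    { smul := fun g x => ⟨g * x * (g : G)⁻¹, hkey g g.2 x x.2.1 x.2.2⟩
      one_smul := fun x => Subtype.ext (show (1 : G) * x * 1⁻¹ = x by group)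
      mul_smul := fun g g' x => Subtype.ext (show (g : G) * g' * x * ((g : G) * g')⁻¹ =
        g * (g' * x * (g' : G)⁻¹) * (g : G)⁻¹ by group) }
  have hfree : ∀ x : Ω, MulAction.stabilizer K x = ⊥ := by
    intro x
    rw [eq_bot_iff]
    intro g hg
    rw [Subgroup.mem_bot]
    by_contra hne
    refine x.2.2 ?_
    have hfix : (g : G) * x * (g : G)⁻¹ = x := congrArg Subtype.val hg
    obtain ⟨j, hj⟩ : ∃ j : ℕ, h ^ j = g := (mem_powers_iff_mem_zpowers.2 g.2 : (g : G) ∈ Submonoid.powers h)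
    have hj0 : j ≠ 0 := fun e => hne (Subtype.ext (by rw [← hj, e, pow_zero]; rfl))
    obtain ⟨i, b, hb, hjb⟩ := Nat.exists_eq_pow_mul_and_not_dvd hj0 r hr.ne_one
    have hik : i ≤ k := by
      by_contra hlt
      refine hne (Subtype.ext ?_)
      rw [← hj, hjb, pow_mul, show i = (k + 1) + (i - (k + 1)) by omega, pow_add, pow_mul, ← hk,
        pow_orderOf_eq_one, one_pow, one_pow]
      rfl
    have hpow : h' ^ b = (g : G) ^ r ^ (k - i) := by
      rw [hh', ← hj, hjb, ← pow_mul, ← pow_mul, mul_right_comm, ← pow_add, Nat.add_sub_cancel' hik]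
    have ho' : orderOf h' = r := by
      rw [hh', orderOf_pow_of_dvd (pow_ne_zero _ hr.ne_zero) (by rw [hk]; exact pow_dvd_pow r (Nat.le_succ k)), hk,
        Nat.pow_div (Nat.le_succ k) hr.pos, Nat.succ_eq_add_one, Nat.add_sub_cancel_left, pow_one]
    obtain ⟨m, hm⟩ := exists_pow_eq_self_of_coprime (n := b) (x := h') (by
      rw [ho']; exact (hr.coprime_iff_not_dvd.2 hb).symm)
    have hgx : Commute (x : G) (g : G) := (mul_inv_eq_iff_eq_mul.1 hfix).symm
    rw [Subgroup.mem_centralizer_singleton_iff]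
    have e : ((g : G) ^ r ^ (k - i)) ^ m = h' := by rw [← hpow, hm]
    have hc : Commute (x : G) (((g : G) ^ r ^ (k - i)) ^ m) := (hgx.pow_right _).pow_right m
    rw [e] at hc
    exact hc.eq
  rw [← hk, ← Nat.card_zpowers, Nat.card_congr (MulAction.selfEquivOrbitsQuotientProd hfree), Nat.card_prod]
  exact dvd_mul_left _ _

theorem two_n_le {G : Type*} [Group G] [Finite G] {p : ℕ} [Fact p.Prime] {V : Subgroup G} (hV : IsPGroup p V)
    {h : G} (hn : h ∈ Subgroup.normalizer (V : Set G)) {r k n : ℕ} (hr : r.Prime)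
    (hk : orderOf h = r ^ (k + 1)) (hne : ¬ V ≤ Subgroup.centralizer ({h ^ r ^ k} : Set G))
    (hd : r ^ (k + 1) ∣ p ^ (2 * n) - 1) (hprim : ∀ j, 0 < j → j < 2 * n → ¬ r ^ (k + 1) ∣ p ^ j - 1)
    (hn0 : 0 < n) :
    p ^ (2 * n) ≤ (V ⊓ Subgroup.centralizer ({h ^ r ^ k} : Set G)).relIndex V := by
  classical
  set C := V ⊓ Subgroup.centralizer ({h ^ r ^ k} : Set G) with hC
  obtain ⟨d, hd'⟩ := IsPGroup.iff_card.1 hV
  obtain ⟨c, hc⟩ := IsPGroup.iff_card.1 (hV.to_le (inf_le_left : C ≤ V))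
  have hcard := card_mul_relIndex' (inf_le_left : C ≤ V)
  have hΩ : Nat.card {x : G // x ∈ V ∧ x ∉ Subgroup.centralizer ({h ^ r ^ k} : Set G)} + p ^ c = p ^ d := by
    rw [← hd', ← hc]
    have e1 : Nat.card C = Nat.card {x : G // x ∈ V ∧ x ∈ Subgroup.centralizer ({h ^ r ^ k} : Set G)} :=
      Nat.card_congr (Equiv.subtypeEquivRight fun _ => Subgroup.mem_inf)
    rw [e1, add_comm, ← Nat.card_sum]
    refine Nat.card_congr (((Equiv.subtypeSubtypeEquivSubtypeInter _ _).symm.sumCongr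
      (Equiv.subtypeSubtypeEquivSubtypeInter _ _).symm).trans
      (Equiv.sumCompl fun x : V => (x : G) ∈ Subgroup.centralizer ({h ^ r ^ k} : Set G)))
  have hp := (Fact.out : p.Prime)
  have hcd : c < d := by
    refine (Nat.pow_lt_pow_iff_right hp.one_lt).1 ?_
    rw [← hc, ← hd']
    refine lt_of_le_of_ne (Subgroup.card_le_of_le inf_le_left) fun e => hne ?_
    exact (Subgroup.eq_of_le_of_card_ge inf_le_left e.ge).ge.trans inf_le_right
  have hdvd := free_dvd hn hr hk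
  rw [show Nat.card {x : G // x ∈ V ∧ x ∉ Subgroup.centralizer ({h ^ r ^ k} : Set G)} = p ^ c * (p ^ (d - c) - 1) by
    rw [Nat.mul_sub, mul_one, ← pow_add, Nat.add_sub_cancel' hcd.le]; omega] at hdvd
  have hrp : r ≠ p := by
    rintro rfl
    have h1 : r ∣ r ^ (2 * n) - 1 := (dvd_pow_self r (Nat.succ_ne_zero k)).trans hd
    have h2 := Nat.dvd_sub (dvd_pow_self r (show 2 * n ≠ 0 by omega)) h1
    rw [Nat.sub_sub_self (Nat.one_le_pow _ _ hr.pos)] at h2
    exact hr.one_lt.ne' (Nat.dvd_one.1 h2)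
  have hdvd' : r ^ (k + 1) ∣ p ^ (d - c) - 1 :=
    (Nat.Coprime.pow _ _ ((Nat.coprime_primes hr hp).2 hrp)).dvd_of_dvd_mul_left hdvd
  have hcast : ∀ j, r ^ (k + 1) ∣ p ^ j - 1 ↔ (p : ZMod (r ^ (k + 1))) ^ j = 1 := by
    intro j
    rw [← ZMod.natCast_eq_zero_iff, Nat.cast_sub (Nat.one_le_pow _ _ hp.pos), sub_eq_zero]
    simp
  have hord : orderOf (p : ZMod (r ^ (k + 1))) = 2 * n :=
    (orderOf_eq_iff (by omega)).2 ⟨(hcast _).1 hd, fun j hj hj0 e => hprim j hj0 hj ((hcast j).2 e)⟩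
  have hle := Nat.le_of_dvd (by omega) (hord ▸ orderOf_dvd_of_pow_eq_one ((hcast _).1 hdvd'))
  have : C.relIndex V = p ^ (d - c) := by
    refine Nat.eq_of_mul_eq_mul_left (Nat.pos_of_ne_zero (hc ▸ pow_ne_zero c hp.ne_zero)) (hcard.trans ?_)
    rw [hc, hd', ← pow_add, Nat.add_sub_cancel' hcd.le]
  rw [this]
  exact Nat.pow_le_pow_right hp.pos hle

section
open SL2Trace
variable {F : Type*} [Field F]
local notation "SL2" => Matrix.SpecialLinearGroup (Fin 2) F

theorem comp_order_nine [Fintype F] [CharP F 2] (hF : Fintype.card F = 2 ^ 3) : ∃ h : SL2, orderOf h = 3 ^ 2 := by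
  classical
  obtain ⟨a, -, ha⟩ := Finset.exists_mem_notMem_of_card_lt_card
    (s := ({0, 1} : Finset F)) (t := (Finset.univ : Finset F))
    (lt_of_le_of_lt Finset.card_le_two (by rw [Finset.card_univ, hF]; norm_num))
  simp at ha
  obtain ⟨ha0, ha1⟩ := ha
  have h7 : a ^ 7 = 1 := by
    have := FiniteField.pow_card_sub_one_eq_one a ha0
    rwa [hF] at this
  have h20 : (2 : F) = 0 := CharTwo.two_eq_zero
  obtain ⟨γ, hγ⟩ : ∃ γ : F, γ ^ 3 + γ + 1 = 0 := by
    have hsub : a - 1 ≠ 0 := sub_ne_zero.2 ha1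
    have : (a ^ 3 + a + 1) * (a ^ 3 + a ^ 2 + 1) * (a - 1) = 0 := by
      linear_combination h7 + (a ^ 4 - a ^ 3) * h20
    rcases mul_eq_zero.1 ((mul_eq_zero.1 this).resolve_right hsub) with e | e
    · exact ⟨a, e⟩
    · refine ⟨a⁻¹, ?_⟩
      field_simp
      linear_combination e
  set A := comp γ with hA
  have hB : tr (A ^ 3) = 1 := by
    rw [tr_eq]
    have hAval : (A : Matrix (Fin 2) (Fin 2) F) = !![0, -1; 1, γ] := rfl
    rw [Matrix.SpecialLinearGroup.coe_pow, hAval]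
    simp [pow_succ, Matrix.mul_apply, Fin.sum_univ_two]
    linear_combination hγ - (2 * γ + 1) * h20
  refine ⟨A, orderOf_eq_prime_pow ?_ ?_⟩
  · rw [pow_one]
    intro e
    rw [e, tr_eq] at hB
    simp at hB
  · set B := A ^ 3
    refine Subtype.ext ?_
    rw [show A ^ 3 ^ (1 + 1) = B ^ 3 by rw [← pow_mul]; rfl]
    have hBB := sq_eq B
    rw [hB, one_smul] at hBB
    simp only [Matrix.SpecialLinearGroup.coe_pow, Matrix.SpecialLinearGroup.coe_one]
    rw [pow_succ, sq, hBB, Matrix.sub_mul, hBB, one_mul, sub_sub_cancel_left]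
    ext i j
    exact CharTwo.neg_eq _

theorem exists_product [Fintype F] {p : ℕ} [Fact p.Prime] [CharP F p] {h0 : SL2} {r k : ℕ} (hr : r.Prime)
    (hr2 : r ≠ 2) (hrp : r ≠ p) (ho : orderOf h0 = r ^ (k + 1)) {α : F} (hα : α ≠ 0) :
    ∃ c d : SL2, c * upUni α * c⁻¹ * (d * upUni α * d⁻¹) = -h0 := by
  have hodd : Odd (orderOf h0) := ho ▸ (hr.odd_of_ne_two hr2).pow
  obtain ⟨w, hw⟩ : ∃ w : SL2, h0 = w * w := by
    refine ⟨h0 ^ ((orderOf h0 + 1) / 2), ?_⟩
    rw [← pow_add, ← two_mul, Nat.two_mul_div_two_of_even hodd.add_one, pow_succ, pow_orderOf_eq_one, one_mul]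
  have hT : tr h0 ^ 2 ≠ 4 := by
    intro e
    have hd : orderOf h0 ∣ 2 * p := orderOf_dvd_of_pow_eq_one (by
      rcases pow_char_of_tr p e with e | e <;> rw [mul_comm, pow_mul, e] <;> simp)
    have h1 : r ∣ 2 * p := (dvd_pow_self r (Nat.succ_ne_zero k)).trans (ho ▸ hd)
    rcases hr.dvd_mul.1 h1 with h | h
    · exact hr2 ((Nat.prime_dvd_prime_iff_eq hr Nat.prime_two).1 h)
    · exact hrp ((Nat.prime_dvd_prime_iff_eq hr Fact.out).1 h)
  set s := tr w with hs
  have htr : tr h0 = s ^ 2 - 2 := by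
    rw [hw, tr, Matrix.SpecialLinearGroup.coe_mul, sq_eq w, Matrix.trace_sub, Matrix.trace_smul, Matrix.trace_one]
    simp [hs, tr, sq]
  have hs0 : s ≠ 0 := fun e => hT (by rw [htr, e]; ring)
  set t := s / α with ht
  have ht0 : t ≠ 0 := div_ne_zero hs0 hα
  set d : SL2 := ⟨!![0, t⁻¹; -t, 0], by simp [Matrix.det_fin_two, ht0]⟩ with hd
  have hdval : (d : Matrix (Fin 2) (Fin 2) F) = !![0, t⁻¹; -t, 0] := rfl
  have hlow : d * upUni α * d⁻¹ = loUni (-(α * t ^ 2)) := by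
    rw [mul_inv_eq_iff_eq_mul]
    refine Subtype.ext ?_
    ext i j
    fin_cases i <;> fin_cases j <;>
      simp [Matrix.SpecialLinearGroup.coe_mul, upUni_val, loUni_val, hdval, Matrix.mul_apply, Fin.sum_univ_two]
    field_simp
  have hM : tr (upUni α * loUni (-(α * t ^ 2))) = tr (-h0) := by
    rw [tr_neg, htr, tr_eq]
    simp [Matrix.SpecialLinearGroup.coe_mul, upUni_val, loUni_val, Matrix.mul_apply, Fin.sum_univ_two]
    rw [ht]
    field_simp
    ring
  obtain ⟨c, hc⟩ := isConj_iff.1 (isConj_of_tr_eq hM (by rw [hM, tr_neg, neg_sq]; exact hT))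
  refine ⟨c, c * d, ?_⟩
  rw [← hc, ← hlow]
  group

end

/-- Let H act faithfully by conjugation on the elementary abelian p-subgroup V of a finite group with H ≅ SL₂(F), F a field with p^n elements, S a Sylow p-subgroup of H, and A ≤ S a subgroup of order at least 3 acting quadratically on V ([V, A, A] = 1). Then |V/C_V(a)| ≥ p^n for every nonidentity a ∈ A. -/
theorem result {G : Type*} [Group G] [Finite G] {p : ℕ} [Fact p.Prime] (V H : Subgroup G) (hV : Cfsg.IsElementaryAbelian p V) (hHV : H ≤ Subgroup.normalizer (V : Set G)) (hf : H ⊓ Subgroup.centralizer (V : Set G) = ⊥) {F : Type*} [Field F] [Fintype F] (n : ℕ) (hF : Fintype.card F = p ^ n) (hiso : Nonempty (↥H ≃* Matrix.SpecialLinearGroup (Fin 2) F)) (S : Sylow p ↥H) (T : Subgroup G) (hT : T = ((S : Subgroup ↥H).map H.subtype)) (A : Subgroup G) (hA : A ≤ T) (hA3 : 3 ≤ Nat.card A) (hquad : ⁅⁅V, A⁆, A⁆ = ⊥) : ∀ a ∈ A, a ≠ 1 → p ^ n ≤ ((V ⊓ Subgroup.centralizer ({a} : Set G))).relIndex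 V := by
  intro a ha ha1
  obtain ⟨e⟩ := hiso
  have hVp : IsPGroup p V := fun v => ⟨1, Subtype.ext (by
    rw [SubgroupClass.coe_pow, pow_one]; exact hV.2 v v.2)⟩
  subst hT
  obtain ⟨aH, haS, rfl⟩ := hA ha
  set C := V ⊓ Subgroup.centralizer ({H.subtype aH} : Set G) with hC
  have hne : ∀ g : G, g ∈ H → g ≠ 1 → ¬ V ≤ Subgroup.centralizer ({g} : Set G) := by
    intro g hg hg1 hle
    refine hg1 (Subgroup.mem_bot.1 (hf ▸ Subgroup.mem_inf.2 ⟨hg, ?_⟩))
    exact Subgroup.mem_centralizer_iff.2 fun v hv => (Subgroup.mem_centralizer_singleton_iff.1 (hle hv))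
  have hp := (Fact.out : p.Prime)
  rcases Nat.lt_or_ge n 2 with hn | hn
  · refine le_trans (Nat.pow_le_pow_right hp.pos (show n ≤ 1 by omega)) ?_
    rw [pow_one]
    obtain ⟨d, hd⟩ := IsPGroup.iff_card.1 hVp
    have hdv : C.relIndex V ∣ p ^ d := hd ▸ Dvd.intro_left _ (card_mul_relIndex' (inf_le_left : C ≤ V))
    obtain ⟨i, -, hi⟩ := (Nat.dvd_prime_pow hp).1 hdv
    rw [hi]
    refine Nat.le_self_pow (fun e0 => ?_) p
    rw [e0, pow_zero, Subgroup.relIndex_eq_one] at hi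
    exact hne _ aH.2 ha1 (hi.trans inf_le_right)
  haveI : CharP F p := by
    obtain ⟨q, hq⟩ := CharP.exists F
    obtain ⟨k, hqp, hk⟩ := FiniteField.card F q
    have : q ∣ p ^ n := by rw [← hF, hk]; exact dvd_pow_self q k.pos.ne'
    rwa [← (Nat.prime_dvd_prime_iff_eq hqp hp).1 (hqp.dvd_of_dvd_pow this)]
  -- `a` is conjugate to an upper unitriangular matrix
  obtain ⟨g, hg⟩ := exists_conj_upU (p := p) (F := F)
    ((S.isPGroup').map e.toMonoidHom)
  obtain ⟨α, hα⟩ := mem_conjS.1 (hg ⟨aH, haS, rfl⟩)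
  have hα0 : α ≠ 0 := by
    intro h0
    rw [h0, upUni_zero] at hα
    refine ha1 (congrArg H.subtype (e.injective ?_ : aH = 1))
    rw [map_one]
    calc e aH = g * (g⁻¹ * e.toMonoidHom aH * g) * g⁻¹ := by simp [mul_assoc]
      _ = 1 := by rw [← hα, mul_one, mul_inv_cancel]
  -- the element of primitive order
  obtain ⟨r, k, h0, hr, hr2, ho, hd, hprim⟩ : ∃ r k, ∃ h0 : Matrix.SpecialLinearGroup (Fin 2) F, r.Prime ∧ r ≠ 2 ∧
      orderOf h0 = r ^ (k + 1) ∧ r ^ (k + 1) ∣ p ^ (2 * n) - 1 ∧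
        ∀ j, 0 < j → j < 2 * n → ¬ r ^ (k + 1) ∣ p ^ j - 1 := by
    by_cases h6 : p = 2 ∧ n = 3
    · obtain ⟨rfl, rfl⟩ := h6
      obtain ⟨h0, h0o⟩ := comp_order_nine (F := F) hF
      refine ⟨3, 1, h0, by norm_num, by norm_num, h0o, by norm_num, ?_⟩
      intro j hj hj'
      interval_cases j <;> norm_num
    · obtain ⟨r, hr, hd, hprim⟩ := Cfsg.Agent.S2904.result p (2 * n) hp.one_lt (by omega)
        (fun h => h6 ⟨h.1, by omega⟩) (fun h => by omega)
      have hr2 : r ≠ 2 := by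
        rintro rfl
        rcases hp.eq_two_or_odd with h2 | h2
        · subst h2
          have : 2 ∣ 2 ^ (2 * n) := dvd_pow_self 2 (by omega)
          have := Nat.one_le_two_pow (n := 2 * n)
          omega
        · exact hprim 1 one_pos (by omega) (by rw [pow_one]; omega)
      haveI : Fact r.Prime := ⟨hr⟩
      obtain ⟨h0, h0o⟩ := exists_prime_orderOf_dvd_card' (G := Matrix.SpecialLinearGroup (Fin 2) F) r (by
        rw [KnownA.card_SL2, hF, ← pow_mul, mul_comm n 2]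
        exact hd.mul_left _)
      exact ⟨r, 0, h0, hr, hr2, by rw [h0o, zero_add, pow_one], by rwa [zero_add, pow_one],
        fun j hj hj' => by rw [zero_add, pow_one]; exact hprim j hj hj'⟩
  have hrp : r ≠ p := by
    rintro rfl
    have h1 : r ∣ r ^ (2 * n) - 1 := (dvd_pow_self r (Nat.succ_ne_zero k)).trans hd
    have h2 := Nat.dvd_sub (dvd_pow_self r (show 2 * n ≠ 0 by omega)) h1
    rw [Nat.sub_sub_self (Nat.one_le_pow _ _ hr.pos)] at h2
    exact hr.one_lt.ne' (Nat.dvd_one.1 h2)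
  obtain ⟨c, d, hcd⟩ := exists_product hr hr2 hrp ho hα0
  -- transport to `H`
  set h := e.symm h0 with hh
  set x := e.symm (c * g⁻¹) with hx
  set y := e.symm (d * g⁻¹) with hy
  have hprod : (x * aH * x⁻¹) * (y * aH * y⁻¹) * ((x * aH * x⁻¹) * (y * aH * y⁻¹)) = h * h := by
    apply e.injective
    simp only [map_mul, map_inv, hx, hy, hh, MulEquiv.apply_symm_apply]
    have h1 : g⁻¹ * e aH * g = upUni α := hα.symm
    have h2 : ∀ z : Matrix.SpecialLinearGroup (Fin 2) F, z * g⁻¹ * e aH * (z * g⁻¹)⁻¹ = z * upUni α * z⁻¹ := by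
      intro z; rw [← h1]; group
    rw [h2, h2, hcd, neg_mul_neg]
  have hoh : orderOf (h : G) = r ^ (k + 1) := by
    rw [Subgroup.orderOf_coe, hh, ← ho]
    exact orderOf_injective e.symm.toMonoidHom e.symm.injective h0
  set C1 := V ⊓ Subgroup.centralizer ({((x * aH * x⁻¹ : ↥H) : G)} : Set G) with hC1
  set C2 := V ⊓ Subgroup.centralizer ({((y * aH * y⁻¹ : ↥H) : G)} : Set G) with hC2
  have hrel : ∀ z : ↥H, (V ⊓ Subgroup.centralizer ({((z * aH * z⁻¹ : ↥H) : G)} : Set G)).relIndex V = C.relIndex V := by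
    intro z
    have hz : conjS (z : G) V = V := conjS_eq_self_iff.2 (hHV z.2)
    have e1 : V ⊓ Subgroup.centralizer ({((z * aH * z⁻¹ : ↥H) : G)} : Set G) = conjS (z : G) C := by
      rw [hC, conjS_inf, hz]
      congr 1
      exact centralizer_singleton_conj _ _
    rw [e1]
    nth_rewrite 1 [← hz]
    exact Subgroup.relIndex_map_map_of_injective _ _ (MulAut.conj (z : G)).injective
  have hsub : C1 ⊓ C2 ≤ V ⊓ Subgroup.centralizer ({(h : G) ^ r ^ k} : Set G) := by
    intro v hv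
    obtain ⟨h1, h2⟩ := Subgroup.mem_inf.1 hv
    obtain ⟨hvV, h1⟩ := Subgroup.mem_inf.1 h1
    refine Subgroup.mem_inf.2 ⟨hvV, Subgroup.mem_centralizer_singleton_iff.2 ?_⟩
    have e1 : Commute v ((x * aH * x⁻¹ : ↥H) : G) := Subgroup.mem_centralizer_singleton_iff.1 h1
    have e2 : Commute v ((y * aH * y⁻¹ : ↥H) : G) :=
      Subgroup.mem_centralizer_singleton_iff.1 (Subgroup.mem_inf.1 h2).2
    have e3 : Commute v ((h : G) ^ 2) := by
      rw [pow_two, ← Subgroup.coe_mul, ← hprod]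
      push_cast
      push_cast at e1 e2
      exact (e1.mul_right e2).mul_right (e1.mul_right e2)
    obtain ⟨m, hm⟩ := exists_pow_eq_self_of_coprime (n := 2) (x := (h : G)) (by
      rw [hoh]; exact Nat.Coprime.pow_right _ ((Nat.coprime_primes Nat.prime_two hr).2 (Ne.symm hr2)))
    exact (((hm ▸ e3.pow_right m : Commute v (h : G))).pow_right _).eq
  have hbig := two_n_le hVp (hHV h.2) hr hoh
    (hne _ (pow_mem h.2 _) fun e0 => by
      have h1 := orderOf_dvd_of_pow_eq_one e0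
      rw [hoh] at h1
      have h2 := (Nat.pow_dvd_pow_iff_le_right hr.one_lt).1 h1
      omega)
    hd hprim (by omega)
  have hge : p ^ (2 * n) ≤ C.relIndex V * C.relIndex V := by
    refine hbig.trans (le_trans (Subgroup.relIndex_le_of_le_left hsub ?_) ?_)
    · exact Subgroup.index_ne_zero_of_finite
    · calc (C1 ⊓ C2).relIndex V ≤ C1.relIndex V * C2.relIndex V := Subgroup.relIndex_inf_le
        _ = C.relIndex V * C.relIndex V := by rw [hC1, hC2, hrel, hrel]
  rw [mul_comm 2 n, pow_mul, sq] at hge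
  exact Nat.mul_self_le_mul_self_iff.1 hge

end Cfsg.Agent.S2788
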