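import Cfsg.Statements.S2791
import Cfsg.Agent.Lib.FusionControl.Centric
import Cfsg.Agent.Lib.FusionControl.NormalControl
import Cfsg.Agent.Lib.LocalEven.Residual

set_option autoImplicit false
open Cfsg Cfsg.Agent Cfsg.Agent.Lib
open scoped commutatorElement

namespace Cfsg.Agent.S2791

open Cfsg.Agent.Lib.FusionControl

universe v

variable {G : Type v} [Group G] [Finite G] {p : ℕ} [hp : Fact p.Prime]

theorem agree (S : Sylow p G) {A : Subgroup G} (hA : IsMulCommutative ↥A)
    (hsc : Cfsg.IsStronglyClosed A (S : Subgroup G)) :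
    ∀ (T : Subgroup G) (g : G), T ≤ (S : Subgroup G) → cj g T ≤ (S : Subgroup G) →
      ∃ y ∈ Subgroup.normalizer (A : Set G), ∀ u ∈ T, g * u * g⁻¹ = y * u * y⁻¹ := by
  obtain ⟨hAS, hcl⟩ := hsc
  have hSA : (S : Subgroup G) ≤ Subgroup.normalizer (A : Set G) := fun s hs =>
    mem_normalizer_of_cj_le (cj_le_iff.2 fun a ha =>
      hcl a ha s (mul_mem (mul_mem hs (hAS ha)) (inv_mem hs)))
  suffices H : ∀ (k : ℕ) (T : Subgroup G) (g : G), Nat.card (S : Subgroup G) - Nat.card T = k →
      T ≤ (S : Subgroup G) → cj g T ≤ (S : Subgroup G) →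
      ∃ y ∈ Subgroup.normalizer (A : Set G), ∀ u ∈ T, g * u * g⁻¹ = y * u * y⁻¹ from
    fun T g => H _ T g rfl
  intro k
  induction k using Nat.strong_induction_on with
  | _ k ih =>
    intro T g hk hT hgT
    by_cases hTS : T = (S : Subgroup G)
    · refine ⟨g, mem_normalizer_of_cj_le (cj_le_iff.2 fun a ha => hcl a ha g ?_), fun u _ => rfl⟩
      exact hgT (conj_mem_cj (hTS ▸ hAS ha))
    have bigger : ∀ (R : Subgroup G) (h : G), Nat.card T < Nat.card R → R ≤ (S : Subgroup G) →
        cj h R ≤ (S : Subgroup G) → ∃ y ∈ Subgroup.normalizer (A : Set G), ∀ u ∈ R, h * u * h⁻¹ = y * u * y⁻¹ := by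
      intro R h hlt hR hhR
      have := Subgroup.card_le_of_le hR
      exact ih _ (by omega) R h rfl hR hhR
    -- conjugations inside the normalizer of an extremal subgroup
    have step : ∀ U : Subgroup G, Extr p (S : Subgroup G) U → Nat.card U = Nat.card T →
        ∀ x ∈ Subgroup.normalizer (U : Set G),
          ∃ y ∈ Subgroup.normalizer (A : Set G), ∀ u ∈ U, x * u * x⁻¹ = y * u * y⁻¹ := by
      intro U hext hcU x hx
      set A0 := A ⊓ U with hA0
      have hA0n : ∀ n ∈ Subgroup.normalizer (U : Set G), ∀ a ∈ A0, n * a * n⁻¹ ∈ A0 := by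
        intro n hn a ha
        obtain ⟨haA, haU⟩ := Subgroup.mem_inf.1 ha
        have h1 := (Subgroup.mem_normalizer_iff.1 hn a).1 haU
        exact Subgroup.mem_inf.2 ⟨hcl a haA n (hext.1 h1), h1⟩
      by_cases hAU : A ≤ U
      · refine ⟨x, mem_normalizer_of_cj_le (cj_le_iff.2 fun a ha => ?_), fun u _ => rfl⟩
        exact (Subgroup.mem_inf.1 (hA0n x hx a (Subgroup.mem_inf.2 ⟨ha, hAU ha⟩))).1
      set N := Subgroup.normalizer (U : Set G) with hN
      let K : Subgroup G :=
        { carrier := {y | y ∈ N ∧ (∀ a ∈ A0, y * a = a * y) ∧ ∀ u ∈ U, y * u * y⁻¹ * u⁻¹ ∈ A0}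
          one_mem' := ⟨one_mem _, fun a _ => by simp, fun u _ => by simp⟩
          mul_mem' := fun {a b} ha hb => ⟨mul_mem ha.1 hb.1, fun c hc => by
            rw [mul_assoc, hb.2.1 c hc, ← mul_assoc, ha.2.1 c hc, mul_assoc], fun u hu => by
            rw [show a * b * u * (a * b)⁻¹ * u⁻¹ = a * (b * u * b⁻¹ * u⁻¹) * a⁻¹ * (a * u * a⁻¹ * u⁻¹) by group]
            exact mul_mem (hA0n a ha.1 _ (hb.2.2 u hu)) (ha.2.2 u hu)⟩
          inv_mem' := fun {a} ha => ⟨inv_mem ha.1, fun c hc => by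
            have := ha.2.1 c hc
            calc a⁻¹ * c = a⁻¹ * (c * a) * a⁻¹ := by group
              _ = a⁻¹ * (a * c) * a⁻¹ := by rw [this]
              _ = c * a⁻¹ := by group, fun u hu => by
            have h1 := ha.2.2 (a⁻¹ * u * a) (by
              simpa using (Subgroup.mem_normalizer_iff.1 (inv_mem ha.1) u).1 hu)
            have h2 : a⁻¹ * u * a⁻¹⁻¹ * u⁻¹ = (a * (a⁻¹ * u * a) * a⁻¹ * (a⁻¹ * u * a)⁻¹)⁻¹ := by group
            rw [h2]
            exact inv_mem h1⟩ }
      have hKN : K ≤ N := fun y hy => hy.1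
      have hNK : N ≤ Subgroup.normalizer (K : Set G) := fun n hn => mem_normalizer_of_cj_le (cj_le_iff.2 fun y hy => by
        refine ⟨mul_mem (mul_mem hn hy.1) (inv_mem hn), fun a ha => ?_, fun u hu => ?_⟩
        · have h1 : n⁻¹ * a * n ∈ A0 := by simpa using hA0n n⁻¹ (inv_mem hn) a ha
          calc n * y * n⁻¹ * a = n * (y * (n⁻¹ * a * n)) * n⁻¹ := by group
            _ = n * ((n⁻¹ * a * n) * y) * n⁻¹ := by rw [hy.2.1 _ h1]
            _ = _ := by group
        · have h1 : n⁻¹ * u * n ∈ U := by simpa using (Subgroup.mem_normalizer_iff.1 (inv_mem hn) u).1 hu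
          rw [show n * y * n⁻¹ * u * (n * y * n⁻¹)⁻¹ * u⁻¹ =
            n * (y * (n⁻¹ * u * n) * y⁻¹ * (n⁻¹ * u * n)⁻¹) * n⁻¹ by group]
          exact hA0n n hn _ (hy.2.2 _ h1))
      set P := nS (S : Subgroup G) U ⊓ K with hP
      have hPp : IsPGroup p P := S.2.to_le (inf_le_left.trans inf_le_left)
      have hPi : ¬ p ∣ P.relIndex K := not_dvd_relIndex_inf inf_le_right (S.2.to_le inf_le_left) hext.2 hKN hNK
      have hCK : Subgroup.centralizer (U : Set G) ≤ K := fun c hc => by
        refine ⟨Subgroup.centralizer_le_normalizer _ hc, fun a ha => ?_, fun u hu => ?_⟩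
        · exact (Subgroup.mem_centralizer_iff.1 hc a (Subgroup.mem_inf.1 ha).2).symm
        · rw [← Subgroup.mem_centralizer_iff.1 hc u hu]; simp
      -- `K = C(U) P`
      have hgen : K ≤ Subgroup.centralizer (U : Set G) ⊔ P := by
        set C := Subgroup.centralizer (U : Set G) with hC
        haveI : (C.subgroupOf K).Normal := LocalEven.subgroupOf_normal_of_le
          (hKN.trans (LocalEven.le_normalizer_centralizer le_rfl))
        have hq : IsPGroup p (↥K ⧸ C.subgroupOf K) := by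
          intro q
          obtain ⟨y, rfl⟩ := QuotientGroup.mk_surjective q
          obtain ⟨a, b, ha, hb, hcop, ⟨n, hn⟩, he⟩ := Cfsg.Agent.Lib.Transfer.exists_pPart_decomp (p := p) (y : G)
          have haK : a ∈ K := (Subgroup.zpowers_le.2 y.2) ha
          have haC : a ∈ C := Subgroup.mem_centralizer_iff.2 fun u hu => by
            have h1 := haK.2.2 u hu
            obtain ⟨t, ht⟩ := (S.2.to_le (inf_le_left.trans hAS) : IsPGroup p A0) ⟨_, h1⟩
            exact ((LocalEven.commute_of_coprime_stab hcop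
              (haK.2.1 _ h1) (k := t) (congrArg Subtype.val ht)).symm).eq
          refine ⟨n, ?_⟩
          rw [← QuotientGroup.mk_pow, QuotientGroup.eq_one_iff, Subgroup.mem_subgroupOf, SubgroupClass.coe_pow, he]
          have hab : Commute a b := by
            obtain ⟨i, rfl⟩ := ha
            obtain ⟨j, rfl⟩ := hb
            exact (Commute.refl _).zpow_zpow i j
          rw [hab.mul_pow, ← hn, pow_orderOf_eq_one, mul_one]
          exact pow_mem haC _
        obtain ⟨m, hm⟩ := IsPGroup.iff_card.1 hq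
        have h1 : (C ⊔ P).relIndex K ∣ p ^ m := by
          rw [← hm, ← Subgroup.index_eq_card]
          exact Subgroup.relIndex_dvd_of_le_left K le_sup_left
        have h2 : (C ⊔ P).relIndex K ∣ P.relIndex K := Subgroup.relIndex_dvd_of_le_left K le_sup_right
        obtain ⟨i, -, hi⟩ := (Nat.dvd_prime_pow hp.out).1 h1
        rcases i with _ | i
        · exact Subgroup.relIndex_eq_one.1 hi
        · exact absurd ((hi ▸ dvd_pow_self p (Nat.succ_ne_zero i)).trans h2) hPi
      obtain ⟨k', hk', y, hy, hxy⟩ := exists_frattini_split inf_le_right hPp hPi (hNK hx)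
      have hyU : y ∈ N := by
        rw [show y = k'⁻¹ * x by rw [hxy]; group]
        exact mul_mem (inv_mem (hKN hk')) hx
      -- a larger subgroup
      obtain ⟨a, ⟨haA, haN⟩, haU⟩ : ∃ a, (a ∈ A ∧ a ∈ N) ∧ a ∉ U := by
        by_contra hcon
        push Not at hcon
        apply hAU
        have hUA : U ≤ Subgroup.normalizer (A : Set G) := hext.1.trans hSA
        have hle : U ⊔ A ≤ (S : Subgroup G) := sup_le hext.1 hAS
        by_contra hne
        have hlt : U < U ⊔ A := lt_of_le_of_ne le_sup_left fun e => hne (le_sup_right.trans e.ge)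
        obtain ⟨w, hw, hwU⟩ := SetLike.exists_of_lt (lt_nS (S.2.to_le hle) hlt)
        obtain ⟨hwUA, hwN⟩ := Subgroup.mem_inf.1 hw
        rw [← SetLike.mem_coe, Subgroup.coe_mul_of_left_le_normalizer_right _ _ hUA] at hwUA
        obtain ⟨u, hu, b, hb, rfl⟩ := hwUA
        exact hwU (mul_mem hu (hcon b ⟨hb, by simpa using mul_mem (inv_mem (Subgroup.le_normalizer hu)) hwN⟩))
      have haP : a ∈ P := by
        refine Subgroup.mem_inf.2 ⟨Subgroup.mem_inf.2 ⟨hAS haA, haN⟩, haN, fun c hc => ?_, fun u hu => ?_⟩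
        · exact congrArg Subtype.val (hA.is_comm.comm ⟨a, haA⟩ ⟨c, (Subgroup.mem_inf.1 hc).1⟩)
        · refine Subgroup.mem_inf.2 ⟨?_, mul_mem ((Subgroup.mem_normalizer_iff.1 haN u).1 hu) (inv_mem hu)⟩
          rw [show a * u * a⁻¹ * u⁻¹ = a * (u * a⁻¹ * u⁻¹) by group]
          exact mul_mem haA ((Subgroup.mem_normalizer_iff.1 (hSA (hext.1 hu)) _).1 (inv_mem haA))
      have hUP : U ⊔ P ≤ (S : Subgroup G) := sup_le hext.1 (inf_le_left.trans inf_le_left)
      have hcard : Nat.card T < Nat.card ↥(U ⊔ P) := by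
        rw [← hcU]
        exact card_lt_of_lt (lt_of_le_of_ne le_sup_left fun e => haU (e.symm ▸ Subgroup.mem_sup_right haP))
      obtain ⟨z, hz, hzu⟩ := bigger _ y hcard hUP (by
        rw [cj, Subgroup.map_sup]
        exact sup_le ((mem_normalizer_iff_cj.1 hyU).le.trans hext.1)
          ((mem_normalizer_iff_cj.1 hy).le.trans (inf_le_left.trans inf_le_left)))
      have hk'' := hgen hk'
      rw [← SetLike.mem_coe, Subgroup.coe_mul_of_right_le_normalizer_left _ _
        ((inf_le_right : P ≤ K).trans (hKN.trans (LocalEven.le_normalizer_centralizer le_rfl)))] at hk''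
      obtain ⟨c, hc, q, hq, rfl⟩ := hk''
      refine ⟨q * z, mul_mem (hSA (Subgroup.mem_inf.1 (Subgroup.mem_inf.1 hq).1).1) hz, fun u hu => ?_⟩
      have h1 : q * (y * u * y⁻¹) * q⁻¹ ∈ U :=
        (Subgroup.mem_normalizer_iff.1 (hKN (Subgroup.mem_inf.1 hq).2) _).1
          ((Subgroup.mem_normalizer_iff.1 hyU u).1 hu)
      calc x * u * x⁻¹ = c * (q * (y * u * y⁻¹) * q⁻¹) * c⁻¹ := by rw [hxy]; group
        _ = q * (y * u * y⁻¹) * q⁻¹ := by rw [← Subgroup.mem_centralizer_iff.1 hc _ h1, mul_inv_cancel_right]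
        _ = q * z * u * (q * z)⁻¹ := by rw [hzu u (Subgroup.mem_sup_left hu)]; group
    obtain ⟨g0, hg0, hext⟩ := exists_extr_cj S hT
    set U := cj g0 T with hU
    have hlt : T < (S : Subgroup G) := lt_of_le_of_ne hT hTS
    have hlt' : cj g T < (S : Subgroup G) := lt_of_le_of_ne hgT (fun e => by
      have := card_cj g T
      rw [e] at this
      exact hTS (Subgroup.eq_of_le_of_card_ge hT this.le))
    have hk1 : cj (g0 * g⁻¹) (cj g T) = U := by rw [cj_cj, inv_mul_cancel_right]
    obtain ⟨m, hm, hle', heq'⟩ := exists_adjust S.2 hext hk1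
    set b := m * (g0 * g⁻¹) with hb
    obtain ⟨y1, hy1, e1⟩ := bigger (nS (S : Subgroup G) T) g0 (card_lt_nS S.2 hlt) inf_le_left hg0
    obtain ⟨y3, hy3, e3⟩ := bigger (nS (S : Subgroup G) (cj g T)) b (by
      have := card_lt_nS S.2 hlt'; rwa [card_cj] at this) inf_le_left (hle'.trans inf_le_left)
    have hx : b * g * g0⁻¹ ∈ Subgroup.normalizer (U : Set G) := by
      rw [mem_normalizer_iff_cj, hU, cj_cj, inv_mul_cancel_right, ← cj_cj, heq']
    obtain ⟨y2, hy2, e2⟩ := step U hext (card_cj g0 T) _ hx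
    refine ⟨y3⁻¹ * y2 * y1, mul_mem (mul_mem (inv_mem hy3) hy2) hy1, fun u hu => ?_⟩
    have h1 := e1 u (le_nS hT hu)
    have h2 := e2 (g0 * u * g0⁻¹) (conj_mem_cj hu)
    have h3 := e3 (g * u * g⁻¹) (le_nS hgT (conj_mem_cj hu))
    calc g * u * g⁻¹ = y3⁻¹ * (b * (g * u * g⁻¹) * b⁻¹) * y3 := by rw [h3]; group
      _ = y3⁻¹ * (b * g * g0⁻¹ * (g0 * u * g0⁻¹) * (b * g * g0⁻¹)⁻¹) * y3 := by group
      _ = y3⁻¹ * (y2 * (g0 * u * g0⁻¹) * y2⁻¹) * y3 := by rw [h2]
      _ = y3⁻¹ * (y2 * (y1 * u * y1⁻¹) * y2⁻¹) * y3 := by rw [h1]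
      _ = _ := by group

/-- Let S be a Sylow p-subgroup of the finite group G and A an abelian subgroup of S that is strongly closed in S with respect to G. Then A controls strong fusion in G: for some Sylow p-subgroup T containing A, whenever a subset of T is conjugated into T by an element of G, the same elementwise conjugation is induced by an element of N_G(A). -/
theorem result {G : Type*} [Group G] [Finite G] {p : ℕ} [Fact p.Prime] (S : Sylow p G) (A : Subgroup G) (hA : IsMulCommutative ↥A) (hsc : Cfsg.IsStronglyClosed A (S : Subgroup G)) : Cfsg.ControlsStrongFusion p A := by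
  refine ⟨S, hsc.1, fun B hB => ⟨hB, fun g hg => ?_⟩⟩
  obtain ⟨y, hy, h⟩ := agree S hA hsc (Subgroup.closure B) g ((Subgroup.closure_le _).2 hB) (by
    rw [Cfsg.Agent.Lib.FusionControl.cj, MonoidHom.map_closure]
    exact (Subgroup.closure_le _).2 hg)
  exact ⟨y, hy, fun a ha => h a (Subgroup.subset_closure ha)⟩

end Cfsg.Agent.S2791
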