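import Cfsg.Statements.S2792
import Cfsg.Agent.Lib.LocalEven.Yoshida

set_option autoImplicit false
open Cfsg Cfsg.Agent Cfsg.Agent.Lib Cfsg.Agent.Lib.LocalEven
open scoped commutatorElement

namespace Cfsg.Agent.S2792

/-- Let S be a Sylow p-subgroup of the finite group G and W a subgroup of S weakly closed in S with respect to G. If S ∩ G' ≠ S ∩ (N_G(W))', then there are x ∈ S, z ∈ W and a maximal subgroup W₀ of W such that the iterated commutator [x, z; p−1] (with [x, z] = x⁻¹z⁻¹xz and [x, z; i+1] = [[x, z; i], z]) lies in W₀ but not in the Frattini subgroup of W₀; in particular [x, z; p−1] ≠ 1. -/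
theorem result {G : Type*} [Group G] [Finite G] {p : ℕ} [Fact p.Prime] (S : Sylow p G) (W : Subgroup G) (hW : Cfsg.IsWeaklyClosed W (S : Subgroup G)) (h : (S : Subgroup G) ⊓ commutator G ≠ (S : Subgroup G) ⊓ ⁅Subgroup.normalizer (W : Set G), Subgroup.normalizer (W : Set G)⁆) : ∃ x ∈ (S : Subgroup G), ∃ z ∈ W, ∃ W₀ : Subgroup ↥W, IsCoatom W₀ ∧ (fun y : G => y⁻¹ * z⁻¹ * y * z)^[p - 1] x ∈ W₀.map W.subtype ∧ (fun y : G => y⁻¹ * z⁻¹ * y * z)^[p - 1] x ∉ ((frattini ↥W₀).map W₀.subtype).map W.subtype := by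
  classical
  obtain ⟨R, M, hMn, z, y, μ, hWR, hMi, hzW, hzM, hsum⟩ := exists_yoshida_data S hW h
  set ι : ↥W →* ↥R := (Subgroup.inclusion hW.1).codRestrict R fun w => hWR w.2 with hι
  set f : ↥(S : Subgroup G) → ↥(S : Subgroup G) := fun v => v⁻¹ * (z : ↥(S : Subgroup G))⁻¹ * v * z
  set c := commSeq z y (p - 1) with hc
  have hcoe : ((((c : ↥R)) : ↥(S : Subgroup G)) : G) =
      (fun v : G => v⁻¹ * (((z : ↥(S : Subgroup G)) : G))⁻¹ * v * (((z : ↥(S : Subgroup G)) : G)))^[p - 1]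
        ((((y : ↥R)) : ↥(S : Subgroup G)) : G) := by
    rw [hc, coe_commSeq]
    exact Function.Semiconj.iterate_right
      (f := fun v : ↥R => (((v : ↥(S : Subgroup G))) : G))
      (gb := fun v : G => v⁻¹ * (((z : ↥(S : Subgroup G)) : G))⁻¹ * v * (((z : ↥(S : Subgroup G)) : G)))
      (fun v => by simp) (p - 1) (y : ↥R)
  have hcW : ((((c : ↥R)) : ↥(S : Subgroup G)) : G) ∈ W := by
    obtain ⟨j, hj⟩ : ∃ j, p - 1 = j + 1 := ⟨p - 2, by have := (Fact.out : p.Prime).two_le; omega⟩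
    rw [hc, hj, coe_commSeq, Function.iterate_succ_apply']
    set v : ↥R := (fun y : ↥R => y⁻¹ * z⁻¹ * y * z)^[j] (y : ↥R)
    simp only [Subgroup.coe_mul, InvMemClass.coe_inv]
    refine W.mul_mem ?_ hzW
    have h1 : conjS (((v : ↥(S : Subgroup G)) : G))⁻¹ W = W := hW.2 _
      ((conjS_mono _ hW.1).trans (conjS_mem_eq_self (Subgroup.inv_mem _ (v : ↥(S : Subgroup G)).2)).le)
    rw [← h1, mem_conjS]
    simpa [mul_assoc] using W.inv_mem hzW
  set W₀ : Subgroup ↥W := M.comap ι with hW₀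
  have hidx : W₀.index = p := by
    have h1 : W₀ = ((QuotientGroup.mk' M).comp ι).ker := by
      rw [hW₀, ← MonoidHom.comap_ker, QuotientGroup.ker_mk']
    rw [h1, Subgroup.index_ker]
    have h2 : Nat.card ((QuotientGroup.mk' M).comp ι).range ∣ p :=
      (Subgroup.card_subgroup_dvd_card _).trans (dvd_of_eq hMi)
    rcases (Nat.dvd_prime Fact.out).1 h2 with h3 | h3
    · refine absurd ?_ hzM
      have h4 : (QuotientGroup.mk' M) (ι ⟨_, hzW⟩) ∈ ((QuotientGroup.mk' M).comp ι).range := ⟨_, rfl⟩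
      rw [Subgroup.eq_bot_of_card_eq _ h3, Subgroup.mem_bot] at h4
      have h5 := (QuotientGroup.eq_one_iff _).1 h4
      rwa [show ι ⟨_, hzW⟩ = z from Subtype.ext (Subtype.ext rfl)] at h5
    · exact h3
  refine ⟨((y : ↥R) : ↥(S : Subgroup G)), ((y : ↥R) : ↥(S : Subgroup G)).2, _, hzW, W₀, ⟨?_, ?_⟩, ?_, ?_⟩
  · intro e
    rw [e, Subgroup.index_top] at hidx
    exact (Fact.out : p.Prime).one_lt.ne hidx
  · intro X hX
    rw [← Subgroup.index_eq_one]
    rcases (Nat.dvd_prime Fact.out).1 (hidx ▸ Subgroup.index_dvd_of_le hX.le) with h2 | h2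
    · exact h2
    · exact absurd (hidx.trans h2.symm) (Subgroup.index_strictAnti hX).ne'
  · rw [← hcoe]
    refine ⟨⟨_, hcW⟩, ?_, rfl⟩
    show ι ⟨_, hcW⟩ ∈ M
    rw [show ι ⟨_, hcW⟩ = (c : ↥R) from Subtype.ext (Subtype.ext rfl)]
    exact c.2
  · rw [← hcoe]
    rintro ⟨w, ⟨w₀, hw₀, rfl⟩, hw⟩
    have hwM : (⟨ι (w₀ : ↥W), w₀.2⟩ : ↥M) = c := Subtype.ext (Subtype.ext (Subtype.ext hw))
    let ν : ↥W₀ →* Multiplicative (ZMod p) := μ.comp ((ι.comp W₀.subtype).codRestrict M fun w => w.2)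
    have h1 : ν w₀ = 1 := Lib.Transfer.frattini_le_ker_of_card (p := p) (by simp) ν hw₀
    rw [show ν w₀ = μ c from congrArg μ hwM] at h1
    have h2 := congrFun (conjSeq_commSeq μ z y (p - 1)) 0
    rw [fwdDiff_iterate_pred_prime, Finset.sum_congr rfl (fun k _ => by rw [Nat.zero_add])] at h2
    apply hsum
    rw [← h2, ← hc]
    unfold conjSeq
    simp [h1]

end Cfsg.Agent.S2792
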