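import Cfsg.Statements.S2803
import Cfsg.Agent.Lib.LocalEven.PReduced

set_option autoImplicit false
open Cfsg Cfsg.Agent.Lib.LocalEven

namespace Cfsg.Agent.S2803

/-- Let L be a finite group and p a prime with C_L(O_p(L)) ≤ O_p(L), T a Sylow p-subgroup, and Y the largest p-reduced normal subgroup of L. Put T_L = C_T(Y) and L_T = N_L(T_L). Then L = L_T · C_L(Y) (elementwise), T_L = O_p(L_T), and Y = Ω₁(Z(T_L)). -/
theorem result {L : Type*} [Group L] [Finite L] {p : ℕ} [Fact p.Prime] (hchar : Subgroup.centralizer (Cfsg.pCore p L : Set L) ≤ Cfsg.pCore p L) (T : Sylow p L) (Y : Subgroup L) (hY : (Cfsg.IsPReducedNormal p Y ∧ ∀ V : Subgroup L, Cfsg.IsPReducedNormal p V → V ≤ Y)) (TL : Subgroup L) (hTL : TL = (T : Subgroup L) ⊓ Subgroup.centralizer (Y : Set L)) : (∀ g : L, ∃ a ∈ Subgroup.normalizer (TL : Set L), ∃ c ∈ Subgroup.centralizer (Y : Set L), g = a * c) ∧ (Cfsg.pCore p ↥(Subgroup.normalizer (TL : Set L))).map (Subgroup.normalizer (TL : Set L)).subtype = TL ∧ Y = Cfsg.omegaOne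 p (TL ⊓ Subgroup.centralizer (TL : Set L)) := by
  obtain ⟨hY1, hY2⟩ := hY
  have hYr := isPReducedNormal_iff_redIn_top.1 hY1
  have hCn : (Subgroup.centralizer (Y : Set L)).Normal :=
    normal_of_le_normalizer (le_normalizer_centralizer hYr.normal)
  have hTs := isSylowOf_top T
  have hTLs : IsSylowOf p TL (Subgroup.centralizer (Y : Set L)) := by
    rw [hTL]; exact hTs.inf_normal le_top (normal_top_le_normalizer hCn)
  have hfr : ∀ g : L, ∃ a ∈ Subgroup.centralizer (Y : Set L),
      ∃ b ∈ (⊤ : Subgroup L) ⊓ Subgroup.normalizer (TL : Set L), g = a * b := fun g =>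
    frattini_argument le_top (normal_top_le_normalizer hCn) hTLs (Subgroup.mem_top g)
  have hsplit : (⊤ : Subgroup L) ≤ Subgroup.normalizer (TL : Set L) ⊔ Subgroup.centralizer (Y : Set L) := by
    intro g _
    obtain ⟨a, ha, b, hb, rfl⟩ := hfr g
    exact mul_mem (Subgroup.mem_sup_right ha) (Subgroup.mem_sup_left hb.2)
  have hTLN : TL ≤ Subgroup.normalizer (TL : Set L) := Subgroup.le_normalizer
  have hOC : Cfsg.pCoreOf p (Subgroup.normalizer (TL : Set L)) ≤ Subgroup.centralizer (Y : Set L) :=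
    hYr.le_of_normalized le_top hsplit le_top (le_normalizer_pCoreOf _)
      (by rw [pResOf_eq_bot_of_isPGroup (pCoreOf_isPGroup _)]; exact bot_le)
  have hO : Cfsg.pCoreOf p (Subgroup.normalizer (TL : Set L)) = TL :=
    hTLs.eq_of_le hOC (pCoreOf_isPGroup _) (le_pCoreOf hTLN le_rfl hTLs.isPGroup)
  refine ⟨fun g => ?_, hO, ?_⟩
  · obtain ⟨a, ha, b, hb, hg⟩ := hfr g⁻¹
    refine ⟨b⁻¹, inv_mem hb.2, a⁻¹, inv_mem ha, ?_⟩
    rw [← mul_inv_rev, ← hg, inv_inv]
  show Y = omZ p TL
  have hYT : Y ≤ TL := by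
    rw [hTL]
    exact le_inf ((le_pCore (normal_of_le_normalizer hYr.normal) (elemAb_isPGroup hYr.elem)).trans
      (pCore_le_sylow T)) (elemAb_le_centralizer hYr.elem)
  have hle : Y ≤ omZ p TL :=
    elemAb_le_omZ hYr.elem hYT (by rw [hTL]; exact inf_le_right)
  refine le_antisymm hle ?_
  have hTN : (T : Subgroup L) ≤ Subgroup.normalizer (TL : Set L) := by
    rw [hTL]; exact le_normalizer_inf Subgroup.le_normalizer (le_normalizer_of_normal _ _)
  have hX : RedIn p (omZ p TL) (Subgroup.normalizer (TL : Set L)) := by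
    refine ⟨(omZ_le TL).trans hTLN, ?_, omZ_elemAb TL, fun N hN hn hres => ?_⟩
    · rw [le_normalizer_iff_forall]
      intro g hg
      rw [conjS_omZ, conjS_eq_self_iff.2 hg]
    · have hC : Subgroup.centralizer (omZ p TL : Set L) ≤ Subgroup.centralizer (Y : Set L) :=
        Subgroup.centralizer_le hle
      have hNC : N ≤ Subgroup.centralizer (Y : Set L) :=
        hYr.le_of_normalized le_top hsplit le_top hn (hres.trans hC)
      have hs : IsSylowOf p TL (Subgroup.centralizer (Y : Set L) ⊓ Subgroup.normalizer (TL : Set L)) :=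
        hTLs.mono (le_inf hTLs.le hTLN) inf_le_left
      have hnN : Subgroup.centralizer (Y : Set L) ⊓ Subgroup.normalizer (TL : Set L) ≤
          Subgroup.normalizer (N : Set L) := inf_le_right.trans hn
      refine le_of_pResOf_le_of_sylow (hs.inf_normal (le_inf hNC hN) hnN) hres ?_
      exact inf_le_left.trans (Subgroup.le_centralizer_iff.1 (omZ_le_centralizer TL))
  have h := redIn_closure (hch_top hchar) hTs hTN le_top hX
  refine le_trans ?_ (hY2 _ (isPReducedNormal_iff_redIn_top.2 h))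
  intro x hx
  exact le_iSup (fun g : (⊤ : Subgroup L) => conjS (g : L) (omZ p TL)) 1 (by simpa [conjS_one] using hx)

end Cfsg.Agent.S2803
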