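import Cfsg.Statements.S2804
import Cfsg.Agent.Lib.LocalEven.PReduced

set_option autoImplicit false
open Cfsg Cfsg.Agent.Lib.LocalEven

namespace Cfsg.Agent.S2804

/-- Let L be a finite group and p a prime with C_L(O_p(L)) ≤ O_p(L), V a p-reduced normal subgroup of L and K a subnormal subgroup of L. Then [V, O^p(K)] is contained in K and is a p-reduced normal subgroup of K, where O^p(K) is the subgroup of K generated by its elements of order prime to p. -/
theorem result {L : Type*} [Group L] [Finite L] {p : ℕ} [Fact p.Prime] (hchar : Subgroup.centralizer (Cfsg.pCore p L : Set L) ≤ Cfsg.pCore p L) (V : Subgroup L) (hV : Cfsg.IsPReducedNormal p V) (K : Subgroup L) (hK : K.IsSubnormal) : ⁅V, (Cfsg.pResidual p ↥K).map K.subtype⁆ ≤ K ∧ Cfsg.IsPReducedNormal p ((⁅V, (Cfsg.pResidual p ↥K).map K.subtype⁆).subgroupOf K) := by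
  have hVr := isPReducedNormal_iff_redIn_top.1 hV
  have hVn : V.Normal := hV.1
  change ⁅V, pResOf p K⁆ ≤ K ∧ _
  have hVO : V ≤ Cfsg.pCore p L := le_pCore hVn (elemAb_isPGroup hVr.elem)
  have hnor := (hVO.trans (pCore_le_normalizer_of_subnormal (p := p) hK).1)
  have hWR : ⁅V, pResOf p K⁆ ≤ pResOf p K := commutator_le_of_le_normalizer' hnor
  have hWK : ⁅V, pResOf p K⁆ ≤ K := hWR.trans (pResOf_le K)
  refine ⟨hWK, (isPReducedNormal_subgroupOf_iff hWK).2 ?_⟩
  refine ⟨hWK, le_normalizer_commutator (le_normalizer_of_normal K V) (self_le_normalizer_pResOf K),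
    elemAb_mono hVr.elem (Subgroup.commutator_le_left _ _), fun N hNK hn hres => ?_⟩
  have hNV : pResOf p N ≤ Subgroup.centralizer (V : Set L) := by
    refine pResOf_le_centralizer fun x hx hc v hv => ?_
    rw [Subgroup.mem_centralizer_singleton_iff]
    have hm : x * v * x⁻¹ * v⁻¹ ∈ ⁅V, pResOf p K⁆ := by
      have hxR : x ∈ pResOf p K := mem_pResOf_of_coprime (hNK hx) hc
      rw [Subgroup.commutator_comm]
      exact Subgroup.commutator_mem_commutator hxR hv
    have hmV : x * v * x⁻¹ * v⁻¹ ∈ V := Subgroup.commutator_le_left _ _ hm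
    have hxW : x * v * x⁻¹ * v⁻¹ ∈ Subgroup.centralizer ({x} : Set L) := by
      rw [Subgroup.mem_centralizer_singleton_iff]
      exact Subgroup.mem_centralizer_iff.1 (hres (mem_pResOf_of_coprime hx hc)) _ hm
    exact (commute_mem_of_coprime_stab (elemAb_isPGroup hVr.elem) hc hmV hxW).symm
  have hNs : N.IsSubnormal :=
    Subgroup.IsSubnormal.step N K hNK hK ((Subgroup.normal_subgroupOf_iff_le_normalizer hNK).2 hn)
  exact (hVr.subnormal_le le_top hNs.subgroupOf hNV).trans
    (Subgroup.centralizer_le (Subgroup.commutator_le_left _ _))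

end Cfsg.Agent.S2804
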