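import Cfsg.Statements.S2806
import Cfsg.Agent.Lib.LocalEven.LocalCharCentral
import Cfsg.Agent.Lib.LocalEven.SubnormalSylow
import Cfsg.Agent.Lib.PGroups.Subnormal

set_option autoImplicit false
open Cfsg Cfsg.Agent Cfsg.Agent.Lib Cfsg.Agent.Lib.LocalEven
open scoped commutatorElement

namespace Cfsg.Agent.S2806

universe v

variable {G : Type v} [Group G] [Finite G] {p : ℕ} [hp : Fact p.Prime]

theorem kieler_local {N T : Subgroup G}
    (hch : N ⊓ Subgroup.centralizer (Cfsg.pCoreOf p N : Set G) ≤ Cfsg.pCoreOf p N)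
    (hT : IsSylowOf p T N) {X : Subgroup G} (hX : X.IsSubnormal) :
    ((X ⊓ N) ⊓ Subgroup.centralizer (Cfsg.pCoreOf p (X ⊓ N) : Set G) ≤ Cfsg.pCoreOf p (X ⊓ N)) ∧
      IsSylowOf p (T ⊓ X) (X ⊓ N) ∧
      (X ⊓ N) ⊓ Subgroup.centralizer (omZ p T : Set G) =
        (X ⊓ N) ⊓ Subgroup.centralizer (omZ p (T ⊓ X) : Set G) := by
  induction hX with
  | top => simp only [top_inf_eq, inf_top_eq]; exact ⟨hch, hT, trivial⟩
  | step A K hAK _ hn ih =>
    obtain ⟨h1, h2, h3⟩ := ih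
    have hle : A ⊓ N ≤ K ⊓ N := inf_le_inf_right _ hAK
    have hnn : K ⊓ N ≤ Subgroup.normalizer ((A ⊓ N : Subgroup G) : Set G) :=
      le_normalizer_inf (inf_le_left.trans (le_normalizer_of_subgroupOf_normal hAK hn))
        (inf_le_right.trans Subgroup.le_normalizer)
    have e : (T ⊓ K) ⊓ (A ⊓ N) = T ⊓ A := by
      apply le_antisymm
      · exact le_inf (inf_le_left.trans inf_le_left) (inf_le_right.trans inf_le_left)
      · exact le_inf (inf_le_inf_left _ hAK) (le_inf inf_le_right (inf_le_left.trans hT.le))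
    have h4 := kieler_normal h1 h2 hle hnn
    have h5 := h2.inf_normal hle hnn
    rw [e] at h4 h5
    refine ⟨hch_of_normal h1 hle hnn, h5, ?_⟩
    rw [← h4, ← inf_eq_left.2 hle, inf_assoc, h3, ← inf_assoc]

theorem pointStabilizer_eq_closure_inf (hH : Cfsg.IsOfLocalCharacteristic p G) (T : Sylow p G)
    {X : Subgroup G} (hX : X.IsSubnormal) :
    Cfsg.pointStabilizer p X ((T : Subgroup G) ⊓ X) =
      Cfsg.pElementClosure p (X ⊓ Subgroup.centralizer (omZ p (T : Subgroup G) : Set G)) := by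
  have key : ∀ x ∈ X, (∃ k, orderOf x = p ^ k) →
      (x ∈ Subgroup.centralizer (omZ p ((T : Subgroup G) ⊓ X) : Set G) ↔
        x ∈ Subgroup.centralizer (omZ p (T : Subgroup G) : Set G)) := by
    intro x hxX hxp
    have hTX := (isSylowOf_top T).inf_subnormal hX
    by_cases hbot : (T : Subgroup G) ⊓ X = ⊥
    · obtain ⟨k, hk⟩ := hxp
      obtain ⟨S, hS, hxS⟩ := exists_isSylowOf_le (Subgroup.zpowers_le.2 hxX)
        (IsPGroup.of_card (n := k) (by rw [Nat.card_zpowers, hk]))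
      have hc : Nat.card S = Nat.card ((T : Subgroup G) ⊓ X : Subgroup G) := hS.card_eq hTX
      rw [hbot, Subgroup.card_bot, ← Subgroup.eq_bot_iff_card] at hc
      rw [hc, le_bot_iff, Subgroup.zpowers_eq_bot] at hxS
      subst hxS
      exact ⟨fun _ => one_mem _, fun _ => one_mem _⟩
    by_cases hO : Cfsg.pCore p G = ⊥
    · obtain ⟨z, hzX, hzo, hzT, hzc⟩ := exists_central_mem_subnormal hH hO T hX hbot
      set N := Subgroup.centralizer ({z} : Set G) with hN
      have hzp : z ^ p = 1 := by rw [← hzo, pow_orderOf_eq_one]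
      have hz1 : z ∈ omZ p (T : Subgroup G) := mem_omZ_of hzT hzc hzp
      have hz2 : z ∈ omZ p ((T : Subgroup G) ⊓ X) := mem_omZ_of (Subgroup.mem_inf.2 ⟨hzT, hzX⟩)
        (Subgroup.centralizer_le (SetLike.coe_subset_coe.2 inf_le_left) hzc) hzp
      have hTN : (T : Subgroup G) ≤ N := fun t ht =>
        Subgroup.mem_centralizer_singleton_iff.2 (Subgroup.mem_centralizer_iff.1 hzc t ht)
      obtain ⟨-, -, h3⟩ := kieler_local (hasCharP_centralizer_of_local hH hzo)
        ((isSylowOf_top T).mono hTN le_top) hX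
      have hin : ∀ {A : Subgroup G}, z ∈ A → Subgroup.centralizer (A : Set G) ≤ N := fun hA =>
        Subgroup.centralizer_le (Set.singleton_subset_iff.2 hA)
      constructor
      · exact fun h => (Subgroup.mem_inf.1 (h3.ge (Subgroup.mem_inf.2 ⟨Subgroup.mem_inf.2 ⟨hxX, hin hz2 h⟩, h⟩))).2
      · exact fun h => (Subgroup.mem_inf.1 (h3.le (Subgroup.mem_inf.2 ⟨Subgroup.mem_inf.2 ⟨hxX, hin hz1 h⟩, h⟩))).2
    · have hn : Subgroup.normalizer (Cfsg.pCore p G : Set G) = ⊤ := by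
        haveI := pCore_normal p G
        exact Subgroup.normalizer_eq_top _
      have hch := (hasCharP_iff_core _).2 (hH.2 _ (pCore_isPGroup p G) hO)
      rw [hn] at hch
      have h3 := kieler hch (isSylowOf_top T) hX
      exact ⟨fun h => (Subgroup.mem_inf.1 (h3.ge (Subgroup.mem_inf.2 ⟨hxX, h⟩))).2,
        fun h => (Subgroup.mem_inf.1 (h3.le (Subgroup.mem_inf.2 ⟨hxX, h⟩))).2⟩
  refine le_antisymm (Subgroup.closure_mono ?_) (Subgroup.closure_mono ?_)
  · rintro x ⟨hx, hp'⟩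
    exact ⟨Subgroup.mem_inf.2 ⟨(Subgroup.mem_inf.1 hx).1,
      (key x (Subgroup.mem_inf.1 hx).1 hp').1 (Subgroup.mem_inf.1 hx).2⟩, hp'⟩
  · rintro x ⟨hx, hp'⟩
    exact ⟨Subgroup.mem_inf.2 ⟨(Subgroup.mem_inf.1 hx).1,
      (key x (Subgroup.mem_inf.1 hx).1 hp').2 (Subgroup.mem_inf.1 hx).2⟩, hp'⟩

/-- Let H be a finite group of local characteristic p, T a Sylow p-subgroup, and L₁, L₂ subnormal subgroups of H generating the subgroup L. Then the point stabilizer of L with respect to T ∩ L is generated by the point stabilizers of L₁ and L₂ with respect to T ∩ L₁ and T ∩ L₂ (point stabilizer of X w.r.t. R: the subgroup generated by the p-elements of X centralizing Ω₁(Z(R))). -/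
theorem result {H : Type*} [Group H] [Finite H] {p : ℕ} [Fact p.Prime] (hH : Cfsg.IsOfLocalCharacteristic p H) (T : Sylow p H) (L₁ L₂ : Subgroup H) (h₁ : L₁.IsSubnormal) (h₂ : L₂.IsSubnormal) : Cfsg.pointStabilizer p (L₁ ⊔ L₂) ((T : Subgroup H) ⊓ (L₁ ⊔ L₂)) = Cfsg.pointStabilizer p L₁ ((T : Subgroup H) ⊓ L₁) ⊔ Cfsg.pointStabilizer p L₂ ((T : Subgroup H) ⊓ L₂) := by
  rw [pointStabilizer_eq_closure_inf hH T h₁, pointStabilizer_eq_closure_inf hH T h₂,
    pointStabilizer_eq_closure_inf hH T (Subnormal.isSubnormal_sup h₁ h₂)]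
  set C := Subgroup.centralizer (omZ p (T : Subgroup H) : Set H) with hC
  set M := (L₁ ⊔ L₂) ⊓ C with hM
  have hTc : (T : Subgroup H) ≤ C := Subgroup.le_centralizer_iff.1 (omZ_le_centralizer _)
  refine le_antisymm ?_ (sup_le (pElementClosure_mono (inf_le_inf_right _ le_sup_left))
    (pElementClosure_mono (inf_le_inf_right _ le_sup_right)))
  set Q₁ := Cfsg.pElementClosure p (L₁ ⊓ C) with hQ₁
  set Q₂ := Cfsg.pElementClosure p (L₂ ⊓ C) with hQ₂
  have hQsn : ∀ L : Subgroup H, L.IsSubnormal → L ≤ L₁ ⊔ L₂ →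
      ((Cfsg.pElementClosure p (L ⊓ C)).subgroupOf M).IsSubnormal ∧ Cfsg.pElementClosure p (L ⊓ C) ≤ M := by
    intro L hL hle
    have h1 : L ⊓ C ≤ M := inf_le_inf_right _ hle
    have h2 : Cfsg.pElementClosure p (L ⊓ C) ≤ L ⊓ C := pElementClosure_le _
    refine ⟨?_, h2.trans h1⟩
    have h3 : (L.subgroupOf M) = (L ⊓ C).subgroupOf M := by
      ext x
      simp only [Subgroup.mem_subgroupOf, Subgroup.mem_inf]
      exact ⟨fun h => ⟨h, (Subgroup.mem_inf.1 x.2).2⟩, fun h => h.1⟩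
    refine isSubnormal_inf_right (A := (L ⊓ C).subgroupOf M) (h3 ▸ hL.subgroupOf (K := M))
      (Subgroup.comap_mono h2) ?_
    intro x hx
    have hm : (x : H) ∈ Subgroup.normalizer (Cfsg.pElementClosure p (L ⊓ C) : Set H) :=
      le_normalizer_pElementClosure _ hx
    exact Subgroup.mem_normalizer_iff.2 fun a => Subgroup.mem_normalizer_iff.1 hm (a : H)
  obtain ⟨hs₁, hl₁⟩ := hQsn L₁ h₁ le_sup_left
  obtain ⟨hs₂, hl₂⟩ := hQsn L₂ h₂ le_sup_right
  set R := (Q₁ ⊔ Q₂).subgroupOf M with hR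
  have hRsn : R.IsSubnormal := by
    rw [hR, Subgroup.subgroupOf_sup hl₁ hl₂]; exact Subnormal.isSubnormal_sup hs₁ hs₂
  set T0 := (T : Subgroup H) ⊓ (L₁ ⊔ L₂) with hT0
  have hT0M : T0 ≤ M := le_inf inf_le_right (inf_le_left.trans hTc)
  have hT0R : T0 ≤ Q₁ ⊔ Q₂ := by
    rw [hT0, ← sylow_inf_sup T h₁ h₂]
    refine sup_le_sup ?_ ?_ <;>
    exact le_pElementClosure (le_inf inf_le_right (inf_le_left.trans hTc)) (T.isPGroup'.to_le inf_le_left)
  obtain ⟨S, hS⟩ := (((isSylowOf_top T).inf_subnormal (Subnormal.isSubnormal_sup h₁ h₂)).mono hT0M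
    inf_le_left).exists_sylow
  have hSR : (S : Subgroup M) ≤ R := fun s hs =>
    Subgroup.mem_subgroupOf.2 (hT0R (hS.le (Subgroup.mem_map_of_mem M.subtype hs)))
  have hcop : Nat.Coprime p R.index := (Fact.out : p.Prime).coprime_iff_not_dvd.2 fun hd =>
    S.not_dvd_index (hd.trans (Subgroup.index_dvd_of_le hSR))
  rw [Cfsg.pElementClosure, Subgroup.closure_le]
  rintro x ⟨hx, k, hk⟩
  have h1 := PGroups.pow_index_mem_of_isSubnormal hRsn ⟨x, hx⟩
  obtain ⟨m, hm⟩ := exists_pow_eq_self_of_coprime (x := (⟨x, hx⟩ : M)) (n := R.index) (by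
    rw [Subgroup.orderOf_mk, hk]; exact hcop.symm.pow_right k)
  have h2 : (⟨x, hx⟩ : M) ∈ R := hm ▸ pow_mem h1 m
  exact Subgroup.mem_subgroupOf.1 h2

end Cfsg.Agent.S2806
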