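import Cfsg.Statements.S2807
import Cfsg.Agent.Lib.LocalEven.Yoshida
import Mathlib.GroupTheory.Sylow
import Mathlib.NumberTheory.Padics.PadicVal.Basic

set_option autoImplicit false
open Cfsg Cfsg.Agent Cfsg.Agent.Lib Cfsg.Agent.Lib.LocalEven
open scoped commutatorElement

namespace Cfsg.Agent.S2807

theorem card_sylow_perm_sq {p : ℕ} [hp : Fact p.Prime] (P : Sylow p (Equiv.Perm (Fin (p ^ 2)))) :
    Nat.card ↥(P : Subgroup (Equiv.Perm (Fin (p ^ 2)))) = p ^ (p + 1) := by
  rw [P.card_eq_multiplicity, Nat.card_eq_fintype_card, Fintype.card_perm, Fintype.card_fin,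
    Nat.factorization_def _ hp.out]
  congr 1
  have h1 : padicValNat p (Nat.factorial p) = 1 := by
    have := padicValNat_factorial_mul (p := p) 1
    simpa using this
  rw [sq, padicValNat_factorial_mul, h1, add_comm]

theorem card_range_conjSeq {Γ : Type*} [Group Γ] [Finite Γ] {p : ℕ} [hp : Fact p.Prime] {M : Subgroup Γ} [M.Normal]
    (μ : ↥M →* Multiplicative (ZMod p)) {z : Γ} (hz : z ^ p ∈ M) (y : ↥M)
    (hy : ∑ i ∈ Finset.range p, conjSeq μ z y i ≠ 0)
    (ψ : ↥M →* (ℕ → Multiplicative (ZMod p)))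
    (hψ : ∀ (m : ↥M) (i : ℕ), Multiplicative.toAdd (ψ m i) = conjSeq μ z m i) :
    p ^ p ≤ Nat.card ψ.range := by
  classical
  let D : Module.End (ZMod p) (ℕ → ZMod p) :=
    { toFun := fwdDiff 1
      map_add' := fun a b => by funext i; simp [fwdDiff]; abel
      map_smul' := fun r a => by funext i; simp [fwdDiff, mul_sub] }
  set a := conjSeq μ z y with ha
  have hD : ∀ j, (D ^ j) a = conjSeq μ z (commSeq z y j) := by
    intro j
    rw [conjSeq_commSeq, Module.End.coe_pow]
    rfl
  have hDp : ∀ n, p ≤ n → (D ^ n) a = 0 := by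
    intro n hn
    obtain ⟨t, rfl⟩ := Nat.exists_eq_add_of_le hn
    rw [add_comm p t, pow_add, Module.End.mul_apply,
      show (D ^ p) a = 0 by rw [Module.End.coe_pow]; exact fwdDiff_iterate_prime μ hz y, map_zero]
  have hlin : LinearIndependent (ZMod p) (fun j : Fin p => (D ^ (j : ℕ)) a) := by
    rw [Fintype.linearIndependent_iff]
    intro d hd
    suffices h : ∀ n (hn : n < p), d ⟨n, hn⟩ = 0 from fun j => h j j.2
    intro n
    induction n using Nat.strong_induction_on with
    | _ n ih =>
      intro hn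
      have h1 := congrArg (fun v => (D ^ (p - 1 - n)) v) hd
      simp only [map_sum, map_smul, map_zero, ← Module.End.mul_apply, ← pow_add] at h1
      rw [Finset.sum_eq_single (⟨n, hn⟩ : Fin p)] at h1
      · have h2 : p - 1 - n + n = p - 1 := by omega
        have h4 := congrFun h1 0
        simp only [h2, Pi.smul_apply, smul_eq_mul, Pi.zero_apply, Module.End.coe_pow] at h4
        rw [show (⇑D)^[p - 1] a 0 = ∑ k ∈ Finset.range p, a k by
          show (fwdDiff 1)^[p - 1] a 0 = _
          rw [fwdDiff_iterate_pred_prime]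
          simp] at h4
        exact (mul_eq_zero.1 h4).resolve_right hy
      · intro j _ hj
        rcases lt_or_gt_of_ne (fun e : (j : ℕ) = n => hj (Fin.ext e)) with h | h
        · rw [show d j = 0 from ih j h j.2, zero_smul]
        · rw [hDp _ (by omega), smul_zero]
      · intro h
        exact absurd (Finset.mem_univ _) h
  let E : (Fin p → ZMod p) → ↥ψ.range := fun e =>
    ⟨fun i => Multiplicative.ofAdd ((∑ j : Fin p, e j • (D ^ (j : ℕ)) a) i), by
      have h1 : (∏ j : Fin p, ψ (commSeq z y j) ^ (e j).val) ∈ ψ.range :=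
        Subgroup.prod_mem _ fun j _ => Subgroup.pow_mem _ (MonoidHom.mem_range.2 ⟨_, rfl⟩) _
      convert h1 using 1
      funext i
      apply Multiplicative.toAdd.injective
      rw [toAdd_ofAdd, Finset.prod_apply, toAdd_prod, Finset.sum_apply]
      refine Finset.sum_congr rfl fun j _ => ?_
      rw [Pi.pow_apply, toAdd_pow, hψ, Pi.smul_apply, hD, smul_eq_mul, nsmul_eq_mul,
        ZMod.natCast_zmod_val]⟩
  have hE : Function.Injective E := by
    intro e e' he
    have h1 := congrArg Subtype.val he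
    funext j
    exact (Fintype.linearIndependent_iff.1 hlin (e - e') (by
      simp only [Pi.sub_apply, sub_smul, Finset.sum_sub_distrib, sub_eq_zero]
      funext i
      exact Multiplicative.ofAdd.injective (congrFun h1 i)) j |> sub_eq_zero.1)
  haveI : Finite ↥ψ.range := Finite.of_surjective _ ψ.rangeRestrict_surjective
  calc p ^ p = Nat.card (Fin p → ZMod p) := by simp
    _ ≤ _ := Nat.card_le_card_of_injective E hE

/-- Let S be a Sylow p-subgroup of the finite group G. If S ∩ G' ≠ S ∩ (N_G(S))' (derived subgroups), then the wreath product Z_p ≀ Z_p — realised as a Sylow p-subgroup of the symmetric group of degree p² — is a homomorphic image of S. -/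
theorem result {G : Type*} [Group G] [Finite G] {p : ℕ} [Fact p.Prime] (S : Sylow p G) (h : (S : Subgroup G) ⊓ commutator G ≠ (S : Subgroup G) ⊓ ⁅Subgroup.normalizer ((S : Subgroup G) : Set G), Subgroup.normalizer ((S : Subgroup G) : Set G)⁆) : ∃ (P : Sylow p (Equiv.Perm (Fin (p ^ 2)))) (f : ↥(S : Subgroup G) →* ↥(P : Subgroup (Equiv.Perm (Fin (p ^ 2))))), Function.Surjective f := by
  classical
  have hwc : Cfsg.IsWeaklyClosed (S : Subgroup G) (S : Subgroup G) :=
    ⟨le_rfl, fun g hg => Subgroup.eq_of_le_of_card_ge hg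
      (by rw [map_conj_eq, card_conjS])⟩
  obtain ⟨R, M, hMn, z, y, μ, hWR, hMi, -, hzM, hsum⟩ := exists_yoshida_data S hwc h
  let j : ↥(S : Subgroup G) →* ↥R := (MonoidHom.id _).codRestrict R fun s =>
    hWR (Subgroup.mem_subgroupOf.2 s.2)
  have hj : Function.Surjective j := fun r => ⟨(r : ↥(S : Subgroup G)), Subtype.ext rfl⟩
  have hμ : Function.Surjective μ := by
    rw [← MonoidHom.range_eq_top]
    have h2 : Nat.card μ.range ∣ p := (Subgroup.card_subgroup_dvd_card _).trans (dvd_of_eq (by simp))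
    rcases (Nat.dvd_prime Fact.out).1 h2 with h3 | h3
    · refine absurd ?_ hsum
      refine Finset.sum_eq_zero fun i _ => ?_
      have h4 : ∀ m : ↥M, μ m = 1 := fun m =>
        Subgroup.mem_bot.1 (Subgroup.eq_bot_of_card_eq _ h3 ▸ (⟨m, rfl⟩ : μ m ∈ μ.range))
      unfold conjSeq
      simp [h4]
    · exact Subgroup.eq_top_of_card_eq _ (h3.trans (by simp))
  set K : Subgroup ↥R := μ.ker.map M.subtype with hK
  have hKi : Nat.card (↥R ⧸ K) = p ^ 2 := by
    rw [← Subgroup.index_eq_card, hK, Subgroup.index_map_subtype, Subgroup.index_ker,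
      MonoidHom.range_eq_top.2 hμ, Subgroup.card_top, hMi, sq]
    simp
  haveI : Finite (↥R ⧸ K) := inferInstance
  obtain ⟨e⟩ : Nonempty ((↥R ⧸ K) ≃ Fin (p ^ 2)) :=
    ⟨(Finite.equivFin _).trans (finCongr hKi)⟩
  let F : ↥(S : Subgroup G) →* Equiv.Perm (Fin (p ^ 2)) :=
    (e.permCongrHom.toMonoidHom.comp (MulAction.toPermHom ↥R (↥R ⧸ K))).comp j
  have hFp : IsPGroup p F.range := S.isPGroup'.of_surjective F.rangeRestrict F.rangeRestrict_surjective
  obtain ⟨P, hP⟩ := hFp.exists_le_sylow
  refine ⟨P, F.codRestrict _ fun s => hP ⟨s, rfl⟩, ?_⟩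
  suffices hcard : p ^ (p + 1) ≤ Nat.card F.range by
    have h1 := Subgroup.eq_of_le_of_card_ge hP (by rw [card_sylow_perm_sq]; exact hcard)
    rintro ⟨w, hw⟩
    obtain ⟨s, rfl⟩ := h1.ge hw
    exact ⟨s, rfl⟩
  have hFr : Nat.card F.range = K.normalCore.index := by
    rw [show F.range = (MulAction.toPermHom ↥R (↥R ⧸ K)).range.map e.permCongrHom.toMonoidHom by
      rw [MonoidHom.range_comp, MonoidHom.range_eq_top.2 hj, ← MonoidHom.range_eq_map,
        MonoidHom.range_comp]]
    rw [Subgroup.card_map_of_injective e.permCongrHom.injective, ← Subgroup.index_ker,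
      ← Subgroup.normalCore_eq_ker]
  have hKM : K ≤ M := Subgroup.map_subtype_le _
  have hzp : z ^ p ∈ M := by have := M.pow_index_mem z; rwa [hMi] at this
  let ψ : ↥M →* (ℕ → Multiplicative (ZMod p)) :=
    { toFun := fun m i => Multiplicative.ofAdd (conjSeq μ z m i)
      map_one' := by
        funext i
        show _ = (1 : Multiplicative (ZMod p))
        unfold conjSeq
        rw [ofAdd_toAdd, ← map_one μ]
        exact congrArg μ (Subtype.ext (by simp))
      map_mul' := fun m m' => by
        funext i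
        show _ = Multiplicative.ofAdd (conjSeq μ z m i) * Multiplicative.ofAdd (conjSeq μ z m' i)
        unfold conjSeq
        rw [ofAdd_toAdd, ofAdd_toAdd, ofAdd_toAdd, ← map_mul μ]
        exact congrArg μ (Subtype.ext (by simp [mul_assoc])) }
  have hψr := card_range_conjSeq μ hzp y hsum ψ fun m i => rfl
  have hle : K.normalCore.subgroupOf M ≤ ψ.ker := by
    intro m hm
    funext i
    show Multiplicative.ofAdd (conjSeq μ z m i) = 1
    unfold conjSeq
    rw [ofAdd_toAdd]
    have h1 := K.normalCore_le (by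
      simpa using K.normalCore_normal.conj_mem _ (Subgroup.mem_subgroupOf.1 hm) (z ^ i)⁻¹ :
      (z ^ i)⁻¹ * (m : ↥R) * z ^ i ∈ K.normalCore)
    obtain ⟨k, hk, hkz⟩ := h1
    exact (congrArg μ (Subtype.ext hkz.symm)).trans hk
  have h1 : Nat.card ψ.range ≤ (K.normalCore.subgroupOf M).index := by
    rw [← Subgroup.index_ker]
    exact Nat.le_of_dvd (Nat.pos_of_ne_zero Subgroup.index_ne_zero_of_finite) (Subgroup.index_dvd_of_le hle)
  rw [hFr, ← Subgroup.relIndex_mul_index (K.normalCore_le.trans hKM), hMi, pow_succ]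
  exact Nat.mul_le_mul_right p (hψr.trans h1)

end Cfsg.Agent.S2807
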