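import Cfsg.Statements.S2810
import Cfsg.Agent.Lib.LocalEven.Subnormal

set_option autoImplicit false
open Cfsg Cfsg.Agent.Lib.LocalEven
open scoped commutatorElement

namespace Cfsg.Agent.S2810

theorem stab_le {H : Type*} [Group H] [Finite H] {p : ℕ} [Fact p.Prime]
    (hchar : Subgroup.centralizer (Cfsg.pCore p H : Set H) ≤ Cfsg.pCore p H)
    (L : Subgroup H) (n : ℕ) (A : Fin (n + 1) → Subgroup H) (h0 : A 0 = ⊥)
    (hn : A (Fin.last n) = Cfsg.pCore p H) (hmono : Monotone A)
    (hcent : ∀ i : Fin n, ⁅A i.succ, L⁆ ≤ A i.castSucc) : IsPGroup p L := by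
  refine isPGroup_of_pResOf_eq_bot ?_
  have h1 : pResOf p L ≤ Cfsg.pCore p H := by
    refine le_trans ?_ hchar
    refine pResOf_le_centralizer fun x hxL hx => ?_
    let B : ℕ → Subgroup H := fun i => if hi : i ≤ n then A ⟨i, Nat.lt_succ_of_le hi⟩ else A (Fin.last n)
    have hB := centralizes_chain hx (pCore_isPGroup p H) B
      (by simp only [B, Nat.zero_le, dif_pos]; exact h0)
      (fun i => by
        simp only [B]; split
        · rw [← hn]; exact hmono (Fin.le_last _)
        · rw [hn]) n ?_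
    · simp only [B, le_refl, dif_pos] at hB
      rwa [show (⟨n, Nat.lt_succ_of_le le_rfl⟩ : Fin (n + 1)) = Fin.last n from rfl, hn] at hB
    · intro i hi a ha
      simp only [B, hi.le, Nat.succ_le_of_lt hi, dif_pos] at ha ⊢
      have h2 := hcent ⟨i, hi⟩ (Subgroup.commutator_mem_commutator ha hxL)
      have e : x * a * x⁻¹ * a⁻¹ = (⁅a, x⁆)⁻¹ := by simp [commutatorElement_def, mul_assoc]
      rw [e]; exact inv_mem h2
  rw [← pResOf_pResOf, pResOf_eq_bot_of_isPGroup ((pCore_isPGroup p H).to_le h1)]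

/-- Let H be a finite group of characteristic p and L a subgroup of H centralizing every factor of some H-invariant chain 1 = A₀ ≤ A₁ ≤ … ≤ Aₙ = O_p(H) of normal subgroups (that is, [A_{i+1}, L] ≤ Aᵢ for each i). Then L ≤ O_p(H). -/
theorem result {H : Type*} [Group H] [Finite H] {p : ℕ} [Fact p.Prime] (hchar : Subgroup.centralizer (Cfsg.pCore p H : Set H) ≤ Cfsg.pCore p H) (L : Subgroup H) (n : ℕ) (A : Fin (n + 1) → Subgroup H) (h0 : A 0 = ⊥) (hn : A (Fin.last n) = Cfsg.pCore p H) (hmono : Monotone A) (hnorm : ∀ i, (A i).Normal) (hcent : ∀ i : Fin n, ⁅A i.succ, L⁆ ≤ A i.castSucc) : L ≤ Cfsg.pCore p H := by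
  let K : Fin n → Subgroup H := fun i =>
    haveI := hnorm i.castSucc
    Cfsg.sectionKernel (A i.succ) (A i.castSucc)
  let D : Subgroup H := ⨅ i, K i
  have hLD : L ≤ D := by
    refine le_iInf fun i l hl => ?_
    have := hnorm i.castSucc
    show l ∈ Cfsg.sectionKernel (A i.succ) (A i.castSucc)
    rw [Cfsg.sectionKernel, Subgroup.mem_comap, Subgroup.mem_centralizer_iff]
    rintro _ ⟨a, ha, rfl⟩
    rw [← map_mul, ← map_mul, QuotientGroup.mk'_apply, QuotientGroup.mk'_apply, QuotientGroup.eq]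
    have h2 := hcent i (Subgroup.commutator_mem_commutator ha hl)
    have h3 := (hnorm i.castSucc).conj_mem _ (inv_mem h2) (a * l)⁻¹
    simpa [commutatorElement_def, mul_assoc] using h3
  have hDn : D.Normal := by
    refine Subgroup.normal_iInf_normal fun i => ?_
    have := hnorm i.castSucc
    have h1 : ((A i.succ).map (QuotientGroup.mk' (A i.castSucc))).Normal :=
      (hnorm i.succ).map _ (QuotientGroup.mk'_surjective _)
    show (Cfsg.sectionKernel (A i.succ) (A i.castSucc)).Normal
    unfold Cfsg.sectionKernel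
    exact Subgroup.Normal.comap inferInstance _
  have hDc : ∀ i : Fin n, ⁅A i.succ, D⁆ ≤ A i.castSucc := by
    intro i
    rw [Subgroup.commutator_le]
    intro a ha d hd
    have := hnorm i.castSucc
    have h4 : d ∈ Cfsg.sectionKernel (A i.succ) (A i.castSucc) := iInf_le K i hd
    rw [Cfsg.sectionKernel, Subgroup.mem_comap, Subgroup.mem_centralizer_iff] at h4
    have h5 := h4 _ (Subgroup.mem_map_of_mem _ ha)
    rw [← QuotientGroup.eq_one_iff]
    have : (QuotientGroup.mk' (A i.castSucc)) ⁅a, d⁆ = 1 := by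
      rw [map_commutatorElement, commutatorElement_eq_one_iff_mul_comm]; exact h5
    exact this
  exact hLD.trans (le_pCore hDn (stab_le hchar D n A h0 hn hmono hDc))

end Cfsg.Agent.S2810
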