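import Cfsg.Statements.S2813
import Cfsg.Agent.Lib.LocalEven.Subnormal

set_option autoImplicit false
open Cfsg Cfsg.Agent.Lib.LocalEven
open scoped commutatorElement

namespace Cfsg.Agent.S2813

/-- Let K be a subgroup of the finite group H with O_p(K) = 1 and Y a p-subgroup of N_H(K) with [K, Y, Y] = 1. Then [K, Y] = 1. -/
theorem result {H : Type*} [Group H] [Finite H] {p : ℕ} [Fact p.Prime] (K : Subgroup H) (hO : Cfsg.pCore p ↥K = ⊥) (Y : Subgroup H) (hY : IsPGroup p ↥Y) (hYK : Y ≤ Subgroup.normalizer (K : Set H)) (hq : ⁅⁅K, Y⁆, Y⁆ = ⊥) : ⁅K, Y⁆ = ⊥ := by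
  set C := ⁅K, Y⁆ with hC
  have hCK : C ≤ K := commutator_le_of_le_normalizer hYK
  have hKn : K ≤ Subgroup.normalizer (C : Set H) := le_normalizer_commutator_left K Y
  have hYc : Y ≤ Subgroup.centralizer (C : Set H) := by
    rw [le_centralizer_iff_commutator, Subgroup.commutator_comm]; exact hq
  have hgen : C ≤ Subgroup.centralizer (C : Set H) := by
    refine Subgroup.commutator_le.2 fun k hk y hy => ?_
    have h1 := conjS_mono k hYc
    rw [conjS_centralizer, conjS_eq_self_iff.2 (hKn hk)] at h1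
    have h2 := mul_mem (h1 (conj_mem_conjS (g := k) hy)) (inv_mem (hYc hy))
    simpa [commutatorElement_def] using h2
  have hab : ∀ x ∈ C, ∀ y ∈ C, Commute x y :=
    fun x hx y hy => (Subgroup.mem_centralizer_iff.1 (hgen hy) x hx)
  have hpg : IsPGroup p C := by
    refine isPGroup_closure_of_commute ?_ hab
    rintro _ ⟨k, hk, y, hy, rfl⟩
    obtain ⟨m, hm⟩ := hY ⟨y, hy⟩
    have hm' : y ^ p ^ m = 1 := congrArg Subtype.val hm
    refine ⟨m, ?_⟩
    have hc : Commute ⁅k, y⁆ y :=
      Subgroup.mem_centralizer_iff.1 (hYc hy) _ (Subgroup.commutator_mem_commutator hk hy)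
    have e : ⁅k, y⁆ * y = k * y * k⁻¹ := by simp [commutatorElement_def, mul_assoc]
    have := congrArg (· ^ p ^ m) e
    simp only [hc.mul_pow, conj_pow, hm', mul_one, one_mul, mul_inv_cancel] at this
    exact this
  have h2 : C ≤ Cfsg.pCoreOf p K := le_pCoreOf hCK hKn hpg
  rw [Cfsg.pCoreOf, hO, Subgroup.map_bot] at h2
  exact le_bot_iff.1 h2

end Cfsg.Agent.S2813
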