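import Cfsg.Statements.S2814
import Cfsg.Agent.Lib.LocalEven.Series
import Cfsg.Agent.Lib.LocalEven.PReduced
import Cfsg.Agent.Lib.LocalEven.Kieler
import Cfsg.Agent.Lib.Coprime.Generation
import Cfsg.Agent.Lib.Coprime.PxQ
import Cfsg.Agent.Lib.Cores.PCore
import Mathlib.GroupTheory.FixedPointFree

set_option autoImplicit false
open Cfsg Cfsg.Agent Cfsg.Agent.Lib.LocalEven
open scoped commutatorElement

namespace Cfsg.Agent.S2814

/-- Let A be a subgroup of the finite group H and K the subnormal closure of A (intersection of the subnormal subgroups containing A). Then K is the normal closure of A inside K and N_H(A) ≤ N_H(K); K = A·O^p(K), O^p(K) being generated by the elements of K of order prime to p; and if A is a p-group, O^p(K) = [O^p(K), A]. -/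
theorem result {H : Type*} [Group H] [Finite H] {p : ℕ} [Fact p.Prime] (A : Subgroup H) (K : Subgroup H) (hK : K = Cfsg.subnormalClosure A) : (Subgroup.normalClosure ((A.subgroupOf K : Subgroup ↥K) : Set ↥K)).map K.subtype = K ∧ Subgroup.normalizer (A : Set H) ≤ Subgroup.normalizer (K : Set H) ∧ A ⊔ (Cfsg.pResidual p ↥K).map K.subtype = K ∧ (IsPGroup p ↥A → ⁅(Cfsg.pResidual p ↥K).map K.subtype, A⁆ = (Cfsg.pResidual p ↥K).map K.subtype) := by
  have hKs : K.IsSubnormal := hK ▸ subnormalClosure_isSubnormal A
  have hAK : A ≤ K := hK ▸ le_subnormalClosure A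
  have hmin : ∀ N : Subgroup H, A ≤ N → N ≤ K → (N.subgroupOf K).IsSubnormal → K = N := fun N h1 h2 h3 =>
    le_antisymm (hK ▸ subnormalClosure_le h1 (h3.trans h2 hKs)) h2
  change _ ∧ _ ∧ A ⊔ pResOf p K = K ∧ (IsPGroup p ↥A → ⁅pResOf p K, A⁆ = pResOf p K)
  refine ⟨?_, ?_, ?_, fun hA => ?_⟩
  · refine (hmin _ ?_ (Subgroup.map_subtype_le _) ?_).symm
    · conv_lhs => rw [← Subgroup.map_subgroupOf_eq_of_le hAK]
      exact Subgroup.map_mono Subgroup.le_normalClosure
    · rw [Subgroup.subgroupOf, Subgroup.comap_map_eq_self_of_injective K.subtype_injective]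
      exact Subgroup.Normal.isSubnormal inferInstance
  · intro g hg
    have key : ∀ g : H, conjS g A = A → K ≤ conjS g K := fun g hg => by
      rw [hK]
      exact subnormalClosure_le (hg.ge.trans (conjS_mono g (le_subnormalClosure A)))
        ((subnormalClosure_isSubnormal A).map (MulEquiv.surjective (MulAut.conj g)))
    rw [← conjS_eq_self_iff]
    refine le_antisymm ?_ (key g (conjS_eq_self_iff.2 hg))
    have := conjS_mono g (key g⁻¹ (conjS_eq_self_iff.2 (inv_mem hg)))
    rwa [conjS_cancel_inv] at this
  · refine (hmin _ le_sup_left (sup_le hAK (pResOf_le K)) ?_).symm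
    haveI := pResidual_normal p ↥K
    set f := QuotientGroup.mk' (Cfsg.pResidual p ↥K) with hf
    haveI := (quotient_pResidual_isPGroup (p := p) (Cfsg.pResidual p ↥K) le_rfl).isNilpotent
    have h := (Lib.PGroups.isSubnormal_of_isNilpotent
      (((A ⊔ pResOf p K).subgroupOf K).map f)).comap f
    rwa [Subgroup.comap_map_eq, QuotientGroup.ker_mk', sup_eq_left.2] at h
    rw [pResOf, Subgroup.subgroupOf, ← Subgroup.map_le_iff_le_comap]
    exact le_sup_right
  · have hAn : A ≤ Subgroup.normalizer ((pResOf p K : Subgroup H) : Set H) :=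
      hAK.trans (self_le_normalizer_pResOf K)
    have hXR := commutator_le_of_le_normalizer hAn
    refine le_antisymm hXR ?_
    set X := ⁅pResOf p K, A⁆ with hX
    have hnA : A ≤ Subgroup.normalizer (X : Set H) := le_normalizer_commutator_right _ A
    have hnR : pResOf p K ≤ Subgroup.normalizer (X : Set H) := le_normalizer_commutator_left _ A
    have hR : pResOf p K ≤ Subgroup.normalizer ((A ⊔ X : Subgroup H) : Set H) := by
      rw [le_normalizer_iff_forall]
      have key : ∀ r ∈ pResOf p K, conjS r (A ⊔ X) ≤ A ⊔ X := by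
        intro r hr
        rw [conjS_sup, conjS_eq_self_iff.2 (hnR hr)]
        refine sup_le ?_ le_sup_right
        intro a' ha'
        have ha := mem_conjS.1 ha'
        rw [show a' = ⁅r, r⁻¹ * a' * r⁆ * (r⁻¹ * a' * r) by simp [commutatorElement_def, mul_assoc]]
        exact mul_mem (Subgroup.mem_sup_right (Subgroup.commutator_mem_commutator hr ha))
          (Subgroup.mem_sup_left ha)
      intro r hr
      refine le_antisymm (key r hr) ?_
      have := conjS_mono r (key r⁻¹ (inv_mem hr))
      rwa [conjS_cancel_inv] at this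
    have hAX : K = A ⊔ X := by
      have hle : A ⊔ X ≤ A ⊔ pResOf p K := sup_le_sup_left hXR _
      have hn : A ⊔ pResOf p K ≤ Subgroup.normalizer ((A ⊔ X : Subgroup H) : Set H) :=
        sup_le (le_sup_left.trans Subgroup.le_normalizer) hR
      have hKeq : A ⊔ pResOf p K = K := by
        refine (hmin _ le_sup_left (sup_le hAK (pResOf_le K)) ?_).symm
        haveI := pResidual_normal p ↥K
        set f := QuotientGroup.mk' (Cfsg.pResidual p ↥K) with hf
        haveI := (quotient_pResidual_isPGroup (p := p) (Cfsg.pResidual p ↥K) le_rfl).isNilpotent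
        have h := (Lib.PGroups.isSubnormal_of_isNilpotent
          (((A ⊔ pResOf p K).subgroupOf K).map f)).comap f
        rwa [Subgroup.comap_map_eq, QuotientGroup.ker_mk', sup_eq_left.2] at h
        rw [pResOf, Subgroup.subgroupOf, ← Subgroup.map_le_iff_le_comap]
        exact le_sup_right
      rw [hKeq] at hn hle
      exact hmin _ le_sup_left hle ((subgroupOf_normal_of_le hn).isSubnormal)
    conv_lhs => rw [hAX]
    exact pResOf_sup_le hnA (by rw [pResOf_eq_bot_of_isPGroup hA]; exact bot_le)

end Cfsg.Agent.S2814
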