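import Cfsg.Statements.S2815
import Cfsg.Agent.Lib.LocalEven.FStarAction
import Cfsg.Agent.Lib.LocalEven.Residual
import Cfsg.Agent.Lib.LocalEven.Irreducible
import Cfsg.Agent.Lib.Components.Quasisimple

set_option autoImplicit false
open Cfsg Cfsg.Agent Cfsg.Agent.Lib Cfsg.Agent.Lib.LocalEven
open scoped commutatorElement

namespace Cfsg.Agent.S2815

/-- Let H be a finite group and p a prime dividing its order with O_p(H) = 1, and suppose K = O^p(H) (generated by the elements of order prime to p) is quasisimple. Then K = F*(H); for every nontrivial p-subgroup Y of H, K = [K, Y] and K lies in the subgroup generated by the K-conjugates of Y; every normal subgroup of H not containing K has order prime to p; and H is p-irreducible. -/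
theorem result {H : Type*} [Group H] [Finite H] {p : ℕ} [Fact p.Prime] (hp : p ∣ Nat.card H) (hO : Cfsg.pCore p H = ⊥) (hq : Cfsg.IsQuasisimple ↥(Cfsg.pResidual p H)) : Cfsg.pResidual p H = Cfsg.generalizedFittingSubgroup H ∧ (∀ Y : Subgroup H, IsPGroup p ↥Y → Y ≠ ⊥ → ⁅Cfsg.pResidual p H, Y⁆ = Cfsg.pResidual p H ∧ Cfsg.pResidual p H ≤ ⨆ k : ↥(Cfsg.pResidual p H), Y.map (MulAut.conj (k : H)).toMonoidHom) ∧ (∀ C : Subgroup H, C.Normal → ¬ Cfsg.pResidual p H ≤ C → (Nat.card ↥C).Coprime p) ∧ Cfsg.IsPIrreducible p H := by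
  set K := Cfsg.pResidual p H with hK
  haveI hKn : K.Normal := pResidual_normal p H
  haveI hperf : Group.IsPerfect ↥K := hq.1
  have hKc : Cfsg.IsComponent K := ⟨hKn.isSubnormal, hq⟩
  have hPP : ∀ L : Subgroup H, ⁅L, L⁆ = L → L ≤ K := by
    intro L hL
    have hqp : IsPGroup p (H ⧸ K) := quotient_pResidual_isPGroup K le_rfl
    haveI := hqp.isNilpotent
    have h1 := Components.eq_bot_of_perfect_solvable (K := L.map (QuotientGroup.mk' K))
      (by rw [← Subgroup.map_commutator, hL]) inferInstance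
    rwa [Subgroup.map_eq_bot_iff, QuotientGroup.ker_mk'] at h1
  have hFK : K = Cfsg.generalizedFittingSubgroup H := by
    refine le_antisymm (le_sup_of_le_left (Components.IsComponent.le_layer hKc)) (sup_le ?_ ?_)
    · rw [Components.layer_le_iff]
      exact fun L hL => hPP L (Components.IsComponent.commutator_self hL)
    · intro x hx
      refine coprime_orderOf_mem_pResidual ((coprime_card_fitting hO).coprime_dvd_left ?_)
      rw [← Subgroup.orderOf_mk x hx]
      exact orderOf_dvd_natCard _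
  have hY : ∀ Y : Subgroup H, IsPGroup p ↥Y → Y ≠ ⊥ → ⁅K, Y⁆ = K := by
    intro Y hYp hY1
    have hle : ⁅K, Y⁆ ≤ K := LocalEven.commutator_le_of_le_normalizer (le_normalizer_of_normal _ _)
    haveI : ((⁅K, Y⁆).subgroupOf K).Normal := subgroupOf_normal_of_le (le_normalizer_commutator_left K Y)
    rcases Components.IsQuasisimple.normal_eq_top_or_le_center hq ((⁅K, Y⁆).subgroupOf K) with h | h
    · exact le_antisymm hle (Subgroup.subgroupOf_eq_top.1 h)
    · exfalso
      refine hY1 (eq_bot_of_centralizes_genFitting hO hYp fun y hy => Subgroup.mem_centralizer_iff.2 fun k hk => ?_)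
      rw [SetLike.mem_coe, ← hFK] at hk
      let α : ↥K →* ↥K := MonoidHom.mk' (fun x => ⟨y * (x : H) * y⁻¹, hKn.conj_mem _ x.2 y⟩)
        (fun a b => Subtype.ext (by show y * ((a : H) * b) * y⁻¹ = _ * _; group))
      have h1 := congrArg Subtype.val (Components.apply_eq_self_of_perfect_of_central α (fun x => h (by
        rw [Subgroup.mem_subgroupOf]
        show y * (x : H) * y⁻¹ * (x : H)⁻¹ ∈ ⁅K, Y⁆
        have h2 := inv_mem (Subgroup.commutator_mem_commutator x.2 hy : ⁅(x : H), y⁆ ∈ ⁅K, Y⁆)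
        simpa [commutatorElement_def, mul_assoc] using h2)) ⟨k, hk⟩)
      exact (mul_inv_eq_iff_eq_mul.1 h1).symm
  have h3 : ∀ C : Subgroup H, C.Normal → ¬ K ≤ C → (Nat.card ↥C).Coprime p := by
    intro C hC hKC
    refine ((Fact.out : p.Prime).coprime_iff_not_dvd.2 fun hd => hKC ?_).symm
    obtain ⟨x, hx⟩ := exists_prime_orderOf_dvd_card' p hd
    have hxo : orderOf (x : H) = p := by rw [Subgroup.orderOf_coe, hx]
    rw [← hY (Subgroup.zpowers (x : H)) (IsPGroup.of_card (n := 1) (by rw [Nat.card_zpowers, hxo, pow_one]))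
      (fun h => by rw [Subgroup.zpowers_eq_bot] at h; rw [h, orderOf_one] at hxo; exact (Fact.out : p.Prime).ne_one hxo.symm)]
    exact (Subgroup.commutator_mono le_rfl (Subgroup.zpowers_le.2 x.2)).trans
      (LocalEven.commutator_le_of_le_normalizer' (le_normalizer_of_normal K C (hn := hC)))
  refine ⟨hFK, fun Y hYp hY1 => ⟨hY Y hYp hY1, ?_⟩, h3, fun hc => ?_, fun N hN hNc => ?_⟩
  · set R := ⨆ k : ↥K, Y.map (MulAut.conj (k : H)).toMonoidHom with hR
    have hYR : ∀ k ∈ K, ∀ y ∈ Y, k * y * k⁻¹ ∈ R := fun k hk y hy =>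
      le_iSup (fun k : ↥K => Y.map (MulAut.conj (k : H)).toMonoidHom) ⟨k, hk⟩ ⟨y, hy, rfl⟩
    conv_lhs => rw [← hY Y hYp hY1]
    rw [Subgroup.commutator_le]
    intro k hk y hy
    rw [commutatorElement_def]
    exact mul_mem (hYR k hk y hy) (inv_mem (by simpa using hYR 1 (one_mem K) y hy))
  · obtain ⟨P⟩ : Nonempty (Sylow p H) := inferInstance
    have h1 := le_pCore (hc P) P.isPGroup'
    rw [hO, le_bot_iff] at h1
    have h2 := P.dvd_card_of_dvd_card hp
    rw [h1, Subgroup.card_bot] at h2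
    exact (Fact.out : p.Prime).not_dvd_one h2
  · by_contra hle
    refine hNc (isPClosed_iff.2 fun A hA => ?_)
    obtain ⟨n, hn⟩ := IsPGroup.iff_card.1 hA
    have h1 := (h3 N hN hle).coprime_dvd_left A.card_subgroup_dvd_card
    rw [hn] at h1
    rcases n with _ | n
    · rw [Subgroup.eq_bot_of_card_eq A hn]; exact bot_le
    · exact absurd ((Nat.coprime_self _).1 ((Nat.coprime_pow_left_iff (Nat.succ_pos n) _ _).1 h1)) (Fact.out : p.Prime).ne_one

end Cfsg.Agent.S2815
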