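import Cfsg.Statements.S2816
import Cfsg.Agent.Lib.LocalEven.FStarAction

set_option autoImplicit false
open Cfsg Cfsg.Agent Cfsg.Agent.Lib Cfsg.Agent.Lib.LocalEven

namespace Cfsg.Agent.S2816

/-- Let H be a finite group and p a prime with O_p(H) = 1, and Y a p-subgroup of H. Then for every subnormal subgroup K of H containing Y, [F*(H), Y] = [F*(K), Y] = [F*(K), Y, Y]; and if Y₀ ≤ Y with [F*(H), Y, Y₀] = 1 then Y₀ = 1 (in particular [F*(H), Y] = 1 forces Y = 1). -/
theorem result {H : Type*} [Group H] [Finite H] {p : ℕ} [Fact p.Prime] (hO : Cfsg.pCore p H = ⊥) (Y : Subgroup H) (hY : IsPGroup p ↥Y) : (∀ K : Subgroup H, K.IsSubnormal → Y ≤ K → ⁅Cfsg.generalizedFittingSubgroup H, Y⁆ = ⁅(Cfsg.generalizedFittingSubgroup ↥K).map K.subtype, Y⁆ ∧ ⁅(Cfsg.generalizedFittingSubgroup ↥K).map K.subtype, Y⁆ = ⁅⁅(Cfsg.generalizedFittingSubgroup ↥K).map K.subtype, Y⁆, Y⁆) ∧ (∀ Y₀ : Subgroup H, Y₀ ≤ Y → ⁅⁅Cfsg.generalizedFittingSubgroup H, Y⁆, Y₀⁆ = ⊥ → Y₀ = ⊥) := by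
  haveI := genFitting_normal (X := H)
  set F := Cfsg.generalizedFittingSubgroup H with hF
  refine ⟨fun K hK hYK => ?_, fun Y₀ hY₀ hc => ?_⟩
  · have h1 := Components.map_genFitting_subtype hK
    rw [← hF] at h1
    haveI := genFitting_normal (X := ↥K)
    have hsn : ((Cfsg.generalizedFittingSubgroup ↥K).map K.subtype).IsSubnormal := by
      rw [h1]; exact Subgroup.IsSubnormal.inf (genFitting_normal (X := H)).isSubnormal hK
    have hYn : Y ≤ Subgroup.normalizer (((Cfsg.generalizedFittingSubgroup ↥K).map K.subtype : Subgroup H) : Set H) :=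
      hYK.trans (map_subtype_le_normalizer _)
    have h2 := (commutator_facts hO hsn (h1.trans_le inf_le_left) hY hYn).2
    refine ⟨le_antisymm ?_ (Subgroup.commutator_mono (h1.trans_le inf_le_left) le_rfl), h2⟩
    have h3 := commutator_genFitting_le_of_subnormal hO hK hY hYK
    rw [(commutator_facts hO (genFitting_normal (X := H)).isSubnormal le_rfl hY (le_normalizer_of_normal _ _)).2]
    refine Subgroup.commutator_mono ?_ le_rfl
    rw [h1]
    exact le_inf (LocalEven.commutator_le_of_le_normalizer (le_normalizer_of_normal Y F)) h3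
  · have hYp := hY.to_le hY₀
    refine eq_bot_of_centralizes_genFitting hO hYp ?_
    have h2 := (commutator_facts hO (genFitting_normal (X := H)).isSubnormal le_rfl hYp (le_normalizer_of_normal _ _)).2
    have h3 : ⁅F, Y₀⁆ = ⊥ := by
      rw [h2, ← le_bot_iff, ← hc]
      exact Subgroup.commutator_mono (Subgroup.commutator_mono le_rfl hY₀) le_rfl
    exact Subgroup.le_centralizer_iff.1 (le_centralizer_iff_commutator.2 h3)

end Cfsg.Agent.S2816
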