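import Cfsg.Statements.S2817
import Cfsg.Agent.Lib.LocalEven.FStarAction
import Cfsg.Agent.Lib.LocalEven.Residual
import Cfsg.Agent.Lib.Cores.Frattini

set_option autoImplicit false
open Cfsg Cfsg.Agent Cfsg.Agent.Lib Cfsg.Agent.Lib.LocalEven
open scoped commutatorElement

namespace Cfsg.Agent.S2817

theorem inf_center_le_frattini {X : Type*} [Group X] [Finite X] :
    commutator X ⊓ Subgroup.center X ≤ frattini X := by
  simp only [frattini, Order.radical, le_iInf_iff]
  intro M hM
  rintro z ⟨hzc, hzZ⟩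
  by_contra hzM
  have hsup : M ⊔ Subgroup.center X = ⊤ := hM.2 _ (lt_of_le_of_ne le_sup_left fun h =>
    hzM (h ▸ Subgroup.mem_sup_right hzZ))
  refine hzM ((Subgroup.commutator_le.2 (fun a _ b _ => ?_) : ⁅(⊤ : Subgroup X), ⊤⁆ ≤ M) hzc)
  have ha : a ∈ ((M ⊔ Subgroup.center X : Subgroup X) : Set X) := by rw [hsup]; trivial
  have hb : b ∈ ((M ⊔ Subgroup.center X : Subgroup X) : Set X) := by rw [hsup]; trivial
  rw [Subgroup.mul_normal] at ha hb
  obtain ⟨m, hm, c, hc, rfl⟩ := ha
  obtain ⟨n, hn, d, hd, rfl⟩ := hb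
  have hc' := fun x => Subgroup.mem_center_iff.1 hc x
  have hd' := fun x => Subgroup.mem_center_iff.1 hd x
  have : ⁅m * c, n * d⁆ = ⁅m, n⁆ := by
    rw [commutatorElement_def, commutatorElement_def]
    calc m * c * (n * d) * (m * c)⁻¹ * (n * d)⁻¹
        = m * (c * n) * d * c⁻¹ * m⁻¹ * d⁻¹ * n⁻¹ := by group
      _ = m * (n * c) * d * c⁻¹ * m⁻¹ * d⁻¹ * n⁻¹ := by rw [hc' n]
      _ = m * n * (c * d) * c⁻¹ * m⁻¹ * d⁻¹ * n⁻¹ := by group
      _ = m * n * (d * c) * c⁻¹ * m⁻¹ * d⁻¹ * n⁻¹ := by rw [hd' c]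
      _ = m * n * (d * m⁻¹) * d⁻¹ * n⁻¹ := by group
      _ = m * n * (m⁻¹ * d) * d⁻¹ * n⁻¹ := by rw [hd' m⁻¹]
      _ = m * n * m⁻¹ * n⁻¹ := by group
  show ⁅m * c, n * d⁆ ∈ M
  rw [this, commutatorElement_def]
  exact mul_mem (mul_mem (mul_mem hm hn) (inv_mem hm)) (inv_mem hn)

/-- Fixed points of a `p`-group on the abelianization of `L = [L,Q]`. -/
theorem fixed_le_derived {G : Type*} [Group G] [Finite G] {p : ℕ} [Fact p.Prime] {L Q : Subgroup G}
    (hQ : IsPGroup p Q) (hQL : Q ≤ Subgroup.normalizer (L : Set G)) (hLQ : ⁅L, Q⁆ = L)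
    (hidx : Nat.Coprime (Nat.card (Abelianization ↥L)) p) :
    (L ⊓ Subgroup.centralizer (Q : Set G)).subgroupOf L ≤ commutator ↥L := by
  classical
  haveI := Fintype.ofFinite ↥Q
  let c : ↥Q → ↥L →* ↥L := fun q => MonoidHom.mk'
    (fun x => ⟨(q : G) * (x : G) * (q : G)⁻¹, (Subgroup.mem_normalizer_iff.1 (hQL q.2) _).1 x.2⟩)
    (fun x y => Subtype.ext (by show (q : G) * ((x : G) * y) * (q : G)⁻¹ = _ * _; group))
  let ν : ↥L →* Abelianization ↥L := ∏ q : ↥Q, Abelianization.of.comp (c q)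
  have hν : ∀ x, ν x = ∏ q : ↥Q, Abelianization.of (c q x) := fun x => MonoidHom.finsetProd_apply _ _ _
  have hinv : ∀ (q₀ : ↥Q) x, ν (c q₀ x) = ν x := by
    intro q₀ x
    rw [hν, hν]
    refine Fintype.prod_equiv (Equiv.mulRight q₀) _ _ fun q => ?_
    congr 1
    exact Subtype.ext (by
      show (q : G) * ((q₀ : G) * (x : G) * (q₀ : G)⁻¹) * (q : G)⁻¹ = ((q * q₀ : ↥Q) : G) * x * ((q * q₀ : ↥Q) : G)⁻¹
      rw [Subgroup.coe_mul]; group)
  have hker : L ≤ ν.ker.map L.subtype := by
    conv_lhs => rw [← hLQ]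
    rw [Subgroup.commutator_le]
    intro l hl q hq
    have hm : ⁅l, q⁆ ∈ L := by
      rw [commutatorElement_def, mul_assoc, mul_assoc, ← mul_assoc q]
      exact mul_mem hl ((Subgroup.mem_normalizer_iff.1 (hQL hq) _).1 (inv_mem hl))
    refine ⟨⟨_, hm⟩, ?_, rfl⟩
    have e : (⟨_, hm⟩ : ↥L) = ⟨l, hl⟩ * c ⟨q, hq⟩ ⟨l, hl⟩⁻¹ := Subtype.ext (by
      show ⁅l, q⁆ = l * (q * l⁻¹ * q⁻¹)
      rw [commutatorElement_def]; group)
    show ν _ = 1
    rw [e, map_mul, hinv, map_inv, mul_inv_cancel]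
  rintro ⟨x, hxL⟩ hx
  have hfix : ∀ q : ↥Q, c q ⟨x, hxL⟩ = ⟨x, hxL⟩ := fun q => Subtype.ext (by
    show (q : G) * x * (q : G)⁻¹ = x
    rw [Subgroup.mem_centralizer_iff.1 (Subgroup.mem_inf.1 (Subgroup.mem_subgroupOf.1 hx)).2 q q.2, mul_inv_cancel_right])
  obtain ⟨y, hy, hye⟩ := hker hxL
  have hy1 : ν ⟨x, hxL⟩ = 1 := by rw [← show y = ⟨x, hxL⟩ from Subtype.ext hye]; exact hy
  rw [hν, Finset.prod_congr rfl (fun q _ => by rw [hfix q]), Finset.prod_const, Finset.card_univ,
    ← Nat.card_eq_fintype_card] at hy1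
  obtain ⟨n, hn⟩ := IsPGroup.iff_card.1 hQ
  rw [hn] at hy1
  have : Abelianization.of (⟨x, hxL⟩ : ↥L) = 1 :=
    eq_one_of_coprime_of_pow (hidx.coprime_dvd_left (orderOf_dvd_natCard _)) hy1
  exact (QuotientGroup.eq_one_iff _).1 this

theorem coprime_abelianization {L : Type*} [Group L] [Finite L] {p : ℕ} [Fact p.Prime]
    (hF : Cfsg.generalizedFittingSubgroup L = ⊤) (hO : Cfsg.pCore p L = ⊥) :
    Nat.Coprime (Nat.card (Abelianization L)) p := by
  have hlay : Cfsg.layer L ≤ commutator L := by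
    rw [commutator_def, ← Components.layer_commutator_self L]
    exact Subgroup.commutator_mono le_top le_top
  have hs : Function.Surjective (Abelianization.of.comp (fittingSubgroup L).subtype) := by
    intro a
    obtain ⟨x, rfl⟩ := QuotientGroup.mk'_surjective (commutator L) a
    have hx : x ∈ ((Cfsg.layer L ⊔ fittingSubgroup L : Subgroup L) : Set L) := by
      show x ∈ Cfsg.generalizedFittingSubgroup L
      rw [hF]; trivial
    haveI := fittingSubgroup_characteristic (G := L)
    rw [Subgroup.mul_normal] at hx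
    obtain ⟨e, he, f, hf, rfl⟩ := hx
    refine ⟨⟨f, hf⟩, ?_⟩
    show Abelianization.of f = Abelianization.of (e * f)
    rw [map_mul, show Abelianization.of e = 1 from (QuotientGroup.eq_one_iff _).2 (hlay he), one_mul]
  exact (coprime_card_fitting hO).coprime_dvd_left (Subgroup.card_dvd_of_surjective _ hs)

theorem main {H : Type*} [Group H] [Finite H] {p : ℕ} [Fact p.Prime] (hO : Cfsg.pCore p H = ⊥) (Q : Subgroup H)
    (hQ : IsPGroup p ↥Q) (L : Subgroup H) (hL : L = ⁅Cfsg.generalizedFittingSubgroup H, Q⁆) (F : Subgroup H)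
    (hF : F ≤ Cfsg.generalizedFittingSubgroup H ∧
      Cfsg.generalizedFittingSubgroup H ≤ Subgroup.normalizer (F : Set H) ∧ Q ≤ Subgroup.centralizer (F : Set H) ∧
      ∀ N : Subgroup H, N ≤ Cfsg.generalizedFittingSubgroup H →
        Cfsg.generalizedFittingSubgroup H ≤ Subgroup.normalizer (N : Set H) →
        Q ≤ Subgroup.centralizer (N : Set H) → N ≤ F) :
    F = Cfsg.generalizedFittingSubgroup H ⊓ Subgroup.centralizer ((L ⊔ Q : Subgroup H) : Set H) ∧ ⁅L, Q⁆ = L ∧
    L ⊓ F ≤ (frattini ↥L).map L.subtype ∧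
    (∀ B : Subgroup H, IsPGroup p ↥B → B ≤ Subgroup.normalizer (Q : Set H) → ⁅L, B⁆ ≤ F → ⁅L, B⁆ = ⊥) ∧
    (Nat.card ↥(Subgroup.centralizer ((F ⊔ L : Subgroup H) : Set H))).Coprime p := by
  obtain ⟨hFX, hXF, hQF, hmax⟩ := hF
  set X := Cfsg.generalizedFittingSubgroup H with hX
  haveI hXn : X.Normal := genFitting_normal (X := H)
  obtain ⟨hsup, hcc⟩ := commutator_facts hO hXn.isSubnormal le_rfl hQ (le_normalizer_of_normal _ _)
  rw [← hL] at hsup hcc
  have hLX : L ≤ X := hL ▸ LocalEven.commutator_le_of_le_normalizer (le_normalizer_of_normal _ _)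
  have hXL : X ≤ Subgroup.normalizer (L : Set H) := hL ▸ le_normalizer_commutator_left X Q
  have hQL : Q ≤ Subgroup.normalizer (L : Set H) := hL ▸ le_normalizer_commutator_right X Q
  have hLsn : L.IsSubnormal := Subgroup.IsSubnormal.step L X hLX hXn.isSubnormal (subgroupOf_normal_of_le hXL)
  have hOL : Cfsg.pCore p ↥L = ⊥ := by
    have h := Components.map_pCore_subtype_le p hLsn
    rwa [hO, le_bot_iff, Subgroup.map_eq_bot_iff_of_injective _ L.subtype_injective] at h
  have hFC : F ≤ Subgroup.centralizer (L : Set H) := by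
    rw [le_centralizer_iff_commutator, Subgroup.commutator_comm, hL]
    apply Subgroup.commutator_commutator_eq_bot_of_rotate
    · rw [← le_bot_iff, ← le_centralizer_iff_commutator.1 (Subgroup.le_centralizer_iff.1 hQF),
        Subgroup.commutator_comm Q F]
      rw [le_centralizer_iff_commutator.1 (Subgroup.le_centralizer_iff.1 hQF), Subgroup.commutator_bot_left]
    · rw [← le_bot_iff]
      refine (Subgroup.commutator_mono (LocalEven.commutator_le_of_le_normalizer hXF) le_rfl).trans ?_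
      rw [le_centralizer_iff_commutator.1 (Subgroup.le_centralizer_iff.1 hQF)]
  have hFeq : F = X ⊓ Subgroup.centralizer ((L ⊔ Q : Subgroup H) : Set H) := by
    refine le_antisymm (le_inf hFX ?_) (hmax _ inf_le_left ?_ ?_)
    · rw [Subgroup.le_centralizer_iff]
      exact sup_le (Subgroup.le_centralizer_iff.1 hFC) hQF
    · have h1 : L ≤ Subgroup.centralizer ((X ⊓ Subgroup.centralizer ((L ⊔ Q : Subgroup H) : Set H) : Subgroup H) : Set H) := by
        rw [Subgroup.le_centralizer_iff]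
        exact inf_le_right.trans (Subgroup.centralizer_le (SetLike.coe_subset_coe.2 le_sup_left))
      calc X = L ⊔ (X ⊓ Subgroup.centralizer (Q : Set H)) := hsup.symm
        _ ≤ _ := sup_le (h1.trans (Subgroup.centralizer_le_normalizer _)) (le_normalizer_inf
          (inf_le_left.trans Subgroup.le_normalizer) (le_normalizer_centralizer (le_normalizer_sup
            (inf_le_left.trans hXL) (inf_le_right.trans (Subgroup.centralizer_le_normalizer _)))))
    · rw [Subgroup.le_centralizer_iff]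
      exact inf_le_right.trans (Subgroup.centralizer_le (SetLike.coe_subset_coe.2 le_sup_right))
  have hfr : L ⊓ F ≤ (frattini ↥L).map L.subtype := by
    rintro x ⟨hxL, hxF⟩
    refine ⟨⟨x, hxL⟩, inf_center_le_frattini ⟨fixed_le_derived hQ hQL hcc.symm
      (coprime_abelianization (Components.genFitting_self_eq_top hLsn hLX) hOL)
      (Subgroup.mem_inf.2 ⟨hxL, Subgroup.le_centralizer_iff.1 hQF hxF⟩), ?_⟩, rfl⟩
    refine Subgroup.mem_center_iff.2 ?_
    exact fun g => Subtype.ext (Subgroup.mem_centralizer_iff.1 (hFC hxF) g g.2)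
  refine ⟨hFeq, hcc.symm, hfr, fun B hB hBQ hBF => ?_, ?_⟩
  · have hBL : B ≤ Subgroup.normalizer (L : Set H) :=
      hL ▸ le_normalizer_commutator (le_normalizer_of_normal _ _) hBQ
    obtain ⟨hs, -⟩ := commutator_facts hO hLsn hLX hB hBL
    have h1 : L ⊓ Subgroup.centralizer (B : Set H) = L := by
      refine Cores.eq_of_sup_map_frattini inf_le_left (le_antisymm (sup_le inf_le_left (Subgroup.map_subtype_le _)) ?_)
      conv_lhs => rw [← hs]
      exact sup_le ((le_inf (LocalEven.commutator_le_of_le_normalizer hBL) hBF).trans hfr |>.trans le_sup_right)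
        le_sup_left
    exact le_centralizer_iff_commutator.1 (h1 ▸ inf_le_right)
  · set C := X ⊓ Subgroup.centralizer (L : Set H) with hC
    have hXC : X ≤ Subgroup.normalizer (C : Set H) :=
      le_normalizer_inf Subgroup.le_normalizer (le_normalizer_centralizer hXL)
    have hQC : Q ≤ Subgroup.normalizer (C : Set H) :=
      le_normalizer_inf (le_normalizer_of_normal _ _) (le_normalizer_centralizer hQL)
    have hCsn : C.IsSubnormal :=
      Subgroup.IsSubnormal.step C X inf_le_left hXn.isSubnormal (subgroupOf_normal_of_le hXC)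
    have hCLF : C ≤ F ⊔ L := by
      obtain ⟨hs, -⟩ := commutator_facts hO hCsn inf_le_left hQ hQC
      rw [← hs]
      refine sup_le ((Subgroup.commutator_mono inf_le_left le_rfl).trans (hL.symm.le.trans le_sup_right)) ?_
      refine le_trans ?_ le_sup_left
      rw [hFeq]
      refine le_inf (inf_le_left.trans inf_le_left) ?_
      rw [Subgroup.le_centralizer_iff]
      exact sup_le (Subgroup.le_centralizer_iff.1 (inf_le_left.trans inf_le_right))
        (Subgroup.le_centralizer_iff.1 inf_le_right)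
    refine ((Fact.out : p.Prime).coprime_iff_not_dvd.2 fun hd => ?_).symm
    obtain ⟨x, hx⟩ := exists_prime_orderOf_dvd_card' p hd
    set P := Subgroup.zpowers (x : H) with hP
    have hxo : orderOf (x : H) = p := by rw [Subgroup.orderOf_coe, hx]
    have hPp : IsPGroup p ↥P := IsPGroup.of_card (n := 1) (by rw [hP, Nat.card_zpowers, hxo, pow_one])
    have hPc : P ≤ Subgroup.centralizer ((F ⊔ L : Subgroup H) : Set H) := Subgroup.zpowers_le.2 x.2
    have hXPC : ⁅X, P⁆ ≤ C := by
      refine le_inf (LocalEven.commutator_le_of_le_normalizer (le_normalizer_of_normal _ _)) ?_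
      rw [le_centralizer_iff_commutator, Subgroup.commutator_comm X P]
      have hPL : ⁅L, P⁆ = ⊥ := le_centralizer_iff_commutator.1
        (Subgroup.le_centralizer_iff.1 (hPc.trans (Subgroup.centralizer_le (SetLike.coe_subset_coe.2 le_sup_right))))
      apply Subgroup.commutator_commutator_eq_bot_of_rotate
      · rw [← le_bot_iff]
        refine (Subgroup.commutator_mono (LocalEven.commutator_le_of_le_normalizer' hXL) le_rfl).trans ?_
        rw [hPL]
      · rw [hPL, Subgroup.commutator_bot_left]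
    have h0 : ⁅X, P⁆ = ⊥ := by
      rw [(commutator_facts hO hXn.isSubnormal le_rfl hPp (le_normalizer_of_normal _ _)).2, ← le_bot_iff]
      refine (Subgroup.commutator_mono (hXPC.trans hCLF) le_rfl).trans ?_
      rw [le_centralizer_iff_commutator.1 (Subgroup.le_centralizer_iff.1 hPc)]
    have := eq_bot_of_centralizes_genFitting hO hPp
      (Subgroup.le_centralizer_iff.1 (le_centralizer_iff_commutator.2 h0))
    rw [hP, Subgroup.zpowers_eq_bot] at this
    rw [this, orderOf_one] at hxo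
    exact (Fact.out : p.Prime).ne_one hxo.symm

/-- Let H be a finite group and p a prime with O_p(H) = 1, Q a p-subgroup of H, L = [F*(H), Q], and F the largest normal subgroup of F*(H) centralized by Q (a normal subgroup of F*(H) centralized by Q and containing every such). Then F = C_{F*(H)}(LQ); L = [L, Q]; L ∩ F ≤ Φ(L); every p-subgroup B of N_H(Q) with [L, B] ≤ F satisfies [L, B] = 1; and C_H(FL) has order prime to p. -/
theorem result {H : Type*} [Group H] [Finite H] {p : ℕ} [Fact p.Prime] (hO : Cfsg.pCore p H = ⊥) (Q : Subgroup H) (hQ : IsPGroup p ↥Q) (L : Subgroup H) (hL : L = ⁅Cfsg.generalizedFittingSubgroup H, Q⁆) (F : Subgroup H) (hF : F ≤ Cfsg.generalizedFittingSubgroup H ∧ Cfsg.generalizedFittingSubgroup H ≤ Subgroup.normalizer (F : Set H) ∧ Q ≤ Subgroup.centralizer (F : Set H) ∧ ∀ N : Subgroup H, N ≤ Cfsg.generalizedFittingSubgroup H → Cfsg.generalizedFittingSubgroup H ≤ Subgroup.normalizer (N : Set H) → Q ≤ Subgroup.centralizer (N : Set H) → N ≤ F) :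 F = Cfsg.generalizedFittingSubgroup H ⊓ Subgroup.centralizer ((L ⊔ Q : Subgroup H) : Set H) ∧ ⁅L, Q⁆ = L ∧ L ⊓ F ≤ (frattini ↥L).map L.subtype ∧ (∀ B : Subgroup H, IsPGroup p ↥B → B ≤ Subgroup.normalizer (Q : Set H) → ⁅L, B⁆ ≤ F → ⁅L, B⁆ = ⊥) ∧ (Nat.card ↥(Subgroup.centralizer ((F ⊔ L : Subgroup H) : Set H))).Coprime p := by
  exact main hO Q hQ L hL F hF

end Cfsg.Agent.S2817
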