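import Cfsg.Statements.S2818
import Cfsg.Agent.Lib.LocalEven.Subnormal

set_option autoImplicit false
open Cfsg Cfsg.Agent.Lib.LocalEven
open scoped commutatorElement

namespace Cfsg.Agent.S2818

/-- Let P be a finite p-subgroup of a group G and H a subgroup of N_G(P) with [P, H] ≤ Ω₁(Z(P)) (the elements of order dividing p in the centre of P). Then H centralizes the Frattini subgroup of P. -/
theorem result {G : Type*} [Group G] [Finite G] {p : ℕ} [Fact p.Prime] (P : Subgroup G) (hP : IsPGroup p ↥P) (H : Subgroup G) (hH : H ≤ Subgroup.normalizer (P : Set G)) (h : ⁅P, H⁆ ≤ Cfsg.omegaOne p (P ⊓ Subgroup.centralizer (P : Set G))) : ⁅(frattini ↥P).map P.subtype, H⁆ = ⊥ := by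
  set Z := Cfsg.omegaOne p (P ⊓ Subgroup.centralizer (P : Set G)) with hZ
  have hZc : Z ≤ Subgroup.centralizer (P : Set G) :=
    ((Subgroup.closure_le _).2 fun x hx => hx.1).trans inf_le_right
  have hZP : Z ≤ P := ((Subgroup.closure_le _).2 fun x hx => hx.1).trans inf_le_left
  have hZpow : ∀ z ∈ Z, z ^ p = 1 := by
    intro z hz
    induction hz using Subgroup.closure_induction with
    | mem x hx => exact hx.2
    | one => exact one_pow _
    | mul a b ha hb iha ihb =>
      have : Commute a b := Subgroup.mem_centralizer_iff.1 (hZc hb) a (hZP ha)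
      rw [this.mul_pow, iha, ihb, one_mul]
    | inv a ha iha => rw [inv_pow, iha, inv_one]
  have key : ∀ a ∈ P, ∀ x ∈ H, ∃ z ∈ Z, x * a * x⁻¹ = z * a := by
    intro a ha x hx
    refine ⟨x * a * x⁻¹ * a⁻¹, ?_, by group⟩
    have h2 := h (Subgroup.commutator_mem_commutator ha hx)
    have e : x * a * x⁻¹ * a⁻¹ = (⁅a, x⁆)⁻¹ := by simp [commutatorElement_def, mul_assoc]
    rw [e]; exact inv_mem h2
  rw [← le_centralizer_iff_commutator, Subgroup.le_centralizer_iff]
  intro x hx
  rw [Subgroup.mem_centralizer_iff]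
  intro w hw
  have : (frattini ↥P).map P.subtype ≤ Subgroup.centralizer ({x} : Set G) := by
    refine frattini_map_le (p := p) ?_ ?_
    · intro a ha b hb
      obtain ⟨z, hz, ea⟩ := key a ha x hx
      obtain ⟨w, hw, eb⟩ := key b hb x hx
      rw [Subgroup.mem_centralizer_singleton_iff, eq_comm, ← mul_inv_eq_iff_eq_mul]
      have cz : ∀ c ∈ P, c * z = z * c := fun c hc => Subgroup.mem_centralizer_iff.1 (hZc hz) c hc
      have cw : ∀ c ∈ P, c * w = w * c := fun c hc => Subgroup.mem_centralizer_iff.1 (hZc hw) c hc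
      calc x * (a * b * a⁻¹ * b⁻¹) * x⁻¹
          = (x * a * x⁻¹) * (x * b * x⁻¹) * (x * a * x⁻¹)⁻¹ * (x * b * x⁻¹)⁻¹ := by group
        _ = z * (a * w) * b * a⁻¹ * (z⁻¹ * b⁻¹) * w⁻¹ := by rw [ea, eb]; group
        _ = z * (w * a) * b * a⁻¹ * (b⁻¹ * z⁻¹) * w⁻¹ := by
            rw [cw a ha, (Commute.inv_inv (show Commute b z from cz b hb)).symm.eq]
        _ = z * w * ((a * b * a⁻¹ * b⁻¹) * (z⁻¹ * w⁻¹)) := by group
        _ = z * w * ((z⁻¹ * w⁻¹) * (a * b * a⁻¹ * b⁻¹)) := by
            have hc : a * b * a⁻¹ * b⁻¹ ∈ P := mul_mem (mul_mem (mul_mem ha hb) (inv_mem ha)) (inv_mem hb)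
            have hzw : z⁻¹ * w⁻¹ ∈ Z := mul_mem (inv_mem hz) (inv_mem hw)
            rw [Subgroup.mem_centralizer_iff.1 (hZc hzw) _ hc]
        _ = a * b * a⁻¹ * b⁻¹ := by
            have hwz : w * z⁻¹ = z⁻¹ * w := (Subgroup.mem_centralizer_iff.1 (hZc (inv_mem hz)) w (hZP hw))
            rw [← mul_assoc (z * w), ← mul_assoc (z * w), mul_assoc z w, hwz]; group
    · intro a ha
      obtain ⟨z, hz, ea⟩ := key a ha x hx
      rw [Subgroup.mem_centralizer_singleton_iff, eq_comm, ← mul_inv_eq_iff_eq_mul]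
      rw [← conj_pow, ea, Commute.mul_pow (Subgroup.mem_centralizer_iff.1 (hZc hz) a ha).symm,
        hZpow z hz, one_mul]
  exact Subgroup.mem_centralizer_singleton_iff.1 (this hw)

end Cfsg.Agent.S2818
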