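import Cfsg.Statements.S2819
import Cfsg.Agent.Lib.LocalEven.Subnormal

set_option autoImplicit false
open Cfsg Cfsg.Agent.Lib.LocalEven
open scoped commutatorElement

namespace Cfsg.Agent.S2819

/-- Let P be a finite p-subgroup of a group G, H a subgroup of N_G(P), and Y a subgroup of H centralizing the derived subgroup P' such that [P, Y] is elementary abelian. Then O^p(⟨Y^H⟩), the subgroup of the normal closure of Y in H generated by its elements of order prime to p, centralizes the Frattini subgroup of P. -/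
theorem result {G : Type*} [Group G] [Finite G] {p : ℕ} [Fact p.Prime] (P : Subgroup G) (hP : IsPGroup p ↥P) (H : Subgroup G) (hH : H ≤ Subgroup.normalizer (P : Set G)) (Y : Subgroup G) (hYH : Y ≤ H) (hYc : Y ≤ Subgroup.centralizer ((⁅P, P⁆ : Subgroup G) : Set G)) (hel : Cfsg.IsElementaryAbelian p ⁅P, Y⁆) (NY : Subgroup G) (hNY : NY = (Subgroup.normalClosure ((Y.subgroupOf H : Subgroup ↥H) : Set ↥H)).map H.subtype) : (Cfsg.pResidual p ↥NY).map NY.subtype ≤ Subgroup.centralizer (((frattini ↥P).map P.subtype : Subgroup G) : Set G) := by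
  set Φ := (frattini ↥P).map P.subtype with hΦ
  set D := ⁅P, P⁆ with hD
  have hΦP : Φ ≤ P := Subgroup.map_subtype_le _
  have hDP : D ≤ P := commutator_le_of_le_normalizer Subgroup.le_normalizer
  have hPn : ∀ h' ∈ H, conjS h' P = P := le_normalizer_iff_forall.1 hH
  have hDn : ∀ h' ∈ H, conjS h' D = D := fun h' hh => by rw [hD, conjS_commutator, hPn h' hh]
  have hΦD : ∀ y ∈ Y, ∀ h' ∈ H, ∀ z ∈ Φ,
      (h' * y * h'⁻¹) * z * (h' * y * h'⁻¹)⁻¹ * z⁻¹ ∈ D := by
    intro y hy h' hh z hz
    set g := h' * y * h'⁻¹ with hg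
    have hgH : g ∈ H := mul_mem (mul_mem hh (hYH hy)) (inv_mem hh)
    have hgD : ∀ d ∈ D, g * d * g⁻¹ = d := by
      intro d hd
      have hd' : h'⁻¹ * d * h' ∈ D := by
        rw [← mem_conjS, hDn h' hh]; exact hd
      have := Subgroup.mem_centralizer_iff.1 (hYc hy) _ hd'
      rw [hg]
      calc h' * y * h'⁻¹ * d * (h' * y * h'⁻¹)⁻¹
          = h' * (y * (h'⁻¹ * d * h')) * y⁻¹ * h'⁻¹ := by group
        _ = h' * ((h'⁻¹ * d * h') * y) * y⁻¹ * h'⁻¹ := by rw [← this]
        _ = d := by group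
    let N : Subgroup G :=
      { carrier := {z | z ∈ P ∧ g * z * g⁻¹ * z⁻¹ ∈ D}
        one_mem' := ⟨one_mem _, by simp⟩
        mul_mem' := by
          rintro u v ⟨hu, hu'⟩ ⟨hv, hv'⟩
          refine ⟨mul_mem hu hv, ?_⟩
          have hn : u * (g * v * g⁻¹ * v⁻¹) * u⁻¹ ∈ D := by
            have : u ∈ Subgroup.normalizer (D : Set G) :=
              le_normalizer_commutator_left P P hu
            exact (Subgroup.mem_normalizer_iff.1 this _).1 hv'
          have e : g * (u * v) * g⁻¹ * (u * v)⁻¹ = (g * u * g⁻¹ * u⁻¹) * (u * (g * v * g⁻¹ * v⁻¹) * u⁻¹) := by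
            group
          rw [e]; exact mul_mem hu' hn
        inv_mem' := by
          rintro u ⟨hu, hu'⟩
          refine ⟨inv_mem hu, ?_⟩
          have : u⁻¹ ∈ Subgroup.normalizer (D : Set G) := le_normalizer_commutator_left P P (inv_mem hu)
          have h2 := (Subgroup.mem_normalizer_iff.1 this _).1 (inv_mem hu')
          have e : g * u⁻¹ * g⁻¹ * u⁻¹⁻¹ = u⁻¹ * (g * u * g⁻¹ * u⁻¹)⁻¹ * u⁻¹⁻¹ := by group
          rw [e]; exact h2 }
    have hN : Φ ≤ N := by
      refine frattini_map_le (p := p) ?_ ?_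
      · intro a ha b hb
        have hab : a * b * a⁻¹ * b⁻¹ ∈ D := Subgroup.commutator_mem_commutator ha hb
        exact ⟨hDP hab, by rw [hgD _ hab, mul_inv_cancel]; exact one_mem _⟩
      · intro a ha
        refine ⟨pow_mem ha p, ?_⟩
        have ha' : h'⁻¹ * a * h' ∈ P := by rw [← mem_conjS, hPn h' hh]; exact ha
        set c := g * a * g⁻¹ * a⁻¹ with hc
        have hcP : c ∈ P := by
          refine mul_mem ?_ (inv_mem ha)
          exact (Subgroup.mem_normalizer_iff.1 (hH hgH) a).1 ha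
        have hcp : c ^ p = 1 := by
          have h1 := hel.2 _ (Subgroup.commutator_mem_commutator ha' hy)
          have e : c = h' * (⁅h'⁻¹ * a * h', y⁆)⁻¹ * h'⁻¹ := by
            rw [hc, hg]; simp [commutatorElement_def, mul_assoc]
          rw [e, conj_pow, inv_pow, h1]; simp
        have hDn' : D.subgroupOf P = commutator ↥P := by
          refine Subgroup.map_injective P.subtype_injective ?_
          rw [Subgroup.map_subgroupOf_eq_of_le hDP, Subgroup.map_subtype_commutator]
        have e : g * a ^ p * g⁻¹ = (c * a) ^ p := by rw [← conj_pow, hc]; group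
        rw [e]
        have hDsn : (D.subgroupOf P).Normal := by rw [hDn']; infer_instance
        have : (⟨(c * a) ^ p * (a ^ p)⁻¹, mul_mem (pow_mem (mul_mem hcP ha) p) (inv_mem (pow_mem ha p))⟩ : P)
            ∈ D.subgroupOf P := by
          rw [hDn', ← QuotientGroup.eq_one_iff]
          let π : ↥P →* Abelianization ↥P := Abelianization.of
          show π ((⟨c, hcP⟩ * ⟨a, ha⟩) ^ p * (⟨a, ha⟩ ^ p)⁻¹) = 1
          rw [map_mul, map_inv, map_pow, map_mul, mul_pow, ← map_pow, ← map_pow, map_pow π ⟨a, ha⟩,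
            mul_inv_cancel_right, show (⟨c, hcP⟩ : P) ^ p = 1 from Subtype.ext hcp, map_one]
        exact this
    exact (hN hz).2
  refine pResOf_le_centralizer fun x hxN hx => ?_
  have hNYH : NY ≤ H := hNY ▸ Subgroup.map_subtype_le _
  have hNYD : NY ≤ Subgroup.centralizer (D : Set G) := by
    rw [hNY, Subgroup.map_le_iff_le_comap]
    have : ((Subgroup.centralizer (D : Set G)).subgroupOf H).Normal :=
      subgroupOf_normal_of_le (le_normalizer_centralizer (le_normalizer_commutator hH hH))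
    exact Subgroup.normalClosure_le_normal (N := (Subgroup.centralizer (D : Set G)).subgroupOf H)
      (fun w hw => hYc hw)
  have hΦn : ∀ g ∈ H, ∀ z ∈ Φ, g * z * g⁻¹ ∈ Φ := by
    intro g hg z hz
    have h1 : H ≤ Subgroup.normalizer (Φ : Set G) := by
      intro g hg
      let e : P ≃* P :=
        { toFun := fun a => ⟨g * a * g⁻¹, (Subgroup.mem_normalizer_iff.1 (hH hg) a).1 a.2⟩
          invFun := fun a => ⟨g⁻¹ * a * g, by
            have := (Subgroup.mem_normalizer_iff.1 (hH (inv_mem hg)) a).1 a.2; simpa using this⟩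
          left_inv := fun a => Subtype.ext (by simp [mul_assoc])
          right_inv := fun a => Subtype.ext (by simp [mul_assoc])
          map_mul' := fun a b => Subtype.ext (by simp [mul_assoc]) }
      have hf := (Subgroup.characteristic_iff_map_eq.1 (frattini_characteristic (G := ↥P))) e
      have he : (MulAut.conj g).toMonoidHom.comp P.subtype = P.subtype.comp e.toMonoidHom := by
        ext a; simp [e]
      rw [← conjS_eq_self_iff, conjS, hΦ, Subgroup.map_map, he, ← Subgroup.map_map]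
      exact congrArg _ hf
    exact (Subgroup.mem_normalizer_iff.1 (h1 hg) z).1 hz
  have hxΦ : ∀ z ∈ Φ, x * z * x⁻¹ * z⁻¹ ∈ D := by
    intro z hz
    have hxN' : x ∈ Subgroup.closure {w : G | ∃ y ∈ Y, ∃ h' ∈ H, w = h' * y * h'⁻¹} := by
      suffices hle : NY ≤ Subgroup.closure {w : G | ∃ y ∈ Y, ∃ h' ∈ H, w = h' * y * h'⁻¹} from hle hxN
      rw [hNY, Subgroup.normalClosure, MonoidHom.map_closure]
      refine Subgroup.closure_mono ?_
      rintro _ ⟨w, hw, rfl⟩
      obtain ⟨y, hy, hyw⟩ := Group.mem_conjugatesOfSet_iff.1 hw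
      obtain ⟨c, hc⟩ := isConj_iff.1 hyw
      exact ⟨(y : G), hy, (c : G), c.2, by rw [← hc]; simp⟩
    suffices x ∈ H ∧ x ∈ Subgroup.centralizer (D : Set G) ∧ ∀ z ∈ Φ, x * z * x⁻¹ * z⁻¹ ∈ D from this.2.2 z hz
    clear hx hxN hz z
    induction hxN' using Subgroup.closure_induction with
    | mem w hw =>
      obtain ⟨y, hy, h', hh, rfl⟩ := hw
      refine ⟨mul_mem (mul_mem hh (hYH hy)) (inv_mem hh), ?_, hΦD y hy h' hh⟩
      have h3 := conjS_mono h' hYc (conj_mem_conjS (g := h') hy)
      rwa [conjS_centralizer, show conjS h' ⁅P, P⁆ = ⁅P, P⁆ from hDn h' hh] at h3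
    | one => exact ⟨one_mem _, one_mem _, fun z _ => by simp⟩
    | mul a b ha hb iha ihb =>
      refine ⟨mul_mem iha.1 ihb.1, mul_mem iha.2.1 ihb.2.1, fun z hz => ?_⟩
      have h1 := ihb.2.2 z hz
      have h2 := iha.2.2 z hz
      have e : (a * b) * z * (a * b)⁻¹ * z⁻¹ = a * (b * z * b⁻¹ * z⁻¹) * a⁻¹ * (a * z * a⁻¹ * z⁻¹) := by
        group
      rw [e, ← Subgroup.mem_centralizer_iff.1 iha.2.1 _ h1]
      refine mul_mem ?_ h2
      simpa [mul_assoc] using h1
    | inv a ha iha =>
      refine ⟨inv_mem iha.1, inv_mem iha.2.1, fun z hz => ?_⟩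
      have hz' : a⁻¹ * z * a ∈ Φ := by
        have := hΦn a⁻¹ (inv_mem iha.1) z hz; simpa using this
      have h2 := inv_mem (iha.2.2 _ hz')
      have e : a⁻¹ * z * a⁻¹⁻¹ * z⁻¹ = (a * (a⁻¹ * z * a) * a⁻¹ * (a⁻¹ * z * a)⁻¹)⁻¹ := by group
      rw [e]; exact h2
  let B : ℕ → Subgroup G := fun i => match i with | 0 => ⊥ | 1 => D ⊓ Φ | _ => Φ
  have := centralizes_chain hx (hP.to_le hΦP) B rfl
    (fun i => by match i with | 0 => exact bot_le | 1 => exact inf_le_right | (i + 2) => exact le_rfl) 2 ?_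
  · exact this
  · intro i hi a ha
    obtain rfl | rfl : i = 0 ∨ i = 1 := by omega
    · show _ ∈ (⊥ : Subgroup G)
      rw [Subgroup.mem_bot, mul_inv_eq_one, mul_inv_eq_iff_eq_mul]
      exact (Subgroup.mem_centralizer_iff.1 (hNYD hxN) a ha.1).symm
    · exact Subgroup.mem_inf.2 ⟨hxΦ a ha, mul_mem (hΦn x (hNYH hxN) a ha) (inv_mem ha)⟩

end Cfsg.Agent.S2819
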