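import Cfsg.Statements.S2820
import Cfsg.Agent.Lib.LocalEven.Subnormal

set_option autoImplicit false
open Cfsg Cfsg.Agent.Lib.LocalEven
open scoped commutatorElement

namespace Cfsg.Agent.S2820

/-- Let A and B be subnormal subgroups of the finite group H with A a p-group and B = O^p(B) (B generated by its elements of order prime to p). Then A normalizes B and B = O^p(AB), the subgroup of ⟨A, B⟩ generated by its elements of order prime to p. -/
theorem result {H : Type*} [Group H] [Finite H] {p : ℕ} [Fact p.Prime] (A B : Subgroup H) (hA : A.IsSubnormal) (hB : B.IsSubnormal) (hAp : IsPGroup p ↥A) (hBres : (Cfsg.pResidual p ↥B).map B.subtype = B) : A ≤ Subgroup.normalizer (B : Set H) ∧ (Cfsg.pResidual p ↥(A ⊔ B)).map (A ⊔ B).subtype = B := by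
  have hAO : A ≤ Cfsg.pCore p H := le_pCore_of_subnormal hA hAp
  have hBres' : pResOf p B = B := hBres
  obtain ⟨h1, h2⟩ := pCore_le_normalizer_of_subnormal (p := p) hB
  rw [hBres'] at h1 h2
  refine ⟨hAO.trans h1, le_antisymm ((pResOf_mono (sup_le_sup hAO le_rfl)).trans h2) ?_⟩
  have := pResOf_mono (p := p) (le_sup_right (a := A) (b := B))
  rwa [hBres'] at this

end Cfsg.Agent.S2820
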