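import Cfsg.Statements.S2823
import Cfsg.Agent.Lib.LocalEven.PReduced2

set_option autoImplicit false
open Cfsg Cfsg.Agent.Lib.LocalEven
open scoped commutatorElement

namespace Cfsg.Agent.S2823

/-- Let H be a finite group, p a prime, T a Sylow p-subgroup and L a subgroup of characteristic p containing T; let Z_L be the subgroup generated by the Ω₁(Z(S)) over the Sylow p-subgroups S of L and O^p(L) the subgroup generated by the elements of L of order prime to p. Then Z_L = Ω₁(Z(L))·[Z_L, O^p(L)] and [Z_L, L] = [Z_L, O^p(L)]. -/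
theorem result {H : Type*} [Group H] [Finite H] {p : ℕ} [Fact p.Prime] (T : Sylow p H) (L : Subgroup H) (hTL : (T : Subgroup H) ≤ L) (hL : Subgroup.centralizer (Cfsg.pCore p ↥L : Set ↥L) ≤ Cfsg.pCore p ↥L) : Cfsg.sylowCenterClosure p L = (Cfsg.omegaOne p (L ⊓ Subgroup.centralizer ((L : Subgroup H) : Set H))) ⊔ ⁅Cfsg.sylowCenterClosure p L, (Cfsg.pResidual p ↥L).map L.subtype⁆ ∧ ⁅Cfsg.sylowCenterClosure p L, L⁆ = ⁅Cfsg.sylowCenterClosure p L, (Cfsg.pResidual p ↥L).map L.subtype⁆ := by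
  have hch := (charPCore_iff L).1 hL
  have hT : IsSylowOf p (T : Subgroup H) L := (isSylowOf_top T).mono hTL le_top
  set Z := Cfsg.sylowCenterClosure p L with hZ
  have hZr : RedIn p Z L := sylowCenterClosure_redIn hch
  change Z = Cfsg.omegaOne p (L ⊓ Subgroup.centralizer (L : Set H)) ⊔ ⁅Z, pResOf p L⁆ ∧
    ⁅Z, L⁆ = ⁅Z, pResOf p L⁆
  set C := Cfsg.omegaOne p (L ⊓ Subgroup.centralizer (L : Set H)) with hC
  set D := ⁅Z, pResOf p L⁆ with hD
  have hDZ : D ≤ Z := commutator_le_of_le_normalizer ((pResOf_le L).trans hZr.normal)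
  have hCZ : C ≤ Z := by
    rw [hC, Cfsg.omegaOne, Subgroup.closure_le]
    rintro c ⟨hc1, hc2⟩
    obtain ⟨hcL, hcC⟩ := Subgroup.mem_inf.1 hc1
    have hcT : c ∈ Subgroup.centralizer ((T : Subgroup H) : Set H) := Subgroup.centralizer_le hTL hcC
    exact omZ_le_sylowCenterClosure hT (mem_omZ_of (hT.mem_of_centralizer hcL hcT hc2) hcT hc2)
  have hnD : L ≤ Subgroup.normalizer (D : Set H) :=
    le_normalizer_commutator hZr.normal (self_le_normalizer_pResOf L)
  have hcC : C ≤ Subgroup.centralizer (L : Set H) := (omegaOne_le _).trans inf_le_right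
  have hnC : L ≤ Subgroup.normalizer (C : Set H) :=
    (Subgroup.le_centralizer_iff.1 hcC).trans (Subgroup.centralizer_le_normalizer _)
  have hT1 : omZ p (T : Subgroup H) ≤ C ⊔ D := by
    intro z hz
    have hz1 : z ∈ Z ⊓ Subgroup.centralizer ((T : Subgroup H) : Set H) :=
      Subgroup.mem_inf.2 ⟨omZ_le_sylowCenterClosure hT hz, omZ_le_centralizer _ hz⟩
    refine SetLike.le_def.1 (sup_le_sup ?_ inf_le_left)
      (inf_centralizer_le_residual hT hZr.normal (elemAb_iff.1 hZr.elem).1 hZr.elem.2 hz1)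
    exact fun c hc => Subgroup.subset_closure
      ⟨Subgroup.mem_inf.2 ⟨hZr.le hc.1, hc.2⟩, hZr.elem.2 c hc.1⟩
  have h1 : Z = C ⊔ D := by
    refine le_antisymm ?_ (sup_le hCZ hDZ)
    rw [hZ, sylowCenterClosure_eq]
    refine iSup_le fun T' => ?_
    obtain ⟨g, hg, hgT⟩ := hT.exists_conj T'.2
    rw [← hgT, ← conjS_omZ]
    exact (conjS_mono g hT1).trans (conjS_eq_self_iff.2 (le_normalizer_sup hnC hnD hg)).le
  refine ⟨h1, le_antisymm ?_ (Subgroup.commutator_mono le_rfl (pResOf_le L))⟩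
  rw [Subgroup.commutator_le]
  intro z hz l hl
  have hz' : z ∈ C ⊔ D := h1 ▸ hz
  have hCD : C ≤ Subgroup.normalizer (D : Set H) := (hCZ.trans hZr.le).trans hnD
  rw [← SetLike.mem_coe, Subgroup.coe_mul_of_left_le_normalizer_right C D hCD] at hz'
  obtain ⟨c, hc, d, hd, rfl⟩ := hz'
  have e : ⁅c, l⁆ = 1 := commutatorElement_eq_one_iff_commute.2
    (Subgroup.mem_centralizer_iff.1 (hcC hc) l hl).symm
  have e2 : ⁅c * d, l⁆ = c * ⁅d, l⁆ * c⁻¹ * ⁅c, l⁆ := by simp [commutatorElement_def, mul_assoc]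
  show ⁅c * d, l⁆ ∈ D
  rw [e2, e, mul_one]
  refine (Subgroup.mem_normalizer_iff.1 (hCD hc) _).1 ?_
  rw [commutatorElement_def, mul_assoc, mul_assoc, ← mul_assoc l]
  exact mul_mem hd ((Subgroup.mem_normalizer_iff.1 (hnD hl) _).1 (inv_mem hd))

end Cfsg.Agent.S2823
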