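import Cfsg.Statements.S2824
import Cfsg.Agent.Lib.LocalEven.PReduced2

set_option autoImplicit false
open Cfsg Cfsg.Agent.Lib.LocalEven
open scoped commutatorElement

namespace Cfsg.Agent.S2824

/-- Let H be a finite group, p a prime, T a Sylow p-subgroup, L and M subgroups of characteristic p containing T, Y_L the largest p-reduced normal subgroup of L and T₀ = C_T(Y_L). If M·C_H(Y_L) = L·C_H(Y_L), then L* := N_M(T₀) has Y_{L*} = Y_L and L·C_H(Y_L) = L*·C_H(Y_L). -/
theorem result {H : Type*} [Group H] [Finite H] {p : ℕ} [Fact p.Prime] (T : Sylow p H) (L M : Subgroup H) (hTL : (T : Subgroup H) ≤ L) (hTM : (T : Subgroup H) ≤ M) (hL : Subgroup.centralizer (Cfsg.pCore p ↥L : Set ↥L) ≤ Cfsg.pCore p ↥L) (hM : Subgroup.centralizer (Cfsg.pCore p ↥M : Set ↥M) ≤ Cfsg.pCore p ↥M) (T₀ : Subgroup H) (hT₀ : T₀ = (T : Subgroup H) ⊓ Subgroup.centralizer (((Cfsg.largestPReducedOf p L) : Subgroup H) : Set H)) (hfac : M ⊔ Subgroup.centralizer (((Cfsg.largestPReducedOf p L) : Subgroup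 H) : Set H) = L ⊔ Subgroup.centralizer (((Cfsg.largestPReducedOf p L) : Subgroup H) : Set H)) (Ls : Subgroup H) (hLs : Ls = M ⊓ Subgroup.normalizer ((T₀ : Subgroup H) : Set H)) : (Cfsg.largestPReducedOf p Ls) = (Cfsg.largestPReducedOf p L) ∧ L ⊔ Subgroup.centralizer (((Cfsg.largestPReducedOf p L) : Subgroup H) : Set H) = Ls ⊔ Subgroup.centralizer (((Cfsg.largestPReducedOf p L) : Subgroup H) : Set H) := by
  have hchL := (charPCore_iff L).1 hL
  set Y := Cfsg.largestPReducedOf p L with hY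
  have hYr : RedIn p Y L := largestPReducedOf_redIn L
  have hTs : IsSylowOf p (T : Subgroup H) L := (isSylowOf_top T).mono hTL le_top
  set C := Subgroup.centralizer (Y : Set H) with hC
  have hMn : M ≤ Subgroup.normalizer (Y : Set H) :=
    (le_sup_left.trans hfac.le).trans (sup_le hYr.normal (Subgroup.centralizer_le_normalizer _))
  have hMs : IsSylowOf p (T : Subgroup H) M := (isSylowOf_top T).mono hTM le_top
  have hs : IsSylowOf p T₀ (M ⊓ C) := by
    have := hMs.inf_normal (inf_le_left : M ⊓ C ≤ M)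
      (le_normalizer_inf Subgroup.le_normalizer (le_normalizer_centralizer hMn))
    rwa [← inf_assoc, inf_eq_left.2 hTM, ← hT₀] at this
  have hT₀M : T₀ ≤ M := hs.le.trans inf_le_left
  have hMsplit : M ≤ Ls ⊔ C := by
    conv_lhs => rw [frattini_argument' inf_le_left
      (le_normalizer_inf Subgroup.le_normalizer (le_normalizer_centralizer hMn)) hs]
    rw [hLs]
    exact sup_le (inf_le_right.trans le_sup_right) le_sup_left
  have hLsM : Ls ≤ M := hLs ▸ inf_le_left
  have h2 : L ⊔ C = Ls ⊔ C := by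
    refine le_antisymm (sup_le ?_ le_sup_right)
      (sup_le ((hLsM.trans le_sup_left).trans hfac.le) le_sup_right)
    exact (le_sup_left.trans hfac.ge).trans (sup_le hMsplit le_sup_right)
  refine ⟨?_, h2⟩
  have hTLs : (T : Subgroup H) ≤ Ls := by
    rw [hLs, hT₀]
    exact le_inf hTM (le_normalizer_inf Subgroup.le_normalizer
      (le_normalizer_centralizer (hTL.trans hYr.normal)))
  have hYT : Y ≤ (T : Subgroup H) := hYr.le_pCoreOf.trans hTs.pCoreOf_le
  have hYLs : RedIn p Y Ls :=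
    hYr.transfer (hYT.trans hTLs) (le_sup_left.trans h2.ge) (le_sup_left.trans h2.le)
  refine le_antisymm ?_ (le_largestPReducedOf hYLs)
  have hYs : RedIn p (Cfsg.largestPReducedOf p Ls) Ls := largestPReducedOf_redIn Ls
  have hT0O : T₀ ≤ Cfsg.pCoreOf p Ls := by
    refine le_pCoreOf ?_ ?_ hs.isPGroup
    · rw [hLs]; exact le_inf hT₀M Subgroup.le_normalizer
    · rw [hLs]; exact inf_le_right
  have hTLs' : IsSylowOf p (T : Subgroup H) Ls := (isSylowOf_top T).mono hTLs le_top
  have hYsT : Cfsg.largestPReducedOf p Ls ≤ (T : Subgroup H) := hYs.le_pCoreOf.trans hTLs'.pCoreOf_le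
  have hcT0 : T₀ ≤ Subgroup.centralizer (Cfsg.largestPReducedOf p Ls : Set H) :=
    hT0O.trans hYs.pCoreOf_le_centralizer
  have hOT0 : Cfsg.pCoreOf p L ≤ T₀ := hT₀ ▸ le_inf hTs.pCoreOf_le hYr.pCoreOf_le_centralizer
  have hYsT0 : Cfsg.largestPReducedOf p Ls ≤ T₀ := by
    refine le_trans ?_ hOT0
    refine le_trans (le_inf (hYsT.trans hTL) ?_) hchL
    exact Subgroup.le_centralizer_iff.1 (hOT0.trans hcT0)
  have h := largestPReducedOf_eq_omZ hchL hTs
  rw [← hY, ← hT₀] at h
  exact (elemAb_le_omZ hYs.elem hYsT0 hcT0).trans h.ge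

end Cfsg.Agent.S2824
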