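import Cfsg.Statements.S2825
import Cfsg.Agent.Lib.LocalEven.PReduced2

set_option autoImplicit false
open Cfsg Cfsg.Agent.Lib.LocalEven
open scoped commutatorElement

namespace Cfsg.Agent.S2825

/-- Let L be a subnormal subgroup of the finite group H, p a prime, Y_H and Y_L the largest p-reduced normal subgroups. Then Y_H ∩ L = Y_H ∩ Y_L and this subgroup is a p-reduced normal subgroup of L; C_L(Y_L) = C_L(Y_H) = C_L(Y_H ∩ L); and if O^p(H) ≤ L, then [Y_L, L] = 1 if and only if [Y_H, H] = 1. -/
theorem result {H : Type*} [Group H] [Finite H] {p : ℕ} [Fact p.Prime] (L : Subgroup H) (hL : L.IsSubnormal) : Cfsg.largestPReduced p H ⊓ L = Cfsg.largestPReduced p H ⊓ (Cfsg.largestPReducedOf p L) ∧ Cfsg.IsPReducedNormal p ((Cfsg.largestPReduced p H ⊓ L).subgroupOf L) ∧ L ⊓ Subgroup.centralizer ((Cfsg.largestPReducedOf p L : Subgroup H) : Set H) = L ⊓ Subgroup.centralizer (Cfsg.largestPReduced p H : Set H) ∧ L ⊓ Subgroup.centralizer (Cfsg.largestPReduced p H : Set H) = L ⊓ Subgroup.centralizer ((Cfsg.largestPReduced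 p H ⊓ L : Subgroup H) : Set H) ∧ (Cfsg.pResidual p H ≤ L → (⁅(Cfsg.largestPReducedOf p L), L⁆ = ⊥ ↔ ⁅Cfsg.largestPReduced p H, (⊤ : Subgroup H)⁆ = ⊥)) := by
  set Y := Cfsg.largestPReduced p H with hY
  set YL := Cfsg.largestPReducedOf p L with hYL'
  have hYr : RedIn p Y ⊤ := largestPReduced_redIn
  have hYL : RedIn p YL L := largestPReducedOf_redIn L
  have h2 : RedIn p (Y ⊓ L) L := redIn_inf_subnormal hYr hL
  have h4 : L ⊓ Subgroup.centralizer ((Y ⊓ L : Subgroup H) : Set H) ≤ Subgroup.centralizer (Y : Set H) :=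
    centralizer_le_of_redIn_subnormal hYr hL inf_le_left
      (le_normalizer_inf Subgroup.le_normalizer (le_normalizer_centralizer h2.normal))
      ((pResOf_le _).trans inf_le_right)
  have h3 : L ⊓ Subgroup.centralizer (YL : Set H) = L ⊓ Subgroup.centralizer (Y : Set H) :=
    le_antisymm
      (le_inf inf_le_left ((inf_le_inf_left L
        (Subgroup.centralizer_le (le_largestPReducedOf h2))).trans h4))
      (le_inf inf_le_left (inf_centralizer_largest_le hL))
  refine ⟨le_antisymm (le_inf inf_le_left (le_largestPReducedOf h2)) (inf_le_inf_left _ hYL.le),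
    (isPReducedNormal_subgroupOf_iff inf_le_right).2 h2, h3,
    le_antisymm (inf_le_inf_left L (Subgroup.centralizer_le inf_le_left)) (le_inf inf_le_left h4),
    fun hres => ?_⟩
  rw [← le_centralizer_iff_commutator, ← le_centralizer_iff_commutator,
    Subgroup.le_centralizer_iff (H := YL), Subgroup.le_centralizer_iff (H := Y)]
  constructor
  · intro h
    refine hYr.red ⊤ le_rfl Subgroup.le_normalizer ?_
    rw [pResOf_top]
    exact hres.trans (le_trans (le_inf le_rfl h) (h3.le.trans inf_le_right))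
  · intro h
    exact le_trans (le_inf le_rfl (le_top.trans h)) (h3.ge.trans inf_le_right)

end Cfsg.Agent.S2825
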