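import Cfsg.Statements.S2826
import Cfsg.Agent.Lib.LocalEven.PReduced2

set_option autoImplicit false
open Cfsg Cfsg.Agent.Lib.LocalEven
open scoped commutatorElement

namespace Cfsg.Agent.S2826

/-- Let H be a finite group of characteristic p, T a Sylow p-subgroup, and V a normal elementary abelian p-subgroup of H containing Ω₁(Z(T)). Then C_H(Ω₁(Z(T))) = C_H([V, O^p(H)] ∩ Ω₁(Z(T))), O^p(H) being generated by the elements of order prime to p. -/
theorem result {H : Type*} [Group H] [Finite H] {p : ℕ} [Fact p.Prime] (hH : Subgroup.centralizer (Cfsg.pCore p H : Set H) ≤ Cfsg.pCore p H) (T : Sylow p H) (V : Subgroup H) [V.Normal] (hV : Cfsg.IsElementaryAbelian p V) (hZV : (Cfsg.omegaOne p ((T : Subgroup H) ⊓ Subgroup.centralizer (((T : Subgroup H) : Subgroup H) : Set H))) ≤ V) : Subgroup.centralizer ((Cfsg.omegaOne p ((T : Subgroup H) ⊓ Subgroup.centralizer (((T : Subgroup H) : Subgroup H) : Set H))) : Set H) = Subgroup.centralizer (((⁅V, Cfsg.pResidual p H⁆ ⊓ (Cfsg.omegaOne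 p ((T : Subgroup H) ⊓ Subgroup.centralizer (((T : Subgroup H) : Subgroup H) : Set H)))) : Subgroup H) : Set H) := by
  change Subgroup.centralizer (omZ p (T : Subgroup H) : Set H) =
    Subgroup.centralizer ((⁅V, Cfsg.pResidual p H⁆ ⊓ omZ p (T : Subgroup H) : Subgroup H) : Set H)
  refine le_antisymm (Subgroup.centralizer_le inf_le_right) ?_
  rw [Subgroup.le_centralizer_iff]
  intro z hz
  have hTs : IsSylowOf p (T : Subgroup H) ⊤ := isSylowOf_top T
  refine SetLike.le_def.1 (sup_le ?_ ?_)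
    (inf_centralizer_le_residual hTs (normal_top_le_normalizer inferInstance) (elemAb_iff.1 hV).1 hV.2
      (Subgroup.mem_inf.2 ⟨hZV hz, omZ_le_centralizer _ hz⟩))
  · exact inf_le_right.trans (Subgroup.centralizer_le (by simp))
  · refine le_trans ?_ (Subgroup.le_centralizer_iff.1 le_rfl)
    intro d hd
    obtain ⟨hd1, hd2⟩ := Subgroup.mem_inf.1 hd
    obtain ⟨hdV, hdT⟩ := Subgroup.mem_inf.1 hd2
    rw [pResOf_top] at hd1
    exact Subgroup.mem_inf.2 ⟨hd1, mem_omZ_of
      (hTs.mem_of_centralizer (Subgroup.mem_top d) hdT (hV.2 d hdV)) hdT (hV.2 d hdV)⟩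

end Cfsg.Agent.S2826
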