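import Cfsg.Statements.S2827
import Cfsg.Agent.Lib.LocalEven.Irreducible

set_option autoImplicit false
open Cfsg Cfsg.Agent Cfsg.Agent.Lib.LocalEven
open scoped commutatorElement

namespace Cfsg.Agent.S2827

/-- Let H be a finite p-irreducible group (not p-closed, and O^p(H) lies in every normal subgroup that is not p-closed) and T a Sylow p-subgroup. Then H is generated by the conjugates of T and H = H'·T; O^p(H) ≤ H'; and for every normal subgroup Y of T not contained in O_p(H), O^p(H) = [O^p(H), Y] and O^p(H) is contained in the normal closure of Y in H. -/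
theorem result {H : Type*} [Group H] [Finite H] {p : ℕ} [Fact p.Prime] (hH : Cfsg.IsPIrreducible p H) (T : Sylow p H) : Subgroup.normalClosure ((T : Subgroup H) : Set H) = ⊤ ∧ commutator H ⊔ (T : Subgroup H) = ⊤ ∧ Cfsg.pResidual p H ≤ commutator H ∧ ∀ Y : Subgroup H, Y ≤ (T : Subgroup H) → (T : Subgroup H) ≤ Subgroup.normalizer (Y : Set H) → ¬ Y ≤ Cfsg.pCore p H → ⁅Cfsg.pResidual p H, Y⁆ = Cfsg.pResidual p H ∧ Cfsg.pResidual p H ≤ Subgroup.normalClosure (Y : Set H) := by
  obtain ⟨hnc, hirr⟩ := hH
  have hnT : ∀ N : Subgroup H, N.Normal → (T : Subgroup H) ≤ N → N = ⊤ := by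
    intro N hN hTN
    have hNc : ¬ Cfsg.IsPClosed p ↥N := by
      intro h
      refine hnc fun P => ?_
      have hT := le_antisymm (le_pCore_of_isPClosed h hTN T.isPGroup') (pCore_le_sylow T)
      obtain ⟨g, -, hg⟩ := (isSylowOf_top T).exists_conj (isSylowOf_top P)
      haveI : (T : Subgroup H).Normal := hT ▸ pCore_normal p H
      rw [← hg, conjS_normal]
      infer_instance
    rw [← top_le_iff, ← pResidual_sup_sylow T]
    exact sup_le (hirr N hN hNc) hTN
  have hcn : (commutator H ⊔ (T : Subgroup H)).Normal := by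
    refine normal_of_conjS_le fun g x hx => ?_
    have h := mem_conjS.1 hx
    rw [show x = ⁅g, g⁻¹ * x * g⁆ * (g⁻¹ * x * g) by simp [commutatorElement_def, mul_assoc]]
    exact mul_mem (Subgroup.mem_sup_left (Subgroup.commutator_mem_commutator (Subgroup.mem_top g)
      (Subgroup.mem_top _))) h
  have h2 : commutator H ⊔ (T : Subgroup H) = ⊤ := hnT _ hcn le_sup_right
  refine ⟨hnT _ inferInstance Subgroup.le_normalClosure, h2, pResidual_le_of_sup_eq_top T.isPGroup' h2,
    fun Y hYT hTY hYO => ?_⟩
  have hD : Cfsg.pResidual p H ≤ Subgroup.normalClosure (Y : Set H) := by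
    refine hirr _ inferInstance fun h => hYO ?_
    exact le_pCore_of_isPClosed h Subgroup.le_normalClosure (T.isPGroup'.to_le hYT)
  refine ⟨?_, hD⟩
  haveI := pResidual_normal p H
  set R := Cfsg.pResidual p H with hR
  refine le_antisymm (Subgroup.commutator_le_left R Y) ?_
  set X := ⁅R, Y⁆ with hX
  have hXn : X.Normal := by
    refine normal_of_le_normalizer ?_
    rw [← pResidual_sup_sylow T]
    exact sup_le (le_normalizer_commutator_left R Y)
      (le_normalizer_commutator (le_normalizer_of_normal _ R) hTY)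
  have hXY : (X ⊔ Y).Normal := by
    refine normal_of_le_normalizer ?_
    rw [← pResidual_sup_sylow T]
    refine sup_le ?_ (le_normalizer_sup (le_normalizer_of_normal _ X) hTY)
    rw [le_normalizer_iff_forall]
    have key : ∀ r ∈ R, conjS r (X ⊔ Y) ≤ X ⊔ Y := by
      intro r hr
      rw [conjS_sup, conjS_normal]
      refine sup_le le_sup_left fun x hx => ?_
      have h := mem_conjS.1 hx
      rw [show x = ⁅r, r⁻¹ * x * r⁆ * (r⁻¹ * x * r) by simp [commutatorElement_def, mul_assoc]]
      exact mul_mem (Subgroup.mem_sup_left (Subgroup.commutator_mem_commutator hr h))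
        (Subgroup.mem_sup_right h)
    intro r hr
    refine le_antisymm (key r hr) ?_
    have := conjS_mono r (key r⁻¹ (inv_mem hr))
    rwa [conjS_cancel_inv] at this
  have h3 : R ≤ X ⊔ Y := hD.trans (Subgroup.normalClosure_le_normal (N := X ⊔ Y) (SetLike.coe_subset_coe.2 le_sup_right))
  conv_lhs => rw [hR, ← pResOf_top, ← pResOf_pResOf, pResOf_top]
  exact pResOf_le_of_le_sup (T.isPGroup'.to_le hYT) (by rw [← sup_comm]; exact h3)

end Cfsg.Agent.S2827
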