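import Cfsg.Statements.S2828
import Cfsg.Agent.Lib.LocalEven.Irreducible

set_option autoImplicit false
open Cfsg Cfsg.Agent Cfsg.Agent.Lib.LocalEven
open scoped commutatorElement

namespace Cfsg.Agent.S2828

/-- Let H be a finite group, p a prime and D a normal p-subgroup of H. Then H is p-irreducible if and only if H/D is p-irreducible, and H is strongly p-irreducible if and only if H/D is strongly p-irreducible. -/
theorem result {H : Type*} [Group H] [Finite H] {p : ℕ} [Fact p.Prime] (D : Subgroup H) [D.Normal] (hD : IsPGroup p ↥D) : (Cfsg.IsPIrreducible p H ↔ Cfsg.IsPIrreducible p (H ⧸ D)) ∧ (Cfsg.IsStronglyPIrreducible p H ↔ Cfsg.IsStronglyPIrreducible p (H ⧸ D)) := by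
  set f := QuotientGroup.mk' D with hf
  have hs := QuotientGroup.mk'_surjective D
  have hk : IsPGroup p f.ker := by rwa [hf, QuotientGroup.ker_mk']
  have hres : (Cfsg.pResidual p H).map f = Cfsg.pResidual p (H ⧸ D) := map_pResidual_of_surjective f hs
  have hc : Cfsg.IsPClosed p H ↔ Cfsg.IsPClosed p (H ⧸ D) := by
    rw [← isPClosed_iff_top, ← isPClosed_iff_top (G := H ⧸ D), ← Subgroup.map_top_of_surjective f hs,
      isPClosed_map_iff hk]
  have hback : ∀ N : Subgroup H, N.Normal → Cfsg.pResidual p (H ⧸ D) ≤ N.map f → Cfsg.pResidual p H ≤ N := by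
    intro N hN h
    rw [← hres, Subgroup.map_le_map_iff, QuotientGroup.ker_mk'] at h
    rw [← pResOf_top, ← pResOf_pResOf, pResOf_top]
    exact pResOf_le_of_le_sup hD (by rw [sup_comm]; exact h)
  have hcomm : ∀ N : Subgroup H, (⁅N, (⊤ : Subgroup H)⁆ ≤ Cfsg.pCore p H ↔
      ⁅N.map f, (⊤ : Subgroup (H ⧸ D))⁆ ≤ Cfsg.pCore p (H ⧸ D)) := fun N => by
    rw [← Subgroup.map_top_of_surjective f hs, ← Subgroup.map_commutator, Subgroup.map_le_iff_le_comap,
      Lib.Cores.comap_pCore_quotient hD]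
  refine ⟨⟨fun h => ⟨fun e => h.1 (hc.2 e), fun N' hN' hN'c => ?_⟩,
      fun h => ⟨fun e => h.1 (hc.1 e), fun N hN hNc => ?_⟩⟩,
    ⟨fun h => ⟨fun e => h.1 (hc.2 e), fun N' hN' hN'c => ?_⟩,
      fun h => ⟨fun e => h.1 (hc.1 e), fun N hN hNc => ?_⟩⟩⟩
  · have e := Subgroup.map_comap_eq_self_of_surjective hs N'
    rw [← hres, ← e]
    refine Subgroup.map_mono (h.2 _ (hN'.comap f) fun hcl => hN'c ?_)
    rw [← e]; exact (isPClosed_map_iff hk).2 hcl
  · exact hback N hN (h.2 _ (hN.map f hs) fun hcl => hNc ((isPClosed_map_iff hk).1 hcl))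
  · have e := Subgroup.map_comap_eq_self_of_surjective hs N'
    rw [← hres, ← e]
    refine Subgroup.map_mono (h.2 _ (hN'.comap f) fun hcl => hN'c ?_)
    rw [← e]; exact (hcomm _).1 hcl
  · exact hback N hN (h.2 _ (hN.map f hs) fun hcl => hNc ((hcomm N).2 hcl))

end Cfsg.Agent.S2828
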