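import Cfsg.Statements.S2829
import Cfsg.Agent.Lib.LocalEven.Subnormal

set_option autoImplicit false
open Cfsg Cfsg.Agent.Lib.LocalEven
open scoped commutatorElement

namespace Cfsg.Agent.S2829

/-- Every strongly p-irreducible finite group is p-irreducible. -/
theorem result {H : Type*} [Group H] [Finite H] {p : ℕ} [Fact p.Prime] (hH : Cfsg.IsStronglyPIrreducible p H) : Cfsg.IsPIrreducible p H := by
  refine ⟨hH.1, fun N hN hNc => hH.2 N hN fun hle => hNc fun P => ?_⟩
  have h1 : (Cfsg.pCore p H).subgroupOf N ≤ (P : Subgroup ↥N) :=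
    haveI : ((Cfsg.pCore p H).subgroupOf N).Normal :=
      subgroupOf_normal_of_le (haveI := pCore_normal p H; le_normalizer_of_normal N _)
    ((pCore_isPGroup p H).comap_subtype).le_sylow_of_normal P
  refine Subgroup.Normal.of_commutator_le _ (le_trans ?_ h1)
  rw [commutator_def, Subgroup.commutator_le]
  intro a _ b _
  exact hle (Subgroup.commutator_mem_commutator a.2 (Subgroup.mem_top (b : H)))

end Cfsg.Agent.S2829
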