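import Cfsg.Statements.S2830
import Cfsg.Agent.Lib.LocalEven.Irreducible

set_option autoImplicit false
open Cfsg Cfsg.Agent Cfsg.Agent.Lib.LocalEven
open scoped commutatorElement

namespace Cfsg.Agent.S2830

/-- Let H act by conjugation on the elementary abelian p-subgroup V of a finite group G (H ≤ N(V)), with H p-irreducible and O^p(H) not centralizing V. Then C_H(V) is p-closed and C_T(V) ≤ O_p(H) for every p-subgroup T of H. If in addition O_p(H) centralizes V, then C_T(V) = T ∩ O_p(H) for every p-subgroup T of H, and V is p-reduced for H: O_p(H/C_H(V)) = 1. -/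
theorem result {G : Type*} [Group G] [Finite G] {p : ℕ} [Fact p.Prime] (V H : Subgroup G) (hV : Cfsg.IsElementaryAbelian p V) (hHV : H ≤ Subgroup.normalizer (V : Set G)) (hH : Cfsg.IsPIrreducible p ↥H) (hnc : ¬ (Cfsg.pResidual p ↥H).map H.subtype ≤ Subgroup.centralizer (V : Set G)) [hn : ((Subgroup.centralizer (V : Set G)).subgroupOf H).Normal] : Cfsg.IsPClosed p ↥(H ⊓ Subgroup.centralizer (V : Set G)) ∧ (∀ T : Subgroup G, T ≤ H → IsPGroup p ↥T → T ⊓ Subgroup.centralizer (V : Set G) ≤ Cfsg.pCoreOf p H) ∧ (Cfsg.pCoreOf p H ≤ Subgroup.centralizer (V : Set G) → (∀ T : Subgroup G, T ≤ H → IsPGroup p ↥T → T ⊓ Subgroup.centralizer (V : Set G) = T ⊓ Cfsg.pCoreOf p H) ∧ Cfsg.pCore p (↥H ⧸ (Subgroup.centralizer (V : Set G)).subgroupOf H) = ⊥) := by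
  set N0 := (Subgroup.centralizer (V : Set G)).subgroupOf H with hN0
  have hcl : Cfsg.IsPClosed p ↥N0 := by
    by_contra h
    refine hnc ?_
    rw [Subgroup.map_le_iff_le_comap]
    exact hH.2 N0 hn h
  have hmap : N0.map H.subtype = H ⊓ Subgroup.centralizer (V : Set G) := by
    rw [hN0, Subgroup.subgroupOf_map_subtype, inf_comm]
  have hker : IsPGroup p H.subtype.ker := by rw [Subgroup.ker_subtype]; exact IsPGroup.of_bot
  have h2 : ∀ T : Subgroup G, T ≤ H → IsPGroup p ↥T →
      T ⊓ Subgroup.centralizer (V : Set G) ≤ Cfsg.pCoreOf p H := by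
    intro T hTH hT
    rw [← Subgroup.map_subgroupOf_eq_of_le (inf_le_left.trans hTH : T ⊓ _ ≤ H)]
    exact Subgroup.map_mono (le_pCore_of_isPClosed hcl (fun x hx => (Subgroup.mem_inf.1 hx).2)
      hT.to_inf_left.comap_subtype)
  refine ⟨?_, h2, fun hO => ⟨fun T hTH hT =>
    le_antisymm (le_inf inf_le_left (h2 T hTH hT)) (inf_le_inf_left T hO), ?_⟩⟩
  · rw [← hmap]
    exact (isPClosed_map_iff hker).2 hcl
  · set f := QuotientGroup.mk' N0 with hf
    set D := (Cfsg.pCore p (↥H ⧸ N0)).comap f with hD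
    haveI hDn : D.Normal := (pCore_normal _ _).comap f
    have hcop : ∀ x ∈ D, Nat.Coprime (orderOf x) p → x ∈ N0 := by
      intro x hx hc
      rw [← QuotientGroup.ker_mk' N0, MonoidHom.mem_ker]
      obtain ⟨k, hk⟩ := pCore_isPGroup p (↥H ⧸ N0) ⟨f x, hx⟩
      exact eq_one_of_coprime_of_pow (Nat.Coprime.coprime_dvd_left (orderOf_map_dvd f x) hc)
        (congrArg Subtype.val hk)
    have hDc : Cfsg.IsPClosed p ↥D := by
      by_contra h
      refine hnc ?_
      rw [Subgroup.map_le_iff_le_comap]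
      refine (Subgroup.closure_le N0).2 fun x hx => hcop x (hH.2 D hDn h (Subgroup.subset_closure hx)) hx
    have hDN : D ≤ N0 := by
      obtain ⟨T, hT⟩ := exists_isSylowOf p D
      refine le_of_pResOf_le_of_sylow hT (pResOf_le_iff.2 hcop) ?_
      refine (le_pCore_of_isPClosed hDc hT.le hT.isPGroup).trans ?_
      rw [← subgroupOf_pCoreOf]
      exact Subgroup.comap_mono hO
    rw [← le_bot_iff, ← Subgroup.map_comap_eq_self_of_surjective (QuotientGroup.mk'_surjective N0)
      (Cfsg.pCore p (↥H ⧸ N0)), ← hD, le_bot_iff, Subgroup.map_eq_bot_iff, QuotientGroup.ker_mk']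
    exact hDN

end Cfsg.Agent.S2830
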