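import Cfsg.Statements.S2831
import Cfsg.Agent.Lib.LocalEven.Irreducible

set_option autoImplicit false
open Cfsg Cfsg.Agent Cfsg.Agent.Lib.LocalEven
open scoped commutatorElement

namespace Cfsg.Agent.S2831

/-- Let H be a finite group with Sylow p-subgroup T such that H is T-minimal (H is generated by the conjugates of T and T lies in exactly one maximal subgroup of H). Then H is p-irreducible: H is not p-closed and O^p(H) lies in every normal subgroup of H that is not p-closed. -/
theorem result {H : Type*} [Group H] [Finite H] {p : ℕ} [Fact p.Prime] (T : Sylow p H) (hmin : Cfsg.IsMinimalOver (T : Subgroup H)) : Cfsg.IsPIrreducible p H := by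
  obtain ⟨hgen, M, ⟨hM, hTM⟩, hu⟩ := hmin
  have hu' : ∀ X : Subgroup H, IsCoatom X → (T : Subgroup H) ≤ X → X = M := fun X h1 h2 => hu X ⟨h1, h2⟩
  have hnc : ¬ Cfsg.IsPClosed p H := fun h => by
    haveI := h T
    rw [Subgroup.normalClosure_eq_self] at hgen
    exact hM.1 (top_le_iff.1 (hgen.ge.trans hTM))
  refine ⟨hnc, fun N hN hNc => ?_⟩
  rcases normal_sup_eq_top_or_le hu' (N := N) with h | h
  · exact pResidual_le_of_sup_eq_top T.isPGroup' h
  · exact absurd (isPClosed_of_le_max (isSylowOf_top T) le_rfl hu' hM h).1 hNc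

end Cfsg.Agent.S2831
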