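import Cfsg.Statements.S2832
import Cfsg.Agent.Lib.LocalEven.Irreducible

set_option autoImplicit false
open Cfsg Cfsg.Agent Cfsg.Agent.Lib.LocalEven
open scoped commutatorElement

namespace Cfsg.Agent.S2832

/-- Let H be a finite group with Sylow p-subgroup T such that H is T-minimal (generated by the conjugates of T, with T in exactly one maximal subgroup), and let N be a normal subgroup of H. Then either H/N is a p-group or H/N is minimal over the image of T in the same sense. -/
theorem result {H : Type*} [Group H] [Finite H] {p : ℕ} [Fact p.Prime] (T : Sylow p H) (hmin : Cfsg.IsMinimalOver (T : Subgroup H)) (N : Subgroup H) [N.Normal] : IsPGroup p (H ⧸ N) ∨ Cfsg.IsMinimalOver ((T : Subgroup H).map (QuotientGroup.mk' N)) := by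
  obtain ⟨hgen, M, ⟨hM, hTM⟩, hu⟩ := hmin
  set f := QuotientGroup.mk' N with hf
  have hs := QuotientGroup.mk'_surjective N
  rcases normal_sup_eq_top_or_le (T := (T : Subgroup H)) (M := M) (N := N) (fun X h1 h2 => hu X ⟨h1, h2⟩) with h | h
  · refine Or.inl ?_
    have h1 : (T : Subgroup H).map f = ⊤ := by
      rw [← Subgroup.map_top_of_surjective f hs, ← h, Subgroup.map_sup, hf, QuotientGroup.map_mk'_self, bot_sup_eq]
    have := T.isPGroup'.map f
    rw [h1] at this
    exact this.of_equiv Subgroup.topEquiv
  · refine Or.inr ⟨?_, M.map f, ⟨?_, Subgroup.map_mono hTM⟩, ?_⟩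
    · rw [Subgroup.coe_map, ← Subgroup.map_normalClosure _ f hs, hgen, Subgroup.map_top_of_surjective f hs]
    · have hc : (M.map f).comap f = M := by
        rw [Subgroup.comap_map_eq, QuotientGroup.ker_mk', sup_eq_left.2 h]
      refine ⟨fun e => hM.1 (by rw [← hc, e, Subgroup.comap_top]), fun X hX => ?_⟩
      have h2 := hM.2 (X.comap f) (hc ▸ (Subgroup.comap_lt_comap_of_surjective hs).2 hX)
      rw [← Subgroup.map_comap_eq_self_of_surjective hs X, h2, Subgroup.map_top_of_surjective f hs]
    · rintro X ⟨hX, hTX⟩
      have hc : IsCoatom (X.comap f) := by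
        refine ⟨fun e => hX.1 ?_, fun Y hY => ?_⟩
        · rw [← Subgroup.map_comap_eq_self_of_surjective hs X, e, Subgroup.map_top_of_surjective f hs]
        · have hNY : f.ker ≤ Y := le_trans (fun x hx => by
            rw [Subgroup.mem_comap, MonoidHom.mem_ker.1 hx]; exact one_mem X) hY.le
          have e := Subgroup.comap_map_eq_self hNY
          have h2 := hX.2 (Y.map f) ((Subgroup.comap_lt_comap_of_surjective hs).1 (by rwa [e]))
          rw [← e, h2, Subgroup.comap_top]
      rw [← Subgroup.map_comap_eq_self_of_surjective hs X,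
        hu (X.comap f) ⟨hc, Subgroup.map_le_iff_le_comap.1 hTX⟩]

end Cfsg.Agent.S2832
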