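import Cfsg.Statements.S2833
import Cfsg.Agent.Lib.LocalEven.Basic
import Cfsg.Agent.Lib.LocalEven.Series

set_option autoImplicit false
open Cfsg Cfsg.Agent Cfsg.Agent.Lib.LocalEven
open scoped commutatorElement

namespace Cfsg.Agent.S2833

/-- Let V be a subgroup of a finite group G normalized by the subgroup L, let X ≤ L and g ∈ L with [V, X, X] = 1 and L generated by X and gXg⁻¹. Put W = [V, L]. Then W = [V, X]·[V, gXg⁻¹], C_W(X) = [V, X], and C_W(L) = [V, X] ∩ [V, gXg⁻¹]. -/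
theorem result {G : Type*} [Group G] [Finite G] (V L : Subgroup G) (hLV : L ≤ Subgroup.normalizer (V : Set G)) (X : Subgroup G) (hX : X ≤ L) (g : G) (hg : g ∈ L) (hq : ⁅⁅V, X⁆, X⁆ = ⊥) (hgen : X ⊔ X.map (MulAut.conj g).toMonoidHom = L) (W : Subgroup G) (hW : W = ⁅V, L⁆) : ⁅V, X⁆ ⊔ ⁅V, X.map (MulAut.conj g).toMonoidHom⁆ = W ∧ W ⊓ Subgroup.centralizer (X : Set G) = ⁅V, X⁆ ∧ W ⊓ Subgroup.centralizer (L : Set G) = ⁅V, X⁆ ⊓ ⁅V, X.map (MulAut.conj g).toMonoidHom⁆ := by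
  simp only [map_conj_eq] at hgen ⊢
  set Y := conjS g X with hY
  have hYL : Y ≤ L := hgen ▸ le_sup_right
  have hVVX := commutator_le_of_le_normalizer (hX.trans hLV)
  have hVVY := commutator_le_of_le_normalizer (hYL.trans hLV)
  have hg' : conjS g V = V := conjS_eq_self_iff.2 (hLV hg)
  have hconj : ⁅V, Y⁆ = conjS g ⁅V, X⁆ := by rw [conjS_commutator, hg']
  have hqY : ⁅⁅V, Y⁆, Y⁆ = ⊥ := by
    rw [hconj, hY, ← conjS_commutator, hq]; exact Subgroup.map_bot _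
  have hXc : ⁅V, X⁆ ≤ Subgroup.centralizer (X : Set G) := le_centralizer_iff_commutator.2 hq
  have hYc : ⁅V, Y⁆ ≤ Subgroup.centralizer (Y : Set G) := le_centralizer_iff_commutator.2 hqY
  have hnorm : ∀ A B : Subgroup G, ∀ Z : Subgroup G, A ≤ V → B ≤ V → Z ≤ Subgroup.normalizer (A : Set G) →
      ⁅V, Z⁆ ≤ A → Z ≤ Subgroup.normalizer ((A ⊔ B : Subgroup G) : Set G) := by
    intro A B Z hA hB hZ h1
    rw [le_normalizer_iff_forall]
    have h2 : ∀ z ∈ Z, conjS z (A ⊔ B) ≤ A ⊔ B := by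
      intro z hz
      rw [conjS_sup, conjS_eq_self_iff.2 (hZ hz)]
      refine sup_le le_sup_left fun w hw => ?_
      rw [mem_conjS] at hw
      have h3 : ⁅z, z⁻¹ * w * z⁆ ∈ A :=
        h1 (Subgroup.commutator_comm V Z ▸ Subgroup.commutator_mem_commutator hz (hB hw))
      have : w = ⁅z, z⁻¹ * w * z⁆ * (z⁻¹ * w * z) := by simp [commutatorElement_def, mul_assoc]
      rw [this]
      exact mul_mem (Subgroup.mem_sup_left h3) (Subgroup.mem_sup_right hw)
    intro z hz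
    refine le_antisymm (h2 z hz) ?_
    have := conjS_mono z (h2 z⁻¹ (inv_mem hz))
    rwa [conjS_cancel_inv] at this
  have hVX := le_normalizer_commutator_left V X
  have hVY := le_normalizer_commutator_left V Y
  have hXJ := hnorm _ ⁅V, Y⁆ X hVVX hVVY (le_normalizer_commutator_right V X) le_rfl
  have hYJ : Y ≤ Subgroup.normalizer ((⁅V, X⁆ ⊔ ⁅V, Y⁆ : Subgroup G) : Set G) := by
    rw [sup_comm]; exact hnorm _ ⁅V, X⁆ Y hVVY hVVX (le_normalizer_commutator_right V Y) le_rfl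
  have hW' : ⁅V, X⁆ ⊔ ⁅V, Y⁆ = W := by
    rw [hW]
    refine le_antisymm (sup_le (Subgroup.commutator_mono le_rfl hX) (Subgroup.commutator_mono le_rfl hYL)) ?_
    rw [← hgen, Subgroup.commutator_comm]
    refine commutator_sup_le hXJ hYJ ?_ ?_ <;> rw [Subgroup.commutator_comm]
    · exact le_sup_left
    · exact le_sup_right
  have hg2 : ∀ w ∈ ⁅V, Y⁆, w ∈ Subgroup.centralizer (X : Set G) → w ∈ ⁅V, X⁆ := by
    intro w hw hwX
    have hwL : L ≤ Subgroup.centralizer ({w} : Set G) := by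
      rw [← hgen]
      refine sup_le (fun x hx => ?_) (fun y hy => ?_) <;> rw [Subgroup.mem_centralizer_singleton_iff]
      · exact Subgroup.mem_centralizer_iff.1 hwX x hx
      · exact Subgroup.mem_centralizer_iff.1 (hYc hw) y hy
    rw [hconj, mem_conjS] at hw
    have h := Subgroup.mem_centralizer_singleton_iff.1 (hwL hg)
    rwa [mul_assoc, ← h, inv_mul_cancel_left] at hw
  have hWX : W ⊓ Subgroup.centralizer (X : Set G) = ⁅V, X⁆ := by
    refine le_antisymm (fun w hw => ?_) (le_inf (hW' ▸ le_sup_left) hXc)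
    obtain ⟨hwW, hwX⟩ := Subgroup.mem_inf.1 hw
    have h : w ∈ ((⁅V, X⁆ ⊔ ⁅V, Y⁆ : Subgroup G) : Set G) := by rw [hW']; exact hwW
    rw [Subgroup.coe_mul_of_right_le_normalizer_left _ _ (hVVY.trans hVX)] at h
    obtain ⟨a, ha, b, hb, rfl⟩ := h
    exact mul_mem ha (hg2 b hb (by simpa using mul_mem (inv_mem (hXc ha)) hwX))
  refine ⟨hW', hWX, le_antisymm (fun w hw => ?_) (le_inf (inf_le_left.trans (hW' ▸ le_sup_left)) ?_)⟩
  · obtain ⟨hwW, hwL⟩ := Subgroup.mem_inf.1 hw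
    have h1 : w ∈ ⁅V, X⁆ := hWX ▸ Subgroup.mem_inf.2 ⟨hwW, Subgroup.centralizer_le hX hwL⟩
    refine Subgroup.mem_inf.2 ⟨h1, ?_⟩
    rw [hconj, mem_conjS, mul_assoc, ← Subgroup.mem_centralizer_iff.1 hwL g hg, inv_mul_cancel_left]
    exact h1
  · rw [Subgroup.le_centralizer_iff, ← hgen]
    exact sup_le (Subgroup.le_centralizer_iff.1 (inf_le_left.trans hXc)) (Subgroup.le_centralizer_iff.1 (inf_le_right.trans hYc))

end Cfsg.Agent.S2833
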