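import Cfsg.Statements.S2834
import Cfsg.Agent.Lib.LocalEven.StronglyEmbedded
import Cfsg.Agent.Lib.LocalEven.WeaklyClosed
import Cfsg.Agent.Lib.LocalEven.Series

set_option autoImplicit false
open Cfsg Cfsg.Agent Cfsg.Agent.Lib Cfsg.Agent.Lib.LocalEven
open scoped commutatorElement

namespace Cfsg.Agent.S2834

/-- The L-Lemma: let H be a finite group with Sylow p-subgroup T such that H is T-minimal (generated by the conjugates of T, T in exactly one maximal subgroup M), and let A ≤ T with A not contained in O_p(H). Then there is a subgroup L of H containing A·O_p(H) such that (a) A·O_p(L) lies in exactly one maximal subgroup L₀ of L, and L₀ = L ∩ gMg⁻¹ for some g ∈ H; (b) L = ⟨A, xAx⁻¹⟩·O_p(L) for every x ∈ L outside L₀. -/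
theorem result {H : Type*} [Group H] [Finite H] {p : ℕ} [Fact p.Prime] (T : Sylow p H) (hmin : Cfsg.IsMinimalOver (T : Subgroup H)) (M : Subgroup H) (hM : IsCoatom M ∧ (T : Subgroup H) ≤ M) (A : Subgroup H) (hAT : A ≤ (T : Subgroup H)) (hA : ¬ A ≤ Cfsg.pCore p H) : ∃ L : Subgroup H, A ⊔ Cfsg.pCore p H ≤ L ∧ ∃ L₀ : Subgroup H, A ⊔ (Cfsg.pCoreOf p L) ≤ L₀ ∧ L₀ < L ∧ (∀ X : Subgroup H, A ⊔ (Cfsg.pCoreOf p L) ≤ X → X < L → X ≤ L₀) ∧ (∃ g : H, L₀ = L ⊓ ((M : Subgroup H).map (MulAut.conj (g : H)).toMonoidHom)) ∧ ∀ x ∈ L, x ∉ L₀ → (A ⊔ ((A : Subgroup H).map (MulAut.conj (x : H)).toMonoidHom)) ⊔ (Cfsg.pCoreOf p L) = L := by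
  classical
  obtain ⟨hnc, huniq⟩ := hmin
  obtain ⟨hMco, hTM⟩ := hM
  set Q := Cfsg.pCore p H with hQ
  haveI : Q.Normal := pCore_normal p H
  -- each Sylow subgroup lies in exactly one maximal subgroup
  have hone : ∀ X : Subgroup H, IsCoatom X → (T : Subgroup H) ≤ X → X = M :=
    fun X h1 h2 => huniq.unique ⟨h1, h2⟩ ⟨hMco, hTM⟩
  have hconjco : ∀ (h : H) (X : Subgroup H), IsCoatom X → IsCoatom (conjS h X) := by
    intro h X hX
    refine ⟨fun e => hX.1 ?_, fun Y hY => ?_⟩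
    · rw [← conjS_inv_cancel h X, e, conjS]; exact Subgroup.map_top_of_surjective _ (MulEquiv.surjective _)
    · have h2 : X < conjS h⁻¹ Y := by
        refine lt_of_le_of_ne ?_ fun e => hY.ne ?_
        · have := conjS_mono h⁻¹ hY.le
          rwa [conjS_inv_cancel] at this
        · rw [e, conjS_cancel_inv]
      rw [← conjS_cancel_inv h Y, hX.2 _ h2, conjS]
      exact Subgroup.map_top_of_surjective _ (MulEquiv.surjective _)
  have hsyl : ∀ P : Sylow p H, ∃ h : H, (P : Subgroup H) = conjS h (T : Subgroup H) := by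
    intro P
    obtain ⟨h, hh⟩ := MulAction.exists_smul_eq H T P
    exact ⟨h, by rw [← hh, Sylow.coe_subgroup_smul]; rfl⟩
  have hpt : ∀ P : Sylow p H, ∃ N : Subgroup H, ((∃ h, N = conjS h M) ∧ (P : Subgroup H) ≤ N) ∧
      ∀ X : Subgroup H, IsCoatom X → (P : Subgroup H) ≤ X → X = N := by
    intro P
    obtain ⟨h, hh⟩ := hsyl P
    refine ⟨conjS h M, ⟨⟨h, rfl⟩, hh ▸ conjS_mono h hTM⟩, fun X hX hPX => ?_⟩
    have := hone (conjS h⁻¹ X) (hconjco _ _ hX) (by
      have := conjS_mono h⁻¹ (hh ▸ hPX)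
      rwa [conjS_inv_cancel] at this)
    rw [← this, conjS_cancel_inv]
  choose pt hpt1 hpt2 using hpt
  have hptco : ∀ P : Sylow p H, IsCoatom (pt P) := fun P => by
    obtain ⟨⟨h, e⟩, -⟩ := hpt1 P
    rw [e]; exact hconjco h M hMco
  have hpt_conj : ∀ (P P' : Sylow p H) (h : H), (P' : Subgroup H) = conjS h (P : Subgroup H) →
      pt P' = conjS h (pt P) := fun P P' h e =>
    (hpt2 P' _ (hconjco h _ (hptco P)) (e ▸ conjS_mono h (hpt1 P).2)).symm
  have hself : ∀ P : Sylow p H, ∀ x : H, conjS x (pt P) = pt P → x ∈ pt P := by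
    intro P x hx
    by_contra hxn
    have h1 : Subgroup.normalizer (pt P : Set H) = ⊤ := by
      refine (hptco P).2 _ (lt_of_le_of_ne Subgroup.le_normalizer fun e => hxn ?_)
      rw [e]; exact conjS_eq_self_iff.1 hx
    have hn : (pt P).Normal := Subgroup.normalizer_eq_top_iff.1 h1
    obtain ⟨⟨h, e⟩, -⟩ := hpt1 P
    have hMP : M = pt P := by rw [← conjS_inv_cancel h M, ← e]; exact conjS_normal _ _
    haveI : M.Normal := hMP ▸ hn
    exact hMco.1 (top_le_iff.1 (hnc ▸ Subgroup.normalClosure_le_normal (N := M) fun t ht => hTM ht))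
  -- `pt` is realised on each Sylow subgroup of `pt P`
  have hin : ∀ (P : Sylow p H) (R : Subgroup H), IsPGroup p R → R ≤ pt P →
      ∃ P' : Sylow p H, R ≤ (P' : Subgroup H) ∧ pt P' = pt P := by
    intro P R hR hRP
    have hPs : IsSylowOf p (P : Subgroup H) (pt P) := (isSylowOf_top P).mono (hpt1 P).2 le_top
    obtain ⟨c, hc, hle⟩ := hPs.exists_conj_le hRP hR
    refine ⟨c⁻¹ • P, ?_, ?_⟩
    · rw [Sylow.coe_subgroup_smul]
      show R ≤ conjS c⁻¹ (P : Subgroup H)
      have := conjS_mono c⁻¹ hle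
      rwa [conjS_inv_cancel] at this
    · rw [hpt_conj P (c⁻¹ • P) c⁻¹ (by rw [Sylow.coe_subgroup_smul]; rfl)]
      exact conjS_mem_eq_self (inv_mem hc)
  have hQP : ∀ P : Sylow p H, Q ≤ (P : Subgroup H) := pCore_le_sylow
  -- conjugates of `A` in a Sylow subgroup
  let Cl : Subgroup H → Set (Subgroup H) := fun P => {C | (∃ h, C = conjS h A) ∧ C ≤ P}
  have hCl_conj : ∀ (h : H) (P : Subgroup H), Cl (conjS h P) = conjS h '' Cl P := by
    intro h P
    ext C
    constructor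
    · rintro ⟨⟨a, rfl⟩, hle⟩
      refine ⟨conjS (h⁻¹ * a) A, ⟨⟨_, rfl⟩, ?_⟩, ?_⟩
      · rw [conjS_mul]
        have := conjS_mono h⁻¹ hle
        rwa [conjS_inv_cancel] at this
      · rw [← conjS_mul, mul_inv_cancel_left]
    · rintro ⟨D, ⟨⟨a, rfl⟩, hle⟩, rfl⟩
      exact ⟨⟨h * a, (conjS_mul h a A).symm⟩, conjS_mono h hle⟩
  have hcard : ∀ P P' : Sylow p H, (Cl (P : Subgroup H)).ncard = (Cl (P' : Subgroup H)).ncard := by
    intro P P'
    obtain ⟨h, hh⟩ := MulAction.exists_smul_eq H P P'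
    rw [← hh, Sylow.coe_subgroup_smul]
    show _ = (Cl (conjS h (P : Subgroup H))).ncard
    rw [hCl_conj, Set.ncard_image_of_injective _ fun C D (e : conjS h C = conjS h D) => by
      rw [← conjS_inv_cancel h C, e, conjS_inv_cancel]]
  -- two Sylow subgroups in different maximal subgroups, with largest common part
  have hne : ∃ PP : Sylow p H × Sylow p H, pt PP.1 ≠ pt PP.2 := by
    by_contra hc
    push Not at hc
    refine hMco.1 (top_le_iff.1 ?_)
    rw [← hnc, show M = pt T from (hone _ (hptco T) (hpt1 T).2).symm]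
    refine (Subgroup.closure_le _).2 ?_
    rintro x hx
    obtain ⟨y, hy, hxy⟩ := Group.mem_conjugatesOfSet_iff.1 hx
    obtain ⟨l, rfl⟩ := isConj_iff.1 hxy
    have h1 := (hpt1 (l • T)).2
    rw [← hc (T, l • T), Sylow.coe_subgroup_smul] at h1
    exact h1 (conj_mem_conjS hy)
  obtain ⟨⟨P1, P2⟩, h12, hmax⟩ := Set.Finite.exists_maximalFor
    (fun PP : Sylow p H × Sylow p H => (Cl (PP.1 : Subgroup H) ∩ Cl (PP.2 : Subgroup H)).ncard)
    {PP | pt PP.1 ≠ pt PP.2} (Set.toFinite _) hne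
  set Δ := Cl (P1 : Subgroup H) ∩ Cl (P2 : Subgroup H) with hΔ
  set U := sSup Δ with hU
  have hU1 : U ≤ (P1 : Subgroup H) := sSup_le fun C hC => hC.1.2
  have hU2 : U ≤ (P2 : Subgroup H) := sSup_le fun C hC => hC.2.2
  have hclU : ∀ C ∈ Δ, C ≤ U := fun C hC => le_sSup hC
  -- the maximal subgroup of a larger common part
  have hkey : ∀ (P P' : Sylow p H), Δ ⊂ Cl (P : Subgroup H) ∩ Cl (P' : Subgroup H) → pt P = pt P' := by
    intro P P' hlt
    by_contra hne'
    exact (Set.ncard_lt_ncard hlt (Set.toFinite _)).not_ge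
      (hmax (show (P, P') ∈ {PP : Sylow p H × Sylow p H | pt PP.1 ≠ pt PP.2} from hne')
        (Set.ncard_le_ncard hlt.subset (Set.toFinite _)))
  have hperm : ∀ r : H, conjS r '' Δ = Δ → r ∈ Subgroup.normalizer (U : Set H) := by
    intro r h1
    refine conjS_eq_self_iff.1 ?_
    rw [hU, sSup_eq_iSup', conjS, Subgroup.map_iSup]
    refine le_antisymm (iSup_le fun C => ?_) (iSup_le fun C => ?_)
    · exact le_iSup (fun D : Δ => (D : Subgroup H)) ⟨conjS r C, h1.le ⟨C, C.2, rfl⟩⟩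
    · obtain ⟨D, hD, e⟩ := h1.ge C.2
      exact e.ge.trans (le_iSup (fun D : Δ => Subgroup.map (MulAut.conj r).toMonoidHom (D : Subgroup H)) ⟨D, hD⟩)
  have hQU : Q ≤ Subgroup.normalizer (U : Set H) := by
    intro q hq
    refine hperm q ?_
    rw [hΔ, Set.image_inter fun C D (e : conjS q C = conjS q D) => by
      rw [← conjS_inv_cancel q C, e, conjS_inv_cancel], ← hCl_conj, ← hCl_conj,
      conjS_mem_eq_self (hQP P1 hq), conjS_mem_eq_self (hQP P2 hq)]
  let Good : Subgroup H → Subgroup H → Prop := fun B N =>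
    (∃ h, B = conjS h A) ∧ B ≤ Subgroup.normalizer (U : Set H) ∧ IsPGroup p B ∧
      (∃ P : Sylow p H, U ⊔ B ≤ (P : Subgroup H) ∧ pt P = N) ∧
      ∀ P : Sylow p H, U ⊔ B ≤ (P : Subgroup H) → pt P = N
  have hgood : ∀ P P' : Sylow p H, Cl (P : Subgroup H) ∩ Cl (P' : Subgroup H) = Δ → pt P ≠ pt P' →
      U ≤ (P : Subgroup H) → ∃ B, Good B (pt P) := by
    intro P P' hPP hne' hUP
    have hnot : ¬ Cl (P : Subgroup H) ⊆ Cl (P' : Subgroup H) := by
      intro hsub
      have heq := Set.eq_of_subset_of_ncard_le hsub (hcard P' P).le (Set.toFinite _)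
      have hΔ' : Δ = Cl (P : Subgroup H) := by rw [← hPP, ← heq, Set.inter_self]
      have hnorm : ∀ R : Sylow p H, Cl (R : Subgroup H) = Δ →
          (R : Subgroup H) ≤ Subgroup.normalizer (U : Set H) := by
        intro R hR
        intro r hr
        exact hperm r (by rw [← hR, ← hCl_conj, conjS_mem_eq_self hr])
      have h1 := hnorm P hΔ'.symm
      have h2 := hnorm P' (heq.symm.trans hΔ'.symm)
      have htop : Subgroup.normalizer (U : Set H) ≠ ⊤ := by
        intro e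
        have hUn : U.Normal := Subgroup.normalizer_eq_top_iff.1 e
        obtain ⟨h, hh⟩ := hsyl P
        have hC : conjS h A ∈ Δ := hΔ' ▸ ⟨⟨h, rfl⟩, hh ▸ conjS_mono h hAT⟩
        have h3 : conjS h A ≤ Q := (hclU _ hC).trans (le_pCore hUn (P.isPGroup'.to_le hUP))
        refine hA ?_
        have h4 := conjS_mono h⁻¹ h3
        rwa [conjS_inv_cancel, conjS_normal] at h4
      obtain ⟨X, hX, hNX⟩ := (eq_top_or_exists_le_coatom (Subgroup.normalizer (U : Set H))).resolve_left htop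
      exact hne' ((hpt2 P X hX (h1.trans hNX)).symm.trans (hpt2 P' X hX (h2.trans hNX)))
    obtain ⟨B, hB, hBn⟩ : ∃ B ∈ Cl (P : Subgroup H), B ∉ Δ ∧ B ≤ Subgroup.normalizer (U : Set H) := by
      by_cases hall : (P : Subgroup H) ≤ Subgroup.normalizer (U : Set H)
      · obtain ⟨B, hB, hBn⟩ := Set.not_subset.1 hnot
        exact ⟨B, hB, fun h => hBn (hPP.ge h).2, hB.2.trans hall⟩
      · set N1 := (P : Subgroup H) ⊓ Subgroup.normalizer (U : Set H) with hN1
        have hlt : N1.subgroupOf (P : Subgroup H) < ⊤ := lt_top_iff_ne_top.2 fun e =>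
          hall ((Subgroup.subgroupOf_eq_top.1 e).trans inf_le_right)
        haveI := P.isPGroup'.isNilpotent
        obtain ⟨x, hxn, hx⟩ := SetLike.exists_of_lt (Group.normalizerCondition_of_isNilpotent _ hlt)
        have hxN : conjS (x : H) N1 = N1 := by
          rw [conjS_eq_self_iff]
          have h1 : (N1.subgroupOf (P : Subgroup H)).map (P : Subgroup H).subtype = N1 :=
            Subgroup.map_subgroupOf_eq_of_le inf_le_left
          rw [← h1]
          exact Subgroup.le_normalizer_map _ ⟨x, hxn, rfl⟩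
        obtain ⟨C, hC, hCn⟩ : ∃ C ∈ Δ, conjS (x : H) C ∉ Δ := by
          by_contra hc
          push Not at hc
          refine hx (Subgroup.mem_subgroupOf.2 (Subgroup.mem_inf.2 ⟨x.2, conjS_eq_self_iff.1 ?_⟩))
          refine Subgroup.eq_of_le_of_card_ge ?_ (by rw [card_conjS])
          rw [hU, sSup_eq_iSup', conjS, Subgroup.map_iSup]
          exact iSup_le fun D => le_iSup (fun D : Δ => (D : Subgroup H)) ⟨conjS (x : H) D, hc D D.2⟩
        obtain ⟨⟨a, ha⟩, hCP⟩ := (hPP.ge hC).1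
        have hCN : conjS (x : H) C ≤ N1 := (conjS_mono _ (le_inf hCP
          ((hclU C hC).trans Subgroup.le_normalizer))).trans hxN.le
        exact ⟨conjS (x : H) C, ⟨⟨x * a, by rw [ha, ← conjS_mul]⟩, hCN.trans inf_le_left⟩, hCn,
          hCN.trans inf_le_right⟩
    obtain ⟨hBΔ, hBN⟩ := hBn
    refine ⟨B, hB.1, hBN, P.isPGroup'.to_le hB.2, ⟨P, sup_le hUP hB.2, rfl⟩, fun R hR => ?_⟩
    refine hkey R P ((Set.ssubset_iff_of_subset ?_).2 ⟨B, ⟨⟨hB.1, le_sup_right.trans hR⟩, hB⟩, hBΔ⟩)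
    intro C hC
    exact ⟨⟨(hPP.ge hC).1.1, (hclU C hC).trans (le_sup_left.trans hR)⟩, (hPP.ge hC).1⟩
  have hgood_conj : ∀ (x : H) (B N : Subgroup H), x ∈ Subgroup.normalizer (U : Set H) → Good B N →
      Good (conjS x B) (conjS x N) := by
    rintro x B N hx ⟨⟨a, rfl⟩, hBN, hBp, ⟨P, hP, hPN⟩, hall⟩
    have hxU : conjS x U = U := conjS_eq_self_iff.2 hx
    refine ⟨⟨x * a, (conjS_mul x a A).symm⟩, ?_, hBp.map _, ⟨x • P, ?_, ?_⟩, fun R hR => ?_⟩
    · have := conjS_mono x hBN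
      rwa [conjS_normalizer, hxU] at this
    · rw [Sylow.coe_subgroup_smul]
      show _ ≤ conjS x (P : Subgroup H)
      rw [← hxU, ← conjS_sup]
      exact conjS_mono x hP
    · rw [hpt_conj P (x • P) x (by rw [Sylow.coe_subgroup_smul]; rfl), hPN]
    · have e : (x⁻¹ • R : Sylow p H).toSubgroup = conjS x⁻¹ (R : Subgroup H) := by
        rw [Sylow.coe_subgroup_smul]; rfl
      have h1 := hall (x⁻¹ • R) (by
        rw [e]
        have := conjS_mono x⁻¹ hR
        rwa [conjS_sup, conjS_inv_cancel, show conjS x⁻¹ U = U by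
          nth_rewrite 1 [← hxU]; exact conjS_inv_cancel _ _] at this)
      rw [hpt_conj R (x⁻¹ • R) x⁻¹ e] at h1
      rw [← h1, conjS_cancel_inv]
  obtain ⟨B1, hB1⟩ := hgood P1 P2 rfl h12 hU1
  obtain ⟨B2, hB2⟩ := hgood P2 P1 (Set.inter_comm _ _) (Ne.symm h12) hU2
  -- the smallest group generated by two of them
  obtain ⟨⟨B, B'⟩, ⟨N, N', hBg, hBg', hNN⟩, hJmin⟩ := Set.Finite.exists_minimalFor
    (fun BB : Subgroup H × Subgroup H => Nat.card ↥(U ⊔ BB.1 ⊔ BB.2 ⊔ Q))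
    {BB | ∃ N N', Good BB.1 N ∧ Good BB.2 N' ∧ N ≠ N'} (Set.toFinite _)
    ⟨(B1, B2), _, _, hB1, hB2, h12⟩
  set J := U ⊔ B ⊔ B' ⊔ Q with hJ
  have hJU : J ≤ Subgroup.normalizer (U : Set H) :=
    sup_le (sup_le (sup_le Subgroup.le_normalizer hBg.2.1) hBg'.2.1) hQU
  obtain ⟨PB, hPB, hPBN⟩ := hBg.2.2.2.1
  subst hPBN
  have hBJ : B ≤ J := le_sup_right.trans (le_sup_left.trans le_sup_left)
  set O := Cfsg.pCoreOf p J with hO
  have hUO : U ≤ O := le_pCoreOf ((le_sup_left.trans le_sup_left).trans le_sup_left) hJU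
    (P1.isPGroup'.to_le hU1)
  have hQO : Q ≤ O := le_pCoreOf le_sup_right (le_normalizer_of_normal _ _) (pCore_isPGroup p H)
  have hBO : B ⊔ O ≤ J ⊓ pt PB := by
    refine le_inf (sup_le hBJ (pCoreOf_le J)) ?_
    obtain ⟨R, hR⟩ := ((pCoreOf_isPGroup J).to_sup_of_normal_left' hBg.2.2.1
      (hBJ.trans (le_normalizer_pCoreOf J))).exists_le_sylow
    have hR' := hBg.2.2.2.2 R (sup_le ((hUO.trans le_sup_left).trans hR) (le_sup_right.trans hR))
    rw [← hR', sup_comm]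
    exact hR.trans (hpt1 R).2
  have hgen : ∀ x ∈ J, x ∉ J ⊓ pt PB → (B ⊔ conjS x B) ⊔ O = J := by
    intro x hx hxn
    have hN : pt PB ≠ conjS x (pt PB) := fun e => hxn (Subgroup.mem_inf.2 ⟨hx, hself PB x e.symm⟩)
    have hle : U ⊔ B ⊔ conjS x B ⊔ Q ≤ J :=
      sup_le (sup_le (sup_le ((le_sup_left.trans le_sup_left).trans le_sup_left) hBJ)
        ((conjS_mono x hBJ).trans (conjS_mem_eq_self hx).le)) le_sup_right
    have hge := hJmin (show (B, conjS x B) ∈ {BB : Subgroup H × Subgroup H | ∃ N N', Good BB.1 N ∧ Good BB.2 N' ∧ N ≠ N'}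
      from ⟨_, _, hBg, hgood_conj x B _ (hJU hx) hBg, hN⟩) (Subgroup.card_le_of_le hle)
    refine le_antisymm (sup_le (sup_le hBJ ((conjS_mono x hBJ).trans (conjS_mem_eq_self hx).le)) (pCoreOf_le J))
      ((Subgroup.eq_of_le_of_card_ge hle hge).ge.trans ?_)
    exact sup_le (sup_le (sup_le (hUO.trans le_sup_right) (le_sup_left.trans le_sup_left))
      (le_sup_right.trans le_sup_left)) (hQO.trans le_sup_right)
  have hlt : J ⊓ pt PB < J := by
    refine lt_of_le_of_ne inf_le_left fun e => hNN ?_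
    have hB'J : U ⊔ B' ≤ pt PB :=
      (sup_le ((le_sup_left.trans le_sup_left).trans le_sup_left) (le_sup_right.trans le_sup_left)).trans
        (e.ge.trans inf_le_right)
    obtain ⟨R, hR, hRN⟩ := hin PB _ ((P1.isPGroup'.to_le hU1).to_sup_of_normal_left' hBg'.2.2.1 hBg'.2.1) hB'J
    exact hRN.symm.trans (hBg'.2.2.2.2 R hR)
  have hup : ∀ X : Subgroup H, B ⊔ O ≤ X → X < J → X ≤ J ⊓ pt PB := by
    intro X hX hXJ x hx
    by_contra hxn
    refine hXJ.not_ge ((hgen x (hXJ.le hx) hxn).ge.trans (sup_le (sup_le (le_sup_left.trans hX) ?_)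
      (le_sup_right.trans hX)))
    exact (conjS_mono x (le_sup_left.trans hX)).trans (conjS_mem_eq_self hx).le
  -- conjugate `B` to `A`
  obtain ⟨c, rfl⟩ := hBg.1
  obtain ⟨⟨g, hg⟩, -⟩ := hpt1 PB
  have hcancel : ∀ Z : Subgroup H, conjS c⁻¹ (conjS c Z) = Z := conjS_inv_cancel c
  simp only [map_conj_eq]
  refine ⟨conjS c⁻¹ J, ?_, conjS c⁻¹ (J ⊓ pt PB), ?_, ?_, ?_, ⟨c⁻¹ * g, ?_⟩, ?_⟩
  · refine sup_le ?_ ?_
    · exact (hcancel A).ge.trans (conjS_mono _ hBJ)
    · exact (conjS_normal c⁻¹ Q).ge.trans (conjS_mono _ le_sup_right)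
  · rw [← conjS_pCoreOf]
    refine le_trans (le_of_eq ?_) (conjS_mono _ hBO)
    rw [conjS_sup, hcancel]
  · refine lt_of_le_of_ne (conjS_mono _ hlt.le) fun e => hlt.ne ?_
    have h2 := congrArg (conjS c) e
    rwa [conjS_cancel_inv, conjS_cancel_inv] at h2
  · intro X hX hXL
    have h1 : conjS c X ≤ J ⊓ pt PB := by
      refine hup _ ?_ (lt_of_le_of_ne ?_ fun e => hXL.ne ?_)
      · have := conjS_mono c hX
        rwa [conjS_sup, ← conjS_pCoreOf, conjS_cancel_inv] at this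
      · exact (conjS_mono c hXL.le).trans (conjS_cancel_inv c J).le
      · rw [← e, hcancel]
    have := conjS_mono c⁻¹ h1
    rwa [hcancel] at this
  · rw [conjS_inf, conjS_mul, hg]
  · intro x hx hxn
    have hx' : c * x * c⁻¹ ∈ J := by
      have := mem_conjS.1 hx
      simpa [mul_assoc] using this
    have hxn' : c * x * c⁻¹ ∉ J ⊓ pt PB := fun h => hxn (mem_conjS.2 (by simpa [mul_assoc] using h))
    have h := congrArg (conjS c⁻¹) (hgen _ hx' hxn')
    rw [conjS_sup, conjS_sup, hcancel, ← conjS_mul, ← conjS_mul, hO, conjS_pCoreOf] at h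
    rwa [show c⁻¹ * (c * x * c⁻¹) * c = x by group] at h

end Cfsg.Agent.S2834
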