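import Cfsg.Statements.S2835
import Cfsg.Agent.Lib.LocalEven.Irreducible

set_option autoImplicit false
open Cfsg Cfsg.Agent Cfsg.Agent.Lib.LocalEven
open scoped commutatorElement

namespace Cfsg.Agent.S2835

/-- Let L be a finite group, L₀ a maximal subgroup, T a Sylow p-subgroup of L₀ and Y ≤ T, and suppose L is Y-minimal (generated by the conjugates of Y, with Y in exactly one maximal subgroup, necessarily L₀). Then N_L(T) ≤ L₀, O_p(L) ≤ L₀ and T is a Sylow p-subgroup of L; N_L(L₀) = L₀; L = ⟨Y, gYg⁻¹⟩ for each g ∈ L outside L₀; and if Y is abelian then Y ∩ gYg⁻¹ = C_Y(L) for each such g. -/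
theorem result {L : Type*} [Group L] [Finite L] {p : ℕ} [Fact p.Prime] (L₀ : Subgroup L) (hL₀ : IsCoatom L₀) (T : Sylow p ↥L₀) (Y : Subgroup L) (hYT : Y ≤ (T : Subgroup ↥L₀).map L₀.subtype) (hmin : Cfsg.IsMinimalOver Y) : Subgroup.normalizer (((T : Subgroup ↥L₀).map L₀.subtype : Subgroup L) : Set L) ≤ L₀ ∧ Cfsg.pCore p L ≤ L₀ ∧ (∃ P : Sylow p L, (P : Subgroup L) = (T : Subgroup ↥L₀).map L₀.subtype) ∧ Subgroup.normalizer (L₀ : Set L) = L₀ ∧ (∀ g : L, g ∉ L₀ → Y ⊔ Y.map (MulAut.conj g).toMonoidHom = ⊤) ∧ (IsMulCommutative ↥Y → ∀ g : L, g ∉ L₀ → Y ⊓ Y.map (MulAut.conj g).toMonoidHom = Y ⊓ Subgroup.center L) := by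
  obtain ⟨hgen, M, ⟨hM, hYM⟩, hu⟩ := hmin
  set T' := (T : Subgroup ↥L₀).map L₀.subtype with hT'
  have hTL : T' ≤ L₀ := Subgroup.map_subtype_le _
  obtain rfl : L₀ = M := hu L₀ ⟨hL₀, hYT.trans hTL⟩
  have hno : ∀ N : Subgroup L, N.Normal → Y ≤ N → N = ⊤ := fun N hN hYN =>
    top_le_iff.1 (hgen ▸ Subgroup.normalClosure_le_normal hYN)
  have hTn : Subgroup.normalizer (T' : Set L) ≤ L₀ := by
    obtain ⟨X, hX, hle⟩ := exists_coatom_ge (A := Subgroup.normalizer (T' : Set L)) fun h =>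
      hL₀.1 (top_le_iff.1 ((hno T' (Subgroup.normalizer_eq_top_iff.1 h) hYT).ge.trans hTL))
    exact hle.trans (hu X ⟨hX, (hYT.trans Subgroup.le_normalizer).trans hle⟩).le
  have hTs : IsSylowOf p T' (⊤ : Subgroup L) :=
    isSylowOf_of_normalizer le_top (isSylowOf_map_subtype T).isPGroup fun Q hQ hQp hle =>
      (isSylowOf_map_subtype T).2.2 Q ((hQ.trans inf_le_right).trans hTn) hQp hle
  have hNL : Subgroup.normalizer (L₀ : Set L) = L₀ := by
    refine (Subgroup.le_normalizer.eq_or_lt).elim Eq.symm fun h => ?_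
    exact absurd (hno L₀ (Subgroup.normalizer_eq_top_iff.1 (hL₀.2 _ h)) (hYT.trans hTL)) hL₀.1
  have hg : ∀ g : L, g ∉ L₀ → Y ⊔ Y.map (MulAut.conj g).toMonoidHom = ⊤ := by
    intro g hg
    rw [map_conj_eq]
    by_contra h
    obtain ⟨X, hX, hle⟩ := exists_coatom_ge h
    obtain rfl : X = L₀ := hu X ⟨hX, le_sup_left.trans hle⟩
    have h1 : Y ≤ conjS g⁻¹ X := by
      have := conjS_mono g⁻¹ (le_sup_right.trans hle : conjS g Y ≤ X)
      rwa [conjS_inv_cancel] at this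
    have hco : IsCoatom (conjS g⁻¹ X) := ((MulAut.conj g⁻¹).mapSubgroup.isCoatom_iff X).2 hX
    have h2 : g⁻¹ ∈ Subgroup.normalizer (X : Set L) := conjS_eq_self_iff.1 (hu _ ⟨hco, h1⟩)
    rw [hNL] at h2
    exact hg (by simpa using inv_mem h2)
  obtain ⟨P, hP⟩ := hTs.exists_sylow_top
  refine ⟨hTn, ((pCore_le_sylow P).trans hP.le).trans hTL, ⟨P, hP⟩, hNL, hg, fun hab g hgn => ?_⟩
  · rw [map_conj_eq]
    refine le_antisymm (le_inf inf_le_left ?_) (le_inf inf_le_left ?_)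
    · intro z hz
      obtain ⟨hz1, hz2⟩ := Subgroup.mem_inf.1 hz
      rw [← Subgroup.centralizer_univ, ← Subgroup.coe_top, ← hg g hgn, map_conj_eq]
      refine Subgroup.le_centralizer_iff.1 (sup_le ?_ ?_) (Subgroup.mem_zpowers z)
      · exact fun a ha => Subgroup.mem_centralizer_iff.2 fun b hb => by
          obtain ⟨n, rfl⟩ := Subgroup.mem_zpowers_iff.1 hb
          exact ((show Commute z a from congrArg Subtype.val (hab.is_comm.comm ⟨z, hz1⟩ ⟨a, ha⟩)).zpow_left n)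
      · intro a ha
        refine Subgroup.mem_centralizer_iff.2 fun b hb => ?_
        obtain ⟨n, rfl⟩ := Subgroup.mem_zpowers_iff.1 hb
        refine (show Commute z a from ?_).zpow_left n
        have h1 := mem_conjS.1 ha
        have h2 := mem_conjS.1 hz2
        have h3 : Commute (g⁻¹ * z * g) (g⁻¹ * a * g) :=
          congrArg Subtype.val (hab.is_comm.comm ⟨_, h2⟩ ⟨_, h1⟩)
        have h4 := h3.map (MulAut.conj g).toMonoidHom
        simpa [mul_assoc] using h4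
    · intro z hz
      obtain ⟨hz1, hz2⟩ := Subgroup.mem_inf.1 hz
      rw [mem_conjS, Subgroup.mem_center_iff.1 hz2 g⁻¹, mul_assoc, inv_mul_cancel, mul_one]
      exact hz1

end Cfsg.Agent.S2835
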