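import Cfsg.Statements.S2836
import Cfsg.Agent.Lib.LocalEven.Irreducible

set_option autoImplicit false
open Cfsg Cfsg.Agent Cfsg.Agent.Lib.LocalEven
open scoped commutatorElement

namespace Cfsg.Agent.S2836

/-- Let L be a finite group, L₀ a maximal subgroup, T a Sylow p-subgroup of L₀, Y ≤ T, and suppose L is Y-minimal. Let D be the intersection of the conjugates of L₀ (the core of L₀). Then D contains O_p(L) and D/O_p(L) is the Frattini subgroup of L/O_p(L), so D is p-closed; and every normal subgroup N of L contained in L₀ is p-closed with N/O_p(N) a nilpotent group of order prime to p. -/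
theorem result {L : Type*} [Group L] [Finite L] {p : ℕ} [Fact p.Prime] (L₀ : Subgroup L) (hL₀ : IsCoatom L₀) (T : Sylow p ↥L₀) (Y : Subgroup L) (hYT : Y ≤ (T : Subgroup ↥L₀).map L₀.subtype) (hmin : Cfsg.IsMinimalOver Y) : (Cfsg.pCore p L ≤ L₀.normalCore ∧ (L₀.normalCore).map (QuotientGroup.mk' (Cfsg.pCore p L)) = frattini (L ⧸ Cfsg.pCore p L) ∧ Cfsg.IsPClosed p ↥(L₀.normalCore)) ∧ ∀ (N : Subgroup L) [N.Normal], N ≤ L₀ → Cfsg.IsPClosed p ↥N ∧ Group.IsNilpotent (↥N ⧸ Cfsg.pCore p ↥N) ∧ (Nat.card (↥N ⧸ Cfsg.pCore p ↥N)).Coprime p := by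
  obtain ⟨hgen, M, ⟨hM, hYM⟩, hu⟩ := hmin
  set T' := (T : Subgroup ↥L₀).map L₀.subtype with hT'
  have hTL : T' ≤ L₀ := Subgroup.map_subtype_le _
  obtain rfl : L₀ = M := hu L₀ ⟨hL₀, hYT.trans hTL⟩
  have hu' : ∀ X : Subgroup L, IsCoatom X → Y ≤ X → X = L₀ := fun X h1 h2 => hu X ⟨h1, h2⟩
  have hTn : Subgroup.normalizer (T' : Set L) ≤ L₀ := by
    obtain ⟨X, hX, hle⟩ := exists_coatom_ge (A := Subgroup.normalizer (T' : Set L)) fun h => by
      haveI := Subgroup.normalizer_eq_top_iff.1 h
      exact hL₀.1 (top_le_iff.1 ((hgen ▸ Subgroup.normalClosure_le_normal hYT).trans hTL))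
    exact hle.trans (hu X ⟨hX, (hYT.trans Subgroup.le_normalizer).trans hle⟩).le
  have hTs : IsSylowOf p T' (⊤ : Subgroup L) :=
    isSylowOf_of_normalizer le_top (isSylowOf_map_subtype T).isPGroup fun Q hQ hQp hle =>
      (isSylowOf_map_subtype T).2.2 Q ((hQ.trans inf_le_right).trans hTn) hQp hle
  set O := Cfsg.pCore p L with hO
  haveI : O.Normal := pCore_normal p L
  obtain ⟨P, hP⟩ := hTs.exists_sylow_top
  have hOD : O ≤ L₀.normalCore :=
    Subgroup.normal_le_normalCore.2 (((pCore_le_sylow P).trans hP.le).trans hTL)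
  have hD := isPClosed_of_le_max hTs hYT hu' hL₀ (Subgroup.normalCore_le L₀)
  set f := QuotientGroup.mk' O with hf
  have hs := QuotientGroup.mk'_surjective O
  have hmap : L₀.normalCore.map f = frattini (L ⧸ O) := by
    refine le_antisymm ?_ ?_
    · simp only [frattini, Order.radical, le_iInf_iff]
      intro X hX
      have hOX : O ≤ X.comap f := fun x hx => by
        rw [Subgroup.mem_comap, hf, QuotientGroup.mk'_apply, (QuotientGroup.eq_one_iff x).2 hx]
        exact one_mem X
      rw [Subgroup.map_le_iff_le_comap]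
      by_contra hne
      have hc : IsCoatom (X.comap f) := by
        refine ⟨fun e => hX.1 ?_, fun Z hZ => ?_⟩
        · rw [← Subgroup.map_comap_eq_self_of_surjective hs X, e, Subgroup.map_top_of_surjective f hs]
        · have e := Subgroup.comap_map_eq_self (f := f) (H := Z) (by
            rw [hf, QuotientGroup.ker_mk']; exact hOX.trans hZ.le)
          have h2 := hX.2 (Z.map f) ((Subgroup.comap_lt_comap_of_surjective hs).1 (by rwa [e]))
          rw [← e, h2, Subgroup.comap_top]
      set X0 := X.comap f with hX0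
      have htop : X0 ⊔ L₀.normalCore = ⊤ :=
        hc.2 _ (lt_of_le_of_ne le_sup_left fun e => hne (le_sup_right.trans e.ge))
      obtain ⟨TX, hTX⟩ := exists_isSylowOf p X0
      have hidx : ¬ p ∣ TX.index := by
        rw [← Subgroup.relIndex_mul_index hTX.le, (Fact.out : p.Prime).dvd_mul]
        rintro (h | h)
        · exact hTX.not_dvd_relIndex h
        · rw [index_eq_relIndex_of_sup_eq_top htop] at h
          refine (hTs.inf_normal le_top (le_normalizer_of_normal ⊤ L₀.normalCore)).not_dvd_relIndex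
            (h.trans ?_)
          rw [← Subgroup.inf_relIndex_right X0]
          exact Subgroup.relIndex_dvd_of_le_left _ (le_inf (hD.2.trans hOX) inf_le_right)
      have hTXs : IsSylowOf p TX (⊤ : Subgroup L) := by
        have h := isSylowOf_top (hTX.isPGroup.toSylow hidx)
        rwa [IsPGroup.toSylow_coe] at h
      obtain ⟨a, -, ha⟩ := hTs.exists_conj hTXs
      have hYa : Y ≤ conjS a⁻¹ X0 := by
        refine hYT.trans ?_
        rw [← conjS_inv_cancel a T', ha]
        exact conjS_mono _ hTX.le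
      have hco : IsCoatom (conjS a⁻¹ X0) := ((MulAut.conj a⁻¹).mapSubgroup.isCoatom_iff X0).2 hc
      have h2 := conjS_mono a (hu' _ hco hYa).ge
      rw [conjS_cancel_inv] at h2
      refine hne ?_
      refine le_trans ?_ h2
      rw [← conjS_normal a L₀.normalCore]
      exact conjS_mono a (Subgroup.normalCore_le L₀)
    · have key : ∀ g : L, frattini (L ⧸ O) ≤ (conjS g L₀).map f := by
        intro g
        refine frattini_le_coatom ?_
        have hc : IsCoatom (conjS g L₀) := ((MulAut.conj g).mapSubgroup.isCoatom_iff L₀).2 hL₀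
        have hOc : O ≤ conjS g L₀ := by
          rw [← conjS_normal g O]; exact conjS_mono g (hOD.trans (Subgroup.normalCore_le L₀))
        have e := Subgroup.comap_map_eq_self (f := f) (H := conjS g L₀) (by
          rw [hf, QuotientGroup.ker_mk']; exact hOc)
        refine ⟨fun h => hc.1 (by rw [← e, h, Subgroup.comap_top]), fun X hX => ?_⟩
        have h2 := hc.2 (X.comap f) (e ▸ (Subgroup.comap_lt_comap_of_surjective hs).2 hX)
        rw [← Subgroup.map_comap_eq_self_of_surjective hs X, h2, Subgroup.map_top_of_surjective f hs]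
      intro x hx
      obtain ⟨y, rfl⟩ := hs x
      refine Subgroup.mem_map_of_mem f fun g => ?_
      obtain ⟨z, hz, hzy⟩ := key g⁻¹ hx
      rw [hf, QuotientGroup.mk'_apply, QuotientGroup.mk'_apply, QuotientGroup.eq] at hzy
      have hy : y ∈ conjS g⁻¹ L₀ := by
        have hOc : O ≤ conjS g⁻¹ L₀ := by
          rw [← conjS_normal g⁻¹ O]; exact conjS_mono _ (hOD.trans (Subgroup.normalCore_le L₀))
        simpa using mul_mem hz (hOc hzy)
      simpa using mem_conjS.1 hy
  refine ⟨⟨hOD, hmap, hD.1⟩, fun N hN hNL => ?_⟩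
  have hNc := isPClosed_of_le_max hTs hYT hu' hL₀ hNL
  refine ⟨hNc.1, ?_, ?_⟩
  · have hND : N ≤ L₀.normalCore := Subgroup.normal_le_normalCore.2 hNL
    haveI := frattini_nilpotent (G := L ⧸ O)
    haveI : (Cfsg.pCore p ↥N).Normal := pCore_normal p _
    have hle : N.map f ≤ frattini (L ⧸ O) := hmap ▸ Subgroup.map_mono hND
    haveI : Group.IsNilpotent ↥(N.map f) :=
      nilpotent_of_mulEquiv (Subgroup.subgroupOfEquivOfLe hle)
    set ψ : ↥N →* ↥(N.map f) := f.subgroupMap N
    have hker : ψ.ker = Cfsg.pCore p ↥N := by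
      rw [show ψ.ker = f.ker.subgroupOf N from (Subgroup.ker_subgroupMap N f), hf, QuotientGroup.ker_mk']
      refine le_antisymm ?_ ?_
      · exact le_pCore (Subgroup.Normal.subgroupOf (inferInstance : O.Normal) N)
          (show IsPGroup p ↥(O.subgroupOf N) from (pCore_isPGroup p L).comap_subtype)
      · exact Subgroup.map_le_iff_le_comap.1 (pCoreOf_le_pCore_of_normal N)
    exact nilpotent_of_mulEquiv (((QuotientGroup.quotientMulEquivOfEq hker).symm.trans
      (QuotientGroup.quotientKerEquivOfSurjective ψ (f.subgroupMap_surjective N))).symm)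
  · obtain ⟨Q⟩ := (inferInstance : Nonempty (Sylow p ↥N))
    have hQ : Cfsg.pCore p ↥N = (Q : Subgroup ↥N) :=
      le_antisymm (pCore_le_sylow Q) (isPClosed_iff.1 hNc.1 _ Q.isPGroup')
    rw [← Subgroup.index_eq_card, hQ, Nat.coprime_comm, (Fact.out : p.Prime).coprime_iff_not_dvd]
    exact Q.not_dvd_index

end Cfsg.Agent.S2836
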