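import Cfsg.Statements.S2837
import Cfsg.Agent.S2835
import Cfsg.Agent.Lib.LocalEven.WeaklyClosed
import Cfsg.Agent.Lib.Cores.Frattini

set_option autoImplicit false
open Cfsg Cfsg.Agent Cfsg.Agent.Lib Cfsg.Agent.Lib.LocalEven
open scoped commutatorElement

namespace Cfsg.Agent.S2837

/-- Let L be a finite group of characteristic p, L₀ a maximal subgroup, Y an elementary abelian p-subgroup of L₀ with L Y-minimal and O_p(L) ≤ N_L(Y). Put A = the normal closure of O_p(L) ∩ Y in L. Then for every g ∈ L outside L₀: Φ(A) = A' = [A ∩ Y, A] = [A ∩ Y, A ∩ gYg⁻¹] ≤ C_Y(L), and Y ∩ gYg⁻¹ = (A ∩ Y) ∩ (A ∩ gYg⁻¹) = C_Y(L) = C_A(L). -/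
theorem result {L : Type*} [Group L] [Finite L] {p : ℕ} [Fact p.Prime] (hchar : Subgroup.centralizer (Cfsg.pCore p L : Set L) ≤ Cfsg.pCore p L) (L₀ : Subgroup L) (hL₀ : IsCoatom L₀) (Y : Subgroup L) (hYL₀ : Y ≤ L₀) (hYel : Cfsg.IsElementaryAbelian p Y) (hmin : Cfsg.IsMinimalOver Y) (hOY : Cfsg.pCore p L ≤ Subgroup.normalizer (Y : Set L)) (A : Subgroup L) (hA : A = Subgroup.normalClosure (((Cfsg.pCore p L ⊓ Y : Subgroup L)) : Set L)) (g : L) (hg : g ∉ L₀) : (frattini ↥A).map A.subtype = ⁅A, A⁆ ∧ ⁅A, A⁆ = ⁅A ⊓ Y, A⁆ ∧ ⁅A ⊓ Y, A⁆ = ⁅A ⊓ Y, A ⊓ Y.map (MulAut.conj g).toMonoidHom⁆ ∧ ⁅A ⊓ Y, A⁆ ≤ Y ⊓ Subgroup.center L ∧ Y ⊓ Y.map (MulAut.conj g).toMonoidHom = Y ⊓ Subgroup.center L ∧ (A ⊓ Y) ⊓ (A ⊓ Y.map (MulAut.conj g).toMonoidHom) = Y ⊓ Subgroup.center L ∧ A ⊓ Subgroup.center L = Y ⊓ Subgroup.center L := by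
  simp only [map_conj_eq]
  set P := Cfsg.pCore p L with hPdef
  haveI := pCore_normal p L
  have hab : ∀ a ∈ Y, ∀ b ∈ Y, a * b = b * a := (elemAb_iff.1 hYel).1
  obtain ⟨T', hT', hYT'⟩ := exists_isSylowOf_le hYL₀ (elemAb_isPGroup hYel)
  obtain ⟨T, hT⟩ := hT'.exists_sylow
  obtain ⟨-, -, -, -, hgen, hint⟩ := Cfsg.Agent.S2835.result L₀ hL₀ T Y (hT.symm ▸ hYT') hmin
  have hYg : Y ⊔ conjS g Y = ⊤ := hgen g hg
  have hI : Y ⊓ conjS g Y = Y ⊓ Subgroup.center L := hint hYel.1 g hg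
  set D := P ⊓ Y with hD
  set Dg := conjS g D with hDg
  have hPg : conjS g P = P := conjS_normal g P
  have hDgP : Dg ≤ P := (conjS_mono g inf_le_left).trans hPg.le
  have hDgY : Dg ≤ conjS g Y := conjS_mono g inf_le_right
  have hPY : ⁅P, Y⁆ ≤ D := le_inf (Subgroup.commutator_le_left P Y) (commutator_le_of_le_normalizer' hOY)
  have hPYg : ⁅P, conjS g Y⁆ ≤ Dg := by
    have := conjS_mono g hPY
    rwa [conjS_commutator, hPg] at this
  have hΓP : D ⊔ Dg ≤ P := sup_le inf_le_left hDgP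
  have hΓn : (⊤ : Subgroup L) ≤ Subgroup.normalizer ((D ⊔ Dg : Subgroup L) : Set L) := by
    refine hYg.ge.trans (sup_le ?_ ?_) <;>
      refine le_normalizer_of_commutator_le ((Subgroup.commutator_mono hΓP le_rfl).trans ?_)
    · exact hPY.trans le_sup_left
    · exact hPYg.trans le_sup_right
  haveI := normal_of_le_normalizer hΓn
  have hAe : A = D ⊔ Dg := by
    rw [hA]
    refine le_antisymm (Subgroup.normalClosure_le_normal (fun x hx => Subgroup.mem_sup_left hx))
      (sup_le Subgroup.le_normalClosure ?_)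
    exact (conjS_mono g Subgroup.le_normalClosure).trans (conjS_normal g _).le
  have hDn : Dg ≤ Subgroup.normalizer (D : Set L) :=
    le_normalizer_inf ((hDgP.trans Subgroup.le_normalizer)) (hDgP.trans hOY)
  have hAP : A ≤ P := hAe ▸ hΓP
  have hAY : A ⊓ Y = D := le_antisymm (inf_le_inf_right Y hAP) (le_inf (hAe ▸ le_sup_left) inf_le_right)
  have hAYg : A ⊓ conjS g Y = Dg := by
    refine le_antisymm ?_ (le_inf (hAe ▸ le_sup_right) hDgY)
    rw [hDg, hD, conjS_inf, hPg]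
    exact inf_le_inf_right _ hAP
  have hCD : Y ⊓ Subgroup.center L ≤ D := by
    refine le_inf (le_pCore ⟨fun n hn x => ?_⟩ (elemAb_isPGroup hYel).to_inf_left) inf_le_left
    rwa [Subgroup.mem_center_iff.1 (Subgroup.mem_inf.1 hn).2 x, mul_inv_cancel_right]
  have hcomm : ⁅D, Dg⁆ ≤ Y ⊓ Subgroup.center L := by
    rw [← hI]
    refine le_inf ((commutator_le_of_le_normalizer (hDgP.trans hOY |>.trans le_rfl) |> fun h =>
      (Subgroup.commutator_mono (inf_le_right : D ≤ Y) le_rfl).trans h)) ?_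
    refine (Subgroup.commutator_mono le_rfl hDgY).trans (commutator_le_of_le_normalizer' ?_)
    have := conjS_mono g hOY
    rw [hPg, conjS_normalizer] at this
    exact inf_le_left.trans this
  haveI hcn : (⁅D, Dg⁆).Normal := by
    refine ⟨fun n hn x => ?_⟩
    rw [Subgroup.mem_center_iff.1 (Subgroup.mem_inf.1 (hcomm hn)).2 x, mul_inv_cancel_right]
    exact hn
  have hntop : ∀ X : Subgroup L, X ≤ Subgroup.normalizer ((⁅D, Dg⁆ : Subgroup L) : Set L) :=
    fun X => le_normalizer_of_normal X _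
  have hDD : ⁅D, D⁆ ≤ ⁅D, Dg⁆ := by
    rw [le_centralizer_iff_commutator.1 (inf_le_right.trans ((elemAb_le_centralizer hYel).trans
      (Subgroup.centralizer_le inf_le_right)) : D ≤ Subgroup.centralizer (D : Set L))]
    exact bot_le
  have hDgDg : ⁅Dg, Dg⁆ ≤ ⁅D, Dg⁆ := by
    rw [hDg, ← conjS_commutator, le_centralizer_iff_commutator.1 (inf_le_right.trans ((elemAb_le_centralizer hYel).trans
      (Subgroup.centralizer_le inf_le_right)) : D ≤ Subgroup.centralizer (D : Set L)), conjS, Subgroup.map_bot]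
    exact bot_le
  have hDA : ⁅D, A⁆ = ⁅D, Dg⁆ := by
    refine le_antisymm ?_ (Subgroup.commutator_mono le_rfl (hAe ▸ le_sup_right))
    rw [hAe, Subgroup.commutator_comm]
    exact commutator_sup_le (hntop _) (hntop _) hDD ((Subgroup.commutator_comm _ _).le)
  have hAA : ⁅A, A⁆ = ⁅D, Dg⁆ := by
    refine le_antisymm ?_ (hDA.ge.trans (Subgroup.commutator_mono (hAe ▸ le_sup_left) le_rfl))
    conv_lhs => arg 1; rw [hAe]
    refine commutator_sup_le (hntop _) (hntop _) hDA.le ?_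
    rw [hAe, Subgroup.commutator_comm]
    exact commutator_sup_le (hntop _) (hntop _) le_rfl hDgDg
  have hAp : IsPGroup p A := (pCore_isPGroup p L).to_le hAP
  refine ⟨?_, hAA.trans (hAY ▸ hDA.symm), ?_, ?_, hI, ?_, ?_⟩
  · refine le_antisymm (frattini_map_le (p := p) (fun a ha b hb => Subgroup.commutator_mem_commutator ha hb) ?_) ?_
    · intro a ha
      rw [hAA]
      have ha' : a ∈ D ⊔ Dg := hAe ▸ ha
      rw [sup_comm, ← SetLike.mem_coe, Subgroup.coe_mul_of_left_le_normalizer_right _ _ hDn] at ha'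
      obtain ⟨v, hv, u, hu, rfl⟩ := Set.mem_mul.1 ha'
      set f := QuotientGroup.mk' ⁅D, Dg⁆ with hf
      rw [← QuotientGroup.eq_one_iff]
      show f ((v * u) ^ p) = 1
      have hc : Commute (f v) (f u) := by
        have h1 : ⁅u, v⁆ ∈ ⁅D, Dg⁆ := Subgroup.commutator_mem_commutator hu hv
        have h2 : f ⁅u, v⁆ = 1 := (QuotientGroup.eq_one_iff _).2 h1
        rw [map_commutatorElement] at h2
        exact (commutatorElement_eq_one_iff_mul_comm.1 h2).symm
      have hu1 : u ^ p = 1 := hYel.2 u (Subgroup.mem_inf.1 hu).2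
      have hv1 : v ^ p = 1 := by
        have := hYel.2 _ (mem_conjS.1 (hDgY hv))
        rwa [show g⁻¹ * v * g = g⁻¹ * v * g⁻¹⁻¹ by group, conj_pow, conj_eq_one_iff] at this
      rw [map_pow, map_mul, hc.mul_pow, ← map_pow, ← map_pow, hu1, hv1, map_one, mul_one]
    · haveI : Group.IsNilpotent A := hAp.isNilpotent
      rw [← Subgroup.map_subtype_commutator]
      exact Subgroup.map_mono Cores.commutator_le_frattini
  · rw [hAY, hAYg, hDA]
  · rw [hAY, hDA]
    exact hcomm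
  · rw [hAY, hAYg]
    refine le_antisymm ((inf_le_inf inf_le_right hDgY).trans hI.le) (le_inf hCD ?_)
    intro z hz
    rw [mem_conjS, Subgroup.mem_center_iff.1 (Subgroup.mem_inf.1 hz).2 g⁻¹, mul_assoc, inv_mul_cancel, mul_one]
    exact hCD hz
  · refine le_antisymm ?_ (le_inf (hCD.trans (hAe ▸ le_sup_left)) inf_le_right)
    intro z hz
    obtain ⟨hzA, hzc⟩ := Subgroup.mem_inf.1 hz
    have hz' : z ∈ D ⊔ Dg := hAe ▸ hzA
    rw [sup_comm, ← SetLike.mem_coe, Subgroup.coe_mul_of_left_le_normalizer_right _ _ hDn] at hz'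
    obtain ⟨b, hb, a, ha, rfl⟩ := Set.mem_mul.1 hz'
    refine Subgroup.mem_inf.2 ⟨mul_mem ?_ (Subgroup.mem_inf.1 ha).2, hzc⟩
    have hb1 : b ∈ Subgroup.centralizer (Y : Set L) := by
      have h1 : b * a ∈ Subgroup.centralizer (Y : Set L) :=
        Subgroup.center_le_centralizer _ hzc
      have := mul_mem h1 (inv_mem (elemAb_le_centralizer hYel (Subgroup.mem_inf.1 ha).2))
      rwa [mul_inv_cancel_right] at this
    have hb2 : b ∈ Subgroup.centralizer (conjS g Y : Set L) := by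
      rw [← conjS_centralizer]
      exact conjS_mono g (inf_le_right.trans (elemAb_le_centralizer hYel)) hb
    have hall : (⊤ : Subgroup L) ≤ Subgroup.centralizer ({b} : Set L) := hYg.ge.trans (sup_le
      (fun y hy => Subgroup.mem_centralizer_singleton_iff.2 (Subgroup.mem_centralizer_iff.1 hb1 y hy))
      (fun y hy => Subgroup.mem_centralizer_singleton_iff.2 (Subgroup.mem_centralizer_iff.1 hb2 y hy)))
    have e := Subgroup.mem_centralizer_singleton_iff.1 (hall (Subgroup.mem_top g))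
    have := mem_conjS.1 (hDgY hb)
    rwa [mul_assoc, ← e, inv_mul_cancel_left] at this

end Cfsg.Agent.S2837
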