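import Cfsg.Statements.S2839
import Cfsg.Agent.Lib.LocalEven.WeaklyClosed

set_option autoImplicit false
open Cfsg Cfsg.Agent Cfsg.Agent.Lib.LocalEven
open scoped commutatorElement

namespace Cfsg.Agent.S2839

/-- Let Q be a nontrivial p-subgroup of the finite group H that is a weakly closed subgroup, K a subgroup containing Q and N a normal subgroup of H. Then Q is a weakly closed subgroup of K; every H-conjugate of Q contained in K is a K-conjugate of Q; N_K(Q) contains a Sylow p-subgroup of K; N = N_N(Q)·O^p(N); and QN/N is a weakly closed subgroup of H/N. -/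
theorem result {H : Type*} [Group H] [Finite H] {p : ℕ} [Fact p.Prime] (Q : Subgroup H) (hQp : IsPGroup p ↥Q) (hQ1 : Q ≠ ⊥) (hwc : Cfsg.IsWeaklyClosedSubgroup p Q) (K : Subgroup H) (hQK : Q ≤ K) (N' : Subgroup H) [N'.Normal] : Cfsg.IsWeaklyClosedSubgroup p (Q.subgroupOf K) ∧ (∀ g : H, ((Q : Subgroup H).map (MulAut.conj (g : H)).toMonoidHom) ≤ K → ∃ k ∈ K, ((Q : Subgroup H).map (MulAut.conj (g : H)).toMonoidHom) = ((Q : Subgroup H).map (MulAut.conj (k : H)).toMonoidHom)) ∧ Cfsg.IsParabolic p ((Subgroup.normalizer ((Q : Subgroup H) : Set H)).subgroupOf K) ∧ (N' ⊓ Subgroup.normalizer ((Q : Subgroup H) : Set H)) ⊔ (Cfsg.pResidual p ↥N').map N'.subtype = N' ∧ Cfsg.IsWeaklyClosedSubgroup p (Q.map (QuotientGroup.mk' N')) := by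
  simp only [map_conj_eq]
  have h := (wc_iff hQp).1 hwc
  obtain ⟨TK, hTK, hQTK⟩ := exists_isSylowOf_le hQK hQp
  refine ⟨?_, fun g hg => h.exists_conj hQp hQK hg, ?_, ?_, ?_⟩
  · rw [wc_iff (show IsPGroup p ↥(Q.subgroupOf K) from hQp.comap_subtype)]
    intro R hR hQR g hgR
    refine Subgroup.map_injective K.subtype_injective ?_
    have h1 : Q ≤ R.map K.subtype := by
      rw [← Subgroup.map_subgroupOf_eq_of_le hQK]; exact Subgroup.map_mono hQR
    have h2 : conjS (g : H) Q ≤ R.map K.subtype := by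
      have := Subgroup.map_mono (f := K.subtype) hgR
      rwa [map_conjS, Subgroup.map_subgroupOf_eq_of_le hQK] at this
    rw [map_conjS, Subgroup.map_subgroupOf_eq_of_le hQK]
    exact h _ (hR.map _) h1 _ h2
  · obtain ⟨P, hP⟩ := hTK.exists_sylow
    exact ⟨P, Subgroup.map_le_iff_le_comap.1 (hP.le.trans (h.le_normalizer' hTK.isPGroup hQTK))⟩
  · obtain ⟨T, hT, hQT⟩ := exists_isSylowOf_le (le_top : Q ≤ ⊤) hQp
    refine le_antisymm (sup_le inf_le_left (Subgroup.map_subtype_le _)) ?_
    conv_lhs => rw [← pResOf_sup_sylow (hT.inf_normal le_top (le_normalizer_of_normal ⊤ N'))]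
    exact sup_le le_sup_right (le_trans (le_inf inf_le_right (inf_le_left.trans
      (h.le_normalizer' hT.isPGroup hQT))) le_sup_left)
  · obtain ⟨T, hT⟩ := hQp.exists_le_sylow
    set f := QuotientGroup.mk' N' with hf
    refine ⟨T.mapSurjective (QuotientGroup.mk'_surjective N'), Subgroup.map_mono hT, fun g' hg => ?_⟩
    obtain ⟨g, rfl⟩ := QuotientGroup.mk'_surjective N' g'
    rw [map_conj_eq, ← map_conjS] at hg ⊢
    have h1 : conjS g Q ≤ (T : Subgroup H) ⊔ N' := by
      have := Subgroup.map_le_iff_le_comap.1 hg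
      rwa [Sylow.coe_mapSurjective, Subgroup.comap_map_eq, QuotientGroup.ker_mk'] at this
    obtain ⟨k, hk, e⟩ := h.exists_conj hQp (hT.trans le_sup_left) h1
    rw [e, map_conjS, conjS_eq_self_iff]
    have h2 : f k ∈ (T : Subgroup H).map f := by
      have : ((T : Subgroup H) ⊔ N').map f = (T : Subgroup H).map f := by
        rw [Subgroup.map_sup, hf, QuotientGroup.map_mk'_self, sup_bot_eq]
      rw [← this]; exact Subgroup.mem_map_of_mem f hk
    exact (Subgroup.map_mono (h.le_normalizer' T.isPGroup' hT)).trans (Subgroup.le_normalizer_map f) h2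

end Cfsg.Agent.S2839
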