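import Cfsg.Statements.S2840
import Cfsg.Agent.Lib.LocalEven.WeaklyClosed

set_option autoImplicit false
open Cfsg Cfsg.Agent Cfsg.Agent.Lib.LocalEven
open scoped commutatorElement

namespace Cfsg.Agent.S2840

/-- Let Q be a nontrivial p-subgroup of the finite group H that is a weakly closed subgroup and K a subgroup containing Q; let K° be the weak closure of Q in K (generated by the H-conjugates of Q inside K). Then K° is generated by the K-conjugates of Q, and K° is the subnormal closure of Q in K. -/
theorem result {H : Type*} [Group H] [Finite H] {p : ℕ} [Fact p.Prime] (Q : Subgroup H) (hQp : IsPGroup p ↥Q) (hQ1 : Q ≠ ⊥) (hwc : Cfsg.IsWeaklyClosedSubgroup p Q) (K : Subgroup H) (hQK : Q ≤ K) (Kc : Subgroup H) (hKc : Kc = Cfsg.weakClosure Q K) : Kc = ⨆ k : ↥K, ((Q : Subgroup H).map (MulAut.conj ((k : H) : H)).toMonoidHom) ∧ Kc = (Cfsg.subnormalClosure (Q.subgroupOf K)).map K.subtype := by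
  simp only [map_conj_eq]
  have h := (wc_iff hQp).1 hwc
  have h1 : Kc = ⨆ k : K, conjS (k : H) Q := hKc.trans (weakClosure_eq_iSup h hQp hQK)
  refine ⟨h1, le_antisymm ?_ ?_⟩
  · rw [h1]
    refine iSup_le fun k => ?_
    have key : ∀ S : Subgroup K, S.IsSubnormal → Q.subgroupOf K ≤ S →
        ∀ k ∈ K, conjS k Q ≤ S.map K.subtype := by
      intro S hS
      induction hS with
      | top =>
        intro _ k hk
        rw [← MonoidHom.range_eq_map, Subgroup.range_subtype]
        exact conjS_le_of_mem hQK hk
      | step N M hNM _ hn ih =>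
        intro hQN k hk
        have hQN' : Q ≤ N.map K.subtype := by
          rw [← Subgroup.map_subgroupOf_eq_of_le hQK]; exact Subgroup.map_mono hQN
        obtain ⟨m, hm, e⟩ := h.exists_conj hQp (hQN'.trans (Subgroup.map_mono hNM))
          (ih (hQN.trans hNM) k hk)
        rw [e]
        refine (conjS_mono m hQN').trans (conjS_eq_self_iff.2 ?_).le
        exact (Subgroup.map_mono (le_normalizer_of_subgroupOf_normal hNM hn)).trans
          (Subgroup.le_normalizer_map K.subtype) hm
    exact key _ (subnormalClosure_isSubnormal _) (le_subnormalClosure _) k k.2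
  · have hle : Kc ≤ K := hKc ▸ weakClosure_le Q K
    have hn : K ≤ Subgroup.normalizer (Kc : Set H) := by
      rw [le_normalizer_iff_forall]
      have key : ∀ g ∈ K, conjS g Kc ≤ Kc := by
        intro g hg
        rw [h1, conjS_iSup]
        refine iSup_le fun k => ?_
        rw [← conjS_mul]
        exact le_iSup (fun k : K => conjS (k : H) Q) ⟨g * k, mul_mem hg k.2⟩
      intro g hg
      refine le_antisymm (key g hg) ?_
      have := conjS_mono g (key g⁻¹ (inv_mem hg))
      rwa [conjS_cancel_inv] at this
    rw [Subgroup.map_le_iff_le_comap]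
    exact subnormalClosure_le (Subgroup.comap_mono (hKc ▸ self_le_weakClosure hQK))
      (subgroupOf_normal_of_le hn).isSubnormal

end Cfsg.Agent.S2840
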