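import Cfsg.Statements.S2841
import Cfsg.Agent.Lib.LocalEven.WeaklyClosed

set_option autoImplicit false
open Cfsg Cfsg.Agent Cfsg.Agent.Lib.LocalEven
open scoped commutatorElement

namespace Cfsg.Agent.S2841

/-- Let Q be a nontrivial p-subgroup of the finite group H that is a weakly closed subgroup and N a normal subgroup of H. Then N = N_N(Q)·[N, Q] and [N, Q] = (Q ∩ [N, Q])·[N, Q, Q]. -/
theorem result {H : Type*} [Group H] [Finite H] {p : ℕ} [Fact p.Prime] (Q : Subgroup H) (hQp : IsPGroup p ↥Q) (hQ1 : Q ≠ ⊥) (hwc : Cfsg.IsWeaklyClosedSubgroup p Q) (N' : Subgroup H) [N'.Normal] : (∀ n : H, n ∈ N' → ∃ a ∈ N' ⊓ Subgroup.normalizer ((Q : Subgroup H) : Set H), ∃ b ∈ ⁅N', Q⁆, n = a * b) ∧ (∀ c : H, c ∈ ⁅N', Q⁆ → ∃ a ∈ Q ⊓ ⁅N', Q⁆, ∃ b ∈ ⁅⁅N', Q⁆, Q⁆, c = a * b) := by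
  have h := (wc_iff hQp).1 hwc
  have key : ∀ N : Subgroup H, Q ≤ Subgroup.normalizer (N : Set H) →
      ∀ n ∈ N, ∃ a ∈ N ⊓ Subgroup.normalizer (Q : Set H), ∃ b ∈ ⁅N, Q⁆, n = a * b := by
    intro N hQN n hn
    have hXN : ⁅N, Q⁆ ≤ N := commutator_le_of_le_normalizer hQN
    have hnX : Q ≤ Subgroup.normalizer ((⁅N, Q⁆ : Subgroup H) : Set H) :=
      le_normalizer_commutator_right N Q
    have h1 : conjS n⁻¹ Q ≤ ⁅N, Q⁆ ⊔ Q := by
      intro x hx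
      have hq := mem_conjS.1 hx
      rw [show x = ⁅n⁻¹, n⁻¹⁻¹ * x * n⁻¹⁆ * (n⁻¹⁻¹ * x * n⁻¹) by simp [commutatorElement_def, mul_assoc]]
      exact mul_mem (Subgroup.mem_sup_left (Subgroup.commutator_mem_commutator (inv_mem hn) hq))
        (Subgroup.mem_sup_right hq)
    obtain ⟨m, hm, e⟩ := h.exists_conj hQp le_sup_right h1
    rw [← SetLike.mem_coe, Subgroup.coe_mul_of_right_le_normalizer_left _ _ hnX] at hm
    obtain ⟨c, hc, q, hq, rfl⟩ := hm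
    rw [conjS_mul, conjS_mem_eq_self hq] at e
    have ha : c⁻¹ * n⁻¹ ∈ Subgroup.normalizer (Q : Set H) := by
      rw [← conjS_eq_self_iff, conjS_mul, e, conjS_inv_cancel]
    refine ⟨(c⁻¹ * n⁻¹)⁻¹, Subgroup.mem_inf.2 ⟨inv_mem (mul_mem (inv_mem (hXN hc)) (inv_mem hn)),
      inv_mem ha⟩, c⁻¹, inv_mem hc, ?_⟩
    group
  refine ⟨key N' (le_normalizer_of_normal _ _), ?_⟩
  set X := ⁅N', Q⁆ with hX
  have hXN : X ≤ N' := commutator_le_of_le_normalizer (le_normalizer_of_normal _ _)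
  have hQX : Q ≤ Subgroup.normalizer (X : Set H) := le_normalizer_commutator_right N' Q
  have hQX2 : Q ≤ Subgroup.normalizer ((⁅X, Q⁆ : Subgroup H) : Set H) :=
    le_normalizer_commutator_right X Q
  have hn : N' ⊓ Subgroup.normalizer (Q : Set H) ≤
      Subgroup.normalizer (((Q ⊓ X) ⊔ ⁅X, Q⁆ : Subgroup H) : Set H) := by
    have h1 : N' ⊓ Subgroup.normalizer (Q : Set H) ≤ Subgroup.normalizer (X : Set H) :=
      inf_le_left.trans (le_normalizer_commutator_left N' Q)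
    exact le_normalizer_sup (le_normalizer_inf inf_le_right h1)
      (le_normalizer_commutator h1 inf_le_right)
  have hnX : X ≤ Subgroup.normalizer (((Q ⊓ X) ⊔ ⁅X, Q⁆ : Subgroup H) : Set H) := by
    intro x hx
    obtain ⟨a, ha, b, hb, rfl⟩ := key X hQX x hx
    exact mul_mem (hn (Subgroup.mem_inf.2 ⟨hXN (Subgroup.mem_inf.1 ha).1, (Subgroup.mem_inf.1 ha).2⟩))
      (Subgroup.le_normalizer (Subgroup.mem_sup_right hb))
  have h1 : ⁅(N' ⊓ Subgroup.normalizer (Q : Set H)) ⊔ X, Q⁆ ≤ (Q ⊓ X) ⊔ ⁅X, Q⁆ :=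
    commutator_sup_le hn hnX
      ((le_inf (commutator_le_of_le_normalizer' inf_le_right)
        (Subgroup.commutator_mono inf_le_left le_rfl)).trans le_sup_left) le_sup_right
  intro c hc
  have h2 : N' ≤ (N' ⊓ Subgroup.normalizer (Q : Set H)) ⊔ X := by
    intro n hn'
    obtain ⟨a, ha, b, hb, rfl⟩ := key N' (le_normalizer_of_normal _ _) n hn'
    exact Subgroup.mul_mem_sup ha hb
  have hc' : c ∈ (Q ⊓ X) ⊔ ⁅X, Q⁆ := h1 (Subgroup.commutator_mono h2 le_rfl hc)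
  rw [← SetLike.mem_coe, Subgroup.coe_mul_of_left_le_normalizer_right _ _ (inf_le_left.trans hQX2)] at hc'
  obtain ⟨a, ha, b, hb, e⟩ := hc'
  exact ⟨a, ha, b, hb, e.symm⟩

end Cfsg.Agent.S2841
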