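import Cfsg.Statements.S2842
import Cfsg.Agent.Lib.LocalEven.WeaklyClosed
import Cfsg.Agent.Lib.LocalEven.CharP
import Cfsg.Agent.Lib.Coprime.PxQ

set_option autoImplicit false
open Cfsg Cfsg.Agent Cfsg.Agent.Lib Cfsg.Agent.Lib.LocalEven
open scoped commutatorElement

namespace Cfsg.Agent.S2842

universe v

variable {G : Type v} [Group G] [Finite G] {p : ℕ} [hp : Fact p.Prime]

theorem centralizes_core_of_le {P : Subgroup G} (hP : IsPGroup p P) {x : G} (hc : Nat.Coprime (orderOf x) p)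
    (hxC : x ∈ Subgroup.centralizer (P : Set G))
    (hxM : ∀ m ∈ Cfsg.pCoreOf p (Subgroup.centralizer (P : Set G)), Commute x m) :
    ∀ R : Subgroup G, R ≤ P →
      Subgroup.zpowers x ≤ Subgroup.centralizer (Cfsg.pCoreOf p (Subgroup.centralizer (R : Set G)) : Set G) := by
  intro R
  induction R using WellFoundedGT.induction with
  | ind R ih =>
    intro hRP
    by_cases hRe : R = P
    · subst hRe
      exact Subgroup.zpowers_le.2 (Subgroup.mem_centralizer_iff.2 fun m hm => (hxM m hm).symm)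
    haveI : Group.IsNilpotent P := hP.isNilpotent
    have hlt : R.subgroupOf P < ⊤ := lt_top_iff_ne_top.2 fun e =>
      hRe (le_antisymm hRP (Subgroup.subgroupOf_eq_top.1 e))
    obtain ⟨a, ha, han⟩ := SetLike.exists_of_lt (Group.normalizerCondition_of_isNilpotent _ hlt)
    set R' := P ⊓ Subgroup.normalizer (R : Set G) with hR'
    have haR : (a : G) ∈ R' := by
      refine Subgroup.mem_inf.2 ⟨a.2, Subgroup.mem_normalizer_iff.2 fun y => ?_⟩
      by_cases hy : y ∈ P
      · exact Subgroup.mem_normalizer_iff.1 ha ⟨y, hy⟩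
      · constructor
        · exact fun h => absurd (hRP h) hy
        · intro h
          refine absurd ?_ hy
          have := mul_mem (mul_mem (inv_mem a.2) (hRP h)) a.2
          simpa [mul_assoc] using this
    have hlt' : R < R' := lt_of_le_of_ne (le_inf hRP Subgroup.le_normalizer) fun e =>
      han (Subgroup.mem_subgroupOf.2 (e ▸ haR))
    set K := Subgroup.centralizer (R : Set G) with hK
    set K' := Subgroup.centralizer (R' : Set G) with hK'
    have hxK : x ∈ K := Subgroup.centralizer_le hRP hxC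
    have hK'K : K' ≤ K := Subgroup.centralizer_le hlt'.le
    have hR'U : R' ≤ Subgroup.normalizer (Cfsg.pCoreOf p K : Set G) := by
      rw [le_normalizer_iff_forall]
      intro g hg
      rw [conjS_pCoreOf, conjS_eq_self_iff.2 (le_normalizer_centralizer inf_le_right hg)]
    refine Coprime.le_centralizer_of_PxQ (P := R') (hP.to_le inf_le_left) (by rw [Nat.card_zpowers]; exact hc)
      (pCoreOf_isPGroup K) ?_ hR'U ((Subgroup.zpowers_le.2 hxK).trans (le_normalizer_pCoreOf K)) ?_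
    · exact Subgroup.le_centralizer_iff.1 (Subgroup.zpowers_le.2 (Subgroup.centralizer_le inf_le_left hxC))
    · refine (le_pCoreOf inf_le_right (le_normalizer_inf (hK'K.trans (le_normalizer_pCoreOf K)) Subgroup.le_normalizer)
        (pCoreOf_isPGroup K).to_inf_left).trans ?_
      exact Subgroup.le_centralizer_iff.1 (ih R' hlt' inf_le_left)

theorem commutator_core {Q L : Subgroup G} (hQp : IsPGroup p Q) (hQ1 : Q ≠ ⊥) (hwc : Wc p Q)
    (hCQ : Subgroup.centralizer (Q : Set G) ≤ Q) (hQL : Q ≤ L) {R : Subgroup G} (hRL : R ≤ Cfsg.pCoreOf p L)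
    (hK : Subgroup.centralizer (R : Set G) ⊓
      Subgroup.centralizer (Cfsg.pCoreOf p (Subgroup.centralizer (R : Set G)) : Set G) ≤
        Cfsg.pCoreOf p (Subgroup.centralizer (R : Set G))) :
    ⁅Q, Subgroup.centralizer (Cfsg.pCoreOf p L : Set G)⁆ ≤ Q ⊓ Cfsg.pCoreOf p L ∧
      IsPGroup p ↥(Subgroup.centralizer (Cfsg.pCoreOf p L : Set G)) := by
  set P := Cfsg.pCoreOf p L with hP
  set C := Subgroup.centralizer (P : Set G) with hC
  set M := Cfsg.pCoreOf p C with hM
  set K := Subgroup.centralizer (R : Set G) with hKdef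
  have hCK : C ≤ K := Subgroup.centralizer_le hRL
  have hLC : L ≤ Subgroup.normalizer (C : Set G) := le_normalizer_centralizer (le_normalizer_pCoreOf L)
  have hLM : L ≤ Subgroup.normalizer (M : Set G) := by
    rw [le_normalizer_iff_forall]
    intro g hg
    rw [hM, conjS_pCoreOf, conjS_eq_self_iff.2 (hLC hg)]
  have hQM : M ≤ Subgroup.normalizer (Q : Set G) :=
    le_sup_left.trans (hwc.le_normalizer' ((pCoreOf_isPGroup C).to_sup_of_normal_left' hQp (hQL.trans hLM)) le_sup_right)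
  have hMQ : ⁅M, Q⁆ ≤ P := by
    refine le_trans (le_inf ((commutator_le_of_le_normalizer' hQM).trans hQL) (commutator_le_of_le_normalizer (hQL.trans hLM))) ?_
    exact le_pCoreOf inf_le_left (le_normalizer_inf Subgroup.le_normalizer hLM) (pCoreOf_isPGroup C).to_inf_right
  set N := P ⊓ M with hN
  have hCN : C ≤ Subgroup.normalizer (N : Set G) :=
    le_normalizer_inf (Subgroup.centralizer_le_normalizer _) (le_normalizer_pCoreOf C)
  have hMN : M ≤ Subgroup.normalizer (N : Set G) := (pCoreOf_le C).trans hCN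
  have hQN : Q ≤ Subgroup.normalizer (N : Set G) :=
    le_normalizer_inf (hQL.trans (le_normalizer_pCoreOf L)) (hQL.trans hLM)
  -- the elements acting trivially on `M / N`
  have hact : ∀ a ∈ Q, ∀ c ∈ C, ∀ m ∈ M, ⁅⁅a, c⁆, m⁆ ∈ N := by
    have hq : ∀ a ∈ Q, ∀ m ∈ M, ⁅a, m⁆ ∈ N := fun a ha m hm => by
      have h1 : ⁅m, a⁆ ∈ N := Subgroup.mem_inf.2 ⟨hMQ (Subgroup.commutator_mem_commutator hm ha),
        commutator_le_of_le_normalizer (hQL.trans hLM) (Subgroup.commutator_mem_commutator hm ha)⟩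
      rw [← commutatorElement_inv]; exact inv_mem h1
    intro a ha c hc m hm
    have hcM : ∀ x ∈ M, c * x * c⁻¹ ∈ M := fun x hx => (Subgroup.mem_normalizer_iff.1 (le_normalizer_pCoreOf C hc) x).1 hx
    have hcM' : ∀ x ∈ M, c⁻¹ * x * c ∈ M := fun x hx => by
      have := (Subgroup.mem_normalizer_iff.1 (le_normalizer_pCoreOf C (inv_mem hc)) x).1 hx
      simpa using this
    -- `[[a, c], m] = a [(c a⁻¹ c⁻¹), m] a⁻¹ * [a, m]`
    have h2 : ⁅c * a⁻¹ * c⁻¹, m⁆ ∈ N := by
      rw [show ⁅c * a⁻¹ * c⁻¹, m⁆ = c * ⁅a⁻¹, c⁻¹ * m * c⁆ * c⁻¹ by simp [commutatorElement_def, mul_assoc]]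
      exact (Subgroup.mem_normalizer_iff.1 (hCN hc) _).1 (hq _ (inv_mem ha) _ (hcM' m hm))
    rw [show ⁅⁅a, c⁆, m⁆ = a * ⁅c * a⁻¹ * c⁻¹, m⁆ * a⁻¹ * ⁅a, m⁆ by simp [commutatorElement_def, mul_assoc]]
    exact mul_mem ((Subgroup.mem_normalizer_iff.1 (hQN ha) _).1 h2) (hq a ha m hm)
  have hQCC : ⁅Q, C⁆ ≤ C := commutator_le_of_le_normalizer' (hQL.trans hLC)
  have hstab : ∀ x ∈ ⁅Q, C⁆, ∀ m ∈ M, ⁅x, m⁆ ∈ N := by
    intro x hx
    rw [Subgroup.commutator_def] at hx
    have hgood : x ∈ C ∧ ∀ m ∈ M, ⁅x, m⁆ ∈ N := by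
      induction hx using Subgroup.closure_induction with
      | mem y hy =>
        obtain ⟨a, ha, c, hc, rfl⟩ := hy
        exact ⟨hQCC (Subgroup.commutator_mem_commutator ha hc), hact a ha c hc⟩
      | one => exact ⟨one_mem _, fun m _ => by simp⟩
      | mul y z _ _ hy hz =>
        refine ⟨mul_mem hy.1 hz.1, fun m hm => ?_⟩
        rw [show ⁅y * z, m⁆ = y * ⁅z, m⁆ * y⁻¹ * ⁅y, m⁆ by simp [commutatorElement_def, mul_assoc]]
        exact mul_mem ((Subgroup.mem_normalizer_iff.1 (hCN hy.1) _).1 (hz.2 m hm)) (hy.2 m hm)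
      | inv y _ hy =>
        refine ⟨inv_mem hy.1, fun m hm => ?_⟩
        rw [show ⁅y⁻¹, m⁆ = y⁻¹ * ⁅y, m⁆⁻¹ * y⁻¹⁻¹ by simp [commutatorElement_def, mul_assoc]]
        exact (Subgroup.mem_normalizer_iff.1 (hCN (inv_mem hy.1)) _).1 (inv_mem (hy.2 m hm))
    exact hgood.2
  have hDp : IsPGroup p ↥⁅Q, C⁆ := by
    refine isPGroup_of_pResOf_eq_bot ?_
    rw [eq_bot_iff, pResOf_le_iff]
    intro x hx hc
    have hxC := hQCC hx
    have hxM : ∀ m ∈ M, Commute x m := fun m hm =>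
      commute_mem_of_coprime_stab (pCoreOf_isPGroup L) hc (Subgroup.mem_inf.1 (hstab x hx m hm)).1
        (Subgroup.mem_centralizer_singleton_iff.2
          (Subgroup.mem_centralizer_iff.1 hxC _ (Subgroup.mem_inf.1 (hstab x hx m hm)).1))
    have hxW : Subgroup.zpowers x ≤ Subgroup.centralizer (Cfsg.pCoreOf p K : Set G) :=
      centralizes_core_of_le (pCoreOf_isPGroup L) hc hxC hxM R hRL
    obtain ⟨k, hk⟩ := pCoreOf_isPGroup (p := p) K ⟨x, hK (Subgroup.mem_inf.2 ⟨hCK hxC, Subgroup.zpowers_le.1 hxW⟩)⟩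
    exact eq_one_of_coprime_of_pow hc (congrArg Subtype.val hk)
  have hDM : ⁅Q, C⁆ ≤ M := le_pCoreOf hQCC (le_normalizer_commutator_right Q C) hDp
  have hCnQ : C ≤ Subgroup.normalizer (Q : Set G) := by
    intro c hc
    refine conjS_eq_self_iff.1 (hwc (⁅Q, C⁆ ⊔ Q)
      (hDp.to_sup_of_normal_left' hQp (le_normalizer_commutator_left Q C)) le_sup_right c ?_)
    intro y hy
    have hq := mem_conjS.1 hy
    rw [show y = ⁅c⁻¹ * y * c, c⁆⁻¹ * (c⁻¹ * y * c) by simp [commutatorElement_def, mul_assoc]]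
    exact mul_mem (Subgroup.mem_sup_left (inv_mem (Subgroup.commutator_mem_commutator hq hc))) (Subgroup.mem_sup_right hq)
  have hle : ⁅Q, C⁆ ≤ Q ⊓ P := by
    refine le_inf (commutator_le_of_le_normalizer hCnQ) ?_
    refine le_trans (le_inf ((commutator_le_of_le_normalizer hCnQ).trans hQL) hDM) ?_
    exact le_pCoreOf inf_le_left (le_normalizer_inf Subgroup.le_normalizer hLM) (pCoreOf_isPGroup C).to_inf_right
  refine ⟨hle, isPGroup_of_pResOf_eq_bot ?_⟩
  rw [eq_bot_iff, pResOf_le_iff]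
  intro x hx hc
  have hxQ : x ∈ Subgroup.centralizer (Q : Set G) := by
    rw [Subgroup.mem_centralizer_iff]
    intro a ha
    have hm : x * a * x⁻¹ * a⁻¹ ∈ Q ⊓ P := by
      refine hle ?_
      rw [Subgroup.commutator_comm]
      exact Subgroup.commutator_mem_commutator hx ha
    exact (commute_mem_of_coprime_stab (pCoreOf_isPGroup L) hc (Subgroup.mem_inf.1 hm).2
      (Subgroup.mem_centralizer_singleton_iff.2
        (Subgroup.mem_centralizer_iff.1 hx _ (Subgroup.mem_inf.1 hm).2))).symm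
  obtain ⟨k, hk⟩ := hQp ⟨x, hCQ hxQ⟩
  exact eq_one_of_coprime_of_pow hc (congrArg Subtype.val hk)

/-- Let Q be a nontrivial p-subgroup of the finite group H that is a weakly closed subgroup with C_H(Q) ≤ Q, and Q ≤ L ≤ H. Suppose H has characteristic p, or more generally that C_H(y) has characteristic p for some nonidentity y ∈ C_{O_p(L)}(Q). Then [Q, C_H(O_p(L))] ≤ Q ∩ O_p(L), C_H(O_p(L)) is a p-group, and L has characteristic p. -/
theorem result {H : Type*} [Group H] [Finite H] {p : ℕ} [Fact p.Prime] (Q : Subgroup H) (hQp : IsPGroup p ↥Q) (hQ1 : Q ≠ ⊥) (hwc : Cfsg.IsWeaklyClosedSubgroup p Q) (hCQ : Subgroup.centralizer ((Q : Subgroup H) : Set H) ≤ Q) (L : Subgroup H) (hQL : Q ≤ L) (hyp : Subgroup.centralizer (Cfsg.pCore p H : Set H) ≤ Cfsg.pCore p H ∨ ∃ y : H, y ≠ 1 ∧ y ∈ (Cfsg.pCoreOf p L) ⊓ Subgroup.centralizer ((Q : Subgroup H) : Set H) ∧ Subgroup.centralizer (Cfsg.pCore p ↥(Subgroup.centralizer ({y} : Set H)) : Set ↥(Subgroup.centralizer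 ({y} : Set H))) ≤ Cfsg.pCore p ↥(Subgroup.centralizer ({y} : Set H))) : ⁅Q, Subgroup.centralizer (((Cfsg.pCoreOf p L) : Subgroup H) : Set H)⁆ ≤ Q ⊓ (Cfsg.pCoreOf p L) ∧ IsPGroup p ↥(Subgroup.centralizer (((Cfsg.pCoreOf p L) : Subgroup H) : Set H)) ∧ Subgroup.centralizer (Cfsg.pCore p ↥L : Set ↥L) ≤ Cfsg.pCore p ↥L := by
  have h := (wc_iff hQp).1 hwc
  have hmain : ⁅Q, Subgroup.centralizer (Cfsg.pCoreOf p L : Set H)⁆ ≤ Q ⊓ Cfsg.pCoreOf p L ∧
      IsPGroup p ↥(Subgroup.centralizer (Cfsg.pCoreOf p L : Set H)) := by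
    rcases hyp with hH | ⟨y, -, hy, hch⟩
    · refine commutator_core hQp hQ1 h hCQ hQL (R := ⊥) bot_le ?_
      rw [show Subgroup.centralizer ((⊥ : Subgroup H) : Set H) = ⊤ from
        eq_top_iff.2 fun g _ => Subgroup.mem_centralizer_iff.2 fun b hb => by rw [Subgroup.mem_bot.1 hb]; simp,
        pCoreOf_top, top_inf_eq]
      exact hH
    · refine commutator_core hQp hQ1 h hCQ hQL (R := Subgroup.zpowers y)
        (Subgroup.zpowers_le.2 (Subgroup.mem_inf.1 hy).1) ?_
      rw [Subgroup.zpowers_eq_closure, Subgroup.centralizer_closure]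
      exact (hasCharP_iff_core _).2 hch
  refine ⟨hmain.1, hmain.2, (hasCharP_iff_core L).1 ?_⟩
  exact le_pCoreOf inf_le_left
    (le_normalizer_inf Subgroup.le_normalizer (le_normalizer_centralizer (le_normalizer_pCoreOf L)))
    hmain.2.to_inf_right

end Cfsg.Agent.S2842
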