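import Cfsg.Statements.S2843
import Cfsg.Agent.Lib.LocalEven.WeaklyClosed

set_option autoImplicit false
open Cfsg Cfsg.Agent Cfsg.Agent.Lib.LocalEven
open scoped commutatorElement

namespace Cfsg.Agent.S2843

/-- Let Q be a nontrivial large p-subgroup of the finite group H, Q ≤ L ≤ H, and Y a nontrivial p-subgroup of H normalized by L. Let L° be the weak closure of Q in L (generated by the conjugates of Q inside L). Then L° equals the weak closure of Q in L·C_H(Y), and [L°, C_H(Y)] ≤ O_p(L°); in particular C_H(Y) normalizes L°. -/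
theorem result {H : Type*} [Group H] [Finite H] {p : ℕ} [Fact p.Prime] (Q : Subgroup H) (hQp : IsPGroup p ↥Q) (hQ1 : Q ≠ ⊥) (hL : Cfsg.IsLarge Q) (L : Subgroup H) (hQL : Q ≤ L) (Y : Subgroup H) (hYp : IsPGroup p ↥Y) (hY1 : Y ≠ ⊥) (hLY : L ≤ Subgroup.normalizer ((Y : Subgroup H) : Set H)) : Cfsg.weakClosure Q L = Cfsg.weakClosure Q (L ⊔ Subgroup.centralizer ((Y : Subgroup H) : Set H)) ∧ ⁅Cfsg.weakClosure Q L, Subgroup.centralizer ((Y : Subgroup H) : Set H)⁆ ≤ (Cfsg.pCoreOf p (Cfsg.weakClosure Q L)) ∧ Subgroup.centralizer ((Y : Subgroup H) : Set H) ≤ Subgroup.normalizer (((Cfsg.weakClosure Q L) : Subgroup H) : Set H) := by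
  have h := IsLarge_wc hL hQp hQ1
  set C := Subgroup.centralizer (Y : Set H) with hC
  have hLC : L ≤ Subgroup.normalizer (C : Set H) := le_normalizer_centralizer hLY
  have hCn : ∀ l ∈ L, C ≤ Subgroup.normalizer (conjS l Q : Set H) := fun l hl =>
    centralizer_le_normalizer_of_large (IsLarge_conj hL l) (hQp.map _) hYp hY1
      ((conjS_le_of_mem hQL hl).trans hLY)
  have hW := weakClosure_eq_iSup h hQp hQL
  have h1 : Cfsg.weakClosure Q (L ⊔ C) = Cfsg.weakClosure Q L := by
    refine le_antisymm (iSup_le fun g => ?_) (iSup_le fun g => conjS_le_weakClosure (g.2.trans le_sup_left))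
    obtain ⟨k, hk, e⟩ := h.exists_conj hQp (hQL.trans le_sup_left) g.2
    rw [← SetLike.mem_coe, Subgroup.coe_mul_of_left_le_normalizer_right L C hLC] at hk
    obtain ⟨l, hl, c, hc, rfl⟩ := hk
    have h2 := hCn 1 (one_mem L)
    rw [conjS_one] at h2
    rw [map_conj_eq, e, conjS_mul, conjS_eq_self_iff.2 (h2 hc)]
    exact conjS_le_weakClosure (conjS_le_of_mem hQL hl)
  have hCW : C ≤ Subgroup.normalizer ((Cfsg.weakClosure Q L : Subgroup H) : Set H) := by
    rw [le_normalizer_iff_forall]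
    intro c hc
    rw [hW, conjS_iSup]
    exact iSup_congr fun k => conjS_eq_self_iff.2 (hCn k k.2 hc)
  refine ⟨h1.symm, ?_, hCW⟩
  set W := Cfsg.weakClosure Q L with hWdef
  have hWL : W ≤ L := weakClosure_le Q L
  have hLP : L ≤ Subgroup.normalizer ((Cfsg.pCoreOf p C : Subgroup H) : Set H) := by
    rw [le_normalizer_iff_forall]
    intro g hg
    rw [conjS_pCoreOf, conjS_eq_self_iff.2 (hLC hg)]
  have h2 : ⁅W, C⁆ ≤ Cfsg.pCoreOf p C := by
    rw [hW]
    refine commutator_iSup_le (fun k => (conjS_le_of_mem hQL k.2).trans hLP) fun k => ?_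
    refine le_trans (le_inf (commutator_le_of_le_normalizer (hCn k k.2))
      (commutator_le_of_le_normalizer' ((conjS_le_of_mem hQL k.2).trans hLC))) ?_
    exact le_pCoreOf inf_le_right (le_normalizer_inf (hCn k k.2) Subgroup.le_normalizer)
      (hQp.map _).to_inf_left
  exact le_pCoreOf (commutator_le_of_le_normalizer hCW) (le_normalizer_commutator_left W C)
    ((pCoreOf_isPGroup C).to_le h2)

end Cfsg.Agent.S2843
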