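import Cfsg.Statements.S2844
import Cfsg.Agent.Lib.LocalEven.WeaklyClosed

set_option autoImplicit false
open Cfsg Cfsg.Agent Cfsg.Agent.Lib.LocalEven
open scoped commutatorElement

namespace Cfsg.Agent.S2844

/-- Let Q be a nontrivial large p-subgroup of the finite group H and Q• = O_p(N_H(Q)). Then for every g ∈ H outside N_H(Q): C_H(Q) ∩ C_H(gQg⁻¹) = 1, C_H(Q•) ∩ C_H(gQ•g⁻¹) = 1, Z(Q) ∩ Z(gQg⁻¹) = 1 and Z(Q•) ∩ Z(gQ•g⁻¹) = 1; moreover N_H(Q) = N_H(Q•) and Q• is large in H. -/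
theorem result {H : Type*} [Group H] [Finite H] {p : ℕ} [Fact p.Prime] (Q : Subgroup H) (hQp : IsPGroup p ↥Q) (hQ1 : Q ≠ ⊥) (hL : Cfsg.IsLarge Q) (Qb : Subgroup H) (hQb : Qb = Cfsg.largeBullet p Q) : (∀ g : H, g ∉ Subgroup.normalizer ((Q : Subgroup H) : Set H) → Subgroup.centralizer ((Q : Subgroup H) : Set H) ⊓ Subgroup.centralizer ((((Q : Subgroup H).map (MulAut.conj (g : H)).toMonoidHom) : Subgroup H) : Set H) = ⊥ ∧ Subgroup.centralizer ((Qb : Subgroup H) : Set H) ⊓ Subgroup.centralizer ((((Qb : Subgroup H).map (MulAut.conj (g : H)).toMonoidHom) : Subgroup H) : Set H) = ⊥ ∧ (Q ⊓ Subgroup.centralizer ((Q : Subgroup H) : Set H)) ⊓ (((Q : Subgroup H).map (MulAut.conj (g : H)).toMonoidHom) ⊓ Subgroup.centralizer ((((Q : Subgroup H).map (MulAut.conj (g : H)).toMonoidHom) : Subgroup H) : Set H)) = ⊥ ∧ (Qb ⊓ Subgroup.centralizer ((Qb : Subgroup H) : Set H)) ⊓ (((Qb : Subgroup H).map (MulAut.conj (g : H)).toMonoidHom)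 ⊓ Subgroup.centralizer ((((Qb : Subgroup H).map (MulAut.conj (g : H)).toMonoidHom) : Subgroup H) : Set H)) = ⊥) ∧ Subgroup.normalizer ((Q : Subgroup H) : Set H) = Subgroup.normalizer ((Qb : Subgroup H) : Set H) ∧ Cfsg.IsLarge Qb := by
  simp only [map_conj_eq]
  have hw := IsLarge_wc hL hQp hQ1
  have hQQb : Q ≤ Qb := hQb ▸ le_pCoreOf Subgroup.le_normalizer le_rfl hQp
  have hQbp : IsPGroup p Qb := hQb ▸ pCoreOf_isPGroup _
  have hN : Subgroup.normalizer (Q : Set H) = Subgroup.normalizer (Qb : Set H) := by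
    refine le_antisymm ?_ (hw.le_normalizer hQbp hQQb)
    rw [le_normalizer_iff_forall]
    intro g hg
    rw [hQb, Cfsg.largeBullet, conjS_pCoreOf, conjS_mem_eq_self hg]
  have hCb : Subgroup.centralizer (Qb : Set H) ≤ Subgroup.centralizer (Q : Set H) :=
    Subgroup.centralizer_le hQQb
  refine ⟨fun g hg => ?_, hN, (hCb.trans hL.1).trans hQQb, fun U hU hU1 => hN ▸ hL.2 U (hU.trans hCb) hU1⟩
  have h1 : Subgroup.centralizer (Q : Set H) ⊓ Subgroup.centralizer (conjS g Q : Set H) = ⊥ := by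
    by_contra hne
    exact hg (conjS_eq_self_iff.1 (eq_of_large_centralizer hL hQp hQ1 hne))
  have h2 : Subgroup.centralizer (Qb : Set H) ⊓ Subgroup.centralizer (conjS g Qb : Set H) = ⊥ := by
    rw [← le_bot_iff, ← h1]
    exact inf_le_inf hCb (Subgroup.centralizer_le (conjS_mono g hQQb))
  refine ⟨h1, h2, ?_, ?_⟩
  · rw [← le_bot_iff, ← h1]; exact inf_le_inf inf_le_right inf_le_right
  · rw [← le_bot_iff, ← h2]; exact inf_le_inf inf_le_right inf_le_right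

end Cfsg.Agent.S2844
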