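import Cfsg.Statements.S2846
import Cfsg.Agent.Lib.LocalEven.FrakMExists
import Cfsg.Agent.S2845
import Cfsg.Agent.S2843

set_option autoImplicit false
open Cfsg Cfsg.Agent Cfsg.Agent.Lib Cfsg.Agent.Lib.LocalEven
open scoped commutatorElement

namespace Cfsg.Agent.S2846

/-- Let Q be a nontrivial large p-subgroup of the finite group H, S a Sylow p-subgroup containing Q, and L a subgroup containing S with O_p(L) ≠ 1 and C_H(O_p(L)) ≤ O_p(L). Then there are a subgroup M containing S having the basic property (M ∈ 𝔐_H, writing Y_X for the largest p-reduced normal subgroup of X and 𝓛_H for the set of subgroups X with O_p(X) ≠ 1 and C_H(O_p(X)) ≤ O_p(X): M ∈ 𝓛_H, M·C_H(Y_M) is the only maximal member of 𝓛_H containing M and its largest p-reduced normal subgroup is again Y_M, C_M(Y_M) is p-closed, and the image of C_M(Y_M) in M/O_p(M) lies in the Frattini subgroup of M/O_p(M)) and a subgroup L* with S ≤ L* ≤ M, O_p(L*) ≠ 1, C_H(O_p(L*))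 ≤ O_p(L*), such that L·C_H(Y_L) = L*·C_H(Y_L), the weak closures of Q in L and in L* agree and lie in that of M, and Y_L = Y_{L*} ≤ Y_M. If moreover Q is not normal in L, then Q is normal in neither L* nor M. -/
theorem result {H : Type*} [Group H] [Finite H] {p : ℕ} [Fact p.Prime] (Q : Subgroup H) (hQp : IsPGroup p ↥Q) (hQ1 : Q ≠ ⊥) (hLg : Cfsg.IsLarge Q) (S : Sylow p H) (hQS : Q ≤ (S : Subgroup H)) (L : Subgroup H) (hSL : (S : Subgroup H) ≤ L) (hL : L ∈ Cfsg.charPSubgroups p H) : ∃ M Ls : Subgroup H, (S : Subgroup H) ≤ M ∧ Cfsg.IsInFrakM p M ∧ (S : Subgroup H) ≤ Ls ∧ Ls ≤ M ∧ Ls ∈ Cfsg.charPSubgroups p H ∧ L ⊔ Subgroup.centralizer (((Cfsg.largestPReducedOf p L) : Subgroup H) : Set H) = Ls ⊔ Subgroup.centralizer (((Cfsg.largestPReducedOf p L) : Subgroup H) : Set H) ∧ Cfsg.weakClosure Q L = Cfsg.weakClosure Q Ls ∧ Cfsg.weakClosure Q Ls ≤ Cfsg.weakClosure Q M ∧ (Cfsg.largestPReducedOf p L) = (Cfsg.largestPReducedOf p Ls) ∧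 (Cfsg.largestPReducedOf p Ls) ≤ (Cfsg.largestPReducedOf p M) ∧ (¬ L ≤ Subgroup.normalizer ((Q : Subgroup H) : Set H) → ¬ Ls ≤ Subgroup.normalizer ((Q : Subgroup H) : Set H) ∧ ¬ M ≤ Subgroup.normalizer ((Q : Subgroup H) : Set H)) := by
  have hH : Cfsg.IsOfParabolicCharacteristic p H := (Cfsg.Agent.S2845.result Q hQp hQ1 hLg).2.2
  obtain ⟨M, Ls, hM, hfr, hLs, hle, hLsc, hYe, hYM, hC⟩ := exists_frakM hH S hSL hL
  have hQL : Q ≤ L := hQS.trans hSL
  have hQLs : Q ≤ Ls := hQS.trans hLs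
  set Y := Cfsg.largestPReducedOf p L with hY
  have hYp : IsPGroup p Y := S.isPGroup'.to_le (largestPReducedOf_le_sylow S hSL)
  have hY1 : Y ≠ ⊥ := largestPReducedOf_ne_bot S hSL hL
  have hw1 := (Cfsg.Agent.S2843.result Q hQp hQ1 hLg L hQL Y hYp hY1 (largestPReducedOf_redIn L).normal).1
  have hw2 := (Cfsg.Agent.S2843.result Q hQp hQ1 hLg Ls hQLs Y hYp hY1
    (hYe.symm ▸ (largestPReducedOf_redIn Ls).normal)).1
  have hw : Cfsg.weakClosure Q L = Cfsg.weakClosure Q Ls := by rw [hw1, hC, ← hw2]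
  have hwc := IsLarge_wc hLg hQp hQ1
  have hwM : Cfsg.weakClosure Q Ls ≤ Cfsg.weakClosure Q M :=
    iSup_le fun g => conjS_le_weakClosure (le_trans g.2 hle)
  refine ⟨M, Ls, hM, hfr, hLs, hle, hLsc, hC, hw, hwM, hYe, hYe ▸ hYM, fun hn => ?_⟩
  have key : ¬ Ls ≤ Subgroup.normalizer ((Q : Subgroup H) : Set H) := by
    intro h
    refine hn fun l hl => conjS_eq_self_iff.1 (Subgroup.eq_of_le_of_card_ge ?_ (by rw [card_conjS]))
    have h1 : conjS l Q ≤ Cfsg.weakClosure Q L := conjS_le_weakClosure (conjS_le_of_mem hQL hl)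
    rw [hw, weakClosure_eq_iSup hwc hQp hQLs] at h1
    exact h1.trans (iSup_le fun k => (conjS_eq_self_iff.2 (h k.2)).le)
  exact ⟨key, fun h => key (hle.trans h)⟩

end Cfsg.Agent.S2846
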