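import Cfsg.Statements.S2848
import Cfsg.Agent.Lib.LocalEven.WeaklyClosed

set_option autoImplicit false
open Cfsg Cfsg.Agent Cfsg.Agent.Lib.LocalEven
open scoped commutatorElement

namespace Cfsg.Agent.S2848

/-- Standing hypotheses: G a finite group, S a Sylow p-subgroup, Q a nontrivial large p-subgroup of G contained in S (C_G(Q) ≤ Q and N_G(U) ≤ N_G(Q) for all nontrivial U ≤ C_G(Q)), and M a subgroup containing S with the basic property (M ∈ 𝔐_G(S)); Y_M denotes the largest p-reduced normal subgroup of M and M† = M·C_G(Y_M). Then O_p(M) is a weakly closed subgroup of M† (for p): it is the only M†-conjugate of itself inside some Sylow p-subgroup of M† containing it. -/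
theorem result {G : Type*} [Group G] [Finite G] {p : ℕ} [Fact p.Prime] (S : Sylow p G) (Q : Subgroup G) (hQp : IsPGroup p ↥Q) (hQ1 : Q ≠ ⊥) (hQS : Q ≤ (S : Subgroup G)) (hQ : Cfsg.IsLarge Q) (M : Subgroup G) (hSM : (S : Subgroup G) ≤ M) (hM : Cfsg.IsInFrakM p M) : Cfsg.IsWeaklyClosedSubgroup p (((Cfsg.pCoreOf p M)).subgroupOf (M ⊔ Subgroup.centralizer (((Cfsg.largestPReducedOf p M) : Subgroup G) : Set G))) := by
  set Y := Cfsg.largestPReducedOf p M with hY
  set C := Subgroup.centralizer (Y : Set G) with hC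
  set O := Cfsg.pCoreOf p M with hO
  have hYr : RedIn p Y M := largestPReducedOf_redIn M
  have hSs : IsSylowOf p (S : Subgroup G) M := (isSylowOf_top S).mono hSM le_top
  have hOS : O ≤ (S : Subgroup G) := hSs.pCoreOf_le
  have hcl : Cfsg.IsPClosed p ↥(M ⊓ C) := hM.2.2.2.2.1
  have hnMC : M ≤ Subgroup.normalizer ((M ⊓ C : Subgroup G) : Set G) :=
    le_normalizer_inf Subgroup.le_normalizer (le_normalizer_centralizer hYr.normal)
  have hs : IsSylowOf p ((S : Subgroup G) ⊓ (M ⊓ C)) (M ⊓ C) := hSs.inf_normal inf_le_left hnMC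
  have h1 : (S : Subgroup G) ⊓ (M ⊓ C) ≤ O := by
    obtain ⟨P, hP⟩ := hs.exists_sylow
    have hPn : (P : Subgroup ↥(M ⊓ C)).Normal := hcl P
    rw [← hP]
    refine le_trans ?_ (le_of_eq_of_le rfl (le_pCoreOf (N := Cfsg.pCoreOf p (M ⊓ C)) (H := M)
      ((pCoreOf_le _).trans inf_le_left) ?_ (pCoreOf_isPGroup _)))
    · exact Subgroup.map_mono (le_pCore hPn P.isPGroup')
    · rw [le_normalizer_iff_forall]
      intro g hg
      rw [conjS_pCoreOf, conjS_eq_self_iff.2 (hnMC hg)]
  have hOeq : O = (S : Subgroup G) ⊓ C := le_antisymm (le_inf hOS hYr.pCoreOf_le_centralizer)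
    (le_trans (le_inf inf_le_left (le_inf (inf_le_left.trans hSM) inf_le_right)) h1)
  set K := M ⊔ C with hK
  obtain ⟨P, hP⟩ := ((isSylowOf_top S).mono (hSM.trans (le_sup_left : M ≤ K)) le_top).exists_sylow
  have hOK : O ≤ K := (pCoreOf_le M).trans le_sup_left
  refine ⟨P, ?_, fun g hg => ?_⟩
  · rw [← Subgroup.map_le_map_iff_of_injective K.subtype_injective, Subgroup.map_subgroupOf_eq_of_le hOK, hP]
    exact hOS
  · rw [map_conj_eq] at hg ⊢
    refine Subgroup.map_injective K.subtype_injective ?_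
    rw [map_conjS, Subgroup.map_subgroupOf_eq_of_le hOK]
    have h2 : conjS (g : G) O ≤ (S : Subgroup G) := by
      have := Subgroup.map_mono (f := K.subtype) hg
      rwa [map_conjS, Subgroup.map_subgroupOf_eq_of_le hOK, hP] at this
    have h3 : conjS (g : G) O ≤ C := by
      refine (conjS_mono _ hYr.pCoreOf_le_centralizer).trans (conjS_eq_self_iff.2 ?_).le
      exact (sup_le (le_normalizer_centralizer hYr.normal) Subgroup.le_normalizer :
        K ≤ Subgroup.normalizer (C : Set G)) g.2
    exact Subgroup.eq_of_le_of_card_ge ((le_inf h2 h3).trans hOeq.ge) (by rw [Subgroup.coe_subtype, card_conjS])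

end Cfsg.Agent.S2848
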