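import Cfsg.Statements.S2849
import Cfsg.Agent.Lib.LocalEven.WeaklyClosed

set_option autoImplicit false
open Cfsg Cfsg.Agent Cfsg.Agent.Lib.LocalEven
open scoped commutatorElement

namespace Cfsg.Agent.S2849

/-- Standing hypotheses: G a finite group, S a Sylow p-subgroup, Q a nontrivial large p-subgroup of G contained in S (C_G(Q) ≤ Q and N_G(U) ≤ N_G(Q) for all nontrivial U ≤ C_G(Q)), and M a subgroup containing S with the basic property (M ∈ 𝔐_G(S)); Y_M denotes the largest p-reduced normal subgroup of M and M† = M·C_G(Y_M). Suppose Y_M is asymmetric in G. Then for every subgroup R with Y_M ≤ R ≤ M†, the normal closure of Y_M in N_G(R) is elementary abelian. -/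
theorem result {G : Type*} [Group G] [Finite G] {p : ℕ} [Fact p.Prime] (S : Sylow p G) (Q : Subgroup G) (hQp : IsPGroup p ↥Q) (hQ1 : Q ≠ ⊥) (hQS : Q ≤ (S : Subgroup G)) (hQ : Cfsg.IsLarge Q) (M : Subgroup G) (hSM : (S : Subgroup G) ≤ M) (hM : Cfsg.IsInFrakM p M) (hasym : ¬ Cfsg.IsSymmetricIn (Cfsg.largestPReducedOf p M)) (R : Subgroup G) (hYR : (Cfsg.largestPReducedOf p M) ≤ R) (hRM : R ≤ (M ⊔ Subgroup.centralizer (((Cfsg.largestPReducedOf p M) : Subgroup G) : Set G))) : Cfsg.IsElementaryAbelian p ((Subgroup.normalClosure ((((Cfsg.largestPReducedOf p M)).subgroupOf (Subgroup.normalizer ((R : Subgroup G) : Set G)) : Subgroup ↥(Subgroup.normalizer ((R : Subgroup G) : Set G))) : Set ↥(Subgroup.normalizer ((R : Subgroup G) : Set G)))).map (Subgroup.normalizer ((R : Subgroup G) : Set G)).subtype) := by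
  set Y := Cfsg.largestPReducedOf p M with hY
  have hYr : RedIn p Y M := largestPReducedOf_redIn M
  set N := Subgroup.normalizer (R : Set G) with hN
  set V := (Subgroup.normalClosure ((Y.subgroupOf N : Subgroup ↥N) : Set ↥N)).map N.subtype with hV
  have hYN : Y ≤ N := hYR.trans Subgroup.le_normalizer
  have hRY : R ≤ Subgroup.normalizer (Y : Set G) :=
    hRM.trans (sup_le hYr.normal (Subgroup.centralizer_le_normalizer _))
  have key : ∀ n ∈ N, ⁅Y, conjS n Y⁆ = ⊥ := by
    intro n hn
    have h1 : conjS n Y ≤ R := (conjS_mono n hYR).trans (conjS_eq_self_iff.2 hn).le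
    have h2 : R ≤ Subgroup.normalizer (conjS n Y : Set G) := by
      have := conjS_mono n hRY
      rwa [conjS_eq_self_iff.2 hn, conjS_normalizer] at this
    by_contra hne
    exact hasym ⟨n, hne, le_inf (commutator_le_of_le_normalizer (h1.trans hRY))
      (commutator_le_of_le_normalizer' (hYR.trans h2))⟩
  have hc : ∀ a ∈ N, ∀ b ∈ N, conjS a Y ≤ Subgroup.centralizer (conjS b Y : Set G) := by
    intro a ha b hb
    rw [le_centralizer_iff_commutator, show b = a * (a⁻¹ * b) by group, conjS_mul, ← conjS_commutator,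
      key _ (mul_mem (inv_mem ha) hb), conjS, Subgroup.map_bot]
  refine elemAb_mono (V := ⨆ n : N, conjS (n : G) Y) ?_ ?_
  · rw [Subgroup.iSup_eq_closure]
    refine elemAb_closure ?_ ?_
    · intro a ha b hb
      obtain ⟨i, hi⟩ := Set.mem_iUnion.1 ha
      obtain ⟨j, hj⟩ := Set.mem_iUnion.1 hb
      exact Subgroup.mem_centralizer_iff.1 (hc j j.2 i i.2 hj) a hi
    · intro a ha
      obtain ⟨i, hi⟩ := Set.mem_iUnion.1 ha
      rw [SetLike.mem_coe, mem_conjS] at hi
      have := hYr.elem.2 _ hi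
      rwa [show (i : G)⁻¹ * a * (i : G) = (i : G)⁻¹ * a * ((i : G)⁻¹)⁻¹ by group, conj_pow,
        conj_eq_one_iff] at this
  · rw [hV, Subgroup.normalClosure, MonoidHom.map_closure, Subgroup.closure_le]
    rintro _ ⟨x, hx, rfl⟩
    obtain ⟨y, hy, hyx⟩ := Group.mem_conjugatesOfSet_iff.1 hx
    obtain ⟨c, rfl⟩ := isConj_iff.1 hyx
    refine le_iSup (fun n : N => conjS (n : G) Y) c ?_
    exact conj_mem_conjS (show (y : G) ∈ Y from hy)

end Cfsg.Agent.S2849
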