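import Cfsg.Statements.S2850
import Cfsg.Agent.Lib.LocalEven.Asymmetric

set_option autoImplicit false
open Cfsg Cfsg.Agent Cfsg.Agent.Lib Cfsg.Agent.Lib.LocalEven
open scoped commutatorElement

namespace Cfsg.Agent.S2850

/-- Standing hypotheses: G a finite group, S a Sylow p-subgroup, Q a nontrivial large p-subgroup of G contained in S (C_G(Q) ≤ Q and N_G(U) ≤ N_G(Q) for all nontrivial U ≤ C_G(Q)), and M a subgroup containing S with the basic property (M ∈ 𝔐_G(S)); Y_M denotes the largest p-reduced normal subgroup of M and M† = M·C_G(Y_M). Suppose Y_M is asymmetric in G. Then N_G(L) ≤ N_G(O_p(M)) ≤ M† for every p-subgroup L containing O_p(M); O_p(M) is a weakly closed subgroup of G; for every subgroup L containing O_p(M), L ∩ M† contains a Sylow p-subgroup of L; and two elements of Y_M conjugate in G are conjugate in M. -/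
theorem result {G : Type*} [Group G] [Finite G] {p : ℕ} [Fact p.Prime] (S : Sylow p G) (Q : Subgroup G) (hQp : IsPGroup p ↥Q) (hQ1 : Q ≠ ⊥) (hQS : Q ≤ (S : Subgroup G)) (hQ : Cfsg.IsLarge Q) (M : Subgroup G) (hSM : (S : Subgroup G) ≤ M) (hM : Cfsg.IsInFrakM p M) (hasym : ¬ Cfsg.IsSymmetricIn (Cfsg.largestPReducedOf p M)) : (∀ L : Subgroup G, IsPGroup p ↥L → (Cfsg.pCoreOf p M) ≤ L → Subgroup.normalizer ((L : Subgroup G) : Set G) ≤ Subgroup.normalizer (((Cfsg.pCoreOf p M) : Subgroup G) : Set G) ∧ Subgroup.normalizer (((Cfsg.pCoreOf p M) : Subgroup G) : Set G) ≤ (M ⊔ Subgroup.centralizer (((Cfsg.largestPReducedOf p M) : Subgroup G) : Set G))) ∧ Cfsg.IsWeaklyClosedSubgroup p (Cfsg.pCoreOf p M) ∧ (∀ L : Subgroup G, (Cfsg.pCoreOf p M) ≤ L → Cfsg.IsParabolic p ((L ⊓ (M ⊔ Subgroup.centralizer (((Cfsg.largestPReducedOf p M) : Subgroup G) : Set G))).subgroupOf L)) ∧ (∀ x ∈ (Cfsg.largestPReducedOf p M), ∀ g : G, g * x * g⁻¹ ∈ (Cfsg.largestPReducedOf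 p M) → ∃ m ∈ M, m * x * m⁻¹ = g * x * g⁻¹) := by
  have hO : IsPGroup p ↥(Cfsg.pCoreOf p M) := pCoreOf_isPGroup M
  have hwc := asym_wc S hQ hQp hSM hM hasym
  have hNO := frakM_normalizer_pCoreOf_le S hQ hQp hSM hM
  refine ⟨fun L hL hOL => ⟨asym_normalizer_le S hQ hQp hSM hM hasym hL hOL, hNO⟩, (wc_iff hO).2 hwc, ?_, ?_⟩
  · intro L hOL
    obtain ⟨T, hT, hOT⟩ := exists_isSylowOf_le hOL hO
    obtain ⟨P, hP⟩ := hT.exists_sylow
    refine ⟨P, fun x hx => Subgroup.mem_subgroupOf.2 (Subgroup.mem_inf.2 ⟨x.2, hNO ?_⟩)⟩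
    refine hwc.le_normalizer' hT.isPGroup hOT ?_
    rw [← hP]
    exact Subgroup.mem_map_of_mem _ hx
  · intro x hx g hgx
    have hYr : RedIn p (Cfsg.largestPReducedOf p M) M := largestPReducedOf_redIn M
    have hOC : ∀ y ∈ Cfsg.largestPReducedOf p M,
        Cfsg.pCoreOf p M ≤ Subgroup.centralizer ({y} : Set G) := fun y hy =>
      hYr.pCoreOf_le_centralizer.trans (Subgroup.centralizer_le (by simpa using hy))
    have hg : conjS g⁻¹ (Cfsg.pCoreOf p M) ≤ Subgroup.centralizer ({x} : Set G) := by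
      intro z hz
      rw [mem_conjS, inv_inv] at hz
      have h := Subgroup.mem_centralizer_singleton_iff.1 (hOC _ hgx hz)
      rw [Subgroup.mem_centralizer_singleton_iff]
      calc z * x = g⁻¹ * ((g * z * g⁻¹) * (g * x * g⁻¹)) * g := by group
        _ = g⁻¹ * ((g * x * g⁻¹) * (g * z * g⁻¹)) * g := by rw [h]
        _ = x * z := by group
    obtain ⟨k, hk, e⟩ := hwc.exists_conj hO (hOC x hx) hg
    have hn : g * k ∈ Subgroup.normalizer (Cfsg.pCoreOf p M : Set G) := by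
      rw [← conjS_eq_self_iff, conjS_mul, ← e, conjS_cancel_inv]
    have hkx := Subgroup.mem_centralizer_singleton_iff.1 hk
    have hMN : M ≤ Subgroup.normalizer
        (Subgroup.centralizer (Cfsg.largestPReducedOf p M : Set G) : Set G) :=
      le_normalizer_centralizer hYr.normal
    have hgk := hNO hn
    rw [← SetLike.mem_coe, Subgroup.coe_mul_of_left_le_normalizer_right _ _ hMN] at hgk
    obtain ⟨m, hm, c, hc, emc⟩ := Set.mem_mul.1 hgk
    refine ⟨m, hm, ?_⟩
    have hcx := Subgroup.mem_centralizer_iff.1 hc x hx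
    calc m * x * m⁻¹ = m * (x * c) * c⁻¹ * m⁻¹ := by group
      _ = m * (c * x) * c⁻¹ * m⁻¹ := by rw [hcx]
      _ = (m * c) * x * (m * c)⁻¹ := by group
      _ = g * (k * x) * k⁻¹ * g⁻¹ := by rw [emc]; group
      _ = g * (x * k) * k⁻¹ * g⁻¹ := by rw [hkx]
      _ = g * x * g⁻¹ := by group

end Cfsg.Agent.S2850
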