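import Cfsg.Statements.S2851
import Cfsg.Agent.Lib.LocalEven.Asymmetric
import Cfsg.Agent.Lib.LocalEven.FStarAction

set_option autoImplicit false
open Cfsg Cfsg.Agent Cfsg.Agent.Lib Cfsg.Agent.Lib.LocalEven
open scoped commutatorElement

namespace Cfsg.Agent.S2851

/-- Standing hypotheses: G a finite group, S a Sylow p-subgroup, Q a nontrivial large p-subgroup of G contained in S, M a subgroup containing S with the basic property (M ∈ 𝔐_G(S)); Y_M the largest p-reduced normal subgroup of M and M† = M·C_G(Y_M). Let F be the preimage in M† of the generalized Fitting subgroup of M†/C_{M†}(Y_M). If Y_M is asymmetric in G and H is a subgroup of characteristic p containing F, then Y_M ≤ Y_H. -/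
theorem result {G : Type*} [Group G] [Finite G] {p : ℕ} [Fact p.Prime] (S : Sylow p G) (Q : Subgroup G) (hQp : IsPGroup p ↥Q) (hQ1 : Q ≠ ⊥) (hQS : Q ≤ (S : Subgroup G)) (hQ : Cfsg.IsLarge Q) (M : Subgroup G) (hSM : (S : Subgroup G) ≤ M) (hM : Cfsg.IsInFrakM p M) (hasym : ¬ Cfsg.IsSymmetricIn (Cfsg.largestPReducedOf p M)) [hn : ((Subgroup.centralizer (((Cfsg.largestPReducedOf p M) : Subgroup G) : Set G)).subgroupOf (M ⊔ Subgroup.centralizer (((Cfsg.largestPReducedOf p M) : Subgroup G) : Set G))).Normal] (F : Subgroup G) (hF : F = ((Cfsg.generalizedFittingSubgroup (↥(M ⊔ Subgroup.centralizer (((Cfsg.largestPReducedOf p M) : Subgroup G) : Set G)) ⧸ (Subgroup.centralizer (((Cfsg.largestPReducedOf p M) : Subgroup G) : Set G)).subgroupOf (M ⊔ Subgroup.centralizer (((Cfsg.largestPReducedOf p M) : Subgroup G) : Set G)))).comap (QuotientGroup.mk' ((Subgroup.centralizer (((Cfsg.largestPReducedOf p M) : Subgroup G) : Set G)).subgroupOf (M ⊔ Subgroup.centralizer (((Cfsg.largestPReducedOf p M) : Subgroup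 G) : Set G))))).map ((M ⊔ Subgroup.centralizer (((Cfsg.largestPReducedOf p M) : Subgroup G) : Set G))).subtype) (H : Subgroup G) (hFH : F ≤ H) (hH : Subgroup.centralizer (Cfsg.pCore p ↥H : Set ↥H) ≤ Cfsg.pCore p ↥H) : (Cfsg.largestPReducedOf p M) ≤ Cfsg.largestPReducedOf p H := by
  set Y := Cfsg.largestPReducedOf p M with hY
  set C := Subgroup.centralizer (Y : Set G) with hC
  set O := Cfsg.pCoreOf p M with hO
  set K := M ⊔ C with hK
  have hKY : K ≤ Subgroup.normalizer (Y : Set G) := frakM_dagger_le_normalizer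
  have hYK : RedIn p Y K := by
    have h := largestPReducedOf_redIn (p := p) K
    rw [← hM.2.2.2.1] at h
    exact h
  have hwc := asym_wc S hQ hQp hSM hM hasym
  have hNO := frakM_normalizer_pCoreOf_le S hQ hQp hSM hM
  set f := QuotientGroup.mk' (C.subgroupOf K) with hf
  set X := (↥K ⧸ C.subgroupOf K) with hX
  have hker : ∀ x : ↥K, f x = 1 ↔ (x : G) ∈ C := fun x => by
    rw [hf, QuotientGroup.mk'_apply, QuotientGroup.eq_one_iff, Subgroup.mem_subgroupOf]
  haveI := genFitting_normal (X := ↥K ⧸ C.subgroupOf K)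
  have hFK : F ≤ K := hF ▸ Subgroup.map_subtype_le _
  have hKF : K ≤ Subgroup.normalizer (F : Set G) := hF ▸ map_subtype_le_normalizer _
  have hCF : C ≤ F := fun x hx => by
    rw [hF]
    refine ⟨⟨x, le_sup_right (a := M) hx⟩, ?_, rfl⟩
    show f _ ∈ Cfsg.generalizedFittingSubgroup X
    rw [(hker ⟨x, le_sup_right (a := M) hx⟩).2 hx]
    exact one_mem _
  have hOX : Cfsg.pCore p X = ⊥ := by
    haveI := (pCore_normal p X)
    have hD := hYK.red (((Cfsg.pCore p X).comap f).map K.subtype) (Subgroup.map_subtype_le _)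
      (map_subtype_le_normalizer _) (by
        rw [pResOf_le_iff]
        rintro _ ⟨y, hy, rfl⟩ hc
        rw [← hC]
        refine (hker y).1 ?_
        obtain ⟨k, hk⟩ := pCore_isPGroup p X ⟨f y, hy⟩
        refine eq_one_of_coprime_of_pow (Nat.Coprime.coprime_dvd_left ?_ hc) (congrArg Subtype.val hk)
        refine (orderOf_map_dvd f y).trans ?_
        exact (orderOf_injective K.subtype K.subtype_injective y).symm ▸ dvd_rfl)
    rw [eq_bot_iff]
    intro q hq
    obtain ⟨y, rfl⟩ := QuotientGroup.mk'_surjective _ q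
    exact (hker y).2 (hD (Subgroup.mem_map_of_mem _ hq))
  have hTC : ∀ T : Subgroup G, T ≤ K → IsPGroup p T → ⁅F, T⁆ ≤ C → T ≤ C := by
    intro T hTK hT hc
    have h := eq_bot_of_centralizes_genFitting hOX (Y := (T.subgroupOf K).map f)
      (hT.comap_subtype.map _) (by
        rintro _ ⟨t, ht, rfl⟩
        rw [Subgroup.mem_centralizer_iff]
        intro a ha
        obtain ⟨b, rfl⟩ := QuotientGroup.mk'_surjective _ a
        have h1 : ((⁅b, t⁆ : ↥K) : G) ∈ C := hc (Subgroup.commutator_mem_commutator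
          (hF ▸ Subgroup.mem_map_of_mem K.subtype ha) (Subgroup.mem_subgroupOf.1 ht))
        have h2 := (hker ⁅b, t⁆).2 h1
        rw [map_commutatorElement] at h2
        exact commutatorElement_eq_one_iff_mul_comm.1 h2)
    intro t ht
    exact (hker ⟨t, hTK ht⟩).1 ((Subgroup.eq_bot_iff_forall _).1 h _
      (Subgroup.mem_map_of_mem f (Subgroup.mem_subgroupOf.2 ht)))
  have hOH : O ≤ H := ((largestPReducedOf_redIn M).pCoreOf_le_centralizer.trans hCF).trans hFH
  have hpO : IsPGroup p O := pCoreOf_isPGroup M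
  obtain ⟨T, hT, hOT⟩ := exists_isSylowOf_le hOH hpO
  have hTK : T ≤ K := (hwc.le_normalizer' hT.isPGroup hOT).trans hNO
  have hN : ∀ N : Subgroup G, N ≤ H → H ≤ Subgroup.normalizer (N : Set G) →
      pResOf p N ≤ C → N ≤ C := by
    intro N hNH hn hres
    have hs := hT.inf_normal hNH hn
    have hFN : F ⊓ N ≤ C := by
      refine hYK.subnormal_le (inf_le_left.trans hFK) ?_ ((pResOf_mono inf_le_right).trans hres)
      refine Subgroup.IsSubnormal.step _ (F.subgroupOf K) (fun x hx => (Subgroup.mem_inf.1 hx).1)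
        (Subgroup.Normal.isSubnormal (subgroupOf_normal_of_le hKF)) ?_
      refine subgroupOf_normal_of_le fun x hx => ?_
      have hx' : (x : G) ∈ F := hx
      have h1 := conjS_eq_self_iff.2 ((le_normalizer_inf Subgroup.le_normalizer (hFH.trans hn)) hx')
      rw [Subgroup.mem_normalizer_iff]
      intro y
      simp only [Subgroup.mem_subgroupOf, Subgroup.coe_mul, Subgroup.coe_inv]
      exact Subgroup.mem_normalizer_iff.1 (conjS_eq_self_iff.1 h1) _
    refine le_of_pResOf_le_of_sylow hs hres (hTC _ (inf_le_left.trans hTK) hs.isPGroup ?_)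
    refine le_trans (le_inf ?_ ?_) hFN
    · exact commutator_le_of_le_normalizer ((inf_le_left.trans hTK).trans hKF)
    · exact (Subgroup.commutator_mono le_rfl inf_le_right).trans
        (commutator_le_of_le_normalizer' (hFH.trans hn))
  have hP : Cfsg.pCoreOf p H ≤ C := hN _ (pCoreOf_le H) (le_normalizer_pCoreOf H)
    (by rw [pResOf_eq_bot_of_isPGroup (pCoreOf_isPGroup H)]; exact bot_le)
  have hYH : Y ≤ H := ((largestPReducedOf_redIn M).le_pCoreOf).trans hOH
  have hYP : Y ≤ Cfsg.pCoreOf p H := by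
    refine le_trans (le_inf hYH ?_) ((charPCore_iff H).1 hH)
    exact Subgroup.le_centralizer_iff.1 hP
  have hconjP : ∀ h ∈ H, conjS h Y ≤ Cfsg.pCoreOf p H ∧
      conjS h Y ≤ Subgroup.centralizer (Cfsg.pCoreOf p H : Set G) := by
    intro h hh
    have e : conjS h (Cfsg.pCoreOf p H) = Cfsg.pCoreOf p H :=
      conjS_eq_self_iff.2 (le_normalizer_pCoreOf H hh)
    refine ⟨(conjS_mono h hYP).trans e.le, ?_⟩
    have := conjS_mono h (Subgroup.le_centralizer_iff.1 hP)
    rwa [conjS_centralizer, e] at this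
  set V := ⨆ h : H, conjS (h : G) Y with hV
  have hVn : H ≤ Subgroup.normalizer (V : Set G) := by
    rw [le_normalizer_iff_forall]
    have hle : ∀ a ∈ H, conjS a V ≤ V := by
      intro a ha
      rw [hV, conjS_iSup]
      refine iSup_le fun g => ?_
      rw [← conjS_mul]
      exact le_iSup (fun g : H => conjS (g : G) Y) ⟨a * g, mul_mem ha g.2⟩
    intro a ha
    refine le_antisymm (hle a ha) ?_
    have := conjS_mono a (hle a⁻¹ (inv_mem ha))
    rwa [conjS_cancel_inv] at this
  have hVred : RedIn p V H := by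
    refine ⟨iSup_le fun h => (conjS_le_of_mem hYH h.2), hVn, ?_, fun N hNH hn hres => ?_⟩
    · rw [hV, Subgroup.iSup_eq_closure]
      refine elemAb_closure ?_ ?_
      · intro a ha b hb
        obtain ⟨i, hi⟩ := Set.mem_iUnion.1 ha
        obtain ⟨j, hj⟩ := Set.mem_iUnion.1 hb
        exact Subgroup.mem_centralizer_iff.1 ((hconjP j j.2).2 hj) a ((hconjP i i.2).1 hi)
      · intro a ha
        obtain ⟨i, hi⟩ := Set.mem_iUnion.1 ha
        rw [SetLike.mem_coe, mem_conjS] at hi
        have := hYK.elem.2 _ hi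
        rwa [show (i : G)⁻¹ * a * (i : G) = (i : G)⁻¹ * a * ((i : G)⁻¹)⁻¹ by group, conj_pow,
          conj_eq_one_iff] at this
    · have hNC : N ≤ C := hN N hNH hn (hres.trans (Subgroup.centralizer_le
        ((conjS_one Y).ge.trans (le_iSup (fun g : H => conjS (g : G) Y) 1))))
      rw [hV, centralizer_iSup, le_iInf_iff]
      intro h
      have := conjS_mono (h : G) hNC
      rwa [conjS_eq_self_iff.2 (hn h.2), hC, conjS_centralizer] at this
  exact ((conjS_one Y).ge.trans (le_iSup (fun g : H => conjS (g : G) Y) 1)).trans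
    (le_largestPReducedOf hVred)

end Cfsg.Agent.S2851
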