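import Cfsg.Statements.S2852
import Cfsg.Agent.Lib.LocalEven.Asymmetric
import Cfsg.Agent.Lib.LocalEven.CharP
import Cfsg.Agent.S2842

set_option autoImplicit false
open Cfsg Cfsg.Agent Cfsg.Agent.Lib Cfsg.Agent.Lib.LocalEven
open scoped commutatorElement

namespace Cfsg.Agent.S2852

theorem charP_of_le {G : Type*} [Group G] [Finite G] {p : ℕ} [Fact p.Prime] {O P X : Subgroup G}
    (hO : IsPGroup p ↥O) (hO1 : O ≠ ⊥) (hwc : Wc p O)
    (hCO : Subgroup.centralizer (O : Set G) ≤ O) (hOP : O ≤ P) (hPX : P ≤ X)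
    (hX : Subgroup.centralizer (Cfsg.pCore p ↥X : Set ↥X) ≤ Cfsg.pCore p ↥X) :
    Subgroup.centralizer (Cfsg.pCore p ↥P : Set ↥P) ≤ Cfsg.pCore p ↥P := by
  have hOX := hOP.trans hPX
  have h1 : Cfsg.IsWeaklyClosedSubgroup p (O.subgroupOf X) := by
    refine (wc_iff (hO.comap_subtype : IsPGroup p ↥(O.subgroupOf X))).2 ?_
    intro R hR hle g hg
    change conjS g (O.subgroupOf X) = O.subgroupOf X
    change O.subgroupOf X ≤ R at hle
    change conjS g (O.subgroupOf X) ≤ R at hg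
    refine Subgroup.map_injective X.subtype_injective ?_
    rw [map_conjS, Subgroup.map_subgroupOf_eq_of_le hOX]
    refine hwc _ (hR.map X.subtype) ((Subgroup.map_subgroupOf_eq_of_le hOX).ge.trans (Subgroup.map_mono hle)) g ?_
    have := Subgroup.map_mono (f := X.subtype) hg
    rwa [map_conjS, Subgroup.map_subgroupOf_eq_of_le hOX] at this
  have h2 : Subgroup.centralizer ((O.subgroupOf X : Subgroup ↥X) : Set ↥X) ≤ O.subgroupOf X := by
    intro x hx
    refine Subgroup.mem_subgroupOf.2 (hCO ?_)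
    rw [Subgroup.mem_centralizer_iff]
    intro y hy
    exact congrArg Subtype.val (Subgroup.mem_centralizer_iff.1 hx ⟨y, hOX hy⟩ (Subgroup.mem_subgroupOf.2 hy))
  have h3 : O.subgroupOf X ≠ ⊥ := fun e => hO1 (by
    rw [← Subgroup.map_subgroupOf_eq_of_le hOX, e, Subgroup.map_bot])
  have h := (Cfsg.Agent.S2842.result (O.subgroupOf X) hO.comap_subtype h3 h1 h2 (P.subgroupOf X)
    (Subgroup.comap_mono hOP) (Or.inl hX)).2.2
  exact genFitting_eq_pCore_iff.1 (genFitting_eq_pCore_congr (Subgroup.subgroupOfEquivOfLe hPX)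
    (genFitting_eq_pCore_iff.2 h))

/-- Standing hypotheses: G a finite group, S a Sylow p-subgroup, Q a nontrivial large p-subgroup of G contained in S, M a subgroup containing S with the basic property (M ∈ 𝔐_G(S)); Y_M the largest p-reduced normal subgroup of M. If Y_M is char-p-tall and asymmetric in G, then some subgroup H of G lies in ℌ_G(O_p(M)): H has characteristic p, O_p(M) ≤ H, Y_M ≰ O_p(H), and Y_M ≤ O_p(P) for every proper subgroup P of H containing O_p(M). -/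
theorem result {G : Type*} [Group G] [Finite G] {p : ℕ} [Fact p.Prime] (S : Sylow p G) (Q : Subgroup G) (hQp : IsPGroup p ↥Q) (hQ1 : Q ≠ ⊥) (hQS : Q ≤ (S : Subgroup G)) (hQ : Cfsg.IsLarge Q) (M : Subgroup G) (hSM : (S : Subgroup G) ≤ M) (hM : Cfsg.IsInFrakM p M) (htall : Cfsg.IsCharPTall p (Cfsg.largestPReducedOf p M)) (hasym : ¬ Cfsg.IsSymmetricIn (Cfsg.largestPReducedOf p M)) : ∃ H : Subgroup G, Cfsg.IsInFrakH p M H := by
  set Y := Cfsg.largestPReducedOf p M with hY
  set C := Subgroup.centralizer (Y : Set G) with hC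
  set O := Cfsg.pCoreOf p M with hO
  obtain ⟨T, L, hTL, hL, hYL⟩ := htall
  obtain ⟨c, hc, hcT⟩ := (isSylowOf_map_subtype T).exists_conj (frakM_isSylowOf_centralizer S hSM hM)
  have hcY : conjS c Y = Y := conjS_eq_self_iff.2 (Subgroup.centralizer_le_normalizer _ hc)
  obtain ⟨hO1, hCO⟩ := mem_charPSubgroups_iff.1 hM.1
  have hwc := asym_wc S hQ hQp hSM hM hasym
  let s : Set (Subgroup G) := {X | O ≤ X ∧
    Subgroup.centralizer (Cfsg.pCore p ↥X : Set ↥X) ≤ Cfsg.pCore p ↥X ∧ ¬ Y ≤ Cfsg.pCoreOf p X}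
  have hne : conjS c L ∈ s := by
    refine ⟨hcT.ge.trans (conjS_mono c hTL), (hasCharP_iff_core _).1 (((hasCharP_iff_core L).2 hL).conjS c), fun h => hYL ?_⟩
    rw [← conjS_pCoreOf] at h
    exact (conjS_le_iff (g := c)).1 (hcY.le.trans h)
  haveI : Finite (Subgroup G) := inferInstance
  obtain ⟨X, hX, hmin⟩ := Set.exists_min_image s (fun Z => Nat.card Z) (Set.toFinite _) ⟨_, hne⟩
  refine ⟨X, hX.2.1, hX.1, hX.2.2, fun P hOP hPX => ?_⟩
  by_contra hYP
  have hP := hmin P ⟨hOP, charP_of_le (pCoreOf_isPGroup M) hO1 hwc hCO hOP hPX.le hX.2.1, hYP⟩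
  exact hPX.ne (Subgroup.eq_of_le_of_card_ge hPX.le hP)

end Cfsg.Agent.S2852
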