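import Cfsg.Statements.S2853
import Cfsg.Agent.Lib.LocalEven.FrakH

set_option autoImplicit false
open Cfsg Cfsg.Agent Cfsg.Agent.Lib Cfsg.Agent.Lib.LocalEven
open scoped commutatorElement

namespace Cfsg.Agent.S2853

/-- Standing hypotheses: G a finite group, S a Sylow p-subgroup, Q a nontrivial large p-subgroup of G contained in S, M a subgroup containing S with the basic property (M ∈ 𝔐_G(S)); Y_M the largest p-reduced normal subgroup of M and M† = M·C_G(Y_M). Suppose Y_M is char-p-tall and asymmetric in G and H ∈ ℌ_G(O_p(M)). Then every Sylow p-subgroup of H ∩ M† is a Sylow p-subgroup of H; O_p(H) normalizes O_p(M) and Y_M; O^p(H) = [O^p(H), Y_M] and H = O^p(H)·O_p(M); O^p(H)·Y_M is the normal closure of Y_M in H; and H is the normal closure of O_p(M) in H. Here O^p(H) is the subgroup generated by the elements of H of order prime to p. -/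
theorem result {G : Type*} [Group G] [Finite G] {p : ℕ} [Fact p.Prime] (S : Sylow p G) (Q : Subgroup G) (hQp : IsPGroup p ↥Q) (hQ1 : Q ≠ ⊥) (hQS : Q ≤ (S : Subgroup G)) (hQ : Cfsg.IsLarge Q) (M : Subgroup G) (hSM : (S : Subgroup G) ≤ M) (hM : Cfsg.IsInFrakM p M) (htall : Cfsg.IsCharPTall p (Cfsg.largestPReducedOf p M)) (hasym : ¬ Cfsg.IsSymmetricIn (Cfsg.largestPReducedOf p M)) (H : Subgroup G) (hH : Cfsg.IsInFrakH p M H) (R : Subgroup G) (hR : R = (Cfsg.pResidual p ↥H).map H.subtype) : (∀ T : Sylow p ↥(H ⊓ (M ⊔ Subgroup.centralizer (((Cfsg.largestPReducedOf p M) : Subgroup G) : Set G))), ∃ P : Sylow p ↥H, ((P : Subgroup ↥H).map H.subtype) = (T : Subgroup ↥(H ⊓ (M ⊔ Subgroup.centralizer (((Cfsg.largestPReducedOf p M) : Subgroup G) : Set G)))).map (H ⊓ (M ⊔ Subgroup.centralizer (((Cfsg.largestPReducedOf p M) : Subgroup G) : Set G))).subtype) ∧ Cfsg.pCoreOf p H ≤ Subgroup.normalizer (((Cfsg.pCoreOf p M) : Subgroup G) : Set G) ⊓ Subgroup.normalizer (((Cfsg.largestPReducedOf p M) :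 Subgroup G) : Set G) ∧ ⁅R, (Cfsg.largestPReducedOf p M)⁆ = R ∧ R ⊔ (Cfsg.pCoreOf p M) = H ∧ R ⊔ (Cfsg.largestPReducedOf p M) = (Subgroup.normalClosure ((((Cfsg.largestPReducedOf p M)).subgroupOf H : Subgroup ↥H) : Set ↥H)).map H.subtype ∧ (Subgroup.normalClosure ((((Cfsg.pCoreOf p M)).subgroupOf H : Subgroup ↥H) : Set ↥H)).map H.subtype = H := by
  have hRe : R = pResOf p H := hR
  subst hRe
  set Y := Cfsg.largestPReducedOf p M with hY
  set O := Cfsg.pCoreOf p M with hO
  have hpO : IsPGroup p O := pCoreOf_isPGroup M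
  have hwc := asym_wc S hQ hQp hSM hM hasym
  have hNO := frakM_normalizer_pCoreOf_le S hQ hQp hSM hM
  have hOH : O ≤ H := hH.2.1
  refine ⟨fun T => ?_, ?_, frakH_commutator hH, frakH_sup hH, ?_, ?_⟩
  · obtain ⟨T1, hT1, hOT1⟩ := exists_isSylowOf_le hOH hpO
    have hle := le_inf hT1.le ((hwc.le_normalizer' hT1.isPGroup hOT1).trans hNO)
    have hT := isSylowOf_map_subtype T
    have hc := ((hT1.mono hle inf_le_left).card_eq hT).le
    obtain ⟨P, hP⟩ := (hT1.of_card (hT.le.trans inf_le_left) hT.isPGroup hc).exists_sylow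
    exact ⟨P, hP⟩
  · have h1 : Cfsg.pCoreOf p H ≤ Subgroup.normalizer (O : Set G) :=
      le_sup_left.trans (hwc.le_normalizer'
        ((pCoreOf_isPGroup H).to_sup_of_normal_left' hpO (hOH.trans (le_normalizer_pCoreOf H))) le_sup_right)
    exact le_inf h1 (h1.trans (hNO.trans frakM_dagger_le_normalizer))
  · refine le_antisymm ?_ ?_
    · have hYH := frakH_Y_le hH
      have hR0 := commutator_le_of_le_normalizer'
        ((pResOf_le (p := p) H).trans (map_subtype_le_normalizer
          (Subgroup.normalClosure ((Y.subgroupOf H : Subgroup ↥H) : Set ↥H))))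
      have hY0 : Y ≤ (Subgroup.normalClosure ((Y.subgroupOf H : Subgroup ↥H) : Set ↥H)).map H.subtype := by
        exact (Subgroup.map_subgroupOf_eq_of_le hYH).ge.trans (Subgroup.map_mono Subgroup.le_normalClosure)
      refine sup_le ?_ hY0
      rw [← frakH_commutator hH]
      exact (Subgroup.commutator_mono le_rfl hY0).trans hR0
    · have hn := (frakH_normalizes hH).2
      rw [frakH_commutator hH] at hn
      rw [Subgroup.map_le_iff_le_comap]
      refine @Subgroup.normalClosure_le_normal _ _ _ _ (subgroupOf_normal_of_le hn) ?_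
      intro x hx
      exact Subgroup.mem_subgroupOf.2 (Subgroup.mem_sup_right (Subgroup.mem_subgroupOf.1 hx))
  · refine frakH_eq_of_normal hH (Subgroup.map_subtype_le _) (map_subtype_le_normalizer _) ?_
    exact (Subgroup.map_subgroupOf_eq_of_le hOH).ge.trans (Subgroup.map_mono Subgroup.le_normalClosure)

end Cfsg.Agent.S2853
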