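import Cfsg.Statements.S2854
import Cfsg.Agent.Lib.LocalEven.FrakH

set_option autoImplicit false
open Cfsg Cfsg.Agent Cfsg.Agent.Lib Cfsg.Agent.Lib.LocalEven
open scoped commutatorElement

namespace Cfsg.Agent.S2854

/-- Standing hypotheses: G a finite group, S a Sylow p-subgroup, Q a nontrivial large p-subgroup of G contained in S, M a subgroup containing S with the basic property (M ∈ 𝔐_G(S)); Y_M the largest p-reduced normal subgroup of M and M† = M·C_G(Y_M). Suppose Y_M is asymmetric in G, H ∈ ℌ_G(O_p(M)), and H ≤ N_G(gQg⁻¹) for some g ∈ G. Then gQg⁻¹ ≤ O_p(H·gQg⁻¹) ≤ N_G(O_p(M)) ≤ N_G(Y_M) = M†; H is normal in H·gQg⁻¹ with O^p(H) = O^p(H·gQg⁻¹); and H·gQg⁻¹ is p-irreducible. -/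
theorem result {G : Type*} [Group G] [Finite G] {p : ℕ} [Fact p.Prime] (S : Sylow p G) (Q : Subgroup G) (hQp : IsPGroup p ↥Q) (hQ1 : Q ≠ ⊥) (hQS : Q ≤ (S : Subgroup G)) (hQ : Cfsg.IsLarge Q) (M : Subgroup G) (hSM : (S : Subgroup G) ≤ M) (hM : Cfsg.IsInFrakM p M) (hasym : ¬ Cfsg.IsSymmetricIn (Cfsg.largestPReducedOf p M)) (H : Subgroup G) (hH : Cfsg.IsInFrakH p M H) (g : G) (hHQ : H ≤ Subgroup.normalizer ((((Q : Subgroup G).map (MulAut.conj (g : G)).toMonoidHom) : Subgroup G) : Set G)) : ((Q : Subgroup G).map (MulAut.conj (g : G)).toMonoidHom) ≤ Cfsg.pCoreOf p (H ⊔ ((Q : Subgroup G).map (MulAut.conj (g : G)).toMonoidHom)) ∧ Cfsg.pCoreOf p (H ⊔ ((Q : Subgroup G).map (MulAut.conj (g : G)).toMonoidHom)) ≤ Subgroup.normalizer (((Cfsg.pCoreOf p M) : Subgroup G) : Set G) ∧ Subgroup.normalizer (((Cfsg.pCoreOf p M) : Subgroup G) : Set G) ≤ Subgroup.normalizer (((Cfsg.largestPReducedOf p M) : Subgroup G) : Set G) ∧ Subgroup.normalizer (((Cfsg.largestPReducedOf p M) : Subgroup G) : Set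 G) = (M ⊔ Subgroup.centralizer (((Cfsg.largestPReducedOf p M) : Subgroup G) : Set G)) ∧ (H.subgroupOf (H ⊔ ((Q : Subgroup G).map (MulAut.conj (g : G)).toMonoidHom))).Normal ∧ (Cfsg.pResidual p ↥H).map H.subtype = (Cfsg.pResidual p ↥(H ⊔ ((Q : Subgroup G).map (MulAut.conj (g : G)).toMonoidHom))).map (H ⊔ ((Q : Subgroup G).map (MulAut.conj (g : G)).toMonoidHom)).subtype ∧ Cfsg.IsPIrreducible p ↥(H ⊔ ((Q : Subgroup G).map (MulAut.conj (g : G)).toMonoidHom)) := by
  simp only [map_conj_eq] at hHQ ⊢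
  set Q' := conjS g Q with hQ'
  set Y := Cfsg.largestPReducedOf p M with hY
  set O := Cfsg.pCoreOf p M with hO
  set H1 := H ⊔ Q' with hH1
  have hQ'p : IsPGroup p ↥Q' := hQp.map _
  have hH1Q : H1 ≤ Subgroup.normalizer (Q' : Set G) := sup_le hHQ Subgroup.le_normalizer
  have hQP : Q' ≤ Cfsg.pCoreOf p H1 := le_pCoreOf le_sup_right hH1Q hQ'p
  have hpO : IsPGroup p O := pCoreOf_isPGroup M
  have hOH : O ≤ H := hH.2.1
  have hOH1 : O ≤ H1 := hOH.trans le_sup_left
  have hwc := asym_wc S hQ hQp hSM hM hasym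
  have hNO := frakM_normalizer_pCoreOf_le S hQ hQp hSM hM
  have hPN : Cfsg.pCoreOf p H1 ≤ Subgroup.normalizer (O : Set G) :=
    le_sup_left.trans (hwc.le_normalizer'
      ((pCoreOf_isPGroup H1).to_sup_of_normal_left' hpO (hOH1.trans (le_normalizer_pCoreOf H1))) le_sup_right)
  have hYr : RedIn p Y M := largestPReducedOf_redIn M
  have hNY : Subgroup.normalizer (Y : Set G) =
      M ⊔ Subgroup.centralizer (Y : Set G) :=
    le_antisymm (le_dagger hM (mem_charPSubgroups_normalizer hQ hQp S (elemAb_isPGroup hYr.elem)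
      (frakH_Y_ne_bot hH) (hSM.trans hYr.normal)) hYr.normal) frakM_dagger_le_normalizer
  have hQO : Q' ≤ Subgroup.normalizer (O : Set G) := hQP.trans hPN
  have hQH : Q' ≤ Subgroup.normalizer (H : Set G) := by
    set N : Subgroup G := ⨆ h : H, conjS (h : G) O with hN
    have hHN : H ≤ Subgroup.normalizer (N : Set G) := by
      rw [le_normalizer_iff_forall]
      have hle : ∀ a ∈ H, conjS a N ≤ N := by
        intro a ha
        rw [hN, conjS_iSup]
        refine iSup_le fun x => ?_
        rw [← conjS_mul]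
        exact le_iSup (fun h : H => conjS (h : G) O) ⟨a * x, mul_mem ha x.2⟩
      intro a ha
      refine le_antisymm (hle a ha) ?_
      have := conjS_mono a (hle a⁻¹ (inv_mem ha))
      rwa [conjS_cancel_inv] at this
    have hNH := frakH_eq_of_normal hH (iSup_le fun h => conjS_le_of_mem hOH h.2) hHN
      ((conjS_one O).ge.trans (le_iSup (fun h : H => conjS (h : G) O) 1))
    rw [le_normalizer_iff_forall]
    intro q hq
    rw [← hNH, conjS_iSup]
    refine iSup_congr fun h => ?_
    have h1 : (h : G)⁻¹ * q * h ∈ Q' := by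
      simpa using (Subgroup.mem_normalizer_iff.1 (hHQ (inv_mem h.2)) q).1 hq
    rw [← conjS_mul, show q * (h : G) = h * ((h : G)⁻¹ * q * h) by group, conjS_mul,
      conjS_eq_self_iff.2 (hQO h1)]
  have hH1H : H1 ≤ Subgroup.normalizer (H : Set G) := sup_le Subgroup.le_normalizer hQH
  have hres : pResOf p H1 = pResOf p H :=
    le_antisymm ((pResOf_pResOf H1).ge.trans (pResOf_mono (pResOf_le_of_sup_isPGroup hH1H hQ'p rfl)))
      (pResOf_mono le_sup_left)
  refine ⟨hQP, hPN, hNO.trans frakM_dagger_le_normalizer, hNY, subgroupOf_normal_of_le hH1H,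
    hres.symm, ?_, ?_⟩
  · intro hcl
    refine hH.2.2.1 ?_
    have h1 := isPClosed_sub_iff.1 hcl Y ((frakH_Y_le hH).trans le_sup_left) (elemAb_isPGroup hYr.elem)
    exact (le_inf h1 (frakH_Y_le hH)).trans (le_pCoreOf inf_le_right
      (le_normalizer_inf ((le_sup_left : H ≤ H1).trans (le_normalizer_pCoreOf H1)) Subgroup.le_normalizer)
      (pCoreOf_isPGroup H1).to_inf_left)
  · intro N' hN' hnc
    haveI := hN'
    set N := N'.map H1.subtype with hN
    have hNH1 : N ≤ H1 := Subgroup.map_subtype_le _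
    have hNn : H1 ≤ Subgroup.normalizer (N : Set G) := @map_subtype_le_normalizer _ _ _ N' hN'
    suffices hsuff : pResOf p H1 ≤ N from (Subgroup.map_le_map_iff_of_injective H1.subtype_injective).1 hsuff
    by_contra hnot
    refine hnc ((isPClosed_map_iff (f := H1.subtype) ?_).1 ?_)
    · rw [Subgroup.ker_subtype]
      exact IsPGroup.of_bot
    set R := pResOf p H with hR
    set P0 := Cfsg.pCoreOf p H with hP0
    have hP0n : H1 ≤ Subgroup.normalizer (P0 : Set G) := by
      rw [le_normalizer_iff_forall]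
      intro a ha
      rw [hP0, conjS_pCoreOf, conjS_eq_self_iff.2 (hH1H ha)]
    have hYH : Y ≤ H := frakH_Y_le hH
    have hRH : R ≤ H := pResOf_le H
    have hHn : H ≤ Subgroup.normalizer ((N ⊓ H : Subgroup G) : Set G) :=
      le_normalizer_inf ((le_sup_left : H ≤ H1).trans hNn) Subgroup.le_normalizer
    have hP : (N ⊓ H) ⊔ O ≠ H := fun e =>
      hnot (hres.le.trans ((pResOf_le_of_sup_isPGroup hHn hpO e).trans inf_le_left))
    have hYP := frakH_le_pCoreOf_of_lt hH le_sup_right (sup_le inf_le_right hOH) hP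
    have h1 : ⁅N ⊓ H, Y⁆ ≤ P0 := by
      refine le_trans (le_inf (commutator_le_of_le_normalizer (hYH.trans hHn))
        ((Subgroup.commutator_mono le_rfl hYP).trans (commutator_le_of_le_normalizer'
          (le_sup_left.trans (le_normalizer_pCoreOf _))))) ?_
      refine le_trans ?_ (pCoreOf_le_pCoreOf_of_normalized inf_le_right hHn)
      exact le_pCoreOf inf_le_left
        (le_normalizer_inf Subgroup.le_normalizer (le_sup_left.trans (le_normalizer_pCoreOf _)))
        (pCoreOf_isPGroup _).to_inf_right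
    have hRn : R ≤ Subgroup.normalizer (P0 : Set G) := (hRH.trans le_sup_left).trans hP0n
    have hYn : Y ≤ Subgroup.normalizer (P0 : Set G) := (hYH.trans le_sup_left).trans hP0n
    have hRY : ⁅R, Y⁆ = R := frakH_commutator hH
    have h2 : ⁅R, N ⊓ H⁆ ≤ P0 := by
      conv_lhs => rw [← hRY]
      refine three_subgroup hRn hYn ((inf_le_right.trans le_sup_left).trans hP0n) ?_ ?_
      · refine (Subgroup.commutator_mono ((Subgroup.commutator_comm _ _).le.trans h1) le_rfl).trans ?_
        exact commutator_le_of_le_normalizer hRn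
      · exact (Subgroup.commutator_mono (commutator_le_of_le_normalizer (hRH.trans hHn)) le_rfl).trans h1
    have hYN : ⁅Y, N⁆ ≤ N ⊓ H := le_inf
      (commutator_le_of_le_normalizer' ((hYH.trans le_sup_left).trans hNn))
      ((Subgroup.commutator_mono hYH le_rfl).trans (commutator_le_of_le_normalizer (hNH1.trans hH1H)))
    have hNR : ⁅N, R⁆ ≤ N ⊓ H := le_inf
      (commutator_le_of_le_normalizer ((hRH.trans le_sup_left).trans hNn))
      ((Subgroup.commutator_mono le_rfl hRH).trans (commutator_le_of_le_normalizer' (hNH1.trans hH1H)))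
    have h3 : ⁅R, N⁆ ≤ P0 := by
      conv_lhs => rw [← hRY]
      refine three_subgroup hRn hYn (hNH1.trans hP0n) ?_ ((Subgroup.commutator_mono hNR le_rfl).trans h1)
      refine (Subgroup.commutator_mono hYN le_rfl).trans ((Subgroup.commutator_comm _ _).le.trans h2)
    obtain ⟨T, hT⟩ := exists_isSylowOf p N
    refine isPClosed_of_sylow_le hT ?_
    have hP0H1 : P0 ≤ H1 := (pCoreOf_le H).trans le_sup_left
    have h4 : P0 ⊓ N ≤ T := le_trans (le_pCoreOf inf_le_right
      (le_normalizer_inf (hNH1.trans hP0n) Subgroup.le_normalizer) (pCoreOf_isPGroup H).to_inf_left) hT.pCoreOf_le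
    refine (pResOf_sup_sylow hT).ge.trans ?_
    refine sup_le (le_normalizer_of_commutator_le ?_) Subgroup.le_normalizer
    refine le_trans (le_inf ?_ ?_) h4
    · refine le_trans ?_ ((Subgroup.commutator_comm _ _).le.trans h3)
      exact Subgroup.commutator_mono hT.le ((pResOf_mono hNH1).trans hres.le)
    · exact (Subgroup.commutator_mono hT.le (pResOf_le N)).trans
        (commutator_le_of_le_normalizer Subgroup.le_normalizer)

end Cfsg.Agent.S2854
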