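import Cfsg.Statements.S2855
import Cfsg.Agent.Lib.LocalEven.NormalGen
import Cfsg.Agent.Lib.LocalEven.Irreducible
import Cfsg.Agent.Lib.Cores.PCore

set_option autoImplicit false
open Cfsg Cfsg.Agent Cfsg.Agent.Lib Cfsg.Agent.Lib.LocalEven
open scoped commutatorElement

namespace Cfsg.Agent.S2855

variable {X : Type*} [Group X] [Finite X] {p : ℕ} [Fact p.Prime]

theorem pResOf_map_le {X' : Type*} [Group X'] (f : X →* X') (E : Subgroup X) :
    pResOf p (E.map f) ≤ (pResOf p E).map f := by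
  rw [pResOf_le_iff]
  rintro _ ⟨e, he, rfl⟩ hc
  obtain ⟨k, hk⟩ := pow_mem_pResidual (p := p) (⟨e, he⟩ : E)
  obtain ⟨t, ht⟩ := exists_pow_eq_self_of_coprime ((Nat.Coprime.pow_right k hc).symm : (p ^ k).Coprime _)
  rw [← ht, ← map_pow, ← map_pow]
  exact Subgroup.mem_map_of_mem f (pow_mem (show e ^ p ^ k ∈ pResOf p E from Subgroup.mem_map_of_mem E.subtype hk) t)

/-- In a group with `O_p = 1`: if `[[E,W],E] = 1` and `O^p(E) ≤ E'` then `[E,W] = 1`. -/
theorem commutator_bot (hO : Cfsg.pCore p X = ⊥) {E W : Subgroup X} (hE : E.IsSubnormal)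
    (hW : W ≤ Subgroup.normalizer (E : Set X)) (hEE : pResOf p E ≤ ⁅E, E⁆) (h : ⁅⁅E, W⁆, E⁆ = ⊥) :
    ⁅E, W⁆ = ⊥ := by
  have hQE : ⁅E, W⁆ ≤ E := commutator_le_of_le_normalizer hW
  have hcent : ⁅E, W⁆ ≤ Subgroup.centralizer (E : Set X) := le_centralizer_iff_commutator.2 h
  have hbot : ∀ A : Subgroup X, A ≤ Subgroup.normalizer ((⊥ : Subgroup X) : Set X) := by
    intro A a _
    rw [← conjS_eq_self_iff, conjS, Subgroup.map_bot]
  have hres : ⁅⁅E, E⁆, W⁆ = ⊥ := le_bot_iff.1 (three_subgroup (hbot E) (hbot E) (hbot W) h.le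
    (by rw [Subgroup.commutator_comm W E, h]))
  have hres' : pResOf p E ≤ Subgroup.centralizer (W : Set X) :=
    hEE.trans (le_centralizer_iff_commutator.2 hres)
  have hpw : ∀ e ∈ E, ∀ w ∈ W, ∃ k, ⁅e, w⁆ ^ p ^ k = 1 := by
    intro e he w hw
    obtain ⟨k, hk⟩ := pow_mem_pResidual (p := p) (⟨e, he⟩ : E)
    refine ⟨k, ?_⟩
    have hpow : ∀ n : ℕ, ⁅e ^ n, w⁆ = ⁅e, w⁆ ^ n := by
      intro n
      induction n with
      | zero => simp
      | succ n ih =>
        have hc : e * ⁅e ^ n, w⁆ = ⁅e ^ n, w⁆ * e :=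
          Subgroup.mem_centralizer_iff.1 (hcent (Subgroup.commutator_mem_commutator (pow_mem he n) hw)) e he
        rw [pow_succ' e n, show ⁅e * e ^ n, w⁆ = e * ⁅e ^ n, w⁆ * e⁻¹ * ⁅e, w⁆ by
          simp [commutatorElement_def, mul_assoc], hc, mul_inv_cancel_right, ih, pow_succ]
    rw [← hpow]
    exact commutatorElement_eq_one_iff_mul_comm.2
      (Subgroup.mem_centralizer_iff.1 (hres' (Subgroup.mem_map_of_mem E.subtype hk)) w hw).symm
  have hcomm : ∀ a ∈ ⁅E, W⁆, ∀ b ∈ ⁅E, W⁆, Commute a b := fun a ha b hb =>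
    (Subgroup.mem_centralizer_iff.1 (hcent ha) b (hQE hb)).symm
  have hp : IsPGroup p ↥(⁅E, W⁆) := by
    rintro ⟨x, hx⟩
    suffices h' : ∃ k, x ^ p ^ k = 1 from h'.imp fun k hk => Subtype.ext hk
    refine (?_ : x ∈ ⁅E, W⁆ ∧ ∃ k, x ^ p ^ k = 1).2
    have hx' : x ∈ Subgroup.closure {g | ∃ e ∈ E, ∃ w ∈ W, ⁅e, w⁆ = g} := hx
    induction hx' using Subgroup.closure_induction with
    | mem g hg =>
      obtain ⟨e, he, w, hw, rfl⟩ := hg
      exact ⟨Subgroup.commutator_mem_commutator he hw, hpw e he w hw⟩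
    | one => exact ⟨one_mem _, 0, by simp⟩
    | mul a b _ _ iha ihb =>
      obtain ⟨ha, i, hi⟩ := iha (show a ∈ ⁅E, W⁆ by assumption)
      obtain ⟨hb, j, hj⟩ := ihb (show b ∈ ⁅E, W⁆ by assumption)
      refine ⟨mul_mem ha hb, i + j, ?_⟩
      rw [(hcomm a ha b hb).mul_pow, pow_add, pow_mul, hi, one_pow, mul_comm, pow_mul, hj, one_pow, one_mul]
    | inv a _ iha =>
      obtain ⟨ha, i, hi⟩ := iha (show a ∈ ⁅E, W⁆ by assumption)
      exact ⟨inv_mem ha, i, by rw [inv_pow, hi, inv_one]⟩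
  rw [← le_bot_iff, ← hO]
  exact le_pCore_of_subnormal (Subgroup.IsSubnormal.step _ E hQE hE
    (subgroupOf_normal_of_le (le_normalizer_commutator_left E W))) hp

theorem not_commutator_bot (hO : Cfsg.pCore p X = ⊥) {E : Subgroup X} (hE : E.IsSubnormal)
    (hdvd : p ∣ Nat.card E) : ¬ ⁅⁅E, E⁆, E⁆ = ⊥ := by
  intro h
  haveI : Group.IsNilpotent E := (Subgroup.isNilpotent_iff_lowerCentralSeries E).2 ⟨2, by
    rw [Subgroup.lowerCentralSeries_succ, Subgroup.lowerCentralSeries_succ, Subgroup.lowerCentralSeries_zero, h]⟩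
  obtain ⟨P⟩ : Nonempty (Sylow p ↥E) := inferInstance
  haveI : (P : Subgroup ↥E).Normal := inferInstance
  have h1 : (P : Subgroup ↥E).map E.subtype = ⊥ := by
    rw [← le_bot_iff, ← hO]
    refine le_trans ?_ (pCoreOf_le_pCore_of_subnormal hE)
    exact Subgroup.map_mono (le_pCore inferInstance P.isPGroup')
  rw [Subgroup.map_eq_bot_iff_of_injective _ E.subtype_injective] at h1
  have := P.dvd_card_of_dvd_card hdvd
  rw [h1, Subgroup.card_bot] at this
  exact (Fact.out : p.Prime).not_dvd_one this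

/-- The second part, in the quotient by `O_p`. -/
theorem part_two {ι : Type*} [Nonempty ι] (hO : Cfsg.pCore p X = ⊥) (E : ι → Subgroup X)
    (hper : ∀ (x : X) i, ∃ j, conjS x (E i) = E j) (htr : ∀ i j, ∃ x, E j = conjS x (E i))
    (hres : Cfsg.pResidual p X ≤ ⨆ i, E i) (hn : ∀ i, (⨆ i, E i) ≤ Subgroup.normalizer (E i : Set X))
    (hdvd : ∀ i, p ∣ Nat.card (E i))
    (hsi : ∀ i, ∀ N : Subgroup X, N ≤ E i → E i ≤ Subgroup.normalizer (N : Set X) →
      ⁅N, E i⁆ = ⊥ ∨ pResOf p (E i) ≤ N) :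
    (∀ N : Subgroup X, N.Normal → ¬ Cfsg.IsPClosed p ↥N → Cfsg.pResidual p X ≤ N) ∧
      ∀ i j, pResOf p (E i) = pResOf p (E j) ∨ ⁅E i, E j⁆ = ⊥ := by
  set R := ⨆ i, E i with hR
  have hRn : R.Normal := normal_of_conjS_le fun x => by
    rw [hR, conjS_iSup]
    exact iSup_le fun i => by
      obtain ⟨j, hj⟩ := hper x i
      rw [hj]
      exact le_iSup E j
  have hle : ∀ i, E i ≤ R := le_iSup E
  have hsub : ∀ i, (E i).IsSubnormal := fun i =>
    Subgroup.IsSubnormal.step _ R (hle i) hRn.isSubnormal (subgroupOf_normal_of_le (hn i))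
  have hEE : ∀ i, pResOf p (E i) ≤ ⁅E i, E i⁆ := fun i =>
    (hsi i _ (commutator_le_of_le_normalizer Subgroup.le_normalizer)
      (le_normalizer_commutator Subgroup.le_normalizer Subgroup.le_normalizer)).resolve_left
      (not_commutator_bot hO (hsub i) (hdvd i))
  have hkey : ∀ i, ∀ W : Subgroup X, W ≤ Subgroup.normalizer (E i : Set X) →
      ⁅E i, W⁆ = ⊥ ∨ pResOf p (E i) ≤ ⁅E i, W⁆ := by
    intro i W hW
    rcases hsi i _ (commutator_le_of_le_normalizer hW) (le_normalizer_commutator_left (E i) W) with h | h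
    · exact Or.inl (commutator_bot hO (hsub i) hW (hEE i) h)
    · exact Or.inr h
  refine ⟨fun N hN hnc => ?_, fun i j => ?_⟩
  · haveI := hN
    by_cases hex : ∃ i, pResOf p (E i) ≤ N
    · obtain ⟨i, hi⟩ := hex
      have hall : ∀ j, pResOf p (E j) ≤ N := by
        intro j
        obtain ⟨x, hx⟩ := htr i j
        rw [hx, ← conjS_pResOf]
        exact (conjS_mono x hi).trans (conjS_normal x N).le
      set f := QuotientGroup.mk' N with hf
      have hRp : R.map f ≤ Cfsg.pCore p (X ⧸ N) := by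
        rw [hR, Subgroup.map_iSup]
        refine iSup_le fun j => le_pCore_of_subnormal ((hsub j).map (QuotientGroup.mk'_surjective N)) ?_
        rintro ⟨_, e, he, rfl⟩
        obtain ⟨k, hk⟩ := pow_mem_pResidual (p := p) (⟨e, he⟩ : E j)
        refine ⟨k, Subtype.ext ?_⟩
        show f e ^ p ^ k = 1
        rw [← map_pow]
        exact (QuotientGroup.eq_one_iff _).2 (hall j (Subgroup.mem_map_of_mem (E j).subtype hk))
      rw [Cfsg.pResidual, Subgroup.closure_le]
      intro x hx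
      have h1 := hRp (Subgroup.mem_map_of_mem f (hres (coprime_orderOf_mem_pResidual hx)))
      obtain ⟨k, hk⟩ := pCore_isPGroup p _ ⟨f x, h1⟩
      exact (QuotientGroup.eq_one_iff x).1 (eq_one_of_coprime_of_pow
        (Nat.Coprime.coprime_dvd_left (orderOf_map_dvd f x) hx) (congrArg Subtype.val hk))
    exfalso
    push Not at hex
    set D := N ⊓ R with hD
    haveI : D.Normal := inferInstance
    have hDc : ∀ i, ⁅E i, D⁆ = ⊥ := fun i => (hkey i D (inf_le_right.trans (hn i))).resolve_right fun h =>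
      hex i (h.trans ((commutator_le_of_le_normalizer' (le_normalizer_of_normal _ D)).trans inf_le_left))
    have hRD : ⁅R, D⁆ = ⊥ := le_bot_iff.1
      (commutator_iSup_le (fun i => le_normalizer_of_normal _ ⊥) fun i => (hDc i).le)
    have hRR : pResOf p R ≤ ⁅R, R⁆ := by
      set f := QuotientGroup.mk' ⁅R, R⁆ with hf
      have hRp : R.map f ≤ Cfsg.pCore p (X ⧸ ⁅R, R⁆) := by
        refine le_trans (le_of_eq (Subgroup.map_iSup f E)) ?_
        refine iSup_le fun j => le_pCore_of_subnormal ((hsub j).map (QuotientGroup.mk'_surjective _)) ?_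
        rintro ⟨_, e, he, rfl⟩
        obtain ⟨k, hk⟩ := pow_mem_pResidual (p := p) (⟨e, he⟩ : E j)
        refine ⟨k, Subtype.ext ?_⟩
        show f e ^ p ^ k = 1
        rw [← map_pow]
        exact (QuotientGroup.eq_one_iff _).2 (Subgroup.commutator_mono (hle j) (hle j)
          ((hEE j) (Subgroup.mem_map_of_mem (E j).subtype hk)))
      rw [pResOf_le_iff]
      intro x hx hc
      obtain ⟨k, hk⟩ := pCore_isPGroup p _ ⟨f x, hRp (Subgroup.mem_map_of_mem f hx)⟩
      exact (QuotientGroup.eq_one_iff x).1 (eq_one_of_coprime_of_pow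
        (Nat.Coprime.coprime_dvd_left (orderOf_map_dvd f x) hc) (congrArg Subtype.val hk))
    have hRN : ⁅R, N⁆ = ⊥ := by
      refine commutator_bot hO hRn.isSubnormal (le_normalizer_of_normal _ R) hRR (le_bot_iff.1 (hRD ▸ ?_))
      rw [Subgroup.commutator_comm R D]
      exact Subgroup.commutator_mono (le_inf (Subgroup.commutator_le_right R N) (Subgroup.commutator_le_left R N)) le_rfl
    refine hnc ?_
    obtain ⟨T, hT⟩ := exists_isSylowOf p N
    refine isPClosed_of_sylow_le hT ?_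
    refine (pResOf_sup_sylow hT).ge.trans (sup_le ?_ Subgroup.le_normalizer)
    refine le_trans ?_ (Subgroup.centralizer_le_normalizer _)
    refine le_trans ?_ (Subgroup.centralizer_le hT.le)
    refine le_trans ?_ (le_centralizer_iff_commutator.2 hRN)
    exact ((pResOf_mono le_top).trans pResOf_top.le).trans hres
  · rcases hkey i (E j) ((hle j).trans (hn i)) with h | h
    · exact Or.inr h
    rcases hkey j (E i) ((hle i).trans (hn j)) with h' | h'
    · exact Or.inr (by rw [Subgroup.commutator_comm]; exact h')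
    refine Or.inl (le_antisymm ?_ ?_)
    · exact (pResOf_pResOf _).ge.trans (pResOf_mono (h.trans (commutator_le_of_le_normalizer' ((hle i).trans (hn j)))))
    · exact (pResOf_pResOf _).ge.trans (pResOf_mono (h'.trans (commutator_le_of_le_normalizer' ((hle j).trans (hn i)))))

variable {H : Type*} [Group H] [Finite H]

theorem conjS_sSup_le {𝒦 : Set (Subgroup H)} (hinv : ∀ h : H, ∀ E ∈ 𝒦, conjS h E ∈ 𝒦) (x : H) :
    conjS x (sSup 𝒦) ≤ sSup 𝒦 :=
  Subgroup.map_le_iff_le_comap.2 (sSup_le fun K hK => Subgroup.map_le_iff_le_comap.1 (le_sSup (hinv x K hK)))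

theorem isPClosed_sub (A B : Subgroup H) (h : Cfsg.IsPClosed p ↥A) (hBA : B ≤ A) : Cfsg.IsPClosed p ↥B :=
  isPClosed_mono h hBA

theorem subgroupOf_map_sup {E P : Subgroup H} (hP : P.Normal) {Z : Subgroup H} (hPZ : P ≤ Z)
    (hZ : Z ≤ E ⊔ P) : Z ≤ (Z ⊓ E) ⊔ P := by
  haveI := hP
  intro z hz
  obtain ⟨e, he, q, hq, rfl⟩ := Subgroup.mem_sup_of_normal_right.1 (hZ hz)
  refine Subgroup.mul_mem_sup (Subgroup.mem_inf.2 ⟨?_, he⟩) hq
  have := mul_mem hz (inv_mem (hPZ hq))
  rwa [mul_inv_cancel_right] at this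

theorem part_one (𝒦 : Set (Subgroup H)) (hne : 𝒦.Nonempty)
    (hinv : ∀ h : H, ∀ E ∈ 𝒦, conjS h E ∈ 𝒦) (htr : ∀ E ∈ 𝒦, ∀ K ∈ 𝒦, ∃ h : H, K = conjS h E)
    (hres : Cfsg.pResidual p H ≤ sSup 𝒦)
    (hnorm : ∀ E ∈ 𝒦, sSup 𝒦 ⊔ Cfsg.pCore p H ≤
      Subgroup.normalizer ((E ⊔ Cfsg.pCore p H : Subgroup H) : Set H))
    (hmin : ∀ E ∈ 𝒦, ∀ T : Sylow p ↥E, Cfsg.IsMinimalOver (T : Subgroup ↥E)) (S : Sylow p H) :
    Cfsg.IsMinimalOver (S : Subgroup H) := by
  set P := Cfsg.pCore p H with hP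
  haveI hPn : P.Normal := pCore_normal p H
  set R := sSup 𝒦 with hR
  have hsubE : ∀ E ∈ 𝒦, (E ⊔ P).IsSubnormal := fun E hE => by
    have hRn : (R ⊔ P).Normal := normal_of_conjS_le fun x => (conjS_sup x R P).le.trans
      (sup_le_sup (conjS_sSup_le hinv x) (conjS_normal x P).le)
    exact Subgroup.IsSubnormal.step _ _ (sup_le_sup_right (le_sSup hE) _) hRn.isSubnormal
      (subgroupOf_normal_of_le (hnorm E hE))
  have hsyl : ∀ E ∈ 𝒦, ∃ T : Sylow p ↥E, (T : Subgroup ↥E).map E.subtype ≤ (S : Subgroup H) := by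
    intro E hE
    have hs := IsSylowOf.inf_subnormal (isSylowOf_top S) (hsubE E hE)
    obtain ⟨T0, hT0⟩ := exists_isSylowOf p E
    have hp0 : IsPGroup p ↥(T0 ⊔ P) := hT0.isPGroup.to_sup_of_normal_right (pCore_isPGroup p H)
    obtain ⟨g, hg, hle⟩ := hs.exists_conj_le (sup_le_sup_right hT0.le P) hp0
    obtain ⟨q, hq, e, he, rfl⟩ := Subgroup.mem_sup_of_normal_left.1 (sup_comm E P ▸ hg)
    have h1 : conjS q (conjS e T0) ≤ (S : Subgroup H) := by
      rw [← conjS_mul]
      exact (conjS_mono _ le_sup_left).trans (hle.trans inf_le_left)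
    have hqS : conjS q⁻¹ (S : Subgroup H) = S := conjS_mem_eq_self (inv_mem (pCore_le_sylow S hq))
    obtain ⟨T, hT⟩ : ∃ T : Sylow p ↥E, (T : Subgroup ↥E).map E.subtype = conjS e T0 := by
      have := hT0.conjS e
      rw [conjS_mem_eq_self he] at this
      exact this.exists_sylow
    refine ⟨T, ?_⟩
    rw [hT]
    have := conjS_mono q⁻¹ h1
    rwa [conjS_inv_cancel, hqS] at this
  choose! T hTS using hsyl
  have hex : ∀ E ∈ 𝒦, ∃ Y : Subgroup H, (S : Subgroup H) ⊓ (E ⊔ P) ≤ Y ∧ Y < E ⊔ P ∧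
      ∀ Z, (S : Subgroup H) ⊓ (E ⊔ P) ≤ Z → Z < E ⊔ P → Z ≤ Y := by
    intro E hE
    obtain ⟨hgen, M, ⟨hM, hTM⟩, hu⟩ := hmin E hE (T E)
    have hPE : P.subgroupOf E ≤ M := by
      refine le_trans ?_ hTM
      refine le_trans (le_pCore inferInstance ?_) (pCore_le_sylow _)
      exact (pCore_isPGroup p H).comap_subtype
    have hbound : ∀ Z, (S : Subgroup H) ⊓ (E ⊔ P) ≤ Z → Z < E ⊔ P → Z ≤ M.map E.subtype ⊔ P := by
      intro Z h1 h2
      have hPZ : P ≤ Z := (le_inf (pCore_le_sylow S) le_sup_right).trans h1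
      refine (subgroupOf_map_sup hPn hPZ h2.le).trans (sup_le_sup_right ?_ _)
      have hne : Z.subgroupOf E ≠ ⊤ := fun e =>
        h2.not_ge (sup_le (Subgroup.subgroupOf_eq_top.1 e) hPZ)
      obtain ⟨M', hM', hle⟩ := exists_coatom_ge hne
      have hT' : ((T E : Sylow p ↥E) : Subgroup ↥E) ≤ M' := by
        refine le_trans (Subgroup.map_le_iff_le_comap.1 ?_) hle
        exact (le_inf (hTS E hE) ((Subgroup.map_subtype_le _).trans le_sup_left)).trans h1
      rw [hu M' ⟨hM', hT'⟩] at hle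
      intro z hz
      obtain ⟨hz1, hz2⟩ := Subgroup.mem_inf.1 hz
      exact Subgroup.mem_map_of_mem E.subtype (hle (show (⟨z, hz2⟩ : ↥E) ∈ Z.subgroupOf E from hz1))
    have hlt : M.map E.subtype ⊔ P < E ⊔ P := by
      refine lt_of_le_of_ne (sup_le_sup_right (Subgroup.map_subtype_le _) _) fun e => hM.1 (eq_top_iff.2 fun x _ => ?_)
      have hx : (x : H) ∈ M.map E.subtype ⊔ P := e.ge (Subgroup.mem_sup_left x.2)
      obtain ⟨m, hm, q, hq, hmq⟩ := Subgroup.mem_sup_of_normal_right.1 hx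
      obtain ⟨m', hm', rfl⟩ := hm
      have hqE : q ∈ E := by
        have := mul_mem (inv_mem m'.2) x.2
        rw [← hmq] at this
        simpa using this
      rw [show x = m' * ⟨q, hqE⟩ from Subtype.ext hmq.symm]
      exact mul_mem hm' (hPE hq)
    by_cases hle : (S : Subgroup H) ⊓ (E ⊔ P) ≤ M.map E.subtype ⊔ P
    · exact ⟨_, hle, hlt, hbound⟩
    · refine absurd (hbound _ le_rfl (lt_of_le_of_ne inf_le_right fun e => ?_)) hle
      have hp' : IsPGroup p ↥E := S.isPGroup'.to_le ((le_sup_left.trans e.ge).trans inf_le_left)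
      have htop : ((T E : Sylow p ↥E) : Subgroup ↥E) = ⊤ :=
        ((T E).is_maximal' (hp'.of_equiv Subgroup.topEquiv.symm) le_top).symm
      exact hM.1 (eq_top_iff.2 (htop ▸ hTM))
  choose! m hm1 hm2 hm3 using hex
  have hEP : ∀ (x : H) (E : Subgroup H), conjS x (E ⊔ P) = conjS x E ⊔ P := fun x E => by
    rw [conjS_sup, conjS_normal x P]
  have huniq : ∀ x : H, ∀ E ∈ 𝒦, conjS x ((S : Subgroup H) ⊓ (E ⊔ P)) ≤ m (conjS x E) →
      (S : Subgroup H) ⊓ (conjS x E ⊔ P) ≤ conjS x (m E) → conjS x (m E) = m (conjS x E) := by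
    intro x E hE h1 h2
    have hlt : conjS x (m E) < conjS x E ⊔ P :=
      lt_of_le_of_ne ((conjS_mono x (hm2 E hE).le).trans (hEP x E).le) fun e => (hm2 E hE).ne (by
        have := congrArg (conjS x⁻¹) (e.trans (hEP x E).symm)
        rwa [conjS_inv_cancel, conjS_inv_cancel] at this)
    refine le_antisymm (hm3 _ (hinv x E hE) _ h2 hlt) ?_
    have h3 := hm3 E hE (conjS x⁻¹ (m (conjS x E))) (by
      have := conjS_mono x⁻¹ h1
      rwa [conjS_inv_cancel] at this) (lt_of_le_of_ne (by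
      have := conjS_mono x⁻¹ ((hm2 _ (hinv x E hE)).le.trans (hEP x E).ge)
      rwa [conjS_inv_cancel] at this) fun e => (hm2 _ (hinv x E hE)).ne (by
      have := congrArg (conjS x) e
      rwa [conjS_cancel_inv, hEP] at this))
    have := conjS_mono x h3
    rwa [conjS_cancel_inv] at this
  let Φ : Subgroup H :=
    { carrier := {x | ∀ E ∈ 𝒦, conjS x (m E) = m (conjS x E)}
      one_mem' := fun E _ => by rw [conjS_one, conjS_one]
      mul_mem' := fun {a b} ha hb E hE => by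
        rw [conjS_mul, conjS_mul, hb E hE, ha _ (hinv b E hE)]
      inv_mem' := fun {a} ha E hE => by
        have := congrArg (conjS a⁻¹) (ha _ (hinv a⁻¹ E hE))
        rw [conjS_inv_cancel, conjS_cancel_inv] at this
        exact this.symm }
  have hSΦ : (S : Subgroup H) ≤ Φ := fun s hs E hE => by
    have e : conjS s ((S : Subgroup H) ⊓ (E ⊔ P)) = (S : Subgroup H) ⊓ (conjS s E ⊔ P) := by
      rw [conjS_inf, conjS_mem_eq_self hs, hEP]
    exact huniq s E hE (e.le.trans (hm1 _ (hinv s E hE))) (e.ge.trans (conjS_mono s (hm1 E hE)))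
  have hRn : R.Normal := normal_of_conjS_le fun x => conjS_sSup_le hinv x
  have hRS : R ⊔ (S : Subgroup H) = ⊤ :=
    top_le_iff.1 ((pResidual_sup_sylow S).ge.trans (sup_le_sup_right hres _))
  have hX : ∀ X : Subgroup H, (S : Subgroup H) ≤ X → X ≠ ⊤ → X ≤ Φ := by
    intro X hSX hne
    have hnot : ∀ E ∈ 𝒦, X ⊓ (E ⊔ P) < E ⊔ P := by
      intro E hE
      refine lt_of_le_of_ne inf_le_right fun e => hne (top_le_iff.1 (hRS.ge.trans (sup_le ?_ hSX)))
      refine sSup_le fun K hK => ?_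
      obtain ⟨h, rfl⟩ := htr E hE K hK
      haveI := hRn
      obtain ⟨s, hs, r, hr, rfl⟩ := Subgroup.mem_sup_of_normal_right.1
        (show h ∈ (S : Subgroup H) ⊔ R by rw [sup_comm, hRS]; trivial)
      have h1 : conjS r (E ⊔ P) = E ⊔ P :=
        conjS_eq_self_iff.2 (hnorm E hE (Subgroup.mem_sup_left hr))
      refine le_trans ((le_sup_left : _ ≤ _ ⊔ P).trans (hEP _ E).ge) ?_
      rw [conjS_mul, h1, ← conjS_mem_eq_self (hSX hs)]
      exact conjS_mono s (e.ge.trans inf_le_left)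
    intro x hx E hE
    have e : conjS x (X ⊓ (E ⊔ P)) = X ⊓ (conjS x E ⊔ P) := by
      rw [conjS_inf, conjS_mem_eq_self hx, hEP]
    have hXm : ∀ K ∈ 𝒦, X ⊓ (K ⊔ P) ≤ m K := fun K hK =>
      hm3 K hK _ (inf_le_inf_right _ hSX) (hnot K hK)
    refine huniq x E hE ?_ ?_
    · exact ((conjS_mono x (inf_le_inf_right _ hSX)).trans e.le).trans (hXm _ (hinv x E hE))
    · exact ((inf_le_inf_right _ hSX).trans e.ge).trans (conjS_mono x (hXm E hE))
  have hΦ : Φ ≠ ⊤ := by
    intro e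
    obtain ⟨E, hE⟩ := hne
    have hfix : E ≤ Subgroup.normalizer (m E : Set H) := fun g hg => by
      have := (show g ∈ Φ from e ▸ Subgroup.mem_top g) E hE
      rw [conjS_mem_eq_self hg] at this
      exact conjS_eq_self_iff.1 this
    obtain ⟨hgen, -⟩ := hmin E hE (T E)
    have hsubn : ((m E).subgroupOf E).Normal := subgroupOf_normal_of_le hfix
    have h1 : (⊤ : Subgroup ↥E) ≤ (m E).subgroupOf E := by
      rw [← hgen]
      refine @Subgroup.normalClosure_le_normal _ _ _ _ hsubn fun x hx => ?_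
      exact hm1 E hE (Subgroup.mem_inf.2 ⟨hTS E hE (Subgroup.mem_map_of_mem E.subtype hx),
        Subgroup.mem_sup_left x.2⟩)
    refine (hm2 E hE).not_ge (sup_le (fun x hx => h1 (Subgroup.mem_top (⟨x, hx⟩ : ↥E))) ?_)
    exact (le_inf (pCore_le_sylow S) le_sup_right).trans (hm1 E hE)
  refine ⟨?_, Φ, ⟨⟨hΦ, fun X h => ?_⟩, hSΦ⟩, ?_⟩
  · set N := Subgroup.normalClosure ((S : Subgroup H) : Set H) with hN
    refine top_le_iff.1 (hRS.ge.trans (sup_le (sSup_le fun K hK => ?_) Subgroup.le_normalClosure))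
    obtain ⟨hgen, -⟩ := hmin K hK (T K)
    have h1 : (⊤ : Subgroup ↥K) ≤ N.subgroupOf K := by
      rw [← hgen]
      refine @Subgroup.normalClosure_le_normal _ _ _ _ (Subgroup.normalClosure_normal.subgroupOf K) fun x hx => ?_
      exact Subgroup.le_normalClosure (hTS K hK (Subgroup.mem_map_of_mem K.subtype hx))
    exact fun x hx => h1 (Subgroup.mem_top (⟨x, hx⟩ : ↥K))
  · by_contra hne'
    exact h.not_ge (hX X (hSΦ.trans h.le) hne')
  · rintro Y ⟨hY, hSY⟩
    exact ((hY.le_iff.1 (hX Y hSY hY.1)).resolve_left hΦ).symm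

/-- Let H be a finite group, p a prime, and 𝒦 a nonempty set of subgroups of H permuted transitively by conjugation, with R the subgroup generated by the members of 𝒦. Suppose O^p(H) ≤ R, each E ∈ 𝒦 has E·O_p(H) normal in R·O_p(H), and each E ∈ 𝒦 is p-minimal (generated by the conjugates of a Sylow p-subgroup T_E of E, with T_E in exactly one maximal subgroup of E). Then H is p-minimal in the same sense. If instead each E ∈ 𝒦 is strongly p-irreducible, then H is p-irreducible and, for E, K ∈ 𝒦, either O^p(E·O_p(H)) = O^p(K·O_p(H)) or [E, K] ≤ O_p(H). -/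
theorem result {H : Type*} [Group H] [Finite H] {p : ℕ} [Fact p.Prime] (𝒦 : Set (Subgroup H)) (hne : 𝒦.Nonempty) (hinv : ∀ h : H, ∀ E ∈ 𝒦, E.map (MulAut.conj h).toMonoidHom ∈ 𝒦) (htr : ∀ E ∈ 𝒦, ∀ K ∈ 𝒦, ∃ h : H, K = E.map (MulAut.conj h).toMonoidHom) (hres : Cfsg.pResidual p H ≤ sSup 𝒦) (hnorm : ∀ E ∈ 𝒦, sSup 𝒦 ⊔ Cfsg.pCore p H ≤ Subgroup.normalizer ((E ⊔ Cfsg.pCore p H : Subgroup H) : Set H)) : ((∀ E ∈ 𝒦, ∀ T : Sylow p ↥E, Cfsg.IsMinimalOver (T : Subgroup ↥E)) → ∀ T : Sylow p H, Cfsg.IsMinimalOver (T : Subgroup H)) ∧ ((∀ E ∈ 𝒦, Cfsg.IsStronglyPIrreducible p ↥E) → Cfsg.IsPIrreducible p H ∧ ∀ E ∈ 𝒦, ∀ K ∈ 𝒦, (Cfsg.pResidual p ↥(E ⊔ Cfsg.pCore p H)).map (E ⊔ Cfsg.pCore p H).subtype = (Cfsg.pResidual p ↥(K ⊔ Cfsg.pCore p H)).map (K ⊔ Cfsg.pCore p H).subtype ∨ ⁅E, K⁆ ≤ Cfsg.pCore p H) := by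
  simp only [map_conj_eq] at hinv htr
  refine ⟨fun hmin S => part_one 𝒦 hne hinv htr hres hnorm hmin S, fun hsi => ?_⟩
  set P := Cfsg.pCore p H with hP
  haveI hPn : P.Normal := pCore_normal p H
  set f := QuotientGroup.mk' P with hf
  have hker : IsPGroup p ↥f.ker := by
    rw [hf, QuotientGroup.ker_mk']
    exact pCore_isPGroup p H
  haveI : Nonempty {E // E ∈ 𝒦} := let ⟨E, hE⟩ := hne; ⟨⟨E, hE⟩⟩
  have hO : Cfsg.pCore p (H ⧸ P) = ⊥ := Cores.pCore_quotient_pCore p H
  have hRf : (⨆ i : {E // E ∈ 𝒦}, (i : Subgroup H).map f) = (sSup 𝒦).map f := by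
    rw [sSup_eq_iSup', Subgroup.map_iSup]

  have hcomap : ∀ K : Subgroup H, (K.map f).comap f = K ⊔ P := fun K => by
    rw [Subgroup.comap_map_eq, hf, QuotientGroup.ker_mk']
  have hres' : Cfsg.pResidual p (H ⧸ P) ≤ (sSup 𝒦).map f := by
    rw [← map_pResidual_of_surjective f (QuotientGroup.mk'_surjective P)]
    exact Subgroup.map_mono hres
  have hn : ∀ E ∈ 𝒦, (sSup 𝒦).map f ≤ Subgroup.normalizer (E.map f : Set (H ⧸ P)) := by
    intro E hE
    have he : E.map f = (E ⊔ P).map f := by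
      rw [Subgroup.map_sup, (Subgroup.map_eq_bot_iff P).2 (QuotientGroup.ker_mk' P).ge, sup_bot_eq]
    rw [he]
    exact (Subgroup.map_mono (le_sup_left.trans (hnorm E hE))).trans (Subgroup.le_normalizer_map f)
  obtain ⟨hirr, hdich⟩ := part_two (p := p) hO (fun i : {E // E ∈ 𝒦} => (i : Subgroup H).map f)
    (fun x i => by
      obtain ⟨y, rfl⟩ := QuotientGroup.mk'_surjective P x
      exact ⟨⟨_, hinv y i i.2⟩, (map_conjS f y _).symm⟩)
    (fun i j => by
      obtain ⟨x, hx⟩ := htr i i.2 j j.2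
      exact ⟨f x, by rw [← map_conjS f x, ← hx]⟩)
    (by rw [hRf]; exact hres') (fun i => by rw [hRf]; exact hn i i.2)
    (fun i => by
      by_contra hd
      refine (hsi i i.2).1 (isPClosed_sub_iff.2 fun A hA hAp => ?_)
      have h1 : A.map f = ⊥ := by
        obtain ⟨k, hk⟩ := IsPGroup.iff_card.1 (hAp.map f)
        refine Subgroup.eq_bot_of_card_eq _ ?_
        rw [hk]
        rcases k with _ | k
        · rfl
        · exact absurd (((dvd_pow_self p k.succ_ne_zero).trans (dvd_of_eq hk.symm)).trans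
            (Subgroup.card_dvd_of_le (Subgroup.map_mono hA))) hd
      have h2 : A ≤ P := by
        rw [Subgroup.map_eq_bot_iff, hf, QuotientGroup.ker_mk'] at h1
        exact h1
      exact (le_inf hA h2).trans (le_pCoreOf inf_le_left
        (le_normalizer_inf Subgroup.le_normalizer (le_normalizer_of_normal _ P))
        (pCore_isPGroup p H).to_inf_right))
    (fun i N hNle hNn => by
      obtain ⟨E, hE⟩ := i
      have hPE : Cfsg.pCoreOf p E ≤ P := by
        have hsub : (E ⊔ P).IsSubnormal := by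
          have hRn : (sSup 𝒦 ⊔ P).Normal := normal_of_conjS_le fun x => (conjS_sup x _ P).le.trans
            (sup_le_sup (conjS_sSup_le hinv x) (conjS_normal x P).le)
          exact Subgroup.IsSubnormal.step _ _ (sup_le_sup_right (le_sSup hE) _) hRn.isSubnormal
            (subgroupOf_normal_of_le (hnorm E hE))
        refine le_sup_left.trans ((le_pCoreOf (sup_le_sup_right (pCoreOf_le E) P) ?_
          ((pCoreOf_isPGroup E).to_sup_of_normal_right (pCore_isPGroup p H))).trans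
          (pCoreOf_le_pCore_of_subnormal hsub))
        exact sup_le (le_normalizer_sup (le_normalizer_pCoreOf E) (le_normalizer_of_normal _ P))
          (le_sup_right.trans Subgroup.le_normalizer)
      set N0 := (N.comap f).subgroupOf E with hN0
      have hN0n : N0.Normal := subgroupOf_normal_of_le fun e he => by
        rw [Subgroup.mem_normalizer_iff]
        intro y
        simp only [Subgroup.mem_comap, map_mul, map_inv]
        exact Subgroup.mem_normalizer_iff.1 (hNn (Subgroup.mem_map_of_mem f he)) (f y)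
      by_cases hc : ⁅N0, (⊤ : Subgroup ↥E)⁆ ≤ Cfsg.pCore p ↥E
      · left
        rw [eq_bot_iff, Subgroup.commutator_le]
        intro a ha b hb
        obtain ⟨e, he, rfl⟩ := hNle ha
        obtain ⟨e', he', rfl⟩ := hb
        have h1 : ⁅e, e'⁆ ∈ P := hPE (Subgroup.mem_map_of_mem E.subtype (hc
          (Subgroup.commutator_mem_commutator (show (⟨e, he⟩ : ↥E) ∈ N0 from ha)
            (Subgroup.mem_top (⟨e', he'⟩ : ↥E)))))
        rw [← map_commutatorElement, Subgroup.mem_bot]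
        exact (QuotientGroup.eq_one_iff _).2 h1
      · right
        refine (pResOf_map_le f E).trans ?_
        rintro _ ⟨e, ⟨e', he', rfl⟩, rfl⟩
        exact (hsi E hE).2 N0 hN0n hc he')
  refine ⟨⟨fun hcl => ?_, fun N hN hnc => ?_⟩, fun E hE K hK => ?_⟩
  · obtain ⟨E, hE⟩ := hne
    exact (hsi E hE).1 (isPClosed_mono (isPClosed_iff_top.2 hcl) le_top)
  · have h1 := hirr _ (hN.map f (QuotientGroup.mk'_surjective P)) fun h => hnc ((isPClosed_map_iff hker).1 h)
    rw [← map_pResidual_of_surjective f (QuotientGroup.mk'_surjective P)] at h1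
    have h2 : Cfsg.pResidual p H ≤ N ⊔ P := by
      rw [← hcomap]
      exact Subgroup.map_le_iff_le_comap.1 h1
    haveI := hN
    calc Cfsg.pResidual p H = pResOf p (pResOf p (⊤ : Subgroup H)) := by rw [pResOf_pResOf, pResOf_top]
      _ ≤ pResOf p (N ⊔ P) := pResOf_mono (by rw [pResOf_top]; exact h2)
      _ ≤ N := pResOf_le_of_sup_isPGroup (le_normalizer_of_normal _ N) (pCore_isPGroup p H) rfl
  · rcases hdich ⟨E, hE⟩ ⟨K, hK⟩ with h | h
    · left
      have key : ∀ A B : Subgroup H, pResOf p (A.map f) ≤ pResOf p (B.map f) →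
          pResOf p (A ⊔ P) ≤ pResOf p (B ⊔ P) := by
        intro A B hAB
        refine (pResOf_pResOf _).ge.trans (pResOf_mono (pResOf_le_iff.2 fun x hx hc => ?_))
        have h1 : f x ∈ pResOf p (A.map f) := by
          refine mem_pResOf_of_coprime ?_ (Nat.Coprime.coprime_dvd_left (orderOf_map_dvd f x) hc)
          rw [← hcomap] at hx
          exact hx
        rw [← hcomap]
        exact pResOf_le (p := p) (B.map f) (hAB h1)
      exact le_antisymm (key E K h.le) (key K E h.ge)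
    · right
      rw [← Subgroup.map_commutator, Subgroup.map_eq_bot_iff, hf, QuotientGroup.ker_mk'] at h
      exact h

end Cfsg.Agent.S2855
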