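import Cfsg.Statements.S2856
import Cfsg.Agent.Lib.LocalEven.AmalgamV

set_option autoImplicit false
open Cfsg Cfsg.Agent Cfsg.Agent.Lib Cfsg.Agent.Lib.LocalEven
open scoped commutatorElement

namespace Cfsg.Agent.S2856

/-- Let (M₁, M₂) be an amalgam pair in X satisfying the rank-two standing hypothesis (characteristic p, the normalizers in M₁ and in M₂ of a Sylow p-subgroup of M₁ ∩ M₂ equal and contained in M₁ ∩ M₂, and strongly p-embedded residues), λ a vertex of the coset graph, L_λ the subgroup of its stabilizer generated by the p-elements, Q_λ = O_p of the stabilizer, O^p(L_λ) the subgroup of L_λ generated by its elements of order prime to p, and V_λ^{(k)} the subgroup generated by the Z_μ over the vertices μ at distance at most k from λ (Z_μ being generated by the Ω₁(Z(S)), S a Sylow p-subgroup of the stabilizer of μ). If n ≥ 1 and V_λ^{(n)} ≤ Q_λ, then O^p(L_λ) does not centralize V_λ^{(n)}/[V_λ^{(n)}, Q_λ], that is, [V_λ^{(n)}, O^p(L_λ)] is not contained in [V_λ^{(n)},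 Q_λ]. -/
theorem result {X : Type*} [Group X] {p : ℕ} [Fact p.Prime] (M₁ M₂ : Subgroup X) (h : Cfsg.IsSpeAmalgamPair p M₁ M₂) (lam : Cfsg.CosetVertex M₁ M₂) (n : ℕ) (hn : 1 ≤ n) (V : Subgroup X) (hV : V = Cfsg.vertexVIter p M₁ M₂ n lam) (hVQ : V ≤ Cfsg.vertexQ p lam) : ¬ ⁅V, ((Cfsg.pResidual p ↥(Cfsg.pElementClosure p (MulAction.stabilizer X lam))).map (Cfsg.pElementClosure p (MulAction.stabilizer X lam)).subtype)⁆ ≤ ⁅V, Cfsg.vertexQ p lam⁆ := by
  obtain ⟨m, rfl⟩ : ∃ m, n = m + 1 := ⟨n - 1, by omega⟩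
  subst hV
  intro hc
  have hch := h.1
  have hconn := cosetGraph_connected hch.1.1
  obtain ⟨mu, hadj⟩ := exists_neighbour lam
  have hfin := stabilizer_finite hch lam
  haveI : Finite (Cfsg.pElementClosure p (MulAction.stabilizer X lam)) :=
    Finite.of_injective _ (Subgroup.inclusion_injective (pElementClosure_le _))
  obtain ⟨T, hT⟩ := exists_isSylowOf p (Cfsg.edgeStabilizer lam mu)
  obtain ⟨hTl, hTm⟩ := edge_isSylowOf hch hadj hT
  set V := Cfsg.vertexVIter p M₁ M₂ (m + 1) lam with hV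
  set W := Cfsg.vertexVIter p M₁ M₂ m mu with hW
  set L := Cfsg.pElementClosure p (MulAction.stabilizer X lam) with hL
  set Q := Cfsg.vertexQ p lam with hQ
  have hQn : MulAction.stabilizer X lam ≤ Subgroup.normalizer (Q : Set X) := le_normalizer_pCoreOf _
  have hVn : MulAction.stabilizer X lam ≤ Subgroup.normalizer (V : Set X) :=
    stabilizer_le_normalizer_vertexVIter hconn (m + 1) lam
  have hDn := le_normalizer_commutator hVn hQn
  have hQmu : Q ≤ MulAction.stabilizer X mu :=
    (vertexQ_le_neighbourKernel hch lam).trans (neighbourKernel_le_adj hadj)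
  have hWn : MulAction.stabilizer X mu ≤ Subgroup.normalizer (W : Set X) :=
    stabilizer_le_normalizer_vertexVIter hconn m mu
  have hd1 : (Cfsg.cosetGraph M₁ M₂).dist lam mu = 1 := SimpleGraph.dist_eq_one_iff_adj.2 hadj
  have hWV : W ≤ V := iSup_le fun ρ => vertexZ_le_vertexVIter hconn <| by
    have := hconn.dist_triangle (u := lam) (v := mu) (w := (ρ : Cfsg.CosetVertex M₁ M₂))
    have h2 := ρ.2
    omega
  have hDV : ⁅V, Q⁆ ≤ V :=
    commutator_le_of_le_normalizer ((pCoreOf_le _).trans hVn)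
  -- `L` normalizes `W ⊔ [V, Q]`
  have hTL : T ≤ L := le_pElementClosure hTl.le hTl.isPGroup
  have hLWD : L ≤ Subgroup.normalizer ((W ⊔ ⁅V, Q⁆ : Subgroup X) : Set X) := by
    refine (pResOf_sup_sylow (hTl.mono hTL (pElementClosure_le _))).ge.trans (sup_le ?_ ?_)
    · exact le_normalizer_of_commutator_le
        (((Subgroup.commutator_mono (sup_le hWV hDV) le_rfl).trans hc).trans le_sup_right)
    · exact le_normalizer_sup (hTm.le.trans hWn) (hTl.le.trans hDn)
  have hVle : V ≤ (Cfsg.vertexZ p lam ⊔ W) ⊔ ⁅V, Q⁆ := by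
    refine iSup_le fun ρ => ?_
    by_cases e : lam = (ρ : Cfsg.CosetVertex M₁ M₂)
    · rw [← e]; exact le_sup_left.trans le_sup_left
    obtain ⟨c, hac, hcd⟩ := exists_step_of_connected hconn e
    have hcm : (Cfsg.cosetGraph M₁ M₂).dist c (ρ : Cfsg.CosetVertex M₁ M₂) ≤ m := by
      have := ρ.2; omega
    obtain ⟨g, hg, rfl⟩ := neighbours_transitive hadj hac
    obtain ⟨l, hl, r, hr, rfl⟩ := pElementClosure_frattini hTl hg
    refine (vertexZ_le_vertexVIter hconn hcm).trans ?_
    have h3 := conjS_mono (l * r) (vertexVIter_conj_le (p := p) hconn (l * r)⁻¹ m ((l * r) • mu))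
    rw [conjS_cancel_inv, inv_smul_smul] at h3
    refine h3.trans ?_
    rw [conjS_mul, conjS_eq_self_iff.2 (hWn (normalizer_le_adj h hadj hT hr))]
    refine (conjS_mono l (le_sup_left : W ≤ W ⊔ ⁅V, Q⁆)).trans ?_
    rw [conjS_eq_self_iff.2 (hLWD hl)]
    exact sup_le (le_sup_right.trans le_sup_left) le_sup_right
  -- `Q` centralizes `Z_λ`
  have hZQ : ⁅Cfsg.vertexZ p lam, Q⁆ ≤ ⊥ := by
    refine le_of_eq (le_centralizer_iff_commutator.1 ?_)
    show Cfsg.sylowCenterClosure p _ ≤ _
    rw [sylowCenterClosure_eq]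
    exact iSup_le fun T' => (omZ_le_centralizer _).trans (Subgroup.centralizer_le T'.2.pCoreOf_le)
  have hQZ : Q ≤ Subgroup.normalizer ((Cfsg.vertexZ p lam : Subgroup X) : Set X) :=
    (pCoreOf_le _).trans (le_normalizer_sylowCenterClosure _)
  have hQW : Q ≤ Subgroup.normalizer (W : Set X) := hQmu.trans hWn
  haveI : Finite Q := Finite.of_injective _ (Subgroup.inclusion_injective (pCoreOf_le _))
  haveI : Finite ↥(V ⊔ Q) := by rw [sup_eq_right.2 hVQ]; infer_instance
  have hVZW : V ≤ Cfsg.vertexZ p lam ⊔ W := by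
    refine le_of_nilpotent_step (p := p) ?_ ?_ hVle
    · rw [sup_eq_right.2 hVQ]; exact pCoreOf_isPGroup _
    · rw [sup_eq_right.2 hVQ]; exact le_normalizer_sup hQZ hQW
  refine not_commutator_le h hadj m hVQ (hc.trans ?_)
  refine (Subgroup.commutator_mono hVZW le_rfl).trans (commutator_sup_le ?_ Subgroup.le_normalizer ?_ ?_)
  · exact ((vertexZ_le_vertexQ hch lam).trans hQW)
  · exact hZQ.trans bot_le
  · exact commutator_le_of_le_normalizer hQW

end Cfsg.Agent.S2856
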