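import Cfsg.Statements.S2859
import Cfsg.Agent.Lib.LocalEven.NormalGen

set_option autoImplicit false
open Cfsg Cfsg.Agent Cfsg.Agent.Lib Cfsg.Agent.Lib.LocalEven
open scoped commutatorElement

namespace Cfsg.Agent.S2859

theorem central_lemma {X : Type*} [Group X] {A B Q K : Subgroup X} (hB : ∀ a ∈ A, ∀ b ∈ B, a * b * a⁻¹ ∈ B)
    (hA : ∀ b ∈ B, ∀ a ∈ A, b * a * b⁻¹ ∈ A)
    (hZ : ∀ a ∈ A, ∀ b ∈ B, ∀ x : X, Commute (⁅a, b⁆) x)
    (hQ : ∀ q ∈ Q, ∃ q1 ∈ A, ∃ q2 ∈ B, q = q1 * q2) (hK : K ≤ A) (hKQ : K ≤ ⁅K, Q⁆) :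
    ∀ k ∈ K, ∀ h ∈ B, Commute k h := by
  intro k hk h hh
  have hS : ⁅K, Q⁆ ≤ Subgroup.centralizer (B : Set X) := by
    rw [Subgroup.commutator_le]
    intro k hk q hq
    obtain ⟨q1, h1, q2, h2, rfl⟩ := hQ q hq
    have hka := hK hk
    rw [Subgroup.mem_centralizer_iff]
    intro b hb
    -- `x ↦ ⁅x, b⁆` is multiplicative on `A`, invariant under conjugation by `Q`
    have hmul : ∀ x ∈ A, ∀ y ∈ A, ⁅x * y, b⁆ = ⁅x, b⁆ * ⁅y, b⁆ := by
      intro x hx y hy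
      have e : ⁅x * y, b⁆ = x * ⁅y, b⁆ * x⁻¹ * ⁅x, b⁆ := by simp [commutatorElement_def, mul_assoc]
      rw [e, ← (hZ y hy b hb x).eq, mul_inv_cancel_right, (hZ y hy b hb _).eq]
    have hz1 : ⁅k, b⁆ = ⁅q1 * q2 * k * (q1 * q2)⁻¹, b⁆ := by
      have hb' : q1⁻¹ * b * q1 ∈ B := by simpa using hB q1⁻¹ (inv_mem h1) b hb
      have hbz : ⁅q1⁻¹, b⁆ * b = q1⁻¹ * b * q1 := by simp [commutatorElement_def, mul_assoc]
      have hkd : ∀ z x : X, (∀ y : X, Commute z y) → ⁅x, z * b⁆ = ⁅x, b⁆ := by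
        intro z x hz
        have : ⁅x, z * b⁆ = ⁅x, z⁆ * (z * ⁅x, b⁆ * z⁻¹) := by simp [commutatorElement_def, mul_assoc]
        rw [this, commutatorElement_eq_one_iff_mul_comm.2 (hz x).eq.symm, one_mul, (hz _).eq,
          mul_inv_cancel_right]
      have hd : q2 * k * q2⁻¹ = ⁅k, q2⁆⁻¹ * k := by simp [commutatorElement_def, mul_assoc]
      have h3 : q1 * q2 * k * (q1 * q2)⁻¹ = ⁅k, q2⁆⁻¹ * (q1 * k * q1⁻¹) := by
        rw [show q1 * q2 * k * (q1 * q2)⁻¹ = q1 * (q2 * k * q2⁻¹) * q1⁻¹ by group, hd]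
        have := (hZ k hka q2 h2 q1).inv_left.eq
        rw [← mul_assoc q1, ← this]
        group
      have h4 : ∀ z x : X, (∀ y : X, Commute z y) → ⁅z * x, b⁆ = ⁅x, b⁆ := by
        intro z x hz
        have : ⁅z * x, b⁆ = z * ⁅x, b⁆ * z⁻¹ * ⁅z, b⁆ := by simp [commutatorElement_def, mul_assoc]
        rw [this, commutatorElement_eq_one_iff_mul_comm.2 (hz b).eq, mul_one, (hz _).eq,
          mul_inv_cancel_right]
      rw [h3, h4 _ _ fun y => (hZ k hka q2 h2 y).inv_left]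
      have h5 : ⁅q1 * k * q1⁻¹, b⁆ = q1 * ⁅k, q1⁻¹ * b * q1⁆ * q1⁻¹ := by
        simp [commutatorElement_def, mul_assoc]
      rw [h5, ← (hZ k hka _ hb' q1).eq, mul_inv_cancel_right, ← hbz,
        hkd _ _ (hZ q1⁻¹ (inv_mem h1) b hb)]
    have hxA : q1 * q2 * k * (q1 * q2)⁻¹ ∈ A := by
      rw [show q1 * q2 * k * (q1 * q2)⁻¹ = q1 * (q2 * k * q2⁻¹) * q1⁻¹ by group]
      exact mul_mem (mul_mem h1 (hA q2 h2 k hka)) (inv_mem h1)
    have hfin : ⁅⁅k, q1 * q2⁆, b⁆ = 1 := by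
      have e : k = ⁅k, q1 * q2⁆ * (q1 * q2 * k * (q1 * q2)⁻¹) := by simp [commutatorElement_def, mul_assoc]
      have hcA : ⁅k, q1 * q2⁆ ∈ A := by
        have := mul_mem hka (inv_mem hxA)
        simpa [commutatorElement_def, mul_assoc] using this
      have h6 := hmul _ hcA _ hxA
      rw [← e, ← hz1] at h6
      exact mul_right_cancel (b := ⁅k, b⁆) (by rw [one_mul]; exact h6.symm)
    exact (commutatorElement_eq_one_iff_mul_comm.1 hfin).symm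
  exact (Subgroup.mem_centralizer_iff.1 (hS (hKQ hk)) h hh).symm

variable {G : Type*} [Group G] [Finite G] {p : ℕ} [Fact p.Prime]

theorem half (Q : Subgroup G) (hQp : IsPGroup p ↥Q) (hwc : Wc p Q) (Hc H₁ H₂ : Subgroup G)
    (hQHc : Q ≤ Hc) (hgenHc : Hc ≤ Cfsg.weakClosure Q Hc) (hn₁ : H₁ ≤ Hc ∧ Hc ≤ Subgroup.normalizer (H₁ : Set G))
    (hn₂ : H₂ ≤ Hc ∧ Hc ≤ Subgroup.normalizer (H₂ : Set G)) (hprod : H₁ ⊔ H₂ = Hc)
    (hcomm : ⁅H₁, H₂⁆ ≤ Subgroup.normalizer (Q : Set G)) :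
    let K := pResOf p (Cfsg.weakClosure Q (H₁ ⊔ Q))
    (⁅K, Q⁆ = K ∧ ⁅K, H₁⁆ = K ∧ K ≤ ⁅H₁, H₁⁆ ∧ Hc ≤ Subgroup.normalizer (K : Set G)) ∧
      K ≤ pResOf p Hc ∧ ⁅K, H₂⁆ ≤ Cfsg.pCoreOf p Hc ∧ H₁ ≤ Subgroup.normalizer ((K ⊔ Q : Subgroup G) : Set G) := by
  set D := ⁅H₁, H₂⁆ with hDdef
  set P := Cfsg.pCoreOf p Hc with hP
  set W := Cfsg.weakClosure Q (H₁ ⊔ Q) with hW
  set K := pResOf p W with hK
  have hQW : Q ≤ W := self_le_weakClosure le_sup_right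
  have hWX : W ≤ H₁ ⊔ Q := weakClosure_le Q _
  have hWe : W = ⨆ k : ↥(H₁ ⊔ Q), conjS (k : G) Q := weakClosure_eq_iSup hwc hQp le_sup_right
  have hgen : ∀ N : Subgroup G, N ≤ W → W ≤ Subgroup.normalizer (N : Set G) → Q ≤ N → N = W := by
    intro N hNW hn hQN
    refine le_antisymm hNW (iSup_le fun g => ?_)
    obtain ⟨k, hk, e⟩ := hwc.exists_conj hQp hQW (conjS_le_weakClosure g.2)
    rw [map_conj_eq, e]
    exact (conjS_mono k hQN).trans (conjS_eq_self_iff.2 (hn hk)).le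
  have hKQ : ⁅K, Q⁆ = K := commutator_pResOf_of_normal_gen hQW hQp hgen
  have hKW : K ≤ W := pResOf_le W
  have hK1 : K ≤ H₁ := (pResOf_mono hWX).trans (pResOf_le_of_sup_isPGroup
    ((sup_le Subgroup.le_normalizer (hQHc.trans hn₁.2))) hQp rfl)
  have hXW : H₁ ⊔ Q ≤ Subgroup.normalizer (W : Set G) := by
    rw [le_normalizer_iff_forall]
    have hle : ∀ a ∈ H₁ ⊔ Q, conjS a W ≤ W := by
      intro a ha
      rw [hWe, conjS_iSup]
      refine iSup_le fun x => ?_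
      rw [← conjS_mul]
      exact le_iSup (fun k : ↥(H₁ ⊔ Q) => conjS (k : G) Q) ⟨a * x, mul_mem ha x.2⟩
    intro a ha
    refine le_antisymm (hle a ha) ?_
    have := conjS_mono a (hle a⁻¹ (inv_mem ha))
    rwa [conjS_cancel_inv] at this
  have hXK : H₁ ⊔ Q ≤ Subgroup.normalizer (K : Set G) := le_normalizer_pResOf hXW
  have hDn : Hc ≤ Subgroup.normalizer (D : Set G) := le_normalizer_commutator hn₁.2 hn₂.2
  have hDHc : D ≤ Hc := (commutator_le_of_le_normalizer (hn₂.1.trans hn₁.2)).trans hn₁.1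
  have hcent : ⁅D, Hc⁆ ≤ P := by
    have hQc : ∀ a ∈ Hc, ⁅D, conjS a Q⁆ ≤ P := by
      intro a ha
      have h1 : conjS a Q ≤ Hc := conjS_le_of_mem hQHc ha
      have h2 : D ≤ Subgroup.normalizer (conjS a Q : Set G) := by
        have := conjS_mono a hcomm
        rwa [conjS_normalizer, conjS_eq_self_iff.2 (hDn ha)] at this
      refine (le_inf (commutator_le_of_le_normalizer (h1.trans hDn))
        (commutator_le_of_le_normalizer' h2)).trans ?_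
      refine (le_pCoreOf inf_le_left (le_normalizer_inf Subgroup.le_normalizer h2)
        (hQp.map _).to_inf_right).trans (pCoreOf_le_pCoreOf_of_normalized hDHc hDn)
    have hQe : Hc = ⨆ a : Hc, conjS (a : G) Q := by
      refine le_antisymm ?_ (iSup_le fun a => conjS_le_of_mem hQHc a.2)
      rw [← weakClosure_eq_iSup hwc hQp hQHc]
      exact hgenHc
    rw [Subgroup.commutator_comm]
    conv_lhs => arg 1; rw [hQe]
    refine commutator_iSup_le (fun a => (conjS_le_of_mem hQHc a.2).trans (le_normalizer_pCoreOf Hc)) fun a => ?_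
    rw [Subgroup.commutator_comm]
    exact hQc a a.2
  have hKH2 : ⁅K, H₂⁆ ≤ P := by
    haveI := subgroupOf_normal_of_le (le_normalizer_pCoreOf (p := p) Hc)
    set f := QuotientGroup.mk' (P.subgroupOf Hc) with hf
    have hker : ∀ x : ↥Hc, f x = 1 ↔ (x : G) ∈ P := fun x => by
      rw [hf, QuotientGroup.mk'_apply, QuotientGroup.eq_one_iff, Subgroup.mem_subgroupOf]
    set A := (H₁.subgroupOf Hc).map f with hA
    set B := (H₂.subgroupOf Hc).map f with hB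
    set K' := (K.subgroupOf Hc).map f with hK'
    set Q' := (Q.subgroupOf Hc).map f with hQ'
    have hKHc : K ≤ Hc := hK1.trans hn₁.1
    have key := central_lemma (A := A) (B := B) (Q := Q') (K := K') ?_ ?_ ?_ ?_
      (Subgroup.map_mono (Subgroup.comap_mono hK1)) ?_
    · rw [Subgroup.commutator_le]
      intro k hk h hh
      have := key _ (Subgroup.mem_map_of_mem f (show (⟨k, hKHc hk⟩ : ↥Hc) ∈ K.subgroupOf Hc from hk))
        _ (Subgroup.mem_map_of_mem f (show (⟨h, hn₂.1 hh⟩ : ↥Hc) ∈ H₂.subgroupOf Hc from hh))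
      have h2 := commutatorElement_eq_one_iff_mul_comm.2 this.eq
      rw [← map_commutatorElement] at h2
      exact (hker _).1 h2
    · rintro _ ⟨a, _, rfl⟩ _ ⟨b, hb, rfl⟩
      rw [← map_inv, ← map_mul, ← map_mul]
      exact Subgroup.mem_map_of_mem f ((Subgroup.mem_normalizer_iff.1 (hn₂.2 a.2) _).1 hb)
    · rintro _ ⟨a, _, rfl⟩ _ ⟨b, hb, rfl⟩
      rw [← map_inv, ← map_mul, ← map_mul]
      exact Subgroup.mem_map_of_mem f ((Subgroup.mem_normalizer_iff.1 (hn₁.2 a.2) _).1 hb)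
    · rintro _ ⟨a, ha, rfl⟩ _ ⟨b, hb, rfl⟩ x
      obtain ⟨y, rfl⟩ := QuotientGroup.mk'_surjective _ x
      have hd : ((⁅a, b⁆ : ↥Hc) : G) ∈ D := Subgroup.commutator_mem_commutator ha hb
      have h2 := (hker ⁅⁅a, b⁆, y⁆).2 (hcent (Subgroup.commutator_mem_commutator hd y.2))
      rw [map_commutatorElement, map_commutatorElement] at h2
      exact commutatorElement_eq_one_iff_mul_comm.1 h2
    · rintro _ ⟨q, _, rfl⟩
      have hq' : (q : G) ∈ H₁ ⊔ H₂ := hprod.ge q.2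
      rw [← SetLike.mem_coe, Subgroup.coe_mul_of_left_le_normalizer_right _ _ (hn₁.1.trans hn₂.2)] at hq'
      obtain ⟨a, ha, b, hb, e⟩ := Set.mem_mul.1 hq'
      refine ⟨_, Subgroup.mem_map_of_mem f (show (⟨a, hn₁.1 ha⟩ : ↥Hc) ∈ H₁.subgroupOf Hc from ha),
        _, Subgroup.mem_map_of_mem f (show (⟨b, hn₂.1 hb⟩ : ↥Hc) ∈ H₂.subgroupOf Hc from hb), ?_⟩
      rw [← map_mul]
      exact congrArg f (Subtype.ext e.symm)
    · rw [← Subgroup.map_commutator]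
      refine Subgroup.map_mono ?_
      rw [← Subgroup.map_le_map_iff_of_injective Hc.subtype_injective, Subgroup.map_commutator,
        Subgroup.map_subgroupOf_eq_of_le hKHc, Subgroup.map_subgroupOf_eq_of_le hQHc, hKQ]
  have hPHc : P ≤ Hc := pCoreOf_le Hc
  have hPQ : P ≤ Subgroup.normalizer (Q : Set G) :=
    le_sup_left.trans (hwc.le_normalizer'
      ((pCoreOf_isPGroup Hc).to_sup_of_normal_left' hQp (hQHc.trans (le_normalizer_pCoreOf Hc))) le_sup_right)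
  have hPW : P ≤ Subgroup.normalizer (W : Set G) := by
    have hPX : P ≤ Subgroup.normalizer ((H₁ ⊔ Q : Subgroup G) : Set G) :=
      le_normalizer_sup (hPHc.trans hn₁.2) hPQ
    rw [le_normalizer_iff_forall]
    have hle : ∀ a ∈ P, conjS a W ≤ W := by
      intro a ha
      rw [hWe, conjS_iSup]
      refine iSup_le fun x => ?_
      have hx : a * (x : G) * a⁻¹ ∈ H₁ ⊔ Q := (Subgroup.mem_normalizer_iff.1 (hPX ha) _).1 x.2
      rw [← conjS_mul, show a * (x : G) = a * x * a⁻¹ * a by group, conjS_mul,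
        conjS_eq_self_iff.2 (hPQ ha)]
      exact le_iSup (fun k : ↥(H₁ ⊔ Q) => conjS (k : G) Q) ⟨_, hx⟩
    intro a ha
    refine le_antisymm (hle a ha) ?_
    have := conjS_mono a (hle a⁻¹ (inv_mem ha))
    rwa [conjS_cancel_inv] at this
  have hPK : P ≤ Subgroup.normalizer (K : Set G) := le_normalizer_pResOf hPW
  have hres : pResOf p (K ⊔ P) = K := by
    refine le_antisymm (pResOf_le_of_sup_isPGroup (sup_le Subgroup.le_normalizer hPK) (pCoreOf_isPGroup Hc) rfl) ?_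
    exact (pResOf_pResOf W).ge.trans (pResOf_mono le_sup_left)
  have hHK : Hc ≤ Subgroup.normalizer (K : Set G) := by
    refine hprod.ge.trans (sup_le (le_sup_left.trans hXK) ?_)
    conv_rhs => rw [← hres]
    refine le_normalizer_pResOf ?_
    refine le_normalizer_of_commutator_le ?_
    exact commutator_sup_le (le_sup_left.trans Subgroup.le_normalizer) (le_sup_right.trans Subgroup.le_normalizer)
      (hKH2.trans le_sup_right)
      ((commutator_le_of_le_normalizer (hn₂.1.trans (le_normalizer_pCoreOf Hc))).trans le_sup_right)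
  have hKH1 : ⁅K, H₁⁆ ≤ K := commutator_le_of_le_normalizer (le_sup_left.trans hXK)
  have hKH1' : K ≤ ⁅K, H₁⁆ := by
    have hn : Hc ≤ Subgroup.normalizer ((⁅K, H₁⁆ : Subgroup G) : Set G) :=
      le_normalizer_commutator hHK hn₁.2
    have h1 : K ≤ ⁅K, H₁⁆ ⊔ P := by
      refine hKQ.ge.trans ((Subgroup.commutator_mono le_rfl (hQHc.trans hprod.ge)).trans ?_)
      have hn' : Hc ≤ Subgroup.normalizer ((⁅K, H₁⁆ ⊔ P : Subgroup G) : Set G) :=
        le_normalizer_sup hn (le_normalizer_pCoreOf Hc)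
      rw [Subgroup.commutator_comm]
      exact commutator_sup_le (hn₁.1.trans hn') (hn₂.1.trans hn')
        ((Subgroup.commutator_comm _ _).le.trans le_sup_left)
        ((Subgroup.commutator_comm _ _).le.trans (hKH2.trans le_sup_right))
    refine (pResOf_pResOf W).ge.trans ((pResOf_mono h1).trans ?_)
    exact pResOf_le_of_sup_isPGroup (sup_le Subgroup.le_normalizer (hPHc.trans hn)) (pCoreOf_isPGroup Hc) rfl
  refine ⟨⟨hKQ, le_antisymm hKH1 hKH1', hKH1'.trans (Subgroup.commutator_mono hK1 le_rfl), hHK⟩,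
    pResOf_mono (hWX.trans (sup_le hn₁.1 hQHc)), hKH2, ?_⟩
  rw [show K ⊔ Q = W from pResOf_sup_eq_of_normal_gen hQW hgen]
  exact le_sup_left.trans hXW

/-- Let Q be a nontrivial p-subgroup of the finite group H that is a weakly closed subgroup, H° the weak closure of Q in H (generated by the conjugates of Q) and H_∘ = O^p(H°). Suppose H₁, H₂ are normal subgroups of H° with H° = H₁H₂ and [H₁, H₂] ≤ N_H(Q), and put Kᵢ = O^p of the weak closure of Q in HᵢQ. Then for i = 1, 2: Kᵢ = [Kᵢ, Q] = [Kᵢ, Hᵢ] ≤ Hᵢ′ and Kᵢ is normal in H°; H_∘ = K₁K₂; and [K₁, K₂] ≤ O_p(H°). -/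
theorem result {G : Type*} [Group G] [Finite G] {p : ℕ} [Fact p.Prime] (Q : Subgroup G) (hQp : IsPGroup p ↥Q) (hQ1 : Q ≠ ⊥) (hwc : Cfsg.IsWeaklyClosedSubgroup p Q) (Hc : Subgroup G) (hHc : Hc = Cfsg.weakClosure Q ⊤) (H₁ H₂ : Subgroup G) (hn₁ : H₁ ≤ Hc ∧ Hc ≤ Subgroup.normalizer ((H₁ : Subgroup G) : Set G)) (hn₂ : H₂ ≤ Hc ∧ Hc ≤ Subgroup.normalizer ((H₂ : Subgroup G) : Set G)) (hprod : H₁ ⊔ H₂ = Hc) (hcomm : ⁅H₁, H₂⁆ ≤ Subgroup.normalizer ((Q : Subgroup G) : Set G)) (K₁ K₂ : Subgroup G) (hK₁ : K₁ = ((Cfsg.pResidual p ↥(Cfsg.weakClosure Q (H₁ ⊔ Q))).map ((Cfsg.weakClosure Q (H₁ ⊔ Q))).subtype)) (hK₂ : K₂ = ((Cfsg.pResidual p ↥(Cfsg.weakClosure Q (H₂ ⊔ Q))).map ((Cfsg.weakClosure Q (H₂ ⊔ Q))).subtype)) : (⁅K₁, Q⁆ = K₁ ∧ ⁅K₁, H₁⁆ = K₁ ∧ K₁ ≤ ⁅H₁, H₁⁆ ∧ Hc ≤ Subgroup.normalizer ((K₁ : Subgroup G) : Set G)) ∧ (⁅K₂, Q⁆ = K₂ ∧ ⁅K₂, H₂⁆ = K₂ ∧ K₂ ≤ ⁅H₂, H₂⁆ ∧ Hc ≤ Subgroup.normalizer ((K₂ : Subgroup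 G) : Set G)) ∧ K₁ ⊔ K₂ = ((Cfsg.pResidual p ↥Hc).map (Hc).subtype) ∧ ⁅K₁, K₂⁆ ≤ (Cfsg.pCoreOf p Hc) := by
  have hw : Wc p Q := (wc_iff hQp).1 hwc
  have hQHc : Q ≤ Hc := hHc ▸ self_le_weakClosure le_top
  have hgenHc : Hc ≤ Cfsg.weakClosure Q Hc := by
    rw [hHc]
    exact iSup_le fun g => conjS_le_weakClosure (conjS_le_weakClosure g.2)
  have hcomm' : ⁅H₂, H₁⁆ ≤ Subgroup.normalizer (Q : Set G) := (Subgroup.commutator_comm _ _).le.trans hcomm
  obtain ⟨h1, h1r, h1c, h1n⟩ := half Q hQp hw Hc H₁ H₂ hQHc hgenHc hn₁ hn₂ hprod hcomm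
  obtain ⟨h2, h2r, h2c, h2n⟩ := half Q hQp hw Hc H₂ H₁ hQHc hgenHc hn₂ hn₁ (sup_comm H₂ H₁ ▸ hprod) hcomm'
  subst hK₁ hK₂
  refine ⟨h1, h2, le_antisymm (sup_le h1r h2r) ?_, ?_⟩
  · set K1 := pResOf p (Cfsg.weakClosure Q (H₁ ⊔ Q)) with hK1
    set K2 := pResOf p (Cfsg.weakClosure Q (H₂ ⊔ Q)) with hK2
    have hN : Hc ≤ Subgroup.normalizer ((K1 ⊔ K2 : Subgroup G) : Set G) := le_normalizer_sup h1.2.2.2 h2.2.2.2
    refine pResOf_le_of_sup_isPGroup hN hQp ?_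
    refine le_antisymm (sup_le (sup_le (h1r.trans (pResOf_le Hc)) (h2r.trans (pResOf_le Hc))) hQHc) ?_
    refine hgenHc.trans (le_of_eq_of_le (weakClosure_eq_iSup hw hQp hQHc) (iSup_le fun a => ?_))
    have hn' : Hc ≤ Subgroup.normalizer (((K1 ⊔ K2) ⊔ Q : Subgroup G) : Set G) := by
      refine hprod.ge.trans (sup_le ?_ ?_)
      · rw [show (K1 ⊔ K2) ⊔ Q = K2 ⊔ (K1 ⊔ Q) by rw [← sup_assoc, sup_comm K2 K1]]
        exact le_normalizer_sup (hn₁.1.trans h2.2.2.2) h1n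
      · rw [sup_assoc]
        exact le_normalizer_sup (hn₂.1.trans h1.2.2.2) h2n
    exact (conjS_mono _ le_sup_right).trans (conjS_eq_self_iff.2 (hn' a.2)).le
  · exact (Subgroup.commutator_mono le_rfl (h2.2.2.1.trans (commutator_le_of_le_normalizer Subgroup.le_normalizer))).trans h1c

end Cfsg.Agent.S2859
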