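import Cfsg.Statements.S2860
import Cfsg.Agent.Lib.LocalEven.QuasiSection
import Cfsg.Agent.Lib.LocalEven.WeaklyClosed

set_option autoImplicit false
open Cfsg Cfsg.Agent Cfsg.Agent.Lib Cfsg.Agent.Lib.LocalEven
open scoped commutatorElement

namespace Cfsg.Agent.S2860

/-- Let Q be a nontrivial large p-subgroup of the finite group H, U a nontrivial elementary abelian p-subgroup of H, and Q ≤ E ≤ N_H(U) with Q not normal in E. Suppose O_p(E/C_E(U)) = 1 and O^p(E)·C_E(U)/C_E(U) is quasisimple. Let E° be the weak closure of Q in E (generated by the conjugates of Q inside E) and E_∘ = O^p(E°). Then O^p(E)·C_E(U) = E_∘·C_E(U); E_∘ is perfect and equals O^p(E_∘); E_∘/C_{E_∘}(U) and E_∘/O_p(E_∘) are quasisimple; and E_∘ = [E_∘, Y] for every p-subgroup Y of E not centralizing U. -/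
theorem result {G : Type*} [Group G] [Finite G] {p : ℕ} [Fact p.Prime] (Q : Subgroup G) (hQp : IsPGroup p ↥Q) (hQ1 : Q ≠ ⊥) (hQ : Cfsg.IsLarge Q) (U : Subgroup G) (hU : Cfsg.IsElementaryAbelian p U) (hU1 : U ≠ ⊥) (E : Subgroup G) (hQE : Q ≤ E) (hEU : E ≤ Subgroup.normalizer ((U : Subgroup G) : Set G)) (hQn : ¬ E ≤ Subgroup.normalizer ((Q : Subgroup G) : Set G)) [hn : ((Subgroup.centralizer ((U : Subgroup G) : Set G)).subgroupOf E).Normal] (hred : Cfsg.pCore p (↥E ⧸ (Subgroup.centralizer ((U : Subgroup G) : Set G)).subgroupOf E) = ⊥) (hqs : Cfsg.IsQuasisimple ↥(((Cfsg.pResidual p ↥E) ⊔ (Subgroup.centralizer ((U : Subgroup G) : Set G)).subgroupOf E).map (QuotientGroup.mk' ((Subgroup.centralizer ((U : Subgroup G) : Set G)).subgroupOf E)))) (Er : Subgroup G) (hEr : Er = ((Cfsg.pResidual p ↥(Cfsg.weakClosure Q E)).map ((Cfsg.weakClosure Q E)).subtype)) [hn2 : ((Subgroup.centralizer ((U : Subgroup G) : Set G)).subgroupOf Er).Normal] : ((Cfsg.pResidual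 p ↥E).map (E).subtype) ⊔ (E ⊓ Subgroup.centralizer ((U : Subgroup G) : Set G)) = Er ⊔ (E ⊓ Subgroup.centralizer ((U : Subgroup G) : Set G)) ∧ ⁅Er, Er⁆ = Er ∧ ((Cfsg.pResidual p ↥Er).map (Er).subtype) = Er ∧ Cfsg.IsQuasisimple (↥Er ⧸ (Subgroup.centralizer ((U : Subgroup G) : Set G)).subgroupOf Er) ∧ Cfsg.IsQuasisimple (↥Er ⧸ Cfsg.pCore p ↥Er) ∧ ∀ Y : Subgroup G, Y ≤ E → IsPGroup p ↥Y → ¬ Y ≤ Subgroup.centralizer ((U : Subgroup G) : Set G) → ⁅Er, Y⁆ = Er := by
  have hUp : IsPGroup p U := fun u => ⟨1, Subtype.ext (by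
    rw [SubgroupClass.coe_pow, pow_one]; exact hU.2 u u.2)⟩
  have hCN := centralizer_le_normalizer_of_large hQ hQp hUp hU1 (hQE.trans hEU)
  set C := (Subgroup.centralizer (U : Set G)).subgroupOf E with hC
  set Q' := Q.subgroupOf E with hQ'
  set ι := E.subtype with hι
  have hQmap : Q'.map ι = Q := Subgroup.map_subgroupOf_eq_of_le hQE
  have hQC : ¬ Q' ≤ C := fun h => hQn (by
    refine hEU.trans (hQ.2 U ?_ hU1)
    intro u hu
    rw [Subgroup.mem_centralizer_iff]
    intro q hq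
    exact (Subgroup.mem_centralizer_iff.1 (Subgroup.mem_subgroupOf.1 (h (show (⟨q, hQE hq⟩ : ↥E) ∈ Q' from hq))) u hu).symm)
  have hCQ : C ≤ Subgroup.normalizer (Q' : Set ↥E) := by
    intro c hc
    rw [Subgroup.mem_normalizer_iff]
    intro x
    exact Subgroup.mem_normalizer_iff.1 (hCN (Subgroup.mem_subgroupOf.1 hc)) (x : G)
  obtain ⟨h1, h2, h3, h4, h5, h6⟩ := quasiSection (R := pResOf p (⨆ g : ↥E, conjS g Q'))
    hQp.comap_subtype hQC hCQ hred hqs rfl
  set R := pResOf p (⨆ g : ↥E, conjS g Q') with hRdef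
  have hEr' : Er = R.map ι := by
    rw [hEr, hRdef, map_pResOf, Subgroup.map_iSup, weakClosure_eq_iSup (IsLarge_wc hQ hQp hQ1) hQp hQE]
    show pResOf p _ = _
    refine congrArg (pResOf p) (iSup_congr fun g => ?_)
    rw [map_conjS, hQmap]
    rfl
  have hCmap : C.map ι = E ⊓ Subgroup.centralizer (U : Set G) := by
    rw [hC, hι, Subgroup.subgroupOf_map_subtype, inf_comm]
  let e : ↥R ≃* ↥Er := (R.equivMapOfInjective ι E.subtype_injective).trans (MulEquiv.subgroupCongr hEr'.symm)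
  have he : ∀ x : ↥R, ((e x : ↥Er) : G) = ((x : ↥E) : G) := fun x => rfl
  refine ⟨?_, ?_, ?_, ?_, ?_, fun Y hYE hYp hYC => ?_⟩
  · rw [hEr', ← hCmap, ← Subgroup.map_sup, ← Subgroup.map_sup, h1]
  · rw [hEr', ← Subgroup.map_commutator, h2]
  · show pResOf p Er = Er
    rw [hEr', ← map_pResOf, h3]
  · haveI := subgroupOf_normal_of_le (le_normalizer_of_normal R C)
    refine Components.IsQuasisimple.of_mulEquiv (QuotientGroup.congr _ _ e ?_) h4
    ext y
    constructor
    · rintro ⟨x, hx, rfl⟩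
      exact Subgroup.mem_subgroupOf.2 (Subgroup.mem_subgroupOf.1 (Subgroup.mem_subgroupOf.1 hx))
    · intro hy
      refine ⟨e.symm y, ?_, e.apply_symm_apply y⟩
      refine Subgroup.mem_subgroupOf.2 (Subgroup.mem_subgroupOf.2 ?_)
      rw [← he, e.apply_symm_apply]
      exact hy
  · haveI := pCore_normal p ↥R
    haveI := pCore_normal p ↥Er
    refine Components.IsQuasisimple.of_mulEquiv (QuotientGroup.congr _ _ e ?_) h5
    refine le_antisymm (map_pCore_le_of_surjective _ e.surjective) fun y hy => ?_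
    refine ⟨e.symm y, ?_, e.apply_symm_apply y⟩
    exact map_pCore_le_of_surjective e.symm.toMonoidHom e.symm.surjective ⟨y, hy, rfl⟩
  · have h := h6 (Y.subgroupOf E) hYp.comap_subtype (fun h => hYC fun y hy =>
      Subgroup.mem_subgroupOf.1 (h (show (⟨y, hYE hy⟩ : ↥E) ∈ Y.subgroupOf E from hy)))
    have h' := congrArg (Subgroup.map ι) h
    rwa [Subgroup.map_commutator, ← hEr', Subgroup.map_subgroupOf_eq_of_le hYE] at h'

end Cfsg.Agent.S2860
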