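import Cfsg.Statements.S2861
import Cfsg.Agent.Lib.LocalEven.FrakLData

set_option autoImplicit false
open Cfsg Cfsg.Agent Cfsg.Agent.Lib Cfsg.Agent.Lib.LocalEven
open scoped commutatorElement

namespace Cfsg.Agent.S2861

/-- Standing hypotheses: G a finite group, S a Sylow p-subgroup, Q a nontrivial large p-subgroup of G contained in S, M a subgroup containing S with the basic property (M ∈ 𝔐_G(S)); Y_M the largest p-reduced normal subgroup of M and M† = M·C_G(Y_M). Let L ∈ 𝔏_G(Y_M) (L ∈ 𝔏_G(Y_M): Y_M ≤ L; O_p(L) is the normal closure in L of Y_M ∩ O_p(L) and normalizes Y_M; L is Y_M-minimal of characteristic p with N_L(Y_M) its unique maximal subgroup over Y_M; and L/O_p(L) ≅ SL₂(q) with q = |Y_M : Y_M ∩ O_p(L)|, or p = 2 and L/O_p(L) is a Suzuki group Sz(q) or dihedral of order 2r, r an odd prime) and A = O_p(L). Then Y_M·A/A is the unique nontrivial elementary abelian normal p-subgroup of N_L(Y_M)/A. -/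
theorem result {G : Type*} [Group G] [Finite G] {p : ℕ} [Fact p.Prime] (S : Sylow p G) (Q : Subgroup G) (hQp : IsPGroup p ↥Q) (hQ1 : Q ≠ ⊥) (hQS : Q ≤ (S : Subgroup G)) (hQ : Cfsg.IsLarge Q) (M : Subgroup G) (hSM : (S : Subgroup G) ≤ M) (hM : Cfsg.IsInFrakM p M) (L : Subgroup G) (hL : Cfsg.IsInFrakL p M L) (NL : Subgroup G) (hNL : NL = L ⊓ Subgroup.normalizer (((Cfsg.largestPReducedOf p M) : Subgroup G) : Set G)) [hn : (((Cfsg.pCoreOf p L)).subgroupOf NL).Normal] : let Ybar : Subgroup (↥NL ⧸ ((Cfsg.pCoreOf p L)).subgroupOf NL) := (((Cfsg.largestPReducedOf p M)).subgroupOf NL).map (QuotientGroup.mk' (((Cfsg.pCoreOf p L)).subgroupOf NL)); Ybar ≠ ⊥ ∧ Ybar.Normal ∧ Cfsg.IsElementaryAbelian p Ybar ∧ ∀ (V : Subgroup (↥NL ⧸ ((Cfsg.pCoreOf p L)).subgroupOf NL)), V.Normal → Cfsg.IsElementaryAbelian p V → V ≠ ⊥ → V = Ybar := by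
  intro Ybar
  obtain ⟨X, _, π, P⟩ := frakL_data hL
  subst hNL
  set Y := Cfsg.largestPReducedOf p M with hY
  have hle : L ⊓ Subgroup.normalizer (Y : Set G) ≤ L := inf_le_left
  set φ : ↥(L ⊓ Subgroup.normalizer (Y : Set G)) →* X := π.comp (Subgroup.inclusion hle) with hφ
  have hker : ∀ x, φ x = 1 ↔ (x : G) ∈ Cfsg.pCoreOf p L := fun x => P.pi_eq_one _
  set ψ := QuotientGroup.lift ((Cfsg.pCoreOf p L).subgroupOf (L ⊓ Subgroup.normalizer (Y : Set G))) φ
    (fun x hx => (hker x).2 hx) with hψ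
  have hψinj : Function.Injective ψ := by
    rw [← MonoidHom.ker_eq_bot_iff, eq_bot_iff]
    intro q hq
    induction q using QuotientGroup.induction_on with
    | H x => exact Subgroup.mem_bot.2 ((QuotientGroup.eq_one_iff x).2 ((hker x).1 hq))
  set A := (Y.subgroupOf L).map π with hA
  have hYmap : Ybar.map ψ = A := by
    refine le_antisymm ?_ ?_
    · rintro _ ⟨_, ⟨y, hy, rfl⟩, rfl⟩
      exact ⟨Subgroup.inclusion hle y, hy, rfl⟩
    · rintro _ ⟨y, hy, rfl⟩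
      exact ⟨_, ⟨⟨(y : G), Subgroup.mem_inf.2 ⟨y.2, Subgroup.le_normalizer hy⟩⟩, hy, rfl⟩, rfl⟩
  have hrange : ψ.range = Subgroup.normalizer (A : Set X) := by
    rw [hA, ← P.map_normalizer_eq]
    refine le_antisymm ?_ ?_
    · rintro _ ⟨q, rfl⟩
      induction q using QuotientGroup.induction_on with
      | H x => exact ⟨Subgroup.inclusion hle x, x.2, rfl⟩
    · rintro _ ⟨x, hx, rfl⟩
      exact ⟨QuotientGroup.mk ⟨(x : G), hx⟩, rfl⟩
  have hne : Ybar ≠ ⊥ := by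
    intro e
    obtain ⟨y, hy, hyR⟩ := SetLike.not_le_iff_exists.1 P.not_le_core
    refine hyR ((hker ⟨y, Subgroup.mem_inf.2 ⟨P.hYL hy, Subgroup.le_normalizer hy⟩⟩).1 ?_)
    have : QuotientGroup.mk' _ ⟨y, Subgroup.mem_inf.2 ⟨P.hYL hy, Subgroup.le_normalizer hy⟩⟩ ∈ Ybar :=
      ⟨_, hy, rfl⟩
    rw [e, Subgroup.mem_bot] at this
    exact (congrArg ψ this).trans (map_one ψ)
  refine ⟨hne, ?_, ⟨⟨⟨?_⟩⟩, ?_⟩, fun V hVn hV hVne => Subgroup.map_injective hψinj ?_⟩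
  · haveI := subgroupOf_normal_of_le (inf_le_right : L ⊓ Subgroup.normalizer (Y : Set G) ≤ _)
    exact Subgroup.Normal.map inferInstance _ (QuotientGroup.mk'_surjective _)
  · rintro ⟨_, a, ha, rfl⟩ ⟨_, b, hb, rfl⟩
    refine Subtype.ext ?_
    show QuotientGroup.mk' _ a * QuotientGroup.mk' _ b = QuotientGroup.mk' _ b * QuotientGroup.mk' _ a
    rw [← map_mul, ← map_mul]
    exact congrArg _ (Subtype.ext (show (a : G) * b = b * a from
      congrArg Subtype.val (P.hYe.1.is_comm.comm (⟨a, ha⟩ : Y) ⟨b, hb⟩)))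
  · rintro _ ⟨a, ha, rfl⟩
    rw [← map_pow, show a ^ p = 1 from Subtype.ext (P.hYe.2 a ha), map_one]
  rw [hYmap]
  refine P.good.uniq _ ⟨⟨⟨?_⟩⟩, ?_⟩ ?_ ?_ ?_
  · rintro ⟨_, a, ha, rfl⟩ ⟨_, b, hb, rfl⟩
    refine Subtype.ext ?_
    show ψ a * ψ b = ψ b * ψ a
    rw [← map_mul, ← map_mul]
    exact congrArg ψ (congrArg Subtype.val (hV.1.is_comm.comm (⟨a, ha⟩ : V) ⟨b, hb⟩))
  · rintro _ ⟨a, ha, rfl⟩
    rw [← map_pow, hV.2 a ha, map_one]
  · intro e
    refine hVne (Subgroup.map_injective hψinj ?_)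
    rw [e, Subgroup.map_bot]
  · rw [← hrange]; exact Subgroup.map_le_range _ _
  · rw [← hrange, MonoidHom.range_eq_map]
    refine le_trans (Subgroup.map_mono ?_) (Subgroup.le_normalizer_map ψ)
    exact normal_top_le_normalizer hVn

end Cfsg.Agent.S2861
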