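import Cfsg.Statements.S2862
import Cfsg.Agent.Lib.LocalEven.LLemma

set_option autoImplicit false
open Cfsg Cfsg.Agent Cfsg.Agent.Lib Cfsg.Agent.Lib.LocalEven
open scoped commutatorElement

namespace Cfsg.Agent.S2862

theorem le_sup_of_nilpotent_quotient {G : Type*} [Group G] [Finite G] {p : ℕ} [Fact p.Prime] {V W O : Subgroup G}
    (hVO : IsPGroup p ↥(V ⊔ O)) (hW : V ⊔ O ≤ Subgroup.normalizer (W : Set G))
    (h : V ≤ W ⊔ ⁅V, O⁆) : V ≤ W := by
  haveI := hVO.isNilpotent
  obtain ⟨n, hn⟩ := (Subgroup.isNilpotent_iff_lowerCentralSeries (V ⊔ O)).1 inferInstance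
  suffices hs : ∀ n, V ≤ W ⊔ (V ⊔ O).lowerCentralSeries n by
    have := hs n
    rwa [hn, sup_bot_eq] at this
  intro n
  induction n with
  | zero => exact le_sup_left.trans le_sup_right
  | succ n ih =>
    have hWn : V ⊔ O ≤ Subgroup.normalizer ((W ⊔ (V ⊔ O).lowerCentralSeries (n + 1) : Subgroup G) : Set G) :=
      le_normalizer_sup hW (Subgroup.self_le_normalizer_lowerCentralSeries _ _)
    refine h.trans (sup_le le_sup_left ?_)
    refine (Subgroup.commutator_mono ih (le_sup_right : O ≤ V ⊔ O)).trans (commutator_sup_le ?_ ?_ ?_ ?_)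
    · exact le_sup_left.trans Subgroup.le_normalizer
    · exact (Subgroup.lowerCentralSeries_antitone _ (Nat.zero_le n)).trans hWn
    · exact (commutator_le_of_le_normalizer hW).trans le_sup_left
    · exact (le_of_eq (Subgroup.lowerCentralSeries_succ (V ⊔ O) n).symm).trans le_sup_right

/-- Standing hypotheses: G a finite group, S a Sylow p-subgroup, Q a nontrivial large p-subgroup of G contained in S, M a subgroup containing S with the basic property (M ∈ 𝔐_G(S)); Y_M the largest p-reduced normal subgroup of M and M† = M·C_G(Y_M). Suppose Y_M is char-p-tall and asymmetric in G, H ∈ ℌ_G(O_p(M)), and L is minimal among the subgroups of H containing Y_M with Y_M ≰ O_p(L). Then H = ⟨L, O_p(M)⟩ = ⟨hY_Mh⁻¹, O_p(M)⟩ for every h ∈ L outside N_L(Y_M); L is Y_M-minimal and of characteristic p, with N_L(Y_M) the unique maximal subgroup of L containing Y_M; [V, O^p(L)] ≠ 1 for every noncentral chief factor V/W of H inside O_p(H) (that is, O^p(L) does not act trivially on V/W); and the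 normal closure of O_p(L) ∩ Y_M in L lies in O_p(H). -/
theorem result {G : Type*} [Group G] [Finite G] {p : ℕ} [Fact p.Prime] (S : Sylow p G) (Q : Subgroup G) (hQp : IsPGroup p ↥Q) (hQ1 : Q ≠ ⊥) (hQS : Q ≤ (S : Subgroup G)) (hQ : Cfsg.IsLarge Q) (M : Subgroup G) (hSM : (S : Subgroup G) ≤ M) (hM : Cfsg.IsInFrakM p M) (htall : Cfsg.IsCharPTall p (Cfsg.largestPReducedOf p M)) (hasym : ¬ Cfsg.IsSymmetricIn (Cfsg.largestPReducedOf p M)) (H : Subgroup G) (hH : Cfsg.IsInFrakH p M H) (L : Subgroup G) (hLH : L ≤ H) (hYL : (Cfsg.largestPReducedOf p M) ≤ L) (hYO : ¬ (Cfsg.largestPReducedOf p M) ≤ (Cfsg.pCoreOf p L)) (hmin : ∀ L' : Subgroup G, L' ≤ L → (Cfsg.largestPReducedOf p M) ≤ L' → ¬ (Cfsg.largestPReducedOf p M) ≤ (Cfsg.pCoreOf p L') → L' = L) : (L ⊔ (Cfsg.pCoreOf p M) = H ∧ ∀ h ∈ L, h ∉ Subgroup.normalizer (((Cfsg.largestPReducedOf p M) : Subgroup G) : Set G) → (((Cfsg.largestPReducedOf p M) : Subgroup G).map (MulAut.conj (h : G)).toMonoidHom) ⊔ (Cfsg.pCoreOf p M) = H) ∧ (Cfsg.IsMinimalOver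 (((Cfsg.largestPReducedOf p M)).subgroupOf L) ∧ Subgroup.centralizer (Cfsg.pCore p ↥L : Set ↥L) ≤ Cfsg.pCore p ↥L ∧ L ⊓ Subgroup.normalizer (((Cfsg.largestPReducedOf p M) : Subgroup G) : Set G) < L ∧ ∀ X : Subgroup G, (Cfsg.largestPReducedOf p M) ≤ X → X < L → X ≤ L ⊓ Subgroup.normalizer (((Cfsg.largestPReducedOf p M) : Subgroup G) : Set G)) ∧ (∀ V W' : Subgroup G, V ≤ (Cfsg.pCoreOf p H) → H ≤ Subgroup.normalizer ((V : Subgroup G) : Set G) → H ≤ Subgroup.normalizer ((W' : Subgroup G) : Set G) → W' < V → (∀ Z' : Subgroup G, H ≤ Subgroup.normalizer ((Z' : Subgroup G) : Set G) → W' ≤ Z' → Z' ≤ V → Z' = W' ∨ Z' = V) → ¬ ⁅V, H⁆ ≤ W' → ¬ ⁅V, ((Cfsg.pResidual p ↥L).map (L).subtype)⁆ ≤ W') ∧ (Subgroup.normalClosure (((((Cfsg.pCoreOf p L) ⊓ (Cfsg.largestPReducedOf p M)).subgroupOf L : Subgroup ↥L)) : Set ↥L)).map L.subtype ≤ (Cfsg.pCoreOf p H) := by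
  have hYnO := hYO
  set Y := Cfsg.largestPReducedOf p M with hY
  set O := Cfsg.pCoreOf p M with hO
  have hpO : IsPGroup p O := pCoreOf_isPGroup M
  have hwc := asym_wc S hQ hQp hSM hM hasym
  have hNO := frakM_normalizer_pCoreOf_le S hQ hQp hSM hM
  have hYr : RedIn p Y M := largestPReducedOf_redIn M
  have hOH : O ≤ H := hH.2.1
  have hYO : Y ≤ O := hYr.le_pCoreOf
  have hsup : L ⊔ O = H := by
    by_contra hne
    refine hYnO ?_
    have h := frakH_le_pCoreOf_of_lt hH le_sup_right (sup_le hLH hOH) hne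
    exact (le_inf h hYL).trans (le_pCoreOf inf_le_right
      (le_normalizer_inf ((le_sup_left : L ≤ L ⊔ O).trans (le_normalizer_pCoreOf _)) Subgroup.le_normalizer)
      (pCoreOf_isPGroup _).to_inf_left)
  have hP0O : Cfsg.pCoreOf p H ≤ Subgroup.normalizer (O : Set G) :=
    le_sup_left.trans (hwc.le_normalizer'
      ((pCoreOf_isPGroup H).to_sup_of_normal_left' hpO (hOH.trans (le_normalizer_pCoreOf H))) le_sup_right)
  have D : LData p H L Y O := ⟨hLH, hYL, hsup, hYO, hYr.pCoreOf_le_centralizer, hpO,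
    hP0O.trans (hNO.trans frakM_dagger_le_normalizer), hP0O, hNO.trans frakM_dagger_le_normalizer,
    (charPCore_iff H).1 hH.1, hwc, hasym, hYnO, hmin⟩
  have hNL : L ⊓ Subgroup.normalizer (Y : Set G) < L := by
    refine lt_of_le_of_ne inf_le_left fun e => hYnO ?_
    exact le_pCoreOf hYL (e.ge.trans inf_le_right) D.hYp
  have huniq : ∀ X : Subgroup G, Y ≤ X → X < L → X ≤ L ⊓ Subgroup.normalizer (Y : Set G) :=
    fun X hYX hXL => le_inf hXL.le (D.le_normalizer_of_proper hYX hXL)
  simp only [map_conj_eq]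
  refine ⟨⟨hsup, fun h hh hn => ?_⟩, ⟨⟨?_, ?_⟩, (charPCore_iff L).2 D.charP, hNL, huniq⟩, ?_, ?_⟩
  · refine le_antisymm (sup_le (conjS_le_of_mem (hYL.trans hLH) (hLH hh)) hOH) (hsup.ge.trans (sup_le ?_ le_sup_right))
    rw [← (D.dichotomy hh).resolve_left hn]
    exact sup_le (hYO.trans le_sup_right) le_sup_left
  · by_contra hne
    set N := (Subgroup.normalClosure ((Y.subgroupOf L : Subgroup ↥L) : Set ↥L)) with hN
    have hNL' : N.map L.subtype ≤ L := Subgroup.map_subtype_le _
    have hYN : Y ≤ N.map L.subtype :=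
      (Subgroup.map_subgroupOf_eq_of_le hYL).ge.trans (Subgroup.map_mono Subgroup.le_normalClosure)
    refine hYnO ?_
    by_contra hnot
    refine hne ?_
    have e := hmin (N.map L.subtype) hNL' hYN fun h =>
      hnot (h.trans (pCoreOf_le_pCoreOf_of_normalized hNL' (map_subtype_le_normalizer _)))
    refine Subgroup.map_injective L.subtype_injective ?_
    rw [e, ← MonoidHom.range_eq_map, Subgroup.range_subtype]
  · have hco : IsCoatom ((L ⊓ Subgroup.normalizer (Y : Set G)).subgroupOf L) := by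
      refine ⟨fun e => hNL.not_ge (Subgroup.subgroupOf_eq_top.1 e), fun X hX => ?_⟩
      by_contra hne
      have h1 : X.map L.subtype < L := lt_of_le_of_ne (Subgroup.map_subtype_le _) fun e => hne
        (Subgroup.map_injective L.subtype_injective (by rw [e, ← MonoidHom.range_eq_map, Subgroup.range_subtype]))
      have h2 : L ⊓ Subgroup.normalizer (Y : Set G) ≤ X.map L.subtype :=
        (Subgroup.map_subgroupOf_eq_of_le inf_le_left).ge.trans (Subgroup.map_mono hX.le)
      have h3 := huniq _ ((le_inf hYL Subgroup.le_normalizer).trans h2) h1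
      exact hX.not_ge (Subgroup.map_le_iff_le_comap.1 h3)
    refine ⟨_, ⟨hco, Subgroup.comap_mono (le_inf hYL Subgroup.le_normalizer)⟩, ?_⟩
    rintro X ⟨hX, hYX⟩
    have h1 : X.map L.subtype < L := lt_of_le_of_ne (Subgroup.map_subtype_le _) fun e => hX.1
      (Subgroup.map_injective L.subtype_injective (by rw [e, ← MonoidHom.range_eq_map, Subgroup.range_subtype]))
    have h2 : Y ≤ X.map L.subtype :=
      (Subgroup.map_subgroupOf_eq_of_le hYL).ge.trans (Subgroup.map_mono hYX)
    have h3 : X ≤ (L ⊓ Subgroup.normalizer (Y : Set G)).subgroupOf L :=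
      Subgroup.map_le_iff_le_comap.1 (huniq _ h2 h1)
    exact (hX.le_iff.1 h3).resolve_left hco.1 |>.symm
  · intro V W' hVP hHV hHW hWV hirr hnc hres
    refine hnc ?_
    set T := trivialMod H V W' hHW with hT
    have hTn := le_normalizer_trivialMod hHW hHV
    have hRT : pResOf p L ≤ T := le_trivialMod hHW ((pResOf_le L).trans hLH)
      ((Subgroup.commutator_comm _ _).le.trans hres)
    -- `L = O^p(L)·Y`
    have hLY : pResOf p L ⊔ Y = L := by
      by_contra hne
      refine hYnO (le_trans ?_ (le_pCoreOf hYL ?_ D.hYp) )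
      · exact le_rfl
      · have h1 := D.le_normalizer_of_proper (X := pResOf p L ⊔ Y) le_sup_right
          (lt_of_le_of_ne (sup_le (pResOf_le L) hYL) hne)
        obtain ⟨T', hT', hYT'⟩ := exists_isSylowOf_le hYL D.hYp
        refine (pResOf_sup_sylow hT').ge.trans (sup_le (le_sup_left.trans h1) ?_)
        exact D.le_normalizer_of_pgroup hT'.isPGroup hYT' hT'.le
    have hHT : T ⊔ O = H := le_antisymm (sup_le (trivialMod_le hHW) hOH)
      (hsup.ge.trans (sup_le (hLY.ge.trans (sup_le (hRT.trans le_sup_left) (hYO.trans le_sup_right))) le_sup_right))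
    have hWW : W' ⊔ ⁅V, H⁆ ≤ V := sup_le hWV.le (commutator_le_of_le_normalizer hHV)
    have hVH : V ≤ H := hVP.trans (pCoreOf_le H)
    rcases hirr (W' ⊔ ⁅V, H⁆) (le_normalizer_sup hHW (le_normalizer_commutator hHV Subgroup.le_normalizer))
      le_sup_left hWW with e | e
    · exact le_sup_right.trans e.le
    · exfalso
      refine hWV.not_ge (le_sup_of_nilpotent_quotient (O := O) (p := p) ?_ ((sup_le hVH hOH).trans hHW) ?_)
      · exact ((pCoreOf_isPGroup H).to_le hVP).to_sup_of_normal_left' hpO (hOH.trans hHV)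
      · refine e.ge.trans (sup_le le_sup_left ?_)
        have hn : H ≤ Subgroup.normalizer ((W' ⊔ ⁅V, O⁆ : Subgroup G) : Set G) := by
          refine hHT.ge.trans (sup_le ?_ (le_normalizer_sup (hOH.trans hHW)
            (le_normalizer_commutator (hOH.trans hHV) Subgroup.le_normalizer)))
          refine le_normalizer_of_commutator_le ?_
          refine (Subgroup.commutator_mono (sup_le hWV.le (commutator_le_of_le_normalizer (hOH.trans hHV))) le_rfl).trans ?_
          rw [Subgroup.commutator_comm]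
          exact (commutator_trivialMod_le hHW).trans le_sup_left
        rw [Subgroup.commutator_comm, ← hHT]
        refine commutator_sup_le ((trivialMod_le hHW).trans hn) (hOH.trans hn) ?_ ?_
        · exact (commutator_trivialMod_le hHW).trans le_sup_left
        · exact (Subgroup.commutator_comm _ _).le.trans le_sup_right
  · have h1 := D.inf_pCoreOf_le
    haveI := subgroupOf_normal_of_le (hLH.trans (le_normalizer_pCoreOf (p := p) H))
    refine le_trans (Subgroup.map_mono (Subgroup.normalClosure_le_normal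
      (N := (Cfsg.pCoreOf p H).subgroupOf L) (fun x hx => Subgroup.mem_subgroupOf.2 (h1 hx)))) ?_
    exact Subgroup.map_le_iff_le_comap.2 le_rfl

end Cfsg.Agent.S2862
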