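import Cfsg.Statements.S2864
import Cfsg.Agent.Lib.LocalEven.FrakM

set_option autoImplicit false
open Cfsg Cfsg.Agent Cfsg.Agent.Lib.LocalEven
open scoped commutatorElement

namespace Cfsg.Agent.S2864

/-- Standing hypotheses: G a finite group, S a Sylow p-subgroup, Q a nontrivial large p-subgroup of G contained in S, M a subgroup containing S with the basic property (M ∈ 𝔐_G(S)); Y_M the largest p-reduced normal subgroup of M and M† = M·C_G(Y_M). Let I be a nontrivial normal p-subgroup of M and Y ≤ O_p(M†); let L be a subgroup of G containing Y and A a normal p-subgroup of L with I ≤ A ≤ M. If [Y, A] ≤ [I, A], then Y ≤ O_p(L). -/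
theorem result {G : Type*} [Group G] [Finite G] {p : ℕ} [Fact p.Prime] (S : Sylow p G) (Q : Subgroup G) (hQp : IsPGroup p ↥Q) (hQ1 : Q ≠ ⊥) (hQS : Q ≤ (S : Subgroup G)) (hQ : Cfsg.IsLarge Q) (M : Subgroup G) (hSM : (S : Subgroup G) ≤ M) (hM : Cfsg.IsInFrakM p M) (I : Subgroup G) (hI1 : I ≠ ⊥) (hIp : IsPGroup p ↥I) (hIM : I ≤ M ∧ M ≤ Subgroup.normalizer ((I : Subgroup G) : Set G)) (Y : Subgroup G) (hY : Y ≤ (Cfsg.pCoreOf p (M ⊔ Subgroup.centralizer (((Cfsg.largestPReducedOf p M) : Subgroup G) : Set G)))) (L : Subgroup G) (hYL : Y ≤ L) (A : Subgroup G) (hAp : IsPGroup p ↥A) (hAL : A ≤ L ∧ L ≤ Subgroup.normalizer ((A : Subgroup G) : Set G)) (hIA : I ≤ A) (hAM : A ≤ M) (hc : ⁅Y, A⁆ ≤ ⁅I, A⁆) : Y ≤ (Cfsg.pCoreOf p L) := by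
  set YM := Cfsg.largestPReducedOf p M with hYM
  set Md := M ⊔ Subgroup.centralizer (YM : Set G) with hMd
  set O := Cfsg.pCoreOf p L with hO
  have hNI : Subgroup.normalizer (I : Set G) ≤ Md :=
    le_dagger hM (mem_charPSubgroups_normalizer hQ hQp S hIp hI1 (hSM.trans hIM.2)) hIM.2
  set F := (frattini ↥A).map A.subtype with hF
  have hLF : L ≤ Subgroup.normalizer (F : Set G) := le_normalizer_frattini hAL.2
  haveI := hAp.isNilpotent
  have hYA : ⁅Y, A⁆ ≤ F := by
    refine hc.trans ((Subgroup.commutator_mono hIA le_rfl).trans ?_)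
    conv_lhs => rw [← Subgroup.range_subtype A, MonoidHom.range_eq_map, ← Subgroup.map_commutator]
    exact Subgroup.map_mono Lib.Cores.commutator_le_frattini
  set D := trivialMod L A F hLF with hD
  have hYD : Y ≤ D := le_trivialMod hLF hYL hYA
  set CA := L ⊓ Subgroup.centralizer (A : Set G) with hCA
  have hRC : pResOf p D ≤ CA := by
    refine le_inf ((pResOf_le D).trans (trivialMod_le hLF)) (pResOf_le_iff.2 fun x hx hxc => ?_)
    refine Lib.Coprime.le_centralizer_of_frattini (A := Subgroup.zpowers x) ?_ ?_ (Subgroup.mem_zpowers x)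
    · obtain ⟨k, hk⟩ := IsPGroup.iff_card.1 (hAp.to_subgroup (frattini ↥A))
      rw [Nat.card_zpowers, hk]
      exact hxc.pow_right k
    · intro a ha k hk
      exact commutator_trivialMod_le hLF
        (Subgroup.commutator_mem_commutator ((Subgroup.zpowers_le.2 hx) ha) hk)
  have hLCA : L ≤ Subgroup.normalizer (CA : Set G) :=
    le_normalizer_inf Subgroup.le_normalizer (le_normalizer_centralizer hAL.2)
  have hCMd : CA ≤ Md :=
    ((inf_le_right.trans (Subgroup.centralizer_le hIA)).trans (Subgroup.centralizer_le_normalizer _)).trans hNI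
  have hCY : ⁅CA, Y⁆ ≤ O := by
    refine le_trans (le_inf (commutator_le_of_le_normalizer (hYL.trans hLCA)) ?_)
      ((le_pCoreOf (N := CA ⊓ Cfsg.pCoreOf p Md) inf_le_left
        (le_normalizer_inf Subgroup.le_normalizer (hCMd.trans (le_normalizer_pCoreOf Md)))
        (pCoreOf_isPGroup Md).to_inf_right).trans (pCoreOf_le_pCoreOf_of_normalized inf_le_left hLCA))
    exact (Subgroup.commutator_mono le_rfl hY).trans
      (commutator_le_of_le_normalizer' (hCMd.trans (le_normalizer_pCoreOf Md)))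
  set R := pResOf p D with hR
  have hLR : L ≤ Subgroup.normalizer (R : Set G) :=
    le_normalizer_pResOf (le_normalizer_trivialMod hLF hAL.2)
  have hLO : L ≤ Subgroup.normalizer (O : Set G) := le_normalizer_pCoreOf L
  set N := D ⊓ trivialMod L R O hLO with hN
  have hLN : L ≤ Subgroup.normalizer (N : Set G) :=
    le_normalizer_inf (le_normalizer_trivialMod hLF hAL.2) (le_normalizer_trivialMod hLO hLR)
  have hYN : Y ≤ N := le_inf hYD (le_trivialMod hLO hYL (by
    rw [Subgroup.commutator_comm]; exact (Subgroup.commutator_mono hRC le_rfl).trans hCY))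
  obtain ⟨T, hT, hYT⟩ := exists_isSylowOf_le hYN ((pCoreOf_isPGroup _).to_le hY)
  have hNO : N ≤ Subgroup.normalizer (O : Set G) := (inf_le_right.trans (trivialMod_le hLO)).trans hLO
  have hTn : N ≤ Subgroup.normalizer (((T ⊔ O) ⊓ N : Subgroup G) : Set G) := by
    refine le_normalizer_inf ?_ Subgroup.le_normalizer
    conv_lhs => rw [← pResOf_sup_sylow hT]
    refine sup_le ?_ (le_sup_left.trans Subgroup.le_normalizer)
    rw [le_normalizer_iff_forall]
    have key : ∀ r ∈ pResOf p N, conjS r (T ⊔ O) ≤ T ⊔ O := by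
      intro r hr
      rw [conjS_sup, conjS_eq_self_iff.2 (hNO (pResOf_le N hr))]
      refine sup_le (fun x hx => ?_) le_sup_right
      have h := mem_conjS.1 hx
      have hrR : r ∈ R := pResOf_mono inf_le_left hr
      have h2 := commutator_trivialMod_le hLO
        (Subgroup.commutator_mem_commutator (Subgroup.mem_inf.1 (hT.le h)).2 hrR)
      rw [show x = ⁅r⁻¹ * x * r, r⁆⁻¹ * (r⁻¹ * x * r) by simp [commutatorElement_def, mul_assoc]]
      exact mul_mem (Subgroup.mem_sup_right (inv_mem h2)) (Subgroup.mem_sup_left h)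
    intro r hr
    refine le_antisymm (key r hr) ?_
    have := conjS_mono r (key r⁻¹ (inv_mem hr))
    rwa [conjS_cancel_inv] at this
  have h3 : T ≤ Cfsg.pCoreOf p N :=
    (le_inf le_sup_left hT.le).trans (le_pCoreOf inf_le_right hTn
      (hT.isPGroup.to_sup_of_normal_right' (pCoreOf_isPGroup L) (hT.le.trans hNO)).to_inf_left)
  exact hYT.trans (h3.trans (pCoreOf_le_pCoreOf_of_normalized
    (inf_le_left.trans (trivialMod_le hLF)) hLN))

end Cfsg.Agent.S2864
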