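import Cfsg.Statements.S2872
import Cfsg.Agent.Lib.LocalEven.Residual
import Cfsg.Agent.Lib.LocalEven.Basic
import Cfsg.Agent.Lib.Cores.Frattini
import Mathlib.GroupTheory.Transfer

set_option autoImplicit false
open Cfsg Cfsg.Agent Cfsg.Agent.Lib.LocalEven
open scoped commutatorElement

namespace Cfsg.Agent.S2872

/-- Let S be a Sylow 2-subgroup of the finite group G. Then G has a proper normal subgroup of 2-power index (O²(G) ≠ G), or Ω₁(Z(S)) is contained in the Frattini subgroup of S, or N_G(S) acts nontrivially on Ω₁(Z(S)) by conjugation. -/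
theorem result {G : Type*} [Group G] [Finite G] (S : Sylow 2 G) : Cfsg.pResidual 2 G ≠ ⊤ ∨ Cfsg.omegaOne 2 ((S : Subgroup G) ⊓ Subgroup.centralizer ((S : Subgroup G) : Set G)) ≤ (frattini ↥(S : Subgroup G)).map (S : Subgroup G).subtype ∨ ∃ g ∈ Subgroup.normalizer ((S : Subgroup G) : Set G), ∃ z ∈ Cfsg.omegaOne 2 ((S : Subgroup G) ⊓ Subgroup.centralizer ((S : Subgroup G) : Set G)), g * z * g⁻¹ ≠ z := by
  classical
  by_contra hcon
  push_neg at hcon
  obtain ⟨hres, hnle, hfix⟩ := hcon
  obtain ⟨z, hzZ, hzF⟩ : ∃ z, (z ∈ (S : Subgroup G) ⊓ Subgroup.centralizer ((S : Subgroup G) : Set G) ∧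
      z ^ 2 = 1) ∧ z ∉ (frattini ↥(S : Subgroup G)).map (S : Subgroup G).subtype := by
    by_contra h
    push_neg at h
    exact hnle ((Subgroup.closure_le _).2 fun z hz => h z hz)
  obtain ⟨hzI, hz2⟩ := hzZ
  obtain ⟨hzS, hzC⟩ := Subgroup.mem_inf.1 hzI
  set P := (S : Subgroup G) with hP
  haveI : Group.IsNilpotent ↥P := S.isPGroup'.isNilpotent
  let A := ↥P ⧸ frattini ↥P
  letI : CommGroup A :=
    { (inferInstance : Group A) with
      mul_comm := fun a b => by
        obtain ⟨x, rfl⟩ := QuotientGroup.mk'_surjective _ a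
        obtain ⟨y, rfl⟩ := QuotientGroup.mk'_surjective _ b
        rw [← commutatorElement_eq_one_iff_mul_comm, ← map_commutatorElement, QuotientGroup.mk'_apply,
          QuotientGroup.eq_one_iff]
        exact Lib.Cores.commutator_le_frattini
          (Subgroup.commutator_mem_commutator (Subgroup.mem_top x) (Subgroup.mem_top y)) }
  let φ : ↥P →* A := QuotientGroup.mk' (frattini ↥P)
  have hA2 : ∀ a : A, a ^ 2 = 1 := fun a => Lib.Cores.pow_eq_one_quotient_frattini S.isPGroup' a
  haveI : P.FiniteIndex := Subgroup.finiteIndex_of_finite_quotient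
  have hV : MonoidHom.transfer φ z = 1 := by
    have h : Cfsg.pResidual 2 G ≤ (MonoidHom.transfer φ).ker := by
      rw [Cfsg.pResidual, Subgroup.closure_le]
      intro x hx
      exact eq_one_of_coprime_of_pow (Nat.Coprime.coprime_dvd_left (orderOf_map_dvd _ x) hx)
        (k := 1) (by rw [pow_one]; exact hA2 _)
    exact h (by rw [hres]; exact Subgroup.mem_top z)
  refine hzF ⟨⟨z, hzS⟩, ?_, rfl⟩
  refine (QuotientGroup.eq_one_iff _).1 ?_
  have hzc : ∀ t ∈ P, Commute t z := fun t ht => Subgroup.mem_centralizer_iff.1 hzC t ht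
  have hmem : ∀ g : G, z • (g : G ⧸ P) = (g : G ⧸ P) ↔ g⁻¹ * z * g ∈ P := fun g => by
    rw [MulAction.Quotient.smul_mk, QuotientGroup.eq, smul_eq_mul,
      show (z * g)⁻¹ * g = (g⁻¹ * z * g)⁻¹ by group, inv_mem_iff]
  have hcong : ∀ a b : G, a⁻¹ * b ∈ P → ∀ (ha : a⁻¹ * z * a ∈ P) (hb : b⁻¹ * z * b ∈ P),
      φ ⟨_, ha⟩ = φ ⟨_, hb⟩ := by
    intro a b hab ha hb
    have e : (⟨_, hb⟩ : ↥P) = (⟨a⁻¹ * b, hab⟩ : ↥P)⁻¹ * ⟨_, ha⟩ * ⟨a⁻¹ * b, hab⟩ := Subtype.ext (by
      simp [mul_assoc])
    rw [e, map_mul, map_mul, map_inv, mul_comm, ← mul_assoc, mul_inv_cancel, one_mul]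
  let ψ : G ⧸ P → A := fun q => if h : q.out⁻¹ * z * q.out ∈ P then φ ⟨_, h⟩ else 1
  have hψ : ∀ (g : G) (h : g⁻¹ * z * g ∈ P), ψ (g : G ⧸ P) = φ ⟨_, h⟩ := by
    intro g h
    have hq : ((g : G ⧸ P).out : G ⧸ P) = (g : G ⧸ P) := QuotientGroup.out_eq' _
    have h' : (g : G ⧸ P).out⁻¹ * z * (g : G ⧸ P).out ∈ P := (hmem _).1 (by rw [hq]; exact (hmem g).2 h)
    simp only [ψ, dif_pos h']
    exact hcong _ _ (QuotientGroup.eq.1 hq) h' h
  have hψ1 : ∀ g : G, g⁻¹ * z * g ∉ P → ψ (g : G ⧸ P) = 1 := by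
    intro g h
    have hq : ((g : G ⧸ P).out : G ⧸ P) = (g : G ⧸ P) := QuotientGroup.out_eq' _
    have h' : (g : G ⧸ P).out⁻¹ * z * (g : G ⧸ P).out ∉ P := fun hh =>
      h ((hmem g).1 (by rw [← hq]; exact (hmem _).2 hh))
    simp only [ψ, dif_neg h']
  letI := Fintype.ofFinite (G ⧸ P)
  letI := Fintype.ofFinite A
  letI := Fintype.ofFinite (Quotient (MulAction.orbitRel (Subgroup.zpowers z) (G ⧸ P)))
  have h1 : MonoidHom.transfer φ z = ∏ q : G ⧸ P, ψ q := by
    rw [MonoidHom.transfer_eq_prod_quotient_orbitRel_zpowers_quot,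
      ← Finset.prod_fiberwise Finset.univ
        (fun q : G ⧸ P => (Quotient.mk'' q : Quotient (MulAction.orbitRel (Subgroup.zpowers z) (G ⧸ P)))) ψ]
    refine Finset.prod_congr rfl fun o _ => ?_
    have horb : ∀ q : G ⧸ P, Quotient.mk'' q = o → ∀ q' : G ⧸ P, Quotient.mk'' q' = o → z • q = q → q' = q := by
      intro q hq q' hq' hf
      obtain ⟨⟨w, hw⟩, rfl⟩ : q' ∈ MulAction.orbit (Subgroup.zpowers z) q :=
        Quotient.eq''.1 (hq'.trans hq.symm)
      have hle : Subgroup.zpowers z ≤ MulAction.stabilizer G q :=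
        Subgroup.zpowers_le.2 (MulAction.mem_stabilizer_iff.2 hf)
      exact MulAction.mem_stabilizer_iff.1 (hle hw)
    have hout : (Quotient.mk'' o.out : Quotient (MulAction.orbitRel (Subgroup.zpowers z) (G ⧸ P))) = o :=
      Quotient.out_eq' o
    have ho : ((o.out.out : G) : G ⧸ P) = o.out := QuotientGroup.out_eq' _
    by_cases hf : z • o.out = o.out
    · have hper : Function.minimalPeriod (z • ·) o.out = 1 :=
        Function.minimalPeriod_eq_one_iff_isFixedPt.2 hf
      rw [Finset.prod_eq_single o.out]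
      · have hg : o.out.out⁻¹ * z * o.out.out ∈ P := (hmem _).1 (by rw [ho]; exact hf)
        conv_rhs => rw [← ho, hψ _ hg]
        congr 1
        refine Subtype.ext ?_
        show o.out.out⁻¹ * z ^ Function.minimalPeriod (z • ·) o.out * o.out.out = _
        rw [hper, pow_one]
      · intro q hq hne
        exact absurd (horb _ hout q (Finset.mem_filter.1 hq).2 hf) hne
      · intro h
        exact (h (by simp [hout])).elim
    · have hper : z ^ Function.minimalPeriod (z • ·) o.out = 1 := by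
        have h2 : Function.IsPeriodicPt (z • ·) 2 o.out := by
          show (z • ·)^[2] o.out = o.out
          simp [Function.iterate_succ, ← mul_smul, ← pow_two, hz2]
        rcases (Nat.dvd_prime Nat.prime_two).1 h2.minimalPeriod_dvd with h | h
        · exact absurd (Function.minimalPeriod_eq_one_iff_isFixedPt.1 h) hf
        · rw [h, hz2]
      rw [Finset.prod_eq_one]
      · rw [← map_one φ]
        congr 1
        refine Subtype.ext ?_
        show o.out.out⁻¹ * z ^ Function.minimalPeriod (z • ·) o.out * o.out.out = 1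
        rw [hper]
        simp
      · intro q hq
        rw [← QuotientGroup.out_eq' q]
        refine hψ1 _ fun h => hf ?_
        have hfq : z • q = q := by rw [← QuotientGroup.out_eq' q]; exact (hmem _).2 h
        rw [horb q (Finset.mem_filter.1 hq).2 o.out hout hfq]
        exact hfq
  rw [h1, ← Finset.prod_fiberwise Finset.univ ψ ψ] at hV
  have hfib : ∀ a : A, ∏ q ∈ Finset.univ.filter (fun q => ψ q = a), ψ q = if a = φ ⟨z, hzS⟩ then a else 1 := by
    intro a
    rw [Finset.prod_congr rfl (fun q hq => (Finset.mem_filter.1 hq).2), Finset.prod_const]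
    have hinv : ∀ (s : ↥P) (g : G), ψ (((s : G) * g : G) : G ⧸ P) = ψ (g : G ⧸ P) := by
      intro s g
      have e : ((s : G) * g)⁻¹ * z * ((s : G) * g) = g⁻¹ * z * g := by
        have := hzc s s.2
        calc ((s : G) * g)⁻¹ * z * ((s : G) * g) = g⁻¹ * ((s : G)⁻¹ * (z * (s : G))) * g := by group
          _ = g⁻¹ * z * g := by rw [← this.eq]; group
      by_cases h : g⁻¹ * z * g ∈ P
      · rw [hψ g h, hψ _ (e.symm ▸ h)]
        exact congrArg φ (Subtype.ext e)
      · rw [hψ1 g h, hψ1 _ (e.symm ▸ h)]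
    have hfixval : ∀ q : G ⧸ P, (∀ s : ↥P, (s : G) • q = q) → ψ q = φ ⟨z, hzS⟩ := by
      intro q hq
      induction q using QuotientGroup.induction_on with
      | H g =>
        have hgN : conjS g⁻¹ P ≤ P := fun x hx => by
          have h := mem_conjS.1 hx
          have h2 := hq ⟨_, h⟩
          rw [MulAction.Quotient.smul_mk, QuotientGroup.eq] at h2
          simpa [mul_assoc] using inv_mem h2
        have hgn : g⁻¹ ∈ Subgroup.normalizer (P : Set G) :=
          conjS_eq_self_iff.1 (Subgroup.eq_of_le_of_card_ge hgN (card_conjS _ _).ge)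
        have hz' := hfix g⁻¹ hgn z (Subgroup.subset_closure ⟨hzI, hz2⟩)
        rw [inv_inv] at hz'
        rw [hψ g (by rw [hz']; exact hzS)]
        exact congrArg φ (Subtype.ext hz')
    let act : MulAction ↥P {q : G ⧸ P // ψ q = a} :=
      { smul := fun s q => ⟨(s : G) • (q : G ⧸ P), by
          obtain ⟨q, hq⟩ := q
          induction q using QuotientGroup.induction_on with
          | H g => rw [MulAction.Quotient.smul_mk, smul_eq_mul, hinv]; exact hq⟩
        one_smul := fun q => Subtype.ext (one_smul G _)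
        mul_smul := fun s t q => Subtype.ext (mul_smul (s : G) (t : G) (q : G ⧸ P)) }
    have hcount := S.isPGroup'.card_modEq_card_fixedPoints {q : G ⧸ P // ψ q = a}
    have hall : Nat.card (G ⧸ P) ≡ Nat.card (MulAction.fixedPoints ↥P (G ⧸ P)) [MOD 2] :=
      S.isPGroup'.card_modEq_card_fixedPoints (G ⧸ P)
    rw [← Fintype.card_subtype]
    rw [Nat.card_eq_fintype_card] at hcount
    split_ifs with ha
    · have hodd : Nat.card (G ⧸ P) % 2 = 1 := by
        have := S.not_dvd_index
        rw [← hP, Subgroup.index_eq_card] at this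
        omega
      have he : Nat.card (MulAction.fixedPoints ↥P {q : G ⧸ P // ψ q = a}) =
          Nat.card (MulAction.fixedPoints ↥P (G ⧸ P)) :=
        Nat.card_congr
          { toFun := fun x => ⟨x.1.1, fun s => congrArg Subtype.val (x.2 s)⟩
            invFun := fun x => ⟨⟨x.1, ha ▸ hfixval x.1 x.2⟩, fun s => Subtype.ext (x.2 s)⟩
            left_inv := fun x => rfl
            right_inv := fun x => rfl }
      rw [he] at hcount
      unfold Nat.ModEq at hcount hall
      have hm : Fintype.card {q : G ⧸ P // ψ q = a} % 2 = 1 := by omega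
      conv_lhs => rw [← Nat.div_add_mod (Fintype.card {q : G ⧸ P // ψ q = a}) 2, hm, pow_succ, pow_mul,
        hA2, one_pow, one_mul]
    · haveI : IsEmpty (MulAction.fixedPoints ↥P {q : G ⧸ P // ψ q = a}) :=
        ⟨fun x => ha ((x.1.2.symm.trans (hfixval x.1.1 fun s => congrArg Subtype.val (x.2 s))))⟩
      rw [Nat.card_of_isEmpty (α := MulAction.fixedPoints ↥P {q : G ⧸ P // ψ q = a})] at hcount
      unfold Nat.ModEq at hcount
      obtain ⟨k, hk⟩ : 2 ∣ Fintype.card {q : G ⧸ P // ψ q = a} := by omega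
      rw [hk, pow_mul, hA2, one_pow]
  rw [Finset.prod_congr rfl (fun a _ => hfib a), Finset.prod_ite_eq'] at hV
  rw [if_pos (Finset.mem_univ _)] at hV
  exact hV

end Cfsg.Agent.S2872
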