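import Cfsg.Statements.S2873
import Cfsg.Agent.Lib.LocalEven.Irreducible
import Mathlib.GroupTheory.SpecificGroups.Dihedral

set_option autoImplicit false
open Cfsg Cfsg.Agent Cfsg.Agent.Lib.LocalEven
open scoped commutatorElement

namespace Cfsg.Agent.S2873

/-- Let G be a finite group and r an odd prime such that G ⧸ O₂(G) is dihedral of order 2r, and let R be a Sylow r-subgroup of G with C_{O₂(G)}(R) = 1. Then N_G(R) is dihedral of order 2r; for any involution a of N_G(R), every involution of G outside O₂(G) is conjugate to a; and |C_{O₂(G)}(a)|² = |O₂(G)|. -/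
theorem result {G : Type*} [Group G] [Finite G] {r : ℕ} [Fact r.Prime] (hr : r ≠ 2) [hN : (Cfsg.pCore 2 G).Normal] (hquot : Nonempty (G ⧸ Cfsg.pCore 2 G ≃* DihedralGroup r)) (R : Sylow r G) (hC : Cfsg.pCore 2 G ⊓ Subgroup.centralizer ((R : Subgroup G) : Set G) = ⊥) : Nonempty (↥(Subgroup.normalizer ((R : Subgroup G) : Set G)) ≃* DihedralGroup r) ∧ ∀ a : G, a ∈ Subgroup.normalizer ((R : Subgroup G) : Set G) → orderOf a = 2 → (∀ b : G, orderOf b = 2 → b ∉ Cfsg.pCore 2 G → ∃ g : G, g * a * g⁻¹ = b) ∧ Nat.card ↥(Cfsg.pCore 2 G ⊓ Subgroup.centralizer ({a} : Set G)) ^ 2 = Nat.card ↥(Cfsg.pCore 2 G) := by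
  classical
  set O := Cfsg.pCore 2 G with hO
  set f := QuotientGroup.mk' O with hf
  obtain ⟨e0⟩ := hquot
  have hr2 : Fact (Nat.Prime 2) := ⟨Nat.prime_two⟩
  have hrp : r.Prime := Fact.out
  haveI : NeZero r := ⟨hrp.ne_zero⟩
  have hcardQ : Nat.card (G ⧸ O) = 2 * r := by rw [Nat.card_congr e0.toEquiv, DihedralGroup.nat_card]
  have hOp : IsPGroup 2 O := pCore_isPGroup 2 G
  obtain ⟨k, hk⟩ := IsPGroup.iff_card.1 hOp
  have hG : Nat.card G = r * 2 ^ (k + 1) := by
    rw [Subgroup.card_eq_card_quotient_mul_card_subgroup O, hcardQ, hk, pow_succ]; ring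
  have hnd : ¬ r ∣ 2 := fun h => hr ((Nat.prime_dvd_prime_iff_eq hrp Nat.prime_two).1 h)
  have hRcard : Nat.card (R : Subgroup G) = r := by
    have h := R.card_eq_multiplicity
    have h2 : (Nat.card G).factorization r = 1 := by
      rw [hG, Nat.factorization_mul hrp.ne_zero (by positivity), Finsupp.add_apply,
        hrp.factorization_self, Nat.factorization_pow, Finsupp.smul_apply,
        Nat.factorization_eq_zero_of_not_dvd hnd, smul_zero, add_zero]
    rwa [h2, pow_one] at h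
  have hdis : ∀ x : G, x ∈ O → x ^ r = 1 → x = 1 := fun x hx hxr => by
    obtain ⟨i, hi⟩ := hOp ⟨x, hx⟩
    refine eq_one_of_coprime_of_pow ?_ (congrArg Subtype.val hi)
    exact Nat.Coprime.coprime_dvd_left (orderOf_dvd_of_pow_eq_one hxr) ((Nat.coprime_primes hrp Nat.prime_two).2 hr)
  have hRpow : ∀ x ∈ (R : Subgroup G), x ^ r = 1 := fun x hx => by
    rw [← hRcard]; exact congrArg Subtype.val (pow_card_eq_one' (x := (⟨x, hx⟩ : ↥(R : Subgroup G))))
  set N := Subgroup.normalizer ((R : Subgroup G) : Set G) with hNdef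
  have hNO : ∀ x ∈ N, x ∈ O → x = 1 := by
    intro x hx hxO
    have : x ∈ O ⊓ Subgroup.centralizer ((R : Subgroup G) : Set G) := by
      refine Subgroup.mem_inf.2 ⟨hxO, Subgroup.mem_centralizer_iff.2 fun y hy => ?_⟩
      have h1 : ⁅x, y⁆ ∈ (R : Subgroup G) := mul_mem ((Subgroup.mem_normalizer_iff.1 hx y).1 hy) (inv_mem hy)
      have h2 : ⁅x, y⁆ ∈ O := by
        rw [commutatorElement_def, mul_assoc, mul_assoc, ← mul_assoc y]
        exact mul_mem hxO (hN.conj_mem _ (inv_mem hxO) y)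
      exact (commutatorElement_eq_one_iff_commute.1 (hdis _ h2 (hRpow _ h1))).eq.symm
    rw [hC, Subgroup.mem_bot] at this
    exact this
  set K := O ⊔ (R : Subgroup G) with hK
  have hKidx : K.index = 2 := by
    have h1 := Subgroup.relIndex_sup_right O (H := (R : Subgroup G))
    rw [sup_comm] at h1
    have h2 : O.relIndex (R : Subgroup G) = r := by
      rw [← Subgroup.inf_relIndex_right, show O ⊓ (R : Subgroup G) = ⊥ from
        (Subgroup.eq_bot_iff_forall _).2 fun x hx => hdis x hx.1 (hRpow x hx.2),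
        Subgroup.relIndex_bot_left, hRcard]
    have h3 := Subgroup.relIndex_mul_index (le_sup_left : O ≤ K)
    rw [h1, h2, O.index_eq_card, hcardQ, mul_comm 2 r] at h3
    exact Nat.eq_of_mul_eq_mul_left hrp.pos h3
  haveI hKn : K.Normal := Subgroup.normal_of_index_eq_two hKidx
  have hGN : ∀ g : G, ∃ o ∈ O, ∃ n ∈ N, g = o * n := by
    intro g
    have h1 : (⊤ : Subgroup G) = K ⊔ ((⊤ : Subgroup G) ⊓ N) :=
      frattini_argument' le_top (le_normalizer_of_normal ⊤ K) ((isSylowOf_top R).mono le_sup_right le_top)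
    rw [top_inf_eq, hK, sup_assoc, sup_eq_right.2 (Subgroup.le_normalizer : (R : Subgroup G) ≤ N)] at h1
    have hg : g ∈ ((O ⊔ N : Subgroup G) : Set G) := by rw [← h1]; trivial
    rw [Subgroup.normal_mul] at hg
    obtain ⟨o, ho, n, hn, rfl⟩ := hg
    exact ⟨o, ho, n, hn, rfl⟩
  have hf1 : ∀ o ∈ O, f o = 1 := fun o ho => (QuotientGroup.eq_one_iff o).2 ho
  let e : ↥N ≃* DihedralGroup r := (MulEquiv.ofBijective (f.comp N.subtype) ⟨(injective_iff_map_eq_one _).2
      fun x hx => Subtype.ext (hNO x x.2 ((QuotientGroup.eq_one_iff _).1 hx)), fun q => by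
        obtain ⟨g, rfl⟩ := QuotientGroup.mk'_surjective O q
        obtain ⟨o, ho, n, hn, rfl⟩ := hGN g
        exact ⟨⟨n, hn⟩, by rw [MonoidHom.comp_apply, map_mul, hf1 o ho, one_mul]; rfl⟩⟩).trans e0
  refine ⟨⟨e⟩, fun a ha hao => ?_⟩
  have huniq : ∀ x ∈ N, ∀ y ∈ N, f x = f y → x = y := fun x hx y hy h => by
    have h2 : x⁻¹ * y ∈ O := QuotientGroup.eq.1 h
    exact inv_mul_eq_one.1 (hNO _ (mul_mem (inv_mem hx) hy) h2)
  have haO : a ∉ O := fun h => by
    rw [hNO a ha h, orderOf_one] at hao; omega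
  have ha2 : a * a = 1 := by rw [← pow_two, ← hao, pow_orderOf_eq_one]
  obtain ⟨i, hi⟩ : ∃ i, e ⟨a, ha⟩ = DihedralGroup.sr i := by
    rcases hcase : e ⟨a, ha⟩ with i | i
    · exfalso
      have h1 : orderOf (e ⟨a, ha⟩) = 2 := by
        rw [MulEquiv.orderOf_eq, ← hao]
        exact (orderOf_injective N.subtype N.subtype_injective _).symm
      rw [hcase] at h1
      have h2 := orderOf_dvd_of_pow_eq_one (x := DihedralGroup.r i) (n := r) (by
        have : DihedralGroup.r i = DihedralGroup.r 1 ^ i.val := by simp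
        rw [this, ← pow_mul, mul_comm, pow_mul, DihedralGroup.r_one_pow_n, one_pow])
      rw [h1] at h2
      exact hr ((Nat.prime_dvd_prime_iff_eq Nat.prime_two hrp).1 h2).symm
    · exact ⟨i, rfl⟩
  set a' : G := (e.symm (DihedralGroup.sr (i + 1)) : G) with ha'
  have ha'N : a' ∈ N := (e.symm (DihedralGroup.sr (i + 1))).2
  have ha'2 : a' * a' = 1 := by
    have : (e.symm (DihedralGroup.sr (i + 1))) * (e.symm (DihedralGroup.sr (i + 1))) = 1 := by
      rw [← map_mul, DihedralGroup.sr_mul_sr, sub_self, DihedralGroup.r_zero, map_one]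
    exact congrArg Subtype.val this
  have hax : orderOf (a * a') = r := by
    have h1 : (⟨a, ha⟩ : ↥N) * e.symm (DihedralGroup.sr (i + 1)) = e.symm (DihedralGroup.r 1) := by
      apply e.injective
      rw [map_mul, hi, e.apply_symm_apply, e.apply_symm_apply, DihedralGroup.sr_mul_sr]
      congr 1
      ring
    show orderOf ((⟨a, ha⟩ * e.symm (DihedralGroup.sr (i + 1)) : ↥N) : G) = r
    rw [h1]
    exact (orderOf_injective N.subtype N.subtype_injective _).trans (by
      rw [MulEquiv.orderOf_eq, DihedralGroup.orderOf_r_one])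
  have key : ∀ b : G, b * b = 1 → a⁻¹ * b ∈ O →
      ∃ u ∈ O ⊓ Subgroup.centralizer ({a'} : Set G), b = u * a * u⁻¹ := by
    intro b hb hab
    set y := b * a' with hy
    have hfy : f y = f (a * a') := by
      rw [hy, map_mul, map_mul, show f b = f a from (QuotientGroup.eq.2 hab).symm]
    have hyO : y ^ r ∈ O := by
      rw [← QuotientGroup.eq_one_iff]
      show f (y ^ r) = 1
      rw [map_pow, hfy, ← map_pow, ← hax, pow_orderOf_eq_one, map_one]
    obtain ⟨j, hj⟩ := hOp ⟨_, hyO⟩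
    have hj' : (y ^ r) ^ 2 ^ j = 1 := congrArg Subtype.val hj
    set w := y ^ 2 ^ j with hw
    have hwr : w ^ r = 1 := by rw [hw, ← pow_mul, mul_comm, pow_mul, hj']
    have hwO : w ∉ O := by
      intro h
      have h1 : (f (a * a')) ^ 2 ^ j = 1 := by rw [← hfy, ← map_pow]; exact hf1 _ h
      have h2 : (f (a * a')) ^ r = 1 := by rw [← map_pow, ← hax, pow_orderOf_eq_one, map_one]
      have h3 := eq_one_of_coprime_of_pow (p := 2)
        (Nat.Coprime.coprime_dvd_left (orderOf_dvd_of_pow_eq_one h2) ((Nat.coprime_primes hrp Nat.prime_two).2 hr)) h1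
      have h4 : a * a' = 1 := hNO _ (mul_mem ha ha'N) ((QuotientGroup.eq_one_iff _).1 h3)
      rw [h4, orderOf_one] at hax
      exact hrp.ne_one hax.symm
    have hword : orderOf w = r := orderOf_eq_prime hwr fun h => hwO (h ▸ one_mem O)
    obtain ⟨g, -, hg⟩ := (isSylowOf_top R).exists_conj_le (le_top : Subgroup.zpowers w ≤ ⊤)
      (IsPGroup.of_card (n := 1) (by rw [Nat.card_zpowers, hword, pow_one]))
    have hgeq : conjS g (Subgroup.zpowers w) = (R : Subgroup G) :=
      Subgroup.eq_of_le_of_card_ge hg (by rw [card_conjS, Nat.card_zpowers, hword, hRcard])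
    have hyr : y ^ r = 1 := by
      have h5 : g * y ^ r * g⁻¹ ∈ O ⊓ Subgroup.centralizer ((R : Subgroup G) : Set G) := by
        refine Subgroup.mem_inf.2 ⟨hN.conj_mem _ hyO g, ?_⟩
        rw [← hgeq, ← conjS_centralizer]
        refine conj_mem_conjS ?_
        rw [Subgroup.zpowers_eq_closure, Subgroup.centralizer_closure, Subgroup.mem_centralizer_singleton_iff]
        exact (Commute.pow_pow (Commute.refl y) r (2 ^ j)).eq
      rw [hC, Subgroup.mem_bot, conj_eq_one_iff] at h5
      exact h5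
    obtain ⟨o, ho, n, hn, hgn⟩ := hGN g⁻¹
    set R' := conjS o (R : Subgroup G) with hR'
    have hwR' : Subgroup.zpowers w = R' := by
      have := congrArg (conjS g⁻¹) hgeq
      rwa [conjS_inv_cancel, hgn, conjS_mul, conjS_eq_self_iff.2 hn] at this
    have hyw : Subgroup.zpowers y = Subgroup.zpowers w := by
      refine le_antisymm (Subgroup.zpowers_le.2 ?_) (Subgroup.zpowers_le.2 ((Subgroup.zpowers y).pow_mem (Subgroup.mem_zpowers y) _))
      obtain ⟨m, hm⟩ := exists_pow_eq_self_of_coprime (x := y) (n := 2 ^ j)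
        (Nat.Coprime.coprime_dvd_right (orderOf_dvd_of_pow_eq_one hyr)
          ((Nat.coprime_primes Nat.prime_two hrp).2 (Ne.symm hr) |>.pow_left j))
      exact ⟨m, by simpa [hw, zpow_natCast] using hm⟩
    have hnorm : ∀ c : G, c * c = 1 → c * y * c = y⁻¹ → c ∈ Subgroup.normalizer (R' : Set G) := by
      intro c hc hcy
      rw [← hwR', ← hyw, ← conjS_eq_self_iff, conjS, MonoidHom.map_zpowers]
      show Subgroup.zpowers (c * y * c⁻¹) = _
      rw [inv_eq_of_mul_eq_one_right hc, hcy, Subgroup.zpowers_inv]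
    have hyinv : y⁻¹ = a' * b := by
      rw [hy, mul_inv_rev, inv_eq_of_mul_eq_one_right hb, inv_eq_of_mul_eq_one_right ha'2]
    have hb' : b ∈ Subgroup.normalizer (R' : Set G) := hnorm b hb (by
      rw [hyinv, hy, ← mul_assoc, hb, one_mul])
    have ha'' : a' ∈ Subgroup.normalizer (R' : Set G) := hnorm a' ha'2 (by
      rw [hyinv, hy, mul_assoc, mul_assoc, ha'2, mul_one])
    have hcon : ∀ c, c ∈ Subgroup.normalizer (R' : Set G) → o⁻¹ * c * o ∈ N := by
      intro c hc
      rw [hR', ← conjS_normalizer] at hc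
      exact mem_conjS.1 hc
    have hfo : f o = 1 := hf1 o ho
    have e1 : o⁻¹ * a' * o = a' := huniq _ (hcon _ ha'') _ ha'N (by
      rw [map_mul, map_mul, map_inv, hfo]; simp)
    have e2 : o⁻¹ * b * o = a := huniq _ (hcon _ hb') _ ha (by
      rw [map_mul, map_mul, map_inv, hfo, show f b = f a from (QuotientGroup.eq.2 hab).symm]; simp)
    refine ⟨o, Subgroup.mem_inf.2 ⟨ho, Subgroup.mem_centralizer_singleton_iff.2 ?_⟩, by rw [← e2]; group⟩
    calc o * a' = o * (o⁻¹ * a' * o) := by rw [e1]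
      _ = a' * o := by group
  set T := (Subgroup.zpowers (f a)).comap f with hT
  have hfa : orderOf (f a) = 2 := by
    refine orderOf_eq_prime ?_ fun h => haO ((QuotientGroup.eq_one_iff a).1 h)
    rw [← map_pow, pow_two, ha2, map_one]
  have hTp : IsPGroup 2 T :=
    (IsPGroup.of_card (n := 1) (by rw [Nat.card_zpowers, hfa, pow_one]) :
      IsPGroup 2 ↥(Subgroup.zpowers (f a))).comap_of_ker_isPGroup f (by rw [hf, QuotientGroup.ker_mk']; exact hOp)
  have hTidx : ¬ 2 ∣ T.index := by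
    have h1 := (Subgroup.zpowers (f a)).card_mul_index
    rw [Nat.card_zpowers, hfa, hcardQ] at h1
    rw [hT, Subgroup.index_comap_of_surjective _ (QuotientGroup.mk'_surjective O),
      Nat.eq_of_mul_eq_mul_left two_pos h1]
    exact fun h => hr ((Nat.prime_dvd_prime_iff_eq Nat.prime_two hrp).1 h).symm
  have hconj : ∀ b : G, orderOf b = 2 → b ∉ O → ∃ g : G, g * a * g⁻¹ = b := by
    intro b hb hbO
    have hTs : IsSylowOf 2 T (⊤ : Subgroup G) := by
      have h := isSylowOf_top (hTp.toSylow hTidx)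
      rwa [IsPGroup.toSylow_coe] at h
    obtain ⟨g, -, hg⟩ := hTs.exists_conj_le (le_top : Subgroup.zpowers b ≤ ⊤)
      (IsPGroup.of_card (n := 1) (by rw [Nat.card_zpowers, hb, pow_one]))
    have hgb : g * b * g⁻¹ ∈ T := hg (conj_mem_conjS (Subgroup.mem_zpowers b))
    obtain ⟨m, hm⟩ := Subgroup.mem_zpowers_iff.1 hgb
    have hm2 : f (g * b * g⁻¹) = f a := by
      have h2 : (f a) ^ (2 : ℤ) = 1 := by
        rw [show (2 : ℤ) = ((2 : ℕ) : ℤ) from rfl, zpow_natCast, ← hfa, pow_orderOf_eq_one]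
      rcases Int.even_or_odd m with ⟨t, ht⟩ | ⟨t, ht⟩
      · exfalso
        rw [ht, ← two_mul, zpow_mul, h2, one_zpow] at hm
        have := (QuotientGroup.eq_one_iff _).1 hm.symm
        exact hbO (by simpa [mul_assoc] using hN.conj_mem _ this g⁻¹)
      · rw [← hm, ht, zpow_add, zpow_mul, h2, one_zpow, one_mul, zpow_one]
    have hb2 : b * b = 1 := by rw [← pow_two, ← hb, pow_orderOf_eq_one]
    obtain ⟨u, -, hu⟩ := key (g * b * g⁻¹) (by
      calc g * b * g⁻¹ * (g * b * g⁻¹) = g * (b * b) * g⁻¹ := by group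
        _ = 1 := by rw [hb2]; group) (QuotientGroup.eq.1 hm2.symm)
    refine ⟨g⁻¹ * u, ?_⟩
    rw [show g⁻¹ * u * a * (g⁻¹ * u)⁻¹ = g⁻¹ * (u * a * u⁻¹) * g by group, ← hu]
    group
  refine ⟨hconj, ?_⟩
  set A := O ⊓ Subgroup.centralizer ({a} : Set G) with hA
  set A' := O ⊓ Subgroup.centralizer ({a'} : Set G) with hA'
  have ha'O : a' ∉ O := fun h => by
    have h1 : (e.symm (DihedralGroup.sr (i + 1)) : G) = 1 := hNO _ ha'N h
    have h3 := congrArg e (show e.symm (DihedralGroup.sr (i + 1)) = 1 from Subtype.ext h1)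
    rw [e.apply_symm_apply, map_one, ← DihedralGroup.r_zero] at h3
    cases h3
  obtain ⟨g, hg⟩ := hconj a' (orderOf_eq_prime (by rw [pow_two, ha'2]) fun h => ha'O (h ▸ one_mem O)) ha'O
  have hcard' : Nat.card A' = Nat.card A := by
    rw [← card_conjS g A]
    congr 1
    have : A' = conjS g A := by
      rw [hA', hA, conjS_inf, conjS_normal, ← hg]
      congr 1
      ext x
      rw [mem_conjS, Subgroup.mem_centralizer_singleton_iff, Subgroup.mem_centralizer_singleton_iff]
      constructor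
      · intro h
        calc g⁻¹ * x * g * a = g⁻¹ * (x * (g * a * g⁻¹)) * g := by group
          _ = g⁻¹ * (g * a * g⁻¹ * x) * g := by rw [h]
          _ = a * (g⁻¹ * x * g) := by group
      · intro h
        calc x * (g * a * g⁻¹) = g * (g⁻¹ * x * g * a) * g⁻¹ := by group
          _ = g * (a * (g⁻¹ * x * g)) * g⁻¹ := by rw [h]
          _ = g * a * g⁻¹ * x := by group
    rw [this]
  have hbij : Function.Bijective (fun q : ↥A' × ↥A => (⟨(q.1 : G) * (q.2 : G),
      mul_mem (Subgroup.mem_inf.1 q.1.2).1 (Subgroup.mem_inf.1 q.2.2).1⟩ : ↥O)) := by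
    refine ⟨?_, fun o => ?_⟩
    · rintro ⟨⟨u, hu⟩, ⟨v, hv⟩⟩ ⟨⟨u', hu'⟩, ⟨v', hv'⟩⟩ h
      have h' : u * v = u' * v' := congrArg Subtype.val h
      have h1 : u'⁻¹ * u = v' * v⁻¹ := by
        rw [eq_mul_inv_iff_mul_eq, mul_assoc, h', ← mul_assoc, inv_mul_cancel, one_mul]
      have h2 : u'⁻¹ * u ∈ A' ⊓ A := Subgroup.mem_inf.2 ⟨Subgroup.mul_mem A' (Subgroup.inv_mem A' hu') hu,
        h1 ▸ Subgroup.mul_mem A hv' (Subgroup.inv_mem A hv)⟩
      have h3 : u'⁻¹ * u ∈ O ⊓ Subgroup.centralizer ((R : Subgroup G) : Set G) := by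
        refine Subgroup.mem_inf.2 ⟨h2.1.1, ?_⟩
        have hR : (R : Subgroup G) = Subgroup.zpowers (a * a') := by
          have hmem : a * a' ∈ (R : Subgroup G) := by
            exact ((isSylowOf_top R).mono Subgroup.le_normalizer le_top).eq_of_normal le_rfl
              (Subgroup.zpowers_le.2 (mul_mem ha ha'N))
              (IsPGroup.of_card (n := 1) (by rw [Nat.card_zpowers, hax, pow_one])) (Subgroup.mem_zpowers _)
          exact (Subgroup.eq_of_le_of_card_ge (Subgroup.zpowers_le.2 hmem)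
            (by rw [Nat.card_zpowers, hax, hRcard])).symm
        rw [hR, Subgroup.zpowers_eq_closure, Subgroup.centralizer_closure, Subgroup.mem_centralizer_singleton_iff]
        have c1 : Commute (u'⁻¹ * u) a := Subgroup.mem_centralizer_singleton_iff.1 h2.2.2
        have c2 : Commute (u'⁻¹ * u) a' := Subgroup.mem_centralizer_singleton_iff.1 h2.1.2
        exact (c1.mul_right c2).eq
      rw [hC, Subgroup.mem_bot, inv_mul_eq_one] at h3
      subst h3
      obtain rfl := mul_left_cancel h'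
      rfl
    · have hoo : (o : G) * a * (o : G)⁻¹ * ((o : G) * a * (o : G)⁻¹) = 1 := by
        calc (o : G) * a * (o : G)⁻¹ * ((o : G) * a * (o : G)⁻¹) = (o : G) * (a * a) * (o : G)⁻¹ := by group
          _ = 1 := by rw [ha2]; group
      obtain ⟨u, hu, e⟩ := key _ hoo (by
        rw [show a⁻¹ * ((o : G) * a * (o : G)⁻¹) = (a⁻¹ * o * a) * (o : G)⁻¹ by group]
        exact mul_mem (by simpa using hN.conj_mem _ o.2 a⁻¹) (inv_mem o.2))
      refine ⟨(⟨u, hu⟩, ⟨u⁻¹ * o, Subgroup.mem_inf.2 ⟨mul_mem (inv_mem hu.1) o.2,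
        Subgroup.mem_centralizer_singleton_iff.2 ?_⟩⟩), Subtype.ext (mul_inv_cancel_left u o)⟩
      calc u⁻¹ * (o : G) * a = u⁻¹ * ((o : G) * a * (o : G)⁻¹) * o := by group
        _ = u⁻¹ * (u * a * u⁻¹) * o := by rw [e]
        _ = a * (u⁻¹ * o) := by group
  have h := Nat.card_congr (Equiv.ofBijective _ hbij)
  rw [Nat.card_prod, hcard'] at h
  rw [pow_two, h]

end Cfsg.Agent.S2873
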