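import Cfsg.Statements.S2874
import Cfsg.Agent.Lib.LocalEven.Basic

set_option autoImplicit false
open Cfsg Cfsg.Agent Cfsg.Agent.Lib Cfsg.Agent.Lib.LocalEven

namespace Cfsg.Agent.S2874

theorem a4_x : ∃ x : ↥(alternatingGroup (Fin 4)), x ^ 3 = 1 ∧ x ≠ 1 := by
  decide +kernel

theorem a4_card :
    (Finset.univ.filter fun v : ↥(alternatingGroup (Fin 4)) => v ^ 2 = 1).card = 4 := by
  decide +kernel

theorem a4_xv : ∀ x v : ↥(alternatingGroup (Fin 4)),
    x ^ 3 = 1 → x ≠ 1 → v ^ 2 = 1 → (x * v) ^ 3 = 1 ∧ x * v ≠ 1 := by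
  decide +kernel

theorem a4_vw : ∀ v w : ↥(alternatingGroup (Fin 4)), v ^ 2 = 1 → w ^ 2 = 1 → (v * w) ^ 2 = 1 := by
  decide +kernel

theorem zmod2_cube : ∀ a b c d : ZMod 2, !![a, b; c, d] ^ 3 = 1 → !![a, b; c, d] ≠ 1 →
    (!![a, b; c, d] - 1).det ≠ 0 ∧ c ≠ 0 := by
  decide +kernel

theorem zmod2_unit {k : ℕ} (hk : k ≠ 0) (x : ZMod (2 ^ k))
    (h : ZMod.castHom (dvd_pow_self 2 hk) (ZMod 2) x ≠ 0) : IsUnit x := by
  rw [← ZMod.natCast_zmod_val x] at h ⊢
  rw [ZMod.isUnit_iff_coprime]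
  refine Nat.Coprime.pow_right k (Nat.prime_two.coprime_iff_not_dvd.2 fun hd => h ?_).symm
  rw [map_natCast, ZMod.natCast_eq_zero_iff]
  exact hd

/-- The elements of order three satisfy `g² + g + 1 = 0`. -/
theorem cube_entries {k : ℕ} (hk : k ≠ 0) (g : GL (Fin 2) (ZMod (2 ^ k))) (h3 : g ^ 3 = 1)
    (h1 : g ≠ 1) : IsUnit (g.val 1 0) ∧ g.val 0 0 + g.val 1 1 = -1 ∧
      g.val 0 0 * g.val 1 1 - g.val 0 1 * g.val 1 0 = 1 := by
  set φ := ZMod.castHom (dvd_pow_self 2 hk) (ZMod 2)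
  set m := g.val with hm
  have hm3 : m ^ 3 = 1 := by rw [hm, ← Units.val_pow_eq_pow_val, h3]; rfl
  have hzero : (m - 1) * (m ^ 2 + m + 1) = 0 := by
    rw [show (m - 1) * (m ^ 2 + m + 1) = m ^ 3 - 1 by noncomm_ring, hm3, sub_self]
  have hred : φ.mapMatrix m ≠ 1 := by
    intro e
    have hu : IsUnit (m ^ 2 + m + 1) := by
      rw [Matrix.isUnit_iff_isUnit_det]
      refine zmod2_unit hk _ ?_
      show φ _ ≠ 0
      rw [RingHom.map_det,
        map_add, map_add, map_pow, e, map_one]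
      decide +kernel
    refine h1 (Units.ext (sub_eq_zero.1 ?_))
    exact hu.mul_left_eq_zero.1 hzero
  have h2 := zmod2_cube (φ (m 0 0)) (φ (m 0 1)) (φ (m 1 0)) (φ (m 1 1))
  have he : !![φ (m 0 0), φ (m 0 1); φ (m 1 0), φ (m 1 1)] = φ.mapMatrix m := by
    ext i j; fin_cases i <;> fin_cases j <;> rfl
  rw [he] at h2
  obtain ⟨hd, hc⟩ := h2 (by rw [← map_pow, hm3, map_one]) hred
  have hc' : IsUnit (m 1 0) := zmod2_unit hk _ hc
  have hu : IsUnit (m - 1) := by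
    rw [Matrix.isUnit_iff_isUnit_det]
    refine zmod2_unit hk _ ?_
    show φ _ ≠ 0
    rwa [RingHom.map_det, map_sub, map_one]
  have hq := hu.mul_right_eq_zero.1 hzero
  have e00 := congrFun (congrFun hq 0) 0
  have e10 := congrFun (congrFun hq 1) 0
  simp only [sq, Matrix.add_apply, Matrix.mul_apply, Fin.sum_univ_two, Matrix.one_apply_eq,
    Matrix.zero_apply, Matrix.one_apply_ne (show (1 : Fin 2) ≠ 0 by decide)] at e00 e10
  have ht : m 0 0 + m 1 1 = -1 := by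
    refine eq_neg_of_add_eq_zero_left (hc'.mul_right_eq_zero.1 ?_)
    linear_combination e10
  refine ⟨hc', ht, ?_⟩
  linear_combination (m 0 0) * ht - e00

/-- The involutions forming an `A₄` with the standard element of order three. -/
def cand (k : ℕ) : Set (GL (Fin 2) (ZMod (2 ^ k))) :=
  {v | 2 * v.val 0 1 = 0 ∧ 2 * v.val 1 0 = 0 ∧ v.val 0 0 = v.val 1 1 ∧
    v.val 0 0 = 1 + v.val 0 1 - v.val 1 0}

theorem cand_card (k : ℕ) : Nat.card (cand k) ≤ 4 := by
  have htors : Nat.card {b : ZMod (2 ^ k) // 2 * b = 0} ≤ 2 := by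
    let f : {b : ZMod (2 ^ k) // 2 * b = 0} → Fin 2 := fun b => if b.1 = 0 then 0 else 1
    refine (Nat.card_le_card_of_injective f ?_).trans (by simp)
    rintro ⟨b, hb⟩ ⟨c, hc⟩ e
    simp only [f] at e
    have key : ∀ b : ZMod (2 ^ k), 2 * b = 0 → b ≠ 0 → b.val = 2 ^ (k - 1) ∧ k ≠ 0 := by
      intro b hb hb0
      have hk : k ≠ 0 := by
        rintro rfl
        exact hb0 (by
          haveI : Subsingleton (ZMod (2 ^ 0)) := by rw [pow_zero]; infer_instance
          exact Subsingleton.elim _ _)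
      refine ⟨?_, hk⟩
      rw [← ZMod.natCast_zmod_val b, show (2 : ZMod (2 ^ k)) = ((2 : ℕ) : ZMod (2 ^ k)) by simp,
        ← Nat.cast_mul, ZMod.natCast_eq_zero_iff] at hb
      have h1 : 2 ^ k = 2 * 2 ^ (k - 1) := by
        rw [← pow_succ', Nat.sub_add_cancel (Nat.pos_of_ne_zero hk)]
      obtain ⟨t, ht⟩ := Nat.dvd_of_mul_dvd_mul_left two_pos ((dvd_of_eq h1.symm).trans hb)
      have h2 : b.val ≠ 0 := fun h => hb0 ((ZMod.val_eq_zero b).1 h)
      have h3 : b.val < 2 * 2 ^ (k - 1) := b.val_lt.trans_eq h1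
      rw [ht] at h2 h3 ⊢
      have h4 : t < 2 := Nat.lt_of_mul_lt_mul_left (a := 2 ^ (k - 1)) (by linarith)
      have h5 : t ≠ 0 := by rintro rfl; simp at h2
      rw [show t = 1 by omega, mul_one]
    apply Subtype.ext
    show b = c
    by_cases hb0 : b = 0
    · by_cases hc0 : c = 0
      · rw [hb0, hc0]
      · simp [hb0, hc0] at e
    · by_cases hc0 : c = 0
      · simp [hb0, hc0] at e
      · exact ZMod.val_injective _ ((key b hb hb0).1.trans (key c hc hc0).1.symm)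
  let g : cand k → {b : ZMod (2 ^ k) // 2 * b = 0} × {b : ZMod (2 ^ k) // 2 * b = 0} :=
    fun v => (⟨v.1.val 0 1, v.2.1⟩, ⟨v.1.val 1 0, v.2.2.1⟩)
  refine (Nat.card_le_card_of_injective g ?_).trans ?_
  · rintro ⟨v, hv⟩ ⟨w, hw⟩ e
    simp only [g, Prod.mk.injEq, Subtype.mk.injEq] at e
    refine Subtype.ext (Units.ext ?_)
    have h0 : v.val 0 0 = w.val 0 0 := by rw [hv.2.2.2, hw.2.2.2, e.1, e.2]
    ext i j; fin_cases i <;> fin_cases j
    · exact h0
    · exact e.1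
    · exact e.2
    · exact hv.2.2.1.symm.trans (h0.trans hw.2.2.1)
  · rw [Nat.card_prod]
    exact Nat.mul_le_mul htors htors

/-- Every `A₄` is conjugate to one containing the standard element of order three. -/
theorem normal_form {k : ℕ} (hk : k ≠ 0) (H : Subgroup (GL (Fin 2) (ZMod (2 ^ k))))
    (h : Nonempty (↥H ≃* ↥(alternatingGroup (Fin 4)))) :
    ∃ g : GL (Fin 2) (ZMod (2 ^ k)), ∃ x : GL (Fin 2) (ZMod (2 ^ k)),
      x.val = !![0, -1; 1, -1] ∧ x ∈ H.map (MulAut.conj g).toMonoidHom ∧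
      cand k ⊆ (H.map (MulAut.conj g).toMonoidHom : Subgroup _) ∧
      Nat.card (H.map (MulAut.conj g).toMonoidHom : Subgroup _) = 12 ∧
      ∃ V : Subgroup (GL (Fin 2) (ZMod (2 ^ k))), Nat.card V = 4 ∧ (V : Set _) = cand k := by
  classical
  obtain ⟨e⟩ := h
  obtain ⟨x₀, hx3, hx1⟩ := a4_x
  have hcard4 := a4_card
  have hxv := a4_xv
  have hvw := a4_vw
  set y : GL (Fin 2) (ZMod (2 ^ k)) := ((e.symm x₀ : ↥H) : GL (Fin 2) (ZMod (2 ^ k))) with hy
  have hy3 : y ^ 3 = 1 := by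
    rw [hy, ← Subgroup.coe_pow, ← map_pow, hx3, map_one]; rfl
  have hy1 : y ≠ 1 := fun h => hx1 (by
    simpa using congrArg e (Subtype.ext h : e.symm x₀ = 1))
  obtain ⟨hc, ht, hdet⟩ := cube_entries hk y hy3 hy1
  let P : GL (Fin 2) (ZMod (2 ^ k)) := Matrix.GeneralLinearGroup.mk'' !![1, y.val 0 0; 0, y.val 1 0]
    (by rw [Matrix.det_fin_two_of]; simpa using hc)
  set x : GL (Fin 2) (ZMod (2 ^ k)) := P⁻¹ * y * P with hx
  have hxval : x.val = !![0, -1; 1, -1] := by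
    have h1 : y.val * P.val = P.val * !![0, -1; 1, -1] := by
      show y.val * !![1, y.val 0 0; 0, y.val 1 0] = !![1, y.val 0 0; 0, y.val 1 0] * !![0, -1; 1, -1]
      ext i j
      fin_cases i <;> fin_cases j <;> simp [Matrix.mul_apply, Fin.sum_univ_two]
      · linear_combination (y.val 0 0) * ht - hdet
      · linear_combination (y.val 1 0) * ht
    rw [hx, mul_assoc, Units.val_mul, Units.val_mul, h1, ← mul_assoc, ← Units.val_mul,
      inv_mul_cancel, Units.val_one, one_mul]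
  set ψ : ↥(alternatingGroup (Fin 4)) →* GL (Fin 2) (ZMod (2 ^ k)) :=
    (MulAut.conj P⁻¹).toMonoidHom.comp (H.subtype.comp e.symm.toMonoidHom) with hψ
  have hψinj : Function.Injective ψ :=
    (MulAut.conj P⁻¹).injective.comp (H.subtype_injective.comp e.symm.injective)
  have hψr : ψ.range = H.map (MulAut.conj P⁻¹).toMonoidHom := by
    rw [hψ, MonoidHom.range_comp, MonoidHom.range_comp,
      MonoidHom.range_eq_top.2 (show Function.Surjective e.symm.toMonoidHom from e.symm.surjective),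
      ← MonoidHom.range_eq_map, Subgroup.range_subtype]
  have hψx : ψ x₀ = x := by
    simp only [hψ, MonoidHom.comp_apply, MulEquiv.coe_toMonoidHom, MulAut.conj_apply, inv_inv, hx]
    rfl
  have hin : ∀ v, v ^ 2 = 1 → ψ v ∈ cand k := by
    intro v hv
    obtain ⟨h3, h1⟩ := hxv x₀ v hx3 hx1 hv
    obtain ⟨-, ht', hdet'⟩ := cube_entries hk (ψ (x₀ * v)) (by rw [← map_pow, h3, map_one])
      (fun h => h1 (hψinj (by rw [h, map_one])))
    set w := ψ v
    have hval : (ψ (x₀ * v)).val = !![0, -1; 1, -1] * w.val := by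
      rw [map_mul, hψx, Units.val_mul, hxval]
    simp only [hval, Matrix.mul_apply, Fin.sum_univ_two, Matrix.of_apply, Matrix.cons_val',
      Matrix.cons_val_zero, Matrix.cons_val_one, Matrix.empty_val',
      Matrix.cons_val_fin_one] at ht' hdet'
    have hdetw : w.val 0 0 * w.val 1 1 - w.val 0 1 * w.val 1 0 = 1 := by
      linear_combination hdet'
    have hw2 : w.val * w.val = 1 := by
      rw [← Units.val_mul, ← map_mul, ← pow_two v, hv, map_one]; rfl
    have hadj : w.val = Matrix.adjugate w.val := by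
      have h4 := congrArg (· * Matrix.adjugate w.val) hw2
      rw [mul_assoc, Matrix.mul_adjugate, Matrix.det_fin_two, hdetw, one_smul, mul_one, one_mul] at h4
      exact h4
    rw [Matrix.adjugate_fin_two] at hadj
    have e00 := congrFun (congrFun hadj 0) 0
    have e01 := congrFun (congrFun hadj 0) 1
    have e10 := congrFun (congrFun hadj 1) 0
    simp only [Matrix.of_apply, Matrix.cons_val', Matrix.cons_val_zero, Matrix.cons_val_one,
      Matrix.empty_val', Matrix.cons_val_fin_one] at e00 e01 e10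
    exact ⟨by linear_combination e01, by linear_combination e10, e00,
      by linear_combination e00 - ht'⟩
  let V₀ : Subgroup ↥(alternatingGroup (Fin 4)) :=
    { carrier := {v | v ^ 2 = 1}
      one_mem' := one_pow 2
      mul_mem' := fun {v w} hv hw => hvw v w hv hw
      inv_mem' := fun {v} hv => by
        show v⁻¹ ^ 2 = 1
        rw [inv_pow, show v ^ 2 = 1 from hv, inv_one] }
  have hV0 : Nat.card V₀ = 4 := by
    refine (Eq.trans ?_ (Nat.card_eq_finsetCard _)).trans hcard4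
    exact Nat.card_congr (Equiv.subtypeEquivRight fun v => by simp [V₀])
  have hV : Nat.card (V₀.map ψ) = 4 := by rw [Subgroup.card_map_of_injective hψinj, hV0]
  have hVc : ((V₀.map ψ : Subgroup _) : Set (GL (Fin 2) (ZMod (2 ^ k)))) = cand k := by
    refine Set.eq_of_subset_of_ncard_le ?_ ?_ (Set.toFinite _)
    · rintro _ ⟨v, hv, rfl⟩
      exact hin v hv
    · exact le_trans (cand_card k) hV.ge
  refine ⟨P⁻¹, x, hxval, ?_, ?_, ?_, V₀.map ψ, hV, hVc⟩
  · rw [← hψr]; exact ⟨x₀, hψx⟩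
  · rw [← hψr, ← hVc]
    rintro _ ⟨v, -, rfl⟩
    exact ⟨v, rfl⟩
  · rw [← hψr, ← Nat.card_congr (MonoidHom.ofInjective hψinj).toEquiv]
    rw [Nat.card_eq_fintype_card]
    decide +kernel

/-- For k ≥ 2, any two subgroups of GL₂(ℤ/2ᵏℤ) (the automorphism group of the homocyclic group ℤ/2ᵏ × ℤ/2ᵏ) that are isomorphic to the alternating group of degree 4 are conjugate. -/
theorem result (k : ℕ) (hk : 2 ≤ k) (H₁ H₂ : Subgroup (GL (Fin 2) (ZMod (2 ^ k)))) (h₁ : Nonempty (↥H₁ ≃* ↥(alternatingGroup (Fin 4)))) (h₂ : Nonempty (↥H₂ ≃* ↥(alternatingGroup (Fin 4)))) : ∃ g : GL (Fin 2) (ZMod (2 ^ k)), H₂ = H₁.map (MulAut.conj g).toMonoidHom := by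
  have hk0 : k ≠ 0 := by omega
  obtain ⟨g₁, x, hxv, hx₁, hc₁, hn₁, V, hV4, hVc⟩ := normal_form hk0 H₁ h₁
  obtain ⟨g₂, x', hxv', hx₂, hc₂, hn₂, -⟩ := normal_form hk0 H₂ h₂
  obtain rfl : x' = x := Units.ext (hxv'.trans hxv.symm)
  set K₁ := H₁.map (MulAut.conj g₁).toMonoidHom with hK₁
  set K₂ := H₂.map (MulAut.conj g₂).toMonoidHom with hK₂
  have hx3 : orderOf x' = 3 := by
    haveI : Fact (Nat.Prime 3) := ⟨Nat.prime_three⟩
    refine orderOf_eq_prime (Units.ext ?_) (fun h => ?_)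
    · rw [Units.val_pow_eq_pow_val, hxv, Units.val_one, pow_succ, sq]
      ext i j; fin_cases i <;> fin_cases j <;> simp [Matrix.mul_apply, Fin.sum_univ_two]
    · haveI : Fact (1 < 2 ^ k) := ⟨Nat.one_lt_two_pow hk0⟩
      have h4 := congrFun (congrFun (hxv.symm.trans (congrArg Units.val h)) 1) 0
      simp at h4
  have heq : K₁ = K₂ := by
    have hle : V ⊔ Subgroup.zpowers x' ≤ K₁ ⊓ K₂ :=
      sup_le (fun v hv => ⟨hc₁ (hVc.le hv), hc₂ (hVc.le hv)⟩)
        (le_inf (Subgroup.zpowers_le.2 hx₁) (Subgroup.zpowers_le.2 hx₂))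
    have h4 : 4 ∣ Nat.card ↥(K₁ ⊓ K₂) := hV4 ▸ Subgroup.card_dvd_of_le (le_sup_left.trans hle)
    have h3 : 3 ∣ Nat.card ↥(K₁ ⊓ K₂) := by
      rw [← hx3, ← Nat.card_zpowers]
      exact Subgroup.card_dvd_of_le (le_sup_right.trans hle)
    have h12 : 12 ∣ Nat.card ↥(K₁ ⊓ K₂) := Nat.Coprime.mul_dvd_of_dvd_of_dvd (m := 4) (n := 3) (by norm_num) h4 h3
    have hle12 : 12 ≤ Nat.card ↥(K₁ ⊓ K₂) := Nat.le_of_dvd Nat.card_pos h12
    rw [← Subgroup.eq_of_le_of_card_ge (inf_le_left : K₁ ⊓ K₂ ≤ K₁) (hn₁.le.trans hle12)]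
    exact Subgroup.eq_of_le_of_card_ge inf_le_right (hn₂.le.trans hle12)
  refine ⟨g₂⁻¹ * g₁, ?_⟩
  have h5 : ∀ K : Subgroup (GL (Fin 2) (ZMod (2 ^ k))), K.map (MulAut.conj g₂).toMonoidHom = K₂ →
      K = K₂.map (MulAut.conj g₂⁻¹).toMonoidHom := by
    intro K hK
    rw [← hK, map_conj_eq, map_conj_eq, conjS_inv_cancel]
  rw [h5 H₂ rfl, ← heq, hK₁, map_conj_eq, map_conj_eq, map_conj_eq, ← conjS_mul]

end Cfsg.Agent.S2874
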