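import Cfsg.Statements.S2879
import Mathlib.LinearAlgebra.Matrix.SpecialLinearGroup
import Mathlib.GroupTheory.SpecificGroups.Dihedral
import Cfsg.Agent.Lib.LocalEven.FStarAction
import Cfsg.Agent.Lib.LocalEven.Kieler
import Cfsg.Agent.Lib.Involutions.QuasiDihedral

set_option autoImplicit false
open Cfsg Cfsg.Agent Cfsg.Agent.Lib Cfsg.Agent.Lib.LocalEven
open scoped commutatorElement

namespace Cfsg.Agent.S2879

universe v

namespace Aux

abbrev SL3 := Matrix.SpecialLinearGroup (Fin 2) (ZMod 3)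

def c0 : SL3 := ⟨!![0, 2; 1, 0], by decide⟩
def g0 : SL3 := ⟨!![1, 1; 0, 1], by decide⟩
def x0 : SL3 := ⟨!![1, 1; 1, 2], by decide⟩

abbrev I := Fin 4 × Fin 2 × Fin 3

def wordF {G : Type v} [Group G] (c x g : G) (a : I) : G := c ^ (a.1 : ℕ) * x ^ (a.2.1 : ℕ) * g ^ (a.2.2 : ℕ)

def Lc (a : I) : I := (a.1 + 1, a.2)

def Lx (a : I) : I := if a.2.1 = 0 then (-a.1, 1, a.2.2) else (2 - a.1, 0, a.2.2)

def Lg (a : I) : I :=
  match a.1, a.2.1 with
  | 0, 0 => (0, 0, a.2.2 + 1)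
  | 1, 0 => (0, 1, a.2.2 + 1)
  | 2, 0 => (2, 0, a.2.2 + 1)
  | 3, 0 => (2, 1, a.2.2 + 1)
  | 0, 1 => (1, 1, a.2.2 + 1)
  | 1, 1 => (1, 0, a.2.2 + 1)
  | 2, 1 => (3, 1, a.2.2 + 1)
  | 3, 1 => (3, 0, a.2.2 + 1)

theorem sl_word_bijective : Function.Bijective (wordF c0 x0 g0) := by
  refine ⟨by decide +kernel, by decide +kernel⟩

theorem sl_equivariant : ∀ a : I, c0 * wordF c0 x0 g0 a = wordF c0 x0 g0 (Lc a) ∧
    x0 * wordF c0 x0 g0 a = wordF c0 x0 g0 (Lx a) ∧ g0 * wordF c0 x0 g0 a = wordF c0 x0 g0 (Lg a) := by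
  decide +kernel

/-- Products of pairs of noncommuting elements of the quaternion group: squares act as inner times three-cycles. -/
theorem sl_squares : ∀ i i' : Fin 4, ∀ j j' : Fin 2,
    wordF c0 x0 g0 (i, j, 0) * wordF c0 x0 g0 (i', j', 0) ≠ wordF c0 x0 g0 (i', j', 0) * wordF c0 x0 g0 (i, j, 0) →
    ∃ q : I, wordF c0 x0 g0 q * c0 = wordF c0 x0 g0 (i, j, 0) ^ (i : ℕ) * wordF c0 x0 g0 (i', j', 0) ^ (j : ℕ) * wordF c0 x0 g0 q ∧
      wordF c0 x0 g0 q * x0 = wordF c0 x0 g0 (i, j, 0) ^ (i' : ℕ) * wordF c0 x0 g0 (i', j', 0) ^ (j' : ℕ) * wordF c0 x0 g0 q := by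
  decide +kernel

variable {G : Type v} [Group G] {c x g : G}

theorem exists_iso (hc : c ^ 4 = 1) (hxx : x * x = c ^ 2) (hxc : x * c * x⁻¹ = c⁻¹)
    (hgc : g * c * g⁻¹ = x) (hgx : g * x * g⁻¹ = c * x) (hg : g ^ 3 = 1)
    (hinj : Function.Injective (wordF c x g)) :
    ∃ φ : SL3 →* G, Function.Injective φ ∧ φ c0 = c ∧ φ x0 = x ∧ φ g0 = g ∧
      ∀ a : I, φ (wordF c0 x0 g0 a) = wordF c x g a := by
  have hc0 : c ^ 4 = 1 := hc
  have hcp : ∀ n : ℕ, c ^ n = c ^ (n % 4) := fun n => by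
    conv_lhs => rw [← Nat.div_add_mod n 4, pow_add, pow_mul, hc, one_pow, one_mul]
  have hxc' : ∀ n : ℕ, x * c ^ n = c ^ (3 * n) * x := by
    intro n
    have h1 : x * c ^ n * x⁻¹ = (c⁻¹) ^ n := by rw [← conj_pow, hxc]
    have h2 : c⁻¹ = c ^ 3 := inv_eq_of_mul_eq_one_right (by rw [← pow_succ', hc])
    rw [h2, ← pow_mul] at h1
    rw [← h1]; group
  have hLc : ∀ a, c * wordF c x g a = wordF c x g (Lc a) := by
    rintro ⟨i, j, k⟩
    simp only [wordF, Lc]
    rw [← mul_assoc, ← mul_assoc, ← pow_succ', hcp ((i : ℕ) + 1), Fin.val_add]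
    rfl
  have hLx : ∀ a, x * wordF c x g a = wordF c x g (Lx a) := by
    rintro ⟨i, j, k⟩
    simp only [wordF]
    rw [← mul_assoc, ← mul_assoc, hxc', mul_assoc (c ^ (3 * (i : ℕ))), ← pow_succ', hcp (3 * (i : ℕ))]
    match j with
    | 0 =>
      have e : (3 * (i : ℕ)) % 4 = ((-i : Fin 4) : ℕ) := by revert i; decide
      simp [Lx, e]
    | 1 =>
      have e : ((3 * (i : ℕ)) % 4 + 2) % 4 = ((2 - i : Fin 4) : ℕ) := by revert i; decide
      simp [Lx, pow_two, hxx]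
      rw [← pow_two, ← pow_add, hcp, ← e]
  have hgx' : g * x = c * x * g := by rw [← hgx]; group
  have hgc' : g * c = x * g := by rw [← hgc]; group
  have hLg : ∀ a, g * wordF c x g a = wordF c x g (Lg a) := by
    rintro ⟨i, j, k⟩
    have hk : g ^ ((k : ℕ) + 1) = g ^ ((k + 1 : Fin 3) : ℕ) := by
      conv_lhs => rw [← Nat.div_add_mod ((k : ℕ) + 1) 3, pow_add, pow_mul, hg, one_pow, one_mul]
      rw [Fin.val_add]; rfl
    have hgi : g * c ^ (i : ℕ) = x ^ (i : ℕ) * g := by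
      have : (g * c * g⁻¹) ^ (i : ℕ) = g * c ^ (i : ℕ) * g⁻¹ := conj_pow
      rw [hgc] at this
      rw [this]; group
    have hgj : g * x ^ (j : ℕ) = (c * x) ^ (j : ℕ) * g := by
      match j with
      | 0 => simp
      | 1 => simp [hgx']
    have e0 : g * wordF c x g (i, j, k) = x ^ (i : ℕ) * (c * x) ^ (j : ℕ) * g ^ ((k + 1 : Fin 3) : ℕ) := by
      simp only [wordF]
      calc g * (c ^ (i : ℕ) * x ^ (j : ℕ) * g ^ (k : ℕ)) = g * c ^ (i : ℕ) * x ^ (j : ℕ) * g ^ (k : ℕ) := by group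
        _ = x ^ (i : ℕ) * (g * x ^ (j : ℕ)) * g ^ (k : ℕ) := by rw [hgi]; group
        _ = x ^ (i : ℕ) * (c * x) ^ (j : ℕ) * (g * g ^ (k : ℕ)) := by rw [hgj]; group
        _ = _ := by rw [← pow_succ', hk]
    have hx2 : x ^ 2 = c ^ 2 := by rw [pow_two, hxx]
    have hx3 : x ^ 3 = c ^ 2 * x := by rw [pow_succ, hx2]
    have hxcx : x * c * x = c := by
      have h1 : x * c = c⁻¹ * x := by rw [← hxc]; group
      rw [h1, mul_assoc, hxx, pow_two]; group
    rw [e0]
    match i, j with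
    | 0, 0 => simp [wordF, Lg]
    | 1, 0 => simp [wordF, Lg]
    | 2, 0 => simp [wordF, Lg, hx2]
    | 3, 0 => simp [wordF, Lg, hx3]
    | 0, 1 => simp [wordF, Lg]
    | 1, 1 => simp [wordF, Lg, ← mul_assoc, hxcx]
    | 2, 1 =>
      simp only [wordF, Lg]
      simp [hx2, ← mul_assoc, ← pow_succ]
    | 3, 1 =>
      simp only [wordF, Lg]
      simp [hx3]
      rw [show c ^ 2 * x * (c * x) = c ^ 2 * (x * c * x) by group, hxcx, ← pow_succ]
  set e := Equiv.ofBijective _ sl_word_bijective with he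
  let φ : SL3 → G := fun q => wordF c x g (e.symm q)
  have hφf : ∀ a, φ (wordF c0 x0 g0 a) = wordF c x g a := fun a => by
    show wordF c x g (e.symm (e a)) = _
    rw [Equiv.symm_apply_apply]
  have hstep : ∀ q, φ (c0 * q) = c * φ q ∧ φ (x0 * q) = x * φ q ∧ φ (g0 * q) = g * φ q := by
    intro q
    obtain ⟨a, rfl⟩ := sl_word_bijective.2 q
    obtain ⟨h1, h2, h3⟩ := sl_equivariant a
    rw [h1, h2, h3, hφf, hφf, hφf, hφf, hLc, hLx, hLg]
    exact ⟨rfl, rfl, rfl⟩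
  have hpow : ∀ (s : SL3) (t : G), (∀ q, φ (s * q) = t * φ q) → ∀ (n : ℕ) q, φ (s ^ n * q) = t ^ n * φ q := by
    intro s t h n
    induction n with
    | zero => simp
    | succ n ih => intro q; rw [pow_succ, mul_assoc, ih, h, pow_succ, mul_assoc]
  have hmul : ∀ p q, φ (p * q) = φ p * φ q := by
    intro p q
    obtain ⟨a, rfl⟩ := sl_word_bijective.2 p
    rw [hφf]
    simp only [wordF]
    rw [mul_assoc, mul_assoc, hpow _ _ (fun r => (hstep r).1), hpow _ _ (fun r => (hstep r).2.1),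
      hpow _ _ (fun r => (hstep r).2.2)]
    group
  refine ⟨MonoidHom.mk' φ hmul, ?_, ?_, ?_, ?_, hφf⟩
  · exact hinj.comp e.symm.injective
  · show φ c0 = c
    rw [show c0 = wordF c0 x0 g0 (1, 0, 0) by decide, hφf]; simp [wordF]
  · show φ x0 = x
    rw [show x0 = wordF c0 x0 g0 (0, 1, 0) by decide, hφf]; simp [wordF]
  · show φ g0 = g
    rw [show g0 = wordF c0 x0 g0 (0, 0, 1) by decide, hφf]; simp [wordF]

/-! ### Odd automorphisms of small `2`-groups -/

theorem commute_of_index_two {U K : Subgroup G} {g : G} (hg : Nat.Coprime (orderOf g) 2) (hK : IsPGroup 2 K)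
    (hgU : ∀ a ∈ U, g * a * g⁻¹ ∈ U) (hgK : ∀ a ∈ K, Commute g a)
    (hmul : ∀ a ∈ U, ∀ b ∈ U, a ∉ K → b ∉ K → a * b ∈ K) : ∀ a ∈ U, Commute g a := by
  intro a ha
  by_cases haK : a ∈ K
  · exact hgK a haK
  have hd : g * a * g⁻¹ * a⁻¹ ∈ K := by
    refine hmul _ (hgU a ha) _ (inv_mem ha) (fun h => haK ?_) (fun h => haK (by simpa using inv_mem h))
    have h1 := (hgK _ h).eq
    have h2 : a = g * a * g⁻¹ := by
      calc a = g⁻¹ * (g * a * g⁻¹) * g := by group
        _ = g⁻¹ * (g * (g * a * g⁻¹)) := by rw [h1]; group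
        _ = _ := by group
    rwa [← h2] at h
  obtain ⟨k, hk⟩ := hK ⟨_, hd⟩
  exact commute_of_coprime_stab hg (hgK _ hd) (congrArg Subtype.val hk)

theorem commute_of_cyclic {g : G} (hg : Nat.Coprime (orderOf g) 2) :
    ∀ (a : ℕ) (u : G), orderOf u = 2 ^ a → g * u * g⁻¹ ∈ Subgroup.zpowers u → Commute g u := by
  intro a
  induction a with
  | zero => intro u hu _; rw [pow_zero, orderOf_eq_one_iff] at hu; rw [hu]; exact Commute.one_right g
  | succ a ih =>
    intro u hu hmem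
    obtain ⟨i, hi⟩ := hmem
    have hi : u ^ i = g * u * g⁻¹ := hi
    have hu2 : orderOf (u ^ 2) = 2 ^ a := by
      rw [orderOf_pow' u two_ne_zero, hu, pow_succ, Nat.gcd_mul_left_left, Nat.mul_div_cancel _ (by norm_num)]
    have hg2 : g * u ^ 2 * g⁻¹ = (u ^ 2) ^ i := by
      rw [← conj_pow, ← hi, ← zpow_natCast, ← zpow_natCast u, ← zpow_mul, ← zpow_mul, mul_comm]
    have hc2 := ih _ hu2 ⟨i, hg2.symm⟩
    obtain ⟨j, hj | hj⟩ := Int.even_or_odd' i
    · exfalso
      rw [hj, zpow_mul, show (2 : ℤ) = ((2 : ℕ) : ℤ) from rfl, zpow_natCast] at hi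
      have h1 := (hc2.zpow_right j).eq
      have h2 : u = (u ^ 2) ^ j := by
        calc u = g⁻¹ * (g * u * g⁻¹) * g := by group
          _ = g⁻¹ * ((u ^ 2) ^ j * g) := by rw [← hi]; group
          _ = _ := by rw [← h1]; group
      have h3 : u ^ (2 * j - 1) = 1 := by
        rw [zpow_sub, zpow_one, zpow_mul, show (2 : ℤ) = ((2 : ℕ) : ℤ) from rfl, zpow_natCast, ← h2, mul_inv_cancel]
      have h4 := orderOf_dvd_iff_zpow_eq_one.2 h3
      rw [hu] at h4
      have h5 : (2 : ℤ) ∣ 2 * j - 1 := (dvd_pow_self _ (Nat.succ_ne_zero a) : (2 : ℤ) ∣ 2 ^ (a + 1)).trans (by exact_mod_cast h4)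
      omega
    · have hd : g * u * g⁻¹ * u⁻¹ = (u ^ 2) ^ j := by
        rw [← hi, hj, zpow_add_one, mul_inv_cancel_right, zpow_mul, show (2 : ℤ) = ((2 : ℕ) : ℤ) from rfl, zpow_natCast]
      refine commute_of_coprime_stab hg (hd ▸ hc2.zpow_right j) (k := a) ?_
      rw [hd, ← zpow_natCast, ← zpow_mul, mul_comm, zpow_mul, zpow_natCast, ← hu2, pow_orderOf_eq_one, one_zpow]

theorem commute_sq_imp {g u : G} (hg : Nat.Coprime (orderOf g) 2) {K : Subgroup G}
    (h : ∀ a ∈ K, g ^ 2 * a * (g ^ 2)⁻¹ ∈ K) (hu : u ∈ K) : g * u * g⁻¹ ∈ K := by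
  obtain ⟨m, hm⟩ := exists_pow_eq_self_of_coprime (x := g) (n := 2) hg.symm
  have key : ∀ n : ℕ, ∀ a ∈ K, (g ^ 2) ^ n * a * ((g ^ 2) ^ n)⁻¹ ∈ K := by
    intro n
    induction n with
    | zero => simp
    | succ n ih =>
      intro a ha
      have := h _ (ih a ha)
      rw [pow_succ']
      simpa [mul_assoc] using this
  have := key m u hu
  rwa [hm] at this

/-- The structure of a dihedral or semidihedral group. -/
theorem cyclic_data {T : Type v} [Group T] [Finite T] (hTp : ∃ k, Nat.card T = 2 ^ k)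
    (hT : (∃ n : ℕ, 4 ≤ n ∧ Nonempty (T ≃* DihedralGroup n)) ∨ Cfsg.IsQuasiDihedral T) :
    ∃ (r : T) (m : ℕ), 2 ≤ m ∧ orderOf r = 2 ^ m ∧ (Subgroup.zpowers r).index = 2 ∧
      ∀ y, y ∉ Subgroup.zpowers r → (∃ e : ℤ, 4 ∣ e + 1 ∧ y * r * y⁻¹ = r ^ e) ∧ y ^ 4 = 1 := by
  obtain ⟨k, hk⟩ := hTp
  rcases hT with ⟨n, hn, ⟨e⟩⟩ | hq
  · haveI : NeZero n := ⟨by omega⟩
    have hc : 2 * n = 2 ^ k := by rw [← hk, Nat.card_congr e.toEquiv, DihedralGroup.nat_card]
    obtain ⟨m, rfl⟩ : ∃ m, k = m + 1 := ⟨k - 1, by rcases k with _ | k <;> simp_all <;> omega⟩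
    have hn2 : n = 2 ^ m := by rw [pow_succ] at hc; omega
    have ho : orderOf (e.symm (DihedralGroup.r 1)) = 2 ^ m := by
      rw [MulEquiv.orderOf_eq, DihedralGroup.orderOf_r_one, hn2]
    refine ⟨e.symm (DihedralGroup.r 1), m, ?_, ho, ?_, fun y hy => ?_⟩
    · by_contra hm
      interval_cases m <;> simp_all
    · have h := (Subgroup.zpowers (e.symm (DihedralGroup.r 1))).card_mul_index
      rw [Nat.card_zpowers, ho, hk, pow_succ] at h
      exact Nat.eq_of_mul_eq_mul_left (by positivity) h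
    · obtain ⟨d, rfl⟩ := e.symm.surjective y
      cases d with
      | r i =>
        refine absurd ⟨(i.val : ℤ), ?_⟩ hy
        show e.symm (DihedralGroup.r 1) ^ (i.val : ℤ) = _
        rw [zpow_natCast, ← map_pow, DihedralGroup.r_one_pow, ZMod.natCast_val, ZMod.cast_id']
        rfl
      | sr i =>
        refine ⟨⟨-1, by norm_num, ?_⟩, ?_⟩
        · rw [zpow_neg, zpow_one, ← map_inv, ← map_inv, ← map_mul, ← map_mul]
          congr 1
          simp
        · rw [← map_pow, ← map_one e.symm]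
          congr 1
          rw [show 4 = 2 * 2 from rfl, pow_mul, pow_two (DihedralGroup.sr i), DihedralGroup.sr_mul_self, one_pow]
  · obtain ⟨x, y, n, h⟩ := Involutions.exists_qdGen hq
    have hidx : (Subgroup.zpowers x).index = 2 := by
      have h2 := (Subgroup.zpowers x).card_mul_index
      rw [Nat.card_zpowers, h.ox, h.card, pow_succ] at h2
      exact Nat.eq_of_mul_eq_mul_left (by positivity) h2
    refine ⟨x, n, by have := h.hn; omega, h.ox, hidx, fun z hz => ?_⟩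
    obtain ⟨i, rfl | rfl⟩ := h.normal_form z
    · exact absurd ⟨i, rfl⟩ hz
    refine ⟨⟨Involutions.qdExp n, ?_, ?_⟩, ?_⟩
    · rw [Involutions.qdExp, show (2 : ℤ) ^ (n - 1) - 1 + 1 = 2 ^ (n - 1) by ring,
        show (4 : ℤ) = 2 ^ 2 by norm_num]
      exact pow_dvd_pow _ (by have := h.hn; omega)
    · rw [show x ^ i * y * x * (x ^ i * y)⁻¹ = x ^ i * (y * x * y⁻¹) * (x ^ i)⁻¹ by group, h.conj]
      group
    · rw [show 4 = 2 * 2 from rfl, pow_mul, pow_two (x ^ i * y)]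
      rcases Int.even_or_odd i with hi | hi
      · rw [h.sq_y_even hi, one_pow]
      · rw [h.sq_y_odd hi, pow_two, h.z_mul_self]

end Aux

/-- Let G be a finite solvable group with O(G) = 1 whose Sylow 2-subgroup T is dihedral of order at least 8 or semidihedral, with G ≠ T and Z(T) normal in G. Then G has a normal subgroup isomorphic to SL₂(3). -/
theorem result {G : Type*} [Group G] [Finite G] (hsol : IsSolvable G) (hO : Cfsg.oddCore G = ⊥) (T : Sylow 2 G) (hT : (∃ n : ℕ, 4 ≤ n ∧ Nonempty (↥(T : Subgroup G) ≃* DihedralGroup n)) ∨ Cfsg.IsQuasiDihedral ↥(T : Subgroup G)) (hne : (T : Subgroup G) ≠ ⊤) (hZ : ((T : Subgroup G) ⊓ Subgroup.centralizer ((T : Subgroup G) : Set G)).Normal) : ∃ U : Subgroup G, U.Normal ∧ Nonempty (↥U ≃* Matrix.SpecialLinearGroup (Fin 2) (ZMod 3)) := by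
  classical
  set U := fittingSubgroup G with hUdef
  haveI : Group.IsNilpotent ↥U := Components.fittingSubgroup_isNilpotent
  haveI hUn : U.Normal := by
    haveI := fittingSubgroup_characteristic (G := G)
    infer_instance
  have hconjU : ∀ (g : G) (a : G), a ∈ U → g * a * g⁻¹ ∈ U := fun g a ha => hUn.conj_mem a ha g
  have hU2 : IsPGroup 2 ↥U := by
    have hodd : ∀ r : ℕ, r.Prime → r ∣ Nat.card U → r = 2 := by
      intro r hr hd
      by_contra hr2
      haveI : Fact r.Prime := ⟨hr⟩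
      let R : Sylow r ↥U := default
      haveI : (R : Subgroup ↥U).Normal := inferInstance
      haveI := R.characteristic_of_normal inferInstance
      have hn : ((R : Subgroup ↥U).map U.subtype).Normal :=
        normal_of_le_normalizer (le_normalizer_map_char (le_normalizer_of_normal _ _) _)
      obtain ⟨k, hk⟩ := IsPGroup.iff_card.1 (R.isPGroup'.map U.subtype)
      have h1 := Components.le_pPrimeCore (p := 2) hn (by
        rw [hk]; exact Nat.Coprime.pow_left k ((Nat.coprime_primes hr Nat.prime_two).2 hr2))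
      rw [show Cfsg.pPrimeCore 2 G = ⊥ from hO, le_bot_iff, Subgroup.map_eq_bot_iff_of_injective _ U.subtype_injective] at h1
      have h2 := R.dvd_card_of_dvd_card hd
      rw [h1, Subgroup.card_bot] at h2
      exact hr.not_dvd_one h2
    exact IsPGroup.of_card (n := (Nat.card U).primeFactorsList.length)
      (Nat.eq_prime_pow_of_unique_prime_dvd Nat.card_pos.ne' fun {r} hr hd => hodd r hr hd)
  have hCU : Subgroup.centralizer (U : Set G) ≤ U := by
    have hlayer : Cfsg.layer G = ⊥ := Components.layer_eq_bot_iff.2 fun K hK => Components.IsComponent.not_isSolvable hK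
      (@solvable_of_solvable_injective _ _ _ _ K.subtype K.subtype_injective hsol)
    have h1 : Subgroup.centralizer (Cfsg.generalizedFittingSubgroup G : Set G) ≤ fittingSubgroup G :=
      Components.centralizer_genFitting_le_fittingSubgroup
    rwa [Cfsg.generalizedFittingSubgroup, hlayer, bot_sup_eq] at h1
  -- an element of odd order
  obtain ⟨g, hgodd, hg1⟩ : ∃ g : G, Nat.Coprime (orderOf g) 2 ∧ g ≠ 1 := by
    by_contra hcon
    push Not at hcon
    apply hne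
    refine (isSylowOf_top T).eq_of_le le_rfl (IsPGroup.of_card (n := (Nat.card (⊤ : Subgroup G)).primeFactorsList.length)
      (Nat.eq_prime_pow_of_unique_prime_dvd Nat.card_pos.ne' fun {r} hr hd => ?_)) le_top |>.symm
    by_contra hr2
    haveI : Fact r.Prime := ⟨hr⟩
    rw [Subgroup.card_top] at hd
    obtain ⟨x, hx⟩ := exists_prime_orderOf_dvd_card' r hd
    have := hcon x (by rw [hx]; exact (Nat.coprime_primes hr Nat.prime_two).2 hr2)
    rw [this, orderOf_one] at hx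
    exact hr.ne_one hx.symm
  have hgU : ∀ a ∈ U, g * a * g⁻¹ ∈ U := hconjU g
  have hoddU : ∀ x ∈ U, Nat.Coprime (orderOf x) 2 → x = 1 := by
    intro x hx hc
    obtain ⟨k, hk⟩ := hU2 ⟨x, hx⟩
    exact eq_one_of_coprime_of_pow hc (congrArg Subtype.val hk)
  have hcent : ∀ d : G, (∀ a ∈ U, Commute d a) → d ∈ U := fun d hd =>
    hCU (Subgroup.mem_centralizer_iff.2 fun a ha => (hd a ha).eq.symm)
  have hncomm : ¬ ∀ a ∈ U, Commute g a := fun h => hg1 (hoddU g (hcent g h) hgodd)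
  -- inside the Sylow subgroup
  have hUT : U ≤ (T : Subgroup G) := by
    have h := (isSylowOf_top T).eq_of_le le_top (T.isPGroup'.to_sup_of_normal_right' hU2 (le_normalizer_of_normal _ _)) le_sup_left
    exact le_sup_right.trans h.le
  obtain ⟨r₀, m, hm, hr₀, hidx, houter₀⟩ := Aux.cyclic_data (T := ↥(T : Subgroup G))
    (IsPGroup.iff_card.1 T.isPGroup') hT
  set r : G := (r₀ : G) with hrdef
  set C := Subgroup.zpowers r with hC
  have hCmem : ∀ a : ↥(T : Subgroup G), (a : G) ∈ C ↔ a ∈ Subgroup.zpowers r₀ := by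
    intro a
    constructor
    · rintro ⟨i, hi⟩
      exact ⟨i, Subtype.ext (by rw [← hi]; simp [hrdef])⟩
    · rintro ⟨i, hi⟩
      exact ⟨i, by rw [← hi]; simp [hrdef]⟩
  have hmul : ∀ a ∈ U, ∀ b ∈ U, a ∉ U ⊓ C → b ∉ U ⊓ C → a * b ∈ U ⊓ C := by
    intro a ha b hb han hbn
    refine Subgroup.mem_inf.2 ⟨mul_mem ha hb, (hCmem ⟨a * b, hUT (mul_mem ha hb)⟩).2 ?_⟩
    refine (Subgroup.mul_mem_iff_of_index_two hidx (a := ⟨a, hUT ha⟩) (b := ⟨b, hUT hb⟩)).2 ⟨fun h => ?_, fun h => ?_⟩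
    · exact absurd (Subgroup.mem_inf.2 ⟨ha, (hCmem _).2 h⟩) han
    · exact absurd (Subgroup.mem_inf.2 ⟨hb, (hCmem _).2 h⟩) hbn
  have houter : ∀ y ∈ U, y ∉ U ⊓ C → (∃ e : ℤ, 4 ∣ e + 1 ∧ y * r * y⁻¹ = r ^ e) ∧ y ^ 4 = 1 := by
    intro y hy hyn
    obtain ⟨⟨e, he, h1⟩, h2⟩ := houter₀ ⟨y, hUT hy⟩ fun h => hyn (Subgroup.mem_inf.2 ⟨hy, (hCmem _).2 h⟩)
    exact ⟨⟨e, he, by have := congrArg Subtype.val h1; simpa [hrdef] using this⟩, congrArg Subtype.val h2⟩
  have hU' : IsPGroup 2 ↥(U ⊓ C) := hU2.to_le inf_le_left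
  have hUcyc : IsCyclic ↥(U ⊓ C) :=
    isCyclic_of_surjective (Subgroup.subgroupOfEquivOfLe (inf_le_right : U ⊓ C ≤ C)).toMonoidHom
      (MulEquiv.surjective _)
  obtain ⟨u₀, hu₀⟩ := hUcyc.exists_generator
  set c : G := (u₀ : G) with hcdef
  have hUC : U ⊓ C = Subgroup.zpowers c := by
    refine le_antisymm (fun a ha => ?_) (Subgroup.zpowers_le.2 u₀.2)
    obtain ⟨i, hi⟩ := hu₀ ⟨a, ha⟩
    exact ⟨i, congrArg Subtype.val hi⟩
  obtain ⟨a, hca⟩ : ∃ a, orderOf c = 2 ^ a := by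
    obtain ⟨a, ha⟩ := IsPGroup.iff_card.1 hU'
    exact ⟨a, by rw [← Nat.card_zpowers, ← hUC, ha]⟩
  have hKcomm : g * c * g⁻¹ ∈ U ⊓ C → ∀ b ∈ U ⊓ C, Commute g b := by
    intro h b hb
    rw [hUC] at h hb
    obtain ⟨i, rfl⟩ := hb
    exact (Aux.commute_of_cyclic hgodd a c hca h).zpow_right i
  have hmoved : g * c * g⁻¹ ∉ U ⊓ C := fun h => hncomm
    (Aux.commute_of_index_two hgodd hU' hgU (hKcomm h) hmul)
  have hcU : c ∈ U := (Subgroup.mem_inf.1 u₀.2).1
  have hcC : c ∈ U ⊓ C := u₀.2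
  -- the cyclic part has order four
  have hord4 : orderOf c = 4 := by
    have hle : a ≤ 2 := by
      by_contra ha
      obtain ⟨-, h4⟩ := houter _ (hgU c hcU) hmoved
      have h5 : orderOf (g * c * g⁻¹) ∣ 4 := orderOf_dvd_of_pow_eq_one h4
      rw [show g * c * g⁻¹ = MulAut.conj g c from rfl, MulEquiv.orderOf_eq, hca,
        show 4 = 2 ^ 2 from rfl, Nat.pow_dvd_pow_iff_le_right one_lt_two] at h5
      omega
    have h0 : a ≠ 0 := by
      intro h
      rw [h, pow_zero, orderOf_eq_one_iff] at hca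
      apply hmoved
      rw [hca]; simp
    have h1 : a ≠ 1 := by
      intro h
      set Z := (T : Subgroup G) ⊓ Subgroup.centralizer ((T : Subgroup G) : Set G) with hZd
      haveI : Z.Normal := hZ
      have hZp : IsPGroup 2 ↥Z := T.isPGroup'.to_le inf_le_left
      haveI := hZp.isNilpotent
      have hZU : Z ≤ U := Components.le_fittingSubgroup hZ inferInstance
      have hTne : (T : Subgroup G) ≠ ⊥ := by
        intro h'
        have h6 : r₀ = 1 := Subtype.ext ((Subgroup.mem_bot).1 (h' ▸ r₀.2))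
        rw [h6, orderOf_one] at hr₀
        exact absurd hr₀.symm (by
          have : 4 ≤ 2 ^ m := (show 4 = 2 ^ 2 from rfl) ▸ Nat.pow_le_pow_right (by norm_num) hm
          omega)
      obtain ⟨z, hzT, hz1, hzc⟩ := exists_ne_one_mem_centralizer T.isPGroup' T.isPGroup' Subgroup.le_normalizer hTne
      have hzU : z ∈ U := hZU (Subgroup.mem_inf.2 ⟨hzT, hzc⟩)
      have hr2 : ¬ r ∈ U := by
        intro hr
        have h7 : orderOf r ∣ 2 := by
          have h8 : r ∈ U ⊓ C := Subgroup.mem_inf.2 ⟨hr, Subgroup.mem_zpowers r⟩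
          rw [hUC, ← SetLike.mem_coe] at h8
          obtain ⟨i, hi⟩ := h8
          rw [← pow_one 2, ← h, ← hca]
          refine orderOf_dvd_of_pow_eq_one ?_
          rw [← hi, ← zpow_natCast, ← zpow_mul, mul_comm, zpow_mul, zpow_natCast, pow_orderOf_eq_one, one_zpow]
        rw [hrdef, Subgroup.orderOf_coe, hr₀] at h7
        have := Nat.le_of_dvd (by norm_num) h7
        have : 4 ≤ 2 ^ m := (show 4 = 2 ^ 2 from rfl) ▸ Nat.pow_le_pow_right (by norm_num) hm
        omega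
      -- `Z` is proper in `U`, and `g` acts trivially on both layers
      have hZne : ¬ U ≤ Z := fun hle => hr2 (hCU (Subgroup.mem_centralizer_iff.2 fun y hy =>
        (Subgroup.mem_centralizer_iff.1 (Subgroup.mem_inf.1 (hle hy)).2 r r₀.2).symm))
      have hcard : Nat.card U ≤ 4 := by
        have hK : Nat.card ↥(U ⊓ C) = 2 := by rw [hUC, Nat.card_zpowers, hca, h, pow_one]
        have hidx2 : (U ⊓ C).relIndex U ≤ 2 := by
          by_cases hall : U ≤ U ⊓ C
          · rw [Subgroup.relIndex_eq_one.2 hall]; norm_num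
          · obtain ⟨b, hb, hbn⟩ := SetLike.not_le_iff_exists.1 hall
            refine le_of_eq (Subgroup.index_eq_two_iff.2 ⟨⟨b, hb⟩, fun x => ?_⟩)
            simp only [Subgroup.mem_subgroupOf, Subgroup.coe_mul]
            by_cases hx : (x : G) ∈ U ⊓ C
            · refine Or.inr ⟨hx, fun h' => hbn ?_⟩
              simpa using mul_mem (inv_mem hx) h'
            · exact Or.inl ⟨hmul _ x.2 _ hb hx hbn, hx⟩
        rw [← card_mul_relIndex' (inf_le_left : U ⊓ C ≤ U), hK]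
        omega
      obtain ⟨b, hb, hbZ⟩ := SetLike.not_le_iff_exists.1 hZne
      have hidxZ : Nat.card Z = 2 ∧ ∀ x ∈ U, ∀ y ∈ U, x ∉ Z → y ∉ Z → x * y ∈ Z := by
        have h1' : 1 < Nat.card Z := by
          rw [Subgroup.one_lt_card_iff_ne_bot]
          exact fun e => hz1 (Subgroup.mem_bot.1 (e ▸ Subgroup.mem_inf.2 ⟨hzT, hzc⟩))
        have h2' := card_mul_relIndex' hZU
        have h3' : 1 < Z.relIndex U := by
          have : Z.relIndex U ≠ 0 := Subgroup.index_ne_zero_of_finite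
          have : Z.relIndex U ≠ 1 := fun e => hbZ (Subgroup.relIndex_eq_one.1 e hb)
          omega
        have hz2 : Nat.card Z = 2 ∧ Z.relIndex U = 2 := by constructor <;> nlinarith
        refine ⟨hz2.1, fun x hx y hy hxn hyn => ?_⟩
        exact (Subgroup.mul_mem_iff_of_index_two (H := Z.subgroupOf U) hz2.2 (a := ⟨x, hx⟩) (b := ⟨y, hy⟩)).2
          ⟨fun h' => absurd h' hxn, fun h' => absurd h' hyn⟩
      refine hncomm (Aux.commute_of_index_two hgodd hZp hgU (fun x hx => ?_) hidxZ.2)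
      obtain ⟨t, -, ht⟩ := Nat.card_eq_two_iff' (1 : ↥Z) |>.1 hidxZ.1
      by_cases hx1 : x = 1
      · rw [hx1]; exact Commute.one_right g
      · have e1 := ht ⟨g * x * g⁻¹, hZ.conj_mem x hx g⟩ (fun e => hx1 (by
          have := congrArg Subtype.val e
          simpa [mul_inv_eq_one] using this))
        have e2 := ht ⟨x, hx⟩ (fun e => hx1 (congrArg Subtype.val e))
        have e3 : g * x * g⁻¹ = x := congrArg Subtype.val (e1.trans e2.symm)
        exact mul_inv_eq_iff_eq_mul.1 e3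
    rw [hca, show a = 2 by omega]
    rfl
  have hc4 : c ^ 4 = 1 := by rw [← hord4, pow_orderOf_eq_one]
  have hc2 : c ^ 2 ≠ 1 := fun h => by
    have := orderOf_dvd_of_pow_eq_one h
    rw [hord4] at this
    norm_num at this
  have hinv : ∀ y ∈ U, y ∉ U ⊓ C → y * c * y⁻¹ = c⁻¹ := by
    intro y hy hyn
    obtain ⟨⟨e, he, h1⟩, -⟩ := houter y hy hyn
    obtain ⟨j, hj⟩ := (Subgroup.mem_inf.1 hcC).2
    have hj : r ^ j = c := hj
    obtain ⟨q, hq⟩ := he
    have h2 : y * c * y⁻¹ = c ^ e := by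
      rw [← hj, ← conj_zpow, h1, ← zpow_mul, ← zpow_mul, mul_comm]
    rw [h2, show e = 4 * q + (-1) by omega, zpow_add, zpow_mul, show (4 : ℤ) = ((4 : ℕ) : ℤ) from rfl, zpow_natCast, hc4, one_zpow, one_mul, zpow_neg, zpow_one]
  have hzpC : ∀ y ∈ U ⊓ C, y = 1 ∨ y = c ∨ y = c ^ 2 ∨ y = c ^ 3 := by
    intro y hy
    rw [hUC, mem_zpowers_iff_mem_range_orderOf, hord4, Finset.mem_image] at hy
    obtain ⟨i, hi, rfl⟩ := hy
    rw [Finset.mem_range] at hi
    interval_cases i <;> simp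
  have hsq : ∀ y ∈ U, y ∉ U ⊓ C → y * y = c ^ 2 := by
    intro y hy hyn
    have hyy : ∀ y ∈ U, y ∉ U ⊓ C → y * y = 1 ∨ y * y = c ^ 2 := by
      intro y hy hyn
      rcases hzpC _ (hmul y hy y hy hyn hyn) with h | h | h | h
      · exact Or.inl h
      · exfalso
        have h1 := hinv y hy hyn
        have h2 : y * c * y⁻¹ = c := by rw [← h]; group
        rw [h2] at h1
        exact hc2 (by rw [pow_two]; nth_rewrite 2 [h1]; exact mul_inv_cancel c)
      · exact Or.inr h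
      · exfalso
        have h1 := hinv y hy hyn
        have h2 : y * c ^ 3 * y⁻¹ = c ^ 3 := by rw [← h]; group
        rw [← conj_pow, h1, inv_pow] at h2
        have h3 : c ^ 3 * c ^ 3 = 1 := by nth_rewrite 1 [← h2]; exact inv_mul_cancel _
        rw [← pow_add, show 3 + 3 = 4 + 2 from rfl, pow_add, hc4, one_mul] at h3
        exact hc2 h3
    rcases hyy y hy hyn with h | h
    · exfalso
      -- then every element outside the cyclic part is an involution
      have hall : ∀ w ∈ U, w ∉ U ⊓ C → w * w = 1 := by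
        intro w hw hwn
        have hk := hmul w hw y hy hwn hyn
        have hw' : w = w * y * y := by rw [mul_assoc, h, mul_one]
        have hkc : y * (w * y) * y⁻¹ = (w * y)⁻¹ := by
          rw [hUC] at hk
          obtain ⟨i, hi⟩ := hk
          have hi : c ^ i = w * y := hi
          rw [← hi, ← conj_zpow, hinv y hy hyn, inv_zpow]
        rw [hw']
        calc w * y * y * (w * y * y) = w * y * (y * (w * y) * y⁻¹) * (y * y) := by group
          _ = 1 := by rw [hkc, h, mul_one, mul_inv_cancel]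
      have h4 := hall _ (hgU c hcU) hmoved
      apply hc2
      have : g * (c ^ 2) * g⁻¹ = 1 := by rw [← conj_pow, pow_two]; exact h4
      rwa [mul_inv_eq_one, mul_eq_left] at this
    · exact h
  set x := g * c * g⁻¹ with hxd
  have hxU : x ∈ U := hgU c hcU
  have hxc : x * c * x⁻¹ = c⁻¹ := hinv x hxU hmoved
  have hxx : x * x = c ^ 2 := hsq x hxU hmoved
  set y := g * x * g⁻¹ with hyd
  have hyU : y ∈ U := hgU x hxU
  have hyn : y ∉ U ⊓ C := by
    intro h
    apply hmoved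
    refine Aux.commute_sq_imp hgodd (fun b hb => ?_) hcC
    rw [hUC] at hb
    obtain ⟨i, rfl⟩ := hb
    have h1 : g ^ 2 * c * (g ^ 2)⁻¹ = y := by rw [hyd, hxd, pow_two]; group
    show g ^ 2 * c ^ i * (g ^ 2)⁻¹ ∈ U ⊓ C
    rw [← conj_zpow, h1]
    exact zpow_mem h i
  -- `y` is `x` times an element of the cyclic part
  have hyx : y = c * x ∨ y = c ^ 3 * x := by
    rcases hzpC _ (hmul y hyU x⁻¹ (inv_mem hxU) hyn (fun h => hmoved (by simpa using inv_mem h))) with h | h | h | h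
    · exfalso
      rw [mul_inv_eq_one] at h
      have h2 : x = c := mul_left_cancel (mul_right_cancel (h : g * x * g⁻¹ = g * c * g⁻¹))
      exact hmoved (h2 ▸ hcC)
    · left; rw [← h]; group
    · exfalso
      have h1 : y = x⁻¹ := by
        rw [mul_inv_eq_iff_eq_mul] at h
        rw [h, ← hxx]
        have : x * x * (x * x) = 1 := by rw [hxx, ← pow_add]; exact hc4
        calc x * x * x = x * x * (x * x) * x⁻¹ := by group
          _ = x⁻¹ := by rw [this, one_mul]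
      have h2 : x = c⁻¹ := by
        have h3 : g * x * g⁻¹ = g * c⁻¹ * g⁻¹ := by rw [← hyd, h1, hxd]; group
        exact mul_left_cancel (mul_right_cancel h3)
      exact hmoved (h2 ▸ inv_mem hcC)
    · right; rw [← h]; group
  have hgy : g * y * g⁻¹ = c := by
    rcases hyx with h | h
    · calc g * y * g⁻¹ = (g * c * g⁻¹) * (g * x * g⁻¹) := by rw [h]; group
        _ = x * (c * x) := by rw [← hxd, ← hyd, h]
        _ = x * c * x⁻¹ * (x * x) := by group
        _ = c := by rw [hxc, hxx]; group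
    · have e1 : g * c ^ 3 * g⁻¹ = x ^ 3 := by rw [← conj_pow]
      have e2 : c ^ 3 = c⁻¹ := (inv_eq_of_mul_eq_one_right (by rw [← pow_succ', hc4])).symm
      calc g * y * g⁻¹ = (g * c ^ 3 * g⁻¹) * (g * x * g⁻¹) := by rw [h]; group
        _ = x ^ 3 * (c⁻¹ * x) := by rw [e1, ← hyd, h, e2]
        _ = (x * x) * (x * c * x⁻¹)⁻¹ * (x * x) := by rw [pow_succ, pow_two]; group
        _ = c ^ 2 * c * c ^ 2 := by rw [hxc, hxx, inv_inv]
        _ = c ^ 4 * c := by group
        _ = c := by rw [hc4, one_mul]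
  have hgenA : ∀ w ∈ U, w ∉ U ⊓ C → ∀ b ∈ U, b ∈ U ⊓ C ∨ b * w⁻¹ ∈ U ⊓ C := fun w hw hwn b hb =>
    (em (b ∈ U ⊓ C)).imp_right fun h =>
      hmul b hb w⁻¹ (inv_mem hw) h (fun h' => hwn (by simpa using inv_mem h'))
  have hcommA : ∀ w ∈ U, w ∉ U ⊓ C → ∀ d : G, Commute d c → Commute d w → d ∈ U := by
    intro w hw hwn d h1 h2
    refine hcent d fun b hb => ?_
    have hC' : ∀ v ∈ U ⊓ C, Commute d v := fun v hv => by
      rw [hUC] at hv; obtain ⟨i, rfl⟩ := hv; exact h1.zpow_right i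
    rcases hgenA w hw hwn b hb with h | h
    · exact hC' b h
    · have := (hC' _ h).mul_right h2
      rwa [inv_mul_cancel_right] at this
  have hg3' : g ^ 3 = 1 := by
    refine hoddU _ (hcommA x hxU hmoved _ ?_ ?_) (Nat.Coprime.coprime_dvd_left (orderOf_pow_dvd 3) hgodd)
    · refine mul_inv_eq_iff_eq_mul.1 ?_
      rw [show g ^ 3 * c * (g ^ 3)⁻¹ = g * (g * (g * c * g⁻¹) * g⁻¹) * g⁻¹ by simp only [pow_succ, pow_zero, one_mul]; group, ← hxd, ← hyd, hgy]
    · refine mul_inv_eq_iff_eq_mul.1 ?_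
      rw [show g ^ 3 * x * (g ^ 3)⁻¹ = g * (g * (g * x * g⁻¹) * g⁻¹) * g⁻¹ by simp only [pow_succ, pow_zero, one_mul]; group, ← hyd, hgy, ← hxd]
  obtain ⟨g, x, hg3, hg1, hxd, hgx, hxU, hmoved, hxc, hxx⟩ : ∃ g x : G, g ^ 3 = 1 ∧ g ≠ 1 ∧ x = g * c * g⁻¹ ∧
      g * x * g⁻¹ = c * x ∧ x ∈ U ∧ x ∉ U ⊓ C ∧ x * c * x⁻¹ = c⁻¹ ∧ x * x = c ^ 2 := by
    rcases hyx with h | h
    · exact ⟨g, x, hg3', hg1, hxd, hyd.symm.trans h, hxU, hmoved, hxc, hxx⟩
    · have e3 : g * g = g⁻¹ := eq_inv_of_mul_eq_one_left (by rw [← pow_two, ← pow_succ, hg3'])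
      have hyc : y = g⁻¹ * c * g⁻¹⁻¹ := by rw [inv_inv, hyd, hxd, ← e3]; nth_rewrite 3 [← inv_inv g]; rw [← e3]; group
      refine ⟨g⁻¹, y, by rw [inv_pow, hg3', inv_one], inv_ne_one.2 hg1, hyc, ?_, hyU, hyn, hinv y hyU hyn,
        hsq y hyU hyn⟩
      rw [hyd, show g⁻¹ * (g * x * g⁻¹) * g⁻¹⁻¹ = x by group, ← hyd, h, ← mul_assoc, ← pow_succ', hc4, one_mul]
  have hgen := hgenA x hxU hmoved
  have hcomm_of := hcommA x hxU hmoved
  have hinjw : Function.Injective (Aux.wordF c x g) := by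
    rintro ⟨i, j, k⟩ ⟨i', j', k'⟩ h
    simp only [Aux.wordF] at h
    have hk : k = k' := by
      have h1 : (c ^ (i' : ℕ) * x ^ (j' : ℕ))⁻¹ * (c ^ (i : ℕ) * x ^ (j : ℕ)) = g ^ (k' : ℕ) * (g ^ (k : ℕ))⁻¹ := by
        rw [eq_mul_inv_iff_mul_eq, mul_assoc, h]; group
      have h2 : g ^ (k' : ℕ) * (g ^ (k : ℕ))⁻¹ ∈ U := h1 ▸ mul_mem (inv_mem (mul_mem (pow_mem hcU _) (pow_mem hxU _)))
        (mul_mem (pow_mem hcU _) (pow_mem hxU _))
      have hcop : Nat.Coprime (orderOf (g ^ (k' : ℕ) * (g ^ (k : ℕ))⁻¹)) 2 := by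
        refine Nat.Coprime.coprime_dvd_left (orderOf_dvd_of_pow_eq_one (n := 3) ?_) (by norm_num)
        rw [(((Commute.refl g).pow_pow _ _).inv_right).mul_pow, inv_pow, ← pow_mul, ← pow_mul, mul_comm, pow_mul, hg3,
          mul_comm (k : ℕ), pow_mul, hg3]
        simp
      have h3 := hoddU _ h2 hcop
      rw [mul_inv_eq_one] at h3
      have ho : orderOf g = 3 := orderOf_eq_prime hg3 hg1
      have h4 := pow_inj_mod.1 h3
      rw [ho, Nat.mod_eq_of_lt k.2, Nat.mod_eq_of_lt k'.2] at h4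
      exact Fin.ext h4.symm
    subst hk
    have h' := mul_right_cancel h
    have hj : j = j' := by
      match j, j' with
      | 0, 0 => rfl
      | 1, 1 => rfl
      | 0, 1 =>
        exfalso; apply hmoved
        simp only [Fin.val_zero, pow_zero, mul_one, Fin.val_one, pow_one] at h'
        rw [show x = (c ^ (i' : ℕ))⁻¹ * c ^ (i : ℕ) by rw [h']; group]
        exact mul_mem (inv_mem (pow_mem hcC _)) (pow_mem hcC _)
      | 1, 0 =>
        exfalso; apply hmoved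
        simp only [Fin.val_zero, pow_zero, mul_one, Fin.val_one, pow_one] at h'
        rw [show x = (c ^ (i : ℕ))⁻¹ * c ^ (i' : ℕ) by rw [← h']; group]
        exact mul_mem (inv_mem (pow_mem hcC _)) (pow_mem hcC _)
    subst hj
    have hi := pow_inj_mod.1 (mul_right_cancel h')
    rw [hord4, Nat.mod_eq_of_lt i.2, Nat.mod_eq_of_lt i'.2] at hi
    rw [Fin.ext hi]
  obtain ⟨φ, hφ, hφc, hφx, hφg, hφf⟩ := Aux.exists_iso hc4 hxx hxc hxd.symm hgx hg3 hinjw
  have hUW : U ≤ φ.range := by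
    intro b hb
    have hC' : ∀ w ∈ U ⊓ C, w ∈ φ.range := fun w hw => by
      rw [hUC] at hw; obtain ⟨i, rfl⟩ := hw; exact zpow_mem (show c ∈ φ.range from ⟨_, hφc⟩) i
    rcases hgen b hb with h | h
    · exact hC' b h
    · simpa using mul_mem (hC' _ h) (⟨_, hφx⟩ : x ∈ φ.range)
  have hwordU : ∀ b ∈ U, ∃ (i : Fin 4) (j : Fin 2), b = Aux.wordF c x g (i, j, 0) := by
    intro b hb
    rcases hgen b hb with h | h <;> rcases hzpC _ h with h' | h' | h' | h'
    · exact ⟨0, 0, by simp [Aux.wordF, h']⟩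
    · exact ⟨1, 0, by simp [Aux.wordF, h']⟩
    · exact ⟨2, 0, by simp [Aux.wordF, h']⟩
    · exact ⟨3, 0, by simp [Aux.wordF, h']⟩
    · exact ⟨0, 1, by simp [Aux.wordF, mul_inv_eq_one.1 h']⟩
    · exact ⟨1, 1, by simp [Aux.wordF, ← h']⟩
    · exact ⟨2, 1, by simp [Aux.wordF, ← h']⟩
    · exact ⟨3, 1, by simp [Aux.wordF, ← h']⟩
  have hsquares : ∀ e : G, e ^ 2 ∈ φ.range := by
    intro e
    obtain ⟨i, j, hij⟩ := hwordU _ (hconjU e c hcU)
    obtain ⟨i', j', hij'⟩ := hwordU _ (hconjU e x hxU)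
    obtain ⟨q, hq1, hq2⟩ := Aux.sl_squares i i' j j' (by
      intro hcm
      have h1 := congrArg φ hcm
      rw [map_mul, map_mul, hφf, hφf, ← hij, ← hij'] at h1
      have h2 : c * x = x * c := by
        have : e * (c * x) * e⁻¹ = e * (x * c) * e⁻¹ := by
          calc e * (c * x) * e⁻¹ = e * c * e⁻¹ * (e * x * e⁻¹) := by group
            _ = e * x * e⁻¹ * (e * c * e⁻¹) := h1
            _ = _ := by group
        exact mul_left_cancel (mul_right_cancel this)
      rw [← h2, mul_inv_cancel_right] at hxc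
      exact hc2 (by rw [pow_two]; nth_rewrite 2 [hxc]; exact mul_inv_cancel c))
    have hq1' := congrArg φ hq1
    have hq2' := congrArg φ hq2
    simp only [map_mul, map_pow, hφc, hφx, hφf, ← hij, ← hij'] at hq1' hq2'
    have e1 : e ^ 2 * c * (e ^ 2)⁻¹ = (e * c * e⁻¹) ^ (i : ℕ) * (e * x * e⁻¹) ^ (j : ℕ) := by
      rw [conj_pow, conj_pow, show e ^ 2 * c * (e ^ 2)⁻¹ = e * (e * c * e⁻¹) * e⁻¹ by rw [pow_two]; group, hij]
      simp only [Aux.wordF, Fin.val_zero, pow_zero, mul_one]; group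
    have e2 : e ^ 2 * x * (e ^ 2)⁻¹ = (e * c * e⁻¹) ^ (i' : ℕ) * (e * x * e⁻¹) ^ (j' : ℕ) := by
      rw [conj_pow, conj_pow, show e ^ 2 * x * (e ^ 2)⁻¹ = e * (e * x * e⁻¹) * e⁻¹ by rw [pow_two]; group, hij']
      simp only [Aux.wordF, Fin.val_zero, pow_zero, mul_one]; group
    rw [← e1] at hq1'
    rw [← e2] at hq2'
    set qg := Aux.wordF c x g q with hqg
    have hqr : qg ∈ φ.range := ⟨_, hφf q⟩
    have hd : (e ^ 2)⁻¹ * qg ∈ U := by
      refine hcomm_of _ ?_ ?_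
      · show (e ^ 2)⁻¹ * qg * c = c * ((e ^ 2)⁻¹ * qg)
        rw [mul_assoc, hq1']; group
      · show (e ^ 2)⁻¹ * qg * x = x * ((e ^ 2)⁻¹ * qg)
        rw [mul_assoc, hq2']; group
    have := mul_mem hqr (inv_mem (hUW hd))
    simpa [mul_assoc] using this
  refine ⟨φ.range, ⟨?_⟩, ⟨(MonoidHom.ofInjective hφ).symm⟩⟩
  rintro _ ⟨q, rfl⟩ e
  obtain ⟨b, rfl⟩ := Aux.sl_word_bijective.2 q
  rw [hφf]
  have hgW : e * g * e⁻¹ ∈ φ.range := by
    have h1 := hsquares ((e * g * e⁻¹) ^ 2)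
    rwa [← pow_mul, conj_pow, show 2 * 2 = 3 + 1 from rfl, pow_succ, hg3, one_mul] at h1
  rw [show e * Aux.wordF c x g b * e⁻¹ = (e * c * e⁻¹) ^ (b.1 : ℕ) * (e * x * e⁻¹) ^ (b.2.1 : ℕ) * (e * g * e⁻¹) ^ (b.2.2 : ℕ) by
    rw [conj_pow, conj_pow, conj_pow]; simp only [Aux.wordF]; group]
  exact mul_mem (mul_mem (pow_mem (hUW (hconjU e c hcU)) _) (pow_mem (hUW (hconjU e x hxU)) _)) (pow_mem hgW _)

end Cfsg.Agent.S2879
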