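import Cfsg.Statements.S2881
import Cfsg.Agent.Lib.LocalEven.ExtraCount

set_option autoImplicit false
open Cfsg Cfsg.Agent Cfsg.Agent.Lib.LocalEven

namespace Cfsg.Agent.S2881

/-- Let E be an extraspecial 2-group of order 2^(2m+1) of plus type (containing an elementary abelian subgroup of order 2^(m+1)), and let ω be an automorphism of E of order 5 whose fixed points are exactly the centre of E. Then m is divisible by 4. -/
theorem result {E : Type*} [Group E] [Finite E] (m : ℕ) (hm : 1 ≤ m) (hE : Cfsg.IsExtraspecial 2 E) (hcard : Nat.card E = 2 ^ (2 * m + 1)) (hplus : ∃ A : Subgroup E, Cfsg.IsElementaryAbelian 2 A ∧ Nat.card A = 2 ^ (m + 1)) (ω : E ≃* E) (hω : orderOf ω = 5) (hfix : ∀ x : E, ω x = x ↔ x ∈ Subgroup.center E) : 4 ∣ m := by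
  have hc := extra_card_order_four m hE hcard hplus
  haveI : Fact (Nat.Prime 5) := ⟨by decide⟩
  let act : MulAction ↥(Subgroup.zpowers ω) {x : E // orderOf x = 4} :=
    { smul := fun w x => ⟨(w : E ≃* E) x.1, by rw [MulEquiv.orderOf_eq]; exact x.2⟩
      one_smul := fun x => Subtype.ext rfl
      mul_smul := fun w v x => Subtype.ext rfl }
  have hp : IsPGroup 5 ↥(Subgroup.zpowers ω) :=
    IsPGroup.of_card (n := 1) (by rw [Nat.card_zpowers, hω, pow_one])
  have hmod := hp.card_modEq_card_fixedPoints {x : E // orderOf x = 4}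
  haveI : IsEmpty (MulAction.fixedPoints ↥(Subgroup.zpowers ω) {x : E // orderOf x = 4}) := by
    refine ⟨fun x => ?_⟩
    have h1 := congrArg Subtype.val (x.2 ⟨ω, Subgroup.mem_zpowers ω⟩)
    have h2 := (hfix x.1.1).1 h1
    have h3 : (⟨x.1.1, h2⟩ : Subgroup.center E) ^ 2 = 1 := by
      rw [← hE.2]; exact pow_card_eq_one'
    have h4 := orderOf_dvd_of_pow_eq_one (congrArg Subtype.val h3 : x.1.1 ^ 2 = 1)
    rw [x.1.2] at h4
    norm_num at h4
  rw [Nat.card_of_isEmpty (α := MulAction.fixedPoints ↥(Subgroup.zpowers ω) {x : E // orderOf x = 4}), hc] at hmod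
  have h5 : 5 ∣ 2 ^ m * (2 ^ m - 1) := by
    rw [Nat.mul_sub, mul_one, ← pow_add, ← two_mul]
    exact (Nat.modEq_zero_iff_dvd).1 hmod
  have h6 : 5 ∣ 2 ^ m - 1 := (Nat.Coprime.pow_right m (by norm_num)).dvd_of_dvd_mul_left h5
  have hr : m % 4 = 0 ∨ m % 4 = 1 ∨ m % 4 = 2 ∨ m % 4 = 3 := by omega
  have he : 2 ^ m % 5 = 2 ^ (m % 4) % 5 := by
    conv_lhs => rw [← Nat.div_add_mod m 4, pow_add, pow_mul, Nat.mul_mod, Nat.pow_mod]
    norm_num
  have hpos := Nat.two_pow_pos m
  rcases hr with h | h | h | h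
  · exact Nat.dvd_of_mod_eq_zero h
  all_goals (exfalso; rw [h] at he; norm_num at he; omega)

end Cfsg.Agent.S2881
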