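import Cfsg.Statements.S2896
import Cfsg.Agent.Lib.LocalEven.CharP

set_option autoImplicit false
open Cfsg Cfsg.Agent Cfsg.Agent.Lib Cfsg.Agent.Lib.LocalEven

namespace Cfsg.Agent.S2896

/-- Let p be a prime dividing the order of the finite group G, S a Sylow p-subgroup of G and X a subgroup of S. (i) If some nontrivial element z of the centre of X has F*(C_G(z)) = O_p(C_G(z)), then F*(N_G(X)) = O_p(N_G(X)). (ii) G has parabolic characteristic p if and only if F*(C_G(z)) = O_p(C_G(z)) for every nontrivial z ∈ Ω₁(Z(S)). (iii) If F*(C_G(z)) = O_p(C_G(z)) for every element z of S of order p, then G has local characteristic p. -/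
theorem result {G : Type*} [Group G] [Finite G] {p : ℕ} [Fact p.Prime] (hdiv : p ∣ Nat.card G) (S : Sylow p G) (X : Subgroup G) (hX : X ≤ (S : Subgroup G)) : (∀ z : G, z ≠ 1 → z ∈ X → (∀ x ∈ X, x * z = z * x) → Cfsg.generalizedFittingSubgroup ↥(Subgroup.centralizer ({z} : Set G)) = Cfsg.pCore p ↥(Subgroup.centralizer ({z} : Set G)) → Cfsg.generalizedFittingSubgroup ↥(Subgroup.normalizer (X : Set G)) = Cfsg.pCore p ↥(Subgroup.normalizer (X : Set G))) ∧ (Cfsg.IsOfParabolicCharacteristic p G ↔ ∀ z : G, z ≠ 1 → z ∈ Cfsg.omegaOne p ((S : Subgroup G) ⊓ Subgroup.centralizer ((S : Subgroup G) : Set G)) → Cfsg.generalizedFittingSubgroup ↥(Subgroup.centralizer ({z} : Set G)) = Cfsg.pCore p ↥(Subgroup.centralizer ({z} : Set G))) ∧ ((∀ z : G, z ∈ (S : Subgroup G) → orderOf z = p → Cfsg.generalizedFittingSubgroup ↥(Subgroup.centralizer ({z} : Set G)) = Cfsg.pCore p ↥(Subgroup.centralizer ({z} : Set G))) → Cfsg.IsOfLocalCharacteristic p G) := by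
  refine ⟨fun z _ hzX hz h => (hasCharP_iff _).1
    (hasCharP_normalizer_of_central (S.isPGroup'.to_le hX) hzX hz ((hasCharP_iff _).2 h)), ?_, fun h => ⟨hdiv, fun T hT hT1 => ?_⟩⟩
  · rw [parabolicChar_iff S]
    exact forall₃_congr fun z _ _ => hasCharP_iff _
  · refine (hasCharP_iff_core _).1 ?_
    obtain ⟨z, hzT, hz1, hzp, hzc⟩ := exists_omZ_inf hT hT Subgroup.le_normalizer hT1
    refine hasCharP_normalizer_of_central hT hzT (fun x hx => Subgroup.mem_centralizer_iff.1 hzc x hx) ?_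
    obtain ⟨P, hP⟩ := hT.exists_le_sylow
    obtain ⟨g, hg⟩ := MulAction.exists_smul_eq G P S
    have hgP : conjS g (P : Subgroup G) = (S : Subgroup G) := by rw [← hg]; rfl
    have hzS : g * z * g⁻¹ ∈ (S : Subgroup G) := hgP ▸ conj_mem_conjS (hP hzT)
    have h2 := ((hasCharP_iff _).2 (h _ hzS (orderOf_eq_prime (by rw [conj_pow, hzp]; group)
      (fun h0 => hz1 (conj_eq_one_iff.1 h0))))).conjS g⁻¹
    rwa [centralizer_singleton_conj, conjS_inv_cancel] at h2

end Cfsg.Agent.S2896
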