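import Cfsg.Statements.S2897
import Cfsg.Agent.Lib.LocalEven.CharP

set_option autoImplicit false
open Cfsg Cfsg.Agent Cfsg.Agent.Lib Cfsg.Agent.Lib.LocalEven

namespace Cfsg.Agent.S2897

/-- Let p be a prime dividing the order of the finite group G, suppose G has parabolic characteristic p, let S be a Sylow p-subgroup of G and G₁ a normal subgroup of G. If Ω₁(Z(S ∩ G₁)) is nontrivial and contained in Ω₁(Z(S)), then G₁ has parabolic characteristic p. -/
theorem result {G : Type*} [Group G] [Finite G] {p : ℕ} [Fact p.Prime] (hdiv : p ∣ Nat.card G) (hG : Cfsg.IsOfParabolicCharacteristic p G) (S : Sylow p G) (G₁ : Subgroup G) [G₁.Normal] (hne : Cfsg.omegaOne p (((S : Subgroup G) ⊓ G₁) ⊓ Subgroup.centralizer (((S : Subgroup G) ⊓ G₁ : Subgroup G) : Set G)) ≠ ⊥) (hle : Cfsg.omegaOne p (((S : Subgroup G) ⊓ G₁) ⊓ Subgroup.centralizer (((S : Subgroup G) ⊓ G₁ : Subgroup G) : Set G)) ≤ Cfsg.omegaOne p ((S : Subgroup G) ⊓ Subgroup.centralizer ((S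 : Subgroup G) : Set G))) : Cfsg.IsOfParabolicCharacteristic p ↥G₁ := by
  have hsyl := (isSylowOf_top S).inf_subnormal (‹G₁.Normal›).isSubnormal
  obtain ⟨S₁, hS₁⟩ := hsyl.exists_sylow
  rw [parabolicChar_iff S₁]
  intro z hz1 hz
  have hzmem : (z : G) ∈ Cfsg.omegaOne p (((S : Subgroup G) ⊓ G₁) ⊓
      Subgroup.centralizer (((S : Subgroup G) ⊓ G₁ : Subgroup G) : Set G)) := by
    refine (Subgroup.closure_le _).2 ?_ (?_ : (z : G) ∈ Subgroup.closure
      ((fun x : ↥G₁ => (x : G)) '' {x | x ∈ (S₁ : Subgroup ↥G₁) ⊓ Subgroup.centralizer ((S₁ : Subgroup ↥G₁) : Set ↥G₁) ∧ x ^ p = 1}))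
    · rintro _ ⟨x, ⟨hx, hxp⟩, rfl⟩
      refine Subgroup.subset_closure ⟨?_, by rw [← SubgroupClass.coe_pow, hxp]; rfl⟩
      rw [← hS₁]
      refine Subgroup.mem_inf.2 ⟨Subgroup.mem_map_of_mem _ (Subgroup.mem_inf.1 hx).1, ?_⟩
      rw [Subgroup.mem_centralizer_iff]
      rintro _ ⟨y, hy, rfl⟩
      exact congrArg Subtype.val (Subgroup.mem_centralizer_iff.1 (Subgroup.mem_inf.1 hx).2 y hy)
    · have := Subgroup.mem_map_of_mem G₁.subtype hz
      rw [Cfsg.omegaOne, MonoidHom.map_closure] at this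
      exact this
  have hc := (parabolicChar_iff S).1 hG (z : G) (fun h => hz1 (Subtype.ext h)) (hle hzmem)
  have h1 : HasCharP p (G₁ ⊓ Subgroup.centralizer ({(z : G)} : Set G)) :=
    hch_of_normal hc inf_le_right
      (le_normalizer_inf (le_normalizer_of_normal _ _) Subgroup.le_normalizer)
  rw [hasCharP_iff] at h1 ⊢
  have hmap : (Subgroup.centralizer ({z} : Set ↥G₁)).map G₁.subtype =
      G₁ ⊓ Subgroup.centralizer ({(z : G)} : Set G) := by
    ext x
    rw [Subgroup.mem_inf, Subgroup.mem_centralizer_singleton_iff]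
    constructor
    · rintro ⟨y, hy, rfl⟩
      exact ⟨y.2, congrArg Subtype.val (Subgroup.mem_centralizer_singleton_iff.1 hy)⟩
    · rintro ⟨hx, hxz⟩
      exact ⟨⟨x, hx⟩, Subgroup.mem_centralizer_singleton_iff.2 (Subtype.ext hxz), rfl⟩
  exact genFitting_eq_pCore_congr
    ((Subgroup.equivMapOfInjective _ G₁.subtype G₁.subtype_injective).trans (MulEquiv.subgroupCongr hmap)).symm h1

end Cfsg.Agent.S2897
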