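import Cfsg.Statements.S2898
import Cfsg.Agent.Lib.LocalEven.Series
import Cfsg.Agent.Lib.LocalEven.PReduced
import Cfsg.Agent.Lib.LocalEven.Kieler
import Cfsg.Agent.Lib.Coprime.Generation
import Cfsg.Agent.Lib.Coprime.PxQ
import Cfsg.Agent.Lib.Cores.PCore
import Mathlib.GroupTheory.FixedPointFree

set_option autoImplicit false
open Cfsg Cfsg.Agent Cfsg.Agent.Lib.LocalEven
open scoped commutatorElement

namespace Cfsg.Agent.S2898

/-- Let G be a finite group of even order with parabolic characteristic 2. If the centre of G ⧸ O(G) is trivial, then O(G) = 1. -/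
theorem result {G : Type*} [Group G] [Finite G] (h2 : 2 ∣ Nat.card G) (hG : Cfsg.IsOfParabolicCharacteristic 2 G) [hN : (Cfsg.oddCore G).Normal] (hZ : Subgroup.center (G ⧸ Cfsg.oddCore G) = ⊥) : Cfsg.oddCore G = ⊥ := by
  by_contra hO
  have hOc : (Nat.card (Cfsg.oddCore G)).Coprime 2 := Lib.Cores.pPrimeCore_coprime 2 G
  obtain ⟨S⟩ := (inferInstance : Nonempty (Sylow 2 G))
  have hS := isSylowOf_top S
  have hSne : (S : Subgroup G) ≠ ⊥ := by
    intro h
    have := S.dvd_card_of_dvd_card h2
    rw [h, Subgroup.card_bot] at this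
    omega
  have key : ∀ w : G, orderOf w = 2 → w ∈ Subgroup.centralizer ((S : Subgroup G) : Set G) →
      Cfsg.oddCore G ⊓ Subgroup.centralizer (Subgroup.zpowers w : Set G) = ⊥ := by
    intro w hw hwS
    set N := Subgroup.normalizer (Subgroup.zpowers w : Set G) with hNdef
    have hSN : (S : Subgroup G) ≤ N :=
      (Subgroup.le_centralizer_iff.1 (Subgroup.zpowers_le.2 hwS)).trans
        (Subgroup.centralizer_le_normalizer _)
    have hne : Subgroup.zpowers w ≠ ⊥ := by
      rw [Ne, Subgroup.zpowers_eq_bot]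
      intro h; rw [h, orderOf_one] at hw; omega
    have hch := (charPCore_iff N).1 (hG _ (isPGroup_zpowers_of_orderOf_eq hw) hne ⟨S, hSN⟩)
    have hdis : (Cfsg.oddCore G ⊓ N) ⊓ Cfsg.pCoreOf 2 N = ⊥ := by
      refine (Subgroup.eq_bot_iff_forall _).2 fun x hx => ?_
      obtain ⟨k, hk⟩ := pCoreOf_isPGroup (p := 2) N ⟨x, hx.2⟩
      refine eq_one_of_coprime_of_pow ?_ (congrArg Subtype.val hk)
      exact hOc.coprime_dvd_left (Subgroup.orderOf_dvd_natCard _ hx.1.1)
    have hn : N ≤ Subgroup.normalizer ((Cfsg.oddCore G ⊓ N : Subgroup G) : Set G) :=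
      le_normalizer_inf (le_normalizer_of_normal _ _) Subgroup.le_normalizer
    have hc : Cfsg.oddCore G ⊓ N ≤ Subgroup.centralizer (Cfsg.pCoreOf 2 N : Set G) := by
      rw [le_centralizer_iff_commutator, ← le_bot_iff, ← hdis]
      exact le_inf (commutator_le_of_le_normalizer ((pCoreOf_le N).trans hn))
        (commutator_le_of_le_normalizer' (inf_le_right.trans (le_normalizer_pCoreOf N)))
    rw [← le_bot_iff, ← hdis]
    refine le_inf ?_ (le_trans (le_inf ?_ ((inf_le_inf_left _ ?_).trans hc)) hch)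
    · exact inf_le_inf_left _ (Subgroup.centralizer_le_normalizer _)
    · exact inf_le_right.trans (Subgroup.centralizer_le_normalizer _)
    · exact Subgroup.centralizer_le_normalizer _
  haveI hCn : (Subgroup.centralizer (Cfsg.oddCore G : Set G)).Normal :=
    normal_of_le_normalizer (le_normalizer_centralizer (le_normalizer_of_normal ⊤ _))
  have hR := hS.inf_normal le_top (le_normalizer_of_normal ⊤ (Subgroup.centralizer (Cfsg.oddCore G : Set G)))
  set R := (S : Subgroup G) ⊓ Subgroup.centralizer (Cfsg.oddCore G : Set G) with hRdef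
  by_cases hRb : R = ⊥
  · have hd : Subgroup.centralizer (Cfsg.oddCore G : Set G) ≤ Cfsg.oddCore G := by
      refine Lib.Cores.le_pPrimeCore hCn (Nat.Coprime.symm ((Nat.prime_two.coprime_iff_not_dvd).2 ?_))
      have := hR.not_dvd_relIndex
      rwa [hRb, Subgroup.relIndex_bot_left] at this
    obtain ⟨b, hb, hb1, hbS⟩ := exists_ne_one_mem_centralizer S.isPGroup' S.isPGroup'
      Subgroup.le_normalizer hSne
    obtain ⟨z, hz, hzo⟩ := exists_orderOf_eq_prime (p := 2)
      (A := (S : Subgroup G) ⊓ Subgroup.centralizer ((S : Subgroup G) : Set G))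
      (dvd_card_of_ne_bot S.isPGroup'.to_inf_left
        (fun h => hb1 ((Subgroup.eq_bot_iff_forall _).1 h b ⟨hb, hbS⟩)))
    let φ : ↥(Cfsg.oddCore G) →* ↥(Cfsg.oddCore G) :=
      { toFun := fun k => ⟨z * k * z⁻¹, hN.conj_mem _ k.2 z⟩
        map_one' := Subtype.ext (by simp)
        map_mul' := fun a b => Subtype.ext (by simp [mul_assoc]) }
    have hfp : MonoidHom.FixedPointFree φ := by
      intro k hk
      have h : (k : G) ∈ Cfsg.oddCore G ⊓ Subgroup.centralizer (Subgroup.zpowers z : Set G) := by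
        refine Subgroup.mem_inf.2 ⟨k.2, ?_⟩
        rw [Subgroup.zpowers_eq_closure, Subgroup.centralizer_closure,
          Subgroup.mem_centralizer_singleton_iff]
        have e : z * (k : G) * z⁻¹ = k := congrArg Subtype.val hk
        exact (mul_inv_eq_iff_eq_mul.1 e).symm
      rw [key z hzo hz.2, Subgroup.mem_bot] at h
      exact Subtype.ext h
    have hz2 : z * z = 1 := by rw [← pow_two, ← hzo, pow_orderOf_eq_one]
    have hzi : z⁻¹ = z := inv_eq_of_mul_eq_one_right hz2
    have hinv : Function.Involutive φ := fun k => Subtype.ext (by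
      show z * (z * (k : G) * z⁻¹) * z⁻¹ = k
      rw [hzi]
      calc z * (z * (k : G) * z) * z = (z * z) * k * (z * z) := by group
        _ = k := by rw [hz2]; group)
    have hconj : ∀ k ∈ Cfsg.oddCore G, z * k * z⁻¹ = k⁻¹ := fun k hk =>
      congrArg Subtype.val (congrFun (hfp.coe_eq_inv_of_involutive hinv) ⟨k, hk⟩)
    have hzc : QuotientGroup.mk' (Cfsg.oddCore G) z ∈ Subgroup.center (G ⧸ Cfsg.oddCore G) := by
      rw [Subgroup.mem_center_iff]
      intro w
      obtain ⟨g, rfl⟩ := QuotientGroup.mk'_surjective _ w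
      rw [eq_comm, ← map_mul, ← map_mul, QuotientGroup.mk'_apply, QuotientGroup.mk'_apply,
        QuotientGroup.eq]
      refine hd (Subgroup.mem_centralizer_iff.2 fun k hk => ?_)
      have h1 := hconj _ (hN.conj_mem k hk g)
      have h2 := hconj k hk
      rw [hzi] at h1 h2
      have h3 : z * g * k * g⁻¹ * z = g * k⁻¹ * g⁻¹ := by
        calc z * g * k * g⁻¹ * z = z * (g * k * g⁻¹) * z := by group
          _ = (g * k * g⁻¹)⁻¹ := h1
          _ = g * k⁻¹ * g⁻¹ := by group
      rw [mul_inv_rev, hzi]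
      calc k * (g⁻¹ * z * (g * z)) = g⁻¹ * (g * k * g⁻¹) * z * g * z := by group
        _ = g⁻¹ * (z * z) * (g * k * g⁻¹) * z * g * z := by rw [hz2, mul_one]
        _ = g⁻¹ * z * (z * g * k * g⁻¹ * z) * g * z := by group
        _ = g⁻¹ * z * (g * k⁻¹ * g⁻¹) * g * z := by rw [h3]
        _ = g⁻¹ * z * g * (z * z) * k⁻¹ * z := by rw [hz2]; group
        _ = g⁻¹ * z * g * z * (z * k⁻¹ * z) := by group
        _ = g⁻¹ * z * g * z * (k⁻¹)⁻¹ := by rw [← hzi, hzi, show z * k⁻¹ * z = (k⁻¹)⁻¹ by
              have := hconj _ (inv_mem hk); rwa [hzi] at this]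
        _ = g⁻¹ * z * (g * z) * k := by group
    rw [hZ, Subgroup.mem_bot, QuotientGroup.mk'_apply, QuotientGroup.eq_one_iff] at hzc
    have := hOc.coprime_dvd_left (Subgroup.orderOf_dvd_natCard _ hzc)
    rw [hzo] at this
    norm_num at this
  · obtain ⟨b, hb, hb1, hbS⟩ := exists_ne_one_mem_centralizer S.isPGroup' hR.isPGroup
      (le_normalizer_inf Subgroup.le_normalizer (le_normalizer_of_normal _ _)) hRb
    obtain ⟨w, hw, hwo⟩ := exists_orderOf_eq_prime (p := 2)
      (A := R ⊓ Subgroup.centralizer ((S : Subgroup G) : Set G))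
      (dvd_card_of_ne_bot hR.isPGroup.to_inf_left
        (fun h => hb1 ((Subgroup.eq_bot_iff_forall _).1 h b ⟨hb, hbS⟩)))
    refine hO ?_
    rw [← key w hwo hw.2, left_eq_inf]
    exact Subgroup.le_centralizer_iff.1 (Subgroup.zpowers_le.2 hw.1.2)

end Cfsg.Agent.S2898
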