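import Cfsg.Statements.S2905
import Cfsg.Agent.Lib.LocalEven.Irreducible

set_option autoImplicit false
open Cfsg Cfsg.Agent Cfsg.Agent.Lib.LocalEven
open scoped commutatorElement

namespace Cfsg.Agent.S2905

/-- Let P be a finite p-minimal group (a Sylow p-subgroup S is not normal and lies in a unique maximal subgroup M of P) and let F be the normal core of M. Then: every subnormal subgroup N of P contained in M satisfies N ∩ S ≤ O_p(P); if O^p(P) has a normal Sylow p-subgroup then the order of P has at most two prime divisors; every normal subgroup N of P either contains O^p(P) or is contained in F; and O^p(P)F ⧸ F is a minimal normal subgroup of P ⧸ F. -/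
theorem result {P : Type*} [Group P] [Finite P] {p : ℕ} [Fact p.Prime] (hP : Cfsg.IsPMinimal p P) (S : Sylow p P) (M : Subgroup P) (hM : IsCoatom M) (hSM : (S : Subgroup P) ≤ M) [hF : M.normalCore.Normal] : (∀ N : Subgroup P, N.IsSubnormal → N ≤ M → N ⊓ (S : Subgroup P) ≤ Cfsg.pCore p P) ∧ ((∀ T : Sylow p ↥(Cfsg.pResidual p P), (T : Subgroup ↥(Cfsg.pResidual p P)).Normal) → (Nat.card P).primeFactors.card ≤ 2) ∧ (∀ N : Subgroup P, N.Normal → Cfsg.pResidual p P ≤ N ∨ N ≤ M.normalCore) ∧ (∀ N : Subgroup P, N.Normal → M.normalCore ≤ N → N ≤ Cfsg.pResidual p P ⊔ M.normalCore → N = M.normalCore ∨ N = Cfsg.pResidual p P ⊔ M.normalCore) ∧ M.normalCore < Cfsg.pResidual p P ⊔ M.normalCore := by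
  obtain ⟨hnn, M', ⟨hM', hSM'⟩, hu⟩ := hP S
  obtain rfl : M = M' := hu M ⟨hM, hSM⟩
  have hu' : ∀ X : Subgroup P, IsCoatom X → (S : Subgroup P) ≤ X → X = M := fun X h1 h2 => hu X ⟨h1, h2⟩
  have hS := isSylowOf_top S
  have h3 : ∀ N : Subgroup P, N.Normal → Cfsg.pResidual p P ≤ N ∨ N ≤ M.normalCore := fun N hN =>
    (normal_sup_eq_top_or_le hu' (N := N)).imp (pResidual_le_of_sup_eq_top S.isPGroup')
      (fun h => Subgroup.normal_le_normalCore.2 h)
  have hres : ¬ Cfsg.pResidual p P ≤ M.normalCore := fun h => hM.1 (top_le_iff.1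
    ((pResidual_sup_sylow S).ge.trans (sup_le (h.trans (Subgroup.normalCore_le M)) hSM)))
  refine ⟨fun N hN hNM => ?_, fun hT => ?_, h3, fun N hN hFN hNle => ?_, ?_⟩
  · rw [inf_comm]
    exact (inf_le_inf_left _ (subnormal_le_max_le_core hM hN hNM)).trans
      (isPClosed_of_le_max hS le_rfl hu' hM (Subgroup.normalCore_le M)).2
  · haveI := pResidual_normal p P
    set O := Cfsg.pCore p P with hO
    haveI : O.Normal := pCore_normal p P
    set f := QuotientGroup.mk' O with hf
    have hs := QuotientGroup.mk'_surjective O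
    set Kb := (Cfsg.pResidual p P).map f with hKb
    haveI : Kb.Normal := (inferInstance : (Cfsg.pResidual p P).Normal).map f hs
    have hKp : (Nat.card Kb).Coprime p := by
      obtain ⟨T⟩ := (inferInstance : Nonempty (Sylow p ↥(Cfsg.pResidual p P)))
      have hTO : (T : Subgroup ↥(Cfsg.pResidual p P)) ≤ O.subgroupOf (Cfsg.pResidual p P) :=
        Subgroup.map_le_iff_le_comap.1
          ((Subgroup.map_mono (le_pCore (hT T) T.isPGroup')).trans (pCoreOf_le_pCore_of_normal _))
      rw [hKb, ← Subgroup.relIndex_ker _ f, hf, QuotientGroup.ker_mk', Subgroup.relIndex, Nat.coprime_comm,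
        (Fact.out : p.Prime).coprime_iff_not_dvd]
      exact fun h => T.not_dvd_index (h.trans (Subgroup.index_dvd_of_le hTO))
    set Sb := (S : Subgroup P).map f with hSb
    have hSbs : IsSylowOf p Sb (⊤ : Subgroup (P ⧸ O)) := by
      have := isSylowOf_top (S.mapSurjective hs)
      rwa [Sylow.coe_mapSurjective] at this
    have hSMb : Sb ≤ M.map f := Subgroup.map_mono hSM
    have hOM : O ≤ M := (pCore_le_sylow S).trans hSM
    have hMb : (M.map f).comap f = M := Subgroup.comap_map_eq_self (by rw [hf, QuotientGroup.ker_mk']; exact hOM)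
    by_cases hex : ∃ q : ℕ, q.Prime ∧ ∃ Q : Subgroup (P ⧸ O), IsPGroup q Q ∧
        Sb ≤ Subgroup.normalizer (Q : Set (P ⧸ O)) ∧ Q ⊔ Sb = ⊤
    · obtain ⟨q, hq, Q, hQ, hQn, htop⟩ := hex
      haveI := Fact.mk hq
      haveI : Q.Normal := normal_of_le_normalizer (htop.ge.trans (sup_le Subgroup.le_normalizer hQn))
      have hcard : ∀ r ∈ (Nat.card P).primeFactors, r ∈ ({p, q} : Finset ℕ) := by
        intro r hr
        obtain ⟨hrp, hrd, -⟩ := Nat.mem_primeFactors.1 hr
        obtain ⟨a, ha⟩ := IsPGroup.iff_card.1 (pCore_isPGroup p P)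
        obtain ⟨b, hb⟩ := IsPGroup.iff_card.1 hQ
        obtain ⟨c, hc⟩ := IsPGroup.iff_card.1 (S.isPGroup'.map f)
        have hd : Nat.card (P ⧸ O) ∣ Nat.card Q * Nat.card Sb := by
          rw [← Subgroup.card_top, ← htop, sup_comm, ← card_mul_relIndex' (le_sup_right : Q ≤ Sb ⊔ Q),
            Subgroup.relIndex_sup_right]
          exact mul_dvd_mul_left _ (Subgroup.relIndex_dvd_card Q Sb)
        rw [Subgroup.card_eq_card_quotient_mul_card_subgroup O, ha] at hrd
        rw [Finset.mem_insert, Finset.mem_singleton]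
        rcases hrp.dvd_mul.1 hrd with h | h
        · have h4 := h.trans hd
          rw [hb, hc] at h4
          rcases hrp.dvd_mul.1 h4 with h5 | h5
          · exact Or.inr ((Nat.prime_dvd_prime_iff_eq hrp hq).1 (hrp.dvd_of_dvd_pow h5))
          · exact Or.inl ((Nat.prime_dvd_prime_iff_eq hrp Fact.out).1 (hrp.dvd_of_dvd_pow h5))
        · exact Or.inl ((Nat.prime_dvd_prime_iff_eq hrp Fact.out).1 (hrp.dvd_of_dvd_pow h))
      exact (Finset.card_le_card hcard).trans Finset.card_le_two
    · exfalso
      push_neg at hex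
      have hKM : Kb ≤ M.map f := by
        by_contra hne
        have hdvd : Nat.card Kb ∣ Nat.card ↥(M.map f ⊓ Kb) := by
          refine Nat.dvd_iff_prime_pow_dvd_dvd _ _ |>.2 fun q k hq hd => ?_
          haveI := Fact.mk hq
          obtain ⟨Q, hQ⟩ := exists_isSylowOf q Kb
          have hsplit := frattini_argument' (H := (⊤ : Subgroup (P ⧸ O))) le_top (le_normalizer_of_normal ⊤ Kb) hQ
          obtain ⟨TN, hTN⟩ := exists_isSylowOf p (Subgroup.normalizer (Q : Set (P ⧸ O)))
          have hTNs : IsSylowOf p TN (⊤ : Subgroup (P ⧸ O)) := by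
            have hidx : ¬ p ∣ TN.index := by
              rw [← Subgroup.relIndex_mul_index hTN.le, (Fact.out : p.Prime).dvd_mul]
              rintro (h | h)
              · exact hTN.not_dvd_relIndex h
              · rw [top_inf_eq, sup_comm] at hsplit
                rw [index_eq_relIndex_of_sup_eq_top hsplit.symm] at h
                exact ((Fact.out : p.Prime).coprime_iff_not_dvd.1 hKp.symm)
                  (h.trans (Subgroup.relIndex_dvd_card _ _))
            have h := isSylowOf_top (hTN.isPGroup.toSylow hidx)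
            rwa [IsPGroup.toSylow_coe] at h
          obtain ⟨a, -, ha⟩ := hTNs.exists_conj hSbs
          have hQa : IsSylowOf q (conjS a Q) Kb := by
            have := hQ.conjS a
            rwa [conjS_normal a Kb] at this
          have hn : Sb ≤ Subgroup.normalizer (conjS a Q : Set (P ⧸ O)) := by
            rw [← conjS_normalizer, ← ha]; exact conjS_mono a hTN.le
          have hle : conjS a Q ≤ M.map f := by
            obtain ⟨X, hX, hle⟩ := exists_coatom_ge
              (A := (conjS a Q ⊔ Sb).comap f) (fun e => hex q hq (conjS a Q) hQa.isPGroup hn (by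
                rw [← Subgroup.map_comap_eq_self_of_surjective hs (conjS a Q ⊔ Sb), e,
                  Subgroup.map_top_of_surjective f hs]))
            have hXM := hu' X hX ((Subgroup.map_le_iff_le_comap.1 le_sup_right).trans hle)
            rw [← Subgroup.map_comap_eq_self_of_surjective hs (conjS a Q)]
            exact Subgroup.map_mono (((Subgroup.comap_mono le_sup_left).trans hle).trans hXM.le)
          refine ((?_ : q ^ k ∣ Nat.card (conjS a Q)).trans
            (Subgroup.card_dvd_of_le (le_inf hle hQa.le)))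
          refine (hq.coprime_pow_of_not_dvd hQa.not_dvd_relIndex).symm.dvd_of_dvd_mul_right ?_
          rwa [card_mul_relIndex' hQa.le]
        exact hne (le_trans (Subgroup.eq_of_le_of_card_ge inf_le_right
          (Nat.le_of_dvd Nat.card_pos hdvd)).ge inf_le_left)
      refine hM.1 (top_le_iff.1 ((pResidual_sup_sylow S).ge.trans (sup_le ?_ hSM)))
      rw [← hMb]
      exact Subgroup.map_le_iff_le_comap.1 hKM
  · rcases h3 N hN with h | h
    · exact Or.inr (le_antisymm hNle (sup_le h hFN))
    · exact Or.inl (le_antisymm h hFN)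
  · exact lt_of_le_of_ne le_sup_right fun e => hres (le_sup_left.trans e.ge)

end Cfsg.Agent.S2905
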