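import Cfsg.Statements.S2906
import Cfsg.Agent.Lib.LocalEven.Irreducible
import Cfsg.Agent.Lib.LocalEven.FStarAction
import Cfsg.Agent.Lib.LocalEven.SubnormalSylow
import Cfsg.Agent.Lib.LocalEven.LocalCharCentral
import Cfsg.Agent.Lib.Coprime.PxQ
import Cfsg.Agent.Lib.Components.PComponent

set_option autoImplicit false
open Cfsg Cfsg.Agent Cfsg.Agent.Lib Cfsg.Agent.Lib.LocalEven
open scoped commutatorElement

namespace Cfsg.Agent.S2906

universe v

variable {G : Type v} [Group G] [Finite G] {p : ℕ} [hp : Fact p.Prime]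

theorem layer_normal' : (Cfsg.layer G).Normal := by
  refine normal_of_conjS_le fun g => ?_
  rw [conjS, Subgroup.map_le_iff_le_comap, Components.layer_le_iff]
  exact fun K hK => Subgroup.map_le_iff_le_comap.1 (Components.IsComponent.le_layer (Components.IsComponent.map_conj hK g))

theorem exists_conj_le_normalizer (S : Sylow p G) {N : Subgroup G} [hN : N.Normal] (hcopN : ¬ p ∣ Nat.card N)
    {r : ℕ} [Fact r.Prime] (R : Sylow r ↥N) :
    ∃ g : G, (S : Subgroup G) ≤ Subgroup.normalizer (conjS g ((R : Subgroup ↥N).map N.subtype) : Set G) ∧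
      IsSylowOf r (conjS g ((R : Subgroup ↥N).map N.subtype)) N := by
  set Rg := (R : Subgroup ↥N).map N.subtype with hRg
  have hRs : IsSylowOf r Rg N := isSylowOf_map_subtype R
  set W := Subgroup.normalizer (Rg : Set G) with hW
  have hfr : N ⊔ W = ⊤ := top_le_iff.1 ((frattini_argument' le_top (le_normalizer_of_normal ⊤ N) hRs).le.trans
    (sup_le_sup_left inf_le_right _))
  have hidx : ¬ p ∣ W.index := by
    intro hd
    apply hcopN
    have h1 : W.index ∣ Nat.card N := by
      rw [index_eq_relIndex_of_sup_eq_top (D := N) (by rw [sup_comm]; exact hfr)]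
      exact Subgroup.relIndex_dvd_card _ _
    exact hd.trans h1
  obtain ⟨Q⟩ : Nonempty (Sylow p ↥W) := inferInstance
  have hQtop : IsSylowOf p ((Q : Subgroup ↥W).map W.subtype) (⊤ : Subgroup G) := by
    refine ⟨le_top, Q.isPGroup'.map _, fun X _ hX hle => ?_⟩
    refine (Subgroup.eq_of_le_of_card_ge hle ?_).symm
    obtain ⟨n, hn⟩ := IsPGroup.iff_card.1 hX
    refine Nat.le_of_dvd Nat.card_pos ?_
    rw [hn]
    have h2 : p ^ n ∣ Nat.card ↥((Q : Subgroup ↥W).map W.subtype) * ((Q : Subgroup ↥W).index * W.index) := by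
      rw [← hn, ← mul_assoc, Subgroup.card_map_of_injective W.subtype_injective, Subgroup.card_mul_index,
        Subgroup.card_mul_index]
      exact Subgroup.card_subgroup_dvd_card X
    refine (Nat.Coprime.pow_left n ?_).dvd_of_dvd_mul_right h2
    exact (hp.out.coprime_iff_not_dvd.2 Q.not_dvd_index).mul_right (hp.out.coprime_iff_not_dvd.2 hidx)
  obtain ⟨g, -, hg⟩ := hQtop.exists_conj (isSylowOf_top S)
  refine ⟨g, ?_, ?_⟩
  · rw [← conjS_normalizer, ← hg]; exact conjS_mono g (Subgroup.map_subtype_le _)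
  · have := hRs.conjS g; rwa [conjS_normal g N] at this

/-- A normal subgroup containing a component does not lie in the maximal subgroup over `S`. -/
theorem not_le_max_of_component (S : Sylow p G) {M : Subgroup G} (hM : IsCoatom M)
    (hu : ∀ X : Subgroup G, IsCoatom X → (S : Subgroup G) ≤ X → X = M) (hO : Cfsg.pCore p G = ⊥)
    {N K : Subgroup G} [hN : N.Normal] (hK : Cfsg.IsComponent K) (hKN : K ≤ N) : ¬ N ≤ M := by
  intro hNM
  have hTN : (S : Subgroup G) ⊓ N = ⊥ := by
    have := (isPClosed_of_le_max (isSylowOf_top S) le_rfl hu hM hNM).2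
    rwa [hO, le_bot_iff] at this
  have hcopN : ¬ p ∣ Nat.card N := by
    intro hd
    obtain ⟨P, hP⟩ := ((isSylowOf_top S).inf_normal le_top (le_normalizer_of_normal ⊤ N)).exists_sylow
    have h1 := P.dvd_card_of_dvd_card hd
    rw [hTN] at hP
    rw [(Subgroup.map_eq_bot_iff_of_injective _ N.subtype_injective).1 hP, Subgroup.card_bot] at h1
    exact hp.out.not_dvd_one h1
  have hns : ¬ Group.IsNilpotent ↥N := fun h =>
    Components.IsComponent.not_isSolvable hK (solvable_of_solvable_injective (Subgroup.inclusion_injective hKN))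
  have hnorm : ¬ ∀ (r : ℕ) (hr : Fact r.Prime) (R : Sylow r ↥N), (R : Subgroup ↥N).Normal := fun h =>
    hns ((Group.isNilpotent_of_finite_tfae (G := ↥N)).out 0 3 |>.2 h)
  push Not at hnorm
  obtain ⟨r, hr, R, hR⟩ := hnorm
  obtain ⟨g, hSg, hRs⟩ := exists_conj_le_normalizer S hcopN R
  set Rg := conjS g ((R : Subgroup ↥N).map N.subtype) with hRg
  have hfr : (⊤ : Subgroup G) ≤ N ⊔ Subgroup.normalizer (Rg : Set G) :=
    (frattini_argument' le_top (le_normalizer_of_normal ⊤ N) hRs).le.trans (sup_le_sup_left inf_le_right _)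
  have hWt : Subgroup.normalizer (Rg : Set G) ≠ ⊤ := by
    intro h
    refine hR ⟨fun a ha b => ?_⟩
    have hmem : g * (a : G) * g⁻¹ ∈ Rg := conj_mem_conjS (Subgroup.mem_map_of_mem N.subtype ha)
    have hm : g * (b : G) * g⁻¹ ∈ Subgroup.normalizer (Rg : Set G) := by rw [h]; trivial
    have h2 := mem_conjS.1 ((Subgroup.mem_normalizer_iff.1 hm _).1 hmem)
    obtain ⟨c, hc, hce⟩ : (b : G) * a * (b : G)⁻¹ ∈ (R : Subgroup ↥N).map N.subtype := by
      simpa [mul_assoc] using h2
    have : c = b * a * b⁻¹ := Subtype.ext hce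
    exact this ▸ hc
  obtain ⟨X, hX, hle⟩ := exists_coatom_ge hWt
  rw [hu X hX (hSg.trans hle)] at hle
  exact hM.1 (top_le_iff.1 (hfr.trans (sup_le hNM hle)))

/-- A normal `p'`-subgroup contains no component. -/
theorem not_coprime_of_component (S : Sylow p G) {M : Subgroup G} (hM : IsCoatom M)
    (hu : ∀ X : Subgroup G, IsCoatom X → (S : Subgroup G) ≤ X → X = M) (hO : Cfsg.pCore p G = ⊥)
    {N K : Subgroup G} [hN : N.Normal] (hK : Cfsg.IsComponent K) (hKN : K ≤ N)
    (hKres : K ≤ Cfsg.pResidual p G) : ¬ (Nat.card N).Coprime p := by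
  intro hcop
  have hcopN : ¬ p ∣ Nat.card N := hp.out.coprime_iff_not_dvd.1 hcop.symm
  refine not_le_max_of_component S hM hu hO hK hKN (Subgroup.subgroupOf_eq_top.1 (Subgroup.index_eq_one.1 ?_))
  rw [Nat.eq_one_iff_not_exists_prime_dvd]
  intro r hr hd
  haveI : Fact r.Prime := ⟨hr⟩
  obtain ⟨R⟩ : Nonempty (Sylow r ↥N) := inferInstance
  obtain ⟨g, hSg, hRs⟩ := exists_conj_le_normalizer S hcopN R
  set Rg := conjS g ((R : Subgroup ↥N).map N.subtype) with hRg
  have hRM : Rg ≤ M := by
    by_cases hWt : Subgroup.normalizer (Rg : Set G) = ⊤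
    · haveI : Rg.Normal := Subgroup.normalizer_eq_top_iff.1 hWt
      refine (normal_sup_eq_top_or_le hu).resolve_left fun h => ?_
      haveI := hRs.isPGroup.isNilpotent
      exact Components.IsComponent.not_isSolvable hK (solvable_of_solvable_injective
        (Subgroup.inclusion_injective (hKres.trans (pResidual_le_of_sup_eq_top S.isPGroup' h))))
    · obtain ⟨X, hX, hle⟩ := exists_coatom_ge hWt
      rw [hu X hX (hSg.trans hle)] at hle
      exact Subgroup.le_normalizer.trans hle
  obtain ⟨R', hR'⟩ := hRs.exists_sylow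
  refine R'.not_dvd_index (hd.trans (Subgroup.index_dvd_of_le ?_))
  exact fun x hx => hRM (hR'.le (Subgroup.mem_map_of_mem N.subtype hx))

/-- Let P be a finite p-minimal group with O_p(P) = 1, S a Sylow p-subgroup of P and K a component of P. Then O^p(P) = F*(P) = E(P) is generated by the S-conjugates of K, and the subgroup K·N_S(K) is again p-minimal. -/
theorem result {P : Type*} [Group P] [Finite P] {p : ℕ} [Fact p.Prime] (hP : Cfsg.IsPMinimal p P) (hOp : Cfsg.pCore p P = ⊥) (S : Sylow p P) (K : Subgroup P) (hK : Cfsg.IsComponent K) : Cfsg.pResidual p P = Cfsg.generalizedFittingSubgroup P ∧ Cfsg.generalizedFittingSubgroup P = Cfsg.layer P ∧ Cfsg.layer P = ⨆ s : ↥(S : Subgroup P), K.map (MulAut.conj (s : P)).toMonoidHom ∧ Cfsg.IsPMinimal p ↥(K ⊔ ((S : Subgroup P) ⊓ Subgroup.normalizer (K : Set P))) := by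
  obtain ⟨hnn, M, ⟨hM, hSM⟩, hu'⟩ := hP S
  have hu : ∀ X : Subgroup P, IsCoatom X → (S : Subgroup P) ≤ X → X = M := fun X h1 h2 => hu' X ⟨h1, h2⟩
  set E := Cfsg.layer P with hE
  set R := Cfsg.pResidual p P with hR
  haveI hRn : R.Normal := pResidual_normal p P
  haveI hEn : E.Normal := layer_normal'
  have hfull : ∀ N : Subgroup P, ∀ _ : N.Normal, K ≤ N → N ⊔ (S : Subgroup P) = ⊤ := fun N hN hKN =>
    (normal_sup_eq_top_or_le hu).resolve_right (not_le_max_of_component S hM hu hOp hK hKN)
  have hES : E ⊔ (S : Subgroup P) = ⊤ := hfull E hEn (Components.IsComponent.le_layer hK)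
  have hRE : R ≤ E := pResidual_le_of_sup_eq_top S.isPGroup' hES
  have hcompR : ∀ L, Cfsg.IsComponent L → L ≤ R := by
    intro L hL
    set f := QuotientGroup.mk' R with hf
    have hq : IsPGroup p ↥(L.map f) := (quotient_pResidual_isPGroup (p := p) R le_rfl).to_subgroup _
    have h : L.map f = ⊥ := by
      by_contra hne
      exact (Coprime.commutator_lt_of_isPGroup hq hq Subgroup.le_normalizer hne).ne (by
        rw [← Subgroup.map_commutator, Components.IsComponent.commutator_self hL])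
    rwa [Subgroup.map_eq_bot_iff, QuotientGroup.ker_mk'] at h
  have hRE' : R = E := le_antisymm hRE (Components.layer_le_iff.2 hcompR)
  have hFE : fittingSubgroup P ≤ E := by
    intro x hx
    rw [← hRE']
    refine coprime_orderOf_mem_pResidual ((coprime_card_fitting hOp).coprime_dvd_left ?_)
    rw [← Subgroup.orderOf_mk x hx]; exact orderOf_dvd_natCard _
  have hFstar : Cfsg.generalizedFittingSubgroup P = E := by
    rw [Cfsg.generalizedFittingSubgroup]; exact le_antisymm (sup_le le_rfl hFE) le_sup_left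
  have hconjE : ∀ g : P, conjS g K ≤ E := fun g => Components.IsComponent.le_layer (Components.IsComponent.map_conj hK g)
  set U := ⨆ s : ↥(S : Subgroup P), conjS (s : P) K with hU
  have hUE : U ≤ E := iSup_le fun s => hconjE s
  have hnU : (⊤ : Subgroup P) ≤ Subgroup.normalizer (U : Set P) := by
    rw [← hES]
    refine sup_le ?_ ?_
    · rw [le_normalizer_iff_forall]
      intro g hg
      rw [hU, conjS_iSup]
      refine iSup_congr fun s => conjS_eq_self_iff.2 ?_
      exact Components.IsComponent.layer_le_normalizer (Components.IsComponent.map_conj hK (s : P)) hg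
    · rw [le_normalizer_iff_forall]
      intro g hg
      rw [hU, conjS_iSup]
      refine le_antisymm (iSup_le fun s => ?_) (iSup_le fun s => ?_)
      · rw [← conjS_mul]; exact le_iSup (fun t : ↥(S : Subgroup P) => conjS (t : P) K) ⟨g * s, mul_mem hg s.2⟩
      · refine le_iSup_of_le (⟨g⁻¹ * s, mul_mem (inv_mem hg) s.2⟩ : ↥(S : Subgroup P)) ?_
        show _ ≤ conjS g (conjS (g⁻¹ * s) K)
        rw [← conjS_mul, mul_inv_cancel_left]
  haveI hUn : U.Normal := normal_of_le_normalizer hnU
  have hKU : K ≤ U := le_iSup_of_le (1 : ↥(S : Subgroup P)) (by rw [Subgroup.coe_one, conjS_one])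
  have hEU : E = U := le_antisymm (hRE' ▸ pResidual_le_of_sup_eq_top S.isPGroup' (hfull U hUn hKU)) hUE
  refine ⟨hRE'.trans hFstar.symm, hFstar, hEU, ?_⟩
  -- the group `K N_S(K)`
  set T := (S : Subgroup P) ⊓ Subgroup.normalizer (K : Set P) with hT
  set H := K ⊔ T with hH
  have hTn : T ≤ Subgroup.normalizer (K : Set P) := inf_le_right
  have hKH : K ≤ H := le_sup_left
  have hTH : T ≤ H := le_sup_right
  have hHn : H ≤ Subgroup.normalizer (K : Set P) := sup_le Subgroup.le_normalizer hTn
  have hSK : IsSylowOf p ((S : Subgroup P) ⊓ K) K := (isSylowOf_top S).inf_subnormal hK.1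
  have hSKT : (S : Subgroup P) ⊓ K ≤ T := inf_le_inf_left _ Subgroup.le_normalizer
  have hdec : ∀ X : Subgroup P, T ≤ X → X ≤ H → X = T ⊔ (X ⊓ K) := by
    intro X hTX hXH
    refine le_antisymm (fun x hx => ?_) (sup_le hTX inf_le_left)
    have hxH := hXH hx
    rw [hH, ← SetLike.mem_coe, Subgroup.coe_mul_of_right_le_normalizer_left _ _ hTn] at hxH
    obtain ⟨k, hk, t, ht, rfl⟩ := hxH
    have hkX : k ∈ X := by simpa using mul_mem hx (inv_mem (hTX ht))
    exact mul_mem (Subgroup.mem_sup_right (Subgroup.mem_inf.2 ⟨hkX, hk⟩)) (Subgroup.mem_sup_left ht)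
  have hTs : IsSylowOf p T H := by
    refine ⟨hTH, S.isPGroup'.to_le inf_le_left, fun Q hQH hQ hTQ => ?_⟩
    rw [hdec Q hTQ hQH, hSK.eq_of_le inf_le_right hQ.to_inf_left (le_inf (hSKT.trans hTQ) inf_le_right),
      sup_eq_left]
    exact hSKT
  have hSK1 : (S : Subgroup P) ⊓ K ≠ ⊥ := by
    intro h
    have hall : ∀ s : ↥(S : Subgroup P), (S : Subgroup P) ⊓ conjS (s : P) K = ⊥ := fun s => by
      have h' := congrArg (conjS (s : P)) h
      rw [conjS_inf, conjS_mem_eq_self s.2] at h'
      rw [h', conjS, Subgroup.map_bot]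
    have hsc : ∀ s : ↥(S : Subgroup P), conjS (s : P) K ≤ Cfsg.pPrimeCore p P := by
      intro s
      have hKs := Components.IsComponent.map_conj hK (s : P)
      refine Components.le_pPrimeCore_of_subnormal hKs.1 ?_
      obtain ⟨Q, hQ⟩ := ((isSylowOf_top S).inf_subnormal hKs.1).exists_sylow
      refine ((Fact.out : p.Prime).coprime_iff_not_dvd.2 fun hd => ?_).symm
      have h1 := Q.dvd_card_of_dvd_card hd
      have h2 : (Q : Subgroup ↥(K.map (MulAut.conj (s : P)).toMonoidHom)) = ⊥ :=
        (Subgroup.map_eq_bot_iff_of_injective _ (Subgroup.subtype_injective _)).1 (hQ.trans (hall s))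
      rw [h2, Subgroup.card_bot] at h1
      exact (Fact.out : p.Prime).not_dvd_one h1
    have hcop : (Nat.card E).Coprime p :=
      (Components.pPrimeCore_coprime p).coprime_dvd_left (Subgroup.card_dvd_of_le (hEU.le.trans (iSup_le hsc)))
    exact not_coprime_of_component S hM hu hOp hK (Components.IsComponent.le_layer hK) (hcompR K hK) hcop
  set C := E ⊓ Subgroup.centralizer (K : Set P) with hC
  have hEK : E ≤ K ⊔ C := Components.layer_le_iff.2 fun L hL => by
    by_cases hLK : L = K
    · rw [hLK]; exact le_sup_left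
    · exact (le_inf (Components.IsComponent.le_layer hL) (Subgroup.commutator_eq_bot_iff_le_centralizer.1
        (Components.IsComponent.commutator_eq_bot_of_ne hL hK hLK))).trans le_sup_right
  have hEnK : E ≤ Subgroup.normalizer (K : Set P) := Components.IsComponent.layer_le_normalizer hK
  have hCsn : C.IsSubnormal := isSubnormal_inf_right hEn.isSubnormal inf_le_left
    (le_normalizer_inf Subgroup.le_normalizer (le_normalizer_centralizer hEnK))
  have hSE : (S : Subgroup P) ⊓ E ≤ ((S : Subgroup P) ⊓ K) ⊔ C := by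
    have h1 := sylow_inf_sup S hK.1 hCsn
    rw [show K ⊔ C = E from le_antisymm (sup_le (Components.IsComponent.le_layer hK) inf_le_left) hEK] at h1
    rw [← h1]
    exact sup_le_sup_left inf_le_right _
  -- a proper subgroup over `T` meets `K` inside `M`
  have key : ∀ Y : Subgroup P, Y ≤ K → (S : Subgroup P) ⊓ K ≤ Y → T ≤ Subgroup.normalizer (Y : Set P) → Y ≠ K → Y ≤ M := by
    intro Y hYK hSY hTY hne
    set W := ⨆ s : ↥(S : Subgroup P), conjS (s : P) Y with hW
    have hWD : W ≤ Y ⊔ C := by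
      refine iSup_le fun s => ?_
      by_cases hs : conjS (s : P) K = K
      · rw [conjS_eq_self_iff.2 (hTY (Subgroup.mem_inf.2 ⟨s.2, conjS_eq_self_iff.1 hs⟩))]
        exact le_sup_left
      · refine (le_inf ((conjS_mono _ hYK).trans (hconjE s)) ((conjS_mono _ hYK).trans ?_)).trans le_sup_right
        exact Subgroup.commutator_eq_bot_iff_le_centralizer.1
          (Components.IsComponent.commutator_eq_bot_of_ne (Components.IsComponent.map_conj hK (s : P)) hK hs)
    have hSW : (S : Subgroup P) ≤ Subgroup.normalizer (W : Set P) := by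
      rw [le_normalizer_iff_forall]
      intro g hg
      rw [hW, conjS_iSup]
      refine le_antisymm (iSup_le fun s => ?_) (iSup_le fun s => ?_)
      · rw [← conjS_mul]; exact le_iSup (fun t : ↥(S : Subgroup P) => conjS (t : P) Y) ⟨g * s, mul_mem hg s.2⟩
      · refine le_iSup_of_le (⟨g⁻¹ * s, mul_mem (inv_mem hg) s.2⟩ : ↥(S : Subgroup P)) ?_
        show _ ≤ conjS g (conjS (g⁻¹ * s) Y)
        rw [← conjS_mul, mul_inv_cancel_left]
    have hWne : W ⊔ (S : Subgroup P) ≠ ⊤ := by
      intro htop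
      apply hne
      refine le_antisymm hYK ?_
      have hWE : W ≤ E := iSup_le fun s => (conjS_mono _ hYK).trans (hconjE s)
      have hKD : K ≤ Y ⊔ C := by
        intro k hk
        have hkE : k ∈ E := Components.IsComponent.le_layer hK hk
        have h1 : k ∈ W ⊔ (S : Subgroup P) := by rw [htop]; trivial
        rw [← SetLike.mem_coe, Subgroup.coe_mul_of_right_le_normalizer_left _ _ hSW] at h1
        obtain ⟨w, hw, s, hs, rfl⟩ := h1
        have hsE : s ∈ E := by simpa using mul_mem (inv_mem (hWE hw)) hkE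
        exact mul_mem (hWD hw) (sup_le_sup_right hSY _ (hSE (Subgroup.mem_inf.2 ⟨hs, hsE⟩)))
      have hYC : C ≤ Subgroup.normalizer (Y : Set P) :=
        (inf_le_right.trans (Subgroup.centralizer_le hYK)).trans (Subgroup.centralizer_le_normalizer _)
      have hKYZ : ∀ k ∈ K, ∃ y ∈ Y, ∃ c ∈ Subgroup.centralizer (K : Set P), k = y * c := by
        intro k hk
        have h1 := hKD hk
        rw [← SetLike.mem_coe, Subgroup.coe_mul_of_right_le_normalizer_left _ _ hYC] at h1
        obtain ⟨y, hy, c, hc, rfl⟩ := h1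
        exact ⟨y, hy, c, (Subgroup.mem_inf.1 hc).2, rfl⟩
      conv_lhs => rw [← Components.IsComponent.commutator_self hK]
      rw [Subgroup.commutator_le]
      intro a ha b hb
      obtain ⟨y, hy, c, hc, rfl⟩ := hKYZ a ha
      obtain ⟨z, hz, d, hd, rfl⟩ := hKYZ b hb
      have hcK : c ∈ K := by simpa using mul_mem (inv_mem (hYK hy)) ha
      have hdK : d ∈ K := by simpa using mul_mem (inv_mem (hYK hz)) hb
      have e1 := Subgroup.mem_centralizer_iff.1 hc _ (hYK hy)
      have e2 := Subgroup.mem_centralizer_iff.1 hc _ (hYK hz)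
      have e3 := Subgroup.mem_centralizer_iff.1 hc _ hdK
      have e4 := Subgroup.mem_centralizer_iff.1 hd _ (hYK hy)
      have e5 := Subgroup.mem_centralizer_iff.1 hd _ (hYK hz)
      rw [show ⁅y * c, z * d⁆ = ⁅y, z⁆ by
        rw [commutatorElement_def, commutatorElement_def]
        calc y * c * (z * d) * (y * c)⁻¹ * (z * d)⁻¹ = y * (c * z) * d * c⁻¹ * y⁻¹ * d⁻¹ * z⁻¹ := by group
          _ = y * z * (c * d) * c⁻¹ * y⁻¹ * d⁻¹ * z⁻¹ := by rw [← e2]; group
          _ = y * z * (d * y⁻¹) * d⁻¹ * z⁻¹ := by rw [← e3]; group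
          _ = _ := by rw [← (show Commute y d from e4).inv_left.eq]; group]
      exact mul_mem (mul_mem (mul_mem hy hz) (inv_mem hy)) (inv_mem hz)
    obtain ⟨X, hX, hle⟩ := exists_coatom_ge hWne
    rw [hu X hX (le_sup_right.trans hle)] at hle
    exact (le_iSup_of_le (1 : ↥(S : Subgroup P)) (by rw [Subgroup.coe_one, conjS_one])).trans (le_sup_left.trans hle)
  have hKM : ¬ K ≤ M := by
    intro hKM
    refine not_le_max_of_component S hM hu hOp hK hKU (iSup_le fun s => ?_)
    exact (conjS_mono _ hKM).trans (conjS_eq_self_iff.2 (Subgroup.le_normalizer (hSM s.2))).le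
  obtain ⟨T₀, hT₀⟩ := hTs.exists_sylow
  have hnn0 : ¬ (T₀ : Subgroup ↥H).Normal := by
    intro hn
    have h1 : H ≤ Subgroup.normalizer (T : Set P) := by
      rw [← hT₀]
      exact map_subtype_le_normalizer (T₀ : Subgroup ↥H)
    apply hSK1
    have h2 : K ≤ Subgroup.normalizer (((S : Subgroup P) ⊓ K : Subgroup P) : Set P) := by
      rw [show (S : Subgroup P) ⊓ K = T ⊓ K from le_antisymm (le_inf hSKT inf_le_right) (inf_le_inf_right _ inf_le_left)]
      exact le_normalizer_inf (hKH.trans h1) Subgroup.le_normalizer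
    rw [← le_bot_iff, ← hOp]
    exact le_pCore_of_subnormal (isSubnormal_inf_right hK.1 inf_le_right h2) (S.isPGroup'.to_le inf_le_left)
  have hprop : ∀ X : Subgroup ↥H, X ≠ ⊤ → (T₀ : Subgroup ↥H) ≤ X → X ≤ M.subgroupOf H := by
    intro X hX hTX
    set Xg := X.map H.subtype with hXg
    have hTXg : T ≤ Xg := hT₀ ▸ Subgroup.map_mono hTX
    have hXH : Xg ≤ H := Subgroup.map_subtype_le _
    refine Subgroup.map_le_iff_le_comap.1 ?_
    rw [← hXg, hdec Xg hTXg hXH]
    refine sup_le (inf_le_left.trans hSM) (key _ inf_le_right (le_inf (hSKT.trans hTXg) inf_le_right)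
      (le_normalizer_inf (hTXg.trans Subgroup.le_normalizer) hTn) ?_)
    intro h
    apply hX
    rw [eq_top_iff]
    intro x _
    have : H ≤ Xg := sup_le (inf_eq_right.1 h) hTXg
    obtain ⟨y, hy, hye⟩ := this x.2
    exact (Subtype.ext hye : y = x) ▸ hy
  have hM0 : M.subgroupOf H ≠ ⊤ := fun h => hKM (hKH.trans (Subgroup.subgroupOf_eq_top.1 h))
  have huniq : ∀ X : Subgroup ↥H, IsCoatom X → (T₀ : Subgroup ↥H) ≤ X → X = M.subgroupOf H := fun X h1 h2 =>
    ((h1.le_iff).1 (hprop X h1.1 h2)).resolve_left hM0 |>.symm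
  obtain ⟨X₀, hX₀, hTX₀⟩ := exists_coatom_ge (A := (T₀ : Subgroup ↥H)) fun h => hnn0 (by rw [h]; infer_instance)
  have hX0 := huniq X₀ hX₀ hTX₀
  intro Q
  obtain ⟨g, hg⟩ := MulAction.exists_smul_eq ↥H T₀ Q
  have hQ : (Q : Subgroup ↥H) = conjS g (T₀ : Subgroup ↥H) := by rw [← hg]; rfl
  refine ⟨fun hn => hnn0 ?_, conjS g X₀, ⟨?_, ?_⟩, ?_⟩
  · have h1 : (T₀ : Subgroup ↥H) = conjS g⁻¹ (Q : Subgroup ↥H) := by rw [hQ, conjS_inv_cancel]
    rw [h1, conjS_normal]
    exact hn
  · exact (OrderIso.isCoatom_iff (MulEquiv.mapSubgroup (MulAut.conj g)) X₀).2 hX₀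
  · rw [hQ]; exact conjS_mono g hTX₀
  · rintro Y ⟨hY, hQY⟩
    have h1 : conjS g⁻¹ Y = X₀ := by
      rw [hX0]
      refine huniq _ ((OrderIso.isCoatom_iff (MulEquiv.mapSubgroup (MulAut.conj g⁻¹)) Y).2 hY) ?_
      have := conjS_mono g⁻¹ hQY
      rwa [hQ, conjS_inv_cancel] at this
    rw [← h1, conjS_cancel_inv]

end Cfsg.Agent.S2906
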