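import Cfsg.Statements.S2907
import Cfsg.Agent.Lib.LocalEven.Series
import Cfsg.Agent.Lib.LocalEven.PReduced
import Cfsg.Agent.Lib.LocalEven.Kieler
import Cfsg.Agent.Lib.Coprime.Generation
import Cfsg.Agent.Lib.Coprime.PxQ
import Cfsg.Agent.Lib.Cores.PCore
import Mathlib.GroupTheory.FixedPointFree

set_option autoImplicit false
open Cfsg Cfsg.Agent Cfsg.Agent.Lib.LocalEven
open scoped commutatorElement

namespace Cfsg.Agent.S2907

/-- Let X be a finite semi-extraspecial p-group and x an element of X outside the centre. Then the index of C_X(x) in X equals the order of Z(X), and the commutators [x, y], y ∈ X, form exactly the centre Z(X). -/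
theorem result {X : Type*} [Group X] [Finite X] {p : ℕ} [Fact p.Prime] (hX : Cfsg.IsSemiExtraspecial p X) (x : X) (hx : x ∉ Subgroup.center X) : (Subgroup.centralizer ({x} : Set X)).index = Nat.card ↥(Subgroup.center X) ∧ {z : X | ∃ y : X, z = x * y * x⁻¹ * y⁻¹} = (Subgroup.center X : Set X) := by
  obtain ⟨⟨-, -, hcomm⟩, hY⟩ := hX
  have hc : ∀ a b : X, ⁅a, b⁆ ∈ Subgroup.center X := fun a b => hcomm ▸
    Subgroup.commutator_mem_commutator (Subgroup.mem_top a) (Subgroup.mem_top b)
  let φ : X →* X :=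
    { toFun := fun y => ⁅x, y⁆
      map_one' := by simp
      map_mul' := fun a b => by
        have h := Subgroup.mem_center_iff.1 (hc x b) a
        calc ⁅x, a * b⁆ = ⁅x, a⁆ * (a * ⁅x, b⁆) * a⁻¹ := by simp [commutatorElement_def, mul_assoc]
          _ = ⁅x, a⁆ * (⁅x, b⁆ * a) * a⁻¹ := by rw [h]
          _ = ⁅x, a⁆ * ⁅x, b⁆ := by group }
  have hle : φ.range ≤ Subgroup.center X := by
    rintro _ ⟨y, rfl⟩
    exact hc x y
  have hker : φ.ker = Subgroup.centralizer ({x} : Set X) := by
    ext y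
    rw [MonoidHom.mem_ker, Subgroup.mem_centralizer_singleton_iff]
    exact commutatorElement_eq_one_iff_commute.trans ⟨fun h => h.eq.symm, fun h => h.symm⟩
  have hrange : φ.range = Subgroup.center X := by
    by_contra hne
    rcases eq_top_or_exists_le_coatom (φ.range.subgroupOf (Subgroup.center X)) with htop | ⟨M, hM, hIM⟩
    · exact hne (le_antisymm hle (Subgroup.subgroupOf_eq_top.1 htop))
    set Y := M.map (Subgroup.center X).subtype with hYdef
    have hYZ : Y ≤ Subgroup.center X := Subgroup.map_subtype_le M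
    have hco : IsCoatom (Y.subgroupOf (Subgroup.center X)) := by
      rwa [hYdef, Subgroup.subgroupOf,
        Subgroup.comap_map_eq_self_of_injective (Subgroup.subtype_injective _)]
    obtain ⟨hYn, ⟨⟨-, -, hq⟩, -⟩⟩ := hY Y hYZ hco
    set f := QuotientGroup.mk' Y with hf
    have hIY : φ.range ≤ Y := by
      rw [← Subgroup.map_subgroupOf_eq_of_le hle]
      exact Subgroup.map_mono hIM
    have hfx : f x ∈ Subgroup.center (X ⧸ Y) := by
      rw [Subgroup.mem_center_iff]
      intro w
      obtain ⟨y, rfl⟩ := QuotientGroup.mk'_surjective Y w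
      have : f ⁅x, y⁆ = 1 := (QuotientGroup.eq_one_iff _).2 (hIY ⟨y, rfl⟩)
      rw [map_commutatorElement] at this
      exact (commutatorElement_eq_one_iff_commute.1 this).eq.symm
    rw [← hq, commutator_def, ← MonoidHom.range_eq_top.2 (QuotientGroup.mk'_surjective Y),
      MonoidHom.range_eq_map, ← Subgroup.map_commutator, ← commutator_def, hcomm] at hfx
    obtain ⟨c, hcZ, hcx⟩ := hfx
    have hcY : c⁻¹ * x ∈ Y := QuotientGroup.eq.1 hcx
    exact hx (by simpa using mul_mem hcZ (hYZ hcY))
  refine ⟨?_, ?_⟩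
  · rw [← hker, Subgroup.index_ker, hrange]
  · rw [← hrange]
    ext z
    exact ⟨fun ⟨y, hy⟩ => ⟨y, by rw [hy]; rfl⟩, fun ⟨y, hy⟩ => ⟨y, by rw [← hy]; rfl⟩⟩

end Cfsg.Agent.S2907
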