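import Cfsg.Statements.S2909
import Cfsg.Agent.Lib.LocalEven.Series
import Cfsg.Agent.Lib.LocalEven.PReduced
import Cfsg.Agent.Lib.LocalEven.Kieler
import Cfsg.Agent.Lib.Coprime.Generation
import Cfsg.Agent.Lib.Coprime.PxQ
import Cfsg.Agent.Lib.Cores.PCore
import Mathlib.GroupTheory.FixedPointFree

set_option autoImplicit false
open Cfsg Cfsg.Agent Cfsg.Agent.Lib.LocalEven
open scoped commutatorElement

namespace Cfsg.Agent.S2909

/-- Let p be a prime, E a normal p-subgroup of the finite group G, and U a non-cyclic elementary abelian p-subgroup of G such that either C_E(U) = C_E(u) for every nontrivial u ∈ U, or [E, U] = [E, ⟨u⟩] for every nontrivial u ∈ U. If R is a subgroup of order prime to p normalized by U, then [R, U] centralizes E. -/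
theorem result {G : Type*} [Group G] [Finite G] {p : ℕ} [Fact p.Prime] (E : Subgroup G) [E.Normal] (hE : IsPGroup p ↥E) (U : Subgroup G) (hU : Cfsg.IsElementaryAbelian p U) (hnc : ¬ IsCyclic ↥U) (hcond : (∀ u ∈ U, u ≠ 1 → E ⊓ Subgroup.centralizer (U : Set G) = E ⊓ Subgroup.centralizer ({u} : Set G)) ∨ (∀ u ∈ U, u ≠ 1 → ⁅E, U⁆ = ⁅E, Subgroup.zpowers u⁆)) (R : Subgroup G) (hR : ¬ p ∣ Nat.card ↥R) (hRU : U ≤ Subgroup.normalizer (R : Set G)) : ⁅R, U⁆ ≤ Subgroup.centralizer (E : Set G) := by
  have hUc : IsMulCommutative U := hU.1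
  have hRp : (Nat.card R).Coprime p := (((Fact.out : p.Prime).coprime_iff_not_dvd).2 hR).symm
  have hUp : IsPGroup p U := fun a => ⟨1, Subtype.ext (by rw [pow_one]; exact hU.2 a a.2)⟩
  have hcop : (Nat.card U).Coprime (Nat.card R) := by
    obtain ⟨n, hn⟩ := IsPGroup.iff_card.mp hUp
    exact hn ▸ (hRp.pow_right n).symm
  haveI hCn : (Subgroup.centralizer (E : Set G)).Normal :=
    normal_of_le_normalizer (le_normalizer_centralizer (le_normalizer_of_normal ⊤ E))
  set f := QuotientGroup.mk' (Subgroup.centralizer (E : Set G)) with hf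
  suffices h : R ≤ (Subgroup.centralizer ((U.map f : Subgroup _) : Set (G ⧸ Subgroup.centralizer (E : Set G)))).comap f by
    rw [← QuotientGroup.ker_mk' (Subgroup.centralizer (E : Set G)), ← Subgroup.map_eq_bot_iff,
      Subgroup.map_commutator, ← le_centralizer_iff_commutator]
    exact Subgroup.map_le_iff_le_comap.2 h
  conv_lhs => rw [← Lib.Coprime.iSup_centralizer_eq hnc hRU hcop]
  refine iSup₂_le fun u hu => ?_
  obtain ⟨huU, hu1⟩ := hu
  rw [← Subgroup.map_le_iff_le_comap, le_centralizer_iff_commutator, ← Subgroup.map_commutator,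
    Subgroup.map_eq_bot_iff, QuotientGroup.ker_mk']
  have hcz : Subgroup.centralizer ({u} : Set G) = Subgroup.centralizer (Subgroup.zpowers u : Set G) := by
    rw [Subgroup.zpowers_eq_closure, Subgroup.centralizer_closure]
  rw [hcz]
  set A := Subgroup.zpowers u with hA
  set C := R ⊓ Subgroup.centralizer (A : Set G) with hC
  have hAU : A ≤ U := Subgroup.zpowers_le.2 huU
  have hUA : U ≤ Subgroup.normalizer (A : Set G) :=
    (Subgroup.le_centralizer_iff.1 (hAU.trans (fun a ha => Subgroup.mem_centralizer_iff.2 fun b hb =>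
      congrArg Subtype.val (hUc.is_comm.comm ⟨b, hb⟩ ⟨a, ha⟩)))).trans (Subgroup.centralizer_le_normalizer _)
  have hUC : U ≤ Subgroup.normalizer (C : Set G) :=
    le_normalizer_inf hRU (le_normalizer_centralizer hUA)
  have hQC : ⁅C, U⁆ ≤ C := commutator_le_of_le_normalizer hUC
  have hQp : (Nat.card ↥⁅C, U⁆).Coprime p :=
    hRp.coprime_dvd_left (Subgroup.card_dvd_of_le (hQC.trans inf_le_left))
  have hAQ : A ≤ Subgroup.centralizer ((⁅C, U⁆ : Subgroup G) : Set G) :=
    Subgroup.le_centralizer_iff.1 (hQC.trans inf_le_right)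
  have hCA : C ≤ Subgroup.normalizer (A : Set G) :=
    inf_le_right.trans (Subgroup.centralizer_le_normalizer _)
  rcases hcond with hc | hc
  · refine Lib.Coprime.le_centralizer_of_PxQ (hUp.to_le hAU) hQp hE hAQ (le_normalizer_of_normal _ _)
      (le_normalizer_of_normal _ _) ?_
    have e := hc u huU hu1
    rw [hcz] at e
    rw [Subgroup.le_centralizer_iff, le_centralizer_iff_commutator]
    refine Subgroup.commutator_commutator_eq_bot_of_rotate ?_ ?_
    · rw [← e, le_centralizer_iff_commutator.1 (Subgroup.le_centralizer_iff.1 inf_le_right),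
        Subgroup.commutator_bot_left]
    · refine le_bot_iff.1 ((Subgroup.commutator_mono ?_ le_rfl).trans
        (le_centralizer_iff_commutator.1 (inf_le_right : E ⊓ Subgroup.centralizer (U : Set G) ≤ _)).le)
      rw [e]
      exact commutator_le_of_le_normalizer (le_normalizer_inf (le_normalizer_of_normal _ _)
        (le_normalizer_centralizer hCA))
  · rw [le_centralizer_iff_commutator, Subgroup.commutator_comm]
    refine commutator_eq_bot_of_le_commutator hE (hUp.to_le hAU) hQp (le_normalizer_of_normal _ _)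
      (le_normalizer_of_normal _ _) (le_centralizer_iff_commutator.1 hAQ) ?_
    rw [Subgroup.commutator_comm]
    have e := hc u huU hu1
    refine three_subgroup (le_normalizer_commutator (le_normalizer_of_normal _ _) hCA)
      (le_normalizer_commutator (le_normalizer_of_normal _ _) hUA) (le_normalizer_commutator_left E A) ?_ ?_
    · rw [Subgroup.commutator_comm U, e]
      exact commutator_le_of_le_normalizer (le_normalizer_commutator (le_normalizer_of_normal _ _) hCA)
    · rw [← e]
      exact Subgroup.commutator_mono (Subgroup.commutator_le_left E C) le_rfl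

end Cfsg.Agent.S2909
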