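import Cfsg.Statements.S2910
import Cfsg.Agent.Lib.Transfer.Frobenius
import Cfsg.Agent.Lib.OddLocal.Coprime

set_option autoImplicit false
open Cfsg Cfsg.Agent Cfsg.Agent.Lib

namespace Cfsg.Agent.S2910

/-- Let p be an odd prime dividing the order of the finite group G and P a Sylow p-subgroup of G. If Ω₁(P) (generated by the elements of order dividing p) is contained in the centre of G, then G has a normal p-complement. In particular, if G is quasisimple then Ω₁(P) is not central in G. -/
theorem result {G : Type*} [Group G] [Finite G] {p : ℕ} [Fact p.Prime] (hp : p ≠ 2) (hdiv : p ∣ Nat.card G) (P : Sylow p G) (hZ : Cfsg.omegaOne p (P : Subgroup G) ≤ Subgroup.center G) : Cfsg.HasNormalPComplement p G ∧ ¬ Cfsg.IsQuasisimple G := by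
  have hN : Cfsg.HasNormalPComplement p G := by
    refine Transfer.hasNormalPComplement_of_frobenius P fun Q hQ g hg hgo => ?_
    have hA : Subgroup.zpowers g ≤ Subgroup.normalizer (Q : Set G) := Subgroup.zpowers_le.2 hg
    refine (OddLocal.le_centralizer_of_fixes_pow_eq_one (A := Subgroup.zpowers g) hp ?_ Q (P.isPGroup'.to_le hQ) hA
      fun x hx hxp => ?_) (Subgroup.mem_zpowers g)
    · rw [Nat.card_zpowers]; exact hgo
    · intro a _
      rw [Subgroup.mem_centralizer_singleton_iff]
      exact (Subgroup.mem_center_iff.1 (hZ (Subgroup.subset_closure ⟨hQ hx, hxp⟩)) a)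
  refine ⟨hN, fun hq => ?_⟩
  obtain ⟨hperf, hsimp⟩ := hq
  obtain ⟨Q, N, hn, hc⟩ := hN
  haveI := hn
  haveI := Q.isPGroup'.isNilpotent
  have hQt : (⊥ : Subgroup G) ≠ (Q : Subgroup G) := fun h => by
    have h1 := Q.dvd_card_of_dvd_card hdiv
    rw [← h, Subgroup.card_bot] at h1
    exact (Fact.out : p.Prime).not_dvd_one h1
  have hsol : Group.IsSolvable (G ⧸ N) := by
    exact solvable_of_surjective (f := (QuotientGroup.mk' N).comp (Q : Subgroup G).subtype) fun q => by
      obtain ⟨g, rfl⟩ := QuotientGroup.mk'_surjective N q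
      obtain ⟨⟨n, s⟩, hns⟩ := hc.2 g
      refine ⟨s, ?_⟩
      show QuotientGroup.mk' N (s : G) = QuotientGroup.mk' N g
      rw [← hns]
      simp only [map_mul]
      rw [show QuotientGroup.mk' N (n : G) = 1 from (QuotientGroup.eq_one_iff _).2 n.2, one_mul]
  have hNt : N ≠ ⊤ := fun h => hQt (by
    have := hc.disjoint
    rw [h, disjoint_iff, top_inf_eq] at this
    exact this.symm)
  haveI : Nontrivial (G ⧸ N) := by
    rw [QuotientGroup.nontrivial_iff] at *
    exact hNt
  have hlt := IsSolvable.commutator_lt_top_of_nontrivial (G ⧸ N)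
  refine hlt.ne ?_
  have hperf' : (⁅(⊤ : Subgroup G), (⊤ : Subgroup G)⁆) = ⊤ := (commutator_def G).symm.trans hperf.commutator_eq_top
  have := congrArg (Subgroup.map (QuotientGroup.mk' N)) hperf'
  rwa [Subgroup.map_commutator, Subgroup.map_top_of_surjective _ (QuotientGroup.mk'_surjective N)] at this

end Cfsg.Agent.S2910
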