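import Cfsg.Statements.S2911
import Mathlib.GroupTheory.SpecificGroups.Dihedral
import Cfsg.Agent.Lib.LocalEven.Kieler
import Cfsg.Agent.Lib.Involutions.Fusion
import Cfsg.Agent.S0111

set_option autoImplicit false
open Cfsg Cfsg.Agent Cfsg.Agent.Lib Cfsg.Agent.Lib.LocalEven
open scoped commutatorElement

namespace Cfsg.Agent.S2911

namespace Aux

abbrev X := Multiplicative (ZMod 2) × DihedralGroup 4

def zX : X := (1, DihedralGroup.r 2)
def tX : X := (Multiplicative.ofAdd 1, DihedralGroup.r 0)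
def tX' : X := (Multiplicative.ofAdd 1, DihedralGroup.r 2)
def aX (c : ZMod 2) : X := (Multiplicative.ofAdd c, DihedralGroup.sr 0)
def bX (c : ZMod 2) : X := (Multiplicative.ofAdd c, DihedralGroup.sr 1)

def chiFun (α γ : ZMod 2) : X → Multiplicative (ZMod 2) := fun x =>
  match x.2 with
  | DihedralGroup.r i => Multiplicative.ofAdd (x.1.toAdd + γ * (i.val : ZMod 2))
  | DihedralGroup.sr i => Multiplicative.ofAdd (x.1.toAdd + α + γ * (i.val : ZMod 2))

set_option maxRecDepth 8000 in
theorem chiFun_mul : ∀ α γ : ZMod 2, ∀ x y : X, chiFun α γ (x * y) = chiFun α γ x * chiFun α γ y := by decide +kernel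

def chi (α γ : ZMod 2) : X →* Multiplicative (ZMod 2) := MonoidHom.mk' (chiFun α γ) (chiFun_mul α γ)

theorem central : ∀ x : X, x * zX = zX * x ∧ x * tX = tX * x ∧ x * tX' = tX' * x := by decide +kernel

theorem sq_cases : ∀ x : X, x * x = 1 ∨ x * x = zX := by decide +kernel

set_option synthInstance.maxSize 2000 in
theorem invol_cases : ∀ w : X, w * w = 1 → w ≠ 1 → w = zX ∨ w = tX ∨ w = tX' ∨
    ∃ k : X, k * w * k⁻¹ = aX 0 ∨ k * w * k⁻¹ = aX 1 ∨ k * w * k⁻¹ = bX 0 ∨ k * w * k⁻¹ = bX 1 := by decide +kernel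

theorem ker_cases : ∀ α γ : ZMod 2, ∀ w : X, w * w = 1 → chiFun α γ w = 1 → w = 1 ∨ w = zX ∨
    ∃ k : X, k * w * k⁻¹ = aX α ∨ k * w * k⁻¹ = bX (α + γ) := by decide +kernel

theorem t_notMem : ∀ α γ : ZMod 2, chiFun α γ tX ≠ 1 ∧ chiFun α γ tX' ≠ 1 := by decide +kernel

theorem az_conj : ∀ c : ZMod 2, (∃ k : X, k * (aX c * zX) * k⁻¹ = aX c) ∧ (∃ k : X, k * (bX c * zX) * k⁻¹ = bX c) := by
  decide +kernel

variable {G : Type*} [Group G] [Finite G] (S : Sylow 2 G) (e : X →* G) (heS : ∀ x, e x ∈ (S : Subgroup G))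
  (hinj : Function.Injective e) (hsurj : ∀ s ∈ (S : Subgroup G), ∃ x, e x = s)

include heS hsurj in
theorem conj_in_S {u g : G} (hu : u ∈ Subgroup.centralizer ((S : Subgroup G) : Set G)) {P : Subgroup G}
    (hP : IsPGroup 2 P) (hPc : ∀ a ∈ P, g * a * g⁻¹ * u = u * (g * a * g⁻¹)) :
    ∃ c ∈ Subgroup.centralizer ({u} : Set G), ∀ a ∈ P, c * g * a * (c * g)⁻¹ ∈ (S : Subgroup G) := by
  have hSC : (S : Subgroup G) ≤ Subgroup.centralizer ({u} : Set G) := fun s hs =>
    Subgroup.mem_centralizer_singleton_iff.2 (Subgroup.mem_centralizer_iff.1 hu s hs)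
  obtain ⟨c, hc, hle⟩ := ((isSylowOf_top S).mono hSC le_top).exists_conj_le (A := conjS g P)
    (fun y hy => by
      obtain ⟨a, ha, rfl⟩ := hy
      exact Subgroup.mem_centralizer_singleton_iff.2 (by simpa using hPc a ha))
    (hP.map _)
  refine ⟨c, hc, fun a ha => ?_⟩
  have := hle (conj_mem_conjS (g := c) (conj_mem_conjS (g := g) ha))
  simpa [mul_assoc] using this

include heS hinj hsurj in
theorem exists_index_two : ∃ H : Subgroup G, H.index = 2 := by
  have hcent : ∀ u : X, (∀ x, x * u = u * x) → e u ∈ Subgroup.centralizer ((S : Subgroup G) : Set G) := by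
    intro u hu
    refine Subgroup.mem_centralizer_iff.2 fun s hs => ?_
    obtain ⟨x, rfl⟩ := hsurj s hs
    rw [← map_mul, ← map_mul, hu]
  have hz := hcent zX fun x => (central x).1
  have ht := hcent tX fun x => (central x).2.1
  have ht' := hcent tX' fun x => (central x).2.2
  -- fusion of central elements is induced by `N(S)`
  have hburn : ∀ u v : X, e u ∈ Subgroup.centralizer ((S : Subgroup G) : Set G) →
      e v ∈ Subgroup.centralizer ((S : Subgroup G) : Set G) → IsConj (e u) (e v) →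
      ∃ n ∈ Subgroup.normalizer ((S : Subgroup G) : Set G), n * e u * n⁻¹ = e v := by
    intro u v hu hv huv
    obtain ⟨g, hg⟩ := isConj_iff.1 huv
    obtain ⟨c, hc, hcS⟩ := conj_in_S S e heS hsurj hv (g := g) S.isPGroup' (fun a ha => by
      rw [← hg]
      have h1 := Subgroup.mem_centralizer_iff.1 hu a ha
      calc g * a * g⁻¹ * (g * e u * g⁻¹) = g * (a * e u) * g⁻¹ := by group
        _ = g * (e u * a) * g⁻¹ := by rw [h1]
        _ = _ := by group)
    refine ⟨c * g, ?_, ?_⟩
    · have h2 : conjS (c * g) (S : Subgroup G) = (S : Subgroup G) := Subgroup.eq_of_le_of_card_ge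
        (by rintro _ ⟨a, ha, rfl⟩; exact hcS a ha) (le_of_eq (by
          exact (Subgroup.card_map_of_injective (MulAut.conj (c * g)).injective).symm))
      refine Subgroup.mem_normalizer_iff.2 fun a => ⟨fun ha => h2.le (conj_mem_conjS ha), fun ha => ?_⟩
      rw [← h2] at ha
      obtain ⟨b, hb, hbe⟩ := ha
      obtain rfl := (MulAut.conj (c * g)).injective hbe
      exact hb
    · calc c * g * e u * (c * g)⁻¹ = c * (g * e u * g⁻¹) * c⁻¹ := by group
        _ = c * e v * c⁻¹ := by rw [hg]
        _ = e v * c * c⁻¹ := by rw [Subgroup.mem_centralizer_singleton_iff.1 hc]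
        _ = e v := by group
  have hnz : ∀ n ∈ Subgroup.normalizer ((S : Subgroup G) : Set G), n * e zX * n⁻¹ = e zX := by
    intro n hn
    obtain ⟨y, hy⟩ := hsurj _ ((Subgroup.mem_normalizer_iff.1 hn _).1 (heS ((1 : Multiplicative (ZMod 2)), DihedralGroup.r 1)))
    have h1 : n * e zX * n⁻¹ = e (y * y) := by
      rw [map_mul, hy, show zX = ((1 : Multiplicative (ZMod 2)), DihedralGroup.r (1 : ZMod 4)) * (1, DihedralGroup.r 1) by decide,
        map_mul]
      group
    rcases sq_cases y with h | h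
    · rw [h, map_one, mul_inv_eq_one, mul_eq_left] at h1
      exact absurd (hinj (h1.trans e.map_one.symm)) (by decide)
    · rw [h1, h]
  have hneg : ¬ IsConj (e tX) (e zX) ∧ ¬ IsConj (e tX') (e zX) ∧ ¬ IsConj (e tX) (e tX') := by
    refine ⟨fun h => ?_, fun h => ?_, fun h => ?_⟩
    · obtain ⟨n, hn, h1⟩ := hburn _ _ ht hz h
      have h2 := h1.trans (hnz n hn).symm
      exact absurd (hinj (mul_left_cancel (mul_right_cancel h2))) (by decide)
    · obtain ⟨n, hn, h1⟩ := hburn _ _ ht' hz h
      have h2 := h1.trans (hnz n hn).symm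
      exact absurd (hinj (mul_left_cancel (mul_right_cancel h2))) (by decide)
    · obtain ⟨n, hn, h1⟩ := hburn _ _ ht ht' h
      obtain ⟨a, b, ha, hb, hcop, hab⟩ := Involutions.exists_coprime_mul_of_mem_normalizer S hn
      have hbt : b * e tX * b⁻¹ = e tX := by
        rw [Subgroup.mem_centralizer_iff.1 ht b hb]; group
      have ha1 : MulAut.conj a (e tX) = e tX' := by
        rw [MulAut.conj_apply, ← h1, hab]
        calc a * e tX * a⁻¹ = a * (b * e tX * b⁻¹) * a⁻¹ := by rw [hbt]
          _ = _ := by group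
      have ha2 : MulAut.conj a (e tX') = e tX := by
        rw [MulAut.conj_apply, show tX' = tX * zX by decide, map_mul,
          show a * (e tX * e zX) * a⁻¹ = (a * e tX * a⁻¹) * (a * e zX * a⁻¹) by group, hnz a ha,
          ← MulAut.conj_apply, ha1, ← map_mul, show tX' * zX = tX by decide]
      have ha3 : a ^ 2 ∈ Subgroup.centralizer ({e tX} : Set G) := by
        have h3 : MulAut.conj (a ^ 2) (e tX) = e tX := by
          rw [map_pow, pow_two, MulAut.mul_apply, ha1, ha2]
        rw [MulAut.conj_apply, mul_inv_eq_iff_eq_mul] at h3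
        exact Subgroup.mem_centralizer_singleton_iff.2 h3
      obtain ⟨m, hm⟩ := exists_pow_eq_self_of_coprime (x := a) (n := 2) hcop.symm
      have ha4 : a ∈ Subgroup.centralizer ({e tX} : Set G) := hm ▸ pow_mem ha3 m
      rw [MulAut.conj_apply, Subgroup.mem_centralizer_singleton_iff.1 ha4, mul_inv_cancel_right] at ha1
      exact absurd (hinj ha1) (by decide)
  obtain ⟨hn1, hn2, hn3⟩ := hneg
  have hord : ∀ u : X, u * u = 1 → u ≠ 1 → orderOf (e u) = 2 := fun u h h' => by
    rw [orderOf_injective e hinj]; exact orderOf_eq_prime (by rw [pow_two, h]) h'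
  have hXconj : ∀ k w : X, IsConj (e w) (e (k * w * k⁻¹)) := fun k w =>
    isConj_iff.2 ⟨e k, by rw [map_mul, map_mul, map_inv]⟩
  by_contra hcon
  have key : ∀ u, (u = tX ∨ u = tX') → ∀ α γ : ZMod 2, IsConj (e u) (e (aX α)) ∨ IsConj (e u) (e (bX (α + γ))) := by
    intro u hu α γ
    have hu1 : u * u = 1 ∧ u ≠ 1 ∧ chiFun α γ u ≠ 1 ∧ ¬ IsConj (e u) (e zX) := by
      rcases hu with h | h <;> rw [h]
      · exact ⟨by decide, by decide, (t_notMem α γ).1, hn1⟩
      · exact ⟨by decide, by decide, (t_notMem α γ).2, hn2⟩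
    obtain ⟨hu2, hune, huchi, huz⟩ := hu1
    have hQ : ((chi α γ).ker.map e).relIndex (S : Subgroup G) = 2 := by
      have hS : (S : Subgroup G) = (⊤ : Subgroup X).map e := le_antisymm
        (fun s hs => by obtain ⟨x, rfl⟩ := hsurj s hs; exact ⟨x, trivial, rfl⟩)
        (by rintro _ ⟨x, -, rfl⟩; exact heS x)
      rw [hS, Subgroup.relIndex_map_map_of_injective _ _ hinj, Subgroup.relIndex_top_right, Subgroup.index_ker,
        Nat.card_congr (MulEquiv.subgroupCongr (MonoidHom.range_eq_top.2 fun m => ?_)).toEquiv,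
        Nat.card_congr Subgroup.topEquiv.toEquiv, Nat.card_congr (Multiplicative.toAdd (α := ZMod 2)), Nat.card_zmod]
      · revert huchi
        show chiFun α γ u ≠ 1 → _
        intro huchi
        by_cases hm : m = 1
        · exact ⟨1, by rw [hm, map_one]⟩
        · refine ⟨u, ?_⟩
          show chiFun α γ u = m
          revert hm huchi
          generalize chiFun α γ u = w
          revert w m
          decide
    rcases Cfsg.Agent.S0111.result S ((chi α γ).ker.map e) (by rintro _ ⟨x, -, rfl⟩; exact heS x) hQ (e u)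
      (hord u hu2 hune) (heS u) (by
        rintro ⟨x, hx, hxu⟩
        rw [hinj hxu] at hx
        exact huchi hx) with ⟨M, -, hM, -⟩ | ⟨g, hg⟩
    · exact absurd ⟨M, hM⟩ hcon
    · obtain ⟨w, hw, hwe⟩ := hg
      have hc : IsConj (e u) (e w) := isConj_iff.2 ⟨g, hwe.symm⟩
      have hw2 : w * w = 1 := hinj (by
        rw [map_mul, map_one, hwe, show g * e u * g⁻¹ * (g * e u * g⁻¹) = g * (e u * e u) * g⁻¹ by group,
          ← map_mul, hu2, map_one]; group)
      rcases ker_cases α γ w hw2 hw with h | h | ⟨k, h | h⟩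
      · rw [h, map_one, isConj_one_left] at hc
        exact absurd (hinj (hc.trans e.map_one.symm)) hune
      · exact absurd (h ▸ hc) huz
      · exact Or.inl (h ▸ hc.trans (hXconj k w))
      · exact Or.inr (h ▸ hc.trans (hXconj k w))
  have pairs : ∀ u, (u = tX ∨ u = tX') →
      (IsConj (e u) (e (aX 0)) ∧ IsConj (e u) (e (aX 1))) ∨ (IsConj (e u) (e (bX 0)) ∧ IsConj (e u) (e (bX 1))) := by
    intro u hu
    have h00 := key u hu 0 0
    have h01 := key u hu 0 1
    have h10 := key u hu 1 1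
    have h11 := key u hu 1 0
    rw [show (0 : ZMod 2) + 0 = 0 by decide] at h00
    rw [show (0 : ZMod 2) + 1 = 1 by decide] at h01
    rw [show (1 : ZMod 2) + 1 = 0 by decide] at h10
    rw [show (1 : ZMod 2) + 0 = 1 by decide] at h11
    tauto
  -- the class of `zX` meets `S` only in `zX`
  have hiso : ∀ w : X, IsConj (e zX) (e w) → w = zX := by
    intro w hw
    have hw2 : w * w = 1 ∧ w ≠ 1 := by
      obtain ⟨g, hg⟩ := isConj_iff.1 hw
      refine ⟨hinj ?_, fun h => ?_⟩
      · rw [map_mul, map_one, ← hg, show g * e zX * g⁻¹ * (g * e zX * g⁻¹) = g * (e zX * e zX) * g⁻¹ by group,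
          ← map_mul, show zX * zX = 1 by decide, map_one]; group
      · rw [h, map_one, isConj_one_left] at hw
        exact absurd (hinj (hw.trans e.map_one.symm)) (by decide)
    rcases invol_cases w hw2.1 hw2.2 with h | h | h | ⟨k, hk⟩
    · exact h
    · exact absurd (h ▸ hw).symm hn1
    · exact absurd (h ▸ hw).symm hn2
    · exfalso
      have h1 : ∀ v, IsConj (e zX) (e v) → ¬ IsConj (e tX) (e v) ∧ ¬ IsConj (e tX') (e v) := fun v hv =>
        ⟨fun h' => hn1 (h'.trans hv.symm), fun h' => hn2 (h'.trans hv.symm)⟩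
      have h3 : ∀ v, IsConj (e tX) (e v) → IsConj (e tX') (e v) → False := fun v h' h'' => hn3 (h'.trans h''.symm)
      have hz' := hw.trans (hXconj k w)
      rcases pairs tX (Or.inl rfl) with p | p <;> rcases pairs tX' (Or.inr rfl) with q | q <;>
        rcases hk with hk | hk | hk | hk <;> rw [hk] at hz' <;>
        first
          | exact (h1 _ hz').1 p.1
          | exact (h1 _ hz').1 p.2
          | exact (h1 _ hz').2 q.1
          | exact (h1 _ hz').2 q.2
          | exact h3 _ p.1 q.1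
  obtain ⟨a, hat, k, hk⟩ : ∃ a, IsConj (e tX) (e a) ∧ ∃ k : X, k * (a * zX) * k⁻¹ = a := by
    rcases pairs tX (Or.inl rfl) with p | p
    · exact ⟨_, p.1, (az_conj 0).1⟩
    · exact ⟨_, p.1, (az_conj 0).2⟩
  obtain ⟨g, hg⟩ := isConj_iff.1 hat.symm
  obtain ⟨c, hc, hcS⟩ := conj_in_S S e heS hsurj ht (g := g) (P := (Subgroup.closure ({a, zX} : Set X)).map e)
    (S.isPGroup'.to_le (by rintro _ ⟨x, -, rfl⟩; exact heS x)) (by
      rintro _ ⟨x, hx, rfl⟩
      have hxa : x * a = a * x := by
        induction hx using Subgroup.closure_induction with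
        | mem y hy => rcases hy with h | h <;> rw [h]; exact ((central a).1).symm
        | one => rw [one_mul, mul_one]
        | mul y y' _ _ i1 i2 => rw [mul_assoc, i2, ← mul_assoc, i1, mul_assoc]
        | inv y _ i1 => exact (show Commute y a from i1).inv_left
      rw [← hg]
      calc g * e x * g⁻¹ * (g * e a * g⁻¹) = g * (e x * e a) * g⁻¹ := by group
        _ = g * (e a * e x) * g⁻¹ := by rw [← map_mul, hxa, map_mul]
        _ = _ := by group)
  set x := c * g with hx
  have hxa : x * e a * x⁻¹ = e tX := by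
    calc c * g * e a * (c * g)⁻¹ = c * (g * e a * g⁻¹) * c⁻¹ := by group
      _ = c * e tX * c⁻¹ := by rw [hg]
      _ = e tX * c * c⁻¹ := by rw [Subgroup.mem_centralizer_singleton_iff.1 hc]
      _ = _ := by group
  obtain ⟨w, hw⟩ := hsurj _ (hcS (e zX) ⟨zX, Subgroup.subset_closure (Or.inr rfl), rfl⟩)
  have hwz : x * e zX * x⁻¹ = e zX := by
    rw [← hw, hiso w (isConj_iff.2 ⟨x, hw.symm⟩)]
  have h2 : IsConj (e (a * zX)) (e tX') := isConj_iff.2 ⟨x, by
    rw [map_mul, show x * (e a * e zX) * x⁻¹ = (x * e a * x⁻¹) * (x * e zX * x⁻¹) by group, hxa, hwz, ← map_mul,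
      show tX * zX = tX' by decide]⟩
  exact hn3 (hat.trans ((hk ▸ hXconj k (a * zX)).symm.trans h2))

end Aux

/-- A finite group whose Sylow 2-subgroups are isomorphic to the direct product of a group of order 2 and a dihedral group of order 8 has a subgroup of index two. -/
theorem result {G : Type*} [Group G] [Finite G] (S : Sylow 2 G) (hS : Nonempty (↥(S : Subgroup G) ≃* Multiplicative (ZMod 2) × DihedralGroup 4)) : ∃ H : Subgroup G, H.index = 2 := by
  obtain ⟨f⟩ := hS
  exact Aux.exists_index_two S ((S : Subgroup G).subtype.comp f.symm.toMonoidHom) (fun x => (f.symm x).2)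
    (Subtype.val_injective.comp f.symm.injective) (fun s hs => ⟨f ⟨s, hs⟩, by simp⟩)

end Cfsg.Agent.S2911
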