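import Cfsg.Statements.S2912
import Mathlib.LinearAlgebra.Eigenspace.Triangularizable
import Mathlib.FieldTheory.IsAlgClosed.AlgebraicClosure
import Mathlib.LinearAlgebra.Matrix.ToLin
import Mathlib.LinearAlgebra.LinearIndependent.Basic
import Mathlib.Algebra.CharP.Frobenius
import Mathlib.FieldTheory.Finite.Basic
import Mathlib.LinearAlgebra.Dual.Lemmas
import Mathlib.GroupTheory.SpecificGroups.Cyclic
import Mathlib.Algebra.Module.ZMod

set_option autoImplicit false
open Cfsg
open scoped commutatorElement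

namespace Cfsg.Agent.S2912

universe v

namespace Aux

variable {E : Type v} [Group E] [Finite E] {p : ℕ} [hp : Fact p.Prime]

theorem center_pow (hE : Cfsg.IsExtraspecial p E) {c : E} (hc : c ∈ Subgroup.center E) : c ^ p = 1 := by
  have h : (⟨c, hc⟩ : Subgroup.center E) ^ Nat.card (Subgroup.center E) = 1 := pow_card_eq_one'
  rw [hE.2] at h
  exact congrArg Subtype.val h

theorem comm_mem (hE : Cfsg.IsExtraspecial p E) (a b : E) : ⁅a, b⁆ ∈ Subgroup.center E := by
  rw [← hE.1.2.2, commutator_def]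
  exact Subgroup.commutator_mem_commutator trivial trivial

theorem comm_mul (hE : Cfsg.IsExtraspecial p E) (a b x : E) : ⁅a * b, x⁆ = ⁅a, x⁆ * ⁅b, x⁆ := by
  have h := Subgroup.mem_center_iff.1 (comm_mem hE b x) a
  rw [show ⁅a * b, x⁆ = a * ⁅b, x⁆ * a⁻¹ * ⁅a, x⁆ by simp [commutatorElement_def, mul_assoc], h,
    mul_inv_cancel_right, Subgroup.mem_center_iff.1 (comm_mem hE b x)]

/-- `|D| |C(D)| ≤ |E| |Z(E)|` for `D` containing the centre. -/
theorem card_mul_card_centralizer_le (hE : Cfsg.IsExtraspecial p E) :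
    ∀ D : Subgroup E, Subgroup.center E ≤ D →
      Nat.card D * Nat.card ↥(Subgroup.centralizer (D : Set E)) ≤ Nat.card E * p := by
  intro D
  induction D using WellFoundedGT.induction with
  | ind D ih =>
    intro hD
    by_cases htop : D = ⊤
    · subst htop
      rw [Subgroup.card_top, show Subgroup.centralizer ((⊤ : Subgroup E) : Set E) = Subgroup.center E by
        rw [Subgroup.coe_top, Subgroup.centralizer_univ], hE.2]
    obtain ⟨x, hx⟩ : ∃ x, x ∉ D := by
      by_contra hcon; push Not at hcon; exact htop (eq_top_iff.2 fun y _ => hcon y)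
    set D' := D ⊔ Subgroup.zpowers x with hD'
    have hlt : D < D' := lt_of_le_of_ne le_sup_left fun e => hx (by
      rw [e]; exact Subgroup.mem_sup_right (Subgroup.mem_zpowers x))
    have h1 := ih D' hlt (hD.trans hlt.le)
    let φ : ↥(Subgroup.centralizer (D : Set E)) →* Subgroup.center E :=
      MonoidHom.mk' (fun d => ⟨⁅(d : E), x⁆, comm_mem hE _ _⟩) fun a b => Subtype.ext (comm_mul hE _ _ _)
    have hker : φ.ker.map (Subgroup.centralizer (D : Set E)).subtype ≤ Subgroup.centralizer (D' : Set E) := by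
      rintro _ ⟨d, hd, rfl⟩
      have hdx : ⁅(d : E), x⁆ = 1 := congrArg Subtype.val hd
      have hle : D' ≤ Subgroup.centralizer ({(d : E)} : Set E) := sup_le
        (fun a ha => Subgroup.mem_centralizer_singleton_iff.2 (Subgroup.mem_centralizer_iff.1 d.2 a ha))
        (Subgroup.zpowers_le.2 (Subgroup.mem_centralizer_singleton_iff.2
          (commutatorElement_eq_one_iff_commute.1 hdx).symm.eq))
      exact Subgroup.mem_centralizer_iff.2 fun y hy => Subgroup.mem_centralizer_singleton_iff.1 (hle hy)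
    have h2 : Nat.card ↥(Subgroup.centralizer (D : Set E)) ≤ p * Nat.card ↥(Subgroup.centralizer (D' : Set E)) := by
      rw [← φ.ker.index_mul_card, Subgroup.index_ker]
      refine Nat.mul_le_mul ?_ ?_
      · rw [← hE.2]; exact Subgroup.card_le_card_group _
      · rw [← Subgroup.card_map_of_injective (K := φ.ker) (Subgroup.centralizer (D : Set E)).subtype_injective]
        exact Subgroup.card_le_of_le hker
    have h3 : Nat.card D * p ≤ Nat.card D' := by
      obtain ⟨a, ha⟩ := IsPGroup.iff_card.1 (hE.1.1.to_subgroup D)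
      obtain ⟨b, hb⟩ := IsPGroup.iff_card.1 (hE.1.1.to_subgroup D')
      have hab : a < b := by
        have : Nat.card D < Nat.card D' := by
          refine lt_of_le_of_ne (Subgroup.card_le_of_le hlt.le) fun e => hlt.ne ?_
          exact Subgroup.eq_of_le_of_card_ge hlt.le e.ge
        rw [ha, hb] at this
        exact (Nat.pow_lt_pow_iff_right hp.out.one_lt).1 this
      rw [ha, hb, ← pow_succ]
      exact Nat.pow_le_pow_right hp.out.pos hab
    calc Nat.card D * Nat.card ↥(Subgroup.centralizer (D : Set E))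
        ≤ Nat.card D * (p * Nat.card ↥(Subgroup.centralizer (D' : Set E))) := Nat.mul_le_mul le_rfl h2
      _ = Nat.card D * p * Nat.card ↥(Subgroup.centralizer (D' : Set E)) := by ring
      _ ≤ Nat.card D' * Nat.card ↥(Subgroup.centralizer (D' : Set E)) := Nat.mul_le_mul h3 le_rfl
      _ ≤ _ := h1

/-- A self-centralizing abelian subgroup of small order. -/
theorem exists_self_centralizing (hE : Cfsg.IsExtraspecial p E) (w : ℕ) (hcard : Nat.card E = p ^ (2 * w + 1)) :
    ∃ B : Subgroup E, Subgroup.center E ≤ B ∧ Subgroup.centralizer (B : Set E) = B ∧ p ^ w ≤ B.index := by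
  obtain ⟨B, ⟨hZB, hBc⟩, hmax⟩ := Finite.exists_le_maximal
    (p := fun B : Subgroup E => Subgroup.center E ≤ B ∧ B ≤ Subgroup.centralizer (B : Set E))
    (a := Subgroup.center E) ⟨le_rfl, fun c hc => Subgroup.mem_centralizer_iff.2 fun d _ => Subgroup.mem_center_iff.1 hc d⟩
    |>.imp fun B h => h.2
  have hB : Subgroup.centralizer (B : Set E) = B := by
    refine le_antisymm (fun x hx => ?_) hBc
    have hle : B ≤ Subgroup.closure ((B : Set E) ∪ {x}) := fun b hb => Subgroup.subset_closure (Or.inl hb)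
    have hab : Subgroup.closure ((B : Set E) ∪ {x}) ≤
        Subgroup.centralizer (Subgroup.closure ((B : Set E) ∪ {x}) : Set E) := by
      rw [Subgroup.centralizer_closure, Subgroup.closure_le]
      rintro a (ha | ha) <;> refine Subgroup.mem_centralizer_iff.2 ?_ <;> rintro b (hb | hb)
      · exact Subgroup.mem_centralizer_iff.1 (hBc ha) b hb
      · rw [Set.mem_singleton_iff.1 hb]; exact (Subgroup.mem_centralizer_iff.1 hx a ha).symm
      · rw [Set.mem_singleton_iff.1 ha]; exact Subgroup.mem_centralizer_iff.1 hx b hb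
      · rw [Set.mem_singleton_iff.1 ha, Set.mem_singleton_iff.1 hb]
    exact hmax ⟨hZB.trans hle, hab⟩ hle (Subgroup.subset_closure (Or.inr rfl))
  refine ⟨B, hZB, hB, ?_⟩
  have h := card_mul_card_centralizer_le hE B hZB
  rw [hB, hcard, ← pow_succ] at h
  have h1 : Nat.card B ≤ p ^ (w + 1) := by
    refine Nat.mul_self_le_mul_self_iff.1 (h.trans (le_of_eq ?_))
    rw [← pow_add]; congr 1; omega
  by_contra hlt
  push Not at hlt
  have h2 := Nat.mul_lt_mul_of_le_of_lt h1 hlt (pow_pos hp.out.pos _)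
  rw [B.card_mul_index, hcard, ← pow_add, show w + 1 + w = 2 * w + 1 by ring] at h2
  exact lt_irrefl _ h2

variable {k : Type*} [Field k] [IsAlgClosed k] {V : Type*} [AddCommGroup V] [Module k V] [FiniteDimensional k V]

/-- Commuting operators preserving `U` have a common eigenvector in `U`. -/
theorem exists_common_eigenvector {ι : Type*} (f : ι → Module.End k V) (hc : ∀ a b, f a * f b = f b * f a)
    (U : Submodule k V) (hU : U ≠ ⊥) (hinv : ∀ a, ∀ v ∈ U, f a v ∈ U) (s : Finset ι) :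
    ∃ W ≤ U, W ≠ ⊥ ∧ (∀ a, ∀ v ∈ W, f a v ∈ W) ∧ ∀ a ∈ s, ∃ μ : k, ∀ v ∈ W, f a v = μ • v := by
  classical
  induction s using Finset.induction with
  | empty => exact ⟨U, le_rfl, hU, hinv, by simp⟩
  | @insert b s _ ih =>
    obtain ⟨W, hWU, hW, hWinv, hWs⟩ := ih
    haveI : Nontrivial W := Submodule.nontrivial_iff_ne_bot.2 hW
    obtain ⟨μ, hμ⟩ := Module.End.exists_eigenvalue ((f b).restrict (hWinv b))
    obtain ⟨v, hv⟩ := hμ.exists_hasEigenvector
    refine ⟨W ⊓ (f b).eigenspace μ, inf_le_left.trans hWU, ?_, fun a v hv => ?_, fun a ha => ?_⟩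
    · intro h
      apply hv.2
      have h1 : (v : V) ∈ W ⊓ (f b).eigenspace μ := by
        refine Submodule.mem_inf.2 ⟨v.2, Module.End.mem_eigenspace_iff.2 ?_⟩
        exact congrArg Subtype.val hv.apply_eq_smul
      rw [h, Submodule.mem_bot] at h1
      exact Subtype.ext h1
    · obtain ⟨h1, h2⟩ := Submodule.mem_inf.1 hv
      refine Submodule.mem_inf.2 ⟨hWinv a v h1, Module.End.mem_eigenspace_iff.2 ?_⟩
      rw [← Module.End.mul_apply, hc, Module.End.mul_apply, Module.End.mem_eigenspace_iff.1 h2, map_smul]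
    · rcases Finset.mem_insert.1 ha with rfl | ha
      · exact ⟨μ, fun v hv => Module.End.mem_eigenspace_iff.1 (Submodule.mem_inf.1 hv).2⟩
      · obtain ⟨ν, hν⟩ := hWs a ha
        exact ⟨ν, fun v hv => hν v (Submodule.mem_inf.1 hv).1⟩

theorem finrank_ge_of_scalar (hE : Cfsg.IsExtraspecial p E) (w : ℕ) (hcard : Nat.card E = p ^ (2 * w + 1))
    (ρ : E →* Module.End k V) {z : E} (hz : z ∈ Subgroup.center E) (hz1 : z ≠ 1) {ζ : k} (hζ : orderOf ζ = p)
    (U : Submodule k V) (hU : U ≠ ⊥) (hinv : ∀ g, ∀ v ∈ U, ρ g v ∈ U) (hzU : ∀ v ∈ U, ρ z v = ζ • v) :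
    p ^ w ≤ Module.finrank k U := by
  classical
  obtain ⟨B, hZB, hB, hidx⟩ := exists_self_centralizing hE w hcard
  haveI := Fintype.ofFinite ↥B
  obtain ⟨W, hWU, hW, -, hWs⟩ := exists_common_eigenvector (fun b : ↥B => ρ b) (fun a b => by
    rw [← map_mul, ← map_mul]
    congr 1
    exact Subgroup.mem_centralizer_iff.1 (hB.ge b.2) a a.2) U hU (fun a => hinv a) Finset.univ
  choose χ hχ using fun b : ↥B => hWs b (Finset.mem_univ b)
  obtain ⟨v, hvW, hv⟩ := (Submodule.ne_bot_iff W).1 hW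
  have hχmul : ∀ a b : ↥B, χ (a * b) = χ a * χ b := by
    intro a b
    refine smul_left_injective k hv ?_
    show χ (a * b) • v = (χ a * χ b) • v
    rw [← hχ _ v hvW, Subgroup.coe_mul, map_mul, Module.End.mul_apply, hχ b v hvW, map_smul, hχ a v hvW, smul_smul,
      mul_comm]
  have hχ1 : χ 1 = 1 := smul_left_injective k hv (by
    show χ 1 • v = (1 : k) • v
    rw [← hχ _ v hvW, one_smul, Subgroup.coe_one, map_one, Module.End.one_apply])
  let χh : ↥B →* k := { toFun := χ, map_one' := hχ1, map_mul' := hχmul }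
  have hχz : χ ⟨z, hZB hz⟩ = ζ := smul_left_injective k hv (by
    show χ ⟨z, hZB hz⟩ • v = ζ • v
    rw [← hχ _ v hvW]; exact hzU v (hWU hvW))
  have hinjZ : ∀ c (hc : c ∈ Subgroup.center E), χ ⟨c, hZB hc⟩ = 1 → c = 1 := by
    intro c hc h
    obtain ⟨i, hi⟩ : ∃ i : ℕ, z ^ i = c := by
      obtain ⟨i, hi⟩ := mem_powers_of_prime_card (G := Subgroup.center E) hE.2
        (g := ⟨z, hz⟩) (g' := ⟨c, hc⟩) (fun e => hz1 (congrArg Subtype.val e))
      exact ⟨i, congrArg Subtype.val hi⟩
    have h1 : χh (⟨z, hZB hz⟩ ^ i) = 1 := by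
      rw [show (⟨z, hZB hz⟩ : ↥B) ^ i = ⟨c, hZB hc⟩ from Subtype.ext hi]; exact h
    rw [map_pow, show χh ⟨z, hZB hz⟩ = ζ from hχz, ← orderOf_dvd_iff_pow_eq_one, hζ] at h1
    obtain ⟨j, rfl⟩ := h1
    rw [← hi, pow_mul, center_pow hE hz, one_pow]
  have hconj : ∀ (x : E) (b : ↥B), x⁻¹ * b * x ∈ B := fun x b => by
    rw [show x⁻¹ * (b : E) * x = ⁅x⁻¹, (b : E)⁆ * b by simp [commutatorElement_def, mul_assoc]]
    exact mul_mem (hZB (comm_mem hE _ _)) b.2
  let χx : (E ⧸ B) → (↥B →* k) := fun q =>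
    χh.comp (MonoidHom.mk' (fun b : ↥B => (⟨q.out⁻¹ * b * q.out, hconj q.out b⟩ : ↥B))
      fun a b => Subtype.ext (by simp [mul_assoc]))
  have hχinj : Function.Injective χx := by
    intro q q' h
    rw [← QuotientGroup.out_eq' q, ← QuotientGroup.out_eq' q', QuotientGroup.eq]
    set x := q.out
    set y := q'.out
    suffices hyx : y * x⁻¹ ∈ B by
      simpa [mul_assoc] using hconj x ⟨_, hyx⟩
    refine hB.le (Subgroup.mem_centralizer_iff.2 fun b hb => ?_)
    have h1 : χh ⟨x⁻¹ * b * x, hconj x ⟨b, hb⟩⟩ = χh ⟨y⁻¹ * b * y, hconj y ⟨b, hb⟩⟩ := DFunLike.congr_fun h ⟨b, hb⟩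
    have hc : (y⁻¹ * b * y) * (x⁻¹ * b * x)⁻¹ ∈ Subgroup.center E := by
      rw [show (y⁻¹ * b * y) * (x⁻¹ * b * x)⁻¹ = ⁅y⁻¹, b⁆ * ⁅x⁻¹, b⁆⁻¹ by simp [commutatorElement_def, mul_assoc]]
      exact mul_mem (comm_mem hE _ _) (inv_mem (comm_mem hE _ _))
    have h2 : χh ⟨(y⁻¹ * b * y) * (x⁻¹ * b * x)⁻¹, hZB hc⟩ = 1 := by
      have e : (⟨(y⁻¹ * b * y) * (x⁻¹ * b * x)⁻¹, hZB hc⟩ : ↥B) * ⟨x⁻¹ * b * x, hconj x ⟨b, hb⟩⟩ =
          ⟨y⁻¹ * b * y, hconj y ⟨b, hb⟩⟩ := Subtype.ext (inv_mul_cancel_right _ _)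
      have h3 := congrArg χh e
      rw [map_mul, ← h1] at h3
      refine mul_right_cancel₀ ?_ (h3.trans (one_mul _).symm)
      intro h0
      have h4 : χh (⟨x⁻¹ * b * x, hconj x ⟨b, hb⟩⟩ * ⟨x⁻¹ * b * x, hconj x ⟨b, hb⟩⟩⁻¹) = 0 := by
        rw [map_mul, h0, zero_mul]
      rw [mul_inv_cancel, map_one] at h4
      exact one_ne_zero h4
    have h5 := hinjZ _ hc h2
    rw [mul_inv_eq_one] at h5
    calc b * (y * x⁻¹) = y * (y⁻¹ * b * y) * x⁻¹ := by group
      _ = y * (x⁻¹ * b * x) * x⁻¹ := by rw [h5]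
      _ = _ := by group
  haveI := Fintype.ofFinite (E ⧸ B)
  have hli : LinearIndependent k fun q : E ⧸ B => ρ q.out v := by
    rw [Fintype.linearIndependent_iff]
    intro a ha q
    by_contra haq
    have hne : ρ q.out v ≠ 0 := fun h0 => hv (by
      have := congrArg (ρ (q.out)⁻¹) h0
      rwa [map_zero, ← Module.End.mul_apply, ← map_mul, inv_mul_cancel, map_one, Module.End.one_apply] at this)
    obtain ⟨l, hl⟩ : ∃ l : Module.Dual k V, l (ρ q.out v) ≠ 0 := by
      by_contra hcon; push Not at hcon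
      exact hne ((Module.forall_dual_apply_eq_zero_iff k _).1 hcon)
    have hind := (linearIndependent_monoidHom ↥B k).comp χx hχinj
    rw [Fintype.linearIndependent_iff] at hind
    have h0 := hind (fun q' => a q' * l (ρ q'.out v)) (by
      ext b
      simp only [Finset.sum_apply, Pi.smul_apply, Pi.zero_apply, Function.comp_apply, smul_eq_mul]
      have hb := congrArg (fun u => l (ρ (b : E) u)) ha
      simp only [map_sum, map_smul, map_zero, smul_eq_mul] at hb
      rw [← hb]
      refine Finset.sum_congr rfl fun q' _ => ?_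
      have e : ρ (b : E) (ρ q'.out v) = χx q' b • ρ q'.out v := by
        rw [← Module.End.mul_apply, ← map_mul, show (b : E) * q'.out = q'.out * (q'.out⁻¹ * b * q'.out) by group,
          map_mul, Module.End.mul_apply, show ρ (q'.out⁻¹ * b * q'.out) v = χx q' b • v from
            hχ ⟨_, hconj q'.out b⟩ v hvW, map_smul]
      rw [e, map_smul, smul_eq_mul]; ring) q
    rcases mul_eq_zero.1 h0 with h | h
    · exact haq h
    · exact hl h
  have hle : Submodule.span k (Set.range fun q : E ⧸ B => ρ q.out v) ≤ U :=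
    Submodule.span_le.2 (by rintro _ ⟨q, rfl⟩; exact hinv _ v (hWU hvW))
  have := Submodule.finrank_mono hle
  rw [finrank_span_eq_card hli, ← Nat.card_eq_fintype_card] at this
  exact hidx.trans this

set_option maxHeartbeats 1000000 in
theorem card_bound {E : Type v} [Group E] [Finite E] {p r : ℕ} [Fact p.Prime] [hr : Fact r.Prime] (hrp : r.Coprime p)
    {w n : ℕ} (hE : Cfsg.IsExtraspecial p E) (hcard : Nat.card E = p ^ (2 * w + 1))
    {V : Type v} [AddCommGroup V] [Module (ZMod r) V] [Finite V] (act : E →* Module.End (ZMod r) V)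
    (hfaith : ∀ z, act z = 1 → z = 1) (hmin : ∀ k : ℕ, 1 ≤ k → p ∣ r ^ k - 1 → n ≤ k) :
    r ^ (n * p ^ w) ≤ Nat.card V := by
  classical
  set d := Module.finrank (ZMod r) V with hd
  rw [Module.natCard_eq_pow_finrank (K := ZMod r) (V := V), Nat.card_zmod, ← hd]
  refine Nat.pow_le_pow_right hr.out.pos ?_
  let bas := Module.finBasis (ZMod r) (V)
  let k := AlgebraicClosure (ZMod r)
  haveI : CharP k r := charP_of_injective_algebraMap (algebraMap (ZMod r) k).injective r
  let σ : Matrix (Fin d) (Fin d) (ZMod r) →+* Matrix (Fin d) (Fin d) k := (algebraMap (ZMod r) k).mapMatrix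
  let ρ : E →* Module.End k (Fin d → k) :=
    (Matrix.toLinAlgEquiv' : Matrix (Fin d) (Fin d) k ≃ₐ[k] _).toMonoidHom.comp
      (σ.toMonoidHom.comp ((LinearMap.toMatrixAlgEquiv bas).toMonoidHom.comp act))
  obtain ⟨z, hz, hz1⟩ : ∃ z : E, z ∈ Subgroup.center E ∧ z ≠ 1 := by
    haveI : Nontrivial ↥(Subgroup.center E) := Finite.one_lt_card_iff_nontrivial.1 (by
      rw [hE.2]; exact (Fact.out : p.Prime).one_lt)
    obtain ⟨⟨z, hz⟩, hne⟩ := exists_ne (1 : ↥(Subgroup.center E))
    exact ⟨z, hz, fun e => hne (Subtype.ext e)⟩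
  have hzp : ρ z ^ p = 1 := by rw [← map_pow, Aux.center_pow hE hz, map_one]
  have hρz : ρ z ≠ 1 := by
    intro h
    apply hz1
    have h1 : act z = 1 := by
      refine (LinearMap.toMatrixAlgEquiv bas).injective ?_
      refine Matrix.map_injective (algebraMap (ZMod r) k).injective ?_
      refine Matrix.toLinAlgEquiv'.injective ?_
      rw [map_one]
      simpa [ρ, σ] using h
    exact hfaith z h1
  -- an eigenvalue of order `p`
  obtain ⟨ζ, hζ1, v, hv0, hv⟩ : ∃ ζ : k, ζ ≠ 1 ∧ ∃ v : Fin d → k, v ≠ 0 ∧ ρ z v = ζ • v := by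
    set R := LinearMap.range (ρ z - 1) with hR
    have hRne : R ≠ ⊥ := fun h => hρz (sub_eq_zero.1 (LinearMap.range_eq_bot.1 h))
    have hRinv : ∀ x ∈ R, ρ z x ∈ R := by
      rintro _ ⟨u, rfl⟩
      exact ⟨ρ z u, by simp [map_sub]⟩
    haveI : Nontrivial R := Submodule.nontrivial_iff_ne_bot.2 hRne
    obtain ⟨ζ, hζ⟩ := Module.End.exists_eigenvalue ((ρ z).restrict hRinv)
    obtain ⟨x, hx⟩ := hζ.exists_hasEigenvector
    have hx1 : ρ z (x : Fin d → k) = ζ • (x : Fin d → k) := congrArg Subtype.val hx.apply_eq_smul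
    have hx0 : (x : Fin d → k) ≠ 0 := fun e => hx.2 (Subtype.ext e)
    refine ⟨ζ, ?_, x, hx0, hx1⟩
    rintro rfl
    rw [one_smul] at hx1
    obtain ⟨u, hu⟩ := x.2
    rw [LinearMap.sub_apply, Module.End.one_apply, sub_eq_iff_eq_add] at hu
    have hj : ∀ j : ℕ, (ρ z ^ j) u = j • (x : Fin d → k) + u := by
      intro j
      induction j with
      | zero => simp
      | succ j ih => rw [pow_succ', Module.End.mul_apply, ih, map_add, map_nsmul, hx1, hu, succ_nsmul]; abel
    have h5 := hj p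
    rw [hzp, Module.End.one_apply, eq_comm, add_eq_right, ← Nat.cast_smul_eq_nsmul k, smul_eq_zero] at h5
    rcases h5 with h5 | h5
    · rw [CharP.cast_eq_zero_iff k r] at h5
      exact hr.out.ne_one ((Nat.coprime_self r).1 (hrp.coprime_dvd_right h5))
    · exact hx0 h5
  have hζp : ζ ^ p = 1 := by
    have h1 : ∀ j : ℕ, (ρ z ^ j) v = ζ ^ j • v := by
      intro j
      induction j with
      | zero => simp
      | succ j ih => rw [pow_succ', Module.End.mul_apply, ih, map_smul, hv, smul_smul, pow_succ]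
    have h2 := h1 p
    rw [hzp, Module.End.one_apply] at h2
    refine (smul_left_injective k hv0 ?_).symm
    show (1 : k) • v = ζ ^ p • v
    rw [one_smul]; exact h2
  have hζo : orderOf ζ = p := orderOf_eq_prime hζp hζ1
  -- Galois conjugate eigenvalues
  have hgal : ∀ i : ℕ, ∃ u : Fin d → k, u ≠ 0 ∧ ρ z u = (ζ ^ r ^ i) • u := by
    intro i
    induction i with
    | zero => exact ⟨v, hv0, by simpa using hv⟩
    | succ i ih =>
      obtain ⟨u, hu0, hu⟩ := ih
      refine ⟨fun j => frobenius k r (u j), fun e => hu0 (funext fun j => ?_), funext fun j => ?_⟩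
      · exact (map_eq_zero (frobenius k r)).1 (congrFun e j)
      · have h1 := congrArg (frobenius k r) (congrFun hu j)
        have hM : ∀ (u : Fin d → k) j, ρ z u j = ∑ l, algebraMap (ZMod r) k ((LinearMap.toMatrixAlgEquiv bas (act z)) j l) * u l :=
          fun u j => rfl
        rw [hM, map_sum] at h1
        rw [hM, Pi.smul_apply, smul_eq_mul]
        rw [Pi.smul_apply, smul_eq_mul, map_mul, frobenius_def, ← pow_mul, ← pow_succ] at h1
        rw [← h1]
        refine Finset.sum_congr rfl fun l _ => ?_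
        rw [map_mul, frobenius_def r (algebraMap (ZMod r) k _), ← map_pow, ZMod.pow_card]
  set ev : ℕ → k := fun i => ζ ^ r ^ i with hev
  have hevinj : ∀ i j, i < j → j < n → ev i ≠ ev j := by
    intro i j hij hjn h
    have h1 : r ^ i ≡ r ^ j [MOD p] := by
      have h' : ζ ^ (r ^ i % p) = ζ ^ (r ^ j % p) := by rw [← hζo, pow_mod_orderOf, pow_mod_orderOf]; exact h
      exact pow_injOn_Iio_orderOf (Set.mem_Iio.2 (by rw [hζo]; exact Nat.mod_lt _ (Fact.out : p.Prime).pos))
        (Set.mem_Iio.2 (by rw [hζo]; exact Nat.mod_lt _ (Fact.out : p.Prime).pos)) h'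
    obtain ⟨t, rfl⟩ : ∃ t, j = i + t := ⟨j - i, by omega⟩
    rw [pow_add] at h1
    have h2 : 1 ≡ r ^ t [MOD p] :=
      Nat.ModEq.cancel_left_of_coprime (c := r ^ i) (hrp.symm.pow_right i) (by rwa [mul_one])
    have h3 : p ∣ r ^ t - 1 := (Nat.modEq_iff_dvd' (Nat.one_le_pow _ _ hr.out.pos)).1 h2
    have := hmin t (by omega) h3
    omega
  have hkey : ∀ i, p ^ w ≤ Module.finrank k ↥((ρ z).eigenspace (ev i)) := by
    intro i
    obtain ⟨u, hu0, hu⟩ := hgal i
    refine Aux.finrank_ge_of_scalar hE w hcard ρ hz hz1 ?_ _ ?_ ?_ (fun x hx => Module.End.mem_eigenspace_iff.1 hx)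
    · rw [hev, orderOf_pow' ζ (pow_ne_zero _ hr.out.ne_zero), hζo,
        show Nat.gcd p (r ^ i) = 1 from hrp.symm.pow_right i, Nat.div_one]
    · exact fun h => hu0 ((Submodule.eq_bot_iff _).1 h u (Module.End.mem_eigenspace_iff.2 hu))
    · intro g x hx
      rw [Module.End.mem_eigenspace_iff] at hx ⊢
      rw [← Module.End.mul_apply, ← map_mul, ← Subgroup.mem_center_iff.1 hz g, map_mul, Module.End.mul_apply, hx, map_smul]
  have hsum : ∀ m : ℕ, m ≤ n → m * p ^ w ≤ Module.finrank k ↥((Finset.range m).sup fun i => (ρ z).eigenspace (ev i)) := by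
    intro m
    induction m with
    | zero => simp
    | succ m ih =>
      intro hm
      rw [Finset.range_add_one, Finset.sup_insert]
      have hdis : Disjoint ((ρ z).eigenspace (ev m)) ((Finset.range m).sup fun i => (ρ z).eigenspace (ev i)) := by
        refine (Module.End.eigenspaces_iSupIndep (ρ z) (ev m)).mono_right (Finset.sup_le fun i hi => ?_)
        exact le_iSup₂_of_le (ev i) (hevinj i m (Finset.mem_range.1 hi) (by omega)) le_rfl
      have h1 := Submodule.finrank_sup_add_finrank_inf_eq ((ρ z).eigenspace (ev m))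
        ((Finset.range m).sup fun i => (ρ z).eigenspace (ev i))
      rw [hdis.eq_bot, finrank_bot, add_zero] at h1
      rw [h1, add_mul, one_mul, add_comm]
      exact Nat.add_le_add (hkey m) (ih (by omega))
  exact ((hsum n le_rfl).trans (Submodule.finrank_le _)).trans (le_of_eq (by simp [k]))

theorem card_bound' {E : Type v} [Group E] [Finite E] {p r : ℕ} [Fact p.Prime] [hr : Fact r.Prime] (hrp : r.Coprime p)
    {w n : ℕ} (hE : Cfsg.IsExtraspecial p E) (hcard : Nat.card E = p ^ (2 * w + 1))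
    {A : Type v} [CommGroup A] [Finite A] [Module (ZMod r) (Additive A)] (ψ : E → A →* A)
    (hψ1 : ∀ a, ψ 1 a = a) (hψ : ∀ e e' a, ψ (e * e') a = ψ e (ψ e' a))
    (hfaith : ∀ z, (∀ a, ψ z a = a) → z = 1) (hmin : ∀ k : ℕ, 1 ≤ k → p ∣ r ^ k - 1 → n ≤ k) :
    r ^ (n * p ^ w) ≤ Nat.card A := by
  let act : E →* Module.End (ZMod r) (Additive A) :=
    { toFun := fun e => AddMonoidHom.toZModLinearMap r (MonoidHom.toAdditive (ψ e))
      map_one' := LinearMap.ext fun a => congrArg Additive.ofMul (hψ1 a.toMul)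
      map_mul' := fun e e' => LinearMap.ext fun a => congrArg Additive.ofMul (hψ e e' a.toMul) }
  have h := card_bound hrp hE hcard act (fun z hz => hfaith z fun a =>
    congrArg Additive.toMul (LinearMap.congr_fun hz (Additive.ofMul a))) hmin
  rwa [Nat.card_congr (Additive.toMul (α := A))] at h

theorem card_bound'' {E : Type v} [Group E] [Finite E] {p r : ℕ} [Fact p.Prime] [hr : Fact r.Prime] (hrp : r.Coprime p)
    {w n : ℕ} (hE : Cfsg.IsExtraspecial p E) (hcard : Nat.card E = p ^ (2 * w + 1))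
    {A : Type v} [CommGroup A] [Finite A] (hexp : ∀ a : A, a ^ r = 1) (ψ : E → A →* A)
    (hψ1 : ∀ a, ψ 1 a = a) (hψ : ∀ e e' a, ψ (e * e') a = ψ e (ψ e' a))
    (hfaith : ∀ z, (∀ a, ψ z a = a) → z = 1) (hmin : ∀ k : ℕ, 1 ≤ k → p ∣ r ^ k - 1 → n ≤ k) :
    r ^ (n * p ^ w) ≤ Nat.card A :=
  @card_bound' E _ _ p r _ _ hrp w n hE hcard A _ _
    (AddCommGroup.zmodModule fun x => by
      exact Additive.toMul.injective (hexp x.toMul)) ψ hψ1 hψ hfaith hmin

end Aux

/-- Let p and r be distinct primes, let E be an extraspecial subgroup of order p^(2w+1) of a finite group, and let A be an elementary abelian r-subgroup normalized by E on which E acts faithfully (C_E(A) = 1). If n ≥ 1 is least with p dividing rⁿ − 1 (the smallest dimension of a faithful representation of a group of order p over the field with r elements), then the order of A is at least r^(n·p^w). -/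
theorem result {G : Type*} [Group G] [Finite G] {p r : ℕ} [Fact p.Prime] [hr : Fact r.Prime] (hpr : p ≠ r) (E A : Subgroup G) (w : ℕ) (hE : Cfsg.IsExtraspecial p ↥E) (hEcard : Nat.card ↥E = p ^ (2 * w + 1)) (hA : Cfsg.IsElementaryAbelian r A) (hnorm : E ≤ Subgroup.normalizer (A : Set G)) (hfaith : E ⊓ Subgroup.centralizer (A : Set G) = ⊥) (n : ℕ) (hn : 1 ≤ n) (hdiv : p ∣ r ^ n - 1) (hmin : ∀ k : ℕ, 1 ≤ k → p ∣ r ^ k - 1 → n ≤ k) : r ^ (n * p ^ w) ≤ Nat.card ↥A := by
  have hrp : r.Coprime p := (Nat.coprime_primes hr.out (Fact.out : p.Prime)).2 (Ne.symm hpr)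
  let inst : CommGroup ↥A := { (inferInstance : Group ↥A) with mul_comm := fun a b => hA.1.is_comm.comm a b }
  have hnA : ∀ e : ↥E, ∀ a : ↥A, (e : G) * a * (e : G)⁻¹ ∈ A := fun e a =>
    (Subgroup.mem_normalizer_iff.1 (hnorm e.2) _).1 a.2
  refine @Aux.card_bound'' ↥E _ _ p r _ _ hrp w n hE hEcard ↥A inst _ (fun a => Subtype.ext (hA.2 _ a.2))
    (fun e => MonoidHom.mk' (fun a : ↥A => (⟨(e : G) * a * (e : G)⁻¹, hnA e a⟩ : ↥A))
      fun a b => Subtype.ext (show (e : G) * (a * b) * (e : G)⁻¹ = (e : G) * a * (e : G)⁻¹ * ((e : G) * b * (e : G)⁻¹) by group))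
    (fun a => Subtype.ext (show (1 : G) * a * (1 : G)⁻¹ = a by group))
    (fun e e' a => Subtype.ext (show (e * e' : G) * a * (e * e' : G)⁻¹ = e * (e' * a * (e' : G)⁻¹) * (e : G)⁻¹ by group))
    (fun z hz => ?_) hmin
  have h2 : (z : G) ∈ E ⊓ Subgroup.centralizer (A : Set G) := by
    refine Subgroup.mem_inf.2 ⟨z.2, Subgroup.mem_centralizer_iff.2 fun a ha => ?_⟩
    have h4 : (z : G) * a * (z : G)⁻¹ = a := congrArg Subtype.val (hz ⟨a, ha⟩)
    exact (mul_inv_eq_iff_eq_mul.1 h4).symm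
  rw [hfaith, Subgroup.mem_bot] at h2
  exact Subtype.ext h2

end Cfsg.Agent.S2912
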