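import Cfsg.Statements.S2922
import Cfsg.Agent.Lib.LocalEven2.CharPFitting

set_option autoImplicit false
open Cfsg

namespace Cfsg.Agent.S2922

/-- Let p be a prime, X a finite group, B a p-subgroup of X and C a normal subgroup of B. If N_X(C) has characteristic p (its generalized Fitting subgroup is O_p(N_X(C))), then N_X(B) and C_X(B) have characteristic p. -/
theorem result {X : Type*} [Group X] [Finite X] {p : ℕ} [Fact p.Prime] (B C : Subgroup X) (hB : IsPGroup p ↥B) (hCB : C ≤ B) (hCn : (C.subgroupOf B).Normal) (hC : Cfsg.generalizedFittingSubgroup ↥(Subgroup.normalizer (C : Set X)) = Cfsg.pCore p ↥(Subgroup.normalizer (C : Set X))) : Cfsg.generalizedFittingSubgroup ↥(Subgroup.normalizer (B : Set X)) = Cfsg.pCore p ↥(Subgroup.normalizer (B : Set X)) ∧ Cfsg.generalizedFittingSubgroup ↥(Subgroup.centralizer (B : Set X)) = Cfsg.pCore p ↥(Subgroup.centralizer (B : Set X)) := by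
  rw [Lib.LocalEven2.genFitting_eq_pCore_subgroup_iff] at hC ⊢
  rw [Lib.LocalEven2.genFitting_eq_pCore_subgroup_iff]
  set N := Subgroup.normalizer (B : Set X) with hNdef
  have hBC : B ≤ Subgroup.normalizer (C : Set X) :=
    (Subgroup.normal_subgroupOf_iff_le_normalizer hCB).mp hCn
  have hK := hC.inf_normalizer hB hBC
  have hBE : B ≤ Cfsg.pCoreOf p N := Lib.LocalEven2.le_pCoreOf Subgroup.le_normalizer hB
    fun g hg y hy => (Subgroup.mem_normalizer_iff.mp hg y).mp hy
  have hN : Lib.LocalEven2.IsCharPIn p N := hK.of_normal_sub inf_le_right fun c hc =>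
    ⟨Subgroup.centralizer_le_normalizer _ (Subgroup.centralizer_le (hCB.trans hBE) hc.2), hc.1⟩
  refine ⟨hN, hN.of_normalized (Subgroup.centralizer_le_normalizer _) ((Lib.LocalEven2.pCoreOf_le _).trans ?_)⟩
  intro n hn
  rw [Subgroup.mem_normalizer_iff]
  have key : ∀ n ∈ Subgroup.normalizer (B : Set X), ∀ c ∈ Subgroup.centralizer (B : Set X),
      n * c * n⁻¹ ∈ Subgroup.centralizer (B : Set X) := by
    intro n hn c hc
    refine Subgroup.mem_centralizer_iff.mpr fun z hz => ?_
    have h1 := Subgroup.mem_centralizer_iff.mp hc _ ((Subgroup.mem_normalizer_iff''.mp hn z).mp hz)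
    calc z * (n * c * n⁻¹) = n * ((n⁻¹ * z * n) * c) * n⁻¹ := by group
      _ = n * (c * (n⁻¹ * z * n)) * n⁻¹ := by rw [h1]
      _ = _ := by group
  refine fun c => ⟨key n hn c, fun hc => ?_⟩
  have := key n⁻¹ (inv_mem hn) _ hc
  simpa [mul_assoc] using this

end Cfsg.Agent.S2922
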