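import Cfsg.Statements.S2925
import Cfsg.Agent.Lib.LocalEven2.Embedded
import Cfsg.Agent.Lib.Components.Basic

set_option autoImplicit false
open Cfsg

namespace Cfsg.Agent.S2925

/-- Let K be a component of the finite group X and T a Sylow 2-subgroup of X. If some abelian normal subgroup Y of T does not normalize K, then K ⧸ Z(K) has abelian Sylow 2-subgroups. -/
theorem result {X : Type*} [Group X] [Finite X] (K : Subgroup X) (hK : Cfsg.IsComponent K) (T : Sylow 2 X) (Y : Subgroup X) (hYT : Y ≤ (T : Subgroup X)) (hYn : (Y.subgroupOf (T : Subgroup X)).Normal) (hYab : IsMulCommutative ↥Y) (hnot : ¬ Y ≤ Subgroup.normalizer (K : Set X)) (P : Sylow 2 (↥K ⧸ Subgroup.center ↥K)) : IsMulCommutative ↥(P : Subgroup (↥K ⧸ Subgroup.center ↥K)) := by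
  obtain ⟨y, hyY, hyK⟩ : ∃ y ∈ Y, y ∉ Subgroup.normalizer (K : Set X) := by
    by_contra hc
    push Not at hc
    exact hnot hc
  set K' := K.map (MulAut.conj y).toMonoidHom with hK'
  have hne : K ≠ K' := fun h => hyK (Lib.Components.mem_normalizer_iff_map_conj.mpr h.symm)
  have hbot : ⁅K, K'⁆ = ⊥ :=
    Lib.Components.IsComponent.commutator_eq_bot_of_ne hK
      (Lib.Components.IsComponent.map_conj hK y) hne
  have hcomm : ∀ a ∈ K, ∀ b ∈ K', a * b = b * a := fun a ha b hb =>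
    Lib.Components.commute_of_commutator_eq_bot hbot ha hb
  have hYnorm : (T : Subgroup X) ≤ Subgroup.normalizer (Y : Set X) :=
    (Subgroup.normal_subgroupOf_iff_le_normalizer hYT).mp hYn
  set R := (T : Subgroup X) ⊓ K with hR
  have hnd : ¬ 2 ∣ (R.subgroupOf K).index :=
    Lib.LocalEven2.not_dvd_relIndex_inf_subnormal T hK.1
  let R' : Sylow 2 ↥K := (T.2.to_inf_left.comap_subtype (K := K)).toSylow hnd
  set π := QuotientGroup.mk' (Subgroup.center ↥K)
  -- the images of `R` commute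
  have hcommR : ∀ a b : ↥K, (a : X) ∈ R → (b : X) ∈ R → π a * π b = π b * π a := by
    intro a b ha hb
    have hYel : ∀ c ∈ R, c⁻¹ * (y * c * y⁻¹) ∈ Y := by
      intro c hc
      have h1 : c⁻¹ * y * c ∈ Y := (Subgroup.mem_normalizer_iff''.mp (hYnorm hc.1) y).mp hyY
      simpa [mul_assoc] using Y.mul_mem h1 (inv_mem hyY)
    have hK'el : ∀ c ∈ K, y * c * y⁻¹ ∈ K' := fun c hc => ⟨c, hc, rfl⟩
    have key : ∀ c d c' d' : X, c ∈ K → d ∈ K → c' ∈ K' → d' ∈ K' →
        (c⁻¹ * c') * (d⁻¹ * d') = (c⁻¹ * d⁻¹) * (c' * d') := by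
      intro c d c' d' _ hd hc' _
      rw [mul_assoc c⁻¹, ← mul_assoc c', ← hcomm d⁻¹ (inv_mem hd) c' hc', mul_assoc d⁻¹,
        mul_assoc c⁻¹]
    have h2 : ((a : X)⁻¹ * (y * a * y⁻¹)) * ((b : X)⁻¹ * (y * b * y⁻¹)) =
        ((b : X)⁻¹ * (y * b * y⁻¹)) * ((a : X)⁻¹ * (y * a * y⁻¹)) :=
      congrArg Subtype.val (hYab.is_comm.comm (⟨_, hYel a ha⟩ : ↥Y) ⟨_, hYel b hb⟩)
    rw [key _ _ _ _ a.2 b.2 (hK'el a a.2) (hK'el b b.2),
      key _ _ _ _ b.2 a.2 (hK'el b b.2) (hK'el a a.2)] at h2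
    set d : ↥K := (b⁻¹ * a⁻¹)⁻¹ * (a⁻¹ * b⁻¹) with hd
    have hdK' : (d : X) ∈ K' := by
      have : (d : X) = (y * b * y⁻¹) * (y * a * y⁻¹) *
          ((y * a * y⁻¹) * (y * b * y⁻¹))⁻¹ := by
        rw [eq_mul_inv_iff_mul_eq]
        simp only [hd, Subgroup.coe_mul, Subgroup.coe_inv]
        rw [mul_assoc _ _ ((y * a * y⁻¹) * (y * b * y⁻¹)), h2]
        group
      rw [this]
      exact mul_mem (mul_mem (hK'el b b.2) (hK'el a a.2))
        (inv_mem (mul_mem (hK'el a a.2) (hK'el b b.2)))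
    have hdc : d ∈ Subgroup.center ↥K := by
      rw [Subgroup.mem_center_iff]
      exact fun k => Subtype.ext (hcomm k k.2 d hdK')
    have h3 : π d = 1 := (QuotientGroup.eq_one_iff d).mpr hdc
    simp only [hd, map_mul, map_inv] at h3
    rw [inv_mul_eq_one] at h3
    simpa using congrArg (·⁻¹) h3
  let P₀ : Sylow 2 (↥K ⧸ Subgroup.center ↥K) :=
    R'.mapSurjective (QuotientGroup.mk'_surjective (Subgroup.center ↥K))
  have h0 : ∀ u v : ↥(P₀ : Subgroup (↥K ⧸ Subgroup.center ↥K)), u * v = v * u := by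
    rintro ⟨_, a, ha, rfl⟩ ⟨_, b, hb, rfl⟩
    exact Subtype.ext (hcommR a b ha hb)
  let e := P.equiv P₀
  exact ⟨⟨fun u v => e.injective (by rw [map_mul, map_mul, h0])⟩⟩

end Cfsg.Agent.S2925
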