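import Cfsg.Statements.S2928
import Cfsg.Agent.Lib.KnownA.SylowTwoMax
import Cfsg.Agent.Lib.PGroups.SmallPerm
import Cfsg.Agent.Lib.Components.GenFitting
import Cfsg.Agent.Lib.Perm.ThreeBlocks

set_option autoImplicit false
open Cfsg

namespace Cfsg.Agent.S2928

set_option linter.all false
open Cfsg.Agent Cfsg.Agent.Lib
open scoped Pointwise commutatorElement

section QS

variable {G : Type*} [Group G]

/-- `E` behaves like a quasisimple generalized Fitting subgroup of `H`. -/
structure QS (H E : Subgroup G) : Prop where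
  le : E ≤ H
  norm : H ≤ Subgroup.normalizer (E : Set G)
  perf : ⁅E, E⁆ = E
  ne : E ≠ ⊥
  qs : ∀ N : Subgroup G, N ≤ E → E ≤ Subgroup.normalizer (N : Set G) →
    N = E ∨ N ≤ Subgroup.centralizer (E : Set G)
  cent : H ⊓ Subgroup.centralizer (E : Set G) ≤ E

theorem QS.map {H E : Subgroup G} (h : QS H E) {G' : Type*} [Group G'] (f : G →* G')
    (hf : Function.Injective f) : QS (H.map f) (E.map f) where
  le := Subgroup.map_mono h.le
  norm := (Subgroup.map_mono h.norm).trans (Subgroup.le_normalizer_map f)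
  perf := by rw [← Subgroup.map_commutator, h.perf]
  ne := fun e => h.ne ((Subgroup.map_eq_bot_iff_of_injective E hf).mp e)
  qs := fun N hN hn => by
    have hNe : (N.comap f).map f = N :=
      Subgroup.map_comap_eq_self (hN.trans (Subgroup.map_le_range f E))
    rcases h.qs (N.comap f)
      (fun x hx => by
        obtain ⟨y, hy, hyx⟩ := hN hx
        exact hf hyx ▸ hy)
      (fun e he => by
        rw [Subgroup.mem_normalizer_iff]
        intro x
        rw [Subgroup.mem_comap, Subgroup.mem_comap, map_mul, map_mul, map_inv]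
        exact (Subgroup.mem_normalizer_iff.mp (hn (Subgroup.mem_map_of_mem f he))) (f x)) with h1 | h1
    · exact Or.inl (by rw [← hNe, h1])
    · refine Or.inr fun x hx => ?_
      obtain ⟨y, hy, rfl⟩ := hN hx
      rw [Subgroup.mem_centralizer_iff]
      rintro _ ⟨e, he, rfl⟩
      rw [← map_mul, ← map_mul, Subgroup.mem_centralizer_iff.mp (h1 (show y ∈ N.comap f from hx)) e he]
  cent := by
    rintro _ ⟨⟨y, hy, rfl⟩, hc⟩
    exact Subgroup.mem_map_of_mem f (h.cent ⟨hy, Subgroup.mem_centralizer_iff.mpr fun e he =>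
      hf (by rw [map_mul, map_mul]; exact Subgroup.mem_centralizer_iff.mp hc _ (Subgroup.mem_map_of_mem f he))⟩)

/-- A map into a central subgroup of a perfect group is trivial. -/
theorem QS.central_of_comm {H E : Subgroup G} (h : QS H E) {x : G}
    (hx : ∀ e ∈ E, ⁅x, e⁆ ∈ E ⊓ Subgroup.centralizer (E : Set G)) :
    x ∈ Subgroup.centralizer (E : Set G) := by
  let S : Subgroup G :=
    { carrier := {e | e ∈ E ∧ ⁅x, e⁆ = 1}
      one_mem' := ⟨one_mem _, commutatorElement_one_right x⟩
      mul_mem' := fun {a b} ha hb => ⟨mul_mem ha.1 hb.1, by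
        have e : ⁅x, a * b⁆ = ⁅x, a⁆ * (a * ⁅x, b⁆ * a⁻¹) := by
          simp only [commutatorElement_def]; group
        rw [e, ha.2, hb.2]; simp⟩
      inv_mem' := fun {a} ha => ⟨inv_mem ha.1, by
        have e : ⁅x, a⁻¹⁆ = a⁻¹ * ⁅x, a⁆⁻¹ * a := by
          simp only [commutatorElement_def]; group
        rw [e, ha.2]; simp⟩ }
  have hS : E ≤ S := by
    conv_lhs => rw [← h.perf]
    rw [Subgroup.commutator_le]
    intro a ha b hb
    refine ⟨h.perf ▸ Subgroup.commutator_mem_commutator ha hb, ?_⟩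
    -- e ↦ ⁅x, e⁆ is a homomorphism into the centre
    have hom : ∀ u ∈ E, ∀ v ∈ E, ⁅x, u * v⁆ = ⁅x, u⁆ * ⁅x, v⁆ := fun u hu v hv => by
      have e : ⁅x, u * v⁆ = ⁅x, u⁆ * (u * ⁅x, v⁆ * u⁻¹) := by
        simp only [commutatorElement_def]; group
      rw [e, Subgroup.mem_centralizer_iff.mp (hx v hv).2 u hu, mul_assoc ⁅x, v⁆, mul_inv_cancel,
        mul_one]
    have hinv : ∀ u ∈ E, ⁅x, u⁻¹⁆ = ⁅x, u⁆⁻¹ := fun u hu => by
      have := hom u⁻¹ (inv_mem hu) u hu
      rw [inv_mul_cancel, commutatorElement_one_right] at this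
      exact eq_inv_of_mul_eq_one_left this.symm
    have hab : Commute ⁅x, a⁆ ⁅x, b⁆ :=
      (Subgroup.mem_centralizer_iff.mp (hx a ha).2 _ (hx b hb).1).symm
    rw [commutatorElement_def a b, hom _ (mul_mem (mul_mem ha hb) (inv_mem ha)) _ (inv_mem hb),
      hom _ (mul_mem ha hb) _ (inv_mem ha), hom _ ha _ hb, hinv _ ha, hinv _ hb, hab.eq]
    group
  rw [Subgroup.mem_centralizer_iff]
  intro e he
  exact (commutatorElement_eq_one_iff_mul_comm.mp (hS he).2).symm

theorem QS.dich {H E : Subgroup G} (h : QS H E) {N : Subgroup G} (hN : N ≤ H)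
    (hn : H ≤ Subgroup.normalizer (N : Set G)) : E ≤ N ∨ N ≤ Subgroup.centralizer (E : Set G) := by
  rcases h.qs (N ⊓ E) inf_le_right
    (fun e he => by
      rw [Subgroup.mem_normalizer_iff]
      intro x
      rw [Subgroup.mem_inf, Subgroup.mem_inf]
      exact and_congr (Subgroup.mem_normalizer_iff.mp (hn (h.le he)) x)
        (Subgroup.mem_normalizer_iff.mp (Subgroup.le_normalizer he) x)) with h1 | h1
  · exact Or.inl (inf_eq_right.mp h1)
  · refine Or.inr fun x hx => h.central_of_comm fun e he => ?_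
    have hm : ⁅x, e⁆ ∈ N ⊓ E := by
      refine ⟨?_, ?_⟩
      · rw [commutatorElement_def, mul_assoc x e, mul_assoc x]
        exact N.mul_mem hx ((Subgroup.mem_normalizer_iff.mp (hn (h.le he)) x⁻¹).mp (N.inv_mem hx))
      · rw [commutatorElement_def]
        exact E.mul_mem ((Subgroup.mem_normalizer_iff.mp (h.norm (hN hx)) e).mp he) (E.inv_mem he)
    exact ⟨hm.2, h1 hm⟩

end QS

section Perm

variable {β : Type*} [Fintype β] [DecidableEq β]

/-- A perfect group fixes pointwise every invariant set of at most four points. -/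
theorem perfect_fix {γ : Type*} [DecidableEq γ] {R E : Subgroup (Equiv.Perm β)} (h : QS R E) (f : β → γ)
    (s : Finset γ) (hs : s.card ≤ 4) (hfs : ∀ x, f x ∈ s)
    (hcomp : ∀ e ∈ E, ∀ x y, f x = f y → f (e x) = f (e y)) : ∀ e ∈ E, ∀ x, f (e x) = f x := by
  classical
  set T := {v // v ∈ Finset.univ.image f}
  have hT : Fintype.card T ≤ 4 := by
    rw [Fintype.card_coe]
    refine le_trans (Finset.card_le_card fun v hv => ?_) hs
    obtain ⟨x, -, rfl⟩ := Finset.mem_image.mp hv
    exact hfs x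
  have hrep : ∀ t : T, ∃ x, f x = t.1 := fun t => by
    obtain ⟨x, -, hx⟩ := Finset.mem_image.mp t.2
    exact ⟨x, hx⟩
  choose rep hrep using hrep
  let mk : β → T := fun x => ⟨f x, Finset.mem_image_of_mem f (Finset.mem_univ x)⟩
  have hmk : ∀ (e : Equiv.Perm β), e ∈ E → ∀ x, mk (e (rep (mk x))) = mk (e x) := fun e he x =>
    Subtype.ext (hcomp e he _ _ (hrep (mk x)))
  have hrm : ∀ t : T, mk (rep t) = t := fun t => Subtype.ext (hrep t)
  let act : E →* Equiv.Perm T := MonoidHom.toHomPerm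
    { toFun := fun e t => mk ((e : Equiv.Perm β) (rep t))
      map_one' := funext fun t => hrm t
      map_mul' := fun a b => funext fun t => by
        show mk ((a : Equiv.Perm β) ((b : Equiv.Perm β) (rep t))) =
          mk ((a : Equiv.Perm β) (rep (mk ((b : Equiv.Perm β) (rep t)))))
        exact (hmk a a.2 _).symm }
  haveI : Group.IsSolvable (Equiv.Perm T) := PGroups.isSolvable_perm_of_card_le_four hT
  haveI : Group.IsPerfect E := Subgroup.isPerfect_iff.mpr h.perf
  haveI : Group.IsSolvable act.range := inferInstance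
  have hbot : act.range = ⊥ := by
    by_contra hne
    haveI : Nontrivial act.range := (Subgroup.nontrivial_iff_ne_bot _).mpr hne
    haveI : Group.IsPerfect act.range :=
      Group.IsPerfect.ofSurjective (f := act.rangeRestrict) act.rangeRestrict_surjective
    exact Group.IsPerfect.not_isSolvable act.range inferInstance
  intro e he x
  have h1 : act ⟨e, he⟩ = 1 := Subgroup.mem_bot.mp (hbot ▸ MonoidHom.mem_range.mpr ⟨⟨e, he⟩, rfl⟩)
  have h2 : mk (e (rep (mk x))) = mk x := DFunLike.congr_fun h1 (mk x)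
  rw [hmk e he] at h2
  exact congrArg Subtype.val h2

/-- A perfect group fixes pointwise every invariant set of at most four points. -/
theorem restrict_fix {R E : Subgroup (Equiv.Perm β)} (h : QS R E) (S : Finset β) (hS : S.card ≤ 4)
    (hinv : ∀ e ∈ E, ∀ v ∈ S, e v ∈ S) : ∀ e ∈ E, ∀ v ∈ S, e v = v := by
  classical
  have hiff : ∀ e ∈ E, ∀ v, e v ∈ S ↔ v ∈ S := fun e he v => ⟨fun h1 => by
    have := hinv e⁻¹ (inv_mem he) _ h1
    simpa using this, hinv e he v⟩
  let ρ : E →* Equiv.Perm {v // v ∈ S} :=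
    { toFun := fun e => (e : Equiv.Perm β).subtypePerm fun v => hiff e e.2 v
      map_one' := Equiv.ext fun v => rfl
      map_mul' := fun a b => Equiv.ext fun v => rfl }
  haveI : Group.IsSolvable (Equiv.Perm {v // v ∈ S}) :=
    PGroups.isSolvable_perm_of_card_le_four (by simpa using hS)
  haveI : Group.IsPerfect E := Subgroup.isPerfect_iff.mpr h.perf
  have hbot : ρ.range = ⊥ := by
    by_contra hne
    haveI : Nontrivial ρ.range := (Subgroup.nontrivial_iff_ne_bot _).mpr hne
    haveI : Group.IsPerfect ρ.range :=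
      Group.IsPerfect.ofSurjective (f := ρ.rangeRestrict) ρ.rangeRestrict_surjective
    exact Group.IsPerfect.not_isSolvable ρ.range inferInstance
  intro e he v hv
  have h1 : ρ ⟨e, he⟩ = 1 := Subgroup.mem_bot.mp (hbot ▸ MonoidHom.mem_range.mpr ⟨⟨e, he⟩, rfl⟩)
  exact congrArg Subtype.val (DFunLike.congr_fun h1 (⟨v, hv⟩ : {v // v ∈ S}))

/-- A double transposition from the pairing. -/
abbrev dbl (τ : Equiv.Perm β) (x y : β) : Equiv.Perm β := Equiv.swap x (τ x) * Equiv.swap y (τ y)

variable {τ : Equiv.Perm β} (hτ : ∀ x, τ (τ x) = x)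

include hτ in
theorem dbl_facts {x y : β} (hyx : y ≠ x) (hys : y ≠ τ x) :
    dbl τ x y x = τ x ∧ dbl τ x y (τ x) = x ∧ dbl τ x y y = τ y ∧ dbl τ x y (τ y) = y ∧
      ∀ a, a ≠ x → a ≠ τ x → a ≠ y → a ≠ τ y → dbl τ x y a = a := by
  have h1 : x ≠ τ y := fun e => hys (by rw [e, hτ])
  have h2 : τ x ≠ τ y := τ.injective.ne hyx.symm
  refine ⟨?_, ?_, ?_, ?_, fun a a1 a2 a3 a4 => ?_⟩
  · rw [dbl, Equiv.Perm.mul_apply, Equiv.swap_apply_of_ne_of_ne hyx.symm h1, Equiv.swap_apply_left]
  · rw [dbl, Equiv.Perm.mul_apply, Equiv.swap_apply_of_ne_of_ne hys.symm h2, Equiv.swap_apply_right]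
  · rw [dbl, Equiv.Perm.mul_apply, Equiv.swap_apply_left, Equiv.swap_apply_of_ne_of_ne h1.symm h2.symm]
  · rw [dbl, Equiv.Perm.mul_apply, Equiv.swap_apply_right, Equiv.swap_apply_of_ne_of_ne hyx hys]
  · rw [dbl, Equiv.Perm.mul_apply, Equiv.swap_apply_of_ne_of_ne a3 a4, Equiv.swap_apply_of_ne_of_ne a1 a2]

theorem exists_avoid (s : Finset β) (h : s.card < Fintype.card β) : ∃ z, z ∉ s := by
  by_contra hc
  push Not at hc
  rw [Finset.eq_univ_of_forall hc, Finset.card_univ] at h
  exact lt_irrefl _ h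

theorem list_card_le {l : List β} : l.toFinset.card ≤ l.length := List.toFinset_card_le l

include hτ in
theorem prim {R E : Subgroup (Equiv.Perm β)} (h : QS R E) (h5 : 5 ≤ Fintype.card β)
    (htr : ∀ a b : β, ∃ e ∈ E, e a = b) (huniq : ∀ x y, τ x = x → τ y = y → x = y)
    (hu : ∀ x y, τ x ≠ x → τ y ≠ y → y ≠ x → y ≠ τ x → dbl τ x y ∈ R) :
    MulAction.IsPreprimitive R β := by
  classical
  haveI htR : MulAction.IsPretransitive R β := ⟨fun a b => by
    obtain ⟨e, he, hab⟩ := htr a b
    exact ⟨⟨e, h.le he⟩, hab⟩⟩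
  refine { isTrivialBlock_of_isBlock := fun {D} hD => ?_ }
  by_cases hsub : D.Subsingleton
  · exact Or.inl hsub
  right
  rw [Set.not_subsingleton_iff] at hsub
  obtain ⟨d, hd, d', hd', hdd⟩ := hsub
  have htr' : ∀ x : β, ∃ g : R, g • d = x := fun x => MulAction.exists_smul_eq R d x
  choose g hg using htr'
  set f : β → Set β := fun x => g x • D with hf
  have hmem : ∀ x, x ∈ f x := fun x => ⟨d, hd, hg x⟩
  have hkey : ∀ (k : R) x, x ∈ k • D → k • D = f x := fun k x hx => by
    have := MulAction.isBlock_iff_smul_eq_smul_or_disjoint.mp hD k (g x)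
    rcases this with e | e
    · exact e
    · exact absurd (hmem x) (Set.disjoint_left.mp e hx)
  have hfg : ∀ (k : R) x, f (k • x) = k • f x := fun k x => by
    rw [← hkey (k * g x) (k • x) ⟨d, hd, by show (k * g x) • d = k • x; rw [mul_smul, hg]⟩, mul_smul]
  have hsame : ∀ x y, y ∈ f x → f y = f x := fun x y hy => (hkey (g x) y hy).symm
  have hcompat : ∀ k ∈ R, ∀ x y, f x = f y → f (k x) = f (k y) := fun k hk x y hxy => by
    have h1 := hfg ⟨k, hk⟩ x
    have h2 := hfg ⟨k, hk⟩ y
    rw [hxy] at h1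
    exact h1.trans h2.symm
  have htwo : ∀ x, ∃ a, a ≠ x ∧ a ∈ f x := fun x => by
    by_cases e : (g x) • d' = x
    · exact absurd ((g x • (1 : Equiv.Perm β)) |> fun _ => (MulAction.injective (g x) (e.trans (hg x).symm))) hdd.symm
    · exact ⟨_, e, ⟨d', hd', rfl⟩⟩
  let K : Subgroup (Equiv.Perm β) :=
    { carrier := {k | k ∈ R ∧ ∀ x, f (k x) = f x}
      one_mem' := ⟨one_mem _, fun x => rfl⟩
      mul_mem' := fun {a b} ha hb => ⟨mul_mem ha.1 hb.1, fun x => by
        show f (a (b x)) = f x; rw [ha.2, hb.2]⟩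
      inv_mem' := fun {a} ha => ⟨inv_mem ha.1, fun x => by
        have := ha.2 (a⁻¹ x)
        rw [show a (a⁻¹ x) = x from a.apply_symm_apply x] at this
        exact this.symm⟩ }
  have hKn : R ≤ Subgroup.normalizer (K : Set (Equiv.Perm β)) := by
    have key : ∀ r ∈ R, ∀ k ∈ K, r * k * r⁻¹ ∈ K := fun r hr k hk =>
      ⟨mul_mem (mul_mem hr hk.1) (inv_mem hr), fun x => by
        show f (r (k (r⁻¹ x))) = f x
        rw [hcompat r hr _ _ (hk.2 (r⁻¹ x)), show r (r⁻¹ x) = x from r.apply_symm_apply x]⟩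
    intro r hr
    rw [Subgroup.mem_normalizer_iff]
    refine fun k => ⟨key r hr k, fun hk => ?_⟩
    have := key r⁻¹ (inv_mem hr) _ hk
    simpa [mul_assoc] using this
  have huniv : (∀ e ∈ E, ∀ x, f (e x) = f x) → D = Set.univ := by
    intro hE
    refine Set.eq_univ_of_forall fun y => ?_
    obtain ⟨e, he, rfl⟩ := htr d y
    have h1 := hE e he d
    have h2 : f d = D := by
      have := hkey 1 d (by rw [one_smul]; exact hd)
      rw [one_smul] at this; exact this.symm
    rw [h2] at h1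
    exact h1 ▸ hmem (e d)
  rcases h.dich (N := K) (fun k hk => hk.1) hKn with hEK | hKC
  · exact huniv fun e he => (hEK he).2
  by_contra hne
  have hblocks : 4 < (Finset.univ.image f).card := by
    by_contra hle
    push Not at hle
    exact hne (huniv (perfect_fix h f _ hle (fun x => Finset.mem_image_of_mem f (Finset.mem_univ x))
      fun e he => hcompat e (h.le he)))
  have h10 : 10 ≤ Fintype.card β := by
    have h1 := Finset.card_eq_sum_card_image f (Finset.univ : Finset β)
    have h2 : ∑ v ∈ Finset.univ.image f, 2 ≤ ∑ v ∈ Finset.univ.image f,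
        (Finset.univ.filter fun x => f x = v).card := Finset.sum_le_sum fun v hv => by
      obtain ⟨x, -, rfl⟩ := Finset.mem_image.mp hv
      obtain ⟨a, ha, haf⟩ := htwo x
      exact Finset.one_lt_card.mpr ⟨x, by simp, a, by simp [hsame x a haf], ha.symm⟩
    rw [Finset.card_univ] at h1
    rw [Finset.sum_const, smul_eq_mul] at h2
    omega
  obtain ⟨x, hx⟩ : ∃ x, τ x ≠ x := by
    by_contra hall
    push Not at hall
    exact hdd (huniq d d' (hall d) (hall d'))
  have hmoved : ∀ y, τ y ≠ y → y ≠ x → y ≠ τ x →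
      ∀ a ∈ f x, a ≠ x → a = y ∨ a = τ y := by
    intro y hy hyx hys a ha hax
    obtain ⟨f1, f2, f3, f4, f5⟩ := dbl_facts hτ hyx hys
    set u := dbl τ x y with hudef
    have huR : u ∈ R := hu x y hx hy hyx hys
    obtain ⟨w, hw⟩ : ∃ w, f (u w) ≠ f w := by
      by_contra hall
      push Not at hall
      have hc := hKC (show u ∈ K from ⟨huR, hall⟩)
      obtain ⟨v, hv⟩ := exists_avoid [x, τ x, y, τ y].toFinset
        (lt_of_le_of_lt list_card_le (by simp; omega))
      simp only [List.mem_toFinset, List.mem_cons, List.not_mem_nil, or_false, not_or] at hv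
      obtain ⟨e, he, hev⟩ := htr v x
      have := DFunLike.congr_fun (Subgroup.mem_centralizer_iff.mp hc e he) v
      change e (u v) = u (e v) at this
      rw [f5 v hv.1 hv.2.1 hv.2.2.1 hv.2.2.2, hev, f1] at this
      exact hx this.symm
    have hmv : ∀ b, f b = f w → u b ≠ b := fun b hb e => hw (by
      have := hcompat u huR b w hb
      rw [e, hb] at this; exact this.symm)
    have hsupp : ∀ b, u b ≠ b → b = x ∨ b = τ x ∨ b = y ∨ b = τ y := fun b hb => by
      by_contra hh
      simp only [not_or] at hh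
      exact hb (f5 b hh.1 hh.2.1 hh.2.2.1 hh.2.2.2)
    have huu : ∀ b, u (u b) = b := fun b => by
      by_cases hb : u b = b
      · rw [hb, hb]
      rcases hsupp b hb with rfl | rfl | rfl | rfl
      · rw [f1, f2]
      · rw [f2, f1]
      · rw [f3, f4]
      · rw [f4, f3]
    obtain ⟨w', hw', hw'm⟩ := htwo w
    have hfw' : f w' = f w := hsame w w' hw'm
    have hfu : f (u w') = f (u w) := hcompat u huR _ _ hfw'
    have hx' : f (u x) ≠ f x := by
      intro hfix
      have k1 : x ≠ w := fun e => hw (e ▸ hfix)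
      have k2 : x ≠ w' := fun e => hw (by rw [← hfu, ← hfw', ← e]; exact hfix)
      have k3 : x ≠ u w := fun e => hw (by
        rw [e, huu] at hfix; exact hfix.symm)
      have k4 : x ≠ u w' := fun e => hw (by
        rw [e, huu] at hfix; rw [← hfu, ← hfw']; exact hfix.symm)
      have d1 : w ≠ u w := (hmv w rfl).symm
      have d2 : w ≠ u w' := fun e => hw (by rw [← hfu, ← e])
      have d3 : w' ≠ u w := fun e => hw (by rw [← e, hfw'])
      have d4 : w' ≠ u w' := (hmv w' hfw').symm
      have d5 : u w ≠ u w' := u.injective.ne hw'.symm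
      have hsub : ({w, w', u w, u w'} : Finset β) ⊆ {τ x, y, τ y} := by
        intro b hb
        simp only [Finset.mem_insert, Finset.mem_singleton] at hb
        have hb' : u b ≠ b ∧ b ≠ x := by
          rcases hb with rfl | rfl | rfl | rfl
          · exact ⟨d1.symm, k1.symm⟩
          · exact ⟨d4.symm, k2.symm⟩
          · exact ⟨fun e => d1 (u.injective e).symm, k3.symm⟩
          · exact ⟨fun e => d4 (u.injective e).symm, k4.symm⟩
        rcases hsupp b hb'.1 with e | e | e | e
        · exact absurd e hb'.2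
        all_goals simp [e]
      have h4 : ({w, w', u w, u w'} : Finset β).card = 4 := by
        simp [Finset.card_insert_of_notMem, hw'.symm, d1, d2, d3, d4, d5]
      have := Finset.card_le_card hsub
      have := (Finset.card_le_three : ({τ x, y, τ y} : Finset β).card ≤ 3)
      omega
    have hfa : f a = f x := hsame x a ha
    have hua : u a ≠ a := fun e => hx' (by
      have := hcompat u huR a x hfa
      rw [e, hfa] at this; exact this.symm)
    rcases hsupp a hua with e | e | e | e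
    · exact absurd e hax
    · exact absurd (by rw [f1, ← e]; exact hfa) hx'
    · exact Or.inl e
    · exact Or.inr e
  obtain ⟨y, hy⟩ := exists_avoid ([x, τ x].toFinset ∪ Finset.univ.filter fun v => τ v = v)
    ((Finset.card_union_le _ _).trans_lt (by
      have := list_card_le (l := [x, τ x])
      have : (Finset.univ.filter fun v => τ v = v).card ≤ 1 := Finset.card_le_one.mpr fun a ha b hb =>
        huniq a b (Finset.mem_filter.mp ha).2 (Finset.mem_filter.mp hb).2
      simp at *; omega))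
  obtain ⟨y', hy'⟩ := exists_avoid ([x, τ x, y, τ y].toFinset ∪ Finset.univ.filter fun v => τ v = v)
    ((Finset.card_union_le _ _).trans_lt (by
      have := list_card_le (l := [x, τ x, y, τ y])
      have : (Finset.univ.filter fun v => τ v = v).card ≤ 1 := Finset.card_le_one.mpr fun a ha b hb =>
        huniq a b (Finset.mem_filter.mp ha).2 (Finset.mem_filter.mp hb).2
      simp at *; omega))
  simp only [Finset.mem_union, List.mem_toFinset, List.mem_cons, List.not_mem_nil, or_false,
    Finset.mem_filter, Finset.mem_univ, true_and, not_or] at hy hy'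
  obtain ⟨a, hax, haf⟩ := htwo x
  rcases hmoved y hy.2 hy.1.1 hy.1.2 a haf hax with rfl | rfl <;>
    rcases hmoved y' hy'.2 hy'.1.1 hy'.1.2.1 _ haf hax with e | e
  · exact hy'.1.2.2.1 e.symm
  · exact hy'.1.2.2.2 (by rw [e, hτ])
  · exact hy'.1.2.2.2 e.symm
  · exact hy'.1.2.2.1 (τ.injective e).symm

include hτ in
theorem alt_le {R E : Subgroup (Equiv.Perm β)} (h : QS R E) (h8 : 8 ≤ Fintype.card β)
    (h9 : (∃ z, τ z = z) → 9 ≤ Fintype.card β)
    (htr : ∀ a b : β, ∃ e ∈ E, e a = b) (huniq : ∀ x y, τ x = x → τ y = y → x = y)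
    (hu : ∀ x y, τ x ≠ x → τ y ≠ y → y ≠ x → y ≠ τ x → dbl τ x y ∈ R) :
    alternatingGroup β ≤ R := by
  classical
  have hprim := prim hτ h (by omega) htr huniq hu
  have hfix1 : (Finset.univ.filter fun v => τ v = v).card ≤ 1 := Finset.card_le_one.mpr fun a ha b hb =>
    huniq a b (Finset.mem_filter.mp ha).2 (Finset.mem_filter.mp hb).2
  -- the three-cycle
  have fin : ∀ p q r s : β, Equiv.swap p q * Equiv.swap r s ∈ R → τ p ≠ p → p ≠ q → q ≠ τ p →
      p ≠ r → p ≠ s → q ≠ r → q ≠ s → τ p ≠ r → τ p ≠ s →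
      (∃ w, τ w ≠ w ∧ ∀ a ∈ [p, q, r, s], w ≠ a ∧ w ≠ τ a) → alternatingGroup β ≤ R := by
    intro p q r s hv hp hpq hqp hpr hps hqr hqs htr' hts' ⟨w, hw, hav⟩
    obtain ⟨wp, wp'⟩ := hav p (by simp)
    obtain ⟨wq, wq'⟩ := hav q (by simp)
    obtain ⟨wr', wr''⟩ := hav r (by simp)
    obtain ⟨ws, ws'⟩ := hav s (by simp)
    have ne' : ∀ {a : β}, w ≠ τ a → τ w ≠ a := fun ha e => ha (by rw [← e, hτ])
    have hmem : ((Equiv.swap p (τ p) * Equiv.swap w (τ w)) * (Equiv.swap p q * Equiv.swap r s)) ^ 2 ∈ R :=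
      pow_mem (mul_mem (hu p w hp hw wp wp') hv) 2
    refine Equiv.Perm.alternatingGroup_le_of_isPreprimitive_of_isThreeCycle_mem hprim ?_ hmem
    exact KnownA.SylowTwo.isThreeCycle_of_overlap hp.symm hpq hqp.symm wp.symm (ne' wp').symm
      wp'.symm (τ.injective.ne wp).symm wq.symm (ne' wq').symm hpr hps htr' hts' hqr hqs
      wr' ws (ne' wr'') (ne' ws')
  have conjv : ∀ g ∈ R, ∀ x y, τ x ≠ x → τ y ≠ y → y ≠ x → y ≠ τ x →
      Equiv.swap (g x) (g (τ x)) * Equiv.swap (g y) (g (τ y)) ∈ R := fun g hg x y hx hy h1 h2 => by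
    have h3 := mul_mem (mul_mem hg (hu x y hx hy h1 h2)) (inv_mem hg)
    have e : g * dbl τ x y * g⁻¹ = Equiv.swap (g x) (g (τ x)) * Equiv.swap (g y) (g (τ y)) := by
      rw [dbl, Equiv.swap_apply_apply, Equiv.swap_apply_apply]; group
    rwa [e] at h3
  haveI htR : MulAction.IsPretransitive R β := ⟨fun a b => by
    obtain ⟨e, he, hab⟩ := htr a b
    exact ⟨⟨e, h.le he⟩, hab⟩⟩
  have room : ∀ l : List β, l.length + 1 < Fintype.card β → ∃ w, τ w ≠ w ∧ ∀ a ∈ l, w ≠ a := fun l hl => by
    obtain ⟨w, hw⟩ := exists_avoid (l.toFinset ∪ Finset.univ.filter fun v => τ v = v)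
      ((Finset.card_union_le _ _).trans_lt (by have := list_card_le (l := l); omega))
    simp only [Finset.mem_union, List.mem_toFinset, Finset.mem_filter, Finset.mem_univ, true_and,
      not_or] at hw
    exact ⟨w, hw.2, fun a ha e => hw.1 (e ▸ ha)⟩
  by_cases hz : ∃ z, τ z = z
  · obtain ⟨z, hz'⟩ := hz
    have h9' := h9 ⟨z, hz'⟩
    obtain ⟨x, hx, -⟩ := room [] (by simp; omega)
    obtain ⟨⟨g, hg⟩, hgx⟩ := MulAction.exists_smul_eq R x z
    have hgx' : g x = z := hgx
    set p := g (τ x) with hp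
    have hpz : p ≠ z := fun e => hx (g.injective (e.trans hgx'.symm))
    have htp : τ p ≠ p := fun e => hpz (huniq p z e hz')
    obtain ⟨y, hy, hay⟩ := room [x, τ x, g⁻¹ (τ p), τ (g⁻¹ (τ p))] (by simp; omega)
    have y1 := hay x (by simp)
    have y2 := hay (τ x) (by simp)
    have y3 := hay (g⁻¹ (τ p)) (by simp)
    have y4 := hay (τ (g⁻¹ (τ p))) (by simp)
    have r1 : g y ≠ τ p := fun e => y3 (by rw [← e]; exact (g.symm_apply_apply y).symm)
    have r2 : g (τ y) ≠ τ p := fun e => y4 (by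
      rw [← e, show g⁻¹ (g (τ y)) = τ y from g.symm_apply_apply _, hτ])
    obtain ⟨w, hw, haw⟩ := room [p, τ p, g y, τ (g y), g (τ y), τ (g (τ y)), z] (by simp; omega)
    refine fin p z (g y) (g (τ y)) ?_ htp hpz (fun e => hpz (by
        have := congrArg τ e; rw [hτ, hz'] at this; exact this.symm))
      (g.injective.ne y2.symm) (g.injective.ne (τ.injective.ne y1.symm))
      (hgx' ▸ g.injective.ne y1.symm) (hgx' ▸ g.injective.ne (fun e => y2 (by rw [e, hτ])))
      r1.symm r2.symm ⟨w, hw, ?_⟩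
    · have := conjv g hg x y hx hy y1 y2
      rwa [hgx', Equiv.swap_comm z p] at this
    · intro a ha
      simp only [List.mem_cons, List.not_mem_nil, or_false] at ha
      rcases ha with rfl | rfl | rfl | rfl
      · exact ⟨haw _ (by simp), haw _ (by simp)⟩
      · exact ⟨haw _ (by simp), hz'.symm ▸ haw _ (by simp)⟩
      · exact ⟨haw _ (by simp), haw _ (by simp)⟩
      · exact ⟨haw _ (by simp), haw _ (by simp)⟩
  push Not at hz
  by_cases hcomm : ∀ g ∈ R, ∀ p, g (τ (g⁻¹ (τ p))) = τ (g (τ (g⁻¹ p)))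
  · -- all conjugates of the pairing commute
    exfalso
    by_cases h9' : ∀ g ∈ R, ∀ x, g (τ x) = τ (g x)
    · obtain ⟨x, hx, -⟩ := room [] (by simp; omega)
      have hb : MulAction.IsBlock R ({x, τ x} : Set β) := by
        rw [MulAction.isBlock_iff_smul_eq_of_nonempty]
        intro g hg'
        obtain ⟨a, ⟨b, hb, rfl⟩, ha⟩ := hg'
        have e : ∀ b, g • τ b = τ (g • b) := fun b => h9' g g.2 b
        have hgx : g • x = x ∨ g • x = τ x := by
          rcases hb with rfl | rfl
          · exact ha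
          · change g • τ x = x ∨ g • τ x = τ x at ha
            rw [e] at ha
            rcases ha with h1 | h1
            · exact Or.inr ((hτ _).symm.trans (congrArg τ h1))
            · exact Or.inl (τ.injective h1)
        rw [Set.smul_set_insert, Set.smul_set_singleton, e]
        rcases hgx with h1 | h1 <;> rw [h1]
        rw [hτ, Set.pair_comm]
      rcases hprim.isTrivialBlock_of_isBlock hb with hs | hs
      · exact hx (hs (by simp) (by simp))
      · obtain ⟨v, -, hv⟩ := room [x, τ x] (by simp; omega)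
        have : v ∈ ({x, τ x} : Set β) := hs ▸ Set.mem_univ v
        rcases this with e | e
        · exact hv x (by simp) e
        · exact hv (τ x) (by simp) e
    rcases Nat.lt_or_ge (Fintype.card β) 9 with hlt | hge
    swap
    · -- handled by the generic argument below, so this case gives a three-cycle too
      push Not at h9'
      obtain ⟨g, hg, x, hgx⟩ := h9'
      set p := g x with hp
      set q := g (τ x) with hq
      obtain ⟨y, hy, hay⟩ := room [x, τ x, g⁻¹ (τ p), τ (g⁻¹ (τ p))] (by simp; omega)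
      have y1 := hay x (by simp)
      have y2 := hay (τ x) (by simp)
      have y3 := hay (g⁻¹ (τ p)) (by simp)
      have y4 := hay (τ (g⁻¹ (τ p))) (by simp)
      have r1 : g y ≠ τ p := fun e => y3 (by rw [← e]; exact (g.symm_apply_apply y).symm)
      have r2 : g (τ y) ≠ τ p := fun e => y4 (by
        rw [← e, show g⁻¹ (g (τ y)) = τ y from g.symm_apply_apply _, hτ])
      obtain ⟨w, hw'⟩ := exists_avoid [p, τ p, q, τ q, g y, τ (g y), g (τ y), τ (g (τ y))].toFinset
        (lt_of_le_of_lt list_card_le (by simp; omega))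
      have hw := hz w
      have haw : ∀ a ∈ [p, τ p, q, τ q, g y, τ (g y), g (τ y), τ (g (τ y))], w ≠ a :=
        fun a ha e => hw' (List.mem_toFinset.mpr (e ▸ ha))
      have hA : alternatingGroup β ≤ R := by
        refine fin p q (g y) (g (τ y)) (conjv g hg x y (hz x) hy y1 y2) (hz p)
          (g.injective.ne (hz x).symm) hgx
          (g.injective.ne y1.symm) (g.injective.ne (fun e => y2 (by rw [e, hτ])))
          (g.injective.ne y2.symm) (g.injective.ne (τ.injective.ne y1.symm)) r1.symm r2.symm ⟨w, hw, ?_⟩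
        intro a ha
        simp only [List.mem_cons, List.not_mem_nil, or_false] at ha
        rcases ha with rfl | rfl | rfl | rfl <;> exact ⟨haw _ (by simp), haw _ (by simp)⟩
      -- contradiction with commuting conjugates
      obtain ⟨a, -, ha⟩ := room [] (by simp; omega)
      obtain ⟨b, -, hb⟩ := room [a, τ a] (by simp; omega)
      obtain ⟨c, -, hc⟩ := room [a, τ a, b, τ b] (by simp; omega)
      have hab : a ≠ b := (hb a (by simp)).symm
      have hac : a ≠ c := (hc a (by simp)).symm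
      have hbc : b ≠ c := (hc b (by simp)).symm
      have hta : τ a ≠ b := (hb _ (by simp)).symm
      have htac : τ a ≠ c := (hc _ (by simp)).symm
      have htbc : τ b ≠ c := (hc _ (by simp)).symm
      have hG : Perm.ThreeBlocks.cyc a b c ∈ R :=
        hA (Perm.ThreeBlocks.cyc_isThreeCycle hab hbc hac).mem_alternatingGroup
      have e := hcomm _ hG a
      have i1 : (Perm.ThreeBlocks.cyc a b c)⁻¹ a = c := by
        rw [Equiv.Perm.inv_eq_iff_eq, Perm.ThreeBlocks.cyc_right]
      have n1 : τ c ≠ a := fun h' => htac (by rw [← h', hτ])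
      have n2 : τ c ≠ b := fun h' => htbc (by rw [← h', hτ])
      have i2 : (Perm.ThreeBlocks.cyc a b c)⁻¹ (τ a) = τ a := by
        rw [Equiv.Perm.inv_eq_iff_eq, Perm.ThreeBlocks.cyc_other (hz a) hta htac]
      rw [i1, i2, hτ, Perm.ThreeBlocks.cyc_left hab hac,
        Perm.ThreeBlocks.cyc_other n1 n2 (hz c), hτ] at e
      exact hbc e
    -- degree eight
    have hm : Fintype.card β = 8 := by omega
    obtain ⟨x₁, t1, -⟩ := room [] (by simp; omega)
    obtain ⟨x₂, t2, a2⟩ := room [x₁, τ x₁] (by simp; omega)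
    obtain ⟨x₃, t3, a3⟩ := room [x₁, τ x₁, x₂, τ x₂] (by simp; omega)
    obtain ⟨x₄, t4, a4⟩ := room [x₁, τ x₁, x₂, τ x₂, x₃, τ x₃] (by simp; omega)
    obtain ⟨f1, f2, f3, f4, f5⟩ := dbl_facts hτ (a2 x₁ (by simp)) (a2 (τ x₁) (by simp))
    obtain ⟨g1, g2, g3, g4, g5⟩ := dbl_facts hτ (a4 x₃ (by simp)) (a4 (τ x₃) (by simp))
    have hτR : τ ∈ R := by
      have key : dbl τ x₁ x₂ * dbl τ x₃ x₄ = τ := by
        refine Equiv.ext fun v => ?_
        have flip : ∀ {a b : β}, a ≠ τ b → τ a ≠ b := fun ha e => ha (by rw [← e, hτ])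
        have z31 := a3 x₁ (by simp)
        have z31' := a3 (τ x₁) (by simp)
        have z32 := a3 x₂ (by simp)
        have z32' := a3 (τ x₂) (by simp)
        have z41 := a4 x₁ (by simp)
        have z41' := a4 (τ x₁) (by simp)
        have z42 := a4 x₂ (by simp)
        have z42' := a4 (τ x₂) (by simp)
        rw [Equiv.Perm.mul_apply]
        by_cases v3 : v = x₃
        · subst v3; rw [g1, f5 _ (flip z31') (τ.injective.ne z31) (flip z32') (τ.injective.ne z32)]
        by_cases v3' : v = τ x₃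
        · subst v3'; rw [g2, f5 _ z31 z31' z32 z32', hτ]
        by_cases v4 : v = x₄
        · subst v4; rw [g3, f5 _ (flip z41') (τ.injective.ne z41) (flip z42') (τ.injective.ne z42)]
        by_cases v4' : v = τ x₄
        · subst v4'; rw [g4, f5 _ z41 z41' z42 z42', hτ]
        rw [g5 v v3 v3' v4 v4']
        by_cases v1 : v = x₁
        · subst v1; exact f1
        by_cases v1' : v = τ x₁
        · subst v1'; rw [f2, hτ]
        by_cases v2 : v = x₂
        · subst v2; exact f3
        by_cases v2' : v = τ x₂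
        · subst v2'; rw [f4, hτ]
        exfalso
        have hcard : ({x₁, τ x₁, x₂, τ x₂, x₃, τ x₃, x₄, τ x₄} : Finset β).card = 8 := by
          simp [Finset.card_insert_of_notMem, Ne.symm t1, Ne.symm t2, Ne.symm t3, Ne.symm t4,
            (a2 x₁ (by simp)).symm, (a2 (τ x₁) (by simp)).symm, z31.symm, z31'.symm, z32.symm,
            z32'.symm, z41.symm, z41'.symm, z42.symm, z42'.symm, (a4 x₃ (by simp)).symm,
            (a4 (τ x₃) (by simp)).symm, (flip (a2 (τ x₁) (by simp))).symm, (flip z31').symm,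
            (flip z32').symm, (flip z41').symm, (flip z42').symm, (flip (a4 (τ x₃) (by simp))).symm,
            (τ.injective.ne (a2 x₁ (by simp))).symm, (τ.injective.ne z31).symm,
            (τ.injective.ne z32).symm, (τ.injective.ne z41).symm, (τ.injective.ne z42).symm,
            (τ.injective.ne (a4 x₃ (by simp))).symm]
        have huniv := Finset.eq_univ_of_card _ (hcard.trans hm.symm)
        have := huniv ▸ Finset.mem_univ v
        simp [v1, v1', v2, v2', v3, v3', v4, v4'] at this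
      exact key ▸ mul_mem (hu _ _ t1 t2 (a2 _ (by simp)) (a2 _ (by simp)))
        (hu _ _ t3 t4 (a4 _ (by simp)) (a4 _ (by simp)))
    set S : Set (Equiv.Perm β) := {σ | ∃ g ∈ R, σ = g * τ * g⁻¹} with hS
    have hSc : ∀ a ∈ S, ∀ b ∈ S, a * b = b * a := by
      rintro _ ⟨a, ha, rfl⟩ _ ⟨b, hb, rfl⟩
      have h1 : (a⁻¹ * b) * τ * (a⁻¹ * b)⁻¹ * τ = τ * ((a⁻¹ * b) * τ * (a⁻¹ * b)⁻¹) :=
        Equiv.ext fun p => hcomm (a⁻¹ * b) (mul_mem (inv_mem ha) hb) p
      calc a * τ * a⁻¹ * (b * τ * b⁻¹) = a * (τ * ((a⁻¹ * b) * τ * (a⁻¹ * b)⁻¹)) * a⁻¹ := by group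
        _ = a * ((a⁻¹ * b) * τ * (a⁻¹ * b)⁻¹ * τ) * a⁻¹ := by rw [h1]
        _ = b * τ * b⁻¹ * (a * τ * a⁻¹) := by group
    have hcomA : IsMulCommutative (Subgroup.closure S) :=
      Subgroup.isMulCommutative_closure (k := S) hSc
    have hN1 : Subgroup.closure S ≤ R := (Subgroup.closure_le R).mpr fun σ ⟨g, hg, e⟩ =>
      e ▸ mul_mem (mul_mem hg hτR) (inv_mem hg)
    have hN2 : R ≤ Subgroup.normalizer (Subgroup.closure S : Set (Equiv.Perm β)) := by
      intro r hr
      refine Subgroup.mem_normalizer_iff.mpr fun n => ?_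
      have key : ∀ r ∈ R, ∀ n ∈ Subgroup.closure S, r * n * r⁻¹ ∈ Subgroup.closure S := by
        intro r hr n hn
        induction hn using Subgroup.closure_induction with
        | mem m hm =>
          obtain ⟨g, hg, rfl⟩ := hm
          exact Subgroup.subset_closure ⟨r * g, mul_mem hr hg, by group⟩
        | one => simp
        | mul a b _ _ ha hb =>
          rw [show r * (a * b) * r⁻¹ = (r * a * r⁻¹) * (r * b * r⁻¹) by group]
          exact mul_mem ha hb
        | inv a _ ha =>
          rw [show r * a⁻¹ * r⁻¹ = (r * a * r⁻¹)⁻¹ by group]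
          exact inv_mem ha
      exact ⟨key r hr n, fun hn => by simpa [mul_assoc] using key r⁻¹ (inv_mem hr) _ hn⟩
    have hnab : ∀ M : Subgroup (Equiv.Perm β), IsMulCommutative M → ¬ E ≤ M := fun M hM hEM => by
      apply h.ne
      rw [← h.perf, Subgroup.commutator_eq_bot_iff_le_centralizer]
      intro a ha
      rw [Subgroup.mem_centralizer_iff]
      exact fun b hb => congrArg Subtype.val (hM.is_comm.comm ⟨b, hEM hb⟩ ⟨a, hEM ha⟩)
    rcases h.dich hN1 hN2 with hE | hC
    · exact hnab _ hcomA hE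
    set C := R ⊓ Subgroup.centralizer (E : Set (Equiv.Perm β)) with hCdef
    have hτC : τ ∈ C := ⟨hτR, hC (Subgroup.subset_closure ⟨1, one_mem _, by simp⟩)⟩
    haveI : (C.subgroupOf R).Normal := by
      refine Subgroup.normal_subgroupOf_of_le_normalizer (fun r hr => ?_)
      refine Subgroup.mem_normalizer_iff.mpr fun c => ?_
      have key : ∀ r ∈ R, ∀ c ∈ C, r * c * r⁻¹ ∈ C := fun r hr c hc =>
        ⟨R.mul_mem (R.mul_mem hr hc.1) (R.inv_mem hr), Subgroup.mem_centralizer_iff.mpr fun e he => by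
          have h1 := Subgroup.mem_centralizer_iff.mp hc.2 (r⁻¹ * e * r)
            (by simpa using (Subgroup.mem_normalizer_iff.mp (h.norm (inv_mem hr)) e).mp he)
          calc e * (r * c * r⁻¹) = r * (r⁻¹ * e * r * c) * r⁻¹ := by group
            _ = r * (c * (r⁻¹ * e * r)) * r⁻¹ := by rw [h1]
            _ = r * c * r⁻¹ * e := by group⟩
      exact ⟨key r hr c, fun hc => by simpa [mul_assoc] using key r⁻¹ (inv_mem hr) _ hc⟩
    have hB := hprim.isTrivialBlock_of_isBlock
      (MulAction.IsBlock.orbit_of_normal (N := C.subgroupOf R) x₁)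
    have htrC : ∀ v, ∃ c ∈ C, c x₁ = v := by
      rcases hB with hs | hs
      · exact absurd (hs ⟨⟨⟨τ, hτR⟩, hτC⟩, rfl⟩ (MulAction.mem_orbit_self x₁)) t1
      · intro v
        obtain ⟨⟨⟨c, hcR⟩, hcC⟩, hc⟩ := (hs ▸ Set.mem_univ v :
          v ∈ MulAction.orbit (C.subgroupOf R) x₁)
        exact ⟨c, hcC, hc⟩
    -- then `E` lies in `C`
    refine hnab C ⟨⟨fun a b => Subtype.ext ?_⟩⟩ (fun e he => ?_)
    · exact Subgroup.mem_centralizer_iff.mp b.2.2 a (h.cent a.2)
    · obtain ⟨k, hk, hkx⟩ := htrC (e x₁)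
      have : k = e := Equiv.ext fun v => by
        obtain ⟨c, hc, rfl⟩ := htrC v
        have h1 := DFunLike.congr_fun (Subgroup.mem_centralizer_iff.mp hc.2 e he) x₁
        have h2 := DFunLike.congr_fun (Subgroup.mem_centralizer_iff.mp hc.2 k (h.cent hk)) x₁
        rw [Equiv.Perm.mul_apply, Equiv.Perm.mul_apply] at h1 h2
        rw [h1, h2, hkx]
      exact this ▸ hk
  · push Not at hcomm
    obtain ⟨g, hg, p, hne⟩ := hcomm
    have i1 : g (g⁻¹ p) = p := g.apply_symm_apply p
    set x := g⁻¹ p with hx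
    set q := g (τ x) with hq
    set y := g⁻¹ (τ q) with hy
    have i2 : g y = τ q := g.apply_symm_apply _
    -- `hne` says that the image pair through `τ p` misses `τ q`
    have hne' : g (τ y) ≠ τ p := fun e => hne (by rw [← e, show g⁻¹ (g (τ y)) = τ y from g.symm_apply_apply _, hτ, i2])
    have hpq : p ≠ q := by rw [← i1]; exact g.injective.ne (hz x).symm
    have hqp : q ≠ τ p := fun e => hne (by
      rw [← e, show g⁻¹ q = τ x from g.symm_apply_apply _, hτ, i1, e, hτ])
    have y1 : y ≠ x := fun e => hqp (by rw [e, i1] at i2; rw [i2, hτ])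
    have y2 : y ≠ τ x := fun e => hz q (by rw [e] at i2; exact i2.symm)
    obtain ⟨w, hw, haw⟩ := room [p, τ p, q, τ q, g (τ y), τ (g (τ y))] (by simp; omega)
    have hv := conjv g hg x y (hz x) (hz y) y1 y2
    rw [i1, i2] at hv
    refine fin p q (τ q) (g (τ y)) hv (hz p) hpq hqp (fun e => hqp (by rw [e, hτ]))
      (by rw [← i1]; exact g.injective.ne (fun e => y2 (by rw [e, hτ])))
      (hz q).symm (g.injective.ne (τ.injective.ne y1.symm))
      (τ.injective.ne hpq) hne'.symm ⟨w, hw, ?_⟩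
    intro a ha
    simp only [List.mem_cons, List.not_mem_nil, or_false] at ha
    rcases ha with rfl | rfl | rfl | rfl
    · exact ⟨haw _ (by simp), haw _ (by simp)⟩
    · exact ⟨haw _ (by simp), haw _ (by simp)⟩
    · exact ⟨haw _ (by simp), by rw [hτ]; exact haw _ (by simp)⟩
    · exact ⟨haw _ (by simp), haw _ (by simp)⟩

end Perm
section Main

theorem base {X : Type*} [Group X] [Finite X]
    (hq : Cfsg.IsQuasisimple ↥(Cfsg.generalizedFittingSubgroup X)) :
    QS (⊤ : Subgroup X) (Cfsg.generalizedFittingSubgroup X) := by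
  haveI : Group.IsPerfect ↥(Cfsg.generalizedFittingSubgroup X) := hq.1
  haveI : (Cfsg.generalizedFittingSubgroup X).Normal :=
    inferInstanceAs (Cfsg.generalizedFittingSubgroup X).Normal
  refine ⟨le_top, (Subgroup.normalizer_eq_top_iff.mpr inferInstance).ge, ?_, fun he => ?_,
    fun N hN hn => ?_, inf_le_right.trans Components.centralizer_genFitting_le⟩
  · exact Subgroup.isPerfect_iff.mp hq.1
  · haveI : Subsingleton ↥(Cfsg.generalizedFittingSubgroup X) := by
      rw [he]; infer_instance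
    haveI := hq.2
    exact not_subsingleton (↥(Cfsg.generalizedFittingSubgroup X) ⧸
      Subgroup.center ↥(Cfsg.generalizedFittingSubgroup X)) inferInstance
  · haveI := Subgroup.normal_subgroupOf_of_le_normalizer hn
    rcases Components.IsQuasisimple.normal_eq_top_or_le_center hq (N.subgroupOf _) with h1 | h1
    · exact Or.inl (le_antisymm hN (Subgroup.subgroupOf_eq_top.mp h1))
    · refine Or.inr fun x hx => ?_
      rw [Subgroup.mem_centralizer_iff]
      intro e he
      exact congrArg Subtype.val (Subgroup.mem_center_iff.mp (h1 (show (⟨x, hN hx⟩ :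
        ↥(Cfsg.generalizedFittingSubgroup X)) ∈ N.subgroupOf _ from hx)) ⟨e, he⟩)

theorem main (n : ℕ) (hn : 8 ≤ n) (H E : Subgroup (Equiv.Perm (Fin n))) (h : QS H E)
    {σ : Equiv.Perm (Fin n)} (hσ : ∀ x, σ (σ x) = x) (huniq : ∀ x y, σ x = x → σ y = y → x = y)
    (heven : Even n → ∀ x, σ x ≠ x)
    (hu : ∀ x y, σ x ≠ x → σ y ≠ y → y ≠ x → y ≠ σ x → dbl σ x y ∈ H) :
    ∃ m : ℕ, (m = n - 3 ∨ m = n - 2 ∨ m = n - 1 ∨ m = n) ∧
      Nonempty (↥E ≃* ↥(alternatingGroup (Fin m))) := by
  classical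
  -- orbits of `E`
  let orb : Fin n → Finset (Fin n) := fun x => Finset.univ.filter fun y => ∃ e ∈ E, e x = y
  have hmem : ∀ {x y}, y ∈ orb x ↔ ∃ e ∈ E, e x = y := fun {x y} => by simp [orb]
  have hself : ∀ x, x ∈ orb x := fun x => hmem.mpr ⟨1, one_mem _, rfl⟩
  have horb : ∀ {x y}, y ∈ orb x → orb y = orb x := fun {x y} hy => by
    obtain ⟨e, he, rfl⟩ := hmem.mp hy
    ext z
    rw [hmem, hmem]
    constructor
    · rintro ⟨f, hf, rfl⟩; exact ⟨f * e, mul_mem hf he, rfl⟩
    · rintro ⟨f, hf, rfl⟩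
      exact ⟨f * e⁻¹, mul_mem hf (inv_mem he), by simp⟩
  have himg : ∀ g ∈ H, ∀ x y, y ∈ orb x → g y ∈ orb (g x) := fun g hg x y hy => by
    obtain ⟨e, he, rfl⟩ := hmem.mp hy
    exact hmem.mpr ⟨g * e * g⁻¹, (Subgroup.mem_normalizer_iff.mp (h.norm hg) e).mp he, by simp⟩
  have hfour : ∀ S : Finset (Fin n), S.card ≤ 4 → (∀ e ∈ E, ∀ v ∈ S, e v ∈ S) →
      ∀ e ∈ E, ∀ v ∈ S, e v = v := fun S h4 hS => restrict_fix h S h4 hS
  obtain ⟨e₀, he₀, hne₀⟩ : ∃ e ∈ E, e ≠ 1 := by
    by_contra hall
    push Not at hall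
    exact h.ne ((Subgroup.eq_bot_iff_forall _).mpr hall)
  obtain ⟨x₀, hx₀⟩ : ∃ x, e₀ x ≠ x := by
    by_contra hall
    push Not at hall
    exact hne₀ (Equiv.ext hall)
  have hbig : ∀ x, (∃ e ∈ E, e x ≠ x) → 5 ≤ (orb x).card := fun x ⟨e, he, hex⟩ => by
    by_contra hlt
    exact hex (hfour (orb x) (by omega) (fun f hf v hv => by
      rw [← horb hv]; exact hmem.mpr ⟨f, hf, rfl⟩) e he x (hself x))
  have hsuppC : ∀ x y, σ x ≠ x → σ y ≠ y → y ≠ x → y ≠ σ x →
      dbl σ x y ∈ Subgroup.centralizer (E : Set (Equiv.Perm (Fin n))) → ∀ e ∈ E, e x = x := by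
    intro x y hx hy h1 h2 hc
    obtain ⟨f1, f2, f3, f4, f5⟩ := dbl_facts hσ h1 h2
    intro e he
    refine hfour {x, σ x, y, σ y} Finset.card_le_four (fun f hf v hv => ?_) e he x (by simp)
    have hmoved : dbl σ x y v ≠ v := by
      simp only [Finset.mem_insert, Finset.mem_singleton] at hv
      rcases hv with rfl | rfl | rfl | rfl
      · rw [f1]; exact hx
      · rw [f2]; exact hx.symm
      · rw [f3]; exact hy
      · rw [f4]; exact hy.symm
    have hcomm := DFunLike.congr_fun (Subgroup.mem_centralizer_iff.mp hc f hf) v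
    change f (dbl σ x y v) = dbl σ x y (f v) at hcomm
    by_contra hnot
    simp only [Finset.mem_insert, Finset.mem_singleton, not_or] at hnot
    rw [f5 _ hnot.1 hnot.2.1 hnot.2.2.1 hnot.2.2.2] at hcomm
    exact hmoved (f.injective hcomm)
  have hfixC : ∀ x, (∃ e ∈ E, e x ≠ x) → ∀ g ∈ H, (∀ v ∈ orb x, g v = v) →
      g ∈ Subgroup.centralizer (E : Set (Equiv.Perm (Fin n))) := by
    intro x ⟨e₁, he₁, hne₁⟩ g hg hfix
    let Nk : Subgroup (Equiv.Perm (Fin n)) :=
      { carrier := {c | c ∈ E ∧ ∀ v ∈ orb x, c v = v}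
        one_mem' := ⟨one_mem _, fun v _ => rfl⟩
        mul_mem' := fun {a b} ha hb => ⟨mul_mem ha.1 hb.1, fun v hv => by
          show a (b v) = v; rw [hb.2 v hv, ha.2 v hv]⟩
        inv_mem' := fun {a} ha => ⟨inv_mem ha.1, fun v hv => by
          rw [Equiv.Perm.inv_eq_iff_eq]; exact (ha.2 v hv).symm⟩ }
    have hinv : ∀ f ∈ E, ∀ v ∈ orb x, f v ∈ orb x := fun f hf v hv => by
      rw [← horb hv]; exact hmem.mpr ⟨f, hf, rfl⟩
    have hNk : Nk ≤ Subgroup.centralizer (E : Set (Equiv.Perm (Fin n))) := by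
      refine (h.qs Nk (fun c hc => hc.1) (fun f hf => ?_)).resolve_left fun he => ?_
      · have key : ∀ f ∈ E, ∀ c ∈ Nk, f * c * f⁻¹ ∈ Nk := fun f hf c hc =>
          ⟨E.mul_mem (E.mul_mem hf hc.1) (E.inv_mem hf), fun v hv => by
            show f (c (f⁻¹ v)) = v
            rw [hc.2 _ (hinv _ (inv_mem hf) v hv)]; simp⟩
        rw [Subgroup.mem_normalizer_iff]
        exact fun c => ⟨key f hf c, fun hc => by simpa [mul_assoc] using key f⁻¹ (inv_mem hf) _ hc⟩
      · exact hne₁ ((he.symm ▸ he₁ : e₁ ∈ Nk).2 x (hself x))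
    refine h.central_of_comm fun f hf => ?_
    have hfm : ⁅g, f⁆ ∈ E := by
      rw [commutatorElement_def]
      exact E.mul_mem ((Subgroup.mem_normalizer_iff.mp (h.norm hg) f).mp hf) (E.inv_mem hf)
    refine ⟨hfm, hNk ⟨hfm, fun v hv => ?_⟩⟩
    rw [commutatorElement_def]
    show g (f (g⁻¹ (f⁻¹ v))) = v
    have hv' := hinv _ (inv_mem hf) v hv
    rw [show g⁻¹ (f⁻¹ v) = f⁻¹ v from by rw [Equiv.Perm.inv_eq_iff_eq]; exact (hfix _ hv').symm,
      show f (f⁻¹ v) = v from f.apply_symm_apply v]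
    exact hfix v hv
  have hfix1 : (Finset.univ.filter fun v : Fin n => σ v = v).card ≤ 1 := Finset.card_le_one.mpr
    fun a ha b hb => huniq a b (Finset.mem_filter.mp ha).2 (Finset.mem_filter.mp hb).2
  -- pairs do not cross big orbits
  have hcross : ∀ x, 5 ≤ (orb x).card → σ x ∈ orb x := by
    intro x hx5
    by_cases hx : σ x = x
    · rw [hx]; exact hself x
    obtain ⟨y, hy⟩ := exists_avoid ([x, σ x].toFinset ∪ Finset.univ.filter fun v => σ v = v)
      ((Finset.card_union_le _ _).trans_lt (by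
        have := list_card_le (l := [x, σ x]); simp at *; omega))
    simp only [Finset.mem_union, List.mem_toFinset, List.mem_cons, List.not_mem_nil, or_false,
      Finset.mem_filter, Finset.mem_univ, true_and, not_or] at hy
    obtain ⟨f1, f2, f3, f4, f5⟩ := dbl_facts hσ hy.1.1 hy.1.2
    obtain ⟨v, hv, hv'⟩ := Finset.exists_mem_notMem_of_card_lt_card (t := orb x) (s := {x, σ x, y, σ y})
      (lt_of_le_of_lt Finset.card_le_four hx5)
    simp only [Finset.mem_insert, Finset.mem_singleton, not_or] at hv'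
    have h1 := himg _ (hu x y hx hy.2 hy.1.1 hy.1.2) x v hv
    rw [f5 v hv'.1 hv'.2.1 hv'.2.2.1 hv'.2.2.2, f1] at h1
    have h2 := horb h1
    rw [← horb hv, h2]; exact hself _
  have htwo : ∀ x, 5 ≤ (orb x).card → ∃ a b, a ∈ orb x ∧ b ∈ orb x ∧ σ a ∈ orb x ∧ σ b ∈ orb x ∧
      σ a ≠ a ∧ σ b ≠ b ∧ b ≠ a ∧ b ≠ σ a := by
    intro x hx5
    have hσo : ∀ a ∈ orb x, σ a ∈ orb x := fun a ha => by
      rw [← horb ha]; exact hcross a (by rw [horb ha]; exact hx5)
    obtain ⟨a, ha, ha'⟩ := Finset.exists_mem_notMem_of_card_lt_card (t := orb x)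
      (s := Finset.univ.filter fun v => σ v = v) (by omega)
    obtain ⟨b, hb, hb'⟩ := Finset.exists_mem_notMem_of_card_lt_card (t := orb x)
      (s := [a, σ a].toFinset ∪ Finset.univ.filter fun v => σ v = v)
      ((Finset.card_union_le _ _).trans_lt (by
        have := list_card_le (l := [a, σ a]); simp at *; omega))
    simp only [Finset.mem_union, List.mem_toFinset, List.mem_cons, List.not_mem_nil, or_false,
      Finset.mem_filter, Finset.mem_univ, true_and, not_or] at ha' hb'
    exact ⟨a, b, ha, hb, hσo a ha, hσo b hb, ha', hb'.2, hb'.1.1, hb'.1.2⟩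
  -- only one nontrivial orbit
  have hone : ∀ x, (∃ e ∈ E, e x ≠ x) → x ∈ orb x₀ := by
    intro x hx
    by_contra hout
    have hx5 := hbig x hx
    obtain ⟨a, b, ha, hb, hsa, hsb, h1, h2, h3, h4⟩ := htwo x hx5
    obtain ⟨f1, f2, f3, f4, f5⟩ := dbl_facts hσ h3 h4
    have hd : ∀ v ∈ orb x₀, v ∉ orb x := fun v hv hv' => hout (by
      rw [← horb hv, horb hv']; exact hself x)
    have hc := hfixC x₀ ⟨e₀, he₀, hx₀⟩ _ (hu a b h1 h2 h3 h4) fun v hv => f5 v
      (fun e => hd v hv (e ▸ ha)) (fun e => hd v hv (e ▸ hsa))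
      (fun e => hd v hv (e ▸ hb)) (fun e => hd v hv (e ▸ hsb))
    have hxfix := hsuppC a b h1 h2 h3 h4 hc
    obtain ⟨e, he, hex⟩ := hx
    obtain ⟨f, hf, hfa⟩ := hmem.mp ha
    have hfx : f x = x := by
      have := hxfix f⁻¹ (inv_mem hf)
      rw [← hfa] at this
      simpa using this.symm
    exact hex (by
      have := hxfix e he
      rwa [← hfa, hfx] at this)
  have hfixout : ∀ e ∈ E, ∀ v, v ∉ orb x₀ → e v = v := fun e he v hv => by
    by_contra hne
    exact hv (hone v ⟨e, he, hne⟩)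
  have hB5 : 5 ≤ (orb x₀).card := hbig x₀ ⟨e₀, he₀, hx₀⟩
  have hσB : ∀ v, σ v ∈ orb x₀ ↔ v ∈ orb x₀ := by
    have key : ∀ v ∈ orb x₀, σ v ∈ orb x₀ := fun v hv => by
      rw [← horb hv]; exact hcross v (by rw [horb hv]; exact hB5)
    exact fun v => ⟨fun hv => by simpa [hσ] using key _ hv, key v⟩
  have hHB : ∀ g ∈ H, ∀ v, g v ∈ orb x₀ ↔ v ∈ orb x₀ := by
    have key : ∀ g ∈ H, ∀ v ∈ orb x₀, g v ∈ orb x₀ := fun g hg v hv => by
      refine hone _ ?_
      obtain ⟨e, he, hev⟩ : ∃ e ∈ E, e v ≠ v := by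
        by_contra hall
        push Not at hall
        have h1 := horb hv
        have h2 : orb v = {v} := by
          ext w; rw [hmem, Finset.mem_singleton]
          exact ⟨fun ⟨e, he, hw⟩ => hw ▸ hall e he, fun hw => ⟨1, one_mem _, hw.symm⟩⟩
        rw [← h1, h2, Finset.card_singleton] at hB5
        omega
      refine ⟨g * e * g⁻¹, (Subgroup.mem_normalizer_iff.mp (h.norm hg) e).mp he, ?_⟩
      simpa using hev
    exact fun g hg v => ⟨fun hv => by simpa using key g⁻¹ (inv_mem hg) _ hv, key g hg v⟩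
  have hfaith : ∀ g ∈ H, (∀ v ∈ orb x₀, g v = v) → g = 1 := by
    intro g hg hfix
    have hgE := h.cent ⟨hg, hfixC x₀ ⟨e₀, he₀, hx₀⟩ g hg hfix⟩
    refine Equiv.ext fun v => ?_
    by_cases hv : v ∈ orb x₀
    · exact hfix v hv
    · exact hfixout g hgE v hv
  have hout : ∀ x y, σ x ≠ x → σ y ≠ y → y ≠ x → y ≠ σ x → x ∉ orb x₀ → y ∉ orb x₀ → False := by
    intro x y h1 h2 h3 h4 hx hy
    obtain ⟨f1, f2, f3, f4, f5⟩ := dbl_facts hσ h3 h4
    have := hfaith _ (hu x y h1 h2 h3 h4) fun v hv => f5 v (fun e => hx (e ▸ hv))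
      (fun e => hx ((hσB x).mp (e ▸ hv))) (fun e => hy (e ▸ hv)) (fun e => hy ((hσB y).mp (e ▸ hv)))
    rw [this] at f1
    exact h1 f1.symm
  -- restriction to the orbit
  let β := {v : Fin n // v ∈ orb x₀}
  let r : ↥H →* Equiv.Perm β :=
    { toFun := fun g => (g : Equiv.Perm (Fin n)).subtypePerm fun v => hHB g g.2 v
      map_one' := Equiv.ext fun v => rfl
      map_mul' := fun a b => Equiv.ext fun v => rfl }
  have hr : Function.Injective r := by
    rw [injective_iff_map_eq_one]
    intro g hg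
    exact Subtype.ext (hfaith g g.2 fun v hv =>
      congrArg Subtype.val (DFunLike.congr_fun hg (⟨v, hv⟩ : β)))
  have hQS0 : QS (⊤ : Subgroup ↥H) (E.subgroupOf H) := by
    refine ⟨le_top, fun g _ => ?_, ?_, ?_, fun N hN hn' => ?_, ?_⟩
    · rw [Subgroup.mem_normalizer_iff]
      exact fun k => Subgroup.mem_normalizer_iff.mp (h.norm g.2) k
    · apply Subgroup.map_injective H.subtype_injective
      rw [Subgroup.map_commutator, Subgroup.map_subgroupOf_eq_of_le h.le, h.perf]
    · intro he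
      apply h.ne
      rw [← Subgroup.map_subgroupOf_eq_of_le h.le, he, Subgroup.map_bot]
    · rcases h.qs (N.map H.subtype)
        (by rw [← Subgroup.map_subgroupOf_eq_of_le h.le]; exact Subgroup.map_mono hN)
        (by
          rw [← Subgroup.map_subgroupOf_eq_of_le h.le]
          exact (Subgroup.map_mono hn').trans (Subgroup.le_normalizer_map _)) with h1 | h1
      · left
        apply Subgroup.map_injective H.subtype_injective
        rw [h1, Subgroup.map_subgroupOf_eq_of_le h.le]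
      · refine Or.inr fun k hk => Subgroup.mem_centralizer_iff.mpr fun e he => Subtype.ext ?_
        exact Subgroup.mem_centralizer_iff.mp (h1 (Subgroup.mem_map_of_mem _ hk)) e he
    · intro g hg
      exact h.cent ⟨g.2, Subgroup.mem_centralizer_iff.mpr fun e he =>
        congrArg Subtype.val (Subgroup.mem_centralizer_iff.mp hg.2 ⟨e, h.le he⟩ he)⟩
  have hQ := hQS0.map r hr
  rw [← MonoidHom.range_eq_map] at hQ
  set R := r.range with hR
  set E' := (E.subgroupOf H).map r with hE'
  let τ : Equiv.Perm β := σ.subtypePerm hσB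
  have hτ : ∀ v, τ (τ v) = v := fun v => Subtype.ext (hσ v.1)
  have hτu : ∀ a b, τ a = a → τ b = b → a = b := fun a b ha hb =>
    Subtype.ext (huniq a.1 b.1 (congrArg Subtype.val ha) (congrArg Subtype.val hb))
  have hswap : ∀ (a b : β) (v : β), ((Equiv.swap a b v : β) : Fin n) = Equiv.swap a.1 b.1 v.1 :=
    fun a b v => by
      rcases eq_or_ne v a with rfl | h1
      · simp
      rcases eq_or_ne v b with rfl | h2
      · simp
      rw [Equiv.swap_apply_of_ne_of_ne h1 h2, Equiv.swap_apply_of_ne_of_ne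
        (fun e => h1 (Subtype.ext e)) (fun e => h2 (Subtype.ext e))]
  have hτR : ∀ a b, τ a ≠ a → τ b ≠ b → b ≠ a → b ≠ τ a → dbl τ a b ∈ R := by
    intro a b h1 h2 h3 h4
    refine ⟨⟨dbl σ a.1 b.1, hu a.1 b.1 (fun e => h1 (Subtype.ext e)) (fun e => h2 (Subtype.ext e))
      (fun e => h3 (Subtype.ext e)) (fun e => h4 (Subtype.ext e))⟩, Equiv.ext fun v => Subtype.ext ?_⟩
    show dbl σ a.1 b.1 v.1 = _
    rw [dbl, dbl, Equiv.Perm.mul_apply, Equiv.Perm.mul_apply, hswap, hswap]
    rfl
  have htr : ∀ a b : β, ∃ e ∈ E', e a = b := by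
    intro a b
    have hb : b.1 ∈ orb a.1 := by rw [horb a.2]; exact b.2
    obtain ⟨e, he, hev⟩ := hmem.mp hb
    exact ⟨r ⟨e, h.le he⟩, ⟨⟨e, h.le he⟩, he, rfl⟩, Subtype.ext hev⟩
  have hm : Fintype.card β = (orb x₀).card := Fintype.card_coe _
  have hmn : (orb x₀).card ≤ n := le_trans (Finset.card_le_univ _) (by rw [Fintype.card_fin])
  have hcompl : (orb x₀)ᶜ.card = n - (orb x₀).card := by rw [Finset.card_compl, Fintype.card_fin]
  have hm3 : n - (orb x₀).card ≤ 3 := by
    rw [← hcompl]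
    by_contra hgt
    push Not at hgt
    obtain ⟨a, ha, ha'⟩ := Finset.exists_mem_notMem_of_card_lt_card (t := (orb x₀)ᶜ)
      (s := Finset.univ.filter fun v => σ v = v) (by omega)
    obtain ⟨b, hb, hb'⟩ := Finset.exists_mem_notMem_of_card_lt_card (t := (orb x₀)ᶜ)
      (s := [a, σ a].toFinset ∪ Finset.univ.filter fun v => σ v = v)
      ((Finset.card_union_le _ _).trans_lt (by
        have := list_card_le (l := [a, σ a]); simp at *; omega))
    simp only [Finset.mem_union, List.mem_toFinset, List.mem_cons, List.not_mem_nil, or_false,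
      Finset.mem_filter, Finset.mem_univ, true_and, not_or, Finset.mem_compl] at ha ha' hb hb'
    exact hout a b ha' hb'.2 hb'.1.1 hb'.1.2 ha hb
  have halt : alternatingGroup β ≤ R := by
    by_cases hc : ∃ c, c ∉ orb x₀ ∧ σ c ≠ c
    · obtain ⟨c, hc, hc'⟩ := hc
      obtain ⟨a, ha, ha'⟩ := Finset.exists_mem_notMem_of_card_lt_card (t := orb x₀)
        (s := Finset.univ.filter fun v => σ v = v) (by omega)
      simp only [Finset.mem_filter, Finset.mem_univ, true_and] at ha'
      have hmemH := hu a c ha' hc' (fun e => hc (e ▸ ha)) (fun e => hc (e ▸ (hσB a).mpr ha))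
      have he : r ⟨_, hmemH⟩ = Equiv.swap (⟨a, ha⟩ : β) (τ ⟨a, ha⟩) := by
        refine Equiv.ext fun v => Subtype.ext ?_
        show dbl σ a c v.1 = _
        rw [dbl, Equiv.Perm.mul_apply, hswap, Equiv.swap_apply_of_ne_of_ne (a := c) (b := σ c)
          (fun e => hc (e ▸ v.2)) (fun e => hc ((hσB c).mp (e ▸ v.2)))]
        rfl
      have hsw : Equiv.Perm.IsSwap (r ⟨_, hmemH⟩) :=
        ⟨⟨a, ha⟩, τ ⟨a, ha⟩, fun e => ha' (congrArg Subtype.val e).symm, he⟩
      have hprim := prim hτ hQ (by omega) htr hτu hτR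
      rw [Equiv.Perm.subgroup_eq_top_of_isPreprimitive_of_isSwap_mem hprim _ hsw
        (MonoidHom.mem_range.mpr ⟨_, rfl⟩)]
      exact le_top
    · push Not at hc
      have hsub : (orb x₀)ᶜ ⊆ Finset.univ.filter fun v => σ v = v := fun v hv =>
        Finset.mem_filter.mpr ⟨Finset.mem_univ _, hc v (Finset.mem_compl.mp hv)⟩
      have hle1 := (Finset.card_le_card hsub).trans hfix1
      rcases Nat.eq_zero_or_pos (orb x₀)ᶜ.card with h0 | h0
      · refine alt_le hτ hQ (by omega) (fun ⟨z, hz⟩ => ?_) htr hτu hτR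
        have : ¬ Even n := fun he => heven he z.1 (congrArg Subtype.val hz)
        rw [Nat.even_iff] at this
        omega
      · obtain ⟨c, hc'⟩ := Finset.card_pos.mp h0
        have hz := (Finset.mem_filter.mp (hsub hc')).2
        have : ¬ Even n := fun he => heven he c hz
        rw [Nat.even_iff] at this
        refine alt_le hτ hQ (by omega) (fun ⟨z, hz'⟩ => ?_) htr hτu hτR
        exact absurd (huniq c z.1 hz (congrArg Subtype.val hz'))
          (fun e => Finset.mem_compl.mp hc' (e ▸ z.2))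
  -- identification
  have hEA : E' = alternatingGroup β := by
    have hle : E' ≤ alternatingGroup β := by
      rw [← hQ.perf, Subgroup.commutator_le]
      intro a _ b _
      rw [Equiv.Perm.mem_alternatingGroup, map_commutatorElement, commutatorElement_eq_one_iff_mul_comm]
      exact mul_comm _ _
    haveI : IsSimpleGroup ↥(alternatingGroup β) :=
      alternatingGroup.isSimpleGroup (by rw [Nat.card_eq_fintype_card]; omega)
    haveI : (E'.subgroupOf (alternatingGroup β)).Normal :=
      Subgroup.normal_subgroupOf_of_le_normalizer (halt.trans hQ.norm)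
    rcases Subgroup.Normal.eq_bot_or_eq_top (inferInstance : (E'.subgroupOf (alternatingGroup β)).Normal) with h1 | h1
    · rw [Subgroup.subgroupOf_eq_bot, disjoint_iff, inf_eq_left.mpr hle] at h1
      exact absurd h1 hQ.ne
    · exact le_antisymm hle (Subgroup.subgroupOf_eq_top.mp h1)
  refine ⟨(orb x₀).card, by omega, ⟨?_⟩⟩
  refine (Subgroup.subgroupOfEquivOfLe h.le).symm.trans
    ((Subgroup.equivMapOfInjective _ r hr).trans ((MulEquiv.subgroupCongr hEA).trans
      (Equiv.altCongrHom (Fintype.equivFinOfCardEq hm))))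

end Main

/-- Let n ≥ 8 and let H be a subgroup of the symmetric group of degree n whose generalized Fitting subgroup F*(H) is quasisimple. If H contains a Sylow 2-subgroup of the alternating group of degree n, then F*(H) is isomorphic to an alternating group of degree m for some m ∈ {n − 3, n − 2, n − 1, n}. -/
theorem result (n : ℕ) (hn : 8 ≤ n) (H : Subgroup (Equiv.Perm (Fin n))) (hF : Cfsg.IsQuasisimple ↥(Cfsg.generalizedFittingSubgroup ↥H)) (hS : ∃ P : Sylow 2 ↥(alternatingGroup (Fin n)), ((P : Subgroup ↥(alternatingGroup (Fin n))).map (alternatingGroup (Fin n)).subtype) ≤ H) : ∃ m : ℕ, (m = n - 3 ∨ m = n - 2 ∨ m = n - 1 ∨ m = n) ∧ Nonempty (↥(Cfsg.generalizedFittingSubgroup ↥H) ≃* ↥(alternatingGroup (Fin m))) := by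
  obtain ⟨P, hP⟩ := hS
  obtain ⟨T, hT⟩ := Cfsg.Agent.Lib.KnownA.SylowTwo.exists_sylow_perm P
  obtain ⟨σ, hσ, huniq, -, hswap, -, heven⟩ := Cfsg.Agent.Lib.KnownA.SylowTwo.exists_pairing T
  have h0 := (base hF).map H.subtype H.subtype_injective
  rw [← MonoidHom.range_eq_map, Subgroup.range_subtype] at h0
  obtain ⟨m, hm, ⟨e⟩⟩ := main n hn H _ h0 hσ huniq heven (fun x y hx hy h1 h2 => by
    have hA : dbl σ x y ∈ alternatingGroup (Fin n) := by
      rw [Equiv.Perm.mem_alternatingGroup, map_mul, Equiv.Perm.sign_swap hx.symm,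
        Equiv.Perm.sign_swap hy.symm]
      rfl
    refine hP ⟨⟨_, hA⟩, ?_, rfl⟩
    rw [hT]
    exact (T : Subgroup (Equiv.Perm (Fin n))).mul_mem (hswap x) (hswap y))
  exact ⟨m, hm, ⟨(Subgroup.equivMapOfInjective _ H.subtype H.subtype_injective).trans e⟩⟩

end Cfsg.Agent.S2928
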