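import Cfsg.Statements.S2929
import Cfsg.Agent.Lib.Perm.ThreeBlocks
import Cfsg.Agent.Lib.Components.GenFitting
import Cfsg.Agent.Lib.Components.Quasisimple
import Cfsg.Agent.Lib.LocalEven2.Sylow
import Cfsg.Agent.Lib.PGroups.SmallPerm

set_option autoImplicit false
open Cfsg

namespace Cfsg.Agent.S2929

open Cfsg.Agent.Lib Cfsg.Agent.Lib.Perm.ThreeBlocks

theorem cover (n : ℕ) (H : Subgroup (Equiv.Perm (Fin n))) (P : Sylow 3 (Equiv.Perm (Fin n)))
    (hP : (P : Subgroup (Equiv.Perm (Fin n))) ≤ H) :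
    ∃ U : Finset (Fin n), n ≤ U.card + 2 ∧ ∀ x ∈ U, ∃ a b c, a ≠ b ∧ b ≠ c ∧ a ≠ c ∧
      cyc a b c ∈ H ∧ (x = a ∨ x = b ∨ x = c) := by
  haveI : Fact (Nat.Prime 3) := ⟨Nat.prime_three⟩
  let k := n / 3
  let pt : Fin k → Fin 3 → Fin n := fun i j =>
    ⟨3 * i.val + j.val, by have := i.isLt; have := j.isLt; have := Nat.mul_div_le n 3; omega⟩
  let t : Fin k → Equiv.Perm (Fin n) := fun i => cyc (pt i 0) (pt i 1) (pt i 2)
  have hval : ∀ i j, (pt i j).val = 3 * i.val + j.val := fun i j => rfl
  have hne : ∀ i i' : Fin k, ∀ j j' : Fin 3, (i ≠ i' ∨ j ≠ j') → pt i j ≠ pt i' j' := by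
    intro i i' j j' h e
    have e' := congrArg Fin.val e
    rw [hval, hval] at e'
    have := j.isLt; have := j'.isLt
    rcases h with h | h
    · exact h (Fin.ext (by omega))
    · exact h (Fin.ext (by omega))
  have hcomm : ∀ i i', t i * t i' = t i' * t i := by
    intro i i'
    by_cases h : i = i'
    · rw [h]
    · have e : t i * t i' * (t i)⁻¹ = t i' := by
        show t i * cyc _ _ _ * (t i)⁻¹ = _
        rw [cyc_conj]
        show cyc _ _ _ = cyc _ _ _
        rw [show ∀ j, t i (pt i' j) = pt i' j from fun j => cyc_other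
          (hne i' i j 0 (Or.inl (Ne.symm h))) (hne i' i j 1 (Or.inl (Ne.symm h)))
          (hne i' i j 2 (Or.inl (Ne.symm h)))]
        rw [show ∀ j, t i (pt i' j) = pt i' j from fun j => cyc_other
          (hne i' i j 0 (Or.inl (Ne.symm h))) (hne i' i j 1 (Or.inl (Ne.symm h)))
          (hne i' i j 2 (Or.inl (Ne.symm h)))]
        rw [show ∀ j, t i (pt i' j) = pt i' j from fun j => cyc_other
          (hne i' i j 0 (Or.inl (Ne.symm h))) (hne i' i j 1 (Or.inl (Ne.symm h)))
          (hne i' i j 2 (Or.inl (Ne.symm h)))]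
      calc t i * t i' = t i * t i' * (t i)⁻¹ * t i := by group
        _ = t i' * t i := by rw [e]
  set E := Subgroup.closure (Set.range t) with hE
  haveI : IsMulCommutative ↥E :=
    Subgroup.isMulCommutative_closure (by rintro _ ⟨i, rfl⟩ _ ⟨i', rfl⟩; exact hcomm i i')
  have hE3 : IsPGroup 3 ↥E := by
    have hle : ∀ g ∈ E, g ∈ E ∧ g ^ 3 = 1 := by
      intro g hg
      refine ⟨hg, ?_⟩
      induction hg using Subgroup.closure_induction with
      | mem g hg =>
        obtain ⟨i, rfl⟩ := hg
        have h3 := (cyc_isThreeCycle (hne i i 0 1 (Or.inr (by decide)))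
          (hne i i 1 2 (Or.inr (by decide))) (hne i i 0 2 (Or.inr (by decide)))).orderOf
        rw [← h3]; exact pow_orderOf_eq_one _
      | one => simp
      | mul g h hg hh ihg ihh =>
        have hc : Commute g h :=
          congrArg Subtype.val (mul_comm' (⟨g, hg⟩ : ↥E) ⟨h, hh⟩)
        rw [hc.mul_pow, ihg, ihh, mul_one]
      | inv g _ ih => rw [inv_pow, ih, inv_one]
    rintro ⟨g, hg⟩
    exact ⟨1, Subtype.ext (by simpa using (hle g hg).2)⟩
  obtain ⟨Q, hQ⟩ := hE3.exists_le_sylow
  obtain ⟨σ, hσ⟩ := MulAction.exists_smul_eq (Equiv.Perm (Fin n)) P Q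
  have hmem : ∀ i, cyc (σ⁻¹ (pt i 0)) (σ⁻¹ (pt i 1)) (σ⁻¹ (pt i 2)) ∈ H := by
    intro i
    have h1 : t i ∈ ((σ • P : Sylow 3 (Equiv.Perm (Fin n))) : Subgroup (Equiv.Perm (Fin n))) := by
      rw [hσ]; exact hQ (Subgroup.subset_closure ⟨i, rfl⟩)
    rw [LocalEven2.mem_smul_sylow] at h1
    have := cyc_conj σ⁻¹ (pt i 0) (pt i 1) (pt i 2)
    rw [inv_inv] at this
    rw [← this]
    exact hP h1
  refine ⟨Finset.univ.image fun ij : Fin k × Fin 3 => σ⁻¹ (pt ij.1 ij.2), ?_, ?_⟩
  · rw [Finset.card_image_of_injective]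
    · simp only [Finset.card_univ, Fintype.card_prod, Fintype.card_fin]
      omega
    · rintro ⟨i, j⟩ ⟨i', j'⟩ h
      have h' := σ⁻¹.injective h
      by_contra hne'
      apply hne i i' j j' ?_ h'
      by_cases hi : i = i'
      · right; intro hj; exact hne' (by rw [hi, hj])
      · exact Or.inl hi
  · intro x hx
    obtain ⟨⟨i, j⟩, -, rfl⟩ := Finset.mem_image.mp hx
    refine ⟨_, _, _, σ⁻¹.injective.ne (hne i i 0 1 (Or.inr (by decide))),
      σ⁻¹.injective.ne (hne i i 1 2 (Or.inr (by decide))),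
      σ⁻¹.injective.ne (hne i i 0 2 (Or.inr (by decide))), hmem i, ?_⟩
    fin_cases j <;> simp

/-- Let n ≥ 5 and let H be a subgroup of the symmetric group of degree n whose generalized Fitting subgroup F*(H) is quasisimple. If H contains a Sylow 3-subgroup of the symmetric group, then F*(H) is isomorphic to an alternating group of degree m for some m ∈ {n − 2, n − 1, n}. -/
theorem result (n : ℕ) (hn : 5 ≤ n) (H : Subgroup (Equiv.Perm (Fin n))) (hF : Cfsg.IsQuasisimple ↥(Cfsg.generalizedFittingSubgroup ↥H)) (hS : ∃ P : Sylow 3 (Equiv.Perm (Fin n)), (P : Subgroup (Equiv.Perm (Fin n))) ≤ H) : ∃ m : ℕ, (m = n - 2 ∨ m = n - 1 ∨ m = n) ∧ Nonempty (↥(Cfsg.generalizedFittingSubgroup ↥H) ≃* ↥(alternatingGroup (Fin m))) := by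
  classical
  obtain ⟨P, hP⟩ := hS
  obtain ⟨U, hUc, hU⟩ := cover n H P hP
  have hblk : ∀ x ∈ U, ∃ B, IsBlk H B ∧ x ∈ B := by
    intro x hx
    obtain ⟨a, b, c, hab, hbc, hac, ht, hx'⟩ := hU x hx
    rcases hx' with rfl | rfl | rfl
    · exact exists_blk hab hbc hac ht
    · rw [cyc_rot hab hbc hac] at ht; exact exists_blk hbc hac.symm hab.symm ht
    · rw [cyc_rot hab hbc hac, cyc_rot hbc hac.symm hab.symm] at ht
      exact exists_blk hac.symm hab hbc.symm ht
  set F := Cfsg.generalizedFittingSubgroup ↥H with hFdef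
  haveI hFn : F.Normal := Components.genFitting_normal
  have hFc : Cfsg.IsComponent F := ⟨hFn.isSubnormal, hF⟩
  set D := (cycGroup H).subgroupOf H with hD
  haveI hDn : D.Normal := Subgroup.normal_subgroupOf_of_le_normalizer cycGroup_normalized
  by_cases hbig : ∃ B, IsBlk H B ∧ 5 ≤ B.card
  · obtain ⟨B, hB, h5⟩ := hbig
    have hAD : altOn B ≤ cycGroup H := altOn_le hB.2.1
    have hAH : altOn B ≤ H := hAD.trans cycGroup_le
    set A := (altOn B).subgroupOf H with hA
    have hAsn : A.IsSubnormal := by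
      refine Subgroup.IsSubnormal.step _ D (fun x hx => hAD hx) hDn.isSubnormal ?_
      refine Subgroup.normal_subgroupOf_of_le_normalizer fun x hx => ?_
      rw [Subgroup.mem_normalizer_iff]
      intro y
      exact Subgroup.mem_normalizer_iff.mp
        (altOn_normalized fun z hz => cycGroup_preserves hB hx hz) (y : Equiv.Perm (Fin n))
    have hcardB : Nat.card {x // x ∈ B} = B.card := by simp
    let e₀ : ↥(alternatingGroup {x // x ∈ B}) ≃* ↥A :=
      ((Subgroup.equivMapOfInjective _ _ Equiv.Perm.ofSubtype_injective).trans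
        (MulEquiv.subgroupCongr (altOn_eq_map B).symm)).trans
        (Subgroup.subgroupOfEquivOfLe hAH).symm
    have hAc : Cfsg.IsComponent A := by
      refine ⟨hAsn, Components.IsQuasisimple.of_mulEquiv e₀ ?_⟩
      haveI := alternatingGroup.isSimpleGroup (α := {x // x ∈ B}) (by rw [hcardB]; exact h5)
      refine Components.isQuasisimple_of_simple fun hcomm => ?_
      obtain ⟨⟨a, ha⟩, ⟨b, hb⟩, ⟨c, hc⟩, ⟨d, hd⟩, hne⟩ :
          ∃ a b c d : {x // x ∈ B}, a ≠ b ∧ a ≠ c ∧ a ≠ d ∧ b ≠ c ∧ b ≠ d ∧ c ≠ d := by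
        obtain ⟨S, -, hS4⟩ := Finset.exists_subset_card_eq (n := 4)
          (s := (Finset.univ : Finset {x // x ∈ B})) (by simp; omega)
        obtain ⟨a, b, c, d, hab, hac, had, hbc, hbd, hcd, -⟩ := Finset.card_eq_four.mp hS4
        exact ⟨a, b, c, d, hab, hac, had, hbc, hbd, hcd⟩
      obtain ⟨hab, hac, had, hbc, hbd, hcd⟩ := hne
      have h1 : cyc (⟨a, ha⟩ : {x // x ∈ B}) ⟨b, hb⟩ ⟨c, hc⟩ ∈ alternatingGroup _ :=
        (cyc_isThreeCycle hab hbc hac).mem_alternatingGroup
      have h2 : cyc (⟨a, ha⟩ : {x // x ∈ B}) ⟨b, hb⟩ ⟨d, hd⟩ ∈ alternatingGroup _ :=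
        (cyc_isThreeCycle hab hbd had).mem_alternatingGroup
      have h3 := congrArg (fun u : ↥(alternatingGroup {x // x ∈ B}) =>
        (u : Equiv.Perm {x // x ∈ B}) ⟨a, ha⟩) (hcomm.is_comm.comm ⟨_, h1⟩ ⟨_, h2⟩)
      simp only [Subgroup.coe_mul, Equiv.Perm.mul_apply] at h3
      rw [cyc_left hab had, cyc_left hab hac, cyc_mid hac.symm hbc.symm, cyc_mid had.symm hbd.symm] at h3
      exact hcd h3
    have hAF : A = F := Components.IsComponent.eq_of_le hAc hFc
      ((Components.IsComponent.le_layer hAc).trans Components.layer_le_genFitting)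
    have hUB : U ⊆ B := by
      intro x hx
      by_contra hxB
      obtain ⟨B', hB', hx'⟩ := hblk x hx
      obtain ⟨b, hb, c, hc, hab, hbc, hac⟩ := exists_two_others hB'.1 x hx'
      have ht : cyc x b c ∈ H := hB'.2.1 x hx' b hb c hc hab hbc hac
      have hout : ∀ y ∈ B, y ≠ x ∧ y ≠ b ∧ y ≠ c := by
        intro y hy
        have hd : ∀ z ∈ B', y ≠ z := fun z hz e =>
          hxB ((blk_eq hB hB' hy (e ▸ hz)).symm ▸ hx')
        exact ⟨hd x hx', hd b hb, hd c hc⟩
      have hcen : (⟨cyc x b c, ht⟩ : ↥H) ∈ F := by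
        refine Components.centralizer_genFitting_le ?_
        rw [← hFdef, ← hAF, Subgroup.mem_centralizer_iff]
        intro g hg
        have hle : altOn B ≤ Subgroup.centralizer {cyc x b c} := by
          refine (Subgroup.closure_le _).mpr ?_
          rintro _ ⟨p, hp, q, hq, r, hr, -, -, -, rfl⟩
          rw [SetLike.mem_coe, Subgroup.mem_centralizer_singleton_iff]
          have := cyc_conj (cyc x b c) p q r
          obtain ⟨hp1, hp2, hp3⟩ := hout p hp
          obtain ⟨hq1, hq2, hq3⟩ := hout q hq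
          obtain ⟨hr1, hr2, hr3⟩ := hout r hr
          rw [cyc_other hp1 hp2 hp3, cyc_other hq1 hq2 hq3, cyc_other hr1 hr2 hr3] at this
          calc cyc p q r * cyc x b c = cyc x b c * cyc p q r * (cyc x b c)⁻¹ * cyc x b c := by
                rw [this]
            _ = cyc x b c * cyc p q r := by group
        exact Subtype.ext (Subgroup.mem_centralizer_singleton_iff.mp (hle hg))
      rw [← hAF] at hcen
      have hfix : ∀ g ∈ altOn B, g x = x := by
        intro g hg
        induction hg using Subgroup.closure_induction with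
        | mem g hg =>
          obtain ⟨p, hp, q, hq, r, hr, -, -, -, rfl⟩ := hg
          exact cyc_other (fun e => hxB (e ▸ hp)) (fun e => hxB (e ▸ hq)) (fun e => hxB (e ▸ hr))
        | one => rfl
        | mul g h _ _ ih1 ih2 => rw [Equiv.Perm.mul_apply, ih2, ih1]
        | inv g _ ih => exact (Equiv.Perm.inv_eq_iff_eq).mpr ih.symm
      have : cyc x b c x = x := hfix _ hcen
      rw [cyc_left hab hac] at this
      exact hab this.symm
    have hBn : B.card ≤ n := (Finset.card_le_univ B).trans (by simp)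
    have hBU := Finset.card_le_card hUB
    refine ⟨B.card, by omega, ⟨?_⟩⟩
    exact ((MulEquiv.subgroupCongr hAF).symm.trans e₀.symm).trans
      (Equiv.altCongrHom (B.equivFin))
  · push Not at hbig
    exfalso
    have hsol : Group.IsSolvable ↥D := by
      let φ : (B : {B : Finset (Fin n) // IsBlk H B}) → ↥D →* Equiv.Perm {x // x ∈ B.1} := fun B =>
        { toFun := fun g => ((g : ↥H) : Equiv.Perm (Fin n)).subtypePerm fun x => by
            refine ⟨fun hx => ?_, fun hx => cycGroup_preserves B.2 g.2 hx⟩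
            have := cycGroup_preserves B.2 (inv_mem g.2) hx
            simpa using this
          map_one' := by ext; rfl
          map_mul' := fun _ _ => by ext; rfl }
      have hB : ∀ B : {B : Finset (Fin n) // IsBlk H B}, ∃ m,
          derivedSeries (Equiv.Perm {x // x ∈ B.1}) m = ⊥ := fun B =>
        (Group.isSolvable_def _).mp (PGroups.isSolvable_perm_of_card_le_four
          (by simpa using Nat.lt_succ_iff.mp (hbig B.1 B.2)))
      choose m hm using hB
      refine (Group.isSolvable_def _).mpr ⟨Finset.univ.sup m, eq_bot_iff.mpr fun g hg => ?_⟩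
      have hblocks : ∀ B : Finset (Fin n), IsBlk H B → ∀ x ∈ B,
          ((g : ↥H) : Equiv.Perm (Fin n)) x = x := by
        intro B hB x hx
        have h1 : φ ⟨B, hB⟩ g ∈ derivedSeries _ (m ⟨B, hB⟩) :=
          map_derivedSeries_le_derivedSeries _ _
            ⟨g, derivedSeries_antitone _ (Finset.le_sup (Finset.mem_univ _)) hg, rfl⟩
        rw [hm, Subgroup.mem_bot] at h1
        exact congrArg Subtype.val (congrArg (fun u : Equiv.Perm _ => u ⟨x, hx⟩) h1)
      have hother : ∀ u ∈ cycGroup H, ∀ x, (∀ B, IsBlk H B → x ∉ B) → u x = x := by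
        intro u hu x hx
        induction hu using Subgroup.closure_induction with
        | mem t ht =>
          obtain ⟨a, b, c, hab, hbc, hac, rfl⟩ := exists_cyc ht.2
          have h1 := ht.1
          obtain ⟨B, hB, haB⟩ := exists_blk hab hbc hac h1
          obtain ⟨hbB, hcB⟩ := hB.2.2 a haB b c hab hbc hac h1
          exact cyc_other (fun e => hx B hB (e ▸ haB)) (fun e => hx B hB (e ▸ hbB))
            (fun e => hx B hB (e ▸ hcB))
        | one => rfl
        | mul g h _ _ ih1 ih2 => rw [Equiv.Perm.mul_apply, ih2, ih1]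
        | inv g _ ih => exact (Equiv.Perm.inv_eq_iff_eq).mpr ih.symm
      rw [Subgroup.mem_bot]
      ext x
      by_cases hx : ∃ B, IsBlk H B ∧ x ∈ B
      · obtain ⟨B, hB, hxB⟩ := hx
        exact congrArg Fin.val (hblocks B hB x hxB)
      · push Not at hx
        exact congrArg Fin.val (hother _ g.2 x hx)
    have hFD : ⁅F, D⁆ = ⊥ := Components.IsComponent.commutator_eq_bot_of_solvable hFc hsol
      (Subgroup.normalizer_eq_top (H := D) ▸ le_top)
    apply Components.IsComponent.ne_bot hFc
    rw [← Components.IsComponent.commutator_self hFc, eq_bot_iff, Subgroup.commutator_le]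
    intro f hf g hg
    rw [Subgroup.mem_bot, commutatorElement_eq_one_iff_mul_comm]
    apply Subtype.ext
    -- elements of `F` act on each 3-cycle as powers of it
    have hact : ∀ u ∈ F, ∀ a b c, a ≠ b → b ≠ c → a ≠ c → cyc a b c ∈ H →
        ∀ z, (u : Equiv.Perm (Fin n)) (cyc a b c z) = cyc a b c ((u : Equiv.Perm (Fin n)) z) := by
      intro u hu a b c hab hbc hac ht z
      have h1 : (⟨cyc a b c, ht⟩ : ↥H) ∈ D :=
        Subgroup.subset_closure ⟨ht, cyc_isThreeCycle hab hbc hac⟩
      have h2 := congrArg Subtype.val (Components.commute_of_commutator_eq_bot hFD hu h1)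
      exact congrArg (fun w : Equiv.Perm (Fin n) => w z) h2
    have hcov : ∀ u ∈ F, ∀ x, (∃ a b c, a ≠ b ∧ b ≠ c ∧ a ≠ c ∧ cyc a b c ∈ H ∧ x = a) →
        ∃ a b c, a ≠ b ∧ b ≠ c ∧ a ≠ c ∧ cyc a b c ∈ H ∧ x = a ∧
          ((u : Equiv.Perm (Fin n)) a = a ∨ (u : Equiv.Perm (Fin n)) a = b ∨
            (u : Equiv.Perm (Fin n)) a = c) := by
      rintro u hu x ⟨a, b, c, hab, hbc, hac, ht, rfl⟩
      refine ⟨x, b, c, hab, hbc, hac, ht, rfl, ?_⟩
      by_contra hne
      push Not at hne
      have h1 := hact u hu x b c hab hbc hac ht x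
      rw [cyc_left hab hac, cyc_other hne.1 hne.2.1 hne.2.2] at h1
      exact hab ((u : Equiv.Perm (Fin n)).injective h1).symm
    ext x
    apply congrArg Fin.val
    show (f : Equiv.Perm (Fin n)) ((g : Equiv.Perm (Fin n)) x) =
      (g : Equiv.Perm (Fin n)) ((f : Equiv.Perm (Fin n)) x)
    by_cases hx : ∃ a b c, a ≠ b ∧ b ≠ c ∧ a ≠ c ∧ cyc a b c ∈ H ∧ x = a
    · obtain ⟨a, b, c, hab, hbc, hac, ht, rfl, hfa⟩ := hcov f hf x hx
      have hta := hact g hg x b c hab hbc hac ht
      have hfa' := hact f hf x b c hab hbc hac ht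
      have hb1 : cyc x b c x = b := cyc_left hab hac
      have hc1 : cyc x b c b = c := cyc_mid hac.symm hbc.symm
      have hga : (g : Equiv.Perm (Fin n)) x = x ∨ (g : Equiv.Perm (Fin n)) x = b ∨
          (g : Equiv.Perm (Fin n)) x = c := by
        by_contra hne
        push Not at hne
        have h1 := hta x
        rw [hb1, cyc_other hne.1 hne.2.1 hne.2.2] at h1
        exact hab ((g : Equiv.Perm (Fin n)).injective h1).symm
      have hgb := hta x; rw [hb1] at hgb
      have hgc := hta b; rw [hc1] at hgc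
      have hfb := hfa' x; rw [hb1] at hfb
      have hfc := hfa' b; rw [hc1] at hfc
      rcases hga with hg' | hg' | hg' <;> rcases hfa with hf' | hf' | hf' <;>
        simp only [hg', hf', hgb, hgc, hfb, hfc, hb1, hc1, cyc_right]
    · -- at most two points are left over
      have hnot : ∀ u ∈ F, ¬ ∃ a b c, a ≠ b ∧ b ≠ c ∧ a ≠ c ∧ cyc a b c ∈ H ∧
          (u : Equiv.Perm (Fin n)) x = a := by
        rintro u hu ⟨a, b, c, hab, hbc, hac, ht, hxa⟩
        refine hx ⟨x, (u : Equiv.Perm (Fin n))⁻¹ b, (u : Equiv.Perm (Fin n))⁻¹ c,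
          fun e => hab (by rw [← hxa]; exact (Equiv.Perm.inv_eq_iff_eq.mp e.symm).symm), fun e =>
          hbc ((u : Equiv.Perm (Fin n))⁻¹.injective e),
          fun e => hac (by rw [← hxa]; exact (Equiv.Perm.inv_eq_iff_eq.mp e.symm).symm), ?_, rfl⟩
        have := cyc_mem_conj (inv_mem u.2) ht
        rwa [show (u : Equiv.Perm (Fin n))⁻¹ a = x by rw [← hxa]; simp] at this
      set R := (Finset.univ : Finset (Fin n)).filter fun y =>
        ¬ ∃ a b c, a ≠ b ∧ b ≠ c ∧ a ≠ c ∧ cyc a b c ∈ H ∧ y = a with hR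
      have hR2 : R.card ≤ 2 := by
        have hdisj : Disjoint R U := by
          rw [Finset.disjoint_left]
          intro y hy hyU
          obtain ⟨B, hB, hyB⟩ := hblk y hyU
          obtain ⟨b, hb, c, hc, hab, hbc, hac⟩ := exists_two_others hB.1 y hyB
          exact (Finset.mem_filter.mp hy).2
            ⟨y, b, c, hab, hbc, hac, hB.2.1 y hyB b hb c hc hab hbc hac, rfl⟩
        have := (Finset.card_union_of_disjoint hdisj).symm.trans_le
          ((Finset.card_le_univ (R ∪ U)).trans (le_of_eq (Fintype.card_fin n)))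
        omega
      have hmem : ∀ u ∈ F, (u : Equiv.Perm (Fin n)) x ∈ R := fun u hu =>
        Finset.mem_filter.mpr ⟨Finset.mem_univ _, hnot u hu⟩
      have hxR : x ∈ R := Finset.mem_filter.mpr ⟨Finset.mem_univ _, hx⟩
      have hfg := hmem (f * g) (mul_mem hf hg)
      have hgf := hmem (g * f) (mul_mem hg hf)
      simp only [Subgroup.coe_mul, Equiv.Perm.mul_apply] at hfg hgf
      have two : ∀ y z, y ∈ R → z ∈ R → y ≠ x → z ≠ x → y = z := by
        intro y z hy hz h1 h2
        by_contra h3
        have : ({x, y, z} : Finset (Fin n)) ⊆ R := by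
          intro w; simp only [Finset.mem_insert, Finset.mem_singleton]
          rintro (rfl | rfl | rfl) <;> assumption
        have := Finset.card_le_card this
        rw [show ({x, y, z} : Finset (Fin n)).card = 3 by simp [h1.symm, h2.symm, h3]] at this
        omega
      set fp := (f : Equiv.Perm (Fin n))
      set gp := (g : Equiv.Perm (Fin n))
      by_cases hfx : fp x = x <;> by_cases hgx : gp x = x
      · rw [hgx, hfx, hgx]
      · rw [hfx]
        exact two _ _ hfg (hmem g hg)
          (fun e => hgx (fp.injective (e.trans hfx.symm))) hgx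
      · rw [hgx]
        exact two _ _ (hmem f hf) hgf hfx
          (fun e => hfx (gp.injective (e.trans hgx.symm)))
      · have e := two _ _ (hmem f hf) (hmem g hg) hfx hgx
        by_cases hgfx : gp (fp x) = x <;> by_cases hfgx : fp (gp x) = x
        · rw [hgfx, hfgx]
        · exfalso
          exact hfgx (by
            have := two _ _ hfg (hmem f hf) hfgx hfx
            exact absurd (fp.injective this) hgx)
        · exfalso
          exact hgfx (by
            have := two _ _ hgf (hmem g hg) hgfx hgx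
            exact absurd (gp.injective this) hfx)
        · exact two _ _ hfg hgf hfgx hgfx

end Cfsg.Agent.S2929
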