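import Cfsg.Statements.S2930
import Cfsg.Agent.Lib.Perm.ThreeBlocks
import Cfsg.Agent.Lib.PGroups.AutAlternating
import Cfsg.Agent.Lib.Components.GenFitting

set_option autoImplicit false
open Cfsg

namespace Cfsg.Agent.S2930

set_option linter.all false
open Cfsg.Agent Cfsg.Agent.Lib
open Cfsg.Agent.Lib.Perm.ThreeBlocks

section Combinatorics

variable {Ω : Type*} [Fintype Ω] [DecidableEq Ω]

/-- The permutations preserving the relation `f x = f y`. -/
def relGrp {κ : Type*} (f : Ω → κ) : Subgroup (Equiv.Perm Ω) where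
  carrier := {g | ∀ x y, f (g x) = f (g y) ↔ f x = f y}
  mul_mem' := fun {g h} hg hh x y => by
    rw [Equiv.Perm.mul_apply, Equiv.Perm.mul_apply, hg, hh]
  one_mem' := fun x y => Iff.rfl
  inv_mem' := fun {g} hg x y => by
    have h := hg (g⁻¹ x) (g⁻¹ y)
    rw [Equiv.Perm.coe_inv, Equiv.apply_symm_apply, Equiv.apply_symm_apply] at h
    rw [Equiv.Perm.coe_inv]; exact h.symm

theorem not_alt_le_relGrp {κ : Type*} {f : Ω → κ} {a b c : Ω} (hab : a ≠ b) (h1 : f a = f b)
    (h2 : f c ≠ f a) : ¬ alternatingGroup Ω ≤ relGrp f := by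
  intro h
  have hbc : b ≠ c := fun e => h2 (e ▸ h1.symm)
  have hac : a ≠ c := fun e => h2 (e ▸ rfl)
  have := (h ((cyc_isThreeCycle hab hbc hac).mem_alternatingGroup) a b).mpr h1
  rw [cyc_left hab hac, cyc_mid hac.symm hbc.symm] at this
  exact h2 (this.symm.trans h1.symm)

theorem cyc_mem_relGrp {κ : Type*} {f : Ω → κ} {a b c : Ω} (hab : a ≠ b) (hbc : b ≠ c) (hac : a ≠ c)
    (h1 : f a = f b) (h2 : f b = f c) : cyc a b c ∈ relGrp f := by
  have key : ∀ x, f (cyc a b c x) = f x := fun x => by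
    by_cases e1 : x = a
    · subst e1; rw [cyc_left hab hac, h1]
    by_cases e2 : x = b
    · subst e2; rw [cyc_mid hac.symm hbc.symm, h2]
    by_cases e3 : x = c
    · subst e3; rw [cyc_right, h1, h2]
    rw [cyc_other e1 e2 e3]
  intro x y
  rw [key, key]

variable {H : Subgroup (Equiv.Perm Ω)}

/-- Two overlapping full sets. -/
theorem full_union {A B : Finset Ω} (hA : Full H A) (hB : Full H B) (hA3 : 3 ≤ A.card)
    (hne : ∃ x, x ∈ A ∧ x ∈ B) (hB3 : 3 ≤ B.card) : Full H (A ∪ B) := by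
  suffices h : ∀ S : Finset Ω, S ⊆ B → Full H (A ∪ S) from h B subset_rfl
  intro S
  induction S using Finset.induction_on with
  | empty => intro _; rwa [Finset.union_empty]
  | @insert c S hcS ih =>
    intro hS
    have hF := ih fun x hx => hS (Finset.mem_insert_of_mem hx)
    rw [Finset.union_insert]
    by_cases hc : c ∈ A ∪ S
    · rwa [Finset.insert_eq_of_mem hc]
    have hcB : c ∈ B := hS (Finset.mem_insert_self _ _)
    obtain ⟨a, haA, haB⟩ := hne
    have ha : a ∈ A ∪ S := Finset.mem_union_left _ haA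
    have hac : a ≠ c := fun e => hc (e ▸ ha)
    by_cases h2 : ∃ b ∈ A ∪ S, b ∈ B ∧ b ≠ a
    · obtain ⟨b, hb, hbB, hba⟩ := h2
      exact full_insert hF ha hb hba.symm hc
        (hB a haB b hbB c hcB hba.symm (fun e => hc (e ▸ hb)) hac)
    push Not at h2
    obtain ⟨b, hbB, hba, hbc⟩ : ∃ b ∈ B, b ≠ a ∧ b ≠ c := by
      obtain ⟨b, hb, hb'⟩ := Finset.exists_mem_notMem_of_card_lt_card (t := B) (s := {a, c})
        (lt_of_le_of_lt Finset.card_le_two (by omega))
      simp only [Finset.mem_insert, Finset.mem_singleton, not_or] at hb'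
      exact ⟨b, hb, hb'⟩
    obtain ⟨p, q, hp, hq, hpa, hqa, hpq⟩ : ∃ p q, p ∈ A ∧ q ∈ A ∧ p ≠ a ∧ q ≠ a ∧ p ≠ q := by
      have : 1 < (A.erase a).card := by rw [Finset.card_erase_of_mem haA]; omega
      obtain ⟨p, hp, q, hq, hpq⟩ := Finset.one_lt_card.mp this
      rw [Finset.mem_erase] at hp hq
      exact ⟨p, q, hp.2, hq.2, hp.1, hq.1, hpq⟩
    have hpB : p ∉ B := fun h => hpa (h2 p (Finset.mem_union_left _ hp) h)
    have hqB : q ∉ B := fun h => hqa (h2 q (Finset.mem_union_left _ hq) h)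
    have ht := cyc_mem_conj (hB a haB c hcB b hbB hac hbc.symm hba.symm)
      (hA p hp q hq a haA hpq hqa hpa)
    rw [cyc_other (x := p) (fun e => hpB (e ▸ haB)) (fun e => hpB (e ▸ hcB)) (fun e => hpB (e ▸ hbB)),
      cyc_other (x := q) (fun e => hqB (e ▸ haB)) (fun e => hqB (e ▸ hcB)) (fun e => hqB (e ▸ hbB)),
      cyc_left hac hba.symm] at ht
    exact full_insert hF (Finset.mem_union_left _ hp) (Finset.mem_union_left _ hq) hpq hc ht

theorem alt_le_of_full (h : Full H Finset.univ) : alternatingGroup Ω ≤ H := by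
  rw [← Equiv.Perm.closure_three_cycles_eq_alternating, Subgroup.closure_le]
  intro t ht
  obtain ⟨a, b, c, hab, hbc, hac, rfl⟩ := exists_cyc ht
  exact h a (Finset.mem_univ _) b (Finset.mem_univ _) c (Finset.mem_univ _) hab hbc hac

/-- The even permutations preserving two relations. -/
def J {κ κ' : Type*} (f₁ : Ω → κ) (f₂ : Ω → κ') : Subgroup (Equiv.Perm Ω) :=
  (relGrp f₁ ⊓ alternatingGroup Ω) ⊔ (relGrp f₂ ⊓ alternatingGroup Ω)

theorem full_fibre_left {κ κ' : Type*} [DecidableEq κ] (f₁ : Ω → κ) (f₂ : Ω → κ') (u : κ) :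
    Full (J f₁ f₂) (Finset.univ.filter fun x => f₁ x = u) := fun a ha b hb c hc hab hbc hac => by
  simp only [Finset.mem_filter, Finset.mem_univ, true_and] at ha hb hc
  exact Subgroup.mem_sup_left ⟨cyc_mem_relGrp hab hbc hac (ha.trans hb.symm) (hb.trans hc.symm),
    (cyc_isThreeCycle hab hbc hac).mem_alternatingGroup⟩

theorem alt_le_J_bool {o₁ o₂ : Ω → Bool} (h : ∀ x, o₁ x = false ∨ o₂ x = false)
    (h1 : 3 ≤ (Finset.univ.filter fun x => o₁ x = false).card)
    (h2 : 3 ≤ (Finset.univ.filter fun x => o₂ x = false).card) (hz : ∃ z, o₁ z = false ∧ o₂ z = false) :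
    alternatingGroup Ω ≤ J o₁ o₂ := by
  have f1 := full_fibre_left o₁ o₂ false
  have f2 : Full (J o₁ o₂) (Finset.univ.filter fun x => o₂ x = false) := by
    rw [J, sup_comm]; exact full_fibre_left o₂ o₁ false
  obtain ⟨z, hz1, hz2⟩ := hz
  have := full_union f1 f2 h1 ⟨z, by simp [hz1], by simp [hz2]⟩ h2
  refine alt_le_of_full (?_ : Full (J o₁ o₂) Finset.univ)
  convert this using 1
  ext x; simp [h x]

/-- A small partition (classes of size three) together with a big one. -/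
theorem alt_le_J_blocks {κ κ' : Type*} [DecidableEq κ] [DecidableEq κ'] (f : Ω → κ) (F : Ω → κ')
    (hsmall : ∀ x, (Finset.univ.filter fun z => f z = f x).card = 3)
    (hbig : ∀ x, 3 ≤ (Finset.univ.filter fun z => F z = F x).card) (x₀ : Ω)
    (h9 : 7 ≤ (Finset.univ.filter fun z => F z = F x₀).card) : alternatingGroup Ω ≤ J f F := by
  have hfull : ∀ x, Full (J f F) (Finset.univ.filter fun z => F z = F x) := fun x => by
    rw [J, sup_comm]; exact full_fibre_left F f (F x)
  set A := Finset.univ.filter fun z => F z = F x₀ with hA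
  have key : ∀ y, Full (J f F) (A ∪ Finset.univ.filter fun z => F z = F y) := by
    intro y
    by_cases hy : F y = F x₀
    · rw [hy, ← hA, Finset.union_self]; exact hfull x₀
    set By := Finset.univ.filter fun z => f z = f y with hBy
    obtain ⟨x, hxA, hxB⟩ := Finset.exists_mem_notMem_of_card_lt_card (t := A) (s := By)
      (by rw [hBy, hsmall]; omega)
    set Bx := Finset.univ.filter fun z => f z = f x with hBx
    obtain ⟨w, hwA, hwB⟩ := Finset.exists_mem_notMem_of_card_lt_card (t := A) (s := Bx ∪ By)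
      ((Finset.card_union_le _ _).trans_lt (by rw [hBx, hBy, hsmall, hsmall]; omega))
    set Bw := Finset.univ.filter fun z => f z = f w with hBw
    simp only [hBy, hBx, Finset.mem_union, Finset.mem_filter, Finset.mem_univ, true_and, not_or] at hxB hwB
    have others : ∀ u, ∃ u' u'', u ≠ u' ∧ u ≠ u'' ∧ u' ≠ u'' ∧
        ∀ z, f z = f u ↔ z = u ∨ z = u' ∨ z = u'' := by
      intro u
      have hu : u ∈ Finset.univ.filter fun z => f z = f u := by simp
      have h2 : ((Finset.univ.filter fun z => f z = f u).erase u).card = 2 := by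
        rw [Finset.card_erase_of_mem hu, hsmall]
      obtain ⟨u', u'', hne, he⟩ := Finset.card_eq_two.mp h2
      have hmem : ∀ z, z ∈ (Finset.univ.filter fun z => f z = f u).erase u ↔ z = u' ∨ z = u'' := by
        intro z; rw [he]; simp
      have m1 := (hmem u').mpr (Or.inl rfl)
      have m2 := (hmem u'').mpr (Or.inr rfl)
      refine ⟨u', u'', (Finset.mem_erase.mp m1).1.symm, (Finset.mem_erase.mp m2).1.symm, hne, fun z => ?_⟩
      constructor
      · intro hz
        by_cases hzu : z = u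
        · exact Or.inl hzu
        · exact Or.inr ((hmem z).mp (Finset.mem_erase.mpr ⟨hzu, by simp [hz]⟩))
      · rintro (rfl | rfl | rfl)
        · rfl
        · simpa using (Finset.mem_erase.mp m1).2
        · simpa using (Finset.mem_erase.mp m2).2
    obtain ⟨x', x'', hx1, hx2, hx3, hxc⟩ := others x
    obtain ⟨y', y'', hy1, hy2, hy3, hyc⟩ := others y
    obtain ⟨w', w'', hw1, hw2, hw3, hwc⟩ := others w
    have ex : f x' = f x ∧ f x'' = f x := ⟨(hxc x').mpr (Or.inr (Or.inl rfl)), (hxc x'').mpr (Or.inr (Or.inr rfl))⟩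
    have ey : f y' = f y ∧ f y'' = f y := ⟨(hyc y').mpr (Or.inr (Or.inl rfl)), (hyc y'').mpr (Or.inr (Or.inr rfl))⟩
    have ew : f w' = f w ∧ f w'' = f w := ⟨(hwc w').mpr (Or.inr (Or.inl rfl)), (hwc w'').mpr (Or.inr (Or.inr rfl))⟩
    have dxy : ∀ {a b : Ω}, f a = f x → f b = f y → a ≠ b := fun ha hb e => hxB (ha ▸ e ▸ hb)
    have dyw : ∀ {a b : Ω}, f a = f y → f b = f w → a ≠ b := fun ha hb e => hwB.2 (hb ▸ e ▸ ha)
    have dxw : ∀ {a b : Ω}, f a = f x → f b = f w → a ≠ b := fun ha hb e => hwB.1 (hb ▸ e ▸ ha)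
    set g := cyc x y w * cyc x' y' w' * cyc x'' y'' w'' with hg
    have g1 : ∀ {a b c : Ω}, f a = f x → f b = f y → f c = f w →
        a ≠ b ∧ b ≠ c ∧ a ≠ c := fun ha hb hc => ⟨dxy ha hb, dyw hb hc, dxw ha hc⟩
    have galt : g ∈ alternatingGroup Ω := by
      refine mul_mem (mul_mem ?_ ?_) ?_
      · obtain ⟨h1, h2, h3⟩ := g1 (a := x) (b := y) (c := w) rfl rfl rfl
        exact (cyc_isThreeCycle h1 h2 h3).mem_alternatingGroup
      · obtain ⟨h1, h2, h3⟩ := g1 ex.1 ey.1 ew.1
        exact (cyc_isThreeCycle h1 h2 h3).mem_alternatingGroup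
      · obtain ⟨h1, h2, h3⟩ := g1 ex.2 ey.2 ew.2
        exact (cyc_isThreeCycle h1 h2 h3).mem_alternatingGroup
    have cmove : ∀ {a b c : Ω}, f a = f x → f b = f y → f c = f w →
        cyc a b c a = b ∧ cyc a b c b = c ∧ cyc a b c c = a ∧
          ∀ z, z ≠ a → z ≠ b → z ≠ c → cyc a b c z = z := fun ha hb hc => by
      obtain ⟨h1, h2, h3⟩ := g1 ha hb hc
      exact ⟨cyc_left h1 h3, cyc_mid h3.symm h2.symm, cyc_right, fun z => cyc_other⟩
    obtain ⟨a1, a2, a3, a4⟩ := cmove (a := x) (b := y) (c := w) rfl rfl rfl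
    obtain ⟨b1, b2, b3, b4⟩ := cmove ex.1 ey.1 ew.1
    obtain ⟨c1, c2, c3, c4⟩ := cmove ex.2 ey.2 ew.2
    have gx : g x = y := by
      rw [hg, Equiv.Perm.mul_apply, Equiv.Perm.mul_apply,
        c4 x hx2 (dxy rfl ey.2) (dxw rfl ew.2), b4 x hx1 (dxy rfl ey.1) (dxw rfl ew.1), a1]
    have gy : g y = w := by
      rw [hg, Equiv.Perm.mul_apply, Equiv.Perm.mul_apply,
        c4 y (dxy ex.2 rfl).symm hy2 (dyw rfl ew.2), b4 y (dxy ex.1 rfl).symm hy1 (dyw rfl ew.1), a2]
    have gw : g w = x := by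
      rw [hg, Equiv.Perm.mul_apply, Equiv.Perm.mul_apply,
        c4 w (dxw ex.2 rfl).symm (dyw ey.2 rfl).symm hw2,
        b4 w (dxw ex.1 rfl).symm (dyw ey.1 rfl).symm hw1, a3]
    have gcls : ∀ z, (f z = f x → f (g z) = f y) ∧ (f z = f y → f (g z) = f w) ∧
        (f z = f w → f (g z) = f x) ∧
        (f z ≠ f x → f z ≠ f y → f z ≠ f w → g z = z) := by
      intro z
      refine ⟨fun hz => ?_, fun hz => ?_, fun hz => ?_, fun h1 h2 h3 => ?_⟩
      · rcases (hxc z).mp hz with rfl | rfl | rfl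
        · rw [gx]
        · rw [hg, Equiv.Perm.mul_apply, Equiv.Perm.mul_apply,
            c4 _ hx3 (dxy ex.1 ey.2) (dxw ex.1 ew.2), b1,
            a4 y' (dxy rfl ey.1).symm hy1.symm (dyw ey.1 rfl), ey.1]
        · rw [hg, Equiv.Perm.mul_apply, Equiv.Perm.mul_apply, c1,
            b4 y'' (dxy ex.1 ey.2).symm hy3.symm (dyw ey.2 ew.1),
            a4 y'' (dxy rfl ey.2).symm hy2.symm (dyw ey.2 rfl), ey.2]
      · rcases (hyc z).mp hz with rfl | rfl | rfl
        · rw [gy]
        · rw [hg, Equiv.Perm.mul_apply, Equiv.Perm.mul_apply,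
            c4 _ (dxy ex.2 ey.1).symm hy3 (dyw ey.1 ew.2), b2,
            a4 w' (dxw rfl ew.1).symm (dyw rfl ew.1).symm hw1.symm, ew.1]
        · rw [hg, Equiv.Perm.mul_apply, Equiv.Perm.mul_apply, c2,
            b4 w'' (dxw ex.1 ew.2).symm (dyw ey.1 ew.2).symm hw3.symm,
            a4 w'' (dxw rfl ew.2).symm (dyw rfl ew.2).symm hw2.symm, ew.2]
      · rcases (hwc z).mp hz with rfl | rfl | rfl
        · rw [gw]
        · rw [hg, Equiv.Perm.mul_apply, Equiv.Perm.mul_apply,
            c4 _ (dxw ex.2 ew.1).symm (dyw ey.2 ew.1).symm hw3, b3,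
            a4 x' hx1.symm (dxy ex.1 rfl) (dxw ex.1 rfl), ex.1]
        · rw [hg, Equiv.Perm.mul_apply, Equiv.Perm.mul_apply, c3,
            b4 x'' hx3.symm (dxy ex.2 ey.1) (dxw ex.2 ew.1),
            a4 x'' hx2.symm (dxy ex.2 rfl) (dxw ex.2 rfl), ex.2]
      · have nx : ∀ {a : Ω}, f a = f x → z ≠ a := fun ha e => h1 (e ▸ ha)
        have ny : ∀ {a : Ω}, f a = f y → z ≠ a := fun ha e => h2 (e ▸ ha)
        have nw : ∀ {a : Ω}, f a = f w → z ≠ a := fun ha e => h3 (e ▸ ha)
        rw [hg, Equiv.Perm.mul_apply, Equiv.Perm.mul_apply, c4 z (nx ex.2) (ny ey.2) (nw ew.2),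
          b4 z (nx ex.1) (ny ey.1) (nw ew.1), a4 z (nx rfl) (ny rfl) (nw rfl)]
    classical
    set π : Equiv.Perm κ := Equiv.swap (f x) (f y) * Equiv.swap (f y) (f w) with hπ
    have hfxy : f x ≠ f y := hxB
    have hfxw : f x ≠ f w := fun e => hwB.1 e.symm
    have hfyw : f y ≠ f w := fun e => hwB.2 e.symm
    have hgπ : ∀ z, f (g z) = π (f z) := by
      intro z
      obtain ⟨k1, k2, k3, k4⟩ := gcls z
      by_cases h1 : f z = f x
      · rw [k1 h1, h1, hπ, Equiv.Perm.mul_apply, Equiv.swap_apply_of_ne_of_ne hfxy hfxw,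
          Equiv.swap_apply_left]
      by_cases h2 : f z = f y
      · rw [k2 h2, h2, hπ, Equiv.Perm.mul_apply, Equiv.swap_apply_left,
          Equiv.swap_apply_of_ne_of_ne hfxw.symm hfyw.symm]
      by_cases h3 : f z = f w
      · rw [k3 h3, h3, hπ, Equiv.Perm.mul_apply, Equiv.swap_apply_right, Equiv.swap_apply_right]
      · rw [k4 h1 h2 h3, hπ, Equiv.Perm.mul_apply, Equiv.swap_apply_of_ne_of_ne h2 h3,
          Equiv.swap_apply_of_ne_of_ne h1 h2]
    have gJ : g ∈ J f F := Subgroup.mem_sup_left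
      ⟨fun a b => by rw [hgπ, hgπ]; exact π.injective.eq_iff, galt⟩
    have hAfull : Full (J f F) A := hfull x₀
    have hgA : Full (J f F) (A.map g.toEmbedding) := by
      intro a ha b hb c hc hab hbc hac
      rw [Finset.mem_map] at ha hb hc
      obtain ⟨a', ha', rfl⟩ := ha
      obtain ⟨b', hb', rfl⟩ := hb
      obtain ⟨c', hc', rfl⟩ := hc
      exact cyc_mem_conj gJ (hAfull a' ha' b' hb' c' hc' (fun e => hab (e ▸ rfl))
        (fun e => hbc (e ▸ rfl)) (fun e => hac (e ▸ rfl)))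
    have hyM : y ∈ A.map g.toEmbedding := Finset.mem_map.mpr ⟨x, hxA, gx⟩
    have hxM : x ∈ A.map g.toEmbedding := Finset.mem_map.mpr ⟨w, hwA, gw⟩
    have h2 := full_union hAfull hgA (by omega) ⟨x, hxA, hxM⟩ (by rw [Finset.card_map]; omega)
    have h3 := full_union h2 (hfull y)
      ((show 3 ≤ A.card by omega).trans (Finset.card_le_card Finset.subset_union_left))
      ⟨y, Finset.mem_union_right _ hyM, by simp⟩ (hbig y)
    intro a ha b hb c hc
    have hsub : A ∪ (Finset.univ.filter fun z => F z = F y) ⊆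
        A ∪ A.map g.toEmbedding ∪ Finset.univ.filter fun z => F z = F y :=
      Finset.union_subset_union Finset.subset_union_left subset_rfl
    exact h3 a (hsub ha) b (hsub hb) c (hsub hc)
  have hall : ∀ S : Finset Ω, Full (J f F) (A ∪ S.biUnion fun y => Finset.univ.filter fun z => F z = F y) := by
    intro S
    induction S using Finset.induction_on with
    | empty => rw [Finset.biUnion_empty, Finset.union_empty]; exact hfull x₀
    | @insert y S _ ih =>
      have hx₀ : x₀ ∈ A := by simp [hA]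
      have h := full_union ih (key y)
        ((show 3 ≤ A.card by omega).trans (Finset.card_le_card Finset.subset_union_left))
        ⟨x₀, Finset.mem_union_left _ hx₀, Finset.mem_union_left _ hx₀⟩
        ((show 3 ≤ A.card by omega).trans (Finset.card_le_card Finset.subset_union_left))
      convert h using 1
      ext z; simp only [Finset.biUnion_insert, Finset.mem_union]; tauto
  refine alt_le_of_full (?_ : Full (J f F) Finset.univ)
  convert hall Finset.univ using 1
  ext z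
  simp only [Finset.mem_univ, Finset.mem_union, Finset.mem_biUnion, Finset.mem_filter, true_and, true_iff]
  exact Or.inr ⟨z, rfl⟩

end Combinatorics

section Blocks

variable {Ω : Type*} [Fintype Ω] [DecidableEq Ω] (P : Subgroup (Equiv.Perm Ω))

/-- The block of `x` given by a subgroup `K` of `P` and a base point. -/
def blk (K : Subgroup P) (x₀ x : Ω) : Set Ω :=
  {y | ∃ h : P, h • x₀ = x ∧ ∃ k ∈ K, (h * k) • x₀ = y}

variable {P} {K : Subgroup P} {x₀ : Ω}

theorem blk_eq (hK : MulAction.stabilizer P x₀ ≤ K) (h : P) :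
    blk P K x₀ (h • x₀) = (fun k => (h * k) • x₀) '' (K : Set P) := by
  ext y
  constructor
  · rintro ⟨h', hh, k, hk, rfl⟩
    have hs : h⁻¹ * h' ∈ MulAction.stabilizer P x₀ := by
      rw [MulAction.mem_stabilizer_iff, mul_smul, hh, inv_smul_smul]
    exact ⟨h⁻¹ * h' * k, mul_mem (hK hs) hk, by
      show (h * (h⁻¹ * h' * k)) • x₀ = (h' * k) • x₀
      rw [← mul_assoc, ← mul_assoc, mul_inv_cancel, one_mul]⟩
  · rintro ⟨k, hk, rfl⟩
    exact ⟨h, rfl, k, hk, rfl⟩

theorem self_mem_blk {x : Ω} (hx : x ∈ MulAction.orbit P x₀) : x ∈ blk P K x₀ x := by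
  obtain ⟨h, rfl⟩ := hx
  exact ⟨h, rfl, 1, one_mem _, by rw [mul_one]⟩

theorem blk_empty {x : Ω} (hx : x ∉ MulAction.orbit P x₀) : blk P K x₀ x = ∅ :=
  Set.eq_empty_iff_forall_notMem.mpr fun _ ⟨h, hh, _⟩ => hx ⟨h, hh⟩

theorem blk_sub_orbit {x y : Ω} (hy : y ∈ blk P K x₀ x) : y ∈ MulAction.orbit P x₀ := by
  obtain ⟨h, _, k, _, rfl⟩ := hy
  exact ⟨h * k, rfl⟩

theorem blk_eq_iff (hK : MulAction.stabilizer P x₀ ≤ K) {x y : Ω} (hx : x ∈ MulAction.orbit P x₀) :
    blk P K x₀ y = blk P K x₀ x ↔ y ∈ blk P K x₀ x := by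
  constructor
  · intro h
    by_cases hy : y ∈ MulAction.orbit P x₀
    · exact h ▸ self_mem_blk hy
    · exact absurd (self_mem_blk hx : x ∈ blk P K x₀ x) (by rw [← h, blk_empty hy]; simp)
  · obtain ⟨h, rfl⟩ := hx
    show y ∈ blk P K x₀ (h • x₀) → blk P K x₀ y = blk P K x₀ (h • x₀)
    rw [blk_eq hK h]
    rintro ⟨k, hk, rfl⟩
    show blk P K x₀ ((h * k) • x₀) = _
    rw [blk_eq hK (h * k)]
    ext z
    constructor
    · rintro ⟨l, hl, rfl⟩
      exact ⟨k * l, mul_mem hk hl, by simp only [mul_assoc]⟩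
    · rintro ⟨l, hl, rfl⟩
      exact ⟨k⁻¹ * l, mul_mem (inv_mem hk) hl, by simp only [mul_assoc, mul_inv_cancel_left]⟩

theorem blk_smul (g : P) (x : Ω) : blk P K x₀ (g • x) = (g • ·) '' blk P K x₀ x := by
  ext y
  constructor
  · rintro ⟨h, hh, k, hk, rfl⟩
    refine ⟨(g⁻¹ * h * k) • x₀, ⟨g⁻¹ * h, by rw [mul_smul, hh, inv_smul_smul], k, hk, rfl⟩, ?_⟩
    show g • ((g⁻¹ * h * k) • x₀) = (h * k) • x₀
    rw [← mul_smul, ← mul_assoc, ← mul_assoc, mul_inv_cancel, one_mul]
  · rintro ⟨z, ⟨h, hh, k, hk, rfl⟩, rfl⟩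
    exact ⟨g * h, by rw [mul_smul, hh], k, hk, by show _ = g • ((h * k) • x₀); rw [← mul_smul, mul_assoc]⟩

theorem blk_card (hK : MulAction.stabilizer P x₀ ≤ K) {x : Ω} (hx : x ∈ MulAction.orbit P x₀) :
    (blk P K x₀ x).ncard * Nat.card (MulAction.stabilizer P x₀) = Nat.card K := by
  obtain ⟨h, rfl⟩ := hx
  show (blk P K x₀ (h • x₀)).ncard * _ = _
  have e : blk P K x₀ (h • x₀) = (h • ·) '' (MulAction.orbit K x₀) := by
    rw [blk_eq hK h]
    ext y
    constructor
    · rintro ⟨k, hk, rfl⟩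
      exact ⟨k • x₀, ⟨⟨k, hk⟩, rfl⟩, (mul_smul h k x₀).symm⟩
    · rintro ⟨z, ⟨⟨k, hk⟩, rfl⟩, rfl⟩
      exact ⟨k, hk, mul_smul h k x₀⟩
  rw [e, Set.ncard_image_of_injective _ (MulAction.injective h), ← MulAction.index_stabilizer,
    show Nat.card (MulAction.stabilizer P x₀) = Nat.card (MulAction.stabilizer K x₀) from by
      rw [← Nat.card_congr (Subgroup.subgroupOfEquivOfLe hK).toEquiv]
      rfl,
    mul_comm, Subgroup.card_mul_index]

end Blocks
section Degrees

variable {Ω : Type*} [Fintype Ω] [DecidableEq Ω]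

/-- Blocks of every possible size inside an orbit of a 3-group. -/
theorem exists_blocks {P : Subgroup (Equiv.Perm Ω)} (hP : IsPGroup 3 P) (x₀ : Ω) :
    ∃ a, (MulAction.orbit P x₀).ncard = 3 ^ a ∧ ∀ j ≤ a, ∃ K : Subgroup P,
      MulAction.stabilizer P x₀ ≤ K ∧ ∀ x ∈ MulAction.orbit P x₀, (blk P K x₀ x).ncard = 3 ^ j := by
  haveI : Fact (Nat.Prime 3) := ⟨Nat.prime_three⟩
  obtain ⟨t, ht⟩ := hP.exists_card_eq
  obtain ⟨s, hs⟩ := (hP.to_subgroup (MulAction.stabilizer P x₀)).exists_card_eq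
  have h := Subgroup.card_mul_index (MulAction.stabilizer P x₀)
  rw [MulAction.index_stabilizer, hs, ht] at h
  have hst : s ≤ t := (Nat.pow_dvd_pow_iff_le_right (by norm_num)).mp ⟨_, h.symm⟩
  have ho : (MulAction.orbit P x₀).ncard = 3 ^ (t - s) := by
    apply Nat.eq_of_mul_eq_mul_left (pow_pos (by norm_num : 0 < 3) s)
    rw [h, ← pow_add, Nat.add_sub_cancel' hst]
  refine ⟨t - s, ho, fun j hj => ?_⟩
  obtain ⟨K, hK, hle⟩ := Sylow.exists_subgroup_card_pow_prime_le 3 (n := s) (m := s + j)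
    (by rw [ht]; exact pow_dvd_pow 3 (by omega)) (MulAction.stabilizer P x₀) hs (Nat.le_add_right _ _)
  refine ⟨K, hle, fun x hx => ?_⟩
  have := blk_card hle hx
  rw [hs, hK, pow_add, mul_comm] at this
  exact Nat.eq_of_mul_eq_mul_left (pow_pos (by norm_num) s) this

open Classical in
theorem filter_blk {P : Subgroup (Equiv.Perm Ω)} {K : Subgroup P} {x₀ x : Ω}
    (hK : MulAction.stabilizer P x₀ ≤ K) (hx : x ∈ MulAction.orbit P x₀) :
    (Finset.univ.filter fun z => blk P K x₀ z = blk P K x₀ x).card = (blk P K x₀ x).ncard := by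
  rw [Set.ncard_eq_toFinset_card']
  congr 1
  ext z; simp [blk_eq_iff hK hx]

theorem smul_orbit_iff' {P : Subgroup (Equiv.Perm Ω)} {g : Equiv.Perm Ω} (hg : g ∈ P) (x v : Ω) :
    g v ∈ MulAction.orbit P x ↔ v ∈ MulAction.orbit P x := by
  rw [← MulAction.orbit_eq_iff, ← MulAction.orbit_eq_iff,
    show MulAction.orbit P (g v) = MulAction.orbit P v from MulAction.orbit_smul (⟨g, hg⟩ : P) v]

open Classical in
theorem three_orbits {P : Subgroup (Equiv.Perm Ω)}
    (huniq : ∀ K₁ K₂ : Subgroup (Equiv.Perm Ω), P ≤ K₁ → P ≤ K₂ → ¬ alternatingGroup Ω ≤ K₁ →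
      ¬ alternatingGroup Ω ≤ K₂ →
      ¬ alternatingGroup Ω ≤ (K₁ ⊓ alternatingGroup Ω) ⊔ (K₂ ⊓ alternatingGroup Ω))
    {x y z : Ω} (hxy : y ∉ MulAction.orbit P x) (hzx : z ∉ MulAction.orbit P x)
    (hzy : z ∉ MulAction.orbit P y) (h5 : 5 ≤ Fintype.card Ω)
    (hx : (MulAction.orbit P x).ncard + 3 ≤ Fintype.card Ω)
    (hy : (MulAction.orbit P y).ncard + 3 ≤ Fintype.card Ω) : False := by
  set o : Ω → Ω → Bool := fun w v => decide (v ∈ MulAction.orbit P w) with ho
  have hle : ∀ w, P ≤ relGrp (o w) := fun w g hg a b => by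
    have e : ∀ v, o w (g v) = o w v := fun v => by
      simp only [ho, decide_eq_decide]
      exact smul_orbit_iff' hg w v
    rw [e, e]
  have hc : ∀ w, (MulAction.orbit P w).ncard + 3 ≤ Fintype.card Ω →
      3 ≤ (Finset.univ.filter fun v => o w v = false).card := fun w hw => by
    have e : (Finset.univ.filter fun v => o w v = false) = (MulAction.orbit P w).toFinsetᶜ := by
      ext v; simp [ho]
    rw [e, Finset.card_compl, ← Set.ncard_eq_toFinset_card']
    omega
  have hnot : ∀ w, (MulAction.orbit P w).ncard + 3 ≤ Fintype.card Ω → ¬ alternatingGroup Ω ≤ relGrp (o w) := by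
    intro w hw
    obtain ⟨a, ha, b, hb, hab⟩ := Finset.one_lt_card.mp (lt_of_lt_of_le (by norm_num : 1 < 3) (hc w hw))
    simp only [Finset.mem_filter, Finset.mem_univ, true_and] at ha hb
    refine not_alt_le_relGrp hab (ha.trans hb.symm) (c := w) ?_
    rw [ha]; simp [ho, MulAction.mem_orbit_self]
  refine huniq _ _ (hle x) (hle y) (hnot x hx) (hnot y hy)
    (alt_le_J_bool (fun v => ?_) (hc x hx) (hc y hy) ⟨z, by simp [ho, hzx], by simp [ho, hzy]⟩)
  simp only [ho, decide_eq_false_iff_not]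
  by_contra hh
  push Not at hh
  exact hxy ((MulAction.orbit_eq_iff.mpr hh.1).symm.trans (MulAction.orbit_eq_iff.mpr hh.2) ▸
    MulAction.mem_orbit_self y)

open Classical in
/-- The possible degrees. -/
theorem degrees (h5 : 5 ≤ Fintype.card Ω) {P : Subgroup (Equiv.Perm Ω)} (hP : IsPGroup 3 P)
    (huniq : ∀ K₁ K₂ : Subgroup (Equiv.Perm Ω), P ≤ K₁ → P ≤ K₂ → ¬ alternatingGroup Ω ≤ K₁ →
      ¬ alternatingGroup Ω ≤ K₂ →
      ¬ alternatingGroup Ω ≤ (K₁ ⊓ alternatingGroup Ω) ⊔ (K₂ ⊓ alternatingGroup Ω)) :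
    Fintype.card Ω = 6 ∨ Fintype.card Ω = 9 ∨ ∃ a : ℕ, 2 ≤ a ∧ Fintype.card Ω = 3 ^ a + 1 := by
  by_cases h3 : ∃ x y z : Ω, y ∉ MulAction.orbit P x ∧ z ∉ MulAction.orbit P x ∧ z ∉ MulAction.orbit P y
  · obtain ⟨x, y, z, hxy, hzx, hzy⟩ := h3
    have hsym : ∀ {u v : Ω}, v ∉ MulAction.orbit P u → u ∉ MulAction.orbit P v := fun h hh =>
      h (MulAction.orbit_eq_iff.mpr hh ▸ MulAction.mem_orbit_self _)
    have hdisj : ∀ {u v : Ω}, v ∉ MulAction.orbit P u →
        Disjoint (MulAction.orbit P u) (MulAction.orbit P v) := fun h => by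
      rw [Set.disjoint_left]
      intro w hw hw'
      exact h ((MulAction.orbit_eq_iff.mpr hw).symm.trans (MulAction.orbit_eq_iff.mpr hw') ▸
        MulAction.mem_orbit_self _)
    have hsum : ∀ {u v : Ω}, v ∉ MulAction.orbit P u →
        (MulAction.orbit P u).ncard + (MulAction.orbit P v).ncard ≤ Fintype.card Ω := fun h => by
      rw [← Set.ncard_union_eq (hdisj h), ← Nat.card_eq_fintype_card, ← Set.ncard_univ]
      exact Set.ncard_le_ncard (Set.subset_univ _)
    have s1 := hsum hxy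
    have s2 := hsum hzx
    have s3 := hsum hzy
    by_cases hx : (MulAction.orbit P x).ncard + 3 ≤ Fintype.card Ω
    · by_cases hy : (MulAction.orbit P y).ncard + 3 ≤ Fintype.card Ω
      · exact (three_orbits huniq hxy hzx hzy h5 hx hy).elim
      · exact (three_orbits huniq hzx hxy (hsym hzy) h5 hx (by omega)).elim
    · exact (three_orbits huniq hzy (hsym hxy) (hsym hzx) h5 (by omega) (by omega)).elim
  push Not at h3
  have hne : Nonempty Ω := Fintype.card_pos_iff.mp (by omega)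
  obtain ⟨x₁⟩ := hne
  obtain ⟨a₁, ha₁, hK₁⟩ := exists_blocks hP x₁
  by_cases htr : ∀ y, y ∈ MulAction.orbit P x₁
  · have hn : Fintype.card Ω = 3 ^ a₁ := by
      rw [← ha₁, Set.eq_univ_of_forall htr, Set.ncard_univ, Nat.card_eq_fintype_card]
    rcases Nat.lt_or_ge a₁ 3 with hlt | hge
    · interval_cases a₁ <;> simp_all
    exfalso
    obtain ⟨K, hKle, hKc⟩ := hK₁ 1 (by omega)
    obtain ⟨L, hLle, hLc⟩ := hK₁ (a₁ - 1) (by omega)
    have hle : ∀ M : Subgroup P, P ≤ relGrp (blk P M x₁) := fun M g hg u v => by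
      have e : ∀ w, blk P M x₁ (g w) = (((⟨g, hg⟩ : P)) • ·) '' blk P M x₁ w :=
        fun w => blk_smul (⟨g, hg⟩ : P) w
      rw [e, e]
      exact (Set.image_injective.mpr (MulAction.injective _)).eq_iff
    have hnot : ∀ (M : Subgroup P) (j : ℕ), 1 ≤ j → j < a₁ → MulAction.stabilizer P x₁ ≤ M →
        (∀ x ∈ MulAction.orbit P x₁, (blk P M x₁ x).ncard = 3 ^ j) →
        ¬ alternatingGroup Ω ≤ relGrp (blk P M x₁) := by
      intro M j hj hja hM hc
      have h1 : 1 < (blk P M x₁ x₁).ncard := by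
        rw [hc x₁ (htr _)]; exact Nat.one_lt_pow (by omega) (by norm_num)
      obtain ⟨b, hb, hbne⟩ := Set.exists_ne_of_one_lt_ncard h1 x₁
      obtain ⟨c, hcmem⟩ : ∃ c, c ∉ blk P M x₁ x₁ := by
        by_contra hall
        push Not at hall
        have := hc x₁ (htr _)
        rw [Set.eq_univ_of_forall hall, Set.ncard_univ, Nat.card_eq_fintype_card, hn] at this
        exact absurd (Nat.pow_right_injective (le_refl 2 |>.trans (by norm_num)) this) (by omega)
      exact not_alt_le_relGrp hbne.symm ((blk_eq_iff hM (htr _)).mpr hb).symm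
        fun h => hcmem ((blk_eq_iff hM (htr _)).mp h)
    refine huniq _ _ (hle K) (hle L) (hnot K 1 le_rfl (by omega) hKle hKc)
      (hnot L (a₁ - 1) (by omega) (by omega) hLle hLc) (alt_le_J_blocks _ _ (fun x => ?_) (fun x => ?_) x₁ ?_)
    · rw [filter_blk hKle (htr _), hKc _ (htr _), pow_one]
    · rw [filter_blk hLle (htr _), hLc _ (htr _)]
      calc 3 = 3 ^ 1 := rfl
        _ ≤ _ := Nat.pow_le_pow_right (by norm_num) (by omega)
    · rw [filter_blk hLle (htr _), hLc _ (htr _)]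
      calc 7 ≤ 3 ^ 2 := by norm_num
        _ ≤ _ := Nat.pow_le_pow_right (by norm_num) (by omega)
  push Not at htr
  obtain ⟨y₁, hy₁⟩ := htr
  obtain ⟨x₀, y₀, hxy, a, b, hab, ha, hb, hKa, hKb⟩ : ∃ x₀ y₀ : Ω, y₀ ∉ MulAction.orbit P x₀ ∧
      ∃ a b : ℕ, b ≤ a ∧ (MulAction.orbit P x₀).ncard = 3 ^ a ∧ (MulAction.orbit P y₀).ncard = 3 ^ b ∧
      (∀ j ≤ a, ∃ K : Subgroup P, MulAction.stabilizer P x₀ ≤ K ∧
        ∀ x ∈ MulAction.orbit P x₀, (blk P K x₀ x).ncard = 3 ^ j) ∧
      ∀ j ≤ b, ∃ K : Subgroup P, MulAction.stabilizer P y₀ ≤ K ∧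
        ∀ x ∈ MulAction.orbit P y₀, (blk P K y₀ x).ncard = 3 ^ j := by
    obtain ⟨b₁, hb₁, hK₂⟩ := exists_blocks hP y₁
    rcases le_total b₁ a₁ with h | h
    · exact ⟨x₁, y₁, hy₁, a₁, b₁, h, ha₁, hb₁, hK₁, hK₂⟩
    · exact ⟨y₁, x₁, fun hh => hy₁ (MulAction.orbit_eq_iff.mpr hh ▸ MulAction.mem_orbit_self _),
        b₁, a₁, h, hb₁, ha₁, hK₂, hK₁⟩
  have hcov : ∀ z, z ∉ MulAction.orbit P x₀ → z ∈ MulAction.orbit P y₀ := fun z hz => h3 x₀ y₀ z hxy hz
  have hdis : ∀ z, z ∈ MulAction.orbit P x₀ → z ∉ MulAction.orbit P y₀ := fun z hz hz' =>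
    hxy ((MulAction.orbit_eq_iff.mpr hz).symm.trans (MulAction.orbit_eq_iff.mpr hz') ▸
      MulAction.mem_orbit_self _)
  have hn : Fintype.card Ω = 3 ^ a + 3 ^ b := by
    rw [← ha, ← hb, ← Set.ncard_union_eq (Set.disjoint_left.mpr hdis),
      Set.eq_univ_of_forall (s := MulAction.orbit P x₀ ∪ MulAction.orbit P y₀) fun z =>
        if h : z ∈ MulAction.orbit P x₀ then Or.inl h else Or.inr (hcov z h),
      Set.ncard_univ, Nat.card_eq_fintype_card]
  rcases Nat.eq_zero_or_pos b with rfl | hb1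
  · refine Or.inr (Or.inr ⟨a, ?_, by rw [hn, pow_zero]⟩)
    by_contra hlt
    interval_cases a <;> simp_all
  rcases Nat.lt_or_ge a 2 with hlt | hge
  · obtain rfl : a = 1 := by omega
    obtain rfl : b = 1 := by omega
    exact Or.inl (by rw [hn]; norm_num)
  exfalso
  obtain ⟨K, hKle, hKc⟩ := hKa 1 (by omega)
  obtain ⟨L, hLle, hLc⟩ := hKb 1 hb1
  set f : Ω → Set Ω := fun x => blk P K x₀ x ∪ blk P L y₀ x with hf
  set F : Ω → Bool := fun x => decide (x ∈ MulAction.orbit P x₀) with hF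
  have hfx : ∀ x ∈ MulAction.orbit P x₀, f x = blk P K x₀ x := fun x hx => by
    rw [hf]; simp only [blk_empty (hdis x hx), Set.union_empty]
  have hfy : ∀ x ∈ MulAction.orbit P y₀, f x = blk P L y₀ x := fun x hx => by
    rw [hf]; simp only [blk_empty (fun h => hdis x h hx), Set.empty_union]
  have hfiff : ∀ x z, f z = f x → (z ∈ MulAction.orbit P x₀ ↔ x ∈ MulAction.orbit P x₀) := by
    intro x z h
    constructor
    · intro hz
      by_contra hx
      have h1 := self_mem_blk (K := K) hz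
      rw [← hfx z hz, h, hfy x (hcov x hx)] at h1
      exact hdis z hz (blk_sub_orbit h1)
    · intro hx
      by_contra hz
      have h1 := self_mem_blk (K := K) hx
      rw [← hfx x hx, ← h, hfy z (hcov z hz)] at h1
      exact hdis x hx (blk_sub_orbit h1)
  have hsmall : ∀ x, (Finset.univ.filter fun z => f z = f x).card = 3 := by
    intro x
    by_cases hx : x ∈ MulAction.orbit P x₀
    · rw [show (Finset.univ.filter fun z => f z = f x) =
        Finset.univ.filter fun z => blk P K x₀ z = blk P K x₀ x from Finset.filter_congr fun z _ => by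
          constructor
          · intro h
            rw [← hfx z ((hfiff x z h).mpr hx), h, hfx x hx]
          · intro h
            have hz := blk_sub_orbit ((blk_eq_iff hKle hx).mp h)
            rw [hfx z hz, h, hfx x hx],
        filter_blk hKle hx, hKc x hx, pow_one]
    · have hx' := hcov x hx
      rw [show (Finset.univ.filter fun z => f z = f x) =
        Finset.univ.filter fun z => blk P L y₀ z = blk P L y₀ x from Finset.filter_congr fun z _ => by
          constructor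
          · intro h
            rw [← hfy z (hcov z fun hz => hx ((hfiff x z h).mp hz)), h, hfy x hx']
          · intro h
            have hz := blk_sub_orbit ((blk_eq_iff hLle hx').mp h)
            rw [hfy z hz, h, hfy x hx'],
        filter_blk hLle hx', hLc x hx', pow_one]
  have hFc : ∀ x, (Finset.univ.filter fun z => F z = F x).card =
      if x ∈ MulAction.orbit P x₀ then 3 ^ a else 3 ^ b := by
    intro x
    split_ifs with hx
    · rw [← ha, Set.ncard_eq_toFinset_card']; congr 1; ext z; simp [hF, hx]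
    · rw [← hb, Set.ncard_eq_toFinset_card']; congr 1; ext z
      simp only [hF, Finset.mem_filter, Finset.mem_univ, true_and, Set.mem_toFinset, decide_eq_decide,
        iff_false_intro hx, iff_false]
      exact ⟨hcov z, fun h h' => hdis z h' h⟩
  have h3a : 9 ≤ 3 ^ a := by
    calc 9 = 3 ^ 2 := by norm_num
      _ ≤ _ := Nat.pow_le_pow_right (by norm_num) hge
  have h3b : 3 ≤ 3 ^ b := by
    calc 3 = 3 ^ 1 := by norm_num
      _ ≤ _ := Nat.pow_le_pow_right (by norm_num) hb1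
  have hPf : P ≤ relGrp f := fun g hg u v => by
    have e : ∀ w, f (g w) = (((⟨g, hg⟩ : P)) • ·) '' f w := fun w => by
      show blk P K x₀ ((⟨g, hg⟩ : P) • w) ∪ blk P L y₀ ((⟨g, hg⟩ : P) • w) = _
      rw [blk_smul, blk_smul, ← Set.image_union]
    rw [e, e]
    exact (Set.image_injective.mpr (MulAction.injective _)).eq_iff
  have hPF : P ≤ relGrp F := fun g hg u v => by
    simp only [hF, smul_orbit_iff' hg]
  have hnF : ¬ alternatingGroup Ω ≤ relGrp F := by
    obtain ⟨v, hv, hvne⟩ := Set.exists_ne_of_one_lt_ncard (s := MulAction.orbit P x₀) (by omega) x₀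
    refine not_alt_le_relGrp (c := y₀) hvne.symm ?_ ?_
    · simp [hF, hv, MulAction.mem_orbit_self]
    · simp [hF, hxy, MulAction.mem_orbit_self]
  have hnf : ¬ alternatingGroup Ω ≤ relGrp f := by
    have h1 : 1 < (Finset.univ.filter fun z => f z = f x₀).card := by rw [hsmall]; norm_num
    obtain ⟨u, hu, v, hv, huv⟩ := Finset.one_lt_card.mp h1
    simp only [Finset.mem_filter, Finset.mem_univ, true_and] at hu hv
    refine not_alt_le_relGrp (c := y₀) huv (hu.trans hv.symm) fun h => hxy ?_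
    exact (hfiff x₀ y₀ (h.trans hu)).mpr (MulAction.mem_orbit_self _)
  refine huniq _ _ hPf hPF hnf hnF (alt_le_J_blocks f F hsmall (fun x => ?_) x₀ ?_)
  · rw [hFc]; split_ifs <;> omega
  · rw [hFc, if_pos (MulAction.mem_orbit_self _)]; omega

end Degrees

section Reduction

theorem unique_max {X : Type*} [Group X] [Finite X] {S : Subgroup X}
    (h : ∃! M : Subgroup X, IsCoatom M ∧ S ≤ M) {A B : Subgroup X} (hA : A ≠ ⊤) (hB : B ≠ ⊤)
    (hSA : S ≤ A) (hSB : S ≤ B) : A ⊔ B ≠ ⊤ := by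
  obtain ⟨M, ⟨hM, -⟩, hu⟩ := h
  obtain ⟨MA, hMA, hAM⟩ := (eq_top_or_exists_le_coatom A).resolve_left hA
  obtain ⟨MB, hMB, hBM⟩ := (eq_top_or_exists_le_coatom B).resolve_left hB
  intro he
  refine hM.1 (top_le_iff.mp (he ▸ sup_le ?_ ?_))
  · rw [← hu MA ⟨hMA, hSA.trans hAM⟩]; exact hAM
  · rw [← hu MB ⟨hMB, hSB.trans hBM⟩]; exact hBM

theorem main {X : Type*} [Group X] [Finite X] (hX : Cfsg.IsPMinimal 3 X) (n : ℕ) (hn : 5 ≤ n)
    (e : ↥(Cfsg.generalizedFittingSubgroup X) ≃* ↥(alternatingGroup (Fin n))) :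
    Cfsg.generalizedFittingSubgroup X = ⊤ ∧ (n = 6 ∨ n = 9 ∨ ∃ a : ℕ, 2 ≤ a ∧ n = 3 ^ a + 1) := by
  classical
  haveI : Fact (Nat.Prime 3) := ⟨Nat.prime_three⟩
  set F := Cfsg.generalizedFittingSubgroup X with hFdef
  haveI : F.Normal := inferInstanceAs (Cfsg.generalizedFittingSubgroup X).Normal
  haveI hsimple : IsSimpleGroup ↥(alternatingGroup (Fin n)) :=
    alternatingGroup.isSimpleGroup (by rw [Nat.card_fin]; omega)
  have hC : Subgroup.centralizer (F : Set X) = ⊥ := by
    rw [Subgroup.eq_bot_iff_forall]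
    intro c hc
    have hcF : c ∈ F := Cfsg.Agent.Lib.Components.centralizer_genFitting_le hc
    have hcc : e ⟨c, hcF⟩ ∈ Subgroup.center ↥(alternatingGroup (Fin n)) := Subgroup.mem_center_iff.mpr fun u => by
      obtain ⟨v, rfl⟩ := e.surjective u
      rw [← map_mul, ← map_mul]
      exact congrArg e (Subtype.ext (Subgroup.mem_centralizer_iff.mp hc v v.2))
    rcases (Subgroup.Normal.eq_bot_or_eq_top (inferInstance : (Subgroup.center ↥(alternatingGroup (Fin n))).Normal)) with h | h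
    · rw [h, Subgroup.mem_bot, MulEquiv.map_eq_one_iff] at hcc
      exact congrArg Subtype.val hcc
    · exfalso
      let a : Fin n := ⟨0, by omega⟩
      let b : Fin n := ⟨1, by omega⟩
      let c : Fin n := ⟨2, by omega⟩
      let d : Fin n := ⟨3, by omega⟩
      have hab : a ≠ b := by simp [a, b, Fin.ext_iff]
      have hbc : b ≠ c := by simp [b, c, Fin.ext_iff]
      have hac : a ≠ c := by simp [a, c, Fin.ext_iff]
      have had : a ≠ d := by simp [a, d, Fin.ext_iff]
      have hbd : b ≠ d := by simp [b, d, Fin.ext_iff]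
      have hcd : c ≠ d := by simp [c, d, Fin.ext_iff]
      have := Subgroup.mem_center_iff.mp (h ▸ Subgroup.mem_top
        (⟨cyc a b c, (cyc_isThreeCycle hab hbc hac).mem_alternatingGroup⟩ : ↥(alternatingGroup (Fin n))))
        ⟨cyc b c d, (cyc_isThreeCycle hbc hcd hbd).mem_alternatingGroup⟩
      have h2 := congrArg (fun t : alternatingGroup (Fin n) => (t : Equiv.Perm (Fin n)) a) this
      simp only [Subgroup.coe_mul, Equiv.Perm.mul_apply] at h2
      rw [cyc_left hab hac, cyc_left hbc hbd, cyc_other hab hac had, cyc_left hab hac] at h2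
      exact hbc h2.symm
  let S : Sylow 3 X := default
  obtain ⟨hSn, huniq⟩ := hX S
  have hSF : (S : Subgroup X) ≤ F := by
    intro x hx
    let φ : X →* MulAut ↥(alternatingGroup (Fin n)) :=
      (MulAut.congr e).toMonoidHom.comp (MulAut.conjNormal : X →* MulAut F)
    obtain ⟨k, hk⟩ := IsPGroup.iff_orderOf.mp S.2 ⟨x, hx⟩
    rw [← Subgroup.orderOf_coe] at hk
    have hd : orderOf (φ x) ∣ 3 ^ k := hk ▸ orderOf_map_dvd φ x
    have hodd : Odd (orderOf (φ x)) := ((by decide : Odd 3).pow).of_dvd_nat hd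
    obtain ⟨σ, hσ⟩ := PGroups.AutAlternating.of_odd hn (φ x) hodd
    have hσo : orderOf σ ∣ 3 ^ k := by
      rw [← orderOf_injective _ (PGroups.AutAlternating.conjNormal_injective (by omega)) σ, hσ]
      exact hd
    have hσA : σ ∈ alternatingGroup (Fin n) := by
      rw [Equiv.Perm.mem_alternatingGroup]
      have h1 : Equiv.Perm.sign σ ^ (3 ^ k) = 1 := by
        rw [← map_pow, orderOf_dvd_iff_pow_eq_one.mp hσo, map_one]
      obtain ⟨m, hm⟩ := ((by decide : Odd 3).pow : Odd (3 ^ k))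
      rw [hm, pow_succ, pow_mul] at h1
      simpa [Int.units_sq] using h1
    have hcen : x * ((e.symm ⟨σ, hσA⟩ : F) : X)⁻¹ ∈ Subgroup.centralizer (F : Set X) := by
      have key : (MulAut.conjNormal x : MulAut F) = MulAut.conjNormal ((e.symm ⟨σ, hσA⟩ : F) : X) := by
        refine MulEquiv.ext fun f => e.injective (Subtype.ext ?_)
        have h1 := congrArg (fun t : MulAut (alternatingGroup (Fin n)) => ((t (e f) : alternatingGroup (Fin n)) : Equiv.Perm (Fin n))) hσ
        simp only [φ, MonoidHom.coe_comp, MulEquiv.coe_toMonoidHom, Function.comp_apply,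
          MulAut.congr_apply, MulEquiv.trans_apply, MulEquiv.symm_apply_apply, MulAut.conjNormal_apply] at h1
        rw [← h1]
        have h2 : (MulAut.conjNormal ((e.symm ⟨σ, hσA⟩ : F) : X) : MulAut F) f =
            e.symm ⟨σ, hσA⟩ * f * (e.symm ⟨σ, hσA⟩)⁻¹ := Subtype.ext (by simp [MulAut.conjNormal_apply])
        rw [h2]
        simp
      rw [Subgroup.mem_centralizer_iff]
      intro f hf
      have h1 := congrArg (fun t : MulAut F => ((t (MulAut.conjNormal ((e.symm ⟨σ, hσA⟩ : F) : X)⁻¹ ⟨f, hf⟩ : F) : X))) key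
      simp only [MulAut.conjNormal_apply] at h1
      set g : X := ((e.symm ⟨σ, hσA⟩ : F) : X) with hg
      have h1' : x * (g⁻¹ * f * g) * x⁻¹ = f := by
        rw [inv_inv] at h1
        rw [h1]; group
      calc f * (x * g⁻¹) = x * (g⁻¹ * f * g) * x⁻¹ * (x * g⁻¹) := by rw [h1']
        _ = x * g⁻¹ * f := by group
    rw [hC, Subgroup.mem_bot, mul_inv_eq_one] at hcen
    rw [hcen]; exact SetLike.coe_mem _
  have htop : F = ⊤ := by
    by_contra hne
    let SF : Sylow 3 F := S.subtype hSF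
    have h := Sylow.normalizer_sup_eq_top SF
    have hmap : (SF : Subgroup F).map F.subtype = (S : Subgroup X) := by
      rw [Sylow.coe_subtype, Subgroup.map_subgroupOf_eq_of_le hSF]
    rw [hmap, sup_comm] at h
    refine unique_max huniq hne (fun hh => hSn ?_) hSF Subgroup.le_normalizer h
    exact Subgroup.normalizer_eq_top_iff.mp hh
  refine ⟨htop, ?_⟩
  let ψ : X →* Equiv.Perm (Fin n) := (alternatingGroup (Fin n)).subtype.comp
    (e.toMonoidHom.comp ((MulEquiv.subgroupCongr htop.symm).toMonoidHom.comp Subgroup.topEquiv.symm.toMonoidHom))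
  have hψi : Function.Injective ψ := fun a b h => by
    simpa [ψ] using h
  have hψr : ψ.range = alternatingGroup (Fin n) := by
    refine le_antisymm (fun s ⟨x, hx⟩ => hx ▸ SetLike.coe_mem _) fun s hs => ?_
    refine ⟨((e.symm ⟨s, hs⟩ : F) : X), ?_⟩
    exact congrArg Subtype.val ((congrArg e (Subtype.ext rfl)).trans (e.apply_symm_apply ⟨s, hs⟩))
  have := degrees (Ω := Fin n) (by rw [Fintype.card_fin]; exact hn)
    (P := (S : Subgroup X).map ψ) (S.2.map ψ) ?_
  · simpa using this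
  intro K₁ K₂ h1 h2 hn1 hn2 hle
  have key : ∀ K : Subgroup (Equiv.Perm (Fin n)), ¬ alternatingGroup (Fin n) ≤ K → K.comap ψ ≠ ⊤ :=
    fun K hK h => hK (hψr ▸ ((MonoidHom.range_eq_map ψ).le.trans (Subgroup.map_le_iff_le_comap.mpr h.ge)))
  refine unique_max huniq (key K₁ hn1) (key K₂ hn2) (Subgroup.map_le_iff_le_comap.mp h1)
    (Subgroup.map_le_iff_le_comap.mp h2) ?_
  apply Subgroup.map_injective hψi
  rw [Subgroup.map_sup, Subgroup.map_comap_eq, Subgroup.map_comap_eq, ← MonoidHom.range_eq_map, hψr,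
    inf_comm _ K₁, inf_comm _ K₂]
  exact le_antisymm (sup_le inf_le_right inf_le_right) hle

end Reduction

/-- Let X be a finite 3-minimal group (a Sylow 3-subgroup is not normal and lies in a unique maximal subgroup) whose generalized Fitting subgroup is isomorphic to an alternating group of degree n ≥ 5. Then X = F*(X), and n = 6, n = 9, or n = 3ᵃ + 1 for some a ≥ 2. -/
theorem result {X : Type*} [Group X] [Finite X] (hX : Cfsg.IsPMinimal 3 X) (n : ℕ) (hn : 5 ≤ n) (hF : Nonempty (↥(Cfsg.generalizedFittingSubgroup X) ≃* ↥(alternatingGroup (Fin n)))) : Cfsg.generalizedFittingSubgroup X = ⊤ ∧ (n = 6 ∨ n = 9 ∨ ∃ a : ℕ, 2 ≤ a ∧ n = 3 ^ a + 1) := by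
  obtain ⟨e⟩ := hF
  exact main hX n hn e

end Cfsg.Agent.S2930
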