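import Cfsg.Statements.S2931
import Cfsg.Agent.Lib.Classical.OrthCard
import Cfsg.Agent.Lib.Classical.SympCard
import Cfsg.Agent.Lib.KnownA.SylowIso
import Cfsg.Agent.Lib.KnownA.SylowIsoData

set_option autoImplicit false
set_option maxRecDepth 100000
set_option maxHeartbeats 1000000
open Cfsg

namespace Cfsg.Agent.S2931
open Cfsg.Agent.Lib.KnownA.SylowIso Cfsg.Agent.Lib.KnownA.SylowIsoData

/-- A permutation from a pair of codes. -/
def permOf (c d : ℕ) : Equiv.Perm (Fin 8) :=
  let f : Fin 8 → Fin 8 := fun x => Fin.ofNat 8 (c / 8 ^ (x : ℕ))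
  let g : Fin 8 → Fin 8 := fun x => Fin.ofNat 8 (d / 8 ^ (x : ℕ))
  if h : (∀ x, g (f x) = x) ∧ (∀ x, f (g x) = x) then ⟨f, g, h.1, h.2⟩ else 1

/-! ### degree eight, symmetric -/

/-- The table of successors. -/
def tS (i : Fin 128) (j : Fin 3) : Fin 128 := Fin.ofNat 128 ((nextS.getD i []).getD j 0)

/-- The tree. -/
def pS (i : Fin 128) : Fin 128 × Fin 3 := (Fin.ofNat 128 (parS.getD i 0 / 3), Fin.ofNat 3 (parS.getD i 0))

/-- The permutations. -/
def aS (i : Fin 128) : Equiv.Perm (Fin 8) := permOf (permS.getD i 0) (pinvS.getD i 0)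

/-- Position of a coordinate. -/
def pos : (Fin 2 ⊕ Fin 2) ⊕ Fin 2 → ℕ
  | .inl (.inl i) => i
  | .inl (.inr i) => 2 + i
  | .inr i => 4 + i

/-- The matrices of the orthogonal group. -/
def mS (i : Fin 128) : Matrix ((Fin 2 ⊕ Fin 2) ⊕ Fin 2) ((Fin 2 ⊕ Fin 2) ⊕ Fin 2) (ZMod 2) :=
  fun r c => if (codeS.getD i 0).testBit (6 * pos r + pos c) then 1 else 0

/-- The inverse index. -/
def iS (i : Fin 128) : Fin 128 := Fin.ofNat 128 (invS.getD i 0)

theorem tree_S : TreeOk tS pS := by unfold TreeOk; decide +kernel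
theorem perm_S_one : aS 0 = 1 := by decide +kernel
theorem perm_S_mul : ∀ i j, ∀ x, (aS i * aS (tS 0 j)) x = aS (tS i j) x := by decide +kernel
theorem perm_S_inj : (List.ofFn fun i => (List.ofFn fun x => (aS i x : ℕ))).Nodup := by decide +kernel
theorem mat_S_one : mS 0 = 1 := by decide +kernel
theorem mat_S_mul : ∀ i j, mS i * mS (tS 0 j) = mS (tS i j) := by decide +kernel
theorem mat_S_inv : ∀ i, mS i * mS (iS i) = 1 := by decide +kernel

theorem mat_S_inj : (List.ofFn fun i : Fin 128 => codeS.getD i 0).Nodup := by decide +kernel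

theorem mat_S_form : ∀ (j : Fin 3) (u : (Fin 2 ⊕ Fin 2) ⊕ Fin 2 → ZMod 2),
    Cfsg.quadFormMinus 2 (ZMod 2) 1 1 (Matrix.mulVec (mS (tS 0 j)) u) = Cfsg.quadFormMinus 2 (ZMod 2) 1 1 u := by
  decide +kernel

theorem code_S_lt : ∀ i : Fin 128, codeS.getD i 0 < 2 ^ 36 := by decide +kernel

theorem mS_inj : Function.Injective mS := by
  intro i l h
  refine List.nodup_ofFn.1 mat_S_inj ?_
  apply Nat.eq_of_testBit_eq
  intro k
  by_cases hk : k < 36
  · have hr : ∀ a : Fin 6, ∃ r, pos r = (a : ℕ) := by decide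
    obtain ⟨r, hr'⟩ := hr ⟨k / 6, by omega⟩
    obtain ⟨c, hc'⟩ := hr ⟨k % 6, by omega⟩
    have h' := congrFun (congrFun h r) c
    simp only [mS, hr', hc', Nat.div_add_mod] at h'
    revert h'
    cases (codeS.getD i 0).testBit k <;> cases (codeS.getD l 0).testBit k <;> simp
  · rw [Nat.testBit_lt_two_pow (lt_of_lt_of_le (code_S_lt i) (Nat.pow_le_pow_right (by norm_num) (by omega))),
      Nat.testBit_lt_two_pow (lt_of_lt_of_le (code_S_lt l) (Nat.pow_le_pow_right (by norm_num) (by omega)))]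

/-! ### degree eight, alternating -/

/-- The table of successors. -/
def tA (i : Fin 64) (j : Fin 3) : Fin 64 := Fin.ofNat 64 ((nextA.getD i []).getD j 0)

/-- The tree. -/
def pA (i : Fin 64) : Fin 64 × Fin 3 := (Fin.ofNat 64 (parA.getD i 0 / 3), Fin.ofNat 3 (parA.getD i 0))

/-- The permutations. -/
def aA (i : Fin 64) : Equiv.Perm (Fin 8) := permOf (permA.getD i 0) (pinvA.getD i 0)

/-- Position of a coordinate. -/
def posA : Fin 2 ⊕ Fin 2 → ℕ
  | .inl i => i
  | .inr i => 2 + i

/-- The symplectic matrices. -/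
def mA (i : Fin 64) : Matrix (Fin 2 ⊕ Fin 2) (Fin 2 ⊕ Fin 2) (ZMod 3) :=
  fun r c => ((codeA.getD i 0 / 3 ^ (4 * posA r + posA c) : ℕ) : ZMod 3)

theorem tree_A : TreeOk tA pA := by unfold TreeOk; decide +kernel
theorem perm_A_one : aA 0 = 1 := by decide +kernel
theorem perm_A_mul : ∀ i j, ∀ x, (aA i * aA (tA 0 j)) x = aA (tA i j) x := by decide +kernel
theorem perm_A_inj : (List.ofFn fun i => (List.ofFn fun x => (aA i x : ℕ))).Nodup := by decide +kernel
theorem perm_A_even : ∀ j, Equiv.Perm.sign (aA (tA 0 j)) = 1 := by decide +kernel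
theorem mat_A_one : mA 0 = 1 ∨ mA 0 = -1 := by decide +kernel
theorem mat_A_mul : ∀ i j, mA i * mA (tA 0 j) = mA (tA i j) ∨ mA i * mA (tA 0 j) = -mA (tA i j) := by decide +kernel
theorem mat_A_inj : ∀ i l : Fin 64, (mA i = mA l ∨ mA i = -mA l) → i = l := by decide +kernel
theorem mat_A_symp : ∀ i,
    mA i * Matrix.J (Fin 2) (ZMod 3) * (mA i).transpose = Matrix.J (Fin 2) (ZMod 3) := by decide +kernel

theorem two_cases : ∀ y : ZMod 2, y = 0 ∨ y = 1 := by decide

theorem three_two_ne : (2 : ZMod 3) ≠ 0 := by decide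

theorem perm_inj_of {n : ℕ} {a : Fin n → Equiv.Perm (Fin 8)}
    (h : (List.ofFn fun i => (List.ofFn fun x => (a i x : ℕ))).Nodup) : Function.Injective a :=
  fun i l e => List.nodup_ofFn.1 h (by simp [e])

/-- The Sylow 2-subgroups of the alternating group of degree 8 and of PSp₄(3) are isomorphic, and so are the Sylow 2-subgroups of the symmetric group of degree 8 and of the full isometry group of a non-degenerate quadratic form of minus type in dimension 6 over the field with 2 elements. -/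
theorem result (F : Type) [Field F] [Fintype F] (hF : Fintype.card F = 3) (K : Type) [Field K] [Fintype K] (hK : Fintype.card K = 2) (a b : K) (hab : ∀ z₁ z₂ : K, z₁ ^ 2 + a * z₁ * z₂ + b * z₂ ^ 2 = 0 → z₁ = 0 ∧ z₂ = 0) (P : Sylow 2 ↥(alternatingGroup (Fin 8))) (Q : Sylow 2 (Cfsg.PSp 2 F)) (P' : Sylow 2 (Equiv.Perm (Fin 8))) (Q' : Sylow 2 ↥(Cfsg.isometryGroup K (Cfsg.quadFormMinus 2 K a b))) : Nonempty (↥(P : Subgroup ↥(alternatingGroup (Fin 8))) ≃* ↥(Q : Subgroup (Cfsg.PSp 2 F))) ∧ Nonempty (↥(P' : Subgroup (Equiv.Perm (Fin 8))) ≃* ↥(Q' : Subgroup ↥(Cfsg.isometryGroup K (Cfsg.quadFormMinus 2 K a b)))) := by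
  classical
  haveI : Fact (Nat.Prime 2) := ⟨Nat.prime_two⟩
  haveI : Fact (Nat.Prime 3) := ⟨Nat.prime_three⟩
  let e3 : ZMod 3 ≃+* F := ZMod.ringEquivOfPrime F Nat.prime_three hF
  let e2 : ZMod 2 ≃+* K := ZMod.ringEquivOfPrime K Nat.prime_two hK
  refine ⟨?_, ?_⟩
  · -- the alternating group
    have hev : ∀ i, aA i ∈ alternatingGroup (Fin 8) :=
      mem_of_tree tree_A perm_A_one (fun i j => Equiv.ext (perm_A_mul i j)) (alternatingGroup (Fin 8)).toSubmonoid
        (fun j => Equiv.Perm.mem_alternatingGroup.2 (perm_A_even j))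
    have hmem : ∀ i, (mA i).map e3 ∈ Matrix.symplecticGroup (Fin 2) F := fun i =>
      SymplecticGroup.map_mem (A := mA i) (mat_A_symp i) e3.toRingHom
    let mF : Fin 64 → Matrix.symplecticGroup (Fin 2) F := fun i => ⟨(mA i).map e3, hmem i⟩
    let bA : Fin 64 → Cfsg.PSp 2 F := fun i => QuotientGroup.mk (mF i)
    have hneg : ∀ g : Matrix.symplecticGroup (Fin 2) F, g ∈ Subgroup.center (Matrix.symplecticGroup (Fin 2) F) ↔
        ((g : Matrix (Fin 2 ⊕ Fin 2) (Fin 2 ⊕ Fin 2) F) = 1 ∨ (g : Matrix (Fin 2 ⊕ Fin 2) (Fin 2 ⊕ Fin 2) F) = -1) := by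
      have hm1 : (-1 : Matrix (Fin 2 ⊕ Fin 2) (Fin 2 ⊕ Fin 2) F) ∈ Matrix.symplecticGroup (Fin 2) F :=
        SymplecticGroup.neg_mem (one_mem _)
      let z : Matrix.symplecticGroup (Fin 2) F := ⟨-1, hm1⟩
      have hz : z ∈ Subgroup.center (Matrix.symplecticGroup (Fin 2) F) :=
        Subgroup.mem_center_iff.2 fun g => Subtype.ext (by simp [z])
      have hz1 : z ≠ 1 := fun h => by
        have h' := congrFun (congrFun (congrArg Subtype.val h) (Sum.inl 0)) (Sum.inl 0)
        simp [z] at h'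
        have h2 : (2 : F) = 0 := by linear_combination -h'
        have h3 : e3.symm (2 : F) = e3.symm 0 := by rw [h2]
        rw [map_ofNat, map_zero] at h3
        exact three_two_ne h3
      have hcard : Nat.card (Subgroup.center (Matrix.symplecticGroup (Fin 2) F)) = 2 := by
        rw [Cfsg.Agent.Lib.Classical.card_center_sp (by norm_num), hF]; rfl
      intro g
      constructor
      · intro hg
        obtain ⟨x, y, hxy, huniv⟩ := Nat.card_eq_two_iff.1 hcard
        have hall : ∀ w : Subgroup.center (Matrix.symplecticGroup (Fin 2) F), w = 1 ∨ w = ⟨z, hz⟩ := by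
          intro w
          have hzne : (⟨z, hz⟩ : Subgroup.center (Matrix.symplecticGroup (Fin 2) F)) ≠ 1 :=
            fun h => hz1 (congrArg Subtype.val h)
          have hw : w = x ∨ w = y := by
            have : w ∈ ({x, y} : Set _) := huniv ▸ Set.mem_univ w
            simpa using this
          have h1 : (1 : Subgroup.center (Matrix.symplecticGroup (Fin 2) F)) = x ∨
              (1 : Subgroup.center (Matrix.symplecticGroup (Fin 2) F)) = y := by
            have : (1 : Subgroup.center (Matrix.symplecticGroup (Fin 2) F)) ∈ ({x, y} : Set _) :=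
              huniv ▸ Set.mem_univ _
            simpa using this
          have h2 : (⟨z, hz⟩ : Subgroup.center (Matrix.symplecticGroup (Fin 2) F)) = x ∨
              (⟨z, hz⟩ : Subgroup.center (Matrix.symplecticGroup (Fin 2) F)) = y := by
            have : (⟨z, hz⟩ : Subgroup.center (Matrix.symplecticGroup (Fin 2) F)) ∈ ({x, y} : Set _) :=
              huniv ▸ Set.mem_univ _
            simpa using this
          grind
        rcases hall ⟨g, hg⟩ with h | h
        · exact Or.inl (congrArg (fun w : Subgroup.center (Matrix.symplecticGroup (Fin 2) F) => (w : Matrix.symplecticGroup (Fin 2) F).1) h)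
        · exact Or.inr (congrArg (fun w : Subgroup.center (Matrix.symplecticGroup (Fin 2) F) => (w : Matrix.symplecticGroup (Fin 2) F).1) h)
      · rintro (h | h)
        · rw [show g = 1 from Subtype.ext h]; exact one_mem _
        · rw [show g = z from Subtype.ext h]; exact hz
    have hquot : ∀ g h : Matrix.symplecticGroup (Fin 2) F, (QuotientGroup.mk g : Cfsg.PSp 2 F) = QuotientGroup.mk h ↔
        ((h : Matrix (Fin 2 ⊕ Fin 2) (Fin 2 ⊕ Fin 2) F) = g ∨ (h : Matrix (Fin 2 ⊕ Fin 2) (Fin 2 ⊕ Fin 2) F) = -g) := by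
      intro g h
      rw [QuotientGroup.eq, hneg]
      have hg : h = g * (g⁻¹ * h) := by group
      constructor
      · rintro (e | e)
        · left
          rw [hg, Submonoid.coe_mul, e, mul_one]
        · right
          rw [hg, Submonoid.coe_mul, e, mul_neg, mul_one]
      · rintro (e | e)
        · left
          rw [show g⁻¹ * h = 1 by rw [show h = g from Subtype.ext e, inv_mul_cancel]]; rfl
        · right
          rw [show h = g * ⟨-1, SymplecticGroup.neg_mem (one_mem _)⟩ from
            Subtype.ext (by rw [Submonoid.coe_mul, e]; simp), inv_mul_cancel_left]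
    have hmapneg : ∀ M : Matrix (Fin 2 ⊕ Fin 2) (Fin 2 ⊕ Fin 2) (ZMod 3), (-M).map e3 = -(M.map e3) := fun M => by
      ext r c; simp
    have hmap1 : (1 : Matrix (Fin 2 ⊕ Fin 2) (Fin 2 ⊕ Fin 2) (ZMod 3)).map e3 = 1 := by
      rw [Matrix.map_one _ (map_zero e3) (map_one e3)]
    have hA : IsTable (fun i => (⟨aA i, hev i⟩ : alternatingGroup (Fin 8))) tA :=
      ⟨Subtype.ext perm_A_one, fun i l h => perm_inj_of perm_A_inj (congrArg Subtype.val h),
        fun i j => Subtype.ext (Equiv.ext (perm_A_mul i j))⟩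
    have hB : IsTable bA tA := by
      refine ⟨?_, ?_, ?_⟩
      · refine (hquot _ 1).2 ?_
        show (1 : Matrix _ _ F) = (mA 0).map e3 ∨ (1 : Matrix _ _ F) = -((mA 0).map e3)
        rcases mat_A_one with h | h
        · left; rw [h, hmap1]
        · right; rw [h, hmapneg, hmap1, neg_neg]
      · intro i l h
        have inj := Matrix.map_injective (m := Fin 2 ⊕ Fin 2) (n := Fin 2 ⊕ Fin 2) e3.injective
        refine (mat_A_inj l i ?_).symm
        rcases (hquot _ _).1 h with e | e
        · exact Or.inl (inj e)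
        · exact Or.inr (inj (e.trans (hmapneg _).symm))
      · intro i j
        rw [← QuotientGroup.mk_mul]
        refine ((hquot _ _).2 ?_).symm
        show (mA i).map e3 * (mA (tA 0 j)).map e3 = (mA (tA i j)).map e3 ∨
          (mA i).map e3 * (mA (tA 0 j)).map e3 = -((mA (tA i j)).map e3)
        rcases mat_A_mul i j with h | h
        · left; rw [← Matrix.map_mul, h]
        · right; rw [← Matrix.map_mul, h, hmapneg]
    have hGc : Nat.card (alternatingGroup (Fin 8)) = 2 ^ 6 * 315 := by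
      rw [nat_card_alternatingGroup, Nat.card_fin]; rfl
    have hHc : Nat.card (Cfsg.PSp 2 F) = 2 ^ 6 * 405 := by
      have h := Cfsg.Agent.Lib.Classical.card_psp_mul (F := F) (m := 2) (by norm_num)
      rw [hF, Finset.prod_range_succ, Finset.prod_range_succ, Finset.prod_range_zero] at h
      norm_num at h ⊢
      omega
    exact sylow_iso tree_A hA hB (e := 6) (by norm_num) hGc (by norm_num) hHc (by norm_num) P Q
  · -- the symmetric group
    have hcases : ∀ x : K, x = 0 ∨ x = 1 := fun x => by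
      have hx : ∀ y : ZMod 2, y = 0 ∨ y = 1 := two_cases
      rcases hx (e2.symm x) with h | h
      · exact Or.inl (by rw [← e2.apply_symm_apply x, h, map_zero])
      · exact Or.inr (by rw [← e2.apply_symm_apply x, h, map_one])
    have htwo : (1 : K) + 1 = 0 := by
      rw [← map_one e2, ← map_add, show (1 : ZMod 2) + 1 = 0 from rfl, map_zero]
    obtain rfl : a = 1 := by
      rcases hcases a with h | h
      · exfalso
        rcases hcases b with h' | h'
        · exact one_ne_zero (hab 0 1 (by rw [h, h']; ring)).2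
        · exact one_ne_zero (hab 1 1 (by rw [h, h']; linear_combination htwo)).1
      · exact h
    obtain rfl : b = 1 := by
      rcases hcases b with h | h
      · exact absurd (hab 0 1 (by rw [h]; ring)).2 one_ne_zero
      · exact h
    let gS : Fin 128 → GL ((Fin 2 ⊕ Fin 2) ⊕ Fin 2) K := fun i =>
      ⟨(mS i).map e2, (mS (iS i)).map e2,
        by rw [← Matrix.map_mul, mat_S_inv i,
          Matrix.map_one _ (map_zero e2) (map_one e2)],
        mul_eq_one_comm.1 (by rw [← Matrix.map_mul, mat_S_inv i,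
          Matrix.map_one _ (map_zero e2) (map_one e2)])⟩
    have g1 : gS 0 = 1 := Units.ext (by
      show (mS 0).map e2 = 1
      rw [mat_S_one, Matrix.map_one _ (map_zero e2) (map_one e2)])
    have gmul : ∀ i j, gS i * gS (tS 0 j) = gS (tS i j) := fun i j => Units.ext (by
      show (mS i).map e2 * (mS (tS 0 j)).map e2 = (mS (tS i j)).map e2
      rw [← Matrix.map_mul, mat_S_mul i j])
    have hQ : ∀ u : (Fin 2 ⊕ Fin 2) ⊕ Fin 2 → ZMod 2,
        Cfsg.quadFormMinus 2 K 1 1 (fun r => e2 (u r)) = e2 (Cfsg.quadFormMinus 2 (ZMod 2) 1 1 u) := fun u => by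
      simp only [Cfsg.quadFormMinus, map_sum, map_add, map_mul, map_pow, map_one]
    have hmem : ∀ i, gS i ∈ Cfsg.isometryGroup K (Cfsg.quadFormMinus 2 K 1 1) := by
      refine mem_of_tree tree_S g1 gmul (Cfsg.isometryGroup K (Cfsg.quadFormMinus 2 K 1 1)).toSubmonoid fun j => ?_
      intro u v
      show Cfsg.quadFormMinus 2 K 1 1 (Matrix.mulVec ((mS (tS 0 j)).map e2) u) = Cfsg.quadFormMinus 2 K 1 1 u
      obtain ⟨w, rfl⟩ : ∃ w, u = fun r => e2 (w r) := ⟨fun r => e2.symm (u r), funext fun r => (e2.apply_symm_apply _).symm⟩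
      rw [show Matrix.mulVec ((mS (tS 0 j)).map e2) (fun r => e2 (w r)) = fun r => e2 (Matrix.mulVec (mS (tS 0 j)) w r) from
        funext fun r => (RingHom.map_mulVec e2.toRingHom (mS (tS 0 j)) w r).symm, hQ, hQ, mat_S_form]
    have hA : IsTable aS tS := ⟨perm_S_one, perm_inj_of perm_S_inj, fun i j => Equiv.ext (perm_S_mul i j)⟩
    have hB : IsTable (fun i => (⟨gS i, hmem i⟩ : Cfsg.isometryGroup K (Cfsg.quadFormMinus 2 K 1 1))) tS := by
      refine ⟨Subtype.ext g1, fun i l h => ?_, fun i j => Subtype.ext (gmul i j)⟩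
      exact mS_inj (Matrix.map_injective e2.injective (congrArg Units.val (congrArg Subtype.val h)))
    have hGc : Nat.card (Equiv.Perm (Fin 8)) = 2 ^ 7 * 315 := by
      rw [Nat.card_perm, Nat.card_fin]; rfl
    have hHc : Nat.card (Cfsg.isometryGroup K (Cfsg.quadFormMinus 2 K 1 1)) = 2 ^ 7 * 405 := by
      have h := Cfsg.Agent.Lib.Classical.card_orth_minus hK 3 (by norm_num) (1 : K) 1 hab
      rw [show (3 : ℕ) - 1 = 2 from rfl] at h
      rw [h, Finset.prod_range_succ, Finset.prod_range_succ, Finset.prod_range_zero]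
      norm_num
    exact sylow_iso tree_S hA hB (e := 7) (by norm_num) hGc (by norm_num) hHc (by norm_num) P' Q'

end Cfsg.Agent.S2931
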