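import Cfsg.Statements.S2933
import Cfsg.Agent.Lib.Cores.Frattini
import Cfsg.Agent.Lib.PGroups.UnitriangularFour
import Cfsg.Agent.Lib.PGroups.FpfOrderThree
import Cfsg.Agent.Lib.Coprime.Basic
import Cfsg.Agent.S1248

set_option autoImplicit false
open Cfsg

namespace Cfsg.Agent.S2933

set_option linter.all false
open Cfsg.Agent Cfsg.Agent.Lib
open scoped commutatorElement

section NF

variable {G : Type*} [Group G] [Finite G]

theorem card_step {H : Subgroup G} [H.Normal] {g : G} (hg : g * g ∈ H) :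
    Nat.card (H ⊔ Subgroup.zpowers g : Subgroup G) ≤ 2 * Nat.card H := by
  have h := Coprime.card_sup_mul_card_inf (N := H) (H := Subgroup.zpowers g)
    (by rw [Subgroup.normalizer_eq_top H]; exact le_top)
  have h2 : Nat.card (Subgroup.zpowers (g * g)) ≤ Nat.card (H ⊓ Subgroup.zpowers g : Subgroup G) :=
    Subgroup.card_le_of_le (le_inf (Subgroup.zpowers_le.mpr hg)
      (Subgroup.zpowers_le.mpr (mul_mem (Subgroup.mem_zpowers g) (Subgroup.mem_zpowers g))))
  rw [Nat.card_zpowers] at h2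
  have h3 : orderOf g ≤ 2 * orderOf (g * g) := by
    have hp : 0 < orderOf (g * g) := orderOf_pos _
    refine Nat.le_of_dvd (by omega) (orderOf_dvd_of_pow_eq_one ?_)
    rw [pow_mul, pow_two, pow_orderOf_eq_one]
  rw [Nat.card_zpowers] at h
  have hH : 0 < Nat.card (H ⊓ Subgroup.zpowers g : Subgroup G) := Nat.card_pos
  have h4 : Nat.card (H ⊔ Subgroup.zpowers g : Subgroup G) * Nat.card (H ⊓ Subgroup.zpowers g : Subgroup G)
      ≤ 2 * Nat.card H * Nat.card (H ⊓ Subgroup.zpowers g : Subgroup G) := by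
    rw [h]
    calc Nat.card H * orderOf g ≤ Nat.card H * (2 * Nat.card (H ⊓ Subgroup.zpowers g : Subgroup G)) :=
          Nat.mul_le_mul_left _ (h3.trans (Nat.mul_le_mul_left _ h2))
      _ = _ := by ring
  exact Nat.le_of_mul_le_mul_right h4 hH

/-- Four generators, commutators and squares in a central four-group. -/
theorem card_le_sixtyfour {g₁ g₂ h₁ h₂ c d : G}
    (hgen : Subgroup.closure ({g₁, g₂, h₁, h₂, c, d} : Set G) = ⊤)
    (hc : c ∈ Subgroup.center G) (hd : d ∈ Subgroup.center G) (hc2 : c * c = 1) (hd2 : d * d = 1)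
    (hsq : ∀ g ∈ ({g₁, g₂, h₁, h₂} : Set G), g * g ∈ Subgroup.closure ({c, d} : Set G))
    (hcm : ∀ g ∈ ({g₁, g₂, h₁, h₂} : Set G), ∀ h ∈ ({g₁, g₂, h₁, h₂} : Set G),
      ⁅g, h⁆ ∈ Subgroup.closure ({c, d} : Set G)) : Nat.card G ≤ 64 := by
  set N := Subgroup.closure ({c, d} : Set G) with hN
  have hNc : N ≤ Subgroup.center G := by
    rw [hN, Subgroup.closure_le]; rintro x (rfl | rfl) <;> assumption
  haveI hNn : N.Normal := ⟨fun n hn g => by
    rw [Subgroup.mem_center_iff.mp (hNc hn) g, mul_assoc, mul_inv_cancel, mul_one]; exact hn⟩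
  let π := QuotientGroup.mk' N
  have hker : ∀ {z}, z ∈ N → π z = 1 := fun hz => (QuotientGroup.eq_one_iff _).mpr hz
  have hab : commutator G ≤ N := by
    have hS : ∀ a ∈ ({g₁, g₂, h₁, h₂, c, d} : Set G), ∀ b ∈ ({g₁, g₂, h₁, h₂, c, d} : Set G),
        Commute (π a) (π b) := by
      intro a ha b hb
      have cen : ∀ z, z = c ∨ z = d → π z = 1 := fun z hz => hker (Subgroup.subset_closure (by
        rcases hz with rfl | rfl <;> simp))
      simp only [Set.mem_insert_iff, Set.mem_singleton_iff] at ha hb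
      by_cases hac : a = c ∨ a = d
      · rw [cen a hac]; exact Commute.one_left _
      by_cases hbc : b = c ∨ b = d
      · rw [cen b hbc]; exact Commute.one_right _
      have ha' : a ∈ ({g₁, g₂, h₁, h₂} : Set G) := by
        simp only [Set.mem_insert_iff, Set.mem_singleton_iff]; tauto
      have hb' : b ∈ ({g₁, g₂, h₁, h₂} : Set G) := by
        simp only [Set.mem_insert_iff, Set.mem_singleton_iff]; tauto
      exact commutatorElement_eq_one_iff_mul_comm.mp (by
        rw [← map_commutatorElement]; exact hker (hcm a ha' b hb'))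
    have h1 : ∀ a ∈ ({g₁, g₂, h₁, h₂, c, d} : Set G), ∀ y, Commute (π a) (π y) := fun a ha y => by
      induction (hgen ▸ Subgroup.mem_top y : y ∈ Subgroup.closure _) using Subgroup.closure_induction with
      | mem z hz => exact hS a ha z hz
      | one => rw [map_one]; exact Commute.one_right _
      | mul u v _ _ hu hv => rw [map_mul]; exact hu.mul_right hv
      | inv u _ hu => rw [map_inv]; exact hu.inv_right
    rw [commutator_def, Subgroup.commutator_le]
    intro x _ y _
    have this : Commute (π x) (π y) := by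
      clear * - h1 hgen
      have hx : x ∈ Subgroup.closure ({g₁, g₂, h₁, h₂, c, d} : Set G) := hgen ▸ Subgroup.mem_top x
      induction hx using Subgroup.closure_induction with
      | mem z hz => exact h1 z hz y
      | one => rw [map_one]; exact Commute.one_left _
      | mul u v _ _ hu hv => rw [map_mul]; exact hu.mul_left hv
      | inv u _ hu => rw [map_inv]; exact hu.inv_left
    exact (QuotientGroup.eq_one_iff _).mp ((map_commutatorElement π x y).trans
      (commutatorElement_eq_one_iff_mul_comm.mpr this))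
  have normal_of : ∀ H : Subgroup G, N ≤ H → H.Normal := fun H hH => ⟨fun n hn g => by
    have h1 : ⁅g, n⁆ ∈ H := hH (hab (by
      rw [commutator_def]; exact Subgroup.commutator_mem_commutator (Subgroup.mem_top _) (Subgroup.mem_top _)))
    have : g * n * g⁻¹ = ⁅g, n⁆ * n := by rw [commutatorElement_def]; group
    rw [this]; exact mul_mem h1 hn⟩
  have hN4 : Nat.card N ≤ 4 := by
    have h1 : Nat.card (Subgroup.zpowers c) ≤ 2 := by
      rw [Nat.card_zpowers]
      exact orderOf_le_of_pow_eq_one (by norm_num) (by rw [pow_two, hc2])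
    haveI : (Subgroup.zpowers c).Normal := ⟨fun n hn g => by
      rw [Subgroup.mem_center_iff.mp ((Subgroup.zpowers_le.mpr hc) hn) g, mul_assoc, mul_inv_cancel,
        mul_one]; exact hn⟩
    have h2 := card_step (H := Subgroup.zpowers c) (g := d) (by rw [hd2]; exact one_mem _)
    have e : N ≤ Subgroup.zpowers c ⊔ Subgroup.zpowers d := by
      rw [hN, Subgroup.closure_le]
      rintro x (rfl | rfl)
      · exact Subgroup.mem_sup_left (Subgroup.mem_zpowers _)
      · exact Subgroup.mem_sup_right (Subgroup.mem_zpowers _)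
    exact (Subgroup.card_le_of_le e).trans (by omega)
  have step : ∀ (H : Subgroup G), N ≤ H → ∀ g ∈ ({g₁, g₂, h₁, h₂} : Set G),
      Nat.card (H ⊔ Subgroup.zpowers g : Subgroup G) ≤ 2 * Nat.card H := fun H hH g hg => by
    haveI := normal_of H hH
    exact card_step (hH (hsq g hg))
  have htop : N ⊔ Subgroup.zpowers g₁ ⊔ Subgroup.zpowers g₂ ⊔ Subgroup.zpowers h₁ ⊔ Subgroup.zpowers h₂ = ⊤ := by
    rw [eq_top_iff, ← hgen, Subgroup.closure_le]
    intro x hx
    simp only [Set.mem_insert_iff, Set.mem_singleton_iff] at hx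
    have hN' : N ≤ N ⊔ Subgroup.zpowers g₁ ⊔ Subgroup.zpowers g₂ ⊔ Subgroup.zpowers h₁ ⊔ Subgroup.zpowers h₂ :=
      le_sup_of_le_left (le_sup_of_le_left (le_sup_of_le_left le_sup_left))
    rcases hx with rfl | rfl | rfl | rfl | rfl | rfl
    · exact Subgroup.mem_sup_left (Subgroup.mem_sup_left (Subgroup.mem_sup_left (Subgroup.mem_sup_right (Subgroup.mem_zpowers _))))
    · exact Subgroup.mem_sup_left (Subgroup.mem_sup_left (Subgroup.mem_sup_right (Subgroup.mem_zpowers _)))
    · exact Subgroup.mem_sup_left (Subgroup.mem_sup_right (Subgroup.mem_zpowers _))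
    · exact Subgroup.mem_sup_right (Subgroup.mem_zpowers _)
    · exact hN' (Subgroup.subset_closure (by simp))
    · exact hN' (Subgroup.subset_closure (by simp))
  have a1 := step N le_rfl g₁ (by simp)
  have a2 := step (N ⊔ Subgroup.zpowers g₁) le_sup_left g₂ (by simp)
  have a3 := step (N ⊔ Subgroup.zpowers g₁ ⊔ Subgroup.zpowers g₂) (le_sup_of_le_left le_sup_left) h₁ (by simp)
  have a4 := step (N ⊔ Subgroup.zpowers g₁ ⊔ Subgroup.zpowers g₂ ⊔ Subgroup.zpowers h₁)
    (le_sup_of_le_left (le_sup_of_le_left le_sup_left)) h₂ (by simp)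
  rw [htop, Subgroup.card_top] at a4
  omega

/-- Two groups of order `64` satisfying the same relations are isomorphic. -/
theorem iso_of_data {W : Type*} [Group W] [Finite W] (hG : Nat.card G = 64) (hW : Nat.card W = 64)
    {g₁ g₂ h₁ h₂ c d : G} {g₁' g₂' h₁' h₂' c' d' : W}
    (hgen : Subgroup.closure ({g₁, g₂, h₁, h₂, c, d} : Set G) = ⊤)
    (hgen' : Subgroup.closure ({g₁', g₂', h₁', h₂', c', d'} : Set W) = ⊤)
    (hc : c ∈ Subgroup.center G) (hd : d ∈ Subgroup.center G) (hc2 : c * c = 1) (hd2 : d * d = 1)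
    (hc' : c' ∈ Subgroup.center W) (hd' : d' ∈ Subgroup.center W) (hc2' : c' * c' = 1) (hd2' : d' * d' = 1)
    (hsq : ∀ g ∈ ({(g₁, g₁'), (g₂, g₂'), (h₁, h₁'), (h₂, h₂')} : Set (G × W)),
      g * g ∈ Subgroup.closure ({(c, c'), (d, d')} : Set (G × W)))
    (hcm : ∀ g ∈ ({(g₁, g₁'), (g₂, g₂'), (h₁, h₁'), (h₂, h₂')} : Set (G × W)),
      ∀ h ∈ ({(g₁, g₁'), (g₂, g₂'), (h₁, h₁'), (h₂, h₂')} : Set (G × W)),
      ⁅g, h⁆ ∈ Subgroup.closure ({(c, c'), (d, d')} : Set (G × W))) : Nonempty (G ≃* W) := by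
  set Γ := Subgroup.closure
    ({(g₁, g₁'), (g₂, g₂'), (h₁, h₁'), (h₂, h₂'), (c, c'), (d, d')} : Set (G × W)) with hΓ
  have mem : ∀ v ∈ ({(g₁, g₁'), (g₂, g₂'), (h₁, h₁'), (h₂, h₂'), (c, c'), (d, d')} : Set (G × W)), v ∈ Γ :=
    fun v hv => Subgroup.subset_closure hv
  let p₁ : Γ := ⟨_, mem (g₁, g₁') (by simp)⟩
  let p₂ : Γ := ⟨_, mem (g₂, g₂') (by simp)⟩
  let q₁ : Γ := ⟨_, mem (h₁, h₁') (by simp)⟩
  let q₂ : Γ := ⟨_, mem (h₂, h₂') (by simp)⟩
  let r : Γ := ⟨_, mem (c, c') (by simp)⟩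
  let s : Γ := ⟨_, mem (d, d') (by simp)⟩
  have himg : Γ.subtype '' ({p₁, p₂, q₁, q₂, r, s} : Set Γ) =
      {(g₁, g₁'), (g₂, g₂'), (h₁, h₁'), (h₂, h₂'), (c, c'), (d, d')} := by
    simp only [Set.image_insert_eq, Set.image_singleton]; rfl
  have hcl : Subgroup.closure ({p₁, p₂, q₁, q₂, r, s} : Set Γ) = ⊤ := by
    apply Subgroup.map_injective Γ.subtype_injective
    rw [MonoidHom.map_closure, himg, ← MonoidHom.range_eq_map, Subgroup.range_subtype, hΓ]
  have hN : ∀ v : Γ, (v : G × W) ∈ Subgroup.closure ({(c, c'), (d, d')} : Set (G × W)) →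
      v ∈ Subgroup.closure ({r, s} : Set Γ) := fun v hv => by
    have e : (Subgroup.closure ({r, s} : Set Γ)).map Γ.subtype =
        Subgroup.closure ({(c, c'), (d, d')} : Set (G × W)) := by
      rw [MonoidHom.map_closure, Set.image_insert_eq, Set.image_singleton]; rfl
    rw [← e] at hv
    exact (Subgroup.mem_map_iff_mem Γ.subtype_injective).mp hv
  have hgens : ∀ g ∈ ({p₁, p₂, q₁, q₂} : Set Γ),
      (g : G × W) ∈ ({(g₁, g₁'), (g₂, g₂'), (h₁, h₁'), (h₂, h₂')} : Set (G × W)) := by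
    rintro g (rfl | rfl | rfl | rfl) <;> simp [p₁, p₂, q₁, q₂]
  have hcard : Nat.card Γ ≤ 64 := card_le_sixtyfour hcl
    (Subgroup.mem_center_iff.mpr fun v => Subtype.ext (Prod.ext
      (Subgroup.mem_center_iff.mp hc _) (Subgroup.mem_center_iff.mp hc' _)))
    (Subgroup.mem_center_iff.mpr fun v => Subtype.ext (Prod.ext
      (Subgroup.mem_center_iff.mp hd _) (Subgroup.mem_center_iff.mp hd' _)))
    (Subtype.ext (Prod.ext hc2 hc2')) (Subtype.ext (Prod.ext hd2 hd2'))
    (fun g hg => hN _ (hsq _ (hgens g hg)))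
    (fun g hg h hh => hN _ (by
      rw [show ((⁅g, h⁆ : Γ) : G × W) = ⁅(g : G × W), (h : G × W)⁆ from map_commutatorElement Γ.subtype g h]
      exact hcm _ (hgens g hg) _ (hgens h hh)))
  let f₁ : Γ →* G := (MonoidHom.fst G W).comp Γ.subtype
  let f₂ : Γ →* W := (MonoidHom.snd G W).comp Γ.subtype
  have s1 : f₁.range = ⊤ := by
    rw [MonoidHom.range_eq_map, ← hcl, MonoidHom.map_closure]
    simp only [Set.image_insert_eq, Set.image_singleton]
    exact hgen
  have s2 : f₂.range = ⊤ := by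
    rw [MonoidHom.range_eq_map, ← hcl, MonoidHom.map_closure]
    simp only [Set.image_insert_eq, Set.image_singleton]
    exact hgen'
  have b1 : Function.Bijective f₁ := (MonoidHom.range_eq_top.mp s1).bijective_of_nat_card_le (by rw [hG]; exact hcard)
  have b2 : Function.Bijective f₂ := (MonoidHom.range_eq_top.mp s2).bijective_of_nat_card_le (by rw [hW]; exact hcard)
  exact ⟨(MulEquiv.ofBijective f₁ b1).symm.trans (MulEquiv.ofBijective f₂ b2)⟩

end NF

section Fpf

variable {T : Type*} [Group T] [Finite T]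

theorem three_torsion (hT : IsPGroup 2 T) {q : T} (hq : q ^ 3 = 1) : q = 1 := by
  obtain ⟨n, hn⟩ := hT q
  have h1 : orderOf q ∣ Nat.gcd (2 ^ n) 3 :=
    Nat.dvd_gcd (orderOf_dvd_of_pow_eq_one hn) (orderOf_dvd_of_pow_eq_one hq)
  rw [(Nat.Coprime.pow_left n (by norm_num : Nat.Coprime 2 3)).gcd_eq_one, Nat.dvd_one] at h1
  exact orderOf_eq_one_iff.mp h1

/-- The setting: commuting automorphisms, `ρ` with `g ρ(g) ρ²(g) = 1`, `t` an involution. -/
structure Acts (ρ t : MulAut T) : Prop where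
  two : IsPGroup 2 T
  h3 : ∀ g, ρ (ρ (ρ g)) = g
  ht : ∀ g, t (t g) = g
  hc : ∀ g, t (ρ g) = ρ (t g)
  nrm : ∀ g, g * ρ g * ρ (ρ g) = 1

theorem Acts.fpf {ρ t : MulAut T} (h : Acts ρ t) {g : T} (hg : ρ g = g) : g = 1 := by
  refine three_torsion h.two ?_
  have := h.nrm g
  rw [hg, hg] at this
  rw [pow_succ, pow_two]; exact this

theorem Acts.comm {ρ t : MulAut T} (h : Acts ρ t) (g : T) : Commute g (ρ g) := by
  have h1 := h.nrm g
  have h2 := h.nrm g⁻¹
  rw [map_inv, map_inv] at h2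
  have e1 : ρ (ρ g) = (g * ρ g)⁻¹ := eq_inv_of_mul_eq_one_right h1
  have e2 : (ρ (ρ g))⁻¹ = (g⁻¹ * (ρ g)⁻¹)⁻¹ := eq_inv_of_mul_eq_one_right h2
  rw [inv_inj] at e2
  rw [e1, mul_inv_rev] at e2
  show g * ρ g = ρ g * g
  have := congrArg (·⁻¹) e2
  simpa using this

/-- A `ρ`-invariant subgroup has order congruent to one modulo three. -/
theorem Acts.card_mod {ρ t : MulAut T} (h : Acts ρ t) (U : Subgroup T) (hU : ∀ u ∈ U, ρ u ∈ U) :
    Nat.card U % 3 = 1 := by
  classical
  haveI : Fact (Nat.Prime 3) := ⟨Nat.prime_three⟩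
  haveI := Fintype.ofFinite U
  let f : Equiv.Perm U :=
    { toFun := fun u => ⟨ρ u, hU u u.2⟩
      invFun := fun u => ⟨ρ (ρ u), hU _ (hU u u.2)⟩
      left_inv := fun u => Subtype.ext (h.h3 u)
      right_inv := fun u => Subtype.ext (h.h3 u) }
  have hord : f ^ 3 ^ 1 = 1 := by
    ext u; exact congrArg Subtype.val (show (f ^ 3) u = u from Subtype.ext (h.h3 u))
  have h1 := Equiv.Perm.card_compl_support_modEq (p := 3) (n := 1) hord
  have h2 : f.supportᶜ = {1} := by
    ext u
    simp only [Finset.mem_compl, Equiv.Perm.mem_support, not_not, Finset.mem_singleton]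
    constructor
    · exact fun e => Subtype.ext (h.fpf (congrArg Subtype.val e))
    · rintro rfl; exact Subtype.ext (map_one ρ)
  rw [h2, Finset.card_singleton] at h1
  rw [Nat.card_eq_fintype_card]
  have h1' : (1 : ℕ) % 3 = Fintype.card U % 3 := h1
  omega

theorem Acts.quotient {ρ t : MulAut T} (h : Acts ρ t) {N : Subgroup T} [N.Normal]
    (hρN : N.map (ρ : T ≃* T).toMonoidHom = N) (htN : N.map (t : T ≃* T).toMonoidHom = N) :
    Acts (QuotientGroup.congr N N ρ hρN) (QuotientGroup.congr N N t htN) := by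
  constructor
  · exact h.two.to_quotient N
  all_goals intro g; obtain ⟨g, rfl⟩ := QuotientGroup.mk_surjective g
  · show QuotientGroup.mk (ρ (ρ (ρ g))) = QuotientGroup.mk g
    rw [h.h3]
  · show QuotientGroup.mk (t (t g)) = QuotientGroup.mk g
    rw [h.ht]
  · show QuotientGroup.mk (t (ρ g)) = QuotientGroup.mk (ρ (t g))
    rw [h.hc]
  · show (QuotientGroup.mk (g * ρ g * ρ (ρ g)) : T ⧸ N) = 1
    rw [h.nrm]; rfl

/-- The fixed points of an automorphism. -/
def fixT (t : MulAut T) : Subgroup T where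
  carrier := {x | t x = x}
  one_mem' := map_one _
  mul_mem' := fun {x y} (hx : t x = x) (hy : t y = y) => show t (x * y) = x * y by rw [map_mul, hx, hy]
  inv_mem' := fun {x} (hx : t x = x) => show t x⁻¹ = x⁻¹ by rw [map_inv, hx]

theorem card_fix_quotient (t : MulAut T) (ht : ∀ g, t (t g) = g) (N : Subgroup T) [N.Normal]
    (htN : N.map (t : T ≃* T).toMonoidHom = N) :
    Nat.card (fixT (QuotientGroup.congr N N t htN : MulAut (T ⧸ N))) ≤ Nat.card (fixT t) := by
  classical
  haveI := Fintype.ofFinite T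
  set Q := fixT (QuotientGroup.congr N N t htN : MulAut (T ⧸ N))
  let P : Subgroup T := Q.comap (QuotientGroup.mk' N)
  have hP : Nat.card P = Nat.card N * Nat.card Q := by
    have h1 := Subgroup.card_mul_index P
    rw [show P.index = Q.index from Subgroup.index_comap_of_surjective _ (QuotientGroup.mk'_surjective N),
      Subgroup.card_eq_card_quotient_mul_card_subgroup N, ← Subgroup.card_mul_index Q] at h1
    have : 0 < Q.index := Nat.pos_of_ne_zero Subgroup.FiniteIndex.index_ne_zero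
    nlinarith
  have hmem : ∀ u : P, (u : T)⁻¹ * t u ∈ N := fun u => QuotientGroup.eq.mp
    (show (QuotientGroup.mk (u : T) : T ⧸ N) = QuotientGroup.mk (t u) from
      (show (QuotientGroup.congr N N t htN : MulAut (T ⧸ N)) (QuotientGroup.mk (u : T)) = QuotientGroup.mk (u : T) from u.2).symm)
  let f : P → N := fun u => ⟨_, hmem u⟩
  have hfib : ∀ n ∈ (Finset.univ : Finset N), (Finset.univ.filter fun u : P => f u = n).card ≤ Nat.card (fixT t) := by
    intro n _
    by_cases hne : (Finset.univ.filter fun u : P => f u = n).Nonempty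
    · obtain ⟨u₀, hu₀⟩ := hne
      simp only [Finset.mem_filter, Finset.mem_univ, true_and] at hu₀
      rw [← Fintype.card_coe, ← Nat.card_eq_fintype_card]
      refine Nat.card_le_card_of_injective
        (fun u => (⟨((u : P) : T) * (u₀ : T)⁻¹, ?_⟩ : fixT t)) ?_
      · have h2 : f u.1 = f u₀ := ((Finset.mem_filter.mp u.2).2).trans hu₀.symm
        have h3 : ((u : P) : T)⁻¹ * t (u : P) = (u₀ : T)⁻¹ * t u₀ := congrArg Subtype.val h2
        show t (((u : P) : T) * (u₀ : T)⁻¹) = _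
        rw [map_mul, map_inv]
        calc t (u : P) * (t u₀)⁻¹ = ((u : P) : T) * (((u : P) : T)⁻¹ * t (u : P)) * (t u₀)⁻¹ := by group
          _ = ((u : P) : T) * (u₀ : T)⁻¹ := by rw [h3]; group
      · intro u v h
        exact Subtype.ext (Subtype.ext (mul_right_cancel (congrArg Subtype.val h)))
    · rw [Finset.not_nonempty_iff_eq_empty.mp hne]; simp
  have h := Finset.card_le_mul_card_image_of_maps_to (f := f) (s := (Finset.univ : Finset P))
    (t := (Finset.univ : Finset N)) (fun _ _ => Finset.mem_univ _) (Nat.card (fixT t)) hfib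
  rw [Finset.card_univ, Finset.card_univ, ← Nat.card_eq_fintype_card, ← Nat.card_eq_fintype_card, hP] at h
  have hN : 0 < Nat.card N := Nat.card_pos
  nlinarith

theorem Acts.card_four {ρ t : MulAut T} (h : Acts ρ t) {U : Subgroup T} (hU : ∀ u ∈ U, ρ u ∈ U)
    (hne : U ≠ ⊥) (hle : Nat.card U ≤ 4) : Nat.card U = 4 ∧ ∀ u ∈ U, u * u = 1 := by
  have h1 := h.card_mod U hU
  have h2 : Nat.card U ≠ 1 := fun e => hne (Subgroup.card_eq_one.mp e)
  have hpos : 0 < Nat.card U := Nat.card_pos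
  have h4 : Nat.card U = 4 := by omega
  refine ⟨h4, fun u hu => ?_⟩
  by_cases h1u : u = 1
  · simp [h1u]
  -- `u`, `ρ u`, `ρ² u` are the three nonidentity elements
  haveI : Fact (Nat.Prime 2) := ⟨Nat.prime_two⟩
  obtain ⟨v, hv⟩ := exists_prime_orderOf_dvd_card' (G := U) 2 (by rw [h4]; norm_num)
  have hvo : orderOf (v : T) = 2 := by rw [Subgroup.orderOf_coe, hv]
  have hv1 : (v : T) ≠ 1 := fun e => by rw [e, orderOf_one] at hvo; norm_num at hvo
  have d1 : ρ (v : T) ≠ v := fun e => hv1 (h.fpf e)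
  have d2 : ρ (ρ (v : T)) ≠ ρ v := fun e => d1 (ρ.injective e)
  have d3 : ρ (ρ (v : T)) ≠ v := fun e => d1 (by
    have := congrArg ρ e; rw [h.h3] at this; exact this.symm)
  have hmem : ∀ x ∈ U, x = 1 ∨ x = v ∨ x = ρ (v : T) ∨ x = ρ (ρ (v : T)) := by
    classical
    intro x hx
    haveI := Fintype.ofFinite T
    have hs : ({1, (v : T), ρ (v : T), ρ (ρ (v : T))} : Finset T) ⊆ Finset.univ.filter (· ∈ U) := by
      intro y hy
      simp only [Finset.mem_insert, Finset.mem_singleton] at hy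
      refine Finset.mem_filter.mpr ⟨Finset.mem_univ _, ?_⟩
      rcases hy with rfl | rfl | rfl | rfl
      exacts [one_mem _, v.2, hU _ v.2, hU _ (hU _ v.2)]
    have hc : ({1, (v : T), ρ (v : T), ρ (ρ (v : T))} : Finset T).card = 4 := by
      have n1 : ρ (v : T) ≠ 1 := fun e => hv1 (ρ.injective (e.trans (map_one ρ).symm))
      have n2 : ρ (ρ (v : T)) ≠ 1 := fun e => n1 (ρ.injective (e.trans (map_one ρ).symm))
      rw [Finset.card_insert_of_notMem (by simp only [Finset.mem_insert, Finset.mem_singleton, not_or]; exact ⟨hv1.symm, n1.symm, n2.symm⟩),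
        Finset.card_insert_of_notMem (by simp only [Finset.mem_insert, Finset.mem_singleton, not_or]; exact ⟨d1.symm, d3.symm⟩),
        Finset.card_insert_of_notMem (by simp only [Finset.mem_singleton]; exact d2.symm),
        Finset.card_singleton]
    have heq := Finset.eq_of_subset_of_card_le hs (by
      rw [hc, ← Fintype.card_subtype, ← Nat.card_eq_fintype_card]; exact h4.le)
    have : x ∈ Finset.univ.filter (· ∈ U) := by simp [hx]
    rw [← heq] at this
    simpa using this
  have hv2 : (v : T) * v = 1 := by rw [← pow_two, ← hvo, pow_orderOf_eq_one]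
  rcases hmem u hu with e | e | e | e
  · exact absurd e h1u
  · rw [e, hv2]
  · rw [e, ← map_mul, hv2, map_one]
  · rw [e, ← map_mul, ← map_mul, hv2, map_one, map_one]

theorem Acts.fix_facts {ρ t : MulAut T} (h : Acts ρ t) (hle : Nat.card (fixT t) ≤ 4) [Nontrivial T] :
    Nat.card (fixT t) = 4 ∧ ∀ u ∈ fixT t, u * u = 1 := by
  classical
  refine h.card_four (fun u (hu : t u = u) => show t (ρ u) = ρ u by rw [h.hc, hu]) (fun e => ?_) hle
  haveI : Fact (Nat.Prime 2) := ⟨Nat.prime_two⟩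
  haveI := Fintype.ofFinite T
  let f : Equiv.Perm T := t.toEquiv
  have hord : f ^ 2 ^ 1 = 1 := by ext u; exact h.ht u
  have h1 := Equiv.Perm.card_compl_support_modEq (p := 2) (n := 1) hord
  have h2 : f.supportᶜ = {1} := by
    ext u
    simp only [Finset.mem_compl, Equiv.Perm.mem_support, not_not, Finset.mem_singleton]
    constructor
    · exact fun hu => Subgroup.mem_bot.mp (e ▸ (hu : u ∈ fixT t))
    · rintro rfl; exact map_one t
  rw [h2, Finset.card_singleton] at h1
  obtain ⟨k, hk⟩ := h.two.exists_card_eq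
  have hk0 : 0 < k := by
    rcases Nat.eq_zero_or_pos k with rfl | hk0
    · exact absurd hk (Finite.one_lt_card (α := T)).ne'
    · exact hk0
  have h1' : (1 : ℕ) % 2 = Fintype.card T % 2 := h1
  rw [← Nat.card_eq_fintype_card, hk, Nat.pow_mod] at h1'
  simp [Nat.zero_pow hk0] at h1'

end Fpf

section Abelian

variable {A : Type*} [CommGroup A] [Finite A] {ρ t : MulAut A}

/-- The abelian case. -/
theorem abelian_case (h : Acts ρ t) [Nontrivial A] (hle : Nat.card (fixT t) ≤ 4) :
    (Nat.card A = 16 ∧ (∀ a : A, a * a = 1) ∧ ∃ x : A, t x ≠ x) ∨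
      ∃ (n : ℕ) (x : A), 1 ≤ n ∧ Subgroup.closure ({x, ρ x} : Set A) = ⊤ ∧
        Nonempty (A ≃* Multiplicative (ZMod (2 ^ n)) × Multiplicative (ZMod (2 ^ n))) := by
  classical
  haveI : Fact (Nat.Prime 2) := ⟨Nat.prime_two⟩
  obtain ⟨hF4, hF2⟩ := h.fix_facts hle
  let sq : A →* A := powMonoidHom 2
  set X := sq.ker with hX
  have hXmem : ∀ a, a ∈ X ↔ a * a = 1 := fun a => by
    rw [hX, MonoidHom.mem_ker]; show a ^ 2 = 1 ↔ _; rw [pow_two]
  have hXρ : ∀ a ∈ X, ρ a ∈ X := fun a ha => by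
    rw [hXmem] at ha ⊢; rw [← map_mul, ha, map_one]
  have hXt : ∀ a ∈ X, t a ∈ X := fun a ha => by
    rw [hXmem] at ha ⊢; rw [← map_mul, ha, map_one]
  have hFX : fixT t ≤ X := fun a ha => (hXmem a).mpr (hF2 a ha)
  let δ : X →* A :=
    { toFun := fun a => (a : A) * t a
      map_one' := by simp
      map_mul' := fun a b => by
        show (a : A) * b * t ((a : A) * b) = _
        rw [map_mul, mul_mul_mul_comm] }
  have hker : ∀ a : X, a ∈ δ.ker ↔ t (a : A) = a := fun a => by
    rw [MonoidHom.mem_ker]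
    show (a : A) * t a = 1 ↔ _
    have ha2 := (hXmem _).mp a.2
    constructor
    · intro e
      calc t (a : A) = (a : A) * a * t a := by rw [ha2, one_mul]
        _ = a := by rw [mul_assoc, e, mul_one]
    · intro e; rw [e, ha2]
  have hker4 : Nat.card δ.ker = 4 := by
    rw [← hF4]
    exact Nat.card_congr
      { toFun := fun a => ⟨a.1.1, (hker a.1).mp a.2⟩
        invFun := fun a => ⟨⟨a.1, hFX a.2⟩, (hker _).mpr a.2⟩
        left_inv := fun a => rfl
        right_inv := fun a => rfl }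
  have himg : δ.range ≤ fixT t := by
    rintro _ ⟨a, rfl⟩
    show t ((a : A) * t a) = (a : A) * t a
    rw [map_mul, h.ht, mul_comm]
  have hcardX : Nat.card X = 4 * Nat.card δ.range := by
    rw [← hker4, ← Subgroup.index_ker, Subgroup.card_mul_index]
  by_cases himg0 : δ.range = ⊥
  · -- rank two
    rw [himg0, Subgroup.card_bot, mul_one] at hcardX
    right
    set M := Monoid.exponent A
    obtain ⟨x, hx⟩ := Monoid.exists_orderOf_eq_exponent (G := A) Monoid.ExponentExists.of_finite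
    obtain ⟨n, hn⟩ := IsPGroup.iff_orderOf.mp h.two x
    have hn1 : 1 ≤ n := by
      by_contra h0
      obtain rfl : n = 0 := by omega
      rw [hx, pow_zero] at hn
      obtain ⟨a, ha⟩ := exists_ne (1 : A)
      exact ha (by simpa [hn] using Monoid.pow_exponent_eq_one a)
    refine ⟨n, x, hn1, ?_⟩
    haveI : NeZero (2 ^ n) := ⟨by positivity⟩
    have hall : ∀ a : A, a ^ 2 ^ n = 1 := fun a => by
      rw [← hn, hx]; exact Monoid.pow_exponent_eq_one a
    have hle4 : ∀ k, Nat.card (powMonoidHom (2 ^ k) : A →* A).ker ≤ 4 ^ k := by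
      intro k
      induction k with
      | zero => rw [show (powMonoidHom (2 ^ 0) : A →* A).ker = ⊥ from (Subgroup.eq_bot_iff_forall _).mpr fun a ha => by simpa using ha]; simp
      | succ k ih =>
        let g : (powMonoidHom (2 ^ (k + 1)) : A →* A).ker →* (powMonoidHom (2 ^ k) : A →* A).ker :=
          (sq.comp (powMonoidHom (2 ^ (k + 1)) : A →* A).ker.subtype).codRestrict _ fun a => by
            show ((a : A) ^ 2) ^ 2 ^ k = 1
            rw [← pow_mul, ← pow_succ']; exact a.2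
        have h1 : Nat.card g.ker ≤ 4 := by
          rw [← hcardX]
          exact Nat.card_le_card_of_injective
            (fun a => (⟨a.1.1, congrArg Subtype.val a.2⟩ : X))
            (fun a b e => Subtype.ext (Subtype.ext (congrArg (fun z : X => (z : A)) e)))
        have h2 := Subgroup.card_mul_index g.ker
        rw [Subgroup.index_ker] at h2
        have h3 : Nat.card g.range ≤ 4 ^ k := (Subgroup.card_le_card_group _).trans ih
        rw [pow_succ]
        calc _ = Nat.card g.ker * Nat.card g.range := h2.symm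
          _ ≤ 4 * 4 ^ k := Nat.mul_le_mul h1 h3
          _ = _ := mul_comm _ _
    have hAle : Nat.card A ≤ 4 ^ n := by
      refine le_trans (le_of_eq ?_) (hle4 n)
      rw [show (powMonoidHom (2 ^ n) : A →* A).ker = ⊤ from eq_top_iff.mpr fun a _ => hall a,
        Subgroup.card_top]
    let E : ∀ a : A, Multiplicative (ZMod (2 ^ n)) →* A := fun a =>
      { toFun := fun i => a ^ i.toAdd.val
        map_one' := by simp
        map_mul' := fun i j => by
          rw [toAdd_mul, ZMod.val_add, ← pow_add]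
          exact (pow_eq_pow_mod _ (hall a)).symm }
    let φ : Multiplicative (ZMod (2 ^ n)) × Multiplicative (ZMod (2 ^ n)) →* A :=
      MonoidHom.coprod (E x) (E (ρ x))
    have hinj : Function.Injective φ := by
      by_contra hni
      obtain ⟨v, hv, hv1⟩ : ∃ v, φ v = 1 ∧ v ≠ 1 := by
        rw [injective_iff_map_eq_one] at hni
        push Not at hni
        exact hni
      haveI : Nontrivial φ.ker := (Subgroup.nontrivial_iff_ne_bot _).mpr fun e =>
        hv1 (Subgroup.mem_bot.mp (e ▸ hv))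
      have hp : IsPGroup 2 (Multiplicative (ZMod (2 ^ n)) × Multiplicative (ZMod (2 ^ n))) :=
        IsPGroup.of_card (n := n + n) (by simp [Nat.card_prod, pow_add])
      obtain ⟨k, hk⟩ := (hp.to_subgroup φ.ker).exists_card_eq
      have hk0 : k ≠ 0 := fun e => by
        rw [e, pow_zero] at hk
        exact absurd hk (Finite.one_lt_card (α := φ.ker)).ne'
      obtain ⟨⟨⟨i, j⟩, hij⟩, hw⟩ := exists_prime_orderOf_dvd_card' (G := φ.ker) 2
        (hk ▸ dvd_pow_self 2 hk0)
      rw [← Subgroup.orderOf_coe] at hw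
      have hw2 : ((i, j) : Multiplicative (ZMod (2 ^ n)) × Multiplicative (ZMod (2 ^ n))) ^ 2 = 1 :=
        orderOf_dvd_iff_pow_eq_one.mp hw.dvd
      have hw1 : ¬ (i = 1 ∧ j = 1) := by
        rintro ⟨rfl, rfl⟩
        have hw' : orderOf (1 : Multiplicative (ZMod (2 ^ n)) × Multiplicative (ZMod (2 ^ n))) = 2 := hw
        rw [orderOf_one] at hw'
        norm_num at hw'
      -- an element killed by two has value `0` or `2 ^ (n-1)`
      have hval : ∀ i : Multiplicative (ZMod (2 ^ n)), i ^ 2 = 1 → i ≠ 1 → i.toAdd.val = 2 ^ (n - 1) := by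
        intro i hi hi1
        have h0 : i.toAdd + i.toAdd = 0 := by rw [← toAdd_mul, ← pow_two, hi, toAdd_one]
        have hd : 2 ^ n ∣ i.toAdd.val + i.toAdd.val := by
          have := congrArg ZMod.val h0
          rw [ZMod.val_add, ZMod.val_zero] at this
          exact Nat.dvd_of_mod_eq_zero this
        have hlt := ZMod.val_lt i.toAdd
        have hne : i.toAdd.val ≠ 0 := fun e => hi1 (by
          apply Multiplicative.toAdd.injective
          rw [toAdd_one]; exact (ZMod.val_eq_zero _).mp e)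
        obtain ⟨c, hc⟩ := hd
        have hn' : 2 ^ n = 2 * 2 ^ (n - 1) := by rw [← pow_succ', Nat.sub_add_cancel hn1]
        rcases c with _ | _ | c
        · omega
        · omega
        · exfalso
          have : 2 ^ n * (c + 1 + 1) ≥ 2 ^ n * 2 := Nat.mul_le_mul_left _ (by omega)
          omega
      have hi2 : i ^ 2 = 1 := congrArg Prod.fst hw2
      have hj2 : j ^ 2 = 1 := congrArg Prod.snd hw2
      set z := x ^ 2 ^ (n - 1) with hz
      have hz1 : z ≠ 1 := fun e => by
        have := orderOf_dvd_of_pow_eq_one e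
        rw [hn] at this
        have := (Nat.pow_dvd_pow_iff_le_right (by norm_num)).mp this
        omega
      have e0 : x ^ i.toAdd.val * (ρ x) ^ j.toAdd.val = 1 := hij
      have hρz : (ρ x) ^ 2 ^ (n - 1) = ρ z := (map_pow ρ x _).symm
      by_cases hi1 : i = 1 <;> by_cases hj1 : j = 1
      · exact hw1 ⟨hi1, hj1⟩
      · rw [hi1, hval j hj2 hj1, toAdd_one, ZMod.val_zero, pow_zero, one_mul, hρz] at e0
        exact hz1 (by simpa using e0)
      · rw [hj1, hval i hi2 hi1, toAdd_one, ZMod.val_zero, pow_zero, mul_one] at e0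
        exact hz1 e0
      · rw [hval i hi2 hi1, hval j hj2 hj1, hρz, ← hz] at e0
        have hzz : z * z = 1 := by rw [hz, ← pow_add, ← two_mul, ← pow_succ', Nat.sub_add_cancel hn1, hall]
        exact hz1 (h.fpf ((eq_inv_of_mul_eq_one_right e0).trans (inv_eq_of_mul_eq_one_right hzz)))
    have hbij : Function.Bijective φ := hinj.bijective_of_nat_card_le (by
      simp only [Nat.card_prod, Nat.card_congr Multiplicative.toAdd, Nat.card_zmod, ← mul_pow]
      exact hAle)
    refine ⟨?_, ⟨(MulEquiv.ofBijective φ hbij).symm⟩⟩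
    rw [eq_top_iff]
    intro a _
    obtain ⟨⟨i, j⟩, rfl⟩ := hbij.2 a
    exact mul_mem (pow_mem (Subgroup.subset_closure (by simp)) _) (pow_mem (Subgroup.subset_closure (by simp)) _)
  · -- rank four
    left
    have hρimg : ∀ a ∈ δ.range, ρ a ∈ δ.range := by
      rintro _ ⟨a, rfl⟩
      exact ⟨⟨ρ a, hXρ a a.2⟩, by show ρ (a : A) * t (ρ a) = ρ ((a : A) * t a); rw [map_mul, h.hc]⟩
    obtain ⟨h4, -⟩ := h.card_four hρimg himg0 ((Subgroup.card_le_of_le himg).trans hF4.le)
    have heq : δ.range = fixT t := Subgroup.eq_of_le_of_card_ge himg (by rw [h4, hF4])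
    have h16 : Nat.card X = 16 := by rw [hcardX, h4]
    have hall : ∀ a : A, a * a = 1 := by
      by_contra hcon
      push Not at hcon
      -- some element of order four is inverted by `t`
      obtain ⟨y, hy⟩ := hcon
      obtain ⟨k, hk⟩ := IsPGroup.iff_orderOf.mp h.two y
      have hk2 : 2 ≤ k := by
        by_contra hk'
        apply hy
        have h1 : orderOf y ∣ 2 := by
          rw [hk]
          exact (pow_dvd_pow 2 (by omega : k ≤ 1)).trans (by norm_num)
        rw [← pow_two]; exact orderOf_dvd_iff_pow_eq_one.mp h1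
      set y4 := y ^ 2 ^ (k - 2)
      have hy4 : y4 * y4 ≠ 1 ∧ y4 * y4 * (y4 * y4) = 1 := by
        constructor
        · intro e
          rw [show y4 * y4 = y ^ 2 ^ (k - 2 + 1) from by rw [← pow_add, ← two_mul, ← pow_succ']] at e
          have := orderOf_dvd_of_pow_eq_one e
          rw [hk] at this
          have := (Nat.pow_dvd_pow_iff_le_right (by norm_num)).mp this
          omega
        · rw [← pow_add, ← two_mul, ← pow_succ', ← pow_add, ← two_mul, ← pow_succ',
            show k - 2 + 1 + 1 = k by omega, ← hk, pow_orderOf_eq_one]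
      have hw : y4 * t y4 ∈ δ.range := by
        rw [heq]; show t (y4 * t y4) = y4 * t y4; rw [map_mul, h.ht, mul_comm]
      obtain ⟨⟨x, hxX⟩, hx⟩ := hw
      change x * t x = y4 * t y4 at hx
      set y' := y4 * x with hy'
      have hxx := (hXmem x).mp hxX
      have hinv : y' * t y' = 1 := by
        rw [hy', map_mul, mul_mul_mul_comm, ← hx, mul_mul_mul_comm, hxx, ← map_mul, hxx, map_one,
          one_mul]
      have hy2 : y' * y' = y4 * y4 := by rw [hy', mul_mul_mul_comm, hxx, mul_one]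
      set v := y' * y' with hv
      have hv1 : v ≠ 1 := hy2 ▸ hy4.1
      have hv2 : v * v = 1 := hy2 ▸ hy4.2
      have hvF : v ∈ fixT t := by
        show t v = v
        have e1 : t y' = y'⁻¹ := eq_inv_of_mul_eq_one_right hinv
        rw [hv, map_mul, e1, ← mul_inv]
        exact inv_eq_of_mul_eq_one_right hv2
      rw [← heq] at hvF
      obtain ⟨⟨a, haX⟩, ha⟩ := hvF
      change a * t a = v at ha
      have haa := (hXmem a).mp haX
      have hfix : t (a * y') = a * y' := by
        have e1 : t a = a * v := by rw [← ha, ← mul_assoc, haa, one_mul]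
        have e2 : t y' = y'⁻¹ := eq_inv_of_mul_eq_one_right hinv
        rw [map_mul, e1, e2, hv, mul_assoc, mul_assoc, mul_inv_cancel, mul_one]
      have := hF2 _ hfix
      rw [mul_mul_mul_comm, haa, one_mul] at this
      exact hv1 this
    have hXtop : X = ⊤ := eq_top_iff.mpr fun a _ => (hXmem a).mpr (hall a)
    refine ⟨by rw [← h16, hXtop, Subgroup.card_top], hall, ?_⟩
    by_contra hno
    push Not at hno
    apply himg0
    rw [Subgroup.eq_bot_iff_forall]
    rintro _ ⟨a, rfl⟩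
    show (a : A) * t a = 1
    rw [hno, hall]

end Abelian
section Structure

variable {T : Type*} [Group T] [Finite T]

/-- If the generators commute modulo a central subgroup, all commutators lie in it. -/
theorem comm_le {S : Set T} (hS : Subgroup.closure S = ⊤) {C : Subgroup T} (hC : C ≤ Subgroup.center T)
    (h : ∀ a ∈ S, ∀ b ∈ S, ⁅a, b⁆ ∈ C) : commutator T ≤ C := by
  haveI : C.Normal := ⟨fun n hn g => by
    rw [Subgroup.mem_center_iff.mp (hC hn) g, mul_assoc, mul_inv_cancel, mul_one]; exact hn⟩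
  have key : ∀ y, ∀ a ∈ S, ⁅a, y⁆ ∈ C := fun y a ha => by
    induction (hS ▸ Subgroup.mem_top y : y ∈ Subgroup.closure S) using Subgroup.closure_induction with
    | mem z hz => exact h a ha z hz
    | one => simp [one_mem]
    | mul u v _ _ hu hv =>
      have e : ⁅a, u * v⁆ = ⁅a, u⁆ * (u * ⁅a, v⁆ * u⁻¹) := by simp only [commutatorElement_def]; group
      rw [e]; exact mul_mem hu (Subgroup.Normal.conj_mem inferInstance _ hv u)
    | inv u _ hu =>
      have e : ⁅a, u⁻¹⁆ = u⁻¹ * ⁅a, u⁆⁻¹ * u⁻¹⁻¹ := by simp only [commutatorElement_def]; group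
      rw [e]; exact Subgroup.Normal.conj_mem inferInstance _ (inv_mem hu) u⁻¹
  rw [commutator_def, Subgroup.commutator_le]
  intro x _ y _
  have hall : ∀ x ∈ Subgroup.closure S, ∀ y, ⁅x, y⁆ ∈ C := by
    intro x hx
    induction hx using Subgroup.closure_induction with
    | mem z hz => exact fun y => key y z hz
    | one => exact fun y => by simp [one_mem]
    | mul u v _ _ hu hv =>
      intro y
      have e : ⁅u * v, y⁆ = (u * ⁅v, y⁆ * u⁻¹) * ⁅u, y⁆ := by simp only [commutatorElement_def]; group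
      rw [e]; exact mul_mem (Subgroup.Normal.conj_mem inferInstance _ (hv y) u) (hu y)
    | inv u _ hu =>
      intro y
      have e : ⁅u⁻¹, y⁆ = u⁻¹ * ⁅u, y⁆⁻¹ * u⁻¹⁻¹ := by simp only [commutatorElement_def]; group
      rw [e]; exact Subgroup.Normal.conj_mem inferInstance _ (inv_mem (hu y)) u⁻¹
  exact hall x (hS ▸ Subgroup.mem_top x) y

/-- Generators and relations of the nonabelian groups. -/
structure Data (g₁ g₂ h₁ h₂ c d : T) : Prop where
  card : Nat.card T = 64
  gen : Subgroup.closure ({g₁, g₂, h₁, h₂, c, d} : Set T) = ⊤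
  hc : c ∈ Subgroup.center T
  hd : d ∈ Subgroup.center T
  hc2 : c * c = 1
  hd2 : d * d = 1
  hc1 : c ≠ 1
  hd1 : d ≠ 1
  hcd : c ≠ d
  r12 : ⁅g₁, g₂⁆ = 1
  r34 : ⁅h₁, h₂⁆ = 1
  r13 : ⁅g₁, h₁⁆ = c
  r14 : ⁅g₁, h₂⁆ = d
  r23 : ⁅g₂, h₁⁆ = d
  r24 : ⁅g₂, h₂⁆ = c * d

/-- The class of the data after normalising squares. -/
def Shape (T : Type*) [Group T] : Prop :=
  ∃ g₁ g₂ h₁ h₂ c d : T, Data g₁ g₂ h₁ h₂ c d ∧
    ((g₁ * g₁ = 1 ∧ g₂ * g₂ = 1 ∧ h₁ * h₁ = 1 ∧ h₂ * h₂ = 1) ∨
     (g₁ * g₁ = d ∧ g₂ * g₂ = c ∧ h₁ * h₁ = d ∧ h₂ * h₂ = c) ∨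
     (g₁ * g₁ = c * d ∧ g₂ * g₂ = d ∧ h₁ * h₁ = c * d ∧ h₂ * h₂ = d))

theorem setup {ρ t : MulAut T} (h : Acts ρ t) (hle : Nat.card (fixT t) ≤ 4)
    (hcls : commutator T ≤ Subgroup.center T) (hsq : ∀ g : T, g * g ∈ commutator T)
    (hA : (commutator T).index = 16) (hna : ¬ ∀ a b : T, a * b = b * a)
    (x : T) (hx : x⁻¹ * t x ∉ commutator T) :
    ∃ c d : T, Data x (ρ x) (t x) (ρ (t x)) c d ∧ ρ c = c * d ∧ ρ d = c ∧ t x * t x = x * x ∧
      (x * x = 1 ∨ x * x = c ∨ x * x = d ∨ x * x = c * d) := by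
  classical
  set N := commutator T with hN
  have mem : ∀ a b : T, ⁅a, b⁆ ∈ N := fun a b => by
    rw [hN, commutator_def]; exact Subgroup.commutator_mem_commutator (Subgroup.mem_top a) (Subgroup.mem_top b)
  have cz : ∀ a b w : T, w * ⁅a, b⁆ = ⁅a, b⁆ * w := fun a b w => Subgroup.mem_center_iff.mp (hcls (mem a b)) w
  have bl : ∀ a b u : T, ⁅a * b, u⁆ = ⁅a, u⁆ * ⁅b, u⁆ := fun a b u => by
    have e : ⁅a * b, u⁆ = (a * ⁅b, u⁆ * a⁻¹) * ⁅a, u⁆ := by simp only [commutatorElement_def]; group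
    rw [e, cz b u a, mul_assoc ⁅b, u⁆ a a⁻¹, mul_inv_cancel, mul_one, cz a u]
  have br : ∀ u a b : T, ⁅u, a * b⁆ = ⁅u, a⁆ * ⁅u, b⁆ := fun u a b => by
    have e : ⁅u, a * b⁆ = ⁅u, a⁆ * (a * ⁅u, b⁆ * a⁻¹) := by simp only [commutatorElement_def]; group
    rw [e, cz u b a, mul_assoc ⁅u, b⁆ a a⁻¹, mul_inv_cancel, mul_one]
  have sq1 : ∀ a b : T, ⁅a, b⁆ * ⁅a, b⁆ = 1 := fun a b => by
    rw [← bl, commutatorElement_eq_one_iff_mul_comm]
    exact (Subgroup.mem_center_iff.mp (hcls (hsq a)) b).symm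
  have sym : ∀ a b : T, ⁅b, a⁆ = ⁅a, b⁆ := fun a b => by
    rw [← commutatorElement_inv a b]; exact inv_eq_of_mul_eq_one_right (sq1 a b)
  have nrm3 : ∀ g, ρ (ρ g) = (g * ρ g)⁻¹ := fun g => eq_inv_of_mul_eq_one_right (h.nrm g)
  set y := t x with hy
  set c := ⁅x, y⁆ with hc
  set d := ⁅x, ρ y⁆ with hd
  set e := ⁅ρ x, y⁆ with he
  have hmap : ∀ (f : MulAut T) a b, f ⁅a, b⁆ = ⁅f a, f b⁆ := fun f a b => map_commutatorElement f a b
  have e1 : e = ρ c * ρ d := by
    rw [he]
    have e' : y = ρ (ρ (ρ y)) := (h.h3 y).symm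
    conv_lhs => rw [e', ← hmap ρ x (ρ (ρ y)), nrm3 y]
    have e2 : ⁅x, (y * ρ y)⁻¹⁆ = c * d := by
      have h1 : ⁅x, (y * ρ y)⁻¹⁆ * ⁅x, y * ρ y⁆ = 1 := by
        rw [← br, inv_mul_cancel, commutatorElement_one_right]
      rw [br, ← hc, ← hd] at h1
      have h2 : (c * d) * (c * d) = 1 := by rw [← br x y (ρ y)] at *; exact sq1 _ _
      exact mul_right_cancel (h1.trans h2.symm)
    rw [e2, map_mul]
  have tc : t c = c := by rw [hc, hmap, hy, h.ht, sym]
  have td : t d = e := by rw [hd, hmap, h.hc, hy, h.ht, sym]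
  have nrmc : ρ c * ρ (ρ c) = c := by
    have h1 := h.nrm c
    rw [mul_assoc] at h1
    exact ((inv_eq_of_mul_eq_one_right h1).symm).trans (inv_eq_of_mul_eq_one_right (sq1 x y))
  have hd' : ρ c * ρ (ρ c) * ρ (ρ d) = d := by
    have h1 : t (t d) = d := h.ht d
    rw [td, e1, map_mul, h.hc, h.hc, tc, td, e1, map_mul, ← mul_assoc] at h1
    exact h1
  rw [nrmc] at hd'
  have rd : ρ d = c := by
    have h3 : ρ (ρ d) = c * d := by
      calc ρ (ρ d) = c * (c * ρ (ρ d)) := by rw [← mul_assoc, sq1, one_mul]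
        _ = c * d := by rw [hd']
    have h2 := h.nrm d
    rw [h3] at h2
    have h4 : d * ρ d * c * d = 1 := by rw [← h2]; group
    have hd2 : d * d = 1 := sq1 _ _
    have hc2 : c * c = 1 := sq1 _ _
    have h5 : d * ρ d * c = d := by
      rw [eq_inv_of_mul_eq_one_left h4]; exact inv_eq_of_mul_eq_one_right hd2
    have h6 : ρ d * c = 1 := mul_eq_left.mp (by rw [← mul_assoc]; exact h5)
    rw [eq_inv_of_mul_eq_one_left h6]; exact inv_eq_of_mul_eq_one_right hc2
  have rc : ρ c = c * d := by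
    have h3 : ρ (ρ d) = c * d := by
      calc ρ (ρ d) = c * (c * ρ (ρ d)) := by rw [← mul_assoc, sq1, one_mul]
        _ = c * d := by rw [hd']
    rw [rd] at h3; exact h3
  have ed : e = d := by
    rw [e1, rd, rc, mul_assoc, show d * c = c * d from cz x y d, ← mul_assoc, sq1, one_mul]
  have r24 : ⁅ρ x, ρ y⁆ = c * d := by rw [← hmap, ← hc, rc]
  have r12 : ⁅x, ρ x⁆ = 1 := commutatorElement_eq_one_iff_mul_comm.mpr (h.comm x)
  have r34 : ⁅y, ρ y⁆ = 1 := commutatorElement_eq_one_iff_mul_comm.mpr (h.comm y)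
  -- generation
  haveI : Group.IsNilpotent T := by
    haveI : Fact (Nat.Prime 2) := ⟨Nat.prime_two⟩
    exact h.two.isNilpotent
  have hgen : Subgroup.closure ({x, ρ x, y, ρ y} : Set T) = ⊤ := by
    refine frattini_nongenerating (top_le_iff.mp (le_trans ?_ (sup_le_sup_left Cores.commutator_le_frattini _)))
    set L := Subgroup.closure ({x, ρ x, y, ρ y} : Set T) ⊔ commutator T with hL
    have hNL : N ≤ L := le_sup_right
    haveI : L.Normal := ⟨fun m hm g => by
      have e : g * m * g⁻¹ = ⁅g, m⁆ * m := by rw [commutatorElement_def]; group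
      rw [e]; exact mul_mem (hNL (mem g m)) hm⟩
    have hmemL : ∀ v ∈ ({x, ρ x, y, ρ y} : Set T), v ∈ L := fun v hv =>
      Subgroup.mem_sup_left (Subgroup.subset_closure hv)
    have hρN : ∀ v ∈ N, ρ v ∈ N := fun v hv => by
      have h1 : N.map (ρ : T ≃* T).toMonoidHom = N := Subgroup.characteristic_iff_map_eq.mp inferInstance ρ
      rw [← h1]; exact Subgroup.mem_map_of_mem _ hv
    have hρL : ∀ v ∈ L, ρ v ∈ L := by
      intro v hv
      have : L ≤ L.comap (ρ : T ≃* T).toMonoidHom := by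
        refine sup_le ((Subgroup.closure_le _).mpr ?_) (fun w hw => hNL (hρN w hw))
        rintro w (rfl | rfl | rfl | rfl)
        · exact hmemL _ (by simp)
        · show ρ (ρ x) ∈ L; rw [nrm3]; exact inv_mem (mul_mem (hmemL _ (by simp)) (hmemL _ (by simp)))
        · exact hmemL _ (by simp)
        · show ρ (ρ y) ∈ L; rw [nrm3]; exact inv_mem (mul_mem (hmemL _ (by simp)) (hmemL _ (by simp)))
      exact this hv
    -- five classes modulo the commutator subgroup
    let S := L.map (QuotientGroup.mk' N)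
    have hAq := h.quotient (N := N) (Subgroup.characteristic_iff_map_eq.mp inferInstance ρ)
      (Subgroup.characteristic_iff_map_eq.mp inferInstance t)
    set ρ' := (QuotientGroup.congr N N ρ (Subgroup.characteristic_iff_map_eq.mp inferInstance ρ) : MulAut (T ⧸ N))
    have hρ' : ∀ v, ρ' (QuotientGroup.mk v) = QuotientGroup.mk (ρ v) := fun v => rfl
    set t' := (QuotientGroup.congr N N t (Subgroup.characteristic_iff_map_eq.mp inferInstance t) : MulAut (T ⧸ N))
    have ht' : ∀ v, t' (QuotientGroup.mk v) = QuotientGroup.mk (t v) := fun v => rfl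
    set u : T ⧸ N := QuotientGroup.mk x with hu
    have htu : t' u ≠ u := fun e => hx (QuotientGroup.eq.mp e.symm)
    have hu1 : u ≠ 1 := fun e => htu (by rw [e, map_one])
    have d1 : ρ' u ≠ u := fun e => hu1 (hAq.fpf e)
    have d2 : ρ' (ρ' u) ≠ ρ' u := fun e => d1 (ρ'.injective e)
    have d3 : ρ' (ρ' u) ≠ u := fun e => d1 (by
      have := congrArg ρ' e; rw [hAq.h3] at this; exact this.symm)
    have n1 : ρ' u ≠ 1 := fun e => hu1 (ρ'.injective (e.trans (map_one ρ').symm))
    have n2 : ρ' (ρ' u) ≠ 1 := fun e => n1 (ρ'.injective (e.trans (map_one ρ').symm))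
    have n3 : t' u ≠ 1 := fun e => hu1 (t'.injective (e.trans (map_one t').symm))
    have n4 : t' u ≠ ρ' u := fun e => d3 (by
      have h1 := congrArg t' e
      rw [hAq.ht, hAq.hc, e] at h1
      exact h1.symm)
    have n5 : t' u ≠ ρ' (ρ' u) := fun e => d1 (by
      have h1 := congrArg t' e
      rw [hAq.ht, hAq.hc, hAq.hc, e, hAq.h3] at h1
      exact h1.symm)
    have hSmem : ∀ v ∈ L, (QuotientGroup.mk v : T ⧸ N) ∈ S := fun v hv => Subgroup.mem_map_of_mem _ hv
    haveI := Fintype.ofFinite (T ⧸ N)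
    have h5 : 5 ≤ Nat.card S := by
      have hsub : ({1, u, ρ' u, ρ' (ρ' u), t' u} : Finset (T ⧸ N)) ⊆ Finset.univ.filter (· ∈ S) := by
        intro v hv
        simp only [Finset.mem_insert, Finset.mem_singleton] at hv
        refine Finset.mem_filter.mpr ⟨Finset.mem_univ _, ?_⟩
        rcases hv with rfl | rfl | rfl | rfl | rfl
        · exact one_mem _
        · exact hSmem x (hmemL _ (by simp))
        · exact hSmem (ρ x) (hmemL _ (by simp))
        · exact hSmem (ρ (ρ x)) (hρL _ (hmemL _ (by simp)))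
        · exact hSmem y (hmemL _ (by simp))
      have hc5 : ({1, u, ρ' u, ρ' (ρ' u), t' u} : Finset (T ⧸ N)).card = 5 := by
        rw [Finset.card_insert_of_notMem (by simp only [Finset.mem_insert, Finset.mem_singleton, not_or]; exact ⟨hu1.symm, n1.symm, n2.symm, n3.symm⟩),
          Finset.card_insert_of_notMem (by simp only [Finset.mem_insert, Finset.mem_singleton, not_or]; exact ⟨d1.symm, d3.symm, htu.symm⟩),
          Finset.card_insert_of_notMem (by simp only [Finset.mem_insert, Finset.mem_singleton, not_or]; exact ⟨d2.symm, n4.symm⟩),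
          Finset.card_insert_of_notMem (by simp only [Finset.mem_singleton]; exact n5.symm),
          Finset.card_singleton]
      calc 5 = _ := hc5.symm
        _ ≤ _ := Finset.card_le_card hsub
        _ = Nat.card S := by rw [← Fintype.card_subtype, ← Nat.card_eq_fintype_card]
    have hS16 : Nat.card S = 16 := by
      have hd16 : Nat.card S ∣ 2 ^ 4 := by
        rw [show (2 : ℕ) ^ 4 = 16 from rfl, ← hA, Subgroup.index_eq_card]
        exact Subgroup.card_subgroup_dvd_card S
      have hm := hAq.card_mod S (by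
        rintro _ ⟨v, hv, rfl⟩
        exact hSmem (ρ v) (hρL v hv))
      obtain ⟨k, hk, hk'⟩ := (Nat.dvd_prime_pow Nat.prime_two).mp hd16
      rw [hk'] at hm h5
      interval_cases k <;> omega
    have hStop : S = ⊤ := Subgroup.eq_top_of_card_eq _ (by rw [hS16, ← hA, Subgroup.index_eq_card])
    intro v _
    have h1 : v ∈ S.comap (QuotientGroup.mk' N) := by rw [hStop]; trivial
    rw [Subgroup.comap_map_eq, QuotientGroup.ker_mk', sup_eq_left.mpr hNL] at h1
    exact h1
  -- the commutator subgroup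
  set C := Subgroup.closure ({c, d} : Set T) with hCdef
  have hcC : c ∈ C := Subgroup.subset_closure (by simp)
  have hdC : d ∈ C := Subgroup.subset_closure (by simp)
  have hNC : N ≤ C := by
    refine comm_le hgen ((Subgroup.closure_le _).mpr ?_) ?_
    · rintro v (rfl | rfl) <;> exact hcls (mem _ _)
    · rintro a (rfl | rfl | rfl | rfl) b (rfl | rfl | rfl | rfl)
      · simp [one_mem]
      · rw [r12]; exact one_mem _
      · exact hcC
      · exact hdC
      · rw [sym, r12]; exact one_mem _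
      · simp [one_mem]
      · rw [← he, ed]; exact hdC
      · rw [r24]; exact mul_mem hcC hdC
      · rw [sym]; exact hcC
      · rw [sym, ← he, ed]; exact hdC
      · simp [one_mem]
      · rw [r34]; exact one_mem _
      · rw [sym]; exact hdC
      · rw [sym, r24]; exact mul_mem hcC hdC
      · rw [sym, r34]; exact one_mem _
      · simp [one_mem]
  have hCfix : C ≤ fixT t := by
    rw [hCdef, Subgroup.closure_le]
    rintro v (rfl | rfl)
    · exact tc
    · show t d = d; rw [td, ed]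
  have hc1 : c ≠ 1 := fun h1 => hna fun a b => by
    have hd0 : d = 1 := ρ.injective (by rw [rd, h1, map_one])
    have hC1 : C = ⊥ := by rw [hCdef, h1, hd0]; simp
    rw [← commutatorElement_eq_one_iff_mul_comm, ← Subgroup.mem_bot, ← hC1]
    exact hNC (mem a b)
  have hd1 : d ≠ 1 := fun h1 => hc1 (by rw [← rd, h1, map_one])
  have hcd : c ≠ d := fun h1 => hc1 (h.fpf (by rw [← h1] at rd; exact rd))
  have hρC : ∀ v ∈ C, ρ v ∈ C := fun v hv => by
    have : C ≤ C.comap (ρ : T ≃* T).toMonoidHom := (Subgroup.closure_le _).mpr (by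
      rintro w (rfl | rfl)
      · show ρ c ∈ C; rw [rc]; exact mul_mem hcC hdC
      · show ρ d ∈ C; rw [rd]; exact hcC)
    exact this hv
  have hC4 : Nat.card C = 4 := (h.card_four hρC (fun e0 => hc1 (Subgroup.mem_bot.mp (e0 ▸ hcC)))
    ((Subgroup.card_le_of_le hCfix).trans hle)).1
  have hNeq : N = C := le_antisymm hNC ((Subgroup.closure_le _).mpr (by rintro v (rfl | rfl) <;> exact mem _ _))
  have hcard : Nat.card T = 64 := by
    rw [← Subgroup.card_mul_index N, hA, hNeq, hC4]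
  have hCmem : ∀ v ∈ C, v = 1 ∨ v = c ∨ v = d ∨ v = c * d := by
    intro v hv
    have hS : C ≤ Subgroup.closure ({c, d} : Set T) := le_rfl
    haveI := Fintype.ofFinite C
    let s : Finset C := {1, ⟨c, hcC⟩, ⟨d, hdC⟩, ⟨c * d, mul_mem hcC hdC⟩}
    have hs : s.card = 4 := by
      have q1 : c * d ≠ 1 := fun e0 => hcd (by rw [← mul_left_inj d, e0]; exact (sq1 _ _).symm)
      have q2 : c * d ≠ c := fun e0 => hd1 (mul_eq_left.mp e0)
      have q3 : c * d ≠ d := fun e0 => hc1 (mul_eq_right.mp e0)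
      simp [s, Finset.card_insert_of_notMem, Subtype.ext_iff, hc1.symm, hd1.symm, hcd, q1.symm, q2.symm, q3.symm]
    have := Finset.eq_univ_of_card s (by rw [hs, ← Nat.card_eq_fintype_card, hC4])
    have hm := this ▸ Finset.mem_univ (⟨v, hv⟩ : C)
    simpa [s, Subtype.ext_iff] using hm
  have hgen6 : Subgroup.closure ({x, ρ x, y, ρ y, c, d} : Set T) = ⊤ := by
    rw [eq_top_iff, ← hgen]
    refine Subgroup.closure_mono ?_
    rintro v (rfl | rfl | rfl | rfl) <;> simp
  refine ⟨c, d, ⟨hcard, hgen6, hcls (mem _ _), hcls (mem _ _), sq1 _ _, sq1 _ _, hc1, hd1, hcd, r12, r34,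
    rfl, rfl, he.symm.trans ed, r24⟩, rc, rd, ?_, hCmem _ (hNC (hsq x))⟩
  rw [hy, ← map_mul]
  exact hCfix (hNC (hsq x))

theorem core {ρ t : MulAut T} (h : Acts ρ t) (hle : Nat.card (fixT t) ≤ 4) [Nontrivial T] :
    (Nat.card T = 16 ∧ ∀ a : T, a * a = 1) ∨
    (∃ n : ℕ, 1 ≤ n ∧ Nonempty (T ≃* Multiplicative (ZMod (2 ^ n)) × Multiplicative (ZMod (2 ^ n)))) ∨
    Shape T := by
  classical
  haveI : Fact (Nat.Prime 2) := ⟨Nat.prime_two⟩
  haveI : Group.IsNilpotent T := h.two.isNilpotent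
  by_cases hab : ∀ a b : T, a * b = b * a
  · letI : CommGroup T := { (inferInstance : Group T) with mul_comm := hab }
    rcases abelian_case (A := T) h hle with ⟨h1, h2, -⟩ | ⟨n, x, hn, -, hiso⟩
    · exact Or.inl ⟨h1, h2⟩
    · exact Or.inr (Or.inl ⟨n, hn, hiso⟩)
  refine Or.inr (Or.inr ?_)
  set N := commutator T with hN
  have hcls : N ≤ Subgroup.center T := by
    have h2 := PGroups.FpfThree.commutator_mem_center' (ρ : T ≃* T) h.nrm
      (fun M _ q hq => three_torsion (h.two.to_quotient M) hq)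
    rw [← Subgroup.lowerCentralSeries_eq_bot_iff_nilpotencyClass_le] at h2
    rw [hN, commutator_def, Subgroup.commutator_le]
    intro a _ b _
    rw [Subgroup.mem_center_iff]
    intro c
    refine (commutatorElement_eq_one_iff_mul_comm.mp ?_).symm
    rw [← Subgroup.mem_bot, ← h2]
    exact Subgroup.commutator_mem_commutator
      (Subgroup.commutator_mem_commutator (Subgroup.mem_top a) (Subgroup.mem_top b)) (Subgroup.mem_top c)
  have hρN : N.map (ρ : T ≃* T).toMonoidHom = N := Subgroup.characteristic_iff_map_eq.mp inferInstance ρ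
  have htN : N.map (t : T ≃* T).toMonoidHom = N := Subgroup.characteristic_iff_map_eq.mp inferInstance t
  haveI hnt : Nontrivial (T ⧸ N) := by
    refine QuotientGroup.nontrivial_iff.mpr fun hNt => hab fun a b => ?_
    exact (Subgroup.mem_center_iff.mp (hcls (hNt ▸ Subgroup.mem_top b)) a)
  letI : CommGroup (T ⧸ N) :=
    { (inferInstance : Group (T ⧸ N)) with
      mul_comm := fun a b => by
        obtain ⟨a, rfl⟩ := QuotientGroup.mk_surjective a
        obtain ⟨b, rfl⟩ := QuotientGroup.mk_surjective b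
        show ((a * b : T) : T ⧸ N) = ((b * a : T) : T ⧸ N)
        rw [QuotientGroup.eq]
        have e : (a * b)⁻¹ * (b * a) = ⁅b⁻¹, a⁻¹⁆ := by simp only [commutatorElement_def]; group
        rw [e, hN, commutator_def]
        exact Subgroup.commutator_mem_commutator (Subgroup.mem_top _) (Subgroup.mem_top _) }
  have hq := h.quotient (N := N) hρN htN
  rcases abelian_case hq ((card_fix_quotient t h.ht N htN).trans hle) with ⟨h16, hexp, u, hu⟩ | ⟨n, u, -, hgen, -⟩
  swap
  · exfalso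
    obtain ⟨x, rfl⟩ := QuotientGroup.mk_surjective u
    apply hab
    have htop : Subgroup.closure ({x, ρ x} : Set T) = ⊤ := by
      refine frattini_nongenerating (top_le_iff.mp (le_trans ?_ (sup_le_sup_left Cores.commutator_le_frattini _)))
      intro v _
      have h1 : (QuotientGroup.mk v : T ⧸ N) ∈ (Subgroup.closure ({x, ρ x} : Set T)).map (QuotientGroup.mk' N) := by
        rw [MonoidHom.map_closure, Set.image_insert_eq, Set.image_singleton]
        exact (hgen.ge : _) (Subgroup.mem_top _)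
      have h2 : v ∈ ((Subgroup.closure ({x, ρ x} : Set T)).map (QuotientGroup.mk' N)).comap (QuotientGroup.mk' N) := h1
      rwa [Subgroup.comap_map_eq, QuotientGroup.ker_mk'] at h2
    have hc := Subgroup.isMulCommutative_closure (k := ({x, ρ x} : Set T)) (by
      rintro a (ha | ha) b (hb | hb) <;> rw [ha, hb]
      · exact (h.comm x).eq
      · exact (h.comm x).eq.symm)
    intro a b
    exact congrArg Subtype.val (hc.is_comm.comm ⟨a, htop ▸ Subgroup.mem_top a⟩ ⟨b, htop ▸ Subgroup.mem_top b⟩)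
  obtain ⟨x, rfl⟩ := QuotientGroup.mk_surjective u
  have hsq : ∀ g : T, g * g ∈ commutator T := fun g =>
    (QuotientGroup.eq_one_iff _).mp (hexp (QuotientGroup.mk g))
  have hA : (commutator T).index = 16 := by rw [Subgroup.index_eq_card]; exact h16
  have hx : x⁻¹ * t x ∉ commutator T := fun hm => hu (QuotientGroup.eq.mpr hm).symm
  obtain ⟨c, d, hD, rc, rd, hy2, hcases⟩ := setup h hle hcls hsq hA hab x hx
  have hfin : ∀ z : T, t z * t z = z * z → ρ z * ρ z = ρ (z * z) ∧ ρ (t z) * ρ (t z) = ρ (z * z) :=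
    fun z hz => ⟨(map_mul ρ z z).symm, by rw [← map_mul, hz]⟩
  rcases hcases with hx2 | hx2 | hx2 | hx2
  · refine ⟨_, _, _, _, _, _, hD, Or.inl ?_⟩
    obtain ⟨a1, a2⟩ := hfin x hy2
    exact ⟨hx2, by rw [a1, hx2, map_one], by rw [hy2, hx2], by rw [a2, hx2, map_one]⟩
  · -- change the generator
    set x' := ρ x * ρ (ρ (t x)) with hx'
    have hx'2 : x' * x' = 1 := by
      have cz : ∀ a b w : T, w * ⁅a, b⁆ = ⁅a, b⁆ * w := fun a b w => Subgroup.mem_center_iff.mp (hcls (by
        rw [hN, commutator_def]; exact Subgroup.commutator_mem_commutator (Subgroup.mem_top a) (Subgroup.mem_top b))) w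
      set a := ρ x
      set b := ρ (ρ (t x))
      have e : (a * b) * (a * b) = (a * ⁅b, a⁆ * a⁻¹) * (a * a * (b * b)) := by
        simp only [commutatorElement_def]; group
      have hcc : (⁅b, a⁆ : T) = c := by
        have h1 : (⁅a, b⁆ : T) = c := by
          rw [show (⁅a, b⁆ : T) = ρ ⁅x, ρ (t x)⁆ from (map_commutatorElement ρ x (ρ (t x))).symm, hD.r14, rd]
        rw [← commutatorElement_inv, h1]; exact inv_eq_of_mul_eq_one_right hD.hc2
      have ha : a * a = ρ c := by rw [← map_mul, hx2]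
      have hb : b * b = ρ (ρ c) := by rw [← map_mul, ← map_mul, hy2, hx2]
      rw [hx', e, cz b a a, mul_assoc ⁅b, a⁆ a a⁻¹, mul_inv_cancel, mul_one, hcc, ha, hb, rc, map_mul, rc, rd]
      have q1 : d * c = c * d := Subgroup.mem_center_iff.mp hD.hc d
      calc c * (c * d * (c * d * c)) = c * c * (d * c) * d * c := by group
        _ = c * (d * d) * c := by rw [hD.hc2, one_mul, q1]; group
        _ = 1 := by rw [hD.hd2, mul_one, hD.hc2]
    have hx'n : x'⁻¹ * t x' ∉ commutator T := fun hm => hx (by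
      have hm' : (QuotientGroup.mk x' : T ⧸ N) = QuotientGroup.mk (t x') := QuotientGroup.eq.mpr hm
      set ρ' := (QuotientGroup.congr N N ρ hρN : MulAut (T ⧸ N)) with hρ'
      have e1 : t x' = ρ (t x) * ρ (ρ x) := by rw [hx', map_mul, h.hc, h.hc, h.hc, h.ht]
      set p : T ⧸ N := QuotientGroup.mk x
      set r : T ⧸ N := QuotientGroup.mk (t x)
      have e2 : ρ' p * ρ' (ρ' r) = ρ' r * ρ' (ρ' p) := by
        rw [e1] at hm'
        exact hm'
      rw [← map_mul, ← map_mul] at e2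
      have e3 := ρ'.injective e2
      have hfix : ρ' (p * r) = p * r := by
        rw [map_mul]
        calc ρ' p * ρ' r = ρ' p * (p * p) * ρ' r := by rw [hexp, mul_one]
          _ = (p * ρ' r) * (ρ' p * p) := by ac_rfl
          _ = (r * ρ' p) * (ρ' p * p) := by rw [e3]
          _ = (p * r) * (ρ' p * ρ' p) := by ac_rfl
          _ = _ := by rw [hexp, mul_one]
      have hpr := hq.fpf hfix
      refine QuotientGroup.eq.mp (show p = r from ?_)
      exact (mul_left_cancel ((hexp p).trans hpr.symm)))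
    obtain ⟨c', d', hD', -, -, hy2', -⟩ := setup h hle hcls hsq hA hab x' hx'n
    refine ⟨_, _, _, _, _, _, hD', Or.inl ?_⟩
    obtain ⟨a1, a2⟩ := hfin x' hy2'
    exact ⟨hx'2, by rw [a1, hx'2, map_one], by rw [hy2', hx'2], by rw [a2, hx'2, map_one]⟩
  · refine ⟨_, _, _, _, _, _, hD, Or.inr (Or.inl ?_)⟩
    obtain ⟨a1, a2⟩ := hfin x hy2
    exact ⟨hx2, by rw [a1, hx2, rd], by rw [hy2, hx2], by rw [a2, hx2, rd]⟩
  · refine ⟨_, _, _, _, _, _, hD, Or.inr (Or.inr ?_)⟩
    obtain ⟨a1, a2⟩ := hfin x hy2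
    have hρcd : ρ (c * d) = d := by
      rw [map_mul, rc, rd, mul_assoc, Subgroup.mem_center_iff.mp hD.hc d, ← mul_assoc, hD.hc2, one_mul]
    exact ⟨hx2, by rw [a1, hx2, hρcd], by rw [hy2, hx2], by rw [a2, hx2, hρcd]⟩

end Structure

section Models

open Cfsg.Agent.S1248

theorem exists_theta {F : Type*} [Field F] [Fintype F] (hF : Fintype.card F = 16) :
    ∃ u K : F, u ^ 5 = 1 ∧ u ^ 4 + u = K ∧ K * K = K + 1 := by
  classical
  haveI : Fact (Nat.Prime 5) := ⟨by norm_num⟩
  obtain ⟨v, hv⟩ := exists_prime_orderOf_dvd_card' (G := Fˣ) 5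
    (by rw [Nat.card_units, Nat.card_eq_fintype_card, hF]; norm_num)
  set u : F := (v : F) with hu
  have h5 : u ^ 5 = 1 := by
    rw [hu, ← Units.val_pow_eq_pow_val, ← hv, pow_orderOf_eq_one]; rfl
  have hu1 : u ≠ 1 := fun e => by
    rw [show v = 1 from Units.ext e, orderOf_one] at hv; norm_num at hv
  refine ⟨u, u ^ 4 + u, h5, rfl, ?_⟩
  have h4 : (u - 1) * (u ^ 4 + u ^ 3 + u ^ 2 + u + 1) = 0 := by linear_combination h5
  have h6 := (mul_eq_zero.mp h4).resolve_left (sub_ne_zero.mpr hu1)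
  linear_combination h6 + (u ^ 3 + 2) * h5 + (- u ^ 4 - u) * two_eq_zero hF

theorem model_PSU {T : Type*} [Group T] [Finite T] {g₁ g₂ h₁ h₂ c d : T} (hD : Data g₁ g₂ h₁ h₂ c d)
    {F : Type*} [Field F] [Fintype F] (hF : Fintype.card F = 16) (θ u K : F)
    (hu : u ^ 5 = 1) (hK : u ^ 4 + u = K) (hθ : θ * θ = θ + 1)
    (hsq : (θ * K = 1 ∧ θ ^ 5 = K ∧ g₁ * g₁ = d ∧ g₂ * g₂ = c ∧ h₁ * h₁ = d ∧ h₂ * h₂ = c) ∨
      (K + θ * K = 1 ∧ θ ^ 5 = θ * K ∧ g₁ * g₁ = c * d ∧ g₂ * g₂ = d ∧ h₁ * h₁ = c * d ∧ h₂ * h₂ = d))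
    (S : Sylow 2 (Cfsg.PSU 3 F 4)) : Nonempty (T ≃* ↥(S : Subgroup (Cfsg.PSU 3 F 4))) := by
  classical
  obtain ⟨W, e, he, hm⟩ := exists_model hF
  haveI : Finite (Cfsg.PSU 3 F 4) := Quotient.finite _
  have hW : Nat.card W = 64 := (Nat.card_congr (Equiv.ofBijective e he)).trans (card_UT hF)
  have h2 := two_eq_zero hF
  have hθ4 : θ ^ 4 = θ := by linear_combination (θ ^ 2 + θ + 2) * hθ + (θ + 1) * h2
  have hθ0 : θ ≠ 0 := fun e0 => by rw [e0] at hθ; simp at hθ
  have hθ1 : θ ≠ 1 := fun e0 => by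
    rw [e0] at hθ
    exact one_ne_zero (α := F) (by linear_combination -hθ)
  obtain ⟨hK4, htr, -⟩ := trace_facts hF
  -- elements with prescribed first coordinate
  have mk : ∀ a : F, ∃ g : W, (e g).a = a := fun a => by
    obtain ⟨b, hb⟩ := htr (a ^ 5) (by
      rw [← pow_mul, show 5 * 4 = 16 + 4 by norm_num, pow_add, pow_sixteen hF]; ring)
    obtain ⟨g, hg⟩ := he.2 ⟨a, b, hb⟩
    exact ⟨g, by rw [hg]⟩
  -- central elements
  have mkz : ∀ b : F, b ^ 4 = b → ∃ g : W, (e g).a = 0 ∧ (e g).b = b := fun b hb => by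
    obtain ⟨g, hg⟩ := he.2 ⟨0, b, by rw [hb]; linear_combination b * h2⟩
    exact ⟨g, by rw [hg], by rw [hg]⟩
  have eext : ∀ g g' : W, (e g).a = (e g').a → (e g).b = (e g').b → g = g' := fun g g' h1 h3 =>
    he.1 (UT.ext h1 h3)
  have hone : (e 1).a = 0 ∧ (e 1).b = 0 := by
    have h1 := hm 1 1
    rw [mul_one] at h1
    have ha : (e (1 : W)).a = 0 := left_eq_add.mp h1.1
    refine ⟨ha, ?_⟩
    have hb := h1.2
    rw [ha] at hb
    linear_combination -hb
  have hcen : ∀ g : W, (e g).a = 0 → g ∈ Subgroup.center W := fun g hg => Subgroup.mem_center_iff.mpr fun w =>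
    eext _ _ (by rw [(hm _ _).1, (hm _ _).1, add_comm]) (by rw [(hm _ _).2, (hm _ _).2, hg]; ring)
  have hK44 : K ^ 4 = K := by
    rw [← hK, add_pow_four hF, ← pow_mul, show 4 * 4 = 16 from rfl, pow_sixteen hF, add_comm]
  have hθK : (θ * K) ^ 4 = θ * K := by rw [mul_pow, hθ4, hK44]
  obtain ⟨A₁, hA₁⟩ := mk 1
  obtain ⟨A₂, hA₂⟩ := mk θ
  obtain ⟨B₁, hB₁⟩ := mk u
  obtain ⟨B₂, hB₂⟩ := mk (θ * u)
  obtain ⟨C, hCa, hCb⟩ := mkz K hK44
  obtain ⟨D, hDa, hDb⟩ := mkz (θ * K) hθK
  have sqW : ∀ g : W, (e (g * g)).a = 0 ∧ (e (g * g)).b = (e g).a ^ 5 := fun g => by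
    rw [(hm _ _).1, (hm _ _).2]
    exact ⟨by linear_combination (e g).a * h2, by linear_combination (e g).b * h2⟩
  have hCD : (e (C * D)).a = 0 ∧ (e (C * D)).b = K + θ * K := by
    rw [(hm _ _).1, (hm _ _).2, hCa, hDa, hCb, hDb]; exact ⟨add_zero 0, by ring⟩
  have hC2 : C * C = 1 := eext _ _ (by rw [(sqW C).1, hone.1]) (by rw [(sqW C).2, hCa, hone.2]; ring)
  have hD2 : D * D = 1 := eext _ _ (by rw [(sqW D).1, hone.1]) (by rw [(sqW D).2, hDa, hone.2]; ring)
  -- commutation
  have rel : ∀ (g g' z : W), (e z).a = 0 →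
      (e z).b = (e g).a * (e g').a ^ 4 + (e g').a * (e g).a ^ 4 → ⁅g, g'⁆ = z := by
    intro g g' z hza hzb
    have h1 : g * g' = z * (g' * g) := by
      refine eext _ _ ?_ ?_
      · rw [(hm z (g' * g)).1, (hm g g').1, (hm g' g).1, hza]; ring
      · rw [(hm z (g' * g)).2, (hm g g').2, (hm g' g).2, hza, hzb]
        linear_combination (-((e g').a * (e g).a ^ 4)) * h2
    rw [commutatorElement_def, h1]; group
  have w12 : ⁅A₁, A₂⁆ = (1 : W) := rel _ _ _ hone.1 (by
    rw [hone.2, hA₁, hA₂, hθ4]; linear_combination -θ * h2)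
  have w34 : ⁅B₁, B₂⁆ = (1 : W) := rel _ _ _ hone.1 (by
    rw [hone.2, hB₁, hB₂, mul_pow, hθ4]; linear_combination (-θ * u ^ 5) * h2)
  have w13 : ⁅A₁, B₁⁆ = C := rel _ _ _ hCa (by rw [hCb, hA₁, hB₁]; linear_combination -hK)
  have w14 : ⁅A₁, B₂⁆ = D := rel _ _ _ hDa (by rw [hDb, hA₁, hB₂, mul_pow, hθ4]; linear_combination -θ * hK)
  have w23 : ⁅A₂, B₁⁆ = D := rel _ _ _ hDa (by rw [hDb, hA₂, hB₁, hθ4]; linear_combination -θ * hK)
  have w24 : ⁅A₂, B₂⁆ = C * D := rel _ _ _ hCD.1 (by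
    rw [hCD.2, hA₂, hB₂, mul_pow, hθ4]; linear_combination (-θ ^ 2) * hK - K * hθ)
  -- generation of the model
  set L := Subgroup.closure ({A₁, A₂, B₁, B₂, C, D} : Set W) with hL
  have mL : ∀ v ∈ ({A₁, A₂, B₁, B₂, C, D} : Set W), v ∈ L := fun v hv => Subgroup.subset_closure hv
  have hK0 : K ≠ 0 := fun e0 => by
    rcases hsq with ⟨h1, -⟩ | ⟨h1, -⟩ <;> (rw [e0] at h1; simp at h1)
  let K4 : Finset F := Finset.univ.filter fun b => b ^ 4 = b
  have hK4c : K4.card = 4 := by
    rw [← hK4, Nat.card_eq_fintype_card, Fintype.card_subtype]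
  have hfour : ∀ k : F, k ≠ 0 → k ^ 4 = k → K4 = {0, k, θ * k, k + θ * k} := fun k hk hk4 => by
    have n1 : θ * k ≠ 0 := mul_ne_zero hθ0 hk
    have n2 : θ * k ≠ k := fun e0 => hθ1 (mul_eq_right₀ hk |>.mp e0)
    have n3 : k + θ * k ≠ 0 := fun e0 => n2 (by linear_combination e0 - k * h2)
    have n4 : k + θ * k ≠ k := fun e0 => n1 (add_eq_left.mp e0)
    have n5 : k + θ * k ≠ θ * k := fun e0 => hk (add_eq_right.mp e0)
    refine (Finset.eq_of_subset_of_card_le (s := {0, k, θ * k, k + θ * k}) ?_ ?_).symm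
    · intro b hb
      simp only [Finset.mem_insert, Finset.mem_singleton] at hb
      simp only [K4, Finset.mem_filter, Finset.mem_univ, true_and]
      rcases hb with rfl | rfl | rfl | rfl
      · simp
      · exact hk4
      · rw [mul_pow, hθ4, hk4]
      · rw [add_pow_four hF, mul_pow, hθ4, hk4]
    · rw [hK4c]
      simp [Finset.card_insert_of_notMem, hk.symm, n1.symm, n2.symm, n3.symm, n4.symm, n5.symm]
  have hcl : ∀ g : W, (e g).a = 0 → g ∈ L := fun g hg => by
    have hb : (e g).b ∈ K4 := by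
      have := (e g).rel
      rw [hg] at this
      simp only [K4, Finset.mem_filter, Finset.mem_univ, true_and]
      linear_combination this - (e g).b * h2
    rw [hfour K hK0 hK44] at hb
    simp only [Finset.mem_insert, Finset.mem_singleton] at hb
    rcases hb with hb | hb | hb | hb
    · rw [eext g 1 (by rw [hg, hone.1]) (by rw [hb, hone.2])]; exact one_mem _
    · rw [eext g C (by rw [hg, hCa]) (by rw [hb, hCb])]; exact mL _ (by simp)
    · rw [eext g D (by rw [hg, hDa]) (by rw [hb, hDb])]; exact mL _ (by simp)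
    · rw [eext g (C * D) (by rw [hg, hCD.1]) (by rw [hb, hCD.2])]
      exact mul_mem (mL _ (by simp)) (mL _ (by simp))
  have hline : ∀ p ∈ K4, (∃ l ∈ L, (e l).a = p) ∧ ∃ l ∈ L, (e l).a = p * u := by
    intro p hp
    rw [hfour 1 one_ne_zero (one_pow 4)] at hp
    simp only [Finset.mem_insert, Finset.mem_singleton, mul_one] at hp
    rcases hp with rfl | rfl | rfl | rfl
    · exact ⟨⟨1, one_mem _, hone.1⟩, 1, one_mem _, by rw [hone.1, zero_mul]⟩
    · exact ⟨⟨A₁, mL _ (by simp), hA₁⟩, B₁, mL _ (by simp), by rw [hB₁, one_mul]⟩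
    · exact ⟨⟨A₂, mL _ (by simp), hA₂⟩, B₂, mL _ (by simp), hB₂⟩
    · exact ⟨⟨A₁ * A₂, mul_mem (mL _ (by simp)) (mL _ (by simp)), by rw [(hm _ _).1, hA₁, hA₂]⟩,
        B₁ * B₂, mul_mem (mL _ (by simp)) (mL _ (by simp)), by rw [(hm _ _).1, hB₁, hB₂]; ring⟩
  have hu4 : u ^ 4 ≠ u := fun e0 => hK0 (by rw [← hK, e0]; linear_combination u * h2)
  have hspan : ∀ a : F, ∃ p ∈ K4, ∃ r ∈ K4, a = p + r * u := by
    have hinj : Set.InjOn (fun v : F × F => v.1 + v.2 * u) ↑(K4 ×ˢ K4) := by
      rintro ⟨p, r⟩ hv ⟨p', r'⟩ hv' h0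
      simp only [K4, Finset.coe_product, Set.mem_prod, Finset.coe_filter, Finset.mem_univ, true_and,
        Set.mem_ofPred_eq] at hv hv'
      simp only at h0
      have h0' : p ^ 4 + r ^ 4 * u ^ 4 = p' ^ 4 + r' ^ 4 * u ^ 4 := by
        rw [← mul_pow, ← mul_pow, ← add_pow_four hF, ← add_pow_four hF, h0]
      rw [hv.1, hv.2, hv'.1, hv'.2] at h0'
      have h3 : (r - r') * (u ^ 4 - u) = 0 := by linear_combination h0' - h0
      have hr : r = r' := sub_eq_zero.mp ((mul_eq_zero.mp h3).resolve_right (sub_ne_zero.mpr hu4))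
      subst hr
      exact Prod.ext (add_right_cancel h0) rfl
    have himg : (K4 ×ˢ K4).image (fun v : F × F => v.1 + v.2 * u) = Finset.univ := by
      apply Finset.eq_univ_of_card
      rw [Finset.card_image_of_injOn hinj, Finset.card_product, hK4c, hF]
    intro a
    have := himg ▸ Finset.mem_univ a
    simp only [Finset.mem_image, Finset.mem_product] at this
    obtain ⟨⟨p, r⟩, ⟨hp, hr⟩, rfl⟩ := this
    exact ⟨p, hp, r, hr, rfl⟩
  have hLtop : L = ⊤ := by
    rw [eq_top_iff]
    intro g _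
    obtain ⟨p, hp, r, hr, hg⟩ := hspan (e g).a
    obtain ⟨⟨l, hl, hla⟩, -⟩ := hline p hp
    obtain ⟨-, m, hmL, hma⟩ := hline r hr
    have hz : (e ((l * m)⁻¹ * g)).a = 0 := by
      have h1 := (hm (l * m) ((l * m)⁻¹ * g)).1
      rw [mul_inv_cancel_left, (hm l m).1, hla, hma] at h1
      exact left_eq_add.mp (hg.symm.trans h1)
    have h2 := mul_mem (mul_mem hl hmL) (hcl _ hz)
    rwa [mul_inv_cancel_left] at h2
  have sqv : ∀ (g z : W), (e z).a = 0 → (e z).b = (e g).a ^ 5 → g * g = z := fun g z hza hzb =>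
    eext _ _ (by rw [(sqW g).1, hza]) (by rw [(sqW g).2, hzb])
  -- the isomorphism
  set CC := Subgroup.closure ({(c, C), (d, D)} : Set (T × W)) with hCC
  have pc : (c, C) ∈ CC := Subgroup.subset_closure (by simp)
  have pd : (d, D) ∈ CC := Subgroup.subset_closure (by simp)
  have p1 : (1, 1) ∈ CC := one_mem CC
  have pcd : (c * d, C * D) ∈ CC := mul_mem pc pd
  have flip : ∀ {g g' : T} {v v' : W}, (⁅(g, v), (g', v')⁆ : T × W) ∈ CC → ⁅(g', v'), (g, v)⁆ ∈ CC :=
    fun h0 => by rw [← commutatorElement_inv]; exact inv_mem h0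
  have pr : ∀ (g g' : T) (v v' : W) {z : T} {z' : W}, ⁅g, g'⁆ = z → ⁅v, v'⁆ = z' → (z, z') ∈ CC →
      ⁅(g, v), (g', v')⁆ ∈ CC := fun g g' v v' z z' e1 e2 hz => by
    have : (⁅(g, v), (g', v')⁆ : T × W) = (⁅g, g'⁆, ⁅v, v'⁆) := rfl
    rw [this, e1, e2]; exact hz
  have ps : ∀ (g : T) (v : W) {z : T} {z' : W}, g * g = z → v * v = z' → (z, z') ∈ CC →
      (g, v) * (g, v) ∈ CC := fun g v z z' e1 e2 hz => by rw [Prod.mk_mul_mk, e1, e2]; exact hz
  obtain ⟨iso⟩ := iso_of_data hD.card hW (g₁' := A₁) (g₂' := A₂) (h₁' := B₁) (h₂' := B₂) (c' := C) (d' := D)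
    hD.gen hLtop hD.hc hD.hd hD.hc2 hD.hd2 (hcen C hCa) (hcen D hDa) hC2 hD2
    (by
      intro g hg
      simp only [Set.mem_insert_iff, Set.mem_singleton_iff] at hg
      rcases hsq with ⟨t1, t2, s1, s2, s3, s4⟩ | ⟨t1, t2, s1, s2, s3, s4⟩ <;> rcases hg with rfl | rfl | rfl | rfl
      · exact ps _ _ s1 (sqv A₁ D hDa (by rw [hDb, hA₁, one_pow, t1])) pd
      · exact ps _ _ s2 (sqv A₂ C hCa (by rw [hCb, hA₂, t2])) pc
      · exact ps _ _ s3 (sqv B₁ D hDa (by rw [hDb, hB₁, hu, t1])) pd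
      · exact ps _ _ s4 (sqv B₂ C hCa (by rw [hCb, hB₂, mul_pow, hu, mul_one, t2])) pc
      · exact ps _ _ s1 (sqv A₁ (C * D) hCD.1 (by rw [hCD.2, hA₁, one_pow, t1])) pcd
      · exact ps _ _ s2 (sqv A₂ D hDa (by rw [hDb, hA₂, t2])) pd
      · exact ps _ _ s3 (sqv B₁ (C * D) hCD.1 (by rw [hCD.2, hB₁, hu, t1])) pcd
      · exact ps _ _ s4 (sqv B₂ D hDa (by rw [hDb, hB₂, mul_pow, hu, mul_one, t2])) pd)
    (by
      intro g hg g' hg'
      simp only [Set.mem_insert_iff, Set.mem_singleton_iff] at hg hg'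
      have q12 := pr _ _ _ _ hD.r12 w12 p1
      have q34 := pr _ _ _ _ hD.r34 w34 p1
      have q13 := pr _ _ _ _ hD.r13 w13 pc
      have q14 := pr _ _ _ _ hD.r14 w14 pd
      have q23 := pr _ _ _ _ hD.r23 w23 pd
      have q24 := pr _ _ _ _ hD.r24 w24 pcd
      rcases hg with rfl | rfl | rfl | rfl <;> rcases hg' with rfl | rfl | rfl | rfl
      all_goals first
        | (rw [commutatorElement_self]; exact one_mem _)
        | exact q12
        | exact q34
        | exact q13
        | exact q14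
        | exact q23
        | exact q24
        | exact flip q12
        | exact flip q34
        | exact flip q13
        | exact flip q14
        | exact flip q23
        | exact flip q24)
  haveI : Fact (Nat.Prime 2) := ⟨Nat.prime_two⟩
  have hfac : Nat.card W = 2 ^ (Nat.card (Cfsg.PSU 3 F 4)).factorization 2 := by
    rw [hW, card_PSU_three_four hF]
    have h : (62400 : ℕ).factorization 2 = 6 := by
      rw [show (62400 : ℕ) = 2 ^ 6 * 975 by norm_num,
        Nat.factorization_mul (by norm_num) (by norm_num), Finsupp.add_apply,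
        Nat.Prime.factorization_pow Nat.prime_two, Finsupp.single_eq_same,
        Nat.factorization_eq_zero_of_not_dvd (by norm_num : ¬ 2 ∣ 975)]
    rw [h]; norm_num
  exact ⟨iso.trans (S.equiv (Sylow.ofCard W hfac)).symm⟩

end Models

/-- Let T be a 2-subgroup of a finite group G, V ≤ Z(T) a four-group, and t, ρ ∈ N_G(V) ∩ N_G(T) elements of order 2 and 3 with t commuting with ρ and with V. If [V, ρ] = V and C_T(t) = V, then T is elementary abelian of order 16, or homocyclic of rank 2 (ℤ/2ⁿ × ℤ/2ⁿ for some n ≥ 1), or isomorphic to a Sylow 2-subgroup of PSL₃(4) or of PSU₃(4). -/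
theorem result {G : Type*} [Group G] [Finite G] (T V : Subgroup G) (hT : IsPGroup 2 ↥T) (hVT : V ≤ T ⊓ Subgroup.centralizer (T : Set G)) (hV : Nat.card ↥V = 4 ∧ ∀ v ∈ V, v ^ 2 = 1) (t ρ : G) (ht : orderOf t = 2) (hρ : orderOf ρ = 3) (htn : t ∈ Subgroup.normalizer (V : Set G) ⊓ Subgroup.normalizer (T : Set G)) (hρn : ρ ∈ Subgroup.normalizer (V : Set G) ⊓ Subgroup.normalizer (T : Set G)) (htρ : t * ρ = ρ * t) (htV : t ∈ Subgroup.centralizer (V : Set G)) (hVρ : ⁅V, Subgroup.zpowers ρ⁆ = V) (hCt : T ⊓ Subgroup.centralizer ({t} : Set G) = V) : (Nat.card ↥T = 16 ∧ ∀ x ∈ T, x ^ 2 = 1) ∨ (∃ n : ℕ, 1 ≤ n ∧ Nonempty (↥T ≃* Multiplicative (ZMod (2 ^ n)) × Multiplicative (ZMod (2 ^ n)))) ∨ (∃ (F : Type) (_ : Field F) (_ : Fintype F), Fintype.card F = 4 ∧ ∀ P : Sylow 2 (Matrix.ProjectiveSpecialLinearGroup (Fin 3) F), Nonempty (↥T ≃* ↥(P : Subgroup (Matrix.ProjectiveSpecialLinearGroup (Fin 3) F)))) ∨ (∃ (F : Type) (_ : Field F) (_ : Fintype F), Fintype.card F = 16 ∧ ∀ P : Sylow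 2 (Cfsg.PSU 3 F 4), Nonempty (↥T ≃* ↥(P : Subgroup (Cfsg.PSU 3 F 4)))) := by
  classical
  haveI : Fact (Nat.Prime 2) := ⟨Nat.prime_two⟩
  obtain ⟨htV', htT⟩ := htn
  obtain ⟨hρV, hρT⟩ := hρn
  set ρa : MulAut T := T.normalizerMonoidHom ⟨ρ, hρT⟩ with hρa
  set ta : MulAut T := T.normalizerMonoidHom ⟨t, htT⟩ with hta
  have eρ : ∀ g : T, ((ρa g : T) : G) = ρ * g * ρ⁻¹ := fun g => rfl
  have et : ∀ g : T, ((ta g : T) : G) = t * g * t⁻¹ := fun g => rfl
  have hρ3 : ρ * ρ * ρ = 1 := by
    have h0 := pow_orderOf_eq_one ρ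
    rw [hρ, pow_succ, pow_two] at h0; exact h0
  have ht2 : t * t = 1 := by
    have h0 := pow_orderOf_eq_one t
    rw [ht, pow_two] at h0; exact h0
  have ht1 : t ≠ 1 := fun e => by rw [e, orderOf_one] at ht; norm_num at ht
  -- `ρ` fixes no involution of `V`
  have hVfix : ∀ v ∈ V, ρ * v * ρ⁻¹ = v → v = 1 := by
    intro v hv hfix
    by_contra hv1
    -- otherwise `ρ` fixes `V` pointwise
    haveI : Fact (Nat.Prime 3) := ⟨Nat.prime_three⟩
    haveI := Fintype.ofFinite V
    let f : Equiv.Perm V := (V.normalizerMonoidHom ⟨ρ, hρV⟩).toEquiv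
    have ef : ∀ w : V, ((f w : V) : G) = ρ * w * ρ⁻¹ := fun w => rfl
    have hord : f ^ 3 ^ 1 = 1 := by
      ext w
      show ((f (f (f w)) : V) : G) = (w : G)
      rw [ef, ef, ef]
      calc ρ * (ρ * (ρ * (w : G) * ρ⁻¹) * ρ⁻¹) * ρ⁻¹ = (ρ * ρ * ρ) * w * (ρ * ρ * ρ)⁻¹ := by group
        _ = w := by rw [hρ3]; simp
    have h1 := Equiv.Perm.card_compl_support_modEq (p := 3) (n := 1) hord
    have h2 : 2 ≤ f.supportᶜ.card := by
      refine Finset.one_lt_card.mpr ⟨1, ?_, ⟨v, hv⟩, ?_, fun e => hv1 (congrArg Subtype.val e).symm⟩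
      · simp only [Finset.mem_compl, Equiv.Perm.mem_support, not_not]
        exact Subtype.ext (by rw [ef]; simp)
      · simp only [Finset.mem_compl, Equiv.Perm.mem_support, not_not]
        exact Subtype.ext (by rw [ef]; exact hfix)
    have h4 : Fintype.card V = 4 := by rw [← Nat.card_eq_fintype_card]; exact hV.1
    have h3 : f.supportᶜ.card ≤ 4 := h4 ▸ Finset.card_le_univ _
    rw [h4] at h1
    have hall : f.supportᶜ = Finset.univ := by
      apply Finset.eq_univ_of_card
      have h1' : f.supportᶜ.card % 3 = 4 % 3 := h1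
      omega
    have hbot : V = ⊥ := by
      rw [← hVρ, Subgroup.commutator_eq_bot_iff_le_centralizer]
      intro w hw
      rw [Subgroup.mem_centralizer_iff]
      rintro _ ⟨k, rfl⟩
      have hm : (⟨w, hw⟩ : V) ∈ f.supportᶜ := hall ▸ Finset.mem_univ _
      simp only [Finset.mem_compl, Equiv.Perm.mem_support, not_not] at hm
      have h5 : ρ * w * ρ⁻¹ = w := congrArg Subtype.val hm
      exact (Commute.zpow_left (mul_inv_eq_iff_eq_mul.mp h5) k).eq
    have h6 := hV.1
    rw [hbot, Subgroup.card_bot] at h6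
    norm_num at h6
  have hTfix : ∀ g : T, ρa g = g → g = 1 := by
    intro g hg
    by_contra hg1
    let F : Subgroup T := fixT ρa
    have hFt : ∀ u ∈ F, ta u ∈ F := fun u (hu : ρa u = u) => by
      show ρa (ta u) = ta u
      have hu' : ρ * (u : G) * ρ⁻¹ = u := congrArg Subtype.val hu
      apply Subtype.ext
      rw [eρ, et]
      calc ρ * (t * (u : G) * t⁻¹) * ρ⁻¹ = (ρ * t) * u * (ρ * t)⁻¹ := by group
        _ = (t * ρ) * u * (t * ρ)⁻¹ := by rw [htρ]
        _ = t * (ρ * u * ρ⁻¹) * t⁻¹ := by group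
        _ = _ := by rw [hu']
    haveI := Fintype.ofFinite F
    let f : Equiv.Perm F :=
      { toFun := fun u => ⟨ta u, hFt u u.2⟩
        invFun := fun u => ⟨ta u, hFt u u.2⟩
        left_inv := fun u => Subtype.ext (Subtype.ext (by
          show t * (t * ((u : T) : G) * t⁻¹) * t⁻¹ = _
          calc t * (t * ((u : T) : G) * t⁻¹) * t⁻¹ = (t * t) * u * (t * t)⁻¹ := by group
            _ = _ := by rw [ht2]; simp))
        right_inv := fun u => Subtype.ext (Subtype.ext (by
          show t * (t * ((u : T) : G) * t⁻¹) * t⁻¹ = _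
          calc t * (t * ((u : T) : G) * t⁻¹) * t⁻¹ = (t * t) * u * (t * t)⁻¹ := by group
            _ = _ := by rw [ht2]; simp)) }
    have hord : f ^ 2 ^ 1 = 1 := by
      refine Equiv.ext fun u => ?_
      exact f.left_inv u
    have h1 := Equiv.Perm.card_compl_support_modEq (p := 2) (n := 1) hord
    have h2 : f.supportᶜ = {1} := by
      ext u
      simp only [Finset.mem_compl, Equiv.Perm.mem_support, not_not, Finset.mem_singleton]
      constructor
      · intro hu
        have hu' : t * ((u : T) : G) * t⁻¹ = u := congrArg (fun z : F => ((z : T) : G)) hu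
        have huV : ((u : T) : G) ∈ V := hCt ▸ ⟨(u : T).2, Subgroup.mem_centralizer_singleton_iff.mpr
          (mul_inv_eq_iff_eq_mul.mp hu').symm⟩
        exact Subtype.ext (Subtype.ext (hVfix _ huV (congrArg Subtype.val (u.2 : ρa (u : T) = u))))
      · rintro rfl
        exact Subtype.ext (map_one ta)
    rw [h2, Finset.card_singleton] at h1
    have hF1 : Nat.card F ≠ 1 := fun e => hg1 (Subgroup.mem_bot.mp (Subgroup.card_eq_one.mp e ▸ (hg : g ∈ F)))
    obtain ⟨k, hk⟩ := (hT.to_subgroup F).exists_card_eq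
    have hk0 : k ≠ 0 := fun e => hF1 (by rw [hk, e, pow_zero])
    have h1' : (1 : ℕ) % 2 = Fintype.card F % 2 := h1
    rw [← Nat.card_eq_fintype_card, hk, Nat.pow_mod] at h1'
    simp [Nat.zero_pow (Nat.pos_of_ne_zero hk0)] at h1'
  have h3 : ∀ g : T, ρa (ρa (ρa g)) = g := fun g => Subtype.ext (by
    rw [eρ, eρ, eρ]
    calc ρ * (ρ * (ρ * (g : G) * ρ⁻¹) * ρ⁻¹) * ρ⁻¹ = (ρ * ρ * ρ) * g * (ρ * ρ * ρ)⁻¹ := by group
      _ = g := by rw [hρ3]; simp)
  have hActs : Acts ρa ta := by
    refine ⟨hT, h3, fun g => Subtype.ext ?_, fun g => Subtype.ext ?_, ?_⟩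
    · rw [et, et]
      calc t * (t * (g : G) * t⁻¹) * t⁻¹ = (t * t) * g * (t * t)⁻¹ := by group
        _ = g := by rw [ht2]; simp
    · rw [et, eρ, eρ, et]
      calc t * (ρ * (g : G) * ρ⁻¹) * t⁻¹ = (t * ρ) * g * (t * ρ)⁻¹ := by group
        _ = (ρ * t) * g * (ρ * t)⁻¹ := by rw [htρ]
        _ = _ := by group
    · have hinj : Function.Injective (fun g => g⁻¹ * ρa g) := by
        intro g g' hgh
        have h0 : ρa (g * g'⁻¹) = g * g'⁻¹ := by
          rw [map_mul, map_inv]
          have e : ρa g = g * (g'⁻¹ * ρa g') := by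
            have h1 : g⁻¹ * ρa g = g'⁻¹ * ρa g' := hgh
            rw [← h1, mul_inv_cancel_left]
          rw [e]; group
        exact mul_inv_eq_one.mp (hTfix _ h0)
      intro g
      obtain ⟨u, rfl⟩ := (Finite.injective_iff_surjective.mp hinj) g
      simp only [map_mul, map_inv, h3]
      group
  have hVT : V ≤ T := fun v hv => (hVT hv).1
  haveI : Nontrivial T := by
    rw [Subgroup.nontrivial_iff_ne_bot]
    intro e
    have := Subgroup.card_le_of_le (e ▸ hVT)
    rw [hV.1, Subgroup.card_bot] at this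
    omega
  have hfix : Nat.card (fixT ta) ≤ 4 := by
    rw [← hV.1]
    refine Nat.card_le_card_of_injective (fun u => (⟨((u : T) : G), ?_⟩ : V)) (fun a b h0 => Subtype.ext (Subtype.ext (congrArg (fun z : V => (z : G)) h0 : ((a : T) : G) = ((b : T) : G))))
    rw [← hCt]
    exact ⟨(u : T).2, Subgroup.mem_centralizer_singleton_iff.mpr
      (mul_inv_eq_iff_eq_mul.mp (congrArg Subtype.val (u.2 : ta (u : T) = u))).symm⟩
  rcases core hActs hfix with ⟨h16, hexp⟩ | h | ⟨g₁, g₂, h₁, h₂, c, d, hD, h⟩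
  · exact Or.inl ⟨h16, fun x hx => by rw [pow_two]; exact congrArg Subtype.val (hexp ⟨x, hx⟩)⟩
  · exact Or.inr (Or.inl h)
  · rcases h with ⟨s1, s2, s3, s4⟩ | h | h
    · refine Or.inr (Or.inr (Or.inl ?_))
      have R : ∀ {a b z : T}, z ∈ Subgroup.center T → ⁅a, b⁆ = z → PGroups.UniFour.Rel a b z := fun {a b z} hz e =>
        ⟨hz, by rw [← e, commutatorElement_def]; group⟩
      obtain ⟨F, iF, iFT, hF, S, ⟨eS⟩⟩ := PGroups.UniFour.exists_sylow hD.card s1 s2
        (commutatorElement_eq_one_iff_mul_comm.mp hD.r12) s3 s4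
        (commutatorElement_eq_one_iff_mul_comm.mp hD.r34) hD.hc2 hD.hd2 hD.hc1 hD.hd1 hD.hcd
        (R hD.hc hD.r13) (R hD.hd hD.r14) (R hD.hd hD.r23) (R (mul_mem hD.hc hD.hd) hD.r24)
      exact ⟨F, iF, iFT, hF, fun P => ⟨eS.trans (S.equiv P)⟩⟩
    all_goals
      refine Or.inr (Or.inr (Or.inr ?_))
      let F := GaloisField 2 4
      letI : Fintype F := Fintype.ofFinite F
      have hF : Fintype.card F = 16 := by
        rw [Fintype.card_eq_nat_card, GaloisField.card 2 4 (by norm_num)]; norm_num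
      obtain ⟨u, K, hu, hK, hKK⟩ := exists_theta hF
      have h2 := Cfsg.Agent.S1248.two_eq_zero hF
      refine ⟨F, inferInstance, inferInstance, hF, fun P => ?_⟩
    · refine model_PSU hD hF (K + 1) u K hu hK (by linear_combination hKK + K * h2) (Or.inl ⟨?_, ?_, h⟩) P
      · linear_combination hKK + K * h2
      · have e1 : (K + 1) * (K + 1) = K := by linear_combination hKK + (K + 1) * h2
        linear_combination ((K + 1) ^ 3 + (K + 1) * K) * e1 + K ^ 2 * h2 + (K + 1) * hKK - hKK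
    · refine model_PSU hD hF K u K hu hK hKK (Or.inr ⟨?_, ?_, h⟩) P
      · linear_combination hKK + K * h2
      · have h3 : K ^ 3 = 1 := by linear_combination (K + 1) * hKK + K * h2
        linear_combination K ^ 2 * h3

end Cfsg.Agent.S2933
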