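import Cfsg.Statements.S2934
import Cfsg.Agent.Lib.Frobenius.UniqueSubgroup
import Cfsg.Agent.Lib.CoprimeGen.Abelian
import Cfsg.Agent.Lib.Fusion.SLTwoQuaternion
import Cfsg.Agent.Lib.Fusion.SmallCyclic
import Cfsg.Agent.Lib.Perm.ZassenhausDegree
import Cfsg.Agent.Lib.PGroups.SymplecticType
import Cfsg.Agent.Lib.Coprime.Basic

set_option autoImplicit false
open Cfsg

namespace Cfsg.Agent.S2934

set_option linter.all false
open Cfsg.Agent Cfsg.Agent.Lib
open scoped commutatorElement

section Aut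

variable {K A : Type*} [Group K] [Finite K] [Group A] [Finite A] {p : ℕ} [Fact p.Prime]

/-- The fixed points of a family of automorphisms. -/
def fixAll (φ : A →* MulAut K) : Subgroup K where
  carrier := {x | ∀ a, φ a x = x}
  mul_mem' := fun hx hy a => by rw [map_mul, hx a, hy a]
  one_mem' := fun a => map_one _
  inv_mem' := fun hx a => by rw [map_inv, hx a]

omit [Finite A] in
theorem q8_facts : (∀ u v : QuaternionGroup 2, ⁅u, v⁆ * ⁅u, v⁆ = 1 ∧ (u * u) * (u * u) = 1) ∧
    ∃ u v : QuaternionGroup 2, u * v ≠ v * u := by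
  constructor
  · decide +kernel
  · exact ⟨.a 1, .xa 0, by decide +kernel⟩

/-- Fixed points of a `p`-group in a subset stable under it. -/
theorem card_fix_mod (hA : IsPGroup p A) (φ : A →* MulAut K) (V : Subgroup K)
    (hV : ∀ a, ∀ x ∈ V, φ a x ∈ V) :
    Nat.card V ≡ Nat.card (V ⊓ fixAll φ : Subgroup K) [MOD p] := by
  letI : MulAction A V :=
    { smul := fun a x => ⟨φ a x, hV a x x.2⟩
      one_smul := fun x => Subtype.ext (by show φ 1 (x : K) = x; rw [map_one]; rfl)
      mul_smul := fun a b x => Subtype.ext (by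
        show φ (a * b) (x : K) = φ a (φ b x); rw [map_mul]; rfl) }
  have h := hA.card_modEq_card_fixedPoints V
  refine (congrArg (fun c => Nat.card V % p = c % p) (Nat.card_congr
    { toFun := fun x => ⟨((x : V) : K), (x : V).2, fun a => congrArg Subtype.val (x.2 a)⟩
      invFun := fun y => ⟨⟨(y : K), y.2.1⟩, fun a => Subtype.ext (y.2.2 a)⟩
      left_inv := fun x => rfl
      right_inv := fun y => rfl })).mp h

/-- A `p`-group (`p` odd) acting on a `2`-group with at most one involution acts trivially, or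
`p = 3`, the `2`-group is quaternion of order `8` and the action has order `3`. -/
theorem small_action (hp : p ≠ 2) (hA : IsPGroup p A) (hK : IsPGroup 2 K)
    (huniq : ∀ a b : K, orderOf a = 2 → orderOf b = 2 → a = b) (φ : A →* MulAut K) :
    (∀ a, φ a = 1) ∨ (p = 3 ∧ Nat.card K = 8 ∧ φ.ker.index = 3 ∧ Nat.card (fixAll φ) = 2 ∧
      (∀ u v : K, ⁅u, v⁆ * ⁅u, v⁆ = 1 ∧ (u * u) * (u * u) = 1) ∧ ∃ u v : K, u * v ≠ v * u) := by
  have hpp := (Fact.out : p.Prime)
  have hR : IsPGroup p φ.range := hA.of_surjective φ.rangeRestrict φ.rangeRestrict_surjective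
  have htriv : (∀ σ : MulAut K, Odd (orderOf σ) → σ = 1) → ∀ a, φ a = 1 := fun h a => by
    obtain ⟨k, hk⟩ := IsPGroup.iff_orderOf.mp hA a
    refine h _ ((hpp.odd_of_ne_two hp).pow.of_dvd_nat (?_ : orderOf (φ a) ∣ p ^ k))
    exact hk ▸ orderOf_map_dvd φ a
  rcases Frobenius.isCyclic_or_quaternion_of_unique hK
      (fun a b ha hb => huniq a b ha hb ▸ Subgroup.mem_zpowers _) with hc | ⟨-, m, ⟨e⟩⟩
  · refine Or.inl (htriv fun σ hσ => ?_)
    obtain ⟨n, hn⟩ := hK.exists_card_eq
    rw [← orderOf_eq_one_iff]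
    rcases Nat.eq_zero_or_pos n with h0 | h0
    · have := IsCyclic.card_mulAut (G := K)
      rw [hn, h0, pow_zero, Nat.totient_one] at this
      exact Nat.dvd_one.mp (this ▸ orderOf_dvd_natCard σ)
    · have h1 : orderOf σ ∣ 2 ^ (n - 1) := by
        have := IsCyclic.card_mulAut (G := K)
        rw [hn, Nat.totient_prime_pow Nat.prime_two h0, show 2 - 1 = 1 from rfl, mul_one] at this
        exact this ▸ orderOf_dvd_natCard σ
      obtain ⟨j, -, hj⟩ := (Nat.dvd_prime_pow Nat.prime_two).mp h1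
      rcases Nat.eq_zero_or_pos j with rfl | hj0
      · simpa using hj
      · exfalso
        rw [hj] at hσ
        exact Nat.not_even_iff_odd.mpr hσ ((even_two).pow_of_ne_zero hj0.ne')
  rcases Nat.eq_zero_or_pos m with rfl | hm
  swap
  · refine Or.inl (htriv fun σ hσ => ?_)
    have h1 := Cfsg.Agent.Lib.Fusion.SpFour.quat_odd_aut (k := m + 1) (by omega) (MulAut.congr e σ)
      (by rw [(MulAut.congr e).orderOf_eq]; exact hσ)
    exact (MulAut.congr e).injective (h1.trans (map_one _).symm)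
  have hKc : Nat.card K = 8 := by
    rw [Nat.card_congr e.toEquiv, Nat.card_eq_fintype_card, QuaternionGroup.card]; norm_num
  have h24 : Nat.card (MulAut K) = 24 := by
    rw [Nat.card_congr (MulAut.congr e).toEquiv]
    exact Cfsg.Agent.Lib.Perm.Zassenhaus.card_mulAut_q8
  obtain ⟨j, hj⟩ := hR.exists_card_eq
  have hd : p ^ j ∣ 24 := by
    rw [← hj, ← h24]; exact Subgroup.card_subgroup_dvd_card _
  rcases Nat.eq_zero_or_pos j with rfl | hj0
  · refine Or.inl fun a => ?_
    rw [pow_zero, Subgroup.card_eq_one] at hj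
    exact Subgroup.mem_bot.mp (hj ▸ MonoidHom.mem_range.mpr ⟨a, rfl⟩)
  have hp3 : p = 3 := by
    have h1 : p ∣ 2 ^ 3 * 3 := (dvd_pow_self p hj0.ne').trans hd
    rcases hpp.dvd_mul.mp h1 with h | h
    · exact absurd ((Nat.prime_dvd_prime_iff_eq hpp Nat.prime_two).mp (hpp.dvd_of_dvd_pow h)) hp
    · exact (Nat.prime_dvd_prime_iff_eq hpp Nat.prime_three).mp h
  subst hp3
  have hj1 : j = 1 := by
    by_contra h
    have : 3 ^ 2 ∣ 24 := (pow_dvd_pow 3 (by omega : 2 ≤ j)).trans hd
    norm_num at this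
  subst hj1
  refine Or.inr ⟨rfl, hKc, by rw [Subgroup.index_ker, hj, pow_one], ?_, fun u v => ?_, ?_⟩
  · obtain ⟨k, hk, hF⟩ := (Nat.dvd_prime_pow Nat.prime_two).mp
      (show Nat.card (fixAll φ) ∣ 2 ^ 3 from by
        have := Subgroup.card_subgroup_dvd_card (fixAll φ); rw [hKc] at this; exact this)
    have hm := card_fix_mod hA φ ⊤ fun _ _ _ => Subgroup.mem_top _
    rw [Subgroup.card_top, hKc, top_inf_eq, hF] at hm
    have hne : k ≠ 3 := fun h => by
      subst h
      have htop : fixAll φ = ⊤ := Subgroup.eq_top_of_card_eq _ (by rw [hKc, hF]; norm_num)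
      have hbot : φ.range = ⊥ := by
        rw [eq_bot_iff]
        rintro σ ⟨a, rfl⟩
        exact MulEquiv.ext fun x => (htop ▸ Subgroup.mem_top x : x ∈ fixAll φ) a
      rw [hbot, Subgroup.card_bot] at hj
      norm_num at hj
    interval_cases k <;> simp_all [Nat.ModEq]
  · have h := q8_facts.1 (e u) (e v)
    constructor
    · apply e.injective
      rw [map_mul, map_one, map_commutatorElement]; exact h.1
    · apply e.injective
      simp only [map_mul, map_one]; exact h.2
  · obtain ⟨u, v, huv⟩ := q8_facts.2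
    exact ⟨e.symm u, e.symm v, fun h => huv (by simpa using congrArg e h)⟩

end Aut

section Setting

variable {W : Type*} [Group W] [Finite W] (E : Subgroup (MulAut W)) {p : ℕ} [Fact p.Prime]

/-- The fixed points of one automorphism. -/
def fixS (e : MulAut W) : Subgroup W where
  carrier := {x | e x = x}
  mul_mem' := fun {x y} (hx : e x = x) (hy : e y = y) => show e (x * y) = x * y by rw [map_mul, hx, hy]
  one_mem' := map_one _
  inv_mem' := fun {x} (hx : e x = x) => show e x⁻¹ = x⁻¹ by rw [map_inv, hx]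

/-- The common fixed points. -/
def fixE : Subgroup W := fixAll E.subtype

/-- Invariance under `E`. -/
def Inv' (U : Subgroup W) : Prop := ∀ e ∈ E, ∀ x ∈ U, e x ∈ U

/-- The restricted action. -/
noncomputable def res {U : Subgroup W} (hU : Inv' E U) : E →* MulAut U where
  toFun e := Cfsg.Agent.Lib.Fusion.restrictAut (e : MulAut W) U (hU e e.2)
  map_one' := by ext x; rfl
  map_mul' := fun e f => by ext x; rfl

/-- The noncentral fixed-point subgroups. -/
def pieces : Set (Subgroup W) := {Q | ∃ e ∈ E, e ≠ 1 ∧ fixS e = Q ∧ ¬ Q ≤ fixE E}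

/-- The pointwise stabilizer in `E`. -/
def kerQ (Q : Subgroup W) : Subgroup E where
  carrier := {e | ∀ x ∈ Q, (e : MulAut W) x = x}
  mul_mem' := fun {e f} he hf x hx => by
    show (e : MulAut W) ((f : MulAut W) x) = x
    rw [hf x hx, he x hx]
  one_mem' := fun x _ => rfl
  inv_mem' := fun {e} he x hx => by
    show (e : MulAut W)⁻¹ x = x
    conv_lhs => rw [← he x hx]
    exact (e : MulAut W).symm_apply_apply x

theorem fixS_inv [IsMulCommutative E] {e : MulAut W} (he : e ∈ E) : Inv' E (fixS e) :=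
  fun f hf x (hx : e x = x) => by
    show e (f x) = f x
    have h : e * f = f * e :=
      congrArg Subtype.val (mul_comm' (⟨e, he⟩ : E) ⟨f, hf⟩)
    calc e (f x) = (e * f) x := rfl
      _ = (f * e) x := by rw [h]
      _ = f x := by rw [MulAut.mul_apply, hx]

theorem fixE_le_fixS {e : MulAut W} (he : e ∈ E) : fixE E ≤ fixS e := fun x hx => hx ⟨e, he⟩

theorem fixE_inv : Inv' E (fixE E) := fun e he x hx => by
  have : e x = x := hx ⟨e, he⟩
  rw [this]; exact hx

variable {E}

theorem inv_inf {U V : Subgroup W} (hU : Inv' E U) (hV : Inv' E V) : Inv' E (U ⊓ V) :=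
  fun e he x hx => ⟨hU e he x hx.1, hV e he x hx.2⟩

theorem inv_centralizer {U : Subgroup W} (hU : Inv' E U) :
    Inv' E (Subgroup.centralizer (U : Set W)) := fun e he x hx => by
  rw [Subgroup.mem_centralizer_iff]
  intro u hu
  have h1 := Subgroup.mem_centralizer_iff.mp hx (e⁻¹ u) (hU e⁻¹ (inv_mem he) u hu)
  have h2 := congrArg e h1
  simp only [map_mul, MulAut.apply_inv_self] at h2
  exact h2

/-- Everything proved about one piece. -/
structure Piece (E : Subgroup (MulAut W)) (Q : Subgroup W) : Prop where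
  inv : Inv' E Q
  three : p = 3
  card : Nat.card Q = 8
  fixle : fixE E ≤ Q
  fix2 : Nat.card (fixE E) = 2
  ker : (kerQ E Q).index = 3
  comm : ∀ u ∈ Q, ∀ v ∈ Q, ⁅u, v⁆ ∈ fixE E
  sq : ∀ u ∈ Q, u * u ∈ fixE E
  nab : ∃ u ∈ Q, ∃ v ∈ Q, u * v ≠ v * u
  cases : ∀ V : Subgroup W, Inv' E V → fixE E ≤ V → V ≤ Q → V = fixE E ∨ V = Q
  uniq : ∀ a ∈ Q, ∀ b ∈ Q, orderOf a = 2 → orderOf b = 2 → a = b

theorem piece [IsMulCommutative E] (hW : IsPGroup 2 W) (hp : p ≠ 2) (hE : IsPGroup p E)
    (hfix : ∀ e ∈ E, e ≠ 1 → ∀ x y : W, orderOf x = 2 → orderOf y = 2 → e x = x → e y = y → x = y)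
    {Q : Subgroup W} (hQ : Q ∈ pieces E) : Piece (p := p) E Q := by
  obtain ⟨e, he, he1, rfl, hnle⟩ := hQ
  have hinv := fixS_inv E he
  have huW : ∀ a ∈ fixS e, ∀ b ∈ fixS e, orderOf a = 2 → orderOf b = 2 → a = b :=
    fun a ha b hb h1 h2 => hfix e he he1 a b h1 h2 ha hb
  have huniq : ∀ a b : fixS e, orderOf a = 2 → orderOf b = 2 → a = b := fun a b ha hb =>
    Subtype.ext (huW a a.2 b b.2 (by rwa [Subgroup.orderOf_coe]) (by rwa [Subgroup.orderOf_coe]))
  rcases small_action hp hE (hW.to_subgroup (fixS e)) huniq (res E hinv) with htriv | h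
  · refine absurd (fun x hx f => ?_) hnle
    exact congrArg Subtype.val (DFunLike.congr_fun (htriv f) ⟨x, hx⟩)
  obtain ⟨hp3, hc, hk, hF, hsq, hna⟩ := h
  have hmap : (fixAll (res E hinv)).map (fixS e).subtype = fixE E := by
    ext x
    constructor
    · rintro ⟨y, hy, rfl⟩ f
      exact congrArg Subtype.val (hy f)
    · exact fun hx => ⟨⟨x, fixE_le_fixS E he hx⟩, fun f => Subtype.ext (hx f), rfl⟩
  have hF2 : Nat.card (fixE E) = 2 := by
    rw [← hmap, Subgroup.card_map_of_injective (fixS e).subtype_injective, hF]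
  have hinvol : ∀ u ∈ fixS e, u * u = 1 → u ∈ fixE E := by
    intro u hu huu
    by_cases h1 : u = 1
    · rw [h1]; exact one_mem _
    obtain ⟨f, hf⟩ : ∃ f : fixE E, f ≠ 1 := by
      by_contra hall
      push Not at hall
      have : Nat.card (fixE E) = 1 := Nat.card_eq_one_iff_unique.mpr
        ⟨⟨fun a b => (hall a).trans (hall b).symm⟩, ⟨1⟩⟩
      omega
    have hof : orderOf (f : W) = 2 := by
      rw [Subgroup.orderOf_coe]
      have h2 : orderOf f ∣ 2 := hF2 ▸ orderOf_dvd_natCard f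
      rcases (Nat.dvd_prime Nat.prime_two).mp h2 with h | h
      · exact absurd (orderOf_eq_one_iff.mp h) hf
      · exact h
    rw [huW u hu f (fixE_le_fixS E he f.2) (orderOf_eq_prime (by rw [pow_two, huu]) h1) hof]
    exact f.2
  refine ⟨hinv, hp3, hc, fixE_le_fixS E he, hF2, ?_, fun u hu v hv => ?_, fun u hu => ?_, ?_,
    fun V hV hFV hVQ => ?_, huW⟩
  · have : kerQ E (fixS e) = (res E hinv).ker := by
      ext f
      constructor
      · intro h; exact MulEquiv.ext fun x => Subtype.ext (h x x.2)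
      · intro h x hx
        exact congrArg Subtype.val (DFunLike.congr_fun (MonoidHom.mem_ker.mp h) ⟨x, hx⟩)
    rw [this, hk]
  · exact hinvol _ (by
      rw [commutatorElement_def]
      exact mul_mem (mul_mem (mul_mem hu hv) (inv_mem hu)) (inv_mem hv))
      (congrArg Subtype.val (hsq ⟨u, hu⟩ ⟨v, hv⟩).1)
  · exact hinvol _ (mul_mem hu hu) (congrArg Subtype.val (hsq ⟨u, hu⟩ ⟨u, hu⟩).2)
  · obtain ⟨u, v, huv⟩ := hna
    exact ⟨u, u.2, v, v.2, fun h => huv (Subtype.ext h)⟩
  · obtain ⟨k, hk', hV2⟩ := (Nat.dvd_prime_pow Nat.prime_two).mp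
      (show Nat.card V ∣ 2 ^ 3 from by
        have := Subgroup.card_dvd_of_le hVQ; rw [hc] at this; exact this)
    have hm := card_fix_mod hE E.subtype V fun a => hV a a.2
    rw [show V ⊓ fixAll E.subtype = fixE E from inf_eq_right.mpr hFV, hF2, hp3, hV2] at hm
    have hge : 2 ≤ Nat.card V := hF2 ▸ Subgroup.card_le_of_le hFV
    have hcase : k = 1 ∨ k = 3 := by
      interval_cases k <;> simp_all [Nat.ModEq]
    rcases hcase with rfl | rfl
    · exact Or.inl (Subgroup.eq_of_le_of_card_ge hFV (by rw [hV2, hF2]; norm_num)).symm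
    · exact Or.inr (Subgroup.eq_of_le_of_card_ge hVQ (by rw [hV2, hc]; norm_num))

variable [IsMulCommutative E] (hW : IsPGroup 2 W) (hp : p ≠ 2) (hE : IsPGroup p E)
  (hnc : ¬ IsCyclic E)
  (hP : ∀ Q ∈ pieces E, Piece (p := p) E Q)

include hW hp hE hnc hP in
/-- An invariant subgroup is generated by the central involution and the pieces inside it. -/
theorem decomp {U : Subgroup W} (hU : Inv' E U) (hFU : fixE E ≤ U) :
    U ≤ fixE E ⊔ ⨆ Q ∈ {Q | Q ∈ pieces E ∧ Q ≤ U}, Q := by
  letI : CommGroup E := { (inferInstance : Group E) with mul_comm := fun a b => mul_comm' a b }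
  have hcop : (Nat.card E).Coprime (Nat.card U) := by
    obtain ⟨a, ha⟩ := hE.exists_card_eq
    obtain ⟨b, hb⟩ := (hW.to_subgroup U).exists_card_eq
    rw [ha, hb]
    exact Nat.Coprime.pow _ _ ((Nat.coprime_primes Fact.out Nat.prime_two).mpr hp)
  have h := CoprimeGen.iSup_fix_zpowers (res E hU) hcop hnc
  intro x hx
  have hx' : (⟨x, hx⟩ : U) ∈ (fixE E ⊔ ⨆ Q ∈ {Q | Q ∈ pieces E ∧ Q ≤ U}, Q).comap U.subtype := by
    refine (?_ : (⊤ : Subgroup U) ≤ _) (Subgroup.mem_top _)
    rw [← h]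
    refine iSup₂_le fun a ha y hy => ?_
    rw [Subgroup.mem_comap, Subgroup.coe_subtype]
    have hya : (a : MulAut W) (y : W) = (y : W) :=
      congrArg Subtype.val (hy a (Subgroup.mem_zpowers a))
    by_cases hle : fixS (a : MulAut W) ≤ fixE E
    · exact Subgroup.mem_sup_left (hle hya)
    have hmem : fixS (a : MulAut W) ∈ pieces E :=
      ⟨a, a.2, fun h1 => ha (Subtype.ext h1), rfl, hle⟩
    have hP' := hP _ hmem
    rcases hP'.cases (U ⊓ fixS (a : MulAut W)) (inv_inf hU hP'.inv)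
      (le_inf hFU hP'.fixle) inf_le_right with h1 | h1
    · exact Subgroup.mem_sup_left (h1 ▸ ⟨y.2, hya⟩)
    · exact Subgroup.mem_sup_right (Subgroup.mem_iSup_of_mem (fixS (a : MulAut W))
        (Subgroup.mem_iSup_of_mem ⟨hmem, inf_eq_right.mp h1⟩ hya))
  exact hx'

include hW hp hE hnc hP in
theorem exists_piece {U : Subgroup W} (hU : Inv' E U) (hFU : fixE E ≤ U) (hne : U ≠ fixE E) :
    ∃ Q ∈ pieces E, Q ≤ U := by
  by_contra h
  push Not at h
  refine hne (le_antisymm ((decomp hW hp hE hnc hP hU hFU).trans (sup_le le_rfl ?_)) hFU)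
  exact iSup₂_le fun Q hQ => absurd hQ.2 (h Q hQ.1)

omit [Fact p.Prime] in
theorem mem_pieces_eq {Q : Subgroup W} (hQ : Q ∈ pieces E) (hPQ : Piece (p := p) E Q) {e : E}
    (he : e ≠ 1) (hm : e ∈ kerQ E Q) (hP : ∀ Q ∈ pieces E, Piece (p := p) E Q) :
    fixS (e : MulAut W) = Q := by
  have hle : Q ≤ fixS (e : MulAut W) := fun x hx => hm x hx
  obtain ⟨f, -, -, -, hnle⟩ := hQ
  have hmem : fixS (e : MulAut W) ∈ pieces E :=
    ⟨e, e.2, fun h => he (Subtype.ext h), rfl, fun h => hnle (hle.trans h)⟩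
  exact (Subgroup.eq_of_le_of_card_ge hle (by rw [(hP _ hmem).card, hPQ.card])).symm

include hE hnc hP in
theorem ker_ne_bot {Q : Subgroup W} (hQ : Q ∈ pieces E) : ∃ e ∈ kerQ E Q, e ≠ 1 := by
  by_contra h
  push Not at h
  have hbot : kerQ E Q = ⊥ := (Subgroup.eq_bot_iff_forall _).mpr h
  have h3 := (hP Q hQ).ker
  rw [hbot, Subgroup.index_bot] at h3
  haveI : Fact (Nat.Prime 3) := ⟨Nat.prime_three⟩
  exact hnc (isCyclic_of_prime_card h3)

include hP in
theorem central (hW1 : (⊤ : Subgroup W) ≤ fixE E ⊔ ⨆ Q ∈ {Q | Q ∈ pieces E ∧ Q ≤ (⊤ : Subgroup W)}, Q)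
    {Q₀ : Subgroup W} (hQ₀ : Q₀ ∈ pieces E) : fixE E ≤ Subgroup.center W := by
  intro z hz
  rw [Subgroup.mem_center_iff]
  intro w
  by_cases hz1 : z = 1
  · simp [hz1]
  have key : (fixE E ⊔ ⨆ Q ∈ {Q | Q ∈ pieces E ∧ Q ≤ (⊤ : Subgroup W)}, Q) ≤
      Subgroup.centralizer {z} := by
    refine sup_le ?_ (iSup₂_le fun Q hQ q hq => ?_)
    · intro f hf
      rw [Subgroup.mem_centralizer_singleton_iff]
      have h2 := (hP Q₀ hQ₀).fix2
      haveI : Fact (Nat.Prime 2) := ⟨Nat.prime_two⟩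
      haveI : IsCyclic (fixE E) := isCyclic_of_prime_card h2
      exact congrArg Subtype.val (IsCyclic.commGroup.mul_comm (⟨f, hf⟩ : fixE E) ⟨z, hz⟩)
    · have hPQ := hP Q hQ.1
      rw [Subgroup.mem_centralizer_singleton_iff]
      have hzo : orderOf z = 2 := by
        have h2 : orderOf (⟨z, hz⟩ : fixE E) ∣ 2 := hPQ.fix2 ▸ orderOf_dvd_natCard _
        rw [← Subgroup.orderOf_coe] at h2
        rcases (Nat.dvd_prime Nat.prime_two).mp h2 with h | h
        · exact absurd (orderOf_eq_one_iff.mp h) hz1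
        · exact h
      have h := hPQ.uniq (q * z * q⁻¹) (mul_mem (mul_mem hq (hPQ.fixle hz)) (inv_mem hq)) z
        (hPQ.fixle hz) (by
          rw [← hzo]
          exact orderOf_injective (MulAut.conj q).toMonoidHom (MulAut.conj q).injective z) hzo
      exact mul_inv_eq_iff_eq_mul.mp h
  exact (Subgroup.mem_centralizer_singleton_iff.mp (key (hW1 (Subgroup.mem_top w))))

include hW hp hE hnc hP in
theorem comm_le {Q R : Subgroup W} (hQ : Q ∈ pieces E) (hR : R ∈ pieces E) (hne : Q ≠ R)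
    (hz : fixE E ≤ Subgroup.center W) (hc : ∀ x ∈ Q, ∀ y ∈ R, ⁅x, y⁆ ∈ fixE E) :
    R ≤ Subgroup.centralizer (Q : Set W) := by
  have hPQ := hP Q hQ
  have hPR := hP R hR
  have hinv : Inv' E (R ⊓ Subgroup.centralizer (Q : Set W)) :=
    inv_inf hPR.inv (inv_centralizer hPQ.inv)
  have hFC : fixE E ≤ R ⊓ Subgroup.centralizer (Q : Set W) :=
    le_inf hPR.fixle (hz.trans (Subgroup.center_le_centralizer _))
  rcases hPR.cases _ hinv hFC inf_le_left with h | h
  swap
  · exact inf_eq_left.mp h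
  exfalso
  obtain ⟨e, hek, he1⟩ := ker_ne_bot hE hnc hP hQ
  have hfe := mem_pieces_eq hQ hPQ he1 hek hP
  apply hne
  refine (Subgroup.eq_of_le_of_card_ge (fun y hy => ?_) (by rw [hPQ.card, hPR.card])).symm
  rw [← hfe]
  show (e : MulAut W) y = y
  set f : W := y⁻¹ * (e : MulAut W) y with hf
  have hfF : f ∈ fixE E := by
    rw [← h]
    refine Subgroup.mem_inf.mpr ⟨R.mul_mem (R.inv_mem hy) (hPR.inv e e.2 y hy),
      Subgroup.mem_centralizer_iff.mpr fun x hx => ?_⟩
    have hcf : (e : MulAut W) ⁅x, y⁆ = ⁅x, y⁆ := hc x hx y hy e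
    rw [map_commutatorElement, hek x hx] at hcf
    simp only [commutatorElement_def] at hcf
    have h1 : (e : MulAut W) y * x⁻¹ * ((e : MulAut W) y)⁻¹ = y * x⁻¹ * y⁻¹ := by
      have := congrArg (fun t => x⁻¹ * t) hcf
      simpa only [mul_assoc, inv_mul_cancel_left] using this
    have h1' : (e : MulAut W) y * x * ((e : MulAut W) y)⁻¹ = y * x * y⁻¹ := by
      have := congrArg (fun t : W => t⁻¹) h1
      simpa only [mul_inv_rev, inv_inv, mul_assoc] using this
    show x * (y⁻¹ * (e : MulAut W) y) = y⁻¹ * (e : MulAut W) y * x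
    calc x * (y⁻¹ * (e : MulAut W) y) = y⁻¹ * (y * x * y⁻¹) * (e : MulAut W) y := by group
      _ = y⁻¹ * ((e : MulAut W) y * x * ((e : MulAut W) y)⁻¹) * (e : MulAut W) y := by rw [h1']
      _ = y⁻¹ * (e : MulAut W) y * x := by group
  have hey : (e : MulAut W) y = y * f := by rw [hf]; group
  have hef : (e : MulAut W) f = f := hfF e
  have hit : ∀ n : ℕ, ((e : MulAut W) ^ n) y = y * f ^ n := by
    intro n
    induction n with
    | zero => simp
    | succ n ih => rw [pow_succ', MulAut.mul_apply, ih, map_mul, map_pow, hef, hey, mul_assoc,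
        ← pow_succ']
  have hn := hit (orderOf (e : MulAut W))
  rw [pow_orderOf_eq_one, MulAut.one_apply] at hn
  have hfn : f ^ orderOf (e : MulAut W) = 1 := mul_eq_left.mp hn.symm
  have hf2 : orderOf f ∣ 2 := by
    have := orderOf_dvd_natCard (⟨f, hfF⟩ : fixE E)
    rw [hPQ.fix2, ← Subgroup.orderOf_coe] at this
    exact this
  have hodd : Odd (orderOf (e : MulAut W)) := by
    obtain ⟨k, hk⟩ := IsPGroup.iff_orderOf.mp hE e
    rw [Subgroup.orderOf_coe, hk]
    exact ((Fact.out : p.Prime).odd_of_ne_two hp).pow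
  have hf1 : f = 1 := orderOf_eq_one_iff.mp (Nat.dvd_one.mp (by
    have hg : orderOf f ∣ Nat.gcd 2 (orderOf (e : MulAut W)) :=
      Nat.dvd_gcd hf2 (orderOf_dvd_of_pow_eq_one hfn)
    rwa [Nat.Coprime.gcd_eq_one (Nat.coprime_two_left.mpr hodd)] at hg))
  rw [hey, hf1, mul_one]

/-- The elements of `U` commuting with `U` modulo the central involution. -/
def zTwo (U : Subgroup W) (hz : fixE E ≤ Subgroup.center W) : Subgroup W where
  carrier := {x | x ∈ U ∧ ∀ u ∈ U, ⁅x, u⁆ ∈ fixE E}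
  one_mem' := ⟨one_mem _, fun u _ => by rw [commutatorElement_one_left]; exact one_mem _⟩
  mul_mem' := fun {x y} hx hy => ⟨mul_mem hx.1 hy.1, fun u hu => by
    have h : ⁅x * y, u⁆ = (x * ⁅y, u⁆ * x⁻¹) * ⁅x, u⁆ := by
      simp only [commutatorElement_def]; group
    rw [h, Subgroup.mem_center_iff.mp (hz (hy.2 u hu)) x, mul_assoc ⁅y, u⁆ x x⁻¹, mul_inv_cancel,
      mul_one]
    exact mul_mem (hy.2 u hu) (hx.2 u hu)⟩
  inv_mem' := fun {x} hx => ⟨inv_mem hx.1, fun u hu => by
    have h : ⁅x⁻¹, u⁆ = x⁻¹ * ⁅x, u⁆⁻¹ * x := by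
      simp only [commutatorElement_def]; group
    rw [h, Subgroup.mem_center_iff.mp (hz (inv_mem (hx.2 u hu))) x⁻¹, mul_assoc, inv_mul_cancel,
      mul_one]
    exact inv_mem (hx.2 u hu)⟩

theorem zTwo_inv {U : Subgroup W} (hU : Inv' E U) (hz : fixE E ≤ Subgroup.center W) :
    Inv' E (zTwo U hz) := fun e he x hx => ⟨hU e he x hx.1, fun u hu => by
  have h := fixE_inv E e he _ (hx.2 (e⁻¹ u) (hU e⁻¹ (inv_mem he) u hu))
  rwa [map_commutatorElement, MulAut.apply_inv_self] at h⟩

include hW hp hE hnc hP in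
theorem pairwise_comm (hz : fixE E ≤ Subgroup.center W) : ∀ (n : ℕ) (U : Subgroup W),
    Nat.card U = n → Inv' E U → fixE E ≤ U → ∀ Q ∈ pieces E, ∀ R ∈ pieces E, Q ≤ U → R ≤ U →
      Q ≠ R → R ≤ Subgroup.centralizer (Q : Set W) := by
  intro n
  induction n using Nat.strong_induction_on with
  | _ n ih =>
    intro U hn hU hFU Q hQ R hR hQU hRU hne
    have hUF : U ≠ fixE E := fun h => by
      obtain ⟨f, -, -, rfl, hnle⟩ := hQ
      exact hnle (h ▸ hQU)
    haveI hN : ((fixE E).subgroupOf U).Normal :=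
      ⟨fun m hm g => by
        show (g : W) * (m : W) * (g : W)⁻¹ ∈ fixE E
        rw [Subgroup.mem_center_iff.mp (hz (Subgroup.mem_subgroupOf.mp hm : (m : W) ∈ fixE E)) g, mul_assoc,
          mul_inv_cancel, mul_one]
        exact hm⟩
    haveI : Nontrivial (U ⧸ (fixE E).subgroupOf U) := by
      refine QuotientGroup.nontrivial_iff.mpr fun h => hUF (le_antisymm ?_ hFU)
      exact Subgroup.subgroupOf_eq_top.mp h
    haveI : Fact (Nat.Prime 2) := ⟨Nat.prime_two⟩
    haveI hnt : Nontrivial (Subgroup.center (U ⧸ (fixE E).subgroupOf U)) :=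
      ((hW.to_subgroup U).to_quotient _).center_nontrivial
    obtain ⟨⟨c, hc⟩, hc1⟩ := exists_ne (1 : Subgroup.center (U ⧸ (fixE E).subgroupOf U))
    obtain ⟨x, rfl⟩ := QuotientGroup.mk_surjective c
    have hxF : (x : W) ∉ fixE E := fun h => hc1 (Subtype.ext
      ((QuotientGroup.eq_one_iff x).mpr h))
    have hx2 : (x : W) ∈ zTwo U hz := ⟨x.2, fun u hu => by
      have h := (Subgroup.mem_center_iff.mp hc ((⟨u, hu⟩ : U) : U ⧸ (fixE E).subgroupOf U)).symm
      rw [← commutatorElement_eq_one_iff_mul_comm] at h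
      exact (QuotientGroup.eq_one_iff (⁅x, ⟨u, hu⟩⁆ : U)).mp
        ((map_commutatorElement (QuotientGroup.mk' ((fixE E).subgroupOf U)) x ⟨u, hu⟩).trans h)⟩
    have hFZ : fixE E ≤ zTwo U hz := fun f hf => ⟨hFU hf, fun u _ => by
      rw [commutatorElement_eq_one_iff_mul_comm.mpr (Subgroup.mem_center_iff.mp (hz hf) u).symm]
      exact one_mem _⟩
    obtain ⟨Q₀, hQ₀, hQ₀Z⟩ := exists_piece hW hp hE hnc hP (zTwo_inv hU hz) hFZ
      (fun h => hxF (h ▸ hx2))
    have key : ∀ R₁ ∈ pieces E, R₁ ≤ U → Q₀ ≠ R₁ → R₁ ≤ Subgroup.centralizer (Q₀ : Set W) :=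
      fun R₁ hR₁ hR₁U hne₁ => comm_le hW hp hE hnc hP hQ₀ hR₁ hne₁ hz
        fun a ha b hb => (hQ₀Z ha).2 b (hR₁U hb)
    by_cases hQ0 : Q₀ = Q
    · subst hQ0; exact key R hR hRU hne
    by_cases hR0 : Q₀ = R
    · subst hR0
      have h := key Q hQ hQU hQ0
      exact Subgroup.le_centralizer_iff.mp h
    have hU' : Inv' E (U ⊓ Subgroup.centralizer (Q₀ : Set W)) :=
      inv_inf hU (inv_centralizer (hP Q₀ hQ₀).inv)
    have hlt : Nat.card (U ⊓ Subgroup.centralizer (Q₀ : Set W) : Subgroup W) < n := by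
      rw [← hn]
      refine lt_of_le_of_ne (Subgroup.card_le_of_le inf_le_left) fun h => ?_
      have he := Subgroup.eq_of_le_of_card_ge inf_le_left h.ge
      obtain ⟨u, hu, v, hv, huv⟩ := (hP Q₀ hQ₀).nab
      have h2 : v ∈ U ⊓ Subgroup.centralizer (Q₀ : Set W) := he.symm ▸ (hQ₀Z hv).1
      exact huv (Subgroup.mem_centralizer_iff.mp h2.2 u hu)
    exact ih _ hlt _ rfl hU' (le_inf hFU (hz.trans (Subgroup.center_le_centralizer _))) Q hQ R hR
      (le_inf hQU (key Q hQ hQU hQ0)) (le_inf hRU (key R hR hRU hR0)) hne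

include hW hp hE hnc hP in
theorem card_sup (hz : fixE E ≤ Subgroup.center W)
    (hcomm : ∀ Q ∈ pieces E, ∀ R ∈ pieces E, Q ≠ R → R ≤ Subgroup.centralizer (Q : Set W))
    (hF2 : Nat.card (fixE E) = 2) :
    ∀ s : Finset (Subgroup W), (∀ Q ∈ s, Q ∈ pieces E) →
      Nat.card (fixE E ⊔ s.sup id : Subgroup W) = 2 * 4 ^ s.card := by
  classical
  intro s
  induction s using Finset.induction_on with
  | empty => intro _; simpa using hF2
  | @insert Q s hQs ih =>
    intro hs
    have hQ := hs Q (Finset.mem_insert_self _ _)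
    have hPQ := hP Q hQ
    have hle : fixE E ⊔ s.sup id ≤ Subgroup.centralizer (Q : Set W) :=
      sup_le (hz.trans (Subgroup.center_le_centralizer _)) (Finset.sup_le fun R hR =>
        hcomm Q hQ R (hs R (Finset.mem_insert_of_mem hR)) fun h => hQs (h ▸ hR))
    have hinf : Q ⊓ (fixE E ⊔ s.sup id) = fixE E := by
      refine le_antisymm ?_ (le_inf hPQ.fixle le_sup_left)
      rcases hPQ.cases (Q ⊓ Subgroup.centralizer (Q : Set W))
        (inv_inf hPQ.inv (inv_centralizer hPQ.inv))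
        (le_inf hPQ.fixle (hz.trans (Subgroup.center_le_centralizer _))) inf_le_left with h | h
      · exact (inf_le_inf_left Q hle).trans h.le
      · obtain ⟨u, hu, v, hv, huv⟩ := hPQ.nab
        exact absurd (Subgroup.mem_centralizer_iff.mp ((inf_eq_left.mp h) hv) u hu) huv
    have h := Coprime.card_sup_mul_card_inf (N := Q) (H := fixE E ⊔ s.sup id)
      (hle.trans (Subgroup.centralizer_le_normalizer _))
    rw [hinf, hF2, hPQ.card, ih fun R hR => hs R (Finset.mem_insert_of_mem hR)] at h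
    have e1 : fixE E ⊔ (insert Q s).sup id = Q ⊔ (fixE E ⊔ s.sup id) := by
      rw [Finset.sup_insert, id, sup_left_comm]
    rw [e1, Finset.card_insert_of_notMem hQs, pow_succ]
    linarith

include hW hp hE hnc hP in
theorem main (hne : ∃ Q, Q ∈ pieces E) :
    Nat.card E = 9 ∧ Cfsg.IsExtraspecial 2 W ∧
      (Nat.card W = 2 ^ 5 ∨ Nat.card W = 2 ^ 7 ∨ Nat.card W = 2 ^ 9) ∧
      {x : W | ∀ e ∈ E, e x = x} = (Subgroup.center W : Set W) := by
  classical
  obtain ⟨Q₁, hQ₁⟩ := hne
  have hF2 := (hP Q₁ hQ₁).fix2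
  have htopi : Inv' E (⊤ : Subgroup W) := fun _ _ _ _ => Subgroup.mem_top _
  have hdt := decomp hW hp hE hnc hP htopi le_top
  have hz : fixE E ≤ Subgroup.center W := central hP hdt hQ₁
  have hcomm : ∀ Q ∈ pieces E, ∀ R ∈ pieces E, Q ≠ R → R ≤ Subgroup.centralizer (Q : Set W) :=
    fun Q hQ R hR h => pairwise_comm hW hp hE hnc hP hz _ ⊤ rfl htopi le_top Q hQ R hR le_top le_top h
  haveI : Fintype (pieces E) := Fintype.ofFinite _
  set s : Finset (Subgroup W) := (pieces E).toFinset with hs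
  have htop : fixE E ⊔ s.sup id = ⊤ := top_le_iff.mp (hdt.trans (sup_le le_sup_left
    (iSup₂_le fun Q hQ => le_sup_of_le_right
      (Finset.le_sup (f := id) (Set.mem_toFinset.mpr hQ.1)))))
  have hcard : Nat.card W = 2 * 4 ^ s.card := by
    have := card_sup hW hp hE hnc hP hz hcomm hF2 s fun Q hQ => Set.mem_toFinset.mp hQ
    rwa [htop, Subgroup.card_top] at this
  have hkerfix : ∀ Q ∈ pieces E, ∀ R ∈ pieces E, ∀ e : E, e ≠ 1 → e ∈ kerQ E Q → e ∈ kerQ E R →
      Q = R := fun Q hQ R hR e he hq hr =>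
    (mem_pieces_eq hQ (hP Q hQ) he hq hP).symm.trans (mem_pieces_eq hR (hP R hR) he hr hP)
  obtain ⟨Q₂, hQ₂, h12⟩ : ∃ Q₂ ∈ pieces E, Q₁ ≠ Q₂ := by
    by_contra hall
    push Not at hall
    have htQ : (⊤ : Subgroup W) ≤ Q₁ := hdt.trans (sup_le (hP Q₁ hQ₁).fixle
      (iSup₂_le fun Q hQ => (hall Q hQ.1).ge))
    obtain ⟨e, hek, he1⟩ := ker_ne_bot hE hnc hP hQ₁
    exact he1 (Subtype.ext (MulEquiv.ext fun x => hek x (htQ (Subgroup.mem_top x))))
  have hp3 := (hP Q₁ hQ₁).three
  have hinf : ∀ Q ∈ pieces E, ∀ R ∈ pieces E, Q ≠ R → kerQ E Q ⊓ kerQ E R = ⊥ :=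
    fun Q hQ R hR h => (Subgroup.eq_bot_iff_forall _).mpr fun e he => by
      by_contra h1
      exact h (hkerfix Q hQ R hR e h1 he.1 he.2)
  have hEcard : Nat.card E = 9 := by
    have h := Subgroup.index_inf_le (H := kerQ E Q₁) (K := kerQ E Q₂)
    rw [hinf _ hQ₁ _ hQ₂ h12, Subgroup.index_bot, (hP Q₁ hQ₁).ker, (hP Q₂ hQ₂).ker] at h
    obtain ⟨a, ha⟩ := hE.exists_card_eq
    rw [hp3] at ha
    have ha2 : 2 ≤ a := by
      by_contra hlt
      rcases Nat.eq_zero_or_pos a with rfl | h0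
      · haveI : Subsingleton E := (Nat.card_eq_one_iff_unique.mp (by simpa using ha)).1
        exact hnc inferInstance
      · obtain rfl : a = 1 := by omega
        haveI : Fact (Nat.Prime 3) := ⟨Nat.prime_three⟩
        exact hnc (isCyclic_of_prime_card (by simpa using ha))
    have : 3 ^ a ≤ 3 ^ 2 := by rw [← ha]; norm_num at h ⊢; omega
    have := (Nat.pow_le_pow_iff_right (by norm_num)).mp this
    rw [ha, show a = 2 by omega]; norm_num
  have hk4 : 2 * s.card ≤ 8 := by
    haveI : Fintype E := Fintype.ofFinite _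
    have hcK : ∀ Q ∈ s, 2 * 1 ≤ ((Finset.univ.filter fun e : E => e ∈ kerQ E Q).erase 1).card := by
      intro Q hQ
      rw [Finset.card_erase_of_mem (by simp [one_mem]), ← Fintype.card_subtype,
        ← Nat.card_eq_fintype_card]
      have := Subgroup.card_mul_index (kerQ E Q)
      rw [(hP Q (Set.mem_toFinset.mp hQ)).ker, hEcard] at this
      omega
    have hdis : (s : Set (Subgroup W)).PairwiseDisjoint
        fun Q => (Finset.univ.filter fun e : E => e ∈ kerQ E Q).erase 1 := by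
      intro Q hQ R hR h
      rw [Function.onFun, Finset.disjoint_left]
      intro e he he'
      rw [Finset.mem_erase, Finset.mem_filter] at he he'
      exact h (hkerfix Q (Set.mem_toFinset.mp hQ) R (Set.mem_toFinset.mp hR) e he.1 he.2.2 he'.2.2)
    calc 2 * s.card = ∑ Q ∈ s, 2 * 1 := by simp [mul_comm]
      _ ≤ ∑ Q ∈ s, ((Finset.univ.filter fun e : E => e ∈ kerQ E Q).erase 1).card :=
          Finset.sum_le_sum hcK
      _ = (s.biUnion fun Q => (Finset.univ.filter fun e : E => e ∈ kerQ E Q).erase 1).card :=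
          (Finset.card_biUnion hdis).symm
      _ ≤ ((Finset.univ : Finset E).erase 1).card := Finset.card_le_card fun e he => by
          simp only [Finset.mem_biUnion, Finset.mem_erase] at he ⊢
          obtain ⟨Q, -, h1, -⟩ := he
          exact ⟨h1, Finset.mem_univ _⟩
      _ = 8 := by
          rw [Finset.card_erase_of_mem (Finset.mem_univ _), Finset.card_univ,
            ← Nat.card_eq_fintype_card, hEcard]
  have hk2 : 2 ≤ s.card := by
    have : ({Q₁, Q₂} : Finset (Subgroup W)) ⊆ s := by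
      intro Q hQ
      rcases Finset.mem_insert.mp hQ with rfl | hQ
      · exact Set.mem_toFinset.mpr hQ₁
      · rw [Finset.mem_singleton.mp hQ]; exact Set.mem_toFinset.mpr hQ₂
    simpa [h12] using Finset.card_le_card this
  have hcenter : Subgroup.center W = fixE E := by
    by_contra hne'
    obtain ⟨Q, hQ, hQc⟩ := exists_piece hW hp hE hnc hP (U := Subgroup.center W)
      (fun e _ x hx => Subgroup.mem_center_iff.mpr fun w => by
        obtain ⟨v, rfl⟩ := e.surjective w
        rw [← map_mul, ← map_mul, Subgroup.mem_center_iff.mp hx v]) hz hne'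
    obtain ⟨u, hu, v, hv, huv⟩ := (hP Q hQ).nab
    exact huv (Subgroup.mem_center_iff.mp (hQc hv) u)
  have hcom : ∀ x y : W, ⁅x, y⁆ ∈ fixE E := by
    have hall : (⊤ : Subgroup W) ≤ zTwo ⊤ hz := by
      refine hdt.trans (sup_le (fun f hf => ⟨trivial, fun u _ => ?_⟩) (iSup₂_le fun Q hQ x hx => ⟨trivial, fun u _ => ?_⟩))
      · rw [commutatorElement_eq_one_iff_mul_comm.mpr (Subgroup.mem_center_iff.mp (hz hf) u).symm]
        exact one_mem _
      · let S : Subgroup W :=
          { carrier := {w | ⁅x, w⁆ ∈ fixE E}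
            one_mem' := by simp [commutatorElement_one_right, one_mem]
            mul_mem' := fun {a b} ha hb => by
              show ⁅x, a * b⁆ ∈ fixE E
              have h : ⁅x, a * b⁆ = ⁅x, a⁆ * (a * ⁅x, b⁆ * a⁻¹) := by
                simp only [commutatorElement_def]; group
              rw [h, Subgroup.mem_center_iff.mp (hz hb) a, mul_assoc ⁅x, b⁆ a a⁻¹, mul_inv_cancel,
                mul_one]
              exact mul_mem ha hb
            inv_mem' := fun {a} ha => by
              show ⁅x, a⁻¹⁆ ∈ fixE E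
              have h : ⁅x, a⁻¹⁆ = a⁻¹ * ⁅x, a⁆⁻¹ * a := by
                simp only [commutatorElement_def]; group
              rw [h, Subgroup.mem_center_iff.mp (hz (inv_mem ha)) a⁻¹, mul_assoc, inv_mul_cancel,
                mul_one]
              exact inv_mem ha }
        refine (show (⊤ : Subgroup W) ≤ S from hdt.trans (sup_le (fun f hf => ?_)
          (iSup₂_le fun R hR r hr => ?_))) (Subgroup.mem_top u)
        · show ⁅x, f⁆ ∈ fixE E
          rw [commutatorElement_eq_one_iff_mul_comm.mpr (Subgroup.mem_center_iff.mp (hz hf) x)]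
          exact one_mem _
        · show ⁅x, r⁆ ∈ fixE E
          by_cases hQR : Q = R
          · subst hQR; exact (hP Q hQ.1).comm x hx r hr
          · rw [commutatorElement_eq_one_iff_mul_comm.mpr
              (Subgroup.mem_centralizer_iff.mp (hcomm Q hQ.1 R hR.1 hQR hr) x hx)]
            exact one_mem _
    exact fun x y => (hall (Subgroup.mem_top x)).2 y (Subgroup.mem_top y)
  have hsq : ∀ x : W, x * x ∈ fixE E := by
    let S : Subgroup W :=
      { carrier := {w | w * w ∈ fixE E}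
        one_mem' := by simp [one_mem]
        mul_mem' := fun {a b} ha hb => by
          show a * b * (a * b) ∈ fixE E
          have h : a * b * (a * b) = (a * ⁅b, a⁆ * a⁻¹) * (a * a * (b * b)) := by
            simp only [commutatorElement_def]; group
          rw [h, Subgroup.mem_center_iff.mp (hz (hcom b a)) a, mul_assoc ⁅b, a⁆ a a⁻¹,
            mul_inv_cancel, mul_one]
          exact mul_mem (hcom b a) (mul_mem ha hb)
        inv_mem' := fun {a} ha => by
          show a⁻¹ * a⁻¹ ∈ fixE E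
          rw [← mul_inv_rev]; exact inv_mem ha }
    exact fun x => (show (⊤ : Subgroup W) ≤ S from hdt.trans (sup_le
      (fun f hf => mul_mem hf hf) (iSup₂_le fun R hR r hr => (hP R hR.1).sq r hr)))
        (Subgroup.mem_top x)
  refine ⟨hEcard, ?_, ?_, ?_⟩
  · haveI : Fact (Nat.Prime 2) := ⟨Nat.prime_two⟩
    refine PGroups.SymplecticType.isExtraspecial_of hW (fun h => ?_) (by rw [hcenter, hF2]) ?_ ?_
    · obtain ⟨u, -, v, -, huv⟩ := (hP Q₁ hQ₁).nab
      exact huv (h.is_comm.comm u v)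
    · rw [hcenter, commutator_def, Subgroup.commutator_le]
      exact fun x _ y _ => hcom x y
    · intro x; rw [hcenter, pow_two]; exact hsq x
  · rw [hcard]
    have : s.card ≤ 4 := by omega
    interval_cases h : s.card <;> norm_num
  · rw [hcenter]
    ext x
    exact ⟨fun h e => h e e.2, fun h e he => h ⟨e, he⟩⟩

end Setting

/-- Let p be an odd prime, W a finite 2-group and E a non-cyclic abelian p-subgroup of Aut(W) such that, for every nontrivial e ∈ E, the fixed points of e in W contain at most one involution. Then E has order 9, W is extraspecial of order 2⁵, 2⁷ or 2⁹, and the common fixed points of E in W form exactly the centre Z(W). -/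
theorem result {W : Type*} [Group W] [Finite W] (hW : IsPGroup 2 W) {p : ℕ} [Fact p.Prime] (hp : p ≠ 2) (E : Subgroup (MulAut W)) (hE : IsPGroup p ↥E) (hab : IsMulCommutative ↥E) (hnc : ¬ IsCyclic ↥E) (hfix : ∀ e ∈ E, e ≠ 1 → ∀ x y : W, orderOf x = 2 → orderOf y = 2 → e x = x → e y = y → x = y) : Nat.card ↥E = 9 ∧ Cfsg.IsExtraspecial 2 W ∧ (Nat.card W = 2 ^ 5 ∨ Nat.card W = 2 ^ 7 ∨ Nat.card W = 2 ^ 9) ∧ {x : W | ∀ e ∈ E, e x = x} = (Subgroup.center W : Set W) := by
  haveI := hab
  have hP : ∀ Q ∈ pieces E, Piece (p := p) E Q := fun Q hQ => piece hW hp hE hfix hQ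
  refine main hW hp hE hnc hP ?_
  by_contra hne
  have hdt := decomp hW hp hE hnc hP (U := (⊤ : Subgroup W)) (fun _ _ _ _ => Subgroup.mem_top _) le_top
  have htop : (⊤ : Subgroup W) ≤ fixE E :=
    hdt.trans (sup_le le_rfl (iSup₂_le fun Q hQ => absurd ⟨Q, hQ.1⟩ hne))
  haveI : Subsingleton E := ⟨fun a b => Subtype.ext (MulEquiv.ext fun x =>
    (htop (Subgroup.mem_top x) a).trans (htop (Subgroup.mem_top x) b).symm)⟩
  exact hnc inferInstance

end Cfsg.Agent.S2934
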