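import Cfsg.Statements.S2940
import Cfsg.Agent.Lib.LocalEven2.SylowControl

set_option autoImplicit false
open Cfsg

namespace Cfsg.Agent.S2940

/-- Let S be a Sylow p-subgroup of the finite group G and G₁, G₂ subgroups containing S with G = G₁G₂. Then for every g ∈ G there is a Sylow p-subgroup U of G with S ∩ S^g ≤ U ≤ G₁ ∩ G₂^g (conjugates taken as X^g = g⁻¹Xg). -/
theorem result {G : Type*} [Group G] [Finite G] {p : ℕ} [Fact p.Prime] (S : Sylow p G) (G₁ G₂ : Subgroup G) (h1 : (S : Subgroup G) ≤ G₁) (h2 : (S : Subgroup G) ≤ G₂) (hfact : ∀ g : G, ∃ g₁ ∈ G₁, ∃ g₂ ∈ G₂, g = g₁ * g₂) (g : G) : ∃ U : Sylow p G, (S : Subgroup G) ⊓ Cfsg.subgroupConjRight g (S : Subgroup G) ≤ (U : Subgroup G) ∧ (U : Subgroup G) ≤ G₁ ⊓ Cfsg.subgroupConjRight g G₂ := by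
  obtain ⟨g₁, hg₁, g₂, hg₂, hgg⟩ := hfact g⁻¹
  have hg : g = g₂⁻¹ * g₁⁻¹ := by rw [← inv_inj, hgg]; group
  set b := g₁⁻¹ with hb
  set H := G₁ ⊓ Cfsg.subgroupConjRight g G₂ with hH
  have hSb : ((b⁻¹ • S : Sylow p G) : Subgroup G) ≤ H := by
    intro y hy
    have hy' : b * y * b⁻¹ ∈ (S : Subgroup G) := by
      simpa using Lib.LocalEven2.mem_smul_sylow.mp hy
    refine ⟨?_, Lib.LocalEven2.mem_subgroupConjRight.mpr ?_⟩
    · have := G₁.mul_mem (G₁.mul_mem hg₁ (h1 hy')) (inv_mem hg₁)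
      simpa [hb, mul_assoc] using this
    · have := G₂.mul_mem (G₂.mul_mem (inv_mem hg₂) (h2 hy')) hg₂
      simpa [hg, hb, mul_assoc] using this
  have hR : (S : Subgroup G) ⊓ Cfsg.subgroupConjRight g (S : Subgroup G) ≤ H :=
    le_inf (inf_le_left.trans h1)
      (inf_le_right.trans (Lib.LocalEven2.subgroupConjRight_mono g h2))
  obtain ⟨h, hh, hle⟩ :=
    Lib.LocalEven2.exists_conj_le (b⁻¹ • S) hSb S.2.to_inf_left hR
  refine ⟨h • b⁻¹ • S, hle, fun y hy => ?_⟩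
  have h3 := hSb (Lib.LocalEven2.mem_smul_sylow.mp hy)
  have := H.mul_mem (H.mul_mem hh h3) (inv_mem hh)
  simpa [mul_assoc] using this

end Cfsg.Agent.S2940
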