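import Cfsg.Statements.S2943
import Cfsg.Agent.Lib.LocalEven2.JOver

set_option autoImplicit false
open Cfsg

namespace Cfsg.Agent.S2943

open Cfsg.Agent.Lib Cfsg.Agent.Lib.LocalEven2

/-- Let G be a finite group of characteristic 2 type in which every 2-local subgroup is solvable and the centralizer of Ω₁(Z(S)) lies in N_G(S) for every Sylow 2-subgroup S, and let T be a nontrivial 2-subgroup (below, J is the Thompson subgroup generated by the elementary abelian 2-subgroups of largest order), L a subgroup in which T is a Sylow 2-subgroup with J(T) not contained in O₂(L) and C_G(O₂(L)) ≤ O₂(L), and K a J(T)-component contained in L. If Z(T) meets W_K = [Ω₁(Z(O₂(K))), K] nontrivially, then T normalizes K. -/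
theorem result {G : Type*} [Group G] [Finite G] (hL : Cfsg.IsCharacteristicTwoType G) (hN : ∀ N : Subgroup G, Cfsg.IsTwoLocal N → Group.IsSolvable ↥N)
    (hZ : ∀ S : Sylow 2 G, Subgroup.centralizer (Cfsg.omegaCenterOf (S : Subgroup G) : Set G) ≤ Subgroup.normalizer ((S : Subgroup G) : Set G)) (T : Subgroup G) (hT : IsPGroup 2 ↥T) (hT1 : T ≠ ⊥) (L : Subgroup G) (hLT : L ∈ Cfsg.jOvergroups T)
    (K : Subgroup G) (hK : Cfsg.IsJComponent T K) (hKL : K ≤ L)
    (hZW : T ⊓ Subgroup.centralizer (T : Set G) ⊓ Cfsg.wOf K ≠ ⊥) : T ≤ Subgroup.normalizer (K : Set G) := by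
  have c := jOver_ctx hL hN hZ hT1 hLT
  obtain ⟨k, hk, -, he⟩ := member_component hL hN hZ hT1 c hK hKL
  obtain ⟨⟨w, hw⟩, hw1⟩ := Subgroup.ne_bot_iff_exists_ne_one.mp hZW
  have hw1' : w ≠ 1 := fun h => hw1 (Subtype.ext h)
  obtain ⟨⟨-, hwc⟩, hwW⟩ := hw
  intro t ht
  have hWb := c.gen_isBlock hk
  have heq : (Cfsg.wOf K).map (MulAut.conj t).toMonoidHom = Cfsg.wOf K := by
    refine c.block_eq_of_meet (c.isBlock_conj hWb ⟨t, c.syl.1 ht⟩) hWb (x := w) ⟨w, hwW, ?_⟩ hwW hw1'
    show t * w * t⁻¹ = w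
    rw [Subgroup.mem_centralizer_iff.mp hwc t ht]; group
  have := (c.normalizes_kOf hk (c.syl.1 ht) (Subgroup.mem_normalizer_iff_map_conj_eq.mpr heq)).2
  rwa [← he] at this

end Cfsg.Agent.S2943
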