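import Cfsg.Statements.S2944
import Cfsg.Agent.Lib.LocalEven2.JOver

set_option autoImplicit false
open Cfsg

namespace Cfsg.Agent.S2944

open Cfsg.Agent.Lib Cfsg.Agent.Lib.LocalEven2

/-- Let G be a finite group of characteristic 2 type in which every 2-local subgroup is solvable and the centralizer of Ω₁(Z(S)) lies in N_G(S) for every Sylow 2-subgroup S, and let T be a nontrivial 2-subgroup (below, J is the Thompson subgroup generated by the elementary abelian 2-subgroups of largest order) and K a J(T)-component such that J(T) is the Thompson subgroup of every Sylow 2-subgroup of N_G(W_K) containing J(T), where W_K = [Ω₁(Z(O₂(K))), K]. Then N_G(K) = N_G(W_K), and K is a J(Tᵍ)-component for every conjugate Tᵍ of T with J(Tᵍ) ≤ N_G(W_K). -/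
theorem result {G : Type*} [Group G] [Finite G] (hL : Cfsg.IsCharacteristicTwoType G) (hN : ∀ N : Subgroup G, Cfsg.IsTwoLocal N → Group.IsSolvable ↥N)
    (hZ : ∀ S : Sylow 2 G, Subgroup.centralizer (Cfsg.omegaCenterOf (S : Subgroup G) : Set G) ≤ Subgroup.normalizer ((S : Subgroup G) : Set G)) (T : Subgroup G) (hT : IsPGroup 2 ↥T) (hT1 : T ≠ ⊥) (K : Subgroup G) (hK : K ∈ Cfsg.jComponentsZero T) :
    Subgroup.normalizer (K : Set G) = Subgroup.normalizer (Cfsg.wOf K : Set G) ∧
      ∀ g : G, Cfsg.thompsonSubgroupOf 2 (T.map (MulAut.conj g).toMonoidHom) ≤ Subgroup.normalizer (Cfsg.wOf K : Set G) →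
        Cfsg.IsJComponent (T.map (MulAut.conj g).toMonoidHom) K := by
  haveI : Fact (Nat.Prime 2) := ⟨Nat.prime_two⟩
  obtain ⟨hKc, hK0⟩ := hK
  set J := Cfsg.thompsonSubgroupOf 2 T with hJdef
  set W := Cfsg.wOf K with hWdef
  set N := Subgroup.normalizer (W : Set G) with hNdef
  have hKN : Subgroup.normalizer (K : Set G) ≤ N := jc_normalizer_le_normalizer_w
  have hJN : J ≤ N := (jc_j_le_normalizer hKc).trans hKN
  have hW2 : IsPGroup 2 ↥W := (pCoreOf_isPGroup K).to_le jc_w_le_q
  have hW1 : W ≠ ⊥ := fun h => by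
    have h4 := hKc.2.2.2.2.1
    rw [← hWdef, h, Subgroup.card_bot] at h4
    norm_num at h4
  obtain ⟨S, hS, hJS⟩ := LocalEven.exists_isSylowOf_le (p := 2) hJN
    (hT.to_le (thompsonSubgroupOf_le 2 T))
  have hSy := sylowTwo_of_isSylowOf hS
  have hJeq : Cfsg.thompsonSubgroupOf 2 S = J := hK0 S hJS hSy
  have hWN : W ≤ Cfsg.pCoreOf 2 N :=
    le_pCoreOf Subgroup.le_normalizer hW2 fun g hg x hx => conj_mem_of_normalizer hg hx
  have hS1 : S ≠ ⊥ := fun h => hW1 (le_bot_iff.mp (h ▸ hWN.trans hS.pCoreOf_le))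
  have c : JCtx S N := jctx_mk hN hZ hS1 hSy (twoLocal_charp hL ⟨W, hW2, hW1, rfl⟩)
  have hKS : Cfsg.IsJComponent S K := isJComponent_congr hJeq hKc
  obtain ⟨k, hk, -, he⟩ := member_component hL hN hZ hS1 c hKS (Subgroup.le_normalizer.trans hKN)
  have hle : N ≤ Subgroup.normalizer (K : Set G) := fun l hl => by
    have := (c.normalizes_kOf hk hl hl).2
    rwa [← he] at this
  refine ⟨le_antisymm hKN hle, fun g hg => ?_⟩
  set T' := T.map (MulAut.conj g).toMonoidHom with hT'
  set J' := Cfsg.thompsonSubgroupOf 2 T' with hJ'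
  obtain ⟨S', hS', hJS'⟩ := LocalEven.exists_isSylowOf_le (p := 2) hg
    ((hT.map (MulAut.conj g).toMonoidHom).to_le (thompsonSubgroupOf_le 2 T'))
  obtain ⟨x, hx, hxS⟩ := hS.exists_conj hS'
  have hxS' : S' = S.map (MulAut.conj x).toMonoidHom := by
    first | exact hxS.symm | exact hxS
  have hJS'eq : Cfsg.thompsonSubgroupOf 2 S' = J.map (MulAut.conj x).toMonoidHom := by
    rw [hxS', thompsonSubgroupOf_map_conj, hJeq]
  have hcard : ∀ (H : Subgroup G) (y : G),
      Nat.card ↥(H.map (MulAut.conj y).toMonoidHom) = Nat.card ↥H := fun H y =>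
    Subgroup.card_map_of_injective (MulAut.conj y).injective
  have hJ'eq : J' = Cfsg.thompsonSubgroupOf 2 S' := by
    refine Subgroup.eq_of_le_of_card_ge ?_ ?_
    · refine thompsonSubgroupOf_le_of fun A hA => ?_
      refine le_thompsonSubgroupOf ⟨(le_thompsonSubgroupOf hA).trans hJS', hA.2.1, fun B hB hBe => ?_⟩
      -- compare with largest subgroups of `S` and `T`
      obtain ⟨A₀, hA₀⟩ := exists_isMaxEA 2 T
      obtain ⟨B₀, hB₀⟩ := exists_isMaxEA 2 S
      have h1 : Nat.card ↥A₀ ≤ Nat.card ↥A := by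
        exact (hcard A₀ g).symm.le.trans ((hA₀.map_conj g).card_eq hA).le
      have h2 : Nat.card ↥B ≤ Nat.card ↥B₀ := by
        rw [hxS'] at hB
        exact (hB₀.map_conj x).2.2 B hB hBe |>.trans (hcard B₀ x).le
      have h3 : Nat.card ↥B₀ ≤ Nat.card ↥A₀ :=
        hA₀.2.2 B₀ (((le_thompsonSubgroupOf hB₀).trans hJeq.le).trans (thompsonSubgroupOf_le 2 T))
          hB₀.2.1
      omega
    · rw [hJS'eq, hcard, hJ', hT', thompsonSubgroupOf_map_conj, hcard]
  have hK' := isJComponent_map_conj hKc (hle hx)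
  refine isJComponent_congr ?_ hK'
  rw [← hJ', hJ'eq, hJS'eq, thompsonSubgroupOf_map_conj]

end Cfsg.Agent.S2944
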