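import Cfsg.Statements.S2955
import Cfsg.Agent.Lib.LocalEven2.SylowControl

set_option autoImplicit false
open Cfsg

namespace Cfsg.Agent.S2955

/-- Let p be a prime dividing the order of the finite group G and 𝓕 a conjugation-closed family of subgroups that controls Sylow p-intersections in G. Suppose the Sylow p-subgroups of G are chain-connected: any two of them are joined by a chain of Sylow p-subgroups, consecutive ones distinct with nontrivial intersection, all containing the intersection of the two ends (equivalently, the graph on the Sylow p-subgroups whose edges are the distinct pairs meeting nontrivially is connected). Then for every Sylow p-subgroup S, G is generated by N_G(S) together with the members of 𝓕 that meet S in a Sylow p-subgroup of themselves. -/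
theorem result {G : Type*} [Group G] [Finite G] (p : ℕ) [Fact p.Prime] (hdiv : p ∣ Nat.card G)
    (𝓕 : Set (Subgroup G)) (h𝓕 : Cfsg.IsNormalSet 𝓕) (hc : Cfsg.ControlsSylowIntersections p 𝓕)
    (hconn : Cfsg.IsSylowChainConnected p G) (S : Sylow p G) :
    (⨆ X ∈ Cfsg.sylowMembers p 𝓕 (S : Subgroup G), X) ⊔ Subgroup.normalizer ((S : Subgroup G) : Set G) = ⊤ := by
  set H := (⨆ X ∈ Cfsg.sylowMembers p 𝓕 (S : Subgroup G), X) ⊔
    Subgroup.normalizer ((S : Subgroup G) : Set G) with hH
  have hfus := Lib.LocalEven2.stronglyControls_of_controls h𝓕 hc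
  have hmeet : ∀ T : Sylow p G, (S : Subgroup G) ⊓ (T : Subgroup G) ≠ ⊥ → ∃ g ∈ H, g • S = T := by
    intro T hT
    obtain ⟨g, rfl⟩ := MulAction.exists_smul_eq G S T
    obtain ⟨a, ha, ha1⟩ := Lib.LocalEven2.exists_ne_one_of_ne_bot' hT
    obtain ⟨n, Y, y, y₀, hy₀, hY, hg, -⟩ := hfus S {a} g
      (by simpa using ha.1) ⟨a, rfl, ha1⟩ (by
        rintro _ ⟨z, rfl, rfl⟩
        exact Lib.LocalEven2.mem_smul_sylow.mp ha.2)
    refine ⟨g, ?_, rfl⟩
    rw [hg]
    refine mul_mem (list_prod_mem fun z hz => ?_) (Subgroup.mem_sup_right hy₀)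
    obtain ⟨i, rfl⟩ := List.mem_ofFn.mp hz
    refine Subgroup.mem_sup_left ?_
    exact (le_iSup₂ (f := fun (X : Subgroup G)
      (_ : X ∈ Cfsg.sylowMembers p 𝓕 (S : Subgroup G)) => X) (Y i) (hY i).1) (hY i).2
  rw [eq_top_iff]
  intro g _
  obtain ⟨n, c, hc0, hcn, -, hstep⟩ := hconn S (g • S)
  have key : ∀ i : Fin (n + 1), ∃ h ∈ H, h • S = c i := by
    intro i
    induction i using Fin.induction with
    | zero => exact ⟨1, one_mem H, by rw [one_smul, hc0]⟩
    | succ i ih =>
      obtain ⟨h, hh, hhS⟩ := ih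
      have hne : (S : Subgroup G) ⊓ ((h⁻¹ • c i.succ : Sylow p G) : Subgroup G) ≠ ⊥ := by
        obtain ⟨z, hz, hz1⟩ := Lib.LocalEven2.exists_ne_one_of_ne_bot' (hstep i).2
        rw [← hhS] at hz
        refine fun hbot => hz1 ?_
        have h1 : h⁻¹ * z * h = 1 := Subgroup.mem_bot.mp (hbot ▸
          ⟨Lib.LocalEven2.mem_smul_sylow.mp hz.1,
            Lib.LocalEven2.mem_smul_sylow.mpr (by
              rw [inv_inv, show h * (h⁻¹ * z * h) * h⁻¹ = z by group]
              exact hz.2)⟩)
        calc z = h * (h⁻¹ * z * h) * h⁻¹ := by group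
          _ = 1 := by rw [h1]; group
      obtain ⟨g', hg', hg'S⟩ := hmeet _ hne
      exact ⟨h * g', mul_mem hh hg', by rw [mul_smul, hg'S, smul_inv_smul]⟩
  obtain ⟨h, hh, hhS⟩ := key (Fin.last n)
  rw [hcn] at hhS
  have h1 : h⁻¹ * g ∈ H := by
    refine Subgroup.mem_sup_right (Sylow.smul_eq_iff_mem_normalizer.mp ?_)
    rw [mul_smul, ← hhS, inv_smul_smul]
  simpa using mul_mem hh h1

end Cfsg.Agent.S2955
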