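import Cfsg.Statements.S2956
import Cfsg.Agent.Lib.LocalEven2.Chains
import Cfsg.Agent.Lib.Transfer.Frobenius

set_option autoImplicit false
open Cfsg

namespace Cfsg.Agent.S2956

/-- Intersections larger than `D` are linked. -/
def Big {G : Type*} [Group G] (p : ℕ) (𝓕 : Set (Subgroup G)) (D : Subgroup G) : Prop :=
  ∀ (A B : Sylow p G) (Q : Subgroup G), D ≤ Q → Nat.card ↥D < Nat.card ↥Q →
    Q ≤ (A : Subgroup G) → Q ≤ (B : Subgroup G) → Lib.LocalEven2.Linked p 𝓕 D A B

theorem card_lt {G : Type*} [Group G] [Finite G] {A B : Subgroup G} (h : A < B) :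
    Nat.card ↥A < Nat.card ↥B := by
  by_contra hc
  exact h.ne (Subgroup.eq_of_le_of_card_ge h.le (not_lt.mp hc))

theorem card_map_sylow {G : Type*} [Group G] {p : ℕ} {M : Subgroup G} (P : Sylow p ↥M) :
    Nat.card ↥((P : Subgroup ↥M).map M.subtype) = Nat.card ↥(P : Subgroup ↥M) :=
  (Nat.card_congr ((P : Subgroup ↥M).equivMapOfInjective _ M.subtype_injective).toEquiv).symm

/-- Maximal `p`-local subgroups above a normalizer. -/
theorem exists_maximalPLocal {G : Type*} [Group G] [Finite G] {p : ℕ} {D : Subgroup G}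
    (hD : IsPGroup p ↥D) (hne : D ≠ ⊥) :
    ∃ M, Subgroup.normalizer (D : Set G) ≤ M ∧ Cfsg.IsMaximalPLocal p M := by
  obtain ⟨M, hM, hmax⟩ := (Set.toFinite {N : Subgroup G | Cfsg.IsPLocal p N}).exists_le_maximal
    (a := Subgroup.normalizer (D : Set G)) ⟨D, hD, hne, rfl⟩
  exact ⟨M, hM, hmax.prop, fun N hN hMN => le_antisymm (hmax.le_of_ge hN hMN) hMN⟩

/-- A Sylow subgroup of `G` cutting a Sylow subgroup of `M` above a given `p`-subgroup. -/
theorem exists_sylow_inf {G : Type*} [Group G] {p : ℕ} {M Q : Subgroup G}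
    (hQ : IsPGroup p ↥Q) (hQM : Q ≤ M) :
    ∃ (A : Sylow p G) (P : Sylow p ↥M), Q ≤ (A : Subgroup G) ⊓ M ∧
      (P : Subgroup ↥M).map M.subtype = (A : Subgroup G) ⊓ M := by
  obtain ⟨P, hP⟩ := (hQ.comap_subtype (K := M)).exists_le_sylow
  obtain ⟨A, hA⟩ := (P.2.map M.subtype).exists_le_sylow
  refine ⟨A, P, ?_, le_antisymm (le_inf hA (Subgroup.map_subtype_le _)) ?_⟩
  · intro x hx
    exact ⟨hA ⟨⟨x, hQM hx⟩, hP hx, rfl⟩, hQM hx⟩
  · rintro x ⟨hxA, hxM⟩
    have h1 : (A : Subgroup G).subgroupOf M = (P : Subgroup ↥M) :=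
      P.3 A.2.comap_subtype fun y hy => hA ⟨y, hy, rfl⟩
    exact ⟨⟨x, hxM⟩, h1.le hxA, rfl⟩

theorem eq_of_card_le {G : Type*} [Group G] [Finite G] {p : ℕ} {A P : Sylow p G} {H : Subgroup G}
    (hH : H ≤ (A : Subgroup G)) [Fact p.Prime] (hc : Nat.card ↥(P : Subgroup G) ≤ Nat.card ↥H) :
    (A : Subgroup G) = H := by
  refine (Subgroup.eq_of_le_of_card_ge hH ?_).symm
  rw [Nat.card_congr (A.equiv P).toEquiv]
  exact hc

theorem local_step {G : Type*} [Group G] [Finite G] {p : ℕ} [Fact p.Prime]
    {f : Subgroup G → Set (Subgroup G)} (hf : Cfsg.IsNormalizerFunctor p f)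
    (hf1 : ∀ P : Subgroup G, IsPGroup p ↥P → P ≠ ⊥ → ∀ F ∈ f P, F ≠ ⊥)
    {D : Subgroup G} (hD : D ≠ ⊥)
    (hbig : Big p (Cfsg.functorFamily p f (⊤ : Subgroup G) ∪
      {M | Cfsg.IsMaximalPLocal p M ∧ ¬ Cfsg.IsFunctorRegular p f M}) D)
    {M : Subgroup G} (hM : Cfsg.IsMaximalPLocal p M) {A B : Sylow p G} (P Q : Sylow p ↥M)
    (hP : (P : Subgroup ↥M).map M.subtype = (A : Subgroup G) ⊓ M)
    (hQ : (Q : Subgroup ↥M).map M.subtype = (B : Subgroup G) ⊓ M)
    (hDA : D ≤ (A : Subgroup G) ⊓ M) (hDB : D ≤ (B : Subgroup G) ⊓ M)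
    (hcard : Nat.card ↥D < Nat.card ↥(P : Subgroup ↥M)) :
    Lib.LocalEven2.Linked p (Cfsg.functorFamily p f (⊤ : Subgroup G) ∪
      {M | Cfsg.IsMaximalPLocal p M ∧ ¬ Cfsg.IsFunctorRegular p f M}) D A B := by
  induction hk : Nat.card G - Nat.card ↥(P : Subgroup ↥M) using Nat.strong_induction_on
    generalizing M A B with
  | _ k IH =>
    by_cases hr : Cfsg.IsFunctorRegular p f M
    swap
    · obtain ⟨m, hm⟩ := MulAction.exists_smul_eq ↥M Q P
      have hU : ((((m : G) • B : Sylow p G)) : Subgroup G) ⊓ M = (A : Subgroup G) ⊓ M := by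
        rw [← hP, ← hm]
        ext y
        constructor
        · rintro ⟨hy, hyM⟩
          refine ⟨⟨y, hyM⟩, Lib.LocalEven2.mem_smul_sylow.mpr ?_, rfl⟩
          have h1 : (m : G)⁻¹ * y * (m : G) ∈ (B : Subgroup G) ⊓ M :=
            ⟨Lib.LocalEven2.mem_smul_sylow.mp hy, M.mul_mem (M.mul_mem (M.inv_mem m.2) hyM) m.2⟩
          rw [← hQ] at h1
          obtain ⟨z, hz, hze⟩ := h1
          rwa [show m⁻¹ * (⟨y, hyM⟩ : ↥M) * m = z from Subtype.ext hze.symm]
        · rintro ⟨⟨z, hzM⟩, hz, rfl⟩
          refine ⟨Lib.LocalEven2.mem_smul_sylow.mpr ?_, hzM⟩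
          exact (hQ.le ⟨_, Lib.LocalEven2.mem_smul_sylow.mp hz, rfl⟩).1
      refine Relation.ReflTransGen.trans (b := (m : G) • B)
        (hbig A _ ((A : Subgroup G) ⊓ M) hDA ?_ inf_le_left (hU.ge.trans inf_le_left))
        (Relation.ReflTransGen.single
          ⟨M, (m : G)⁻¹, ⟨Or.inr ⟨hM, hr⟩, P, hP.trans hU.symm⟩, ⟨Or.inr ⟨hM, hr⟩, Q, hQ⟩,
            M.inv_mem m.2, by rw [Lib.LocalEven2.subgroupConjRight_sylow, inv_inv], hDB⟩)
      rwa [← hP, card_map_sylow]
    · -- chains inside `M`
      have hDM : D ≤ M := hDA.trans inf_le_right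
      have hDP : D.subgroupOf M ≤ (P : Subgroup ↥M) := by
        intro y hy
        obtain ⟨z, hz, hze⟩ := hP.ge (hDA hy)
        rwa [← Subtype.ext (show (z : G) = (y : G) from hze)]
      have hDQ : D.subgroupOf M ≤ (Q : Subgroup ↥M) := by
        intro y hy
        obtain ⟨z, hz, hze⟩ := hQ.ge (hDB hy)
        rwa [← Subtype.ext (show (z : G) = (y : G) from hze)]
      have hPQ : (P : Subgroup ↥M) ⊓ (Q : Subgroup ↥M) ≠ ⊥ := by
        intro h
        have h1 : D.subgroupOf M = ⊥ := le_bot_iff.mp (h ▸ le_inf hDP hDQ)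
        rw [Subgroup.subgroupOf_eq_bot, disjoint_iff, inf_eq_left.mpr hDM] at h1
        exact hD h1
      have hchain := Lib.LocalEven2.controls_iff_linked.mp hr P Q hPQ
      have hsize : ∀ C : Sylow p ↥M, Nat.card ↥D < Nat.card ↥((C : Subgroup ↥M).map M.subtype) := by
        intro C
        rw [card_map_sylow, Nat.card_congr (C.equiv P).toEquiv]
        exact hcard
      have hDmap : ∀ C : Sylow p ↥M, D.subgroupOf M ≤ (C : Subgroup ↥M) →
          D ≤ (C : Subgroup ↥M).map M.subtype := fun C hC x hx => ⟨⟨x, hDM hx⟩, hC hx, rfl⟩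
      have key : ∀ C : Sylow p ↥M,
          Lib.LocalEven2.Linked p ((fun X : Subgroup G => X.subgroupOf M) '' Cfsg.functorFamily p f M)
            ((P : Subgroup ↥M) ⊓ (Q : Subgroup ↥M)) P C →
          D.subgroupOf M ≤ (C : Subgroup ↥M) ∧ ∀ C' : Sylow p G,
            (C : Subgroup ↥M).map M.subtype ≤ (C' : Subgroup G) →
            Lib.LocalEven2.Linked p (Cfsg.functorFamily p f (⊤ : Subgroup G) ∪
              {M | Cfsg.IsMaximalPLocal p M ∧ ¬ Cfsg.IsFunctorRegular p f M}) D A C' := by
        intro C hC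
        induction hC with
        | refl =>
          exact ⟨hDP, fun C' hC' => hbig A C' _ (hDmap P hDP) (hsize P) (hP.le.trans inf_le_left) hC'⟩
        | @tail C E _ hCE ih =>
          obtain ⟨hDC, ihl⟩ := ih
          obtain ⟨Y, y, ⟨⟨X, ⟨P0, F, hF, rfl⟩, rfl⟩, hC⟩, ⟨-, hE⟩, hy, hconj, hR⟩ := hCE
          have hDE : D.subgroupOf M ≤ (E : Subgroup ↥M) :=
            (le_inf hDP hDQ).trans (hR.trans inf_le_left)
          refine ⟨hDE, fun E' hE' => ?_⟩
          have hP0p := P0.2.map M.subtype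
          obtain ⟨hFP, hFn⟩ := (hf _ hP0p).1 F hF
          set Z := M ⊓ Subgroup.normalizer (F : Set G)
          have hP0Z : (P0 : Subgroup ↥M) ≤ Z.subgroupOf M := fun z hz =>
            ⟨z.2, hFn (Subgroup.le_normalizer ⟨z, hz, rfl⟩)⟩
          have hlift : ∀ C : Sylow p ↥M,
              (∃ R : Sylow p ↥(Z.subgroupOf M), (R : Subgroup ↥(Z.subgroupOf M)).map (Z.subgroupOf M).subtype =
                (C : Subgroup ↥M) ⊓ Z.subgroupOf M) → (C : Subgroup ↥M).map M.subtype ≤ Z := fun C hC =>
            (Subgroup.map_mono (Lib.LocalEven2.le_of_mem_sylowMembers (G := ↥M) (M := ⊤) (P := P0)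
              le_top le_top hP0Z hC)).trans (Subgroup.map_subgroupOf_eq_of_le inf_le_left).le
          have hCZ := hlift C hC
          have hEZ := hlift E hE
          by_cases hfull : ∃ P1 : Sylow p G, (P1 : Subgroup G) = (P0 : Subgroup ↥M).map M.subtype
          · obtain ⟨P1, hP1⟩ := hfull
            have hfull' : ∀ C : Sylow p ↥M, ∀ C' : Sylow p G,
                (C : Subgroup ↥M).map M.subtype ≤ (C' : Subgroup G) →
                (C' : Subgroup G) = (C : Subgroup ↥M).map M.subtype := fun C C' h => by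
              refine eq_of_card_le (P := P1) h ?_
              rw [hP1, card_map_sylow, card_map_sylow, Nat.card_congr (C.equiv P0).toEquiv]
            obtain ⟨C', hC'⟩ := (C.2.map M.subtype).exists_le_sylow
            refine Relation.ReflTransGen.tail (ihl C' hC') ?_
            set T : Subgroup G := ⊤ ⊓ Subgroup.normalizer (F : Set G)
            have hZT : Z ≤ T := le_inf le_top inf_le_right
            have hT : T ∈ Cfsg.functorFamily p f (⊤ : Subgroup G) := by
              refine ⟨P1.subtype le_top, F, ?_, rfl⟩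
              rw [Sylow.coe_subtype, Subgroup.map_subgroupOf_eq_of_le le_top, hP1]
              exact hF
            have hC'T : (C' : Subgroup G) ≤ T := (hfull' C C' hC').le.trans (hCZ.trans hZT)
            have hE'T : (E' : Subgroup G) ≤ T := (hfull' E E' hE').le.trans (hEZ.trans hZT)
            refine ⟨T, (y : G), Lib.LocalEven2.mem_sylowMembers_of_le (Or.inl hT) hC'T,
              Lib.LocalEven2.mem_sylowMembers_of_le (Or.inl hT) hE'T, hZT hy, ?_, ?_⟩
            · rw [hfull' C C' hC', hfull' E E' hE', ← Lib.LocalEven2.map_subgroupConjRight, hconj]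
            · exact le_inf ((hDmap E hDE).trans hE') ((hDmap E hDE).trans (hEZ.trans hZT))
          · -- move to a maximal local subgroup with a larger Sylow subgroup
            have hP0ne : (P0 : Subgroup ↥M).map M.subtype ≠ ⊥ := by
              intro h
              have h1 := hsize P0
              rw [h, Subgroup.card_bot] at h1
              exact absurd h1 (not_lt.mpr Nat.card_pos)
            have hFp : IsPGroup p ↥F := hP0p.to_le hFP
            obtain ⟨M', hNM', hM'⟩ := exists_maximalPLocal hFp (hf1 _ hP0p hP0ne F hF)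
            obtain ⟨W, hW⟩ := hP0p.exists_le_sylow
            have hlt := Cfsg.Agent.Lib.Transfer.lt_inf_normalizer W.2
              (lt_of_le_of_ne hW fun h => hfull ⟨W, h.symm⟩)
            have hWM' : (W : Subgroup G) ⊓ Subgroup.normalizer
                (((P0 : Subgroup ↥M).map M.subtype : Subgroup G) : Set G) ≤ M' :=
              inf_le_right.trans (hFn.trans hNM')
            obtain ⟨W1, R, hW1, hR1⟩ := exists_sylow_inf (W.2.to_le inf_le_left) hWM'
            have hCM' : (C : Subgroup ↥M).map M.subtype ≤ M' := hCZ.trans (inf_le_right.trans hNM')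
            have hEM' : (E : Subgroup ↥M).map M.subtype ≤ M' := hEZ.trans (inf_le_right.trans hNM')
            obtain ⟨A1, P', hA1, hP'⟩ := exists_sylow_inf (C.2.map M.subtype) hCM'
            obtain ⟨B1, Q', hB1, hQ'⟩ := exists_sylow_inf (E.2.map M.subtype) hEM'
            have hgt : Nat.card ↥(P : Subgroup ↥M) < Nat.card ↥(P' : Subgroup ↥M') := by
              rw [Nat.card_congr (P.equiv P0).toEquiv, ← card_map_sylow P0,
                Nat.card_congr (P'.equiv R).toEquiv, ← card_map_sylow R, hR1]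
              exact (card_lt hlt).trans_le (Subgroup.card_le_of_le hW1)
            have hle := Subgroup.card_le_card_group (P' : Subgroup ↥M')
            have hle' := Subgroup.card_le_card_group M'
            refine Relation.ReflTransGen.trans (b := A1) (ihl A1 (hA1.trans inf_le_left)) ?_
            refine Relation.ReflTransGen.trans (b := B1) ?_
              (hbig B1 E' _ (hDmap E hDE) (hsize E) (hB1.trans inf_le_left) hE')
            exact IH _ (by omega) hM' P' Q' hP' hQ' ((hDmap C hDC).trans hA1)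
              ((hDmap E hDE).trans hB1) (hcard.trans hgt) rfl
      exact (key Q hchain).2 B (hQ.le.trans inf_le_left)

/-- Let p be a prime dividing the order of the finite group G, and f an assignment to every p-subgroup P of a set f(P) of subgroups of P, each normalized by N_G(P), compatible with conjugation, such that for P ≠ 1 the members of f(P) are nontrivial. Let 𝓕 be the family of the normalizers N_G(F) of the members F of f(S) over the Sylow p-subgroups S of G, and 𝓕' the family of the maximal p-local subgroups M of G that are singular for f (the corresponding family of normalizers inside M does not control Sylow p-intersections in M). Then 𝓕 ∪ 𝓕' controls Sylow p-intersections in G. -/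
theorem result {G : Type*} [Group G] [Finite G] (p : ℕ) [Fact p.Prime] (hdiv : p ∣ Nat.card G)
    (f : Subgroup G → Set (Subgroup G)) (hf : Cfsg.IsNormalizerFunctor p f)
    (hf1 : ∀ P : Subgroup G, IsPGroup p ↥P → P ≠ ⊥ → ∀ F ∈ f P, F ≠ ⊥)
    (𝓕 𝓕' : Set (Subgroup G)) (h𝓕 : 𝓕 = Cfsg.functorFamily p f ⊤)
    (h𝓕' : 𝓕' = {M | Cfsg.IsMaximalPLocal p M ∧ ¬ Cfsg.IsFunctorRegular p f M}) :
    Cfsg.ControlsSylowIntersections p (𝓕 ∪ 𝓕') := by
  subst h𝓕 h𝓕'
  rw [Lib.LocalEven2.controls_iff_linked]
  have main : ∀ k : ℕ, ∀ S T : Sylow p G, Nat.card G - Nat.card ↥((S : Subgroup G) ⊓ (T : Subgroup G)) ≤ k →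
      (S : Subgroup G) ⊓ (T : Subgroup G) ≠ ⊥ →
      Lib.LocalEven2.Linked p (Cfsg.functorFamily p f (⊤ : Subgroup G) ∪
        {M | Cfsg.IsMaximalPLocal p M ∧ ¬ Cfsg.IsFunctorRegular p f M})
        ((S : Subgroup G) ⊓ (T : Subgroup G)) S T := by
    intro k
    induction k using Nat.strong_induction_on with
    | _ k IH =>
      intro S T hk hne
      set D := (S : Subgroup G) ⊓ (T : Subgroup G) with hD
      have hbig : Big p (Cfsg.functorFamily p f (⊤ : Subgroup G) ∪
          {M | Cfsg.IsMaximalPLocal p M ∧ ¬ Cfsg.IsFunctorRegular p f M}) D := by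
        intro A B Q hDQ hcard hQA hQB
        have hQ' : Q ≤ (A : Subgroup G) ⊓ (B : Subgroup G) := le_inf hQA hQB
        have h1 := Subgroup.card_le_of_le hQ'
        have h2 := Subgroup.card_le_card_group Q
        refine (IH (Nat.card G - Nat.card ↥((A : Subgroup G) ⊓ (B : Subgroup G))) ?_ A B le_rfl
          ?_).mono (Set.Subset.refl _) (hDQ.trans hQ')
        · have h3 := Subgroup.card_le_card_group ((A : Subgroup G) ⊓ (B : Subgroup G))
          omega
        · intro h
          apply hne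
          exact le_bot_iff.mp (h ▸ hDQ.trans hQ')
      by_cases hST : S = T
      · subst hST
        exact Relation.ReflTransGen.refl
      have hDp : IsPGroup p ↥D := S.2.to_le inf_le_left
      have hDS : D < (S : Subgroup G) := by
        refine lt_of_le_of_ne inf_le_left fun h => hST ?_
        exact (Sylow.ext (S.3 T.2 (inf_eq_left.mp h))).symm
      have hDT : D < (T : Subgroup G) := by
        refine lt_of_le_of_ne inf_le_right fun h => hST ?_
        exact Sylow.ext (T.3 S.2 (inf_eq_right.mp h))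
      obtain ⟨M, hNM, hMmax⟩ := exists_maximalPLocal hDp hne
      obtain ⟨A, P, hSA, hP⟩ := exists_sylow_inf (M := M) (S.2.to_le inf_le_left) (inf_le_right (a := (S : Subgroup G)))
      obtain ⟨B, Q, hTB, hQ⟩ := exists_sylow_inf (M := M) (T.2.to_le inf_le_left) (inf_le_right (a := (T : Subgroup G)))
      have hN1 := Cfsg.Agent.Lib.Transfer.lt_inf_normalizer S.2 hDS
      have hN2 := Cfsg.Agent.Lib.Transfer.lt_inf_normalizer T.2 hDT
      have hS1 : D < (S : Subgroup G) ⊓ M := hN1.trans_le (inf_le_inf_left _ hNM)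
      have hT1 : D < (T : Subgroup G) ⊓ M := hN2.trans_le (inf_le_inf_left _ hNM)
      refine Relation.ReflTransGen.trans (b := A)
        (hbig S A _ hS1.le (card_lt hS1) inf_le_left (hSA.trans inf_le_left)) ?_
      refine Relation.ReflTransGen.trans (b := B) ?_
        (hbig B T _ hT1.le (card_lt hT1) (hTB.trans inf_le_left) inf_le_left)
      refine local_step hf hf1 hne hbig hMmax P Q hP hQ (hS1.le.trans hSA) (hT1.le.trans hTB) ?_
      rw [← card_map_sylow P, hP]
      exact (card_lt hS1).trans_le (Subgroup.card_le_of_le hSA)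
  exact fun S T hne => main _ S T le_rfl hne

end Cfsg.Agent.S2956
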