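import Cfsg.Statements.S2957
import Cfsg.Agent.Lib.LocalEven2.Chains
import Cfsg.Agent.S2940

set_option autoImplicit false
open Cfsg

namespace Cfsg.Agent.S2957

/-- Control of intersections passes between `G` and `⊤`. -/
theorem regular_top_of_controls {G : Type*} [Group G] [Finite G] {p : ℕ} [Fact p.Prime]
    {f : Subgroup G → Set (Subgroup G)}
    (h : Cfsg.ControlsSylowIntersections p (Cfsg.functorFamily p f (⊤ : Subgroup G))) :
    Cfsg.IsFunctorRegular p f (⊤ : Subgroup G) := by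
  unfold Cfsg.IsFunctorRegular
  rw [Lib.LocalEven2.controls_iff_linked] at h ⊢
  set T := (⊤ : Subgroup G)
  have hup : ∀ A : Sylow p ↥T, ∃ A' : Sylow p G, (A : Subgroup ↥T) = (A' : Subgroup G).subgroupOf T := by
    intro A
    obtain ⟨A', hA'⟩ := (A.2.map T.subtype).exists_le_sylow
    refine ⟨A', (A.3 A'.2.comap_subtype fun y hy => ?_).symm⟩
    exact hA' ⟨y, hy, rfl⟩
  intro S₁ T₁ hne
  obtain ⟨S', hS'⟩ := hup S₁
  obtain ⟨T', hT'⟩ := hup T₁
  have hR : (S₁ : Subgroup ↥T) ⊓ (T₁ : Subgroup ↥T) =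
      ((S' : Subgroup G) ⊓ (T' : Subgroup G)).subgroupOf T := by rw [hS', hT']; rfl
  have hne' : (S' : Subgroup G) ⊓ (T' : Subgroup G) ≠ ⊥ := fun hb => hne (by
    rw [hR, hb]; exact Subgroup.bot_subgroupOf T)
  have hsub : ∀ A : Sylow p G, ((A.subtype (le_top : (A : Subgroup G) ≤ T)) : Subgroup ↥T) =
      (A : Subgroup G).subgroupOf T := fun A => Sylow.coe_subtype A _
  rw [hR, show S₁ = S'.subtype le_top from Sylow.ext (hS'.trans (hsub S').symm),
    show T₁ = T'.subtype le_top from Sylow.ext (hT'.trans (hsub T').symm)]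
  refine Relation.ReflTransGen.lift (fun A : Sylow p G => A.subtype (le_top : (A : Subgroup G) ≤ T)) (fun A B hAB => ?_) _ _ (h S' T' hne' : Relation.ReflTransGen _ _ _)
  obtain ⟨X, x, ⟨hX, Q, hQ⟩, ⟨-, Q', hQ'⟩, hx, hxc, hle⟩ := hAB
  have hmem : ∀ (A : Sylow p G), (∃ Q : Sylow p ↥X, (Q : Subgroup ↥X).map X.subtype = (A : Subgroup G) ⊓ X) →
      X.subgroupOf T ∈ Cfsg.sylowMembers p ((fun Y : Subgroup G => Y.subgroupOf T) '' Cfsg.functorFamily p f T)
        ((A.subtype (le_top : (A : Subgroup G) ≤ T)) : Subgroup ↥T) := by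
    intro A hA
    obtain ⟨-, hp, hmax⟩ := Lib.LocalEven2.mem_sylowMembers.mp (show X ∈ Cfsg.sylowMembers p _ _ from ⟨hX, hA⟩)
    rw [Lib.LocalEven2.mem_sylowMembers, hsub]
    refine ⟨⟨X, hX, rfl⟩, hp.comap_subtype, fun Q hQ hle hQX => ?_⟩
    have h1 := hmax (Q.map T.subtype) (hQ.map _) (fun y hy => ⟨⟨y, trivial⟩, hle hy, rfl⟩)
      (by rintro _ ⟨y, hy, rfl⟩; exact hQX hy)
    refine le_antisymm (fun y hy => ?_) hle
    exact (h1.le ⟨y, hy, rfl⟩ : (y : G) ∈ (A : Subgroup G) ⊓ X)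
  refine ⟨X.subgroupOf T, ⟨x, trivial⟩, hmem A ⟨Q, hQ⟩, hmem B ⟨Q', hQ'⟩, hx, ?_, ?_⟩
  · rw [hsub, hsub, ← hxc]
    ext y
    rw [Lib.LocalEven2.mem_subgroupConjRight, Subgroup.mem_subgroupOf, Subgroup.mem_subgroupOf,
      Lib.LocalEven2.mem_subgroupConjRight]
    simp
  · rw [hsub]
    exact fun y hy => hle hy


/-- Let p be a prime dividing the order of the finite group G, f an equivariant assignment of a set of subgroups f(P) of P to every p-subgroup P, each normalized by N_G(P), and S a Sylow p-subgroup. If G = G₁G₂ for subgroups G₁, G₂ both containing S and both regular for f (in each Gᵢ, the family of normalizers in Gᵢ of the members of f(P), P a Sylow p-subgroup of Gᵢ, controls Sylow p-intersections), then G itself is regular for f. -/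
theorem result {G : Type*} [Group G] [Finite G] (p : ℕ) [Fact p.Prime] (hdiv : p ∣ Nat.card G)
    (f : Subgroup G → Set (Subgroup G)) (hf : Cfsg.IsNormalizerFunctor p f) (S : Sylow p G)
    (G₁ G₂ : Subgroup G) (h₁ : (S : Subgroup G) ≤ G₁) (h₂ : (S : Subgroup G) ≤ G₂)
    (hprod : ∀ g : G, ∃ g₁ ∈ G₁, ∃ g₂ ∈ G₂, g = g₁ * g₂)
    (hr₁ : Cfsg.IsFunctorRegular p f G₁) (hr₂ : Cfsg.IsFunctorRegular p f G₂) :
    Cfsg.IsFunctorRegular p f ⊤ := by
  have hnorm := Lib.LocalEven2.functor_family_normal hf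
  -- back in `G`
  suffices h : Cfsg.ControlsSylowIntersections p (Cfsg.functorFamily p f (⊤ : Subgroup G)) by
    exact regular_top_of_controls h
  rw [Lib.LocalEven2.controls_iff_linked]
  intro S₀ T hne
  obtain ⟨a, rfl⟩ := MulAction.exists_smul_eq G S S₀
  obtain ⟨b, rfl⟩ := MulAction.exists_smul_eq G S T
  -- reduce to a pair containing `S`
  set g := a⁻¹ * b with hg
  set T₁ : Sylow p G := g • S
  have hTb : b • S = a • T₁ := by simp [T₁, hg, smul_smul]
  rw [hTb] at hne ⊢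
  have hR : ((a • S : Sylow p G) : Subgroup G) ⊓ ((a • T₁ : Sylow p G) : Subgroup G) =
      Cfsg.subgroupConjRight a⁻¹ ((S : Subgroup G) ⊓ (T₁ : Subgroup G)) := by
    rw [Lib.LocalEven2.subgroupConjRight_inf, Lib.LocalEven2.subgroupConjRight_sylow,
      Lib.LocalEven2.subgroupConjRight_sylow, inv_inv]
  rw [hR] at hne ⊢
  refine Lib.LocalEven2.Linked.conj hnorm ?_ a
  set R := (S : Subgroup G) ⊓ (T₁ : Subgroup G) with hRdef
  have hR1 : R ≠ ⊥ := by
    intro h
    apply hne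
    rw [h, Cfsg.subgroupConjRight, Subgroup.map_bot]
  obtain ⟨U, hRU, hU⟩ := S2940.result S G₁ G₂ h₁ h₂ hprod g⁻¹
  rw [Lib.LocalEven2.subgroupConjRight_sylow, inv_inv] at hRU
  refine Relation.ReflTransGen.trans (b := U) ?_ ?_
  · have hle : R ≤ (S : Subgroup G) ⊓ (U : Subgroup G) := le_inf inf_le_left hRU
    exact (Lib.LocalEven2.linked_of_regular hf hr₁ h₁ (hU.trans inf_le_left)
      fun h => hR1 (le_bot_iff.mp (h ▸ hle))).mono (Set.Subset.refl _) hle
  · have hU2 : ((g⁻¹ • U : Sylow p G) : Subgroup G) ≤ G₂ := by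
      intro y hy
      rw [Lib.LocalEven2.mem_smul_sylow] at hy
      have h2 := Lib.LocalEven2.mem_subgroupConjRight.mp (hU hy).2
      simpa [mul_assoc] using h2
    have hle : Cfsg.subgroupConjRight g R ≤ ((g⁻¹ • U : Sylow p G) : Subgroup G) ⊓ (S : Subgroup G) := by
      refine le_inf ?_ ?_
      · rw [← Lib.LocalEven2.subgroupConjRight_sylow]
        exact Lib.LocalEven2.subgroupConjRight_mono g hRU
      · intro y hy
        have h2 := Lib.LocalEven2.mem_smul_sylow.mp (Lib.LocalEven2.mem_subgroupConjRight.mp hy).2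
        simpa [mul_assoc] using h2
    have hne2 : ((g⁻¹ • U : Sylow p G) : Subgroup G) ⊓ (S : Subgroup G) ≠ ⊥ := by
      intro h
      apply hR1
      rw [h, le_bot_iff, Cfsg.subgroupConjRight,
        Subgroup.map_eq_bot_iff_of_injective _ (MulAut.conj g⁻¹).injective] at hle
      exact hle
    have h3 := (Lib.LocalEven2.linked_of_regular hf hr₂ hU2 h₂ hne2).conj hnorm g
    rw [smul_inv_smul] at h3
    refine h3.mono (Set.Subset.refl _) ?_
    have h4 := Lib.LocalEven2.subgroupConjRight_mono g⁻¹ hle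
    rwa [← Lib.LocalEven2.subgroupConjRight_mul, mul_inv_cancel, Lib.LocalEven2.subgroupConjRight_one] at h4

end Cfsg.Agent.S2957
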