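import Cfsg.Statements.S2958

set_option autoImplicit false
open Cfsg

namespace Cfsg.Agent.S2958

/-- Let X, A, B be subgroups of a group G such that G is generated by the conjugates of X and every conjugate of X is contained in A or in B. Then A = G or B = G. -/
theorem result {G : Type*} [Group G] (X A B : Subgroup G) (hgen : (⨆ g : G, X.map (MulAut.conj g).toMonoidHom) = ⊤) (hcover : ∀ g : G, X.map (MulAut.conj g).toMonoidHom ≤ A ∨ X.map (MulAut.conj g).toMonoidHom ≤ B) : A = ⊤ ∨ B = ⊤ := by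
  set C : G → Subgroup G := fun g => X.map (MulAut.conj g).toMonoidHom with hC
  by_cases hB : ∀ g, C g ≤ B
  · exact Or.inr (top_le_iff.mp (hgen ▸ iSup_le hB))
  left
  push_neg at hB
  obtain ⟨g₀, hg₀⟩ := hB
  set A₀ := ⨆ g : {g : G // ¬ C g ≤ B}, C g with hA₀
  have hA₀A : A₀ ≤ A := iSup_le fun g => (hcover g).resolve_right g.2
  have hA₀le : ∀ g, ¬ C g ≤ B → C g ≤ A₀ := fun g hg => le_iSup (fun g : {g : G // ¬ C g ≤ B} => C g) ⟨g, hg⟩
  have hmul : ∀ x g, C (x * g) = (C g).map (MulAut.conj x).toMonoidHom := fun x g => by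
    rw [hC]
    simp only [Subgroup.map_map]
    congr 1
    ext y; simp [mul_assoc]
  -- every member of the class normalizes `A₀`
  have hnorm : ∀ g, C g ≤ Subgroup.normalizer (A₀ : Set G) := by
    intro g x hx
    by_cases hg : C g ≤ B
    · have key : ∀ z ∈ B, ∀ a ∈ A₀, z * a * z⁻¹ ∈ A₀ := by
        intro z hz a ha
        rw [hA₀] at ha
        induction ha using Subgroup.iSup_induction' with
        | hp k y hy =>
          refine hA₀le (z * k) (fun hle => k.2 fun w hw => ?_) ?_
          · have h1 : z * w * z⁻¹ ∈ B := hle (by rw [hmul]; exact ⟨w, hw, rfl⟩)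
            have := B.mul_mem (B.mul_mem (inv_mem hz) h1) hz
            simpa [mul_assoc] using this
          · rw [hmul]; exact ⟨y, hy, rfl⟩
        | h1 => simp
        | hmul a b _ _ ha hb => simpa [mul_assoc] using mul_mem ha hb
      rw [Subgroup.mem_normalizer_iff]
      refine fun a => ⟨key x (hg hx) a, fun h => ?_⟩
      simpa [mul_assoc] using key x⁻¹ (inv_mem (hg hx)) _ h
    · exact Subgroup.le_normalizer (hA₀le g hg hx)
  have hn : ∀ z : G, z ∈ Subgroup.normalizer (A₀ : Set G) := fun z =>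
    iSup_le hnorm (hgen ▸ Subgroup.mem_top z : z ∈ ⨆ g, C g)
  have hall : ∀ g, C g ≤ A₀ := by
    intro g
    have h1 : g = (g * g₀⁻¹) * g₀ := by group
    rw [h1, hmul]
    rintro _ ⟨y, hy, rfl⟩
    exact (Subgroup.mem_normalizer_iff.mp (hn _) y).mp (hA₀le g₀ hg₀ hy)
  exact top_le_iff.mp (hgen ▸ (iSup_le hall).trans hA₀A)

end Cfsg.Agent.S2958
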