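import Cfsg.Statements.S2963

set_option autoImplicit false
open Cfsg
open scoped Pointwise

namespace Cfsg.Agent.S2963

/-- Let n be odd. If the symmetric group of degree n is a minimal parabolic group for the prime 2, that is, a Sylow 2-subgroup is not normal and lies in exactly one maximal subgroup, then n = 2^m + 1 for some natural number m. -/
theorem result (n : ℕ) (hn : Odd n) (h : Cfsg.IsPMinimal 2 (Equiv.Perm (Fin n))) : ∃ m : ℕ, n = 2 ^ m + 1 := by
  set S : Sylow 2 (Equiv.Perm (Fin n)) := default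
  obtain ⟨hS, M, ⟨hM, hSM⟩, huniq⟩ := h S
  obtain ⟨x, hx⟩ := S.2.nonempty_fixed_point_of_prime_not_dvd_card (Fin n)
    (by rw [Nat.card_eq_fintype_card, Fintype.card_fin]; exact Nat.two_dvd_ne_zero.mpr (Nat.odd_iff.mp hn))
  have hxfix : ∀ s ∈ (S : Subgroup (Equiv.Perm (Fin n))), s x = x := fun s hs => hx ⟨s, hs⟩
  obtain ⟨y, hy⟩ : ∃ y : Fin n, y ≠ x := by
    by_contra hc
    push_neg at hc
    haveI : Subsingleton (Fin n) := ⟨fun a b => (hc a).trans (hc b).symm⟩
    exact hS (by rw [Subsingleton.elim (S : Subgroup (Equiv.Perm (Fin n))) ⊤]; infer_instance)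
  set O := MulAction.orbit ↥(S : Subgroup (Equiv.Perm (Fin n))) y with hO
  obtain ⟨a, ha⟩ := S.2.card_orbit y
  refine ⟨a, ?_⟩
  have hxO : x ∉ O := by
    rintro ⟨s, hs⟩
    apply hy
    have h1 := hxfix _ (inv_mem s.2)
    rw [← hs] at h1 ⊢
    change (↑s : Equiv.Perm (Fin n))⁻¹ ((↑s : Equiv.Perm (Fin n)) y) = _ at h1
    simpa using h1
  have hall : ∀ z, z = x ∨ z ∈ O := by
    by_contra hc
    push_neg at hc
    obtain ⟨z, hzx, hzO⟩ := hc
    -- two proper overgroups of `S`
    set U := MulAction.stabilizer (Equiv.Perm (Fin n)) x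
    set V := MulAction.stabilizer (Equiv.Perm (Fin n)) (insert x O)
    have hSU : (S : Subgroup (Equiv.Perm (Fin n))) ≤ U := hxfix
    have hSV : (S : Subgroup (Equiv.Perm (Fin n))) ≤ V := by
      intro s hs
      rw [MulAction.mem_stabilizer_iff, Set.smul_set_insert]
      congr 1
      · exact hxfix s hs
      · exact MulAction.smul_orbit (⟨s, hs⟩ : ↥(S : Subgroup (Equiv.Perm (Fin n)))) y
    have hU : U ≠ ⊤ := by
      intro ht
      have : Equiv.swap x y ∈ U := ht ▸ Subgroup.mem_top _
      exact hy (by simpa [U] using this)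
    have hV : V ≠ ⊤ := by
      intro ht
      have h1 : Equiv.swap x z • insert x O = insert x O :=
        MulAction.mem_stabilizer_iff.mp (show Equiv.swap x z ∈ V from ht ▸ Subgroup.mem_top _)
      have h2 : z ∈ insert x O := by
        rw [← h1]
        exact ⟨x, Set.mem_insert _ _, by simp⟩
      rcases h2 with h2 | h2
      · exact hzx h2
      · exact hzO h2
    have hle : ∀ W, W ≠ ⊤ → (S : Subgroup (Equiv.Perm (Fin n))) ≤ W → W ≤ M := by
      intro W hW hSW
      obtain ⟨M', hM', hWM'⟩ := (eq_top_or_exists_le_coatom W).resolve_left hW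
      exact (huniq M' ⟨hM', hSW.trans hWM'⟩) ▸ hWM'
    have h1 : ∀ b c : Fin n, b ≠ x → c ≠ x → Equiv.swap b c ∈ M := fun b c hb hc =>
      hle U hU hSU (MulAction.mem_stabilizer_iff.mpr (Equiv.swap_apply_of_ne_of_ne hb.symm hc.symm))
    have h2 : Equiv.swap x y ∈ M := by
      refine hle V hV hSV (MulAction.mem_stabilizer_iff.mpr ?_)
      refine Set.ext fun w => ?_
      have hyO : y ∈ O := MulAction.mem_orbit_self y
      rw [Set.mem_smul_set_iff_inv_smul_mem, Equiv.swap_inv, Equiv.Perm.smul_def]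
      rcases eq_or_ne w x with rfl | hwx
      · simp [hyO]
      rcases eq_or_ne w y with rfl | hwy
      · simp [hyO]
      · rw [Equiv.swap_apply_of_ne_of_ne hwx hwy]
    apply hM.1
    rw [eq_top_iff, ← Equiv.Perm.closure_isSwap, Subgroup.closure_le]
    rintro σ ⟨b, c, hbc, rfl⟩
    have h3 : ∀ c, c ≠ x → Equiv.swap x c ∈ M := by
      intro c hc
      rcases eq_or_ne c y with rfl | hcy
      · exact h2
      · have := M.mul_mem (M.mul_mem (h1 y c hy hc) h2) (h1 y c hy hc)
        rwa [Equiv.swap_mul_swap_mul_swap hy.symm hc.symm, Equiv.swap_comm c x] at this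
    rcases eq_or_ne b x with rfl | hb
    · exact h3 c hbc.symm
    rcases eq_or_ne c x with rfl | hc
    · rw [Equiv.swap_comm]; exact h3 b hb
    · exact h1 b c hb hc
  have hset : (Set.univ : Set (Fin n)) = insert x O := Set.ext fun z => by simpa using hall z
  have hcard := congrArg Set.ncard hset
  rw [Set.ncard_univ, Nat.card_fin, Set.ncard_insert_of_notMem hxO, ← Nat.card_coe_set_eq, ha] at hcard
  exact hcard

end Cfsg.Agent.S2963
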