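import Cfsg.Statements.S2968
import Cfsg.Agent.Lib.LocalEven2.Sylow

set_option autoImplicit false
open Cfsg

namespace Cfsg.Agent.S2968

/-- Let G be a finite group, p a prime, P a Sylow p-subgroup of G and x ∈ P an element of p-power order which is isolated in G (the only conjugate of x commuting with x is x itself). Then x lies in the centre of P, and the subgroup generated by x is both strongly closed and weakly closed in P with respect to G. -/
theorem result {G : Type*} [Group G] [Finite G] {p : ℕ} [Fact p.Prime] (P : Sylow p G) (x : G) (hxP : x ∈ (P : Subgroup G)) (hx : ∃ k : ℕ, orderOf x = p ^ k) (hiso : Cfsg.IsIsolated x) : x ∈ (P : Subgroup G) ⊓ Subgroup.centralizer ((P : Subgroup G) : Set G) ∧ Cfsg.IsStronglyClosed (Subgroup.zpowers x) (P : Subgroup G) ∧ Cfsg.IsWeaklyClosed (Subgroup.zpowers x) (P : Subgroup G) := by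
  have hc := Lib.LocalEven2.isolated_central hiso P.2 hxP
  have hcl : Cfsg.IsStronglyClosed (Subgroup.zpowers x) (P : Subgroup G) := by
    refine ⟨Subgroup.zpowers_le.mpr hxP, ?_⟩
    rintro y ⟨k, rfl⟩ g hy
    show g * x ^ k * g⁻¹ ∈ Subgroup.zpowers x
    have hxH : x ∈ Subgroup.centralizer ({g * x ^ k * g⁻¹} : Set G) :=
      Subgroup.mem_centralizer_singleton_iff.mpr (hc _ hy)
    have hzH : g * x * g⁻¹ ∈ Subgroup.centralizer ({g * x ^ k * g⁻¹} : Set G) := by
      rw [Subgroup.mem_centralizer_singleton_iff]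
      calc g * x * g⁻¹ * (g * x ^ k * g⁻¹) = g * (x * x ^ k) * g⁻¹ := by group
        _ = g * (x ^ k * x) * g⁻¹ := by rw [(Commute.self_zpow x k).eq]
        _ = g * x ^ k * g⁻¹ * (g * x * g⁻¹) := by group
    obtain ⟨c, hcH, hcg⟩ := Lib.LocalEven2.isolated_conj_eq hiso hx hxH hzH
    rw [Subgroup.mem_centralizer_singleton_iff] at hcH
    have h1 : c * g * x ^ k = x ^ k * (c * g) := (Commute.zpow_right hcg k).eq
    refine ⟨k, ?_⟩
    show x ^ k = g * x ^ k * g⁻¹
    calc x ^ k = x ^ k * (c * g) * (c * g)⁻¹ := by group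
      _ = c * g * x ^ k * (c * g)⁻¹ := by rw [h1]
      _ = c * (g * x ^ k * g⁻¹) * c⁻¹ := by group
      _ = g * x ^ k * g⁻¹ := by rw [hcH]; group
  refine ⟨⟨hxP, Subgroup.mem_centralizer_iff.mpr fun y hy => (hc y hy).symm⟩, hcl, hcl.1,
    fun g hg => ?_⟩
  have hle : (Subgroup.zpowers x).map (MulAut.conj g).toMonoidHom ≤ Subgroup.zpowers x := by
    rintro z ⟨y, hy, rfl⟩
    exact hcl.2 y hy g (hg ⟨y, hy, rfl⟩)
  exact Subgroup.eq_of_le_of_card_ge hle
    (Nat.card_congr (Subgroup.equivMapOfInjective _ _ (MulAut.conj g).injective).toEquiv).le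

end Cfsg.Agent.S2968
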