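import Cfsg.Statements.S2970
import Cfsg.Agent.Lib.LocalEven2.Sylow

set_option autoImplicit false
open Cfsg

namespace Cfsg.Agent.S2970

theorem centralizes_cyclic {G : Type*} [Group G] [Finite G] {p : ℕ} [Fact p.Prime]
    (P : Subgroup G) (hPp : IsPGroup p ↥P) (hP : IsCyclic ↥P) {a x : G}
    (haP : a ∈ Subgroup.normalizer (P : Set G)) (hap : (orderOf a).Coprime p)
    (hxP : x ∈ P) (hx1 : x ≠ 1) (hax : a * x = x * a) : ∀ w ∈ P, a * w = w * a := by
  obtain ⟨u, hu⟩ := hP.exists_generator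
  obtain ⟨e, he⟩ := Lib.LocalEven2.orderOf_of_mem_pgroup hPp u.2
  have hgen : ∀ w ∈ P, ∃ k : ℤ, (u : G) ^ k = w := fun w hw => by
    obtain ⟨k, hk⟩ := hu ⟨w, hw⟩
    exact ⟨k, by simpa using congrArg Subtype.val hk⟩
  obtain ⟨k, hk⟩ := hgen _ ((Subgroup.mem_normalizer_iff.mp haP u).mp u.2)
  have hconj : ∀ j : ℤ, a * (u : G) ^ j * a⁻¹ = (u : G) ^ (k * j) := by
    intro j
    rw [zpow_mul, hk, conj_zpow]
  obtain ⟨j, hj⟩ := hgen x hxP
  -- `p` divides `k - 1`
  have hpk : (p : ℤ) ∣ k - 1 := by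
    by_contra hnd
    apply hx1
    have h1 : (u : G) ^ ((k - 1) * j) = 1 := by
      have h2 : a * x * a⁻¹ = x := by rw [hax]; group
      rw [sub_mul, one_mul, zpow_sub, ← hconj, hj, h2, mul_inv_cancel]
    have hcop : IsCoprime ((p : ℤ) ^ e) (k - 1) :=
      ((Nat.prime_iff_prime_int.mp Fact.out).coprime_iff_not_dvd.mpr hnd).pow_left
    have h3 : ((p : ℤ) ^ e) ∣ (k - 1) * j := by
      have := (orderOf_dvd_iff_zpow_eq_one (x := (u : G))).mpr h1
      rw [he] at this
      exact_mod_cast this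
    have h4 := hcop.dvd_of_dvd_mul_left h3
    rw [← hj]
    refine orderOf_dvd_iff_zpow_eq_one.mp ?_
    rw [he]
    exact_mod_cast h4
  -- descend along the powers of `p`
  have key : ∀ i : ℕ, i ≤ e → a * (u : G) ^ ((p : ℤ) ^ (e - i)) =
      (u : G) ^ ((p : ℤ) ^ (e - i)) * a := by
    intro i
    induction i with
    | zero =>
      intro _
      have : (u : G) ^ ((p : ℤ) ^ (e - 0)) = 1 := by
        refine orderOf_dvd_iff_zpow_eq_one.mp ?_
        rw [he]; simp
      rw [this, mul_one, one_mul]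
    | succ i ih =>
      intro hi
      obtain ⟨m, hm⟩ := hpk
      have hpow : (p : ℤ) ^ (e - i) = (p : ℤ) ^ (e - (i + 1)) * p := by
        rw [← pow_succ]; congr 1; omega
      have hc : a * (u : G) ^ ((p : ℤ) ^ (e - (i + 1))) * a⁻¹ *
          ((u : G) ^ ((p : ℤ) ^ (e - (i + 1))))⁻¹ = ((u : G) ^ ((p : ℤ) ^ (e - i))) ^ m := by
        rw [hconj, ← zpow_neg, ← zpow_add, ← zpow_mul, hpow]
        congr 1
        linear_combination ((p : ℤ) ^ (e - (i + 1))) * hm
      have hfix : Commute a (((u : G) ^ ((p : ℤ) ^ (e - i))) ^ m) :=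
        Commute.zpow_right (ih (by omega)) m
      refine Lib.LocalEven2.commute_of_stabilizes hPp hap ?_ ?_
      · rw [hc]; exact zpow_mem (zpow_mem u.2 _) _
      · rw [hc]; exact hfix
  intro w hw
  obtain ⟨i, rfl⟩ := hgen w hw
  have := key e le_rfl
  simp only [Nat.sub_self, pow_zero, zpow_one] at this
  exact (Commute.zpow_right this i).eq

theorem normalizer_le_centralizer {G : Type*} [Group G] [Finite G] {p : ℕ} [Fact p.Prime]
    {x : G} (hiso : Cfsg.IsIsolated x) (hx1 : x ≠ 1) (P : Sylow p G)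
    (hcyc : IsCyclic ↥(P : Subgroup G)) (hxP : x ∈ (P : Subgroup G)) :
    Subgroup.normalizer ((P : Subgroup G) : Set G) ≤
      Subgroup.centralizer ((P : Subgroup G) : Set G) := by
  intro n hn
  set N := Subgroup.normalizer ((P : Subgroup G) : Set G)
  set C := N ⊓ Subgroup.centralizer ((P : Subgroup G) : Set G) with hC
  have hPC : (P : Subgroup G) ≤ C := by
    haveI := hcyc
    exact le_inf Subgroup.le_normalizer
      (Subgroup.le_centralizer_iff_isMulCommutative.mpr
        ⟨⟨fun a b => (IsCyclic.commGroup (α := ↥(P : Subgroup G))).mul_comm a b⟩⟩)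
  -- every prime power part of `N` lies in `C`
  suffices N ≤ C from (this hn).2
  intro m hm
  obtain ⟨a, r, hr, hord⟩ := Nat.exists_eq_pow_mul_and_not_dvd (orderOf_pos m).ne' p
    (Fact.out : p.Prime).ne_one
  have h1 : m ^ r ∈ C := by
    apply hPC
    have hp : (m ^ r) ^ p ^ a = 1 := by
      rw [← pow_mul, mul_comm, ← hord, pow_orderOf_eq_one]
    obtain ⟨b, -, hb⟩ := (Nat.dvd_prime_pow Fact.out).mp (orderOf_dvd_of_pow_eq_one hp)
    have hle : Subgroup.zpowers (m ^ r) ≤ N := Subgroup.zpowers_le.mpr (pow_mem hm r)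
    have := P.3 (IsPGroup.to_sup_of_normal_right' (Lib.LocalEven2.isPGroup_zpowers ⟨b, hb⟩) P.2 hle)
      le_sup_right
    exact this.le (Subgroup.mem_sup_left (Subgroup.mem_zpowers _))
  have hpa : p ^ a ≠ 0 := pow_ne_zero _ (Fact.out : p.Prime).ne_zero
  have h2 : m ^ p ^ a ∈ C := by
    refine ⟨pow_mem hm _, Subgroup.mem_centralizer_iff.mpr fun w hw => ?_⟩
    refine (centralizes_cyclic (P : Subgroup G) P.2 hcyc (pow_mem hm _) ?_ hxP hx1 ?_ w hw).symm
    · have : orderOf (m ^ p ^ a) = r := by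
        rw [orderOf_pow_of_dvd hpa (hord ▸ dvd_mul_right _ _), hord,
          Nat.mul_div_cancel_left _ (Nat.pos_of_ne_zero hpa)]
      rw [this]
      exact ((Fact.out : p.Prime).coprime_iff_not_dvd.mpr hr).symm
    · have h3 := Lib.LocalEven2.isolated_unique hiso P.2 hxP
        ((Subgroup.mem_normalizer_iff.mp (pow_mem hm (p ^ a)) x).mp hxP)
      calc m ^ p ^ a * x = m ^ p ^ a * x * (m ^ p ^ a)⁻¹ * m ^ p ^ a := by group
        _ = x * m ^ p ^ a := by rw [h3]
  have hg : Nat.gcd (p ^ a) r = 1 :=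
    Nat.Coprime.pow_left a ((Fact.out : p.Prime).coprime_iff_not_dvd.mpr hr)
  have h3 := Nat.gcd_eq_gcd_ab (p ^ a) r
  rw [hg] at h3
  have h4 : m = (m ^ p ^ a) ^ Nat.gcdA (p ^ a) r * (m ^ r) ^ Nat.gcdB (p ^ a) r := by
    rw [← zpow_natCast, ← zpow_natCast m r, ← zpow_mul, ← zpow_mul, ← zpow_add, ← h3]
    simp
  rw [h4]
  exact mul_mem (zpow_mem h2 _) (zpow_mem h1 _)

/-- Let G be a finite group, p a prime and x ∈ G an element of p-power order which is isolated in G. Then the image of x in any quotient G ⧸ N is isolated in G ⧸ N; and if x ≠ 1 and the Sylow p-subgroups of G are cyclic, then G has a normal p-complement. -/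
theorem result {G : Type*} [Group G] [Finite G] {p : ℕ} [Fact p.Prime] (x : G) (hx : ∃ k : ℕ, orderOf x = p ^ k) (hiso : Cfsg.IsIsolated x) : (∀ (N : Subgroup G) [N.Normal], Cfsg.IsIsolated (QuotientGroup.mk x : G ⧸ N)) ∧ (x ≠ 1 → (∀ P : Sylow p G, IsCyclic ↥(P : Subgroup G)) → Cfsg.HasNormalPComplement p G) := by
  constructor
  · intro N _ gb hcomm
    obtain ⟨g, rfl⟩ := QuotientGroup.mk_surjective gb
    obtain ⟨c, hc, hcg⟩ := Lib.LocalEven2.isolated_conj_eq hiso hx
      (H := (Subgroup.centralizer ({(QuotientGroup.mk x : G ⧸ N)} : Set (G ⧸ N))).comap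
        (QuotientGroup.mk' N))
      (Subgroup.mem_centralizer_singleton_iff.mpr rfl) (g := g) (by
        rw [Subgroup.mem_comap, Subgroup.mem_centralizer_singleton_iff]
        simpa using hcomm.eq.symm)
    rw [Subgroup.mem_comap, Subgroup.mem_centralizer_singleton_iff] at hc
    have h1 := congrArg (QuotientGroup.mk' N) hcg
    simp only [map_mul, QuotientGroup.mk'_apply] at h1 hc ⊢
    rw [mul_inv_eq_iff_eq_mul]
    apply mul_left_cancel (a := (QuotientGroup.mk c : G ⧸ N))
    rw [← mul_assoc, h1, ← mul_assoc, ← mul_assoc, hc]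
  · intro hx1 hcyc
    obtain ⟨P, hP⟩ := (Lib.LocalEven2.isPGroup_zpowers hx).exists_le_sylow
    have hxP : x ∈ (P : Subgroup G) := hP (Subgroup.mem_zpowers x)
    have hle : Subgroup.normalizer ((P : Subgroup G) : Set G) ≤
        Subgroup.centralizer ((P : Subgroup G) : Set G) := by
      intro n hn
      exact normalizer_le_centralizer hiso hx1 P (hcyc P) hxP hn
    exact ⟨P, (MonoidHom.transferSylow P hle).ker, inferInstance,
      MonoidHom.ker_transferSylow_isComplement' P hle⟩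

end Cfsg.Agent.S2970
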