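import Cfsg.Statements.S2971
import Cfsg.Agent.Lib.Cores
import Cfsg.Agent.Lib.LocalEven2.RankOne
import Cfsg.Agent.S2970

set_option autoImplicit false
open Cfsg

namespace Cfsg.Agent.S2971

/-- Let G be a finite group and p an odd prime such that G has p-rank at most 1 (no elementary abelian subgroup of order p²). If x ∈ G is an isolated element of order p, then x is central modulo the largest normal subgroup of G of order prime to p. -/
theorem result {G : Type*} [Group G] [Finite G] {p : ℕ} [Fact p.Prime] (hp : p ≠ 2) (hrk : Cfsg.PRankLE p 1 G) (x : G) (hx : orderOf x = p) (hiso : Cfsg.IsIsolated x) : Cfsg.InZStar p x := by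
  have hxk : ∃ k : ℕ, orderOf x = p ^ k := ⟨1, by rw [pow_one, hx]⟩
  have hx1 : x ≠ 1 := fun h => by rw [h, orderOf_one] at hx; exact (Fact.out : p.Prime).ne_one hx.symm
  obtain ⟨P, N, hN, hcompl⟩ := (S2970.result x hxk hiso).2 hx1
    fun P => Lib.LocalEven2.isCyclic_sylow_of_rankLE_one hp hrk P.2
  have hNc : (Nat.card ↥N).Coprime p := by
    rw [← hcompl.index_eq_card]
    exact ((Fact.out : p.Prime).coprime_iff_not_dvd.mpr P.not_dvd_index).symm
  obtain ⟨Q, hQ⟩ := (Lib.LocalEven2.isPGroup_zpowers hxk).exists_le_sylow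
  intro g
  refine Lib.Cores.le_pPrimeCore hN hNc ?_
  have hsup : N ⊔ (Q : Subgroup G) = ⊤ := by
    obtain ⟨c, hc⟩ := MulAction.exists_smul_eq G P Q
    rw [← hc, Lib.LocalEven2.smul_sylow_eq_map, eq_top_iff]
    refine le_trans (le_of_eq ?_) (sup_le_sup_right (le_of_eq ?_ : N.map (MulAut.conj c).toMonoidHom ≤ N) _)
    · rw [← Subgroup.map_sup, hcompl.sup_eq_top, Subgroup.map_top_of_surjective _ (MulAut.conj c).surjective]
    · exact Subgroup.eq_of_le_of_card_ge (by rintro _ ⟨n, hn, rfl⟩; exact hN.conj_mem n hn c)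
        (Nat.card_congr (N.equivMapOfInjective _ (MulAut.conj c).injective).toEquiv).le
  have hg : g ∈ N ⊔ (Q : Subgroup G) := hsup ▸ Subgroup.mem_top g
  rw [← SetLike.mem_coe, Subgroup.normal_mul] at hg
  obtain ⟨n, hn, q, hq, rfl⟩ := hg
  have hc := Lib.LocalEven2.isolated_central hiso Q.2 (hQ (Subgroup.mem_zpowers x)) q hq
  have h1 : n * q * x * (n * q)⁻¹ * x⁻¹ = n * (x * n⁻¹ * x⁻¹) := by
    calc n * q * x * (n * q)⁻¹ * x⁻¹ = n * (q * x) * q⁻¹ * n⁻¹ * x⁻¹ := by group
      _ = n * (x * q) * q⁻¹ * n⁻¹ * x⁻¹ := by rw [hc]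
      _ = _ := by group
  show n * q * x * (n * q)⁻¹ * x⁻¹ ∈ N
  rw [h1]
  exact N.mul_mem hn (hN.conj_mem _ (N.inv_mem hn) x)

end Cfsg.Agent.S2971
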