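import Cfsg.Statements.S2972
import Cfsg.Agent.Lib.LocalEven2.ZStar

set_option autoImplicit false
open Cfsg

namespace Cfsg.Agent.S2972

/-- Let G be a finite group, p a prime and x ∈ G an isolated element of order p (the only conjugate of x commuting with x is x) which is not central modulo the largest normal subgroup of order prime to p, while x is central modulo the largest normal subgroup of order prime to p in every proper subgroup containing x, and the image of x is so in every quotient of G by a nontrivial normal subgroup (a minimal counterexample to the Z*_p statement). Then the derived subgroup G' is a non-abelian simple group and G = G'⟨x⟩. -/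
theorem result {G : Type*} [Group G] [Finite G] {p : ℕ} [Fact p.Prime] (x : G) (hx : orderOf x = p) (hiso : Cfsg.IsIsolated x) (hnz : ¬ Cfsg.InZStar p x) (hmin : ∀ (H : Subgroup G) (hxH : x ∈ H), H ≠ ⊤ → Cfsg.InZStar p (⟨x, hxH⟩ : ↥H)) (hquot : ∀ (N : Subgroup G) [N.Normal], N ≠ ⊥ → Cfsg.InZStar p (QuotientGroup.mk x : G ⧸ N)) : IsSimpleGroup ↥(commutator G) ∧ ¬ IsMulCommutative ↥(commutator G) ∧ commutator G ⊔ Subgroup.zpowers x = ⊤ := by
  classical
  have h : Lib.LocalEven2.IsMinimalZStar p x := ⟨hx, hiso, hnz, hmin, hquot⟩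
  have hGne : (⊤ : Subgroup G) ≠ ⊥ := fun e => h.ne_one
    (Subgroup.mem_bot.mp (e ▸ Subgroup.mem_top x))
  obtain ⟨N, ⟨hNn, hN1⟩, hNmin⟩ := Set.Finite.exists_minimalFor (fun N : Subgroup G => N)
    {N : Subgroup G | N.Normal ∧ N ≠ ⊥} (Set.toFinite _) ⟨⊤, inferInstance, hGne⟩
  haveI := hNn
  have hsup := h.sup_zpowers_eq_top hN1
  have hmin' : ∀ M : Subgroup G, M.Normal → M ≤ N → M = ⊥ ∨ M = N := fun M hM hle => by
    by_cases hM1 : M = ⊥
    · exact Or.inl hM1
    · exact Or.inr (le_antisymm hle (hNmin ⟨hM, hM1⟩ hle))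
  have hp : p.Prime := Fact.out
  -- `N` is not abelian
  have hperf : ⁅N, N⁆ = N := by
    refine (hmin' _ inferInstance (Subgroup.commutator_le_self N)).resolve_left fun hab => ?_
    obtain ⟨r, hr, hrd⟩ := Nat.exists_prime_and_dvd
      (n := Nat.card ↥N) (fun h1 => hN1 (Subgroup.eq_bot_of_card_eq N h1))
    haveI := Fact.mk hr
    have hNc : ∀ a ∈ N, ∀ b ∈ N, a * b = b * a := fun a ha b hb => by
      have h1 := Subgroup.commutator_mem_commutator ha hb
      rw [hab, Subgroup.mem_bot] at h1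
      exact commutatorElement_eq_one_iff_mul_comm.mp h1
    let T : Subgroup G :=
      { carrier := {a | a ∈ N ∧ a ^ r = 1}
        one_mem' := ⟨N.one_mem, one_pow r⟩
        mul_mem' := fun {a b} ha hb => ⟨N.mul_mem ha.1 hb.1, by
          rw [Commute.mul_pow (hNc a ha.1 b hb.1), ha.2, hb.2, one_mul]⟩
        inv_mem' := fun {a} ha => ⟨N.inv_mem ha.1, by rw [inv_pow, ha.2, inv_one]⟩ }
    haveI hTn : T.Normal := ⟨fun a ha g => ⟨hNn.conj_mem a ha.1 g, by
      rw [conj_pow, ha.2]; group⟩⟩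
    have hT : T = N := by
      refine (hmin' T hTn fun a ha => ha.1).resolve_left fun hb => ?_
      obtain ⟨a, ha⟩ := exists_prime_orderOf_dvd_card' r hrd
      have h1 : (a : G) ∈ T := ⟨a.2, by rw [← ha, ← Subgroup.orderOf_coe, pow_orderOf_eq_one]⟩
      rw [hb, Subgroup.mem_bot] at h1
      rw [show a = 1 from Subtype.ext h1, orderOf_one] at ha
      exact hr.ne_one ha.symm
    have hTp : IsPGroup r ↥T := fun a => ⟨1, Subtype.ext (by rw [pow_one]; exact a.2.2)⟩
    by_cases hrp : r = p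
    · subst hrp
      exact hN1 (le_bot_iff.mp (h.pCore_eq_bot ▸ Lib.Cores.le_pCore hNn (hT ▸ hTp)))
    · obtain ⟨k, hk⟩ := IsPGroup.iff_card.mp hTp
      exact hN1 (le_bot_iff.mp (h.pPrimeCore_eq_bot ▸ Lib.Cores.le_pPrimeCore hNn (by
        rw [← hT, hk]; exact ((Nat.coprime_primes hr hp).mpr hrp).pow_left k)))
  have hcomm : commutator G = N := by
    refine le_antisymm ?_ ?_
    · have hq : IsMulCommutative (G ⧸ N) := by
        have hgen : ∀ a : G ⧸ N, a ∈ Subgroup.zpowers (QuotientGroup.mk x : G ⧸ N) := by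
          intro a
          obtain ⟨g, rfl⟩ := QuotientGroup.mk_surjective a
          have hg : g ∈ Subgroup.zpowers x ⊔ N := by rw [sup_comm, hsup]; trivial
          rw [← SetLike.mem_coe, Subgroup.mul_normal] at hg
          obtain ⟨b, ⟨k, rfl⟩, n, hn, rfl⟩ := hg
          refine ⟨k, ?_⟩
          show (QuotientGroup.mk x : G ⧸ N) ^ k = QuotientGroup.mk (x ^ k * n)
          rw [QuotientGroup.mk_mul, QuotientGroup.mk_zpow, (QuotientGroup.eq_one_iff n).mpr hn, mul_one]
        exact ⟨⟨fun a b => by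
          obtain ⟨i, rfl⟩ := hgen a
          obtain ⟨j, rfl⟩ := hgen b
          exact ((Commute.refl _).zpow_zpow i j).eq⟩⟩
      rw [commutator_def, Subgroup.commutator_le]
      intro a _ b _
      rw [← QuotientGroup.eq_one_iff, commutatorElement_def]
      simp only [QuotientGroup.mk_mul, QuotientGroup.mk_inv]
      rw [hq.is_comm.comm (QuotientGroup.mk a : G ⧸ N) (QuotientGroup.mk b)]
      group
    · rw [← hperf, commutator_def]; exact Subgroup.commutator_mono le_top le_top
  have hsimple : IsSimpleGroup ↥N := by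
    haveI : Nontrivial ↥N := (Subgroup.nontrivial_iff_ne_bot N).mpr hN1
    refine ⟨fun L₀ hL₀ => ?_⟩
    by_cases hL₁ : L₀ = ⊥
    · exact Or.inl hL₁
    right
    obtain ⟨L', ⟨hLn, hLne, hLle⟩, hLmin⟩ := Set.Finite.exists_minimalFor
      (fun L : Subgroup ↥N => L) {L : Subgroup ↥N | L.Normal ∧ L ≠ ⊥ ∧ L ≤ L₀} (Set.toFinite _)
      ⟨L₀, hL₀, hL₁, le_rfl⟩
    haveI := hLn
    set L := L'.map N.subtype with hL
    -- `L` contains an element of order `p`
    have hpL : p ∣ Nat.card ↥L' := by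
      by_contra hnd
      refine hLne ((Subgroup.map_eq_bot_iff_of_injective _ N.subtype_injective).mp (le_bot_iff.mp ?_))
      refine le_trans (Subgroup.map_mono (Lib.Cores.le_pPrimeCore hLn
        ((hp.coprime_iff_not_dvd.mpr hnd).symm))) ?_
      rw [Lib.Cores.map_subtype_pPrimeCore_eq, h.pPrimeCore_eq_bot, inf_bot_eq]
    obtain ⟨y₀, hy₀⟩ := exists_prime_orderOf_dvd_card' p hpL
    have hy : ((y₀ : ↥N) : G) ∈ L := ⟨_, y₀.2, rfl⟩
    have hyp : orderOf ((y₀ : ↥N) : G) = p := by rw [Subgroup.orderOf_coe, Subgroup.orderOf_coe, hy₀]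
    obtain ⟨c, hc, R, hR, hxR, hyR⟩ := Lib.LocalEven2.exists_conj_mem_pgroup (H := ⊤) (x := x)
      (z := ((y₀ : ↥N) : G)) trivial trivial h.exists_order ⟨1, by rw [pow_one, hyp]⟩
    -- write `c` as an element of `⟨x⟩ N`
    have hc' : c ∈ Subgroup.zpowers x ⊔ N := by rw [sup_comm, hsup]; trivial
    rw [← SetLike.mem_coe, Subgroup.mul_normal] at hc'
    obtain ⟨b, ⟨k, rfl⟩, n, hn, rfl⟩ := hc'
    set y := n * ((y₀ : ↥N) : G) * n⁻¹ with hyd
    have hyL : y ∈ L := ⟨⟨n, hn⟩ * (y₀ : ↥N) * ⟨n, hn⟩⁻¹, hLn.conj_mem _ y₀.2 _, rfl⟩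
    have hxy : x * y = y * x := by
      have hyR' : y ∈ R := by
        have := R.mul_mem (R.mul_mem (R.zpow_mem hxR (-k)) hyR) (R.zpow_mem hxR k)
        convert this using 1
        rw [hyd]; group
      exact Lib.LocalEven2.isolated_central hiso hR hxR y hyR'
    -- the conjugate of `L'` by `x`
    let e : ↥N ≃* ↥N := (MulAut.conjNormal (H := N)) x
    set Lx := L'.map e.toMonoidHom with hLx
    haveI hLxn : Lx.Normal := hLn.map _ e.surjective
    have hy1 : y ≠ 1 := by
      intro h1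
      have : orderOf y = p := by rw [hyd, ← hyp]; exact (MulAut.conj n).orderOf_eq _
      rw [h1, orderOf_one] at this
      exact hp.ne_one this.symm
    have hyN : y ∈ N := (Subgroup.map_subtype_le L') hyL
    have hy' : (⟨y, hyN⟩ : ↥N) ∈ L' ⊓ Lx := by
      obtain ⟨z, hz, hzy⟩ := hyL
      have hzy' : z = ⟨y, hyN⟩ := Subtype.ext hzy
      refine ⟨hzy' ▸ hz, ⟨y, hyN⟩, hzy' ▸ hz, Subtype.ext ?_⟩
      show x * y * x⁻¹ = y
      rw [hxy]; group
    haveI hin : (L' ⊓ Lx).Normal := Subgroup.normal_inf_normal L' Lx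
    have hne : L' ⊓ Lx ≠ ⊥ := by
      intro hb
      rw [hb, Subgroup.mem_bot] at hy'
      exact hy1 (congrArg (fun z : ↥N => (z : G)) hy')
    have hLeq : L' ⊓ Lx = L' := le_antisymm inf_le_left
      (hLmin ⟨hin, hne, inf_le_left.trans hLle⟩ inf_le_left)
    have hLxeq : L' = Lx := Subgroup.eq_of_le_of_card_ge (inf_eq_left.mp hLeq)
      (Nat.card_congr (L'.equivMapOfInjective _ e.injective).toEquiv).symm.le
    haveI hLnG : L.Normal := by
      have hle : N ⊔ Subgroup.zpowers x ≤ Subgroup.normalizer (L : Set G) := by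
        refine sup_le (fun m hm => ?_) (Subgroup.zpowers_le.mpr ?_)
        · rw [Subgroup.mem_normalizer_iff]
          have key : ∀ m ∈ N, ∀ z ∈ L, m * z * m⁻¹ ∈ L := by
            rintro m hm _ ⟨z, hz, rfl⟩
            exact ⟨_, hLn.conj_mem z hz ⟨m, hm⟩, rfl⟩
          refine fun z => ⟨key m hm z, fun hz => ?_⟩
          have := key m⁻¹ (N.inv_mem hm) _ hz
          simpa [mul_assoc] using this
        · rw [Subgroup.mem_normalizer_iff]
          intro z
          constructor
          · rintro ⟨w, hw, rfl⟩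
            exact ⟨e w, hLxeq.symm ▸ ⟨w, hw, rfl⟩, rfl⟩
          · rintro ⟨w, hw, hwz⟩
            rw [hLxeq] at hw
            obtain ⟨v, hv, rfl⟩ := hw
            refine ⟨v, hv, ?_⟩
            have hv' : x * (v : G) * x⁻¹ = x * z * x⁻¹ := hwz
            exact mul_left_cancel (mul_right_cancel hv')
      rw [hsup] at hle
      exact Subgroup.normalizer_eq_top_iff.mp (top_le_iff.mp hle)
    have hLN : L = N := (hmin' L hLnG (Subgroup.map_subtype_le L')).resolve_left fun hb =>
      hy1 (Subgroup.mem_bot.mp (hb ▸ hyL))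
    refine top_le_iff.mp (le_trans ?_ hLle)
    intro z _
    obtain ⟨w, hw, hwz⟩ : (z : G) ∈ L := hLN.symm ▸ z.2
    rwa [← N.subtype_injective hwz]
  subst hcomm
  refine ⟨hsimple, fun hc => hN1 ?_, hsup⟩
  rw [← hperf, Subgroup.commutator_eq_bot_iff_le_centralizer]
  intro a ha
  exact Subgroup.mem_centralizer_iff.mpr fun b hb =>
    congrArg Subtype.val (hc.is_comm.comm (⟨b, hb⟩ : ↥(commutator G)) ⟨a, ha⟩)

end Cfsg.Agent.S2972
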