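import Cfsg.Statements.S2975
import Cfsg.Agent.Lib.LocalEven2.ZStar
import Cfsg.Agent.Lib.Coprime.Action

set_option autoImplicit false
open Cfsg

namespace Cfsg.Agent.S2975

/-- Let G be a finite group, p a prime and x ∈ G an isolated element of order p (the only conjugate of x commuting with x is x) which is not central modulo the largest normal subgroup of order prime to p, while x is central modulo the largest normal subgroup of order prime to p in every proper subgroup containing x, and the image of x is so in every quotient of G by a nontrivial normal subgroup (a minimal counterexample to the Z*_p statement). Then for every prime q, every q-subgroup of G that is normalized by x and maximal among the q-subgroups normalized by x is either trivial or a Sylow q-subgroup of G; and C_G(x) permutes the x-invariant Sylow q-subgroups of G transitively by conjugation. -/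
theorem result {G : Type*} [Group G] [Finite G] {p : ℕ} [Fact p.Prime] (x : G) (hx : orderOf x = p) (hiso : Cfsg.IsIsolated x) (hnz : ¬ Cfsg.InZStar p x) (hmin : ∀ (H : Subgroup G) (hxH : x ∈ H), H ≠ ⊤ → Cfsg.InZStar p (⟨x, hxH⟩ : ↥H)) (hquot : ∀ (N : Subgroup G) [N.Normal], N ≠ ⊥ → Cfsg.InZStar p (QuotientGroup.mk x : G ⧸ N)) (q : ℕ) [Fact q.Prime] : (∀ Q : Subgroup G, IsPGroup q ↥Q → x ∈ Subgroup.normalizer (Q : Set G) → (∀ R : Subgroup G, IsPGroup q ↥R → x ∈ Subgroup.normalizer (R : Set G) → Q ≤ R → R = Q) → Q = ⊥ ∨ ∃ S : Sylow q G, (S : Subgroup G) = Q) ∧ (∀ S₁ S₂ : Sylow q G, x ∈ Subgroup.normalizer ((S₁ : Subgroup G) : Set G) → x ∈ Subgroup.normalizer ((S₂ : Subgroup G) : Set G) → ∃ c ∈ Subgroup.centralizer ({x} : Set G), (S₁ : Subgroup G).map (MulAut.conj c).toMonoidHom = (S₂ : Subgroup G)) := by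
  classical
  have h : Lib.LocalEven2.IsMinimalZStar p x := ⟨hx, hiso, hnz, hmin, hquot⟩
  have hp : p.Prime := Fact.out
  have hq : q.Prime := Fact.out
  obtain ⟨g₀, hg₀⟩ := h.not_central
  constructor
  · intro Q hQ hxQ hmax
    by_cases hQ1 : Q = ⊥
    · exact Or.inl hQ1
    right
    set H := Subgroup.normalizer (Q : Set G) with hH
    have hHne : H ≠ ⊤ := by
      intro htop
      haveI : Q.Normal := Subgroup.normalizer_eq_top_iff.mp htop
      by_cases hqp : q = p
      · subst hqp
        exact hQ1 (le_bot_iff.mp (h.pCore_eq_bot ▸ Lib.Cores.le_pCore inferInstance hQ))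
      · obtain ⟨k, hk⟩ := IsPGroup.iff_card.mp hQ
        exact hQ1 (le_bot_iff.mp (h.pPrimeCore_eq_bot ▸ Lib.Cores.le_pPrimeCore inferInstance
          (hk ▸ ((Nat.coprime_primes hq hp).mpr hqp).pow_left k)))
    by_cases hqp : q = p
    · subst hqp
      have h1 : IsPGroup q ↥(Q ⊔ Subgroup.zpowers x) := by
        rw [sup_comm]
        exact IsPGroup.to_sup_of_normal_right' (Lib.LocalEven2.isPGroup_zpowers h.exists_order) hQ
          (Subgroup.zpowers_le.mpr hxQ)
      have h2 := hmax _ h1 (Subgroup.le_normalizer (Subgroup.mem_sup_right (Subgroup.mem_zpowers x))) le_sup_left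
      have hxQ' : x ∈ Q := h2 ▸ Subgroup.mem_sup_right (Subgroup.mem_zpowers x)
      obtain ⟨S, hS⟩ := hQ.exists_le_sylow
      exact ⟨S, hmax S S.2 (Subgroup.le_normalizer (hS hxQ')) hS⟩
    set K := (Cfsg.pPrimeCore p ↥H).map H.subtype with hK
    have hQK : Q ≤ K := Lib.LocalEven2.le_pPrimeCore_map Subgroup.le_normalizer le_rfl (by
      obtain ⟨k, hk⟩ := IsPGroup.iff_card.mp hQ
      exact hk ▸ ((Nat.coprime_primes hq hp).mpr hqp).pow_left k)
    have hKH : K ≤ H := Subgroup.map_subtype_le _
    have hKn := Lib.LocalEven2.map_pPrimeCore_normalizes (p := p) H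
    have hxK : Subgroup.zpowers x ≤ Subgroup.normalizer (K : Set G) :=
      (Subgroup.zpowers_le.mpr hxQ).trans hKn
    have hcop : (Nat.card ↥(Subgroup.zpowers x)).Coprime (Nat.card ↥K) := by
      rw [Nat.card_zpowers, hx, hK, ← Nat.card_congr
        ((Cfsg.pPrimeCore p ↥H).equivMapOfInjective _ H.subtype_injective).toEquiv]
      exact (Lib.Cores.pPrimeCore_coprime p _).symm
    haveI : Group.IsSolvable ↥(Subgroup.zpowers x) := Lib.Coprime.isSolvable_zpowers x
    -- `Q` is a Sylow subgroup of `K`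
    obtain ⟨S₀, hQS, hxS⟩ := Lib.Coprime.exists_invariant_sylow_ge hxK hcop (Or.inl inferInstance) q Q
      hQK hQ (Subgroup.zpowers_le.mpr hxQ)
    have hS₀ : (S₀ : Subgroup ↥K).map K.subtype = Q :=
      hmax _ (S₀.2.map _) (hxS (Subgroup.mem_zpowers x)) hQS
    -- the centraliser of `x` in `H`
    set C := H ⊓ Subgroup.centralizer ({x} : Set G) with hC
    have hHKC : H ≤ K ⊔ C := by
      intro g hg
      have hgx := h.commutator_mem hxQ hHne hg
      let F : Subgroup G :=
        { carrier := {a | a ∈ Subgroup.normalizer (K : Set G) ∧ a * g * a⁻¹ * g⁻¹ ∈ K}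
          one_mem' := ⟨one_mem _, by simp⟩
          mul_mem' := fun {a b} ha hb => ⟨mul_mem ha.1 hb.1, by
            have h1 := K.mul_mem ((Subgroup.mem_normalizer_iff.mp ha.1 _).mp hb.2) ha.2
            simpa [mul_assoc] using h1⟩
          inv_mem' := fun {a} ha => ⟨inv_mem ha.1, by
            have h1 := (Subgroup.mem_normalizer_iff.mp (inv_mem ha.1) _).mp (K.inv_mem ha.2)
            simpa [mul_assoc] using h1⟩ }
      have hxF : x ∈ F := ⟨hxK (Subgroup.mem_zpowers x), by
        have h1 := K.inv_mem hgx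
        simpa [mul_assoc] using h1⟩
      obtain ⟨n, hn, hgn⟩ := Lib.Coprime.exists_mem_centralizer_of_fixed_coset hxK hcop
        (Or.inl inferInstance) (k := g) (hKn hg) (fun a ha => (Subgroup.zpowers_le.mpr hxF ha).2)
      have hgC : g * n ∈ C := ⟨H.mul_mem hg (hKH hn),
        Subgroup.centralizer_le (Set.singleton_subset_iff.mpr (Subgroup.mem_zpowers x)) hgn⟩
      have := Subgroup.mul_mem _ (Subgroup.mem_sup_right hgC)
        (Subgroup.mem_sup_left (K.inv_mem hn) : n⁻¹ ∈ K ⊔ C)
      simpa using this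
    -- no `q`-elements of `C` outside `Q`
    have hCq : ¬ q ∣ K.relIndex C := by
      let T₀ : Sylow q ↥C := default
      set T := (T₀ : Subgroup ↥C).map C.subtype with hT
      have hTC : T ≤ C := Subgroup.map_subtype_le _
      have h1 : IsPGroup q ↥(T ⊔ Q) := IsPGroup.to_sup_of_normal_right' (T₀.2.map _) hQ
        (hTC.trans inf_le_left)
      have hxN : x ∈ Subgroup.normalizer ((T ⊔ Q : Subgroup G) : Set G) := by
        refine Subgroup.normalizer_inf_normalizer_le_normalizer_sup T Q ⟨?_, hxQ⟩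
        refine Subgroup.centralizer_le_normalizer _ (Subgroup.mem_centralizer_iff.mpr fun t ht => ?_)
        exact Subgroup.mem_centralizer_singleton_iff.mp (hTC ht).2
      have hTK : T ≤ K := (le_of_le_of_eq le_sup_left (hmax _ h1 hxN le_sup_right)).trans hQK
      intro hd
      apply T₀.not_dvd_index
      have h2 : (T₀ : Subgroup ↥C) ≤ K.subgroupOf C := fun t ht => hTK ⟨t, ht, rfl⟩
      exact hd.trans (Subgroup.index_dvd_of_le h2)
    have hidx : ¬ q ∣ Q.relIndex H := by
      rw [← Subgroup.relIndex_mul_relIndex Q K H hQK hKH]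
      intro hd
      rcases (hq.dvd_mul).mp hd with h1 | h1
      · apply S₀.not_dvd_index
        have e : Q.relIndex K = (S₀ : Subgroup ↥K).index := by
          rw [← hS₀, Subgroup.relIndex, Subgroup.subgroupOf,
            Subgroup.comap_map_eq_self_of_injective K.subtype_injective]
        rwa [e] at h1
      · apply hCq
        have e : K.relIndex H = K.relIndex C := by
          rw [show H = K ⊔ C from le_antisymm hHKC (sup_le hKH inf_le_left)]
          have e1 := Lib.Coprime.card_sup_mul_card_inf (N := K) (H := C) (inf_le_left.trans hKn)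
          rw [← Lib.Coprime.relIndex_mul_card (le_sup_left : K ≤ K ⊔ C),
            ← Lib.Coprime.relIndex_mul_card (show K ⊓ C ≤ C from inf_le_right)] at e1
          rw [← Subgroup.inf_relIndex_right K C]
          refine Nat.eq_of_mul_eq_mul_left (Nat.mul_pos (Nat.card_pos (α := ↥K))
            (Nat.card_pos (α := ↥(K ⊓ C)))) ?_
          calc Nat.card ↥K * Nat.card ↥(K ⊓ C) * K.relIndex (K ⊔ C)
              = Nat.card ↥K * K.relIndex (K ⊔ C) * Nat.card ↥(K ⊓ C) := by ring
            _ = Nat.card ↥K * (Nat.card ↥(K ⊓ C) * (K ⊓ C).relIndex C) := e1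
            _ = _ := by ring
        rwa [e] at h1
    obtain ⟨S, hS⟩ := hQ.exists_le_sylow
    refine ⟨S, ?_⟩
    rcases eq_or_lt_of_le hS with h1 | h1
    · exact h1.symm
    exfalso
    obtain ⟨w, hwS, hwQ, hwn⟩ := Lib.LocalEven2.exists_normalizer_not_mem S.2 h1
    apply hwQ
    set R := (S : Subgroup G) ⊓ H with hR
    have hQR : Q ≤ R := le_inf hS Subgroup.le_normalizer
    have h2 : Q.relIndex R ∣ Q.relIndex H :=
      Dvd.intro _ (Subgroup.relIndex_mul_relIndex Q R H hQR inf_le_right)
    obtain ⟨k, hk⟩ := IsPGroup.iff_card.mp (S.2.to_inf_left : IsPGroup q ↥R)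
    obtain ⟨j, -, hj⟩ := (Nat.dvd_prime_pow hq).mp
      (hk ▸ Subgroup.index_dvd_card (Q.subgroupOf R))
    have h3 : Q.relIndex R = 1 := by
      rcases j with _ | j
      · simpa [Subgroup.relIndex] using hj
      · exact absurd ((dvd_pow_self q (Nat.succ_ne_zero j)).trans (hj.symm.dvd.trans h2)) hidx
    exact Subgroup.relIndex_eq_one.mp h3 ⟨hwS, hwn⟩
  · intro S₁ S₂ hx₁ hx₂
    obtain ⟨g, hg⟩ := MulAction.exists_smul_eq G S₁ S₂
    have hg' : g⁻¹ * x * g ∈ Subgroup.normalizer ((S₁ : Subgroup G) : Set G) := by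
      rw [← hg] at hx₂
      rw [Subgroup.mem_normalizer_iff] at hx₂ ⊢
      intro y
      have h1 := hx₂ (g * y * g⁻¹)
      simp only [Lib.LocalEven2.mem_smul_sylow] at h1
      simpa [mul_assoc] using h1
    have hg'' : g⁻¹ * x * g⁻¹⁻¹ ∈ Subgroup.normalizer ((S₁ : Subgroup G) : Set G) := by rwa [inv_inv]
    obtain ⟨c, hc, hcg⟩ := Lib.LocalEven2.isolated_conj_eq hiso h.exists_order hx₁ hg''
    refine ⟨g * c⁻¹, Subgroup.mem_centralizer_singleton_iff.mpr ?_, ?_⟩
    · calc g * c⁻¹ * x = g * c⁻¹ * (x * (c * g⁻¹)) * (c * g⁻¹)⁻¹ := by group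
        _ = g * c⁻¹ * ((c * g⁻¹) * x) * (c * g⁻¹)⁻¹ := by rw [hcg]
        _ = _ := by group
    · rw [← Lib.LocalEven2.smul_sylow_eq_map, mul_smul,
        Sylow.smul_eq_iff_mem_normalizer.mpr (inv_mem hc), hg]

end Cfsg.Agent.S2975
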