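import Cfsg.Statements.S2984
import Cfsg.Agent.Lib.LocalEven2.BaumannModule

set_option autoImplicit false
open Cfsg

namespace Cfsg.Agent.S2984

open Lib Lib.LocalEven2 Lib.LocalEven2.Baumann

/-- Let G be a finite group of characteristic p (C_G(O_p(G)) ≤ O_p(G)), T a Sylow p-subgroup and E a B(T)-block of G, with W_E = [Ω₁(Z(O_p(E))), E]. Then E = O^p(E·O_p(G)), W_E ≤ Ω₁(Z(O_p(G))), and [W_E, J(T)] ≠ 1, where J(T) is generated by the elementary abelian p-subgroups of T of largest order. -/
theorem result {G : Type*} [Group G] [Finite G] {p : ℕ} [Fact p.Prime] (hG : Subgroup.centralizer (Cfsg.pCore p G : Set G) ≤ Cfsg.pCore p G) (T : Sylow p G) (E : Subgroup G) (hE : Cfsg.IsBaumannBlock p (T : Subgroup G) E) : Cfsg.pResidualOf p (E ⊔ Cfsg.pCore p G) = E ∧ ⁅Cfsg.omegaOneCenter p (Cfsg.pCoreOf p E), E⁆ ≤ Cfsg.omegaOneCenter p (Cfsg.pCore p G) ∧ ⁅⁅Cfsg.omegaOneCenter p (Cfsg.pCoreOf p E), E⁆, Cfsg.thompsonSubgroupOf p (T : Subgroup G)⁆ ≠ ⊥ := by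
  obtain ⟨hmV, hW1, hWW⟩ := module_le hG T E hE
  obtain ⟨hres, hEB, -, -, -⟩ := hE
  have hRn : ∀ K : Subgroup G, K ≤ Subgroup.normalizer (Cfsg.pCore p G : Set G) := fun K => by
    rw [Subgroup.normalizer_eq_top_iff.mpr inferInstance]; exact le_top
  have hRp : IsPGroup p ↥(Cfsg.pCore p G) := Lib.Components.pCore_isPGroup p
  have hRT : Cfsg.pCore p G ≤ (T : Subgroup G) := Lib.LocalEven.pCore_le_sylow T
  refine ⟨pResidualOf_sup hRp (le_normalizer_block T hres hEB hRp (hRn _) (hRn _)) hres, hmV, ?_⟩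
  set W := ⁅Cfsg.omegaOneCenter p (Cfsg.pCoreOf p E), E⁆ with hWdef
  intro hJ
  rw [Subgroup.commutator_eq_bot_iff_le_centralizer] at hJ
  have hWR : W ≤ Cfsg.pCore p G := hmV.trans ((omegaOne_le _).trans inf_le_left)
  have hWT : W ≤ (T : Subgroup G) := hWR.trans hRT
  have hWc : ∀ a ∈ W, ∀ b ∈ W, a * b = b * a := fun a ha b hb =>
    center_centralizes (Cfsg.pCore p G) (omegaOne_le _ (hmV hb)) (hWR ha)
  have hWp : ∀ a ∈ W, a ^ p = 1 := fun a ha =>
    omegaOne_pow (fun x hx y hy => center_centralizes (Cfsg.pCore p G) hy (Subgroup.mem_inf.mp hx).1) (hmV ha)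
  -- `W` lies in every maximal elementary abelian subgroup
  have hWA : W ≤ Cfsg.centerThompsonOf p (T : Subgroup G) := by
    intro w hw
    refine Subgroup.mem_inf.mpr ⟨?_, ?_⟩
    · obtain ⟨A, hA⟩ := exists_isMaxEA p (T : Subgroup G)
      obtain ⟨hAc, hAp⟩ := isElementaryAbelian_iff.mp hA.2.1
      have hAJ := le_thompsonSubgroupOf hA
      have hcm : A ⊔ W ≤ Subgroup.centralizer ((A ⊔ W : Subgroup G) : Set G) := by
        have h1 : A ⊔ W ≤ Subgroup.centralizer (A : Set G) := sup_le
          (fun a ha => Subgroup.mem_centralizer_iff.mpr fun b hb => hAc b hb a ha)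
          (hJ.trans (Subgroup.centralizer_le hAJ))
        have h2 : A ⊔ W ≤ Subgroup.centralizer (W : Set G) := sup_le
          (hAJ.trans (Subgroup.le_centralizer_iff.mp hJ))
          (fun a ha => Subgroup.mem_centralizer_iff.mpr fun b hb => hWc b hb a ha)
        exact Subgroup.le_centralizer_iff.mp
          (sup_le (Subgroup.le_centralizer_iff.mp h1) (Subgroup.le_centralizer_iff.mp h2))
      have hEA : Cfsg.IsElementaryAbelian p (A ⊔ W : Subgroup G) := by
        refine isElementaryAbelian_iff.mpr ⟨fun x hx y hy =>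
          (Subgroup.mem_centralizer_iff.mp (hcm hx) y hy).symm, fun x hx => ?_⟩
        have : x ∈ Subgroup.closure ((A : Set G) ∪ (W : Set G)) := by
          rwa [Subgroup.closure_union, Subgroup.closure_eq, Subgroup.closure_eq]
        induction this using Subgroup.closure_induction with
        | mem y hy => exact hy.elim (hAp y) (hWp y)
        | one => exact one_pow _
        | mul y z hy hz ihy ihz =>
          rw [Subgroup.closure_union, Subgroup.closure_eq, Subgroup.closure_eq] at hy hz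
          rw [(show Commute y z from (Subgroup.mem_centralizer_iff.mp (hcm hy) z hz).symm).mul_pow,
            ihy hy, ihz hz, one_mul]
        | inv y hy ihy =>
          rw [Subgroup.closure_union, Subgroup.closure_eq, Subgroup.closure_eq] at hy
          rw [inv_pow, ihy hy, inv_one]
      have heq : A = A ⊔ W := Subgroup.eq_of_le_of_card_ge le_sup_left
        (hA.2.2 _ (sup_le hA.1 hWT) hEA)
      exact hAJ (heq.ge (Subgroup.mem_sup_right hw))
    · exact hJ hw
  have hWZ : W ≤ Cfsg.omegaOne p (Cfsg.centerThompsonOf p (T : Subgroup G)) := fun w hw =>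
    mem_omegaOne (hWA hw) (hWp w hw)
  have hBW : Cfsg.baumannSubgroupOf p (T : Subgroup G) ≤ Subgroup.centralizer (W : Set G) :=
    inf_le_right.trans (Subgroup.centralizer_le hWZ)
  have hEn : E ≤ Subgroup.normalizer (W : Set G) := le_normalizer_commutator
    ((FusionControl.le_normalizer_map_subtype _).trans omegaOneCenter_normalizer) Subgroup.le_normalizer
  have hEC : E ≤ Subgroup.centralizer (W : Set G) := by
    refine le_trans hEB.ge (Subgroup.commutator_le.mpr fun e he b hb => ?_)
    have hb' := hBW hb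
    rw [commutatorElement_def]
    refine mul_mem ?_ (inv_mem hb')
    rw [Subgroup.mem_centralizer_iff]
    intro w hw
    have h1 : e⁻¹ * w * e ∈ W := (Subgroup.mem_normalizer_iff''.mp (hEn he) w).mp hw
    calc w * (e * b * e⁻¹) = e * ((e⁻¹ * w * e) * b) * e⁻¹ := by group
      _ = e * (b * (e⁻¹ * w * e)) * e⁻¹ := by rw [Subgroup.mem_centralizer_iff.mp hb' _ h1]
      _ = e * b * e⁻¹ * w := by group
  apply hW1
  rw [← hWW, Subgroup.commutator_eq_bot_iff_le_centralizer, Subgroup.le_centralizer_iff]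
  exact hEC

end Cfsg.Agent.S2984
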