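import Cfsg.Statements.S2985
import Cfsg.Agent.S2984
import Cfsg.Agent.Lib.BlockExc.Final

set_option autoImplicit false
open Cfsg

namespace Cfsg.Agent.S2985

open scoped commutatorElement
open Lib Lib.LocalEven2 Lib.BlockExc

variable {G : Type*} [Group G] [Finite G]

omit [Finite G] in
theorem ker_le_core {F : Type*} [Field F] [Fintype F] {E : Subgroup G} {p : ℕ}
    (ρ : ↥E →* Matrix.SpecialLinearGroup (Fin 2) F) [Finite ↥E]
    (hr : ρ.range = commutator (Matrix.SpecialLinearGroup (Fin 2) F))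
    (he : Nonempty (↥E ⧸ Cfsg.pCore p ↥E ≃* ↥(commutator (Matrix.SpecialLinearGroup (Fin 2) F))))
    (hle : Cfsg.pCore p ↥E ≤ ρ.ker) : ρ.ker ≤ Cfsg.pCore p ↥E := by
  obtain ⟨f⟩ := he
  have h2 := Subgroup.relIndex_mul_index hle
  rw [Subgroup.index_ker, hr, Subgroup.index_eq_card (Cfsg.pCore p ↥E), Nat.card_congr f.toEquiv] at h2
  exact Subgroup.relIndex_eq_one.mp (Nat.eq_of_mul_eq_mul_right Nat.card_pos (h2.trans (one_mul _).symm))


/-- Let G be a finite group of characteristic p (C_G(O_p(G)) ≤ O_p(G)), T a Sylow p-subgroup and E a B(T)-block of G, with W_E = [Ω₁(Z(O_p(E))), E]. Then E is normalized by C_G(W_E); that is, E is a normal subgroup of E·C_G(W_E). -/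
theorem result {G : Type*} [Group G] [Finite G] {p : ℕ} [Fact p.Prime] (hG : Subgroup.centralizer (Cfsg.pCore p G : Set G) ≤ Cfsg.pCore p G) (T : Sylow p G) (E : Subgroup G) (hE : Cfsg.IsBaumannBlock p (T : Subgroup G) E) : Subgroup.centralizer ((⁅Cfsg.omegaOneCenter p (Cfsg.pCoreOf p E), E⁆ : Subgroup G) : Set G) ≤ Subgroup.normalizer (E : Set G) := by
  obtain ⟨hmV, hX1, hXX⟩ := Baumann.module_le hG T E hE
  have hJ := (S2984.result hG T E hE).2.2
  obtain ⟨hres, hEB, -, -, hcases⟩ := hE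
  set Q := Cfsg.pCoreOf p E with hQdef
  set W := Cfsg.omegaOneCenter p Q with hWdef
  set X := ⁅W, E⁆ with hXdef
  set R := Cfsg.pCore p G with hRdef
  have hRp : IsPGroup p ↥R := LocalEven.pCore_isPGroup p G
  have hRn : ∀ K : Subgroup G, K ≤ Subgroup.normalizer (R : Set G) := fun K => by
    rw [Subgroup.normalizer_eq_top_iff.mpr inferInstance]; exact le_top
  have hRE : R ≤ Subgroup.normalizer (E : Set G) := Baumann.le_normalizer_block T hres hEB hRp (hRn _) (hRn _)
  have hEQ : E ≤ Subgroup.normalizer (Q : Set G) := FusionControl.le_normalizer_map_subtype _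
  have hEW : E ≤ Subgroup.normalizer (W : Set G) := hEQ.trans Baumann.omegaOneCenter_normalizer
  have hWQ : W ≤ Q := (Baumann.omegaOne_le _).trans inf_le_left
  have hXW : X ≤ W := Coprime.commutator_le_of_le_normalizer hEW
  have hXR : X ≤ R := hmV.trans ((Baumann.omegaOne_le _).trans inf_le_left)
  have hRX : R ≤ Subgroup.centralizer (X : Set G) := fun r hr => Subgroup.mem_centralizer_iff.mpr fun x hx =>
    (Baumann.center_centralizes R (Baumann.omegaOne_le _ (hmV hx)) hr).symm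
  have hBE : Cfsg.baumannSubgroupOf p (T : Subgroup G) ≤ Subgroup.normalizer (E : Set G) :=
    Baumann.baumann_le_normalizer hEB
  have hBQ : Cfsg.baumannSubgroupOf p (T : Subgroup G) ≤ Subgroup.normalizer (Q : Set G) := fun g hg =>
    LocalEven.conjS_eq_self_iff.1 (by rw [LocalEven.conjS_pCoreOf, LocalEven.conjS_eq_self_iff.2 (hBE hg)])
  have hnB : Cfsg.baumannSubgroupOf p (T : Subgroup G) ≤ Subgroup.normalizer (X : Set G) :=
    Baumann.le_normalizer_commutator (hBQ.trans Baumann.omegaOneCenter_normalizer) hBE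
  have hnE : E ≤ Subgroup.normalizer (X : Set G) := Baumann.le_normalizer_commutator hEW Subgroup.le_normalizer
  have hAQ : ⁅R, E⁆ ≤ Q := LocalEven.le_pCoreOf
    (Subgroup.le_normalizer_iff_commutator_le_right.mp hRE)
    (Baumann.le_normalizer_commutator (hRn E) Subgroup.le_normalizer)
    (hRp.to_le (Coprime.commutator_le_of_le_normalizer (hRn E)))
  by_cases hA : ⁅R, E⁆ ≤ W
  · exact BlockExc.of_commutator_le hG T hres hEB hXR hRX hnB hnE
      ((Baumann.commutator_eq_self_of_residual hres hRp (hRn E)).ge.trans (Subgroup.commutator_mono hA le_rfl))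
  rcases hcases with ⟨F, iF, iFin, n, hF, hiso, hact, hQW | ⟨hp3, hact', hQQ, -, hZE, hcard, hnoquad⟩⟩ |
    ⟨-, m, -, -, hQW⟩
  · exact absurd (hAQ.trans hQW.le) hA
  swap
  · exact absurd (hAQ.trans hQW.le) hA
  subst hp3
  haveI : CharP F 3 := by
    obtain ⟨q, hq⟩ := CharP.exists F
    obtain ⟨k, hqp, hk⟩ := FiniteField.card F q
    rw [hF] at hk
    have h3 : q = 3 := ((Nat.prime_dvd_prime_iff_eq hqp Nat.prime_three).mp
      (hqp.dvd_of_dvd_pow (hk ▸ dvd_pow_self q k.ne_zero)))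
    exact h3 ▸ hq
  set Z := W ⊓ Subgroup.centralizer (E : Set G) with hZdef
  have hZc : ∀ z ∈ Z, ∀ e ∈ E, e * z = z * e := fun z hz e he =>
    Subgroup.mem_centralizer_iff.mp hz.2 e he
  have hWsup : W ≤ X ⊔ Z := by
    refine (Baumann.invariant_section hact hXW hnE).resolve_left fun h => hX1 ?_
    rw [← hXX, Subgroup.commutator_eq_bot_iff_le_centralizer]
    exact h.trans inf_le_right
  have hWc : ∀ {w q : G}, w ∈ W → q ∈ Q → q * w = w * q := fun hw hq =>
    Baumann.center_centralizes Q (Baumann.omegaOne_le _ hw) hq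
  have hWmem : ∀ w ∈ W, ∃ x ∈ X, ∃ z ∈ Z, w = x * z := fun w hw =>
    Coprime.exists_mul_of_mem_sup (inf_le_left.trans fun z hz => Subgroup.centralizer_le_normalizer _
      (Subgroup.mem_centralizer_iff.mpr fun x hx => (hWc (hXW hx) (hWQ hz)).symm)) (hWsup hw)
  -- `Q ≤ O_3(G)`
  have hQY : Q ≤ ⁅R, E⁆ ⊔ W := (Baumann.invariant_section hact' hAQ
    (Baumann.le_normalizer_commutator (hRn E) Subgroup.le_normalizer)).resolve_left hA
  have hZR : Z ≤ R := by
    rw [← hQQ, Subgroup.commutator_le]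
    have hd : ∀ q ∈ Q, ∃ y ∈ ⁅R, E⁆, ∃ w ∈ W, q = y * w := fun q hq =>
      Coprime.exists_mul_of_mem_sup (fun w hw => Subgroup.centralizer_le_normalizer _
        (Subgroup.mem_centralizer_iff.mpr fun y hy => hWc hw (hAQ hy))) (hQY hq)
    intro q hq r hr
    obtain ⟨y, hy, w, hw, rfl⟩ := hd q hq
    obtain ⟨y', hy', w', hw', rfl⟩ := hd r hr
    have e : ⁅y * w, y' * w'⁆ = ⁅y, y'⁆ := by
      simp only [commutatorElement_def]
      calc y * w * (y' * w') * (y * w)⁻¹ * (y' * w')⁻¹ =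
          y * (w * (y' * w')) * w⁻¹ * y⁻¹ * (y' * w')⁻¹ := by group
        _ = y * y' * (w' * y⁻¹) * w'⁻¹ * y'⁻¹ := by rw [← hWc hw hr]; group
        _ = _ := by rw [← hWc hw' (inv_mem (hAQ hy))]; group
    have hle : ⁅R, E⁆ ≤ R := Coprime.commutator_le_of_le_normalizer (hRn E)
    rw [e, commutatorElement_def]
    exact mul_mem (mul_mem (mul_mem (hle hy) (hle hy')) (inv_mem (hle hy))) (inv_mem (hle hy'))
  have hQR : Q ≤ R := hQY.trans (sup_le (Coprime.commutator_le_of_le_normalizer (hRn E))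
    (hWsup.trans (sup_le hXR hZR)))
  obtain ⟨-, -, ρX, ψX, hrX, hsX, hkX, heX⟩ := hact
  obtain ⟨-, -, ρY, ψY, hrY, hsY, hkY, heY⟩ := hact'
  let SX : BlockExc.Sec F W Z := ⟨ψX, hsX, hkX⟩
  let SY : BlockExc.Sec F Q W := ⟨ψY, hsY, hkY⟩
  have hnX : ∀ e : ↥E, (e : G) ∈ BlockExc.Sec.nrm W Z := fun e => ⟨hEW e.2, by
    refine FusionControl.mem_normalizer_of_cj_le ?_
    rintro _ ⟨z, hz, rfl⟩
    show (e : G) * z * (e : G)⁻¹ ∈ Z
    rw [hZc z hz e e.2, mul_inv_cancel_right]; exact hz⟩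
  have hopX : ∀ (e : ↥E) (v : Fin 2 → F), SX.op (e : G) v =
      ((ρX e : Matrix.SpecialLinearGroup (Fin 2) F) : Matrix (Fin 2) (Fin 2) F).mulVec v := by
    intro e v
    obtain ⟨u, hu, rfl⟩ := SX.exists_im v
    obtain ⟨w, hw, hwv⟩ := heX e ⟨u, hu⟩
    rw [SX.op_im (hnX e) hu]
    exact (congrArg (fun x => Multiplicative.toAdd (ψX x)) (Subtype.ext hw.symm)).trans hwv
  have hopY : ∀ (e : ↥E) (v : Fin 2 → F), SY.op (e : G) v =
      ((ρY e : Matrix.SpecialLinearGroup (Fin 2) F) : Matrix (Fin 2) (Fin 2) F).mulVec v := by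
    intro e v
    obtain ⟨u, hu, rfl⟩ := SY.exists_im v
    obtain ⟨w, hw, hwv⟩ := heY e ⟨u, hu⟩
    rw [SY.op_im ⟨hEQ e.2, hEW e.2⟩ hu]
    exact (congrArg (fun x => Multiplicative.toAdd (ψY x)) (Subtype.ext hw.symm)).trans hwv
  have hQmem : ∀ e : ↥E, e ∈ Cfsg.pCore 3 ↥E → (e : G) ∈ Q := fun e he => ⟨e, he, rfl⟩
  have hcX : Cfsg.pCore 3 ↥E ≤ ρX.ker := fun e he => MonoidHom.mem_ker.mpr
    (Subtype.ext (Matrix.ext_of_mulVec_single fun j => by
      rw [← hopX, (SX.op_eq_id_iff (hnX e)).mpr fun u hu => by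
        rw [hWc hu (hQmem e he), mul_inv_cancel_right, inv_mul_cancel]; exact one_mem _]
      exact (Matrix.one_mulVec _).symm))
  have hcY : Cfsg.pCore 3 ↥E ≤ ρY.ker := fun e he => MonoidHom.mem_ker.mpr
    (Subtype.ext (Matrix.ext_of_mulVec_single fun j => by
      rw [← hopY, (SY.op_eq_id_iff ⟨hEQ e.2, hEW e.2⟩).mpr fun u hu => by
        rw [show u⁻¹ * ((e : G) * u * (e : G)⁻¹) = ⁅u⁻¹, (e : G)⁆ by simp only [commutatorElement_def]; group]
        exact (inf_le_left : Z ≤ W) (hQQ.le (Subgroup.commutator_mem_commutator (inv_mem hu) (hQmem e he)))]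
      exact (Matrix.one_mulVec _).symm))
  let d : BlockExc.Exc G F :=
    { T := T, E := E, Q := Q, W := W, Z := Z, X := X
      res := hres, EB := hEB, Qdef := hQdef, Wdef := hWdef, Xdef := hXdef
      Qp := LocalEven.pCoreOf_isPGroup E
      XW := hXW, Wmem := hWmem, ZW := inf_le_left, Zcent := hZc, QQ := hQQ
      cardZ := by rw [← hZE, hcard, Nat.card_eq_fintype_card, hF]
      SY := SY, SX := SX, ρY := ρY, ρX := ρX, rangeY := hrY, rangeX := hrX, opY := hopY, opX := hopX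
      kerY := fun e he => hQmem e (ker_le_core ρY hrY hiso hcY (MonoidHom.mem_ker.mpr he))
      kerX := fun e he => hQmem e (ker_le_core ρX hrX hiso hcX (MonoidHom.mem_ker.mpr he))
      noquad := fun b hb hbW => hZE ▸ hnoquad b hb hbW
      bmove := by
        by_contra hc
        push Not at hc
        refine hJ ?_
        rw [Subgroup.commutator_eq_bot_iff_le_centralizer, Subgroup.le_centralizer_iff]
        exact (Baumann.thompson_le_baumann _).trans ((show _ ≤ _ from hc).trans (Subgroup.centralizer_le hXW)) }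
  exact d.centralizer_le_normalizer_block hG hQR hRX

end Cfsg.Agent.S2985
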