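import Cfsg.Statements.S3007
import Cfsg.Agent.Lib.LocalEven2.CD

set_option autoImplicit false
open Cfsg

namespace Cfsg.Agent.S3007

/-- Let P be a finite p-group and Q, R minimal centrally large subgroups of P (centrally large: |Q|·|Z(Q)| maximal among subgroups of P; minimal among such under inclusion). Then Q = (Q ∩ R)·Z(Q), the derived subgroups [Q, Q] and [R, R] coincide, |Q| = |R| and |Z(Q)| = |Z(R)|; and if Q is abelian then the minimal centrally large subgroups of P are exactly the abelian subgroups of P of largest order. -/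
theorem result {p : ℕ} [Fact p.Prime] (P : Type*) [Group P] [Finite P] (hP : IsPGroup p P) (Q R : Subgroup P) (hQ : Cfsg.IsMinimalCentrallyLarge Q) (hR : Cfsg.IsMinimalCentrallyLarge R) : (Q ⊓ R) ⊔ (Q ⊓ Subgroup.centralizer (Q : Set P)) = Q ∧ ⁅Q, Q⁆ = ⁅R, R⁆ ∧ Nat.card ↥Q = Nat.card ↥R ∧ Nat.card ↥(Q ⊓ Subgroup.centralizer (Q : Set P)) = Nat.card ↥(R ⊓ Subgroup.centralizer (R : Set P)) ∧ (IsMulCommutative ↥Q → ∀ X : Subgroup P, Cfsg.IsMinimalCentrallyLarge X ↔ X ∈ Cfsg.maxAbelianSubgroups P) := by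
  obtain ⟨hQl, hQc⟩ := Lib.LocalEven2.CD.isCentrallyLarge_iff.mp hQ.1
  obtain ⟨hRl, hRc⟩ := Lib.LocalEven2.CD.isCentrallyLarge_iff.mp hR.1
  rw [inf_eq_right.mpr hQc, inf_eq_right.mpr hRc]
  obtain ⟨hc1, hc2⟩ := Lib.LocalEven2.CD.minimal_card_eq hQ hR
  refine ⟨Lib.LocalEven2.CD.minimal_eq_inf_sup hQ hR, Lib.LocalEven2.CD.minimal_commutator_eq hQ hR,
    hc1, hc2, fun hab => ?_⟩
  have hQZ : Subgroup.centralizer (Q : Set P) = Q :=
    le_antisymm hQc (Lib.LocalEven2.CD.isMulCommutative_iff_le_centralizer.mp hab)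
  have hg : Cfsg.maxCentralizerProduct P = Nat.card ↥Q * Nat.card ↥Q := by
    have h : Nat.card ↥Q * Nat.card ↥(Subgroup.centralizer (Q : Set P)) =
      Cfsg.maxCentralizerProduct P := hQl
    rw [hQZ] at h
    exact h.symm
  have hbound : ∀ B : Subgroup P, IsMulCommutative B → Nat.card ↥B ≤ Nat.card ↥Q := by
    intro B hB
    have h := Lib.LocalEven2.CD.sq_card_le hB
    rw [hg] at h
    exact Nat.mul_self_le_mul_self_iff.mp h
  intro X
  constructor
  · intro hX
    obtain ⟨h1, h2⟩ := Lib.LocalEven2.CD.minimal_card_eq hX hQ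
    obtain ⟨-, hXc⟩ := Lib.LocalEven2.CD.isCentrallyLarge_iff.mp hX.1
    have heq : Subgroup.centralizer (X : Set P) = X :=
      Subgroup.eq_of_le_of_card_ge hXc (by rw [h1, h2, hQZ])
    refine ⟨Lib.LocalEven2.CD.isMulCommutative_iff_le_centralizer.mpr heq.ge, fun B hB => ?_⟩
    rw [h1]
    exact hbound B hB
  · intro hX
    have hXQ : Nat.card ↥X = Nat.card ↥Q := le_antisymm (hbound X hX.1) (hX.2 Q hab)
    have hXc := Lib.LocalEven2.CD.isMulCommutative_iff_le_centralizer.mp hX.1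
    have hXl : Cfsg.IsCentrallyLarge X :=
      (Lib.LocalEven2.CD.isCentrallyLarge_of_le X le_rfl hXc (by rw [hXQ, hg])).1
    obtain ⟨Y, hY, hYm⟩ := Lib.LocalEven2.CD.exists_minimal_le hXl
    rw [show X = Y from (Subgroup.eq_of_le_of_card_ge hY
      (by rw [hXQ, (Lib.LocalEven2.CD.minimal_card_eq hYm hQ).1])).symm]
    exact hYm

end Cfsg.Agent.S3007
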