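import Cfsg.Statements.S2989
import Cfsg.Agent.Lib.PushUp.Frattini
import Cfsg.Agent.S3007

set_option autoImplicit false
open Cfsg

namespace Cfsg.Agent.S2989

/-- Let G be a finite group and S a Sylow p-subgroup of G in the basic pushing-up situation (G ≠ 1, C_G(O_p(G)) ≤ O_p(G), S lies in a unique maximal subgroup of G, and some quotient of G is isomorphic to PSL₂ over a field of order a power of p), and suppose that S centralizes Z(J(S)), where J(S) is generated by the abelian subgroups of S of largest order (that is, J̃(S) = C_S(Z(J(S))) = S). Call a subgroup R of S centrally large if |R|·|Z(R)| is as large as possible among subgroups of S, and let S_Φ be the subgroup generated by the Frattini subgroups Φ(Q) of those minimal centrally large subgroups Q of S whose Ω₁(Z(Q)) has the largest order among minimal centrally large subgroups. Then Z(S) or S_Φ is normal in G; and if S_Φ = 1, the minimal centrally large subgroups of S are exactly the abelian subgroups of S of largest order, and at least one of them is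 elementary abelian. -/
theorem result {G : Type*} [Group G] [Finite G] {p : ℕ} [Fact p.Prime] (S : Subgroup G) (hE : Cfsg.IsPushingUpSituation p S) (hJ : S ≤ Subgroup.centralizer (Cfsg.centerThompsonAOf S : Set G)) : ((S ⊓ Subgroup.centralizer (S : Set G)).Normal ∨ ((Cfsg.frattiniOfMinimalCLJoin p ↥S).map S.subtype).Normal) ∧ (Cfsg.frattiniOfMinimalCLJoin p ↥S = ⊥ → (∀ Q : Subgroup ↥S, Cfsg.IsMinimalCentrallyLarge Q ↔ Q ∈ Cfsg.maxAbelianSubgroups ↥S) ∧ ∃ A ∈ Cfsg.maxAbelianSubgroups ↥S, Cfsg.IsElementaryAbelian p A) := by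
  classical
  obtain ⟨M, h⟩ := Lib.PushUp.ctx_of_isPushingUp hE
  refine ⟨?_, fun hbot => ?_⟩
  · by_cases hZ : S ⊓ Subgroup.centralizer (S : Set G) ≤ Subgroup.center G
    · exact Or.inl ⟨fun x hx g => by
        rwa [Subgroup.mem_center_iff.mp (hZ hx) g, mul_inv_cancel_right]⟩
    · exact Or.inr (Lib.PushUp.frattiniJoin_normal h hJ hZ)
  · obtain ⟨Q, hQ⟩ := Lib.PushUp.exists_good (p := p) (S := S)
    have hle : (frattini ↥Q).map Q.subtype ≤ ⊥ := by
      rw [← hbot, frattiniOfMinimalCLJoin]
      exact le_iSup (fun X : {Q : Subgroup ↥S // Cfsg.IsMinimalCentrallyLarge Q ∧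
        Nat.card ↥(Cfsg.omegaOneCenter p Q) = Cfsg.maxOmegaCenterOfMinimalCL p ↥S} =>
          (frattini ↥(X : Subgroup ↥S)).map (X : Subgroup ↥S).subtype) ⟨Q, hQ⟩
    have hQp : IsPGroup p ↥Q := h.isP.to_subgroup Q
    haveI := hQp.isNilpotent
    have hone : ∀ x : ↥Q, x ∈ frattini ↥Q → x = 1 := fun x hx => by
      have := hle (Subgroup.mem_map_of_mem Q.subtype hx)
      exact Subtype.ext (Subgroup.mem_bot.mp this)
    have hab : IsMulCommutative ↥Q := ⟨⟨fun a b =>
      commutatorElement_eq_one_iff_mul_comm.mp (hone _ (Lib.Cores.commutator_le_frattini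
        (Subgroup.commutator_mem_commutator (Subgroup.mem_top a) (Subgroup.mem_top b))))⟩⟩
    have hiff := (S3007.result (p := p) ↥S h.isP Q Q hQ.1 hQ.1).2.2.2.2 hab
    exact ⟨hiff, Q, (hiff Q).mp hQ.1, hab, fun a ha =>
      congrArg Subtype.val (hone (⟨a, ha⟩ ^ p) (Lib.Cores.pow_mem_frattini hQp _))⟩

end Cfsg.Agent.S2989
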