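import Cfsg.Statements.S2990
import Cfsg.Agent.Lib.PushUp.CL
import Cfsg.Agent.S3007

set_option autoImplicit false
open Cfsg

namespace Cfsg.Agent.S2990

/-- Let G be a finite group and S a Sylow p-subgroup of G in the basic pushing-up situation (G ≠ 1, C_G(O_p(G)) ≤ O_p(G), S lies in a unique maximal subgroup of G, and some quotient of G is isomorphic to PSL₂ over a field of order a power of p), and suppose that S centralizes Z(J(S)), where J(S) is generated by the abelian subgroups of S of largest order (that is, J̃(S) = C_S(Z(J(S))) = S). Call a subgroup R of S centrally large if |R|·|Z(R)| is as large as possible among subgroups of S, let Q be a minimal centrally large subgroup of S and let S_MCL be the subgroup generated by all minimal centrally large subgroups of S. Then the derived subgroup [Q, Q] is characteristic in S; Z(S) ∩ [Q, Q] or S_MCL is normal in G; and if [Q, Q] = 1, the minimal centrally large subgroups of S are exactly the abelian subgroups of S of largest order. -/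
theorem result {G : Type*} [Group G] [Finite G] {p : ℕ} [Fact p.Prime] (S : Subgroup G) (hE : Cfsg.IsPushingUpSituation p S) (hJ : S ≤ Subgroup.centralizer (Cfsg.centerThompsonAOf S : Set G)) (Q : Subgroup ↥S) (hQ : Cfsg.IsMinimalCentrallyLarge Q) : (⁅Q, Q⁆).Characteristic ∧ (((S ⊓ Subgroup.centralizer (S : Set G)) ⊓ (⁅Q, Q⁆).map S.subtype).Normal ∨ ((Cfsg.minimalCentrallyLargeJoin ↥S).map S.subtype).Normal) ∧ (⁅Q, Q⁆ = ⊥ → ∀ R : Subgroup ↥S, Cfsg.IsMinimalCentrallyLarge R ↔ R ∈ Cfsg.maxAbelianSubgroups ↥S) := by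
  classical
  obtain ⟨M, h⟩ := Lib.PushUp.ctx_of_isPushingUp hE
  haveI := h.core_normal
  refine ⟨Subgroup.characteristic_iff_map_eq.mpr fun e => ?_, ?_, fun hD => ?_⟩
  · rw [Subgroup.map_commutator]
    exact Lib.LocalEven2.CD.minimal_commutator_eq (Lib.PushUp.minimal_of_mulEquiv hQ
      (Q.equivMapOfInjective _ e.injective)) hQ
  · set D := (⁅Q, Q⁆).map S.subtype
    set ZS := S ⊓ Subgroup.centralizer (S : Set G)
    have hcentral : ∀ T : Subgroup G, T ≤ Subgroup.center G → T.Normal := fun T hT =>
      ⟨fun x hx g => by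
        rwa [Subgroup.mem_center_iff.mp (hT hx) g, mul_inv_cancel_right]⟩
    by_cases hZ : ZS ≤ Subgroup.center G
    · exact Or.inl (hcentral _ (inf_le_left.trans hZ))
    set R' := (pCore p G).subgroupOf S
    obtain ⟨R₁, hR₁R, hR₁⟩ := Lib.LocalEven2.CD.exists_minimal_le (h.core_large hJ hZ).1
    by_cases hall : ∀ Q' : Subgroup ↥S, Cfsg.IsMinimalCentrallyLarge Q' → Q' ≤ R'
    · refine Or.inr (Lib.PushUp.normal_of_conj_le fun g => ?_)
      rw [minimalCentrallyLargeJoin, sSup_eq_iSup', Subgroup.map_iSup, Subgroup.map_iSup]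
      refine iSup_le fun Q' => ?_
      obtain ⟨hle, hmap, ⟨e⟩⟩ := Lib.PushUp.cjS_spec h g (hall _ Q'.2)
      rw [← hmap]
      exact le_iSup (fun X : {X : Subgroup ↥S | Cfsg.IsMinimalCentrallyLarge X} =>
        (X : Subgroup ↥S).map S.subtype)
        ⟨Lib.PushUp.cjS g Q', Lib.PushUp.minimal_of_mulEquiv Q'.2 e⟩
    · push Not at hall
      obtain ⟨Q₂, hQ₂, hQ₂R⟩ := hall
      have hx : ¬ Subgroup.centralizer (Q₂ : Set ↥S) ≤ R' := fun hc => hQ₂R (by
        rw [← Lib.LocalEven2.CD.minimal_eq_inf_sup hQ₂ hR₁]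
        exact sup_le (inf_le_right.trans hR₁R) hc)
      obtain ⟨x, hx, hxR⟩ := SetLike.not_le_iff_exists.mp hx
      have hD₂ : D = (⁅Q₂, Q₂⁆).map S.subtype := by
        rw [← Lib.LocalEven2.CD.minimal_commutator_eq hQ hQ₂]
      haveI hDn : D.Normal := Lib.PushUp.normal_of_conj_le fun g => by
        obtain ⟨hle, hmap, ⟨e⟩⟩ := Lib.PushUp.cjS_spec h g hR₁R
        have h1 := Lib.LocalEven2.CD.minimal_commutator_eq hQ hR₁
        have h2 := Lib.LocalEven2.CD.minimal_commutator_eq hQ
          (Lib.PushUp.minimal_of_mulEquiv hR₁ e)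
        refine le_of_eq ?_
        calc D.map (MulAut.conj g).toMonoidHom
            = ((⁅R₁, R₁⁆).map S.subtype).map (MulAut.conj g).toMonoidHom := by rw [← h1]
          _ = (⁅Lib.PushUp.cjS g R₁, Lib.PushUp.cjS g R₁⁆).map S.subtype := by
              rw [Subgroup.map_commutator, Subgroup.map_commutator, Subgroup.map_commutator, hmap]
          _ = D := by rw [← h2]
      have htop : Subgroup.centralizer (D : Set G) ⊔ S = ⊤ := by
        refine h.normal_sup_eq_top Subgroup.normal_centralizer (x := (x : G)) ?_ x.2 hxR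
        rw [hD₂]
        refine Subgroup.mem_centralizer_iff.mpr ?_
        rintro _ ⟨d, hd, rfl⟩
        exact congrArg Subtype.val (Subgroup.mem_centralizer_iff.mp hx d
          ((Subgroup.commutator_le_self Q₂) hd))
      refine Or.inl (hcentral _ ?_)
      rw [← Subgroup.centralizer_univ, ← Subgroup.coe_top, Subgroup.le_centralizer_iff, ← htop]
      exact sup_le (Subgroup.centralizer_le inf_le_right)
        (Subgroup.le_centralizer_iff.mp (inf_le_left.trans inf_le_right))
  · refine (S3007.result (p := p) ↥S h.isP Q Q hQ hQ).2.2.2.2 ?_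
    refine Lib.LocalEven2.CD.isMulCommutative_iff_le_centralizer.mpr ?_
    exact Subgroup.commutator_eq_bot_iff_le_centralizer.mp hD

end Cfsg.Agent.S2990
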