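import Cfsg.Statements.S2998
import Cfsg.Agent.Lib.LocalEven2.Sylow
import Cfsg.Agent.Lib.Coprime.Basic

set_option autoImplicit false
open Cfsg

namespace Cfsg.Agent.S2998

/-- Let G be a finite group, p a prime, P a Sylow p-subgroup of G and x ∈ P an element such that N_G(R) ≤ C_G(x) for every nontrivial subgroup R of P. Then P ≤ C_G(x); every G-conjugate of x lying in P equals x (so g ∈ C_G(x) whenever g x g⁻¹ ∈ P); and for every normal subgroup N of G, the image of x in G ⧸ N has the same property with respect to the image of P: the normalizer of every nontrivial subgroup of the image of P centralizes the image of x. -/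
theorem result {G : Type*} [Group G] [Finite G] {p : ℕ} [Fact p.Prime] (P : Sylow p G) (x : G) (hxP : x ∈ (P : Subgroup G)) (hlc : ∀ R : Subgroup G, R ≤ (P : Subgroup G) → R ≠ ⊥ → Subgroup.normalizer (R : Set G) ≤ Subgroup.centralizer ({x} : Set G)) : (P : Subgroup G) ≤ Subgroup.centralizer ({x} : Set G) ∧ (∀ g : G, g * x * g⁻¹ ∈ (P : Subgroup G) → g * x * g⁻¹ = x) ∧ ∀ (N : Subgroup G) [N.Normal], ∀ R : Subgroup (G ⧸ N), R ≤ (P : Subgroup G).map (QuotientGroup.mk' N) → R ≠ ⊥ → Subgroup.normalizer (R : Set (G ⧸ N)) ≤ Subgroup.centralizer ({(QuotientGroup.mk x : G ⧸ N)} : Set (G ⧸ N)) := by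
  rcases eq_or_ne x 1 with rfl | hx1
  · exact ⟨fun y _ => by simp [Subgroup.mem_centralizer_singleton_iff], fun g _ => by simp,
      fun N _ R _ _ z _ => by simp [Subgroup.mem_centralizer_singleton_iff]⟩
  have hP1 : (P : Subgroup G) ≠ ⊥ := fun h => hx1 (by simpa [h] using hxP)
  have hNP := hlc (P : Subgroup G) le_rfl hP1
  have hPC : (P : Subgroup G) ≤ Subgroup.centralizer ({x} : Set G) :=
    Subgroup.le_normalizer.trans hNP
  refine ⟨hPC, fun g hg => ?_, ?_⟩
  · set y := g * x * g⁻¹ with hy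
    have hy1 : y ≠ 1 := fun h => hx1 (by simpa [hy] using h)
    have hCy : Subgroup.centralizer ({y} : Set G) ≤ Subgroup.centralizer ({x} : Set G) := by
      refine le_trans ?_ (hlc (Subgroup.zpowers y) (Subgroup.zpowers_le.mpr hg)
        (by simpa [Subgroup.zpowers_eq_bot] using hy1))
      rw [← Subgroup.centralizer_closure, ← Subgroup.zpowers_eq_closure]
      exact Subgroup.centralizer_le_normalizer _
    have hmap : (Subgroup.centralizer ({x} : Set G)).map (MulAut.conj g).toMonoidHom =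
        Subgroup.centralizer ({y} : Set G) := by
      ext z
      rw [Lib.LocalEven2.mem_map_conj, Subgroup.mem_centralizer_singleton_iff,
        Subgroup.mem_centralizer_singleton_iff, hy]
      constructor <;> intro h
      · calc z * (g * x * g⁻¹) = g * ((g⁻¹ * z * g) * x) * g⁻¹ := by group
          _ = g * (x * (g⁻¹ * z * g)) * g⁻¹ := by rw [h]
          _ = g * x * g⁻¹ * z := by group
      · calc g⁻¹ * z * g * x = g⁻¹ * (z * (g * x * g⁻¹)) * g := by group
          _ = g⁻¹ * (g * x * g⁻¹ * z) * g := by rw [h]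
          _ = x * (g⁻¹ * z * g) := by group
    have heq : Subgroup.centralizer ({y} : Set G) = Subgroup.centralizer ({x} : Set G) := by
      refine Subgroup.eq_of_le_of_card_ge hCy ?_
      rw [← hmap]
      exact (Nat.card_congr (Subgroup.equivMapOfInjective _ _ (MulAut.conj g).injective).toEquiv).le
    have hgP : ((g • P : Sylow p G) : Subgroup G) ≤ Subgroup.centralizer ({x} : Set G) := by
      rw [Lib.LocalEven2.smul_sylow_eq_map, ← heq, ← hmap]
      exact Subgroup.map_mono hPC
    obtain ⟨c, hc, hcP⟩ := Lib.LocalEven2.exists_conj_le P hPC (g • P).2 hgP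
    have h1 : c⁻¹ * g ∈ Subgroup.normalizer ((P : Subgroup G) : Set G) := by
      apply Sylow.smul_eq_iff_mem_normalizer.mp
      rw [mul_smul, Sylow.ext ((g • P).3 (c • P).2 hcP).symm, inv_smul_smul]
    have h2 : g ∈ Subgroup.centralizer ({x} : Set G) := by
      simpa using mul_mem hc (hNP h1)
    rw [hy, Subgroup.mem_centralizer_singleton_iff.mp h2]
    group
  · intro N _ R hR hR1 nb hnb
    obtain ⟨n, rfl⟩ := QuotientGroup.mk_surjective nb
    set K := R.comap (QuotientGroup.mk' N) with hK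
    set R₀ := (P : Subgroup G) ⊓ K with hR₀
    have hNK : N ≤ K := fun z hz => by
      simp [hK, (QuotientGroup.eq_one_iff z).mpr hz]
    have hKdec : ∀ k ∈ K, ∃ m ∈ N, ∃ r ∈ R₀, k = m * r := by
      intro k hk
      obtain ⟨r, hr, hrk⟩ := hR hk
      refine ⟨k * r⁻¹, ?_, r, ⟨hr, ?_⟩, by group⟩
      · rw [← QuotientGroup.eq_one_iff, QuotientGroup.mk_mul, QuotientGroup.mk_inv]
        rw [show (r : G ⧸ N) = (k : G ⧸ N) from hrk, mul_inv_cancel]
      · show QuotientGroup.mk' N r ∈ R
        rw [hrk]; exact hk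
    have hR₀1 : R₀ ≠ ⊥ := by
      intro hbot
      apply hR1
      rw [eq_bot_iff]
      intro rb hrb
      obtain ⟨r, rfl⟩ := QuotientGroup.mk_surjective rb
      obtain ⟨m, hm, s, hs, rfl⟩ := hKdec r hrb
      rw [hbot, Subgroup.mem_bot] at hs
      simpa [hs] using hm
    have hNR : R₀ ≤ Subgroup.normalizer (N : Set G) := by
      rw [Subgroup.normalizer_eq_top_iff.mpr inferInstance]; exact le_top
    have hNPn : (P : Subgroup G) ≤ Subgroup.normalizer (N : Set G) := by
      rw [Subgroup.normalizer_eq_top_iff.mpr inferInstance]; exact le_top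
    have hKeq : N ⊔ R₀ = K := le_antisymm (sup_le hNK inf_le_right) fun k hk => by
      obtain ⟨m, hm, r, hr, rfl⟩ := hKdec k hk
      exact mul_mem (Subgroup.mem_sup_left hm) (Subgroup.mem_sup_right hr)
    have hinf : N ⊓ R₀ = N ⊓ (P : Subgroup G) := by
      rw [hR₀, ← inf_assoc, inf_eq_left.mpr (inf_le_left.trans hNK)]
    have hrel : R₀.relIndex K = (P : Subgroup G).relIndex (N ⊔ (P : Subgroup G)) := by
      have e1 := Lib.Coprime.card_sup_mul_card_inf hNR
      have e2 := Lib.Coprime.card_sup_mul_card_inf hNPn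
      rw [← Lib.Coprime.relIndex_mul_card le_sup_right] at e1 e2
      rw [hinf, hKeq] at e1
      have h3 : R₀.relIndex K * Nat.card ↥(N ⊓ (P : Subgroup G)) = Nat.card ↥N := by
        apply Nat.eq_of_mul_eq_mul_left (Nat.card_pos (α := ↥R₀))
        rw [← mul_assoc, e1, mul_comm]
      have h4 : (P : Subgroup G).relIndex (N ⊔ (P : Subgroup G)) *
          Nat.card ↥(N ⊓ (P : Subgroup G)) = Nat.card ↥N := by
        apply Nat.eq_of_mul_eq_mul_left (Nat.card_pos (α := ↥(P : Subgroup G)))
        rw [← mul_assoc, e2, mul_comm]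
      exact Nat.eq_of_mul_eq_mul_right Nat.card_pos (h3.trans h4.symm)
    have hnd : ¬ p ∣ (R₀.subgroupOf K).index := by
      intro hd
      apply P.not_dvd_index
      rw [← Subgroup.relIndex_mul_index (show (P : Subgroup G) ≤ N ⊔ (P : Subgroup G) from le_sup_right)]
      exact Dvd.dvd.mul_right (hrel ▸ hd) _
    let Q : Sylow p ↥K := (P.2.to_inf_left.comap_subtype (K := K)).toSylow hnd
    have hQmem : ∀ z : ↥K, z ∈ (Q : Subgroup ↥K) ↔ (z : G) ∈ R₀ := fun z => Iff.rfl
    have hnK : ∀ z, z ∈ K ↔ n * z * n⁻¹ ∈ K := fun z => by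
      simp only [hK, Subgroup.mem_comap, QuotientGroup.mk'_apply, QuotientGroup.mk_mul,
        QuotientGroup.mk_inv]
      exact Subgroup.mem_normalizer_iff.mp hnb _
    have hnR : R₀.map (MulAut.conj n).toMonoidHom ≤ K := by
      rintro _ ⟨r, hr, rfl⟩
      exact (hnK r).mp hr.2
    obtain ⟨Q', hQ'⟩ := (((P.2.to_inf_left : IsPGroup p ↥R₀).map
      (MulAut.conj n).toMonoidHom).comap_subtype (K := K)).exists_le_sylow
    obtain ⟨k, hk⟩ := MulAction.exists_smul_eq ↥K Q Q'
    have hkn : (k : G)⁻¹ * n ∈ Subgroup.normalizer (R₀ : Set G) := by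
      have hfwd : ∀ r ∈ R₀, (k : G)⁻¹ * n * r * ((k : G)⁻¹ * n)⁻¹ ∈ R₀ := by
        intro r hr
        have h1 : (⟨n * r * n⁻¹, hnR ⟨r, hr, rfl⟩⟩ : ↥K) ∈ (Q' : Subgroup ↥K) := hQ' ⟨r, hr, rfl⟩
        rw [← hk, Lib.LocalEven2.mem_smul_sylow, hQmem] at h1
        simpa [mul_assoc] using h1
      have := Subgroup.eq_of_le_of_card_ge
        (show R₀.map (MulAut.conj ((k : G)⁻¹ * n)).toMonoidHom ≤ R₀ from by
          rintro _ ⟨r, hr, rfl⟩; exact hfwd r hr)
        (Nat.card_congr (Subgroup.equivMapOfInjective _ _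
          (MulAut.conj ((k : G)⁻¹ * n)).injective).toEquiv).le
      rw [Subgroup.mem_normalizer_iff]
      refine fun r => ⟨hfwd r, fun h => ?_⟩
      rw [← this] at h
      obtain ⟨r', hr', he⟩ := h
      have : r' = r := (MulAut.conj ((k : G)⁻¹ * n)).injective he
      exact this ▸ hr'
    have hc := congrArg (QuotientGroup.mk' N)
      (Subgroup.mem_centralizer_singleton_iff.mp (hlc R₀ inf_le_left hR₀1 hkn))
    have hkx : (QuotientGroup.mk (k : G) : G ⧸ N) * QuotientGroup.mk x =
        QuotientGroup.mk x * QuotientGroup.mk (k : G) := by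
      obtain ⟨r, hr, hrk⟩ := hR k.2
      simp only [QuotientGroup.mk'_apply] at hrk
      rw [← hrk, ← QuotientGroup.mk_mul, Subgroup.mem_centralizer_singleton_iff.mp (hPC hr),
        QuotientGroup.mk_mul]
    rw [Subgroup.mem_centralizer_singleton_iff]
    simp only [map_mul, map_inv, QuotientGroup.mk'_apply] at hc
    calc (n : G ⧸ N) * x = (k : G) * (((k : G) : G ⧸ N)⁻¹ * n * x) := by group
      _ = (k : G) * ((x : G ⧸ N) * (((k : G) : G ⧸ N)⁻¹ * n)) := by rw [hc]
      _ = (((k : G) : G ⧸ N) * x) * (((k : G) : G ⧸ N)⁻¹ * n) := by group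
      _ = x * n := by rw [hkx]; group

end Cfsg.Agent.S2998
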