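import Cfsg.Statements.S3003
import Cfsg.Agent.Lib.LocalEven2.Thompson
import Cfsg.Agent.Lib.Coprime.Generation

set_option autoImplicit false
open Cfsg

namespace Cfsg.Agent.S3003

/-- Let G be a finite group, p a prime and Q a large p-subgroup of G: C_G(Q) ≤ Q and N_G(U) ≤ N_G(Q) for every nontrivial subgroup U of C_G(Q). Let Q ≤ G₁ ≤ G, let R be a subgroup of order prime to p normalized by G₁, and let U ≤ G₁ be a p-subgroup. If U contains a nontrivial element which is G₁-conjugate to an element of Z(Q), then C_R(U) = 1. In particular, if U is elementary abelian of order at least p² and every maximal subgroup of U contains a nontrivial element G₁-conjugate into Z(Q), then R = 1. -/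
theorem result {G : Type*} [Group G] [Finite G] {p : ℕ} [Fact p.Prime] (Q : Subgroup G) (hQp : IsPGroup p ↥Q) (hlarge : Cfsg.IsLarge Q) (G₁ : Subgroup G) (hQG : Q ≤ G₁) (R : Subgroup G) (hR : (Nat.card ↥R).Coprime p) (hGR : G₁ ≤ Subgroup.normalizer (R : Set G)) (U : Subgroup G) (hUG : U ≤ G₁) (hUp : IsPGroup p ↥U) : ((∃ x ∈ U, x ≠ 1 ∧ ∃ g ∈ G₁, g * x * g⁻¹ ∈ Q ⊓ Subgroup.centralizer (Q : Set G)) → R ⊓ Subgroup.centralizer (U : Set G) = ⊥) ∧ (Cfsg.IsElementaryAbelian p U → p ^ 2 ≤ Nat.card ↥U → (∀ U₀ : Subgroup G, U₀ ≤ U → IsCoatom (U₀.subgroupOf U) → ∃ x ∈ U₀, x ≠ 1 ∧ ∃ g ∈ G₁, g * x * g⁻¹ ∈ Q ⊓ Subgroup.centralizer (Q : Set G)) → R = ⊥) := by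
  have key : ∀ (W : Subgroup G), W ≤ G₁ →
      (∃ x ∈ W, x ≠ 1 ∧ ∃ g ∈ G₁, g * x * g⁻¹ ∈ Q ⊓ Subgroup.centralizer (Q : Set G)) →
      R ⊓ Subgroup.centralizer (W : Set G) = ⊥ := by
    rintro W - ⟨x, hxW, hx1, g, hg, hzQ, hzC⟩
    rw [eq_bot_iff]
    rintro r ⟨hr, hrC⟩
    rw [Subgroup.mem_bot]
    set z := g * x * g⁻¹ with hz
    set r' := g * r * g⁻¹ with hr'
    have hr'R : r' ∈ R := (Subgroup.mem_normalizer_iff.mp (hGR hg) r).mp hr
    have hr'z : r' ∈ Subgroup.centralizer ({z} : Set G) := by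
      rw [Subgroup.mem_centralizer_singleton_iff, hr', hz]
      have h := (Subgroup.mem_centralizer_iff.mp hrC x hxW).symm
      calc g * r * g⁻¹ * (g * x * g⁻¹) = g * (r * x) * g⁻¹ := by group
        _ = g * (x * r) * g⁻¹ := by rw [h]
        _ = g * x * g⁻¹ * (g * r * g⁻¹) := by group
    have hz1 : z ≠ 1 := fun h => hx1 (by simpa [hz] using h)
    have hr'N : r' ∈ Subgroup.normalizer (Q : Set G) := by
      refine hlarge.2 (Subgroup.zpowers z) (Subgroup.zpowers_le.mpr hzC)
        (by simpa [Subgroup.zpowers_eq_bot] using hz1) ?_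
      rw [← Subgroup.centralizer_closure, ← Subgroup.zpowers_eq_closure] at hr'z
      exact Subgroup.centralizer_le_normalizer _ hr'z
    have hRQ : ∀ w ∈ R, w ∈ Q → w = 1 := fun w hwR hwQ =>
      Lib.LocalEven2.eq_one_of_isPGroup hQp hwQ
        (hR.coprime_dvd_left (R.orderOf_dvd_natCard hwR))
    have hr'C : r' ∈ Subgroup.centralizer (Q : Set G) := by
      rw [Subgroup.mem_centralizer_iff]
      intro q hq
      have h1 : r' * q * r'⁻¹ * q⁻¹ ∈ Q :=
        Q.mul_mem ((Subgroup.mem_normalizer_iff.mp hr'N q).mp hq) (inv_mem hq)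
      have h2 : r' * q * r'⁻¹ * q⁻¹ ∈ R := by
        have := R.mul_mem hr'R
          ((Subgroup.mem_normalizer_iff.mp (hGR (hQG hq)) r'⁻¹).mp (inv_mem hr'R))
        simpa [mul_assoc] using this
      exact (Lib.LocalEven2.commute_of_commutator_eq_one (hRQ _ h2 h1)).symm
    have h3 := hRQ r' hr'R (hlarge.1 hr'C)
    simpa [hr'] using h3
  refine ⟨key U hUG, fun hel hcard hyp => ?_⟩
  obtain ⟨hcomm, hexp⟩ := Lib.LocalEven2.isElementaryAbelian_iff.mp hel
  have hp : p.Prime := Fact.out
  have main : ∀ A : Subgroup G, A ≤ U → R ⊓ Subgroup.centralizer (A : Set G) = ⊥ := by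
    intro A
    induction hd : Nat.card U - Nat.card A using Nat.strong_induction_on generalizing A with
    | _ d ih =>
      intro hAU
      by_cases hco : IsCoatom (A.subgroupOf U)
      · obtain ⟨x, hx, hx1, hxg⟩ := hyp A hAU hco
        exact key A (hAU.trans hUG) ⟨x, hx, hx1, hxg⟩
      by_cases hAUeq : A = U
      · subst hAUeq
        haveI : Nontrivial ↥A := by
          have : 1 < Nat.card ↥A :=
            lt_of_lt_of_le (Nat.one_lt_pow two_ne_zero hp.one_lt) hcard
          exact Finite.one_lt_card_iff_nontrivial.mp this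
        obtain ⟨M, hM⟩ := (eq_top_or_exists_le_coatom (⊥ : Subgroup ↥A)).resolve_left bot_ne_top
        obtain ⟨x, hx, hx1, hxg⟩ := hyp (M.map A.subtype) (Subgroup.map_subtype_le M) (by
          rw [Subgroup.subgroupOf, Subgroup.comap_map_eq_self_of_injective A.subtype_injective]
          exact hM.1)
        exact key A hUG ⟨x, Subgroup.map_subtype_le M hx, hx1, hxg⟩
      -- an intermediate subgroup
      obtain ⟨W, hWlt, hWne⟩ : ∃ W : Subgroup ↥U, A.subgroupOf U < W ∧ W ≠ ⊤ := by
        by_contra hc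
        push Not at hc
        exact hco ⟨fun h => hAUeq (le_antisymm hAU (Subgroup.subgroupOf_eq_top.mp h)), hc⟩
      obtain ⟨b₁, hb₁W, hb₁A⟩ := SetLike.exists_of_lt hWlt
      obtain ⟨b₂, -, hb₂W⟩ := SetLike.exists_of_lt (lt_top_iff_ne_top.mpr hWne)
      set B := Subgroup.closure ({(b₁ : G), (b₂ : G)} : Set G) with hB
      have hBU : B ≤ U := (Subgroup.closure_le _).mpr fun a ha => by
        rcases ha with rfl | rfl
        exacts [b₁.2, b₂.2]
      haveI : IsMulCommutative ↥B := ⟨⟨fun a b => Subtype.ext (hcomm a (hBU a.2) b (hBU b.2))⟩⟩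
      have hb₁B : (b₁ : G) ∈ B := Subgroup.subset_closure (Set.mem_insert _ _)
      have hb₂B : (b₂ : G) ∈ B := Subgroup.subset_closure (Set.mem_insert_of_mem _ rfl)
      have hb1ne : b₁ ≠ 1 := fun h => hb₁A (h ▸ one_mem _)
      have hord : ∀ {u : G}, u ∈ U → u ≠ 1 → orderOf u = p := fun hu hu1 =>
        orderOf_eq_prime (hexp _ hu) hu1
      have hBnc : ¬ IsCyclic ↥B := by
        intro hc
        have h3 : Subgroup.zpowers (⟨b₁, hb₁B⟩ : ↥B) = Subgroup.zpowers ⟨b₂, hb₂B⟩ := by
          apply Lib.LocalEven2.zpowers_eq_of_isCyclic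
          rw [Subgroup.orderOf_mk, Subgroup.orderOf_mk,
            hord b₁.2 (by simpa using hb1ne),
            hord b₂.2 (fun h => hb₂W (by rw [show b₂ = 1 from Subtype.ext h]; exact one_mem _))]
        obtain ⟨k, hk⟩ : (⟨b₂, hb₂B⟩ : ↥B) ∈ Subgroup.zpowers ⟨b₁, hb₁B⟩ :=
          h3.symm ▸ Subgroup.mem_zpowers _
        apply hb₂W
        have : b₁ ^ k = b₂ := Subtype.ext (by simpa using congrArg Subtype.val hk)
        exact this ▸ zpow_mem hb₁W k
      set C := R ⊓ Subgroup.centralizer (A : Set G) with hC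
      have hBC : B ≤ Subgroup.normalizer (C : Set G) := by
        intro b hb
        have hbc : b ∈ Subgroup.centralizer (A : Set G) := by
          rw [Subgroup.mem_centralizer_iff]
          exact fun a ha => hcomm a (hAU ha) b (hBU hb)
        exact Subgroup.inf_normalizer_le_normalizer_inf
          ⟨hGR (hUG (hBU hb)), Subgroup.le_normalizer hbc⟩
      have hcop : (Nat.card B).Coprime (Nat.card C) := by
        obtain ⟨k, hk⟩ := IsPGroup.iff_card.mp (hUp.to_le hBU)
        rw [hk]
        exact Nat.Coprime.pow_left k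
          (hR.coprime_dvd_left (Subgroup.card_dvd_of_le inf_le_left)).symm
      rw [← Lib.Coprime.iSup_centralizer_eq hBnc hBC hcop, eq_bot_iff]
      refine iSup₂_le fun b hb => ?_
      -- `b` enlarges `A` or is trivial on `C`
      by_cases hbA : b ∈ A
      · exfalso
        -- `B ∩ A` is trivial
        have hcB : Commute (b₁ : G) (b₂ : G) := hcomm _ b₁.2 _ b₂.2
        have hform : ∀ w ∈ B, ∃ i j : ℤ, w = (b₁ : G) ^ i * (b₂ : G) ^ j := by
          intro w hw
          induction hw using Subgroup.closure_induction with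
          | mem w hw =>
            rcases hw with rfl | rfl
            exacts [⟨1, 0, by simp⟩, ⟨0, 1, by simp⟩]
          | one => exact ⟨0, 0, by simp⟩
          | mul u v _ _ hu hv =>
            obtain ⟨i, j, rfl⟩ := hu
            obtain ⟨i', j', rfl⟩ := hv
            refine ⟨i + i', j + j', ?_⟩
            rw [zpow_add, zpow_add, mul_assoc ((b₁ : G) ^ i), ← mul_assoc ((b₂ : G) ^ j),
              ← (hcB.zpow_zpow i' j).eq, mul_assoc ((b₁ : G) ^ i'), ← mul_assoc ((b₁ : G) ^ i)]
          | inv u _ hu =>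
            obtain ⟨i, j, rfl⟩ := hu
            exact ⟨-i, -j, by rw [mul_inv_rev, zpow_neg, zpow_neg, (hcB.zpow_zpow i j).inv_inv.eq]⟩
        obtain ⟨i, j, hij⟩ := hform b hb.1
        have hsmall : ∀ (u : ↥U) (V : Subgroup ↥U), u ∉ V → ∀ k : ℤ, u ^ k ∈ V → u ^ k = 1 := by
          intro u V huV k hk
          by_contra h1
          apply huV
          have hu1 : u ≠ 1 := fun h => h1 (by rw [h, one_zpow])
          have hou : orderOf u = p := by
            rw [← Subgroup.orderOf_coe]; exact hord u.2 (by simpa using hu1)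
          have hnd : ¬ (p : ℤ) ∣ k := fun hd => h1 (orderOf_dvd_iff_zpow_eq_one.mp (hou ▸ hd))
          obtain ⟨s, t, hst⟩ := (Nat.prime_iff_prime_int.mp hp).coprime_iff_not_dvd.mpr hnd
          have : u = (u ^ k) ^ t := by
            rw [← zpow_mul]
            conv_lhs => rw [← zpow_one u, ← hst, zpow_add, mul_comm s, zpow_mul]
            rw [zpow_natCast, ← hou, pow_orderOf_eq_one, one_zpow, one_mul, mul_comm t k]
          exact this ▸ zpow_mem hk t
        have hbu : b₁ ^ i * b₂ ^ j ∈ A.subgroupOf U := by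
          rw [Subgroup.mem_subgroupOf]; simpa [← hij] using hbA
        have h2 : b₂ ^ j = 1 := by
          refine hsmall b₂ W hb₂W j ?_
          have := W.mul_mem (inv_mem (zpow_mem hb₁W i)) (hWlt.le hbu)
          simpa using this
        rw [h2, mul_one] at hbu
        have h1 : b₁ ^ i = 1 := hsmall b₁ _ hb₁A i hbu
        apply hb.2
        rw [hij, show (b₁ : G) ^ i = 1 from by simpa using congrArg Subtype.val h1,
          show (b₂ : G) ^ j = 1 from by simpa using congrArg Subtype.val h2, one_mul]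
      have hlt : A < A ⊔ Subgroup.zpowers b := lt_of_le_of_ne le_sup_left fun h =>
        hbA (h ▸ Subgroup.mem_sup_right (Subgroup.mem_zpowers b))
      have hle : A ⊔ Subgroup.zpowers b ≤ U := sup_le hAU (Subgroup.zpowers_le.mpr (hBU hb.1))
      have hcA : Nat.card A < Nat.card ↥(A ⊔ Subgroup.zpowers b) := by
        refine lt_of_le_of_ne (Subgroup.card_le_of_le hlt.le) fun h => hlt.ne ?_
        exact Subgroup.eq_of_le_of_card_ge hlt.le h.ge
      have hcU : Nat.card ↥(A ⊔ Subgroup.zpowers b) ≤ Nat.card U := Subgroup.card_le_of_le hle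
      rw [← ih _ (by omega) (A ⊔ Subgroup.zpowers b) rfl hle]
      rintro r ⟨⟨hr, hrA⟩, hrb⟩
      refine ⟨hr, Subgroup.mem_centralizer_iff.mpr fun u hu => ?_⟩
      have hsup : A ⊔ Subgroup.zpowers b ≤ Subgroup.centralizer ({r} : Set G) := by
        refine sup_le (fun a ha => ?_) (Subgroup.zpowers_le.mpr ?_)
        · exact Subgroup.mem_centralizer_singleton_iff.mpr (Subgroup.mem_centralizer_iff.mp hrA a ha)
        · exact Subgroup.mem_centralizer_singleton_iff.mpr (Subgroup.mem_centralizer_singleton_iff.mp hrb).symm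
      exact Subgroup.mem_centralizer_singleton_iff.mp (hsup hu)
  have hfin := main ⊥ bot_le
  have hcb : Subgroup.centralizer ((⊥ : Subgroup G) : Set G) = ⊤ :=
    eq_top_iff.mpr fun g _ => Subgroup.mem_centralizer_iff.mpr fun h hh => by
      rw [Subgroup.mem_bot.mp hh]; simp
  rwa [hcb, inf_top_eq] at hfin

end Cfsg.Agent.S3003
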