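import Cfsg.Statements.S3008
import Cfsg.Agent.Lib.LocalEven2.Replacement

set_option autoImplicit false
open Cfsg

namespace Cfsg.Agent.S3008

/-- Let P be a finite p-group, with J(P) generated by its abelian subgroups of largest order and J̃(P) = C_P(Z(J(P))); call R ≤ P centrally large if |R|·|Z(R)| is as large as possible, and let P_MCL be generated by the minimal centrally large subgroups. Then: for every centrally large Q, Q·J(P) ⊇ J̃(P); some minimal centrally large subgroup of P is normalized by both J(P) and P_MCL; if P = J(P) and d(P)² = |P|·|Z(P)|, where d(P) is the largest order of an abelian subgroup, then every minimal centrally large subgroup of P is abelian; and if every minimal centrally large subgroup is abelian then J̃(P) = J(P). -/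
theorem result {p : ℕ} [Fact p.Prime] (P : Type*) [Group P] [Finite P] (hP : IsPGroup p P) : (∀ Q : Subgroup P, Cfsg.IsCentrallyLarge Q → Subgroup.centralizer ((Cfsg.thompsonSubgroupA P ⊓ Subgroup.centralizer (Cfsg.thompsonSubgroupA P : Set P) : Subgroup P) : Set P) ≤ Q ⊔ Cfsg.thompsonSubgroupA P) ∧ (∃ Q : Subgroup P, Cfsg.IsMinimalCentrallyLarge Q ∧ Cfsg.thompsonSubgroupA P ≤ Subgroup.normalizer (Q : Set P) ∧ Cfsg.minimalCentrallyLargeJoin P ≤ Subgroup.normalizer (Q : Set P)) ∧ (Cfsg.thompsonSubgroupA P = ⊤ → (∀ A ∈ Cfsg.maxAbelianSubgroups P, Nat.card ↥A ^ 2 = Nat.card P * Nat.card ↥(Subgroup.center P)) → ∀ Q : Subgroup P, Cfsg.IsMinimalCentrallyLarge Q → IsMulCommutative ↥Q) ∧ ((∀ Q : Subgroup P, Cfsg.IsMinimalCentrallyLarge Q → IsMulCommutative ↥Q) → Subgroup.centralizer ((Cfsg.thompsonSubgroupA P ⊓ Subgroup.centralizer (Cfsg.thompsonSubgroupA P : Set P) : Subgroup P) : Set P) = Cfsg.thompsonSubgroupA P) := by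
  haveI : Group.IsNilpotent P := hP.isNilpotent
  refine ⟨fun Q hQ => Lib.LocalEven2.CD.centralizer_center_thompson_le hQ,
    Lib.LocalEven2.CD.exists_normalized, fun hJ hd Q hQ => ?_, fun hab => ?_⟩
  · obtain ⟨A, hA⟩ := Lib.LocalEven2.CD.exists_maxAbelian (G := P)
    have htop : Cfsg.IsCentrallyLarge (⊤ : Subgroup P) := by
      have h := Lib.LocalEven2.CD.centrallyLarge_sup_thompson hQ.1
      rwa [hJ, sup_top_eq] at h
    have hf : Cfsg.maxCentralizerProduct P = Nat.card ↥A * Nat.card ↥A := by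
      have h : Nat.card ↥(⊤ : Subgroup P) *
          Nat.card ↥(Subgroup.centralizer ((⊤ : Subgroup P) : Set P)) = Cfsg.maxCentralizerProduct P :=
        (Lib.LocalEven2.CD.isCentrallyLarge_iff.mp htop).1
      rw [← h, Subgroup.card_top, Subgroup.coe_top, Subgroup.centralizer_univ, ← hd A hA, sq]
    have hAc := Lib.LocalEven2.CD.centralizer_maxAbelian hA
    have hAl : Cfsg.IsCentrallyLarge A :=
      (Lib.LocalEven2.CD.isCentrallyLarge_of_le A le_rfl hAc.ge hf.le).1
    obtain ⟨R, hRA, hR⟩ := Lib.LocalEven2.CD.exists_minimal_le hAl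
    obtain ⟨h1, h2⟩ := Lib.LocalEven2.CD.minimal_card_eq hQ hR
    obtain ⟨hQl, hQc⟩ := Lib.LocalEven2.CD.isCentrallyLarge_iff.mp hQ.1
    obtain ⟨hRl, hRc⟩ := Lib.LocalEven2.CD.isCentrallyLarge_iff.mp hR.1
    have hRR : Subgroup.centralizer (R : Set P) = R := le_antisymm hRc
      (hRA.trans (hAc.ge.trans (Subgroup.centralizer_le hRA)))
    rw [Lib.LocalEven2.CD.isMulCommutative_iff_le_centralizer]
    exact (Subgroup.eq_of_le_of_card_ge hQc (by rw [h1, h2, hRR])).ge
  · refine le_antisymm ?_ (Subgroup.le_centralizer_iff.mp inf_le_right)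
    obtain ⟨A, hA⟩ := Lib.LocalEven2.CD.exists_centrallyLarge (G := P)
    obtain ⟨Q, -, hQ⟩ := Lib.LocalEven2.CD.exists_minimal_le hA
    obtain ⟨hQl, hQc⟩ := Lib.LocalEven2.CD.isCentrallyLarge_iff.mp hQ.1
    refine (Lib.LocalEven2.CD.centralizer_center_thompson_le hQ.1).trans (sup_le ?_ le_rfl)
    refine le_sSup ⟨hab Q hQ, fun B hB => ?_⟩
    have hQQ : Subgroup.centralizer (Q : Set P) = Q := le_antisymm hQc
      (Lib.LocalEven2.CD.isMulCommutative_iff_le_centralizer.mp (hab Q hQ))
    have h := Lib.LocalEven2.CD.sq_card_le hB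
    rw [← (show Nat.card ↥Q * Nat.card ↥(Subgroup.centralizer (Q : Set P)) =
      Cfsg.maxCentralizerProduct P from hQl), hQQ] at h
    exact Nat.mul_self_le_mul_self_iff.mp h

end Cfsg.Agent.S3008
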