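import Cfsg.Statements.S3009
import Cfsg.Agent.Lib.LocalEven2.SL2NatBridge
import Cfsg.Agent.Lib.FusionControl.Centric

set_option autoImplicit false
open Cfsg

namespace Cfsg.Agent.S3009

open Lib.LocalEven2 Lib.LocalEven2.SL2Nat
open scoped commutatorElement IsMulCommutative

/-- Let p be a prime and let G and V be subgroups of a finite group with V elementary abelian and normalized by G, and G isomorphic to SL₂(F) for a finite field F with pⁿ elements. Suppose G acts irreducibly and nontrivially on V by conjugation (no G-invariant subgroups of V other than 1 and V, and [V, G] ≠ 1), and let S be a Sylow p-subgroup of G and V₀ = C_V(S). If [V, S, S] = 1 or |V| ≤ |V₀|², then G acts on V as SL₂(F) on its natural two-dimensional module; in particular |V| = |F|². -/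
theorem result {X : Type*} [Group X] [Finite X] {p : ℕ} [Fact p.Prime] (G V : Subgroup X) (hV : Cfsg.IsElementaryAbelian p V) (hGV : G ≤ Subgroup.normalizer (V : Set X)) (F : Type) [Field F] [Fintype F] (n : ℕ) (hF : Fintype.card F = p ^ n) (hG : Nonempty (↥G ≃* Matrix.SpecialLinearGroup (Fin 2) F)) (hirr : ∀ U : Subgroup X, U ≤ V → G ≤ Subgroup.normalizer (U : Set X) → U = ⊥ ∨ U = V) (hnt : ⁅V, G⁆ ≠ ⊥) (S : Sylow p ↥G) (hyp : ⁅⁅V, (S : Subgroup ↥G).map G.subtype⁆, (S : Subgroup ↥G).map G.subtype⁆ = ⊥ ∨ Nat.card ↥V ≤ Nat.card ↥(V ⊓ Subgroup.centralizer (((S : Subgroup ↥G).map G.subtype : Subgroup X) : Set X)) ^ 2) : Cfsg.ActsAsSL2OnSection F ⊤ G V ⊥ := by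
  obtain ⟨hc, he⟩ := isElementaryAbelian_iff.mp hV
  haveI : IsMulCommutative ↥V := hV.1
  obtain ⟨e₀⟩ := hG
  haveI : CharP F p := charP_of_card_eq_prime_pow hF
  obtain ⟨e, hS⟩ := exists_iso_uGroup e₀ S
  haveI : Finite (Additive ↥V) := inferInstanceAs (Finite ↥V)
  set ρ := conjRep hGV e with hρdef
  have hp : ∀ x : Additive ↥V, p • x = 0 := fun x => by
    apply Additive.toMul.injective
    exact Subtype.ext (he _ (Additive.toMul x).2)
  have hirr' : ∀ A : AddSubgroup (Additive ↥V), (∀ g, ∀ x ∈ A, act ρ g x ∈ A) → A = ⊥ ∨ A = ⊤ := by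
    intro A hA
    let A' : Subgroup ↥V := AddSubgroup.toSubgroup' A
    have hn : G ≤ Subgroup.normalizer ((A'.map V.subtype : Subgroup X) : Set X) := fun g hg => by
      refine Lib.FusionControl.mem_normalizer_of_cj_le ?_
      rintro _ ⟨_, ⟨u, hu, rfl⟩, rfl⟩
      have h := hA (e ⟨g, hg⟩) (Additive.ofMul u) hu
      refine ⟨_, h, ?_⟩
      show ((Additive.toMul (act ρ (e ⟨g, hg⟩) (Additive.ofMul u)) : ↥V) : X) = g * (u : X) * g⁻¹
      rw [conjRep_apply, e.symm_apply_apply]; rfl
    rcases hirr _ (Subgroup.map_subtype_le A') hn with h | h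
    · left
      rw [eq_bot_iff]
      intro x hx
      have : ((Additive.toMul x : ↥V) : X) ∈ A'.map V.subtype := ⟨_, hx, rfl⟩
      rw [h, Subgroup.mem_bot] at this
      exact AddSubgroup.mem_bot.mpr (Additive.toMul.injective (Subtype.ext this))
    · right
      rw [eq_top_iff]
      rintro x -
      obtain ⟨y, hy, hyx⟩ := h.ge (Additive.toMul x).2
      have hy' : Additive.ofMul y ∈ A := hy
      rwa [show y = Additive.toMul x from Subtype.ext hyx, ofMul_toMul] at hy'
  have hnt' : ∃ g x, act ρ g x ≠ x := by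
    by_contra! h
    apply hnt
    rw [Subgroup.commutator_eq_bot_iff_le_centralizer]
    intro v hv
    refine Subgroup.mem_centralizer_iff.mpr fun g hg => ?_
    have := congrArg (fun y : Additive ↥V => ((Additive.toMul y : ↥V) : X)) (h (e ⟨g, hg⟩) (Additive.ofMul ⟨v, hv⟩))
    simp only [hρdef, conjRep_apply, e.symm_apply_apply, toMul_ofMul] at this
    exact mul_inv_eq_iff_eq_mul.mp this
  have hmem : ∀ a : F, ((e.symm (upp a) : ↥G) : X) ∈ (S : Subgroup ↥G).map G.subtype := fun a =>
    ⟨e.symm (upp a), (hS _).mp (by rw [e.apply_symm_apply]; exact ⟨a, rfl⟩), rfl⟩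
  have hyp' : (∀ a b x, act ρ (upp a) (act ρ (upp b) x - x) = act ρ (upp b) x - x) ∨
      Nat.card (Additive ↥V) ≤ Nat.card (fixU ρ) ^ 2 := by
    refine hyp.imp (fun hq a b x => ?_) fun hq => ?_
    · rw [Subgroup.commutator_eq_bot_iff_le_centralizer] at hq
      set s := ((e.symm (upp b) : ↥G) : X) with hs
      set t := ((e.symm (upp a) : ↥G) : X) with ht
      set v := ((Additive.toMul x : ↥V) : X) with hv
      apply Additive.toMul.injective
      apply Subtype.ext
      have hz : ((Additive.toMul (act ρ (upp b) x - x) : ↥V) : X) = s * v * s⁻¹ / v := by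
        simp [hρdef, conjRep_apply, hs, hv]
      rw [hρdef, conjRep_apply, ← hρdef, hz, ← ht]
      have hcm : s * v * s⁻¹ / v = ⁅v, s⁆⁻¹ := by rw [commutatorElement_def, div_eq_mul_inv]; group
      rw [hcm]
      have := Subgroup.mem_centralizer_iff.mp (hq (inv_mem (Subgroup.commutator_mem_commutator
        (show v ∈ V from (Additive.toMul x).2) (hmem b)))) t (hmem a)
      rw [this, mul_inv_cancel_right]
    · refine le_trans (by rw [Nat.card_congr Additive.toMul]; exact hq) (Nat.pow_le_pow_left ?_ 2)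
      refine Nat.card_le_card_of_injective (fun y => (⟨Additive.ofMul ⟨(y : X), y.2.1⟩, fun a => ?_⟩ : fixU ρ))
        fun y z h => Subtype.ext (congrArg (fun w : fixU ρ => ((Additive.toMul (w : Additive ↥V) : ↥V) : X)) h)
      apply Additive.toMul.injective
      apply Subtype.ext
      rw [hρdef, conjRep_apply]
      exact mul_inv_eq_iff_eq_mul.mpr (Subgroup.mem_centralizer_iff.mp y.2.2 _ (hmem a))
  exact natural_of_span hGV e (disjoint_fix hirr' hnt')
    (quadPart_eq hirr' hnt' hp (sup_fix hirr' hnt' hyp')) (fixL_ne_bot hirr' hnt' hp) hirr'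

end Cfsg.Agent.S3009
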