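import Cfsg.Statements.S3011
import Mathlib
import Cfsg.Agent.Lib.InvChar.OddInverted
import Cfsg.Prelude.Def_Transfer
-- import your own Cfsg.Agent.* helpers here

set_option autoImplicit false
open Cfsg

namespace Cfsg.Agent.S3011

variable {G : Type*} [Group G]

lemma eq_one_of_odd {x : G} (ho : Odd (orderOf x)) (h : x = x⁻¹) : x = 1 := by
  have h2 : x ^ 2 = 1 := by rw [pow_two]; nth_rw 2 [h]; exact mul_inv_cancel x
  rcases (Nat.dvd_prime Nat.prime_two).1 (orderOf_dvd_of_pow_eq_one h2) with h1 | h1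
  · exact orderOf_eq_one_iff.1 h1
  · rw [h1] at ho
    exact absurd ho (by decide)

lemma conj_eq_of_comm {a x : G} (h : a * x = x * a) : a * x * a⁻¹ = x := by
  rw [h, mul_inv_cancel_right]

lemma commute_of_commute_sq {x y : G} (ho : Odd (orderOf y)) (h : Commute (y ^ 2) x) : Commute y x := by
  obtain ⟨k, hk⟩ := ho
  have : y = (y ^ 2) ^ (k + 1) := by
    rw [← pow_mul, show 2 * (k + 1) = orderOf y + 1 by omega, pow_succ, pow_orderOf_eq_one, one_mul]
  rw [this]
  exact h.pow_left _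

/-- the two types of inverted elements exclude each other -/
lemma core [Finite G] (V : Subgroup G) (hS : Cfsg.IsSidkiPair V) {a b x y : G} (haV : a ∈ V) (hbV : b ∈ V)
    (hall : ∀ w ∈ V, w ≠ 1 → w = a ∨ w = b ∨ w = a * b)
    (hxo : Odd (orderOf x)) (hyo : Odd (orderOf y))
    (hax : a * x = x * a) (hbx : b * x * b⁻¹ = x⁻¹) (hby : b * y = y * b) (hay : a * y * a⁻¹ = y⁻¹) :
    x = 1 ∨ y = 1 := by
  by_contra hcon
  push Not at hcon
  obtain ⟨hx1, hy1⟩ := hcon
  have cax : MulAut.conj a x = x := conj_eq_of_comm hax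
  have cby : MulAut.conj b y = y := conj_eq_of_comm hby
  have cbx : MulAut.conj b x = x⁻¹ := hbx
  have cay : MulAut.conj a y = y⁻¹ := hay
  set u := y⁻¹ * x * y with hu
  have huo : Odd (orderOf u) := by
    have : orderOf u = orderOf x := by
      rw [hu]
      simpa [inv_inv] using (SemiconjBy.conj_mk y⁻¹ x).orderOf_eq.symm
    rw [this]; exact hxo
  have hbu : MulAut.conj b u = u⁻¹ := by
    simp only [hu, map_mul, map_inv, cby, cbx]
    group
  have hau : MulAut.conj a u = y * x * y⁻¹ := by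
    simp only [hu, map_mul, map_inv, cay, cax]
    group
  have hcomm : Commute y x := by
    obtain ⟨w, hw, hw1, hwu⟩ := hS u b hbV huo hbu
    have hwu' : MulAut.conj w u = u := conj_eq_of_comm hwu
    rcases hall w hw hw1 with rfl | rfl | rfl
    · rw [hau, hu] at hwu'
      apply commute_of_commute_sq hyo
      show y ^ 2 * x = x * y ^ 2
      calc y ^ 2 * x = y * (y * x * y⁻¹) * y := by rw [pow_two]; group
        _ = x * y ^ 2 := by rw [hwu', pow_two]; group
    · rw [hbu] at hwu'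
      have := eq_one_of_odd huo hwu'.symm
      rw [hu, mul_assoc, inv_mul_eq_one] at this
      exact absurd (mul_right_cancel (this.symm.trans (one_mul y).symm)) hx1
    · rw [show MulAut.conj (a * b) = MulAut.conj a * MulAut.conj b from map_mul _ _ _, MulAut.mul_apply, hbu, map_inv, hau, hu] at hwu'
      have h2 : y ^ 2 * x⁻¹ * (y ^ 2)⁻¹ = x := by
        calc y ^ 2 * x⁻¹ * (y ^ 2)⁻¹ = y * (y * x * y⁻¹)⁻¹ * y⁻¹ := by simp only [pow_two]; group
          _ = x := by rw [hwu']; group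
      have h3 : y ^ 2 * x * (y ^ 2)⁻¹ = x⁻¹ := by
        conv_rhs => rw [← h2]
        group
      have h4 : Commute ((y ^ 2) ^ 2) x := by
        show (y ^ 2) ^ 2 * x = x * (y ^ 2) ^ 2
        calc (y ^ 2) ^ 2 * x = y ^ 2 * (y ^ 2 * x * (y ^ 2)⁻¹) * y ^ 2 := by group
          _ = (y ^ 2 * x⁻¹ * (y ^ 2)⁻¹) * (y ^ 2) ^ 2 := by rw [h3]; group
          _ = x * (y ^ 2) ^ 2 := by rw [h2]
      have ho2 : Odd (orderOf (y ^ 2)) :=
        Odd.of_dvd_nat hyo (orderOf_pow_dvd 2)
      exact commute_of_commute_sq hyo (commute_of_commute_sq ho2 h4)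
  have hzo : Odd (orderOf (x * y)) :=
    Odd.of_dvd_nat (hxo.mul hyo) ((Commute.symm hcomm).orderOf_mul_dvd_mul_orderOf)
  have hz : MulAut.conj (a * b) (x * y) = (x * y)⁻¹ := by
    simp only [map_mul, MulAut.mul_apply, cbx, cby, map_inv, cax, cay]
    rw [← mul_inv_rev, hcomm.eq]
  obtain ⟨w, hw, hw1, hwz⟩ := hS (x * y) (a * b) (mul_mem haV hbV) hzo hz
  have hwz' : MulAut.conj w (x * y) = x * y := conj_eq_of_comm hwz
  rcases hall w hw hw1 with rfl | rfl | rfl
  · rw [map_mul, cax, cay, mul_right_inj] at hwz'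
    exact hy1 (eq_one_of_odd hyo hwz'.symm)
  · rw [map_mul, cbx, cby, mul_left_inj] at hwz'
    exact hx1 (eq_one_of_odd hxo hwz'.symm)
  · rw [hz] at hwz'
    have := eq_one_of_odd hzo hwz'.symm
    rw [mul_eq_one_iff_eq_inv] at this
    subst this
    rw [map_inv, cby, inv_inv] at cbx
    exact hy1 (eq_one_of_odd hyo cbx.symm)

/-- Let G be a finite group and V a nontrivial elementary abelian 2-subgroup of G of order at most 4 such that, whenever an element of V inverts an element h of G of odd order, some nontrivial element of V commutes with h. Then V meets O₂(G) nontrivially. (The case of order at most 4 has a short argument from the Baer–Suzuki theorem.) -/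
theorem result {G : Type*} [Group G] [Finite G] (V : Subgroup G) (hV : Cfsg.IsElementaryAbelian 2 V) (hV1 : V ≠ ⊥) (hS : Cfsg.IsSidkiPair V) (h4 : Nat.card V ≤ 4) : V ⊓ Cfsg.pCore 2 G ≠ ⊥ := by
  classical
  haveI : Fact (Nat.Prime 2) := ⟨Nat.prime_two⟩
  intro hcon
  have hinvol : ∀ v ∈ V, v ≠ 1 → orderOf v = 2 := fun v hv hv1 => orderOf_eq_prime (hV.2 v hv) hv1
  have hnotO : ∀ v ∈ V, v ≠ 1 → v ∉ Cfsg.pCore 2 G := fun v hv hv1 hvO => hv1 (by
    have : v ∈ V ⊓ Cfsg.pCore 2 G := ⟨hv, hvO⟩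
    rwa [hcon, Subgroup.mem_bot] at this)
  have hinv : ∀ v ∈ V, v ≠ 1 → ∃ h w : G, h ≠ 1 ∧ Odd (orderOf h) ∧ v * h * v⁻¹ = h⁻¹ ∧ w ∈ V ∧ w ≠ 1 ∧
      w ≠ v ∧ w * h = h * w := fun v hv hv1 => by
    obtain ⟨h, h1, ho, hi⟩ := Cfsg.Agent.Lib.InvChar.exists_odd_inverted (hinvol v hv hv1) (hnotO v hv hv1)
    obtain ⟨w, hw, hw1, hwh⟩ := hS h v hv ho hi
    refine ⟨h, w, h1, ho, hi, hw, hw1, ?_, hwh⟩
    rintro rfl
    exact h1 (eq_one_of_odd ho ((conj_eq_of_comm hwh).symm.trans hi))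
  obtain ⟨⟨a, ha⟩, ha1⟩ := Subgroup.ne_bot_iff_exists_ne_one.1 hV1
  have ha1' : a ≠ 1 := fun h => ha1 (Subtype.ext h)
  obtain ⟨h, b, h1, hho, hah, hb, hb1, hba, hbh⟩ := hinv a ha ha1'
  obtain ⟨k, w', k1, hko, hbk, hw', hw'1, hw'b, hw'k⟩ := hinv b hb hb1
  haveI := hV.1
  have hcomm : ∀ p ∈ V, ∀ q ∈ V, p * q = q * p := fun p hp q hq =>
    congrArg Subtype.val (mul_comm' (⟨p, hp⟩ : V) ⟨q, hq⟩)
  have hall : ∀ w ∈ V, w ≠ 1 → w = a ∨ w = b ∨ w = a * b := by
    intro w hw hw1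
    by_contra hne
    push Not at hne
    haveI : Fintype ↥V := Fintype.ofFinite _
    have hab1 : a * b ≠ 1 := fun h => hba (by
      rw [mul_eq_one_iff_inv_eq] at h
      rw [← h]
      exact inv_eq_of_mul_eq_one_right (by rw [← pow_two]; exact hV.2 a ha))
    have e1 : a * b ≠ a := fun h => hb1 (mul_left_cancel (h.trans (mul_one a).symm))
    have e2 : a * b ≠ b := fun h => ha1' (mul_right_cancel (h.trans (one_mul b).symm))
    have hs : ({⟨1, V.one_mem⟩, ⟨a, ha⟩, ⟨b, hb⟩, ⟨a * b, mul_mem ha hb⟩, ⟨w, hw⟩} : Finset ↥V).card = 5 := by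
      rw [Finset.card_insert_of_notMem, Finset.card_insert_of_notMem, Finset.card_insert_of_notMem,
        Finset.card_insert_of_notMem, Finset.card_singleton] <;>
        simp [Subtype.ext_iff, Ne.symm ha1', Ne.symm hb1, Ne.symm hw1, Ne.symm hba, Ne.symm hab1, Ne.symm e1,
          Ne.symm e2, Ne.symm hne.1, Ne.symm hne.2.1, Ne.symm hne.2.2]
    have := Finset.card_le_univ ({⟨1, V.one_mem⟩, ⟨a, ha⟩, ⟨b, hb⟩, ⟨a * b, mul_mem ha hb⟩, ⟨w, hw⟩} : Finset ↥V)
    rw [hs, ← Nat.card_eq_fintype_card] at this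
    omega
  -- the partner of b may be taken as `a`
  have haw : w' * h * w'⁻¹ = h⁻¹ := by
    rcases hall w' hw' hw'1 with rfl | rfl | rfl
    · exact hah
    · exact absurd rfl hw'b
    · show MulAut.conj (a * b) h = h⁻¹
      rw [map_mul, MulAut.mul_apply, show MulAut.conj b h = h from conj_eq_of_comm hbh]
      exact hah
  have hall' : ∀ w ∈ V, w ≠ 1 → w = w' ∨ w = b ∨ w = w' * b := by
    intro w hw hw1
    rcases hall w' hw' hw'1 with rfl | rfl | rfl
    · exact hall w hw hw1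
    · exact absurd rfl hw'b
    · have e : a * b * b = a := by rw [mul_assoc, ← pow_two, hV.2 b hb, mul_one]
      rw [e]
      rcases hall w hw hw1 with h | h | h
      · exact Or.inr (Or.inr h)
      · exact Or.inr (Or.inl h)
      · exact Or.inl h
  rcases core V hS hw' hb hall' hko hho hw'k hbk hbh haw with h | h
  · exact k1 h
  · exact h1 h

end Cfsg.Agent.S3011
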