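import Cfsg.Statements.S3012

set_option autoImplicit false
open Cfsg

namespace Cfsg.Agent.S3012

/-- Let G be a finite group, V a nontrivial elementary abelian 2-subgroup of G satisfying the Sidki pair condition (every odd-order element inverted by an element of V commutes with a nontrivial element of V), and K a normal subgroup of G with V ∩ K = 1. Then the image of V in G/K satisfies the Sidki pair condition in G/K. -/
theorem result {G : Type*} [Group G] [Finite G] (V K : Subgroup G) [K.Normal] (hV : Cfsg.IsElementaryAbelian 2 V) (hV1 : V ≠ ⊥) (hS : Cfsg.IsSidkiPair V) (hVK : V ⊓ K = ⊥) : Cfsg.IsSidkiPair (V.map (QuotientGroup.mk' K)) := by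
  intro hb vb hvb hodd hinv
  obtain ⟨v, hv, rfl⟩ := hvb
  obtain ⟨h₀, rfl⟩ := QuotientGroup.mk_surjective hb
  have hv2 : v * v = 1 := by simpa [pow_two] using hV.2 v hv
  have hvi : v⁻¹ = v := inv_eq_of_mul_eq_one_right hv2
  set u := v * h₀ * v⁻¹ * h₀⁻¹ with hu
  have hvu : v * u * v⁻¹ = u⁻¹ := by
    rw [hu]
    simp only [mul_inv_rev, inv_inv, hvi, mul_assoc]
    rw [← mul_assoc v v, hv2, one_mul]
  obtain ⟨a, m, hm, hord⟩ := Nat.exists_eq_two_pow_mul_odd (orderOf_pos u).ne'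
  have h1odd : Odd (orderOf (u ^ 2 ^ a)) := by
    rwa [orderOf_pow_of_dvd (pow_ne_zero _ two_ne_zero) (hord ▸ dvd_mul_right _ _), hord,
      Nat.mul_div_cancel_left _ (pow_pos two_pos a)]
  obtain ⟨w, hw, hw1, hwc⟩ := hS (u ^ 2 ^ a) v hv h1odd (by rw [← conj_pow, hvu, inv_pow])
  refine ⟨QuotientGroup.mk w, ⟨w, hw, rfl⟩, fun h => hw1 ?_, ?_⟩
  · have : w ∈ V ⊓ K := ⟨hw, (QuotientGroup.eq_one_iff w).mp h⟩
    rwa [hVK, Subgroup.mem_bot] at this
  have hu' : (QuotientGroup.mk u : G ⧸ K) = ((QuotientGroup.mk h₀ : G ⧸ K) ^ 2)⁻¹ := by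
    simp only [QuotientGroup.mk'_apply] at hinv
    rw [hu]
    simp only [QuotientGroup.mk_mul, QuotientGroup.mk_inv]
    rw [hinv, pow_two, mul_inv_rev]
  have hc := congrArg (QuotientGroup.mk' K) hwc
  simp only [map_mul, map_pow, QuotientGroup.mk'_apply, hu', inv_pow, ← pow_mul] at hc
  have hc' : Commute (QuotientGroup.mk w : G ⧸ K) ((QuotientGroup.mk h₀ : G ⧸ K) ^ (2 * 2 ^ a)) := by
    simpa using (Commute.inv_right (hc : Commute _ _))
  obtain ⟨j, hj⟩ := exists_pow_eq_self_of_coprime (x := (QuotientGroup.mk h₀ : G ⧸ K))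
    (n := 2 * 2 ^ a) (by rw [← pow_succ']; exact Nat.Coprime.pow_left _ (Nat.coprime_two_left.mpr hodd))
  have := (hc'.pow_right j).eq
  rwa [hj] at this

end Cfsg.Agent.S3012
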