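import Cfsg.Statements.S3013

set_option autoImplicit false
open Cfsg

namespace Cfsg.Agent.S3013

/-- Let G be a finite group and V a nontrivial elementary abelian 2-subgroup of G satisfying the Sidki pair condition. Let v ∈ V and let x be an element of odd order inverted by v, and put C = C_G(v) ∩ C_G(x), the centralizer of the dihedral subgroup generated by v and x. Then C ∩ V is nontrivial and satisfies the Sidki pair condition inside C: every odd-order element of C inverted by an element of C ∩ V commutes with a nontrivial element of C ∩ V. -/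
theorem result {G : Type*} [Group G] [Finite G] (V : Subgroup G) (hV : Cfsg.IsElementaryAbelian 2 V) (hV1 : V ≠ ⊥) (hS : Cfsg.IsSidkiPair V) (v x : G) (hv : v ∈ V) (hx : Odd (orderOf x)) (hinv : v * x * v⁻¹ = x⁻¹) (C : Subgroup G) (hC : C = Subgroup.centralizer ({v} : Set G) ⊓ Subgroup.centralizer ({x} : Set G)) : C ⊓ V ≠ ⊥ ∧ Cfsg.IsSidkiPair ((C ⊓ V).subgroupOf C) := by
  subst hC
  haveI := hV.1
  have hcomm : ∀ a ∈ V, ∀ b ∈ V, a * b = b * a := fun a ha b hb =>
    (Subgroup.mem_centralizer_iff.mp (Subgroup.le_centralizer V hb) a ha)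
  have hmem : ∀ {z}, z ∈ Subgroup.centralizer ({v} : Set G) ⊓ Subgroup.centralizer ({x} : Set G) ↔
      z * v = v * z ∧ z * x = x * z := by
    intro z
    simp [Subgroup.mem_inf, Subgroup.mem_centralizer_singleton_iff]
  constructor
  · obtain ⟨w, hw, hw1, hwx⟩ := hS x v hv hx hinv
    intro hbot
    apply hw1
    have : w ∈ Subgroup.centralizer ({v} : Set G) ⊓ Subgroup.centralizer ({x} : Set G) ⊓ V :=
      ⟨hmem.mpr ⟨hcomm w hw v hv, hwx⟩, hw⟩
    rwa [hbot, Subgroup.mem_bot] at this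
  · rintro ⟨h, hh⟩ ⟨u, hu⟩ huV hodd huinv
    obtain ⟨hhv, hhx⟩ := hmem.mp hh
    obtain ⟨huv, hux⟩ := hmem.mp hu
    have huV' : u ∈ V := huV.2
    have huinv' : u * h * u⁻¹ = h⁻¹ := by simpa using congrArg Subtype.val huinv
    have hodd' : Odd (orderOf h) := by simpa using hodd
    have hhx' : Commute h x := hhx
    have hinv2 : u * v * (h * x) * (u * v)⁻¹ = (h * x)⁻¹ := by
      calc u * v * (h * x) * (u * v)⁻¹
          = u * ((v * h) * (x * v⁻¹)) * u⁻¹ := by group
        _ = u * ((h * v) * (x * v⁻¹)) * u⁻¹ := by rw [hhv]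
        _ = (u * h * u⁻¹) * (u * (v * x * v⁻¹) * u⁻¹) := by group
        _ = h⁻¹ * (u * x * u⁻¹)⁻¹ := by rw [huinv', hinv]; group
        _ = h⁻¹ * x⁻¹ := by rw [hux]; group
        _ = x⁻¹ * h⁻¹ := hhx'.inv_inv.eq
        _ = (h * x)⁻¹ := (mul_inv_rev h x).symm
    have hodd2 : Odd (orderOf (h * x)) :=
      (Odd.mul hodd' hx).of_dvd_nat
        (hhx'.orderOf_mul_dvd_lcm.trans (Nat.lcm_dvd_mul _ _))
    obtain ⟨w, hw, hw1, hwc⟩ := hS (h * x) (u * v) (V.mul_mem huV' hv) hodd2 hinv2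
    have hwu : u * w * u⁻¹ = w := by rw [hcomm u huV' w hw]; group
    have h2 : Commute w (h⁻¹ * x) := by
      have e : u * (h * x) * u⁻¹ = h⁻¹ * x := by
        calc u * (h * x) * u⁻¹ = (u * h * u⁻¹) * (u * x * u⁻¹) := by group
          _ = h⁻¹ * x := by rw [huinv', hux]; group
      calc w * (h⁻¹ * x) = (u * w * u⁻¹) * (u * (h * x) * u⁻¹) := by rw [hwu, e]
        _ = u * (w * (h * x)) * u⁻¹ := by group
        _ = u * ((h * x) * w) * u⁻¹ := by rw [hwc]
        _ = (u * (h * x) * u⁻¹) * (u * w * u⁻¹) := by group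
        _ = (h⁻¹ * x) * w := by rw [hwu, e]
    have h3 : Commute w (x ^ 2) := by
      have := Commute.mul_right (hwc : Commute w (h * x)) h2
      rwa [show (h * x) * (h⁻¹ * x) = x ^ 2 by
        rw [hhx'.eq, pow_two]; group] at this
    obtain ⟨m, hm⟩ := exists_pow_eq_self_of_coprime (x := x) (n := 2) (Nat.coprime_two_left.mpr hx)
    have h4 : Commute w x := hm ▸ h3.pow_right m
    have h5 : Commute w h := by
      simpa using (Commute.mul_right (hwc : Commute w (h * x)) h4.inv_right)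
    refine ⟨⟨w, hmem.mpr ⟨hcomm w hw v hv, h4.eq⟩⟩, ⟨hmem.mpr ⟨hcomm w hw v hv, h4.eq⟩, hw⟩,
      fun h => hw1 (by simpa using h), Subtype.ext h5.eq⟩

end Cfsg.Agent.S3013
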