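import Cfsg.Statements.S3014
import Cfsg.Agent.Lib.LocalEven2.Wielandt

set_option autoImplicit false
open Cfsg

namespace Cfsg.Agent.S3014

/-- Let G be a finite group and H ≤ M ≤ G subgroups such that for every g ∈ G the subgroup generated by H and g H g⁻¹ meets M exactly in H. If H is a maximal subgroup of M and M is a maximal subgroup of G, then the normal closure of H in G meets M exactly in H. -/
theorem result {G : Type*} [Group G] [Finite G] (H M : Subgroup G) (hHM : H ≤ M) (hcl : ∀ g : G, (H ⊔ H.map (MulAut.conj g).toMonoidHom) ⊓ M = H) (hmaxH : IsCoatom (H.subgroupOf M)) (hmaxM : IsCoatom M) : Subgroup.normalClosure (H : Set G) ⊓ M = H := by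
  classical
  refine le_antisymm ?_ (le_inf Subgroup.le_normalClosure hHM)
  -- `H` is normal in `M`
  have hHn : M ≤ Subgroup.normalizer (H : Set G) := by
    intro g hg
    have key : ∀ g ∈ M, ∀ y ∈ H, g * y * g⁻¹ ∈ H := fun g hg y hy =>
      (hcl g).le ⟨Subgroup.mem_sup_right ⟨y, hy, rfl⟩, M.mul_mem (M.mul_mem hg (hHM hy)) (M.inv_mem hg)⟩
    rw [Subgroup.mem_normalizer_iff]
    refine fun y => ⟨key g hg y, fun hy => ?_⟩
    have := key g⁻¹ (M.inv_mem hg) _ hy
    simpa [mul_assoc] using this
  haveI hHnM : (H.subgroupOf M).Normal := Subgroup.normal_subgroupOf_of_le_normalizer hHn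
  by_cases hnorm : Subgroup.normalizer (H : Set G) = ⊤
  · haveI : H.Normal := Subgroup.normalizer_eq_top_iff.mp hnorm
    rw [Subgroup.normalClosure_eq_self]
    exact inf_le_left
  have hNM : Subgroup.normalizer (H : Set G) = M := by
    by_contra hne
    exact hnorm (hmaxM.2 _ (lt_of_le_of_ne hHn (Ne.symm hne)))
  by_cases hA : ∃ g : G, g ∉ M ∧ ¬ M ⊓ M.map (MulAut.conj g).toMonoidHom ≤ H
  · obtain ⟨g, hg, hgH⟩ := hA
    obtain ⟨y, ⟨hyM, hyg⟩, hyH⟩ := SetLike.not_le_iff_exists.mp hgH
    set K := H ⊔ H.map (MulAut.conj g).toMonoidHom with hK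
    have hHy : H ⊔ Subgroup.zpowers y = M := by
      have hle : H ⊔ Subgroup.zpowers y ≤ M := sup_le hHM (Subgroup.zpowers_le.mpr hyM)
      have h := hmaxH.2 ((H ⊔ Subgroup.zpowers y).subgroupOf M) (by
        refine lt_of_le_of_ne (Subgroup.comap_mono le_sup_left) fun he => hyH ?_
        have h1 : (⟨y, hyM⟩ : ↥M) ∈ (H ⊔ Subgroup.zpowers y).subgroupOf M :=
          Subgroup.mem_sup_right (Subgroup.mem_zpowers y)
        rw [← he] at h1
        exact h1)
      exact le_antisymm hle (Subgroup.subgroupOf_eq_top.mp h)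
    have hMK : M ≤ Subgroup.normalizer (K : Set G) := by
      rw [← hHy]
      refine sup_le (le_sup_left.trans Subgroup.le_normalizer) (Subgroup.zpowers_le.mpr ?_)
      exact Subgroup.normalizer_inf_normalizer_le_normalizer_sup _ _ ⟨hHn hyM,
        Lib.LocalEven2.conj_mem_of_le_normalizer (hHn (Lib.LocalEven2.mem_map_conj.mp hyg))⟩
    have hKM : ¬ K ≤ M := by
      intro hle
      apply hg
      rw [← hNM]
      have hKH : K ≤ H := (le_inf le_rfl hle).trans (hcl g).le
      have heq : H.map (MulAut.conj g).toMonoidHom = H :=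
        Subgroup.eq_of_le_of_card_ge (le_sup_right.trans hKH)
          (Nat.card_congr (H.equivMapOfInjective _ (MulAut.conj g).injective).toEquiv).le
      rw [Subgroup.mem_normalizer_iff]
      intro z
      constructor
      · intro hz; rw [← heq]; exact ⟨z, hz, rfl⟩
      · intro hz
        rw [← heq, Lib.LocalEven2.mem_map_conj] at hz
        simpa [mul_assoc] using hz
    haveI := Lib.LocalEven2.normal_of_le_normalizer hmaxM hMK hKM
    exact le_trans (inf_le_inf_right M (Subgroup.normalClosure_le_normal (le_sup_left : H ≤ K)))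
      (hcl g).le
  · simp only [not_exists, not_and, not_not] at hA
    haveI : IsMulCommutative (↥M ⧸ H.subgroupOf M) := by
      by_cases hall : ∀ a : ↥M ⧸ H.subgroupOf M, a = 1
      · exact ⟨⟨fun a b => by rw [hall a, hall b]⟩⟩
      simp only [not_forall] at hall
      obtain ⟨a, ha⟩ := hall
      have hgen : Subgroup.zpowers a = ⊤ := by
        have hlt : H.subgroupOf M < (Subgroup.zpowers a).comap (QuotientGroup.mk' (H.subgroupOf M)) := by
          refine lt_of_le_of_ne (fun x hx => ?_) fun he => ha ?_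
          · rw [Subgroup.mem_comap, QuotientGroup.mk'_apply, (QuotientGroup.eq_one_iff x).mpr hx]
            exact one_mem _
          · obtain ⟨x, rfl⟩ := QuotientGroup.mk_surjective a
            refine (QuotientGroup.eq_one_iff x).mpr ?_
            rw [he]; exact Subgroup.mem_zpowers _
        have h := hmaxH.2 _ hlt
        rw [← Subgroup.map_comap_eq_self_of_surjective (QuotientGroup.mk'_surjective (H.subgroupOf M))
          (Subgroup.zpowers a), h, Subgroup.map_top_of_surjective _ (QuotientGroup.mk'_surjective _)]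
      exact ⟨⟨fun b c => by
        obtain ⟨i, rfl⟩ : b ∈ Subgroup.zpowers a := hgen ▸ Subgroup.mem_top b
        obtain ⟨j, rfl⟩ : c ∈ Subgroup.zpowers a := hgen ▸ Subgroup.mem_top c
        exact ((Commute.refl a).zpow_zpow i j).eq⟩⟩
    obtain ⟨N, hN, hNH, -⟩ := Lib.LocalEven2.exists_normal_inf_eq M H hHM hA
    haveI := hN
    exact le_trans (inf_le_inf_right M
      (Subgroup.normalClosure_le_normal (le_of_eq_of_le hNH.symm inf_le_left : H ≤ N))) hNH.le

end Cfsg.Agent.S3014
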