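import Cfsg.Statements.S3015
import Cfsg.Agent.Lib.LocalEven2.Wielandt
import Cfsg.Agent.Lib.Coprime.Basic

set_option autoImplicit false
open Cfsg

namespace Cfsg.Agent.S3015

/-- Let G be a finite non-abelian simple group, M a maximal subgroup of G and H a normal subgroup of M of prime index in M. Then G is generated by H together with one of its conjugates. -/
theorem result {G : Type*} [Group G] [Finite G] [IsSimpleGroup G] (hG : ¬ IsMulCommutative G) (M H : Subgroup G) (hmaxM : IsCoatom M) (hHM : H ≤ M) (hHn : (H.subgroupOf M).Normal) (hidx : (H.relIndex M).Prime) : ∃ g : G, H ⊔ H.map (MulAut.conj g).toMonoidHom = ⊤ := by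
  classical
  by_contra hcon
  simp only [not_exists] at hcon
  have hp : (H.subgroupOf M).index.Prime := hidx
  haveI : Fact (H.relIndex M).Prime := ⟨hidx⟩
  set p := H.relIndex M with hpdef
  have hHn' : M ≤ Subgroup.normalizer (H : Set G) := (Subgroup.normal_subgroupOf_iff_le_normalizer hHM).mp hHn
  have hperf : commutator G = ⊤ := by
    refine ((inferInstance : (commutator G).Normal).eq_bot_or_eq_top).resolve_left fun h => hG ?_
    rw [commutator_def, Subgroup.commutator_eq_bot_iff_le_centralizer] at h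
    exact ⟨⟨fun a b => Subgroup.mem_centralizer_iff.mp (h (Subgroup.mem_top b)) a (Subgroup.mem_top a)⟩⟩
  have hMtop : M ≠ ⊤ := hmaxM.1
  have hMbot : M ≠ ⊥ := by
    intro h
    subst h
    rw [Subgroup.relIndex_bot_right] at hpdef
    rw [hpdef] at hidx
    exact Nat.not_prime_one hidx
  obtain ⟨g, hg, hgH⟩ : ∃ g : G, g ∉ M ∧ ¬ M ⊓ M.map (MulAut.conj g).toMonoidHom ≤ H := by
    by_contra hA
    simp only [not_exists, not_and, not_not] at hA
    haveI : Fact (H.subgroupOf M).index.Prime := ⟨hp⟩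
    haveI : IsCyclic (↥M ⧸ H.subgroupOf M) := isCyclic_of_prime_card (p := (H.subgroupOf M).index) rfl
    haveI : IsMulCommutative (↥M ⧸ H.subgroupOf M) := IsCyclic.isMulCommutative
    obtain ⟨N, -, hNH, hcomm⟩ := Lib.LocalEven2.exists_normal_inf_eq M H hHM hA
    rw [hperf, top_le_iff] at hcomm
    rw [hcomm, top_inf_eq] at hNH
    subst hNH
    rw [Subgroup.relIndex_self] at hpdef
    rw [hpdef] at hidx
    exact Nat.not_prime_one hidx
  obtain ⟨y, ⟨hyM, hyg⟩, hyH⟩ := SetLike.not_le_iff_exists.mp hgH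
  have hHy : H ⊔ Subgroup.zpowers y = M := by
    have hle : H ⊔ Subgroup.zpowers y ≤ M := sup_le hHM (Subgroup.zpowers_le.mpr hyM)
    rcases (Nat.dvd_prime hidx).mp (Dvd.intro_left _
      (Subgroup.relIndex_mul_relIndex H (H ⊔ Subgroup.zpowers y) M le_sup_left hle)) with h | h
    · exact le_antisymm hle (Subgroup.relIndex_eq_one.mp h)
    · exfalso
      have h1 := Subgroup.relIndex_mul_relIndex H (H ⊔ Subgroup.zpowers y) M le_sup_left hle
      rw [h] at h1
      have h2 : H.relIndex (H ⊔ Subgroup.zpowers y) = 1 :=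
        Nat.eq_of_mul_eq_mul_right hidx.pos (by rw [one_mul]; exact h1)
      exact hyH (Subgroup.relIndex_eq_one.mp h2 (Subgroup.mem_sup_right (Subgroup.mem_zpowers y)))
  set X := H.map (MulAut.conj g).toMonoidHom with hX
  have hXn : M.map (MulAut.conj g).toMonoidHom ≤ Subgroup.normalizer (X : Set G) := by
    intro z hz
    exact Lib.LocalEven2.conj_mem_of_le_normalizer (hHn' (Lib.LocalEven2.mem_map_conj.mp hz))
  have hMK : M ≤ Subgroup.normalizer ((H ⊔ X : Subgroup G) : Set G) := by
    rw [← hHy]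
    refine sup_le (le_sup_left.trans Subgroup.le_normalizer) (Subgroup.zpowers_le.mpr ?_)
    exact Subgroup.normalizer_inf_normalizer_le_normalizer_sup _ _ ⟨hHn' hyM, hXn hyg⟩
  have hXM : X ≤ M := by
    by_contra hXM
    have hK : ¬ H ⊔ X ≤ M := fun h => hXM (le_sup_right.trans h)
    haveI := Lib.LocalEven2.normal_of_le_normalizer hmaxM hMK hK
    exact hcon g ((‹(H ⊔ X).Normal›.eq_bot_or_eq_top).resolve_left fun h => hK (h ▸ bot_le))
  have hMg : ¬ M.map (MulAut.conj g).toMonoidHom ≤ M := by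
    intro hle
    apply hg
    have heq := Subgroup.eq_of_le_of_card_ge hle
      (Nat.card_congr (M.equivMapOfInjective _ (MulAut.conj g).injective).toEquiv).le
    have hgn : g ∈ Subgroup.normalizer (M : Set G) := by
      rw [Subgroup.mem_normalizer_iff]
      intro z
      constructor
      · intro hz; exact heq.le ⟨z, hz, rfl⟩
      · intro hz
        rw [← heq, Lib.LocalEven2.mem_map_conj] at hz
        simpa [mul_assoc] using hz
    by_contra hgM
    have htop : Subgroup.normalizer (M : Set G) = ⊤ :=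
      hmaxM.2 _ (lt_of_le_of_ne Subgroup.le_normalizer fun h => hgM (h ▸ hgn))
    haveI : M.Normal := Subgroup.normalizer_eq_top_iff.mp htop
    rcases ‹M.Normal›.eq_bot_or_eq_top with h | h
    · exact hMbot h
    · exact hMtop h
  have hnotnormal : ∀ R : Subgroup G, M ≤ Subgroup.normalizer (R : Set G) →
      M.map (MulAut.conj g).toMonoidHom ≤ Subgroup.normalizer (R : Set G) → R ≤ M → R = ⊥ := by
    intro R h1 h2 hRM
    have htop : Subgroup.normalizer (R : Set G) = ⊤ :=
      hmaxM.2 _ (lt_of_le_of_ne h1 fun h => hMg (h ▸ h2))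
    haveI : R.Normal := Subgroup.normalizer_eq_top_iff.mp htop
    exact ‹R.Normal›.eq_bot_or_eq_top.resolve_right fun h => hMtop (top_le_iff.mp (h ▸ hRM))
  have hXcard : Nat.card ↥X = Nat.card ↥H :=
    (Nat.card_congr (H.equivMapOfInjective _ (MulAut.conj g).injective).toEquiv).symm
  -- `H ≠ ⊥`
  have hHbot : H ≠ ⊥ := by
    intro h
    subst h
    rw [Subgroup.relIndex_bot_left] at hpdef
    have hle : Subgroup.zpowers y = M := by simpa using hHy
    apply hMg
    intro z hz
    have hcard : Nat.card ↥(M.map (MulAut.conj g).toMonoidHom) ≤ Nat.card ↥(Subgroup.zpowers y) := by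
      rw [hle, ← Nat.card_congr (M.equivMapOfInjective _ (MulAut.conj g).injective).toEquiv]
    rw [← hle, Subgroup.eq_of_le_of_card_ge (Subgroup.zpowers_le.mpr hyg) hcard]
    exact hz
  have hXH : ¬ X ≤ H := by
    intro hle
    have heq := Subgroup.eq_of_le_of_card_ge hle hXcard.ge
    exact hHbot (hnotnormal H hHn' (by rw [← heq]; exact hXn) hHM)
  have hHX : H.relIndex (H ⊔ X) = H.relIndex M := by
    rcases (Nat.dvd_prime hidx).mp (Dvd.intro _
      (Subgroup.relIndex_mul_relIndex H (H ⊔ X) M le_sup_left (sup_le hHM hXM))) with h | h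
    · exact absurd (le_sup_right.trans (Subgroup.relIndex_eq_one.mp h)) hXH
    · exact h
  have hpX : p ∣ Nat.card ↥X := by
    haveI := hHn
    have h1 : H.relIndex X = p := by
      rw [hpdef, ← hHX]
      have e := Lib.Coprime.card_sup_mul_card_inf (N := H) (H := X) (hXM.trans hHn')
      rw [← Lib.Coprime.relIndex_mul_card (le_sup_left : H ≤ H ⊔ X),
        ← Lib.Coprime.relIndex_mul_card (show H ⊓ X ≤ X from inf_le_right)] at e
      rw [← Subgroup.inf_relIndex_right H X]
      refine (Nat.eq_of_mul_eq_mul_left (Nat.mul_pos (Nat.card_pos (α := ↥H))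
        (Nat.card_pos (α := ↥(H ⊓ X)))) ?_).symm
      calc Nat.card ↥H * Nat.card ↥(H ⊓ X) * H.relIndex (H ⊔ X)
          = Nat.card ↥H * H.relIndex (H ⊔ X) * Nat.card ↥(H ⊓ X) := by ring
        _ = Nat.card ↥H * (Nat.card ↥(H ⊓ X) * (H ⊓ X).relIndex X) := e
        _ = _ := by ring
    rw [← h1]
    exact Subgroup.index_dvd_card _
  have hXrel : X.relIndex M = p := by
    have h1 := Lib.Coprime.relIndex_mul_card hXM
    have h2 := Lib.Coprime.relIndex_mul_card hHM
    rw [hXcard] at h1
    rw [hpdef]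
    exact Nat.eq_of_mul_eq_mul_left Nat.card_pos (h1.trans h2.symm)
  -- the core of `X` in `M`
  set D := (X.subgroupOf M).normalCore with hD
  have hDp : ¬ p ∣ D.relIndex (X.subgroupOf M) := by
    intro hd
    have h1 : D.index ∣ p.factorial := by
      rw [hD, Subgroup.normalCore_eq_ker, Subgroup.index_ker]
      refine (Subgroup.card_subgroup_dvd_card _).trans ?_
      rw [Nat.card_perm, show Nat.card (↥M ⧸ X.subgroupOf M) = p from hXrel]
    have h2 : p * p ∣ p.factorial := by
      refine dvd_trans ?_ h1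
      rw [← Subgroup.relIndex_mul_index (Subgroup.normalCore_le (X.subgroupOf M) : D ≤ _)]
      exact mul_dvd_mul hd (dvd_of_eq hXrel.symm)
    obtain ⟨q, hq⟩ := Nat.exists_eq_succ_of_ne_zero hidx.ne_zero
    change p = q.succ at hq
    rw [hq, Nat.factorial_succ] at h2
    have h3 : q.succ ∣ q.factorial := Nat.dvd_of_mul_dvd_mul_left (Nat.succ_pos q) h2
    rw [← hq, hidx.dvd_factorial] at h3
    omega
  set R := Subgroup.closure {a : G | a ∈ X ∧ ∃ k : ℕ, a ^ p ^ k = 1} with hR
  have hRX : R ≤ X := (Subgroup.closure_le _).mpr fun a ha => ha.1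
  have hRn1 : M.map (MulAut.conj g).toMonoidHom ≤ Subgroup.normalizer (R : Set G) := by
    intro z hz
    have key : ∀ z ∈ M.map (MulAut.conj g).toMonoidHom, ∀ a ∈ R, z * a * z⁻¹ ∈ R := by
      intro z hz a ha
      have hle : R ≤ R.comap (MulAut.conj z).toMonoidHom := by
        refine (Subgroup.closure_le _).mpr ?_
        rintro b ⟨hb, k, hk⟩
        exact Subgroup.subset_closure ⟨(Subgroup.mem_normalizer_iff.mp (hXn hz) b).mp hb, k,
          by rw [show (MulAut.conj z).toMonoidHom b = z * b * z⁻¹ from rfl, conj_pow, hk]; group⟩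
      exact hle ha
    rw [Subgroup.mem_normalizer_iff]
    refine fun a => ⟨key z hz a, fun ha => ?_⟩
    have := key z⁻¹ (inv_mem hz) _ ha
    simpa [mul_assoc] using this
  have hpD : ∀ a : ↥M, (a : G) ∈ X → (∃ k : ℕ, (a : G) ^ p ^ k = 1) → a ∈ D := by
    rintro a ha ⟨k, hk⟩
    set X' := X.subgroupOf M
    haveI : (D.subgroupOf X').Normal := (inferInstance : D.Normal).comap _
    have h1 : (⟨a, ha⟩ : ↥X') ^ (D.subgroupOf X').index ∈ D.subgroupOf X' := Subgroup.pow_index_mem _ _
    have h3 : (⟨a, ha⟩ : ↥X') ^ (p ^ k) = 1 := Subtype.ext (Subtype.ext (by simpa using hk))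
    have hcop : Nat.Coprime (D.subgroupOf X').index (p ^ k) :=
      ((hidx.coprime_iff_not_dvd).mpr hDp).symm.pow_right k
    have h4 := Nat.gcd_eq_gcd_ab (D.subgroupOf X').index (p ^ k)
    rw [hcop.gcd_eq_one] at h4
    have h5 : (⟨a, ha⟩ : ↥X') = ((⟨a, ha⟩ : ↥X') ^ (D.subgroupOf X').index) ^
        Nat.gcdA (D.subgroupOf X').index (p ^ k) := by
      conv_lhs => rw [← zpow_one (⟨a, ha⟩ : ↥X'), show (1 : ℤ) = ((1 : ℕ) : ℤ) from rfl, h4]
      rw [zpow_add, zpow_mul, zpow_mul, zpow_natCast, zpow_natCast, h3, one_zpow, mul_one]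
    have h6 : (⟨a, ha⟩ : ↥X') ∈ D.subgroupOf X' := h5 ▸ Subgroup.zpow_mem _ h1 _
    exact h6
  have hRn2 : M ≤ Subgroup.normalizer (R : Set G) := by
    intro z hz
    have key : ∀ z ∈ M, ∀ a ∈ R, z * a * z⁻¹ ∈ R := by
      intro z hz a ha
      have hle : R ≤ R.comap (MulAut.conj z).toMonoidHom := by
        refine (Subgroup.closure_le _).mpr ?_
        rintro b ⟨hb, k, hk⟩
        have hd := (inferInstance : D.Normal).conj_mem _ (hpD ⟨b, hXM hb⟩ hb ⟨k, hk⟩) ⟨z, hz⟩
        exact Subgroup.subset_closure ⟨Subgroup.normalCore_le (X.subgroupOf M) hd, k,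
          by rw [show (MulAut.conj z).toMonoidHom b = z * b * z⁻¹ from rfl, conj_pow, hk]; group⟩
      exact hle ha
    rw [Subgroup.mem_normalizer_iff]
    refine fun a => ⟨key z hz a, fun ha => ?_⟩
    have := key z⁻¹ (inv_mem hz) _ ha
    simpa [mul_assoc] using this
  have hRbot := hnotnormal R hRn2 hRn1 (hRX.trans hXM)
  obtain ⟨a, ha⟩ := exists_prime_orderOf_dvd_card' (G := ↥X) p hpX
  have haR : (a : G) ∈ R := Subgroup.subset_closure ⟨a.2, 1, by
    rw [pow_one, ← ha, ← Subgroup.orderOf_coe, pow_orderOf_eq_one]⟩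
  rw [hRbot, Subgroup.mem_bot] at haR
  rw [show a = 1 from Subtype.ext haR, orderOf_one] at ha
  exact hidx.ne_one ha.symm

end Cfsg.Agent.S3015
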