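import Cfsg.Statements.S3016
import Cfsg.Agent.Lib.ExtremelyClosed.Main
import Cfsg.Agent.Lib.ExtremelyClosed.FixedPoints

set_option autoImplicit false
open Cfsg
open Cfsg.Agent.Lib.ExtremelyClosed
open scoped commutatorElement

namespace Cfsg.Agent.S3016

/-- Let G be a finite group, p an odd prime, and H an abelian p-subgroup of G that is extremely closed (for every g, the subgroup generated by H and g H g⁻¹ meets N_G(H) exactly in H). Then the normal closure of H meets N_G(H) exactly in H, and G = N_G(H) O_{p'}(G). -/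
theorem result {G : Type*} [Group G] [Finite G] {p : ℕ} [Fact p.Prime] (hp : p ≠ 2) (H : Subgroup G) (hHp : IsPGroup p H) (hHab : IsMulCommutative H) (hcl : Cfsg.IsExtremelyClosed H) : Subgroup.normalClosure (H : Set G) ⊓ Subgroup.normalizer (H : Set G) = H ∧ Subgroup.normalizer (H : Set G) ⊔ Cfsg.pPrimeCore p G = ⊤ := by
  have E : ECHyp p H := ⟨hHp, hHab, hcl⟩
  refine ⟨?_, E.sup_eq_top⟩
  classical
  haveI := Fintype.ofFinite G
  set O := Cfsg.pPrimeCore p G
  have hHO : H ≤ Subgroup.normalizer (O : Set G) := Subgroup.normalizer_eq_top O ▸ le_top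
  have hcopO : (Nat.card O).Coprime p := Cfsg.Agent.Lib.Components.pPrimeCore_coprime p
  have hcopH : (Nat.card H).Coprime (Nat.card O) := by
    obtain ⟨n, hn⟩ := IsPGroup.iff_card.mp hHp
    rw [hn]
    exact hcopO.symm.pow_left n
  have hs : Group.IsSolvable H :=
    isSolvable_of_comm fun a b => Subtype.ext (E.mul_comm_mem a.2 b.2)
  set L := ⁅O, H⁆ with hL
  have hLO : L ≤ O := Cfsg.Agent.Lib.Coprime.commutator_le_of_le_normalizer hHO
  have hHL : H ≤ Subgroup.normalizer (L : Set G) := Subgroup.normalizer_commutator_ge_right O H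
  -- fixed points of `H` in `L`
  have hfix : L ⊓ Subgroup.centralizer (H : Set G) = ⊥ := by
    set G₁ := H ⊔ L with hG₁
    have hHG : H ≤ G₁ := le_sup_left
    have hLG : L ≤ G₁ := le_sup_right
    haveI := Fintype.ofFinite G₁
    have hres := ECHyp.fixed_eq_bot (E.subgroupOf G₁ hHG) hp (L := L.subgroupOf G₁)
      (Subgroup.normal_subgroupOf_of_le_normalizer (sup_le hHL Subgroup.le_normalizer))
      (by
        rw [Nat.card_congr (Subgroup.subgroupOfEquivOfLe hLG).toEquiv]
        exact hcopO.coprime_dvd_left (Subgroup.card_dvd_of_le hLO))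
      (by
        refine Subgroup.map_injective G₁.subtype_injective ?_
        rw [Subgroup.map_sup, Subgroup.map_subgroupOf_eq_of_le hHG,
          Subgroup.map_subgroupOf_eq_of_le hLG, ← MonoidHom.range_eq_map, Subgroup.range_subtype])
      (by
        refine Subgroup.map_injective G₁.subtype_injective ?_
        rw [Subgroup.map_commutator, Subgroup.map_subgroupOf_eq_of_le hHG,
          Subgroup.map_subgroupOf_eq_of_le hLG, hL]
        exact Cfsg.Agent.Lib.Coprime.commutator_commutator_eq hHO hcopH (Or.inl hs))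
    rw [eq_bot_iff]
    rintro x ⟨hx, hxc⟩
    have h1 : (⟨x, hLG hx⟩ : G₁) ∈ L.subgroupOf G₁ ⊓
        Subgroup.centralizer (H.subgroupOf G₁ : Set G₁) :=
      ⟨hx, Subgroup.mem_centralizer_iff.mpr fun y hy =>
        Subtype.ext (Subgroup.mem_centralizer_iff.mp hxc y hy)⟩
    rw [hres, Subgroup.mem_bot] at h1
    exact congrArg Subtype.val h1
  -- the normal closure lies in `L H`
  have hclo : Subgroup.normalClosure (H : Set G) ≤ L ⊔ H := by
    refine (Subgroup.closure_le _).mpr fun x hx => ?_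
    obtain ⟨h, hh, hxh⟩ := Group.mem_conjugatesOfSet_iff.mp hx
    obtain ⟨g, rfl⟩ := isConj_iff.mp hxh
    obtain ⟨o, ho, m, hm, rfl⟩ := Cfsg.Agent.Lib.Coprime.exists_mul_of_mem_sup
      (N := O) (H := Subgroup.normalizer (H : Set G)) (Subgroup.normalizer_eq_top O ▸ le_top)
      (show g ∈ O ⊔ Subgroup.normalizer (H : Set G) by rw [sup_comm, E.sup_eq_top]; trivial)
    have h1 := Subgroup.commutator_mem_commutator (H₁ := O) (H₂ := H) ho (conj_mem hm hh)
    rw [show o * m * h * (o * m)⁻¹ = ⁅o, m * h * m⁻¹⁆ * (m * h * m⁻¹) by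
      rw [commutatorElement_def]; group]
    exact Subgroup.mul_mem_sup h1 (conj_mem hm hh)
  refine le_antisymm ?_ (le_inf Subgroup.subset_normalClosure Subgroup.le_normalizer)
  rintro x ⟨hx, hxn⟩
  obtain ⟨l, hl, h, hh, rfl⟩ := Cfsg.Agent.Lib.Coprime.exists_mul_of_mem_sup hHL (hclo hx)
  have hlN : l ∈ Subgroup.normalizer (H : Set G) :=
    (Subgroup.mul_mem_cancel_right _ (Subgroup.le_normalizer hh)).mp hxn
  have hlC : l ∈ Subgroup.centralizer (H : Set G) := by
    rw [Subgroup.mem_centralizer_iff]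
    intro y hy
    have h2 : y * l * y⁻¹ * l⁻¹ = 1 := Cfsg.Agent.Lib.Coprime.eq_one_of_mem_of_mem hcopH
      (by simpa [mul_assoc] using mul_mem hy (conj_mem hlN (inv_mem hy)))
      (hLO (mul_mem (conj_mem (hHL hy) hl) (inv_mem hl)))
    exact Cfsg.Agent.Lib.LocalEven2.commute_of_commutator_eq_one h2
  have h3 : l ∈ L ⊓ Subgroup.centralizer (H : Set G) := ⟨hl, hlC⟩
  rw [hfix, Subgroup.mem_bot] at h3
  rw [h3, one_mul]
  exact hh

end Cfsg.Agent.S3016
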