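import Cfsg.Statements.S3023
import Cfsg.Agent.Lib.Cores
import Cfsg.Agent.Lib.Solvable.Nilpotent
import Cfsg.Agent.Lib.LocalEven2.CharPLocal
import Cfsg.Agent.Lib.LocalEven2.Embedded

set_option autoImplicit false
open Cfsg

namespace Cfsg.Agent.S3023

/-- Let p be a prime, G a finite group of parabolic characteristic p (every p-local subgroup containing a Sylow p-subgroup of G has characteristic p), S a Sylow p-subgroup of G and G₁ a subnormal subgroup of G. If the centre of S ∩ G₁ is nontrivial and contained in the centre of S, then G₁ has parabolic characteristic p. -/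
theorem result {G : Type*} [Group G] [Finite G] {p : ℕ} [Fact p.Prime] (hG : Cfsg.IsOfParabolicCharacteristic p G) (S : Sylow p G) (G₁ : Subgroup G) (hsn : G₁.IsSubnormal) (hne : ((S : Subgroup G) ⊓ G₁) ⊓ Subgroup.centralizer (((S : Subgroup G) ⊓ G₁ : Subgroup G) : Set G) ≠ ⊥) (hle : ((S : Subgroup G) ⊓ G₁) ⊓ Subgroup.centralizer (((S : Subgroup G) ⊓ G₁ : Subgroup G) : Set G) ≤ (S : Subgroup G) ⊓ Subgroup.centralizer ((S : Subgroup G) : Set G)) : Cfsg.IsOfParabolicCharacteristic p ↥G₁ := by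
  intro R hR hR1 ⟨T, hT⟩
  set L := Subgroup.normalizer (R : Set ↥G₁) with hL
  refine (Lib.LocalEven2.isCharPIn_iff L).mp ?_
  rw [← Lib.LocalEven2.isCharPIn_map G₁.subtype G₁.subtype_injective]
  -- the Sylow subgroup of `G₁`
  set X := (S : Subgroup G) ⊓ G₁ with hX
  have hXp : IsPGroup p ↥X := S.2.to_inf_left
  obtain ⟨T₁, hT₁⟩ : ∃ T₁ : Sylow p ↥G₁, (T₁ : Subgroup ↥G₁) = X.subgroupOf G₁ := by
    refine ⟨(hXp.comap_subtype (K := G₁)).toSylow ?_, rfl⟩
    exact Lib.LocalEven2.not_dvd_relIndex_inf_subnormal S hsn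
  obtain ⟨g, hg⟩ := MulAction.exists_smul_eq ↥G₁ T₁ T
  have hconj : ∀ y : ↥G₁, y ∈ (T : Subgroup ↥G₁) ↔ (g : G)⁻¹ * y * g ∈ X := fun y => by
    rw [← hg, Lib.LocalEven2.mem_smul_sylow, hT₁, Subgroup.mem_subgroupOf]
    rfl
  -- `Z₀ = R ∩ Z(T)`
  set Z₀ : Subgroup ↥G₁ := R ⊓ Subgroup.centralizer ((T : Subgroup ↥G₁) : Set ↥G₁) with hZ₀
  have hRT : R ≤ (T : Subgroup ↥G₁) := by
    have h1 : IsPGroup p ↥((T : Subgroup ↥G₁) ⊔ R) :=
      IsPGroup.to_sup_of_normal_right' T.2 hR hT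
    exact sup_eq_left.mp (T.3 h1 le_sup_left)
  have hZT : Z₀ ≤ (T : Subgroup ↥G₁) := inf_le_left.trans hRT
  have hZne : Z₀ ≠ ⊥ := by
    set RT := R.subgroupOf (T : Subgroup ↥G₁) with hRT'
    haveI : RT.Normal := Subgroup.normal_subgroupOf_of_le_normalizer hT
    haveI : Group.IsNilpotent ↥(T : Subgroup ↥G₁) := T.2.isNilpotent
    have h2 : RT ≠ ⊥ := by
      rw [hRT', Ne, Subgroup.subgroupOf_eq_bot, disjoint_iff, inf_eq_left.mpr hRT]
      exact hR1
    obtain ⟨⟨z, hzR, hzc⟩, hz1⟩ : ∃ z : ↥(RT ⊓ Subgroup.center ↥(T : Subgroup ↥G₁)), z ≠ 1 := by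
      haveI := (Subgroup.nontrivial_iff_ne_bot _).mpr (Lib.Solvable.inf_center_ne_bot (N := RT) h2)
      exact exists_ne 1
    intro h
    have hmem : (z : ↥G₁) ∈ Z₀ := ⟨hzR, Subgroup.mem_centralizer_iff.mpr fun t ht =>
      congrArg Subtype.val (Subgroup.mem_center_iff.mp hzc ⟨t, ht⟩)⟩
    rw [h, Subgroup.mem_bot] at hmem
    exact hz1 (Subtype.ext (Subtype.ext hmem))
  set Z := Z₀.map G₁.subtype with hZdef
  -- `Z` is central in `g S g⁻¹`
  have hZc : ∀ z ∈ Z, ∀ s ∈ ((((g : G) • S : Sylow p G)) : Subgroup G), s * z = z * s := by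
    rintro _ ⟨z, hz, rfl⟩ s hs
    rw [Lib.LocalEven2.mem_smul_sylow] at hs
    have hz' := (hconj z).mp (hZT hz)
    have hzcen : (g : G)⁻¹ * z * g ∈ X ⊓ Subgroup.centralizer (X : Set G) := by
      refine ⟨hz', Subgroup.mem_centralizer_iff.mpr fun y hy => ?_⟩
      have hyG : (g : G) * y * (g : G)⁻¹ ∈ G₁ := G₁.mul_mem (G₁.mul_mem g.2 hy.2) (G₁.inv_mem g.2)
      have hyT : (⟨_, hyG⟩ : ↥G₁) ∈ (T : Subgroup ↥G₁) := (hconj _).mpr (by simpa [mul_assoc] using hy)
      have h : (g : G) * y * (g : G)⁻¹ * z = z * ((g : G) * y * (g : G)⁻¹) :=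
        congrArg Subtype.val (Subgroup.mem_centralizer_iff.mp hz.2 _ hyT)
      calc y * ((g : G)⁻¹ * z * g) = (g : G)⁻¹ * ((g : G) * y * (g : G)⁻¹ * z) * g := by group
        _ = (g : G)⁻¹ * (z * ((g : G) * y * (g : G)⁻¹)) * g := by rw [h]
        _ = _ := by group
    have h2 := Subgroup.mem_centralizer_iff.mp (hle hzcen).2 _ hs
    show s * (z : G) = z * s
    calc s * (z : G) = (g : G) * (((g : G)⁻¹ * s * g) * ((g : G)⁻¹ * z * g)) * (g : G)⁻¹ := by group
      _ = (g : G) * (((g : G)⁻¹ * z * g) * ((g : G)⁻¹ * s * g)) * (g : G)⁻¹ := by rw [h2]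
      _ = _ := by group
  have hZp : IsPGroup p ↥Z := (hR.to_inf_left).map _
  have hSC : ((((g : G) • S : Sylow p G)) : Subgroup G) ≤ Subgroup.centralizer (Z : Set G) :=
    fun s hs => Subgroup.mem_centralizer_iff.mpr fun z hz => (hZc z hz s hs).symm
  have hM₀ : Lib.LocalEven2.IsCharPIn p (Subgroup.normalizer (Z : Set G)) :=
    (Lib.LocalEven2.isCharPIn_iff _).mpr (hG Z hZp
      (by rwa [hZdef, Ne, Subgroup.map_eq_bot_iff_of_injective _ G₁.subtype_injective])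
      ⟨(g : G) • S, hSC.trans (Subgroup.centralizer_le_normalizer _)⟩)
  have hC₀ : Lib.LocalEven2.IsCharPIn p (Subgroup.centralizer (Z : Set G)) := by
    refine hM₀.of_normalized (Subgroup.centralizer_le_normalizer _) ((Lib.LocalEven2.pCoreOf_le _).trans ?_)
    intro n hn
    rw [Subgroup.mem_normalizer_iff]
    have key : ∀ n ∈ Subgroup.normalizer (Z : Set G), ∀ c ∈ Subgroup.centralizer (Z : Set G),
        n * c * n⁻¹ ∈ Subgroup.centralizer (Z : Set G) := by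
      intro n hn c hc
      refine Subgroup.mem_centralizer_iff.mpr fun z hz => ?_
      have h1 := Subgroup.mem_centralizer_iff.mp hc _ ((Subgroup.mem_normalizer_iff''.mp hn z).mp hz)
      calc z * (n * c * n⁻¹) = n * ((n⁻¹ * z * n) * c) * n⁻¹ := by group
        _ = n * (c * (n⁻¹ * z * n)) * n⁻¹ := by rw [h1]
        _ = _ := by group
    refine fun c => ⟨key n hn c, fun hc => ?_⟩
    have := key n⁻¹ (inv_mem hn) _ hc
    simpa [mul_assoc] using this
  set RG := R.map G₁.subtype with hRG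
  have hZR : Z ≤ RG := Subgroup.map_mono inf_le_left
  have hRM : RG ≤ Subgroup.centralizer (Z : Set G) ⊓ G₁ := by
    rintro _ ⟨r, hr, rfl⟩
    refine ⟨Subgroup.mem_centralizer_iff.mpr ?_, r.2⟩
    rintro _ ⟨z, hz, rfl⟩
    exact (congrArg Subtype.val (Subgroup.mem_centralizer_iff.mp hz.2 r (hRT hr))).symm
  have hK := (hC₀.inf_isSubnormal hsn).inf_normalizer (hR.map G₁.subtype) hRM
  have hN : L.map G₁.subtype = G₁ ⊓ Subgroup.normalizer (RG : Set G) := by
    ext x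
    constructor
    · rintro ⟨y, hy, rfl⟩
      refine ⟨y.2, Subgroup.mem_normalizer_iff.mpr fun w => ?_⟩
      constructor
      · rintro ⟨r, hr, rfl⟩
        exact ⟨y * r * y⁻¹, (Subgroup.mem_normalizer_iff.mp hy r).mp hr, rfl⟩
      · rintro ⟨r, hr, hrw⟩
        refine ⟨y⁻¹ * r * y, ?_, ?_⟩
        · exact (Subgroup.mem_normalizer_iff''.mp hy r).mp hr
        · show (y : G)⁻¹ * (r : G) * y = w
          rw [show (r : G) = (y : G) * w * (y : G)⁻¹ from hrw]; group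
    · rintro ⟨hx, hxn⟩
      refine ⟨⟨x, hx⟩, Subgroup.mem_normalizer_iff.mpr fun r => ?_, rfl⟩
      have h := Subgroup.mem_normalizer_iff.mp hxn (r : G)
      constructor
      · intro hr
        obtain ⟨r', hr', he⟩ := h.mp ⟨r, hr, rfl⟩
        rwa [show (⟨x, hx⟩ : ↥G₁) * r * ⟨x, hx⟩⁻¹ = r' from Subtype.ext he.symm]
      · intro hr
        obtain ⟨r', hr', he⟩ := h.mpr ⟨_, hr, rfl⟩
        rwa [show r = r' from Subtype.ext he.symm]
  rw [hN]
  refine hK.of_normal_sub (inf_le_inf_right _ inf_le_right) ?_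
  have hRE : RG ≤ Cfsg.pCoreOf p (G₁ ⊓ Subgroup.normalizer (RG : Set G)) :=
    Lib.LocalEven2.le_pCoreOf (le_inf (Subgroup.map_subtype_le R) Subgroup.le_normalizer)
      (hR.map _) fun n hn y hy => (Subgroup.mem_normalizer_iff.mp hn.2 y).mp hy
  exact fun c hc => ⟨⟨Subgroup.centralizer_le (hZR.trans hRE) hc.2, hc.1.1⟩, hc.1.2⟩

end Cfsg.Agent.S3023
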