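import Cfsg.Statements.S3025
import Cfsg.Agent.Lib.Frobenius.UniqueSubgroup

set_option autoImplicit false
open Cfsg

namespace Cfsg.Agent.S3025

/-- Let F be a finite group and H a nontrivial subgroup of F that is contained in every nontrivial subgroup of F which H normalizes. Then F has a nontrivial normal subgroup N contained in every nontrivial normal subgroup of F (a unique minimal normal subgroup), N is simple, and one of the following holds: C_F(N) = 1; or H = N has prime order p, C_F(N) is cyclic of order a power of p, and F/C_F(N) is cyclic of order dividing p − 1; or H = N has order 2, N is central in F, and F is a generalized quaternion group. -/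
theorem result {F : Type*} [Group F] [Finite F] (H : Subgroup F) (hH : H ≠ ⊥)
    (hmin : ∀ R : Subgroup F, R ≠ ⊥ → H ≤ Subgroup.normalizer (R : Set F) → H ≤ R) :
    ∃ N : Subgroup F, N.Normal ∧ N ≠ ⊥ ∧ (∀ M : Subgroup F, M.Normal → M ≠ ⊥ → N ≤ M) ∧ IsSimpleGroup ↥N ∧
      (Subgroup.centralizer (N : Set F) = ⊥ ∨
       (H = N ∧ (Nat.card N).Prime ∧ IsCyclic ↥(Subgroup.centralizer (N : Set F)) ∧
          (∃ k : ℕ, 1 ≤ k ∧ Nat.card ↥(Subgroup.centralizer (N : Set F)) = Nat.card N ^ k) ∧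
          (∃ g : F, Subgroup.centralizer (N : Set F) ⊔ Subgroup.zpowers g = ⊤) ∧
          (Subgroup.centralizer (N : Set F)).index ∣ Nat.card N - 1) ∨
       (H = N ∧ Nat.card N = 2 ∧ Subgroup.centralizer (N : Set F) = ⊤ ∧
          ∃ k : ℕ, 1 ≤ k ∧ Nonempty (F ≃* QuaternionGroup (2 ^ k)))) := by
  classical
  set N : Subgroup F := sInf {M : Subgroup F | M.Normal ∧ M ≠ ⊥} with hN
  have hmin' : ∀ M : Subgroup F, M.Normal → M ≠ ⊥ → H ≤ M := fun M hM hM1 =>
    hmin M hM1 (by haveI := hM; rw [Subgroup.normalizer_eq_top]; exact le_top)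
  have hHN : H ≤ N := le_sInf fun M hM => hmin' M hM.1 hM.2
  have hN1 : N ≠ ⊥ := fun h => hH (le_bot_iff.mp (h ▸ hHN))
  haveI hNn : N.Normal := ⟨fun x hx g => Subgroup.mem_sInf.mpr fun M hM =>
    hM.1.conj_mem x (Subgroup.mem_sInf.mp hx M hM) g⟩
  have hNmin : ∀ M : Subgroup F, M.Normal → M ≠ ⊥ → N ≤ M := fun M hM hM1 => sInf_le ⟨hM, hM1⟩
  have hsimp : IsSimpleGroup ↥N := by
    haveI : Nontrivial ↥N := (Subgroup.nontrivial_iff_ne_bot N).mpr hN1
    refine ⟨fun M hM => ?_⟩
    by_cases hM1 : M = ⊥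
    · exact Or.inl hM1
    right
    set M' := M.map N.subtype with hM'
    have hall : ∀ g : F, M'.map (MulAut.conj g).toMonoidHom ≠ ⊥ := fun g h => hM1 (by
      rwa [Subgroup.map_eq_bot_iff_of_injective _ (MulAut.conj g).injective, hM',
        Subgroup.map_eq_bot_iff_of_injective _ N.subtype_injective] at h)
    have hnorm : ∀ g : F, H ≤ Subgroup.normalizer ((M'.map (MulAut.conj g).toMonoidHom : Subgroup F) : Set F) := by
      intro g x hx
      have key : ∀ x ∈ H, ∀ y ∈ M'.map (MulAut.conj g).toMonoidHom,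
          x * y * x⁻¹ ∈ M'.map (MulAut.conj g).toMonoidHom := by
        rintro x hx _ ⟨_, ⟨m, hm, rfl⟩, rfl⟩
        have hmem : g⁻¹ * x * g ∈ N := by
          simpa [mul_assoc] using hNn.conj_mem x (hHN hx) g⁻¹
        refine ⟨_, ⟨⟨g⁻¹ * x * g, hmem⟩ * m * ⟨g⁻¹ * x * g, hmem⟩⁻¹,
          hM.conj_mem m hm ⟨g⁻¹ * x * g, hmem⟩, rfl⟩, ?_⟩
        simp [mul_assoc]
      rw [Subgroup.mem_normalizer_iff]
      refine fun y => ⟨fun hy => key x hx y hy, fun hy => ?_⟩
      have := key x⁻¹ (H.inv_mem hx) _ hy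
      simpa [mul_assoc] using this
    rw [eq_top_iff]
    intro x _
    have hx : (x : F) ∈ M' := by
      have hle : N ≤ M' := by
        have hncl : Subgroup.normalClosure (H : Set F) ≤ M' := by
          rw [Subgroup.normalClosure, Subgroup.closure_le]
          intro y hy
          obtain ⟨h, hh, hc⟩ := Group.mem_conjugatesOfSet_iff.mp hy
          obtain ⟨g, rfl⟩ := isConj_iff.mp hc
          obtain ⟨m, hm, hmy⟩ := hmin _ (hall g⁻¹) (hnorm g⁻¹) hh
          have hmy' : g * h * g⁻¹ = m := by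
            rw [← hmy]
            show g * (g⁻¹ * m * g⁻¹⁻¹) * g⁻¹ = m
            group
          rwa [SetLike.mem_coe, hmy']
        refine le_trans ?_ hncl
        exact hNmin _ inferInstance fun h => hH (le_bot_iff.mp (h ▸ Subgroup.le_normalClosure))
      exact hle x.2
    obtain ⟨m, hm, hmx⟩ := hx
    rwa [← N.subtype_injective hmx]
  refine ⟨N, hNn, hN1, hNmin, hsimp, ?_⟩
  by_cases hC : Subgroup.centralizer (N : Set F) = ⊥
  · exact Or.inl hC
  right
  set C := Subgroup.centralizer (N : Set F) with hCdef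
  have hNC : N ≤ C := hNmin C inferInstance hC
  haveI hcomm : IsMulCommutative ↥N := ⟨⟨fun a b => Subtype.ext
    ((Subgroup.mem_centralizer_iff.mp (hNC b.2)) a a.2)⟩⟩
  haveI := hsimp
  have hprime : (Nat.card ↥N).Prime := by
    letI : CommGroup ↥N := { (inferInstance : Group ↥N) with mul_comm := mul_comm' }
    exact (CommGroup.is_simple_iff_prime_card).mp hsimp
  haveI : Fact (Nat.card ↥N).Prime := ⟨hprime⟩
  have hHeq : H = N := Subgroup.eq_of_le_of_card_ge hHN (by
    have hd := Subgroup.card_dvd_of_le hHN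
    rcases (Nat.dvd_prime hprime).mp hd with h | h
    · exact absurd (Subgroup.eq_bot_of_card_eq H h) hH
    · exact h.ge)
  have hsub : ∀ R : Subgroup F, R ≤ C → R ≠ ⊥ → N ≤ R := fun R hR hR1 => hHeq ▸ hmin R hR1 (by
    rw [hHeq]
    exact ((Subgroup.le_centralizer_iff.mp hR)).trans (Subgroup.centralizer_le_normalizer _))
  have huniq : ∀ a : F, a ∈ C → orderOf a = Nat.card ↥N → Subgroup.zpowers a = N := by
    intro a ha ho
    refine (Subgroup.eq_of_le_of_card_ge (hsub _ (Subgroup.zpowers_le.mpr ha) ?_) ?_).symm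
    · rw [Subgroup.zpowers_ne_bot]
      intro h; rw [h, orderOf_one] at ho; exact hprime.ne_one ho.symm
    · rw [Nat.card_zpowers, ho]
  have hCp : IsPGroup (Nat.card ↥N) ↥C := by
    refine IsPGroup.of_card (n := (Nat.card ↥C).primeFactorsList.length) ?_
    refine Nat.eq_prime_pow_of_unique_prime_dvd Nat.card_pos.ne' fun {q} hq hqd => ?_
    haveI := Fact.mk hq
    obtain ⟨a, ha⟩ := exists_prime_orderOf_dvd_card' q hqd
    have ha' : orderOf (a : F) = q := by rw [Subgroup.orderOf_coe, ha]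
    have h := hsub (Subgroup.zpowers (a : F)) (Subgroup.zpowers_le.mpr a.2) (by
      rw [Subgroup.zpowers_ne_bot]
      intro h; rw [h, orderOf_one] at ha'; exact hq.ne_one ha'.symm)
    have hd := Subgroup.card_dvd_of_le h
    rw [Nat.card_zpowers, ha'] at hd
    exact ((Nat.prime_dvd_prime_iff_eq hprime hq).mp hd).symm
  obtain ⟨k, hk⟩ := IsPGroup.iff_card.mp hCp
  have hk1 : 1 ≤ k := by
    by_contra h
    have h0 : k = 0 := by omega
    rw [h0, pow_zero] at hk
    exact hC (Subgroup.eq_bot_of_card_eq C hk)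
  have hun : ∀ a b : ↥C, orderOf a = Nat.card ↥N → orderOf b = Nat.card ↥N → a ∈ Subgroup.zpowers b := by
    intro a b ha hb
    rw [← Subgroup.orderOf_coe] at ha hb
    have h : (a : F) ∈ Subgroup.zpowers (b : F) := by
      rw [huniq _ b.2 hb, ← huniq _ a.2 ha]; exact Subgroup.mem_zpowers _
    obtain ⟨i, hi⟩ := h
    exact ⟨i, Subtype.ext (by simpa using hi)⟩
  -- the quotient by `C`
  let f : F →* MulAut ↥N := MulAut.conjNormal
  have hker : f.ker = C := by
    ext g
    rw [MonoidHom.mem_ker, hCdef, Subgroup.mem_centralizer_iff]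
    constructor
    · intro h y hy
      have h1 : g * y * g⁻¹ = y := congrArg Subtype.val (MulEquiv.congr_fun h ⟨y, hy⟩)
      calc y * g = g * y * g⁻¹ * g := by rw [h1]
        _ = g * y := by group
    · intro h
      ext y
      show g * (y : F) * g⁻¹ = y
      rw [← h y y.2]; group
  haveI : IsCyclic ↥N := isCyclic_of_prime_card rfl
  have hcycAut : IsCyclic (MulAut ↥N) :=
    isCyclic_of_surjective (IsCyclic.mulAutMulEquiv ↥N).symm.toMonoidHom (MulEquiv.surjective _)
  obtain ⟨r, hr⟩ := (isCyclic_iff_exists_zpowers_eq_top (α := ↥f.range)).mp inferInstance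
  obtain ⟨g, hg⟩ := r.2
  have hgen : C ⊔ Subgroup.zpowers g = ⊤ := by
    rw [eq_top_iff]
    intro y _
    obtain ⟨i, hi⟩ : (⟨f y, y, rfl⟩ : ↥f.range) ∈ Subgroup.zpowers r := hr ▸ Subgroup.mem_top _
    have hi' : f g ^ i = f y := by rw [hg]; exact congrArg Subtype.val hi
    have hyk : y * (g ^ i)⁻¹ ∈ C := by
      rw [← hker, MonoidHom.mem_ker, map_mul, map_inv, map_zpow, hi', mul_inv_cancel]
    have := Subgroup.mul_mem_sup hyk (Subgroup.zpow_mem_zpowers g i)
    simpa using this
  have hidx : C.index ∣ Nat.card ↥N - 1 := by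
    rw [← hker, Subgroup.index_ker]
    refine (Subgroup.card_subgroup_dvd_card _).trans ?_
    rw [IsCyclic.card_mulAut, Nat.totient_prime hprime]
  rcases Lib.Frobenius.isCyclic_or_quaternion_of_unique hCp hun with hcyc | ⟨h2, m, ⟨e⟩⟩
  · exact Or.inl ⟨hHeq, hprime, hcyc, ⟨k, hk1, hk⟩, ⟨g, hgen⟩, hidx⟩
  · right
    have hidx1 : C.index = 1 := by
      rw [h2] at hidx
      exact Nat.dvd_one.mp hidx
    have htop : C = ⊤ := Subgroup.index_eq_one.mp hidx1
    refine ⟨hHeq, h2, htop, m + 1, by omega, ⟨?_⟩⟩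
    exact (Subgroup.topEquiv.symm.trans (MulEquiv.subgroupCongr htop.symm)).trans e

end Cfsg.Agent.S3025
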