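import Cfsg.Statements.S3027
import Mathlib.Data.Set.Finite.Lemmas
import Mathlib.GroupTheory.IsSubnormal

set_option autoImplicit false
open Cfsg
open scoped commutatorElement

namespace Cfsg.Agent.S3027

/-- Let G be a finite group and D a normal subgroup of G such that G/D is perfect (that is, G = G′D). Then among the subnormal subgroups B of G with BD = G there is a least one, and it is normal in G. -/
theorem result {G : Type*} [Group G] [Finite G] (D : Subgroup G) [D.Normal] (hperf : ⁅(⊤ : Subgroup G), (⊤ : Subgroup G)⁆ ⊔ D = ⊤) :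
    ∃ B : Subgroup G, B.Normal ∧ B ⊔ D = ⊤ ∧ ∀ B' : Subgroup G, B'.IsSubnormal → B' ⊔ D = ⊤ → B ≤ B' := by
  let Sup : Subgroup G → Prop := fun B => B.IsSubnormal ∧ B ⊔ D = ⊤
  have hdec : ∀ {B : Subgroup G}, B ⊔ D = ⊤ → ∀ g : G, ∃ b ∈ B, ∃ d ∈ D, g = b * d := by
    intro B hB g
    have hg : g ∈ B ⊔ D := hB ▸ Subgroup.mem_top g
    rw [← SetLike.mem_coe, Subgroup.mul_normal] at hg
    obtain ⟨b, hb, d, hd, rfl⟩ := hg
    exact ⟨b, hb, d, hd, rfl⟩
  -- two supplements normalized by each other meet in a supplement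
  have hN : ∀ W X Y : Subgroup G, X ≤ W → Y ≤ W → W ≤ Subgroup.normalizer (X : Set G) →
      W ≤ Subgroup.normalizer (Y : Set G) → X ⊔ D = ⊤ → Y ⊔ D = ⊤ → (X ⊓ Y) ⊔ D = ⊤ := by
    intro W X Y hXW hYW hWX hWY hX hY
    rw [eq_top_iff, ← hperf]
    refine sup_le ?_ le_sup_right
    rw [Subgroup.commutator_le]
    intro g _ h _
    obtain ⟨x, hx, d, hd, rfl⟩ := hdec hX g
    obtain ⟨y, hy, e, he, rfl⟩ := hdec hY h
    have h1 : x * y * x⁻¹ * y⁻¹ ∈ X ⊓ Y := by
      refine ⟨?_, ?_⟩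
      · have := X.mul_mem hx
          ((Subgroup.mem_normalizer_iff.mp (hWX (hYW hy)) x⁻¹).mp (inv_mem hx))
        simpa [mul_assoc] using this
      · exact Y.mul_mem ((Subgroup.mem_normalizer_iff.mp (hWY (hXW hx)) y).mp hy) (inv_mem hy)
    rw [← SetLike.mem_coe, Subgroup.mul_normal]
    refine ⟨_, h1, (x * y * x⁻¹ * y⁻¹)⁻¹ * ⁅x * d, y * e⁆, ?_, by simp [mul_assoc]⟩
    show (x * y * x⁻¹ * y⁻¹)⁻¹ * ⁅x * d, y * e⁆ ∈ D
    rw [← QuotientGroup.eq_one_iff]
    simp only [commutatorElement_def, QuotientGroup.mk_mul, QuotientGroup.mk_inv,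
      (QuotientGroup.eq_one_iff d).mpr hd, (QuotientGroup.eq_one_iff e).mpr he]
    group
  -- two subnormal supplements meet in a supplement
  have hinf : ∀ B C : Subgroup G, B.IsSubnormal → B ⊔ D = ⊤ → C.IsSubnormal → C ⊔ D = ⊤ →
      (B ⊓ C) ⊔ D = ⊤ := by
    intro B C hBs
    induction hBs generalizing C with
    | top => intro _ _ hC; rwa [top_inf_eq]
    | step B K hle _ hBn ih =>
      have hKB := (Subgroup.normal_subgroupOf_iff_le_normalizer hle).mp hBn
      intro hB hCs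
      have hK : K ⊔ D = ⊤ := top_le_iff.mp (hB ▸ sup_le_sup_right hle D)
      induction hCs with
      | top => intro _; rwa [inf_top_eq]
      | step C L hCL hLs hCn ihC =>
        intro hC
        have hLC := (Subgroup.normal_subgroupOf_iff_le_normalizer hCL).mp hCn
        have hL : L ⊔ D = ⊤ := top_le_iff.mp (hC ▸ sup_le_sup_right hCL D)
        have hX : (B ⊓ L) ⊔ D = ⊤ := ihC hL
        have hY : (K ⊓ C) ⊔ D = ⊤ := ih C hK (Subgroup.IsSubnormal.step C L hCL hLs hCn) hC
        have h := hN (K ⊓ L) (B ⊓ L) (K ⊓ C) (inf_le_inf_right L hle) (inf_le_inf_left K hCL)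
          ((inf_le_inf hKB Subgroup.le_normalizer).trans Subgroup.inf_normalizer_le_normalizer_inf)
          ((inf_le_inf Subgroup.le_normalizer hLC).trans Subgroup.inf_normalizer_le_normalizer_inf)
          hX hY
        refine top_le_iff.mp (h ▸ sup_le_sup_right ?_ D)
        exact le_inf (inf_le_left.trans inf_le_left) (inf_le_right.trans inf_le_right)
  obtain ⟨B, ⟨hBs, hB⟩, hmin⟩ := Set.exists_min_image {B : Subgroup G | Sup B}
    (fun B => Nat.card B) (Set.toFinite _) ⟨⊤, Subgroup.IsSubnormal.top, top_sup_eq D⟩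
  have hleast : ∀ B' : Subgroup G, B'.IsSubnormal → B' ⊔ D = ⊤ → B ≤ B' := by
    intro B' hs' hB'
    have h := hmin (B ⊓ B') ⟨hBs.inf hs', hinf B B' hBs hB hs' hB'⟩
    rw [← Subgroup.eq_of_le_of_card_ge (inf_le_left : B ⊓ B' ≤ B) h]
    exact inf_le_right
  refine ⟨B, ⟨fun b hb g => ?_⟩, hB, hleast⟩
  have hs' : (B.comap (MulAut.conj g⁻¹).toMonoidHom).IsSubnormal := hBs.comap _
  have hB' : (B.comap (MulAut.conj g⁻¹).toMonoidHom) ⊔ D = ⊤ := by
    rw [eq_top_iff]
    intro h _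
    obtain ⟨c, hc, d, hd, hcd⟩ := hdec hB (g⁻¹ * h * g)
    have h1 : h = (g * c * g⁻¹) * (g * d * g⁻¹) := by
      calc h = g * (g⁻¹ * h * g) * g⁻¹ := by group
        _ = g * (c * d) * g⁻¹ := by rw [hcd]
        _ = _ := by group
    rw [h1]
    exact mul_mem (Subgroup.mem_sup_left (by simpa [mul_assoc] using hc))
      (Subgroup.mem_sup_right ((inferInstance : D.Normal).conj_mem d hd g))
  have := hleast _ hs' hB' hb
  have h2 : g⁻¹ * b * g ∈ B := by simpa using this
  -- `B` is contained in, hence equal to, each conjugate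
  have h3 : B.map (MulAut.conj g).toMonoidHom = B := by
    refine (Subgroup.eq_of_le_of_card_ge (fun x hx => ?_) ?_).symm
    · have := hleast _ hs' hB' hx
      exact ⟨g⁻¹ * x * g, by simpa using this, by simp [mul_assoc]⟩
    · exact (Nat.card_congr (B.equivMapOfInjective _ (MulAut.conj g).injective).toEquiv).symm.le
  rw [← h3]
  exact ⟨b, hb, rfl⟩

end Cfsg.Agent.S3027
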