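import Cfsg.Statements.S3032
import Cfsg.Agent.Lib.LocalEven2.Supersoluble
import Cfsg.Agent.Lib.FusionControl.Centric

set_option autoImplicit false
open Cfsg

namespace Cfsg.Agent.S3032

/-- The hypothesis on the Sylow subgroups of `E`. -/
def Hyp {G : Type*} [Group G] (E : Subgroup G) : Prop :=
  ∀ (p : ℕ), p.Prime → ∀ P : Subgroup G, P ≤ E → IsPGroup p P → ¬ p ∣ P.relIndex E → ¬ IsCyclic ↥P →
    ∃ D : Subgroup G, D ≤ P ∧ 1 < Nat.card D ∧ Nat.card D < Nat.card P ∧
      ∀ F : Subgroup G, F ≤ P → (Nat.card F = Nat.card D ∨ (Nat.card D = 2 ∧ Nat.card F = 4)) →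
        ∀ g : G, F.map (MulAut.conj g).toMonoidHom ⊓ Subgroup.normalizer (F : Set G) ≤ F

theorem Hyp.exists_hClosed {G : Type*} [Group G] [Finite G] {E : Subgroup G} (h : Hyp E) {p : ℕ}
    [Fact p.Prime] {P : Subgroup G} (hPE : P ≤ E) (hP : IsPGroup p ↥P) (hS : ¬ p ∣ P.relIndex E)
    (hc : ¬ IsCyclic ↥P) :
    ∃ k, 1 ≤ k ∧ p ^ k < Nat.card ↥P ∧ Lib.LocalEven2.HClosed P (p ^ k) := by
  obtain ⟨D, hDP, hD1, hDlt, hD⟩ := h p Fact.out P hPE hP hS hc
  obtain ⟨k, hk⟩ := (hP.to_le hDP).exists_card_eq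
  refine ⟨k, ?_, hk ▸ hDlt, fun F hF hFc g => hD F hF (by rwa [hk]) g⟩
  rcases Nat.eq_zero_or_pos k with h0 | h0
  · rw [hk, h0, pow_zero] at hD1; exact absurd hD1 (lt_irrefl 1)
  · exact h0

/-- The smallest prime gives a normal complement in `E`. -/
theorem npc_subgroup {G : Type*} [Group G] [Finite G] {E : Subgroup G} (h : Hyp E) {p : ℕ}
    [Fact p.Prime] (hdvd : p ∣ Nat.card ↥E) (hmin : ∀ q : ℕ, q.Prime → q ∣ Nat.card ↥E → p ≤ q) :
    Cfsg.HasNormalPComplement p ↥E := by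
  obtain ⟨P⟩ : Nonempty (Sylow p ↥E) := inferInstance
  by_cases hc : IsCyclic ↥(P : Subgroup ↥E)
  · exact Lib.LocalEven2.hasNormalPComplement_of_isCyclic hmin hdvd P hc
  have e := ((P : Subgroup ↥E).equivMapOfInjective E.subtype E.subtype_injective)
  obtain ⟨k, hk1, hkP, hk⟩ := h.exists_hClosed (Subgroup.map_subtype_le _) (P.2.map E.subtype)
    (by rw [Subgroup.relIndex, Subgroup.subgroupOf, Subgroup.comap_map_eq_self_of_injective E.subtype_injective]; exact P.not_dvd_index)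
    (fun h' => hc (e.isCyclic.mpr h'))
  rw [← Nat.card_congr e.toEquiv] at hkP
  refine Lib.LocalEven2.hasNormalPComplement_of_hClosed hmin P hk1 (fun F hF hFc g y hy => ?_) hkP
  obtain ⟨⟨x, hx, rfl⟩, hyN⟩ := hy
  have hmem := hk (F.map E.subtype) (Subgroup.map_mono hF) (by
    rwa [← Nat.card_congr (F.equivMapOfInjective E.subtype E.subtype_injective).toEquiv]) (g : G)
    (show ((MulAut.conj g).toMonoidHom x : G) ∈ _ from ⟨⟨x, ⟨x, hx, rfl⟩, by simp⟩, ?_⟩)
  · obtain ⟨w, hw, hwe⟩ := hmem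
    rw [Subtype.ext (show (w : G) = (((MulAut.conj g).toMonoidHom x : ↥E) : G) from hwe)] at hw
    exact hw
  · refine Lib.LocalEven2.mem_normalizer_of_conj_mem ?_
    rintro _ ⟨w, hw, rfl⟩
    exact ⟨_, (Subgroup.mem_normalizer_iff.mp hyN w).mp hw, by simp⟩

/-- The Sylow subgroup for the largest prime is normal in `G`. -/
theorem exists_normal_sylow {G : Type*} [Group G] [Finite G] : ∀ (n : ℕ) (E : Subgroup G),
    Nat.card ↥E = n → E.Normal → Hyp E → ∀ q : ℕ, q.Prime → q ∣ Nat.card ↥E →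
      (∀ r : ℕ, r.Prime → r ∣ Nat.card ↥E → r ≤ q) →
      ∃ Q : Subgroup G, Q.Normal ∧ Q ≤ E ∧ IsPGroup q ↥Q ∧ ¬ q ∣ Q.relIndex E := by
  intro n
  induction n using Nat.strongRecOn with
  | ind n IH =>
  intro E hn hEn h q hq hqd hmax
  haveI := Fact.mk hq
  set p := (Nat.card ↥E).minFac with hp'
  have hne : Nat.card ↥E ≠ 1 := fun h1 => hq.not_dvd_one (h1 ▸ hqd)
  have hp : p.Prime := Nat.minFac_prime hne
  have hpd : p ∣ Nat.card ↥E := Nat.minFac_dvd _
  haveI := Fact.mk hp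
  have hmin : ∀ r : ℕ, r.Prime → r ∣ Nat.card ↥E → p ≤ r := fun r hr hrd => Nat.minFac_le_of_dvd hr.two_le hrd
  obtain ⟨P, N, hNn, hN⟩ := npc_subgroup h hpd hmin
  haveI := hNn
  by_cases hqp : q = p
  · refine ⟨E, hEn, le_rfl, ?_, ?_⟩
    · rw [IsPGroup.iff_card]
      refine ⟨_, Nat.eq_prime_pow_of_unique_prime_dvd (Nat.card_pos (α := ↥E)).ne' fun {r} hr hrd => ?_⟩
      exact le_antisymm (hmax r hr hrd) (hqp ▸ hmin r hr hrd)
    · rw [Subgroup.relIndex_self]; exact hq.not_dvd_one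
  set K := N.map E.subtype with hK
  have hmem : ∀ x, x ∈ K ↔ x ∈ E ∧ (orderOf x).Coprime p := by
    intro x
    constructor
    · rintro ⟨y, hy, rfl⟩
      exact ⟨y.2, by rw [Subgroup.coe_subtype, Subgroup.orderOf_coe]; exact (Lib.Transfer.mem_iff_coprime hN y).mp hy⟩
    · rintro ⟨hx, hc⟩
      exact ⟨⟨x, hx⟩, (Lib.Transfer.mem_iff_coprime hN _).mpr (by rwa [Subgroup.orderOf_mk]), rfl⟩
  have hKn : K.Normal := ⟨fun x hx g => (hmem _).mpr ⟨hEn.conj_mem x ((hmem x).mp hx).1 g, by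
    rw [show g * x * g⁻¹ = MulAut.conj g x from rfl, MulEquiv.orderOf_eq]
    exact ((hmem x).mp hx).2⟩⟩
  have hKE : K ≤ E := Subgroup.map_subtype_le _
  have hKc : Nat.card ↥K = Nat.card ↥N :=
    (Nat.card_congr (N.equivMapOfInjective _ E.subtype_injective).toEquiv).symm
  obtain ⟨a, ha⟩ := P.2.exists_card_eq
  have hcard : Nat.card ↥E = Nat.card ↥K * p ^ a := by
    rw [hKc, ← ha]; exact hN.card_mul.symm
  have hNco : (Nat.card ↥K).Coprime p := hKc ▸ Lib.Transfer.coprime_card_of_isComplement' hN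
  have hqK : q ∣ Nat.card ↥K := by
    rcases (Nat.Prime.dvd_mul hq).mp (hcard ▸ hqd) with h1 | h1
    · exact h1
    · exact absurd ((Nat.prime_dvd_prime_iff_eq hq hp).mp (hq.dvd_of_dvd_pow h1)) hqp
  have ha0 : a ≠ 0 := by
    intro h0
    rw [h0, pow_zero, mul_one] at hcard
    exact hp.ne_one (Nat.eq_one_of_dvd_coprimes hNco (hcard ▸ hpd) dvd_rfl)
  have hKlt : Nat.card ↥K < n := by
    rw [← hn, hcard]
    exact lt_mul_of_one_lt_right Nat.card_pos (Nat.one_lt_pow ha0 hp.one_lt)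
  have hrel : K.relIndex E = p ^ a := by
    have h1 := Lib.Coprime.relIndex_mul_card hKE
    rw [hcard] at h1
    exact Nat.eq_of_mul_eq_mul_left Nat.card_pos h1
  have hKhyp : Hyp K := by
    intro r hr R hRK hR hRi hRc
    haveI := Fact.mk hr
    by_cases hrp : r = p
    · exfalso
      apply hRc
      have h1 : Nat.card ↥R = 1 := by
        obtain ⟨b, hb⟩ := hR.exists_card_eq
        refine Nat.eq_one_of_dvd_coprimes (hNco.pow_right b) (Subgroup.card_dvd_of_le hRK) ?_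
        rw [hb, hrp]
      rw [Subgroup.card_eq_one.mp h1]
      infer_instance
    refine h r hr R (hRK.trans hKE) hR ?_ hRc
    rw [← Subgroup.relIndex_mul_relIndex R K E hRK hKE, hrel]
    intro hd
    rcases (Nat.Prime.dvd_mul hr).mp hd with h1 | h1
    · exact hRi h1
    · exact hrp ((Nat.prime_dvd_prime_iff_eq hr hp).mp (hr.dvd_of_dvd_pow h1))
  obtain ⟨Q, hQn, hQK, hQ, hQi⟩ := IH _ hKlt K rfl hKn hKhyp q hq hqK fun r hr hrd =>
    hmax r hr (hrd.trans (Subgroup.card_dvd_of_le hKE))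
  refine ⟨Q, hQn, hQK.trans hKE, hQ, ?_⟩
  rw [← Subgroup.relIndex_mul_relIndex Q K E hQK hKE, hrel]
  intro hd
  rcases (Nat.Prime.dvd_mul hq).mp hd with h1 | h1
  · exact hQi h1
  · exact hqp ((Nat.prime_dvd_prime_iff_eq hq hp).mp (hq.dvd_of_dvd_pow h1))

/-- The hypothesis passes to the quotient by a normal Sylow subgroup of `E`. -/
theorem hyp_quotient {G : Type*} [Group G] [Finite G] {E Q : Subgroup G} [Q.Normal] (h : Hyp E)
    {q : ℕ} [Fact q.Prime] (hQE : Q ≤ E) (hQ : IsPGroup q ↥Q) (hQi : ¬ q ∣ Q.relIndex E) :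
    Hyp (E.map (QuotientGroup.mk' Q)) := by
  intro r hr R hRE hR hRi hRc
  haveI := Fact.mk hr
  set π := QuotientGroup.mk' Q
  have hπ : Function.Surjective π := QuotientGroup.mk'_surjective Q
  have hQπ : ∀ x, x ∈ Q ↔ π x = 1 := fun x => (QuotientGroup.eq_one_iff x).symm
  set M := R.comap π
  have hQM : Q ≤ M := fun x hx => by
    rw [Subgroup.mem_comap, (hQπ x).mp hx]; exact one_mem _
  have hME : M ≤ E := by
    intro x hx
    obtain ⟨y, hy, hyx⟩ := hRE hx
    have : y⁻¹ * x ∈ Q := (hQπ _).mpr (by rw [map_mul, map_inv, hyx, inv_mul_cancel])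
    have h1 := mul_mem hy (hQE this)
    rwa [mul_inv_cancel_left] at h1
  have hcardE : Nat.card ↥E = Nat.card ↥(E.map π) * Nat.card ↥Q := by
    have h1 := Subgroup.card_mul_index ((π.comp E.subtype).ker)
    rw [Subgroup.index_ker] at h1
    rw [MonoidHom.range_eq_map, ← Subgroup.map_map, ← MonoidHom.range_eq_map, Subgroup.range_subtype,
      ← MonoidHom.comap_ker, QuotientGroup.ker_mk', ← Subgroup.subgroupOf,
      Nat.card_congr (Subgroup.subgroupOfEquivOfLe hQE).toEquiv] at h1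
    rw [← h1, mul_comm]
  have hrq : r ≠ q := by
    intro hrq
    apply hRc
    have hrel : Q.relIndex E = Nat.card ↥(E.map π) := by
      have h2 := Lib.Coprime.relIndex_mul_card hQE
      rw [hcardE, mul_comm] at h2
      exact Nat.eq_of_mul_eq_mul_right Nat.card_pos h2
    obtain ⟨b, hb⟩ := hR.exists_card_eq
    rcases Nat.eq_zero_or_pos b with h0 | h0
    · rw [Subgroup.card_eq_one.mp (show Nat.card ↥R = 1 by rw [hb, h0, pow_zero])]
      infer_instance
    · exfalso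
      apply hQi
      rw [hrel, ← hrq]
      exact (dvd_pow_self r h0.ne').trans (hb ▸ Subgroup.card_dvd_of_le hRE)
  obtain ⟨S⟩ : Nonempty (Sylow r ↥M) := inferInstance
  set P := (S : Subgroup ↥M).map M.subtype
  have hPM : P ≤ M := Subgroup.map_subtype_le _
  have hPp : IsPGroup r ↥P := S.2.map _
  have hcop : (Nat.card ↥Q).Coprime (Nat.card ↥P) := by
    obtain ⟨a, ha⟩ := hQ.exists_card_eq
    obtain ⟨b, hb⟩ := hPp.exists_card_eq
    rw [ha, hb]
    exact Nat.coprime_pow_primes a b Fact.out hr hrq.symm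
  have hinj : ∀ x ∈ P, π x = 1 → x = 1 := fun x hx h1 =>
    Lib.Coprime.eq_one_of_mem_of_mem hcop ((hQπ x).mpr h1) hx
  have hcardM : Nat.card ↥M = Nat.card ↥R * Nat.card ↥Q := by
    have h1 := Subgroup.card_mul_index ((π.comp M.subtype).ker)
    rw [Subgroup.index_ker] at h1
    rw [MonoidHom.range_eq_map, ← Subgroup.map_map, ← MonoidHom.range_eq_map, Subgroup.range_subtype,
      Subgroup.map_comap_eq_self_of_surjective hπ, ← MonoidHom.comap_ker, QuotientGroup.ker_mk',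
      ← Subgroup.subgroupOf, Nat.card_congr (Subgroup.subgroupOfEquivOfLe hQM).toEquiv] at h1
    rw [← h1, mul_comm]
  have hPR : P.map π = R := by
    refine Subgroup.eq_of_le_of_card_ge ?_ ?_
    · rw [← Subgroup.map_comap_eq_self_of_surjective hπ R]
      exact Subgroup.map_mono hPM
    · have hi : Nat.card ↥(P.map π) = Nat.card ↥P := by
        refine (Nat.card_congr (Equiv.ofBijective (fun x : ↥P => (⟨π x, _, x.2, rfl⟩ : ↥(P.map π)))
          ⟨fun a b hab => Subtype.ext ?_, fun ⟨_, x, hx, hxy⟩ => ⟨⟨x, hx⟩, Subtype.ext hxy⟩⟩)).symm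
        have h1 : π (a : G) = π b := congrArg Subtype.val hab
        exact mul_inv_eq_one.mp (hinj _ (mul_mem a.2 (inv_mem b.2))
          (by rw [map_mul, map_inv, h1, mul_inv_cancel]))
      rw [hi, show Nat.card ↥P = Nat.card ↥(S : Subgroup ↥M) from
        (Nat.card_congr ((S : Subgroup ↥M).equivMapOfInjective _ M.subtype_injective).toEquiv).symm]
      obtain ⟨b, hb⟩ := hR.exists_card_eq
      rw [hb]
      exact Nat.le_of_dvd Nat.card_pos (S.pow_dvd_card_of_pow_dvd_card (by rw [hcardM, hb]; exact dvd_mul_right _ _))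
  have hPc : Nat.card ↥P = Nat.card ↥R := by
    rw [← hPR]
    refine Nat.card_congr (Equiv.ofBijective (fun x : ↥P => (⟨π x, _, x.2, rfl⟩ : ↥(P.map π)))
      ⟨fun a b hab => Subtype.ext ?_, fun ⟨_, x, hx, hxy⟩ => ⟨⟨x, hx⟩, Subtype.ext hxy⟩⟩)
    have h1 : π (a : G) = π b := congrArg Subtype.val hab
    exact mul_inv_eq_one.mp (hinj _ (mul_mem a.2 (inv_mem b.2))
      (by rw [map_mul, map_inv, h1, mul_inv_cancel]))
  have hPi : ¬ r ∣ P.relIndex E := by
    intro hd
    have h1 := Lib.Coprime.relIndex_mul_card (hPM.trans hME)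
    have h2 := Lib.Coprime.relIndex_mul_card hRE
    rw [hcardE, ← h2, hPc] at h1
    have h3 : P.relIndex E = R.relIndex (E.map π) * Nat.card ↥Q := by
      apply Nat.eq_of_mul_eq_mul_left (Nat.card_pos (α := ↥R))
      rw [h1]; ring
    rw [h3] at hd
    rcases (Nat.Prime.dvd_mul hr).mp hd with h4 | h4
    · exact hRi h4
    · obtain ⟨a, ha⟩ := hQ.exists_card_eq
      rw [ha] at h4
      exact hrq ((Nat.prime_dvd_prime_iff_eq hr Fact.out).mp (hr.dvd_of_dvd_pow h4))
  have hPcyc : ¬ IsCyclic ↥P := fun hc => hRc (by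
    rw [← hPR]
    exact isCyclic_of_surjective (π.subgroupMap P) (π.subgroupMap_surjective P))
  obtain ⟨D, hDP, hD1, hDlt, hD⟩ := h r hr P (hPM.trans hME) hPp hPi hPcyc
  have hmapcard : ∀ F : Subgroup G, F ≤ P → Nat.card ↥(F.map π) = Nat.card ↥F := by
    intro F hF
    refine (Nat.card_congr (Equiv.ofBijective (fun x : ↥F => (⟨π x, _, x.2, rfl⟩ : ↥(F.map π)))
      ⟨fun a b hab => Subtype.ext ?_, fun ⟨_, x, hx, hxy⟩ => ⟨⟨x, hx⟩, Subtype.ext hxy⟩⟩)).symm
    have h1 : π (a : G) = π b := congrArg Subtype.val hab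
    exact mul_inv_eq_one.mp (hinj _ (mul_mem (hF a.2) (inv_mem (hF b.2)))
      (by rw [map_mul, map_inv, h1, mul_inv_cancel]))
  refine ⟨D.map π, hPR ▸ Subgroup.map_mono hDP, (hmapcard D hDP).symm ▸ hD1, by
    rw [hmapcard D hDP, ← hPc]; exact hDlt, fun F hF hFc γ => ?_⟩
  set F₀ := P ⊓ F.comap π
  have hF₀ : F₀.map π = F := by
    refine le_antisymm (Subgroup.map_le_iff_le_comap.mpr inf_le_right) fun x hx => ?_
    obtain ⟨y, hy, rfl⟩ := hPR.ge (hF hx)
    exact ⟨y, ⟨hy, hx⟩, rfl⟩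
  have hF₀c : Nat.card ↥F₀ = Nat.card ↥F := by rw [← hmapcard F₀ inf_le_left, hF₀]
  obtain ⟨g, rfl⟩ := hπ γ
  rintro _ ⟨⟨fb, hfb, rfl⟩, hN⟩
  obtain ⟨f, hf, rfl⟩ := hF₀.ge hfb
  set y := g * f * g⁻¹ with hy
  have hyπ : (MulAut.conj (π g)).toMonoidHom (π f) = π y := by simp [y]
  rw [hyπ] at hN ⊢
  -- the preimage `F₀ Q`
  set L := F.comap π
  have hyL : y ∈ Subgroup.normalizer (L : Set G) := Lib.LocalEven2.mem_normalizer_of_conj_mem fun x hx => by
    show π _ ∈ F
    rw [map_mul, map_mul, map_inv]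
    exact (Subgroup.mem_normalizer_iff.mp hN _).mp hx
  have hF₀L : F₀ ≤ L := inf_le_right
  have hLi : ¬ r ∣ F₀.relIndex L := by
    intro hd
    have hdvd : F₀.relIndex L ∣ Nat.card ↥Q := by
      have hsup : L = F₀ ⊔ Q := by
        rw [← Subgroup.comap_map_eq_self (H := F₀ ⊔ Q) (f := π) (by rw [QuotientGroup.ker_mk']; exact le_sup_right),
          Subgroup.map_sup, hF₀, (Subgroup.map_eq_bot_iff Q).mpr (QuotientGroup.ker_mk' Q).ge, sup_bot_eq]
      rw [hsup]
      have h5 := Lib.Coprime.card_sup_mul_card_inf (N := Q) (H := F₀)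
        (by rw [Subgroup.normalizer_eq_top]; exact le_top)
      rw [Lib.Coprime.inf_eq_bot_of_coprime_card (hcop.coprime_dvd_right (Subgroup.card_dvd_of_le inf_le_left)),
        Subgroup.card_bot, mul_one, sup_comm] at h5
      have h6 := Lib.Coprime.relIndex_mul_card (show F₀ ≤ F₀ ⊔ Q from le_sup_left)
      rw [h5, mul_comm] at h6
      exact dvd_of_eq (Nat.eq_of_mul_eq_mul_right Nat.card_pos h6)
    obtain ⟨a, ha⟩ := hQ.exists_card_eq
    exact hrq ((Nat.prime_dvd_prime_iff_eq hr Fact.out).mp (hr.dvd_of_dvd_pow (ha ▸ hd.trans hdvd)))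
  have hF₀p : IsPGroup r ↥F₀ := hPp.to_le inf_le_left
  obtain ⟨l, hl, hly⟩ := Lib.FusionControl.exists_frattini hF₀L hF₀p hLi hyL
  -- `y` is conjugate under `Q` into `N(F₀)`
  set NF := Subgroup.normalizer (F₀ : Set G)
  have hNQ : NF ≤ Subgroup.normalizer (Q : Set G) := by rw [Subgroup.normalizer_eq_top]; exact le_top
  have hyK : y ∈ Q ⊔ NF := by
    have hlK : l ∈ Q ⊔ NF := by
      obtain ⟨f', hf', hfe⟩ := hF₀.ge (show π l ∈ F from hl)
      have : l * f'⁻¹ ∈ Q := (hQπ _).mpr (by rw [map_mul, map_inv, hfe, mul_inv_cancel])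
      have h1 := mul_mem (Subgroup.mem_sup_left (T := NF) this)
        (Subgroup.mem_sup_right (S := Q) (Subgroup.le_normalizer hf'))
      rwa [inv_mul_cancel_right] at h1
    have h1 := mul_mem (inv_mem hlK) (Subgroup.mem_sup_right (S := Q) hly)
    rwa [inv_mul_cancel_left] at h1
  obtain ⟨T⟩ : Nonempty (Sylow r ↥NF) := inferInstance
  have hTi : ¬ r ∣ ((T : Subgroup ↥NF).map NF.subtype).relIndex (Q ⊔ NF) := by
    rw [← Subgroup.relIndex_mul_relIndex _ NF (Q ⊔ NF) (Subgroup.map_subtype_le _) le_sup_right]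
    intro hd
    rcases (Nat.Prime.dvd_mul hr).mp hd with h4 | h4
    · rw [Subgroup.relIndex, Subgroup.subgroupOf,
        Subgroup.comap_map_eq_self_of_injective NF.subtype_injective] at h4
      exact T.not_dvd_index h4
    · have h5 := Lib.Coprime.card_sup_mul_card_inf hNQ
      have h6 := Lib.Coprime.relIndex_mul_card (le_sup_right : NF ≤ Q ⊔ NF)
      have h7 : NF.relIndex (Q ⊔ NF) * Nat.card ↥(Q ⊓ NF) = Nat.card ↥Q := by
        apply Nat.eq_of_mul_eq_mul_right (Nat.card_pos (α := ↥NF))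
        rw [← h5, ← h6]; ring
      obtain ⟨a, ha⟩ := hQ.exists_card_eq
      exact hrq ((Nat.prime_dvd_prime_iff_eq hr Fact.out).mp
        (hr.dvd_of_dvd_pow (ha ▸ h4.trans (Dvd.intro _ h7))))
  have hfP : IsPGroup r ↥(Subgroup.zpowers y) := by
    have hfz : IsPGroup r ↥(Subgroup.zpowers f) :=
      hF₀p.to_le (Subgroup.zpowers_le.mpr hf)
    have := hfz.map (MulAut.conj g).toMonoidHom
    rwa [MonoidHom.map_zpowers] at this
  obtain ⟨c, hc, hcle⟩ := Lib.FusionControl.exists_cj_le_of_not_dvd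
    ((Subgroup.map_subtype_le _).trans le_sup_right) (T.2.map _) hTi (Subgroup.zpowers_le.mpr hyK) hfP
  have hcy : c * y * c⁻¹ ∈ NF :=
    Subgroup.map_subtype_le _ (hcle (Lib.FusionControl.conj_mem_cj (Subgroup.mem_zpowers y)))
  obtain ⟨c₁, hc₁, n₁, hn₁, he⟩ := Lib.Coprime.exists_mul_of_mem_sup hNQ (inv_mem hc)
  replace he : c₁ * n₁ = c⁻¹ := by
    first | exact he | exact he.symm
  have hq1 : c₁⁻¹ * y * c₁ ∈ NF := by
    have hc' : c = n₁⁻¹ * c₁⁻¹ := by rw [← mul_inv_rev, he, inv_inv]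
    have h1 := mul_mem (mul_mem hn₁ hcy) (inv_mem hn₁)
    rw [hc'] at h1
    convert h1 using 1
    group
  have hmem : c₁⁻¹ * y * c₁ ∈ F₀ := by
    have hc' : Nat.card ↥F₀ = Nat.card ↥D ∨ (Nat.card ↥D = 2 ∧ Nat.card ↥F₀ = 4) := by
      rw [hF₀c, ← hmapcard D hDP]; exact hFc
    exact hD F₀ inf_le_left hc' (c₁⁻¹ * g)
      ⟨⟨f, hf, by simp [y, mul_assoc]⟩, hq1⟩
  have h1 : π (c₁⁻¹ * y * c₁) ∈ F := hF₀ ▸ Subgroup.mem_map_of_mem π hmem
  rw [map_mul, map_mul, map_inv, (hQπ c₁).mp hc₁, inv_one, one_mul, mul_one] at h1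
  exact h1

universe u

theorem main : ∀ (n : ℕ) (G : Type u) [Group G] [Finite G], Nat.card G = n →
    ∀ (E : Subgroup G) [E.Normal], Cfsg.IsSupersolvable (G ⧸ E) → Hyp E → Cfsg.IsSupersolvable G := by
  intro n
  induction n using Nat.strongRecOn with
  | ind n IH =>
  intro G _ _ hn E _ hGE h
  by_cases hE : E = ⊥
  · subst hE
    exact Lib.Solvable.isSupersolvable_map (QuotientGroup.quotientBot (G := G)).toMonoidHom
      (QuotientGroup.quotientBot (G := G)).surjective hGE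
  haveI : Nontrivial ↥E := (Subgroup.nontrivial_iff_ne_bot E).mpr hE
  obtain ⟨q, hq, hqd, hmax⟩ := Lib.Solvable.Huppert.exists_max_prime (G := ↥E)
  haveI := Fact.mk hq
  obtain ⟨Q, hQn, hQE, hQ, hQi⟩ := exists_normal_sylow _ E rfl inferInstance h q hq hqd
    fun r hr hrd => hmax r hr hrd
  haveI := hQn
  have hQ0 : Q ≠ ⊥ := by
    intro h0
    apply hQi
    rwa [h0, Subgroup.relIndex_bot_left]
  set π := QuotientGroup.mk' Q
  have hπ : Function.Surjective π := QuotientGroup.mk'_surjective Q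
  haveI : (E.map π).Normal := Subgroup.Normal.map inferInstance π hπ
  have hGQ : Cfsg.IsSupersolvable (G ⧸ Q) := by
    refine IH (Nat.card (G ⧸ Q)) ?_ (G ⧸ Q) rfl (E.map π) ?_ (hyp_quotient h hQE hQ hQi)
    · rw [← hn, Subgroup.card_eq_card_quotient_mul_card_subgroup Q]
      exact lt_mul_of_one_lt_right Nat.card_pos (Finite.one_lt_card_iff_nontrivial.mpr
        ((Subgroup.nontrivial_iff_ne_bot Q).mpr hQ0))
    · refine Lib.Solvable.isSupersolvable_map (QuotientGroup.lift E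
        ((QuotientGroup.mk' (E.map π)).comp π) fun x hx => by
          rw [MonoidHom.mem_ker, MonoidHom.comp_apply, QuotientGroup.mk'_apply, QuotientGroup.eq_one_iff]
          exact Subgroup.mem_map_of_mem π hx) ?_ hGE
      intro y
      obtain ⟨y', rfl⟩ := QuotientGroup.mk'_surjective (E.map π) y
      obtain ⟨a, rfl⟩ := hπ y'
      exact ⟨(a : G ⧸ E), rfl⟩
  by_cases hQc : IsCyclic ↥Q
  · exact Lib.Solvable.isSupersolvable_of_cyclic_normal Q hQc hGQ
  obtain ⟨k, hk1, hkQ, hk⟩ := h.exists_hClosed hQE hQ hQi hQc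
  have hnorm : ∀ F : Subgroup G, F ≤ Q → (Nat.card ↥F = q ^ k ∨ (q ^ k = 2 ∧ Nat.card ↥F = 4)) →
      ∀ g : G, ∀ x ∈ F, g * x * g⁻¹ ∈ F := fun F hF hc g x hx =>
    hk.conj_mem hQ hF hc hx (hQn.conj_mem x (hF hx) g)
  refine Lib.LocalEven2.isSupersolvable_of_pGroup_action _ G rfl Q hQ hGQ fun g hg hgc => ?_
  by_cases hbig : ∃ x ∈ Q, q ^ k < orderOf x
  · obtain ⟨x, hx, hxo⟩ := hbig
    obtain ⟨m, hm⟩ := hQ.exists_card_eq
    obtain ⟨i, -, hie⟩ := (Nat.dvd_prime_pow hq).mp (hm ▸ Subgroup.orderOf_dvd_natCard Q hx)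
    rw [hie] at hxo
    obtain ⟨v, hv, hvo⟩ := Lib.LocalEven2.exists_pow_orderOf hie
      ((Nat.pow_lt_pow_iff_right hq.one_lt).mp hxo).le hq
    have hvQ : v ∈ Q := Subgroup.zpowers_le.mpr hx hv
    have hfam : Lib.LocalEven2.NormalFamily Q g (q ^ k) := fun F hF hc =>
      ⟨Lib.LocalEven2.mem_normalizer_of_conj_mem (hnorm F hF hc g),
        hk.le_normalizer hQ hF hc⟩
    refine Lib.LocalEven2.mem_centralizer_of_big hQ hgc
      (by rw [Subgroup.normalizer_eq_top]; trivial) hk1 hfam hvQ hvo ?_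
    have hzC : ∀ a : G, a * v * a⁻¹ ∈ Subgroup.zpowers v := fun a =>
      hnorm _ (Subgroup.zpowers_le.mpr hvQ) (Or.inl (by rw [Nat.card_zpowers, hvo])) a v
        (Subgroup.mem_zpowers v)
    rcases hg with hg | ⟨a, rfl⟩
    · haveI : (Subgroup.zpowers v).Normal := ⟨fun y hy a =>
        hnorm _ (Subgroup.zpowers_le.mpr hvQ) (Or.inl (by rw [Nat.card_zpowers, hvo])) a y hy⟩
      have h1 := Lib.Solvable.commutator_le_centralizer_of_isCyclic (Subgroup.zpowers v)
        (Subgroup.isCyclic_zpowers v) hg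
      exact (Subgroup.mem_centralizer_iff.mp h1 _ (pow_mem (Subgroup.mem_zpowers v) _)).symm
    · refine Lib.LocalEven2.commute_pow_orderP ?_ (Lib.LocalEven2.conj_pow_mem (hzC a) _)
      rw [← pow_mul, ← pow_succ, Nat.sub_add_cancel hk1, ← hvo, pow_orderOf_eq_one]
  · push Not at hbig
    haveI := hQ.isNilpotent
    refine Subgroup.zpowers_le.mp (Lib.Coprime.le_centralizer_of_frattini ?_ ?_)
    · obtain ⟨j, hj⟩ := IsPGroup.iff_card.mp (hQ.to_subgroup (frattini ↥Q))
      rw [Nat.card_zpowers, hj]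
      exact Nat.Coprime.pow_right j hgc
    · rintro _ ⟨i, rfl⟩ w hw
      refine ⟨⟨g ^ i * w * (g ^ i)⁻¹ * w⁻¹, mul_mem (hQn.conj_mem w hw _) (inv_mem hw)⟩, ?_, rfl⟩
      change _ ∈ Order.radical (Subgroup ↥Q)
      simp only [Order.radical, Subgroup.mem_iInf]
      intro M hM
      obtain ⟨hMn, hMi⟩ := Lib.Cores.prime_index_of_isCoatom hM
      obtain ⟨b, hb⟩ := hQ.index M
      rw [hb] at hMi
      rw [Nat.Prime.eq_one_of_pow hMi, pow_one] at hb
      set M' := M.map Q.subtype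
      have hM'Q : M' ≤ Q := Subgroup.map_subtype_le _
      have hkM : q ^ k ≤ Nat.card ↥M' := by
        obtain ⟨m, hm⟩ := (hQ.to_le hM'Q).exists_card_eq
        have hc : Nat.card ↥Q = q * Nat.card ↥M' := by
          rw [← Nat.card_congr (M.equivMapOfInjective _ Q.subtype_injective).toEquiv,
            ← M.card_mul_index, hb, mul_comm]
        rw [hc, hm, ← pow_succ'] at hkQ
        rw [hm]
        exact Nat.pow_le_pow_right hq.pos (Nat.lt_succ_iff.mp ((Nat.pow_lt_pow_iff_right hq.one_lt).mp hkQ))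
      haveI hM'n : M'.Normal := ⟨fun x hx a => by
        obtain ⟨F, hFM, hxF, hFc⟩ := Lib.LocalEven2.exists_member_le (hQ.to_le hM'Q) hkM hx
          (hbig x (hM'Q hx))
        exact hFM (hnorm F (hFM.trans hM'Q) (Or.inl hFc) a x hxF)⟩
      set ρ := QuotientGroup.mk' M'
      have hρ : Function.Surjective ρ := QuotientGroup.mk'_surjective M'
      haveI : (Q.map ρ).Normal := Subgroup.Normal.map inferInstance ρ hρ
      have hQc : Nat.card ↥(Q.map ρ) = q := by
        have h1 := Subgroup.card_mul_index ((ρ.comp Q.subtype).ker)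
        rw [Subgroup.index_ker] at h1
        rw [MonoidHom.range_eq_map, ← Subgroup.map_map, ← MonoidHom.range_eq_map, Subgroup.range_subtype,
          ← MonoidHom.comap_ker, QuotientGroup.ker_mk',
          Subgroup.comap_map_eq_self_of_injective Q.subtype_injective,
          ← M.card_mul_index, hb] at h1
        exact Nat.eq_of_mul_eq_mul_left Nat.card_pos h1
      haveI hcyc : IsCyclic ↥(Q.map ρ) := isCyclic_of_prime_card hQc
      have hgen : ∀ z ∈ Q.map ρ, z ≠ 1 → Subgroup.zpowers z = Q.map ρ := by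
        intro z hz hz1
        refine Subgroup.eq_of_le_of_card_ge (Subgroup.zpowers_le.mpr hz) ?_
        rw [hQc, Nat.card_zpowers]
        refine Nat.le_of_dvd (orderOf_pos z) (dvd_of_eq ?_)
        rw [← Subgroup.orderOf_mk z hz]
        exact (((Nat.dvd_prime hq).mp (hQc ▸ orderOf_dvd_natCard (⟨z, hz⟩ : ↥(Q.map ρ)))).resolve_left
          (fun h => hz1 (congrArg Subtype.val (orderOf_eq_one_iff.mp h)))).symm
      have hcomm : ρ g * ρ w = ρ w * ρ g := by
        rcases hg with hg | ⟨a, rfl⟩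
        · have h1 : ρ g ∈ commutator (G ⧸ M') := by
            have h2 := Subgroup.mem_map_of_mem ρ hg
            rw [commutator_def, Subgroup.map_commutator, Subgroup.map_top_of_surjective ρ hρ] at h2
            rwa [commutator_def]
          exact (Subgroup.mem_centralizer_iff.mp
            (Lib.Solvable.commutator_le_centralizer_of_isCyclic (Q.map ρ) hcyc h1) _
            (Subgroup.mem_map_of_mem ρ hw)).symm
        · rw [map_pow]
          by_cases hw1 : ρ w = 1
          · rw [hw1]; simp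
          refine Lib.LocalEven2.commute_pow_orderP (p := q) ?_ ?_
          · have h1 : orderOf (ρ w) = q := by
              rw [← hQc, ← hgen _ (Subgroup.mem_map_of_mem ρ hw) hw1, Nat.card_zpowers]
            rw [← h1, pow_orderOf_eq_one]
          · rw [hgen _ (Subgroup.mem_map_of_mem ρ hw) hw1]
            exact Subgroup.Normal.conj_mem inferInstance _ (Subgroup.mem_map_of_mem ρ hw) _
      have h2 : ρ (g ^ i * w * (g ^ i)⁻¹ * w⁻¹) = 1 := by
        rw [map_mul, map_mul, map_mul, map_inv, map_inv, map_zpow,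
          ((show Commute (ρ g) (ρ w) from hcomm).zpow_left i).eq, mul_inv_cancel_right, mul_inv_cancel]
      obtain ⟨y, hy, hye⟩ := (QuotientGroup.eq_one_iff _).mp h2
      rwa [show (⟨g ^ i * w * (g ^ i)⁻¹ * w⁻¹, mul_mem (hQn.conj_mem w hw _) (inv_mem hw)⟩ : ↥Q) = y from
        Subtype.ext hye.symm]

/-- Let G be a finite group and E a normal subgroup with G/E supersolvable. Suppose that for every prime p and every non-cyclic Sylow p-subgroup P of E there is a subgroup D of P with 1 < |D| < |P| such that every subgroup F of P of order |D|, and also every subgroup F of P of order 4 when |D| = 2, satisfies g F g⁻¹ ∩ N_G(F) ≤ F for all g ∈ G. Then G is supersolvable. -/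
theorem result {G : Type*} [Group G] [Finite G] (E : Subgroup G) [E.Normal] (hGE : Cfsg.IsSupersolvable (G ⧸ E))
    (h : ∀ (p : ℕ), p.Prime → ∀ P : Subgroup G, P ≤ E → IsPGroup p P → ¬ p ∣ P.relIndex E → ¬ IsCyclic ↥P →
      ∃ D : Subgroup G, D ≤ P ∧ 1 < Nat.card D ∧ Nat.card D < Nat.card P ∧
        ∀ F : Subgroup G, F ≤ P → (Nat.card F = Nat.card D ∨ (Nat.card D = 2 ∧ Nat.card F = 4)) →
          ∀ g : G, F.map (MulAut.conj g).toMonoidHom ⊓ Subgroup.normalizer (F : Set G) ≤ F) :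
    Cfsg.IsSupersolvable G := by
  exact main _ G rfl E hGE h

end Cfsg.Agent.S3032
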