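import Cfsg.Statements.S3036
import Cfsg.Agent.Lib.LocalEven2.CD

set_option autoImplicit false
open Cfsg
open scoped Pointwise

namespace Cfsg.Agent.S3036

/-- Let G be a finite non-abelian simple group and A a proper nontrivial subgroup of G. Then |G| > |A| · |C_G(A)|. In particular |G| > |A|² for every nontrivial abelian subgroup A of G. -/
theorem result {G : Type*} [Group G] [Finite G] [IsSimpleGroup G] (hG : ¬ IsMulCommutative G) (A : Subgroup G) (hA1 : A ≠ ⊥) (hA2 : A ≠ ⊤) : Nat.card A * Nat.card ↥(Subgroup.centralizer (A : Set G)) < Nat.card G := by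
  have hm : ∀ R : Subgroup G, IsCentralizerLarge R → ∀ e : G ≃* G,
      IsCentralizerLarge (R.map e.toMonoidHom) := by
    intro R hR e
    have h1 := Nat.card_congr (R.equivMapOfInjective e.toMonoidHom e.injective).toEquiv
    have hC : (Subgroup.centralizer (R : Set G)).map e.toMonoidHom =
        Subgroup.centralizer ((R.map e.toMonoidHom : Subgroup G) : Set G) := by
      ext y
      obtain ⟨y, rfl⟩ := e.surjective y
      simp only [Subgroup.mem_map, Subgroup.mem_centralizer_iff, Subgroup.coe_map, Set.forall_mem_image,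
        MulEquiv.coe_toMonoidHom]
      constructor
      · rintro ⟨z, hz, hzy⟩ r hr
        rw [← hzy, ← map_mul, ← map_mul, hz r hr]
      · intro h
        exact ⟨y, fun r hr => e.injective (by rw [map_mul, map_mul]; exact h hr), rfl⟩
    have h2 := Nat.card_congr
      ((Subgroup.centralizer (R : Set G)).equivMapOfInjective e.toMonoidHom e.injective).toEquiv
    rw [hC] at h2
    unfold IsCentralizerLarge at hR ⊢
    rw [← h1, ← h2]
    exact hR
  have hnormal : ∀ M : Subgroup G, (∀ g : G, M.map (MulAut.conj g).toMonoidHom ≤ M) →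
      M = ⊥ ∨ M = ⊤ := fun M hM =>
    (⟨fun n hn g => hM g ⟨n, hn, rfl⟩⟩ : M.Normal).eq_bot_or_eq_top
  have hZ : Subgroup.center G = ⊥ := by
    rcases (inferInstance : (Subgroup.center G).Normal).eq_bot_or_eq_top with h | h
    · exact h
    · exact absurd ⟨⟨fun a b => (Subgroup.mem_center_iff.mp (h ▸ Subgroup.mem_top a) b).symm⟩⟩ hG
  have hGm : Lib.LocalEven2.CD.cdm (⊤ : Subgroup G) = Nat.card G := by
    unfold Lib.LocalEven2.CD.cdm
    rw [Subgroup.card_top, Subgroup.coe_top, Subgroup.centralizer_univ, hZ, Subgroup.card_bot,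
      mul_one]
  have hBm : Lib.LocalEven2.CD.cdm (⊥ : Subgroup G) = Nat.card G := by
    unfold Lib.LocalEven2.CD.cdm
    rw [Subgroup.card_bot, one_mul, Subgroup.coe_bot, show Subgroup.centralizer ({1} : Set G) = ⊤
      from eq_top_iff.mpr fun x _ => by simp [Subgroup.mem_centralizer_singleton_iff],
      Subgroup.card_top]
  have hmax : maxCentralizerProduct G = Nat.card G := by
    obtain ⟨Q, hQ⟩ := Lib.LocalEven2.CD.exists_large (G := G)
    obtain ⟨M, hM, hMmax⟩ := Set.exists_max_image {R : Subgroup G | IsCentralizerLarge R}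
      (fun R => Nat.card ↥R) (Set.toFinite _) ⟨Q, hQ⟩
    have hMn : ∀ g : G, M.map (MulAut.conj g).toMonoidHom ≤ M := by
      intro g
      have h := hMmax _ (Lib.LocalEven2.CD.large_sup_inf hM (hm M hM (MulAut.conj g))).1
      have heq := Subgroup.eq_of_le_of_card_ge
        (le_sup_left : M ≤ M ⊔ M.map (MulAut.conj g).toMonoidHom) h
      exact le_of_le_of_eq le_sup_right heq.symm
    have hMc : Lib.LocalEven2.CD.cdm M = maxCentralizerProduct G := hM
    rcases hnormal M hMn with h | h
    · rw [← hMc, h, hBm]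
    · rw [← hMc, h, hGm]
  by_contra hle
  rw [not_lt, ← hmax] at hle
  have hAl : IsCentralizerLarge A := Lib.LocalEven2.CD.isLarge_iff.mpr hle
  obtain ⟨M, ⟨hM, hMtop, hAM⟩, hMmax⟩ := Set.exists_max_image
    {R : Subgroup G | IsCentralizerLarge R ∧ R ≠ ⊤ ∧ A ≤ R}
    (fun R => Nat.card ↥R) (Set.toFinite _) ⟨A, hAl, hA2, le_rfl⟩
  refine hMtop ((hnormal M fun g => ?_).resolve_left fun h => hA1 (le_bot_iff.mp (h ▸ hAM)))
  by_contra hg
  have hl := hm M hM (MulAut.conj g)
  have htop : M ⊔ M.map (MulAut.conj g).toMonoidHom = ⊤ := by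
    by_contra htop
    have h := hMmax _ ⟨(Lib.LocalEven2.CD.large_sup_inf hM hl).1, htop, hAM.trans le_sup_left⟩
    have heq := Subgroup.eq_of_le_of_card_ge
      (le_sup_left : M ≤ M ⊔ M.map (MulAut.conj g).toMonoidHom) h
    exact hg (le_of_le_of_eq le_sup_right heq.symm)
  have h1 := Lib.LocalEven2.CD.large_sup_eq_mul hM hl
  rw [htop] at h1
  have hmem : g⁻¹ ∈ ((⊤ : Subgroup G) : Set G) := trivial
  rw [h1] at hmem
  obtain ⟨a, ha, b', ⟨b, hb, rfl⟩, hab⟩ := hmem
  have h2 : a * g * b = 1 := by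
    have h := congrArg (· * g) hab
    simpa [mul_assoc] using h
  have hgM : g ∈ M := by
    have : g = a⁻¹ * b⁻¹ := by
      calc g = a⁻¹ * (a * g * b) * b⁻¹ := by group
        _ = _ := by rw [h2, mul_one]
    rw [this]
    exact M.mul_mem (M.inv_mem ha) (M.inv_mem hb)
  exact hg (by rintro y ⟨z, hz, rfl⟩; exact M.mul_mem (M.mul_mem hgM hz) (M.inv_mem hgM))

end Cfsg.Agent.S3036
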