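import Cfsg.Statements.S3037
import Cfsg.Agent.Lib.LocalEven2.Thompson
import Cfsg.Agent.Lib.Coprime.Basic

set_option autoImplicit false
open Cfsg

namespace Cfsg.Agent.S3037

/-- Let V and G be subgroups of a finite group with V an elementary abelian p-group (p prime) on which G acts faithfully and irreducibly by conjugation: G normalizes V, G ∩ C(V) = 1, and the only subgroups of V normalized by G are 1 and V. If for some nontrivial subgroup A of G and some real α > 0 one has |V| ≤ |A|^α · |C_V(A)|, then |V| ≤ |G|^α. -/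
theorem result {X : Type*} [Group X] [Finite X] {p : ℕ} [Fact p.Prime] (V G : Subgroup X) (hV : Cfsg.IsElementaryAbelian p V)
    (hGV : G ≤ Subgroup.normalizer (V : Set X)) (hfaith : G ⊓ Subgroup.centralizer (V : Set X) = ⊥)
    (hirr : ∀ W : Subgroup X, W ≤ V → G ≤ Subgroup.normalizer (W : Set X) → W = ⊥ ∨ W = V)
    (A : Subgroup X) (hA : A ≤ G) (hA1 : A ≠ ⊥) (α : ℝ) (hα : 0 < α)
    (hbig : (Nat.card V : ℝ) ≤ (Nat.card A : ℝ) ^ α * (Nat.card ↥(V ⊓ Subgroup.centralizer (A : Set X)) : ℝ)) :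
    (Nat.card V : ℝ) ≤ (Nat.card G : ℝ) ^ α := by
  classical
  obtain ⟨hVc, -⟩ := Lib.LocalEven2.isElementaryAbelian_iff.mp hV
  set f : Subgroup X → ℝ := fun B =>
    (Nat.card B : ℝ) ^ α * (Nat.card ↥(V ⊓ Subgroup.centralizer (B : Set X)) : ℝ) with hf
  have hfpos : ∀ B, 0 < f B := fun B =>
    mul_pos (Real.rpow_pos_of_pos (by exact_mod_cast Nat.card_pos) α) (by exact_mod_cast Nat.card_pos)
  obtain ⟨B₀, hB₀, hmax⟩ := Set.exists_max_image {B : Subgroup X | B ≤ G} f (Set.toFinite _)
    ⟨⊥, (bot_le : (⊥ : Subgroup X) ≤ G)⟩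
  obtain ⟨B, ⟨hBG, hBf⟩, hBbig⟩ := Set.exists_max_image {B : Subgroup X | B ≤ G ∧ f B = f B₀}
    (fun B => Nat.card B) (Set.toFinite _) ⟨B₀, hB₀, rfl⟩
  -- `f` is submultiplicative
  have hsub : ∀ C D : Subgroup X, f C * f D ≤ f (C ⊔ D) * f (C ⊓ D) := by
    intro C D
    have hcards : ∀ (E F : Subgroup X), (∀ e ∈ E, ∀ d ∈ F, e * d = d * e) →
        Nat.card ↥E * Nat.card ↥F = Nat.card ↥(E ⊔ F) * Nat.card ↥(E ⊓ F) := by
      intro E F hEF
      rw [← Lib.Coprime.card_sup_mul_card_inf]
      intro d hd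
      rw [Subgroup.mem_normalizer_iff]
      intro e
      constructor
      · intro he; rw [← hEF e he d hd]; simpa using he
      · intro he
        have h := hEF _ he d hd
        have : d * e * d⁻¹ = e := by
          have h3 : d * e = d * (d * e * d⁻¹) := by rw [← h]; group
          exact (mul_left_cancel h3).symm
        rwa [this] at he
    have hprod : Nat.card ↥C * Nat.card ↥D ≤ Nat.card ↥(C ⊔ D) * Nat.card ↥(C ⊓ D) := by
      rw [← Lib.Coprime.relIndex_mul_card (show C ⊓ D ≤ C from inf_le_left)]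
      rw [show Nat.card ↥(C ⊔ D) = Nat.card ↥D * D.relIndex (C ⊔ D) from
        (Lib.Coprime.relIndex_mul_card le_sup_right).symm]
      have h2 : (C ⊓ D).relIndex C ≤ D.relIndex (C ⊔ D) := by
        rw [Subgroup.inf_relIndex_left]
        exact Subgroup.relIndex_le_of_le_right le_sup_left Subgroup.index_ne_zero_of_finite
      calc Nat.card ↥(C ⊓ D) * (C ⊓ D).relIndex C * Nat.card ↥D
          ≤ Nat.card ↥(C ⊓ D) * D.relIndex (C ⊔ D) * Nat.card ↥D := by gcongr
        _ = _ := by ring
    set a := V ⊓ Subgroup.centralizer (C : Set X)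
    set b := V ⊓ Subgroup.centralizer (D : Set X)
    have hab := hcards a b fun e he d hd => hVc e he.1 d hd.1
    have hinf : a ⊓ b ≤ V ⊓ Subgroup.centralizer ((C ⊔ D : Subgroup X) : Set X) := fun x hx =>
      ⟨hx.1.1, Subgroup.le_centralizer_iff.mp
        (sup_le (Subgroup.le_centralizer_iff.mpr (Subgroup.zpowers_le.mpr hx.1.2))
          (Subgroup.le_centralizer_iff.mpr (Subgroup.zpowers_le.mpr hx.2.2)))
        (Subgroup.mem_zpowers x)⟩
    have hsup : a ⊔ b ≤ V ⊓ Subgroup.centralizer ((C ⊓ D : Subgroup X) : Set X) :=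
      sup_le (inf_le_inf_left _ (Subgroup.centralizer_le inf_le_left))
        (inf_le_inf_left _ (Subgroup.centralizer_le inf_le_right))
    have hnat : Nat.card ↥a * Nat.card ↥b ≤
        Nat.card ↥(V ⊓ Subgroup.centralizer ((C ⊔ D : Subgroup X) : Set X)) *
          Nat.card ↥(V ⊓ Subgroup.centralizer ((C ⊓ D : Subgroup X) : Set X)) := by
      rw [hab, mul_comm]
      exact Nat.mul_le_mul (Subgroup.card_le_of_le hinf) (Subgroup.card_le_of_le hsup)
    simp only [hf]
    rw [mul_mul_mul_comm, mul_mul_mul_comm _ _ ((Nat.card ↥(C ⊓ D) : ℝ) ^ α),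
      ← Real.mul_rpow (Nat.cast_nonneg _) (Nat.cast_nonneg _),
      ← Real.mul_rpow (Nat.cast_nonneg _) (Nat.cast_nonneg _)]
    refine mul_le_mul (Real.rpow_le_rpow (by positivity) (by exact_mod_cast hprod) hα.le)
      (by exact_mod_cast hnat) (by positivity) (by positivity)
  have hnorm : ∀ g ∈ G, B.map (MulAut.conj g).toMonoidHom = B := by
    intro g hg
    set B' := B.map (MulAut.conj g).toMonoidHom with hB'
    have hB'G : B' ≤ G := by
      rintro _ ⟨x, hx, rfl⟩
      exact G.mul_mem (G.mul_mem hg (hBG hx)) (inv_mem hg)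
    have hcB' : Nat.card ↥B' = Nat.card ↥B :=
      (Nat.card_congr (B.equivMapOfInjective _ (MulAut.conj g).injective).toEquiv).symm
    have hfB' : f B' = f B := by
      have hCV : (V ⊓ Subgroup.centralizer (B : Set X)).map (MulAut.conj g).toMonoidHom =
          V ⊓ Subgroup.centralizer (B' : Set X) := by
        ext x
        rw [Lib.LocalEven2.mem_map_conj, Subgroup.mem_inf, Subgroup.mem_inf,
          Subgroup.mem_centralizer_iff, Subgroup.mem_centralizer_iff, hB',
          ← Subgroup.mem_normalizer_iff''.mp (hGV hg) x]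
        refine and_congr Iff.rfl ⟨?_, fun h b hb => ?_⟩
        · rintro h _ ⟨b, hb, rfl⟩
          show g * b * g⁻¹ * x = x * (g * b * g⁻¹)
          calc g * b * g⁻¹ * x = g * (b * (g⁻¹ * x * g)) * g⁻¹ := by group
            _ = g * ((g⁻¹ * x * g) * b) * g⁻¹ := by rw [h b hb]
            _ = x * (g * b * g⁻¹) := by group
        · have h1 : g * b * g⁻¹ * x = x * (g * b * g⁻¹) := h _ ⟨b, hb, rfl⟩
          calc b * (g⁻¹ * x * g) = g⁻¹ * (g * b * g⁻¹ * x) * g := by group
            _ = g⁻¹ * (x * (g * b * g⁻¹)) * g := by rw [h1]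
            _ = g⁻¹ * x * g * b := by group
      simp only [hf]
      rw [hcB', ← hCV, ← Nat.card_congr
        ((V ⊓ Subgroup.centralizer (B : Set X)).equivMapOfInjective _ (MulAut.conj g).injective).toEquiv]
    have h1 := hsub B B'
    have h2 := hmax (B ⊓ B') (inf_le_left.trans hBG)
    have h3 := hmax (B ⊔ B') (sup_le hBG hB'G)
    have h4 : f (B ⊔ B') = f B₀ := by
      refine le_antisymm h3 ?_
      rw [hfB', hBf] at h1
      exact le_of_mul_le_mul_right
        (h1.trans (mul_le_mul_of_nonneg_left h2 (hfpos _).le)) (hfpos B₀)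
    have h5 := hBbig (B ⊔ B') ⟨sup_le hBG hB'G, h4⟩
    have h6 : B' ≤ B := le_sup_right.trans
      (Subgroup.eq_of_le_of_card_ge (le_sup_left : B ≤ B ⊔ B') h5).ge
    exact Subgroup.eq_of_le_of_card_ge h6 hcB'.ge
  have hVle : (Nat.card V : ℝ) ≤ f B :=
    hbig.trans ((hmax A hA).trans hBf.ge)
  have hBn : G ≤ Subgroup.normalizer (B : Set X) := fun g hg => by
    rw [Subgroup.mem_normalizer_iff'']
    intro x
    conv_lhs => rw [← hnorm g hg, Lib.LocalEven2.mem_map_conj]
  have hWn : G ≤ Subgroup.normalizer ((V ⊓ Subgroup.centralizer (B : Set X) : Subgroup X) : Set X) := by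
    refine le_trans (le_inf hGV (hBn.trans ?_)) Subgroup.inf_normalizer_le_normalizer_inf
    intro g hg
    rw [Subgroup.mem_normalizer_iff'']
    intro x
    simp only [SetLike.mem_coe, Subgroup.mem_centralizer_iff]
    constructor
    · intro h b hb
      have h1 := h (g * b * g⁻¹) ((Subgroup.mem_normalizer_iff.mp hg b).mp hb)
      calc b * (g⁻¹ * x * g) = g⁻¹ * (g * b * g⁻¹ * x) * g := by group
        _ = g⁻¹ * (x * (g * b * g⁻¹)) * g := by rw [h1]
        _ = g⁻¹ * x * g * b := by group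
    · intro h b hb
      have h1 := h (g⁻¹ * b * g) ((Subgroup.mem_normalizer_iff''.mp hg b).mp hb)
      calc b * x = g * (g⁻¹ * b * g * (g⁻¹ * x * g)) * g⁻¹ := by group
        _ = g * (g⁻¹ * x * g * (g⁻¹ * b * g)) * g⁻¹ := by rw [h1]
        _ = x * b := by group
  rcases hirr _ inf_le_left hWn with h | h
  · refine hVle.trans ?_
    simp only [hf]
    rw [h, Subgroup.card_bot, Nat.cast_one, mul_one]
    exact Real.rpow_le_rpow (Nat.cast_nonneg _)
      (by exact_mod_cast Subgroup.card_le_of_le hBG) hα.le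
  · exfalso
    have hBbot : B = ⊥ := by
      rw [eq_bot_iff, ← hfaith]
      exact le_inf hBG (Subgroup.le_centralizer_iff.mp (h.ge.trans inf_le_right))
    have hfBbot : f B = (Nat.card V : ℝ) := by
      simp only [hf]
      rw [h, hBbot, Subgroup.card_bot, Nat.cast_one, Real.one_rpow, one_mul]
    have hfA : f A = f B₀ := le_antisymm (hmax A hA) (by rw [← hBf, hfBbot]; exact hbig)
    have := hBbig A ⟨hA, hfA⟩
    rw [hBbot, Subgroup.card_bot] at this
    exact hA1 (Subgroup.card_le_one_iff_eq_bot A |>.mp this)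

end Cfsg.Agent.S3037
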