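import Cfsg.Statements.S3044
import Cfsg.Agent.Lib.LocalEven2.IsolatedClosure

set_option autoImplicit false
open Cfsg

namespace Cfsg.Agent.S3044

open Cfsg.Agent.Lib Cfsg.Agent.Lib.LocalEven2.Isolated in
theorem closure_facts {G : Type*} [Group G] [Finite G] {p : ℕ} [Fact p.Prime] {S : Sylow p G}
    {P L : Subgroup G} (h : Isolated S P L) (Y : Subgroup G) [Y.Normal]
    (hY : Y = Subgroup.normalClosure ((resIn p P : Subgroup G) : Set G))
    (hne : resIn p P ≠ Y) :
    p ∣ Nat.card (↥Y ⧸ pCore p ↥Y) ∧ layer (↥Y ⧸ pCore p ↥Y) = ⊤ ∧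
       ∀ K₁ K₂ : Subgroup (↥Y ⧸ pCore p ↥Y), IsComponent K₁ → IsComponent K₂ →
         ∃ s ∈ (S : Subgroup G), ((K₂.comap (QuotientGroup.mk' (pCore p ↥Y))).map Y.subtype) =
           (((K₁.comap (QuotientGroup.mk' (pCore p ↥Y))).map Y.subtype)).map
             (MulAut.conj s).toMonoidHom := by
  have hns : ¬ Group.IsSolvable ↥(Subgroup.normalClosure ((resIn p P : Subgroup G) : Set G)) :=
    fun hs => hne ((h.normalClosure_residual_solvable hs).1.trans hY.symm)
  have hl := h.layered hns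
  set π := QuotientGroup.mk' (pCore p G) with hπ
  set Yb := Subgroup.normalClosure
    ((((resIn p P).map π) : Subgroup (G ⧸ pCore p G)) : Set (G ⧸ pCore p G)) with hYb
  have hmap : Y.map π = Yb := by rw [hY, Isolated.map_closure_residual]
  set g := π.comp Y.subtype with hg
  have hker : g.ker = pCore p ↥Y := by
    apply Subgroup.map_injective Y.subtype_injective
    rw [Cores.map_subtype_pCore_eq, hg, ← MonoidHom.comap_ker, hπ, QuotientGroup.ker_mk',
      ← Subgroup.subgroupOf, Subgroup.subgroupOf_map_subtype, inf_comm]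
  have hrange : g.range = Yb := by
    rw [hg, MonoidHom.range_comp, Subgroup.range_subtype, hmap]
  let e : (↥Y ⧸ pCore p ↥Y) ≃* ↥Yb :=
    (QuotientGroup.quotientMulEquivOfEq hker.symm).trans
      ((QuotientGroup.quotientKerEquivRange g).trans (MulEquiv.subgroupCongr hrange))
  have he : ∀ y : ↥Y, ((e (QuotientGroup.mk' _ y) : ↥Yb) : G ⧸ pCore p G) = π y := fun _ => rfl
  refine ⟨?_, ?_, ?_⟩
  · rw [Nat.card_congr e.toEquiv]
    exact hl.dvd_card_closure
  · apply Subgroup.map_injective (f := e.toMonoidHom) e.injective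
    rw [Components.map_layer_mulEquiv, hl.layer_closure, Subgroup.map_top_of_surjective _ e.surjective]
  intro K₁ K₂ hK₁ hK₂
  have hsn : Yb.IsSubnormal := (Subgroup.normalClosure_normal).isSubnormal
  set B : Subgroup (↥Y ⧸ pCore p ↥Y) → Subgroup (G ⧸ pCore p G) :=
    fun K => (K.map e.toMonoidHom).map Yb.subtype with hB
  have hcomp : ∀ K : Subgroup (↥Y ⧸ pCore p ↥Y), IsComponent K →
      IsComponent (B K) ∧
        ¬ B K ≤ Subgroup.centralizer (((coreIn p L).map π : Subgroup (G ⧸ pCore p G)) : Set _) := by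
    intro K hK
    have hc : IsComponent (B K) :=
      Components.IsComponent.map_subtype hsn (Components.IsComponent.map_mulEquiv e hK)
    exact ⟨hc, (hl.component_iff hc).mp (Subgroup.map_subtype_le _)⟩
  obtain ⟨sb, hsb, hK⟩ := hl.transitive (hcomp K₁ hK₁).1 (hcomp K₁ hK₁).2 (hcomp K₂ hK₂).1
    (hcomp K₂ hK₂).2
  obtain ⟨s, hs, rfl⟩ := hsb
  have hA : ∀ (K : Subgroup (↥Y ⧸ pCore p ↥Y)) (x : G),
      x ∈ (K.comap (QuotientGroup.mk' (pCore p ↥Y))).map Y.subtype ↔ x ∈ Y ∧ π x ∈ B K := by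
    intro K x
    constructor
    · rintro ⟨y, hy, rfl⟩
      exact ⟨y.2, e (QuotientGroup.mk' _ y), ⟨_, hy, rfl⟩, he y⟩
    · rintro ⟨hx, _, ⟨q, hq, rfl⟩, hqx⟩
      refine ⟨⟨x, hx⟩, ?_, rfl⟩
      have : q = QuotientGroup.mk' (pCore p ↥Y) ⟨x, hx⟩ :=
        e.injective (Subtype.ext (hqx.trans (he ⟨x, hx⟩).symm))
      rw [SetLike.mem_coe, Subgroup.mem_comap, ← this]
      exact hq
  refine ⟨s, hs, ?_⟩
  ext x
  rw [hA, Subgroup.mem_map_equiv, hA, MulAut.conj_symm_apply]
  constructor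
  · rintro ⟨hx, hxB⟩
    refine ⟨by simpa using (inferInstance : Y.Normal).conj_mem x hx s⁻¹, ?_⟩
    rw [hK] at hxB
    obtain ⟨z, hz, hzx⟩ := hxB
    have : π (s⁻¹ * x * s) = z := by
      rw [map_mul, map_mul, map_inv, ← hzx]
      simp [mul_assoc]
    rw [this]; exact hz
  · rintro ⟨hx, hxB⟩
    refine ⟨by simpa [mul_assoc] using (inferInstance : Y.Normal).conj_mem _ hx s, ?_⟩
    rw [hK]
    exact ⟨_, hxB, by simp [mul_assoc]⟩

/-- Let G be a finite group, p a prime, S a Sylow p-subgroup of G and P a p-minimal subgroup of G containing S (S is not normal in P and lies in exactly one maximal subgroup of P). Let L be the subgroup generated by N_G(S) and all p-minimal subgroups of G containing S other than P, and suppose P is isolated: O_p(L) is not contained in O_p(P). Put Y for the normal closure of O^p(P) in G. Then G = YL; P is again isolated in the subgroup YS (the subgroup L₀ generated by N_{YS}(S) and the p-minimal subgroups of YS containing S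 other than P has O_p(L₀) not contained in O_p(P)); and either Y = O^p(P), or p divides |Y/O_p(Y)|, Y/O_p(Y) is generated by its components (a central product of quasisimple groups), and S permutes these components transitively by conjugation. -/
theorem result {G : Type*} [Group G] [Finite G] {p : ℕ} [Fact p.Prime] (S : Sylow p G) (P : Subgroup G) (hSP : (S : Subgroup G) ≤ P) (hPmin : Cfsg.IsPMinimal p ↥P)
    (L Y : Subgroup G)
    (hL : L = Subgroup.normalizer ((S : Subgroup G) : Set G) ⊔ ⨆ P' : {P' : Subgroup G // (S : Subgroup G) ≤ P' ∧ Cfsg.IsPMinimal p ↥P' ∧ P' ≠ P}, (P' : Subgroup G))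
    (hiso : ¬ (Cfsg.pCore p ↥L).map L.subtype ≤ (Cfsg.pCore p ↥P).map P.subtype)
    (hY : Y = Subgroup.normalClosure (((Cfsg.pResidual p ↥P).map P.subtype : Subgroup G) : Set G)) :
    Y ⊔ L = ⊤ ∧
    ¬ (Cfsg.pCore p ↥((Subgroup.normalizer ((S : Subgroup G) : Set G) ⊓ (Y ⊔ (S : Subgroup G))) ⊔
          ⨆ P' : {P' : Subgroup G // (S : Subgroup G) ≤ P' ∧ P' ≤ Y ⊔ (S : Subgroup G) ∧ Cfsg.IsPMinimal p ↥P' ∧ P' ≠ P}, (P' : Subgroup G))).map
        (Subgroup.subtype _) ≤ (Cfsg.pCore p ↥P).map P.subtype ∧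
    ((Cfsg.pResidual p ↥P).map P.subtype = Y ∨
     ∃ _ : (Cfsg.pCore p ↥Y).Normal,
       p ∣ Nat.card (↥Y ⧸ Cfsg.pCore p ↥Y) ∧ Cfsg.layer (↥Y ⧸ Cfsg.pCore p ↥Y) = ⊤ ∧
       ∀ K₁ K₂ : Subgroup (↥Y ⧸ Cfsg.pCore p ↥Y), Cfsg.IsComponent K₁ → Cfsg.IsComponent K₂ →
         ∃ s ∈ (S : Subgroup G), ((K₂.comap (QuotientGroup.mk' (Cfsg.pCore p ↥Y))).map Y.subtype) = (((K₁.comap (QuotientGroup.mk' (Cfsg.pCore p ↥Y))).map Y.subtype)).map (MulAut.conj s).toMonoidHom) := by
  have h := Cfsg.Agent.Lib.LocalEven2.Isolated.isolated_of_eq S P L hSP hPmin hL hiso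
  subst hY
  refine ⟨?_, ?_, ?_⟩
  · rw [eq_top_iff]
    refine ((h.genL ⊤ le_top).2).trans (sup_le (le_sup_of_le_right inf_le_right) ?_)
    exact h.residual_sup_sylow.ge.trans
      (sup_le_sup Subgroup.le_normalClosure h.sylow_le_L)
  · intro hle
    set L₀ := (Subgroup.normalizer ((S : Subgroup G) : Set G) ⊓
      (Subgroup.normalClosure (((Cfsg.pResidual p ↥P).map P.subtype : Subgroup G) : Set G) ⊔
        (S : Subgroup G))) ⊔
      ⨆ P' : {P' : Subgroup G // (S : Subgroup G) ≤ P' ∧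
        P' ≤ Subgroup.normalClosure (((Cfsg.pResidual p ↥P).map P.subtype : Subgroup G) : Set G) ⊔
          (S : Subgroup G) ∧ Cfsg.IsPMinimal p ↥P' ∧ P' ≠ P}, (P' : Subgroup G) with hL₀
    have hL0L : L₀ ≤ L := sup_le (inf_le_left.trans h.normalizer_le)
      (iSup_le fun P' => h.others_le P' P'.2.1 P'.2.2.2.1 P'.2.2.2.2)
    have hS0 : (S : Subgroup G) ≤ L₀ :=
      le_sup_of_le_left (le_inf Subgroup.le_normalizer le_sup_right)
    have hR : Cfsg.Agent.Lib.LocalEven2.Isolated.coreIn p L ≤ L₀ := h.R_le_S.trans hS0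
    refine h.iso (le_trans ?_ hle)
    have h1 := Cfsg.Agent.Lib.Cores.le_pCore (p := p)
      ((Subgroup.normal_subgroupOf_iff_le_normalizer hR).mpr (hL0L.trans h.L_le_normalizer_R))
      ((S.isPGroup'.to_le h.R_le_S).of_equiv (Subgroup.subgroupOfEquivOfLe hR).symm)
    have h2 := Subgroup.map_mono (f := L₀.subtype) h1
    rwa [Subgroup.subgroupOf_map_subtype, inf_eq_left.mpr hR] at h2
  · by_cases heq : (Cfsg.pResidual p ↥P).map P.subtype =
        Subgroup.normalClosure (((Cfsg.pResidual p ↥P).map P.subtype : Subgroup G) : Set G)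
    · exact Or.inl heq
    · exact Or.inr ⟨inferInstance, closure_facts h _ rfl heq⟩

end Cfsg.Agent.S3044
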