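import Cfsg.Statements.S3045
import Cfsg.Agent.Lib.LocalEven2.IsolatedSolvable

set_option autoImplicit false
open Cfsg

namespace Cfsg.Agent.S3045

open Cfsg.Agent.Lib Cfsg.Agent.Lib.LocalEven2.Isolated in
theorem quotient_facts {G : Type*} [Group G] [Finite G] {p : ℕ} [Fact p.Prime] (Y : Subgroup G)
    [Y.Normal] {t : ℕ} (ht : IsPGroup t ↥(Y.map (QuotientGroup.mk' (pCore p G))))
    (h3 : ⁅⁅Y.map (QuotientGroup.mk' (pCore p G)), Y.map (QuotientGroup.mk' (pCore p G))⁆,
      Y.map (QuotientGroup.mk' (pCore p G))⁆ = ⊥) [Fact t.Prime] :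
    IsPGroup t (↥Y ⧸ pCore p ↥Y) ∧
      ∃ _ : Group.IsNilpotent (↥Y ⧸ pCore p ↥Y),
        Group.nilpotencyClass (↥Y ⧸ pCore p ↥Y) ≤ 2 := by
  set π := QuotientGroup.mk' (pCore p G) with hπ
  set g := π.comp Y.subtype with hg
  have hker : g.ker = pCore p ↥Y := by
    apply Subgroup.map_injective Y.subtype_injective
    rw [Cores.map_subtype_pCore_eq, hg, ← MonoidHom.comap_ker, hπ, QuotientGroup.ker_mk',
      ← Subgroup.subgroupOf, Subgroup.subgroupOf_map_subtype, inf_comm]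
  set f := QuotientGroup.lift (pCore p ↥Y) g hker.ge with hf
  have hfi : Function.Injective f := by
    rw [← MonoidHom.ker_eq_bot_iff, hf, QuotientGroup.ker_lift, hker,
      QuotientGroup.map_mk'_self]
  have hrange : (⊤ : Subgroup (↥Y ⧸ pCore p ↥Y)).map f = Y.map π := by
    rw [← Subgroup.map_top_of_surjective (QuotientGroup.mk' (pCore p ↥Y))
      (QuotientGroup.mk'_surjective _), Subgroup.map_map, hf, QuotientGroup.lift_comp_mk', hg,
      ← MonoidHom.range_eq_map, MonoidHom.range_comp, Subgroup.range_subtype]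
  have h1 : IsPGroup t (↥Y ⧸ pCore p ↥Y) := fun x => by
    obtain ⟨k, hk⟩ := ht ⟨f x, hrange ▸ Subgroup.mem_map_of_mem f (Subgroup.mem_top x)⟩
    exact ⟨k, hfi (by rw [map_pow, map_one]; simpa using congrArg Subtype.val hk)⟩
  have h2 : (⊤ : Subgroup (↥Y ⧸ pCore p ↥Y)).lowerCentralSeries 2 = ⊥ := by
    rw [Subgroup.lowerCentralSeries_succ, Subgroup.lowerCentralSeries_succ,
      Subgroup.lowerCentralSeries_zero]
    apply Subgroup.map_injective hfi
    rw [Subgroup.map_commutator, Subgroup.map_commutator, hrange, Subgroup.map_bot, h3]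
  refine ⟨h1, h1.isNilpotent, ?_⟩
  have := h1.isNilpotent
  exact Subgroup.lowerCentralSeries_eq_bot_iff_nilpotencyClass_le.mp h2

/-- Let G be a finite group, p a prime, S a Sylow p-subgroup of G and P a p-minimal subgroup of G containing S. Let L be the subgroup generated by N_G(S) and all p-minimal subgroups of G containing S other than P, and suppose O_p(L) is not contained in O_p(P). Put Y for the normal closure of O^p(P) in G. Then O^p(P) is contained in the preimage in G of F*(G/O_p(G)); and if Y is solvable, then Y = O^p(P) and Y/O_p(Y) is a t-group of nilpotency class at most 2 for some prime t ≠ p. -/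
theorem result {G : Type*} [Group G] [Finite G] {p : ℕ} [Fact p.Prime] (S : Sylow p G) (P : Subgroup G) (hSP : (S : Subgroup G) ≤ P) (hPmin : Cfsg.IsPMinimal p ↥P)
    (L Y : Subgroup G)
    (hL : L = Subgroup.normalizer ((S : Subgroup G) : Set G) ⊔ ⨆ P' : {P' : Subgroup G // (S : Subgroup G) ≤ P' ∧ Cfsg.IsPMinimal p ↥P' ∧ P' ≠ P}, (P' : Subgroup G))
    (hiso : ¬ (Cfsg.pCore p ↥L).map L.subtype ≤ (Cfsg.pCore p ↥P).map P.subtype)
    (hY : Y = Subgroup.normalClosure (((Cfsg.pResidual p ↥P).map P.subtype : Subgroup G) : Set G)) [hn : (Cfsg.pCore p G).Normal] :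
    (Cfsg.pResidual p ↥P).map P.subtype ≤ (Cfsg.generalizedFittingSubgroup (G ⧸ Cfsg.pCore p G)).comap (QuotientGroup.mk' (Cfsg.pCore p G)) ∧
    (Group.IsSolvable ↥Y → (Cfsg.pResidual p ↥P).map P.subtype = Y ∧
       ∃ _ : (Cfsg.pCore p ↥Y).Normal, ∃ t : ℕ, t.Prime ∧ t ≠ p ∧ IsPGroup t (↥Y ⧸ Cfsg.pCore p ↥Y) ∧
         ∃ _ : Group.IsNilpotent (↥Y ⧸ Cfsg.pCore p ↥Y), Group.nilpotencyClass (↥Y ⧸ Cfsg.pCore p ↥Y) ≤ 2) := by
  have h := Cfsg.Agent.Lib.LocalEven2.Isolated.isolated_of_eq S P L hSP hPmin hL hiso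
  subst hY
  refine ⟨h.residual_le_genFitting, fun hsol => ?_⟩
  obtain ⟨heq, t, ht, htp, hT, h3⟩ := h.normalClosure_residual_solvable hsol
  have : Fact t.Prime := ⟨ht⟩
  refine ⟨heq, inferInstance, t, ht, htp, ?_⟩
  exact quotient_facts _ (by rw [← heq]; exact hT) (by rw [← heq]; exact h3)

end Cfsg.Agent.S3045
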