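import Cfsg.Statements.S3048
import Cfsg.Agent.Lib.Components.GenFitting
import Cfsg.Agent.Lib.Components.Fitting
import Cfsg.Agent.Lib.Components.PComponent
import Cfsg.Agent.Lib.Components.Quasisimple

set_option autoImplicit false
universe u
open Cfsg

namespace Cfsg.Agent.S3048

open scoped commutatorElement
open Cfsg.Agent.Lib

variable {G : Type u} [Group G] [Finite G]

theorem exists_odd_mem {X : Subgroup G} (h : ¬ IsPGroup 2 ↥X) :
    ∃ x ∈ X, x ≠ 1 ∧ Odd (orderOf x) := by
  by_contra hc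
  push Not at hc
  refine h fun x => ?_
  obtain ⟨a, m, hm, hn⟩ := Nat.exists_eq_pow_mul_and_not_dvd (orderOf_pos (x : G)).ne' 2 (by norm_num)
  refine ⟨a, Subtype.ext ?_⟩
  rw [Subgroup.coe_pow, Subgroup.coe_one]
  by_contra h1
  refine hc _ (pow_mem x.2 _) h1 ?_
  rw [orderOf_pow' (x : G) (pow_ne_zero _ two_ne_zero), hn, Nat.gcd_eq_right (dvd_mul_right _ m),
    Nat.mul_div_cancel_left _ (pow_pos two_pos a)]
  exact Nat.odd_iff.mpr (by omega)

/-- An element of odd order inverted by an element centralising `M` modulo `M` lies in `M`. -/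
theorem mem_of_inverts {M : Subgroup G} [M.Normal] {h t : G} (hodd : Odd (orderOf h))
    (ht : t * h * t⁻¹ = h⁻¹) (hc : ⁅h, t⁆ ∈ M) : h ∈ M := by
  have h2 : h ^ 2 = ⁅h, t⁆ := by
    rw [commutatorElement_def, show h * t * h⁻¹ * t⁻¹ = h * (t * h * t⁻¹)⁻¹ by group, ht, inv_inv,
      sq]
  obtain ⟨k, hk⟩ := hodd
  have : h = (h ^ 2) ^ (k + 1) := by
    rw [← pow_mul, show 2 * (k + 1) = 2 * k + 1 + 1 by ring, pow_succ, ← hk, pow_orderOf_eq_one,
      one_mul]
  rw [this, h2]
  exact pow_mem hc _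

/-- Failure of the pair condition inside a smaller group. -/
theorem exists_free (hmin : ∀ (H : Type u) [Group H] [Finite H] (W : Subgroup H), Nat.card H < Nat.card G →
      Cfsg.IsElementaryAbelian 2 W → W ≠ ⊥ → Cfsg.IsSidkiPair W → W ⊓ Cfsg.pCore 2 H ≠ ⊥)
    (hO : Cfsg.pCore 2 G = ⊥) {M S : Subgroup G} (hS : Cfsg.IsElementaryAbelian 2 S) (hS1 : S ≠ ⊥)
    (hnorm : S ≤ Subgroup.normalizer (M : Set G)) (hMsub : M.IsSubnormal) (hne : M ⊔ S ≠ ⊤)
    (hC : S ⊓ Subgroup.centralizer (M : Set G) = ⊥) :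
    ∃ m ∈ M, ∃ t ∈ S, Odd (orderOf m) ∧ t * m * t⁻¹ = m⁻¹ ∧ ∀ w ∈ S, w * m = m * w → w = 1 := by
  set H := M ⊔ S with hH
  set W := S.subgroupOf H
  have hSH : S ≤ H := le_sup_right
  haveI hMn : (M.subgroupOf H).Normal :=
    Subgroup.normal_subgroupOf_of_le_normalizer (sup_le Subgroup.le_normalizer hnorm)
  have hlt : Nat.card ↥H < Nat.card G := lt_of_le_of_ne (Subgroup.card_le_card_group H)
    fun e => hne (Subgroup.eq_top_of_card_eq H e)
  have hW : Cfsg.IsElementaryAbelian 2 W :=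
    ⟨⟨⟨fun a b => Subtype.ext (Subtype.ext (show ((a : ↥H) : G) * ((b : ↥H) : G) = _ from congrArg Subtype.val
      (hS.1.is_comm.comm ⟨((a : ↥H) : G), a.2⟩ ⟨((b : ↥H) : G), b.2⟩)))⟩⟩,
     fun a ha => Subtype.ext (by simpa using hS.2 _ ha)⟩
  have hW1 : W ≠ ⊥ := fun e => hS1 (by
    rwa [Subgroup.subgroupOf_eq_bot, disjoint_of_le_iff_left_eq_bot hSH] at e)
  have hnot : ¬ Cfsg.IsSidkiPair W := by
    intro hsid
    refine hmin ↥H W hlt hW hW1 hsid (eq_bot_iff.mpr fun u hu => ?_)
    obtain ⟨huW, huO⟩ := Subgroup.mem_inf.mp hu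
    rw [Subgroup.mem_bot]
    refine Subtype.ext ?_
    rw [Subgroup.coe_one, ← Subgroup.mem_bot, ← hC, Subgroup.mem_inf]
    refine ⟨huW, Subgroup.mem_centralizer_iff.mpr fun x hx => ?_⟩
    let Q := (Cfsg.pCore 2 ↥H) ⊓ M.subgroupOf H
    have hQ : (Q.map H.subtype) ≤ Cfsg.pCore 2 G := by
      refine Components.le_pCore_of_subnormal ?_ (((Components.pCore_isPGroup 2).to_le inf_le_left).map _)
      refine Subgroup.IsSubnormal.step _ M ?_ hMsub ?_
      · rintro _ ⟨q, hq, rfl⟩
        exact (Subgroup.mem_inf.mp hq).2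
      · refine ⟨fun q hq g => ?_⟩
        obtain ⟨q', hq', he⟩ := Subgroup.mem_map.mp (Subgroup.mem_subgroupOf.mp hq)
        rw [Subgroup.mem_subgroupOf]
        refine ⟨⟨(g : G), Subgroup.mem_sup_left g.2⟩ * q' * ⟨(g : G), Subgroup.mem_sup_left g.2⟩⁻¹,
          (inferInstance : Q.Normal).conj_mem q' hq' _, ?_⟩
        simp [← he]
    rw [hO, le_bot_iff, Subgroup.map_eq_bot_iff_of_injective _ H.subtype_injective] at hQ
    have hxH : x ∈ H := Subgroup.mem_sup_left hx
    have hc : ⁅(⟨x, hxH⟩ : ↥H), u⁆ ∈ Q := by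
      refine Subgroup.mem_inf.mpr ⟨?_, ?_⟩
      · rw [commutatorElement_def]
        exact mul_mem ((inferInstance : (Cfsg.pCore 2 ↥H).Normal).conj_mem u huO _) (inv_mem huO)
      · rw [commutatorElement_def, mul_assoc, mul_assoc, ← mul_assoc u]
        exact mul_mem (show (⟨x, hxH⟩ : ↥H) ∈ M.subgroupOf H from hx)
          (hMn.conj_mem _ (inv_mem (show (⟨x, hxH⟩ : ↥H) ∈ M.subgroupOf H from hx)) u)
    rw [hQ, Subgroup.mem_bot, commutatorElement_eq_one_iff_mul_comm] at hc
    exact congrArg Subtype.val hc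
  simp only [Cfsg.IsSidkiPair, not_forall, not_exists, not_and] at hnot
  obtain ⟨h, t, ht, hodd, hth, hfree⟩ := hnot
  refine ⟨(h : G), ?_, (t : G), ht, by rwa [Subgroup.orderOf_coe], by simpa using congrArg Subtype.val hth,
    fun w hw hwh => ?_⟩
  · refine Subgroup.mem_subgroupOf.mp (mem_of_inverts (M := M.subgroupOf H) hodd hth ?_)
    rw [← QuotientGroup.eq_one_iff, ← QuotientGroup.mk'_apply, map_commutatorElement,
      commutatorElement_eq_one_iff_mul_comm]
    have hh : QuotientGroup.mk' (M.subgroupOf H) h ∈ W.map (QuotientGroup.mk' (M.subgroupOf H)) := by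
      have htop : (M.subgroupOf H) ⊔ W = ⊤ := by
        rw [← Subgroup.subgroupOf_sup le_sup_left hSH, Subgroup.subgroupOf_self]
      have : h ∈ (M.subgroupOf H) ⊔ W := htop ▸ Subgroup.mem_top h
      have h2 := Subgroup.mem_map_of_mem (QuotientGroup.mk' (M.subgroupOf H)) this
      rw [Subgroup.map_sup, QuotientGroup.map_mk'_self, bot_sup_eq] at h2
      exact h2
    obtain ⟨s, hs, hse⟩ := hh
    rw [← hse, ← map_mul, ← map_mul]
    exact congrArg _ (congrArg Subtype.val (hW.1.is_comm.comm ⟨s, hs⟩ ⟨t, ht⟩))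
  · by_contra hw1
    exact hfree ⟨w, hSH hw⟩ hw (fun e => hw1 (congrArg Subtype.val e)) (Subtype.ext hwh)

/-- The pair condition passes to quotients meeting `V` trivially. -/
theorem exists_mem_comap {V Q : Subgroup G} [Q.Normal] (hV : Cfsg.IsElementaryAbelian 2 V) (hV1 : V ≠ ⊥)
    (hS : Cfsg.IsSidkiPair V) (hQ1 : Q ≠ ⊥) (hker : ∀ v ∈ V, v ∈ Q → v = 1)
    (hminG : ∀ (H : Type u) [Group H] [Finite H] (W : Subgroup H), Nat.card H < Nat.card G →
      Cfsg.IsElementaryAbelian 2 W → W ≠ ⊥ → Cfsg.IsSidkiPair W → W ⊓ Cfsg.pCore 2 H ≠ ⊥) :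
    ∃ v ∈ V, v ≠ 1 ∧ v ∈ (Cfsg.pCore 2 (G ⧸ Q)).comap (QuotientGroup.mk' Q) := by
  have hVcomm : ∀ a ∈ V, ∀ b ∈ V, a * b = b * a := fun a ha b hb =>
    congrArg Subtype.val (hV.1.is_comm.comm ⟨a, ha⟩ ⟨b, hb⟩)
  have hVinv : ∀ a ∈ V, a⁻¹ = a := fun a ha => inv_eq_of_mul_eq_one_right (by rw [← sq]; exact hV.2 a ha)
  set π := QuotientGroup.mk' Q with hπ
  have hlt : Nat.card (G ⧸ Q) < Nat.card G := by
    rw [Subgroup.card_eq_card_quotient_mul_card_subgroup Q]
    exact lt_mul_of_one_lt_right Nat.card_pos ((Subgroup.one_lt_card_iff_ne_bot Q).mpr hQ1)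
  replace hker : ∀ v ∈ V, π v = 1 → v = 1 := fun v hv h => hker v hv ((QuotientGroup.eq_one_iff v).mp h)
  have hW : Cfsg.IsElementaryAbelian 2 (V.map π) := by
    refine ⟨⟨⟨?_⟩⟩, ?_⟩
    · rintro ⟨_, a, ha, rfl⟩ ⟨_, b, hb, rfl⟩
      exact Subtype.ext (show π a * π b = π b * π a by rw [← map_mul, ← map_mul, hVcomm a ha b hb])
    · rintro _ ⟨a, ha, rfl⟩
      rw [← map_pow, hV.2 a ha, map_one]
  have hW1 : V.map π ≠ ⊥ := fun e => hV1 (eq_bot_iff.mpr fun v hv => by
    rw [Subgroup.mem_bot]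
    exact hker v hv (by rw [← Subgroup.mem_bot, ← e]; exact Subgroup.mem_map_of_mem π hv))
  have hWS : Cfsg.IsSidkiPair (V.map π) := by
    rintro h _ ⟨v, hv, rfl⟩ hodd hvh
    obtain ⟨k, hk⟩ := hodd
    obtain ⟨c, hc⟩ := QuotientGroup.mk'_surjective Q (h ^ k)
    have hvv : v⁻¹ = v := hVinv v hv
    have hflip : ∀ n : ℕ, π v * h ^ n = (h⁻¹) ^ n * π v := fun n => by
      rw [← hvh, conj_pow]; group
    set h₀ := v * (c * v * c⁻¹) with hh₀
    have hinv₀ : v * h₀ * v⁻¹ = h₀⁻¹ := by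
      rw [hh₀, show (v * (c * v * c⁻¹))⁻¹ = c * v⁻¹ * c⁻¹ * v⁻¹ by group, hvv]
      calc v * (v * (c * v * c⁻¹)) * v = (v * v) * (c * v * c⁻¹ * v) := by group
        _ = _ := by rw [← sq, hV.2 v hv, one_mul]
    have him : π h₀ = h := by
      have hc' : π c = h ^ k := hc
      rw [hh₀, map_mul, map_mul, map_mul, map_inv, hc', ← mul_assoc, ← mul_assoc, hflip k,
        mul_assoc ((h⁻¹) ^ k), ← map_mul, ← sq, hV.2 v hv, map_one, mul_one, inv_pow,
        ← mul_inv_rev, ← pow_add, ← two_mul, inv_eq_iff_mul_eq_one, ← pow_succ, ← hk,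
        pow_orderOf_eq_one]
    obtain ⟨a, m, hm, hn⟩ := Nat.exists_eq_pow_mul_and_not_dvd (orderOf_pos h₀).ne' 2 (by norm_num)
    obtain ⟨t, ht⟩ : ∃ t, 2 ^ a * t ≡ 1 [MOD orderOf h] := by
      rcases eq_or_ne (orderOf h) 1 with h1 | h1
      · exact ⟨0, by simp [Nat.ModEq, h1, Nat.mod_one]⟩
      · obtain ⟨t, -, ht⟩ := Nat.exists_mul_mod_eq_one_of_coprime (n := 2 ^ a) (k := orderOf h)
          ((Nat.coprime_two_left.mpr ⟨k, hk⟩).pow_left a) (by omega)
        exact ⟨t, by rw [Nat.ModEq, ht, Nat.one_mod_eq_one.mpr h1]⟩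
    have hodd₁ : Odd (orderOf (h₀ ^ (2 ^ a * t))) := by
      have h1 : (h₀ ^ (2 ^ a * t)) ^ m = 1 := by
        rw [← pow_mul, mul_right_comm, ← hn, pow_mul, pow_orderOf_eq_one, one_pow]
      exact (Nat.odd_iff.mpr (by omega : m % 2 = 1)).of_dvd_nat (orderOf_dvd_of_pow_eq_one h1)
    obtain ⟨w, hw, hw1, hwh⟩ := hS (h₀ ^ (2 ^ a * t)) v hv hodd₁
      (by rw [← conj_pow, hinv₀, inv_pow])
    refine ⟨π w, Subgroup.mem_map_of_mem π hw, fun e => hw1 (hker w hw e), ?_⟩
    have him₁ : π (h₀ ^ (2 ^ a * t)) = h := by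
      rw [map_pow, him]
      conv_rhs => rw [← pow_one h]
      rw [pow_eq_pow_iff_modEq]
      exact ht
    rw [← him₁, ← map_mul, ← map_mul, hwh]
  by_contra hc
  push Not at hc
  apply hminG (G ⧸ Q) (V.map π) hlt hW hW1 hWS
  rw [eq_bot_iff]
  rintro x hx
  obtain ⟨⟨v, hv, rfl⟩, hxO⟩ := Subgroup.mem_inf.mp hx
  rcases eq_or_ne v 1 with rfl | hv1
  · rw [map_one]; exact one_mem _
  · exact absurd hxO (hc v hv hv1)


/-- Minimal counterexample reduction for the Sidki pair problem. Let G be a finite group and V a nontrivial elementary abelian 2-subgroup satisfying the Sidki pair condition with V ∩ O₂(G) = 1. Suppose that for every finite group H of smaller order, every nontrivial elementary abelian 2-subgroup W of H satisfying the Sidki pair condition meets O₂(H) nontrivially, and that the same holds in G for every such subgroup W of order smaller than that of V. Then the generalized Fitting subgroup F*(G) is a non-abelian simple group and G = V F*(G). -/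
theorem result {G : Type u} [Group G] [Finite G] (V : Subgroup G) (hV : Cfsg.IsElementaryAbelian 2 V) (hV1 : V ≠ ⊥) (hS : Cfsg.IsSidkiPair V) (hVO : V ⊓ Cfsg.pCore 2 G = ⊥) (hminG : ∀ (H : Type u) [Group H] [Finite H] (W : Subgroup H), Nat.card H < Nat.card G → Cfsg.IsElementaryAbelian 2 W → W ≠ ⊥ → Cfsg.IsSidkiPair W → W ⊓ Cfsg.pCore 2 H ≠ ⊥) (hminV : ∀ W : Subgroup G, Nat.card W < Nat.card V → Cfsg.IsElementaryAbelian 2 W → W ≠ ⊥ → Cfsg.IsSidkiPair W → W ⊓ Cfsg.pCore 2 G ≠ ⊥) : IsSimpleGroup ↥(Cfsg.generalizedFittingSubgroup G) ∧ ¬ IsMulCommutative ↥(Cfsg.generalizedFittingSubgroup G) ∧ V ⊔ Cfsg.generalizedFittingSubgroup G = ⊤ := by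
  classical
  have hVcomm : ∀ a ∈ V, ∀ b ∈ V, a * b = b * a := fun a ha b hb =>
    congrArg Subtype.val (hV.1.is_comm.comm ⟨a, ha⟩ ⟨b, hb⟩)
  have hVinv : ∀ a ∈ V, a⁻¹ = a := fun a ha => inv_eq_of_mul_eq_one_right (by rw [← sq]; exact hV.2 a ha)
  have hsub : ∀ S : Subgroup G, S ≤ V → Cfsg.IsElementaryAbelian 2 S := fun S hS =>
    ⟨⟨⟨fun a b => Subtype.ext (hVcomm a (hS a.2) b (hS b.2))⟩⟩, fun a ha => hV.2 a (hS ha)⟩
  have hquot : ∀ N : Subgroup G, ∀ _ : N.Normal, ∀ {X : G}, IsPGroup 2 ↥N → X ∈ N → X ∈ Cfsg.pCore 2 G :=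
    fun N hN _ hp hX => Components.le_pCore hN hp hX
  -- the 2-core is trivial
  have hO : Cfsg.pCore 2 G = ⊥ := by
    by_contra hO
    obtain ⟨v, hv, hv1, hvM⟩ := exists_mem_comap hV hV1 hS hO (fun v hv hvQ => by
      rw [← Subgroup.mem_bot, ← hVO]; exact Subgroup.mem_inf.mpr ⟨hv, hvQ⟩) hminG
    have hp : IsPGroup 2 ↥((Cfsg.pCore 2 (G ⧸ Cfsg.pCore 2 G)).comap (QuotientGroup.mk' (Cfsg.pCore 2 G))) :=
      (Components.pCore_isPGroup 2).comap_of_ker_isPGroup _
        (by rw [QuotientGroup.ker_mk']; exact Components.pCore_isPGroup 2)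
    refine hv1 ?_
    rw [← Subgroup.mem_bot, ← hVO]
    exact Subgroup.mem_inf.mpr ⟨hv, Components.le_pCore
      ((inferInstance : (Cfsg.pCore 2 (G ⧸ Cfsg.pCore 2 G)).Normal).comap _) hp hvM⟩
  -- nontrivial centralisers
  have hcent : ∀ M : Subgroup G, M.Normal → M ⊔ V ≠ ⊤ → V ⊓ Subgroup.centralizer (M : Set G) ≠ ⊥ := by
    intro M hM hne hC
    haveI := hM
    obtain ⟨m, hm, t, ht, hodd, htm, hfree⟩ := exists_free hminG hO hV hV1
      Subgroup.le_normalizer_of_normal hM.isSubnormal hne hC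
    obtain ⟨w, hw, hw1, hwm⟩ := hS m t ht hodd htm
    exact hw1 (hfree w hw hwm)
  have hab : ∀ A : Subgroup G, A.Normal → IsMulCommutative ↥A → IsPGroup 2 ↥A → A = ⊥ :=
    fun A hA _ hp => le_bot_iff.mp (hO ▸ Components.le_pCore hA hp)
  -- a central element of `V` in the centraliser of its own centraliser is trivial
  have hZ2 : ∀ N : Subgroup G, N.Normal → ∀ u ∈ V, u ∈ Subgroup.centralizer (N : Set G) →
      u ∈ Subgroup.centralizer (Subgroup.centralizer (N : Set G) : Set G) → u = 1 := by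
    intro N hN u hu h1 h2
    haveI := hN
    set Z := Subgroup.centralizer (N : Set G) ⊓
      Subgroup.centralizer (Subgroup.centralizer (N : Set G) : Set G)
    have hZc : IsMulCommutative ↥Z := ⟨⟨fun a b => Subtype.ext
      (Subgroup.mem_centralizer_iff.mp (Subgroup.mem_inf.mp b.2).2 a (Subgroup.mem_inf.mp a.2).1)⟩⟩
    let T : Subgroup G :=
      { carrier := {z | z ∈ Z ∧ z ^ 2 = 1}
        one_mem' := ⟨one_mem _, one_pow _⟩
        mul_mem' := fun {a b} ha hb => ⟨mul_mem ha.1 hb.1, by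
          rw [(show Commute a b from congrArg Subtype.val (hZc.is_comm.comm ⟨a, ha.1⟩ ⟨b, hb.1⟩)).mul_pow,
            ha.2, hb.2, one_mul]⟩
        inv_mem' := fun {a} ha => ⟨inv_mem ha.1, by rw [inv_pow, ha.2, inv_one]⟩ }
    have hTn : T.Normal := ⟨fun a ha g => ⟨(inferInstance : Z.Normal).conj_mem a ha.1 g, by
      rw [conj_pow, ha.2, mul_one, mul_inv_cancel]⟩⟩
    have hT := Components.le_pCore (p := 2) hTn (fun a => ⟨1, Subtype.ext (by simpa using a.2.2)⟩)
      (show u ∈ T from ⟨Subgroup.mem_inf.mpr ⟨h1, h2⟩, hV.2 u hu⟩)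
    rwa [hO, Subgroup.mem_bot] at hT
  -- no abelian normal subgroup
  have hnoab : ∀ A : Subgroup G, A.Normal → IsMulCommutative ↥A → A = ⊥ := by
    intro A₀ hA₀ hA₀c
    by_contra hA₀1
    obtain ⟨N, ⟨hNn, hN1, hNA⟩, hmin⟩ := (Set.toFinite {N : Subgroup G |
      N.Normal ∧ N ≠ ⊥ ∧ N ≤ A₀}).exists_minimal ⟨A₀, hA₀, hA₀1, le_rfl⟩
    haveI := hNn
    have hNc : ∀ a ∈ N, ∀ b ∈ N, a * b = b * a := fun a ha b hb =>
      congrArg Subtype.val (hA₀c.is_comm.comm ⟨a, hNA ha⟩ ⟨b, hNA hb⟩)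
    set C := Subgroup.centralizer (N : Set G) with hC
    have hNC : N ≤ C := fun a ha => Subgroup.mem_centralizer_iff.mpr fun b hb => hNc b hb a ha
    obtain ⟨n₀, hn₀, hn₀1, hn₀o⟩ := exists_odd_mem (X := N) fun hp =>
      hN1 (hab N hNn ⟨⟨fun a b => Subtype.ext (hNc a a.2 b b.2)⟩⟩ hp)
    -- every element of `V` acts as a sign
    have hsign : C ⊔ V = ⊤ → ∀ v ∈ V, v ∉ C → ∀ n ∈ N, v * n * v⁻¹ = n⁻¹ := by
      intro htop v hv hvC n hn
      let F : Subgroup G :=
        { carrier := {x | x ∈ N ∧ v * x = x * v}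
          one_mem' := ⟨one_mem _, by simp⟩
          mul_mem' := fun {a b} ha hb => ⟨mul_mem ha.1 hb.1, (Commute.mul_right ha.2 hb.2 : Commute v (a * b))⟩
          inv_mem' := fun {a} ha => ⟨inv_mem ha.1, (Commute.inv_right ha.2 : Commute v a⁻¹)⟩ }
      have hFn : F.Normal := by
        refine Subgroup.normalizer_eq_top_iff.mp (top_le_iff.mp (htop ▸ sup_le (fun c hc => ?_) fun w hw => ?_))
        · refine Subgroup.mem_normalizer_fintype fun x hx => ?_
          rw [show c * x * c⁻¹ = x by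
            rw [← Subgroup.mem_centralizer_iff.mp hc x hx.1, mul_inv_cancel_right]]
          exact hx
        · refine Subgroup.mem_normalizer_fintype fun x hx => ⟨hNn.conj_mem x hx.1 w, ?_⟩
          calc v * (w * x * w⁻¹) = (v * w) * x * w⁻¹ := by group
            _ = w * (v * x) * w⁻¹ := by rw [hVcomm v hv w hw]; group
            _ = w * x * (v * w⁻¹) := by rw [hx.2]; group
            _ = w * x * w⁻¹ * v := by rw [hVinv w hw, hVcomm v hv w hw]; group
      have hF : F = ⊥ := by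
        by_contra hF
        apply hvC
        have hle : N ≤ F := hmin ⟨hFn, hF, fun x hx => hNA hx.1⟩ fun x hx => hx.1
        exact Subgroup.mem_centralizer_iff.mpr fun x hx => (hle hx).2.symm
      set y := v * n * v⁻¹ with hy
      have hyN : y ∈ N := hNn.conj_mem n hn v
      have : n * y ∈ F := ⟨mul_mem hn hyN, by
        calc v * (n * y) = (v * n * v⁻¹) * (v * y * v⁻¹) * v := by group
          _ = y * n * v := by
              rw [← hy, show v * y * v⁻¹ = n by
                rw [hy, hVinv v hv]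
                calc v * (v * n * v) * v = (v * v) * n * (v * v) := by group
                  _ = n := by rw [← sq, hV.2 v hv, one_mul, mul_one]]
          _ = n * y * v := by rw [hNc y hyN n hn]⟩
      rw [hF, Subgroup.mem_bot] at this
      exact eq_inv_of_mul_eq_one_right this
    by_cases hW : V ⊓ C = ⊥
    · have htop : N ⊔ V = ⊤ := by
        by_contra hne
        obtain ⟨m, hm, t, ht, hodd, htm, hfree⟩ := exists_free hminG hO hV hV1
          (Subgroup.le_normalizer_of_normal) hNn.isSubnormal hne hW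
        obtain ⟨w, hw, hw1, hwm⟩ := hS m t ht hodd htm
        exact hw1 (hfree w hw hwm)
      have htopC : C ⊔ V = ⊤ := top_le_iff.mp (htop ▸ sup_le_sup_right hNC V)
      obtain ⟨v, hv, hv1⟩ := (Subgroup.bot_or_exists_ne_one V).resolve_left hV1
      have hnC : ∀ u ∈ V, u ≠ 1 → u ∉ C := fun u hu hu1 h => hu1 (by
        rw [← Subgroup.mem_bot, ← hW]; exact Subgroup.mem_inf.mpr ⟨hu, h⟩)
      have hi := hsign htopC v hv (hnC v hv hv1) n₀ hn₀
      obtain ⟨w, hw, hw1, hwn⟩ := hS n₀ v hv hn₀o hi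
      have hi' := hsign htopC w hw (hnC w hw hw1) n₀ hn₀
      rw [hwn, mul_inv_cancel_right] at hi'
      exact hn₀1 (orderOf_eq_one_iff.mp (by
        have h2 : n₀ ^ 2 = 1 := by rw [sq]; conv_lhs => arg 2; rw [hi']
                                   exact mul_inv_cancel n₀
        obtain ⟨k, hk⟩ := hn₀o
        have := Nat.le_of_dvd two_pos (orderOf_dvd_of_pow_eq_one h2)
        omega))
    · have htopC : C ⊔ V = ⊤ := by
        by_contra hne
        obtain ⟨m, hm, t, ht, hodd, htm, hfree⟩ := exists_free hminG hO hV hV1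
          (Subgroup.le_normalizer_of_normal) (inferInstance : C.Normal).isSubnormal hne
          (eq_bot_iff.mpr fun u hu => Subgroup.mem_bot.mpr (hZ2 N hNn u (Subgroup.mem_inf.mp hu).1
            (Subgroup.centralizer_le hNC (Subgroup.mem_inf.mp hu).2) (Subgroup.mem_inf.mp hu).2))
        obtain ⟨w, hw, hw1, hwm⟩ := hS m t ht hodd htm
        exact hw1 (hfree w hw hwm)
      set W := V ⊓ C
      have hWlt : W < V := lt_of_le_not_ge inf_le_left fun hle => by
        have hCtop : C = ⊤ := top_le_iff.mp (htopC ▸ sup_le le_rfl (hle.trans inf_le_right))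
        have hNZ : N ≤ Subgroup.center G := fun n hn => Subgroup.mem_center_iff.mpr fun g =>
          (Subgroup.mem_centralizer_iff.mp (hCtop ▸ Subgroup.mem_top g : g ∈ C) n hn).symm
        obtain ⟨v, hv, hv1, hvM⟩ := exists_mem_comap hV hV1 hS hN1 (fun v hv hvN => hZ2 N hNn v hv (hNC hvN)
          (Subgroup.center_le_centralizer _ (hNZ hvN))) hminG
        set M := (Cfsg.pCore 2 (G ⧸ N)).comap (QuotientGroup.mk' N)
        haveI : M.Normal := (inferInstance : (Cfsg.pCore 2 (G ⧸ N)).Normal).comap _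
        haveI : Group.IsNilpotent ↥((Cfsg.pCore 2 (G ⧸ N))) := (Components.pCore_isPGroup 2).isNilpotent
        haveI : Group.IsNilpotent ↥M := Subgroup.isNilpotent_of_ker_le_center
          ((QuotientGroup.mk' N).subgroupComap (Cfsg.pCore 2 (G ⧸ N))) (fun x hx => by
            have hxN : (x : G) ∈ N := (QuotientGroup.eq_one_iff _).mp
              (congrArg Subtype.val (MonoidHom.mem_ker.mp hx))
            exact Subgroup.mem_center_iff.mpr fun g => Subtype.ext
              (Subgroup.mem_center_iff.mp (hNZ hxN) g))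
        obtain ⟨P, hP⟩ := (IsPGroup.of_card (n := 1) (G := ↥(Subgroup.zpowers (⟨v, hvM⟩ : ↥M))) (by
          rw [Nat.card_zpowers, Subgroup.orderOf_mk, pow_one]
          exact orderOf_eq_prime (hV.2 v hv) hv1) : IsPGroup 2 _).exists_le_sylow
        haveI hPn : (P : Subgroup ↥M).Normal := inferInstance
        haveI : (P : Subgroup ↥M).Characteristic := P.characteristic_of_normal hPn
        have hmem := Components.le_pCore (p := 2) (N := (P : Subgroup ↥M).map M.subtype) inferInstance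
          (P.2.map _) (Subgroup.mem_map_of_mem M.subtype (hP (Subgroup.mem_zpowers _)))
        rw [hO, Subgroup.mem_bot] at hmem
        exact hv1 hmem
      obtain ⟨w₀, hw₀, hw₀W⟩ := SetLike.exists_of_lt hWlt
      have hcardlt : Nat.card ↥W < Nat.card ↥V := lt_of_le_of_ne (Subgroup.card_le_of_le hWlt.le)
        fun e => hWlt.ne (Subgroup.eq_of_le_of_card_ge hWlt.le e.ge)
      have hnot : ¬ Cfsg.IsSidkiPair W := fun h =>
        hminV W hcardlt (hsub W inf_le_left) hW h (by rw [hO, inf_bot_eq])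
      simp only [Cfsg.IsSidkiPair, not_forall, not_exists, not_and] at hnot
      obtain ⟨h, t, ht, hodd, hth, hfree⟩ := hnot
      have hhC : h ∈ C := by
        refine mem_of_inverts hodd hth ?_
        rw [commutatorElement_def, show h * t * h⁻¹ * t⁻¹ = (h * t * h⁻¹) * t⁻¹ by group]
        exact mul_mem ((inferInstance : C.Normal).conj_mem t (Subgroup.mem_inf.mp ht).2 h)
          (inv_mem (Subgroup.mem_inf.mp ht).2)
      obtain ⟨w, hw, hw1, hwh⟩ := hS h t (Subgroup.mem_inf.mp ht).1 hodd hth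
      have hwC : w ∉ C := fun h' => hfree w (Subgroup.mem_inf.mpr ⟨hw, h'⟩) hw1 hwh
      have htn : t * n₀ * t⁻¹ = n₀ := by
        rw [← Subgroup.mem_centralizer_iff.mp (Subgroup.mem_inf.mp ht).2 n₀ hn₀, mul_inv_cancel_right]
      have hhn : Commute n₀ h := Subgroup.mem_centralizer_iff.mp hhC n₀ hn₀
      have hwn := hsign htopC w hw hwC n₀ hn₀
      have hinv : t * w * (h * n₀) * (t * w)⁻¹ = (h * n₀)⁻¹ := by
        calc t * w * (h * n₀) * (t * w)⁻¹ = t * (w * h * w⁻¹ * (w * n₀ * w⁻¹)) * t⁻¹ := by group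
          _ = (t * h * t⁻¹) * (t * n₀ * t⁻¹)⁻¹ := by rw [hwh, mul_inv_cancel_right, hwn]; group
          _ = (h * n₀)⁻¹ := by rw [hth, htn, ← mul_inv_rev, hhn.eq]
      have hodd' : Odd (orderOf (h * n₀)) :=
        (hodd.mul hn₀o).of_dvd_nat (hhn.symm.orderOf_mul_dvd_mul_orderOf)
      obtain ⟨u, hu, hu1, huc⟩ := hS (h * n₀) (t * w) (mul_mem (Subgroup.mem_inf.mp ht).1 hw) hodd' hinv
      by_cases huC : u ∈ C
      · refine hfree u (Subgroup.mem_inf.mpr ⟨hu, huC⟩) hu1 ?_
        have h2 : u * n₀ = n₀ * u := (Subgroup.mem_centralizer_iff.mp huC n₀ hn₀).symm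
        calc u * h = u * (h * n₀) * n₀⁻¹ := by group
          _ = h * (n₀ * u) * n₀⁻¹ := by rw [huc]; group
          _ = h * u := by rw [← h2]; group
      · have hun := hsign htopC u hu huC n₀ hn₀
        have huh : u * h * u⁻¹ = h * n₀ * n₀ := by
          calc u * h * u⁻¹ = (u * (h * n₀) * u⁻¹) * (u * n₀ * u⁻¹)⁻¹ := by group
            _ = h * n₀ * n₀ := by rw [huc, mul_inv_cancel_right, hun, inv_inv]
        have hfix : w * (u * h * u⁻¹) * w⁻¹ = u * h * u⁻¹ := by
          calc w * (u * h * u⁻¹) * w⁻¹ = (w * u) * h * (w * u)⁻¹ := by group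
            _ = u * (w * h * w⁻¹) * u⁻¹ := by rw [hVcomm w hw u hu]; group
            _ = u * h * u⁻¹ := by rw [hwh, mul_inv_cancel_right]
        rw [huh, show w * (h * n₀ * n₀) * w⁻¹ = (w * h * w⁻¹) * (w * n₀ * w⁻¹) * (w * n₀ * w⁻¹) by group,
          hwh, mul_inv_cancel_right, hwn, mul_assoc, mul_assoc, mul_left_cancel_iff, ← mul_inv_rev,
          inv_eq_iff_mul_eq_one, ← sq, ← sq, ← pow_mul] at hfix
        obtain ⟨k, hk⟩ := hn₀o
        have h4 := Nat.le_of_dvd (by norm_num) (orderOf_dvd_of_pow_eq_one hfix)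
        have : orderOf n₀ ∣ 4 := orderOf_dvd_of_pow_eq_one hfix
        have h1 : orderOf n₀ ≠ 1 := fun e => hn₀1 (orderOf_eq_one_iff.mp e)
        have h3 : orderOf n₀ = 3 := by omega
        rw [h3] at this
        omega
  -- components
  have hfit : Cfsg.fittingSubgroup G = ⊥ := by
    by_contra hF
    haveI : Group.IsNilpotent ↥(Cfsg.fittingSubgroup G) := Components.fittingSubgroup_isNilpotent
    haveI : Nontrivial ↥(Cfsg.fittingSubgroup G) := (Subgroup.nontrivial_iff_ne_bot _).mpr hF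
    have h1 := hnoab ((Subgroup.center ↥(Cfsg.fittingSubgroup G)).map (Cfsg.fittingSubgroup G).subtype)
      inferInstance (Subgroup.map_isMulCommutative _ _)
    rw [Subgroup.map_eq_bot_iff_of_injective _ (Cfsg.fittingSubgroup G).subtype_injective] at h1
    exact (Group.IsNilpotent.center_ne_bot (G := ↥(Cfsg.fittingSubgroup G))) h1
  have hgf : Cfsg.generalizedFittingSubgroup G = Cfsg.layer G := by
    rw [Cfsg.generalizedFittingSubgroup, hfit, sup_bot_eq]
  obtain ⟨K, hK⟩ : ∃ K : Subgroup G, Cfsg.IsComponent K := by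
    by_contra h
    push Not at h
    obtain ⟨v, hv, hv1⟩ := (Subgroup.bot_or_exists_ne_one V).resolve_left hV1
    refine hv1 ?_
    rw [← Subgroup.mem_bot, ← hfit]
    refine Components.centralizer_genFitting_le_fittingSubgroup ?_
    rw [hgf, Components.layer_eq_bot_iff.mpr h]
    exact Subgroup.mem_centralizer_iff.mpr fun x hx => by simp [Subgroup.mem_bot.mp hx]
  have hZ : ∀ x ∈ K, x ∈ Subgroup.centralizer (K : Set G) → x = 1 := by
    intro x hx hxc
    have h1 : (Subgroup.center ↥K).map K.subtype ≤ Cfsg.fittingSubgroup G := by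
      refine Components.le_fittingSubgroup_of_subnormal ?_ ?_
      · refine Subgroup.IsSubnormal.step _ K (Subgroup.map_subtype_le _) hK.1 ?_
        rw [Subgroup.subgroupOf, Subgroup.comap_map_eq_self_of_injective K.subtype_injective]
        infer_instance
      · exact Components.isNilpotent_of_isMulCommutative (Subgroup.map_isMulCommutative _ _)
    rw [hfit, le_bot_iff, Subgroup.map_eq_bot_iff_of_injective _ K.subtype_injective] at h1
    have : (⟨x, hx⟩ : ↥K) ∈ Subgroup.center ↥K := Subgroup.mem_center_iff.mpr fun a =>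
      Subtype.ext (Subgroup.mem_centralizer_iff.mp hxc a a.2)
    rw [h1, Subgroup.mem_bot] at this
    exact congrArg Subtype.val this
  -- the normal closure has trivial centraliser
  set N := Subgroup.normalClosure (K : Set G)
  have hKN : K ≤ N := Subgroup.le_normalClosure
  have hCN : Subgroup.centralizer (N : Set G) = ⊥ := by
    by_contra hB
    set B := Subgroup.centralizer (N : Set G) with hBdef
    have hdisj : ∀ x ∈ N, x ∈ B → x = 1 := fun x hx hxB => by
      have : x ∈ N ⊓ B := Subgroup.mem_inf.mpr ⟨hx, hxB⟩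
      rwa [hnoab (N ⊓ B) inferInstance ⟨⟨fun a b => Subtype.ext (Subgroup.mem_centralizer_iff.mp
        (Subgroup.mem_inf.mp b.2).2 a (Subgroup.mem_inf.mp a.2).1)⟩⟩, Subgroup.mem_bot] at this
    have hne : ∀ A B : Subgroup G, A.Normal → B.Normal → (∀ x ∈ A, x ∈ B → x = 1) → B ≠ ⊥ → A ⊔ V ≠ ⊤ := by
      intro A B hA hB hd hB1 htop
      haveI := hA
      refine hB1 (hnoab B hB ⟨⟨fun a b => Subtype.ext ?_⟩⟩)
      have hQc : ∀ x y : G, x * y * x⁻¹ * y⁻¹ ∈ A := by
        intro x y
        rw [← QuotientGroup.eq_one_iff]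
        have him : ∀ z : G, ∃ v ∈ V, (z : G ⧸ A) = (v : G ⧸ A) := fun z => by
          have h2 := Subgroup.mem_map_of_mem (QuotientGroup.mk' A) (htop ▸ Subgroup.mem_top z : z ∈ A ⊔ V)
          rw [Subgroup.map_sup, QuotientGroup.map_mk'_self, bot_sup_eq] at h2
          obtain ⟨v, hv, hve⟩ := h2
          exact ⟨v, hv, hve.symm⟩
        obtain ⟨v, hv, e1⟩ := him x
        obtain ⟨w, hw, e2⟩ := him y
        simp only [QuotientGroup.mk_mul, QuotientGroup.mk_inv, e1, e2]
        rw [← QuotientGroup.mk_mul, hVcomm v hv w hw, QuotientGroup.mk_mul]; group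
      have h1 := hd _ (hQc a b) (mul_mem (mul_mem (mul_mem a.2 b.2) (inv_mem a.2)) (inv_mem b.2))
      exact commutatorElement_eq_one_iff_mul_comm.mp h1
    have hN1 : N ≠ ⊥ := fun e => Components.IsComponent.ne_bot hK (le_bot_iff.mp (e ▸ hKN))
    haveI hBn : B.Normal := inferInstance
    haveI hNn : N.Normal := Subgroup.normalClosure_normal
    set WB := V ⊓ Subgroup.centralizer (B : Set G)
    have hWB : WB ≠ ⊥ := hcent B hBn (hne B N hBn hNn (fun x h1 h2 => hdisj x h2 h1) hN1)
    have hNV := hne N B hNn hBn hdisj hB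
    obtain ⟨a, ha, t, ht, haodd, hta, hfa⟩ := exists_free hminG hO (hsub WB inf_le_left) hWB
      Subgroup.le_normalizer_of_normal hNn.isSubnormal
      (fun e => hNV (top_le_iff.mp (e ▸ sup_le_sup_left inf_le_left N)))
      (eq_bot_iff.mpr fun u hu => Subgroup.mem_bot.mpr (hZ2 N hNn u
        (Subgroup.mem_inf.mp (Subgroup.mem_inf.mp hu).1).1 (Subgroup.mem_inf.mp hu).2
        (Subgroup.mem_inf.mp (Subgroup.mem_inf.mp hu).1).2))
    set Ca := V ⊓ Subgroup.centralizer ({a} : Set G)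
    obtain ⟨ht1, ht2⟩ := Subgroup.mem_inf.mp ht
    have hCa : ∀ u ∈ Ca, u * a = a * u := fun u hu =>
      Subgroup.mem_centralizer_singleton_iff.mp (Subgroup.mem_inf.mp hu).2
    by_cases hCa1 : Ca = ⊥
    · obtain ⟨w, hw, hw1, hwa⟩ := hS a t ht1 haodd hta
      refine hw1 ?_
      rw [← Subgroup.mem_bot, ← hCa1]
      exact Subgroup.mem_inf.mpr ⟨hw, Subgroup.mem_centralizer_singleton_iff.mpr hwa⟩
    have hBV := hne B N hBn hNn (fun x h1 h2 => hdisj x h2 h1) hN1
    obtain ⟨b, hb, c, hc, hbodd, hcb, hfb⟩ := exists_free hminG hO (hsub Ca inf_le_left) hCa1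
      Subgroup.le_normalizer_of_normal hBn.isSubnormal
      (fun e => hBV (top_le_iff.mp (e ▸ sup_le_sup_left inf_le_left B)))
      (eq_bot_iff.mpr fun u hu => by
        obtain ⟨h1, h2⟩ := Subgroup.mem_inf.mp hu
        exact Subgroup.mem_bot.mpr (hfa u (Subgroup.mem_inf.mpr ⟨(Subgroup.mem_inf.mp h1).1, h2⟩) (hCa u h1)))
    have hcab : Commute a b := Subgroup.mem_centralizer_iff.mp hb a ha
    have hc1 := (Subgroup.mem_inf.mp hc).1
    have hinv : t * c * (a * b) * (t * c)⁻¹ = (a * b)⁻¹ := by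
      calc t * c * (a * b) * (t * c)⁻¹ = t * ((c * a * c⁻¹) * (c * b * c⁻¹)) * t⁻¹ := by group
        _ = (t * a * t⁻¹) * (t * b⁻¹ * t⁻¹) := by rw [hCa c hc, mul_inv_cancel_right, hcb]; group
        _ = a⁻¹ * b⁻¹ := by
            rw [hta, ← Subgroup.mem_centralizer_iff.mp ht2 _ (inv_mem hb), mul_inv_cancel_right]
        _ = (a * b)⁻¹ := by rw [← mul_inv_rev, hcab.eq]
    obtain ⟨w, hw, hw1, hwab⟩ := hS (a * b) (t * c) (mul_mem ht1 hc1)
      ((haodd.mul hbodd).of_dvd_nat hcab.orderOf_mul_dvd_mul_orderOf) hinv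
    -- decompose
    have hd : (a⁻¹ * (w * a * w⁻¹)) = b * (w * b * w⁻¹)⁻¹ := by
      calc a⁻¹ * (w * a * w⁻¹) = a⁻¹ * (w * (a * b) * w⁻¹) * (w * b * w⁻¹)⁻¹ := by group
        _ = _ := by rw [hwab]; group
    have hwa : w * a = a * w := by
      have h1 := hdisj _ (mul_mem (inv_mem ha) (hNn.conj_mem a ha w))
        (hd ▸ mul_mem hb (inv_mem (hBn.conj_mem b hb w)))
      rw [inv_mul_eq_one] at h1
      exact (eq_mul_inv_iff_mul_eq.mp h1).symm
    have hwb : w * b = b * w := mul_left_cancel (a := a) <| by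
      rw [← mul_assoc, ← hwa, mul_assoc, hwab, mul_assoc]
    exact hw1 (hfb w (Subgroup.mem_inf.mpr ⟨hw, Subgroup.mem_centralizer_singleton_iff.mpr hwa⟩) hwb)
  haveI hNn : N.Normal := Subgroup.normalClosure_normal
  have hNtop : N ⊔ V = ⊤ := by
    by_contra hne
    exact hcent N hNn hne (by rw [hCN, inf_bot_eq])
  -- `K` is normal
  have hKn : V ≤ Subgroup.normalizer (K : Set G) := by
    by_contra hVK
    obtain ⟨v, hv, hvK⟩ := SetLike.not_le_iff_exists.mp hVK
    have hother : ∀ u ∈ V, u ∉ Subgroup.normalizer (K : Set G) → ∀ k ∈ K, ∀ l ∈ K,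
        Commute (u * k * u⁻¹) l ∧ (u * k * u⁻¹ ∈ K → k = 1) := by
      intro u hu huK k hk l hl
      have hne : K.map (MulAut.conj u).toMonoidHom ≠ K := fun e =>
        huK (Components.mem_normalizer_iff_map_conj.mpr e)
      have hcm := Components.IsComponent.commutator_eq_bot_of_ne
        (Components.IsComponent.map_conj hK u) hK hne
      have hmem : u * k * u⁻¹ ∈ K.map (MulAut.conj u).toMonoidHom := ⟨k, hk, rfl⟩
      refine ⟨Components.commute_of_commutator_eq_bot hcm hmem hl, fun hmK => ?_⟩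
      have := hZ _ hmK (Subgroup.mem_centralizer_iff.mpr fun x hx =>
        (Components.commute_of_commutator_eq_bot hcm hmem hx).symm)
      rwa [conj_eq_one_iff] at this
    set V₀ := V ⊓ Subgroup.normalizer (K : Set G)
    by_cases hV₀ : V₀ = ⊥
    · obtain ⟨k, hk, hk1, hkodd⟩ := exists_odd_mem (X := K) fun hp => by
        have := Components.le_pCore_of_subnormal hK.1 hp
        rw [hO, le_bot_iff] at this
        exact Components.IsComponent.ne_bot hK this
      have hc := ((hother v hv hvK k⁻¹ (inv_mem hk) k hk).1)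
      set h := k * (v * k⁻¹ * v⁻¹) with hh
      have hodd : Odd (orderOf h) := (hkodd.mul (by
        rw [show v * k⁻¹ * v⁻¹ = MulAut.conj v k⁻¹ from rfl, MulEquiv.orderOf_eq, orderOf_inv]
        exact hkodd)).of_dvd_nat hc.symm.orderOf_mul_dvd_mul_orderOf
      have hinv : v * h * v⁻¹ = h⁻¹ := by
        rw [hh, show (k * (v * k⁻¹ * v⁻¹))⁻¹ = v * k * v⁻¹ * k⁻¹ by group, hVinv v hv]
        calc v * (k * (v * k⁻¹ * v)) * v = v * k * v * k⁻¹ * (v * v) := by group
          _ = _ := by rw [← sq, hV.2 v hv, mul_one]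
      obtain ⟨w, hw, hw1, hwh⟩ := hS h v hv hodd hinv
      have hwK : w ∉ Subgroup.normalizer (K : Set G) := fun h' => hw1 (by
        rw [← Subgroup.mem_bot, ← hV₀]; exact Subgroup.mem_inf.mpr ⟨hw, h'⟩)
      rcases eq_or_ne w v with rfl | hwv
      · rw [hwh] at hinv
        rw [mul_inv_cancel_right] at hinv
        have h2 : h ^ 2 = 1 := by rw [sq]; conv_lhs => arg 2; rw [hinv]
                                  exact mul_inv_cancel h
        have h1 : h = 1 := orderOf_eq_one_iff.mp (by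
          obtain ⟨j, hj⟩ := hodd
          have := Nat.le_of_dvd two_pos (orderOf_dvd_of_pow_eq_one h2)
          omega)
        rw [hh, mul_eq_one_iff_inv_eq] at h1
        exact hk1 (inv_eq_one.mp ((hother w hv hvK k⁻¹ (inv_mem hk) k hk).2 (h1 ▸ inv_mem hk)))
      · have hwvK : w * v ∉ Subgroup.normalizer (K : Set G) := fun h' => hwv (by
          have : w * v = 1 := by rw [← Subgroup.mem_bot, ← hV₀]; exact Subgroup.mem_inf.mpr ⟨mul_mem hw hv, h'⟩
          rw [mul_eq_one_iff_eq_inv, hVinv v hv] at this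
          exact this)
        -- `k` commutes with `K` modulo the other factors
        refine hk1 (hZ k hk (Subgroup.mem_centralizer_iff.mpr fun l hl => ?_))
        have e1 : Commute h l := by
          have e2 : h = (w * k * w⁻¹) * (w * v * k⁻¹ * (w * v)⁻¹) := by
            calc h = w * h * w⁻¹ := by rw [hwh, mul_inv_cancel_right]
              _ = _ := by rw [hh]; group
          rw [e2]
          exact (hother w hw hwK k hk l hl).1.mul_left
            (hother _ (mul_mem hw hv) hwvK k⁻¹ (inv_mem hk) l hl).1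
        have e3 : Commute (v * k⁻¹ * v⁻¹) l := (hother v hv hvK k⁻¹ (inv_mem hk) l hl).1
        have : Commute k l := by
          have := e1.mul_left e3.inv_left
          rwa [hh, mul_inv_cancel_right] at this
        exact this.symm.eq
    · have htop : K ⊔ V₀ ≠ ⊤ := fun e => hvK (by
        rw [show Subgroup.normalizer (K : Set G) = ⊤ from top_le_iff.mp
          (e ▸ sup_le Subgroup.le_normalizer inf_le_right)]
        exact Subgroup.mem_top v)
      have hcC : V₀ ⊓ Subgroup.centralizer (K : Set G) = ⊥ := eq_bot_iff.mpr fun u hu => by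
        obtain ⟨hu1, hu2⟩ := Subgroup.mem_inf.mp hu
        rw [← hCN]
        -- `u` commutes with every conjugate of `K`
        refine Subgroup.mem_centralizer_iff.mpr fun x hx => ?_
        have hle : N ≤ Subgroup.centralizer ({u} : Set G) := by
          refine (Subgroup.closure_le _).mpr fun y hy => ?_
          obtain ⟨k, hk, hky⟩ := Group.mem_conjugatesOfSet_iff.mp hy
          obtain ⟨g, rfl⟩ := isConj_iff.mp hky
          obtain ⟨w, hw, n, hn, rfl⟩ := Subgroup.mem_sup_of_normal_right.mp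
            (show g ∈ V ⊔ N by rw [sup_comm, hNtop]; exact Subgroup.mem_top g)
          rw [SetLike.mem_coe, Subgroup.mem_centralizer_singleton_iff]
          have hNle : N ≤ Subgroup.normalizer (K : Set G) :=
            le_trans (Subgroup.normalClosure_le_normal (Components.IsComponent.le_layer hK))
              (Components.IsComponent.layer_le_normalizer hK)
          have hk' : n * k * n⁻¹ ∈ K := (Subgroup.mem_normalizer_iff.mp (hNle hn) k).mp hk
          have c1 : Commute u (n * k * n⁻¹) := (Subgroup.mem_centralizer_iff.mp hu2 _ hk').symm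
          have c2 : Commute u w := hVcomm u (Subgroup.mem_inf.mp hu1).1 w hw
          rw [show w * n * k * (w * n)⁻¹ = w * (n * k * n⁻¹) * w⁻¹ by group]
          exact ((c2.mul_right c1).mul_right c2.inv_right).symm.eq
        exact (Subgroup.mem_centralizer_singleton_iff.mp (hle hx))
      obtain ⟨k, hk, t, ht, hkodd, htk, hfree⟩ := exists_free hminG hO (hsub V₀ inf_le_left) hV₀
        inf_le_right hK.1 htop hcC
      obtain ⟨w, hw, hw1, hwk⟩ := hS k t (Subgroup.mem_inf.mp ht).1 hkodd htk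
      by_cases hwK : w ∈ Subgroup.normalizer (K : Set G)
      · exact hw1 (hfree w (Subgroup.mem_inf.mpr ⟨hw, hwK⟩) hwk)
      · have hk1 : k = 1 := (hother w hw hwK k hk k hk).2 (by rwa [hwk, mul_inv_cancel_right])
        obtain ⟨u, hu, hu1⟩ := (Subgroup.bot_or_exists_ne_one V₀).resolve_left hV₀
        exact hu1 (hfree u hu (by simp [hk1]))
  have hNK : N ≤ Subgroup.normalizer (K : Set G) := by
    have hle : N ≤ Cfsg.layer G := Subgroup.normalClosure_le_normal (Components.IsComponent.le_layer hK)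
    exact hle.trans (Components.IsComponent.layer_le_normalizer hK)
  haveI hKnorm : K.Normal := Subgroup.normalizer_eq_top_iff.mp (top_le_iff.mp (hNtop ▸ sup_le hNK hKn))
  have hNeq : N = K := le_antisymm (Subgroup.normalClosure_le_normal le_rfl) hKN
  have hlayer : Cfsg.layer G = K := le_antisymm (Components.layer_le_iff.mpr fun L hL => by
    by_contra hLK
    have hne : L ≠ K := fun e => hLK e.le
    have := Components.le_centralizer_of_commutator_eq_bot
      (Components.IsComponent.commutator_eq_bot_of_ne hL hK hne)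
    rw [← hNeq, hCN, le_bot_iff] at this
    exact Components.IsComponent.ne_bot hL this) (Components.IsComponent.le_layer hK)
  have hqs := Components.IsComponent.isQuasisimple hK
  rw [hgf, hlayer]
  refine ⟨?_, Components.IsQuasisimple.not_isMulCommutative hqs, by rw [sup_comm, ← hNeq]; exact hNtop⟩
  haveI := Components.IsQuasisimple.nontrivial hqs
  refine ⟨fun L hL => ?_⟩
  rcases Components.IsQuasisimple.normal_eq_top_or_le_center hqs L with h | h
  · exact Or.inr h
  · refine Or.inl (eq_bot_iff.mpr fun x hx => Subgroup.mem_bot.mpr (Subtype.ext ?_))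
    exact hZ x x.2 (Subgroup.mem_centralizer_iff.mpr fun y hy =>
      congrArg Subtype.val (Subgroup.mem_center_iff.mp (h hx) ⟨y, hy⟩))

end Cfsg.Agent.S3048
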