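import Cfsg.Statements.S3049
import Cfsg.Agent.Lib.LocalEven2.Sylow
import Cfsg.Agent.Lib.Components.GenFitting
import Cfsg.Agent.Lib.Components.Balance
import Cfsg.Agent.Lib.Components.PComponent
import Cfsg.Agent.Lib.OddLocal.Coprime
import Cfsg.Agent.Lib.Transfer.Frobenius
import Cfsg.Agent.Lib.LocalEven.Kieler
import Cfsg.Agent.Lib.LocalEven.PCore
import Cfsg.Agent.Lib.Coprime.Hall

set_option autoImplicit false
open Cfsg

namespace Cfsg.Agent.S3049

open scoped commutatorElement
open Cfsg.Agent.Lib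

variable {G : Type*} [Group G] [Finite G] {p : ℕ} [Fact p.Prime]

theorem mem_pair (hrank : Cfsg.PRankLE p 2 G) {z x r : G} (hz : z ^ p = 1) (hx : x ^ p = 1)
    (hr : r ^ p = 1) (hzx : z * x = x * z) (hzr : z * r = r * z) (hxr : x * r = r * x)
    (hz1 : z ≠ 1) (hxz : x ∉ Subgroup.zpowers z) : ∃ a b : ℤ, r = z ^ a * x ^ b := by
  let D : Subgroup G :=
    { carrier := {g | ∃ a b : ℤ, g = z ^ a * x ^ b}
      one_mem' := ⟨0, 0, by simp⟩
      mul_mem' := fun {g h} ⟨a, b, hg⟩ ⟨c, d, hh⟩ => ⟨a + c, b + d, by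
        rw [hg, hh, ((show Commute z x from hzx).zpow_zpow c b).symm.mul_mul_mul_comm, zpow_add,
          zpow_add]⟩
      inv_mem' := fun {g} ⟨a, b, hg⟩ => ⟨-a, -b, by
        rw [hg, mul_inv_rev, zpow_neg, zpow_neg]
        exact ((show Commute z x from hzx).zpow_zpow a b).inv_inv.eq.symm⟩ }
  have hzD : z ∈ D := ⟨1, 0, by simp⟩
  have hxD : x ∈ D := ⟨0, 1, by simp⟩
  by_contra hc
  set A := Subgroup.closure ({z, x, r} : Set G)
  have hcomm : IsMulCommutative ↥A := Subgroup.isMulCommutative_closure (by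
    rintro a (rfl | rfl | rfl) b (rfl | rfl | rfl) <;>
      first | rfl | assumption | exact hzx.symm | exact hzr.symm | exact hxr.symm)
  have hexp : ∀ a ∈ A, a ^ p = 1 := by
    intro a ha
    induction ha using Subgroup.closure_induction with
    | mem a ha => rcases ha with rfl | rfl | rfl <;> assumption
    | one => exact one_pow _
    | mul a b ha hb iha ihb =>
      have hab : Commute (⟨a, ha⟩ : ↥A) ⟨b, hb⟩ := hcomm.is_comm.comm _ _
      rw [(show Commute a b from congrArg Subtype.val hab.eq).mul_pow, iha, ihb, one_mul]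
    | inv a ha iha => rw [inv_pow, iha, inv_one]
  have hle := hrank A hcomm hexp
  have hDA : D ≤ A := by
    rintro g ⟨a, b, rfl⟩
    have h1 : z ∈ A := Subgroup.subset_closure (Or.inl rfl)
    have h2 : x ∈ A := Subgroup.subset_closure (Or.inr (Or.inl rfl))
    exact mul_mem (zpow_mem h1 a) (zpow_mem h2 b)
  have hp : p.Prime := Fact.out
  have hAD : D < A := lt_of_le_not_ge hDA fun h =>
    hc (h (Subgroup.subset_closure (Or.inr (Or.inr rfl))))
  have hzD' : Subgroup.zpowers z < D := lt_of_le_not_ge (Subgroup.zpowers_le.mpr hzD) fun h => hxz (h hxD)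
  have hlt : ∀ {X Y : Subgroup G}, X < Y → Nat.card ↥X < Nat.card ↥Y := fun {X Y} h =>
    lt_of_le_of_ne (Subgroup.card_le_of_le h.le) fun e => h.ne (Subgroup.eq_of_le_of_card_ge h.le e.ge)
  have hDp : IsPGroup p ↥D := fun a => ⟨1, Subtype.ext (by simpa using hexp a (hDA a.2))⟩
  obtain ⟨k, hk⟩ := IsPGroup.iff_card.mp hDp
  have h1 := hlt hzD'
  rw [Nat.card_zpowers, orderOf_eq_prime hz hz1, hk] at h1
  have h2 : 2 ≤ k := (Nat.pow_lt_pow_iff_right hp.one_lt).mp (show p ^ 1 < p ^ k by rwa [pow_one])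
  have h3 := hlt hAD
  rw [hk] at h3
  have := Nat.pow_le_pow_right hp.pos h2
  omega

/-- The core argument: a perfect subgroup of order divisible by `p` cannot be centralised by an
element of order `p` commuting with, but not generating, an isolated element centralising its
Sylow `p`-subgroup. -/
theorem false_of_central (hp : p ≠ 2) (hrank : Cfsg.PRankLE p 2 G) {x z : G} (hx : orderOf x = p)
    (hiso : Cfsg.IsIsolated x) {L : Subgroup G} (hperf : ⁅L, L⁆ = L) (hpL : p ∣ Nat.card ↥L)
    (hzL : ∀ l ∈ L, z * l = l * z) (hz : z ^ p = 1) (hz1 : z ≠ 1) (hzx : z * x = x * z)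
    (hxz : x ∉ Subgroup.zpowers z) (R : Sylow p ↥L)
    (hxR : ∀ r ∈ (R : Subgroup ↥L), x * (r : G) = r * x) : False := by
  have hxp : x ^ p = 1 := hx ▸ pow_orderOf_eq_one x
  have hpr : p.Prime := Fact.out
  have hnpc : Cfsg.HasNormalPComplement p ↥L := by
    refine Transfer.hasNormalPComplement_of_frobenius R fun Q hQ g hg hgo => ?_
    have hmain := OddLocal.le_centralizer_of_fixes_pow_eq_one hp (A := Subgroup.zpowers g)
      (by rwa [Nat.card_zpowers]) Q (R.2.to_le hQ) (Subgroup.zpowers_le.mpr hg) (fun r hr hrp => ?_)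
    · exact hmain (Subgroup.mem_zpowers g)
    rw [Subgroup.zpowers_le, Subgroup.mem_centralizer_singleton_iff]
    have hrG : (r : G) ^ p = 1 := by simpa using congrArg Subtype.val hrp
    obtain ⟨a, b, hab⟩ := mem_pair hrank hz hxp hrG hzx (hzL r r.2) (hxR r (hQ hr)) hz1 hxz
    set r' := g * r * g⁻¹ with hr'
    have hr'Q : r' ∈ Q := (Subgroup.mem_normalizer_iff.mp hg r).mp hr
    have hr'p : (r' : G) ^ p = 1 := by
      have h1 : r' ^ p = 1 := by rw [hr', conj_pow, hrp, mul_one, mul_inv_cancel]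
      simpa using congrArg Subtype.val h1
    have hgz : (g : G) * z * (g : G)⁻¹ = z := by rw [← hzL g g.2, mul_inv_cancel_right]
    set x' := (g : G) * x * (g : G)⁻¹ with hx'
    have hx'p : x' ^ p = 1 := by rw [hx', conj_pow, hxp, mul_one, mul_inv_cancel]
    have hconj : (r' : G) = z ^ a * x' ^ b := by
      rw [hx', hr', Subgroup.coe_mul, Subgroup.coe_mul, Subgroup.coe_inv, hab, conj_zpow]
      conv_rhs => rw [← hgz, conj_zpow]
      group
    have hfix : (r' : G) = r := by
      by_cases hb : (p : ℤ) ∣ b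
      · have e1 : ∀ y : G, y ^ p = 1 → y ^ b = 1 := fun y hy =>
          orderOf_dvd_iff_zpow_eq_one.mp
            (dvd_trans (Int.natCast_dvd_natCast.mpr (orderOf_dvd_of_pow_eq_one hy)) hb)
        rw [hconj, hab, e1 x hxp, e1 x' hx'p]
      have hcop : IsCoprime (p : ℤ) b :=
        (Nat.prime_iff_prime_int.mp hpr).coprime_iff_not_dvd.mpr hb
      obtain ⟨u, v, huv⟩ := hcop
      have hxx : Commute x x' := by
        have h1 : Commute x (x' ^ b) := by
          have h2 : x' ^ b = (z ^ a)⁻¹ * (r' : G) := by rw [hconj]; group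
          rw [h2]
          exact (((show Commute z x from hzx).symm).zpow_right a).inv_right.mul_right
            (hxR r' (hQ hr'Q))
        have h2 := h1.zpow_right v
        rw [← zpow_mul, mul_comm, show v * b = 1 - u * (p : ℤ) by linarith, zpow_sub, zpow_one,
          mul_comm u, zpow_mul, zpow_natCast, hx'p, one_zpow, inv_one, mul_one] at h2
        exact h2
      rw [hconj, hab, show x' = x from hiso g hxx]
    have : g * r * g⁻¹ = r := Subtype.ext hfix
    exact mul_inv_eq_iff_eq_mul.mp this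
  -- a perfect group with a normal `p`-complement has order prime to `p`
  obtain ⟨R₀, N, hNn, hN⟩ := hnpc
  haveI := hNn
  have hR0 : (R₀ : Subgroup ↥L) ≠ ⊥ := R₀.ne_bot_of_dvd_card hpL
  haveI : Group.IsPerfect ↥L := ⟨by
    apply Subgroup.map_injective L.subtype_injective
    rw [commutator_def, Subgroup.map_commutator, ← MonoidHom.range_eq_map, Subgroup.range_subtype,
      hperf]⟩
  have hsol : Group.IsSolvable (↥L ⧸ N) := by
    have hQp : IsPGroup p (↥L ⧸ N) := R₀.2.of_equiv hN.symm.QuotientMulEquiv.symm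
    haveI := hQp.isNilpotent
    infer_instance
  haveI hperfQ : Group.IsPerfect (↥L ⧸ N) := inferInstance
  haveI := Components.subsingleton_of_perfect_solvable hsol
  have hNtop : N = ⊤ := QuotientGroup.subgroup_eq_top_of_subsingleton N inferInstance
  rw [hNtop, Subgroup.isComplement'_top_left] at hN
  exact hR0 hN


/-- Let G be a finite group and p an odd prime with O_{p'}(G) = 1. Suppose that G has p-rank at most 2 (no elementary abelian subgroup of order p³) and that some element x of order p is isolated in G (no G-conjugate of x other than x commutes with x) and not central. Then the generalized Fitting subgroup F*(G) is a non-abelian simple group. Since O_{p'}(G) = 1, such an x is not central modulo O_{p'}(G): the hypotheses describe a counterexample to the Z*_p statement in p-rank at most 2. -/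
theorem result {G : Type*} [Group G] [Finite G] {p : ℕ} [Fact p.Prime] (hp : p ≠ 2) (hcore : Cfsg.pPrimeCore p G = ⊥)
    (hrank : Cfsg.PRankLE p 2 G) (x : G) (hx : orderOf x = p) (hiso : Cfsg.IsIsolated x) (hnc : x ∉ Subgroup.center G) :
    IsSimpleGroup ↥(Cfsg.generalizedFittingSubgroup G) ∧ ¬ IsMulCommutative ↥(Cfsg.generalizedFittingSubgroup G) := by
  classical
  have hpr : p.Prime := Fact.out
  have hxp : x ^ p = 1 := hx ▸ pow_orderOf_eq_one x
  obtain ⟨P, hP⟩ := (LocalEven2.isPGroup_zpowers (p := p) (x := x) ⟨1, by rw [hx, pow_one]⟩).exists_le_sylow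
  have hxP : x ∈ (P : Subgroup G) := hP (Subgroup.mem_zpowers x)
  have hxC := LocalEven2.isolated_central hiso P.2 hxP
  have hxQ : x ∉ Cfsg.pCore p G := by
    intro hxQ
    refine hnc (Subgroup.mem_center_iff.mpr fun g => ?_)
    have h1 : g * x * g⁻¹ ∈ Cfsg.pCore p G :=
      (inferInstance : (Cfsg.pCore p G).Normal).conj_mem x hxQ g
    have h2 : Cfsg.pCore p G ≤ (P : Subgroup G) := LocalEven.pCore_le_sylow P
    have h3 := hiso g (hxC _ (h2 h1))
    exact mul_inv_eq_iff_eq_mul.mp h3
  have hQP : Cfsg.pCore p G ≤ (P : Subgroup G) := LocalEven.pCore_le_sylow P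
  -- Sylow subgroups of components
  have hsyl : ∀ K : Subgroup G, Cfsg.IsComponent K → ∃ R : Sylow p ↥K,
      (R : Subgroup ↥K).map K.subtype = (P : Subgroup G) ⊓ K := fun K hK =>
    (LocalEven.IsSylowOf.inf_subnormal (LocalEven.isSylowOf_top P) hK.1).exists_sylow
  have hxK : ∀ K : Subgroup G, ∀ R : Sylow p ↥K, (R : Subgroup ↥K).map K.subtype = (P : Subgroup G) ⊓ K →
      ∀ r ∈ (R : Subgroup ↥K), x * (r : G) = r * x := fun K R hR r hr =>
    hxC r ((Subgroup.mem_inf.mp (hR ▸ Subgroup.mem_map_of_mem K.subtype hr)).1)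
  have hdvd : ∀ K : Subgroup G, Cfsg.IsComponent K → p ∣ Nat.card ↥K := by
    intro K hK
    by_contra h
    have := Components.le_pPrimeCore_of_subnormal hK.1 ((hpr.coprime_iff_not_dvd.mpr h).symm)
    rw [hcore, le_bot_iff] at this
    exact Components.IsComponent.ne_bot hK this
  have hfit : Cfsg.fittingSubgroup G ≤ Cfsg.pCore p G := by
    refine (Components.fittingSubgroup_le_iSup_pCore (G := G)).trans (iSup_le fun ⟨q, hq⟩ => ?_)
    rcases eq_or_ne q p with rfl | hqp
    · exact le_rfl
    refine le_trans (le_of_le_of_eq (Components.le_pPrimeCore inferInstance ?_) hcore) bot_le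
    haveI := Fact.mk hq
    obtain ⟨k, hk⟩ := IsPGroup.iff_card.mp (Components.pCore_isPGroup (G := G) q)
    rw [hk]
    exact ((Nat.coprime_primes hq hpr).mpr hqp).pow_left k
  obtain ⟨K₁, hK₁⟩ : ∃ K : Subgroup G, Cfsg.IsComponent K := by
    by_contra h
    push Not at h
    have hgf : Cfsg.generalizedFittingSubgroup G ≤ Cfsg.pCore p G := by
      rw [Cfsg.generalizedFittingSubgroup, Components.layer_eq_bot_iff.mpr h, bot_sup_eq]
      exact hfit
    refine hxQ (hfit (Components.centralizer_genFitting_le_fittingSubgroup ?_))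
    exact Subgroup.mem_centralizer_iff.mpr fun y hy => (hxC y (hQP (hgf hy))).symm
  -- the `p`-core is trivial
  have hQ : Cfsg.pCore p G = ⊥ := by
    by_contra hQ
    obtain ⟨k, hk0, hk⟩ := Coprime.exists_card_eq_prime_pow hpr (Components.pCore_isPGroup p) hQ
    obtain ⟨z, hz⟩ := exists_prime_orderOf_dvd_card' (G := ↥(Cfsg.pCore p G)) p
      (hk ▸ dvd_pow_self p hk0.ne')
    have hzG : orderOf (z : G) = p := by rw [Subgroup.orderOf_coe, hz]
    obtain ⟨R, hR⟩ := hsyl K₁ hK₁
    refine false_of_central hp hrank hx hiso (Components.IsComponent.commutator_self hK₁)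
      (hdvd K₁ hK₁) (z := (z : G)) (fun l hl => ?_) ((congrArg (fun n => (z : G) ^ n) hzG).symm.trans (pow_orderOf_eq_one _))
      (fun e => hpr.ne_one (hzG.symm.trans ((congrArg orderOf e).trans orderOf_one)))
      (hxC z (hQP z.2)).symm (fun h => hxQ (Subgroup.zpowers_le.mpr z.2 h)) R (hxK K₁ R hR)
    have hzF : (z : G) ∈ Cfsg.fittingSubgroup G :=
      Components.le_fittingSubgroup inferInstance (Components.pCore_isPGroup p).isNilpotent z.2
    exact Subgroup.mem_centralizer_iff.mp
      (Components.IsComponent.le_centralizer_fittingSubgroup hK₁ hl) z hzF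
  -- there is one component
  have huniq : ∀ K : Subgroup G, Cfsg.IsComponent K → K = K₁ := by
    intro K hK
    by_contra hne
    have hcomm : ∀ a ∈ K, ∀ b ∈ K₁, a * b = b * a := fun a ha b hb =>
      Components.commute_of_commutator_eq_bot
        (Components.IsComponent.commutator_eq_bot_of_ne hK hK₁ hne) ha hb
    have hz : ∀ K : Subgroup G, Cfsg.IsComponent K → ∃ z ∈ K, orderOf z = p ∧ z ∈ (P : Subgroup G) := by
      intro K hK
      obtain ⟨R, hR⟩ := hsyl K hK
      obtain ⟨k, hk0, hk⟩ := Coprime.exists_card_eq_prime_pow hpr R.2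
        (R.ne_bot_of_dvd_card (hdvd K hK))
      obtain ⟨z, hz⟩ := exists_prime_orderOf_dvd_card' (G := ↥(R : Subgroup ↥K)) p
        (hk ▸ dvd_pow_self p hk0.ne')
      exact ⟨((z : ↥K) : G), (z : ↥K).2, by rw [Subgroup.orderOf_coe, Subgroup.orderOf_coe, hz],
        (Subgroup.mem_inf.mp (hR ▸ Subgroup.mem_map_of_mem K.subtype z.2)).1⟩
    have happ : ∀ L M : Subgroup G, Cfsg.IsComponent L → Cfsg.IsComponent M →
        (∀ a ∈ L, ∀ b ∈ M, a * b = b * a) → ∀ z ∈ L, orderOf z = p → z ∈ (P : Subgroup G) →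
        x ∈ Subgroup.zpowers z := by
      intro L M hL hM hLM z hzL hzp hzP
      by_contra hxz
      obtain ⟨R, hR⟩ := hsyl M hM
      exact false_of_central hp hrank hx hiso (Components.IsComponent.commutator_self hM)
        (hdvd M hM) (fun l hl => hLM z hzL l hl) (by rw [← hzp, pow_orderOf_eq_one])
        (fun e => hpr.ne_one (by rw [← hzp, e, orderOf_one])) (hxC z hzP).symm hxz R (hxK M R hR)
    obtain ⟨z, hzK, hzp, hzP⟩ := hz K hK
    obtain ⟨w, hwK, hwp, hwP⟩ := hz K₁ hK₁
    have h1 : x ∈ K := Subgroup.zpowers_le.mpr hzK (happ K K₁ hK hK₁ hcomm z hzK hzp hzP)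
    have h2 : x ∈ K₁ := Subgroup.zpowers_le.mpr hwK
      (happ K₁ K hK₁ hK (fun a ha b hb => (hcomm b hb a ha).symm) w hwK hwp hwP)
    have h3 : (⟨x, h1⟩ : ↥K) ∈ Subgroup.center ↥K :=
      Subgroup.mem_center_iff.mpr fun a => Subtype.ext (hcomm a a.2 x h2)
    have h4 := Components.IsComponent.map_center_le_pCore hK hcore
      (Subgroup.mem_map_of_mem K.subtype h3)
    exact hxQ h4
  have hF : Cfsg.generalizedFittingSubgroup G = K₁ := by
    have hf : Cfsg.fittingSubgroup G = ⊥ := le_bot_iff.mp (hQ ▸ hfit)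
    rw [Cfsg.generalizedFittingSubgroup, hf, sup_bot_eq]
    exact le_antisymm (Components.layer_le_iff.mpr fun K hK => (huniq K hK).le)
      (Components.IsComponent.le_layer hK₁)
  have hZ : Subgroup.center ↥K₁ = ⊥ := by
    rw [← Subgroup.map_eq_bot_iff_of_injective _ K₁.subtype_injective, ← le_bot_iff]
    exact hQ ▸ Components.IsComponent.map_center_le_pCore hK₁ hcore
  have hqs := Components.IsComponent.isQuasisimple hK₁
  rw [hF]
  refine ⟨?_, Components.IsQuasisimple.not_isMulCommutative hqs⟩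
  haveI := Components.IsQuasisimple.nontrivial hqs
  refine ⟨fun N hN => ?_⟩
  rcases Components.IsQuasisimple.normal_eq_top_or_le_center hqs N with h | h
  · exact Or.inr h
  · exact Or.inl (le_bot_iff.mp (hZ ▸ h))

end Cfsg.Agent.S3049
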