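import Cfsg.Statements.S3050
import Cfsg.Agent.Lib.LocalEven2.SL2FpfMain

set_option autoImplicit false
open Cfsg

namespace Cfsg.Agent.S3050

open Lib.LocalEven2 Lib.LocalEven2.SL2Nat
open scoped IsMulCommutative

/-- Let G be a finite group with a normal 2-subgroup Q such that G/Q is isomorphic to SL(2, 2ⁿ) with n ≥ 2, and suppose some element of G of order 3 fixes no nonidentity element of Q under conjugation. Then Q is elementary abelian and is the direct product of normal subgroups of G on each of which G acts as SL(2, 2ⁿ) acts on its natural two-dimensional module (a Galois twist of the natural action allowed). -/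
theorem result {G : Type*} [Group G] [Finite G]
    (Q : Subgroup G) [Q.Normal] (hQ : IsPGroup 2 ↥Q) (n : ℕ) (hn : 2 ≤ n)
    (K : Type*) [Field K] [Fintype K] (hK : Fintype.card K = 2 ^ n)
    (e : G ⧸ Q ≃* Matrix.SpecialLinearGroup (Fin 2) K)
    (x : G) (hx : orderOf x = 3) (hfpf : ∀ q ∈ Q, x * q * x⁻¹ = q → q = 1) :
    Cfsg.IsElementaryAbelian 2 Q ∧
      ∃ (k : ℕ) (V : Fin k → Subgroup G), (∀ i, V i ≤ Q ∧ (V i).Normal ∧
        Cfsg.ActsAsSL2OnSection K ⊤ ⊤ (V i) ⊥) ∧ iSupIndep V ∧ ⨆ i, V i = Q := by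
  haveI : CharP K 2 := charP_of_card_eq_prime_pow hK
  have hF : ∃ c : K, c ≠ 0 ∧ c ≠ 1 := by
    classical
    obtain ⟨c, hc⟩ := Finset.exists_mem_notMem_of_card_lt_card (s := ({0, 1} : Finset K)) (t := Finset.univ) (by
      rw [Finset.card_univ, hK]
      exact lt_of_le_of_lt Finset.card_le_two (lt_of_lt_of_le (by norm_num : 2 < 2 ^ 2) (Nat.pow_le_pow_right (by norm_num) hn)))
    exact ⟨c, fun h => hc.2 (by simp [h]), fun h => hc.2 (by simp [h])⟩
  obtain ⟨hab, hsq⟩ := elementary_of_fpf hF _ G rfl Q hQ e x hx hfpf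
  have hel : Cfsg.IsElementaryAbelian 2 Q := isElementaryAbelian_iff.mpr ⟨hab, fun q hq => by
    rw [pow_two]; exact hsq q hq⟩
  refine ⟨hel, ?_⟩
  haveI : IsMulCommutative ↥Q := isMulCommutative_of_forall hab
  have hc : Q ≤ Subgroup.centralizer (Q : Set G) := fun a ha =>
    Subgroup.mem_centralizer_iff.mpr fun b hb => hab b hb a ha
  haveI : Finite (Additive ↥Q) := inferInstanceAs (Finite ↥Q)
  set ρ := quotConjRep (A := Q) hc e
  obtain ⟨k, f, hinj, heq, hind, hsup⟩ := fpf_decomposition (ρ := ρ) (fun v => by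
    apply Additive.toMul.injective
    exact Subtype.ext (hsq _ (Additive.toMul v).2)) (fpfThree_of_lift le_rfl hc e (fpfLift hQ e hx hfpf))
  let ι : Additive ↥Q ≃ ↥Q := Additive.toMul
  let V : Fin k → Subgroup G := fun i => (AddSubgroup.toSubgroup' (f i).range).map Q.subtype
  have hmem : ∀ i g, g ∈ V i ↔ ∃ v, ((Additive.toMul (f i v) : ↥Q) : G) = g := by
    intro i g
    constructor
    · rintro ⟨u, ⟨v, hv⟩, rfl⟩
      exact ⟨v, by rw [hv]; rfl⟩
    · rintro ⟨v, rfl⟩
      exact ⟨_, ⟨v, rfl⟩, rfl⟩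
  have hconj : ∀ i (g : G) v, g * ((Additive.toMul (f i v) : ↥Q) : G) * g⁻¹ =
      ((Additive.toMul (f i ((e (g : G ⧸ Q) : Matrix (Fin 2) (Fin 2) K).mulVec v)) : ↥Q) : G) := fun i g v => by
    rw [← heq, quotConjRep_apply]
  refine ⟨k, V, fun i => ⟨Subgroup.map_subtype_le _, ⟨fun u hu g => ?_⟩, ?_⟩, ?_, ?_⟩
  · obtain ⟨v, rfl⟩ := (hmem i u).mp hu
    exact (hmem i _).mpr ⟨_, (hconj i g v).symm⟩
  · have hVn : (V i).Normal := ⟨fun u hu g => by
      obtain ⟨v, rfl⟩ := (hmem i u).mp hu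
      exact (hmem i _).mpr ⟨_, (hconj i g v).symm⟩⟩
    choose w hw using fun u : ↥(V i) => (hmem i u).mp u.2
    have hinj' : ∀ v v', ((Additive.toMul (f i v) : ↥Q) : G) = ((Additive.toMul (f i v') : ↥Q) : G) → v = v' :=
      fun v v' h => hinj i (Additive.toMul.injective (Subtype.ext h))
    refine ⟨by rw [Subgroup.normalizer_eq_top_iff.mpr hVn], bot_le,
      (e.toMonoidHom.comp (QuotientGroup.mk' Q)).comp (⊤ : Subgroup G).subtype,
      MonoidHom.mk' (fun u => Multiplicative.ofAdd (w u)) (fun a b => ?_), ?_, ?_, ?_, ?_⟩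
    · refine congrArg Multiplicative.ofAdd (hinj' _ (w a + w b) ?_)
      rw [map_add, toMul_add, Subgroup.coe_mul, hw, hw, hw]; rfl
    · rw [MonoidHom.range_eq_top]
      intro g
      obtain ⟨a, ha⟩ := QuotientGroup.mk_surjective (e.symm g)
      exact ⟨⟨a, trivial⟩, by show e (a : G ⧸ Q) = g; rw [ha, e.apply_symm_apply]⟩
    · intro v
      refine ⟨⟨_, (hmem i _).mpr ⟨Multiplicative.toAdd v, rfl⟩⟩, ?_⟩
      exact congrArg Multiplicative.ofAdd (hinj' _ _ (hw _))
    · intro u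
      constructor
      · intro h
        have h0 : w u = 0 := h
        rw [Subgroup.mem_bot, ← hw u, h0, map_zero]
        rfl
      · intro h
        refine congrArg Multiplicative.ofAdd (hinj' (w u) 0 ?_)
        rw [hw, Subgroup.mem_bot.mp h, map_zero]
        rfl
    · intro g u
      refine ⟨⟨(g : G) * u * (g : G)⁻¹, hVn.conj_mem _ u.2 g⟩, rfl, hinj' _ _ ?_⟩
      show ((Additive.toMul (f i (w _)) : ↥Q) : G) = _
      rw [hw]
      refine Eq.trans ?_ (hconj i g (w u))
      rw [hw]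
  · intro i
    rw [Subgroup.disjoint_def]
    intro g hg hg'
    obtain ⟨v, rfl⟩ := (hmem i g).mp hg
    have h2 : ⨆ j, ⨆ (_ : j ≠ i), V j ≤ (AddSubgroup.toSubgroup' (⨆ j, ⨆ (_ : j ≠ i), (f j).range)).map Q.subtype :=
      iSup₂_le fun j hj => Subgroup.map_mono (AddSubgroup.toSubgroup'.monotone
        (le_iSup₂_of_le (f := fun j (_ : j ≠ i) => (f j).range) j hj le_rfl))
    obtain ⟨u, hu, huv⟩ := h2 hg'
    have hu' : u = Additive.toMul (f i v) := Subtype.ext huv
    rw [hu'] at hu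
    have := AddSubgroup.disjoint_def.mp (hind i) ⟨v, rfl⟩ (show f i v ∈ ⨆ j, ⨆ (_ : j ≠ i), (f j).range from hu)
    rw [this]; rfl
  · show ⨆ i, (AddSubgroup.toSubgroup' (f i).range).map Q.subtype = Q
    rw [← Subgroup.map_iSup, ← OrderIso.map_iSup, hsup, OrderIso.map_top, ← MonoidHom.range_eq_map,
      Subgroup.range_subtype]

end Cfsg.Agent.S3050
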