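import Cfsg.Statements.S3053
import Cfsg.Agent.Lib.Cores
import Cfsg.Agent.Lib.LocalEven2.Sylow

set_option autoImplicit false
open Cfsg

namespace Cfsg.Agent.S3053

theorem pow_mul_comm_central {G : Type*} [Group G] {a b c : G} (h : b * a = a * b * c)
    (ha : c * a = a * c) (hb : c * b = b * c) (n : ℕ) : b ^ n * a = a * b ^ n * c ^ n := by
  induction n with
  | zero => simp
  | succ n ih =>
    calc b ^ (n + 1) * a = b ^ n * (b * a) := by rw [pow_succ, mul_assoc]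
      _ = (b ^ n * a) * b * c := by rw [h]; group
      _ = a * b ^ n * (c ^ n * b) * c := by rw [ih]; group
      _ = a * b ^ n * (b * c ^ n) * c := by rw [(Commute.pow_left hb n).eq]
      _ = _ := by rw [pow_succ b, pow_succ c]; group

theorem mul_pow_central {G : Type*} [Group G] {a b c : G} (h : b * a = a * b * c)
    (ha : c * a = a * c) (hb : c * b = b * c) (n : ℕ) :
    (a * b) ^ n = a ^ n * b ^ n * c ^ n.choose 2 := by
  induction n with
  | zero => simp
  | succ n ih =>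
    calc (a * b) ^ (n + 1) = a ^ n * b ^ n * (c ^ n.choose 2 * a) * b := by
          rw [pow_succ, ih]; group
      _ = a ^ n * (b ^ n * a) * (c ^ n.choose 2 * b) := by
          rw [(Commute.pow_left ha _).eq]; group
      _ = a ^ n * (a * b ^ n * c ^ n) * (b * c ^ n.choose 2) := by
          rw [pow_mul_comm_central h ha hb, (Commute.pow_left hb _).eq]
      _ = a ^ n * a * b ^ n * (c ^ n * b) * c ^ n.choose 2 := by group
      _ = a ^ n * a * b ^ n * (b * c ^ n) * c ^ n.choose 2 := by rw [(Commute.pow_left hb _).eq]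
      _ = a ^ (n + 1) * b ^ (n + 1) * (c ^ n * c ^ n.choose 2) := by
          rw [pow_succ a, pow_succ b]; group
      _ = _ := by rw [← pow_add, Nat.choose_succ_succ n 1, Nat.choose_one_right]

open scoped commutatorElement

theorem exists_shear {G : Type*} [Group G] [Finite G] {p : ℕ} [Fact p.Prime] (Q : Subgroup G)
    {z w v : G} (hw : orderOf w = p) (hv : v ∈ Q) (hd : ⁅v, z⁆ ∈ Subgroup.zpowers w)
    (hd1 : ⁅v, z⁆ ≠ 1) (hvw : v * w = w * v) :
    ∃ u ∈ Q, u * z * u⁻¹ = w * z ∧ u * w * u⁻¹ = w := by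
  have hdw : Subgroup.zpowers ⁅v, z⁆ = Subgroup.zpowers w := by
    refine Subgroup.eq_of_le_of_card_ge (Subgroup.zpowers_le.mpr hd) ?_
    rw [Nat.card_zpowers, Nat.card_zpowers, hw]
    obtain ⟨k, hk⟩ := hd
    have h1 : orderOf ⁅v, z⁆ ∣ p := by
      have hw1 : w ^ p = 1 := by rw [← hw, pow_orderOf_eq_one]
      refine orderOf_dvd_of_pow_eq_one ?_
      rw [← hk, ← zpow_natCast, ← zpow_mul, mul_comm, zpow_mul, zpow_natCast, hw1, one_zpow]
    rcases (Nat.dvd_prime (Fact.out : p.Prime)).mp h1 with h | h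
    · exact absurd (orderOf_eq_one_iff.mp h) hd1
    · exact h.ge
  obtain ⟨t, ht⟩ : ∃ t : ℕ, ⁅v, z⁆ ^ t = w :=
    mem_powers_iff_mem_zpowers.mpr (hdw ▸ Subgroup.mem_zpowers w)
  refine ⟨v ^ t, Q.pow_mem hv t, ?_, ?_⟩
  · obtain ⟨k, hk⟩ := hd
    have hc : ∀ n : ℕ, v ^ n * z * (v ^ n)⁻¹ = ⁅v, z⁆ ^ n * z := by
      intro n
      induction n with
      | zero => simp
      | succ n ih =>
        have hvd : v * ⁅v, z⁆ ^ n = ⁅v, z⁆ ^ n * v := by
          have : Commute v ⁅v, z⁆ := by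
            rw [← hk]; exact (Commute.zpow_right (hvw : Commute v w) k)
          exact (this.pow_right n).eq
        calc v ^ (n + 1) * z * (v ^ (n + 1))⁻¹ = v * (v ^ n * z * (v ^ n)⁻¹) * v⁻¹ := by
              rw [pow_succ']; group
          _ = (v * ⁅v, z⁆ ^ n) * z * v⁻¹ := by rw [ih]; group
          _ = (⁅v, z⁆ ^ n * v) * z * v⁻¹ := by rw [hvd]
          _ = ⁅v, z⁆ ^ n * ((v * z * v⁻¹ * z⁻¹) * z) := by group
          _ = ⁅v, z⁆ ^ n * (⁅v, z⁆ * z) := by rw [← commutatorElement_def]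
          _ = _ := by rw [pow_succ, mul_assoc]
    rw [hc, ht]
  · rw [(Commute.pow_left (show Commute v w from hvw) t).eq]; group

/-- `-1` lies in the group generated by two opposite shears. -/
theorem shears_invert {G : Type*} [Group G] {z y u v : G} (huz : u * z * u⁻¹ = z)
    (huy : u * y * u⁻¹ = z * y) (hvy : v * y * v⁻¹ = y) (hvz : v * z * v⁻¹ = y * z)
    (hyz : y * z = z * y) :
    (u * v⁻¹ * u) * (u * v⁻¹ * u) * z * ((u * v⁻¹ * u) * (u * v⁻¹ * u))⁻¹ = z⁻¹ ∧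
    (u * v⁻¹ * u) * (u * v⁻¹ * u) * y * ((u * v⁻¹ * u) * (u * v⁻¹ * u))⁻¹ = y⁻¹ := by
  have hvy' : v⁻¹ * y * v = y := by
    calc v⁻¹ * y * v = v⁻¹ * (v * y * v⁻¹) * v := by rw [hvy]
      _ = y := by group
  have hvz' : v⁻¹ * z * v = y⁻¹ * z := by
    have h : z = v⁻¹ * (y * z) * v := by rw [← hvz]; group
    calc v⁻¹ * z * v = (v⁻¹ * y * v)⁻¹ * (v⁻¹ * (y * z) * v) := by group
      _ = y⁻¹ * z := by rw [hvy', ← h]
  have hyz' : y⁻¹ * z = z * y⁻¹ := (Commute.inv_left (show Commute y z from hyz)).eq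
  set w := u * v⁻¹ * u with hw
  have h1 : w * z * w⁻¹ = y⁻¹ := by
    calc w * z * w⁻¹ = u * (v⁻¹ * (u * z * u⁻¹) * v) * u⁻¹ := by rw [hw]; group
      _ = u * (y⁻¹ * z) * u⁻¹ := by rw [huz, hvz']
      _ = (u * y * u⁻¹)⁻¹ * (u * z * u⁻¹) := by group
      _ = (z * y)⁻¹ * z := by rw [huy, huz]
      _ = _ := by group
  have h2 : w * y * w⁻¹ = z := by
    calc w * y * w⁻¹ = u * ((v⁻¹ * (u * y * u⁻¹) * v)) * u⁻¹ := by rw [hw]; group
      _ = u * ((v⁻¹ * z * v) * (v⁻¹ * y * v)) * u⁻¹ := by rw [huy]; group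
      _ = u * ((z * y⁻¹) * y) * u⁻¹ := by rw [hvz', hvy', hyz']
      _ = u * z * u⁻¹ := by group
      _ = z := huz
  constructor
  · calc w * w * z * (w * w)⁻¹ = w * (w * z * w⁻¹) * w⁻¹ := by group
      _ = (w * y * w⁻¹)⁻¹ := by rw [h1]; group
      _ = _ := by rw [h2]
  · calc w * w * y * (w * w)⁻¹ = w * (w * y * w⁻¹) * w⁻¹ := by group
      _ = _ := by rw [h2, h1]


/-- Let p be an odd prime and G a finite group with a Sylow p-subgroup P that is extraspecial of order p³ and exponent p². Then the centre of P is strongly closed in P with respect to G: a G-conjugate of an element of Z(P) that lies in P already lies in Z(P). In particular a nontrivial central element of P is conjugate in G to no noncentral element of P. -/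
theorem result {G : Type*} [Group G] [Finite G]
    {p : ℕ} [Fact p.Prime] (hp : p ≠ 2) (P : Sylow p G) (hE : Cfsg.IsExtraspecial p ↥P)
    (hcard : Nat.card P = p ^ 3) (hexp : Monoid.exponent ↥P = p ^ 2) :
    Cfsg.IsStronglyClosed ((Subgroup.center ↥P).map (P : Subgroup G).subtype) (P : Subgroup G) := by
  classical
  have hp' : p.Prime := Fact.out
  set S := (P : Subgroup G) with hS
  set Z := (Subgroup.center ↥P).map S.subtype with hZ
  have hZS : Z ≤ S := Subgroup.map_subtype_le _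
  have hZc : ∀ a ∈ Z, ∀ b ∈ S, b * a = a * b := by
    rintro _ ⟨a, ha, rfl⟩ b hb
    exact congrArg Subtype.val (Subgroup.mem_center_iff.mp ha ⟨b, hb⟩)
  have hZmem : ∀ a ∈ S, (∀ b ∈ S, b * a = a * b) → a ∈ Z := fun a ha h =>
    ⟨⟨a, ha⟩, Subgroup.mem_center_iff.mpr fun b => Subtype.ext (h b b.2), rfl⟩
  have hZcard : Nat.card ↥Z = p :=
    (Nat.card_congr ((Subgroup.center ↥P).equivMapOfInjective _ S.subtype_injective).toEquiv).symm.trans hE.2
  have hcom : ∀ a ∈ S, ∀ b ∈ S, ⁅a, b⁆ ∈ Z := by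
    intro a ha b hb
    refine ⟨⁅(⟨a, ha⟩ : ↥S), ⟨b, hb⟩⁆, ?_, rfl⟩
    have : ⁅(⟨a, ha⟩ : ↥S), ⟨b, hb⟩⁆ ∈ commutator ↥P := by
      rw [commutator_def]; exact Subgroup.commutator_mem_commutator trivial trivial
    exact hE.1.2.2 ▸ this
  refine ⟨hZS, fun x hx g hgx => ?_⟩
  by_contra hyZ
  set y := g * x * g⁻¹ with hy
  have hx1 : x ≠ 1 := fun h => hyZ (by rw [hy, h]; simp)
  have hxp : orderOf x = p := by
    have h := Subgroup.orderOf_dvd_natCard Z hx
    rw [hZcard] at h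
    exact ((Nat.dvd_prime hp').mp h).resolve_left fun h1 => hx1 (orderOf_eq_one_iff.mp h1)
  have hyp : orderOf y = p := by
    rw [← hxp, hy]; exact (MulAut.conj g).orderOf_eq x
  obtain ⟨z, hzZ, hz1⟩ : ∃ z ∈ Z, z ≠ 1 := ⟨x, hx, hx1⟩
  have hzp : orderOf z = p := by
    have h := Subgroup.orderOf_dvd_natCard Z hzZ
    rw [hZcard] at h
    exact ((Nat.dvd_prime hp').mp h).resolve_left fun h1 => hz1 (orderOf_eq_one_iff.mp h1)
  have hZgen : ∀ {w : G}, w ∈ Z → w ≠ 1 → Z = Subgroup.zpowers w := by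
    intro w hw hw1
    refine (Subgroup.eq_of_le_of_card_ge (Subgroup.zpowers_le.mpr hw) ?_).symm
    rw [Nat.card_zpowers, hZcard]
    have h := Subgroup.orderOf_dvd_natCard Z hw
    rw [hZcard] at h
    exact (((Nat.dvd_prime hp').mp h).resolve_left fun h1 => hw1 (orderOf_eq_one_iff.mp h1)).ge
  have hyz : y * z = z * y := hZc z hzZ y hgx
  set E := S ⊓ Subgroup.centralizer ({y} : Set G) with hE'
  have hyE : y ∈ E := ⟨hgx, Subgroup.mem_centralizer_singleton_iff.mpr rfl⟩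
  have hzE : z ∈ E := ⟨hZS hzZ, Subgroup.mem_centralizer_singleton_iff.mpr hyz.symm⟩
  have hSp : IsPGroup p ↥S := P.2
  have hEcard : Nat.card ↥E = p ^ 2 := by
    obtain ⟨n, hn⟩ := IsPGroup.iff_card.mp (hSp.to_le (inf_le_left : E ≤ S))
    have h1 : n ≤ 2 := by
      by_contra h
      have hle : Nat.card ↥S ≤ Nat.card ↥E := by
        rw [hn, hcard]; exact Nat.pow_le_pow_right hp'.pos (by omega)
      have hES : E = S := Subgroup.eq_of_le_of_card_ge inf_le_left hle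
      refine hyZ (hZmem y hgx fun b hb => ?_)
      have hb' : b ∈ E := hES.symm ▸ hb
      exact Subgroup.mem_centralizer_singleton_iff.mp hb'.2
    have h2 : 2 ≤ n := by
      by_contra h
      have hle : Nat.card ↥E ≤ Nat.card ↥Z := by
        rw [hn, hZcard]
        calc p ^ n ≤ p ^ 1 := Nat.pow_le_pow_right hp'.pos (by omega)
          _ = p := pow_one p
      have hZE : Z ≤ E := (hZgen hzZ hz1).le.trans (Subgroup.zpowers_le.mpr hzE)
      exact hyZ ((Subgroup.eq_of_le_of_card_ge hZE hle).symm ▸ hyE)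
    rw [hn, le_antisymm h1 h2]
  set F := Subgroup.closure ({z, y} : Set G) with hF
  have hFE : F = E := by
    refine Subgroup.eq_of_le_of_card_ge ((Subgroup.closure_le _).mpr ?_) ?_
    · rintro w (rfl | rfl) <;> assumption
    · obtain ⟨n, hn⟩ := IsPGroup.iff_card.mp (hSp.to_le ((Subgroup.closure_le _).mpr (by
        rintro w (rfl | rfl)
        exacts [hZS hzZ, hgx]) : F ≤ S))
      have h2 : 2 ≤ n := by
        by_contra h
        have hzF : Subgroup.zpowers z ≤ F := Subgroup.zpowers_le.mpr (Subgroup.subset_closure (Or.inl rfl))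
        have hle : Nat.card ↥F ≤ Nat.card ↥(Subgroup.zpowers z) := by
          rw [hn, Nat.card_zpowers, hzp]
          calc p ^ n ≤ p ^ 1 := Nat.pow_le_pow_right hp'.pos (by omega)
            _ = p := pow_one p
        have hyF : y ∈ F := Subgroup.subset_closure (Or.inr rfl)
        rw [← Subgroup.eq_of_le_of_card_ge hzF hle, ← hZgen hzZ hz1] at hyF
        exact hyZ hyF
      rw [hn, hEcard]
      exact Nat.pow_le_pow_right hp'.pos h2
  -- the Sylow subgroup of the centraliser of `y`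
  have hgP : ((g • P : Sylow p G) : Subgroup G) ≤ Subgroup.centralizer ({y} : Set G) := by
    intro w hw
    rw [Lib.LocalEven2.mem_smul_sylow] at hw
    rw [Subgroup.mem_centralizer_singleton_iff, hy]
    have h := hZc x hx _ hw
    calc w * (g * x * g⁻¹) = g * ((g⁻¹ * w * g) * x) * g⁻¹ := by group
      _ = g * (x * (g⁻¹ * w * g)) * g⁻¹ := by rw [h]
      _ = _ := by group
  obtain ⟨c, hc, hEQ⟩ := Lib.LocalEven2.exists_conj_le (g • P) hgP (hSp.to_le inf_le_left : IsPGroup p ↥E)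
    inf_le_right
  have hQmem : ∀ w, w ∈ ((c • g • P : Sylow p G) : Subgroup G) ↔ (c * g)⁻¹ * w * (c * g) ∈ S := fun w => by
    rw [← mul_smul, Lib.LocalEven2.mem_smul_sylow]
  have hcgy : (c * g)⁻¹ * y * (c * g) = x := by
    have h := Subgroup.mem_centralizer_singleton_iff.mp hc
    calc (c * g)⁻¹ * y * (c * g) = g⁻¹ * c⁻¹ * (y * c) * g := by group
      _ = g⁻¹ * c⁻¹ * (c * y) * g := by rw [h]
      _ = x := by rw [hy]; group
  have hzQ : (c * g)⁻¹ * z * (c * g) ∈ S := (hQmem z).mp (hEQ hzE)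
  -- `v` shears `z`
  obtain ⟨v₀, hv₀S, hv₀⟩ : ∃ b ∈ S, b * ((c * g)⁻¹ * z * (c * g)) ≠ ((c * g)⁻¹ * z * (c * g)) * b := by
    by_contra h
    simp only [not_exists, not_and, not_not] at h
    have hmem := hZmem _ hzQ h
    rw [hZgen hx hx1] at hmem
    obtain ⟨k, hk⟩ := hmem
    have hzy : z = y ^ k := by
      calc z = (c * g) * ((c * g)⁻¹ * z * (c * g)) * (c * g)⁻¹ := by group
        _ = (c * g) * x ^ k * (c * g)⁻¹ := by rw [← hk]
        _ = ((c * g) * x * (c * g)⁻¹) ^ k := (conj_zpow (i := k)).symm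
        _ = _ := by rw [← hcgy]; group
    have hle : Z ≤ Subgroup.zpowers y := by
      rw [hZgen hzZ hz1, Subgroup.zpowers_le]; exact ⟨k, hzy.symm⟩
    have heq := Subgroup.eq_of_le_of_card_ge hle (by rw [Nat.card_zpowers, hyp, hZcard])
    exact hyZ (heq ▸ Subgroup.mem_zpowers y)
  have hvQ : (c * g) * v₀ * (c * g)⁻¹ ∈ ((c • g • P : Sylow p G) : Subgroup G) := by
    rw [hQmem]; simpa [mul_assoc] using hv₀S
  obtain ⟨v, hv, hvz, hvy⟩ := exists_shear (p := p) ((c • g • P : Sylow p G) : Subgroup G)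
    (z := z) (w := y) hyp hvQ
    (by
      have h := hcom v₀ hv₀S _ hzQ
      rw [hZgen hx hx1] at h
      obtain ⟨k, hk⟩ := h
      refine ⟨k, ?_⟩
      show y ^ k = _
      rw [show y = (c * g) * x * (c * g)⁻¹ by rw [← hcgy]; group, conj_zpow]
      rw [show x ^ k = ⁅v₀, (c * g)⁻¹ * z * (c * g)⁆ from hk]
      simp only [commutatorElement_def]; group)
    (fun h => hv₀ (by
      have h2 : (c * g)⁻¹ * ⁅(c * g) * v₀ * (c * g)⁻¹, z⁆ * (c * g) = ⁅v₀, (c * g)⁻¹ * z * (c * g)⁆ := by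
        simp only [commutatorElement_def]; group
      rw [h] at h2
      have h3 : ⁅v₀, (c * g)⁻¹ * z * (c * g)⁆ = 1 := by rw [← h2]; group
      exact commutatorElement_eq_one_iff_mul_comm.mp h3))
    (by
      have h := hZc x hx v₀ hv₀S
      rw [← hcgy] at h
      calc (c * g) * v₀ * (c * g)⁻¹ * y = (c * g) * (v₀ * ((c * g)⁻¹ * y * (c * g))) * (c * g)⁻¹ := by group
        _ = (c * g) * (((c * g)⁻¹ * y * (c * g)) * v₀) * (c * g)⁻¹ := by rw [h]
        _ = _ := by group)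
  -- `u` shears `y`
  obtain ⟨u₀, hu₀S, hu₀⟩ : ∃ b ∈ S, b * y ≠ y * b := by
    by_contra h
    simp only [not_exists, not_and, not_not] at h
    exact hyZ (hZmem y hgx h)
  obtain ⟨u, hu, huy, huz⟩ := exists_shear (p := p) S (z := y) (w := z) hzp hu₀S
    (hZgen hzZ hz1 ▸ hcom u₀ hu₀S y hgx)
    (fun h => hu₀ (commutatorElement_eq_one_iff_mul_comm.mp h)) (hZc z hzZ u₀ hu₀S)
  obtain ⟨hwz, hwy⟩ := shears_invert huz huy hvy hvz hyz
  set w := (u * v⁻¹ * u) * (u * v⁻¹ * u) with hw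
  have hEab : ∀ a ∈ E, ∀ b ∈ E, a * b = b * a := by
    have h : E ≤ Subgroup.centralizer (E : Set G) := by
      rw [← hFE, hF, Subgroup.centralizer_closure, Subgroup.closure_le]
      rintro a (rfl | rfl) <;> refine Subgroup.mem_centralizer_iff.mpr ?_ <;>
        rintro b (rfl | rfl) <;> first | rfl | exact hyz | exact hyz.symm
    exact fun a ha b hb => Subgroup.mem_centralizer_iff.mp (h hb) a ha
  have hwE : ∀ a ∈ E, w * a * w⁻¹ = a⁻¹ := by
    intro a ha
    rw [← hFE, hF] at ha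
    induction ha using Subgroup.closure_induction with
    | mem a ha => rcases ha with rfl | rfl
                  · exact hwz
                  · exact hwy
    | one => simp
    | mul a b ha hb iha ihb =>
      rw [← hF, hFE] at ha hb
      calc w * (a * b) * w⁻¹ = (w * a * w⁻¹) * (w * b * w⁻¹) := by group
        _ = _ := by rw [iha, ihb, hEab _ (E.inv_mem ha) _ (E.inv_mem hb), ← mul_inv_rev]
    | inv a _ iha => rw [show w * a⁻¹ * w⁻¹ = (w * a * w⁻¹)⁻¹ by group, iha]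
  set C := Subgroup.centralizer (E : Set G) with hC
  have hSE : ∀ q ∈ S, ∀ a ∈ E, q * a * q⁻¹ ∈ E := by
    intro q hq a ha
    have h : q * a * q⁻¹ = ⁅q, a⁆ * a := by rw [commutatorElement_def]; group
    rw [h]
    exact E.mul_mem (((hZgen hzZ hz1).le.trans (Subgroup.zpowers_le.mpr hzE)) (hcom q hq a ha.1)) ha
  have hSC : S ≤ Subgroup.normalizer (C : Set G) := by
    intro q hq
    rw [Subgroup.mem_normalizer_iff]
    have key : ∀ q ∈ S, ∀ d ∈ C, q * d * q⁻¹ ∈ C := by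
      intro q hq d hd
      refine Subgroup.mem_centralizer_iff.mpr fun a ha => ?_
      have h1 := Subgroup.mem_centralizer_iff.mp hd _ (hSE _ (S.inv_mem hq) a ha)
      calc a * (q * d * q⁻¹) = q * ((q⁻¹ * a * q⁻¹⁻¹) * d) * q⁻¹ := by group
        _ = q * (d * (q⁻¹ * a * q⁻¹⁻¹)) * q⁻¹ := by rw [h1]
        _ = _ := by group
    refine fun d => ⟨key q hq d, fun h => ?_⟩
    have := key q⁻¹ (S.inv_mem hq) _ h
    simpa [mul_assoc] using this
  have hwP : ((w • P : Sylow p G) : Subgroup G) ≤ S ⊔ C := by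
    intro b hb
    rw [Lib.LocalEven2.mem_smul_sylow] at hb
    have hbb : b = (b * (w⁻¹ * b * w)⁻¹) * (w⁻¹ * b * w) := by group
    rw [hbb]
    refine Subgroup.mul_mem _ (Subgroup.mem_sup_right (Subgroup.mem_centralizer_iff.mpr fun a ha => ?_))
      (Subgroup.mem_sup_left hb)
    set q := w⁻¹ * b * w
    have hqa := hSE _ (S.inv_mem hb) a ha
    have h1 := hwE _ hqa
    have h2 : w⁻¹ * a * w = a⁻¹ := by
      have := hwE _ (E.inv_mem ha)
      rw [inv_inv] at this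
      calc w⁻¹ * a * w = w⁻¹ * (w * a⁻¹ * w⁻¹) * w := by rw [this]
        _ = _ := by group
    have h3 : (b * q⁻¹) * a * (b * q⁻¹)⁻¹ = a := by
      calc (b * q⁻¹) * a * (b * q⁻¹)⁻¹
          = w * q * (w⁻¹ * (q⁻¹ * a * q⁻¹⁻¹) * w) * q⁻¹ * w⁻¹ := by
            rw [show b = w * q * w⁻¹ by simp only [q]; group]; group
        _ = w * q * (q⁻¹ * a * q⁻¹⁻¹)⁻¹ * q⁻¹ * w⁻¹ := by
            congr 2
            congr 1
            have := hwE _ (E.inv_mem hqa)
            rw [inv_inv (q⁻¹ * a * q⁻¹⁻¹)] at this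
            calc w⁻¹ * (q⁻¹ * a * q⁻¹⁻¹) * w = w⁻¹ * (w * (q⁻¹ * a * q⁻¹⁻¹)⁻¹ * w⁻¹) * w := by rw [this]
              _ = _ := by group
        _ = w * a⁻¹ * w⁻¹ := by group
        _ = a := by rw [hwE _ (E.inv_mem ha), inv_inv]
    calc a * (b * q⁻¹) = ((b * q⁻¹) * a * (b * q⁻¹)⁻¹) * (b * q⁻¹) := by rw [h3]
      _ = _ := by group
  obtain ⟨m, hm, hle⟩ := Lib.LocalEven2.exists_conj_le P (le_sup_left : S ≤ S ⊔ C) (w • P).2 hwP
  rw [sup_comm, ← SetLike.mem_coe, Subgroup.coe_mul_of_right_le_normalizer_left _ _ hSC] at hm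
  obtain ⟨d, hd, q, hq, rfl⟩ := hm
  have hdP : w • P = d • P := by
    have h := (Sylow.ext ((w • P).3 ((d * q) • P).2 hle)).symm
    rwa [mul_smul d q, Sylow.smul_eq_iff_mem_normalizer.mpr (Subgroup.le_normalizer hq)] at h
  have hn : d⁻¹ * w ∈ Subgroup.normalizer (S : Set G) :=
    Sylow.smul_eq_iff_mem_normalizer.mp (by rw [mul_smul, hdP, inv_smul_smul])
  set n := d⁻¹ * w
  have hnE : ∀ a ∈ E, n * a * n⁻¹ = a⁻¹ := by
    intro a ha
    have h := Subgroup.mem_centralizer_iff.mp (C.inv_mem hd) _ (E.inv_mem ha)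
    calc n * a * n⁻¹ = d⁻¹ * (w * a * w⁻¹) * d := by simp only [n]; group
      _ = (d⁻¹ * a⁻¹) * d := by rw [hwE a ha]
      _ = (a⁻¹ * d⁻¹) * d := by rw [h]
      _ = _ := by group
  -- the power map
  have hexE : ∀ a ∈ E, a ^ p = 1 := by
    intro a ha
    rw [← hFE, hF] at ha
    induction ha using Subgroup.closure_induction with
    | mem a ha => rcases ha with rfl | rfl
                  · rw [← hzp, pow_orderOf_eq_one]
                  · rw [← hyp, pow_orderOf_eq_one]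
    | one => simp
    | mul a b ha hb iha ihb =>
      rw [← hF, hFE] at ha hb
      rw [Commute.mul_pow (hEab a ha b hb), iha, ihb, one_mul]
    | inv a _ iha => rw [inv_pow, iha, inv_one]
  obtain ⟨a, haS, hap⟩ : ∃ a ∈ S, a ^ p ≠ 1 := by
    by_contra h
    simp only [not_exists, not_and, not_not] at h
    have hd : Monoid.exponent ↥P ∣ p :=
      Monoid.exponent_dvd_of_forall_pow_eq_one fun b => Subtype.ext (h b b.2)
    rw [hexp] at hd
    have h2 := Nat.le_of_dvd hp'.pos hd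
    have h3 := hp'.two_le
    nlinarith
  have haE : a ∉ E := fun h => hap (hexE a h)
  have hES : S ≤ Subgroup.normalizer (E : Set G) := by
    intro q hq
    rw [Subgroup.mem_normalizer_iff]
    refine fun d => ⟨fun hd => hSE q hq d hd, fun h => ?_⟩
    have := hSE q⁻¹ (S.inv_mem hq) _ h
    simpa [mul_assoc] using this
  have hgen : E ⊔ Subgroup.zpowers a = S := by
    refine Subgroup.eq_of_le_of_card_ge (sup_le inf_le_left (Subgroup.zpowers_le.mpr haS)) ?_
    obtain ⟨k, hk⟩ := IsPGroup.iff_card.mp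
      (hSp.to_le (sup_le inf_le_left (Subgroup.zpowers_le.mpr haS) : E ⊔ Subgroup.zpowers a ≤ S))
    rw [hcard, hk]
    refine Nat.pow_le_pow_right hp'.pos ?_
    by_contra h
    have hle : Nat.card ↥(E ⊔ Subgroup.zpowers a) ≤ Nat.card ↥E := by
      rw [hk, hEcard]; exact Nat.pow_le_pow_right hp'.pos (by omega)
    exact haE ((Subgroup.eq_of_le_of_card_ge le_sup_left hle).symm ▸
      Subgroup.mem_sup_right (Subgroup.mem_zpowers a))
  have hna : n * a * n⁻¹ ∈ E ⊔ Subgroup.zpowers a := by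
    rw [hgen]; exact (Subgroup.mem_normalizer_iff.mp hn a).mp haS
  rw [← SetLike.mem_coe, Subgroup.coe_mul_of_right_le_normalizer_left _ _
    ((Subgroup.zpowers_le.mpr haS).trans hES)] at hna
  obtain ⟨e, he, b, ⟨i, rfl⟩, hnai⟩ := hna
  have hai : a ^ i ∈ S := S.zpow_mem haS i
  -- commutators of `a` with `E` are fixed
  obtain ⟨e₀, he₀, hne⟩ : ∃ e₀ ∈ E, ⁅a, e₀⁆ ≠ 1 := by
    refine ⟨y, hyE, fun h => hyZ (hZmem y hgx fun b hb => ?_)⟩
    have hle : E ⊔ Subgroup.zpowers a ≤ Subgroup.centralizer ({y} : Set G) :=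
      sup_le inf_le_right (Subgroup.zpowers_le.mpr (Subgroup.mem_centralizer_singleton_iff.mpr
        (commutatorElement_eq_one_iff_mul_comm.mp h)))
    rw [hgen] at hle
    exact Subgroup.mem_centralizer_singleton_iff.mp (hle hb)
  have hZE : Z ≤ E := (hZgen hzZ hz1).le.trans (Subgroup.zpowers_le.mpr hzE)
  have hlin : ∀ e' ∈ E, ∀ j : ℕ, ⁅a ^ j, e'⁆ = ⁅a, e'⁆ ^ j := by
    intro e' he' j
    induction j with
    | zero => simp [commutatorElement_def]
    | succ j ih =>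
      have hcj := hZc _ (hcom a haS e' he'.1) (a ^ j) (S.pow_mem haS j)
      calc ⁅a ^ (j + 1), e'⁆ = a ^ j * ⁅a, e'⁆ * (a ^ j)⁻¹ * ⁅a ^ j, e'⁆ := by
            simp only [commutatorElement_def, pow_succ]; group
        _ = ⁅a, e'⁆ * ⁅a, e'⁆ ^ j := by rw [hcj, ih]; group
        _ = _ := by rw [pow_succ']
  obtain ⟨j, hj⟩ : ∃ j : ℕ, a ^ j = a ^ i := mem_powers_iff_mem_zpowers.mpr ⟨i, rfl⟩
  set b := ⁅a, e₀⁆ with hb
  have hbZ : b ∈ Z := hcom a haS e₀ he₀.1
  have hinv : b ^ j = b := by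
    have h1 : n * b * n⁻¹ = b⁻¹ := hnE b (hZE hbZ)
    have h2 : n * b * n⁻¹ = ⁅e * a ^ j, e₀⁻¹⁆ := by
      rw [hb, hj, show e * a ^ i = n * a * n⁻¹ from hnai, ← hnE e₀ he₀]
      simp only [commutatorElement_def]; group
    have h3 : ⁅e * a ^ j, e₀⁻¹⁆ = ⁅a ^ j, e₀⁻¹⁆ := by
      have h4 := hZc _ (hcom _ (S.pow_mem haS j) _ (S.inv_mem he₀.1)) e he.1
      calc ⁅e * a ^ j, e₀⁻¹⁆ = (e * ⁅a ^ j, e₀⁻¹⁆) * (e₀⁻¹ * e⁻¹) * e₀⁻¹⁻¹ := by
            simp only [commutatorElement_def]; group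
        _ = (⁅a ^ j, e₀⁻¹⁆ * e) * (e⁻¹ * e₀⁻¹) * e₀⁻¹⁻¹ := by
            rw [h4, hEab _ (E.inv_mem he₀) _ (E.inv_mem he)]
        _ = _ := by group
    have h5 : ⁅a, e₀⁻¹⁆ = b⁻¹ := by
      have h4 := hZc _ (hcom a haS _ (S.inv_mem he₀.1)) e₀ he₀.1
      refine eq_inv_of_mul_eq_one_left ?_
      calc ⁅a, e₀⁻¹⁆ * b = ⁅a, e₀⁻¹⁆ * (a * e₀ * a⁻¹ * e₀⁻¹) := by simp only [hb, commutatorElement_def]
        _ = e₀ * ⁅a, e₀⁻¹⁆ * e₀⁻¹ * (a * e₀ * a⁻¹ * e₀⁻¹) := by rw [h4]; group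
        _ = 1 := by simp only [commutatorElement_def]; group
    rw [h2, h3, hlin _ (E.inv_mem he₀) j, h5, inv_pow, inv_inj] at h1
    exact h1
  have hbp : orderOf b = p := by
    have h := Subgroup.orderOf_dvd_natCard Z hbZ
    rw [hZcard] at h
    exact ((Nat.dvd_prime hp').mp h).resolve_left fun h1 => hne (orderOf_eq_one_iff.mp h1)
  have hjp : j % p = 1 := by
    have h : b ^ j = b ^ 1 := by rw [pow_one]; exact hinv
    rw [pow_eq_pow_iff_modEq, hbp] at h
    exact Eq.trans h (Nat.mod_eq_of_lt hp'.one_lt)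
  set t := a ^ p with ht
  have htE : t ∈ E := by
    have hfr : ∀ q ∈ S, q ^ p ∈ Z := by
      intro q hq
      refine ⟨(⟨q, hq⟩ : ↥P) ^ p, ?_, rfl⟩
      haveI : Group.IsNilpotent ↥P := P.2.isNilpotent
      have h : (⟨q, hq⟩ : ↥P) ^ p ∈ frattini ↥P := Lib.Cores.pow_mem_frattini P.2 _
      rw [hE.1.2.1] at h
      exact h
    exact hZE (hfr a haS)
  have h1 : n * t * n⁻¹ = t⁻¹ := hnE t htE
  have hc0 : ⁅(a ^ j)⁻¹, e⁻¹⁆ ∈ Z := hcom _ (S.inv_mem (S.pow_mem haS j)) _ (S.inv_mem he.1)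
  have h2 : n * t * n⁻¹ = t ^ j := by
    have hne' : n * a * n⁻¹ = e * a ^ j := by rw [hj]; exact hnai.symm
    rw [ht, ← conj_pow, hne', mul_pow_central (c := ⁅(a ^ j)⁻¹, e⁻¹⁆) (a := e) (b := a ^ j)
      (by simp only [commutatorElement_def]; group)
      (hZc _ hc0 e he.1).symm (hZc _ hc0 _ (S.pow_mem haS j)).symm p, hexE e he, one_mul,
      ← pow_mul, ← pow_mul, mul_comm j p]
    obtain ⟨k, hk⟩ := hp'.dvd_choose_self (k := 2) (by norm_num)
      (lt_of_le_of_ne hp'.two_le (Ne.symm hp))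
    rw [hk, pow_mul ⁅(a ^ j)⁻¹, e⁻¹⁆ p k, hexE _ (hZE hc0), one_pow, mul_one]
  have h3 : t ^ j = t := by
    conv_lhs => rw [← Nat.div_add_mod j p, hjp, pow_add, pow_one, pow_mul, hexE t htE, one_pow, one_mul]
  rw [h2, h3] at h1
  have h4 : t ^ 2 = 1 := by rw [sq]; nth_rw 1 [h1]; exact inv_mul_cancel t
  have h5 : orderOf t ∣ p := orderOf_dvd_of_pow_eq_one (hexE t htE)
  rcases (Nat.dvd_prime hp').mp h5 with h | h
  · exact hap (orderOf_eq_one_iff.mp h)
  · have h6 := orderOf_dvd_of_pow_eq_one h4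
    rw [h] at h6
    exact hp ((Nat.prime_dvd_prime_iff_eq hp' Nat.prime_two).mp h6)

end Cfsg.Agent.S3053
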