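import Cfsg.Statements.S3054
import Cfsg.Agent.Lib.LocalEven2.ExtraFusion

set_option autoImplicit false
open Cfsg

namespace Cfsg.Agent.S3054

open scoped commutatorElement
open Cfsg.Agent.Lib.LocalEven2

/-- A transvection of a plane `⟨z, a⟩`. -/
theorem exists_transvection {p : ℕ} [Fact p.Prime] {A : Type*} [Group A] [Finite A]
    (hcard : Nat.card A = p ^ 2) (hexp : ∀ x : A, x ^ p = 1) (z a : A) (hza : Commute z a)
    (hz : z ≠ 1) (ha : a ∉ Subgroup.zpowers z) {s : ℕ} (hs : (s : ZMod p) ≠ 0) :
    ∃ φ : MulAut A, orderOf φ = p ∧ φ a = a ∧ φ z = z * a ^ s := by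
  classical
  have hp : p.Prime := Fact.out
  let f : Multiplicative (ZMod p × ZMod p) →* A :=
    { toFun := fun v => z ^ v.toAdd.1.val * a ^ v.toAdd.2.val
      map_one' := by simp
      map_mul' := fun v w => by
        simp only [toAdd_mul, Prod.fst_add, Prod.snd_add]
        rw [(hza.pow_pow w.toAdd.1.val v.toAdd.2.val).symm.mul_mul_mul_comm, ← pow_add, ← pow_add,
          ExtraFusion.pow_congr (hexp z) (n := v.toAdd.1.val + w.toAdd.1.val) (by simp),
          ExtraFusion.pow_congr (hexp a) (n := v.toAdd.2.val + w.toAdd.2.val) (by simp)] }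
  have hoz : orderOf z = p := orderOf_eq_prime (hexp z) hz
  have hinj : Function.Injective f := by
    rw [injective_iff_map_eq_one]
    intro v hv
    change z ^ v.toAdd.1.val * a ^ v.toAdd.2.val = 1 at hv
    have h2 : v.toAdd.2 = 0 := by
      by_contra h
      apply ha
      have hm : a ^ v.toAdd.2.val ∈ Subgroup.zpowers z := by
        rw [eq_inv_of_mul_eq_one_right hv]
        exact inv_mem (pow_mem (Subgroup.mem_zpowers z) _)
      have := pow_mem hm (v.toAdd.2)⁻¹.val
      rwa [← pow_mul, ExtraFusion.pow_congr (p := p) (hexp a) (n := 1) (by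
        push_cast; rw [ZMod.natCast_zmod_val, ZMod.natCast_zmod_val, mul_inv_cancel₀ h]),
        pow_one] at this
    rw [h2, ZMod.val_zero, pow_zero, mul_one] at hv
    have h1 : v.toAdd.1 = 0 := by
      rw [← ZMod.val_eq_zero]
      exact Nat.eq_zero_of_dvd_of_lt
        ((dvd_of_eq hoz.symm).trans (orderOf_dvd_of_pow_eq_one hv)) (ZMod.val_lt _)
    exact Multiplicative.toAdd.injective (Prod.ext h1 h2)
  have hb : Function.Bijective f := (Nat.bijective_iff_injective_and_card f).mpr ⟨hinj, by
    rw [hcard, show Nat.card (Multiplicative (ZMod p × ZMod p)) = Nat.card (ZMod p × ZMod p) from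
      rfl, Nat.card_prod, Nat.card_zmod, pow_two]⟩
  let e := MulEquiv.ofBijective f hb
  let T : MulAut (Multiplicative (ZMod p × ZMod p)) := AddEquiv.toMultiplicative
    { toFun := fun v => (v.1, v.2 + (s : ZMod p) * v.1)
      invFun := fun v => (v.1, v.2 - (s : ZMod p) * v.1)
      left_inv := fun v => by ext <;> simp
      right_inv := fun v => by ext <;> simp
      map_add' := fun v w => by ext <;> simp [mul_add]; abel }
  have hT : ∀ (n : ℕ) (v : Multiplicative (ZMod p × ZMod p)), (T ^ n) v =
      Multiplicative.ofAdd (v.toAdd.1, v.toAdd.2 + (n : ZMod p) * (s : ZMod p) * v.toAdd.1) := by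
    intro n
    induction n with
    | zero => intro v; simp
    | succ n ih =>
      intro v
      rw [pow_succ, MulAut.mul_apply, ih]
      change Multiplicative.ofAdd (v.toAdd.1, v.toAdd.2 + (s : ZMod p) * v.toAdd.1 +
        (n : ZMod p) * (s : ZMod p) * v.toAdd.1) = _
      congr 2
      push_cast
      ring
  have hez : e (Multiplicative.ofAdd (1, 0)) = z := by
    change z ^ (1 : ZMod p).val * a ^ (0 : ZMod p).val = z
    simp [ZMod.val_one]
  have hea : e (Multiplicative.ofAdd (0, 1)) = a := by
    change z ^ (0 : ZMod p).val * a ^ (1 : ZMod p).val = a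
    simp [ZMod.val_one]
  have hTp : T ^ p = 1 := MulEquiv.ext fun v => by rw [hT]; simp
  have hT1 : T ≠ 1 := fun h => hs (by
    have := hT 1 (Multiplicative.ofAdd (1, 0))
    rw [pow_one, h] at this
    simpa using (congrArg (fun v => (Multiplicative.toAdd v).2) this).symm)
  refine ⟨MulAut.congr e T, ?_, ?_, ?_⟩
  · rw [MulEquiv.orderOf_eq, orderOf_eq_prime hTp hT1]
  · change e (T (e.symm a)) = a
    rw [← hea, e.symm_apply_apply, show T = T ^ 1 from (pow_one T).symm, hT]
    simp
  · change e (T (e.symm z)) = z * a ^ s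
    rw [← hez, e.symm_apply_apply, show T = T ^ 1 from (pow_one T).symm, hT]
    rw [hez]
    change z ^ (1 : ZMod p).val * a ^ (_ : ZMod p).val = _
    rw [ZMod.val_one, pow_one, ExtraFusion.pow_congr (p := p) (hexp a) (n := s)]
    simp


/-- Let p be an odd prime and G a finite group with a Sylow p-subgroup P that is extraspecial of order p³ and exponent p. Suppose P contains three distinct subgroups A of order p² (each is elementary abelian of rank 2) such that every automorphism of A of order p is induced by conjugation by an element of G; equivalently the automorphism group induced on A by its normalizer contains the special linear group of A. Then p ≤ 13. -/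
theorem result {G : Type*} [Group G] [Finite G]
    {p : ℕ} [Fact p.Prime] (hp : p ≠ 2) (P : Sylow p G) (hE : Cfsg.IsExtraspecial p ↥P)
    (hcard : Nat.card P = p ^ 3) (hexp : Monoid.exponent ↥P = p)
    (A : Fin 3 → Subgroup G) (hA : Function.Injective A) (hAP : ∀ i, A i ≤ (P : Subgroup G))
    (hAcard : ∀ i, Nat.card ↥(A i) = p ^ 2)
    (hSL : ∀ i, ∀ φ : MulAut ↥(A i), orderOf φ = p → ∃ g : G, ∀ a : ↥(A i), (φ a : G) = g * (a : G) * g⁻¹) :
    p ≤ 13 := by
  classical
  obtain ⟨z, c⟩ := ExtraFusion.exists_ctx P hE hcard hexp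
  have hp' : p.Prime := Fact.out
  by_contra hp13
  push Not at hp13
  have hcard' : Nat.card ↥P = p ^ 3 := hcard
  let B : Fin 3 → Subgroup ↥P := fun i => (A i).subgroupOf (P : Subgroup G)
  have hBcard : ∀ i, Nat.card ↥(B i) = p ^ 2 := fun i => by
    exact (Nat.card_congr (Subgroup.subgroupOfEquivOfLe (hAP i)).toEquiv).trans (hAcard i)
  have hBinj : ∀ i j, B i = B j → i = j := fun i j h => hA (by
    rwa [Subgroup.subgroupOf_inj, inf_of_le_left (hAP i), inf_of_le_left (hAP j)] at h)
  have hBcomm : ∀ i, ∀ u ∈ B i, ∀ v ∈ B i, u * v = v * u := fun i u hu v hv => congrArg Subtype.val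
    ((IsPGroup.isMulCommutative_of_card_eq_prime_sq (hBcard i)).is_comm.comm ⟨u, hu⟩ ⟨v, hv⟩)
  have hbig : ∀ i, ∀ K : Subgroup ↥P, B i ≤ K → ∀ x ∈ K, x ∉ B i → K = ⊤ := by
    intro i K hle x hx hxB
    apply Subgroup.eq_top_of_le_card
    obtain ⟨k, hk, hK⟩ := (Nat.dvd_prime_pow hp').mp (hcard' ▸ Subgroup.card_subgroup_dvd_card K)
    have hlt : p ^ 2 < p ^ k := by
      rw [← hK, ← hBcard i]
      exact lt_of_le_of_ne (Subgroup.card_le_of_le hle) fun h =>
        hxB (Subgroup.eq_of_le_of_card_ge hle h.ge ▸ hx)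
    rw [hcard', hK]
    exact Nat.pow_le_pow_right hp'.pos ((Nat.pow_lt_pow_iff_right hp'.one_lt).mp hlt)
  have hzB : ∀ i, z ∈ B i := by
    intro i
    by_contra hz
    have hle : B i ≤ Subgroup.center ↥P := fun b hb => Subgroup.mem_center_iff.mpr fun g => by
      have h := hbig i (Subgroup.centralizer {b}) (fun u hu => Subgroup.mem_centralizer_singleton_iff.mpr
        (hBcomm i u hu b hb)) z (Subgroup.mem_centralizer_singleton_iff.mpr
        (Subgroup.mem_center_iff.mp c.z_mem b).symm) hz
      exact Subgroup.mem_centralizer_singleton_iff.mp (h ▸ Subgroup.mem_top g)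
    have h := Subgroup.card_le_of_le hle
    rw [hBcard, hE.2] at h
    nlinarith [hp'.two_le]
  have hex : ∀ i, ∃ a ∈ B i, a ∉ Subgroup.center ↥P := fun i => by
    by_contra hc
    push Not at hc
    have h := Subgroup.card_le_of_le (show B i ≤ Subgroup.center ↥P from hc)
    rw [hBcard, hE.2] at h
    nlinarith [hp'.two_le]
  choose a haB hac using hex
  have hgen : ∀ i j, a j ∈ B i → i = j := by
    intro i j hji
    apply hBinj
    let S : Subgroup ↥P := Subgroup.closure {z, a j}
    have hS : ∀ l, a j ∈ B l → S = B l := by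
      intro l hl
      have hle : S ≤ B l := (Subgroup.closure_le _).mpr (Set.pair_subset (hzB l) hl)
      have hzS : Subgroup.zpowers z < S := by
        refine lt_of_le_not_ge (Subgroup.zpowers_le.mpr
          (Subgroup.subset_closure (Set.mem_insert _ _))) fun h => hac j ?_
        exact Subgroup.zpowers_le.mpr c.z_mem
          (h (Subgroup.subset_closure (Set.mem_insert_of_mem _ rfl)))
      obtain ⟨k, hk, hK⟩ := (Nat.dvd_prime_pow hp').mp
        (hBcard l ▸ Subgroup.card_dvd_of_le hle)
      apply Subgroup.eq_of_le_of_card_ge hle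
      have hne : Nat.card ↥(Subgroup.zpowers z) < Nat.card ↥S :=
        lt_of_le_of_ne (Subgroup.card_le_of_le hzS.le) fun h =>
          hzS.ne (Subgroup.eq_of_le_of_card_ge hzS.le h.ge)
      rw [Nat.card_zpowers, c.order_z, hK] at hne
      rw [hBcard, hK]
      exact Nat.pow_le_pow_right hp'.pos ((Nat.pow_lt_pow_iff_right hp'.one_lt).mp
        (show p ^ 1 < p ^ k by rwa [pow_one]))
    rw [← hS i hji, ← hS j (haB j)]
  let s : Finset ↥P := Finset.univ.image a
  have ha' : Function.Injective a := fun i j h => hgen i j (h ▸ haB i)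
  have hcardS : s.card = 3 := by
    rw [Finset.card_image_of_injective _ ha', Finset.card_univ, Fintype.card_fin]
  have hnc : ∀ x ∈ s, x ∉ Subgroup.center ↥P := by
    intro x hx
    obtain ⟨i, -, rfl⟩ := Finset.mem_image.mp hx
    exact hac i
  have hpair : ∀ x ∈ s, ∀ y ∈ s, x ≠ y → ⁅x, y⁆ ≠ 1 := by
    intro x hx y hy hxy h
    obtain ⟨i, -, rfl⟩ := Finset.mem_image.mp hx
    obtain ⟨j, -, rfl⟩ := Finset.mem_image.mp hy
    have hij : i ≠ j := fun e => hxy (e ▸ rfl)
    have htop := hbig i (Subgroup.centralizer {a i}) (fun u hu =>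
      Subgroup.mem_centralizer_singleton_iff.mpr (hBcomm i u hu _ (haB i))) (a j)
      (Subgroup.mem_centralizer_singleton_iff.mpr
        (commutatorElement_eq_one_iff_mul_comm.mp h).symm) (fun e => hij (hgen i j e))
    exact hac i (Subgroup.mem_center_iff.mpr fun g =>
      Subgroup.mem_centralizer_singleton_iff.mp (htop ▸ Subgroup.mem_top g))
  have hsh : ∀ x ∈ s, ExtraFusion.Shear z x := by
    intro x hx r
    obtain ⟨i, -, rfl⟩ := Finset.mem_image.mp hx
    have hap : ∀ u : ↥P, (u : G) ^ p = 1 := fun u => by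
      have := congrArg Subtype.val (c.pow_p u); simpa using this
    by_cases hr : (r : ZMod p) = 0
    · refine ⟨1, by simp, ?_⟩
      rw [ExtraFusion.pow_congr (p := p) (hap _) (n := 0) (by rw [hr, Nat.cast_zero])]
      simp
    have hza : Commute (⟨(z : G), hzB i⟩ : ↥(A i)) ⟨(a i : G), haB i⟩ := Subtype.ext
      (congrArg Subtype.val (Subgroup.mem_center_iff.mp c.z_mem (a i))).symm
    obtain ⟨φ, hφ, hφa, hφz⟩ := exists_transvection (hAcard i)
      (fun u => Subtype.ext (by simpa using hap ⟨u, hAP i u.2⟩))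
      (⟨(z : G), hzB i⟩ : ↥(A i)) ⟨(a i : G), haB i⟩ hza
      (fun h => c.z_ne (Subtype.ext (congrArg Subtype.val h :)))
      (fun h => hac i (by
        obtain ⟨k, hk⟩ := Subgroup.mem_zpowers_iff.mp h
        have hk' : z ^ k = a i := Subtype.ext (by simpa using congrArg Subtype.val hk)
        exact hk' ▸ zpow_mem c.z_mem k)) hr
    obtain ⟨g, hg⟩ := hSL i φ hφ
    refine ⟨g, ?_, ?_⟩
    · have := hg ⟨(a i : G), haB i⟩
      rw [hφa] at this
      exact this.symm
    · have := hg ⟨(z : G), hzB i⟩
      rw [hφz] at this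
      simpa using this.symm
  have key := ExtraFusion.few_lines c s hnc hpair hsh (n := 6) (by omega) (fun k h1 h2 hd => by
    have h := Nat.le_of_dvd (by omega) hd
    have : p ≠ 14 ∧ p ≠ 15 ∧ p ≠ 16 := ⟨fun e => by norm_num [e] at hp', fun e => by norm_num [e] at hp', fun e => by norm_num [e] at hp'⟩
    omega)
  have := key.1 le_rfl
  omega

end Cfsg.Agent.S3054
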