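import Cfsg.Statements.S3055
import Cfsg.Agent.Lib.LocalEven2.ExtraFusion

set_option autoImplicit false
open Cfsg

namespace Cfsg.Agent.S3055

open scoped commutatorElement
open Cfsg.Agent.Lib.LocalEven2


/-- Let p be an odd prime and G a finite group with a Sylow p-subgroup P that is extraspecial of order p³ and exponent p. If all nonidentity elements of P are conjugate in G, then p ≤ 7. -/
theorem result {G : Type*} [Group G] [Finite G]
    {p : ℕ} [Fact p.Prime] (hp : p ≠ 2) (P : Sylow p G) (hE : Cfsg.IsExtraspecial p ↥P)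
    (hcard : Nat.card P = p ^ 3) (hexp : Monoid.exponent ↥P = p)
    (hconj : ∀ x y : ↥P, x ≠ 1 → y ≠ 1 → ∃ g : G, g * (x : G) * g⁻¹ = (y : G)) :
    p ≤ 7 := by
  classical
  obtain ⟨z, c⟩ := ExtraFusion.exists_ctx P hE hcard hexp
  have hp' : p.Prime := Fact.out
  by_contra hp7
  push Not at hp7
  obtain ⟨x, y, hxy⟩ : ∃ x y : ↥P, ⁅x, y⁆ ≠ 1 := by
    by_contra hc
    push Not at hc
    have htop : Subgroup.center ↥P = ⊤ := eq_top_iff.mpr fun x _ =>
      Subgroup.mem_center_iff.mpr fun y => commutatorElement_eq_one_iff_mul_comm.mp (hc y x)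
    have := hE.2
    rw [htop, Subgroup.card_top, show Nat.card ↥P = p ^ 3 from hcard] at this
    have h2 : p ^ 1 < p ^ 3 := Nat.pow_lt_pow_right hp'.one_lt (by omega)
    rw [pow_one] at h2
    omega
  set w := ⁅x, y⁆ with hw
  have hord : orderOf w = p := orderOf_eq_prime (c.pow_p w) hxy
  have hright : ∀ u v v' : ↥P, ⁅u, v * v'⁆ = ⁅u, v⁆ * ⁅u, v'⁆ := fun u v v' => by
    rw [← commutatorElement_inv, c.comm_mul_left, mul_inv_rev, commutatorElement_inv,
      commutatorElement_inv]
    exact (Subgroup.mem_center_iff.mp (c.comm_center u v) _)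
  have hxy' : ∀ i : ℕ, ⁅x * y ^ i, y⁆ = w := fun i => by
    rw [c.comm_mul_left, c.comm_pow_left, commutatorElement_self, one_pow, mul_one]
  have hxx : ∀ i j : ℕ, ⁅x * y ^ i, x * y ^ j⁆ = (w ^ i)⁻¹ * w ^ j := fun i j => by
    rw [hright, c.comm_pow_right, hxy', c.comm_mul_left, commutatorElement_self, one_mul,
      c.comm_pow_left, ← inv_pow, hw, commutatorElement_inv]
  let s : Finset ↥P := insert y ((Finset.range p).image fun i => x * y ^ i)
  have hne : ∀ i < p, ∀ j < p, i ≠ j → ⁅x * y ^ i, x * y ^ j⁆ ≠ 1 := by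
    intro i hi j hj hij h
    rw [hxx, inv_mul_eq_one] at h
    exact hij (pow_injOn_Iio_orderOf (by rw [Set.mem_Iio, hord]; exact hi)
      (by rw [Set.mem_Iio, hord]; exact hj) h)
  have hcardS : s.card = p + 1 := by
    rw [Finset.card_insert_of_notMem, Finset.card_image_of_injOn, Finset.card_range]
    · intro i hi j hj hij
      by_contra h
      apply hne i (Finset.mem_range.mp hi) j (Finset.mem_range.mp hj) h
      simp only at hij
      rw [hij, commutatorElement_self]
    · intro h
      obtain ⟨i, -, hi⟩ := Finset.mem_image.mp h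
      apply hxy
      rw [← hxy' i, hi, commutatorElement_self]
  have hcases : ∀ a ∈ s, a = y ∨ ∃ i < p, a = x * y ^ i := by
    intro a ha
    rcases Finset.mem_insert.mp ha with h | h
    · exact Or.inl h
    · obtain ⟨i, hi, rfl⟩ := Finset.mem_image.mp h
      exact Or.inr ⟨i, Finset.mem_range.mp hi, rfl⟩
  have hnc : ∀ a ∈ s, a ∉ Subgroup.center ↥P := by
    intro a ha hac
    rcases hcases a ha with rfl | ⟨i, -, rfl⟩
    · exact hxy (commutatorElement_eq_one_iff_mul_comm.mpr (Subgroup.mem_center_iff.mp hac x))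
    · exact hxy ((hxy' i).symm.trans
        (commutatorElement_eq_one_iff_mul_comm.mpr (Subgroup.mem_center_iff.mp hac y).symm))
  have hpair : ∀ a ∈ s, ∀ b ∈ s, a ≠ b → ⁅a, b⁆ ≠ 1 := by
    intro a ha b hb hab
    rcases hcases a ha with rfl | ⟨i, hi, rfl⟩ <;> rcases hcases b hb with rfl | ⟨j, hj, rfl⟩
    · exact absurd rfl hab
    · rw [← commutatorElement_inv, hxy', Ne, inv_eq_one]; exact hxy
    · rw [hxy']; exact hxy
    · exact hne i hi j hj fun h => hab (h ▸ rfl)
  have hsh : ∀ a ∈ s, ExtraFusion.Shear z a := fun a ha => ExtraFusion.shear_of_conj c (hnc a ha)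
    (hconj z a c.z_ne fun h => hnc a ha (h ▸ one_mem _))
  have key := fun (n : ℕ) (hn : 2 ≤ n) (hk : ∀ k, 0 < k → k < n → ¬ (p - 1) ∣ 3 * k) =>
    ExtraFusion.few_lines c s hnc hpair hsh hn hk
  rw [hcardS] at key
  have hcase : p = 11 ∨ p = 13 ∨ 17 ≤ p := by
    by_contra h
    push Not at h
    obtain ⟨h1, h2, h3⟩ := h
    interval_cases p <;> norm_num at hp' <;> omega
  rcases hcase with rfl | rfl | h17
  · have := (key 6 (by omega) (fun k h1 h2 => by interval_cases k <;> decide)).1 le_rfl
    omega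
  · have := (key 4 (by omega) (fun k h1 h2 => by interval_cases k <;> decide)).2 le_rfl
    omega
  · have := (key 6 (by omega) (fun k h1 h2 hd => by
      have := Nat.le_of_dvd (by omega) hd
      omega)).1 le_rfl
    omega

end Cfsg.Agent.S3055
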