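import Cfsg.Statements.S3057
import Cfsg.Agent.Lib.Cores
import Cfsg.Agent.Lib.Frobenius.UniqueSubgroup
import Cfsg.Agent.Lib.Coprime.Generation
import Cfsg.Agent.Lib.LocalEven2.Embedded
import Cfsg.Agent.Lib.LocalEven2.Basic
import Cfsg.Agent.Lib.LocalEven2.CD

set_option autoImplicit false
open Cfsg

namespace Cfsg.Agent.S3057

theorem pCore_quotient_ne_bot {G : Type*} [Group G] [Finite G] {p : ℕ} [Fact p.Prime]
    (hdiv : p ∣ Nat.card G) (hsol : Cfsg.IsPSolvable p G) :
    Cfsg.pCore p (G ⧸ Cfsg.pPrimeCore p G) ≠ ⊥ := by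
  classical
  set K := Cfsg.pPrimeCore p G with hK
  obtain ⟨n, H, h0, hl, hmono, hn, hstep⟩ := hsol
  intro hbot
  have key : ∀ i : Fin (n + 1), H i ≤ K := by
    intro i
    induction i using Fin.induction with
    | zero => rw [h0]; exact bot_le
    | succ i ih =>
      haveI := hn i.succ
      set X := (H i.succ).map (QuotientGroup.mk' K) with hX
      have hXn : X.Normal := (hn i.succ).map _ (QuotientGroup.mk'_surjective K)
      have hcard : Nat.card ↥X ∣ (H i.castSucc).relIndex (H i.succ) := by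
        have h1 : K.relIndex (H i.succ) ∣ (H i.castSucc).relIndex (H i.succ) :=
          Subgroup.relIndex_dvd_of_le_left _ ih
        have h2 : (⊥ : Subgroup (G ⧸ K)).relIndex X = K.relIndex (H i.succ) := by
          rw [hX, ← Subgroup.relIndex_comap, MonoidHom.comap_bot, QuotientGroup.ker_mk']
        rw [Subgroup.relIndex_bot_left] at h2
        rw [h2]; exact h1
      have hXbot : X = ⊥ := by
        rcases hstep i with ⟨m, hm⟩ | hcop
        · obtain ⟨k, -, hk⟩ := (Nat.dvd_prime_pow (Fact.out : p.Prime)).mp (hm ▸ hcard)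
          exact le_bot_iff.mp (hbot ▸ Lib.Cores.le_pCore hXn (IsPGroup.of_card hk))
        · exact le_bot_iff.mp (Lib.Cores.pPrimeCore_quotient_pPrimeCore p G ▸
            Lib.Cores.le_pPrimeCore hXn (Nat.Coprime.coprime_dvd_left hcard hcop))
      rwa [hX, Subgroup.map_eq_bot_iff, QuotientGroup.ker_mk'] at hXbot
  have hKtop : K = ⊤ := top_le_iff.mp (hl ▸ key _)
  have := Lib.Cores.not_dvd_card_pPrimeCore (p := p) (G := G)
  rw [← hK, hKtop, Subgroup.card_top] at this
  exact this hdiv

theorem quaternion_unique {k : ℕ} {u v : QuaternionGroup (2 ^ k)} (hu : orderOf u = 2)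
    (hv : orderOf v = 2) : u = v := by
  haveI : NeZero (2 ^ k : ℕ) := ⟨(Nat.two_pow_pos k).ne'⟩
  have key : ∀ w : QuaternionGroup (2 ^ k), orderOf w = 2 → w = QuaternionGroup.a (2 ^ k : ℕ) := by
    rintro (i | i) hw
    · have h1 : (QuaternionGroup.a i) ^ 2 = (1 : QuaternionGroup (2 ^ k)) := by
        have h := pow_orderOf_eq_one (QuaternionGroup.a i : QuaternionGroup (2 ^ k))
        rwa [hw] at h
      rw [sq, QuaternionGroup.a_mul_a, QuaternionGroup.one_def] at h1
      have h2 : i + i = 0 := QuaternionGroup.a.inj h1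
      have hi : i ≠ 0 := fun h => by
        rw [h] at hw
        rw [← QuaternionGroup.one_def, orderOf_one] at hw
        omega
      have h3 : ((i.val + i.val : ℕ) : ZMod (2 * 2 ^ k)) = 0 := by
        push_cast; rw [ZMod.natCast_zmod_val]; exact h2
      rw [ZMod.natCast_eq_zero_iff] at h3
      obtain ⟨c, hc⟩ := h3
      have hlt := ZMod.val_lt i
      have hpos : i.val ≠ 0 := fun h => hi ((ZMod.val_eq_zero i).mp h)
      have hc1 : c = 1 := by
        rcases c with _ | _ | c
        · omega
        · rfl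
        · nlinarith
      rw [hc1] at hc
      congr 1
      rw [← ZMod.natCast_zmod_val i, show i.val = 2 ^ k by omega]
    · rw [QuaternionGroup.orderOf_xa] at hw; omega
  rw [key u hu, key v hv]


/-- Let p be a prime and G a finite p-solvable group of order divisible by p, with Sylow p-subgroup P. Then the Sylow p-subgroups of G fail to be chain-connected through nontrivial intersections (equivalently, G has a strongly p-embedded subgroup) if and only if O_p(G) = 1 and P is cyclic or, for p = 2, generalized quaternion. -/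
theorem result {G : Type*} [Group G] [Finite G]
    (p : ℕ) [Fact p.Prime] (hdiv : p ∣ Nat.card G) (hsol : Cfsg.IsPSolvable p G) (P : Sylow p G) :
    ¬ Cfsg.IsSylowChainConnected p G ↔
      Cfsg.pCore p G = ⊥ ∧ (IsCyclic ↥P ∨ (p = 2 ∧ ∃ n : ℕ, Nonempty (↥P ≃* QuaternionGroup (2 ^ n)))) := by
  classical
  have hp : p.Prime := Fact.out
  set S := (P : Subgroup G) with hS
  have hSne : S ≠ ⊥ := P.ne_bot_of_dvd_card hdiv
  haveI : Nontrivial ↥S := (Subgroup.nontrivial_iff_ne_bot S).mpr hSne
  constructor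
  · intro hnc
    obtain ⟨H, hH, hpH, hmeet⟩ := Lib.LocalEven2.exists_meetsOddly hnc
    have hmo : Lib.LocalEven2.MeetsOddly p H := hmeet
    have hcore : Cfsg.pCore p G = ⊥ := by
      by_contra hne
      refine hnc fun A B => ?_
      by_cases hAB : A = B
      · exact ⟨0, fun _ => A, rfl, hAB, fun _ => inf_le_left, finZeroElim⟩
      refine ⟨1, ![A, B], rfl, rfl, fun i => ?_, fun i => ?_⟩
      · fin_cases i
        · exact inf_le_left
        · exact inf_le_right
      · fin_cases i
        exact ⟨hAB, fun h => hne (le_bot_iff.mp (h ▸ le_inf (Lib.Cores.pCore_le_sylow A)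
          (Lib.Cores.pCore_le_sylow B)))⟩
    refine ⟨hcore, ?_⟩
    suffices huniq : ∀ a b : ↥S, orderOf a = p → orderOf b = p → a ∈ Subgroup.zpowers b by
      rcases Lib.Frobenius.isCyclic_or_quaternion_of_unique P.2 huniq with h | ⟨h2, m, h⟩
      · exact Or.inl h
      · exact Or.inr ⟨h2, m + 1, h⟩
    by_contra hnu
    obtain ⟨z, hzc, hz⟩ : ∃ z : ↥S, z ∈ Subgroup.center ↥S ∧ orderOf z = p := by
      haveI : Nontrivial ↥(Subgroup.center ↥S) := P.2.center_nontrivial
      obtain ⟨n, hn, hcard⟩ := (P.2.to_subgroup (Subgroup.center ↥S)).nontrivial_iff_card.mp inferInstance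
      obtain ⟨z, hz⟩ := exists_prime_orderOf_dvd_card' (G := ↥(Subgroup.center ↥S)) p
        (hcard ▸ dvd_pow_self p hn.ne')
      exact ⟨z, z.2, by rw [Subgroup.orderOf_coe, hz]⟩
    obtain ⟨b, hb, hbz⟩ : ∃ b : ↥S, orderOf b = p ∧ b ∉ Subgroup.zpowers z := by
      by_contra h
      simp only [not_exists, not_and, not_not] at h
      refine hnu fun a b ha hb => ?_
      have hle : Subgroup.zpowers b = Subgroup.zpowers z := Subgroup.eq_of_le_of_card_ge
        (Subgroup.zpowers_le.mpr (h b hb)) (by rw [Nat.card_zpowers, Nat.card_zpowers, hz, hb])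
      exact hle ▸ h a ha
    obtain ⟨P₀, hP₀⟩ := hmo.exists_sylow_le hpH
    obtain ⟨g, hg⟩ := MulAction.exists_smul_eq G P P₀
    -- an elementary abelian group of order `p²` in `H`
    set u : G := g * (z : G) * g⁻¹ with hu
    set v : G := g * (b : G) * g⁻¹ with hv
    have huv : u * v = v * u := by
      have h : (b : G) * z = z * b := congrArg Subtype.val (Subgroup.mem_center_iff.mp hzc b)
      calc u * v = g * ((z : G) * b) * g⁻¹ := by rw [hu, hv]; group
        _ = g * ((b : G) * z) * g⁻¹ := by rw [h]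
        _ = _ := by rw [hu, hv]; group
    have huP : u ∈ H := hP₀ (by rw [← hg, Lib.LocalEven2.mem_smul_sylow, hu]; simp [mul_assoc])
    have hvP : v ∈ H := hP₀ (by rw [← hg, Lib.LocalEven2.mem_smul_sylow, hv]; simp [mul_assoc])
    set A := Subgroup.closure ({u, v} : Set G) with hA
    have hAc : IsMulCommutative ↥A := by
      rw [Lib.LocalEven2.CD.isMulCommutative_iff_le_centralizer, hA, Subgroup.centralizer_closure,
        Subgroup.closure_le]
      rintro a (rfl | rfl) <;> refine Subgroup.mem_centralizer_iff.mpr ?_ <;>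
        rintro c (rfl | rfl) <;> first | rfl | exact huv | exact huv.symm
    have hAH : A ≤ H := (Subgroup.closure_le _).mpr (by rintro a (rfl | rfl) <;> assumption)
    have hAP : A ≤ (P₀ : Subgroup G) := (Subgroup.closure_le _).mpr (by
      rintro a (rfl | rfl) <;> rw [SetLike.mem_coe, ← hg, Lib.LocalEven2.mem_smul_sylow] <;>
        simp [hu, hv, mul_assoc])
    have hAp : IsPGroup p ↥A := P₀.2.to_le hAP
    have hAnc : ¬ IsCyclic ↥A := by
      intro hc
      have hu' : u ∈ A := Subgroup.subset_closure (Or.inl rfl)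
      have hv' : v ∈ A := Subgroup.subset_closure (Or.inr rfl)
      have h := Lib.LocalEven2.zpowers_eq_of_isCyclic (C := ↥A) (x := ⟨v, hv'⟩) (y := ⟨u, hu'⟩) (by
        rw [Subgroup.orderOf_mk, Subgroup.orderOf_mk, hu, hv, show g * (z : G) * g⁻¹ = MulAut.conj g (z : G) from rfl,
          show g * (b : G) * g⁻¹ = MulAut.conj g (b : G) from rfl, MulEquiv.orderOf_eq, MulEquiv.orderOf_eq,
          Subgroup.orderOf_coe, Subgroup.orderOf_coe, hz, hb])
      obtain ⟨k, hk⟩ : (⟨v, hv'⟩ : ↥A) ∈ Subgroup.zpowers ⟨u, hu'⟩ := h ▸ Subgroup.mem_zpowers _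
      have hk' : u ^ k = v := by simpa using congrArg Subtype.val hk
      apply hbz
      refine ⟨k, Subtype.ext ?_⟩
      show ((z ^ k : ↥S) : G) = (b : G)
      rw [hu, hv, conj_zpow] at hk'
      simpa using hk'
    set K := Cfsg.pPrimeCore p G with hK
    have hKH : K ≤ H := by
      have hcop : (Nat.card ↥A).Coprime (Nat.card ↥K) := by
        obtain ⟨m, hm⟩ := IsPGroup.iff_card.mp hAp
        rw [hm]
        exact (Lib.Cores.pPrimeCore_coprime p G).symm.pow_left m
      haveI := hAc
      rw [← Lib.Coprime.iSup_centralizer_eq (A := A) (K := K) hAnc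
        (by rw [Subgroup.normalizer_eq_top]; exact le_top) hcop]
      refine iSup₂_le fun a ha => inf_le_right.trans ?_
      exact hmo.centralizer_le (hAH ha.1) (Lib.LocalEven2.orderOf_of_mem_pgroup hAp ha.1) ha.2
    -- a normal subgroup of order divisible by `p` inside `H`
    set M := Cfsg.pPrimePCore p G with hM
    haveI hMn : M.Normal := Subgroup.normal_comap _
    have hKM : K ≤ M := fun k hk => by
      rw [hM, Cfsg.pPrimePCore, Subgroup.mem_comap,
        show QuotientGroup.mk' (Cfsg.pPrimeCore p G) k = 1 from (QuotientGroup.eq_one_iff k).mpr hk]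
      exact one_mem _
    set R := (P₀ : Subgroup G) ⊓ M with hR
    have hMle : M ≤ R ⊔ K := by
      refine Subgroup.relIndex_eq_one.mp ?_
      have hR' : ¬ p ∣ (R ⊔ K).relIndex M := fun h =>
        Lib.LocalEven2.not_dvd_relIndex_inf_subnormal P₀ hMn.isSubnormal
          (h.trans (Subgroup.relIndex_dvd_of_le_left _ le_sup_left))
      obtain ⟨m, hm⟩ : ∃ m, K.relIndex M = p ^ m := by
        obtain ⟨m, hm⟩ := IsPGroup.iff_card.mp (Lib.Cores.pCore_isPGroup p (G ⧸ K))
        refine ⟨m, ?_⟩
        have h := Subgroup.relIndex_comap (⊥ : Subgroup (G ⧸ K)) (QuotientGroup.mk' K) M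
        rw [MonoidHom.comap_bot, QuotientGroup.ker_mk', hM, Cfsg.pPrimePCore,
          Subgroup.map_comap_eq_self_of_surjective (QuotientGroup.mk'_surjective _),
          Subgroup.relIndex_bot_left] at h
        rw [← hm, hM]; exact h
      obtain ⟨j, -, hj⟩ := (Nat.dvd_prime_pow hp).mp
        (hm ▸ (Subgroup.relIndex_dvd_of_le_left M (le_sup_right : K ≤ R ⊔ K)))
      rcases j with _ | j
      · simpa using hj
      · exact absurd (hj ▸ dvd_pow_self p (Nat.succ_ne_zero j)) hR'
    have hMH : M ≤ H := hMle.trans (sup_le (inf_le_left.trans hP₀) hKH)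
    have hpM : p ∣ Nat.card ↥M := by
      have h : Cfsg.pCore p (G ⧸ K) ≠ ⊥ := pCore_quotient_ne_bot hdiv hsol
      refine (Lib.LocalEven2.dvd_card_of_pgroup_ne_bot (Lib.Cores.pCore_isPGroup p _) h).trans ?_
      refine Dvd.dvd.trans (dvd_of_eq ?_)
        (Subgroup.card_dvd_of_surjective ((QuotientGroup.mk' K).subgroupMap M)
          ((QuotientGroup.mk' K).subgroupMap_surjective M))
      rw [hM, Cfsg.pPrimePCore, Subgroup.map_comap_eq_self_of_surjective (QuotientGroup.mk'_surjective _)]
    apply hH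
    rw [eq_top_iff]
    intro x _
    by_contra hx
    refine hmeet x hx (hpM.trans (Subgroup.card_dvd_of_le (le_inf hMH ?_)))
    intro y hy
    rw [Lib.LocalEven2.mem_map_conj]
    exact hMH (by simpa using hMn.conj_mem y hy x⁻¹)
  · rintro ⟨hcore, hPc⟩
    have huniq : ∀ a b : ↥S, orderOf a = p → orderOf b = p → a ∈ Subgroup.zpowers b := by
      intro a b ha hb
      rcases hPc with hc | ⟨h2, k, ⟨e⟩⟩
      · haveI : IsCyclic ↥S := hc
        rw [Lib.LocalEven2.zpowers_eq_of_isCyclic (hb.trans ha.symm)]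
        exact Subgroup.mem_zpowers a
      · have h : a = b := e.injective (quaternion_unique (by rw [MulEquiv.orderOf_eq, ha, h2])
          (by rw [MulEquiv.orderOf_eq, hb, h2]))
        rw [h]; exact Subgroup.mem_zpowers b
    obtain ⟨z, hz⟩ := exists_prime_orderOf_dvd_card' (G := ↥S) p
      (Lib.LocalEven2.dvd_card_of_pgroup_ne_bot P.2 hSne)
    set Z := Subgroup.zpowers (z : G) with hZ
    have hzG : orderOf (z : G) = p := by rw [Subgroup.orderOf_coe, hz]
    have hZS : ∀ {w : G}, w ∈ S → orderOf w = p → Subgroup.zpowers w = Z := by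
      intro w hw hwp
      refine Subgroup.eq_of_le_of_card_ge ?_ (by rw [hZ, Nat.card_zpowers, Nat.card_zpowers, hwp, hzG])
      obtain ⟨k, hk⟩ := huniq ⟨w, hw⟩ z (by rw [Subgroup.orderOf_mk, hwp]) hz
      exact Subgroup.zpowers_le.mpr ⟨k, by simpa using congrArg Subtype.val hk⟩
    set H := Subgroup.normalizer (Z : Set G) with hH
    have hZmap : ∀ x : G, x ∈ H ↔ Z.map (MulAut.conj x).toMonoidHom = Z := fun x => by
      rw [hH, Subgroup.mem_normalizer_iff]
      constructor
      · intro h; ext y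
        rw [Lib.LocalEven2.mem_map_conj, h (x⁻¹ * y * x)]
        simp [mul_assoc]
      · intro h y
        conv_rhs => rw [← h, Lib.LocalEven2.mem_map_conj]
        simp [mul_assoc]
    have hmapz : ∀ x w : G, (Subgroup.zpowers w).map (MulAut.conj x).toMonoidHom =
        Subgroup.zpowers (x * w * x⁻¹) := fun x w => MonoidHom.map_zpowers _ w
    have hSH : S ≤ H := by
      intro s hs
      rw [hZmap, hZ, hmapz]
      exact hZS (S.mul_mem (S.mul_mem hs z.2) (S.inv_mem hs))
        (by rw [show s * (z : G) * s⁻¹ = MulAut.conj s (z : G) from rfl, MulEquiv.orderOf_eq, hzG])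
    have hmeet : Lib.LocalEven2.MeetsOddly p H := by
      intro g hg hd
      apply hg
      obtain ⟨⟨w, hwH, hwg⟩, hw⟩ :=
        exists_prime_orderOf_dvd_card' (G := ↥(H ⊓ H.map (MulAut.conj g).toMonoidHom)) p hd
      have hwp : orderOf w = p := by rwa [← Subgroup.orderOf_coe] at hw
      have key : ∀ w, w ∈ H → orderOf w = p → Subgroup.zpowers w = Z := by
        intro w hwH hwp
        obtain ⟨a, ha, hle⟩ := Lib.LocalEven2.exists_conj_le P hSH
          (Lib.LocalEven2.isPGroup_zpowers ⟨1, by rw [pow_one, hwp]⟩) (Subgroup.zpowers_le.mpr hwH)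
        have hwa : a⁻¹ * w * a ∈ S := Lib.LocalEven2.mem_smul_sylow.mp (hle (Subgroup.mem_zpowers w))
        have h := hZS hwa (by
          rw [show a⁻¹ * w * a = MulAut.conj a⁻¹ w by simp, MulEquiv.orderOf_eq, hwp])
        have h2 := (hZmap a).mp ha
        rw [← h, hmapz] at h2
        rw [show a * (a⁻¹ * w * a) * a⁻¹ = w by group, h] at h2
        exact h2
      have h1 := key w hwH hwp
      have h2 := key (g⁻¹ * w * g) (Lib.LocalEven2.mem_map_conj.mp hwg)
        (by rw [show g⁻¹ * w * g = MulAut.conj g⁻¹ w by simp, MulEquiv.orderOf_eq, hwp])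
      rw [hZmap]
      conv_lhs => rw [← h2, hmapz, show g * (g⁻¹ * w * g) * g⁻¹ = w by group, h1]
    have hHne : H ≠ ⊤ := by
      intro h
      haveI : Z.Normal := Subgroup.normalizer_eq_top_iff.mp h
      have hle := Lib.Cores.le_pCore (p := p) (inferInstance : Z.Normal)
        (Lib.LocalEven2.isPGroup_zpowers ⟨1, by rw [pow_one, hzG]⟩)
      rw [hcore, le_bot_iff, hZ, Subgroup.zpowers_eq_bot] at hle
      rw [hle, orderOf_one] at hzG
      exact hp.ne_one hzG.symm
    exact Lib.LocalEven2.not_connected_of_meetsOddly hmeet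
      ((Lib.LocalEven2.dvd_card_of_pgroup_ne_bot P.2 hSne).trans (Subgroup.card_dvd_of_le hSH)) hHne

end Cfsg.Agent.S3057
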