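import Cfsg.Statements.S3059
import Cfsg.Agent.Lib.LocalEven2.Embedded

set_option autoImplicit false
open Cfsg

namespace Cfsg.Agent.S3059

/-- Let p be a prime and H a strongly p-embedded subgroup of the finite group G in the classical sense: H is proper, p divides the order of H, and H ∩ gHg⁻¹ has order prime to p for every g outside H. Then for every normal subgroup N of G of order divisible by p, G = H · O^p(N), where O^p(N) is the subgroup generated by the elements of N of order prime to p. -/
theorem result {G : Type*} [Group G] [Finite G]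
    (p : ℕ) [Fact p.Prime] (H : Subgroup G) (hH : H ≠ ⊤) (hpH : p ∣ Nat.card H)
    (hse : ∀ g : G, g ∉ H → ¬ p ∣ Nat.card ↥(H ⊓ H.map (MulAut.conj g).toMonoidHom))
    (N : Subgroup G) [N.Normal] (hN : p ∣ Nat.card N) :
    H ⊔ Subgroup.closure {g : G | g ∈ N ∧ (orderOf g).Coprime p} = ⊤ := by
  have hM : Lib.LocalEven2.MeetsOddly p H := hse
  obtain ⟨P, hP⟩ := hM.exists_sylow_le hpH
  set R := (P : Subgroup G) ⊓ N with hR
  have hRN : ¬ p ∣ R.relIndex N :=
    Lib.LocalEven2.not_dvd_relIndex_inf_subnormal P (Subgroup.Normal.isSubnormal inferInstance)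
  have hR1 : R ≠ ⊥ := fun h => hRN (by rw [h, Subgroup.relIndex_bot_left]; exact hN)
  have hNR : Subgroup.normalizer (R : Set G) ≤ H :=
    hM.normalizer_le P.2.to_inf_left hR1 (inf_le_left.trans hP)
  set M := Subgroup.closure {g : G | g ∈ N ∧ (orderOf g).Coprime p} with hMdef
  have hMN : M ≤ N := (Subgroup.closure_le N).mpr fun g hg => hg.1
  -- `N = M ⊔ R`
  have hMR : M ⊔ R = N := by
    refine le_antisymm (sup_le hMN inf_le_right) ?_
    refine Subgroup.relIndex_eq_one.mp ?_
    by_contra hne
    obtain ⟨q, hq, hqd⟩ := Nat.exists_prime_and_dvd hne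
    haveI := Fact.mk hq
    rcases eq_or_ne q p with rfl | hqp
    · exact hRN (hqd.trans (Subgroup.relIndex_dvd_of_le_left N le_sup_right))
    · set Q : Sylow q ↥N := default
      have hQM : (Q : Subgroup ↥N).map N.subtype ≤ M := by
        rintro _ ⟨z, hz, rfl⟩
        refine Subgroup.subset_closure ⟨z.2, ?_⟩
        obtain ⟨k, hk⟩ := IsPGroup.iff_orderOf.mp Q.2 ⟨z, hz⟩
        rw [Subgroup.orderOf_mk] at hk
        rw [N.subtype_apply, Subgroup.orderOf_coe, hk]
        exact Nat.Coprime.pow_left k ((Nat.coprime_primes hq Fact.out).mpr hqp)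
      apply Q.not_dvd_index
      have h1 := hqd.trans (Subgroup.relIndex_dvd_of_le_left N (hQM.trans le_sup_left))
      rwa [Subgroup.relIndex, Subgroup.subgroupOf,
        Subgroup.comap_map_eq_self_of_injective N.subtype_injective] at h1
  -- Frattini argument
  rw [eq_top_iff]
  intro g _
  have hcop : ¬ p ∣ (R.subgroupOf N).index := hRN
  let R' : Sylow p ↥N := (P.2.to_inf_left.comap_subtype (K := N)).toSylow hcop
  have hR'map : (R' : Subgroup ↥N).map N.subtype = R :=
    Subgroup.map_subgroupOf_eq_of_le inf_le_right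
  have hF := Sylow.normalizer_sup_eq_top R'
  rw [hR'map] at hF
  have h1 : g ∈ Subgroup.normalizer (R : Set G) ⊔ N := by rw [hF]; trivial
  refine (sup_le (hNR.trans le_sup_left) ?_ : _ ≤ H ⊔ M) h1
  rw [← hMR]
  exact sup_le le_sup_right ((inf_le_left.trans hP).trans le_sup_left)

end Cfsg.Agent.S3059
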