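import Cfsg.Statements.S3060
import Cfsg.Agent.Lib.LocalEven2.DStar
import Cfsg.Agent.Lib.LocalEven2.ZJClosed
import Cfsg.Agent.Lib.FusionControl.Centric
import Cfsg.Agent.Lib.FusionControl.Control

set_option autoImplicit false
open Cfsg

namespace Cfsg.Agent.S3060

open Cfsg.Agent.Lib
open scoped commutatorElement

/-- `A` is a member of the family of `P`, read in the ambient group. -/
def Mem {G : Type*} [Group G] (P A : Subgroup G) : Prop :=
  A ≤ P ∧ IsMulCommutative A ∧ ∀ x ∈ P,
    ⁅⁅A ⊔ Subgroup.zpowers x, A ⊔ Subgroup.zpowers x⁆, A ⊔ Subgroup.zpowers x⁆ = ⊥ → ∀ a ∈ A, a * x = x * a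

theorem mem_iff {G : Type*} [Group G] {P : Subgroup G} {A : Subgroup P} :
    A ∈ Cfsg.dStarFamily P ↔ Mem P (A.map P.subtype) := by
  have hH : ∀ x : P, (A ⊔ Subgroup.zpowers x).map P.subtype =
      A.map P.subtype ⊔ Subgroup.zpowers (x : G) := fun x => by
    rw [Subgroup.map_sup, MonoidHom.map_zpowers]; rfl
  constructor
  · intro hA
    refine ⟨Subgroup.map_subtype_le A, (haveI := hA.1; inferInstance), ?_⟩
    rintro x hx h _ ⟨a, ha, rfl⟩
    refine congrArg Subtype.val (hA.2 ⟨x, hx⟩ ?_ a ha)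
    rw [← Subgroup.map_eq_bot_iff_of_injective _ P.subtype_injective, Subgroup.map_commutator,
      Subgroup.map_commutator, hH]
    exact h
  · intro hA
    refine ⟨⟨⟨fun a b => Subtype.ext (Subtype.ext
      (congrArg Subtype.val (hA.2.1.is_comm.comm ⟨_, ⟨a.1, a.2, rfl⟩⟩ ⟨_, ⟨b.1, b.2, rfl⟩⟩) : _))⟩⟩, ?_⟩
    intro x h a ha
    refine Subtype.ext (hA.2.2 x x.2 ?_ a ⟨a, ha, rfl⟩)
    rw [← hH, ← Subgroup.map_commutator, ← Subgroup.map_commutator, h, Subgroup.map_bot]

theorem Mem.mem {G : Type*} [Group G] {P A : Subgroup G} (h : Mem P A) :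
    A.subgroupOf P ∈ Cfsg.dStarFamily P := by
  rw [mem_iff, Subgroup.subgroupOf_map_subtype, inf_eq_left.2 h.1]
  exact h



/-- The D*-Theorem. For a finite p-group S let D*(S) be the subgroup generated by the abelian subgroups A of S such that every x ∈ S with ⟨A, x⟩ of nilpotency class at most two centralizes A. Let p be an odd prime and H a finite p-stable group with Sylow p-subgroup S. Here H is p-stable in the following sense: the largest normal p-subgroup O_p(H) contains its centralizer in H, and for every normal p-subgroup P of H, every element acting quadratically on P has image in O_p(H/C_H(P)). Then D*(S) is a normal subgroup of H. -/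
theorem result {G : Type*} [Group G] [Finite G] {p : ℕ} [Fact p.Prime] (hp : p ≠ 2)
    (hc : Subgroup.centralizer (Cfsg.pCore p G : Set G) ≤ Cfsg.pCore p G)
    (hst : ∀ (P : Subgroup G) [P.Normal], IsPGroup p P → Cfsg.IsPStableOn p P) (S : Sylow p G) :
    (Cfsg.dStarOf (S : Subgroup G)).Normal := by
  set P := (S : Subgroup G) with hP
  set D := Cfsg.dStarOf P with hD
  haveI : Group.IsNilpotent P := S.2.isNilpotent
  have hDm : Mem P D := mem_iff.1 LocalEven2.DStar.dStar_mem_family
  have hPD : P ≤ Subgroup.normalizer (D : Set G) := by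
    intro s hs
    refine LocalEven2.mem_normalizer_of_conj_mem ?_
    rintro _ ⟨a, ha, rfl⟩
    exact ⟨⟨s, hs⟩ * a * ⟨s, hs⟩⁻¹, LocalEven2.DStar.dStar_normal.conj_mem a ha _, rfl⟩
  set Q := Cfsg.pCore p G with hQ
  haveI : Q.Normal := Cfsg.pCore_normal p G
  have hQp : IsPGroup p Q := Cores.pCore_isPGroup p G
  have hQS : Q ≤ P := Cores.pCore_le_sylow S
  have hcore : ∀ (V : Subgroup G) [V.Normal], IsPGroup p V → ∀ a : G,
      ⁅⁅V, Subgroup.zpowers a⁆, Subgroup.zpowers a⁆ = ⊥ →
      ∃ K : Subgroup G, K.Normal ∧ Subgroup.centralizer (V : Set G) ≤ K ∧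
        (∃ k, (Subgroup.centralizer (V : Set G)).relIndex K = p ^ k) ∧ a ∈ K := by
    intro V _ hV a ha
    obtain ⟨K, h1, h2, h3, h4⟩ := PLocal.pStable_core (p := p) (B := V)
    exact ⟨K, h1, h2, h3, h4 (hst V hV) a ha⟩
  have hDQ : D ≤ Q := by
    intro d hd
    obtain ⟨K, hK, hCK, ⟨k, hk⟩, hdK⟩ := hcore Q hQp d (by
      rw [Subgroup.commutator_eq_bot_iff_le_centralizer]
      refine le_trans ((Subgroup.commutator_mono le_rfl (Subgroup.zpowers_le.mpr hd)).trans
        (Subgroup.le_normalizer_iff_commutator_le_right.mp (hQS.trans hPD))) ?_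
      intro c hc z hz
      exact congrArg Subtype.val
        (hDm.2.1.is_comm.comm ⟨z, (Subgroup.zpowers_le.mpr hd) hz⟩ ⟨c, hc⟩))
    refine Cores.le_pCore hK ?_ hdK
    obtain ⟨m, hm⟩ := IsPGroup.iff_card.mp (hQp.to_le hc)
    refine IsPGroup.of_card (n := m + k) ?_
    rw [pow_add, ← hm, ← hk, ← Subgroup.relIndex_bot_left, ← Subgroup.relIndex_bot_left]
    exact (Subgroup.relIndex_mul_relIndex _ _ _ bot_le hCK).symm
  -- the normal closure is an abelian member of the family of `O_p`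
  set B := Subgroup.normalClosure (D : Set G) with hB
  have hBQ : B ≤ Q := Subgroup.normalClosure_le_normal hDQ
  have hconjQ : ∀ g : G, Mem Q (D.map (MulAut.conj g).toMonoidHom) := by
    intro g
    refine ⟨?_, (haveI := hDm.2.1; inferInstance), ?_⟩
    · rintro _ ⟨a, ha, rfl⟩
      exact (inferInstance : Q.Normal).conj_mem a (hDQ ha) g
    · rintro x hx h _ ⟨a, ha, rfl⟩
      obtain ⟨y, hy, rfl⟩ : ∃ y ∈ Q, (MulAut.conj g).toMonoidHom y = x :=
        ⟨g⁻¹ * x * g, by simpa using (inferInstance : Q.Normal).conj_mem x hx g⁻¹, by simp [mul_assoc]⟩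
      rw [← MonoidHom.map_zpowers, ← Subgroup.map_sup, ← Subgroup.map_commutator,
        ← Subgroup.map_commutator,
        Subgroup.map_eq_bot_iff_of_injective _ (MulAut.conj g).injective] at h
      rw [← map_mul, hDm.2.2 y (hQS hy) h a ha, map_mul]
  have hBc : IsMulCommutative B := by
    refine Subgroup.isMulCommutative_closure ?_
    intro x hx y hy
    obtain ⟨a, ha, hax⟩ := Group.mem_conjugatesOfSet_iff.mp hx
    obtain ⟨g, rfl⟩ := isConj_iff.mp hax
    obtain ⟨b, hb, hby⟩ := Group.mem_conjugatesOfSet_iff.mp hy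
    obtain ⟨g', rfl⟩ := isConj_iff.mp hby
    haveI : Group.IsNilpotent Q := hQp.isNilpotent
    have hga : g * a * g⁻¹ ∈ Q := hDQ ha |> fun h => (inferInstance : Q.Normal).conj_mem a h g
    have hgb : g' * b * g'⁻¹ ∈ Q := hDQ hb |> fun h => (inferInstance : Q.Normal).conj_mem b h g'
    have := LocalEven2.DStar.family_commute _ (hconjQ g).mem _ (hconjQ g').mem
      (show (⟨_, hga⟩ : Q) ∈ (D.map (MulAut.conj g).toMonoidHom).subgroupOf Q from ⟨a, ha, rfl⟩)
    exact (congrArg Subtype.val (Subgroup.mem_centralizer_iff.1 this ⟨_, hgb⟩ ⟨b, hb, rfl⟩)).symm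
  -- it is a member of the family of the Sylow subgroup
  have hBm : Mem P B := by
    refine ⟨hBQ.trans hQS, hBc, fun x hx h => ?_⟩
    have hquad : ⁅⁅B, Subgroup.zpowers x⁆, Subgroup.zpowers x⁆ = ⊥ := by
      rw [eq_bot_iff, ← h]
      exact Subgroup.commutator_mono (Subgroup.commutator_mono le_sup_left le_sup_right) le_sup_right
    obtain ⟨K, hK, hCK, hk, hxK⟩ := hcore B (hQp.to_le hBQ) x hquad
    set R := P ⊓ K with hR
    have hKR : K ≤ Subgroup.centralizer (B : Set G) ⊔ R := by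
      obtain ⟨k, hk⟩ := hk
      exact PLocal.normal_le_sup_inf_sylow K _ hCK hk S
    have hRi : ¬ p ∣ R.relIndex K :=
      FusionControl.not_dvd_relIndex_inf le_top S.2 (FusionControl.sylow_relIndex_top S) le_top
        (by rw [Subgroup.normalizer_eq_top])
    have hRK : R ≤ K := inf_le_right
    have hRp : IsPGroup p R := S.2.to_le inf_le_left
    have hconj : ∀ g : G, ∃ n ∈ Subgroup.normalizer (R : Set G), ∀ a ∈ D, g * a * g⁻¹ = n * a * n⁻¹ := by
      intro g
      obtain ⟨k, hk', hkg⟩ := FusionControl.exists_frattini hRK hRp hRi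
        (show g ∈ Subgroup.normalizer (K : Set G) by rw [Subgroup.normalizer_eq_top]; trivial)
      obtain ⟨c, hc', r, hr, rfl⟩ := Subgroup.mem_sup_of_normal_left.1 (hKR hk')
      refine ⟨r⁻¹ * (c * r * g), mul_mem (Subgroup.le_normalizer (inv_mem hr)) hkg, fun a ha => ?_⟩
      have hz : (c * r * g) * a * (c * r * g)⁻¹ ∈ B :=
        Subgroup.normalClosure_normal.conj_mem a (Subgroup.subset_normalClosure ha) _
      have hcz := Subgroup.mem_centralizer_iff.1 hc' _ hz
      calc g * a * g⁻¹ = r⁻¹ * (c⁻¹ * ((c * r * g) * a * (c * r * g)⁻¹ * c)) * r := by group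
        _ = r⁻¹ * ((c * r * g) * a * (c * r * g)⁻¹) * r := by rw [hcz, inv_mul_cancel_left]
        _ = _ := by group
    -- `x` centralizes every conjugate of `D`
    have hall : B ≤ Subgroup.centralizer ({x} : Set G) := by
      rw [hB, Subgroup.normalClosure, Subgroup.closure_le]
      intro z hz
      obtain ⟨a, ha, haz⟩ := Group.mem_conjugatesOfSet_iff.mp hz
      obtain ⟨g, rfl⟩ := isConj_iff.mp haz
      obtain ⟨n, hn, hne⟩ := hconj g
      rw [hne a ha, SetLike.mem_coe, Subgroup.mem_centralizer_singleton_iff]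
      have hy : n⁻¹ * x * n ∈ R :=
        (Subgroup.mem_normalizer_iff''.1 hn x).1 ⟨hx, hxK⟩
      have hH : (B ⊔ Subgroup.zpowers x).map (MulAut.conj n⁻¹).toMonoidHom =
          B ⊔ Subgroup.zpowers (n⁻¹ * x * n) := by
        rw [Subgroup.map_sup, MonoidHom.map_zpowers]
        congr 1
        · exact (FusionControl.mem_normalizer_iff_cj.1 (by rw [Subgroup.normalizer_eq_top]; trivial))
        · simp
      have h2 : ⁅⁅B ⊔ Subgroup.zpowers (n⁻¹ * x * n), B ⊔ Subgroup.zpowers (n⁻¹ * x * n)⁆,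
          B ⊔ Subgroup.zpowers (n⁻¹ * x * n)⁆ = ⊥ := by
        rw [← hH, ← Subgroup.map_commutator, ← Subgroup.map_commutator, h, Subgroup.map_bot]
      have hle : D ⊔ Subgroup.zpowers (n⁻¹ * x * n) ≤ B ⊔ Subgroup.zpowers (n⁻¹ * x * n) :=
        sup_le_sup_right (fun _ h => Subgroup.subset_normalClosure h) _
      have h3 := hDm.2.2 _ hy.1 (eq_bot_iff.2
        (h2 ▸ Subgroup.commutator_mono (Subgroup.commutator_mono hle hle) hle)) a ha
      calc n * a * n⁻¹ * x = n * (a * (n⁻¹ * x * n)) * n⁻¹ := by group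
        _ = n * ((n⁻¹ * x * n) * a) * n⁻¹ := by rw [h3]
        _ = x * (n * a * n⁻¹) := by group
    intro a ha
    exact Subgroup.mem_centralizer_singleton_iff.1 (hall ha)
  have hBD : B ≤ D := by
    intro z hz
    have h1 : B.subgroupOf P ≤ Cfsg.dStar P := le_sSup hBm.mem
    exact ⟨⟨z, hBm.1 hz⟩, h1 hz, rfl⟩
  have : B = D := le_antisymm hBD Subgroup.subset_normalClosure
  rw [← this]
  exact Subgroup.normalClosure_normal

end Cfsg.Agent.S3060
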