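import Cfsg.Statements.S3062
import Cfsg.Agent.Lib.LocalEven2.DStar

set_option autoImplicit false
open Cfsg

namespace Cfsg.Agent.S3062

/-- Let S be a finite p-group, J(S) the subgroup generated by the abelian subgroups of S of largest order and Z(J(S)) its centre. Then Z(S) ≤ D*(S) ≤ Z(J(S)), and every maximal normal abelian subgroup of S contains D*(S). -/
theorem result {S : Type*} [Group S] [Finite S] {p : ℕ} [Fact p.Prime]
    (hS : IsPGroup p S) :
    Subgroup.center S ≤ Cfsg.dStar S ∧
    Cfsg.dStar S ≤ Cfsg.thompsonSubgroupA S ⊓ Subgroup.centralizer (Cfsg.thompsonSubgroupA S : Set S) ∧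
    ∀ A : Subgroup S, A.Normal → IsMulCommutative A →
      (∀ B : Subgroup S, B.Normal → IsMulCommutative B → A ≤ B → B = A) → Cfsg.dStar S ≤ A := by
  haveI : Group.IsNilpotent S := hS.isNilpotent
  have hc := Lib.LocalEven2.DStar.dStar_le_centralizer (S := S)
  refine ⟨Lib.LocalEven2.DStar.center_le_dStar, le_inf ?_ ?_, fun A hAn hA hAmax => ?_⟩
  · obtain ⟨A, hA⟩ := Lib.LocalEven2.CD.exists_maxAbelian (G := S)
    exact (hc A hA).trans ((Lib.LocalEven2.CD.centralizer_maxAbelian hA).le.trans (le_sSup hA))
  · exact Subgroup.le_centralizer_iff.mp (sSup_le fun A hA => Subgroup.le_centralizer_iff.mp (hc A hA))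
  · have hD := Lib.LocalEven2.DStar.dStar_mem_family (S := S)
    haveI hDn : (Cfsg.dStar S).Normal := Lib.LocalEven2.DStar.dStar_normal
    have hAc : A ≤ Subgroup.centralizer (Cfsg.dStar S : Set S) := by
      intro a ha
      refine Subgroup.mem_centralizer_iff.mpr fun d hd => ?_
      refine hD.2 a (Lib.LocalEven2.DStar.class_two hA hD.1
        (by rw [Subgroup.normalizer_eq_top]; exact le_top)
        (by rw [Subgroup.normalizer_eq_top]; exact le_top)
        (sup_le le_sup_right (Subgroup.zpowers_le.mpr (Subgroup.mem_sup_left ha)))) d hd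
    have hab : IsMulCommutative ↥(A ⊔ Cfsg.dStar S) :=
      Lib.LocalEven2.CD.isMulCommutative_iff_le_centralizer.mpr
        (Lib.LocalEven2.CD.sup_abelian (Lib.LocalEven2.CD.isMulCommutative_iff_le_centralizer.mp hA)
          (Lib.LocalEven2.CD.isMulCommutative_iff_le_centralizer.mp hD.1)
          (Subgroup.le_centralizer_iff.mp hAc))
    exact le_of_le_of_eq le_sup_right (hAmax _ inferInstance hab le_sup_left)

end Cfsg.Agent.S3062
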