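import Cfsg.Statements.S3063
import Cfsg.Agent.Lib.Coprime.Basic

set_option autoImplicit false
open Cfsg

namespace Cfsg.Agent.S3063

open Cfsg.Agent.Lib
open scoped commutatorElement

theorem step {S : Type*} [Group S] [Finite S] (hmeta : IsMulCommutative ↥(commutator S))
    (A : Subgroup S) (hA : A ∈ Cfsg.maxAbelianSubgroups S) (x : S) (hx : ¬ ∀ a ∈ A, ⁅a, x⁆ ∈ A) :
    ∃ B ∈ Cfsg.maxAbelianSubgroups S, A ⊓ commutator S < B ⊓ commutator S ∧
      B ≤ Subgroup.normalClosure (A : Set S) := by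
  have hAc : ∀ u ∈ A, ∀ v ∈ A, u * v = v * u := fun u hu v hv =>
    congrArg Subtype.val (hA.1.is_comm.comm ⟨u, hu⟩ ⟨v, hv⟩)
  have hKc : ∀ u ∈ commutator S, ∀ v ∈ commutator S, u * v = v * u := fun u hu v hv =>
    congrArg Subtype.val (hmeta.is_comm.comm ⟨u, hu⟩ ⟨v, hv⟩)
  set M := Subgroup.closure {m : S | ∃ a ∈ A, ⁅a, x⁆ = m} with hM
  have hMK : M ≤ commutator S := (Subgroup.closure_le _).2 (by
    rintro _ ⟨a, _, rfl⟩
    exact Subgroup.commutator_mem_commutator (Subgroup.mem_top a) (Subgroup.mem_top x))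
  have hMc : ∀ u ∈ M, ∀ v ∈ M, u * v = v * u := fun u hu v hv => hKc u (hMK hu) v (hMK hv)
  set C := A ⊓ Subgroup.centralizer (M : Set S) with hC
  have hgen : ∀ {a}, a ∈ A → ⁅a, x⁆ ∈ M := fun {a} ha => Subgroup.subset_closure ⟨a, ha, rfl⟩
  have key : ∀ a ∈ A, ∀ b ∈ A, (⁅a, x⁆ * ⁅b, x⁆⁻¹ ∈ A) → b⁻¹ * a ∈ C := by
    intro a ha b hb hab
    set c := b⁻¹ * a with hc
    have hcA : c ∈ A := mul_mem (inv_mem hb) ha
    have hcx : ⁅c, x⁆ ∈ A := by
      have h1 := mul_mem (mul_mem (inv_mem hb) hab) hb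
      have e : b⁻¹ * (⁅a, x⁆ * ⁅b, x⁆⁻¹) * b = ⁅c, x⁆ := by
        rw [hc]; simp only [commutatorElement_def]; group
      rwa [e] at h1
    refine ⟨hcA, ?_⟩
    have hle : M ≤ Subgroup.centralizer ({c} : Set S) := by
      refine (Subgroup.closure_le _).2 ?_
      rintro _ ⟨d, hd, rfl⟩
      rw [SetLike.mem_coe, Subgroup.mem_centralizer_singleton_iff]
      have e1 : ⁅c * d, x⁆ = c * ⁅d, x⁆ * c⁻¹ * ⁅c, x⁆ := by simp only [commutatorElement_def]; group
      have e2 : ⁅d * c, x⁆ = d * ⁅c, x⁆ * d⁻¹ * ⁅d, x⁆ := by simp only [commutatorElement_def]; group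
      rw [hAc c hcA d hd, e2, hAc d hd _ hcx, mul_inv_cancel_right,
        hMc _ (hgen hcA) _ (hgen hd)] at e1
      have e3 := mul_right_cancel e1
      rw [eq_mul_inv_iff_mul_eq] at e3
      exact e3
    exact Subgroup.mem_centralizer_iff.2 fun m hm => Subgroup.mem_centralizer_singleton_iff.1 (hle hm)
  have hCM : C ≤ Subgroup.normalizer (M : Set S) :=
    inf_le_right.trans (Subgroup.centralizer_le_normalizer _)
  set B := M ⊔ C with hB
  have hBc : IsMulCommutative B := by
    have e : B = Subgroup.closure ((M : Set S) ∪ C) := by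
      rw [Subgroup.closure_union, Subgroup.closure_eq, Subgroup.closure_eq]
    rw [e]
    refine Subgroup.isMulCommutative_closure ?_
    rintro u (hu | hu) v (hv | hv)
    · exact hMc u hu v hv
    · exact Subgroup.mem_centralizer_iff.1 hv.2 u hu
    · exact (Subgroup.mem_centralizer_iff.1 hu.2 v hv).symm
    · exact hAc u hu.1 v hv.1
  have hcentA : ∀ z : S, (∀ a ∈ A, a * z = z * a) → z ∈ A := by
    intro z hz
    have hX : IsMulCommutative ↥(Subgroup.closure ((A : Set S) ∪ {z})) := by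
      refine Subgroup.isMulCommutative_closure ?_
      rintro u (hu | rfl) v (hv | rfl)
      · exact hAc u hu v hv
      · exact hz u hu
      · exact (hz v hv).symm
      · rfl
    have hle : A ≤ Subgroup.closure ((A : Set S) ∪ {z}) := fun u hu => Subgroup.subset_closure (Or.inl hu)
    rw [Subgroup.eq_of_le_of_card_ge hle (hA.2 _ hX)]
    exact Subgroup.subset_closure (Or.inr rfl)
  have hinf : M ⊓ C = (M ⊓ A) := by
    refine le_antisymm (inf_le_inf_left _ inf_le_left) fun z hz => ⟨hz.1, hz.2, ?_⟩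
    exact Subgroup.mem_centralizer_iff.2 fun m hm => hMc m hm z hz.1
  have hcount : Nat.card A ≤ Nat.card B := by
    haveI : ((M ⊓ A).subgroupOf M).Normal := ⟨fun u hu v => by
      have : v * u * v⁻¹ = u := Subtype.ext (by
        rw [Subgroup.coe_mul, Subgroup.coe_mul, hMc _ v.2 _ u.2, Subgroup.coe_inv, mul_inv_cancel_right])
      rw [this]; exact hu⟩
    let g : A → ↥M ⧸ (M ⊓ A).subgroupOf M := fun a => QuotientGroup.mk ⟨⁅(a : S), x⁆, hgen a.2⟩
    have hg : ∀ a b : A, g a = g b → (b : S)⁻¹ * a ∈ C := by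
      intro a b h
      refine key _ a.2 _ b.2 ?_
      have h1 := QuotientGroup.eq.1 h
      have h2 : ⁅(a : S), x⁆⁻¹ * ⁅(b : S), x⁆ ∈ A := (Subgroup.mem_subgroupOf.1 h1).2
      rw [hMc _ (hgen a.2) _ (inv_mem (hgen b.2))]
      have h3 := inv_mem h2
      rwa [mul_inv_rev, inv_inv] at h3
    let sel : A ⧸ C.subgroupOf A → ↥M ⧸ (M ⊓ A).subgroupOf M := fun q => g q.out
    have hsel : Function.Injective sel := by
      intro q q' h
      rw [← QuotientGroup.out_eq' q, ← QuotientGroup.out_eq' q', QuotientGroup.eq]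
      have := hg _ _ h.symm
      exact this
    have h1 := Nat.card_le_card_of_injective sel hsel
    have e1 := Coprime.card_sup_mul_card_inf (N := M) (H := C) hCM
    have e2 := Coprime.relIndex_mul_card (show C ≤ A from inf_le_left)
    have e3 := Coprime.relIndex_mul_card (show M ⊓ A ≤ M from inf_le_left)
    rw [← hB, hinf, ← e3] at e1
    have h2 : C.relIndex A ≤ (M ⊓ A).relIndex M := h1
    have h3 : 0 < Nat.card ↥(M ⊓ A : Subgroup S) := Nat.card_pos
    refine Nat.le_of_mul_le_mul_right ?_ h3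
    rw [e1, ← e2]
    calc Nat.card C * C.relIndex A * Nat.card ↥(M ⊓ A : Subgroup S)
        ≤ Nat.card C * (M ⊓ A).relIndex M * Nat.card ↥(M ⊓ A : Subgroup S) :=
          Nat.mul_le_mul_right _ (Nat.mul_le_mul_left _ h2)
      _ = _ := by ring
  refine ⟨B, ⟨hBc, fun X hX => (hA.2 X hX).trans hcount⟩, lt_of_le_of_ne ?_ ?_, sup_le ?_ ?_⟩
  · refine le_inf (fun z hz => Subgroup.mem_sup_right ⟨hz.1, ?_⟩) inf_le_right
    exact Subgroup.mem_centralizer_iff.2 fun m hm => hKc m (hMK hm) z hz.2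
  · intro h
    apply hx
    intro a ha
    have h1 : ⁅a, x⁆ ∈ B ⊓ commutator S := ⟨Subgroup.mem_sup_left (hgen ha), hMK (hgen ha)⟩
    rw [← h] at h1
    exact h1.1
  · refine (Subgroup.closure_le _).2 ?_
    rintro _ ⟨a, ha, rfl⟩
    rw [commutatorElement_def, show a * x * a⁻¹ * x⁻¹ = a * (x * a⁻¹ * x⁻¹) by group]
    exact mul_mem (Subgroup.subset_normalClosure ha)
      (Subgroup.normalClosure_normal.conj_mem _ (inv_mem (Subgroup.subset_normalClosure ha)) x)
  · exact inf_le_left.trans Subgroup.le_normalClosure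


/-- A weak replacement Theorem for metabelian p-groups: let S be a finite p-group whose derived subgroup is abelian and A an abelian subgroup of S of largest possible order. Then the normal closure of A in S contains an abelian subgroup B of the same order as A that is normal in S. -/
theorem result {S : Type*} [Group S] [Finite S] {p : ℕ} [Fact p.Prime]
    (hS : IsPGroup p S) (hmeta : IsMulCommutative ↥(commutator S))
    (A : Subgroup S) (hA : A ∈ Cfsg.maxAbelianSubgroups S) :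
    ∃ B ∈ Cfsg.maxAbelianSubgroups S, B.Normal ∧ B ≤ Subgroup.normalClosure (A : Set S) := by
  obtain ⟨B, ⟨hB1, hB2⟩, hmax⟩ := Set.exists_max_image
    {B : Subgroup S | B ∈ Cfsg.maxAbelianSubgroups S ∧ B ≤ Subgroup.normalClosure (A : Set S)}
    (fun B => Nat.card ↥(B ⊓ commutator S)) (Set.toFinite _) ⟨A, hA, Subgroup.le_normalClosure⟩
  refine ⟨B, hB1, ?_, hB2⟩
  by_contra hn
  obtain ⟨x, hx⟩ : ∃ x, ¬ ∀ b ∈ B, ⁅b, x⁆ ∈ B := by
    by_contra h
    push Not at h
    refine hn ⟨fun b hb g => ?_⟩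
    have h1 := mul_mem (inv_mem (h g b hb)) hb
    rwa [commutatorElement_def, show (b * g * b⁻¹ * g⁻¹)⁻¹ * b = g * b * g⁻¹ by group] at h1
  obtain ⟨B', h1, h2, h3⟩ := step hmeta B hB1 x hx
  have h4 := hmax B' ⟨h1, h3.trans (Subgroup.normalClosure_le_normal hB2)⟩
  exact h2.ne (Subgroup.eq_of_le_of_card_ge h2.le h4)

end Cfsg.Agent.S3063
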