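import Cfsg.Statements.S3064
import Mathlib
import Cfsg.Agent.Lib.Frobenius.Kernel
-- import your own Cfsg.Agent.* helpers here

set_option autoImplicit false
open Cfsg

namespace Cfsg.Agent.S3064

universe u

/-- the isolation condition, intrinsically -/
def Iso (p : ℕ) {G : Type u} [Group G] (x : G) : Prop :=
  (∃ k, x ^ p ^ k = 1) ∧
    (∀ (P : Subgroup G) (g : G), IsPGroup p ↥P → x ∈ P → g * x * g⁻¹ ∈ P → g * x * g⁻¹ = x) ∧
    ∀ H : Subgroup G, (Nat.card H).Coprime p → (∀ h ∈ H, x * h * x⁻¹ ∈ H) → ∀ h ∈ H, x * h = h * x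

variable {G : Type u} [Group G] {p : ℕ}

lemma isPGroup_zpowers {x : G} (h : ∃ k, x ^ p ^ k = 1) : IsPGroup p ↥(Subgroup.zpowers x) := by
  obtain ⟨k, hk⟩ := h
  rintro ⟨y, hy⟩
  obtain ⟨i, rfl⟩ := Subgroup.mem_zpowers_iff.1 hy
  refine ⟨k, Subtype.ext ?_⟩
  show (x ^ i) ^ p ^ k = 1
  rw [← zpow_natCast, ← zpow_mul, mul_comm, zpow_mul, zpow_natCast, hk, one_zpow]

lemma Iso.central_in_pgroup {x : G} (hx : Iso p x) {P : Subgroup G} (hP : IsPGroup p ↥P) (hxP : x ∈ P)
    {s : G} (hs : s ∈ P) : s * x = x * s := by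
  have := hx.2.1 P s hP hxP (mul_mem (mul_mem hs hxP) (P.inv_mem hs))
  calc s * x = s * x * s⁻¹ * s := by group
    _ = x * s := by rw [this]

lemma Iso.eq_of_commute [hp : Fact p.Prime] {x : G} (hx : Iso p x) {g : G}
    (h : Commute x (g * x * g⁻¹)) : g * x * g⁻¹ = x := by
  have hy : ∃ k, (g * x * g⁻¹) ^ p ^ k = 1 := by
    obtain ⟨k, hk⟩ := hx.1
    exact ⟨k, by rw [conj_pow, hk, mul_one, mul_inv_cancel]⟩
  refine hx.2.1 (Subgroup.zpowers x ⊔ Subgroup.zpowers (g * x * g⁻¹)) g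
    (IsPGroup.to_sup_of_normal_right' (isPGroup_zpowers hx.1) (isPGroup_zpowers hy) ?_)
    (Subgroup.mem_sup_left (Subgroup.mem_zpowers x)) (Subgroup.mem_sup_right (Subgroup.mem_zpowers _))
  refine Subgroup.zpowers_le.2 (Subgroup.centralizer_le_normalizer _ (Subgroup.mem_centralizer_iff.2 ?_))
  rintro _ ⟨i, rfl⟩
  exact (h.zpow_right i).eq.symm

lemma Iso.subgroupOf {x : G} (hx : Iso p x) {H : Subgroup G} (hH : x ∈ H) : Iso p (⟨x, hH⟩ : ↥H) := by
  refine ⟨?_, fun P g hP hxP hgP => ?_, fun K hK hn h hh => ?_⟩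
  · obtain ⟨k, hk⟩ := hx.1
    exact ⟨k, Subtype.ext hk⟩
  · exact Subtype.ext (hx.2.1 (P.map H.subtype) g (hP.map _) ⟨_, hxP, rfl⟩ ⟨_, hgP, rfl⟩)
  · refine Subtype.ext (hx.2.2 (K.map H.subtype) (by rwa [Subgroup.card_map_of_injective H.subtype_injective])
      ?_ h ⟨h, hh, rfl⟩)
    rintro _ ⟨k, hk, rfl⟩
    exact ⟨_, hn k hk, rfl⟩

lemma Iso.quotient [Finite G] [hp : Fact p.Prime] {x : G} (hx : Iso p x) (N : Subgroup G) [N.Normal]
    (hN : (Nat.card N).Coprime p ∨ (IsPGroup p ↥N ∧ N ≤ Subgroup.center G)) :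
    Iso p (QuotientGroup.mk' N x) := by
  set q := QuotientGroup.mk' N with hq
  refine ⟨?_, fun P g hP hxP hgP => ?_, fun H hH hn h hh => ?_⟩
  · obtain ⟨k, hk⟩ := hx.1
    exact ⟨k, by rw [← map_pow, hk, map_one]⟩
  · obtain ⟨g₀, rfl⟩ := QuotientGroup.mk'_surjective N g
    set M := P.comap q with hM
    have hxM : x ∈ M := hxP
    have hyM : g₀ * x * g₀⁻¹ ∈ M := by
      show q (g₀ * x * g₀⁻¹) ∈ P
      rw [map_mul, map_mul, map_inv]; exact hgP
    obtain ⟨T, hT⟩ := ((isPGroup_zpowers hx.1).comap_subtype (K := M)).exists_le_sylow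
    have hxT : (⟨x, hxM⟩ : ↥M) ∈ (T : Subgroup ↥M) :=
      hT (Subgroup.mem_subgroupOf.2 (Subgroup.mem_zpowers x))
    obtain ⟨T₂, hT₂⟩ := ((isPGroup_zpowers (show ∃ k, (g₀ * x * g₀⁻¹) ^ p ^ k = 1 by
      obtain ⟨k, hk⟩ := hx.1
      exact ⟨k, by rw [conj_pow, hk, mul_one, mul_inv_cancel]⟩)).comap_subtype (K := M)).exists_le_sylow
    have hyT : (⟨_, hyM⟩ : ↥M) ∈ (T₂ : Subgroup ↥M) :=
      hT₂ (Subgroup.mem_subgroupOf.2 (Subgroup.mem_zpowers (g₀ * x * g₀⁻¹)))
    obtain ⟨m, hm⟩ := MulAction.exists_smul_eq ↥M T T₂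
    rw [← hm, Sylow.smul_def, Sylow.pointwise_smul_def] at hyT
    obtain ⟨s, hs, hse⟩ := hyT
    have hse' : (m : G) * s * (m : G)⁻¹ = g₀ * x * g₀⁻¹ := congrArg Subtype.val hse
    have hTp : IsPGroup p ↥((T : Subgroup ↥M).map M.subtype) := T.2.map _
    have hsx : (s : G) = x := by
      have h1 : (s : G) = ((m : G)⁻¹ * g₀) * x * ((m : G)⁻¹ * g₀)⁻¹ := by
        calc (s : G) = (m : G)⁻¹ * ((m : G) * s * (m : G)⁻¹) * m := by group
          _ = _ := by rw [hse']; group
      rw [h1]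
      exact hx.2.1 _ _ hTp ⟨_, hxT, rfl⟩ (h1 ▸ ⟨s, hs, rfl⟩)
    have hrw : q (g₀ * x * g₀⁻¹) = q ((m : G) * x * (m : G)⁻¹) := by rw [← hse', hsx]
    -- the image of `T` is all of `P`
    set f : ↥M →* ↥P := q.subgroupComap P with hf
    have hfs : Function.Surjective f :=
      q.subgroupComap_surjective_of_surjective P (QuotientGroup.mk'_surjective N)
    have htop : (T : Subgroup ↥M).map f = ⊤ := by
      rw [← Subgroup.index_eq_one]
      obtain ⟨k, hk⟩ := hP.index ((T : Subgroup ↥M).map f)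
      rcases k with _ | k
      · rwa [pow_zero] at hk
      · exfalso
        have := Subgroup.index_map_dvd (T : Subgroup ↥M) hfs
        rw [hk] at this
        exact T.not_dvd_index ((dvd_pow_self p (Nat.succ_ne_zero k)).trans this)
    obtain ⟨t, ht, hte⟩ : f m ∈ (T : Subgroup ↥M).map f := htop ▸ Subgroup.mem_top _
    have hte' : q t = q m := congrArg Subtype.val hte
    have hc := hx.central_in_pgroup hTp ⟨_, hxT, rfl⟩ (s := (t : G)) ⟨t, ht, rfl⟩
    rw [← map_inv, ← map_mul, ← map_mul, hrw, map_mul, map_mul, map_inv, ← hte', ← map_mul, hc, map_mul,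
      mul_inv_cancel_right]
  · set M := H.comap q with hM
    obtain ⟨h₀, rfl⟩ := QuotientGroup.mk'_surjective N h
    have hcard : Nat.card M = Nat.card N * Nat.card H := by
      rw [← Subgroup.card_mul_index (N.subgroupOf M),
        Nat.card_congr (Subgroup.subgroupOfEquivOfLe (QuotientGroup.le_comap_mk' N H)).toEquiv]
      congr 1
      show N.relIndex M = _
      have h2 := Subgroup.relIndex_comap (⊥ : Subgroup (G ⧸ N)) q M
      rw [MonoidHom.comap_bot, hq, QuotientGroup.ker_mk', Subgroup.map_comap_eq_self_of_surjective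
        (QuotientGroup.mk'_surjective N), Subgroup.relIndex_bot_left] at h2
      exact h2
    have hnM : ∀ m ∈ M, x * m * x⁻¹ ∈ M := fun m hm => by
      show q (x * m * x⁻¹) ∈ H
      rw [map_mul, map_mul, map_inv]; exact hn _ hm
    rcases hN with hN | ⟨hNp, hNc⟩
    · rw [← map_mul, ← map_mul, hx.2.2 M (by rw [hcard]; exact hN.mul_left hH) hnM h₀ hh]
    · have hco : (Nat.card (N.subgroupOf M)).Coprime (N.subgroupOf M).index := by
        have h1 : Nat.card (N.subgroupOf M) = Nat.card N :=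
          Nat.card_congr (Subgroup.subgroupOfEquivOfLe (QuotientGroup.le_comap_mk' N H)).toEquiv
        have h2 : (N.subgroupOf M).index = Nat.card H := by
          have := Subgroup.card_mul_index (N.subgroupOf M)
          rw [h1, hcard] at this
          exact Nat.eq_of_mul_eq_mul_left Nat.card_pos this
        rw [h1, h2]
        obtain ⟨n, hn⟩ := IsPGroup.iff_card.1 hNp
        rw [hn]
        exact Nat.Coprime.pow_left n hH.symm
      obtain ⟨K, hK⟩ := Subgroup.exists_right_complement'_of_coprime hco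
      have hNcard : Nat.card (N.subgroupOf M) = Nat.card N :=
          Nat.card_congr (Subgroup.subgroupOfEquivOfLe (QuotientGroup.le_comap_mk' N H)).toEquiv
      have hKc : Nat.card K = Nat.card H := by
        have := hK.card_mul
        rw [hcard, hNcard] at this
        exact Nat.eq_of_mul_eq_mul_left Nat.card_pos this
      -- elements of order prime to p lie in K
      have hmem : ∀ m : ↥M, (orderOf m).Coprime p → m ∈ K := by
        intro m hm
        obtain ⟨⟨n, k⟩, hnk : (n : ↥M) * k = m⟩ := hK.2 m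
        have hcomm : Commute (n : ↥M) k :=
          Subtype.ext ((Subgroup.mem_center_iff.1 (hNc n.2) (k : G)).symm)
        have h1 : (n : ↥M) ^ orderOf m * (k : ↥M) ^ orderOf m = 1 := by
          rw [← hcomm.mul_pow, hnk, pow_orderOf_eq_one]
        have h2 : (n : ↥M) ^ orderOf m ∈ K := by
          rw [eq_inv_of_mul_eq_one_left h1]; exact K.inv_mem (K.pow_mem k.2 _)
        have h3 : (n : ↥M) ^ orderOf m = 1 := by
          have : (n : ↥M) ^ orderOf m ∈ (N.subgroupOf M) ⊓ K := ⟨Subgroup.pow_mem _ n.2 _, h2⟩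
          rwa [hK.disjoint.eq_bot, Subgroup.mem_bot] at this
        obtain ⟨j, hj⟩ := hNp.of_equiv (Subgroup.subgroupOfEquivOfLe (QuotientGroup.le_comap_mk' N H)).symm n
        have hj' : (n : ↥M) ^ p ^ j = 1 := congrArg Subtype.val hj
        have h4 : (n : ↥M) = 1 := orderOf_eq_one_iff.1 (Nat.dvd_one.1 (by
          rw [← (hm.pow_right j).gcd_eq_one]
          exact Nat.dvd_gcd (orderOf_dvd_of_pow_eq_one h3) (orderOf_dvd_of_pow_eq_one hj')))
        rw [← hnk, h4, one_mul]; exact k.2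
      have hKn : ∀ k ∈ K.map M.subtype, x * k * x⁻¹ ∈ K.map M.subtype := by
        rintro _ ⟨k, hk, rfl⟩
        refine ⟨⟨x * k * x⁻¹, hnM k k.2⟩, hmem _ ?_, rfl⟩
        rw [Subgroup.orderOf_mk, show x * (k : G) * x⁻¹ = MulAut.conj x (k : G) from rfl,
          MulEquiv.orderOf_eq, Subgroup.orderOf_coe]
        exact (hKc ▸ hH).coprime_dvd_left (Subgroup.orderOf_dvd_natCard _ hk)
      obtain ⟨⟨n, k⟩, hnk : (n : ↥M) * k = ⟨h₀, hh⟩⟩ := hK.2 ⟨h₀, hh⟩
      have h5 := hx.2.2 (K.map M.subtype) (by rw [Subgroup.card_map_of_injective M.subtype_injective, hKc]; exact hH)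
        hKn _ ⟨k, k.2, rfl⟩
      have h6 : x * h₀ = h₀ * x := by
        have e : h₀ = (n : G) * (k : G) := congrArg Subtype.val hnk.symm
        have hn' : ∀ y : G, y * ((n : ↥M) : G) = ((n : ↥M) : G) * y := Subgroup.mem_center_iff.1 (hNc n.2)
        rw [e, ← mul_assoc, hn' x, mul_assoc, show x * ((k : ↥M) : G) = (k : G) * x from h5, ← mul_assoc]
      rw [← map_mul, ← map_mul, h6]

theorem main (p : ℕ) [Fact p.Prime] : ∀ (n : ℕ) (G : Type u) [Group G] [Finite G], Nat.card G = n →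
    ∀ x : G, Iso p x → x ∈ Subgroup.center G := by
  intro n
  induction n using Nat.strong_induction_on with
  | _ n ih =>
  intro G _ _ hn x hx
  by_contra hxc
  set C := Subgroup.centralizer ({x} : Set G) with hC
  have hsub : ∀ H : Subgroup G, x ∈ H → H ≠ ⊤ → H ≤ C := by
    intro H hxH hH h hh
    have hlt : Nat.card H < n := hn ▸ lt_of_le_of_ne (Subgroup.card_le_card_group H)
      (fun e => hH (Subgroup.eq_top_of_card_eq H e))
    have := Subgroup.mem_center_iff.1 (ih _ hlt ↥H rfl _ (hx.subgroupOf hxH)) ⟨h, hh⟩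
    exact Subgroup.mem_centralizer_singleton_iff.2 (congrArg Subtype.val this)
  -- no useful normal subgroups
  have hnorm : ∀ N : Subgroup G, N.Normal → N ≠ ⊥ →
      ((Nat.card N).Coprime p ∨ (IsPGroup p ↥N ∧ N ≤ Subgroup.center G)) → False := by
    intro N hNn hN1 hN
    have hlt : Nat.card (G ⧸ N) < n := by
      rw [← hn, Subgroup.card_eq_card_quotient_mul_card_subgroup N]
      exact lt_mul_of_one_lt_right Nat.card_pos ((Subgroup.one_lt_card_iff_ne_bot N).2 hN1)
    have hc := ih _ hlt (G ⧸ N) rfl _ (hx.quotient N hN)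
    have hNC : ∀ m ∈ N, x * m = m * x := by
      rcases hN with hN | ⟨-, hN⟩
      · exact hx.2.2 N hN fun m hm => hNn.conj_mem m hm x
      · exact fun m hm => (Subgroup.mem_center_iff.1 (hN hm) x)
    refine hxc (Subgroup.mem_center_iff.2 fun g => ?_)
    have h1 : x⁻¹ * (g * x * g⁻¹) ∈ N := by
      rw [← QuotientGroup.eq_one_iff]
      show QuotientGroup.mk' N (x⁻¹ * (g * x * g⁻¹)) = 1
      rw [map_mul, map_mul, map_mul, map_inv, map_inv, Subgroup.mem_center_iff.1 hc, mul_inv_cancel_right,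
        inv_mul_cancel]
    have h2 : Commute x (g * x * g⁻¹) := by
      have := (show Commute x (x * (x⁻¹ * (g * x * g⁻¹))) from (Commute.refl x).mul_right (hNC _ h1))
      rwa [mul_inv_cancel_left] at this
    exact mul_inv_eq_iff_eq_mul.1 (hx.eq_of_commute h2)
  have hZ : Subgroup.center G = ⊥ := by
    by_contra hZ
    obtain ⟨r, hr, hrd⟩ := Nat.exists_prime_and_dvd (n := Nat.card (Subgroup.center G))
      (fun h => hZ (Subgroup.eq_bot_of_card_eq _ h))
    haveI := Fact.mk hr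
    obtain ⟨z, hz⟩ := exists_prime_orderOf_dvd_card' r hrd
    have hzo : orderOf (z : G) = r := by rw [Subgroup.orderOf_coe, hz]
    have hle : Subgroup.zpowers (z : G) ≤ Subgroup.center G := Subgroup.zpowers_le.2 z.2
    have hzn : (Subgroup.zpowers (z : G)).Normal := ⟨fun a ha g => by
      rw [Subgroup.mem_center_iff.1 (hle ha) g, mul_inv_cancel_right]; exact ha⟩
    refine hnorm _ hzn (fun h => hr.ne_one (by rw [← hzo, Subgroup.zpowers_eq_bot.1 h, orderOf_one])) ?_
    by_cases hrp : r = p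
    · exact Or.inr ⟨IsPGroup.of_card (n := 1) (by rw [Nat.card_zpowers, hzo, hrp, pow_one]), hle⟩
    · exact Or.inl (by rw [Nat.card_zpowers, hzo]; exact (Nat.coprime_primes hr Fact.out).2 hrp)
  have hx1 : x ≠ 1 := fun h => hxc (h ▸ one_mem _)
  have hCt : C ≠ ⊤ := fun h => hxc (Subgroup.mem_center_iff.2 fun g =>
    Subgroup.mem_centralizer_singleton_iff.1 (h ▸ Subgroup.mem_top g : g ∈ C))
  have hfrob : Cfsg.IsFrobeniusComplement C := by
    refine Cfsg.Agent.Lib.Frobenius.isFrobeniusComplement_iff.2 ⟨fun h => hx1 ?_, hCt, fun g hg w hw hwg => ?_⟩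
    · have : x ∈ C := Subgroup.mem_centralizer_singleton_iff.2 rfl
      rwa [h, Subgroup.mem_bot] at this
    · have hgx : g * x * g⁻¹ ≠ x := fun e =>
        hg (Subgroup.mem_centralizer_singleton_iff.2 (mul_inv_eq_iff_eq_mul.1 e))
      have hw1 : x ∈ Subgroup.centralizer ({w} : Set G) :=
        Subgroup.mem_centralizer_singleton_iff.2 (Subgroup.mem_centralizer_singleton_iff.1 hw).symm
      have hw2 : g * x * g⁻¹ ∈ Subgroup.centralizer ({w} : Set G) := by
        refine Subgroup.mem_centralizer_singleton_iff.2 ?_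
        have := Subgroup.mem_centralizer_singleton_iff.1 hwg
        calc g * x * g⁻¹ * w = g * (x * (g⁻¹ * w * g)) * g⁻¹ := by group
          _ = g * (g⁻¹ * w * g * x) * g⁻¹ := by rw [this]
          _ = w * (g * x * g⁻¹) := by group
      have htop : Subgroup.centralizer ({w} : Set G) = ⊤ := by
        by_contra h
        exact hgx (hx.eq_of_commute (Subgroup.mem_centralizer_singleton_iff.1 (hsub _ hw1 h hw2)).symm)
      have : w ∈ Subgroup.center G := Subgroup.mem_center_iff.2 fun a =>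
        Subgroup.mem_centralizer_singleton_iff.1 (htop ▸ Subgroup.mem_top a : a ∈ Subgroup.centralizer ({w} : Set G))
      rwa [hZ, Subgroup.mem_bot] at this
  obtain ⟨K, hKn, -, hKC, -, hK1, -, hKc⟩ := Cfsg.Agent.Lib.Frobenius.exists_frobeniusKernel hfrob
  have hKp : (Nat.card K).Coprime p := by
    rw [hKc, Nat.coprime_comm, (Fact.out : p.Prime).coprime_iff_not_dvd]
    obtain ⟨P, hP⟩ := (isPGroup_zpowers hx.1).exists_le_sylow
    have hPC : (P : Subgroup G) ≤ C := fun s hs => Subgroup.mem_centralizer_singleton_iff.2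
      (hx.central_in_pgroup P.2 (hP (Subgroup.mem_zpowers x)) hs)
    exact fun hd => P.not_dvd_index (hd.trans (Subgroup.index_dvd_of_le hPC))
  refine hK1 (eq_bot_iff.2 ?_)
  rw [← hKC]
  exact fun k hk => ⟨hk, Subgroup.mem_centralizer_singleton_iff.2 (hx.2.2 K hKp (fun m hm => hKn.conj_mem m hm x) k hk).symm⟩

/-- Let S be a Sylow p-subgroup of the finite group G and x an element of S such that (i) x is the only G-conjugate of x lying in S, and (ii) x centralizes every subgroup of order prime to p that it normalizes. Then x lies in the centre of G. -/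
theorem result {G : Type*} [Group G] [Finite G] {p : ℕ} [Fact p.Prime]
    (S : Sylow p G) (x : G) (hx : x ∈ S)
    (hU : ∀ g : G, g⁻¹ * x * g ∈ S → g⁻¹ * x * g = x)
    (hb : ∀ H : Subgroup G, (Nat.card H).Coprime p → (∀ h ∈ H, x * h * x⁻¹ ∈ H) → ∀ h ∈ H, x * h = h * x) :
    x ∈ Subgroup.center G := by
  have hcent : ∀ (P : Subgroup G) (g : G), IsPGroup p ↥P → x ∈ P → g * x * g⁻¹ ∈ P → g * x * g⁻¹ = x := by
    intro P g hP hxP hgP
    obtain ⟨T, hT⟩ := hP.exists_le_sylow
    obtain ⟨c, hc⟩ := MulAction.exists_smul_eq G S T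
    have hx' := hT hxP
    have hg' := hT hgP
    rw [← hc, Sylow.smul_def, Sylow.pointwise_smul_def] at hx' hg'
    obtain ⟨a, ha, hae⟩ := hx'
    obtain ⟨b, hb', hbe⟩ := hg'
    have hae' : c * a * c⁻¹ = x := hae
    have hbe' : c * b * c⁻¹ = g * x * g⁻¹ := hbe
    have ea : a = c⁻¹ * x * c := by
      calc a = c⁻¹ * (c * a * c⁻¹) * c := by group
        _ = _ := by rw [hae']
    have eb : b = (g⁻¹ * c)⁻¹ * x * (g⁻¹ * c) := by
      calc b = c⁻¹ * (c * b * c⁻¹) * c := by group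
        _ = _ := by rw [hbe']; group
    have h1 := hU c (ea ▸ ha)
    have h2 := hU _ (eb ▸ hb')
    calc g * x * g⁻¹ = c * ((g⁻¹ * c)⁻¹ * x * (g⁻¹ * c)) * c⁻¹ := by group
      _ = c * (c⁻¹ * x * c) * c⁻¹ := by rw [h2, h1]
      _ = x := by group
  have hord : ∃ k, x ^ p ^ k = 1 := by
    obtain ⟨k, hk⟩ := S.2 ⟨x, hx⟩
    exact ⟨k, congrArg Subtype.val hk⟩
  exact main p _ G rfl x ⟨hord, hcent, hb⟩

end Cfsg.Agent.S3064
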