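import Cfsg.Statements.S3067
import Cfsg.Agent.S0215
import Cfsg.Agent.Lib.CoprimeInvolution.Count

set_option autoImplicit false
open Cfsg

namespace Cfsg.Agent.S3067

/-- Let G be a finite non-abelian simple group, τ an involution of G, and α a nontrivial automorphism of G whose order is coprime to the order of G. Then α moves some element of the centralizer of τ: α does not fix C_G(τ) elementwise. -/
theorem result {G : Type*} [Group G] [Finite G] [IsSimpleGroup G]
    (hG : ¬ IsMulCommutative G) (τ : G) (hτ : orderOf τ = 2) (α : MulAut G) (hα : α ≠ 1)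
    (hcop : (orderOf α).Coprime (Nat.card G)) :
    ∃ c ∈ Subgroup.centralizer ({τ} : Set G), α c ≠ c := by
  by_contra hcon
  push Not at hcon
  classical
  haveI : Fact (Nat.Prime 2) := ⟨Nat.prime_two⟩
  have hn1 : orderOf α ≠ 1 := fun h => hα (orderOf_eq_one_iff.mp h)
  obtain ⟨r, hr, hrd⟩ := Nat.exists_prime_and_dvd hn1
  haveI : Fact r.Prime := ⟨hr⟩
  set β := α ^ (orderOf α / r) with hβdef
  have hβ : orderOf β = r := orderOf_pow_orderOf_div (orderOf_pos α).ne' hrd
  have hcopβ : (orderOf β).Coprime (Nat.card G) := hcop.coprime_dvd_left (hβ ▸ hrd)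
  have hpowfix : ∀ (i : ℕ) (x : G), α x = x → (α ^ i) x = x := by
    intro i x hx
    induction i with
    | zero => rfl
    | succ i ih => rw [pow_succ', MulAut.mul_apply, ih, hx]
  have hC : Subgroup.centralizer ({τ} : Set G) ≤ Lib.CoprimeInvolution.fixedPts β :=
    fun c hc => hpowfix _ c (hcon c hc)
  have hcore : (Lib.CoprimeInvolution.fixedPts β).normalCore = ⊥ := by
    rcases (Subgroup.normalCore_normal (Lib.CoprimeInvolution.fixedPts β)).eq_bot_or_eq_top with h | h
    · exact h
    · exfalso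
      have htop : Lib.CoprimeInvolution.fixedPts β = ⊤ :=
        top_le_iff.mp (h ▸ Subgroup.normalCore_le _)
      have hβ1 : β = 1 := MulEquiv.ext fun x =>
        Lib.CoprimeInvolution.mem_fixedPts.mp (htop ▸ Subgroup.mem_top x)
      rw [hβ1, orderOf_one] at hβ
      exact hr.ne_one hβ.symm
  obtain ⟨S, hτS, hS⟩ := Lib.CoprimeInvolution.exists_fixed_sylow hcopβ hC hτ
  have hiso : ∀ g : G, g * τ * g⁻¹ ∈ S → g * τ * g⁻¹ = τ := fun g hg =>
    Lib.CoprimeInvolution.eq_of_conj_mem hcopβ hC hβ hτ hcore (hS hg) (isConj_iff.mpr ⟨g, rfl⟩)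
  obtain ⟨N, hN, hodd, hcomm⟩ := Cfsg.Agent.S0215.result S τ hτ hτS hiso
  rcases hN.eq_bot_or_eq_top with rfl | rfl
  · have hτc : τ ∈ Subgroup.center G := Subgroup.mem_center_iff.mpr fun g => by
      have h := hcomm g
      rw [Subgroup.mem_bot, mul_inv_eq_one, mul_inv_eq_iff_eq_mul] at h
      exact h.symm
    rcases (inferInstance : (Subgroup.center G).Normal).eq_bot_or_eq_top with h | h
    · rw [h, Subgroup.mem_bot] at hτc
      rw [hτc, orderOf_one] at hτ
      exact absurd hτ (by norm_num)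
    · exact hG ⟨⟨fun a b => Subgroup.mem_center_iff.mp (h ▸ Subgroup.mem_top b) a⟩⟩
  · rw [Subgroup.card_top] at hodd
    have := (hτ ▸ orderOf_dvd_natCard τ : 2 ∣ Nat.card G)
    exact (Nat.not_even_iff_odd.mpr hodd) (even_iff_two_dvd.mpr this)

end Cfsg.Agent.S3067
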