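import Cfsg.Statements.S3070
import Mathlib
import Cfsg.Agent.Lib.AbelianJ.Local
import Cfsg.Agent.S2005
import Cfsg.Agent.S2007
-- import your own Cfsg.Agent.* helpers here

set_option autoImplicit false
open Cfsg

namespace Cfsg.Agent.S3070


universe u

/-- the centre-of-`S` part lies in the subgroup generated by the largest abelian subgroups -/
theorem centralizer_le_thompsonA {G : Type u} [Group G] [Finite G] (P : Subgroup G) :
    P ⊓ Subgroup.centralizer (Cfsg.thompsonSubgroupAOf P : Set G) ≤ Cfsg.thompsonSubgroupAOf P := by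
  rintro x ⟨hxP, hx⟩
  obtain ⟨A, hA₀⟩ := Cfsg.Agent.Lib.PLocal.exists_maxIn 0 (⊤ : Subgroup P)
  have hA : A ∈ Cfsg.maxAbelianSubgroups P :=
    ⟨hA₀.2.1.1, fun B hB => hA₀.2.2 B le_top (Cfsg.Agent.Lib.PLocal.elemAb_zero hB)⟩
  have hAJ : A.map P.subtype ≤ Cfsg.thompsonSubgroupAOf P := Subgroup.map_mono (le_sSup hA)
  have hcomm : ∀ a ∈ A, (⟨x, hxP⟩ : P) * a = a * ⟨x, hxP⟩ := fun a ha => Subtype.ext
    (Subgroup.mem_centralizer_iff.1 hx _ (hAJ ⟨a, ha, rfl⟩)).symm
  have hAc : ∀ a ∈ A, ∀ b ∈ A, a * b = b * a := fun a ha b hb =>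
    haveI := hA.1
    A.mul_comm_of_mem_isMulCommutative ha hb
  let B : Subgroup P := Subgroup.closure (insert ⟨x, hxP⟩ (A : Set P))
  have hB : IsMulCommutative B := by
    refine Subgroup.isMulCommutative_closure ?_
    rintro a (rfl | ha) b (rfl | hb)
    · rfl
    · exact hcomm b hb
    · exact (hcomm a ha).symm
    · exact hAc a ha b hb
  have hAB : A ≤ B := fun a ha => Subgroup.subset_closure (Or.inr ha)
  have heq : A = B := Subgroup.eq_of_le_of_card_ge hAB (hA.2 B hB)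
  exact hAJ ⟨⟨x, hxP⟩, heq.symm ▸ Subgroup.subset_closure (Or.inl rfl), rfl⟩

/-- Let p ≥ 5 be a prime, S a Sylow p-subgroup of the finite group G and J(S) the subgroup generated by the abelian subgroups of S of largest order. Then G has a normal p-complement if and only if N_G(J(S))/C_G(J(S)) is a p-group (every element of N_G(J(S)) of order prime to p centralizes J(S)). -/
theorem result {G : Type*} [Group G] [Finite G] {p : ℕ} [Fact p.Prime]
    (hp : 5 ≤ p) (S : Sylow p G) :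
    Cfsg.HasNormalPComplement p G ↔
      ∀ g ∈ Subgroup.normalizer (Cfsg.thompsonSubgroupAOf (S : Subgroup G) : Set G), (orderOf g).Coprime p →
        g ∈ Subgroup.centralizer (Cfsg.thompsonSubgroupAOf (S : Subgroup G) : Set G) := by
  constructor
  · intro h g hg hgp
    obtain ⟨P, N, hNn, hNP⟩ := h
    haveI := hNn
    have hgN : g ∈ N := (Cfsg.Agent.Lib.Transfer.mem_iff_coprime hNP g).2 hgp
    rw [Subgroup.mem_centralizer_iff]
    intro x hx
    have hxS : x ∈ (S : Subgroup G) := Subgroup.map_subtype_le _ hx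
    have hgx : g * x * g⁻¹ * x⁻¹ ∈ N := by
      rw [mul_assoc, mul_assoc, ← mul_assoc x g⁻¹]
      exact mul_mem hgN (hNn.conj_mem _ (inv_mem hgN) x)
    have hgx' : g * x * g⁻¹ * x⁻¹ ∈ (S : Subgroup G) :=
      mul_mem (Subgroup.map_subtype_le _ ((Subgroup.mem_normalizer_iff.1 hg x).1 hx)) (inv_mem hxS)
    have h1 := Cfsg.Agent.Lib.Transfer.eq_one_of_isPGroup_of_coprime S.2 hgx'
      (Cfsg.Agent.Lib.Transfer.coprime_orderOf_of_mem
        (Cfsg.Agent.Lib.Transfer.coprime_card_of_isComplement' hNP) hgx)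
    rw [mul_inv_eq_one, mul_inv_eq_iff_eq_mul] at h1
    exact h1.symm
  · intro h
    have hW := Cfsg.Agent.Lib.PLocal.isCharPFunctor_thompsonA.{u_1} (p := p)
    have hJn : (S : Subgroup G) ≤ Subgroup.normalizer (Cfsg.thompsonSubgroupAOf (S : Subgroup G) : Set G) := by
      intro s hs
      rw [Subgroup.mem_normalizer_iff_map_conj_eq]
      refine Subgroup.eq_of_le_of_card_ge ?_ (le_of_eq (Subgroup.card_map_of_injective (MulAut.conj s).injective).symm)
      rintro _ ⟨_, ⟨y, hy, rfl⟩, rfl⟩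
      refine ⟨MulAut.conj (⟨s, hs⟩ : (S : Subgroup G)) y, ?_, rfl⟩
      have h2 := hW.2 _ _ S.2 (MulAut.conj (⟨s, hs⟩ : (S : Subgroup G)))
      exact h2.le ⟨y, hy, rfl⟩
    have hN := Cfsg.Agent.S2007.result S _ (Subgroup.map_subtype_le _) hJn
      (centralizer_le_thompsonA _) h
    refine Cfsg.Agent.S2005.result (fun Q [Group Q] => Cfsg.thompsonSubgroupA Q) hW S hN ?_
    intro K R hR hC hN' T hT
    haveI : (Cfsg.pCore p (↥K ⧸ R.subgroupOf K)).Normal := Cfsg.Agent.Lib.PGroups.pCore_normal_inst p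
    show (Cfsg.thompsonSubgroupAOf (T : Subgroup (↥K ⧸ R.subgroupOf K))).Normal
    rw [Cfsg.Agent.Lib.PLocal.FusionNpc.thompsonSubgroupAOf_eq_sSup]
    set Y := ↥K ⧸ R.subgroupOf K
    have hle : ∀ A, Cfsg.Agent.Lib.PLocal.MaxIn 0 (T : Subgroup Y) A → A ≤ Cfsg.pCore p Y := fun A hA =>
      Cfsg.Agent.Lib.AbelianJ.maxAbelian_le_pCore hp hC hN' T hT hA.1
        (fun a ha b hb => haveI := hA.2.1.1; A.mul_comm_of_mem_isMulCommutative ha hb)
        (fun B hB hBc => hA.2.2 B hB (Cfsg.Agent.Lib.PLocal.elemAb_zero ⟨⟨fun a b => Subtype.ext (hBc a a.2 b b.2)⟩⟩))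
    refine ⟨fun x hx g => ?_⟩
    have hmem := Subgroup.mem_map_of_mem (MulAut.conj g).toMonoidHom hx
    refine (show (sSup {A | Cfsg.Agent.Lib.PLocal.MaxIn 0 (T : Subgroup Y) A}).map (MulAut.conj g).toMonoidHom ≤
      sSup {A | Cfsg.Agent.Lib.PLocal.MaxIn 0 (T : Subgroup Y) A} from ?_) hmem
    rw [(Subgroup.gc_map_comap _).l_sSup]
    refine iSup₂_le fun A hA => le_sSup ⟨?_, Cfsg.Agent.Lib.PLocal.elemAb_map hA.2.1 _, fun B hB hBc => ?_⟩
    · rintro _ ⟨a, ha, rfl⟩
      exact (Cfsg.Agent.Lib.PGroups.isPGroup_pCore_base p).le_sylow_of_normal T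
        ((inferInstance : (Cfsg.pCore p Y).Normal).conj_mem a (hle A hA ha) g)
    · rw [Subgroup.card_map_of_injective (MulAut.conj g).injective]
      exact hA.2.2 B hB hBc

end Cfsg.Agent.S3070
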