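import Cfsg.Statements.S3072
import Cfsg.Agent.Lib.FusionControl.Strong

set_option autoImplicit false
open Cfsg

namespace Cfsg.Agent.S3072

/-- A strong form of the Alperin–Goldschmidt fusion Theorem. Let P be a Sylow p-subgroup of the finite group G, A a subset of P containing a nonidentity element, and g an element with g⁻¹Ag ⊆ P. Then g = c·x₁⋯xₙ·y with c ∈ C_G(A), y ∈ N_G(P) and, for each i, an element xᵢ and a subgroup Hᵢ ≤ P such that: N_P(Hᵢ) is a Sylow p-subgroup of N_G(Hᵢ); C_P(Hᵢ) ≤ Hᵢ; O_{p',p}(N_G(Hᵢ)) = Hᵢ·C_G(Hᵢ); the Sylow p-subgroups of N_G(Hᵢ)/Hᵢ are not chain-connected through nontrivial intersections (the quotient has a strongly p-embedded subgroup); xᵢ lies in O^p(Xᵢ), where Xᵢ/Hᵢ is the smallest normal subgroup of N_G(Hᵢ)/Hᵢ of order divisible by p; and (x₁⋯xᵢ₋₁)⁻¹A(x₁⋯xᵢ₋₁) ⊆ Hᵢ. -/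
theorem result {G : Type*} [Group G] [Finite G] {p : ℕ} [Fact p.Prime]
    (P : Sylow p G) (A : Set G) (hA : A ⊆ (P : Set G)) (hA1 : ∃ a ∈ A, a ≠ 1)
    (g : G) (hAg : (fun a => g⁻¹ * a * g) '' A ⊆ (P : Set G)) :
    ∃ (n : ℕ) (H X : Fin n → Subgroup G) (x : Fin n → G) (c y : G),
      c ∈ Subgroup.centralizer A ∧ y ∈ Subgroup.normalizer ((P : Subgroup G) : Set G) ∧
      g = c * (List.ofFn x).prod * y ∧
      ∀ i : Fin n,
        H i ≤ (P : Subgroup G) ∧
        ¬ p ∣ ((P : Subgroup G) ⊓ Subgroup.normalizer (H i : Set G)).relIndex (Subgroup.normalizer (H i : Set G)) ∧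
        (P : Subgroup G) ⊓ Subgroup.centralizer (H i : Set G) ≤ H i ∧
        (Cfsg.pPrimePCore p ↥(Subgroup.normalizer (H i : Set G))).map (Subgroup.normalizer (H i : Set G)).subtype =
          H i ⊔ Subgroup.centralizer (H i : Set G) ∧
        ¬ Cfsg.IsSylowChainConnected p
            (↥(Subgroup.normalizer (H i : Set G)) ⧸ (H i).subgroupOf (Subgroup.normalizer (H i : Set G))) ∧
        (H i ≤ X i ∧ X i ≤ Subgroup.normalizer (H i : Set G) ∧
          ((X i).subgroupOf (Subgroup.normalizer (H i : Set G))).Normal ∧ p ∣ (H i).relIndex (X i) ∧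
          ∀ Y : Subgroup G, H i ≤ Y → Y ≤ Subgroup.normalizer (H i : Set G) →
            (Y.subgroupOf (Subgroup.normalizer (H i : Set G))).Normal → p ∣ (H i).relIndex Y → X i ≤ Y) ∧
        x i ∈ (Cfsg.pResidual p ↥(X i)).map (X i).subtype ∧
        (fun a => (((List.ofFn x).take i.val).prod)⁻¹ * a * ((List.ofFn x).take i.val).prod) '' A ⊆ (H i : Set G) := by
  classical
  open Lib.FusionControl in
  obtain ⟨T, hT⟩ : ∃ T, T = Subgroup.closure A := ⟨_, rfl⟩
  have hTP : T ≤ (P : Subgroup G) := hT ▸ (Subgroup.closure_le _).2 hA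
  have hgT : Lib.FusionControl.cj g⁻¹ T ≤ (P : Subgroup G) := by
    rw [hT, Lib.FusionControl.cj, MonoidHom.map_closure, Subgroup.closure_le]
    rintro _ ⟨a, ha, rfl⟩
    have := hAg ⟨a, ha, rfl⟩
    simpa using this
  obtain ⟨L, y, hy, hL, hLp, hLe⟩ := Lib.FusionControl.Strong.sw_all P T g⁻¹ hTP hgT
  have hmap : List.ofFn (fun i : Fin L.length => L[i.val].2) = L.map Prod.snd := by
    apply List.ext_getElem <;> simp
  have hAT : A ⊆ (T : Set G) := hT ▸ Subgroup.subset_closure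
  have hXex : ∀ i : Fin L.length, _ := fun i => (hL _ (List.getElem_mem i.2)).2.2.2.2
  choose X hX using hXex
  refine ⟨L.length, fun i => L[i.val].1, X, fun i => L[i.val].2,
    g * ((L.map Prod.snd).prod * y)⁻¹, y, ?_, hy, ?_, fun i => ?_⟩
  · rw [Subgroup.mem_centralizer_iff]
    intro a ha
    have h := hLe a (hAT ha)
    rw [inv_inv] at h
    generalize (L.map Prod.snd).prod * y = w at h ⊢
    calc a * (g * w⁻¹) = g * (g⁻¹ * a * g) * w⁻¹ := by group
      _ = g * (w⁻¹ * a * w) * w⁻¹ := by rw [h]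
      _ = g * w⁻¹ * a := by group
  · rw [hmap]; group
  · obtain ⟨⟨hHS, hext⟩, hcen, heq, hdis, -⟩ := hL _ (List.getElem_mem i.2)
    obtain ⟨⟨hX1, hX2, hX3, hX4, hX5⟩, hx⟩ := hX i
    refine ⟨hHS, hext, hcen, heq, hdis, ⟨hX1, hX2, Subgroup.normal_subgroupOf_of_le_normalizer hX3, hX4,
      fun Y h1 h2 h3 h4 => hX5 Y h1 h2 ((Subgroup.normal_subgroupOf_iff_le_normalizer h2).1 h3) h4⟩, hx, ?_⟩
    rw [hmap]
    refine subset_trans ?_ (Lib.FusionControl.rpath_get (Lib.FusionControl.Strong.rpath_mono hAT hLp) i i.2)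
    rintro _ ⟨a, ha, rfl⟩
    exact ⟨a, ha, by simp⟩

end Cfsg.Agent.S3072
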