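import Cfsg.Statements.S3073
import Cfsg.Agent.Lib.LocalEven2.CharNPC

set_option autoImplicit false
universe u
open Cfsg

namespace Cfsg.Agent.S3073

/-- For an odd prime p, every finite p-group S has a characteristic subgroup K with C_S(K) ≤ K such that, whenever S is (isomorphic to) a Sylow p-subgroup of a finite group G, G has a normal p-complement if and only if N_G(K)/C_G(K) is a p-group, i.e. every element of N_G(K) of order prime to p centralizes K (K transported into G along the isomorphism). -/
theorem result (p : ℕ) [Fact p.Prime] (hp : p ≠ 2)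
    (S : Type u) [Group S] [Finite S] (hS : IsPGroup p S) :
    ∃ K : Subgroup S, K.Characteristic ∧ Subgroup.centralizer (K : Set S) ≤ K ∧
      ∀ (G : Type u) [Group G] [Finite G] (P : Sylow p G) (e : ↥(P : Subgroup G) ≃* S),
        Cfsg.HasNormalPComplement p G ↔
          ∀ g ∈ Subgroup.normalizer (((K.comap (e : ↥(P : Subgroup G) →* S)).map (P : Subgroup G).subtype : Subgroup G) : Set G),
            (orderOf g).Coprime p →
              g ∈ Subgroup.centralizer (((K.comap (e : ↥(P : Subgroup G) →* S)).map (P : Subgroup G).subtype : Subgroup G) : Set G) := by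
  obtain ⟨K, hKchar, hKc, hKG⟩ := Lib.LocalEven2.exists_char_npc hp _ S rfl hS
  refine ⟨K, hKchar, hKc, fun G _ _ P e => ?_⟩
  let ι : S →* G := (P : Subgroup G).subtype.comp e.symm.toMonoidHom
  have hιi : Function.Injective ι := (P : Subgroup G).subtype_injective.comp e.symm.injective
  have hmap : ((K.comap (e : ↥(P : Subgroup G) →* S)).map (P : Subgroup G).subtype : Subgroup G) = K.map ι := by
    rw [← Subgroup.map_map]
    congr 1
    exact (Subgroup.map_equiv_eq_comap_symm' e.symm K).symm
  have hrange : (P : Subgroup G) = ι.range := by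
    ext x
    constructor
    · intro hx
      exact ⟨e ⟨x, hx⟩, by simp [ι]⟩
    · rintro ⟨s, rfl⟩
      exact (e.symm s).2
  rw [hmap]
  refine ⟨fun h g hg hgo => ?_, hKG G ι hιi ⟨P, hrange⟩⟩
  have hnN := Cfsg.Agent.Lib.Transfer.hasNormalPComplement_subgroup h
    (Subgroup.normalizer ((K.map ι : Subgroup G) : Set G))
  haveI : ((K.map ι).subgroupOf (Subgroup.normalizer ((K.map ι : Subgroup G) : Set G))).Normal :=
    Subgroup.normal_in_normalizer
  have hpN : IsPGroup p ((K.map ι).subgroupOf (Subgroup.normalizer ((K.map ι : Subgroup G) : Set G))) :=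
    ((hS.to_subgroup K).map ι).comap_of_injective _ (Subgroup.subtype_injective _)
  have hc := Cfsg.Agent.Lib.Transfer.commute_of_hasNormalPComplement hnN hpN
    (g := ⟨g, hg⟩) (by rwa [← Subgroup.orderOf_coe])
  rw [Subgroup.mem_centralizer_iff]
  intro k hk
  exact congrArg Subtype.val (Subgroup.mem_centralizer_iff.mp hc
    ⟨k, Subgroup.le_normalizer hk⟩ hk)

end Cfsg.Agent.S3073
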