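import Cfsg.Statements.S3075
import Cfsg.Agent.Lib.LocalEven2.CD
import Mathlib.FieldTheory.Finite.Basic
import Mathlib.LinearAlgebra.Matrix.SpecialLinearGroup

set_option autoImplicit false
open Cfsg

namespace Cfsg.Agent.S3075

/-- Let p be an odd prime and N a finite group with a normal elementary abelian subgroup A of order p² that is its own centralizer in N, such that N/A is isomorphic to SL₂(p) (over any field F with p elements). Then N splits over A: some subgroup U of N satisfies A ∩ U = 1 and AU = N. -/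
theorem result {N : Type*} [Group N] [Finite N] {p : ℕ} [Fact p.Prime] (hp : p ≠ 2)
    (A : Subgroup N) [A.Normal] (hAcomm : IsMulCommutative A) (hAcard : Nat.card A = p ^ 2) (hAexp : Monoid.exponent ↥A = p)
    (hAself : Subgroup.centralizer (A : Set N) = A)
    {F : Type*} [Field F] [Fintype F] (hF : Fintype.card F = p) (e : N ⧸ A ≃* Matrix.SpecialLinearGroup (Fin 2) F) :
    ∃ U : Subgroup N, A ⊓ U = ⊥ ∧ A ⊔ U = ⊤ := by
  classical
  have hp' : p.Prime := Fact.out
  have hAc : ∀ a ∈ A, ∀ b ∈ A, a * b = b * a := fun a ha b hb =>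
    congrArg Subtype.val (hAcomm.is_comm.comm (⟨a, ha⟩ : ↥A) ⟨b, hb⟩)
  have hexp : ∀ a ∈ A, a ^ p = 1 := fun a ha => by
    have h := Monoid.pow_exponent_eq_one (⟨a, ha⟩ : ↥A)
    rw [hAexp] at h
    exact congrArg Subtype.val h
  -- characteristic of `F`
  obtain ⟨r, hr⟩ := CharP.exists F
  haveI := hr
  obtain ⟨n, hrp, hn⟩ := FiniteField.card F r
  rw [hF] at hn
  have hrp' : r = p := by
    have h : p ∣ r := hp'.dvd_of_dvd_pow (dvd_of_eq hn)
    exact ((Nat.prime_dvd_prime_iff_eq hp' hrp).mp h).symm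
  subst hrp'
  -- the element `-1` of `SL₂`
  let s : Matrix.SpecialLinearGroup (Fin 2) F :=
    ⟨!![-1, 0; 0, -1], by simp [Matrix.det_fin_two]⟩
  have hs1 : s ≠ 1 := by
    intro h
    have h' := congrFun (congrFun (congrArg Subtype.val h) 0) 0
    exact Ring.neg_one_ne_one_of_char_ne_two (R := F) (by rw [ringChar.eq F r]; exact hp)
      (by simpa [s] using h')
  have hscomm : ∀ M : Matrix.SpecialLinearGroup (Fin 2) F, M * s = s * M := by
    intro M
    refine Subtype.ext ?_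
    show (M : Matrix (Fin 2) (Fin 2) F) * !![-1, 0; 0, -1] = !![-1, 0; 0, -1] * (M : Matrix (Fin 2) (Fin 2) F)
    ext i j
    fin_cases i <;> fin_cases j <;> simp [Matrix.mul_apply, Fin.sum_univ_two]
  have hs2 : s * s = 1 := by
    refine Subtype.ext ?_
    show !![-1, 0; 0, -1] * !![-1, 0; 0, -1] = (1 : Matrix (Fin 2) (Fin 2) F)
    ext i j
    fin_cases i <;> fin_cases j <;> simp [Matrix.mul_apply, Fin.sum_univ_two]
  obtain ⟨x, hx⟩ := QuotientGroup.mk'_surjective A (e.symm s)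
  have hxA : x ∉ A := by
    intro h
    have h' : QuotientGroup.mk' A x = 1 := (QuotientGroup.eq_one_iff x).mpr h
    rw [hx] at h'
    exact hs1 (by simpa using congrArg e h')
  have hx2 : x * x ∈ A := by
    rw [← QuotientGroup.eq_one_iff]
    show QuotientGroup.mk' A (x * x) = 1
    rw [map_mul, hx, ← map_mul, hs2, map_one]
  have hxn : ∀ n : N, n * x * n⁻¹ * x⁻¹ ∈ A := by
    intro n
    rw [← QuotientGroup.eq_one_iff]
    show QuotientGroup.mk' A (n * x * n⁻¹ * x⁻¹) = 1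
    obtain ⟨M, hM⟩ := e.symm.surjective (QuotientGroup.mk' A n)
    simp only [map_mul, map_inv, hx, ← hM]
    rw [← map_mul, hscomm, map_mul]
    group
  have hxx : ∀ a ∈ A, x * (x * a * x⁻¹) * x⁻¹ = a := by
    intro a ha
    calc x * (x * a * x⁻¹) * x⁻¹ = (x * x) * a * (x * x)⁻¹ := by group
      _ = a * (x * x) * (x * x)⁻¹ := by rw [hAc _ hx2 a ha]
      _ = a := by group
  -- conjugation by `n` commutes with conjugation by `x` on `A`
  have hcx : ∀ n : N, ∀ a ∈ A, x * (n * a * n⁻¹) * x⁻¹ = n * (x * a * x⁻¹) * n⁻¹ := by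
    intro n a ha
    have hb : n * x * a * x⁻¹ * n⁻¹ ∈ A := by
      have := (inferInstance : A.Normal).conj_mem a ha (n * x)
      simpa [mul_assoc] using this
    set c := n * x * n⁻¹ * x⁻¹ with hc
    have h1 : x * (n * a * n⁻¹) * x⁻¹ = c⁻¹ * (n * x * a * x⁻¹ * n⁻¹) * c := by rw [hc]; group
    rw [h1, hAc _ (A.inv_mem (hxn n)) _ hb]
    rw [hc]; group
  -- the fixed points of `x` on `A`
  let Fx : Subgroup N := A ⊓ Subgroup.centralizer ({x} : Set N)
  let Mx : Subgroup N :=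
    { carrier := {a | a ∈ A ∧ x * a * x⁻¹ = a⁻¹}
      one_mem' := ⟨A.one_mem, by simp⟩
      mul_mem' := fun {a b} ha hb => ⟨A.mul_mem ha.1 hb.1, by
        calc x * (a * b) * x⁻¹ = (x * a * x⁻¹) * (x * b * x⁻¹) := by group
          _ = a⁻¹ * b⁻¹ := by rw [ha.2, hb.2]
          _ = b⁻¹ * a⁻¹ := hAc _ (A.inv_mem ha.1) _ (A.inv_mem hb.1)
          _ = _ := by group⟩
      inv_mem' := fun {a} ha => ⟨A.inv_mem ha.1, by
        calc x * a⁻¹ * x⁻¹ = (x * a * x⁻¹)⁻¹ := by group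
          _ = _ := by rw [ha.2]⟩ }
  have hFmem : ∀ a, a ∈ Fx ↔ a ∈ A ∧ x * a * x⁻¹ = a := fun a => by
    simp only [Fx, Subgroup.mem_inf, Subgroup.mem_centralizer_singleton_iff]
    refine and_congr_right fun _ => ⟨fun h => ?_, fun h => ?_⟩
    · rw [← h]; group
    · calc a * x = (x * a * x⁻¹) * x := by rw [h]
        _ = x * a := by group
  have hFM : Fx ⊓ Mx = ⊥ := by
    rw [eq_bot_iff]
    rintro a ⟨h1, h2⟩
    have h : a = a⁻¹ := ((hFmem a).mp h1).2.symm.trans h2.2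
    have h3 : a ^ 2 = 1 := by rw [sq]; nth_rw 1 [h]; exact inv_mul_cancel a
    have h4 : Nat.gcd 2 r = 1 :=
      (Nat.coprime_primes Nat.prime_two hp').mpr (Ne.symm hp)
    have h5 := pow_gcd_eq_one.mpr ⟨h3, hexp a h2.1⟩
    rw [h4, pow_one] at h5
    exact h5
  have hMne : Mx ≠ ⊥ := by
    intro h
    apply hxA
    rw [← hAself]
    refine Subgroup.mem_centralizer_iff.mpr fun a ha => ?_
    have hmem : x * a * x⁻¹ * a⁻¹ ∈ Mx := by
      refine ⟨A.mul_mem ((inferInstance : A.Normal).conj_mem a ha x) (A.inv_mem ha), ?_⟩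
      calc x * (x * a * x⁻¹ * a⁻¹) * x⁻¹ = (x * (x * a * x⁻¹) * x⁻¹) * (x * a * x⁻¹)⁻¹ := by group
        _ = a * (x * a * x⁻¹)⁻¹ := by rw [hxx a ha]
        _ = _ := by group
    rw [h, Subgroup.mem_bot, mul_inv_eq_one] at hmem
    calc a * x = (x * a * x⁻¹) * x := by rw [hmem]
      _ = x * a := by group
  have hcard : ∀ {H : Subgroup N}, H ≤ A → H ≠ ⊥ → H ≠ A → Nat.card ↥H = r := by
    intro H hH h1 h2
    have hd : Nat.card ↥H ∣ r ^ 2 := hAcard ▸ Subgroup.card_dvd_of_le hH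
    obtain ⟨k, hk, hk'⟩ := (Nat.dvd_prime_pow hp').mp hd
    interval_cases k
    · exact absurd (Subgroup.eq_bot_of_card_eq H (by simpa using hk')) h1
    · simpa using hk'
    · exact absurd (Subgroup.eq_of_le_of_card_ge hH (by rw [hk', hAcard])) h2
  have hFbot : Fx = ⊥ := by
    by_contra hFne
    have hMA : Mx ≠ A := by
      intro h
      exact hFne (by
        rw [← hFM, h]
        exact (inf_eq_left.mpr fun a ha => ((hFmem a).mp ha).1).symm)
    have hFA : Fx ≠ A := by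
      intro h
      apply hxA
      rw [← hAself]
      refine Subgroup.mem_centralizer_iff.mpr fun a ha => ?_
      exact Subgroup.mem_centralizer_singleton_iff.mp (h.symm ▸ ha : a ∈ Fx).2
    have hFc := hcard (inf_le_left : Fx ≤ A) hFne hFA
    have hMc := hcard (fun a ha => ha.1 : Mx ≤ A) hMne hMA
    have hFn : ∀ n : N, ∀ a ∈ Fx, n * a * n⁻¹ ∈ Fx := by
      intro n a ha
      rw [hFmem] at ha ⊢
      exact ⟨(inferInstance : A.Normal).conj_mem a ha.1 n, by rw [hcx n a ha.1, ha.2]⟩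
    have hMn : ∀ n : N, ∀ a ∈ Mx, n * a * n⁻¹ ∈ Mx := fun n a ha =>
      ⟨(inferInstance : A.Normal).conj_mem a ha.1 n, by rw [hcx n a ha.1, ha.2]; group⟩
    have hAeq : Fx ⊔ Mx = A := by
      have hle : Fx ⊔ Mx ≤ A := sup_le inf_le_left fun a ha => ha.1
      refine Subgroup.eq_of_le_of_card_ge hle ?_
      have hd : Nat.card ↥(Fx ⊔ Mx) ∣ r ^ 2 := hAcard ▸ Subgroup.card_dvd_of_le hle
      obtain ⟨k, hk, hk'⟩ := (Nat.dvd_prime_pow hp').mp hd
      rw [hk', hAcard]
      refine Nat.pow_le_pow_right hp'.pos ?_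
      by_contra hlt
      have hle2 : Nat.card ↥(Fx ⊔ Mx) ≤ Nat.card ↥Fx := by
        rw [hk', hFc]
        calc r ^ k ≤ r ^ 1 := Nat.pow_le_pow_right hp'.pos (by omega)
          _ = r := pow_one r
      have h := Subgroup.eq_of_le_of_card_ge (le_sup_left : Fx ≤ Fx ⊔ Mx) hle2
      exact hMne (le_bot_iff.mp (hFM ▸ le_inf (le_of_le_of_eq le_sup_right h.symm) le_rfl))
    have hline : ∀ H : Subgroup N, Nat.card ↥H = r → (∀ n : N, ∀ a ∈ H, n * a * n⁻¹ ∈ H) →
        ∀ u v : N, ∀ a ∈ H, u * (v * a * v⁻¹) * u⁻¹ = v * (u * a * u⁻¹) * v⁻¹ := by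
      intro H hH hn u v a ha
      by_cases ha1 : a = 1
      · subst ha1; group
      have hgen : H = Subgroup.zpowers a := by
        refine (Subgroup.eq_of_le_of_card_ge (Subgroup.zpowers_le.mpr ha) ?_).symm
        have h := Subgroup.orderOf_dvd_natCard H ha
        rw [hH] at h
        rw [hH, Nat.card_zpowers]
        exact (((Nat.dvd_prime hp').mp h).resolve_left fun h1 => ha1 (orderOf_eq_one_iff.mp h1)).ge
      obtain ⟨i, hi⟩ := Subgroup.mem_zpowers_iff.mp (hgen ▸ hn u a ha)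
      obtain ⟨j, hj⟩ := Subgroup.mem_zpowers_iff.mp (hgen ▸ hn v a ha)
      rw [← hi, ← hj, ← conj_zpow, ← conj_zpow, ← hi, ← hj, ← zpow_mul, ← zpow_mul, mul_comm]
    have hcomm : ∀ u v : N, u⁻¹ * v⁻¹ * u * v ∈ A := by
      intro u v
      suffices h : u⁻¹ * v⁻¹ * u * v ∈ Subgroup.centralizer ((Fx ⊔ Mx : Subgroup N) : Set N) by
        rwa [hAeq, hAself] at h
      rw [Lib.LocalEven2.CD.centralizer_sup]
      have key : ∀ H : Subgroup N, Nat.card ↥H = r → (∀ n : N, ∀ a ∈ H, n * a * n⁻¹ ∈ H) →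
          u⁻¹ * v⁻¹ * u * v ∈ Subgroup.centralizer (H : Set N) := by
        intro H hH hn
        refine Subgroup.mem_centralizer_iff.mpr fun a ha => ?_
        have h := hline H hH hn u v a ha
        have h2 : a = (u⁻¹ * v⁻¹ * u * v) * a * (u⁻¹ * v⁻¹ * u * v)⁻¹ := by
          calc a = u⁻¹ * (v⁻¹ * (v * (u * a * u⁻¹) * v⁻¹) * v) * u := by group
            _ = u⁻¹ * (v⁻¹ * (u * (v * a * v⁻¹) * u⁻¹) * v) * u := by rw [h]
            _ = _ := by group
        nth_rw 1 [h2]; group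
      exact ⟨key Fx hFc hFn, key Mx hMc hMn⟩
    -- but `SL₂` is not commutative
    let U : Matrix.SpecialLinearGroup (Fin 2) F := ⟨!![1, 1; 0, 1], by simp [Matrix.det_fin_two]⟩
    let L : Matrix.SpecialLinearGroup (Fin 2) F := ⟨!![1, 0; 1, 1], by simp [Matrix.det_fin_two]⟩
    obtain ⟨u, hu⟩ := QuotientGroup.mk'_surjective A (e.symm U)
    obtain ⟨v, hv⟩ := QuotientGroup.mk'_surjective A (e.symm L)
    have h : QuotientGroup.mk' A (u⁻¹ * v⁻¹ * u * v) = 1 := (QuotientGroup.eq_one_iff _).mpr (hcomm u v)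
    simp only [map_mul, map_inv, hu, hv] at h
    have h' := congrArg e h
    simp only [map_mul, map_inv, MulEquiv.apply_symm_apply, map_one] at h'
    have h'' : U * L = L * U := by
      calc U * L = L * U * (U⁻¹ * L⁻¹ * U * L) := by group
        _ = _ := by rw [h', mul_one]
    have h4 : (!![1, 1; 0, 1] : Matrix (Fin 2) (Fin 2) F) * !![1, 0; 1, 1] = !![1, 0; 1, 1] * !![1, 1; 0, 1] :=
      congrArg Subtype.val h''
    have h3 := congrFun (congrFun h4 0) 0
    simp [Matrix.mul_apply, Fin.sum_univ_two] at h3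
  -- the complement
  refine ⟨Subgroup.centralizer ({x} : Set N), hFbot, eq_top_iff.mpr fun n _ => ?_⟩
  let φ : ↥A → ↥A := fun b => ⟨(b : N) * (x * (b : N)⁻¹ * x⁻¹),
    A.mul_mem b.2 ((inferInstance : A.Normal).conj_mem _ (A.inv_mem b.2) x)⟩
  have hφ : Function.Injective φ := by
    intro b c hbc
    have h : (b : N) * (x * (b : N)⁻¹ * x⁻¹) = (c : N) * (x * (c : N)⁻¹ * x⁻¹) := congrArg Subtype.val hbc
    have hd : (c : N)⁻¹ * b ∈ Fx := by
      refine (hFmem _).mpr ⟨A.mul_mem (A.inv_mem c.2) b.2, ?_⟩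
      calc x * ((c : N)⁻¹ * b) * x⁻¹
          = (c : N)⁻¹ * ((c : N) * (x * (c : N)⁻¹ * x⁻¹)) * (x * (b : N) * x⁻¹) := by group
        _ = (c : N)⁻¹ * ((b : N) * (x * (b : N)⁻¹ * x⁻¹)) * (x * (b : N) * x⁻¹) := by rw [h]
        _ = _ := by group
    rw [hFbot, Subgroup.mem_bot, inv_mul_eq_one] at hd
    exact Subtype.ext hd.symm
  obtain ⟨b, hb⟩ := Finite.injective_iff_surjective.mp hφ ⟨_, hxn n⟩
  have hb' : (b : N) * (x * (b : N)⁻¹ * x⁻¹) = n * x * n⁻¹ * x⁻¹ := congrArg Subtype.val hb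
  have hc : (b : N)⁻¹ * n ∈ Subgroup.centralizer ({x} : Set N) := by
    rw [Subgroup.mem_centralizer_singleton_iff]
    calc (b : N)⁻¹ * n * x = (b : N)⁻¹ * (n * x * n⁻¹ * x⁻¹) * x * n := by group
      _ = (b : N)⁻¹ * ((b : N) * (x * (b : N)⁻¹ * x⁻¹)) * x * n := by rw [hb']
      _ = _ := by group
  have h := Subgroup.mul_mem_sup b.2 hc
  rwa [mul_inv_cancel_left] at h

end Cfsg.Agent.S3075
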