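import Cfsg.Statements.S3076
import Cfsg.Agent.Lib.Cores
import Cfsg.Agent.Lib.Transfer.Frobenius
import Cfsg.Agent.Lib.PGroups.Subnormal
import Cfsg.Agent.Lib.LocalEven2.Sylow

set_option autoImplicit false
open Cfsg

namespace Cfsg.Agent.S3076

theorem aux {M : Type*} [Group M] [Finite M] {p : ℕ} [Fact p.Prime] (H R : Subgroup M) [hH : H.Normal]
    (hHp : IsPGroup p ↥H) (hRp : IsPGroup p ↥R) (hR : ¬ p ∣ R.index) (C : Subgroup M) [hCn : C.Normal]
    (hC : C = Subgroup.centralizer (H : Set M)) :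
    (H ≤ (Cfsg.pCore p (M ⧸ C)).comap (QuotientGroup.mk' C) ∧
      ¬ p ∣ H.relIndex ((Cfsg.pCore p (M ⧸ C)).comap (QuotientGroup.mk' C))) ↔
    (R ⊓ C ≤ H ∧ Cfsg.pPrimePCore p M = H ⊔ C) := by
  set L := (Cfsg.pCore p (M ⧸ C)).comap (QuotientGroup.mk' C) with hL
  set K := Cfsg.pPrimeCore p M with hK
  have hp : p.Prime := Fact.out
  have hHcore : H ≤ Cfsg.pCore p M := Lib.Cores.le_pCore hH hHp
  have hHL : H ≤ L := Subgroup.map_le_iff_le_comap.mp
    (Lib.Cores.le_pCore (hH.map _ (QuotientGroup.mk'_surjective C)) (hHp.map _))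
  have hCL : C ≤ L := fun c hc => by
    rw [hL, Subgroup.mem_comap, show QuotientGroup.mk' C c = 1 from (QuotientGroup.eq_one_iff c).mpr hc]
    exact one_mem _
  have hKC : K ≤ C := by
    rw [hC]
    intro k hk
    exact Subgroup.mem_centralizer_iff.mpr fun h hh =>
      Lib.Cores.commute_of_mem_pCore_of_mem_pPrimeCore (hHcore hh) hk
  have hcond : R ⊓ C ≤ H → C ≤ H ⊔ K := by
    intro hRC
    have hidx : ¬ p ∣ ((R ⊓ C).subgroupOf C).index := by
      intro hd
      rw [← Subgroup.relIndex, Subgroup.inf_relIndex_right] at hd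
      exact hR (hd.trans (Lib.PGroups.relIndex_dvd_index_of_normal_right C R))
    have hX : IsPGroup p ↥((R ⊓ C).subgroupOf C) := (hRp.to_inf_left (K := C)).comap_subtype
    let S : Sylow p ↥C := hX.toSylow hidx
    have hS : ((S : Subgroup ↥C) : Subgroup ↥C) = (R ⊓ C).subgroupOf C := rfl
    have hcen : Subgroup.normalizer ((S : Subgroup ↥C) : Set ↥C) ≤
        Subgroup.centralizer ((S : Subgroup ↥C) : Set ↥C) := by
      intro c _
      refine Subgroup.mem_centralizer_iff.mpr fun s hs => Subtype.ext ?_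
      have h2 : (c : M) ∈ Subgroup.centralizer (H : Set M) := hC ▸ c.2
      exact Subgroup.mem_centralizer_iff.mp h2 s (hRC hs)
    obtain ⟨S', Q, hQn, hQ⟩ := Lib.Transfer.hasNormalPComplement_of_normalizer_le_centralizer S hcen
    have hQ' : (Nat.card ↥Q).Coprime p := by
      rw [← hQ.index_eq_card.trans rfl] at *
      exact ((Fact.out : p.Prime).coprime_iff_not_dvd.mpr S'.not_dvd_index).symm
    have hQK : Q.map C.subtype ≤ K := (Subgroup.map_mono (Lib.Cores.le_pPrimeCore hQn hQ')).trans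
      (Lib.Cores.map_subtype_pPrimeCore_le C)
    have hS'H : (S' : Subgroup ↥C).map C.subtype ≤ H := by
      obtain ⟨c, hc⟩ := MulAction.exists_smul_eq ↥C S S'
      rw [← hc]
      rintro _ ⟨y, hy, rfl⟩
      rw [SetLike.mem_coe, Lib.LocalEven2.mem_smul_sylow] at hy
      have h := hH.conj_mem _ (hRC hy) (c : M)
      simpa [mul_assoc] using h
    intro c hc
    have h : (⟨c, hc⟩ : ↥C) ∈ Q ⊔ (S' : Subgroup ↥C) := hQ.sup_eq_top ▸ Subgroup.mem_top _
    have h2 := Subgroup.mem_map_of_mem C.subtype h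
    rw [Subgroup.map_sup] at h2
    exact sup_le (hQK.trans le_sup_right) (hS'H.trans le_sup_left) h2
  have hcore : C ≤ H ⊔ K → H ⊔ C ≤ Cfsg.pPrimePCore p M := by
    intro hCle
    have h1 : K ≤ Cfsg.pPrimePCore p M := fun k hk => by
      rw [Cfsg.pPrimePCore, Subgroup.mem_comap, show QuotientGroup.mk' (Cfsg.pPrimeCore p M) k = 1 from (QuotientGroup.eq_one_iff k).mpr hk]
      exact one_mem _
    have h2 : H ≤ Cfsg.pPrimePCore p M := Subgroup.map_le_iff_le_comap.mp
      (Lib.Cores.le_pCore (hH.map _ (QuotientGroup.mk'_surjective _)) (hHp.map _))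
    exact sup_le h2 (hCle.trans (sup_le h2 h1))
  constructor
  · rintro ⟨-, hnd⟩
    have h1 : ∀ X : Subgroup M, H ≤ X → X ≤ L → (∃ n, H.relIndex X = p ^ n) → X ≤ H := by
      rintro X hHX hXL ⟨n, hn⟩
      have hd : H.relIndex X ∣ H.relIndex L :=
        Dvd.intro _ (Subgroup.relIndex_mul_relIndex H X L hHX hXL)
      rcases n with _ | n
      · exact Subgroup.relIndex_eq_one.mp (by simpa using hn)
      · exact absurd ((dvd_pow_self p (Nat.succ_ne_zero n)).trans (hn ▸ hd)) hnd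
    have hRC : R ⊓ C ≤ H := by
      refine le_sup_left.trans (h1 ((R ⊓ C) ⊔ H) le_sup_right
        (sup_le (inf_le_right.trans hCL) hHL) ?_)
      obtain ⟨m, hm⟩ := IsPGroup.iff_card.mp (hRp.to_inf_left.to_sup_of_normal_right (H := R ⊓ C) hHp)
      obtain ⟨k, -, hk⟩ := (Nat.dvd_prime_pow hp).mp
        (hm ▸ Subgroup.index_dvd_card (H.subgroupOf ((R ⊓ C) ⊔ H)))
      exact ⟨k, hk⟩
    refine ⟨hRC, le_antisymm ?_ (hcore (hcond hRC))⟩
    have hle : Cfsg.pPrimePCore p M ≤ L := by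
      haveI : (Cfsg.pPrimePCore p M).Normal := Subgroup.normal_comap _
      refine Subgroup.map_le_iff_le_comap.mp (Lib.Cores.le_pCore
        ((inferInstance : (Cfsg.pPrimePCore p M).Normal).map _ (QuotientGroup.mk'_surjective C)) ?_)
      rintro ⟨_, x, hx, rfl⟩
      obtain ⟨n, hn⟩ := Lib.Cores.pCore_isPGroup p _ ⟨_, hx⟩
      refine ⟨n, Subtype.ext ?_⟩
      show (QuotientGroup.mk' C x) ^ p ^ n = 1
      rw [← map_pow]
      refine (QuotientGroup.eq_one_iff _).mpr (hKC ?_)
      rw [hK, ← QuotientGroup.eq_one_iff]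
      show QuotientGroup.mk' (Cfsg.pPrimeCore p M) (x ^ p ^ n) = 1
      rw [map_pow]
      exact congrArg Subtype.val hn
    refine hle.trans ?_
    -- `L = H C`
    refine Subgroup.relIndex_eq_one.mp ?_
    have hd1 : (H ⊔ C).relIndex L ∣ H.relIndex L :=
      Dvd.intro_left _ (Subgroup.relIndex_mul_relIndex H (H ⊔ C) L le_sup_left (sup_le hHL hCL))
    have hd2 : (H ⊔ C).relIndex L ∣ C.relIndex L :=
      Dvd.intro_left _ (Subgroup.relIndex_mul_relIndex C (H ⊔ C) L le_sup_right (sup_le hHL hCL))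
    obtain ⟨n, hn⟩ : ∃ n, C.relIndex L = p ^ n := by
      obtain ⟨n, hn⟩ := IsPGroup.iff_card.mp (Lib.Cores.pCore_isPGroup p (M ⧸ C))
      refine ⟨n, ?_⟩
      have h := Subgroup.relIndex_comap (⊥ : Subgroup (M ⧸ C)) (QuotientGroup.mk' C) L
      rw [MonoidHom.comap_bot, QuotientGroup.ker_mk', hL,
        Subgroup.map_comap_eq_self_of_surjective (QuotientGroup.mk'_surjective _),
        Subgroup.relIndex_bot_left] at h
      rw [← hn, hL, h]
    obtain ⟨k, -, hk⟩ := (Nat.dvd_prime_pow hp).mp (hn ▸ hd2)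
    rcases k with _ | k
    · simpa using hk
    · exact absurd ((dvd_pow_self p (Nat.succ_ne_zero k)).trans (hk ▸ hd1)) hnd
  · rintro ⟨hRC, heq⟩
    refine ⟨hHL, ?_⟩
    have hCle := hcond hRC
    have hLle : L ≤ H ⊔ K := by
      refine le_trans ?_ (sup_le le_sup_left hCle : H ⊔ C ≤ H ⊔ K)
      rw [← heq]
      haveI : L.Normal := Subgroup.normal_comap _
      refine Subgroup.map_le_iff_le_comap.mp (Lib.Cores.le_pCore
        ((inferInstance : L.Normal).map _ (QuotientGroup.mk'_surjective _)) ?_)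
      rintro ⟨_, x, hx, rfl⟩
      obtain ⟨n, hn⟩ := Lib.Cores.pCore_isPGroup p _ ⟨_, hx⟩
      have h1 : x ^ p ^ n ∈ H ⊔ K := by
        refine hCle ((QuotientGroup.eq_one_iff _).mp ?_)
        show QuotientGroup.mk' C (x ^ p ^ n) = 1
        rw [map_pow]
        exact congrArg Subtype.val hn
      rw [← SetLike.mem_coe, Subgroup.mul_normal] at h1
      obtain ⟨h, hh, k, hk, hhk⟩ := h1
      obtain ⟨m, hm⟩ := hHp ⟨h, hh⟩
      have hm' : h ^ p ^ m = 1 := congrArg Subtype.val hm
      refine ⟨n + m, Subtype.ext ?_⟩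
      show (QuotientGroup.mk' _ x) ^ p ^ (n + m) = 1
      rw [pow_add, pow_mul, ← map_pow, ← hhk, map_mul,
        show QuotientGroup.mk' (Cfsg.pPrimeCore p M) k = 1 from (QuotientGroup.eq_one_iff k).mpr hk,
        mul_one, ← map_pow, hm', map_one]
    intro hd
    have hd2 : H.relIndex L ∣ H.relIndex (H ⊔ K) :=
      Dvd.intro _ (Subgroup.relIndex_mul_relIndex H L (H ⊔ K) hHL hLle)
    have hd3 : H.relIndex (H ⊔ K) ∣ Nat.card ↥K := by
      rw [Subgroup.relIndex_sup_left]
      exact Subgroup.index_dvd_card _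
    exact Lib.Cores.not_dvd_card_pPrimeCore ((hd.trans hd2).trans hd3)


/-- Let P be a Sylow p-subgroup of the finite group G and H ≤ P a subgroup with N_P(H) a Sylow p-subgroup of N_G(H). Let N be the preimage in N_G(H) of O_p(N_G(H)/C_G(H)). Then H is a Sylow p-subgroup of N if and only if C_P(H) ≤ H and O_{p',p}(N_G(H)) = H·C_G(H). -/
theorem result {G : Type*} [Group G] [Finite G] {p : ℕ} [Fact p.Prime]
    (P : Sylow p G) (H : Subgroup G) (hHP : H ≤ (P : Subgroup G))
    (hSyl : ¬ p ∣ ((P : Subgroup G) ⊓ Subgroup.normalizer (H : Set G)).relIndex (Subgroup.normalizer (H : Set G)))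
    [hC : ((Subgroup.centralizer (H : Set G)).subgroupOf (Subgroup.normalizer (H : Set G))).Normal] :
    (H ≤ ((Cfsg.pCore p (↥(Subgroup.normalizer (H : Set G)) ⧸
              (Subgroup.centralizer (H : Set G)).subgroupOf (Subgroup.normalizer (H : Set G)))).comap
            (QuotientGroup.mk' _)).map (Subgroup.normalizer (H : Set G)).subtype ∧
      ¬ p ∣ H.relIndex (((Cfsg.pCore p (↥(Subgroup.normalizer (H : Set G)) ⧸
              (Subgroup.centralizer (H : Set G)).subgroupOf (Subgroup.normalizer (H : Set G)))).comap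
            (QuotientGroup.mk' _)).map (Subgroup.normalizer (H : Set G)).subtype)) ↔
    ((P : Subgroup G) ⊓ Subgroup.centralizer (H : Set G) ≤ H ∧
      (Cfsg.pPrimePCore p ↥(Subgroup.normalizer (H : Set G))).map (Subgroup.normalizer (H : Set G)).subtype =
        H ⊔ Subgroup.centralizer (H : Set G)) := by
  set M := Subgroup.normalizer (H : Set G) with hM
  haveI : (H.subgroupOf M).Normal := Subgroup.normal_in_normalizer
  set L := (Cfsg.pCore p (↥M ⧸ (Subgroup.centralizer (H : Set G)).subgroupOf M)).comap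
    (QuotientGroup.mk' _) with hL
  have hHM : H ≤ M := Subgroup.le_normalizer
  have hHp : IsPGroup p ↥H := P.2.to_le hHP
  have hCM : Subgroup.centralizer (H : Set G) ≤ M := Subgroup.centralizer_le_normalizer _
  have hC : (Subgroup.centralizer (H : Set G)).subgroupOf M =
      Subgroup.centralizer ((H.subgroupOf M : Subgroup ↥M) : Set ↥M) := by
    ext x
    simp only [Subgroup.mem_subgroupOf, Subgroup.mem_centralizer_iff]
    exact ⟨fun h y hy => Subtype.ext (h y hy), fun h y hy =>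
      congrArg Subtype.val (h ⟨y, hHM hy⟩ hy)⟩
  have key := aux (H.subgroupOf M) (((P : Subgroup G) ⊓ M).subgroupOf M) (p := p)
    hHp.comap_subtype (P.2.to_inf_left.comap_subtype) hSyl
    ((Subgroup.centralizer (H : Set G)).subgroupOf M) hC
  have hLmap : H ≤ L.map M.subtype ↔ H.subgroupOf M ≤ L := by
    refine ⟨fun h x hx => ?_, fun h x hx => ⟨⟨x, hHM hx⟩, h hx, rfl⟩⟩
    obtain ⟨y, hy, hyx⟩ := h hx
    rwa [← M.subtype_injective hyx]
  have hrel : H.relIndex (L.map M.subtype) = (H.subgroupOf M).relIndex L := by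
    rw [← Subgroup.relIndex_map_map_of_injective (H.subgroupOf M) L M.subtype_injective,
      Subgroup.map_subgroupOf_eq_of_le hHM]
  rw [hLmap, hrel, key]
  refine and_congr ?_ ?_
  · refine ⟨fun h x hx => ?_, fun h x hx => ?_⟩
    · exact h (show (⟨x, hCM hx.2⟩ : ↥M) ∈ _ from ⟨⟨hx.1, hCM hx.2⟩, hx.2⟩)
    · exact h ⟨hx.1.1, hx.2⟩
  · rw [← Subgroup.map_subtype_inj, Subgroup.map_sup, Subgroup.map_subgroupOf_eq_of_le hHM,
      Subgroup.map_subgroupOf_eq_of_le hCM]

end Cfsg.Agent.S3076
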