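import Cfsg.Statements.S3078
import Cfsg.Agent.Lib.PLocal.GReplace

set_option autoImplicit false
open Cfsg

namespace Cfsg.Agent.S3078

open Cfsg.Agent.Lib Cfsg.Agent.Lib.PLocal
open scoped commutatorElement

theorem omega_mem_iff {G : Type*} [Group G] {A : Subgroup G} (hA : IsMulCommutative A) {p : ℕ} {x : G} :
    x ∈ Cfsg.omegaOne p A ↔ x ∈ A ∧ x ^ p = 1 := by
  refine ⟨fun hx => ?_, fun hx => Subgroup.subset_closure hx⟩
  induction hx using Subgroup.closure_induction with
  | mem x hx => exact hx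
  | one => exact ⟨one_mem _, one_pow _⟩
  | mul x y _ _ hx hy =>
    exact ⟨mul_mem hx.1 hy.1, by
      rw [(show Commute x y from congrArg Subtype.val (hA.is_comm.comm ⟨x, hx.1⟩ ⟨y, hy.1⟩)).mul_pow,
        hx.2, hy.2, one_mul]⟩
  | inv x _ hx => exact ⟨inv_mem hx.1, by rw [inv_pow, hx.2, inv_one]⟩

theorem inner {G : Type*} [Group G] [Finite G] {p : ℕ} [Fact p.Prime] (hp : p ≠ 2)
    (hG : IsPGroup p G) (A B : Subgroup G) [B.Normal] (hA : IsMulCommutative A) (hBA : ⁅B, B⁆ ≤ A)
    (hnot : ¬ B ≤ Subgroup.normalizer (A : Set G)) :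
    ∃ Astar : Subgroup G, IsMulCommutative Astar ∧ Nat.card Astar = Nat.card A ∧ A ⊓ B < Astar ⊓ B ∧
      Astar ≤ Subgroup.normalizer (A : Set G) ∧ Astar ≤ Subgroup.normalClosure (A : Set G) ∧
      Monoid.exponent Astar ∣ Monoid.exponent A ∧
      Nat.card (Cfsg.omegaOne p A) ≤ Nat.card (Cfsg.omegaOne p Astar) := by
  obtain ⟨b, hb, hbN, hbA⟩ : ∃ b ∈ B, b ∈ Subgroup.normalizer ((Subgroup.normalizer (A : Set G)) : Set G) ∧
      b ∉ Subgroup.normalizer (A : Set G) := by
    set N := Subgroup.normalizer (A : Set G) with hN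
    haveI : Group.IsNilpotent ↥(B ⊔ N) := (hG.to_subgroup _).isNilpotent
    have hlt : N.subgroupOf (B ⊔ N) < ⊤ := by
      rw [lt_top_iff_ne_top, Ne, Subgroup.subgroupOf_eq_top]
      exact fun h => hnot (le_sup_left.trans h)
    have hne := Group.normalizerCondition_of_isNilpotent (G := ↥(B ⊔ N)) _ hlt
    rw [← Subgroup.subgroupOf_normalizer_eq (le_sup_right : N ≤ B ⊔ N)] at hne
    obtain ⟨x, hx1, hx2⟩ := SetLike.exists_of_lt hne
    rw [Subgroup.mem_subgroupOf] at hx1 hx2
    obtain ⟨b, hb, n, hn, hbn⟩ := Subgroup.mem_sup_of_normal_left.mp x.2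
    have hbe : b = (x : G) * n⁻¹ := by rw [← hbn]; group
    refine ⟨b, hb, ?_, fun hbN => hx2 (hbn ▸ mul_mem hbN hn)⟩
    rw [hbe]
    exact mul_mem hx1 (inv_mem (Subgroup.le_normalizer hn))
  have h : GSetting A B b := by
    refine ⟨inferInstance, hA, hBA, hb, hbN, hbA, fun u _ hu2 => ?_⟩
    obtain ⟨k, hk⟩ := IsPGroup.iff_orderOf.mp hG u
    refine orderOf_eq_one_iff.mp (Nat.eq_one_of_dvd_coprimes (a := p ^ k) (b := 2) ?_ ?_ ?_)
    · exact Nat.Coprime.pow_left k ((Nat.coprime_primes Fact.out Nat.prime_two).mpr hp)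
    · rw [hk]
    · exact orderOf_dvd_of_pow_eq_one hu2
  set As := gRepl A b with hAs
  have hncl : A.map (conjBy b) ≤ Subgroup.normalClosure (A : Set G) := by
    rintro _ ⟨a, ha, rfl⟩
    rw [conjBy_apply]
    exact Subgroup.normalClosure_normal.conj_mem' a (Subgroup.subset_normalClosure ha) b
  obtain ⟨k, hk⟩ : ∃ k, Monoid.exponent A = p ^ k := by
    obtain ⟨n, hn⟩ := IsPGroup.iff_card.mp (hG.to_subgroup A)
    obtain ⟨k, -, hk⟩ := (Nat.dvd_prime_pow Fact.out).1 (hn ▸ Group.exponent_dvd_nat_card (G := A))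
    exact ⟨k, hk⟩
  have hexp : Odd (Monoid.exponent A) := hk ▸ ((Fact.out : p.Prime).odd_of_ne_two hp).pow
  refine ⟨As, h.gRepl_comm, h.card_gRepl, h.inf_lt_gRepl_inf, h.gRepl_le_normalizer,
    h.gRepl_le_sup.trans (sup_le Subgroup.subset_normalClosure hncl), ?_, ?_⟩
  · refine Monoid.exponent_dvd_of_forall_pow_eq_one fun x => Subtype.ext ?_
    rw [SubgroupClass.coe_pow]
    exact h.gRepl_pow (Or.inl hexp) (fun a ha => by
      have := congrArg Subtype.val (Monoid.pow_exponent_eq_one (⟨a, ha⟩ : A))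
      rwa [SubgroupClass.coe_pow] at this) x x.2
  · -- the rank does not decrease
    set E := Cfsg.omegaOne p A with hE
    set W := Cfsg.omegaOne p As with hW
    set F := E.map (conjBy b) with hF
    have mE : ∀ {x}, x ∈ E ↔ x ∈ A ∧ x ^ p = 1 := omega_mem_iff hA
    have mW : ∀ {x}, x ∈ W ↔ x ∈ As ∧ x ^ p = 1 := omega_mem_iff h.gRepl_comm
    have mF : ∀ {x}, x ∈ F ↔ x ∈ A.map (conjBy b) ∧ x ^ p = 1 := by
      intro x
      constructor
      · rintro ⟨a, ha, rfl⟩
        exact ⟨⟨a, (mE.1 ha).1, rfl⟩, by rw [← map_pow, (mE.1 ha).2, map_one]⟩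
      · rintro ⟨⟨a, ha, rfl⟩, hx⟩
        refine ⟨a, mE.2 ⟨ha, ?_⟩, rfl⟩
        exact (MulAut.conj b⁻¹).injective
          (show conjBy b (a ^ p) = conjBy b 1 by rw [map_pow, hx, map_one])
    have hNE : Subgroup.normalizer (A : Set G) ≤ Subgroup.normalizer (E : Set G) := by
      intro n hn
      rw [Subgroup.mem_normalizer_iff]
      intro x
      rw [mE, mE, ← Subgroup.mem_normalizer_iff.1 hn x, conj_pow]
      simp only [mul_inv_eq_one, mul_eq_left]
    have hWN : W ≤ Subgroup.normalizer (E : Set G) := fun x hx =>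
      hNE (h.gRepl_le_normalizer (mW.1 hx).1)
    have hFN : F ≤ Subgroup.normalizer (E : Set G) := fun x hx =>
      hNE (h.map_le_normalizer (mF.1 hx).1)
    have hsup : E ⊔ F ≤ E ⊔ W := by
      refine sup_le le_sup_left fun x hx => ?_
      obtain ⟨a, ha, rfl⟩ := hx
      have hgen : a * b⁻¹ * a⁻¹ * b ∈ W := by
        refine mW.2 ⟨h.gen_mem_gRepl (mE.1 ha).1, ?_⟩
        -- inside the class two group `A Aᵇ`
        set H := A ⊔ A.map (conjBy b) with hH
        set y := (conjBy b a)⁻¹ with hy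
        have haH : a ∈ H := Subgroup.mem_sup_left (mE.1 ha).1
        have hyH : y ∈ H := Subgroup.mem_sup_right (inv_mem ⟨a, (mE.1 ha).1, rfl⟩)
        set c := ⁅y⁻¹, a⁻¹⁆ with hc
        have hcX := h.commutator_sup_le y⁻¹ (inv_mem hyH) a⁻¹ (inv_mem haH)
        have hap : a ^ p = 1 := (mE.1 ha).2
        have hyp : y ^ p = 1 := by rw [hy, inv_pow, ← map_pow, hap, map_one, inv_one]
        have hcp : c ^ p = 1 := by
          have hq : ∀ n : ℕ, ⁅y⁻¹, a⁻¹⁆ ^ n = ⁅y⁻¹, (a⁻¹) ^ n⁆ := by
            intro n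
            induction n with
            | zero => simp
            | succ n ih =>
              rw [pow_succ, ih, pow_succ,
                ← h.bilin_right (inv_mem hyH) (pow_mem (inv_mem haH) n) (inv_mem haH)]
          rw [hc, hq, inv_pow, hap, inv_one, commutatorElement_one_right]
        have hcc : ∀ g : H, Commute (⟨c, (Subgroup.mem_sup_left hcX.1 : c ∈ H)⟩ : H) g := fun g =>
          Subtype.ext (h.inf_le_centralizer hcX g g.2).symm
        have hf := mul_pow_formula (G := H) (x := ⟨a, haH⟩) (y := ⟨y, hyH⟩)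
          (c := ⟨c, Subgroup.mem_sup_left hcX.1⟩) (d := 1) (e := 1)
          (Subtype.ext (show y * a = a * y * c by rw [hc, commutatorElement_def]; group))
          (by rw [mul_one]; exact hcc _) (by rw [mul_one]; exact hcc _)
          (fun g => Commute.one_left g) (fun g => Commute.one_left g) p
        have hf' : (a * y) ^ p = a ^ p * y ^ p * c ^ p.choose 2 := by
          have := congrArg H.subtype hf
          simpa only [map_mul, map_pow, map_one, one_pow, mul_one, Subgroup.coe_subtype] using this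
        obtain ⟨t, ht⟩ := (Nat.Prime.dvd_choose_self (Fact.out : p.Prime) two_ne_zero
          (lt_of_le_of_ne (Fact.out : p.Prime).two_le (Ne.symm hp)))
        rw [GSetting.gen_eq, ← hy, hf', hap, hyp, ht, pow_mul, hcp, one_pow, one_mul, mul_one]
      have hh := mul_mem (inv_mem (Subgroup.mem_sup_right hgen : _ ∈ E ⊔ W))
        (Subgroup.mem_sup_left ha : a ∈ E ⊔ W)
      rwa [GSetting.gen_eq, mul_inv_rev, inv_inv, inv_mul_cancel_right] at hh
    have hinf : E ⊓ W ≤ E ⊓ F := by
      rintro x ⟨hx1, hx2⟩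
      have hx : x ∈ A ⊓ As := ⟨(mE.1 hx1).1, (mW.1 hx2).1⟩
      rw [h.inf_gRepl] at hx
      exact ⟨hx1, mF.2 ⟨hx.2, (mE.1 hx1).2⟩⟩
    have e1 := Coprime.card_sup_mul_card_inf (N := E) (H := W) hWN
    have e2 := Coprime.card_sup_mul_card_inf (N := E) (H := F) hFN
    have hcF : Nat.card F = Nat.card E :=
      Subgroup.card_map_of_injective (MulAut.conj b⁻¹).injective
    have hm : Nat.card ↥(E ⊔ F : Subgroup G) * Nat.card ↥(E ⊓ W : Subgroup G) ≤
        Nat.card ↥(E ⊔ W : Subgroup G) * Nat.card ↥(E ⊓ W : Subgroup G) :=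
      Nat.mul_le_mul_right _ (Subgroup.card_le_of_le hsup)
    have hi : E ⊓ F ≤ E ⊓ W := fun x hx =>
      ⟨hx.1, mW.2 ⟨h.inf_le_gRepl ⟨(mE.1 hx.1).1, (mF.1 hx.2).1⟩, (mE.1 hx.1).2⟩⟩
    rw [e1, le_antisymm hinf hi, e2, hcF] at hm
    exact Nat.le_of_mul_le_mul_left hm Nat.card_pos


/-- A replacement Theorem for abelian subgroups of p-groups, p odd. Let G be a finite p-group with p odd, A an abelian subgroup of G, and B a subgroup of nilpotency class at most 2 with [B, B] ≤ A, such that A normalizes B but B does not normalize A. Then there is an abelian subgroup A* of G of the same order as A with A ∩ B strictly contained in A* ∩ B, A* contained in N_G(A) and in the normal closure of A, the exponent of A* dividing the exponent of A, and with the subgroup generated by the elements of order dividing p in A of order at most that of the corresponding subgroup of A* (the rank of A is at most the rank of A*). -/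
theorem result {G : Type*} [Group G] [Finite G] {p : ℕ} [Fact p.Prime] (hp : p ≠ 2) (hG : IsPGroup p G) (A B : Subgroup G) (hA : IsMulCommutative A) (hB2 : ⁅⁅B, B⁆, B⁆ = ⊥) (hBA : ⁅B, B⁆ ≤ A) (hAB : A ≤ Subgroup.normalizer (B : Set G)) (hBnA : ¬ B ≤ Subgroup.normalizer (A : Set G)) : ∃ Astar : Subgroup G, IsMulCommutative Astar ∧ Nat.card Astar = Nat.card A ∧ A ⊓ B < Astar ⊓ B ∧ Astar ≤ Subgroup.normalizer (A : Set G) ∧ Astar ≤ Subgroup.normalClosure (A : Set G) ∧ Monoid.exponent Astar ∣ Monoid.exponent A ∧ Nat.card (Cfsg.omegaOne p A) ≤ Nat.card (Cfsg.omegaOne p Astar) := by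
  set H := A ⊔ B with hH
  haveI : (B.subgroupOf H).Normal :=
    Subgroup.normal_subgroupOf_of_le_normalizer (sup_le hAB Subgroup.le_normalizer)
  have hAmap : (A.subgroupOf H).map H.subtype = A := by
    rw [Subgroup.subgroupOf_map_subtype, inf_eq_left.2 le_sup_left]
  have hBmap : (B.subgroupOf H).map H.subtype = B := by
    rw [Subgroup.subgroupOf_map_subtype, inf_eq_left.2 le_sup_right]
  have hA₀ : IsMulCommutative (A.subgroupOf H) :=
    ⟨⟨fun x y => Subtype.ext (Subtype.ext
      (congrArg Subtype.val (hA.is_comm.comm ⟨_, x.2⟩ ⟨_, y.2⟩) : _))⟩⟩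
  obtain ⟨R, h1, h2, h3, h4, h5, h6, h7⟩ := inner hp (hG.to_subgroup H) (A.subgroupOf H)
    (B.subgroupOf H) hA₀
    (by rw [← Subgroup.map_le_map_iff_of_injective H.subtype_injective, Subgroup.map_commutator,
          hBmap, hAmap]; exact hBA)
    (by
      intro hle
      apply hBnA
      have := Subgroup.map_mono (f := H.subtype) hle
      rw [hBmap] at this
      refine this.trans ((Subgroup.le_normalizer_map H.subtype).trans ?_)
      rw [hAmap])
  have e : (↥(R.map H.subtype)) ≃* ↥R := (R.equivMapOfInjective _ H.subtype_injective).symm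
  have homega : ∀ K : Subgroup H, (Cfsg.omegaOne p K).map H.subtype =
      Cfsg.omegaOne p (K.map H.subtype) := by
    intro K
    rw [Cfsg.omegaOne, Cfsg.omegaOne, MonoidHom.map_closure]
    congr 1
    ext x
    constructor
    · rintro ⟨y, ⟨hy, hyp⟩, rfl⟩
      exact ⟨⟨y, hy, rfl⟩, by rw [← map_pow, hyp, map_one]⟩
    · rintro ⟨⟨y, hy, rfl⟩, hxp⟩
      exact ⟨y, ⟨hy, H.subtype_injective (by rw [map_pow, hxp, map_one])⟩, rfl⟩
  refine ⟨R.map H.subtype, ⟨⟨fun x y => e.injective (by rw [map_mul, map_mul]; exact h1.is_comm.comm _ _)⟩⟩,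
    ?_, ?_, ?_, ?_, ?_, ?_⟩
  · rw [Subgroup.card_map_of_injective H.subtype_injective, h2,
      ← Subgroup.card_map_of_injective H.subtype_injective, hAmap]
  · have h3' := (Subgroup.map_lt_map_iff_of_injective H.subtype_injective).2 h3
    rwa [Subgroup.map_inf _ _ _ H.subtype_injective, Subgroup.map_inf _ _ _ H.subtype_injective,
      hAmap, hBmap] at h3'
  · refine (Subgroup.map_mono h4).trans ((Subgroup.le_normalizer_map H.subtype).trans ?_)
    rw [hAmap]
  · refine (Subgroup.map_mono h5).trans (Subgroup.map_le_iff_le_comap.2 ?_)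
    haveI := (Subgroup.normalClosure_normal (s := (A : Set G))).comap H.subtype
    exact Subgroup.normalClosure_le_normal fun x hx => Subgroup.subset_normalClosure hx
  · rw [Monoid.exponent_eq_of_mulEquiv e]
    refine h6.trans (dvd_of_eq ?_)
    exact Monoid.exponent_eq_of_mulEquiv (Subgroup.subgroupOfEquivOfLe (le_sup_left : A ≤ H))
  · rw [← hAmap, ← homega, ← homega, Subgroup.card_map_of_injective H.subtype_injective,
      Subgroup.card_map_of_injective H.subtype_injective]
    exact h7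

end Cfsg.Agent.S3078
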