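import Cfsg.Statements.S3084
import Cfsg.Agent.Lib.LocalEven2.PlusExtra

set_option autoImplicit false
open Cfsg

namespace Cfsg.Agent.S3084

open Cfsg.Agent.Lib.LocalEven2.PlusModel


/-- Let K be a group acting faithfully and linearly on a finite-dimensional vector space U of dimension 2n ≥ 2 over the field with two elements, preserving a quadratic form q whose polar bilinear form is non-degenerate and which vanishes on some n-dimensional subspace (a non-singular form of plus type). Then there is a finite group R with a normal extraspecial 2-subgroup Q of order 2^(2n+1), an isomorphism of R/Q with K, and a surjective homomorphism χ from Q onto (the additive group of) U with kernel the centre of Q, such that χ carries conjugation by any r in R to the action of the image of r in K, and an element a of Q squares to the identity exactly when q vanishes at χ(a). -/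
theorem result {K : Type*} [Group K] {U : Type*} [AddCommGroup U] [Module (ZMod 2) U] [Module.Finite (ZMod 2) U] (n : ℕ) (hn1 : 1 ≤ n) (hn : Module.finrank (ZMod 2) U = 2 * n) (ρ : Representation (ZMod 2) K U) (hρ : Function.Injective ρ) (q : QuadraticForm (ZMod 2) U) (hq : ∀ (k : K) (u : U), q (ρ k u) = q u) (hnd : (QuadraticMap.polarBilin q).Nondegenerate) (hplus : ∃ W : Submodule (ZMod 2) U, Module.finrank (ZMod 2) ↥W = n ∧ ∀ w ∈ W, q w = 0) : ∃ (R : Type) (_ : Group R) (_ : Finite R) (Q : Subgroup R) (hN : Q.Normal) (e : R ⧸ Q ≃* K) (χ : ↥Q →* Multiplicative U), Cfsg.IsExtraspecial 2 ↥Q ∧ Nat.card ↥Q = 2 ^ (2 * n + 1) ∧ Function.Surjective χ ∧ χ.ker = Subgroup.center ↥Q ∧ (∀ (r : R) (a : ↥Q), χ ⟨r * a * r⁻¹, hN.conj_mem (a : R) a.2 r⟩ = Multiplicative.ofAdd (ρ (e (r : R ⧸ Q)) (Multiplicative.toAdd (χ a)))) ∧ ∀ a : ↥Q, a * a = 1 ↔ q (Multiplicative.toAdd (χ a)) = 0 := by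
  classical
  obtain ⟨Φ, hΦ⟩ := exists_coordinates hn q hnd hplus
  have hU : Finite U := Module.finite_of_finite (ZMod 2)
  let g : K → Vec n →ₗ[ZMod 2] Vec n := fun k => Φ.symm.toLinearMap ∘ₗ ρ k ∘ₗ Φ.toLinearMap
  have hg1 : ∀ u, g 1 u = u := fun u => by simp [g]
  have hgmul : ∀ k k' u, g (k * k') u = g k (g k' u) := fun k k' u => by simp [g]
  have hginj : ∀ k, Function.Injective (g k) := fun k u v h => by
    have h2 := congrArg (g k⁻¹) h
    rwa [← hgmul, ← hgmul, inv_mul_cancel, hg1, hg1] at h2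
  have hgb : ∀ k u, beta n (g k u) (g k u) = beta n u u := fun k u => by
    rw [← hΦ, ← hΦ]
    simp [g, hq]
  have hgfaith : ∀ k k', (∀ u, g k u = g k' u) → k = k' := by
    intro k k' h
    refine hρ (LinearMap.ext fun x => ?_)
    have := congrArg Φ (h (Φ.symm x))
    simpa [g] using this
  let Norm : K → GLn n → Prop := fun k M => ∀ u, ∃ c, M * el 0 u * M⁻¹ = el c (g k u)
  have hcen : ∀ (M : GLn n) (d : ZMod 2), M * el d 0 * M⁻¹ = el d 0 := by
    intro M d
    rw [mul_inv_eq_iff_eq_mul]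
    refine LinearEquiv.ext fun w => ?_
    show M (el d (0 : Vec n) w) = el d (0 : Vec n) (M w)
    rw [el_one_zero_apply, el_one_zero_apply, map_smul]
  have hext : ∀ k M, Norm k M → ∀ d u, ∃ c, M * el d u * M⁻¹ = el c (g k u) := by
    intro k M h d u
    obtain ⟨c, hc⟩ := h u
    refine ⟨d + c, ?_⟩
    have e : el d u = el d 0 * el 0 u := by rw [el_mul]; simp
    calc M * el d u * M⁻¹ = (M * el d 0 * M⁻¹) * (M * el 0 u * M⁻¹) := by rw [e]; group
      _ = _ := by rw [hcen, hc, el_mul]; simp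
  have hNmul : ∀ k k' M M', Norm k M → Norm k' M' → Norm (k * k') (M * M') := by
    intro k k' M M' h h' u
    obtain ⟨c, hc⟩ := h' u
    obtain ⟨d, hd⟩ := hext k M h c (g k' u)
    refine ⟨d, ?_⟩
    rw [hgmul, ← hd, ← hc]
    group
  have hNone : Norm 1 1 := fun u => ⟨0, by simp [hg1]⟩
  have hNinv : ∀ k M, Norm k M → Norm k⁻¹ M⁻¹ := by
    intro k M h u
    obtain ⟨c, hc⟩ := hext k M h 0 (g k⁻¹ u)
    rw [← hgmul, mul_inv_cancel, hg1] at hc
    refine ⟨c, ?_⟩
    have e : el (0 : ZMod 2) u = el c 0 * el c u := by rw [el_mul]; simp [self_add c]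
    have h2 : M⁻¹ * el c u * M⁻¹⁻¹ = el 0 (g k⁻¹ u) := by rw [← hc]; group
    have h3 : M⁻¹ * el c 0 * M⁻¹⁻¹ = el c 0 := hcen _ c
    calc M⁻¹ * el 0 u * M⁻¹⁻¹ = (M⁻¹ * el c 0 * M⁻¹⁻¹) * (M⁻¹ * el c u * M⁻¹⁻¹) := by rw [e]; group
      _ = _ := by rw [h3, h2, el_mul]; simp
  have huniq : ∀ k k' M, Norm k M → Norm k' M → k = k' := by
    intro k k' M h h'
    refine hgfaith k k' fun u => ?_
    obtain ⟨c, hc⟩ := h u
    obtain ⟨c', hc'⟩ := h' u
    exact (el_injective (hc.symm.trans hc')).2
  let R : Subgroup (GLn n) :=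
    { carrier := {M | ∃ k, Norm k M}
      one_mem' := ⟨1, hNone⟩
      mul_mem' := fun {M M'} ⟨k, hk⟩ ⟨k', hk'⟩ => ⟨k * k', hNmul k k' M M' hk hk'⟩
      inv_mem' := fun {M} ⟨k, hk⟩ => ⟨k⁻¹, hNinv k M hk⟩ }
  let kk : R → K := fun r => r.2.choose
  have hkk : ∀ r : R, Norm (kk r) r := fun r => r.2.choose_spec
  let φ : R →* K :=
    { toFun := kk
      map_one' := huniq _ _ _ (hkk 1) hNone
      map_mul' := fun r r' => huniq _ _ _ (hkk (r * r')) (hNmul _ _ _ _ (hkk r) (hkk r')) }
  have hsurj : Function.Surjective φ := by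
    intro k
    let δ := (beta n).comp (g k) (g k) + beta n
    obtain ⟨f, hf⟩ := exists_refinement δ (fun u => by
      show beta n (g k u) (g k u) + beta n u u = 0
      rw [hgb, self_add])
    obtain ⟨M, hM⟩ := exists_intertwiner (g k) (hginj k) f fun u v => hf u v
    have hM' : Norm k M := fun u => ⟨_, hM 0 u⟩
    exact ⟨⟨M, k, hM'⟩, huniq _ _ _ (hkk _) hM'⟩
  have hqm : qm n ≤ R := by
    rintro _ ⟨c, v, rfl⟩
    exact ⟨1, fun u => ⟨_, by rw [el_conj, hg1]⟩⟩
  have hker : φ.ker = (qm n).subgroupOf R := by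
    ext r
    constructor
    · intro hr
      have hN : Norm 1 (r : GLn n) := (MonoidHom.mem_ker.mp hr) ▸ hkk r
      choose χ hχ using hN
      simp only [hg1] at hχ
      -- the signs form a linear form, given by some vector
      have hadd : ∀ u v, χ (u + v) = χ u + χ v := by
        intro u v
        have h1 : (r : GLn n) * (el 0 u * el 0 v) * (r : GLn n)⁻¹ = el (χ u) u * el (χ v) v := by
          rw [← hχ u, ← hχ v]; group
        have h2 : el (beta n u v) (u + v) = el (beta n u v) 0 * el 0 (u + v) := by rw [el_mul]; simp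
        have h3 : (r : GLn n) * (el (beta n u v) 0 * el 0 (u + v)) * (r : GLn n)⁻¹ =
            el (beta n u v) 0 * el (χ (u + v)) (u + v) := by
          rw [← hχ (u + v)]
          nth_rw 2 [← hcen (r : GLn n) (beta n u v)]
          group
        rw [el_mul, zero_add, zero_add, h2, h3, el_mul, el_mul] at h1
        have h4 := (el_injective h1).1
        simp only [map_zero, LinearMap.zero_apply, add_zero] at h4
        linear_combination h4
      let L : Vec n →ₗ[ZMod 2] ZMod 2 := AddMonoidHom.toZModLinearMap 2 (AddMonoidHom.mk' χ hadd)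
      let P : Vec n →ₗ[ZMod 2] Module.Dual (ZMod 2) (Vec n) := beta n + (beta n).flip
      have hP : Function.Injective P := by
        rw [injective_iff_map_eq_zero]
        intro w hw
        exact polar_eq_zero fun v => LinearMap.congr_fun hw v
      have hPs : Function.Surjective P :=
        (LinearMap.injective_iff_surjective_of_finrank_eq_finrank Subspace.dual_finrank_eq.symm).mp hP
      obtain ⟨w, hw⟩ := hPs L
      have hcomm : ∀ u f, ((el 0 w)⁻¹ * (r : GLn n)).toLinearMap (el 0 u f) =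
          el 0 u (((el 0 w)⁻¹ * (r : GLn n)).toLinearMap f) := by
        intro u f
        have hb : beta n w u + beta n u w = χ u := LinearMap.congr_fun hw u
        have h1 : (el 0 w)⁻¹ * (r : GLn n) * el 0 u = el 0 u * ((el 0 w)⁻¹ * (r : GLn n)) := by
          calc (el 0 w)⁻¹ * (r : GLn n) * el 0 u
              = (el 0 w)⁻¹ * ((r : GLn n) * el 0 u * (r : GLn n)⁻¹) * (r : GLn n) := by group
            _ = (el 0 w)⁻¹ * (el 0 w * el 0 u * (el 0 w)⁻¹) * (r : GLn n) := by
                rw [hχ, el_conj, hb, zero_add]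
            _ = _ := by group
        exact LinearEquiv.congr_fun h1 f
      obtain ⟨a, ha⟩ := scalar_of_commute _ hcomm
      have ha0 : a ≠ 0 := by
        intro h0
        have h1 := ha (fun _ => 1)
        rw [h0, zero_smul] at h1
        have h2 : (fun _ => (1 : ZMod 3)) = (0 : Spc n) :=
          ((el 0 w)⁻¹ * (r : GLn n)).injective (h1.trans (map_zero _).symm)
        exact one_ne_zero (congrFun h2 0)
      obtain ⟨c, rfl⟩ := zmod_three_cases a ha0
      rw [Subgroup.mem_subgroupOf]
      have h5 : (el 0 w)⁻¹ * (r : GLn n) = el c 0 := LinearEquiv.ext fun f => by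
        rw [el_one_zero_apply]; exact ha f
      rw [inv_mul_eq_iff_eq_mul] at h5
      rw [h5]
      exact mul_mem (el_mem _ _) (el_mem _ _)
    · intro hr
      obtain ⟨c, v, hcv⟩ := Subgroup.mem_subgroupOf.mp hr
      have h1 : Norm 1 (r : GLn n) := fun u => ⟨_, by rw [hcv, el_conj, hg1]⟩
      exact huniq _ _ _ (hkk r) h1
  let Q : Subgroup R := φ.ker
  let e : R ⧸ Q ≃* K := QuotientGroup.quotientKerEquivOfSurjective φ hsurj
  let ι : Q ≃* qm n :=
    (MulEquiv.subgroupCongr hker).trans (Subgroup.subgroupOfEquivOfLe hqm)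
  let Ψ : Multiplicative (Vec n) ≃* Multiplicative U := AddEquiv.toMultiplicative Φ.toAddEquiv
  let χ : Q →* Multiplicative U := (Ψ.toMonoidHom.comp (proj n)).comp ι.toMonoidHom
  have hιval : ∀ a : Q, ((ι a : qm n) : GLn n) = ((a : R) : GLn n) := fun a => rfl
  have hχ : ∀ (a : Q) c u, ((a : R) : GLn n) = el c u → χ a = Multiplicative.ofAdd (Φ u) := by
    intro a c u h
    have : ι a = elQ c u := Subtype.ext h
    show Ψ (proj n (ι a)) = _
    rw [this, proj_elQ]
    rfl
  have hΨ : χ.ker = Subgroup.center Q := by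
    ext a
    have h1 : a ∈ χ.ker ↔ ι a ∈ Subgroup.center (qm n) := by
      rw [center_eq_ker, MonoidHom.mem_ker, MonoidHom.mem_ker]
      show Ψ (proj n (ι a)) = 1 ↔ _
      exact MulEquiv.map_eq_one_iff Ψ
    rw [h1, Subgroup.mem_center_iff, Subgroup.mem_center_iff]
    refine ⟨fun h b => ι.injective (by rw [map_mul, map_mul, h]), fun h b => ?_⟩
    obtain ⟨b, rfl⟩ := ι.surjective b
    rw [← map_mul, ← map_mul, h]
  refine ⟨R, inferInstance, inferInstance, Q, inferInstance, e, χ, ?_, ?_, ?_, hΨ, ?_, ?_⟩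
  · have h1 := isExtraspecial_qm hn1
    obtain ⟨⟨hp, hF, hC⟩, hcard⟩ := h1
    have hcen : (Subgroup.center Q).map ι.toMonoidHom = Subgroup.center (qm n) := by
      rw [← hΨ]
      ext b
      obtain ⟨b, rfl⟩ := ι.surjective b
      rw [center_eq_ker, MonoidHom.mem_ker]
      refine ⟨fun ⟨a, ha, hab⟩ => ?_, fun h => ⟨b, ?_, rfl⟩⟩
      · rw [← ι.injective hab]
        exact (MulEquiv.map_eq_one_iff Ψ).mp ha
      · show Ψ (proj n (ι b)) = 1
        rw [h, map_one]
    refine ⟨⟨hp.of_equiv ι.symm, ?_, ?_⟩, ?_⟩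
    · refine Subgroup.map_injective (f := ι.toMonoidHom) ι.injective ?_
      rw [hcen, ← hF]
      refine le_antisymm (Subgroup.map_le_iff_le_comap.2
        (frattini_le_comap_frattini_of_surjective (φ := ι.toMonoidHom) ι.surjective)) fun y hy => ?_
      exact ⟨ι.symm y, frattini_le_comap_frattini_of_surjective (φ := ι.symm.toMonoidHom)
        ι.symm.surjective hy, ι.apply_symm_apply y⟩
    · refine Subgroup.map_injective (f := ι.toMonoidHom) ι.injective ?_
      rw [hcen, ← hC, commutator_def, commutator_def, Subgroup.map_commutator,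
        Subgroup.map_top_of_surjective ι.toMonoidHom ι.surjective]
    · rw [← hcard, ← hcen, Subgroup.card_map_of_injective ι.injective]
  · rw [Nat.card_congr ι.toEquiv, card_qm]
  · exact (Ψ.surjective.comp proj_surjective).comp ι.surjective
  · intro r a
    obtain ⟨c, u, hcu⟩ := exists_elQ (ι a)
    have hau : ((a : R) : GLn n) = el c u := congrArg Subtype.val hcu
    obtain ⟨d, hd⟩ := hext _ _ (hkk r) c u
    have hconj : (((⟨r * a * r⁻¹, (inferInstance : Q.Normal).conj_mem (a : R) a.2 r⟩ : Q) : R) :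
        GLn n) = el d (g (kk r) u) := by
      rw [← hd, ← hau]; rfl
    rw [hχ _ _ _ hconj, hχ a c u hau]
    show _ = Multiplicative.ofAdd (ρ (φ r) (Φ u))
    simp [g, φ]
  · intro a
    obtain ⟨c, u, hcu⟩ := exists_elQ (ι a)
    have hau : ((a : R) : GLn n) = el c u := congrArg Subtype.val hcu
    rw [hχ a c u hau, toAdd_ofAdd, hΦ, ← elQ_sq_iff c u, ← hcu, ← map_mul]
    exact (MulEquiv.map_eq_one_iff ι).symm

end Cfsg.Agent.S3084
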