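import Cfsg.Statements.S3085
import Cfsg.Agent.Lib.LocalEven2.PlusAut

set_option autoImplicit false
open Cfsg

namespace Cfsg.Agent.S3085

/-- Let Q be an extraspecial 2-group of order 2^(2n+1) with n ≥ 3 that is of plus type (it contains an elementary abelian subgroup of order 2^(n+1)). Then the group of inner automorphisms of Q has no complement in the full automorphism group of Q: the extension of the inner automorphism group (elementary abelian of order 2^(2n)) by the outer automorphism group (the orthogonal group of plus type) does not split. -/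
theorem result {Q : Type*} [Group Q] [Finite Q] (n : ℕ) (hn : 3 ≤ n) (hQ : Cfsg.IsExtraspecial 2 Q) (hcard : Nat.card Q = 2 ^ (2 * n + 1)) (hplus : ∃ E : Subgroup Q, Cfsg.IsElementaryAbelian 2 E ∧ Nat.card ↥E = 2 ^ (n + 1)) (L : Subgroup (MulAut Q)) : ¬ (Cfsg.Inn Q).IsComplement' L := by
  intro hL
  obtain ⟨e⟩ := Lib.LocalEven2.PlusModel.exists_model_equiv hQ hcard hplus
  have hconj : ∀ a, MulAut.congr e (MulAut.conj a) = MulAut.conj (e a) := fun a =>
    MulEquiv.ext fun x => by simp [MulAut.congr]
  have hinn : (Cfsg.Inn Q).comap (MulAut.congr e).toMonoidHom =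
      (MulAut.conj : ↥(Lib.LocalEven2.PlusModel.qm n) →* _).range := by
    ext τ
    constructor
    · rintro ⟨a, ha⟩
      refine ⟨e.symm a, (MulAut.congr e).injective ?_⟩
      rw [hconj, e.apply_symm_apply, ha]
      rfl
    · rintro ⟨a, rfl⟩
      exact ⟨e a, (hconj a).symm⟩
  apply Lib.LocalEven2.PlusModel.not_complement hn (L.comap (MulAut.congr e).toMonoidHom)
  rw [← hinn]
  refine Subgroup.isComplement'_of_disjoint_and_mul_eq_univ ?_ ?_
  · rw [Subgroup.disjoint_def]
    exact fun {x} hx hy => (MulAut.congr e).injective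
      ((Subgroup.disjoint_def.mp hL.disjoint hx hy).trans (map_one _).symm)
  · refine Set.eq_univ_of_forall fun τ => ?_
    obtain ⟨⟨⟨i, hi⟩, ⟨l, hl⟩⟩, hil, -⟩ := hL.existsUnique (MulAut.congr e τ)
    refine ⟨(MulAut.congr e).symm i, Subgroup.mem_comap.mpr ((MulEquiv.apply_symm_apply (MulAut.congr e) i).symm ▸ hi), (MulAut.congr e).symm l, Subgroup.mem_comap.mpr ((MulEquiv.apply_symm_apply (MulAut.congr e) l).symm ▸ hl), ?_⟩
    show (MulAut.congr e).symm i * (MulAut.congr e).symm l = τ
    rw [← map_mul, show i * l = MulAut.congr e τ from hil, MulEquiv.symm_apply_apply]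

end Cfsg.Agent.S3085
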