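import Cfsg.Statements.S3086
import Cfsg.Agent.Lib.LocalEven2.PGVMain
import Cfsg.Agent.Lib.Components.Basic
import Cfsg.Agent.Lib.FusionControl.Basic

set_option autoImplicit false
open Cfsg

namespace Cfsg.Agent.S3086

open Cfsg.Agent.Lib.LocalEven2.PGV

/-- The P(G,V)-theorem. Let p be a prime, G a finite group acting faithfully and linearly on a finite vector space V over the field with p elements, and A a nontrivial elementary abelian p-subgroup of G such that |A|·|C_V(A)| ≥ |B|·|C_V(B)| for every subgroup B of A. Then A normalizes every component (subnormal quasisimple subgroup) of G. -/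
theorem result {G V : Type*} [Group G] [Finite G] [AddCommGroup V] [Finite V] (p : ℕ) [Fact p.Prime] [Module (ZMod p) V]
    (ρ : Representation (ZMod p) G V) (hρ : Function.Injective ρ)
    (A : Subgroup G) (hA : A ≠ ⊥) (hAel : Cfsg.IsElementaryAbelian p A)
    (hP : ∀ B : Subgroup G, B ≤ A →
      Nat.card ↥B * Nat.card {v : V // ∀ b ∈ B, ρ b v = v} ≤ Nat.card ↥A * Nat.card {v : V // ∀ a ∈ A, ρ a v = v}) :
    ∀ K : Subgroup G, Cfsg.IsComponent K → A ≤ Subgroup.normalizer (K : Set G) := by
  classical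
  intro K hK
  have hcom : IsMulCommutative ↥A := hAel.1
  have hab : ∀ a ∈ A, ∀ c ∈ A, Commute a c := fun a ha c hc =>
    congrArg Subtype.val (mul_comm' (⟨a, ha⟩ : ↥A) ⟨c, hc⟩)
  have hmax0 : ∀ B ≤ A, wt ρ B ≤ wt ρ A := fun B hB => hP B hB
  set C := A ⊓ Subgroup.centralizer (K : Set G) with hC
  have hCA : C ≤ A := inf_le_left
  set G' := Subgroup.centralizer (C : Set G) with hG'
  have hAG : A ≤ G' := fun a ha => Subgroup.mem_centralizer_iff.2 fun c hc => (hab c hc.1 a ha).eq
  have hKG : K ≤ G' := fun x hx => Subgroup.mem_centralizer_iff.2 fun c hc =>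
    (Subgroup.mem_centralizer_iff.1 hc.2 x hx).symm
  have hCK : ∀ c ∈ C, ∀ x ∈ K, Commute c x := fun c hc x hx =>
    (Subgroup.mem_centralizer_iff.1 hc.2 x hx).symm
  -- the subrepresentation
  set V' : Submodule (ZMod p) V := fix ρ C with hV'
  have hinv : ∀ g : ↥G', ∀ v ∈ V', ρ (g : G) v ∈ V' := fun g v hv c hc => by
    rw [← Module.End.mul_apply, ← map_mul, Subgroup.mem_centralizer_iff.1 g.2 c hc, map_mul,
      Module.End.mul_apply, hv c hc]
  let ρ' : ↥G' →* Module.End (ZMod p) ↥V' :=
    { toFun := fun g => (ρ (g : G)).restrict (hinv g)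
      map_one' := LinearMap.ext fun v => Subtype.ext (by simp)
      map_mul' := fun g g' => LinearMap.ext fun v => Subtype.ext (by
        simp [LinearMap.restrict_apply, Module.End.mul_apply]) }
  have hρ' : ∀ (g : ↥G') (v : ↥V'), ((ρ' g v : ↥V') : V) = ρ (g : G) v := fun g v => rfl
  -- `K` acts nontrivially on the fixed points of `C`
  have hnt : ∃ x ∈ K, ∃ v ∈ V', ρ x v ≠ v := by
    by_contra hcon
    push Not at hcon
    have hKW : fix ρ K ≠ ⊤ := by
      intro htop
      apply Cfsg.Agent.Lib.Components.IsComponent.ne_bot hK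
      rw [Subgroup.eq_bot_iff_forall]
      intro x hx
      refine hρ (LinearMap.ext fun v => ?_)
      rw [map_one, Module.End.one_apply]
      exact (htop.ge (Submodule.mem_top : v ∈ ⊤)) x hx
    obtain ⟨v, hv⟩ : ∃ v, v ∉ fix ρ K := by
      by_contra hall
      push Not at hall
      exact hKW (eq_top_iff.2 fun v _ => hall v)
    haveI := Fintype.ofFinite ↥C
    obtain ⟨v', hv', -, hv'C⟩ := exists_top_vec (fun c : ↥C => q ρ (c : G))
      (fun c d => commute_q (hab _ (hCA c.2) _ (hCA d.2)))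
      (fun c => q_pow_eq_zero (hAel.2 _ (hCA c.2))) (fix ρ K)
      (fun c w hw x hx => by
        have hcw : q ρ x * q ρ (c : G) = q ρ (c : G) * q ρ x := (commute_q (hCK c c.2 x hx)).eq.symm
        rw [← sub_eq_zero, ← q_apply, ← Module.End.mul_apply, hcw, Module.End.mul_apply, q_apply ρ x,
          hw x hx, sub_self, map_zero])
      (fun _ => True) (fun _ _ _ => trivial) Finset.univ hv trivial
    apply hv'
    intro x hx
    have hmem : ∀ y ∈ K, q ρ y v' ∈ V' := fun y hy c hc => by
      rw [← sub_eq_zero, ← q_apply, ← Module.End.mul_apply, (commute_q (hCK c hc y hy)).eq,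
        Module.End.mul_apply, q_apply ρ y (q ρ c v'), hv'C ⟨c, hc⟩ (Finset.mem_univ _) y hy, sub_self]
    have h1 := add_trivial hK.2 (fun y => q ρ y v') (fun y hy z hz => by
      rw [q_mul, LinearMap.add_apply, LinearMap.add_apply, Module.End.mul_apply, q_apply ρ y (q ρ z v'),
        hcon y hy _ (hmem z hz), sub_self, zero_add]) x hx
    exact sub_eq_zero.1 h1
  -- transport the hypotheses
  have hN : ∀ g : ↥G', (g : G) ∈ Subgroup.normalizer (K : Set G) →
      g ∈ Subgroup.normalizer (K.subgroupOf G' : Set ↥G') := by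
    intro g hg
    rw [Subgroup.mem_normalizer_iff] at hg ⊢
    intro x
    simp only [Subgroup.mem_subgroupOf, Subgroup.coe_mul, Subgroup.coe_inv]
    exact hg x
  have hh : Hyp ρ' (K.subgroupOf G') (A.subgroupOf G') := by
    refine ⟨Cfsg.Agent.Lib.Components.IsQuasisimple.of_mulEquiv
      (Subgroup.subgroupOfEquivOfLe hKG).symm hK.2, fun a ha => Subtype.ext ?_,
      fun a ha c hc => Subtype.ext (hab _ ha _ hc).eq, ?_, ?_, ?_, ?_⟩
    · rw [SubmonoidClass.coe_pow, OneMemClass.coe_one]; exact hAel.2 _ ha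
    · intro g hg hgN x hx y hy
      have hgN' : (g : G) ∉ Subgroup.normalizer (K : Set G) := fun h0 => hgN (hN g h0)
      have hne : K.map (MulAut.conj (g : G)).toMonoidHom ≠ K := fun h0 =>
        hgN' (Cfsg.Agent.Lib.Components.mem_normalizer_iff_map_conj.2 h0)
      have h0 := Cfsg.Agent.Lib.Components.IsComponent.commutator_eq_bot_of_ne
        (Cfsg.Agent.Lib.Components.IsComponent.map_conj hK (g : G)) hK hne
      refine Subtype.ext ?_
      exact (Cfsg.Agent.Lib.Components.commute_of_commutator_eq_bot h0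
        (⟨(x : G), hx, rfl⟩ : (g : G) * x * (g : G)⁻¹ ∈ K.map (MulAut.conj (g : G)).toMonoidHom) hy).symm
    · obtain ⟨x, hx, v, hv, hne⟩ := hnt
      refine ⟨⟨x, hKG hx⟩, hx, fun h0 => hne ?_⟩
      have h1 := congrArg (fun f : Module.End (ZMod p) ↥V' => ((f ⟨v, hv⟩ : ↥V') : V)) h0
      exact h1
    · intro a ha hcen
      refine LinearMap.ext fun v => Subtype.ext ?_
      have haC : (a : G) ∈ C := ⟨ha, Subgroup.mem_centralizer_iff.2 fun x hx =>
        (congrArg Subtype.val (hcen ⟨x, hKG hx⟩ hx).eq).symm⟩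
      exact v.2 _ haC
    · intro B hB
      set B₀ := B.map G'.subtype with hB₀
      have hB₀A : B₀ ≤ A := by
        rintro _ ⟨b, hb, rfl⟩; exact hB hb
      have e1 : Nat.card ↥B ≤ Nat.card ↥(B₀ ⊔ C) := by
        rw [← Subgroup.card_map_of_injective (K := B) (f := G'.subtype) G'.subtype_injective, ← hB₀]
        exact Subgroup.card_le_of_le le_sup_left
      have e2 : Nat.card ↥(fix ρ' B) = Nat.card ↥(fix ρ (B₀ ⊔ C)) := by
        refine Nat.card_congr
          { toFun := fun v => ⟨(v.1 : V), ?_⟩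
            invFun := fun v => ⟨⟨v.1, fix_anti le_sup_right v.2⟩, ?_⟩
            left_inv := fun _ => rfl
            right_inv := fun _ => rfl }
        · rw [← fix_inf_fix]
          exact ⟨by rintro _ ⟨b, hb, rfl⟩; exact congrArg Subtype.val (v.2 b hb), v.1.2⟩
        · intro b hb
          exact Subtype.ext (v.2 _ (Subgroup.mem_sup_left ⟨b, hb, rfl⟩))
      have e3 : Nat.card ↥(A.subgroupOf G') = Nat.card ↥A :=
        Nat.card_congr (Subgroup.subgroupOfEquivOfLe hAG).toEquiv
      have e4 : Nat.card ↥(fix ρ' (A.subgroupOf G')) = Nat.card ↥(fix ρ A) := by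
        refine Nat.card_congr
          { toFun := fun v => ⟨(v.1 : V), fun a ha => congrArg Subtype.val (v.2 ⟨a, hAG ha⟩ ha)⟩
            invFun := fun v => ⟨⟨v.1, fix_anti hCA v.2⟩, fun b hb => Subtype.ext (v.2 (b : G) hb)⟩
            left_inv := fun _ => rfl
            right_inv := fun _ => rfl }
      calc Nat.card ↥B * Nat.card ↥(fix ρ' B) ≤ wt ρ (B₀ ⊔ C) := by
            rw [e2]; exact Nat.mul_le_mul_right _ e1
        _ ≤ wt ρ A := hmax0 _ (sup_le hB₀A hCA)
        _ = _ := by rw [wt, wt, e3, e4]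
  intro a ha
  have h1 := hh.normalizes (show (⟨a, hAG ha⟩ : ↥G') ∈ A.subgroupOf G' from ha)
  rw [Subgroup.mem_normalizer_iff] at h1
  refine Cfsg.Agent.Lib.FusionControl.mem_normalizer_of_cj_le ?_
  rintro _ ⟨x, hx, rfl⟩
  exact (h1 ⟨x, hKG hx⟩).1 hx

end Cfsg.Agent.S3086
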