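import Cfsg.Statements.S3087

set_option autoImplicit false
open Cfsg

namespace Cfsg.Agent.S3087

/-- Let p be a prime, G a finite group acting linearly on a finite vector space V over the field with p elements, W a G-invariant subspace, and A a subgroup of G with |A|·|C_V(A)| ≥ |B|·|C_V(B)| for every subgroup B of A. Then |A|·|C_W(A)| ≥ |B|·|C_W(B)| for every subgroup B of A that contains C_A(W); that is, the image of A in the group induced on W satisfies the same maximality condition. -/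
theorem result {G V : Type*} [Group G] [Finite G] [AddCommGroup V] [Finite V] (p : ℕ) [Fact p.Prime] [Module (ZMod p) V]
    (ρ : Representation (ZMod p) G V) (W : Submodule (ZMod p) V) (hW : ∀ g : G, ∀ w ∈ W, ρ g w ∈ W)
    (A : Subgroup G)
    (hP : ∀ B : Subgroup G, B ≤ A →
      Nat.card ↥B * Nat.card {v : V // ∀ b ∈ B, ρ b v = v} ≤ Nat.card ↥A * Nat.card {v : V // ∀ a ∈ A, ρ a v = v})
    (B : Subgroup G) (hBA : B ≤ A) (hCB : ∀ a ∈ A, (∀ w ∈ W, ρ a w = w) → a ∈ B) :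
    Nat.card ↥B * Nat.card {w : W // ∀ b ∈ B, ρ b w = w} ≤ Nat.card ↥A * Nat.card {w : W // ∀ a ∈ A, ρ a w = w} := by
  classical
  let fB : AddSubgroup V :=
    { carrier := {v | ∀ b ∈ B, ρ b v = v}
      zero_mem' := fun b _ => map_zero _
      add_mem' := fun {x y} hx hy b hb => by rw [map_add, hx b hb, hy b hb]
      neg_mem' := fun {x} hx b hb => by rw [map_neg, hx b hb] }
  let wA : AddSubgroup V :=
    { carrier := {v | v ∈ W ∧ ∀ a ∈ A, ρ a v = v}
      zero_mem' := ⟨W.zero_mem, fun a _ => map_zero _⟩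
      add_mem' := fun {x y} hx hy => ⟨W.add_mem hx.1 hy.1, fun a ha => by
        rw [map_add, hx.2 a ha, hy.2 a ha]⟩
      neg_mem' := fun {x} hx => ⟨W.neg_mem hx.1, fun a ha => by rw [map_neg, hx.2 a ha]⟩ }
  let fA : AddSubgroup V :=
    { carrier := {v | ∀ a ∈ A, ρ a v = v}
      zero_mem' := fun b _ => map_zero _
      add_mem' := fun {x y} hx hy b hb => by rw [map_add, hx b hb, hy b hb]
      neg_mem' := fun {x} hx b hb => by rw [map_neg, hx b hb] }
  let wB : AddSubgroup V :=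
    { carrier := {v | v ∈ W ∧ ∀ b ∈ B, ρ b v = v}
      zero_mem' := ⟨W.zero_mem, fun a _ => map_zero _⟩
      add_mem' := fun {x y} hx hy => ⟨W.add_mem hx.1 hy.1, fun a ha => by
        rw [map_add, hx.2 a ha, hy.2 a ha]⟩
      neg_mem' := fun {x} hx => ⟨W.neg_mem hx.1, fun a ha => by rw [map_neg, hx.2 a ha]⟩ }
  have hkey : Nat.card ↥wB * Nat.card ↥fA ≤ Nat.card ↥wA * Nat.card ↥fB := by
    let f : ↥wB × ↥fA →+ ↥fB :=
      { toFun := fun x => ⟨(x.1 : V) - x.2, fun b hb => by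
          rw [map_sub, x.1.2.2 b hb, x.2.2 b (hBA hb)]⟩
        map_zero' := Subtype.ext (by simp)
        map_add' := fun x y => Subtype.ext (by simp [sub_add_sub_comm]) }
    have h1 := AddSubgroup.card_eq_card_quotient_mul_card_addSubgroup f.ker
    rw [Nat.card_prod, Nat.card_congr (QuotientAddGroup.quotientKerEquivRange f).toEquiv] at h1
    rw [h1, mul_comm (Nat.card ↥wA)]
    refine Nat.mul_le_mul (Nat.card_le_card_of_injective _ Subtype.val_injective) ?_
    refine Nat.card_le_card_of_injective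
      (fun x : f.ker => (⟨(x.1.2 : V), ?_, x.1.2.2⟩ : ↥wA)) ?_
    · have h2 : ((x.1.1 : V)) - x.1.2 = 0 := congrArg Subtype.val x.2
      rw [← sub_eq_zero.mp h2]
      exact x.1.1.2.1
    · intro x y hxy
      have h2 : (x.1.2 : V) = y.1.2 := congrArg (fun z : ↥wA => (z : V)) hxy
      have hx : ((x.1.1 : V)) - x.1.2 = 0 := congrArg Subtype.val x.2
      have hy : ((y.1.1 : V)) - y.1.2 = 0 := congrArg Subtype.val y.2
      refine Subtype.ext (Prod.ext (Subtype.ext ?_) (Subtype.ext h2))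
      rw [sub_eq_zero.mp hx, sub_eq_zero.mp hy, h2]
  have hwB : Nat.card {w : W // ∀ b ∈ B, ρ b w = w} = Nat.card ↥wB :=
    Nat.card_congr ⟨fun w => ⟨w.1.1, w.1.2, w.2⟩, fun v => ⟨⟨v.1, v.2.1⟩, v.2.2⟩,
      fun _ => rfl, fun _ => rfl⟩
  have hwA : Nat.card {w : W // ∀ a ∈ A, ρ a w = w} = Nat.card ↥wA :=
    Nat.card_congr ⟨fun w => ⟨w.1.1, w.1.2, w.2⟩, fun v => ⟨⟨v.1, v.2.1⟩, v.2.2⟩,
      fun _ => rfl, fun _ => rfl⟩
  rw [hwB, hwA]
  have h1 : Nat.card ↥B * Nat.card ↥fB ≤ Nat.card ↥A * Nat.card ↥fA := hP B hBA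
  refine Nat.le_of_mul_le_mul_right (c := Nat.card ↥fA) ?_ Nat.card_pos
  calc Nat.card ↥B * Nat.card ↥wB * Nat.card ↥fA
      = Nat.card ↥B * (Nat.card ↥wB * Nat.card ↥fA) := mul_assoc _ _ _
    _ ≤ Nat.card ↥B * (Nat.card ↥wA * Nat.card ↥fB) := Nat.mul_le_mul_left _ hkey
    _ = (Nat.card ↥B * Nat.card ↥fB) * Nat.card ↥wA := by ring
    _ ≤ (Nat.card ↥A * Nat.card ↥fA) * Nat.card ↥wA := Nat.mul_le_mul_right _ h1
    _ = Nat.card ↥A * Nat.card ↥wA * Nat.card ↥fA := by ring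

end Cfsg.Agent.S3087
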