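import Mathlib
import Cfsg.Statements.S3103
import Cfsg.Agent.Lib.QuadFin.GLFourTwo
import Cfsg.Agent.Lib.Components.Constrained
import Cfsg.Agent.Lib.Cores.Frattini
import Cfsg.Agent.Lib.Coprime.Action

set_option autoImplicit false
open Cfsg

namespace Cfsg.Agent.S3103

open Cfsg.Agent.Lib

/-- The automorphisms of an elementary abelian group of order 16 embed in `A₈`. -/
theorem mulAut_to_altEight {U : Type*} [Group U] [Finite U] (hU : ∀ u : U, u ^ 2 = 1)
    (hc : Nat.card U = 16) :
    ∃ f : MulAut U →* ↥(alternatingGroup (Fin 8)), Function.Injective f := by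
  have : Fact (Nat.Prime 2) := ⟨Nat.prime_two⟩
  have hcomm : ∀ a b : U, a * b = b * a := fun a b => by
    have h1 := hU (a * b)
    have h2 := hU a
    have h3 := hU b
    rw [sq] at h1 h2 h3
    calc a * b = (a * b) * ((b * a) * (b * a)) := by
          rw [show (b * a) * (b * a) = (b * a) ^ 2 from (sq _).symm, hU, mul_one]
      _ = a * (b * b) * a * (b * a) := by group
      _ = b * a := by rw [h3, mul_one, h2, one_mul]
  letI : CommGroup U := { (inferInstance : Group U) with mul_comm := hcomm }
  letI : Module (ZMod 2) (Additive U) := AddCommGroup.zmodModule (fun x => by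
    rw [two_nsmul]
    exact Additive.toMul.injective (show x.toMul * x.toMul = 1 by rw [← sq]; exact hU _))
  have hfr : Module.finrank (ZMod 2) (Additive U) = 4 := by
    have h := Module.natCard_eq_pow_finrank (K := ZMod 2) (V := Additive U)
    rw [show Nat.card (Additive U) = 16 from hc, Nat.card_zmod] at h
    exact (Nat.pow_right_injective le_rfl (show 2 ^ 4 = 2 ^ _ from h)).symm
  let b := Module.finBasisOfFinrankEq (ZMod 2) (Additive U) hfr
  let toEnd : MulAut U →* Module.End (ZMod 2) (Additive U) :=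
    { toFun := fun σ => AddMonoidHom.toZModLinearMap 2 (MonoidHom.toAdditive σ.toMonoidHom)
      map_one' := rfl
      map_mul' := fun _ _ => rfl }
  obtain ⟨e⟩ := QuadFin.nonempty_GL4_two (F := ZMod 2) (ZMod.card 2)
  refine ⟨e.toMonoidHom.comp
    ((Units.map (LinearMap.toMatrixAlgEquiv b).toMulEquiv.toMonoidHom).comp toEnd.toHomUnits), ?_⟩
  intro σ τ h
  have h1 := e.injective h
  have h2 : LinearMap.toMatrixAlgEquiv b (toEnd σ) = LinearMap.toMatrixAlgEquiv b (toEnd τ) :=
    congrArg Units.val h1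
  have h' := (LinearMap.toMatrixAlgEquiv b).injective h2
  exact MulEquiv.ext fun x => congrArg Additive.toMul (LinearMap.congr_fun h' (Additive.ofMul x))

/-- Let X be a finite 2-constrained group with no nontrivial normal subgroup of odd order such that O₂(X) has sectional 2-rank at most 4. Then X/O₂(X) is isomorphic to a subgroup of the alternating group of degree 8. -/
theorem result {X : Type*} [Group X] [Finite X] (hc : Cfsg.IsPConstrained 2 X) (hO : Cfsg.oddCore X = ⊥)
    (h4 : Cfsg.SectionalPRankLE 2 4 ↥(Cfsg.pCore 2 X)) :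
    ∃ f : X ⧸ Cfsg.pCore 2 X →* ↥(alternatingGroup (Fin 8)), Function.Injective f := by
  have : Fact (Nat.Prime 2) := ⟨Nat.prime_two⟩
  set Q := pCore 2 X with hQdef
  have hQp : IsPGroup 2 ↥Q := Components.pCore_isPGroup 2
  -- `C(Q) ≤ Q`
  have hl : layer X = ⊥ := by
    have h1 := (Components.pLayer_eq_bot_iff 2).mp ((Components.isPConstrained_iff 2).mp hc)
    have e := Components.map_layer_mulEquiv
      ((QuotientGroup.quotientMulEquivOfEq (show pPrimeCore 2 X = ⊥ from hO)).trans
        (QuotientGroup.quotientBot (G := X)))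
    rw [h1, Subgroup.map_bot] at e
    exact e.symm
  have hC : Subgroup.centralizer (Q : Set X) ≤ Q := by
    have h := Components.centralizer_fitting_le_iff.mpr hl
    rwa [Components.fittingSubgroup_eq_pCore 2 hO] at h
  -- the Frattini quotient
  set Φ := frattini ↥Q with hΦdef
  have hV2 : ∀ u : ↥Q ⧸ Φ, u ^ 2 = 1 := fun u => by
    obtain ⟨x, rfl⟩ := QuotientGroup.mk'_surjective Φ u
    rw [← map_pow, QuotientGroup.mk'_apply, QuotientGroup.eq_one_iff]
    exact Cores.pow_mem_frattini hQp x
  obtain ⟨d, hd⟩ : ∃ d, Nat.card (↥Q ⧸ Φ) = 2 ^ d :=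
    IsPGroup.iff_card.mp (hQp.to_quotient Φ)
  have hd4 : d ≤ 4 := by
    have hN : (Φ.subgroupOf ⊤).Normal := inferInstance
    have h := h4 ⊤ (Φ.subgroupOf ⊤)
    let π : ↥(⊤ : Subgroup ↥Q) ⧸ Φ.subgroupOf ⊤ ≃* ↥Q ⧸ Φ :=
      QuotientGroup.congr _ _ Subgroup.topEquiv (by
        ext x
        constructor
        · rintro ⟨y, hy, rfl⟩
          exact hy
        · intro hx
          exact ⟨⟨x, Subgroup.mem_top x⟩, hx, rfl⟩)
    have hab : IsMulCommutative (⊤ : Subgroup (↥(⊤ : Subgroup ↥Q) ⧸ Φ.subgroupOf ⊤)) := by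
      refine ⟨⟨fun a b => Subtype.ext (π.injective ?_)⟩⟩
      have h1 := hV2 (π a.1 * π b.1)
      have h2 := hV2 (π a.1)
      have h3 := hV2 (π b.1)
      rw [sq] at h1 h2 h3
      show π (a.1 * b.1) = π (b.1 * a.1)
      rw [map_mul, map_mul]
      calc π a.1 * π b.1 = (π a.1 * π b.1) * ((π b.1 * π a.1) * (π b.1 * π a.1)) := by
            rw [show (π b.1 * π a.1) * (π b.1 * π a.1) = (π b.1 * π a.1) ^ 2 from (sq _).symm, hV2, mul_one]
        _ = π a.1 * (π b.1 * π b.1) * π a.1 * (π b.1 * π a.1) := by group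
        _ = π b.1 * π a.1 := by rw [h3, mul_one, h2, one_mul]
    have h' := h ⊤ hab (fun a _ => π.injective (by rw [map_pow, map_one]; exact hV2 _))
    rw [Subgroup.card_top, Nat.card_congr π.toEquiv, hd] at h'
    exact (Nat.pow_le_pow_iff_right (by norm_num)).mp h'
  -- the action on the Frattini quotient
  have hinv : ∀ g : X, Φ.map (MulAut.conjNormal g : MulAut ↥Q).toMonoidHom = Φ := fun g =>
    (Subgroup.characteristic_iff_map_eq.mp inferInstance) _
  let ρ : X →* MulAut (↥Q ⧸ Φ) :=
    { toFun := fun g => QuotientGroup.congr Φ Φ (MulAut.conjNormal g) (hinv g)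
      map_one' := MulEquiv.ext fun u => by
        obtain ⟨x, rfl⟩ := QuotientGroup.mk'_surjective Φ u
        simp
      map_mul' := fun g h => MulEquiv.ext fun u => by
        obtain ⟨x, rfl⟩ := QuotientGroup.mk'_surjective Φ u
        show QuotientGroup.mk' Φ (MulAut.conjNormal (g * h) x) =
          QuotientGroup.mk' Φ (MulAut.conjNormal g (MulAut.conjNormal h x))
        rw [map_mul, MulAut.mul_apply] }
  have hρ : ∀ (g : X) (x : ↥Q), ρ g (QuotientGroup.mk' Φ x) =
      QuotientGroup.mk' Φ (MulAut.conjNormal g x) := fun g x => rfl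
  have hker : ρ.ker = Q := by
    apply le_antisymm
    · refine Components.le_pCore inferInstance ?_
      intro g
      set m := orderOf (g : X) with hm
      obtain ⟨k, r, hr, hkr⟩ := Nat.exists_eq_pow_mul_and_not_dvd (orderOf_pos (g : X)).ne' 2
        (by norm_num)
      refine ⟨k, ?_⟩
      apply Subtype.ext
      set a := (g : X) ^ 2 ^ k with ha
      have hao : Odd (orderOf a) := by
        rw [ha, orderOf_pow' _ (by positivity), hkr, Nat.gcd_eq_right (Dvd.intro r rfl),
          Nat.mul_div_cancel_left _ (by positivity)]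
        exact Nat.odd_iff.mpr (by omega)
      have hak : a ∈ ρ.ker := pow_mem g.2 _
      have hcent : Subgroup.zpowers a ≤ Subgroup.centralizer (Q : Set X) := by
        refine Coprime.le_centralizer_of_frattini ?_ ?_
        · rw [Nat.card_zpowers]
          obtain ⟨j, hj⟩ := IsPGroup.iff_card.mp (hQp.to_subgroup (frattini ↥Q))
          rw [hj]
          exact (Nat.coprime_two_right.mpr hao).pow_right j
        · intro b hb x hx
          have hbk : b ∈ ρ.ker := (Subgroup.zpowers_le.mpr hak) hb
          have h1 := DFunLike.congr_fun (MonoidHom.mem_ker.mp hbk) (QuotientGroup.mk' Φ ⟨x, hx⟩)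
          rw [hρ, MulAut.one_apply, QuotientGroup.mk'_apply, QuotientGroup.mk'_apply,
            QuotientGroup.eq] at h1
          have h2 := Φ.inv_mem h1
          have hn : Φ.Normal := inferInstance
          have h3 := hn.conj_mem _ h2 ⟨x, hx⟩
          refine ⟨_, h3, ?_⟩
          simp [mul_assoc]
      have haQ : a ∈ Q := hC (hcent (Subgroup.mem_zpowers a))
      obtain ⟨j, hj⟩ := hQp ⟨a, haQ⟩
      have hj' : a ^ 2 ^ j = 1 := congrArg Subtype.val hj
      show a = 1
      rw [← orderOf_eq_one_iff]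
      have h2 := Nat.dvd_gcd (dvd_refl (orderOf a)) (orderOf_dvd_of_pow_eq_one hj')
      rwa [Nat.Coprime.gcd_eq_one ((Nat.coprime_two_right.mpr hao).pow_right j), Nat.dvd_one] at h2
    · intro g hg
      rw [MonoidHom.mem_ker]
      refine MulEquiv.ext fun u => ?_
      obtain ⟨x, rfl⟩ := QuotientGroup.mk'_surjective Φ u
      rw [hρ, MulAut.one_apply]
      have e : MulAut.conjNormal g x = (⟨g, hg⟩ : ↥Q) * x * (⟨g, hg⟩ : ↥Q)⁻¹ := Subtype.ext (by simp)
      rw [e, map_mul, map_mul, map_inv]
      generalize QuotientGroup.mk' Φ ⟨g, hg⟩ = a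
      generalize QuotientGroup.mk' Φ x = c
      have h1 := hV2 (a * c)
      have h2 := hV2 a
      have h3 := hV2 c
      rw [sq] at h1 h2 h3
      rw [inv_eq_of_mul_eq_one_right h2]
      calc a * c * a = (a * c * (a * c)) * c⁻¹ := by group
        _ = c := by rw [h1, one_mul, inv_eq_of_mul_eq_one_right h3]
  -- pad to order 16
  let W := Multiplicative (Fin (4 - d) → ZMod 2)
  obtain ⟨F, hF⟩ := mulAut_to_altEight (U := (↥Q ⧸ Φ) × W) (fun u => by
    refine Prod.ext (hV2 u.1) ?_
    show u.2 ^ 2 = 1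
    have key : ∀ y : Fin (4 - d) → ZMod 2, y + y = 0 := fun y => funext fun i => CharTwo.add_self_eq_zero _
    rw [sq]
    exact Multiplicative.toAdd.injective (key _)) (by
    rw [Nat.card_prod, hd, Nat.card_eq_fintype_card (α := W), Fintype.card_multiplicative,
      Fintype.card_fun, ZMod.card, Fintype.card_fin, ← pow_add, Nat.add_sub_cancel' hd4]
    rfl)
  let pad : MulAut (↥Q ⧸ Φ) →* MulAut ((↥Q ⧸ Φ) × W) :=
    { toFun := fun σ => σ.prodCongr (MulEquiv.refl W)
      map_one' := rfl
      map_mul' := fun _ _ => rfl }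
  have hpad : Function.Injective pad := fun σ τ h => MulEquiv.ext fun u =>
    congrArg Prod.fst (DFunLike.congr_fun h (u, (1 : W)))
  refine ⟨QuotientGroup.lift Q (F.comp (pad.comp ρ)) ?_, ?_⟩
  · intro g hg
    rw [MonoidHom.mem_ker, MonoidHom.comp_apply, MonoidHom.comp_apply,
      MonoidHom.mem_ker.mp (hker.ge hg), map_one, map_one]
  · rw [← MonoidHom.ker_eq_bot_iff, eq_bot_iff]
    intro u hu
    obtain ⟨g, rfl⟩ := QuotientGroup.mk'_surjective Q u
    rw [MonoidHom.mem_ker, QuotientGroup.mk'_apply, QuotientGroup.lift_mk] at hu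
    rw [Subgroup.mem_bot, QuotientGroup.mk'_apply, QuotientGroup.eq_one_iff, ← hker,
      MonoidHom.mem_ker]
    exact hpad ((hF (hu.trans (map_one F).symm)).trans (map_one pad).symm)

end Cfsg.Agent.S3103
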