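import Cfsg.Statements.S3104
import Cfsg.Agent.S3103
import Cfsg.Agent.S2553
import Cfsg.Agent.Lib.SectionalFour.AltEight
import Cfsg.Agent.Lib.SectionalFour.OddNormal
import Cfsg.Agent.Lib.SectionalFour.Section
import Cfsg.Agent.Lib.Cores.PCore

set_option autoImplicit false
set_option linter.style.haveILetI false
open Cfsg

namespace Cfsg.Agent.S3104

open Cfsg.Agent.Lib
open Equiv Matrix

/-- coordinates on an elementary abelian 2-group -/
theorem coords {U : Type*} [Group U] [Finite U] (hU : ∀ u : U, u ^ 2 = 1) {n : Type} [Fintype n] [DecidableEq n]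
    (hn : Nat.card U = 2 ^ Fintype.card n) :
    ∃ (c : U → (n → ZMod 2)) (M : MulAut U →* GL n (ZMod 2)), Function.Bijective c ∧
      (∀ x y, c (x * y) = c x + c y) ∧ Function.Injective M ∧
      ∀ (σ : MulAut U) x, c (σ x) = (M σ : Matrix n n (ZMod 2)) *ᵥ c x := by
  have : Fact (Nat.Prime 2) := ⟨Nat.prime_two⟩
  have hcomm : ∀ a b : U, a * b = b * a := fun a b => by
    have h1 := hU (a * b)
    have h2 := hU a
    have h3 := hU b
    rw [sq] at h1 h2 h3
    calc a * b = (a * b) * ((b * a) * (b * a)) := by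
          rw [show (b * a) * (b * a) = (b * a) ^ 2 from (sq _).symm, hU, mul_one]
      _ = a * (b * b) * a * (b * a) := by group
      _ = b * a := by rw [h3, mul_one, h2, one_mul]
  letI : CommGroup U := { (inferInstance : Group U) with mul_comm := hcomm }
  letI : Module (ZMod 2) (Additive U) := AddCommGroup.zmodModule (fun x => by
    rw [two_nsmul]
    exact Additive.toMul.injective (show x.toMul * x.toMul = 1 by rw [← sq]; exact hU _))
  have hfr : Module.finrank (ZMod 2) (Additive U) = Fintype.card n := by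
    have h := Module.natCard_eq_pow_finrank (K := ZMod 2) (V := Additive U)
    rw [show Nat.card (Additive U) = 2 ^ Fintype.card n from hn, Nat.card_zmod] at h
    exact (Nat.pow_right_injective le_rfl h).symm
  let b := (Module.finBasisOfFinrankEq (ZMod 2) (Additive U) hfr).reindex (Fintype.equivFin n).symm
  let toEnd : MulAut U →* Module.End (ZMod 2) (Additive U) :=
    { toFun := fun σ => AddMonoidHom.toZModLinearMap 2 (MonoidHom.toAdditive σ.toMonoidHom)
      map_one' := rfl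
      map_mul' := fun _ _ => rfl }
  refine ⟨fun x => b.equivFun (Additive.ofMul x),
    (Units.map (LinearMap.toMatrixAlgEquiv b).toMulEquiv.toMonoidHom).comp toEnd.toHomUnits,
    b.equivFun.bijective.comp Additive.ofMul.bijective, fun x y => ?_, ?_, fun σ x => ?_⟩
  · exact map_add b.equivFun _ _
  · intro σ τ h
    have h2 : LinearMap.toMatrixAlgEquiv b (toEnd σ) = LinearMap.toMatrixAlgEquiv b (toEnd τ) :=
      congrArg Units.val h
    exact MulEquiv.ext fun x => congrArg Additive.toMul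
      (LinearMap.congr_fun ((LinearMap.toMatrixAlgEquiv b).injective h2) (Additive.ofMul x))
  · exact (LinearMap.toMatrix_mulVec_repr b b (toEnd σ) (Additive.ofMul x)).symm

theorem gl_small {d : ℕ} (hd : d ≤ 3) : Nat.card (GL (Fin d) (ZMod 2)) ≤ 168 := by
  haveI : Fact (Nat.Prime 2) := ⟨Nat.prime_two⟩
  rw [Matrix.card_GL_field]
  interval_cases d <;> simp [Fin.prod_univ_succ]

/-- coordinates on the Frattini quotient of `O₂` -/
theorem exists_model {X : Type*} [Group X] [Finite X] (hc : Cfsg.IsPConstrained 2 X) (hO : Cfsg.oddCore X = ⊥)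
    (h4 : Cfsg.SectionalPRankLE 2 4 ↥(Cfsg.pCore 2 X)) (hbig : 720 ∣ Nat.card (X ⧸ Cfsg.pCore 2 X)) :
    ∃ (c : ↥(Cfsg.pCore 2 X) → SectionalFour.V4) (R : X →* GL (Fin 2 ⊕ Fin 2) (ZMod 2)),
      (∀ x y, c (x * y) = c x + c y) ∧ Function.Surjective c ∧
      (∀ g x, c (MulAut.conjNormal g x) =
        (R g : Matrix (Fin 2 ⊕ Fin 2) (Fin 2 ⊕ Fin 2) (ZMod 2)) *ᵥ c x) ∧ R.ker = Cfsg.pCore 2 X := by
  have : Fact (Nat.Prime 2) := ⟨Nat.prime_two⟩
  set Q := pCore 2 X with hQdef
  have hQp : IsPGroup 2 ↥Q := Components.pCore_isPGroup 2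
  -- `C(Q) ≤ Q`
  have hl : layer X = ⊥ := by
    have h1 := (Components.pLayer_eq_bot_iff 2).mp ((Components.isPConstrained_iff 2).mp hc)
    have e := Components.map_layer_mulEquiv
      ((QuotientGroup.quotientMulEquivOfEq (show pPrimeCore 2 X = ⊥ from hO)).trans
        (QuotientGroup.quotientBot (G := X)))
    rw [h1, Subgroup.map_bot] at e
    exact e.symm
  have hC : Subgroup.centralizer (Q : Set X) ≤ Q := by
    have h := Components.centralizer_fitting_le_iff.mpr hl
    rwa [Components.fittingSubgroup_eq_pCore 2 hO] at h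
  -- the Frattini quotient
  set Φ := frattini ↥Q with hΦdef
  have hV2 : ∀ u : ↥Q ⧸ Φ, u ^ 2 = 1 := fun u => by
    obtain ⟨x, rfl⟩ := QuotientGroup.mk'_surjective Φ u
    rw [← map_pow, QuotientGroup.mk'_apply, QuotientGroup.eq_one_iff]
    exact Cores.pow_mem_frattini hQp x
  obtain ⟨d, hd⟩ : ∃ d, Nat.card (↥Q ⧸ Φ) = 2 ^ d :=
    IsPGroup.iff_card.mp (hQp.to_quotient Φ)
  have hd4 : d ≤ 4 := by
    have hN : (Φ.subgroupOf ⊤).Normal := inferInstance
    have h := h4 ⊤ (Φ.subgroupOf ⊤)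
    let π : ↥(⊤ : Subgroup ↥Q) ⧸ Φ.subgroupOf ⊤ ≃* ↥Q ⧸ Φ :=
      QuotientGroup.congr _ _ Subgroup.topEquiv (by
        ext x
        constructor
        · rintro ⟨y, hy, rfl⟩
          exact hy
        · intro hx
          exact ⟨⟨x, Subgroup.mem_top x⟩, hx, rfl⟩)
    have hab : IsMulCommutative (⊤ : Subgroup (↥(⊤ : Subgroup ↥Q) ⧸ Φ.subgroupOf ⊤)) := by
      refine ⟨⟨fun a b => Subtype.ext (π.injective ?_)⟩⟩
      have h1 := hV2 (π a.1 * π b.1)
      have h2 := hV2 (π a.1)
      have h3 := hV2 (π b.1)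
      rw [sq] at h1 h2 h3
      show π (a.1 * b.1) = π (b.1 * a.1)
      rw [map_mul, map_mul]
      calc π a.1 * π b.1 = (π a.1 * π b.1) * ((π b.1 * π a.1) * (π b.1 * π a.1)) := by
            rw [show (π b.1 * π a.1) * (π b.1 * π a.1) = (π b.1 * π a.1) ^ 2 from (sq _).symm, hV2, mul_one]
        _ = π a.1 * (π b.1 * π b.1) * π a.1 * (π b.1 * π a.1) := by group
        _ = π b.1 * π a.1 := by rw [h3, mul_one, h2, one_mul]
    have h' := h ⊤ hab (fun a _ => π.injective (by rw [map_pow, map_one]; exact hV2 _))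
    rw [Subgroup.card_top, Nat.card_congr π.toEquiv, hd] at h'
    exact (Nat.pow_le_pow_iff_right (by norm_num)).mp h'
  -- the action on the Frattini quotient
  have hinv : ∀ g : X, Φ.map (MulAut.conjNormal g : MulAut ↥Q).toMonoidHom = Φ := fun g =>
    (Subgroup.characteristic_iff_map_eq.mp inferInstance) _
  let ρ : X →* MulAut (↥Q ⧸ Φ) :=
    { toFun := fun g => QuotientGroup.congr Φ Φ (MulAut.conjNormal g) (hinv g)
      map_one' := MulEquiv.ext fun u => by
        obtain ⟨x, rfl⟩ := QuotientGroup.mk'_surjective Φ u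
        simp
      map_mul' := fun g h => MulEquiv.ext fun u => by
        obtain ⟨x, rfl⟩ := QuotientGroup.mk'_surjective Φ u
        show QuotientGroup.mk' Φ (MulAut.conjNormal (g * h) x) =
          QuotientGroup.mk' Φ (MulAut.conjNormal g (MulAut.conjNormal h x))
        rw [map_mul, MulAut.mul_apply] }
  have hρ : ∀ (g : X) (x : ↥Q), ρ g (QuotientGroup.mk' Φ x) =
      QuotientGroup.mk' Φ (MulAut.conjNormal g x) := fun g x => rfl
  have hker : ρ.ker = Q := by
    apply le_antisymm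
    · refine Components.le_pCore inferInstance ?_
      intro g
      set m := orderOf (g : X) with hm
      obtain ⟨k, r, hr, hkr⟩ := Nat.exists_eq_pow_mul_and_not_dvd (orderOf_pos (g : X)).ne' 2
        (by norm_num)
      refine ⟨k, ?_⟩
      apply Subtype.ext
      set a := (g : X) ^ 2 ^ k with ha
      have hao : Odd (orderOf a) := by
        rw [ha, orderOf_pow' _ (by positivity), hkr, Nat.gcd_eq_right (Dvd.intro r rfl),
          Nat.mul_div_cancel_left _ (by positivity)]
        exact Nat.odd_iff.mpr (by omega)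
      have hak : a ∈ ρ.ker := pow_mem g.2 _
      have hcent : Subgroup.zpowers a ≤ Subgroup.centralizer (Q : Set X) := by
        refine Coprime.le_centralizer_of_frattini ?_ ?_
        · rw [Nat.card_zpowers]
          obtain ⟨j, hj⟩ := IsPGroup.iff_card.mp (hQp.to_subgroup (frattini ↥Q))
          rw [hj]
          exact (Nat.coprime_two_right.mpr hao).pow_right j
        · intro b hb x hx
          have hbk : b ∈ ρ.ker := (Subgroup.zpowers_le.mpr hak) hb
          have h1 := DFunLike.congr_fun (MonoidHom.mem_ker.mp hbk) (QuotientGroup.mk' Φ ⟨x, hx⟩)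
          rw [hρ, MulAut.one_apply, QuotientGroup.mk'_apply, QuotientGroup.mk'_apply,
            QuotientGroup.eq] at h1
          have h2 := Φ.inv_mem h1
          have hn : Φ.Normal := inferInstance
          have h3 := hn.conj_mem _ h2 ⟨x, hx⟩
          refine ⟨_, h3, ?_⟩
          simp [mul_assoc]
      have haQ : a ∈ Q := hC (hcent (Subgroup.mem_zpowers a))
      obtain ⟨j, hj⟩ := hQp ⟨a, haQ⟩
      have hj' : a ^ 2 ^ j = 1 := congrArg Subtype.val hj
      show a = 1
      rw [← orderOf_eq_one_iff]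
      have h2 := Nat.dvd_gcd (dvd_refl (orderOf a)) (orderOf_dvd_of_pow_eq_one hj')
      rwa [Nat.Coprime.gcd_eq_one ((Nat.coprime_two_right.mpr hao).pow_right j), Nat.dvd_one] at h2
    · intro g hg
      rw [MonoidHom.mem_ker]
      refine MulEquiv.ext fun u => ?_
      obtain ⟨x, rfl⟩ := QuotientGroup.mk'_surjective Φ u
      rw [hρ, MulAut.one_apply]
      have e : MulAut.conjNormal g x = (⟨g, hg⟩ : ↥Q) * x * (⟨g, hg⟩ : ↥Q)⁻¹ := Subtype.ext (by simp)
      rw [e, map_mul, map_mul, map_inv]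
      generalize QuotientGroup.mk' Φ ⟨g, hg⟩ = a
      generalize QuotientGroup.mk' Φ x = c
      have h1 := hV2 (a * c)
      have h2 := hV2 a
      have h3 := hV2 c
      rw [sq] at h1 h2 h3
      rw [inv_eq_of_mul_eq_one_right h2]
      calc a * c * a = (a * c * (a * c)) * c⁻¹ := by group
        _ = c := by rw [h1, one_mul, inv_eq_of_mul_eq_one_right h3]
  have hdeq : d = 4 := by
    by_contra hne
    obtain ⟨cf, M, -, -, hM, -⟩ := coords (U := ↥Q ⧸ Φ) hV2 (n := Fin d) (by rw [Fintype.card_fin]; exact hd)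
    have hinj : Function.Injective (QuotientGroup.lift Q (M.comp ρ)
        (fun g hg => by rw [MonoidHom.mem_ker, MonoidHom.comp_apply, MonoidHom.mem_ker.mp (hker.ge hg), map_one])) := by
      rw [← MonoidHom.ker_eq_bot_iff, eq_bot_iff]
      intro u hu
      obtain ⟨g, rfl⟩ := QuotientGroup.mk'_surjective Q u
      rw [MonoidHom.mem_ker, QuotientGroup.mk'_apply, QuotientGroup.lift_mk] at hu
      rw [Subgroup.mem_bot, QuotientGroup.mk'_apply, QuotientGroup.eq_one_iff, ← hker, MonoidHom.mem_ker]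
      exact hM (hu.trans (map_one M).symm)
    have h1 := (Nat.card_le_card_of_injective _ hinj).trans (gl_small (show d ≤ 3 by omega))
    have h2 := Nat.le_of_dvd Nat.card_pos hbig
    omega
  subst hdeq
  obtain ⟨cU, M, hbij, hadd, hM, hequ⟩ := coords (U := ↥Q ⧸ Φ) hV2 (n := Fin 2 ⊕ Fin 2)
    (by rw [hd]; simp)
  refine ⟨fun x => cU (QuotientGroup.mk' Φ x), M.comp ρ, fun x y => (congrArg cU (map_mul (QuotientGroup.mk' Φ) x y)).trans (hadd _ _),
    hbij.2.comp (QuotientGroup.mk'_surjective Φ), fun g x => ?_, ?_⟩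
  · rw [MonoidHom.comp_apply, ← hequ, hρ]
  · rw [MonoidHom.ker_comp_of_injective]
    · exact hker
    · exact hM

theorem psl_three_two : Nonempty (GL (Fin 3) (ZMod 2) ≃* Matrix.ProjectiveSpecialLinearGroup (Fin 3) (ZMod 2)) := by
  have hinj : Function.Injective (Matrix.SpecialLinearGroup.toGL : Matrix.SpecialLinearGroup (Fin 3) (ZMod 2) →* _) :=
    fun a b h => Subtype.ext (congrArg Units.val h)
  have hsurj : Function.Surjective (Matrix.SpecialLinearGroup.toGL : Matrix.SpecialLinearGroup (Fin 3) (ZMod 2) →* _) :=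
    fun g => ⟨⟨g.1, congrArg Units.val
      (QuadFin.units_eq_one_of_card_two (ZMod.card 2) (Matrix.GeneralLinearGroup.det g))⟩, Units.ext rfl⟩
  have hcen : Subgroup.center (Matrix.SpecialLinearGroup (Fin 3) (ZMod 2)) = ⊥ := by
    rw [eq_bot_iff]
    intro z hz
    obtain ⟨r, hr, hrz⟩ := Matrix.SpecialLinearGroup.mem_center_iff.mp hz
    rw [Fintype.card_fin] at hr
    have hr1 : r = 1 := by clear hrz; revert hr; revert r; decide
    exact Subgroup.mem_bot.mpr (Subtype.ext (by rw [← hrz, hr1]; simp))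
  let π := QuotientGroup.mk' (Subgroup.center (Matrix.SpecialLinearGroup (Fin 3) (ZMod 2)))
  have hπ : Function.Bijective π :=
    ⟨by rw [← MonoidHom.ker_eq_bot_iff, QuotientGroup.ker_mk', hcen], QuotientGroup.mk'_surjective _⟩
  exact ⟨(MulEquiv.ofBijective _ ⟨hinj, hsurj⟩).symm.trans (MulEquiv.ofBijective π hπ)⟩

theorem card_alt_eight : Nat.card (alternatingGroup (Fin 8)) = 20160 := by
  rw [nat_card_alternatingGroup, Nat.card_fin]; norm_num [Nat.factorial]

/-- no section: the image contains the natural `S₆` -/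
theorem no_big_image {X : Type*} [Group X] [Finite X] (hc : Cfsg.IsPConstrained 2 X) (hO : Cfsg.oddCore X = ⊥)
    (h4 : Cfsg.SectionalPRankLE 2 4 ↥(Cfsg.pCore 2 X)) (h4X : Cfsg.SectionalPRankLE 2 4 X)
    (hQ : Nonempty (X ⧸ Cfsg.pCore 2 X ≃* Perm (Fin 6)) ∨ Nonempty (X ⧸ Cfsg.pCore 2 X ≃* Perm (Fin 7)) ∨
      Nonempty (X ⧸ Cfsg.pCore 2 X ≃* ↥(alternatingGroup (Fin 8)))) : False := by
  classical
  obtain ⟨e⟩ := QuadFin.nonempty_GL4_two (F := ZMod 2) (ZMod.card 2)
  let θ : GL (Fin 2 ⊕ Fin 2) (ZMod 2) ≃* alternatingGroup (Fin 8) :=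
    (Units.mapEquiv (Matrix.reindexAlgEquiv (ZMod 2) (ZMod 2) (finSumFinEquiv : Fin 2 ⊕ Fin 2 ≃ Fin 4)).toMulEquiv).trans e
  rcases hQ with ⟨⟨e6⟩⟩ | ⟨⟨e7⟩⟩ | ⟨⟨e8⟩⟩
  · obtain ⟨c, R, hadd, hsurj, hequ, hker⟩ := exists_model hc hO h4
      (by rw [Nat.card_congr e6.toEquiv, SectionalFour.card_perm_six])
    let R' := (QuotientGroup.lift (Cfsg.pCore 2 X) R (fun g hg => hker.ge hg)).comp e6.symm.toMonoidHom
    have hL : Function.Injective (QuotientGroup.lift (Cfsg.pCore 2 X) R (fun g hg => hker.ge hg)) := by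
      rw [← MonoidHom.ker_eq_bot_iff, eq_bot_iff]
      intro u hu
      obtain ⟨g, rfl⟩ := QuotientGroup.mk'_surjective _ u
      rw [MonoidHom.mem_ker, QuotientGroup.mk'_apply, QuotientGroup.lift_mk] at hu
      rw [Subgroup.mem_bot, QuotientGroup.mk'_apply, QuotientGroup.eq_one_iff, ← hker]
      exact hu
    have hR' : Function.Injective R' := fun a b hab => e6.symm.injective (hL hab)
    obtain ⟨h, hh⟩ := SectionalFour.six_conjugate (f₁ := θ.toMonoidHom.comp R')
      (f₂ := θ.toMonoidHom.comp SectionalFour.sixHom) (θ.injective.comp hR')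
      (θ.injective.comp SectionalFour.sixHom_injective)
    obtain ⟨k, rfl⟩ := θ.surjective h
    have hR2 : ∀ g, ((MulAut.conj k⁻¹).toMonoidHom.comp R) g = k⁻¹ * R g * k := fun g => by
      simp [MulAut.conj_apply]
    refine SectionalFour.not_sectional_four (Cfsg.pCore 2 X)
      (fun x => (k⁻¹ : GL (Fin 2 ⊕ Fin 2) (ZMod 2)).1 *ᵥ c x) (fun x y => by rw [hadd, mulVec_add]) ?_
      ((MulAut.conj k⁻¹).toMonoidHom.comp R) (fun g x => ?_) ?_ ?_ h4X
    · intro v
      obtain ⟨x, hx⟩ := hsurj (k.1 *ᵥ v)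
      refine ⟨x, ?_⟩
      show (k⁻¹ : GL (Fin 2 ⊕ Fin 2) (ZMod 2)).1 *ᵥ c x = v
      rw [hx, mulVec_mulVec, ← Units.val_mul, inv_mul_cancel, Units.val_one, one_mulVec]
    · show (k⁻¹ : GL (Fin 2 ⊕ Fin 2) (ZMod 2)).1 *ᵥ c _ = _
      rw [hequ, hR2, mulVec_mulVec, mulVec_mulVec, ← Units.val_mul, ← Units.val_mul, mul_inv_cancel_right]
    · rw [MonoidHom.ker_comp_of_injective]
      · exact hker
      · exact (MulAut.conj k⁻¹).injective
    · rintro _ ⟨π, rfl⟩
      obtain ⟨π', hπ'⟩ := hh π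
      obtain ⟨g, hg⟩ := QuotientGroup.mk'_surjective (Cfsg.pCore 2 X) (e6.symm π')
      refine ⟨g, ?_⟩
      have h1 : R' π' = k * SectionalFour.sixHom π * k⁻¹ := θ.injective (by
        rw [map_mul, map_mul, map_inv]; exact hπ')
      have h2 : R g = R' π' := by
        simp only [R', MonoidHom.comp_apply, MulEquiv.coe_toMonoidHom]
        rw [← hg]; rfl
      rw [hR2, h2, h1]
      group
  · obtain ⟨f, hf⟩ := S3103.result hc hO h4
    haveI : IsSimpleGroup (alternatingGroup (Fin 8)) := alternatingGroup.isSimpleGroup (by simp)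
    have h5040 : Nat.card (X ⧸ Cfsg.pCore 2 X) = 5040 := by
      rw [Nat.card_congr e7.toEquiv, Nat.card_perm, Nat.card_fin]; rfl
    have hr : Nat.card f.range = 5040 :=
      (Nat.card_congr (MonoidHom.ofInjective hf).toEquiv).symm.trans h5040
    have hne : f.range ≠ ⊤ := fun h => by
      rw [h, Subgroup.card_top, card_alt_eight] at hr
      omega
    have hd := QuadFin.EightPoint.card_dvd_factorial_index hne
    have hi := Subgroup.card_mul_index f.range
    rw [hr, card_alt_eight] at hi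
    rw [card_alt_eight, show f.range.index = 4 by omega] at hd
    norm_num [Nat.factorial] at hd
  · obtain ⟨c, R, hadd, hsurj, hequ, hker⟩ := exists_model hc hO h4
      (by rw [Nat.card_congr e8.toEquiv, card_alt_eight]; norm_num)
    refine SectionalFour.not_sectional_four (Cfsg.pCore 2 X) c hadd hsurj R hequ hker (fun z _ => ?_) h4X
    have hrc : Nat.card R.range = 20160 := by
      rw [← Subgroup.index_ker, hker, Subgroup.index_eq_card, Nat.card_congr e8.toEquiv, card_alt_eight]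
    have htop : R.range = ⊤ := Subgroup.eq_top_of_card_eq _ (by
      rw [hrc, Nat.card_congr θ.toEquiv, card_alt_eight])
    rw [htop]; exact Subgroup.mem_top z


/-- Let X be a finite nonsolvable 2-constrained group with no nontrivial normal subgroup of odd order such that O₂(X) has sectional 2-rank at most 4, and write Q for X/O₂(X). Then Q is isomorphic to the projective special linear group of dimension 3 over the field with 2 elements, to an alternating group of degree n with 5 ≤ n ≤ 8, to a symmetric group of degree n with 5 ≤ n ≤ 7, or else O₃(Q) has order 3 and Q/O₃(Q) is isomorphic to the alternating or the symmetric group of degree 5 (so Q is the direct product of a group of order 3 with the alternating group of degree 5, or an extension of that direct product by a group of order 2). If moreover X itself has sectional 2-rank at most 4, then Q is not isomorphic to the symmetric group of degree 6 or 7 nor to the alternating group of degree 8. -/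
theorem result {X : Type*} [Group X] [Finite X] (hns : ¬ Group.IsSolvable X) (hc : Cfsg.IsPConstrained 2 X) (hO : Cfsg.oddCore X = ⊥)
    (h4 : Cfsg.SectionalPRankLE 2 4 ↥(Cfsg.pCore 2 X)) :
    ((∃ (F : Type) (_ : Field F) (_ : Fintype F), Fintype.card F = 2 ∧
          Nonempty (X ⧸ Cfsg.pCore 2 X ≃* Matrix.ProjectiveSpecialLinearGroup (Fin 3) F)) ∨
        (∃ n : ℕ, 5 ≤ n ∧ n ≤ 8 ∧ Nonempty (X ⧸ Cfsg.pCore 2 X ≃* ↥(alternatingGroup (Fin n)))) ∨
        (∃ n : ℕ, 5 ≤ n ∧ n ≤ 7 ∧ Nonempty (X ⧸ Cfsg.pCore 2 X ≃* Equiv.Perm (Fin n))) ∨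
        (Nat.card ↥(Cfsg.pCore 3 (X ⧸ Cfsg.pCore 2 X)) = 3 ∧
          (Nonempty ((X ⧸ Cfsg.pCore 2 X) ⧸ Cfsg.pCore 3 (X ⧸ Cfsg.pCore 2 X) ≃* ↥(alternatingGroup (Fin 5))) ∨
            Nonempty ((X ⧸ Cfsg.pCore 2 X) ⧸ Cfsg.pCore 3 (X ⧸ Cfsg.pCore 2 X) ≃* Equiv.Perm (Fin 5))))) ∧
      (Cfsg.SectionalPRankLE 2 4 X →
        ¬ (Nonempty (X ⧸ Cfsg.pCore 2 X ≃* Equiv.Perm (Fin 6)) ∨ Nonempty (X ⧸ Cfsg.pCore 2 X ≃* Equiv.Perm (Fin 7)) ∨
            Nonempty (X ⧸ Cfsg.pCore 2 X ≃* ↥(alternatingGroup (Fin 8))))) := by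
  classical
  haveI : Fact (Nat.Prime 2) := ⟨Nat.prime_two⟩
  haveI : Fact (Nat.Prime 3) := ⟨Nat.prime_three⟩
  refine ⟨?_, fun h4X h => no_big_image hc hO h4 h4X h⟩
  obtain ⟨f, hf⟩ := S3103.result hc hO h4
  set Q := X ⧸ Cfsg.pCore 2 X
  have hnsQ : ¬ Group.IsSolvable Q := fun hs => hns (by
    haveI := hs
    haveI : Group.IsSolvable ↥(Cfsg.pCore 2 X) := by
      obtain ⟨m, hm⟩ := (Cores.pCore_isPGroup 2 X).exists_card_eq
      exact QuadFin.EightPoint.solvable_of_dvd (a := m) (b := 0) Nat.prime_two Nat.prime_three (by rw [hm]; simp)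
    exact solvable_of_ker_le_range (Cfsg.pCore 2 X).subtype (QuotientGroup.mk' (Cfsg.pCore 2 X))
      (by rw [QuotientGroup.ker_mk', Subgroup.range_subtype]))
  have hO2 : Cfsg.pCore 2 Q = ⊥ := Cores.pCore_quotient_pCore 2 X
  by_cases hodd : Cfsg.pPrimeCore 2 Q = ⊥
  · obtain ⟨e⟩ := QuadFin.nonempty_GL4_two (F := ZMod 2) (ZMod.card 2)
    let φ : Q →* GL (Fin 4) (ZMod 2) := e.symm.toMonoidHom.comp f
    have hφ : Function.Injective φ := e.symm.injective.comp hf
    let iso := MonoidHom.ofInjective hφ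
    have hne : φ.range ≠ ⊥ := fun h => hnsQ (by
      haveI : Subsingleton φ.range := by rw [h]; infer_instance
      exact solvable_of_solvable_injective (f := iso.toMonoidHom) iso.injective)
    have h1 : Cfsg.pPrimeCore 2 ↥φ.range = ⊥ := by
      rw [← Cores.map_pPrimeCore_equiv iso, hodd, Subgroup.map_bot]
    have h2 : Cfsg.pCore 2 ↥φ.range = ⊥ := by
      rw [← Cores.map_pCore_equiv iso, hO2, Subgroup.map_bot]
    rcases S2553.result φ.range hne h1 h2 with ⟨n, h5, h8, ⟨e'⟩⟩ | ⟨⟨e'⟩⟩ | ⟨⟨e'⟩⟩ | ⟨⟨e'⟩⟩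
    · exact Or.inr (Or.inl ⟨n, h5, h8, ⟨iso.trans e'⟩⟩)
    · exact Or.inr (Or.inr (Or.inl ⟨5, le_rfl, by norm_num, ⟨iso.trans e'⟩⟩))
    · exact Or.inr (Or.inr (Or.inl ⟨6, by norm_num, by norm_num, ⟨iso.trans e'⟩⟩))
    · obtain ⟨e3⟩ := psl_three_two
      exact Or.inl ⟨ZMod 2, inferInstance, inferInstance, ZMod.card 2, ⟨iso.trans (e'.trans e3)⟩⟩
  · right; right; right
    haveI : (Cfsg.pPrimeCore 2 Q).Normal := (Cores.pPrimeCore_mem 2 Q).1
    have hoddc : Odd (Nat.card ↥(Cfsg.pPrimeCore 2 Q)) :=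
      Nat.coprime_two_right.mp (Cores.pPrimeCore_coprime 2 Q)
    obtain ⟨h3, hiso⟩ := SectionalFour.odd_normal ((alternatingGroup (Fin 8)).subtype.comp f)
      (Subtype.val_injective.comp hf) (fun g => (f g).2) hnsQ (Cfsg.pPrimeCore 2 Q) hoddc hodd
    have heq : Cfsg.pCore 3 Q = Cfsg.pPrimeCore 2 Q := by
      refine le_antisymm ?_ (Cores.le_pCore inferInstance (IsPGroup.of_card (n := 1) (by rw [h3]; norm_num)))
      obtain ⟨m, hm⟩ := (Cores.pCore_isPGroup 3 Q).exists_card_eq
      exact Cores.le_pPrimeCore inferInstance (by rw [hm]; exact Nat.Coprime.pow_left m (by norm_num))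
    refine ⟨heq ▸ h3, ?_⟩
    rcases hiso with ⟨⟨e'⟩⟩ | ⟨⟨e'⟩⟩
    · exact Or.inl ⟨(QuotientGroup.quotientMulEquivOfEq heq).trans e'⟩
    · exact Or.inr ⟨(QuotientGroup.quotientMulEquivOfEq heq).trans e'⟩


end Cfsg.Agent.S3104
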