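import Mathlib
import Cfsg.Statements.S3116


set_option autoImplicit false
open Cfsg

namespace Cfsg.Agent.S3116

theorem isPGroup_mulAut {X : Type*} [Group X] [Finite X] (x y : X) (m : ℕ) (hx : orderOf x = 2 ^ m)
    (hy : y ∉ Subgroup.zpowers x)
    (hcos : ∀ z : X, z ∈ Subgroup.zpowers x ∨ ∃ w ∈ Subgroup.zpowers x, z = y * w)
    (hord : ∀ z : X, orderOf z = 2 ^ m → z ∈ Subgroup.zpowers x) :
    IsPGroup 2 (MulAut X) := by
  have key : ∀ (φ : MulAut X) (N : ℕ), Odd N → φ ^ N = 1 → φ = 1 := by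
    intro φ N hN hφ
    obtain ⟨u, hu⟩ : ∃ u : ℕ, φ x = x ^ u := by
      have := hord (φ x) (by rw [φ.orderOf_eq, hx])
      rw [← mem_powers_iff_mem_zpowers, Submonoid.mem_powers_iff] at this
      obtain ⟨u, hu⟩ := this
      exact ⟨u, hu.symm⟩
    have hfix : φ x = x := by
      have hit : ∀ k : ℕ, (φ ^ k) x = x ^ (u ^ k) := by
        intro k
        induction k with
        | zero => simp
        | succ k ih => rw [pow_succ', MulAut.mul_apply, ih, map_pow, hu, ← pow_mul, pow_succ']
      have h1 : x ^ (u ^ N) = x ^ 1 := by rw [← hit, hφ, pow_one]; rfl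
      rw [pow_eq_pow_iff_modEq, hx, ← ZMod.natCast_eq_natCast_iff] at h1
      push_cast at h1
      rcases Nat.eq_zero_or_pos m with hm | hm
      · subst hm
        have hx1 : x = 1 := orderOf_eq_one_iff.mp (by simpa using hx)
        rw [hx1, map_one]
      have hN0 : N ≠ 0 := by rintro rfl; simp at hN
      have : NeZero (2 ^ m) := ⟨by positivity⟩
      obtain ⟨w, hw⟩ : IsUnit (u : ZMod (2 ^ m)) := IsUnit.of_pow_eq_one h1 hN0
      have hw1 : w ^ N = 1 := Units.ext (by push_cast; rw [hw]; exact h1)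
      have hd1 := orderOf_dvd_of_pow_eq_one hw1
      have hd2 := orderOf_dvd_card (x := w)
      rw [ZMod.card_units_eq_totient, Nat.totient_prime_pow Nat.prime_two hm] at hd2
      simp only [Nat.add_one_sub_one, mul_one] at hd2
      have hw' : w = 1 := by
        rw [← orderOf_eq_one_iff]
        exact Nat.eq_one_of_dvd_coprimes (Nat.Coprime.pow_left _ (Nat.coprime_two_left.mpr hN)) hd2 hd1
      rw [hu]
      conv_rhs => rw [← pow_one x]
      rw [pow_eq_pow_iff_modEq, hx, ← ZMod.natCast_eq_natCast_iff, ← hw, hw']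
      simp
    have hzp : ∀ v ∈ Subgroup.zpowers x, φ v = v := by
      intro v hv
      obtain ⟨k, rfl⟩ := Subgroup.mem_zpowers_iff.mp hv
      rw [map_zpow, hfix]
    obtain ⟨v, hv, hyv⟩ : ∃ v ∈ Subgroup.zpowers x, φ y = y * v := by
      rcases hcos (φ y) with h | h
      · exact absurd (φ.injective (hzp _ h) ▸ h) hy
      · exact h
    have hiy : ∀ k : ℕ, (φ ^ k) y = y * v ^ k := by
      intro k
      induction k with
      | zero => simp
      | succ k ih =>
        rw [pow_succ', MulAut.mul_apply, ih, map_mul, hzp _ (pow_mem hv k), hyv, mul_assoc, ← pow_succ']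
    have hv1 : v = 1 := by
      have h1 : v ^ N = 1 := by
        have := hiy N
        rw [hφ] at this
        have e : y * v ^ N = y * 1 := by rw [mul_one, ← this]; rfl
        exact mul_left_cancel e
      have hd2 : orderOf v ∣ 2 ^ m := by rw [← hx]; exact orderOf_dvd_of_mem_zpowers hv
      rw [← orderOf_eq_one_iff]
      exact Nat.eq_one_of_dvd_coprimes (Nat.Coprime.pow_left _ (Nat.coprime_two_left.mpr hN)) hd2
        (orderOf_dvd_of_pow_eq_one h1)
    ext z
    rcases hcos z with h | ⟨w, hw, rfl⟩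
    · exact hzp z h
    · rw [map_mul, hzp w hw, hyv, hv1, mul_one]; rfl
  have : Fact (Nat.Prime 2) := ⟨Nat.prime_two⟩
  rw [IsPGroup.iff_orderOf]
  intro φ
  obtain ⟨a, N, hN, hord'⟩ := Nat.exists_eq_two_pow_mul_odd (orderOf_pos φ).ne'
  refine ⟨a, ?_⟩
  have h1 : φ ^ 2 ^ a = 1 := key _ N hN (by rw [← pow_mul, ← hord', pow_orderOf_eq_one])
  exact le_antisymm (Nat.le_of_dvd (by positivity) (orderOf_dvd_of_pow_eq_one h1))
    (hord' ▸ Nat.le_mul_of_pos_right _ hN.pos)

/-- The automorphism group of a dihedral 2-group of order at least 8, or of a quasi-dihedral (semidihedral) 2-group of order at least 16, is a 2-group. -/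
theorem result {X : Type*} [Group X] [Finite X] (h2 : IsPGroup 2 X)
    (h : (∃ n : ℕ, 4 ≤ n ∧ Nonempty (X ≃* DihedralGroup n)) ∨ Cfsg.IsQuasiDihedral X) : IsPGroup 2 (MulAut X) := by
  rcases h with ⟨n, hn, ⟨e⟩⟩ | ⟨n, hn, hcard, x, y, hx, hy, hxy⟩
  · have : NeZero n := ⟨by omega⟩
    obtain ⟨k, hk⟩ := IsPGroup.iff_card.mp h2
    rw [Nat.card_congr e.toEquiv, DihedralGroup.nat_card] at hk
    obtain ⟨m, rfl⟩ : ∃ m, n = 2 ^ m := by
      rcases k with _ | k
      · norm_num at hk
      · exact ⟨k, by rw [pow_succ] at hk; omega⟩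
    have hrr : ∀ i : ZMod (2 ^ m), DihedralGroup.r i = (DihedralGroup.r 1) ^ i.val := by
      intro i; simp
    have hr : ∀ i : ZMod (2 ^ m), e.symm (DihedralGroup.r i) ∈ Subgroup.zpowers (e.symm (DihedralGroup.r 1)) := by
      intro i
      rw [hrr i, map_pow]
      exact Subgroup.npow_mem_zpowers _ _
    refine isPGroup_mulAut (e.symm (DihedralGroup.r 1)) (e.symm (DihedralGroup.sr 0)) m ?_ ?_ ?_ ?_
    · rw [e.symm.orderOf_eq]; exact DihedralGroup.orderOf_r_one
    · intro hmem
      obtain ⟨k, hk⟩ := Subgroup.mem_zpowers_iff.mp hmem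
      rw [← map_zpow] at hk
      have := e.symm.injective hk
      rw [DihedralGroup.r_zpow] at this
      exact absurd this (by simp)
    · intro z
      rcases hz : e z with i | i
      · left; have := hr i; rwa [← hz, e.symm_apply_apply] at this
      · right
        have : e.symm (DihedralGroup.sr 0) * e.symm (DihedralGroup.r i) = z := by
          rw [← map_mul, DihedralGroup.sr_mul_r, zero_add, ← hz, e.symm_apply_apply]
        exact ⟨_, hr i, this.symm⟩
    · intro z hz
      rcases hez : e z with i | i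
      · have := hr i; rwa [← hez, e.symm_apply_apply] at this
      · exfalso
        rw [← e.orderOf_eq, hez, DihedralGroup.orderOf_sr] at hz
        omega
  · have h2n : (2 : ℕ) ^ n = 2 * 2 ^ (n - 1) := by
      conv_lhs => rw [show n = (n - 1) + 1 by omega, pow_succ']
    have h4 : 4 ≤ 2 ^ (n - 1) :=
      le_trans (by norm_num : 4 ≤ 2 ^ 2) (Nat.pow_le_pow_right (by norm_num) (by omega))
    have hidx : (Subgroup.zpowers x).index = 2 := by
      have := (Subgroup.zpowers x).card_mul_index
      rw [Nat.card_zpowers, hx, hcard, pow_succ] at this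
      exact Nat.eq_of_mul_eq_mul_left (by positivity) this
    have hyx : y ∉ Subgroup.zpowers x := by
      intro hmem
      obtain ⟨k, rfl⟩ := Subgroup.mem_zpowers_iff.mp hmem
      have hc : x ^ k * x * (x ^ k)⁻¹ = x := by group
      rw [hc] at hxy
      have h2' : x ^ (2 ^ (n - 1) - 2) = 1 := by
        apply mul_right_cancel (b := x)
        rw [one_mul, ← pow_succ, show 2 ^ (n - 1) - 2 + 1 = 2 ^ (n - 1) - 1 by omega]
        exact hxy.symm
      have := Nat.le_of_dvd (by omega) (orderOf_dvd_of_pow_eq_one h2')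
      omega
    have hcos : ∀ z : X, z ∈ Subgroup.zpowers x ∨ ∃ w ∈ Subgroup.zpowers x, z = y * w := by
      intro z
      by_cases hz : z ∈ Subgroup.zpowers x
      · exact Or.inl hz
      · right
        refine ⟨y⁻¹ * z, ?_, by group⟩
        rw [Subgroup.mul_mem_iff_of_index_two hidx]
        simp [hyx, hz]
    refine isPGroup_mulAut x y n hx hyx hcos ?_
    intro z hz
    rcases hcos z with h | ⟨w, hw, rfl⟩
    · exact h
    · exfalso
      obtain ⟨i, hi⟩ : ∃ i : ℕ, x ^ i = w := by
        rw [← mem_powers_iff_mem_zpowers, Submonoid.mem_powers_iff] at hw; exact hw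
      subst hi
      have hyy : y⁻¹ = y := by
        refine inv_eq_of_mul_eq_one_left ?_
        rw [← pow_two, ← hy]; exact pow_orderOf_eq_one y
      have hz2 : (y * x ^ i) ^ 2 = x ^ (i * 2 ^ (n - 1)) := by
        calc (y * x ^ i) ^ 2 = y * x ^ i * y⁻¹ * x ^ i := by rw [hyy, pow_two]; group
          _ = (y * x * y⁻¹) ^ i * x ^ i := by rw [conj_pow]
          _ = x ^ ((2 ^ (n - 1) - 1) * i + i) := by rw [hxy, ← pow_mul, ← pow_add]
          _ = x ^ (i * 2 ^ (n - 1)) := by
            congr 1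
            rw [show (2 ^ (n - 1) - 1) * i + i = ((2 ^ (n - 1) - 1) + 1) * i by ring,
              show 2 ^ (n - 1) - 1 + 1 = 2 ^ (n - 1) by omega, mul_comm]
      have hz4 : (y * x ^ i) ^ 4 = 1 := by
        rw [show (4 : ℕ) = 2 * 2 by rfl, pow_mul, hz2, ← pow_mul, mul_assoc, mul_comm (2 ^ (n - 1)) 2,
          ← h2n, mul_comm, pow_mul, ← hx, pow_orderOf_eq_one, one_pow]
      have := Nat.le_of_dvd (by norm_num) (orderOf_dvd_of_pow_eq_one hz4)
      omega

end Cfsg.Agent.S3116
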