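import Cfsg.Statements.S3117
import Cfsg.Agent.S0144
import Cfsg.Agent.Lib.Cores.Frattini
import Cfsg.Agent.S0093
import Cfsg.Agent.S0121

set_option autoImplicit false
open Cfsg

namespace Cfsg.Agent.S3117

open scoped commutatorElement

universe u

/-- A sign function whose polarization is multiplicative. -/
structure IsSignForm {U : Type*} [Group U] (s : U → ℤ) : Prop where
  sign : ∀ x, s x = 1 ∨ s x = -1
  one : s 1 = 1
  polar : ∀ x y z, s (x * y * z) * s (x * y) * s z =
    (s (x * z) * s x * s z) * (s (y * z) * s y * s z)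

theorem IsSignForm.sq {U : Type*} [Group U] {s : U → ℤ} (hs : IsSignForm s) (x : U) :
    s x * s x = 1 := by
  rcases hs.sign x with h | h <;> simp [h]

theorem IsSignForm.mul {U : Type*} [Group U] {s t : U → ℤ} (hs : IsSignForm s)
    (ht : IsSignForm t) : IsSignForm fun x => s x * t x where
  sign x := by rcases hs.sign x with h | h <;> rcases ht.sign x with h' | h' <;> simp [h, h']
  one := by simp [hs.one, ht.one]
  polar x y z := by
    have := congrArg₂ (· * ·) (hs.polar x y z) (ht.polar x y z)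
    linear_combination this

theorem IsSignForm.restrict {U : Type*} [Group U] {s : U → ℤ} (hs : IsSignForm s)
    (W : Subgroup U) : IsSignForm fun x : W => s x where
  sign x := hs.sign x
  one := hs.one
  polar x y z := hs.polar x y z

theorem IsSignForm.card_dvd_sum_sq {U : Type*} [Group U] [Fintype U] {s : U → ℤ}
    (hs : IsSignForm s) : (Fintype.card U : ℤ) ∣ (∑ x, s x) * ∑ x, s x := by
  rw [Finset.mul_sum]
  have h1 : ∀ z : U, (∑ x, s x) * s z = ∑ x, s x * s z := fun z => Finset.sum_mul _ _ _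
  simp only [h1]
  rw [Finset.sum_comm]
  have h2 : ∑ x : U, ∑ y : U, s x * s y = ∑ x : U, ∑ h : U, s x * s (x * h) := by
    refine Finset.sum_congr rfl fun x _ => ?_
    exact (Equiv.sum_comp (Equiv.mulLeft x) (fun y => s x * s y)).symm
  rw [h2, Finset.sum_comm]
  refine Finset.dvd_sum fun h _ => ?_
  have h3 : ∀ x, s x * s (x * h) = s h * (s (x * h) * s x * s h) := fun x => by
    linear_combination (-(s (x * h) * s x)) * hs.sq h
  simp only [h3, ← Finset.mul_sum]
  refine Dvd.dvd.mul_left ?_ _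
  by_cases hall : ∀ x, s (x * h) * s x * s h = 1
  · simp [hall]
  · push_neg at hall
    obtain ⟨x₀, hx₀⟩ := hall
    have hb : s (x₀ * h) * s x₀ * s h = -1 := by
      rcases hs.sign (x₀ * h) with a | a <;> rcases hs.sign x₀ with b | b <;>
        rcases hs.sign h with c | c <;> simp [a, b, c] at hx₀ ⊢
    have key : ∑ x, s (x * h) * s x * s h = -∑ x, s (x * h) * s x * s h := by
      conv_lhs => rw [← Equiv.sum_comp (Equiv.mulLeft x₀) (fun x => s (x * h) * s x * s h)]
      rw [← Finset.sum_neg_distrib]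
      refine Finset.sum_congr rfl fun x _ => ?_
      simp only [Equiv.coe_mulLeft]
      rw [hs.polar x₀ x h, hb]
      ring
    rw [show (∑ x, s (x * h) * s x * s h) = 0 by omega]
    exact dvd_zero _

theorem two_dvd_of_two_dvd_sq {S : ℤ} {T : ℤ} (h : (2 : ℤ) * T = S * S) : (2 : ℤ) ∣ S :=
  (Int.prime_two.dvd_mul.mp ⟨T, h.symm⟩).elim id id

theorem four_dvd_of_eight_dvd_sq {S : ℤ} (h : (8 : ℤ) ∣ S * S) : (4 : ℤ) ∣ S := by
  obtain ⟨T, hT⟩ := h
  obtain ⟨a, rfl⟩ := two_dvd_of_two_dvd_sq (T := 4 * T) (S := S) (by linarith)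
  obtain ⟨b, rfl⟩ := two_dvd_of_two_dvd_sq (T := T) (S := a) (by linarith)
  exact ⟨b, by ring⟩

theorem eight_dvd_of_thirtytwo_dvd_sq {S : ℤ} (h : (32 : ℤ) ∣ S * S) : (8 : ℤ) ∣ S := by
  obtain ⟨T, hT⟩ := h
  obtain ⟨a, rfl⟩ := two_dvd_of_two_dvd_sq (T := 16 * T) (S := S) (by linarith)
  obtain ⟨b, rfl⟩ := two_dvd_of_two_dvd_sq (T := 4 * T) (S := a) (by linarith)
  obtain ⟨c, rfl⟩ := two_dvd_of_two_dvd_sq (T := T) (S := b) (by linarith)
  exact ⟨c, by ring⟩

theorem signForm_sum_eq {U : Type*} [Group U] [Fintype U] {s : U → ℤ} (hs : IsSignForm s) :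
    ∑ x, s x = (Fintype.card U : ℤ) - 2 * ((Finset.univ.filter fun x => s x = -1).card : ℤ) := by
  classical
  have h : ∀ x, s x = 1 - 2 * (if s x = -1 then 1 else 0 : ℤ) := fun x => by
    rcases hs.sign x with h | h <;> simp [h]
  calc ∑ x, s x = ∑ x, (1 - 2 * (if s x = -1 then 1 else 0 : ℤ)) :=
        Finset.sum_congr rfl fun x _ => h x
    _ = _ := by
      rw [Finset.sum_sub_distrib, ← Finset.mul_sum, Finset.sum_boole]
      simp

theorem card_le_sixteen {U : Type*} [Group U] [Fintype U] (hU : IsPGroup 2 U) {s t : U → ℤ}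
    (hs : IsSignForm s) (ht : IsSignForm t) (han : ∀ x, s x = 1 → t x = 1 → x = 1) :
    Fintype.card U ≤ 16 := by
  classical
  obtain ⟨n, hn⟩ := hU.exists_card_eq
  rw [Nat.card_eq_fintype_card] at hn
  by_contra hlt
  have h5 : 5 ≤ n := by
    by_contra h
    have : Fintype.card U ≤ 2 ^ 4 := hn ▸ Nat.pow_le_pow_right (by norm_num) (by omega)
    omega
  have h32 : (32 : ℤ) ∣ (Fintype.card U : ℤ) := by
    have : 2 ^ 5 ∣ Fintype.card U := hn ▸ pow_dvd_pow 2 h5
    exact_mod_cast this
  have hd : ∀ {r : U → ℤ}, IsSignForm r → (8 : ℤ) ∣ ∑ x, r x := fun hr =>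
    eight_dvd_of_thirtytwo_dvd_sq (h32.trans hr.card_dvd_sum_sq)
  have hsum : ∑ x, (1 + s x) * (1 + t x) = 4 := by
    rw [Finset.sum_eq_single (1 : U) ?_ (by simp)]
    · simp [hs.one, ht.one]
    · intro x _ hx
      rcases hs.sign x with h | h
      · rcases ht.sign x with h' | h'
        · exact absurd (han x h h') hx
        · simp [h']
      · simp [h]
  have hexp : ∑ x, (1 + s x) * (1 + t x) =
      (Fintype.card U : ℤ) + ∑ x, s x + ∑ x, t x + ∑ x, s x * t x := by
    have : ∀ x, (1 + s x) * (1 + t x) = 1 + s x + t x + s x * t x := fun x => by ring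
    simp only [this, Finset.sum_add_distrib]
    simp
  have h8 : (8 : ℤ) ∣ 4 := by
    rw [← hsum, hexp]
    exact ((((show (8 : ℤ) ∣ 32 by norm_num).trans h32).add (hd hs)).add (hd ht)).add
      (hd (hs.mul ht))
  omega

theorem card_filter_fixed_modEq {U : Type*} [Group U] [DecidableEq U] (a : MulAut U) {p : ℕ}
    [Fact p.Prime] (ha : a ^ p = 1) (T : Finset U) (hT : ∀ x, a x ∈ T ↔ x ∈ T) :
    (T.filter fun x => a x = x).card ≡ T.card [MOD p] := by
  let σ : Equiv.Perm U := MulAut.toPerm U a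
  have hσT : ∀ x, σ x ∈ T ↔ x ∈ T := hT
  let τ : Equiv.Perm {x // x ∈ T} := σ.subtypePerm hσT
  have hσ : σ ^ p = 1 := by rw [← map_pow, ha, map_one]
  have hτ : τ ^ p ^ 1 = 1 := by
    rw [pow_one]
    ext x
    simp [τ, Equiv.Perm.subtypePerm_pow, hσ]
  have h := Equiv.Perm.card_compl_support_modEq hτ
  have hcard : τ.supportᶜ.card = (T.filter fun x => a x = x).card := by
    refine Finset.card_bij' (fun x _ => (x : U))
      (fun x hx => ⟨x, (Finset.mem_filter.mp hx).1⟩) ?_ ?_ (fun _ _ => rfl) (fun _ _ => rfl)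
    · intro x hx
      rw [Finset.mem_compl, Equiv.Perm.notMem_support] at hx
      exact Finset.mem_filter.mpr ⟨x.2, congrArg Subtype.val hx⟩
    · intro x hx
      rw [Finset.mem_compl, Equiv.Perm.notMem_support]
      exact Subtype.ext (Finset.mem_filter.mp hx).2
  rwa [hcard, Fintype.card_coe] at h

/-- The fixed points of an automorphism, as a subgroup. -/
def fixedSub {U : Type*} [Group U] (a : MulAut U) : Subgroup U where
  carrier := {x | a x = x}
  one_mem' := map_one a
  mul_mem' := by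
    intro x y hx hy
    simp only [Set.mem_ofPred_eq] at hx hy ⊢
    rw [map_mul, hx, hy]
  inv_mem' := by
    intro x hx
    simp only [Set.mem_ofPred_eq] at hx ⊢
    rw [map_inv, hx]

theorem fixed_card {U : Type*} [Group U] [Fintype U] [DecidableEq U] (hU : IsPGroup 2 U)
    (a : MulAut U) {p : ℕ} [Fact p.Prime] (ha : a ^ p = 1) (ha1 : a ≠ 1) :
    ∃ n k, Fintype.card U = 2 ^ n ∧ (Finset.univ.filter fun x => a x = x).card = 2 ^ k ∧
      k < n ∧ 2 ^ k ≡ 2 ^ n [MOD p] := by
  obtain ⟨n, hn⟩ := hU.exists_card_eq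
  rw [Nat.card_eq_fintype_card] at hn
  obtain ⟨k, hk⟩ := (hU.to_subgroup (fixedSub a)).exists_card_eq
  have hc : Nat.card (fixedSub a) = (Finset.univ.filter fun x => a x = x).card := by
    rw [← Nat.card_eq_finsetCard]
    exact Nat.card_congr (Equiv.subtypeEquivRight fun x => by simp [fixedSub])
  rw [hc] at hk
  have hm := card_filter_fixed_modEq a ha Finset.univ (fun x => by simp)
  rw [Finset.card_univ, hk, hn] at hm
  refine ⟨n, k, hn, hk, ?_, hm⟩
  by_contra hnk
  apply ha1
  have hle : Fintype.card U ≤ (Finset.univ.filter fun x => a x = x).card := by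
    rw [hk, hn]
    exact Nat.pow_le_pow_right (by norm_num) (by omega)
  have hall := Finset.eq_univ_of_card _ (le_antisymm (Finset.card_le_univ _) hle)
  ext x
  have : x ∈ Finset.univ.filter fun x => a x = x := hall.symm ▸ Finset.mem_univ x
  simpa using this

theorem false_of_order_seven {U : Type*} [Group U] [Fintype U] (hU : IsPGroup 2 U)
    (hexp : ∀ x : U, x * x = 1) {s t : U → ℤ}
    (hs : IsSignForm s) (ht : IsSignForm t) (han : ∀ x, s x = 1 → t x = 1 → x = 1)
    (h16 : Fintype.card U ≤ 16) (a : MulAut U) (ha : a ^ 7 = 1) (ha1 : a ≠ 1)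
    (has : ∀ x, s (a x) = s x) (hat : ∀ x, t (a x) = t x) : False := by
  classical
  haveI : Fact (Nat.Prime 7) := ⟨by norm_num⟩
  have hinv : ∀ x : U, x⁻¹ = x := fun x => inv_eq_of_mul_eq_one_left (hexp x)
  have hcomm : ∀ x y : U, x * y = y * x := fun x y => by
    calc x * y = (x * y)⁻¹ := (hinv _).symm
      _ = y * x := by rw [mul_inv_rev, hinv, hinv]
  obtain ⟨n, k, hn, hk, hkn, hm⟩ := fixed_card hU a ha ha1
  let φ : U →* U := MonoidHom.mk' (fun x => a x * x) fun x y => by
    rw [map_mul]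
    calc a x * a y * (x * y) = a x * (a y * x) * y := by group
      _ = a x * (x * a y) * y := by rw [hcomm (a y) x]
      _ = a x * x * (a y * y) := by group
  let W : Subgroup U := φ.range
  have hker : Nat.card φ.ker = 2 ^ k := by
    rw [← hk, ← Nat.card_eq_finsetCard]
    refine Nat.card_congr (Equiv.subtypeEquivRight fun x => ?_)
    simp only [MonoidHom.mem_ker, Finset.mem_filter, Finset.mem_univ, true_and]
    show a x * x = 1 ↔ a x = x
    rw [mul_eq_one_iff_eq_inv, hinv]
  have hW : 2 ^ k * Nat.card W = 2 ^ n := by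
    rw [← hker, ← hn, ← Nat.card_eq_fintype_card, ← Subgroup.index_ker, Subgroup.card_mul_index]
  have hn4 : n ≤ 4 := by
    by_contra h
    have : 2 ^ 5 ≤ 2 ^ n := Nat.pow_le_pow_right (by norm_num) (by omega)
    omega
  have hW8 : Nat.card W = 8 ∧ 2 ^ k < 7 := by
    have : k < 5 := by omega
    interval_cases n <;> interval_cases k <;> simp [Nat.ModEq] at hm hW ⊢ <;> omega
  let T : Finset U := Finset.univ.filter fun x => x ∈ W
  have hTc : T.card = 8 := by
    rw [← hW8.1, ← Nat.card_eq_finsetCard]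
    exact Nat.card_congr (Equiv.subtypeEquivRight fun x => by simp [T])
  have hWa : ∀ x, a x ∈ W ↔ x ∈ W := by
    intro x
    constructor
    · rintro ⟨y, hy⟩
      refine ⟨a⁻¹ y, a.injective ?_⟩
      rw [← hy]
      show a (a (a⁻¹ y) * a⁻¹ y) = a y * y
      rw [map_mul, MulAut.apply_inv_self]
    · rintro ⟨y, rfl⟩
      exact ⟨a y, by show a (a y) * a y = a (a y * y); rw [map_mul]⟩
  have hTa : ∀ x, a x ∈ T ↔ x ∈ T := fun x => by simp [T, hWa]
  have hfix : ∀ x ∈ T, a x = x → x = 1 := by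
    intro x hx hax
    by_contra hx1
    have hmT := card_filter_fixed_modEq a ha T hTa
    have hle : (T.filter fun x => a x = x).card ≤ 2 ^ k := by
      rw [← hk]
      exact Finset.card_le_card (Finset.filter_subset_filter _ (Finset.subset_univ _))
    have h2 : 1 < (T.filter fun x => a x = x).card :=
      Finset.one_lt_card.mpr ⟨x, by simp [hx, hax], 1, by simp [T, W.one_mem], hx1⟩
    rw [hTc] at hmT
    unfold Nat.ModEq at hmT
    omega
  have hcase : ∀ {r : U → ℤ}, IsSignForm r → (∀ x, r (a x) = r x) → ∀ w ∈ W, r w ≠ -1 := by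
    intro r hr har w hw hrw
    let T' := T.filter fun x => r x = -1
    have hT' : ∀ x, a x ∈ T' ↔ x ∈ T' := fun x => by simp [T', hTa, har]
    have hne : ∀ x ∈ T', x ≠ 1 := by
      intro x hx h1
      have := (Finset.mem_filter.mp hx).2
      rw [h1, hr.one] at this
      norm_num at this
    have hf0 : (T'.filter fun x => a x = x).card = 0 := by
      rw [Finset.card_eq_zero]
      refine Finset.eq_empty_of_forall_notMem fun x hx => ?_
      obtain ⟨hx, hax⟩ := Finset.mem_filter.mp hx
      exact hne x hx (hfix x (Finset.mem_filter.mp hx).1 hax)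
    have hmT := card_filter_fixed_modEq a ha T' hT'
    rw [hf0] at hmT
    have hlt : T'.card ≤ 7 := by
      have h1 : (1 : U) ∈ T := by simp [T, W.one_mem]
      have : T' ⊆ T.erase 1 := fun x hx =>
        Finset.mem_erase.mpr ⟨hne x hx, (Finset.mem_filter.mp hx).1⟩
      have := Finset.card_le_card this
      rw [Finset.card_erase_of_mem h1, hTc] at this
      omega
    have hpos : 0 < T'.card := Finset.card_pos.mpr ⟨w, by simp [T', T, hw, hrw]⟩
    unfold Nat.ModEq at hmT
    have h7 : T'.card = 7 := by omega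
    have hWf : Fintype.card W = 8 := by rw [← Nat.card_eq_fintype_card, hW8.1]
    have hdvd := (hr.restrict W).card_dvd_sum_sq
    have hS : ∑ x : W, r x = -6 := by
      rw [← Finset.sum_subtype T (fun x => Finset.mem_filter.trans (and_iff_right (Finset.mem_univ x))) r,
        ← Finset.sum_filter_add_sum_filter_not T (fun x => r x = -1)]
      have e1 : ∑ x ∈ T.filter (fun x => r x = -1), r x = ∑ x ∈ T', (-1 : ℤ) :=
        Finset.sum_congr rfl fun x hx => (Finset.mem_filter.mp hx).2
      have e2 : ∑ x ∈ T.filter (fun x => ¬ r x = -1), r x =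
          ∑ x ∈ T.filter (fun x => ¬ r x = -1), (1 : ℤ) :=
        Finset.sum_congr rfl fun x hx =>
          (hr.sign x).resolve_right (Finset.mem_filter.mp hx).2
      have hc : T'.card + (T.filter fun x => ¬ r x = -1).card = T.card :=
        Finset.card_filter_add_card_filter_not _
      rw [e1, e2]
      simp only [Finset.sum_const, nsmul_eq_mul, mul_one, mul_neg, h7]
      have h1' : (T.filter fun x => ¬ r x = -1).card = 1 := by omega
      rw [h1']
      norm_num
    rw [hWf, hS] at hdvd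
    norm_num at hdvd
  have : 1 < Nat.card W := by omega
  have : Nontrivial W := Finite.one_lt_card_iff_nontrivial.mp this
  obtain ⟨w, hw⟩ := exists_ne (1 : W)
  refine hw (Subtype.ext (han w ?_ ?_))
  · exact (hs.sign w).resolve_right (hcase hs has w w.2)
  · exact (ht.sign w).resolve_right (hcase ht hat w w.2)

theorem false_of_orders_five_three {U : Type*} [Group U] [Fintype U] (hU : IsPGroup 2 U)
    {s t : U → ℤ} (hs : IsSignForm s) (ht : IsSignForm t)
    (han : ∀ x, s x = 1 → t x = 1 → x = 1) (h16 : Fintype.card U ≤ 16)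
    (a : MulAut U) (ha : a ^ 5 = 1) (ha1 : a ≠ 1) (has : ∀ x, s (a x) = s x)
    (hat : ∀ x, t (a x) = t x)
    (b : MulAut U) (hb : b ^ 3 = 1) (hb1 : b ≠ 1) (hbs : ∀ x, s (b x) = s x)
    (hbt : ∀ x, t (b x) = t x) : False := by
  classical
  haveI : Fact (Nat.Prime 5) := ⟨by norm_num⟩
  haveI : Fact (Nat.Prime 3) := ⟨by norm_num⟩
  obtain ⟨n, k, hn, hk, hkn, hm⟩ := fixed_card hU a ha ha1
  have hn4 : n ≤ 4 := by
    by_contra h
    have : 2 ^ 5 ≤ 2 ^ n := Nat.pow_le_pow_right (by norm_num) (by omega)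
    omega
  have hnk : n = 4 ∧ k = 0 := by
    have : k < 4 := by omega
    interval_cases n <;> interval_cases k <;> simp [Nat.ModEq] at hm ⊢
  obtain ⟨rfl, rfl⟩ := hnk
  have hfix : ∀ x, a x = x → x = 1 := by
    intro x hx
    exact Finset.card_le_one.mp (le_of_eq hk) x (by simp [hx]) 1 (by simp)
  let A : Finset U := Finset.univ.filter fun x => s x = -1 ∧ t x = 1
  let B : Finset U := Finset.univ.filter fun x => s x = 1 ∧ t x = -1
  let C : Finset U := Finset.univ.filter fun x => s x = -1 ∧ t x = -1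
  have hmod : ∀ T : Finset U, (∀ x, a x ∈ T ↔ x ∈ T) → (1 : U) ∉ T → T.card % 5 = 0 := by
    intro T hT h1
    have h0 : (T.filter fun x => a x = x).card = 0 := by
      rw [Finset.card_eq_zero]
      refine Finset.eq_empty_of_forall_notMem fun x hx => ?_
      obtain ⟨hxT, hax⟩ := Finset.mem_filter.mp hx
      exact h1 (hfix x hax ▸ hxT)
    have := card_filter_fixed_modEq a ha T hT
    rw [h0] at this
    unfold Nat.ModEq at this
    omega
  have hA : A.card % 5 = 0 :=
    hmod A (fun x => by simp [A, has, hat]) (by simp [A, hs.one])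
  have hB : B.card % 5 = 0 :=
    hmod B (fun x => by simp [B, has, hat]) (by simp [B, hs.one, ht.one])
  have hC : C.card % 5 = 0 :=
    hmod C (fun x => by simp [C, has, hat]) (by simp [C, hs.one])
  have hAB : Disjoint A B := Finset.disjoint_left.mpr fun x h h' => by
    simp [A, B] at h h'; rw [h.1] at h'; simp at h'
  have hAC : Disjoint A C := Finset.disjoint_left.mpr fun x h h' => by
    simp [A, C] at h h'; rw [h.2] at h'; simp at h'
  have hBC : Disjoint B C := Finset.disjoint_left.mpr fun x h h' => by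
    simp [B, C] at h h'; rw [h.1] at h'; simp at h'
  have hsum : A.card + B.card + C.card = 15 := by
    have he : (A ∪ B) ∪ C = Finset.univ.erase (1 : U) := by
      ext x
      simp only [A, B, C, Finset.mem_union, Finset.mem_filter, Finset.mem_univ, true_and,
        Finset.mem_erase, and_true]
      constructor
      · intro h hx
        subst hx
        simp [hs.one, ht.one] at h
      · intro hx
        rcases hs.sign x with h | h <;> rcases ht.sign x with h' | h'
        · exact absurd (han x h h') hx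
        all_goals simp [h, h']
    have := congrArg Finset.card he
    rw [Finset.card_union_of_disjoint (Finset.disjoint_union_left.mpr ⟨hAC, hBC⟩),
      Finset.card_union_of_disjoint hAB, Finset.card_erase_of_mem (Finset.mem_univ _),
      Finset.card_univ, hn] at this
    simpa using this
  have hev : ∀ {r : U → ℤ}, IsSignForm r → ∀ (P Q : Finset U), Disjoint P Q →
      (∀ x, r x = -1 ↔ x ∈ P ∪ Q) → (P.card + Q.card) % 2 = 0 := by
    intro r hr P Q hPQ hiff
    have hd : (4 : ℤ) ∣ ∑ x, r x := by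
      refine four_dvd_of_eight_dvd_sq (Dvd.dvd.trans ?_ hr.card_dvd_sum_sq)
      rw [hn]
      norm_num
    have e : (Finset.univ.filter fun x => r x = -1) = P ∪ Q := by
      ext x
      simp [hiff]
    rw [signForm_sum_eq hr, e, Finset.card_union_of_disjoint hPQ, hn] at hd
    omega
  have h1 := hev hs A C hAC fun x => by
    rcases hs.sign x with h | h <;> rcases ht.sign x with h' | h' <;> simp [A, C, h, h']
  have h2 := hev ht B C hBC fun x => by
    rcases hs.sign x with h | h <;> rcases ht.sign x with h' | h' <;> simp [B, C, h, h']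
  have h3 := hev (hs.mul ht) A B hAB fun x => by
    rcases hs.sign x with h | h <;> rcases ht.sign x with h' | h' <;> simp [A, B, h, h']
  have h5 : A.card = 5 ∧ B.card = 5 ∧ C.card = 5 := by omega
  obtain ⟨n', k', hn', hk', hkn', hm'⟩ := fixed_card hU b hb hb1
  have : n' = 4 := Nat.pow_right_injective (le_refl 2) (hn'.symm.trans hn)
  subst this
  have hF : ∀ T : Finset U, (∀ x, b x ∈ T ↔ x ∈ T) → T.card = 5 →
      2 ≤ (T.filter fun x => b x = x).card := by
    intro T hT hc
    have := card_filter_fixed_modEq b hb T hT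
    rw [hc] at this
    unfold Nat.ModEq at this
    omega
  have hA2 := hF A (fun x => by simp [A, hbs, hbt]) h5.1
  have hB2 := hF B (fun x => by simp [B, hbs, hbt]) h5.2.1
  have hC2 := hF C (fun x => by simp [C, hbs, hbt]) h5.2.2
  have hsub : (A.filter fun x => b x = x) ∪ (B.filter fun x => b x = x) ∪
      (C.filter fun x => b x = x) ⊆ Finset.univ.filter fun x => b x = x := by
    intro x hx
    simp only [Finset.mem_union, Finset.mem_filter] at hx ⊢
    rcases hx with (h | h) | h <;> exact ⟨Finset.mem_univ _, h.2⟩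
  have := Finset.card_le_card hsub
  rw [← Finset.filter_union, ← Finset.filter_union, Finset.filter_union,
    Finset.card_union_of_disjoint (Finset.disjoint_filter_filter
      (Finset.disjoint_union_left.mpr ⟨hAC, hBC⟩)), Finset.filter_union,
    Finset.card_union_of_disjoint (Finset.disjoint_filter_filter hAB), hk'] at this
  interval_cases k' <;> simp [Nat.ModEq] at hm' this ⊢ <;> omega

theorem prime_mem_of_pow_modEq {p k n : ℕ} (hp : p.Prime) (hkn : k < n) (hn : n ≤ 4)
    (hm : 2 ^ k ≡ 2 ^ n [MOD p]) : p = 2 ∨ p = 3 ∨ p = 5 ∨ p = 7 := by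
  have hd : p ∣ 2 ^ n - 2 ^ k :=
    (Nat.modEq_iff_dvd' (Nat.pow_le_pow_right (by norm_num) hkn.le)).mp hm
  have hle : p ≤ 2 ^ n - 2 ^ k := Nat.le_of_dvd (by
    have := Nat.pow_lt_pow_right (show 1 < 2 by norm_num) hkn; omega) hd
  have h16 : 2 ^ n ≤ 2 ^ 4 := Nat.pow_le_pow_right (by norm_num) hn
  have hp16 : p ≤ 16 := hle.trans ((Nat.sub_le _ _).trans (h16.trans (by norm_num)))
  have h2 := hp.two_le
  interval_cases p <;>
    first
      | (norm_num; done)
      | (exfalso; norm_num at hp; done)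
      | exact absurd hd (by interval_cases n <;> interval_cases k <;> decide)

/-- A group of automorphisms preserving an anisotropic pair of sign forms is solvable. -/
theorem core {U : Type*} [Group U] [Finite U] (hexp : ∀ x : U, x * x = 1) {s t : U → ℤ}
    (hs : IsSignForm s) (ht : IsSignForm t) (han : ∀ x, s x = 1 → t x = 1 → x = 1)
    (G : Subgroup (MulAut U)) (hGs : ∀ g ∈ G, ∀ x, s (g x) = s x)
    (hGt : ∀ g ∈ G, ∀ x, t (g x) = t x) : Group.IsSolvable G := by
  classical
  haveI := Fintype.ofFinite U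
  have hU : IsPGroup 2 U := fun x => ⟨1, by rw [pow_one, pow_two, hexp]⟩
  have h16 := card_le_sixteen hU hs ht han
  have hel : ∀ p : ℕ, p.Prime → p ∣ Nat.card G → ∃ g ∈ G, g ^ p = 1 ∧ g ≠ 1 := by
    intro p hp hd
    haveI := Fact.mk hp
    obtain ⟨g, hg⟩ := exists_prime_orderOf_dvd_card' p hd
    refine ⟨g, g.2, ?_, ?_⟩
    · rw [← Subgroup.coe_pow, ← hg, pow_orderOf_eq_one, Subgroup.coe_one]
    · intro h
      have : g = 1 := Subtype.ext h
      rw [this, orderOf_one] at hg
      exact hp.one_lt.ne hg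
  have hprimes : ∀ p : ℕ, p.Prime → p ∣ Nat.card G → p = 2 ∨ p = 3 ∨ p = 5 := by
    intro p hp hd
    haveI := Fact.mk hp
    obtain ⟨g, hgG, hg, hg1⟩ := hel p hp hd
    obtain ⟨n, k, hn, -, hkn, hm⟩ := fixed_card hU g hg hg1
    have hn4 : n ≤ 4 := by
      by_contra h
      have : 2 ^ 5 ≤ 2 ^ n := Nat.pow_le_pow_right (by norm_num) (by omega)
      omega
    rcases prime_mem_of_pow_modEq hp hkn hn4 hm with h | h | h | h
    · exact Or.inl h
    · exact Or.inr (Or.inl h)
    · exact Or.inr (Or.inr h)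
    · subst h
      exact (false_of_order_seven hU hexp hs ht han h16 g hg hg1 (hGs g hgG) (hGt g hgG)).elim
  obtain ⟨q, hq, hall⟩ : ∃ q, q.Prime ∧
      ∀ p : ℕ, p.Prime → p ∣ Nat.card G → p = 2 ∨ p = q := by
    by_cases h5 : 5 ∣ Nat.card G
    · refine ⟨5, by norm_num, fun p hp hd => ?_⟩
      rcases hprimes p hp hd with h | h | h
      · exact Or.inl h
      · subst h
        obtain ⟨a, haG, ha, ha1⟩ := hel 5 (by norm_num) h5
        obtain ⟨b, hbG, hb, hb1⟩ := hel 3 hp hd
        exact (false_of_orders_five_three hU hs ht han h16 a ha ha1 (hGs a haG) (hGt a haG)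
          b hb hb1 (hGs b hbG) (hGt b hbG)).elim
      · exact Or.inr h
    · refine ⟨3, by norm_num, fun p hp hd => ?_⟩
      rcases hprimes p hp hd with h | h | h
      · exact Or.inl h
      · exact Or.inr h
      · exact absurd (h ▸ hd) h5
  haveI : Fact (Nat.Prime 2) := ⟨Nat.prime_two⟩
  have hpos : Nat.card G ≠ 0 := Nat.card_pos.ne'
  obtain ⟨a, m, hm2, hcard⟩ := Nat.exists_eq_pow_mul_and_not_dvd hpos 2 (by norm_num)
  have hm : m = q ^ m.primeFactorsList.length :=
    Nat.eq_prime_pow_of_unique_prime_dvd (fun h => hm2 (h ▸ dvd_zero 2)) fun {d} hd hdm => by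
      rcases hall d hd (hcard ▸ hdm.mul_left _) with h | h
      · exact absurd (h ▸ hdm) hm2
      · exact h
  exact Cfsg.Agent.S0144.result 2 q a _ Nat.prime_two hq (hcard.trans (by rw [← hm]))

/-- An automorphism of odd order fixing a subgroup of a 2-group pointwise and moving an element
within its coset fixes that element. -/
theorem fixed_of_coset {X : Type*} [Group X] [Finite X] (h2 : IsPGroup 2 X) (a : MulAut X)
    {m : ℕ} (hm : Odd m) (ham : a ^ m = 1) (x z : X) (hx : a x = x * z) (hz : a z = z) :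
    a x = x := by
  have hpow : ∀ j : ℕ, (a ^ j) x = x * z ^ j := by
    intro j
    induction j with
    | zero => simp
    | succ j ih => rw [pow_succ', MulAut.mul_apply, ih, map_mul, hx, map_pow, hz, mul_assoc,
        ← pow_succ']
  have h1 := hpow m
  rw [ham, MulAut.one_apply] at h1
  have hzm : z ^ m = 1 := (mul_eq_left).mp h1.symm
  obtain ⟨k, hk⟩ := h2 z
  have hd : orderOf z ∣ Nat.gcd (2 ^ k) m :=
    Nat.dvd_gcd (orderOf_dvd_of_pow_eq_one hk) (orderOf_dvd_of_pow_eq_one hzm)
  have hco : Nat.Coprime (2 ^ k) m := Nat.Coprime.pow_left k (Nat.coprime_two_left.mpr hm)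
  rw [hco.gcd_eq_one, Nat.dvd_one, orderOf_eq_one_iff] at hd
  rw [hx, hd, mul_one]

theorem involutions_commute {X : Type*} [Group X] [Finite X] (h2 : IsPGroup 2 X)
    (h3 : Nat.card {x : X // orderOf x = 2} = 3) (x y : X) (hx : x * x = 1) (hy : y * y = 1) :
    x * y = y * x := by
  classical
  by_contra hne
  have hxi : x⁻¹ = x := inv_eq_of_mul_eq_one_left hx
  have hyi : y⁻¹ = y := inv_eq_of_mul_eq_one_left hy
  have hord : ∀ u : X, u * u = 1 → u ≠ 1 → orderOf u = 2 := fun u hu hu1 =>
    orderOf_eq_prime (by rw [pow_two, hu]) hu1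
  have hx1 : x ≠ 1 := fun h => hne (by rw [h, one_mul, mul_one])
  have hy1 : y ≠ 1 := fun h => hne (by rw [h, one_mul, mul_one])
  have hu : y * x * y * (y * x * y) = 1 := by
    calc y * x * y * (y * x * y) = y * x * (y * y) * x * y := by group
      _ = 1 := by rw [hy, mul_one, mul_assoc y x x, hx, mul_one, hy]
  have hv : x * y * x * (x * y * x) = 1 := by
    calc x * y * x * (x * y * x) = x * y * (x * x) * y * x := by group
      _ = 1 := by rw [hx, mul_one, mul_assoc x y y, hy, mul_one, hx]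
  have hu1 : y * x * y ≠ 1 := fun h => hx1 (by
    calc x = y⁻¹ * (y * x * y) * y⁻¹ := by group
      _ = 1 := by rw [h, mul_one, hyi, hy])
  have hv1 : x * y * x ≠ 1 := fun h => hy1 (by
    calc y = x⁻¹ * (x * y * x) * x⁻¹ := by group
      _ = 1 := by rw [h, mul_one, hxi, hx])
  have d1 : x ≠ y := fun h => hne (by rw [h])
  have d2 : x ≠ y * x * y := fun h => hne (by
    calc x * y = y * x * y * y := by rw [← h]
      _ = y * x * (y * y) := by group
      _ = y * x := by rw [hy, mul_one])
  have d3 : x ≠ x * y * x := fun h => d1 (by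
    have h' : y * x = 1 := by
      calc y * x = x⁻¹ * (x * y * x) := by group
        _ = 1 := by rw [← h, inv_mul_cancel]
    exact (eq_inv_of_mul_eq_one_left h').symm ▸ hxi.symm)
  have d4 : y ≠ y * x * y := fun h => d1 (by
    have h' : x * y = 1 := by
      calc x * y = y⁻¹ * (y * x * y) := by group
        _ = 1 := by rw [← h, inv_mul_cancel]
    exact (eq_inv_of_mul_eq_one_left h').trans hyi)
  have d5 : y ≠ x * y * x := fun h => hne (by
    calc x * y = x * (x * y * x) := by rw [← h]
      _ = (x * x) * y * x := by group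
      _ = y * x := by rw [hx, one_mul])
  have d6 : y * x * y ≠ x * y * x := fun h => by
    have h3 : (x * y) ^ 3 = 1 := by
      calc (x * y) ^ 3 = x * (y * x * y) * (x * y) := by rw [pow_succ, pow_two]; group
        _ = x * (x * y * x) * (x * y) := by rw [h]
        _ = (x * x) * y * (x * x) * y := by group
        _ = 1 := by rw [hx, one_mul, mul_one, hy]
    obtain ⟨k, hk⟩ := h2 (x * y)
    have hd : orderOf (x * y) ∣ Nat.gcd (2 ^ k) 3 :=
      Nat.dvd_gcd (orderOf_dvd_of_pow_eq_one hk) (orderOf_dvd_of_pow_eq_one h3)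
    have hco : Nat.Coprime (2 ^ k) 3 := Nat.Coprime.pow_left k (by norm_num)
    rw [hco.gcd_eq_one, Nat.dvd_one, orderOf_eq_one_iff] at hd
    exact d1 ((eq_inv_of_mul_eq_one_left hd).trans hyi)
  let S : Finset X := {x, y, y * x * y, x * y * x}
  have hS : S.card = 4 := by
    simp only [S]
    rw [Finset.card_insert_of_notMem, Finset.card_insert_of_notMem,
      Finset.card_insert_of_notMem, Finset.card_singleton]
    · simp only [Finset.mem_singleton]
      exact d6
    · simp only [Finset.mem_insert, Finset.mem_singleton, not_or]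
      exact ⟨d4, d5⟩
    · simp only [Finset.mem_insert, Finset.mem_singleton, not_or]
      exact ⟨d1, d2, d3⟩
  have hmem : ∀ u ∈ S, orderOf u = 2 := by
    intro u hu'
    simp only [S, Finset.mem_insert, Finset.mem_singleton] at hu'
    rcases hu' with rfl | rfl | rfl | rfl
    exacts [hord _ hx hx1, hord _ hy hy1, hord _ hu hu1, hord _ hv hv1]
  have := Nat.card_le_card_of_injective
    (fun u : S => (⟨u, hmem u u.2⟩ : {x : X // orderOf x = 2}))
    (fun u v huv => Subtype.ext (congrArg Subtype.val huv :))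
  rw [h3, Nat.card_eq_fintype_card, Fintype.card_coe, hS] at this
  omega

/-- Two characters separating the elements of an elementary abelian group of order at most 4. -/
theorem exists_separating_signs {V : Type*} [Group V] [Finite V] (hexp : ∀ x : V, x * x = 1)
    (hc : Nat.card V ≤ 4) : ∃ c d : V → ℤ, (∀ x, c x = 1 ∨ c x = -1) ∧
      (∀ x, d x = 1 ∨ d x = -1) ∧ (∀ x y, c (x * y) = c x * c y) ∧
      (∀ x y, d (x * y) = d x * d y) ∧ ∀ x, c x = 1 → d x = 1 → x = 1 := by
  classical
  have hV : IsPGroup 2 V := fun x => ⟨1, by rw [pow_one, pow_two, hexp]⟩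
  haveI : Fact (Nat.Prime 2) := ⟨Nat.prime_two⟩
  let χ : Subgroup V → V → ℤ := fun H x => if x ∈ H then 1 else -1
  have hχs : ∀ H x, χ H x = 1 ∨ χ H x = -1 := fun H x => by
    by_cases h : x ∈ H <;> simp [χ, h]
  have hχm : ∀ H : Subgroup V, H.index = 2 → ∀ x y, χ H (x * y) = χ H x * χ H y := by
    intro H hH x y
    have := Subgroup.mul_mem_iff_of_index_two hH (a := x) (b := y)
    by_cases hx : x ∈ H <;> by_cases hy : y ∈ H <;> simp [χ, hx, hy, this]
  have hone : ∀ {H : Subgroup V} {x}, χ H x = 1 → x ∈ H := by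
    intro H x h
    by_contra hx
    simp [χ, hx] at h
  obtain ⟨n, hn⟩ := hV.exists_card_eq
  have hn2 : n ≤ 2 := by
    by_contra h
    have : 2 ^ 3 ≤ 2 ^ n := Nat.pow_le_pow_right (by norm_num) (by omega)
    omega
  interval_cases n
  · haveI : Subsingleton V := (Nat.card_eq_one_iff_unique.mp (by simpa using hn)).1
    exact ⟨fun _ => 1, fun _ => 1, by simp, by simp, by simp, by simp,
      fun x _ _ => Subsingleton.elim _ _⟩
  · have hidx : (⊥ : Subgroup V).index = 2 := by rw [Subgroup.index_bot, hn]; norm_num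
    exact ⟨χ ⊥, χ ⊥, hχs _, hχs _, hχm _ hidx, hχm _ hidx, fun x h _ => by simpa using hone h⟩
  · haveI : Fintype V := Fintype.ofFinite V
    have h4 : Fintype.card V = 4 := by rw [← Nat.card_eq_fintype_card, hn]; norm_num
    obtain ⟨a, ha⟩ := Fintype.exists_ne_of_one_lt_card (by omega : 1 < Fintype.card V) 1
    obtain ⟨b, hb⟩ : ∃ b, b ∉ ({1, a} : Finset V) := by
      by_contra h
      push_neg at h
      have := Finset.card_le_card (fun x _ => h x : (Finset.univ : Finset V) ⊆ {1, a})
      rw [Finset.card_univ, h4] at this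
      have := Finset.card_le_two (a := (1 : V)) (b := a)
      omega
    simp only [Finset.mem_insert, Finset.mem_singleton, not_or] at hb
    have hidx : ∀ u : V, u ≠ 1 → (Subgroup.zpowers u).index = 2 := by
      intro u hu
      have h := Subgroup.card_mul_index (Subgroup.zpowers u)
      rw [Nat.card_zpowers, orderOf_eq_prime (by rw [pow_two, hexp]) hu, hn] at h
      omega
    refine ⟨χ (Subgroup.zpowers a), χ (Subgroup.zpowers b), hχs _, hχs _, hχm _ (hidx a ha),
      hχm _ (hidx b hb.1), fun x h1 h2 => ?_⟩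
    have hmem : ∀ {u}, x ∈ Subgroup.zpowers u → x = 1 ∨ x = u := by
      intro u hx
      obtain ⟨j, rfl⟩ := Subgroup.mem_zpowers_iff.mp hx
      have h2 : u ^ (2 : ℤ) = 1 := by rw [zpow_ofNat, pow_two, hexp]
      rcases Int.emod_two_eq j with h | h
      · left
        rw [← Int.emod_add_mul_ediv j 2, h, zero_add, zpow_mul, h2, one_zpow]
      · right
        rw [← Int.emod_add_mul_ediv j 2, h, zpow_add, zpow_mul, h2, one_zpow, mul_one, zpow_one]
    rcases hmem (hone h1) with h | h
    · exact h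
    · rcases hmem (hone h2) with h' | h'
      · exact h'
      · exact absurd (h'.symm.trans h) hb.2

/-- If X is a finite 2-group containing exactly three involutions, then the automorphism group of X is solvable. -/
theorem result {X : Type*} [Group X] [Finite X] (h2 : IsPGroup 2 X) (h3 : Nat.card {x : X // orderOf x = 2} = 3) : Group.IsSolvable (MulAut X) := by

  classical
  haveI : Fact (Nat.Prime 2) := ⟨Nat.prime_two⟩
  -- the action on the involutions
  let ρ : MulAut X →* Equiv.Perm {x : X // orderOf x = 2} :=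
    { toFun := fun a => a.toEquiv.subtypeEquiv fun x => by
        show orderOf x = 2 ↔ orderOf (a x) = 2
        rw [MulEquiv.orderOf_eq]
      map_one' := rfl
      map_mul' := fun _ _ => rfl }
  haveI : Group.IsSolvable (Equiv.Perm {x : X // orderOf x = 2}) := by
    haveI : Fintype {x : X // orderOf x = 2} := Fintype.ofFinite _
    have hc : Nat.card (Equiv.Perm {x : X // orderOf x = 2}) = 2 ^ 1 * 3 ^ 1 := by
      rw [Nat.card_eq_fintype_card, Fintype.card_perm, ← Nat.card_eq_fintype_card, h3]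
      rfl
    exact Cfsg.Agent.S0144.result 2 3 1 1 Nat.prime_two Nat.prime_three hc
  suffices Group.IsSolvable ρ.ker from
    Group.isSolvable_of_ker_le_range ρ.ker.subtype ρ (by simp)
  have hfixV : ∀ a ∈ ρ.ker, ∀ x : X, x * x = 1 → a x = x := by
    intro a ha x hx
    by_cases hx1 : x = 1
    · rw [hx1, map_one]
    · have ho : orderOf x = 2 := orderOf_eq_prime (by rw [pow_two, hx]) hx1
      exact congrArg Subtype.val (Equiv.ext_iff.mp (MonoidHom.mem_ker.mp ha) ⟨x, ho⟩)
  -- a critical subgroup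
  obtain ⟨C, hC, hC1, hC2, hC3⟩ := Cfsg.Agent.S0093.result h2
  have hCX : ∀ (a : MulAut X) (x : X), a x ∈ C ↔ x ∈ C := by
    intro a x
    have := hC.fixed a
    exact ⟨fun h => (SetLike.ext_iff.mp this x).mp (Subgroup.mem_comap.mpr h),
      fun h => Subgroup.mem_comap.mp ((SetLike.ext_iff.mp this x).mpr h)⟩
  -- commutators and squares of `C` are central in `C`
  have hcomC : ∀ x ∈ C, ∀ y ∈ C, ∀ w ∈ C, ⁅x, y⁆ * w = w * ⁅x, y⁆ := by
    intro x hx y hy w hw
    have := (hC2 (Subgroup.commutator_mem_commutator hx (Subgroup.mem_top y))).2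
    exact (Subgroup.mem_centralizer_iff.mp this w hw).symm
  have hsqC : ∀ x ∈ C, ∀ w ∈ C, x * x * w = w * (x * x) := by
    intro x hx w hw
    have hmem : x * x ∈ Subgroup.centralizer (C : Set X) :=
      hC1 ⟨⟨x, hx⟩ ^ 2, Cfsg.Agent.Lib.Cores.pow_mem_frattini (h2.to_subgroup C) ⟨x, hx⟩,
        by simp [pow_two]⟩
    exact (Subgroup.mem_centralizer_iff.mp hmem w hw).symm
  -- `[x, y] ^ 2 = 1` in `C`
  have hcomsq : ∀ x ∈ C, ∀ y ∈ C, ⁅x, y⁆ * ⁅x, y⁆ = 1 := by
    intro x hx y hy
    have e : ⁅x * x, y⁆ = ⁅x, y⁆ * ⁅x, y⁆ := by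
      calc ⁅x * x, y⁆ = x * ⁅x, y⁆ * x⁻¹ * ⁅x, y⁆ := by simp only [commutatorElement_def]; group
        _ = _ := by rw [(hcomC x hx y hy x hx).symm, mul_inv_cancel_right]
    rw [← e, commutatorElement_eq_one_iff_mul_comm]
    exact hsqC x hx y hy
  -- `K = {x ∈ C | x ^ 4 = 1}`
  have hsqmul : ∀ x ∈ C, ∀ y ∈ C, x * y * (x * y) = x * x * (y * y) * ⁅y, x⁆ := by
    intro x hx y hy
    calc x * y * (x * y) = x * ⁅y, x⁆ * x * y * y := by simp only [commutatorElement_def]; group
      _ = x * x * ⁅y, x⁆ * (y * y) := by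
        rw [mul_assoc x ⁅y, x⁆ x, hcomC y hy x hx x hx]; group
      _ = x * x * (y * y * ⁅y, x⁆) := by
        rw [mul_assoc, hcomC y hy x hx (y * y) (C.mul_mem hy hy)]
      _ = _ := by group
  have hfour : ∀ x ∈ C, ∀ y ∈ C, x * x * (x * x) = 1 → y * y * (y * y) = 1 →
      x * y * (x * y) * (x * y * (x * y)) = 1 := by
    intro x hx y hy hx4 hy4
    rw [hsqmul x hx y hy]
    have c1 := hsqC x hx
    have c2 := hsqC y hy
    have c3 := hcomC y hy x hx
    have hyx : ⁅y, x⁆ ∈ C := by
      rw [commutatorElement_def]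
      exact C.mul_mem (C.mul_mem (C.mul_mem hy hx) (C.inv_mem hy)) (C.inv_mem hx)
    calc x * x * (y * y) * ⁅y, x⁆ * (x * x * (y * y) * ⁅y, x⁆)
        = x * x * (y * y) * (⁅y, x⁆ * (x * x)) * (y * y) * ⁅y, x⁆ := by group
      _ = x * x * ((y * y) * (x * x)) * (⁅y, x⁆ * (y * y)) * ⁅y, x⁆ := by
        rw [c3 _ (C.mul_mem hx hx)]; group
      _ = (x * x * (x * x)) * (y * y * (y * y)) * (⁅y, x⁆ * ⁅y, x⁆) := by
        rw [c2 _ (C.mul_mem hx hx), c3 _ (C.mul_mem hy hy)]; group
      _ = 1 := by rw [hx4, hy4, hcomsq y hy x hx, one_mul, one_mul]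
  let K : Subgroup X :=
    { carrier := {x | x ∈ C ∧ x * x * (x * x) = 1}
      one_mem' := ⟨C.one_mem, by simp⟩
      mul_mem' := fun {x y} hx hy => ⟨C.mul_mem hx.1 hy.1, hfour x hx.1 y hy.1 hx.2 hy.2⟩
      inv_mem' := fun {x} hx => ⟨C.inv_mem hx.1, by
        calc x⁻¹ * x⁻¹ * (x⁻¹ * x⁻¹) = (x * x * (x * x))⁻¹ := by group
          _ = 1 := by rw [hx.2, inv_one]⟩ }
  have hK : ∀ x, x ∈ K ↔ x ∈ C ∧ x * x * (x * x) = 1 := fun x => Iff.rfl
  -- `W`, the involutions of `C`
  let W : Subgroup X :=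
    { carrier := {x | x ∈ C ∧ x * x = 1}
      one_mem' := ⟨C.one_mem, by simp⟩
      mul_mem' := fun {x y} hx hy => ⟨C.mul_mem hx.1 hy.1, by
        calc x * y * (x * y) = x * (y * x) * y := by group
          _ = x * x * (y * y) := by rw [← involutions_commute h2 h3 x y hx.2 hy.2]; group
          _ = 1 := by rw [hx.2, hy.2, one_mul]⟩
      inv_mem' := fun {x} hx => ⟨C.inv_mem hx.1, by
        calc x⁻¹ * x⁻¹ = (x * x)⁻¹ := by group
          _ = 1 := by rw [hx.2, inv_one]⟩ }
  have hW : ∀ x, x ∈ W ↔ x ∈ C ∧ x * x = 1 := fun x => Iff.rfl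
  -- `K₁`, the centralizer of `W` in `K`
  let K₁ : Subgroup X := K ⊓ Subgroup.centralizer (W : Set X)
  have hK1 : ∀ x, x ∈ K₁ ↔ x ∈ K ∧ ∀ w ∈ W, w * x = x * w := fun x =>
    and_congr Iff.rfl Subgroup.mem_centralizer_iff
  have haW : ∀ a ∈ ρ.ker, ∀ w ∈ W, a w = w := fun a ha w hw => hfixV a ha w hw.2
  have haK : ∀ (a : MulAut X) x, a x ∈ K ↔ x ∈ K := fun a x => by
    rw [hK, hK, hCX, ← map_mul, ← map_mul, map_eq_one_iff a a.injective]
  have haK1 : ∀ a ∈ ρ.ker, ∀ x, a x ∈ K₁ ↔ x ∈ K₁ := by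
    intro a ha x
    rw [hK1, hK1, haK]
    refine and_congr Iff.rfl ⟨fun h w hw => a.injective ?_, fun h w hw => ?_⟩
    · rw [map_mul, map_mul, haW a ha w hw]
      exact h w hw
    · rw [← haW a ha w hw, ← map_mul, ← map_mul, h w hw]
  have hWK1 : W ≤ K₁ := fun w hw => (hK1 w).mpr ⟨⟨hw.1, by rw [hw.2, one_mul]⟩,
    fun v hv => involutions_commute h2 h3 v w hv.2 hw.2⟩
  have hsqW : ∀ x ∈ K, x * x ∈ W := fun x hx => ⟨C.mul_mem hx.1 hx.1, hx.2⟩
  have hcomW : ∀ x ∈ C, ∀ y ∈ C, ⁅x, y⁆ ∈ W := fun x hx y hy => ⟨by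
    rw [commutatorElement_def]
    exact C.mul_mem (C.mul_mem (C.mul_mem hx hy) (C.inv_mem hx)) (C.inv_mem hy),
    hcomsq x hx y hy⟩
  -- the quotient `U = K₁ / W`
  let WK : Subgroup K₁ := W.subgroupOf K₁
  haveI : WK.Normal := ⟨fun w hw g => by
    have h : (w : X) * (g : X) = g * w :=
      ((hK1 _).mp g.2).2 _ (Subgroup.mem_subgroupOf.mp hw)
    have : g * w * g⁻¹ = w := Subtype.ext (by
      show (g : X) * w * (g : X)⁻¹ = w
      rw [← h, mul_inv_cancel_right])
    rwa [this]⟩
  let π : K₁ →* K₁ ⧸ WK := QuotientGroup.mk' WK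
  have hπsurj : Function.Surjective π := QuotientGroup.mk'_surjective _
  have hπ1 : ∀ x : K₁, π x = 1 ↔ (x : X) ∈ W := fun x =>
    (QuotientGroup.eq_one_iff x).trans Subgroup.mem_subgroupOf
  have hUexp : ∀ u : K₁ ⧸ WK, u * u = 1 := by
    intro u
    obtain ⟨x, rfl⟩ := hπsurj u
    rw [← map_mul, hπ1]
    exact hsqW _ ((hK1 _).mp x.2).1
  -- signs of the squaring map
  have hWexp : ∀ x : W, x * x = 1 := fun x => Subtype.ext x.2.2
  have hWcard : Nat.card W ≤ 4 := by
    haveI : Fintype {x : X // orderOf x = 2} := Fintype.ofFinite _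
    have hinj : Function.Injective (fun w : W => (if h : orderOf (w : X) = 2
        then some ⟨w, h⟩ else none : Option {x : X // orderOf x = 2})) := by
      intro v w hvw
      have hone : ∀ u : W, ¬ orderOf (u : X) = 2 → (u : X) = 1 := fun u hu => by
        by_contra hu1
        exact hu (orderOf_eq_prime (by rw [pow_two, u.2.2]) hu1)
      simp only at hvw
      apply Subtype.ext
      split_ifs at hvw with h h'
      · simpa using hvw
      · rw [hone v h, hone w (by assumption)]
    have := Nat.card_le_card_of_injective _ hinj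
    rw [Nat.card_eq_fintype_card (α := Option _), Fintype.card_option,
      ← Nat.card_eq_fintype_card, h3] at this
    exact this
  obtain ⟨c, d, hcs, hds, hcm, hdm, hsep⟩ := exists_separating_signs hWexp hWcard
  let q₀ : K₁ → W := fun x => ⟨(x : X) * x, hsqW _ ((hK1 _).mp x.2).1⟩
  have hq0W : ∀ (x : K₁) (w : K₁), (w : X) ∈ W → q₀ (x * w) = q₀ x := by
    intro x w hw
    apply Subtype.ext
    show (x : X) * w * ((x : X) * w) = (x : X) * x
    calc (x : X) * w * ((x : X) * w) = (x : X) * ((w : X) * x) * w := by group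
      _ = (x : X) * x * ((w : X) * w) := by rw [((hK1 _).mp x.2).2 _ hw]; group
      _ = (x : X) * x := by rw [hw.2, mul_one]
  have hq0mul : ∀ x y : K₁, q₀ (x * y) = q₀ x * q₀ y *
      ⟨⁅(y : X), (x : X)⁆, hcomW _ ((hK1 _).mp y.2).1.1 _ ((hK1 _).mp x.2).1.1⟩ :=
    fun x y => Subtype.ext (hsqmul _ ((hK1 _).mp x.2).1.1 _ ((hK1 _).mp y.2).1.1)
  have hform : ∀ e : W → ℤ, (∀ x, e x = 1 ∨ e x = -1) → (∀ x y, e (x * y) = e x * e y) →
      ∀ (sec : K₁ ⧸ WK → K₁), (∀ u, π (sec u) = u) →
      IsSignForm (fun u => e (q₀ (sec u))) ∧ ∀ x : K₁, e (q₀ (sec (π x))) = e (q₀ x) := by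
    intro e he hem sec hsec
    have hind : ∀ x : K₁, e (q₀ (sec (π x))) = e (q₀ x) := by
      intro x
      have h : ((x⁻¹ * sec (π x) : K₁) : X) ∈ W := by
        rw [← hπ1, map_mul, map_inv, hsec, inv_mul_cancel]
      have h' := hq0W x (x⁻¹ * sec (π x)) h
      rw [mul_inv_cancel_left] at h'
      rw [h']
    have he1 : e 1 = 1 := by
      have := hem 1 1
      rw [one_mul] at this
      rcases he 1 with h | h
      · exact h
      · rw [h] at this; norm_num at this
    refine ⟨⟨fun u => he _, ?_, ?_⟩, hind⟩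
    · show e (q₀ (sec 1)) = 1
      rw [← map_one π, hind, show q₀ 1 = 1 from Subtype.ext (by simp [q₀]), he1]
    · intro u v w
      obtain ⟨x, rfl⟩ := hπsurj u
      obtain ⟨y, rfl⟩ := hπsurj v
      obtain ⟨z, rfl⟩ := hπsurj w
      simp only [← map_mul, hind]
      -- the polarization is the commutator pairing
      have key : ∀ g h : K₁, e (q₀ (g * h)) * e (q₀ g) * e (q₀ h) =
          e ⟨⁅(h : X), (g : X)⁆, hcomW _ ((hK1 _).mp h.2).1.1 _ ((hK1 _).mp g.2).1.1⟩ := by
        intro g h
        rw [hq0mul, hem, hem]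
        rcases he (q₀ g) with a | a <;> rcases he (q₀ h) with b | b <;> simp [a, b]
      rw [key, key, key, ← hem]
      congr 1
      apply Subtype.ext
      show ⁅(z : X), (x : X) * y⁆ = ⁅(z : X), (x : X)⁆ * ⁅(z : X), (y : X)⁆
      have hzC := ((hK1 _).mp z.2).1.1
      have hyC := ((hK1 _).mp y.2).1.1
      have hxC := ((hK1 _).mp x.2).1.1
      calc ⁅(z : X), (x : X) * y⁆ = ⁅(z : X), (x : X)⁆ * ((x : X) * ⁅(z : X), (y : X)⁆) *
            (x : X)⁻¹ := by simp only [commutatorElement_def]; group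
        _ = _ := by rw [← hcomC _ hzC _ hyC _ hxC]; group
  let sec : K₁ ⧸ WK → K₁ := Function.surjInv hπsurj
  have hsec : ∀ u, π (sec u) = u := Function.surjInv_eq hπsurj
  obtain ⟨hs, hsi⟩ := hform c hcs hcm sec hsec
  obtain ⟨ht, hti⟩ := hform d hds hdm sec hsec
  have han : ∀ u, c (q₀ (sec u)) = 1 → d (q₀ (sec u)) = 1 → u = 1 := by
    intro u h1 h2'
    rw [← hsec u, hπ1]
    exact ⟨((hK1 _).mp (sec u).2).1.1, congrArg Subtype.val (hsep _ h1 h2')⟩
  -- the action on `U`
  let res : ρ.ker →* MulAut K₁ :=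
    { toFun := fun a =>
        { toFun := fun x => ⟨(a : MulAut X) x, (haK1 a a.2 x).mpr x.2⟩
          invFun := fun x => ⟨((a⁻¹ : ρ.ker) : MulAut X) x, (haK1 _ (a⁻¹).2 x).mpr x.2⟩
          left_inv := fun x => Subtype.ext (by simp)
          right_inv := fun x => Subtype.ext (by simp)
          map_mul' := fun x y => Subtype.ext (map_mul _ _ _) }
      map_one' := rfl
      map_mul' := fun _ _ => rfl }
  have hWKinv : ∀ a : ρ.ker, WK.map (res a : K₁ →* K₁) = WK := by
    intro a
    ext x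
    constructor
    · rintro ⟨y, hy, rfl⟩
      show (a : MulAut X) (y : X) ∈ W
      rw [haW a a.2 _ (Subgroup.mem_subgroupOf.mp hy)]
      exact hy
    · intro hx
      exact ⟨x, hx, Subtype.ext (haW a a.2 _ (Subgroup.mem_subgroupOf.mp hx))⟩
  let ψ : ρ.ker →* MulAut (K₁ ⧸ WK) :=
    { toFun := fun a => QuotientGroup.congr WK WK (res a) (hWKinv a)
      map_one' := by
        ext u
        obtain ⟨x, rfl⟩ := hπsurj u
        simp [π]
      map_mul' := fun a b => by
        ext u
        obtain ⟨x, rfl⟩ := hπsurj u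
        simp [π] }
  have hψ : ∀ (a : ρ.ker) (x : K₁), ψ a (π x) = π (res a x) := fun a x => rfl
  have hpres : ∀ (e : W → ℤ), (∀ x : K₁, e (q₀ (sec (π x))) = e (q₀ x)) →
      ∀ g ∈ ψ.range, ∀ u, e (q₀ (sec (g u))) = e (q₀ (sec u)) := by
    rintro e he g ⟨a, rfl⟩ u
    obtain ⟨x, rfl⟩ := hπsurj u
    rw [hψ, he, he]
    congr 1
    apply Subtype.ext
    show (a : MulAut X) x * (a : MulAut X) x = (x : X) * x
    rw [← map_mul, haW a a.2 _ (hsqW _ ((hK1 _).mp x.2).1)]
  haveI : Group.IsSolvable ψ.range := core hUexp hs ht han ψ.range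
    (hpres c hsi) (hpres d hti)
  -- the kernel is a 2-group
  have hker2 : IsPGroup 2 ψ.ker := by
    rw [IsPGroup.iff_card]
    refine ⟨_, Nat.eq_prime_pow_of_unique_prime_dvd Nat.card_pos.ne' fun {p} hp hd => ?_⟩
    by_contra hp2
    haveI := Fact.mk hp
    obtain ⟨g, hg⟩ := exists_prime_orderOf_dvd_card' p hd
    set a : MulAut X := ((g : ρ.ker) : MulAut X) with ha_def
    have ha : a ∈ ρ.ker := (g : ρ.ker).2
    have hodd : Odd p := hp.odd_of_ne_two hp2
    have hap : a ^ p = 1 := by
      rw [ha_def, ← Subgroup.coe_pow, ← Subgroup.coe_pow, ← hg, pow_orderOf_eq_one]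
      rfl
    have haW' : ∀ x ∈ K₁, a x = x := by
      intro x hx
      have h : π (res (g : ρ.ker) ⟨x, hx⟩) = π ⟨x, hx⟩ := by
        rw [← hψ, MonoidHom.mem_ker.mp g.2]
        rfl
      have hmem : x⁻¹ * a x ∈ W := by
        have := (hπ1 (⟨x, hx⟩⁻¹ * res (g : ρ.ker) ⟨x, hx⟩)).mp
          (by rw [map_mul, map_inv, h, inv_mul_cancel])
        exact this
      exact fixed_of_coset h2 a hodd hap x (x⁻¹ * a x) (by simp) (haW a ha _ hmem)
    have haK' : ∀ x ∈ K, a x = x := by
      intro x hx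
      refine fixed_of_coset h2 a hodd hap x (x⁻¹ * a x) (by simp) (haW' _ ((hK1 _).mpr ⟨?_, ?_⟩))
      · exact K.mul_mem (K.inv_mem hx) ((haK a x).mpr hx)
      · intro w hw
        -- `a x` and `x` induce the same automorphism of `W`
        have hxw : x * w * x⁻¹ ∈ W := ⟨C.mul_mem (C.mul_mem hx.1 hw.1) (C.inv_mem hx.1), by
          calc x * w * x⁻¹ * (x * w * x⁻¹) = x * (w * w) * x⁻¹ := by group
            _ = 1 := by rw [hw.2, mul_one, mul_inv_cancel]⟩
        have e : a x * w * (a x)⁻¹ = x * w * x⁻¹ := by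
          conv_rhs => rw [← haW a ha _ hxw]
          rw [map_mul, map_mul, map_inv, haW a ha w hw]
        calc w * (x⁻¹ * a x) = x⁻¹ * (x * w * x⁻¹) * a x := by group
          _ = x⁻¹ * a x * w := by rw [← e]; group
    have haC : ∀ x ∈ C, a x = x := by
      have main : ∀ m : ℕ, ∀ x ∈ C, x ^ (2 ^ m) = 1 → a x = x := by
        intro m
        induction m using Nat.strong_induction_on with
        | _ m ih =>
          intro x hx hxm
          rcases m with _ | m
          · simp only [pow_zero, pow_one] at hxm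
            rw [hxm, map_one]
          · have hsq : a (x * x) = x * x := ih m (Nat.lt_succ_self m) _ (C.mul_mem hx hx)
              (by rw [← pow_two, ← pow_mul, ← pow_succ', hxm])
            have hzC : x⁻¹ * a x ∈ C := C.mul_mem (C.inv_mem hx) ((hCX a x).mpr hx)
            refine fixed_of_coset h2 a hodd hap x (x⁻¹ * a x) (by simp) (haK' _ ⟨hzC, ?_⟩)
            set z := x⁻¹ * a x
            have hz : a x = x * z := by simp [z]
            rw [map_mul, hz, hsqmul x hx z hzC, mul_assoc, mul_eq_left] at hsq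
            have : z * z = ⁅z, x⁆⁻¹ := eq_inv_of_mul_eq_one_left hsq
            rw [this, ← mul_inv_rev, hcomsq z hzC x hx, inv_one]
      intro x hx
      obtain ⟨k, hk⟩ := h2 x
      exact main k x hx hk
    have hco : Nat.Coprime (orderOf a) 2 :=
      Nat.Coprime.of_dvd_left (orderOf_dvd_of_pow_eq_one hap) (Nat.coprime_two_right.mpr hodd)
    have h1 : a = 1 := Cfsg.Agent.S0121.result h2 C hC hC1 hC2 hC3 a hco haC
    have : g = 1 := Subtype.ext (Subtype.ext h1)
    rw [this, orderOf_one] at hg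
    exact hp.one_lt.ne hg
  haveI : Group.IsSolvable ψ.ker := by
    haveI := hker2.isNilpotent
    infer_instance
  exact Group.isSolvable_of_ker_le_range ψ.ker.subtype ψ.rangeRestrict (by simp)

end Cfsg.Agent.S3117
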