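import Mathlib
import Cfsg.Statements.S3153
import Cfsg.Agent.Lib.Coprime.Generation
import Cfsg.Agent.Lib.Components.PComponent
import Cfsg.Agent.Lib.Cores.PCore

set_option autoImplicit false
set_option maxHeartbeats 4000000
open Cfsg


namespace Cfsg.Agent.S3153

theorem exists_central_invol {H : Type*} [Group H] [Finite H] {S : Subgroup H} (hS : IsPGroup 2 ↥S)
    {T : Subgroup ↥S} [T.Normal] (hT : T ≠ ⊥) :
    ∃ z : ↥S, z ∈ T ∧ z ∈ Subgroup.center ↥S ∧ (z : H) * (z : H) = 1 ∧ z ≠ 1 := by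
  have : Fact (Nat.Prime 2) := ⟨Nat.prime_two⟩
  obtain ⟨k, hk0, hk⟩ := ((hS.to_subgroup T).nontrivial_iff_card).mp ((Subgroup.nontrivial_iff_ne_bot T).mpr hT)
  obtain ⟨v, hv, hne⟩ := (hS.of_equiv (ConjAct.toConjAct (G := ↥S))).exists_fixed_point_of_prime_dvd_card_of_fixed_point
    (↥T) (hk ▸ dvd_pow_self 2 hk0.ne') (a := (1 : ↥T)) (fun g => by simp)
  have hvc : (v : ↥S) ∈ Subgroup.center ↥S := by
    rw [Subgroup.mem_center_iff]
    intro g
    have h' := congrArg (fun w : ↥T => (w : ↥S)) (hv (ConjAct.toConjAct g))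
    simp only [ConjAct.toConjAct_smul, ConjAct.Subgroup.val_conj_smul] at h'
    calc g * (v : ↥S) = g * v * g⁻¹ * g := by group
      _ = v * g := by rw [h']
  let V : Subgroup ↥S := Subgroup.zpowers (v : ↥S)
  have hv1 : (v : ↥S) ≠ 1 := fun h => hne (Subtype.ext h.symm)
  obtain ⟨m, hm⟩ := IsPGroup.iff_orderOf.mp hS (v : ↥S)
  have hm0 : m ≠ 0 := fun h => hv1 (orderOf_eq_one_iff.mp (by rw [hm, h, pow_zero]))
  obtain ⟨w, hw⟩ := exists_prime_orderOf_dvd_card' (G := ↥V) 2 (by
    rw [Nat.card_zpowers, hm]; exact dvd_pow_self 2 hm0)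
  refine ⟨w, Subgroup.zpowers_le.mpr v.2 w.2, Subgroup.zpowers_le.mpr hvc w.2, ?_, ?_⟩
  · have := pow_orderOf_eq_one w
    rw [hw, pow_two] at this
    exact congrArg (fun x : ↥V => ((x : ↥S) : H)) this
  · intro h
    have : w = 1 := Subtype.ext h
    simp [this] at hw

theorem isPGroup_sup_zpowers {H : Type*} [Group H] [Finite H] {S : Subgroup H} (hS : IsPGroup 2 ↥S)
    {g : H} (hg : g ∈ Subgroup.normalizer (S : Set H)) (hg2 : g ^ 2 ∈ S) :
    IsPGroup 2 ↥(S ⊔ Subgroup.zpowers g) := by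
  rintro ⟨x, hx⟩
  rw [← SetLike.mem_coe, Subgroup.coe_mul_of_right_le_normalizer_left S _ (Subgroup.zpowers_le.mpr hg)] at hx
  obtain ⟨s, hs, _, hc, rfl⟩ := hx
  obtain ⟨j, rfl⟩ := Subgroup.mem_zpowers_iff.mp hc
  have hj : s * g ^ j * (s * g ^ j) ∈ S := by
    have e : s * g ^ j * (s * g ^ j) = s * (g ^ j * s * (g ^ j)⁻¹) * (g ^ 2) ^ j := by
      rw [← zpow_natCast, ← zpow_mul, mul_comm ((2 : ℕ) : ℤ), zpow_mul]
      simp only [zpow_natCast, pow_two]
      group
    rw [e]
    exact S.mul_mem (S.mul_mem hs ((Subgroup.mem_normalizer_iff.mp (Subgroup.zpow_mem _ hg j) s).mp hs))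
      (Subgroup.zpow_mem _ hg2 j)
  obtain ⟨k, hk⟩ := hS ⟨_, hj⟩
  refine ⟨k + 1, Subtype.ext ?_⟩
  show (s * g ^ j) ^ (2 ^ (k + 1)) = 1
  rw [pow_succ', pow_mul, pow_two]
  exact congrArg Subtype.val hk

/-- An element acting on a perfect group with all displacements central centralises it. -/
theorem commute_of_perfect {H : Type*} [Group H] {P : Subgroup H} (hP : Group.IsPerfect ↥P) (x : H)
    (hx : ∀ q ∈ P, x * q * x⁻¹ ∈ P)
    (hc : ∀ q : ↥P, (⟨x * q * x⁻¹, hx q q.2⟩ : ↥P) * q⁻¹ ∈ Subgroup.center ↥P) :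
    ∀ q ∈ P, Commute x q := by
  let f : ↥P →* ↥(Subgroup.center ↥P) := MonoidHom.mk' (fun q => ⟨_, hc q⟩) (by
    intro a b
    apply Subtype.ext
    show (⟨x * ((a * b : ↥P) : H) * x⁻¹, hx _ (a * b).2⟩ : ↥P) * (a * b)⁻¹ = _
    have hb := Subgroup.mem_center_iff.mp (hc b) a⁻¹
    have ha : (⟨x * ((a * b : ↥P) : H) * x⁻¹, hx _ (a * b).2⟩ : ↥P) =
        ⟨x * (a : H) * x⁻¹, hx a a.2⟩ * ⟨x * (b : H) * x⁻¹, hx b b.2⟩ :=
      Subtype.ext (by simp [mul_assoc])
    rw [ha, mul_inv_rev]
    show _ = (⟨x * (a : H) * x⁻¹, hx a a.2⟩ : ↥P) * a⁻¹ * ((⟨x * (b : H) * x⁻¹, hx b b.2⟩ : ↥P) * b⁻¹)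
    simp only [mul_assoc] at hb ⊢
    rw [hb])
  have hker : f.ker = ⊤ := by
    rw [eq_top_iff, ← hP.commutator_eq_top]
    rw [commutator_def, Subgroup.commutator_le]
    intro p _ q _
    rw [MonoidHom.mem_ker, map_commutatorElement, commutatorElement_eq_one_iff_mul_comm]
    exact Subtype.ext (Subgroup.mem_center_iff.mp (f q).2 _)
  intro q hq
  have h1 : f ⟨q, hq⟩ = 1 := MonoidHom.mem_ker.mp (hker ▸ Subgroup.mem_top _)
  have h2 : x * q * x⁻¹ * q⁻¹ = 1 := congrArg (fun w : ↥(Subgroup.center ↥P) => ((w : ↥P) : H)) h1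
  exact mul_inv_eq_iff_eq_mul.mp (mul_inv_eq_one.mp h2)

/-- Let X be a finite group and P a standard subgroup of X whose centralizer has 2-rank at most 1 and whose centre has odd order. Let S be a Sylow 2-subgroup of N_X(P) and t an involution of S centralizing P. Suppose some element g of X normalizes S, does not lie in S, has its square in S, and conjugates t into P·C_X(P). Then P commutes elementwise with the largest normal odd-order subgroup O(X) of X; consequently every t-invariant 2-component of X containing P is quasisimple. -/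
theorem result {X : Type*} [Group X] [Finite X] (P : Subgroup X) (hP : Cfsg.IsStandardSubgroup P)
    (hr : Cfsg.PRankLE 2 1 ↥(Subgroup.centralizer (P : Set X))) (hZ : Odd (Nat.card ↥(Subgroup.center ↥P)))
    (S : Sylow 2 ↥(Subgroup.normalizer (P : Set X))) (t : X) (ht : orderOf t = 2) (htS : t ∈ (S : Subgroup ↥(Subgroup.normalizer (P : Set X))).map (Subgroup.normalizer (P : Set X)).subtype)
    (htP : t ∈ Subgroup.centralizer (P : Set X))
    (g : X) (hgN : ∀ s ∈ (S : Subgroup ↥(Subgroup.normalizer (P : Set X))).map (Subgroup.normalizer (P : Set X)).subtype, g * s * g⁻¹ ∈ (S : Subgroup ↥(Subgroup.normalizer (P : Set X))).map (Subgroup.normalizer (P : Set X)).subtype)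
    (hgS : g ∉ (S : Subgroup ↥(Subgroup.normalizer (P : Set X))).map (Subgroup.normalizer (P : Set X)).subtype) (hg2 : g ^ 2 ∈ (S : Subgroup ↥(Subgroup.normalizer (P : Set X))).map (Subgroup.normalizer (P : Set X)).subtype)
    (hgt : g * t * g⁻¹ ∈ P ⊔ Subgroup.centralizer (P : Set X)) :
    ⁅P, Cfsg.oddCore X⁆ = ⊥ ∧
      ∀ L : Subgroup X, Cfsg.IsPComponent 2 L → P ≤ L → (∀ l ∈ L, t * l * t⁻¹ ∈ L) → Cfsg.IsQuasisimple ↥L := by
  obtain ⟨hq, ⟨hev, hTE⟩, -, hNN⟩ := hP
  have : Fact (Nat.Prime 2) := ⟨Nat.prime_two⟩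
  set C := Subgroup.centralizer (P : Set X) with hC
  set S' := (S : Subgroup ↥(Subgroup.normalizer (P : Set X))).map (Subgroup.normalizer (P : Set X)).subtype with hS'
  have hS'2 : IsPGroup 2 ↥S' := S.isPGroup'.map _
  -- elements centralising an involution of `C` normalise `P`
  have hloc : ∀ w : X, orderOf w = 2 → w ∈ C → ∀ x : X, Commute x w → x ∈ (Subgroup.normalizer (P : Set X)) := by
    intro w hw hwC x hxw
    rw [hNN]
    by_contra hx
    have hodd := hTE x hx
    have hmem : w ∈ C ⊓ C.map (MulAut.conj x).toMonoidHom := by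
      refine ⟨hwC, w, hwC, ?_⟩
      show x * w * x⁻¹ = w
      rw [hxw.eq]; group
    have h2 : orderOf (⟨w, hmem⟩ : ↥(C ⊓ C.map (MulAut.conj x).toMonoidHom)) = 2 := by
      rw [Subgroup.orderOf_mk]; exact hw
    exact Nat.not_even_iff_odd.mpr hodd (even_iff_two_dvd.mpr (h2 ▸ orderOf_dvd_natCard _))
  -- two commuting involutions of `C` are equal
  have huniq : ∀ c ∈ C, c * c = 1 → Commute c t → c = 1 ∨ c = t := by
    intro c hc hcc hct
    by_contra hne
    push Not at hne
    let f : Fin 4 → ↥C := ![1, ⟨c, hc⟩, ⟨t, htP⟩, ⟨c * t, C.mul_mem hc htP⟩]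
    let A : Subgroup ↥C := Subgroup.closure {⟨c, hc⟩, ⟨t, htP⟩}
    have htt : t * t = 1 := by rw [← pow_two, ← ht]; exact pow_orderOf_eq_one t
    have ht1 : t ≠ 1 := fun h => by simp [h] at ht
    have hgen : ∀ a ∈ ({⟨c, hc⟩, ⟨t, htP⟩} : Set ↥C), ∀ b ∈ ({⟨c, hc⟩, ⟨t, htP⟩} : Set ↥C), a * b = b * a := by
      rintro a (rfl | rfl) b (rfl | rfl) <;> first | rfl | exact Subtype.ext hct.eq | exact Subtype.ext hct.eq.symm
    have hab : IsMulCommutative ↥A := Subgroup.isMulCommutative_closure hgen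
    have hexp : ∀ a ∈ A, a ^ 2 = 1 := by
      intro a ha
      induction ha using Subgroup.closure_induction with
      | mem w hw =>
        rcases hw with rfl | rfl
        · exact Subtype.ext (by simp [pow_two, hcc])
        · exact Subtype.ext (by simp [pow_two, htt])
      | one => simp
      | mul a b ha hb iha ihb =>
        have : a * b = b * a := congrArg Subtype.val (mul_comm' (⟨a, ha⟩ : ↥A) ⟨b, hb⟩)
        rw [Commute.mul_pow this, iha, ihb, one_mul]
      | inv a ha iha => rw [inv_pow, iha, inv_one]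
    have hcard := hr A hab hexp
    have h3 : ({1, ⟨c, hc⟩, ⟨t, htP⟩} : Set ↥C) ⊆ (A : Set ↥C) := by
      rintro a (rfl | rfl | rfl)
      · exact A.one_mem
      · exact Subgroup.subset_closure (Or.inl rfl)
      · exact Subgroup.subset_closure (Or.inr rfl)
    have := Set.ncard_le_ncard h3 (Set.toFinite _)
    rw [Set.ncard_eq_three.mpr ⟨1, ⟨c, hc⟩, ⟨t, htP⟩, fun h => hne.1 (congrArg Subtype.val h).symm,
      fun h => ht1 (congrArg Subtype.val h).symm, fun h => hne.2 (congrArg Subtype.val h), rfl⟩] at this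
    rw [← Nat.card_coe_set_eq] at this
    have h4 : Nat.card ↥(A : Set ↥C) = Nat.card ↥A := rfl
    omega
  have htt : t * t = 1 := by rw [← pow_two, ← ht]; exact pow_orderOf_eq_one t
  have hS'N : S' ≤ (Subgroup.normalizer (P : Set X)) := Subgroup.map_subtype_le _
  have hCN : ∀ x ∈ (Subgroup.normalizer (P : Set X)), ∀ c ∈ C, x * c * x⁻¹ ∈ C := by
    intro x hx c hc
    rw [hNN] at hx
    exact (Subgroup.mem_normalizer_iff.mp hx c).mp hc
  -- `t` is central in `S'`
  have htc : ∀ s ∈ S', Commute s t := by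
    intro s hs
    show s * t = t * s
    by_contra hst
    let T : Subgroup X := S' ⊓ C
    have hTS : T ≤ S' := inf_le_left
    have hTn : (T.subgroupOf S').Normal := ⟨fun a ha b => ⟨(b * a * b⁻¹).2, hCN _ (hS'N b.2) _ ha.2⟩⟩
    have hTne : T.subgroupOf S' ≠ ⊥ := by
      intro h
      have : (⟨t, htS⟩ : ↥S') ∈ T.subgroupOf S' := ⟨htS, htP⟩
      rw [h, Subgroup.mem_bot] at this
      have := congrArg Subtype.val this
      simp only [OneMemClass.coe_one] at this
      simp [this] at ht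
    obtain ⟨z, hz, hzc, hz1⟩ := exists_central_invol hS'2 hTne
    have hzt : Commute (z : X) t := (congrArg Subtype.val (Subgroup.mem_center_iff.mp hzc ⟨t, htS⟩)).symm
    rcases huniq _ hz.2 hz1.1 hzt with h | h
    · exact hz1.2 (Subtype.ext h)
    · exact hst (by rw [← h]; exact congrArg Subtype.val (Subgroup.mem_center_iff.mp hzc ⟨s, hs⟩))
  have hgnN : g ∉ (Subgroup.normalizer (P : Set X)) := by
    intro hgN'
    apply hgS
    have hnorm : (⟨g, hgN'⟩ : ↥(Subgroup.normalizer (P : Set X))) ∈ Subgroup.normalizer ((S : Subgroup ↥(Subgroup.normalizer (P : Set X))) : Set ↥(Subgroup.normalizer (P : Set X))) := by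
      rw [Subgroup.mem_normalizer_iff]
      intro s
      constructor
      · intro hs
        obtain ⟨v, hv, hve⟩ := hgN s ⟨s, hs, rfl⟩
        have : v = ⟨g, hgN'⟩ * s * (⟨g, hgN'⟩ : ↥(Subgroup.normalizer (P : Set X)))⁻¹ := Subtype.ext hve
        rwa [← this]
      · intro hs
        -- conjugation by `g` is a bijection of the finite set `S`
        let f : ↥(S : Subgroup ↥(Subgroup.normalizer (P : Set X))) → ↥(S : Subgroup ↥(Subgroup.normalizer (P : Set X))) := fun w =>
          ⟨⟨g, hgN'⟩ * w * (⟨g, hgN'⟩ : ↥(Subgroup.normalizer (P : Set X)))⁻¹, by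
            obtain ⟨v, hv, hve⟩ := hgN (w : ↥(Subgroup.normalizer (P : Set X))) ⟨w, w.2, rfl⟩
            have : v = ⟨g, hgN'⟩ * w * (⟨g, hgN'⟩ : ↥(Subgroup.normalizer (P : Set X)))⁻¹ := Subtype.ext hve
            rwa [← this]⟩
        have hinj : Function.Injective f := fun a b h => by
          have := congrArg (fun w : ↥(S : Subgroup ↥(Subgroup.normalizer (P : Set X))) => (w : ↥(Subgroup.normalizer (P : Set X)))) h
          exact Subtype.ext (by simpa [f] using this)
        obtain ⟨w, hw⟩ := (Finite.surjective_of_injective hinj) ⟨_, hs⟩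
        have := congrArg (fun w : ↥(S : Subgroup ↥(Subgroup.normalizer (P : Set X))) => (w : ↥(Subgroup.normalizer (P : Set X)))) hw
        have e : (w : ↥(Subgroup.normalizer (P : Set X))) = s := by simpa [f] using this
        exact e ▸ w.2
    have hgS2 : (⟨g, hgN'⟩ : ↥(Subgroup.normalizer (P : Set X))) ^ 2 ∈ (S : Subgroup ↥(Subgroup.normalizer (P : Set X))) := by
      obtain ⟨v, hv, hve⟩ := hg2
      have : v = (⟨g, hgN'⟩ : ↥(Subgroup.normalizer (P : Set X))) ^ 2 := Subtype.ext hve
      rwa [← this]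
    let R : Subgroup ↥(Subgroup.normalizer (P : Set X)) := (S : Subgroup ↥(Subgroup.normalizer (P : Set X))) ⊔ Subgroup.zpowers ⟨g, hgN'⟩
    have hRp : IsPGroup 2 ↥R := by
      refine isPGroup_sup_zpowers S.isPGroup' ?_ hgS2
      exact hnorm
    have hRS : R = (S : Subgroup ↥(Subgroup.normalizer (P : Set X))) := S.3 hRp le_sup_left
    refine ⟨⟨g, hgN'⟩, ?_, rfl⟩
    have h : (⟨g, hgN'⟩ : ↥(Subgroup.normalizer (P : Set X))) ∈ R := Subgroup.mem_sup_right (Subgroup.mem_zpowers _)
    rw [hRS] at h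
    exact h
  set u := g * t * g⁻¹ with hu
  have huu : u * u = 1 := by
    calc u * u = g * (t * t) * g⁻¹ := by rw [hu]; group
      _ = 1 := by rw [htt]; group
  have hut : u ≠ t := by
    intro h
    exact hgnN (hloc t ht htP g (mul_inv_eq_iff_eq_mul.mp h))
  have huS : u ∈ S' := hgN t htS
  have hutc : Commute u t := htc u huS
  -- decompose `u`
  obtain ⟨a0, ha0, c0, hc0, hac⟩ : ∃ a ∈ P, ∃ c ∈ C, a * c = u := by
    have hn : P ≤ Subgroup.normalizer (C : Set X) := by rw [← hNN]; exact Subgroup.le_normalizer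
    rw [← SetLike.mem_coe, Subgroup.coe_mul_of_left_le_normalizer_right P C hn] at hgt
    obtain ⟨a, ha, c, hc, h⟩ := hgt
    exact ⟨a, ha, c, hc, h⟩
  set Zc := Subgroup.center ↥P with hZc
  set k := Nat.card ↥Zc with hk
  have hac0 : Commute a0 c0 := Subgroup.mem_centralizer_iff.mp hc0 a0 ha0
  have ha2 : (⟨a0 ^ 2, P.pow_mem ha0 2⟩ : ↥P) ∈ Zc := by
    rw [hZc, Subgroup.mem_center_iff]
    intro q
    apply Subtype.ext
    show (q : X) * a0 ^ 2 = a0 ^ 2 * q
    have e : a0 ^ 2 = (c0 ^ 2)⁻¹ := by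
      apply eq_inv_of_mul_eq_one_left
      rw [← hac0.mul_pow, hac, pow_two, huu]
    rw [e]
    exact Subgroup.mem_centralizer_iff.mp (C.inv_mem (C.pow_mem hc0 2)) q q.2
  have hak : (a0 ^ k) * (a0 ^ k) = 1 := by
    rw [← pow_add, ← two_mul, pow_mul]
    have := pow_card_eq_one' (G := ↥Zc) (x := ⟨_, ha2⟩)
    exact congrArg (fun w : ↥Zc => ((w : ↥P) : X)) this
  set a := a0 ^ k with ha_def
  set c := c0 ^ k with hc_def
  have haP : a ∈ P := P.pow_mem ha0 k
  have hcC : c ∈ C := C.pow_mem hc0 k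
  have hacu : a * c = u := by
    rw [ha_def, hc_def, ← hac0.mul_pow, hac]
    obtain ⟨j, hj⟩ := hZ
    rw [hj, pow_succ, pow_mul, pow_two, huu, one_pow, one_mul]
  have hat : Commute a t := (Subgroup.mem_centralizer_iff.mp htP a haP)
  have hct : Commute c t := by
    have e : c = a⁻¹ * u := by rw [← hacu]; group
    rw [e]; exact hat.inv_left.mul_left hutc
  have hcc : c * c = 1 := by
    have hca : Commute a c := hac0.pow_pow k k
    calc c * c = (a * a) * (c * c) := by rw [hak, one_mul]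
      _ = (a * c) * (a * c) := hca.mul_mul_mul_comm a c
      _ = 1 := by rw [hacu, huu]
  have hc1t := huniq c hcC hcc hct
  have hane : (⟨a, haP⟩ : ↥P) ∉ Zc := by
    intro h
    have h1 := orderOf_dvd_natCard (⟨_, h⟩ : ↥Zc)
    rw [Subgroup.orderOf_mk, Subgroup.orderOf_mk] at h1
    have h2 : orderOf a ∣ 2 := orderOf_dvd_of_pow_eq_one (by rw [pow_two]; exact hak)
    have h3 : a = 1 := orderOf_eq_one_iff.mp
      (Nat.eq_one_of_dvd_coprimes (Nat.coprime_two_left.mpr hZ) h2 h1)
    rw [h3, one_mul] at hacu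
    rcases hc1t with h | h
    · have : t = 1 := by
        have h' : g * t * g⁻¹ = 1 := by rw [← hu, ← hacu, h]
        exact conj_eq_one_iff.mp h'
      simp [this] at ht
    · exact hut (hacu ▸ h)
  have hperf : Group.IsPerfect ↥P := hq.1
  -- odd normal subgroups of `X`
  set O := Cfsg.oddCore X with hO
  have hOn : O.Normal := inferInstance
  have hOodd : Odd (Nat.card ↥O) := Cfsg.Agent.Lib.Cores.odd_card_oddCore X
  have hCt : ∀ x ∈ O, Commute x t → ∀ q ∈ P, Commute x q := by
    intro x hx hxt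
    have hxN := hloc t ht htP x hxt
    have hOP : O.subgroupOf P ≤ Zc := by
      rcases Cfsg.Agent.Lib.Components.IsQuasisimple.normal_eq_top_or_le_center hq (O.subgroupOf P) with h | h
      · exfalso
        rw [Subgroup.subgroupOf_eq_top] at h
        have h1 : orderOf (⟨a, h haP⟩ : ↥O) ∣ Nat.card ↥O := orderOf_dvd_natCard _
        rw [Subgroup.orderOf_mk] at h1
        have h2 : orderOf a ∣ 2 := orderOf_dvd_of_pow_eq_one (by rw [pow_two]; exact hak)
        have h3 : a = 1 := orderOf_eq_one_iff.mp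
          (Nat.eq_one_of_dvd_coprimes (Nat.coprime_two_left.mpr hOodd) h2 h1)
        exact hane (by
          have e : (⟨a, haP⟩ : ↥P) = 1 := Subtype.ext h3
          rw [e]; exact Subgroup.one_mem _)
      · exact h
    refine commute_of_perfect hperf x (fun q hq => (Subgroup.mem_normalizer_iff.mp hxN q).mp hq) ?_
    intro q
    apply hOP
    rw [Subgroup.mem_subgroupOf]
    show x * (q : X) * x⁻¹ * (q : X)⁻¹ ∈ O
    have e : x * (q : X) * x⁻¹ * (q : X)⁻¹ = x * ((q : X) * x⁻¹ * (q : X)⁻¹) := by group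
    rw [e]
    exact O.mul_mem hx (hOn.conj_mem _ (O.inv_mem hx) _)
  have hsame : ∀ x ∈ O, Commute x t → Commute x u := by
    intro x hx hxt
    rw [← hacu]
    refine (hCt x hx hxt a haP).mul_right ?_
    rcases hc1t with h | h <;> rw [h]
    · exact Commute.one_right x
    · exact hxt
  have hgu : g * u * g⁻¹ = t := by
    have h := htc _ hg2
    calc g * u * g⁻¹ = g ^ 2 * t * (g ^ 2)⁻¹ := by rw [hu, pow_two, mul_inv_rev]; simp only [mul_assoc]
      _ = t := by rw [h.eq]; group
  have hsame' : ∀ x ∈ O, Commute x u → Commute x t := by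
    intro x hx hxu
    have h1 : g * x * g⁻¹ ∈ O := hOn.conj_mem x hx g
    have h2 : Commute (g * x * g⁻¹) t := by
      have := hxu.map (MulAut.conj g).toMonoidHom
      simpa [hgu] using this
    have h3 := hsame _ h1 h2
    have h4 := h3.map (MulAut.conj g⁻¹).toMonoidHom
    simpa [hu, mul_assoc] using h4
  -- `v = t u` centralises `O`
  set v := t * u with hv
  have hvO : ∀ x ∈ O, Commute x v := by
    let A : Subgroup X := Subgroup.closure {t, u}
    have hAc : IsMulCommutative ↥A := by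
      refine Subgroup.isMulCommutative_closure ?_
      rintro p (rfl | rfl) q (rfl | rfl) <;> first | rfl | exact hutc.eq | exact hutc.eq.symm
    have hmemA : ∀ w ∈ A, w = 1 ∨ w = t ∨ w = u ∨ w = t * u := by
      intro w hw
      induction hw using Subgroup.closure_induction with
      | mem w hw => rcases hw with rfl | rfl <;> simp
      | one => simp
      | mul p q _ _ hp hq =>
        have e1 : t * (t * u) = u := by rw [← mul_assoc, htt, one_mul]
        have e2 : u * t = t * u := hutc.eq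
        have e3 : u * (t * u) = t := by rw [← mul_assoc, e2, mul_assoc, huu, mul_one]
        have e4 : t * u * t = u := by rw [mul_assoc, e2, e1]
        have e5 : t * u * u = t := by rw [mul_assoc, huu, mul_one]
        have e6 : t * u * (t * u) = 1 := by rw [← mul_assoc, e4, huu]
        rcases hp with rfl | rfl | rfl | rfl <;> rcases hq with rfl | rfl | rfl | rfl <;>
          simp [htt, huu, e1, e2, e3, e4, e5, e6]
      | inv p _ hp =>
        rcases hp with rfl | rfl | rfl | rfl
        · simp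
        · right; left; exact inv_eq_of_mul_eq_one_left htt
        · right; right; left; exact inv_eq_of_mul_eq_one_left huu
        · right; right; right
          rw [mul_inv_rev, inv_eq_of_mul_eq_one_left htt, inv_eq_of_mul_eq_one_left huu]; exact hutc.eq
    have hA2 : ∀ w ∈ A, w ^ 2 = 1 := by
      intro w hw
      rcases hmemA w hw with rfl | rfl | rfl | rfl
      · simp
      · rw [pow_two, htt]
      · rw [pow_two, huu]
      · rw [pow_two, hutc.mul_mul_mul_comm, htt, huu, mul_one]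
    have ht1 : t ≠ 1 := fun h => by simp [h] at ht
    have hu1 : u ≠ 1 := fun h => ht1 (conj_eq_one_iff.mp (hu ▸ h))
    have hnc : ¬ IsCyclic ↥A := by
      intro hcyc
      obtain ⟨w, hw⟩ := hcyc.exists_generator
      have h1 : Nat.card ↥A ≤ 2 := by
        rw [← orderOf_eq_card_of_forall_mem_zpowers hw]
        exact Nat.le_of_dvd two_pos (orderOf_dvd_of_pow_eq_one (Subtype.ext (by simpa using hA2 w w.2)))
      have h3 : ({1, t, u} : Set X) ⊆ (A : Set X) := by
        rintro p (rfl | rfl | rfl)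
        · exact A.one_mem
        · exact Subgroup.subset_closure (Or.inl rfl)
        · exact Subgroup.subset_closure (Or.inr rfl)
      have := Set.ncard_le_ncard h3 (Set.toFinite _)
      rw [Set.ncard_eq_three.mpr ⟨1, t, u, ht1.symm, hu1.symm, hut.symm, rfl⟩, ← Nat.card_coe_set_eq] at this
      have h4 : Nat.card ↥(A : Set X) = Nat.card ↥A := rfl
      omega
    have hcop : (Nat.card ↥A).Coprime (Nat.card ↥O) := by
      have hpA : IsPGroup 2 ↥A := fun w => ⟨1, Subtype.ext (by simpa using hA2 w w.2)⟩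
      obtain ⟨n, hn⟩ := IsPGroup.iff_card.mp hpA
      rw [hn]
      exact Nat.Coprime.pow_left _ (Nat.coprime_two_left.mpr hOodd)
    have hgen := Cfsg.Agent.Lib.Coprime.iSup_centralizer_eq (A := A) (K := O) hnc
      (fun w _ => Subgroup.mem_normalizer_iff.mpr fun x =>
        ⟨fun h => hOn.conj_mem x h w, fun h => by simpa [mul_assoc] using hOn.conj_mem _ h w⁻¹⟩) hcop
    have hle : O ≤ Subgroup.centralizer ({v} : Set X) := by
      rw [← hgen]
      refine iSup₂_le (fun w hw => ?_)
      rintro x ⟨hxO, hxw⟩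
      have hxw' : Commute x w := (Subgroup.mem_centralizer_singleton_iff.mp hxw)
      rw [Subgroup.mem_centralizer_singleton_iff]
      rcases hmemA w hw.1 with h | h | h | h
      · exact absurd h hw.2
      · subst h; exact (hxw'.mul_right (hsame x hxO hxw')).eq
      · subst h; exact ((hsame' x hxO hxw').mul_right hxw').eq
      · subst h; exact hxw'.eq
    exact fun x hx => Subgroup.mem_centralizer_singleton_iff.mp (hle hx)
  have hPO : ∀ x ∈ O, ∀ q ∈ P, Commute x q := by
    -- conjugation by `a` commutes with conjugation by `P` on `O`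
    have hacase : (∀ x ∈ O, Commute x a) ∨ (∀ x ∈ O, a * x * a⁻¹ = t * x * t⁻¹) := by
      rcases hc1t with h | h
      · right
        intro x hx
        have hx' := hvO x hx
        rw [h, mul_one] at hacu
        rw [hv, ← hacu] at hx'
        have e1 : t * a * x * (t * a)⁻¹ = x := by rw [← hx'.eq]; group
        have e2 : t⁻¹ = t := inv_eq_of_mul_eq_one_left htt
        calc a * x * a⁻¹ = t * (t * a * x * (t * a)⁻¹) * t⁻¹ := by
              have : t * (t * a * x * (t * a)⁻¹) * t⁻¹ = (t * t) * a * x * a⁻¹ * (t * t)⁻¹ := by group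
              rw [this, htt]; group
          _ = t * x * t⁻¹ := by rw [e1]
      · left
        intro x hx
        have hx' := hvO x hx
        rw [h] at hacu
        rw [hv, ← hacu, hat.eq, ← mul_assoc, htt, one_mul] at hx'
        exact hx'
    let K : Subgroup ↥P := (Subgroup.centralizer (O : Set X)).subgroupOf P
    have hKn : K.Normal := ⟨fun q hq r => by
      rw [Subgroup.mem_subgroupOf, Subgroup.mem_centralizer_iff] at hq ⊢
      intro x hx
      have := hq ((r : X)⁻¹ * x * r) (by simpa using hOn.conj_mem x hx (r : X)⁻¹)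
      have := congrArg (MulAut.conj (r : X)) this
      simpa [mul_assoc] using this⟩
    rcases Cfsg.Agent.Lib.Components.IsQuasisimple.normal_eq_top_or_le_center hq K with h | h
    · intro x hx q hq
      have hq' : (⟨q, hq⟩ : ↥P) ∈ K := h ▸ Subgroup.mem_top _
      exact (Subgroup.mem_centralizer_iff.mp hq' x hx)
    · exfalso
      apply hane
      rw [hZc, Subgroup.mem_center_iff]
      intro q
      apply Subtype.ext
      refine (commute_of_perfect hperf a (fun r hr => P.mul_mem (P.mul_mem haP hr) (P.inv_mem haP)) ?_ q q.2).eq.symm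
      intro r
      apply h
      rw [Subgroup.mem_subgroupOf, Subgroup.mem_centralizer_iff]
      intro x hx
      show x * (a * (r : X) * a⁻¹ * (r : X)⁻¹) = a * (r : X) * a⁻¹ * (r : X)⁻¹ * x
      have hy : (r : X)⁻¹ * x * r ∈ O := by simpa using hOn.conj_mem x hx (r : X)⁻¹
      have hrt : Commute (r : X) t := Subgroup.mem_centralizer_iff.mp htP r r.2
      have hai : a⁻¹ = a := inv_eq_of_mul_eq_one_left hak
      have hti : t⁻¹ = t := inv_eq_of_mul_eq_one_left htt
      have key : (a * (r : X) * a⁻¹ * (r : X)⁻¹) * x * (a * (r : X) * a⁻¹ * (r : X)⁻¹)⁻¹ = x := by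
        have e : (a * (r : X) * a⁻¹ * (r : X)⁻¹) * x * (a * (r : X) * a⁻¹ * (r : X)⁻¹)⁻¹ =
            a * ((r : X) * (a⁻¹ * ((r : X)⁻¹ * x * r) * a⁻¹⁻¹) * (r : X)⁻¹) * a⁻¹ := by group
        rw [e]
        rcases hacase with h0 | h0
        · have e1 : a⁻¹ * ((r : X)⁻¹ * x * r) * a⁻¹⁻¹ = (r : X)⁻¹ * x * r := by
            rw [inv_inv, mul_assoc, (h0 _ hy).eq]; group
          rw [e1]
          have e2 : (r : X) * ((r : X)⁻¹ * x * r) * (r : X)⁻¹ = x := by group
          rw [e2, ← (h0 x hx).eq]; group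
        · have e1 : a⁻¹ * ((r : X)⁻¹ * x * r) * a⁻¹⁻¹ = t * ((r : X)⁻¹ * x * r) * t⁻¹ := by
            rw [inv_inv]; nth_rw 1 [hai]; nth_rw 2 [← hai]; exact h0 _ hy
          rw [e1]
          have e2 : (r : X) * (t * ((r : X)⁻¹ * x * r) * t⁻¹) * (r : X)⁻¹ = t * x * t⁻¹ := by
            calc (r : X) * (t * ((r : X)⁻¹ * x * r) * t⁻¹) * (r : X)⁻¹
                = ((r : X) * t) * (r : X)⁻¹ * x * ((r : X) * ((r : X) * t)⁻¹) := by group
              _ = t * x * t⁻¹ := by rw [hrt.eq]; group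
          rw [e2, h0 _ (hOn.conj_mem x hx t)]
          calc t * (t * x * t⁻¹) * t⁻¹ = (t * t) * x * (t * t)⁻¹ := by group
            _ = x := by rw [htt]; group
      exact (mul_inv_eq_iff_eq_mul.mp key).symm
  refine ⟨?_, ?_⟩
  · rw [eq_bot_iff, Subgroup.commutator_le]
    intro q hq x hx
    rw [Subgroup.mem_bot, commutatorElement_eq_one_iff_mul_comm]
    exact (hPO x hx q hq).eq.symm
  · intro L hL hPL _
    rw [Cfsg.Agent.Lib.Components.IsPComponent.quasisimple_iff hL,
      Cfsg.Agent.Lib.Components.commutator_map_subtype_eq_bot_iff]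
    have hle : (Cfsg.pPrimeCore 2 ↥L).map L.subtype ≤ O :=
      Cfsg.Agent.Lib.Components.map_pPrimeCore_subtype_le 2 hL.1
    let C0 : Subgroup ↥L := Subgroup.centralizer ((Cfsg.pPrimeCore 2 ↥L : Subgroup ↥L) : Set ↥L)
    have hn : (Cfsg.pPrimeCore 2 ↥L).Normal := inferInstance
    have hC0n : C0.Normal := inferInstance
    have hqs := Cfsg.Agent.Lib.Components.IsPComponent.isQuasisimple_quotient hL
    rcases Cfsg.Agent.Lib.Components.IsQuasisimple.normal_eq_top_or_le_center hqs
        (C0.map (QuotientGroup.mk' _)) (hN := hC0n.map _ (QuotientGroup.mk'_surjective _)) with h | h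
    · let H : Subgroup X := C0.map L.subtype
      have hHsn : H.IsSubnormal := by
        refine Subgroup.IsSubnormal.step _ L (Subgroup.map_subtype_le _) hL.1 ?_
        have e : H.subgroupOf L = C0 := Subgroup.comap_map_eq_self_of_injective Subtype.coe_injective _
        rw [e]; exact hC0n
      have hmap : H.map (QuotientGroup.mk' (Cfsg.pPrimeCore 2 X)) = L.map (QuotientGroup.mk' (Cfsg.pPrimeCore 2 X)) := by
        refine le_antisymm (Subgroup.map_mono (Subgroup.map_subtype_le _)) ?_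
        rintro _ ⟨l, hl, rfl⟩
        obtain ⟨w, hw, hwe⟩ : QuotientGroup.mk' (Cfsg.pPrimeCore 2 ↥L) ⟨l, hl⟩ ∈ C0.map (QuotientGroup.mk' _) :=
          h ▸ Subgroup.mem_top _
        refine ⟨w, ⟨w, hw, rfl⟩, ?_⟩
        have h' := (QuotientGroup.eq).mp hwe
        exact QuotientGroup.eq.mpr (hle ⟨_, h', rfl⟩)
      have hHL := hL.2.2 H hHsn (Subgroup.map_subtype_le _) hmap
      intro o ho
      rw [Subgroup.mem_center_iff]
      intro l
      have hl : (l : X) ∈ H := hHL.symm ▸ l.2
      obtain ⟨w, hw, hwe⟩ := hl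
      rw [Subtype.ext hwe] at hw
      exact (Subgroup.mem_centralizer_iff.mp hw o ho).symm
    · exfalso
      apply hane
      rw [hZc, Subgroup.mem_center_iff]
      intro q
      apply Subtype.ext
      refine (commute_of_perfect hperf a (fun r hr => P.mul_mem (P.mul_mem haP hr) (P.inv_mem haP)) ?_ q q.2).eq.symm
      intro r
      rw [Subgroup.mem_center_iff]
      intro s
      -- `P` lies in `C0`, whose image is central
      have hPC : ∀ w (hw : w ∈ P), (⟨w, hPL hw⟩ : ↥L) ∈ C0 := by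
        intro w hw
        rw [Subgroup.mem_centralizer_iff]
        intro o ho
        exact Subtype.ext (hPO _ (hle ⟨o, ho, rfl⟩) w hw).eq
      let f : ↥L →* ↥L ⧸ Cfsg.pPrimeCore 2 ↥L := QuotientGroup.mk' _
      have hz : ∀ w (hw : w ∈ P) w' (hw' : w' ∈ P),
          f ⟨w, hPL hw⟩ * f ⟨w', hPL hw'⟩ = f ⟨w', hPL hw'⟩ * f ⟨w, hPL hw⟩ := by
        intro w hw w' hw'
        exact Subgroup.mem_center_iff.mp (h ⟨_, hPC w' hw', rfl⟩) _
      -- so the commutator lies in `O(L)`, hence is central in `P`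
      have hm : (⟨a * (r : X) * a⁻¹ * (r : X)⁻¹,
          L.mul_mem (L.mul_mem (L.mul_mem (hPL haP) (hPL r.2)) (L.inv_mem (hPL haP))) (L.inv_mem (hPL r.2))⟩ : ↥L)
          ∈ Cfsg.pPrimeCore 2 ↥L := by
        rw [← QuotientGroup.eq_one_iff]
        show f (⟨a, hPL haP⟩ * ⟨r, hPL r.2⟩ * (⟨a, hPL haP⟩ : ↥L)⁻¹ * (⟨r, hPL r.2⟩ : ↥L)⁻¹) = 1
        simp only [map_mul, map_inv]
        rw [hz a haP r r.2]; group
      exact Subtype.ext (hPO _ (hle ⟨_, hm, rfl⟩) s s.2).eq.symm

end Cfsg.Agent.S3153
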