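import Cfsg.Statements.S3154
import Cfsg.Agent.Lib.PlaneCover.Cover
-- import your own Cfsg.Agent.* helpers here

set_option autoImplicit false
open Cfsg

namespace Cfsg.Agent.S3154

open Lib.PlaneCover Lib.PGroups.UniFour

/-- Let X be a finite quasisimple group whose centre is an elementary abelian 2-group and whose central quotient is isomorphic to the projective special linear group of dimension 3 over the field with 4 elements. Let T be a Sylow 2-subgroup of X and H ≠ K subgroups of T containing the centre Z(X) whose images in X/Z(X) are elementary abelian of order 16 (the two such subgroups of a Sylow 2-subgroup of the quotient). Then H and K are elementary abelian, H ∩ K is the centre of the subgroup they generate, and each of N_X(H), N_X(K) is a split extension of H, respectively K, by the projective special linear group of dimension 2 over the field with 4 elements (there is a complement isomorphic to that group). -/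
theorem result {X : Type*} [Group X] [Finite X] (hq : Cfsg.IsQuasisimple X) (hZ : Cfsg.IsElementaryAbelian 2 (Subgroup.center X))
    {F : Type*} [Field F] [Fintype F] (hF : Fintype.card F = 4) (hXL : Nonempty ((X ⧸ Subgroup.center X) ≃* Matrix.ProjectiveSpecialLinearGroup (Fin 3) F))
    (T : Sylow 2 X) (H K : Subgroup X) (hHK : H ≠ K) (hHT : H ≤ T) (hKT : K ≤ T) (hZH : Subgroup.center X ≤ H) (hZK : Subgroup.center X ≤ K)
    (hH : Cfsg.IsElementaryAbelian 2 (H.map (QuotientGroup.mk' (Subgroup.center X))) ∧ Nat.card ↥(H.map (QuotientGroup.mk' (Subgroup.center X))) = 16)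
    (hK : Cfsg.IsElementaryAbelian 2 (K.map (QuotientGroup.mk' (Subgroup.center X))) ∧ Nat.card ↥(K.map (QuotientGroup.mk' (Subgroup.center X))) = 16) :
    Cfsg.IsElementaryAbelian 2 H ∧ Cfsg.IsElementaryAbelian 2 K ∧
      H ⊓ K = (Subgroup.center ↥(H ⊔ K)).map (H ⊔ K).subtype ∧
      (∃ C : Subgroup X, C ≤ Subgroup.normalizer (H : Set X) ∧ C ⊓ H = ⊥ ∧ H ⊔ C = Subgroup.normalizer (H : Set X) ∧
        Nonempty (↥C ≃* Matrix.ProjectiveSpecialLinearGroup (Fin 2) F)) ∧
      (∃ C : Subgroup X, C ≤ Subgroup.normalizer (K : Set X) ∧ C ⊓ K = ⊥ ∧ K ⊔ C = Subgroup.normalizer (K : Set X) ∧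
        Nonempty (↥C ≃* Matrix.ProjectiveSpecialLinearGroup (Fin 2) F)) := by
  classical
  haveI : Fact (Nat.Prime 2) := ⟨Nat.prime_two⟩
  obtain ⟨e⟩ := hXL
  haveI : CharP F 2 := by
    have h2 : ringChar F = 2 := by
      by_contra h
      have := FiniteField.odd_card_of_char_ne_two h
      omega
    exact h2 ▸ ringChar.charP F
  have hFn : Nat.card F = 4 := by rw [Nat.card_eq_fintype_card, hF]
  have h20160 : Nat.card (L3 F) = 20160 := by
    have h := Lib.Classical.card_PSL_mul (F := F) (n := 3) (by norm_num)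
    rw [hF] at h
    show Nat.card (Matrix.ProjectiveSpecialLinearGroup (Fin 3) F) = 20160
    generalize Nat.card (Matrix.ProjectiveSpecialLinearGroup (Fin 3) F) = X at h ⊢
    norm_num [Fin.prod_univ_three] at h
    omega
  let S0 : Sylow 2 (L3 F) := Sylow.ofCard (U0 F) (by
    rw [card_U0, hFn, h20160, show (20160 : ℕ) = 2 ^ 6 * 315 by norm_num,
      Nat.factorization_mul (by norm_num) (by norm_num), Finsupp.add_apply,
      Nat.prime_two.factorization_pow,
      Nat.factorization_eq_zero_of_not_dvd (show ¬ 2 ∣ 315 by norm_num)]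
    simp)
  let π₀ : X →* L3 F := e.toMonoidHom.comp (QuotientGroup.mk' (Subgroup.center X))
  have hπ₀ : Function.Surjective π₀ := e.surjective.comp (QuotientGroup.mk'_surjective _)
  obtain ⟨g, hg⟩ := MulAction.exists_smul_eq (L3 F) (T.mapSurjective hπ₀) S0
  let π : X →* L3 F := (MulAut.conj g).toMonoidHom.comp π₀
  have hπ : Function.Surjective π := (MulAut.conj g).surjective.comp hπ₀
  have hker : π.ker = Subgroup.center X := by
    ext x
    simp [π, π₀, MonoidHom.mem_ker]
  have hT : (T : Subgroup X).map π = U0 F := by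
    have h1 := congrArg (fun S : Sylow 2 (L3 F) => (S : Subgroup (L3 F))) hg
    show (T : Subgroup X).map ((MulAut.conj g).toMonoidHom.comp π₀) = U0 F
    rw [← Subgroup.map_map]
    exact h1
  have hexp : ∀ z ∈ π.ker, z ^ 2 = 1 := fun z hz => hZ.2 z (hker ▸ hz)
  -- images of the two subgroups
  have himg : ∀ J : Subgroup X, J ≤ T → Subgroup.center X ≤ J →
      Cfsg.IsElementaryAbelian 2 (J.map (QuotientGroup.mk' (Subgroup.center X))) →
      Nat.card ↥(J.map (QuotientGroup.mk' (Subgroup.center X))) = 16 →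
      J.map π = A0 F ∨ J.map π = A1 F := by
    intro J hJT _ hJe hJc
    have hmap : J.map π = ((J.map (QuotientGroup.mk' (Subgroup.center X))).map
        ((MulAut.conj g).toMonoidHom.comp e.toMonoidHom)) := by
      rw [Subgroup.map_map]; rfl
    refine eq_A0_or_A1 (hT ▸ Subgroup.map_mono hJT) ?_ ?_
    · intro x hx
      rw [hmap] at hx
      obtain ⟨y, hy, rfl⟩ := hx
      rw [← map_mul, ← pow_two, hJe.2 y hy, map_one]
    · rw [hmap, hFn, ← Nat.card_congr (Subgroup.equivMapOfInjective _
        ((MulAut.conj g).toMonoidHom.comp e.toMonoidHom)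
        ((MulAut.conj g).injective.comp e.injective)).toEquiv, hJc]
  have hkerH : π.ker ≤ H := hker.le.trans hZH
  have hkerK : π.ker ≤ K := hker.le.trans hZK
  have hkerT : π.ker ≤ (T : Subgroup X) := hkerH.trans hHT
  have hne : H.map π ≠ K.map π := fun h => hHK (by
    rw [← Subgroup.comap_map_eq_self hkerH, h, Subgroup.comap_map_eq_self hkerK])
  have hcard : ∀ a : F, ∃ b : F, b ≠ a ∧ b ≠ 0 := by
    intro a
    by_contra hne
    push Not at hne
    have : Finset.univ ⊆ ({a, 0} : Finset F) := fun b _ => by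
      by_cases hb : b = a
      · simp [hb]
      · simp [hne b hb]
    have h2 := Finset.card_le_card this
    rw [Finset.card_univ, hF] at h2
    have h3 : ({a, 0} : Finset F).card ≤ 2 := Finset.card_le_two
    omega
  -- reduce to the standard order of the two subgroups
  have main : ∀ π : X →* L3 F, Function.Surjective π → π.ker = Subgroup.center X →
      (T : Subgroup X).map π = U0 F → H.map π = A0 F → K.map π = A1 F →
      Cfsg.IsElementaryAbelian 2 H ∧ Cfsg.IsElementaryAbelian 2 K ∧
      H ⊓ K = (Subgroup.center ↥(H ⊔ K)).map (H ⊔ K).subtype ∧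
      (∃ C : Subgroup X, C ≤ Subgroup.normalizer (H : Set X) ∧ C ⊓ H = ⊥ ∧
        H ⊔ C = Subgroup.normalizer (H : Set X) ∧
        Nonempty (↥C ≃* Matrix.ProjectiveSpecialLinearGroup (Fin 2) F)) ∧
      (∃ C : Subgroup X, C ≤ Subgroup.normalizer (K : Set X) ∧ C ⊓ K = ⊥ ∧
        K ⊔ C = Subgroup.normalizer (K : Set X) ∧
        Nonempty (↥C ≃* Matrix.ProjectiveSpecialLinearGroup (Fin 2) F)) := by
    intro π hπ hker hT hA hB
    have hkc : π.ker ≤ Subgroup.center X := hker.le
    have hexp : ∀ z ∈ π.ker, z ^ 2 = 1 := fun z hz => hZ.2 z (hker ▸ hz)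
    have hkerH : π.ker ≤ H := hker.le.trans hZH
    have hkerK : π.ker ≤ K := hker.le.trans hZK
    have hHe := isElementaryAbelian π hπ hkc hexp hkerH hA hcard
    let σ : X →* L3 F := (graph (F := F)).toMonoidHom.comp π
    have hσ : Function.Surjective σ := (graph (F := F)).surjective.comp hπ
    have hσker : σ.ker = π.ker := by
      ext x
      simp [σ, MonoidHom.mem_ker]
    have hσK : K.map σ = A0 F := by rw [← Subgroup.map_map, hB, map_graph_A1]
    have hσH : H.map σ = A1 F := by rw [← Subgroup.map_map, hA, map_graph_A0]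
    have hσT : (T : Subgroup X).map σ = U0 F := by rw [← Subgroup.map_map, hT, map_graph_U0]
    have hKe := isElementaryAbelian σ hσ (hσker ▸ hkc) (hσker ▸ hexp) (hσker ▸ hkerK) hσK hcard
    refine ⟨hHe, hKe, ?_, exists_complement π hπ hF T hkerH hkerK hA hB hHe hKe hT (hkerH.trans hHT),
      exists_complement σ hσ hF T (hσker ▸ hkerK) (hσker ▸ hkerH) hσK hσH hKe hHe hσT
        (hσker ▸ hkerH.trans hHT)⟩
    apply le_antisymm
    · rintro x ⟨hxH, hxK⟩
      refine ⟨⟨x, Subgroup.mem_sup_left hxH⟩, Subgroup.mem_center_iff.mpr fun y => Subtype.ext ?_, rfl⟩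
      have hle : H ⊔ K ≤ Subgroup.centralizer ({x} : Set X) := by
        refine sup_le (fun h hh => ?_) (fun k hk => ?_)
        · exact Subgroup.mem_centralizer_singleton_iff.mpr
            (congrArg Subtype.val (hHe.1.is_comm.comm (⟨h, hh⟩ : H) (⟨x, hxH⟩ : H)))
        · exact Subgroup.mem_centralizer_singleton_iff.mpr
            (congrArg Subtype.val (hKe.1.is_comm.comm (⟨k, hk⟩ : K) (⟨x, hxK⟩ : K)))
      exact Subgroup.mem_centralizer_singleton_iff.mp (hle y.2)
    · rintro _ ⟨⟨x, hx⟩, hxc, rfl⟩
      have hcm : ∀ y ∈ H ⊔ K, y * x = x * y := fun y hy =>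
        congrArg Subtype.val (Subgroup.mem_center_iff.mp hxc ⟨y, hy⟩)
      have hxU : π x ∈ U0 F := hT.le ⟨x, sup_le hHT hKT hx, rfl⟩
      obtain ⟨h0, h1⟩ := mem_inf_of_comm hxU
        (fun y hy => by
          obtain ⟨h, hh, rfl⟩ := hA.ge hy
          rw [← map_mul, ← map_mul, hcm h (Subgroup.mem_sup_left hh)])
        (fun y hy => by
          obtain ⟨h, hh, rfl⟩ := hB.ge hy
          rw [← map_mul, ← map_mul, hcm h (Subgroup.mem_sup_right hh)])
      refine ⟨?_, ?_⟩
      · show x ∈ H
        rw [← Subgroup.comap_map_eq_self hkerH, hA]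
        exact h0
      · show x ∈ K
        rw [← Subgroup.comap_map_eq_self hkerK, hB]
        exact h1
  rcases himg H hHT hZH hH.1 hH.2 with h1 | h1 <;> rcases himg K hKT hZK hK.1 hK.2 with h2 | h2
  · exact absurd (h1.trans h2.symm) hne
  · exact main π hπ hker hT h1 h2
  · refine main ((graph (F := F)).toMonoidHom.comp π) ((graph (F := F)).surjective.comp hπ) ?_ ?_ ?_ ?_
    · rw [← hker]; ext x; simp [MonoidHom.mem_ker]
    · rw [← Subgroup.map_map, hT, map_graph_U0]
    · rw [← Subgroup.map_map, h1, map_graph_A1]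
    · rw [← Subgroup.map_map, h2, map_graph_A0]
  · exact absurd (h1.trans h2.symm) hne

end Cfsg.Agent.S3154
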