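import Cfsg.Statements.S3315
import Cfsg.Agent.S1141
import Mathlib.GroupTheory.Index
import Mathlib.GroupTheory.Sylow

set_option autoImplicit false
open Cfsg

namespace Cfsg.Agent.S3315

open Cfsg.Agent.S1141

section

variable {F : Type*} [Field F] [Fintype F] {n : ℕ} [CharP F 2]
  (hF : Fintype.card F = (2 ^ n) ^ 2)

local notation "q" => (2 ^ n : ℕ)

include hF

/-- first coordinate -/
def pa (g : U hF) : F := (equivPar hF g).1.1

/-- second coordinate -/
def pb (g : U hF) : F := (equivPar hF g).1.2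

theorem pa_mk {a b : F} (h : Par q a b) : pa hF ⟨uel hF h, a, b, h, rfl⟩ = a := by
  simp [pa, equivPar, uel_val, um]

theorem pb_mk {a b : F} (h : Par q a b) : pb hF ⟨uel hF h, a, b, h, rfl⟩ = b := by
  simp [pb, equivPar, uel_val, um]

theorem pa_mul (g g' : U hF) : pa hF (g * g') = pa hF g + pa hF g' := by
  obtain ⟨a, b, h, rfl⟩ := mem_U hF (g := g)
  obtain ⟨a', b', h', rfl⟩ := mem_U hF (g := g')
  rw [mul_eq, pa_mk, pa_mk, pa_mk]

theorem pb_mul (g g' : U hF) :
    pb hF (g * g') = pb hF g + pb hF g' + pa hF g * pa hF g' ^ q := by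
  obtain ⟨a, b, h, rfl⟩ := mem_U hF (g := g)
  obtain ⟨a', b', h', rfl⟩ := mem_U hF (g := g')
  rw [mul_eq, pa_mk, pa_mk, pb_mk, pb_mk, pb_mk]

theorem pa_surj (x : F) : ∃ g : U hF, pa hF g = x := by
  obtain ⟨b, h⟩ := exists_par hF x
  exact ⟨⟨uel hF h, x, b, h, rfl⟩, pa_mk hF h⟩

theorem pa_eq_zero (hn : 2 ≤ n) (g : U hF) : pa hF g = 0 ↔ g ∈ Subgroup.center (U hF) := by
  obtain ⟨a, b, h, rfl⟩ := mem_U hF (g := g)
  rw [pa_mk, mem_center_iff hF hn]

omit hF in
theorem zero_pow_q : (0 : F) ^ q = 0 := zero_pow (by positivity)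

theorem pb_fixed {g : U hF} (hg : pa hF g = 0) : pb hF g ^ q = pb hF g := by
  obtain ⟨a, b, h, rfl⟩ := mem_U hF (g := g)
  rw [pa_mk] at hg
  subst hg
  have e : b ^ q + b = (0 : F) ^ q * 0 := h
  rw [mul_zero] at e
  rw [pb_mk]
  exact CharTwo.add_eq_zero.mp e

theorem exists_central {c : F} (hc : c ^ q = c) :
    ∃ g : U hF, pa hF g = 0 ∧ pb hF g = c := by
  have h : Par q (0 : F) c := by
    unfold Par
    rw [hc, mul_zero, CharTwo.add_self_eq_zero]
  exact ⟨⟨uel hF h, 0, c, h, rfl⟩, pa_mk hF h, pb_mk hF h⟩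

theorem ext_pab {g g' : U hF} (h1 : pa hF g = pa hF g') (h2 : pb hF g = pb hF g') : g = g' :=
  (equivPar hF).injective (Subtype.ext (Prod.ext h1 h2))

/-- An automorphism of `U` whose square is inner fixes the centre. -/
theorem fix_center (hn : 2 ≤ n) (ψ : U hF ≃* U hF) (u₀ : U hF)
    (hψ : ∀ g, ψ (ψ g) = u₀ * g * u₀⁻¹) {z : U hF} (hz : z ∈ Subgroup.center (U hF)) :
    ψ z = z := by
  classical
  have hq4 : 4 ≤ q :=
    le_trans (by norm_num) (Nat.pow_le_pow_right (show 0 < 2 by norm_num) hn)
  have hq0 : q ≠ 0 := by omega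
  have hψz : ∀ g, pa hF g = 0 → pa hF (ψ g) = 0 := fun g hg => by
    rw [pa_eq_zero hF hn] at hg ⊢
    rw [Subgroup.mem_center_iff] at hg ⊢
    intro y
    obtain ⟨y, rfl⟩ := ψ.surjective y
    rw [← map_mul, hg, map_mul]
  have hσ0 : ∀ g g', pa hF g = pa hF g' → pa hF (ψ g) = pa hF (ψ g') := by
    intro g g' e
    have h1 : pa hF (g⁻¹ * g') = 0 := by
      have h2 : pa hF g + pa hF (g⁻¹ * g') = pa hF g + 0 := by
        rw [← pa_mul, mul_inv_cancel_left, add_zero, e]
      exact add_left_cancel h2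
    have h3 : pa hF (ψ g') = pa hF (ψ g) + pa hF (ψ (g⁻¹ * g')) := by
      rw [← pa_mul, ← map_mul, mul_inv_cancel_left]
    rw [h3, hψz _ h1, add_zero]
  choose lft hlft using pa_surj hF
  let σ : F → F := fun x => pa hF (ψ (lft x))
  have hσ : ∀ g, σ (pa hF g) = pa hF (ψ g) := fun g => hσ0 _ _ (hlft _)
  have hσadd : ∀ x y, σ (x + y) = σ x + σ y := fun x y => by
    have h := hσ (lft x * lft y)
    rw [pa_mul, hlft, hlft, map_mul, pa_mul] at h
    exact h
  have hσσ : ∀ x, σ (σ x) = x := fun x => by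
    change σ (pa hF (ψ (lft x))) = x
    rw [hσ, hψ]
    have h1 : pa hF u₀ + pa hF u₀⁻¹ = 0 := by
      rw [← pa_mul, mul_inv_cancel]
      exact (pa_eq_zero hF hn 1).mpr (one_mem _)
    rw [pa_mul, pa_mul, add_right_comm, h1, zero_add, hlft]
  -- the action on the centre
  have hcen : ∀ c : F, ∃ g : U hF, c ^ q = c → pa hF g = 0 ∧ pb hF g = c := fun c => by
    by_cases hc : c ^ q = c
    · obtain ⟨g, hg⟩ := exists_central hF hc
      exact ⟨g, fun _ => hg⟩
    · exact ⟨1, fun h => absurd h hc⟩
  choose cel hcel using hcen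
  let τ : F → F := fun c => pb hF (ψ (cel c))
  have hτ : ∀ g, pa hF g = 0 → τ (pb hF g) = pb hF (ψ g) := fun g hg => by
    obtain ⟨h1, h2⟩ := hcel _ (pb_fixed hF hg)
    change pb hF (ψ (cel _)) = _
    rw [ext_pab hF (h1.trans hg.symm) h2]
  have hτfix : ∀ c, c ^ q = c → τ c ^ q = τ c := fun c hc =>
    pb_fixed hF (hψz _ (hcel c hc).1)
  have hsqpar : ∀ g : U hF, pa hF (g * g) = 0 ∧ pb hF (g * g) = pa hF g * pa hF g ^ q :=
    fun g => by
      rw [pa_mul, pb_mul, CharTwo.add_self_eq_zero, CharTwo.add_self_eq_zero, zero_add]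
      exact ⟨rfl, rfl⟩
  have hN : ∀ x, τ (x * x ^ q) = σ x * σ x ^ q := fun x => by
    have h := hτ _ (hsqpar (lft x)).1
    rw [(hsqpar _).2, hlft, map_mul, (hsqpar _).2] at h
    exact h
  let T : F → F → F := fun x y => x * y ^ q + y * x ^ q
  have hTfix : ∀ x y, T x y ^ q = T x y := fun x y => by
    simp only [T]
    rw [add_pow_q, mul_pow, mul_pow, pow_pow_q hF, pow_pow_q hF]
    ring
  have hT : ∀ x y, τ (T x y) = T (σ x) (σ y) := fun x y => by
    obtain ⟨h1, h2⟩ := hcel _ (hTfix x y)
    have e : lft y * lft x * cel (T x y) = lft x * lft y := by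
      apply ext_pab hF
      · rw [pa_mul, pa_mul, pa_mul, h1, add_zero, add_comm]
      · rw [pb_mul, pb_mul, pb_mul, h1, h2, hlft, hlft, zero_pow_q, mul_zero, add_zero]
        simp only [T]
        linear_combination (y * x ^ q) * CharTwo.two_eq_zero (R := F)
    have e' := congrArg (fun g => pb hF (ψ g)) e
    simp only [map_mul, pb_mul, pa_mul, hψz _ h1] at e'
    rw [zero_pow_q, mul_zero, add_zero] at e'
    change pb hF (ψ (cel (T x y))) =
      pa hF (ψ (lft x)) * pa hF (ψ (lft y)) ^ q + pa hF (ψ (lft y)) * pa hF (ψ (lft x)) ^ q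
    linear_combination e' - (pa hF (ψ (lft y)) * pa hF (ψ (lft x)) ^ q) *
      CharTwo.two_eq_zero (R := F)
  have hττ : ∀ c, c ^ q = c → τ (τ c) = c := fun c hc => by
    obtain ⟨h1, h2⟩ := hcel c hc
    change τ (pb hF (ψ (cel c))) = c
    rw [hτ _ (hψz _ h1), hψ]
    have h3 := (pa_eq_zero hF hn _).mp h1
    rw [Subgroup.mem_center_iff] at h3
    rw [h3 u₀, mul_inv_cancel_right, h2]
  have hτadd : ∀ c d, c ^ q = c → d ^ q = d → τ (c + d) = τ c + τ d := fun c d hc hd => by
    obtain ⟨h1, h2⟩ := hcel c hc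
    obtain ⟨h3, h4⟩ := hcel d hd
    have h5 : pa hF (cel c * cel d) = 0 := by rw [pa_mul, h1, h3, add_zero]
    have h := hτ _ h5
    rw [pb_mul, h1, h2, h4, zero_mul, add_zero, map_mul, pb_mul, hψz _ h1, zero_mul,
      add_zero] at h
    exact h
  -- it suffices that `τ` is trivial
  suffices hmain : ∀ c : F, c ^ q = c → τ c = c by
    have hz0 : pa hF z = 0 := (pa_eq_zero hF hn z).mpr hz
    apply ext_pab hF
    · rw [hψz z hz0, hz0]
    · rw [← hτ z hz0]
      exact hmain _ (pb_fixed hF hz0)
  -- the fixed space of `σ`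
  let σh : F →+ F := AddMonoidHom.mk' (fun x => σ x + x) fun x y => by
    change σ (x + y) + (x + y) = _
    rw [hσadd]
    ring
  have hW : ∀ x, x ∈ σh.ker ↔ σ x = x := fun x => CharTwo.add_eq_zero
  have hWcard : q ≤ Nat.card σh.ker := by
    have hle : σh.range ≤ σh.ker := by
      rintro _ ⟨x, rfl⟩
      rw [hW]
      change σ (σ x + x) = σ x + x
      rw [hσadd, hσσ, add_comm]
    have hmul : Nat.card σh.range * Nat.card σh.ker = q ^ 2 := by
      rw [← hF, ← Nat.card_eq_fintype_card,
        AddSubgroup.card_eq_card_quotient_mul_card_addSubgroup σh.ker,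
        Nat.card_congr (QuotientAddGroup.quotientKerEquivRange σh).toEquiv]
    have hrk : Nat.card σh.range ≤ Nat.card σh.ker :=
      Nat.card_le_card_of_injective _ (AddSubgroup.inclusion_injective hle)
    by_contra h
    have h1 := Nat.mul_le_mul_right (Nat.card σh.ker) hrk
    have h2 := Nat.mul_lt_mul'' (not_le.mp h) (not_le.mp h)
    rw [hmul, pow_two] at h1
    omega
  have hT0 : ∀ x y, x ≠ 0 → T x y = 0 → (y / x) ^ q = y / x := fun x y hx h => by
    rw [div_pow, div_eq_div_iff (pow_ne_zero _ hx) hx]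
    have h' : x * y ^ q + y * x ^ q = 0 := h
    rw [mul_comm (y ^ q) x]
    exact CharTwo.add_eq_zero.mp h'
  by_cases hcase : ∀ x ∈ σh.ker, ∀ y ∈ σh.ker, T x y = 0
  · -- `σh.ker` is a line over the subfield
    obtain ⟨a, ha, ha0⟩ : ∃ a ∈ σh.ker, a ≠ 0 := by
      by_contra h
      push Not at h
      have h1 : σh.ker = ⊥ := eq_bot_iff.mpr fun x hx => h x hx
      rw [h1, AddSubgroup.card_bot] at hWcard
      omega
    intro c hc
    have hN0 : a * a ^ q ≠ 0 := mul_ne_zero ha0 (pow_ne_zero _ ha0)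
    -- a square root in the subfield
    obtain ⟨l, hl⟩ : ∃ l : F, l ^ 2 = c / (a * a ^ q) := by
      haveI : PerfectRing F 2 := inferInstance
      obtain ⟨l, hl⟩ := surjective_frobenius F 2 (c / (a * a ^ q))
      exact ⟨l, hl⟩
    have hlq : l ^ q = l := CharTwo.sq_injective (by
      change (l ^ q) ^ 2 = l ^ 2
      rw [← pow_mul, mul_comm, pow_mul, hl, div_pow, hc, mul_pow, pow_pow_q hF,
        mul_comm (a ^ q) a])
    have hla : l * a ∈ σh.ker := by
      let K : AddSubgroup F :=
        { carrier := {x | (x / a) ^ q = x / a}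
          add_mem' := fun {x y} hx hy => by
            change ((x + y) / a) ^ q = (x + y) / a
            rw [add_div, add_pow_q, show (x / a) ^ q = x / a from hx,
              show (y / a) ^ q = y / a from hy]
          zero_mem' := by
            change ((0 : F) / a) ^ q = 0 / a
            rw [zero_div, zero_pow_q]
          neg_mem' := fun {x} hx => by
            change (-x / a) ^ q = -x / a
            rw [CharTwo.neg_eq]
            exact hx }
      have hle : σh.ker ≤ K := fun x hx => hT0 a x ha0 (hcase a ha x hx)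
      have hK : Nat.card K ≤ q := by
        rw [← (card_ker_trQ hF).1]
        refine Nat.card_le_card_of_injective
          (fun x => (⟨(x : F) / a, CharTwo.add_eq_zero.mpr x.2⟩ : (trQ hF).ker)) ?_
        intro x y h
        exact Subtype.ext ((div_left_inj' ha0).mp (congrArg Subtype.val h))
      have heq : σh.ker = K := AddSubgroup.eq_of_le_of_card_ge hle (hK.trans hWcard)
      rw [heq]
      change (l * a / a) ^ q = l * a / a
      rw [mul_div_cancel_right₀ _ ha0, hlq]
    have h := hN (l * a)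
    rw [(hW _).mp hla] at h
    have e : l * a * (l * a) ^ q = c := by
      rw [mul_pow, hlq]
      linear_combination (a * a ^ q) * hl + div_mul_cancel₀ c hN0
    rw [e] at h
    exact h
  · push Not at hcase
    obtain ⟨a, ha, b, hb, hc0⟩ := hcase
    rw [hW] at ha hb
    set c := T a b with hcdef
    have hcq : c ^ q = c := hTfix a b
    have ha0 : a ≠ 0 := by
      intro h
      apply hc0
      simp [hcdef, T, h, hq0]
    have hb0 : b ≠ 0 := by
      intro h
      apply hc0
      simp [hcdef, T, h, hq0]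
    have hτ0 : τ 0 = 0 := by
      have h := hτadd 0 0 zero_pow_q zero_pow_q
      rw [add_zero, CharTwo.add_self_eq_zero] at h
      exact h
    have hline : ∀ x, σ x = x → x ≠ 0 → ∀ l, l ^ q = l →
        ∃ m, m ^ q = m ∧ σ (l * x) = m * x := by
      intro x hx hx0 l hl
      refine ⟨σ (l * x) / x, hT0 x _ hx0 ?_, (div_mul_cancel₀ _ hx0).symm⟩
      have h : T x (l * x) = 0 := by
        simp only [T]
        rw [mul_pow, hl]
        linear_combination (l * x * x ^ q) * CharTwo.two_eq_zero (R := F)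
      have h' := hT x (l * x)
      rw [h, hx, hτ0] at h'
      exact h'.symm
    let f : F → F := fun l => σ (l * a) / a
    let g : F → F := fun l => σ (l * b) / b
    have hf : ∀ l, l ^ q = l → f l ^ q = f l := fun l hl => by
      obtain ⟨m, hm, he⟩ := hline a ha ha0 l hl
      simp only [f, he, mul_div_cancel_right₀ _ ha0, hm]
    have hg : ∀ l, l ^ q = l → g l ^ q = g l := fun l hl => by
      obtain ⟨m, hm, he⟩ := hline b hb hb0 l hl
      simp only [g, he, mul_div_cancel_right₀ _ hb0, hm]
    have hfg : ∀ l m, l ^ q = l → m ^ q = m → τ (l * m * c) = f l * g m * c := by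
      intro l m hl hm
      have h := hT (l * a) (m * b)
      have e1 : T (l * a) (m * b) = l * m * c := by
        simp only [hcdef, T, mul_pow, hl, hm]
        ring
      have e2 : σ (l * a) = f l * a := (div_mul_cancel₀ _ ha0).symm
      have e3 : σ (m * b) = g m * b := (div_mul_cancel₀ _ hb0).symm
      rw [e1, e2, e3] at h
      rw [h]
      simp only [hcdef, T, mul_pow, hf l hl, hg m hm]
      ring
    have hf1 : f 1 = 1 := by simp only [f, one_mul, ha, div_self ha0]
    have hg1 : g 1 = 1 := by simp only [g, one_mul, hb, div_self hb0]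
    have h1q : (1 : F) ^ q = 1 := one_pow _
    have hτf : ∀ l, l ^ q = l → τ (l * c) = f l * c := fun l hl => by
      have h := hfg l 1 hl h1q
      rwa [mul_one, hg1, mul_one] at h
    have hgf : ∀ l, l ^ q = l → g l = f l := fun l hl => by
      have h := hfg 1 l h1q hl
      rw [one_mul, hτf l hl, hf1, one_mul] at h
      exact (mul_right_cancel₀ hc0 h).symm
    have hfmul : ∀ l m, l ^ q = l → m ^ q = m → f (l * m) = f l * f m := by
      intro l m hl hm
      have h := hfg l m hl hm
      rw [hτf _ (by rw [mul_pow, hl, hm]), hgf m hm] at h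
      exact mul_right_cancel₀ hc0 h
    have hfadd : ∀ l m, f (l + m) = f l + f m := fun l m => by
      simp only [f, add_mul, hσadd, add_div]
    have hff : ∀ l, l ^ q = l → f (f l) = l := fun l hl => by
      simp only [f]
      rw [div_mul_cancel₀ _ ha0, hσσ, mul_div_cancel_right₀ _ ha0]
    by_cases hid : ∀ l, l ^ q = l → f l = l
    · intro d hd
      have hl : (d / c) ^ q = d / c := by rw [div_pow, hd, hcq]
      have h := hτf _ hl
      rwa [div_mul_cancel₀ _ hc0, hid _ hl, div_mul_cancel₀ _ hc0] at h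
    exfalso
    push Not at hid
    obtain ⟨l, hl, hfl⟩ := hid
    set d := l + f l with hd
    have hd0 : d ≠ 0 := fun h => hfl (CharTwo.add_eq_zero.mp h).symm
    have hdq : d ^ q = d := by rw [hd, add_pow_q, hl, hf l hl]
    have hdf : f d = d := by rw [hd, hfadd, hff l hl, add_comm]
    set w := l / d with hw
    have hwq : w ^ q = w := by rw [hw, div_pow, hl, hdq]
    have hfw : f w = w + 1 := by
      have h := hfmul w d hwq hdq
      rw [hdf, hw, div_mul_cancel₀ _ hd0] at h
      have e : f w = f l / d := (eq_div_iff hd0).mpr h.symm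
      rw [e, hw, div_add_one hd0, hd]
      congr 1
      linear_combination (-l) * CharTwo.two_eq_zero (R := F)
    let F0 : Finset F := Finset.univ.filter fun x => x ^ q = x ∧ f x = x
    let S : Finset F := F0 ∪ F0.image (· + w)
    have hdisj : Disjoint F0 (F0.image (· + w)) := by
      rw [Finset.disjoint_left]
      intro x hx hx'
      obtain ⟨y, hy, rfl⟩ := Finset.mem_image.mp hx'
      simp only [F0, Finset.mem_filter, Finset.mem_univ, true_and] at hx hy
      have h := hx.2
      rw [hfadd, hy.2, hfw, ← add_assoc] at h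
      exact one_ne_zero (left_eq_add.mp h.symm)
    have hSc : S.card = 2 * F0.card := by
      rw [Finset.card_union_of_disjoint hdisj,
        Finset.card_image_of_injective _ (add_left_injective w), two_mul]
    have hSmem : ∀ x ∈ S, x ^ q = x ∧ f (x * x + x) = x * x + x := by
      intro x hx
      rcases Finset.mem_union.mp hx with hx | hx
      · simp only [F0, Finset.mem_filter, Finset.mem_univ, true_and] at hx
        refine ⟨hx.1, ?_⟩
        rw [hfadd, hfmul x x hx.1 hx.1, hx.2]
      · obtain ⟨y, hy, rfl⟩ := Finset.mem_image.mp hx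
        simp only [F0, Finset.mem_filter, Finset.mem_univ, true_and] at hy
        have hxq : (y + w) ^ q = y + w := by rw [add_pow_q, hy.1, hwq]
        refine ⟨hxq, ?_⟩
        rw [hfadd, hfmul _ _ hxq hxq, hfadd, hy.2, hfw]
        linear_combination (y + w + 1) * CharTwo.two_eq_zero (R := F)
    have himg : S.image (fun x => x * x + x) = F0 := by
      refine Finset.eq_of_subset_of_card_le ?_ ?_
      · intro x hx
        obtain ⟨y, hy, rfl⟩ := Finset.mem_image.mp hx
        obtain ⟨h1, h2⟩ := hSmem y hy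
        simp only [F0, Finset.mem_filter, Finset.mem_univ, true_and]
        exact ⟨by rw [add_pow_q, mul_pow, h1], h2⟩
      · have h : S.card ≤ 2 * (S.image (fun x => x * x + x)).card := by
          refine Finset.card_le_mul_card_image S 2 fun y hy => ?_
          obtain ⟨x0, -, rfl⟩ := Finset.mem_image.mp hy
          refine le_trans (Finset.card_le_card (t := {x0, x0 + 1}) ?_) Finset.card_le_two
          intro x hx
          rw [Finset.mem_filter] at hx
          rw [Finset.mem_insert, Finset.mem_singleton]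
          have e : (x + x0) * (x + x0 + 1) = 0 := by
            linear_combination hx.2 + (x * x0 + x0 * x0 + x0) * CharTwo.two_eq_zero (R := F)
          rcases mul_eq_zero.mp e with e | e
          · exact Or.inl (CharTwo.add_eq_zero.mp e)
          · exact Or.inr (CharTwo.add_eq_zero.mp (by rw [← add_assoc]; exact e))
        omega
    have hNa : a * a ^ q ≠ 0 := mul_ne_zero ha0 (pow_ne_zero _ ha0)
    have hfixN : ∀ x, σ x = x →
        (x * x ^ q / c) ^ q = x * x ^ q / c ∧ f (x * x ^ q / c) = x * x ^ q / c := by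
      intro x hx
      have h1 : (x * x ^ q / c) ^ q = x * x ^ q / c := by
        rw [div_pow, mul_pow, pow_pow_q hF, hcq, mul_comm (x ^ q)]
      refine ⟨h1, ?_⟩
      have h := hτf _ h1
      rw [div_mul_cancel₀ _ hc0, hN, hx] at h
      exact ((div_eq_iff hc0).mpr h).symm
    obtain ⟨hA1, hA2⟩ := hfixN a ha
    obtain ⟨hB1, hB2⟩ := hfixN b hb
    have hAB : a * a ^ q / c * (b * b ^ q / c) ∈ F0 := by
      simp only [F0, Finset.mem_filter, Finset.mem_univ, true_and]
      exact ⟨by rw [mul_pow, hA1, hB1], by rw [hfmul _ _ hA1 hB1, hA2, hB2]⟩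
    rw [← himg] at hAB
    obtain ⟨y, hy, hye⟩ := Finset.mem_image.mp hAB
    have hyq := (hSmem y hy).1
    set x := y / (a * a ^ q / c) with hx
    have hxq : x ^ q = x := by rw [hx, div_pow, hyq, hA1]
    have hAx : x * (a * a ^ q / c) = y := div_mul_cancel₀ _ (div_ne_zero hNa hc0)
    have hzero : (x * a + b) * (x * a + b) ^ q = 0 := by
      have hca : a * a ^ q / c * c = a * a ^ q := div_mul_cancel₀ _ hc0
      have hcb : b * b ^ q / c * c = b * b ^ q := div_mul_cancel₀ _ hc0
      have h3 : a * a ^ q / c * (x ^ 2 * (a * a ^ q / c) + x + b * b ^ q / c) = 0 := by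
        linear_combination
          (x * (a * a ^ q / c) + y + 1) * hAx + hye +
            (a * a ^ q / c * (b * b ^ q / c)) * CharTwo.two_eq_zero (R := F)
      have h4 := (mul_eq_zero.mp h3).resolve_left (div_ne_zero hNa hc0)
      have e : (x * a + b) * (x * a + b) ^ q = x ^ 2 * (a * a ^ q) + x * c + b * b ^ q := by
        rw [add_pow_q, mul_pow, hxq, hcdef]
        simp only [T]
        ring
      rw [e, ← hca, ← hcb]
      linear_combination c * h4
    have hbx : x * a + b = 0 := by
      rcases mul_eq_zero.mp hzero with h | h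
      · exact h
      · exact eq_zero_of_pow_eq_zero h
    apply hc0
    rw [hcdef, show b = x * a from (CharTwo.add_eq_zero.mp hbx).symm]
    simp only [T]
    rw [mul_pow, hxq]
    linear_combination (x * a * a ^ q) * CharTwo.two_eq_zero (R := F)

/-- `U` is isomorphic to every Sylow 2-subgroup of the special unitary group. -/
theorem equiv_sylow (hn : 2 ≤ n) (P : Sylow 2 (Cfsg.SU 3 F q)) :
    Nonempty (U hF ≃* (P : Subgroup (Cfsg.SU 3 F q))) := by
  classical
  haveI : Fact (Nat.Prime 2) := ⟨Nat.prime_two⟩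
  obtain ⟨hcard, -⟩ := S1141.result hn hF (default : Sylow 2 (Cfsg.PSU 3 F q))
  have hSU : Nat.card (Cfsg.SU 3 F q) =
      Nat.card (Cfsg.PSU 3 F q) * Nat.card (Subgroup.center (Cfsg.SU 3 F q)) :=
    Subgroup.card_eq_card_quotient_mul_card_subgroup _
  have hq2 : 2 ∣ q := dvd_pow_self 2 (by omega)
  have hq4 : 4 ≤ q :=
    le_trans (by norm_num) (Nat.pow_le_pow_right (show 0 < 2 by norm_num) hn)
  have hz : Nat.card (Subgroup.center (Cfsg.SU 3 F q)) = Nat.gcd 3 (q + 1) :=
    Cfsg.Agent.Lib.Classical.card_center_SU hF (by omega)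
  have hodd : ¬ 2 ∣ Nat.gcd 3 (q + 1) := fun h => by
    have := h.trans (Nat.gcd_dvd_right 3 (q + 1))
    omega
  have hcu : Nat.card (U hF) = 2 ^ (Nat.card (Cfsg.SU 3 F q)).factorization 2 := by
    rw [hSU, hz, Nat.factorization_mul Nat.card_pos.ne' (by
      intro h0; exact hodd (h0 ▸ dvd_zero 2)), Finsupp.add_apply,
      Nat.factorization_eq_zero_of_not_dvd hodd, add_zero, card_U hF]
    rw [Sylow.card_eq_multiplicity] at hcard
    exact hcard.symm
  exact ⟨(Sylow.ofCard (U hF) hcu).equiv P⟩

end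

/-- Let S be a Sylow 2-subgroup of SU₃(2ⁿ), n ≥ 2 (realised over the field with 4ⁿ elements). If a finite 2-group R contains a subgroup S' of index 2 isomorphic to S, then the centre of S' is contained in the centre of R. -/
theorem result {R : Type*} [Group R] [Finite R]
    (hR : IsPGroup 2 R) (n : ℕ) (hn : 2 ≤ n) {F : Type*} [Field F] [Fintype F] (hF : Fintype.card F = 4 ^ n)
    (P : Sylow 2 ↥(Cfsg.SU 3 F (2 ^ n))) (S' : Subgroup R) (hS : Nonempty (↥S' ≃* ↥(P : Subgroup ↥(Cfsg.SU 3 F (2 ^ n)))))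
    (hidx : S'.index = 2) :
    (Subgroup.center ↥S').map S'.subtype ≤ Subgroup.center R := by
  have _ := hR
  have hF' : Fintype.card F = (2 ^ n) ^ 2 := by
    rw [hF, show (4 : ℕ) = 2 ^ 2 by norm_num, ← pow_mul, ← pow_mul, mul_comm]
  haveI : CharP F 2 := charTwo (by omega) hF'
  obtain ⟨eS⟩ := hS
  obtain ⟨eU⟩ := equiv_sylow hF' hn P
  let e : U hF' ≃* S' := eU.trans eS.symm
  haveI : S'.Normal := Subgroup.normal_of_index_eq_two hidx
  rintro _ ⟨z, hz, rfl⟩
  rw [Subgroup.mem_center_iff]
  intro x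
  by_cases hx : x ∈ S'
  · exact congrArg Subtype.val (Subgroup.mem_center_iff.mp hz ⟨x, hx⟩)
  let φ : S' ≃* S' := MulAut.conjNormal x
  let ψ : U hF' ≃* U hF' := e.trans (φ.trans e.symm)
  have hxx : x * x ∈ S' := Subgroup.mul_self_mem_of_index_two hidx x
  have hψ : ∀ g, ψ (ψ g) = e.symm ⟨x * x, hxx⟩ * g * (e.symm ⟨x * x, hxx⟩)⁻¹ := by
    intro g
    apply e.injective
    simp only [ψ, MulEquiv.trans_apply, MulEquiv.apply_symm_apply, map_mul, map_inv]
    apply Subtype.ext
    simp [φ, MulAut.conjNormal_apply, mul_assoc]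
  have hzc : e.symm z ∈ Subgroup.center (U hF') := by
    rw [Subgroup.mem_center_iff]
    intro g
    apply e.injective
    simp only [map_mul, MulEquiv.apply_symm_apply]
    exact Subgroup.mem_center_iff.mp hz (e g)
  have h := fix_center hF' hn ψ _ hψ hzc
  simp only [ψ, MulEquiv.trans_apply, MulEquiv.apply_symm_apply, EmbeddingLike.apply_eq_iff_eq] at h
  have h' : x * (z : R) * x⁻¹ = z := by
    simpa [φ, MulAut.conjNormal_apply] using congrArg Subtype.val h
  exact mul_inv_eq_iff_eq_mul.mp h'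

end Cfsg.Agent.S3315
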