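import Cfsg.Statements.S3156
import Cfsg.Agent.S3315

set_option autoImplicit false
open Cfsg

namespace Cfsg.Agent.S3156

open Cfsg.Agent.S1141 Cfsg.Agent.S3315

section

variable {F : Type*} [Field F] [Fintype F] {n : ℕ} [CharP F 2]
  (hF : Fintype.card F = (2 ^ n) ^ 2)

local notation "q" => (2 ^ n : ℕ)

include hF

/-- An automorphism of `U` of order dividing 3 that fixes the centre is trivial when `3` is
prime to `q + 1`. -/
theorem eq_one_of_cube (hn : 2 ≤ n) (h3 : Nat.Coprime 3 (q + 1)) (ρ : MulAut (U hF))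
    (hρ : ρ ^ 3 = 1) (hz : ∀ z ∈ Subgroup.center (U hF), ρ z = z) : ρ = 1 := by
  classical
  have hz0 : ∀ g, pa hF g = 0 → ρ g = g := fun g hg => hz g ((pa_eq_zero hF hn g).mp hg)
  have hσ0 : ∀ g g', pa hF g = pa hF g' → pa hF (ρ g) = pa hF (ρ g') := by
    intro g g' e
    have h1 : pa hF (g⁻¹ * g') = 0 := by
      have h2 : pa hF g + pa hF (g⁻¹ * g') = pa hF g + 0 := by
        rw [← pa_mul, mul_inv_cancel_left, add_zero, e]
      exact add_left_cancel h2
    have h3' : pa hF (ρ g') = pa hF (ρ g) + pa hF (ρ (g⁻¹ * g')) := by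
      rw [← pa_mul, ← map_mul, mul_inv_cancel_left]
    rw [h3', hz0 _ h1, h1, add_zero]
  choose lft hlft using pa_surj hF
  let σ : F → F := fun x => pa hF (ρ (lft x))
  have hσ : ∀ g, σ (pa hF g) = pa hF (ρ g) := fun g => hσ0 _ _ (hlft _)
  have hσadd : ∀ x y, σ (x + y) = σ x + σ y := fun x y => by
    have h := hσ (lft x * lft y)
    rw [pa_mul, hlft, hlft, map_mul, pa_mul] at h
    exact h
  have hσ3 : ∀ x, σ (σ (σ x)) = x := fun x => by
    rw [show σ x = pa hF (ρ (lft x)) from rfl, hσ (ρ (lft x)), hσ]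
    have h : (ρ ^ 3) (lft x) = lft x := by rw [hρ]; rfl
    rw [pow_succ, pow_two, MulAut.mul_apply, MulAut.mul_apply] at h
    rw [h, hlft]
  have hsq : ∀ g : U hF, pa hF (g * g) = 0 ∧ pb hF (g * g) = pa hF g * pa hF g ^ q := fun g => by
    rw [pa_mul, pb_mul, CharTwo.add_self_eq_zero, CharTwo.add_self_eq_zero, zero_add]
    exact ⟨rfl, rfl⟩
  have hN : ∀ x, σ x * σ x ^ q = x * x ^ q := fun x => by
    have h := congrArg (pb hF) (hz0 _ (hsq (lft x)).1)
    rw [map_mul, (hsq _).2, (hsq _).2, hlft] at h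
    exact h
  set u := σ 1 with hu
  have hNu : u * u ^ q = 1 := by rw [hN, one_pow, mul_one]
  have hu0 : u ≠ 0 := left_ne_zero_of_mul_eq_one hNu
  have huq : u ^ q ≠ 0 := pow_ne_zero _ hu0
  have hcase : ∀ x, σ x = u * x ∨ σ x = u * x ^ q := fun x => by
    have h := hN (x + 1)
    rw [hσadd, ← hu, add_pow_q, add_pow_q, one_pow] at h
    have hT : σ x * u ^ q + u * σ x ^ q = x + x ^ q := by linear_combination h - hN x - hNu
    have e : u ^ q * ((σ x - u * x) * (σ x - u * x ^ q)) = 0 := by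
      linear_combination (σ x) * hT - u * hN x + u * (x * x ^ q) * hNu +
        (-(σ x) * (x + x ^ q)) * hNu
    rcases mul_eq_zero.mp ((mul_eq_zero.mp e).resolve_left huq) with e | e
    · exact Or.inl (sub_eq_zero.mp e)
    · exact Or.inr (sub_eq_zero.mp e)
  have hcases : (∀ x, σ x = u * x) ∨ (∀ x, σ x = u * x ^ q) := by
    by_contra h
    push Not at h
    obtain ⟨⟨x, hx⟩, ⟨y, hy⟩⟩ := h
    have hx' := (hcase x).resolve_left hx
    have hy' := (hcase y).resolve_right hy
    rcases hcase (x + y) with h | h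
    · rw [hσadd, hy', mul_add, add_right_cancel_iff] at h
      exact hx h
    · rw [hσadd, hx', add_pow_q, mul_add, add_left_cancel_iff] at h
      exact hy h
  have hσid : ∀ x, σ x = x := by
    rcases hcases with h | h
    · have h1 : u ^ 3 = 1 := by
        have := hσ3 1
        rw [h, h, h] at this
        linear_combination this
      have h2 : u ^ (q + 1) = 1 := by rw [pow_succ, mul_comm]; exact hNu
      have h4 : u = 1 := by
        rw [← pow_one u, ← h3.gcd_eq_one]
        exact pow_gcd_eq_one.mpr ⟨h1, h2⟩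
      intro x
      rw [h, h4, one_mul]
    · have h2 : ∀ x, σ (σ x) = x := fun x => by
        rw [h, h, mul_pow, pow_pow_q hF, ← mul_assoc, hNu, one_mul]
      intro x
      have h4 := hσ3 x
      rwa [h2] at h4
  -- `ρ` is trivial on the centre and on the quotient
  apply MulEquiv.ext
  intro g
  set w := g⁻¹ * ρ g with hw
  have hρg : ρ g = g * w := (mul_inv_cancel_left g (ρ g)).symm
  have hw0 : pa hF w = 0 := by
    have h := congrArg (pa hF) hρg
    rw [pa_mul, ← hσ, hσid] at h
    exact left_eq_add.mp h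
  have hww : w * w = 1 := by
    refine ext_pab hF ((hsq w).1.trans ((pa_eq_zero hF hn 1).mpr (one_mem _)).symm) ?_
    rw [(hsq w).2, hw0, zero_mul]
    have h1 : pb hF (1 : U hF) + pb hF 1 + pa hF (1 : U hF) * pa hF (1 : U hF) ^ q = pb hF 1 := by
      rw [← pb_mul, one_mul]
    rw [(pa_eq_zero hF hn 1).mpr (one_mem _), zero_mul, add_zero,
      CharTwo.add_self_eq_zero] at h1
    exact h1
  have h : (ρ ^ 3) g = g := by rw [hρ]; rfl
  rw [pow_succ, pow_two, MulAut.mul_apply, MulAut.mul_apply] at h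
  simp only [hρg, map_mul, hz0 w hw0, mul_assoc, hww, mul_one] at h
  rw [hρg, h]
  rfl

/-- `U` is isomorphic to every Sylow 2-subgroup of the projective unitary group. -/
theorem equiv_sylow_PSU (hn : 2 ≤ n) (S : Sylow 2 (Cfsg.PSU 3 F q)) :
    Nonempty (U hF ≃* (S : Subgroup (Cfsg.PSU 3 F q))) := by
  classical
  haveI : Fact (Nat.Prime 2) := ⟨Nat.prime_two⟩
  let f : U hF →* Cfsg.PSU 3 F q :=
    (QuotientGroup.mk' (Subgroup.center (Cfsg.SU 3 F q))).comp (U hF).subtype
  have hq2 : 2 ∣ q := dvd_pow_self 2 (by omega)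
  have hq4 : 4 ≤ q :=
    le_trans (by norm_num) (Nat.pow_le_pow_right (show 0 < 2 by norm_num) hn)
  have hfinj : Function.Injective f := by
    rw [injective_iff_map_eq_one]
    intro x hx
    have hxz : (x : Cfsg.SU 3 F q) ∈ Subgroup.center (Cfsg.SU 3 F q) :=
      (QuotientGroup.eq_one_iff _).mp hx
    have h1 : orderOf (x : Cfsg.SU 3 F q) ∣ q ^ 3 := by
      rw [Subgroup.orderOf_coe, ← card_U hF]
      exact orderOf_dvd_natCard x
    have h2 : orderOf (x : Cfsg.SU 3 F q) ∣ Nat.gcd 3 (q + 1) := by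
      rw [← Cfsg.Agent.Lib.Classical.card_center_SU hF (show 1 ≤ 3 by omega)]
      exact (Subgroup.center _).orderOf_dvd_natCard hxz
    have hco : Nat.Coprime (q ^ 3) (Nat.gcd 3 (q + 1)) := by
      refine Nat.Coprime.pow_left _ (Nat.Coprime.pow_left _ ?_)
      refine (Nat.Prime.coprime_iff_not_dvd Nat.prime_two).mpr fun h => ?_
      have := h.trans (Nat.gcd_dvd_right 3 (q + 1))
      omega
    exact Subtype.ext (orderOf_eq_one_iff.mp (Nat.eq_one_of_dvd_coprimes hco h1 h2))
  have hfc : Nat.card f.range = 2 ^ (Nat.card (Cfsg.PSU 3 F q)).factorization 2 := by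
    rw [← Nat.card_congr (MonoidHom.ofInjective hfinj).toEquiv, card_U hF, ← (S1141.result hn hF S).1]
    exact Sylow.card_eq_multiplicity S
  exact ⟨(MonoidHom.ofInjective hfinj).trans ((Sylow.ofCard f.range hfc).equiv S)⟩

end

/-- If a finite group T is isomorphic to a Sylow 2-subgroup of the projective special unitary group of dimension 3 with parameter 4 (realised over the field with 16 elements), then no subgroup of the automorphism group of T is isomorphic to the symmetric group of degree 3. -/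
theorem result {T : Type*} [Group T] [Finite T] (hT : (∃ (F : Type) (_ : Field F) (_ : Fintype F), Fintype.card F = 16 ∧ ∃ S : Sylow 2 (Cfsg.PSU 3 F 4), Nonempty (T ≃* ↥(S : Subgroup (Cfsg.PSU 3 F 4))))) (H : Subgroup (MulAut T)) : ¬ Nonempty (↥H ≃* Equiv.Perm (Fin 3)) := by
  classical
  rintro ⟨e⟩
  obtain ⟨F, fF, ftF, hcard, S, ⟨eT⟩⟩ := hT
  have hF : Fintype.card F = (2 ^ 2) ^ 2 := hcard
  haveI : CharP F 2 := charTwo (by omega) hF
  obtain ⟨eU⟩ := equiv_sylow_PSU hF le_rfl S
  let c : T ≃* U hF := eT.trans eU.symm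
  let Φ : Equiv.Perm (Fin 3) →* MulAut (U hF) :=
    (MulAut.congr c).toMonoidHom.comp (H.subtype.comp e.symm.toMonoidHom)
  have hΦ : Function.Injective Φ :=
    (MulAut.congr c).injective.comp (Subtype.val_injective.comp e.symm.injective)
  have hinv : ∀ s : Equiv.Perm (Fin 3), s * s = 1 →
      ∀ z ∈ Subgroup.center (U hF), Φ s z = z := by
    intro s hs z hz
    refine fix_center hF le_rfl (Φ s) 1 (fun g => ?_) hz
    rw [← MulAut.mul_apply, ← map_mul, hs, map_one, inv_one, one_mul, mul_one]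
    rfl
  set r : Equiv.Perm (Fin 3) := Equiv.swap 0 1 * Equiv.swap 1 2 with hr
  have hr3 : r ^ 3 = 1 := by rw [hr]; decide
  have hr1 : r ≠ 1 := by rw [hr]; decide
  have h1 : Φ r = 1 := by
    refine eq_one_of_cube hF le_rfl (by decide) (Φ r) (by rw [← map_pow, hr3, map_one]) ?_
    intro z hz
    rw [hr, map_mul, MulAut.mul_apply, hinv _ (Equiv.swap_mul_self _ _) z hz,
      hinv _ (Equiv.swap_mul_self _ _) z hz]
  exact hr1 (hΦ (h1.trans Φ.map_one.symm))

end Cfsg.Agent.S3156
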