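import Cfsg.Statements.S3157
import Cfsg.Agent.Lib.PGroups.UnitriangularFour
import Cfsg.Agent.Lib.PGroups.FpfOrderThree

set_option autoImplicit false
open Cfsg

namespace Cfsg.Agent.S3157

open Cfsg.Agent.Lib.PGroups
open scoped commutatorElement

/-- A group of order eight with a twisted pair of generators is dihedral or quaternion. -/
theorem dihedral_or_quaternion {C : Type*} [Group C] [Finite C] (hC : Nat.card C = 8) (R s : C)
    (hR4 : R ^ 4 = 1) (hR2 : R ^ 2 ≠ 1) (hsR : s * R * s⁻¹ = R⁻¹) :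
    (s * s = 1 → Nonempty (C ≃* DihedralGroup 4)) ∧
      (s * s = R ^ 2 → Nonempty (C ≃* QuaternionGroup 2)) := by
  let P : ZMod 4 → C := fun i => R ^ i.val
  have hPadd : ∀ i j, P (i + j) = P i * P j := fun i j => by
    simp only [P]; rw [← pow_add, ZMod.val_add]; exact (pow_eq_pow_mod _ hR4).symm
  have hP0 : P 0 = 1 := by simp [P]
  have hPneg : ∀ i, P (-i) = (P i)⁻¹ := fun i =>
    eq_inv_of_mul_eq_one_left (by rw [← hPadd, neg_add_cancel, hP0])
  have hswap : ∀ i, P i * s = s * P (-i) := by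
    intro i
    have h1 : s * P i * s⁻¹ = (P i)⁻¹ := by
      show s * R ^ i.val * s⁻¹ = (R ^ i.val)⁻¹
      rw [← conj_pow, hsR, inv_pow]
    have h2 : s * (P i)⁻¹ * s⁻¹ = P i := by
      have := congrArg (fun u => u⁻¹) h1
      simpa [mul_assoc] using this
    rw [hPneg]
    calc P i * s = s * (P i)⁻¹ * s⁻¹ * s := by rw [h2]
      _ = _ := by rw [inv_mul_cancel_right]
  have hPk : ∀ i, P i = 1 → i = 0 := by
    intro i hi
    by_contra hne
    have hd : orderOf R ∣ i.val := orderOf_dvd_of_pow_eq_one hi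
    have ho : orderOf R = 4 := by
      haveI : Fact (Nat.Prime 2) := ⟨Nat.prime_two⟩
      exact orderOf_eq_prime_pow (p := 2) (n := 1) (by simpa using hR2) (by simpa using hR4)
    rw [ho] at hd
    have h3 := ZMod.val_lt i
    have h4 : i.val ≠ 0 := fun h => hne ((ZMod.val_eq_zero i).mp h)
    have h5 := Nat.le_of_dvd (Nat.pos_of_ne_zero h4) hd
    omega
  have hs : ∀ i, s * P i ≠ 1 := by
    intro i hi
    have e : s = P (-i) := by rw [hPneg]; exact eq_inv_of_mul_eq_one_left hi
    have hcom : Commute s R := by rw [e]; exact (Commute.refl R).pow_left _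
    rw [hcom.eq, mul_inv_cancel_right] at hsR
    exact hR2 (by rw [pow_two]; nth_rewrite 2 [hsR]; exact mul_inv_cancel R)
  have hP2 : P 2 = R ^ 2 := rfl
  constructor
  · intro hss
    let f : DihedralGroup 4 →* C := MonoidHom.mk'
      (fun u => match u with
        | DihedralGroup.r i => P i
        | DihedralGroup.sr i => s * P i) (by
      rintro (i | i) (j | j)
      · show P (i + j) = P i * P j
        exact hPadd i j
      · show s * P (j - i) = P i * (s * P j)
        rw [← mul_assoc, hswap, mul_assoc, ← hPadd, neg_add_eq_sub]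
      · show s * P (i + j) = s * P i * P j
        rw [mul_assoc, hPadd]
      · show P (j - i) = s * P i * (s * P j)
        rw [mul_assoc s (P i), ← mul_assoc (P i), hswap, mul_assoc s (P (-i)), ← hPadd, ← mul_assoc s s, hss,
          one_mul, neg_add_eq_sub])
    have hf : Function.Injective f := by
      rw [← MonoidHom.ker_eq_bot_iff, Subgroup.eq_bot_iff_forall]
      rintro (i | i) hu
      · obtain rfl := hPk i hu; rfl
      · exact absurd hu (hs i)
    refine ⟨(MulEquiv.ofBijective f (hf.bijective_of_nat_card_le ?_)).symm⟩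
    rw [hC, DihedralGroup.nat_card]
  · intro hss
    let f : QuaternionGroup 2 →* C := MonoidHom.mk'
      (fun u => match u with
        | QuaternionGroup.a i => P i
        | QuaternionGroup.xa i => s * P i) (by
      rintro (i | i) (j | j)
      · show P (i + j) = P i * P j
        exact hPadd i j
      · show s * P (j - i) = P i * (s * P j)
        rw [← mul_assoc, hswap, mul_assoc, ← hPadd, neg_add_eq_sub]
      · show s * P (i + j) = s * P i * P j
        rw [mul_assoc, hPadd]
      · show P (((2 : ℕ) : ZMod 4) + j - i) = s * P i * (s * P j)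
        rw [mul_assoc s (P i), ← mul_assoc (P i), hswap, mul_assoc s (P (-i)), ← hPadd, ← mul_assoc s s, hss,
          ← hP2, ← hPadd, neg_add_eq_sub, add_sub_assoc]
        norm_num)
    have hf : Function.Injective f := by
      rw [← MonoidHom.ker_eq_bot_iff, Subgroup.eq_bot_iff_forall]
      rintro (i | i) hu
      · obtain rfl := hPk i hu; rfl
      · exact absurd hu (hs i)
    refine ⟨(MulEquiv.ofBijective f (hf.bijective_of_nat_card_le ?_)).symm⟩
    rw [hC, Nat.card_eq_fintype_card, QuaternionGroup.card]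

/-- An invariant subgroup has order `1` modulo `3`. -/
theorem card_mod_three {T : Type*} [Group T] [Finite T] (ρ : T ≃* T) (h3 : ∀ y, ρ (ρ (ρ y)) = y)
    (hfp : ∀ y, ρ y = y → y = 1) (K : Subgroup T) (hK : ∀ y ∈ K, ρ y ∈ K) : Nat.card K % 3 = 1 := by
  classical
  haveI := Fintype.ofFinite T
  haveI : Fact (Nat.Prime 3) := ⟨Nat.prime_three⟩
  let f : Function.End K := fun u => ⟨ρ u, hK u u.2⟩
  have hf : f ^ 3 ^ 1 = 1 := by
    funext u; exact Subtype.ext (h3 u)
  have h := Equiv.Perm.card_fixedPoints_modEq (p := 3) hf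
  have hu : Fintype.card (Function.fixedPoints f) = 1 := by
    refine Fintype.card_eq_one_iff.mpr ⟨⟨1, Subtype.ext (map_one ρ)⟩, fun u => ?_⟩
    exact Subtype.ext (Subtype.ext (hfp _ (congrArg Subtype.val u.2)))
  rw [hu] at h
  rw [Nat.card_eq_fintype_card]
  exact h

theorem dvd_64 {n : ℕ} (h : n ∣ 64) : n ∈ ({1, 2, 4, 8, 16, 32, 64} : Finset ℕ) := by
  have h1 : n ∈ Nat.divisors 64 := Nat.mem_divisors.mpr ⟨h, by norm_num⟩
  have h2 : Nat.divisors 64 = {1, 2, 4, 8, 16, 32, 64} := by decide +kernel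
  rw [h2] at h1; exact h1

/-- For an automorphism with `n * ρ n * ρ (ρ n) = 1` of a group of order `64`: the centre. -/
theorem center_facts {T : Type*} [Group T] [Finite T] (hT : Nat.card T = 64) (hna : ¬ IsMulCommutative T)
    (ρ : T ≃* T) (nrm : ∀ g, g * ρ g * ρ (ρ g) = 1) (hfp : ∀ y, ρ y = y → y = 1) :
    Nat.card (Subgroup.center T) = 4 ∧ (∀ z ∈ Subgroup.center T, z * z = 1) := by
  classical
  have h3 := FpfThree.apply_three ρ nrm
  have hP : IsPGroup 2 T := IsPGroup.of_card (n := 6) (by rw [hT]; norm_num)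
  haveI : Fact (Nat.Prime 2) := ⟨Nat.prime_two⟩
  haveI : Nontrivial T := Finite.one_lt_card_iff_nontrivial.mp (by rw [hT]; norm_num)
  haveI := hP.center_nontrivial
  have hZρ : ∀ z ∈ Subgroup.center T, ρ z ∈ Subgroup.center T := by
    intro z hz
    rw [Subgroup.mem_center_iff] at hz ⊢
    intro w
    have := congrArg ρ (hz (ρ.symm w))
    simpa using this
  have hcard : Nat.card (Subgroup.center T) = 4 := by
    have hd := dvd_64 (hT ▸ Subgroup.card_subgroup_dvd_card (Subgroup.center T))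
    have h1 : 1 < Nat.card (Subgroup.center T) := Finite.one_lt_card
    have hm := card_mod_three ρ h3 hfp _ hZρ
    have h64 : Nat.card (Subgroup.center T) ≠ 64 := fun h => hna <| by
      have htop : Subgroup.center T = ⊤ := Subgroup.eq_top_of_card_eq _ (by rw [h, hT])
      exact ⟨⟨fun u v => Subgroup.mem_center_iff.mp (htop ▸ Subgroup.mem_top v) u⟩⟩
    have h16 : Nat.card (Subgroup.center T) ≠ 16 := by
      intro h
      obtain ⟨a, ha⟩ : ∃ a, a ∉ Subgroup.center T := by
        by_contra hh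
        push Not at hh
        have := Subgroup.eq_top_iff' _ |>.mpr hh
        rw [this, Subgroup.card_top, hT] at h
        omega
      set K := Subgroup.center T ⊔ Subgroup.zpowers a with hKdef
      have hKL : K ≤ Subgroup.centralizer {a} := sup_le (Subgroup.center_le_centralizer _)
        (Subgroup.zpowers_le.mpr (Subgroup.mem_centralizer_singleton_iff.mpr rfl))
      have hρaL : ρ a ∈ Subgroup.centralizer {a} :=
        Subgroup.mem_centralizer_singleton_iff.mpr (FpfThree.comm_apply ρ nrm a).symm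
      have haK : a ∈ K := le_sup_right (a := Subgroup.center T) (Subgroup.mem_zpowers a)
      have hK16 : 16 < Nat.card K := by
        have hle : Nat.card (Subgroup.center T) ≤ Nat.card K :=
          Subgroup.card_le_of_le (le_sup_left : Subgroup.center T ≤ K)
        rcases Nat.lt_or_ge 16 (Nat.card K) with h' | h'
        · exact h'
        · have e : Subgroup.center T = K :=
            Subgroup.eq_of_le_of_card_ge (le_sup_left : Subgroup.center T ≤ K) (by omega)
          rw [← e] at haK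
          exact absurd haK ha
      have hLdvd := dvd_64 (hT ▸ Subgroup.card_subgroup_dvd_card (Subgroup.centralizer {a}))
      have hKdvd := dvd_64 (hT ▸ Subgroup.card_subgroup_dvd_card K)
      have hL : Nat.card (Subgroup.centralizer {a} : Subgroup T) = 64 := by
        by_cases hρK : ρ a ∈ K
        · have hinv : ∀ y ∈ K, ρ y ∈ K := by
            intro y hy
            have : (K.map ρ.toMonoidHom) ≤ K := by
              rw [hKdef, Subgroup.map_sup, MonoidHom.map_zpowers]
              refine sup_le ?_ (Subgroup.zpowers_le.mpr hρK)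
              rintro _ ⟨z, hz, rfl⟩
              exact Subgroup.mem_sup_left (hZρ z hz)
            exact this ⟨y, hy, rfl⟩
          have hmK := card_mod_three ρ h3 hfp K hinv
          have hKL' := Subgroup.card_le_of_le hKL
          simp only [Finset.mem_insert, Finset.mem_singleton] at hLdvd hKdvd
          omega
        · have hlt : Nat.card K < Nat.card (Subgroup.centralizer {a} : Subgroup T) := by
            by_contra hge
            have e := Subgroup.eq_of_le_of_card_ge hKL (le_of_not_gt hge)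
            rw [← e] at hρaL
            exact hρK hρaL
          simp only [Finset.mem_insert, Finset.mem_singleton] at hLdvd hKdvd
          omega
      have htop := Subgroup.eq_top_of_card_eq _ (hL.trans hT.symm)
      exact ha (Subgroup.mem_center_iff.mpr fun w =>
        Subgroup.mem_centralizer_singleton_iff.mp (htop ▸ Subgroup.mem_top w))
    simp only [Finset.mem_insert, Finset.mem_singleton] at hd
    omega
  refine ⟨hcard, fun z hz => ?_⟩
  by_contra hzz
  have hz1 : z ≠ 1 := fun h => hzz (by rw [h, one_mul])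
  haveI := Fintype.ofFinite T
  have hmem : z * z ∈ ({1, z, ρ z, ρ (ρ z)} : Finset T) := by
    have hsub : ({1, z, ρ z, ρ (ρ z)} : Finset T) ⊆ (Finset.univ.filter fun w => w ∈ Subgroup.center T) := by
      intro w hw
      simp only [Finset.mem_insert, Finset.mem_singleton] at hw
      simp only [Finset.mem_filter, Finset.mem_univ, true_and]
      rcases hw with rfl | rfl | rfl | rfl
      exacts [one_mem _, hz, hZρ _ hz, hZρ _ (hZρ _ hz)]
    have n1 : ρ z ≠ z := fun h => hz1 (hfp z h)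
    have n2 : ρ (ρ z) ≠ ρ z := fun h => n1 (ρ.injective h)
    have n3 : ρ (ρ z) ≠ z := fun h => n2 (by
      have := congrArg ρ h
      rw [h3] at this
      rw [h]; exact this)
    have hne1 : ρ z ≠ 1 := fun h => hz1 (by simpa using h)
    have hne2 : ρ (ρ z) ≠ 1 := fun h => hz1 (by simpa using h)
    have hc4 : ({1, z, ρ z, ρ (ρ z)} : Finset T).card = 4 := by
      rw [Finset.card_insert_of_notMem (by simp [Ne.symm hz1, Ne.symm hne1, Ne.symm hne2]),
        Finset.card_insert_of_notMem (by simp [Ne.symm n1, Ne.symm n3]),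
        Finset.card_insert_of_notMem (by simp [Ne.symm n2]), Finset.card_singleton]
    have heq := Finset.eq_of_subset_of_card_le hsub (by
      rw [hc4, ← Fintype.card_subtype, ← Nat.card_eq_fintype_card]
      exact hcard.le)
    rw [heq]
    simp [mul_mem hz hz]
  have hord : orderOf (z * z) < orderOf z := by
    rw [← pow_two, orderOf_pow' z two_ne_zero]
    obtain ⟨k, hk⟩ := hP z
    have hk := orderOf_dvd_of_pow_eq_one hk
    have h2 : 2 ∣ orderOf z := by
      obtain ⟨m, -, hm⟩ := (Nat.dvd_prime_pow Nat.prime_two).mp hk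
      rw [hm]
      rcases m with _ | m
      · exact absurd (orderOf_eq_one_iff.mp (by simpa using hm)) hz1
      · exact dvd_pow_self 2 (Nat.succ_ne_zero m)
    rw [Nat.gcd_eq_right h2]
    exact Nat.div_lt_self (orderOf_pos z) one_lt_two
  simp only [Finset.mem_insert, Finset.mem_singleton] at hmem
  rcases hmem with h | h | h | h
  · exact hzz h
  · rw [h] at hord; exact lt_irrefl _ hord
  · rw [h, MulEquiv.orderOf_eq] at hord; exact lt_irrefl _ hord
  · rw [h, MulEquiv.orderOf_eq, MulEquiv.orderOf_eq] at hord; exact lt_irrefl _ hord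

set_option maxHeartbeats 1600000 in
/-- Let T be a non-abelian group of order 64 admitting automorphisms ρ of order 3 and x of order 2 with x ρ x⁻¹ = ρ⁻¹ (so they generate a symmetric group of degree 3), where ρ fixes only the identity. Then T is isomorphic to a Sylow 2-subgroup of the projective special linear group of dimension 3 over the field with 4 elements, and the subgroup of fixed points of x is dihedral of order 8 or quaternion of order 8. -/
theorem result {T : Type*} [Group T] [Finite T] (hT : Nat.card T = 64) (hna : ¬ IsMulCommutative T) (ρ x : MulAut T) (hρ : orderOf ρ = 3) (hx : orderOf x = 2)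
    (hxr : x * ρ * x⁻¹ = ρ⁻¹) (hfp : ∀ y : T, ρ y = y → y = 1) (C : Subgroup T) (hC : ∀ y : T, y ∈ C ↔ x y = y) :
    (∃ (F : Type) (_ : Field F) (_ : Fintype F), Fintype.card F = 4 ∧
        ∃ S : Sylow 2 (Matrix.ProjectiveSpecialLinearGroup (Fin 3) F), Nonempty (T ≃* ↥(S : Subgroup (Matrix.ProjectiveSpecialLinearGroup (Fin 3) F)))) ∧
      (Nonempty (↥C ≃* DihedralGroup 4) ∨ Nonempty (↥C ≃* QuaternionGroup 2)) := by
  classical
  haveI : Fact (Nat.Prime 2) := ⟨Nat.prime_two⟩
  -- the automorphisms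
  have hρ3 : ρ * ρ * ρ = 1 := by
    have := pow_orderOf_eq_one ρ
    rw [hρ, pow_succ, pow_two] at this
    exact this
  have h3 : ∀ y, ρ (ρ (ρ y)) = y := fun y => by
    have := congrArg (fun u : MulAut T => u y) hρ3
    simpa using this
  have hxx : ∀ y, x (x y) = y := fun y => by
    have := pow_orderOf_eq_one x
    rw [hx, pow_two] at this
    simpa using congrArg (fun u : MulAut T => u y) this
  have hxρ : ∀ y, x (ρ y) = ρ (ρ (x y)) := fun y => by
    have e : x * ρ = ρ * ρ * x := by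
      have hinv : ρ⁻¹ = ρ * ρ := inv_eq_of_mul_eq_one_left hρ3
      rw [← hinv, ← hxr, inv_mul_cancel_right]
    simpa using congrArg (fun u : MulAut T => u y) e
  have nrm : ∀ g, g * ρ g * ρ (ρ g) = 1 := by
    have hinj : Function.Injective (fun g => g⁻¹ * ρ g) := by
      intro g h hgh
      have : ρ (g * h⁻¹) = g * h⁻¹ := by
        rw [map_mul, map_inv]
        have e : ρ g = g * (h⁻¹ * ρ h) := by
          have : g⁻¹ * ρ g = h⁻¹ * ρ h := hgh
          rw [← this, mul_inv_cancel_left]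
        rw [e]; group
      exact mul_inv_eq_one.mp (hfp _ this)
    intro g
    obtain ⟨u, rfl⟩ := (Finite.injective_iff_surjective.mp hinj) g
    simp only [map_mul, map_inv, h3]
    group
  obtain ⟨hZ4, hZ2⟩ := center_facts hT hna ρ nrm hfp
  set Z := Subgroup.center T with hZdef
  have hP : IsPGroup 2 T := IsPGroup.of_card (n := 6) (by rw [hT]; norm_num)
  haveI : Group.IsNilpotent T := hP.isNilpotent
  have hcls : Group.nilpotencyClass T ≤ 2 := FpfThree.commutator_mem_center' ρ nrm (fun M _ q hq => by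
    have hM : IsPGroup 2 (T ⧸ M) := hP.to_quotient M
    obtain ⟨n, hn⟩ := hM q
    have h1 : orderOf q ∣ Nat.gcd (2 ^ n) 3 :=
      Nat.dvd_gcd (orderOf_dvd_of_pow_eq_one hn) (orderOf_dvd_of_pow_eq_one hq)
    rw [(Nat.Coprime.pow_left n (by norm_num : Nat.Coprime 2 3)).gcd_eq_one, Nat.dvd_one] at h1
    exact orderOf_eq_one_iff.mp h1)
  have hcZ : ∀ a b : T, ⁅a, b⁆ ∈ Z := by
    intro a b
    rw [← Subgroup.lowerCentralSeries_eq_bot_iff_nilpotencyClass_le] at hcls
    rw [hZdef, Subgroup.mem_center_iff]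
    intro c
    refine (commutatorElement_eq_one_iff_mul_comm.mp ?_).symm
    rw [← Subgroup.mem_bot, ← hcls]
    exact Subgroup.commutator_mem_commutator
      (Subgroup.commutator_mem_commutator (Subgroup.mem_top a) (Subgroup.mem_top b)) (Subgroup.mem_top c)
  have zc : ∀ {z : T}, z ∈ Z → ∀ w, w * z = z * w := fun hz w => Subgroup.mem_center_iff.mp hz w
  have hzinv : ∀ {z : T}, z ∈ Z → z⁻¹ = z := fun hz => inv_eq_of_mul_eq_one_left (hZ2 _ hz)
  have bl_left : ∀ a b c : T, ⁅a * b, c⁆ = ⁅a, c⁆ * ⁅b, c⁆ := fun a b c => by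
    calc ⁅a * b, c⁆ = a * ⁅b, c⁆ * a⁻¹ * ⁅a, c⁆ := by group
      _ = ⁅b, c⁆ * ⁅a, c⁆ := by rw [zc (hcZ b c) a, mul_inv_cancel_right]
      _ = ⁅a, c⁆ * ⁅b, c⁆ := (zc (hcZ b c) _).symm
  have bl_right : ∀ a b c : T, ⁅a, b * c⁆ = ⁅a, b⁆ * ⁅a, c⁆ := fun a b c => by
    calc ⁅a, b * c⁆ = ⁅a, b⁆ * (b * ⁅a, c⁆ * b⁻¹) := by group
      _ = ⁅a, b⁆ * ⁅a, c⁆ := by rw [zc (hcZ a c) b, mul_inv_cancel_right]
  have symm' : ∀ a b : T, ⁅b, a⁆ = ⁅a, b⁆ := fun a b => by
    rw [← commutatorElement_inv, hzinv (hcZ a b)]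
  have gρg : ∀ a : T, ⁅a, ρ a⁆ = 1 := fun a =>
    commutatorElement_eq_one_iff_mul_comm.mpr (FpfThree.comm_apply ρ nrm a)
  have shift : ∀ a b : T, ⁅ρ a, b⁆ = ⁅a, ρ b⁆ := fun a b => by
    have h := gρg (a * b)
    rw [map_mul, bl_left, bl_right, bl_right, gρg, gρg, one_mul, mul_one] at h
    rw [← commutatorElement_inv b (ρ a)]
    exact (eq_inv_of_mul_eq_one_left h).symm
  have hZρ : ∀ z ∈ Z, ρ z ∈ Z := fun z hz => by
    rw [hZdef, Subgroup.mem_center_iff] at hz ⊢
    intro w
    have := congrArg ρ (hz (ρ.symm w))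
    simpa using this
  have hZx : ∀ z ∈ Z, x z ∈ Z := fun z hz => by
    rw [hZdef, Subgroup.mem_center_iff] at hz ⊢
    intro w
    have := congrArg x (hz (x.symm w))
    simpa using this
  have hnz : ∀ z ∈ Z, z * ρ z = ρ (ρ z) := fun z hz => by
    rw [← hzinv (hZρ _ (hZρ _ hz))]
    exact eq_inv_of_mul_eq_one_left (nrm z)
  have cross : ∀ a b : T, ⁅a, ρ b⁆ = ρ (ρ ⁅a, b⁆) := by
    intro a b
    have e1 : ρ (ρ b) = (b * ρ b)⁻¹ := eq_inv_of_mul_eq_one_right (nrm b)
    have hinvr : ∀ u v : T, ⁅u, v⁻¹⁆ = ⁅u, v⁆ := fun u v => by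
      have h := bl_right u v v⁻¹
      rw [mul_inv_cancel, commutatorElement_one_right] at h
      exact (eq_inv_of_mul_eq_one_right h.symm).trans (hzinv (hcZ u v))
    have hv : ρ ⁅a, ρ b⁆ = ⁅a, ρ b⁆ * ρ ⁅a, b⁆ := by
      rw [map_commutatorElement, e1, hinvr, bl_right, shift, ← map_commutatorElement]
    set c := ⁅a, b⁆
    set v := ⁅a, ρ b⁆
    have hc := hcZ a b
    have hρc := hZρ c hc
    have hw : ρ (v * ρ (ρ c)) = v * ρ (ρ c) := by
      rw [map_mul, hv, h3, mul_assoc]
      congr 1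
      rw [← hnz c hc, zc hρc c]
    exact mul_eq_one_iff_eq_inv.mp (hfp _ hw) |>.trans (hzinv (hZρ _ hρc))
  -- a fixed element of the centre
  obtain ⟨z0, hz0Z, hz01, hxz0⟩ : ∃ z0 ∈ Z, z0 ≠ 1 ∧ x z0 = z0 := by
    obtain ⟨⟨z, hz⟩, hz1⟩ : ∃ z : Z, z ≠ 1 := by
      haveI : Nontrivial Z := Finite.one_lt_card_iff_nontrivial.mp (by rw [hZ4]; norm_num)
      exact exists_ne 1
    have hz1' : z ≠ 1 := fun h => hz1 (Subtype.ext h)
    by_cases hw : z * x z = 1
    · exact ⟨z, hz, hz1', by rw [eq_inv_of_mul_eq_one_right hw, hzinv hz]⟩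
    · exact ⟨z * x z, mul_mem hz (hZx z hz), hw, by rw [map_mul, hxx]; exact (zc (hZx z hz) z).symm⟩
  have hxρz0 : x (ρ z0) = ρ (ρ z0) := by rw [hxρ, hxz0]
  have hxρρz0 : x (ρ (ρ z0)) = ρ z0 := by rw [← hxρz0, hxx]
  have n1 : ρ z0 ≠ z0 := fun h => hz01 (hfp _ h)
  have n2 : ρ (ρ z0) ≠ ρ z0 := fun h => n1 (ρ.injective h)
  have n3 : ρ (ρ z0) ≠ z0 := fun h => n2 (by
    have := congrArg ρ h
    rw [h3] at this
    rw [h]; exact this)
  have hZmem : ∀ z ∈ Z, z = 1 ∨ z = z0 ∨ z = ρ z0 ∨ z = ρ (ρ z0) := by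
    intro z hz
    haveI := Fintype.ofFinite T
    have hsub : ({1, z0, ρ z0, ρ (ρ z0)} : Finset T) ⊆ (Finset.univ.filter fun w => w ∈ Z) := by
      intro w hw
      simp only [Finset.mem_insert, Finset.mem_singleton] at hw
      simp only [Finset.mem_filter, Finset.mem_univ, true_and]
      rcases hw with rfl | rfl | rfl | rfl
      exacts [one_mem _, hz0Z, hZρ _ hz0Z, hZρ _ (hZρ _ hz0Z)]
    have hne1 : ρ z0 ≠ 1 := fun h => hz01 (by simpa using h)
    have hne2 : ρ (ρ z0) ≠ 1 := fun h => hz01 (by simpa using h)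
    have hc4 : ({1, z0, ρ z0, ρ (ρ z0)} : Finset T).card = 4 := by
      rw [Finset.card_insert_of_notMem (by simp [Ne.symm hz01, Ne.symm hne1, Ne.symm hne2]),
        Finset.card_insert_of_notMem (by simp [Ne.symm n1, Ne.symm n3]),
        Finset.card_insert_of_notMem (by simp [Ne.symm n2]), Finset.card_singleton]
    have heq := Finset.eq_of_subset_of_card_le hsub (by
      rw [hc4, ← Fintype.card_subtype, ← Nat.card_eq_fintype_card]
      exact hZ4.le)
    have hm : z ∈ (Finset.univ.filter fun w => w ∈ Z) := by simp [hz]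
    rw [← heq] at hm
    simpa using hm
  have hfix : ∀ z ∈ Z, x z = z → z = 1 ∨ z = z0 := by
    intro z hz hxz
    rcases hZmem z hz with h | h | h | h
    · exact Or.inl h
    · exact Or.inr h
    · rw [h, hxρz0] at hxz; exact absurd hxz n2
    · rw [h, hxρρz0] at hxz; exact absurd hxz.symm n2
  -- the order of `C`
  have hsqZ : ∀ g : T, g * g ∈ Z := fun g => by
    rw [hZdef, Subgroup.mem_center_iff]
    intro w
    refine (commutatorElement_eq_one_iff_mul_comm.mp ?_).symm
    rw [bl_left]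
    exact hZ2 _ (hcZ g w)
  have hC8 : Nat.card C = 8 := by
    have hup : Nat.card C * Nat.card C ≤ 64 := by
      rw [← Nat.card_prod, ← hT]
      refine Nat.card_le_card_of_injective (fun p : C × C => (p.1 : T) * ρ (p.2 : T)) ?_
      rintro ⟨⟨c, hc⟩, ⟨d, hd⟩⟩ ⟨⟨c', hc'⟩, ⟨d', hd'⟩⟩ he
      simp only at he
      have e1 : c'⁻¹ * c = ρ (d' * d⁻¹) := by
        rw [map_mul, map_inv, eq_mul_inv_iff_mul_eq, mul_assoc, he, inv_mul_cancel_left]
      have hu : x (c'⁻¹ * c) = c'⁻¹ * c := by rw [map_mul, map_inv, (hC c).mp hc, (hC c').mp hc']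
      have hw : x (d' * d⁻¹) = d' * d⁻¹ := by rw [map_mul, map_inv, (hC d).mp hd, (hC d').mp hd']
      rw [e1, hxρ, hw] at hu
      have hw1 : d' * d⁻¹ = 1 := hfp _ (ρ.injective hu)
      rw [hw1, map_one] at e1
      have hd' : d' = d := mul_inv_eq_one.mp hw1
      have hc' : c' = c := inv_mul_eq_one.mp e1
      exact Prod.ext (Subtype.ext hc'.symm) (Subtype.ext hd'.symm)
    let χ : T →* T ⧸ Z := MonoidHom.mk' (fun g => QuotientGroup.mk' Z (g⁻¹ * x g)) (fun g h => by
      rw [← map_mul]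
      refine (QuotientGroup.eq (s := Z)).mpr ?_
      have e : ((g * h)⁻¹ * x (g * h))⁻¹ * (g⁻¹ * x g * (h⁻¹ * x h)) =
          (x h)⁻¹ * ⁅(x g)⁻¹ * g, h⁆ * (g⁻¹ * x g)⁻¹⁻¹⁻¹ * (g⁻¹ * x g) * x h := by
        rw [map_mul]; group
      rw [e, inv_inv, inv_mul_cancel_right, zc (hcZ _ _) (x h)⁻¹, inv_mul_cancel_right]
      exact hcZ _ _)
    set K := χ.ker with hKdef
    have hK : ∀ g, g ∈ K ↔ g⁻¹ * x g ∈ Z := fun g => by
      rw [hKdef, MonoidHom.mem_ker]; exact QuotientGroup.eq_one_iff _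
    have hrange : χ.range.comap (QuotientGroup.mk' Z) ≤ K := by
      intro u hu
      obtain ⟨g, hg⟩ := hu
      set u₀ := g⁻¹ * x g with hu₀
      have hu₀x : x u₀ = u₀⁻¹ := by rw [hu₀, map_mul, map_inv, hxx, mul_inv_rev, inv_inv]
      have hu₀K : u₀ ∈ K := (hK _).mpr (by
        rw [hu₀x, ← mul_inv_rev]; exact inv_mem (hsqZ _))
      have hz : u₀⁻¹ * u ∈ Z := (QuotientGroup.eq (s := Z)).mp hg
      have hzK : u₀⁻¹ * u ∈ K := (hK _).mpr (mul_mem (inv_mem hz) (hZx _ hz))
      have := mul_mem hu₀K hzK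
      rwa [mul_inv_cancel_left] at this
    have hZi : Z.index = 16 := by
      have := Z.card_mul_index
      rw [hZ4, hT] at this; omega
    have hR : Nat.card χ.range * χ.range.index = 16 := by
      rw [χ.range.card_mul_index, ← Subgroup.index_eq_card, hZi]
    have hKR : Nat.card K * Nat.card χ.range = 64 := by
      rw [← Subgroup.index_ker, ← hKdef, K.card_mul_index, hT]
    have hcom : Nat.card (χ.range.comap (QuotientGroup.mk' Z)) * χ.range.index = 64 := by
      rw [← Subgroup.index_comap_of_surjective χ.range (QuotientGroup.mk'_surjective Z),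
        Subgroup.card_mul_index, hT]
    have hK16 : 16 ≤ Nat.card K := by
      have hle := Subgroup.card_le_of_le hrange
      have hpos : 0 < χ.range.index := Nat.pos_of_ne_zero (fun h => by rw [h, mul_zero] at hR; omega)
      have h4 : Nat.card (χ.range.comap (QuotientGroup.mk' Z)) = 4 * Nat.card χ.range := by
        apply Nat.eq_of_mul_eq_mul_right hpos
        rw [hcom, mul_assoc, hR]; norm_num
      rw [h4] at hle
      nlinarith
    let f : C × Z →* T := MonoidHom.mk' (fun p => (p.1 : T) * (p.2 : T)) (fun p q => by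
      show (p.1 : T) * (q.1 : T) * ((p.2 : T) * (q.2 : T)) = (p.1 : T) * (p.2 : T) * ((q.1 : T) * (q.2 : T))
      rw [mul_assoc, mul_assoc, ← mul_assoc (q.1 : T), zc p.2.2 (q.1 : T), mul_assoc (p.2 : T)])
    have hKf : K ≤ f.range := by
      intro g hg
      have hz := (hK g).mp hg
      set z := g⁻¹ * x g with hzdef
      have hxg : x g = g * z := by rw [hzdef, mul_inv_cancel_left]
      have hxz : x z = z := by
        rw [hzdef, map_mul, map_inv, hxx]
        calc (x g)⁻¹ * g = (g⁻¹ * x g)⁻¹ := by group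
          _ = _ := hzinv hz
      rcases hfix z hz hxz with h | h
      · exact ⟨(⟨g, (hC g).mpr (by rw [hxg, h, mul_one])⟩, 1), mul_one g⟩
      · have hm : g * ρ z0 ∈ C := (hC _).mpr (by
          rw [map_mul, hxg, hxρz0, h, mul_assoc]
          congr 1
          rw [← hnz z0 hz0Z, ← mul_assoc, hZ2 z0 hz0Z, one_mul])
        exact ⟨(⟨_, hm⟩, ⟨ρ z0, hZρ _ hz0Z⟩), by
          show g * ρ z0 * ρ z0 = g
          rw [mul_assoc, hZ2 _ (hZρ _ hz0Z), mul_one]⟩
    have hker : 2 ≤ Nat.card f.ker := by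
      have hm : (((⟨z0, (hC z0).mpr hxz0⟩ : C), (⟨z0, hz0Z⟩ : Z)) : C × Z) ∈ f.ker := hZ2 z0 hz0Z
      haveI : Nontrivial f.ker := ⟨⟨⟨_, hm⟩, 1, fun h => hz01 (congrArg (fun u : f.ker => ((u : C × Z).2 : T)) h)⟩⟩
      exact Finite.one_lt_card
    have h2 := f.ker.card_mul_index
    rw [Subgroup.index_ker, Nat.card_prod, hZ4] at h2
    have h3' := Subgroup.card_le_of_le hKf
    have hd := dvd_64 (hT ▸ Subgroup.card_subgroup_dvd_card C)
    simp only [Finset.mem_insert, Finset.mem_singleton] at hd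
    rcases hd with h | h | h | h | h | h | h <;> rw [h] at hup h2 <;> first
      | exact h
      | nlinarith
  -- two non-commuting elements of `C`
  obtain ⟨a, ha, b, hb, hab⟩ : ∃ a ∈ C, ∃ b ∈ C, ⁅a, b⁆ = z0 := by
    have hex : ∃ a ∈ C, ∃ b ∈ C, ⁅a, b⁆ ≠ 1 := by
      by_contra hne
      push Not at hne
      refine hna ⟨⟨?_⟩⟩
      have hsur : Function.Surjective (fun p : C × C => (p.1 : T) * ρ (p.2 : T)) := by
        refine (Function.Injective.bijective_of_nat_card_le (f := fun p : C × C => (p.1 : T) * ρ (p.2 : T)) ?_ ?_).2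
        · rintro ⟨⟨c, hc⟩, ⟨d, hd⟩⟩ ⟨⟨c', hc'⟩, ⟨d', hd'⟩⟩ he
          simp only at he
          have e1 : c'⁻¹ * c = ρ (d' * d⁻¹) := by
            rw [map_mul, map_inv, eq_mul_inv_iff_mul_eq, mul_assoc, he, inv_mul_cancel_left]
          have hu : x (c'⁻¹ * c) = c'⁻¹ * c := by rw [map_mul, map_inv, (hC c).mp hc, (hC c').mp hc']
          have hw : x (d' * d⁻¹) = d' * d⁻¹ := by rw [map_mul, map_inv, (hC d).mp hd, (hC d').mp hd']
          rw [e1, hxρ, hw] at hu
          have hw1 : d' * d⁻¹ = 1 := hfp _ (ρ.injective hu)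
          rw [hw1, map_one] at e1
          have hd' : d' = d := mul_inv_eq_one.mp hw1
          have hc' : c' = c := inv_mul_eq_one.mp e1
          exact Prod.ext (Subtype.ext hc'.symm) (Subtype.ext hd'.symm)
        · rw [hT, Nat.card_prod, hC8]
      intro u v
      obtain ⟨⟨⟨c, hc⟩, ⟨d, hd⟩⟩, rfl⟩ := hsur u
      obtain ⟨⟨⟨c', hc'⟩, ⟨d', hd'⟩⟩, rfl⟩ := hsur v
      apply commutatorElement_eq_one_iff_mul_comm.mp
      simp only
      rw [bl_left, bl_right, bl_right, hne c hc c' hc', cross, hne c hc d' hd', shift, cross, hne d hd c' hc',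
        ← map_commutatorElement, hne d hd d' hd']
      simp
    obtain ⟨a, ha, b, hb, h⟩ := hex
    refine ⟨a, ha, b, hb, (hfix _ (hcZ a b) ?_).resolve_left h⟩
    rw [map_commutatorElement, (hC a).mp ha, (hC b).mp hb]
  have hsqC : ∀ c ∈ C, c * c = 1 ∨ c * c = z0 := fun c hc =>
    hfix _ (hsqZ c) (by rw [map_mul, (hC c).mp hc])
  have hab2 : a * b * (a * b) = a * a * (b * b) * z0 := by
    calc a * b * (a * b) = a * (⁅b, a⁆ * a) * b * b := by group
      _ = ⁅b, a⁆ * (a * a * (b * b)) := by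
        rw [← mul_assoc a ⁅b, a⁆, zc (hcZ b a) a]; group
      _ = _ := by rw [← zc (hcZ b a), symm' a b, hab]
  -- the recognition from two involutions
  have main : ∀ g h : T, g * g = 1 → h * h = 1 → ⁅g, h⁆ ≠ 1 →
      ∃ (F : Type) (_ : Field F) (_ : Fintype F), Fintype.card F = 4 ∧
        ∃ S : Sylow 2 (Matrix.ProjectiveSpecialLinearGroup (Fin 3) F),
          Nonempty (T ≃* ↥(S : Subgroup (Matrix.ProjectiveSpecialLinearGroup (Fin 3) F))) := by
    intro g h hg hh hgh
    have mkrel : ∀ u v : T, UniFour.Rel u v ⁅u, v⁆ := fun u v => ⟨hcZ u v, by group⟩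
    have hρρ : ⁅g, h⁆ * ρ (ρ ⁅g, h⁆) = ρ ⁅g, h⁆ := by
      rw [← hnz _ (hcZ g h), ← mul_assoc, hZ2 _ (hcZ g h), one_mul]
    refine UniFour.exists_sylow hT (g₁ := g) (g₂ := ρ g) (h₁ := h) (h₂ := ρ h) (c := ⁅g, h⁆)
      (d := ρ (ρ ⁅g, h⁆)) hg (by rw [← map_mul, hg, map_one]) (FpfThree.comm_apply ρ nrm g) hh
      (by rw [← map_mul, hh, map_one]) (FpfThree.comm_apply ρ nrm h) (hZ2 _ (hcZ g h))
      (hZ2 _ (hZρ _ (hZρ _ (hcZ g h)))) hgh (fun e => hgh (by
        have := congrArg ρ e
        rw [h3, map_one] at this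
        exact this)) ?_ (mkrel g h) ?_ ?_ ?_
    · intro e
      refine hgh (hfp _ ?_)
      have := congrArg ρ e
      rw [h3] at this
      exact this
    · rw [← cross]; exact mkrel g (ρ h)
    · rw [← cross, ← shift]; exact mkrel (ρ g) h
    · rw [hρρ, map_commutatorElement]; exact mkrel (ρ g) (ρ h)
  -- the two cases
  have dcase : ∀ g h : T, g ∈ C → h ∈ C → g * g = 1 → h * h = 1 → ⁅g, h⁆ = z0 →
      (∃ (F : Type) (_ : Field F) (_ : Fintype F), Fintype.card F = 4 ∧
        ∃ S : Sylow 2 (Matrix.ProjectiveSpecialLinearGroup (Fin 3) F),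
          Nonempty (T ≃* ↥(S : Subgroup (Matrix.ProjectiveSpecialLinearGroup (Fin 3) F)))) ∧
      (Nonempty (↥C ≃* DihedralGroup 4) ∨ Nonempty (↥C ≃* QuaternionGroup 2)) := by
    intro g h hg hh hgg hhh hgh
    refine ⟨main g h hgg hhh (by rw [hgh]; exact hz01), Or.inl ?_⟩
    have hgi : g⁻¹ = g := inv_eq_of_mul_eq_one_left hgg
    have hhi : h⁻¹ = h := inv_eq_of_mul_eq_one_left hhh
    have hR2 : g * h * (g * h) = z0 := by
      rw [← hgh, commutatorElement_def, hgi, hhi, mul_assoc, mul_assoc, mul_assoc]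
    refine (dihedral_or_quaternion hC8 (⟨g * h, mul_mem hg hh⟩ : C) (⟨g, hg⟩ : C) ?_ ?_ ?_).1 (Subtype.ext hgg)
    · refine Subtype.ext ?_
      show (g * h) ^ 4 = 1
      rw [show (4 : ℕ) = 2 * 2 from rfl, pow_mul, pow_two (g * h), hR2, pow_two, hZ2 z0 hz0Z]
    · intro e
      have e' : (g * h) ^ 2 = 1 := congrArg Subtype.val e
      rw [pow_two, hR2] at e'
      exact hz01 e'
    · refine Subtype.ext ?_
      show g * (g * h) * g⁻¹ = (g * h)⁻¹
      rw [← mul_assoc, hgg, one_mul, mul_inv_rev, hhi]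
  have habC : a * b ∈ C := mul_mem ha hb
  rcases hsqC a ha with h1 | h1 <;> rcases hsqC b hb with h2 | h2
  · exact dcase a b ha hb h1 h2 hab
  · refine dcase a (a * b) ha habC h1 ?_ ?_
    · rw [hab2, h1, h2, one_mul, hZ2 z0 hz0Z]
    · rw [bl_right, commutatorElement_self, one_mul, hab]
  · refine dcase (a * b) b habC hb ?_ h2 ?_
    · rw [hab2, h1, h2, mul_one, hZ2 z0 hz0Z]
    · rw [bl_left, commutatorElement_self, mul_one, hab]
  · refine ⟨main (a * ρ b) (b * ρ a) ?_ ?_ ?_, Or.inr ?_⟩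
    · calc a * ρ b * (a * ρ b) = a * (⁅ρ b, a⁆ * a) * ρ b * ρ b := by group
        _ = ⁅ρ b, a⁆ * (a * a * (ρ b * ρ b)) := by
          rw [← mul_assoc a ⁅ρ b, a⁆, zc (hcZ (ρ b) a) a]; group
        _ = 1 := by
          rw [symm' a (ρ b), cross, hab, h1, ← map_mul, h2, hnz z0 hz0Z]
          exact hZ2 _ (hZρ _ (hZρ _ hz0Z))
    · calc b * ρ a * (b * ρ a) = b * (⁅ρ a, b⁆ * b) * ρ a * ρ a := by group
        _ = ⁅ρ a, b⁆ * (b * b * (ρ a * ρ a)) := by
          rw [← mul_assoc b ⁅ρ a, b⁆, zc (hcZ (ρ a) b) b]; group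
        _ = 1 := by
          rw [shift, cross, hab, h2, ← map_mul, h1, hnz z0 hz0Z]
          exact hZ2 _ (hZρ _ (hZρ _ hz0Z))
    · rw [bl_left, bl_right, bl_right, hab, gρg, mul_one, symm' b (ρ b), gρg, one_mul,
        ← map_commutatorElement, symm' a b, hab, hnz z0 hz0Z]
      intro e
      exact hz01 (by simpa using e)
    · refine (dihedral_or_quaternion hC8 (⟨a, ha⟩ : C) (⟨b, hb⟩ : C) ?_ ?_ ?_).2 ?_
      · refine Subtype.ext ?_
        show a ^ 4 = 1
        rw [show (4 : ℕ) = 2 * 2 from rfl, pow_mul, pow_two a, h1, pow_two, hZ2 z0 hz0Z]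
      · intro e
        have e' : a ^ 2 = 1 := congrArg Subtype.val e
        rw [pow_two, h1] at e'
        exact hz01 e'
      · refine Subtype.ext ?_
        show b * a * b⁻¹ = a⁻¹
        calc b * a * b⁻¹ = ⁅b, a⁆ * a := by group
          _ = z0 * a := by rw [symm' a b, hab]
          _ = a * a * a := by rw [h1]
          _ = a⁻¹ := eq_inv_of_mul_eq_one_left (by
            rw [mul_assoc (a * a), h1, hZ2 z0 hz0Z])
      · refine Subtype.ext ?_
        show b * b = a ^ 2
        rw [pow_two, h1, h2]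

end Cfsg.Agent.S3157
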