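import Mathlib
import Cfsg.Statements.S3158


set_option autoImplicit false
open Cfsg

namespace Cfsg.Agent.S3158

/-- Let U be a group of order q² with q = 2^n ≥ 2, and y an automorphism of U of order q − 1 all of whose nontrivial powers fix only the identity. Let V be a proper normal y-invariant subgroup of U such that V and U/V are elementary abelian 2-groups and there is an isomorphism from V to U/V commuting with the actions of y. Then U is abelian. -/
theorem result {U : Type*} [Group U] [Finite U] (n : ℕ) (hn : 1 ≤ n) (hU : Nat.card U = (2 ^ n) ^ 2)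
    (y : MulAut U) (hy : orderOf y = 2 ^ n - 1) (hfp : ∀ k : ℕ, y ^ k ≠ 1 → ∀ u : U, (y ^ k) u = u → u = 1)
    (V : Subgroup U) [V.Normal] (hV : V ≠ ⊤) (hyV : ∀ v ∈ V, y v ∈ V)
    (hVe : ∀ v ∈ V, v ^ 2 = 1) (hQe : ∀ u : U, u ^ 2 ∈ V) (hQc : ∀ u w : U, u * w * u⁻¹ * w⁻¹ ∈ V)
    (φ : ↥V ≃* U ⧸ V) (hφ : ∀ (v : ↥V) (u : U), (QuotientGroup.mk u : U ⧸ V) = φ v → φ ⟨y v, hyV v v.2⟩ = QuotientGroup.mk (y u)) :
    IsMulCommutative U := by
  have hq : 2 ≤ 2 ^ n := le_trans (by norm_num) (Nat.pow_le_pow_right (by norm_num) hn)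
  have hcV : Nat.card ↥V = 2 ^ n := by
    have h1 := V.card_mul_index
    rw [hU, Subgroup.index, ← Nat.card_congr φ.toEquiv, ← pow_two] at h1
    exact (Nat.pow_left_injective (by norm_num)) h1
  -- the action of `y` on `V`
  have hyk : ∀ (k : ℕ) (v : ↥V), (y ^ k) (v : U) ∈ V := by
    intro k v
    induction k with
    | zero => exact v.2
    | succ k ih => rw [pow_succ', MulAut.mul_apply]; exact hyV _ ih
  obtain ⟨v0, hv0⟩ : ∃ v : ↥V, v ≠ 1 := by
    have : Nontrivial ↥V := Finite.one_lt_card_iff_nontrivial.mp (by omega)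
    exact exists_ne 1
  have htrans : ∀ v : ↥V, v ≠ 1 → ∃ k : ℕ, (y ^ k) (v0 : U) = v := by
    classical
    have : Fintype ↥V := Fintype.ofFinite _
    let orb : Fin (2 ^ n - 1) → {v : ↥V // v ≠ 1} := fun k =>
      ⟨⟨(y ^ (k : ℕ)) (v0 : U), hyk k v0⟩, fun h => hv0 (Subtype.ext ((y ^ (k : ℕ)).injective (by
        simpa using congrArg Subtype.val h)))⟩
    have hinj : Function.Injective orb := by
      intro i j hij
      have h0 : (y ^ (i : ℕ)) (v0 : U) = (y ^ (j : ℕ)) (v0 : U) :=
        congrArg (fun w : {v : ↥V // v ≠ 1} => ((w : ↥V) : U)) hij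
      wlog hle : (i : ℕ) ≤ j generalizing i j
      · exact (this hij.symm h0.symm (le_of_not_ge hle)).symm
      have h1 : y ^ ((j : ℕ) - i) = 1 := by
        by_contra hne
        apply hv0 (Subtype.ext (hfp _ hne v0 ?_))
        apply (y ^ (i : ℕ)).injective
        rw [← MulAut.mul_apply, ← pow_add, Nat.add_sub_cancel' hle, h0]
      have h2 := orderOf_dvd_of_pow_eq_one h1
      rw [hy] at h2
      have := Nat.eq_zero_of_dvd_of_lt h2 (by omega)
      exact Fin.ext (by omega)
    have hbij : Function.Bijective orb := by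
      rw [Fintype.bijective_iff_injective_and_card]
      refine ⟨hinj, ?_⟩
      rw [Fintype.card_fin, Fintype.card_subtype_compl, Fintype.card_subtype_eq, ← Nat.card_eq_fintype_card, hcV]
    intro v hv
    obtain ⟨k, hk⟩ := hbij.2 ⟨v, hv⟩
    exact ⟨k, congrArg (fun w : {v : ↥V // v ≠ 1} => ((w : ↥V) : U)) hk⟩
  have hU2 : IsPGroup 2 U := IsPGroup.of_card (n := n * 2) (by rw [hU, pow_mul])
  -- `V` is central
  have hcent : V ≤ Subgroup.center U := by
    have : Fact (Nat.Prime 2) := ⟨Nat.prime_two⟩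
    obtain ⟨v, hv, hne⟩ := (hU2.of_equiv (ConjAct.toConjAct (G := U))).exists_fixed_point_of_prime_dvd_card_of_fixed_point
      (↥V) (by rw [hcV]; exact dvd_pow_self 2 (by omega)) (a := (1 : ↥V)) (fun g => by simp)
    have hvc : (v : U) ∈ Subgroup.center U := by
      rw [Subgroup.mem_center_iff]
      intro g
      have h' := congrArg Subtype.val (hv (ConjAct.toConjAct g))
      simp only [ConjAct.Subgroup.val_conj_smul, ConjAct.toConjAct_smul] at h'
      calc g * (v : U) = g * v * g⁻¹ * g := by group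
        _ = v * g := by rw [h']
    have hchar : ∀ (k : ℕ) (c : U), c ∈ Subgroup.center U → (y ^ k) c ∈ Subgroup.center U := by
      intro k c hc
      rw [Subgroup.mem_center_iff] at hc ⊢
      intro g
      have := congrArg (y ^ k) (hc ((y ^ k).symm g))
      simpa using this
    obtain ⟨j, hj⟩ := htrans v hne.symm
    intro w hw
    by_cases hw1 : w = 1
    · rw [hw1]; exact Subgroup.one_mem _
    obtain ⟨k, hk⟩ := htrans ⟨w, hw⟩ (fun h => hw1 (congrArg Subtype.val h))
    -- move `v` to `w`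
    have hord : y ^ (2 ^ n - 1) = 1 := by rw [← hy, pow_orderOf_eq_one]
    have : w = (y ^ (k + (2 ^ n - 1 - j % (2 ^ n - 1)))) (v : U) := by
      rw [← hj, ← MulAut.mul_apply, ← pow_add]
      have hjl := Nat.mod_lt j (show 2 ^ n - 1 > 0 by omega)
      have hdecomp : k + (2 ^ n - 1 - j % (2 ^ n - 1)) + j = k + (2 ^ n - 1) * (1 + j / (2 ^ n - 1)) := by
        have := Nat.mod_add_div j (2 ^ n - 1)
        rw [mul_add, mul_one]
        omega
      rw [hdecomp, pow_add, pow_mul, hord, one_pow, mul_one, hk]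
    rw [this]
    exact hchar _ _ hvc
  have hcV' : ∀ v ∈ V, ∀ u : U, u * v = v * u := fun v hv u => Subgroup.mem_center_iff.mp (hcent hv) u
  have hsq : ∀ u w : U, (QuotientGroup.mk u : U ⧸ V) = QuotientGroup.mk w → u ^ 2 = w ^ 2 := by
    intro u w h
    have hv := QuotientGroup.eq.mp h
    have hw : w = u * (u⁻¹ * w) := by group
    rw [hw, (show Commute u (u⁻¹ * w) from hcV' _ hv u).mul_pow, hVe _ hv, mul_one]
  have hlift : ∀ (v : ↥V), ∃ u : U, (QuotientGroup.mk u : U ⧸ V) = φ v :=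
    fun v => QuotientGroup.mk_surjective (φ v)
  choose L hL using hlift
  let s : ↥V → ↥V := fun v => ⟨L v ^ 2, hQe _⟩
  have hs : ∀ (u : U) (v : ↥V), (QuotientGroup.mk u : U ⧸ V) = φ v → u ^ 2 = (s v : U) :=
    fun u v h => hsq u (L v) (h.trans (hL v).symm)
  let Y : ↥V → ↥V := fun v => ⟨y v, hyV v v.2⟩
  have hsY : ∀ v, s (Y v) = Y (s v) := by
    intro v
    apply Subtype.ext
    show (s (Y v) : U) = y (L v ^ 2)
    rw [map_pow]
    exact (hs (y (L v)) (Y v) (hφ v (L v) (hL v)).symm).symm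
  have hsYk : ∀ (k : ℕ) (v : ↥V), (s ⟨(y ^ k) (v : U), hyk k v⟩ : U) = (y ^ k) (s v : U) := by
    intro k
    induction k with
    | zero => intro v; rfl
    | succ k ih =>
      intro v
      have hw : (⟨(y ^ (k + 1)) (v : U), hyk (k + 1) v⟩ : ↥V) = Y ⟨(y ^ k) (v : U), hyk k v⟩ :=
        Subtype.ext (by show (y ^ (k + 1)) (v : U) = y ((y ^ k) (v : U)); rw [pow_succ', MulAut.mul_apply])
      rw [hw, hsY, pow_succ', MulAut.mul_apply, ← ih v]
  have hs1 : (s 1 : U) = 1 := by
    rw [← hs 1 1 (by simp)]; simp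
  -- the squaring map is multiplicative
  have hmul : ∀ a b : ↥V, (s (a * b) : U) = (s a : U) * (s b : U) := by
    by_cases h0 : s v0 = 1
    · have hz : ∀ v : ↥V, (s v : U) = 1 := by
        intro v
        by_cases hv : v = 1
        · rw [hv, hs1]
        obtain ⟨k, hk⟩ := htrans v hv
        have : v = ⟨(y ^ k) (v0 : U), hyk k v0⟩ := Subtype.ext hk.symm
        rw [this, hsYk, h0]; simp
      intro a b; simp [hz]
    · obtain ⟨j, hj⟩ := htrans _ h0
      have hz : ∀ v : ↥V, (s v : U) = (y ^ j) (v : U) := by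
        intro v
        by_cases hv : v = 1
        · rw [hv, hs1]; simp
        obtain ⟨k, hk⟩ := htrans v hv
        have : v = ⟨(y ^ k) (v0 : U), hyk k v0⟩ := Subtype.ext hk.symm
        rw [this, hsYk, ← hj, ← MulAut.mul_apply, ← MulAut.mul_apply, ← pow_add, ← pow_add, add_comm]
      intro a b
      rw [hz, hz, hz, Subgroup.coe_mul, map_mul]
  refine ⟨⟨fun a b => ?_⟩⟩
  obtain ⟨va, hva⟩ := φ.surjective (QuotientGroup.mk a)
  obtain ⟨vb, hvb⟩ := φ.surjective (QuotientGroup.mk b)
  have hab : (a * b) ^ 2 = a ^ 2 * b ^ 2 := by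
    rw [hs a va hva.symm, hs b vb hvb.symm, hs (a * b) (va * vb) ?_, hmul]
    rw [map_mul, hva, hvb]; rfl
  rw [pow_two, pow_two, pow_two] at hab
  have h1 : a * (b * a) * b = a * (a * b) * b := by
    simp only [mul_assoc] at hab ⊢
    exact hab
  exact (mul_left_cancel (mul_right_cancel h1)).symm

end Cfsg.Agent.S3158
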