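import Cfsg.Statements.S3161
import Cfsg.Statements.S3161
import Cfsg.Agent.Lib.SingerTwo.Classify
import Cfsg.Agent.Lib.Classical.LinearCard
import Cfsg.Agent.S3315
import Mathlib.FieldTheory.Finite.GaloisField
import Mathlib.RingTheory.AdjoinRoot
import Mathlib.Algebra.Polynomial.SpecificDegree

set_option autoImplicit false
open Cfsg

namespace Cfsg.Agent.S3161

universe u

open Cfsg.Agent.Lib.SingerTwo
open scoped MatrixGroups

/-- A homomorphism with kernel of odd order from a 2-group of the order of a Sylow 2-subgroup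
identifies it with that subgroup. -/
theorem equiv_sylow_of {H G : Type*} [Group H] [Group G] [Finite H] [Finite G] (f : H →* G)
    (hH : IsPGroup 2 H) (hker : Odd (Nat.card f.ker)) (S : Sylow 2 G)
    (hc : Nat.card H = Nat.card S) : Nonempty (H ≃* (S : Subgroup G)) := by
  have : Fact (Nat.Prime 2) := ⟨Nat.prime_two⟩
  have hinj : Function.Injective f := by
    rw [← MonoidHom.ker_eq_bot_iff, Subgroup.eq_bot_iff_forall]
    intro x hx
    obtain ⟨k, hk⟩ := hH x
    exact orderOf_eq_one_iff.1 (Nat.eq_one_of_dvd_coprimes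
      ((Nat.coprime_two_right.2 hker).pow_right k) (Subgroup.orderOf_dvd_natCard f.ker hx)
      (orderOf_dvd_of_pow_eq_one hk))
  have hr : Nat.card f.range = Nat.card S :=
    (Nat.card_congr (MonoidHom.ofInjective hinj).toEquiv.symm).trans hc
  rw [Sylow.card_eq_multiplicity] at hr
  exact ⟨(MonoidHom.ofInjective hinj).trans ((Sylow.ofCard f.range hr).equiv S)⟩

theorem odd_gcd_three (m : ℕ) : Odd (Nat.gcd 3 m) := by
  rcases (Nat.dvd_prime Nat.prime_three).1 (Nat.gcd_dvd_left 3 m) with e | e <;> rw [e] <;> decide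

/-- the unitriangular group of degree three -/
@[ext] structure UT (F : Type) where
  u : F
  w : F
  z : F

namespace UT

variable {F : Type} [Field F]

instance : Mul (UT F) := ⟨fun x y => ⟨x.u + y.u, x.w + y.w, x.z + y.z + x.u * y.w⟩⟩
instance : One (UT F) := ⟨⟨0, 0, 0⟩⟩
instance : Inv (UT F) := ⟨fun x => ⟨-x.u, -x.w, -x.z + x.u * x.w⟩⟩

theorem mul_def (x y : UT F) : x * y = ⟨x.u + y.u, x.w + y.w, x.z + y.z + x.u * y.w⟩ := rfl
theorem one_def : (1 : UT F) = ⟨0, 0, 0⟩ := rfl
theorem inv_def (x : UT F) : x⁻¹ = ⟨-x.u, -x.w, -x.z + x.u * x.w⟩ := rfl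

instance : Group (UT F) := Group.ofLeftAxioms
  (fun a b c => by simp only [mul_def, UT.mk.injEq]; refine ⟨?_, ?_, ?_⟩ <;> ring)
  (fun a => by simp only [mul_def, one_def]; ext <;> simp)
  (fun a => by simp only [mul_def, one_def, inv_def, UT.mk.injEq]; refine ⟨?_, ?_, ?_⟩ <;> ring)

/-- as a triple -/
def equivTriple : UT F ≃ F × F × F where
  toFun x := (x.u, x.w, x.z)
  invFun p := ⟨p.1, p.2.1, p.2.2⟩
  left_inv _ := rfl
  right_inv _ := rfl

instance [Finite F] : Finite (UT F) := Finite.of_equiv _ equivTriple.symm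

theorem card [Finite F] : Nat.card (UT F) = Nat.card F ^ 3 := by
  rw [Nat.card_congr equivTriple, Nat.card_prod, Nat.card_prod]
  ring

/-- the matrices -/
def toSL : UT F →* Matrix.SpecialLinearGroup (Fin 3) F where
  toFun x := ⟨!![1, x.u, x.z; 0, 1, x.w; 0, 0, 1], by simp [Matrix.det_fin_three]⟩
  map_one' := by
    apply Subtype.ext
    ext i j
    fin_cases i <;> fin_cases j <;> simp [one_def]
  map_mul' x y := by
    apply Subtype.ext
    change _ = !![1, x.u, x.z; 0, 1, x.w; 0, 0, 1] * !![1, y.u, y.z; 0, 1, y.w; 0, 0, 1]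
    ext i j
    fin_cases i <;> fin_cases j <;> simp [mul_def, Matrix.mul_apply, Fin.sum_univ_three] <;> ring

theorem toSL_injective : Function.Injective (toSL (F := F)) := by
  intro x y h
  have e : ∀ i j, !![1, x.u, x.z; 0, 1, x.w; 0, 0, 1] i j = !![1, y.u, y.z; 0, 1, y.w; 0, 0, 1] i j :=
    fun i j => congrArg (fun g : Matrix.SpecialLinearGroup (Fin 3) F => (g : Matrix (Fin 3) (Fin 3) F) i j) h
  ext
  · simpa using e 0 1
  · simpa using e 1 2
  · simpa using e 0 2

end UT

theorem sylow_PSL_equiv {F : Type} [Field F] [Fintype F] {n : ℕ} (hn : 1 ≤ n)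
    (hF : Fintype.card F = 2 ^ n)
    (S : Sylow 2 (Matrix.ProjectiveSpecialLinearGroup (Fin 3) F)) :
    Nonempty (UT F ≃* (S : Subgroup (Matrix.ProjectiveSpecialLinearGroup (Fin 3) F))) := by
  classical
  haveI : Fact (Nat.Prime 2) := ⟨Nat.prime_two⟩
  set q := Fintype.card F with hq
  let f := (QuotientGroup.mk' (Subgroup.center (Matrix.SpecialLinearGroup (Fin 3) F))).comp
    (UT.toSL (F := F))
  have hz : Nat.card (Subgroup.center (Matrix.SpecialLinearGroup (Fin 3) F)) = Nat.gcd 3 (q - 1) := by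
    rw [Cfsg.Agent.Lib.Classical.card_center_SL, Fintype.card_fin]
  have hc : Nat.card (UT F) = 2 ^ (n * 3) := by
    rw [UT.card, Nat.card_eq_fintype_card, ← hq, hF, ← pow_mul]
  refine equiv_sylow_of f (IsPGroup.of_card hc) ?_ S ?_
  · refine Odd.of_dvd_nat (odd_gcd_three (q - 1)) ?_
    rw [← hz, Nat.card_congr (Subgroup.equivMapOfInjective f.ker _ UT.toSL_injective).toEquiv]
    refine Subgroup.card_dvd_of_le ?_
    rintro _ ⟨A, hA, rfl⟩
    exact (QuotientGroup.eq_one_iff _).1 hA
  · rw [Sylow.card_eq_multiplicity, hc]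
    congr 1
    have h1 := Cfsg.Agent.Lib.Classical.card_center_mul_card_PSL (F := F) (n := Fin 3)
    rw [hz, Cfsg.Agent.Lib.Classical.card_SL_formula] at h1
    simp only [Finset.prod_range_succ, Finset.prod_range_zero, one_mul, ← hq] at h1
    have hev : Even q := hF ▸ (Nat.even_pow' (by omega)).mpr even_two
    have hq1 : 1 ≤ q := Fintype.card_pos
    have hodd : Odd ((q ^ (0 + 2) - 1) * (q ^ (1 + 2) - 1)) :=
      (Nat.Even.sub_odd (Nat.one_le_pow _ _ hq1) ((Nat.even_pow' (by omega)).mpr hev) odd_one).mul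
        (Nat.Even.sub_odd (Nat.one_le_pow _ _ hq1) ((Nat.even_pow' (by omega)).mpr hev) odd_one)
    have h2 := congrArg (fun m => m.factorization 2) h1
    simp only [Nat.factorization_mul (odd_gcd_three (q - 1)).pos.ne' Nat.card_pos.ne',
      Nat.factorization_mul (pow_ne_zero _ (by omega : q ≠ 0)) hodd.pos.ne', Finsupp.add_apply,
      Nat.factorization_eq_zero_of_not_dvd (odd_gcd_three (q - 1)).not_two_dvd_nat,
      Nat.factorization_eq_zero_of_not_dvd hodd.not_two_dvd_nat, zero_add, add_zero] at h2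
    rw [h2, hF, ← pow_mul, Nat.prime_two.factorization_pow, Finsupp.single_eq_same]

set_option maxHeartbeats 1000000 in
theorem exists_data {Q : Type u} [Group Q] [Finite Q] (hQ : IsPGroup 2 Q) (n : ℕ) (hn : 2 ≤ n)
    (α ρ : MulAut Q) (hα : orderOf α = 2) (hρ : orderOf ρ = 2 ^ n - 1) (hc : Commute α ρ)
    (C : Subgroup Q) (hC : ∀ x : Q, x ∈ C ↔ α x = x)
    (hCE : Cfsg.IsElementaryAbelian 2 C ∧ Nat.card ↥C = 2 ^ n)
    (htr : ∀ x y : Q, x ∈ C → y ∈ C → x ≠ 1 → y ≠ 1 → ∃ k : ℕ, (ρ ^ k) x = y) :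
    Nonempty (Data (GaloisField 2 n) Q) := by
  classical
  haveI : Fact (Nat.Prime 2) := ⟨Nat.prime_two⟩
  obtain ⟨⟨hcomm, -⟩, hcard⟩ := hCE
  letI : CommGroup C := { (inferInstance : Group C) with mul_comm := hcomm.is_comm.comm }
  have hρC : ∀ x ∈ C, ρ x ∈ C := fun x hx => (hC _).mpr (by
    have h := DFunLike.congr_fun hc.eq x
    simp only [MulAut.mul_apply] at h
    rw [h, (hC x).mp hx])
  let ρC : C →* C := MonoidHom.mk' (fun x => ⟨ρ x, hρC x x.2⟩) fun a b => Subtype.ext (map_mul ρ _ _)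
  let T : AddMonoid.End (Additive C) := MonoidHom.toAdditive ρC
  have hTpow : ∀ (k : ℕ) (x : C), (((T ^ k) (Additive.ofMul x)).toMul : Q) = (ρ ^ k) (x : Q) := by
    intro k
    induction k with
    | zero => intro x; rfl
    | succ k ih =>
      intro x
      rw [pow_succ', pow_succ', MulAut.mul_apply, ← ih]
      rfl
  have hq : 4 ≤ 2 ^ n := le_trans (by norm_num) (Nat.pow_le_pow_right (show 0 < 2 by norm_num) hn)
  haveI : Nontrivial C := Finite.one_lt_card_iff_nontrivial.mp (by omega)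
  obtain ⟨c1, hc1⟩ := exists_ne (1 : C)
  set c0 := Additive.ofMul c1
  have horb : ∀ a : Additive C, a ≠ 0 → ∃ k : ℕ, (T ^ k) c0 = a := by
    intro a ha
    obtain ⟨k, hk⟩ := htr c1 (a.toMul : C) c1.2 a.toMul.2 (fun e => hc1 (Subtype.ext e))
      (fun e => ha (Additive.toMul.injective (Subtype.ext e)))
    exact ⟨k, Additive.toMul.injective (Subtype.ext ((hTpow k c1).trans hk))⟩
  set R := Subring.closure ({T} : Set (AddMonoid.End (Additive C))) with hR
  have hTmem : T ∈ R := Subring.subset_closure (Set.mem_singleton T)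
  have hTR : ∀ k : ℕ, T ^ k ∈ R := fun k => pow_mem hTmem k
  have hcent : ∀ r ∈ R, ∀ k : ℕ, r * T ^ k = T ^ k * r := by
    intro r hr k
    have h : R ≤ Subring.centralizer {T} := Subring.closure_le.mpr (by
      rintro x rfl
      exact Subring.mem_centralizer_iff.mpr (by rintro g rfl; rfl))
    exact ((Commute.symm (Subring.mem_centralizer_iff.mp (h hr) T rfl : Commute T r)).pow_right k).eq
  have hev : ∀ r ∈ R, ∀ s ∈ R, r c0 = s c0 → r = s := by
    intro r hr s hs e
    refine AddMonoidHom.ext fun a => ?_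
    by_cases ha : a = 0
    · rw [ha]; exact (map_zero r).trans (map_zero s).symm
    obtain ⟨k, rfl⟩ := horb a ha
    change (r * T ^ k) c0 = (s * T ^ k) c0
    rw [hcent r hr k, hcent s hs k]
    change (T ^ k) (r c0) = (T ^ k) (s c0)
    rw [e]
  have hc0 : c0 ≠ 0 := fun e => hc1 (Additive.ofMul.injective e)
  have hzero : ∀ r ∈ R, r = 0 ∨ ∃ k : ℕ, r = T ^ k := by
    intro r hr
    by_cases h : r c0 = 0
    · exact Or.inl (hev r hr 0 (zero_mem R) h)
    · obtain ⟨k, hk⟩ := horb _ h
      exact Or.inr ⟨k, hev r hr _ (hTR k) hk.symm⟩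
  have hT1 : T ^ (2 ^ n - 1) = 1 := by
    refine DFunLike.ext _ _ fun a => Additive.toMul.injective (Subtype.ext ?_)
    rw [show a = Additive.ofMul a.toMul from rfl, hTpow, ← hρ, pow_orderOf_eq_one]
    rfl
  have hfield : IsField R := by
    refine ⟨⟨0, 1, fun h => ?_⟩, ?_, ?_⟩
    · have h' : (0 : AddMonoid.End (Additive C)) c0 = (1 : AddMonoid.End (Additive C)) c0 := by
        rw [show (0 : AddMonoid.End (Additive C)) = 1 from congrArg Subtype.val h]
      exact hc0 h'.symm
    · rintro ⟨r, hr⟩ ⟨s, hs⟩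
      apply Subtype.ext
      change r * s = s * r
      rcases hzero s hs with rfl | ⟨k, rfl⟩
      · rw [mul_zero, zero_mul]
      · exact hcent r hr k
    · rintro ⟨r, hr⟩ hr0
      rcases hzero r hr with rfl | ⟨k, rfl⟩
      · exact absurd rfl hr0
      refine ⟨⟨T ^ ((2 ^ n - 2) * k), hTR _⟩, Subtype.ext ?_⟩
      change T ^ k * T ^ ((2 ^ n - 2) * k) = 1
      rw [← pow_add, show k + (2 ^ n - 2) * k = (2 ^ n - 1) * k by
        rw [show 2 ^ n - 1 = (2 ^ n - 2) + 1 by omega, add_mul, one_mul, add_comm],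
        pow_mul, hT1, one_pow]
  have hevbij : Function.Bijective (fun r : R => (r : AddMonoid.End (Additive C)) c0) := by
    refine ⟨fun r s e => Subtype.ext (hev _ r.2 _ s.2 e), fun a => ?_⟩
    by_cases ha : a = 0
    · exact ⟨0, ha ▸ rfl⟩
    · obtain ⟨k, hk⟩ := horb a ha
      exact ⟨⟨T ^ k, hTR k⟩, hk⟩
  have hRc : Nat.card R = 2 ^ n := by
    rw [Nat.card_congr (Equiv.ofBijective _ hevbij), Nat.card_congr Additive.toMul, hcard]
  haveI : Finite R := Nat.finite_of_card_ne_zero (by rw [hRc]; positivity)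
  letI : Field R := hfield.toField
  letI : Fintype R := Fintype.ofFinite R
  letI : Fintype (GaloisField 2 n) := Fintype.ofFinite _
  let e : GaloisField 2 n ≃+* R := FiniteField.ringEquivOfCardEq (by
    rw [← Nat.card_eq_fintype_card, GaloisField.card 2 n (by omega), ← Nat.card_eq_fintype_card, hRc])
  let l : (GaloisField 2 n)ˣ := Units.mk0 (e.symm ⟨T, hTmem⟩) (by
    intro h
    rw [map_eq_zero_iff e.symm e.symm.injective] at h
    have h' : T = 0 := congrArg Subtype.val h
    rw [h', zero_pow (by omega)] at hT1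
    exact hc0 (DFunLike.congr_fun hT1 c0).symm)
  have hel : ∀ k : ℕ, ((e ((l ^ k : (GaloisField 2 n)ˣ) : GaloisField 2 n) : R) :
      AddMonoid.End (Additive C)) = T ^ k := fun k => by
    rw [Units.val_pow_eq_pow_val, map_pow, Units.val_mk0, RingEquiv.apply_symm_apply,
      SubmonoidClass.coe_pow]
  have hgen : ∀ t : (GaloisField 2 n)ˣ, t ∈ Subgroup.zpowers l := fun t => by
    rcases hzero _ (e (t : GaloisField 2 n)).2 with h | ⟨k, hk⟩
    · exact absurd (e.injective ((Subtype.ext h).trans (map_zero e).symm)) t.ne_zero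
    · refine ⟨k, Units.ext (e.injective (Subtype.ext ?_))⟩
      simp only [zpow_natCast]
      rw [hel, hk]
  have hord : orderOf l = 2 ^ n - 1 := by
    rw [orderOf_eq_card_of_forall_mem_zpowers hgen, Nat.card_units, GaloisField.card 2 n (by omega)]
  let Φ := monoidHomOfForallMemZpowers hgen (g' := ρ) (by rw [hord, hρ])
  have hΦl : ∀ k : ℕ, Φ (l ^ k) = ρ ^ k := fun k => by
    rw [map_pow, monoidHomOfForallMemZpowers_apply_gen]
  have hαx : ∀ x, α (α x) = x := fun x => by
    have h := pow_orderOf_eq_one α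
    rw [hα, pow_two] at h
    exact DFunLike.congr_fun h x
  exact ⟨{
    α := α
    Φ := Φ
    c := fun a => ((((e a : R) : AddMonoid.End (Additive C)) c0).toMul : Q)
    α2 := hαx
    comm := fun t x => by
      obtain ⟨k, rfl⟩ := Submonoid.mem_powers_iff _ _ |>.mp
        (mem_powers_iff_mem_zpowers.mpr (hgen t))
      rw [hΦl]
      have h := DFunLike.congr_fun ((hc.pow_right k).eq) x
      simpa using h
    c_add := fun a b => by rw [map_add]; rfl
    c_inj := fun a b h => e.injective (hevbij.1 (Additive.toMul.injective (Subtype.ext h)))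
    c_fix := fun x => by
      refine ⟨fun hx => ?_, fun ⟨a, ha⟩ => (hC x).mp (ha ▸ Subtype.prop _)⟩
      obtain ⟨r, hr⟩ := hevbij.2 (Additive.ofMul (⟨x, (hC x).mpr hx⟩ : C))
      exact ⟨e.symm r, by rw [RingEquiv.apply_symm_apply]; exact congrArg (fun a => ((Additive.toMul a : C) : Q)) hr⟩
    c_smul := fun t a => by
      obtain ⟨k, rfl⟩ := Submonoid.mem_powers_iff _ _ |>.mp
        (mem_powers_iff_mem_zpowers.mpr (hgen t))
      rw [hΦl, map_mul, Subring.coe_mul, hel, ← hTpow]
      rfl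
    two := hQ }⟩

theorem split_case {F : Type} [Field F] [Fintype F] [CharP F 2] {Q : Type u} [Group Q] [Finite Q]
    (D : Data F Q) (T r : F) (hr : r * r + r + T = 0) (π : Q → F × F)
    (hπ : ∀ x y, π (x * y) = π x + π y) (hs : Function.Surjective π)
    (hk : ∀ x, π x = 0 ↔ ∃ a, D.c a = x)
    (hq : ∀ x, x * x = D.c (T * (π x).1 ^ 2 + (π x).1 * (π x).2 + (π x).2 ^ 2)) :
    Nonempty (Q ≃* UT F) := by
  refine iso_of_sq (V := F × F) (F := F) (fun v => by ext <;> exact CharTwo.add_self_eq_zero _)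
    CharTwo.add_self_eq_zero (fun v => v.1 * v.2)
    (fun x => ((π x).2 + r * (π x).1, (π x).2 + r * (π x).1 + (π x).1))
    (fun x => (x.u, x.w)) D.c (fun a => ⟨0, 0, a⟩) ?_ ?_ ?_ ?_ D.c_add ?_ D.c_inj ?_
    D.c_central ?_ ?_ ?_ ?_ ?_
  · intro x y
    simp only [hπ, Prod.fst_add, Prod.snd_add, Prod.mk_add_mk, Prod.mk.injEq]
    constructor <;> ring
  · intro x y; rfl
  · rintro ⟨a, b⟩
    obtain ⟨x, hx⟩ := hs (a + b, a + r * (a + b))
    refine ⟨x, ?_⟩
    simp only [hx, Prod.mk.injEq]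
    have h2 := CharTwo.two_eq_zero (R := F)
    constructor
    · linear_combination (r * a + r * b) * h2
    · linear_combination (r * a + r * b + a) * h2
  · rintro ⟨a, b⟩; exact ⟨⟨a, b, 0⟩, rfl⟩
  · intro a b; simp [UT.mul_def]
  · intro a b h; exact congrArg UT.z h
  · intro a x; simp [UT.mul_def, add_comm]
  · intro x
    rw [← hk x]
    constructor
    · intro e
      obtain ⟨e1, e2⟩ := Prod.mk_eq_zero.mp e
      rw [e1, zero_add] at e2
      rw [e2, mul_zero, add_zero] at e1
      exact Prod.ext e2 e1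
    · intro e; simp [e]
  · intro x
    constructor
    · intro e
      obtain ⟨e1, e2⟩ := Prod.mk_eq_zero.mp e
      exact ⟨x.z, by ext <;> simp [e1, e2]⟩
    · rintro ⟨a, rfl⟩; rfl
  · intro x
    rw [hq]
    congr 1
    have h2 := CharTwo.two_eq_zero (R := F)
    linear_combination (π x).1 ^ 2 * hr - ((π x).2 * (π x).1 * r + r ^ 2 * (π x).1 ^ 2 + r * (π x).1 ^ 2) * h2
  · intro x
    simp [UT.mul_def, CharTwo.add_self_eq_zero]

theorem unitary_case {n : ℕ} (hn : 2 ≤ n) {F : Type} [Field F] [Fintype F] [CharP F 2]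
    (hF : Fintype.card F = 2 ^ n) {Q : Type u} [Group Q] [Finite Q]
    (D : Data F Q) (T : F) (hr : ∀ r : F, r * r + r + T ≠ 0) (π : Q → F × F)
    (hπ : ∀ x y, π (x * y) = π x + π y) (hs : Function.Surjective π)
    (hk : ∀ x, π x = 0 ↔ ∃ a, D.c a = x)
    (hq : ∀ x, x * x = D.c (T * (π x).1 ^ 2 + (π x).1 * (π x).2 + (π x).2 ^ 2)) :
    ∃ (E : Type) (_ : Field E) (_ : Fintype E), Fintype.card E = 4 ^ n ∧
        ∃ S : Sylow 2 (Cfsg.PSU 3 E (2 ^ n)),
          Nonempty (Q ≃* ↥(S : Subgroup (Cfsg.PSU 3 E (2 ^ n)))) := by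
  classical
  haveI : Fact (Nat.Prime 2) := ⟨Nat.prime_two⟩
  let p : Polynomial F := Polynomial.X ^ 2 + Polynomial.X + Polynomial.C T
  have hdeg : p.natDegree = 2 := by simp only [p]; compute_degree!
  have hmon : p.Monic := by simp only [p]; monicity!
  haveI : Fact (Irreducible p) := ⟨by
    rw [hmon.irreducible_iff_roots_eq_zero_of_degree_le_three (by omega) (by omega)]
    refine Multiset.eq_zero_of_forall_notMem fun a ha => hr a ?_
    rw [Polynomial.mem_roots hmon.ne_zero] at ha
    simpa [p, pow_two] using ha⟩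
  let E := AdjoinRoot p
  let b := AdjoinRoot.powerBasis hmon.ne_zero
  haveI : Module.Finite F E := b.finite
  haveI : Finite E := Module.finite_of_finite F
  letI : Fintype E := Fintype.ofFinite E
  have hEc : Fintype.card E = (2 ^ n) ^ 2 := by
    rw [← Nat.card_eq_fintype_card, Module.natCard_eq_pow_finrank (K := F), b.finrank,
      AdjoinRoot.powerBasis_dim hmon.ne_zero, hdeg, Nat.card_eq_fintype_card, hF]
  haveI : CharP E 2 := S1141.charTwo (by omega) hEc
  set j : F →+* E := AdjoinRoot.of p with hj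
  set r : E := AdjoinRoot.root p with hrdef
  have hroot : r ^ 2 + r + j T = 0 := by
    have h := AdjoinRoot.eval₂_root p
    simpa [p, Polynomial.eval₂_add, Polynomial.eval₂_pow] using h
  have hjq : ∀ a : F, j a ^ (2 ^ n) = j a := fun a => by
    rw [← map_pow, ← hF, FiniteField.pow_card]
  -- the fixed field
  have hfixed : ∀ c : E, c ^ (2 ^ n) = c → ∃ a, j a = c := by
    intro c hc
    have hq1 : 1 < 2 ^ n := Nat.one_lt_two_pow (by omega)
    set P : Polynomial E := Polynomial.X ^ (2 ^ n) - Polynomial.X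
    have hP : P ≠ 0 := FiniteField.X_pow_card_sub_X_ne_zero E hq1
    have hsub : Finset.univ.image j ⊆ P.roots.toFinset := by
      intro x hx
      obtain ⟨a, -, rfl⟩ := Finset.mem_image.mp hx
      simp [Polynomial.mem_roots hP, P, hjq]
    have heq := Finset.eq_of_subset_of_card_le hsub (by
      rw [Finset.card_image_of_injective _ j.injective, Finset.card_univ, hF]
      refine (Multiset.toFinset_card_le _).trans ((Polynomial.card_roots' P).trans ?_)
      rw [FiniteField.X_pow_card_sub_X_natDegree_eq E hq1])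
    have : c ∈ P.roots.toFinset := by simp [Polynomial.mem_roots hP, P, hc]
    rw [← heq] at this
    obtain ⟨a, -, ha⟩ := Finset.mem_image.mp this
    exact ⟨a, ha⟩
  have h2 := CharTwo.two_eq_zero (R := E)
  have hnr : ∀ a : F, j a ≠ r := fun a e => hr a (j.injective (by
    rw [map_add, map_add, map_mul, e, map_zero, ← hroot, pow_two]))
  have hrq : r ^ (2 ^ n) = r + 1 := by
    have h1 : (r ^ (2 ^ n)) ^ 2 + r ^ (2 ^ n) + j T = 0 := by
      have h := congrArg (fun x : E => x ^ (2 ^ n)) hroot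
      simp only [S1141.add_pow_q, hjq, zero_pow (show 2 ^ n ≠ 0 by positivity)] at h
      rw [← pow_mul, mul_comm, pow_mul]
      exact h
    have h3 : (r ^ (2 ^ n) + r) * (r ^ (2 ^ n) + r + 1) = 0 := by
      linear_combination h1 + hroot + (r ^ (2 ^ n) * r - j T) * h2
    rcases mul_eq_zero.mp h3 with h | h
    · obtain ⟨a, ha⟩ := hfixed r (CharTwo.add_eq_zero.mp h)
      exact absurd ha (hnr a)
    · linear_combination h - (r + 1) * h2
  -- the coordinate map
  let L : F × F → E := fun v => j v.2 + r * j v.1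
  have hLadd : ∀ v w, L (v + w) = L v + L w := fun v w => by
    simp only [L, Prod.fst_add, Prod.snd_add, map_add]; ring
  have hL0 : ∀ v, L v = 0 → v = 0 := by
    rintro ⟨a, b'⟩ h
    by_cases ha : a = 0
    · subst ha
      simp only [L, map_zero, mul_zero, add_zero] at h
      exact Prod.ext rfl (j.injective (h.trans (map_zero j).symm))
    · refine absurd ?_ (hnr (b' / a))
      have ha' : j a ≠ 0 := fun e => ha (j.injective (e.trans (map_zero j).symm))
      rw [map_div₀, div_eq_iff ha']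
      exact CharTwo.add_eq_zero.mp h
  have hLinj : Function.Injective L := fun v w h => by
    have h' : L (v + w) = 0 := by rw [hLadd, h, CharTwo.add_self_eq_zero]
    have := hL0 _ h'
    exact Prod.ext (CharTwo.add_eq_zero.mp (congrArg Prod.fst this))
      (CharTwo.add_eq_zero.mp (congrArg Prod.snd this))
  have hLbij : Function.Bijective L := (Fintype.bijective_iff_injective_and_card L).mpr
    ⟨hLinj, by rw [Fintype.card_prod, hF, hEc, pow_two]⟩
  let Li := Equiv.ofBijective L hLbij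
  let s : E → F := fun v => T * (Li.symm v).1 ^ 2 + (Li.symm v).1 * (Li.symm v).2 + (Li.symm v).2 ^ 2
  have hnorm : ∀ v : F × F, L v * L v ^ (2 ^ n) =
      j (T * v.1 ^ 2 + v.1 * v.2 + v.2 ^ 2) := fun v => by
    simp only [L, S1141.add_pow_q, mul_pow, hjq, hrq, map_add, map_mul, map_pow]
    linear_combination (j v.1 ^ 2) * hroot + (r * j v.1 * j v.2 - j T * j v.1 ^ 2) * h2
  choose ι hι1 hι2 using fun a : F => S3315.exists_central hEc (hjq a)
  have hUiso : Nonempty (Q ≃* S1141.U hEc) := by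
    refine iso_of_sq (V := E) (F := F) CharTwo.add_self_eq_zero CharTwo.add_self_eq_zero s
      (fun x => L (π x)) (S3315.pa hEc) D.c ι ?_ (S3315.pa_mul hEc) ?_ (S3315.pa_surj hEc)
      D.c_add ?_ D.c_inj ?_ D.c_central ?_ ?_ ?_ ?_ ?_
    · intro x y; rw [hπ, hLadd]
    · intro v
      obtain ⟨x, hx⟩ := hs (Li.symm v)
      exact ⟨x, by simp only [hx]; exact Li.apply_symm_apply v⟩
    · intro a b'
      refine S3315.ext_pab hEc ?_ ?_
      · rw [S3315.pa_mul, hι1, hι1, hι1, add_zero]
      · rw [S3315.pb_mul, hι2, hι2, hι2, hι1, map_add, zero_mul, add_zero]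
    · intro a b' h
      exact j.injective (by rw [← hι2 a, ← hι2 b', h])
    · intro a x
      exact (Subgroup.mem_center_iff.mp ((S3315.pa_eq_zero hEc hn _).mp (hι1 a)) x).symm
    · intro x
      rw [← hk x]
      exact ⟨hL0 _, fun e => by simp [L, e]⟩
    · intro g
      refine ⟨fun e => ?_, fun ⟨a, ha⟩ => ha ▸ hι1 a⟩
      obtain ⟨a, ha⟩ := hfixed _ (S3315.pb_fixed hEc e)
      exact ⟨a, S3315.ext_pab hEc ((hι1 a).trans e.symm) ((hι2 a).trans ha)⟩
    · intro x
      rw [hq]
      simp only [s, show Li.symm (L (π x)) = π x from Li.symm_apply_apply _]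
    · intro g
      refine S3315.ext_pab hEc ?_ ?_
      · rw [S3315.pa_mul, hι1, CharTwo.add_self_eq_zero]
      · rw [S3315.pb_mul, CharTwo.add_self_eq_zero, zero_add, hι2]
        simp only [s]
        rw [← hnorm, show L (Li.symm (S3315.pa hEc g)) = S3315.pa hEc g from Li.apply_symm_apply _]
  obtain ⟨e⟩ := hUiso
  refine ⟨E, inferInstance, inferInstance,
    by rw [hEc, ← pow_mul, mul_comm, pow_mul]; norm_num, ?_⟩
  obtain ⟨S⟩ : Nonempty (Sylow 2 (Cfsg.PSU 3 E (2 ^ n))) := inferInstance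
  refine ⟨S, ?_⟩
  have hU : IsPGroup 2 (S1141.U hEc) :=
    IsPGroup.of_card (n := n * 3) (by rw [S1141.card_U hEc, ← pow_mul])
  refine (equiv_sylow_of ((QuotientGroup.mk' (Subgroup.center (Cfsg.SU 3 E (2 ^ n)))).comp
      (S1141.U hEc).subtype) hU ?_ S ((S1141.card_U hEc).trans (S1141.result hn hEc S).1.symm)).map fun e' => e.trans e'
  · refine Odd.of_dvd_nat (odd_gcd_three (2 ^ n + 1)) ?_
    rw [← Cfsg.Agent.Lib.Classical.card_center_SU hEc (show 0 < 3 by omega),
      Nat.card_congr (Subgroup.equivMapOfInjective _ _ (S1141.U hEc).subtype_injective).toEquiv]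
    refine Subgroup.card_dvd_of_le ?_
    rintro _ ⟨A, hA, rfl⟩
    exact (QuotientGroup.eq_one_iff _).1 hA

/-- Let Q be a non-abelian finite 2-group admitting commuting automorphisms α of order 2 and ρ of order 2^n − 1, where n ≥ 2, such that the fixed points of α form an elementary abelian subgroup of order 2^n on whose nonidentity elements the group generated by ρ acts transitively. Then Q is isomorphic to a Sylow 2-subgroup of the projective special unitary group of dimension 3 with parameter 2^n (realised over the field with 4^n elements) or of the projective special linear group of dimension 3 over the field with 2^n elements. -/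
theorem result {Q : Type*} [Group Q] [Finite Q] (hQ : IsPGroup 2 Q) (hna : ¬ IsMulCommutative Q) (n : ℕ) (hn : 2 ≤ n)
    (α ρ : MulAut Q) (hα : orderOf α = 2) (hρ : orderOf ρ = 2 ^ n - 1) (hc : Commute α ρ)
    (C : Subgroup Q) (hC : ∀ x : Q, x ∈ C ↔ α x = x) (hCE : Cfsg.IsElementaryAbelian 2 C ∧ Nat.card ↥C = 2 ^ n)
    (htr : ∀ x y : Q, x ∈ C → y ∈ C → x ≠ 1 → y ≠ 1 → ∃ k : ℕ, (ρ ^ k) x = y) :
    (∃ (F : Type) (_ : Field F) (_ : Fintype F), Fintype.card F = 4 ^ n ∧
        ∃ S : Sylow 2 (Cfsg.PSU 3 F (2 ^ n)), Nonempty (Q ≃* ↥(S : Subgroup (Cfsg.PSU 3 F (2 ^ n))))) ∨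
      (∃ (F : Type) (_ : Field F) (_ : Fintype F), Fintype.card F = 2 ^ n ∧
        ∃ S : Sylow 2 (Matrix.ProjectiveSpecialLinearGroup (Fin 3) F), Nonempty (Q ≃* ↥(S : Subgroup (Matrix.ProjectiveSpecialLinearGroup (Fin 3) F)))) := by
  classical
  haveI : Fact (Nat.Prime 2) := ⟨Nat.prime_two⟩
  obtain ⟨D⟩ := exists_data hQ n hn α ρ hα hρ hc C hC hCE htr
  letI : Fintype (GaloisField 2 n) := Fintype.ofFinite _
  have hF : Fintype.card (GaloisField 2 n) = 2 ^ n := by
    rw [← Nat.card_eq_fintype_card, GaloisField.card 2 n (by omega)]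
  have hq : 2 < Nat.card (GaloisField 2 n) := by
    rw [Nat.card_eq_fintype_card, hF]
    calc 2 < 2 ^ 2 := by norm_num
      _ ≤ 2 ^ n := Nat.pow_le_pow_right (by norm_num) hn
  obtain ⟨k, -, hk⟩ := Data.classify hq (Nat.card Q) D le_rfl
  obtain ⟨-, T, π, hπ, hs, hker, hsq, -⟩ := hk fun h => hna ⟨⟨h⟩⟩
  by_cases hr : ∃ r : GaloisField 2 n, r * r + r + T = 0
  · obtain ⟨r, hr⟩ := hr
    obtain ⟨e⟩ := split_case D T r hr π hπ hs hker hsq
    obtain ⟨S⟩ : Nonempty (Sylow 2 (Matrix.ProjectiveSpecialLinearGroup (Fin 3) (GaloisField 2 n))) :=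
      inferInstance
    obtain ⟨e'⟩ := sylow_PSL_equiv (by omega) hF S
    exact Or.inr ⟨_, inferInstance, inferInstance, hF, S, ⟨e.trans e'⟩⟩
  · push Not at hr
    exact Or.inl (unitary_case hn hF D T hr π hπ hs hker hsq)

end Cfsg.Agent.S3161
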