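import Mathlib
import Cfsg.Statements.S3163


set_option autoImplicit false
open Cfsg

namespace Cfsg.Agent.S3163

theorem comm_of {S : Type*} [Group S] {A : Subgroup S} (hA : Cfsg.IsElementaryAbelian 2 A)
    {x y : S} (hx : x ∈ A) (hy : y ∈ A) : x * y = y * x := by
  have := hA.1
  exact congrArg Subtype.val (mul_comm' (⟨x, hx⟩ : ↥A) ⟨y, hy⟩)

theorem max_of {S : Type*} [Group S] {A B : Subgroup S} (h : ¬ A ≤ B)
    (hC : ∀ a ∈ A, a ∉ B → Subgroup.centralizer ({a} : Set S) = A) :
    ∀ E' : Subgroup S, Cfsg.IsElementaryAbelian 2 E' → A ≤ E' → E' = A := by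
  intro E' hE hle
  obtain ⟨a, ha, haB⟩ := SetLike.not_le_iff_exists.mp h
  refine le_antisymm (fun e he => ?_) hle
  rw [← hC a ha haB, Subgroup.mem_centralizer_singleton_iff]
  exact comm_of hE he (hle ha)

theorem card_centralizer_le {S : Type*} [Group S] [Finite S] {A B : Subgroup S}
    (hBA : ∀ s : S, ∃ b ∈ B, ∃ a ∈ A, s = b * a)
    (hA : Cfsg.IsElementaryAbelian 2 A) (hB : Cfsg.IsElementaryAbelian 2 B)
    (hC : ∀ a ∈ A, a ∉ B → Subgroup.centralizer ({a} : Set S) = A)
    (hC' : ∀ b ∈ B, b ∉ A → Subgroup.centralizer ({b} : Set S) = B)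
    (hZ : Subgroup.center S = A ⊓ B) {x : S} (hxA : x ∉ A) (hxB : x ∉ B) :
    Nat.card ↥(Subgroup.centralizer ({x} : Set S)) ≤ Nat.card ↥A := by
  set C := Subgroup.centralizer ({x} : Set S)
  obtain ⟨b, hb, a, ha, rfl⟩ := hBA x
  have hbA : b ∉ A := fun h => hxA (A.mul_mem h ha)
  have haB : a ∉ B := fun h => hxB (B.mul_mem hb h)
  have hCB : B.subgroupOf C = (A ⊓ B).subgroupOf C := by
    ext ⟨s, hs⟩
    simp only [Subgroup.mem_subgroupOf, Subgroup.mem_inf]
    refine ⟨fun h => ⟨?_, h⟩, fun h => h.2⟩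
    rw [← hC a ha haB, Subgroup.mem_centralizer_singleton_iff]
    have hs' : s * (b * a) = b * a * s := Subgroup.mem_centralizer_singleton_iff.mp hs
    have e : s * b = b * s := comm_of hB h hb
    apply mul_left_cancel (a := b)
    calc b * (s * a) = (b * s) * a := (mul_assoc _ _ _).symm
      _ = s * (b * a) := by rw [← e, mul_assoc]
      _ = b * (a * s) := by rw [hs', mul_assoc]
  have h1 : Nat.card ↥(B.subgroupOf C) ≤ Nat.card ↥(B.subgroupOf A) := by
    rw [hCB]
    refine Nat.card_le_card_of_injective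
      (fun s => ⟨⟨((s : ↥C) : S), s.2.1⟩, s.2.2⟩) ?_
    intro s t h
    have := congrArg (fun w : ↥(B.subgroupOf A) => ((w : ↥A) : S)) h
    exact Subtype.ext (Subtype.ext this)
  have h2 : B.relIndex C ≤ B.relIndex A := by
    calc B.relIndex C ≤ B.relIndex ⊤ :=
          Subgroup.relIndex_le_of_le_right le_top Subgroup.FiniteIndex.index_ne_zero
      _ ≤ B.relIndex A := by
          rw [Subgroup.relIndex_top_right]
          refine Nat.card_le_card_of_surjective
            (Quotient.lift (fun s : ↥A => ((s : S) : S ⧸ B)) ?_) ?_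
          · intro s t h
            replace h := QuotientGroup.leftRel_apply.mp h
            rw [Subgroup.mem_subgroupOf] at h
            exact QuotientGroup.eq.mpr (by simpa using h)
          · intro q
            induction q using QuotientGroup.induction_on with
            | H s =>
              obtain ⟨b', hb', a', ha', h'⟩ := hBA s⁻¹
              refine ⟨QuotientGroup.mk ⟨a'⁻¹, A.inv_mem ha'⟩, ?_⟩
              refine QuotientGroup.eq.mpr ?_
              have : s = a'⁻¹ * b'⁻¹ := by rw [← mul_inv_rev, ← h', inv_inv]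
              simp [this, B.inv_mem hb']
  calc Nat.card ↥C = Nat.card ↥(B.subgroupOf C) * (B.subgroupOf C).index :=
        (Subgroup.card_mul_index _).symm
    _ ≤ Nat.card ↥(B.subgroupOf A) * (B.subgroupOf A).index := Nat.mul_le_mul h1 h2
    _ = Nat.card ↥A := Subgroup.card_mul_index _

/-- Let S be a non-abelian finite 2-group which is the product S = AB of two elementary abelian subgroups A and B, and suppose that the centralizer in S of every element of A outside B is exactly A. Then the centralizer of every element of B outside A is exactly B; A and B are maximal elementary abelian subgroups of S and the only ones; the centre of S is A ∩ B; and every element of S outside A ∪ B has centralizer of order at most min(|A|, |B|). -/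
theorem result {S : Type*} [Group S] [Finite S] (hS : IsPGroup 2 S) (hna : ¬ IsMulCommutative S) (A B : Subgroup S)
    (hA : Cfsg.IsElementaryAbelian 2 A) (hB : Cfsg.IsElementaryAbelian 2 B) (hAB : ∀ s : S, ∃ a ∈ A, ∃ b ∈ B, s = a * b)
    (hC : ∀ a ∈ A, a ∉ B → Subgroup.centralizer ({a} : Set S) = A) :
    (∀ b ∈ B, b ∉ A → Subgroup.centralizer ({b} : Set S) = B) ∧
      (∀ E : Subgroup S, Cfsg.IsElementaryAbelian 2 E → (∀ E' : Subgroup S, Cfsg.IsElementaryAbelian 2 E' → E ≤ E' → E' = E) → E = A ∨ E = B) ∧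
      (∀ E' : Subgroup S, Cfsg.IsElementaryAbelian 2 E' → A ≤ E' → E' = A) ∧ (∀ E' : Subgroup S, Cfsg.IsElementaryAbelian 2 E' → B ≤ E' → E' = B) ∧
      Subgroup.center S = A ⊓ B ∧
      (∀ x : S, x ∉ A → x ∉ B → Nat.card ↥(Subgroup.centralizer ({x} : Set S)) ≤ min (Nat.card ↥A) (Nat.card ↥B)) := by
  have hna' : ¬ A ≤ B ∧ ¬ B ≤ A := by
    constructor
    · intro h
      refine hna ⟨⟨fun s t => ?_⟩⟩
      obtain ⟨a, ha, b, hb, rfl⟩ := hAB s
      obtain ⟨a', ha', b', hb', rfl⟩ := hAB t
      have := hB.1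
      exact congrArg Subtype.val (mul_comm' (⟨a * b, B.mul_mem (h ha) hb⟩ : ↥B) ⟨a' * b', B.mul_mem (h ha') hb'⟩)
    · intro h
      refine hna ⟨⟨fun s t => ?_⟩⟩
      obtain ⟨a, ha, b, hb, rfl⟩ := hAB s
      obtain ⟨a', ha', b', hb', rfl⟩ := hAB t
      have := hA.1
      exact congrArg Subtype.val (mul_comm' (⟨a * b, A.mul_mem ha (h hb)⟩ : ↥A) ⟨a' * b', A.mul_mem ha' (h hb')⟩)
  have h1 : ∀ b ∈ B, b ∉ A → Subgroup.centralizer ({b} : Set S) = B := by
    intro b hb hbA
    ext s
    rw [Subgroup.mem_centralizer_singleton_iff]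
    constructor
    · intro hs
      obtain ⟨a, ha, b', hb', rfl⟩ := hAB s
      have hbb : b' * b = b * b' := comm_of hB hb' hb
      have hab : b * a = a * b := mul_right_cancel (b := b') (by
        calc b * a * b' = b * (a * b') := mul_assoc _ _ _
          _ = a * b' * b := hs.symm
          _ = a * (b' * b) := mul_assoc _ _ _
          _ = a * (b * b') := by rw [hbb]
          _ = a * b * b' := (mul_assoc _ _ _).symm)
      refine B.mul_mem ?_ hb'
      by_contra haB
      apply hbA
      rw [← hC a ha haB, Subgroup.mem_centralizer_singleton_iff]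
      exact hab
    · intro hs; exact comm_of hB hs hb
  have h5 : Subgroup.center S = A ⊓ B := by
    ext z
    constructor
    · intro hz
      obtain ⟨a, ha, haB⟩ := SetLike.not_le_iff_exists.mp hna'.1
      obtain ⟨b, hb, hbA⟩ := SetLike.not_le_iff_exists.mp hna'.2
      refine Subgroup.mem_inf.mpr ⟨?_, ?_⟩
      · rw [← hC a ha haB, Subgroup.mem_centralizer_singleton_iff]
        exact (Subgroup.mem_center_iff.mp hz a).symm
      · rw [← h1 b hb hbA, Subgroup.mem_centralizer_singleton_iff]
        exact (Subgroup.mem_center_iff.mp hz b).symm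
    · rintro ⟨hzA, hzB⟩
      rw [Subgroup.mem_center_iff]
      intro s
      obtain ⟨a, ha, b, hb, rfl⟩ := hAB s
      have e1 := comm_of hA hzA ha
      have e2 := comm_of hB hzB hb
      rw [mul_assoc, ← e2, ← mul_assoc, ← e1, mul_assoc]
  have hAB' : ∀ s : S, ∃ b ∈ B, ∃ a ∈ A, s = b * a := by
    intro s
    obtain ⟨a, ha, b, hb, h⟩ := hAB s⁻¹
    refine ⟨b⁻¹, B.inv_mem hb, a⁻¹, A.inv_mem ha, ?_⟩
    rw [← mul_inv_rev, ← h, inv_inv]
  refine ⟨h1, ?_, max_of hna'.1 hC, max_of hna'.2 h1, h5, fun x hxA hxB => le_min ?_ ?_⟩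
  · intro E hE hEmax
    have hsub : ∀ e ∈ E, e ∈ A ∨ e ∈ B := by
      intro e he
      obtain ⟨a, ha, b, hb, rfl⟩ := hAB e
      by_cases haB : a ∈ B
      · exact Or.inr (B.mul_mem haB hb)
      · left
        refine A.mul_mem ha ?_
        rw [← hC a ha haB, Subgroup.mem_centralizer_singleton_iff]
        have h2 := hE.2 _ he
        rw [pow_two] at h2
        have ea : a * a = 1 := by rw [← pow_two]; exact hA.2 a ha
        have eb : b * b = 1 := by rw [← pow_two]; exact hB.2 b hb
        calc b * a = (a * a) * b * a * (b * b) := by rw [ea, eb, one_mul, mul_one]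
          _ = a * ((a * b) * (a * b)) * b := by group
          _ = a * b := by rw [h2, mul_one]
    have : E ≤ A ∨ E ≤ B := by
      by_contra hc
      push Not at hc
      obtain ⟨a, ha, haA⟩ := SetLike.not_le_iff_exists.mp hc.1
      obtain ⟨b, hb, hbB⟩ := SetLike.not_le_iff_exists.mp hc.2
      have haB : a ∈ B := (hsub a ha).resolve_left haA
      have hbA : b ∈ A := (hsub b hb).resolve_right hbB
      rcases hsub _ (E.mul_mem ha hb) with h | h
      · exact haA ((A.mul_mem_cancel_right hbA).mp h)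
      · exact hbB ((B.mul_mem_cancel_left haB).mp h)
    rcases this with h | h
    · exact Or.inl (hEmax A hA h).symm
    · exact Or.inr (hEmax B hB h).symm
  · exact card_centralizer_le hAB' hA hB hC h1 h5 hxA hxB
  · exact card_centralizer_le hAB hB hA h1 hC (h5.trans (inf_comm A B)) hxB hxA

end Cfsg.Agent.S3163
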