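import Mathlib
import Cfsg.Statements.S3164
import Cfsg.Agent.S3153
import Cfsg.Agent.Lib.InvChar.OddElems
import Cfsg.Agent.Lib.InvChar.Basic
import Cfsg.Agent.Lib.Coprime.PxQ
import Cfsg.Agent.Lib.Components.GenFitting
import Cfsg.Agent.Lib.Transfer.Frobenius
import Cfsg.Agent.Lib.Cores.Fitting

set_option autoImplicit false
open Cfsg

namespace Cfsg.Agent.S3164

open Cfsg.Agent.Lib.Components in
/-- An element normalising a quasisimple subgroup with all displacements in a subgroup meeting it centrally centralises it. -/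
theorem centralizes_of_inf_central {G : Type*} [Group G] {A N : Subgroup G} (hq : Cfsg.IsQuasisimple ↥A)
    (hN : N.Normal) (hle : N.subgroupOf A ≤ Subgroup.center ↥A) {x : G} (hx : x ∈ N)
    (hxA : x ∈ Subgroup.normalizer (A : Set G)) : x ∈ Subgroup.centralizer (A : Set G) := by
  rw [Subgroup.mem_centralizer_iff]
  intro q hqA
  refine (Cfsg.Agent.S3153.commute_of_perfect hq.1 x (fun q hq => (Subgroup.mem_normalizer_iff.mp hxA q).mp hq) ?_ q hqA).eq.symm
  intro q
  apply hle
  rw [Subgroup.mem_subgroupOf]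
  show x * (q : G) * x⁻¹ * (q : G)⁻¹ ∈ N
  rw [show x * (q : G) * x⁻¹ * (q : G)⁻¹ = x * ((q : G) * x⁻¹ * (q : G)⁻¹) by group]
  exact mul_mem hx (hN.conj_mem _ (inv_mem hx) _)

open Cfsg.Agent.Lib.Components in
/-- A subgroup normal in `G` meets a non-normal part of a quasisimple subgroup centrally. -/
theorem inf_central {G : Type*} [Group G] [Finite G] {A N : Subgroup G} (hq : Cfsg.IsQuasisimple ↥A)
    (hN : N.Normal) (h : ¬ A ≤ N) : N.subgroupOf A ≤ Subgroup.center ↥A :=
  (IsQuasisimple.normal_eq_top_or_le_center hq (N.subgroupOf A)).resolve_left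
    fun ht => h (Subgroup.subgroupOf_eq_top.mp ht)

/-- Let A be a standard subgroup of a finite group G whose centralizer has cyclic Sylow 2-subgroups, t an involution centralizing A, and X the normal closure of A in G. If X has a t-invariant 2-subgroup R with [R, t] nontrivial and contained in A, then X is semisimple (X equals its own layer, a central product of quasisimple groups) and the centre of X has odd order. -/
theorem result {G : Type*} [Group G] [Finite G] (A : Subgroup G) (hA : Cfsg.IsStandardSubgroup A)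
    (hcyc : ∀ R : Sylow 2 ↥(Subgroup.centralizer (A : Set G)), IsCyclic ↥(R : Subgroup ↥(Subgroup.centralizer (A : Set G)))) (t : G) (ht : orderOf t = 2) (htA : t ∈ Subgroup.centralizer (A : Set G))
    (R : Subgroup G) (hR2 : IsPGroup 2 ↥R) (hRX : R ≤ Subgroup.normalClosure (A : Set G)) (hRt : ∀ r ∈ R, t * r * t⁻¹ ∈ R)
    (hc1 : ⁅R, Subgroup.zpowers t⁆ ≠ ⊥) (hc2 : ⁅R, Subgroup.zpowers t⁆ ≤ A) :
    Cfsg.layer ↥(Subgroup.normalClosure (A : Set G)) = ⊤ ∧ Odd (Nat.card ↥(Subgroup.center ↥(Subgroup.normalClosure (A : Set G)))) := by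
  obtain ⟨hq, ⟨hKev, hKti⟩, -, hNN⟩ := hA
  have : Fact (Nat.Prime 2) := ⟨Nat.prime_two⟩
  set K := Subgroup.centralizer (A : Set G) with hK
  have htt : t * t = 1 := by rw [← pow_two, ← ht, pow_orderOf_eq_one]
  have hti : t⁻¹ = t := inv_eq_of_mul_eq_one_right htt
  have ht1 : t ≠ 1 := fun h => by rw [h, orderOf_one] at ht; omega
  -- two even intersections force normalisation
  have hTI : ∀ g : G, ∀ w : G, orderOf w = 2 → w ∈ K → g⁻¹ * w * g ∈ K → g ∈ Subgroup.normalizer (A : Set G) := by
    intro g w hw hwK hwg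
    rw [hNN]
    by_contra hg
    have hmem : w ∈ K ⊓ K.map (MulAut.conj g).toMonoidHom := by
      refine ⟨hwK, g⁻¹ * w * g, hwg, ?_⟩
      show g * (g⁻¹ * w * g) * g⁻¹ = w
      group
    exact Nat.not_even_iff_odd.mpr (hKti g hg)
      (even_iff_two_dvd.mpr (hw ▸ Subgroup.orderOf_dvd_natCard _ hmem))
  have hloc : ∀ w : G, orderOf w = 2 → w ∈ K → ∀ x : G, x * w = w * x → x ∈ Subgroup.normalizer (A : Set G) := by
    intro w hw hwK x hx
    refine hTI x w hw hwK ?_
    rwa [mul_assoc, ← hx, inv_mul_cancel_left]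
  -- cyclic Sylow subgroups: a four group does not lie in `K`
  have hfour : ∀ w ∈ K, w * w = 1 → w * t = t * w → w = 1 ∨ w = t := by
    intro w hw hww hwt
    by_contra hne
    simp only [not_or] at hne
    let V : Subgroup ↥K := Subgroup.closure {⟨w, hw⟩, ⟨t, htA⟩}
    have hgen : ∀ a ∈ ({⟨w, hw⟩, ⟨t, htA⟩} : Set ↥K), ∀ b ∈ ({⟨w, hw⟩, ⟨t, htA⟩} : Set ↥K), a * b = b * a := by
      rintro a (rfl | rfl) b (rfl | rfl) <;> first | rfl | exact Subtype.ext hwt | exact Subtype.ext hwt.symm
    have hV : IsMulCommutative ↥V := Subgroup.isMulCommutative_closure hgen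
    have hexp : ∀ a ∈ V, a ^ 2 = 1 := by
      intro a ha
      induction ha using Subgroup.closure_induction with
      | mem v hv =>
        rcases hv with rfl | rfl
        · exact Subtype.ext (by simp [pow_two, hww])
        · exact Subtype.ext (by simp [pow_two, htt])
      | one => simp
      | mul a b ha hb iha ihb =>
        have : a * b = b * a := congrArg Subtype.val (mul_comm' (⟨a, ha⟩ : ↥V) ⟨b, hb⟩)
        rw [Commute.mul_pow this, iha, ihb, one_mul]
      | inv a ha iha => rw [inv_pow, iha, inv_one]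
    have hVp : IsPGroup 2 ↥V := fun v => ⟨1, Subtype.ext (by simpa using hexp v v.2)⟩
    obtain ⟨P, hP⟩ := hVp.exists_le_sylow
    have hcyc' := hcyc P
    have hVc : IsCyclic ↥V := Subgroup.isCyclic_of_le hP
    obtain ⟨g, hg⟩ := hVc.exists_generator
    have hle : Nat.card ↥V ≤ 2 := by
      rw [← orderOf_eq_card_of_forall_mem_zpowers hg]
      exact Nat.le_of_dvd two_pos (orderOf_dvd_of_pow_eq_one (Subtype.ext (by simpa using hexp g g.2)))
    have h3 : ({1, ⟨w, hw⟩, ⟨t, htA⟩} : Set ↥K) ⊆ (V : Set ↥K) := by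
      rintro a (rfl | rfl | rfl)
      exacts [one_mem V, Subgroup.subset_closure (Or.inl rfl), Subgroup.subset_closure (Or.inr rfl)]
    have := Set.ncard_le_ncard h3 (Set.toFinite _)
    rw [Set.ncard_eq_three.mpr ⟨1, ⟨w, hw⟩, ⟨t, htA⟩, fun h => hne.1 (congrArg Subtype.val h).symm,
      fun h => ht1 (congrArg Subtype.val h).symm, fun h => hne.2 (congrArg Subtype.val h), rfl⟩,
      ← Nat.card_coe_set_eq] at this
    have h4 : Nat.card ↥(V : Set ↥K) = Nat.card ↥V := rfl
    omega
  -- the element `a`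
  obtain ⟨r, hr, hrt1⟩ : ∃ r ∈ R, r * t * r⁻¹ * t⁻¹ ≠ 1 := by
    by_contra hcon
    simp only [not_exists, not_and, not_not] at hcon
    apply hc1
    rw [Subgroup.commutator_eq_bot_iff_le_centralizer]
    intro x hx
    rw [Subgroup.mem_centralizer_iff]
    intro w hw
    obtain ⟨k, rfl⟩ := Subgroup.mem_zpowers_iff.mp hw
    have h1 : x * t = t * x := by
      have := hcon x hx
      calc x * t = (x * t * x⁻¹ * t⁻¹) * (t * x) := by group
        _ = t * x := by rw [this, one_mul]
    exact (((show Commute x t from h1).zpow_right k).eq).symm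
  set a := r * t * r⁻¹ * t⁻¹ with ha
  have haA : a ∈ A := hc2 (Subgroup.commutator_mem_commutator hr (Subgroup.mem_zpowers t))
  have hat : a * t = t * a := Subgroup.mem_centralizer_iff.mp htA a haA
  set u := r * t * r⁻¹ with hu
  have hau : u = a * t := by rw [ha, inv_mul_cancel_right]
  have huu : u * u = 1 := by rw [hu, show r * t * r⁻¹ * (r * t * r⁻¹) = r * (t * t) * r⁻¹ by group, htt, mul_one, mul_inv_cancel]
  have haa : a * a = 1 := by
    have h1 : (a * t) * (a * t) = 1 := hau ▸ huu
    calc a * a = a * a * (t * t) := by rw [htt, mul_one]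
      _ = a * (a * t) * t := by group
      _ = a * (t * a) * t := by rw [hat]
      _ = (a * t) * (a * t) := by group
      _ = 1 := h1
  have hanc : (⟨a, haA⟩ : ↥A) ∉ Subgroup.center ↥A := by
    intro hz
    have haK : a ∈ K := Subgroup.mem_centralizer_iff.mpr fun q hq =>
      congrArg Subtype.val (Subgroup.mem_center_iff.mp hz ⟨q, hq⟩)
    rcases hfour a haK haa hat with h | h
    · exact hrt1 h
    · have h2 : r * t * r⁻¹ = 1 := by
        show u = 1
        rw [hau, h, htt]
      exact ht1 (conj_eq_one_iff.mp h2)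
  -- odd normal subgroups
  set O := Cfsg.oddCore G with hOdef
  have hOodd : Odd (Nat.card ↥O) := Cfsg.Agent.Lib.Cores.odd_card_oddCore G
  have hOn : O.Normal := inferInstance
  have hAO : A ≤ Subgroup.centralizer (O : Set G) := by
    have hnotle : ¬ A ≤ O := fun h => by
      apply hrt1
      refine orderOf_eq_one_iff.mp (Nat.eq_one_of_dvd_coprimes (Nat.coprime_two_left.mpr hOodd) ?_ (Subgroup.orderOf_dvd_natCard _ (h haA)))
      exact orderOf_dvd_of_pow_eq_one (by rw [pow_two]; exact haa)
    have hC1 : ∀ x ∈ O, x * t = t * x → ∀ q ∈ A, q * x = x * q := fun x hx hxt =>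
      Subgroup.mem_centralizer_iff.mp
        (centralizes_of_inf_central hq hOn (inf_central hq hOn hnotle) hx (hloc t ht htA x hxt))
    have hsub : ∀ x ∈ O, x * t = t * x → x * u = u * x := by
      intro x hx hxt
      rw [hau, ← mul_assoc, ← hC1 x hx hxt a haA, mul_assoc, hxt, ← mul_assoc]
    -- the two fixed-point sets have the same size, so they agree
    have hsub' : ∀ x ∈ O, x * u = u * x → x * t = t * x := by
      let Ct : Set G := {x | x ∈ O ∧ x * t = t * x}
      let Cu : Set G := {x | x ∈ O ∧ x * u = u * x}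
      have heq : Ct = Cu := by
        refine Set.eq_of_subset_of_ncard_le (fun x hx => ⟨hx.1, hsub x hx.1 hx.2⟩) ?_ (Set.toFinite _)
        refine Set.ncard_le_ncard_of_injOn (fun x => r⁻¹ * x * r) ?_ ?_ (Set.toFinite _)
        · rintro x ⟨hx, hxu⟩
          refine ⟨by simpa using hOn.conj_mem x hx r⁻¹, ?_⟩
          calc r⁻¹ * x * r * t = r⁻¹ * (x * u) * r := by rw [hu]; group
            _ = r⁻¹ * (u * x) * r := by rw [hxu]
            _ = t * (r⁻¹ * x * r) := by rw [hu]; group
        · intro x _ y _ h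
          simpa using h
      intro x hx hxu
      exact (heq.ge (show x ∈ Cu from ⟨hx, hxu⟩)).2
    let V : Subgroup G := Subgroup.closure {t, a}
    have hgen : ∀ p ∈ ({t, a} : Set G), ∀ q ∈ ({t, a} : Set G), p * q = q * p := by
      rintro p (rfl | rfl) q (rfl | rfl) <;> first | rfl | exact hat | exact hat.symm
    have hVc : IsMulCommutative ↥V := Subgroup.isMulCommutative_closure hgen
    have e1 : t * (a * t) = a := by rw [← mul_assoc, ← hat, mul_assoc, htt, mul_one]
    have e2 : a * t * t = a := by rw [mul_assoc, htt, mul_one]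
    have e3 : a * (a * t) = t := by rw [← mul_assoc, haa, one_mul]
    have e4 : a * t * a = t := by rw [hat, mul_assoc, haa, mul_one]
    have e5 : a * t * (a * t) = 1 := by rw [← mul_assoc, e4, htt]
    have e6 : t * a = a * t := hat.symm
    have hmemV : ∀ w ∈ V, w = 1 ∨ w = t ∨ w = a ∨ w = a * t := by
      intro w hw
      induction hw using Subgroup.closure_induction with
      | mem w hw => rcases hw with rfl | rfl <;> simp
      | one => simp
      | mul p q _ _ hp hq =>
        rcases hp with rfl | rfl | rfl | rfl <;> rcases hq with rfl | rfl | rfl | rfl <;>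
          simp [htt, haa, e1, e2, e3, e4, e5, e6]
      | inv p _ hp =>
        rcases hp with rfl | rfl | rfl | rfl
        · simp
        · right; left; exact hti
        · right; right; left; exact inv_eq_of_mul_eq_one_left haa
        · right; right; right; exact inv_eq_of_mul_eq_one_left e5
    have hexp : ∀ w ∈ V, w * w = 1 := fun w hw => by
      rcases hmemV w hw with rfl | rfl | rfl | rfl
      exacts [one_mul 1, htt, haa, e5]
    have hVcyc : ¬ IsCyclic ↥V := by
      intro hc
      obtain ⟨g, hg⟩ := hc.exists_generator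
      have hle : Nat.card ↥V ≤ 2 := by
        rw [← orderOf_eq_card_of_forall_mem_zpowers hg]
        exact Nat.le_of_dvd two_pos (orderOf_dvd_of_pow_eq_one (Subtype.ext (by simpa [pow_two] using hexp g g.2)))
      have h3 : ({1, t, a} : Set G) ⊆ (V : Set G) := by
        rintro w (rfl | rfl | rfl)
        exacts [one_mem V, Subgroup.subset_closure (Or.inl rfl), Subgroup.subset_closure (Or.inr rfl)]
      have := Set.ncard_le_ncard h3 (Set.toFinite _)
      rw [Set.ncard_eq_three.mpr ⟨1, t, a, ht1.symm, (fun h => hrt1 h.symm), ?_, rfl⟩, ← Nat.card_coe_set_eq] at this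
      · have h4 : Nat.card ↥(V : Set G) = Nat.card ↥V := rfl
        omega
      · intro h
        exact hanc (Subgroup.mem_center_iff.mpr fun q => Subtype.ext (by
          show (q : G) * a = a * q
          rw [← h]
          exact Subgroup.mem_centralizer_iff.mp htA q q.2))
    have hcop : (Nat.card ↥V).Coprime (Nat.card ↥O) := by
      have hVp : IsPGroup 2 ↥V := fun v => ⟨1, Subtype.ext (by simpa [pow_two] using hexp v v.2)⟩
      obtain ⟨k, hk⟩ := hVp.exists_card_eq
      rw [hk]
      exact (Nat.coprime_two_left.mpr hOodd).pow_left k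
    have hOC : O ≤ Subgroup.centralizer ({a} : Set G) := by
      rw [← Cfsg.Agent.Lib.Coprime.iSup_centralizer_eq hVcyc (le_top.trans (Subgroup.normalizer_eq_top O).ge) hcop]
      refine iSup₂_le fun v hv => ?_
      intro x hx
      have hxv : x * v = v * x := Subgroup.mem_centralizer_singleton_iff.mp hx.2
      rw [Subgroup.mem_centralizer_singleton_iff]
      rcases hmemV v hv.1 with h | h | h | h <;> rw [h] at hxv
      · exact absurd h hv.2
      · exact (hC1 x hx.1 hxv a haA).symm
      · exact hxv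
      · rw [← hau] at hxv
        exact (hC1 x hx.1 (hsub' x hx.1 hxv) a haA).symm
    have hCn : (Subgroup.centralizer (O : Set G)).Normal := inferInstance
    by_contra hne
    exact hanc (inf_central hq hCn hne (Subgroup.mem_subgroupOf.mpr (Subgroup.mem_centralizer_iff.mpr fun x hx =>
      Subgroup.mem_centralizer_singleton_iff.mp (hOC hx))))
  -- the 2-core
  set Q := Cfsg.pCore 2 G with hQdef
  have hQp : IsPGroup 2 ↥Q := Cfsg.Agent.Lib.Cores.pCore_isPGroup 2 G
  have hQn : Q.Normal := inferInstance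
  have hAQ : A ≤ Subgroup.centralizer (Q : Set G) := by
    have hnotle : ¬ A ≤ Q := fun h => by
      apply Cfsg.Agent.Lib.Components.IsQuasisimple.not_isSolvable hq
      have : Group.IsNilpotent ↥A := (hQp.to_le h).isNilpotent
      infer_instance
    have hCn : (Subgroup.centralizer (Q : Set G)).Normal := inferInstance
    by_contra hne
    have hcentral := inf_central hq hCn hne
    apply Cfsg.Agent.Lib.Components.IsQuasisimple.quotient_not_isMulCommutative hq
    have h2 : IsPGroup 2 (↥A ⧸ Subgroup.center ↥A) := by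
      intro g
      obtain ⟨g, rfl⟩ := QuotientGroup.mk'_surjective _ g
      obtain ⟨k, m, hm, hkm⟩ := Nat.exists_eq_two_pow_mul_odd (orderOf_pos g).ne'
      refine ⟨k, ?_⟩
      rw [← map_pow, QuotientGroup.mk'_apply, QuotientGroup.eq_one_iff]
      apply hcentral
      rw [Subgroup.mem_subgroupOf]
      set y := ((g ^ 2 ^ k : ↥A) : G) with hy
      have hyo : orderOf y = m := by
        rw [hy, Subgroup.orderOf_coe, orderOf_pow, hkm, Nat.gcd_mul_right_left, Nat.mul_div_cancel_left _ (Nat.two_pow_pos k)]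
      have hPQ : Subgroup.zpowers y ≤ Subgroup.centralizer (Q : Set G) := by
        refine Cfsg.Agent.Lib.Coprime.le_centralizer_of_PxQ (p := 2) (P := Subgroup.zpowers t)
          (IsPGroup.of_card (n := 1) (by rw [Nat.card_zpowers, ht, pow_one]))
          (by rw [Nat.card_zpowers, hyo]; exact Nat.coprime_two_right.mpr hm) hQp ?_ ?_ ?_ ?_
        · refine Subgroup.zpowers_le.mpr (Subgroup.mem_centralizer_iff.mpr ?_)
          intro w hw
          exact Subgroup.mem_centralizer_iff.mp htA w (Subgroup.zpowers_le.mpr (g ^ 2 ^ k).2 hw)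
        · exact le_top.trans (Subgroup.normalizer_eq_top Q).ge
        · exact le_top.trans (Subgroup.normalizer_eq_top Q).ge
        · rintro x ⟨hx, hxt⟩
          refine Subgroup.mem_centralizer_iff.mpr fun w hw => ?_
          exact Subgroup.mem_centralizer_iff.mp
            (centralizes_of_inf_central hq hQn (inf_central hq hQn hnotle) hx
              (hloc t ht htA x (Subgroup.mem_centralizer_iff.mp hxt t (Subgroup.mem_zpowers t)).symm))
            w (Subgroup.zpowers_le.mpr (g ^ 2 ^ k).2 hw)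
      exact hPQ (Subgroup.mem_zpowers y)
    have : Group.IsNilpotent (↥A ⧸ Subgroup.center ↥A) := h2.isNilpotent
    have : IsSimpleGroup (↥A ⧸ Subgroup.center ↥A) := hq.2
    exact ⟨⟨fun a b => IsSimpleGroup.comm_iff_isSolvable.mpr inferInstance a b⟩⟩
  -- the Fitting subgroup
  have hAF : A ≤ Subgroup.centralizer (Cfsg.fittingSubgroup G : Set G) := by
    rw [Subgroup.le_centralizer_iff, Cfsg.Agent.Lib.Cores.fittingSubgroup_eq_iSup]
    refine iSup_le fun p => ?_
    have : Fact (p : ℕ).Prime := ⟨p.2⟩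
    by_cases hp2 : (p : ℕ) = 2
    · rw [hp2]
      exact Subgroup.le_centralizer_iff.mp hAQ
    · obtain ⟨k, hk⟩ := (Cfsg.Agent.Lib.Cores.pCore_isPGroup (p : ℕ) G).exists_card_eq
      refine le_trans ?_ (Subgroup.le_centralizer_iff.mp hAO)
      exact Cfsg.Agent.Lib.Cores.le_oddCore inferInstance (hk ▸ (p.2.odd_of_ne_two hp2).pow)
  -- `A` lies in the layer
  set E := Cfsg.layer G with hEdef
  have hEn : E.Normal := inferInstance
  have hAE : A ≤ E := by
    by_contra hne
    have hcentral := inf_central hq hEn hne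
    have hCE : ∀ x ∈ E, ∀ w : G, orderOf w = 2 → w ∈ K → x * w = w * x → x ∈ K := fun x hx w hw hwK hxw =>
      centralizes_of_inf_central hq hEn hcentral hx (hloc w hw hwK x hxw)
    suffices hAEc : A ≤ Subgroup.centralizer (E : Set G) by
      have hAC : A ≤ Subgroup.centralizer (Cfsg.generalizedFittingSubgroup G : Set G) := by
        rw [Subgroup.le_centralizer_iff]
        exact sup_le (Subgroup.le_centralizer_iff.mp hAEc) (Subgroup.le_centralizer_iff.mp hAF)
      have hle : A ≤ Cfsg.fittingSubgroup G :=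
        hAC.trans Cfsg.Agent.Lib.Components.centralizer_genFitting_le_fittingSubgroup
      apply Cfsg.Agent.Lib.Components.IsQuasisimple.not_isSolvable hq
      have : Group.IsNilpotent ↥A :=
        Cfsg.Agent.Lib.Components.isNilpotent_of_le hle (Cfsg.Agent.Lib.Cores.fittingSubgroup_isNilpotent G)
      infer_instance
    by_cases hEodd : Odd (Nat.card ↥E)
    · exact hAO.trans (Subgroup.centralizer_le (Cfsg.Agent.Lib.Cores.le_oddCore hEn hEodd))
    exfalso
    apply hEodd
    set K0 := K ⊓ E with hK0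
    -- an involution of `K ⊓ E`
    obtain ⟨P, hP⟩ := (IsPGroup.of_card (n := 1) (by rw [Nat.card_zpowers, ht, pow_one]) :
      IsPGroup 2 ↥(Subgroup.zpowers t)).exists_le_sylow
    have hEP : E ⊓ (P : Subgroup G) ≠ ⊥ := by
      intro hbot
      apply hEodd
      rw [← Nat.not_even_iff_odd, even_iff_two_dvd]
      intro h2
      obtain ⟨v, hv⟩ := exists_prime_orderOf_dvd_card' (G := ↥E) 2 h2
      obtain ⟨Q', hQ'⟩ := (IsPGroup.of_card (n := 1) (by rw [Nat.card_zpowers, Subgroup.orderOf_coe, hv, pow_one]) :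
        IsPGroup 2 ↥(Subgroup.zpowers (v : G))).exists_le_sylow
      obtain ⟨g, hg⟩ := MulAction.exists_smul_eq G Q' P
      have h1 : g * (v : G) * g⁻¹ ∈ E ⊓ (P : Subgroup G) := by
        refine ⟨hEn.conj_mem _ v.2 g, ?_⟩
        rw [← hg]
        exact ⟨(v : G), hQ' (Subgroup.mem_zpowers _), rfl⟩
      rw [hbot, Subgroup.mem_bot, conj_eq_one_iff] at h1
      rw [show v = 1 from Subtype.ext h1, orderOf_one] at hv
      omega
    obtain ⟨v, hv, hvo, hvt⟩ := Cfsg.Agent.Lib.InvChar.exists_fixed_involution (P.2.to_le inf_le_right) hEP ht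
      (Subgroup.inf_normalizer_le_normalizer_inf ⟨(Subgroup.normalizer_eq_top E).ge trivial,
        Subgroup.le_normalizer (hP (Subgroup.mem_zpowers t))⟩)
    have hvK : v ∈ K := hCE v hv.1 t ht htA hvt
    -- a Sylow subgroup of `K ⊓ E`
    obtain ⟨T0⟩ : Nonempty (Sylow 2 ↥K0) := inferInstance
    set T0' := (T0 : Subgroup ↥K0).map K0.subtype with hT0'
    have hT0p : IsPGroup 2 ↥T0' := T0.2.map _
    obtain ⟨T, hT⟩ : ∃ T : Sylow 2 ↥E, T0'.subgroupOf E ≤ (T : Subgroup ↥E) :=
      (hT0p.comap_of_injective _ E.subtype_injective).exists_le_sylow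
    have hT0E : T0' ≤ E := (Subgroup.map_subtype_le _).trans inf_le_right
    have hT0inv : ∃ w ∈ T0', orderOf w = 2 := by
      have h2 : 2 ∣ Nat.card ↥(T0 : Subgroup ↥K0) := by
        refine T0.dvd_card_of_dvd_card ?_
        exact hvo ▸ Subgroup.orderOf_dvd_natCard _ (show v ∈ K0 from ⟨hvK, hv.1⟩)
      obtain ⟨w, hw⟩ := exists_prime_orderOf_dvd_card' (G := ↥(T0 : Subgroup ↥K0)) 2 h2
      exact ⟨_, ⟨(w : ↥K0), w.2, rfl⟩, by rw [Subgroup.coe_subtype, Subgroup.orderOf_coe, Subgroup.orderOf_coe, hw]⟩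
    obtain ⟨w0, hw0, hw0o⟩ := hT0inv
    have hTeq : (T : Subgroup ↥E) = T0'.subgroupOf E := by
      by_contra hne'
      have hlt : T0'.subgroupOf E < (T : Subgroup ↥E) := lt_of_le_of_ne hT (Ne.symm hne')
      obtain ⟨x, hxN, hxT⟩ := SetLike.exists_of_lt (Cfsg.Agent.Lib.Transfer.lt_inf_normalizer T.2 hlt)
      apply hxT
      -- `x` normalises `T0'`, hence lies in `K`
      have hxK : (x : G) ∈ K := by
        refine centralizes_of_inf_central hq hEn hcentral x.2 ?_
        refine hTI _ w0 hw0o (Subgroup.map_subtype_le _ hw0).1 ?_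
        have h1 := (Subgroup.mem_normalizer_iff''.mp hxN.2 ⟨w0, hT0E hw0⟩).mp hw0
        exact (Subgroup.map_subtype_le _ (show ((x : G))⁻¹ * w0 * (x : G) ∈ T0' from h1)).1
      have hsubK : ((T : Subgroup ↥E).map E.subtype) ⊓ K0 = T0' := by
        have hpm : IsPGroup 2 ↥((((T : Subgroup ↥E).map E.subtype) ⊓ K0).subgroupOf K0) :=
          ((T.2.map _).to_le inf_le_left).of_equiv (Subgroup.subgroupOfEquivOfLe inf_le_right).symm
        have := T0.3 hpm (fun z hz => ⟨⟨⟨(z : G), hT0E ⟨z, hz, rfl⟩⟩, hT ⟨z, hz, rfl⟩, rfl⟩, z.2⟩)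
        rw [hT0', ← this, Subgroup.map_subgroupOf_eq_of_le inf_le_right]
      show (x : G) ∈ T0'
      rw [← hsubK]
      exact ⟨⟨x, hxN.1, rfl⟩, hxK, x.2⟩
    -- `T` is cyclic
    have hTc : IsCyclic ↥(T : Subgroup ↥E) := by
      rw [hTeq]
      have hle : T0' ≤ K := (Subgroup.map_subtype_le _).trans inf_le_left
      obtain ⟨P1, hP1⟩ := (hT0p.of_equiv (Subgroup.subgroupOfEquivOfLe hle).symm).exists_le_sylow
      have := hcyc P1
      have h1 : IsCyclic ↥(T0'.subgroupOf K) := Subgroup.isCyclic_of_le hP1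
      have h2 : IsCyclic ↥T0' := isCyclic_of_surjective (Subgroup.subgroupOfEquivOfLe hle).toMonoidHom (MulEquiv.surjective _)
      exact isCyclic_of_surjective (Subgroup.subgroupOfEquivOfLe hT0E).symm.toMonoidHom (MulEquiv.surjective _)
    by_contra hEev
    have hmin : (Nat.card ↥E).minFac = 2 := Nat.minFac_eq_two_iff _ |>.mpr (even_iff_two_dvd.mp (Nat.not_odd_iff_even.mp hEev))
    have hnc : Cfsg.HasNormalPComplement 2 ↥E :=
      Cfsg.Agent.Lib.Transfer.hasNormalPComplement_of_normalizer_le_centralizer T (hTc.normalizer_le_centralizer hmin)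
    have h2E : IsPGroup 2 (↥E ⧸ Cfsg.pPrimeCore 2 ↥E) := Cfsg.Agent.Lib.Cores.hasNormalPComplement_iff_pPrimeCore.mp hnc
    have hperf : Group.IsPerfect ↥E := Cfsg.Agent.Lib.Components.layer_isPerfect G
    have : Group.IsNilpotent (↥E ⧸ Cfsg.pPrimeCore 2 ↥E) := h2E.isNilpotent
    have : Group.IsSolvable (↥E ⧸ Cfsg.pPrimeCore 2 ↥E) := inferInstance
    have : Group.IsPerfect (↥E ⧸ Cfsg.pPrimeCore 2 ↥E) := inferInstance
    have hsub := Cfsg.Agent.Lib.Components.subsingleton_of_perfect_solvable (X := ↥E ⧸ Cfsg.pPrimeCore 2 ↥E) inferInstance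
    apply hEev
    rw [(Cfsg.pPrimeCore 2 ↥E).card_eq_card_quotient_mul_card_subgroup, Nat.card_of_subsingleton (1 : ↥E ⧸ Cfsg.pPrimeCore 2 ↥E), one_mul]
    exact Cfsg.Agent.Lib.Cores.odd_card_oddCore ↥E
  -- the normal closure
  set X := Subgroup.normalClosure (A : Set G) with hXdef
  have hXn : X.Normal := Subgroup.normalClosure_normal
  have hXE : X ≤ E := Subgroup.normalClosure_le_normal hAE
  have hXperf : ⁅X, X⁆ = X := by
    refine le_antisymm (Subgroup.commutator_le_left X X) (Subgroup.normalClosure_le_normal ?_)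
    have h1 : ⁅A, A⁆ = A := by
      have := hq.1.commutator_eq_top
      have h2 := Subgroup.map_commutator (⊤ : Subgroup ↥A) ⊤ A.subtype
      rw [← commutator_def, this, ← MonoidHom.range_eq_map, Subgroup.range_subtype] at h2
      exact h2.symm
    intro x hx
    have hx' : x ∈ ⁅A, A⁆ := h1.symm ▸ hx
    exact Subgroup.commutator_mono Subgroup.le_normalClosure Subgroup.le_normalClosure hx'
  refine ⟨?_, ?_⟩
  · have hXsn : X.IsSubnormal := hXn.isSubnormal
    apply Subgroup.map_injective X.subtype_injective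
    rw [Cfsg.Agent.Lib.Components.map_layer_subtype hXsn, ← MonoidHom.range_eq_map, Subgroup.range_subtype]
    exact (Cfsg.Agent.Lib.Components.eq_sSup_of_perfect_subnormal_le_layer hXsn hXperf hXE).symm
  · obtain ⟨g, hg⟩ : ∃ g : G, g ∉ Subgroup.normalizer (A : Set G) := by
      by_contra hall
      simp only [not_exists, not_not] at hall
      apply hc1
      have hn : A.Normal := Subgroup.normalizer_eq_top_iff.mp (eq_top_iff.mpr fun g _ => hall g)
      rw [Subgroup.commutator_eq_bot_iff_le_centralizer]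
      intro x hx
      have hxA : x ∈ A := (Subgroup.normalClosure_le_normal (le_refl (A : Set G))) (hRX hx)
      rw [Subgroup.mem_centralizer_iff]
      intro w hw
      exact (Subgroup.mem_centralizer_iff.mp (Subgroup.zpowers_le.mpr htA hw) x hxA).symm
    rw [← Nat.not_even_iff_odd, even_iff_two_dvd]
    intro h2
    obtain ⟨z, hz⟩ := exists_prime_orderOf_dvd_card' (G := ↥(Subgroup.center ↥X)) 2 h2
    have hzc : ∀ x ∈ X, x * ((z : ↥X) : G) = ((z : ↥X) : G) * x := fun x hx =>
      congrArg Subtype.val (Subgroup.mem_center_iff.mp z.2 ⟨x, hx⟩)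
    refine hg (hTI g _ (by rw [Subgroup.orderOf_coe, Subgroup.orderOf_coe, hz])
      (Subgroup.mem_centralizer_iff.mpr fun q hq => hzc q (Subgroup.le_normalClosure hq)) ?_)
    rw [Subgroup.mem_centralizer_iff]
    intro q hqA
    calc q * (g⁻¹ * ((z : ↥X) : G) * g) = g⁻¹ * ((g * q * g⁻¹) * ((z : ↥X) : G)) * g := by group
      _ = g⁻¹ * (((z : ↥X) : G) * (g * q * g⁻¹)) * g := by rw [hzc _ (hXn.conj_mem q (Subgroup.le_normalClosure hqA) g)]
      _ = g⁻¹ * ((z : ↥X) : G) * g * q := by group

end Cfsg.Agent.S3164
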