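import Mathlib
import Cfsg.Statements.S3165


set_option autoImplicit false
open Cfsg

namespace Cfsg.Agent.S3165

/-- Let a group X act on a group Y by automorphisms and let z be an element of Y all of whose Y-conjugates are fixed by X. Then every element of the form (x·y)y⁻¹, x ∈ X, y ∈ Y (these generate the commutator [X, Y]) commutes with z. -/
theorem result {X Y : Type*} [Group X] [Group Y] [MulDistribMulAction X Y] (z : Y)
    (hz : ∀ y : Y, ∀ x : X, x • (y * z * y⁻¹) = y * z * y⁻¹) :
    ∀ x : X, ∀ y : Y, Commute ((x • y) * y⁻¹) z := by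
  intro x y
  have key : ∀ w : Y, (x • w) * z * (x • w)⁻¹ = w * z * w⁻¹ := by
    intro w
    have h1 : x • z = z := by simpa using hz 1 x
    have h2 := hz w x
    rw [smul_mul', smul_mul', smul_inv', h1] at h2
    exact h2
  have h := key y⁻¹
  rw [smul_inv', inv_inv, inv_inv] at h
  have h2 : y * ((x • y)⁻¹ * z * (x • y)) * y⁻¹ = z := by rw [h]; group
  show x • y * y⁻¹ * z = z * (x • y * y⁻¹)
  nth_rw 1 [← h2]
  group

end Cfsg.Agent.S3165
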