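import Mathlib
import Cfsg.Statements.S3166


set_option autoImplicit false
set_option maxHeartbeats 4000000
open Cfsg

namespace Cfsg.Agent.S3166

/-- Let q = 2^n with n ≥ 1. If q⁴ − q³ + q² − q + 1 is a power p^m of a prime p, then m = 1: the value is never a prime power with exponent greater than 1. -/
theorem result (n p m : ℕ) (hn : 1 ≤ n) (hp : p.Prime) (h : (2 ^ n) ^ 4 - (2 ^ n) ^ 3 + (2 ^ n) ^ 2 - 2 ^ n + 1 = p ^ m) : m = 1 := by
  generalize hq : 2 ^ n = q at h
  have hq2 : 2 ≤ q := by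
    rw [← hq]; calc 2 = 2 ^ 1 := rfl
      _ ≤ 2 ^ n := Nat.pow_le_pow_right (by norm_num) hn
  have e1 : q ^ 3 ≤ q ^ 4 := Nat.pow_le_pow_right (by omega) (by norm_num)
  have e2 : q ≤ q ^ 4 - q ^ 3 + q ^ 2 := by
    have : q ≤ q ^ 2 := Nat.le_self_pow (by norm_num) q
    omega
  have hP : ((q : ℤ) ^ 4 - q ^ 3 + q ^ 2 - q + 1) = (p : ℤ) ^ m := by
    have := congrArg (Nat.cast : ℕ → ℤ) h
    push_cast [Nat.cast_sub e1, Nat.cast_sub e2] at this
    linarith
  have hq' : (2 : ℤ) ≤ q := by exact_mod_cast hq2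
  have hp2 : (2 : ℤ) ≤ p := by exact_mod_cast hp.two_le
  generalize hQq : (q : ℤ) = Q at hP hq'
  have hQn : Q = ((2 ^ n : ℕ) : ℤ) := by rw [← hQq, hq]
  by_contra hm
  rcases Nat.even_or_odd m with ⟨k, hk⟩ | ⟨k, hk⟩
  · subst hk
    generalize hr : (p : ℤ) ^ k = r at hP
    rw [pow_add, hr] at hP
    have hr0 : 0 ≤ r := by rw [← hr]; positivity
    have h1 : 2 * Q ^ 2 - Q < 2 * r := by
      by_contra hc
      push_neg at hc
      nlinarith [mul_le_mul hc hc (by linarith) (by nlinarith : (0:ℤ) ≤ 2 * Q ^ 2 - Q)]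
    have h2 : 2 * r < 2 * Q ^ 2 - Q + 1 := by
      by_contra hc
      push_neg at hc
      nlinarith [mul_le_mul hc hc (by nlinarith : (0:ℤ) ≤ 2 * Q ^ 2 - Q + 1) (by linarith)]
    omega
  · subst hk
    have hk1 : 1 ≤ k := by omega
    -- `Q` divides `p - 1`
    have hdvd : Q ∣ (p : ℤ) ^ (2 * k + 1) - 1 := ⟨Q ^ 3 - Q ^ 2 + Q - 1, by rw [← hP]; ring⟩
    have hgeo := geom_sum_mul (p : ℤ) (2 * k + 1)
    have hpodd : Odd p := by
      rcases hp.eq_two_or_odd' with h2 | h2
      · exfalso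
        subst h2
        obtain ⟨c, hc⟩ := hdvd
        have hQe : (2 : ℤ) ∣ Q ^ 4 - Q ^ 3 + Q ^ 2 - Q := by
          have : Even (Q ^ 4 - Q ^ 3 + Q ^ 2 - Q) := by
            rcases Int.even_or_odd Q with hE | hO
            · simp [Int.even_add, Int.even_sub, Int.even_pow, hE]
            · simp [Int.even_add, Int.even_sub, Int.even_pow, Int.not_even_iff_odd.mpr hO]
          exact this.two_dvd
        have h22 : (2 : ℤ) ∣ (2 : ℤ) ^ (2 * k + 1) := dvd_pow_self 2 (by omega)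
        push_cast at hP
        rw [← hP] at h22
        omega
      · exact h2
    have hsum : Odd (∑ i ∈ Finset.range (2 * k + 1), p ^ i) := by
      rw [Finset.odd_sum_iff_odd_card_odd]
      rw [Finset.filter_true_of_mem (fun i _ => hpodd.pow)]
      simp
    have hcop : IsCoprime Q (∑ i ∈ Finset.range (2 * k + 1), (p : ℤ) ^ i) := by
      have hc : Nat.Coprime (2 ^ n) (∑ i ∈ Finset.range (2 * k + 1), p ^ i) :=
        Nat.Coprime.pow_left n ((Nat.coprime_two_left).mpr hsum)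
      have := Int.isCoprime_iff_nat_coprime (a := ((2 ^ n : ℕ) : ℤ))
        (b := ((∑ i ∈ Finset.range (2 * k + 1), p ^ i : ℕ) : ℤ))
      simp only [Int.natAbs_natCast] at this
      have := this.mpr hc
      push_cast at this
      rw [hQn]; push_cast; exact this
    obtain ⟨c, hc⟩ : Q ∣ (p : ℤ) - 1 := by
      rw [← hgeo] at hdvd
      exact hcop.dvd_of_dvd_mul_left hdvd
    have hc1 : 1 ≤ c := by
      by_contra h0
      push_neg at h0
      nlinarith
    rcases Nat.lt_or_ge k 2 with hk2 | hk2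
    · have hk' : k = 1 := by omega
      subst hk'
      have hpe : (p : ℤ) = Q * c + 1 := by linarith
      rw [hpe] at hP
      have hkey : c ^ 3 * Q ^ 2 + 3 * c ^ 2 * Q + 3 * c = Q ^ 3 - Q ^ 2 + Q - 1 := by
        have : Q * (c ^ 3 * Q ^ 2 + 3 * c ^ 2 * Q + 3 * c) = Q * (Q ^ 3 - Q ^ 2 + Q - 1) := by
          ring_nf; ring_nf at hP; linarith
        exact mul_left_cancel₀ (by linarith) this
      have hd : Q ∣ 3 * c + 1 := ⟨Q ^ 2 - Q + 1 - c ^ 3 * Q - 3 * c ^ 2, by linarith⟩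
      have hle : Q ≤ 3 * c + 1 := Int.le_of_dvd (by linarith) hd
      have hlt : c ^ 3 < Q := by
        by_contra h'
        push_neg at h'
        nlinarith [mul_le_mul_of_nonneg_right h' (sq_nonneg Q)]
      have hc' : c = 1 := by
        by_contra h'
        have : 2 ≤ c := by omega
        nlinarith [mul_le_mul this this (by norm_num) (by linarith)]
      subst hc'
      have hQ : Q ≤ 4 := by linarith
      interval_cases Q <;> norm_num at hkey
    · clear hgeo hdvd hcop hsum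
      have : (Q + 1) ^ 5 ≤ (p : ℤ) ^ (2 * k + 1) :=
        calc (Q + 1) ^ 5 ≤ (p : ℤ) ^ 5 := by
              apply pow_le_pow_left₀ (by linarith)
              have : Q * 1 ≤ Q * c := mul_le_mul_of_nonneg_left hc1 (by linarith)
              linarith
          _ ≤ (p : ℤ) ^ (2 * k + 1) := pow_le_pow_right₀ (le_trans (by norm_num) hp2) (Nat.succ_le_succ (Nat.mul_le_mul_left 2 hk2))
      have h45 : (Q + 1) ^ 4 ≤ (Q + 1) ^ 5 := pow_le_pow_right₀ (by linarith) (by norm_num)
      rw [← hP] at this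
      have hQ3 : 0 ≤ Q ^ 3 := by positivity
      have hQ2 : 0 ≤ Q ^ 2 := sq_nonneg Q
      have e4 : (Q + 1) ^ 4 = Q ^ 4 + 4 * Q ^ 3 + 6 * Q ^ 2 + 4 * Q + 1 := by ring
      linarith

end Cfsg.Agent.S3166
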