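import Cfsg.Statements.S3171
import Cfsg.Agent.Lib.M24Geom.SylowModCentre

set_option autoImplicit false
open Cfsg

namespace Cfsg.Agent.S3171

open Cfsg.Agent.Lib.Compute Cfsg.Agent.Lib.GolayOrbit Cfsg.Agent.Lib.M24SylQuot

/-- The three properties, for a group taken modulo its centre. -/
def Good (G : Type) [Group G] : Prop :=
  (∀ M : Subgroup (G ⧸ Subgroup.center G), IsCoatom M → Nat.card ↥(Subgroup.center ↥M) ≤ 8) ∧
    (∃ A : Subgroup (G ⧸ Subgroup.center G), Cfsg.IsElementaryAbelian 2 A ∧ Nat.card ↥A = 64) ∧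
    ∀ A B : Subgroup (G ⧸ Subgroup.center G),
      IsMulCommutative ↥A → Nat.card ↥A = 64 → IsMulCommutative ↥B → Nat.card ↥B = 64 → A = B

theorem good_T : Good T :=
  ⟨fun _ hM => card_center_coatom hM, exists_elementary,
    fun _ _ h1 h2 h3 h4 => (eq_K h1 h2).trans (eq_K h3 h4).symm⟩

theorem good_congr {G H : Type} [Group G] [Group H] (e : G ≃* H) (h : Good G) : Good H := by
  have hz : (Subgroup.center G).map e.toMonoidHom = Subgroup.center H := by
    ext y
    obtain ⟨x, rfl⟩ := e.surjective y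
    rw [Subgroup.mem_map_equiv, e.symm_apply_apply, Subgroup.mem_center_iff, Subgroup.mem_center_iff]
    exact ⟨fun hx y => e.symm.injective (by simpa using hx (e.symm y)),
      fun hx y => e.injective (by simpa using hx (e y))⟩
  let q : G ⧸ Subgroup.center G ≃* H ⧸ Subgroup.center H :=
    QuotientGroup.congr _ _ e hz
  obtain ⟨hM, ⟨A, ⟨hA, hAsq⟩, hAc⟩, hU⟩ := h
  let ψ := q.mapSubgroup
  have hcard : ∀ K : Subgroup (G ⧸ Subgroup.center G), Nat.card ↥(ψ K) = Nat.card ↥K := fun K =>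
    (Nat.card_congr (q.subgroupMap K).toEquiv).symm
  have hcomm : ∀ K : Subgroup (G ⧸ Subgroup.center G), IsMulCommutative ↥(ψ K) ↔ IsMulCommutative ↥K :=
    fun K => ⟨fun hK => ⟨⟨fun a b => (q.subgroupMap K).injective (by
        rw [map_mul, map_mul]; exact hK.is_comm.comm _ _)⟩⟩,
      fun hK => ⟨⟨by
        rintro ⟨_, x, hx, rfl⟩ ⟨_, y, hy, rfl⟩
        have h := congrArg Subtype.val (hK.is_comm.comm (⟨x, hx⟩ : K) ⟨y, hy⟩)
        apply Subtype.ext
        show q x * q y = q y * q x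
        rw [← map_mul, ← map_mul]
        exact congrArg q h⟩⟩⟩
  refine ⟨fun M hMc => ?_, ⟨ψ A, ⟨(hcomm A).2 hA, ?_⟩, (hcard A).trans hAc⟩, fun B C h1 h2 h3 h4 => ?_⟩
  · obtain ⟨K, rfl⟩ := ψ.surjective M
    refine le_of_eq_of_le (Nat.card_congr (Subgroup.centerCongr (q.subgroupMap K)).toEquiv).symm ?_
    exact hM K ((ψ.isCoatom_iff K).1 hMc)
  · rintro _ ⟨a, ha, rfl⟩
    rw [← map_pow, hAsq a ha, map_one]
  · obtain ⟨B, rfl⟩ := ψ.surjective B
    obtain ⟨C, rfl⟩ := ψ.surjective C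
    rw [hU B C ((hcomm B).1 h1) ((hcard B).symm.trans h2) ((hcomm C).1 h3) ((hcard C).symm.trans h4)]

/-- Let P be a Sylow 2-subgroup of the Mathieu group of degree 24 and S the quotient of P by its centre. Then the centre of every maximal subgroup of S has order at most 8; S has an elementary abelian subgroup of order 64; and S has only one abelian subgroup of order 64. -/
theorem result (P : Sylow 2 ↥Cfsg.M24) :
    (∀ M : Subgroup (↥(P : Subgroup ↥Cfsg.M24) ⧸ Subgroup.center ↥(P : Subgroup ↥Cfsg.M24)), IsCoatom M →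
        Nat.card ↥(Subgroup.center ↥M) ≤ 8) ∧
      (∃ A : Subgroup (↥(P : Subgroup ↥Cfsg.M24) ⧸ Subgroup.center ↥(P : Subgroup ↥Cfsg.M24)),
        Cfsg.IsElementaryAbelian 2 A ∧ Nat.card ↥A = 64) ∧
      ∀ A B : Subgroup (↥(P : Subgroup ↥Cfsg.M24) ⧸ Subgroup.center ↥(P : Subgroup ↥Cfsg.M24)),
        IsMulCommutative ↥A → Nat.card ↥A = 64 → IsMulCommutative ↥B → Nat.card ↥B = 64 → A = B := by
  have : Fact (Nat.Prime 2) := ⟨Nat.prime_two⟩
  let S₁ : Subgroup ↥Cfsg.M24 := (gpGrp cert).subgroupOf Cfsg.M24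
  have e1 : T ≃* ↥S₁ :=
    ((grp 24 cert).equivMapOfInjective _ toGP.injective).trans
      (Subgroup.subgroupOfEquivOfLe S2882.sylGrp_le).symm
  have hc : Nat.card ↥S₁ = 1024 := by rw [← Nat.card_congr e1.toEquiv, card_T]
  let Q : Sylow 2 ↥Cfsg.M24 := Sylow.ofCard S₁ (by
    rw [hc, Cfsg.Agent.Lib.Compute.card_M24, show Nat.factorization 244823040 2 = 10 by decide +kernel]
    norm_num)
  exact good_congr (e1.trans (Q.equiv P)) good_T

end Cfsg.Agent.S3171
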