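import Cfsg.Statements.S3174
import Cfsg.Agent.Lib.RegularTop.Form
import Cfsg.Agent.S3157

set_option autoImplicit false
open Cfsg

namespace Cfsg.Agent.S3174

open Cfsg.Agent.Lib.RegularTop
open Cfsg.Agent.Lib.PGroups.UniFour
open scoped commutatorElement

variable {T : Type*} [Group T] [Finite T]

omit [Finite T] in
theorem conj_mem_Z {n : ℕ} {z : T} (hz : z ∈ (Z (n + 1) : Subgroup T)) (g : T) :
    z⁻¹ * (g * z * g⁻¹) ∈ (Z n : Subgroup T) := by
  have h := Subgroup.mem_upperCentralSeries_succ_iff.mp (inv_mem hz) g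
  rw [commutatorElement_def, inv_inv] at h
  simpa [mul_assoc] using h

/-- A subgroup containing a term and one more element of the next term contains the next term. -/
theorem step_le (hT : IsPGroup 2 T) (h16 : Nat.card (Z 4 : Subgroup T) = 16) (hbig : 16 < Nat.card T)
    {i : ℕ} (hi : i + 1 ≤ 4) {C : Subgroup T} (hC : (Z i : Subgroup T) ≤ C) {e : T}
    (he : e ∈ (Z (i + 1) : Subgroup T)) (hne : e ∉ (Z i : Subgroup T)) (heC : e ∈ C) :
    (Z (i + 1) : Subgroup T) ≤ C := by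
  have hle : (Z i : Subgroup T) ≤ C ⊓ Z (i + 1) :=
    le_inf hC (Subgroup.upperCentralSeries_mono (G := T) (Nat.le_succ i))
  have h1 : Nat.card (Z i : Subgroup T) < Nat.card (C ⊓ Z (i + 1) : Subgroup T) := by
    by_contra h
    exact hne ((Subgroup.eq_of_le_of_card_ge hle (not_lt.mp h)).ge ⟨heC, he⟩)
  obtain ⟨b, hb⟩ := exists_card_eq hT (C ⊓ Z (i + 1) : Subgroup T)
  rw [card_Z hT h16 hbig (by omega), hb] at h1
  have hib := (Nat.pow_lt_pow_iff_right (by norm_num : 1 < 2)).mp h1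
  have h2 : Nat.card (Z (i + 1) : Subgroup T) ≤ Nat.card (C ⊓ Z (i + 1) : Subgroup T) := by
    rw [card_Z hT h16 hbig hi, hb]
    exact Nat.pow_le_pow_right (by norm_num) hib
  exact (Subgroup.eq_of_le_of_card_ge inf_le_right h2).ge.trans inf_le_left

theorem exists_new (hT : IsPGroup 2 T) (h16 : Nat.card (Z 4 : Subgroup T) = 16) (hbig : 16 < Nat.card T)
    {i : ℕ} (hi : i + 1 ≤ 4) : ∃ e, e ∈ (Z (i + 1) : Subgroup T) ∧ e ∉ (Z i : Subgroup T) := by
  by_contra! h
  have h1 := Subgroup.card_le_of_le (H := (Z (i + 1) : Subgroup T)) (K := Z i) h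
  rw [card_Z hT h16 hbig hi, card_Z hT h16 hbig (by omega), pow_succ] at h1
  have : 0 < 2 ^ i := by positivity
  omega

theorem idx_two (hT : IsPGroup 2 T) (h16 : Nat.card (Z 4 : Subgroup T) = 16) (hbig : 16 < Nat.card T)
    {i : ℕ} (hi : i + 1 ≤ 4) : ((Z i : Subgroup T).subgroupOf (Z (i + 1))).index = 2 := by
  have h := ((Z i : Subgroup T).subgroupOf (Z (i + 1))).card_mul_index
  rw [Nat.card_congr (Subgroup.subgroupOfEquivOfLe
    (Subgroup.upperCentralSeries_mono (G := T) (Nat.le_succ i))).toEquiv,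
    card_Z hT h16 hbig (by omega), card_Z hT h16 hbig hi, pow_succ] at h
  exact Nat.eq_of_mul_eq_mul_left (by positivity) h

theorem split (hT : IsPGroup 2 T) (h16 : Nat.card (Z 4 : Subgroup T) = 16) (hbig : 16 < Nat.card T)
    {i : ℕ} (hi : i + 1 ≤ 4) {e z : T} (he : e ∈ (Z (i + 1) : Subgroup T)) (hne : e ∉ (Z i : Subgroup T))
    (hz : z ∈ (Z (i + 1) : Subgroup T)) : ∃ l : ZMod 2, ∃ z' ∈ (Z i : Subgroup T), z = pw e l * z' := by
  by_cases h : z ∈ (Z i : Subgroup T)
  · exact ⟨0, z, h, by rw [pw_zero, one_mul]⟩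
  refine ⟨1, e⁻¹ * z, ?_, by rw [pw_one, mul_inv_cancel_left]⟩
  have := Subgroup.mul_mem_iff_of_index_two (idx_two hT h16 hbig hi) (a := ⟨e⁻¹, inv_mem he⟩) (b := ⟨z, hz⟩)
  simp only [Subgroup.mem_subgroupOf, Subgroup.coe_mul, inv_mem_iff] at this
  exact this.mpr (iff_of_false hne h)

theorem mem_bot_Z {z : T} (hz : z ∈ (Z 0 : Subgroup T)) : z = 1 := by
  simpa [Z] using hz

theorem index_le (hT : IsPGroup 2 T) (h16 : Nat.card (Z 4 : Subgroup T) = 16) (hbig : 16 < Nat.card T)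
    (W : Subgroup T) (hW : W = Subgroup.centralizer ((Z 3 : Subgroup T) : Set T)) {e0 e1 e2 : T}
    (h0 : e0 ∈ (Z 1 : Subgroup T)) (n0 : e0 ∉ (Z 0 : Subgroup T)) (h1 : e1 ∈ (Z 2 : Subgroup T))
    (n1 : e1 ∉ (Z 1 : Subgroup T)) (h2 : e2 ∈ (Z 3 : Subgroup T)) (n2 : e2 ∉ (Z 2 : Subgroup T)) :
    W.index ≤ 8 ∧ ∀ g h : T, g * e1 * g⁻¹ = h * e1 * h⁻¹ → g * e2 * g⁻¹ = h * e2 * h⁻¹ → g⁻¹ * h ∈ W := by
  have hinj : ∀ g h : T, g * e1 * g⁻¹ = h * e1 * h⁻¹ → g * e2 * g⁻¹ = h * e2 * h⁻¹ → g⁻¹ * h ∈ W := by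
    intro g h k1 k2
    have key : ∀ e : T, g * e * g⁻¹ = h * e * h⁻¹ → e ∈ Subgroup.centralizer {g⁻¹ * h} := by
      intro e he
      rw [Subgroup.mem_centralizer_singleton_iff]
      calc e * (g⁻¹ * h) = g⁻¹ * (g * e * g⁻¹) * h := by group
        _ = _ := by rw [he]; group
    have hc0 : ∀ y : T, y * e0 * y⁻¹ = e0 := fun y => by
      have := mem_bot_Z (conj_mem_Z h0 y)
      rwa [inv_mul_eq_one, eq_comm] at this
    have hz0 : (Z 0 : Subgroup T) ≤ Subgroup.centralizer {g⁻¹ * h} := fun z hz => by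
      rw [mem_bot_Z hz]; exact one_mem _
    have hz1 := step_le hT h16 hbig (i := 0) (by norm_num) hz0 h0 n0 (key e0 (by rw [hc0, hc0]))
    have hz2 := step_le hT h16 hbig (i := 1) (by norm_num) hz1 h1 n1 (key e1 k1)
    have hz3 := step_le hT h16 hbig (i := 2) (by norm_num) hz2 h2 n2 (key e2 k2)
    rw [hW, Subgroup.mem_centralizer_iff]
    intro z hz
    exact Subgroup.mem_centralizer_singleton_iff.mp (hz3 hz)
  refine ⟨?_, hinj⟩
  let f : T ⧸ W → ↥(Z 1 : Subgroup T) × ↥(Z 2 : Subgroup T) := fun q =>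
    (⟨e1⁻¹ * (q.out * e1 * q.out⁻¹), conj_mem_Z h1 _⟩, ⟨e2⁻¹ * (q.out * e2 * q.out⁻¹), conj_mem_Z h2 _⟩)
  have hf : Function.Injective f := by
    intro q r h
    obtain ⟨ha, hb⟩ := Prod.ext_iff.mp h
    have := hinj _ _ (mul_left_cancel (congrArg Subtype.val ha)) (mul_left_cancel (congrArg Subtype.val hb))
    rw [← QuotientGroup.out_eq' q, ← QuotientGroup.out_eq' r]
    exact QuotientGroup.eq.mpr this
  have := Nat.card_le_card_of_injective f hf
  rw [Nat.card_prod, card_Z hT h16 hbig (by norm_num), card_Z hT h16 hbig (by norm_num)] at this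
  rw [Subgroup.index_eq_card]
  omega

/-- Let T be a finite 2-group of order at least 2^14 in which the fourth term of the upper central series has order 16. Let W be the centralizer in T of the third term Z₃(T), and suppose the Frattini subgroup of W has order at most 8 and lies in every subgroup of W of index at most 16. Then T has order exactly 2^14; the derived subgroup of W and the Frattini subgroup of W both equal Z₃(T), which is elementary abelian of order 8; the centre of W has order 8; W is normal in T with quotient dihedral of order 8; and W modulo its derived subgroup is elementary abelian of order 2^8. -/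
theorem result {T : Type*} [Group T] [Finite T]
    (hT : IsPGroup 2 T) (ha : 2 ^ 14 ≤ Nat.card T) (hb : Nat.card ↥(Subgroup.upperCentralSeries T 4) = 16)
    (W : Subgroup T) (hW : W = Subgroup.centralizer ((Subgroup.upperCentralSeries T 3 : Subgroup T) : Set T))
    (hc : Nat.card ↥(frattini ↥W) ≤ 8) (hd : ∀ U : Subgroup ↥W, U.index ≤ 16 → frattini ↥W ≤ U) :
    Nat.card T = 2 ^ 14 ∧
      (commutator ↥W).map W.subtype = Subgroup.upperCentralSeries T 3 ∧
      (frattini ↥W).map W.subtype = Subgroup.upperCentralSeries T 3 ∧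
      Nat.card ↥(Subgroup.center ↥W) = 8 ∧
      Nat.card ↥(Subgroup.upperCentralSeries T 3) = 8 ∧ (∀ z ∈ Subgroup.upperCentralSeries T 3, z ^ 2 = 1) ∧
      (∃ (_ : W.Normal), Nonempty (T ⧸ W ≃* DihedralGroup 4)) ∧
      Nat.card (↥W ⧸ commutator ↥W) = 2 ^ 8 ∧ (∀ x : ↥W ⧸ commutator ↥W, x ^ 2 = 1) := by
  classical
  haveI : Fact (Nat.Prime 2) := ⟨Nat.prime_two⟩
  have h16 : Nat.card (Z 4 : Subgroup T) = 16 := hb
  have hbig : 16 < Nat.card T := lt_of_lt_of_le (by norm_num) ha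
  have cZ : ∀ i, i ≤ 4 → Nat.card (Z i : Subgroup T) = 2 ^ i := fun i hi => card_Z hT h16 hbig hi
  obtain ⟨e0, h0, n0⟩ := exists_new hT h16 hbig (i := 0) (by norm_num)
  obtain ⟨e1, h1, n1⟩ := exists_new hT h16 hbig (i := 1) (by norm_num)
  obtain ⟨e2, h2, n2⟩ := exists_new hT h16 hbig (i := 2) (by norm_num)
  obtain ⟨hidx, hinj0⟩ := index_le hT h16 hbig W hW h0 n0 h1 n1 h2 n2
  haveI hWn : W.Normal := by rw [hW]; infer_instance
  have hWp : IsPGroup 2 W := hT.to_subgroup W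
  -- the Frattini subgroup
  set Φ : Subgroup T := (frattini ↥W).map W.subtype with hΦdef
  haveI : Φ.Normal := by rw [hΦdef]; infer_instance
  have hΦcard : Nat.card Φ = Nat.card (frattini ↥W) := Subgroup.card_map_of_injective W.subtype_injective
  have hmemΦ : ∀ w : ↥W, (w : T) ∈ Φ ↔ w ∈ frattini ↥W := fun w =>
    Subgroup.mem_map_iff_mem W.subtype_injective
  have hΦW : Φ ≤ W := Subgroup.map_subtype_le _
  obtain ⟨i, hi4, hci, hΦi⟩ := eq_Z_of_le hT h16 hbig Φ (by omega)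
  have hi3 : i ≤ 3 := by
    have : 2 ^ i ≤ 2 ^ 3 := by rw [← hci, hΦcard]; exact hc
    exact (Nat.pow_le_pow_iff_right (by norm_num)).mp this
  have hWT := W.card_mul_index
  have hnle : ¬ W ≤ Z i := by
    intro h
    have h1 := Subgroup.card_le_of_le h
    have h2 : 2 ^ i ≤ 2 ^ 3 := Nat.pow_le_pow_right (by norm_num) hi3
    rw [cZ i (by omega)] at h1
    have := Nat.mul_le_mul (h1.trans h2) hidx
    omega
  have hsucc : ∀ N : Subgroup T, N.Normal → (Z i : Subgroup T) ≤ N → ¬ N ≤ Z i → (Z (i + 1) : Subgroup T) ≤ N :=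
    fun N _ h1 h2 => Z_succ_le hT (by rw [cZ _ (by omega), cZ _ (by omega), pow_succ']) N h1 h2
  obtain ⟨x, hx, nx⟩ := exists_new hT h16 hbig (i := i) (by omega)
  have hxW : x ∈ W := hsucc W hWn (hΦi ▸ hΦW) hnle hx
  obtain ⟨H, hHc, hxH⟩ : ∃ H : Subgroup ↥W, IsCoatom H ∧ (⟨x, hxW⟩ : ↥W) ∉ H := by
    by_contra! h
    exact nx (hΦi ▸ (hmemΦ _).mpr (mem_frattini_iff.mpr h))
  obtain ⟨hH, -, -, -⟩ := coatom_facts hWp hHc
  have hΦH : ∀ w : ↥W, (w : T) ∈ Φ → w ∈ H := fun w hw => frattini_le_coatom hHc ((hmemΦ w).mp hw)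
  have hmin : ∀ N : Subgroup T, N.Normal → Φ ≤ N → ¬ N ≤ Φ → ((⟨x, hxW⟩ : ↥W) : T) ∈ N :=
    fun N hN h1 h2 => hsucc N hN (hΦi ▸ h1) (hΦi ▸ h2) hx
  obtain ⟨hWc, hran⟩ := card_le W H hT hH Φ hΦH hxH hmin hΦW
  have hker := coord_ker W H hT hH Φ hΦH hxH hmin hΦW
  have hr8 : 2 ^ W.index ≤ 2 ^ 8 := Nat.pow_le_pow_right (by norm_num) hidx
  have hΦ8 : Nat.card Φ ≤ 8 := by omega
  have hWle : Nat.card W ≤ 2048 := by
    rw [hWc]; exact (Nat.mul_le_mul hΦ8 (hran.trans hr8)).trans (by norm_num)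
  have hI : W.index = 8 := by
    by_contra hne
    have := Nat.mul_le_mul hWle (show W.index ≤ 7 by omega)
    omega
  have hWcard : Nat.card W = 2048 := by rw [hI] at hWT; omega
  have hTcard : Nat.card T = 2 ^ 14 := by rw [← hWT, hI, hWcard]; norm_num
  have hfc : Nat.card Φ = 8 ∧ Nat.card (coord W H hH).range = 256 := by
    have a1 := hran.trans hr8
    have a2 := Nat.mul_le_mul hΦ8 a1
    rw [← hWc, hWcard] at a2
    constructor
    · by_contra hne
      have := Nat.mul_le_mul (show Nat.card Φ ≤ 7 by omega) a1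
      rw [← hWc, hWcard] at this
      omega
    · by_contra hne
      have := Nat.mul_le_mul hΦ8 (show Nat.card (coord W H hH).range ≤ 255 by omega)
      rw [← hWc, hWcard] at this
      omega
  have hi : i = 3 := by
    have : 2 ^ i = 2 ^ 3 := by rw [← hci, hfc.1]; norm_num
    exact Nat.pow_right_injective le_rfl this
  subst hi
  have hs : Function.Surjective (coord W H hH) := by
    rw [← MonoidHom.range_eq_top]
    apply Subgroup.eq_top_of_card_eq
    rw [hfc.2, Nat.card_congr Multiplicative.toAdd, Nat.card_fun, Nat.card_zmod, ← Subgroup.index_eq_card, hI]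
    norm_num
  -- the third centre
  have hPW : (Z 3 : Subgroup T) ≤ W := hΦi ▸ hΦW
  have hcent : ∀ w ∈ W, ∀ p ∈ (Z 3 : Subgroup T), w * p = p * w := fun w hw p hp => by
    rw [hW] at hw
    exact (Subgroup.mem_centralizer_iff.mp hw p hp).symm
  have hcommP : ∀ a ∈ W, ∀ b ∈ W, ⁅a, b⁆ ∈ (Z 3 : Subgroup T) := fun a ha b hb =>
    hΦi ▸ (hmemΦ ⁅(⟨a, ha⟩ : ↥W), (⟨b, hb⟩ : ↥W)⁆).mpr (comm_mem_frattini hWp _ _)
  have hsqP : ∀ a ∈ W, a * a ∈ (Z 3 : Subgroup T) := fun a ha =>
    hΦi ▸ (hmemΦ ((⟨a, ha⟩ : ↥W) * ⟨a, ha⟩)).mpr (sq_mem_frattini hWp _)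
  have d : Data W (Z 3 : Subgroup T) (Z 2) :=
    { hPW := hPW
      cent := hcent
      hQP := Subgroup.upperCentralSeries_mono (G := T) (by norm_num)
      idx := idx_two hT h16 hbig (by norm_num)
      Qn := inferInstance
      triv := fun g z hz => conj_mem_Z hz g
      comm := hcommP
      sq := hsqP }
  have hbad : ∀ U : Subgroup ↥W, U.index ≤ 4 → (∀ w : ↥W, (w : T) ∈ (Z 3 : Subgroup T) → w ∈ U) →
      ¬ ∀ a ∈ U, ∀ b ∈ U, form (Z 2) (a : T) (b : T) = 0 := by
    intro U hU hPU hform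
    obtain ⟨S, hS, hnS⟩ := d.exists_avoiding U hPU hform
    exact hnS fun w hw => hd S (by omega) ((hmemΦ w).mp (hΦi ▸ hw))
  -- the derived subgroup
  set D : Subgroup T := (commutator ↥W).map W.subtype with hDdef
  haveI : D.Normal := by rw [hDdef]; infer_instance
  have hDΦ : D ≤ Φ := Subgroup.map_mono (by
    rw [commutator_def, Subgroup.commutator_le]; exact fun a _ b _ => comm_mem_frattini hWp a b)
  have hD : D = Z 3 := by
    obtain ⟨j, hj, hcj, hDj⟩ := eq_Z_of_le hT h16 hbig D ((Subgroup.card_le_of_le hDΦ).trans (by omega))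
    have hj3 : j ≤ 3 := by
      have : 2 ^ j ≤ 2 ^ 3 := by
        rw [← hcj]; exact (Subgroup.card_le_of_le hDΦ).trans (by omega)
      exact (Nat.pow_le_pow_iff_right (by norm_num)).mp this
    rcases eq_or_lt_of_le hj3 with rfl | hlt
    · exact hDj
    exfalso
    refine hbad ⊤ (by rw [Subgroup.index_top]; norm_num) (fun w _ => Subgroup.mem_top w) fun a _ b _ => ?_
    refine mu_of_mem (Subgroup.upperCentralSeries_mono (G := T) (show j ≤ 2 by omega) ?_)
    show ⁅(a : T), (b : T)⁆ ∈ (Z j : Subgroup T)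
    rw [← hDj]
    exact ⟨⁅a, b⁆, Subgroup.commutator_mem_commutator (Subgroup.mem_top a) (Subgroup.mem_top b), rfl⟩
  have hel : ∀ z ∈ (Z 3 : Subgroup T), z * z = 1 := by
    let E : Subgroup ↥W :=
      { carrier := {w | (w : T) ∈ (Z 3 : Subgroup T) ∧ (w : T) * w = 1}
        one_mem' := ⟨one_mem _, one_mul _⟩
        mul_mem' := by
          rintro a b ⟨ha, ha'⟩ ⟨hb, hb'⟩
          refine ⟨mul_mem ha hb, ?_⟩
          calc (a : T) * b * (a * b) = a * ((b : T) * a) * b := by group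
            _ = (a : T) * a * (b * b) := by rw [hcent b b.2 a ha]; group
            _ = 1 := by rw [ha', hb', one_mul]
        inv_mem' := by
          rintro a ⟨ha, ha'⟩
          refine ⟨inv_mem ha, ?_⟩
          show (a : T)⁻¹ * (a : T)⁻¹ = 1
          rw [← mul_inv_rev, ha', inv_one] }
    have hE : commutator ↥W ≤ E := by
      rw [commutator_def, Subgroup.commutator_le]
      intro a _ b _
      refine ⟨hcommP a a.2 b b.2, ?_⟩
      show ⁅(a : T), (b : T)⁆ * ⁅(a : T), (b : T)⁆ = 1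
      have e : ⁅(a : T) * a, (b : T)⁆ = (a : T) * ⁅(a : T), (b : T)⁆ * (a : T)⁻¹ * ⁅(a : T), (b : T)⁆ := by
        simp only [commutatorElement_def]; group
      rw [hcent a a.2 _ (hcommP a a.2 b b.2), mul_inv_cancel_right] at e
      rw [← e, commutatorElement_eq_one_iff_mul_comm]
      exact (hcent b b.2 _ (hsqP a a.2)).symm
    intro z hz
    rw [← hD] at hz
    obtain ⟨w, hw, rfl⟩ := hz
    exact (hE hw).2
  -- the basis
  have h13 : (Z 1 : Subgroup T) ≤ Z 3 := Subgroup.upperCentralSeries_mono (G := T) (by norm_num)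
  have h23 : (Z 2 : Subgroup T) ≤ Z 3 := Subgroup.upperCentralSeries_mono (G := T) (by norm_num)
  have h12 : (Z 1 : Subgroup T) ≤ Z 2 := Subgroup.upperCentralSeries_mono (G := T) (by norm_num)
  have hpw : ∀ (S : Subgroup T) (z : T), z ∈ S → ∀ i, pw z i ∈ S := fun S z hz i => by
    rcases zmod_two_cases i with rfl | rfl
    · rw [pw_zero]; exact one_mem _
    · rw [pw_one]; exact hz
  let B : Basis T :=
    { e0 := e0
      e1 := e1
      e2 := e2
      h0 := hel _ (h13 h0)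
      h1 := hel _ (h23 h1)
      h2 := hel _ h2
      h01 := hcent _ (hPW (h13 h0)) _ (h23 h1)
      h02 := hcent _ (hPW (h13 h0)) _ h2
      h12 := hcent _ (hPW (h23 h1)) _ h2
      cen := fun g => by
        have := mem_bot_Z (conj_mem_Z h0 g)
        rwa [inv_mul_eq_one, eq_comm] at this
      ne0 := fun h => n0 (h ▸ one_mem _)
      ne1 := fun ⟨i, h⟩ => n1 (h ▸ hpw _ _ h0 i)
      ne2 := fun ⟨i, j, h⟩ => n2 (h ▸ mul_mem (hpw _ _ h1 i) (hpw _ _ (h12 h0) j)) }
  have hdec2 : ∀ z ∈ (Z 2 : Subgroup T), ∃ j k : ZMod 2, z = pw e1 j * pw e0 k := by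
    intro z hz
    obtain ⟨j, z', hz', rfl⟩ := split hT h16 hbig (by norm_num) h1 n1 hz
    obtain ⟨k, z'', hz'', rfl⟩ := split hT h16 hbig (by norm_num) h0 n0 hz'
    exact ⟨j, k, by rw [mem_bot_Z hz'', mul_one]⟩
  have hPB : ∀ z ∈ (Z 3 : Subgroup T), ∃ l j k : ZMod 2, z = pw B.e2 l * (pw B.e1 j * pw B.e0 k) := by
    intro z hz
    obtain ⟨l, z', hz', rfl⟩ := split hT h16 hbig (by norm_num) h2 n2 hz
    obtain ⟨j, k, rfl⟩ := hdec2 z' hz'
    exact ⟨l, j, k, rfl⟩
  have hQ : ∀ i j, pw B.e1 i * pw B.e0 j ∈ (Z 2 : Subgroup T) := fun i j =>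
    mul_mem (hpw _ _ h1 i) (hpw _ _ (h12 h0) j)
  have hact : ∀ g : T, ∃ p, Act B g p := by
    intro g
    obtain ⟨i, z', hz', e⟩ := split hT h16 hbig (i := 0) (by norm_num) h0 n0 (conj_mem_Z h1 g)
    obtain ⟨j, k, e'⟩ := hdec2 _ (conj_mem_Z h2 g)
    rw [mem_bot_Z hz', mul_one] at e
    exact ⟨(i, j, k), eq_mul_of_inv_mul_eq e, eq_mul_of_inv_mul_eq e'⟩
  have hinj : ∀ g h p, Act B g p → Act B h p → g⁻¹ * h ∈ W := fun g h p hg hh =>
    hinj0 g h (hg.1.trans hh.1.symm) (hg.2.trans hh.2.symm)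
  have hmk : ∀ {g h p}, Act B g p → Act B h p → (g : T ⧸ W) = h := fun hg hh =>
    QuotientGroup.eq.mpr (hinj _ _ _ hg hh)
  have hTW : Nat.card (T ⧸ W) = 8 := by rw [← Subgroup.index_eq_card, hI]
  choose co hco using fun q : T ⧸ W => hact q.out
  have hcob : Function.Bijective co := by
    refine Function.Injective.bijective_of_nat_card_le (fun q r h => ?_) ?_
    · rw [← QuotientGroup.out_eq' q, ← QuotientGroup.out_eq' r]
      exact hmk (hco q) (h ▸ hco r)
    · simp [hTW, Nat.card_prod, Nat.card_zmod]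
  have hsurj : ∀ p, ∃ g : T, Act B g p := fun p => by
    obtain ⟨q, rfl⟩ := hcob.2 p
    exact ⟨_, hco q⟩
  have hone : Act B (1 : T) (0, 0, 0) := by constructor <;> simp
  -- the centre
  have hC : (Subgroup.center ↥W).map W.subtype = Z 3 := by
    haveI : ((Subgroup.center ↥W).map W.subtype).Normal := inferInstance
    have hle : (Z 3 : Subgroup T) ≤ (Subgroup.center ↥W).map W.subtype := fun z hz =>
      ⟨⟨z, hPW hz⟩, Subgroup.mem_center_iff.mpr fun w => Subtype.ext (hcent w w.2 z hz), rfl⟩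
    refine le_antisymm (by_contra fun hnle' => ?_) hle
    obtain ⟨x', hx', hxx⟩ := hsucc _ inferInstance hle hnle' hx
    obtain rfl : x' = ⟨x, hxW⟩ := Subtype.ext hxx
    have hx1 : Multiplicative.toAdd (coord W H hH ⟨x, hxW⟩) = fun _ => 1 := by
      funext q
      show (if _ then (0 : ZMod 2) else 1) = 1
      rw [if_neg]
      intro hmem
      apply hxH
      have hz : x⁻¹ * (q.out * x * q.out⁻¹) ∈ (Z 3 : Subgroup T) := conj_mem_Z hx _
      have h3 : (⟨x⁻¹ * (q.out * x * q.out⁻¹), hPW hz⟩ : ↥W) ∈ H := hΦH _ (by rw [hΦi]; exact hz)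
      have := mul_mem hmem (inv_mem h3)
      convert this using 1
      refine Subtype.ext ?_
      show x = q.out * x * q.out⁻¹ * (x⁻¹ * (q.out * x * q.out⁻¹))⁻¹
      group
    obtain ⟨U, hPU, hiso, hUi⟩ := d.exists_isotropic B hQ hPB hact hinj hsurj hH (by rw [hker, hΦi]) hs
      (x := ⟨x, hxW⟩) (fun w => congrArg Subtype.val (Subgroup.mem_center_iff.mp hx' w).symm) hx1
    exact hbad U hUi hPU hiso
  -- the quotient
  obtain ⟨a, haR⟩ := hsurj (1, 1, 0)
  obtain ⟨b, hbs⟩ := hsurj (1, 0, 0)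
  have hdih : Nonempty (T ⧸ W ≃* DihedralGroup 4) := by
    have e1' : (1 : ZMod 2) + 1 = 0 := CharTwo.add_self_eq_zero 1
    have R2 : Act B (a * a) (0, 0, 1) := by
      simpa [e1'] using Act.mul B haR haR
    have R4 : Act B (a * a * (a * a)) (0, 0, 0) := by
      simpa [e1'] using Act.mul B R2 R2
    have s2 : Act B (b * b) (0, 0, 0) := by
      simpa [e1'] using Act.mul B hbs hbs
    have sR : Act B (b * a) (0, 1, 1) := by
      simpa [e1'] using Act.mul B hbs haR
    have sR2 : Act B (b * a * (b * a)) (0, 0, 0) := by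
      simpa [e1'] using Act.mul B sR sR
    have k4 := (hmk R4 hone)
    have ks := (hmk s2 hone)
    have ksR := (hmk sR2 hone)
    simp only [QuotientGroup.mk_mul, QuotientGroup.mk_one] at k4 ks ksR
    refine (S3157.dihedral_or_quaternion hTW (a : T ⧸ W) (b : T ⧸ W) ?_ ?_ ?_).1 ks
    · rw [show (4 : ℕ) = 2 + 2 from rfl, pow_add, pow_two]; exact k4
    · intro h
      rw [pow_two, ← QuotientGroup.mk_mul, QuotientGroup.eq_one_iff] at h
      have : Act B (a * a) (0, 0, 0) := by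
        obtain ⟨u1, u2⟩ := hone
        have hc : ∀ z ∈ (Z 3 : Subgroup T), a * a * z * (a * a)⁻¹ = z := fun z hz => by
          rw [hcent _ h z hz, mul_inv_cancel_right]
        exact ⟨by rw [hc _ (h23 h1)]; simp [B], by rw [hc _ h2]; simp [B]⟩
      simpa using Act.unique B R2 this
    · rw [← mul_eq_one_iff_eq_inv, inv_eq_of_mul_eq_one_right ks]
      simpa [mul_assoc] using ksR
  -- the abelianisation
  have hcomm : commutator ↥W = frattini ↥W :=
    Subgroup.map_injective W.subtype_injective (hD.trans hΦi.symm)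
  refine ⟨hTcard, hD, hΦi, ?_, by rw [cZ 3 (by norm_num)]; norm_num, fun z hz => by rw [pow_two]; exact hel z hz,
    ⟨hWn, hdih⟩, ?_, ?_⟩
  · rw [← Subgroup.card_map_of_injective W.subtype_injective, hC, cZ 3 (by norm_num)]; norm_num
  · have h := Subgroup.card_eq_card_quotient_mul_card_subgroup (commutator ↥W)
    rw [hWcard, hcomm, ← hΦcard, hfc.1] at h
    rw [hcomm]
    omega
  · intro q
    obtain ⟨w, rfl⟩ := QuotientGroup.mk_surjective q
    rw [pow_two, ← QuotientGroup.mk_mul, QuotientGroup.eq_one_iff, hcomm]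
    exact sq_mem_frattini hWp w

end Cfsg.Agent.S3174
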