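import Cfsg.Statements.S3175
import Cfsg.Agent.Lib.Solvable.Nilpotent
import Mathlib

set_option autoImplicit false
open Cfsg
open scoped commutatorElement

namespace Cfsg.Agent.S3175

set_option linter.style.haveILetI false
set_option linter.unusedSectionVars false

theorem index_coatom {A : Type*} [Group A] [Finite A] (hA : IsPGroup 2 A) {M : Subgroup A}
    (hM : IsCoatom M) : M.index = 2 := by
  have : Fact (Nat.Prime 2) := ⟨Nat.prime_two⟩
  have hn : M.Normal := by
    have : Group.IsNilpotent A := hA.isNilpotent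
    exact Subgroup.NormalizerCondition.normal_of_coatom M Group.normalizerCondition_of_isNilpotent hM
  have hmap : ∀ H : Subgroup (A ⧸ M), H = ⊥ ∨ H = ⊤ := by
    intro H
    rcases hM.le_iff.mp ((QuotientGroup.ker_mk' M).ge.trans (MonoidHom.ker_le_comap _ H)) with h | h
    · right
      rw [← Subgroup.map_comap_eq_self_of_surjective (QuotientGroup.mk'_surjective M) H, h,
        Subgroup.map_top_of_surjective _ (QuotientGroup.mk'_surjective M)]
    · left
      rw [← Subgroup.map_comap_eq_self_of_surjective (QuotientGroup.mk'_surjective M) H, h,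
        QuotientGroup.map_mk'_self]
  have hne : Nontrivial (A ⧸ M) := (QuotientGroup.nontrivial_iff).mpr hM.1
  obtain ⟨w, hw⟩ := exists_prime_orderOf_dvd_card' (G := A ⧸ M) 2 (by
    obtain ⟨k, hk0, hk⟩ := (hA.to_quotient M).nontrivial_iff_card.mp hne
    rw [hk]; exact dvd_pow_self 2 hk0.ne')
  rw [Subgroup.index_eq_card, ← Subgroup.card_top (G := A ⧸ M),
    ← (hmap (Subgroup.zpowers w)).resolve_left (by
      rw [Subgroup.zpowers_eq_bot]; intro h; rw [h, orderOf_one] at hw; omega),
    Nat.card_zpowers, hw]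

theorem exists_coatom_not_mem {X : Type*} [Group X] {f : X} (hf : f ∉ frattini X) :
    ∃ M : Subgroup X, IsCoatom M ∧ f ∉ M := by
  by_contra h
  push_neg at h
  exact hf (by simpa [frattini, Order.radical, Subgroup.mem_iInf] using h)

section
variable {P : Type*} [Group P] [Finite P]

theorem card_lt_two_mul {A B : Subgroup P} (hAB : A < B) :
    2 * Nat.card A ≤ Nat.card B := by
  obtain ⟨c, hc⟩ := Subgroup.card_dvd_of_le hAB.le
  rcases c with _ | _ | c
  · have := Nat.card_pos (α := B); omega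
  · exact absurd (Subgroup.eq_of_le_of_card_ge hAB.le (by omega)) hAB.ne
  · rw [hc]; nlinarith [Nat.card_pos (α := A)]

theorem mem_succ_of_central {Φ : Subgroup P} [Φ.Normal] {k : ℕ}
    (hΦ : Φ ≤ Subgroup.upperCentralSeries P k) {y : P}
    (hy : QuotientGroup.mk' Φ y ∈ Subgroup.center (P ⧸ Φ)) :
    y ∈ Subgroup.upperCentralSeries P (k + 1) := by
  rw [Subgroup.mem_upperCentralSeries_succ_iff]
  intro t
  refine hΦ ((QuotientGroup.eq_one_iff _).mp ?_)
  rw [← QuotientGroup.mk'_apply, map_commutatorElement, commutatorElement_eq_one_iff_commute]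
  exact (Subgroup.mem_center_iff.mp hy _).symm

theorem ucs_step (hP : IsPGroup 2 P) {N : Subgroup P} [N.Normal] (k : ℕ)
    (hN : ¬ N ≤ Subgroup.upperCentralSeries P k) :
    2 * Nat.card ↥(N ⊓ Subgroup.upperCentralSeries P k) ≤
      Nat.card ↥(N ⊓ Subgroup.upperCentralSeries P (k + 1)) := by
  have : Fact (Nat.Prime 2) := ⟨Nat.prime_two⟩
  set Z := Subgroup.upperCentralSeries P k with hZ
  haveI : Group.IsNilpotent (P ⧸ Z) := (hP.to_quotient Z).isNilpotent
  haveI : (N.map (QuotientGroup.mk' Z)).Normal :=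
    Subgroup.Normal.map inferInstance _ (QuotientGroup.mk'_surjective Z)
  have hne : N.map (QuotientGroup.mk' Z) ≠ ⊥ := by
    rw [Ne, Subgroup.map_eq_bot_iff, QuotientGroup.ker_mk']
    exact hN
  obtain ⟨q, hq, hq1⟩ := (Subgroup.bot_or_exists_ne_one _).resolve_left
    (Cfsg.Agent.Lib.Solvable.inf_center_ne_bot hne)
  obtain ⟨⟨y, hyN, rfl⟩, hyc⟩ := hq
  apply card_lt_two_mul
  refine lt_of_le_not_ge (inf_le_inf_left _ (Subgroup.upperCentralSeries_mono P (Nat.le_succ k))) ?_
  intro h
  exact hq1 ((QuotientGroup.eq_one_iff y).mpr (h ⟨hyN, mem_succ_of_central le_rfl hyc⟩).2)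

theorem le_ucs (hP : IsPGroup 2 P) {N : Subgroup P} [N.Normal] (k : ℕ)
    (h : Nat.card N ≤ 2 ^ k) : N ≤ Subgroup.upperCentralSeries P k := by
  have key : ∀ j, N ≤ Subgroup.upperCentralSeries P j ∨
      2 ^ j ≤ Nat.card ↥(N ⊓ Subgroup.upperCentralSeries P j) := by
    intro j
    induction j with
    | zero => right; simpa using Nat.one_le_iff_ne_zero.mpr Nat.card_pos.ne'
    | succ j ih =>
      by_cases hN : N ≤ Subgroup.upperCentralSeries P j
      · exact Or.inl (hN.trans (Subgroup.upperCentralSeries_mono P (Nat.le_succ j)))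
      · right
        have h1 := ih.resolve_left hN
        have h2 := ucs_step hP j hN
        rw [pow_succ]; omega
  rcases key k with h1 | h1
  · exact h1
  · exact inf_eq_left.mp (Subgroup.eq_of_le_of_card_ge inf_le_left (h.trans h1))

/-- An element moved by a fixed element under an automorphism of odd order is fixed. -/
theorem fixed_of_fixed_quotient (hP : IsPGroup 2 P) (φ : MulAut P) {m : ℕ} (hm : Odd m)
    (hφ : φ ^ m = 1) (x : P) (ha : φ (x⁻¹ * φ x) = x⁻¹ * φ x) : φ x = x := by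
  set a := x⁻¹ * φ x with ha'
  have hx : ∀ j : ℕ, (φ ^ j) x = x * a ^ j := by
    intro j
    induction j with
    | zero => simp
    | succ j ih =>
      rw [pow_succ', MulAut.mul_apply, ih, map_mul, map_pow, ha, pow_succ']
      simp [ha', mul_assoc]
  have h1 := hx m
  rw [hφ, MulAut.one_apply] at h1
  have h2 : a ^ m = 1 := by simpa using h1.symm
  obtain ⟨k, hk⟩ := hP a
  have hcop : Nat.Coprime (2 ^ k) m := by
    refine (Nat.Coprime.pow_left k ?_)
    exact (Nat.coprime_two_left).mpr hm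
  have h4 : a ^ Nat.gcd (2 ^ k) m = 1 := (pow_gcd_eq_one).mpr ⟨hk, h2⟩
  rw [hcop.gcd_eq_one, pow_one] at h4
  have := inv_mul_eq_one.mp h4
  exact this.symm

variable (hP : IsPGroup 2 P) (hbig : 2 ^ 14 ≤ Nat.card P)
  (h16 : Nat.card ↥(Subgroup.upperCentralSeries P 4) = 16)

local notation "Z" => Subgroup.upperCentralSeries P

include hP hbig h16 in
theorem card_ucs (k : ℕ) (hk : k ≤ 4) : Nat.card ↥(Z k) = 2 ^ k := by
  have hne : ∀ j, j ≤ 4 → ¬ (⊤ : Subgroup P) ≤ Z j := by
    intro j hj h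
    have h1 := Subgroup.card_le_card_group (H := Z 4)
    have h2 : Nat.card P ≤ Nat.card ↥(Z 4) := by
      have := Subgroup.card_le_of_le (h.trans (Subgroup.upperCentralSeries_mono P hj))
      rwa [Subgroup.card_top] at this
    omega
  have hstep : ∀ j, j < 4 → 2 * Nat.card ↥(Z j) ≤ Nat.card ↥(Z (j + 1)) := by
    intro j hj
    have := ucs_step hP j (hne j hj.le)
    rwa [top_inf_eq, top_inf_eq] at this
  have h0 : Nat.card ↥(Z 0) = 1 := by simp
  have a := hstep 0 (by norm_num)
  have b := hstep 1 (by norm_num)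
  have c := hstep 2 (by norm_num)
  have d := hstep 3 (by norm_num)
  norm_num at a b c d
  interval_cases k <;> norm_num <;> omega

include hP hbig h16 in
theorem index_centralizer_le : (Subgroup.centralizer ((Z 3 : Subgroup P) : Set P)).index ≤ 8 := by
  have hc : ∀ k, k ≤ 4 → Nat.card ↥(Z k) = 2 ^ k := card_ucs hP hbig h16
  have hlt : ∀ k, k < 4 → ∃ z, z ∈ Z (k + 1) ∧ z ∉ Z k := by
    intro k hk
    by_contra h
    push_neg at h
    have h' := Subgroup.card_le_of_le (h : Z (k + 1) ≤ Z k)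
    rw [hc k hk.le, hc (k + 1) hk, pow_succ] at h'
    have := Nat.one_le_two_pow (n := k)
    omega
  obtain ⟨z2, hz2, hz2'⟩ := hlt 1 (by norm_num)
  obtain ⟨z3, hz3, hz3'⟩ := hlt 2 (by norm_num)
  set W := Subgroup.centralizer ((Z 3 : Subgroup P) : Set P) with hW
  let f : P ⧸ W → ↥(Z 1) × ↥(Z 2) := fun q =>
    (⟨⁅z2, q.out⁆, Subgroup.mem_upperCentralSeries_succ_iff.mp hz2 _⟩,
     ⟨⁅z3, q.out⁆, Subgroup.mem_upperCentralSeries_succ_iff.mp hz3 _⟩)
  have hf : Function.Injective f := by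
    intro q r h
    have e2 : ⁅z2, q.out⁆ = ⁅z2, r.out⁆ := congrArg Subtype.val (congrArg Prod.fst h)
    have e3 : ⁅z3, q.out⁆ = ⁅z3, r.out⁆ := congrArg Subtype.val (congrArg Prod.snd h)
    rw [← QuotientGroup.out_eq' q, ← QuotientGroup.out_eq' r, QuotientGroup.eq]
    set s := q.out
    set t := r.out
    have hcomm : ∀ z, ⁅z, s⁆ = ⁅z, t⁆ → z * (s⁻¹ * t) = (s⁻¹ * t) * z := by
      intro z he
      rw [commutatorElement_def, commutatorElement_def] at he
      have h1 : s * z⁻¹ * s⁻¹ = t * z⁻¹ * t⁻¹ := by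
        have h2 := congrArg (fun u => z⁻¹ * u) he
        simpa [mul_assoc] using h2
      have h3 : s * z * s⁻¹ = t * z * t⁻¹ := by
        have h4 := congrArg Inv.inv h1
        simpa [mul_assoc] using h4
      calc z * (s⁻¹ * t) = s⁻¹ * (s * z * s⁻¹) * t := by group
        _ = s⁻¹ * (t * z * t⁻¹) * t := by rw [h3]
        _ = (s⁻¹ * t) * z := by group
    set S := Subgroup.centralizer ({s⁻¹ * t} : Set P) with hS
    have hmem : ∀ z, z * (s⁻¹ * t) = (s⁻¹ * t) * z → z ∈ S := fun z he => by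
      rw [hS, Subgroup.mem_centralizer_singleton_iff]; exact he
    have h1 : Z 1 ≤ S := by
      intro z hz
      rw [Subgroup.upperCentralSeries_one] at hz
      exact hmem z (Subgroup.mem_center_iff.mp hz _).symm
    have h2 : Z 2 ≤ S := by
      have hlt' : Z 1 < S ⊓ Z 2 := lt_of_le_of_ne
        (le_inf h1 (Subgroup.upperCentralSeries_mono P (by norm_num)))
        (fun he => hz2' (he ▸ ⟨hmem z2 (hcomm z2 e2), hz2⟩))
      have := card_lt_two_mul hlt'
      rw [hc 1 (by norm_num)] at this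
      exact inf_eq_right.mp (Subgroup.eq_of_le_of_card_ge inf_le_right
        (by rw [hc 2 (by norm_num)]; exact this))
    have h3 : Z 3 ≤ S := by
      have hlt' : Z 2 < S ⊓ Z 3 := lt_of_le_of_ne
        (le_inf h2 (Subgroup.upperCentralSeries_mono P (by norm_num)))
        (fun he => hz3' (he ▸ ⟨hmem z3 (hcomm z3 e3), hz3⟩))
      have := card_lt_two_mul hlt'
      rw [hc 2 (by norm_num)] at this
      exact inf_eq_right.mp (Subgroup.eq_of_le_of_card_ge inf_le_right
        (by rw [hc 3 (by norm_num)]; exact this))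
    rw [hW, Subgroup.mem_centralizer_iff]
    intro z hz
    exact Subgroup.mem_centralizer_singleton_iff.mp (h3 hz)
  have := Nat.card_le_card_of_injective f hf
  rw [Nat.card_prod, hc 1 (by norm_num), hc 2 (by norm_num)] at this
  exact this

variable (W : Subgroup P)
  (hW : W = Subgroup.centralizer ((Subgroup.upperCentralSeries P 3 : Subgroup P) : Set P))
  (hc : Nat.card ↥(frattini ↥W) ≤ 8)

include hP hbig h16 hW hc in
/-- The Frattini subgroup of `W` is the third centre. -/
theorem frattini_eq : (frattini ↥W).map W.subtype = Z 3 := by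
  have hc' : ∀ k, k ≤ 4 → Nat.card ↥(Z k) = 2 ^ k := card_ucs hP hbig h16
  have hWn : W.Normal := hW ▸ inferInstance
  set Φ := (frattini ↥W).map W.subtype with hΦ
  have hΦc : Nat.card Φ = Nat.card ↥(frattini ↥W) :=
    Nat.card_congr ((frattini ↥W).equivMapOfInjective W.subtype W.subtype_injective).toEquiv.symm
  haveI hΦn : Φ.Normal := inferInstance
  obtain ⟨k, hk⟩ := IsPGroup.iff_card.mp (hP.to_subgroup Φ)
  have hk3 : k ≤ 3 := (Nat.pow_le_pow_iff_right (by norm_num : 1 < 2)).mp (by omega : (2:ℕ) ^ k ≤ 2 ^ 3)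
  have hΦZ : Φ = Z k := Subgroup.eq_of_le_of_card_ge (le_ucs hP k hk.le) (by rw [hc' k (by omega), hk])
  by_contra hne
  have hk2 : k ≤ 2 := by
    by_contra h
    exact hne (by rw [hΦZ]; congr 1; omega)
  haveI hnil : Group.IsNilpotent P := hP.isNilpotent
  haveI : Group.IsNilpotent (P ⧸ Φ) := (hP.to_quotient Φ).isNilpotent
  have hidx := index_centralizer_le hP hbig h16
  rw [← hW] at hidx
  have hWbig : 2 ^ 11 ≤ Nat.card W := by
    have h1 := W.card_mul_index
    have h2 : Nat.card W * W.index ≤ Nat.card W * 8 := Nat.mul_le_mul_left _ hidx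
    omega
  have hWΦ : ¬ W ≤ Φ := fun h => by
    have := Subgroup.card_le_of_le h; omega
  haveI : (W.map (QuotientGroup.mk' Φ)).Normal :=
    Subgroup.Normal.map hWn _ (QuotientGroup.mk'_surjective Φ)
  obtain ⟨q, hq, hq1⟩ := (Subgroup.bot_or_exists_ne_one _).resolve_left
    (Cfsg.Agent.Lib.Solvable.inf_center_ne_bot (N := W.map (QuotientGroup.mk' Φ))
      (by rwa [Ne, Subgroup.map_eq_bot_iff, QuotientGroup.ker_mk']))
  obtain ⟨⟨f, hfW, rfl⟩, hfc⟩ := hq
  have hfΦ : f ∉ Φ := fun h => hq1 ((QuotientGroup.eq_one_iff f).mpr h)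
  have hf1 : f ∈ Z (k + 1) := mem_succ_of_central hΦZ.le hfc
  obtain ⟨M, hM, hfM⟩ := exists_coatom_not_mem (f := (⟨f, hfW⟩ : W))
    (fun h => hfΦ ⟨⟨f, hfW⟩, h, rfl⟩)
  have hWp : IsPGroup 2 W := hP.to_subgroup W
  haveI : Group.IsNilpotent ↥W := by
    haveI : Fact (Nat.Prime 2) := ⟨Nat.prime_two⟩
    exact hWp.isNilpotent
  haveI hMn : M.Normal :=
    Subgroup.NormalizerCondition.normal_of_coatom _ Group.normalizerCondition_of_isNilpotent hM
  have hM2 : M.index = 2 := index_coatom hWp hM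
  set M' := M.map W.subtype with hM'
  have hΦM : Φ ≤ M' := Subgroup.map_mono (frattini_le_coatom hM)
  set N := M'.normalCore with hN
  have hNΦ : N = Φ := by
    refine le_antisymm ?_ (Subgroup.normal_le_normalCore.mpr hΦM)
    by_contra hle
    haveI : (N.map (QuotientGroup.mk' Φ)).Normal :=
      Subgroup.Normal.map inferInstance _ (QuotientGroup.mk'_surjective Φ)
    obtain ⟨q, hq, hq1⟩ := (Subgroup.bot_or_exists_ne_one _).resolve_left
      (Cfsg.Agent.Lib.Solvable.inf_center_ne_bot (N := N.map (QuotientGroup.mk' Φ))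
        (by rwa [Ne, Subgroup.map_eq_bot_iff, QuotientGroup.ker_mk']))
    obtain ⟨⟨y, hyN, rfl⟩, hyc⟩ := hq
    have hy1 : y ∈ Z (k + 1) := mem_succ_of_central hΦZ.le hyc
    have hlt : Φ < N ⊓ Z (k + 1) := lt_of_le_of_ne
      (le_inf (Subgroup.normal_le_normalCore.mpr hΦM) (hΦZ.le.trans (Subgroup.upperCentralSeries_mono P (Nat.le_succ k))))
      (fun he => hq1 ((QuotientGroup.eq_one_iff y).mpr (he ▸ ⟨hyN, hy1⟩)))
    have h2 := card_lt_two_mul hlt
    have heq : N ⊓ Z (k + 1) = Z (k + 1) := Subgroup.eq_of_le_of_card_ge inf_le_right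
      (by rw [hc' (k + 1) (by omega), pow_succ]; omega)
    obtain ⟨w, hwM, hw⟩ := Subgroup.normalCore_le M' (inf_eq_right.mp heq hf1)
    exact hfM ((Subtype.ext hw.symm : (⟨f, hfW⟩ : W) = w) ▸ hwM)
  haveI := hWn
  haveI : Fintype (P ⧸ W) := Fintype.ofFinite _
  set J : Subgroup ↥W := ⨅ r : P ⧸ W, M.map (MulAut.conjNormal r.out : MulAut W).toMonoidHom with hJ
  have hJi : J.index ≤ 2 ^ 8 := by
    refine (Subgroup.index_iInf_le _).trans ?_
    have : ∀ r : P ⧸ W, (M.map (MulAut.conjNormal r.out : MulAut W).toMonoidHom).index = 2 := fun r => by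
      exact (Subgroup.index_map_of_bijective (f := (MulAut.conjNormal r.out : MulAut W).toMonoidHom)
        (MulAut.conjNormal r.out : MulAut W).bijective M).trans hM2
    rw [Finset.prod_congr rfl (fun r _ => this r), Finset.prod_const, Finset.card_univ, ← Nat.card_eq_fintype_card]
    exact Nat.pow_le_pow_right (by norm_num) hidx
  have hJN : J.map W.subtype ≤ N := by
    rintro _ ⟨x, hx, rfl⟩
    show ∀ b : P, b * (x : P) * b⁻¹ ∈ M'
    intro b
    set r : P ⧸ W := QuotientGroup.mk b⁻¹ with hr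
    obtain ⟨w, hw⟩ := QuotientGroup.mk_out_eq_mul W b⁻¹
    obtain ⟨m, hm, hmx⟩ := Subgroup.mem_iInf.mp hx r
    refine ⟨w * m * w⁻¹, hMn.conj_mem m hm w, ?_⟩
    have hmx' : r.out * (m : P) * r.out⁻¹ = (x : P) := by
      rw [← hmx]; simp
    have hb : b = (w : P) * r.out⁻¹ := by rw [hr, hw]; group
    show (w : P) * m * (w : P)⁻¹ = b * (x : P) * b⁻¹
    rw [← hmx', hb]; group
  have h1 : Nat.card J ≤ Nat.card Φ := by
    rw [← hNΦ]
    refine le_trans ?_ (Subgroup.card_le_of_le hJN)
    exact (Nat.card_congr (J.equivMapOfInjective W.subtype W.subtype_injective).toEquiv).le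
  have h2 : Nat.card W ≤ 2 ^ 2 * 2 ^ 8 := by
    rw [← J.card_mul_index]
    exact Nat.mul_le_mul (h1.trans (hk.le.trans (Nat.pow_le_pow_right (by norm_num) hk2))) hJi
  omega

include hP hbig h16 hW hc in
/-- An automorphism of odd order is trivial. -/
theorem aut_eq_one (φ : MulAut P) {m : ℕ} (hm : Odd m) (hφ : φ ^ m = 1) : φ = 1 := by
  have hc' : ∀ k, k ≤ 4 → Nat.card ↥(Z k) = 2 ^ k := card_ucs hP hbig h16
  have hchar : ∀ (k : ℕ) (x : P), φ x ∈ Z k ↔ x ∈ Z k := by
    intro k x
    conv_rhs => rw [← Subgroup.Characteristic.fixed (H := Z k) inferInstance φ]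
    rfl
  have hfix : ∀ k, k ≤ 4 → ∀ x ∈ Z k, φ x = x := by
    intro k
    induction k with
    | zero => intro _ x hx; simp at hx; simp [hx]
    | succ k ih =>
      intro hk x hx
      by_cases hxk : x ∈ Z k
      · exact ih (by omega) x hxk
      refine fixed_of_fixed_quotient hP φ hm hφ x (ih (by omega) _ ?_)
      have h2 : ((Z k).subgroupOf (Z (k + 1))).index = 2 := by
        have h1 := ((Z k).subgroupOf (Z (k + 1))).card_mul_index
        rw [Nat.card_congr (Subgroup.subgroupOfEquivOfLe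
          (Subgroup.upperCentralSeries_mono P (Nat.le_succ k))).toEquiv, hc' k (by omega),
          hc' (k + 1) hk, pow_succ] at h1
        exact Nat.eq_of_mul_eq_mul_left (by positivity) h1
      have h3 := Subgroup.mul_mem_iff_of_index_two h2
        (a := (⟨x, hx⟩ : ↥(Z (k + 1)))⁻¹) (b := ⟨φ x, (hchar _ _).mpr hx⟩)
      simp only [Subgroup.mem_subgroupOf, Subgroup.coe_mul, Subgroup.coe_inv, inv_mem_iff, hchar] at h3
      exact h3.mpr trivial
  have hfe := frattini_eq hP hbig h16 W hW hc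
  haveI hWn : W.Normal := hW ▸ inferInstance
  have hxW : ∀ x : P, x⁻¹ * φ x ∈ W := by
    intro x
    rw [hW, Subgroup.mem_centralizer_iff]
    intro z hz
    have hn : x * z * x⁻¹ ∈ Z 3 := Subgroup.Normal.conj_mem inferInstance z hz x
    have h1 := hfix 3 (by norm_num) _ hn
    rw [map_mul, map_mul, map_inv, hfix 3 (by norm_num) z hz] at h1
    calc z * (x⁻¹ * φ x) = x⁻¹ * (x * z * x⁻¹) * φ x := by group
      _ = x⁻¹ * (φ x * z * (φ x)⁻¹) * φ x := by rw [h1]
      _ = x⁻¹ * φ x * z := by group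
  have hφW : ∀ u ∈ W, φ u ∈ W := fun u hu => by
    simpa using mul_mem hu (hxW u)
  set π := QuotientGroup.mk' (Z 3) with hπ
  have hcomm : ∀ u ∈ W, ∀ v ∈ W, π u * π v = π v * π u := by
    intro u hu v hv
    rw [← commute_iff_eq, ← commutatorElement_eq_one_iff_commute, ← map_commutatorElement,
      hπ, QuotientGroup.mk'_apply, QuotientGroup.eq_one_iff, ← hfe]
    refine ⟨⁅(⟨u, hu⟩ : W), ⟨v, hv⟩⁆, ?_, rfl⟩
    rw [frattini, Order.radical]
    simp only [SetLike.mem_coe, Subgroup.mem_iInf]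
    intro M hM
    haveI : Group.IsNilpotent ↥W := by
      haveI : Fact (Nat.Prime 2) := ⟨Nat.prime_two⟩
      exact (hP.to_subgroup W).isNilpotent
    haveI : M.Normal :=
      Subgroup.NormalizerCondition.normal_of_coatom _ Group.normalizerCondition_of_isNilpotent hM
    have h2 := index_coatom (hP.to_subgroup W) hM
    rw [commutatorElement_def]
    simp only [Subgroup.mul_mem_iff_of_index_two h2, inv_mem_iff]
    tauto
  let ψ : ↥W →* P ⧸ Z 3 :=
    { toFun := fun u => π ((u : P)⁻¹ * φ u)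
      map_one' := by simp
      map_mul' := fun u v => by
        have h := hcomm _ (inv_mem v.2) _ (hxW u)
        simp only [map_mul, map_inv, Subgroup.coe_mul, mul_inv_rev] at h ⊢
        calc (π (v : P))⁻¹ * (π (u : P))⁻¹ * (π (φ u) * π (φ v))
            = ((π (v : P))⁻¹ * ((π (u : P))⁻¹ * π (φ u))) * π (φ v) := by simp [mul_assoc]
          _ = _ := by rw [h]; simp [mul_assoc] }
  haveI : ψ.range.Normal := by
    refine ⟨fun q hq g => ?_⟩
    obtain ⟨u, rfl⟩ := hq
    obtain ⟨x, rfl⟩ := QuotientGroup.mk'_surjective (Z 3) g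
    refine ⟨⟨x * u * x⁻¹, hWn.conj_mem u u.2 x⟩, ?_⟩
    show π ((x * (u : P) * x⁻¹)⁻¹ * φ (x * u * x⁻¹)) = π x * π ((u : P)⁻¹ * φ u) * (π x)⁻¹
    set w := x⁻¹ * φ x
    have hφx : φ x = x * w := by simp [w]
    have hA := hcomm w (hxW x) (φ u) (hφW u u.2)
    simp only [map_mul, map_inv, mul_inv_rev, inv_inv, hφx]
    simp only [mul_assoc, inv_mul_cancel_left]
    rw [← mul_assoc (π w) (π (φ u)), hA]
    simp [mul_assoc]
  have hψ : ψ.range = ⊥ := by
    haveI : Fact (Nat.Prime 2) := ⟨Nat.prime_two⟩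
    haveI : Group.IsNilpotent (P ⧸ Z 3) := (hP.to_quotient _).isNilpotent
    by_contra hne
    obtain ⟨q, hq, hq1⟩ := (Subgroup.bot_or_exists_ne_one _).resolve_left
      (Cfsg.Agent.Lib.Solvable.inf_center_ne_bot hne)
    obtain ⟨⟨u, rfl⟩, hyc⟩ := hq
    have h4 : (u : P)⁻¹ * φ u ∈ Z 4 := mem_succ_of_central le_rfl hyc
    have := fixed_of_fixed_quotient hP φ hm hφ (u : P) (hfix 4 le_rfl _ h4)
    refine hq1 ?_
    show π ((u : P)⁻¹ * φ u) = 1
    simp [this]
  have hW1 : ∀ u ∈ W, φ u = u := by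
    intro u hu
    refine fixed_of_fixed_quotient hP φ hm hφ u (hfix 3 (by norm_num) _ ?_)
    rw [← QuotientGroup.eq_one_iff]
    have : ψ ⟨u, hu⟩ ∈ ψ.range := ⟨_, rfl⟩
    rw [hψ, Subgroup.mem_bot] at this
    exact this
  refine MulEquiv.ext fun x => ?_
  exact fixed_of_fixed_quotient hP φ hm hφ x (hW1 _ (hxW x))

include hP hbig h16 hW hc in
/-- An injective image of `W` whose maximal subgroups meet `W` in small index is `W`. -/
theorem range_eq (hd : ∀ U : Subgroup ↥W, U.index ≤ 16 → frattini ↥W ≤ U)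
    (ψ : ↥W →* P) (hψ : Function.Injective ψ) : ψ.range = W := by
  have hfe := frattini_eq hP hbig h16 W hW hc
  have hidx := index_centralizer_le hP hbig h16
  rw [← hW] at hidx
  have hcard : Nat.card ψ.range = Nat.card W :=
    (Nat.card_congr (MonoidHom.ofInjective hψ).toEquiv).symm
  have hri : ψ.range.index = W.index := by
    have a := ψ.range.card_mul_index
    rw [hcard, ← W.card_mul_index] at a
    exact Nat.eq_of_mul_eq_mul_left Nat.card_pos a
  have hle : Z 3 ≤ (frattini ↥W).map ψ := by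
    rw [← hfe]
    rintro _ ⟨z, hz, rfl⟩
    have key : ∀ M : Subgroup ↥W, IsCoatom M → (z : P) ∈ M.map ψ := by
      intro M hM
      have h2 := index_coatom (hP.to_subgroup W) hM
      have hK : ((M.map ψ).comap W.subtype).index ≤ 16 := by
        rw [Subgroup.index_comap, Subgroup.range_subtype]
        refine (Subgroup.relIndex_le_of_le_right le_top ?_).trans ?_
        · rw [Subgroup.relIndex_top_right]; exact Subgroup.index_ne_zero_of_finite
        · rw [Subgroup.relIndex_top_right, Subgroup.index_map_of_injective M hψ, h2, hri]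
          omega
      exact hd _ hK hz
    rcases eq_or_ne (⊤ : Subgroup ↥W) ⊥ with htb | htb
    · have : z = 1 := Subgroup.mem_bot.mp (htb ▸ Subgroup.mem_top z)
      exact ⟨1, one_mem _, by simp [this]⟩
    obtain ⟨M₀, hM₀, -⟩ := (eq_top_or_exists_le_coatom (⊥ : Subgroup ↥W)).resolve_left htb.symm
    obtain ⟨m₀, -, hm₀⟩ := key M₀ hM₀
    refine ⟨m₀, ?_, hm₀⟩
    rw [frattini, Order.radical]
    simp only [SetLike.mem_coe, Subgroup.mem_iInf]
    intro M hM
    obtain ⟨m, hm, hm'⟩ := key M hM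
    rwa [hψ (hm₀.trans hm'.symm)]
  have hrW : ψ.range ≤ W := by
    rintro _ ⟨w, rfl⟩
    refine (le_of_eq hW.symm) (Subgroup.mem_centralizer_iff.mpr fun z hz => ?_)
    obtain ⟨m, hm, rfl⟩ := hle hz
    have hm3 : (m : P) ∈ Z 3 := hfe ▸ ⟨m, hm, rfl⟩
    have hw : (w : P) ∈ Subgroup.centralizer ((Z 3 : Subgroup P) : Set P) := hW ▸ w.2
    have := Subgroup.mem_centralizer_iff.mp hw _ hm3
    rw [← map_mul, ← map_mul]
    exact congrArg ψ (Subtype.ext this)
  exact Subgroup.eq_of_le_of_card_ge hrW hcard.ge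

end

/-- Let G be a finite group whose Sylow 2-subgroup T has order at least 2^14 and whose upper central series has fourth term of order 16; let W be the centralizer in T of the third term, and suppose the Frattini subgroup of W has order at most 8 and lies in every subgroup of W of index at most 16. Then the normalizer of T in G has a normal 2-complement, and W is weakly closed in T with respect to G. -/
theorem result {G : Type*} [Group G] [Finite G]
    (T : Sylow 2 G) (ha : 2 ^ 14 ≤ Nat.card ↥(T : Subgroup G))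
    (hb : Nat.card ↥(Subgroup.upperCentralSeries ↥(T : Subgroup G) 4) = 16)
    (W : Subgroup ↥(T : Subgroup G))
    (hW : W = Subgroup.centralizer ((Subgroup.upperCentralSeries ↥(T : Subgroup G) 3 : Subgroup ↥(T : Subgroup G)) : Set ↥(T : Subgroup G)))
    (hc : Nat.card ↥(frattini ↥W) ≤ 8)
    (hd : ∀ U : Subgroup ↥W, U.index ≤ 16 → frattini ↥W ≤ U) :
    Cfsg.HasNormalPComplement 2 ↥(Subgroup.normalizer ((T : Subgroup G) : Set G)) ∧
      Cfsg.IsWeaklyClosed (W.map (T : Subgroup G).subtype) (T : Subgroup G) := by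
  have hP : IsPGroup 2 ↥(T : Subgroup G) := T.2
  constructor
  · set N := Subgroup.normalizer ((T : Subgroup G) : Set G) with hN
    have hTN : (T : Subgroup G) ≤ N := Subgroup.le_normalizer
    let T' : Sylow 2 ↥N := T.subtype hTN
    haveI hT'n : (T' : Subgroup ↥N).Normal := by
      rw [show (T' : Subgroup ↥N) = (T : Subgroup G).subgroupOf N from rfl]
      exact Subgroup.normal_in_normalizer
    obtain ⟨K, hK⟩ := Subgroup.exists_left_complement'_of_coprime
      (N := (T' : Subgroup ↥N)) T'.card_coprime_index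
    have hodd : ∀ k ∈ K, Odd (orderOf k) := by
      intro k hk
      refine Nat.not_even_iff_odd.mp fun he => ?_
      have h1 : 2 ∣ (T' : Subgroup ↥N).index :=
        he.two_dvd.trans ((K.orderOf_dvd_natCard hk).trans (by
          have a := hK.card_mul
          rw [← (T' : Subgroup ↥N).card_mul_index, mul_comm] at a
          exact (Nat.eq_of_mul_eq_mul_left Nat.card_pos a).dvd))
      haveI : Fact (Nat.Prime 2) := ⟨Nat.prime_two⟩
      exact T'.not_dvd_index h1
    have hcent : ∀ k ∈ K, ∀ t ∈ (T' : Subgroup ↥N), k * t * k⁻¹ = t := by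
      intro k hk t ht
      let c : ↥N →* MulAut ↥(T : Subgroup G) := Subgroup.normalizerMonoidHom (T : Subgroup G)
      have h1 := aut_eq_one hP ha hb W hW hc (c k) (hodd k hk)
        (by rw [← map_pow, pow_orderOf_eq_one, map_one])
      have h2 := congrArg (fun φ : MulAut ↥(T : Subgroup G) => ((φ ⟨(t : G), ht⟩ : ↥(T : Subgroup G)) : G)) h1
      exact Subtype.ext h2
    refine ⟨T', K, ⟨fun x hx g => ?_⟩, hK⟩
    obtain ⟨⟨⟨k, hk⟩, ⟨t, ht⟩⟩, rfl⟩ := (Subgroup.isComplement'_def.mp hK).surjective g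
    have h3 : t * x * t⁻¹ = x := by
      have h4 : x * t = t * x := mul_inv_eq_iff_eq_mul.mp (hcent x hx t ht)
      rw [← h4, mul_inv_cancel_right]
    show k * t * x * (k * t)⁻¹ ∈ K
    rw [show k * t * x * (k * t)⁻¹ = k * (t * x * t⁻¹) * k⁻¹ by group, h3]
    exact mul_mem (mul_mem hk hx) (inv_mem hk)
  · refine ⟨Subgroup.map_subtype_le W, fun g hg => ?_⟩
    let ψ : ↥W →* ↥(T : Subgroup G) :=
      (((MulAut.conj g).toMonoidHom.comp (T : Subgroup G).subtype).comp W.subtype).codRestrict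
        (T : Subgroup G) (fun w => hg ⟨_, ⟨w, w.2, rfl⟩, rfl⟩)
    have hψ : Function.Injective ψ := fun a b h => by
      have h1 := congrArg Subtype.val h
      exact Subtype.ext (Subtype.ext ((MulAut.conj g).injective h1))
    have h := range_eq hP ha hb W hW hc hd ψ hψ
    conv_rhs => rw [← h]
    ext x
    constructor
    · rintro ⟨_, ⟨w, hw, rfl⟩, rfl⟩
      exact ⟨ψ ⟨w, hw⟩, ⟨_, rfl⟩, rfl⟩
    · rintro ⟨_, ⟨w, rfl⟩, rfl⟩
      exact ⟨_, ⟨w, w.2, rfl⟩, rfl⟩

end Cfsg.Agent.S3175
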