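import Mathlib
import Cfsg.Statements.S3178
import Cfsg.Agent.Lib.Transfer.Frobenius
import Cfsg.Agent.Lib.InvChar.Basic

set_option autoImplicit false
open Cfsg

namespace Cfsg.Agent.S3178

theorem core {G : Type*} [Group G] [Finite G]
    (S : Sylow 2 G) (n : ℕ) (hn : 3 ≤ n) (hS : Nat.card ↥(S : Subgroup G) = 2 ^ (n + 1))
    (a b : G) (ha : a ∈ (S : Subgroup G)) (hb : b ∈ (S : Subgroup G))
    (hao : orderOf a = 2 ^ n) (hbo : orderOf b = 2) (hrel : b * a * b⁻¹ = a ^ (2 ^ (n - 1) + 1))
    (Q : Subgroup G) (hQS : Q ≤ (S : Subgroup G)) (g : G) (hg : g ∈ Subgroup.normalizer (Q : Set G))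
    (hgo : Nat.Coprime (orderOf g) 2) : g ∈ Subgroup.centralizer (Q : Set G) := by
  have : Fact (Nat.Prime 2) := ⟨Nat.prime_two⟩
  obtain ⟨k, rfl⟩ : ∃ k, n = k + 3 := ⟨n - 3, by omega⟩
  simp only [show k + 3 - 1 = k + 2 from rfl] at hrel
  set z := a ^ (2 ^ (k + 2) : ℕ) with hz
  set A := Subgroup.zpowers a with hA
  have haz : ∀ i : ℤ, a ^ i = 1 ↔ (2 ^ (k + 3) : ℤ) ∣ i := fun i => by
    rw [← orderOf_dvd_iff_zpow_eq_one, hao]; norm_cast
  have hpow : (2 : ℤ) ^ (k + 3) = 2 * 2 ^ (k + 2) := by ring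
  have hpair : ∀ i : ℤ, (2 : ℤ) ^ (k + 2) ∣ i → a ^ i = 1 ∨ a ^ i = z := by
    rintro i ⟨c, rfl⟩
    rcases Int.even_or_odd c with ⟨d, rfl⟩ | ⟨d, rfl⟩
    · left; rw [haz]; exact ⟨d, by rw [hpow]; ring⟩
    · right
      have h1 : a ^ ((2 : ℤ) ^ (k + 3) * d) = 1 := (haz _).mpr ⟨d, rfl⟩
      rw [show (2 : ℤ) ^ (k + 2) * (2 * d + 1) = 2 ^ (k + 3) * d + 2 ^ (k + 2) by ring, zpow_add, h1, one_mul, hz,
        ← zpow_natCast]
      norm_cast
  have hz1 : z ≠ 1 := fun h => by
    have := orderOf_dvd_of_pow_eq_one h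
    rw [hao] at this
    have := (Nat.pow_dvd_pow_iff_le_right (by norm_num)).mp this
    omega
  have hzz : z * z = 1 := by
    rw [hz, ← pow_add, ← two_mul, show 2 * 2 ^ (k + 2) = 2 ^ (k + 3) by ring, ← hao, pow_orderOf_eq_one]
  have hbb : b * b = 1 := by rw [← pow_two, ← hbo, pow_orderOf_eq_one]
  have hrelz : ∀ i : ℤ, b * a ^ i * b⁻¹ = a ^ (i * (2 ^ (k + 2) + 1)) := fun i => by
    rw [← conj_zpow, hrel, ← zpow_natCast, ← zpow_mul, mul_comm]
    norm_cast
  have hbA : b ∉ A := by
    intro h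
    obtain ⟨j, hj⟩ := Subgroup.mem_zpowers_iff.mp h
    apply hz1
    have h1 : b * a * b⁻¹ = a := by rw [← hj, ((Commute.refl a).zpow_left j).eq, mul_inv_cancel_right]
    rw [hrel, pow_succ] at h1
    exact mul_eq_right.mp h1
  have hAS : A ≤ (S : Subgroup G) := Subgroup.zpowers_le.mpr ha
  have hidx : (A.subgroupOf (S : Subgroup G)).index = 2 := by
    have h1 := Subgroup.card_mul_index (A.subgroupOf (S : Subgroup G))
    rw [Nat.card_congr (Subgroup.subgroupOfEquivOfLe hAS).toEquiv, hA, Nat.card_zpowers, hao, hS, pow_succ 2 (k + 3)] at h1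
    exact Nat.eq_of_mul_eq_mul_left (Nat.two_pow_pos _) h1
  have helt : ∀ s ∈ (S : Subgroup G), ∃ i : ℤ, s = a ^ i ∨ s = a ^ i * b := by
    intro s hs
    by_cases h : s ∈ A
    · obtain ⟨i, rfl⟩ := Subgroup.mem_zpowers_iff.mp h
      exact ⟨i, Or.inl rfl⟩
    · have h1 : (⟨s, hs⟩ * ⟨b, hb⟩ : ↥(S : Subgroup G)) ∈ A.subgroupOf (S : Subgroup G) :=
        (Subgroup.mul_mem_iff_of_index_two hidx).mpr (iff_of_false (by simpa [Subgroup.mem_subgroupOf] using h)
          (by simpa [Subgroup.mem_subgroupOf] using hbA))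
      obtain ⟨i, hi⟩ := Subgroup.mem_zpowers_iff.mp (Subgroup.mem_subgroupOf.mp h1)
      refine ⟨i, Or.inr ?_⟩
      have hi' : a ^ i = s * b := hi
      rw [hi', mul_assoc, hbb, mul_one]
  have hsq : ∀ i : ℤ, a ^ i * b * (a ^ i * b) = a ^ (i * (2 ^ (k + 2) + 2)) := by
    intro i
    calc a ^ i * b * (a ^ i * b) = a ^ i * (b * a ^ i * b⁻¹) * (b * b) := by group
      _ = a ^ i * a ^ (i * (2 ^ (k + 2) + 1)) := by rw [hbb, mul_one, hrelz]
      _ = a ^ (i * (2 ^ (k + 2) + 2)) := by rw [← zpow_add]; congr 1; ring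
  have hsqA : ∀ s ∈ (S : Subgroup G), ∃ j : ℤ, s * s = a ^ (2 * j) := by
    intro s hs
    rcases helt s hs with ⟨i, rfl | rfl⟩
    · exact ⟨i, by rw [← zpow_add, two_mul]⟩
    · exact ⟨i * (2 ^ (k + 1) + 1), by rw [hsq]; congr 1; ring⟩
  have hcancel : ∀ i j : ℤ, a ^ i = a ^ j → (2 : ℤ) ^ (k + 3) ∣ i - j := fun i j h => by
    rw [← haz, zpow_sub, h, mul_inv_cancel]
  have hbz : b * z * b⁻¹ = z := by
    rw [hz, ← zpow_natCast, hrelz, ← mul_inv_eq_one, ← zpow_sub, haz]
    push_cast
    exact ⟨2 ^ (k + 1), by ring⟩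
  -- two elements of `S` in the same coset of `A` with equal squares differ at most by `z`
  have hclass : ∀ s ∈ (S : Subgroup G), ∀ t ∈ (S : Subgroup G), (s ∈ A ↔ t ∈ A) → s * s = t * t →
      t = s ∨ t = s * z := by
    intro s hs t ht hiff h
    have hmem : ∀ i : ℤ, a ^ i * b ∉ A := fun i hc =>
      hbA ((mul_mem_cancel_left (Subgroup.zpow_mem_zpowers a i)).mp hc)
    rcases helt s hs with ⟨i, rfl | rfl⟩ <;> rcases helt t ht with ⟨j, rfl | rfl⟩
    · rw [← zpow_add, ← zpow_add] at h
      have h1 := hcancel _ _ h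
      rw [hpow, show i + i - (j + j) = 2 * (i - j) by ring] at h1
      rcases hpair (j - i) (by rw [← neg_sub]; exact (dvd_neg).mpr ((mul_dvd_mul_iff_left two_ne_zero).mp h1)) with h2 | h2
      · left; rw [← mul_one (a ^ i), ← h2, ← zpow_add, add_sub_cancel]
      · right; rw [← h2, ← zpow_add, add_sub_cancel]
    · exact absurd (hiff.mp (Subgroup.zpow_mem_zpowers a i)) (hmem j)
    · exact absurd (hiff.mpr (Subgroup.zpow_mem_zpowers a j)) (hmem i)
    · rw [hsq, hsq] at h
      have h1 := hcancel _ _ h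
      rw [hpow, show i * (2 ^ (k + 2) + 2) - j * (2 ^ (k + 2) + 2) = 2 * ((i - j) * (2 ^ (k + 1) + 1)) by ring] at h1
      have h3 : IsCoprime ((2 : ℤ) ^ (k + 2)) (2 ^ (k + 1) + 1) := by
        refine IsCoprime.pow_left ⟨-(2 ^ k), 1, by ring⟩
      have h4 := h3.dvd_of_dvd_mul_right ((mul_dvd_mul_iff_left two_ne_zero).mp h1)
      rcases hpair (j - i) (by rw [← neg_sub]; exact (dvd_neg).mpr h4) with h2 | h2
      · left
        rw [show a ^ j = a ^ i from by rw [← mul_one (a ^ i), ← h2, ← zpow_add, add_sub_cancel]]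
      · right
        have h5 : z * b = b * z := by
          calc z * b = (b * z * b⁻¹) * b := by rw [hbz]
            _ = b * z := by group
        rw [mul_assoc, ← h5, ← mul_assoc, ← h2, ← zpow_add, add_sub_cancel]
  set f := MulAut.conj g with hf
  have hfQ : ∀ x ∈ Q, f x ∈ Q := fun x hx => by
    simpa [hf, MulAut.conj_apply] using (Subgroup.mem_normalizer_iff.mp hg x).mp hx
  have hzuniq : ∀ j : ℤ, a ^ j * a ^ j = 1 → a ^ j = 1 ∨ a ^ j = z := fun j h => by
    rw [← zpow_add, haz, hpow, ← two_mul] at h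
    exact hpair j ((mul_dvd_mul_iff_left two_ne_zero).mp h)
  -- `g` fixes `z` if it lies in `Q`
  have hfz : z ∈ Q → f z = z := by
    intro hzQ
    by_cases hex : ∃ x ∈ Q, x * x ≠ 1
    · obtain ⟨x, hx, hx2⟩ := hex
      obtain ⟨m, hm⟩ := IsPGroup.iff_orderOf.mp (S.2.to_le hQS) ⟨x, hx⟩
      rw [Subgroup.orderOf_mk] at hm
      obtain ⟨l, rfl⟩ : ∃ l, m = l + 2 := by
        refine ⟨m - 2, ?_⟩
        rcases m with _ | _ | m
        · exact absurd (by rw [pow_zero, orderOf_eq_one_iff] at hm; rw [hm, one_mul]) hx2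
        · exact absurd (by rw [zero_add, pow_one] at hm; rw [← pow_two, ← hm, pow_orderOf_eq_one]) hx2
        · omega
      set y := x ^ (2 ^ l : ℕ) with hy
      have hyQ : y ∈ Q := pow_mem hx _
      have hy1 : y * y ≠ 1 := fun h => by
        rw [hy, ← pow_add] at h
        have := orderOf_dvd_of_pow_eq_one h
        rw [hm, ← two_mul, ← pow_succ'] at this
        have := (Nat.pow_dvd_pow_iff_le_right (by norm_num)).mp this
        omega
      have hy2 : (y * y) * (y * y) = 1 := by
        rw [hy, ← pow_add, ← pow_add, ← pow_orderOf_eq_one x, hm]; congr 1; ring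
      obtain ⟨j, hj⟩ := hsqA y (hQS hyQ)
      have hyz : y * y = z := (hzuniq _ (hj ▸ hy2)).elim (fun h => absurd (hj.trans h) hy1) hj.trans
      obtain ⟨j', hj'⟩ := hsqA (f y) (hQS (hfQ y hyQ))
      rw [← map_mul, hyz] at hj'
      rw [hj']
      refine (hzuniq _ ?_).resolve_left fun h => hz1 (f.injective ?_)
      · rw [← hj', ← map_mul, hzz, map_one]
      · rw [hj', h, map_one]
    · simp only [not_exists, not_and, not_not] at hex
      by_contra hne
      have hw : f z ∈ Q := hfQ z hzQ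
      have hwA : f z ∉ A := fun h => by
        obtain ⟨j, hj⟩ := Subgroup.mem_zpowers_iff.mp h
        rw [← hj] at hne
        exact hne ((hzuniq j (by rw [hj, ← map_mul, hzz, map_one])).resolve_left
          fun h1 => hz1 (f.injective (by rw [← hj, h1, map_one])))
      set C := Subgroup.centralizer (Q : Set G) with hC
      set u := a ^ (2 ^ (k + 1) : ℕ) with hu
      have hbu : b * u * b⁻¹ = u := by
        rw [hu, ← zpow_natCast, hrelz, ← mul_inv_eq_one, ← zpow_sub, haz]
        push_cast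
        exact ⟨2 ^ k, by ring⟩
      have huC : u ∈ C := by
        rw [hC, Subgroup.mem_centralizer_iff]
        intro q hq
        rcases helt q (hQS hq) with ⟨i, rfl | rfl⟩
        · exact (((Commute.refl a).zpow_left i).pow_right _).eq
        · have h1 : b * u = u * b := by
            calc b * u = (b * u * b⁻¹) * b := by group
              _ = u * b := by rw [hbu]
          calc a ^ i * b * u = a ^ i * (b * u) := mul_assoc _ _ _
            _ = a ^ i * (u * b) := by rw [h1]
            _ = u * (a ^ i * b) := by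
              rw [← mul_assoc, hu, (((Commute.refl a).zpow_left i).pow_right _).eq, mul_assoc]
      have huu : u * u = z := by rw [hu, hz, ← pow_add]; congr 1; ring
      have hfuC : f u ∈ C := by
        rw [hC, Subgroup.mem_centralizer_iff]
        intro q hq
        obtain ⟨q', hq', rfl⟩ : ∃ q' ∈ Q, f q' = q := ⟨g⁻¹ * q * g, by
          simpa using (Subgroup.mem_normalizer_iff.mp (inv_mem hg) q).mp hq, by simp [hf]; group⟩
        rw [← map_mul, ← map_mul, Subgroup.mem_centralizer_iff.mp huC q' hq']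
      set N := Subgroup.normalizer (Q : Set G) with hN
      have hSN : (S : Subgroup G) ≤ N := by
        intro s hs
        have hgen : ∀ q ∈ Q, q ∈ A → q = 1 ∨ q = z := fun q hq hqA => by
          obtain ⟨j, rfl⟩ := Subgroup.mem_zpowers_iff.mp hqA
          exact hzuniq j (hex _ hq)
        have hQE : ∀ q ∈ (S : Subgroup G), q * q = 1 → q ∈ Q := by
          intro q hq hq2
          by_cases hqA : q ∈ A
          · obtain ⟨j, rfl⟩ := Subgroup.mem_zpowers_iff.mp hqA
            rcases hzuniq j hq2 with h | h <;> rw [h]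
            exacts [one_mem Q, hzQ]
          · rcases hclass (f z) (hQS hw) q hq (iff_of_false hwA hqA)
              (by rw [← map_mul, hzz, map_one, hq2]) with h | h <;> rw [h]
            exacts [hw, mul_mem hw hzQ]
        rw [hN, Subgroup.mem_normalizer_iff]
        intro q
        constructor
        · intro hq
          refine hQE _ (mul_mem (mul_mem hs (hQS hq)) (inv_mem hs)) ?_
          calc s * q * s⁻¹ * (s * q * s⁻¹) = s * (q * q) * s⁻¹ := by group
            _ = 1 := by rw [hex q hq, mul_one, mul_inv_cancel]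
        · intro hq
          have hqS : q ∈ (S : Subgroup G) := by
            have h1 := mul_mem (mul_mem (inv_mem hs) (hQS hq)) hs
            rwa [show s⁻¹ * (s * q * s⁻¹) * s = q by group] at h1
          refine hQE q hqS ?_
          calc q * q = s⁻¹ * ((s * q * s⁻¹) * (s * q * s⁻¹)) * s := by group
            _ = 1 := by rw [hex _ hq, mul_one, inv_mul_cancel]
      -- a Sylow subgroup of `C` inside `S`
      obtain ⟨T, hT⟩ := ((S.2.to_le (inf_le_left : (S : Subgroup G) ⊓ C ≤ _)).of_equiv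
        (Subgroup.subgroupOfEquivOfLe (inf_le_right : (S : Subgroup G) ⊓ C ≤ C)).symm).exists_le_sylow
      obtain ⟨n', hn', hTS⟩ := Cfsg.Agent.Lib.InvChar.exists_conj_le_sylow S hSN
        ((Subgroup.map_subtype_le _).trans (hC ▸ Subgroup.centralizer_le_normalizer _))
        ((T.2).map C.subtype)
      have hCn : ∀ c ∈ C, n' * c * n'⁻¹ ∈ C := fun c hc => by
        rw [hC, Subgroup.mem_centralizer_iff]
        intro q hq
        have h1 := Subgroup.mem_centralizer_iff.mp hc (n'⁻¹ * q * n')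
          (by simpa using (Subgroup.mem_normalizer_iff.mp (inv_mem hn') q).mp hq)
        calc q * (n' * c * n'⁻¹) = n' * ((n'⁻¹ * q * n') * c) * n'⁻¹ := by group
          _ = n' * (c * (n'⁻¹ * q * n')) * n'⁻¹ := by rw [h1]
          _ = n' * c * n'⁻¹ * q := by group
      have hcard : ((T : Subgroup ↥C).map C.subtype).map (MulAut.conj n').toMonoidHom ≤ (S : Subgroup G) ⊓ C := by
        refine le_inf hTS ?_
        rintro _ ⟨c, hc, rfl⟩
        exact hCn c (Subgroup.map_subtype_le _ hc)
      have hTeq : ((S : Subgroup G) ⊓ C).subgroupOf C = (T : Subgroup ↥C) := by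
        refine Subgroup.eq_of_le_of_card_ge hT ?_
        rw [Nat.card_congr (Subgroup.subgroupOfEquivOfLe (inf_le_right : (S : Subgroup G) ⊓ C ≤ C)).toEquiv]
        refine le_trans ?_ (Subgroup.card_le_of_le hcard)
        rw [Subgroup.card_map_of_injective (MulAut.conj n').injective,
          Subgroup.card_map_of_injective C.subtype_injective]
      have hfu2 : IsPGroup 2 ↥(Subgroup.zpowers (⟨f u, hfuC⟩ : ↥C)) := by
        refine IsPGroup.of_card (n := 2) ?_
        rw [Nat.card_zpowers, Subgroup.orderOf_mk, MulEquiv.orderOf_eq]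
        refine orderOf_eq_prime_pow ?_ ?_
        · rw [pow_one, pow_two, huu]; exact hz1
        · rw [show (2 : ℕ) ^ (1 + 1) = 2 + 2 from rfl, pow_add, pow_two, huu, hzz]
      obtain ⟨T', hT'⟩ := hfu2.exists_le_sylow
      obtain ⟨c, hc⟩ := MulAction.exists_smul_eq ↥C T' T
      have hmem : (c * (⟨f u, hfuC⟩ : ↥C) * c⁻¹ : ↥C) ∈ (T : Subgroup ↥C) := by
        rw [← hc, Sylow.coe_subgroup_smul]
        exact ⟨⟨f u, hfuC⟩, hT' (Subgroup.mem_zpowers _), rfl⟩
      rw [← hTeq, Subgroup.mem_subgroupOf] at hmem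
      obtain ⟨j, hj⟩ := hsqA _ hmem.1
      have h2 : (c : G) * f u * (c : G)⁻¹ * ((c : G) * f u * (c : G)⁻¹) = f z := by
        calc (c : G) * f u * (c : G)⁻¹ * ((c : G) * f u * (c : G)⁻¹) = (c : G) * (f u * f u) * (c : G)⁻¹ := by group
          _ = (c : G) * f z * (c : G)⁻¹ := by rw [← map_mul, huu]
          _ = f z * (c : G) * (c : G)⁻¹ := by rw [← Subgroup.mem_centralizer_iff.mp c.2 _ hw]
          _ = f z := mul_inv_cancel_right _ _
      apply hwA
      rw [← h2]
      exact hj ▸ Subgroup.zpow_mem_zpowers a _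
  rw [Subgroup.mem_centralizer_iff]
  suffices key : ∀ (m : ℕ) (x : G), x ∈ Q → orderOf x = m → f x = x by
    intro x hx
    have h1 : g * x * g⁻¹ = x := key _ x hx rfl
    calc x * g = (g * x * g⁻¹) * g := by rw [h1]
      _ = g * x := by group
  intro m
  induction m using Nat.strong_induction_on with
  | _ m ih =>
    intro x hx hm
    by_cases hx1 : x = 1
    · rw [hx1, map_one]
    obtain ⟨l, hl⟩ := IsPGroup.iff_orderOf.mp (S.2.to_le hQS) ⟨x, hx⟩
    rw [Subgroup.orderOf_mk] at hl
    obtain ⟨l, rfl⟩ : ∃ l', l = l' + 1 := ⟨l - 1, by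
      rcases l with _ | l
      · rw [pow_zero, orderOf_eq_one_iff] at hl; exact absurd hl hx1
      · omega⟩
    have hsqfix : f (x * x) = x * x := by
      refine ih (orderOf (x * x)) ?_ _ (mul_mem hx hx) rfl
      rw [← hm, hl]
      have h1 : (x * x) ^ 2 ^ l = 1 := by
        rw [← pow_two, ← pow_mul, ← pow_succ', ← hl, pow_orderOf_eq_one]
      refine lt_of_le_of_lt (orderOf_le_of_pow_eq_one (Nat.two_pow_pos l) h1) ?_
      exact Nat.pow_lt_pow_right one_lt_two (Nat.lt_succ_self l)
    have hsqx : ∀ w, w * w = x * x → f w * f w = x * x := fun w h => by rw [← map_mul, h, hsqfix]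
    have hfix2 : ∀ w ∈ Q, (f w = w ∨ f w = w * z) → f (f w) = w := by
      intro w hw h
      rcases h with h | h
      · rw [h, h]
      · have hzQ : z ∈ Q := by
          have := mul_mem (inv_mem hw) (h ▸ hfQ w hw)
          rwa [inv_mul_cancel_left] at this
        rw [h, map_mul, h, hfz hzQ, mul_assoc, hzz, mul_one]
    have hx4 : f (f (f (f x))) = x := by
      by_cases hA1 : (f x ∈ A ↔ x ∈ A)
      · rcases hclass x (hQS hx) (f x) (hQS (hfQ x hx)) hA1.symm (hsqx x rfl).symm with h | h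
        · rw [hfix2 x hx (Or.inl h), hfix2 x hx (Or.inl h)]
        · rw [hfix2 x hx (Or.inr h), hfix2 x hx (Or.inr h)]
      · by_cases hA2 : (f (f x) ∈ A ↔ x ∈ A)
        · have hs2 := hsqx (f x) (hsqx x rfl)
          rcases hclass x (hQS hx) _ (hQS (hfQ _ (hfQ x hx))) hA2.symm hs2.symm with h | h
          · rw [h, h]
          · have hzQ : z ∈ Q := by
              have := mul_mem (inv_mem hx) (h ▸ hfQ _ (hfQ x hx))
              rwa [inv_mul_cancel_left] at this
            rw [h, map_mul, map_mul, h, hfz hzQ, hfz hzQ, mul_assoc, hzz, mul_one]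
        · have hA3 : f x ∈ A ↔ f (f x) ∈ A := by tauto
          rcases hclass (f x) (hQS (hfQ x hx)) _ (hQS (hfQ _ (hfQ x hx))) hA3
              (by rw [hsqx x rfl, hsqx (f x) (hsqx x rfl)]) with h | h
          · have h1 := f.injective h
            rw [h1, h1, h1, h1]
          · have hzQ : z ∈ Q := by
              have := mul_mem (inv_mem (hfQ x hx)) (h ▸ hfQ _ (hfQ x hx))
              rwa [inv_mul_cancel_left] at this
            have h1 : f x = x * z := f.injective (by rw [h, map_mul, hfz hzQ])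
            rw [hfix2 x hx (Or.inr h1), hfix2 x hx (Or.inr h1)]
    have h4 : Commute (g ^ 4) x := by
      have h1 : g ^ 4 * x * (g ^ 4)⁻¹ = x := by
        conv_rhs => rw [← hx4]
        simp only [hf, MulAut.conj_apply]
        rw [show g ^ 4 = g * g * g * g by simp [pow_succ]]
        group
      calc g ^ 4 * x = (g ^ 4 * x * (g ^ 4)⁻¹) * g ^ 4 := by group
        _ = x * g ^ 4 := by rw [h1]
    obtain ⟨e, he⟩ := exists_pow_eq_self_of_coprime (n := 4) (x := g)
      (by simpa using (hgo.symm.pow_left 2))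
    have h5 : g * x = x * g := by rw [← he]; exact (h4.pow_left e).eq
    rw [hf, MulAut.conj_apply, h5, mul_inv_cancel_right]

/-- Groups with a modular Sylow 2-subgroup have a normal 2-complement. Let S, of order 2^(n+1) with n ≥ 3, be a Sylow 2-subgroup of a finite group G, and suppose S contains an element a of order 2^n and an involution b with b a b⁻¹ = a^(2^(n-1) + 1); so S is the non-abelian 2-group with a cyclic subgroup of index 2 that is neither dihedral, semidihedral nor generalized quaternion. Then G has a normal 2-complement. -/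
theorem result {G : Type*} [Group G] [Finite G]
    (S : Sylow 2 G) (n : ℕ) (hn : 3 ≤ n) (hS : Nat.card ↥(S : Subgroup G) = 2 ^ (n + 1))
    (a b : G) (ha : a ∈ (S : Subgroup G)) (hb : b ∈ (S : Subgroup G))
    (hao : orderOf a = 2 ^ n) (hbo : orderOf b = 2) (hrel : b * a * b⁻¹ = a ^ (2 ^ (n - 1) + 1)) :
    Cfsg.HasNormalPComplement 2 G := by
  have : Fact (Nat.Prime 2) := ⟨Nat.prime_two⟩
  exact Cfsg.Agent.Lib.Transfer.hasNormalPComplement_of_frobenius S
    (fun Q hQ g hg hgo => core S n hn hS a b ha hb hao hbo hrel Q hQ g hg hgo)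

end Cfsg.Agent.S3178
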