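import Mathlib
import Cfsg.Statements.S3179
import Cfsg.Agent.Lib.Classical.LinearCard
import Cfsg.Agent.Lib.Classical.HermCard
import Cfsg.Agent.S0324
import Cfsg.Agent.Lib.KnownA.SuzukiGroup

set_option autoImplicit false
open Cfsg

namespace Cfsg.Agent.S3179

open Cfsg.Agent.Lib

theorem card_GL5 : Nat.card (GL (Fin 5) (ZMod 2)) = 9999360 := by
  rw [Matrix.card_GL_field, ZMod.card]
  decide

/-- Two commuting elements of order three in `GL₅(2)`. -/
def threeMat (k : ZMod 3 × ZMod 3) : Matrix (Fin 5) (Fin 5) (ZMod 2) :=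
  (!![0, 1, 0, 0, 0; 1, 1, 0, 0, 0; 0, 0, 1, 0, 0; 0, 0, 0, 1, 0; 0, 0, 0, 0, 1]) ^ k.1.val *
  (!![1, 0, 0, 0, 0; 0, 1, 0, 0, 0; 0, 0, 0, 1, 0; 0, 0, 1, 1, 0; 0, 0, 0, 0, 1]) ^ k.2.val

theorem threeMat_mul : ∀ a b, threeMat (a + b) = threeMat a * threeMat b := by decide +kernel

theorem threeMat_inj : ∀ a, threeMat a = 1 → a = 0 := by decide +kernel

theorem threeMat_zero : threeMat 0 = 1 := by simp [threeMat]

theorem three_smul : ∀ k : ZMod 3 × ZMod 3, (3 : ℕ) • k = 0 := by decide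

/-- `GL₅(2)` has no element of order nine. -/
theorem no_nine (h : GL (Fin 5) (ZMod 2)) : orderOf h ≠ 9 := by
  have : Fact (Nat.Prime 3) := ⟨Nat.prime_three⟩
  intro hh
  let φ : Multiplicative (ZMod 3 × ZMod 3) →* GL (Fin 5) (ZMod 2) :=
    MonoidHom.toHomUnits
      { toFun := fun k => threeMat k.toAdd
        map_one' := threeMat_zero
        map_mul' := fun a b => threeMat_mul _ _ }
  have hφ : Function.Injective φ := by
    rw [injective_iff_map_eq_one]
    intro k hk
    exact Multiplicative.toAdd.injective (threeMat_inj _ (congrArg Units.val hk))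
  have hsyl : ∀ P : Sylow 3 (GL (Fin 5) (ZMod 2)), Nat.card (P : Subgroup (GL (Fin 5) (ZMod 2))) = 9 := by
    intro P
    rw [P.card_eq_multiplicity, card_GL5]
    have e : (9999360 : ℕ) = 3 ^ 2 * 1111040 := by norm_num
    rw [e, Nat.factorization_mul (by norm_num) (by norm_num), Finsupp.add_apply,
      Nat.factorization_pow_self Nat.prime_three, Nat.factorization_eq_zero_of_not_dvd (by norm_num)]
    rfl
  have hR : IsPGroup 3 φ.range := by
    refine IsPGroup.of_card (n := 2) ?_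
    rw [← Nat.card_congr (MonoidHom.ofInjective hφ).toEquiv, Nat.card_congr Multiplicative.toAdd,
      Nat.card_prod, Nat.card_zmod]
    norm_num
  obtain ⟨P, hP⟩ := hR.exists_le_sylow
  have hPe : φ.range = (P : Subgroup _) := by
    refine Subgroup.eq_of_le_of_card_ge hP (le_of_eq ?_)
    rw [hsyl, ← Nat.card_congr (MonoidHom.ofInjective hφ).toEquiv,
      Nat.card_congr Multiplicative.toAdd, Nat.card_prod, Nat.card_zmod]
  have hexp : ∀ x ∈ (P : Subgroup (GL (Fin 5) (ZMod 2))), x ^ 3 = 1 := by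
    intro x hx
    rw [← hPe] at hx
    obtain ⟨k, rfl⟩ := hx
    rw [← map_pow]
    have := three_smul
    rw [show k ^ 3 = 1 from Multiplicative.toAdd.injective (this k.toAdd), map_one]
  obtain ⟨Q, hQ⟩ := (IsPGroup.of_card (p := 3) (n := 2)
    (show Nat.card (Subgroup.zpowers h) = 3 ^ 2 by rw [Nat.card_zpowers, hh]; norm_num)).exists_le_sylow
  have e := Q.equiv P
  have h3 : h ^ 3 = 1 := by
    have := hexp _ (e ⟨h, hQ (Subgroup.mem_zpowers h)⟩).2
    have h' : (e ⟨h, hQ (Subgroup.mem_zpowers h)⟩) ^ 3 = 1 := Subtype.ext this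
    rw [← map_pow, ← map_one e] at h'
    exact congrArg Subtype.val (e.injective h')
  have := orderOf_dvd_of_pow_eq_one h3
  rw [hh] at this
  norm_num at this

/-- `SL₂(8)` has an element of order nine. -/
theorem exists_nine {F : Type} [Field F] [Fintype F] (hF : Fintype.card F = 8) :
    ∃ x : Matrix.ProjectiveSpecialLinearGroup (Fin 2) F, orderOf x = 9 := by
  classical
  have : Fact (Nat.Prime 3) := ⟨Nat.prime_three⟩
  have h2 : (2 : F) = 0 := by
    have : CharP F 2 := by
      refine charP_of_card_eq_prime_pow (f := 3) ?_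
      rw [hF]; norm_num
    exact CharTwo.two_eq_zero
  obtain ⟨t, ht⟩ : ∃ t : F, t ^ 3 + t + 1 = 0 := by
    obtain ⟨x, hx0, hx1⟩ : ∃ x : F, x ≠ 0 ∧ x ≠ 1 := by
      by_contra h
      push Not at h
      have : Fintype.card F ≤ 2 := by
        refine (Finset.card_le_card (s := (Finset.univ : Finset F)) (t := {0, 1}) fun y _ => ?_).trans
          Finset.card_le_two
        rcases eq_or_ne y 0 with hy | hy
        · simp [hy]
        · simp [h y hy]
      omega
    have h7 : x ^ 7 = 1 := by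
      have := FiniteField.pow_card_sub_one_eq_one x hx0
      rwa [hF] at this
    have hfac : (x - 1) * ((x ^ 3 + x + 1) * (x ^ 3 + x ^ 2 + 1)) = 0 := by
      linear_combination h7 + (x ^ 4 - x ^ 3) * h2
    rcases mul_eq_zero.mp hfac with h | h
    · exact absurd (sub_eq_zero.mp h) hx1
    rcases mul_eq_zero.mp h with h | h
    · exact ⟨x, h⟩
    · refine ⟨x⁻¹, ?_⟩
      field_simp
      linear_combination h
  have ht1 : t ^ 2 + 1 ≠ 0 := by
    intro h
    have : (1 : F) = 0 := by linear_combination ht - t * h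
    exact one_ne_zero this
  let M : Matrix.SpecialLinearGroup (Fin 2) F :=
    ⟨!![0, 1; 1, t], by rw [Matrix.det_fin_two_of]; linear_combination -h2⟩
  have hM3 : ((M ^ 3 : Matrix.SpecialLinearGroup (Fin 2) F) : Matrix (Fin 2) (Fin 2) F) =
      !![t, t ^ 2 + 1; t ^ 2 + 1, t + 1] := by
    rw [Matrix.SpecialLinearGroup.coe_pow]
    show (!![0, 1; 1, t] : Matrix (Fin 2) (Fin 2) F) ^ 3 = _
    rw [pow_succ, sq]
    ext i j
    fin_cases i <;> fin_cases j <;> simp [Matrix.mul_apply, Fin.sum_univ_two] <;>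
      first
      | linear_combination ht - h2
      | linear_combination -ht + h2
      | linear_combination -ht
      | linear_combination ht
      | linear_combination (0 : F) * ht
  have hn : ¬ M ^ 3 = 1 := by
    intro h
    rw [h, Matrix.SpecialLinearGroup.coe_one] at hM3
    exact ht1 (by simpa using (congrFun (congrFun hM3 0) 1).symm)
  have h9 : M ^ 3 ^ 2 = 1 := by
    rw [sq, pow_mul]
    apply Subtype.ext
    rw [Matrix.SpecialLinearGroup.coe_pow, hM3, pow_succ, sq]
    ext i j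
    fin_cases i <;> fin_cases j <;> simp [Matrix.mul_apply, Fin.sum_univ_two]
    · linear_combination ((1 : F) * t ^ 1 + (1 : F) * t ^ 2) * ht + ((1 : F) * t ^ 1 + (3 : F) * t ^ 3 + (1 : F) * t ^ 5) * h2
    · linear_combination ((1 : F) * t ^ 1 + (1 : F) * t ^ 3) * ht + ((1 : F) * t ^ 0 + (1 : F) * t ^ 1 + (3 : F) * t ^ 2 + (1 : F) * t ^ 3 + (2 : F) * t ^ 4) * h2
    · linear_combination ((1 : F) * t ^ 1 + (1 : F) * t ^ 3) * ht + ((1 : F) * t ^ 0 + (1 : F) * t ^ 1 + (3 : F) * t ^ 2 + (1 : F) * t ^ 3 + (2 : F) * t ^ 4) * h2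
    · linear_combination ((1 : F) * t ^ 2) * ht + ((1 : F) * t ^ 0 + (3 : F) * t ^ 1 + (3 : F) * t ^ 2 + (3 : F) * t ^ 3 + (1 : F) * t ^ 4 + (1 : F) * t ^ 5) * h2
  have ho : orderOf M = 9 := (orderOf_eq_prime_pow (p := 3) (n := 1) (by rwa [pow_one]) h9).trans (by norm_num)
  refine ⟨QuotientGroup.mk' _ M, ?_⟩
  refine (orderOf_injective (QuotientGroup.mk' (Subgroup.center (Matrix.SpecialLinearGroup (Fin 2) F))) ?_ M).trans ho
  rw [← MonoidHom.ker_eq_bot_iff, QuotientGroup.ker_mk', ← Subgroup.card_eq_one,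
    Classical.card_center_SL, hF]
  rfl

/-- Let X be a section of the general linear group GL(5, 2), that is, a quotient of a subgroup of it. If X is isomorphic to PSL(2, 2^n) for some n ≥ 2, to a Suzuki group over the field with 2^(2m+1) elements for some m ≥ 1, or to PSU(3, 2^n) for some n ≥ 2, then X is isomorphic to PSL(2, 4). -/
theorem result {H : Subgroup (GL (Fin 5) (ZMod 2))}
    {K : Subgroup ↥H} [K.Normal]
    (hX : (∃ (n : ℕ) (F : Type) (_ : Field F) (_ : Fintype F), 2 ≤ n ∧ Fintype.card F = 2 ^ n ∧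
        Nonempty (↥H ⧸ K ≃* Matrix.ProjectiveSpecialLinearGroup (Fin 2) F)) ∨
      (∃ (m : ℕ) (F : Type) (_ : Field F) (_ : Fintype F), 1 ≤ m ∧ Fintype.card F = 2 ^ (2 * m + 1) ∧
        Nonempty (↥H ⧸ K ≃* ↥(Cfsg.Lie.Sz F (2 ^ (m + 1))))) ∨
      (∃ (n : ℕ) (F : Type) (_ : Field F) (_ : Fintype F), 2 ≤ n ∧ Fintype.card F = 4 ^ n ∧
        Nonempty (↥H ⧸ K ≃* Cfsg.PSU 3 F (2 ^ n)))) :
    ∃ (F : Type) (_ : Field F) (_ : Fintype F), Fintype.card F = 4 ∧
      Nonempty (↥H ⧸ K ≃* Matrix.ProjectiveSpecialLinearGroup (Fin 2) F) := by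
  have hdvd : Nat.card (↥H ⧸ K) ∣ 9999360 :=
    card_GL5 ▸ (Subgroup.card_quotient_dvd_card K).trans (Subgroup.card_subgroup_dvd_card H)
  rcases hX with ⟨n, F, _, _, hn, hF, ⟨e⟩⟩ | ⟨m, F, _, _, hm, hF, ⟨e⟩⟩ | ⟨n, F, _, _, hn, hF, ⟨e⟩⟩
  · have hc := Classical.card_PSL2_mul (F := F)
    rw [← Nat.card_congr e.toEquiv, hF] at hc
    have hg : Nat.gcd 2 (2 ^ n - 1) = 1 := by
      apply Nat.coprime_two_left.mpr
      exact Nat.Even.sub_odd (Nat.one_le_two_pow) (Nat.even_pow.mpr ⟨even_two, by omega⟩) odd_one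
    rw [hg, one_mul] at hc
    rw [hc] at hdvd
    have hn10 : n ≤ 10 := by
      by_contra hlt
      have h1 : 2 ^ 11 ∣ 9999360 :=
        (pow_dvd_pow 2 (by omega)).trans ((Dvd.intro _ rfl).trans hdvd)
      norm_num at h1
    by_cases h2 : n = 2
    · subst h2
      exact ⟨F, inferInstance, inferInstance, by rw [hF]; norm_num, ⟨e⟩⟩
    by_cases h3 : n = 3
    · subst h3
      exfalso
      obtain ⟨x, hx⟩ := exists_nine (F := F) (by rw [hF]; norm_num)
      obtain ⟨h, hh⟩ := QuotientGroup.mk'_surjective K (e.symm x)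
      have h9 : 9 ∣ orderOf (h : GL (Fin 5) (ZMod 2)) := by
        rw [Subgroup.orderOf_coe]
        have := orderOf_map_dvd (QuotientGroup.mk' K) h
        rwa [hh, MulEquiv.orderOf_eq, hx] at this
      exact no_nine _ (orderOf_pow_orderOf_div (orderOf_pos _).ne' h9)
    exfalso
    interval_cases n
    all_goals first | exact absurd rfl h2 | exact absurd rfl h3 | norm_num at hdvd
  · exfalso
    haveI := KnownA.Suz.charP_two hF
    have hθ : ∀ x : F, KnownA.szTh m (KnownA.szTh m x) = x * x := KnownA.Suz.th_sq hF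
    have hc : Nat.card (↥H ⧸ K) =
        (2 ^ (2 * m + 1)) ^ 2 * ((2 ^ (2 * m + 1)) ^ 2 + 1) * (2 ^ (2 * m + 1) - 1) := by
      rw [Nat.card_congr e.toEquiv, ← S0324.result hm hF]
      exact (Nat.card_congr (KnownA.Suz.szBridge hθ hm hF).toEquiv).symm
    rw [hc] at hdvd
    have hm2 : m ≤ 2 := by
      by_contra hlt
      have h1 : 2 ^ 11 ∣ 9999360 := by
        refine (pow_dvd_pow 2 (show 11 ≤ (2 * m + 1) * 2 by omega)).trans ?_
        rw [pow_mul]
        exact (Dvd.intro _ rfl).trans ((Dvd.intro _ rfl).trans hdvd)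
      norm_num at h1
    interval_cases m <;> norm_num at hdvd
  · exfalso
    have hq : Fintype.card F = (2 ^ n) ^ 2 := by rw [hF, ← pow_mul, mul_comm, pow_mul]; norm_num
    have hc := Classical.card_center_mul_card_PSU hq (n := 3) (by norm_num)
    rw [← Nat.card_congr e.toEquiv, Classical.card_GU hq] at hc
    simp only [Finset.prod_range_succ, Finset.prod_range_zero] at hc
    norm_num at hc
    generalize hX : Nat.card (↥H ⧸ K) = N at hc hdvd
    have hn10 : n ≤ 3 := by
      by_contra hlt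
      have hodd : ¬ 2 ∣ Nat.gcd 3 (2 ^ n + 1) * (2 ^ n + 1) := by
        intro hd
        rcases (Nat.prime_two.dvd_mul).mp hd with h | h
        · have := h.trans (Nat.gcd_dvd_left _ _)
          norm_num at this
        · have h2 : 2 ∣ 2 ^ n := dvd_pow_self 2 (by omega)
          omega
      have hd : 2 ^ 11 ∣ Nat.gcd 3 (2 ^ n + 1) * (2 ^ n + 1) * N := by
        rw [mul_assoc, hc]
        refine Dvd.dvd.mul_right ?_ _
        rw [← pow_mul]
        exact pow_dvd_pow 2 (by omega)
      have := (((Nat.prime_two.coprime_iff_not_dvd).mpr hodd).pow_left 11).dvd_of_dvd_mul_left hd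
      have h1 := this.trans hdvd
      norm_num at h1
    interval_cases n <;> norm_num at hc <;>
      · have : N = 62400 ∨ N = 5515776 := by omega
        rcases this with h | h <;> subst h <;> norm_num at hdvd

end Cfsg.Agent.S3179
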