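import Mathlib
import Cfsg.Statements.S3180
import Cfsg.Agent.Lib.InvChar.Basic

set_option autoImplicit false
open Cfsg
open scoped Pointwise

namespace Cfsg.Agent.S3180

open Cfsg.Agent.Lib.InvChar

/-- Let P be a Sylow p-subgroup of a finite group J and P₁ a subgroup of P that is weakly closed in P with respect to J. If J acts on a set and two points, each fixed by every element of P₁, lie in one J-orbit, then they lie in one orbit of the normalizer of P₁ in J. -/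
theorem result {J : Type*} [Group J] [Finite J]
    {p : ℕ} [Fact p.Prime] (P : Sylow p J) (P₁ : Subgroup J) (hW : Cfsg.IsWeaklyClosed P₁ (P : Subgroup J))
    {Ω : Type*} [MulAction J Ω] (x y : Ω) (hx : ∀ g ∈ P₁, g • x = x) (hy : ∀ g ∈ P₁, g • y = y)
    (hc : ∃ g : J, g • x = y) :
    ∃ g ∈ Subgroup.normalizer (P₁ : Set J), g • x = y := by
  obtain ⟨g, hg⟩ := hc
  let Y := MulAction.stabilizer J y
  let P₁' := P₁.map (MulAut.conj g).toMonoidHom
  have hP₁p : IsPGroup p ↥P₁ := P.isPGroup'.to_le hW.1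
  have hle : P₁ ≤ Y := fun q hq => hy q hq
  have hle' : P₁' ≤ Y := by
    rintro _ ⟨q, hq, rfl⟩
    show (g * q * g⁻¹) • y = y
    rw [mul_smul, mul_smul, ← hg, inv_smul_smul, hx q hq]
  have e1 : IsPGroup p ↥(P₁.subgroupOf Y) := hP₁p.of_equiv (Subgroup.subgroupOfEquivOfLe hle).symm
  have e2 : IsPGroup p ↥(P₁'.subgroupOf Y) :=
    (hP₁p.map (MulAut.conj g).toMonoidHom).of_equiv (Subgroup.subgroupOfEquivOfLe hle').symm
  obtain ⟨Q, hQ⟩ := IsPGroup.exists_le_sylow (p := p) e1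
  obtain ⟨Q', hQ'⟩ := IsPGroup.exists_le_sylow (p := p) e2
  obtain ⟨h, hh⟩ := MulAction.exists_smul_eq ↥Y Q' Q
  obtain ⟨T, hT⟩ := IsPGroup.exists_le_sylow (p := p) (Q.isPGroup'.map Y.subtype)
  obtain ⟨k, hk⟩ := MulAction.exists_smul_eq J T P
  have hTP : ∀ t ∈ (T : Subgroup J), k * t * k⁻¹ ∈ (P : Subgroup J) := by
    intro t ht
    rw [← hk]
    exact Subgroup.smul_mem_pointwise_smul _ (MulAut.conj k) _ ht
  have m1 : P₁.map (MulAut.conj k).toMonoidHom = P₁ := by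
    refine hW.2 k ?_
    rintro _ ⟨q, hq, rfl⟩
    exact hTP q (hT ⟨⟨q, hle hq⟩, hQ hq, rfl⟩)
  have m2 : P₁.map (MulAut.conj (k * ((h : J) * g))).toMonoidHom = P₁ := by
    refine hW.2 _ ?_
    rintro _ ⟨q, hq, rfl⟩
    have hq' : g * q * g⁻¹ ∈ P₁' := ⟨q, hq, rfl⟩
    have h2 : h * ⟨_, hle' hq'⟩ * h⁻¹ ∈ ((h • Q' : Sylow p ↥Y) : Subgroup ↥Y) :=
      Subgroup.smul_mem_pointwise_smul _ (MulAut.conj h) _ (hQ' hq')
    rw [hh] at h2
    have := hTP _ (hT ⟨_, h2, rfl⟩)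
    simp only [Subgroup.coe_subtype, Subgroup.coe_mul, InvMemClass.coe_inv] at this
    show k * ((h : J) * g) * q * (k * ((h : J) * g))⁻¹ ∈ (P : Subgroup J)
    simpa [mul_assoc] using this
  refine ⟨(h : J) * g, map_conj_eq_iff_mem_normalizer.mp ?_, ?_⟩
  · apply map_conj_injective (g := k)
    rw [map_conj_mul, m2, m1]
  · rw [mul_smul, hg]; exact h.2

end Cfsg.Agent.S3180
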