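import Mathlib
import Cfsg.Statements.S3183
import Cfsg.Agent.Lib.InvChar.Basic

set_option autoImplicit false
open Cfsg
open scoped Pointwise

namespace Cfsg.Agent.S3183

/-- Let G be a finite group in which the intersection of any two distinct Sylow 2-subgroups is contained in the centre of some Sylow 2-subgroup, and let S be a Sylow 2-subgroup. Then for every x in S the centralizer of x in S is a Sylow 2-subgroup of the centralizer of x in G (no 2-subgroup centralizing x is larger), and for every other Sylow 2-subgroup T the intersection S ∩ T lies in both the centre of S and the centre of T. -/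
theorem result {G : Type*} [Group G] [Finite G]
    (hCI : ∀ S T : Sylow 2 G, S ≠ T → ∃ U : Sylow 2 G,
      (S : Subgroup G) ⊓ (T : Subgroup G) ≤ (Subgroup.center ↥(U : Subgroup G)).map (U : Subgroup G).subtype)
    (S : Sylow 2 G) :
    (∀ x ∈ (S : Subgroup G), ∀ P : Subgroup G, IsPGroup 2 ↥P → P ≤ Subgroup.centralizer ({x} : Set G) →
        Nat.card ↥P ≤ Nat.card ↥((S : Subgroup G) ⊓ Subgroup.centralizer ({x} : Set G))) ∧
    (∀ T : Sylow 2 G, T ≠ S →
        (S : Subgroup G) ⊓ (T : Subgroup G) ≤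
          (Subgroup.center ↥(S : Subgroup G)).map (S : Subgroup G).subtype ⊓
            (Subgroup.center ↥(T : Subgroup G)).map (T : Subgroup G).subtype) := by
  have hmain : ∀ (n : ℕ) (A B : Sylow 2 G), A ≠ B →
      Nat.card G - Nat.card ↥((A : Subgroup G) ⊓ (B : Subgroup G)) = n →
      ∀ d ∈ (A : Subgroup G) ⊓ (B : Subgroup G), ∀ a ∈ (A : Subgroup G), a * d = d * a := by
    intro n
    induction n using Nat.strong_induction_on with
    | _ n ih =>
    intro A B hAB hn
    set D := (A : Subgroup G) ⊓ (B : Subgroup G) with hD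
    obtain ⟨U, hU⟩ := hCI A B hAB
    have hUc : ∀ d ∈ D, ∀ u ∈ (U : Subgroup G), u * d = d * u := by
      intro d hd u hu
      obtain ⟨z, hz, rfl⟩ := hU hd
      exact congrArg Subtype.val (Subgroup.mem_center_iff.mp hz ⟨u, hu⟩)
    have hlt : D < (A : Subgroup G) := by
      refine lt_of_le_of_ne inf_le_left (fun h => hAB ?_)
      apply Sylow.ext
      refine (A.3 B.2 ?_).symm
      rw [← h]; exact inf_le_right
    have hsub : D.subgroupOf (A : Subgroup G) < ⊤ := by
      rw [lt_top_iff_ne_top]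
      exact fun h' => hlt.not_ge (Subgroup.subgroupOf_eq_top.mp h')
    have : Group.IsNilpotent ↥(A : Subgroup G) := A.isPGroup'.isNilpotent
    obtain ⟨q, hqN, hqD⟩ := SetLike.exists_of_lt
      (Group.normalizerCondition_of_isNilpotent (G := ↥(A : Subgroup G)) _ hsub)
    rw [← Subgroup.subgroupOf_normalizer_eq hlt.le] at hqN
    let K := Subgroup.normalizer (D : Set G)
    have hUK : (U : Subgroup G) ≤ K := by
      intro u hu
      rw [Subgroup.mem_normalizer_iff]
      intro d
      constructor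
      · intro hd; rw [hUc d hd u hu]; simpa using hd
      · intro hd
        have := hUc _ hd u⁻¹ (U.inv_mem hu)
        have e : d = u⁻¹ * (u * d * u⁻¹) * u := by group
        rw [e, this]; simpa using hd
    let R : Subgroup G := (A : Subgroup G) ⊓ K
    obtain ⟨k, hk, hle⟩ := Cfsg.Agent.Lib.InvChar.exists_conj_le_sylow U hUK (R := R) inf_le_right
      (A.isPGroup'.to_le inf_le_left)
    let V : Sylow 2 G := k⁻¹ • U
    have hRV : R ≤ (V : Subgroup G) := by
      intro r hr
      have h1 : k * r * k⁻¹ ∈ (U : Subgroup G) := hle ⟨r, hr, rfl⟩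
      have h2 := Subgroup.smul_mem_pointwise_smul _ (MulAut.conj k⁻¹) _ h1
      show r ∈ MulAut.conj k⁻¹ • (U : Subgroup G)
      simpa [mul_assoc] using h2
    intro d hd a ha
    by_cases hVA : V = A
    · have hkd : k * d * k⁻¹ ∈ D := (Subgroup.mem_normalizer_iff.mp hk d).mp hd
      have hka : k * a * k⁻¹ ∈ (U : Subgroup G) := by
        have ha' : a ∈ (V : Subgroup G) := by rw [hVA]; exact ha
        have h2 := Subgroup.smul_mem_pointwise_smul _ (MulAut.conj k) _ ha'
        have h3 : (MulAut.conj k • ((V : Subgroup G))) = (U : Subgroup G) := by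
          show (((k • V : Sylow 2 G)) : Subgroup G) = U
          simp [V]
        rw [h3] at h2
        simpa using h2
      have := hUc _ hkd _ hka
      exact (MulAut.conj k).injective (by simpa [mul_assoc] using this)
    · have hlt2 : D < (A : Subgroup G) ⊓ (V : Subgroup G) := by
        refine lt_of_le_of_ne ?_ ?_
        · exact le_inf hlt.le ((le_inf hlt.le Subgroup.le_normalizer).trans hRV)
        · intro h
          apply hqD
          show (q : G) ∈ D
          rw [h]
          exact ⟨q.2, hRV ⟨q.2, hqN⟩⟩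
      refine ih _ ?_ A V (fun h => hVA h.symm) rfl d (hlt2.le hd) a ha
      rw [← hn]
      have h1 := Subgroup.card_le_card_group ((A : Subgroup G) ⊓ (V : Subgroup G))
      have h2 : Nat.card ↥D < Nat.card ↥((A : Subgroup G) ⊓ (V : Subgroup G)) := by
        refine lt_of_le_of_ne (Subgroup.card_le_of_le hlt2.le) (fun h => hlt2.ne ?_)
        exact Subgroup.eq_of_le_of_card_ge hlt2.le h.ge
      omega
  have hcent : ∀ A B : Sylow 2 G, A ≠ B → (A : Subgroup G) ⊓ (B : Subgroup G) ≤
      (Subgroup.center ↥(A : Subgroup G)).map (A : Subgroup G).subtype := by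
    intro A B hAB d hd
    refine ⟨⟨d, hd.1⟩, Subgroup.mem_center_iff.mpr (fun a => Subtype.ext ?_), rfl⟩
    exact hmain _ A B hAB rfl d hd a a.2
  refine ⟨?_, fun T hT => le_inf (hcent S T (fun h => hT h.symm)) (inf_comm (S : Subgroup G) T ▸ hcent T S hT)⟩
  intro x hx P hP hPle
  set C := Subgroup.centralizer ({x} : Set G)
  have h1 : IsPGroup 2 ↥(((S : Subgroup G) ⊓ C).subgroupOf C) :=
    (S.isPGroup'.to_le inf_le_left).of_equiv (Subgroup.subgroupOfEquivOfLe inf_le_right).symm
  obtain ⟨Q, hQ⟩ := IsPGroup.exists_le_sylow (p := 2) h1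
  have h2 : IsPGroup 2 ↥(P.subgroupOf C) := hP.of_equiv (Subgroup.subgroupOfEquivOfLe hPle).symm
  obtain ⟨Q', hQ'⟩ := IsPGroup.exists_le_sylow (p := 2) h2
  have hcardP : Nat.card ↥P ≤ Nat.card ↥(Q : Subgroup ↥C) := by
    calc Nat.card ↥P = Nat.card ↥(P.subgroupOf C) :=
          (Nat.card_congr (Subgroup.subgroupOfEquivOfLe hPle).toEquiv).symm
      _ ≤ Nat.card ↥(Q' : Subgroup ↥C) := Subgroup.card_le_of_le hQ'
      _ = Nat.card ↥(Q : Subgroup ↥C) := Nat.card_congr (Sylow.equiv Q' Q).toEquiv
  obtain ⟨T, hT⟩ := IsPGroup.exists_le_sylow (p := 2) (Q.isPGroup'.map C.subtype)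
  have hQG : Nat.card ↥((Q : Subgroup ↥C).map C.subtype) = Nat.card ↥(Q : Subgroup ↥C) :=
    Subgroup.card_map_of_injective Subtype.coe_injective
  by_cases hTS : T = S
  · subst hTS
    calc Nat.card ↥P ≤ _ := hcardP.trans hQG.ge
      _ ≤ Nat.card ↥((T : Subgroup G) ⊓ C) :=
        Subgroup.card_le_of_le (le_inf hT (Subgroup.map_subtype_le _))
  · have hxC : x ∈ C := Subgroup.mem_centralizer_singleton_iff.mpr rfl
    have hxT : x ∈ (T : Subgroup G) := hT ⟨⟨x, hxC⟩, hQ ⟨hx, hxC⟩, rfl⟩
    obtain ⟨z, hz, hzx⟩ := hcent S T (fun h => hTS h.symm) ⟨hx, hxT⟩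
    have hSC : (S : Subgroup G) ⊓ C = (S : Subgroup G) := by
      refine inf_eq_left.mpr (fun s hs => Subgroup.mem_centralizer_singleton_iff.mpr ?_)
      rw [← hzx]
      exact congrArg Subtype.val (Subgroup.mem_center_iff.mp hz ⟨s, hs⟩)
    rw [hSC]
    obtain ⟨T', hT'⟩ := IsPGroup.exists_le_sylow (p := 2) hP
    exact (Subgroup.card_le_of_le hT').trans (Nat.card_congr (Sylow.equiv T' S).toEquiv).le

end Cfsg.Agent.S3183
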