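import Mathlib
import Cfsg.Statements.S3184
import Cfsg.Agent.Lib.InvChar.ZStarCentral
import Cfsg.Agent.S3183

set_option autoImplicit false
open Cfsg

namespace Cfsg.Agent.S3184

/-- Let G be a finite group in which the intersection of any two distinct Sylow 2-subgroups is contained in the centre of some Sylow 2-subgroup, and let S be a Sylow 2-subgroup. If C is a nontrivial cyclic characteristic subgroup of S, then the involution of C is central modulo the largest normal subgroup of odd order of G: each of its conjugates has the same image in G/O(G). -/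
theorem result {G : Type*} [Group G] [Finite G]
    (hCI : ∀ S T : Sylow 2 G, S ≠ T → ∃ U : Sylow 2 G,
      (S : Subgroup G) ⊓ (T : Subgroup G) ≤ (Subgroup.center ↥(U : Subgroup G)).map (U : Subgroup G).subtype)
    (S : Sylow 2 G) (C : Subgroup ↥(S : Subgroup G)) (hC : C ≠ ⊥) (hCc : IsCyclic ↥C) (hCh : C.Characteristic)
    (c : ↥(S : Subgroup G)) (hc : c ∈ C) (hc2 : orderOf c = 2) :
    ∀ g : G, (QuotientGroup.mk (s := Cfsg.oddCore G) (g * (c : G) * g⁻¹)) =
      QuotientGroup.mk (s := Cfsg.oddCore G) (c : G) := by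
  classical
  have : Fact (Nat.Prime 2) := ⟨Nat.prime_two⟩
  have hcyc := hCc
  have hfix : ∀ φ : MulAut ↥(S : Subgroup G), φ c = c := by
    intro φ
    have hmem : φ c ∈ C := by
      have h := hCh.fixed φ
      rw [← h] at hc
      exact hc
    have h1 : orderOf (φ c) = 2 := by rw [φ.orderOf_eq, hc2]
    by_contra hne
    haveI := Fintype.ofFinite C
    have hle := IsCyclic.card_pow_eq_one_le (α := C) (n := 2) (by norm_num)
    have hsub : ({1, ⟨c, hc⟩, ⟨φ c, hmem⟩} : Finset C) ⊆ Finset.univ.filter (fun a => a ^ 2 = 1) := by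
      intro x hx
      simp only [Finset.mem_insert, Finset.mem_singleton] at hx
      refine Finset.mem_filter.2 ⟨Finset.mem_univ _, ?_⟩
      rcases hx with rfl | rfl | rfl
      · exact one_pow _
      · exact Subtype.ext ((orderOf_dvd_iff_pow_eq_one (x := c) (n := 2)).1 (dvd_of_eq hc2))
      · exact Subtype.ext ((orderOf_dvd_iff_pow_eq_one (x := φ c) (n := 2)).1 (dvd_of_eq h1))
    have := (Finset.card_le_card hsub).trans hle
    rw [Finset.card_insert_of_notMem, Finset.card_pair] at this
    · omega
    · intro h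
      exact hne (congrArg Subtype.val h).symm
    · simp only [Finset.mem_insert, Finset.mem_singleton, not_or]
      constructor
      · intro h
        have h' : c = 1 := (congrArg Subtype.val h).symm
        rw [h', orderOf_one] at hc2; norm_num at hc2
      · intro h
        have h' : φ c = 1 := (congrArg Subtype.val h).symm
        rw [h', orderOf_one] at h1; norm_num at h1
  have hN : ∀ n ∈ Subgroup.normalizer ((S : Subgroup G) : Set G), n * (c : G) * n⁻¹ = c := by
    intro n hn
    let φ : MulAut ↥(S : Subgroup G) :=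
      { toFun := fun x => ⟨n * x * n⁻¹, (Subgroup.mem_normalizer_iff.1 hn x).1 x.2⟩
        invFun := fun x => ⟨n⁻¹ * x * n, (Subgroup.mem_normalizer_iff'.1 hn (n⁻¹ * x)).2 (by
          simp)⟩
        left_inv := fun x => Subtype.ext (by simp [mul_assoc])
        right_inv := fun x => Subtype.ext (by simp [mul_assoc])
        map_mul' := fun x y => Subtype.ext (by simp [mul_assoc]) }
    exact congrArg Subtype.val (hfix φ)
  have hcS : ∀ s ∈ (S : Subgroup G), s * (c : G) = c * s := fun s hs =>
    mul_inv_eq_iff_eq_mul.1 (hN s (Subgroup.le_normalizer hs))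
  have huniq : ∀ g : G, g * (c : G) * g⁻¹ ∈ (S : Subgroup G) → g * (c : G) * g⁻¹ = c := by
    intro g hg
    by_cases hT : (g • S : Sylow 2 G) = S
    · exact hN g (Sylow.smul_eq_iff_mem_normalizer.1 hT)
    · set v := g * (c : G) * g⁻¹ with hv
      have hvT : v ∈ ((g • S : Sylow 2 G) : Subgroup G) := ⟨c, c.2, rfl⟩
      obtain ⟨w, hw, hwv⟩ := ((Cfsg.Agent.S3183.result hCI S).2 _ hT ⟨hg, hvT⟩).1
      have hSv : (S : Subgroup G) ≤ Subgroup.centralizer ({v} : Set G) := fun s hs => by
        refine Subgroup.mem_centralizer_singleton_iff.2 ?_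
        rw [← hwv]
        exact congrArg Subtype.val (Subgroup.mem_center_iff.1 hw ⟨s, hs⟩)
      have hTv : ((g • S : Sylow 2 G) : Subgroup G) ≤ Subgroup.centralizer ({v} : Set G) := by
        rintro _ ⟨s, hs, rfl⟩
        refine Subgroup.mem_centralizer_singleton_iff.2 ?_
        show g * s * g⁻¹ * v = v * (g * s * g⁻¹)
        calc g * s * g⁻¹ * v = g * (s * c) * g⁻¹ := by rw [hv]; group
          _ = g * (c * s) * g⁻¹ := by rw [hcS s hs]
          _ = v * (g * s * g⁻¹) := by rw [hv]; group
      obtain ⟨h, hh⟩ := MulAction.exists_smul_eq (Subgroup.centralizer ({v} : Set G))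
        ((g • S : Sylow 2 G).subtype hTv) (S.subtype hSv)
      have hnorm : (h : G) * g ∈ Subgroup.normalizer ((S : Subgroup G) : Set G) := by
        refine Sylow.smul_eq_iff_mem_normalizer.1 ?_
        rw [mul_smul]
        have hle : ((h : G) • (g • S) : Sylow 2 G) ≤ Subgroup.centralizer ({v} : Set G) := by
          intro x hx
          obtain ⟨t, ht, rfl⟩ := hx
          exact Subgroup.mul_mem _ (Subgroup.mul_mem _ h.2 (hTv ht)) (Subgroup.inv_mem _ h.2)
        apply Sylow.subtype_injective (hP := hle) (hQ := hSv)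
        rw [← hh, Sylow.smul_subtype]
        rfl
      have h2 := hN _ hnorm
      have h3 : (h : G) * v = v * h := Subgroup.mem_centralizer_singleton_iff.1 h.2
      calc v = (h : G) * v * (h : G)⁻¹ := by rw [h3, mul_inv_cancel_right]
        _ = c := by
          show (h : G) * (g * (c : G) * g⁻¹) * (h : G)⁻¹ = c
          refine Eq.trans ?_ h2
          group
  intro g
  have hz := Lib.InvChar.inZStar_of_unique_conj S (c : G) c.2 huniq g
  rw [QuotientGroup.eq]
  have e : (g * (c : G) * g⁻¹)⁻¹ * c = (c : G)⁻¹ * (g * (c : G) * g⁻¹ * (c : G)⁻¹)⁻¹ * c := by group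
  rw [e]
  have hn : (Cfsg.oddCore G).Normal := (Lib.Cores.pPrimeCore_mem 2 G).1
  simpa using hn.conj_mem _ (Subgroup.inv_mem _ hz) (c : G)⁻¹

end Cfsg.Agent.S3184
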