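import Mathlib
import Cfsg.Statements.S3190


set_option autoImplicit false
open Cfsg

namespace Cfsg.Agent.S3190

theorem exists_mem_center_of_normal {X : Type*} [Group X] [Finite X] {p : ℕ} [Fact p.Prime]
    {P : Subgroup X} (hP : IsPGroup p ↥P) {W : Subgroup ↥P} [hW : W.Normal] (h : W ≠ ⊥) :
    ∃ v : ↥P, v ∈ W ∧ v ∈ Subgroup.center ↥P ∧ v ≠ 1 := by
  obtain ⟨k, hk0, hk⟩ := ((hP.to_subgroup W).nontrivial_iff_card).mp ((Subgroup.nontrivial_iff_ne_bot W).mpr h)
  have hdvd : p ∣ Nat.card ↥W := hk ▸ dvd_pow_self p hk0.ne'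
  obtain ⟨v, hv, hne⟩ := (hP.of_equiv (ConjAct.toConjAct (G := ↥P))).exists_fixed_point_of_prime_dvd_card_of_fixed_point
    (↥W) hdvd (a := (1 : ↥W)) (fun g => by simp)
  refine ⟨v, v.2, Subgroup.mem_center_iff.mpr (fun g => ?_), fun h' => hne (Subtype.ext h'.symm)⟩
  have h' := congrArg (fun w : ↥W => (w : ↥P)) (hv (ConjAct.toConjAct g))
  simp only [ConjAct.toConjAct_smul, ConjAct.Subgroup.val_conj_smul] at h'
  calc g * (v : ↥P) = g * v * g⁻¹ * g := by group
    _ = v * g := by rw [h']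

/-- Let p be an odd prime and, inside a finite group, let P be a p-subgroup normalized by a Klein four-group T. Let R be a subgroup of P, normal in P and normalized by T, such that P is the product of R with the centralizer of T in P. If T centralizes the centre of P, then T centralizes the centre of R. -/
theorem result {X : Type*} [Group X] [Finite X]
    {p : ℕ} (hp : p.Prime) (hodd : Odd p) (P T R : Subgroup X) (hP : IsPGroup p ↥P) (hT : IsKleinFour ↥T)
    (hTP : T ≤ Subgroup.normalizer (P : Set X)) (hRP : R ≤ P) (hRn : (R.subgroupOf P).Normal)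
    (hTR : T ≤ Subgroup.normalizer (R : Set X)) (hfac : R ⊔ (P ⊓ Subgroup.centralizer (T : Set X)) = P)
    (hZ : T ≤ Subgroup.centralizer (((Subgroup.center ↥P).map P.subtype : Subgroup X) : Set X)) :
    T ≤ Subgroup.centralizer (((Subgroup.center ↥R).map R.subtype : Subgroup X) : Set X) := by
  have := hT.isMulCommutative
  intro t ht
  rw [Subgroup.mem_centralizer_iff]
  rintro _ ⟨z, hz, rfl⟩
  have htt : t * t = 1 := by
    have h2 := IsKleinFour.mul_self (⟨t, ht⟩ : ↥T)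
    exact congrArg Subtype.val h2
  have hti : t⁻¹ = t := inv_eq_of_mul_eq_one_left htt
  have hp2 : p ≠ 2 := fun h => Nat.not_odd_iff_even.mpr even_two (h ▸ hodd)
  have := Fact.mk hp
  -- the set of elements of the centre of `R` inverted by `t` is trivial
  let Z : Subgroup X := (Subgroup.center ↥R).map R.subtype
  have hZmem : ∀ w : X, w ∈ Z ↔ w ∈ R ∧ ∀ r ∈ R, r * w = w * r := by
    intro w
    constructor
    · rintro ⟨v, hv, rfl⟩
      exact ⟨v.2, fun r hr => congrArg Subtype.val (Subgroup.mem_center_iff.mp hv ⟨r, hr⟩)⟩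
    · rintro ⟨hw, h⟩
      exact ⟨⟨w, hw⟩, Subgroup.mem_center_iff.mpr (fun r => Subtype.ext (h r r.2)), rfl⟩
  let W : Subgroup X :=
    { carrier := {w | w ∈ Z ∧ t * w * t⁻¹ = w⁻¹}
      one_mem' := ⟨Z.one_mem, by simp⟩
      inv_mem' := fun {w} hw => ⟨Z.inv_mem hw.1, by
        have := congrArg (fun v => v⁻¹) hw.2
        simpa [mul_assoc] using this⟩
      mul_mem' := fun {u v} hu hv => ⟨Z.mul_mem hu.1 hv.1, by
        have hc : u⁻¹ * v⁻¹ = v⁻¹ * u⁻¹ := by
          rw [← mul_inv_rev, ← mul_inv_rev]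
          congr 1
          exact ((hZmem v).mp hv.1).2 u ((hZmem u).mp hu.1).1 |>.symm
        calc t * (u * v) * t⁻¹ = (t * u * t⁻¹) * (t * v * t⁻¹) := by group
          _ = u⁻¹ * v⁻¹ := by rw [hu.2, hv.2]
          _ = (u * v)⁻¹ := by rw [hc, mul_inv_rev]⟩ }
  have hRn' : ∀ g ∈ P, ∀ r, r ∈ R ↔ g * r * g⁻¹ ∈ R := by
    intro g hg r
    exact Subgroup.mem_normalizer_iff.mp ((Subgroup.normal_subgroupOf_iff_le_normalizer hRP).mp hRn hg) r
  have hWP : P ≤ Subgroup.normalizer (W : Set X) := by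
    have hR : R ≤ Subgroup.normalizer (W : Set X) := by
      intro r hr
      rw [Subgroup.mem_normalizer_iff]
      intro w
      constructor
      · intro hw
        rw [((hZmem w).mp hw.1).2 r hr]; simpa using hw
      · intro hw
        have h := ((hZmem _).mp hw.1).2 r⁻¹ (R.inv_mem hr)
        have e : w = r⁻¹ * (r * w * r⁻¹) * r := by group
        rw [e, h]; simpa using hw
    have key : ∀ c ∈ P ⊓ Subgroup.centralizer (T : Set X), ∀ w ∈ W, c * w * c⁻¹ ∈ W := by
      rintro c ⟨hcP, hcT⟩ w ⟨hwZ, hwt⟩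
      refine ⟨(hZmem _).mpr ⟨(hRn' c hcP w).mp ((hZmem w).mp hwZ).1, fun r hr => ?_⟩, ?_⟩
      · have hr' : c⁻¹ * r * c ∈ R := by
          have := (hRn' c⁻¹ (P.inv_mem hcP) r).mp hr
          simpa using this
        have := congrArg (fun v => c * v * c⁻¹) (((hZmem w).mp hwZ).2 _ hr')
        simpa [mul_assoc] using this
      · have hct : t * c = c * t := Subgroup.mem_centralizer_iff.mp hcT t ht
        have hct' : c⁻¹ * t⁻¹ = t⁻¹ * c⁻¹ := by rw [← mul_inv_rev, hct, mul_inv_rev]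
        calc t * (c * w * c⁻¹) * t⁻¹ = (t * c) * w * (c⁻¹ * t⁻¹) := by group
          _ = c * (t * w * t⁻¹) * c⁻¹ := by rw [hct, hct']; group
          _ = (c * w * c⁻¹)⁻¹ := by rw [hwt]; group
    rw [← hfac]
    refine sup_le hR (fun c hc => ?_)
    rw [Subgroup.mem_normalizer_iff]
    intro w
    refine ⟨key c hc w, fun h => ?_⟩
    have := key c⁻¹ (inv_mem hc) _ h
    simpa [mul_assoc] using this
  have hWle : W ≤ P := fun w hw => hRP ((hZmem w).mp hw.1).1
  have hWbot : ∀ w ∈ W, w = 1 := by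
    by_contra hne
    push Not at hne
    obtain ⟨w, hw, hw1⟩ := hne
    have hWn : (W.subgroupOf P).Normal := (Subgroup.normal_subgroupOf_iff_le_normalizer hWle).mpr hWP
    have hWnt : W.subgroupOf P ≠ ⊥ := by
      intro h
      have : (⟨w, hWle hw⟩ : ↥P) ∈ W.subgroupOf P := hw
      rw [h, Subgroup.mem_bot] at this
      exact hw1 (congrArg Subtype.val this)
    obtain ⟨v, hvW, hvC, hv1⟩ := exists_mem_center_of_normal hP hWnt
    have hvt : t * (v : X) * t⁻¹ = (v : X)⁻¹ := hvW.2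
    have hcz := Subgroup.mem_centralizer_iff.mp (hZ ht) (v : X) ⟨v, hvC, rfl⟩
    rw [← hcz, mul_inv_cancel_right] at hvt
    have hv2 : v ^ 2 = 1 := by
      apply Subtype.ext
      rw [pow_two]
      show (v : X) * (v : X) = 1
      nth_rw 2 [hvt]
      simp
    obtain ⟨k, hk⟩ := (IsPGroup.iff_orderOf.mp hP) v
    have := orderOf_dvd_of_pow_eq_one hv2
    rw [hk] at this
    rcases (Nat.dvd_prime Nat.prime_two).mp this with h | h
    · exact hv1 (orderOf_eq_one_iff.mp (hk.trans h))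
    · rcases Nat.eq_zero_or_pos k with hk0 | hk0
      · simp [hk0] at h
      · exact hp2 ((Nat.prime_dvd_prime_iff_eq hp Nat.prime_two).mp (h ▸ dvd_pow_self p hk0.ne'))
  have hzR := z.2
  have hzc : ∀ r ∈ R, r * (z : X) = z * r := fun r hr =>
    congrArg Subtype.val (Subgroup.mem_center_iff.mp hz ⟨r, hr⟩)
  have htR : ∀ r, r ∈ R ↔ t * r * t⁻¹ ∈ R := fun r => Subgroup.mem_normalizer_iff.mp (hTR ht) r
  have hb : t * (z : X) * t⁻¹ ∈ Z := by
    refine (hZmem _).mpr ⟨(htR _).mp hzR, fun r hr => ?_⟩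
    have hr' : t⁻¹ * r * t ∈ R := (htR _).mpr (by simpa [mul_assoc] using hr)
    have := congrArg (fun v => t * v * t⁻¹) (hzc _ hr')
    simpa [mul_assoc] using this
  have hw : t * (z : X) * t⁻¹ * (z : X)⁻¹ ∈ W := by
    refine ⟨Z.mul_mem hb (Z.inv_mem ⟨z, hz, rfl⟩), ?_⟩
    have hc := ((hZmem _).mp hb).2 (z : X) hzR
    calc t * (t * (z : X) * t⁻¹ * (z : X)⁻¹) * t⁻¹
        = (t * t) * (z : X) * (t * t)⁻¹ * (t * (z : X) * t⁻¹)⁻¹ := by group
      _ = (z : X) * (t * (z : X) * t⁻¹)⁻¹ := by rw [htt]; group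
      _ = (t * (z : X) * t⁻¹ * (z : X)⁻¹)⁻¹ := by group
  have := mul_inv_eq_one.mp (hWbot _ hw)
  show (z : X) * t = t * z
  nth_rw 1 [← this]
  group

end Cfsg.Agent.S3190
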