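import Mathlib
import Cfsg.Statements.S3195
import Cfsg.Agent.Lib.InvChar.OddInverted

set_option autoImplicit false
open Cfsg

namespace Cfsg.Agent.S3195

/-- A conjugate `a x` of `a` commuting with `w` in a four-group forces `[w, x] = 1`. -/
theorem cover {G : Type*} [Group G] [Finite G] {a b c x : G} (ha : orderOf a = 2) (hb : orderOf b = 2) (hc : orderOf c = 2)
    (hab : a * b = b * a) (hac : a * c = c * a)
    (hconj : ∀ g : G, Commute (g * a * g⁻¹) a ∨ Commute (g * a * g⁻¹) b ∨ Commute (g * a * g⁻¹) c)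
    (hx : Odd (orderOf x)) (hinv : a * x * a⁻¹ = x⁻¹) : x * b = b * x ∨ x * c = c * x := by
  obtain ⟨m, hm⟩ := hx
  have h1 : x ^ m * a * (x ^ m)⁻¹ = a * x := by
    have h2 : a * (x ^ m)⁻¹ = x ^ m * a := by
      have h3 : a * x ^ m * a⁻¹ = (x ^ m)⁻¹ := by rw [← conj_pow, hinv, inv_pow]
      have h4 := (mul_inv_eq_iff_eq_mul.mp h3)
      calc a * (x ^ m)⁻¹ = a * (a * x ^ m * a⁻¹) := by rw [h3]
        _ = (a * a) * x ^ m * a⁻¹ := by group
        _ = x ^ m * a := by rw [Cfsg.Agent.Lib.Involutions.invol_mul_self ha, one_mul, Cfsg.Agent.Lib.Involutions.invol_inv ha]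
    rw [← h2, mul_assoc, ← mul_inv_rev, ← pow_add]
    congr 1
    rw [inv_eq_iff_mul_eq_one, ← pow_succ, show m + m + 1 = orderOf x by omega, pow_orderOf_eq_one]
  have key : ∀ w : G, a * w = w * a → Commute (a * x) w → x * w = w * x := by
    intro w h2 h3
    have h4 : a * (x * w) = a * (w * x) := by
      rw [← mul_assoc, h3.eq, ← mul_assoc, ← h2, mul_assoc]
    exact mul_left_cancel h4
  rcases hconj (x ^ m) with h | h | h <;> rw [h1] at h
  · left
    have h2 := key a rfl h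
    have h3 : x = x⁻¹ := by
      calc x = a * x * a⁻¹ := by rw [← h2, mul_inv_cancel_right]
        _ = x⁻¹ := hinv
    have h4 : x ^ 2 = 1 := by rw [pow_two]; nth_rewrite 2 [h3]; exact mul_inv_cancel x
    have h5 := Nat.le_of_dvd two_pos (orderOf_dvd_of_pow_eq_one h4)
    have h6 : orderOf x = 1 := by omega
    rw [orderOf_eq_one_iff.mp h6, one_mul, mul_one]
  · exact Or.inl (key b hab h)
  · exact Or.inr (key c hac h)

theorem main {G : Type*} [Group G] [Finite G] {a b c : G}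
    (ha : orderOf a = 2) (hb : orderOf b = 2) (hc : orderOf c = 2) (habc : a * b = c)
    (hab : a * b = b * a) (hac : a * c = c * a) (hbc : b * c = c * b)
    (hconja : ∀ g : G, Commute (g * a * g⁻¹) a ∨ Commute (g * a * g⁻¹) b ∨ Commute (g * a * g⁻¹) c)
    (hconjc : ∀ g : G, Commute (g * c * g⁻¹) c ∨ Commute (g * c * g⁻¹) a ∨ Commute (g * c * g⁻¹) b)
    {x y : G} (hx1 : x ≠ 1) (hy1 : y ≠ 1) (hxo : Odd (orderOf x)) (hyo : Odd (orderOf y))
    (hax : a * x * a⁻¹ = x⁻¹) (hbx : x * b = b * x) (hby : b * y * b⁻¹ = y⁻¹) (hay : y * a = a * y) : False := by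
  have hsq : ∀ w : G, Odd (orderOf w) → w * w = 1 → w = 1 := by
    intro w hw h
    rw [← pow_two] at h
    have h5 := Nat.le_of_dvd two_pos (orderOf_dvd_of_pow_eq_one h)
    obtain ⟨m, hm⟩ := hw
    exact orderOf_eq_one_iff.mp (by omega)
  have haa := Cfsg.Agent.Lib.Involutions.invol_mul_self ha
  have hbb := Cfsg.Agent.Lib.Involutions.invol_mul_self hb
  have hai := Cfsg.Agent.Lib.Involutions.invol_inv ha
  have hbi := Cfsg.Agent.Lib.Involutions.invol_inv hb
  have hcx : c * x * c⁻¹ = x⁻¹ := by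
    calc c * x * c⁻¹ = a * (b * x) * b⁻¹ * a⁻¹ := by rw [← habc]; group
      _ = a * x * a⁻¹ := by rw [← hbx]; group
      _ = x⁻¹ := hax
  have hcy : c * y * c⁻¹ = y⁻¹ := by
    calc c * y * c⁻¹ = b * (a * y) * a⁻¹ * b⁻¹ := by rw [← habc, hab]; group
      _ = b * y * b⁻¹ := by rw [← hay]; group
      _ = y⁻¹ := hby
  set x' := y * x * y⁻¹ with hx'
  have hax' : a * x' * a⁻¹ = x'⁻¹ := by
    calc a * x' * a⁻¹ = (a * y) * x * (a * y)⁻¹ := by rw [hx']; group
      _ = (y * a) * x * (y * a)⁻¹ := by rw [hay]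
      _ = y * (a * x * a⁻¹) * y⁻¹ := by group
      _ = x'⁻¹ := by rw [hax, hx']; group
  have hxy : x * y = y * x := by
    rcases cover ha hb hc hab hac hconja (x := x') (by rw [hx', Cfsg.Agent.Lib.Involutions.orderOf_conj_eq]; exact hxo) hax' with h | h
    · -- `x` commutes with `y`²
      have h1 : x * (y⁻¹ * b * y) = (y⁻¹ * b * y) * x := by
        calc x * (y⁻¹ * b * y) = y⁻¹ * (x' * b) * y := by rw [hx']; group
          _ = y⁻¹ * (b * x') * y := by rw [h]
          _ = (y⁻¹ * b * y) * x := by rw [hx']; group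
      have h2 : y⁻¹ * b * y = b * (y * y) := by
        calc y⁻¹ * b * y = (b * y * b⁻¹) * b * y := by rw [hby]
          _ = b * (y * y) := by group
      rw [h2, ← mul_assoc, hbx, mul_assoc, mul_assoc] at h1
      have h3 : Commute (y ^ 2) x := by rw [pow_two]; exact (mul_left_cancel h1).symm
      obtain ⟨e, he⟩ := exists_pow_eq_self_of_coprime (n := 2) (x := y) ((Nat.coprime_two_left).mpr hyo)
      have h4 : Commute y x := he ▸ h3.pow_left e
      exact h4.eq.symm
    · -- otherwise `x` would be conjugate to its inverse by an element of odd order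
      have h1 : x * (y⁻¹ * c * y) = (y⁻¹ * c * y) * x := by
        calc x * (y⁻¹ * c * y) = y⁻¹ * (x' * c) * y := by rw [hx']; group
          _ = y⁻¹ * (c * x') * y := by rw [h]
          _ = (y⁻¹ * c * y) * x := by rw [hx']; group
      have h2 : y⁻¹ * c * y = c * (y * y) := by
        calc y⁻¹ * c * y = (c * y * c⁻¹) * c * y := by rw [hcy]
          _ = c * (y * y) := by group
      have h3 : (y * y) * x * (y * y)⁻¹ = x⁻¹ := by
        rw [h2] at h1
        have h4 : c⁻¹ * x * c = x⁻¹ := by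
          rw [Cfsg.Agent.Lib.Involutions.invol_inv hc] at hcx ⊢; exact hcx
        calc (y * y) * x * (y * y)⁻¹ = c⁻¹ * (c * (y * y) * x) * (y * y)⁻¹ := by group
          _ = c⁻¹ * (x * (c * (y * y))) * (y * y)⁻¹ := by rw [h1]
          _ = c⁻¹ * x * c := by group
          _ = x⁻¹ := h4
      have h5 : ∀ n : ℕ, ((y * y) ^ n) * x * ((y * y) ^ n)⁻¹ = if Even n then x else x⁻¹ := by
        intro n
        induction n with
        | zero => simp
        | succ n ih =>
          calc (y * y) ^ (n + 1) * x * ((y * y) ^ (n + 1))⁻¹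
              = (y * y) * ((y * y) ^ n * x * ((y * y) ^ n)⁻¹) * (y * y)⁻¹ := by
                rw [pow_succ']; simp only [mul_inv_rev, mul_assoc]
            _ = _ := by
              rw [ih]
              by_cases hn : Even n
              · rw [if_pos hn, if_neg (by simpa [Nat.even_add_one] using hn), h3]
              · rw [if_neg hn, if_pos (by simpa [Nat.even_add_one] using hn), ← conj_inv, h3, inv_inv]
      have h6 := h5 (orderOf y)
      rw [if_neg (Nat.not_even_iff_odd.mpr hyo), ← pow_two y, ← pow_mul, mul_comm, pow_mul, pow_orderOf_eq_one,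
        one_pow, one_mul, inv_one, mul_one] at h6
      exact absurd (hsq x hxo (by nth_rewrite 2 [h6]; exact mul_inv_cancel x)) hx1
  have hwo : Odd (orderOf (x * y)) := by
    refine Odd.of_dvd_nat ?_ ((show Commute x y from hxy).orderOf_mul_dvd_lcm)
    exact Odd.of_dvd_nat (hxo.mul hyo) (Nat.lcm_dvd (dvd_mul_right _ _) (dvd_mul_left _ _))
  have hcw : c * (x * y) * c⁻¹ = (x * y)⁻¹ := by
    rw [mul_inv_rev, ← hcx, ← hcy]
    calc c * (x * y) * c⁻¹ = c * (y * x) * c⁻¹ := by rw [hxy]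
      _ = c * y * c⁻¹ * (c * x * c⁻¹) := by group
  rcases cover hc ha hb hac.symm hbc.symm hconjc hwo hcw with h | h
  · have h1 : x * y = a * (x * y) * a⁻¹ := by rw [← h, mul_inv_cancel_right]
    have h2 : a * (x * y) * a⁻¹ = x⁻¹ * y := by
      calc a * (x * y) * a⁻¹ = (a * x * a⁻¹) * (a * y * a⁻¹) := by group
        _ = x⁻¹ * y := by rw [hax, ← hay, mul_inv_cancel_right]
    have h3 : x = x⁻¹ := mul_right_cancel (h1.trans h2)
    exact hx1 (hsq x hxo (by nth_rewrite 2 [h3]; exact mul_inv_cancel x))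
  · have h1 : x * y = b * (x * y) * b⁻¹ := by rw [← h, mul_inv_cancel_right]
    have h2 : b * (x * y) * b⁻¹ = x * y⁻¹ := by
      calc b * (x * y) * b⁻¹ = (b * x * b⁻¹) * (b * y * b⁻¹) := by group
        _ = x * y⁻¹ := by rw [hby, ← hbx, mul_inv_cancel_right]
    have h3 : y = y⁻¹ := mul_left_cancel (h1.trans h2)
    exact hy1 (hsq y hyo (by nth_rewrite 2 [h3]; exact mul_inv_cancel y))

/-- Let A be a Klein four-subgroup of a finite group G. If every G-conjugate of every involution of A commutes with some involution of A (its centralizer meets A nontrivially), then A meets the largest normal 2-subgroup O₂(G) nontrivially. -/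
theorem result {G : Type*} [Group G] [Finite G]
    (A : Subgroup G) (hA : IsKleinFour ↥A)
    (h : ∀ a ∈ A, a ≠ 1 → ∀ g : G, A ⊓ Subgroup.centralizer ({g * a * g⁻¹} : Set G) ≠ ⊥) :
    A ⊓ Cfsg.pCore 2 G ≠ ⊥ := by
  classical
  by_contra hO
  have hcard : Nat.card ↥A = 4 := hA.card_four
  have hsq : ∀ a ∈ A, a * a = 1 := fun a ha => congrArg Subtype.val (IsKleinFour.mul_self (⟨a, ha⟩ : ↥A))
  have hord : ∀ a ∈ A, a ≠ 1 → orderOf a = 2 := fun a ha h1 =>
    orderOf_eq_prime (by rw [pow_two, hsq a ha]) h1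
  have hcomm : ∀ a ∈ A, ∀ b ∈ A, a * b = b * a := fun a ha b hb => by
    have h1 := hsq _ (mul_mem ha hb)
    calc a * b = (a * b)⁻¹ := (inv_eq_of_mul_eq_one_right h1).symm
      _ = b * a := by rw [mul_inv_rev, inv_eq_of_mul_eq_one_right (hsq a ha), inv_eq_of_mul_eq_one_right (hsq b hb)]
  have hout : ∀ a ∈ A, a ≠ 1 → a ∉ Cfsg.pCore 2 G := by
    intro a ha h1 h2
    have h3 : a ∈ A ⊓ Cfsg.pCore 2 G := ⟨ha, h2⟩
    rw [hO] at h3
    exact h1 h3
  have helts : ∀ a ∈ A, ∀ b ∈ A, a ≠ 1 → b ≠ 1 → a ≠ b → ∀ w ∈ A, w = 1 ∨ w = a ∨ w = b ∨ w = a * b := by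
    intro a ha b hb ha1 hb1 hne w hw
    by_contra hcon
    simp only [not_or] at hcon
    obtain ⟨h1, h2, h3, h4⟩ := hcon
    have h5 : a * b ≠ 1 := fun h => hne (by rw [eq_inv_of_mul_eq_one_left h, inv_eq_of_mul_eq_one_right (hsq b hb)])
    have hset : ({1, a, b, a * b, w} : Finset G).card = 5 := by
      rw [Finset.card_insert_of_notMem, Finset.card_insert_of_notMem, Finset.card_insert_of_notMem,
        Finset.card_insert_of_notMem, Finset.card_singleton] <;>
        simp [ha1.symm, hb1.symm, hne, h5.symm, Ne.symm h1, Ne.symm h2, Ne.symm h3, Ne.symm h4, hb1, ha1]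
    have hle : (({1, a, b, a * b, w} : Finset G) : Set G) ⊆ (A : Set G) := by
      intro s hs
      simp only [Finset.coe_insert, Finset.coe_singleton, Set.mem_insert_iff, Set.mem_singleton_iff] at hs
      rcases hs with rfl | rfl | rfl | rfl | rfl
      exacts [one_mem A, ha, hb, mul_mem ha hb, hw]
    have := Set.ncard_le_ncard hle (Set.toFinite _)
    rw [Set.ncard_coe_finset, hset, ← Nat.card_coe_set_eq] at this
    have h6 : Nat.card ↑(A : Set G) = 4 := hcard
    omega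
  have hconj : ∀ a ∈ A, ∀ b ∈ A, a ≠ 1 → b ≠ 1 → a ≠ b → ∀ g : G,
      Commute (g * a * g⁻¹) a ∨ Commute (g * a * g⁻¹) b ∨ Commute (g * a * g⁻¹) (a * b) := by
    intro a ha b hb ha1 hb1 hne g
    obtain ⟨w, hw, hw1⟩ := (A ⊓ Subgroup.centralizer ({g * a * g⁻¹} : Set G)).bot_or_exists_ne_one.resolve_left (h a ha ha1 g)
    have hcw : Commute (g * a * g⁻¹) w := (Subgroup.mem_centralizer_singleton_iff.mp hw.2).symm
    rcases helts a ha b hb ha1 hb1 hne w hw.1 with rfl | rfl | rfl | rfl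
    exacts [absurd rfl hw1, Or.inl hcw, Or.inr (Or.inl hcw), Or.inr (Or.inr hcw)]
  -- ordered pairs `(a, b)` with an element inverted by `a` and centralised by `b`
  have hpair : ∀ a ∈ A, a ≠ 1 → ∀ b ∈ A, b ≠ 1 → b ≠ a → ∀ x : G, Odd (orderOf x) → a * x * a⁻¹ = x⁻¹ →
      x * b = b * x ∨ x * (a * b) = a * b * x := fun a ha ha1 b hb hb1 hne x hxo hinv =>
    cover (hord a ha ha1) (hord b hb hb1) (hord _ (mul_mem ha hb)
      (fun h => hne (by rw [eq_inv_of_mul_eq_one_right h, inv_eq_of_mul_eq_one_right (hsq a ha)])))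
      (hcomm a ha b hb) (hcomm a ha _ (mul_mem ha hb)) (hconj a ha b hb ha1 hb1 hne.symm) hxo hinv
  obtain ⟨a₀, ha₀, ha₀1⟩ := A.bot_or_exists_ne_one.resolve_left fun h0 => by
    rw [h0, Subgroup.card_bot] at hcard; omega
  obtain ⟨b₀, hb₀, hb₀1, hba₀⟩ : ∃ b ∈ A, b ≠ 1 ∧ b ≠ a₀ := by
    by_contra hcon
    have hle : (A : Set G) ⊆ {1, a₀} := fun w hw => by
      by_contra hw'
      simp only [Set.mem_insert_iff, Set.mem_singleton_iff, not_or] at hw'
      exact hcon ⟨w, hw, hw'.1, hw'.2⟩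
    have := Set.ncard_le_ncard hle (Set.toFinite _)
    rw [Set.ncard_pair ha₀1.symm, ← Nat.card_coe_set_eq] at this
    have h6 : Nat.card ↑(A : Set G) = 4 := hcard
    omega
  obtain ⟨x, hx1, hxo, hxi⟩ := Cfsg.Agent.Lib.InvChar.exists_odd_inverted (hord a₀ ha₀ ha₀1) (hout a₀ ha₀ ha₀1)
  have hne0 : a₀ * b₀ ≠ 1 := fun h => hba₀ (by rw [eq_inv_of_mul_eq_one_right h, inv_eq_of_mul_eq_one_right (hsq a₀ ha₀)])
  -- `x` is inverted by `a₀` and centralised by some `b ∈ A`
  obtain ⟨b, hb, hb1, hba, hxb⟩ : ∃ b ∈ A, b ≠ 1 ∧ b ≠ a₀ ∧ x * b = b * x := by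
    rcases hpair a₀ ha₀ ha₀1 b₀ hb₀ hb₀1 hba₀ x hxo hxi with h | h
    · exact ⟨b₀, hb₀, hb₀1, hba₀, h⟩
    · exact ⟨_, mul_mem ha₀ hb₀, hne0, fun h' => hb₀1 (mul_eq_left.mp h'), h⟩
  obtain ⟨y, hy1, hyo, hyi⟩ := Cfsg.Agent.Lib.InvChar.exists_odd_inverted (hord b hb hb1) (hout b hb hb1)
  -- `y` is centralised by some `a ∈ A`, and `a` inverts `x`
  obtain ⟨a, ha, ha1, hne, hya, hax⟩ : ∃ a ∈ A, a ≠ 1 ∧ a ≠ b ∧ y * a = a * y ∧ a * x * a⁻¹ = x⁻¹ := by
    have hne1 : b * a₀ ≠ 1 := fun h => hba (by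
      rw [eq_inv_of_mul_eq_one_left h, inv_eq_of_mul_eq_one_right (hsq a₀ ha₀)])
    rcases hpair b hb hb1 a₀ ha₀ ha₀1 hba.symm y hyo hyi with h | h
    · exact ⟨a₀, ha₀, ha₀1, hba.symm, h, hxi⟩
    · refine ⟨_, mul_mem hb ha₀, hne1, fun h' => ha₀1 (mul_eq_left.mp h'), h, ?_⟩
      calc b * a₀ * x * (b * a₀)⁻¹ = b * (a₀ * x * a₀⁻¹) * b⁻¹ := by group
        _ = x⁻¹ := by rw [hxi, ← (show Commute x b from hxb).inv_left.eq, mul_inv_cancel_right]
  have hc1 : a * b ≠ 1 := fun h => hne (by rw [eq_inv_of_mul_eq_one_left h, inv_eq_of_mul_eq_one_right (hsq b hb)])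
  refine main (hord a ha ha1) (hord b hb hb1) (hord _ (mul_mem ha hb) hc1) rfl (hcomm a ha b hb)
    (hcomm a ha _ (mul_mem ha hb)) (hcomm b hb _ (mul_mem ha hb)) (hconj a ha b hb ha1 hb1 hne) ?_
    hx1 hy1 hxo hyo hax hxb hyi hya
  intro g
  have h1 : a * b * a = b := by rw [hcomm a ha b hb, mul_assoc, hsq a ha, mul_one]
  have := hconj (a * b) (mul_mem ha hb) a ha hc1 ha1 (fun h' => hb1 (mul_eq_left.mp h')) g
  rwa [h1] at this

end Cfsg.Agent.S3195
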