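import Mathlib
import Cfsg.Statements.S3196
import Cfsg.Agent.Lib.InvChar.Basic

set_option autoImplicit false
open Cfsg

namespace Cfsg.Agent.S3196

section

variable {G : Type*} [Group G]

def Adj (X Y : Subgroup G) : Prop := ∀ x ∈ X, ∀ y ∈ Y, x * y = y * x

theorem adj_symm {X Y : Subgroup G} (h : Adj X Y) : Adj Y X := fun y hy x hx => (h x hx y hy).symm

theorem adj_of_le {X X' W : Subgroup G} (hle : X ≤ X') (h : Adj X' W) : Adj X W :=
  fun x hx => h x (hle hx)

theorem adj_sup {X Y W : Subgroup G} (h1 : Adj X W) (h2 : Adj Y W) : Adj (X ⊔ Y) W := by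
  intro a ha w hw
  have : X ⊔ Y ≤ Subgroup.centralizer (W : Set G) :=
    sup_le (fun x hx => Subgroup.mem_centralizer_iff.mpr fun v hv => (h1 x hx v hv).symm)
      (fun x hx => Subgroup.mem_centralizer_iff.mpr fun v hv => (h2 x hx v hv).symm)
  exact (Subgroup.mem_centralizer_iff.mp (this ha) w hw).symm

theorem adj_conj_of_comm {g W : Subgroup G} {c : G} (h : Adj g W) (hc : ∀ w ∈ W, c * w = w * c) :
    Adj (g.map (MulAut.conj c).toMonoidHom) W := by
  rintro _ ⟨u, hu, rfl⟩ w hw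
  show c * u * c⁻¹ * w = w * (c * u * c⁻¹)
  have hc' : c⁻¹ * w = w * c⁻¹ := by
    calc c⁻¹ * w = c⁻¹ * (w * c) * c⁻¹ := by group
      _ = w * c⁻¹ := by rw [← hc w hw]; group
  calc c * u * c⁻¹ * w = c * (u * (c⁻¹ * w)) := by group
    _ = c * (u * w) * c⁻¹ := by rw [hc']; group
    _ = c * (w * u) * c⁻¹ := by rw [h u hu w hw]
    _ = (c * w) * u * c⁻¹ := by group
    _ = w * (c * u * c⁻¹) := by rw [hc w hw]; group

variable {p : ℕ} (hp : p.Prime) {X Y : Subgroup G}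
include hp

theorem pow_eq_one (hX : Nat.card ↥X = p) {x : G} (hx : x ∈ X) : x ^ p = 1 := by
  have := pow_card_eq_one' (G := ↥X) (x := ⟨x, hx⟩)
  rw [hX] at this
  exact congrArg Subtype.val this

theorem zpowers_eq (hX : Nat.card ↥X = p) {x : G} (hx : x ∈ X) (hne : x ≠ 1) : Subgroup.zpowers x = X := by
  have : Finite ↥X := Nat.finite_of_card_ne_zero (by rw [hX]; exact hp.ne_zero)
  refine Subgroup.eq_of_le_of_card_ge (Subgroup.zpowers_le.mpr hx) ?_
  have := Fact.mk hp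
  rw [Nat.card_zpowers, hX, orderOf_eq_prime (pow_eq_one hp hX hx) hne]

theorem exists_gen (hX : Nat.card ↥X = p) : ∃ x : G, x ≠ 1 ∧ x ∈ X := by
  rcases X.bot_or_exists_ne_one with h | ⟨x, hx, hne⟩
  · rw [h, Subgroup.card_bot] at hX
    exact absurd hX hp.one_lt.ne
  · exact ⟨x, hne, hx⟩

theorem eq_of_mem (hX : Nat.card ↥X = p) (hY : Nat.card ↥Y = p) {x : G} (hx : x ∈ X) (hy : x ∈ Y)
    (hne : x ≠ 1) : X = Y :=
  (zpowers_eq hp hX hx hne).symm.trans (zpowers_eq hp hY hy hne)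

theorem comm_of_card (hX : Nat.card ↥X = p) {x y : G} (hx : x ∈ X) (hy : y ∈ X) : x * y = y * x := by
  by_cases hne : x = 1
  · simp [hne]
  · rw [← zpowers_eq hp hX hx hne] at hy
    obtain ⟨k, rfl⟩ := Subgroup.mem_zpowers_iff.mp hy
    group

theorem exists_mul (hadj : Adj X Y) {u : G} (hu : u ∈ X ⊔ Y) : ∃ x ∈ X, ∃ y ∈ Y, x * y = u := by
  have hN : X ≤ Subgroup.normalizer (Y : Set G) := by
    intro x hx
    rw [Subgroup.mem_normalizer_iff]
    intro y
    constructor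
    · intro hy; rw [hadj x hx y hy]; simpa using hy
    · intro hy
      have := hadj x hx _ hy
      have e : x * y * x⁻¹ = y := mul_left_cancel (a := x) (by rw [this]; group)
      rwa [e] at hy
  rw [← SetLike.mem_coe, Subgroup.coe_mul_of_left_le_normalizer_right X Y hN] at hu
  obtain ⟨x, hx, y, hy, h⟩ := hu
  exact ⟨x, hx, y, hy, h⟩

theorem pow_eq_one_of_mem_join (hX : Nat.card ↥X = p) (hY : Nat.card ↥Y = p) (hadj : Adj X Y)
    {u : G} (hu : u ∈ X ⊔ Y) : u ^ p = 1 := by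
  obtain ⟨x, hx, y, hy, rfl⟩ := exists_mul hp hadj hu
  rw [Commute.mul_pow (hadj x hx y hy), pow_eq_one hp hX hx, pow_eq_one hp hY hy, one_mul]

theorem join_eq [Finite G] (hX : Nat.card ↥X = p) (hY : Nat.card ↥Y = p) (hadj : Adj X Y)
    {Z Z' : Subgroup G} (hZ : Nat.card ↥Z = p) (hZ' : Nat.card ↥Z' = p)
    (hle : Z ≤ X ⊔ Y) (hle' : Z' ≤ X ⊔ Y) (hne : Z ≠ Z') : Z ⊔ Z' = X ⊔ Y := by
  refine Subgroup.eq_of_le_of_card_ge (sup_le hle hle') ?_
  have h1 : Nat.card ↥(X ⊔ Y) ≤ p * p := by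
    let f : ↥X × ↥Y → ↥(X ⊔ Y) := fun q =>
      ⟨q.1 * q.2, mul_mem (Subgroup.mem_sup_left q.1.2) (Subgroup.mem_sup_right q.2.2)⟩
    have := Nat.card_le_card_of_surjective f (by
      rintro ⟨u, hu⟩
      obtain ⟨x, hx, y, hy, rfl⟩ := exists_mul hp hadj hu
      exact ⟨(⟨x, hx⟩, ⟨y, hy⟩), rfl⟩)
    rwa [Nat.card_prod, hX, hY] at this
  have h2 : p * p ≤ Nat.card ↥(Z ⊔ Z') := by
    let f : ↥Z × ↥Z' → ↥(Z ⊔ Z') := fun q =>
      ⟨q.1 * q.2, mul_mem (Subgroup.mem_sup_left q.1.2) (Subgroup.mem_sup_right q.2.2)⟩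
    have := Nat.card_le_card_of_injective f (by
      rintro ⟨a, b⟩ ⟨a', b'⟩ h
      have h' : (a : G) * b = a' * b' := congrArg Subtype.val h
      have e : (a' : G)⁻¹ * a = (b' : G) * (b : G)⁻¹ := by
        calc (a' : G)⁻¹ * a = (a' : G)⁻¹ * ((a : G) * b) * (b : G)⁻¹ := by group
          _ = _ := by rw [h']; group
      have hd : (a' : G)⁻¹ * a = 1 := by
        by_contra hc
        exact hne (eq_of_mem hp hZ hZ' (Z.mul_mem (Z.inv_mem a'.2) a.2) (e ▸ Z'.mul_mem b'.2 (Z'.inv_mem b.2)) hc)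
      have ha : a = a' := Subtype.ext (inv_mul_eq_one.mp hd).symm
      subst ha
      exact Prod.ext rfl (Subtype.ext (mul_left_cancel h')))
    rwa [Nat.card_prod, hZ, hZ'] at this
  omega

theorem comm_of_normalize (hX : Nat.card ↥X = p) {c : G} (hfix : X.map (MulAut.conj c).toMonoidHom = X)
    (hc : c ^ p = 1) {u v : G} (hu : u ∈ X) (hv : v ∈ Subgroup.zpowers c) : u * v = v * u := by
  suffices h : Commute c u by
    obtain ⟨k, rfl⟩ := Subgroup.mem_zpowers_iff.mp hv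
    exact (h.zpow_left k).eq.symm
  by_cases hu1 : u = 1
  · rw [hu1]; exact Commute.one_right c
  have hgen := zpowers_eq hp hX hu hu1
  have hmem : c * u * c⁻¹ ∈ X := by rw [← hfix]; exact ⟨u, hu, rfl⟩
  have : Finite ↥X := Nat.finite_of_card_ne_zero (by rw [hX]; exact hp.ne_zero)
  have hord : orderOf u = p := by rw [← Nat.card_zpowers, hgen, hX]
  have hfo : IsOfFinOrder u := orderOf_pos_iff.mp (hord ▸ hp.pos)
  rw [← hgen, ← hfo.mem_powers_iff_mem_zpowers, Submonoid.mem_powers_iff] at hmem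
  obtain ⟨k, hk⟩ := hmem
  have hit : ∀ i : ℕ, c ^ i * u * (c ^ i)⁻¹ = u ^ (k ^ i) := by
    intro i
    induction i with
    | zero => simp
    | succ i ih =>
      calc c ^ (i + 1) * u * (c ^ (i + 1))⁻¹ = c * (c ^ i * u * (c ^ i)⁻¹) * c⁻¹ := by rw [pow_succ']; group
        _ = (c * u * c⁻¹) ^ (k ^ i) := by rw [ih, conj_pow]
        _ = u ^ (k ^ (i + 1)) := by rw [← hk, ← pow_mul, pow_succ']
  have h1 := hit p
  rw [hc, inv_one, mul_one, one_mul] at h1
  have hm : u ^ 1 = u ^ (k ^ p) := by rwa [pow_one]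
  rw [pow_eq_pow_iff_modEq, hord, ← ZMod.natCast_eq_natCast_iff] at hm
  have := Fact.mk hp
  push_cast at hm
  rw [ZMod.pow_card] at hm
  have h2 : u ^ k = u ^ 1 := by
    rw [pow_eq_pow_iff_modEq, hord, ← ZMod.natCast_eq_natCast_iff]
    simpa using hm.symm
  rw [h2, pow_one] at hk
  exact mul_inv_eq_iff_eq_mul.mp hk.symm

end

/-- Let p be a prime and K a set of subgroups of order p of a finite group G, closed under conjugation, such that at least two distinct members of K commute elementwise, and whenever two distinct members X, Y of K commute: every subgroup of order p of the group XY they generate belongs to K, and every member W of K has centralizer meeting XY nontrivially. Then some member V of K commutes elementwise with every member of K and lies in O_p(G); in particular G is not simple. -/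
theorem result {G : Type*} [Group G] [Finite G]
    {p : ℕ} (hp : p.Prime) (K : Set (Subgroup G)) (hK : ∀ X ∈ K, Nat.card ↥X = p)
    (hKc : ∀ X ∈ K, ∀ g : G, X.map (MulAut.conj g).toMonoidHom ∈ K)
    (hex : ∃ X ∈ K, ∃ Y ∈ K, X ≠ Y ∧ ∀ x ∈ X, ∀ y ∈ Y, x * y = y * x)
    (ha : ∀ X ∈ K, ∀ Y ∈ K, X ≠ Y → (∀ x ∈ X, ∀ y ∈ Y, x * y = y * x) →
      ∀ Z : Subgroup G, Z ≤ X ⊔ Y → Nat.card ↥Z = p → Z ∈ K)
    (hb : ∀ X ∈ K, ∀ Y ∈ K, X ≠ Y → (∀ x ∈ X, ∀ y ∈ Y, x * y = y * x) →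
      ∀ W ∈ K, (X ⊔ Y) ⊓ Subgroup.centralizer (W : Set G) ≠ ⊥) :
    (∃ V ∈ K, (∀ W ∈ K, ∀ v ∈ V, ∀ w ∈ W, v * w = w * v) ∧ V ≤ Cfsg.pCore p G) ∧ ¬ IsSimpleGroup G := by
  classical
  have := Fact.mk hp
  have hself : ∀ X ∈ K, Adj X X := fun X hX x hx y hy => comm_of_card hp (hK X hX) hx hy
  have hline : ∀ X ∈ K, ∀ Y ∈ K, X ≠ Y → Adj X Y → ∀ W ∈ K, ∃ Z ∈ K, Z ≤ X ⊔ Y ∧ Adj Z W := by
    intro X hX Y hY hne hadj W hW
    obtain ⟨z, hz, hz1⟩ := ((X ⊔ Y) ⊓ Subgroup.centralizer (W : Set G)).bot_or_exists_ne_one.resolve_left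
      (hb X hX Y hY hne hadj W hW)
    have hZc : Nat.card ↥(Subgroup.zpowers z) = p := by
      rw [Nat.card_zpowers]
      exact orderOf_eq_prime (pow_eq_one_of_mem_join hp (hK X hX) (hK Y hY) hadj hz.1) hz1
    refine ⟨_, ha X hX Y hY hne hadj _ (Subgroup.zpowers_le.mpr hz.1) hZc, Subgroup.zpowers_le.mpr hz.1, ?_⟩
    intro a ha' w hw
    have : a ∈ Subgroup.centralizer (W : Set G) := Subgroup.zpowers_le.mpr hz.2 ha'
    exact (Subgroup.mem_centralizer_iff.mp this w hw).symm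
  -- two distinct members of a line generate it
  have hspan : ∀ X ∈ K, ∀ Y ∈ K, X ≠ Y → Adj X Y → ∀ Z ∈ K, ∀ Z' ∈ K, Z ≤ X ⊔ Y → Z' ≤ X ⊔ Y → Z ≠ Z' →
      X ≤ Z ⊔ Z' ∧ Y ≤ Z ⊔ Z' := by
    intro X hX Y hY hne hadj Z hZ Z' hZ' hle hle' hne'
    have e : Z ⊔ Z' = X ⊔ Y := join_eq hp (hK X hX) (hK Y hY) hadj (hK Z hZ) (hK Z' hZ') hle hle' hne'
    exact ⟨e ▸ le_sup_left, e ▸ le_sup_right⟩
  have huniv : ∃ V ∈ K, ∀ W ∈ K, Adj V W := by
    by_contra hcon
    push Not at hcon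
    obtain ⟨X0, hX0, Y0, hY0, hne0, hadj0⟩ := hex
    let N : Subgroup G → Set (Subgroup G) := fun X => {W | W ∈ K ∧ Adj X W}
    obtain ⟨g, hg, hmax⟩ := Set.Finite.exists_maximalFor (fun X => (N X).ncard) K (Set.toFinite _) ⟨X0, hX0⟩
    have L1 : ∀ g' ∈ K, g' ≠ g → Adj g g' → ∃ W ∈ K, Adj g W ∧ ¬ Adj g' W := by
      intro g' hg' hne hadj
      by_contra hc
      push Not at hc
      obtain ⟨h, hh, hgh⟩ := hcon g hg
      obtain ⟨k, hk, hkle, hkh⟩ := hline g hg g' hg' hne.symm hadj h hh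
      have hsub : insert h (N g) ⊆ N k := by
        rintro W (rfl | ⟨hW, hgW⟩)
        · exact ⟨hh, hkh⟩
        · exact ⟨hW, adj_of_le hkle (adj_sup hgW (hc W hW hgW))⟩
      have hnot : h ∉ N g := fun h' => hgh h'.2
      have hlt : (N g).ncard < (N k).ncard := by
        have h1 := Set.ncard_le_ncard hsub (Set.toFinite _)
        rw [Set.ncard_insert_of_notMem hnot (Set.toFinite _)] at h1
        omega
      exact absurd (hmax hk hlt.le) (not_le.mpr hlt)
    obtain ⟨z1, hz1, hz1g, hgz1⟩ : ∃ z ∈ K, z ≠ g ∧ Adj g z := by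
      obtain ⟨k, hk, hkle, hkg⟩ := hline X0 hX0 Y0 hY0 hne0 hadj0 g hg
      by_cases hkg' : k = g
      · subst hkg'
        by_cases hXk : X0 = k
        · exact ⟨Y0, hY0, fun h => hne0 (hXk.trans h.symm), adj_of_le hkle (adj_sup hadj0 (hself Y0 hY0))⟩
        · exact ⟨X0, hX0, hXk, adj_of_le hkle (adj_sup (hself X0 hX0) (adj_symm hadj0))⟩
      · exact ⟨k, hk, hkg', adj_symm hkg⟩
    obtain ⟨x, hx, hgx⟩ := hcon g hg
    obtain ⟨z, hz, hzle, hzx⟩ := hline g hg z1 hz1 hz1g.symm hgz1 x hx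
    have hzg : z ≠ g := fun h => hgx (h ▸ hzx)
    have hgz : Adj g z := adj_symm (adj_of_le hzle (adj_sup (hself g hg) (adj_symm hgz1)))
    have hxz : x ≠ z := fun h => hgx (h ▸ hgz)
    obtain ⟨x0, hx0, hx0g⟩ := exists_gen hp (hK x hx)
    obtain ⟨z0, hz0, hz0g⟩ := exists_gen hp (hK z hz)
    set y0 := x0⁻¹ * z0 with hy0
    have hy0x : y0 ∉ x := by
      intro h
      have h' : z0 ∈ x := by
        have := x.mul_mem hx0g h
        simpa [hy0] using this
      exact hxz (eq_of_mem hp (hK x hx) (hK z hz) h' hz0g hz0)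
    have hy0z : y0 ∉ z := by
      intro h
      have h' : x0 ∈ z := by
        have := z.mul_mem hz0g (z.inv_mem h)
        simpa [hy0] using this
      exact hxz (eq_of_mem hp (hK x hx) (hK z hz) hx0g h' hx0)
    have hy01 : y0 ≠ 1 := fun h => hy0x (h ▸ x.one_mem)
    have hy0J : y0 ∈ x ⊔ z := mul_mem (Subgroup.mem_sup_left (x.inv_mem hx0g)) (Subgroup.mem_sup_right hz0g)
    set y := Subgroup.zpowers y0 with hy
    have hyK : y ∈ K := ha x hx z hz hxz (adj_symm hzx) y (Subgroup.zpowers_le.mpr hy0J) (by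
      rw [Nat.card_zpowers]
      exact orderOf_eq_prime (pow_eq_one_of_mem_join hp (hK x hx) (hK z hz) (adj_symm hzx) hy0J) hy01)
    have hyle : y ≤ x ⊔ z := Subgroup.zpowers_le.mpr hy0J
    have hyx : y ≠ x := fun h => hy0x (h ▸ Subgroup.mem_zpowers y0)
    have hyz : y ≠ z := fun h => hy0z (h ▸ Subgroup.mem_zpowers y0)
    set g' := g.map (MulAut.conj x0⁻¹).toMonoidHom with hg'
    have hg'K : g' ∈ K := hKc g hg _
    have hg'y : g' = g.map (MulAut.conj y0).toMonoidHom := by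
      apply SetLike.ext
      intro w
      rw [hg', Cfsg.Agent.Lib.InvChar.mem_map_conj, Cfsg.Agent.Lib.InvChar.mem_map_conj]
      have hz0c : ∀ v ∈ g, z0 * v = v * z0 := fun v hv => (hgz v hv z0 hz0g).symm
      constructor
      · intro h
        have e : (x0⁻¹ * z0)⁻¹ * w * (x0⁻¹ * z0) = z0⁻¹ * (x0 * w * x0⁻¹) * z0 := by group
        rw [hy0, e]
        simp only [inv_inv] at h
        rw [mul_assoc, ← hz0c _ h]; simpa using h
      · intro h
        have e : x0 * w * x0⁻¹ = z0 * ((x0⁻¹ * z0)⁻¹ * w * (x0⁻¹ * z0)) * z0⁻¹ := by group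
        simp only [inv_inv]
        rw [e, hz0c _ h]; simpa using h
    have hA : ∀ W ∈ K, Adj g W → (Adj x W ∨ Adj y W) → Adj g' W := by
      intro W _ hgW h
      rcases h with h | h
      · exact adj_conj_of_comm hgW (fun w hw => h _ (x.inv_mem hx0g) w hw)
      · rw [hg'y]
        exact adj_conj_of_comm hgW (fun w hw => h _ (Subgroup.mem_zpowers y0) w hw)
    -- the conjugate `g'` commutes with all neighbours of `g`
    obtain ⟨W0, hW0, hgW0, hzW0⟩ := L1 z hz hzg hgz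
    have hmem : ∀ W ∈ K, W ≠ g → Adj g W → ∀ V ∈ K, ¬ Adj g V →
        ∃ m ∈ K, m ≤ g ⊔ W ∧ Adj m V ∧ m ≠ g ∧ Adj g m := by
      intro W hW hne hgW V hV hgV
      obtain ⟨m, hm, hmle, hmV⟩ := hline g hg W hW hne.symm hgW V hV
      exact ⟨m, hm, hmle, hmV, fun h => hgV (h ▸ hmV),
        adj_symm (adj_of_le hmle (adj_sup (hself g hg) (adj_symm hgW)))⟩
    have hgy : ¬ Adj g y := by
      intro h
      have h1 := (hspan x hx z hz hxz (adj_symm hzx) y hyK z hz hyle le_sup_right hyz).1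
      exact hgx (adj_symm (adj_of_le h1 (adj_sup (adj_symm h) (adj_symm hgz))))
    have hW0g : W0 ≠ g := fun h => hzW0 (h ▸ adj_symm hgz)
    have hgg' : Adj g' g := by
      obtain ⟨mx, hmx, hmxle, hmxx, hmxg, hgmx⟩ := hmem W0 hW0 hW0g hgW0 x hx hgx
      obtain ⟨my, hmy, hmyle, hmyy, hmyg, hgmy⟩ := hmem W0 hW0 hW0g hgW0 y hyK hgy
      have hne : mx ≠ my := by
        intro h
        subst h
        have h1 := (hspan x hx z hz hxz (adj_symm hzx) x hx y hyK le_sup_left hyle hyx.symm).2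
        have hmz : Adj mx z := adj_symm (adj_of_le h1 (adj_sup (adj_symm hmxx) (adj_symm hmyy)))
        have h2 := (hspan g hg W0 hW0 hW0g.symm hgW0 g hg mx hmx le_sup_left hmxle hmxg.symm).2
        exact hzW0 (adj_symm (adj_of_le h2 (adj_sup hgz hmz)))
      have h1 := hA mx hmx hgmx (Or.inl (adj_symm hmxx))
      have h2 := hA my hmy hgmy (Or.inr (adj_symm hmyy))
      have h3 := (hspan g hg W0 hW0 hW0g.symm hgW0 mx hmx my hmy hmxle hmyle hne).1
      exact adj_symm (adj_of_le h3 (adj_sup (adj_symm h1) (adj_symm h2)))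
    have hsub : ∀ W ∈ K, Adj g W → Adj g' W := by
      intro W hW hgW
      by_cases hWg : W = g
      · subst hWg; exact hgg'
      obtain ⟨m, hm, hmle, hmx, hmg, hgm⟩ := hmem W hW hWg hgW x hx hgx
      have h1 := hA m hm hgm (Or.inl (adj_symm hmx))
      have h2 := (hspan g hg W hW (Ne.symm hWg) hgW g hg m hm le_sup_left hmle hmg.symm).2
      exact adj_symm (adj_of_le h2 (adj_sup (adj_symm hgg') (adj_symm h1)))
    have hfix : g' = g := by
      by_contra hne
      obtain ⟨W, hW, h1, h2⟩ := L1 g' hg'K hne (adj_symm hgg')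
      exact h2 (hsub W hW h1)
    apply hgx
    intro u hu v hv
    have hvx : v ∈ Subgroup.zpowers x0⁻¹ := by
      rw [Subgroup.zpowers_inv, zpowers_eq hp (hK x hx) hx0g hx0]; exact hv
    exact comm_of_normalize hp (hK g hg) hfix (pow_eq_one hp (hK x hx) (x.inv_mem hx0g)) hu hvx
  obtain ⟨V, hV, hVW⟩ := huniv
  have hle : V ≤ Cfsg.pCore p G := by
    have hmem : ∀ a ∈ Group.conjugatesOfSet (V : Set G), ∃ W ∈ K, a ∈ W ∧ ∀ U ∈ K, Adj W U := by
      intro a ha
      rw [Group.mem_conjugatesOfSet_iff] at ha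
      obtain ⟨v, hv, hc⟩ := ha
      obtain ⟨k, rfl⟩ := isConj_iff.mp hc
      refine ⟨_, hKc V hV k, ⟨v, hv, rfl⟩, fun U hU => ?_⟩
      rintro _ ⟨u, hu, rfl⟩ w hw
      have hw' : k⁻¹ * w * k ∈ U.map (MulAut.conj k⁻¹).toMonoidHom := ⟨w, hw, by simp⟩
      have := congrArg (MulAut.conj k) (hVW _ (hKc U hU k⁻¹) u hu _ hw')
      simpa [mul_assoc] using this
    have hab : IsMulCommutative ↥(Subgroup.normalClosure (V : Set G)) := by
      refine Subgroup.isMulCommutative_closure (fun a ha b hb => ?_)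
      obtain ⟨W, hW, haW, hWall⟩ := hmem a ha
      obtain ⟨W', hW', hbW, -⟩ := hmem b hb
      exact hWall W' hW' a haW b hbW
    have hexp : ∀ a ∈ Subgroup.normalClosure (V : Set G), a ^ p = 1 := by
      intro a ha
      induction ha using Subgroup.closure_induction with
      | mem w hw =>
        obtain ⟨W, hW, haW, -⟩ := hmem w hw
        exact pow_eq_one hp (hK W hW) haW
      | one => simp
      | mul a b ha hb iha ihb =>
        have : a * b = b * a := congrArg Subtype.val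
          (mul_comm' (⟨a, ha⟩ : ↥(Subgroup.normalClosure (V : Set G))) ⟨b, hb⟩)
        rw [Commute.mul_pow this, iha, ihb, one_mul]
      | inv a ha iha => rw [inv_pow, iha, inv_one]
    have hpg : IsPGroup p ↥(Subgroup.normalClosure (V : Set G)) :=
      fun a => ⟨1, Subtype.ext (by simpa using hexp a a.2)⟩
    exact Subgroup.le_normalClosure.trans (le_sSup ⟨Subgroup.normalClosure_normal, hpg⟩)
  refine ⟨⟨V, hV, hVW, hle⟩, fun hs => ?_⟩
  obtain ⟨X, hX, Y, hY, hne, -⟩ := hex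
  have hnb : Subgroup.normalClosure (V : Set G) = ⊤ := by
    refine (Subgroup.normalClosure_normal.eq_bot_or_eq_top).resolve_left (fun h => ?_)
    have h1 : V ≤ ⊥ := h ▸ Subgroup.le_normalClosure
    rw [le_bot_iff] at h1
    have := hK V hV
    rw [h1, Subgroup.card_bot] at this
    exact hp.one_lt.ne this
  have hab : ∀ a b : G, a * b = b * a := by
    intro a b
    obtain ⟨W, hW, haW, hWall⟩ : ∃ W ∈ K, V ≤ W ∧ True := ⟨V, hV, le_rfl, trivial⟩
    have hcl : Subgroup.normalClosure (V : Set G) ≤ Subgroup.center G := by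
      have hc : IsMulCommutative ↥(Subgroup.normalClosure (V : Set G)) := by
        refine Subgroup.isMulCommutative_closure (fun u hu v hv => ?_)
        rw [Group.mem_conjugatesOfSet_iff] at hu hv
        obtain ⟨u', hu', hcu⟩ := hu
        obtain ⟨v', hv', hcv⟩ := hv
        obtain ⟨k, rfl⟩ := isConj_iff.mp hcu
        obtain ⟨l, rfl⟩ := isConj_iff.mp hcv
        have h' : (k⁻¹ * l) * v' * (k⁻¹ * l)⁻¹ ∈ V.map (MulAut.conj (k⁻¹ * l)).toMonoidHom := ⟨v', hv', rfl⟩
        have := congrArg (MulAut.conj k) (hVW _ (hKc V hV (k⁻¹ * l)) u' hu' _ h')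
        simpa [mul_assoc] using this
      intro u hu
      rw [Subgroup.mem_center_iff]
      intro v
      exact congrArg Subtype.val (mul_comm' (⟨v, hnb ▸ Subgroup.mem_top v⟩ : ↥(Subgroup.normalClosure (V : Set G))) ⟨u, hu⟩)
    exact Subgroup.mem_center_iff.mp (hcl (hnb ▸ Subgroup.mem_top b)) a
  have htop : ∀ Z ∈ K, Z = ⊤ := by
    intro Z hZ
    have hn : Z.Normal := ⟨fun z hz w => by rw [hab w z]; simpa using hz⟩
    refine hn.eq_bot_or_eq_top.resolve_left (fun h => ?_)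
    have := hK Z hZ
    rw [h, Subgroup.card_bot] at this
    exact hp.one_lt.ne this
  exact hne ((htop X hX).trans (htop Y hY).symm)

end Cfsg.Agent.S3196
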