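import Mathlib
import Cfsg.Statements.S3200
import Cfsg.Agent.Lib.Characters.Kernel
import Cfsg.Agent.Lib.Coprime.Hall

set_option autoImplicit false
open Cfsg

namespace Cfsg.Agent.S3200

/-- An abelian subgroup of odd order and `2`-power index. -/
def Split (H : Type*) [Group H] : Prop :=
  ∃ C : Subgroup H, IsMulCommutative ↥C ∧ Odd (Nat.card ↥C) ∧ ∃ k : ℕ, C.index = 2 ^ k

theorem Split.quotient {H : Type*} [Group H] [Finite H] (h : Split H) (N : Subgroup H) [N.Normal] : Split (H ⧸ N) := by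
  obtain ⟨C, hC, hodd, k, hk⟩ := h
  refine ⟨C.map (QuotientGroup.mk' N), ⟨⟨?_⟩⟩, hodd.of_dvd_nat (Subgroup.card_map_dvd C _), ?_⟩
  · rintro ⟨_, a, ha, rfl⟩ ⟨_, b, hb, rfl⟩
    apply Subtype.ext
    show QuotientGroup.mk' N a * QuotientGroup.mk' N b = QuotientGroup.mk' N b * QuotientGroup.mk' N a
    rw [← map_mul, ← map_mul]
    exact congrArg _ (congrArg Subtype.val (hC.is_comm.comm ⟨a, ha⟩ ⟨b, hb⟩))
  · obtain ⟨i, -, hi⟩ := (Nat.dvd_prime_pow Nat.prime_two).mp
      (hk ▸ Subgroup.index_map_dvd C (QuotientGroup.mk'_surjective N))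
    exact ⟨i, hi⟩

theorem Split.normal {H : Type*} [Group H] [Finite H] (h : Split H) (N : Subgroup H) [N.Normal] : Split ↥N := by
  obtain ⟨C, hC, hodd, k, hk⟩ := h
  refine ⟨C.subgroupOf N, ⟨⟨?_⟩⟩,
    hodd.of_dvd_nat (Subgroup.card_comap_dvd_of_injective C N.subtype N.subtype_injective), ?_⟩
  · intro a b
    apply Subtype.ext
    apply Subtype.ext
    show (((a : ↥N) : H)) * ((b : ↥N) : H) = ((b : ↥N) : H) * ((a : ↥N) : H)
    exact congrArg Subtype.val (hC.is_comm.comm ⟨_, Subgroup.mem_subgroupOf.mp a.2⟩ ⟨_, Subgroup.mem_subgroupOf.mp b.2⟩)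
  have h1 : (C.subgroupOf N).index ∣ 2 ^ k := by
    refine dvd_trans ?_ (hk ▸ Subgroup.relIndex_dvd_index_of_le (le_sup_left : C ≤ C ⊔ N))
    have hc1 := Subgroup.card_mul_index (C.subgroupOf (C ⊔ N))
    have hc2 := Subgroup.card_mul_index (N.subgroupOf (C ⊔ N))
    have hc3 := Subgroup.card_mul_index (N.subgroupOf C)
    have hc4 := Subgroup.card_mul_index (C.subgroupOf N)
    have h5 : Nat.card ↥(N.subgroupOf C) = Nat.card ↥(C.subgroupOf N) := by
      have e1 := Nat.card_congr (Subgroup.subgroupOfEquivOfLe (inf_le_right : N ⊓ C ≤ C)).toEquiv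
      have e2 := Nat.card_congr (Subgroup.subgroupOfEquivOfLe (inf_le_right : C ⊓ N ≤ N)).toEquiv
      rw [Subgroup.inf_subgroupOf_right] at e1 e2
      rw [e1, e2, inf_comm]
    rw [Nat.card_congr (Subgroup.subgroupOfEquivOfLe (le_sup_left : C ≤ C ⊔ N)).toEquiv] at hc1
    rw [Nat.card_congr (Subgroup.subgroupOfEquivOfLe (le_sup_right : N ≤ C ⊔ N)).toEquiv] at hc2
    have h3 : (N.subgroupOf (C ⊔ N)).index = (N.subgroupOf C).index := Subgroup.relIndex_sup_right C N
    rw [h3] at hc2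
    show (C.subgroupOf N).index ∣ (C.subgroupOf (C ⊔ N)).index
    refine ⟨1, Nat.eq_of_mul_eq_mul_left (Nat.card_pos (α := ↥C)) ?_⟩
    rw [mul_one, hc1, ← hc2, ← hc4, ← hc3, h5]
    ring
  obtain ⟨i, -, hi⟩ := (Nat.dvd_prime_pow Nat.prime_two).mp h1
  exact ⟨i, hi⟩

universe u

theorem solvable_of_split : ∀ (n : ℕ) {H : Type u} [Group H] [Finite H], Nat.card H = n → Split H →
    Group.IsSolvable H := by
  intro n
  induction n using Nat.strong_induction_on with
  | _ n ih =>
    intro H _ _ hn h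
    rcases subsingleton_or_nontrivial H with hs | hs
    · exact Group.isSolvable_of_comm fun a b => Subsingleton.elim _ _
    by_cases hsimp : IsSimpleGroup H
    · obtain ⟨C, hC, hodd, k, hk⟩ := h
      by_cases hC1 : C = ⊥
      · have : Fact (Nat.Prime 2) := ⟨Nat.prime_two⟩
        have h2 : IsPGroup 2 H := IsPGroup.of_card (n := k) (by rw [← hk, hC1, Subgroup.index_bot])
        have : Group.IsNilpotent H := h2.isNilpotent
        infer_instance
      · obtain ⟨c, hc, hc1⟩ := C.bot_or_exists_ne_one.resolve_left hC1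
        have hle : C ≤ Subgroup.centralizer ({c} : Set H) := fun w hw =>
          Subgroup.mem_centralizer_singleton_iff.mpr (congrArg Subtype.val (hC.is_comm.comm ⟨w, hw⟩ ⟨c, hc⟩))
        obtain ⟨i, -, hi⟩ := (Nat.dvd_prime_pow Nat.prime_two).mp (hk ▸ Subgroup.index_dvd_of_le hle)
        have hp := Cfsg.Agent.Lib.Characters.card_prime_of_class_primePow Nat.prime_two hc1 hi
        have : Fact (Nat.card H).Prime := ⟨hp⟩
        have hcyc : IsCyclic H := isCyclic_of_prime_card rfl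
        exact Group.isSolvable_of_comm fun a b => hcyc.isMulCommutative.is_comm.comm a b
    · obtain ⟨N, hN, hNb, hNt⟩ : ∃ N : Subgroup H, N.Normal ∧ N ≠ ⊥ ∧ N ≠ ⊤ := by
        by_contra hcon
        exact hsimp ⟨fun N hN => or_iff_not_imp_left.mpr fun hb => by_contra fun ht => hcon ⟨N, hN, hb, ht⟩⟩
      have h1 : Group.IsSolvable ↥N := ih _ (hn ▸ (lt_of_le_of_ne (Subgroup.card_le_card_group N)
        (fun h => hNt (Subgroup.eq_top_of_card_eq N h)))) rfl (h.normal N)
      have h2 : Group.IsSolvable (H ⧸ N) := by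
        refine ih _ ?_ rfl (h.quotient N)
        have hc := N.card_eq_card_quotient_mul_card_subgroup
        have h3 : 1 < Nat.card ↥N := Finite.one_lt_card_iff_nontrivial.mpr ((Subgroup.nontrivial_iff_ne_bot N).mpr hNb)
        rw [← hn, hc]
        exact lt_mul_of_one_lt_right Nat.card_pos h3
      exact Group.isSolvable_of_ker_le_range N.subtype (QuotientGroup.mk' N) (by rw [QuotientGroup.ker_mk', Subgroup.range_subtype])

theorem sylow_of_split {H : Type*} [Group H] [Finite H] (h : Split H) :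
    ∃ (P : Sylow 2 H) (D : Subgroup H), IsMulCommutative ↥D ∧ Subgroup.IsComplement' (P : Subgroup H) D := by
  have : Fact (Nat.Prime 2) := ⟨Nat.prime_two⟩
  obtain ⟨D, hD, hodd, k, hk⟩ := h
  obtain ⟨P⟩ : Nonempty (Sylow 2 H) := inferInstance
  refine ⟨P, D, hD, ?_⟩
  obtain ⟨i, hi⟩ := P.2.exists_card_eq
  have hcop : Nat.Coprime (Nat.card ↥(P : Subgroup H)) (Nat.card ↥D) := by
    rw [hi]; exact (Nat.coprime_two_left.mpr hodd).pow_left i
  refine Subgroup.isComplement'_of_coprime ?_ hcop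
  have hcard : Nat.card ↥D * 2 ^ k = Nat.card H := hk ▸ Subgroup.card_mul_index D
  have h1 : Nat.card ↥(P : Subgroup H) ∣ 2 ^ k := by
    refine Nat.Coprime.dvd_of_dvd_mul_left hcop ?_
    rw [hcard]
    exact Subgroup.card_subgroup_dvd_card _
  have h2 : 2 ^ k ∣ Nat.card ↥(P : Subgroup H) := P.pow_dvd_card_of_pow_dvd_card (hcard ▸ dvd_mul_left _ _)
  rw [Nat.dvd_antisymm h1 h2, mul_comm, hcard]

/-- Let H be a finite group in which a Sylow 2-subgroup has an abelian complement (an abelian subgroup meeting it trivially whose product with it is all of H). Then H is solvable, and every subgroup and every quotient group of H again has a Sylow 2-subgroup with an abelian complement. -/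
theorem result {H : Type*} [Group H] [Finite H]
    (S : Sylow 2 H) (C : Subgroup H) (hC : IsMulCommutative ↥C) (hSC : Subgroup.IsComplement' (S : Subgroup H) C) :
    Group.IsSolvable H ∧
    (∀ L : Subgroup H, ∃ (P : Sylow 2 ↥L) (D : Subgroup ↥L), IsMulCommutative ↥D ∧ Subgroup.IsComplement' (P : Subgroup ↥L) D) ∧
    (∀ (N : Subgroup H) [N.Normal], ∃ (P : Sylow 2 (H ⧸ N)) (D : Subgroup (H ⧸ N)),
      IsMulCommutative ↥D ∧ Subgroup.IsComplement' (P : Subgroup (H ⧸ N)) D) := by
  have : Fact (Nat.Prime 2) := ⟨Nat.prime_two⟩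
  have hodd : Odd (Nat.card ↥C) := by
    have h1 : ¬ 2 ∣ (S : Subgroup H).index := S.not_dvd_index
    rw [hSC.symm.index_eq_card] at h1
    exact Nat.odd_iff.mpr (Nat.two_dvd_ne_zero.mp h1)
  obtain ⟨k, hk⟩ := S.2.exists_card_eq
  have hidx : C.index = 2 ^ k := by rw [hSC.index_eq_card, hk]
  have hsp : Split H := ⟨C, hC, hodd, k, hidx⟩
  have hsol : Group.IsSolvable H := solvable_of_split _ rfl hsp
  refine ⟨hsol, fun L => sylow_of_split ?_, fun N _ => sylow_of_split (hsp.quotient N)⟩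
  obtain ⟨D, hD1, hD2⟩ := Cfsg.Agent.Lib.Coprime.exists_hall_of_solvable (G := ↥L) (fun p => p ≠ 2)
  have hDodd : Odd (Nat.card ↥D) := by
    rw [← Nat.not_even_iff_odd, even_iff_two_dvd]
    exact fun h2 => hD1 2 Nat.prime_two h2 rfl
  refine ⟨D, ?_, hDodd, ?_⟩
  · obtain ⟨g, hg⟩ := Cfsg.Agent.Lib.Coprime.exists_le_conj_of_solvable (H := C) (K := D.map L.subtype)
      (by rw [hidx]; exact (Nat.coprime_two_right.mpr hodd).pow_right k)
      (by rw [hidx, Subgroup.card_map_of_injective L.subtype_injective]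
          exact (Nat.coprime_two_right.mpr hDodd).pow_right k)
    refine ⟨⟨fun a b => ?_⟩⟩
    obtain ⟨a', ha', ha''⟩ := hg (Subgroup.mem_map_of_mem L.subtype a.2)
    obtain ⟨b', hb', hb''⟩ := hg (Subgroup.mem_map_of_mem L.subtype b.2)
    apply Subtype.ext
    apply Subtype.ext
    show ((a : ↥L) : H) * ((b : ↥L) : H) = ((b : ↥L) : H) * ((a : ↥L) : H)
    change MulAut.conj g a' = ((a : ↥L) : H) at ha''
    change MulAut.conj g b' = ((b : ↥L) : H) at hb''
    rw [← ha'', ← hb'', ← map_mul, ← map_mul]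
    exact congrArg _ (congrArg Subtype.val (hC.is_comm.comm ⟨a', ha'⟩ ⟨b', hb'⟩))
  · have hne : D.index ≠ 0 := Subgroup.index_ne_zero_of_finite
    refine ⟨_, Nat.eq_prime_pow_of_unique_prime_dvd hne (p := 2) fun {q} hq hqd => ?_⟩
    exact not_not.mp (hD2 q hq hqd)

end Cfsg.Agent.S3200
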