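import Mathlib
import Cfsg.Statements.S3201
import Cfsg.Agent.Lib.InvChar.CentralQuaternion
import Cfsg.Agent.Lib.Involutions.TwoGroupRec

set_option autoImplicit false
open Cfsg

namespace Cfsg.Agent.S3201

/-- Let S be a finite 2-group whose centre Z(S) has n ≥ 2 distinct maximal subgroups C₁, …, Cₙ with trivial intersection such that each quotient S/Cᵢ is a non-abelian group with exactly one involution (a generalized quaternion group). Then S is the internal direct product of an elementary abelian subgroup and a non-abelian subgroup with exactly one involution. -/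
theorem result {S : Type*} [Group S] [Finite S]
    (hS : IsPGroup 2 S) (n : ℕ) (hn : 2 ≤ n) (C : Fin n → Subgroup ↥(Subgroup.center S))
    (hCmax : ∀ i, IsCoatom (C i)) (hCinj : Function.Injective C) (hCint : ⨅ i, C i = ⊥)
    (hCq : ∀ i, ∃ (_ : ((C i).map (Subgroup.center S).subtype).Normal),
      ¬ IsMulCommutative (S ⧸ (C i).map (Subgroup.center S).subtype) ∧
      ∃! x : S ⧸ (C i).map (Subgroup.center S).subtype, orderOf x = 2) :
    ∃ E Q : Subgroup S, Cfsg.IsInternalDirectProduct E Q ⊤ ∧ Cfsg.IsElementaryAbelian 2 E ∧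
      ¬ IsMulCommutative ↥Q ∧ ∃! x : ↥Q, orderOf x = 2 := by
  have : NeZero n := ⟨by omega⟩
  have hZ2 : ∀ z ∈ Subgroup.center S, z ^ 2 = 1 := by
    intro z hz
    have h1 : (⟨z, hz⟩ : ↥(Subgroup.center S)) ^ 2 ∈ ⨅ i, C i := by
      rw [Subgroup.mem_iInf]
      intro i
      have hidx := Cfsg.Agent.Lib.InvChar.index_coatom (hS.to_subgroup _) (hCmax i)
      rw [pow_two]
      exact (Subgroup.mul_mem_iff_of_index_two hidx).mpr Iff.rfl
    rw [hCint, Subgroup.mem_bot] at h1
    exact congrArg Subtype.val h1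
  obtain ⟨i0⟩ : Nonempty (Fin n) := ⟨0⟩
  obtain ⟨hn0, hnc, hu⟩ := hCq i0
  obtain ⟨m, π, hm2, hme, hsurj, hker⟩ := Cfsg.Agent.Lib.InvChar.exists_quaternion_proj hS hnc hu
  have : NeZero m := ⟨by omega⟩
  have hKZ : π.ker ≤ Subgroup.center S := hker ▸ Subgroup.map_subtype_le (C i0)
  have hout : ∀ (i : Fin n) (s : S), s ∉ Subgroup.center S → ∀ h2 : s ^ 2 ∈ Subgroup.center S,
      (⟨s ^ 2, h2⟩ : ↥(Subgroup.center S)) ∉ C i := by
    intro i s hs h2 hmem
    obtain ⟨hni, -, hui⟩ := hCq i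
    set K := (C i).map (Subgroup.center S).subtype with hK
    obtain ⟨z, hz⟩ : ∃ z, z ∉ C i := by
      by_contra hcon
      simp only [not_exists, not_not] at hcon
      exact (hCmax i).1 (eq_top_iff.mpr fun z _ => hcon z)
    have hzK : ((z : S) : S ⧸ K) ≠ 1 := fun h1 => by
      obtain ⟨w, hw, hwz⟩ := (QuotientGroup.eq_one_iff (z : S)).mp h1
      exact hz (Subtype.ext (p := (· ∈ Subgroup.center S)) hwz ▸ hw)
    have hz2 : orderOf ((z : S) : S ⧸ K) = 2 :=
      orderOf_eq_prime (by rw [← QuotientGroup.mk_pow, hZ2 z z.2, QuotientGroup.mk_one]) hzK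
    have hs1 : (s : S ⧸ K) ^ 2 = 1 := by
      rw [← QuotientGroup.mk_pow]
      exact (QuotientGroup.eq_one_iff _).mpr ⟨⟨s ^ 2, h2⟩, hmem, rfl⟩
    by_cases h1 : (s : S ⧸ K) = 1
    · exact hs (Subgroup.map_subtype_le _ ((QuotientGroup.eq_one_iff s).mp h1))
    · have heq := hui.unique (orderOf_eq_prime hs1 h1) hz2
      rw [QuotientGroup.eq] at heq
      have h3 : s⁻¹ * z ∈ Subgroup.center S := Subgroup.map_subtype_le _ heq
      exact hs (by simpa using mul_mem z.2 (inv_mem h3))
  have hsame : ∀ s t : S, s ∉ Subgroup.center S → t ∉ Subgroup.center S →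
      s ^ 2 ∈ Subgroup.center S → t ^ 2 ∈ Subgroup.center S → s ^ 2 = t ^ 2 := by
    intro s t hs ht h1 h2
    have h3 : (⟨s ^ 2, h1⟩ : ↥(Subgroup.center S)) * (⟨t ^ 2, h2⟩ : ↥(Subgroup.center S)) ∈ ⨅ i, C i := by
      rw [Subgroup.mem_iInf]
      exact fun i => (Subgroup.mul_mem_iff_of_index_two
        (Cfsg.Agent.Lib.InvChar.index_coatom (hS.to_subgroup _) (hCmax i))).mpr
          (iff_of_false (hout i s hs h1) (hout i t ht h2))
    rw [hCint, Subgroup.mem_bot] at h3
    have h4 : s ^ 2 * t ^ 2 = 1 := congrArg Subtype.val h3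
    have h5 : t ^ 2 * t ^ 2 = 1 := by rw [← pow_two]; exact hZ2 _ h2
    exact mul_right_cancel (h4.trans h5.symm)
  -- `s` lies outside the centre as soon as its image is not central of order `≤ 2`
  have hnotZ : ∀ s : S, π s ^ 2 ≠ 1 → s ∉ Subgroup.center S := fun s h hs => h (by
    rw [← map_pow, hZ2 s hs, map_one])
  have : NeZero (2 * m) := ⟨by omega⟩
  have haord : orderOf (QuaternionGroup.a 1 : QuaternionGroup m) = 2 * m := QuaternionGroup.orderOf_a_one
  have hxa : ∀ i : ZMod (2 * m), (QuaternionGroup.xa i : QuaternionGroup m) ^ 2 ≠ 1 := fun i h => by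
    have := orderOf_dvd_of_pow_eq_one h
    rw [QuaternionGroup.orderOf_xa] at this
    omega
  have hzc : ∀ s : S, π s ^ 2 = QuaternionGroup.a 1 ^ m → s ^ 2 ∈ Subgroup.center S := by
    intro s hs
    obtain ⟨z0, hz0, hz0'⟩ : ∃ z0 ∈ Subgroup.center S, π z0 = QuaternionGroup.a 1 ^ m := by
      obtain ⟨z, hz⟩ : ∃ z, z ∉ C i0 := by
        by_contra hcon
        simp only [not_exists, not_not] at hcon
        exact (hCmax i0).1 (eq_top_iff.mpr fun z _ => hcon z)
      refine ⟨z, z.2, ?_⟩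
      have h1 : π (z : S) ≠ 1 := fun h1 => by
        obtain ⟨w, hw, hwz⟩ : (z : S) ∈ (C i0).map (Subgroup.center S).subtype := hker ▸ h1
        exact hz (Subtype.ext (p := (· ∈ Subgroup.center S)) hwz ▸ hw)
      have h2 : π (z : S) ^ 2 = 1 := by rw [← map_pow, hZ2 z z.2, map_one]
      rcases hq : π (z : S) with i | i
      · rw [hq] at h1 h2
        rw [pow_two, QuaternionGroup.a_mul_a, ← QuaternionGroup.a_zero] at h2
        have h3 : i + i = 0 := QuaternionGroup.a.injEq _ _ ▸ h2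
        rw [QuaternionGroup.a_one_pow]
        congr 1
        have h4 : 2 * m ∣ i.val + i.val := by
          rw [← ZMod.natCast_eq_zero_iff, Nat.cast_add]
          simpa using h3
        have h5 : i.val ≠ 0 := fun h0 => h1 (by rw [(ZMod.val_eq_zero i).mp h0, QuaternionGroup.a_zero])
        have h6 : i.val < 2 * m := ZMod.val_lt i
        obtain ⟨k, hk⟩ := h4
        have hk2 : k < 2 := by
          by_contra hk'
          have h7 : 2 * m * 2 ≤ 2 * m * k := Nat.mul_le_mul_left _ (not_lt.mp hk')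
          omega
        interval_cases k
        · omega
        · have h8 : i.val = m := by omega
          rw [← ZMod.natCast_zmod_val i, h8]
      · rw [hq] at h2
        exact absurd h2 (hxa i)
    have h1 : z0⁻¹ * s ^ 2 ∈ Subgroup.center S := hKZ (by
      rw [MonoidHom.mem_ker, map_mul, map_inv, map_pow, hs, hz0', inv_mul_cancel])
    simpa using mul_mem hz0 h1
  obtain ⟨x, hx⟩ := hsurj (QuaternionGroup.a 1)
  obtain ⟨y, hy⟩ := hsurj (QuaternionGroup.xa 0)
  have hπy : π y ^ 2 = QuaternionGroup.a 1 ^ m := by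
    rw [hy, QuaternionGroup.xa_sq, QuaternionGroup.a_one_pow]
  obtain ⟨l, hl⟩ := hme
  have hwz : (x ^ l) ^ 2 = x ^ m := by rw [← pow_mul, hl, mul_two]
  have hwnot : x ^ l ∉ Subgroup.center S := hnotZ _ (by
    rw [← map_pow, hwz, map_pow, hx]
    intro h1
    have := Nat.le_of_dvd (by omega) (haord ▸ orderOf_dvd_of_pow_eq_one h1)
    omega)
  have hynot : y ∉ Subgroup.center S := hnotZ _ (by rw [hy]; exact hxa 0)
  have hyx : π (y * x) = QuaternionGroup.xa 1 := by
    rw [map_mul, hx, hy, QuaternionGroup.xa_mul_a, zero_add]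
  have hyxnot : y * x ∉ Subgroup.center S := hnotZ _ (by rw [hyx]; exact hxa 1)
  have hy2Z := hzc y hπy
  have hxm : x ^ m = y ^ 2 := by
    rw [← hwz]
    exact hsame _ _ hwnot hynot (hzc _ (by rw [← map_pow, hwz, map_pow, hx])) hy2Z
  have hyx2 : (y * x) ^ 2 = y ^ 2 :=
    hsame _ _ hyxnot hynot (hzc _ (by rw [hyx, QuaternionGroup.xa_sq, QuaternionGroup.a_one_pow])) hy2Z
  have hconj : y * x * y⁻¹ = x⁻¹ := by
    have h1 : x * y * x = y := by
      have h2 : y * (x * y * x) = y * y := by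
        calc y * (x * y * x) = (y * x) ^ 2 := by rw [pow_two]; group
          _ = y * y := by rw [hyx2, pow_two]
      exact mul_left_cancel h2
    calc y * x * y⁻¹ = x⁻¹ * (x * y * x) * y⁻¹ := by group
      _ = x⁻¹ := by rw [h1, mul_inv_cancel_right]
  have hxord : orderOf x = 2 * m := by
    apply Nat.dvd_antisymm
    · refine orderOf_dvd_of_pow_eq_one ?_
      rw [two_mul, pow_add, hxm, ← pow_two]
      exact hZ2 _ hy2Z
    · have h1 := orderOf_map_dvd π x
      rwa [hx, haord] at h1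
  have hyxz : y ∉ Subgroup.zpowers x := fun h => by
    obtain ⟨k, hk⟩ := Subgroup.mem_zpowers_iff.mp h
    have h1 := congrArg π hk
    rw [map_zpow, hx, hy] at h1
    have h2 : (QuaternionGroup.xa 0 : QuaternionGroup m) ∈ Subgroup.zpowers (QuaternionGroup.a 1) := ⟨k, h1⟩
    rw [← mem_powers_iff_mem_zpowers] at h2
    obtain ⟨j, hj⟩ := h2
    simp only [QuaternionGroup.a_one_pow] at hj
    exact absurd hj (by simp)
  obtain ⟨F, hFinj, hFx, hFy⟩ := Cfsg.Agent.Lib.Involutions.exists_quaternionHom hxord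
    (by rw [zpow_natCast, hxm, pow_two]) hyxz hconj
  have hid : ∀ q, π (F q) = q := by
    intro q
    rcases Cfsg.Agent.Lib.InvChar.mem_zpowers_a_or q with ⟨k, rfl⟩ | ⟨k, rfl⟩
    · simp only [map_zpow, hFx, hx]
    · simp only [map_mul, map_pow, hFx, hFy, hx, hy]
  refine ⟨π.ker, F.range, ⟨le_top, le_top, ?_, ?_, ?_⟩, ⟨?_, ?_⟩, ?_, ?_⟩
  · intro a ha b _
    exact (Subgroup.mem_center_iff.mp (hKZ ha) b).symm
  · rw [eq_bot_iff]
    rintro _ ⟨ha, q, rfl⟩
    have h1 : π (F q) = 1 := ha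
    rw [hid] at h1
    rw [Subgroup.mem_bot, h1, map_one]
  · rw [eq_top_iff]
    intro s _
    have h1 : s * (F (π s))⁻¹ ∈ π.ker := by rw [MonoidHom.mem_ker, map_mul, map_inv, hid, mul_inv_cancel]
    simpa using mul_mem (Subgroup.mem_sup_left (T := F.range) h1) (Subgroup.mem_sup_right (S := π.ker) ⟨π s, rfl⟩)
  · exact ⟨⟨fun a b => Subtype.ext (Subgroup.mem_center_iff.mp (hKZ b.2) a)⟩⟩
  · exact fun a ha => hZ2 a (hKZ ha)
  · intro hcom
    apply hnc
    let e : S ⧸ (C i0).map (Subgroup.center S).subtype ≃* ↥F.range :=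
      ((QuotientGroup.quotientMulEquivOfEq hker.symm).trans
        (QuotientGroup.quotientKerEquivOfSurjective π hsurj)).trans (MonoidHom.ofInjective hFinj)
    exact ⟨⟨fun a b => e.injective (by rw [map_mul, map_mul]; exact hcom.is_comm.comm _ _)⟩⟩
  · let e : S ⧸ (C i0).map (Subgroup.center S).subtype ≃* ↥F.range :=
      ((QuotientGroup.quotientMulEquivOfEq hker.symm).trans
        (QuotientGroup.quotientKerEquivOfSurjective π hsurj)).trans (MonoidHom.ofInjective hFinj)
    obtain ⟨w, hw, huw⟩ := hu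
    refine ⟨e w, (MulEquiv.orderOf_eq e w).trans hw, fun v hv => ?_⟩
    rw [← huw (e.symm v) ((MulEquiv.orderOf_eq e.symm v).trans hv), e.apply_symm_apply]

end Cfsg.Agent.S3201
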