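import Mathlib
import Cfsg.Statements.S3202
import Cfsg.Agent.Lib.InvChar.CentralQuaternion

set_option autoImplicit false
open Cfsg

namespace Cfsg.Agent.S3202

/-- Let S be a finite 2-group of 2-rank exactly 2 and D a maximal subgroup of the centre of S such that S/D is a non-abelian group with exactly one involution (a generalized quaternion group). Then S has a nontrivial cyclic characteristic subgroup. -/
theorem result {S : Type*} [Group S]
    [Finite S] (hS : IsPGroup 2 S) (hr2 : Cfsg.PRankLE 2 2 S) (hr1 : ¬ Cfsg.PRankLE 2 1 S)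
    (D : Subgroup ↥(Subgroup.center S)) (hD : IsCoatom D)
    (hq : ∃ (_ : (D.map (Subgroup.center S).subtype).Normal),
      ¬ IsMulCommutative (S ⧸ D.map (Subgroup.center S).subtype) ∧
      ∃! x : S ⧸ D.map (Subgroup.center S).subtype, orderOf x = 2) :
    ∃ C : Subgroup S, C ≠ ⊥ ∧ IsCyclic ↥C ∧ C.Characteristic := by
  obtain ⟨hn, hnc, hu⟩ := hq
  obtain ⟨n, π, hn2, -, hsurj, hker⟩ := Cfsg.Agent.Lib.InvChar.exists_quaternion_proj hS hnc hu
  have : NeZero n := ⟨by omega⟩
  have hKZ : π.ker ≤ Subgroup.center S := hker ▸ Subgroup.map_subtype_le D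
  obtain ⟨x, hx⟩ := hsurj (QuaternionGroup.a 1)
  obtain ⟨y, hy⟩ := hsurj (QuaternionGroup.xa 0)
  set c := x * y * x⁻¹ * y⁻¹ with hc
  have hπc : π c = QuaternionGroup.a 1 ^ 2 := by
    have e : (QuaternionGroup.a 1 : QuaternionGroup n) * QuaternionGroup.xa 0 * (QuaternionGroup.a 1)⁻¹ *
        (QuaternionGroup.xa 0)⁻¹ = QuaternionGroup.a 1 ^ 2 := by
      rw [mul_inv_eq_iff_eq_mul, mul_inv_eq_iff_eq_mul, pow_two]
      simp [QuaternionGroup.a_mul_a, QuaternionGroup.a_mul_xa, QuaternionGroup.xa_mul_a]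
    simp only [hc, map_mul, map_inv, hx, hy]
    exact e
  set d := (x ^ 2)⁻¹ * c with hd
  have hdZ : d ∈ Subgroup.center S := hKZ (by
    rw [MonoidHom.mem_ker, hd, map_mul, map_inv, map_pow, hx, hπc, inv_mul_cancel])
  have hcd : c = x ^ 2 * d := by rw [hd, mul_inv_cancel_left]
  have hcomm := Subgroup.mem_center_iff.mp hdZ
  have hxc : x * c = c * x := by
    rw [hcd, ← mul_assoc, ← pow_succ', pow_succ, mul_assoc, hcomm x, ← mul_assoc]
  have hyc : y * c * y⁻¹ = c⁻¹ := by
    have h1 : y * x * y⁻¹ = c⁻¹ * x := by rw [hc]; group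
    calc y * c * y⁻¹ = (y * x * y⁻¹) ^ 2 * (y * d * y⁻¹) := by rw [hcd, conj_pow]; group
      _ = (c⁻¹ * x) ^ 2 * d := by rw [h1, hcomm y, mul_inv_cancel_right]
      _ = c⁻¹ * c⁻¹ * (x ^ 2 * d) := by
          rw [(show Commute c⁻¹ x from (show Commute c x from hxc.symm).inv_left).mul_pow, pow_two c⁻¹, mul_assoc]
      _ = c⁻¹ := by rw [← hcd, inv_mul_cancel_right]
  set N := Subgroup.zpowers c with hN
  have hNn : N.Normal := by
    rw [← Subgroup.normalizer_eq_top_iff]
    refine Cfsg.Agent.Lib.InvChar.closure_eq_top (π := π) (K := Subgroup.center S) hKZ hx hy ?_ ?_ ?_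
    · refine Subgroup.centralizer_le_normalizer _ ?_
      rw [hN, Subgroup.zpowers_eq_closure, Subgroup.centralizer_closure, Subgroup.mem_centralizer_singleton_iff]
      exact hxc
    · rw [Subgroup.mem_normalizer_iff]
      intro w
      rw [hN]
      constructor
      · intro hw
        obtain ⟨k, rfl⟩ := Subgroup.mem_zpowers_iff.mp hw
        rw [← conj_zpow, hyc, inv_zpow]
        exact inv_mem (Subgroup.zpow_mem_zpowers c k)
      · intro hw
        obtain ⟨k, hk⟩ := Subgroup.mem_zpowers_iff.mp hw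
        refine Subgroup.mem_zpowers_iff.mpr ⟨-k, ?_⟩
        have h3 : y * c ^ (-k) * y⁻¹ = y * w * y⁻¹ := by
          rw [← conj_zpow, hyc, inv_zpow, ← zpow_neg, neg_neg, hk]
        exact mul_left_cancel (mul_right_cancel h3)
    · intro z hz
      refine Subgroup.centralizer_le_normalizer _ ?_
      exact Subgroup.center_le_centralizer _ hz
  have hcN : (x : S ⧸ N) * (y : S ⧸ N) = (y : S ⧸ N) * (x : S ⧸ N) := by
    have h1 : ((c : S) : S ⧸ N) = 1 := (QuotientGroup.eq_one_iff c).mpr (Subgroup.mem_zpowers c)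
    have h2 : x * y = c * (y * x) := by rw [hc]; group
    rw [← QuotientGroup.mk_mul, h2, QuotientGroup.mk_mul, h1, one_mul, QuotientGroup.mk_mul]
  set M := (Subgroup.center (S ⧸ N)).comap (QuotientGroup.mk' N) with hM
  have hZM : Subgroup.center S ≤ M := fun z hz => Subgroup.mem_center_iff.mpr fun g => by
    obtain ⟨g, rfl⟩ := QuotientGroup.mk'_surjective N g
    rw [← map_mul, ← map_mul, Subgroup.mem_center_iff.mp hz g]
  have hmem : ∀ w : S, ((w : S ⧸ N) * (x : S ⧸ N) = (x : S ⧸ N) * w) →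
      ((w : S ⧸ N) * (y : S ⧸ N) = (y : S ⧸ N) * w) → w ∈ M := by
    intro w h1 h2
    refine Subgroup.mem_center_iff.mpr fun g => ?_
    obtain ⟨g, rfl⟩ := QuotientGroup.mk'_surjective N g
    have htop : (Subgroup.centralizer {(w : S ⧸ N)}).comap (QuotientGroup.mk' N) = ⊤ :=
      Cfsg.Agent.Lib.InvChar.closure_eq_top (π := π) (K := Subgroup.center S) hKZ hx hy
        (Subgroup.mem_centralizer_singleton_iff.mpr h1.symm) (Subgroup.mem_centralizer_singleton_iff.mpr h2.symm)
        (fun z hz => Subgroup.mem_centralizer_singleton_iff.mpr ((Subgroup.mem_center_iff.mp (hZM hz) _).symm))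
    exact Subgroup.mem_centralizer_singleton_iff.mp (htop.ge (Subgroup.mem_top g))
  have hMtop : M = ⊤ := Cfsg.Agent.Lib.InvChar.closure_eq_top (π := π) (K := Subgroup.center S) hKZ hx hy
    (hmem x rfl hcN) (hmem y hcN.symm rfl) hZM
  have hle : commutator S ≤ N := by
    refine Subgroup.commutator_le.mpr fun a _ b _ => ?_
    have h1 := Subgroup.mem_center_iff.mp (hMtop.ge (Subgroup.mem_top a)) (QuotientGroup.mk' N b)
    rw [← QuotientGroup.eq_one_iff]
    simp only [QuotientGroup.mk'_apply] at h1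
    simp only [commutatorElement_def, QuotientGroup.mk_mul, QuotientGroup.mk_inv]
    rw [← h1, mul_inv_cancel_right, mul_inv_cancel]
  refine ⟨commutator S, fun h => ?_, ?_, inferInstance⟩
  · have hc1 : c = 1 := by
      rw [← Subgroup.mem_bot, ← h, hc]
      exact Subgroup.commutator_mem_commutator (Subgroup.mem_top x) (Subgroup.mem_top y)
    have h2 := orderOf_dvd_of_pow_eq_one (show (QuaternionGroup.a 1 : QuaternionGroup n) ^ 2 = 1 by
      rw [← hπc, hc1, map_one])
    rw [QuaternionGroup.orderOf_a_one] at h2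
    have := Nat.le_of_dvd two_pos h2
    omega
  · exact Subgroup.isCyclic_of_le hle

end Cfsg.Agent.S3202
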