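import Mathlib
import Cfsg.Statements.S3203
import Cfsg.Agent.Lib.InvChar.Basic

set_option autoImplicit false
open Cfsg
open scoped Pointwise

namespace Cfsg.Agent.S3203

open Cfsg.Agent.Lib.InvChar

variable {G : Type*} [Group G] [Finite G] {S : Sylow 2 G} {A B : Subgroup ↥(S : Subgroup G)}

theorem elem_map {H : Type*} [Group H] {C : Subgroup ↥(S : Subgroup G)} (hC : Cfsg.IsElementaryAbelian 2 C)
    (f : ↥(S : Subgroup G) →* H) : Cfsg.IsElementaryAbelian 2 (C.map f) := by
  have := hC.1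
  refine ⟨⟨⟨?_⟩⟩, ?_⟩
  · rintro ⟨_, a, ha, rfl⟩ ⟨_, b, hb, rfl⟩
    apply Subtype.ext
    show f a * f b = f b * f a
    rw [← map_mul, ← map_mul]
    exact congrArg f (congrArg Subtype.val (mul_comm' (⟨a, ha⟩ : ↥C) ⟨b, hb⟩))
  · rintro _ ⟨a, ha, rfl⟩
    rw [← map_pow, hC.2 a ha, map_one]

theorem elem_conj {H : Type*} [Group H] {C : Subgroup H} (hC : Cfsg.IsElementaryAbelian 2 C) (g : H) :
    Cfsg.IsElementaryAbelian 2 (C.map (MulAut.conj g).toMonoidHom) := by
  have := hC.1
  refine ⟨⟨⟨?_⟩⟩, ?_⟩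
  · rintro ⟨_, a, ha, rfl⟩ ⟨_, b, hb, rfl⟩
    apply Subtype.ext
    show MulAut.conj g a * MulAut.conj g b = MulAut.conj g b * MulAut.conj g a
    rw [← map_mul, ← map_mul]
    exact congrArg (MulAut.conj g) (congrArg Subtype.val (mul_comm' (⟨a, ha⟩ : ↥C) ⟨b, hb⟩))
  · rintro _ ⟨a, ha, rfl⟩
    rw [← map_pow, hC.2 a ha, map_one]

theorem elem_subgroupOf {C : Subgroup G} (hC : Cfsg.IsElementaryAbelian 2 C) :
    Cfsg.IsElementaryAbelian 2 (C.subgroupOf (S : Subgroup G)) := by
  have := hC.1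
  refine ⟨⟨⟨?_⟩⟩, ?_⟩
  · intro a b
    apply Subtype.ext; apply Subtype.ext
    have h := congrArg Subtype.val (mul_comm' (⟨((a : ↥(S : Subgroup G)) : G), a.2⟩ : ↥C) ⟨((b : ↥(S : Subgroup G)) : G), b.2⟩)
    simpa using h
  · intro a ha
    exact Subtype.ext (hC.2 _ ha)

/-- An element normalising `S` sends `A` to `A` or to `B`. -/
theorem of_map (hA : Cfsg.IsElementaryAbelian 2 A ∧ ∀ C : Subgroup ↥(S : Subgroup G), Cfsg.IsElementaryAbelian 2 C → A ≤ C → C = A)
    (hB : Cfsg.IsElementaryAbelian 2 B ∧ ∀ C : Subgroup ↥(S : Subgroup G), Cfsg.IsElementaryAbelian 2 C → B ≤ C → C = B)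
    (honly : ∀ C : Subgroup ↥(S : Subgroup G), Cfsg.IsElementaryAbelian 2 C →
      (∀ D : Subgroup ↥(S : Subgroup G), Cfsg.IsElementaryAbelian 2 D → C ≤ D → D = C) → C = A ∨ C = B)
    (g : G) (hg : g ∈ Subgroup.normalizer ((S : Subgroup G) : Set G)) :
    (A.map (S : Subgroup G).subtype).map (MulAut.conj g).toMonoidHom = A.map (S : Subgroup G).subtype ∨
      (A.map (S : Subgroup G).subtype).map (MulAut.conj g).toMonoidHom = B.map (S : Subgroup G).subtype := by
  let φ : ↥(S : Subgroup G) ≃* ↥(S : Subgroup G) :=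
    { toFun := fun t => ⟨g * t * g⁻¹, (Subgroup.mem_normalizer_iff.mp hg t).mp t.2⟩
      invFun := fun t => ⟨g⁻¹ * t * g, (Subgroup.mem_normalizer_iff''.mp hg t).mp t.2⟩
      left_inv := fun t => by apply Subtype.ext; simp [mul_assoc]
      right_inv := fun t => by apply Subtype.ext; simp [mul_assoc]
      map_mul' := fun a b => by apply Subtype.ext; simp [mul_assoc] }
  have key := honly (A.map φ.toMonoidHom) (elem_map hA.1 _) (fun D hD hle => ?_)
  · have e : (S : Subgroup G).subtype.comp φ.toMonoidHom = (MulAut.conj g).toMonoidHom.comp (S : Subgroup G).subtype := by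
      ext t; rfl
    rcases key with h | h
    · left
      rw [Subgroup.map_map, ← e, ← Subgroup.map_map, h]
    · right
      rw [Subgroup.map_map, ← e, ← Subgroup.map_map, h]
  · have := hA.2 (D.map φ.symm.toMonoidHom) (elem_map hD _) (fun a ha => ⟨φ a, hle ⟨a, ha, rfl⟩, φ.symm_apply_apply a⟩)
    rw [← this, Subgroup.map_map]
    ext t
    simp

theorem normalizes (hAB : A ≠ B)
    (hA : Cfsg.IsElementaryAbelian 2 A ∧ ∀ C : Subgroup ↥(S : Subgroup G), Cfsg.IsElementaryAbelian 2 C → A ≤ C → C = A)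
    (hB : Cfsg.IsElementaryAbelian 2 B ∧ ∀ C : Subgroup ↥(S : Subgroup G), Cfsg.IsElementaryAbelian 2 C → B ≤ C → C = B)
    (honly : ∀ C : Subgroup ↥(S : Subgroup G), Cfsg.IsElementaryAbelian 2 C →
      (∀ D : Subgroup ↥(S : Subgroup G), Cfsg.IsElementaryAbelian 2 D → C ≤ D → D = C) → C = A ∨ C = B)
    (hprod : ∀ s : ↥(S : Subgroup G), ∃ a ∈ A, ∃ b ∈ B, a * b = s) :
    (S : Subgroup G) ≤ Subgroup.normalizer ((A.map (S : Subgroup G).subtype : Subgroup G) : Set G) := by
  intro s hs
  obtain ⟨a, ha, b, hb, hab⟩ := hprod ⟨s, hs⟩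
  have hself : ∀ (C : Subgroup ↥(S : Subgroup G)) (c : ↥(S : Subgroup G)), c ∈ C →
      (c : G) ∈ Subgroup.normalizer ((C.map (S : Subgroup G).subtype : Subgroup G) : Set G) :=
    fun C c hc => Subgroup.le_normalizer ⟨c, hc, rfl⟩
  have hs' : s = (a : G) * (b : G) := (congrArg Subtype.val hab).symm
  rw [hs']
  refine mul_mem (hself A a ha) ?_
  rw [← map_conj_eq_iff_mem_normalizer]
  rcases of_map hA hB honly (b : G) (Subgroup.le_normalizer b.2) with h | h
  · exact h
  · exfalso
    have h2 := map_conj_eq_iff_mem_normalizer.mpr (hself B b hb)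
    exact hAB (Subgroup.map_injective Subtype.coe_injective (map_conj_injective (h.trans h2.symm)))

theorem normalizer_le (hAB : A ≠ B)
    (hnA : (S : Subgroup G) ≤ Subgroup.normalizer ((A.map (S : Subgroup G).subtype : Subgroup G) : Set G))
    (fA : ∀ g ∈ Subgroup.normalizer ((S : Subgroup G) : Set G),
      (A.map (S : Subgroup G).subtype).map (MulAut.conj g).toMonoidHom = A.map (S : Subgroup G).subtype ∨
      (A.map (S : Subgroup G).subtype).map (MulAut.conj g).toMonoidHom = B.map (S : Subgroup G).subtype)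
    (fB : ∀ g ∈ Subgroup.normalizer ((S : Subgroup G) : Set G),
      (B.map (S : Subgroup G).subtype).map (MulAut.conj g).toMonoidHom = B.map (S : Subgroup G).subtype ∨
      (B.map (S : Subgroup G).subtype).map (MulAut.conj g).toMonoidHom = A.map (S : Subgroup G).subtype) :
    Subgroup.normalizer ((S : Subgroup G) : Set G) ≤
      Subgroup.normalizer ((A.map (S : Subgroup G).subtype : Subgroup G) : Set G) := by
  set N := Subgroup.normalizer ((S : Subgroup G) : Set G)
  set A' := A.map (S : Subgroup G).subtype with hA'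
  set B' := B.map (S : Subgroup G).subtype with hB'
  have hne : A' ≠ B' := fun h => hAB (Subgroup.map_injective Subtype.coe_injective h)
  let K := (Subgroup.normalizer (A' : Set G)).subgroupOf N
  by_contra hc
  obtain ⟨g, hgN, hgA⟩ := SetLike.not_le_iff_exists.mp hc
  have swap : ∀ m ∈ N, m ∉ Subgroup.normalizer (A' : Set G) →
      A'.map (MulAut.conj m).toMonoidHom = B' ∧ B'.map (MulAut.conj m).toMonoidHom = A' := by
    intro m hm hmA
    have h1 := (fA m hm).resolve_left (fun h => hmA (map_conj_eq_iff_mem_normalizer.mp h))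
    refine ⟨h1, (fB m hm).resolve_left (fun h => ?_)⟩
    exact hne (map_conj_injective (h1.trans h.symm))
  have hidx : K.index = 2 := by
    rw [Subgroup.index_eq_two_iff]
    refine ⟨⟨g, hgN⟩, fun m => ?_⟩
    by_cases hm : (m : G) ∈ Subgroup.normalizer (A' : Set G)
    · exact Or.inr ⟨hm, fun h' => hgA ((Subgroup.mul_mem_cancel_left _ hm).mp h')⟩
    · refine Or.inl ⟨?_, hm⟩
      show (m : G) * g ∈ Subgroup.normalizer (A' : Set G)
      rw [← map_conj_eq_iff_mem_normalizer, ← map_conj_mul, (swap g hgN hgA).1, (swap m m.2 hm).2]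
  have hSK : (S : Subgroup G).subgroupOf N ≤ K := fun s hs => hnA hs
  have h1 : 2 ∣ ((S : Subgroup G).subgroupOf N).index := by
    have := Subgroup.index_dvd_of_le hSK; rwa [hidx] at this
  exact S.not_dvd_index (h1.trans (Subgroup.relIndex_dvd_index_of_le Subgroup.le_normalizer))

theorem weakly (hAB : A ≠ B)
    (hA : Cfsg.IsElementaryAbelian 2 A ∧ ∀ C : Subgroup ↥(S : Subgroup G), Cfsg.IsElementaryAbelian 2 C → A ≤ C → C = A)
    (hB : Cfsg.IsElementaryAbelian 2 B ∧ ∀ C : Subgroup ↥(S : Subgroup G), Cfsg.IsElementaryAbelian 2 C → B ≤ C → C = B)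
    (hmem : ∀ C : Subgroup ↥(S : Subgroup G), Cfsg.IsElementaryAbelian 2 C → C ≤ A ∨ C ≤ B)
    (hnA : (S : Subgroup G) ≤ Subgroup.normalizer ((A.map (S : Subgroup G).subtype : Subgroup G) : Set G))
    (hnB : (S : Subgroup G) ≤ Subgroup.normalizer ((B.map (S : Subgroup G).subtype : Subgroup G) : Set G))
    (hN : Subgroup.normalizer ((S : Subgroup G) : Set G) ≤
      Subgroup.normalizer ((A.map (S : Subgroup G).subtype : Subgroup G) : Set G)) :
    Cfsg.IsWeaklyClosed (A.map (S : Subgroup G).subtype) (S : Subgroup G) := by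
  refine ⟨Subgroup.map_subtype_le _, fun g hg => ?_⟩
  set A' := A.map (S : Subgroup G).subtype with hA'
  set B' := B.map (S : Subgroup G).subtype with hB'
  set C := A'.map (MulAut.conj g).toMonoidHom with hC
  have hCC : (C.subgroupOf (S : Subgroup G)).map (S : Subgroup G).subtype = C := by
    rw [Subgroup.subgroupOf_map_subtype, inf_eq_left.mpr hg]
  have hcard : Nat.card ↥C = Nat.card ↥A' := card_map_conj A' g
  rcases hmem (C.subgroupOf (S : Subgroup G)) (elem_subgroupOf (elem_conj (elem_map hA.1 _) g)) with h | h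
  · have hle : C ≤ A' := hCC ▸ Subgroup.map_mono h
    exact Subgroup.eq_of_le_of_card_ge hle hcard.ge
  · exfalso
    have hle : C ≤ B' := hCC ▸ Subgroup.map_mono h
    -- `A'` lies in the elementary abelian conjugate `E` of `B'`
    let E := B'.map (MulAut.conj g⁻¹).toMonoidHom
    have hE : Cfsg.IsElementaryAbelian 2 E := elem_conj (elem_map hB.1 _) g⁻¹
    have hAE : A' ≤ E := by
      intro a ha
      have : g * a * g⁻¹ ∈ B' := hle ⟨a, ha, rfl⟩
      exact ⟨g * a * g⁻¹, this, by simp [mul_assoc]⟩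
    have hEN : E ≤ Subgroup.normalizer (A' : Set G) := by
      intro e he
      rw [Subgroup.mem_normalizer_iff]
      intro a
      have := hE.1
      have hcomm : ∀ u ∈ E, e * u * e⁻¹ = u := fun u hu => by
        rw [show e * u = u * e from congrArg Subtype.val (mul_comm' (⟨e, he⟩ : ↥E) ⟨u, hu⟩)]; group
      constructor
      · intro ha; rw [hcomm a (hAE ha)]; exact ha
      · intro ha
        have h1 := hcomm _ (hAE ha)
        have h2 : e * a * e⁻¹ = a := (MulAut.conj e).injective (by simpa [mul_assoc] using h1)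
        rwa [h2] at ha
    have hE2 : IsPGroup 2 ↥E := (S.isPGroup'.to_le (Subgroup.map_subtype_le B)).map _
    obtain ⟨k, hk, hkE⟩ := exists_conj_le_sylow_of_normalizer S hnA hEN hE2
    have hAkE : A' ≤ E.map (MulAut.conj k).toMonoidHom := by
      calc A' = A'.map (MulAut.conj k).toMonoidHom := hk.symm
        _ ≤ _ := Subgroup.map_mono hAE
    have hEA := hA.2 _ (elem_subgroupOf (elem_conj hE k)) (fun a ha => hAkE ⟨a, ha, rfl⟩)
    have hkEA : E.map (MulAut.conj k).toMonoidHom = A' := by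
      rw [hA', ← hEA, Subgroup.subgroupOf_map_subtype, inf_eq_left.mpr hkE]
    have hcardB : Nat.card ↥B' = Nat.card ↥A' := by
      rw [← hkEA, card_map_conj, card_map_conj]
    have hCB : C = B' := Subgroup.eq_of_le_of_card_ge hle (by rw [hcardB, hcard])
    -- both `S` and `g S g⁻¹` normalise `B'`
    have hSg : (S : Subgroup G).map (MulAut.conj g).toMonoidHom ≤ Subgroup.normalizer (B' : Set G) := by
      rintro _ ⟨s, hs, rfl⟩
      rw [← hCB, hC, ← map_conj_eq_iff_mem_normalizer]
      show (A'.map (MulAut.conj g).toMonoidHom).map (MulAut.conj (g * s * g⁻¹)).toMonoidHom = _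
      rw [map_conj_mul, show g * s * g⁻¹ * g = g * s by group, ← map_conj_mul,
        map_conj_eq_iff_mem_normalizer.mpr (hnA hs)]
    obtain ⟨l, hl, hlS⟩ := exists_conj_le_sylow_of_normalizer S hnB hSg (S.isPGroup'.map _)
    rw [map_conj_mul] at hlS
    have heq := Subgroup.eq_of_le_of_card_ge hlS (card_map_conj _ _).ge
    have h1 := map_conj_eq_iff_mem_normalizer.mpr (hN (map_conj_eq_iff_mem_normalizer.mp heq))
    rw [← map_conj_mul, ← hC, hCB, hl] at h1
    exact hAB (Subgroup.map_injective Subtype.coe_injective h1.symm)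

/-- Let S be a Sylow 2-subgroup of a finite group G having exactly two subgroups A ≠ B that are maximal among its elementary abelian subgroups, with S = AB. Then A and B are each weakly closed in S with respect to G, and the normalizer of S normalizes both A and B. -/
theorem result {G : Type*} [Group G] [Finite G] (S : Sylow 2 G)
    (A B : Subgroup ↥(S : Subgroup G)) (hAB : A ≠ B)
    (hA : Cfsg.IsElementaryAbelian 2 A ∧ ∀ C : Subgroup ↥(S : Subgroup G), Cfsg.IsElementaryAbelian 2 C → A ≤ C → C = A)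
    (hB : Cfsg.IsElementaryAbelian 2 B ∧ ∀ C : Subgroup ↥(S : Subgroup G), Cfsg.IsElementaryAbelian 2 C → B ≤ C → C = B)
    (honly : ∀ C : Subgroup ↥(S : Subgroup G), Cfsg.IsElementaryAbelian 2 C →
      (∀ D : Subgroup ↥(S : Subgroup G), Cfsg.IsElementaryAbelian 2 D → C ≤ D → D = C) → C = A ∨ C = B)
    (hprod : ∀ s : ↥(S : Subgroup G), ∃ a ∈ A, ∃ b ∈ B, a * b = s)
    (A' B' : Subgroup G) (hA' : A' = A.map (S : Subgroup G).subtype) (hB' : B' = B.map (S : Subgroup G).subtype) :
    Cfsg.IsWeaklyClosed A' (S : Subgroup G) ∧ Cfsg.IsWeaklyClosed B' (S : Subgroup G) ∧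
      Subgroup.normalizer ((S : Subgroup G) : Set G) ≤ Subgroup.normalizer (A' : Set G) ⊓ Subgroup.normalizer (B' : Set G) := by
  have hmem : ∀ C : Subgroup ↥(S : Subgroup G), Cfsg.IsElementaryAbelian 2 C → C ≤ A ∨ C ≤ B := by
    intro C hC
    obtain ⟨D, ⟨hD, hCD⟩, hDm⟩ := Set.Finite.exists_maximalFor id
      {D : Subgroup ↥(S : Subgroup G) | Cfsg.IsElementaryAbelian 2 D ∧ C ≤ D} (Set.toFinite _) ⟨C, hC, le_rfl⟩
    rcases honly D hD (fun E hE hDE => le_antisymm (hDm ⟨hE, hCD.trans hDE⟩ hDE) hDE) with h | h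
    · exact Or.inl (h ▸ hCD)
    · exact Or.inr (h ▸ hCD)
  subst hA' hB'
  have fA := fun g => of_map hA hB honly g
  have fB := fun g => of_map hB hA (fun C hC h => (honly C hC h).symm) g
  have hnA : (S : Subgroup G) ≤ Subgroup.normalizer ((A.map (S : Subgroup G).subtype : Subgroup G) : Set G) :=
    normalizes hAB hA hB honly hprod
  have hnB : (S : Subgroup G) ≤ Subgroup.normalizer ((B.map (S : Subgroup G).subtype : Subgroup G) : Set G) := by
    refine normalizes hAB.symm hB hA (fun C hC h => (honly C hC h).symm) ?_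
    intro s
    obtain ⟨a, ha, b, hb, h⟩ := hprod s⁻¹
    exact ⟨b⁻¹, B.inv_mem hb, a⁻¹, A.inv_mem ha, by rw [← mul_inv_rev, h, inv_inv]⟩
  have hN : Subgroup.normalizer ((S : Subgroup G) : Set G) ≤
      Subgroup.normalizer ((A.map (S : Subgroup G).subtype : Subgroup G) : Set G) ⊓
      Subgroup.normalizer ((B.map (S : Subgroup G).subtype : Subgroup G) : Set G) :=
    le_inf (normalizer_le hAB hnA (fun g hg => fA g hg) (fun g hg => fB g hg))
      (normalizer_le hAB.symm hnB (fun g hg => fB g hg) (fun g hg => fA g hg))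
  exact ⟨weakly hAB hA hB hmem hnA hnB (hN.trans inf_le_left),
    weakly hAB.symm hB hA (fun C hC => (hmem C hC).symm) hnB hnA (hN.trans inf_le_right), hN⟩

end Cfsg.Agent.S3203
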