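import Mathlib
import Cfsg.Statements.S3208


set_option autoImplicit false
open Cfsg

namespace Cfsg.Agent.S3208

/-- Let j be an involution of a finite group G, H a subgroup of G, and T a Sylow 2-subgroup of H ∩ C_G(j) containing j such that ⟨j⟩ is a characteristic subgroup of T. Then T is a Sylow 2-subgroup of H. -/
theorem result {G : Type*} [Group G] [Finite G]
    (j : G) (hj : orderOf j = 2) (H T : Subgroup G) (hT : T ≤ H ⊓ Subgroup.centralizer ({j} : Set G)) (h2 : IsPGroup 2 ↥T)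
    (hSyl : ¬ 2 ∣ T.relIndex (H ⊓ Subgroup.centralizer ({j} : Set G))) (hjT : j ∈ T)
    (hchar : ((Subgroup.zpowers j).subgroupOf T).Characteristic) :
    ¬ 2 ∣ T.relIndex H := by
  obtain ⟨hTH, hTC⟩ := le_inf_iff.mp hT
  intro hdiv
  have := Fact.mk Nat.prime_two
  let T' : Subgroup ↥H := T.subgroupOf H
  have hT' : IsPGroup 2 ↥T' := h2.of_equiv (Subgroup.subgroupOfEquivOfLe hTH).symm
  obtain ⟨n, hn⟩ := IsPGroup.iff_card.mp hT'
  obtain ⟨Q, hQT⟩ := IsPGroup.exists_le_sylow (p := 2) hT'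
  have hne : T' ≠ (Q : Subgroup ↥H) := by
    intro heq
    have := Q.not_dvd_index
    rw [← heq] at this
    exact this hdiv
  have hlt : T' < (Q : Subgroup ↥H) := lt_of_le_of_ne hQT hne
  have hproper : T'.subgroupOf (Q : Subgroup ↥H) < ⊤ := by
    rw [lt_top_iff_ne_top]
    intro h'
    exact hlt.not_ge (Subgroup.subgroupOf_eq_top.mp h')
  have : Group.IsNilpotent ↥(Q : Subgroup ↥H) := Q.isPGroup'.isNilpotent
  have hnc := Group.normalizerCondition_of_isNilpotent (G := ↥(Q : Subgroup ↥H)) _ hproper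
  obtain ⟨q, hqN, hqT⟩ := SetLike.exists_of_lt hnc
  -- the element `q` normalises `T`
  let g : G := ((q : ↥H) : G)
  have hgH : g ∈ H := (q : ↥H).2
  have hconj : ∀ t : G, t ∈ T ↔ g * t * g⁻¹ ∈ T := by
    intro t
    by_cases ht : t ∈ H
    · by_cases htQ : (⟨t, ht⟩ : ↥H) ∈ (Q : Subgroup ↥H)
      · exact (Subgroup.mem_normalizer_iff.mp hqN) ⟨⟨t, ht⟩, htQ⟩
      · constructor
        · intro h'; exact absurd (hQT (show (⟨t, ht⟩ : ↥H) ∈ T' from h')) htQ
        · intro h'
          exfalso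
          apply htQ
          have h'' : (⟨g * t * g⁻¹, hTH h'⟩ : ↥H) ∈ T' := h'
          have := (Q : Subgroup ↥H).mul_mem ((Q : Subgroup ↥H).mul_mem
            ((Q : Subgroup ↥H).inv_mem q.2) (hQT h'')) q.2
          convert this using 1
          apply Subtype.ext
          simp [g]; group
    · constructor
      · intro h'; exact absurd (hTH h') ht
      · intro h'
        exfalso; apply ht
        have := H.mul_mem (H.mul_mem (H.inv_mem hgH) (hTH h')) hgH
        simpa [mul_assoc] using this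
  let φ : ↥T ≃* ↥T :=
    { toFun := fun t => ⟨g * t * g⁻¹, (hconj t).mp t.2⟩
      invFun := fun t => ⟨g⁻¹ * t * g, (hconj _).mpr (by group; simp)⟩
      left_inv := fun t => by apply Subtype.ext; simp [mul_assoc]
      right_inv := fun t => by apply Subtype.ext; simp [mul_assoc]
      map_mul' := fun a b => by apply Subtype.ext; simp [mul_assoc] }
  have hz := (Subgroup.characteristic_iff_map_eq.mp hchar) φ
  have hj1 : φ ⟨j, hjT⟩ ∈ (Subgroup.zpowers j).subgroupOf T :=
    hz ▸ Subgroup.mem_map_of_mem _ (Subgroup.mem_zpowers j)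
  rw [Subgroup.mem_subgroupOf] at hj1
  have hgj : g * j * g⁻¹ = j := by
    obtain ⟨k, hk⟩ := Subgroup.mem_zpowers_iff.mp hj1
    change j ^ k = g * j * g⁻¹ at hk
    rw [← zpow_mod_orderOf, hj] at hk
    rcases Int.emod_two_eq k with h0 | h1
    · have h0' : k % ((2 : ℕ) : ℤ) = 0 := by exact_mod_cast h0
      rw [h0', zpow_zero] at hk
      rw [conj_eq_one_iff.mp hk.symm] at hj
      simp at hj
    · norm_num [h1] at hk
      exact hk.symm
  have hgC : g ∈ H ⊓ Subgroup.centralizer ({j} : Set G) := by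
    refine ⟨hgH, Subgroup.mem_centralizer_singleton_iff.mpr ?_⟩
    calc g * j = g * j * g⁻¹ * g := by group
      _ = j * g := by rw [hgj]
  -- the subgroup generated by `T` and `g` is a `2`-subgroup of the centraliser
  let R : Subgroup G := T ⊔ Subgroup.zpowers g
  have hRle : R ≤ H ⊓ Subgroup.centralizer ({j} : Set G) := sup_le hT (Subgroup.zpowers_le.mpr hgC)
  have hRQ : R ≤ (Q : Subgroup ↥H).map H.subtype := by
    refine sup_le (fun t ht => ⟨⟨t, hTH ht⟩, hQT ht, rfl⟩) (Subgroup.zpowers_le.mpr ?_)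
    exact ⟨(q : ↥H), q.2, rfl⟩
  have hR2 : IsPGroup 2 ↥R := (Q.isPGroup'.map H.subtype).to_le hRQ
  have hTR : T < R := lt_of_le_of_ne le_sup_left (fun h' => hqT (by
    show g ∈ T
    rw [h']; exact Subgroup.mem_sup_right (Subgroup.mem_zpowers g)))
  have hdvd : 2 ∣ T.relIndex R := by
    have h1 : T.relIndex R ≠ 1 := fun h1 => hTR.not_ge (Subgroup.relIndex_eq_one.mp h1)
    have h2' : T.relIndex R ∣ Nat.card ↥R := Subgroup.index_dvd_card _
    obtain ⟨a, ha⟩ := IsPGroup.iff_card.mp hR2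
    rw [ha] at h2'
    obtain ⟨b, -, hb⟩ := (Nat.dvd_prime_pow Nat.prime_two).mp h2'
    rw [hb] at h1 ⊢
    exact dvd_pow_self 2 (fun hb0 => h1 (by simp [hb0]))
  apply hSyl
  rw [← Subgroup.relIndex_mul_relIndex T R _ le_sup_left hRle]
  exact dvd_mul_of_dvd_left hdvd _

end Cfsg.Agent.S3208
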