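import Mathlib
import Cfsg.Statements.S3209


set_option autoImplicit false
open Cfsg

namespace Cfsg.Agent.S3209

open Matrix in
theorem sq_eq_one {F : Type*} [Field F] (h2 : (2 : F) ≠ 0) (X : SpecialLinearGroup (Fin 2) F) (hX : X * X = 1) :
    X = 1 ∨ (X : Matrix (Fin 2) (Fin 2) F) = -1 := by
  set a := (X : Matrix (Fin 2) (Fin 2) F) 0 0 with ha
  set b := (X : Matrix (Fin 2) (Fin 2) F) 0 1 with hb
  set c := (X : Matrix (Fin 2) (Fin 2) F) 1 0 with hc
  set d := (X : Matrix (Fin 2) (Fin 2) F) 1 1 with hd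
  have hdet : a * d - b * c = 1 := by
    have := X.2; rwa [Matrix.det_fin_two] at this
  have hm : (X : Matrix (Fin 2) (Fin 2) F) * X = 1 := congrArg Subtype.val hX
  have e00 : a * a + b * c = 1 := by simpa [Matrix.mul_apply, Fin.sum_univ_two] using congrFun (congrFun hm 0) 0
  have e01 : a * b + b * d = 0 := by simpa [Matrix.mul_apply, Fin.sum_univ_two] using congrFun (congrFun hm 0) 1
  have e10 : c * a + d * c = 0 := by simpa [Matrix.mul_apply, Fin.sum_univ_two] using congrFun (congrFun hm 1) 0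
  have e11 : c * b + d * d = 1 := by simpa [Matrix.mul_apply, Fin.sum_univ_two] using congrFun (congrFun hm 1) 1
  have ht : a + d ≠ 0 := fun h => h2 (by linear_combination a * h - e00 - hdet)
  have hb0 : b = 0 := (mul_eq_zero.mp (show b * (a + d) = 0 by linear_combination e01)).resolve_right ht
  have hc0 : c = 0 := (mul_eq_zero.mp (show c * (a + d) = 0 by linear_combination e10)).resolve_right ht
  rw [hb0] at e00 hdet
  have had : d = a := by
    have ha0 : a ≠ 0 := fun h => by rw [h] at e00; simp at e00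
    exact mul_left_cancel₀ ha0 (by linear_combination hdet - e00)
  rcases mul_self_eq_one_iff.mp (show a * a = 1 by simpa using e00) with h | h
  · left
    ext i k
    fin_cases i <;> fin_cases k <;> simp [← ha, ← hb, ← hc, ← hd, hb0, hc0, had, h]
  · right
    ext i k
    fin_cases i <;> fin_cases k <;> simp [← ha, ← hb, ← hc, ← hd, hb0, hc0, had, h]

open Matrix in
/-- The standard element of order four of `SL₂`. -/
def rot (F : Type*) [Field F] : SpecialLinearGroup (Fin 2) F :=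
  ⟨!![0, -1; 1, 0], by simp [Matrix.det_fin_two]⟩

open Matrix in
theorem exists_conj_rot {F : Type*} [Field F] [Fintype F] (hF : Odd (Fintype.card F))
    (A : SpecialLinearGroup (Fin 2) F) (hA : (A : Matrix (Fin 2) (Fin 2) F) * A = -1) :
    ∃ g : SpecialLinearGroup (Fin 2) F, g * rot F = A * g := by
  have hchar : ringChar F ≠ 2 := fun h =>
    Nat.not_even_iff_odd.mpr hF (Nat.even_iff.mpr (FiniteField.even_card_of_char_two h))
  have h2 : (2 : F) ≠ 0 := Ring.two_ne_zero hchar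
  set a := (A : Matrix (Fin 2) (Fin 2) F) 0 0 with ha
  set b := (A : Matrix (Fin 2) (Fin 2) F) 0 1 with hb
  set c := (A : Matrix (Fin 2) (Fin 2) F) 1 0 with hc
  set d := (A : Matrix (Fin 2) (Fin 2) F) 1 1 with hd
  have hdet : a * d - b * c = 1 := by
    have := A.2; rwa [Matrix.det_fin_two] at this
  have e00 : a * a + b * c = -1 := by simpa [Matrix.mul_apply, Fin.sum_univ_two] using congrFun (congrFun hA 0) 0
  have e01 : a * b + b * d = 0 := by simpa [Matrix.mul_apply, Fin.sum_univ_two] using congrFun (congrFun hA 0) 1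
  have e10 : c * a + d * c = 0 := by simpa [Matrix.mul_apply, Fin.sum_univ_two] using congrFun (congrFun hA 1) 0
  have e11 : c * b + d * d = -1 := by simpa [Matrix.mul_apply, Fin.sum_univ_two] using congrFun (congrFun hA 1) 1
  have hda : d = -a := by
    by_contra hne
    have ht : a + d ≠ 0 := fun h => hne (by linear_combination h)
    have hb0 : b = 0 := (mul_eq_zero.mp (show b * (a + d) = 0 by linear_combination e01)).resolve_right ht
    rw [hb0] at e00 hdet
    exact ht ((mul_eq_zero.mp (show a * (a + d) = 0 by linear_combination e00 + hdet)).resolve_left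
      (fun h => by rw [h] at e00; simp at e00))
  obtain ⟨x, y, hxy⟩ : ∃ x y : F, c * x ^ 2 - 2 * a * x * y - b * y ^ 2 = 1 := by
    by_cases hc0 : c = 0
    · rw [hc0] at e00
      have ha0 : a ≠ 0 := fun h => by rw [h] at e00; simp at e00
      refine ⟨(-b - 1) / (2 * a), 1, ?_⟩
      rw [hc0]; field_simp; ring
    · have hcF : ∃ u w : F, u ^ 2 + w ^ 2 = c := by
        obtain ⟨u, w, h⟩ := FiniteField.exists_root_sum_quadratic
          (f := (Polynomial.X : Polynomial F) ^ 2) (g := (Polynomial.X : Polynomial F) ^ 2 - Polynomial.C c)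
          (Polynomial.degree_X_pow 2) (Polynomial.degree_X_pow_sub_C two_pos c) (Nat.odd_iff.mp hF)
        refine ⟨u, w, ?_⟩
        simp only [Polynomial.eval_sub, Polynomial.eval_pow, Polynomial.eval_X, Polynomial.eval_C] at h
        linear_combination h
      obtain ⟨u, w, huw⟩ := hcF
      refine ⟨(u + a * w) / c, w, ?_⟩
      field_simp
      linear_combination huw - w ^ 2 * e00
  refine ⟨⟨!![x, a * x + b * y; y, c * x - a * y], ?_⟩, ?_⟩
  · rw [Matrix.det_fin_two]
    simp only [Matrix.of_apply, Matrix.cons_val', Matrix.cons_val_zero, Matrix.cons_val_one,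
      Matrix.cons_val_fin_one, Matrix.empty_val', Matrix.head_cons, Matrix.head_fin_const]
    linear_combination hxy
  · apply Subtype.ext
    show !![x, a * x + b * y; y, c * x - a * y] * !![0, -1; 1, 0] =
      (A : Matrix (Fin 2) (Fin 2) F) * !![x, a * x + b * y; y, c * x - a * y]
    ext i k
    fin_cases i <;> fin_cases k <;>
      simp [Matrix.mul_apply, Fin.sum_univ_two, ← ha, ← hb, ← hc, ← hd, hda]
    all_goals first | ring1 | linear_combination -x * e00 | linear_combination -y * e00 | linear_combination x * e00 | linear_combination y * e00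

theorem exists_sq_eq {G : Type*} [Group G] [Finite G] {F : Type*} [Field F] [Fintype F]
    (hF : Odd (Fintype.card F)) (L : Subgroup G) (e : ↥L ≃* Matrix.SpecialLinearGroup (Fin 2) F)
    (j : G) (hjL : j ∈ L) (hj : orderOf j = 2) :
    (∀ x ∈ L, x * x = 1 → x = 1 ∨ x = j) ∧
      ∃ a ∈ L, a * a = j ∧ ∀ y ∈ L, y * y = j → ∃ g ∈ L, g * a * g⁻¹ = y := by
  have hchar : ringChar F ≠ 2 := fun h =>
    Nat.not_even_iff_odd.mpr hF (Nat.even_iff.mpr (FiniteField.even_card_of_char_two h))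
  have h2 : (2 : F) ≠ 0 := Ring.two_ne_zero hchar
  have hjj : j * j = 1 := by rw [← pow_two, ← hj, pow_orderOf_eq_one]
  have hj1 : j ≠ 1 := fun h => by rw [h, orderOf_one] at hj; omega
  have huniq : ∀ x (hx : x ∈ L), x * x = 1 → x = 1 ∨
      ((e ⟨x, hx⟩ : Matrix.SpecialLinearGroup (Fin 2) F) : Matrix (Fin 2) (Fin 2) F) = -1 := by
    intro x hx h
    rcases sq_eq_one h2 (e ⟨x, hx⟩) (by rw [← map_mul, show (⟨x, hx⟩ : ↥L) * ⟨x, hx⟩ = 1 from Subtype.ext h, map_one]) with h1 | h1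
    · exact Or.inl (congrArg Subtype.val (e.injective (h1.trans e.map_one.symm)))
    · exact Or.inr h1
  have hej := (huniq j hjL hjj).resolve_left hj1
  have hu : ∀ x ∈ L, x * x = 1 → x = 1 ∨ x = j := fun x hx h =>
    (huniq x hx h).imp id fun h1 =>
      congrArg Subtype.val (e.injective (Subtype.ext (h1.trans hej.symm)) : (⟨x, hx⟩ : ↥L) = ⟨j, hjL⟩)
  refine ⟨hu, (e.symm (rot F) : G), SetLike.coe_mem _, ?_, ?_⟩
  · have h1 : e.symm (rot F) * e.symm (rot F) = (⟨j, hjL⟩ : ↥L) := by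
      apply e.injective
      rw [map_mul, e.apply_symm_apply]
      apply Subtype.ext
      rw [hej, Matrix.SpecialLinearGroup.coe_mul]
      ext i k
      fin_cases i <;> fin_cases k <;> simp [rot, Matrix.mul_apply, Fin.sum_univ_two]
    exact congrArg Subtype.val h1
  · intro y hy h
    have h1 : ((e ⟨y, hy⟩ : Matrix.SpecialLinearGroup (Fin 2) F) : Matrix (Fin 2) (Fin 2) F) *
        ((e ⟨y, hy⟩ : Matrix.SpecialLinearGroup (Fin 2) F) : Matrix (Fin 2) (Fin 2) F) = -1 := by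
      rw [← Matrix.SpecialLinearGroup.coe_mul, ← map_mul, show (⟨y, hy⟩ : ↥L) * ⟨y, hy⟩ = ⟨j, hjL⟩ from Subtype.ext h, hej]
    obtain ⟨g, hg⟩ := exists_conj_rot hF _ h1
    refine ⟨(e.symm g : G), SetLike.coe_mem _, ?_⟩
    have h3 : e.symm g * e.symm (rot F) * (e.symm g)⁻¹ = (⟨y, hy⟩ : ↥L) := by
      rw [mul_inv_eq_iff_eq_mul]
      apply e.injective
      simpa using hg
    exact congrArg Subtype.val h3

/-- Let L₁ ≅ SL₂(q₁) and L₂ ≅ SL₂(q₂), q₁ and q₂ odd, be elementwise-commuting subgroups of a finite group meeting in ⟨j⟩ for an involution j. Then L₁L₂ has exactly two conjugacy classes of involutions: the central involution j, and one further class (there is an involution x ≠ j in L₁L₂, and every involution of L₁L₂ other than j is conjugate to x by an element of L₁L₂). -/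
theorem result {G : Type*} [Group G] [Finite G]
    {F₁ : Type*} [Field F₁] [Fintype F₁] {F₂ : Type*} [Field F₂] [Fintype F₂]
    (hF₁ : Odd (Fintype.card F₁)) (hF₂ : Odd (Fintype.card F₂)) (L₁ L₂ : Subgroup G)
    (e₁ : ↥L₁ ≃* Matrix.SpecialLinearGroup (Fin 2) F₁) (e₂ : ↥L₂ ≃* Matrix.SpecialLinearGroup (Fin 2) F₂)
    (hc : ∀ x ∈ L₁, ∀ y ∈ L₂, x * y = y * x) (j : G) (hj : orderOf j = 2) (hm : L₁ ⊓ L₂ = Subgroup.zpowers j) :
    ∃ x ∈ L₁ ⊔ L₂, orderOf x = 2 ∧ x ≠ j ∧
      ∀ y ∈ L₁ ⊔ L₂, orderOf y = 2 → y = j ∨ ∃ g ∈ L₁ ⊔ L₂, g * x * g⁻¹ = y := by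
  have hjm : j ∈ L₁ ⊓ L₂ := hm ▸ Subgroup.mem_zpowers j
  obtain ⟨hu₁, a₀, ha₀, haa, hconj₁⟩ := exists_sq_eq hF₁ L₁ e₁ j hjm.1 hj
  obtain ⟨hu₂, b₀, hb₀, hbb, hconj₂⟩ := exists_sq_eq hF₂ L₂ e₂ j hjm.2 hj
  have hjj : j * j = 1 := by rw [← pow_two, ← hj, pow_orderOf_eq_one]
  have hj1 : j ≠ 1 := fun h => by rw [h, orderOf_one] at hj; omega
  have hsq : ∀ a ∈ L₁, ∀ b ∈ L₂, (a * b) * (a * b) = (a * a) * (b * b) := fun a ha b hb => by
    calc (a * b) * (a * b) = a * (b * a) * b := by group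
      _ = a * (a * b) * b := by rw [hc a ha b hb]
      _ = (a * a) * (b * b) := by group
  have hint : ∀ w ∈ L₁, w ∈ L₂ → w = 1 ∨ w = j := fun w h1 h2 => by
    have hw : w ∈ Subgroup.zpowers j := hm ▸ ⟨h1, h2⟩
    obtain ⟨k, rfl⟩ := Subgroup.mem_zpowers_iff.mp hw
    exact hu₁ _ h1 (by rw [← (Commute.refl j).mul_zpow, hjj, one_zpow])
  have hL : ∀ y ∈ L₁ ⊔ L₂, ∃ a ∈ L₁, ∃ b ∈ L₂, a * b = y := by
    intro y hy
    have hle : L₁ ≤ Subgroup.normalizer (L₂ : Set G) := fun a ha => Subgroup.centralizer_le_normalizer _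
      (Subgroup.mem_centralizer_iff.mpr fun b hb => (hc a ha b hb).symm)
    have : y ∈ ((L₁ ⊔ L₂ : Subgroup G) : Set G) := hy
    rw [Subgroup.coe_mul_of_left_le_normalizer_right L₁ L₂ hle] at this
    obtain ⟨a, ha, b, hb, h⟩ := this
    exact ⟨a, ha, b, hb, h⟩
  have hx2 : (a₀ * b₀) * (a₀ * b₀) = 1 := by rw [hsq a₀ ha₀ b₀ hb₀, haa, hbb, hjj]
  have hx1 : ∀ w : G, w = 1 ∨ w = j → a₀ * b₀ ≠ w := by
    intro w hw h
    have hwm : w ∈ L₂ := by rcases hw with rfl | rfl; exacts [one_mem _, hjm.2]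
    have ha2 : a₀ ∈ L₂ := by rw [eq_mul_inv_of_mul_eq h]; exact mul_mem hwm (inv_mem hb₀)
    rcases hint a₀ ha₀ ha2 with h1 | h1
    · rw [h1, one_mul] at haa; exact hj1 haa.symm
    · rw [h1, hjj] at haa; exact hj1 haa.symm
  refine ⟨a₀ * b₀, mul_mem (Subgroup.mem_sup_left ha₀) (Subgroup.mem_sup_right hb₀),
    orderOf_eq_prime (by rw [pow_two]; exact hx2) (hx1 1 (Or.inl rfl)), hx1 j (Or.inr rfl), ?_⟩
  intro y hy hy2
  obtain ⟨a, ha, b, hb, rfl⟩ := hL y hy
  have h1 : (a * a) * (b * b) = 1 := by rw [← hsq a ha b hb, ← pow_two, ← hy2, pow_orderOf_eq_one]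
  have hb2 : a * a ∈ L₂ := by rw [eq_inv_of_mul_eq_one_left h1]; exact inv_mem (mul_mem hb hb)
  rcases hint _ (mul_mem ha ha) hb2 with h2 | h2
  · rw [h2, one_mul] at h1
    left
    rcases hu₁ a ha h2 with rfl | rfl <;> rcases hu₂ b hb h1 with rfl | rfl
    all_goals first
      | (rw [hjj, orderOf_one] at hy2; omega)
      | (simp at hy2; done)
      | simp
  · right
    have hb3 : b * b = j := by
      rw [eq_inv_of_mul_eq_one_right h1, h2]
      exact inv_eq_of_mul_eq_one_right hjj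
    obtain ⟨g, hg, hga⟩ := hconj₁ a ha h2
    obtain ⟨h, hh, hhb⟩ := hconj₂ b hb hb3
    refine ⟨g * h, mul_mem (Subgroup.mem_sup_left hg) (Subgroup.mem_sup_right hh), ?_⟩
    calc g * h * (a₀ * b₀) * (g * h)⁻¹ = g * (h * a₀) * b₀ * h⁻¹ * g⁻¹ := by group
      _ = g * a₀ * (h * b₀ * h⁻¹) * g⁻¹ := by rw [← hc a₀ ha₀ h hh]; group
      _ = g * a₀ * (b * g⁻¹) := by rw [hhb]; group
      _ = g * a₀ * (g⁻¹ * b) := by rw [hc g⁻¹ (inv_mem hg) b hb]
      _ = a * b := by rw [← hga]; group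

end Cfsg.Agent.S3209
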