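import Mathlib
import Cfsg.Statements.S3210
import Cfsg.Agent.Lib.InvChar.SLTwoFacts
import Cfsg.Agent.Lib.InvChar.Basic

set_option autoImplicit false
open Cfsg

namespace Cfsg.Agent.S3210

/-- The configuration: two commuting copies of `SL₂` meeting in the centre. -/
theorem split {G : Type*} [Group G] [Finite G] {F : Type*} [Field F] [Fintype F]
    (hF : Odd (Fintype.card F)) (A B M N : Subgroup G) (eA : ↥A ≃* Matrix.SpecialLinearGroup (Fin 2) F)
    {E : Type*} [Field E] [Fintype E] (hE : Odd (Fintype.card E)) (eB : ↥B ≃* Matrix.SpecialLinearGroup (Fin 2) E)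
    (j : G) (hj : orderOf j = 2) (hAB : A ⊓ B = Subgroup.zpowers j) (hMN : M ⊓ N = Subgroup.zpowers j)
    (hc : ∀ x ∈ A, ∀ y ∈ B, x * y = y * x) (hc' : ∀ x ∈ M, ∀ y ∈ N, x * y = y * x)
    (hprod : ∀ w ∈ M, ∀ v ∈ N, ∃ a ∈ A, ∃ b ∈ B, a * b = w * v)
    (hA : ∀ a ∈ A, ∃ m ∈ M, ∃ n ∈ N, m * n = a) (hB : ∀ b ∈ B, ∃ m ∈ M, ∃ n ∈ N, m * n = b) :
    A ≤ M ∨ A ≤ N := by
  have h2 := Cfsg.Agent.Lib.InvChar.two_ne_zero_of_odd hF
  have h2E := Cfsg.Agent.Lib.InvChar.two_ne_zero_of_odd hE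
  have hjA : j ∈ A ⊓ B := hAB ▸ Subgroup.mem_zpowers j
  have hjM : j ∈ M ⊓ N := hMN ▸ Subgroup.mem_zpowers j
  have hjj : j * j = 1 := by rw [← pow_two, ← hj, pow_orderOf_eq_one]
  have hzj : ∀ w ∈ Subgroup.zpowers j, w = 1 ∨ w = j := by
    intro w hw
    obtain ⟨k, rfl⟩ := Subgroup.mem_zpowers_iff.mp hw
    rcases Int.even_or_odd k with ⟨d, rfl⟩ | ⟨d, rfl⟩
    · left; rw [zpow_add, ← (Commute.refl j).mul_zpow, hjj, one_zpow]
    · right; rw [zpow_add, zpow_mul, zpow_two, hjj, one_zpow, one_mul, zpow_one]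
  have hcenter : ∀ a (ha : a ∈ A), eA ⟨a, ha⟩ ∈ Subgroup.center _ → a = 1 ∨ a = j := by
    intro a ha hz
    have hej : eA ⟨j, hjA.1⟩ = -1 := by
      refine (Cfsg.Agent.Lib.Classical.sl2_sq_eq_one h2 _ (by
        rw [← map_mul, show (⟨j, hjA.1⟩ : ↥A) * ⟨j, hjA.1⟩ = 1 from Subtype.ext hjj, map_one])).resolve_left ?_
      intro h1
      have h3 : j = 1 := congrArg Subtype.val (eA.injective (h1.trans eA.map_one.symm))
      rw [h3, orderOf_one] at hj
      omega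
    rcases (Cfsg.Agent.Lib.Classical.mem_center_sl2_iff h2 _).mp hz with h1 | h1
    · exact Or.inl (congrArg Subtype.val (eA.injective (h1.trans eA.map_one.symm)))
    · exact Or.inr (congrArg Subtype.val (eA.injective (h1.trans hej.symm)))
  -- centralizing `B` inside `AB` means lying in `A`
  have hcent : ∀ a ∈ A, ∀ b ∈ B, (∀ w ∈ B, (a * b) * w = w * (a * b)) → a * b ∈ A := by
    intro a ha b hb hw
    refine mul_mem ha ?_
    have hbz : ∀ w ∈ B, b * w = w * b := fun w hwB => by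
      have h1 := hw w hwB
      rw [mul_assoc, ← mul_assoc w a b, ← hc a ha w hwB, mul_assoc a w b] at h1
      exact mul_left_cancel h1
    have hej : eB ⟨j, hjA.2⟩ = -1 := by
      refine (Cfsg.Agent.Lib.Classical.sl2_sq_eq_one h2E _ (by
        rw [← map_mul, show (⟨j, hjA.2⟩ : ↥B) * ⟨j, hjA.2⟩ = 1 from Subtype.ext hjj, map_one])).resolve_left ?_
      intro h1
      have h3 : j = 1 := congrArg Subtype.val (eB.injective (h1.trans eB.map_one.symm))
      rw [h3, orderOf_one] at hj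
      omega
    have hz : eB ⟨b, hb⟩ ∈ Subgroup.center _ := by
      rw [Subgroup.mem_center_iff]
      intro g
      obtain ⟨w, rfl⟩ := eB.surjective g
      rw [← map_mul, ← map_mul]
      exact congrArg eB (Subtype.ext (hbz w w.2).symm)
    rcases (Cfsg.Agent.Lib.Classical.mem_center_sl2_iff h2E _).mp hz with h1 | h1
    · rw [show b = 1 from congrArg Subtype.val (eB.injective (h1.trans eB.map_one.symm))]; exact one_mem A
    · rw [show b = j from congrArg Subtype.val (eB.injective (h1.trans hej.symm))]; exact hjA.1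
  -- the projections of elements of `A` to `M` lie in `A`
  have hproj : ∀ a ∈ A, ∀ m ∈ M, ∀ n ∈ N, m * n = a → m ∈ A ∧ n ∈ A := by
    intro a ha m hm n hn hmn
    have hjc : ∀ w ∈ B, j * w = w * j := fun w hw => hc j hjA.1 w hw
    have hstep : ∀ b ∈ B, m * b * m⁻¹ * b⁻¹ ∈ Subgroup.zpowers j := by
      intro b hb
      obtain ⟨c, hcM, d, hdN, hcd⟩ := hB b hb
      rw [← hMN]
      have e1 : m * b * m⁻¹ * b⁻¹ = m * c * m⁻¹ * c⁻¹ := by
        rw [← hcd]
        calc m * (c * d) * m⁻¹ * (c * d)⁻¹ = m * c * (d * m⁻¹) * d⁻¹ * c⁻¹ := by group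
          _ = m * c * (m⁻¹ * d) * d⁻¹ * c⁻¹ := by rw [hc' m⁻¹ (inv_mem hm) d hdN]
          _ = m * c * m⁻¹ * c⁻¹ := by group
      refine Subgroup.mem_inf.mpr ⟨by rw [e1]; exact mul_mem (mul_mem (mul_mem hm hcM) (inv_mem hm)) (inv_mem hcM), ?_⟩
      rw [e1]
      have h1 : m * n * (c * d) = c * d * (m * n) := by rw [hmn, hcd]; exact hc a ha b hb
      have h3 : m * c * m⁻¹ * c⁻¹ = d * n * d⁻¹ * n⁻¹ := by
        have l1 : m * n * (c * d) = (m * c) * (n * d) := by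
          calc m * n * (c * d) = m * (n * c) * d := by group
            _ = m * (c * n) * d := by rw [hc' c hcM n hn]
            _ = (m * c) * (n * d) := by group
        have l2 : c * d * (m * n) = (c * m) * (d * n) := by
          calc c * d * (m * n) = c * (d * m) * n := by group
            _ = c * (m * d) * n := by rw [hc' m hm d hdN]
            _ = (c * m) * (d * n) := by group
        rw [l1, l2] at h1
        have h4 : (c * m)⁻¹ * (m * c) = (d * n) * (n * d)⁻¹ := by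
          calc (c * m)⁻¹ * (m * c) = (c * m)⁻¹ * ((m * c) * (n * d)) * (n * d)⁻¹ := by group
            _ = (c * m)⁻¹ * ((c * m) * (d * n)) * (n * d)⁻¹ := by rw [h1]
            _ = (d * n) * (n * d)⁻¹ := by group
        have h5 : m * c * m⁻¹ * c⁻¹ = (c * m) * ((c * m)⁻¹ * (m * c)) * (c * m)⁻¹ := by group
        rw [h5, h4]
        have h6 : (c * m) * ((d * n) * (n * d)⁻¹) = ((d * n) * (n * d)⁻¹) * (c * m) :=
          hc' _ (mul_mem hcM hm) _ (mul_mem (mul_mem hdN hn) (inv_mem (mul_mem hn hdN)))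
        rw [h6]
        group
      rw [h3]
      exact mul_mem (mul_mem (mul_mem hdN hn) (inv_mem hdN)) (inv_mem hn)
    have hmB : ∀ b ∈ B, m * b = b * m := by
      let φ : ↥B →* ↥(Subgroup.zpowers j) :=
        { toFun := fun b => ⟨m * b * m⁻¹ * (b : G)⁻¹, hstep b b.2⟩
          map_one' := Subtype.ext (by simp)
          map_mul' := fun b b' => Subtype.ext (by
            have hk : (m * b' * m⁻¹ * (b' : G)⁻¹) * (b : G) = (b : G) * (m * b' * m⁻¹ * (b' : G)⁻¹) := by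
              rcases hzj _ (hstep b' b'.2) with h | h <;> rw [h]
              · simp
              · exact hjc b b.2
            show m * ((b : G) * b') * m⁻¹ * ((b : G) * b')⁻¹ = (m * b * m⁻¹ * (b : G)⁻¹) * (m * b' * m⁻¹ * (b' : G)⁻¹)
            calc m * ((b : G) * b') * m⁻¹ * ((b : G) * b')⁻¹
                = (m * b * m⁻¹) * ((m * b' * m⁻¹ * (b' : G)⁻¹) * (b : G)⁻¹) := by group
              _ = (m * b * m⁻¹) * ((b : G)⁻¹ * (m * b' * m⁻¹ * (b' : G)⁻¹)) := by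
                  rw [(show Commute (m * b' * m⁻¹ * (b' : G)⁻¹) (b : G) from hk).inv_right.eq]
              _ = _ := by group) }
      intro b hb
      have h1 := Cfsg.Agent.Lib.InvChar.sl2_hom_trivial h2E (A := ↥(Subgroup.zpowers j)) (fun w => Subtype.ext (by
        rcases hzj w w.2 with h | h <;> simp [h, hjj])) (φ.comp eB.symm.toMonoidHom) (eB ⟨b, hb⟩)
      rw [MonoidHom.comp_apply, MulEquiv.coe_toMonoidHom, eB.symm_apply_apply] at h1
      have h3 : m * b * m⁻¹ * b⁻¹ = 1 := congrArg Subtype.val h1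
      calc m * b = (m * b * m⁻¹ * b⁻¹) * (b * m) := by group
        _ = b * m := by rw [h3, one_mul]
    have hmA : m ∈ A := by
      obtain ⟨a', ha', b', hb', hab⟩ := hprod m hm 1 (one_mem N)
      rw [mul_one] at hab
      rw [← hab]
      exact hcent a' ha' b' hb' (by rw [hab]; exact hmB)
    refine ⟨hmA, ?_⟩
    rw [show n = m⁻¹ * a by rw [← hmn, inv_mul_cancel_left]]
    exact mul_mem (inv_mem hmA) ha
  have hsplit := Cfsg.Agent.Lib.InvChar.sl2_central_of_commuting h2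
    (X := ((A ⊓ M).subgroupOf A).map eA.toMonoidHom) (Y := ((A ⊓ N).subgroupOf A).map eA.toMonoidHom)
    (by
      rintro _ ⟨x, hx, rfl⟩ _ ⟨y, hy, rfl⟩
      show eA x * eA y = eA y * eA x
      rw [← map_mul, ← map_mul]
      exact congrArg eA (Subtype.ext (hc' _ (Subgroup.mem_subgroupOf.mp hx).2 _ (Subgroup.mem_subgroupOf.mp hy).2)))
    (by
      intro g
      obtain ⟨a, rfl⟩ := eA.surjective g
      obtain ⟨m, hm, n, hn, hmn⟩ := hA a a.2
      obtain ⟨hmA, hnA⟩ := hproj a a.2 m hm n hn hmn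
      refine ⟨eA ⟨m, hmA⟩, ⟨_, Subgroup.mem_subgroupOf.mpr ⟨hmA, hm⟩, rfl⟩, eA ⟨n, hnA⟩,
        ⟨_, Subgroup.mem_subgroupOf.mpr ⟨hnA, hn⟩, rfl⟩, ?_⟩
      rw [← map_mul]
      exact congrArg eA (Subtype.ext hmn))
  rcases hsplit with h | h
  · right
    intro a ha
    obtain ⟨m, hm, n, hn, hmn⟩ := hA a ha
    obtain ⟨hmA, -⟩ := hproj a ha m hm n hn hmn
    rw [← hmn]
    refine mul_mem ?_ hn
    rcases hcenter m hmA (h ⟨⟨m, hmA⟩, Subgroup.mem_subgroupOf.mpr ⟨hmA, hm⟩, rfl⟩) with h1 | h1 <;> rw [h1]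
    exacts [one_mem N, hjM.2]
  · left
    intro a ha
    obtain ⟨m, hm, n, hn, hmn⟩ := hA a ha
    obtain ⟨-, hnA⟩ := hproj a ha m hm n hn hmn
    rw [← hmn]
    refine mul_mem hm ?_
    rcases hcenter n hnA (h ⟨⟨n, hnA⟩, Subgroup.mem_subgroupOf.mpr ⟨hnA, hn⟩, rfl⟩) with h1 | h1 <;> rw [h1]
    exacts [one_mem M, hjM.1]

theorem not_le_of_comm {G : Type*} [Group G] {F : Type*} [Field F] (A : Subgroup G)
    (e : ↥A ≃* Matrix.SpecialLinearGroup (Fin 2) F) (B : Subgroup G)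
    (hAB : ∀ x ∈ A, ∀ y ∈ B, x * y = y * x) : ¬ A ≤ B := by
  intro hle
  have h1 : Matrix.SpecialLinearGroup.transvection (zero_ne_one (α := Fin 2)) (1 : F) *
      Matrix.SpecialLinearGroup.transvection (one_ne_zero (α := Fin 2)) (1 : F) =
      Matrix.SpecialLinearGroup.transvection (one_ne_zero (α := Fin 2)) (1 : F) *
      Matrix.SpecialLinearGroup.transvection (zero_ne_one (α := Fin 2)) (1 : F) := by
    apply e.symm.injective
    rw [map_mul, map_mul]
    exact Subtype.ext (hAB _ (SetLike.coe_mem _) _ (hle (SetLike.coe_mem _)))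
  have h3 := congrArg (fun w : Matrix.SpecialLinearGroup (Fin 2) F => (w : Matrix (Fin 2) (Fin 2) F) 0 0) h1
  simp [Matrix.SpecialLinearGroup.transvection_coe, Matrix.mul_apply, Fin.sum_univ_two, Matrix.transvection,
    Matrix.single] at h3

/-- Let G be a finite group with subgroups L₁ ≅ SL₂(q₁) and L₂ ≅ SL₂(q₂), q₁ and q₂ odd prime powers, which commute elementwise and meet in ⟨j⟩ for an involution j, and suppose L₁L₂ has index 2 in C_G(j). Then every element n of C_G(j) outside L₁L₂ either normalizes both L₁ and L₂, or conjugates L₁ onto L₂; in the second case q₁ = q₂ and there is an element n′ of C_G(j) outside L₁L₂ conjugating L₁ onto L₂ with n′² ∈ ⟨j⟩. -/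
theorem result {G : Type*} [Group G] [Finite G]
    {F₁ : Type*} [Field F₁] [Fintype F₁] {F₂ : Type*} [Field F₂] [Fintype F₂]
    (hF₁ : Odd (Fintype.card F₁)) (hF₂ : Odd (Fintype.card F₂)) (L₁ L₂ : Subgroup G)
    (e₁ : ↥L₁ ≃* Matrix.SpecialLinearGroup (Fin 2) F₁) (e₂ : ↥L₂ ≃* Matrix.SpecialLinearGroup (Fin 2) F₂)
    (hc : ∀ x ∈ L₁, ∀ y ∈ L₂, x * y = y * x) (j : G) (hj : orderOf j = 2) (hm : L₁ ⊓ L₂ = Subgroup.zpowers j)
    (hle : L₁ ⊔ L₂ ≤ Subgroup.centralizer ({j} : Set G)) (hi : (L₁ ⊔ L₂).relIndex (Subgroup.centralizer ({j} : Set G)) = 2) (n : G) (hn : n ∈ Subgroup.centralizer ({j} : Set G)) (hn' : n ∉ L₁ ⊔ L₂) :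
    (L₁.map (MulAut.conj n).toMonoidHom = L₁ ∧ L₂.map (MulAut.conj n).toMonoidHom = L₂) ∨
      (L₁.map (MulAut.conj n).toMonoidHom = L₂ ∧ Fintype.card F₁ = Fintype.card F₂ ∧
        ∃ n' ∈ Subgroup.centralizer ({j} : Set G), n' ∉ L₁ ⊔ L₂ ∧ L₁.map (MulAut.conj n').toMonoidHom = L₂ ∧ n' ^ 2 ∈ Subgroup.zpowers j) := by
  set C := Subgroup.centralizer ({j} : Set G) with hC
  have hLn : ((L₁ ⊔ L₂).subgroupOf C).Normal := Subgroup.normal_of_index_eq_two hi
  have hnorm : C ≤ Subgroup.normalizer ((L₁ ⊔ L₂ : Subgroup G) : Set G) :=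
    (Subgroup.normal_subgroupOf_iff_le_normalizer hle).mp hLn
  set M := L₁.map (MulAut.conj n).toMonoidHom with hM
  set N := L₂.map (MulAut.conj n).toMonoidHom with hN
  have hprodL : ∀ w : G, w ∈ L₁ ⊔ L₂ → ∃ a ∈ L₁, ∃ b ∈ L₂, a * b = w := by
    intro w hw
    have hle' : L₁ ≤ Subgroup.normalizer (L₂ : Set G) := fun a ha => Subgroup.centralizer_le_normalizer _
      (Subgroup.mem_centralizer_iff.mpr fun b hb => (hc a ha b hb).symm)
    have : w ∈ ((L₁ ⊔ L₂ : Subgroup G) : Set G) := hw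
    rw [Subgroup.coe_mul_of_left_le_normalizer_right L₁ L₂ hle'] at this
    obtain ⟨a, ha, b, hb, h⟩ := this
    exact ⟨a, ha, b, hb, h⟩
  have hnj : n * j = j * n := Subgroup.mem_centralizer_singleton_iff.mp hn
  have hsup : M ⊔ N = L₁ ⊔ L₂ := by
    rw [hM, hN, ← Subgroup.map_sup]
    exact Cfsg.Agent.Lib.InvChar.map_conj_eq_iff_mem_normalizer.mpr (hnorm hn)
  have hc' : ∀ x ∈ M, ∀ y ∈ N, x * y = y * x := by
    rintro _ ⟨a, ha, rfl⟩ _ ⟨b, hb, rfl⟩
    rw [← map_mul, ← map_mul, hc a ha b hb]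
  have hm' : M ⊓ N = Subgroup.zpowers j := by
    rw [hM, hN, ← Subgroup.map_inf _ _ _ (MulAut.conj n).injective, hm, MonoidHom.map_zpowers]
    congr 1
    show n * j * n⁻¹ = j
    rw [hnj, mul_inv_cancel_right]
  have hprodM : ∀ w : G, w ∈ L₁ ⊔ L₂ → ∃ a ∈ M, ∃ b ∈ N, a * b = w := by
    intro w hw
    rw [← hsup, hM, hN, ← Subgroup.map_sup] at hw
    obtain ⟨v, hv, rfl⟩ := hw
    obtain ⟨a, ha, b, hb, rfl⟩ := hprodL v hv
    exact ⟨_, Subgroup.mem_map_of_mem _ ha, _, Subgroup.mem_map_of_mem _ hb, (map_mul _ a b).symm⟩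
  have hp : ∀ w ∈ M, ∀ v ∈ N, ∃ a ∈ L₁, ∃ b ∈ L₂, a * b = w * v := fun w hw v hv =>
    hprodL _ (hsup ▸ mul_mem (Subgroup.mem_sup_left hw) (Subgroup.mem_sup_right hv))
  have hp' : ∀ w ∈ M, ∀ v ∈ N, ∃ b ∈ L₂, ∃ a ∈ L₁, b * a = w * v := fun w hw v hv => by
    obtain ⟨a, ha, b, hb, h⟩ := hp w hw v hv
    exact ⟨b, hb, a, ha, by rw [← hc a ha b hb, h]⟩
  have h₁ := split hF₁ L₁ L₂ M N e₁ hF₂ e₂ j hj hm hm' hc hc' hp
    (fun a ha => hprodM a (Subgroup.mem_sup_left ha)) (fun b hb => hprodM b (Subgroup.mem_sup_right hb))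
  have h₂ := split hF₂ L₂ L₁ M N e₂ hF₁ e₁ j hj (by rw [inf_comm, hm]) hm'
    (fun x hx y hy => (hc y hy x hx).symm) hc' hp'
    (fun b hb => hprodM b (Subgroup.mem_sup_right hb)) (fun a ha => hprodM a (Subgroup.mem_sup_left ha))
  have hcM : Nat.card ↥M = Nat.card ↥L₁ := Cfsg.Agent.Lib.InvChar.card_map_conj L₁ n
  have hcN : Nat.card ↥N = Nat.card ↥L₂ := Cfsg.Agent.Lib.InvChar.card_map_conj L₂ n
  have hcard₁ : Nat.card ↥L₁ = Nat.card (Matrix.SpecialLinearGroup (Fin 2) F₁) := Nat.card_congr e₁.toEquiv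
  have hcard₂ : Nat.card ↥L₂ = Nat.card (Matrix.SpecialLinearGroup (Fin 2) F₂) := Nat.card_congr e₂.toEquiv
  rcases h₁ with h | h
  · left
    have hML : M = L₁ := (Subgroup.eq_of_le_of_card_ge h hcM.le).symm
    refine ⟨hML, ?_⟩
    rcases h₂ with h' | h'
    · exact absurd (h'.trans hML.le) (not_le_of_comm L₂ e₂ L₁ (fun x hx y hy => (hc y hy x hx).symm))
    · exact (Subgroup.eq_of_le_of_card_ge h' hcN.le).symm
  · right
    rcases h₂ with h' | h'
    · have hle1 := Subgroup.card_le_of_le h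
      have hle2 := Subgroup.card_le_of_le h'
      rw [hcN] at hle1
      rw [hcM] at hle2
      have hML : M = L₂ := (Subgroup.eq_of_le_of_card_ge h' (by rw [hcM]; exact hle1)).symm
      refine ⟨hML, Cfsg.Agent.Lib.InvChar.card_sl2_inj (by rw [← hcard₁, ← hcard₂]; omega), ?_⟩
      have hNL : N = L₁ := (Subgroup.eq_of_le_of_card_ge h (by rw [hcN]; exact hle2)).symm
      have hn2 : n * n ∈ L₁ ⊔ L₂ :=
        Subgroup.mem_subgroupOf.mp ((Subgroup.mul_mem_iff_of_index_two hi (a := (⟨n, hn⟩ : ↥C)) (b := ⟨n, hn⟩)).mpr Iff.rfl)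
      obtain ⟨a, ha, b, hb, hab⟩ := hprodL _ hn2
      refine ⟨n * a⁻¹, mul_mem hn (inv_mem (hle (Subgroup.mem_sup_left ha))),
        fun hc1 => hn' (by simpa using mul_mem hc1 (Subgroup.mem_sup_left (T := L₂) ha)), ?_, ?_⟩
      · rw [← Cfsg.Agent.Lib.InvChar.map_conj_mul, Cfsg.Agent.Lib.InvChar.map_conj_eq_iff_mem_normalizer.mpr
          (Subgroup.le_normalizer (inv_mem ha))]
        exact hML
      · have hmemM : ∀ x ∈ L₁, n * x * n⁻¹ ∈ L₂ := fun x hx => hML.le (Subgroup.mem_map_of_mem _ hx)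
        have hnx : n⁻¹ * a⁻¹ * n ∈ L₂ := by
          obtain ⟨x, hx, hxe⟩ : a⁻¹ ∈ N := hNL.ge (inv_mem ha)
          rw [← hxe]
          show n⁻¹ * (n * x * n⁻¹) * n ∈ L₂
          rw [show n⁻¹ * (n * x * n⁻¹) * n = x by group]
          exact hx
        set w := (n * a⁻¹) ^ 2 with hw
        have hwL₂ : w ∈ L₂ := by
          have hh : w = a * b * (n⁻¹ * a⁻¹ * n) * a⁻¹ := by rw [hw, pow_two, hab]; group
          rw [hh, mul_assoc, mul_assoc, ← hc a⁻¹ (inv_mem ha) _ hnx, ← mul_assoc b a⁻¹, ← hc a⁻¹ (inv_mem ha) b hb,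
            mul_assoc a⁻¹ b, mul_inv_cancel_left]
          exact mul_mem hb hnx
        have hwL₁ : w ∈ L₁ := by
          have h5 : (n * a⁻¹) * w * (n * a⁻¹)⁻¹ = w := by rw [hw, pow_two]; group
          rw [← h5]
          have h6 : (n * a⁻¹) * w * (n * a⁻¹)⁻¹ = n * (a⁻¹ * w * a) * n⁻¹ := by group
          rw [h6, hc a⁻¹ (inv_mem ha) w hwL₂, inv_mul_cancel_right]
          exact hNL.le (Subgroup.mem_map_of_mem _ hwL₂)
        exact hm ▸ ⟨hwL₁, hwL₂⟩
    · exfalso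
      have hle3 : M ≤ N := le_trans (hsup ▸ le_sup_left) (sup_le h h')
      exact not_le_of_comm L₁ e₁ L₂ hc (Subgroup.map_le_map_iff_of_injective (MulAut.conj n).injective |>.mp hle3)

end Cfsg.Agent.S3210
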