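import Cfsg.Statements.S3211
import Cfsg.Agent.Lib.Classical.SLTwoTorus
import Cfsg.Agent.Lib.Fusion.SLTwoQuaternion
import Cfsg.Agent.Lib.InvChar.ZStarTheorem
import Cfsg.Agent.Lib.Cores
import Cfsg.Agent.Lib.Involutions.Basic

set_option autoImplicit false
open Cfsg

namespace Cfsg.Agent.S3211

open Cfsg.Agent.Lib

/-- What is used about a subgroup isomorphic to `SL₂` of odd characteristic with central involution `j`. -/
structure Half {G : Type*} [Group G] (L : Subgroup G) (j : G) : Prop where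
  memj : j ∈ L
  sq1 : ∀ x ∈ L, x * x = 1 → x = 1 ∨ x = j
  conj : ∀ x ∈ L, ∀ y ∈ L, x * x = j → y * y = j → ∃ h ∈ L, h * x * h⁻¹ = y
  partner : ∀ a ∈ L, a * a = j → ∃ a' ∈ L, a' * a' = j ∧ a' * a = a * a' * j

theorem half_of_iso {G : Type*} [Group G] {F : Type*} [Field F] [Fintype F]
    (hF : Odd (Fintype.card F)) (L : Subgroup G) (e : ↥L ≃* Matrix.SpecialLinearGroup (Fin 2) F)
    {j : G} (hjL : j ∈ L) (hj : orderOf j = 2) : Half L j := by
  classical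
  have h2 : (2 : F) ≠ 0 := by
    refine Ring.two_ne_zero (fun hc => ?_)
    have h1 := FiniteField.even_card_iff_char_two.1 hc
    rw [Nat.odd_iff] at hF
    omega
  have hjj : j * j = 1 := by rw [← pow_two, ← hj, pow_orderOf_eq_one]
  have hj1 : j ≠ 1 := fun h => by rw [h, orderOf_one] at hj; omega
  have ej : e ⟨j, hjL⟩ = -1 := by
    have h1 : e ⟨j, hjL⟩ * e ⟨j, hjL⟩ = 1 := by
      rw [← map_mul, show (⟨j, hjL⟩ : L) * ⟨j, hjL⟩ = 1 from Subtype.ext hjj, map_one]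
    rcases Classical.sl2_sq_eq_one h2 _ h1 with h | h
    · exact absurd (Subtype.ext_iff.mp (e.injective (h.trans (map_one e).symm))) hj1
    · exact h
  have toSL : ∀ x : L, (x : G) * x = j ↔ e x * e x = -1 := fun x => by
    rw [← ej, ← map_mul, e.injective.eq_iff, Subtype.ext_iff]
    rfl
  refine ⟨hjL, fun x hx hxx => ?_, fun x hx y hy hxx hyy => ?_, fun a ha haa => ?_⟩
  · have h1 : e ⟨x, hx⟩ * e ⟨x, hx⟩ = 1 := by
      rw [← map_mul, show (⟨x, hx⟩ : L) * ⟨x, hx⟩ = 1 from Subtype.ext hxx, map_one]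
    rcases Classical.sl2_sq_eq_one h2 _ h1 with h | h
    · exact Or.inl (Subtype.ext_iff.mp (e.injective (h.trans (map_one e).symm)))
    · exact Or.inr (Subtype.ext_iff.mp (e.injective (h.trans ej.symm)))
  · obtain ⟨g, hg⟩ := Fusion.SpFour.exists_conj h2 ((toSL ⟨x, hx⟩).mp hxx) ((toSL ⟨y, hy⟩).mp hyy)
    refine ⟨(e.symm g : L), (e.symm g).2, ?_⟩
    have h3 : e.symm g * (⟨x, hx⟩ : L) * (e.symm g)⁻¹ = ⟨y, hy⟩ :=
      e.injective (by simp only [map_mul, map_inv, e.apply_symm_apply]; exact hg)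
    exact Subtype.ext_iff.mp h3
  · obtain ⟨P⟩ : Nonempty (Sylow 2 (Matrix.SpecialLinearGroup (Fin 2) F)) := inferInstance
    obtain ⟨i, k, hd⟩ := Fusion.SpFour.exists_qData h2 P
    obtain ⟨g, hg⟩ := Fusion.SpFour.exists_conj h2 hd.isq ((toSL ⟨a, ha⟩).mp haa)
    obtain ⟨b, hb⟩ : ∃ b, b = e.symm (g * k * g⁻¹) := ⟨_, rfl⟩
    have heb : e b = g * k * g⁻¹ := by rw [hb, e.apply_symm_apply]
    refine ⟨(b : G), b.2, (toSL b).mpr ?_, ?_⟩
    · rw [heb, show g * k * g⁻¹ * (g * k * g⁻¹) = g * (k * k) * g⁻¹ by group, hd.jsq]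
      apply Subtype.ext
      simp
    · have h3 : b * ⟨a, ha⟩ = ⟨a, ha⟩ * b * ⟨j, hjL⟩ := by
        apply e.injective
        simp only [map_mul, heb, ej, ← hg]
        rw [show g * k * g⁻¹ * (g * i * g⁻¹) = g * (k * i) * g⁻¹ by group,
          show g * i * g⁻¹ * (g * k * g⁻¹) * -1 = g * (i * k) * g⁻¹ * -1 by group, hd.anti]
        apply Subtype.ext
        simp
      exact Subtype.ext_iff.mp h3

theorem isolated_aux {G : Type*} [Group G] (L₁ L₂ : Subgroup G) (j n : G) (hj : orderOf j = 2)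
    (h1 : Half L₁ j) (h2 : Half L₂ j) (hc : ∀ x ∈ L₁, ∀ y ∈ L₂, x * y = y * x)
    (hinter : ∀ x, x ∈ L₁ → x ∈ L₂ → x = 1 ∨ x = j)
    (τ : MulAut G) (hτ : τ = MulAut.conj n) (hn2 : n * n = j) (hτ1 : ∀ x ∈ L₁, τ x ∈ L₂)
    (hτ2 : ∀ x ∈ L₂, τ x ∈ L₁) (hττ : ∀ x, x ∈ L₁ ∨ x ∈ L₂ → τ (τ x) = x)
    (hdec : ∀ x : G, Commute j x → (∃ c ∈ L₁, ∃ d ∈ L₂, x = c * d) ∨ ∃ c ∈ L₁, ∃ d ∈ L₂, x = c * d * n)
    (hcentral : ∀ x, x ∈ L₁ ∨ x ∈ L₂ → Commute j x) :
    ∀ g : G, Commute j (g * j * g⁻¹) → g * j * g⁻¹ = j := by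
  have jj : j * j = 1 := by rw [← pow_two, ← hj, pow_orderOf_eq_one]
  have jne : j ≠ 1 := fun h => by rw [h, orderOf_one] at hj; omega
  have ji : j⁻¹ = j := inv_eq_of_mul_eq_one_right jj
  have τj : τ j = j := by rw [hτ, MulAut.conj_apply, ← hn2]; group
  -- uniqueness of decompositions
  have uniq : ∀ c ∈ L₁, ∀ d ∈ L₂, ∀ c' ∈ L₁, ∀ d' ∈ L₂, c * d = c' * d' →
      (c' = c ∧ d' = d) ∨ (c' = c * j ∧ d' = d * j) := by
    intro c hc₁ d hd c' hc' d' hd' h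
    have e : c⁻¹ * c' = d * d'⁻¹ :=
      calc c⁻¹ * c' = c⁻¹ * (c' * d') * d'⁻¹ := by group
        _ = c⁻¹ * (c * d) * d'⁻¹ := by rw [h]
        _ = d * d'⁻¹ := by group
    rcases hinter _ (mul_mem (inv_mem hc₁) hc') (e ▸ mul_mem hd (inv_mem hd')) with h0 | h0
    · refine Or.inl ⟨(inv_mul_eq_one.mp h0).symm, ?_⟩
      rw [h0] at e
      exact (mul_inv_eq_one.mp e.symm).symm
    · refine Or.inr ⟨by rw [← h0, mul_inv_cancel_left], ?_⟩
      rw [h0] at e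
      calc d' = (d * d'⁻¹)⁻¹ * d := by group
        _ = j⁻¹ * d := by rw [← e]
        _ = d * j := by rw [ji, (hcentral d (Or.inr hd)).eq]
  -- squares of outer elements
  have outsq : ∀ c ∈ L₁, ∀ d ∈ L₂, (c * d * n) * (c * d * n) = (c * τ d) * (d * τ c) * j := by
    intro c hc₁ d hd
    have h3 : (τ d) * (d * τ c) = (d * τ c) * (τ d) := hc _ (hτ2 d hd) _ (mul_mem hd (hτ1 c hc₁))
    calc c * d * n * (c * d * n) = c * d * (n * c * n⁻¹) * (n * d * n⁻¹) * (n * n) := by group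
      _ = c * ((d * τ c) * τ d) * (n * n) := by rw [hτ]; simp only [MulAut.conj_apply, mul_assoc]
      _ = _ := by rw [← h3, hn2]; simp only [mul_assoc]
  -- involutions commuting with `j`
  have hinner : ∀ z : G, Commute j z → z * z = 1 → z ≠ 1 → z ≠ j →
      ∃ c ∈ L₁, ∃ d ∈ L₂, z = c * d ∧ c * c = j ∧ d * d = j := by
    intro z hz hzz hz1 hzj
    rcases hdec z hz with ⟨c, hc₁, d, hd, rfl⟩ | ⟨c, hc₁, d, hd, rfl⟩
    · have e : c * c = (d * d)⁻¹ := by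
        refine eq_inv_of_mul_eq_one_left ?_
        rw [← hzz]
        calc c * c * (d * d) = c * (c * d) * d := by group
          _ = c * (d * c) * d := by rw [hc c hc₁ d hd]
          _ = _ := by group
      rcases hinter _ (mul_mem hc₁ hc₁) (e ▸ inv_mem (mul_mem hd hd)) with h0 | h0
      · exfalso
        have hd0 : d * d = 1 := inv_eq_one.mp (e.symm.trans h0)
        rcases h1.sq1 c hc₁ h0 with rfl | rfl <;> rcases h2.sq1 d hd hd0 with rfl | rfl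
        · exact hz1 (one_mul _)
        · exact hzj (one_mul _)
        · exact hzj (mul_one _)
        · exact hz1 jj
      · refine ⟨c, hc₁, d, hd, rfl, h0, ?_⟩
        rw [← inv_inv (d * d), ← e, h0, ji]
    · exfalso
      rw [outsq c hc₁ d hd] at hzz
      set P := c * τ d with hP
      set Q := d * τ c with hQ
      have hP1 : P ∈ L₁ := mul_mem hc₁ (hτ2 d hd)
      have e : P = (Q * j)⁻¹ := eq_inv_of_mul_eq_one_left (by rw [← mul_assoc]; exact hzz)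
      rcases hinter P hP1 (e ▸ inv_mem (mul_mem (mul_mem hd (hτ1 c hc₁)) h2.memj)) with h0 | h0
      · have hd' : τ d = c⁻¹ := eq_inv_of_mul_eq_one_right h0
        have hQ1 : Q = 1 := by
          apply τ.injective
          rw [hQ, map_mul, hττ c (Or.inl hc₁), hd', inv_mul_cancel, map_one]
        rw [h0, hQ1, one_mul, one_mul] at hzz
        exact jne hzz
      · have hd' : τ d = c⁻¹ * j := eq_inv_mul_iff_mul_eq.mpr h0
        have hQ1 : Q = j := by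
          apply τ.injective
          rw [hQ, map_mul, hττ c (Or.inl hc₁), hd', mul_assoc, (hcentral c (Or.inl hc₁)).eq,
            inv_mul_cancel_left, τj]
        rw [h0, hQ1, jj, one_mul] at hzz
        exact jne hzz
  intro g hg
  by_contra hne
  set u := g * j * g⁻¹ with hu
  have huu : u * u = 1 := by
    rw [hu, show g * j * g⁻¹ * (g * j * g⁻¹) = g * (j * j) * g⁻¹ by group, jj, mul_one, mul_inv_cancel]
  have hu1 : u ≠ 1 := fun h => jne (conj_eq_one_iff.mp h)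
  obtain ⟨c, hc₁, d, hd, hcd, hcc, hdd⟩ := hinner u hg huu hu1 hne
  obtain ⟨k, hk, hkd⟩ := h2.conj d hd (τ c) (hτ1 c hc₁) hdd (by rw [← map_mul, hcc, τj])
  obtain ⟨a, ha, haa, hac⟩ := h1.partner c hc₁ hcc
  set u' := c * τ c with hu'
  set v := a * τ a with hv
  set h := (k * g)⁻¹ with hh
  have hhu : h * u' * h⁻¹ = j := by
    have e1 : u' = k * u * k⁻¹ := by
      rw [hu', hcd, ← mul_assoc k c d, ← (hc c hc₁ k hk), mul_assoc c k d, mul_assoc c (k * d), hkd]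
    rw [e1, hu, hh]; group
  have hu'j : u' ≠ j := by
    intro e
    rcases uniq c hc₁ (τ c) (hτ1 c hc₁) j h1.memj 1 (one_mem _) (by rw [mul_one]; exact e) with
      ⟨h0, -⟩ | ⟨h0, -⟩
    · rw [← h0, jj] at hcc; exact jne hcc.symm
    · rw [mul_eq_right.mp h0.symm] at hcc
      exact jne (hcc.symm.trans (one_mul 1))
  have cju : Commute j u' := (hcentral c (Or.inl hc₁)).mul_right (hcentral _ (Or.inr (hτ1 c hc₁)))
  have cjv : Commute j v := (hcentral a (Or.inl ha)).mul_right (hcentral _ (Or.inr (hτ1 a ha)))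
  have cn : ∀ x ∈ L₁, Commute n (x * τ x) := by
    intro x hx
    have h3 : τ (x * τ x) = x * τ x := by
      rw [map_mul, hττ x (Or.inl hx), ← hc x hx _ (hτ1 x hx)]
    rw [hτ] at h3
    simp only [MulAut.conj_apply] at h3
    exact mul_inv_eq_iff_eq_mul.mp (by rw [hτ]; simpa using h3)
  have cuv : Commute u' v := by
    show c * τ c * (a * τ a) = a * τ a * (c * τ c)
    have e1 : ∀ x ∈ L₁, ∀ y ∈ L₁, x * τ x * (y * τ y) = (x * y) * τ (x * y) := fun x hx y hy => by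
      rw [map_mul, mul_assoc x (τ x), ← mul_assoc (τ x) y, ← hc y hy _ (hτ1 x hx)]
      simp only [mul_assoc]
    rw [e1 c hc₁ a ha, e1 a ha c hc₁, hac, map_mul τ (c * a) j, τj, mul_assoc (c * a) j,
      ← mul_assoc j (τ (c * a)) j, (hcentral _ (Or.inr (hτ1 _ (mul_mem hc₁ ha)))).eq, mul_assoc (τ (c * a)) j j, jj,
      mul_one]
  have vv : v * v = 1 := by
    show a * τ a * (a * τ a) = 1
    rw [mul_assoc a (τ a), ← mul_assoc (τ a) a, ← hc a ha _ (hτ1 a ha), mul_assoc a (τ a), ← map_mul, haa, τj,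
      ← mul_assoc, haa, jj]
  set w₁ := h * j * h⁻¹ with hw₁
  set w₂ := h * v * h⁻¹ with hw₂
  set m := h * n * h⁻¹ with hm
  have hcj : ∀ x, Commute u' x → Commute j (h * x * h⁻¹) := fun x hx => by
    have := hx.map (MulAut.conj h).toMonoidHom
    simpa [MulAut.conj_apply, hhu] using this
  have cm : Commute m w₂ := by
    rw [hm, hw₂]
    exact (Commute.conj_iff h).mpr (cn a ha)
  have mm : m * m = w₁ := by rw [hm, hw₁, ← hn2]; group
  have cw : Commute w₁ w₂ := by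
    rw [hw₁, hw₂]
    exact (Commute.conj_iff h).mpr cjv
  have inj : ∀ {x y : G}, h * x * h⁻¹ = h * y * h⁻¹ → x = y := fun e => (MulAut.conj h).injective e
  have hw1ne : w₁ ≠ 1 := fun e => jne (conj_eq_one_iff.mp e)
  have hw1j : w₁ ≠ j := fun e => hu'j (inj (hhu.trans e.symm))
  have hvne : ∀ x ∈ L₁, ∀ y ∈ L₂, Commute x c → v ≠ x * y := by
    intro x hx y hy hxc e
    have hac' : ¬ Commute a c := fun h0 => jne (left_eq_mul.mp (hac.symm.trans h0.eq).symm)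
    rcases uniq a ha (τ a) (hτ1 a ha) x hx y hy e with ⟨h0, -⟩ | ⟨h0, -⟩
    · exact hac' (h0 ▸ hxc)
    · refine hac' ?_
      have : a = x * j := by rw [h0, mul_assoc, jj, mul_one]
      rw [this]; exact hxc.mul_left (hcentral c (Or.inl hc₁))
  have hv1 : v ≠ 1 := fun e => hvne 1 (one_mem _) 1 (one_mem _) (Commute.one_left c) (by rw [e, mul_one])
  have hvj : v ≠ j := fun e => hvne j h1.memj 1 (one_mem _) (hcentral c (Or.inl hc₁)) (by rw [e, mul_one])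
  have hvu : v ≠ u' := hvne c hc₁ _ (hτ1 c hc₁) (Commute.refl c)
  have hvuj : v ≠ u' * j := by
    rw [hu', mul_assoc]
    exact hvne c hc₁ _ (mul_mem (hτ1 c hc₁) h2.memj) (Commute.refl c)
  have hw2ne : w₂ ≠ 1 := fun e => hv1 (conj_eq_one_iff.mp e)
  have hw2j : w₂ ≠ j := fun e => hvu (inj (e.trans hhu.symm))
  have w11 : w₁ * w₁ = 1 := by
    rw [hw₁, show h * j * h⁻¹ * (h * j * h⁻¹) = h * (j * j) * h⁻¹ by group, jj, mul_one, mul_inv_cancel]
  have w22 : w₂ * w₂ = 1 := by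
    rw [hw₂, show h * v * h⁻¹ * (h * v * h⁻¹) = h * (v * v) * h⁻¹ by group, vv, mul_one, mul_inv_cancel]
  obtain ⟨a₁, ha₁, b₁, hb₁, e₁, haa₁, hbb₁⟩ := hinner w₁ (hcj j cju.symm) w11 hw1ne hw1j
  obtain ⟨a₂, ha₂, b₂, hb₂, e₂, haa₂, hbb₂⟩ := hinner w₂ (hcj v cuv) w22 hw2ne hw2j
  -- `a₁`, `a₂` do not commute
  have hnc : ¬ Commute a₁ a₂ := by
    intro hA
    have hsq : ∀ {L : Subgroup G}, Half L j → ∀ x ∈ L, ∀ y ∈ L, Commute x y → x * x = j → y * y = j →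
        y = x ∨ y = x * j := by
      intro L hL x hx y hy hxy hxx hyy
      have h0 : (x⁻¹ * y) * (x⁻¹ * y) = 1 := by
        rw [mul_assoc x⁻¹ y, ← mul_assoc y x⁻¹, ← hxy.inv_left.eq, mul_assoc x⁻¹ y, hyy, ← mul_assoc,
          ← mul_inv_rev, hxx, inv_mul_cancel]
      rcases hL.sq1 _ (mul_mem (inv_mem hx) hy) h0 with h0 | h0
      · exact Or.inl (inv_mul_eq_one.mp h0).symm
      · exact Or.inr (inv_mul_eq_iff_eq_mul.mp h0)
    have hB : Commute b₁ b₂ := by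
      have h0 := cw.eq
      rw [e₁, e₂, mul_assoc a₁ b₁, ← mul_assoc b₁ a₂, ← hc a₂ ha₂ b₁ hb₁, mul_assoc a₂ b₁, ← mul_assoc a₁,
        mul_assoc a₂ b₂, ← mul_assoc b₂ a₁, ← hc a₁ ha₁ b₂ hb₂, mul_assoc a₁ b₂, ← mul_assoc a₂, hA.eq] at h0
      exact mul_left_cancel h0
    have hw : w₂ = w₁ ∨ w₂ = w₁ * j := by
      rw [e₁, e₂]
      rcases hsq h1 a₁ ha₁ a₂ ha₂ hA haa₁ haa₂ with ha' | ha' <;>
        rcases hsq h2 b₁ hb₁ b₂ hb₂ hB hbb₁ hbb₂ with hb' | hb' <;> rw [ha', hb']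
      · exact Or.inl rfl
      · exact Or.inr (by rw [mul_assoc])
      · exact Or.inr (by rw [mul_assoc, (hcentral b₁ (Or.inr hb₁)).eq, mul_assoc])
      · exact Or.inl (by
          rw [mul_assoc a₁ j, ← mul_assoc j, (hcentral b₁ (Or.inr hb₁)).eq, mul_assoc b₁, jj, mul_one])
    rcases hw with h0 | h0
    · exact hvj (inj (h0.trans hw₁))
    · refine hvuj (inj (h0.trans ?_))
      rw [← cju.eq]
      calc w₁ * j = (h * j * h⁻¹) * (h * u' * h⁻¹) := by rw [hhu]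
        _ = _ := by group
  have hmj : Commute j m := hcj n (cn c hc₁).symm
  rcases hdec m hmj with ⟨x, hx, y, hy, hxy⟩ | ⟨x, hx, y, hy, hxy⟩
  · -- `m` in `L₁L₂`
    have e3 : (x * x) * (y * y) = a₁ * b₁ := by
      rw [← e₁, ← mm, hxy]
      calc x * x * (y * y) = x * (x * y) * y := by group
        _ = x * (y * x) * y := by rw [hc x hx y hy]
        _ = _ := by group
    have cxa₁ : Commute (x * x) a₁ := by
      rcases uniq _ (mul_mem hx hx) _ (mul_mem hy hy) a₁ ha₁ b₁ hb₁ e3 with ⟨h0, -⟩ | ⟨h0, -⟩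
      · rw [h0]
      · rw [h0]
        exact (Commute.refl _).mul_right (hcentral _ (Or.inl (mul_mem hx hx))).symm
    have e4 : a₂ * b₂ = (x * a₂ * x⁻¹) * (y * b₂ * y⁻¹) := by
      have h0 : m * w₂ * m⁻¹ = w₂ := by rw [cm.eq, mul_inv_cancel_right]
      rw [hxy, e₂] at h0
      refine h0.symm.trans ?_
      have h5 : y * a₂ = a₂ * y := (hc a₂ ha₂ y hy).symm
      have h6 : y * b₂ * y⁻¹ * x⁻¹ = x⁻¹ * (y * b₂ * y⁻¹) :=
        (hc _ (inv_mem hx) _ (mul_mem (mul_mem hy hb₂) (inv_mem hy))).symm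
      calc x * y * (a₂ * b₂) * (x * y)⁻¹ = x * (y * a₂) * (b₂ * y⁻¹ * x⁻¹) := by group
        _ = x * a₂ * (y * b₂ * y⁻¹ * x⁻¹) := by rw [h5]; group
        _ = _ := by rw [h6]; group
    have cxa₂ : Commute (x * x) a₂ := by
      have key : x * x * a₂ * (x * x)⁻¹ = a₂ := by
        rcases uniq a₂ ha₂ b₂ hb₂ _ (mul_mem (mul_mem hx ha₂) (inv_mem hx)) _
          (mul_mem (mul_mem hy hb₂) (inv_mem hy)) e4 with ⟨h0, -⟩ | ⟨h0, -⟩
        · calc x * x * a₂ * (x * x)⁻¹ = x * (x * a₂ * x⁻¹) * x⁻¹ := by group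
            _ = a₂ := by rw [h0, h0]
        · calc x * x * a₂ * (x * x)⁻¹ = x * (x * a₂ * x⁻¹) * x⁻¹ := by group
            _ = x * a₂ * (j * x⁻¹) := by rw [h0]; group
            _ = x * a₂ * x⁻¹ * j := by rw [(hcentral _ (Or.inl (inv_mem hx))).eq]; group
            _ = a₂ := by rw [h0, mul_assoc, jj, mul_one]
      exact mul_inv_eq_iff_eq_mul.mp key
    refine hnc ?_
    rcases uniq _ (mul_mem hx hx) _ (mul_mem hy hy) a₁ ha₁ b₁ hb₁ e3 with ⟨h0, -⟩ | ⟨h0, -⟩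
    · rw [h0]; exact cxa₂
    · rw [h0]; exact cxa₂.mul_left (hcentral a₂ (Or.inl ha₂))
  · -- `m` outside
    have e3 : (x * τ y) * (y * τ x * j) = a₁ * b₁ := by
      rw [← e₁, ← mm, hxy, outsq x hx y hy, ← mul_assoc]
    have e4 : a₂ * b₂ = (x * τ b₂ * x⁻¹) * (y * τ a₂ * y⁻¹) := by
      have h0 : m * w₂ * m⁻¹ = w₂ := by rw [cm.eq, mul_inv_cancel_right]
      rw [hxy, e₂] at h0
      refine h0.symm.trans ?_
      have e5 : n * (a₂ * b₂) * n⁻¹ = τ b₂ * τ a₂ := by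
        rw [hc _ (hτ2 b₂ hb₂) _ (hτ1 a₂ ha₂), ← map_mul, hτ]
        simp [MulAut.conj_apply]
      have h5 : y * τ b₂ = τ b₂ * y := (hc _ (hτ2 b₂ hb₂) y hy).symm
      have h6 : y * τ a₂ * y⁻¹ * x⁻¹ = x⁻¹ * (y * τ a₂ * y⁻¹) :=
        (hc _ (inv_mem hx) _ (mul_mem (mul_mem hy (hτ1 a₂ ha₂)) (inv_mem hy))).symm
      calc x * y * n * (a₂ * b₂) * (x * y * n)⁻¹ = x * y * (n * (a₂ * b₂) * n⁻¹) * (x * y)⁻¹ := by group
        _ = x * (y * τ b₂) * (τ a₂ * y⁻¹ * x⁻¹) := by rw [e5]; group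
        _ = x * τ b₂ * (y * τ a₂ * y⁻¹ * x⁻¹) := by rw [h5]; group
        _ = _ := by rw [h6]; group
    have key : (x * τ y) * a₂ * (x * τ y)⁻¹ = a₂ := by
      rcases uniq a₂ ha₂ b₂ hb₂ _ (mul_mem (mul_mem hx (hτ2 b₂ hb₂)) (inv_mem hx)) _
          (mul_mem (mul_mem hy (hτ1 a₂ ha₂)) (inv_mem hy)) e4 with ⟨h0, h0'⟩ | ⟨h0, h0'⟩
      · have h7 := congrArg τ h0'
        rw [map_mul, map_mul, map_inv, hττ a₂ (Or.inl ha₂)] at h7
        calc x * τ y * a₂ * (x * τ y)⁻¹ = x * (τ y * a₂ * (τ y)⁻¹) * x⁻¹ := by group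
          _ = a₂ := by rw [h7, h0]
      · have h7 := congrArg τ h0'
        rw [map_mul, map_mul, map_inv, hττ a₂ (Or.inl ha₂), map_mul, τj] at h7
        calc x * τ y * a₂ * (x * τ y)⁻¹ = x * (τ y * a₂ * (τ y)⁻¹) * x⁻¹ := by group
          _ = x * τ b₂ * (j * x⁻¹) := by rw [h7]; group
          _ = x * τ b₂ * x⁻¹ * j := by rw [(hcentral _ (Or.inl (inv_mem hx))).eq]; group
          _ = a₂ := by rw [h0, mul_assoc, jj, mul_one]
    refine hnc ?_
    have hP : Commute (x * τ y) a₂ := mul_inv_eq_iff_eq_mul.mp key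
    rcases uniq _ (mul_mem hx (hτ2 y hy)) _ (mul_mem (mul_mem hy (hτ1 x hx)) h2.memj) a₁ ha₁ b₁ hb₁ e3 with
      ⟨h0, -⟩ | ⟨h0, -⟩
    · rw [h0]; exact hP
    · rw [h0]; exact hP.mul_left (hcentral a₂ (Or.inl ha₂))

/-- Let G be a finite group with subgroups L₁ ≅ SL₂(q₁) and L₂ ≅ SL₂(q₂), q₁ and q₂ odd prime powers, which commute elementwise and meet in ⟨j⟩ for an involution j, and suppose L₁L₂ has index 2 in C_G(j). If some n ∈ C_G(j) with n² = j interchanges L₁ and L₂ under conjugation (so that C_G(j) = L₁L₂⟨n⟩), then G = C_G(j)O(G). -/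
theorem result {G : Type*} [Group G] [Finite G]
    {F₁ : Type*} [Field F₁] [Fintype F₁] {F₂ : Type*} [Field F₂] [Fintype F₂]
    (hF₁ : Odd (Fintype.card F₁)) (hF₂ : Odd (Fintype.card F₂)) (L₁ L₂ : Subgroup G)
    (e₁ : ↥L₁ ≃* Matrix.SpecialLinearGroup (Fin 2) F₁) (e₂ : ↥L₂ ≃* Matrix.SpecialLinearGroup (Fin 2) F₂)
    (hc : ∀ x ∈ L₁, ∀ y ∈ L₂, x * y = y * x) (j : G) (hj : orderOf j = 2) (hm : L₁ ⊓ L₂ = Subgroup.zpowers j)
    (hle : L₁ ⊔ L₂ ≤ Subgroup.centralizer ({j} : Set G)) (hi : (L₁ ⊔ L₂).relIndex (Subgroup.centralizer ({j} : Set G)) = 2) (n : G) (hn : n ∈ Subgroup.centralizer ({j} : Set G))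
    (hn2 : n ^ 2 = j) (hswap : L₁.map (MulAut.conj n).toMonoidHom = L₂) :
    Subgroup.centralizer ({j} : Set G) ⊔ Cfsg.oddCore G = ⊤ := by
  have hjC : ∀ x ∈ Subgroup.centralizer ({j} : Set G), Commute j x := fun x hx =>
    (Subgroup.mem_centralizer_singleton_iff.mp hx).symm
  have hjL : j ∈ L₁ ⊓ L₂ := hm ▸ Subgroup.mem_zpowers j
  have h1 := half_of_iso hF₁ L₁ e₁ hjL.1 hj
  have h2 := half_of_iso hF₂ L₂ e₂ hjL.2 hj
  have jj : j * j = 1 := by rw [← pow_two, ← hj, pow_orderOf_eq_one]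
  have hinter : ∀ x, x ∈ L₁ → x ∈ L₂ → x = 1 ∨ x = j := by
    intro x hx1 hx2
    have hmem : x ∈ L₁ ⊓ L₂ := ⟨hx1, hx2⟩
    rw [hm] at hmem
    obtain ⟨k, rfl⟩ := Subgroup.mem_zpowers_iff.mp hmem
    rcases Int.even_or_odd' k with ⟨l, rfl | rfl⟩
    · left; rw [zpow_mul, zpow_two, jj, one_zpow]
    · right; rw [zpow_add, zpow_one, zpow_mul, zpow_two, jj, one_zpow, one_mul]
  have hn2' : n * n = j := by rw [← pow_two, hn2]
  have hcentral : ∀ x, x ∈ L₁ ∨ x ∈ L₂ → Commute j x := fun x hx =>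
    hjC x (hle (hx.elim Subgroup.mem_sup_left Subgroup.mem_sup_right))
  have hττ : ∀ x, x ∈ L₁ ∨ x ∈ L₂ → MulAut.conj n (MulAut.conj n x) = x := by
    intro x hx
    calc MulAut.conj n (MulAut.conj n x) = (n * n) * x * (n * n)⁻¹ := by simp [MulAut.conj_apply, mul_assoc]
      _ = x := by rw [hn2', (hcentral x hx).eq, mul_inv_cancel_right]
  have hτ1 : ∀ x ∈ L₁, MulAut.conj n x ∈ L₂ := fun x hx => hswap ▸ Subgroup.mem_map_of_mem _ hx
  have hτ2 : ∀ x ∈ L₂, MulAut.conj n x ∈ L₁ := by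
    intro x hx
    have hx' := hx
    rw [← hswap] at hx'
    obtain ⟨z, hz, rfl⟩ := hx'
    show MulAut.conj n (MulAut.conj n z) ∈ L₁
    rw [hττ z (Or.inl hz)]
    exact hz
  have hprod : ∀ x ∈ L₁ ⊔ L₂, ∃ c ∈ L₁, ∃ d ∈ L₂, x = c * d := by
    intro x hx
    rw [Subgroup.sup_eq_closure] at hx
    induction hx using Subgroup.closure_induction with
    | mem z hz =>
      rcases hz with hz | hz
      · exact ⟨z, hz, 1, one_mem _, (mul_one z).symm⟩
      · exact ⟨1, one_mem _, z, hz, (one_mul z).symm⟩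
    | one => exact ⟨1, one_mem _, 1, one_mem _, (mul_one 1).symm⟩
    | mul u v _ _ hu hv =>
      obtain ⟨c, hc₁, d, hd, rfl⟩ := hu
      obtain ⟨c', hc', d', hd', rfl⟩ := hv
      exact ⟨c * c', mul_mem hc₁ hc', d * d', mul_mem hd hd', by
        rw [mul_assoc c d, ← mul_assoc d c', ← hc c' hc' d hd, mul_assoc c' d, ← mul_assoc c]⟩
    | inv u _ hu =>
      obtain ⟨c, hc₁, d, hd, rfl⟩ := hu
      exact ⟨c⁻¹, inv_mem hc₁, d⁻¹, inv_mem hd, by rw [mul_inv_rev, ← hc _ (inv_mem hc₁) _ (inv_mem hd)]⟩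
  have hnot : n ∉ L₁ ⊔ L₂ := by
    intro h
    obtain ⟨c, hc₁, d, hd, rfl⟩ := hprod n h
    have hsame : ∀ x ∈ L₁, MulAut.conj (c * d) x ∈ L₁ := fun x hx => by
      rw [MulAut.conj_apply, show c * d * x * (c * d)⁻¹ = c * (d * x * d⁻¹) * c⁻¹ by group,
        ← hc x hx d hd, mul_inv_cancel_right]
      exact mul_mem (mul_mem hc₁ hx) (inv_mem hc₁)
    -- every element of `L₁` would lie in `L₁ ∩ L₂`
    obtain ⟨P⟩ : Nonempty (Sylow 2 (Matrix.SpecialLinearGroup (Fin 2) F₁)) := inferInstance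
    have h20 : (2 : F₁) ≠ 0 := by
      refine Ring.two_ne_zero (fun hc0 => ?_)
      have h0 := FiniteField.even_card_iff_char_two.1 hc0
      rw [Nat.odd_iff] at hF₁
      omega
    obtain ⟨i, k, hd0⟩ := Fusion.SpFour.exists_qData h20 P
    have hx : ((e₁.symm i : L₁) : G) ∈ L₁ := (e₁.symm i).2
    have hall : ∀ z ∈ L₁, z * z = 1 := by
      intro z hz
      have hz' : MulAut.conj (c * d) (MulAut.conj (c * d) z) ∈ L₂ := hτ1 _ (hsame z hz)
      rw [hττ z (Or.inl hz)] at hz'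
      rcases hinter z hz hz' with rfl | rfl
      · exact mul_one 1
      · exact jj
    have h0 : (e₁.symm i : L₁) * e₁.symm i = 1 := Subtype.ext (hall _ hx)
    have h3 := congrArg e₁ h0
    rw [map_mul, e₁.apply_symm_apply, map_one, hd0.isq] at h3
    have h4 := congrArg (fun z : Matrix.SpecialLinearGroup (Fin 2) F₁ => (z : Matrix (Fin 2) (Fin 2) F₁) 0 0) h3
    simp at h4
    exact h20 (by linear_combination -h4)
  have hdec : ∀ x : G, Commute j x → (∃ c ∈ L₁, ∃ d ∈ L₂, x = c * d) ∨ ∃ c ∈ L₁, ∃ d ∈ L₂, x = c * d * n := by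
    intro x hx
    have hxC : x ∈ Subgroup.centralizer ({j} : Set G) := Subgroup.mem_centralizer_singleton_iff.mpr hx.eq.symm
    by_cases hxL : x ∈ L₁ ⊔ L₂
    · exact Or.inl (hprod x hxL)
    refine Or.inr ?_
    have h0 : x * n⁻¹ ∈ L₁ ⊔ L₂ := by
      have hiff := Subgroup.mul_mem_iff_of_index_two (H := (L₁ ⊔ L₂).subgroupOf (Subgroup.centralizer ({j} : Set G)))
        hi (a := ⟨x, hxC⟩) (b := ⟨n⁻¹, inv_mem hn⟩)
      simp only [Subgroup.mem_subgroupOf, Subgroup.coe_mul, inv_mem_iff] at hiff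
      exact hiff.mpr (iff_of_false hxL hnot)
    obtain ⟨c, hc₁, d, hd, he⟩ := hprod _ h0
    exact ⟨c, hc₁, d, hd, by rw [← he, inv_mul_cancel_right]⟩
  have hiso := isolated_aux L₁ L₂ j n hj h1 h2 hc hinter (MulAut.conj n) rfl hn2' hτ1 hτ2 hττ hdec hcentral
  have hz := Lib.InvChar.inZStar_of_isIsolated hj hiso
  have hodd : Odd (Nat.card (Cfsg.pPrimeCore 2 G)) :=
    Nat.coprime_two_right.1 (Lib.Cores.pPrimeCore_coprime 2 G)
  have hNle : Cfsg.pPrimeCore 2 G ≤ Cfsg.oddCore G := Lib.Cores.le_oddCore inferInstance hodd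
  rw [eq_top_iff]
  intro g _
  set s := g * j * g⁻¹ with hs
  have hks : j * s ∈ Cfsg.pPrimeCore 2 G := by
    have h0 := inv_mem (hz g)
    rw [show (g * j * g⁻¹ * j⁻¹)⁻¹ = j * s⁻¹ by rw [hs]; group] at h0
    rwa [show s⁻¹ = s by rw [hs]; simp [mul_assoc, inv_eq_of_mul_eq_one_right jj]] at h0
  have hko : Odd (orderOf (j * s)) := hodd.of_dvd_nat (Subgroup.orderOf_dvd_natCard _ hks)
  obtain ⟨m, hm⟩ := hko
  have hs2 : orderOf s = 2 := by
    rw [hs, show g * j * g⁻¹ = MulAut.conj g j from rfl, MulEquiv.orderOf_eq, hj]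
  have hconj := Lib.Involutions.conj_of_orderOf_mul_odd hj hs2 hm
  set D := (j * s) ^ (m : ℤ) with hD
  have hDmem : D ∈ Cfsg.pPrimeCore 2 G := Subgroup.zpow_mem _ hks _
  have hC : D⁻¹ * g ∈ Subgroup.centralizer ({j} : Set G) := by
    rw [Subgroup.mem_centralizer_singleton_iff]
    calc D⁻¹ * g * j = D⁻¹ * s * g := by rw [hs]; group
      _ = D⁻¹ * (D * j * D⁻¹) * g := by rw [hconj]
      _ = _ := by group
  have := mul_mem (Subgroup.mem_sup_right (S := Subgroup.centralizer ({j} : Set G)) (hNle hDmem))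
    (Subgroup.mem_sup_left (T := Cfsg.oddCore G) hC)
  rwa [mul_inv_cancel_left] at this

end Cfsg.Agent.S3211
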