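import Mathlib
import Cfsg.Statements.S3213
import Cfsg.Agent.Lib.Classical.LinearCard

set_option autoImplicit false
open Cfsg

namespace Cfsg.Agent.S3213

open Matrix Module

abbrev S5 := Matrix.SpecialLinearGroup (Fin 2) (ZMod 5)

def x0 : S5 := ⟨!![0, 4; 1, 4], by decide⟩
def y0 : S5 := ⟨!![0, 2; 2, 0], by decide⟩
def g0 : S5 := ⟨!![1, 2; 0, 1], by decide⟩
def u0 : S5 := ⟨!![1, 1; 0, 1], by decide⟩
def z0 : S5 := ⟨!![4, 0; 0, 4], by decide⟩

theorem rel_x : x0 ^ 3 = 1 ∧ x0 ≠ 1 := by decide +kernel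
theorem rel_y : y0 * x0 * y0⁻¹ = x0⁻¹ ∧ y0 * y0 = z0 := by decide +kernel
theorem rel_g : (x0 * (g0 * x0 * g0⁻¹)) * (x0 * (g0 * x0 * g0⁻¹)) = z0 := by decide +kernel
theorem rel_u : u0 ^ 5 = 1 ∧ u0 ≠ 1 := by decide +kernel
theorem rel_z : z0 * z0 = 1 ∧ z0 ≠ 1 ∧ z0 * u0 = u0 * z0 := by decide +kernel

/-- Every element of order three is conjugate to `x0` or its inverse. -/
theorem conj_x0 {x : S5} (hx : orderOf x = 3) :
    ∃ g : S5, g * x0 * g⁻¹ = x ∨ g * x0 * g⁻¹ = x⁻¹ := by
  have := Fact.mk Nat.prime_three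
  have := Fact.mk (show Nat.Prime 5 by norm_num)
  have hc : Nat.card S5 = 120 := by
    rw [Cfsg.Agent.Lib.Classical.card_SL2, ZMod.card]; rfl
  have hsyl : ∀ a : S5, orderOf a = 3 → ∃ P : Sylow 3 S5, (P : Subgroup S5) = Subgroup.zpowers a := by
    intro a ha
    have hp : IsPGroup 3 (Subgroup.zpowers a) := IsPGroup.of_card (n := 1) (by rw [Nat.card_zpowers, ha, pow_one])
    obtain ⟨P, hP⟩ := hp.exists_le_sylow
    refine ⟨P, (Subgroup.eq_of_le_of_card_ge hP ?_).symm⟩
    rw [P.card_eq_multiplicity, hc, Nat.card_zpowers, ha, show (120 : ℕ) = 3 ^ 1 * 40 by norm_num,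
      Nat.factorization_mul (by norm_num) (by norm_num), Finsupp.add_apply,
      Nat.prime_three.factorization_pow, Finsupp.single_eq_same,
      Nat.factorization_eq_zero_of_not_dvd (by norm_num : ¬ 3 ∣ 40)]
    norm_num
  obtain ⟨P, hP⟩ := hsyl x0 (orderOf_eq_prime rel_x.1 rel_x.2)
  obtain ⟨Q, hQ⟩ := hsyl x hx
  obtain ⟨g, hg⟩ := MulAction.exists_smul_eq S5 P Q
  refine ⟨g, ?_⟩
  have hm : g * x0 * g⁻¹ ∈ (Q : Subgroup S5) := by
    rw [← hg]
    exact ⟨x0, by rw [hP]; exact Subgroup.mem_zpowers x0, rfl⟩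
  rw [hQ] at hm
  obtain ⟨i, hi⟩ := (Submonoid.mem_powers_iff _ _).mp ((mem_powers_iff_mem_zpowers).mpr hm)
  rw [← pow_mod_orderOf, hx] at hi
  have h3' : i % 3 = 0 ∨ i % 3 = 1 ∨ i % 3 = 2 := by omega
  rcases h3' with h | h | h <;> rw [h] at hi
  · exfalso
    rw [pow_zero] at hi
    refine rel_x.2 ?_
    calc x0 = g⁻¹ * (g * x0 * g⁻¹) * g := by group
      _ = 1 := by rw [← hi]; group
  · exact Or.inl (by rw [← hi, pow_one])
  · refine Or.inr (hi ▸ eq_inv_of_mul_eq_one_left ?_)
    rw [← pow_succ, show 2 + 1 = orderOf x by rw [hx]]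
    exact pow_orderOf_eq_one x

variable {F : Type*} [Field F] [Fintype F] {V : Type*} [AddCommGroup V] [Module F V]
  [FiniteDimensional F V]

theorem card_sub (hF : Fintype.card F = 3) (W : Submodule F V) :
    Nat.card W = 3 ^ finrank F W := by
  rw [Module.natCard_eq_pow_finrank (K := F), Nat.card_eq_fintype_card, hF]

/-- An automorphism of order dividing five fixing only zero sees a subspace of dimension 0 or 4. -/
theorem dim_invariant_five (hF : Fintype.card F = 3) (h4 : finrank F V = 4)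
    (u : Module.End F V) (hu : u ^ 5 = 1) (hu1 : u ≠ 1) (W : Submodule F V) (hW : ∀ w ∈ W, u w ∈ W) :
    finrank F W = 0 ∨ finrank F W = 4 := by
  have := Fact.mk (show Nat.Prime 5 by norm_num)
  have hfin : Finite V := Module.finite_of_finite F
  have key : ∀ W : Submodule F V, (∀ w ∈ W, u w ∈ W) →
      Nat.card W ≡ Nat.card {w : W // u (w : V) = w} [MOD 5] := by
    intro W hW
    let f : W → W := fun w => ⟨u w, hW w w.2⟩
    have hf : ∀ k (w : W), ((f^[k] w : W) : V) = (u ^ k) w := by
      intro k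
      induction k with
      | zero => simp
      | succ k ih =>
        intro w
        rw [Function.iterate_succ_apply', pow_succ', Module.End.mul_apply, ← ih w]
    let e : Equiv.Perm W :=
      { toFun := f
        invFun := f^[4]
        left_inv := fun w => Subtype.ext (by
          show ((f^[4] (f w) : W) : V) = w
          rw [← Function.iterate_succ_apply, hf, hu]; rfl)
        right_inv := fun w => Subtype.ext (by
          show ((f (f^[4] w) : W) : V) = w
          rw [← Function.iterate_succ_apply' f 4 w, hf, hu]; rfl) }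
    have he5 : e ^ 5 = 1 := by
      refine Equiv.ext fun w => Subtype.ext ?_
      rw [Equiv.Perm.coe_pow]
      show ((f^[5] w : W) : V) = w
      rw [hf, hu]; rfl
    have hp : IsPGroup 5 (Subgroup.zpowers e) := fun ⟨a, k, hk⟩ => ⟨1, Subtype.ext (by
      show a ^ 5 ^ 1 = 1
      rw [← hk, pow_one, ← zpow_natCast, ← _root_.zpow_mul, mul_comm, _root_.zpow_mul, zpow_natCast, he5, _root_.one_zpow])⟩
    have h := hp.card_modEq_card_fixedPoints W
    have e2 : Nat.card (MulAction.fixedPoints (Subgroup.zpowers e) W) =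
        Nat.card {w : W // u (w : V) = w} := by
      refine Nat.card_congr (Equiv.subtypeEquivRight fun w => ?_)
      constructor
      · intro hw
        exact congrArg Subtype.val (hw ⟨e, Subgroup.mem_zpowers e⟩)
      · intro hw ⟨a, k, hk⟩
        have hfix : e w = w := Subtype.ext hw
        show a w = w
        rw [← hk]
        exact Equiv.Perm.zpow_apply_eq_self_of_apply_eq_self hfix k
    rwa [e2] at h
  -- `u` fixes only zero
  set Φ : Submodule F V := LinearMap.ker (u - 1) with hΦ
  have hmemΦ : ∀ v, v ∈ Φ ↔ u v = v := fun v => by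
    rw [hΦ, LinearMap.mem_ker, LinearMap.sub_apply, Module.End.one_apply, sub_eq_zero]
  have hΦ0 : Φ = ⊥ := by
    have h := key ⊤ (fun _ _ => Submodule.mem_top)
    have e1 : Nat.card {w : (⊤ : Submodule F V) // u (w : V) = w} = Nat.card Φ :=
      Nat.card_congr
        { toFun := fun w => ⟨w.1.1, (hmemΦ _).mpr w.2⟩
          invFun := fun w => ⟨⟨w.1, trivial⟩, (hmemΦ _).mp w.2⟩
          left_inv := fun _ => rfl
          right_inv := fun _ => rfl }
    rw [e1, card_sub hF, card_sub hF, finrank_top, h4] at h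
    have hle : finrank F Φ ≤ 4 := h4 ▸ Submodule.finrank_le Φ
    have hne : finrank F Φ ≠ 4 := fun he => by
      refine hu1 (LinearMap.ext fun v => ?_)
      have htop : Φ = ⊤ := Submodule.eq_top_of_finrank_eq (he.trans h4.symm)
      exact (hmemΦ v).mp (htop ▸ Submodule.mem_top)
    refine Submodule.finrank_eq_zero.mp ?_
    interval_cases h' : finrank F Φ <;> simp_all [Nat.ModEq]
  have h := key W hW
  have e1 : Nat.card {w : W // u (w : V) = w} = 1 := by
    rw [Nat.card_eq_one_iff_unique]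
    refine ⟨⟨fun a b => Subtype.ext (Subtype.ext ?_)⟩, ⟨⟨0, by simp⟩⟩⟩
    have ha : (a.1 : V) ∈ Φ := (hmemΦ _).mpr a.2
    have hb : (b.1 : V) ∈ Φ := (hmemΦ _).mpr b.2
    rw [hΦ0, Submodule.mem_bot] at ha hb
    rw [ha, hb]
  rw [e1, card_sub hF] at h
  have hle : finrank F W ≤ 4 := h4 ▸ Submodule.finrank_le W
  interval_cases h' : finrank F W <;> simp_all [Nat.ModEq]

theorem main (hF : Fintype.card F = 3) (h4 : finrank F V = 4) (ψ : S5 →* Module.End F V)
    (hψ : Function.Injective ψ) :
    finrank F (LinearMap.ker (ψ x0 - 1)) = 2 ∧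
      ∀ v : V, ψ x0 v = v → ∃ a : V, v = ψ x0 a - a := by
  have h30 : (3 : F) = 0 := by
    have h := FiniteField.cast_card_eq_zero F
    rw [hF] at h
    exact_mod_cast h
  have h2 : (2 : F) ≠ 0 := fun h => one_ne_zero (show (1 : F) = 0 by linear_combination h30 - h)
  have hfin : Finite V := Module.finite_of_finite F
  -- the central involution acts as `-1`
  set Z := ψ z0 with hZ
  have hz : ∀ v, Z v = -v := by
    have hu : ψ u0 ^ 5 = 1 := by rw [← map_pow, rel_u.1, map_one]
    have hu1 : ψ u0 ≠ 1 := fun h => rel_u.2 (hψ (by rw [h, map_one]))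
    set W : Submodule F V := LinearMap.ker (Z - 1) with hW
    have hmem : ∀ v, v ∈ W ↔ Z v = v := fun v => by
      rw [hW, LinearMap.mem_ker, LinearMap.sub_apply, Module.End.one_apply, sub_eq_zero]
    have hzz : ∀ v, Z (Z v) = v := fun v => by
      rw [← Module.End.mul_apply, hZ, ← map_mul, rel_z.1, map_one, Module.End.one_apply]
    rcases dim_invariant_five hF h4 (ψ u0) hu hu1 W (fun w hw => by
      rw [hmem] at hw ⊢
      rw [← Module.End.mul_apply, hZ, ← map_mul, rel_z.2.2, map_mul, Module.End.mul_apply, ← hZ, hw])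
      with h | h
    · intro v
      have hv : v + Z v ∈ W := by rw [hmem, map_add, hzz, add_comm]
      rw [Submodule.finrank_eq_zero.mp h, Submodule.mem_bot] at hv
      exact eq_neg_of_add_eq_zero_right hv
    · exfalso
      refine rel_z.2.1 (hψ ?_)
      rw [map_one]
      refine LinearMap.ext fun v => (hmem v).mp ?_
      rw [Submodule.eq_top_of_finrank_eq (h.trans h4.symm)]
      exact Submodule.mem_top
  have nofix : ∀ a : S5, a * a = z0 → ∀ v, ψ a v = v → v = 0 := by
    intro a ha v hv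
    have h : Z v = v := by
      rw [hZ, ← ha, map_mul, Module.End.mul_apply, hv, hv]
    rw [hz] at h
    have h2v : (2 : F) • v = 0 := by
      rw [two_smul]
      nth_rewrite 1 [← h]
      exact neg_add_cancel v
    exact (smul_eq_zero.mp h2v).resolve_left h2
  set X := ψ x0 with hX
  set A := X - 1 with hA
  have hX3 : X * X * X = 1 := by
    rw [hX, ← map_mul, ← map_mul, ← pow_two, ← pow_succ, rel_x.1, map_one]
  have h3e : ∀ T : Module.End F V, T + T + T = 0 := fun T => by
    refine LinearMap.ext fun v => ?_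
    have : ((3 : F)) • T v = 0 := by rw [h30, zero_smul]
    rw [show (3 : F) = 1 + 1 + 1 by norm_num, add_smul, add_smul, one_smul] at this
    simpa using this
  have hA3 : A * A * A = 0 := by
    have e : A * A * A = (X * X * X - 1) - ((X * X - X) + (X * X - X) + (X * X - X)) := by
      rw [hA]; noncomm_ring
    rw [e, hX3, h3e, sub_self, sub_zero]
  -- `A * A` commutes with the inverting element
  set Y := ψ y0 with hY
  have hYX : Y * X = X * X * Y := by
    rw [hY, hX, ← map_mul, ← map_mul, ← map_mul]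
    congr 1
    have h1 : x0⁻¹ = x0 * x0 := by
      refine inv_eq_of_mul_eq_one_right ?_
      rw [← mul_assoc, ← pow_two, ← pow_succ]; exact rel_x.1
    calc y0 * x0 = (y0 * x0 * y0⁻¹) * y0 := by group
      _ = x0 * x0 * y0 := by rw [rel_y.1, h1]
  have hXA2 : X * (A * A) = A * A := by
    have : X * (A * A) = A * A + A * A * A := by rw [hA]; noncomm_ring
    rw [this, hA3, add_zero]
  have hYA : Y * (A * A) = A * A * Y := by
    have e1 : Y * A = (X * X - 1) * Y := by rw [hA, mul_sub, hYX, mul_one, sub_mul, one_mul]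
    calc Y * (A * A) = (X * X - 1) * ((X * X - 1) * Y) := by
          rw [← mul_assoc, e1, mul_assoc, e1]
      _ = (A * A + (X * (A * A) + X * (A * A)) + X * (X * (A * A))) * Y := by
          rw [hA]; noncomm_ring
      _ = A * A * Y := by
          rw [hXA2, hXA2]
          have := h3e (A * A)
          rw [show A * A + (A * A + A * A) + A * A = A * A + (A * A + A * A + A * A) by abel, this, add_zero]
  set L := LinearMap.range (A * A) with hL
  have hL0 : L = ⊥ := by
    by_contra hne
    have hYY : ∀ v, Y (Y v) = -v := fun v => by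
      rw [← Module.End.mul_apply, hY, ← map_mul, rel_y.2, ← hZ, hz]
    -- dimension inequalities
    have hle : finrank F L ≤ 1 := by
      set R := LinearMap.range A with hR
      have hLK : L ≤ LinearMap.ker A := by
        rintro _ ⟨v, rfl⟩
        rw [LinearMap.mem_ker, ← Module.End.mul_apply, ← mul_assoc, hA3]; rfl
      have hLR : L ≤ R := by
        rintro _ ⟨v, rfl⟩
        exact ⟨A v, rfl⟩
      set f := A.domRestrict R with hf
      have hfr : LinearMap.range f = L := by
        ext w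
        constructor
        · rintro ⟨⟨r, ⟨v, rfl⟩⟩, rfl⟩; exact ⟨v, rfl⟩
        · rintro ⟨v, rfl⟩; exact ⟨⟨A v, ⟨v, rfl⟩⟩, rfl⟩
      have hrn := LinearMap.finrank_range_add_finrank_ker f
      have hk : finrank F L ≤ finrank F (LinearMap.ker f) := by
        refine LinearMap.finrank_le_finrank_of_injective (f := LinearMap.codRestrict (LinearMap.ker f)
          (Submodule.inclusion hLR) (fun l => LinearMap.mem_ker.mpr (LinearMap.mem_ker.mp (hLK l.2)))) ?_
        intro a b h
        exact Subtype.ext (congrArg (fun w : LinearMap.ker f => ((w : R) : V)) h)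
      have hrnA := LinearMap.finrank_range_add_finrank_ker A
      have hkA := Submodule.finrank_mono hLK
      rw [hfr] at hrn
      rw [← hR, h4] at hrnA
      omega
    have hLY : ∀ l ∈ L, Y l ∈ L := by
      rintro _ ⟨v, rfl⟩
      exact ⟨Y v, by rw [← Module.End.mul_apply, ← hYA]; rfl⟩
    obtain ⟨l, hl, hl0⟩ := Submodule.exists_mem_ne_zero_of_ne_bot hne
    have h1 : finrank F L = 1 := le_antisymm hle (Submodule.one_le_finrank_iff.mpr hne)
    obtain ⟨c, hc⟩ := (finrank_eq_one_iff_of_nonzero' (⟨l, hl⟩ : L)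
      (fun h => hl0 (congrArg Subtype.val h))).mp h1 ⟨Y l, hLY l hl⟩
    have hc' : c • l = Y l := congrArg Subtype.val hc
    have hcc : (c * c) • l = -l := by
      rw [mul_smul, hc', ← map_smul, hc', hYY]
    rw [← neg_one_smul F l] at hcc
    have hcc' : c * c = -1 := smul_left_injective F hl0 hcc
    have hc0 : c ≠ 0 := by rintro rfl; simp at hcc'
    have hcp := FiniteField.pow_card_sub_one_eq_one c hc0
    rw [hF, show (3 : ℕ) - 1 = 2 by rfl, pow_two, hcc'] at hcp
    exact h2 (by linear_combination -hcp)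
  have hA2 : ∀ v, A (A v) = 0 := fun v => by
    have : (A * A) v ∈ L := ⟨v, rfl⟩
    rwa [hL0, Submodule.mem_bot] at this
  have hmemK : ∀ {T : Module.End F V} {v : V}, v ∈ LinearMap.ker (T - 1) ↔ T v = v := fun {T v} => by
    rw [LinearMap.mem_ker, LinearMap.sub_apply, Module.End.one_apply, sub_eq_zero]
  -- the kernel has dimension two
  set K := LinearMap.ker A with hK
  have hRK : LinearMap.range A ≤ K := by
    rintro _ ⟨v, rfl⟩; exact LinearMap.mem_ker.mpr (hA2 v)
  have hrn := LinearMap.finrank_range_add_finrank_ker A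
  rw [← hK, h4] at hrn
  have hge := Submodule.finrank_mono hRK
  have hne3 : finrank F K < 3 := by
    by_contra h3
    set K' := LinearMap.ker (ψ (g0 * x0 * g0⁻¹) - 1) with hK'
    have hK'3 : 3 ≤ finrank F K' := by
      refine le_trans (not_lt.mp h3) (LinearMap.finrank_le_finrank_of_injective
        (f := LinearMap.codRestrict K' ((ψ g0).comp K.subtype) (fun k => ?_)) ?_)
      · rw [hK', hmemK, LinearMap.comp_apply, ← Module.End.mul_apply, ← map_mul,
          show g0 * x0 * g0⁻¹ * g0 = g0 * x0 by group, map_mul, Module.End.mul_apply,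
          Submodule.subtype_apply, hmemK.mp k.2]
      · intro a b h
        refine Subtype.ext ?_
        have h' := congrArg (fun w : K' => ψ g0⁻¹ (w : V)) h
        simpa [← Module.End.mul_apply, ← map_mul] using h'
    have hint : K ⊓ K' ≠ ⊥ := fun h => by
      have hs := Submodule.finrank_sup_add_finrank_inf_eq K K'
      rw [h, finrank_bot] at hs
      have := Submodule.finrank_le (K ⊔ K')
      omega
    obtain ⟨v, hv, hv0⟩ := Submodule.exists_mem_ne_zero_of_ne_bot hint
    refine hv0 (nofix _ rel_g v ?_)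
    rw [map_mul, Module.End.mul_apply, hmemK.mp hv.2, hmemK.mp hv.1]
  have hK2 : finrank F K = 2 := by omega
  refine ⟨hK2, fun v hv => ?_⟩
  have hR2 : LinearMap.range A = K := Submodule.eq_of_le_of_finrank_eq hRK (by omega)
  have hvK : v ∈ K := hmemK.mpr hv
  rw [← hR2] at hvK
  obtain ⟨a, ha⟩ := hvK
  exact ⟨a, by rw [← ha, hA, LinearMap.sub_apply, Module.End.one_apply]⟩

/-- The fixed space of an element of order three of `SL₂(5)` in `Sp₄(3)`. -/
theorem result {F : Type*} [Field F] [Fintype F] (hF : Fintype.card F = 3)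
    {K : Type*} [Field K] [Fintype K] (hK : Fintype.card K = 5)
    (φ : Matrix.SpecialLinearGroup (Fin 2) K →* ↥(Matrix.symplecticGroup (Fin 2) F)) (hφ : Function.Injective φ)
    (x : Matrix.SpecialLinearGroup (Fin 2) K) (hx : orderOf x = 3) :
    Module.finrank F ↥(LinearMap.ker (Matrix.toLin' ((φ x : Matrix (Fin 2 ⊕ Fin 2) (Fin 2 ⊕ Fin 2) F)) - LinearMap.id)) = 2 ∧
      ∀ v w : Fin 2 ⊕ Fin 2 → F, (φ x : Matrix (Fin 2 ⊕ Fin 2) (Fin 2 ⊕ Fin 2) F).mulVec v = v →
        (φ x : Matrix (Fin 2 ⊕ Fin 2) (Fin 2 ⊕ Fin 2) F).mulVec w = w →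
          dotProduct v ((Matrix.J (Fin 2) F).mulVec w) = 0 := by
  classical
  have := Fact.mk (show Nat.Prime 5 by norm_num)
  have hc5 : Fintype.card (ZMod 5) = Fintype.card K := by rw [hK, ZMod.card]
  let e := FiniteField.ringEquivOfCardEq hc5
  let m : S5 →* Matrix.SpecialLinearGroup (Fin 2) K := Matrix.SpecialLinearGroup.map e.toRingHom
  have hm : Function.Injective m := fun a b h => Subtype.ext (by
    ext i j
    have := congrArg (fun g : Matrix.SpecialLinearGroup (Fin 2) K => (g : Matrix (Fin 2) (Fin 2) K) i j) h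
    exact e.injective this)
  have hmsurj : Function.Surjective m := by
    refine ((Nat.bijective_iff_injective_and_card m).mpr ⟨hm, ?_⟩).2
    rw [Cfsg.Agent.Lib.Classical.card_SL2, Cfsg.Agent.Lib.Classical.card_SL2, hc5]
  obtain ⟨x', rfl⟩ := hmsurj x
  rw [orderOf_injective m hm] at hx
  obtain ⟨g, hg⟩ := conj_x0 hx
  -- a representation in which `x0` and `x'` have the same fixed vectors
  let ψ0 : S5 →* Module.End F (Fin 2 ⊕ Fin 2 → F) :=
    ((Matrix.toLinAlgEquiv' (R := F) (n := Fin 2 ⊕ Fin 2)).toAlgHom.toRingHom.toMonoidHom.comp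
      ((Matrix.symplecticGroup (Fin 2) F).subtype)).comp (φ.comp m)
  let ψ : S5 →* Module.End F (Fin 2 ⊕ Fin 2 → F) := ψ0.comp (MulAut.conj g).toMonoidHom
  have hψ0 : Function.Injective ψ0 :=
    (Matrix.toLinAlgEquiv'.injective.comp Subtype.val_injective).comp (hφ.comp hm)
  have hψ : Function.Injective ψ := hψ0.comp (MulAut.conj g).injective
  have h4 : Module.finrank F (Fin 2 ⊕ Fin 2 → F) = 4 := by simp
  obtain ⟨hdim, hpre⟩ := main hF h4 ψ hψ
  set M := (φ (m x') : Matrix (Fin 2 ⊕ Fin 2) (Fin 2 ⊕ Fin 2) F) with hMdef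
  have hfix : ∀ v, ψ x0 v = v ↔ M.mulVec v = v := by
    intro v
    have hp : ψ x0 = ψ0 (g * x0 * g⁻¹) := rfl
    have happ : ψ0 x' v = M.mulVec v := rfl
    rcases hg with h | h
    · rw [hp, h, happ]
    · rw [hp, h]
      have h1 : ψ0 x' (ψ0 x'⁻¹ v) = v := by
        rw [← Module.End.mul_apply, ← map_mul, mul_inv_cancel, map_one, Module.End.one_apply]
      have h2 : ψ0 x'⁻¹ (ψ0 x' v) = v := by
        rw [← Module.End.mul_apply, ← map_mul, inv_mul_cancel, map_one, Module.End.one_apply]
      constructor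
      · intro hv; rw [hv, happ] at h1; exact h1
      · intro hv; rw [happ, hv] at h2; exact h2
  have hker : LinearMap.ker (Matrix.toLin' M - LinearMap.id) = LinearMap.ker (ψ x0 - 1) := by
    ext v
    simp only [LinearMap.mem_ker, LinearMap.sub_apply, Matrix.toLin'_apply, LinearMap.id_apply,
      Module.End.one_apply, sub_eq_zero]
    exact (hfix v).symm
  refine ⟨by rw [hker]; exact hdim, fun v w hv hw => ?_⟩
  obtain ⟨a, rfl⟩ := hpre v ((hfix v).mpr hv)
  -- the form is preserved
  set P := (φ (m (g * x0 * g⁻¹)) : Matrix (Fin 2 ⊕ Fin 2) (Fin 2 ⊕ Fin 2) F) with hP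
  have hPw : P.mulVec w = w := (hfix w).mpr hw
  have hPJ : Pᵀ * Matrix.J (Fin 2) F * P = Matrix.J (Fin 2) F :=
    SymplecticGroup.mem_iff'.mp (φ (m (g * x0 * g⁻¹))).2
  show (P.mulVec a - a) ⬝ᵥ (Matrix.J (Fin 2) F).mulVec w = 0
  rw [sub_dotProduct, sub_eq_zero]
  calc P.mulVec a ⬝ᵥ (Matrix.J (Fin 2) F).mulVec w
      = P.mulVec a ⬝ᵥ (Matrix.J (Fin 2) F).mulVec (P.mulVec w) := by rw [hPw]
    _ = a ⬝ᵥ (Pᵀ * Matrix.J (Fin 2) F * P).mulVec w := by
      rw [← Matrix.mulVec_mulVec, ← Matrix.mulVec_mulVec, Matrix.dotProduct_mulVec a Pᵀ,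
        Matrix.vecMul_transpose]
    _ = a ⬝ᵥ (Matrix.J (Fin 2) F).mulVec w := by rw [hPJ]

end Cfsg.Agent.S3213
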