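import Mathlib
import Cfsg.Statements.S3215
import Cfsg.Agent.Lib.InvChar.OddElems
import Cfsg.Agent.Lib.OddLocal.PStable
import Cfsg.Agent.Lib.Coprime.PxQ
import Cfsg.Agent.Lib.Frobenius.UniqueSubgroup

set_option autoImplicit false
open Cfsg

namespace Cfsg.Agent.S3215

open Cfsg.Agent.Lib.InvChar in
/-- Under the hypotheses no involution commutes with a nontrivial element of odd order. -/
theorem key {H : Type*} [Group H] [Finite H] [Group.IsSolvable H] (hO : Cfsg.oddCore H = ⊥)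
    (hI : ∀ t : H, orderOf t = 2 → Cfsg.HasNormalPComplement 2 ↥(Subgroup.centralizer ({t} : Set H)))
    {t f : H} (ht : orderOf t = 2) (hf : Odd (orderOf f)) (hc : f * t = t * f) : f = 1 := by
  have : Fact (Nat.Prime 2) := ⟨Nat.prime_two⟩
  set Y := Cfsg.pCore 2 H with hY
  have hYp : IsPGroup 2 ↥Y := Cfsg.Agent.Lib.Cores.pCore_isPGroup 2 H
  have hYn : Y.Normal := inferInstance
  have hCY : Subgroup.centralizer (Y : Set H) ≤ Y := Cfsg.Agent.Lib.OddLocal.centralizer_pCore_le hO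
  -- an odd element of `C(t)` centralises the elements of `Y` commuting with `t`
  have hcomm : ∀ t : H, orderOf t = 2 → ∀ f : H, Odd (orderOf f) → f * t = t * f → ∀ u ∈ Y, u * t = t * u →
      f * u = u * f := by
    intro t ht f hf hft u hu hut
    set C := Subgroup.centralizer ({t} : Set H) with hC
    set K := Cfsg.pPrimeCore 2 ↥C with hK
    have hfC : f ∈ C := Subgroup.mem_centralizer_singleton_iff.mpr hft
    have huC : u ∈ C := Subgroup.mem_centralizer_singleton_iff.mpr hut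
    have hfK : (⟨f, hfC⟩ : ↥C) ∈ K := mem_pPrimeCore_of_coprime (hI t ht)
      (by rw [Subgroup.orderOf_mk]; exact Nat.coprime_two_right.mpr hf)
    have hKn : K.Normal := inferInstance
    have h1 : (⟨f, hfC⟩ : ↥C) * ⟨u, huC⟩ * ⟨f, hfC⟩⁻¹ * (⟨u, huC⟩ : ↥C)⁻¹ ∈ K := by
      rw [mul_assoc, mul_assoc, ← mul_assoc (⟨u, huC⟩ : ↥C)]
      exact mul_mem hfK (hKn.conj_mem _ (inv_mem hfK) _)
    have h2 : f * u * f⁻¹ * u⁻¹ ∈ Y := mul_mem (hYn.conj_mem u hu f) (inv_mem hu)
    have h3 : f * u * f⁻¹ * u⁻¹ = 1 := by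
      refine eq_one_of_isPGroup_of_odd hYp h2 ?_
      have h4 : Odd (orderOf ((⟨f, hfC⟩ : ↥C) * ⟨u, huC⟩ * ⟨f, hfC⟩⁻¹ * (⟨u, huC⟩ : ↥C)⁻¹)) :=
        odd_orderOf_of_mem (Nat.coprime_two_right.mp (Cfsg.Agent.Lib.Cores.pPrimeCore_coprime 2 ↥C)) h1
      rwa [← Subgroup.orderOf_coe] at h4
    calc f * u = (f * u * f⁻¹ * u⁻¹) * (u * f) := by group
      _ = u * f := by rw [h3, one_mul]
  have hA : ∀ y ∈ Y, orderOf y = 2 → ∀ f : H, Odd (orderOf f) → f * y = y * f → f = 1 := by
    intro y hy hyo f hf hfy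
    have h1 : Subgroup.zpowers f ≤ Subgroup.centralizer (Y : Set H) := by
      refine Cfsg.Agent.Lib.Coprime.le_centralizer_of_PxQ (p := 2) (P := Subgroup.zpowers y)
        (IsPGroup.of_card (n := 1) (by rw [Nat.card_zpowers, hyo, pow_one]))
        (by rw [Nat.card_zpowers]; exact Nat.coprime_two_right.mpr hf) hYp ?_ ?_ ?_ ?_
      · refine Subgroup.zpowers_le.mpr (Subgroup.mem_centralizer_iff.mpr ?_)
        intro w hw
        obtain ⟨k, rfl⟩ := Subgroup.mem_zpowers_iff.mp hw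
        exact ((show Commute f y from hfy).zpow_left k).eq
      · exact le_top.trans (Subgroup.normalizer_eq_top Y).ge
      · exact le_top.trans (Subgroup.normalizer_eq_top Y).ge
      · rintro u ⟨hu, huc⟩
        refine Subgroup.mem_centralizer_iff.mpr ?_
        intro w hw
        obtain ⟨k, rfl⟩ := Subgroup.mem_zpowers_iff.mp hw
        have h2 : f * u = u * f := hcomm y hyo f hf hfy u hu
          (Subgroup.mem_centralizer_iff.mp huc y (Subgroup.mem_zpowers y)).symm
        exact ((show Commute f u from h2).zpow_left k).eq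
    exact eq_one_of_isPGroup_of_odd hYp (hCY (h1 (Subgroup.mem_zpowers f))) hf
  by_cases hY1 : Y = ⊥
  · rw [hY1] at hCY
    exact Subgroup.mem_bot.mp (hCY (Subgroup.mem_centralizer_iff.mpr fun w hw => by
      rw [Subgroup.mem_bot.mp hw, one_mul, mul_one]))
  obtain ⟨y, hy, hyo, hyt⟩ := exists_fixed_involution hYp hY1 ht ((Subgroup.normalizer_eq_top Y).ge trivial)
  exact hA y hy hyo f hf (hcomm t ht f hf hc y hy hyt)

theorem exists_involution_pow {H : Type*} [Group H] [Finite H] {y : H} (h : Even (orderOf y)) :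
    ∃ k : ℕ, orderOf (y ^ k) = 2 := by
  obtain ⟨m, hm⟩ := h
  have hm0 : 0 < m := by have := orderOf_pos y; omega
  exact ⟨m, by rw [orderOf_pow, hm, Nat.gcd_eq_right (Dvd.intro_left 2 (by ring)), ← two_mul, Nat.mul_div_cancel _ hm0]⟩

/-- Let H be a finite solvable group with no nontrivial normal subgroup of odd order in which the centralizer of every involution has a normal 2-complement. Let X be a Hall 2'-subgroup of H (odd order, index a power of 2) and Y = O₂(H). Then no non-identity element of X commutes with a non-identity element of Y (so for X ≠ 1 the group XY is a Frobenius group with kernel Y), every Sylow subgroup of X is cyclic, XY is normal in H, and H/XY is a cyclic 2-group. -/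
theorem result {H : Type*} [Group H] [Finite H] (hsol : Group.IsSolvable H)
    (hO : Cfsg.oddCore H = ⊥)
    (hI : ∀ t : H, orderOf t = 2 → Cfsg.HasNormalPComplement 2 ↥(Subgroup.centralizer ({t} : Set H)))
    (X : Subgroup H) (hXodd : Odd (Nat.card X)) (hXidx : ∃ k : ℕ, X.index = 2 ^ k) :
    (∀ x ∈ X, x ≠ 1 → ∀ y ∈ Cfsg.pCore 2 H, y ≠ 1 → x * y ≠ y * x) ∧
      (∀ (p : ℕ) [Fact p.Prime] (P : Sylow p ↥X), IsCyclic ↥(P : Subgroup ↥X)) ∧
      (X ⊔ Cfsg.pCore 2 H).Normal ∧
      ∀ hN : (X ⊔ Cfsg.pCore 2 H).Normal, IsCyclic (H ⧸ (X ⊔ Cfsg.pCore 2 H)) ∧ IsPGroup 2 (H ⧸ (X ⊔ Cfsg.pCore 2 H)) := by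
  have : Fact (Nat.Prime 2) := ⟨Nat.prime_two⟩
  set Y := Cfsg.pCore 2 H with hY
  have hYp : IsPGroup 2 ↥Y := Cfsg.Agent.Lib.Cores.pCore_isPGroup 2 H
  have hYn : Y.Normal := inferInstance
  have hYev : ∀ y ∈ Y, y ≠ 1 → Even (orderOf y) := by
    intro y hy hy1
    by_contra hne
    exact hy1 (Cfsg.Agent.Lib.InvChar.eq_one_of_isPGroup_of_odd hYp hy (Nat.not_even_iff_odd.mp hne))
  have hCY : Subgroup.centralizer (Y : Set H) ≤ Y := Cfsg.Agent.Lib.OddLocal.centralizer_pCore_le hO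
  have hfree : ∀ x ∈ X, x ≠ 1 → ∀ y ∈ Y, y ≠ 1 → x * y ≠ y * x := by
    intro x hx hx1 y hy hy1 hxy
    obtain ⟨k, hk⟩ := exists_involution_pow (hYev y hy hy1)
    exact hx1 (key hO hI hk (Cfsg.Agent.Lib.InvChar.odd_orderOf_of_mem hXodd hx)
      ((show Commute x y from hxy).pow_right k).eq)
  have hcyc : ∀ (p : ℕ) [Fact p.Prime] (P : Sylow p ↥X), IsCyclic ↥(P : Subgroup ↥X) := by
    intro p _ P
    by_cases hY1 : Y = ⊥
    · have : Subsingleton ↥X := ⟨fun a b => by
        have h1 : ∀ w : H, w = 1 := fun w => by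
          have h2 : w ∈ Y := hCY (Subgroup.mem_centralizer_iff.mpr fun v hv => by
            rw [show v = 1 from Subgroup.mem_bot.mp (hY1 ▸ hv), one_mul, mul_one])
          rw [hY1] at h2
          exact h2
        exact Subtype.ext ((h1 _).trans (h1 _).symm)⟩
      infer_instance
    have : Nontrivial ↥Y := (Subgroup.nontrivial_iff_ne_bot _).mpr hY1
    rcases Cfsg.Agent.Lib.Frobenius.isCyclic_or_quaternion_of_fixedPointFree
      ((MulAut.conjNormal (H := Y)).comp X.subtype) (fun a ha g hg => by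
        by_contra hg1
        refine hfree a a.2 (fun h => ha (Subtype.ext h)) g g.2 (fun h => hg1 (Subtype.ext h)) ?_
        have h1 : (a : H) * g * (a : H)⁻¹ = g := congrArg Subtype.val hg
        exact mul_inv_eq_iff_eq_mul.mp h1) (P : Subgroup ↥X) P.2 with h | ⟨-, m, ⟨e⟩⟩
    · exact h
    · exfalso
      have h1 : Nat.card ↥(P : Subgroup ↥X) ∣ Nat.card ↥X := Subgroup.card_subgroup_dvd_card _
      rw [Nat.card_congr e.toEquiv, Nat.card_eq_fintype_card, QuaternionGroup.card] at h1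
      exact Nat.not_even_iff_odd.mpr hXodd (even_iff_two_dvd.mpr ((Dvd.intro (2 * 2 ^ (m + 1)) (by ring)).trans h1))
  refine ⟨hfree, hcyc, ?_⟩
  set q := QuotientGroup.mk' Y with hq
  have hsup : X ⊔ Y = (X.map q).comap q := by rw [Subgroup.comap_map_eq, hq, QuotientGroup.ker_mk']
  suffices hmain : (X.map q).Normal ∧ ∃ h0 : H, ∀ h : H, ∃ k : ℤ, (h0 ^ k)⁻¹ * h ∈ X ⊔ Y by
    obtain ⟨hn, h0, hh0⟩ := hmain
    have hN : (X ⊔ Y).Normal := hsup ▸ hn.comap q
    refine ⟨hN, fun _ => ⟨?_, ?_⟩⟩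
    · refine ⟨⟨(h0 : H ⧸ (X ⊔ Y)), fun g => ?_⟩⟩
      induction g using QuotientGroup.induction_on with
      | H h =>
        obtain ⟨k, hk⟩ := hh0 h
        refine ⟨k, ?_⟩
        show (h0 : H ⧸ (X ⊔ Y)) ^ k = (h : H ⧸ (X ⊔ Y))
        rw [← QuotientGroup.mk_zpow, QuotientGroup.eq]
        exact hk
    · obtain ⟨k, hk⟩ := hXidx
      have h1 : (X ⊔ Y).index ∣ 2 ^ k := hk ▸ Subgroup.index_dvd_of_le le_sup_left
      obtain ⟨i, -, hi⟩ := (Nat.dvd_prime_pow Nat.prime_two).mp h1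
      exact IsPGroup.of_card (n := i) (by rw [← Subgroup.index_eq_card, hi])
  have hinj : ∀ x ∈ X, q x = 1 → x = 1 := fun x hx h1 =>
    Cfsg.Agent.Lib.InvChar.eq_one_of_isPGroup_of_odd hYp ((QuotientGroup.eq_one_iff x).mp h1)
      (Cfsg.Agent.Lib.InvChar.odd_orderOf_of_mem hXodd hx)
  by_cases htriv : Subsingleton (H ⧸ Y)
  · have hall : ∀ h : H, h ∈ Y := fun h => (QuotientGroup.eq_one_iff h).mp (Subsingleton.elim _ _)
    refine ⟨⟨fun a ha b => ?_⟩, 1, fun h => ⟨0, by simpa using Subgroup.mem_sup_right (hall h)⟩⟩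
    rw [Subsingleton.elim (b * a * b⁻¹) a]
    exact ha
  have : Nontrivial (H ⧸ Y) := not_subsingleton_iff_nontrivial.mp htriv
  have hsolQ : Group.IsSolvable (H ⧸ Y) := inferInstance
  obtain ⟨p, hp⟩ : ∃ p : Nat.Primes, Cfsg.pCore (p : ℕ) (H ⧸ Y) ≠ ⊥ := by
    by_contra hcon
    simp only [not_exists, not_not] at hcon
    apply Cfsg.Agent.Lib.Cores.fittingSubgroup_ne_bot_of_isSolvable hsolQ
    rw [Cfsg.Agent.Lib.Cores.fittingSubgroup_eq_iSup]
    simp [hcon]
  have : Fact (p : ℕ).Prime := ⟨p.2⟩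
  set M := Cfsg.pCore (p : ℕ) (H ⧸ Y) with hM
  have hMp : IsPGroup (p : ℕ) ↥M := Cfsg.Agent.Lib.Cores.pCore_isPGroup _ _
  have hp2 : (p : ℕ) ≠ 2 := by
    intro h2
    apply hp
    rw [hM, h2]
    exact Cfsg.Agent.Lib.Cores.pCore_quotient_pCore 2 H
  have hMn : M.Normal := inferInstance
  have hMX : M ≤ X.map q := by
    refine Cfsg.Agent.Lib.InvChar.odd_normal_le ?_ ?_
    · obtain ⟨i, hi⟩ := hMp.exists_card_eq
      rw [hi]
      exact (p.2.odd_of_ne_two hp2).pow
    · obtain ⟨k, hk⟩ := hXidx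
      obtain ⟨i, -, hi⟩ := (Nat.dvd_prime_pow Nat.prime_two).mp
        (hk ▸ Subgroup.index_map_dvd X (QuotientGroup.mk'_surjective Y))
      exact ⟨i, hi⟩
  -- `M` is cyclic
  set M' := M.comap (q.comp X.subtype) with hM'
  have hinj' : Function.Injective (q.comp X.subtype) := by
    rw [injective_iff_map_eq_one]
    exact fun x hx => Subtype.ext (hinj x x.2 hx)
  have hM'p : IsPGroup (p : ℕ) ↥M' := hMp.comap_of_injective _ hinj'
  obtain ⟨P, hP⟩ := hM'p.exists_le_sylow
  have hPc := hcyc (p : ℕ) P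
  have hM'c : IsCyclic ↥M' := Subgroup.isCyclic_of_le hP
  have hmapM : M'.map (q.comp X.subtype) = M := by
    refine Subgroup.map_comap_eq_self ?_
    rw [MonoidHom.range_comp, Subgroup.range_subtype]
    exact hMX
  have hMc : IsCyclic ↥M := by
    have h1 : IsCyclic ↥(M'.map (q.comp X.subtype)) :=
      isCyclic_of_surjective (M'.equivMapOfInjective _ hinj').toMonoidHom (MulEquiv.surjective _)
    rwa [hmapM] at h1
  have : Nontrivial ↥M := (Subgroup.nontrivial_iff_ne_bot _).mpr hp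
  obtain ⟨i, hi0, hi⟩ := hMp.nontrivial_iff_card.mp inferInstance
  obtain ⟨fb, hfb⟩ := exists_prime_orderOf_dvd_card' (G := ↥M) (p : ℕ) (by rw [hi]; exact dvd_pow_self _ hi0.ne')
  set F0 := Subgroup.zpowers ((fb : ↥M) : H ⧸ Y) with hF0
  have hfbo : orderOf ((fb : ↥M) : H ⧸ Y) = (p : ℕ) := by rw [Subgroup.orderOf_coe, hfb]
  have hF0n : F0.Normal := by
    refine ⟨fun w hw g => ?_⟩
    obtain ⟨k, rfl⟩ := Subgroup.mem_zpowers_iff.mp hw
    rw [← conj_zpow]
    refine zpow_mem ?_ k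
    have hgm : g * ((fb : ↥M) : H ⧸ Y) * g⁻¹ ∈ M := hMn.conj_mem _ fb.2 g
    have hgo : orderOf (⟨_, hgm⟩ : ↥M) = (p : ℕ) := by
      rw [Subgroup.orderOf_mk]; exact (orderOf_injective (MulAut.conj g).toMonoidHom (MulAut.conj g).injective _).trans hfbo
    classical
    have : Fintype ↥M := Fintype.ofFinite _
    have heq : Subgroup.zpowers (⟨_, hgm⟩ : ↥M) ≤ Subgroup.zpowers fb := by
      rw [Subgroup.zpowers_le]
      have hsub : (Subgroup.zpowers fb : Set ↥M).toFinset ⊆ Finset.univ.filter (fun a : ↥M => a ^ (p : ℕ) = 1) := by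
        intro a ha
        rw [Set.mem_toFinset] at ha
        obtain ⟨j, rfl⟩ := Subgroup.mem_zpowers_iff.mp ha
        simp only [Finset.mem_filter, Finset.mem_univ, true_and]
        rw [← zpow_natCast, ← zpow_mul, mul_comm, zpow_mul, zpow_natCast, ← hfb, pow_orderOf_eq_one, one_zpow]
      have hcard : (Finset.univ.filter (fun a : ↥M => a ^ (p : ℕ) = 1)).card ≤ (Subgroup.zpowers fb : Set ↥M).toFinset.card := by
        refine (IsCyclic.card_pow_eq_one_le p.2.pos).trans ?_
        rw [Set.toFinset_card, ← Nat.card_eq_fintype_card]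
        exact le_of_eq (by rw [SetLike.coe_sort_coe, Nat.card_zpowers, hfb])
      have hmem : (⟨_, hgm⟩ : ↥M) ∈ Finset.univ.filter (fun a : ↥M => a ^ (p : ℕ) = 1) := by
        simp only [Finset.mem_filter, Finset.mem_univ, true_and]
        rw [← hgo, pow_orderOf_eq_one]
      rw [← Finset.eq_of_subset_of_card_le hsub hcard, Set.mem_toFinset] at hmem
      exact hmem
    obtain ⟨j, hj⟩ := Subgroup.mem_zpowers_iff.mp (heq (Subgroup.mem_zpowers _))
    exact Subgroup.mem_zpowers_iff.mpr ⟨j, by simpa using congrArg Subtype.val hj⟩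
  have hF0c : Nat.card ↥F0 = (p : ℕ) := by rw [hF0, Nat.card_zpowers, hfbo]
  have : IsCyclic ↥F0 := isCyclic_of_prime_card hF0c
  set φ : (H ⧸ Y) →* MulAut ↥F0 := MulAut.conjNormal with hφ
  have hautc : IsCyclic (MulAut ↥F0) := by
    have hu : IsCyclic (ZMod (Nat.card ↥F0))ˣ := by
      rw [hF0c]
      infer_instance
    exact isCyclic_of_surjective (IsCyclic.mulAutMulEquiv (G := ↥F0)).symm.toMonoidHom (MulEquiv.surjective _)
  have hker : φ.ker ≤ X.map q := by
    refine Cfsg.Agent.Lib.InvChar.odd_normal_le ?_ ?_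
    · by_contra hodd
      obtain ⟨sb, hsb⟩ := exists_prime_orderOf_dvd_card' (G := ↥φ.ker) 2
        (even_iff_two_dvd.mp (Nat.not_odd_iff_even.mp hodd))
      obtain ⟨s, hs⟩ := QuotientGroup.mk'_surjective Y ((sb : ↥φ.ker) : H ⧸ Y)
      obtain ⟨f, hf, hfe⟩ : ((fb : ↥M) : H ⧸ Y) ∈ X.map q := hMX fb.2
      have hcommb : Commute (q f) (q s) := by
        have h1 : φ ((sb : ↥φ.ker) : H ⧸ Y) = 1 := sb.2
        have h2 := congrArg (fun e : MulAut ↥F0 => ((e ⟨_, Subgroup.mem_zpowers _⟩ : ↥F0) : H ⧸ Y)) h1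
        simp only [hφ, MulAut.conjNormal_apply, MulAut.one_apply] at h2
        show q f * q s = q s * q f
        rw [hfe, hs]
        exact (mul_inv_eq_iff_eq_mul.mp h2).symm
      have hfp : f ^ (p : ℕ) = 1 := hinj _ (pow_mem hf _) (by rw [map_pow, hfe, ← hfbo, pow_orderOf_eq_one])
      have hmem : ∀ w : {w : H // q w = q s}, q (f * w.1 * f⁻¹) = q s := fun w => by
        rw [map_mul, map_mul, map_inv, w.2, hcommb.eq, mul_inv_cancel_right]
      let σ : Equiv.Perm {w : H // q w = q s} :=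
        { toFun := fun w => ⟨f * w.1 * f⁻¹, hmem w⟩
          invFun := fun w => ⟨f⁻¹ * w.1 * f, by
            rw [map_mul, map_mul, map_inv, w.2, mul_assoc, ← hcommb.eq, inv_mul_cancel_left]⟩
          left_inv := fun w => Subtype.ext (by group)
          right_inv := fun w => Subtype.ext (by group) }
      have hσ : ∀ n : ℕ, ∀ w : {w : H // q w = q s}, ((σ ^ n) w).1 = f ^ n * w.1 * (f ^ n)⁻¹ := by
        intro n
        induction n with
        | zero => intro w; simp
        | succ n ih =>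
          intro w
          rw [pow_succ', Equiv.Perm.mul_apply]
          show f * ((σ ^ n) w).1 * f⁻¹ = _
          rw [ih, pow_succ' f]
          simp only [mul_inv_rev, mul_assoc]
      have : Fintype {w : H // q w = q s} := Fintype.ofFinite _
      have hcard : Fintype.card {w : H // q w = q s} = Nat.card ↥Y := by
        rw [← Nat.card_eq_fintype_card]
        refine Nat.card_congr
          { toFun := fun w => ⟨s⁻¹ * w.1, (QuotientGroup.eq_one_iff _).mp (by
              show q (s⁻¹ * w.1) = 1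
              rw [map_mul, map_inv, w.2, inv_mul_cancel])⟩
            invFun := fun y => ⟨s * y.1, by
              rw [map_mul, show q (y : H) = 1 from (QuotientGroup.eq_one_iff _).mpr y.2, mul_one]⟩
            left_inv := fun w => Subtype.ext (mul_inv_cancel_left _ _)
            right_inv := fun y => Subtype.ext (inv_mul_cancel_left _ _) }
      have hnd : ¬ (p : ℕ) ∣ Fintype.card {w : H // q w = q s} := by
        obtain ⟨j, hj⟩ := hYp.exists_card_eq
        rw [hcard, hj]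
        intro hd
        exact hp2 ((Nat.prime_dvd_prime_iff_eq p.2 Nat.prime_two).mp (p.2.dvd_of_dvd_pow hd))
      obtain ⟨⟨w, hw⟩, hfix⟩ := Equiv.Perm.exists_fixed_point_of_prime (p := (p : ℕ)) (n := 1) hnd (σ := σ) (by
        refine Equiv.ext fun w => Subtype.ext ?_
        rw [pow_one, hσ, hfp, one_mul, inv_one, mul_one]
        rfl)
      have hfw : f * w * f⁻¹ = w := congrArg Subtype.val hfix
      have hwe : Even (orderOf w) := by
        have h1 := orderOf_map_dvd q w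
        rw [hw, hs, Subgroup.orderOf_coe, hsb] at h1
        exact even_iff_two_dvd.mpr h1
      obtain ⟨k, hk⟩ := exists_involution_pow hwe
      have hf1 := key hO hI hk (Cfsg.Agent.Lib.InvChar.odd_orderOf_of_mem hXodd hf)
        ((show Commute f w from mul_inv_eq_iff_eq_mul.mp hfw).pow_right k).eq
      rw [hf1, map_one] at hfe
      rw [← hfe, orderOf_one] at hfbo
      exact p.2.ne_one hfbo.symm
    · obtain ⟨k, hk⟩ := hXidx
      obtain ⟨i, -, hi⟩ := (Nat.dvd_prime_pow Nat.prime_two).mp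
        (hk ▸ Subgroup.index_map_dvd X (QuotientGroup.mk'_surjective Y))
      exact ⟨i, hi⟩
  refine ⟨⟨fun a ha g => ?_⟩, ?_⟩
  · have h1 : g * a * g⁻¹ * a⁻¹ ∈ φ.ker := by
      rw [MonoidHom.mem_ker, map_mul, map_mul, map_mul, map_inv, map_inv,
        hautc.isMulCommutative.is_comm.comm (φ g) (φ a), mul_inv_cancel_right, mul_inv_cancel]
    simpa using mul_mem (hker h1) ha
  · have : IsCyclic ↥φ.range := inferInstance
    obtain ⟨⟨g, hg⟩, hgen⟩ := IsCyclic.exists_generator (α := ↥φ.range)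
    obtain ⟨gb, rfl⟩ := hg
    obtain ⟨h0, rfl⟩ := QuotientGroup.mk'_surjective Y gb
    refine ⟨h0, fun h => ?_⟩
    obtain ⟨k, hk⟩ := Subgroup.mem_zpowers_iff.mp (hgen ⟨φ (q h), q h, rfl⟩)
    refine ⟨k, ?_⟩
    rw [hsup, Subgroup.mem_comap]
    refine hker ?_
    have h1 : φ (q h0) ^ k = φ (q h) := congrArg Subtype.val hk
    rw [MonoidHom.mem_ker, map_mul, map_inv, map_zpow, map_mul, map_inv, map_zpow, h1, inv_mul_cancel]

end Cfsg.Agent.S3215
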