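import Cfsg.Statements.S3222
import Cfsg.Agent.Lib.InvChar.TwoTimesSymFourCases

set_option autoImplicit false
open Cfsg

namespace Cfsg.Agent.S3222

open Cfsg.Agent.Lib.InvChar.TwoSymFour

/-- Let G be a finite group of even order such that (1) some involution t lying in the centre of a Sylow 2-subgroup of G has C_G(t) ≅ Z₂ × S₄, and (2) every Sylow 2-subgroup S of G satisfies C_G(S′) = S, where S′ is the derived subgroup of S. Then G = C_G(t) if G is solvable, and G ≅ S₆ otherwise. -/
theorem result {G : Type*} [Group G] [Finite G] (hev : Even (Nat.card G))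
    (t : G) (ht : orderOf t = 2) (T : Sylow 2 G) (htT : t ∈ (T : Subgroup G)) (htc : ∀ s ∈ (T : Subgroup G), s * t = t * s)
    (e : ↥(Subgroup.centralizer ({t} : Set G)) ≃* (Multiplicative (ZMod 2) × Equiv.Perm (Fin 4)))
    (h2 : ∀ S : Sylow 2 G, Subgroup.centralizer ((⁅(S : Subgroup G), (S : Subgroup G)⁆ : Subgroup G) : Set G) = (S : Subgroup G)) :
    (Group.IsSolvable G → Subgroup.centralizer ({t} : Set G) = ⊤) ∧
      (¬ Group.IsSolvable G → Nonempty (G ≃* Equiv.Perm (Fin 6))) := by
  obtain ⟨d, P, hP, hP16⟩ := exists_data e ht T htc h2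
  obtain ⟨M, hMn, hM2, htM⟩ := d.exists_index_two P hP hP16
  obtain ⟨S⟩ := exists_setup e d M hMn hM2 htM
  rcases Cfsg.Agent.S3035.result (S.φ z0) S.orderOf_z S.centralizer_iso with h | h | h | h | h
  · exact (S.not_complement h).elim
  · have htop := S.top_of_symFour h
    refine ⟨fun _ => htop, fun hns => absurd ?_ hns⟩
    haveI : Group.IsSolvable (Equiv.Perm (Fin 4)) := Cfsg.Agent.Lib.PGroups.isSolvable_perm_four
    let f : G →* Multiplicative (ZMod 2) × Equiv.Perm (Fin 4) :=
      e.toMonoidHom.comp ((MonoidHom.id G).codRestrict _ fun x => htop.ge (Subgroup.mem_top x))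
    have hf : Function.Injective f := fun a b hab =>
      congrArg (fun w : ↥(Subgroup.centralizer ({t} : Set G)) => (w : G)) (e.injective hab)
    exact Group.isSolvable_of_isSolvable_injective hf
  · exact (S.not_symFive h).elim
  · obtain ⟨e3⟩ := h
    have hcen : Subgroup.center (Matrix.SpecialLinearGroup (Fin 3) (ZMod 2)) = ⊥ := by
      rw [Subgroup.eq_bot_iff_card]
      exact (Nat.card_eq_fintype_card).trans (by decide +kernel)
    have h168 : Nat.card ↥S.M = 168 := by
      rw [Nat.card_congr e3.toEquiv, Nat.card_eq_fintype_card]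
      decide +kernel
    haveI : IsSimpleGroup ↥S.M := by
      haveI := Cfsg.Agent.Lib.Classical.isSimpleGroup_PSL_fin (n := 3) (F := ZMod 2) (by norm_num) (by norm_num)
      let g : Matrix.SpecialLinearGroup (Fin 3) (ZMod 2) ≃* Matrix.ProjectiveSpecialLinearGroup (Fin 3) (ZMod 2) :=
        (QuotientGroup.quotientBot.symm).trans (QuotientGroup.quotientMulEquivOfEq hcen.symm)
      haveI : Nontrivial ↥S.M := (e3.trans g).toEquiv.nontrivial
      exact IsSimpleGroup.isSimpleGroup_of_surjective (e3.trans g).symm.toMonoidHom (e3.trans g).symm.surjective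
    exact (S.not_sl h168).elim
  · obtain ⟨e6⟩ := S.symSix_of_altSix h
    refine ⟨fun hs => absurd ?_ (Equiv.Perm.not_isSolvable (Fin 6) (by rw [Cardinal.mk_fin]; exact_mod_cast (by norm_num : 5 ≤ 6))), fun _ => ⟨e6⟩⟩
    exact Group.isSolvable_of_surjective (f := e6.toMonoidHom) e6.surjective

end Cfsg.Agent.S3222
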