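import Mathlib
import Cfsg.Statements.S3224
import Cfsg.Agent.Lib.Involutions.TwoGroupRec

set_option autoImplicit false
open Cfsg

namespace Cfsg.Agent.S3224

universe u

/-- The centraliser of order four of a non-central involution consists of `1, x, z, x z` with `z` central. -/
theorem exists_central {S : Type u} [Group S] [Finite S] (k : ℕ) (hcard : Nat.card S = 2 ^ (k + 3))
    (x : S) (hx : orderOf x = 2) (hC : Nat.card ↥(Subgroup.centralizer ({x} : Set S)) = 4) :
    ∃ z : S, z * z = 1 ∧ z ≠ 1 ∧ z ≠ x ∧ (∀ s, s * z = z * s) ∧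
      ∀ w : S, x * w = w * x → w = 1 ∨ w = x ∨ w = z ∨ w = x * z := by
  have : Fact (Nat.Prime 2) := ⟨Nat.prime_two⟩
  have hS : IsPGroup 2 S := IsPGroup.of_card hcard
  set C := Subgroup.centralizer ({x} : Set S) with hCdef
  have hxx : x * x = 1 := by rw [← pow_two, ← hx, pow_orderOf_eq_one]
  have hxc : ∀ z : S, (∀ s, s * z = z * s) → z ≠ x := by
    rintro z hz rfl
    have htop : C = ⊤ := eq_top_iff.mpr fun s _ => Subgroup.mem_centralizer_singleton_iff.mpr (hz s)
    rw [htop, Subgroup.card_top, hcard] at hC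
    have : 2 ^ (0 + 3) ≤ 2 ^ (k + 3) := Nat.pow_le_pow_right (by norm_num) (by omega)
    omega
  have : Nontrivial S := Finite.one_lt_card_iff_nontrivial.mp (by rw [hcard]; exact Nat.one_lt_pow (by omega) (by norm_num))
  obtain ⟨m, hm0, hm⟩ := (hS.to_subgroup (Subgroup.center S)).nontrivial_iff_card.mp
    (IsPGroup.center_nontrivial hS)
  obtain ⟨⟨z, hzc⟩, hz⟩ := exists_prime_orderOf_dvd_card' (G := ↥(Subgroup.center S)) 2
    (by rw [hm]; exact dvd_pow_self 2 hm0.ne')
  rw [Subgroup.orderOf_mk] at hz
  have hzz : z * z = 1 := by rw [← pow_two, ← hz, pow_orderOf_eq_one]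
  have hz1 : z ≠ 1 := fun h => by rw [h, orderOf_one] at hz; omega
  have hcomm := Subgroup.mem_center_iff.mp hzc
  have hzx := hxc z hcomm
  refine ⟨z, hzz, hz1, hzx, hcomm, fun w hw => ?_⟩
  classical
  by_contra hne
  simp only [not_or] at hne
  obtain ⟨h1, h2, h3, h4⟩ := hne
  have hx1 : x ≠ 1 := fun h => by rw [h, orderOf_one] at hx; omega
  have h5 : x * z ≠ 1 := fun h => hzx (by rw [← inv_eq_of_mul_eq_one_right h, inv_eq_of_mul_eq_one_right hxx])
  have hset : ({1, x, z, x * z, w} : Finset S).card = 5 := by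
    rw [Finset.card_insert_of_notMem, Finset.card_insert_of_notMem, Finset.card_insert_of_notMem,
      Finset.card_insert_of_notMem, Finset.card_singleton] <;>
      simp [hx1.symm, hz1.symm, hzx.symm, h5.symm, Ne.symm h1, Ne.symm h2, Ne.symm h3, Ne.symm h4, hz1, hx1]
  have hle : (({1, x, z, x * z, w} : Finset S) : Set S) ⊆ (C : Set S) := by
    intro s hs
    simp only [Finset.coe_insert, Finset.coe_singleton, Set.mem_insert_iff, Set.mem_singleton_iff] at hs
    have hzC : z ∈ C := Subgroup.mem_centralizer_singleton_iff.mpr (hcomm x).symm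
    have hxC : x ∈ C := Subgroup.mem_centralizer_singleton_iff.mpr rfl
    rcases hs with rfl | rfl | rfl | rfl | rfl
    exacts [one_mem C, hxC, hzC, mul_mem hxC hzC, Subgroup.mem_centralizer_singleton_iff.mpr hw.symm]
  have := Set.ncard_le_ncard hle (Set.toFinite _)
  rw [Set.ncard_coe_finset, hset, ← Nat.card_coe_set_eq] at this
  have h6 : Nat.card ↑(C : Set S) = 4 := hC
  omega

/-- A `2`-group with an involution with centraliser of order four has a cyclic subgroup of index two. -/
theorem exists_cyclic : ∀ (k : ℕ) {S : Type u} [Group S] [Finite S], Nat.card S = 2 ^ (k + 3) →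
    ∀ x : S, orderOf x = 2 → Nat.card ↥(Subgroup.centralizer ({x} : Set S)) = 4 →
    ∃ a : S, x ∉ Subgroup.zpowers a ∧ (Subgroup.zpowers a).index = 2 := by
  intro k
  induction k with
  | zero =>
    intro S _ _ hcard x hx hC
    obtain ⟨z, hzz, hz1, hzx, hcomm, hfix⟩ := exists_central 0 hcard x hx hC
    have hxx : x * x = 1 := by rw [← pow_two, ← hx, pow_orderOf_eq_one]
    obtain ⟨s, hs⟩ : ∃ s, s ∉ Subgroup.centralizer ({x} : Set S) := by
      by_contra hcon
      simp only [not_exists, not_not] at hcon
      have htop : Subgroup.centralizer ({x} : Set S) = ⊤ := eq_top_iff.mpr fun w _ => hcon w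
      rw [htop, Subgroup.card_top, hcard] at hC
      norm_num at hC
    obtain ⟨a, ha, haC⟩ : ∃ a, a * a ≠ 1 ∧ a ∉ Subgroup.centralizer ({x} : Set S) := by
      by_cases h : s * s = 1
      · refine ⟨s * x, fun h' => hs (Subgroup.mem_centralizer_singleton_iff.mpr ?_), fun h' => hs ?_⟩
        · calc s * x = (s * x * (s * x)) * (x⁻¹ * s⁻¹) := by group
            _ = x * s := by rw [h', one_mul, inv_eq_of_mul_eq_one_right hxx, inv_eq_of_mul_eq_one_right h]
        · simpa using mul_mem h' (inv_mem (Subgroup.mem_centralizer_singleton_iff.mpr (rfl : x * x = x * x)))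
      · exact ⟨s, h, hs⟩
    have hdvd : orderOf a ∣ 2 ^ 3 := hcard ▸ orderOf_dvd_natCard a
    obtain ⟨i, hi, hia⟩ := (Nat.dvd_prime_pow Nat.prime_two).mp hdvd
    have hi3 : i ≠ 3 := by
      intro h
      subst h
      have hgen : Subgroup.zpowers a = ⊤ :=
        Subgroup.eq_top_of_card_eq _ (by rw [Nat.card_zpowers, hia, hcard])
      apply haC
      obtain ⟨j, hj⟩ := Subgroup.mem_zpowers_iff.mp (hgen.ge (Subgroup.mem_top x))
      rw [Subgroup.mem_centralizer_singleton_iff, ← hj]
      exact ((Commute.refl a).zpow_right j).eq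
    have hi1 : 2 ≤ i := by
      by_contra h
      apply ha
      rcases Nat.lt_succ_iff.mp (not_le.mp h) |>.eq_or_lt with rfl | h0
      · rw [← pow_two]; exact (by rw [pow_one] at hia; rw [← hia, pow_orderOf_eq_one])
      · obtain rfl : i = 0 := by omega
        rw [pow_zero, orderOf_eq_one_iff] at hia
        rw [hia, one_mul]
    obtain rfl : i = 2 := by omega
    refine ⟨a, fun hxa => haC ?_, ?_⟩
    · obtain ⟨j, hj⟩ := Subgroup.mem_zpowers_iff.mp hxa
      rw [Subgroup.mem_centralizer_singleton_iff, ← hj]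
      exact ((Commute.refl a).zpow_right j).eq
    · have h1 := Subgroup.card_mul_index (Subgroup.zpowers a)
      rw [Nat.card_zpowers, hia, hcard] at h1
      omega
  | succ k ih =>
    intro S _ _ hcard x hx hC
    have : Fact (Nat.Prime 2) := ⟨Nat.prime_two⟩
    obtain ⟨z, hzz, hz1, hzx, hcomm, hfix⟩ := exists_central (k + 1) hcard x hx hC
    have hxx : x * x = 1 := by rw [← pow_two, ← hx, pow_orderOf_eq_one]
    have hx1 : x ≠ 1 := fun h => by rw [h, orderOf_one] at hx; omega
    set Z := Subgroup.zpowers z with hZ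
    have hzmem : ∀ w ∈ Z, w = 1 ∨ w = z := by
      intro w hw
      obtain ⟨j, rfl⟩ := Subgroup.mem_zpowers_iff.mp hw
      rcases Int.even_or_odd j with ⟨d, rfl⟩ | ⟨d, rfl⟩
      · left; rw [zpow_add, ← (Commute.refl z).mul_zpow, hzz, one_zpow]
      · right; rw [zpow_add, zpow_mul, zpow_two, hzz, one_zpow, one_mul, zpow_one]
    have hZcard : Nat.card ↥Z = 2 := by
      rw [hZ, Nat.card_zpowers]
      exact orderOf_eq_prime (by rw [pow_two, hzz]) hz1
    have hZn : Z.Normal := ⟨fun w hw g => by
      rcases hzmem w hw with rfl | rfl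
      · simp
      · rw [hcomm g, mul_inv_cancel_right]; exact hw⟩
    have hcardQ : Nat.card (S ⧸ Z) = 2 ^ (k + 3) := by
      have := Subgroup.card_mul_index Z
      rw [Subgroup.index_eq_card, hZcard, hcard, pow_succ'] at this
      exact Nat.eq_of_mul_eq_mul_left two_pos this
    have hxZ : x ∉ Z := fun h => (hzmem x h).elim hx1 (fun h' => hzx h'.symm)
    have hxb : orderOf (x : S ⧸ Z) = 2 :=
      orderOf_eq_prime (by rw [← QuotientGroup.mk_pow, pow_two, hxx, QuotientGroup.mk_one])
        (fun h => hxZ ((QuotientGroup.eq_one_iff x).mp h))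
    set C := Subgroup.centralizer ({x} : Set S) with hCdef
    set N := (Subgroup.centralizer ({(x : S ⧸ Z)} : Set (S ⧸ Z))).comap (QuotientGroup.mk' Z) with hN
    have hmemN : ∀ s, s ∈ N → x * s * x⁻¹ * s⁻¹ ∈ Z := by
      intro s hs
      have h1 := Subgroup.mem_centralizer_singleton_iff.mp hs
      simp only [QuotientGroup.mk'_apply] at h1
      rw [← QuotientGroup.eq_one_iff]
      simp only [QuotientGroup.mk_mul, QuotientGroup.mk_inv, ← h1, mul_inv_cancel_right, mul_inv_cancel]
    have hzxC : ∀ s ∈ N, x * s = s * x ∨ x * s = z * (s * x) := by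
      intro s hs
      have h1 : x * s = (x * s * x⁻¹ * s⁻¹) * (s * x) := by group
      rcases hzmem _ (hmemN s hs) with h | h <;> rw [h] at h1
      · left; rwa [one_mul] at h1
      · right; exact h1
    have hCN : C ≤ N := fun s hs => Subgroup.mem_centralizer_singleton_iff.mpr (by
      simp only [QuotientGroup.mk'_apply]
      rw [← QuotientGroup.mk_mul, ← QuotientGroup.mk_mul, Subgroup.mem_centralizer_singleton_iff.mp hs])
    have hNcard : Nat.card ↥N = 8 := by
      have hlt : C < Subgroup.normalizer (C : Set S) := by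
        have : Group.IsNilpotent S := (IsPGroup.of_card hcard).isNilpotent
        refine Group.normalizerCondition_of_isNilpotent C (lt_top_iff_ne_top.mpr fun h => ?_)
        rw [h, Subgroup.card_top, hcard] at hC
        have : 2 ^ (0 + 4) ≤ 2 ^ (k + 1 + 3) := Nat.pow_le_pow_right (by norm_num) (by omega)
        omega
      obtain ⟨s, hsN, hsC⟩ := SetLike.exists_of_lt hlt
      have hsN' : s ∈ N := by
        rw [hN, Subgroup.mem_comap, Subgroup.mem_centralizer_singleton_iff]
        simp only [QuotientGroup.mk'_apply]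
        have h1 : x * (s * x * s⁻¹) = (s * x * s⁻¹) * x :=
          (Subgroup.mem_centralizer_singleton_iff.mp ((Subgroup.mem_normalizer_iff.mp hsN x).mp
            (Subgroup.mem_centralizer_singleton_iff.mpr rfl))).symm
        rcases hfix _ h1 with h | h | h | h
        · exact absurd (conj_eq_one_iff.mp h) hx1
        · exact absurd (Subgroup.mem_centralizer_singleton_iff.mpr (mul_inv_eq_iff_eq_mul.mp h)) hsC
        · exfalso
          apply hzx
          have h3 : x = s⁻¹ * z * s := by rw [← h]; group
          rw [h3, mul_assoc, ← hcomm s, inv_mul_cancel_left]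
        · have h2 : s * x = x * z * s := mul_inv_eq_iff_eq_mul.mp h
          rw [← QuotientGroup.mk_mul, h2, mul_assoc, ← hcomm s, QuotientGroup.mk_mul, QuotientGroup.mk_mul,
            (QuotientGroup.eq_one_iff z).mpr (Subgroup.mem_zpowers z), mul_one]
      have hidx : (C.subgroupOf N).index = 2 := by
        rw [Subgroup.index_eq_two_iff]
        refine ⟨⟨s, hsN'⟩, fun w => ?_⟩
        simp only [Subgroup.mem_subgroupOf, Subgroup.coe_mul]
        have hs2 : x * s = z * (s * x) :=
          (hzxC s hsN').resolve_left fun h => hsC (Subgroup.mem_centralizer_singleton_iff.mpr h.symm)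
        rcases hzxC w w.2 with hw | hw
        · refine Or.inr ⟨Subgroup.mem_centralizer_singleton_iff.mpr hw.symm, fun h => hsC ?_⟩
          simpa using mul_mem (inv_mem (Subgroup.mem_centralizer_singleton_iff.mpr hw.symm : (w : S) ∈ C)) h
        · refine Or.inl ⟨Subgroup.mem_centralizer_singleton_iff.mpr ?_, fun h => ?_⟩
          · have : x * ((w : S) * s) = (w : S) * s * x := by
              calc x * ((w : S) * s) = z * ((w : S) * x) * s := by rw [← mul_assoc, hw]
                _ = z * w * (z * (s * x)) := by rw [← hs2]; group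
                _ = (z * z) * ((w : S) * s * x) := by
                    rw [mul_assoc z (w : S), ← mul_assoc (w : S) z, hcomm (w : S)]; group
                _ = (w : S) * s * x := by rw [hzz, one_mul]
            exact this.symm
          · rw [Subgroup.mem_centralizer_singleton_iff] at h
            rw [h] at hw
            exact hz1 (mul_eq_right.mp hw.symm)
      have := Subgroup.card_mul_index (C.subgroupOf N)
      rw [hidx, Nat.card_congr (Subgroup.subgroupOfEquivOfLe hCN).toEquiv, hC] at this
      exact this.symm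
    have hCbar : Nat.card ↥(Subgroup.centralizer ({(x : S ⧸ Z)} : Set (S ⧸ Z))) = 4 := by
      have hmap : N.map (QuotientGroup.mk' Z) = Subgroup.centralizer ({(x : S ⧸ Z)} : Set (S ⧸ Z)) :=
        Subgroup.map_comap_eq_self_of_surjective (QuotientGroup.mk'_surjective Z) _
      rw [← hmap]
      have hle : Z ≤ N := fun w hw => hCN (Subgroup.mem_centralizer_singleton_iff.mpr (by
        rcases hzmem w hw with rfl | rfl
        · simp
        · exact (hcomm x).symm))
      have h1 := Subgroup.card_mul_index (Z.subgroupOf N)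
      rw [Nat.card_congr (Subgroup.subgroupOfEquivOfLe hle).toEquiv, hZcard, hNcard] at h1
      have h3 : Nat.card ↥(N.map (QuotientGroup.mk' Z)) = (Z.subgroupOf N).index := by
        have hk : ((QuotientGroup.mk' Z).comp N.subtype).ker = Z.subgroupOf N := by
          rw [← MonoidHom.comap_ker, QuotientGroup.ker_mk']; rfl
        rw [← hk, Subgroup.index_ker, MonoidHom.range_comp, Subgroup.range_subtype]
      omega
    obtain ⟨ab, hab, habi⟩ := ih hcardQ (x : S ⧸ Z) hxb hCbar
    obtain ⟨a, rfl⟩ := QuotientGroup.mk'_surjective Z ab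
    set A := (Subgroup.zpowers (QuotientGroup.mk' Z a)).comap (QuotientGroup.mk' Z) with hA
    have hAi : A.index = 2 := by
      rw [hA, Subgroup.index_comap_of_surjective _ (QuotientGroup.mk'_surjective Z), habi]
    have hxA : x ∉ A := hab
    have hAelt : ∀ w ∈ A, ∃ j : ℤ, w = a ^ j ∨ w = a ^ j * z := by
      intro w hw
      obtain ⟨j, hj⟩ := Subgroup.mem_zpowers_iff.mp (Subgroup.mem_comap.mp hw)
      refine ⟨j, ?_⟩
      have h1 : (a ^ j)⁻¹ * w ∈ Z := by
        rw [← QuotientGroup.eq_one_iff, ← QuotientGroup.mk'_apply, map_mul, map_inv, map_zpow, hj, inv_mul_cancel]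
      rcases hzmem _ h1 with h | h
      · exact Or.inl (inv_mul_eq_one.mp h).symm
      · exact Or.inr (inv_mul_eq_iff_eq_mul.mp h)
    have hAcomm : ∀ u ∈ A, ∀ v ∈ A, Commute u v := by
      intro u hu v hv
      obtain ⟨i, hi⟩ := hAelt u hu
      obtain ⟨j, hj⟩ := hAelt v hv
      have cz : ∀ t : S, Commute t z := hcomm
      have caa : Commute (a ^ i) (a ^ j) := ((Commute.refl a).zpow_left i).zpow_right j
      rcases hi with rfl | rfl <;> rcases hj with rfl | rfl
      exacts [caa, caa.mul_right (cz _), caa.mul_left (cz _).symm,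
        (caa.mul_right (cz _)).mul_left ((cz _).symm)]
    by_cases hzmema : z ∈ Subgroup.zpowers a
    · refine ⟨a, ?_, ?_⟩
      · intro h
        exact hxA (Subgroup.zpowers_le.mpr (Subgroup.mem_comap.mpr (Subgroup.mem_zpowers _)) h)
      · have : A = Subgroup.zpowers a := by
          refine le_antisymm (fun w hw => ?_) (Subgroup.zpowers_le.mpr (Subgroup.mem_comap.mpr (Subgroup.mem_zpowers _)))
          obtain ⟨j, h | h⟩ := hAelt w hw <;> rw [h]
          exacts [Subgroup.zpow_mem_zpowers a j, mul_mem (Subgroup.zpow_mem_zpowers a j) hzmema]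
        rw [← this, hAi]
    · exfalso
      have haA : a ∈ A := Subgroup.mem_comap.mpr (Subgroup.mem_zpowers _)
      have hAn : A.Normal := Subgroup.normal_of_index_eq_two hAi
      set a' := x * a * x with ha'
      have ha'A : a' ∈ A := by
        have h1 := hAn.conj_mem a haA x
        rwa [inv_eq_of_mul_eq_one_right hxx] at h1
      have hcfix : x * (a * a') = (a * a') * x := by
        calc x * (a * a') = x * (a' * a) := by rw [(hAcomm a haA a' ha'A).eq]
          _ = (x * x) * (a * x * a) := by rw [ha']; group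
          _ = (a * x * a) * (x * x) := by rw [hxx, one_mul, mul_one]
          _ = (a * a') * x := by rw [ha']; group
      have hcZ : a * a' = 1 ∨ a * a' = z := by
        rcases hfix _ hcfix with h | h | h | h
        · exact Or.inl h
        · exact absurd (h ▸ mul_mem haA ha'A) hxA
        · exact Or.inr h
        · refine absurd ?_ hxA
          have h1 : x * z ∈ A := h ▸ mul_mem haA ha'A
          have hzA : z ∈ A := by
            rw [hA, Subgroup.mem_comap, show QuotientGroup.mk' Z z = 1 from
              (QuotientGroup.eq_one_iff z).mpr (Subgroup.mem_zpowers z)]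
            exact one_mem _
          simpa [mul_assoc, hzz] using mul_mem h1 hzA
      obtain ⟨m, hm⟩ := IsPGroup.iff_orderOf.mp (IsPGroup.of_card hcard) a
      have hm4 : 2 ≤ m := by
        have h1 : 4 ≤ orderOf a := by
          have h2 := orderOf_map_dvd (QuotientGroup.mk' Z) a
          have h3 := Subgroup.card_mul_index (Subgroup.zpowers (QuotientGroup.mk' Z a))
          rw [Nat.card_zpowers, habi, hcardQ] at h3
          have h4 : 2 ^ (0 + 3) ≤ 2 ^ (k + 3) := Nat.pow_le_pow_right (by norm_num) (by omega)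
          have h5 := Nat.le_of_dvd (orderOf_pos a) h2
          omega
        by_contra hcon
        have : orderOf a ≤ 2 ^ 1 := hm ▸ Nat.pow_le_pow_right (by norm_num) (by omega)
        omega
      obtain ⟨m, rfl⟩ : ∃ l, m = l + 2 := ⟨m - 2, by omega⟩
      set w := a ^ (2 ^ (m + 1) : ℕ) with hw
      have hw1 : w ≠ 1 := fun h => by
        have h2 := Nat.le_of_dvd (by positivity) (orderOf_dvd_of_pow_eq_one h)
        rw [hm] at h2
        have := (Nat.pow_le_pow_iff_right (by norm_num)).mp h2
        omega
      have hww : w * w = 1 := by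
        rw [hw, ← pow_add, ← pow_orderOf_eq_one a, hm]; congr 1; ring
      have hxw : x * w = w * x := by
        have h1 : x * w * x = w := by
          have e1 : x * w * x = a' ^ (2 ^ (m + 1) : ℕ) := by
            have hinv : x⁻¹ = x := inv_eq_of_mul_eq_one_right hxx
            rw [hw, ha']
            conv_lhs => arg 2; rw [← hinv]
            conv_rhs => arg 1; arg 2; rw [← hinv]
            rw [conj_pow]
          have e2 : w * a' ^ (2 ^ (m + 1) : ℕ) = 1 := by
            rw [hw, ← (hAcomm a haA a' ha'A).mul_pow]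
            rcases hcZ with h | h <;> rw [h]
            · exact one_pow _
            · rw [pow_succ, mul_comm, pow_mul, pow_two, hzz, one_pow]
          rw [e1, ← inv_eq_of_mul_eq_one_right e2, inv_eq_of_mul_eq_one_right hww]
        calc x * w = (x * w * x) * x := by rw [mul_assoc _ x x, hxx, mul_one]
          _ = w * x := by rw [h1]
      have hwA : w ∈ A := pow_mem haA _
      rcases hfix w hxw with h | h | h | h
      · exact hw1 h
      · exact hxA (h ▸ hwA)
      · exact hzmema (h ▸ pow_mem (Subgroup.mem_zpowers a) _)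
      · refine hxA ?_
        have h1 : x * z ∈ A := h ▸ hwA
        have hzA : z ∈ A := by
          rw [hA, Subgroup.mem_comap, show QuotientGroup.mk' Z z = 1 from
            (QuotientGroup.eq_one_iff z).mpr (Subgroup.mem_zpowers z)]
          exact one_mem _
        simpa [mul_assoc, hzz] using mul_mem h1 hzA

/-- A finite 2-group containing an involution whose centralizer has order 4 is dihedral, quasi-dihedral (semidihedral), or of order 4. -/
theorem result {S : Type*} [Group S] [Finite S] (hS : IsPGroup 2 S)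
    (x : S) (hx : orderOf x = 2) (hC : Nat.card ↥(Subgroup.centralizer ({x} : Set S)) = 4) :
    (∃ n : ℕ, Nonempty (S ≃* DihedralGroup n)) ∨ Cfsg.IsQuasiDihedral S ∨ Nat.card S = 4 := by
  have : Fact (Nat.Prime 2) := ⟨Nat.prime_two⟩
  obtain ⟨K, hK⟩ := hS.exists_card_eq
  have h4 : 4 ∣ Nat.card S := hC ▸ Subgroup.card_subgroup_dvd_card _
  by_cases hK2 : K = 2
  · exact Or.inr (Or.inr (by rw [hK, hK2]; norm_num))
  obtain ⟨k, rfl⟩ : ∃ k, K = k + 3 := by
    refine ⟨K - 3, ?_⟩
    rw [hK, show (4 : ℕ) = 2 ^ 2 from rfl, Nat.pow_dvd_pow_iff_le_right (by norm_num)] at h4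
    omega
  obtain ⟨a, hxa, hai⟩ := exists_cyclic k hK x hx hC
  obtain ⟨z, hzz, hz1, hzx, hcomm, hfix⟩ := exists_central k hK x hx hC
  have hxx : x * x = 1 := by rw [← pow_two, ← hx, pow_orderOf_eq_one]
  have hao : orderOf a = 2 ^ (k + 2) := by
    have h1 := Subgroup.card_mul_index (Subgroup.zpowers a)
    rw [Nat.card_zpowers, hai, hK, pow_succ] at h1
    exact Nat.eq_of_mul_eq_mul_right two_pos h1
  set A := Subgroup.zpowers a with hA
  have hAn : A.Normal := Subgroup.normal_of_index_eq_two hai
  have hinv : x⁻¹ = x := inv_eq_of_mul_eq_one_right hxx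
  have ha'A : x * a * x⁻¹ ∈ A := hAn.conj_mem a (Subgroup.mem_zpowers a) x
  obtain ⟨i, hi⟩ := Subgroup.mem_zpowers_iff.mp ha'A
  have hcfix : x * a ^ (i + 1) = a ^ (i + 1) * x := by
    have h1 : x * a ^ i * x⁻¹ = a := by
      rw [hi, hinv, show x * (x * a * x) * x = (x * x) * a * (x * x) by group, hxx, one_mul, mul_one]
    calc x * a ^ (i + 1) = (x * a ^ i * x⁻¹) * (x * a * x⁻¹) * x := by rw [zpow_add_one]; group
      _ = a ^ (i + 1) * x := by rw [h1, ← hi, ← zpow_one_add, add_comm 1 i]
  have hcz : a ^ (i + 1) = 1 ∨ a ^ (i + 1) = z := by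
    have hmemA : a ^ (i + 1) ∈ A := Subgroup.zpow_mem_zpowers a _
    rcases hfix _ hcfix with h | h | h | h
    · exact Or.inl h
    · exact absurd (h ▸ hmemA) hxa
    · exact Or.inr h
    · exfalso
      have hp : (2 : ℕ) ^ (k + 1) ∣ 2 ^ (k + 2) := pow_dvd_pow 2 (by omega)
      set w := a ^ (2 ^ (k + 1) : ℕ) with hw
      have hw1 : w ≠ 1 := fun h' => by
        have h2 := Nat.le_of_dvd (by positivity) (orderOf_dvd_of_pow_eq_one h')
        rw [hao] at h2
        have := (Nat.pow_le_pow_iff_right (by norm_num)).mp h2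
        omega
      have hww : w * w = 1 := by rw [hw, ← pow_add, ← pow_orderOf_eq_one a, hao]; congr 1; ring
      -- `x z` lies in `A`, so `x` commutes with a generator image and `A` contains `w ∈ {1, x z}`
      obtain ⟨l, hl⟩ := IsPGroup.iff_orderOf.mp hS (a ^ (i + 1))
      have hxz : (x * z) * (x * z) = 1 := by
        calc (x * z) * (x * z) = x * (z * x) * z := by group
          _ = x * (x * z) * z := by rw [hcomm x]
          _ = (x * x) * (z * z) := by group
          _ = 1 := by rw [hxx, hzz, one_mul]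
      have hwfix : x * w = w * x := by
        have h1 : x * w * x⁻¹ = w ^ i := by
          rw [hw, ← conj_pow, ← hi, ← zpow_natCast, ← zpow_mul, ← zpow_natCast, ← zpow_mul, mul_comm]
        have h2 : Odd i := by
          rcases Int.even_or_odd i with ⟨d, hd⟩ | hd
          · exfalso
            have h5 : x * w * x⁻¹ = 1 := by
              rw [h1, hd, zpow_add, ← (Commute.refl w).mul_zpow, hww, one_zpow]
            exact hw1 (conj_eq_one_iff.mp h5)
          · exact hd
        obtain ⟨d, hd⟩ := h2
        rw [hd, zpow_add, zpow_mul, zpow_two, hww, one_zpow, one_mul, zpow_one] at h1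
        exact mul_inv_eq_iff_eq_mul.mp h1
      rcases hfix w hwfix with h' | h' | h' | h'
      · exact hw1 h'
      · exact hxa (h' ▸ pow_mem (Subgroup.mem_zpowers a) _)
      · have hzA : z ∈ A := h' ▸ pow_mem (Subgroup.mem_zpowers a) _
        exact hxa (by simpa [mul_assoc, hzz] using mul_mem (h ▸ hmemA : x * z ∈ A) hzA)
      · have h5 : w * a = a * w := ((Commute.refl a).pow_left _).eq
        rw [h'] at h5
        have h7 : x * a * x⁻¹ = a := by
          have h9 : (x * a) * z = (a * x) * z := by rw [mul_assoc, hcomm a, ← mul_assoc, h5, ← mul_assoc]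
          rw [mul_right_cancel h9, mul_inv_cancel_right]
        have h8 : a ∈ Subgroup.centralizer ({x} : Set S) :=
          Subgroup.mem_centralizer_singleton_iff.mpr (mul_inv_eq_iff_eq_mul.mp h7).symm
        have h9 : orderOf a ∣ 2 := by
          apply orderOf_dvd_of_pow_eq_one
          rcases hfix a (Subgroup.mem_centralizer_singleton_iff.mp h8).symm with e | e | e | e <;>
            rw [pow_two, e]
          exacts [one_mul 1, hxx, hzz, hxz]
        rw [hao] at h9
        have h10 := Nat.le_of_dvd two_pos h9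
        have : 2 ^ 2 ≤ 2 ^ (k + 2) := Nat.pow_le_pow_right (by norm_num) (by omega)
        omega
  rcases hcz with h | h
  · left
    refine ⟨2 ^ (k + 2), ?_⟩
    have : NeZero (2 ^ (k + 2)) := ⟨by positivity⟩
    obtain ⟨e⟩ := Cfsg.Agent.Lib.Involutions.nonempty_mulEquiv_dihedral (H := (⊤ : Subgroup S))
      (by rw [Subgroup.card_top, hK, ← pow_succ']) (Subgroup.mem_top a) (Subgroup.mem_top x) hao hxx hxa
      (by rw [← hi, ← mul_eq_one_iff_eq_inv, ← zpow_add_one, h])
    exact ⟨Subgroup.topEquiv.symm.trans e⟩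
  · have hzA : z ∈ A := h ▸ Subgroup.zpow_mem_zpowers a _
    have hzpow : z = a ^ (2 ^ (k + 1) : ℕ) := by
      have h1 : a ^ ((i + 1) + (i + 1)) = 1 := by rw [zpow_add, h, hzz]
      rw [← orderOf_dvd_iff_zpow_eq_one, hao] at h1
      push_cast at h1
      rw [show ((2 : ℤ) ^ (k + 2)) = 2 * 2 ^ (k + 1) by ring, ← two_mul] at h1
      obtain ⟨c, hc⟩ := (mul_dvd_mul_iff_left two_ne_zero).mp h1
      rcases Int.even_or_odd c with ⟨d, rfl⟩ | ⟨d, rfl⟩
      · exfalso
        apply hz1
        rw [← h, hc, ← orderOf_dvd_iff_zpow_eq_one, hao]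
        exact ⟨d, by push_cast; ring⟩
      · rw [← h, hc, show (2 : ℤ) ^ (k + 1) * (2 * d + 1) = ((2 ^ (k + 2) : ℕ) : ℤ) * d + ((2 ^ (k + 1) : ℕ) : ℤ) by
          push_cast; ring, zpow_add, zpow_mul, zpow_natCast, zpow_natCast, ← hao, pow_orderOf_eq_one, one_zpow, one_mul]
    have hk1 : 1 ≤ k := by
      by_contra hk0
      obtain rfl : k = 0 := by omega
      have h1 : x * a * x⁻¹ = a := by
        rw [← hi]
        have h2 : a ^ i * a = a * a := by rw [← zpow_add_one, h, hzpow]; exact pow_two a
        exact mul_right_cancel h2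
      have h8 : x * a = a * x := mul_inv_eq_iff_eq_mul.mp h1
      rcases hfix a h8 with e | e | e | e
      · rw [e, orderOf_one] at hao; norm_num at hao
      · exact hxa (e ▸ Subgroup.mem_zpowers a)
      · rw [e] at hao
        rw [orderOf_eq_prime (by rw [pow_two, hzz]) hz1] at hao; norm_num at hao
      · exact hxa (by simpa [mul_assoc, hzz] using mul_mem (e ▸ Subgroup.mem_zpowers a : x * z ∈ A) hzA)
    right; left
    refine ⟨k + 2, by omega, by rw [hK], a, x, hao, hx, ?_⟩
    have h1 : x * a * x⁻¹ * a = a ^ (2 ^ (k + 1) : ℕ) := by rw [← hi, ← zpow_add_one, h, hzpow]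
    show x * a * x⁻¹ = a ^ (2 ^ (k + 2 - 1) - 1)
    rw [show k + 2 - 1 = k + 1 from rfl, pow_sub _ (Nat.one_le_two_pow), ← h1, pow_one, mul_inv_cancel_right]

end Cfsg.Agent.S3224
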