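import Mathlib
import Cfsg.Statements.S3225


set_option autoImplicit false
open Cfsg

namespace Cfsg.Agent.S3225

/-- Let G be a finite group of even order with no subgroup of index 2, S a Sylow 2-subgroup of G and M a subgroup of index 2 in S such that, for some n ≥ 1, every element of S outside M has order greater than 2^(n−1). Then every element of S of order 2ⁿ is conjugate in G to an element of M. -/
theorem result {G : Type*} [Group G] [Finite G] (hev : Even (Nat.card G))
    (hG : ∀ H : Subgroup G, H.index ≠ 2) (S : Sylow 2 G) (M : Subgroup G) (hMS : M ≤ (S : Subgroup G)) (hM : M.relIndex (S : Subgroup G) = 2)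
    (n : ℕ) (hn : 1 ≤ n) (hord : ∀ y ∈ (S : Subgroup G), y ∉ M → 2 ^ (n - 1) < orderOf y)
    (x : G) (hx : x ∈ (S : Subgroup G)) (hxn : orderOf x = 2 ^ n) :
    ∃ g : G, g * x * g⁻¹ ∈ M := by
  classical
  let M' : Subgroup ↥(S : Subgroup G) := M.subgroupOf S
  have hM' : M'.index = 2 := hM
  let φ : ↥(S : Subgroup G) →* ℤˣ :=
    MonoidHom.mk' (fun s => if s ∈ M' then 1 else -1) (by
      intro a b
      have := Subgroup.mul_mem_iff_of_index_two hM' (a := a) (b := b)
      by_cases ha : a ∈ M' <;> by_cases hb : b ∈ M' <;> simp_all)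
  have htop : ∀ g : G, MonoidHom.transfer φ g = 1 := by
    intro g
    set f := MonoidHom.transfer φ
    have h1 : f.ker.index ∣ 2 := by
      rw [Subgroup.index_ker]
      have h := Subgroup.card_subgroup_dvd_card f.range
      have h2 : Nat.card ℤˣ = 2 := by simp [Fintype.card_units_int]
      rwa [h2] at h
    rcases (Nat.dvd_prime Nat.prime_two).mp h1 with h | h
    · have : f.ker = ⊤ := Subgroup.index_eq_one.mp h
      exact MonoidHom.mem_ker.mp (this ▸ Subgroup.mem_top g)
    · exact absurd h (hG _)
  by_contra hcon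
  push Not at hcon
  have : Fintype (G ⧸ (S : Subgroup G)) := Fintype.ofFinite _
  have : Fintype (Quotient (MulAction.orbitRel (Subgroup.zpowers x) (G ⧸ (S : Subgroup G)))) := Fintype.ofFinite _
  have h := htop x
  rw [MonoidHom.transfer_eq_prod_quotient_orbitRel_zpowers_quot] at h
  have key : ∀ q : Quotient (MulAction.orbitRel (Subgroup.zpowers x) (G ⧸ (S : Subgroup G))),
      φ ⟨q.out.out⁻¹ * x ^ Function.minimalPeriod (x • ·) q.out * q.out.out,
        QuotientGroup.out_conj_pow_minimalPeriod_mem (S : Subgroup G) x q.out⟩ =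
      (-1) ^ Function.minimalPeriod (x • ·) q.out := by
    intro q
    suffices ∀ (m : ℕ) (c : G) (hy : c⁻¹ * x ^ m * c ∈ (S : Subgroup G)), Function.minimalPeriod (x • ·) q.out = m →
        φ ⟨_, hy⟩ = (-1) ^ m from this _ _ _ rfl
    intro m c hy hm
    show (if (⟨_, hy⟩ : ↥(S : Subgroup G)) ∈ M' then (1 : ℤˣ) else -1) = _
    have hdvd : m ∣ 2 ^ n := by
      rw [← hm, ← hxn]
      apply Function.IsPeriodicPt.minimalPeriod_dvd
      show (x • ·)^[orderOf x] q.out = q.out
      rw [smul_iterate, pow_orderOf_eq_one]; exact one_smul G q.out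
    obtain ⟨k, hk, rfl⟩ := (Nat.dvd_prime_pow Nat.prime_two).mp hdvd
    rcases Nat.eq_zero_or_pos k with hk0 | hk0
    · subst hk0
      rw [if_neg, pow_zero, pow_one]
      intro h'
      apply hcon c⁻¹
      rw [inv_inv]
      simpa [M', Subgroup.mem_subgroupOf] using h'
    · rw [if_pos, Even.neg_one_pow ((Nat.even_pow' hk0.ne').mpr even_two)]
      by_contra h'
      have h3 := hord _ hy h'
      rw [show c⁻¹ * x ^ 2 ^ k * c = MulAut.conj c⁻¹ (x ^ 2 ^ k) by simp, MulEquiv.orderOf_eq,
        orderOf_pow, hxn, Nat.gcd_eq_right (pow_dvd_pow 2 hk), Nat.pow_div hk (by norm_num)] at h3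
      have := Nat.pow_le_pow_right (show 1 ≤ 2 by norm_num) (show n - k ≤ n - 1 by omega)
      omega
  rw [Finset.prod_congr rfl (fun q _ => key q), Finset.prod_pow_eq_pow_sum,
    ← Subgroup.index_eq_sum_minimalPeriod] at h
  have hodd : Odd (S : Subgroup G).index := by
    rw [Nat.odd_iff]
    have := S.not_dvd_index
    omega
  rw [hodd.neg_one_pow] at h
  exact absurd h (by decide)

end Cfsg.Agent.S3225
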