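import Cfsg.Statements.S3244
import Cfsg.Agent.Lib.EarlyCharTwo.Main
import Cfsg.Agent.Lib.InvChar.ZStarTheorem

set_option autoImplicit false
open Cfsg

namespace Cfsg.Agent.S3244

/-- Say that a finite group G is of characteristic 2 type in the early sense when a Sylow 2-subgroup S of G has a self-centralizing normal subgroup of rank at least 3, S normalizes no nontrivial subgroup of odd order, and every 2-local subgroup of G is 2-constrained. If G is a non-abelian simple group of characteristic 2 type in this sense, then for some maximal 2-local subgroup M of G the centre of O₂(M) is not cyclic. -/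
theorem result {G : Type*} [Group G] [Finite G] [IsSimpleGroup G]
    (hG : ¬ IsMulCommutative G) (S : Sylow 2 G) (A : Subgroup G) (hA : Cfsg.IsSCN (S : Subgroup G) A) (hA3 : ¬ Cfsg.PRankLE 2 2 ↥A)
    (hinv : ∀ X : Subgroup G, Odd (Nat.card ↥X) → (S : Subgroup G) ≤ Subgroup.normalizer (X : Set G) → X = ⊥)
    (hcon : ∀ T : Subgroup G, IsPGroup 2 ↥T → T ≠ ⊥ → Cfsg.IsPConstrained 2 ↥(Subgroup.normalizer (T : Set G))) :
    ∃ M : Subgroup G, Cfsg.IsMaximalTwoLocal M ∧ ¬ IsCyclic ↥(Subgroup.center ↥(Cfsg.pCore 2 ↥M)) := by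
  haveI : Fact (Nat.Prime 2) := ⟨Nat.prime_two⟩
  by_contra hM
  push Not at hM
  -- the elementary abelian subgroup
  obtain ⟨hAS, hSA, hAC⟩ := hA
  have hAc : IsMulCommutative A := ⟨⟨fun a b => Subtype.ext
    (Subgroup.mem_centralizer_iff.mp (hAC.ge b.2).2 a a.2)⟩⟩
  let E : Subgroup G :=
    { carrier := {e | e ∈ A ∧ e ^ 2 = 1}
      one_mem' := ⟨one_mem A, one_pow 2⟩
      mul_mem' := by
        rintro a b ⟨ha, ha2⟩ ⟨hb, hb2⟩
        refine ⟨mul_mem ha hb, ?_⟩
        have h : Commute a b := congrArg Subtype.val (mul_comm' (⟨a, ha⟩ : A) ⟨b, hb⟩)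
        rw [h.mul_pow, ha2, hb2, one_mul]
      inv_mem' := by
        rintro a ⟨ha, ha2⟩
        exact ⟨inv_mem ha, by rw [inv_pow, ha2, inv_one]⟩ }
  have hE2 : ∀ e ∈ E, e ^ 2 = 1 := fun e he => he.2
  have hEc : IsMulCommutative E := ⟨⟨fun a b => Subtype.ext
    (congrArg (fun y : A => (y : G)) (mul_comm' (⟨a, a.2.1⟩ : A) ⟨b, b.2.1⟩) :)⟩⟩
  have hE4 : 4 < Nat.card E := by
    by_contra hle
    refine hA3 fun B _ hB2 => le_trans ?_ (not_lt.mp hle)
    refine Nat.card_le_card_of_injective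
      (fun b : B => (⟨((b : A) : G), (b : A).2, by
        have := congrArg Subtype.val (hB2 b b.2); simpa using this⟩ : E)) ?_
    intro a b h
    exact Subtype.ext (Subtype.ext (congrArg (fun y : E => (y : G)) h))
  have hSE : (S : Subgroup G) ≤ Subgroup.normalizer (E : Set G) := by
    intro s hs
    refine Subgroup.mem_normalizer_iff.mpr fun e => ?_
    have h1 := Subgroup.mem_normalizer_iff.mp (hSA hs) e
    constructor
    · rintro ⟨he, he2⟩
      exact ⟨h1.mp he, by rw [conj_pow, he2, mul_one, mul_inv_cancel]⟩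
    · rintro ⟨he, he2⟩
      refine ⟨h1.mpr he, ?_⟩
      rw [conj_pow] at he2
      simpa using he2
  have h2 : 2 ∣ Nat.card G := by
    have hEp : IsPGroup 2 E := fun e => ⟨1, Subtype.ext (by simpa using hE2 e e.2)⟩
    obtain ⟨n, hn⟩ := IsPGroup.iff_card.mp hEp
    refine dvd_trans (hn ▸ dvd_pow_self 2 ?_) (Subgroup.card_subgroup_dvd_card E)
    rintro rfl
    simp [hn] at hE4
  -- the central involution
  obtain ⟨z, hz⟩ := Lib.EarlyCharTwo.exists_cen h2 S
  obtain ⟨hzo, hzS, hzC⟩ := hz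
  have hzA : z ∈ A := by
    rw [← hAC]
    exact ⟨hzS, Subgroup.mem_centralizer_iff.mpr fun a ha =>
      Subgroup.mem_centralizer_singleton_iff.mp (hzC (hAS ha))⟩
  have hzE : z ∈ E := ⟨hzA, by rw [← hzo, pow_orderOf_eq_one]⟩
  have hz0 : Cfsg.centralizerPPrimeCore 2 z = ⊥ :=
    hinv _ (Lib.EarlyCharTwo.odd_card_oddCoreIn _)
      (hzC.trans (Lib.EarlyCharTwo.le_normalizer_oddCoreIn _))
  have h0 : ∀ x : G, orderOf x = 2 → Cfsg.centralizerPPrimeCore 2 x = ⊥ := fun x hx =>
    Lib.EarlyCharTwo.core_eq_bot hcon hEc hE2 hE4 hSE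
      (fun e he he1 => Lib.EarlyCharTwo.core_eq_bot_of_mem hcon hinv hzo hz0 hzE hEc hE2 hE4 hSE he he1)
      hx
  have hc : Lib.EarlyCharTwo.CyclicCentres G :=
    ⟨fun M hM2 => Lib.EarlyCharTwo.centralizer_pCore_le hcon h0 hM2, hM⟩
  have hiso := Lib.EarlyCharTwo.isIsolated_of_cen hc h2 (S := S) ⟨hzo, hzS, hzC⟩
  have hZ := Lib.InvChar.inZStar_of_isIsolated hzo hiso
  have hO : Cfsg.pPrimeCore 2 G = ⊥ :=
    ((Cfsg.pPrimeCore_normal 2 G).eq_bot_or_eq_top).resolve_right fun h => by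
      have h1 := Lib.Cores.pPrimeCore_coprime 2 G
      rw [h, Subgroup.card_top] at h1
      exact Nat.prime_two.coprime_iff_not_dvd.mp h1.symm h2
  have hzc : z ∈ Subgroup.center G := Subgroup.mem_center_iff.mpr fun g => by
    have h1 := hZ g
    rw [hO, Subgroup.mem_bot] at h1
    calc g * z = g * z * g⁻¹ * z⁻¹ * (z * g) := by group
      _ = z * g := by rw [h1, one_mul]
  refine hG ?_
  rcases (inferInstance : (Subgroup.center G).Normal).eq_bot_or_eq_top with h | h
  · exact absurd (Subgroup.mem_bot.mp (h ▸ hzc)) (Lib.EarlyCharTwo.ne_one_of_orderOf_two hzo)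
  · exact ⟨⟨fun a b => (Subgroup.mem_center_iff.mp (h ▸ Subgroup.mem_top b) a)⟩⟩

end Cfsg.Agent.S3244
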