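import Mathlib
import Cfsg.Statements.S3247
import Cfsg.Agent.Lib.Components.Local

set_option autoImplicit false
open Cfsg

namespace Cfsg.Agent.S3247

theorem no_pComponent_of_injective {G1 N2 : Type*} [Group G1] [Finite G1] [Group N2] [Finite N2] {p : ℕ}
    [hp : Fact p.Prime] {K : Subgroup G1} (hK : Cfsg.IsPComponent p K) (f : N2 →* G1) (hf : Function.Injective f)
    (hKf : K ≤ f.range) (hN : Cfsg.pLayer p N2 = ⊥) : False := by
  set K' := K.comap f with hK'
  have hmap : K'.map f = K := Subgroup.map_comap_eq_self hKf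
  have hsn : K'.IsSubnormal := hK.1.comap f
  set W := Cfsg.pPrimeCore p N2 with hW
  let e : ↥K' ≃* ↥K := (Subgroup.equivMapOfInjective K' f hf).trans (MulEquiv.subgroupCongr hmap)
  let φ : ↥K →* N2 ⧸ W := ((QuotientGroup.mk' W).comp K'.subtype).comp e.symm.toMonoidHom
  have hle : (Cfsg.pPrimeCore p ↥K') ≤ W.subgroupOf K' := fun x hx =>
    Cfsg.Agent.Lib.Components.map_pPrimeCore_subtype_le p hsn ⟨x, hx, rfl⟩
  have hker : Cfsg.pPrimeCore p ↥K ≤ φ.ker := by
    intro x hx
    rw [MonoidHom.mem_ker]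
    have h2 : e.symm x ∈ Cfsg.pPrimeCore p ↥K' :=
      Cfsg.Agent.Lib.Components.map_pPrimeCore_le p e.symm ⟨x, hx, rfl⟩
    exact (QuotientGroup.eq_one_iff _).mpr (hle h2)
  let ψ : ↥K ⧸ Cfsg.pPrimeCore p ↥K →* ↥(K'.map (QuotientGroup.mk' W)) :=
    (QuotientGroup.lift _ φ hker).codRestrict _ (fun x => by
      induction x using QuotientGroup.induction_on with
      | H x => exact ⟨_, (e.symm x).2, rfl⟩)
  have hψ : Function.Surjective ψ := by
    rintro ⟨_, k, hk, rfl⟩
    refine ⟨QuotientGroup.mk (e ⟨k, hk⟩), ?_⟩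
    apply Subtype.ext
    show φ (e ⟨k, hk⟩) = _
    simp [φ]
  have hne : K'.map (QuotientGroup.mk' W) ≠ ⊥ := by
    intro hb
    rw [Subgroup.map_eq_bot_iff, QuotientGroup.ker_mk'] at hb
    have h1 : Nat.card ↥K' ∣ Nat.card ↥W := Subgroup.card_dvd_of_le hb
    rw [Nat.card_congr e.toEquiv] at h1
    have h2 := (Cfsg.Agent.Lib.Components.IsPComponent.dvd_card hK).trans h1
    exact (hp.out.coprime_iff_not_dvd.mp (Cfsg.Agent.Lib.Components.pPrimeCore_coprime (G := N2) p).symm) h2
  have : Nontrivial ↥(K'.map (QuotientGroup.mk' W)) := (Subgroup.nontrivial_iff_ne_bot _).mpr hne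
  have hqs := Cfsg.Agent.Lib.Components.IsQuasisimple.of_surjective
    (Cfsg.Agent.Lib.Components.IsPComponent.isQuasisimple_quotient hK) (f := ψ) hψ
  exact Cfsg.Agent.Lib.Components.layer_eq_bot_iff.mp
    ((Cfsg.Agent.Lib.Components.pLayer_eq_bot_iff p).mp hN) _
    ⟨hsn.map (QuotientGroup.mk'_surjective W), hqs⟩

/-- Let G be a finite group and p a prime; here a p-local subgroup means the normalizer of a nontrivial p-subgroup, other than G itself. If every p-local subgroup of G that is maximal among p-local subgroups is p-constrained, or if the centralizer of every element of order p of G is p-constrained, then every p-local subgroup of G is p-constrained. -/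
theorem result {G : Type*} [Group G] [Finite G] (p : ℕ) [hp : Fact p.Prime]
    (h : (∀ M : Subgroup G, (∃ T : Subgroup G, IsPGroup p ↥T ∧ T ≠ ⊥ ∧ M = Subgroup.normalizer (T : Set G)) → M ≠ ⊤ →
        (∀ M' : Subgroup G, (∃ T' : Subgroup G, IsPGroup p ↥T' ∧ T' ≠ ⊥ ∧ M' = Subgroup.normalizer (T' : Set G)) → M' ≠ ⊤ → M ≤ M' → M = M') →
        Cfsg.IsPConstrained p ↥M) ∨
      (∀ x : G, orderOf x = p → Cfsg.IsPConstrained p ↥(Subgroup.centralizer ({x} : Set G))))
    (T : Subgroup G) (hT : IsPGroup p ↥T) (hT1 : T ≠ ⊥) (hTG : Subgroup.normalizer (T : Set G) ≠ ⊤) :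
    Cfsg.IsPConstrained p ↥(Subgroup.normalizer (T : Set G)) := by
  rw [Cfsg.Agent.Lib.Components.isPConstrained_iff, eq_bot_iff,
    Cfsg.Agent.Lib.Components.pLayer_le_iff]
  intro K hK
  exfalso
  obtain ⟨H, hHc, hTH, hKH⟩ : ∃ H : Subgroup G, Cfsg.IsPConstrained p ↥H ∧ T ≤ H ∧
      K.map (Subgroup.normalizer (T : Set G)).subtype ≤ H := by
    rcases h with h | h
    · let L : Set (Subgroup G) := {M | (∃ T' : Subgroup G, IsPGroup p ↥T' ∧ T' ≠ ⊥ ∧
        M = Subgroup.normalizer (T' : Set G)) ∧ M ≠ ⊤ ∧ Subgroup.normalizer (T : Set G) ≤ M}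
      obtain ⟨M, ⟨hM1, hM2, hM3⟩, hMmax⟩ := Set.Finite.exists_maximalFor id L (Set.toFinite _)
        ⟨_, ⟨T, hT, hT1, rfl⟩, hTG, le_rfl⟩
      exact ⟨M, h M hM1 hM2 (fun M' h1 h2 h3 => le_antisymm h3 (hMmax ⟨h1, h2, hM3.trans h3⟩ h3)),
        Subgroup.le_normalizer.trans hM3, (Subgroup.map_subtype_le _).trans hM3⟩
    · have : Nontrivial ↥T := (Subgroup.nontrivial_iff_ne_bot _).mpr hT1
      have : Nontrivial ↥(Subgroup.center ↥T) := IsPGroup.center_nontrivial hT
      obtain ⟨n, hn0, hn⟩ := (hT.to_subgroup (Subgroup.center ↥T)).nontrivial_iff_card.mp inferInstance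
      obtain ⟨z, hz⟩ := exists_prime_orderOf_dvd_card' (G := ↥(Subgroup.center ↥T)) p
        (by rw [hn]; exact dvd_pow_self p hn0.ne')
      refine ⟨Subgroup.centralizer ({((z : ↥T) : G)} : Set G),
        h _ (by rw [Subgroup.orderOf_coe, Subgroup.orderOf_coe]; exact hz), ?_, ?_⟩
      · intro t ht
        rw [Subgroup.mem_centralizer_singleton_iff]
        exact congrArg Subtype.val (Subgroup.mem_center_iff.mp z.2 ⟨t, ht⟩)
      · rintro _ ⟨k, hk, rfl⟩
        rw [Subgroup.mem_centralizer_singleton_iff]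
        have hzN : (⟨((z : ↥T) : G), Subgroup.le_normalizer (z : ↥T).2⟩ : ↥(Subgroup.normalizer (T : Set G))) ∈
            T.subgroupOf (Subgroup.normalizer (T : Set G)) := (z : ↥T).2
        have hle : T.subgroupOf (Subgroup.normalizer (T : Set G)) ≤
            Cfsg.pCore p ↥(Subgroup.normalizer (T : Set G)) :=
          le_sSup ⟨Subgroup.normal_in_normalizer, hT.of_equiv (Subgroup.subgroupOfEquivOfLe Subgroup.le_normalizer).symm⟩
        have := Subgroup.mem_centralizer_iff.mp
          (Cfsg.Agent.Lib.Components.IsPComponent.le_centralizer_pCore hK hk) _ (hle hzN)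
        exact (congrArg Subtype.val this).symm
  have hL := (Cfsg.Agent.Lib.Components.isPConstrained_iff p).mp hHc
  have hT' : IsPGroup p ↥(T.subgroupOf H) := hT.of_equiv (Subgroup.subgroupOfEquivOfLe hTH).symm
  obtain ⟨hN1, -⟩ := Cfsg.Agent.Lib.Components.pLayer_normalizer_eq_bot hL hT'
  let f : ↥(Subgroup.normalizer ((T.subgroupOf H : Subgroup ↥H) : Set ↥H)) →* ↥(Subgroup.normalizer (T : Set G)) :=
    (H.subtype.comp (Subgroup.normalizer ((T.subgroupOf H : Subgroup ↥H) : Set ↥H)).subtype).codRestrict _ (by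
      intro x
      exact (Subgroup.subgroupOf_normalizer_eq hTH).ge x.2)
  refine no_pComponent_of_injective hK f ?_ ?_ hN1
  · intro a b hab
    exact Subtype.ext (Subtype.ext (congrArg (fun w : ↥(Subgroup.normalizer (T : Set G)) => (w : G)) hab))
  · intro k hk
    have hkH : (k : G) ∈ H := hKH ⟨k, hk, rfl⟩
    refine ⟨⟨⟨(k : G), hkH⟩, ?_⟩, rfl⟩
    rw [← Subgroup.subgroupOf_normalizer_eq hTH]
    exact k.2

end Cfsg.Agent.S3247
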