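import Mathlib
import Cfsg.Statements.S3246
import Cfsg.Agent.S3247
import Cfsg.Agent.Lib.Coprime.Generation
import Cfsg.Agent.Lib.Solvable.Nilpotent

set_option autoImplicit false
open Cfsg

namespace Cfsg.Agent.S3246

open Cfsg.Agent.Lib.Components in
theorem centralizer_pCore_le {H : Type*} [Group H] [Finite H] (hc : Cfsg.IsPConstrained 2 H)
    (ho : Cfsg.oddCore H = ⊥) :
    Subgroup.centralizer (Cfsg.pCore 2 H : Set H) ≤ Cfsg.pCore 2 H := by
  have : Fact (Nat.Prime 2) := ⟨Nat.prime_two⟩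
  have hL : Cfsg.layer (H ⧸ Cfsg.pPrimeCore 2 H) = ⊥ :=
    (pLayer_eq_bot_iff 2).mp ((isPConstrained_iff 2).mp hc)
  let e : H ⧸ Cfsg.pPrimeCore 2 H ≃* H :=
    (QuotientGroup.quotientMulEquivOfEq ho).trans QuotientGroup.quotientBot
  have hE : Cfsg.layer H = ⊥ := by
    rw [← map_layer_mulEquiv e, hL, Subgroup.map_bot]
  have hF := genFitting_eq_pCore_of (p := 2) ho hE
  rw [← hF]
  exact centralizer_genFitting_le

/-- If a large part of a Sylow subgroup of `H` normalizes an odd-order subgroup of `H` then it is trivial. -/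
theorem eq_bot_of_index_le_two {H : Type*} [Group H] [Finite H] (hc : Cfsg.IsPConstrained 2 H)
    (ho : Cfsg.oddCore H = ⊥) {S1 Y : Subgroup H} (hY : Odd (Nat.card ↥Y))
    (hS1 : IsPGroup 2 ↥S1) (hS1Y : S1 ≤ Subgroup.normalizer (Y : Set H))
    (h2 : ∀ P : Subgroup H, IsPGroup 2 ↥P → S1 ≤ P → S1.relIndex P ≤ 2) : Y = ⊥ := by
  have : Fact (Nat.Prime 2) := ⟨Nat.prime_two⟩
  set P := Cfsg.pCore 2 H with hP
  have hPn : P.Normal := inferInstance
  have hPp : IsPGroup 2 ↥P := Cfsg.Agent.Lib.Components.pCore_isPGroup 2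
  have hidx : S1.relIndex P ≤ 2 :=
    le_trans (Subgroup.relIndex_le_of_le_right le_sup_left Subgroup.index_ne_zero_of_finite)
      (h2 (P ⊔ S1) (IsPGroup.to_sup_of_normal_left hPp hS1) le_sup_right)
  have hone : ∀ d ∈ P, d ∈ Y → d = 1 := by
    intro d hd hdY
    obtain ⟨k, hk⟩ := IsPGroup.iff_orderOf.mp hPp ⟨d, hd⟩
    have h1 : orderOf d ∣ Nat.card ↥Y := by
      simpa using Subgroup.orderOf_coe (⟨d, hdY⟩ : ↥Y) ▸ orderOf_dvd_natCard (⟨d, hdY⟩ : ↥Y)
    have h3 : orderOf d = 2 ^ k := by rw [← hk]; exact Subgroup.orderOf_coe (⟨d, hd⟩ : ↥P)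
    rcases Nat.eq_zero_or_pos k with h | h
    · rw [h, pow_zero] at h3
      exact orderOf_eq_one_iff.mp h3
    · exact absurd ((dvd_pow_self 2 h.ne').trans (h3 ▸ h1)) (by rw [← even_iff_two_dvd]; exact Nat.not_even_iff_odd.mpr hY)
  have hD : ∀ d ∈ P, d ∈ S1 → ∀ y ∈ Y, y * d = d * y := by
    intro d hd hdS y hy
    have h1 : y * d * y⁻¹ * d⁻¹ = 1 := by
      refine hone _ (mul_mem (hPn.conj_mem d hd y) (inv_mem hd)) ?_
      have := (Subgroup.mem_normalizer_iff.mp (hS1Y hdS) y⁻¹).mp (inv_mem hy)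
      have h3 : y * d * y⁻¹ * d⁻¹ = y * (d * y⁻¹ * d⁻¹) := by group
      rw [h3]
      exact mul_mem hy this
    calc y * d = (y * d * y⁻¹ * d⁻¹) * (d * y) := by group
      _ = d * y := by rw [h1, one_mul]
  have hcent : Y ≤ Subgroup.centralizer (P : Set H) := by
    intro y hy
    rw [Subgroup.mem_centralizer_iff]
    intro x hx
    by_cases hxS : x ∈ S1
    · exact (hD x hx hxS y hy).symm
    have hxy : y * x * y⁻¹ ∈ P := hPn.conj_mem x hx y
    have hnot : y * x * y⁻¹ ∉ S1 := by
      intro h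
      have := hD _ hxy h y⁻¹ (inv_mem hy)
      apply hxS
      have h3 : x = y * x * y⁻¹ := by
        calc x = y⁻¹ * (y * x * y⁻¹) * y := by group
          _ = (y * x * y⁻¹) * y⁻¹ * y := by rw [this]
          _ = y * x * y⁻¹ := by group
      rw [h3]
      exact h
    have h2' : (S1.subgroupOf P).index = 2 := by
      refine le_antisymm hidx ?_
      have h0 : (S1.subgroupOf P).index ≠ 0 := Subgroup.index_ne_zero_of_finite
      have h1 : (S1.subgroupOf P).index ≠ 1 := fun h => hxS
        (Subgroup.subgroupOf_eq_top.mp (Subgroup.index_eq_one.mp h) hx)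
      omega
    have hd : x⁻¹ * (y * x * y⁻¹) ∈ S1 := by
      have := (Subgroup.mul_mem_iff_of_index_two h2' (a := (⟨x⁻¹, inv_mem hx⟩ : ↥P))
        (b := ⟨y * x * y⁻¹, hxy⟩))
      have hx' : (⟨x⁻¹, inv_mem hx⟩ : ↥P) ∉ S1.subgroupOf P := by
        simpa [Subgroup.mem_subgroupOf] using hxS
      have hy' : (⟨y * x * y⁻¹, hxy⟩ : ↥P) ∉ S1.subgroupOf P := by
        simpa [Subgroup.mem_subgroupOf] using hnot
      exact Subgroup.mem_subgroupOf.mp (this.mpr (iff_of_false hx' hy'))
    set d := x⁻¹ * (y * x * y⁻¹) with hddef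
    have hdP : d ∈ P := mul_mem (inv_mem hx) hxy
    have hyd := hD d hdP hd y hy
    have hxd : y * x * y⁻¹ = x * d := by rw [hddef]; group
    have hpow : ∀ n : ℕ, y ^ n * x * (y ^ n)⁻¹ = x * d ^ n := by
      intro n
      induction n with
      | zero => simp
      | succ n ih =>
        calc y ^ (n + 1) * x * (y ^ (n + 1))⁻¹ = y * (y ^ n * x * (y ^ n)⁻¹) * y⁻¹ := by
              rw [pow_succ']; group
          _ = y * (x * d ^ n) * y⁻¹ := by rw [ih]
          _ = (y * x * y⁻¹) * (y * d ^ n * y⁻¹) := by group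
          _ = (y * x * y⁻¹) * d ^ n := by
              rw [(show Commute y d from hyd).pow_right n, mul_inv_cancel_right]
          _ = x * d ^ (n + 1) := by rw [hxd, pow_succ', mul_assoc]
    have hn := hpow (orderOf y)
    rw [pow_orderOf_eq_one, one_mul, inv_one, mul_one, left_eq_mul] at hn
    have hodd : Odd (orderOf y) :=
      hY.of_dvd_nat (Subgroup.orderOf_coe (⟨y, hy⟩ : ↥Y) ▸ orderOf_dvd_natCard (⟨y, hy⟩ : ↥Y))
    obtain ⟨k, hk⟩ := IsPGroup.iff_orderOf.mp hPp ⟨d, hdP⟩
    have hd1 : orderOf d = 2 ^ k := by rw [← hk]; exact Subgroup.orderOf_coe (⟨d, hdP⟩ : ↥P)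
    have hdvd : 2 ^ k ∣ orderOf y := hd1 ▸ orderOf_dvd_of_pow_eq_one hn
    have hk0 : k = 0 := by
      by_contra h
      exact Nat.not_even_iff_odd.mpr hodd (even_iff_two_dvd.mpr ((dvd_pow_self 2 h).trans hdvd))
    rw [hk0, pow_zero, orderOf_eq_one_iff] at hd1
    calc x * y = x * d * y := by rw [hd1, mul_one]
      _ = y * x := by rw [hddef]; group
  rw [eq_bot_iff]
  exact fun y hy => Subgroup.mem_bot.mpr (hone y (centralizer_pCore_le hc ho (hcent hy)) hy)

theorem exists_constrained {G : Type*} [Group G] [Finite G]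
    (h : (∀ M : Subgroup G, Cfsg.IsMaximalTwoLocal M → Cfsg.IsPConstrained 2 ↥M ∧ Cfsg.oddCore ↥M = ⊥) ∨
      (∀ t : G, orderOf t = 2 → Cfsg.IsPConstrained 2 ↥(Subgroup.centralizer ({t} : Set G)) ∧
        Cfsg.oddCore ↥(Subgroup.centralizer ({t} : Set G)) = ⊥)) (t : G) (ht : orderOf t = 2) :
    ∃ H : Subgroup G, Subgroup.centralizer ({t} : Set G) ≤ H ∧ Cfsg.IsPConstrained 2 ↥H ∧ Cfsg.oddCore ↥H = ⊥ := by
  rcases h with h | h
  · have hT : Cfsg.IsTwoLocal (Subgroup.normalizer ((Subgroup.zpowers t : Subgroup G) : Set G)) :=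
      ⟨_, IsPGroup.of_card (n := 1) (by rw [Nat.card_zpowers, ht, pow_one]),
        by rw [Ne, Subgroup.zpowers_eq_bot]; intro h1; rw [h1, orderOf_one] at ht; omega, rfl⟩
    have hle : Subgroup.centralizer ({t} : Set G) ≤ Subgroup.normalizer ((Subgroup.zpowers t : Subgroup G) : Set G) := by
      rw [Subgroup.zpowers_eq_closure, ← Subgroup.centralizer_closure ({t} : Set G)]
      exact Subgroup.centralizer_le_normalizer _
    obtain ⟨M, ⟨hM1, hM2⟩, hmax⟩ := Set.Finite.exists_maximalFor id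
      {N : Subgroup G | Cfsg.IsTwoLocal N ∧ Subgroup.centralizer ({t} : Set G) ≤ N} (Set.toFinite _)
      ⟨_, hT, hle⟩
    exact ⟨M, hM2, h M ⟨hM1, fun N hN hMN => le_antisymm (hmax ⟨hN, hM2.trans hMN⟩ hMN) hMN⟩⟩
  · exact ⟨_, le_rfl, h t ht⟩

/-- Let G be a finite group whose Sylow 2-subgroup S has a self-centralizing normal subgroup of rank at least 3. Suppose that either every maximal 2-local subgroup of G is 2-constrained with no nontrivial normal subgroup of odd order, or the centralizer of every involution of G is 2-constrained with no nontrivial normal subgroup of odd order. Then S normalizes no nontrivial subgroup of G of odd order and every 2-local subgroup of G is 2-constrained. -/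
theorem result {G : Type*} [Group G] [Finite G]
    (S : Sylow 2 G) (A : Subgroup G) (hA : Cfsg.IsSCN (S : Subgroup G) A) (hA3 : ¬ Cfsg.PRankLE 2 2 ↥A)
    (h : (∀ M : Subgroup G, Cfsg.IsMaximalTwoLocal M → Cfsg.IsPConstrained 2 ↥M ∧ Cfsg.oddCore ↥M = ⊥) ∨
      (∀ t : G, orderOf t = 2 → Cfsg.IsPConstrained 2 ↥(Subgroup.centralizer ({t} : Set G)) ∧
        Cfsg.oddCore ↥(Subgroup.centralizer ({t} : Set G)) = ⊥)) :
    (∀ X : Subgroup G, Odd (Nat.card ↥X) → (S : Subgroup G) ≤ Subgroup.normalizer (X : Set G) → X = ⊥) ∧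
      (∀ T : Subgroup G, IsPGroup 2 ↥T → T ≠ ⊥ → Cfsg.IsPConstrained 2 ↥(Subgroup.normalizer (T : Set G))) := by
  have : Fact (Nat.Prime 2) := ⟨Nat.prime_two⟩
  refine ⟨fun X hX hSX => ?_, fun T hT hT1 => ?_⟩
  · have hSp : IsPGroup 2 ↥(S : Subgroup G) := S.2
    have : Group.IsNilpotent ↥(S : Subgroup G) := hSp.isNilpotent
    obtain ⟨hAS, hSA, hAC⟩ := hA
    have hAcomm : ∀ a ∈ A, ∀ b ∈ A, a * b = b * a := fun a ha b hb =>
      Subgroup.mem_centralizer_iff.mp (hAC.ge hb).2 a ha
    let E : Subgroup ↥(S : Subgroup G) :=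
      { carrier := {x | (x : G) ∈ A ∧ x ^ 2 = 1}
        one_mem' := ⟨one_mem A, one_pow 2⟩
        mul_mem' := fun {a b} ha hb => ⟨mul_mem ha.1 hb.1, by
          rw [(show Commute a b from Subtype.ext (hAcomm _ ha.1 _ hb.1)).mul_pow, ha.2, hb.2, one_mul]⟩
        inv_mem' := fun {a} ha => ⟨inv_mem ha.1, by rw [inv_pow, ha.2, inv_one]⟩ }
    have hEn : E.Normal := ⟨fun x hx s => ⟨by
      exact (Subgroup.mem_normalizer_iff.mp (hSA s.2) _).mp hx.1, by rw [conj_pow, hx.2]; group⟩⟩
    have hEcard : 4 < Nat.card ↥E := by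
      by_contra h4
      apply hA3
      intro B _ hBexp
      refine le_trans ?_ (le_of_not_gt h4)
      refine Nat.card_le_card_of_injective
        (fun b : ↥B => (⟨⟨((b : ↥A) : G), hAS (b : ↥A).2⟩, (b : ↥A).2, Subtype.ext ?_⟩ : ↥E)) ?_
      · exact congrArg (fun w : ↥A => (w : G)) (hBexp b b.2)
      · intro b c hbc
        exact Subtype.ext (Subtype.ext (congrArg (fun w : ↥E => ((w : ↥(S : Subgroup G)) : G)) hbc))
    have hE0 : E ≠ ⊥ := fun h0 => by rw [h0, Subgroup.card_bot] at hEcard; omega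
    obtain ⟨z, hz, hz1⟩ := (E ⊓ Subgroup.center _).bot_or_exists_ne_one.resolve_left
      (Cfsg.Agent.Lib.Solvable.inf_center_ne_bot hE0)
    have hzc : ∀ s : ↥(S : Subgroup G), s * z = z * s := Subgroup.mem_center_iff.mp hz.2
    have hz2 : orderOf z = 2 := orderOf_eq_prime hz.1.2 hz1
    set Zs := Subgroup.zpowers z with hZs
    have hZn : Zs.Normal := ⟨fun x hx s => by
      obtain ⟨k, rfl⟩ := Subgroup.mem_zpowers_iff.mp hx
      rw [((show Commute s z from hzc s).zpow_right k).eq, mul_inv_cancel_right]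
      exact hx⟩
    have hEbar : E.map (QuotientGroup.mk' Zs) ≠ ⊥ := by
      intro h0
      rw [Subgroup.map_eq_bot_iff, QuotientGroup.ker_mk'] at h0
      have := Subgroup.card_le_of_le h0
      rw [Nat.card_zpowers, hz2] at this
      omega
    have : (E.map (QuotientGroup.mk' Zs)).Normal := hEn.map _ (QuotientGroup.mk'_surjective Zs)
    obtain ⟨ub, hub, hub1⟩ := (E.map (QuotientGroup.mk' Zs) ⊓ Subgroup.center _).bot_or_exists_ne_one.resolve_left
      (Cfsg.Agent.Lib.Solvable.inf_center_ne_bot hEbar)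
    obtain ⟨⟨u, hu, rfl⟩, hubc⟩ := hub
    have huZ : u ∉ Zs := fun h0 => hub1 ((QuotientGroup.eq_one_iff u).mpr h0)
    have hcomm : ∀ s : ↥(S : Subgroup G), s * u * s⁻¹ * u⁻¹ ∈ Zs := by
      intro s
      rw [← QuotientGroup.eq_one_iff]
      have := Subgroup.mem_center_iff.mp hubc (QuotientGroup.mk' Zs s)
      simp only [QuotientGroup.mk'_apply] at this
      simp only [QuotientGroup.mk_mul, QuotientGroup.mk_inv, this, mul_inv_cancel_right, mul_inv_cancel]
    let φ : ↥(S : Subgroup G) →* ↥Zs :=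
      { toFun := fun s => ⟨s * u * s⁻¹ * u⁻¹, hcomm s⟩
        map_one' := Subtype.ext (by simp)
        map_mul' := fun s t => Subtype.ext (by
          obtain ⟨k, hk⟩ := Subgroup.mem_zpowers_iff.mp (hcomm t)
          have hc : s * (t * u * t⁻¹ * u⁻¹) = (t * u * t⁻¹ * u⁻¹) * s := by
            rw [← hk]; exact ((show Commute s z from hzc s).zpow_right k).eq
          have hc2 : Commute (t * u * t⁻¹ * u⁻¹) (s * u * s⁻¹ * u⁻¹) := by
            rw [← hk]; exact ((show Commute z _ from (hzc _).symm).zpow_left k)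
          show s * t * u * (s * t)⁻¹ * u⁻¹ = (s * u * s⁻¹ * u⁻¹) * (t * u * t⁻¹ * u⁻¹)
          rw [← hc2.eq]
          calc s * t * u * (s * t)⁻¹ * u⁻¹
              = s * (t * u * t⁻¹ * u⁻¹) * (u * s⁻¹ * u⁻¹) := by group
            _ = (t * u * t⁻¹ * u⁻¹) * s * (u * s⁻¹ * u⁻¹) := by rw [hc]
            _ = (t * u * t⁻¹ * u⁻¹) * (s * u * s⁻¹ * u⁻¹) := by group) }
    have hker : ∀ s : ↥(S : Subgroup G), s ∈ φ.ker → s * u = u * s := by
      intro s hs
      have h1 : s * u * s⁻¹ * u⁻¹ = 1 := congrArg Subtype.val hs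
      calc s * u = (s * u * s⁻¹ * u⁻¹) * (u * s) := by group
        _ = u * s := by rw [h1, one_mul]
    have hcardker : Nat.card ↥(S : Subgroup G) ≤ 2 * Nat.card ↥φ.ker := by
      have h1 := Subgroup.card_mul_index φ.ker
      rw [Subgroup.index_ker] at h1
      have h2 : Nat.card ↥φ.range ≤ 2 := by
        refine le_trans (Nat.le_of_dvd Nat.card_pos (Subgroup.card_subgroup_dvd_card φ.range)) ?_
        rw [Nat.card_zpowers, hz2]
      rw [← h1, mul_comm 2]
      exact Nat.mul_le_mul_left _ h2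
    set S1 := φ.ker.map (S : Subgroup G).subtype with hS1
    have hcardS1 : Nat.card ↥S1 = Nat.card ↥φ.ker :=
      Nat.card_congr (Subgroup.equivMapOfInjective _ _ (S : Subgroup G).subtype_injective).symm.toEquiv
    have hS1S : S1 ≤ (S : Subgroup G) := Subgroup.map_subtype_le _
    have hS1p : IsPGroup 2 ↥S1 := hSp.to_le hS1S
    have hzG : ((z : G)) * z = 1 := by
      have := congrArg Subtype.val hz.1.2
      simpa [pow_two] using this
    have huG : ((u : G)) * u = 1 := by
      have := congrArg Subtype.val hu.2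
      simpa [pow_two] using this
    have hzu : (z : G) * u = u * z := (congrArg Subtype.val (hzc u)).symm
    have e1 : (z : G) * ((z : G) * u) = u := by rw [← mul_assoc, hzG, one_mul]
    have e2 : (u : G) * ((z : G) * u) = z := by rw [hzu, ← mul_assoc, huG, one_mul]
    have e3 : (z : G) * u * z = u := by rw [mul_assoc, ← hzu, e1]
    have e4 : (z : G) * u * u = z := by rw [mul_assoc, huG, mul_one]
    have e5 : (u : G) * z = z * u := hzu.symm
    have e6 : (z : G) * u * ((z : G) * u) = 1 := by rw [← mul_assoc, e3, huG]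
    let U : Subgroup G :=
      { carrier := {(1 : G), (z : G), (u : G), (z : G) * u}
        one_mem' := Or.inl rfl
        mul_mem' := by
          rintro a b (rfl | rfl | rfl | rfl) (rfl | rfl | rfl | rfl) <;>
            simp [hzG, huG, e1, e2, e3, e4, e5, e6]
        inv_mem' := by
          rintro a (rfl | rfl | rfl | rfl)
          · simp
          · rw [inv_eq_of_mul_eq_one_left hzG]; simp
          · rw [inv_eq_of_mul_eq_one_left huG]; simp
          · rw [inv_eq_of_mul_eq_one_left e6]; simp }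
    have hUS : U ≤ (S : Subgroup G) := by
      rintro a (rfl | rfl | rfl | rfl)
      exacts [one_mem _, z.2, u.2, mul_mem z.2 u.2]
    have : IsMulCommutative ↥U := ⟨⟨fun ⟨a, ha⟩ ⟨b, hb⟩ => Subtype.ext (by
      show a * b = b * a
      rcases ha with rfl | rfl | rfl | rfl <;> rcases hb with rfl | rfl | rfl | rfl <;>
        simp [hzG, huG, e1, e2, e3, e4, e5, e6])⟩⟩
    have hsq : ∀ a ∈ U, a ^ 2 = 1 := by
      rintro a (rfl | rfl | rfl | rfl)
      · simp
      · rw [pow_two, hzG]
      · rw [pow_two, huG]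
      · rw [(show Commute (z : G) u from hzu).mul_pow, pow_two, pow_two, hzG, huG, one_mul]
    have hUcyc : ¬ IsCyclic ↥U := by
      intro hcyc
      obtain ⟨⟨g, hg⟩, hgen⟩ := hcyc.exists_generator
      have hle : Nat.card ↥U ≤ 2 := by
        have h1 : orderOf (⟨g, hg⟩ : ↥U) = Nat.card ↥U := orderOf_eq_card_of_forall_mem_zpowers hgen
        rw [← h1]
        exact Nat.le_of_dvd two_pos (orderOf_dvd_of_pow_eq_one (Subtype.ext (hsq g hg)))
      have hthree : 3 ≤ Nat.card ↥U := by
        have h1 : ({(1 : G), (z : G), (u : G)} : Set G).ncard = 3 := by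
          refine Set.ncard_eq_three.mpr ⟨1, z, u, ?_, ?_, ?_, rfl⟩
          · exact fun h0 => hz1 (Subtype.ext h0.symm)
          · intro h0
            exact huZ ((Subtype.ext h0.symm : u = 1) ▸ one_mem Zs)
          · intro h0
            exact huZ ((Subtype.ext h0 : z = u) ▸ Subgroup.mem_zpowers z)
        rw [← h1, ← SetLike.coe_sort_coe, Nat.card_coe_set_eq]
        refine Set.ncard_le_ncard ?_ (Set.toFinite _)
        rintro a (rfl | rfl | rfl)
        exacts [one_mem U, Or.inr (Or.inl rfl), Or.inr (Or.inr (Or.inl rfl))]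
      omega
    have hcop : (Nat.card ↥U).Coprime (Nat.card ↥X) := by
      obtain ⟨k, hk⟩ := (hSp.to_le hUS).exists_card_eq
      rw [hk]
      exact Nat.Coprime.pow_left k (Nat.coprime_two_left.mpr hX)
    rw [← Cfsg.Agent.Lib.Coprime.iSup_centralizer_eq hUcyc (hUS.trans hSX) hcop, eq_bot_iff]
    refine iSup₂_le fun v hv => le_of_eq ?_
    obtain ⟨hvU, hv1⟩ := hv
    obtain ⟨H, hCH, hc, ho⟩ := exists_constrained h v (orderOf_eq_prime (hsq v hvU) hv1)
    set Y := X ⊓ Subgroup.centralizer ({v} : Set G) with hY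
    have hS1v : S1 ≤ Subgroup.centralizer ({v} : Set G) := by
      rintro _ ⟨s, hs, rfl⟩
      rw [Subgroup.mem_centralizer_singleton_iff]
      have h1 : (s : G) * z = z * s := congrArg Subtype.val (hzc s)
      have h2 : (s : G) * u = u * s := congrArg Subtype.val (hker s hs)
      rcases hvU with rfl | rfl | rfl | rfl
      · simp
      · exact h1
      · exact h2
      · rw [Subgroup.coe_subtype, ← mul_assoc, h1, mul_assoc, h2, mul_assoc]
    have hYH : Y ≤ H := inf_le_right.trans hCH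
    have hbot : Y.subgroupOf H = ⊥ := by
      refine eq_bot_of_index_le_two hc ho (S1 := S1.subgroupOf H) ?_
        (hS1p.of_equiv (Subgroup.subgroupOfEquivOfLe (hS1v.trans hCH)).symm) ?_ ?_
      · rw [Nat.card_congr (Subgroup.subgroupOfEquivOfLe hYH).toEquiv]
        exact hX.of_dvd_nat (Subgroup.card_dvd_of_le inf_le_left)
      · rw [← Subgroup.subgroupOf_normalizer_eq hYH]
        refine (Subgroup.comap_mono ?_)
        refine le_trans ?_ Subgroup.inf_normalizer_le_normalizer_inf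
        exact le_inf (hS1S.trans hSX) (hS1v.trans Subgroup.le_normalizer)
      · intro P hP hle
        have h1 := Subgroup.relIndex_mul_relIndex ⊥ (S1.subgroupOf H) P bot_le hle
        rw [Subgroup.relIndex_bot_left, Subgroup.relIndex_bot_left,
          Nat.card_congr (Subgroup.subgroupOfEquivOfLe (hS1v.trans hCH)).toEquiv, hcardS1] at h1
        have h2 : Nat.card ↥P ≤ Nat.card ↥(S : Subgroup G) := by
          obtain ⟨Q, hQ⟩ := (hP.map H.subtype).exists_le_sylow
          rw [Nat.card_congr (Subgroup.equivMapOfInjective P _ H.subtype_injective).toEquiv]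
          exact (Subgroup.card_le_of_le hQ).trans (le_of_eq (Nat.card_congr (Q.equiv S).toEquiv))
        refine Nat.le_of_mul_le_mul_left ?_ (Nat.card_pos (α := ↥φ.ker))
        rw [h1, mul_comm]
        exact h2.trans hcardker
    rw [← Subgroup.map_subgroupOf_eq_of_le hYH, hbot, Subgroup.map_bot]
  · rw [Cfsg.Agent.Lib.Components.isPConstrained_iff, eq_bot_iff,
      Cfsg.Agent.Lib.Components.pLayer_le_iff]
    intro K hK
    exfalso
    have : Nontrivial ↥T := (Subgroup.nontrivial_iff_ne_bot _).mpr hT1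
    have : Nontrivial ↥(Subgroup.center ↥T) := IsPGroup.center_nontrivial hT
    obtain ⟨n, hn0, hn⟩ := (hT.to_subgroup (Subgroup.center ↥T)).nontrivial_iff_card.mp inferInstance
    obtain ⟨z, hz⟩ := exists_prime_orderOf_dvd_card' (G := ↥(Subgroup.center ↥T)) 2
      (by rw [hn]; exact dvd_pow_self 2 hn0.ne')
    obtain ⟨H, hCH, hHc, -⟩ := exists_constrained h ((z : ↥T) : G)
      (by rw [Subgroup.orderOf_coe, Subgroup.orderOf_coe]; exact hz)
    have hTH : T ≤ H := by
      refine le_trans ?_ hCH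
      intro t ht
      rw [Subgroup.mem_centralizer_singleton_iff]
      exact congrArg Subtype.val (Subgroup.mem_center_iff.mp z.2 ⟨t, ht⟩)
    have hKH : K.map (Subgroup.normalizer (T : Set G)).subtype ≤ H := by
      refine le_trans ?_ hCH
      rintro _ ⟨k, hk, rfl⟩
      rw [Subgroup.mem_centralizer_singleton_iff]
      have hzN : (⟨((z : ↥T) : G), Subgroup.le_normalizer (z : ↥T).2⟩ : ↥(Subgroup.normalizer (T : Set G))) ∈
          T.subgroupOf (Subgroup.normalizer (T : Set G)) := (z : ↥T).2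
      have hle : T.subgroupOf (Subgroup.normalizer (T : Set G)) ≤
          Cfsg.pCore 2 ↥(Subgroup.normalizer (T : Set G)) :=
        le_sSup ⟨Subgroup.normal_in_normalizer, hT.of_equiv (Subgroup.subgroupOfEquivOfLe Subgroup.le_normalizer).symm⟩
      have := Subgroup.mem_centralizer_iff.mp
        (Cfsg.Agent.Lib.Components.IsPComponent.le_centralizer_pCore hK hk) _ (hle hzN)
      exact (congrArg Subtype.val this).symm
    have hL := (Cfsg.Agent.Lib.Components.isPConstrained_iff 2).mp hHc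
    have hT' : IsPGroup 2 ↥(T.subgroupOf H) := hT.of_equiv (Subgroup.subgroupOfEquivOfLe hTH).symm
    obtain ⟨hN1, -⟩ := Cfsg.Agent.Lib.Components.pLayer_normalizer_eq_bot hL hT'
    let f : ↥(Subgroup.normalizer ((T.subgroupOf H : Subgroup ↥H) : Set ↥H)) →* ↥(Subgroup.normalizer (T : Set G)) :=
      (H.subtype.comp (Subgroup.normalizer ((T.subgroupOf H : Subgroup ↥H) : Set ↥H)).subtype).codRestrict _
        (fun x => (Subgroup.subgroupOf_normalizer_eq hTH).ge x.2)
    refine Cfsg.Agent.S3247.no_pComponent_of_injective hK f ?_ ?_ hN1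
    · intro a b hab
      exact Subtype.ext (Subtype.ext (congrArg (fun w : ↥(Subgroup.normalizer (T : Set G)) => (w : G)) hab))
    · intro k hk
      exact ⟨⟨⟨(k : G), hKH ⟨k, hk, rfl⟩⟩, (Subgroup.subgroupOf_normalizer_eq hTH).le k.2⟩, rfl⟩

end Cfsg.Agent.S3246
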