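import Cfsg.Statements.S3265
import Cfsg.Agent.Lib.OddProductGraph.Main

set_option autoImplicit false
set_option linter.unusedSimpArgs false
set_option linter.style.haveILetI false
open Cfsg

namespace Cfsg.Agent.S3265

/-- A conjugate of `t` different from it with product of order two. -/
theorem exists_far (n : ℕ) (hn : 5 ≤ n) (t : Equiv.Perm (Fin n)) (ht : orderOf t = 2) :
    ∃ y, IsConj t y ∧ y ≠ t ∧ (t * y) * (t * y) = 1 := by
  have htt : ∀ v, t (t v) = v := fun v => by
    have h : t ^ 2 = 1 := ht ▸ pow_orderOf_eq_one t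
    have := Equiv.congr_fun h v
    rwa [pow_two, Equiv.Perm.mul_apply, Equiv.Perm.one_apply] at this
  have ht1 : t ≠ 1 := fun h => by rw [h, orderOf_one] at ht; omega
  obtain ⟨a, ha⟩ : ∃ a, t a ≠ a := by
    by_contra h
    push Not at h
    exact ht1 (Equiv.ext h)
  set b := t a with hb
  have htb : t b = a := htt a
  by_cases hc : ∃ c, c ≠ a ∧ c ≠ b ∧ t c ≠ c
  · obtain ⟨c, hca, hcb, hc⟩ := hc
    set d := t c with hd
    have htd : t d = c := htt c
    have hda : d ≠ a := fun h => hcb (by rw [← htd, h])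
    have hdb : d ≠ b := fun h => hca (t.injective (hd.symm.trans (h.trans hb)))
    set s := Equiv.swap b c
    refine ⟨s * t * s, isConj_iff.mpr ⟨s, by rw [Equiv.swap_inv]⟩, fun h => ?_, Equiv.ext fun v => ?_⟩
    · have h1 := Equiv.congr_fun h a
      simp only [Equiv.Perm.mul_apply, s] at h1
      rw [Equiv.swap_apply_of_ne_of_ne ha.symm hca.symm, ← hb, Equiv.swap_apply_left] at h1
      exact hcb h1
    · simp only [Equiv.Perm.mul_apply, Equiv.Perm.one_apply, s]
      have hout : ∀ w, w ≠ a → w ≠ b → w ≠ c → w ≠ d → t w ≠ b ∧ t w ≠ c :=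
        fun w h1 h2 h3 h4 => ⟨fun h => h1 (by rw [← htt w, h, htb]), fun h => h4 (by rw [← htt w, h])⟩
      by_cases h1 : v = a
      · simp [h1, Equiv.swap_apply_of_ne_of_ne, ha.symm, hca.symm, ← hb, ← hd, htb, htd, hda, hdb, hc]
      by_cases h2 : v = b
      · simp [h2, Equiv.swap_apply_of_ne_of_ne, ha.symm, hca.symm, hcb, ← hb, ← hd, htb, htd, hda, hdb, hc]
      by_cases h3 : v = c
      · simp [h3, Equiv.swap_apply_of_ne_of_ne, ha.symm, hca.symm, ← hb, ← hd, htb, htd, hda, hdb, hc]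
      by_cases h4 : v = d
      · simp [h4, Equiv.swap_apply_of_ne_of_ne, ha.symm, hca.symm, ← hb, ← hd, htb, htd, hda, hdb, hc]
      obtain ⟨g1, g2⟩ := hout v h1 h2 h3 h4
      simp [Equiv.swap_apply_of_ne_of_ne, h2, h3, g1, g2, htt]
  · push Not at hc
    obtain ⟨c, hca, hcb, -⟩ : ∃ c, c ≠ a ∧ c ≠ b ∧ True := by
      by_contra h
      have hsub : (Finset.univ : Finset (Fin n)) ⊆ {a, b} := fun v _ => by
        by_contra hv
        simp only [Finset.mem_insert, Finset.mem_singleton, not_or] at hv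
        exact h ⟨v, hv.1, hv.2, trivial⟩
      have := (Finset.card_le_card hsub).trans Finset.card_le_two
      rw [Finset.card_univ, Fintype.card_fin] at this
      omega
    obtain ⟨d, hda, hdb, hdc⟩ : ∃ d, d ≠ a ∧ d ≠ b ∧ d ≠ c := by
      by_contra h
      have hsub : (Finset.univ : Finset (Fin n)) ⊆ {a, b, c} := fun v _ => by
        by_contra hv
        simp only [Finset.mem_insert, Finset.mem_singleton, not_or] at hv
        exact h ⟨v, hv.1, hv.2.1, hv.2.2⟩
      have := (Finset.card_le_card hsub).trans Finset.card_le_three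
      rw [Finset.card_univ, Fintype.card_fin] at this
      omega
    have hfix : ∀ v, v ≠ a → v ≠ b → t v = v := hc
    have htab : t = Equiv.swap a b := Equiv.ext fun v => by
      by_cases h1 : v = a
      · rw [h1, Equiv.swap_apply_left, hb]
      by_cases h2 : v = b
      · rw [h2, Equiv.swap_apply_right, htb]
      rw [Equiv.swap_apply_of_ne_of_ne h1 h2, hfix v h1 h2]
    refine ⟨Equiv.swap c d, htab ▸ Equiv.Perm.isConj_swap ha.symm hdc.symm, fun h => ?_, ?_⟩
    · have h1 := Equiv.congr_fun h a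
      rw [Equiv.swap_apply_of_ne_of_ne hca.symm hda.symm] at h1
      exact ha h1.symm
    · have hcomm : Commute t (Equiv.swap c d) := Equiv.ext fun v => by
        rw [htab]
        simp only [Equiv.Perm.mul_apply]
        by_cases h1 : v = c
        · simp [h1, Equiv.swap_apply_of_ne_of_ne, hca, hcb, hda, hdb]
        by_cases h2 : v = d
        · simp [h2, Equiv.swap_apply_of_ne_of_ne, hca, hcb, hda, hdb]
        by_cases h3 : v = a
        · simp [h3, Equiv.swap_apply_of_ne_of_ne, hca.symm, hcb.symm, hda.symm, hdb.symm]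
        by_cases h4 : v = b
        · simp [h4, Equiv.swap_apply_of_ne_of_ne, hca.symm, hcb.symm, hda.symm, hdb.symm]
        simp [Equiv.swap_apply_of_ne_of_ne, h1, h2, h3, h4]
      have : t * t = 1 := Equiv.ext htt
      rw [hcomm.symm.mul_mul_mul_comm, this, Equiv.swap_mul_self, one_mul]


/-- Let n ≥ 5 and let X be a conjugacy class of involutions of the symmetric group of degree n. The graph on X joining two distinct involutions whose product has odd order is connected and has diameter exactly 2. -/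
theorem result (n : ℕ) (hn : 5 ≤ n) (t : Equiv.Perm (Fin n)) (ht : orderOf t = 2) :
    (SimpleGraph.fromRel fun x y : {x : Equiv.Perm (Fin n) // IsConj t x} =>
        Odd (orderOf (x.1 * y.1))).Connected ∧
      (SimpleGraph.fromRel fun x y : {x : Equiv.Perm (Fin n) // IsConj t x} =>
        Odd (orderOf (x.1 * y.1))).diam = 2 := by
  set Γ := SimpleGraph.fromRel fun x y : {x : Equiv.Perm (Fin n) // IsConj t x} =>
    Odd (orderOf (x.1 * y.1))
  have hinv : ∀ x : {x : Equiv.Perm (Fin n) // IsConj t x}, x.1 * x.1 = 1 := by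
    rintro ⟨x, hx⟩
    obtain ⟨g, rfl⟩ := isConj_iff.mp hx
    have : t * t = 1 := by rw [← pow_two, ← ht, pow_orderOf_eq_one]
    calc g * t * g⁻¹ * (g * t * g⁻¹) = g * (t * t) * g⁻¹ := by group
      _ = 1 := by rw [this, mul_one, mul_inv_cancel]
  have hwalk : ∀ x y, ∃ w : Γ.Walk x y, w.length ≤ 2 := by
    intro x y
    obtain ⟨z, hz, h1, h2⟩ := Cfsg.Agent.Lib.OddProductGraph.exists_middle (by rw [Nat.card_fin]; exact hn)
      (hinv x) (hinv y) (x.2.symm.trans y.2)
    set z' : {x : Equiv.Perm (Fin n) // IsConj t x} := ⟨z, x.2.trans hz⟩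
    by_cases hxy : x = y
    · subst hxy; exact ⟨SimpleGraph.Walk.nil, Nat.zero_le 2⟩
    by_cases hxz : x = z'
    · exact ⟨SimpleGraph.Walk.cons (⟨hxy, Or.inl (hxz ▸ h2)⟩ : Γ.Adj x y) SimpleGraph.Walk.nil,
        show 1 ≤ 2 by omega⟩
    by_cases hzy : z' = y
    · exact ⟨SimpleGraph.Walk.cons (⟨hxy, Or.inl (hzy ▸ h1)⟩ : Γ.Adj x y) SimpleGraph.Walk.nil,
        show 1 ≤ 2 by omega⟩
    exact ⟨SimpleGraph.Walk.cons (⟨hxz, Or.inl h1⟩ : Γ.Adj x z')
      (SimpleGraph.Walk.cons (⟨hzy, Or.inl h2⟩ : Γ.Adj z' y) SimpleGraph.Walk.nil), show 2 ≤ 2 by omega⟩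
  haveI : Nonempty {x : Equiv.Perm (Fin n) // IsConj t x} := ⟨⟨t, IsConj.refl t⟩⟩
  have hconn : Γ.Connected := ⟨fun x y => ⟨(hwalk x y).choose⟩⟩
  refine ⟨hconn, ?_⟩
  have hed : Γ.ediam ≤ 2 := SimpleGraph.ediam_le_of_edist_le fun x y => by
    obtain ⟨w, hw⟩ := hwalk x y
    exact (SimpleGraph.edist_le w).trans (by exact_mod_cast hw)
  have hne : Γ.ediam ≠ ⊤ := fun h => by rw [h] at hed; simp at hed
  refine le_antisymm (ENat.toNat_le_of_le_natCast hed) ?_
  obtain ⟨y, hy, hyt, hty⟩ := exists_far n hn t ht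
  have h2 : orderOf (t * y) = 2 := orderOf_eq_prime (by rw [pow_two]; exact hty) fun h => hyt (by
    rw [← inv_eq_of_mul_eq_one_right h]
    exact inv_eq_of_mul_eq_one_right (hinv ⟨t, IsConj.refl t⟩))
  set x' : {x : Equiv.Perm (Fin n) // IsConj t x} := ⟨t, IsConj.refl t⟩
  set y' : {x : Equiv.Perm (Fin n) // IsConj t x} := ⟨y, hy⟩
  have hne' : x' ≠ y' := fun h => hyt (congrArg Subtype.val h).symm
  have hnadj : ¬ Γ.Adj x' y' := by
    rintro ⟨-, h | h⟩
    · rw [h2] at h; exact absurd h (by decide)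
    · have h3 : y * t = (t * y)⁻¹ := by
        rw [mul_inv_rev, inv_eq_of_mul_eq_one_right (hinv x'), inv_eq_of_mul_eq_one_right (hinv y')]
      rw [h3, orderOf_inv, h2] at h; exact absurd h (by decide)
  refine le_trans ?_ (SimpleGraph.dist_le_diam hne (u := x') (v := y'))
  by_contra hlt
  push Not at hlt
  have hpos := hconn.pos_dist_of_ne hne'
  exact hnadj (SimpleGraph.dist_eq_one_iff_adj.mp (by omega))

end Cfsg.Agent.S3265
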