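import Mathlib
import Cfsg.Statements.S3269
import Cfsg.Agent.Lib.InvChar.QuaternionFactor
import Cfsg.Agent.Lib.InvChar.ZStarCentral

set_option autoImplicit false
open Cfsg

namespace Cfsg.Agent.S3269


open scoped IsMulCommutative in
open Cfsg.Agent.Lib.InvChar.QFactor in
/-- A central involution of `Q_{4m} × R` fixed by all automorphisms. -/
private lemma exists_fixed {n : ℕ} (hn : 1 ≤ n) {R : Type*} [Group R] [Finite R] :
    ∃ P : QuaternionGroup (2 ^ n) × R, orderOf P = 2 ∧ (∀ t, Commute P t) ∧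
      ∀ φ : (QuaternionGroup (2 ^ n) × R) ≃* (QuaternionGroup (2 ^ n) × R), φ P = P := by
  classical
  haveI : NeZero (2 ^ n) := ⟨(Nat.two_pow_pos n).ne'⟩
  set T := QuaternionGroup (2 ^ n) × R with hT
  set z : QuaternionGroup (2 ^ n) := QuaternionGroup.a (((2 ^ n : ℕ) : ℕ) : ZMod (2 * 2 ^ n))
  have hzc : ((z, 1) : T) ∈ Subgroup.center T := Subgroup.mem_center_iff.2 fun t =>
    Prod.ext (commute_center (Or.inr rfl) t.1).symm.eq (by simp)
  haveI : Finite (T ≃* T) := Finite.of_injective (fun f : T ≃* T => (f : T → T)) DFunLike.coe_injective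
  haveI := Fintype.ofFinite (T ≃* T)
  have hmap : ∀ (φ : T ≃* T) {x : T}, x ∈ Subgroup.center T → φ x ∈ Subgroup.center T :=
    fun φ x hx => Subgroup.mem_center_iff.2 fun t => by
      obtain ⟨t', rfl⟩ := φ.surjective t
      rw [← map_mul, ← map_mul, Subgroup.mem_center_iff.1 hx t']
  let c : (T ≃* T) → (Subgroup.center T →* Subgroup.center T) := fun φ =>
    { toFun := fun x => ⟨φ x, hmap φ x.2⟩
      map_one' := Subtype.ext (map_one φ)
      map_mul' := fun x y => Subtype.ext (map_mul φ x.1 y.1) }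
  let f : (T ≃* T) → Subgroup.center T := fun φ => ⟨φ (z, 1), hmap φ hzc⟩
  let X : Finset (Subgroup.center T) := Finset.univ.image f
  let P : Subgroup.center T := ∏ x ∈ X, x
  have hfix : ∀ φ : T ≃* T, c φ P = P := by
    intro φ
    have hinj : Function.Injective (c φ) := fun x y h =>
      Subtype.ext (φ.injective (congrArg Subtype.val h))
    have hX : X.image (c φ) = X := by
      refine Finset.eq_of_subset_of_card_le ?_ ?_
      · intro x hx
        simp only [X, Finset.mem_image, Finset.mem_univ, true_and] at hx ⊢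
        obtain ⟨y, ⟨ψ, rfl⟩, rfl⟩ := hx
        exact ⟨ψ.trans φ, rfl⟩
      · rw [Finset.card_image_of_injective _ hinj]
    calc c φ P = ∏ x ∈ X, c φ x := map_prod _ _ _
      _ = ∏ x ∈ X.image (c φ), x := (Finset.prod_image (f := fun x => x) (g := c φ) (s := X) fun x _ y _ h => hinj h).symm
      _ = P := by rw [hX]
  have hz0 : (⟨(z, 1), hzc⟩ : Subgroup.center T) ∈ X :=
    Finset.mem_image.2 ⟨MulEquiv.refl T, Finset.mem_univ _, rfl⟩
  let π : Subgroup.center T →* QuaternionGroup (2 ^ n) :=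
    (MonoidHom.fst _ _).comp (Subgroup.center T).subtype
  have hother : ∏ x ∈ X.erase ⟨(z, 1), hzc⟩, x ∈ π.ker := by
    refine Subgroup.prod_mem _ fun x hx => ?_
    obtain ⟨hne, hx⟩ := Finset.mem_erase.1 hx
    obtain ⟨φ, -, rfl⟩ := Finset.mem_image.1 hx
    rcases image_invol hn φ with h | h
    · exact absurd (Subtype.ext h) hne
    · exact h
  have hP1 : (P : T).1 = z := by
    have e : P = ⟨(z, 1), hzc⟩ * ∏ x ∈ X.erase ⟨(z, 1), hzc⟩, x :=
      (Finset.mul_prod_erase X (fun x => x) hz0).symm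
    show π P = z
    rw [e, map_mul, MonoidHom.mem_ker.1 hother, mul_one]
    rfl
  have hPsq : P ^ 2 = 1 := by
    show (∏ x ∈ X, x) ^ 2 = 1
    rw [← Finset.prod_pow]
    refine Finset.prod_eq_one fun x hx => ?_
    obtain ⟨φ, -, rfl⟩ := Finset.mem_image.1 hx
    refine Subtype.ext ?_
    show φ (z, 1) ^ 2 = 1
    rw [← map_pow, Prod.pow_mk, one_pow, sq, QuaternionGroup.a_mul_a, natCast_add_self,
      QuaternionGroup.a_zero, ← Prod.one_eq_mk, map_one]
  refine ⟨(P : T), orderOf_eq_prime (congrArg Subtype.val hPsq) ?_,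
    fun t => (Subgroup.mem_center_iff.1 P.2 t).symm, fun φ => congrArg Subtype.val (hfix φ)⟩
  intro h
  rw [h] at hP1
  have h' : (1 : QuaternionGroup (2 ^ n)) = z := hP1
  rw [QuaternionGroup.one_def, QuaternionGroup.a.injEq] at h'
  exact natCast_ne_zero (Nat.two_pow_pos n) h'.symm

/-- Let G be a finite group whose Sylow 2-subgroup S is an internal direct product Q × R with Q generalized quaternion (of order at least 8) and R a subgroup all of whose involutions are central in R. Then G is not simple. In particular no finite simple group has a Sylow 2-subgroup that is a direct product of one or more generalized quaternion groups. -/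
theorem result {G : Type*} [Group G] [Finite G]
    (S : Sylow 2 G) (Q R : Subgroup G) (hQR : Cfsg.IsInternalDirectProduct Q R (S : Subgroup G))
    (n : ℕ) (hn : 1 ≤ n) (eQ : ↥Q ≃* QuaternionGroup (2 ^ n))
    (hR : ∀ r ∈ R, orderOf r = 2 → ∀ s ∈ R, r * s = s * r) :
    ¬ IsSimpleGroup G := by
  classical
  intro hsimp
  have : Fact (Nat.Prime 2) := ⟨Nat.prime_two⟩
  obtain ⟨hQS, hRS, hcom, hdis, hsup⟩ := hQR
  let F : QuaternionGroup (2 ^ n) × ↥R →* ↥(S : Subgroup G) :=
    { toFun := fun p => ⟨(eQ.symm p.1 : G) * (p.2 : G),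
        mul_mem (hQS (eQ.symm p.1).2) (hRS p.2.2)⟩
      map_one' := Subtype.ext (by simp)
      map_mul' := fun p q => Subtype.ext (by
        show ((eQ.symm (p.1 * q.1) : ↥Q) : G) * ((p.2 * q.2 : ↥R) : G) = _
        rw [map_mul, Subgroup.coe_mul, Subgroup.coe_mul]
        show _ = (eQ.symm p.1 : G) * (p.2 : G) * ((eQ.symm q.1 : G) * (q.2 : G))
        rw [(Commute.symm (hcom _ (eQ.symm q.1).2 _ p.2.2)).mul_mul_mul_comm]) }
  have hFinj : Function.Injective F := by
    rw [injective_iff_map_eq_one]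
    intro p hp
    have h : (eQ.symm p.1 : G) * (p.2 : G) = 1 := congrArg Subtype.val hp
    have h1 : (eQ.symm p.1 : G) = (p.2 : G)⁻¹ := mul_eq_one_iff_eq_inv.1 h
    have h2 : (eQ.symm p.1 : G) ∈ Q ⊓ R := ⟨(eQ.symm p.1).2, h1 ▸ R.inv_mem p.2.2⟩
    rw [hdis, Subgroup.mem_bot] at h2
    rw [h2, one_mul] at h
    refine Prod.ext ?_ (Subtype.ext h)
    have h3 : eQ.symm p.1 = 1 := Subtype.ext h2
    simpa using h3
  have hFsurj : Function.Surjective F := by
    rintro ⟨s, hs⟩
    have hle : Q ⊔ R ≤ F.range.map (S : Subgroup G).subtype := by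
      refine sup_le (fun x hx => ?_) fun x hx => ?_
      · exact ⟨_, ⟨(eQ ⟨x, hx⟩, 1), rfl⟩, by simp [F]⟩
      · exact ⟨_, ⟨(1, ⟨x, hx⟩), rfl⟩, by simp [F]⟩
    obtain ⟨y, ⟨p, hp⟩, hy⟩ := hle (hsup.ge hs)
    exact ⟨p, hp.trans (Subtype.ext hy)⟩
  let e := MulEquiv.ofBijective F ⟨hFinj, hFsurj⟩
  obtain ⟨P, hP2, hPc, hPfix⟩ := exists_fixed (n := n) hn (R := ↥R)
  set q : G := (e P : G) with hq
  have hq2 : orderOf q = 2 := by
    rw [hq, Subgroup.orderOf_coe, e.orderOf_eq, hP2]
  -- every involution of `S` is central in `S`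
  have hinv : ∀ y : G, y ∈ S → orderOf y = 2 →
      y ∈ Subgroup.centralizer ((S : Subgroup G) : Set G) := by
    intro y hy hy2
    obtain ⟨p, hp⟩ := e.surjective ⟨y, hy⟩
    have hpp : p * p = 1 := by
      apply e.injective
      rw [map_mul, hp, map_one]
      exact Subtype.ext (Cfsg.Agent.Lib.Involutions.invol_mul_self hy2)
    have hpc : ∀ t, Commute p t := fun t => by
      refine Prod.ext ?_ ?_
      · exact (Cfsg.Agent.Lib.InvChar.QFactor.commute_center
          (Cfsg.Agent.Lib.InvChar.QFactor.eq_of_mul_self (Nat.two_pow_pos n)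
            (congrArg Prod.fst hpp)) t.1).eq
      · have h2 : p.2 * p.2 = 1 := congrArg Prod.snd hpp
        by_cases h1 : p.2 = 1
        · simp [h1]
        · exact Subtype.ext (hR _ p.2.2 (by
            rw [Subgroup.orderOf_coe, orderOf_eq_prime (by rw [sq, h2]) h1]) _ t.2.2)
    rw [Subgroup.mem_centralizer_iff]
    intro s hs
    obtain ⟨t, ht⟩ := e.surjective ⟨s, hs⟩
    have h := ((hpc t).map e.toMonoidHom).eq
    simp only [MulEquiv.coe_toMonoidHom, hp, ht] at h
    exact (congrArg Subtype.val h).symm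
  have huniq : ∀ g : G, g * q * g⁻¹ ∈ S → g * q * g⁻¹ = q := by
    intro g hg
    obtain ⟨k, hk, hk'⟩ := S.conj_eq_normalizer_conj_of_mem_centralizer q g⁻¹
      (hinv q (e P).2 hq2) (by
        rw [inv_inv]
        exact hinv _ hg (by rw [Cfsg.Agent.Lib.Involutions.orderOf_conj_eq, hq2]))
    rw [inv_inv] at hk'
    rw [hk']
    have hkS : ∀ x : G, x ∈ (S : Subgroup G) ↔ k * x * k⁻¹ ∈ (S : Subgroup G) :=
      fun x => Subgroup.mem_normalizer_iff.1 hk x
    let ψ : ↥(S : Subgroup G) ≃* ↥(S : Subgroup G) :=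
      { toFun := fun x => ⟨k⁻¹ * x * k, (hkS _).2 (by simp [mul_assoc])⟩
        invFun := fun x => ⟨k * x * k⁻¹, (hkS _).1 x.2⟩
        left_inv := fun x => Subtype.ext (by simp [mul_assoc])
        right_inv := fun x => Subtype.ext (by simp [mul_assoc])
        map_mul' := fun x y => Subtype.ext (by simp [mul_assoc]) }
    have h := congrArg e (hPfix ((e.trans ψ).trans e.symm))
    simp only [MulEquiv.trans_apply, MulEquiv.apply_symm_apply] at h
    exact congrArg Subtype.val h
  have h := Cfsg.Agent.Lib.InvChar.inZStar_of_unique_conj S q (e P).2 huniq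
  have hne : q ≠ 1 := Cfsg.Agent.Lib.Involutions.invol_ne_one hq2
  have hnc : Subgroup.center G = ⊥ := by
    refine (Subgroup.center G).normal_of_characteristic.eq_bot_or_eq_top.resolve_right fun ht => ?_
    refine Cfsg.Agent.Lib.InvChar.QFactor.not_central (n := n) hn fun u v => ?_
    have h1 := Subgroup.mem_center_iff.1
      (ht ▸ Subgroup.mem_top ((eQ.symm u : ↥Q) : G) : ((eQ.symm u : ↥Q) : G) ∈ Subgroup.center G)
      (eQ.symm v : G)
    exact eQ.symm.injective (by rw [map_mul, map_mul]; exact Subtype.ext h1.symm)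
  have hO : Cfsg.oddCore G = ⊥ := by
    haveI := Cfsg.Agent.Lib.Cores.pPrimeCore_characteristic 2 G
    refine (Cfsg.pPrimeCore 2 G).normal_of_characteristic.eq_bot_or_eq_top.resolve_right fun ht => ?_
    have ho := Cfsg.Agent.Lib.Cores.odd_card_oddCore G
    rw [show Cfsg.oddCore G = ⊤ from ht, Subgroup.card_top] at ho
    exact Nat.not_even_iff_odd.2 ho (even_iff_two_dvd.2 (hq2 ▸ orderOf_dvd_natCard q))
  have hc : q ∈ Subgroup.center G := Subgroup.mem_center_iff.2 fun g => by
    have h1 := h g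
    rw [hO, Subgroup.mem_bot, mul_inv_eq_one, mul_inv_eq_iff_eq_mul] at h1
    exact h1
  rw [hnc, Subgroup.mem_bot] at hc
  exact hne hc

end Cfsg.Agent.S3269
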