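import Mathlib
import Cfsg.Statements.S3276


set_option autoImplicit false
open Cfsg

namespace Cfsg.Agent.S3276

theorem exists_commuting_involution {G : Type*} [Group G] [Finite G] {a b : G}
    (ha : orderOf a = 2) (hb : orderOf b = 2) (hab : ¬ IsConj a b) :
    ∃ u : G, orderOf u = 2 ∧ Commute u a ∧ Commute u b := by
  have haa : a * a = 1 := by rw [← pow_two, ← ha]; exact pow_orderOf_eq_one a
  have hbb : b * b = 1 := by rw [← pow_two, ← hb]; exact pow_orderOf_eq_one b
  have hai : a⁻¹ = a := inv_eq_of_mul_eq_one_left haa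
  have hbi : b⁻¹ = b := inv_eq_of_mul_eq_one_left hbb
  have hinv : (a * b)⁻¹ = b * a := by rw [mul_inv_rev, hai, hbi]
  have hA : ∀ k : ℕ, a * (a * b) ^ k * a⁻¹ = ((a * b) ^ k)⁻¹ := by
    intro k
    rw [← conj_pow, ← inv_pow]
    congr 1
    rw [hinv, hai]
    calc a * (a * b) * a = (a * a) * b * a := by group
      _ = b * a := by rw [haa, one_mul]
  have hB : ∀ k : ℕ, b * (a * b) ^ k * b⁻¹ = ((a * b) ^ k)⁻¹ := by
    intro k
    rw [← conj_pow, ← inv_pow]
    congr 1
    rw [hinv, hbi]
    calc b * (a * b) * b = b * a * (b * b) := by group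
      _ = b * a := by rw [hbb, mul_one]
  rcases Nat.even_or_odd (orderOf (a * b)) with ⟨k, hk⟩ | ⟨k, hk⟩
  · have hk0 : k ≠ 0 := by
      intro h0; subst h0
      exact absurd hk (by simp [(orderOf_pos (a * b)).ne'])
    refine ⟨(a * b) ^ k, ?_, ?_, ?_⟩
    · apply orderOf_eq_prime
      · rw [← pow_mul, mul_two, ← hk]; exact pow_orderOf_eq_one _
      · exact pow_ne_one_of_lt_orderOf hk0 (by omega)
    all_goals
      have hsq : ((a * b) ^ k)⁻¹ = (a * b) ^ k := inv_eq_of_mul_eq_one_left (by
        rw [← pow_add, ← hk]; exact pow_orderOf_eq_one _)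
    · have h := hA k
      rw [hsq] at h
      show (a * b) ^ k * a = a * (a * b) ^ k
      nth_rw 1 [← h]; group
    · have h := hB k
      rw [hsq] at h
      show (a * b) ^ k * b = b * (a * b) ^ k
      nth_rw 1 [← h]; group
  · exfalso
    apply hab
    refine isConj_iff.mpr ⟨(a * b) ^ k, ?_⟩
    have h := hA k
    have h1 : (a * b) ^ (2 * k + 1) = 1 := by rw [← hk]; exact pow_orderOf_eq_one _
    have h2 : (a * b) ^ k * a = a * ((a * b) ^ k)⁻¹ := by
      rw [← h, ← mul_assoc, ← mul_assoc, haa, hai]; simp [mul_assoc]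
    calc (a * b) ^ k * a * ((a * b) ^ k)⁻¹ = a * (((a * b) ^ k)⁻¹ * ((a * b) ^ k)⁻¹) := by
          rw [h2, mul_assoc]
      _ = a * (a * b) := by
          congr 1
          rw [← mul_inv_rev, ← pow_add]
          refine inv_eq_of_mul_eq_one_right ?_
          rw [← pow_succ, show k + k + 1 = 2 * k + 1 by ring, h1]
      _ = b := by rw [← mul_assoc, haa, one_mul]

/-- Let x and y be commuting, non-conjugate involutions of a finite group G, and suppose that for every involution u commuting with x, each conjugate of y that commutes with u also commutes with y. Then the normal closure of y is a proper, normal, elementary abelian 2-subgroup of G; and if y is the only involution of that normal closure commuting with x, it has order at most 4. -/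
theorem result {G : Type*} [Group G] [Finite G] (x y : G) (hx : orderOf x = 2) (hy : orderOf y = 2)
    (hxy : Commute x y) (hnc : ¬ IsConj x y)
    (hstar : ∀ u : G, orderOf u = 2 → Commute u x → ∀ g : G, Commute (g * y * g⁻¹) u → Commute (g * y * g⁻¹) y) :
    Subgroup.normalClosure ({y} : Set G) ≠ ⊤ ∧ Cfsg.IsElementaryAbelian 2 (Subgroup.normalClosure ({y} : Set G)) ∧
      ((∀ u ∈ Subgroup.normalClosure ({y} : Set G), orderOf u = 2 → Commute u x → u = y) →
        Nat.card ↥(Subgroup.normalClosure ({y} : Set G)) ≤ 4) := by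
  have := Fact.mk Nat.prime_two
  have hx1 : x ≠ 1 := fun h => by simp [h] at hx
  have hy1 : y ≠ 1 := fun h => by simp [h] at hy
  have hxx : x * x = 1 := by rw [← pow_two, ← hx]; exact pow_orderOf_eq_one x
  have hcomm : ∀ g : G, Commute (g * y * g⁻¹) y := by
    intro g
    obtain ⟨u, hu, hux, huy⟩ : ∃ u : G, orderOf u = 2 ∧ Commute u x ∧ Commute u (g * y * g⁻¹) := by
      apply exists_commuting_involution hx
      · rw [← hy]; exact (MulAut.conj g).orderOf_eq y
      · intro hc
        exact hnc (hc.trans (isConj_iff.mpr ⟨g, rfl⟩).symm)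
    exact hstar u hu hux g huy.symm
  have hall : ∀ a b : G, a ∈ Group.conjugatesOfSet ({y} : Set G) → b ∈ Group.conjugatesOfSet ({y} : Set G) → a * b = b * a := by
    intro a b ha hb
    rw [Group.mem_conjugatesOfSet_iff] at ha hb
    obtain ⟨a', rfl, ha⟩ := ha
    obtain ⟨b', rfl, hb⟩ := hb
    obtain ⟨g, rfl⟩ := isConj_iff.mp ha
    obtain ⟨k, rfl⟩ := isConj_iff.mp hb
    have := congrArg (fun w => k * w * k⁻¹) (hcomm (k⁻¹ * g)).eq
    simpa [mul_assoc] using this
  set N := Subgroup.normalClosure ({y} : Set G) with hN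
  have hNab : IsMulCommutative ↥N := by
    rw [hN]
    exact Subgroup.isMulCommutative_closure (fun a ha b hb => hall a b ha hb)
  have hNexp : ∀ a ∈ N, a ^ 2 = 1 := by
    intro a ha
    induction ha using Subgroup.closure_induction with
    | mem w hw =>
      rw [Group.mem_conjugatesOfSet_iff] at hw
      obtain ⟨w', rfl, hw⟩ := hw
      obtain ⟨g, rfl⟩ := isConj_iff.mp hw
      rw [conj_pow, ← hy, pow_orderOf_eq_one]; simp
    | one => simp
    | mul a b ha hb iha ihb =>
      have : a * b = b * a := congrArg Subtype.val (mul_comm' (⟨a, ha⟩ : ↥N) ⟨b, hb⟩)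
      rw [Commute.mul_pow this, iha, ihb, one_mul]
    | inv a ha iha => rw [inv_pow, iha, inv_one]
  refine ⟨?_, ⟨hNab, hNexp⟩, ?_⟩
  · intro htop
    apply hnc
    have hle : N ≤ Subgroup.zpowers y := by
      refine Subgroup.closure_le _ |>.mpr ?_
      intro w hw
      rw [Group.mem_conjugatesOfSet_iff] at hw
      obtain ⟨w', rfl, hw⟩ := hw
      obtain ⟨g, rfl⟩ := isConj_iff.mp hw
      have hg : g * w' = w' * g := congrArg Subtype.val (mul_comm'
        (⟨g, htop ▸ Subgroup.mem_top g⟩ : ↥N) ⟨w', htop ▸ Subgroup.mem_top w'⟩)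
      rw [hg]; simp
    have hx' : x ∈ Subgroup.zpowers y := hle (htop ▸ Subgroup.mem_top x)
    obtain ⟨k, rfl⟩ := Subgroup.mem_zpowers_iff.mp hx'
    rw [← zpow_mod_orderOf, hy] at hx1 ⊢
    rcases Int.emod_two_eq k with h0 | h1
    · norm_num [h0] at hx1
    · have h1' : k % ((2 : ℕ) : ℤ) = 1 := by exact_mod_cast h1
      rw [h1', zpow_one]
  · intro hu
    have := hNab
    have hNn : N.Normal := Subgroup.normalClosure_normal
    let f : ↥N →* G :=
      { toFun := fun a => x * (a : G) * x⁻¹ * (a : G)
        map_one' := by simp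
        map_mul' := fun a b => by
          have hb : x * (b : G) * x⁻¹ ∈ N := hNn.conj_mem _ b.2 x
          have : (a : G) * (x * (b : G) * x⁻¹) = x * (b : G) * x⁻¹ * (a : G) :=
            congrArg Subtype.val (mul_comm' a (⟨_, hb⟩ : ↥N))
          calc x * ((a * b : ↥N) : G) * x⁻¹ * ((a * b : ↥N) : G)
              = x * (a : G) * x⁻¹ * ((x * (b : G) * x⁻¹) * (a : G)) * b := by push_cast; group
            _ = x * (a : G) * x⁻¹ * ((a : G) * (x * (b : G) * x⁻¹)) * b := by rw [this]
            _ = _ := by group }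
    have hfix : ∀ a ∈ N, Commute a x → a = 1 ∨ a = y := by
      intro a ha hc
      by_cases h1 : a = 1
      · exact Or.inl h1
      · exact Or.inr (hu a ha (orderOf_eq_prime (hNexp a ha) h1) hc)
    have hker : Nat.card f.ker ≤ 2 := by
      have : ((f.ker.map N.subtype : Subgroup G) : Set G) ⊆ {1, y} := by
        rintro _ ⟨a, ha, rfl⟩
        change x * (a : G) * x⁻¹ * (a : G) = 1 at ha
        have haa : ((a : G))⁻¹ = a := inv_eq_of_mul_eq_one_left (by rw [← pow_two]; exact hNexp _ a.2)
        have h' : x * (a : G) * x⁻¹ = a := by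
          rw [mul_eq_one_iff_eq_inv, haa] at ha; exact ha
        exact hfix _ a.2 (show (a : G) * x = x * a by
          nth_rw 1 [← h']; group)
      rw [← Subgroup.card_map_of_injective (f := N.subtype) Subtype.coe_injective]
      calc Nat.card ↥(f.ker.map N.subtype) ≤ Nat.card ({1, y} : Set G) :=
            Nat.card_mono (Set.toFinite _) this
        _ ≤ 2 := by
          rw [Nat.card_coe_set_eq]
          exact (Set.ncard_insert_le _ _).trans (by simp)
    have hrange : Nat.card f.range ≤ 2 := by
      have : ((f.range : Subgroup G) : Set G) ⊆ {1, y} := by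
        rintro _ ⟨a, rfl⟩
        have hmem : x * (a : G) * x⁻¹ ∈ N := hNn.conj_mem _ a.2 x
        refine hfix _ (N.mul_mem hmem a.2) ?_
        have hca : x * (a : G) * x⁻¹ * a = a * (x * a * x⁻¹) :=
          congrArg Subtype.val (mul_comm' (⟨_, hmem⟩ : ↥N) a)
        have hxi : x⁻¹ = x := inv_eq_of_mul_eq_one_left hxx
        show x * (a : G) * x⁻¹ * a * x = x * (x * (a : G) * x⁻¹ * a)
        calc x * (a : G) * x⁻¹ * a * x = x * a * (x * a * x) := by rw [hxi]; group
          _ = x * (a * (x * a * x⁻¹)) := by rw [hxi]; group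
          _ = _ := by rw [← hca]
      calc Nat.card ↥f.range ≤ Nat.card ({1, y} : Set G) := Nat.card_mono (Set.toFinite _) this
        _ ≤ 2 := by
          rw [Nat.card_coe_set_eq]
          exact (Set.ncard_insert_le _ _).trans (by simp)
    have := f.ker.card_mul_index
    rw [Subgroup.index_ker] at this
    calc Nat.card ↥N = _ := this.symm
      _ ≤ 2 * 2 := Nat.mul_le_mul hker hrange
      _ = 4 := rfl

end Cfsg.Agent.S3276
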