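import Mathlib
import Cfsg.Statements.S3278
import Cfsg.Agent.Lib.InvChar.KleinCentral
import Cfsg.Agent.Lib.InvChar.CentralQuaternion
import Cfsg.Agent.Lib.Involutions.DihedralFusion
import Cfsg.Agent.S0111
import Cfsg.Agent.Lib.Characters.Ortho

set_option autoImplicit false
open Cfsg

namespace Cfsg.Agent.S3278

open scoped commutatorElement

theorem commutator_eq_bot_of_cyclic {P : Type*} [Group P] [Finite P] (hP : IsPGroup 2 P)
    (h : IsCyclic (P ⧸ commutator P)) : commutator P = ⊥ := by
  obtain ⟨c, hc⟩ := h.exists_generator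
  obtain ⟨g, rfl⟩ := QuotientGroup.mk_surjective c
  have htop : Subgroup.zpowers g = ⊤ := by
    rcases eq_top_or_exists_le_coatom (Subgroup.zpowers g) with e | ⟨M, hM, hgM⟩
    · exact e
    · exfalso
      obtain ⟨hMi, hMn⟩ : M.index = 2 ∧ M.Normal := by
        have := Cfsg.Agent.Lib.InvChar.index_coatom hP hM
        exact ⟨this, Subgroup.normal_of_index_eq_two this⟩
      haveI := hMn
      haveI : Fact (Nat.Prime 2) := ⟨Nat.prime_two⟩
      haveI : IsCyclic (P ⧸ M) := isCyclic_of_prime_card (p := 2) hMi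
      have hKM : commutator P ≤ M :=
        Subgroup.Normal.quotient_commutative_iff_commutator_le.1 inferInstance
      refine hM.1 ((Subgroup.eq_top_iff' M).2 fun y => ?_)
      obtain ⟨i, hi⟩ := Subgroup.mem_zpowers_iff.1 (hc (QuotientGroup.mk y))
      rw [← QuotientGroup.mk_zpow, QuotientGroup.eq] at hi
      have := mul_mem (Subgroup.zpow_mem M (hgM (Subgroup.mem_zpowers g)) i) (hKM hi)
      rwa [mul_inv_cancel_left] at this
  have hall : ∀ a : P, a ∈ Subgroup.zpowers g := fun a => htop ▸ Subgroup.mem_top a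
  rw [commutator_eq_bot_iff_center_eq_top, Subgroup.eq_top_iff']
  intro a
  rw [Subgroup.mem_center_iff]
  intro b
  obtain ⟨i, rfl⟩ := Subgroup.mem_zpowers_iff.1 (hall a)
  obtain ⟨j, rfl⟩ := Subgroup.mem_zpowers_iff.1 (hall b)
  rw [← zpow_add, ← zpow_add, add_comm]

theorem commutator_eq_bot_of_small {P : Type*} [Group P] [Finite P] (hP : IsPGroup 2 P)
    (h : Nat.card (P ⧸ commutator P) < 4) : commutator P = ⊥ := by
  haveI : Fact (Nat.Prime 2) := ⟨Nat.prime_two⟩
  refine commutator_eq_bot_of_cyclic hP ?_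
  obtain ⟨j, hj⟩ := (hP.to_quotient (commutator P)).exists_card_eq
  rw [hj] at h
  rcases (show j = 0 ∨ j = 1 by
    have : j < 2 := (Nat.pow_lt_pow_iff_right one_lt_two).1 (show 2 ^ j < 2 ^ 2 by omega)
    omega) with rfl | rfl
  · have : Subsingleton (P ⧸ commutator P) :=
      (Nat.card_eq_one_iff_unique.1 (by rw [hj, pow_zero])).1
    infer_instance
  · exact isCyclic_of_prime_card (p := 2) (by rw [hj, pow_one])

theorem card_centralizer_le {G : Type*} [Group G] [Finite G] (P : Sylow 2 G) (x : G) (S₀ : Subgroup G)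
    [IsKleinFour S₀]
    (h2mem : ∀ s ∈ Subgroup.centralizer ({x} : Set G), (∃ k, orderOf s = 2 ^ k) → s ∈ S₀)
    {y : (P : Subgroup G)} (hy : IsConj x (y : G)) :
    Nat.card (Subgroup.centralizer ({y} : Set (P : Subgroup G))) ≤ 4 := by
  obtain ⟨g, hg⟩ := isConj_iff.1 hy
  let f : Subgroup.centralizer ({y} : Set (P : Subgroup G)) → S₀ := fun w =>
    ⟨g⁻¹ * ((w : (P : Subgroup G)) : G) * g, by
      refine h2mem _ (Subgroup.mem_centralizer_singleton_iff.2 ?_) ?_
      · have e : ((w : (P : Subgroup G)) : G) * y = y * ((w : (P : Subgroup G)) : G) :=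
          congrArg Subtype.val (Subgroup.mem_centralizer_singleton_iff.1 w.2)
        rw [← hg] at e
        calc g⁻¹ * ((w : (P : Subgroup G)) : G) * g * x
            = g⁻¹ * (((w : (P : Subgroup G)) : G) * (g * x * g⁻¹)) * g := by group
          _ = g⁻¹ * (g * x * g⁻¹ * ((w : (P : Subgroup G)) : G)) * g := by rw [e]
          _ = _ := by group
      · haveI : Fact (Nat.Prime 2) := ⟨Nat.prime_two⟩
        obtain ⟨k, hk⟩ := IsPGroup.iff_orderOf.1 P.2 w.1
        refine ⟨k, ?_⟩
        have := orderOf_injective (MulAut.conj g⁻¹).toMonoidHom (MulAut.conj g⁻¹).injective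
          ((w : (P : Subgroup G)) : G)
        simp only [MulEquiv.toMonoidHom_eq_coe, MonoidHom.coe_coe, MulAut.conj_apply,
          inv_inv] at this
        rw [this, Subgroup.orderOf_coe, hk]⟩
  have hf : Function.Injective f := fun a b e =>
    Subtype.ext (Subtype.ext (mul_left_cancel (mul_right_cancel (congrArg Subtype.val e))))
  exact (Nat.card_le_card_of_injective f hf).trans IsKleinFour.card_four.le

/-- Let G be a finite simple group with an involution x such that a Sylow 2-subgroup of C_G(x) is a Klein four-group which is normal in C_G(x). Then G is isomorphic to the alternating group of degree 5 (that is, to PSL(2, 5)). -/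
theorem result {G : Type*} [Group G] [Finite G] [IsSimpleGroup G] (x : G) (hx : orderOf x = 2)
    (S₀ : Subgroup G) (hle : S₀ ≤ Subgroup.centralizer ({x} : Set G)) (hK : IsKleinFour ↥S₀)
    (hodd : ¬ 2 ∣ S₀.relIndex (Subgroup.centralizer ({x} : Set G))) (hn : (S₀.subgroupOf (Subgroup.centralizer ({x} : Set G))).Normal) :
    Nonempty (G ≃* ↥(alternatingGroup (Fin 5))) := by
  classical
  have : Fact (Nat.Prime 2) := ⟨Nat.prime_two⟩
  set C := Subgroup.centralizer ({x} : Set G) with hC
  have hsq : ∀ u ∈ S₀, u * u = 1 := fun u hu =>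
    congrArg Subtype.val (IsKleinFour.mul_self (G := S₀) ⟨u, hu⟩)
  have hxC : x ∈ C := Subgroup.mem_centralizer_singleton_iff.2 rfl
  -- two-elements of the centralizer lie in `S₀`
  have h2mem : ∀ s ∈ C, (∃ k, orderOf s = 2 ^ k) → s ∈ S₀ := by
    intro s hs ⟨k, hk⟩
    haveI := hn
    have hodd' : Odd (S₀.subgroupOf C).index :=
      Nat.odd_iff.2 (Nat.two_dvd_ne_zero.1 hodd)
    have e : orderOf (QuotientGroup.mk' (S₀.subgroupOf C) ⟨s, hs⟩) = 1 := by
      have h1 : orderOf (QuotientGroup.mk' (S₀.subgroupOf C) ⟨s, hs⟩) ∣ 2 ^ k := by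
        refine (orderOf_map_dvd _ _).trans ?_
        rw [Subgroup.orderOf_mk, hk]
      obtain ⟨j, -, hj⟩ := (Nat.dvd_prime_pow Nat.prime_two).1 h1
      have h2 : Odd (2 ^ j) := by
        rw [← hj]
        exact hodd'.of_dvd_nat (orderOf_dvd_natCard _)
      rcases Nat.eq_zero_or_pos j with rfl | hpos
      · rw [hj, pow_zero]
      · exact absurd h2 (by simp [Nat.even_pow, parity_simps]; omega)
    rw [orderOf_eq_one_iff, QuotientGroup.mk'_apply, QuotientGroup.eq_one_iff] at e
    exact e
  have hxS : x ∈ S₀ := h2mem x hxC ⟨1, by rw [hx, pow_one]⟩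
  have hx1 : x ≠ 1 := fun e => by rw [e, orderOf_one] at hx; norm_num at hx
  -- the centralizer centralises `S₀`
  have hcent : ∀ c, c * x = x * c → ∀ u ∈ S₀, c * u = u * c := by
    intro c hc u hu
    have hfour : ∀ a ∈ S₀, a ≠ 1 → a ≠ x → ∀ w ∈ S₀, w = 1 ∨ w = x ∨ w = a ∨ w = x * a := by
      intro a ha ha1 hax w hw
      by_contra hcon
      push Not at hcon
      obtain ⟨n1, n2, n3, n4⟩ := hcon
      have hxa1 : x * a ≠ 1 := fun e => hax (mul_left_cancel ((hsq x hxS).trans e.symm)).symm
      have hxax : x * a ≠ x := fun e => ha1 (by simpa using e)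
      have hxaa : x * a ≠ a := fun e => hx1 (by simpa using e)
      let T : Finset S₀ := {1, ⟨x, hxS⟩, ⟨a, ha⟩, ⟨x * a, mul_mem hxS ha⟩, ⟨w, hw⟩}
      have hT : T.card = 5 := by
        simp only [T]
        rw [Finset.card_insert_of_notMem, Finset.card_insert_of_notMem,
          Finset.card_insert_of_notMem, Finset.card_pair] <;>
          simp [Subtype.ext_iff, Ne.symm hx1, Ne.symm ha1, Ne.symm hxa1, Ne.symm n1, Ne.symm n2,
            Ne.symm n3, Ne.symm n4, Ne.symm hax, Ne.symm hxax, Ne.symm hxaa]
      haveI := Fintype.ofFinite S₀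
      have := T.card_le_univ
      rw [hT, ← Nat.card_eq_fintype_card, IsKleinFour.card_four] at this
      omega
    by_cases hu1 : u = 1
    · simp [hu1]
    by_cases hux : u = x
    · rw [hux]; exact hc
    have hconj : ∀ b ∈ C, ∀ w ∈ S₀, b * w * b⁻¹ ∈ S₀ := fun b hb w hw =>
      hn.conj_mem ⟨w, hle hw⟩ hw ⟨b, hb⟩
    have hcC : c ∈ C := Subgroup.mem_centralizer_singleton_iff.2 hc
    -- the two-part of `c` is central, the odd part cannot swap
    have hswap : ∀ b ∈ C, b * u * b⁻¹ = u ∨ b * u * b⁻¹ = x * u := by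
      intro b hb
      rcases hfour u hu hu1 hux _ (hconj b hb u hu) with e | e | e | e
      · exact absurd (conj_eq_one_iff.1 e) hu1
      · have : b * x * b⁻¹ = x := by
          rw [Subgroup.mem_centralizer_singleton_iff.1 hb, mul_inv_cancel_right]
        exact absurd (mul_left_cancel (mul_right_cancel (e.trans this.symm))) hux
      · exact Or.inl e
      · exact Or.inr e
    let Q : Subgroup C := (Subgroup.centralizer ({u} : Set G)).subgroupOf C
    have hQle : S₀.subgroupOf C ≤ Q := fun w hw => by
      refine Subgroup.mem_centralizer_singleton_iff.2 ?_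
      have e1 := hsq _ (mul_mem hw hu)
      have e2 := inv_eq_of_mul_eq_one_right (hsq _ hw)
      have e3 := inv_eq_of_mul_eq_one_right (hsq _ hu)
      show (w : G) * u = u * (w : G)
      change (w : G) * u * ((w : G) * u) = 1 at e1
      change (w : G)⁻¹ = (w : G) at e2
      rw [← inv_eq_of_mul_eq_one_right e1, mul_inv_rev, e2, e3]
    by_contra hne
    have hQne : (⟨c, hcC⟩ : C) ∉ Q := fun hq => hne (Subgroup.mem_centralizer_singleton_iff.1 hq)
    have hidx : Q.index = 2 := by
      rw [Subgroup.index_eq_two_iff]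
      refine ⟨⟨c, hcC⟩, fun b => ?_⟩
      have hcu : c * u * c⁻¹ = x * u :=
        (hswap c hcC).resolve_left fun e => hne (mul_inv_eq_iff_eq_mul.1 e)
      have hfix : ∀ z : C, z ∈ Q ↔ (z : G) * u * (z : G)⁻¹ = u := fun z => by
        rw [mul_inv_eq_iff_eq_mul]
        exact Subgroup.mem_centralizer_singleton_iff
      have hxu : x * (x * u) = u := by rw [← mul_assoc, hsq x hxS, one_mul]
      have hbx : (b : G) * x * (b : G)⁻¹ = x := by
        rw [Subgroup.mem_centralizer_singleton_iff.1 b.2, mul_inv_cancel_right]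
      rcases hswap b b.2 with e | e
      · refine Or.inr ⟨(hfix b).2 e, fun h' => ?_⟩
        rw [hfix] at h'
        have : (b : G) * (x * u) * (b : G)⁻¹ = u := by
          rw [← hcu]; simpa [mul_assoc] using h'
        rw [show (b : G) * (x * u) * (b : G)⁻¹ = (b : G) * x * (b : G)⁻¹ * ((b : G) * u * (b : G)⁻¹) by
          group, hbx, e] at this
        exact hx1 (mul_right_cancel (this.trans (one_mul u).symm))
      · refine Or.inl ⟨?_, fun h' => ?_⟩
        · rw [hfix]
          have : (b : G) * (x * u) * (b : G)⁻¹ = u := by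
            rw [show (b : G) * (x * u) * (b : G)⁻¹ = (b : G) * x * (b : G)⁻¹ * ((b : G) * u * (b : G)⁻¹) by
              group, hbx, e, hxu]
          rw [← hcu] at this
          simpa [mul_assoc] using this
        · rw [hfix, e] at h'
          exact hx1 (mul_right_cancel (h'.trans (one_mul u).symm))
    refine hodd ?_
    rw [← hidx]
    exact Subgroup.index_dvd_of_le hQle
  -- `S₀` is a Sylow subgroup
  have hS0p : IsPGroup 2 S₀ := IsPGroup.of_card (n := 2) (by rw [IsKleinFour.card_four]; norm_num)
  obtain ⟨P, hP⟩ := hS0p.exists_le_sylow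
  have hPC : ∀ w ∈ P, w * x = x * w → w ∈ S₀ := by
    intro w hw hwx
    refine h2mem w (Subgroup.mem_centralizer_singleton_iff.2 hwx) ?_
    obtain ⟨k, hk⟩ := IsPGroup.iff_orderOf.1 P.2 ⟨w, hw⟩
    exact ⟨k, by rw [← hk, Subgroup.orderOf_mk]⟩
  have hab : ¬ ∀ a b : G, a * b = b * a := by
    intro hall
    haveI : (Subgroup.zpowers x).Normal := ⟨fun a ha b => by
      rw [hall b a, mul_inv_cancel_right]; exact ha⟩
    rcases Subgroup.Normal.eq_bot_or_eq_top (inferInstance : (Subgroup.zpowers x).Normal) with e | e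
    · exact hx1 (Subgroup.zpowers_eq_bot.1 e)
    · have h1 := Nat.card_zpowers x
      rw [hx, e, Subgroup.card_top] at h1
      have h4 := Subgroup.card_subgroup_dvd_card S₀
      rw [IsKleinFour.card_four, h1] at h4
      norm_num at h4
  have hPeq : (P : Subgroup G) = S₀ := by
    set xP : (P : Subgroup G) := ⟨x, hP hxS⟩ with hxP
    set K := commutator (P : Subgroup G) with hKdef
    haveI : K.Normal := by rw [hKdef]; infer_instance
    by_contra hne
    have hnab : K ≠ ⊥ := by
      intro e
      refine hne (le_antisymm (fun w hw => hPC w hw ?_) hP)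
      have : ⁅(⟨w, hw⟩ : (P : Subgroup G)), xP⁆ = 1 :=
        Subgroup.mem_bot.1 (e ▸ Subgroup.commutator_mem_commutator (Subgroup.mem_top _) (Subgroup.mem_top _))
      exact congrArg Subtype.val (commutatorElement_eq_one_iff_mul_comm.1 this)
    have hKone : 1 < Nat.card K := (Subgroup.one_lt_card_iff_ne_bot K).2 hnab
    -- conjugates of `x` in `P` fill their coset
    have hfill : ∀ y : (P : Subgroup G), IsConj x (y : G) → ∀ z : (P : Subgroup G),
        z * y⁻¹ ∈ K → ∃ w : (P : Subgroup G), w * y * w⁻¹ = z := by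
      intro y hy
      have hcy := Cfsg.Agent.S3278.card_centralizer_le P x S₀ h2mem hy
      have hKi : 4 ≤ K.index := by
        by_contra hlt
        push Not at hlt
        exact hnab (Cfsg.Agent.S3278.commutator_eq_bot_of_small P.2 hlt)
      have hcard := Lib.Characters.card_conj_mul_card_centralizer y
      have hKi' := K.index_mul_card
      let T := {z : (P : Subgroup G) // IsConj y z}
      have hsub : ∀ z : T, z.1 * y⁻¹ ∈ K := fun z => by
        obtain ⟨w, hw⟩ := isConj_iff.1 z.2
        rw [← hw]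
        exact Subgroup.commutator_mem_commutator (Subgroup.mem_top w) (Subgroup.mem_top y)
      let f : T → K := fun z => ⟨z.1 * y⁻¹, hsub z⟩
      have hf : Function.Injective f := fun a b e =>
        Subtype.ext (mul_right_cancel (congrArg Subtype.val e))
      have hle1 : Nat.card K ≤ Nat.card T := by
        by_contra hlt
        push Not at hlt
        have h1 : Nat.card T * Nat.card (Subgroup.centralizer ({y} : Set (P : Subgroup G)))
            ≤ Nat.card T * 4 := Nat.mul_le_mul_left _ hcy
        have h2 : 4 * Nat.card K ≤ K.index * Nat.card K := Nat.mul_le_mul_right _ hKi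
        rw [hcard] at h1
        omega
      have hbij := Function.Surjective.comp Function.surjective_id
        ((Nat.bijective_iff_injective_and_card f).2
          ⟨hf, le_antisymm (Nat.card_le_card_of_injective f hf) hle1⟩).2
      intro z hz
      obtain ⟨t, ht⟩ := hbij ⟨_, hz⟩
      have : t.1 = z := mul_right_cancel (congrArg Subtype.val ht)
      exact this ▸ isConj_iff.1 t.2
    have hconjx : ∀ y : (P : Subgroup G), IsConj x (y : G) → y ∉ K ∧ ∀ z, z * y⁻¹ ∈ K → IsConj x (z : G) := by
      intro y hy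
      refine ⟨fun hyK => ?_, fun z hz => ?_⟩
      · obtain ⟨w, hw⟩ := hfill y hy 1 (by rw [one_mul]; exact inv_mem hyK)
        have : y = 1 := conj_eq_one_iff.1 hw
        rw [this, OneMemClass.coe_one] at hy
        exact hx1 (isConj_one_left.1 hy)
      · obtain ⟨w, hw⟩ := hfill y hy z hz
        refine hy.trans (isConj_iff.2 ⟨(w : G), ?_⟩)
        exact congrArg Subtype.val hw
    have hsq' : ∀ y : (P : Subgroup G), IsConj x (y : G) → y * y = 1 := by
      intro y hy
      obtain ⟨g, hg⟩ := isConj_iff.1 hy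
      apply Subtype.ext
      rw [Subgroup.coe_mul, ← hg, show g * x * g⁻¹ * (g * x * g⁻¹) = g * (x * x) * g⁻¹ by group,
        hsq x hxS, mul_one, mul_inv_cancel]
      rfl
    -- transfer
    have htrans : ∀ (Q : Subgroup (P : Subgroup G)) (y : (P : Subgroup G)), Q.index = 2 →
        IsConj x (y : G) → y ∉ Q → ∃ z ∈ Q, IsConj x (z : G) := by
      intro Q y hQ hy hyQ
      have hyo : orderOf (y : G) = 2 := by
        obtain ⟨g, hg⟩ := isConj_iff.1 hy
        rw [← hg, Lib.Involutions.orderOf_conj_eq, hx]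
      rcases Cfsg.Agent.S0111.result P (Q.map (P : Subgroup G).subtype) (Subgroup.map_subtype_le Q)
        (by rw [Subgroup.relIndex, Subgroup.subgroupOf, Subgroup.comap_map_eq_self_of_injective
              (P : Subgroup G).subtype_injective]; exact hQ)
        (y : G) hyo y.2 (fun ⟨q, hq, e⟩ => hyQ ((P : Subgroup G).subtype_injective e ▸ hq)) with
        ⟨M, hMn, hMi, -⟩ | ⟨g, q, hq, hqe⟩
      · rcases Subgroup.Normal.eq_bot_or_eq_top hMn with e | e
        · have hcard := M.index_mul_card
          rw [hMi, e, Subgroup.card_bot, mul_one] at hcard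
          have h4 := Subgroup.card_subgroup_dvd_card S₀
          rw [IsKleinFour.card_four, ← hcard] at h4
          norm_num at h4
        · rw [e, Subgroup.index_top] at hMi; norm_num at hMi
      · exact ⟨q, hq, hy.trans (isConj_iff.2 ⟨g, hqe.symm⟩)⟩
    have hQ : ∀ w : (P : Subgroup G), w ∉ K → w * w ∈ K →
        ∃ Q : Subgroup (P : Subgroup G), ∀ z, z ∈ Q ↔ (z ∈ K ∨ z * w⁻¹ ∈ K) := by
      intro w hw hw2
      refine ⟨Subgroup.comap (QuotientGroup.mk' K) (Subgroup.zpowers (QuotientGroup.mk' K w)), fun z => ?_⟩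
      have hord : orderOf (QuotientGroup.mk' K w) = 2 := orderOf_eq_prime
        (by rw [pow_two, ← map_mul]; exact (QuotientGroup.eq_one_iff _).2 hw2)
        (fun e => hw ((QuotientGroup.eq_one_iff _).1 e))
      rw [Subgroup.mem_comap, mem_zpowers_iff_mem_range_orderOf, hord]
      simp only [Finset.mem_image, Finset.mem_range]
      constructor
      · rintro ⟨i, hi, e⟩
        rcases (show i = 0 ∨ i = 1 by omega) with rfl | rfl
        · left; rw [pow_zero] at e; exact (QuotientGroup.eq_one_iff _).1 e.symm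
        · right
          rw [pow_one] at e
          refine (QuotientGroup.eq_one_iff _).1 ?_
          show QuotientGroup.mk' K (z * w⁻¹) = 1
          rw [map_mul, map_inv, e, mul_inv_cancel]
      · rintro (hz | hz)
        · exact ⟨0, two_pos, by rw [pow_zero]; exact ((QuotientGroup.eq_one_iff _).2 hz).symm⟩
        · refine ⟨1, one_lt_two, ?_⟩
          rw [pow_one]
          have e : QuotientGroup.mk' K (z * w⁻¹) = 1 := (QuotientGroup.eq_one_iff _).2 hz
          rw [map_mul, map_inv, mul_inv_eq_one] at e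
          exact e.symm
    have hcoset : Nat.card ((P : Subgroup G) ⧸ K) = 4 := by
      have h1 : ∀ y : (P : Subgroup G), IsConj x (y : G) → Nat.card K * 4 ≥ Nat.card (P : Subgroup G) := by
        intro y hy
        have hcard := Lib.Characters.card_conj_mul_card_centralizer y
        have hcl : Nat.card {z : (P : Subgroup G) // IsConj y z} ≤ Nat.card K := by
          refine Nat.card_le_card_of_injective (fun z => (⟨z.1 * y⁻¹, ?_⟩ : K))
            (fun a b e => Subtype.ext (mul_right_cancel (congrArg Subtype.val e)))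
          obtain ⟨w, hw⟩ := isConj_iff.1 z.2
          rw [← hw]
          exact Subgroup.commutator_mem_commutator (Subgroup.mem_top w) (Subgroup.mem_top y)
        have hcy : Nat.card (Subgroup.centralizer ({y} : Set (P : Subgroup G))) ≤ 4 := by
          have hy' := hy
          exact Cfsg.Agent.S3278.card_centralizer_le P x S₀ h2mem hy'
        rw [← hcard]
        exact Nat.mul_le_mul hcl hcy
      have hx4 := h1 xP (IsConj.refl x)
      rw [← K.index_mul_card, mul_comm] at hx4
      have hle4 : K.index ≤ 4 := Nat.le_of_mul_le_mul_right hx4 Nat.card_pos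
      obtain ⟨j, hj⟩ := (P.2.to_quotient K).exists_card_eq
      rw [Subgroup.index] at hle4
      by_contra hne4
      have : Nat.card ((P : Subgroup G) ⧸ K) < 4 := lt_of_le_of_ne hle4 hne4
      refine hnab (Cfsg.Agent.S3278.commutator_eq_bot_of_small P.2 this)
    have hQi : ∀ (Q : Subgroup (P : Subgroup G)) (w : (P : Subgroup G)), w ∉ K → w * w ∈ K →
        (∀ z, z ∈ Q ↔ (z ∈ K ∨ z * w⁻¹ ∈ K)) → Q.index = 2 := by
      intro Q w hw hw2 hQw
      have hKQ : K ≤ Q := fun z hz => (hQw z).2 (Or.inl hz)
      have h2 : K.relIndex Q = 2 := by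
        rw [Subgroup.relIndex, Subgroup.index_eq_two_iff]
        have hwQ : w ∈ Q := (hQw w).2 (Or.inr (by rw [mul_inv_cancel]; exact one_mem K))
        refine ⟨⟨w, hwQ⟩, fun b => ?_⟩
        simp only [Subgroup.mem_subgroupOf, Subgroup.coe_mul]
        rcases (hQw b).1 b.2 with hb | hb
        · exact Or.inr ⟨hb, fun h' => hw ((Subgroup.mul_mem_cancel_left K hb).1 h')⟩
        · refine Or.inl ⟨?_, fun h' => ?_⟩
          · rw [show (b : (P : Subgroup G)) * w = (b * w⁻¹) * (w * w) by group]
            exact mul_mem hb hw2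
          · exact hw ((Subgroup.inv_mem_iff K).1 ((Subgroup.mul_mem_cancel_left K h').1 hb))
      have := Subgroup.relIndex_mul_index hKQ
      rw [h2] at this
      have h4 : K.index = 4 := hcoset
      omega
    have hK4 : ∀ w : (P : Subgroup G), w * w ∈ K := by
      by_contra hcon
      push Not at hcon
      obtain ⟨w, hw⟩ := hcon
      refine hnab (Cfsg.Agent.S3278.commutator_eq_bot_of_cyclic P.2 ?_)
      refine isCyclic_of_orderOf_eq_card (QuotientGroup.mk' K w) ?_
      rw [hcoset]
      have hd : orderOf (QuotientGroup.mk' K w) ∣ 2 ^ 2 := by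
        rw [show 2 ^ 2 = 4 from rfl, ← hcoset]; exact orderOf_dvd_natCard _
      obtain ⟨j, hj, hje⟩ := (Nat.dvd_prime_pow Nat.prime_two).1 hd
      rw [hje]
      by_contra h4
      have hj1 : j ≤ 1 := by
        by_contra h'
        obtain rfl : j = 2 := by omega
        norm_num at h4
      refine hw ((QuotientGroup.eq_one_iff _).1 ?_)
      show QuotientGroup.mk' K (w * w) = 1
      rw [map_mul, ← pow_two]
      exact orderOf_dvd_iff_pow_eq_one.1 (hje ▸ (Nat.pow_dvd_pow 2 hj1).trans (by norm_num))
    have hxconj : IsConj x ((xP : (P : Subgroup G)) : G) := IsConj.refl x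
    have hxK := (hconjx xP hxconj).1
    obtain ⟨w, hwK, hwx⟩ : ∃ w, w ∉ K ∧ w * xP⁻¹ ∉ K := by
      by_contra hcon
      push Not at hcon
      obtain ⟨Q, hQ'⟩ := hQ xP hxK (hK4 _)
      have h2 := hQi Q xP hxK (hK4 _) hQ'
      have : Q = ⊤ := (Subgroup.eq_top_iff' Q).2 fun z => (hQ' z).2 (or_iff_not_imp_left.2 (hcon z))
      rw [this, Subgroup.index_top] at h2
      norm_num at h2
    -- all three nontrivial cosets consist of conjugates of `x`
    have hall : ∀ a : (P : Subgroup G), a ∉ K → a * xP⁻¹ ∉ K → IsConj x (a : G) := by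
      intro a haK hax
      obtain ⟨Q, hQ'⟩ := hQ a haK (hK4 _)
      have hxQ : xP ∉ Q := fun hq => by
        rcases (hQ' xP).1 hq with h' | h'
        · exact hxK h'
        · refine hax ?_
          have := inv_mem h'
          rwa [mul_inv_rev, inv_inv] at this
      obtain ⟨z, hz, hzc⟩ := htrans Q xP (hQi Q a haK (hK4 _) hQ') hxconj hxQ
      rcases (hQ' z).1 hz with h' | h'
      · exact absurd h' (hconjx z hzc).1
      · refine (hconjx z hzc).2 a ?_
        have := inv_mem h'
        rwa [mul_inv_rev, inv_inv] at this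
    have hout : ∀ a : (P : Subgroup G), a ∉ K → IsConj x (a : G) := fun a ha => by
      by_cases hax : a * xP⁻¹ ∈ K
      · exact (hconjx xP hxconj).2 a hax
      · exact hall a ha hax
    have hxx := hsq' xP hxconj
    have hww := hsq' w (hout w hwK)
    have hinvK : ∀ a : (P : Subgroup G), a ∉ K → ∀ k ∈ K, a * k * a⁻¹ = k⁻¹ := by
      intro a ha k hk
      have e1 := hsq' a (hout a ha)
      have hak : a * k ∉ K := fun h' => ha ((Subgroup.mul_mem_cancel_right K hk).1 h')
      have e2 := hsq' _ (hout _ hak)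
      rw [inv_eq_of_mul_eq_one_right e1]
      refine (inv_eq_of_mul_eq_one_left ?_).symm
      rw [← e2]; group
    have hxcomm : ∀ k ∈ K, k * xP = xP * k := by
      intro k hk
      have hwxK : w * xP ∉ K := by
        intro h'
        refine hwx ?_
        rwa [inv_eq_of_mul_eq_one_right hxx]
      have h1 := hinvK _ hwxK k hk
      have h2 := hinvK _ hwK k⁻¹ (inv_mem hk)
      have h3 := hinvK _ hxK k hk
      rw [inv_inv] at h2
      have : k⁻¹ = k := by
        rw [← h1, show w * xP * k * (w * xP)⁻¹ = w * (xP * k * xP⁻¹) * w⁻¹ by group, h3, h2]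
      rw [this] at h3
      exact (mul_inv_eq_iff_eq_mul.1 h3).symm
    -- hence `K ∪ {x}` lies in `S₀`, so `K` has order two
    have hK2 : Nat.card K ≤ 2 := by
      haveI := Fintype.ofFinite K
      haveI := Fintype.ofFinite S₀
      let f : K ⊕ K → S₀ := Sum.elim
        (fun k => ⟨((k : (P : Subgroup G)) : G), hPC _ (k : (P : Subgroup G)).2
          (congrArg Subtype.val (hxcomm _ k.2))⟩)
        (fun k => ⟨((k : (P : Subgroup G)) : G) * x, mul_mem (hPC _ (k : (P : Subgroup G)).2
          (congrArg Subtype.val (hxcomm _ k.2))) hxS⟩)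
      have hf : Function.Injective f := by
        rintro (a | a) (b | b) e <;>
          simp only [f, Sum.elim_inl, Sum.elim_inr, Subtype.mk.injEq] at e
        · rw [Subtype.ext (Subtype.ext e) (a1 := a) (a2 := b)]
        · exfalso
          have e' : (a : (P : Subgroup G)) = (b : (P : Subgroup G)) * xP := Subtype.ext e
          exact hxK ((Subgroup.mul_mem_cancel_left K b.2).1 (e' ▸ a.2))
        · exfalso
          have e' : (b : (P : Subgroup G)) = (a : (P : Subgroup G)) * xP := Subtype.ext e.symm
          exact hxK ((Subgroup.mul_mem_cancel_left K a.2).1 (e' ▸ b.2))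
        · rw [Subtype.ext (Subtype.ext (mul_right_cancel e)) (a1 := a) (a2 := b)]
      have := Nat.card_le_card_of_injective f hf
      rw [Nat.card_sum, IsKleinFour.card_four (G := S₀)] at this
      omega
    -- then every element of `P` squares to one
    have hP8 : ∀ a : (P : Subgroup G), a * a = 1 := by
      intro a
      by_cases ha : a ∈ K
      · have : (⟨a, ha⟩ : K) ^ 2 = 1 := by
          have h2 : Nat.card K = 2 := by omega
          have e := pow_card_eq_one' (x := (⟨a, ha⟩ : K))
          rw [h2] at e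
          exact e
        rw [pow_two] at this
        exact congrArg Subtype.val this
      · exact hsq' a (hout a ha)
    refine hnab ?_
    rw [hKdef, commutator_eq_bot_iff_center_eq_top, Subgroup.eq_top_iff']
    intro a
    rw [Subgroup.mem_center_iff]
    intro b
    have e := hP8 (a * b)
    rw [← inv_eq_of_mul_eq_one_right e, mul_inv_rev, inv_eq_of_mul_eq_one_right (hP8 a),
      inv_eq_of_mul_eq_one_right (hP8 b)]
  -- the involutions of `P` are fused
  have hPK : IsKleinFour (P : Subgroup G) := hPeq ▸ hK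
  have hnV : ¬ (P : Subgroup G).Normal := by
    intro hN
    rcases Subgroup.Normal.eq_bot_or_eq_top hN with e | e
    · exact hx1 (Subgroup.mem_bot.1 (e ▸ hP hxS))
    · refine hab fun a b => ?_
      have ha : a ∈ S₀ := hPeq ▸ e ▸ Subgroup.mem_top a
      have hb : b ∈ S₀ := hPeq ▸ e ▸ Subgroup.mem_top b
      rw [← inv_eq_of_mul_eq_one_right (hsq _ (mul_mem ha hb)), mul_inv_rev,
        inv_eq_of_mul_eq_one_right (hsq a ha), inv_eq_of_mul_eq_one_right (hsq b hb)]
  have hfus : ∀ u ∈ (P : Subgroup G), u ≠ 1 → IsConj x u := by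
    intro u hu hu1
    by_cases hNC : Subgroup.normalizer ((P : Subgroup G) : Set G)
        ≤ Subgroup.centralizer ((P : Subgroup G) : Set G)
    · exfalso
      have hc := MonoidHom.ker_transferSylow_isComplement' P hNC
      rcases Subgroup.Normal.eq_bot_or_eq_top
        (inferInstance : (MonoidHom.transferSylow P hNC).ker.Normal) with e | e
      · rw [e, Subgroup.isComplement'_bot_left] at hc
        exact hnV (hc ▸ inferInstance)
      · rw [e, Subgroup.isComplement'_top_left] at hc
        exact hx1 (Subgroup.mem_bot.1 (hc ▸ hP hxS))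
    obtain ⟨g, hgN, hgC⟩ := SetLike.not_le_iff_exists.1 hNC
    obtain ⟨k, hk⟩ := Nat.exists_eq_pow_mul_and_not_dvd (orderOf_pos g).ne' 2 (by norm_num)
    obtain ⟨m, hm1, hm⟩ := hk
    set h := g ^ (2 ^ k) with hh
    have hho : orderOf h = m := by
      rw [hh, orderOf_pow, hm, Nat.gcd_eq_right (dvd_mul_right _ _), Nat.mul_div_cancel_left _ (by positivity)]
    have hhN : h ∈ Subgroup.normalizer ((P : Subgroup G) : Set G) := pow_mem hgN _
    have hhC : h ∉ Subgroup.centralizer ((P : Subgroup G) : Set G) := by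
      intro hcon
      refine hgC ?_
      have hs : g ^ m ∈ (P : Subgroup G) := by
        have hp : IsPGroup 2 (Subgroup.zpowers (g ^ m)) := by
          refine IsPGroup.of_card (n := k) ?_
          rw [Nat.card_zpowers, orderOf_pow, hm, Nat.gcd_eq_right (dvd_mul_left _ _),
            Nat.mul_div_cancel]
          exact Nat.pos_of_ne_zero (fun e => hm1 (e ▸ dvd_zero 2))
        have := hp.inf_normalizer_sylow P
        rw [← Sylow.coe_coe] at this
        have h2 : g ^ m ∈ Subgroup.zpowers (g ^ m) ⊓ Subgroup.normalizer ((P : Subgroup G) : Set G) :=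
          ⟨Subgroup.mem_zpowers _, pow_mem hgN _⟩
        rw [this] at h2
        exact h2.2
      have hsC : g ^ m ∈ Subgroup.centralizer ((P : Subgroup G) : Set G) := by
        intro w hw
        have hwS : w ∈ S₀ := hPeq ▸ hw
        have hmS : g ^ m ∈ S₀ := hPeq ▸ hs
        rw [← inv_eq_of_mul_eq_one_right (hsq _ (mul_mem hwS hmS)), mul_inv_rev,
          inv_eq_of_mul_eq_one_right (hsq _ hwS), inv_eq_of_mul_eq_one_right (hsq _ hmS)]
      obtain ⟨a, b, hab'⟩ := Int.isCoprime_iff_gcd_eq_one.2 (show Int.gcd ((2 ^ k : ℕ) : ℤ) (m : ℤ) = 1 by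
        rw [Int.gcd_natCast_natCast]
        exact Nat.Coprime.pow_left k ((Nat.Prime.coprime_iff_not_dvd Nat.prime_two).2 hm1))
      have : g = (g ^ (2 ^ k)) ^ a * (g ^ m) ^ b := by
        rw [← zpow_natCast, ← zpow_natCast, ← zpow_mul, ← zpow_mul, ← zpow_add, mul_comm _ a,
          mul_comm _ b, hab', zpow_one]
      rw [this]
      exact mul_mem (Subgroup.zpow_mem _ hcon a) (Subgroup.zpow_mem _ hsC b)
    let ψ : Subgroup.normalizer ((P : Subgroup G) : Set G) →* Equiv.Perm (P : Subgroup G) :=
      MonoidHom.comp ⟨⟨MulEquiv.toEquiv, rfl⟩, fun _ _ => rfl⟩ (P : Subgroup G).normalizerMonoidHom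
    have h3 : h ^ 3 ∈ Subgroup.centralizer ((P : Subgroup G) : Set G) := by
      have hd1 : orderOf (ψ ⟨h, hhN⟩) ∣ m := by
        refine (orderOf_map_dvd ψ _).trans ?_
        rw [Subgroup.orderOf_mk, hho]
      have hd2 : orderOf (ψ ⟨h, hhN⟩) ∣ 3 * 2 ^ 3 := by
        refine orderOf_dvd_natCard _ |>.trans ?_
        rw [Nat.card_perm, hPK.card_four]; rfl
      have hd3 : orderOf (ψ ⟨h, hhN⟩) ∣ 3 := by
        refine (Nat.Coprime.pow_right 3 ?_).dvd_of_dvd_mul_right hd2
        exact Nat.Coprime.coprime_dvd_left hd1 (((Nat.Prime.coprime_iff_not_dvd Nat.prime_two).2 hm1).symm)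
      have h1 : ψ (⟨h, hhN⟩ ^ 3) = 1 := by rw [map_pow]; exact orderOf_dvd_iff_pow_eq_one.1 hd3
      intro w hw
      have := congrArg (fun e : Equiv.Perm (P : Subgroup G) => ((e ⟨w, hw⟩ : (P : Subgroup G)) : G)) h1
      change h ^ 3 * w * (h ^ 3)⁻¹ = w at this
      exact (mul_inv_eq_iff_eq_mul.1 this).symm
    exact Lib.Involutions.klein_all_conj hPK hhN hhC h3 (hP hxS) hx1 hu hu1
  have hdata : Lib.InvChar.KleinData P x :=
    ⟨⟨hPK, hx, hP hxS, hfus⟩, fun c hc u hu => hcent c hc u (hPeq ▸ hu)⟩
  refine hdata.nonempty_mulEquiv hnV fun K hKn hodd hKc => ?_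
  rcases Subgroup.Normal.eq_bot_or_eq_top hKn with e | e
  · exact e
  · exfalso
    rw [e, Subgroup.card_top, Nat.odd_iff] at hodd
    have h4 := Subgroup.card_subgroup_dvd_card S₀
    rw [IsKleinFour.card_four] at h4
    omega

end Cfsg.Agent.S3278
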