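import Mathlib
import Cfsg.Statements.S3279
import Cfsg.Agent.Lib.InvChar.ZStarCentral
import Cfsg.Agent.Lib.Involutions.BaerSuzuki

set_option autoImplicit false
open Cfsg

namespace Cfsg.Agent.S3279


open Cfsg.Agent.Lib.Involutions

private lemma center_trivial {G : Type*} [Group G] [IsSimpleGroup G]
    (hnc : ¬ ∀ a b : G, a * b = b * a) : Subgroup.center G = ⊥ :=
  ((Subgroup.center G).normal_of_characteristic.eq_bot_or_eq_top).resolve_right fun ht =>
    hnc fun a b => Subgroup.mem_center_iff.1 (ht ▸ Subgroup.mem_top b : b ∈ Subgroup.center G) a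

private lemma exists_conj_ne {G : Type*} [Group G] [Finite G] [IsSimpleGroup G]
    (hnc : ¬ ∀ a b : G, a * b = b * a) (S : Sylow 2 G) {q : G} (hq : q ∈ S) (hq2 : orderOf q = 2) :
    ∃ g : G, g * q * g⁻¹ ∈ S ∧ g * q * g⁻¹ ≠ q := by
  by_contra hne
  push Not at hne
  have h := Cfsg.Agent.Lib.InvChar.inZStar_of_unique_conj S q hq hne
  have hO : Cfsg.oddCore G = ⊥ := by
    have hn : (Cfsg.oddCore G).Normal := by
      haveI := Cfsg.Agent.Lib.Cores.pPrimeCore_characteristic 2 G
      exact (Cfsg.pPrimeCore 2 G).normal_of_characteristic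
    refine hn.eq_bot_or_eq_top.resolve_right fun ht => ?_
    have ho := Cfsg.Agent.Lib.Cores.odd_card_oddCore G
    rw [ht, Subgroup.card_top] at ho
    have he : 2 ∣ Nat.card G := hq2 ▸ orderOf_dvd_natCard q
    exact Nat.not_even_iff_odd.2 ho (even_iff_two_dvd.2 he)
  have hc : q ∈ Subgroup.center G := Subgroup.mem_center_iff.2 fun g => by
    have h1 := h g
    rw [hO, Subgroup.mem_bot, mul_inv_eq_one, mul_inv_eq_iff_eq_mul] at h1
    exact h1
  rw [center_trivial hnc, Subgroup.mem_bot] at hc
  exact invol_ne_one hq2 hc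

/-- Let G be a finite simple group and x an involution of G whose centralizer contains at most three involutions. Then C_G(x) contains a Sylow 2-subgroup of G, and all involutions of G are conjugate. -/
theorem result {G : Type*} [Group G] [Finite G] [IsSimpleGroup G] (x : G) (hx : orderOf x = 2)
    (h3 : Nat.card {u : ↥(Subgroup.centralizer ({x} : Set G)) // orderOf u = 2} ≤ 3) :
    (∃ S : Sylow 2 G, (S : Subgroup G) ≤ Subgroup.centralizer ({x} : Set G)) ∧
      ∀ u v : G, orderOf u = 2 → orderOf v = 2 → IsConj u v := by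
  classical
  have : Fact (Nat.Prime 2) := ⟨Nat.prime_two⟩
  by_cases hnc : ∀ a b : G, a * b = b * a
  · have hC : ∀ u : G, u ∈ Subgroup.centralizer ({x} : Set G) := fun u => by
      rw [Subgroup.mem_centralizer_singleton_iff]; exact hnc _ _
    have hn : (Subgroup.zpowers x).Normal := ⟨fun a ha g => by
      rwa [hnc g a, mul_inv_cancel_right]⟩
    have htop : Subgroup.zpowers x = ⊤ := hn.eq_bot_or_eq_top.resolve_left fun hb =>
      invol_ne_one hx (Subgroup.zpowers_eq_bot.1 hb)
    have huniq : ∀ u : G, orderOf u = 2 → u = x := by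
      intro u hu
      obtain ⟨k, rfl⟩ := Subgroup.mem_zpowers_iff.1 (htop ▸ Subgroup.mem_top u)
      rcases Int.even_or_odd k with ⟨j, rfl⟩ | ⟨j, rfl⟩
      · exfalso
        rw [zpow_add, ← (Commute.refl x).mul_zpow, invol_mul_self hx, one_zpow, orderOf_one] at hu
        omega
      · rw [two_mul, zpow_add_one, zpow_add, ← (Commute.refl x).mul_zpow, invol_mul_self hx,
          one_zpow, one_mul]
    exact ⟨⟨Classical.arbitrary _, fun u _ => hC u⟩,
      fun u v hu hv => by rw [huniq u hu, huniq v hv]⟩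
  -- the set of involutions commuting with `x` has at most three elements
  have hI : ∀ a b c d : G, orderOf a = 2 → orderOf b = 2 → orderOf c = 2 → orderOf d = 2 →
      Commute a x → Commute b x → Commute c x → Commute d x →
      a = b ∨ a = c ∨ a = d ∨ b = c ∨ b = d ∨ c = d := by
    intro a b c d ha hb hc hd ca cb cc cd
    by_contra hne
    push Not at hne
    obtain ⟨hab, hac, had, hbc, hbd, hcd⟩ := hne
    let mk : ∀ u : G, orderOf u = 2 → Commute u x →
        {u : ↥(Subgroup.centralizer ({x} : Set G)) // orderOf u = 2} := fun u hu cu =>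
      ⟨⟨u, Subgroup.mem_centralizer_singleton_iff.2 cu⟩, by rw [Subgroup.orderOf_mk]; exact hu⟩
    let f : Fin 4 → {u : ↥(Subgroup.centralizer ({x} : Set G)) // orderOf u = 2} :=
      ![mk a ha ca, mk b hb cb, mk c hc cc, mk d hd cd]
    have hf : Function.Injective f := by
      intro i j hij
      fin_cases i <;> fin_cases j <;>
        simp [f, mk, hab, hab.symm, hac, hac.symm, had, had.symm, hbc, hbc.symm, hbd, hbd.symm,
          hcd, hcd.symm] at hij ⊢
    have := Nat.card_le_card_of_injective f hf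
    rw [Nat.card_fin] at this
    omega
  have hzp : IsPGroup 2 ↥(Subgroup.zpowers x) := IsPGroup.of_card (n := 1) (by
    rw [Nat.card_zpowers, hx, pow_one])
  obtain ⟨P, hP⟩ := hzp.exists_le_sylow
  have hxP : x ∈ P := hP (Subgroup.mem_zpowers x)
  -- Part 1
  have part1 : ∃ S : Sylow 2 G, x ∈ S ∧ (S : Subgroup G) ≤ Subgroup.centralizer ({x} : Set G) := by
    by_contra hno
    have hPC : ¬ (P : Subgroup G) ≤ Subgroup.centralizer ({x} : Set G) := fun h => hno ⟨P, hxP, h⟩
    -- a central involution of `P`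
    haveI : Nontrivial ↥(P : Subgroup G) :=
      ⟨⟨⟨x, hxP⟩, 1, fun h => invol_ne_one hx (congrArg Subtype.val h)⟩⟩
    haveI := P.2.center_nontrivial
    obtain ⟨z', hz'⟩ := exists_prime_orderOf_dvd_card' (G := Subgroup.center ↥(P : Subgroup G)) 2
      ((P.2.to_subgroup _).card_eq_or_dvd.resolve_left Finite.one_lt_card.ne')
    set z : G := ((z' : ↥(P : Subgroup G)) : G) with hzdef
    have hz : orderOf z = 2 := by rw [hzdef, Subgroup.orderOf_coe, Subgroup.orderOf_coe, hz']
    have hzP : z ∈ P := (z' : ↥(P : Subgroup G)).2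
    have hzc : ∀ s ∈ P, Commute s z := fun s hs =>
      congrArg Subtype.val (Subgroup.mem_center_iff.1 z'.2 ⟨s, hs⟩)
    have hzx : Commute z x := (hzc x hxP).symm
    have hne : z ≠ x := fun h => hPC fun s hs =>
      Subgroup.mem_centralizer_singleton_iff.2 (h ▸ hzc s hs)
    have hxz : orderOf (x * z) = 2 := orderOf_eq_two_of_mul_self (by
      rw [hzx.mul_mul_mul_comm, invol_mul_self hx, invol_mul_self hz, one_mul])
      fun h => hne (by rw [mul_eq_one_iff_eq_inv, invol_inv hz] at h; exact h.symm)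
    have hxzx : Commute (x * z) x := (Commute.refl x).mul_left hzx
    have hIset : ∀ u : G, orderOf u = 2 → Commute u x → u = x ∨ u = z ∨ u = x * z := by
      intro u hu cu
      rcases hI u x z (x * z) hu hx hz hxz cu (Commute.refl x) hzx hxzx with
        h | h | h | h | h | h
      · exact Or.inl h
      · exact Or.inr (Or.inl h)
      · exact Or.inr (Or.inr h)
      · exact absurd h.symm hne
      · exact absurd (left_eq_mul.1 h) (invol_ne_one hz)
      · exact absurd (right_eq_mul.1 h) (invol_ne_one hx)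
    -- `x` is conjugate to `xz`
    have hlt : (P : Subgroup G) ⊓ Subgroup.centralizer ({x} : Set G) < P :=
      lt_of_le_of_ne inf_le_left fun h => hPC (h ▸ inf_le_right)
    obtain ⟨M1, hM1, hM1P, hM1N⟩ := exists_gt_le_normalizer P.2 hlt
    obtain ⟨n, hn1, hn2⟩ := SetLike.exists_of_lt hM1
    have hnP : n ∈ P := hM1P hn1
    have hnx : ¬ Commute n x := fun h => hn2 ⟨hnP, Subgroup.mem_centralizer_singleton_iff.2 h⟩
    have hxR : x ∈ (P : Subgroup G) ⊓ Subgroup.centralizer ({x} : Set G) :=
      ⟨hxP, Subgroup.mem_centralizer_singleton_iff.2 (Commute.refl x)⟩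
    have hn' := (Subgroup.mem_normalizer_iff.1 (hM1N hn1) x).1 hxR
    have hnxz : n * x * n⁻¹ = x * z := by
      rcases hIset (n * x * n⁻¹) (by rw [orderOf_conj_eq, hx])
        (Subgroup.mem_centralizer_singleton_iff.1 hn'.2) with h | h | h
      · exact absurd (mul_inv_eq_iff_eq_mul.1 h) hnx
      · refine absurd ?_ hne
        have h1 : x = n⁻¹ * z * n := by rw [← h]; group
        rw [h1, (hzc n hnP).symm.inv_right.eq.symm, inv_mul_cancel_right]
      · exact h
    have hxz_conj : IsConj x (x * z) := isConj_iff.2 ⟨n, hnxz⟩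
    have hnot : ¬ IsConj x z := by
      intro h
      obtain ⟨g, hg⟩ := isConj_iff.1 h
      refine hno ⟨g⁻¹ • P, ?_, ?_⟩
      · show x ∈ ((g⁻¹ • P : Sylow 2 G) : Subgroup G)
        have : x = g⁻¹ * z * g := by rw [← hg]; group
        rw [this, Sylow.coe_subgroup_smul]
        exact Subgroup.mem_pointwise_smul_iff_inv_smul_mem.2 (by simpa [mul_assoc] using (show z ∈ (P : Subgroup G) from hzP))
      · intro s hs
        rw [Sylow.coe_subgroup_smul] at hs
        have hs' : g * s * g⁻¹ ∈ (P : Subgroup G) := by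
          simpa using Subgroup.mem_pointwise_smul_iff_inv_smul_mem.1 hs
        have hc := hzc _ hs'
        rw [← hg] at hc
        rw [Subgroup.mem_centralizer_singleton_iff]
        have := hc.map (MulAut.conj g⁻¹).toMonoidHom
        simpa [mul_assoc] using this.eq
    have hcomm : ∀ y : G, IsConj z y → Commute y z := by
      intro y hy
      have hy2 : orderOf y = 2 := by
        obtain ⟨g, rfl⟩ := isConj_iff.1 hy
        rw [orderOf_conj_eq, hz]
      have hxy : ¬ IsConj x y := fun h => hnot (h.trans hy.symm)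
      have key : ∀ u : G, u = x ∨ u = z ∨ u = x * z → IsConj u y → u = z := by
        rintro u (rfl | rfl | rfl) hu
        · exact absurd hu hxy
        · rfl
        · exact absurd (hxz_conj.trans hu) hxy
      obtain ⟨w, hw, hwx, hwy⟩ := exists_invol_commute hx hy2 hxy
      rcases hIset w hw hwx with rfl | rfl | rfl
      · have := key y (hIset y hy2 hwy.symm) (IsConj.refl y)
        exact this ▸ Commute.refl y
      · exact hwy.symm
      · have hc : Commute (n⁻¹ * y * n) x := by
          have := hwy.symm.map (MulAut.conj n⁻¹).toMonoidHom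
          rw [← hnxz] at this
          simpa [mul_assoc] using this
        have h1 : n⁻¹ * y * n = z := key _
          (hIset _ (by rw [← hy2]; simpa using orderOf_conj_eq n⁻¹ y) hc)
          (isConj_iff.2 ⟨n, by group⟩)
        have : y = z := by
          have h2 : y = n * z * n⁻¹ := by rw [← h1]; group
          rw [h2, (hzc n hnP).eq, mul_inv_cancel_right]
        exact this ▸ Commute.refl y
    let D : Set G := {y | IsConj z y}
    have hD : (Subgroup.centralizer D).Normal := ⟨fun a ha g => by
      rw [Subgroup.mem_centralizer_iff] at ha ⊢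
      intro h hh
      have h1 := ha (g⁻¹ * h * g) (hh.trans (isConj_iff.2 ⟨g⁻¹, by group⟩))
      have h2 := congrArg (fun t => g * t * g⁻¹) h1
      simpa [mul_assoc] using h2⟩
    have hzD : z ∈ Subgroup.centralizer D := Subgroup.mem_centralizer_iff.2 fun h hh => hcomm h hh
    rcases hD.eq_bot_or_eq_top with hb | ht
    · exact invol_ne_one hz (Subgroup.mem_bot.1 (hb ▸ hzD))
    · have hc : z ∈ Subgroup.center G := Subgroup.mem_center_iff.2 fun g =>
        ((Subgroup.mem_centralizer_iff.1 (ht ▸ Subgroup.mem_top g : g ∈ Subgroup.centralizer D))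
          z (IsConj.refl z)).symm
      rw [center_trivial hnc, Subgroup.mem_bot] at hc
      exact invol_ne_one hz hc
  obtain ⟨S, hxS, hS⟩ := part1
  refine ⟨⟨S, hS⟩, ?_⟩
  have hcomS : ∀ s : G, s ∈ S → Commute s x := fun s hs =>
    Subgroup.mem_centralizer_singleton_iff.1 (hS hs)
  have hSx : ∀ u : G, u ∈ S → orderOf u = 2 → IsConj x u := by
    intro u hu hu2
    by_contra hnu
    obtain ⟨g, hg, hgne⟩ := exists_conj_ne hnc S hu hu2
    obtain ⟨k, hk, hkne⟩ := exists_conj_ne hnc S hxS hx
    have c1 : ∀ b : G, IsConj x b → b ≠ u ∧ b ≠ g * u * g⁻¹ := fun b hb =>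
      ⟨fun h => hnu (h ▸ hb), fun h => hnu ((h ▸ hb).trans (isConj_iff.2 ⟨g, rfl⟩).symm)⟩
    have cx := c1 x (IsConj.refl x)
    have ck := c1 (k * x * k⁻¹) (isConj_iff.2 ⟨k, rfl⟩)
    rcases hI u (g * u * g⁻¹) x (k * x * k⁻¹) hu2 (by rw [orderOf_conj_eq, hu2]) hx
      (by rw [orderOf_conj_eq, hx]) (hcomS _ hu) (hcomS _ hg) (Commute.refl x) (hcomS _ hk) with
      h | h | h | h | h | h
    · exact hgne h.symm
    · exact cx.1 h.symm
    · exact ck.1 h.symm
    · exact cx.2 h.symm
    · exact ck.2 h.symm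
    · exact hkne h.symm
  have hall : ∀ u : G, orderOf u = 2 → IsConj x u := by
    intro u hu
    obtain ⟨Q, hQ⟩ := (IsPGroup.of_card (G := Subgroup.zpowers u) (p := 2) (n := 1)
      (by rw [Nat.card_zpowers, hu, pow_one])).exists_le_sylow
    obtain ⟨g, hg⟩ := MulAction.exists_smul_eq G Q S
    have hmem : g * u * g⁻¹ ∈ S := by
      rw [← hg]
      refine Subgroup.mem_pointwise_smul_iff_inv_smul_mem.2 ?_
      simpa [mul_assoc] using hQ (Subgroup.mem_zpowers u)
    exact (hSx _ hmem (by rw [orderOf_conj_eq, hu])).trans (isConj_iff.2 ⟨g, rfl⟩).symm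
  exact fun u v hu hv => (hall u hu).symm.trans (hall v hv)

end Cfsg.Agent.S3279
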