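import Mathlib
import Cfsg.Statements.S3294
import Cfsg.Agent.Lib.InvChar.OddElems
import Cfsg.Agent.Lib.InvChar.Basic
import Cfsg.Agent.Lib.OddLocal.PStable
import Cfsg.Agent.Lib.Components.PComponent

set_option autoImplicit false
open Cfsg

namespace Cfsg.Agent.S3294

open Cfsg.Agent.Lib.InvChar in
/-- An element of odd order normalising a cyclic `2`-group centralises it. -/
theorem commute_of_cyclic {G : Type*} [Group G] [Finite G] {C : Subgroup G} (hC : IsPGroup 2 ↥C) [IsCyclic ↥C] {f : G}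
    (hf : Odd (orderOf f)) (hfC : f ∈ Subgroup.normalizer (C : Set G)) : ∀ x ∈ C, f * x = x * f := by
  have : Fact (Nat.Prime 2) := ⟨Nat.prime_two⟩
  let φ : ↥(Subgroup.normalizer (C : Set G)) →* MulAut ↥C := C.normalizerMonoidHom
  have hcard : ∃ k, Nat.card (MulAut ↥C) = 2 ^ k := by
    obtain ⟨k, hk⟩ := hC.exists_card_eq
    rw [IsCyclic.card_mulAut, hk]
    rcases k with _ | k
    · exact ⟨0, by simp⟩
    · exact ⟨k, by rw [Nat.totient_prime_pow_succ Nat.prime_two]; simp⟩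
  obtain ⟨k, hk⟩ := hcard
  have h1 : orderOf (φ ⟨f, hfC⟩) = 1 := by
    refine Nat.eq_one_of_dvd_coprimes ((Nat.coprime_two_right.mpr hf).pow_right k)
      ((orderOf_map_dvd φ _).trans (by rw [Subgroup.orderOf_mk])) (hk ▸ orderOf_dvd_natCard _)
  intro x hx
  have h2 : φ ⟨f, hfC⟩ ⟨x, hx⟩ = ⟨x, hx⟩ := by rw [orderOf_eq_one_iff.mp h1]; rfl
  have h3 : f * x * f⁻¹ = x := congrArg Subtype.val h2
  exact mul_inv_eq_iff_eq_mul.mp h3

/-- An element of odd order normalising a `2`-group and centralising a subgroup of index at most two centralises it. -/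
theorem commute_of_index_two {G : Type*} [Group G] [Finite G] {F : Subgroup G} (hF : IsPGroup 2 ↥F) {D : Subgroup G}
    (hD : ∀ x ∈ F, ∀ y ∈ F, x ∉ D → y ∉ D → x⁻¹ * y ∈ D) {f : G} (hf : Odd (orderOf f))
    (hfF : ∀ x ∈ F, f * x * f⁻¹ ∈ F) (hfD : ∀ x ∈ D, f * x = x * f) : ∀ x ∈ F, f * x = x * f := by
  intro x hx
  by_cases hxD : x ∈ D
  · exact hfD x hxD
  have hy : f * x * f⁻¹ ∉ D := fun h => hxD (by
    have h1 := hfD _ h
    have h2 : x = f * x * f⁻¹ := by
      calc x = f⁻¹ * (f * x * f⁻¹) * f := by group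
        _ = f * x * f⁻¹ := by rw [mul_assoc, ← h1, inv_mul_cancel_left]
    rwa [h2])
  set d := x⁻¹ * (f * x * f⁻¹) with hd
  have hdF : d ∈ F := mul_mem (inv_mem hx) (hfF x hx)
  have hdf := hfD d (hD x hx _ (hfF x hx) hxD hy)
  have hxd : f * x * f⁻¹ = x * d := by rw [hd, mul_inv_cancel_left]
  have hpow : ∀ n : ℕ, f ^ n * x * (f ^ n)⁻¹ = x * d ^ n := by
    intro n
    induction n with
    | zero => simp
    | succ n ih =>
      calc f ^ (n + 1) * x * (f ^ (n + 1))⁻¹ = f * (f ^ n * x * (f ^ n)⁻¹) * f⁻¹ := by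
            rw [pow_succ']; simp only [mul_inv_rev, mul_assoc]
        _ = f * (x * d ^ n) * f⁻¹ := by rw [ih]
        _ = (f * x * f⁻¹) * (f * d ^ n * f⁻¹) := by group
        _ = (f * x * f⁻¹) * d ^ n := by rw [((show Commute f d from hdf).pow_right n).eq, mul_inv_cancel_right]
        _ = x * d ^ (n + 1) := by rw [hxd, pow_succ', mul_assoc]
  have hn := hpow (orderOf f)
  rw [pow_orderOf_eq_one, one_mul, inv_one, mul_one, left_eq_mul] at hn
  have hd1 := Cfsg.Agent.Lib.InvChar.eq_one_of_isPGroup_of_odd hF hdF (hf.of_dvd_nat (orderOf_dvd_of_pow_eq_one hn))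
  rw [hd1, mul_one] at hxd
  exact mul_inv_eq_iff_eq_mul.mp hxd

/-- A finite solvable group whose Sylow 2-subgroups are generalized quaternion of order at least 32 has a normal 2-complement. -/
theorem result {G : Type*} [Group G] [Finite G] (hsol : Group.IsSolvable G) (T : Sylow 2 G) (n : ℕ) (hn : 3 ≤ n) (hT : Nonempty ((T : Subgroup G) ≃* QuaternionGroup (2 ^ n))) : Cfsg.HasNormalPComplement 2 G := by
  have : Fact (Nat.Prime 2) := ⟨Nat.prime_two⟩
  obtain ⟨e⟩ := hT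
  set W := Cfsg.pPrimeCore 2 G with hW
  set q := QuotientGroup.mk' W with hq
  rw [Cfsg.Agent.Lib.Cores.hasNormalPComplement_iff_pPrimeCore]
  have hsolQ : Group.IsSolvable (G ⧸ W) := inferInstance
  set F := Cfsg.pCore 2 (G ⧸ W) with hF
  have hFp : IsPGroup 2 ↥F := Cfsg.Agent.Lib.Cores.pCore_isPGroup _ _
  have hFn : F.Normal := inferInstance
  have hCF : Subgroup.centralizer (F : Set (G ⧸ W)) ≤ F :=
    Cfsg.Agent.Lib.OddLocal.centralizer_pCore_le (Cfsg.Agent.Lib.Components.pPrimeCore_quotient_eq_bot 2)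
  set T' : Sylow 2 (G ⧸ W) := T.mapSurjective (QuotientGroup.mk'_surjective W) with hT'
  have hFT : F ≤ (T' : Subgroup (G ⧸ W)) := by
    obtain ⟨P, hP⟩ := hFp.exists_le_sylow
    obtain ⟨g, hg⟩ := MulAction.exists_smul_eq (G ⧸ W) P T'
    intro x hx
    rw [← hg, Sylow.coe_subgroup_smul]
    exact ⟨g⁻¹ * x * g, hP (by have h := hFn.conj_mem x hx g⁻¹; rwa [inv_inv] at h), by simp; group⟩
  let ψ : ↥(T : Subgroup G) →* G ⧸ W := q.comp (T : Subgroup G).subtype
  have hψ : Function.Injective ψ := by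
    rw [injective_iff_map_eq_one]
    intro x hx
    obtain ⟨k, hk⟩ := IsPGroup.iff_orderOf.mp T.2 x
    have h1 : orderOf x ∣ Nat.card ↥W := by
      rw [← Subgroup.orderOf_coe]
      exact Subgroup.orderOf_dvd_natCard _ ((QuotientGroup.eq_one_iff _).mp hx)
    exact orderOf_eq_one_iff.mp (Nat.eq_one_of_dvd_coprimes
      ((Cfsg.Agent.Lib.Components.pPrimeCore_coprime (G := G) 2).pow_right k).symm (hk ▸ dvd_rfl) h1)
  let Φ : QuaternionGroup (2 ^ n) →* G ⧸ W := ψ.comp e.symm.toMonoidHom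
  have hΦ : Function.Injective Φ := hψ.comp e.symm.injective
  have hmemT : ∀ x ∈ (T' : Subgroup (G ⧸ W)), ∃ v, Φ v = x := by
    intro x hx
    rw [hT', Sylow.coe_mapSurjective] at hx
    obtain ⟨t, ht, rfl⟩ := hx
    exact ⟨e ⟨t, ht⟩, by simp [Φ, ψ, hq]⟩
  have : NeZero (2 ^ n) := ⟨by positivity⟩
  set c := Φ (QuaternionGroup.a 1) with hc
  have hco : orderOf c = 2 * 2 ^ n := by rw [hc, orderOf_injective Φ hΦ, QuaternionGroup.orderOf_a_one]
  have hcmem : ∀ i : ZMod (2 * 2 ^ n), Φ (QuaternionGroup.a i) ∈ Subgroup.zpowers c := by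
    intro i
    rw [hc, ← MonoidHom.map_zpowers]
    refine Subgroup.mem_map_of_mem _ ?_
    refine Subgroup.mem_zpowers_iff.mpr ⟨((i.val : ℕ) : ℤ), ?_⟩
    rw [zpow_natCast, QuaternionGroup.a_one_pow, ZMod.natCast_zmod_val]
  set D := Subgroup.zpowers c ⊓ F with hD
  have hDc : IsCyclic ↥D := Subgroup.isCyclic_of_le inf_le_left
  have hDp : IsPGroup 2 ↥D := hFp.to_le inf_le_right
  have key : ∀ f : G ⧸ W, Odd (orderOf f) → ∀ x ∈ F, f * x = x * f := by
    intro f hf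
    have hfF : ∀ x ∈ F, f * x * f⁻¹ ∈ F := fun x hx => hFn.conj_mem x hx f
    by_cases hsub : ∀ x ∈ F, x ∈ Subgroup.zpowers c
    · have hFc : IsCyclic ↥F := Subgroup.isCyclic_of_le hsub
      exact commute_of_cyclic hFp hf ((Subgroup.normalizer_eq_top F).ge trivial)
    simp only [not_forall] at hsub
    obtain ⟨y, hy, hyc⟩ := hsub
    -- the square of `c` lies in `F`
    have hcT : c ∈ (T' : Subgroup (G ⧸ W)) := by
      rw [hT', Sylow.coe_mapSurjective]
      exact ⟨_, (e.symm (QuaternionGroup.a 1)).2, rfl⟩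
    obtain ⟨v, hv⟩ := hmemT y (hFT hy)
    rcases v with i | i
    · exact absurd (hv ▸ hcmem i) hyc
    have h2F : c ^ 2 ∈ F := by
      have h1 : y⁻¹ * (c * y * c⁻¹) ∈ F := mul_mem (inv_mem hy) (hFn.conj_mem y hy c)
      have h2 : (QuaternionGroup.xa i : QuaternionGroup (2 ^ n))⁻¹ *
          (QuaternionGroup.a 1 * QuaternionGroup.xa i * (QuaternionGroup.a 1)⁻¹) = ((QuaternionGroup.a 1) ^ 2)⁻¹ := by
        rw [inv_mul_eq_iff_eq_mul, mul_inv_eq_iff_eq_mul, eq_comm, pow_two, mul_inv_rev, mul_assoc, mul_assoc,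
          inv_mul_cancel, mul_one]
        rw [mul_inv_eq_iff_eq_mul]
        simp only [QuaternionGroup.xa_mul_a, QuaternionGroup.a_mul_xa]
        congr 1
        ring
      have h3 : y⁻¹ * (c * y * c⁻¹) = (c ^ 2)⁻¹ := by
        rw [← hv, hc, ← map_inv, ← map_inv, ← map_mul, ← map_mul, ← map_mul, h2, map_inv, map_pow]
      rw [h3] at h1
      exact inv_mem_iff.mp h1
    have hc2o : 8 ≤ orderOf (c ^ 2) := by
      rw [orderOf_pow, hco, Nat.gcd_eq_right (dvd_mul_right _ _), Nat.mul_div_cancel_left _ two_pos]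
      exact (show 2 ^ 3 ≤ 2 ^ n from Nat.pow_le_pow_right (by norm_num) hn)
    -- `f` normalises `D`
    have hbig : ∀ x ∈ F, 8 ≤ orderOf x → x ∈ Subgroup.zpowers c := by
      intro x hx h8
      obtain ⟨v, hv⟩ := hmemT x (hFT hx)
      rcases v with j | j
      · exact hv ▸ hcmem j
      · rw [← hv, orderOf_injective Φ hΦ, QuaternionGroup.orderOf_xa] at h8
        omega
    have hidx : ∀ x ∈ F, ∀ w ∈ F, x ∉ D → w ∉ D → x⁻¹ * w ∈ D := by
      intro x hx w hw hxD hwD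
      refine Subgroup.mem_inf.mpr ⟨?_, mul_mem (inv_mem hx) hw⟩
      obtain ⟨v, hv⟩ := hmemT x (hFT hx)
      obtain ⟨v', hv'⟩ := hmemT w (hFT hw)
      rcases v with j | j
      · exact absurd ⟨hv ▸ hcmem j, hx⟩ hxD
      rcases v' with l | l
      · exact absurd ⟨hv' ▸ hcmem l, hw⟩ hwD
      rw [← hv, ← hv', ← map_inv, ← map_mul]
      exact hcmem _
    obtain ⟨d, hd⟩ := hDc.exists_generator
    have hd8 : 8 ≤ orderOf (d : G ⧸ W) := by
      refine hc2o.trans ?_
      rw [Subgroup.orderOf_coe, orderOf_eq_card_of_forall_mem_zpowers hd]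
      refine Nat.le_of_dvd Nat.card_pos ?_
      exact Subgroup.orderOf_dvd_natCard D ⟨pow_mem (Subgroup.mem_zpowers c) 2, h2F⟩
    have hfD : ∀ x ∈ D, f * x * f⁻¹ ∈ D := by
      intro x hx
      obtain ⟨k, hk⟩ := Subgroup.mem_zpowers_iff.mp (hd ⟨x, hx⟩)
      have hk' : (d : G ⧸ W) ^ k = x := by rw [← Subgroup.coe_zpow, hk]
      rw [← hk', ← conj_zpow]
      refine zpow_mem (Subgroup.mem_inf.mpr ⟨hbig _ (hfF _ d.2.2) ?_, hfF _ d.2.2⟩) k
      exact hd8.trans_eq (orderOf_injective (MulAut.conj f).toMonoidHom (MulAut.conj f).injective _).symm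
    have hnD : f ∈ Subgroup.normalizer (D : Set (G ⧸ W)) := by
      rw [← Cfsg.Agent.Lib.InvChar.map_conj_eq_iff_mem_normalizer]
      refine Subgroup.eq_of_le_of_card_ge ?_ (Cfsg.Agent.Lib.InvChar.card_map_conj D f).ge
      rintro _ ⟨x, hx, rfl⟩
      exact hfD x hx
    exact commute_of_index_two hFp hidx hf hfF (commute_of_cyclic hDp hf hnD)
  intro g
  obtain ⟨k, m, hm, hkm⟩ := Nat.exists_eq_two_pow_mul_odd (orderOf_pos g).ne'
  refine ⟨k, ?_⟩
  have ho : orderOf (g ^ (2 ^ k)) = m := by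
    rw [orderOf_pow, hkm, Nat.gcd_mul_right_left, Nat.mul_div_cancel_left _ (Nat.two_pow_pos k)]
  have hmem : g ^ (2 ^ k) ∈ F := hCF (Subgroup.mem_centralizer_iff.mpr fun x hx => (key _ (ho.symm ▸ hm) x hx).symm)
  exact Cfsg.Agent.Lib.InvChar.eq_one_of_isPGroup_of_odd hFp hmem (ho.symm ▸ hm)

end Cfsg.Agent.S3294
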