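import Mathlib
import Cfsg.Statements.S3299
import Cfsg.Agent.Lib.InvChar.LargeExtraTransfer

set_option autoImplicit false
open Cfsg

namespace Cfsg.Agent.S3299

open Lib.InvChar

universe u

lemma pCore_normal' {G : Type u} [Group G] (p : ℕ) : (Cfsg.pCore p G).Normal := by
  unfold Cfsg.pCore
  exact Subgroup.sSup_normal _ (fun N hN => hN.1)

/-- Let G be a finite group with no nontrivial 2-group quotient (O^2(G) = G), z an involution of G with H = C_G(z), and suppose E = O_2(H) is extraspecial with C_G(E) ≤ E and of order 2^(2n+1) with n ≥ 2. Then E is contained in every normal subgroup of H of index 2. -/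
theorem result {G : Type*} [Group G] [Finite G] (hres : Cfsg.pResidual 2 G = ⊤) (z : G) (hz : orderOf z = 2)
    (E : Subgroup G) (hE : E = (Cfsg.pCore 2 ↥(Subgroup.centralizer ({z} : Set G))).map (Subgroup.centralizer ({z} : Set G)).subtype)
    (hext : Cfsg.IsExtraspecial 2 ↥E) (hcent : Subgroup.centralizer (E : Set G) ≤ E) (n : ℕ) (hn : 2 ≤ n) (hcard : Nat.card ↥E = 2 ^ (2 * n + 1))
    (K : Subgroup G) (hKH : K ≤ Subgroup.centralizer ({z} : Set G))
    (hKn : ∀ h ∈ Subgroup.centralizer ({z} : Set G), K.map (MulAut.conj h).toMonoidHom = K)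
    (hKi : K.relIndex (Subgroup.centralizer ({z} : Set G)) = 2) : E ≤ K := by
  classical
  have hzH : z ∈ Subgroup.centralizer ({z} : Set G) := Subgroup.mem_centralizer_singleton_iff.2 rfl
  have hEH : E ≤ Subgroup.centralizer ({z} : Set G) := hE ▸ Subgroup.map_subtype_le _
  have hzc : ∀ b ∈ E, b * z = z * b := fun b hb => by
    have h := Subgroup.mem_centralizer_singleton_iff.1 (hEH hb)
    exact h
  have hzE : z ∈ E := hcent (Subgroup.mem_centralizer_iff.2 fun b hb => hzc b hb)
  have D := ExtraData.of_isExtraspecial hext hz hzE hzc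
  have hnorm : ∀ h ∈ Subgroup.centralizer ({z} : Set G), ∀ b ∈ E, h * b * h⁻¹ ∈ E := by
    intro h hh b hb
    rw [hE] at hb ⊢
    obtain ⟨q, hq, rfl⟩ := hb
    exact ⟨⟨h, hh⟩ * q * ⟨h, hh⟩⁻¹, (pCore_normal' 2).conj_mem q hq _, rfl⟩
  have hidx : (K.subgroupOf (Subgroup.centralizer ({z} : Set G))).index = 2 := hKi
  set K' := K.subgroupOf (Subgroup.centralizer ({z} : Set G)) with hK'
  let μ : ↥(Subgroup.centralizer ({z} : Set G)) →* Multiplicative (ZMod 2) :=
    { toFun := fun h => if h ∈ K' then 1 else Multiplicative.ofAdd 1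
      map_one' := by simp [K'.one_mem]
      map_mul' := fun p q => by
        have hiff := Subgroup.mul_mem_iff_of_index_two hidx (a := p) (b := q)
        have h11 : Multiplicative.ofAdd (1 : ZMod 2) * Multiplicative.ofAdd 1 = 1 := by decide
        by_cases hp : p ∈ K' <;> by_cases hq : q ∈ K' <;> simp [hp, hq, hiff, h11] }
  have hcard32 : 32 ≤ Nat.card ↥E := by
    rw [hcard]
    calc 32 = 2 ^ 5 := rfl
      _ ≤ _ := Nat.pow_le_pow_right (by norm_num) (by omega)
  have hP : IsPGroup 2 ↥E := IsPGroup.of_card hcard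
  intro x hx
  have h := map_eq_one_of_large_extraspecial hres z E D rfl hEH hnorm hcent hcard32 hP
    (Multiplicative.ofAdd (1 : ZMod 2)) (by decide) (by decide) μ
    (fun h => by by_cases hh : h ∈ K' <;> simp [μ, hh]) x hx
  by_contra hxK
  have : (⟨x, hEH hx⟩ : ↥(Subgroup.centralizer ({z} : Set G))) ∉ K' := fun hh => hxK hh
  simp [μ, this] at h

end Cfsg.Agent.S3299
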