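import Cfsg.Statements.S3303
import Cfsg.Agent.Lib.Cores.PCore
import Cfsg.Agent.Lib.OddLocal.PStable

set_option autoImplicit false
open Cfsg

namespace Cfsg.Agent.S3303

/-- Let G be a finite solvable group in which the intersection of any two distinct Sylow 2-subgroups is cyclic. Then G/O(G) has a normal Sylow 2-subgroup, where O(G) is the largest normal subgroup of odd order. -/
theorem result {G : Type*} [Group G] [Finite G] (hs : Group.IsSolvable G)
    (hC : ∀ S T : Sylow 2 G, S ≠ T → IsCyclic ↥((S : Subgroup G) ⊓ (T : Subgroup G))) :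
    ∃ P : Sylow 2 (G ⧸ Cfsg.oddCore G), (P : Subgroup (G ⧸ Cfsg.oddCore G)).Normal := by
  classical
  set O := Cfsg.oddCore G with hO
  set f := QuotientGroup.mk' O with hf
  have hsurj : Function.Surjective f := QuotientGroup.mk'_surjective O
  have : Group.IsSolvable G := hs
  have : Group.IsSolvable (G ⧸ O) := inferInstance
  have hcore : Cfsg.pPrimeCore 2 (G ⧸ O) = ⊥ := Cfsg.Agent.Lib.Cores.pPrimeCore_quotient_pPrimeCore 2 G
  by_cases huniq : ∀ P1 P2 : Sylow 2 (G ⧸ O), P1 = P2
  · have : Subsingleton (Sylow 2 (G ⧸ O)) := ⟨huniq⟩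
    exact ⟨default, Sylow.normal_of_subsingleton _⟩
  push_neg at huniq
  obtain ⟨P1, P2, hne⟩ := huniq
  set Q := Cfsg.pCore 2 (G ⧸ O) with hQ
  have hQn : Q.Normal := by rw [hQ]; infer_instance
  set J : Subgroup G := Q.comap f with hJ
  obtain ⟨R0⟩ : Nonempty (Sylow 2 ↥J) := inferInstance
  set R : Subgroup G := (R0 : Subgroup ↥J).map J.subtype with hR
  set N : Subgroup G := Subgroup.normalizer (R : Set G) with hN
  have hJn : J.Normal := hQn.comap f
  have htop : N ⊔ J = ⊤ := Sylow.normalizer_sup_eq_top R0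
  -- `R` covers `Q`
  have hRQ : R.map f = Q := by
    have h1 : R.map f = (R0 : Subgroup ↥J).map (f.comp J.subtype) := by rw [hR, Subgroup.map_map]
    have h2 : Function.Surjective (f.subgroupComap Q) :=
      MonoidHom.subgroupComap_surjective_of_surjective f Q hsurj
    have h3 : (R0.mapSurjective h2 : Subgroup ↥Q) = ⊤ :=
      ((R0.mapSurjective h2).3 (((Cfsg.Agent.Lib.Cores.pCore_isPGroup 2 (G ⧸ O))).to_subgroup ⊤)
        le_top).symm
    rw [Sylow.coe_mapSurjective] at h3
    have h4 : ((R0 : Subgroup ↥J).map (f.subgroupComap Q)).map Q.subtype = Q := by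
      rw [h3, ← MonoidHom.range_eq_map, Subgroup.range_subtype]
    rw [h1]
    conv_rhs => rw [← h4, Subgroup.map_map]
    rfl
  -- `N` maps onto the quotient
  have hNs : Function.Surjective (f.comp N.subtype) := by
    rw [← MonoidHom.range_eq_top, MonoidHom.range_comp, Subgroup.range_subtype]
    refine top_le_iff.mp ?_
    rw [← Subgroup.map_top_of_surjective f hsurj, ← htop, Subgroup.map_sup]
    refine sup_le le_rfl ?_
    rw [hJ, Subgroup.map_comap_eq_self_of_surjective hsurj, ← hRQ]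
    exact Subgroup.map_mono Subgroup.le_normalizer
  have hR2 : IsPGroup 2 R := R0.2.map _
  have lift : ∀ P : Sylow 2 (G ⧸ O), ∃ S : Sylow 2 G, (S : Subgroup G).map f = P ∧ R ≤ S := by
    intro P
    obtain ⟨S', hS'⟩ := Sylow.mapSurjective_surjective hNs 2 P
    have hRS : R.subgroupOf N ≤ S' := by
      have : (R.subgroupOf N).Normal := Subgroup.normal_in_normalizer
      have hp : IsPGroup 2 ↥(R.subgroupOf N) :=
        hR2.of_equiv (Subgroup.subgroupOfEquivOfLe Subgroup.le_normalizer).symm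
      exact (Cfsg.Agent.Lib.Cores.le_pCore this hp).trans (Cfsg.Agent.Lib.Cores.pCore_le_sylow S')
    obtain ⟨S, hS⟩ := (S'.2.map N.subtype).exists_le_sylow
    refine ⟨S, ?_, fun x hx => hS ⟨⟨x, Subgroup.le_normalizer hx⟩, hRS hx, rfl⟩⟩
    refine P.3 (S.2.map f) ?_
    rw [← hS', Sylow.coe_mapSurjective, ← Subgroup.map_map]
    exact Subgroup.map_mono hS
  obtain ⟨S, hS, hRS⟩ := lift P1
  obtain ⟨T, hT, hRT⟩ := lift P2
  have hST : S ≠ T := fun h => hne (Sylow.ext (by rw [← hS, ← hT, h]))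
  have := hC S T hST
  have hRc : IsCyclic R :=
    isCyclic_of_injective (Subgroup.inclusion (le_inf hRS hRT)) (Subgroup.inclusion_injective _)
  have hQc : IsCyclic Q := by
    rw [← hRQ]
    exact isCyclic_of_surjective (f.subgroupMap R) (f.subgroupMap_surjective R)
  have hQ2 : IsPGroup 2 Q := Cfsg.Agent.Lib.Cores.pCore_isPGroup 2 _
  have hC' := Cfsg.Agent.Lib.OddLocal.centralizer_pCore_le hcore
  obtain ⟨k, hk⟩ := IsPGroup.iff_card.mp hQ2
  set φ : G ⧸ O →* MulAut ↥Q := MulAut.conjNormal with hφ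
  have hker : φ.ker ≤ Q := by
    intro x hx
    refine hC' (Subgroup.mem_centralizer_iff.mpr fun y hy => ?_)
    have := congrArg Subtype.val (DFunLike.congr_fun (MonoidHom.mem_ker.mp hx) (⟨y, hy⟩ : ↥Q))
    simp only [hφ, MulAut.conjNormal_apply, MulAut.one_apply] at this
    exact (mul_inv_eq_iff_eq_mul.mp this).symm
  have haut : IsPGroup 2 (MulAut ↥Q) := by
    have hc := IsCyclic.card_mulAut (G := ↥Q)
    rw [hk] at hc
    rcases Nat.eq_zero_or_pos k with rfl | hk0
    · exact IsPGroup.of_card (n := 0) (by simpa using hc)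
    · rw [Nat.totient_prime_pow Nat.prime_two hk0] at hc
      exact IsPGroup.of_card (n := k - 1) (by simpa using hc)
  have hG2 : IsPGroup 2 (G ⧸ O) := by
    intro x
    obtain ⟨a, ha⟩ := haut (φ x)
    rw [← map_pow, ← MonoidHom.mem_ker] at ha
    obtain ⟨b, hb⟩ := hQ2 ⟨_, hker ha⟩
    refine ⟨a + b, ?_⟩
    rw [pow_add, pow_mul]
    exact congrArg Subtype.val hb
  refine ⟨P1, ?_⟩
  rw [← P1.3 (hG2.to_subgroup ⊤) le_top]
  infer_instance

end Cfsg.Agent.S3303
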