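import Cfsg.Statements.S5112
import Cfsg.Agent.Lib.Fusion.Essential

set_option autoImplicit false
open Cfsg Cfsg.FusionSystem Cfsg.Agent.Lib.Fusion

namespace Cfsg.Agent.S5112

theorem aut_pow_dihedral {k : ℕ} (hk : 2 ≤ k) (α : MulAut (DihedralGroup (2 ^ k))) :
    α ^ (2 ^ (k + k)) = 1 := by
  have : NeZero (2 ^ k) := ⟨by positivity⟩
  have h4 : 4 ≤ 2 ^ k := le_trans (by norm_num) (Nat.pow_le_pow_right two_pos hk)
  have hr : ∀ β : MulAut (DihedralGroup (2 ^ k)), ∃ a : ZMod (2 ^ k), IsUnit a ∧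
      ∀ i, β (DihedralGroup.r i) = DihedralGroup.r (i * a) := by
    intro β
    have ho : orderOf (β (DihedralGroup.r 1)) = 2 ^ k := by
      rw [MulEquiv.orderOf_eq, DihedralGroup.orderOf_r_one]
    rcases hb : β (DihedralGroup.r 1) with a | a
    · refine ⟨a, ?_, fun i => ?_⟩
      · rw [hb, DihedralGroup.orderOf_r] at ho
        have hg : Nat.gcd (2 ^ k) a.val = 1 := by
          have hd := Nat.gcd_dvd_left (2 ^ k) a.val
          have := Nat.div_mul_cancel hd
          rw [ho] at this
          exact (Nat.mul_eq_left (by positivity)).1 this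
        rw [← ZMod.natCast_zmod_val a, ZMod.isUnit_iff_coprime]
        exact Nat.coprime_comm.1 hg
      · have e : DihedralGroup.r i = DihedralGroup.r (1 : ZMod (2 ^ k)) ^ i.val := by
          rw [DihedralGroup.r_one_pow, ZMod.natCast_zmod_val]
        rw [e, map_pow, hb, DihedralGroup.r_pow, ZMod.natCast_zmod_val, mul_comm]
    · rw [hb, DihedralGroup.orderOf_sr] at ho
      omega
  obtain ⟨a, ha, hra⟩ := hr α
  have hpow : ∀ j : ℕ, ∀ i, (α ^ j) (DihedralGroup.r i) = DihedralGroup.r (i * a ^ j) := by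
    intro j
    induction j with
    | zero => intro i; simp
    | succ j ih =>
      intro i
      rw [pow_succ', MulAut.mul_apply, ih, hra, pow_succ, mul_assoc]
  have ha1 : a ^ 2 ^ k = 1 := by
    obtain ⟨u, rfl⟩ := ha
    have h1 := ZMod.pow_totient u
    have h2 : Nat.totient (2 ^ k) ∣ 2 ^ k := by
      rw [Nat.totient_prime_pow Nat.prime_two (by omega), Nat.add_one_sub_one, mul_one]
      exact pow_dvd_pow 2 (Nat.sub_le k 1)
    obtain ⟨c, hc⟩ := h2
    have h3 : u ^ 2 ^ k = 1 :=
      (congrArg (u ^ ·) hc).trans (by rw [pow_mul, h1, one_pow])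
    rw [← Units.val_pow_eq_pow_val, h3, Units.val_one]
  set β := α ^ 2 ^ k with hβ
  have hβr : ∀ i, β (DihedralGroup.r i) = DihedralGroup.r i := fun i => by
    rw [hβ, hpow, ha1, mul_one]
  obtain ⟨b, hb⟩ : ∃ b, β (DihedralGroup.sr 0) = DihedralGroup.sr b := by
    rcases hc : β (DihedralGroup.sr 0) with c | c
    · exact absurd (β.injective (hc.trans (hβr c).symm)) (by simp)
    · exact ⟨c, rfl⟩
  have hβs : ∀ j : ℕ, (β ^ j) (DihedralGroup.sr 0) = DihedralGroup.sr ((j : ZMod (2 ^ k)) * b) := by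
    intro j
    induction j with
    | zero => simp
    | succ j ih =>
      rw [pow_succ', MulAut.mul_apply, ih,
        show DihedralGroup.sr ((j : ZMod (2 ^ k)) * b) =
          DihedralGroup.sr 0 * DihedralGroup.r ((j : ZMod (2 ^ k)) * b) by simp,
        map_mul, hb, hβr, DihedralGroup.sr_mul_r]
      congr 1
      push_cast
      ring
  rw [pow_add, pow_mul]
  refine MulEquiv.ext fun x => ?_
  show (β ^ 2 ^ k) x = x
  have hrfix : ∀ i, (β ^ 2 ^ k) (DihedralGroup.r i) = DihedralGroup.r i := fun i => by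
    rw [hβ, ← pow_mul, hpow, pow_mul, ha1, one_pow, mul_one]
  cases x with
  | r i => exact hrfix i
  | sr i =>
    rw [show DihedralGroup.sr i = DihedralGroup.sr 0 * DihedralGroup.r i by simp, map_mul, hrfix,
      hβs, ZMod.natCast_self, zero_mul]

theorem aut_pow_quaternion {k : ℕ} (hk : 2 ≤ k) (α : MulAut (QuaternionGroup (2 ^ k))) :
    α ^ (2 ^ (k + 1 + (k + 1))) = 1 := by
  have : NeZero (2 ^ k) := ⟨by positivity⟩
  have h4 : 4 ≤ 2 ^ k := le_trans (by norm_num) (Nat.pow_le_pow_right two_pos hk)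
  have h2k : 2 * 2 ^ k = 2 ^ (k + 1) := by rw [pow_succ']
  have hr : ∀ β : MulAut (QuaternionGroup (2 ^ k)), ∃ a : ZMod (2 * 2 ^ k), IsUnit a ∧
      ∀ i, β (QuaternionGroup.a i) = QuaternionGroup.a (i * a) := by
    intro β
    have ho : orderOf (β (QuaternionGroup.a 1)) = 2 * 2 ^ k := by
      rw [MulEquiv.orderOf_eq, QuaternionGroup.orderOf_a_one]
    rcases hb : β (QuaternionGroup.a 1) with a | a
    · refine ⟨a, ?_, fun i => ?_⟩
      · rw [hb, QuaternionGroup.orderOf_a] at ho
        have hg : Nat.gcd (2 * 2 ^ k) a.val = 1 := by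
          have hd := Nat.gcd_dvd_left (2 * 2 ^ k) a.val
          have := Nat.div_mul_cancel hd
          rw [ho] at this
          exact (Nat.mul_eq_left (by positivity)).1 this
        rw [← ZMod.natCast_zmod_val a, ZMod.isUnit_iff_coprime]
        exact Nat.coprime_comm.1 hg
      · have e : QuaternionGroup.a i = QuaternionGroup.a (1 : ZMod (2 * 2 ^ k)) ^ i.val := by
          rw [QuaternionGroup.a_one_pow, ZMod.natCast_zmod_val]
        have hp : ∀ j : ℕ, QuaternionGroup.a a ^ j = QuaternionGroup.a ((j : ZMod (2 * 2 ^ k)) * a) := by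
          intro j
          induction j with
          | zero => simp
          | succ j ih =>
            rw [pow_succ, ih, QuaternionGroup.a_mul_a]
            congr 1
            push_cast
            ring
        rw [e, map_pow, hb, hp, ZMod.natCast_zmod_val]
    · rw [hb, QuaternionGroup.orderOf_xa] at ho
      omega
  obtain ⟨a, ha, hra⟩ := hr α
  have hpow : ∀ j : ℕ, ∀ i, (α ^ j) (QuaternionGroup.a i) = QuaternionGroup.a (i * a ^ j) := by
    intro j
    induction j with
    | zero => intro i; simp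
    | succ j ih =>
      intro i
      rw [pow_succ', MulAut.mul_apply, ih, hra, pow_succ, mul_assoc]
  have ha1 : a ^ 2 ^ (k + 1) = 1 := by
    obtain ⟨u, rfl⟩ := ha
    have h1 := ZMod.pow_totient u
    have h2 : Nat.totient (2 * 2 ^ k) ∣ 2 ^ (k + 1) := by
      rw [h2k, Nat.totient_prime_pow Nat.prime_two (by omega), show 2 - 1 = 1 from rfl, mul_one]
      exact pow_dvd_pow 2 (Nat.sub_le (k + 1) 1)
    obtain ⟨c, hc⟩ := h2
    have h3 : u ^ 2 ^ (k + 1) = 1 :=
      (congrArg (u ^ ·) hc).trans (by rw [pow_mul, h1, one_pow])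
    rw [← Units.val_pow_eq_pow_val, h3, Units.val_one]
  set β := α ^ 2 ^ (k + 1) with hβ
  have hβr : ∀ i, β (QuaternionGroup.a i) = QuaternionGroup.a i := fun i => by
    rw [hβ, hpow, ha1, mul_one]
  obtain ⟨b, hb⟩ : ∃ b, β (QuaternionGroup.xa 0) = QuaternionGroup.xa b := by
    rcases hc : β (QuaternionGroup.xa 0) with c | c
    · exact absurd (β.injective (hc.trans (hβr c).symm)) (by simp)
    · exact ⟨c, rfl⟩
  have hβs : ∀ j : ℕ,
      (β ^ j) (QuaternionGroup.xa 0) = QuaternionGroup.xa ((j : ZMod (2 * 2 ^ k)) * b) := by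
    intro j
    induction j with
    | zero => simp
    | succ j ih =>
      rw [pow_succ', MulAut.mul_apply, ih,
        show QuaternionGroup.xa ((j : ZMod (2 * 2 ^ k)) * b) =
          QuaternionGroup.xa 0 * QuaternionGroup.a ((j : ZMod (2 * 2 ^ k)) * b) by simp,
        map_mul, hb, hβr, QuaternionGroup.xa_mul_a]
      congr 1
      push_cast
      ring
  rw [pow_add, pow_mul]
  refine MulEquiv.ext fun x => ?_
  show (β ^ 2 ^ (k + 1)) x = x
  have hrfix : ∀ i, (β ^ 2 ^ (k + 1)) (QuaternionGroup.a i) = QuaternionGroup.a i := fun i => by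
    rw [hβ, ← pow_mul, hpow, pow_mul, ha1, one_pow, mul_one]
  cases x with
  | a i => exact hrfix i
  | xa i =>
    have h0 : ((2 ^ (k + 1) : ℕ) : ZMod (2 * 2 ^ k)) = 0 := by rw [← h2k, ZMod.natCast_self]
    rw [show QuaternionGroup.xa i = QuaternionGroup.xa 0 * QuaternionGroup.a i by simp, map_mul,
      hrfix, hβs, h0, zero_mul]

/-- If S is a dihedral or generalized quaternion 2-group of order at least 16, then in every saturated fusion system over S (at the prime 2) the automorphism group Aut_F(S) consists of the inner automorphisms of S. -/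
theorem result {Ω : Type*} [Group Ω] {S : Subgroup Ω} [Finite S] (n : ℕ) (hn : 4 ≤ n) (hshape : Nonempty (S ≃* DihedralGroup (2 ^ (n - 1))) ∨ Nonempty (S ≃* QuaternionGroup (2 ^ (n - 2)))) (F : Cfsg.FusionSystem S) (hF : F.IsSaturated 2) : F.autGroup S = Cfsg.Inn S := by
  have h2 : Fact (Nat.Prime 2) := ⟨Nat.prime_two⟩
  have hSp : IsPGroup 2 S := by
    rcases hshape with ⟨⟨e⟩⟩ | ⟨⟨e⟩⟩
    · refine IsPGroup.of_card (n := n) ?_
      rw [Nat.card_congr e.toEquiv, DihedralGroup.nat_card, ← pow_succ']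
      congr 1
      omega
    · refine IsPGroup.of_card (n := n) ?_
      have : NeZero (2 ^ (n - 2)) := ⟨by positivity⟩
      rw [Nat.card_congr e.toEquiv, Nat.card_eq_fintype_card, QuaternionGroup.card,
        show 4 = 2 ^ 2 by rfl, ← pow_add]
      congr 1
      omega
  have hAp : IsPGroup 2 (F.autGroup S) := by
    intro α
    rcases hshape with ⟨⟨e⟩⟩ | ⟨⟨e⟩⟩
    · refine ⟨n - 1 + (n - 1), Subtype.ext ((MulAut.congr e).injective ?_)⟩
      rw [SubgroupClass.coe_pow, map_pow, OneMemClass.coe_one, map_one]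
      exact aut_pow_dihedral (by omega) _
    · refine ⟨n - 2 + 1 + (n - 2 + 1), Subtype.ext ((MulAut.congr e).injective ?_)⟩
      rw [SubgroupClass.coe_pow, map_pow, OneMemClass.coe_one, map_one]
      exact aut_pow_quaternion (by omega) _
  obtain ⟨-, R, hR⟩ :=
    (IsSaturated.automized_receptive hSp hF (isFullyNormalized_top F)).1
  refine le_antisymm (fun α hα => ?_) ((inn_le_autInducedBy le_rfl).trans (autInducedBy_le_autGroup F le_rfl))
  have hle : (⊤ : Subgroup (F.autGroup S)) ≤ (R : Subgroup (F.autGroup S)) :=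
    (R.3 (Q := ⊤) (hAp.to_subgroup ⊤) le_top).le
  have := hle (Subgroup.mem_top ⟨α, hα⟩)
  rw [hR] at this
  exact (autInducedBy_self S).le this

end Cfsg.Agent.S5112
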