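import Cfsg.Statements.S3304
import Cfsg.Agent.Lib.Solvable.GLTwoThreeFacts
import Cfsg.Agent.Lib.Frobenius.UniqueSubgroup
import Cfsg.Agent.Lib.OddLocal.PStable
import Cfsg.Agent.S5112

set_option autoImplicit false
open Cfsg

namespace Cfsg.Agent.S3304

open Cfsg.Agent.Lib.Solvable

/-- a group with a centralizing condition whose induced automorphisms are 2-elements is a 2-group -/
theorem isPGroup_of_aut {Q : Type*} [Group Q] {R : Subgroup Q} [R.Normal] (hR : IsPGroup 2 R)
    (hC : Subgroup.centralizer (R : Set Q) ≤ R) (hA : ∀ σ : MulAut R, ∃ k, σ ^ 2 ^ k = 1) :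
    IsPGroup 2 Q := by
  intro g
  obtain ⟨k, hk⟩ := hA (MulAut.conjNormal g)
  rw [← map_pow] at hk
  have h : g ^ 2 ^ k ∈ Subgroup.centralizer (R : Set Q) := by
    rw [Subgroup.mem_centralizer_iff]
    intro r hr
    have h1 := congrArg Subtype.val (DFunLike.congr_fun hk ⟨r, hr⟩)
    rw [MulAut.conjNormal_apply, MulAut.one_apply] at h1
    exact (mul_inv_eq_iff_eq_mul.mp h1).symm
  obtain ⟨j, hj⟩ := hR ⟨_, hC h⟩
  exact ⟨k + j, by rw [pow_add, pow_mul]; exact congrArg Subtype.val hj⟩

/-- in a 2-group of 2-rank at most one there is only one involution -/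
theorem unique_of_rank {P : Type*} [Group P] [Finite P] (hP : IsPGroup 2 P)
    (h : Cfsg.PRankLE 2 1 P) (a b : P) (ha : orderOf a = 2) (hb : orderOf b = 2) :
    a ∈ Subgroup.zpowers b := by
  classical
  haveI : Fact (Nat.Prime 2) := ⟨Nat.prime_two⟩
  haveI : Nontrivial P := ⟨⟨a, 1, fun e => by rw [e, orderOf_one] at ha; omega⟩⟩
  haveI := hP.center_nontrivial
  obtain ⟨z, hz⟩ := exists_prime_orderOf_dvd_card' (G := Subgroup.center P) 2 (by
    obtain ⟨k, hk⟩ := IsPGroup.iff_card.mp (hP.to_subgroup (Subgroup.center P))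
    rw [hk]
    refine dvd_pow_self 2 ?_
    rintro rfl
    rw [pow_zero] at hk
    have := Finite.one_lt_card (α := Subgroup.center P)
    omega)
  rw [← Subgroup.orderOf_coe] at hz
  suffices key : ∀ x : P, orderOf x = 2 → x = z by
    rw [key a ha, ← key b hb]
    exact Subgroup.mem_zpowers b
  intro x hx
  by_contra hne
  have hzc := Subgroup.mem_center_iff.mp z.2
  have hxx : x * x = 1 := by rw [← pow_two, ← hx, pow_orderOf_eq_one]
  have hzz : (z : P) * z = 1 := by rw [← pow_two, ← hz, pow_orderOf_eq_one]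
  have hx1 : x ≠ 1 := fun e => by rw [e, orderOf_one] at hx; omega
  have hz1 : (z : P) ≠ 1 := fun e => by rw [e, orderOf_one] at hz; omega
  let A := Subgroup.closure ({x, (z : P)} : Set P)
  have hform : ∀ y ∈ A, y = 1 ∨ y = x ∨ y = z ∨ y = x * z := by
    intro y hy
    induction hy using Subgroup.closure_induction with
    | mem y hy => rcases hy with rfl | rfl <;> simp
    | one => simp
    | mul y w _ _ hy hw =>
      have e1 : (z : P) * x = x * z := (hzc x).symm
      have e2 : x * (x * (z : P)) = z := by rw [← mul_assoc, hxx, one_mul]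
      have e3 : (z : P) * (x * z) = x := by rw [← mul_assoc, e1, mul_assoc, hzz, mul_one]
      have e4 : x * (z : P) * x = z := by rw [mul_assoc, e1, e2]
      have e5 : x * (z : P) * z = x := by rw [mul_assoc, hzz, mul_one]
      have e6 : x * (z : P) * (x * z) = 1 := by rw [mul_assoc, e3, hxx]
      rcases hy with h1 | h1 | h1 | h1 <;> rcases hw with h2 | h2 | h2 | h2 <;>
        rw [h1, h2] <;> simp [hxx, hzz, e1, e2, e3, e4, e5, e6]
    | inv y _ hy =>
      have e6 : x * (z : P) * (x * z) = 1 := by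
        rw [mul_assoc, ← mul_assoc (z : P), ← hzc x, mul_assoc x, hzz, mul_one, hxx]
      rcases hy with h1 | h1 | h1 | h1 <;> rw [h1]
      · exact Or.inl inv_one
      · exact Or.inr (Or.inl (inv_eq_of_mul_eq_one_right hxx))
      · exact Or.inr (Or.inr (Or.inl (inv_eq_of_mul_eq_one_right hzz)))
      · exact Or.inr (Or.inr (Or.inr (inv_eq_of_mul_eq_one_right e6)))
  have hcomm : IsMulCommutative A := Subgroup.isMulCommutative_closure (by
    intro y hy w hw
    rcases hy with rfl | rfl <;> rcases hw with rfl | rfl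
    · rfl
    · exact hzc y
    · exact (hzc w).symm
    · rfl)
  have hle := h A hcomm fun y hy => by
    rw [pow_two]
    rcases hform y hy with rfl | rfl | rfl | rfl
    · exact mul_one 1
    · exact hxx
    · exact hzz
    · rw [mul_assoc, ← mul_assoc (z : P), ← hzc x, mul_assoc x, hzz, mul_one, hxx]
  have h3 : 3 ≤ Nat.card A := by
    refine le_trans ?_ (Nat.card_le_card_of_injective
      (fun i : Fin 3 => (⟨![1, x, (z : P)] i, by
        fin_cases i
        · exact A.one_mem
        · exact Subgroup.subset_closure (Or.inl rfl)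
        · exact Subgroup.subset_closure (Or.inr rfl)⟩ : A)) ?_)
    · simp
    · intro i j hij
      have h := congrArg Subtype.val hij
      fin_cases i <;> fin_cases j <;>
        first | rfl | exact (hx1 h).elim | exact (hx1 h.symm).elim | exact (hz1 h).elim |
          exact (hz1 h.symm).elim | exact (hne h).elim | exact (hne h.symm).elim
  omega

/-- Let G be a finite solvable group in which the intersection of any two distinct Sylow 2-subgroups has 2-rank at most 1 (contains no Klein four-group). Write Q = G/O(G), O(G) the largest normal subgroup of odd order. Then Q has a normal Sylow 2-subgroup; or Q is isomorphic to GL(2,3); or Q has order 48, centre of order 2 with central quotient isomorphic to the symmetric group of degree 4, and generalized quaternion Sylow 2-subgroups of order 16 (the binary octahedral group). The last two are the two representation groups of the symmetric group of degree 4. -/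
theorem result {G : Type*} [Group G] [Finite G] (hs : Group.IsSolvable G)
    (hI : ∀ S T : Sylow 2 G, S ≠ T → Cfsg.PRankLE 2 1 ↥((S : Subgroup G) ⊓ (T : Subgroup G))) :
    (∃ P : Sylow 2 (G ⧸ Cfsg.oddCore G), (P : Subgroup (G ⧸ Cfsg.oddCore G)).Normal) ∨
    Nonempty ((G ⧸ Cfsg.oddCore G) ≃* GL (Fin 2) (ZMod 3)) ∨
    (Nat.card (G ⧸ Cfsg.oddCore G) = 48 ∧ Nat.card ↥(Subgroup.center (G ⧸ Cfsg.oddCore G)) = 2 ∧
      Nonempty ((G ⧸ Cfsg.oddCore G) ⧸ Subgroup.center (G ⧸ Cfsg.oddCore G) ≃* Equiv.Perm (Fin 4)) ∧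
      ∀ P : Sylow 2 (G ⧸ Cfsg.oddCore G), Nonempty (↥(P : Subgroup (G ⧸ Cfsg.oddCore G)) ≃* QuaternionGroup 4)) := by
  classical
  haveI : Fact (Nat.Prime 2) := ⟨Nat.prime_two⟩
  haveI := hs
  by_cases hnorm : ∃ P : Sylow 2 (G ⧸ Cfsg.oddCore G), (P : Subgroup (G ⧸ Cfsg.oddCore G)).Normal
  · exact Or.inl hnorm
  right
  have hOcop : (Nat.card (Cfsg.oddCore G)).Coprime 2 := (Lib.Cores.pPrimeCore_mem 2 G).2
  set O := Cfsg.oddCore G with hO
  set π := QuotientGroup.mk' O with hπ
  set R := Cfsg.pCore 2 (G ⧸ O) with hR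
  haveI hRn : R.Normal := inferInstance
  have hR2 : IsPGroup 2 R := Lib.Cores.pCore_isPGroup 2 _
  have hC : Subgroup.centralizer (R : Set (G ⧸ O)) ≤ R :=
    Lib.OddLocal.centralizer_pCore_le (Lib.Cores.pPrimeCore_quotient_pPrimeCore 2 G)
  have h2group : ¬ IsPGroup 2 (G ⧸ O) := fun h => by
    apply hnorm
    obtain ⟨P⟩ : Nonempty (Sylow 2 (G ⧸ O)) := inferInstance
    refine ⟨P, ?_⟩
    have e : (⊤ : Subgroup (G ⧸ O)) = P :=
      P.3 (h.to_subgroup ⊤) le_top
    rw [← e]
    infer_instance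
  -- lift `R` into the intersection of two Sylow subgroups
  set M := R.comap π with hM
  obtain ⟨S₀⟩ : Nonempty (Sylow 2 M) := inferInstance
  set R0 := (S₀ : Subgroup M).map M.subtype with hR0
  have hR0p : IsPGroup 2 R0 := S₀.isPGroup'.map _
  have hR0M : R0 ≤ M := Subgroup.map_subtype_le _
  have hπR0 : R0.map π = R := by
    let f : M →* R := (π.comp M.subtype).codRestrict R fun x => x.2
    have hf : Function.Surjective f := by
      rintro ⟨r, hr⟩
      obtain ⟨g, rfl⟩ := QuotientGroup.mk'_surjective O r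
      exact ⟨⟨g, hr⟩, rfl⟩
    have h1 : ((S₀ : Subgroup M).map f) = ⊤ := by
      rw [← Sylow.coe_mapSurjective hf S₀]
      exact ((S₀.mapSurjective hf).3 (hR2.to_subgroup ⊤) le_top).symm
    refine le_antisymm ?_ fun r hr => ?_
    · rw [Subgroup.map_le_iff_le_comap]
      exact hR0M
    · obtain ⟨x, hx, hxr⟩ : (⟨r, hr⟩ : R) ∈ (S₀ : Subgroup M).map f := by rw [h1]; trivial
      exact ⟨x, ⟨x, hx, rfl⟩, congrArg Subtype.val hxr⟩
  set N := Subgroup.normalizer (R0 : Set G) with hN
  have hNtop : N.map π = ⊤ := by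
    rw [eq_top_iff]
    intro y _
    obtain ⟨g, rfl⟩ := QuotientGroup.mk'_surjective O y
    have hg : g ∈ N ⊔ M := by rw [hN, hR0, Sylow.normalizer_sup_eq_top S₀]; trivial
    have hle : (N ⊔ M).map π ≤ N.map π := by
      rw [Subgroup.map_sup]
      refine sup_le le_rfl ?_
      rw [hM, Subgroup.map_comap_eq_self_of_surjective (QuotientGroup.mk'_surjective O), ← hπR0]
      exact Subgroup.map_mono Subgroup.le_normalizer
    exact hle ⟨g, hg, rfl⟩
  obtain ⟨T₁, T₂, hT12, hT1, hT2⟩ :
      ∃ T₁ T₂ : Sylow 2 G, T₁ ≠ T₂ ∧ R0 ≤ T₁ ∧ R0 ≤ T₂ := by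
    obtain ⟨S₁⟩ : Nonempty (Sylow 2 N) := inferInstance
    obtain ⟨S₂, hne⟩ : ∃ S₂ : Sylow 2 N, S₂ ≠ S₁ := by
      by_contra hcon
      push Not at hcon
      apply hnorm
      let f : N →* G ⧸ O := π.comp N.subtype
      have hf : Function.Surjective f := by
        intro y
        obtain ⟨g, hg, rfl⟩ : y ∈ N.map π := by rw [hNtop]; trivial
        exact ⟨⟨g, hg⟩, rfl⟩
      refine ⟨S₁.mapSurjective hf, ?_⟩
      rw [Sylow.coe_mapSurjective]
      haveI : Subsingleton (Sylow 2 N) := ⟨fun a b => (hcon a).trans (hcon b).symm⟩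
      exact (Sylow.normal_of_subsingleton S₁).map f hf
    have hR0N : ∀ S : Sylow 2 N, R0 ≤ (S : Subgroup N).map N.subtype := by
      intro S x hx
      refine ⟨⟨x, Subgroup.le_normalizer hx⟩, ?_, rfl⟩
      exact (hR0p.of_equiv (Subgroup.subgroupOfEquivOfLe (Subgroup.le_normalizer (H := R0))).symm).le_sylow_of_normal S hx
    obtain ⟨T₁, hT1⟩ := (S₁.isPGroup'.map N.subtype).exists_le_sylow
    obtain ⟨T₂, hT2⟩ := (S₂.isPGroup'.map N.subtype).exists_le_sylow
    refine ⟨T₁, T₂, fun e => hne ?_, (hR0N S₁).trans hT1, (hR0N S₂).trans hT2⟩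
    subst e
    have key : ∀ S : Sylow 2 N, (S : Subgroup N).map N.subtype ≤ T₁ →
        (T₁ : Subgroup G).subgroupOf N = S := fun S hS =>
      S.3 (T₁.isPGroup'.comap_of_injective _ N.subtype_injective) fun x hx => hS ⟨x, hx, rfl⟩
    exact Sylow.ext ((key S₂ hT2).symm.trans (key S₁ hT1))
  have hrank : Cfsg.PRankLE 2 1 R0 := by
    intro A hA hA2
    haveI := hA
    have h := hI T₁ T₂ hT12 (A.map (Subgroup.inclusion (le_inf hT1 hT2))) inferInstance ?_
    · rwa [Nat.card_congr (A.equivMapOfInjective _ (Subgroup.inclusion_injective _)).toEquiv.symm] at h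
    · rintro _ ⟨a, ha, rfl⟩
      rw [← map_pow, hA2 a ha, map_one]
  -- `R` is isomorphic to `R0`
  let fR : R0 →* R := (π.comp R0.subtype).codRestrict R fun x => hπR0 ▸ ⟨x, x.2, rfl⟩
  have hfR : Function.Bijective fR := by
    constructor
    · rw [injective_iff_map_eq_one]
      intro x hx
      have h1 : (x : G) ∈ O := (QuotientGroup.eq_one_iff _).mp (congrArg Subtype.val hx)
      obtain ⟨k, hk⟩ := IsPGroup.iff_orderOf.mp hR0p x
      rw [← orderOf_eq_one_iff]
      refine Nat.eq_one_of_dvd_coprimes (a := 2 ^ k) (b := Nat.card O) ?_ hk.dvd ?_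
      · exact Nat.Coprime.pow_left _ hOcop.symm
      · rw [← Subgroup.orderOf_coe]
        exact O.orderOf_dvd_natCard h1
    · rintro ⟨r, hr⟩
      rw [← hπR0] at hr
      obtain ⟨x, hx, rfl⟩ := hr
      exact ⟨⟨x, hx⟩, rfl⟩
  let eR : R0 ≃* R := MulEquiv.ofBijective fR hfR
  have huniqR : ∀ a b : R, orderOf a = 2 → orderOf b = 2 → a ∈ Subgroup.zpowers b := by
    intro a b ha hb
    obtain ⟨i, hi⟩ := Subgroup.mem_zpowers_iff.mp (unique_of_rank hR0p hrank (eR.symm a) (eR.symm b)
      (by rw [MulEquiv.orderOf_eq, ha]) (by rw [MulEquiv.orderOf_eq, hb]))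
    refine Subgroup.mem_zpowers_iff.mpr ⟨i, eR.symm.injective ?_⟩
    rw [map_zpow, hi]
  -- `R` is quaternion of order 8
  obtain ⟨e⟩ : Nonempty (R ≃* Q8) := by
    rcases Lib.Frobenius.isCyclic_or_quaternion_of_unique hR2 huniqR with hc | ⟨-, m, ⟨e⟩⟩
    · exfalso
      haveI := hc
      refine h2group (isPGroup_of_aut hR2 hC fun σ => ?_)
      haveI : Finite (MulAut R) := Finite.of_injective _ DFunLike.coe_injective
      have hp : IsPGroup 2 (MulAut R) := by
        obtain ⟨k, hk⟩ := IsPGroup.iff_card.mp hR2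
        rcases k with _ | k
        · refine IsPGroup.of_card (n := 0) ?_
          rw [IsCyclic.card_mulAut, hk, pow_zero, Nat.totient_one]
        · refine IsPGroup.of_card (n := k) ?_
          rw [IsCyclic.card_mulAut, hk, Nat.totient_prime_pow Nat.prime_two (Nat.succ_pos k)]
          simp
      exact hp σ
    · rcases m with _ | m
      · exact ⟨e⟩
      · exfalso
        refine h2group (isPGroup_of_aut hR2 hC fun σ => ?_)
        refine ⟨m + 2 + 1 + (m + 2 + 1), (MulAut.congr e).injective ?_⟩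
        rw [map_pow, map_one]
        exact Cfsg.Agent.S5112.aut_pow_quaternion (k := m + 2) (by omega) _
  -- the action on `R`
  set Ψ := conjQ e with hΨ
  have hker : Ψ.ker = (Subgroup.center R).map R.subtype := by
    ext g
    rw [hΨ, mem_ker_conjQ]
    constructor
    · intro hg
      refine ⟨⟨g, hC hg⟩, Subgroup.mem_center_iff.mpr fun r => Subtype.ext ?_, rfl⟩
      exact Subgroup.mem_centralizer_iff.mp hg r r.2
    · rintro ⟨z, hz, rfl⟩
      exact Subgroup.mem_centralizer_iff.mpr fun r hr =>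
        congrArg Subtype.val (Subgroup.mem_center_iff.mp hz ⟨r, hr⟩)
  have hker2 : Nat.card Ψ.ker = 2 := by
    rw [hker, Subgroup.card_map_of_injective R.subtype_injective,
      Nat.card_congr (Subgroup.centerCongr e).toEquiv, Nat.card_eq_fintype_card]
    decide +kernel
  have hR8 : Nat.card R = 8 := by
    rw [Nat.card_congr e.toEquiv, Nat.card_eq_fintype_card, QuaternionGroup.card]
  have hdiv : Nat.card (G ⧸ O) ∣ 48 := by
    rw [← Ψ.ker.card_mul_index, Subgroup.index_ker, hker2, show 48 = 2 * 24 from rfl, ← card_aut]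
    exact mul_dvd_mul_left 2 (Subgroup.card_subgroup_dvd_card _)
  have h8 : 8 ∣ Nat.card (G ⧸ O) := hR8 ▸ R.card_subgroup_dvd_card
  have hcard : Nat.card (G ⧸ O) = 48 := by
    obtain ⟨d, hd⟩ := h8
    have hd6 : d ∣ 6 := Nat.dvd_of_mul_dvd_mul_left (by norm_num : 0 < 8) (hd ▸ hdiv)
    have hd6' : d ≤ 6 := Nat.le_of_dvd (by norm_num) hd6
    interval_cases d
    · exact absurd (Nat.card_pos (α := G ⧸ O)) (by omega)
    · exact absurd (IsPGroup.of_card (n := 3) hd) h2group
    · exact absurd (IsPGroup.of_card (n := 4) hd) h2group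
    · exfalso
      apply hnorm
      refine ⟨hR2.toSylow ?_, hRn⟩
      have h := R.card_mul_index
      rw [hR8, hd] at h
      omega
    · omega
    · omega
    · exact hd
  have hsurj : Function.Surjective Ψ := by
    rw [← MonoidHom.range_eq_top]
    apply Subgroup.eq_top_of_card_eq
    have h := Ψ.ker.card_mul_index
    rw [Subgroup.index_ker, hker2, hcard] at h
    rw [card_aut]
    omega
  have hcenter : Subgroup.center (G ⧸ O) = Ψ.ker := by
    refine le_antisymm (fun z hz => ?_) ?_
    · rw [hΨ, mem_ker_conjQ, Subgroup.mem_centralizer_iff]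
      exact fun r _ => Subgroup.mem_center_iff.mp hz r
    · intro z hz
      rw [Subgroup.mem_center_iff]
      intro g
      obtain ⟨w, -, hw⟩ := (Nat.card_eq_two_iff' (1 : Ψ.ker)).mp hker2
      have hgz : g * z * g⁻¹ ∈ Ψ.ker := (inferInstance : Ψ.ker.Normal).conj_mem z hz g
      by_cases hz1 : z = 1
      · simp [hz1]
      · have hne1 : g * z * g⁻¹ ≠ 1 := fun h => hz1 (conj_eq_one_iff.mp h)
        have key : ∀ x : Ψ.ker, x ≠ 1 → x = ⟨z, hz⟩ := fun x hx =>
          (hw x hx).trans (hw ⟨z, hz⟩ fun h => hz1 (congrArg Subtype.val h)).symm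
        have h := congrArg Subtype.val (key ⟨_, hgz⟩ fun h => hne1 (congrArg Subtype.val h))
        exact mul_inv_eq_iff_eq_mul.mp h
  by_cases hinv : ∃ u : G ⧸ O, u * u = 1 ∧ u ∉ R
  · obtain ⟨u, hu2, hu⟩ := hinv
    left
    obtain ⟨e1⟩ := nonempty_equiv_model hcard e hC hu2 hu
    obtain ⟨e2⟩ := nonempty_equiv_gl23
    exact ⟨e1.symm.trans e2⟩
  right
  push Not at hinv
  refine ⟨hcard, by rw [hcenter, hker2], ⟨?_⟩, fun P => ?_⟩
  · exact (QuotientGroup.quotientMulEquivOfEq hcenter).trans
      ((QuotientGroup.quotientKerEquivOfSurjective Ψ hsurj).trans chiE)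
  · have hRP : R ≤ P := hR2.le_sylow_of_normal P
    have hP16 : Nat.card P = 16 := by
      rw [Sylow.card_eq_multiplicity, hcard, show (48 : ℕ) = 2 ^ 4 * 3 from rfl,
        Nat.factorization_mul (by norm_num) (by norm_num), Finsupp.add_apply,
        Nat.Prime.factorization_pow Nat.prime_two, Finsupp.single_eq_same,
        Nat.factorization_eq_zero_of_not_dvd (by norm_num : ¬ 2 ∣ 3)]
      rfl
    have huniqP : ∀ a b : (P : Subgroup (G ⧸ O)), orderOf a = 2 → orderOf b = 2 →
        a ∈ Subgroup.zpowers b := by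
      intro a b ha hb
      have sq : ∀ c : (P : Subgroup (G ⧸ O)), orderOf c = 2 → (c : G ⧸ O) * c = 1 := fun c hc => by
        have h := pow_orderOf_eq_one c
        rw [hc, pow_two] at h
        exact congrArg Subtype.val h
      have haR : (a : G ⧸ O) ∈ R := hinv _ (sq a ha)
      have hbR : (b : G ⧸ O) ∈ R := hinv _ (sq b hb)
      obtain ⟨i, hi⟩ := Subgroup.mem_zpowers_iff.mp (huniqR ⟨_, haR⟩ ⟨_, hbR⟩
        ((Subgroup.orderOf_coe _).symm.trans ((Subgroup.orderOf_coe a).trans ha))
        ((Subgroup.orderOf_coe _).symm.trans ((Subgroup.orderOf_coe b).trans hb)))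
      refine Subgroup.mem_zpowers_iff.mpr ⟨i, Subtype.ext ?_⟩
      rw [SubgroupClass.coe_zpow]
      exact congrArg Subtype.val hi
    rcases Lib.Frobenius.isCyclic_or_quaternion_of_unique P.isPGroup' huniqP with hc | ⟨-, m, ⟨eP⟩⟩
    · exfalso
      haveI := hc
      haveI := IsCyclic.isMulCommutative (α := (P : Subgroup (G ⧸ O)))
      have hq : ∃ x y : Q8, x * y ≠ y * x := by decide +kernel
      obtain ⟨x, y, hxy⟩ := hq
      apply hxy
      obtain ⟨x, rfl⟩ := e.surjective x
      obtain ⟨y, rfl⟩ := e.surjective y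
      rw [← map_mul, ← map_mul]
      refine congrArg e (Subtype.ext ?_)
      have hcomm : Std.Commutative (α := (P : Subgroup (G ⧸ O))) (· * ·) := IsMulCommutative.is_comm
      have h := congrArg Subtype.val (hcomm.comm ⟨x, hRP x.2⟩ ⟨y, hRP y.2⟩)
      simpa using h
    · have h := Nat.card_congr eP.toEquiv
      rw [hP16, Nat.card_eq_fintype_card, QuaternionGroup.card] at h
      have hm : 2 ^ (m + 1) = 4 := by omega
      exact ⟨hm ▸ eP⟩

end Cfsg.Agent.S3304
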