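import Mathlib
import Cfsg.Statements.S3305
import Cfsg.Agent.Lib.InvChar.Basic

set_option autoImplicit false
open Cfsg
open scoped Pointwise

namespace Cfsg.Agent.S3305

theorem exists_sylow_above {G Q : Type*} [Group G] [Finite G] [Group Q] {p : ℕ} [Fact p.Prime]
    {f : G →* Q} (hf : Function.Surjective f) (P : Sylow p Q) {R : Subgroup G}
    (hR : R ≤ Subgroup.comap f (P : Subgroup Q)) (hRp : IsPGroup p ↥R) :
    ∃ S : Sylow p G, R ≤ (S : Subgroup G) ∧ (S : Subgroup G).map f = (P : Subgroup Q) := by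
  obtain ⟨S0, hS0⟩ := Sylow.mapSurjective_surjective hf p P
  set M := Subgroup.comap f (P : Subgroup Q)
  have hS0M : (S0 : Subgroup G) ≤ M := by
    intro s hs
    show f s ∈ (P : Subgroup Q)
    rw [← hS0]
    exact ⟨s, hs, rfl⟩
  obtain ⟨k, hk, hle⟩ := Cfsg.Agent.Lib.InvChar.exists_conj_le_sylow S0 hS0M hR hRp
  refine ⟨k⁻¹ • S0, ?_, ?_⟩
  · intro r hr
    have h1 : k * r * k⁻¹ ∈ (S0 : Subgroup G) := hle ⟨r, hr, rfl⟩
    have h2 := Subgroup.smul_mem_pointwise_smul _ (MulAut.conj k⁻¹) _ h1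
    show r ∈ MulAut.conj k⁻¹ • (S0 : Subgroup G)
    simpa [mul_assoc] using h2
  · have hle2 : ((k⁻¹ • S0 : Sylow p G) : Subgroup G).map f ≤ (P : Subgroup Q) := by
      rw [Subgroup.map_le_iff_le_comap]
      exact Sylow.smul_le (P := S0) hS0M (⟨k⁻¹, M.inv_mem hk⟩ : ↥M)
    have hfq : ((Sylow.mapSurjective hf (k⁻¹ • S0) : Sylow p Q) : Subgroup Q) = ((k⁻¹ • S0 : Sylow p G) : Subgroup G).map f := rfl
    rw [← hfq] at hle2 ⊢
    exact ((Sylow.mapSurjective hf (k⁻¹ • S0)).3 P.2 hle2).symm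

/-- If any two distinct Sylow 2-subgroups of the finite group G intersect in a cyclic group, then the same holds in every quotient group G/H, H a normal subgroup of G. -/
theorem result {G : Type*} [Group G] [Finite G]
    (hC : ∀ S T : Sylow 2 G, S ≠ T → IsCyclic ↥((S : Subgroup G) ⊓ (T : Subgroup G))) (H : Subgroup G) [H.Normal] :
    ∀ S T : Sylow 2 (G ⧸ H), S ≠ T → IsCyclic ↥((S : Subgroup (G ⧸ H)) ⊓ (T : Subgroup (G ⧸ H))) := by
  intro S' T' hne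
  have hf : Function.Surjective (QuotientGroup.mk' H) := QuotientGroup.mk'_surjective H
  set f := QuotientGroup.mk' H
  let K : Subgroup G := Subgroup.comap f ((S' : Subgroup (G ⧸ H)) ⊓ (T' : Subgroup (G ⧸ H)))
  let g : ↥K →* ↥((S' : Subgroup (G ⧸ H)) ⊓ (T' : Subgroup (G ⧸ H))) :=
    (f.comp K.subtype).codRestrict _ (fun k => k.2)
  have hg : Function.Surjective g := by
    rintro ⟨d, hd⟩
    obtain ⟨x, rfl⟩ := hf d
    exact ⟨⟨x, hd⟩, rfl⟩
  let R : Sylow 2 ↥K := default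
  let D := Sylow.mapSurjective hg R
  have hDtop : (D : Subgroup ↥((S' : Subgroup (G ⧸ H)) ⊓ (T' : Subgroup (G ⧸ H)))) = ⊤ := by
    have hp : IsPGroup 2 ↥(⊤ : Subgroup ↥((S' : Subgroup (G ⧸ H)) ⊓ (T' : Subgroup (G ⧸ H)))) :=
      (S'.isPGroup'.to_le inf_le_left).of_equiv Subgroup.topEquiv.symm
    exact (D.3 hp le_top).symm
  let R0 : Subgroup G := (R : Subgroup ↥K).map K.subtype
  obtain ⟨Q, hQ, hQS⟩ := exists_sylow_above hf S' (R := R0) (by
      rintro _ ⟨k, hk, rfl⟩; exact k.2.1) (R.isPGroup'.map _)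
  obtain ⟨Q', hQ', hQT⟩ := exists_sylow_above hf T' (R := R0) (by
      rintro _ ⟨k, hk, rfl⟩; exact k.2.2) (R.isPGroup'.map _)
  have hQQ : Q ≠ Q' := fun h => hne (Sylow.ext (by rw [← hQS, ← hQT, h]))
  have := hC Q Q' hQQ
  have hR0 : IsCyclic ↥R0 :=
    isCyclic_of_injective (Subgroup.inclusion (le_inf hQ hQ')) (Subgroup.inclusion_injective _)
  let r : ↥R0 →* ↥((S' : Subgroup (G ⧸ H)) ⊓ (T' : Subgroup (G ⧸ H))) :=
    (f.comp R0.subtype).codRestrict _ (by rintro ⟨_, k, hk, rfl⟩; exact k.2)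
  refine isCyclic_of_surjective r ?_
  intro d
  have hd : d ∈ (D : Subgroup ↥((S' : Subgroup (G ⧸ H)) ⊓ (T' : Subgroup (G ⧸ H)))) := hDtop ▸ Subgroup.mem_top d
  obtain ⟨k, hk, rfl⟩ := hd
  exact ⟨⟨(k : G), k, hk, rfl⟩, rfl⟩

end Cfsg.Agent.S3305
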