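import Mathlib
import Cfsg.Statements.S3309
import Cfsg.Agent.S0111

set_option autoImplicit false
open Cfsg

namespace Cfsg.Agent.S3309


abbrev D8 : Type := Multiplicative (ZMod 2) × DihedralGroup 4

def cD : D8 := (1, DihedralGroup.r 2)
def tD : D8 := (Multiplicative.ofAdd 1, 1)
def Cen (y : D8) : Prop := ∀ p, p * y = y * p
def Nc (y : D8) : Prop := y * y = 1 ∧ ¬ Cen y
def Same (y y' : D8) : Prop := ∀ p, p * y = y * p ↔ p * y' = y' * p
instance (y : D8) : Decidable (Cen y) := by unfold Cen; infer_instance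
instance (y : D8) : Decidable (Nc y) := by unfold Nc; infer_instance
instance (y y' : D8) : Decidable (Same y y') := by unfold Same; infer_instance

lemma fact_cen : ∀ z : D8, Cen z → z = 1 ∨ z = cD ∨ z = tD ∨ z = tD * cD := by decide +kernel
lemma fact_cen' : Cen cD ∧ Cen tD ∧ Cen (tD * cD) := by decide +kernel
lemma fact_sq : ∀ p : D8, p * p = 1 ∨ p * p = cD := by decide +kernel
lemma fact_ne : cD ≠ 1 ∧ tD ≠ 1 ∧ tD ≠ cD ∧ tD * cD ≠ tD ∧ tD * cD ≠ cD := by decide +kernel
lemma fact_c : ∃ p : D8, p * p = cD := by decide +kernel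
lemma fact_ord : cD * cD = 1 ∧ tD * tD = 1 := by decide +kernel
lemma fact_abel : ∀ y : D8, Nc y → ∀ p, p * y = y * p → p * p = 1 ∧ ∀ q, q * y = y * q → p * q = q * p := by decide +kernel
lemma fact_card : ∀ y : D8, Nc y → (Finset.univ.filter fun p => p * y = y * p).card = 8 := by decide +kernel
lemma fact_cen_card : (Finset.univ.filter fun p : D8 => Cen p).card = 4 := by decide +kernel
lemma fact_three : ∀ y y' y'' : D8, Nc y → Nc y' → Nc y'' → Same y y' ∨ Same y y'' ∨ Same y' y'' := by decide +kernel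
lemma fact_same : ∀ y y' : D8, Nc y → Nc y' → y' * y = y * y' → Same y y' := by decide +kernel
lemma fact_conj : ∀ y : D8, Nc y → ∃ p, p * y * p⁻¹ = y * cD := by decide +kernel
lemma fact_out : ∀ y : D8, y * y = 1 → Cen y ∨ ∀ k, y.2 ≠ DihedralGroup.r k := by decide +kernel
lemma fact_base : Nc (1, DihedralGroup.sr 0) ∧ Nc (1, DihedralGroup.sr 1) ∧
    ¬ Same (1, DihedralGroup.sr 0) (1, DihedralGroup.sr 1) := by decide +kernel

def Mlist (a b : D8) : Finset D8 := {1, cD, a, a * cD, b, b * cD, a * b, a * b * cD}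

def Good (a b : D8) : Prop :=
    (∀ p ∈ Mlist a b, ∀ q ∈ Mlist a b, p * q ∈ Mlist a b) ∧ (∀ p ∈ Mlist a b, p⁻¹ ∈ Mlist a b) ∧
    (Mlist a b).card = 8 ∧ tD ∉ Mlist a b ∧
    ∀ p ∈ Mlist a b, p * p = 1 → p = 1 ∨ p = cD ∨ (∃ q, q * a * q⁻¹ = p) ∨ ∃ q, q * b * q⁻¹ = p
instance (a b : D8) : Decidable (Good a b) := by
  have : Decidable (∀ p ∈ Mlist a b, ∀ q ∈ Mlist a b, p * q ∈ Mlist a b) := Finset.decidableDforallFinset
  have : Decidable (∀ p ∈ Mlist a b, p⁻¹ ∈ Mlist a b) := Finset.decidableDforallFinset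
  have : Decidable (∀ p ∈ Mlist a b, p * p = 1 → p = 1 ∨ p = cD ∨ (∃ q, q * a * q⁻¹ = p) ∨ ∃ q, q * b * q⁻¹ = p) :=
    Finset.decidableDforallFinset
  unfold Good; infer_instance

lemma fact_M : ∀ a b : D8, Nc a → Nc b → ¬ Same a b → Good a b := by decide +kernel

variable {G : Type*} [Group G] [Finite G]

/-- A subgroup containing the Sylow 2-subgroup `S` contains an element normalising `S` as soon as
it contains its square. -/
lemma mem_of_sq_mem (S : Sylow 2 G) {T : Subgroup G} (hST : (S : Subgroup G) ≤ T) {n : G}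
    (hn : n ∈ Subgroup.normalizer ((S : Subgroup G) : Set G)) (h2 : n * n ∈ T) : n ∈ T := by
  have : Fact (Nat.Prime 2) := ⟨Nat.prime_two⟩
  obtain ⟨k, m, hm, hkm⟩ := Nat.exists_eq_pow_mul_and_not_dvd (orderOf_pos n).ne' 2 (by norm_num)
  have hP : IsPGroup 2 ↥(Subgroup.zpowers (n ^ m)) := by
    apply IsPGroup.of_card (n := k)
    rw [Nat.card_zpowers, orderOf_pow, hkm, Nat.gcd_mul_left_left, Nat.mul_div_cancel]
    exact Nat.pos_of_ne_zero (by rintro rfl; exact hm (dvd_zero 2))
  have hnorm : Subgroup.zpowers (n ^ m) ≤ Subgroup.normalizer ((S : Subgroup G) : Set G) :=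
    Subgroup.zpowers_le.2 (pow_mem hn m)
  have hsup : IsPGroup 2 ↥((S : Subgroup G) ⊔ Subgroup.zpowers (n ^ m)) :=
    IsPGroup.to_sup_of_normal_left' S.2 hP hnorm
  have heq := S.3 hsup le_sup_left
  have hmem : n ^ m ∈ T := by
    apply hST
    rw [← heq]
    exact Subgroup.mem_sup_right (Subgroup.mem_zpowers _)
  obtain ⟨j, rfl⟩ : ∃ j, m = 2 * j + 1 := ⟨m / 2, by omega⟩
  rw [pow_succ, pow_mul, pow_two] at hmem
  exact (Subgroup.mul_mem_cancel_left T (pow_mem h2 j)).1 hmem

section model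
variable (S : Sylow 2 G) (f : D8 →* G) (hf : Function.Injective f) (hS : f.range = (S : Subgroup G))

/-- The image of the centraliser of `y`. -/
def A (y : D8) : Subgroup G := (Subgroup.centralizer ({y} : Set D8)).map f

include hf in
omit [Finite G] in
lemma mem_A {y p : D8} : f p ∈ A f y ↔ p * y = y * p := by
  rw [A, Subgroup.mem_map_iff_mem hf, Subgroup.mem_centralizer_singleton_iff]

include hS in
omit [Finite G] in
lemma A_le (y : D8) : A f y ≤ (S : Subgroup G) := hS ▸ Subgroup.map_le_range _ _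

omit [Finite G] in
lemma A_same {y y' : D8} (h : Same y y') : A f y = A f y' := by
  unfold A
  congr 1
  ext p
  simp only [Subgroup.mem_centralizer_singleton_iff]
  exact h p

include hf hS in
omit [Finite G] in
lemma le_normalizer_A {y : D8} (hy : Nc y) :
    (S : Subgroup G) ≤ Subgroup.normalizer (A f y : Set G) := by
  rw [← hS]
  rintro _ ⟨p, rfl⟩
  have key : ∀ p q : D8, q * y = y * q → p * q * p⁻¹ * y = y * (p * q * p⁻¹) := by
    revert hy
    revert y
    decide +kernel
  rw [Subgroup.mem_normalizer_iff]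
  intro x
  constructor
  · rintro ⟨q, hq, rfl⟩
    rw [← map_inv, ← map_mul, ← map_mul]
    exact (mem_A f hf).2 (key p q (Subgroup.mem_centralizer_singleton_iff.1 hq))
  · rintro ⟨q, hq, hqx⟩
    have : x = f (p⁻¹ * q * p⁻¹⁻¹) := by
      rw [map_mul, map_mul, hqx, inv_inv, map_inv]
      group
    rw [this]
    exact (mem_A f hf).2 (key p⁻¹ q (Subgroup.mem_centralizer_singleton_iff.1 hq))

include hf hS in
omit [Finite G] in
/-- A conjugate of some `A y` inside `S` is some `A y'`. -/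
lemma image_A {y : D8} (hy : Nc y) (g : G) (hg : ∀ x ∈ A f y, g * x * g⁻¹ ∈ (S : Subgroup G)) :
    ∃ y', Nc y' ∧ (A f y).map (MulAut.conj g : G →* G) = A f y' := by
  classical
  have hch : ∀ p : D8, p * y = y * p → ∃ q : D8, f q = g * f p * g⁻¹ := by
    intro p hp
    have := hg _ ((mem_A f hf).2 hp)
    rw [← hS] at this
    exact this
  choose σ hσ using hch
  set C := Finset.univ.filter fun p : D8 => p * y = y * p with hC
  have hmemC : ∀ {p}, p ∈ C ↔ p * y = y * p := by simp [hC]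
  let I := C.attach.image fun p => σ p.1 (hmemC.1 p.2)
  have hI8 : I.card = 8 := by
    rw [Finset.card_image_of_injective, Finset.card_attach, hC, fact_card y hy]
    intro p q h
    have h' := congrArg f h
    simp only [hσ] at h'
    exact Subtype.ext (hf (mul_left_cancel (mul_right_cancel h')))
  have hprop : ∀ q ∈ I, q * q = 1 ∧ ∀ q' ∈ I, q * q' = q' * q := by
    intro q hq
    obtain ⟨p, -, rfl⟩ := Finset.mem_image.1 hq
    obtain ⟨hp2, hpc⟩ := fact_abel y hy p.1 (hmemC.1 p.2)
    refine ⟨hf ?_, fun q' hq' => ?_⟩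
    · rw [map_mul, hσ, map_one]
      calc g * f p.1 * g⁻¹ * (g * f p.1 * g⁻¹) = g * f (p.1 * p.1) * g⁻¹ := by rw [map_mul]; group
        _ = 1 := by rw [hp2, map_one]; group
    · obtain ⟨p', -, rfl⟩ := Finset.mem_image.1 hq'
      apply hf
      rw [map_mul, map_mul, hσ, hσ]
      calc g * f p.1 * g⁻¹ * (g * f p'.1 * g⁻¹) = g * f (p.1 * p'.1) * g⁻¹ := by rw [map_mul]; group
        _ = g * f (p'.1 * p.1) * g⁻¹ := by rw [hpc p'.1 (hmemC.1 p'.2)]
        _ = _ := by rw [map_mul]; group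
  obtain ⟨y', hy'I, hy'⟩ : ∃ y' ∈ I, ¬ Cen y' := by
    by_contra hno
    push Not at hno
    have : I.card ≤ (Finset.univ.filter fun p : D8 => Cen p).card :=
      Finset.card_le_card fun q hq => by simp [hno q hq]
    rw [hI8, fact_cen_card] at this
    omega
  have hnc : Nc y' := ⟨(hprop y' hy'I).1, hy'⟩
  have hsub : I = Finset.univ.filter fun p : D8 => p * y' = y' * p :=
    Finset.eq_of_subset_of_card_le (fun q hq => by simp [(hprop q hq).2 y' hy'I])
      (by rw [hI8, fact_card y' hnc])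
  refine ⟨y', hnc, le_antisymm ?_ ?_⟩
  · rintro _ ⟨_, ⟨p, hp, rfl⟩, rfl⟩
    have hp' := Subgroup.mem_centralizer_singleton_iff.1 hp
    have hin : σ p hp' ∈ I := Finset.mem_image.2 ⟨⟨p, hmemC.2 hp'⟩, Finset.mem_attach _ _, rfl⟩
    rw [hsub, Finset.mem_filter] at hin
    show g * f p * g⁻¹ ∈ _
    rw [← hσ p hp']
    exact (mem_A f hf).2 hin.2
  · rintro _ ⟨q, hq, rfl⟩
    have hin : q ∈ I := by
      rw [hsub, Finset.mem_filter]
      exact ⟨Finset.mem_univ _, Subgroup.mem_centralizer_singleton_iff.1 hq⟩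
    obtain ⟨p, -, rfl⟩ := Finset.mem_image.1 hin
    exact ⟨f p.1, (mem_A f hf).2 (hmemC.1 p.2), (hσ _ _).symm⟩

include hf hS in
/-- Fusion of a noncentral involution into the centre happens in the normaliser of `A y`. -/
lemma fuse_in_normalizer {y z : D8} (hy : Nc y) (hz : Cen z) (g : G) (hg : g * f y * g⁻¹ = f z) :
    ∃ g', g' * f y * g'⁻¹ = f z ∧ g' ∈ Subgroup.normalizer (A f y : Set G) := by
  have : Fact (Nat.Prime 2) := ⟨Nat.prime_two⟩
  set C := Subgroup.centralizer ({f z} : Set G) with hC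
  have hSC : (S : Subgroup G) ≤ C := by
    rw [← hS]
    rintro _ ⟨p, rfl⟩
    rw [Subgroup.mem_centralizer_singleton_iff, ← map_mul, hz p, map_mul]
  set B := (A f y).map (MulAut.conj g : G →* G) with hB
  have hBC : B ≤ C := by
    rintro _ ⟨_, ⟨p, hp, rfl⟩, rfl⟩
    rw [Subgroup.mem_centralizer_singleton_iff]
    show g * f p * g⁻¹ * f z = f z * (g * f p * g⁻¹)
    rw [← hg]
    calc g * f p * g⁻¹ * (g * f y * g⁻¹) = g * f (p * y) * g⁻¹ := by rw [map_mul]; group
      _ = g * f (y * p) * g⁻¹ := by rw [Subgroup.mem_centralizer_singleton_iff.1 hp]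
      _ = _ := by rw [map_mul]; group
  have hBP : IsPGroup 2 ↥(B.subgroupOf C) := by
    refine IsPGroup.of_equiv ?_ (Subgroup.subgroupOfEquivOfLe hBC).symm
    exact (S.2.to_le (A_le S f hS y)).map _
  obtain ⟨P, hP⟩ := hBP.exists_le_sylow
  obtain ⟨h, hh⟩ := MulAction.exists_smul_eq ↥C P (S.subtype hSC)
  set g' := (h : G) * g with hg'
  have hfix : g' * f y * g'⁻¹ = f z := by
    have hc := Subgroup.mem_centralizer_singleton_iff.1 h.2
    calc g' * f y * g'⁻¹ = (h : G) * (g * f y * g⁻¹) * (h : G)⁻¹ := by rw [hg']; group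
      _ = f z := by rw [hg, hc]; group
  have hin : ∀ x ∈ A f y, g' * x * g'⁻¹ ∈ (S : Subgroup G) := by
    intro x hx
    have h1 : (⟨g * x * g⁻¹, hBC ⟨x, hx, rfl⟩⟩ : ↥C) ∈ (P : Subgroup ↥C) :=
      hP (Subgroup.mem_subgroupOf.2 ⟨x, hx, rfl⟩)
    have h2 : h * ⟨g * x * g⁻¹, hBC ⟨x, hx, rfl⟩⟩ * h⁻¹ ∈ ((S.subtype hSC : Sylow 2 ↥C) : Subgroup ↥C) := by
      rw [← hh, Sylow.coe_subgroup_smul]
      exact ⟨_, h1, rfl⟩
    rw [Sylow.coe_subtype, Subgroup.mem_subgroupOf] at h2
    simpa [hg', mul_assoc] using h2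
  refine ⟨g', hfix, ?_⟩
  obtain ⟨y', hy', hAy'⟩ := image_A S f hf hS hy g' hin
  set T' := Subgroup.normalizer (A f y' : Set G) with hT'
  suffices hAA : A f y' = A f y by
    rw [Subgroup.mem_normalizer_iff_map_conj_eq, hAy', hAA]
  have hgS : ((g' • S : Sylow 2 G) : Subgroup G) ≤ T' := by
    rw [Sylow.coe_subgroup_smul]
    rintro _ ⟨s, hs, rfl⟩
    rw [hT', Subgroup.mem_normalizer_iff_map_conj_eq, ← hAy', Subgroup.map_map]
    have hsn := Subgroup.mem_normalizer_iff_map_conj_eq.1 (le_normalizer_A S f hf hS hy hs)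
    conv_rhs => rw [← hsn, Subgroup.map_map]
    congr 1
    ext x
    simp [mul_assoc, mul_inv_rev]
  obtain ⟨k, hk⟩ := MulAction.exists_smul_eq ↥T' ((g' • S).subtype hgS)
    (S.subtype (le_normalizer_A S f hf hS hy'))
  have hkS : (k : G) • g' • S = S := by
    rw [Sylow.smul_subtype] at hk
    exact Sylow.subtype_injective hk
  set n := (k : G) * g' with hn
  have hnS : n ∈ Subgroup.normalizer ((S : Subgroup G) : Set G) :=
    Sylow.smul_eq_iff_mem_normalizer.1 (by rw [hn, mul_smul]; exact hkS)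
  have hnA : (A f y).map (MulAut.conj n : G →* G) = A f y' := by
    have hkn := Subgroup.mem_normalizer_iff_map_conj_eq.1 k.2
    conv_rhs => rw [← hkn, ← hAy', Subgroup.map_map]
    congr 1
    ext x
    simp [hn, mul_assoc, mul_inv_rev]
  obtain ⟨y'', hy'', hAy''⟩ := image_A S f hf hS hy' n
    (fun x hx => (Subgroup.mem_normalizer_iff.1 hnS x).1 (A_le S f hS y' hx))
  rcases fact_three y y' y'' hy hy' hy'' with hs | hs | hs
  · exact (A_same f hs).symm
  · have h2 : n * n ∈ Subgroup.normalizer (A f y : Set G) := by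
      rw [Subgroup.mem_normalizer_iff_map_conj_eq]
      conv_rhs => rw [A_same f hs, ← hAy'', ← hnA, Subgroup.map_map]
      congr 1
      ext x
      simp [mul_assoc, mul_inv_rev]
    have := mem_of_sq_mem S (le_normalizer_A S f hf hS hy) hnS h2
    rw [← hnA, Subgroup.mem_normalizer_iff_map_conj_eq.1 this]
  · rw [← A_same f hs, ← hnA] at hAy''
    have := Subgroup.map_injective (f := (MulAut.conj n : G →* G)) (MulAut.conj n).injective hAy''
    rwa [hnA] at this

include hf hS in
/-- Distinct central involutions of `S` are not conjugate in `G`. -/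
lemma central_eq {z z' : D8} (hz : Cen z) (hz' : Cen z') (h : IsConj (f z) (f z')) : z = z' := by
  have : Fact (Nat.Prime 2) := ⟨Nat.prime_two⟩
  obtain ⟨g, hg⟩ := isConj_iff.1 h
  have hcent : ∀ w : D8, Cen w → f w ∈ Subgroup.centralizer ((S : Subgroup G) : Set G) := by
    intro w hw
    rw [Subgroup.mem_centralizer_iff]
    intro x hx
    rw [SetLike.mem_coe, ← hS] at hx
    obtain ⟨p, rfl⟩ := hx
    rw [← map_mul, hw p, map_mul]
  obtain ⟨n0, hn0, hn0e⟩ := S.conj_eq_normalizer_conj_of_mem_centralizer (f z) g⁻¹ (hcent z hz)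
    (by rw [inv_inv, hg]; exact hcent z' hz')
  rw [inv_inv, hg] at hn0e
  set n := n0⁻¹ with hn
  have hnN : n ∈ Subgroup.normalizer ((S : Subgroup G) : Set G) := inv_mem hn0
  have hne : n * f z * n⁻¹ = f z' := by rw [hn, inv_inv]; exact hn0e.symm
  have himg : ∀ p : D8, ∃ q : D8, f q = n * f p * n⁻¹ := by
    intro p
    have hp : f p ∈ (S : Subgroup G) := hS ▸ ⟨p, rfl⟩
    have := (Subgroup.mem_normalizer_iff.1 hnN (f p)).1 hp
    rw [← hS] at this
    exact this
  choose φ hφ using himg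
  have hinj : Function.Injective φ := fun p q e => by
    have e' := congrArg f e
    rw [hφ, hφ] at e'
    exact hf (mul_left_cancel (mul_right_cancel e'))
  have hmul : ∀ p q, φ (p * q) = φ p * φ q := fun p q => hf (by
    rw [map_mul, hφ, hφ, hφ, map_mul]; group)
  have hone : φ 1 = 1 := hf (by rw [hφ, map_one]; group)
  have hsurj : Function.Surjective φ := Finite.surjective_of_injective hinj
  have hcenφ : ∀ w, Cen w → Cen (φ w) := by
    intro w hw q
    obtain ⟨q, rfl⟩ := hsurj q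
    rw [← hmul, hw q, hmul]
  obtain ⟨p, hp⟩ := fact_c
  have hc : φ cD = cD := by
    rw [← hp, hmul]
    rcases fact_sq (φ p) with h1 | h1
    · exfalso
      have : φ cD = φ 1 := by rw [← hp, hmul, h1, hone]
      exact fact_ne.1 (hinj this)
    · rw [h1, hp]
  have ht : φ tD = tD := by
    rcases fact_cen _ (hcenφ tD fact_cen'.2.1) with h1 | h1 | h1 | h1
    · exact absurd (hinj (h1.trans hone.symm)) fact_ne.2.1
    · exact absurd (hinj (h1.trans hc.symm)) fact_ne.2.2.1
    · exact h1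
    · have h2 : n * n ∈ Subgroup.centralizer ({f tD} : Set G) := by
        rw [Subgroup.mem_centralizer_singleton_iff]
        have e : f tD = (n * n) * f tD * (n * n)⁻¹ := by
          calc f tD = f (φ (tD * cD)) := by rw [hmul, h1, hc, mul_assoc, fact_ord.1, mul_one]
            _ = n * f (φ tD) * n⁻¹ := by rw [hφ, h1]
            _ = _ := by rw [hφ]; group
        conv_rhs => rw [e]
        group
      have hle : (S : Subgroup G) ≤ Subgroup.centralizer ({f tD} : Set G) := by
        rw [← hS]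
        rintro _ ⟨p, rfl⟩
        rw [Subgroup.mem_centralizer_singleton_iff, ← map_mul, fact_cen'.2.1 p, map_mul]
      have h3 := Subgroup.mem_centralizer_singleton_iff.1 (mem_of_sq_mem S hle hnN h2)
      apply hf
      rw [hφ, h3]
      group
  apply hf
  rw [← hne, ← hφ]
  congr 1
  rcases fact_cen z hz with rfl | rfl | rfl | rfl
  · exact hone.symm
  · exact hc.symm
  · exact ht.symm
  · rw [hmul, ht, hc]

include hf hS in
lemma no_index_two [IsSimpleGroup G] (M : Subgroup G) [M.Normal] (hM : M.index = 2) : False := by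
  rcases Subgroup.Normal.eq_bot_or_eq_top (H := M) inferInstance with rfl | rfl
  · rw [Subgroup.index_bot] at hM
    have h1 : Nat.card D8 ≤ Nat.card G := Nat.card_le_card_of_injective f hf
    have h2 : Nat.card D8 = 16 := by rw [Nat.card_eq_fintype_card]; rfl
    omega
  · simp at hM

include hf hS in
lemma fused_into [IsSimpleGroup G] (M : Subgroup D8) (hM : Nat.card M = 8) (y : D8) (hy : y * y = 1)
    (hyM : y ∉ M) : ∃ m ∈ M, m * m = 1 ∧ m ≠ 1 ∧ IsConj (f y) (f m) := by
  have hy1 : y ≠ 1 := fun e => hyM (e ▸ M.one_mem)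
  have hord : orderOf (f y) = 2 := by
    rw [orderOf_injective _ hf]
    exact orderOf_eq_prime (by rw [pow_two, hy]) hy1
  have hrel : (M.map f).relIndex (S : Subgroup G) = 2 := by
    have h := Subgroup.relIndex_mul_relIndex ⊥ (M.map f) (S : Subgroup G) bot_le
      (hS ▸ Subgroup.map_le_range _ _)
    rw [Subgroup.relIndex_bot_left, Subgroup.relIndex_bot_left, Subgroup.card_map_of_injective hf,
      hM] at h
    have h16 : Nat.card ↥(S : Subgroup G) = 16 := by
      rw [← hS, ← Nat.card_congr (MonoidHom.ofInjective hf).toEquiv, Nat.card_eq_fintype_card]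
      rfl
    omega
  rcases Cfsg.Agent.S0111.result S (M.map f) (hS ▸ Subgroup.map_le_range _ _) hrel (f y) hord
    (hS ▸ ⟨y, rfl⟩) (fun h => hyM ((Subgroup.mem_map_iff_mem hf).1 h)) with ⟨K, hK, hKi, -⟩ | ⟨g, hg⟩
  · exact (no_index_two S f hf hS K hKi).elim
  · obtain ⟨m, hm, hme⟩ := hg
    refine ⟨m, hm, hf ?_, ?_, isConj_iff.2 ⟨g, hme.symm⟩⟩
    · rw [map_mul, hme, map_one]
      calc g * f y * g⁻¹ * (g * f y * g⁻¹) = g * f (y * y) * g⁻¹ := by rw [map_mul]; group
        _ = 1 := by rw [hy, map_one]; group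
    · rintro rfl
      rw [map_one] at hme
      apply hy1
      apply hf
      rw [map_one]
      exact conj_eq_one_iff.1 hme.symm

/-- The abelian maximal subgroup. -/
def M0 : Subgroup D8 where
  carrier := {p | ∃ k, p.2 = DihedralGroup.r k}
  one_mem' := ⟨0, rfl⟩
  mul_mem' := by rintro _ _ ⟨k, hk⟩ ⟨l, hl⟩; exact ⟨k + l, by simp [hk, hl]⟩
  inv_mem' := by rintro _ ⟨k, hk⟩; exact ⟨-k, by simp [hk, DihedralGroup.inv_r]⟩

lemma card_M0 : Nat.card M0 = 8 := by
  classical
  rw [Nat.card_eq_fintype_card]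
  have : (Finset.univ.filter fun p : D8 => ∃ k, p.2 = DihedralGroup.r k).card = 8 := by decide +kernel
  rw [← this, Fintype.card_subtype]
  congr 1
  ext p
  simp only [Finset.mem_filter]
  rfl

include hf hS in
/-- Some noncentral involution commuting with `y` is fused to the square. -/
lemma exists_fused_c [IsSimpleGroup G] {y : D8} (hy : Nc y) :
    ∃ y', Nc y' ∧ Same y y' ∧ IsConj (f y') (f cD) := by
  by_contra hno
  push Not at hno
  obtain ⟨z, hzM, hz2, hz1, hcj⟩ := fused_into S f hf hS M0 card_M0 y hy.1 (fun ⟨k, hk⟩ => by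
    rcases fact_out y hy.1 with h | h
    · exact hy.2 h
    · exact h k hk)
  have hz : Cen z := by
    obtain ⟨k, hk⟩ := hzM
    exact (fact_out z hz2).resolve_right (fun h => h k hk)
  obtain ⟨g0, hg0⟩ := isConj_iff.1 hcj
  obtain ⟨g, hg, hgN⟩ := fuse_in_normalizer S f hf hS hy hz g0 hg0
  have hgc : g * f cD * g⁻¹ = f cD := by
    have := (Subgroup.mem_normalizer_iff.1 hgN (f cD)).1 ((mem_A f hf).2 ((fact_cen'.1 y).symm))
    obtain ⟨u, hu, hue⟩ := this
    rw [← hue]
    congr 1
    have hu' := Subgroup.mem_centralizer_singleton_iff.1 hu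
    have hcu : IsConj (f u) (f cD) := (isConj_iff.2 ⟨g, hue.symm⟩ : IsConj (f cD) (f u)).symm
    by_cases huC : Cen u
    · exact central_eq S f hf hS huC fact_cen'.1 hcu
    · have hun : Nc u := ⟨(fact_abel y hy u hu').1, huC⟩
      exact absurd hcu (hno u hun (fact_same y u hy hun hu'))
  obtain ⟨p, hp⟩ := fact_conj y hy
  have h1 : IsConj (f y) (f (y * cD)) := isConj_iff.2 ⟨f p, by rw [← hp]; simp⟩
  have h2 : IsConj (f (y * cD)) (f (z * cD)) := isConj_iff.2 ⟨g, by
    rw [map_mul, map_mul, ← hg]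
    conv_rhs => rw [← hgc]
    group⟩
  have h3 : IsConj (f z) (f (z * cD)) := (hcj.symm.trans h1).trans h2
  have hzc : Cen (z * cD) := fun q => by rw [← mul_assoc, hz q, mul_assoc, fact_cen'.1 q, ← mul_assoc]
  exact fact_ne.1 (left_eq_mul.1 (central_eq S f hf hS hz hzc h3))

include hf hS in
lemma contradiction [IsSimpleGroup G] : False := by
  obtain ⟨a, ha, haS, hac⟩ := exists_fused_c S f hf hS fact_base.1
  obtain ⟨b, hb, hbS, hbc⟩ := exists_fused_c S f hf hS fact_base.2.1
  have hab : ¬ Same a b := fun h => fact_base.2.2 fun p => (haS p).trans ((h p).trans (hbS p).symm)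
  obtain ⟨hmul, hinv, hcard, htM, hinvol⟩ := fact_M a b ha hb hab
  let M : Subgroup D8 :=
    { carrier := ↑(Mlist a b)
      one_mem' := by simp [Mlist]
      mul_mem' := fun hp hq => hmul _ hp _ hq
      inv_mem' := fun hp => hinv _ hp }
  have hM : Nat.card M = 8 := by
    rw [← hcard, ← Nat.card_eq_finsetCard]
    rfl
  obtain ⟨m, hm, hm2, hm1, hcj⟩ := fused_into S f hf hS M hM tD fact_ord.2 htM
  have hmc : IsConj (f m) (f cD) := by
    rcases hinvol m hm hm2 with h | h | ⟨q, h⟩ | ⟨q, h⟩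
    · exact absurd h hm1
    · rw [h]
    · exact (isConj_iff.2 ⟨f q, by rw [← h]; simp⟩ : IsConj (f a) (f m)).symm.trans hac
    · exact (isConj_iff.2 ⟨f q, by rw [← h]; simp⟩ : IsConj (f b) (f m)).symm.trans hbc
  exact fact_ne.2.2.1 (central_eq S f hf hS fact_cen'.2.1 fact_cen'.1 (hcj.trans hmc))

end model

/-- A finite group whose Sylow 2-subgroups are isomorphic to the direct product of a group of order 2 and the dihedral group of order 8 is not a non-abelian simple group. -/
theorem result {G : Type*} [Group G] [Finite G] (S : Sylow 2 G) (hS : Nonempty (↥(S : Subgroup G) ≃* Multiplicative (ZMod 2) × DihedralGroup 4))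
    [IsSimpleGroup G] (hG : ¬ IsMulCommutative G) : False := by
  obtain ⟨e⟩ := hS
  have hr : ((S : Subgroup G).subtype.comp e.symm.toMonoidHom).range = (S : Subgroup G) := by
    rw [MonoidHom.range_comp, MonoidHom.range_eq_top.2 e.symm.surjective, ← MonoidHom.range_eq_map,
      Subgroup.range_subtype]
  exact contradiction S _ (Subtype.val_injective.comp e.symm.injective) hr

end Cfsg.Agent.S3309
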