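import Mathlib
import Cfsg.Statements.S3312
import Cfsg.Agent.Lib.InvChar.SectionEigen
import Cfsg.Agent.S0942

set_option autoImplicit false
open Cfsg

namespace Cfsg.Agent.S3312


open Cfsg.Agent.Lib.Involutions

private lemma comm_W {G : Type*} [Group G] {T : Sylow 2 G} {W : Subgroup G}
    (hWZ : W ≤ (T : Subgroup G) ⊓ Subgroup.centralizer ((T : Subgroup G) : Set G))
    {w x : G} (hw : w ∈ W) (hx : x ∈ (T : Subgroup G)) : Commute x w :=
  Subgroup.mem_centralizer_iff.1 (hWZ hw).2 x hx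

/-- Two conjugates of `W` inside a subgroup are conjugate in it. -/
private lemma conj_in {G : Type*} [Group G] [Finite G] {T : Sylow 2 G} {W : Subgroup G}
    (hwc : Cfsg.IsWeaklyClosed W (T : Subgroup G)) (C : Subgroup G) (hW : W ≤ C) (g : G)
    (hg : ∀ w ∈ W, g * w * g⁻¹ ∈ C) :
    ∃ c ∈ C, W.map (MulAut.conj (c * g)).toMonoidHom = W := by
  have : Fact (Nat.Prime 2) := ⟨Nat.prime_two⟩
  obtain ⟨R, hR⟩ := ((T.2.to_le hwc.1).comap_subtype (K := C)).exists_le_sylow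
  obtain ⟨R', hR'⟩ := (((T.2.to_le hwc.1).map (MulAut.conj g).toMonoidHom).comap_subtype
    (K := C)).exists_le_sylow
  obtain ⟨c, hc⟩ := MulAction.exists_smul_eq C R' R
  obtain ⟨P, hP⟩ := (R.2.map C.subtype).exists_le_sylow
  obtain ⟨d, hd⟩ := MulAction.exists_smul_eq G P T
  have hdT : ∀ x : C, x ∈ (R : Subgroup C) → d * (x : G) * d⁻¹ ∈ (T : Subgroup G) := by
    intro x hx
    rw [← hd]
    exact ⟨(x : G), hP ⟨x, hx, rfl⟩, rfl⟩
  have h1 : W.map (MulAut.conj d).toMonoidHom = W := hwc.2 d (by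
    rintro _ ⟨w, hw, rfl⟩
    exact hdT ⟨w, hW hw⟩ (hR hw))
  have h2 : W.map (MulAut.conj (d * (c : G) * g)).toMonoidHom = W := hwc.2 _ (by
    rintro _ ⟨w, hw, rfl⟩
    have hcR : c * ⟨g * w * g⁻¹, hg w hw⟩ * c⁻¹ ∈ (R : Subgroup C) := by
      rw [← hc]; exact ⟨_, hR' ⟨w, hw, rfl⟩, rfl⟩
    have := hdT _ hcR
    show d * (c : G) * g * w * (d * (c : G) * g)⁻¹ ∈ _
    have e : d * (c : G) * g * w * (d * (c : G) * g)⁻¹
        = d * ((c : G) * (g * w * g⁻¹) * (c : G)⁻¹) * d⁻¹ := by group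
    rw [e]; exact this)
  refine ⟨c, c.2, ?_⟩
  apply Subgroup.map_injective (f := (MulAut.conj d).toMonoidHom) (MulAut.conj d).injective
  rw [h1, Subgroup.map_map]
  have e : (MulAut.conj d).toMonoidHom.comp (MulAut.conj ((c : G) * g)).toMonoidHom
      = (MulAut.conj (d * (c : G) * g)).toMonoidHom := by
    ext x; simp [mul_assoc]
  rw [e]; exact h2

/-- Conjugates of elements of `W` lying in `T` lie in `W`. -/
private lemma strong {G : Type*} [Group G] [Finite G] {T : Sylow 2 G} {W : Subgroup G}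
    (hWZ : W ≤ (T : Subgroup G) ⊓ Subgroup.centralizer ((T : Subgroup G) : Set G))
    (hwc : Cfsg.IsWeaklyClosed W (T : Subgroup G)) {z : G} (hz : z ∈ W) (g : G)
    (hg : g * z * g⁻¹ ∈ (T : Subgroup G)) : g * z * g⁻¹ ∈ W := by
  obtain ⟨c, hc, hcW⟩ := conj_in hwc (Subgroup.centralizer ({g * z * g⁻¹} : Set G))
    (fun w hw => Subgroup.mem_centralizer_singleton_iff.2 (comm_W hWZ hw hg).symm.eq) g
    (fun w hw => Subgroup.mem_centralizer_singleton_iff.2
      (((comm_W hWZ hw (hWZ hz).1).symm.map (MulAut.conj g).toMonoidHom).eq))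
  have h : c * g * z * (c * g)⁻¹ ∈ W := hcW.le ⟨z, hz, rfl⟩
  have hcc := Subgroup.mem_centralizer_singleton_iff.1 hc
  have e : c * g * z * (c * g)⁻¹ = g * z * g⁻¹ := by
    calc c * g * z * (c * g)⁻¹ = c * (g * z * g⁻¹) * c⁻¹ := by group
      _ = _ := by rw [hcc, mul_inv_cancel_right]
  exact e ▸ h

/-- A non-simplicity criterion by weak closure. Let T be a Sylow 2-subgroup of a finite group G, W a nontrivial subgroup of the centre of T that is weakly closed in T with respect to G, and t an involution of T outside W. Suppose that for every involution x in the coset Wt, W lies in O_{2',2}(C_G(x)), the preimage of O₂ of C_G(x)/O_{2'}(C_G(x)). Then G is not simple. -/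
theorem result {G : Type*} [Group G] [Finite G]
    (T : Sylow 2 G) (W : Subgroup G) (hW1 : W ≠ ⊥) (hWZ : W ≤ (T : Subgroup G) ⊓ Subgroup.centralizer ((T : Subgroup G) : Set G))
    (hwc : Cfsg.IsWeaklyClosed W (T : Subgroup G)) (t : G) (ht : orderOf t = 2) (htT : t ∈ (T : Subgroup G)) (htW : t ∉ W)
    (hcos : ∀ w ∈ W, orderOf (w * t) = 2 →
      W.subgroupOf (Subgroup.centralizer ({w * t} : Set G)) ≤ Cfsg.pPrimePCore 2 ↥(Subgroup.centralizer ({w * t} : Set G))) :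
    ¬ IsSimpleGroup G := by
  classical
  intro hsimp
  have : Fact (Nat.Prime 2) := ⟨Nat.prime_two⟩
  have hWT : ∀ w ∈ W, w ∈ (T : Subgroup G) := fun w hw => (hWZ hw).1
  haveI : Nontrivial ↥W := (Subgroup.nontrivial_iff_ne_bot W).2 hW1
  obtain ⟨z₀, hz₀⟩ := exists_prime_orderOf_dvd_card' (G := ↥W) 2
    (((T.2.to_le hwc.1).card_eq_or_dvd).resolve_left Finite.one_lt_card.ne')
  set z : G := (z₀ : G) with hzdef
  have hz : orderOf z = 2 := by rw [hzdef, Subgroup.orderOf_coe, hz₀]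
  have hzW : z ∈ W := z₀.2
  obtain ⟨M, hM⟩ := Cfsg.Agent.Lib.InvChar.exists_isPModular_two
  have : Nonempty {w : G // w ∈ W ∧ orderOf (w * t) = 2} := ⟨⟨1, W.one_mem, by rw [one_mul, ht]⟩⟩
  obtain ⟨χ, -, hne, hk⟩ := Cfsg.Agent.Lib.InvChar.exists_kernel_of_products M hM z
    (fun i : {w : G // w ∈ W ∧ orderOf (w * t) = 2} => i.1 * t) (fun i => i.2.2) (by
    rintro ⟨w, hw, hwt⟩ g
    set s := w * t with hs
    have hsT : s ∈ (T : Subgroup G) := mul_mem (hWT w hw) htT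
    set u := g⁻¹ * z * g with hu
    have hu2 : orderOf u = 2 := by
      rw [hu, show g⁻¹ * z * g = g⁻¹ * z * (g⁻¹)⁻¹ by rw [inv_inv], orderOf_conj_eq, hz]
    have hnodd : Even (orderOf (u * s)) := by
      rw [← Nat.not_odd_iff_even]
      intro hodd
      obtain ⟨k, hk⟩ := isConj_iff.1 (isConj_of_odd hu2 hwt hodd)
      have hsW : s ∈ W := by
        have e : s = (k * g⁻¹) * z * (k * g⁻¹)⁻¹ := by rw [← hk, hu]; group
        rw [e]
        exact strong hWZ hwc hzW _ (e ▸ hsT)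
      exact htW (by simpa [hs] using W.mul_mem (W.inv_mem hw) hsW)
    set a := u * s with ha
    obtain ⟨k, m, hmod, hord⟩ := Nat.exists_eq_two_pow_mul_odd (orderOf_pos a).ne'
    obtain ⟨e, he⟩ := hmod
    have hk : k ≠ 0 := by
      rintro rfl
      rw [pow_zero, one_mul] at hord
      rw [hord, he] at hnodd
      exact Nat.not_even_iff_odd.2 ⟨e, rfl⟩ hnodd
    set u' := a ^ (2 * (e : ℤ)) * u with hu'
    have hu'conj : u' = a ^ (e : ℤ) * u * (a ^ (e : ℤ))⁻¹ := by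
      rw [← zpow_neg, mul_assoc, ha, invol_mul_zpow hu2 hwt, neg_neg, ← mul_assoc, ← zpow_add,
        ← two_mul]
    have hu'2 : orderOf u' = 2 := by rw [hu'conj, orderOf_conj_eq, hu2]
    have hu's : u' * s = a ^ (m : ℤ) := by
      rw [hu', mul_assoc, ← ha, ← zpow_add_one, he]
      push_cast
      rfl
    set D := Subgroup.closure ({u', s} : Set G) with hD
    have hDp : IsPGroup 2 ↥D := by
      intro d
      refine ⟨k + 1, Subtype.ext ?_⟩
      have hb : (u' * s) ^ (2 ^ k : ℕ) = 1 := by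
        rw [hu's, zpow_natCast, ← pow_mul, mul_comm, ← hord, pow_orderOf_eq_one]
      rw [SubmonoidClass.coe_pow, Subgroup.coe_one, pow_succ']
      obtain ⟨j, hj | hj⟩ := (mem_closure_pair_invol hu'2 hwt (d : G)).1 d.2
      · rw [hj, mul_comm, pow_mul, ← zpow_natCast ((u' * s) ^ j) (2 ^ k), ← zpow_mul,
          mul_comm j, zpow_mul, zpow_natCast, hb, one_zpow, one_pow]
      · rw [hj, pow_mul, sq, zpow_mul_invol_sq hu'2 hwt, one_pow]
    obtain ⟨P, hP⟩ := hDp.exists_le_sylow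
    obtain ⟨d, hd⟩ := MulAction.exists_smul_eq G P T
    have hdT : ∀ x ∈ D, d * x * d⁻¹ ∈ (T : Subgroup G) := by
      intro x hx
      rw [← hd]
      exact ⟨x, hP hx, rfl⟩
    have hdu : d * u' * d⁻¹ ∈ W := by
      have h1 := hdT u' (Subgroup.subset_closure (Or.inl rfl))
      have e1 : d * u' * d⁻¹
          = (d * a ^ (e : ℤ) * g⁻¹) * z * (d * a ^ (e : ℤ) * g⁻¹)⁻¹ := by
        rw [hu'conj, hu]; group
      rw [e1] at h1 ⊢
      exact strong hWZ hwc hzW _ h1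
    have hdsT : d * s * d⁻¹ ∈ (T : Subgroup G) := hdT s (Subgroup.subset_closure (Or.inr rfl))
    have hcus : Commute u' s := by
      have := (comm_W hWZ hdu hdsT).symm.map (MulAut.conj d⁻¹).toMonoidHom
      simpa [mul_assoc] using this
    obtain ⟨c, hc, hcW⟩ := conj_in hwc (Subgroup.centralizer ({s} : Set G))
      (fun x hx => Subgroup.mem_centralizer_singleton_iff.2 (comm_W hWZ hx hsT).symm.eq) d⁻¹
      (fun x hx => Subgroup.mem_centralizer_singleton_iff.2 (by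
        have := (comm_W hWZ hx hdsT).symm.map (MulAut.conj d⁻¹).toMonoidHom
        simpa [mul_assoc] using this.eq))
    have hcs : c * s * c⁻¹ = s := by
      rw [Subgroup.mem_centralizer_singleton_iff.1 hc, mul_inv_cancel_right]
    set z' := c * u' * c⁻¹ with hz'
    have hz'W : z' ∈ W := by
      refine hcW.le ⟨d * u' * d⁻¹, hdu, ?_⟩
      show c * d⁻¹ * (d * u' * d⁻¹) * (c * d⁻¹)⁻¹ = c * u' * c⁻¹
      group
    set x' := z' * s with hx'
    have hxeq : x' = c * a ^ (m : ℤ) * c⁻¹ := by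
      rw [← hu's, hx', hz']
      calc c * u' * c⁻¹ * s = c * u' * c⁻¹ * (c * s * c⁻¹) := by rw [hcs]
        _ = _ := by group
    have hx2 : x' * x' = 1 := by
      have : u' * s * (u' * s) = 1 := by
        rw [hcus.symm.mul_mul_mul_comm, invol_mul_self hu'2, invol_mul_self hwt, one_mul]
      rw [hxeq, ← hu's]
      calc c * (u' * s) * c⁻¹ * (c * (u' * s) * c⁻¹) = c * (u' * s * (u' * s)) * c⁻¹ := by group
        _ = 1 := by rw [this]; group
    have hxne : x' ≠ 1 := by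
      intro h
      have : s = z'⁻¹ := eq_inv_of_mul_eq_one_right h
      refine htW ?_
      have h1 : w⁻¹ * s ∈ W := W.mul_mem (W.inv_mem hw) (this ▸ W.inv_mem hz'W)
      rwa [hs, inv_mul_cancel_left] at h1
    have hxord : orderOf x' = 2 := orderOf_eq_two_of_mul_self hx2 hxne
    have hx't : x' = z' * w * t := (mul_assoc z' w t).symm
    refine ⟨⟨z' * w, W.mul_mem hz'W hw, hx't ▸ hxord⟩, fun χ hχ => ?_⟩
    have hcl := Cfsg.Agent.Lib.Characters.irr_isClassFunction χ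
    have e1 : (χ : G → ℂ) (z * (g * s * g⁻¹)) = (χ : G → ℂ) (c * a * c⁻¹) := by
      rw [hcl a c, ← hcl a g]
      congr 1
      rw [ha, hu]; group
    show (χ : G → ℂ) (z * (g * (w * t) * g⁻¹)) = (χ : G → ℂ) (z' * w * t)
    rw [← hs, e1, ← hx't]
    set v := c * a ^ (-(2 * (e : ℤ))) * c⁻¹ with hv
    have hveq : c * a * c⁻¹ = x' * v := by
      rw [hxeq, hv, he]; push_cast; group
    rw [hveq]
    refine Cfsg.Agent.S0942.result 2 M hM x' ⟨1, by rw [pow_one, hxord]⟩ v ?_ χ hχ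
    set C := Subgroup.centralizer ({x'} : Set G) with hC
    have hcomT : ∀ y ∈ W, Commute y x' := fun y hy =>
      (comm_W hWZ hy (mul_mem (hWT z' hz'W) hsT)).symm
    have hzC : z' ∈ C := Subgroup.mem_centralizer_singleton_iff.2 (hcomT z' hz'W).eq
    have hyC : c * a ^ (e : ℤ) * c⁻¹ ∈ C := Subgroup.mem_centralizer_singleton_iff.2 (by
      rw [hxeq]
      exact (((Commute.refl a).zpow_zpow (e : ℤ) (m : ℤ)).map (MulAut.conj c).toMonoidHom).eq)
    have hmem : (⟨z', hzC⟩ : C) ∈ Cfsg.pPrimePCore 2 C := by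
      have := hcos (z' * w) (W.mul_mem hz'W hw) (hx't ▸ hxord)
      rw [← hx't] at this
      exact this (show (⟨z', hzC⟩ : C) ∈ W.subgroupOf C from hz'W)
    haveI : (Cfsg.pPrimeCore 2 C).Normal := (Cfsg.Agent.Lib.Cores.pPrimeCore_mem 2 C).1
    haveI : (Cfsg.pCore 2 (C ⧸ Cfsg.pPrimeCore 2 C)).Normal :=
      haveI := Cfsg.Agent.Lib.Cores.pCore_characteristic 2 (C ⧸ Cfsg.pPrimeCore 2 C)
      Subgroup.normal_of_characteristic _
    haveI hN : (Cfsg.pPrimePCore 2 C).Normal := Subgroup.normal_comap _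
    set y : C := ⟨_, hyC⟩ with hy
    have hvy : v = ((y⁻¹ * ⟨z', hzC⟩ * y * ⟨z', hzC⟩ : C) : G) := by
      show v = (c * a ^ (e : ℤ) * c⁻¹)⁻¹ * z' * (c * a ^ (e : ℤ) * c⁻¹) * z'
      have e2 : (c * a ^ (e : ℤ) * c⁻¹)⁻¹ * z' * (c * a ^ (e : ℤ) * c⁻¹) = c * u * c⁻¹ := by
        rw [hz', hu'conj]; group
      rw [e2, hv, hz', hu']
      have h3 : u * (a ^ (2 * (e : ℤ)) * u) = a ^ (-(2 * (e : ℤ))) := by
        rw [← mul_assoc, ha, invol_mul_zpow hu2 hwt, mul_assoc, invol_mul_self hu2, mul_one]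
      calc c * a ^ (-(2 * (e : ℤ))) * c⁻¹
          = c * (u * (a ^ (2 * (e : ℤ)) * u)) * c⁻¹ := by rw [h3]
        _ = _ := by group
    have hvN : (y⁻¹ * ⟨z', hzC⟩ * y * ⟨z', hzC⟩ : C) ∈ Cfsg.pPrimePCore 2 C := by
      refine mul_mem ?_ hmem
      have := hN.conj_mem _ hmem y⁻¹
      rwa [inv_inv] at this
    refine Subgroup.mem_map.2 ⟨(y⁻¹ * ⟨z', hzC⟩ * y * ⟨z', hzC⟩ : C), ?_, hvy.symm⟩
    set y₀ := (y⁻¹ * ⟨z', hzC⟩ * y * ⟨z', hzC⟩ : C) with hy₀
    have hpow : y₀ ^ m = 1 := Subtype.ext (by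
      rw [SubmonoidClass.coe_pow, ← hvy, Subgroup.coe_one, hv, conj_pow]
      have ha2 : a ^ (2 * (m : ℤ)) = 1 := by
        have h2 : a ^ (m : ℤ) * a ^ (m : ℤ) = 1 := by
          rw [← hu's, hcus.symm.mul_mul_mul_comm, invol_mul_self hu'2, invol_mul_self hwt, one_mul]
        rw [two_mul, zpow_add, h2]
      rw [← zpow_natCast (a ^ (-(2 * (e : ℤ)))) m, ← zpow_mul,
        show -(2 * (e : ℤ)) * (m : ℤ) = 2 * (m : ℤ) * -(e : ℤ) by ring, zpow_mul, ha2, one_zpow,
        mul_one, mul_inv_cancel])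
    have hπ : QuotientGroup.mk' (Cfsg.pPrimeCore 2 C) y₀ = 1 := by
      obtain ⟨j, hj⟩ := IsPGroup.iff_orderOf.1
        (Cfsg.Agent.Lib.Cores.pCore_isPGroup 2 (C ⧸ Cfsg.pPrimeCore 2 C)) ⟨_, hvN⟩
      rw [← Subgroup.orderOf_coe] at hj
      have hd : orderOf (QuotientGroup.mk' (Cfsg.pPrimeCore 2 C) y₀) ∣ m := by
        refine orderOf_dvd_of_pow_eq_one ?_
        rw [← map_pow, hpow, map_one]
      rw [← orderOf_eq_one_iff]
      refine Nat.eq_one_of_dvd_coprimes (a := 2 ^ j) (b := m) ?_ hj.dvd hd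
      exact (Nat.coprime_two_left.2 ⟨e, he⟩).pow_left j
    exact (QuotientGroup.eq_one_iff y₀).1 hπ)
  apply hne
  refine Subtype.ext ?_
  set N := Cfsg.Agent.Lib.Characters.charKernel (Cfsg.Agent.Lib.Characters.irr_isCharacter χ)
  have hzN : z ∈ N := hk
  have hN : N = ⊤ := (inferInstance : N.Normal).eq_bot_or_eq_top.resolve_left fun h =>
    invol_ne_one hz (Subgroup.mem_bot.1 (h ▸ hzN))
  by_contra hne'
  obtain ⟨g, hg⟩ := Cfsg.Agent.Lib.Characters.IsIrrCharacter.exists_ne_apply_one χ.2 hne'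
  exact hg (show g ∈ N from hN ▸ Subgroup.mem_top g)

end Cfsg.Agent.S3312
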