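import Cfsg.Statements.S3313
import Cfsg.Agent.Lib.HallJankoOrder.Extra
import Cfsg.Agent.Lib.HallJankoOrder.Count
import Cfsg.Agent.Lib.Components.GenFitting
import Cfsg.Agent.Lib.LocalEven.PCore
import Cfsg.Agent.S0213

set_option autoImplicit false
open Cfsg

namespace Cfsg.Agent.S3313

open Cfsg.Agent.Lib Cfsg.Agent.Lib.HallJankoOrder

/-- The order of a simple group with the involution pattern of the Hall–Janko group. Let G be a non-abelian finite simple group with exactly two conjugacy classes of involutions, represented by z and t, such that: F*(C_G(z)) is an extraspecial 2-group; Q = O₂(C_G(z)) has order 32 and C_G(z) is the semidirect product of Q by a subgroup isomorphic to A₅; every involution of Q is conjugate to z and every other involution of C_G(z) is conjugate to t; C_G(t) is an internal direct product V × B with V a four-group containing t and B ≅ A₅; every involution of B is conjugate to z and every other involution of C_G(t) is conjugate to t. Then |G| = 604800. -/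
theorem result {G : Type*} [Group G] [Finite G]
    [IsSimpleGroup G] (hna : ¬ IsMulCommutative G) (z t : G) (hz : orderOf z = 2) (ht : orderOf t = 2)
    (hzt : ¬ IsConj z t) (hcl : ∀ x : G, orderOf x = 2 → IsConj x z ∨ IsConj x t)
    (hex : Cfsg.IsExtraspecial 2 ↥(Cfsg.generalizedFittingSubgroup ↥(Subgroup.centralizer ({z} : Set G))))
    (hQ : Nat.card ↥(Cfsg.pCore 2 ↥(Subgroup.centralizer ({z} : Set G))) = 32)
    (K : Subgroup G) (hK : Nonempty (↥K ≃* alternatingGroup (Fin 5)))
    (hKC : K ⊔ (Cfsg.pCore 2 ↥(Subgroup.centralizer ({z} : Set G))).map (Subgroup.centralizer ({z} : Set G)).subtype = Subgroup.centralizer ({z} : Set G))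
    (hKQ : K ⊓ (Cfsg.pCore 2 ↥(Subgroup.centralizer ({z} : Set G))).map (Subgroup.centralizer ({z} : Set G)).subtype = ⊥)
    (hQz : ∀ x ∈ (Cfsg.pCore 2 ↥(Subgroup.centralizer ({z} : Set G))).map (Subgroup.centralizer ({z} : Set G)).subtype, orderOf x = 2 → IsConj x z)
    (hCz : ∀ x ∈ Subgroup.centralizer ({z} : Set G), orderOf x = 2 →
      x ∉ (Cfsg.pCore 2 ↥(Subgroup.centralizer ({z} : Set G))).map (Subgroup.centralizer ({z} : Set G)).subtype → IsConj x t)
    (V B : Subgroup G) (hVB : Cfsg.IsInternalDirectProduct V B (Subgroup.centralizer ({t} : Set G)))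
    (hV : Nat.card ↥V = 4) (hV2 : ∀ v ∈ V, v ^ 2 = 1) (htV : t ∈ V) (hB : Nonempty (↥B ≃* alternatingGroup (Fin 5)))
    (hBz : ∀ x ∈ B, orderOf x = 2 → IsConj x z)
    (hCt : ∀ x ∈ Subgroup.centralizer ({t} : Set G), orderOf x = 2 → x ∉ B → IsConj x t) :
    Nat.card G = 604800 := by
  classical
  haveI := Fintype.ofFinite G
  haveI : Fact (Nat.Prime 2) := ⟨Nat.prime_two⟩
  set C := Subgroup.centralizer ({z} : Set G) with hCdef
  obtain ⟨eK⟩ := hK
  obtain ⟨eB⟩ := hB
  have hzC : z ∈ C := Subgroup.mem_centralizer_singleton_iff.2 rfl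
  have hmemC : ∀ x : G, x ∈ C ↔ x * z = z * x := fun x => Subgroup.mem_centralizer_singleton_iff
  set Qc := Cfsg.pCore 2 ↥C with hQc
  set Q := Qc.map C.subtype with hQdef
  haveI hQcn : Qc.Normal := LocalEven.pCore_normal 2 ↥C
  have hQcp : IsPGroup 2 ↥Qc := Components.pCore_isPGroup 2
  have hz2 := invol_iff.1 hz
  have ht2 := invol_iff.1 ht
  -- `F*(C) = O₂(C)`
  have hF : Cfsg.generalizedFittingSubgroup ↥C = Qc := by
    refine le_antisymm (Components.le_pCore ?_ hex.1.1)
      ((Components.pCore_le_fittingSubgroup 2).trans Components.fitting_le_genFitting)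
    infer_instance
  have hexQ : Cfsg.IsExtraspecial 2 ↥Qc := hF ▸ hex
  have hself : Subgroup.centralizer (Qc : Set ↥C) ≤ Qc := by
    have h := Components.centralizer_genFitting_le (G := ↥C)
    rwa [hF] at h
  have hQmem : ∀ x : G, x ∈ Q ↔ ∃ h : x ∈ C, (⟨x, h⟩ : ↥C) ∈ Qc := fun x => by
    constructor
    · rintro ⟨y, hy, rfl⟩; exact ⟨y.2, hy⟩
    · rintro ⟨h, hy⟩; exact ⟨_, hy, rfl⟩
  -- `z` is the centre of `O₂(C)`
  set zc : ↥C := ⟨z, hzC⟩
  have hzcc : ∀ g : ↥C, g * zc = zc * g := fun g => Subtype.ext ((hmemC g.1).1 g.2)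
  have hzQ : zc ∈ Qc := by
    refine Components.le_pCore (N := Subgroup.zpowers zc) ?_ ?_ (Subgroup.mem_zpowers _)
    · refine ⟨fun n hn g => ?_⟩
      obtain ⟨k, rfl⟩ := Subgroup.mem_zpowers_iff.1 hn
      rw [((show Commute g zc from hzcc g).zpow_right k).eq, mul_inv_cancel_right]
      exact Subgroup.zpow_mem_zpowers _ _
    · refine IsPGroup.of_card (n := 1) ?_
      rw [Nat.card_zpowers, Subgroup.orderOf_mk, hz, pow_one]
  obtain ⟨ζ, hd⟩ := symplectic_of_extraspecial hexQ
  have hζ : (ζ : ↥C) = zc := by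
    rcases hd.nondeg ⟨zc, hzQ⟩ (fun g => Subtype.ext (hzcc g.1)) with h | h
    · exact absurd (congrArg (fun x : ↥Qc => ((x : ↥C) : G)) h) hz2.2
    · exact (congrArg Subtype.val h).symm
  have hζG : ((ζ : ↥C) : G) = z := congrArg Subtype.val hζ
  have hcenQ : ∀ w : ↥Qc, w ∈ Subgroup.center ↥Qc ↔ w = 1 ∨ ((w : ↥C) : G) = z := fun w => by
    constructor
    · intro h
      rcases hd.nondeg w (Subgroup.mem_center_iff.1 h) with h | h
      · exact Or.inl h
      · exact Or.inr (h ▸ hζG)
    · rintro (rfl | h)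
      · exact one_mem _
      · refine Subgroup.mem_center_iff.2 fun g => Subtype.ext ?_
        show (g : ↥C) * w = w * g
        rw [show (w : ↥C) = zc from Subtype.ext h]
        exact hzcc g.1
  -- the order of the centraliser of `z`
  have hKle : K ≤ C := hKC ▸ le_sup_left
  have hK60 : Nat.card ↥K = 60 := by
    rw [Nat.card_congr eK.toEquiv, Nat.card_eq_fintype_card]; rfl
  have hdisj : ∀ y : ↥C, (y : G) ∈ K → y ∈ Qc → y = 1 := fun y h1 h2 =>
    Subtype.ext (Subgroup.mem_bot.1 (hKQ ▸ ⟨h1, ⟨y, h2, rfl⟩⟩))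
  have hC1920 : Nat.card ↥C = 1920 := by
    have hcomp : Subgroup.IsComplement' (K.subgroupOf C) Qc := by
      refine Subgroup.isComplement'_of_disjoint_and_mul_eq_univ ?_ ?_
      · rw [disjoint_iff, eq_bot_iff]
        rintro y ⟨h1, h2⟩
        exact Subgroup.mem_bot.2 (hdisj y h1 h2)
      · rw [← Subgroup.coe_mul_of_left_le_normalizer_right, Subgroup.coe_top.symm]
        · refine congrArg _ (Subgroup.map_injective C.subtype_injective ?_)
          rw [Subgroup.map_sup, Subgroup.subgroupOf_map_subtype, inf_eq_left.2 hKle,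
            ← MonoidHom.range_eq_map, Subgroup.range_subtype]
          exact hKC
        · rw [Subgroup.normalizer_eq_top]; exact le_top
    rw [← hcomp.card_mul, Nat.card_congr (Subgroup.subgroupOfEquivOfLe hKle).toEquiv, hK60, hQ]
  -- an automorphism of order five
  obtain ⟨r, hr⟩ := exists_prime_orderOf_dvd_card' (G := ↥K) (hp := ⟨by decide⟩) 5 (by rw [hK60]; decide)
  set rc : ↥C := ⟨r.1, hKle r.2⟩
  set f : MulAut ↥Qc := MulAut.conjNormal rc with hfdef
  have hr5 : rc ^ 5 = 1 := by
    apply Subtype.ext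
    show (r : G) ^ 5 = 1
    rw [← Subgroup.coe_pow, ← hr, pow_orderOf_eq_one]; rfl
  have hf5 : f ^ 5 = 1 := by rw [hfdef, ← map_pow, hr5, map_one]
  have hf1 : f ≠ 1 := by
    intro hf
    have hmem : rc ∈ Subgroup.centralizer (Qc : Set ↥C) := Subgroup.mem_centralizer_iff.2 fun q hq => by
      have h := congrArg (fun φ : MulAut ↥Qc => ((φ ⟨q, hq⟩ : ↥Qc) : ↥C)) hf
      simp only [hfdef, MulAut.conjNormal_apply, MulAut.one_apply] at h
      exact (mul_inv_eq_iff_eq_mul.1 h).symm
    have h1 := congrArg Subtype.val (hdisj rc r.2 (hself hmem))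
    have : r = 1 := Subtype.ext h1
    rw [this, orderOf_one] at hr
    omega
  haveI : Fintype ↥Qc := Fintype.ofFinite _
  obtain ⟨hten, hline⟩ := involution_structure hexQ (by rw [← Nat.card_eq_fintype_card, hQ]) f hf5 hf1
  -- conjugates of `z` commuting with `z`
  have hzcl : ∀ u : G, (IsConj z u ∧ u * z = z * u) ↔ (u ∈ Q ∧ u * u = 1 ∧ u ≠ 1) := fun u => by
    constructor
    · rintro ⟨h, hc⟩
      have ho : orderOf u = 2 := (orderOf_of_isConj h).symm.trans hz
      refine ⟨?_, invol_iff.1 ho⟩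
      by_contra hu
      exact hzt (h.trans (hCz u ((hmemC u).2 hc) ho hu))
    · rintro ⟨hu, h2⟩
      exact ⟨(hQz u hu (invol_iff.2 h2)).symm, (hmemC u).1 ((hQmem u).1 hu).1⟩
  have h11 : Nat.card {u // IsConj z u ∧ u * z = z * u} = 11 := by
    rw [show Nat.card {u // IsConj z u ∧ u * z = z * u} =
        Nat.card {w : ↥Qc // w * w = 1 ∧ w ≠ 1} from Nat.card_congr
      { toFun := fun u => ⟨⟨⟨u.1, ((hQmem u.1).1 ((hzcl u.1).1 u.2).1).1⟩,
            ((hQmem u.1).1 ((hzcl u.1).1 u.2).1).2⟩,
          Subtype.ext (Subtype.ext ((hzcl u.1).1 u.2).2.1),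
          fun h => ((hzcl u.1).1 u.2).2.2 (congrArg (fun x : ↥Qc => ((x : ↥C) : G)) h)⟩
        invFun := fun w => ⟨((w.1 : ↥C) : G), (hzcl _).2 ⟨⟨w.1, w.1.2, rfl⟩,
          congrArg (fun x : ↥Qc => ((x : ↥C) : G)) w.2.1, fun h => w.2.2 (Subtype.ext (Subtype.ext h))⟩⟩
        left_inv := fun u => rfl
        right_inv := fun w => rfl }, Nat.card_eq_fintype_card, Fintype.card_subtype]
    have hins : (Finset.univ.filter fun w : ↥Qc => w * w = 1 ∧ w ≠ 1) =
        insert ζ (Finset.univ.filter fun g : ↥Qc => g * g = 1 ∧ g ∉ Subgroup.center ↥Qc) := by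
      ext w
      simp only [Finset.mem_filter, Finset.mem_univ, true_and, Finset.mem_insert]
      constructor
      · rintro ⟨h1, h2⟩
        by_cases hw : w ∈ Subgroup.center ↥Qc
        · exact Or.inl ((hd.nondeg w (Subgroup.mem_center_iff.1 hw)).resolve_left h2)
        · exact Or.inr ⟨h1, hw⟩
      · rintro (rfl | ⟨h1, h2⟩)
        · exact ⟨hd.sq, hd.ne⟩
        · exact ⟨h1, fun h => h2 (h ▸ one_mem _)⟩
    rw [hins, Finset.card_insert_of_notMem]
    · refine congrArg (· + 1) ?_ |>.trans rfl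
      convert hten
    · simp only [Finset.mem_filter, not_and, not_not]
      exact fun _ _ => (hcenQ ζ).2 (Or.inr hζG)
  -- the centraliser of `t`
  obtain ⟨hVle, hBle, hcomm, hVBd, hVBs⟩ := hVB
  have hcm : ∀ (m : ↥V) (n : ↥B), Commute (V.subtype m) (B.subtype n) := fun a b => hcomm a a.2 b b.2
  have hnci : Function.Injective (MonoidHom.noncommCoprod V.subtype B.subtype hcm) := by
    rw [MonoidHom.noncommCoprod_injective]
    refine ⟨V.subtype_injective, B.subtype_injective, ?_⟩
    rw [Subgroup.range_subtype, Subgroup.range_subtype, disjoint_iff, hVBd]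
  have hrange : (MonoidHom.noncommCoprod V.subtype B.subtype hcm).range =
      Subgroup.centralizer ({t} : Set G) := by
    rw [MonoidHom.noncommCoprod_range, Subgroup.range_subtype, Subgroup.range_subtype, hVBs]
  have hT240 : Nat.card ↥(Subgroup.centralizer ({t} : Set G)) = 240 := by
    rw [← hrange, ← Nat.card_congr (MonoidHom.ofInjective hnci).toEquiv, Nat.card_prod, hV,
      Nat.card_congr eB.toEquiv, Nat.card_eq_fintype_card]
    rfl
  have hmemT : ∀ x : G, x ∈ Subgroup.centralizer ({t} : Set G) ↔ x * t = t * x :=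
    fun x => Subgroup.mem_centralizer_singleton_iff
  have d : TSide z t V B :=
    { hz := hz, ht := ht, hzt := hzt, comm := hcomm, disj := hVBd
      decomp := fun x hx => by
        have h : x ∈ Subgroup.centralizer ({t} : Set G) := (hmemT x).2 hx
        rw [← hrange] at h
        obtain ⟨⟨a, b⟩, rfl⟩ := h
        exact ⟨a, a.2, b, b.2, rfl⟩
      le := fun b hb => (hmemT b).1 (hBle hb)
      two := fun a ha => by rw [← sq]; exact hV2 a ha
      mem := htV
      Bz := hBz
      Ct := fun x hx h2 hB => hCt x ((hmemT x).2 hx) h2 hB }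
  -- conjugates of `t` commuting with `z`
  have hconjR : ∀ g x q : G, x * q = q * x →
      g * x * g⁻¹ * (g * q * g⁻¹) = g * q * g⁻¹ * (g * x * g⁻¹) := fun g x q h => by
    calc g * x * g⁻¹ * (g * q * g⁻¹) = g * (x * q) * g⁻¹ := by group
      _ = g * (q * x) * g⁻¹ := by rw [h]
      _ = g * q * g⁻¹ * (g * x * g⁻¹) := by group
  have hN : Nat.card {v // IsConj t v ∧ v * z = z * v} = 120 := by
    have e1 := card_pairs z (fun u v => IsConj t v ∧ v * u = u * v) (fun g x q h =>
      ⟨h.1.trans (isConj_iff.2 ⟨g, rfl⟩), hconjR g q x h.2⟩)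
    have e2 := card_pairs t (fun v u => IsConj z u ∧ u * v = v * u) (fun g x q h =>
      ⟨h.1.trans (isConj_iff.2 ⟨g, rfl⟩), hconjR g q x h.2⟩)
    have e3 : Nat.card {p : G × G // IsConj z p.1 ∧ IsConj t p.2 ∧ p.2 * p.1 = p.1 * p.2} =
        Nat.card {p : G × G // IsConj t p.1 ∧ IsConj z p.2 ∧ p.2 * p.1 = p.1 * p.2} :=
      Nat.card_congr (Equiv.subtypeEquiv (Equiv.prodComm _ _) fun p =>
        ⟨fun h => ⟨h.2.1, h.1, h.2.2.symm⟩, fun h => ⟨h.2.1, h.1, h.2.2.symm⟩⟩)
    rw [e1, e2, d.card_zclass eB] at e3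
    have c1 := card_class_mul z
    have c2 := card_class_mul t
    rw [← hCdef, hC1920] at c1
    rw [hT240] at c2
    have hpos : 0 < Nat.card {x // IsConj z x} := by
      haveI : Nonempty {x // IsConj z x} := ⟨⟨z, IsConj.refl z⟩⟩
      exact Nat.card_pos
    have : Nat.card {x // IsConj t x} = 8 * Nat.card {x // IsConj z x} := by omega
    rw [this] at e3
    refine mul_left_cancel₀ hpos.ne' (e3.trans ?_)
    ring
  have h3 : ∀ v : G, IsConj t v → v * z = z * v →
      Nat.card {u // (IsConj z u ∧ u * z = z * u) ∧ u * v = v * u} = 3 := by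
    intro v hv hvz
    obtain ⟨g, hg⟩ := isConj_iff.1 hv
    have hw : IsConj z (g⁻¹ * z * g) := isConj_iff.2 ⟨g⁻¹, by simp⟩
    have hwt : g⁻¹ * z * g * t = t * (g⁻¹ * z * g) := by
      rw [← hg] at hvz
      calc g⁻¹ * z * g * t = g⁻¹ * (z * (g * t * g⁻¹)) * g := by group
        _ = g⁻¹ * (g * t * g⁻¹ * z) * g := by rw [hvz]
        _ = t * (g⁻¹ * z * g) := by group
    rw [← d.card_zclass_comm eB hw hwt]
    refine Nat.card_congr (Equiv.subtypeEquiv (MulAut.conj g⁻¹).toEquiv fun u => ?_)
    have hc : ∀ x y : G, x * y = y * x ↔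
        (g⁻¹ * x * g) * (g⁻¹ * y * g) = (g⁻¹ * y * g) * (g⁻¹ * x * g) := fun x y => by
      rw [show g⁻¹ * x * g * (g⁻¹ * y * g) = g⁻¹ * (x * y) * g by group,
        show g⁻¹ * y * g * (g⁻¹ * x * g) = g⁻¹ * (y * x) * g by group, mul_left_inj, mul_right_inj]
    have hz' : IsConj z u ↔ IsConj z (g⁻¹ * u * g) :=
      ⟨fun h => h.trans (isConj_iff.2 ⟨g⁻¹, by simp⟩), fun h => h.trans (isConj_iff.2 ⟨g, by group⟩)⟩
    have hvt : g⁻¹ * v * g = t := by rw [← hg]; group
    simp only [MulEquiv.toEquiv_eq_coe, MulEquiv.coe_toEquiv, MulAut.conj_apply, inv_inv]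
    rw [hc u z, hc u v, hvt, hz']
    tauto
  -- the key dichotomy
  have hdich : ∀ u v : G, IsConj z u → u * z = z * u → IsConj t v → v * z = z * v →
      (z ∈ Subgroup.zpowers (u * v) ↔ ¬ u * v = v * u) := by
    intro u v hu huz hv hvz
    obtain ⟨huQ, hu2, hu1⟩ := (hzcl u).1 ⟨hu, huz⟩
    obtain ⟨hv2, hv1⟩ := invol_iff.1 ((orderOf_of_isConj hv).symm.trans ht)
    constructor
    · intro hmem hcv
      obtain ⟨k, hk⟩ := (isOfFinOrder_of_finite _).mem_powers_iff_mem_zpowers.2 hmem
      simp only at hk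
      have h2 : (u * v) ^ 2 = 1 := by
        rw [(show Commute u v from hcv).mul_pow, sq, sq, hu2, hv2, one_mul]
      rcases Nat.mod_two_eq_zero_or_one k with h | h
      · rw [← Nat.div_add_mod k 2, h, add_zero, pow_mul, h2, one_pow] at hk
        exact hz2.2 hk.symm
      · rw [← Nat.div_add_mod k 2, h, pow_succ, pow_mul, h2, one_pow, one_mul] at hk
        have hvQ : v ∈ Q := by
          rw [eq_inv_mul_of_mul_eq hk]
          exact mul_mem (inv_mem huQ) ⟨zc, hzQ, rfl⟩
        exact hzt ((hQz v hvQ (invol_iff.2 ⟨hv2, hv1⟩)).symm.trans hv.symm)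
    · intro hne
      obtain ⟨huC, huQc⟩ := (hQmem u).1 huQ
      set vc : ↥C := ⟨v, (hmemC v).2 hvz⟩
      set a : ↥Qc := ⟨⟨u, huC⟩, huQc⟩
      set b : ↥Qc := ⟨vc * a.1 * vc⁻¹, hQcn.conj_mem _ huQc vc⟩
      have hvi : v⁻¹ = v := inv_eq_of_mul_eq_one_right hv2
      have haG : ((a : ↥C) : G) = u := rfl
      have hbG : ((b : ↥C) : G) = v * u * v := by
        show v * u * v⁻¹ = _
        rw [hvi]
      have habG : (((a * b : ↥Qc) : ↥C) : G) = (u * v) ^ 2 := by
        show u * (v * u * v⁻¹) = _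
        rw [hvi, sq]; simp only [mul_assoc]
      rcases hd.square (a * b) with h | h
      · -- `a` and `b` commute
        have ha2 : a * a = 1 := Subtype.ext (Subtype.ext hu2)
        have hb2 : b * b = 1 := by
          refine Subtype.ext (Subtype.ext ?_)
          show ((b : ↥C) : G) * ((b : ↥C) : G) = 1
          rw [hbG]
          calc v * u * v * (v * u * v) = v * u * (v * v) * u * v := by simp only [mul_assoc]
            _ = 1 := by rw [hv2, mul_one, mul_assoc v, hu2, mul_one, hv2]
        have hab : a * b = b * a := by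
          have h' := eq_inv_of_mul_eq_one_left h
          rw [mul_inv_rev, inv_eq_of_mul_eq_one_right ha2, inv_eq_of_mul_eq_one_right hb2] at h'
          exact h'
        have hna : a ∉ Subgroup.center ↥Qc := fun hc => by
          rcases (hcenQ a).1 hc with e | e
          · exact hu1 (congrArg (fun x : ↥Qc => ((x : ↥C) : G)) e)
          · rw [haG] at e; subst e; exact hne hvz.symm
        have hnb : b ∉ Subgroup.center ↥Qc := fun hc => by
          rcases (hcenQ b).1 hc with e | e
          · have e' := congrArg (fun x : ↥Qc => ((x : ↥C) : G)) e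
            simp only [hbG] at e'
            refine hu1 ?_
            calc u = v * v * u * (v * v) := by rw [hv2, one_mul, mul_one]
              _ = v * (v * u * v) * v := by simp only [mul_assoc]
              _ = 1 := by rw [show v * u * v = (1 : G) from e', mul_one, hv2]
          · rw [hbG] at e
            refine hne ?_
            have : u = z := by
              calc u = v * v * u * (v * v) := by rw [hv2, one_mul, mul_one]
                _ = v * (v * u * v) * v := by simp only [mul_assoc]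
                _ = z := by rw [e, hvz, mul_assoc, hv2, mul_one]
            rw [this, hvz]
        by_cases hcab : a * b ∈ Subgroup.center ↥Qc
        · rcases (hcenQ _).1 hcab with e | e
          · exfalso
            refine hne ?_
            have e' := congrArg (fun x : ↥Qc => ((x : ↥C) : G)) e
            simp only [habG, sq] at e'
            have := eq_inv_of_mul_eq_one_left e'
            rw [mul_inv_rev, hvi, inv_eq_of_mul_eq_one_right hu2] at this
            exact this
          · rw [habG] at e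
            exact e ▸ pow_mem (Subgroup.mem_zpowers _) 2
        · exact (hline a b ha2 hb2 hab hna hnb hcab).elim
      · have e := congrArg (fun x : ↥Qc => ((x : ↥C) : G)) h
        simp only [hζG] at e
        have e' : (u * v) ^ 4 = z := by
          rw [show (4 : ℕ) = 2 + 2 from rfl, pow_add, ← habG]
          exact e
        exact e' ▸ pow_mem (Subgroup.mem_zpowers _) 4
  have h8 : ∀ v : G, IsConj t v → v * z = z * v →
      Nat.card {u // (IsConj z u ∧ u * z = z * u) ∧ ¬ u * v = v * u} = 8 := by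
    intro v hv hvz
    have e := Nat.card_congr (Equiv.sumCompl fun u : {u // IsConj z u ∧ u * z = z * u} =>
      u.1 * v = v * u.1)
    rw [Nat.card_sum, Nat.card_congr (Equiv.subtypeSubtypeEquivSubtypeInter
        (fun u : G => IsConj z u ∧ u * z = z * u) (fun u : G => u * v = v * u)),
      Nat.card_congr (Equiv.subtypeSubtypeEquivSubtypeInter
        (fun u : G => IsConj z u ∧ u * z = z * u) (fun u : G => ¬ u * v = v * u)), h11, h3 v hv hvz] at e
    omega
  have hnz : Nat.card {p : G × G // IsConj z p.1 ∧ IsConj t p.2 ∧ z ∈ Subgroup.zpowers (p.1 * p.2)} = 960 := by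
    have hcen : ∀ u v : G, IsConj z u → IsConj t v → z ∈ Subgroup.zpowers (u * v) →
        u * z = z * u ∧ v * z = z * v := by
      intro u v hu hv hmem
      have hu2 := invol_iff.1 ((orderOf_of_isConj hu).symm.trans hz)
      have hv2 := invol_iff.1 ((orderOf_of_isConj hv).symm.trans ht)
      obtain ⟨k, hk⟩ := Subgroup.mem_zpowers_iff.1 hmem
      have hui : u⁻¹ = u := inv_eq_of_mul_eq_one_right hu2.1
      have hvi : v⁻¹ = v := inv_eq_of_mul_eq_one_right hv2.1
      have h1 : u * z * u⁻¹ = z := by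
        have : u * (u * v) * u⁻¹ = (u * v)⁻¹ := by
          rw [mul_inv_rev, hui, hvi, ← mul_assoc, hu2.1, one_mul]
        rw [← hk, ← conj_zpow, this, inv_zpow, hk, inv_eq_of_mul_eq_one_right hz2.1]
      have h1' : u * z = z * u := by
        calc u * z = u * z * u⁻¹ * u := by group
          _ = z * u := by rw [h1]
      refine ⟨h1', ?_⟩
      have h2 : (u * v) * z = z * (u * v) := by rw [← hk]; exact ((Commute.refl (u * v)).zpow_right k).eq
      apply mul_left_cancel (a := u)
      rw [← mul_assoc, h2, ← mul_assoc z, ← mul_assoc u z, h1']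
    rw [Nat.card_congr (β := Σ v : {v // IsConj t v ∧ v * z = z * v},
        {u // (IsConj z u ∧ u * z = z * u) ∧ ¬ u * v.1 = v.1 * u})
      { toFun := fun p => ⟨⟨p.1.2, p.2.2.1, (hcen _ _ p.2.1 p.2.2.1 p.2.2.2).2⟩,
          ⟨p.1.1, ⟨p.2.1, (hcen _ _ p.2.1 p.2.2.1 p.2.2.2).1⟩,
            (hdich _ _ p.2.1 (hcen _ _ p.2.1 p.2.2.1 p.2.2.2).1 p.2.2.1
              (hcen _ _ p.2.1 p.2.2.1 p.2.2.2).2).1 p.2.2.2⟩⟩
        invFun := fun q => ⟨(q.2.1, q.1.1), q.2.2.1.1, q.1.2.1,
          (hdich _ _ q.2.2.1.1 q.2.2.1.2 q.1.2.1 q.1.2.2).2 q.2.2.2⟩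
        left_inv := fun p => rfl
        right_inv := fun q => rfl }, Nat.card_sigma]
    rw [Finset.sum_congr rfl (fun v _ => h8 v.1 v.2.1 v.2.2), Finset.sum_const, Finset.card_univ,
      ← Nat.card_eq_fintype_card, hN]
    rfl
  rw [S0213.result z t hz ht hzt (fun x hx => (hcl x hx).imp IsConj.symm IsConj.symm), hT240, hnz,
    d.count_t eB, ← hCdef, hC1920]

end Cfsg.Agent.S3313
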