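import Cfsg.Statements.S3333
import Cfsg.Agent.Lib.Characters.DihedralNine.SymSix
-- import your own Cfsg.Agent.* helpers here

set_option autoImplicit false
open Cfsg

namespace Cfsg.Agent.S3333

/-- Let G be a finite group with a Sylow 3-subgroup S of order 9 that is its own centralizer, with N_G(S)/S dihedral of order 8, and such that C_G(x) ≤ N_G(S) for every non-identity x in S. Then S is normal in G or G is isomorphic to the symmetric group of degree 6. -/
theorem result {G : Type*} [Group G] [Finite G]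
    (P : Sylow 3 G) (S : Subgroup G) (hSP : S = P) (hcard : Nat.card S = 9)
    (hC : Subgroup.centralizer (S : Set G) = S)
    (eN : Subgroup.normalizer (S : Set G) ⧸ S.subgroupOf (Subgroup.normalizer (S : Set G)) ≃* DihedralGroup 4)
    (hcent : ∀ x ∈ S, x ≠ 1 → Subgroup.centralizer ({x} : Set G) ≤ Subgroup.normalizer (S : Set G)) :
    S.Normal ∨ Nonempty (G ≃* Equiv.Perm (Fin 6)) := by
  subst hSP
  haveI : Fact (Nat.Prime 3) := ⟨Nat.prime_three⟩
  haveI : Fact (Nat.Prime 2) := ⟨Nat.prime_two⟩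
  haveI : IsMulCommutative ↥(P : Subgroup G) :=
    IsPGroup.isMulCommutative_of_card_eq_prime_sq (p := 3) (by simpa using hcard)
  have hcomm : ∀ u ∈ (P : Subgroup G), ∀ v ∈ (P : Subgroup G), u * v = v * u := fun u hu v hv =>
    congrArg Subtype.val (mul_comm' (⟨u, hu⟩ : ↥(P : Subgroup G)) ⟨v, hv⟩)
  set N := Subgroup.normalizer ((P : Subgroup G) : Set G) with hN
  set P0 := (P : Subgroup G).subgroupOf N with hP0
  have hcub : ∀ u ∈ (P : Subgroup G), u ^ 3 = 1 := by
    intro u hu
    by_contra h3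
    have hord : orderOf u = 9 := by
      refine orderOf_eq_prime_pow (p := 3) (n := 1) (by simpa using h3) ?_
      have h9 := pow_card_eq_one' (x := (⟨u, hu⟩ : ↥(P : Subgroup G)))
      rw [hcard] at h9
      exact congrArg Subtype.val h9
    have hgen : Subgroup.zpowers u = (P : Subgroup G) :=
      Subgroup.eq_of_le_of_card_ge (Subgroup.zpowers_le.mpr hu)
        (by rw [Nat.card_zpowers, hord, hcard])
    have hpow : ∀ n ∈ N, ∃ i : ℕ, n * u * n⁻¹ = u ^ i := fun n hn => by
      have hm : n * u * n⁻¹ ∈ Subgroup.zpowers u := hgen.symm ▸ (hn u).mp hu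
      exact ((isOfFinOrder_of_finite u).mem_powers_iff_mem_zpowers.mpr hm).imp fun _ h => h.symm
    have hab : ∀ p q : ↥N, (p : ↥N ⧸ P0) * q = (q : ↥N ⧸ P0) * p := by
      intro p q
      obtain ⟨i, hi⟩ := hpow _ p.2
      obtain ⟨j, hj⟩ := hpow _ q.2
      rw [← QuotientGroup.mk_mul, ← QuotientGroup.mk_mul, QuotientGroup.eq]
      show ((p : G) * q)⁻¹ * ((q : G) * p) ∈ (P : Subgroup G)
      rw [← hC, ← hgen, Subgroup.mem_centralizer_iff]
      rintro m ⟨k, rfl⟩
      suffices h : Commute u (((p : G) * q)⁻¹ * ((q : G) * p)) from h.zpow_left k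
      have e : (p : G) * q * u * ((p : G) * q)⁻¹ = (q : G) * p * u * ((q : G) * p)⁻¹ := by
        calc (p : G) * q * u * ((p : G) * q)⁻¹ = (p : G) * ((q : G) * u * (q : G)⁻¹) * (p : G)⁻¹ := by
              group
          _ = u ^ (i * j) := by rw [hj, ← conj_pow, hi, ← pow_mul]
          _ = (q : G) * ((p : G) * u * (p : G)⁻¹) * (q : G)⁻¹ := by
            rw [hi, ← conj_pow, hj, ← pow_mul, mul_comm i j]
          _ = _ := by group
      show u * _ = _ * u
      calc u * (((p : G) * q)⁻¹ * ((q : G) * p))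
          = ((p : G) * q)⁻¹ * ((p : G) * q * u * ((p : G) * q)⁻¹) * ((q : G) * p) := by group
        _ = _ := by rw [e]; group
    have h1 : ∀ x y : DihedralGroup 4, x * y = y * x := fun x y => by
      obtain ⟨p', rfl⟩ := eN.surjective x
      obtain ⟨q', rfl⟩ := eN.surjective y
      obtain ⟨p, rfl⟩ := QuotientGroup.mk_surjective p'
      obtain ⟨q, rfl⟩ := QuotientGroup.mk_surjective q'
      rw [← map_mul, ← map_mul, hab p q]
    exact absurd (h1 (.r 1) (.sr 0)) (by decide)
  have h9 : Nat.card ↥P0 = 9 :=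
    (Nat.card_congr (Subgroup.subgroupOfEquivOfLe Subgroup.le_normalizer).toEquiv).trans hcard
  have h72 : Nat.card ↥N = 72 := by
    rw [Subgroup.card_eq_card_quotient_mul_card_subgroup P0, h9, Nat.card_congr eN.toEquiv,
      DihedralGroup.nat_card]
  have h8 : ∀ S : Sylow 2 ↥N, Nat.card S = 8 := fun S => by
    obtain ⟨k, hk⟩ := IsPGroup.iff_card.mp S.isPGroup'
    have hdvd : 2 ^ k ∣ 72 := hk ▸ h72 ▸ Subgroup.card_subgroup_dvd_card (S : Subgroup ↥N)
    have hk3 := S.pow_dvd_card_of_pow_dvd_card (n := 3) (by rw [h72]; norm_num)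
    rw [hk] at hk3 ⊢
    have hle : 3 ≤ k := (Nat.pow_dvd_pow_iff_le_right (by norm_num)).mp hk3
    have hk4 : k < 4 := by
      by_contra h
      exact absurd ((pow_dvd_pow 2 (show 4 ≤ k by omega)).trans hdvd) (by norm_num)
    rw [show k = 3 by omega]; norm_num
  have C : Lib.Characters.DihedralNine.Ctx P :=
    { comm := hcomm, cube := hcub, card := hcard, loc := hcent, self := hC, eight := h8 }
  obtain ⟨S⟩ := Sylow.nonempty (p := 2) (G := ↥N)
  let π : ↥(S : Subgroup ↥N) →* DihedralGroup 4 :=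
    eN.toMonoidHom.comp ((QuotientGroup.mk' P0).comp (S : Subgroup ↥N).subtype)
  have hdis : Disjoint (S : Subgroup ↥N) P0 := Subgroup.disjoint_of_coprime_natCard (by
    rw [h8 S, h9]; norm_num)
  have hπ : Function.Injective π := by
    rw [injective_iff_map_eq_one]
    intro x hx
    have hx' : ((x : ↥N) : ↥N ⧸ P0) = 1 := eN.injective (hx.trans (map_one eN).symm)
    rw [QuotientGroup.eq_one_iff] at hx'
    exact Subtype.ext (Subgroup.mem_bot.mp (hdis.eq_bot ▸ Subgroup.mem_inf.mpr ⟨x.2, hx'⟩))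
  have hπs : Function.Bijective π := hπ.bijective_of_nat_card_le (by
    rw [DihedralGroup.nat_card, h8 S])
  let f : DihedralGroup 4 →* G :=
    (N.subtype.comp (S : Subgroup ↥N).subtype).comp (MulEquiv.ofBijective π hπs).symm.toMonoidHom
  have hf : Function.Injective f := fun x y h =>
    (MulEquiv.ofBijective π hπs).symm.injective (Subtype.ext (Subtype.ext h))
  have hmem : ∀ x, f x ∈ N := fun x => SetLike.coe_mem _
  obtain ⟨a, ha⟩ := Lib.Characters.DihedralNine.exists_half C (hmem (.r 1)) (hmem (.sr 0))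
    (by simp only [← map_mul]; rw [show (DihedralGroup.r (1 : ZMod 4) * .r 1 * (.r 1 * .r 1)) = 1
      from by decide, map_one])
    (fun h => absurd (hf (show f (.r 1 * .r 1) = f 1 by rw [map_mul, map_one]; exact h))
      (by decide))
    (by rw [← map_mul, show (DihedralGroup.sr (0 : ZMod 4) * .sr 0) = 1 from by decide, map_one])
    (by rw [← map_mul, ← map_mul, ← map_inv]; exact congrArg f (by decide))
  exact Lib.Characters.DihedralNine.normal_or_symSix ha

end Cfsg.Agent.S3333
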