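import Cfsg.Statements.S3349

set_option autoImplicit false
set_option linter.style.haveILetI false
open Cfsg

namespace Cfsg.Agent.S3349

/-- Let Q be a finite extraspecial p-group and α an automorphism of Q fixing every element of some maximal abelian subgroup of Q. Then the order of α is a power of p. -/
theorem result {Q : Type*} [Group Q] [Finite Q]
    (p : ℕ) [Fact p.Prime] (hQ : Cfsg.IsExtraspecial p Q) (α : MulAut Q)
    (A : Subgroup Q) (hA : IsMulCommutative A) (hmax : ∀ B : Subgroup Q, A ≤ B → IsMulCommutative B → B = A)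
    (hfix : ∀ a ∈ A, α a = a) :
    ∃ k : ℕ, orderOf α = p ^ k := by
  classical
  have hp : IsPGroup p Q := hQ.1.1
  have hAc : ∀ x : Q, (∀ a ∈ A, a * x = x * a) → x ∈ A := by
    intro x hx
    have h := hmax (A ⊔ Subgroup.zpowers x) le_sup_left ?_
    · exact h ▸ Subgroup.mem_sup_right (Subgroup.mem_zpowers x)
    · rw [Subgroup.zpowers_eq_closure, ← Subgroup.closure_eq A, ← Subgroup.closure_union]
      apply Subgroup.isMulCommutative_closure
      rintro a (ha | rfl) b (hb | rfl)
      · exact congrArg Subtype.val (hA.is_comm.comm ⟨a, ha⟩ ⟨b, hb⟩)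
      · exact hx a ha
      · exact (hx b hb).symm
      · rfl
  have hcomm : commutator Q ≤ A := by
    intro z hz
    rw [hQ.1.2.2] at hz
    exact hAc z fun a _ => Subgroup.mem_center_iff.1 hz a
  have hn : A.Normal := Subgroup.Normal.of_commutator_le Q hcomm
  have key : ∀ x : Q, x⁻¹ * α x ∈ A := by
    intro x
    refine hAc _ fun a ha => ?_
    have h1 := hfix _ (hn.conj_mem a ha x)
    rw [map_mul, map_mul, map_inv, hfix a ha] at h1
    calc a * (x⁻¹ * α x) = x⁻¹ * (x * a * x⁻¹) * α x := by group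
      _ = x⁻¹ * (α x * a * (α x)⁻¹) * α x := by rw [h1]
      _ = x⁻¹ * α x * a := by group
  have hpow : ∀ (x : Q) (k : ℕ), (α ^ k) x = x * (x⁻¹ * α x) ^ k := by
    intro x k
    induction k with
    | zero => simp
    | succ k ih =>
      have : α (x⁻¹ * α x) = x⁻¹ * α x := hfix _ (key x)
      rw [pow_succ', MulAut.mul_apply, ih, map_mul, map_pow, this, pow_succ' (x⁻¹ * α x), ← mul_assoc x, mul_inv_cancel_left]
  obtain ⟨k, hk⟩ := hp.exists_card_eq
  have h1 : α ^ (p ^ k) = 1 := by
    ext x
    rw [hpow, ← hk, pow_card_eq_one', mul_one, MulAut.one_apply]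
  obtain ⟨j, -, hj⟩ := (Nat.dvd_prime_pow (Fact.out : p.Prime)).1 (orderOf_dvd_of_pow_eq_one h1)
  exact ⟨j, hj⟩


end Cfsg.Agent.S3349
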