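import Cfsg.Statements.S3356


set_option autoImplicit false
open Cfsg

namespace Cfsg.Agent.S3356

theorem card_dvd {G : Type*} [Group G] [Finite G] (L : Subgroup G) (K : Set G) (s : ℕ)
    (hinv : ∀ h ∈ L, ∀ y ∈ K, h * y * h⁻¹ ∈ K)
    (hs : ∀ y ∈ K, Nat.card ↥(L ⊓ Subgroup.centralizer ({y} : Set G)) = s) :
    Nat.card L ∣ s * Nat.card K := by
  classical
  let _ : MulAction L K :=
    { smul := fun h y => ⟨(h : G) * y * (h : G)⁻¹, hinv h h.2 y y.2⟩
      one_smul := fun y => Subtype.ext (show (1 : G) * y * (1 : G)⁻¹ = (y : G) by simp)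
      mul_smul := fun g h y => Subtype.ext (show ((g : G) * h) * y * ((g : G) * h)⁻¹ =
        (g : G) * ((h : G) * y * (h : G)⁻¹) * (g : G)⁻¹ by group) }
  have hst : ∀ y : K, Nat.card (MulAction.stabilizer L y) = s := by
    intro y
    have h1 : (MulAction.stabilizer L y).map L.subtype = L ⊓ Subgroup.centralizer ({(y : G)} : Set G) := by
      ext g
      rw [Subgroup.mem_map, Subgroup.mem_inf, Subgroup.mem_centralizer_singleton_iff]
      constructor
      · rintro ⟨g, hg, rfl⟩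
        have h2 : (g : G) * y * (g : G)⁻¹ = y := congrArg Subtype.val (MulAction.mem_stabilizer_iff.1 hg)
        refine ⟨g.2, ?_⟩
        calc (g : G) * y = (g : G) * y * (g : G)⁻¹ * g := by group
          _ = (y : G) * g := by rw [h2]
      · rintro ⟨hg, hc⟩
        refine ⟨⟨g, hg⟩, Subtype.ext (show g * y * g⁻¹ = (y : G) from ?_), rfl⟩
        rw [hc]; group
    rw [← hs y y.2, ← h1, Subgroup.card_map_of_injective L.subtype_injective]
  have _ : Fintype (MulAction.orbitRel.Quotient L K) := Fintype.ofFinite _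
  rw [Nat.card_congr (MulAction.selfEquivSigmaOrbits L K), Nat.card_sigma, Finset.mul_sum]
  refine Finset.dvd_sum fun ω _ => ?_
  rw [Nat.card_congr (MulAction.orbitEquivQuotientStabilizer L ω.out)]
  have h3 := Subgroup.card_eq_card_quotient_mul_card_subgroup (MulAction.stabilizer L ω.out)
  rw [hst] at h3
  rw [mul_comm s, ← h3]

/-- Let G be a finite 3/2-transitive permutation group: G acts faithfully and transitively on a finite set, the point stabilizers are non-trivial, and for each point a all orbits of G_a on the remaining points have the same size. Suppose G has a regular normal subgroup N and G is not a Frobenius group (some two-point stabilizer is non-trivial). Then N is an elementary abelian p-group for some prime p, and every non-trivial normal subgroup of G contains N (so N is the unique minimal normal subgroup). -/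
theorem result {G Ω : Type*} [Group G] [Finite G]
    [MulAction G Ω] [FaithfulSMul G Ω] [Finite Ω] (htrans : MulAction.IsPretransitive G Ω)
    (hne : ∀ a : Ω, MulAction.stabilizer G a ≠ ⊥)
    (hhalf : ∀ a b c : Ω, b ≠ a → c ≠ a →
      Nat.card (MulAction.orbit (MulAction.stabilizer G a) b) = Nat.card (MulAction.orbit (MulAction.stabilizer G a) c))
    (N : Subgroup G) [hN : N.Normal] (hNt : MulAction.IsPretransitive N Ω) (hNr : ∀ a : Ω, MulAction.stabilizer N a = ⊥)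
    (hnotF : ∃ a b : Ω, a ≠ b ∧ MulAction.stabilizer G a ⊓ MulAction.stabilizer G b ≠ ⊥) :
    (∃ p : ℕ, p.Prime ∧ IsMulCommutative N ∧ ∀ x ∈ N, x ^ p = 1) ∧
    (∀ M : Subgroup G, M.Normal → M ≠ ⊥ → N ≤ M) := by
  classical
  obtain ⟨a₁, b₁, hab₁, hne₁⟩ := hnotF
  set H : Subgroup G := MulAction.stabilizer G a₁ with hH
  set St : G → Subgroup G := fun x => H ⊓ Subgroup.centralizer ({x} : Set G) with hSt
  have hbij : ∀ b : Ω, ∃! x : G, x ∈ N ∧ x • a₁ = b := by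
    intro b
    obtain ⟨x, hx⟩ := MulAction.exists_smul_eq N a₁ b
    refine ⟨x, ⟨x.2, hx⟩, fun y hy => ?_⟩
    have h1 : (x⁻¹ * ⟨y, hy.1⟩ : N) ∈ MulAction.stabilizer N a₁ := by
      rw [MulAction.mem_stabilizer_iff, mul_smul, inv_smul_eq_iff, hx]
      exact hy.2
    rw [hNr, Subgroup.mem_bot, inv_mul_eq_one] at h1
    exact (congrArg Subtype.val h1).symm
  have hinjN : ∀ x ∈ N, ∀ y ∈ N, x • a₁ = y • a₁ → x = y := fun x hx y hy h =>
    (hbij (y • a₁)).unique ⟨hx, h⟩ ⟨hy, rfl⟩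
  have hStmem : ∀ x h, h ∈ St x ↔ h ∈ H ∧ h * x = x * h := by
    intro x h
    rw [hSt, Subgroup.mem_inf, Subgroup.mem_centralizer_singleton_iff]
  have hSteq : ∀ x ∈ N, St x = H ⊓ MulAction.stabilizer G (x • a₁) := by
    intro x hx
    ext h
    rw [hStmem, Subgroup.mem_inf]
    refine and_congr_right fun hh => ?_
    have hh' : h • a₁ = a₁ := MulAction.mem_stabilizer_iff.1 hh
    have key : (h * x * h⁻¹) • a₁ = h • x • a₁ := by
      rw [mul_smul, mul_smul, inv_smul_eq_iff.2 hh'.symm]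
    rw [MulAction.mem_stabilizer_iff, ← key]
    constructor
    · intro hc; rw [hc, mul_inv_cancel_right]
    · intro hc
      have := hinjN _ (hN.conj_mem x hx h) x hx hc
      calc h * x = h * x * h⁻¹ * h := by group
        _ = x * h := by rw [this]
  have hcard_eq : ∀ b : Ω, Nat.card (MulAction.orbit H b) *
      Nat.card ↥(H ⊓ MulAction.stabilizer G b) = Nat.card H := by
    intro b
    have h1 : (MulAction.stabilizer H b).map H.subtype = H ⊓ MulAction.stabilizer G b := by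
      ext g
      constructor
      · rintro ⟨g, hg, rfl⟩; exact ⟨g.2, hg⟩
      · rintro ⟨hg, hb⟩; exact ⟨⟨g, hg⟩, hb, rfl⟩
    rw [← h1, Subgroup.card_map_of_injective H.subtype_injective,
      Nat.card_congr (MulAction.orbitEquivQuotientStabilizer H b),
      ← Subgroup.card_eq_card_quotient_mul_card_subgroup]
  have hne1 : ∀ x ∈ N, x ≠ 1 → x • a₁ ≠ a₁ := fun x hx h1 h =>
    h1 (hinjN x hx 1 N.one_mem (by rw [h, one_smul]))
  obtain ⟨x₁, ⟨hx₁, hx₁b⟩, -⟩ := hbij b₁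
  set s := Nat.card ↥(St x₁) with hs
  have hxne : x₁ ≠ 1 := fun h => hab₁ (by rw [← hx₁b, h, one_smul])
  have hSts : ∀ x ∈ N, x ≠ 1 → Nat.card ↥(St x) = s := by
    intro x hx h1
    have e1 := hcard_eq (x • a₁)
    have e2 := hcard_eq (x₁ • a₁)
    rw [hhalf a₁ (x₁ • a₁) (x • a₁) (hne1 _ hx₁ hxne) (hne1 _ hx h1)] at e2
    rw [hs, hSteq x hx, hSteq x₁ hx₁]
    exact Nat.eq_of_mul_eq_mul_left (Set.ncard_pos (Set.toFinite _) |>.2
      (MulAction.nonempty_orbit _) |> fun h => by rwa [Nat.card_coe_set_eq]) (e1.trans e2.symm)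
  have hspos : 0 < s := Nat.card_pos
  -- all the stabilizers cannot coincide
  have hdiff : ¬ ∀ x ∈ N, x ≠ 1 → St x = St x₁ := by
    intro hall
    apply hne₁
    rw [← hx₁b, ← hSteq x₁ hx₁, Subgroup.eq_bot_iff_forall]
    intro g hg
    refine FaithfulSMul.eq_of_smul_eq_smul (α := Ω) fun b => ?_
    rw [one_smul]
    obtain ⟨x, ⟨hx, rfl⟩, -⟩ := hbij b
    by_cases h1 : x = 1
    · rw [h1, one_smul]; exact ((hStmem _ _).1 hg).1
    · rw [← hall x hx h1, hSteq x hx] at hg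
      exact hg.2
  have hle_eq : ∀ x ∈ N, x ≠ 1 → ∀ y ∈ N, y ≠ 1 → St x ≤ St y → St x = St y :=
    fun x hx hx1 y hy hy1 h => Subgroup.eq_of_le_of_card_ge h (by rw [hSts x hx hx1, hSts y hy hy1])
  -- orbit sizes
  obtain ⟨k, hk⟩ : s ∣ Nat.card H := Subgroup.card_dvd_of_le inf_le_left
  have hkN : Nat.Coprime k (Nat.card N) := by
    have h1 := card_dvd H ((N : Set G) \ {1}) s
      (fun h _ y hy => ⟨hN.conj_mem y hy.1 h, fun he => hy.2 (conj_eq_one_iff.1 he)⟩)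
      (fun y hy => hSts y hy.1 hy.2)
    rw [hk] at h1
    have h2 : k ∣ Nat.card ↥((N : Set G) \ {1}) := (Nat.mul_dvd_mul_iff_left hspos).1 h1
    rw [Nat.card_coe_set_eq, Set.ncard_diff_singleton_of_mem (show (1 : G) ∈ (N : Set G) from N.one_mem),
      ← Nat.card_coe_set_eq] at h2
    have h3 : 1 ≤ Nat.card N := Nat.card_pos
    refine Nat.coprime_of_dvd fun q hq hqk hqN => hq.ne_one (Nat.dvd_one.1 ?_)
    have h4 := Nat.dvd_sub hqN (hqk.trans h2)
    rwa [SetLike.coe_sort_coe, show Nat.card N - (Nat.card N - 1) = 1 by omega] at h4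
  -- rigidity
  have hrig : ∀ (L : Subgroup G) (K : Set G), L ≤ H → (∀ h ∈ L, ∀ y ∈ K, h * y * h⁻¹ ∈ K) →
      (∀ y ∈ K, y ∈ N ∧ y ≠ 1 ∧ St y ≤ L) → Nat.card K ∣ Nat.card N → ∀ y ∈ K, St y = L := by
    intro L K hLH hinv hK hKN y hy
    have hstab : ∀ z ∈ K, L ⊓ Subgroup.centralizer ({z} : Set G) = St z := fun z hz =>
      le_antisymm (le_inf (inf_le_left.trans hLH) inf_le_right) (le_inf (hK z hz).2.2 inf_le_right)
    have h1 := card_dvd L K s hinv (fun z hz => by rw [hstab z hz]; exact hSts z (hK z hz).1 (hK z hz).2.1)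
    obtain ⟨l, hl⟩ : s ∣ Nat.card L := by
      rw [← hSts y (hK y hy).1 (hK y hy).2.1]; exact Subgroup.card_dvd_of_le (hK y hy).2.2
    rw [hl] at h1
    have h2 : l ∣ Nat.card K := (Nat.mul_dvd_mul_iff_left hspos).1 h1
    have h3 : l ∣ k := by
      have := Subgroup.card_dvd_of_le hLH
      rw [hl, hk] at this
      exact (Nat.mul_dvd_mul_iff_left hspos).1 this
    have h4 : l = 1 := Nat.eq_one_of_dvd_coprimes hkN h3 (h2.trans hKN)
    refine Subgroup.eq_of_le_of_card_ge (hK y hy).2.2 ?_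
    rw [hSts y (hK y hy).1 (hK y hy).2.1, hl, h4, mul_one]
  -- stabilizers are constant on classes of `N`
  have hclass : ∀ x ∈ N, x ≠ 1 → ∀ n ∈ N, St (n * x * n⁻¹) = St x := by
    intro x hx hx1 n hn
    let xN : N := ⟨x, hx⟩
    let K : Set G := Subtype.val '' MulAction.orbit (ConjAct N) xN
    let L : Subgroup G :=
      { carrier := {h | h ∈ H ∧ ∃ m ∈ N, h * x * h⁻¹ = m * x * m⁻¹}
        one_mem' := ⟨H.one_mem, 1, N.one_mem, by simp⟩
        mul_mem' := fun {g h} ⟨hg, m, hm, em⟩ ⟨hh, m', hm', em'⟩ => ⟨H.mul_mem hg hh,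
          g * m' * g⁻¹ * m, N.mul_mem (hN.conj_mem m' hm' g) hm, by
            calc g * h * x * (g * h)⁻¹ = g * (h * x * h⁻¹) * g⁻¹ := by group
              _ = g * m' * g⁻¹ * (g * x * g⁻¹) * (g * m' * g⁻¹)⁻¹ := by rw [em']; group
              _ = g * m' * g⁻¹ * m * x * (g * m' * g⁻¹ * m)⁻¹ := by rw [em]; group⟩
        inv_mem' := fun {g} ⟨hg, m, hm, em⟩ => ⟨H.inv_mem hg, g⁻¹ * m⁻¹ * g,
          by simpa using hN.conj_mem _ (N.inv_mem hm) g⁻¹, by
            calc g⁻¹ * x * g⁻¹⁻¹ = g⁻¹ * (m⁻¹ * (m * x * m⁻¹) * m) * g := by group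
              _ = g⁻¹ * (m⁻¹ * (g * x * g⁻¹) * m) * g := by rw [em]
              _ = g⁻¹ * m⁻¹ * g * x * (g⁻¹ * m⁻¹ * g)⁻¹ := by group⟩ }
    have hKm : ∀ y, y ∈ K ↔ ∃ m ∈ N, y = m * x * m⁻¹ := by
      intro y
      constructor
      · rintro ⟨z, ⟨c, rfl⟩, rfl⟩
        exact ⟨_, (ConjAct.ofConjAct c).2, by simp [ConjAct.smul_def, xN]⟩
      · rintro ⟨m, hm, rfl⟩
        exact ⟨_, ⟨ConjAct.toConjAct (⟨m, hm⟩ : N), rfl⟩, by simp [ConjAct.smul_def, xN]⟩
    have hKdvd : Nat.card K ∣ Nat.card N := by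
      rw [Nat.card_image_of_injective Subtype.val_injective,
        Nat.card_congr (MulAction.orbitEquivQuotientStabilizer (ConjAct N) xN)]
      exact Subgroup.index_dvd_card _
    have hKL : ∀ h ∈ L, ∀ y ∈ K, h * y * h⁻¹ ∈ K := by
      rintro h ⟨-, m, hm, em⟩ y hy
      obtain ⟨m', hm', rfl⟩ := (hKm y).1 hy
      refine (hKm _).2 ⟨h * m' * h⁻¹ * m, N.mul_mem (hN.conj_mem m' hm' h) hm, ?_⟩
      calc h * (m' * x * m'⁻¹) * h⁻¹ = h * m' * h⁻¹ * (h * x * h⁻¹) * (h * m' * h⁻¹)⁻¹ := by group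
        _ = h * m' * h⁻¹ * m * x * (h * m' * h⁻¹ * m)⁻¹ := by rw [em]; group
    have hKp : ∀ y ∈ K, y ∈ N ∧ y ≠ 1 ∧ St y ≤ L := by
      intro y hy
      obtain ⟨m, hm, rfl⟩ := (hKm y).1 hy
      refine ⟨hN.conj_mem x hx m, fun he => hx1 (conj_eq_one_iff.1 he), fun h hh => ?_⟩
      obtain ⟨hhH, hc⟩ := (hStmem _ _).1 hh
      refine ⟨hhH, h * m⁻¹ * h⁻¹ * m, N.mul_mem (hN.conj_mem _ (N.inv_mem hm) h) hm, ?_⟩
      calc h * x * h⁻¹ = h * m⁻¹ * h⁻¹ * (h * (m * x * m⁻¹)) * m * h⁻¹ := by group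
        _ = h * m⁻¹ * h⁻¹ * ((m * x * m⁻¹) * h) * m * h⁻¹ := by rw [hc]
        _ = h * m⁻¹ * h⁻¹ * m * x * (h * m⁻¹ * h⁻¹ * m)⁻¹ := by group
    have hr := hrig L K (fun h hh => hh.1) hKL hKp hKdvd
    rw [hr _ ((hKm _).2 ⟨n, hn, rfl⟩), hr x ((hKm _).2 ⟨1, N.one_mem, by simp⟩)]
  -- the components
  have hfix : ∀ x ∈ N, x ≠ 1 → ∀ y ∈ N, y ≠ 1 → ∀ z ∈ N, z ≠ 1 → St x = St y → St y ≤ St z → St x = St z :=
    fun x hx hx1 y hy hy1 z hz hz1 h1 h2 => h1.trans (hle_eq y hy hy1 z hz hz1 h2)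
  have hprod : ∀ x ∈ N, x ≠ 1 → ∀ y ∈ N, x * y ≠ 1 → (y = 1 ∨ St y = St x) → St (x * y) = St x := by
    intro x hx hx1 y hy hxy hxy'
    refine (hle_eq x hx hx1 _ (N.mul_mem hx hy) hxy fun h hh => (hStmem _ _).2 ?_).symm
    obtain ⟨hh1, hh2⟩ := (hStmem _ _).1 hh
    refine ⟨hh1, ?_⟩
    rcases hxy' with rfl | he
    · rw [mul_one, hh2]
    · rw [← he] at hh
      obtain ⟨-, hh3⟩ := (hStmem _ _).1 hh
      rw [← mul_assoc, hh2, mul_assoc, hh3, mul_assoc]
  have hinvSt : ∀ x, St x⁻¹ = St x := fun x => by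
    ext h
    rw [hStmem, hStmem]
    exact and_congr_right fun _ => ⟨fun e => Commute.inv_right_iff.1 e, fun e => Commute.inv_right_iff.2 e⟩
  have hcom1 : ∀ x ∈ N, x ≠ 1 → ∀ y ∈ N, y ≠ 1 → St x ≠ St y → Commute x y := by
    intro x hx hx1 y hy hy1 hd
    by_contra hc
    have hc' : x * y * x⁻¹ * y⁻¹ ≠ 1 := fun e => hc (by
      calc x * y = x * y * x⁻¹ * y⁻¹ * (y * x) := by group
        _ = y * x := by rw [e, one_mul])
    apply hd
    have a1 : St (x * y * x⁻¹ * y⁻¹) = St y := by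
      have e1 := hclass y hy hy1 x hx
      rw [← e1]
      exact hprod _ (hN.conj_mem y hy x) (fun e => hy1 (conj_eq_one_iff.1 e)) y⁻¹ (N.inv_mem hy) hc'
        (Or.inr (by rw [hinvSt, e1]))
    have a2 : St (x * y * x⁻¹ * y⁻¹) = St x := by
      rw [show x * y * x⁻¹ * y⁻¹ = x * (y * x⁻¹ * y⁻¹) by group] at hc' ⊢
      exact hprod x hx hx1 _ (hN.conj_mem _ (N.inv_mem hx) y) hc'
        (Or.inr (by rw [hclass _ (N.inv_mem hx) (inv_ne_one.2 hx1) y hy, hinvSt]))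
    exact a2.symm.trans a1
  push Not at hdiff
  obtain ⟨x₂, hx₂, hx₂1, hx₂d⟩ := hdiff
  have hcomm : ∀ x ∈ N, ∀ y ∈ N, Commute x y := by
    intro x hx y hy
    by_cases hx1 : x = 1
    · subst hx1; exact Commute.one_left y
    by_cases hy1 : y = 1
    · subst hy1; exact Commute.one_right x
    by_cases hd : St x = St y
    · obtain ⟨z, hz, hz1, hzd⟩ : ∃ z ∈ N, z ≠ 1 ∧ St x ≠ St z := by
        by_cases h : St x = St x₁
        · exact ⟨x₂, hx₂, hx₂1, fun e => hx₂d (e.symm.trans h)⟩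
        · exact ⟨x₁, hx₁, hxne, h⟩
      have hyz : y * z ≠ 1 := fun e => hzd (by
        rw [eq_inv_of_mul_eq_one_right e, hinvSt, hd])
      have hd' : St x ≠ St (y * z) := fun e => hzd (by
        have := hprod y⁻¹ (N.inv_mem hy) (inv_ne_one.2 hy1) (y * z) (N.mul_mem hy hz) (by simpa using hz1)
          (Or.inr (by rw [← e, hinvSt, hd]))
        rw [inv_mul_cancel_left, hinvSt] at this
        exact hd.trans this.symm)
      have h1 := (hcom1 x hx hx1 (y * z) (N.mul_mem hy hz) hyz hd').mul_right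
        (hcom1 x hx hx1 z hz hz1 hzd).inv_right
      rwa [mul_inv_cancel_right] at h1
    · exact hcom1 x hx hx1 y hy hy1 hd
  -- the exponent
  have hpow : ∀ x ∈ N, x ≠ 1 → ∀ y ∈ N, y ≠ 1 → St x ≠ St y → y ^ orderOf x = 1 := by
    intro x hx hx1 y hy hy1 hd
    by_contra h
    have hxy : x * y ≠ 1 := fun e => hd (by rw [eq_inv_of_mul_eq_one_left e, hinvSt])
    have e : (x * y) ^ orderOf x = y ^ orderOf x := by
      rw [(hcomm x hx y hy).mul_pow, pow_orderOf_eq_one, one_mul]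
    have hsub : ∀ z ∈ N, ∀ m : ℕ, St z ≤ St (z ^ m) := fun z _ m g hg =>
      (hStmem _ _).2 ⟨((hStmem _ _).1 hg).1, Commute.pow_right ((hStmem _ _).1 hg).2 m⟩
    have h1 : St (x * y) = St (y ^ orderOf x) :=
      hle_eq _ (N.mul_mem hx hy) hxy _ (N.pow_mem hy _) h (e ▸ hsub _ (N.mul_mem hx hy) _)
    have h2 : St y = St (y ^ orderOf x) := hle_eq _ hy hy1 _ (N.pow_mem hy _) h (hsub _ hy _)
    apply hd
    have h3 := hprod (x * y) (N.mul_mem hx hy) hxy y⁻¹ (N.inv_mem hy) (by simpa using hx1)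
      (Or.inr (by rw [hinvSt, h2, h1]))
    rw [mul_inv_cancel_right] at h3
    rw [h3, h1, ← h2]
  have hord : ∀ x ∈ N, x ≠ 1 → ∀ y ∈ N, y ≠ 1 → St x ≠ St y → orderOf x = orderOf y := fun x hx hx1 y hy hy1 hd =>
    Nat.dvd_antisymm (orderOf_dvd_of_pow_eq_one (hpow y hy hy1 x hx hx1 hd.symm))
      (orderOf_dvd_of_pow_eq_one (hpow x hx hx1 y hy hy1 hd))
  have hconst : ∀ x ∈ N, x ≠ 1 → orderOf x = orderOf x₁ := by
    intro x hx hx1
    by_cases h : St x = St x₁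
    · exact (hord x hx hx1 x₂ hx₂ hx₂1 (fun e => hx₂d (e.symm.trans h))).trans
        (hord x₁ hx₁ hxne x₂ hx₂ hx₂1 hx₂d.symm).symm
    · exact hord x hx hx1 x₁ hx₁ hxne h
  set p := (orderOf x₁).minFac with hpdef
  have ho1 : orderOf x₁ ≠ 1 := fun e => hxne (orderOf_eq_one_iff.1 e)
  have hp : p.Prime := Nat.minFac_prime ho1
  have hop : orderOf x₁ = p := by
    have h1 : orderOf (x₁ ^ (orderOf x₁ / p)) = p := orderOf_pow_orderOf_div (orderOf_pos x₁).ne' (Nat.minFac_dvd _)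
    rw [hconst _ (N.pow_mem hx₁ _) (fun e => by rw [e, orderOf_one] at h1; exact hp.ne_one h1.symm)] at h1
    exact h1
  refine ⟨⟨p, hp, ⟨⟨fun u v => Subtype.ext (hcomm u u.2 v v.2)⟩⟩, fun x hx => ?_⟩, fun M hM hMbot => ?_⟩
  · by_cases h : x = 1
    · rw [h, one_pow]
    · rw [← hop, ← hconst x hx h, pow_orderOf_eq_one]
  -- the second part
  by_contra hNM
  obtain ⟨y, hy, hyM⟩ := SetLike.not_le_iff_exists.1 hNM
  obtain ⟨m₀, hm₀, hm₀M, hm₀1⟩ : ∃ m, m ∈ N ∧ m ∈ M ∧ m ≠ 1 := by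
    obtain ⟨g, hg, hg1⟩ := M.bot_or_exists_ne_one.resolve_left hMbot
    by_contra hno
    push Not at hno
    have hgc : ∀ n ∈ N, g * n = n * g := fun n hn => by
      have h1 := hno (g * n * g⁻¹ * n⁻¹) (N.mul_mem (hN.conj_mem n hn g) (N.inv_mem hn)) (by
        have := M.mul_mem hg (hM.conj_mem g⁻¹ (M.inv_mem hg) n)
        simpa [mul_assoc] using this)
      calc g * n = g * n * g⁻¹ * n⁻¹ * (n * g) := by group
        _ = n * g := by rw [h1, one_mul]
    obtain ⟨t, ⟨ht, hta⟩, -⟩ := hbij (g • a₁)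
    have hgt : g = t := FaithfulSMul.eq_of_smul_eq_smul (α := Ω) fun b => by
      obtain ⟨n, ⟨hn, rfl⟩, -⟩ := hbij b
      rw [← mul_smul, hgc n hn, mul_smul, ← hta, ← mul_smul, ← mul_smul, (hcomm n hn t ht).eq]
    exact hg1 (hno g (hgt ▸ ht) hg)
  have hyM' : ∀ y ∈ N, y ∉ M → ∀ m ∈ N, m ∈ M → m ≠ 1 → St m = St y := by
    intro y hy hyM m hm hmM hm1
    let L : Subgroup G :=
      { carrier := {h | h ∈ H ∧ h * y * h⁻¹ * y⁻¹ ∈ M}
        one_mem' := ⟨H.one_mem, by simp⟩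
        mul_mem' := fun {g h} ⟨hg, eg⟩ ⟨hh, eh⟩ => ⟨H.mul_mem hg hh, by
          have := M.mul_mem (hM.conj_mem _ eh g) eg
          simpa [mul_assoc] using this⟩
        inv_mem' := fun {g} ⟨hg, eg⟩ => ⟨H.inv_mem hg, by
          have := hM.conj_mem _ (M.inv_mem eg) g⁻¹
          simpa [mul_assoc] using this⟩ }
    let M₁ : Subgroup G := N ⊓ M
    let K : Set G := (fun z => z * y) '' (M₁ : Set G)
    have hK : ∀ z ∈ K, z ∈ N ∧ z ≠ 1 ∧ St z ≤ L := by
      rintro _ ⟨z, ⟨hz, hzM⟩, rfl⟩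
      refine ⟨N.mul_mem hz hy, fun e => hyM ((eq_inv_of_mul_eq_one_right e) ▸ M.inv_mem hzM), fun h hh => ?_⟩
      obtain ⟨hhH, hc⟩ := (hStmem _ _).1 hh
      refine ⟨hhH, ?_⟩
      have e2 : h * y * h⁻¹ * y⁻¹ = (h * z * h⁻¹)⁻¹ * z := by
        calc h * y * h⁻¹ * y⁻¹ = (h * z * h⁻¹)⁻¹ * (h * (z * y)) * h⁻¹ * y⁻¹ := by group
          _ = (h * z * h⁻¹)⁻¹ * ((z * y) * h) * h⁻¹ * y⁻¹ := by rw [hc]
          _ = _ := by group
      rw [e2]
      exact M.mul_mem (M.inv_mem (hM.conj_mem z hzM h)) hzM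
    have hKinv : ∀ h ∈ L, ∀ z ∈ K, h * z * h⁻¹ ∈ K := by
      rintro h ⟨-, eh⟩ _ ⟨z, ⟨hz, hzM⟩, rfl⟩
      refine ⟨h * z * h⁻¹ * (h * y * h⁻¹ * y⁻¹), ⟨N.mul_mem (hN.conj_mem z hz h)
        (N.mul_mem (hN.conj_mem y hy h) (N.inv_mem hy)), M.mul_mem (hM.conj_mem z hzM h) eh⟩, ?_⟩
      group
    have hKd : Nat.card K ∣ Nat.card N := by
      rw [Nat.card_image_of_injective (mul_left_injective y)]
      exact Subgroup.card_dvd_of_le inf_le_left
    have hr := hrig L K (fun h hh => hh.1) hKinv hK hKd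
    have e1 := hr y ⟨1, M₁.one_mem, one_mul y⟩
    have e2 := hr (m * y) ⟨m, ⟨hm, hmM⟩, rfl⟩
    have hy1 : y ≠ 1 := fun e => hyM (e ▸ M.one_mem)
    have e3 := hprod (m * y) (N.mul_mem hm hy) (hK _ ⟨m, ⟨hm, hmM⟩, rfl⟩).2.1 y⁻¹ (N.inv_mem hy)
      (by simpa using hm1) (Or.inr (by rw [hinvSt, e1, e2]))
    rw [mul_inv_cancel_right, e2, ← e1] at e3
    exact e3
  apply hx₂d
  have hall : ∀ x ∈ N, x ≠ 1 → St x = St m₀ := by
    intro x hx hx1
    by_cases hxM : x ∈ M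
    · rw [hyM' y hy hyM x hx hxM hx1, hyM' y hy hyM m₀ hm₀ hm₀M hm₀1]
    · exact (hyM' x hx hxM m₀ hm₀ hm₀M hm₀1).symm
  rw [hall x₂ hx₂ hx₂1, hall x₁ hx₁ hxne]

end Cfsg.Agent.S3356
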