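import Cfsg.Statements.S3357
import Cfsg.Agent.Lib.Frobenius.Kernel
import Cfsg.Agent.Lib.ThreeTransp.FpfRep

set_option autoImplicit false
open Cfsg

namespace Cfsg.Agent.S3357

theorem rep_of_subgroup {L : Type*} [Group L] {p : ℕ} [Fact p.Prime] (V : Subgroup L)
    (hcomm : ∀ a ∈ V, ∀ b ∈ V, a * b = b * a) (hexp : ∀ a ∈ V, a ^ p = 1)
    {C : Type*} [Group C] [Finite C] (ι : C →* L) (hnorm : ∀ c, ∀ z ∈ V, ι c * z * (ι c)⁻¹ ∈ V)
    (hC : ¬ p ∣ Nat.card C) (hfpf : ∀ c, c ≠ 1 → ∀ z ∈ V, ι c * z * (ι c)⁻¹ = z → z = 1)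
    (hne : ∃ z ∈ V, z ≠ 1) :
    ∃ (n : ℕ) (σ : C →* GL (Fin n) (AlgebraicClosure ℚ)), 0 < n ∧ Function.Injective σ ∧
      (∀ W : Submodule (AlgebraicClosure ℚ) (Fin n → AlgebraicClosure ℚ),
        (∀ g : C, ∀ w ∈ W, ((σ g : GL (Fin n) (AlgebraicClosure ℚ)) :
          Matrix (Fin n) (Fin n) (AlgebraicClosure ℚ)).mulVec w ∈ W) → W = ⊥ ∨ W = ⊤) ∧
      ∀ g : C, g ≠ 1 → ∀ v : Fin n → AlgebraicClosure ℚ,
        ((σ g : GL (Fin n) (AlgebraicClosure ℚ)) :
          Matrix (Fin n) (Fin n) (AlgebraicClosure ℚ)).mulVec v = v → v = 0 := by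
  let _ : CommGroup V :=
    { (inferInstance : Group V) with mul_comm := fun a b => Subtype.ext (hcomm a a.2 b b.2) }
  have hx : ∀ x : Additive V, p • x = 0 := fun x => by
    apply Additive.toMul.injective
    exact Subtype.ext (by rw [toMul_nsmul, SubmonoidClass.coe_pow]; exact hexp _ (Additive.toMul x).2)
  obtain ⟨inst⟩ : Nonempty (Module (ZMod p) (Additive V)) := ⟨AddCommGroup.zmodModule hx⟩
  let T : C → Module.End (ZMod p) (Additive V) := fun c => AddMonoidHom.toZModLinearMap p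
    { toFun := fun x => Additive.ofMul (⟨_, hnorm c _ (Additive.toMul x).2⟩ : V)
      map_zero' := Additive.toMul.injective (Subtype.ext (by simp))
      map_add' := fun x y => Additive.toMul.injective (Subtype.ext (by simp [mul_assoc])) }
  have hT1 : T 1 = LinearMap.id := by
    refine LinearMap.ext fun x => Additive.toMul.injective (Subtype.ext ?_)
    show ι 1 * (Additive.toMul x).1 * (ι 1)⁻¹ = (Additive.toMul x).1
    simp
  have hTm : ∀ c d, T (c * d) = (T c).comp (T d) := fun c d => by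
    refine LinearMap.ext fun x => Additive.toMul.injective (Subtype.ext ?_)
    show ι (c * d) * (Additive.toMul x).1 * (ι (c * d))⁻¹ =
      ι c * (ι d * (Additive.toMul x).1 * (ι d)⁻¹) * (ι c)⁻¹
    simp [mul_assoc]
  let ρ : Representation (ZMod p) C (Additive V) := ⟨⟨T, hT1⟩, hTm⟩
  refine Cfsg.Agent.Lib.ThreeTransp.FpfRep.exists_rep ρ hC (fun c hc x hx => ?_) ?_
  · have h1 : ι c * (Additive.toMul x).1 * (ι c)⁻¹ = (Additive.toMul x).1 :=
      congrArg (fun w => ((Additive.toMul w : V) : L)) hx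
    exact Additive.toMul.injective (Subtype.ext (hfpf c hc _ (Additive.toMul x).2 h1))
  · obtain ⟨z, hz, hz1⟩ := hne
    exact ⟨Additive.ofMul ⟨z, hz⟩, fun h => hz1 (congrArg (fun w => ((Additive.toMul w : V) : L)) h)⟩

open Cfsg.Agent.Lib.Frobenius in
theorem main {L : Type} [Group L] [Finite L] {H : Subgroup L} (hH : Cfsg.IsFrobeniusComplement H) :
    ∃ (n : ℕ) (σ : H →* GL (Fin n) (AlgebraicClosure ℚ)), 0 < n ∧ Function.Injective σ ∧
      (∀ W : Submodule (AlgebraicClosure ℚ) (Fin n → AlgebraicClosure ℚ),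
        (∀ g : H, ∀ w ∈ W, ((σ g : GL (Fin n) (AlgebraicClosure ℚ)) :
          Matrix (Fin n) (Fin n) (AlgebraicClosure ℚ)).mulVec w ∈ W) → W = ⊥ ∨ W = ⊤) ∧
      ∀ g : H, g ≠ 1 → ∀ v : Fin n → AlgebraicClosure ℚ,
        ((σ g : GL (Fin n) (AlgebraicClosure ℚ)) :
          Matrix (Fin n) (Fin n) (AlgebraicClosure ℚ)).mulVec v = v → v = 0 := by
  classical
  obtain ⟨N, hN, hset, hdisj, hsup, hN0, hcompl, hcard⟩ := exists_frobeniusKernel hH
  have hfpf := frobeniusKernel_fixedPointFree hH hset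
  have hco : Nat.Coprime (Nat.card H) (Nat.card N) := by
    rw [hcard]; exact card_coprime_index hH
  obtain ⟨p, hp, hpN⟩ := Nat.exists_prime_and_dvd (mt Subgroup.card_eq_one.1 hN0)
  haveI : Fact p.Prime := ⟨hp⟩
  obtain ⟨P⟩ : Nonempty (Sylow p N) := inferInstance
  let P' : Subgroup L := (P : Subgroup N).map N.subtype
  let M : Subgroup L := Subgroup.normalizer (P' : Set L)
  have hMN : M ⊔ N = ⊤ := Sylow.normalizer_sup_eq_top P
  -- a complement of `N` normalizing `P'`
  let NM : Subgroup M := N.subgroupOf M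
  have hidx : NM.index = Nat.card H := by
    have h1 : N.relIndex M = N.index := by
      rw [← Subgroup.relIndex_sup_right, hMN, Subgroup.relIndex_top_right]
    have h2 : N.index = Nat.card H := hcompl.symm.index_eq_card
    exact h1.trans h2
  obtain ⟨C, hC⟩ := Subgroup.exists_right_complement'_of_coprime (N := NM) (by
    rw [hidx]
    refine Nat.Coprime.coprime_dvd_left ?_ hco.symm
    exact Subgroup.card_comap_dvd_of_injective N M.subtype M.subtype_injective)
  have hCcard : Nat.card C = Nat.card H := hC.symm.index_eq_card ▸ hidx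
  let e : C →* L ⧸ N := (QuotientGroup.mk' N).comp (M.subtype.comp C.subtype)
  let f : H →* L ⧸ N := (QuotientGroup.mk' N).comp H.subtype
  have he : Function.Injective e := by
    rw [injective_iff_map_eq_one]
    intro c hc
    have h1 : ((c : M) : L) ∈ N := (QuotientGroup.eq_one_iff _).1 hc
    have h2 : (c : M) ∈ NM ⊓ C := ⟨h1, c.2⟩
    rw [hC.disjoint.eq_bot, Subgroup.mem_bot] at h2
    exact Subtype.ext h2
  have hfinj : Function.Injective f := by
    rw [injective_iff_map_eq_one]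
    intro h hh
    have h2 : (h : L) ∈ N ⊓ H := ⟨(QuotientGroup.eq_one_iff _).1 hh, h.2⟩
    rw [hdisj, Subgroup.mem_bot] at h2
    exact Subtype.ext h2
  have hq : Nat.card (L ⧸ N) = Nat.card H := hcompl.symm.index_eq_card
  have heb : Function.Bijective e := (Nat.bijective_iff_injective_and_card e).2 ⟨he, by omega⟩
  have hfb : Function.Bijective f := (Nat.bijective_iff_injective_and_card f).2 ⟨hfinj, by omega⟩
  let φ : H ≃* C := (MulEquiv.ofBijective f hfb).trans (MulEquiv.ofBijective e heb).symm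
  -- fixed point freeness
  have hfree : ∀ c : C, c ≠ 1 → ∀ n ∈ N, ((c : M) : L) * n = n * ((c : M) : L) → n = 1 := by
    intro c hc n hn hcomm
    have hcN : ((c : M) : L) ∉ N := fun h => hc (he (by
      rw [map_one]; exact (QuotientGroup.eq_one_iff _).2 h))
    have hk : ((c : M) : L) ∉ Cfsg.frobeniusKernel H := by rw [← hset]; exact hcN
    rw [mem_frobeniusKernel_iff] at hk
    push Not at hk
    obtain ⟨hc1, g, hg⟩ := hk
    have h3 := hfpf _ hg (fun h => hc1 (by
      calc ((c : M) : L) = g * (g⁻¹ * (c : M) * g) * g⁻¹ := by group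
        _ = 1 := by rw [h]; group)) (g⁻¹ * n * g)
      (by simpa using hN.conj_mem n hn g⁻¹) (by
        calc g⁻¹ * (c : M) * g * (g⁻¹ * n * g) = g⁻¹ * ((c : M) * n) * g := by group
          _ = g⁻¹ * (n * (c : M)) * g := by rw [hcomm]
          _ = g⁻¹ * n * g * (g⁻¹ * (c : M) * g) := by group)
    calc n = g * (g⁻¹ * n * g) * g⁻¹ := by group
      _ = 1 := by rw [h3]; group
  -- the module
  have hP'N : P' ≤ N := Subgroup.map_subtype_le _
  let V : Subgroup L :=
    { carrier := {z | z ∈ P' ∧ (∀ y ∈ P', y * z = z * y) ∧ z ^ p = 1}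
      one_mem' := ⟨P'.one_mem, fun y _ => by simp, one_pow p⟩
      mul_mem' := fun {a b} ⟨ha, ha', ha''⟩ ⟨hb, hb', hb''⟩ => ⟨P'.mul_mem ha hb,
        fun y hy => Commute.mul_right (ha' y hy) (hb' y hy),
        by rw [Commute.mul_pow (hb' a ha), ha'', hb'', one_mul]⟩
      inv_mem' := fun {a} ⟨ha, ha', ha''⟩ => ⟨P'.inv_mem ha,
        fun y hy => Commute.inv_right (ha' y hy), by rw [inv_pow, ha'', inv_one]⟩ }
  have hVM : ∀ m ∈ M, ∀ z ∈ V, m * z * m⁻¹ ∈ V := by
    rintro m hm z ⟨hz, hz', hz''⟩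
    have hm' := Subgroup.mem_normalizer_iff.1 hm
    refine ⟨(hm' z).1 hz, fun y hy => ?_, by rw [conj_pow, hz'', mul_one, mul_inv_cancel]⟩
    have h1 := hz' (m⁻¹ * y * m) ((hm' _).2 (by simpa [mul_assoc] using hy))
    calc y * (m * z * m⁻¹) = m * (m⁻¹ * y * m * z) * m⁻¹ := by group
      _ = m * (z * (m⁻¹ * y * m)) * m⁻¹ := by rw [h1]
      _ = m * z * m⁻¹ * y := by group
  haveI hPne : Nontrivial (P : Subgroup N) := (Subgroup.nontrivial_iff_ne_bot _).2
    (P.ne_bot_of_dvd_card hpN)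
  haveI : Nontrivial (Subgroup.center (P : Subgroup N)) := P.isPGroup'.center_nontrivial
  obtain ⟨z, hz⟩ : ∃ z : Subgroup.center (P : Subgroup N), orderOf z = p := by
    refine exists_prime_orderOf_dvd_card' p ?_
    obtain ⟨k, hk⟩ := IsPGroup.iff_card.1 (P.isPGroup'.to_subgroup (Subgroup.center (P : Subgroup N)))
    rw [hk]
    refine dvd_pow_self p fun h0 => ?_
    rw [h0, pow_zero] at hk
    exact absurd hk (Finite.one_lt_card).ne'
  have hzV : ((((z : (P : Subgroup N)) : N)) : L) ∈ V := by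
    refine ⟨Subgroup.mem_map_of_mem N.subtype (z : (P : Subgroup N)).2, ?_, ?_⟩
    · rintro _ ⟨y, hy, rfl⟩
      have := Subgroup.mem_center_iff.1 z.2 ⟨y, hy⟩
      exact congrArg (fun w : (P : Subgroup N) => (((w : N)) : L)) this
    · have := congrArg (fun w : Subgroup.center (P : Subgroup N) => ((((w : (P : Subgroup N)) : N)) : L))
        (pow_orderOf_eq_one z)
      rw [hz] at this
      simpa using this
  obtain ⟨n, σ, hn, hinj, hirr, hno⟩ := rep_of_subgroup (p := p) V (fun a ha b hb => hb.2.1 a ha.1)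
    (fun z hz => hz.2.2) (M.subtype.comp C.subtype) (fun c z hz => hVM _ (c : M).2 z hz)
    (fun h => by
      rw [hCcard] at h
      exact hp.ne_one (Nat.eq_one_of_dvd_coprimes hco h hpN))
    (fun c hc z hz hfix => hfree c hc z (hP'N hz.1) (mul_inv_eq_iff_eq_mul.1 hfix))
    ⟨_, hzV, fun h1 => by
      have h2 : z = 1 := Subtype.ext (Subtype.ext (Subtype.ext h1))
      rw [h2, orderOf_one] at hz
      exact hp.ne_one hz.symm⟩
  refine ⟨n, σ.comp φ.toMonoidHom, hn, hinj.comp φ.injective, fun W hW => hirr W ?_,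
    fun g hg => hno (φ g) ((MulEquiv.map_ne_one_iff φ).2 hg)⟩
  intro c w hw
  have := hW (φ.symm c) w hw
  simpa using this

/-- Let G be a finite group that occurs as a Frobenius complement. Then G has a faithful irreducible representation over an algebraic closure of the rationals in which no non-identity element of G has 1 as an eigenvalue: there are n ≥ 1 and an injective homomorphism ρ from G to GL(n) over that field, with no invariant subspace other than 0 and the whole space, such that for g ≠ 1 the only vector fixed by ρ(g) is 0. -/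
theorem result {G : Type*} [Group G] [Finite G]
    (hFC : ∃ (L : Type) (_ : Group L) (_ : Finite L) (H : Subgroup L), Cfsg.IsFrobeniusComplement H ∧ Nonempty (G ≃* H)) :
    ∃ (n : ℕ) (ρ : G →* GL (Fin n) (AlgebraicClosure ℚ)), 0 < n ∧ Function.Injective ρ ∧
      (∀ W : Submodule (AlgebraicClosure ℚ) (Fin n → AlgebraicClosure ℚ),
        (∀ g : G, ∀ w ∈ W, ((ρ g : GL (Fin n) (AlgebraicClosure ℚ)) : Matrix (Fin n) (Fin n) (AlgebraicClosure ℚ)).mulVec w ∈ W) → W = ⊥ ∨ W = ⊤) ∧
      ∀ g : G, g ≠ 1 → ∀ v : Fin n → AlgebraicClosure ℚ,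
        ((ρ g : GL (Fin n) (AlgebraicClosure ℚ)) : Matrix (Fin n) (Fin n) (AlgebraicClosure ℚ)).mulVec v = v → v = 0 := by
  obtain ⟨L, _, _, H, hH, ⟨e⟩⟩ := hFC
  obtain ⟨n, σ, hn, hinj, hirr, hno⟩ := main hH
  refine ⟨n, σ.comp e.toMonoidHom, hn, hinj.comp e.injective, fun W hW => hirr W ?_,
    fun g hg => hno (e g) ((MulEquiv.map_ne_one_iff e).2 hg)⟩
  intro c w hw
  have := hW (e.symm c) w hw
  simpa using this

end Cfsg.Agent.S3357
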