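import Cfsg.Statements.S3361
import Cfsg.Agent.Lib.SolvTransLinear.Main
import Cfsg.Agent.S0106

set_option autoImplicit false
open Cfsg

namespace Cfsg.Agent.S3361

open scoped commutatorElement
open Cfsg.Agent.Lib.SolvTransLinear

universe u v

theorem index_two_of_comm {Q : Type*} [Group Q] [Finite Q] (hc : ∀ a b : Q, a * b = b * a)
    (h2 : 2 ∣ Nat.card Q) : ∃ N : Subgroup Q, N.Normal ∧ N.index = 2 := by
  letI : CommGroup Q := { (inferInstance : Group Q) with mul_comm := hc }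
  haveI : Fact (Nat.Prime 2) := ⟨Nat.prime_two⟩
  let f : Q →* Q := powMonoidHom 2
  obtain ⟨x, hx⟩ := exists_prime_orderOf_dvd_card' (G := Q) 2 h2
  have hni : ¬ Function.Surjective f := fun hs => by
    have hinj := Finite.injective_iff_surjective.mpr hs
    have h1 : x = 1 := hinj (by
      show x ^ 2 = 1 ^ 2
      rw [one_pow, ← hx, pow_orderOf_eq_one])
    rw [h1, orderOf_one] at hx
    omega
  have hne : f.range ≠ ⊤ := fun h => hni (MonoidHom.range_eq_top.mp h)
  have hp : IsPGroup 2 (Q ⧸ f.range) := fun c => ⟨1, by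
    rw [pow_one]
    refine QuotientGroup.induction_on c fun a => ?_
    rw [← QuotientGroup.mk_pow, QuotientGroup.eq_one_iff]
    exact ⟨a, rfl⟩⟩
  obtain ⟨j, hj⟩ := IsPGroup.iff_card.mp hp
  have hj0 : 0 < j := by
    rcases Nat.eq_zero_or_pos j with rfl | h
    · rw [pow_zero, ← Subgroup.index_eq_card, Subgroup.index_eq_one] at hj
      exact absurd hj hne
    · exact h
  obtain ⟨K, hK⟩ := Sylow.exists_subgroup_card_pow_prime 2
    (n := j - 1) (hj ▸ pow_dvd_pow 2 (Nat.sub_le j 1) : 2 ^ (j - 1) ∣ Nat.card (Q ⧸ f.range))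
  refine ⟨K.comap (QuotientGroup.mk' f.range), inferInstance, ?_⟩
  rw [Subgroup.index_comap_of_surjective _ (QuotientGroup.mk'_surjective _)]
  have h := K.index_mul_card
  rw [hK, hj, show 2 ^ j = 2 * 2 ^ (j - 1) by rw [← pow_succ']; congr 1; omega] at h
  exact Nat.eq_of_mul_eq_mul_right (pow_pos two_pos _) h

theorem index_two_of_quotient {G : Type*} [Group G] {Q : Type*} [Group Q] (f : G →* Q)
    (hf : Function.Surjective f) (h : ∃ N : Subgroup Q, N.Normal ∧ N.index = 2) :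
    ∃ N : Subgroup G, N.Normal ∧ N.index = 2 := by
  obtain ⟨N, hN, hN2⟩ := h
  exact ⟨N.comap f, hN.comap f, by rw [Subgroup.index_comap_of_surjective _ hf, hN2]⟩

theorem index_two_of_card {Q : Type*} [Group Q] [Finite Q]
    (h : Nat.card Q = 2 ∨ Nat.card Q = 6) : ∃ N : Subgroup Q, N.Normal ∧ N.index = 2 := by
  rcases h with h | h
  · exact ⟨⊥, inferInstance, by rw [Subgroup.index_bot, h]⟩
  · haveI : Fact (Nat.Prime 3) := ⟨Nat.prime_three⟩
    obtain ⟨t, ht⟩ := exists_prime_orderOf_dvd_card' (G := Q) 3 (by rw [h]; norm_num)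
    have h1 := (Subgroup.zpowers t).index_mul_card
    rw [h, Nat.card_zpowers, ht] at h1
    exact ⟨Subgroup.zpowers t, Subgroup.normal_of_index_eq_two (by omega), by omega⟩

variable {q : ℕ} [Fact q.Prime] {V : Type u} [AddCommGroup V] [Module (ZMod q) V]
variable [Finite V] [Nontrivial V] {G : Type v} [Group G] [Finite G]
variable {ρ : G →* (V ≃ₗ[ZMod q] V)}

theorem card_regular (hρ : Function.Injective ρ)
    (htrans : ∀ v w : V, v ≠ 0 → w ≠ 0 → ∃ g : G, ρ g v = w)
    (hreg : ∀ v : V, v ≠ 0 → ∀ g : G, ρ g v = v → g = 1) :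
    Nat.card G = q ^ Module.finrank (ZMod q) V - 1 := by
  classical
  obtain ⟨v, hv⟩ := exists_ne (0 : V)
  haveI := Fintype.ofFinite V
  have e : G ≃ {w : V // w ≠ 0} := Equiv.ofBijective
    (fun g => ⟨ρ g v, fun h => hv ((ρ g).map_eq_zero_iff.mp h)⟩)
    ⟨fun g g' h => by
      have h1 : ρ g v = ρ g' v := congrArg Subtype.val h
      refine (inv_mul_eq_one.mp (hreg v hv (g'⁻¹ * g) ?_)).symm
      rw [map_mul, LinearEquiv.mul_apply, h1, ← LinearEquiv.mul_apply, ← map_mul, inv_mul_cancel,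
        map_one]
      rfl,
    fun w => by
      obtain ⟨g, hg⟩ := htrans v w.1 hv w.2
      exact ⟨g, Subtype.ext hg⟩⟩
  rw [Nat.card_congr e, Nat.card_eq_fintype_card, Fintype.card_subtype_compl,
    Fintype.card_subtype_eq, ← Nat.card_eq_fintype_card,
    Module.natCard_eq_pow_finrank (K := ZMod q), Nat.card_zmod]

theorem involution_neg (hρ : Function.Injective ρ)
    (hreg : ∀ v : V, v ≠ 0 → ∀ g : G, ρ g v = v → g = 1) {t t' : G}
    (ht : t ^ 2 = 1) (ht1 : t ≠ 1) (ht' : t' ^ 2 = 1) (ht1' : t' ≠ 1) : t = t' := by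
  have key : ∀ s : G, s ^ 2 = 1 → s ≠ 1 → ∀ v, ρ s v = -v := by
    intro s hs hs1 v
    have h1 : ρ s (v + ρ s v) = v + ρ s v := by
      rw [map_add, ← LinearEquiv.mul_apply, ← map_mul, ← pow_two, hs, map_one,
        show (1 : V ≃ₗ[ZMod q] V) v = v from rfl, add_comm]
    by_contra hne
    exact hs1 (hreg _ (fun h => hne (eq_neg_of_add_eq_zero_right h)) s h1)
  exact hρ (LinearEquiv.ext fun v => by rw [key t ht ht1, key t' ht' ht1'])

theorem semilinear_index_two {A : Subgroup G} (h : Setup ρ A)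
    (hreg : ∀ v : V, v ≠ 0 → ∀ g : G, ρ g v = v → g = 1)
    (heq : Module.finrank (ZMod q) (envAlg ρ A) = Module.finrank (ZMod q) V) (hq : q ≠ 2) :
    ∃ N : Subgroup G, N.Normal ∧ N.index = 2 := by
  classical
  haveI := h.maxAb.normal
  haveI : Finite (Module.End (ZMod q) V) := Finite.of_injective _ DFunLike.coe_injective
  letI := h.field
  haveI : FiniteDimensional (ZMod q) (envAlg ρ A) := Module.Finite.of_finite
  haveI : FiniteDimensional (envAlg ρ A) V := Module.Finite.of_finite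
  -- the centralizer of `A` consists of scalars
  have hl : Module.finrank (envAlg ρ A) V = 1 := by
    have h1 := Module.finrank_mul_finrank (ZMod q) (envAlg ρ A) V
    rw [← heq] at h1
    exact Nat.eq_of_mul_eq_mul_left h.finrank_pos (h1.trans (mul_one _).symm)
  obtain ⟨v₀, hv₀⟩ := exists_ne (0 : V)
  have hspan := (finrank_eq_one_iff_of_nonzero' v₀ hv₀).mp hl
  have hCA : ∀ g ∈ Subgroup.centralizer (A : Set G), g ∈ A := by
    intro g hg
    obtain ⟨c, hc⟩ := hspan (ρ g v₀)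
    refine h.eq_mem ?_
    have : toEnd ρ g = (c : Module.End (ZMod q) V) := by
      refine LinearMap.ext fun v => ?_
      obtain ⟨a, rfl⟩ := hspan v
      show toEnd ρ g ((a : Module.End (ZMod q) V) v₀) =
        (c : Module.End (ZMod q) V) ((a : Module.End (ZMod q) V) v₀)
      rw [← Module.End.mul_apply, ← h.commute_envAlg' hg a.2, Module.End.mul_apply, toEnd_apply,
        ← hc, ← Module.End.mul_apply (c : Module.End (ZMod q) V),
        envAlg_comm ρ h.maxAb.comm c c.2 a a.2]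
      rfl
    rw [this]
    exact c.2
  -- the automorphisms of the field commute
  have hcyc : ∀ a b : G ⧸ A, a * b = b * a := by
    intro a b
    refine QuotientGroup.induction_on a fun x => ?_
    refine QuotientGroup.induction_on b fun y => ?_
    have hmem : x⁻¹ * y⁻¹ * x * y ∈ Subgroup.centralizer (A : Set G) := by
      let σ : G → (envAlg ρ A ≃ₐ[ZMod q] envAlg ρ A) := fun g =>
        { toFun := fun r => ⟨conjEnd ρ g r, conjEnd_mem ρ g r.2⟩
          invFun := fun r => ⟨conjEnd ρ g⁻¹ r, conjEnd_mem ρ g⁻¹ r.2⟩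
          left_inv := fun r => Subtype.ext (by
            show conjEnd ρ g⁻¹ (conjEnd ρ g r) = r
            rw [← conjEnd_mul_apply, inv_mul_cancel, conjEnd_apply, inv_one, map_one, one_mul,
              mul_one])
          right_inv := fun r => Subtype.ext (by
            show conjEnd ρ g (conjEnd ρ g⁻¹ r) = r
            rw [← conjEnd_mul_apply, mul_inv_cancel, conjEnd_apply, inv_one, map_one, one_mul,
              mul_one])
          map_mul' := fun r r' => Subtype.ext (map_mul _ _ _)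
          map_add' := fun r r' => Subtype.ext (map_add _ _ _)
          commutes' := fun c => Subtype.ext ((conjEnd ρ g).commutes c) }
      haveI : IsCyclic (envAlg ρ A ≃ₐ[ZMod q] envAlg ρ A) := inferInstance
      rw [Subgroup.mem_centralizer_iff]
      intro z hz
      have hc : σ y⁻¹ * σ x = σ x * σ y⁻¹ :=
        (IsCyclic.commGroup (α := envAlg ρ A ≃ₐ[ZMod q] envAlg ρ A)).mul_comm _ _
      have h2 := congrArg (fun e : envAlg ρ A ≃ₐ[ZMod q] envAlg ρ A =>
        ((e ⟨_, toEnd_mem_envAlg ρ (h.maxAb.normal.conj_mem z hz y)⟩ : envAlg ρ A) :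
          Module.End (ZMod q) V)) hc
      have h3 : conjEnd ρ y⁻¹ (conjEnd ρ x (toEnd ρ (y * z * y⁻¹))) =
          conjEnd ρ x (conjEnd ρ y⁻¹ (toEnd ρ (y * z * y⁻¹))) := h2
      rw [conjEnd_toEnd, conjEnd_toEnd, conjEnd_toEnd, conjEnd_toEnd] at h3
      have h4 := toEnd_injective ρ h.inj h3
      simp only [mul_assoc, inv_inv, inv_mul_cancel_left, inv_mul_cancel, mul_one] at h4
      calc z * (x⁻¹ * y⁻¹ * x * y) = x⁻¹ * (x * (z * x⁻¹)) * y⁻¹ * x * y := by simp [mul_assoc]
        _ = x⁻¹ * (y⁻¹ * (x * (y * (z * (y⁻¹ * (x⁻¹ * y)))))) * y⁻¹ * x * y := by rw [h4]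
        _ = _ := by simp [mul_assoc]
    rw [← QuotientGroup.mk_mul, ← QuotientGroup.mk_mul, eq_comm, QuotientGroup.eq]
    refine hCA _ ?_
    simpa [mul_assoc] using hmem
  by_cases h2 : 2 ∣ A.index
  · exact index_two_of_quotient (QuotientGroup.mk' A) (QuotientGroup.mk'_surjective A)
      (index_two_of_comm hcyc (A.index_eq_card ▸ h2))
  -- otherwise transfer the involution
  haveI : Fact (Nat.Prime 2) := ⟨Nat.prime_two⟩
  have h2G : 2 ∣ Nat.card G := by
    rw [card_regular h.inj h.trans hreg]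
    have ho : Odd (q ^ Module.finrank (ZMod q) V) := ((Fact.out : q.Prime).odd_of_ne_two hq).pow
    obtain ⟨i, hi⟩ := ho
    exact ⟨i, by omega⟩
  have h2A : 2 ∣ Nat.card A := by
    rw [← A.index_mul_card] at h2G
    exact (Nat.prime_two.dvd_mul.mp h2G).resolve_left h2
  obtain ⟨t, ht⟩ := exists_prime_orderOf_dvd_card' (G := A) 2 h2A
  have ht' : (t : G) ^ 2 = 1 := by rw [← ht, ← Subgroup.orderOf_coe, pow_orderOf_eq_one]
  have ht1 : (t : G) ≠ 1 := fun h1 => by
    rw [← Subgroup.orderOf_coe, h1, orderOf_one] at ht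
    omega
  have hcentral : ∀ g : G, g⁻¹ * t * g = t := fun g => by
    refine involution_neg h.inj hreg ?_ ?_ ht' ht1
    · rw [show g⁻¹ * (t : G) * g = g⁻¹ * t * g⁻¹⁻¹ by rw [inv_inv], conj_pow, ht', mul_one,
        mul_inv_cancel]
    · intro h1
      exact ht1 (conj_eq_one_iff.mp (show g⁻¹ * (t : G) * g⁻¹⁻¹ = 1 by rwa [inv_inv]))
  letI : CommGroup A := { (inferInstance : Group A) with
    mul_comm := fun a b => Subtype.ext (h.maxAb.comm a a.2 b b.2) }
  let φ : G →* A := MonoidHom.transfer (MonoidHom.id A)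
  have hodd : A.index % 2 = 1 := Nat.two_dvd_ne_zero.mp h2
  have hkey : ∀ (k : ℕ) (g₀ : G), g₀⁻¹ * (t : G) ^ k * g₀ ∈ A → g₀⁻¹ * (t : G) ^ k * g₀ = (t : G) ^ k :=
    fun k g₀ _ => by
      conv_lhs => rw [show g₀⁻¹ * (t : G) ^ k * g₀ = g₀⁻¹ * (t : G) ^ k * g₀⁻¹⁻¹ by rw [inv_inv]]
      rw [← conj_pow, inv_inv, hcentral]
  have hφt : ((φ t : A) : G) = t := by
    have h5 := MonoidHom.transfer_eq_pow (MonoidHom.id A) (t : G) hkey
    show ((MonoidHom.transfer (MonoidHom.id A) (t : G) : A) : G) = t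
    rw [h5]
    show (t : G) ^ A.index = t
    rw [← pow_mod_orderOf, show orderOf (t : G) = 2 by rw [Subgroup.orderOf_coe]; exact ht, hodd,
      pow_one]
  have h2R : 2 ∣ Nat.card φ.range := by
    have h6 := Subgroup.orderOf_dvd_natCard φ.range (x := φ t) ⟨t, rfl⟩
    rwa [← Subgroup.orderOf_coe, hφt, Subgroup.orderOf_coe, ht] at h6
  exact index_two_of_quotient φ.rangeRestrict φ.rangeRestrict_surjective
    (index_two_of_comm (fun a b => Subtype.ext (mul_comm a.1 b.1)) h2R)

theorem exceptional_iso {A M : Subgroup G} {s : ℕ} (h : Setup ρ A) (hS : IsSymp A M s)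
    (hreg : ∀ v : V, v ≠ 0 → ∀ g : G, ρ g v = v → g = 1)
    (hn : Module.finrank (ZMod q) V = 2) (h3 : 3 ∣ Nat.card G) (hA : ¬ 3 ∣ Nat.card A)
    (k : ℕ) (hk : Odd k) (hAk : ∀ a ∈ A, a ^ (2 * k) = 1) (H : Subgroup G) (hH : Nat.card H = 24)
    (hHmem : ∀ x : G, x ^ 24 = 1 → x ∈ H) :
    Nonempty (H ≃* Matrix.SpecialLinearGroup (Fin 2) (ZMod 3)) := by
  classical
  haveI := h.maxAb.normal
  haveI := hS.normal
  letI := h.field
  obtain ⟨hs, hd1, hidx, -⟩ := h.dim_two hS hn
  subst hs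
  obtain ⟨m, hm, hm', -, heq⟩ := h.symp_bound hS
  obtain rfl : m = 1 := by
    rw [hidx] at hm'
    rcases Nat.lt_or_ge m 2 with h' | h'
    · omega
    · have : 2 ^ 4 ≤ 2 ^ (2 * m) := Nat.pow_le_pow_right two_pos (by omega)
      omega
  have hcen : ∀ g : G, g ∈ Subgroup.centralizer (A : Set G) := fun g => by
    have h1 := h.centralizer_index_dvd
    rw [hd1, Nat.dvd_one, Subgroup.index_eq_one] at h1
    exact h1 ▸ Subgroup.mem_top g
  have hscal : ∀ g : G, (∀ u ∈ M, g * u = u * g) → g ∈ A := fun g hg =>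
    h.eq_mem (heq (by rw [hd1, hn]; norm_num) g (hcen g) hg)
  haveI : Fact (Nat.Prime 3) := ⟨Nat.prime_three⟩
  obtain ⟨g, hg⟩ := exists_prime_orderOf_dvd_card' (G := G) 3 h3
  haveI : (A.subgroupOf M).Normal := Subgroup.Normal.subgroupOf inferInstance M
  let Φ := IsSymp.qact h.maxAb.normal hS.normal
  let o : M ⧸ A.subgroupOf M := QuotientGroup.mk 1
  haveI := Fintype.ofFinite (M ⧸ A.subgroupOf M)
  have hcard4 : Fintype.card (M ⧸ A.subgroupOf M) = 4 := by
    rw [← Nat.card_eq_fintype_card, ← Subgroup.index_eq_card, hidx]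
  have hc3 : Φ g ^ 3 = 1 := by rw [← map_pow, ← hg, pow_orderOf_eq_one, map_one]
  have hfix : ∀ c, Φ g c = c → c = o := by
    intro c hc
    by_contra hne
    have hall : ∀ c', Φ g c' = c' := by
      intro c'
      by_contra hne'
      have he : ∀ x, Φ g (Φ g (Φ g x)) = x := fun x => by
        have := Equiv.ext_iff.mp hc3 x
        simpa [pow_succ] using this
      have ho' : Φ g o = o := IsSymp.qact_one _ _ _
      have hd : Φ g (Φ g c') ≠ c' := fun h' => hne' (by
        have h'' := congrArg (Φ g) h'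
        rw [he] at h''
        exact h''.symm)
      have hd2 : Φ g (Φ g c') ≠ Φ g c' := fun h' => hne' ((Φ g).injective h')
      have hcard : ({o, c, c', Φ g c', Φ g (Φ g c')} : Finset (M ⧸ A.subgroupOf M)).card ≤ 4 :=
        hcard4 ▸ Finset.card_le_univ _
      have hio : ∀ x, Φ g x = x → x ≠ c' ∧ x ≠ Φ g c' ∧ x ≠ Φ g (Φ g c') := fun x hx =>
        ⟨fun e => hne' (e ▸ hx), fun e => hne' ((Φ g).injective (e ▸ hx)),
          fun e => hd2 ((Φ g).injective (e ▸ hx))⟩
      obtain ⟨a1, a2, a3⟩ := hio o ho'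
      obtain ⟨b1, b2, b3⟩ := hio c hc
      rw [Finset.card_insert_of_notMem (by simp [Ne.symm hne, a1, a2, a3]),
        Finset.card_insert_of_notMem (by simp [b1, b2, b3]),
        Finset.card_insert_of_notMem (by simp [Ne.symm hne', Ne.symm hd]),
        Finset.card_insert_of_notMem (by simp [Ne.symm hd2]), Finset.card_singleton] at hcard
      omega
    refine hA ?_
    have hgA : g ∈ A := hscal g fun u hu => commute_of_fixed (A := A)
      (fun a ha y hy => Subgroup.mem_centralizer_iff.mp hy a ha) Nat.prime_three hA hg (hcen g)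
      ((IsSymp.qact_fix h.maxAb.normal hS.normal g ⟨u, hu⟩).mp (hall _))
    exact hg ▸ Subgroup.orderOf_dvd_natCard A hgA
  -- the involution
  obtain ⟨u₀, hu₀M, hu₀A⟩ := SetLike.not_le_iff_exists.mp hS.not_le
  set u₁ := u₀ ^ k with hu₁
  have hu₁M : u₁ ∈ M := pow_mem hu₀M k
  have hsq : ∀ w ∈ M, w ^ 2 ∈ A := hS.pow_mem
  have hu₁A : u₁ ∉ A := fun hc => hu₀A (by
    obtain ⟨i, hi⟩ := hk
    have h1 : u₀ ^ k = (u₀ ^ 2) ^ i * u₀ := by rw [hi, pow_add, pow_mul, pow_one]
    rw [hu₁, h1] at hc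
    exact (A.mul_mem_cancel_left (pow_mem (hsq u₀ hu₀M) i)).mp hc)
  set z := u₁ ^ 2 with hz
  have hzA : z ∈ A := hsq _ hu₁M
  have hz2 : z ^ 2 = 1 := by
    rw [hz, hu₁, ← pow_mul, ← pow_mul, show k * (2 * 2) = 2 * (2 * k) by ring, pow_mul]
    exact hAk _ (hsq _ hu₀M)
  have hz1 : z ≠ 1 := by
    intro h1
    obtain ⟨t, ht⟩ := exists_prime_orderOf_dvd_card' (G := A) 2 hS.dvd_card.1
    have : u₁ = t := involution_neg h.inj hreg h1 (fun h' => hu₁A (h' ▸ one_mem A))
      (by rw [← ht, ← Subgroup.orderOf_coe, pow_orderOf_eq_one]) (fun h' => by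
        rw [← Subgroup.orderOf_coe, h', orderOf_one] at ht; omega)
    exact hu₁A (this ▸ t.2)
  have hzc : ∀ w : G, Commute z w := fun w => Subgroup.mem_centralizer_iff.mp (hcen w) z hzA
  obtain ⟨v₁, hv₁⟩ : ∃ x, x = g * u₁ * g⁻¹ := ⟨_, rfl⟩
  have hv₁M : v₁ ∈ M := hv₁ ▸ hS.normal.conj_mem _ hu₁M g
  obtain ⟨w₁, hw₁⟩ : ∃ x, x = g * v₁ * g⁻¹ := ⟨_, rfl⟩
  have hw₁M : w₁ ∈ M := hw₁ ▸ hS.normal.conj_mem _ hv₁M g
  have hv2 : v₁ ^ 2 = z := by rw [hv₁, conj_pow, ← hz, ← (hzc g).eq, mul_inv_cancel_right]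
  have hw2 : w₁ ^ 2 = z := by rw [hw₁, conj_pow, hv2, ← (hzc g).eq, mul_inv_cancel_right]
  have hcls : ∀ a b : M, (QuotientGroup.mk a : M ⧸ A.subgroupOf M) = QuotientGroup.mk b ↔
      (a : G)⁻¹ * b ∈ A := fun a b => by
    rw [QuotientGroup.eq, Subgroup.mem_subgroupOf]; rfl
  let cu : M ⧸ A.subgroupOf M := QuotientGroup.mk ⟨u₁, hu₁M⟩
  let cv : M ⧸ A.subgroupOf M := QuotientGroup.mk ⟨v₁, hv₁M⟩
  let cw : M ⧸ A.subgroupOf M := QuotientGroup.mk ⟨w₁, hw₁M⟩
  have hcu : cu ≠ o := fun he => hu₁A (by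
    have := (hcls _ _).mp he.symm
    simpa using this)
  have hΦu : Φ g cu = cv := by
    show QuotientGroup.mk (MulAut.conjNormal g (⟨u₁, hu₁M⟩ : M)) = _
    exact congrArg QuotientGroup.mk (Subtype.ext (hv₁ ▸ MulAut.conjNormal_apply g _))
  have hcv : cv ≠ o := fun he => hcu ((Φ g).injective (by
    rw [hΦu, he]; exact (IsSymp.qact_one _ _ _).symm))
  have hcuv : cv ≠ cu := fun he => hcu (hfix cu (hΦu.trans he))
  have hvu : v₁ * u₁ ≠ u₁ * v₁ := by
    intro hc
    -- then `u₁` would be central in `M`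
    refine hu₁A (hS.center_le u₁ hu₁M fun b hb => ?_)
    let F : Subgroup G := Subgroup.centralizer ({u₁} : Set G)
    have hFv : v₁ ∈ F := Subgroup.mem_centralizer_singleton_iff.mpr hc
    have hFA : A ≤ F := fun a ha => Subgroup.mem_centralizer_singleton_iff.mpr
      (Subgroup.mem_centralizer_iff.mp (hcen u₁) a ha)
    have hFu : u₁ ∈ F := Subgroup.mem_centralizer_singleton_iff.mpr rfl
    let S : Finset (M ⧸ A.subgroupOf M) :=
      {o, cu, cv, QuotientGroup.mk (⟨u₁ * v₁, mul_mem hu₁M hv₁M⟩ : M)}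
    have huv1 : QuotientGroup.mk (⟨u₁ * v₁, mul_mem hu₁M hv₁M⟩ : M) ≠ o := fun he => by
      have h1 := (hcls _ _).mp he.symm
      refine hcuv ((hcls _ _).mpr ?_)
      have h2 : v₁⁻¹ * u₁ = (u₁ * v₁) ⁻¹ * z := by
        rw [mul_inv_rev, hz, pow_two, mul_assoc, inv_mul_cancel_left]
      show v₁⁻¹ * u₁ ∈ A
      rw [h2]
      exact mul_mem (inv_mem (by simpa using h1)) hzA
    have huv2 : QuotientGroup.mk (⟨u₁ * v₁, mul_mem hu₁M hv₁M⟩ : M) ≠ cu := fun he => hcv (by
      have h1 := (hcls _ _).mp he.symm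
      refine ((hcls _ _).mpr ?_).symm
      simpa using h1)
    have huv3 : QuotientGroup.mk (⟨u₁ * v₁, mul_mem hu₁M hv₁M⟩ : M) ≠ cv := fun he => hu₁A (by
      have h1 := h.maxAb.normal.conj_mem _ ((hcls _ _).mp he.symm) v₁
      simpa [mul_assoc] using h1)
    have hS4 : S = Finset.univ := Finset.eq_univ_of_card _ (by
      rw [hcard4]
      simp only [S]
      rw [Finset.card_insert_of_notMem (by simp [Ne.symm hcu, Ne.symm hcv, Ne.symm huv1]),
        Finset.card_insert_of_notMem (by simp [Ne.symm hcuv, Ne.symm huv2]),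
        Finset.card_insert_of_notMem (by simp [Ne.symm huv3]), Finset.card_singleton])
    have hmem : (QuotientGroup.mk (⟨b, hb⟩ : M) : M ⧸ A.subgroupOf M) ∈ S := hS4 ▸ Finset.mem_univ _
    have hbF : b ∈ F := by
      simp only [S, Finset.mem_insert, Finset.mem_singleton] at hmem
      rcases hmem with he | he | he | he <;>
        have h1 := hFA ((hcls _ _).mp he.symm)
      · simpa using h1
      · exact (F.mul_mem_cancel_left (F.inv_mem hFu)).mp h1
      · exact (F.mul_mem_cancel_left (F.inv_mem hFv)).mp h1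
      · exact (F.mul_mem_cancel_left (F.inv_mem (F.mul_mem hFu hFv))).mp h1
    exact (Subgroup.mem_centralizer_singleton_iff.mp hbF).symm
  have hcomm : ⁅v₁, u₁⁆ = z := by
    refine involution_neg h.inj hreg ?_ (fun h1 => hvu (commutatorElement_eq_one_iff_mul_comm.mp h1))
      hz2 hz1
    have hmem := hS.comm_mem v₁ hv₁M u₁ hu₁M
    set c := ⁅v₁, u₁⁆ with hc
    have hcu' : Commute c u₁ := Subgroup.mem_centralizer_iff.mp (hcen u₁) c hmem
    have h1 : v₁ * u₁ * v₁⁻¹ = c * u₁ := by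
      rw [hc, commutatorElement_def, inv_mul_cancel_right]
    have h2 : v₁ * u₁ ^ 2 * v₁⁻¹ = c ^ 2 * u₁ ^ 2 := by rw [← conj_pow, h1, hcu'.mul_pow]
    rw [← hz, ← (hzc v₁).eq, mul_inv_cancel_right, eq_comm, mul_eq_right] at h2
    exact h2
  have hvuv : v₁ * u₁ * v₁⁻¹ = z * u₁ := by
    rw [← hcomm, commutatorElement_def, inv_mul_cancel_right]
  -- `w₁` is `u₁ v₁` up to the involution
  have hw : w₁ = u₁ * v₁ ∨ w₁ = z * (u₁ * v₁) := by
    have hΦv : Φ g cv = cw := by
      show QuotientGroup.mk (MulAut.conjNormal g (⟨v₁, hv₁M⟩ : M)) = _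
      exact congrArg QuotientGroup.mk (Subtype.ext (hw₁ ▸ MulAut.conjNormal_apply g _))
    have hcw1 : cw ≠ o := fun he => hcv ((Φ g).injective (by
      rw [hΦv, he]; exact (IsSymp.qact_one _ _ _).symm))
    have hcw2 : cw ≠ cv := fun he => hcv (hfix cv (hΦv.trans he))
    have hcw3 : cw ≠ cu := fun he => hcu (by
      have h3' : Φ g cu = cu := by
        have := Equiv.ext_iff.mp hc3 cu
        simp [pow_succ, hΦu, hΦv, he] at this
        exact absurd this hcuv
      exact hfix cu h3')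
    let p : M := ⟨u₁ * v₁, mul_mem hu₁M hv₁M⟩
    have hp : (u₁ * v₁) ^ 2 = z := by
      have e : v₁ * u₁ = z * u₁ * v₁ := mul_inv_eq_iff_eq_mul.mp hvuv
      calc (u₁ * v₁) ^ 2 = u₁ * (v₁ * u₁) * v₁ := by simp [pow_two, mul_assoc]
        _ = u₁ * (z * u₁ * v₁) * v₁ := by rw [e]
        _ = (u₁ * z) * u₁ * v₁ * v₁ := by simp [mul_assoc]
        _ = z * (u₁ * u₁) * (v₁ * v₁) := by rw [← (hzc u₁).eq]; simp [mul_assoc]
        _ = z := by
          rw [← pow_two u₁, ← pow_two v₁, ← hz, hv2, ← pow_two z, hz2, one_mul]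
    have hpcls : (QuotientGroup.mk p : M ⧸ A.subgroupOf M) = cw := by
      by_contra hne
      have hp1 : (QuotientGroup.mk p : M ⧸ A.subgroupOf M) ≠ o := fun he => by
        have h1 : (u₁ * v₁) ∈ A := by simpa [p] using (hcls _ _).mp he.symm
        have h2 : Commute (u₁ * v₁) v₁ := Subgroup.mem_centralizer_iff.mp (hcen v₁) _ h1
        exact hvu (mul_right_cancel (b := v₁) (by simpa [mul_assoc] using h2.eq.symm))
      have hp2 : (QuotientGroup.mk p : M ⧸ A.subgroupOf M) ≠ cu := fun he => by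
        have h1 : u₁⁻¹ * (u₁ * v₁) ∈ A := (hcls _ _).mp he.symm
        rw [inv_mul_cancel_left] at h1
        exact hvu (Subgroup.mem_centralizer_iff.mp (hcen u₁) _ h1)
      have hp3 : (QuotientGroup.mk p : M ⧸ A.subgroupOf M) ≠ cv := fun he => hu₁A (by
        have h1 := h.maxAb.normal.conj_mem _ ((hcls _ _).mp he.symm) v₁
        simpa [p, mul_assoc] using h1)
      have hcard : ({o, cu, cv, cw, QuotientGroup.mk p} : Finset (M ⧸ A.subgroupOf M)).card ≤ 4 :=
        hcard4 ▸ Finset.card_le_univ _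
      rw [Finset.card_insert_of_notMem (by simp [Ne.symm hcu, Ne.symm hcv, Ne.symm hcw1, Ne.symm hp1]),
        Finset.card_insert_of_notMem (by simp [Ne.symm hcuv, Ne.symm hcw3, Ne.symm hp2]),
        Finset.card_insert_of_notMem (by simp [Ne.symm hcw2, Ne.symm hp3]),
        Finset.card_insert_of_notMem (by simp [Ne.symm hne]), Finset.card_singleton] at hcard
      omega
    have ha := (hcls _ _).mp hpcls
    set a := (u₁ * v₁)⁻¹ * w₁ with hadef
    have hwa : w₁ = u₁ * v₁ * a := by rw [hadef, mul_inv_cancel_left]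
    have hca : Commute (u₁ * v₁) a := (Subgroup.mem_centralizer_iff.mp (hcen _) a ha).symm
    have ha2 : a ^ 2 = 1 := by
      have := hw2
      rw [hwa, hca.mul_pow, hp, mul_eq_left] at this
      exact this
    by_cases ha1 : a = 1
    · exact Or.inl (by rw [hwa, ha1, mul_one])
    · exact Or.inr (by rw [hwa, involution_neg h.inj hreg ha2 ha1 hz2 hz1, (hzc _).eq])
  -- normalise the generators
  obtain ⟨u, v, hu4, hu2, hvv, hvuinv, hgu, hgv⟩ :
      ∃ u v : G, u ^ 4 = 1 ∧ u ^ 2 ≠ 1 ∧ v * v = u ^ 2 ∧ v * u * v⁻¹ = u⁻¹ ∧ g * u * g⁻¹ = v ∧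
        g * v * g⁻¹ = u * v := by
    have hzi : z⁻¹ = z := inv_eq_of_mul_eq_one_right (by rw [← pow_two, hz2])
    have hu4 : u₁ ^ 4 = 1 := by rw [show 4 = 2 * 2 by norm_num, pow_mul, ← hz, hz2]
    have hinv : z * u₁ = u₁⁻¹ := eq_inv_of_mul_eq_one_left (by
      rw [mul_assoc, ← pow_two, ← hz, ← pow_two, hz2])
    rcases hw with hw | hw
    · exact ⟨u₁, v₁, hu4, hz ▸ hz1, by rw [← pow_two, hv2], hvuv.trans hinv, hv₁.symm, hw₁ ▸ hw⟩
    · refine ⟨z * u₁, z * v₁, ?_, ?_, ?_, ?_, ?_, ?_⟩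
      · rw [(hzc u₁).mul_pow, hu4, mul_one, show 4 = 2 * 2 by norm_num, pow_mul, hz2, one_pow]
      · rw [(hzc u₁).mul_pow, hz2, one_mul]; exact hz ▸ hz1
      · rw [← pow_two, (hzc v₁).mul_pow, (hzc u₁).mul_pow, hv2, ← hz]
      · rw [mul_inv_rev, show z * v₁ * (z * u₁) * (v₁⁻¹ * z⁻¹) =
          z * ((v₁ * z) * u₁ * v₁⁻¹) * z⁻¹ by simp [mul_assoc], ← (hzc v₁).eq,
          show z * (z * v₁ * u₁ * v₁⁻¹) * z⁻¹ = (z * z) * (v₁ * u₁ * v₁⁻¹) * z⁻¹ by simp [mul_assoc],
          ← pow_two, hz2, one_mul, hvuv, mul_inv_rev, (hzc u₁).eq, mul_inv_cancel_right, hzi, ← hinv]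
        rw [mul_assoc, (hzc u₁).eq.symm, ← mul_assoc, ← pow_two, hz2, one_mul]
      · rw [← mul_assoc, ← (hzc g).eq, mul_assoc z g, mul_assoc z (g * u₁), ← hv₁]
      · rw [← mul_assoc, ← (hzc g).eq, mul_assoc z g, mul_assoc z (g * v₁), ← hw₁, hw,
          show z * u₁ * (z * v₁) = z * ((u₁ * z) * v₁) by simp [mul_assoc], ← (hzc u₁).eq]
        simp [mul_assoc]
  have hg3 : g ^ 3 = 1 := by rw [← hg, pow_orderOf_eq_one]
  have hgH : g ∈ H := hHmem g (by rw [show 24 = 3 * 8 by norm_num, pow_mul, hg3, one_pow])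
  have huH : u ∈ H := hHmem u (by rw [show 24 = 4 * 6 by norm_num, pow_mul, hu4, one_pow])
  have hvH : v ∈ H := hgu ▸ mul_mem (mul_mem hgH huH) (inv_mem hgH)
  obtain ⟨H', K, hK, ⟨e⟩⟩ := Cfsg.Agent.S0106.section_of_data (G := H) (g := ⟨g, hgH⟩)
    (u := ⟨u, huH⟩) (v := ⟨v, hvH⟩)
    (show Odd (orderOf (⟨g, hgH⟩ : H)) by rw [← Subgroup.orderOf_coe, hg]; decide)
    (Subtype.ext hu4) (fun he => hu2 (congrArg Subtype.val he)) (Subtype.ext hvv)
    (Subtype.ext hvuinv) (Subtype.ext hgu) (Subtype.ext hgv)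
  haveI := hK
  have hq : Nat.card (H' ⧸ K.subgroupOf H') = 24 := by
    rw [Nat.card_congr e.toEquiv]
    simp [Nat.card_eq_fintype_card]
    decide +kernel
  have h1 := Subgroup.card_eq_card_quotient_mul_card_subgroup (K.subgroupOf H')
  rw [hq] at h1
  have h2 := H'.card_le_card_group
  rw [hH] at h2
  have hp := (Nat.card_pos : 0 < Nat.card (K.subgroupOf H'))
  have hKbot : K.subgroupOf H' = ⊥ := Subgroup.eq_bot_of_card_eq _ (by omega)
  have hH' : H' = ⊤ := Subgroup.eq_top_of_card_eq H' (by rw [hH]; omega)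
  exact ⟨(Subgroup.topEquiv.symm.trans (MulEquiv.subgroupCongr hH'.symm)).trans
    ((QuotientGroup.quotientBot.symm.trans (QuotientGroup.quotientMulEquivOfEq hKbot.symm)).trans e)⟩

/-- Let q be a prime and V a non-trivial finite vector space over the field with q elements, and let G be a finite solvable group acting faithfully and linearly on V and regularly on the non-zero vectors (transitively, with only the identity fixing a non-zero vector). Then either V can be identified with the additive group of a finite field F so that every element of G acts as x ↦ a·σ(x) (a ∈ F, σ a field automorphism), or V has 5^2, 7^2, 11^2 or 23^2 elements. Moreover, if q ≠ 2 then G has a normal subgroup of index 2, except that when V has 25 elements G may be isomorphic to SL(2,3) and when V has 121 elements G may be isomorphic to SL(2,3) × C₅. -/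
theorem result
    (q : ℕ) [Fact q.Prime] {V : Type*} [AddCommGroup V] [Module (ZMod q) V] [Finite V] [Nontrivial V]
    {G : Type*} [Group G] [Finite G] (hsol : Group.IsSolvable G)
    (ρ : G →* (V ≃ₗ[ZMod q] V)) (hρ : Function.Injective ρ)
    (htrans : ∀ v w : V, v ≠ 0 → w ≠ 0 → ∃ g : G, ρ g v = w)
    (hreg : ∀ v : V, v ≠ 0 → ∀ g : G, ρ g v = v → g = 1) :
    ((∃ (F : Type) (_ : Field F) (_ : Fintype F) (e : V ≃+ F),
        ∀ g : G, ∃ (a : F) (σ : F ≃+* F), ∀ v : V, e (ρ g v) = a * σ (e v)) ∨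
      Nat.card V ∈ ({25, 49, 121, 529} : Set ℕ)) ∧
    (q ≠ 2 → (∃ N : Subgroup G, N.Normal ∧ N.index = 2) ∨
      (Nat.card V = 25 ∧ Nonempty (G ≃* Matrix.SpecialLinearGroup (Fin 2) (ZMod 3))) ∨
      (Nat.card V = 121 ∧ Nonempty (G ≃* Matrix.SpecialLinearGroup (Fin 2) (ZMod 3) × Multiplicative (ZMod 5)))) := by
  obtain ⟨A, hA⟩ := Cfsg.Agent.Lib.SolvTransLinear.exists_isMaxAb G
  have h : Cfsg.Agent.Lib.SolvTransLinear.Setup ρ A := ⟨hρ, htrans, hA⟩
  haveI := hA.normal
  have hG := card_regular hρ htrans hreg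
  have hV : Nat.card V = q ^ Module.finrank (ZMod q) V := by
    rw [Module.natCard_eq_pow_finrank (K := ZMod q), Nat.card_zmod]
  rcases h.dichotomy hsol with heq | ⟨M, s, hS, ⟨hn, hq24, hidx, hdvd, hA1⟩ | ⟨hq, hn, hidx⟩⟩
  · exact ⟨Or.inl (h.semilinear heq), fun hq2 => Or.inl (semilinear_index_two h hreg heq hq2)⟩
  swap
  · exfalso
    obtain ⟨m, hm, hm', -⟩ := h.symp_bound hS
    rw [hidx] at hm'
    have hs : s = 2 := (Nat.prime_dvd_prime_iff_eq hS.prime Nat.prime_two).mp
      (hS.prime.dvd_of_dvd_pow (show s ∣ 2 ^ 4 by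
        rw [show (2:ℕ) ^ 4 = 16 by norm_num, hm']; exact dvd_pow_self s (by omega)))
    have h2 := hS.dvd_card.2
    rw [hs] at h2
    have h3 : 32 ∣ Nat.card G := by
      refine dvd_trans ?_ M.card_subgroup_dvd_card
      rw [← (A.subgroupOf M).index_mul_card, hidx]
      exact Nat.mul_dvd_mul_left 16 h2
    subst hq
    rw [hG, hn] at h3
    norm_num at h3
  rw [hn] at hG hV
  haveI hMn := hS.normal
  obtain ⟨hs, hd1, -, -⟩ := h.dim_two hS hn
  have h2A : 2 ∣ Nat.card A := hs ▸ hS.dvd_card.1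
  have h2Z : 2 ∣ Nat.card (A.subgroupOf M) := hs ▸ hS.dvd_card.2
  have h8 : 8 ∣ Nat.card M := by
    rw [← (A.subgroupOf M).index_mul_card, hidx]
    exact Nat.mul_dvd_mul_left 4 h2Z
  have hq2 : q ≠ 2 := fun hc => h.s_ne hS h.finrank_pos (hs.trans hc.symm)
  have hq3 : q ≠ 3 := fun hc => by
    refine hS.ne_top hA (M.eq_top_of_card_eq ?_)
    have h1 := M.card_subgroup_dvd_card
    subst hc
    rw [hG] at h1 ⊢
    exact Nat.dvd_antisymm h1 h8
  have hcases : q = 5 ∨ q = 7 ∨ q = 11 ∨ q = 23 := by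
    have hp : q.Prime := Fact.out
    have hle : q ≤ 23 := by
      have := Nat.le_of_dvd (by norm_num) hq24
      omega
    interval_cases q <;> first | omega | (norm_num at hp; done) | (norm_num at hq24; done)
  refine ⟨Or.inr ?_, fun _ => ?_⟩
  · rw [hV]
    rcases hcases with rfl | rfl | rfl | rfl <;> norm_num
  -- the quotient by `A ⊔ M`
  have hMA : Nat.card ↥(A ⊔ M) = 4 * Nat.card A := by
    have hr : A.relIndex (A ⊔ M) = 4 := by
      rw [sup_comm, Subgroup.relIndex_sup_right]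
      exact hidx
    rw [← hr, ← Nat.card_congr (Subgroup.subgroupOfEquivOfLe (le_sup_left : A ≤ A ⊔ M)).toEquiv]
    exact ((A.subgroupOf (A ⊔ M)).index_mul_card).symm
  have hidxMA : (A ⊔ M).index * (4 * Nat.card A) = q ^ 2 - 1 := by
    rw [← hMA, Subgroup.index_mul_card, hG]
  have hA24 : q ^ 2 - 1 ∣ 24 * Nat.card A := hG ▸ hdvd
  have hquot : ((A ⊔ M).index = 2 ∨ (A ⊔ M).index = 6) →
      ∃ N : Subgroup G, N.Normal ∧ N.index = 2 := fun hh =>
    index_two_of_quotient (QuotientGroup.mk' _) (QuotientGroup.mk'_surjective _)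
      (index_two_of_card (by rwa [← Subgroup.index_eq_card]))
  have hAmem : Nat.card A ∈ Nat.divisors (q - 1) := by
    have := (Fact.out : q.Prime).two_le
    exact Nat.mem_divisors.mpr ⟨hA1, by omega⟩
  rcases hcases with rfl | rfl | rfl | rfl
  · have hA2 : Nat.card A = 2 := by
      have hm' : Nat.card A ∈ ({1, 2, 4} : Finset ℕ) := hAmem
      simp only [Finset.mem_insert, Finset.mem_singleton] at hm'
      norm_num at hidxMA
      rcases hm' with e | e | e <;> rw [e] at hidxMA h2A <;> omega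
    refine Or.inr (Or.inl ⟨by rw [hV]; norm_num, ?_⟩)
    norm_num at hG
    obtain ⟨e⟩ := exceptional_iso h hS hreg hn (by rw [hG]; norm_num) (by rw [hA2]; norm_num) 1
      odd_one (fun a ha => by
        rw [mul_one, ← hA2]
        exact orderOf_dvd_iff_pow_eq_one.mp (Subgroup.orderOf_dvd_natCard A ha))
      ⊤ (by rw [Subgroup.card_top, hG]) (fun x _ => trivial)
    exact ⟨Subgroup.topEquiv.symm.trans e⟩
  · refine Or.inl (hquot ?_)
    have hm' : Nat.card A ∈ ({1, 2, 3, 6} : Finset ℕ) := hAmem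
    simp only [Finset.mem_insert, Finset.mem_singleton] at hm'
    norm_num at hidxMA
    rcases hm' with e | e | e | e <;> rw [e] at hidxMA h2A <;> omega
  · have hA10 : Nat.card A = 10 := by
      have hm' : Nat.card A ∈ ({1, 2, 5, 10} : Finset ℕ) := hAmem
      simp only [Finset.mem_insert, Finset.mem_singleton] at hm'
      norm_num at hA24
      rcases hm' with e | e | e | e <;> rw [e] at hA24 h2A <;> omega
    refine Or.inr (Or.inr ⟨by rw [hV]; norm_num, ?_⟩)
    norm_num at hG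
    haveI : Fact (Nat.Prime 5) := ⟨by norm_num⟩
    obtain ⟨c, hc⟩ := exists_prime_orderOf_dvd_card' (G := A) 5 (by rw [hA10]; norm_num)
    rw [← Subgroup.orderOf_coe] at hc
    have hcen : ∀ g : G, Commute (c : G) g := fun g => by
      have h1 := h.centralizer_index_dvd
      rw [hd1, Nat.dvd_one, Subgroup.index_eq_one] at h1
      exact Subgroup.mem_centralizer_iff.mp (h1 ▸ Subgroup.mem_top g) _ c.2
    let C := Subgroup.zpowers (c : G)
    haveI : C.Normal := ⟨fun x hx g => by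
      obtain ⟨i, rfl⟩ := Subgroup.mem_zpowers_iff.mp hx
      rwa [((hcen g).zpow_left i).symm.eq, mul_inv_cancel_right]⟩
    have hC : Nat.card C = 5 := by rw [Nat.card_zpowers, hc]
    have hCi : C.index = 24 := by
      have h1 := C.index_mul_card
      rw [hC, hG] at h1
      omega
    obtain ⟨H, hH⟩ := Subgroup.exists_right_complement'_of_coprime (N := C)
      (by rw [hC, hCi]; norm_num)
    have hH24 : Nat.card H = 24 := by
      have h1 := hH.card_mul
      rw [hC, hG] at h1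
      omega
    have hmem : ∀ x : G, x ^ 24 = 1 → x ∈ H := by
      intro x hx
      obtain ⟨⟨a, b⟩, hab⟩ := hH.2 x
      have hab' : (a : G) * b = x := hab
      have hac : Commute (a : G) b := by
        obtain ⟨i, hi⟩ := Subgroup.mem_zpowers_iff.mp a.2
        rw [← hi]
        exact (hcen _).zpow_left i
      rw [← hab', hac.mul_pow] at hx
      have hb : (b : G) ^ 24 = 1 := by
        rw [← hH24, ← Subgroup.coe_pow, pow_card_eq_one', Subgroup.coe_one]
      rw [hb, mul_one] at hx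
      have h5 : (a : G) ^ 5 = 1 := by
        rw [← hC, ← Subgroup.coe_pow, pow_card_eq_one', Subgroup.coe_one]
      have h1' := pow_gcd_eq_one.mpr ⟨hx, h5⟩
      rw [show Nat.gcd 24 5 = 1 by norm_num, pow_one] at h1'
      rw [← hab', h1', one_mul]
      exact b.2
    obtain ⟨e⟩ := exceptional_iso h hS hreg hn (by rw [hG]; norm_num) (by rw [hA10]; norm_num) 5
      (by decide) (fun a ha => by
        rw [show 2 * 5 = Nat.card A by rw [hA10]]
        exact orderOf_dvd_iff_pow_eq_one.mp (Subgroup.orderOf_dvd_natCard A ha)) H hH24 hmem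
    let eC : Multiplicative (ZMod 5) ≃* C :=
      mulEquivOfPrimeCardEq (p := 5) (by simp) hC
    let f : H × Multiplicative (ZMod 5) →* G :=
      { toFun := fun x => (x.1 : G) * eC x.2
        map_one' := by simp
        map_mul' := fun x y => by
          obtain ⟨i, hi⟩ := Subgroup.mem_zpowers_iff.mp (eC x.2).2
          have h1 : Commute (y.1 : G) (eC x.2 : G) := by
            rw [← hi]; exact ((hcen _).zpow_left i).symm
          simp only [Prod.fst_mul, Prod.snd_mul, map_mul, Subgroup.coe_mul]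
          rw [mul_assoc, mul_assoc, ← mul_assoc (y.1 : G), h1.eq, mul_assoc] }
    have hf : Function.Bijective f := by
      refine (Nat.bijective_iff_injective_and_card f).mpr ⟨(injective_iff_map_eq_one f).mpr ?_, ?_⟩
      · rintro ⟨a, b⟩ hab
        have h1 : (a : G) = (eC b : G)⁻¹ := eq_inv_of_mul_eq_one_left hab
        have ha : (a : G) = 1 := Subgroup.disjoint_def.mp hH.disjoint
          (h1 ▸ inv_mem (eC b).2) a.2
        refine Prod.ext (Subtype.ext ha) ?_
        have h2 : (eC b : G) = 1 := by rwa [ha, eq_comm, inv_eq_one] at h1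
        exact eC.injective ((Subtype.ext h2).trans (map_one eC).symm)
      · rw [Nat.card_prod, hH24, hG]
        simp
    exact ⟨(MulEquiv.ofBijective f hf).symm.trans (MulEquiv.prodCongr e (MulEquiv.refl _))⟩
  · refine Or.inl (hquot ?_)
    have hm' : Nat.card A ∈ ({1, 2, 11, 22} : Finset ℕ) := hAmem
    simp only [Finset.mem_insert, Finset.mem_singleton] at hm'
    norm_num at hidxMA hA24
    rcases hm' with e | e | e | e <;> rw [e] at hidxMA h2A hA24 <;> omega

end Cfsg.Agent.S3361
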