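import Cfsg.Statements.S3362
import Mathlib
import Cfsg.Agent.Lib.Recognition.M12Data
import Cfsg.Agent.Lib.Recognition.CertClosure

set_option autoImplicit false
set_option linter.style.haveILetI false
open Cfsg
open Cfsg.Agent.Lib.Compute
open Cfsg.Agent.Lib.Recognition
open Cfsg.Agent.Lib.Recognition.M12Data

namespace Cfsg.Agent.S3362

/-- An explicit construction of the Mathieu groups of degrees 11 and 12. On the points 0, …, 11 let s = (3 4 5)(6 7 8)(9 10 11), t = (3 6 9)(4 7 10)(5 8 11), u = (4 6 5 9)(7 8 11 10), v = (4 7 5 11)(6 10 9 8), w = (4 10 5 8)(6 11 9 7), x₁ = (0 3)(6 7)(8 10)(9 11), x₂ = (0 1)(6 9)(7 10)(8 11), x₃ = (1 2)(6 11)(7 9)(8 10) (each written as a product of transpositions). Then the group M₁₂ generated by all eight permutations is sharply 5-transitive on the 12 points and has order 95040, and the group M₁₁ generated by the first seven has order 7920 and is the stabilizer of the point 2 in M₁₂. -/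
theorem result
    (s t u v w x₁ x₂ x₃ : Equiv.Perm (Fin 12))
    (hs : s = Equiv.swap (3 : Fin 12) 5 * Equiv.swap (3 : Fin 12) 4 * Equiv.swap (6 : Fin 12) 8 * Equiv.swap (6 : Fin 12) 7 * Equiv.swap (9 : Fin 12) 11 * Equiv.swap (9 : Fin 12) 10) (ht : t = Equiv.swap (3 : Fin 12) 9 * Equiv.swap (3 : Fin 12) 6 * Equiv.swap (4 : Fin 12) 10 * Equiv.swap (4 : Fin 12) 7 * Equiv.swap (5 : Fin 12) 11 * Equiv.swap (5 : Fin 12) 8)
    (hu : u = Equiv.swap (4 : Fin 12) 9 * Equiv.swap (4 : Fin 12) 5 * Equiv.swap (4 : Fin 12) 6 * Equiv.swap (7 : Fin 12) 10 * Equiv.swap (7 : Fin 12) 11 * Equiv.swap (7 : Fin 12) 8) (hv : v = Equiv.swap (4 : Fin 12) 11 * Equiv.swap (4 : Fin 12) 5 * Equiv.swap (4 : Fin 12) 7 * Equiv.swap (6 : Fin 12) 8 * Equiv.swap (6 : Fin 12) 9 * Equiv.swap (6 : Fin 12) 10) (hw : w = Equiv.swap (4 : Fin 12) 8 * Equiv.swap (4 : Fin 12) 5 * Equiv.swap (4 : Fin 12) 10 * Equiv.swap (6 : Fin 12) 7 * Equiv.swap (6 : Fin 12) 9 * Equiv.swap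 (6 : Fin 12) 11)
    (hx₁ : x₁ = Equiv.swap (0 : Fin 12) 3 * Equiv.swap (6 : Fin 12) 7 * Equiv.swap (8 : Fin 12) 10 * Equiv.swap (9 : Fin 12) 11) (hx₂ : x₂ = Equiv.swap (0 : Fin 12) 1 * Equiv.swap (6 : Fin 12) 9 * Equiv.swap (7 : Fin 12) 10 * Equiv.swap (8 : Fin 12) 11)
    (hx₃ : x₃ = Equiv.swap (1 : Fin 12) 2 * Equiv.swap (6 : Fin 12) 11 * Equiv.swap (7 : Fin 12) 9 * Equiv.swap (8 : Fin 12) 10)
    (M₁₂ M₁₁ : Subgroup (Equiv.Perm (Fin 12))) (hM₁₂ : M₁₂ = Subgroup.closure {s, t, u, v, w, x₁, x₂, x₃})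
    (hM₁₁ : M₁₁ = Subgroup.closure {s, t, u, v, w, x₁, x₂}) :
    MulAction.IsMultiplyPretransitive M₁₂ (Fin 12) 5 ∧ (∀ y : Fin 5 ↪ Fin 12, MulAction.stabilizer M₁₂ y = ⊥) ∧
    Nat.card M₁₂ = 95040 ∧ Nat.card M₁₁ = 7920 ∧
    M₁₁ = M₁₂ ⊓ MulAction.stabilizer (Equiv.Perm (Fin 12)) (2 : Fin 12) := by
  have hp : ∀ σ : Equiv.Perm (Fin 12), ∀ P : ℕ, (∀ i : Fin 12, ((σ i : Fin 12) : ℕ) = app P i) → toPerm 12 P = σ :=
    fun σ P h => repr_toPerm_of_repr h
  have es : toPerm 12 (s12Base.getD 0 0) = s := hp _ _ (by subst hs; decide +kernel)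
  have et : toPerm 12 (s12Base.getD 1 0) = t := hp _ _ (by subst ht; decide +kernel)
  have eu : toPerm 12 (s12Base.getD 2 0) = u := hp _ _ (by subst hu; decide +kernel)
  have ev : toPerm 12 (s12Base.getD 3 0) = v := hp _ _ (by subst hv; decide +kernel)
  have ew : toPerm 12 (s12Base.getD 4 0) = w := hp _ _ (by subst hw; decide +kernel)
  have e1 : toPerm 12 (s12Base.getD 5 0) = x₁ := hp _ _ (by subst hx₁; decide +kernel)
  have e2 : toPerm 12 (s12Base.getD 6 0) = x₂ := hp _ _ (by subst hx₂; decide +kernel)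
  have e3 : toPerm 12 (s12Base.getD 7 0) = x₃ := hp _ _ (by subst hx₃; decide +kernel)
  clear hs ht hu hv hw hx₁ hx₂ hx₃ hp
  have h12 : chk 12 c12 = true := by decide +kernel
  have h11 : chk 12 c11 = true := by decide +kernel
  have hM : M₁₂ = grp 12 c12 := by
    rw [hM₁₂, closure_eq_grp h12 (base := s12Base) (steps := s12Steps) (w := w12) (by decide +kernel) (by decide +kernel) (by decide +kernel)]
    congr 1
    rw [← es, ← et, ← eu, ← ev, ← ew, ← e1, ← e2, ← e3]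
    ext z
    simp [s12Base, List.getD, eq_comm]
  have hN : M₁₁ = grp 12 c11 := by
    rw [hM₁₁, closure_eq_grp h11 (base := s11Base) (steps := s11Steps) (w := w11) (by decide +kernel) (by decide +kernel) (by decide +kernel)]
    congr 1
    rw [← es, ← et, ← eu, ← ev, ← ew, ← e1, ← e2]
    ext z
    simp [s11Base, s12Base, List.getD, eq_comm]
  subst hM
  have hc12 : Nat.card (grp 12 c12) = 95040 := by rw [card_grp h12]; decide +kernel
  have hc11 : Nat.card (grp 12 c11) = 7920 := by rw [card_grp h11]; decide +kernel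
  let q : Fin 5 → Fin 12 := ![2, 0, 1, 3, 4]
  have hq : Function.Injective q := by decide
  have hmap : ∀ x : Fin 5 → Fin 12, Function.Injective x → ∃ σ ∈ grp 12 c12, ∀ j, σ (q j) = x j := by
    intro x hx
    obtain ⟨σ, hσ, h⟩ := exists_map (A := 4095) (prev := 0) h12 (by decide +kernel)
      (fun τ _ i => by
        have hall : ∀ i : Fin 12, (4095 : ℕ).testBit i = true := by decide
        rw [hall, hall])
      (fun τ _ i hi => by simp at hi) x hx
      (fun j => by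
        have hall : ∀ i : Fin 12, (4095 : ℕ).testBit i = true := by decide
        exact hall _)
      (fun j hj => by simp at hj)
    refine ⟨σ, hσ, fun j => h j _ ?_⟩
    revert j
    decide +kernel
  have hone : ∀ σ ∈ grp 12 c12, (∀ j, σ (q j) = q j) → σ = 1 := by
    intro σ hσ h
    refine eq_one_of_fix_bases h12 hσ fun L hL b hb => ?_
    obtain ⟨j, hj⟩ : ∃ j, q j = b := by
      have : ∀ b : Fin 12, (b : ℕ) ∈ c12.map Lvl.base → ∃ j, q j = b := by decide +kernel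
      exact this b (hb ▸ List.mem_map.2 ⟨L, hL, rfl⟩)
    rw [← hj, h j]
  refine ⟨⟨fun x y => ?_⟩, fun y => ?_, hc12, ?_, ?_⟩
  · obtain ⟨σ, hσ, hσx⟩ := hmap x x.injective
    obtain ⟨τ, hτ, hτy⟩ := hmap y y.injective
    refine ⟨⟨τ * σ⁻¹, mul_mem hτ (inv_mem hσ)⟩, ?_⟩
    ext j
    show ((τ (σ⁻¹ (x j)) : Fin 12) : ℕ) = y j
    rw [← hσx j, Equiv.Perm.inv_def, Equiv.symm_apply_apply, hτy]
  · obtain ⟨σ, hσ, hσy⟩ := hmap y y.injective
    rw [Subgroup.eq_bot_iff_forall]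
    rintro ⟨g, hg⟩ hgy
    apply Subtype.ext
    have h1 : σ⁻¹ * g * σ = 1 := hone _ (mul_mem (mul_mem (inv_mem hσ) hg) hσ) fun j => by
      have hgy' : g (y j) = y j := congrFun (congrArg DFunLike.coe (MulAction.mem_stabilizer_iff.1 hgy)) j
      rw [Equiv.Perm.mul_apply, Equiv.Perm.mul_apply, hσy, hgy', ← hσy j, Equiv.Perm.inv_def, Equiv.symm_apply_apply]
    show g = 1
    have h2 := congrArg (fun z => σ * z * σ⁻¹) h1
    simpa [mul_assoc] using h2
  · rw [hN, hc11]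
  · rw [hN]
    have hrest : ∀ σ, σ ∈ grp 12 c12 ⊓ MulAction.stabilizer (Equiv.Perm (Fin 12)) (2 : Fin 12) ↔ σ ∈ grp 12 c12.tail := by
      intro σ
      rw [show c12 = c120 :: c12.tail from rfl] at h12 ⊢
      rw [List.tail_cons, mem_grp_rest_iff h12 2 rfl σ]
      exact Iff.rfl
    have hle : grp 12 c11 ≤ grp 12 c12 ⊓ MulAction.stabilizer (Equiv.Perm (Fin 12)) (2 : Fin 12) := by
      rw [← hN, hM₁₁, hM₁₂]
      refine le_inf (Subgroup.closure_mono fun z hz => ?_) ((Subgroup.closure_le _).2 fun z hz => ?_)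
      · simp only [Set.mem_insert_iff, Set.mem_singleton_iff] at hz ⊢
        tauto
      · rw [SetLike.mem_coe, MulAction.mem_stabilizer_iff, Equiv.Perm.smul_def]
        have hr : ∀ k : Fin 7, toPerm 12 (s12Base.getD k 0) 2 = 2 := by
          intro k
          apply Fin.ext
          have hk : ∀ k : Fin 7, memOk 12 c12 (s12Base.getD k 0) (w12.getD k []) = true ∧ app (s12Base.getD k 0) 2 = 2 := by
            decide +kernel
          rw [(mem_grp_of_memOk h12 (hk k).1).1.repr]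
          exact (hk k).2
        rcases hz with rfl | rfl | rfl | rfl | rfl | rfl | rfl
        exacts [es ▸ hr 0, et ▸ hr 1, eu ▸ hr 2, ev ▸ hr 3, ew ▸ hr 4, e1 ▸ hr 5, e2 ▸ hr 6]
    refine Subgroup.eq_of_le_of_card_ge hle ?_
    have hcr : chk 12 c12.tail = true := by decide +kernel
    rw [hc11, Nat.card_congr (Equiv.subtypeEquivRight hrest), card_grp hcr]
    decide +kernel


end Cfsg.Agent.S3362
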