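import Cfsg.Statements.S3366
import Cfsg.Agent.Lib.FusionControl.HeisSLModel

set_option autoImplicit false
open Cfsg

namespace Cfsg.Agent.S3366

/-- Let X be a finite group with O₃(X) extraspecial of order 27 and exponent 3, X/O₃(X) isomorphic to SL(2,3), O₂(X) = 1, and a Sylow 3-subgroup of X containing an elementary abelian subgroup of order 27. Then X is isomorphic to the centralizer in PSp(4,3) of a 3-central element of order 3 (an element of order 3 in the centre of a Sylow 3-subgroup). -/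
theorem result {X : Type*} [Group X] [Finite X]
    (hR : Cfsg.IsExtraspecial 3 (Cfsg.pCore 3 X)) (hRcard : Nat.card (Cfsg.pCore 3 X) = 27)
    (hRexp : ∀ r ∈ Cfsg.pCore 3 X, r ^ 3 = 1)
    (e : X ⧸ Cfsg.pCore 3 X ≃* Matrix.SpecialLinearGroup (Fin 2) (ZMod 3))
    (hO2 : Cfsg.pCore 2 X = ⊥)
    (hE : ∃ E : Subgroup X, IsMulCommutative E ∧ (∀ a ∈ E, a ^ 3 = 1) ∧ Nat.card E = 27)
    (F : Type*) [Field F] [Fintype F] (hF : Fintype.card F = 3) :
    ∃ (c : Cfsg.PSp 2 F) (S : Sylow 3 (Cfsg.PSp 2 F)), orderOf c = 3 ∧ c ∈ (S : Subgroup (Cfsg.PSp 2 F)) ∧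
      c ∈ Subgroup.centralizer ((S : Subgroup (Cfsg.PSp 2 F)) : Set (Cfsg.PSp 2 F)) ∧
      Nonempty (X ≃* Subgroup.centralizer ({c} : Set (Cfsg.PSp 2 F))) := by
  classical
  haveI : Fact (Nat.Prime 3) := ⟨Nat.prime_three⟩
  let φ : ZMod 3 ≃+* F := ZMod.ringEquivOfPrime F Nat.prime_three hF
  let Φ := Cfsg.Agent.HeisSLModel.mapSp 2 φ
  have hmap : (Subgroup.center (Matrix.symplecticGroup (Fin 2) (ZMod 3))).map Φ.toMonoidHom =
      Subgroup.center (Matrix.symplecticGroup (Fin 2) F) := by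
    ext y
    rw [Subgroup.mem_map_equiv, Subgroup.mem_center_iff, Subgroup.mem_center_iff]
    constructor
    · intro h g
      apply Φ.symm.injective
      rw [map_mul, map_mul]
      exact h _
    · intro h g
      apply Φ.injective
      rw [map_mul, map_mul, MulEquiv.apply_symm_apply]
      exact h _
  let Ψ : Cfsg.PSp 2 (ZMod 3) ≃* Cfsg.PSp 2 F := QuotientGroup.congr _ _ Φ hmap
  obtain ⟨f, hf, hfmul⟩ := Cfsg.Agent.HeisSL.exists_coords hR hRcard hRexp hO2 e hE
  obtain ⟨c, S, hc3, hcS, hcC, k, hk, hkmul⟩ := Cfsg.Agent.HeisSLModel.model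
  let S' : Sylow 3 (Cfsg.PSp 2 F) := S.mapSurjective (f := Ψ.toMonoidHom) Ψ.surjective
  have hS' : (S' : Subgroup (Cfsg.PSp 2 F)) = (S : Subgroup _).map Ψ.toMonoidHom := rfl
  refine ⟨Ψ c, S', ?_, ?_, ?_, ⟨?_⟩⟩
  · exact (orderOf_injective Ψ.toMonoidHom Ψ.injective c).trans hc3
  · rw [hS']
    exact Subgroup.mem_map_of_mem Ψ.toMonoidHom hcS
  · rw [hS', Subgroup.mem_centralizer_iff]
    rintro _ ⟨y, hy, rfl⟩
    show Ψ y * Ψ c = Ψ c * Ψ y
    rw [← map_mul, ← map_mul, Subgroup.mem_centralizer_iff.1 hcC y hy]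
  · let fe := Equiv.ofBijective f hf
    let e1 : X ≃* Subgroup.centralizer ({c} : Set (Cfsg.PSp 2 (ZMod 3))) :=
      { toEquiv := fe.symm.trans (Equiv.ofBijective k hk)
        map_mul' := fun x y => by
          obtain ⟨v, rfl⟩ := hf.2 x
          obtain ⟨w, rfl⟩ := hf.2 y
          show k (fe.symm (fe v * fe w)) = k (fe.symm (fe v)) * k (fe.symm (fe w))
          rw [show fe v * fe w = fe (Cfsg.Agent.HeisSL.wmul v w) from (hfmul v w).symm, Equiv.symm_apply_apply,
            Equiv.symm_apply_apply, Equiv.symm_apply_apply, hkmul] }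
    have hiff : ∀ x, Ψ x ∈ Subgroup.centralizer ({Ψ c} : Set (Cfsg.PSp 2 F)) ↔
        x ∈ Subgroup.centralizer ({c} : Set (Cfsg.PSp 2 (ZMod 3))) := fun x => by
      rw [Subgroup.mem_centralizer_singleton_iff, Subgroup.mem_centralizer_singleton_iff, ← map_mul, ← map_mul,
        Ψ.injective.eq_iff]
    exact e1.trans
      { toFun := fun x => ⟨Ψ x, (hiff x).2 x.2⟩
        invFun := fun y => ⟨Ψ.symm y, (hiff _).1 (by rw [Ψ.apply_symm_apply]; exact y.2)⟩
        left_inv := fun x => Subtype.ext (Ψ.symm_apply_apply x.1)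
        right_inv := fun y => Subtype.ext (Ψ.apply_symm_apply y.1)
        map_mul' := fun x y => Subtype.ext (map_mul Ψ x.1 y.1) }

end Cfsg.Agent.S3366
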