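import Cfsg.Statements.S3370
import Mathlib
import Cfsg.Agent.Lib.Frobenius.UniqueSubgroup

set_option autoImplicit false
open Cfsg

namespace Cfsg.Agent.S3370

theorem odd_sum_of_odd {n : ℕ} (hn : Odd n) (f : ℕ → ℤ) (hf : ∀ i, Odd (f i)) :
    Odd (∑ i ∈ Finset.range n, f i) := by
  have h : ∀ m, Odd (∑ i ∈ Finset.range m, f i) ↔ Odd m := by
    intro m
    induction m with
    | zero => simp
    | succ m ih =>
      rw [Finset.sum_range_succ, Int.odd_add', ← Int.not_odd_iff_even, ih,
        Nat.odd_add_one]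
      simp [hf m]
  exact (h n).mpr hn

theorem pow_eq_prime_pow_add_one {q p n k : ℕ} (hq : q.Prime) (hp : p.Prime) (hn : 1 ≤ n)
    (hk : 1 ≤ k) (h : q ^ n = p ^ k + 1) :
    (q = 2 ∧ k = 1) ∨ (p = 2 ∧ q ≠ 2 ∧ n = 1) ∨ (p = 2 ∧ q = 3 ∧ n = 2) := by
  rcases hq.eq_two_or_odd' with rfl | hqo
  · refine Or.inl ⟨rfl, ?_⟩
    have hev : Even (p ^ k + 1) := h ▸ Nat.even_pow.mpr ⟨even_two, by omega⟩
    have hpo : Odd p := by
      rcases hp.eq_two_or_odd' with rfl | h'
      · exfalso
        rw [Nat.even_add_one, Nat.even_pow] at hev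
        exact hev ⟨even_two, by omega⟩
      · exact h'
    have hn2 : 2 ≤ n := by
      by_contra hlt
      have hn1 : n = 1 := by omega
      subst hn1
      have h3 : p ≤ p ^ k := Nat.le_self_pow (by omega) p
      have := hp.two_le
      omega
    rcases Nat.even_or_odd k with ⟨r, rfl⟩ | hko
    · exfalso
      obtain ⟨s, hs⟩ := (hpo.pow (n := r))
      rw [pow_add, hs] at h
      have h4 : (4 : ℕ) ∣ 2 ^ n := by
        rw [show (4 : ℕ) = 2 ^ 2 from rfl]; exact pow_dvd_pow 2 hn2
      rw [h, show (2 * s + 1) * (2 * s + 1) + 1 = 4 * (s * s + s) + 2 by ring,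
        Nat.dvd_add_right (dvd_mul_right 4 _)] at h4
      norm_num at h4
    · set S : ℤ := ∑ i ∈ Finset.range k, (-(p : ℤ)) ^ i with hS
      have hmul : S * ((p : ℤ) + 1) = (p : ℤ) ^ k + 1 := by
        have := geom_sum_mul (-(p : ℤ)) k
        rw [hko.neg_pow] at this
        linear_combination -this
      have hSo : Odd S := odd_sum_of_odd hko _ fun i => by
        have : Odd (p : ℤ) := by exact_mod_cast hpo
        exact this.neg.pow
      have hdvd : S.natAbs ∣ 2 ^ n := by
        have h2 : ((2 ^ n : ℕ) : ℤ) = S * ((p : ℤ) + 1) := by rw [hmul, h]; push_cast; ring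
        exact Int.natAbs_dvd_natAbs.mpr ⟨_, h2⟩ |>.trans (by simp)
      obtain ⟨j, -, hj⟩ := (Nat.dvd_prime_pow Nat.prime_two).mp hdvd
      have hj0 : j = 0 := by
        by_contra hne
        have h2 : Even S.natAbs := by rw [hj]; exact Nat.even_pow.mpr ⟨even_two, hne⟩
        exact Int.not_even_iff_odd.mpr hSo (Int.natAbs_even.mp h2)
      rw [hj0, pow_zero] at hj
      have hS1 : S = 1 := by
        rcases Int.natAbs_eq S with h1 | h1
        · rw [h1, hj]; rfl
        · exfalso
          rw [h1, hj] at hmul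
          have hp0 : (0 : ℤ) ≤ (p : ℤ) ^ k := by positivity
          push_cast at hmul
          linarith [Int.natCast_nonneg p]
      rw [hS1, one_mul] at hmul
      have : p ^ k = p ^ 1 := by rw [pow_one]; exact_mod_cast (add_right_cancel hmul).symm
      exact Nat.pow_right_injective hp.two_le this
  · have hp2 : p = 2 := by
      by_contra hne
      have h1 : Odd (q ^ n) := hqo.pow
      rw [h] at h1
      have h2 : Odd (p ^ k) := (hp.odd_of_ne_two hne).pow
      exact Nat.not_even_iff_odd.mpr h1 h2.add_one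
    subst hp2
    have hq3 : 3 ≤ q := by
      have := hq.two_le; obtain ⟨r, hr⟩ := hqo; omega
    rcases Nat.even_or_odd n with ⟨r, rfl⟩ | hno
    · refine Or.inr (Or.inr ⟨rfl, ?_⟩)
      set Q := q ^ r with hQ
      have hQ3 : 3 ≤ Q := le_trans hq3 (Nat.le_self_pow (by omega) q)
      have hfac : (Q + 1) * (Q - 1) = 2 ^ k := by
        rw [← Nat.sq_sub_sq, one_pow, sq, hQ, ← pow_add, h]; simp
      obtain ⟨a, -, ha⟩ := (Nat.dvd_prime_pow Nat.prime_two).mp ⟨_, hfac.symm⟩
      obtain ⟨b, -, hb⟩ := (Nat.dvd_prime_pow Nat.prime_two).mp (Dvd.intro_left _ hfac)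
      have hb1 : b = 1 := by
        rcases b with _ | _ | b
        · simp at hb; omega
        · rfl
        · exfalso
          rcases a with _ | _ | a
          · simp at ha; omega
          · simp at ha; omega
          · have e1 : 2 ^ (a + 2) = 4 * 2 ^ a := by ring
            have e2 : 2 ^ (b + 2) = 4 * 2 ^ b := by ring
            omega
      subst hb1
      have hQ' : q ^ r = 3 := by omega
      have hr1 : r = 1 := by
        by_contra hne
        have h2 : q ^ 2 ≤ q ^ r := Nat.pow_le_pow_right (by omega) (by omega)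
        nlinarith
      subst hr1
      rw [pow_one] at hQ'
      exact ⟨hQ', rfl⟩
    · refine Or.inr (Or.inl ⟨rfl, by omega, ?_⟩)
      set S : ℤ := ∑ i ∈ Finset.range n, (q : ℤ) ^ i with hS
      have hmul : S * ((q : ℤ) - 1) = 2 ^ k := by
        have := geom_sum_mul (q : ℤ) n
        rw [hS, this]
        have h2 : (q : ℤ) ^ n = 2 ^ k + 1 := by exact_mod_cast h
        linarith
      have hSo : Odd S := odd_sum_of_odd hno _ fun i => by
        have : Odd (q : ℤ) := by exact_mod_cast hqo
        exact this.pow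
      have hdvd : S.natAbs ∣ 2 ^ k := by
        have := Int.natAbs_dvd_natAbs.mpr ⟨_, hmul.symm⟩
        simpa [Int.natAbs_pow] using this
      obtain ⟨j, -, hj⟩ := (Nat.dvd_prime_pow Nat.prime_two).mp hdvd
      have hj0 : j = 0 := by
        by_contra hne
        have h2 : Even S.natAbs := by rw [hj]; exact Nat.even_pow.mpr ⟨even_two, hne⟩
        exact Int.not_even_iff_odd.mpr hSo (Int.natAbs_even.mp h2)
      rw [hj0, pow_zero] at hj
      by_contra hne
      obtain ⟨d, hd⟩ : ∃ d, n = d + 2 := ⟨n - 2, by omega⟩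
      have hlt : (2 : ℤ) ≤ S := by
        have hnn : (0 : ℤ) ≤ ∑ i ∈ Finset.range (d + 1), (q : ℤ) ^ (i + 1 + 0) := by positivity
        have h2 : (q : ℤ) ≤ ∑ i ∈ Finset.range (d + 1), (q : ℤ) ^ (i + 1) := by
          refine le_trans ?_ (Finset.single_le_sum (f := fun i => (q : ℤ) ^ (i + 1))
            (fun i _ => by positivity) (Finset.mem_range.mpr (Nat.succ_pos d)))
          simp
        rw [hS, hd, Finset.sum_range_succ', pow_zero]
        have : (3 : ℤ) ≤ q := by exact_mod_cast hq3
        linarith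
      omega

/-- The matrices of a semidihedral subgroup of `GL₂(3)`. -/
def sdX : GL (Fin 2) (ZMod 3) :=
  ⟨!![1, 1; 2, 1], !![2, 1; 2, 2], by decide +kernel, by decide +kernel⟩

/-- The matrices of a semidihedral subgroup of `GL₂(3)`. -/
def sdY : GL (Fin 2) (ZMod 3) :=
  ⟨!![1, 0; 0, 2], !![1, 0; 0, 2], by decide +kernel, by decide +kernel⟩

theorem exists_quasiDihedral_GL : ∃ H : Subgroup (GL (Fin 2) (ZMod 3)), IsPGroup 2 H ∧
    ∃ x y : H, orderOf x = 2 ^ 3 ∧ orderOf y = 2 ∧ y * x * y⁻¹ = x ^ (2 ^ (3 - 1) - 1) := by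
  have : Fact (Nat.Prime 2) := ⟨Nat.prime_two⟩
  have hx : orderOf sdX = 2 ^ 3 := by
    refine orderOf_eq_prime_pow (n := 2) ?_ ?_
    · rw [Units.ext_iff]; decide +kernel
    · rw [Units.ext_iff]; decide +kernel
  have hy : orderOf sdY = 2 := by
    refine orderOf_eq_prime (p := 2) ?_ ?_
    · rw [Units.ext_iff]; decide +kernel
    · rw [Ne, Units.ext_iff]; decide +kernel
  have hrel : sdY * sdX * sdY⁻¹ = sdX ^ 3 := by rw [Units.ext_iff]; decide +kernel
  have hnorm : Subgroup.zpowers sdY ≤ Subgroup.normalizer (Subgroup.zpowers sdX : Set _) := by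
    rw [Subgroup.zpowers_le, Subgroup.mem_normalizer_iff_conj_image_eq]
    refine Set.eq_of_subset_of_ncard_le ?_ ?_ (Set.toFinite _)
    · rintro _ ⟨z, hz, rfl⟩
      obtain ⟨i, rfl⟩ := Subgroup.mem_zpowers_iff.mp hz
      have h1 : MulAut.conj sdY (sdX ^ i) = (sdX ^ 3) ^ i := by
        rw [map_zpow, MulAut.conj_apply, hrel]
      show MulAut.conj sdY (sdX ^ i) ∈ (Subgroup.zpowers sdX : Set _)
      rw [h1]
      exact Subgroup.zpow_mem _ (Subgroup.pow_mem _ (Subgroup.mem_zpowers _) _) _
    · rw [Set.ncard_image_of_injective _ (MulAut.conj sdY).injective]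
  have h1 : IsPGroup 2 (Subgroup.zpowers sdX) :=
    IsPGroup.of_card (n := 3) (by rw [Nat.card_zpowers, hx])
  have h2 : IsPGroup 2 (Subgroup.zpowers sdY) :=
    IsPGroup.of_card (n := 1) (by rw [Nat.card_zpowers, hy, pow_one])
  refine ⟨Subgroup.zpowers sdX ⊔ Subgroup.zpowers sdY, h1.to_sup_of_normal_left' h2 hnorm,
    ⟨sdX, Subgroup.mem_sup_left (Subgroup.mem_zpowers _)⟩,
    ⟨sdY, Subgroup.mem_sup_right (Subgroup.mem_zpowers _)⟩, ?_, ?_, ?_⟩
  · rw [Subgroup.orderOf_mk]; exact hx
  · rw [Subgroup.orderOf_mk]; exact hy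
  · exact Subtype.ext hrel

/-- Let q be a prime, V a non-trivial finite vector space over the field with q elements, and G a non-trivial finite p-group (p prime) acting faithfully and linearly on V and transitively on the non-zero vectors. Then either q = 2 and G has prime order p = |V| − 1; or p = 2, V has q elements with q = 2^m + 1 and G is cyclic of order 2^m; or p = 2, q = 3, V has 9 elements and G is cyclic of order 8, quaternion of order 8, or semidihedral of order 16. -/
theorem result (q : ℕ) [Fact q.Prime] {V : Type*} [AddCommGroup V] [Module (ZMod q) V] [Finite V] [Nontrivial V]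
    {G : Type*} [Group G] [Finite G] [Nontrivial G] (p : ℕ) [Fact p.Prime] (hG : IsPGroup p G)
    (ρ : G →* (V ≃ₗ[ZMod q] V)) (hρ : Function.Injective ρ)
    (htrans : ∀ v w : V, v ≠ 0 → w ≠ 0 → ∃ g : G, ρ g v = w) :
    (q = 2 ∧ p = Nat.card V - 1 ∧ Nat.card G = p) ∨
    (p = 2 ∧ Nat.card V = q ∧ (∃ m : ℕ, q = 2 ^ m + 1 ∧ Nat.card G = 2 ^ m) ∧ IsCyclic G) ∨
    (p = 2 ∧ q = 3 ∧ Nat.card V = 9 ∧
      ((IsCyclic G ∧ Nat.card G = 8) ∨ Nonempty (G ≃* QuaternionGroup 2) ∨ (Cfsg.IsQuasiDihedral G ∧ Nat.card G = 16))) := by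
  classical
  have hp : p.Prime := Fact.out
  have hq : q.Prime := Fact.out
  let _ : MulAction G V :=
    { smul := fun g v => ρ g v
      one_smul := fun v => by show ρ 1 v = v; rw [map_one]; rfl
      mul_smul := fun a b v => by show ρ (a * b) v = ρ a (ρ b v); rw [map_mul]; rfl }
  have hsmul : ∀ (g : G) (v : V), g • v = ρ g v := fun _ _ => rfl
  obtain ⟨n, hn⟩ : ∃ n, n = Module.finrank (ZMod q) V := ⟨_, rfl⟩
  have hV : Nat.card V = q ^ n := by
    rw [Module.natCard_eq_pow_finrank (K := ZMod q), Nat.card_zmod, hn]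
  have hn1 : 1 ≤ n := hn ▸ Module.finrank_pos
  obtain ⟨v₀, hv₀⟩ := exists_ne (0 : V)
  have horb : MulAction.orbit G v₀ = {v : V | v ≠ 0} := by
    ext v
    constructor
    · rintro ⟨g, rfl⟩ h0
      exact hv₀ ((ρ g).map_eq_zero_iff.mp h0)
    · exact fun hv => htrans v₀ v hv₀ hv
  have hcardorb : Nat.card (MulAction.orbit G v₀) = q ^ n - 1 := by
    rw [horb, Nat.card_coe_set_eq, ← hV, show {v : V | v ≠ 0} = ({0} : Set V)ᶜ from rfl,
      Set.ncard_compl, Set.ncard_singleton]
  obtain ⟨N, hN⟩ := IsPGroup.iff_card.mp hG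
  have hidx : Nat.card (MulAction.orbit G v₀) * Nat.card (MulAction.stabilizer G v₀) = Nat.card G := by
    rw [Nat.card_congr (MulAction.orbitEquivQuotientStabilizer G v₀), ← Subgroup.index_eq_card,
      Subgroup.index_mul_card]
  obtain ⟨k, -, hk⟩ := (Nat.dvd_prime_pow hp).mp (hN ▸ Dvd.intro _ hidx)
  rw [hcardorb] at hk hidx
  have hqn : q ^ n = p ^ k + 1 := by
    have := Nat.one_le_pow n q hq.pos; omega
  -- `k ≠ 0`
  have hk1 : 1 ≤ k := by
    by_contra hk0
    have hk0' : k = 0 := by omega
    subst hk0'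
    rw [pow_zero] at hqn
    have huniq : ∀ v : V, v ≠ 0 → v = v₀ := by
      intro v hv
      by_contra hne
      have h3 : ({0, v₀, v} : Set V).ncard ≤ Nat.card V := Set.ncard_le_card _
      rw [Set.ncard_eq_three.mpr ⟨0, v₀, v, fun e => hv₀ e.symm, fun e => hv e.symm,
        fun e => hne e.symm, rfl⟩, hV, hqn] at h3
      omega
    obtain ⟨g, hg⟩ := exists_ne (1 : G)
    apply hg
    apply hρ
    rw [map_one]
    ext v
    by_cases hv : v = 0
    · simp [hv]
    · show ρ g v = v
      rw [huniq v hv]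
      exact huniq _ fun h0 => hv₀ ((ρ g).map_eq_zero_iff.mp h0)
  rcases pow_eq_prime_pow_add_one hq hp hn1 hk1 hqn with ⟨hq2, hk'⟩ | ⟨hp2, hq2, hn'⟩ | ⟨hp2, hq3, hn'⟩
  · -- characteristic two
    subst hk'
    rw [pow_one] at hqn hk
    refine Or.inl ⟨hq2, by rw [hV]; omega, ?_⟩
    have hstab : MulAction.stabilizer G v₀ = ⊥ := by
      have hS : (MulAction.stabilizer G v₀).Normal := by
        apply Subgroup.normal_of_index_eq_minFac_card
        rw [Subgroup.index_eq_card,
          Nat.card_congr (MulAction.orbitEquivQuotientStabilizer G v₀).symm, hcardorb, hk]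
        refine (hN ▸ ?_ : (Nat.card G).minFac = p).symm
        have hN0 : N ≠ 0 := by
          rintro rfl
          have := Finite.one_lt_card (α := G)
          rw [hN, pow_zero] at this
          omega
        exact Nat.Prime.pow_minFac hp hN0
      rw [Subgroup.eq_bot_iff_forall]
      intro s hs
      apply hρ
      rw [map_one]
      ext v
      by_cases hv : v = 0
      · simp [hv]
      · obtain ⟨g, hg⟩ := htrans v₀ v hv₀ hv
        show ρ s v = v
        have h1 : g⁻¹ * s * g ∈ MulAction.stabilizer G v₀ := by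
          simpa using hS.conj_mem s hs g⁻¹
        rw [MulAction.mem_stabilizer_iff, mul_smul, mul_smul, inv_smul_eq_iff, hsmul g, hg] at h1
        exact h1
    rw [hstab, Subgroup.card_bot, mul_one, hk] at hidx
    exact hidx.symm
  · -- a line
    subst hp2
    subst hn'
    rw [pow_one] at hqn hV
    refine Or.inr (Or.inl ⟨rfl, hV, ?_⟩)
    have hone : Module.finrank (ZMod q) V = 1 := hn.symm
    have hsc : ∀ g : G, ∃ c : ZMod q, ∀ v : V, ρ g v = c • v := fun g => by
      obtain ⟨c, hc⟩ := (finrank_eq_one_iff_of_nonzero' v₀ hv₀).mp hone (ρ g v₀)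
      refine ⟨c, fun v => ?_⟩
      obtain ⟨d, rfl⟩ := (finrank_eq_one_iff_of_nonzero' v₀ hv₀).mp hone v
      rw [map_smul, ← hc, smul_comm]
    choose c hc using hsc
    let f : G →* (ZMod q) :=
      { toFun := c
        map_one' := by
          have h1 := hc 1 v₀
          rw [map_one] at h1
          exact (smul_left_injective (ZMod q) hv₀ (by simpa using h1)).symm
        map_mul' := fun a b => by
          apply smul_left_injective (ZMod q) hv₀
          show c (a * b) • v₀ = (c a * c b) • v₀
          rw [← hc, map_mul, mul_smul, ← hc b, ← hc a]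
          rfl }
    have hf : Function.Injective f := by
      intro a b hab
      apply hρ
      ext v
      rw [hc, hc]
      exact congrArg (· • v) hab
    refine ⟨⟨k, hqn, ?_⟩, isCyclic_of_subgroup_isDomain f hf⟩
    refine Nat.dvd_antisymm ?_ (Dvd.intro _ (hk ▸ hidx))
    have : Nat.card G ∣ Nat.card (ZMod q)ˣ :=
      Subgroup.card_dvd_of_injective f.toHomUnits fun a b hab => hf (congrArg Units.val hab)
    rw [Nat.card_eq_fintype_card (α := (ZMod q)ˣ), ZMod.card_units, hqn] at this
    simpa using this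
  · -- the plane over three elements
    subst hp2
    subst hq3
    subst hn'
    have hV9 : Nat.card V = 9 := by rw [hV]; norm_num
    refine Or.inr (Or.inr ⟨rfl, rfl, hV9, ?_⟩)
    rw [show 3 ^ 2 - 1 = 8 from rfl] at hidx
    let e : (V ≃ₗ[ZMod 3] V) ≃* GL (Fin 2) (ZMod 3) :=
      (LinearMap.GeneralLinearGroup.generalLinearEquiv (ZMod 3) V).symm.trans
        (Units.mapEquiv (LinearMap.toMatrixAlgEquiv
          (Module.finBasisOfFinrankEq (ZMod 3) V hn.symm)).toMulEquiv)
    let r : G →* GL (Fin 2) (ZMod 3) := e.toMonoidHom.comp ρ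
    have hr : Function.Injective r := e.injective.comp hρ
    have hGL : Nat.card (GL (Fin 2) (ZMod 3)) = 2 ^ 4 * 3 := by
      rw [Matrix.card_GL_field, Fin.prod_univ_two, ZMod.card]; rfl
    have hd : Nat.card G ∣ 2 ^ 4 * 3 := hGL ▸ Subgroup.card_dvd_of_injective r hr
    rw [hN] at hd
    have hd' : 2 ^ N ∣ 2 ^ 4 :=
      (Nat.Coprime.pow_left N (by decide : Nat.Coprime 2 3)).dvd_of_dvd_mul_right hd
    have hN4 : N ≤ 4 := (Nat.pow_dvd_pow_iff_le_right one_lt_two).mp hd'
    have hN3 : 3 ≤ N := by
      have h1 : 2 ^ 3 ∣ 2 ^ N := by rw [← hN, ← hidx]; exact dvd_mul_right _ _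
      exact (Nat.pow_dvd_pow_iff_le_right one_lt_two).mp h1
    rcases (show N = 3 ∨ N = 4 by omega) with rfl | rfl
    · -- regular, so a unique involution
      have hstab : Nat.card (MulAction.stabilizer G v₀) = 1 :=
        Nat.eq_of_mul_eq_mul_left (by norm_num : 0 < 8) (by rw [hidx, hN]; norm_num)
      have hinv : ∀ a : G, orderOf a = 2 → ∀ v : V, ρ a v = -v := by
        intro a ha v
        have haa : ∀ w, ρ a (ρ a w) = w := by
          intro w
          have := congrArg (fun g => ρ g w) (show a * a = 1 by rw [← sq, ← ha, pow_orderOf_eq_one])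
          simpa using this
        have hfix : ∀ w, ρ a w = w → w = 0 := by
          intro w hw
          by_contra hw0
          obtain ⟨g, hg⟩ := htrans v₀ w hv₀ hw0
          have h1 : g⁻¹ * a * g ∈ MulAction.stabilizer G v₀ := by
            rw [MulAction.mem_stabilizer_iff, mul_smul, mul_smul, inv_smul_eq_iff, hsmul g, hg]
            exact hw
          rw [Subgroup.eq_bot_of_card_eq _ hstab, Subgroup.mem_bot] at h1
          have h2 : a = 1 := by
            calc a = g * (g⁻¹ * a * g) * g⁻¹ := by group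
              _ = 1 := by rw [h1]; group
          rw [h2, orderOf_one] at ha
          omega
        have := hfix (v + ρ a v) (by rw [map_add, haa, add_comm])
        exact eq_neg_of_add_eq_zero_right this
      rcases Cfsg.Agent.Lib.Frobenius.isCyclic_or_quaternion_of_unique hG (fun a b ha hb => by
        have : a = b := hρ (by ext v; rw [hinv a ha, hinv b hb])
        rw [this]; exact Subgroup.mem_zpowers b) with hcy | ⟨-, m, ⟨em⟩⟩
      · exact Or.inl ⟨hcy, by rw [hN]; rfl⟩
      · refine Or.inr (Or.inl ?_)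
        have h1 := Nat.card_congr em.toEquiv
        rw [hN, Nat.card_eq_fintype_card (α := QuaternionGroup _), QuaternionGroup.card] at h1
        have hm : m = 0 := by
          have h2 : 2 ^ (m + 1) = 2 ^ 1 := by norm_num at h1 ⊢; omega
          have := Nat.pow_right_injective le_rfl h2
          omega
        subst hm
        exact ⟨em⟩
    · -- a Sylow subgroup
      refine Or.inr (Or.inr ⟨⟨3, le_rfl, hN, ?_⟩, by rw [hN]; rfl⟩)
      obtain ⟨H, hH, x, y, hx, hy, hxy⟩ := exists_quasiDihedral_GL
      obtain ⟨Q, hQ⟩ := hH.exists_le_sylow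
      have hcr : Nat.card r.range = 2 ^ 4 := by
        rw [← hN]; exact Nat.card_congr (MonoidHom.ofInjective hr).toEquiv.symm
      let P : Sylow 2 (GL (Fin 2) (ZMod 3)) := Sylow.ofCard r.range (by
        rw [hcr, hGL, Nat.factorization_mul (by norm_num) (by norm_num),
          Nat.Prime.factorization_pow Nat.prime_two, Nat.Prime.factorization Nat.prime_three]
        simp)
      let φ : H →* G :=
        ((MonoidHom.ofInjective hr).symm.toMonoidHom.comp
          (MulEquiv.subgroupCongr (show (P : Subgroup _) = r.range from Sylow.coe_ofCard _ _)).toMonoidHom).comp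
          ((Q.equiv P).toMonoidHom.comp (Subgroup.inclusion hQ))
      have hφ : Function.Injective φ := by
        intro a b hab
        apply Subgroup.inclusion_injective hQ
        exact (Q.equiv P).injective ((MulEquiv.subgroupCongr _).injective
          ((MonoidHom.ofInjective hr).symm.injective hab))
      refine ⟨φ x, φ y, ?_, ?_, ?_⟩
      · rw [orderOf_injective φ hφ, hx]
      · rw [orderOf_injective φ hφ, hy]
      · rw [← map_inv, ← map_mul, ← map_mul, hxy, map_pow]

end Cfsg.Agent.S3370
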