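import Cfsg.Statements.S3375

set_option autoImplicit false
set_option linter.style.haveILetI false
open Cfsg

namespace Cfsg.Agent.S3375

/-- Let γ be an automorphism of order 2 of a finite group H. (i) If γ fixes only the identity, then H is abelian and γ inverts every element. (ii) If γ has exactly two fixed points and H has a subgroup of index 2, then H has a γ-invariant abelian subgroup of index 2 on which γ acts by inversion. -/
theorem result {H : Type*} [Group H] [Finite H] (γ : MulAut H) (hγ : orderOf γ = 2) :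
    ((∀ h : H, γ h = h → h = 1) → (∀ a b : H, a * b = b * a) ∧ ∀ h : H, γ h = h⁻¹) ∧
    ((Nat.card {h : H // γ h = h} = 2 ∧ ∃ M : Subgroup H, M.index = 2) →
      ∃ A : Subgroup H, A.index = 2 ∧ IsMulCommutative A ∧ (∀ a ∈ A, γ a ∈ A) ∧ ∀ a ∈ A, γ a = a⁻¹) := by
  classical
  have hinv : ∀ h, γ (γ h) = h := by
    intro h
    have := DFunLike.congr_fun (show γ ^ 2 = 1 by rw [← hγ]; exact pow_orderOf_eq_one γ) h
    rwa [sq, MulAut.mul_apply, MulAut.one_apply] at this
  refine ⟨fun hf => ?_, ?_⟩
  · have hF : MonoidHom.FixedPointFree (γ : H → H) := fun g hg => hf g hg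
    exact ⟨fun a b => MonoidHom.FixedPointFree.commute_all_of_involutive (φ := γ) hF hinv a b,
      fun h => congrFun (MonoidHom.FixedPointFree.coe_eq_inv_of_involutive (φ := γ) hF hinv) h⟩
  · rintro ⟨h2, M, hM⟩
    obtain ⟨A, hA, hAi⟩ : ∃ A : Subgroup H, A.index = 2 ∧ ∀ a, (γ a ∈ A ↔ a ∈ A) := by
      by_cases hMi : ∀ a, (γ a ∈ M ↔ a ∈ M)
      · exact ⟨M, hM, hMi⟩
      push_neg at hMi
      obtain ⟨a, ha⟩ := hMi
      have hp : ∀ x y : H, x * y ∈ M ↔ (x ∈ M ↔ y ∈ M) := fun x y => Subgroup.mul_mem_iff_of_index_two hM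
      refine ⟨⟨⟨⟨{x | x ∈ M ↔ γ x ∈ M}, ?_⟩, ?_⟩, ?_⟩, ?_, ?_⟩
      · intro x y hx hy
        simp only [Set.mem_ofPred_eq, map_mul, hp] at hx hy ⊢
        rw [hx, hy]
      · simp
      · intro x hx
        simp only [Set.mem_ofPred_eq, map_inv, inv_mem_iff] at hx ⊢
        exact hx
      · rw [Subgroup.index_eq_two_iff]
        refine ⟨a, fun b => ?_⟩
        simp only [Subgroup.mem_mk, Submonoid.mem_mk, Subsemigroup.mem_mk, Set.mem_ofPred_eq, map_mul, hp, Xor']
        tauto
      · intro x
        simp only [Subgroup.mem_mk, Submonoid.mem_mk, Subsemigroup.mem_mk, Set.mem_ofPred_eq, hinv]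
        exact iff_comm
    haveI := Fintype.ofFinite H
    -- fibres of x ↦ x⁻¹ γ x
    set f : H → H := fun x => x⁻¹ * γ x with hf
    have hfA : ∀ x, f x ∈ A := by
      intro x
      rw [hf, Subgroup.mul_mem_iff_of_index_two hA, inv_mem_iff, hAi]
    have hfinv : ∀ x, γ (f x) = (f x)⁻¹ := by
      intro x; simp [hf, hinv]
    have hfib : ∀ x, (Finset.univ.filter fun y => f y = f x).card = 2 := by
      intro x
      rw [← h2, Nat.card_eq_fintype_card, Fintype.card_subtype]
      refine Finset.card_bij (fun y _ => y * x⁻¹) ?_ ?_ ?_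
      · intro y hy
        simp only [Finset.mem_filter, Finset.mem_univ, true_and, hf] at hy ⊢
        rw [map_mul, map_inv, show γ y = y * x⁻¹ * γ x by rw [mul_assoc, ← hy]; group]
        group
      · intro a _ b _ hab; exact mul_right_cancel hab
      · intro c hc
        refine ⟨c * x, ?_, by group⟩
        simp only [Finset.mem_filter, Finset.mem_univ, true_and, hf] at hc ⊢
        rw [map_mul, hc]; group
    have hcard : (Finset.univ.image f).card * 2 = Fintype.card H := by
      rw [Finset.card_eq_sum_card_image f (Finset.univ : Finset H) |> fun e => (Finset.card_univ (α := H)).symm.trans e]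
      rw [Finset.sum_congr rfl (fun b hb => ?_), Finset.sum_const, smul_eq_mul]
      obtain ⟨x, -, rfl⟩ := Finset.mem_image.1 hb
      exact hfib x
    have hAcard : (Finset.univ.filter (· ∈ A)).card * 2 = Fintype.card H := by
      have := A.card_mul_index
      rwa [hA, Nat.card_eq_fintype_card, Nat.card_eq_fintype_card, Fintype.card_subtype] at this
    have heq : Finset.univ.image f = Finset.univ.filter (· ∈ A) := by
      refine Finset.eq_of_subset_of_card_le (fun y hy => ?_) (by omega)
      obtain ⟨x, -, rfl⟩ := Finset.mem_image.1 hy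
      exact Finset.mem_filter.2 ⟨Finset.mem_univ _, hfA x⟩
    have hall : ∀ a ∈ A, γ a = a⁻¹ := by
      intro a ha
      obtain ⟨x, -, rfl⟩ := Finset.mem_image.1 (heq ▸ Finset.mem_filter.2 ⟨Finset.mem_univ a, ha⟩ : a ∈ Finset.univ.image f)
      exact hfinv x
    refine ⟨A, hA, ⟨⟨fun a b => Subtype.ext ?_⟩⟩, fun a ha => (hAi a).2 ha, hall⟩
    have := hall _ (mul_mem a.2 b.2)
    rw [map_mul, hall _ a.2, hall _ b.2, mul_inv_rev] at this
    calc (a : H) * b = ((b : H)⁻¹ * (a : H)⁻¹)⁻¹ := by group
      _ = ((a : H)⁻¹ * (b : H)⁻¹)⁻¹ := by rw [this]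
      _ = b * a := by group


end Cfsg.Agent.S3375
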